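import Mathlib
import Groth.Prelude
import Groth.Agent.Lib.AbFilt3_helper6

/-!
# Existence of Harder–Narasimhan filtrations in an abelian category with a polynomial stability
theory (helper6)

`consSeries`: a filtration of a quotient `E / F` pulled back to `E`, with `⊥` prepended, and the
identification of its factors.  `exists_HN`: existence of the Harder–Narasimhan filtration.
APPEND-ONLY once landed.
-/

set_option autoImplicit false
set_option linter.all false
set_option maxHeartbeats 1600000

universe u v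
open CategoryTheory CategoryTheory.Limits Polynomial StabCat

namespace Groth.Agent.Lib.AbFilt

open Groth.Agent.Lib.PolyOrd

variable {C : Type u} [Category.{v} C] [Abelian C]

/-- transport of the cokernel of `ofLE` along equalities of subobjects. -/
noncomputable def cokernelOfLEIsoOfEq {E : C} {A A' B B' : Subobject E} (hA : A = A')
    (hB : B = B') (h : A ≤ B) (h' : A' ≤ B') :
    cokernel (Subobject.ofLE A B h) ≅ cokernel (Subobject.ofLE A' B' h') := by
  subst hA; subst hB; exact Iso.refl _

/-- a factor whose lower term is `⊥`. -/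
noncomputable def cokernelOfLEBotIso {E : C} {A B : Subobject E} (hA : A = ⊥) (h : A ≤ B) :
    cokernel (Subobject.ofLE A B h) ≅ (B : C) :=
  cokernelIsoOfIsZero _ ((eq_bot_iff_isZero A).mp hA)

section Cons

variable {E : C} (F : Subobject E)

/-- the preimage in `E` of a subobject of `E / F`. -/
noncomputable def preQ (T : Subobject (cokernel F.arrow)) : Subobject E :=
  (Subobject.pullback (cokernel.π F.arrow)).obj T

theorem preQ_bot : preQ F ⊥ = F := pre_bot F
theorem preQ_top : preQ F ⊤ = ⊤ := pre_top _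
theorem preQ_strictMono : StrictMono (preQ F) := pre_strictMono _
theorem le_preQ (T : Subobject (cokernel F.arrow)) : F ≤ preQ F T :=
  le_of_eq_of_le (preQ_bot F).symm ((preQ_strictMono F).monotone bot_le)

/-- the filtration of `E` obtained from a filtration of `E / F` by pulling back and prepending
`⊥`. -/
noncomputable def consSeries (hF0 : F ≠ ⊥) (t : LTSeries (Subobject (cokernel F.arrow)))
    (ht0 : t.head = ⊥) : LTSeries (Subobject E) where
  length := t.length + 1
  toFun := Fin.cons ⊥ (fun j => preQ F (t j))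
  step := by
    intro i
    refine Fin.cases ?_ (fun j => ?_) i
    · have h1 : (Fin.cons ⊥ (fun j => preQ F (t j)) : Fin (t.length + 1 + 1) → Subobject E)
          (Fin.castSucc 0) = ⊥ := by
        rw [Fin.castSucc_zero, Fin.cons_zero]
      have h2 : (Fin.cons ⊥ (fun j => preQ F (t j)) : Fin (t.length + 1 + 1) → Subobject E)
          (Fin.succ 0) = F := by
        rw [Fin.cons_succ]
        have : t 0 = ⊥ := ht0
        rw [this, preQ_bot]
      show (Fin.cons ⊥ (fun j => preQ F (t j)) : Fin (t.length + 1 + 1) → Subobject E)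
          (Fin.castSucc 0) < (Fin.cons ⊥ (fun j => preQ F (t j)) :
            Fin (t.length + 1 + 1) → Subobject E) (Fin.succ 0)
      rw [h1, h2]
      exact bot_lt_iff_ne_bot.mpr hF0
    · show (Fin.cons ⊥ (fun j => preQ F (t j)) : Fin (t.length + 1 + 1) → Subobject E)
          (Fin.castSucc j.succ) < (Fin.cons ⊥ (fun j => preQ F (t j)) :
            Fin (t.length + 1 + 1) → Subobject E) (Fin.succ j.succ)
      rw [← Fin.succ_castSucc, Fin.cons_succ, Fin.cons_succ]
      exact preQ_strictMono F (t.step j)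

variable (hF0 : F ≠ ⊥) (t : LTSeries (Subobject (cokernel F.arrow))) (ht0 : t.head = ⊥)

theorem consSeries_length : (consSeries F hF0 t ht0).length = t.length + 1 := rfl

theorem consSeries_apply_zero (x : Fin ((consSeries F hF0 t ht0).length + 1)) (hx : x.val = 0) :
    (consSeries F hF0 t ht0) x = ⊥ := by
  obtain rfl : x = (0 : Fin (t.length + 1 + 1)) := Fin.ext hx
  rfl

theorem consSeries_apply_succ (x : Fin ((consSeries F hF0 t ht0).length + 1))
    (j : Fin (t.length + 1)) (hx : x.val = j.val + 1) :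
    (consSeries F hF0 t ht0) x = preQ F (t j) := by
  obtain rfl : x = (j.succ : Fin (t.length + 1 + 1)) := Fin.ext hx
  rfl

theorem consSeries_head : (consSeries F hF0 t ht0).head = ⊥ := rfl

theorem consSeries_last (ht1 : t.last = ⊤) : (consSeries F hF0 t ht0).last = ⊤ := by
  have h1 : (consSeries F hF0 t ht0).last = preQ F (t (Fin.last t.length)) :=
    consSeries_apply_succ F hF0 t ht0 _ (Fin.last t.length) rfl
  have : t (Fin.last t.length) = ⊤ := ht1
  rw [h1, this, preQ_top]

/-- the first factor of `consSeries` is `F`. -/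
noncomputable def consSeriesFactorZero (i : Fin (consSeries F hF0 t ht0).length)
    (hi : i.val = 0) : StabCat.factor (consSeries F hF0 t ht0) i ≅ (F : C) := by
  unfold StabCat.factor
  refine cokernelOfLEBotIso (consSeries_apply_zero F hF0 t ht0 _ hi) _ ≪≫
    Subobject.isoOfEq _ _ ?_
  rw [consSeries_apply_succ F hF0 t ht0 i.succ 0 (by simp [hi])]
  have : t 0 = ⊥ := ht0
  rw [this, preQ_bot]

/-- the later factors of `consSeries` are the factors of `t`. -/
noncomputable def consSeriesFactorSucc (i : Fin (consSeries F hF0 t ht0).length)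
    (j : Fin t.length) (hij : i.val = j.val + 1) :
    StabCat.factor (consSeries F hF0 t ht0) i ≅ StabCat.factor t j := by
  unfold StabCat.factor
  exact cokernelOfLEIsoOfEq (A' := preQ F (t j.castSucc)) (B' := preQ F (t j.succ))
    (consSeries_apply_succ F hF0 t ht0 i.castSucc j.castSucc (by simp [hij]))
    (consSeries_apply_succ F hF0 t ht0 i.succ j.succ (by simp [hij])) _
    ((preQ_strictMono F).monotone (le_of_lt (t.step j))) ≪≫
      preFactorIso (cokernel.π F.arrow) (le_of_lt (t.step j))

end Cons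

/-! ### semistability predicates -/

/-- semistable objects of the abstract theory. -/
def SSp (ok : C → Prop) (HP : C → ℚ[X] → Prop) (Pure : C → Prop) (d : ℕ) (A : C) : Prop :=
  ok A ∧ ¬ IsZero A ∧ Pure A ∧ IsSS ok HP d A

/-- stable objects of the abstract theory. -/
def Stp (ok : C → Prop) (HP : C → ℚ[X] → Prop) (Pure : C → Prop) (d : ℕ) (A : C) : Prop :=
  ok A ∧ ¬ IsZero A ∧ Pure A ∧ IsSt ok HP d A

section HN

variable {ok : C → Prop} {HP : C → ℚ[X] → Prop} {Pure D : C → Prop} {d : ℕ}
  (ax : Ax ok HP Pure D d)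

include ax

theorem isSS_iso {A B : C} (e : A ≅ B) (h : IsSS ok HP d A) : IsSS ok HP d B := by
  intro F ι hι hF hF0 hni pF pB hpF hpB
  haveI := hι
  refine h F (ι ≫ e.inv) (mono_comp _ _) hF hF0 ?_ pF pB hpF (ax.hp_iso e.symm hpB)
  intro hiso
  apply hni
  have : ι = (ι ≫ e.inv) ≫ e.hom := by rw [Category.assoc, e.inv_hom_id, Category.comp_id]
  rw [this]
  infer_instance

theorem isSt_iso {A B : C} (e : A ≅ B) (h : IsSt ok HP d A) : IsSt ok HP d B := by
  intro F ι hι hF hF0 hni pF pB hpF hpB
  haveI := hι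
  refine h F (ι ≫ e.inv) (mono_comp _ _) hF hF0 ?_ pF pB hpF (ax.hp_iso e.symm hpB)
  intro hiso
  apply hni
  have : ι = (ι ≫ e.inv) ≫ e.hom := by rw [Category.assoc, e.inv_hom_id, Category.comp_id]
  rw [this]
  infer_instance

theorem SSp_iso {A B : C} (e : A ≅ B) (h : SSp ok HP Pure d A) : SSp ok HP Pure d B :=
  ⟨ax.ok_iso e h.1, fun hz => h.2.1 (IsZero.of_iso hz e), ax.pure_iso e h.2.2.1,
    isSS_iso ax e h.2.2.2⟩

theorem Stp_iso {A B : C} (e : A ≅ B) (h : Stp ok HP Pure d A) : Stp ok HP Pure d B :=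
  ⟨ax.ok_iso e h.1, fun hz => h.2.1 (IsZero.of_iso hz e), ax.pure_iso e h.2.2.1,
    isSt_iso ax e h.2.2.2⟩

theorem pure_sub {A E : C} (ι : A ⟶ E) [Mono ι] (hA : ok A) (hE : ok E) (hne : ¬ IsZero E)
    (hp : Pure E) : Pure A := by
  refine ax.pure_of_pos hA (ax.D_sub ι inferInstance (ax.D_of_pure hE hne hp)) ?_
  intro F κ hκ hF hF0 P hP
  haveI := hκ
  exact ax.pure_pos (κ ≫ ι) hp (mono_comp _ _) hF hF0 hP

variable {E : C} (hE : ok E) (hne : ¬ IsZero E) (hp : Pure E)

include hE hne hp

/-- the maximal destabilising subobject is semistable. -/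
theorem SSp_maxDestab {F : Subobject E} (hF : ok (F : C)) (hF0 : F ≠ ⊥)
    (hmax : ∀ G : Subobject E, ok (G : C) → G ≠ ⊥ →
        RedLE d (hpf HP (G : C)) (hpf HP (F : C)) ∧
          (RedEq d (hpf HP (G : C)) (hpf HP (F : C)) → G ≤ F)) :
    SSp ok HP Pure d (F : C) := by
  refine ⟨hF, fun hz => hF0 ((eq_bot_iff_isZero F).mpr hz),
    pure_sub ax F.arrow hF hE hne hp, ?_⟩
  intro G κ hκ hG hG0 hni pG pF hpG hpF
  haveI := hκ
  have hGs : ok ((Subobject.mk (κ ≫ F.arrow) : Subobject E) : C) :=
    ax.ok_iso (Subobject.underlyingIso _).symm hG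
  have hGs0 : Subobject.mk (κ ≫ F.arrow) ≠ ⊥ := fun h0 =>
    hG0 (IsZero.of_iso ((eq_bot_iff_isZero _).mp h0) (Subobject.underlyingIso _).symm)
  have e1 : hpf HP ((Subobject.mk (κ ≫ F.arrow) : Subobject E) : C) = pG :=
    hpf_eq ax hGs (ax.hp_iso (Subobject.underlyingIso _).symm hpG)
  have e2 : hpf HP (F : C) = pF := hpf_eq ax hF hpF
  have := (hmax _ hGs hGs0).1
  rwa [e1, e2] at this

theorem ok_cokernel_arrow {F : Subobject E} (hF : ok (F : C)) : ok (cokernel F.arrow) :=
  ax.ok_cokernel _ hF hE

theorem ok_preQ {F : Subobject E} (hF : ok (F : C)) {T : Subobject (cokernel F.arrow)}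
    (hT : ok (T : C)) : ok (preQ F T : C) := by
  have hQ := ok_cokernel_arrow ax hE hne hp hF
  have heq : preQ F T = kernelSubobject (cokernel.π F.arrow ≫ cokernel.π T.arrow) := by
    apply le_antisymm
    · apply le_kernelSubobject
      have h1 : T.Factors ((preQ F T).arrow ≫ cokernel.π F.arrow) :=
        (le_pre_iff _ _ _).mp le_rfl
      rw [factors_iff_comp_cokernel, Category.assoc] at h1
      exact h1
    · unfold preQ
      rw [le_pre_iff, factors_iff_comp_cokernel, Category.assoc, kernelSubobject_arrow_comp]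
  have h2 : ok (kernel (cokernel.π F.arrow ≫ cokernel.π T.arrow)) :=
    ax.ok_kernel _ hE (ax.ok_cokernel _ hT hQ)
  exact ax.ok_iso ((kernelSubobjectIso _).symm ≪≫ Subobject.isoOfEq _ _ heq.symm) h2

theorem hpf_preQ {F : Subobject E} (hF : ok (F : C)) {T : Subobject (cokernel F.arrow)}
    (hT : ok (T : C)) : hpf HP (preQ F T : C) = hpf HP (F : C) + hpf HP (T : C) := by
  have hR := ok_preQ ax hE hne hp hF hT
  have hle : preQ F ⊥ ≤ preQ F T := (preQ_strictMono F).monotone bot_le
  have hB : ok (preQ F ⊥ : C) := ax.ok_iso (Subobject.isoOfEq _ _ (preQ_bot F).symm) hF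
  have h1 := hpf_quot ax hle hB hR
  have e1 : hpf HP (preQ F ⊥ : C) = hpf HP (F : C) :=
    hpf_iso ax (Subobject.isoOfEq _ _ (preQ_bot F)) hB
  have e2 : hpf HP (cokernel (Subobject.ofLE (preQ F ⊥) (preQ F T) hle)) = hpf HP (T : C) :=
    hpf_iso ax (preFactorIso (cokernel.π F.arrow) (bot_le : (⊥ : Subobject _) ≤ T) ≪≫
      cokernelOfLEBotIso rfl _) (ok_quot ax hle hB hR)
  rw [h1, e1, e2]

/-- subobjects of the quotient by the maximal destabilising subobject have strictly smaller
reduced polynomial. -/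
theorem redLT_of_quot {F : Subobject E} (hF : ok (F : C)) (hF0 : F ≠ ⊥)
    (hmax : ∀ G : Subobject E, ok (G : C) → G ≠ ⊥ →
        RedLE d (hpf HP (G : C)) (hpf HP (F : C)) ∧
          (RedEq d (hpf HP (G : C)) (hpf HP (F : C)) → G ≤ F))
    {T : Subobject (cokernel F.arrow)} (hT : ok (T : C)) (hT0 : T ≠ ⊥) :
    RedLT d (hpf HP (T : C)) (hpf HP (F : C)) := by
  have hR := ok_preQ ax hE hne hp hF hT
  have hlt : F < preQ F T :=
    lt_of_eq_of_lt (preQ_bot F).symm (preQ_strictMono F (bot_lt_iff_ne_bot.mpr hT0))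
  have hR0 : preQ F T ≠ ⊥ := fun h => by
    rw [h] at hlt; exact absurd hlt not_lt_bot
  obtain ⟨h1, h2⟩ := hmax _ hR hR0
  rcases redLT_or_redEq_of_redLE h1 with h3 | h3
  · exact redLT_of_add_left (hpf_preQ ax hE hne hp hF hT)
      (alpha_pos_sub ax hE hne hp hF hF0) h3
  · exact absurd (h2 h3) (not_le_of_gt hlt)

/-- the quotient by the maximal destabilising subobject is pure. -/
theorem pure_quot {F : Subobject E} (hF : ok (F : C)) (hF0 : F ≠ ⊥)
    (hmax : ∀ G : Subobject E, ok (G : C) → G ≠ ⊥ →
        RedLE d (hpf HP (G : C)) (hpf HP (F : C)) ∧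
          (RedEq d (hpf HP (G : C)) (hpf HP (F : C)) → G ≤ F)) :
    Pure (cokernel F.arrow) := by
  have hQ := ok_cokernel_arrow ax hE hne hp hF
  have hQD : D (cokernel F.arrow) :=
    ax.D_quot (cokernel.π F.arrow) inferInstance hE hQ (ax.D_of_pure hE hne hp)
  refine ax.pure_of_pos hQ hQD ?_
  intro T' ι' hι' hT' hT'0 P hP
  haveI := hι'
  have hT : ok ((Subobject.mk ι' : Subobject (cokernel F.arrow)) : C) :=
    ax.ok_iso (Subobject.underlyingIso _).symm hT'
  have hT0 : Subobject.mk ι' ≠ ⊥ := fun h0 =>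
    hT'0 (IsZero.of_iso ((eq_bot_iff_isZero _).mp h0) (Subobject.underlyingIso _).symm)
  have e1 : hpf HP ((Subobject.mk ι' : Subobject (cokernel F.arrow)) : C) = P :=
    hpf_eq ax hT (ax.hp_iso (Subobject.underlyingIso _).symm hP)
  have hlt := redLT_of_quot ax hE hne hp hF hF0 hmax hT hT0
  rw [e1] at hlt
  have hnn : 0 ≤ alpha d P := ax.alpha_nonneg hT' (ax.D_sub ι' inferInstance hQD) hP
  rcases eq_or_lt_of_le hnn with h0 | h0
  · -- multiplicity zero contradicts the strict inequality
    exfalso
    obtain ⟨N1, hN1⟩ := hlt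
    obtain ⟨N2, hN2⟩ := ax.hp_pos hT' hT'0 hP
    have a1 := hN1 (max N1 N2) (le_max_left _ _)
    have a2 := hN2 (max N1 N2) (le_max_right _ _)
    have aF := alpha_pos_sub ax hE hne hp hF hF0
    simp only [eval_smul, smul_eq_mul, eval_zero, ← h0, zero_mul] at a1 a2
    nlinarith
  · exact h0

end HN

section HNExists

variable {ok : C → Prop} {HP : C → ℚ[X] → Prop} {Pure D : C → Prop} {d : ℕ}
  (ax : Ax ok HP Pure D d)

include ax

theorem bot_eq_top_of_isZero {Q : C} (hz : IsZero Q) : (⊥ : Subobject Q) = ⊤ := by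
  symm
  rw [eq_bot_iff_isZero]
  exact IsZero.of_iso hz (asIso (⊤ : Subobject Q).arrow)

/-- existence of the Harder–Narasimhan filtration, by induction on the multiplicity. -/
theorem exists_HN_aux (n : ℕ) : ∀ (E : C), ok E → ¬ IsZero E → Pure E →
    alpha d (hpf HP E) = (n : ℚ) →
    ∃ s : LTSeries (Subobject E), IsHNWith (SSp ok HP Pure d) HP d E s := by
  induction n using Nat.strong_induction_on with
  | _ n ih =>
    intro E hE hne hp hn
    obtain ⟨F, hF, hF0, hmax⟩ := exists_maxDestabSub ax hE hne hp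
    have hFss := SSp_maxDestab ax hE hne hp hF hF0 hmax
    have hQ := ok_cokernel_arrow ax hE hne hp hF
    have aF := alpha_pos_sub ax hE hne hp hF hF0
    -- a Harder–Narasimhan filtration of the quotient (the trivial one if the quotient vanishes)
    have hex : ∃ t : LTSeries (Subobject (cokernel F.arrow)),
        IsHNWith (SSp ok HP Pure d) HP d (cokernel F.arrow) t := by
      by_cases hQ0 : IsZero (cokernel F.arrow)
      · refine ⟨RelSeries.singleton _ ⊥, rfl, ?_, fun i => i.elim0, fun i => i.elim0⟩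
        exact bot_eq_top_of_isZero ax hQ0
      · have hQp := pure_quot ax hE hne hp hF hF0 hmax
        have hsum : hpf HP E = hpf HP (F : C) + hpf HP (cokernel F.arrow) :=
          hpf_add ax (cokerSC F.arrow) (cokerSC_shortExact _) hF hE hQ
        have hQD : D (cokernel F.arrow) := ax.D_of_pure hQ hQ0 hQp
        obtain ⟨m, hm⟩ := ax.alpha_int hQ hQD (hpf_spec ax hQ)
        have hmpos : 0 < alpha d (hpf HP (cokernel F.arrow)) :=
          ax.pure_pos (𝟙 _) hQp inferInstance hQ hQ0 (hpf_spec ax hQ)
        have hm0 : 0 < m := by rw [hm] at hmpos; exact_mod_cast hmpos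
        have hm' : alpha d (hpf HP (cokernel F.arrow)) = ((m.toNat : ℕ) : ℚ) := by
          rw [hm]
          have : ((m.toNat : ℤ) : ℚ) = (m : ℚ) := by rw [Int.toNat_of_nonneg hm0.le]
          rw [← this]; norm_cast
        have hlt : m.toNat < n := by
          have h1 : alpha d (hpf HP E) = alpha d (hpf HP (F : C)) +
              alpha d (hpf HP (cokernel F.arrow)) := by rw [hsum, alpha_add]
          rw [hn, hm'] at h1
          have h2 : ((m.toNat : ℕ) : ℚ) < (n : ℚ) := by linarith
          exact_mod_cast h2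
        exact ih m.toNat hlt _ hQ hQ0 hQp hm'
    obtain ⟨t, ht0, ht1, htss, htdec⟩ := hex
    refine ⟨consSeries F hF0 t ht0, consSeries_head F hF0 t ht0,
      consSeries_last F hF0 t ht0 ht1, ?_, ?_⟩
    · intro i
      rcases Nat.eq_zero_or_pos i.val with hi | hi
      · exact SSp_iso ax (consSeriesFactorZero F hF0 t ht0 i hi).symm hFss
      · have hlt : i.val - 1 < t.length := by
          have : i.val < t.length + 1 := i.isLt
          omega
        exact SSp_iso ax (consSeriesFactorSucc F hF0 t ht0 i ⟨i.val - 1, hlt⟩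
          (by simp only; omega)).symm (htss _)
    · intro i j hij p q hp' hq'
      have hjlt : j.val - 1 < t.length := by
        have : j.val < t.length + 1 := j.isLt
        omega
      have eq := consSeriesFactorSucc F hF0 t ht0 j ⟨j.val - 1, hjlt⟩ (by simp only; omega)
      rcases Nat.eq_zero_or_pos i.val with hi | hi
      · -- first step: compare `F` with the first factor of `t`
        have ep := consSeriesFactorZero F hF0 t ht0 i hi
        have hp'' : hpf HP (F : C) = p := hpf_eq ax hF (ax.hp_iso ep hp')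
        -- the first factor of `t` is its first nonzero term
        have hj0 : (⟨j.val - 1, hjlt⟩ : Fin t.length).castSucc = 0 := by
          apply Fin.ext
          simp only [Fin.val_castSucc, Fin.val_zero]
          omega
        have hbot : t (⟨j.val - 1, hjlt⟩ : Fin t.length).castSucc = ⊥ := by
          rw [hj0]; exact ht0
        have e2 : StabCat.factor t ⟨j.val - 1, hjlt⟩ ≅
            ((t (⟨j.val - 1, hjlt⟩ : Fin t.length).succ : Subobject _) : C) := by
          unfold StabCat.factor
          exact cokernelOfLEBotIso hbot _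
        have hT : ok ((t (⟨j.val - 1, hjlt⟩ : Fin t.length).succ : Subobject _) : C) :=
          ax.ok_iso e2 (htss _).1
        have hT0 : t (⟨j.val - 1, hjlt⟩ : Fin t.length).succ ≠ ⊥ := by
          intro h
          have hstep : t (⟨j.val - 1, hjlt⟩ : Fin t.length).castSucc <
              t (⟨j.val - 1, hjlt⟩ : Fin t.length).succ := t.step ⟨j.val - 1, hjlt⟩
          rw [h, hbot] at hstep
          exact lt_irrefl _ hstep
        have hq'' : hpf HP ((t (⟨j.val - 1, hjlt⟩ : Fin t.length).succ : Subobject _) : C) = q :=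
          hpf_eq ax hT (ax.hp_iso (eq ≪≫ e2) hq')
        have := redLT_of_quot ax hE hne hp hF hF0 hmax hT hT0
        rwa [hp'', hq''] at this
      · have hilt : i.val - 1 < t.length := by omega
        have ep := consSeriesFactorSucc F hF0 t ht0 i ⟨i.val - 1, hilt⟩ (by simp only; omega)
        exact htdec ⟨i.val - 1, hilt⟩ ⟨j.val - 1, hjlt⟩ (by simp only; omega) p q
          (ax.hp_iso ep hp') (ax.hp_iso eq hq')

/-- existence of the Harder–Narasimhan filtration. -/
theorem exists_HN {E : C} (hE : ok E) (hne : ¬ IsZero E) (hp : Pure E) :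
    ∃ s : LTSeries (Subobject E), IsHNWith (SSp ok HP Pure d) HP d E s := by
  have hD := ax.D_of_pure hE hne hp
  obtain ⟨m, hm⟩ := ax.alpha_int hE hD (hpf_spec ax hE)
  have hmpos : 0 < alpha d (hpf HP E) :=
    ax.pure_pos (𝟙 _) hp inferInstance hE hne (hpf_spec ax hE)
  have hm0 : 0 < m := by rw [hm] at hmpos; exact_mod_cast hmpos
  have hm' : alpha d (hpf HP E) = ((m.toNat : ℕ) : ℚ) := by
    rw [hm]
    have : ((m.toNat : ℤ) : ℚ) = (m : ℚ) := by rw [Int.toNat_of_nonneg hm0.le]
    rw [← this]; norm_cast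
  exact exists_HN_aux ax m.toNat E hE hne hp hm'

end HNExists

end Groth.Agent.Lib.AbFilt
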