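import Mathlib
import Groth.Prelude
import Groth.Agent.Lib.AbFilt5_helper6

/-!
# Existence of Jordan–Hölder filtrations (helper6)

`exists_JH`: a semistable object has a filtration with stable factors of the same reduced
polynomial.
APPEND-ONLY once landed.
-/

set_option autoImplicit false
set_option linter.all false
set_option maxHeartbeats 1600000

universe u v
open CategoryTheory CategoryTheory.Limits Polynomial StabCat

namespace Groth.Agent.Lib.AbFilt

open Groth.Agent.Lib.PolyOrd

variable {C : Type u} [Category.{v} C] [Abelian C]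

section JH

variable {ok : C → Prop} {HP : C → ℚ[X] → Prop} {Pure D : C → Prop} {d : ℕ}
  (ax : Ax ok HP Pure D d)

include ax

/-- nonzero subobjects of a semistable object have smaller or equal reduced polynomial. -/
theorem redLE_sub_of_SSp {E : C} (hE : SSp ok HP Pure d E) {S : Subobject E} (hS : ok (S : C))
    (hS0 : S ≠ ⊥) : RedLE d (hpf HP (S : C)) (hpf HP E) := by
  by_cases hiso : IsIso S.arrow
  · rw [hpf_iso ax (asIso S.arrow) hS]
    exact redLE_refl d _
  · exact hE.2.2.2 _ S.arrow inferInstance hS (fun hz => hS0 ((eq_bot_iff_isZero S).mpr hz)) hiso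
      _ _ (hpf_spec ax hS) (hpf_spec ax hE.1)

theorem exists_JH_aux (n : ℕ) : ∀ (E : C), SSp ok HP Pure d E →
    alpha d (hpf HP E) = (n : ℚ) →
    ∃ s : LTSeries (Subobject E), IsJHWith (Stp ok HP Pure d) HP d E s := by
  classical
  induction n using Nat.strong_induction_on with
  | _ n ih =>
    intro E hEss hn
    have hE := hEss.1
    have hne := hEss.2.1
    have hp := hEss.2.2.1
    have aE := alpha_pos_of_SSp ax hEss
    have hint : ∀ S : Subobject E, ok (S : C) → ∃ m : ℤ, alpha d (hpf HP (S : C)) = m :=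
      fun S hS => ax.alpha_int hS (D_sub' ax hE hne hp S) (hpf_spec ax hS)
    have htop0 : (⊤ : Subobject E) ≠ ⊥ := by
      intro h
      apply hne
      have hz := (eq_bot_iff_isZero (⊤ : Subobject E)).mp h
      exact IsZero.of_iso hz (asIso (⊤ : Subobject E).arrow).symm
    -- subobjects with the reduced polynomial of `E`
    have hex : ∃ m : ℕ, ∃ F : Subobject E, ok (F : C) ∧ F ≠ ⊥ ∧
        RedEq d (hpf HP (F : C)) (hpf HP E) ∧ alpha d (hpf HP (F : C)) = (m : ℚ) := by
      refine ⟨n, ⊤, ok_top ax hE, htop0, ?_, ?_⟩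
      · rw [hpf_iso ax (asIso (⊤ : Subobject E).arrow) (ok_top ax hE)]
        exact redEq_refl d _
      · rw [hpf_iso ax (asIso (⊤ : Subobject E).arrow) (ok_top ax hE)]
        exact hn
    obtain ⟨F, hF, hF0, hFeq, hFn⟩ := Nat.find_spec hex
    have hmin : ∀ F' : Subobject E, ok (F' : C) → F' ≠ ⊥ →
        RedEq d (hpf HP (F' : C)) (hpf HP E) →
        alpha d (hpf HP (F : C)) ≤ alpha d (hpf HP (F' : C)) := by
      intro F' hF' hF'0 hF'eq
      obtain ⟨n', hn'⟩ := hint F' hF'
      have hpos := alpha_pos_sub ax hE hne hp hF' hF'0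
      have hn'pos : 0 < n' := by rw [hn'] at hpos; exact_mod_cast hpos
      have h2 : alpha d (hpf HP (F' : C)) = ((n'.toNat : ℕ) : ℚ) := by
        rw [hn']
        have : ((n'.toNat : ℤ) : ℚ) = (n' : ℚ) := by rw [Int.toNat_of_nonneg hn'pos.le]
        rw [← this]; norm_cast
      have h3 := Nat.find_min' hex ⟨F', hF', hF'0, hF'eq, h2⟩
      rw [hFn, h2]
      exact_mod_cast h3
    have aF := alpha_pos_sub ax hE hne hp hF hF0
    -- `F` is stable
    have hFst : Stp ok HP Pure d (F : C) := by
      refine ⟨hF, fun hz => hF0 ((eq_bot_iff_isZero F).mpr hz),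
        pure_sub ax F.arrow hF hE hne hp, ?_⟩
      intro G κ hκ hG hG0 hni pG pF hpG hpF
      haveI := hκ
      have hSok : ok ((Subobject.mk (κ ≫ F.arrow) : Subobject E) : C) :=
        ax.ok_iso (Subobject.underlyingIso _).symm hG
      have hS0 : Subobject.mk (κ ≫ F.arrow) ≠ ⊥ := fun h0 =>
        hG0 (IsZero.of_iso ((eq_bot_iff_isZero _).mp h0) (Subobject.underlyingIso _).symm)
      have e1 : hpf HP ((Subobject.mk (κ ≫ F.arrow) : Subobject E) : C) = pG :=
        hpf_eq ax hSok (ax.hp_iso (Subobject.underlyingIso _).symm hpG)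
      have e2 : hpf HP (F : C) = pF := hpf_eq ax hF hpF
      have hSF : Subobject.mk (κ ≫ F.arrow) ≤ F := Subobject.mk_le_of_comm κ rfl
      have hSlt : Subobject.mk (κ ≫ F.arrow) < F := by
        refine lt_of_le_of_ne hSF (fun heq => hni ?_)
        -- `κ` is an isomorphism if the subobjects agree
        have hle : F ≤ Subobject.mk (κ ≫ F.arrow) := heq.ge
        have h1 : Subobject.ofLEMk F (κ ≫ F.arrow) hle ≫ κ = 𝟙 _ := by
          rw [← cancel_mono F.arrow, Category.assoc, Subobject.ofLEMk_comp, Category.id_comp]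
        haveI : IsSplitEpi κ := ⟨⟨⟨_, h1⟩⟩⟩
        exact isIso_of_mono_of_isSplitEpi κ
      have aS := alpha_pos_sub ax hE hne hp hSok hS0
      rw [← e1, ← e2]
      by_contra hcon
      have hle1 : RedLE d (hpf HP (F : C)) (hpf HP ((Subobject.mk (κ ≫ F.arrow) : Subobject E) : C)) :=
        not_redLT_iff.mp hcon
      have hle2 := redLE_sub_of_SSp ax hEss hSok hS0
      -- `p(S) = p(E)`
      have hle3 : RedLE d (hpf HP E) (hpf HP ((Subobject.mk (κ ≫ F.arrow) : Subobject E) : C)) :=
        redLE_trans aE.le aF aS.le (redLE_of_redEq' hFeq) hle1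
      have hSeq := redEq_of_redLE_of_redLE hle2 hle3
      have hα1 := hmin _ hSok hS0 hSeq
      have hα2 := alpha_mono ax hE hne hp hSF hSok hF
      have hlt := redLT_of_lt_of_alpha_eq ax hE hne hp hSlt hSok hF hS0 (le_antisymm hα2 hα1)
      exact hcon hlt
    have hQ := ok_cokernel_arrow ax hE hne hp hF
    have hsum : hpf HP E = hpf HP (F : C) + hpf HP (cokernel F.arrow) :=
      hpf_add ax (cokerSC F.arrow) (cokerSC_shortExact _) hF hE hQ
    have hQeq : RedEq d (hpf HP (cokernel F.arrow)) (hpf HP E) := redEq_quot hsum hFeq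
    -- a Jordan–Hölder filtration of the quotient
    have hex2 : ∃ t : LTSeries (Subobject (cokernel F.arrow)),
        IsJHWith (Stp ok HP Pure d) HP d (cokernel F.arrow) t ∧
          (¬ IsZero (cokernel F.arrow) → alpha d (hpf HP (cokernel F.arrow)) ≠ 0) := by
      by_cases hQ0 : IsZero (cokernel F.arrow)
      · refine ⟨RelSeries.singleton _ ⊥, ⟨rfl, ?_, fun i => i.elim0⟩, fun h => absurd hQ0 h⟩
        exact bot_eq_top_of_isZero ax hQ0
      · have hQD : D (cokernel F.arrow) :=
          ax.D_quot (cokernel.π F.arrow) inferInstance hE hQ (ax.D_of_pure hE hne hp)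
        have hQnn : 0 ≤ alpha d (hpf HP (cokernel F.arrow)) :=
          ax.alpha_nonneg hQ hQD (hpf_spec ax hQ)
        have aQ : 0 < alpha d (hpf HP (cokernel F.arrow)) := by
          rcases eq_or_lt_of_le hQnn with h0 | h0
          · exfalso
            apply hQ0
            apply isZero_of_hpf_eq_zero ax hQ
            unfold RedEq at hQeq
            rw [← h0, zero_smul] at hQeq
            exact (smul_eq_zero.mp hQeq).resolve_left aE.ne'
          · exact h0
        -- preimages of subobjects of the quotient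
        have hpre : ∀ T : Subobject (cokernel F.arrow), ok (T : C) → T ≠ ⊥ →
            RedLE d (hpf HP (preQ F T : C)) (hpf HP (F : C)) := by
          intro T hT hT0
          have hR := ok_preQ ax hE hne hp hF hT
          have hR0 : preQ F T ≠ ⊥ := fun h => hF0 (le_bot_iff.mp (h ▸ le_preQ F T))
          have aR := alpha_pos_sub ax hE hne hp hR hR0
          exact redLE_trans aR.le aE aF.le (redLE_sub_of_SSp ax hEss hR hR0)
            (redLE_of_redEq' hFeq)
        have hposT : ∀ T : Subobject (cokernel F.arrow), ok (T : C) → T ≠ ⊥ →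
            0 < alpha d (hpf HP (T : C)) := by
          intro T hT hT0
          have hTD : D (T : C) := ax.D_sub T.arrow inferInstance hQD
          have hnn := ax.alpha_nonneg hT hTD (hpf_spec ax hT)
          rcases eq_or_lt_of_le hnn with h0 | h0
          · exfalso
            have hR := ok_preQ ax hE hne hp hF hT
            have hlt : F < preQ F T :=
              lt_of_eq_of_lt (preQ_bot F).symm (preQ_strictMono F (bot_lt_iff_ne_bot.mpr hT0))
            have hα : alpha d (hpf HP (F : C)) = alpha d (hpf HP (preQ F T : C)) := by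
              rw [hpf_preQ ax hE hne hp hF hT, alpha_add, ← h0, add_zero]
            exact not_redLT_of_redLE (hpre T hT hT0)
              (redLT_of_lt_of_alpha_eq ax hE hne hp hlt hF hR hF0 hα)
          · exact h0
        have hQp : Pure (cokernel F.arrow) := by
          refine ax.pure_of_pos hQ hQD ?_
          intro T' ι' hι' hT' hT'0 P hP
          haveI := hι'
          have hT : ok ((Subobject.mk ι' : Subobject (cokernel F.arrow)) : C) :=
            ax.ok_iso (Subobject.underlyingIso _).symm hT'
          have hT0 : Subobject.mk ι' ≠ ⊥ := fun h0 =>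
            hT'0 (IsZero.of_iso ((eq_bot_iff_isZero _).mp h0) (Subobject.underlyingIso _).symm)
          have e1 : hpf HP ((Subobject.mk ι' : Subobject (cokernel F.arrow)) : C) = P :=
            hpf_eq ax hT (ax.hp_iso (Subobject.underlyingIso _).symm hP)
          rw [← e1]
          exact hposT _ hT hT0
        have hQss : SSp ok HP Pure d (cokernel F.arrow) := by
          refine ⟨hQ, hQ0, hQp, ?_⟩
          intro T' ι' hι' hT' hT'0 hni pT pQ hpT hpQ
          haveI := hι'
          have hT : ok ((Subobject.mk ι' : Subobject (cokernel F.arrow)) : C) :=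
            ax.ok_iso (Subobject.underlyingIso _).symm hT'
          have hT0 : Subobject.mk ι' ≠ ⊥ := fun h0 =>
            hT'0 (IsZero.of_iso ((eq_bot_iff_isZero _).mp h0) (Subobject.underlyingIso _).symm)
          have e1 : hpf HP ((Subobject.mk ι' : Subobject (cokernel F.arrow)) : C) = pT :=
            hpf_eq ax hT (ax.hp_iso (Subobject.underlyingIso _).symm hpT)
          have e2 : hpf HP (cokernel F.arrow) = pQ := hpf_eq ax hQ hpQ
          rw [← e1, ← e2]
          have aT := hposT _ hT hT0
          have h1 : RedLE d (hpf HP ((Subobject.mk ι' : Subobject (cokernel F.arrow)) : C))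
              (hpf HP (F : C)) :=
            redLE_of_add_left (hpf_preQ ax hE hne hp hF hT) (hpre _ hT hT0)
          have h2 : RedLE d (hpf HP (F : C)) (hpf HP (cokernel F.arrow)) :=
            redLE_trans aF.le aE aQ.le (redLE_of_redEq hFeq) (redLE_of_redEq' hQeq)
          exact redLE_trans aT.le aF aQ.le h1 h2
        obtain ⟨m, hm⟩ := ax.alpha_int hQ hQD (hpf_spec ax hQ)
        have hm0 : 0 < m := by rw [hm] at aQ; exact_mod_cast aQ
        have hm' : alpha d (hpf HP (cokernel F.arrow)) = ((m.toNat : ℕ) : ℚ) := by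
          rw [hm]
          have : ((m.toNat : ℤ) : ℚ) = (m : ℚ) := by rw [Int.toNat_of_nonneg hm0.le]
          rw [← this]; norm_cast
        have hlt : m.toNat < n := by
          have h1 : alpha d (hpf HP E) = alpha d (hpf HP (F : C)) +
              alpha d (hpf HP (cokernel F.arrow)) := by rw [hsum, alpha_add]
          rw [hn, hm'] at h1
          have h2 : ((m.toNat : ℕ) : ℚ) < (n : ℚ) := by linarith
          exact_mod_cast h2
        obtain ⟨t, ht⟩ := ih m.toNat hlt _ hQss hm'
        exact ⟨t, ht, fun _ => aQ.ne'⟩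
    obtain ⟨t, ⟨ht0, ht1, htf⟩, hQα⟩ := hex2
    refine ⟨consSeries F hF0 t ht0, consSeries_head F hF0 t ht0,
      consSeries_last F hF0 t ht0 ht1, ?_⟩
    intro i
    rcases Nat.eq_zero_or_pos i.val with hi | hi
    · have e := consSeriesFactorZero F hF0 t ht0 i hi
      refine ⟨Stp_iso ax e.symm hFst, fun p q hp' hq' => ?_⟩
      have e1 : hpf HP (F : C) = p := hpf_eq ax hF (ax.hp_iso e hp')
      have e2 : hpf HP E = q := hpf_eq ax hE hq'
      rw [← e1, ← e2]
      exact hFeq
    · have hlt : i.val - 1 < t.length := by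
        have : i.val < t.length + 1 := i.isLt
        omega
      have e := consSeriesFactorSucc F hF0 t ht0 i ⟨i.val - 1, hlt⟩ (by simp only; omega)
      obtain ⟨hst, heq⟩ := htf ⟨i.val - 1, hlt⟩
      refine ⟨Stp_iso ax e.symm hst, fun p q hp' hq' => ?_⟩
      have e2 : hpf HP E = q := hpf_eq ax hE hq'
      have h1 := heq p _ (ax.hp_iso e hp') (hpf_spec ax hQ)
      have hQ0 : ¬ IsZero (cokernel F.arrow) := by
        intro hz
        -- a zero object has only the trivial filtration
        have hbt := bot_eq_top_of_isZero ax hz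
        have hstep : t (⟨i.val - 1, hlt⟩ : Fin t.length).castSucc <
            t (⟨i.val - 1, hlt⟩ : Fin t.length).succ := t.step ⟨i.val - 1, hlt⟩
        have h2 : t (⟨i.val - 1, hlt⟩ : Fin t.length).succ ≤ ⊥ := by rw [hbt]; exact le_top
        exact absurd (lt_of_lt_of_le hstep h2) not_lt_bot
      rw [← e2]
      exact redEq_trans (hQα hQ0) h1 hQeq

/-- existence of Jordan–Hölder filtrations. -/
theorem exists_JH {E : C} (hE : SSp ok HP Pure d E) :
    ∃ s : LTSeries (Subobject E), IsJHWith (Stp ok HP Pure d) HP d E s := by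
  have hD := ax.D_of_pure hE.1 hE.2.1 hE.2.2.1
  obtain ⟨m, hm⟩ := ax.alpha_int hE.1 hD (hpf_spec ax hE.1)
  have hmpos := alpha_pos_of_SSp ax hE
  have hm0 : 0 < m := by rw [hm] at hmpos; exact_mod_cast hmpos
  have hm' : alpha d (hpf HP E) = ((m.toNat : ℕ) : ℚ) := by
    rw [hm]
    have : ((m.toNat : ℤ) : ℚ) = (m : ℚ) := by rw [Int.toNat_of_nonneg hm0.le]
    rw [← this]; norm_cast
  exact exists_JH_aux ax m.toNat E hE hm'

end JH

end Groth.Agent.Lib.AbFilt
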