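import Mathlib
import Groth.Prelude
import Groth.Agent.Lib.AbFilt6_helper6

/-!
# Saturation and the characterisations of (semi)stability by saturated subobjects and quotients
(helper6)

`exists_torsion`: the maximal subobject of multiplicity zero; `exists_saturation`; `tfae_SS`,
`tfae_St`.
APPEND-ONLY once landed.
-/

set_option autoImplicit false
set_option linter.all false
set_option maxHeartbeats 1600000

universe u v
open CategoryTheory CategoryTheory.Limits Polynomial StabCat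

namespace Groth.Agent.Lib.AbFilt

open Groth.Agent.Lib.PolyOrd

variable {C : Type u} [Category.{v} C] [Abelian C]

/-- a factor whose upper term is `⊤`. -/
noncomputable def cokernelOfLETopIso {E : C} (S : Subobject E) {B : Subobject E} (hB : B = ⊤)
    (h : S ≤ B) : cokernel (Subobject.ofLE S B h) ≅ cokernel S.arrow := by
  haveI : IsIso B.arrow := by rw [Subobject.isIso_arrow_iff_eq_top]; exact hB
  exact cokernel.mapIso _ _ (Iso.refl _) (asIso B.arrow)
    (by simp)

/-- third isomorphism theorem for the preimage of a subobject of `E / F`. -/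
noncomputable def cokernelPreQIso {E : C} (F : Subobject E) (T : Subobject (cokernel F.arrow)) :
    cokernel (preQ F T).arrow ≅ cokernel T.arrow :=
  (cokernelOfLETopIso (preQ F T) (preQ_top F) ((preQ_strictMono F).monotone le_top)).symm ≪≫
    preFactorIso (cokernel.π F.arrow) (le_top : T ≤ ⊤) ≪≫ cokernelOfLETopIso T rfl le_top

section Sat

variable {ok : C → Prop} {HP : C → ℚ[X] → Prop} {Pure D : C → Prop} {d : ℕ}
  (ax : Ax ok HP Pure D d)

include ax

theorem ok_preQ' {E : C} (hE : ok E) {F : Subobject E} (hF : ok (F : C))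
    {T : Subobject (cokernel F.arrow)} (hT : ok (T : C)) : ok (preQ F T : C) := by
  have hQ : ok (cokernel F.arrow) := ax.ok_cokernel _ hF hE
  have heq : preQ F T = kernelSubobject (cokernel.π F.arrow ≫ cokernel.π T.arrow) := by
    apply le_antisymm
    · apply le_kernelSubobject
      have h1 : T.Factors ((preQ F T).arrow ≫ cokernel.π F.arrow) :=
        (le_pre_iff _ _ _).mp le_rfl
      rw [factors_iff_comp_cokernel, Category.assoc] at h1
      exact h1
    · unfold preQ
      rw [le_pre_iff, factors_iff_comp_cokernel, Category.assoc, kernelSubobject_arrow_comp]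
  have h2 : ok (kernel (cokernel.π F.arrow ≫ cokernel.π T.arrow)) :=
    ax.ok_kernel _ hE (ax.ok_cokernel _ hT hQ)
  exact ax.ok_iso ((kernelSubobjectIso _).symm ≪≫ Subobject.isoOfEq _ _ heq.symm) h2

theorem hpf_preQ' {E : C} (hE : ok E) {F : Subobject E} (hF : ok (F : C))
    {T : Subobject (cokernel F.arrow)} (hT : ok (T : C)) :
    hpf HP (preQ F T : C) = hpf HP (F : C) + hpf HP (T : C) := by
  have hR := ok_preQ' ax hE hF hT
  have hle : preQ F ⊥ ≤ preQ F T := (preQ_strictMono F).monotone bot_le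
  have hB : ok (preQ F ⊥ : C) := ax.ok_iso (Subobject.isoOfEq _ _ (preQ_bot F).symm) hF
  have h1 := hpf_quot ax hle hB hR
  have e1 : hpf HP (preQ F ⊥ : C) = hpf HP (F : C) :=
    hpf_iso ax (Subobject.isoOfEq _ _ (preQ_bot F)) hB
  have e2 : hpf HP (cokernel (Subobject.ofLE (preQ F ⊥) (preQ F T) hle)) = hpf HP (T : C) :=
    hpf_iso ax (preFactorIso (cokernel.π F.arrow) (bot_le : (⊥ : Subobject _) ≤ T) ≪≫
      cokernelOfLEBotIso rfl _) (ok_quot ax hle hB hR)
  rw [h1, e1, e2]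

/-- the maximal subobject of multiplicity zero. -/
theorem exists_torsion {Q : C} (hQ : ok Q) (hQD : D Q) :
    ∃ T : Subobject Q, ok (T : C) ∧ alpha d (hpf HP (T : C)) = 0 ∧
      ∀ T' : Subobject Q, ok (T' : C) → alpha d (hpf HP (T' : C)) = 0 → T' ≤ T := by
  have hnn : ∀ S : Subobject Q, ok (S : C) → 0 ≤ alpha d (hpf HP (S : C)) := fun S hS =>
    ax.alpha_nonneg hS (ax.D_sub S.arrow inferInstance hQD) (hpf_spec ax hS)
  let 𝒯 : Set {S : Subobject Q // ok (S : C)} := {S | alpha d (hpf HP (S.1 : C)) = 0}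
  have hne : 𝒯.Nonempty := by
    refine ⟨⟨⊥, ok_bot ax hQ⟩, ?_⟩
    show alpha d (hpf HP ((⊥ : Subobject Q) : C)) = 0
    rw [hpf_of_isZero ax (ok_bot ax hQ) ((eq_bot_iff_isZero _).mp rfl), alpha_zero]
  obtain ⟨T, hT, hmax⟩ := (ax.acc Q hQ).has_min 𝒯 hne
  refine ⟨T.1, T.2, hT, fun T' hT' hα => ?_⟩
  have hsup : ok ((T.1 ⊔ T' : Subobject Q) : C) := ok_sup ax hQ T.2 hT'
  have hinf : ok ((T.1 ⊓ T' : Subobject Q) : C) := ok_inf ax hQ T.2 hT'
  have h1 := hpf_inf_sup ax hQ T.2 hT'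
  have hα_sup : alpha d (hpf HP ((T.1 ⊔ T' : Subobject Q) : C)) = 0 := by
    have h2 := congrArg (alpha d) h1
    rw [alpha_add, alpha_add] at h2
    have hT0 : alpha d (hpf HP (T.1 : C)) = 0 := hT
    rw [hT0, hα] at h2
    have a1 := hnn _ hsup
    have a2 := hnn _ hinf
    linarith
  have hnlt := hmax ⟨T.1 ⊔ T', hsup⟩ hα_sup
  have heq : T.1 ⊔ T' = T.1 := by
    by_contra hne'
    exact hnlt (lt_of_le_of_ne le_sup_left (Ne.symm hne'))
  rw [← heq]
  exact le_sup_right

/-- the quotient by the maximal subobject of multiplicity zero is pure. -/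
theorem pure_quot_torsion {Q : C} (hQ : ok Q) (hQD : D Q) {T : Subobject Q} (hT : ok (T : C))
    (hT0 : alpha d (hpf HP (T : C)) = 0)
    (hmax : ∀ T' : Subobject Q, ok (T' : C) → alpha d (hpf HP (T' : C)) = 0 → T' ≤ T) :
    Pure (cokernel T.arrow) := by
  have hQ' : ok (cokernel T.arrow) := ax.ok_cokernel _ hT hQ
  have hQ'D : D (cokernel T.arrow) := ax.D_quot (cokernel.π T.arrow) inferInstance hQ hQ' hQD
  refine ax.pure_of_pos hQ' hQ'D ?_
  intro T'' ι'' hι'' hT'' hT''0 P hP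
  haveI := hι''
  have hT₂ : ok ((Subobject.mk ι'' : Subobject (cokernel T.arrow)) : C) :=
    ax.ok_iso (Subobject.underlyingIso _).symm hT''
  have hT₂0 : Subobject.mk ι'' ≠ ⊥ := fun h0 =>
    hT''0 (IsZero.of_iso ((eq_bot_iff_isZero _).mp h0) (Subobject.underlyingIso _).symm)
  have e1 : hpf HP ((Subobject.mk ι'' : Subobject (cokernel T.arrow)) : C) = P :=
    hpf_eq ax hT₂ (ax.hp_iso (Subobject.underlyingIso _).symm hP)
  have hnn : 0 ≤ alpha d P := ax.alpha_nonneg hT'' (ax.D_sub ι'' inferInstance hQ'D) hP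
  rcases eq_or_lt_of_le hnn with h0 | h0
  · exfalso
    have hR := ok_preQ' ax hQ hT hT₂
    have hαR : alpha d (hpf HP (preQ T (Subobject.mk ι'') : C)) = 0 := by
      rw [hpf_preQ' ax hQ hT hT₂, alpha_add, hT0, e1, ← h0, add_zero]
    have hle := hmax _ hR hαR
    have hlt : T < preQ T (Subobject.mk ι'') :=
      lt_of_eq_of_lt (preQ_bot T).symm (preQ_strictMono T (bot_lt_iff_ne_bot.mpr hT₂0))
    exact absurd hle (not_le_of_gt hlt)
  · exact h0

/-- the saturation of a subobject. -/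
theorem exists_saturation {E : C} (hE : ok E) (hED : D E) {F : Subobject E} (hF : ok (F : C)) :
    ∃ F' : Subobject E, F ≤ F' ∧ ok (F' : C) ∧ Pure (cokernel F'.arrow) ∧
      ∃ R : ℚ[X], hpf HP (F' : C) = hpf HP (F : C) + R ∧ alpha d R = 0 ∧
        (F ≠ F' → PolyLT 0 R) := by
  have hQ : ok (cokernel F.arrow) := ax.ok_cokernel _ hF hE
  have hQD : D (cokernel F.arrow) := ax.D_quot (cokernel.π F.arrow) inferInstance hE hQ hED
  obtain ⟨T, hT, hT0, hmax⟩ := exists_torsion ax hQ hQD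
  refine ⟨preQ F T, le_preQ F T, ok_preQ' ax hE hF hT, ?_, hpf HP (T : C),
    hpf_preQ' ax hE hF hT, hT0, ?_⟩
  · exact ax.pure_iso (cokernelPreQIso F T).symm (pure_quot_torsion ax hQ hQD hT hT0 hmax)
  · intro hne
    apply hpf_pos ax hT
    intro hz
    apply hne
    rw [(eq_bot_iff_isZero T).mpr hz, preQ_bot]

end Sat

section TFAE

variable {ok : C → Prop} {HP : C → ℚ[X] → Prop} {Pure D : C → Prop} {d : ℕ}
  (ax : Ax ok HP Pure D d) {E : C} (hE : ok E) (h0 : ¬ IsZero E) (hp : Pure E)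

include ax hE h0 hp

/-- data of a proper quotient: the kernel sequence. -/
theorem quot_data {G : C} (π : E ⟶ G) [Epi π] (hG : ok G) (hni : ¬ IsIso π) {pE pG : ℚ[X]}
    (hpE : HP E pE) (hpG : HP G pG) (hα : 0 < alpha d pG) :
    ok (kernel π) ∧ ¬ IsZero (kernel π) ∧ ¬ IsIso (kernel.ι π) ∧
      pE = hpf HP (kernel π) + pG := by
  have hK : ok (kernel π) := ax.ok_kernel π hE hG
  refine ⟨hK, ?_, ?_, ?_⟩
  · intro hz
    apply hni
    haveI : Mono π := Preadditive.mono_of_kernel_zero (hz.eq_of_src _ _)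
    exact isIso_of_mono_of_epi π
  · intro hiso
    have hπ0 : π = 0 := by
      rw [← cancel_epi (kernel.ι π), kernel.condition, Limits.comp_zero]
    have hGz : IsZero G := IsZero.of_epi_eq_zero π hπ0
    have : pG = 0 := by
      rw [← hpf_eq ax hG hpG]; exact hpf_of_isZero ax hG hGz
    rw [this, alpha_zero] at hα
    exact lt_irrefl _ hα
  · let S : ShortComplex C := ShortComplex.mk (kernel.ι π) π (kernel.condition π)
    have hS : S.ShortExact :=
      ShortComplex.ShortExact.mk' (S.exact_of_f_is_kernel (kernelIsKernel π))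
        (inferInstanceAs (Mono (kernel.ι π))) (inferInstanceAs (Epi π))
    exact ax.hp_unique hpE (ax.hp_add S hS hK hE hG (hpf_spec ax hK) hpG)

/-- data of a proper subobject: the cokernel sequence. -/
theorem sub_data {F : C} (ι : F ⟶ E) [Mono ι] (hF : ok F) (hF0 : ¬ IsZero F) (hni : ¬ IsIso ι)
    {pF pE : ℚ[X]} (hpF : HP F pF) (hpE : HP E pE) :
    ok (cokernel ι) ∧ ¬ IsZero (cokernel ι) ∧ ¬ IsIso (cokernel.π ι) ∧
      pE = pF + hpf HP (cokernel ι) := by
  have hG : ok (cokernel ι) := ax.ok_cokernel ι hF hE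
  refine ⟨hG, ?_, ?_, ?_⟩
  · intro hz
    apply hni
    haveI : Epi ι := Preadditive.epi_of_isZero_cokernel _ hz
    exact isIso_of_mono_of_epi ι
  · intro hiso
    apply hF0
    have hι0 : ι = 0 := by
      rw [← cancel_mono (cokernel.π ι), cokernel.condition, Limits.zero_comp]
    exact IsZero.of_mono_eq_zero ι hι0
  · exact ax.hp_unique hpE (ax.hp_add (cokerSC ι) (cokerSC_shortExact ι) hF hE hG hpF
      (hpf_spec ax hG))

/-- the comparison of a subobject with its saturation, reduced to the saturated case. -/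
theorem sat_data {F : C} (ι : F ⟶ E) [Mono ι] (hF : ok F) (hF0 : ¬ IsZero F) (hni : ¬ IsIso ι)
    {pF pE : ℚ[X]} (hpF : HP F pF) (hpE : HP E pE) :
    RedLT d pF pE ∨ ∃ F' : Subobject E, ok (F' : C) ∧ F' ≠ ⊥ ∧ F' ≠ ⊤ ∧
      Pure (cokernel F'.arrow) ∧ 0 < alpha d (hpf HP (F' : C)) ∧
        RedLE d pF (hpf HP (F' : C)) := by
  have hED := ax.D_of_pure hE h0 hp
  have hSok : ok ((Subobject.mk ι : Subobject E) : C) :=
    ax.ok_iso (Subobject.underlyingIso ι).symm hF
  have hS0 : Subobject.mk ι ≠ ⊥ := fun h =>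
    hF0 (IsZero.of_iso ((eq_bot_iff_isZero _).mp h) (Subobject.underlyingIso ι).symm)
  have hStop : Subobject.mk ι ≠ ⊤ := by
    intro h
    apply hni
    have h1 : IsIso (Subobject.mk ι).arrow := (Subobject.isIso_arrow_iff_eq_top _).mpr h
    have h2 : ι = (Subobject.underlyingIso ι).inv ≫ (Subobject.mk ι).arrow := by simp
    rw [h2]; infer_instance
  have e1 : hpf HP ((Subobject.mk ι : Subobject E) : C) = pF :=
    hpf_eq ax hSok (ax.hp_iso (Subobject.underlyingIso ι).symm hpF)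
  have e2 : hpf HP E = pE := hpf_eq ax hE hpE
  have aS := alpha_pos_sub ax hE h0 hp hSok hS0
  obtain ⟨F', hle, hF', hF'p, R, hR, hRα, hRpos⟩ := exists_saturation ax hE hED hSok
  have hα : alpha d (hpf HP ((Subobject.mk ι : Subobject E) : C)) = alpha d (hpf HP (F' : C)) := by
    rw [hR, alpha_add, hRα, add_zero]
  have hF'0 : F' ≠ ⊥ := fun h => hS0 (le_bot_iff.mp (h ▸ hle))
  have hcmp : RedLE d (hpf HP ((Subobject.mk ι : Subobject E) : C)) (hpf HP (F' : C)) := by
    by_cases heq : Subobject.mk ι = F'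
    · rw [← heq]; exact redLE_refl d _
    · exact redLE_of_redLT (redLT_of_alpha_eq hR hα aS (hRpos heq))
  by_cases htop : F' = ⊤
  · left
    have h3 : hpf HP (F' : C) = hpf HP E := by
      subst htop
      exact hpf_iso ax (asIso (⊤ : Subobject E).arrow) hF'
    have hne : Subobject.mk ι ≠ F' := fun h => hStop (h.trans htop)
    have := redLT_of_alpha_eq hR hα aS (hRpos hne)
    rwa [h3, e1, e2] at this
  · right
    refine ⟨F', hF', hF'0, htop, hF'p, hα ▸ aS, ?_⟩
    rwa [e1] at hcmp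

theorem tfae_SS :
    [SSp ok HP Pure d E,
      ∀ (F : C) (ι : F ⟶ E), Mono ι → ok F → ¬ IsZero F → ¬ IsIso ι → Pure (cokernel ι) →
        ∀ (pF pE : ℚ[X]), HP F pF → HP E pE → RedLE d pF pE,
      ∀ (G : C) (π : E ⟶ G), Epi π → ok G → ¬ IsIso π →
        ∀ (pE pG : ℚ[X]), HP E pE → HP G pG → 0 < alpha d pG → RedLE d pE pG,
      ∀ (G : C) (π : E ⟶ G), Epi π → ok G → ¬ IsZero G → ¬ IsIso π → Pure G →
        ∀ (pE pG : ℚ[X]), HP E pE → HP G pG → RedLE d pE pG].TFAE := by
  tfae_have 1 → 3 := by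
    intro hss G π hπ hG hni pE pG hpE hpG hα
    haveI := hπ
    obtain ⟨hK, hK0, hKni, hsum⟩ := quot_data ax hE h0 hp π hG hni hpE hpG hα
    exact redLE_quot hsum (hss.2.2.2 _ (kernel.ι π) inferInstance hK hK0 hKni _ _
      (hpf_spec ax hK) hpE)
  tfae_have 3 → 4 := by
    intro h G π hπ hG hG0 hni hGp pE pG hpE hpG
    exact h G π hπ hG hni pE pG hpE hpG (ax.pure_pos (𝟙 G) hGp inferInstance hG hG0 hpG)
  tfae_have 4 → 2 := by
    intro h F ι hι hF hF0 hni hcp pF pE hpF hpE
    haveI := hι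
    obtain ⟨hG, hG0, hπni, hsum⟩ := sub_data ax hE h0 hp ι hF hF0 hni hpF hpE
    exact redLE_sub_of_quot hsum (h _ (cokernel.π ι) inferInstance hG hG0 hπni hcp _ _ hpE
      (hpf_spec ax hG))
  tfae_have 2 → 1 := by
    intro h
    refine ⟨hE, h0, hp, ?_⟩
    intro F ι hι hF hF0 hni pF pE hpF hpE
    haveI := hι
    rcases sat_data ax hE h0 hp ι hF hF0 hni hpF hpE with hlt | ⟨F', hF', hF'0, htop, hF'p, aF', hcmp⟩
    · exact redLE_of_redLT hlt
    · have h1 := h (F' : C) F'.arrow inferInstance hF'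
        (fun hz => hF'0 ((eq_bot_iff_isZero F').mpr hz))
        (fun hiso => htop ((Subobject.isIso_arrow_iff_eq_top F').mp hiso)) hF'p _ _
        (hpf_spec ax hF') hpE
      have aF : 0 < alpha d pF := ax.pure_pos ι hp hι hF hF0 hpF
      have aE : 0 < alpha d pE := ax.pure_pos (𝟙 E) hp inferInstance hE h0 hpE
      exact redLE_trans aF.le aF' aE.le hcmp h1
  tfae_finish

theorem tfae_St :
    [Stp ok HP Pure d E,
      ∀ (F : C) (ι : F ⟶ E), Mono ι → ok F → ¬ IsZero F → ¬ IsIso ι → Pure (cokernel ι) →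
        ∀ (pF pE : ℚ[X]), HP F pF → HP E pE → RedLT d pF pE,
      ∀ (G : C) (π : E ⟶ G), Epi π → ok G → ¬ IsIso π →
        ∀ (pE pG : ℚ[X]), HP E pE → HP G pG → 0 < alpha d pG → RedLT d pE pG,
      ∀ (G : C) (π : E ⟶ G), Epi π → ok G → ¬ IsZero G → ¬ IsIso π → Pure G →
        ∀ (pE pG : ℚ[X]), HP E pE → HP G pG → RedLT d pE pG].TFAE := by
  tfae_have 1 → 3 := by
    intro hss G π hπ hG hni pE pG hpE hpG hα
    haveI := hπ
    obtain ⟨hK, hK0, hKni, hsum⟩ := quot_data ax hE h0 hp π hG hni hpE hpG hα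
    exact redLT_quot hsum (hss.2.2.2 _ (kernel.ι π) inferInstance hK hK0 hKni _ _
      (hpf_spec ax hK) hpE)
  tfae_have 3 → 4 := by
    intro h G π hπ hG hG0 hni hGp pE pG hpE hpG
    exact h G π hπ hG hni pE pG hpE hpG (ax.pure_pos (𝟙 G) hGp inferInstance hG hG0 hpG)
  tfae_have 4 → 2 := by
    intro h F ι hι hF hF0 hni hcp pF pE hpF hpE
    haveI := hι
    obtain ⟨hG, hG0, hπni, hsum⟩ := sub_data ax hE h0 hp ι hF hF0 hni hpF hpE
    exact redLT_sub_of_quot hsum (h _ (cokernel.π ι) inferInstance hG hG0 hπni hcp _ _ hpE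
      (hpf_spec ax hG))
  tfae_have 2 → 1 := by
    intro h
    refine ⟨hE, h0, hp, ?_⟩
    intro F ι hι hF hF0 hni pF pE hpF hpE
    haveI := hι
    rcases sat_data ax hE h0 hp ι hF hF0 hni hpF hpE with hlt | ⟨F', hF', hF'0, htop, hF'p, aF', hcmp⟩
    · exact hlt
    · have h1 := h (F' : C) F'.arrow inferInstance hF'
        (fun hz => hF'0 ((eq_bot_iff_isZero F').mpr hz))
        (fun hiso => htop ((Subobject.isIso_arrow_iff_eq_top F').mp hiso)) hF'p _ _
        (hpf_spec ax hF') hpE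
      have aF : 0 < alpha d pF := ax.pure_pos ι hp hι hF hF0 hpF
      have aE : 0 < alpha d pE := ax.pure_pos (𝟙 E) hp inferInstance hE h0 hpE
      exact redLT_of_le_of_lt aF aF' aE.le hcmp h1
  tfae_finish

end TFAE

end Groth.Agent.Lib.AbFilt
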