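import Mathlib
import Groth.Prelude
import Groth.Agent.Lib.AbFilt7_helper6

/-!
# Uniqueness of the graded object of a Jordan–Hölder filtration (helper6)

`secondIso`: the second isomorphism theorem for subobjects in an abelian category.
`JH_gr_unique`: via Mathlib's Jordan–Hölder theorem for lattices.
APPEND-ONLY once landed.
-/

set_option autoImplicit false
set_option linter.all false
set_option maxHeartbeats 1600000

universe u v
open CategoryTheory CategoryTheory.Limits Polynomial StabCat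

namespace Groth.Agent.Lib.AbFilt

open Groth.Agent.Lib.PolyOrd

variable {C : Type u} [Category.{v} C] [Abelian C]

section SecondIso

variable {E : C} (x y : Subobject E)

/-- the canonical epimorphism `x ⊞ y ⟶ x ⊔ y`. -/
noncomputable def toSup : (x : C) ⊞ (y : C) ⟶ ((x ⊔ y : Subobject E) : C) :=
  factorThruImageSubobject (diffMap x y) ≫ (imageDiffMapIso x y).hom

instance : Epi (toSup x y) := by unfold toSup; infer_instance

theorem toSup_arrow : toSup x y ≫ (x ⊔ y).arrow = diffMap x y := by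
  unfold toSup imageDiffMapIso
  rw [Category.assoc, Subobject.isoOfEq_hom, Subobject.ofLE_arrow, imageSubobject_arrow_comp]

theorem inl_toSup : biprod.inl ≫ toSup x y = Subobject.ofLE x (x ⊔ y) le_sup_left := by
  rw [← cancel_mono (x ⊔ y).arrow, Category.assoc, toSup_arrow, Subobject.ofLE_arrow]
  simp [diffMap]

theorem inr_toSup : biprod.inr ≫ toSup x y = -Subobject.ofLE y (x ⊔ y) le_sup_right := by
  rw [← cancel_mono (x ⊔ y).arrow, Category.assoc, toSup_arrow, Preadditive.neg_comp,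
    Subobject.ofLE_arrow]
  simp [diffMap]

/-- the map `y ⟶ (x ⊔ y) / x`. -/
noncomputable def toSupQuot :
    (y : C) ⟶ cokernel (Subobject.ofLE x (x ⊔ y) le_sup_left) :=
  Subobject.ofLE y (x ⊔ y) le_sup_right ≫ cokernel.π _

instance : Epi (toSupQuot x y) := by
  have h1 : toSup x y ≫ cokernel.π (Subobject.ofLE x (x ⊔ y) le_sup_left) =
      (biprod.snd : (x : C) ⊞ (y : C) ⟶ (y : C)) ≫ (-toSupQuot x y) := by
    apply biprod.hom_ext'
    · rw [← Category.assoc, inl_toSup, cokernel.condition, ← Category.assoc, biprod.inl_snd,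
        Limits.zero_comp]
    · rw [← Category.assoc, inr_toSup, ← Category.assoc, biprod.inr_snd, Category.id_comp,
        Preadditive.neg_comp]
      rfl
  haveI : Epi ((biprod.snd : (x : C) ⊞ (y : C) ⟶ (y : C)) ≫ (-toSupQuot x y)) := by
    rw [← h1]; exact epi_comp _ _
  haveI : Epi (-toSupQuot x y) := epi_of_epi (biprod.snd : (x : C) ⊞ (y : C) ⟶ (y : C)) _
  have h2 : toSupQuot x y = (-toSupQuot x y) ≫ (-𝟙 _) := by simp
  rw [h2]
  haveI : IsIso (-𝟙 (cokernel (Subobject.ofLE x (x ⊔ y) le_sup_left))) :=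
    ⟨⟨-𝟙 _, by simp, by simp⟩⟩
  exact epi_comp _ _

/-- **second isomorphism theorem**. -/
noncomputable def secondIso :
    cokernel (Subobject.ofLE (x ⊓ y) y inf_le_right) ≅
      cokernel (Subobject.ofLE x (x ⊔ y) le_sup_left) := by
  have w : Subobject.ofLE (x ⊓ y) y inf_le_right ≫ toSupQuot x y = 0 := by
    unfold toSupQuot
    have : Subobject.ofLE (x ⊓ y) y inf_le_right ≫ Subobject.ofLE y (x ⊔ y) le_sup_right =
        Subobject.ofLE (x ⊓ y) x inf_le_left ≫ Subobject.ofLE x (x ⊔ y) le_sup_left := by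
      rw [Subobject.ofLE_comp_ofLE, Subobject.ofLE_comp_ofLE]
    rw [← Category.assoc, this, Category.assoc, cokernel.condition, Limits.comp_zero]
  have hlim : IsLimit (KernelFork.ofι (Subobject.ofLE (x ⊓ y) y inf_le_right) w) := by
    apply KernelFork.IsLimit.ofι'
    intro A k hk
    have hk' : (k ≫ Subobject.ofLE y (x ⊔ y) le_sup_right) ≫
        cokernel.π (Subobject.ofLE x (x ⊔ y) le_sup_left) = 0 := by
      rw [Category.assoc]; exact hk
    have hfac : (x ⊓ y).Factors (k ≫ y.arrow) := by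
      obtain ⟨l, hl⟩ := exists_lift_of_comp_cokernel _ _ hk'
      rw [Subobject.inf_factors]
      refine ⟨?_, Subobject.factors_comp_arrow k⟩
      have : k ≫ y.arrow = l ≫ x.arrow := by
        rw [← Subobject.ofLE_arrow (le_sup_right : y ≤ x ⊔ y), ← Category.assoc, ← hl,
          Category.assoc, Subobject.ofLE_arrow]
      rw [this]
      exact Subobject.factors_comp_arrow l
    exact ⟨Classical.choose (exists_lift_ofLE inf_le_right k hfac),
      Classical.choose_spec (exists_lift_ofLE inf_le_right k hfac)⟩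
  have hcolim := Abelian.epiIsCokernelOfKernel _ hlim
  exact (cokernelIsCokernel _).coconePointUniqueUpToIso hcolim

end SecondIso

section Good

variable {ok : C → Prop} {HP : C → ℚ[X] → Prop} {Pure D : C → Prop} {d : ℕ}
  (ax : Ax ok HP Pure D d) {E : C} (hE : SSp ok HP Pure d E)

include ax hE

theorem redLE_sub_of_SSp' {S : Subobject E} (hS : ok (S : C)) :
    RedLE d (hpf HP (S : C)) (hpf HP E) := by
  by_cases h : S = ⊥
  · rw [hpf_of_isZero ax hS ((eq_bot_iff_isZero S).mp h)]
    exact redLE_zero_left _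
  · exact redLE_sub_of_SSp ax hE hS h

/-- the sublattice of subobjects with the reduced polynomial of `E` (or zero). -/
def goodLattice : Sublattice (Subobject E) where
  carrier := {S | ok (S : C) ∧ RedEq d (hpf HP (S : C)) (hpf HP E)}
  supClosed' := by
    intro S hS T hT
    have hU := ok_sup ax hE.1 hS.1 hT.1
    have hI := ok_inf ax hE.1 hS.1 hT.1
    exact ⟨hU, (redEq_of_sum (hpf_inf_sup ax hE.1 hS.1 hT.1) hS.2 hT.2
      (redLE_sub_of_SSp' ax hE hI) (redLE_sub_of_SSp' ax hE hU)).2⟩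
  infClosed' := by
    intro S hS T hT
    have hU := ok_sup ax hE.1 hS.1 hT.1
    have hI := ok_inf ax hE.1 hS.1 hT.1
    exact ⟨hI, (redEq_of_sum (hpf_inf_sup ax hE.1 hS.1 hT.1) hS.2 hT.2
      (redLE_sub_of_SSp' ax hE hI) (redLE_sub_of_SSp' ax hE hU)).1⟩

theorem mem_goodLattice {S : Subobject E} :
    S ∈ goodLattice ax hE ↔ ok (S : C) ∧ RedEq d (hpf HP (S : C)) (hpf HP E) := Iff.rfl

/-- quotients of good subobjects have the reduced polynomial of `E`. -/
theorem good_quot {x y : Subobject E} (hx : x ∈ goodLattice ax hE) (hy : y ∈ goodLattice ax hE)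
    (h : x ≤ y) : ok (cokernel (Subobject.ofLE x y h)) ∧
      RedEq d (hpf HP (cokernel (Subobject.ofLE x y h))) (hpf HP E) :=
  ⟨ok_quot ax h hx.1 hy.1, redEq_sub (hpf_quot ax h hx.1 hy.1) hx.2 hy.2⟩

theorem alpha_pos_of_redEq {A : C} (hA : ok A) (hA0 : ¬ IsZero A) (hAD : D A)
    (h : RedEq d (hpf HP A) (hpf HP E)) : 0 < alpha d (hpf HP A) := by
  have hnn := ax.alpha_nonneg hA hAD (hpf_spec ax hA)
  rcases eq_or_lt_of_le hnn with h0 | h0
  · exfalso
    apply hA0
    apply isZero_of_hpf_eq_zero ax hA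
    unfold RedEq at h
    rw [← h0, zero_smul] at h
    exact (smul_eq_zero.mp h).resolve_left (alpha_pos_of_SSp ax hE).ne'
  · exact h0

/-- maximality in the lattice of good subobjects: the quotient is stable. -/
def IsMax (x y : Subobject E) : Prop :=
  ∃ h : x < y, Stp ok HP Pure d (cokernel (Subobject.ofLE x y h.le))

/-- a stable quotient gives a covering in the lattice of good subobjects. -/
theorem eq_or_eq_of_isMax {x z w : Subobject E} (hx : x ∈ goodLattice ax hE)
    (hz : z ∈ goodLattice ax hE) (hw : w ∈ goodLattice ax hE) (hmax : IsMax (ok := ok)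
      (HP := HP) (Pure := Pure) (d := d) x z) (hxw : x ≤ w) (hwz : w ≤ z) : w = x ∨ w = z := by
  obtain ⟨hlt, hst⟩ := hmax
  by_contra hcon
  push Not at hcon
  obtain ⟨hwx, hwz'⟩ := hcon
  have hxw' : x < w := lt_of_le_of_ne hxw (Ne.symm hwx)
  have hwz'' : w < z := lt_of_le_of_ne hwz hwz'
  -- the epimorphism `z / x ⟶ z / w`
  have wcond : Subobject.ofLE x z hlt.le ≫ cokernel.π (Subobject.ofLE w z hwz) = 0 := by
    have : Subobject.ofLE x z hlt.le = Subobject.ofLE x w hxw ≫ Subobject.ofLE w z hwz := by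
      rw [Subobject.ofLE_comp_ofLE]
    rw [this, Category.assoc, cokernel.condition, Limits.comp_zero]
  let e := cokernel.desc (Subobject.ofLE x z hlt.le) (cokernel.π (Subobject.ofLE w z hwz)) wcond
  have he : cokernel.π (Subobject.ofLE x z hlt.le) ≫ e = cokernel.π (Subobject.ofLE w z hwz) :=
    cokernel.π_desc _ _ _
  haveI : Epi e := by
    haveI : Epi (cokernel.π (Subobject.ofLE x z hlt.le) ≫ e) := by rw [he]; infer_instance
    exact epi_of_epi (cokernel.π (Subobject.ofLE x z hlt.le)) e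
  have hni : ¬ IsIso e := by
    intro hiso
    have h1 : Subobject.ofLE w z hwz ≫ cokernel.π (Subobject.ofLE x z hlt.le) = 0 := by
      rw [← cancel_mono e, Category.assoc, he, cokernel.condition, Limits.zero_comp]
    obtain ⟨l, hl⟩ := exists_lift_of_comp_cokernel _ _ h1
    have : w ≤ x := by
      refine Subobject.le_of_comm l ?_
      rw [← Subobject.ofLE_arrow hlt.le, ← Category.assoc, hl, Subobject.ofLE_arrow]
    exact absurd this (not_le_of_gt hxw')
  obtain ⟨hQok, hQeq⟩ := good_quot ax hE hw hz hwz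
  obtain ⟨hQ'ok, hQ'eq⟩ := good_quot ax hE hx hz hlt.le
  have hQ0 : ¬ IsZero (cokernel (Subobject.ofLE w z hwz)) := fun h0 =>
    absurd (le_of_isZero_cokernel_ofLE hwz h0) (not_le_of_gt hwz'')
  have hED := ax.D_of_pure hE.1 hE.2.1 hE.2.2.1
  have hQD : D (cokernel (Subobject.ofLE w z hwz)) :=
    ax.D_quot (cokernel.π _) inferInstance hz.1 hQok (ax.D_sub z.arrow inferInstance hED)
  have aQ := alpha_pos_of_redEq ax hE hQok hQ0 hQD hQeq
  have aE := alpha_pos_of_SSp ax hE
  have h13 := (tfae_St ax hst.1 hst.2.1 hst.2.2.1).out 0 2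
  have hlt' := (h13.mp hst) _ e inferInstance hQok hni _ _ (hpf_spec ax hst.1)
    (hpf_spec ax hQok) aQ
  have heq' : RedEq d (hpf HP (cokernel (Subobject.ofLE x z hlt.le)))
      (hpf HP (cokernel (Subobject.ofLE w z hwz))) :=
    redEq_trans aE.ne' hQ'eq (redEq_symm hQeq)
  exact not_redLT_of_redEq heq' hlt'

end Good

section JHUnique

variable {ok : C → Prop} {HP : C → ℚ[X] → Prop} {Pure D : C → Prop} {d : ℕ}
  (ax : Ax ok HP Pure D d) {E : C} (hE : SSp ok HP Pure d E)

theorem isZero_cokernel_ofLE_of_eq {x y : Subobject E} (h : x ≤ y) (heq : x = y) :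
    IsZero (cokernel (Subobject.ofLE x y h)) := by
  subst heq
  rw [Subobject.ofLE_refl]
  exact isZero_cokernel_of_epi _

/-- the Jordan–Hölder structure on the lattice of good subobjects. -/
@[reducible] noncomputable def jhl : JordanHolderLattice (goodLattice ax hE) where
  IsMaximal x y := IsMax (ok := ok) (HP := HP) (Pure := Pure) (d := d) x.1 y.1
  lt_of_isMaximal := fun h => h.1
  sup_eq_of_isMaximal := by
    intro x y z hxz hyz hne
    apply Subtype.ext
    show x.1 ⊔ y.1 = z.1
    have hw : x.1 ⊔ y.1 ∈ goodLattice ax hE := (x ⊔ y).2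
    rcases eq_or_eq_of_isMax ax hE x.2 z.2 hw hxz le_sup_left (sup_le hxz.1.le hyz.1.le) with
      h | h
    · have hyx : y.1 ≤ x.1 := h ▸ le_sup_right
      rcases eq_or_eq_of_isMax ax hE y.2 z.2 x.2 hyz hyx hxz.1.le with h' | h'
      · exact absurd (Subtype.ext h') hne
      · exact absurd h' hxz.1.ne
    · exact h
  isMaximal_inf_left_of_isMaximal_sup := by
    intro x y _ h2
    obtain ⟨hlt, hst⟩ := h2
    have e1 : cokernel (Subobject.ofLE (x.1 ⊓ y.1) x.1 inf_le_left) ≅
        cokernel (Subobject.ofLE y.1 (x.1 ⊔ y.1) le_sup_right) :=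
      cokernelOfLEIsoOfEq (inf_comm x.1 y.1) rfl _ inf_le_right ≪≫ secondIso y.1 x.1 ≪≫
        cokernelOfLEIsoOfEq rfl (sup_comm y.1 x.1) _ _
    have hst' : Stp ok HP Pure d (cokernel (Subobject.ofLE (x.1 ⊓ y.1) x.1 inf_le_left)) :=
      Stp_iso ax e1.symm hst
    have hlt' : x.1 ⊓ y.1 < x.1 := by
      refine lt_of_le_of_ne inf_le_left (fun heq => ?_)
      exact hst'.2.1 (isZero_cokernel_ofLE_of_eq inf_le_left heq)
    exact ⟨hlt', hst'⟩

include ax hE

/-- the terms of a Jordan–Hölder filtration are good. -/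
theorem good_of_JH (s : LTSeries (Subobject E))
    (hs : IsJHWith (Stp ok HP Pure d) HP d E s) :
    ∀ (n : ℕ) (hn : n < s.length + 1), s ⟨n, hn⟩ ∈ goodLattice ax hE := by
  intro n
  induction n with
  | zero =>
    intro hn
    have h0 : s ⟨0, hn⟩ = ⊥ := hs.1
    rw [h0]
    refine ⟨ok_bot ax hE.1, ?_⟩
    rw [hpf_of_isZero ax (ok_bot ax hE.1) ((eq_bot_iff_isZero _).mp rfl)]
    exact redEq_zero_left d _
  | succ n ih =>
    intro hn
    have hn' : n < s.length := Nat.lt_of_succ_lt_succ hn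
    have hA := ih (Nat.lt_succ_of_lt hn')
    obtain ⟨hst, heq⟩ := hs.2.2 ⟨n, hn'⟩
    have hle : s ⟨n, Nat.lt_succ_of_lt hn'⟩ ≤ s ⟨n + 1, hn⟩ := le_of_lt (s.step ⟨n, hn'⟩)
    have hfok : ok (cokernel (Subobject.ofLE _ _ hle)) := hst.1
    have hBok : ok ((s ⟨n + 1, hn⟩ : Subobject E) : C) :=
      ax.ok_ext (cokerSC (Subobject.ofLE _ _ hle)) (cokerSC_shortExact _) hA.1 hfok
    refine ⟨hBok, ?_⟩
    rw [hpf_quot ax hle hA.1 hBok]
    exact redEq_add hA.2 (heq _ _ (hpf_spec ax hfok) (hpf_spec ax hE.1))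

/-- uniqueness of the graded object of a Jordan–Hölder filtration. -/
theorem JH_gr_unique (s t : LTSeries (Subobject E))
    (hs : IsJHWith (Stp ok HP Pure d) HP d E s) (ht : IsJHWith (Stp ok HP Pure d) HP d E t) :
    s.length = t.length ∧ Nonempty (grObj s ≅ grObj t) := by
  letI := jhl ax hE
  let cs : LTSeries (Subobject E) → ∀ (s : LTSeries (Subobject E)),
      IsJHWith (Stp ok HP Pure d) HP d E s → CompositionSeries (goodLattice ax hE) :=
    fun _ s hs =>
      { length := s.length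
        toFun := fun i => ⟨s i, good_of_JH ax hE s hs i.val i.isLt⟩
        step := fun i => ⟨s.step i, (hs.2.2 i).1⟩ }
  have hequiv := CompositionSeries.jordan_holder (cs s s hs) (cs t t ht)
    (Subtype.ext (hs.1.trans ht.1.symm)) (Subtype.ext (hs.2.1.trans ht.2.1.symm))
  obtain ⟨f, hf⟩ := hequiv
  have hlen : s.length = t.length := by
    have := Fintype.card_congr f
    simpa using this
  refine ⟨hlen, ?_⟩
  -- the relation "isomorphic quotients"
  let quot : (goodLattice ax hE) × (goodLattice ax hE) → C := fun p =>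
    cokernel (Subobject.ofLE (p.1.1 ⊓ p.2.1) p.2.1 inf_le_right)
  have hrel : ∀ {p q : (goodLattice ax hE) × (goodLattice ax hE)},
      JordanHolderLattice.Iso p q → Nonempty (quot p ≅ quot q) := by
    intro p q hpq
    refine JordanHolderLattice.Iso.rel (fun p q => Nonempty (quot p ≅ quot q))
      ⟨Iso.refl _⟩ (fun ⟨e⟩ => ⟨e.symm⟩) (fun ⟨e⟩ ⟨e'⟩ => ⟨e ≪≫ e'⟩) ?_ hpq
    intro x y _
    refine ⟨?_⟩
    show cokernel (Subobject.ofLE (x.1 ⊓ (x.1 ⊔ y.1)) (x.1 ⊔ y.1) inf_le_right) ≅
      cokernel (Subobject.ofLE ((x.1 ⊓ y.1) ⊓ y.1) y.1 inf_le_right)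
    exact cokernelOfLEIsoOfEq (inf_eq_left.mpr le_sup_left) rfl _ le_sup_left ≪≫
      (secondIso x.1 y.1).symm ≪≫
        cokernelOfLEIsoOfEq (inf_eq_left.mpr inf_le_right).symm rfl _ _
  have hfac : ∀ i : Fin s.length, Nonempty (StabCat.factor t (f i) ≅ StabCat.factor s i) := by
    intro i
    obtain ⟨e⟩ := hrel (hf i)
    have e1 : quot ((cs s s hs) (Fin.castSucc i), (cs s s hs) i.succ) ≅ StabCat.factor s i := by
      unfold StabCat.factor
      exact cokernelOfLEIsoOfEq (inf_eq_left.mpr (le_of_lt (s.step i))) rfl _ _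
    have e2 : quot ((cs t t ht) (Fin.castSucc (f i)), (cs t t ht) (f i).succ) ≅
        StabCat.factor t (f i) := by
      unfold StabCat.factor
      exact cokernelOfLEIsoOfEq (inf_eq_left.mpr (le_of_lt (t.step (f i)))) rfl _ _
    exact ⟨e2.symm ≪≫ e.symm ≪≫ e1⟩
  unfold grObj
  exact ⟨Sigma.whiskerEquiv f (fun i => Classical.choice (hfac i))⟩

end JHUnique

end Groth.Agent.Lib.AbFilt
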