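import Mathlib
import Groth.Prelude
import Groth.Agent.Lib.AbFilt8_helper6

/-!
# Kernels and cokernels of morphisms of semistable objects with the same reduced polynomial
(helper6)

`SSp_quot_of_good`, `ker_coker_SS`.
APPEND-ONLY once landed.
-/

set_option autoImplicit false
set_option linter.all false
set_option maxHeartbeats 1600000

universe u v
open CategoryTheory CategoryTheory.Limits Polynomial StabCat

namespace Groth.Agent.Lib.AbFilt

open Groth.Agent.Lib.PolyOrd

variable {C : Type u} [Category.{v} C] [Abelian C]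

section KerCoker

variable {ok : C → Prop} {HP : C → ℚ[X] → Prop} {Pure D : C → Prop} {d : ℕ}
  (ax : Ax ok HP Pure D d)

include ax

/-- the quotient of a semistable object by a proper nonzero subobject with the same reduced
polynomial is semistable with the same reduced polynomial. -/
theorem SSp_quot_of_good {E : C} (hEss : SSp ok HP Pure d E) {F : Subobject E}
    (hF : ok (F : C)) (hF0 : F ≠ ⊥) (hFtop : F ≠ ⊤)
    (hFeq : RedEq d (hpf HP (F : C)) (hpf HP E)) :
    SSp ok HP Pure d (cokernel F.arrow) ∧ RedEq d (hpf HP (cokernel F.arrow)) (hpf HP E) := by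
  have hE := hEss.1
  have hne := hEss.2.1
  have hp := hEss.2.2.1
  have aE := alpha_pos_of_SSp ax hEss
  have aF := alpha_pos_sub ax hE hne hp hF hF0
  have hQ := ok_cokernel_arrow ax hE hne hp hF
  have hsum : hpf HP E = hpf HP (F : C) + hpf HP (cokernel F.arrow) :=
    hpf_add ax (cokerSC F.arrow) (cokerSC_shortExact _) hF hE hQ
  have hQeq : RedEq d (hpf HP (cokernel F.arrow)) (hpf HP E) := redEq_quot hsum hFeq
  have hQ0 : ¬ IsZero (cokernel F.arrow) := by
    intro hz
    apply hFtop
    haveI : Epi F.arrow := Preadditive.epi_of_isZero_cokernel _ hz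
    haveI : IsIso F.arrow := isIso_of_mono_of_epi _
    exact (Subobject.isIso_arrow_iff_eq_top F).mp inferInstance
  have hQD : D (cokernel F.arrow) :=
    ax.D_quot (cokernel.π F.arrow) inferInstance hE hQ (ax.D_of_pure hE hne hp)
  have hQnn : 0 ≤ alpha d (hpf HP (cokernel F.arrow)) :=
    ax.alpha_nonneg hQ hQD (hpf_spec ax hQ)
  have aQ : 0 < alpha d (hpf HP (cokernel F.arrow)) := by
    rcases eq_or_lt_of_le hQnn with h0 | h0
    · exfalso
      apply hQ0
      apply isZero_of_hpf_eq_zero ax hQ
      unfold RedEq at hQeq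
      rw [← h0, zero_smul] at hQeq
      exact (smul_eq_zero.mp hQeq).resolve_left aE.ne'
    · exact h0
  have hpre : ∀ T : Subobject (cokernel F.arrow), ok (T : C) → T ≠ ⊥ →
      RedLE d (hpf HP (preQ F T : C)) (hpf HP (F : C)) := by
    intro T hT hT0
    have hR := ok_preQ ax hE hne hp hF hT
    have hR0 : preQ F T ≠ ⊥ := fun h => hF0 (le_bot_iff.mp (h ▸ le_preQ F T))
    have aR := alpha_pos_sub ax hE hne hp hR hR0
    exact redLE_trans aR.le aE aF.le (redLE_sub_of_SSp ax hEss hR hR0)
      (redLE_of_redEq' hFeq)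
  have hposT : ∀ T : Subobject (cokernel F.arrow), ok (T : C) → T ≠ ⊥ →
      0 < alpha d (hpf HP (T : C)) := by
    intro T hT hT0
    have hTD : D (T : C) := ax.D_sub T.arrow inferInstance hQD
    have hnn := ax.alpha_nonneg hT hTD (hpf_spec ax hT)
    rcases eq_or_lt_of_le hnn with h0 | h0
    · exfalso
      have hR := ok_preQ ax hE hne hp hF hT
      have hlt : F < preQ F T :=
        lt_of_eq_of_lt (preQ_bot F).symm (preQ_strictMono F (bot_lt_iff_ne_bot.mpr hT0))
      have hα : alpha d (hpf HP (F : C)) = alpha d (hpf HP (preQ F T : C)) := by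
        rw [hpf_preQ ax hE hne hp hF hT, alpha_add, ← h0, add_zero]
      exact not_redLT_of_redLE (hpre T hT hT0)
        (redLT_of_lt_of_alpha_eq ax hE hne hp hlt hF hR hF0 hα)
    · exact h0
  have hQp : Pure (cokernel F.arrow) := by
    refine ax.pure_of_pos hQ hQD ?_
    intro T' ι' hι' hT' hT'0 P hP
    haveI := hι'
    have hT : ok ((Subobject.mk ι' : Subobject (cokernel F.arrow)) : C) :=
      ax.ok_iso (Subobject.underlyingIso _).symm hT'
    have hT0 : Subobject.mk ι' ≠ ⊥ := fun h0 =>
      hT'0 (IsZero.of_iso ((eq_bot_iff_isZero _).mp h0) (Subobject.underlyingIso _).symm)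
    have e1 : hpf HP ((Subobject.mk ι' : Subobject (cokernel F.arrow)) : C) = P :=
      hpf_eq ax hT (ax.hp_iso (Subobject.underlyingIso _).symm hP)
    rw [← e1]
    exact hposT _ hT hT0
  refine ⟨⟨hQ, hQ0, hQp, ?_⟩, hQeq⟩
  intro T' ι' hι' hT' hT'0 hni pT pQ hpT hpQ
  haveI := hι'
  have hT : ok ((Subobject.mk ι' : Subobject (cokernel F.arrow)) : C) :=
    ax.ok_iso (Subobject.underlyingIso _).symm hT'
  have hT0 : Subobject.mk ι' ≠ ⊥ := fun h0 =>
    hT'0 (IsZero.of_iso ((eq_bot_iff_isZero _).mp h0) (Subobject.underlyingIso _).symm)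
  have e1 : hpf HP ((Subobject.mk ι' : Subobject (cokernel F.arrow)) : C) = pT :=
    hpf_eq ax hT (ax.hp_iso (Subobject.underlyingIso _).symm hpT)
  have e2 : hpf HP (cokernel F.arrow) = pQ := hpf_eq ax hQ hpQ
  rw [← e1, ← e2]
  have aT := hposT _ hT hT0
  have h1 : RedLE d (hpf HP ((Subobject.mk ι' : Subobject (cokernel F.arrow)) : C))
      (hpf HP (F : C)) :=
    redLE_of_add_left (hpf_preQ ax hE hne hp hF hT) (hpre _ hT hT0)
  have h2 : RedLE d (hpf HP (F : C)) (hpf HP (cokernel F.arrow)) :=
    redLE_trans aF.le aE aQ.le (redLE_of_redEq hFeq) (redLE_of_redEq' hQeq)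
  exact redLE_trans aT.le aF aQ.le h1 h2

/-- nonzero subobjects of a semistable object with the same reduced polynomial are semistable. -/
theorem SSp_sub_of_good {E : C} (hEss : SSp ok HP Pure d E) {K : C} (ι : K ⟶ E) [Mono ι]
    (hK : ok K) (hK0 : ¬ IsZero K) (hKeq : RedEq d (hpf HP K) (hpf HP E)) :
    SSp ok HP Pure d K := by
  have aE := alpha_pos_of_SSp ax hEss
  have hKp : Pure K := pure_sub ax ι hK hEss.1 hEss.2.1 hEss.2.2.1
  have aK : 0 < alpha d (hpf HP K) := ax.pure_pos (𝟙 K) hKp inferInstance hK hK0 (hpf_spec ax hK)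
  refine ⟨hK, hK0, hKp, ?_⟩
  intro G κ hκ hG hG0 hni pG pK hpG hpK
  haveI := hκ
  have hS : ok ((Subobject.mk (κ ≫ ι) : Subobject E) : C) :=
    ax.ok_iso (Subobject.underlyingIso _).symm hG
  have hS0 : Subobject.mk (κ ≫ ι) ≠ ⊥ := fun h0 =>
    hG0 (IsZero.of_iso ((eq_bot_iff_isZero _).mp h0) (Subobject.underlyingIso _).symm)
  have e1 : hpf HP ((Subobject.mk (κ ≫ ι) : Subobject E) : C) = pG :=
    hpf_eq ax hS (ax.hp_iso (Subobject.underlyingIso _).symm hpG)
  have e2 : hpf HP K = pK := hpf_eq ax hK hpK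
  rw [← e1, ← e2]
  have aS := alpha_pos_sub ax hEss.1 hEss.2.1 hEss.2.2.1 hS hS0
  exact redLE_trans aS.le aE aK.le (redLE_sub_of_SSp ax hEss hS hS0) (redLE_of_redEq' hKeq)

/-- kernels and cokernels of morphisms between semistable objects with the same reduced
polynomial. -/
theorem ker_coker_SS {E F : C} (hE : SSp ok HP Pure d E) (hF : SSp ok HP Pure d F)
    (hred : RedEq d (hpf HP E) (hpf HP F)) (f : E ⟶ F) :
    (IsZero (kernel f) ∨ (SSp ok HP Pure d (kernel f) ∧
        RedEq d (hpf HP (kernel f)) (hpf HP E))) ∧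
      (IsZero (cokernel f) ∨ (SSp ok HP Pure d (cokernel f) ∧
        RedEq d (hpf HP (cokernel f)) (hpf HP E))) := by
  have aE := alpha_pos_of_SSp ax hE
  have aF := alpha_pos_of_SSp ax hF
  by_cases hf : f = 0
  · subst hf
    constructor
    · right
      have e : kernel (0 : E ⟶ F) ≅ E := kernelZeroIsoSource
      refine ⟨SSp_iso ax e.symm hE, ?_⟩
      rw [hpf_iso ax e (ax.ok_iso e.symm hE.1)]
      exact redEq_refl d _
    · right
      have e : cokernel (0 : E ⟶ F) ≅ F := cokernelZeroIsoTarget
      refine ⟨SSp_iso ax e.symm hF, ?_⟩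
      rw [hpf_iso ax e (ax.ok_iso e.symm hF.1)]
      exact redEq_symm hred
  · -- the image
    have hIok : ok ((imageSubobject f : Subobject F) : C) := ok_imageSubobject ax f hE.1 hF.1
    have hKok : ok (kernel f) := ax.ok_kernel f hE.1 hF.1
    have hI0' : ¬ IsZero ((imageSubobject f : Subobject F) : C) := by
      intro hz
      apply hf
      rw [← imageSubobject_arrow_comp f, hz.eq_of_tgt (factorThruImageSubobject f) 0,
        Limits.zero_comp]
    have hI0 : imageSubobject f ≠ ⊥ := fun h => hI0' ((eq_bot_iff_isZero _).mp h)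
    have hsum : hpf HP E = hpf HP (kernel f) + hpf HP ((imageSubobject f : Subobject F) : C) :=
      hpf_add ax (kerImSC f) (kerImSC_shortExact f) hKok hE.1 hIok
    have aI := alpha_pos_sub ax hF.1 hF.2.1 hF.2.2.1 hIok hI0
    have h1 : RedLE d (hpf HP E) (hpf HP ((imageSubobject f : Subobject F) : C)) := by
      by_cases hK0 : IsZero (kernel f)
      · rw [hsum, hpf_of_isZero ax hKok hK0, zero_add]
        exact redLE_refl d _
      · have hni : ¬ IsIso (kernel.ι f) := by
          intro h
          apply hf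
          rw [← cancel_epi (kernel.ι f), kernel.condition, Limits.comp_zero]
        exact redLE_quot hsum (hE.2.2.2 _ (kernel.ι f) inferInstance hKok hK0 hni _ _
          (hpf_spec ax hKok) (hpf_spec ax hE.1))
    have h2 := redLE_sub_of_SSp ax hF hIok hI0
    have hIF : RedEq d (hpf HP ((imageSubobject f : Subobject F) : C)) (hpf HP F) :=
      redEq_of_redLE_of_redLE h2
        (redLE_trans aF.le aE aI.le (redLE_of_redEq' hred) h1)
    have hIE : RedEq d (hpf HP ((imageSubobject f : Subobject F) : C)) (hpf HP E) :=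
      redEq_trans aF.ne' hIF (redEq_symm hred)
    constructor
    · by_cases hK0 : IsZero (kernel f)
      · exact Or.inl hK0
      · right
        have hKeq : RedEq d (hpf HP (kernel f)) (hpf HP E) := by
          have hsum' : hpf HP E = hpf HP ((imageSubobject f : Subobject F) : C) +
              hpf HP (kernel f) := by rw [hsum, add_comm]
          exact redEq_quot hsum' hIE
        exact ⟨SSp_sub_of_good ax hE (kernel.ι f) hKok hK0 hKeq, hKeq⟩
    · by_cases hItop : imageSubobject f = ⊤
      · left
        have hiso : IsIso (imageSubobject f).arrow :=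
          (Subobject.isIso_arrow_iff_eq_top _).mpr hItop
        haveI : Epi f := by
          rw [← imageSubobject_arrow_comp f]
          exact epi_comp _ _
        exact isZero_cokernel_of_epi f
      · right
        obtain ⟨hss, heq⟩ := SSp_quot_of_good ax hF hIok hI0 hItop hIF
        have e : cokernel f ≅ cokernel (imageSubobject f).arrow := by
          have h3 : f = factorThruImageSubobject f ≫ (imageSubobject f).arrow :=
            (imageSubobject_arrow_comp f).symm
          exact (cokernelIsoOfEq h3) ≪≫ cokernelEpiComp _ _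
        refine ⟨SSp_iso ax e.symm hss, ?_⟩
        rw [hpf_iso ax e (ax.ok_iso e.symm hss.1)]
        exact redEq_trans aF.ne' heq (redEq_symm hred)

end KerCoker

end Groth.Agent.Lib.AbFilt
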