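import Mathlib
import Groth.Prelude
import Groth.Agent.Lib.AbFilt9_helper6

/-!
# Jordan–Hölder filtrations of subobjects and quotients with the same reduced polynomial (helper6)

* `mapFactorIso`, `mapSeries`, `preSeries`, `smashFactorLeft/Right`: images and preimages of
  filtrations and their factors; concatenation.
* `JH_factor_equiv`: the factors of two Jordan–Hölder filtrations correspond bijectively.
* `JH_sub_quot`: for a good subobject `G` of a semistable `E`, `G` and `E / G` have Jordan–Hölder
  filtrations whose factors embed (injectively on indices) into the factors of any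
  Jordan–Hölder filtration of `E`.
* `sigma_retract`: reindexing a coproduct along an injection gives a retract.
APPEND-ONLY once landed.
-/

set_option autoImplicit false
set_option linter.all false
set_option maxHeartbeats 1600000

universe u v w
open CategoryTheory CategoryTheory.Limits Polynomial StabCat

namespace Groth.Agent.Lib.AbFilt

open Groth.Agent.Lib.PolyOrd

section Retract

variable {C : Type u} [Category.{v} C] [HasZeroMorphisms C]

/-- reindexing a coproduct along an injection gives a retract. -/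
theorem sigma_retract {α β : Type w} (X : α → C) (Y : β → C) [HasCoproduct X] [HasCoproduct Y]
    (g : α → β) (hg : Function.Injective g) (e : ∀ a, X a ≅ Y (g a)) :
    ∃ (i : ∐ X ⟶ ∐ Y) (p : ∐ Y ⟶ ∐ X), i ≫ p = 𝟙 _ := by
  classical
  refine ⟨Sigma.desc (fun a => (e a).hom ≫ Sigma.ι Y (g a)),
    Sigma.desc (fun b => if h : ∃ a, g a = b then
      eqToHom (congrArg Y h.choose_spec.symm) ≫ (e h.choose).inv ≫ Sigma.ι X h.choose else 0), ?_⟩
  apply Sigma.hom_ext
  intro a
  rw [Sigma.ι_desc_assoc, Category.assoc, Sigma.ι_desc, Category.comp_id]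
  have hex : ∃ a', g a' = g a := ⟨a, rfl⟩
  rw [dif_pos hex]
  have key : ∀ (a' : α) (h' : g a' = g a),
      eqToHom (congrArg Y h'.symm) ≫ (e a').inv ≫ Sigma.ι X a' = (e a).inv ≫ Sigma.ι X a := by
    intro a' h'
    obtain rfl := hg h'
    simp
  rw [key _ hex.choose_spec, Iso.hom_inv_id_assoc]

end Retract

variable {C : Type u} [Category.{v} C] [Abelian C]

section MapFactor

variable {G E : C} (ι : G ⟶ E) [Mono ι]

theorem map_strictMono : StrictMono (Subobject.map ι).obj := by
  intro A B h
  refine lt_of_le_of_ne ((Subobject.map ι).monotone h.le) (fun he => ?_)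
  exact h.ne (Subobject.map_obj_injective ι he)

theorem map_obj_eq_mk (A : Subobject G) :
    (Subobject.map ι).obj A = Subobject.mk (A.arrow ≫ ι) := by
  conv_lhs => rw [← Subobject.mk_arrow A]
  exact Subobject.map_mk _ _

/-- the underlying object of the image of a subobject under a monomorphism. -/
noncomputable def mapObjIso (A : Subobject G) :
    (((Subobject.map ι).obj A : Subobject E) : C) ≅ (A : C) :=
  Subobject.isoOfEqMk _ (A.arrow ≫ ι) (map_obj_eq_mk ι A)

theorem mapObjIso_hom_arrow (A : Subobject G) :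
    (mapObjIso ι A).hom ≫ A.arrow ≫ ι = ((Subobject.map ι).obj A).arrow := by
  unfold mapObjIso
  rw [Subobject.isoOfEqMk_hom]
  exact Subobject.ofLEMk_comp _

/-- the induced isomorphism on factors of an image pair. -/
noncomputable def mapFactorIso {A B : Subobject G} (h : A ≤ B) :
    cokernel (Subobject.ofLE _ _ ((Subobject.map ι).monotone h)) ≅
      cokernel (Subobject.ofLE A B h) :=
  cokernel.mapIso _ _ (mapObjIso ι A) (mapObjIso ι B) (by
    rw [← cancel_mono (B.arrow ≫ ι), Category.assoc, mapObjIso_hom_arrow, Subobject.ofLE_arrow,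
      Category.assoc, ← Category.assoc (Subobject.ofLE A B h), Subobject.ofLE_arrow,
      mapObjIso_hom_arrow])

/-- the image of a filtration under a monomorphism. -/
noncomputable def mapSeries (s : LTSeries (Subobject G)) : LTSeries (Subobject E) :=
  s.map (Subobject.map ι).obj (map_strictMono ι)

theorem mapSeries_length (s : LTSeries (Subobject G)) : (mapSeries ι s).length = s.length := rfl

theorem mapSeries_head (s : LTSeries (Subobject G)) (h : s.head = ⊥) :
    (mapSeries ι s).head = ⊥ := by
  show (Subobject.map ι).obj s.head = ⊥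
  rw [h, Subobject.map_bot]

theorem mapSeries_last (s : LTSeries (Subobject G)) (h : s.last = ⊤) :
    (mapSeries ι s).last = Subobject.mk ι := by
  show (Subobject.map ι).obj s.last = _
  rw [h, Subobject.map_top]

/-- factors of the image filtration. -/
noncomputable def mapSeriesFactorIso (s : LTSeries (Subobject G)) (i : Fin s.length) :
    factor (mapSeries ι s) i ≅ factor s i :=
  mapFactorIso ι (le_of_lt (s.step i))

theorem pre_bot' : (Subobject.pullback (cokernel.π ι)).obj ⊥ = Subobject.mk ι := by
  apply le_antisymm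
  · have h0 : ((Subobject.pullback (cokernel.π ι)).obj ⊥).arrow ≫ cokernel.π ι = 0 := by
      rw [← Subobject.bot_factors_iff_zero, ← le_pre_iff]
    obtain ⟨y, hy⟩ := exists_lift_of_comp_cokernel ι _ h0
    exact Subobject.le_mk_of_comm y hy
  · rw [le_pre_iff, Subobject.bot_factors_iff_zero, ← Subobject.underlyingIso_hom_comp_eq_mk,
      Category.assoc, cokernel.condition, Limits.comp_zero]

end MapFactor

section PreSeries

variable {E Q : C} (π : E ⟶ Q) [Epi π]

/-- the preimage of a filtration under an epimorphism. -/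
noncomputable def preSeries (t : LTSeries (Subobject Q)) : LTSeries (Subobject E) :=
  t.map (Subobject.pullback π).obj (pre_strictMono π)

theorem preSeries_last (t : LTSeries (Subobject Q)) (h : t.last = ⊤) :
    (preSeries π t).last = ⊤ := by
  show (Subobject.pullback π).obj t.last = ⊤
  rw [h, pre_top]

/-- factors of the preimage filtration. -/
noncomputable def preSeriesFactorIso (t : LTSeries (Subobject Q)) (j : Fin t.length) :
    factor (preSeries π t) j ≅ factor t j :=
  preFactorIso π (le_of_lt (t.step j))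

end PreSeries

section Smash

variable {E : C}

/-- left factors of a concatenation. -/
noncomputable def smashFactorLeft (p q : LTSeries (Subobject E)) (h : p.last = q.head)
    (i : Fin p.length) : factor (p.smash q h) (i.castAdd q.length) ≅ factor p i :=
  cokernelOfLEIsoOfEq (RelSeries.smash_castAdd h i) (RelSeries.smash_succ_castAdd h i) _ _

/-- right factors of a concatenation. -/
noncomputable def smashFactorRight (p q : LTSeries (Subobject E)) (h : p.last = q.head)
    (j : Fin q.length) : factor (p.smash q h) (j.natAdd p.length) ≅ factor q j :=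
  cokernelOfLEIsoOfEq (RelSeries.smash_natAdd h j) (RelSeries.smash_succ_natAdd h j) _ _

end Smash

section Trivial

theorem bot_eq_top_of_isZero' {Q : C} (hz : IsZero Q) : (⊥ : Subobject Q) = ⊤ := by
  symm
  rw [eq_bot_iff_isZero]
  exact IsZero.of_iso hz (asIso (⊤ : Subobject Q).arrow)

theorem subsingleton_subobject_of_isZero {A : C} (hz : IsZero A) (x y : Subobject A) : x = y := by
  have hx : x = ⊥ := by
    rw [eq_bot_iff, bot_eq_top_of_isZero' hz]; exact le_top
  have hy : y = ⊥ := by
    rw [eq_bot_iff, bot_eq_top_of_isZero' hz]; exact le_top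
  rw [hx, hy]

theorem not_isZero_of_fin_length {A : C} (s : LTSeries (Subobject A)) (i : Fin s.length) :
    ¬ IsZero A := fun hz =>
  (s.step i).ne (subsingleton_subobject_of_isZero hz _ _)

end Trivial

section JH

variable {ok : C → Prop} {HP : C → ℚ[X] → Prop} {Pure D : C → Prop} {d : ℕ}
  (ax : Ax ok HP Pure D d)

include ax

/-- the zero object has the trivial Jordan–Hölder filtration. -/
theorem exists_JH_of_isZero {A : C} (hz : IsZero A) :
    ∃ s : LTSeries (Subobject A), IsJHWith (Stp ok HP Pure d) HP d A s := by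
  refine ⟨RelSeries.singleton _ ⊥, rfl, ?_, fun i => Fin.elim0 i⟩
  show (⊥ : Subobject A) = ⊤
  exact bot_eq_top_of_isZero' hz

/-- the factors of two Jordan–Hölder filtrations correspond bijectively. -/
theorem JH_factor_equiv {E : C} (hE : SSp ok HP Pure d E) (s t : LTSeries (Subobject E))
    (hs : IsJHWith (Stp ok HP Pure d) HP d E s) (ht : IsJHWith (Stp ok HP Pure d) HP d E t) :
    ∃ f : Fin s.length ≃ Fin t.length,
      ∀ i : Fin s.length, Nonempty (StabCat.factor s i ≅ StabCat.factor t (f i)) := by
  letI := jhl ax hE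
  let cs : LTSeries (Subobject E) → ∀ (s : LTSeries (Subobject E)),
      IsJHWith (Stp ok HP Pure d) HP d E s → CompositionSeries (goodLattice ax hE) :=
    fun _ s hs =>
      { length := s.length
        toFun := fun i => ⟨s i, good_of_JH ax hE s hs i.val i.isLt⟩
        step := fun i => ⟨s.step i, (hs.2.2 i).1⟩ }
  have hequiv := CompositionSeries.jordan_holder (cs s s hs) (cs t t ht)
    (Subtype.ext (hs.1.trans ht.1.symm)) (Subtype.ext (hs.2.1.trans ht.2.1.symm))
  obtain ⟨f, hf⟩ := hequiv
  refine ⟨f, ?_⟩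
  let quot : (goodLattice ax hE) × (goodLattice ax hE) → C := fun p =>
    cokernel (Subobject.ofLE (p.1.1 ⊓ p.2.1) p.2.1 inf_le_right)
  have hrel : ∀ {p q : (goodLattice ax hE) × (goodLattice ax hE)},
      JordanHolderLattice.Iso p q → Nonempty (quot p ≅ quot q) := by
    intro p q hpq
    refine JordanHolderLattice.Iso.rel (fun p q => Nonempty (quot p ≅ quot q))
      ⟨Iso.refl _⟩ (fun ⟨e⟩ => ⟨e.symm⟩) (fun ⟨e⟩ ⟨e'⟩ => ⟨e ≪≫ e'⟩) ?_ hpq
    intro x y _
    refine ⟨?_⟩
    show cokernel (Subobject.ofLE (x.1 ⊓ (x.1 ⊔ y.1)) (x.1 ⊔ y.1) inf_le_right) ≅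
      cokernel (Subobject.ofLE ((x.1 ⊓ y.1) ⊓ y.1) y.1 inf_le_right)
    exact cokernelOfLEIsoOfEq (inf_eq_left.mpr le_sup_left) rfl _ le_sup_left ≪≫
      (secondIso x.1 y.1).symm ≪≫
        cokernelOfLEIsoOfEq (inf_eq_left.mpr inf_le_right).symm rfl _ _
  intro i
  obtain ⟨e⟩ := hrel (hf i)
  have e1 : quot ((cs s s hs) (Fin.castSucc i), (cs s s hs) i.succ) ≅ StabCat.factor s i := by
    unfold StabCat.factor
    exact cokernelOfLEIsoOfEq (inf_eq_left.mpr (le_of_lt (s.step i))) rfl _ _
  have e2 : quot ((cs t t ht) (Fin.castSucc (f i)), (cs t t ht) (f i).succ) ≅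
      StabCat.factor t (f i) := by
    unfold StabCat.factor
    exact cokernelOfLEIsoOfEq (inf_eq_left.mpr (le_of_lt (t.step (f i)))) rfl _ _
  exact ⟨e1.symm ≪≫ e ≪≫ e2⟩

/-- a nonzero object with the reduced polynomial of a semistable object has positive
multiplicity. -/
theorem alpha_ne_zero_of_redEq' {E A : C} (hE : SSp ok HP Pure d E) (hA : ok A)
    (hA0 : ¬ IsZero A) (h : RedEq d (hpf HP A) (hpf HP E)) : alpha d (hpf HP A) ≠ 0 := by
  intro h0
  apply hA0
  apply isZero_of_hpf_eq_zero ax hA
  unfold RedEq at h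
  rw [h0, zero_smul] at h
  exact (smul_eq_zero.mp h).resolve_left (alpha_pos_of_SSp ax hE).ne'

/-- the concatenation of Jordan–Hölder filtrations of a good subobject and of the quotient is a
Jordan–Hölder filtration. -/
theorem JH_concat {E G : C} (hE : SSp ok HP Pure d E) (ι : G ⟶ E) [Mono ι] (hG : ok G)
    (hGeq : RedEq d (hpf HP G) (hpf HP E))
    (sG : LTSeries (Subobject G)) (hsG : IsJHWith (Stp ok HP Pure d) HP d G sG)
    (sQ : LTSeries (Subobject (cokernel ι)))
    (hsQ : IsJHWith (Stp ok HP Pure d) HP d (cokernel ι) sQ)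
    (hconn : (mapSeries ι sG).last = (preSeries (cokernel.π ι) sQ).head) :
    IsJHWith (Stp ok HP Pure d) HP d E
      ((mapSeries ι sG).smash (preSeries (cokernel.π ι) sQ) hconn) := by
  have hQ : ok (cokernel ι) := ax.ok_cokernel ι hG hE.1
  have hsum : hpf HP E = hpf HP G + hpf HP (cokernel ι) :=
    hpf_add ax (cokerSC ι) (cokerSC_shortExact _) hG hE.1 hQ
  have hQeq : RedEq d (hpf HP (cokernel ι)) (hpf HP E) := redEq_quot hsum hGeq
  refine ⟨?_, ?_, ?_⟩
  · rw [RelSeries.head_smash]
    exact mapSeries_head ι sG hsG.1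
  · rw [RelSeries.last_smash]
    exact preSeries_last _ sQ hsQ.2.1
  · intro i
    refine Fin.addCases (fun i' => ?_) (fun j' => ?_) i
    · -- a factor of `G`
      have e := smashFactorLeft (mapSeries ι sG) (preSeries (cokernel.π ι) sQ) hconn i' ≪≫
        mapSeriesFactorIso ι sG i'
      obtain ⟨hst, hred⟩ := hsG.2.2 i'
      refine ⟨Stp_iso ax e.symm hst, ?_⟩
      intro p q hp hq
      have hG0 : ¬ IsZero G := not_isZero_of_fin_length sG i'
      have h1 : RedEq d p (hpf HP G) := hred p _ (ax.hp_iso e hp) (hpf_spec ax hG)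
      rw [← hpf_eq ax hE.1 hq]
      exact redEq_trans (alpha_ne_zero_of_redEq' ax hE hG hG0 hGeq) h1 hGeq
    · -- a factor of the quotient
      have e := smashFactorRight (mapSeries ι sG) (preSeries (cokernel.π ι) sQ) hconn j' ≪≫
        preSeriesFactorIso (cokernel.π ι) sQ j'
      obtain ⟨hst, hred⟩ := hsQ.2.2 j'
      refine ⟨Stp_iso ax e.symm hst, ?_⟩
      intro p q hp hq
      have hQ0 : ¬ IsZero (cokernel ι) := not_isZero_of_fin_length sQ j'
      have h1 : RedEq d p (hpf HP (cokernel ι)) := hred p _ (ax.hp_iso e hp) (hpf_spec ax hQ)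
      rw [← hpf_eq ax hE.1 hq]
      exact redEq_trans (alpha_ne_zero_of_redEq' ax hE hQ hQ0 hQeq) h1 hQeq

/-- Jordan–Hölder filtrations of a good subobject and of the quotient, with factors among those of
a given Jordan–Hölder filtration of the ambient semistable object. -/
theorem JH_sub_quot {E G : C} (hE : SSp ok HP Pure d E) (ι : G ⟶ E) [Mono ι] (hG : ok G)
    (hGeq : RedEq d (hpf HP G) (hpf HP E))
    (sE : LTSeries (Subobject E)) (hsE : IsJHWith (Stp ok HP Pure d) HP d E sE) :
    (∃ sG : LTSeries (Subobject G), IsJHWith (Stp ok HP Pure d) HP d G sG ∧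
      ∃ g : Fin sG.length → Fin sE.length, Function.Injective g ∧
        ∀ i, Nonempty (factor sG i ≅ factor sE (g i))) ∧
    (∃ sQ : LTSeries (Subobject (cokernel ι)),
      IsJHWith (Stp ok HP Pure d) HP d (cokernel ι) sQ ∧
      ∃ g : Fin sQ.length → Fin sE.length, Function.Injective g ∧
        ∀ j, Nonempty (factor sQ j ≅ factor sE (g j))) := by
  -- Jordan–Hölder filtrations of `G` and of the quotient
  have hG' : IsZero G ∨ SSp ok HP Pure d G := by
    by_cases hz : IsZero G
    · exact Or.inl hz
    · exact Or.inr (SSp_sub_of_good ax hE ι hG hz hGeq)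
  have hQ' : IsZero (cokernel ι) ∨ SSp ok HP Pure d (cokernel ι) := by
    rcases hG' with hz | hss
    · exact Or.inr (SSp_iso ax (cokernelIsoOfIsZero ι hz).symm hE)
    · have hred : RedEq d (hpf HP G) (hpf HP E) := hGeq
      exact (ker_coker_SS ax hss hE hred ι).2.imp id (fun h => h.1)
  obtain ⟨sG, hsG⟩ : ∃ s : LTSeries (Subobject G), IsJHWith (Stp ok HP Pure d) HP d G s :=
    hG'.elim (exists_JH_of_isZero ax) (exists_JH ax)
  obtain ⟨sQ, hsQ⟩ : ∃ s : LTSeries (Subobject (cokernel ι)),
      IsJHWith (Stp ok HP Pure d) HP d (cokernel ι) s :=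
    hQ'.elim (exists_JH_of_isZero ax) (exists_JH ax)
  have hconn : (mapSeries ι sG).last = (preSeries (cokernel.π ι) sQ).head := by
    rw [mapSeries_last ι sG hsG.2.1]
    show _ = (Subobject.pullback (cokernel.π ι)).obj sQ.head
    rw [hsQ.1, pre_bot']
  have hc := JH_concat ax hE ι hG hGeq sG hsG sQ hsQ hconn
  obtain ⟨f, hf⟩ := JH_factor_equiv ax hE _ sE hc hsE
  refine ⟨⟨sG, hsG, fun i => f (i.castAdd sQ.length), ?_, ?_⟩,
    ⟨sQ, hsQ, fun j => f (j.natAdd sG.length), ?_, ?_⟩⟩
  · intro a b hab
    exact Fin.castAdd_injective _ _ (f.injective hab)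
  · intro i
    obtain ⟨e⟩ := hf (i.castAdd sQ.length)
    exact ⟨(mapSeriesFactorIso ι sG i).symm ≪≫
      (smashFactorLeft (mapSeries ι sG) (preSeries (cokernel.π ι) sQ) hconn i).symm ≪≫ e⟩
  · intro a b hab
    exact Fin.natAdd_injective _ _ (f.injective hab)
  · intro j
    obtain ⟨e⟩ := hf (j.natAdd sG.length)
    exact ⟨(preSeriesFactorIso (cokernel.π ι) sQ j).symm ≪≫
      (smashFactorRight (mapSeries ι sG) (preSeries (cokernel.π ι) sQ) hconn j).symm ≪≫ e⟩

end JH

end Groth.Agent.Lib.AbFilt
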