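import Mathlib
import Groth.Prelude
import Groth.Agent.Lib.AbFilt10_helper6

/-!
# Images of morphisms of semistable objects; properties stable under extensions along a filtration
(helper6)

* `image_good`: the image of a nonzero morphism between semistable objects with the same reduced
  polynomial is a nonzero tested subobject with the same reduced polynomial.
* `prop_of_filtration`: a property of objects stable under isomorphisms, zero objects and
  extensions holds for an object with a finite filtration whose factors have it.
APPEND-ONLY once landed.
-/

set_option autoImplicit false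
set_option linter.all false
set_option maxHeartbeats 1600000

universe u v w
open CategoryTheory CategoryTheory.Limits Polynomial StabCat

namespace Groth.Agent.Lib.AbFilt

open Groth.Agent.Lib.PolyOrd

variable {C : Type u} [Category.{v} C] [Abelian C]

section Image

variable {ok : C → Prop} {HP : C → ℚ[X] → Prop} {Pure D : C → Prop} {d : ℕ}
  (ax : Ax ok HP Pure D d)

include ax

/-- the image of a nonzero morphism between semistable objects with the same reduced polynomial. -/
theorem image_good {E F : C} (hE : SSp ok HP Pure d E) (hF : SSp ok HP Pure d F)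
    (hred : RedEq d (hpf HP E) (hpf HP F)) (f : E ⟶ F) (hf : f ≠ 0) :
    ok ((imageSubobject f : Subobject F) : C) ∧ imageSubobject f ≠ ⊥ ∧
      RedEq d (hpf HP ((imageSubobject f : Subobject F) : C)) (hpf HP F) := by
  have aE := alpha_pos_of_SSp ax hE
  have aF := alpha_pos_of_SSp ax hF
  have hIok : ok ((imageSubobject f : Subobject F) : C) := ok_imageSubobject ax f hE.1 hF.1
  have hKok : ok (kernel f) := ax.ok_kernel f hE.1 hF.1
  have hI0' : ¬ IsZero ((imageSubobject f : Subobject F) : C) := by
    intro hz
    apply hf
    rw [← imageSubobject_arrow_comp f, hz.eq_of_tgt (factorThruImageSubobject f) 0,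
      Limits.zero_comp]
  have hI0 : imageSubobject f ≠ ⊥ := fun h => hI0' ((eq_bot_iff_isZero _).mp h)
  have hsum : hpf HP E = hpf HP (kernel f) + hpf HP ((imageSubobject f : Subobject F) : C) :=
    hpf_add ax (kerImSC f) (kerImSC_shortExact f) hKok hE.1 hIok
  have aI := alpha_pos_sub ax hF.1 hF.2.1 hF.2.2.1 hIok hI0
  have h1 : RedLE d (hpf HP E) (hpf HP ((imageSubobject f : Subobject F) : C)) := by
    by_cases hK0 : IsZero (kernel f)
    · rw [hsum, hpf_of_isZero ax hKok hK0, zero_add]
      exact redLE_refl d _
    · have hni : ¬ IsIso (kernel.ι f) := by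
        intro h
        apply hf
        rw [← cancel_epi (kernel.ι f), kernel.condition, Limits.comp_zero]
      exact redLE_quot hsum (hE.2.2.2 _ (kernel.ι f) inferInstance hKok hK0 hni _ _
        (hpf_spec ax hKok) (hpf_spec ax hE.1))
  have h2 := redLE_sub_of_SSp ax hF hIok hI0
  exact ⟨hIok, hI0, redEq_of_redLE_of_redLE h2
    (redLE_trans aF.le aE aI.le (redLE_of_redEq' hred) h1)⟩

end Image

section Filtration

/-- a property of objects stable under isomorphisms, zero objects and extensions holds for an
object with a finite filtration from `⊥` to `⊤` all of whose factors have it. -/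
theorem prop_of_filtration (P : C → Prop) (hiso : ∀ {A B : C}, (A ≅ B) → P A → P B)
    (hzero : ∀ {A : C}, IsZero A → P A)
    (hext : ∀ (S : ShortComplex C), S.ShortExact → P S.X₁ → P S.X₃ → P S.X₂)
    {A : C} (s : LTSeries (Subobject A)) (h0 : s.head = ⊥) (h1 : s.last = ⊤)
    (hf : ∀ i : Fin s.length, P (factor s i)) : P A := by
  have key : ∀ (n : ℕ) (hn : n < s.length + 1), P ((s ⟨n, hn⟩ : Subobject A) : C) := by
    intro n
    induction n with
    | zero =>
      intro hn
      have hb : s ⟨0, hn⟩ = ⊥ := h0
      rw [hb]
      exact hzero ((eq_bot_iff_isZero _).mp rfl)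
    | succ n ih =>
      intro hn
      have hn' : n < s.length := by omega
      have ih' := ih (by omega)
      let i : Fin s.length := ⟨n, hn'⟩
      have hS := cokerSC_shortExact
        (Subobject.ofLE (s i.castSucc) (s i.succ) (le_of_lt (s.step i)))
      exact hext _ hS ih' (hf i)
  have hl : P ((s.last : Subobject A) : C) := key s.length (by omega)
  rw [h1] at hl
  exact hiso (asIso (⊤ : Subobject A).arrow) hl

end Filtration

end Groth.Agent.Lib.AbFilt
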