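import Mathlib
import Groth.Prelude
import Groth.Agent.Lib.AbFilt1_helper6
import Groth.Agent.Lib.PolyOrd_helper6

/-!
# Polynomial stability in an abelian category: weak axioms (helper6)

`AxW ok HP Pure D d`: as `AbFilt.Ax`, but the polynomial of a nonzero object is only required to
be eventually nonnegative (truncated Hilbert polynomials: slope stability, `ℓ`-stability).
`hpf` is a chosen polynomial.
APPEND-ONLY once landed.
-/

set_option autoImplicit false
set_option linter.all false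
set_option maxHeartbeats 1600000

universe u v
open CategoryTheory CategoryTheory.Limits Polynomial StabCat

namespace Groth.Agent.Lib.AbFiltW

open Groth.Agent.Lib.AbFilt

open Groth.Agent.Lib.PolyOrd

variable {C : Type u} [Category.{v} C] [Abelian C]

/-- axioms of a polynomial stability theory. -/
structure AxW (ok : C → Prop) (HP : C → ℚ[X] → Prop) (Pure D : C → Prop) (d : ℕ) : Prop where
  ok_iso : ∀ {A B : C}, (A ≅ B) → ok A → ok B
  ok_kernel : ∀ {A B : C} (f : A ⟶ B), ok A → ok B → ok (kernel f)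
  ok_cokernel : ∀ {A B : C} (f : A ⟶ B), ok A → ok B → ok (cokernel f)
  ok_biprod : ∀ {A B : C}, ok A → ok B → ok (A ⊞ B)
  ok_ext : ∀ (S : ShortComplex C), S.ShortExact → ok S.X₁ → ok S.X₃ → ok S.X₂
  hp_exists : ∀ {A : C}, ok A → ∃ P, HP A P
  hp_unique : ∀ {A : C} {P Q : ℚ[X]}, HP A P → HP A Q → P = Q
  hp_iso : ∀ {A B : C} {P : ℚ[X]}, (A ≅ B) → HP A P → HP B P
  hp_add : ∀ (S : ShortComplex C), S.ShortExact → ok S.X₁ → ok S.X₂ → ok S.X₃ →
    ∀ {P₁ P₃ : ℚ[X]}, HP S.X₁ P₁ → HP S.X₃ P₃ → HP S.X₂ (P₁ + P₃)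
  hp_nonneg : ∀ {A : C} {P : ℚ[X]}, ok A → D A → HP A P → PolyLE 0 P
  D_sub : ∀ {A B : C} (f : A ⟶ B), Mono f → D B → D A
  D_quot : ∀ {A B : C} (f : A ⟶ B), Epi f → ok A → ok B → D A → D B
  D_of_pure : ∀ {A : C}, ok A → ¬ IsZero A → Pure A → D A
  alpha_nonneg : ∀ {A : C} {P : ℚ[X]}, ok A → D A → HP A P → 0 ≤ alpha d P
  alpha_int : ∀ {A : C} {P : ℚ[X]}, ok A → D A → HP A P → ∃ n : ℤ, alpha d P = n
  pure_iso : ∀ {A B : C}, (A ≅ B) → Pure A → Pure B
  pure_pos : ∀ {E F : C} (ι : F ⟶ E), Pure E → Mono ι → ok F → ¬ IsZero F →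
    ∀ {P : ℚ[X]}, HP F P → 0 < alpha d P
  pure_of_pos : ∀ {E : C}, ok E → D E →
    (∀ (F : C) (ι : F ⟶ E), Mono ι → ok F → ¬ IsZero F → ∀ P : ℚ[X], HP F P → 0 < alpha d P) →
      Pure E
  acc : ∀ (E : C), ok E →
    WellFounded (fun S T : {S : Subobject E // ok (S : C)} => T.1 < S.1)

/-- a chosen Hilbert polynomial. -/
noncomputable def hpf (HP : C → ℚ[X] → Prop) (A : C) : ℚ[X] :=
  open Classical in if h : ∃ P, HP A P then Classical.choose h else 0

section Basic

variable {ok : C → Prop} {HP : C → ℚ[X] → Prop} {Pure D : C → Prop} {d : ℕ}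
  (ax : AxW ok HP Pure D d)

include ax

theorem hpf_spec {A : C} (hA : ok A) : HP A (hpf HP A) := by
  unfold hpf
  rw [dif_pos (ax.hp_exists hA)]
  exact Classical.choose_spec (ax.hp_exists hA)

theorem hpf_eq {A : C} (hA : ok A) {P : ℚ[X]} (hP : HP A P) : hpf HP A = P :=
  ax.hp_unique (hpf_spec ax hA) hP

theorem hpf_iso {A B : C} (e : A ≅ B) (hA : ok A) : hpf HP A = hpf HP B :=
  (hpf_eq ax (ax.ok_iso e hA) (ax.hp_iso e (hpf_spec ax hA))).symm

theorem hpf_add (S : ShortComplex C) (hS : S.ShortExact) (h₁ : ok S.X₁) (h₂ : ok S.X₂)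
    (h₃ : ok S.X₃) : hpf HP S.X₂ = hpf HP S.X₁ + hpf HP S.X₃ :=
  hpf_eq ax h₂ (ax.hp_add S hS h₁ h₂ h₃ (hpf_spec ax h₁) (hpf_spec ax h₃))

theorem hpf_of_isZero {A : C} (hA : ok A) (hz : IsZero A) : hpf HP A = 0 := by
  let S : ShortComplex C := ShortComplex.mk (𝟙 A) (0 : A ⟶ A) (by simp)
  have hS : S.ShortExact := by
    haveI : Mono S.f := by dsimp [S]; infer_instance
    haveI : Epi S.g := ⟨fun a b _ => hz.eq_of_src a b⟩
    exact ShortComplex.ShortExact.mk (ShortComplex.exact_of_isZero_X₂ S hz)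
  have h := hpf_add ax S hS hA hA hA
  have h4 : hpf HP A + hpf HP A = hpf HP A + 0 := by rw [add_zero]; exact h.symm
  exact add_left_cancel h4

theorem hpf_nonneg {A : C} (hA : ok A) (hD : D A) : PolyLE 0 (hpf HP A) :=
  ax.hp_nonneg hA hD (hpf_spec ax hA)

theorem D_iso {A B : C} (e : A ≅ B) (hA : D A) : D B :=
  ax.D_sub e.inv inferInstance hA

theorem ok_of_isZero {A : C} (E : C) (hE : ok E) (hz : IsZero A) : ok A := by
  -- `A` is the kernel of the identity of `E`
  have h1 : IsZero (kernel (𝟙 E)) := by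
    have : kernel.ι (𝟙 E) = 0 := by
      have := kernel.condition (𝟙 E)
      rwa [Category.comp_id] at this
    exact IsZero.of_mono_eq_zero _ this
  exact ax.ok_iso (h1.iso hz) (ax.ok_kernel _ hE hE)

/-! #### subobjects -/

variable {E : C}

theorem ok_top (hE : ok E) : ok ((⊤ : Subobject E) : C) :=
  ax.ok_iso (asIso (⊤ : Subobject E).arrow).symm hE

theorem ok_bot (hE : ok E) : ok ((⊥ : Subobject E) : C) :=
  ok_of_isZero ax E hE ((eq_bot_iff_isZero _).mp rfl)

theorem ok_inf (hE : ok E) {S T : Subobject E} (hS : ok (S : C)) (hT : ok (T : C)) :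
    ok ((S ⊓ T : Subobject E) : C) :=
  ax.ok_iso (kernelDiffMapIso S T) (ax.ok_kernel _ (ax.ok_biprod hS hT) hE)

theorem ok_imageSubobject {A : C} (φ : A ⟶ E) (hA : ok A) (hE : ok E) :
    ok ((imageSubobject φ : Subobject E) : C) := by
  have h1 : ok (Abelian.image φ) := ax.ok_kernel _ hE (ax.ok_cokernel _ hA hE)
  exact ax.ok_iso ((Abelian.imageIsoImage φ) ≪≫ (imageSubobjectIso φ).symm) h1

theorem ok_sup (hE : ok E) {S T : Subobject E} (hS : ok (S : C)) (hT : ok (T : C)) :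
    ok ((S ⊔ T : Subobject E) : C) :=
  ax.ok_iso (imageDiffMapIso S T) (ok_imageSubobject ax _ (ax.ok_biprod hS hT) hE)

theorem ok_quot {S T : Subobject E} (h : S ≤ T) (hS : ok (S : C)) (hT : ok (T : C)) :
    ok (cokernel (Subobject.ofLE S T h)) := ax.ok_cokernel _ hS hT

theorem hpf_quot {S T : Subobject E} (h : S ≤ T) (hS : ok (S : C)) (hT : ok (T : C)) :
    hpf HP (T : C) = hpf HP (S : C) + hpf HP (cokernel (Subobject.ofLE S T h)) :=
  hpf_add ax (cokerSC (Subobject.ofLE S T h)) (cokerSC_shortExact _) hS hT (ok_quot ax h hS hT)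

theorem hpf_inf_sup (hE : ok E) {S T : Subobject E} (hS : ok (S : C)) (hT : ok (T : C)) :
    hpf HP (S : C) + hpf HP (T : C) =
      hpf HP ((S ⊓ T : Subobject E) : C) + hpf HP ((S ⊔ T : Subobject E) : C) := by
  have hB := ax.ok_biprod hS hT
  have h1 := hpf_add ax (biprodSC (S : C) (T : C)) (biprodSC_shortExact _ _) hS hB hT
  have hK : ok (kernel (diffMap S T)) := ax.ok_kernel _ hB hE
  have hI := ok_imageSubobject ax (diffMap S T) hB hE
  have h2 := hpf_add ax (kerImSC (diffMap S T)) (kerImSC_shortExact _) hK hB hI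
  have h3 : hpf HP (kernel (diffMap S T)) = hpf HP ((S ⊓ T : Subobject E) : C) :=
    hpf_iso ax (kernelDiffMapIso S T) hK
  have h4 : hpf HP ((imageSubobject (diffMap S T) : Subobject E) : C) =
      hpf HP ((S ⊔ T : Subobject E) : C) := hpf_iso ax (imageDiffMapIso S T) hI
  have h1' : hpf HP ((S : C) ⊞ (T : C)) = hpf HP (S : C) + hpf HP (T : C) := h1
  have h2' : hpf HP ((S : C) ⊞ (T : C)) = hpf HP (kernel (diffMap S T)) +
      hpf HP ((imageSubobject (diffMap S T) : Subobject E) : C) := h2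
  rw [← h1', h2', h3, h4]

end Basic

end Groth.Agent.Lib.AbFiltW
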