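import Mathlib
import Groth.Prelude
import Groth.Agent.Lib.AbFiltW4_helper6

/-!
# Uniqueness of Harder–Narasimhan filtrations, weak axioms (helper6)

`hom_eq_zero_of_redLT`: no morphisms from a semistable object to a semistable object of smaller
reduced polynomial.  `HN_unique`: uniqueness of the Harder–Narasimhan filtration.
APPEND-ONLY once landed.
-/

set_option autoImplicit false
set_option linter.all false
set_option maxHeartbeats 1600000

universe u v
open CategoryTheory CategoryTheory.Limits Polynomial StabCat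

namespace Groth.Agent.Lib.AbFiltW

open Groth.Agent.Lib.AbFilt

open Groth.Agent.Lib.PolyOrd

variable {C : Type u} [Category.{v} C] [Abelian C]

/-- the map induced on factors by inclusions, nonzero as soon as `A ≰ B₀`. -/
theorem exists_factor_hom_ne_zero {E : C} {A₀ A B₀ B : Subobject E} (hA : A₀ ≤ A) (hB : B₀ ≤ B)
    (h0 : A₀ ≤ B₀) (h1 : A ≤ B) (hn : ¬ A ≤ B₀) :
    ∃ ψ : cokernel (Subobject.ofLE A₀ A hA) ⟶ cokernel (Subobject.ofLE B₀ B hB), ψ ≠ 0 := by
  have w : Subobject.ofLE A₀ A hA ≫ (Subobject.ofLE A B h1 ≫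
      cokernel.π (Subobject.ofLE B₀ B hB)) = 0 := by
    have : Subobject.ofLE A₀ A hA ≫ Subobject.ofLE A B h1 =
        Subobject.ofLE A₀ B₀ h0 ≫ Subobject.ofLE B₀ B hB := by
      rw [Subobject.ofLE_comp_ofLE, Subobject.ofLE_comp_ofLE]
    rw [← Category.assoc, this, Category.assoc, cokernel.condition, Limits.comp_zero]
  refine ⟨cokernel.desc _ _ w, fun h => hn ?_⟩
  have h2 : Subobject.ofLE A B h1 ≫ cokernel.π (Subobject.ofLE B₀ B hB) = 0 := by
    have := cokernel.π_desc _ _ w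
    rw [h, Limits.comp_zero] at this
    exact this.symm
  obtain ⟨y, hy⟩ := exists_lift_of_comp_cokernel (Subobject.ofLE B₀ B hB) _ h2
  refine Subobject.le_of_comm y ?_
  rw [← Subobject.ofLE_arrow hB, ← Category.assoc, hy, Subobject.ofLE_arrow]

section Hom

variable {ok : C → Prop} {HP : C → ℚ[X] → Prop} {Pure D : C → Prop} {d : ℕ}
  (ax : AxW ok HP Pure D d)

include ax

theorem alpha_pos_of_SSp {A : C} (hA : SSp ok HP Pure d A) : 0 < alpha d (hpf HP A) :=
  ax.pure_pos (𝟙 A) hA.2.2.1 inferInstance hA.1 hA.2.1 (hpf_spec ax hA.1)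

/-- a nonzero morphism of semistable objects forces `p(F) ≤ p(G)`. -/
theorem redLE_of_hom_ne_zero {F G : C} (hF : SSp ok HP Pure d F) (hG : SSp ok HP Pure d G)
    (φ : F ⟶ G) (hφ : φ ≠ 0) : RedLE d (hpf HP F) (hpf HP G) := by
  have hIok : ok ((imageSubobject φ : Subobject G) : C) := ok_imageSubobject ax φ hF.1 hG.1
  have hKok : ok (kernel φ) := ax.ok_kernel φ hF.1 hG.1
  have hI0 : ¬ IsZero ((imageSubobject φ : Subobject G) : C) := by
    intro hz
    apply hφ
    rw [← imageSubobject_arrow_comp φ, hz.eq_of_tgt (factorThruImageSubobject φ) 0, Limits.zero_comp]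
  have hsum : hpf HP F = hpf HP (kernel φ) + hpf HP ((imageSubobject φ : Subobject G) : C) :=
    hpf_add ax (kerImSC φ) (kerImSC_shortExact φ) hKok hF.1 hIok
  have aI : 0 < alpha d (hpf HP ((imageSubobject φ : Subobject G) : C)) :=
    ax.pure_pos (imageSubobject φ).arrow hG.2.2.1 inferInstance hIok hI0 (hpf_spec ax hIok)
  have aF := alpha_pos_of_SSp ax hF
  have aG := alpha_pos_of_SSp ax hG
  have h1 : RedLE d (hpf HP F) (hpf HP ((imageSubobject φ : Subobject G) : C)) := by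
    by_cases hK0 : IsZero (kernel φ)
    · rw [hsum, hpf_of_isZero ax hKok hK0, zero_add]
      exact redLE_refl d _
    · have hni : ¬ IsIso (kernel.ι φ) := by
        intro h
        apply hφ
        rw [← cancel_epi (kernel.ι φ), kernel.condition, Limits.comp_zero]
      exact redLE_quot hsum (hF.2.2.2 _ (kernel.ι φ) inferInstance hKok hK0 hni _ _
        (hpf_spec ax hKok) (hpf_spec ax hF.1))
  have h2 : RedLE d (hpf HP ((imageSubobject φ : Subobject G) : C)) (hpf HP G) := by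
    by_cases hiso : IsIso (imageSubobject φ).arrow
    · rw [hpf_iso ax (asIso (imageSubobject φ).arrow) hIok]
      exact redLE_refl d _
    · exact hG.2.2.2 _ (imageSubobject φ).arrow inferInstance hIok hI0 hiso _ _
        (hpf_spec ax hIok) (hpf_spec ax hG.1)
  exact redLE_trans aF.le aI aG.le h1 h2

theorem hom_eq_zero_of_redLT {F G : C} (hF : SSp ok HP Pure d F) (hG : SSp ok HP Pure d G)
    (hlt : RedLT d (hpf HP G) (hpf HP F)) (φ : F ⟶ G) : φ = 0 := by
  by_contra hφ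
  exact not_redLT_of_redLE (redLE_of_hom_ne_zero ax hF hG φ hφ) hlt

end Hom

section Unique

variable {ok : C → Prop} {HP : C → ℚ[X] → Prop} {Pure D : C → Prop} {d : ℕ}
  (ax : AxW ok HP Pure D d) {E : C}

include ax

/-- the polynomials of the factors of a Harder–Narasimhan filtration decrease. -/
theorem HN_chain (t : LTSeries (Subobject E)) (ht : IsHNWith (SSp ok HP Pure d) HP d E t) :
    ∀ (k : ℕ) (i j : Fin t.length), j.val = i.val + k →
      (RedLE d (hpf HP (StabCat.factor t j)) (hpf HP (StabCat.factor t i))) ∧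
        (0 < k → RedLT d (hpf HP (StabCat.factor t j)) (hpf HP (StabCat.factor t i))) := by
  have hpos : ∀ i, 0 < alpha d (hpf HP (StabCat.factor t i)) :=
    fun i => alpha_pos_of_SSp ax (ht.2.2.1 i)
  have hstep : ∀ i j : Fin t.length, i.val + 1 = j.val →
      RedLT d (hpf HP (StabCat.factor t j)) (hpf HP (StabCat.factor t i)) :=
    fun i j hij => ht.2.2.2 i j hij _ _ (hpf_spec ax (ht.2.2.1 i).1) (hpf_spec ax (ht.2.2.1 j).1)
  intro k
  induction k with
  | zero =>
    intro i j h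
    have : j = i := Fin.ext (by simpa using h)
    rw [this]
    exact ⟨redLE_refl d _, fun h => absurd h (lt_irrefl 0)⟩
  | succ k ih =>
    intro i j h
    have hlt : i.val + k < t.length := by have := j.isLt; omega
    have h1 := (ih i ⟨i.val + k, hlt⟩ rfl).1
    have h2 := hstep ⟨i.val + k, hlt⟩ j (by simp only [h]; omega)
    have h3 := redLT_of_lt_of_le (hpos j).le (hpos _) (hpos i) h2 h1
    exact ⟨redLE_of_redLT h3, fun _ => h3⟩

/-- one step of the comparison of two Harder–Narasimhan filtrations. -/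
theorem HN_step (s t : LTSeries (Subobject E)) (hs : IsHNWith (SSp ok HP Pure d) HP d E s)
    (ht : IsHNWith (SSp ok HP Pure d) HP d E t) (i : ℕ) (his : i < s.length) (hit : i < t.length)
    (heq : s ⟨i, Nat.lt_succ_of_lt his⟩ = t ⟨i, Nat.lt_succ_of_lt hit⟩) :
    RedLE d (hpf HP (StabCat.factor s ⟨i, his⟩)) (hpf HP (StabCat.factor t ⟨i, hit⟩)) ∧
      (RedLE d (hpf HP (StabCat.factor t ⟨i, hit⟩)) (hpf HP (StabCat.factor s ⟨i, his⟩)) →
        s ⟨i + 1, Nat.succ_lt_succ his⟩ ≤ t ⟨i + 1, Nat.succ_lt_succ hit⟩) := by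
  classical
  -- the minimal index `j` with `s (i+1) ≤ t j`
  have hex : ∃ j : ℕ, ∃ hj : j < t.length + 1, s ⟨i + 1, Nat.succ_lt_succ his⟩ ≤ t ⟨j, hj⟩ := by
    refine ⟨t.length, Nat.lt_succ_self _, ?_⟩
    have : t ⟨t.length, Nat.lt_succ_self _⟩ = ⊤ := ht.2.1
    rw [this]; exact le_top
  obtain ⟨j, ⟨hj, hle⟩, hmin⟩ : ∃ j, (∃ hj : j < t.length + 1,
      s ⟨i + 1, Nat.succ_lt_succ his⟩ ≤ t ⟨j, hj⟩) ∧
      ∀ m < j, ¬ ∃ hm : m < t.length + 1, s ⟨i + 1, Nat.succ_lt_succ his⟩ ≤ t ⟨m, hm⟩ :=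
    ⟨Nat.find hex, Nat.find_spec hex, fun m hm => Nat.find_min hex hm⟩
  have hsstep : s ⟨i, Nat.lt_succ_of_lt his⟩ < s ⟨i + 1, Nat.succ_lt_succ his⟩ :=
    s.step ⟨i, his⟩
  have htmono : Monotone t.toFun := (LTSeries.strictMono t).monotone
  -- `j > i`
  have hji : i < j := by
    by_contra hcon
    have hji' : j ≤ i := not_lt.mp hcon
    have h1 : t ⟨j, hj⟩ ≤ t ⟨i, Nat.lt_succ_of_lt hit⟩ := htmono (by
      show (⟨j, hj⟩ : Fin (t.length + 1)) ≤ ⟨i, _⟩
      exact hji')
    have h2 := hle.trans h1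
    rw [← heq] at h2
    exact absurd hsstep (not_lt_of_ge h2)
  obtain ⟨j', rfl⟩ : ∃ j', j = j' + 1 := ⟨j - 1, by omega⟩
  have hj' : j' < t.length := Nat.lt_of_succ_lt_succ hj
  have hij' : i ≤ j' := Nat.lt_succ_iff.mp hji
  have hnle : ¬ s ⟨i + 1, Nat.succ_lt_succ his⟩ ≤ t ⟨j', Nat.lt_succ_of_lt hj'⟩ := by
    intro h
    exact hmin j' (Nat.lt_succ_self _) ⟨Nat.lt_succ_of_lt hj', h⟩
  have h0 : s ⟨i, Nat.lt_succ_of_lt his⟩ ≤ t ⟨j', Nat.lt_succ_of_lt hj'⟩ := by
    rw [heq]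
    exact htmono (by
      show (⟨i, _⟩ : Fin (t.length + 1)) ≤ ⟨j', _⟩
      exact hij')
  -- the nonzero map between factors
  obtain ⟨ψ, hψ⟩ := exists_factor_hom_ne_zero (le_of_lt (s.step ⟨i, his⟩))
    (le_of_lt (t.step ⟨j', hj'⟩)) h0 hle hnle
  have hψ' : RedLE d (hpf HP (StabCat.factor s ⟨i, his⟩)) (hpf HP (StabCat.factor t ⟨j', hj'⟩)) :=
    redLE_of_hom_ne_zero ax (hs.2.2.1 ⟨i, his⟩) (ht.2.2.1 ⟨j', hj'⟩) ψ hψ
  have hchain := HN_chain ax t ht (j' - i) ⟨i, hit⟩ ⟨j', hj'⟩ (by simp only; omega)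
  have aS := alpha_pos_of_SSp ax (hs.2.2.1 ⟨i, his⟩)
  have aT := alpha_pos_of_SSp ax (ht.2.2.1 ⟨i, hit⟩)
  have aT' := alpha_pos_of_SSp ax (ht.2.2.1 ⟨j', hj'⟩)
  refine ⟨redLE_trans aS.le aT' aT.le hψ' hchain.1, fun hback => ?_⟩
  rcases Nat.eq_or_lt_of_le hij' with heq' | hlt'
  · subst heq'
    exact hle
  · exfalso
    have h3 := hchain.2 (by omega)
    -- p(t_j') < p(t_i) ≤ p(s_i) ≤ p(t_j')
    have h4 := redLT_of_lt_of_le aT'.le aT aS h3 hback
    exact not_redLT_of_redLE hψ' h4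

/-- uniqueness of the Harder–Narasimhan filtration. -/
theorem HN_unique (s t : LTSeries (Subobject E)) (hs : IsHNWith (SSp ok HP Pure d) HP d E s)
    (ht : IsHNWith (SSp ok HP Pure d) HP d E t) : s = t := by
  have key : ∀ n : ℕ, ∀ (hns : n < s.length + 1) (hnt : n < t.length + 1),
      s ⟨n, hns⟩ = t ⟨n, hnt⟩ := by
    intro n
    induction n with
    | zero =>
      intro hns hnt
      have h1 : s ⟨0, hns⟩ = ⊥ := hs.1
      have h2 : t ⟨0, hnt⟩ = ⊥ := ht.1
      rw [h1, h2]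
    | succ n ih =>
      intro hns hnt
      have his : n < s.length := Nat.lt_of_succ_lt_succ hns
      have hit : n < t.length := Nat.lt_of_succ_lt_succ hnt
      have heq := ih (Nat.lt_succ_of_lt his) (Nat.lt_succ_of_lt hit)
      obtain ⟨a1, a2⟩ := HN_step ax s t hs ht n his hit heq
      obtain ⟨b1, b2⟩ := HN_step ax t s ht hs n hit his heq.symm
      exact le_antisymm (a2 b1) (b2 a1)
  have hlen : s.length = t.length := by
    rcases lt_trichotomy s.length t.length with h | h | h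
    · exfalso
      have h1 := key s.length (Nat.lt_succ_self _) (Nat.lt_succ_of_lt h)
      have h2 : s ⟨s.length, Nat.lt_succ_self _⟩ = ⊤ := hs.2.1
      have h3 : t ⟨s.length, Nat.lt_succ_of_lt h⟩ < t ⟨s.length + 1, Nat.succ_lt_succ h⟩ :=
        t.step ⟨s.length, h⟩
      rw [← h1, h2] at h3
      exact absurd h3 not_top_lt
    · exact h
    · exfalso
      have h1 := key t.length (Nat.lt_succ_of_lt h) (Nat.lt_succ_self _)
      have h2 : t ⟨t.length, Nat.lt_succ_self _⟩ = ⊤ := ht.2.1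
      have h3 : s ⟨t.length, Nat.lt_succ_of_lt h⟩ < s ⟨t.length + 1, Nat.succ_lt_succ h⟩ :=
        s.step ⟨t.length, h⟩
      rw [h1, h2] at h3
      exact absurd h3 not_top_lt
  apply RelSeries.ext hlen
  funext x
  exact key x.val x.isLt (by rw [← hlen]; exact x.isLt)

end Unique

end Groth.Agent.Lib.AbFiltW
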