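import Mathlib
import Groth.Prelude
import Groth.Agent.Lib.AbFilt2_helper6
import Groth.Agent.Lib.AbFiltW5_helper6

/-!
# Truncated polynomial stability theories (helper6)

`axW_of_trunc`: a polynomial stability theory `AbFilt.Ax` and an additive truncation `τ` of
polynomials keeping the multiplicity and eventual nonnegativity give a weak theory `AxW` for the
truncated polynomials `HPt HP τ`.
APPEND-ONLY once landed.
-/

set_option autoImplicit false
set_option linter.all false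
set_option maxHeartbeats 1600000

universe u v
open CategoryTheory CategoryTheory.Limits Polynomial StabCat

namespace Groth.Agent.Lib.AbFiltW

variable {C : Type u} [Category.{v} C] [Abelian C]

/-- the truncated polynomial relation. -/
def HPt (HP : C → ℚ[X] → Prop) (τ : ℚ[X] → ℚ[X]) (A : C) (P : ℚ[X]) : Prop :=
  ∃ Q, HP A Q ∧ P = τ Q

theorem axW_of_trunc {ok : C → Prop} {HP : C → ℚ[X] → Prop} {Pure D : C → Prop} {d : ℕ}
    (ax : AbFilt.Ax ok HP Pure D d) (τ : ℚ[X] → ℚ[X])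
    (hadd : ∀ P Q, τ (P + Q) = τ P + τ Q) (hα : ∀ P, alpha d (τ P) = alpha d P)
    (hnn : ∀ {A : C} {P : ℚ[X]}, ok A → D A → HP A P → PolyLE 0 (τ P)) :
    AxW ok (HPt HP τ) Pure D d where
  ok_iso := ax.ok_iso
  ok_kernel := ax.ok_kernel
  ok_cokernel := ax.ok_cokernel
  ok_biprod := ax.ok_biprod
  ok_ext := ax.ok_ext
  hp_exists := fun hA => by
    obtain ⟨Q, hQ⟩ := ax.hp_exists hA
    exact ⟨τ Q, Q, hQ, rfl⟩
  hp_unique := by
    rintro A P Q ⟨P', hP', rfl⟩ ⟨Q', hQ', rfl⟩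
    rw [ax.hp_unique hP' hQ']
  hp_iso := by
    rintro A B P e ⟨Q, hQ, rfl⟩
    exact ⟨Q, ax.hp_iso e hQ, rfl⟩
  hp_add := by
    rintro S hS h1 h2 h3 P1 P3 ⟨Q1, hQ1, rfl⟩ ⟨Q3, hQ3, rfl⟩
    exact ⟨Q1 + Q3, ax.hp_add S hS h1 h2 h3 hQ1 hQ3, (hadd _ _).symm⟩
  hp_nonneg := by
    rintro A P hA hD ⟨Q, hQ, rfl⟩
    exact hnn hA hD hQ
  D_sub := ax.D_sub
  D_quot := ax.D_quot
  D_of_pure := ax.D_of_pure
  alpha_nonneg := by
    rintro A P hA hD ⟨Q, hQ, rfl⟩
    rw [hα]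
    exact ax.alpha_nonneg hA hD hQ
  alpha_int := by
    rintro A P hA hD ⟨Q, hQ, rfl⟩
    rw [hα]
    exact ax.alpha_int hA hD hQ
  pure_iso := ax.pure_iso
  pure_pos := by
    rintro E F ι hp hι hF hz P ⟨Q, hQ, rfl⟩
    rw [hα]
    exact ax.pure_pos ι hp hι hF hz hQ
  pure_of_pos := by
    intro E hE hD h
    refine ax.pure_of_pos hE hD ?_
    intro F ι hι hF hz P hP
    have := h F ι hι hF hz (τ P) ⟨P, hP, rfl⟩
    rwa [hα] at this
  acc := ax.acc

end Groth.Agent.Lib.AbFiltW
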