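import Mathlib
import Groth.Prelude
import Groth.Agent.Lib.AbFiltW5_helper6
import Groth.Agent.Lib.Filt_helper6

/-!
# The last Harder–Narasimhan factor as minimal destabilising quotient, weak axioms (helper6)

`exists_factor_hom_sub`: a nonzero morphism out of a term of a filtration induces a nonzero morphism
out of an earlier factor.  `lastFactor_redLE`: the last Harder–Narasimhan factor has the smallest
reduced polynomial, strictly if there are at least two factors.
`lastFactor_iso_of_pure_quot`: a pure quotient with the multiplicity and the reduced polynomial of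
the last Harder–Narasimhan factor is that factor.
APPEND-ONLY once landed.
-/

set_option autoImplicit false
set_option linter.all false
set_option maxHeartbeats 1600000

universe u v
open CategoryTheory CategoryTheory.Limits Polynomial StabCat

namespace Groth.Agent.Lib.AbFiltW

open Groth.Agent.Lib.AbFilt

open Groth.Agent.Lib.PolyOrd

variable {C : Type u} [Category.{v} C] [Abelian C]

/-! ### mean lemmas -/

theorem redLT_add_of_lt {d : ℕ} {P P1 P2 : ℚ[X]} (h : P = P1 + P2) (h1 : RedLT d P2 P1) :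
    RedLT d P2 P := by
  obtain ⟨N, hN⟩ := h1
  refine ⟨N, fun m hm => ?_⟩
  have b := hN m hm
  simp only [eval_smul, smul_eq_mul] at b ⊢
  have hα : alpha d P = alpha d P1 + alpha d P2 := by rw [h, alpha_add]
  have hev : P.eval (m : ℚ) = P1.eval (m : ℚ) + P2.eval (m : ℚ) := by rw [h, eval_add]
  rw [hα, hev]
  nlinarith

theorem redLE_add_of_le {d : ℕ} {P P1 P2 : ℚ[X]} (h : P = P1 + P2) (h1 : RedLE d P2 P1) :
    RedLE d P2 P := by
  obtain ⟨N, hN⟩ := h1
  refine ⟨N, fun m hm => ?_⟩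
  have b := hN m hm
  simp only [eval_smul, smul_eq_mul] at b ⊢
  have hα : alpha d P = alpha d P1 + alpha d P2 := by rw [h, alpha_add]
  have hev : P.eval (m : ℚ) = P1.eval (m : ℚ) + P2.eval (m : ℚ) := by rw [h, eval_add]
  rw [hα, hev]
  nlinarith

/-! ### morphisms out of a term of a filtration -/

theorem series_le {E : C} (s : LTSeries (Subobject E)) {a b : ℕ} (ha : a < s.length + 1)
    (hb : b < s.length + 1) (hab : a ≤ b) : s ⟨a, ha⟩ ≤ s ⟨b, hb⟩ :=
  (LTSeries.strictMono s).monotone (show (⟨a, ha⟩ : Fin (s.length + 1)) ≤ ⟨b, hb⟩ from hab)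

/-- a nonzero morphism out of a term of a filtration induces a nonzero morphism out of an earlier
factor. -/
theorem exists_factor_hom_sub {E G : C} (s : LTSeries (Subobject E)) (h0 : s.head = ⊥)
    (j : ℕ) (hj : j < s.length + 1) (φ : ((s ⟨j, hj⟩ : Subobject E) : C) ⟶ G) (hφ : φ ≠ 0) :
    ∃ (i : Fin s.length) (_ : i.val < j) (ψ : factor s i ⟶ G), ψ ≠ 0 := by
  classical
  have hex : ∃ n : ℕ, ∃ hn : n ≤ j,
      Subobject.ofLE (s ⟨n, lt_of_le_of_lt hn hj⟩) (s ⟨j, hj⟩)
        (series_le s _ _ hn) ≫ φ ≠ 0 := by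
    refine ⟨j, le_rfl, ?_⟩
    rw [Subobject.ofLE_refl, Category.id_comp]
    exact hφ
  obtain ⟨n, ⟨hn, hne⟩, hmin⟩ : ∃ n, (∃ hn : n ≤ j,
      Subobject.ofLE (s ⟨n, lt_of_le_of_lt hn hj⟩) (s ⟨j, hj⟩)
        (series_le s _ _ hn) ≫ φ ≠ 0) ∧
      ∀ m < n, ¬ ∃ hm : m ≤ j,
        Subobject.ofLE (s ⟨m, lt_of_le_of_lt hm hj⟩) (s ⟨j, hj⟩)
          (series_le s _ _ hm) ≫ φ ≠ 0 :=
    ⟨Nat.find hex, Nat.find_spec hex, fun m hm => Nat.find_min hex hm⟩
  have hn0 : n ≠ 0 := by
    rintro rfl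
    apply hne
    have hbot : s ⟨0, lt_of_le_of_lt hn hj⟩ = ⊥ := h0
    have hz : IsZero ((s ⟨0, lt_of_le_of_lt hn hj⟩ : Subobject E) : C) :=
      (eq_bot_iff_isZero _).mp hbot
    exact hz.eq_of_src _ _
  obtain ⟨m, rfl⟩ := Nat.exists_eq_succ_of_ne_zero hn0
  have hmj : m < j := hn
  have hm : m < s.length := by omega
  refine ⟨⟨m, hm⟩, hmj, ?_⟩
  have hz : Subobject.ofLE (s ⟨m, lt_of_le_of_lt hmj.le hj⟩) (s ⟨j, hj⟩)
      (series_le s _ _ hmj.le) ≫ φ = 0 := by
    by_contra h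
    exact hmin m (Nat.lt_succ_self m) ⟨hmj.le, h⟩
  have hcomp : Subobject.ofLE (s (Fin.castSucc ⟨m, hm⟩)) (s (Fin.succ ⟨m, hm⟩))
      (le_of_lt (s.step ⟨m, hm⟩)) ≫
        (Subobject.ofLE (s ⟨m + 1, lt_of_le_of_lt hn hj⟩) (s ⟨j, hj⟩)
          (series_le s _ _ hn) ≫ φ) = 0 := by
    rw [← Category.assoc]
    have : Subobject.ofLE (s (Fin.castSucc ⟨m, hm⟩)) (s (Fin.succ ⟨m, hm⟩))
        (le_of_lt (s.step ⟨m, hm⟩)) ≫
          Subobject.ofLE (s ⟨m + 1, lt_of_le_of_lt hn hj⟩) (s ⟨j, hj⟩) (series_le s _ _ hn) =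
        Subobject.ofLE (s ⟨m, lt_of_le_of_lt hmj.le hj⟩) (s ⟨j, hj⟩)
          (series_le s _ _ hmj.le) := Subobject.ofLE_comp_ofLE _ _ _ _ _
    rw [this, hz]
  refine ⟨cokernel.desc _ _ hcomp, ?_⟩
  intro h
  apply hne
  have h' : cokernel.desc (Subobject.ofLE (s (Fin.castSucc ⟨m, hm⟩)) (s (Fin.succ ⟨m, hm⟩))
      (le_of_lt (s.step ⟨m, hm⟩))) _ hcomp = 0 := h
  have := cokernel.π_desc _ _ hcomp
  rw [h', Limits.comp_zero] at this
  exact this.symm

/-- the quotient by a term whose successor is `⊤` is the corresponding factor. -/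
noncomputable def factorIsoCokernelArrow {E : C} (s : LTSeries (Subobject E)) (i : Fin s.length)
    (htop : s i.succ = ⊤) : factor s i ≅ cokernel (s i.castSucc).arrow :=
  cokernelOfLEIsoOfEq rfl htop _ le_top ≪≫
    cokernel.mapIso _ _ (Iso.refl _) (asIso (⊤ : Subobject E).arrow) (by simp)

theorem succ_eq_top {E : C} (s : LTSeries (Subobject E)) (h1 : s.last = ⊤) (i : Fin s.length)
    (hi : i.val + 1 = s.length) : s i.succ = ⊤ := by
  have h2 : i.succ = Fin.last s.length := Fin.ext (by simp [hi])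
  rw [h2]
  exact h1

section LastFactor

variable {ok : C → Prop} {HP : C → ℚ[X] → Prop} {Pure D : C → Prop} {d : ℕ}
  (ax : AxW ok HP Pure D d) {G : C} (hG : ok G) (hG0 : ¬ IsZero G) (hGp : Pure G)
  (t : LTSeries (Subobject G)) (ht : IsHNWith (SSp ok HP Pure d) HP d G t)

include ax hG hG0 hGp ht

theorem ok_term : ∀ (j : ℕ) (hj : j < t.length + 1), ok ((t ⟨j, hj⟩ : Subobject G) : C) := by
  intro j
  induction j with
  | zero =>
    intro hj
    have : t ⟨0, hj⟩ = ⊥ := ht.1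
    rw [this]
    exact ok_bot ax hG
  | succ j ih =>
    intro hj
    have hj' : j < t.length := Nat.lt_of_succ_lt_succ hj
    have h1 := ih (Nat.lt_succ_of_lt hj')
    have h3 : ok (factor t ⟨j, hj'⟩) := (ht.2.2.1 ⟨j, hj'⟩).1
    exact ax.ok_ext (cokerSC (Subobject.ofLE (t (Fin.castSucc ⟨j, hj'⟩)) (t (Fin.succ ⟨j, hj'⟩))
      (le_of_lt (t.step ⟨j, hj'⟩)))) (cokerSC_shortExact _) h1 h3

theorem term_ne_bot (j : ℕ) (hj : j + 1 < t.length + 1) : t ⟨j + 1, hj⟩ ≠ ⊥ := by
  have h0 : t ⟨0, Nat.succ_pos _⟩ = ⊥ := ht.1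
  have hlt : t ⟨0, Nat.succ_pos _⟩ < t ⟨j + 1, hj⟩ :=
    LTSeries.strictMono t (show (⟨0, Nat.succ_pos _⟩ : Fin (t.length + 1)) < ⟨j + 1, hj⟩ from
      Nat.succ_pos j)
  rw [h0] at hlt
  exact (bot_lt_iff_ne_bot.mp hlt)

/-- the factors of a Harder–Narasimhan filtration have reduced polynomial at most that of the
term they complete, strictly from the second factor on. -/
theorem lastFactor_aux : ∀ (j : ℕ) (hj : j < t.length),
    RedLE d (hpf HP (factor t ⟨j, hj⟩))
        (hpf HP ((t ⟨j + 1, Nat.succ_lt_succ hj⟩ : Subobject G) : C)) ∧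
      (1 ≤ j → RedLT d (hpf HP (factor t ⟨j, hj⟩))
        (hpf HP ((t ⟨j + 1, Nat.succ_lt_succ hj⟩ : Subobject G) : C))) := by
  intro j
  induction j with
  | zero =>
    intro hj
    have hbot : t (Fin.castSucc ⟨0, hj⟩) = ⊥ := ht.1
    have e : factor t ⟨0, hj⟩ ≅ ((t (Fin.succ ⟨0, hj⟩) : Subobject G) : C) := by
      unfold StabCat.factor
      exact cokernelOfLEBotIso hbot _
    have h1 : hpf HP (factor t ⟨0, hj⟩) = hpf HP ((t (Fin.succ ⟨0, hj⟩) : Subobject G) : C) :=
      hpf_iso ax e (ht.2.2.1 ⟨0, hj⟩).1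
    refine ⟨?_, fun h => absurd h (by omega)⟩
    rw [h1]
    exact redLE_refl d _
  | succ j ih =>
    intro hj
    have hj' : j < t.length := by omega
    obtain ⟨ih1, -⟩ := ih hj'
    have hlt : RedLT d (hpf HP (factor t ⟨j + 1, hj⟩)) (hpf HP (factor t ⟨j, hj'⟩)) :=
      ht.2.2.2 ⟨j, hj'⟩ ⟨j + 1, hj⟩ rfl _ _ (hpf_spec ax (ht.2.2.1 _).1)
        (hpf_spec ax (ht.2.2.1 _).1)
    have a1 := alpha_pos_of_SSp ax (ht.2.2.1 ⟨j + 1, hj⟩)
    have a2 := alpha_pos_of_SSp ax (ht.2.2.1 ⟨j, hj'⟩)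
    have hok1 := ok_term ax hG hG0 hGp t ht (j + 1) (Nat.succ_lt_succ hj')
    have hok2 := ok_term ax hG hG0 hGp t ht (j + 2) (Nat.succ_lt_succ hj)
    have a3 : 0 < alpha d (hpf HP ((t ⟨j + 1, Nat.succ_lt_succ hj'⟩ : Subobject G) : C)) :=
      alpha_pos_sub ax hG hG0 hGp hok1 (term_ne_bot ax hG hG0 hGp t ht j _)
    have h1 : RedLT d (hpf HP (factor t ⟨j + 1, hj⟩))
        (hpf HP ((t ⟨j + 1, Nat.succ_lt_succ hj'⟩ : Subobject G) : C)) :=
      redLT_of_lt_of_le a1.le a2 a3 hlt ih1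
    have hsum : hpf HP ((t ⟨j + 2, Nat.succ_lt_succ hj⟩ : Subobject G) : C) =
        hpf HP ((t ⟨j + 1, Nat.succ_lt_succ hj'⟩ : Subobject G) : C) +
          hpf HP (factor t ⟨j + 1, hj⟩) :=
      hpf_quot ax (le_of_lt (t.step ⟨j + 1, hj⟩)) hok1 hok2
    have h2 := redLT_add_of_lt hsum h1
    exact ⟨redLE_of_redLT h2, fun _ => h2⟩

/-- the last factor of a Harder–Narasimhan filtration has the smallest reduced polynomial. -/
theorem lastFactor_redLE (j₀ : Fin t.length) (hj₀ : j₀.val + 1 = t.length) :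
    RedLE d (hpf HP (factor t j₀)) (hpf HP G) ∧
      (2 ≤ t.length → RedLT d (hpf HP (factor t j₀)) (hpf HP G)) := by
  obtain ⟨h1, h2⟩ := lastFactor_aux ax hG hG0 hGp t ht j₀.val j₀.isLt
  have htop : t ⟨j₀.val + 1, Nat.succ_lt_succ j₀.isLt⟩ = ⊤ := succ_eq_top t ht.2.1 j₀ hj₀
  have e : hpf HP ((t ⟨j₀.val + 1, Nat.succ_lt_succ j₀.isLt⟩ : Subobject G) : C) = hpf HP G :=
    hpf_iso ax (Subobject.isoOfEq _ _ htop ≪≫ asIso (⊤ : Subobject G).arrow)
      (ok_term ax hG hG0 hGp t ht _ _)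
  rw [e] at h1 h2
  exact ⟨h1, fun h => h2 (by omega)⟩

end LastFactor

section MinQuot

variable {ok : C → Prop} {HP : C → ℚ[X] → Prop} {Pure D : C → Prop} {d : ℕ}
  (ax : AxW ok HP Pure D d)

include ax

theorem length_pos_of_HN {G : C} (hG0 : ¬ IsZero G) (t : LTSeries (Subobject G))
    (ht : IsHNWith (SSp ok HP Pure d) HP d G t) : 0 < t.length := by
  by_contra h
  have h0' : t.length = 0 := by omega
  have hbt : (⊥ : Subobject G) = ⊤ := by
    rw [← ht.1, ← ht.2.1]
    unfold RelSeries.head RelSeries.last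
    congr 1
    apply Fin.ext
    simp [h0']
  apply hG0
  exact IsZero.of_iso ((eq_bot_iff_isZero (⊤ : Subobject G)).mp hbt.symm)
    (asIso (⊤ : Subobject G).arrow).symm

/-- a pure quotient of `E` with the multiplicity and the reduced polynomial of the last
Harder–Narasimhan factor of `E` is that factor. -/
theorem lastFactor_iso_of_pure_quot {E : C} (hE : ok E) (hne : ¬ IsZero E) (hp : Pure E)
    (s : LTSeries (Subobject E)) (hs : IsHNWith (SSp ok HP Pure d) HP d E s)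
    (i₀ : Fin s.length) (hi₀ : i₀.val + 1 = s.length)
    {G : C} (q : E ⟶ G) [Epi q] (hG : ok G) (hG0 : ¬ IsZero G) (hGp : Pure G)
    (hα : alpha d (hpf HP (cokernel (s i₀.castSucc).arrow)) = alpha d (hpf HP G))
    (hred : RedEq d (hpf HP (cokernel (s i₀.castSucc).arrow)) (hpf HP G)) :
    ∃ φ : cokernel (s i₀.castSucc).arrow ≅ G,
      cokernel.π (s i₀.castSucc).arrow ≫ φ.hom = q := by
  classical
  have htop : s i₀.succ = ⊤ := succ_eq_top s hs.2.1 i₀ hi₀
  have eF : factor s i₀ ≅ cokernel (s i₀.castSucc).arrow := factorIsoCokernelArrow s i₀ htop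
  have hFss : SSp ok HP Pure d (cokernel (s i₀.castSucc).arrow) := SSp_iso ax eF (hs.2.2.1 i₀)
  have aF := alpha_pos_of_SSp ax hFss
  have aG : 0 < alpha d (hpf HP G) :=
    ax.pure_pos (𝟙 G) hGp inferInstance hG hG0 (hpf_spec ax hG)
  have hpF_eq : hpf HP (factor s i₀) = hpf HP (cokernel (s i₀.castSucc).arrow) :=
    hpf_iso ax eF (hs.2.2.1 i₀).1
  -- `G` is semistable
  have hGss : SSp ok HP Pure d G := by
    obtain ⟨t, ht⟩ := exists_HN ax hG hG0 hGp
    have htlen : 0 < t.length := length_pos_of_HN ax hG0 t ht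
    obtain ⟨j₀, hj₀⟩ : ∃ j₀ : Fin t.length, j₀.val + 1 = t.length :=
      ⟨⟨t.length - 1, by omega⟩, by simp only; omega⟩
    obtain ⟨hB1, hB2⟩ := lastFactor_redLE ax hG hG0 hGp t ht j₀ hj₀
    have httop : t j₀.succ = ⊤ := succ_eq_top t ht.2.1 j₀ hj₀
    have eG : factor t j₀ ≅ cokernel (t j₀.castSucc).arrow := factorIsoCokernelArrow t j₀ httop
    have hGmin := ht.2.2.1 j₀
    have aGm := alpha_pos_of_SSp ax hGmin
    by_cases h2 : 2 ≤ t.length
    · exfalso
      have hB2' := hB2 h2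
      -- the nonzero map `E → G → G_min`
      have hπ : Epi (cokernel.π (t j₀.castSucc).arrow ≫ eG.inv) := epi_comp _ _
      have hne' : q ≫ cokernel.π (t j₀.castSucc).arrow ≫ eG.inv ≠ 0 := by
        intro h
        apply hGmin.2.1
        rw [IsZero.iff_id_eq_zero]
        haveI : Epi (q ≫ cokernel.π (t j₀.castSucc).arrow ≫ eG.inv) := epi_comp _ _
        rw [← cancel_epi (q ≫ cokernel.π (t j₀.castSucc).arrow ≫ eG.inv), h, Limits.zero_comp,
          Limits.comp_zero]
      obtain ⟨i, ψ, hψ⟩ := Groth.Agent.Lib.FiltH6.exists_factor_hom s hs.1 hs.2.1 _ hne'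
      have h1 := redLE_of_hom_ne_zero ax (hs.2.2.1 i) hGmin ψ hψ
      have h3 := (HN_chain ax s hs (i₀.val - i.val) i i₀ (by
        have := i.isLt
        omega)).1
      have ai := alpha_pos_of_SSp ax (hs.2.2.1 i)
      rw [hpF_eq] at h3
      -- p(F) ≤ p(G_min) < p(G) ≤ p(F)
      have h4 := redLE_trans aF.le ai aGm.le h3 h1
      have h5 := redLT_of_lt_of_le aGm.le aG aF hB2' (redLE_of_redEq' hred)
      exact not_redLT_of_redLE h4 h5
    · have hlen1 : t.length = 1 := by omega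
      have hbot : t j₀.castSucc = ⊥ := by
        have h0 : t 0 = ⊥ := ht.1
        have : j₀.castSucc = 0 := by
          apply Fin.ext
          simp only [Fin.val_castSucc, Fin.val_zero]
          omega
        rw [this]
        exact h0
      exact SSp_iso ax (eG ≪≫ cokernelIsoOfIsZero _ ((eq_bot_iff_isZero _).mp hbot)) hGmin
  -- the restriction of `q` to the last proper term vanishes
  have hzero : (s i₀.castSucc).arrow ≫ q = 0 := by
    by_contra hφ
    obtain ⟨i, hi, ψ, hψ⟩ := exists_factor_hom_sub s hs.1 i₀.val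
      (Nat.lt_succ_of_lt i₀.isLt) ((s i₀.castSucc).arrow ≫ q) hφ
    have h1 := redLE_of_hom_ne_zero ax (hs.2.2.1 i) hGss ψ hψ
    have h3 := (HN_chain ax s hs (i₀.val - i.val) i i₀ (by omega)).2 (by omega)
    have ai := alpha_pos_of_SSp ax (hs.2.2.1 i)
    rw [hpF_eq] at h3
    have h4 := redLE_trans ai.le aG aF.le h1 (redLE_of_redEq' hred)
    exact not_redLT_of_redLE h4 h3
  -- the induced morphism from the last factor
  have hfac : cokernel.π (s i₀.castSucc).arrow ≫ cokernel.desc _ q hzero = q :=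
    cokernel.π_desc _ _ _
  haveI : Epi (cokernel.desc (s i₀.castSucc).arrow q hzero) := epi_of_epi_fac hfac
  have hK : ok (kernel (cokernel.desc (s i₀.castSucc).arrow q hzero)) :=
    ax.ok_kernel _ hFss.1 hG
  have hSE : (ShortComplex.mk (kernel.ι (cokernel.desc (s i₀.castSucc).arrow q hzero))
      (cokernel.desc (s i₀.castSucc).arrow q hzero) (kernel.condition _)).ShortExact :=
    ShortComplex.ShortExact.mk' (ShortComplex.exact_kernel _) inferInstance inferInstance
  have hsum := hpf_add ax _ hSE hK hFss.1 hG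
  have hsum' : hpf HP (cokernel (s i₀.castSucc).arrow) =
      hpf HP (kernel (cokernel.desc (s i₀.castSucc).arrow q hzero)) + hpf HP G := hsum
  have hαK : alpha d (hpf HP (kernel (cokernel.desc (s i₀.castSucc).arrow q hzero))) = 0 := by
    have := congrArg (alpha d) hsum'
    rw [alpha_add] at this
    linarith
  have hK0 : IsZero (kernel (cokernel.desc (s i₀.castSucc).arrow q hzero)) := by
    by_contra hK0
    have := ax.pure_pos (kernel.ι (cokernel.desc (s i₀.castSucc).arrow q hzero)) hFss.2.2.1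
      inferInstance hK hK0 (hpf_spec ax hK)
    rw [hαK] at this
    exact lt_irrefl _ this
  haveI : Mono (cokernel.desc (s i₀.castSucc).arrow q hzero) :=
    Preadditive.mono_of_kernel_zero (hK0.eq_of_src _ _)
  haveI : IsIso (cokernel.desc (s i₀.castSucc).arrow q hzero) := isIso_of_mono_of_epi _
  exact ⟨asIso (cokernel.desc (s i₀.castSucc).arrow q hzero), hfac⟩

end MinQuot

end Groth.Agent.Lib.AbFiltW
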