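import Mathlib
import Groth.Agent.Lib.LocalCrit3_helper9

/-!
# Local criterion of flatness: localized form
-/

namespace Groth.Agent.Lib.LocalCrit7

open TensorProduct Groth.Agent.Lib.LocalCrit2

universe u

section

variable {R : Type*} [CommRing R] (A : Type*) [CommRing A] [Algebra R A]

lemma flat_baseChange_iff_forall_ideal (X : Type*) [AddCommGroup X] [Module R X] :
    Module.Flat A (A ⊗[R] X) ↔
      ∀ 𝔞 : Ideal A, Function.Injective ((𝔞.subtype.restrictScalars R).lTensor X) := by
  constructor
  · intro h 𝔞
    exact lTensor_subtype_injective A 𝔞 X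
  · intro h
    rw [Module.Flat.iff_rTensor_injective']
    intro 𝔞
    have h' : Function.Injective ((𝔞.subtype.restrictScalars R).rTensor X) :=
      (LinearMap.lTensor_inj_iff_rTensor_inj _ _).mp (h 𝔞)
    rw [injective_iff_map_eq_zero]
    intro x hx
    have h1 := cancel_nat_left (R := R) (L := 𝔞) (G := A) A 𝔞.subtype X x
    rw [hx, map_zero] at h1
    have h2 := h' (h1.symm.trans (map_zero _).symm)
    exact (AlgebraTensorModule.cancelBaseChange R A A 𝔞 X).injective
      (h2.trans (map_zero _).symm)

end

lemma lTensor_localizedModule_injective {R S : Type*} [CommRing R] [CommRing S] [Algebra R S]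
    (T : Submonoid S) (M : Type*) [AddCommGroup M] [Module S M] [Module R M] [IsScalarTower R S M]
    {N P : Type*} [AddCommGroup N] [Module R N] [AddCommGroup P] [Module R P] (f : N →ₗ[R] P)
    (h : Function.Injective (f.lTensor M)) :
    Function.Injective (f.lTensor (LocalizedModule T M)) := by
  have h1 := IsLocalizedModule.map_injective T
    (AlgebraTensorModule.rTensor R N (LocalizedModule.mkLinearMap T M))
    (AlgebraTensorModule.rTensor R P (LocalizedModule.mkLinearMap T M))
    (AlgebraTensorModule.lTensor S M f) h
  rw [IsLocalizedModule.map_lTensor] at h1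
  exact h1

/-- For a map of Noetherian rings `R → S`, an ideal `I` of `R` and a finite `S`-module `M` such
that `M/IⁿM` is flat over `R/Iⁿ` for every `n ≥ 1`, the localization of `M` at any prime of `S`
containing `IS` is flat over `R`. -/
theorem flat_localizedModule_of_forall_flat_quot_pow {R S M : Type u} [CommRing R] [CommRing S]
    [IsNoetherianRing R] [IsNoetherianRing S] [Algebra R S]
    [AddCommGroup M] [Module R M] [Module S M] [IsScalarTower R S M] [Module.Finite S M]
    (I : Ideal R)
    (h : ∀ n : ℕ, 0 < n → Module.Flat (R ⧸ I ^ n) ((R ⧸ I ^ n) ⊗[R] M))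
    (q : Ideal S) [q.IsPrime] (hq : I.map (algebraMap R S) ≤ q) :
    Module.Flat R (LocalizedModule q.primeCompl M) := by
  refine Groth.Agent.Lib.LocalCrit3.flat_of_forall_flat_quot_pow (S := Localization.AtPrime q) I ?_
    (LocalizedModule q.primeCompl M) ?_
  · rw [IsScalarTower.algebraMap_eq R S (Localization.AtPrime q), ← Ideal.map_map]
    refine (Ideal.map_mono hq).trans ?_
    rw [Localization.AtPrime.map_eq_maximalIdeal]
    exact IsLocalRing.maximalIdeal_le_jacobson ⊥
  · intro n
    rw [flat_baseChange_iff_forall_ideal]
    intro 𝔞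
    exact lTensor_localizedModule_injective q.primeCompl M _
      ((flat_baseChange_iff_forall_ideal _ M).mp (h (n + 1) (Nat.succ_pos n)) 𝔞)

end Groth.Agent.Lib.LocalCrit7
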