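import Mathlib
import Groth.Prelude.Def_CAlgX

/-!
# The Jacobian criterion for adic formal smoothness of a quotient (helper1)

Derivation lifting, the modules `K/(K² + 𝔞K)`, passing from `𝔞` to `𝔞^M`.
APPEND-ONLY once landed.
-/

set_option autoImplicit false

namespace Groth.Agent.Lib.AdicJacH1

open TensorProduct

universe u

variable {A B : Type u} [CommRing A] [CommRing B] [Algebra A B]

/-- Lifting derivations along surjections of `B ⧸ 𝔄`-modules, for `B` adically formally smooth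
and `𝔄` open. -/
theorem exists_derivation_lift (I : Ideal B) (h : CAlgX.IsAdicFormallySmooth A B I)
    (𝔄 : Ideal B) (h𝔄 : ∃ n : ℕ, I ^ n ≤ 𝔄)
    {P Q : Type u} [AddCommGroup P] [Module (B ⧸ 𝔄) P] [Module B P] [IsScalarTower B (B ⧸ 𝔄) P]
    [Module A P] [IsScalarTower A B P] [IsScalarTower A (B ⧸ 𝔄) P]
    [AddCommGroup Q] [Module (B ⧸ 𝔄) Q] [Module B Q] [IsScalarTower B (B ⧸ 𝔄) Q]
    [Module A Q] [IsScalarTower A B Q] [IsScalarTower A (B ⧸ 𝔄) Q]
    (f : P →ₗ[B ⧸ 𝔄] Q) (hf : Function.Surjective f) (D : Derivation A B Q) :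
    ∃ D' : Derivation A B P, ∀ b, f (D' b) = D b := by
  classical
  let iP : Module (B ⧸ 𝔄)ᵐᵒᵖ P :=
    Module.compHom P ((RingHom.id (B ⧸ 𝔄)).fromOpposite fun _ _ => Commute.all _ _)
  have cP : IsCentralScalar (B ⧸ 𝔄) P := ⟨fun r m => rfl⟩
  let iQ : Module (B ⧸ 𝔄)ᵐᵒᵖ Q :=
    Module.compHom Q ((RingHom.id (B ⧸ 𝔄)).fromOpposite fun _ _ => Commute.all _ _)
  have cQ : IsCentralScalar (B ⧸ 𝔄) Q := ⟨fun r m => rfl⟩
  have hsmQ : ∀ (b : B) (q : Q), Ideal.Quotient.mk 𝔄 b • q = b • q :=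
    fun b q => algebraMap_smul (B ⧸ 𝔄) b q
  have hsmP : ∀ (b : B) (q : P), Ideal.Quotient.mk 𝔄 b • q = b • q :=
    fun b q => algebraMap_smul (B ⧸ 𝔄) b q
  -- the algebra map attached to `D`
  let u : B →ₐ[A] TrivSqZeroExt (B ⧸ 𝔄) Q :=
    { toFun := fun b => TrivSqZeroExt.inl (Ideal.Quotient.mk 𝔄 b) + TrivSqZeroExt.inr (D b)
      map_one' := by ext <;> simp
      map_mul' := fun a b => by
        ext
        · simp
        · simp [hsmQ, add_comm]
      map_zero' := by ext <;> simp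
      map_add' := fun a b => by ext <;> simp [add_add_add_comm]
      commutes' := fun a => by
        ext
        · simp [TrivSqZeroExt.algebraMap_eq_inl']
        · simp [TrivSqZeroExt.algebraMap_eq_inl'] }
  have hu_apply : ∀ b, u b = TrivSqZeroExt.inl (Ideal.Quotient.mk 𝔄 b) + TrivSqZeroExt.inr (D b) :=
    fun b => rfl
  let gA : TrivSqZeroExt (B ⧸ 𝔄) P →ₐ[A] TrivSqZeroExt (B ⧸ 𝔄) Q :=
    (TrivSqZeroExt.map f).restrictScalars A
  have hgA_fst : ∀ x, (gA x).fst = x.fst := fun x => TrivSqZeroExt.fst_map f x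
  have hgA_snd : ∀ x, (gA x).snd = f x.snd := fun x => TrivSqZeroExt.snd_map f x
  have hg : Function.Surjective gA := by
    intro y
    obtain ⟨p, hp⟩ := hf y.snd
    refine ⟨TrivSqZeroExt.inl y.fst + TrivSqZeroExt.inr p, ?_⟩
    ext
    · rw [hgA_fst]; simp
    · rw [hgA_snd]; simp [hp]
  have hJ2 : (RingHom.ker gA) ^ 2 = ⊥ := by
    rw [eq_bot_iff, pow_two, Ideal.mul_le]
    intro x hx y hy
    have hx0 : x.fst = 0 := by
      have := congrArg TrivSqZeroExt.fst (RingHom.mem_ker.mp hx)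
      rw [hgA_fst] at this
      simpa using this
    have hy0 : y.fst = 0 := by
      have := congrArg TrivSqZeroExt.fst (RingHom.mem_ker.mp hy)
      rw [hgA_fst] at this
      simpa using this
    rw [Ideal.mem_bot]
    ext
    · simp [hx0]
    · simp [hx0, hy0]
  let e := Ideal.quotientKerAlgEquivOfSurjective hg
  obtain ⟨n, hn⟩ := h𝔄
  have hker_u : 𝔄 * 𝔄 ≤ RingHom.ker u := by
    rw [Ideal.mul_le]
    intro a ha a' ha'
    rw [RingHom.mem_ker, map_mul, hu_apply, hu_apply, Ideal.Quotient.eq_zero_iff_mem.mpr ha,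
      Ideal.Quotient.eq_zero_iff_mem.mpr ha', TrivSqZeroExt.inl_zero, zero_add, zero_add,
      TrivSqZeroExt.inr_mul_inr]
  have hcontu : ∃ k : ℕ, ∀ x ∈ I ^ k, (e.symm.toAlgHom.comp u) x = 0 := by
    refine ⟨n * 2, fun x hx => ?_⟩
    have hx' : x ∈ 𝔄 * 𝔄 := by
      rw [pow_mul, pow_two] at hx
      exact Ideal.mul_mono hn hn hx
    have : u x = 0 := RingHom.mem_ker.mp (hker_u hx')
    simp [this]
  obtain ⟨v, hv⟩ := h (TrivSqZeroExt (B ⧸ 𝔄) P) (RingHom.ker gA) hJ2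
    (e.symm.toAlgHom.comp u) hcontu
  have hgv : ∀ b, gA (v b) = u b := by
    intro b
    have h1 := AlgHom.congr_fun hv b
    have h2 : e (Ideal.Quotient.mk _ (v b)) = gA (v b) :=
      Ideal.quotientKerAlgEquivOfSurjective_mk hg (v b)
    rw [← h2]
    have h3 : (Ideal.Quotient.mk (RingHom.ker gA)) (v b) = e.symm (u b) := h1
    rw [h3, AlgEquiv.apply_symm_apply]
  have hfst : ∀ b, (v b).fst = Ideal.Quotient.mk 𝔄 b := by
    intro b
    have := congrArg TrivSqZeroExt.fst (hgv b)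
    rw [hgA_fst, hu_apply] at this
    simpa using this
  have hsnd : ∀ b, f (v b).snd = D b := by
    intro b
    have := congrArg TrivSqZeroExt.snd (hgv b)
    rw [hgA_snd, hu_apply] at this
    simpa using this
  refine ⟨{ toLinearMap :=
              { toFun := fun b => (v b).snd
                map_add' := fun a b => by simp
                map_smul' := fun a b => by simp }
            map_one_eq_zero' := by simp
            leibniz' := fun a b => by
              show (v (a * b)).snd = a • (v b).snd + b • (v a).snd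
              rw [map_mul, TrivSqZeroExt.snd_mul, hfst a, hfst b, op_smul_eq_smul, hsmP, hsmP] },
    fun b => hsnd b⟩


/-- Derivation lifting for modules killed by an open ideal. -/
theorem exists_derivation_lift_torsion (I : Ideal B) (h : CAlgX.IsAdicFormallySmooth A B I)
    (𝔄 : Ideal B) (h𝔄 : ∃ n : ℕ, I ^ n ≤ 𝔄)
    {P Q : Type u} [AddCommGroup P] [Module B P] [Module A P] [IsScalarTower A B P]
    [AddCommGroup Q] [Module B Q] [Module A Q] [IsScalarTower A B Q]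
    (hP : ∀ a ∈ 𝔄, ∀ p : P, a • p = 0) (hQ : ∀ a ∈ 𝔄, ∀ q : Q, a • q = 0)
    (f : P →ₗ[B] Q) (hf : Function.Surjective f) (D : Derivation A B Q) :
    ∃ D' : Derivation A B P, ∀ b, f (D' b) = D b := by
  have tP : Module.IsTorsionBySet B P (𝔄 : Set B) := fun p a => hP a.1 a.2 p
  have tQ : Module.IsTorsionBySet B Q (𝔄 : Set B) := fun q a => hQ a.1 a.2 q
  letI mP : Module (B ⧸ 𝔄) P := tP.module
  letI mQ : Module (B ⧸ 𝔄) Q := tQ.module
  haveI : IsScalarTower B (B ⧸ 𝔄) P := tP.isScalarTower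
  haveI : IsScalarTower B (B ⧸ 𝔄) Q := tQ.isScalarTower
  haveI : IsScalarTower A (B ⧸ 𝔄) P := tP.isScalarTower
  haveI : IsScalarTower A (B ⧸ 𝔄) Q := tQ.isScalarTower
  let f' : P →ₗ[B ⧸ 𝔄] Q :=
    { toFun := f
      map_add' := f.map_add
      map_smul' := fun c p => by
        obtain ⟨b, rfl⟩ := Ideal.Quotient.mk_surjective c
        exact f.map_smul b p }
  exact exists_derivation_lift I h 𝔄 h𝔄 f' hf D

section MQ

variable (K 𝔞 : Ideal B)

/-- `K/(K² + 𝔞K)` -/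
abbrev MQ : Type u := K.Cotangent ⧸ (𝔞 • ⊤ : Submodule B K.Cotangent)

/-- the canonical map `K → K/(K² + 𝔞K)` -/
noncomputable def gen : K →ₗ[B] MQ K 𝔞 := (Submodule.mkQ _).comp K.toCotangent

theorem gen_surjective : Function.Surjective (gen K 𝔞) :=
  (Submodule.mkQ_surjective _).comp K.toCotangent_surjective

theorem smul_MQ_right {a : B} (ha : a ∈ 𝔞) (z : MQ K 𝔞) : a • z = 0 := by
  obtain ⟨y, rfl⟩ := Submodule.mkQ_surjective _ z
  rw [← map_smul, Submodule.mkQ_apply, Submodule.Quotient.mk_eq_zero]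
  exact Submodule.smul_mem_smul ha Submodule.mem_top

theorem smul_MQ_left {c : B} (hc : c ∈ K) (z : MQ K 𝔞) : c • z = 0 := by
  obtain ⟨x, rfl⟩ := gen_surjective K 𝔞 z
  rw [← map_smul]
  have h0 : K.toCotangent (c • x) = 0 := by
    rw [Ideal.toCotangent_eq_zero, pow_two]
    exact Ideal.mul_mem_mul hc x.2
  show Submodule.mkQ _ (K.toCotangent (c • x)) = 0
  rw [h0, map_zero]

variable {K 𝔞}

theorem exists_lift_MQ {N : Type*} [AddCommGroup N] [Module B N] (ν : K →ₗ[B] N)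
    (hK : ∀ c ∈ K, ∀ n : N, c • n = 0) (h𝔞 : ∀ a ∈ 𝔞, ∀ n : N, a • n = 0) :
    ∃ ν' : MQ K 𝔞 →ₗ[B] N, ∀ x : K, ν' (gen K 𝔞 x) = ν x := by
  have h1 : (K • ⊤ : Submodule B K) ≤ LinearMap.ker ν := by
    rw [Submodule.smul_le]
    intro c hc x _
    rw [LinearMap.mem_ker, map_smul]
    exact hK c hc _
  let l₁ : K.Cotangent →ₗ[B] N := Submodule.liftQ _ ν h1
  have hl₁ : ∀ x : K, l₁ (K.toCotangent x) = ν x := fun x => rfl
  have h2 : (𝔞 • ⊤ : Submodule B K.Cotangent) ≤ LinearMap.ker l₁ := by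
    rw [Submodule.smul_le]
    intro a ha y _
    rw [LinearMap.mem_ker, map_smul]
    exact h𝔞 a ha _
  exact ⟨Submodule.liftQ _ l₁ h2, fun x => rfl⟩

variable (K)

/-- the projection `K/(K² + 𝔟K) → K/(K² + 𝔞K)` for `𝔟 ≤ 𝔞` -/
noncomputable def proj {𝔟 𝔞 : Ideal B} (h : 𝔟 ≤ 𝔞) : MQ K 𝔟 →ₗ[B] MQ K 𝔞 :=
  Submodule.mapQ _ _ LinearMap.id (by
    rw [Submodule.comap_id]
    exact Submodule.smul_mono_left h)

theorem proj_gen {𝔟 𝔞 : Ideal B} (h : 𝔟 ≤ 𝔞) (x : K) : proj K h (gen K 𝔟 x) = gen K 𝔞 x := rfl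

theorem proj_surjective {𝔟 𝔞 : Ideal B} (h : 𝔟 ≤ 𝔞) : Function.Surjective (proj K h) := by
  intro z
  obtain ⟨x, rfl⟩ := gen_surjective K 𝔞 z
  exact ⟨gen K 𝔟 x, rfl⟩

theorem ker_proj_le {𝔟 𝔞 : Ideal B} (h : 𝔟 ≤ 𝔞) :
    LinearMap.ker (proj K h) ≤ (𝔞 • ⊤ : Submodule B (MQ K 𝔟)) := by
  intro z hz
  obtain ⟨y, rfl⟩ := Submodule.mkQ_surjective _ z
  have hy : y ∈ (𝔞 • ⊤ : Submodule B K.Cotangent) := by
    have h0 : Submodule.mkQ (𝔞 • ⊤ : Submodule B K.Cotangent) y = 0 := hz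
    rwa [Submodule.mkQ_apply, Submodule.Quotient.mk_eq_zero] at h0
  have h1 : Submodule.mkQ (𝔟 • ⊤ : Submodule B K.Cotangent) y ∈
      (𝔞 • ⊤ : Submodule B K.Cotangent).map (Submodule.mkQ _) := Submodule.mem_map_of_mem hy
  rw [Submodule.map_smul''] at h1
  exact Submodule.smul_mono le_rfl le_top h1

end MQ

section Pow

variable (I K : Ideal B)

/-- the property: the canonical map `K → K/(K² + 𝔞K)` extends to a derivation of `B` -/
def HasRetr (A : Type u) [CommRing A] [Algebra A B] (K 𝔞 : Ideal B) : Prop :=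
  ∃ D : Derivation A B (MQ K 𝔞), ∀ x : K, D x = gen K 𝔞 x

theorem pow_smul_top_le_of_map {M : Type*} [AddCommGroup M] [Module B M] (𝔞 : Ideal B)
    (φ : M →ₗ[B] M) (hφ : ∀ z, φ z ∈ (𝔞 • ⊤ : Submodule B M)) (j : ℕ) (z : M) :
    (φ ^ j) z ∈ (𝔞 ^ j • ⊤ : Submodule B M) := by
  induction j generalizing z with
  | zero => simp
  | succ j ih =>
    have h1 : φ z ∈ (𝔞 • ⊤ : Submodule B M) := hφ z
    have h2 : ∀ w ∈ (𝔞 • ⊤ : Submodule B M), (φ ^ j) w ∈ (𝔞 ^ (j + 1) • ⊤ : Submodule B M) := by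
      intro w hw
      refine Submodule.smul_induction_on hw ?_ ?_
      · intro a ha n _
        rw [map_smul, pow_succ', Submodule.mul_smul]
        exact Submodule.smul_mem_smul ha (ih n)
      · intro x y hx hy
        rw [map_add]
        exact Submodule.add_mem _ hx hy
    have h3 : (φ ^ (j + 1)) z = (φ ^ j) (φ z) := by
      rw [pow_succ]
      rfl
    rw [h3]
    exact h2 _ h1

end Pow

end Groth.Agent.Lib.AdicJacH1
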