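import Mathlib
import Groth.Agent.Lib.AdicJac_helper1

/-!
# The Jacobian criterion for adic formal smoothness of a quotient, II (helper1)
APPEND-ONLY once landed.
-/

set_option autoImplicit false

namespace Groth.Agent.Lib.AdicJacH1

open TensorProduct

universe u

variable {A B : Type u} [CommRing A] [CommRing B] [Algebra A B]

section L2

variable (I K : Ideal B)

theorem gen_eq_zero_of_mem (𝔞 : Ideal B) (x : K) (hx : x.1 ∈ 𝔞 * K) : gen K 𝔞 x = 0 := by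
  have key : ∀ y ∈ 𝔞 * K, y ∈ K ∧ ∀ hy : y ∈ K, gen K 𝔞 ⟨y, hy⟩ = 0 := by
    intro y hy
    refine Submodule.mul_induction_on hy ?_ ?_
    · intro a ha c hc
      refine ⟨K.mul_mem_left a hc, fun hac => ?_⟩
      have h1 : (⟨a * c, hac⟩ : K) = a • (⟨c, hc⟩ : K) := rfl
      rw [h1, map_smul]
      exact smul_MQ_right K 𝔞 ha _
    · intro y z hy hz
      refine ⟨K.add_mem hy.1 hz.1, fun hyz => ?_⟩
      have h1 : (⟨y + z, hyz⟩ : K) = ⟨y, hy.1⟩ + ⟨z, hz.1⟩ := rfl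
      rw [h1, map_add, hy.2, hz.2, add_zero]
  exact (key x.1 hx).2 x.2

theorem hasRetr_pow (hB : CAlgX.IsAdicFormallySmooth A B I) {𝔞 : Ideal B}
    (h𝔞 : ∃ n : ℕ, I ^ n ≤ 𝔞) (hR : HasRetr A K 𝔞) (M : ℕ) (hM : 1 ≤ M) :
    HasRetr A K (𝔞 ^ M) := by
  obtain ⟨D𝔞, hD𝔞⟩ := hR
  obtain ⟨n, hn⟩ := h𝔞
  have hle : 𝔞 ^ M ≤ 𝔞 := Ideal.pow_le_self (by omega)
  have hopen : ∃ N : ℕ, I ^ N ≤ 𝔞 ^ M := ⟨n * M, by
    rw [pow_mul]
    exact Ideal.pow_right_mono hn M⟩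
  obtain ⟨D', hD'⟩ := exists_derivation_lift_torsion I hB (𝔞 ^ M) hopen
    (fun a ha p => smul_MQ_right K (𝔞 ^ M) ha p) (fun a ha q => smul_MQ_right K 𝔞 (hle ha) q)
    (proj K hle) (proj_surjective K hle) D𝔞
  let ν : K →ₗ[B] MQ K (𝔞 ^ M) :=
    { toFun := fun x => D' x.1 - gen K (𝔞 ^ M) x
      map_add' := fun x y => by
        show D' (x.1 + y.1) - gen K (𝔞 ^ M) (x + y) = _
        rw [map_add, map_add]
        abel
      map_smul' := fun b x => by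
        show D' (b * x.1) - gen K (𝔞 ^ M) (b • x) = b • (D' x.1 - gen K (𝔞 ^ M) x)
        rw [Derivation.leibniz, map_smul, smul_MQ_left K (𝔞 ^ M) x.2, add_zero, smul_sub] }
  have hν : ∀ x : K, ν x = D' x.1 - gen K (𝔞 ^ M) x := fun x => rfl
  obtain ⟨ν', hν'⟩ := exists_lift_MQ (𝔞 := 𝔞 ^ M) ν (fun c hc n => smul_MQ_left K _ hc n)
    (fun a ha n => smul_MQ_right K _ ha n)
  have hν1 : ∀ x : K, ν x ∈ (𝔞 • ⊤ : Submodule B (MQ K (𝔞 ^ M))) := by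
    intro x
    apply ker_proj_le K hle
    rw [LinearMap.mem_ker, hν, map_sub, hD', proj_gen, hD𝔞, sub_self]
  have hν2 : ∀ z, ν' z ∈ (𝔞 • ⊤ : Submodule B (MQ K (𝔞 ^ M))) := by
    intro z
    obtain ⟨x, rfl⟩ := gen_surjective K (𝔞 ^ M) z
    rw [hν']
    exact hν1 x
  have hnil : ν' ^ M = 0 := by
    apply LinearMap.ext
    intro z
    have h1 := pow_smul_top_le_of_map 𝔞 ν' hν2 M z
    have h2 : (𝔞 ^ M • ⊤ : Submodule B (MQ K (𝔞 ^ M))) = ⊥ := by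
      rw [eq_bot_iff, Submodule.smul_le]
      intro a ha n _
      rw [Submodule.mem_bot]
      exact smul_MQ_right K _ ha n
    rw [h2, Submodule.mem_bot] at h1
    rw [h1]
    rfl
  obtain ⟨u, hu⟩ := IsNilpotent.isUnit_one_add (⟨M, hnil⟩ : IsNilpotent ν')
  have hE : ∀ z, (↑u⁻¹ : Module.End B (MQ K (𝔞 ^ M))) ((1 + ν') z) = z := by
    intro z
    have h1 : (↑u⁻¹ : Module.End B (MQ K (𝔞 ^ M))) * (1 + ν') = 1 := by
      rw [← hu]
      exact Units.inv_mul u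
    exact LinearMap.congr_fun h1 z
  refine ⟨(↑u⁻¹ : Module.End B (MQ K (𝔞 ^ M))).compDer D', fun x => ?_⟩
  show (↑u⁻¹ : Module.End B (MQ K (𝔞 ^ M))) (D' x.1) = gen K (𝔞 ^ M) x
  have h3 : D' x.1 = (1 + ν') (gen K (𝔞 ^ M) x) := by
    show D' x.1 = gen K (𝔞 ^ M) x + ν' (gen K (𝔞 ^ M) x)
    rw [hν', hν]
    abel
  rw [h3, hE]

end L2

section Backward

theorem formallySmooth_of_hasRetr (I K J : Ideal B) (hKJ : K = J)
    (hB : CAlgX.IsAdicFormallySmooth A B I)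
    (𝔮 : Ideal B) (hq1 : ∃ n : ℕ, I ^ n ≤ 𝔮) (hq2 : ∃ m : ℕ, 𝔮 ^ m ≤ I ⊔ K)
    (hR : HasRetr A K 𝔮) :
    CAlgX.IsAdicFormallySmooth A (B ⧸ J) (I.map (Ideal.Quotient.mk J)) := by
  subst hKJ
  intro A' _ _ J' hJ' ψ hψ
  obtain ⟨k, hk⟩ := hψ
  obtain ⟨m, hm⟩ := hq2
  have hψB : ∃ k : ℕ, ∀ x ∈ I ^ k, (ψ.comp (Ideal.Quotient.mkₐ A K)) x = 0 :=
    ⟨k, fun x hx => hk _ (by
      rw [← Ideal.map_pow]
      exact Ideal.mem_map_of_mem _ hx)⟩
  obtain ⟨χ', hχ'⟩ := hB A' J' hJ' (ψ.comp (Ideal.Quotient.mkₐ A K)) hψB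
  have hχ'mk : ∀ b, Ideal.Quotient.mk J' (χ' b) = ψ (Ideal.Quotient.mk K b) :=
    fun b => AlgHom.congr_fun hχ' b
  letI algBA' : Algebra B A' := χ'.toRingHom.toAlgebra
  haveI : IsScalarTower A B A' := IsScalarTower.of_algebraMap_eq (fun a => (χ'.commutes a).symm)
  have halg : ∀ b, algebraMap B A' b = χ' b := fun b => rfl
  have hmem : ∀ b : B, ψ (Ideal.Quotient.mk K b) = 0 → χ' b ∈ J' := fun b hb => by
    rw [← Ideal.Quotient.eq_zero_iff_mem, hχ'mk, hb]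
  have hKJ' : ∀ x ∈ K, χ' x ∈ J' := fun x hx => hmem x (by
    rw [Ideal.Quotient.eq_zero_iff_mem.2 hx, map_zero])
  have hIJ' : ∀ x ∈ I ^ k, χ' x ∈ J' := fun x hx => hmem x (hk _ (by
    rw [← Ideal.map_pow]
    exact Ideal.mem_map_of_mem _ hx))
  have hqJ' : ∀ x ∈ 𝔮 ^ (m * (k + 1) + 1), χ' x ∈ J' := by
    intro x hx
    have h1 : 𝔮 ^ (m * (k + 1) + 1) ≤ I ^ k ⊔ K := by
      calc 𝔮 ^ (m * (k + 1) + 1) ≤ 𝔮 ^ (m * (k + 1)) := Ideal.pow_le_pow_right (by omega)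
        _ = (𝔮 ^ m) ^ (k + 1) := pow_mul _ _ _
        _ ≤ (I ⊔ K) ^ (k + 1) := Ideal.pow_right_mono hm _
        _ ≤ I ^ k ⊔ K ^ 1 := Ideal.sup_pow_add_le_pow_sup_pow
        _ = I ^ k ⊔ K := by rw [pow_one]
    obtain ⟨y, hy, z, hz, rfl⟩ := Submodule.mem_sup.1 (h1 hx)
    rw [map_add]
    exact J'.add_mem (hIJ' y hy) (hKJ' z hz)
  have htors : ∀ b : B, χ' b ∈ J' → ∀ j : J', b • j = 0 := by
    intro b hb j
    apply Subtype.ext
    show b • (j : A') = 0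
    rw [Algebra.smul_def, halg]
    have h1 : χ' b * j ∈ J' ^ 2 := by
      rw [pow_two]
      exact Ideal.mul_mem_mul hb j.2
    rw [hJ'] at h1
    exact h1
  obtain ⟨DM, hDM⟩ := hasRetr_pow I K hB hq1 hR (m * (k + 1) + 1) (by omega)
  let ν₀ : K →ₗ[B] J' :=
    { toFun := fun x => ⟨χ' x.1, hKJ' x.1 x.2⟩
      map_add' := fun x y => Subtype.ext (map_add χ' x.1 y.1)
      map_smul' := fun b x => Subtype.ext (by
        show χ' (b * x.1) = b • χ' x.1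
        rw [map_mul, Algebra.smul_def, halg]) }
  obtain ⟨ν', hν'⟩ := exists_lift_MQ (𝔞 := 𝔮 ^ (m * (k + 1) + 1)) ν₀
    (fun c hc n => htors c (hKJ' c hc) n) (fun a ha n => htors a (hqJ' a ha) n)
  have hd : ∀ x : K, ((ν'.compDer DM) x.1 : A') = χ' x.1 := fun x => by
    show ((ν' (DM x.1) : J') : A') = _
    rw [hDM, hν']
    rfl
  have hχ : ∀ b, liftOfDerivationToSquareZero J' hJ' (-(ν'.compDer DM)) b =
      χ' b - ((ν'.compDer DM) b : A') := fun b => by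
    show ((-(ν'.compDer DM)) b : A') + algebraMap B A' b = _
    rw [halg, Derivation.neg_apply, Submodule.coe_neg]
    ring
  have hχK : ∀ x ∈ K, liftOfDerivationToSquareZero J' hJ' (-(ν'.compDer DM)) x = 0 :=
    fun x hx => by rw [hχ, hd ⟨x, hx⟩, sub_self]
  refine ⟨Ideal.Quotient.liftₐ K (liftOfDerivationToSquareZero J' hJ' (-(ν'.compDer DM))) hχK, ?_⟩
  apply AlgHom.ext
  intro c
  obtain ⟨b, rfl⟩ := Ideal.Quotient.mk_surjective c
  show Ideal.Quotient.mk J' (liftOfDerivationToSquareZero J' hJ' (-(ν'.compDer DM)) b) =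
    ψ (Ideal.Quotient.mk K b)
  rw [hχ, map_sub, Ideal.Quotient.eq_zero_iff_mem.2 ((ν'.compDer DM) b).2, sub_zero, hχ'mk]

end Backward

section Forward

theorem hasRetr_of_formallySmooth [IsNoetherianRing B] (I K J : Ideal B) (hKJ : K = J)
    (hC : CAlgX.IsAdicFormallySmooth A (B ⧸ J) (I.map (Ideal.Quotient.mk J)))
    (𝔮 : Ideal B) (hK𝔮 : K ≤ 𝔮) (hq1 : ∃ n : ℕ, I ^ n ≤ 𝔮) : HasRetr A K 𝔮 := by
  subst hKJ
  obtain ⟨n, hn⟩ := hq1
  obtain ⟨c, hc⟩ := Ideal.exists_pow_inf_eq_pow_smul I (K : Submodule B B)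
  have hAR : I ^ (c + n) ⊓ K ≤ 𝔮 * K := by
    have h1 := hc (c + n) (by omega)
    intro x hx
    have hx' : x ∈ (I ^ (c + n) • ⊤ ⊓ K : Submodule B B) := by
      rw [smul_eq_mul, Ideal.mul_top]
      exact hx
    rw [h1, Nat.add_sub_cancel_left] at hx'
    have h2 : (I ^ n • (I ^ c • ⊤ ⊓ K) : Submodule B B) ≤ 𝔮 * K :=
      Submodule.smul_mono hn inf_le_right
    exact h2 hx'
  obtain ⟨𝔠, h𝔠⟩ : ∃ 𝔠 : Ideal B, 𝔠 = 𝔮 * K ⊔ I ^ (c + n) := ⟨_, rfl⟩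
  have h𝔠1 : 𝔮 * K ≤ 𝔠 := by rw [h𝔠]; exact le_sup_left
  have h𝔠2 : I ^ (c + n) ≤ 𝔠 := by rw [h𝔠]; exact le_sup_right
  have hJ' : (K.map (Ideal.Quotient.mk 𝔠)) ^ 2 = ⊥ := by
    rw [← Ideal.map_pow, Ideal.map_eq_bot_iff_le_ker, Ideal.mk_ker]
    calc K ^ 2 = K * K := pow_two K
      _ ≤ 𝔮 * K := Ideal.mul_mono_left hK𝔮
      _ ≤ 𝔠 := h𝔠1
  have hψ0 : ∀ a ∈ K, ((Ideal.Quotient.mkₐ A (K.map (Ideal.Quotient.mk 𝔠))).comp
      (Ideal.Quotient.mkₐ A 𝔠)) a = 0 := fun a ha => by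
    show Ideal.Quotient.mk (K.map (Ideal.Quotient.mk 𝔠)) (Ideal.Quotient.mk 𝔠 a) = 0
    exact Ideal.Quotient.eq_zero_iff_mem.2 (Ideal.mem_map_of_mem _ ha)
  have hψk : ∃ k' : ℕ, ∀ x ∈ (I.map (Ideal.Quotient.mk K)) ^ k',
      (Ideal.Quotient.liftₐ K _ hψ0) x = 0 := by
    refine ⟨c + n, fun x hx => ?_⟩
    rw [← Ideal.map_pow] at hx
    obtain ⟨b, hb, rfl⟩ := (Ideal.mem_map_iff_of_surjective _ Ideal.Quotient.mk_surjective).1 hx
    show Ideal.Quotient.mk (K.map (Ideal.Quotient.mk 𝔠)) (Ideal.Quotient.mk 𝔠 b) = 0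
    rw [Ideal.Quotient.eq_zero_iff_mem.2 (h𝔠2 hb), map_zero]
  obtain ⟨χ, hχ⟩ := hC (B ⧸ 𝔠) (K.map (Ideal.Quotient.mk 𝔠)) hJ' (Ideal.Quotient.liftₐ K _ hψ0) hψk
  have e : (Ideal.Quotient.mkₐ A (K.map (Ideal.Quotient.mk 𝔠))).comp
      (χ.comp (Ideal.Quotient.mkₐ A K)) =
      IsScalarTower.toAlgHom A B ((B ⧸ 𝔠) ⧸ K.map (Ideal.Quotient.mk 𝔠)) := by
    apply AlgHom.ext
    intro b
    exact AlgHom.congr_fun hχ (Ideal.Quotient.mk K b)
  have hD₀ : ∀ x : K, (derivationToSquareZeroOfLift (K.map (Ideal.Quotient.mk 𝔠)) hJ'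
      (χ.comp (Ideal.Quotient.mkₐ A K)) e x.1 : B ⧸ 𝔠) = - Ideal.Quotient.mk 𝔠 x.1 := fun x => by
    rw [derivationToSquareZeroOfLift_apply]
    show χ (Ideal.Quotient.mk K x.1) - Ideal.Quotient.mk 𝔠 x.1 = _
    rw [Ideal.Quotient.eq_zero_iff_mem.2 x.2, map_zero, zero_sub]
  let g₀ : K →ₗ[B] (K.map (Ideal.Quotient.mk 𝔠) : Ideal (B ⧸ 𝔠)) :=
    { toFun := fun x => ⟨Ideal.Quotient.mk 𝔠 x.1, Ideal.mem_map_of_mem _ x.2⟩
      map_add' := fun x y => Subtype.ext (map_add (Ideal.Quotient.mk 𝔠) x.1 y.1)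
      map_smul' := fun b x => Subtype.ext (by
        show Ideal.Quotient.mk 𝔠 (b * x.1) = b • Ideal.Quotient.mk 𝔠 x.1
        rw [map_mul, Algebra.smul_def]
        rfl) }
  have hg₀s : Function.Surjective g₀ := by
    rintro ⟨y, hy⟩
    obtain ⟨b, hb, rfl⟩ := (Ideal.mem_map_iff_of_surjective _ Ideal.Quotient.mk_surjective).1 hy
    exact ⟨⟨b, hb⟩, rfl⟩
  have hker : LinearMap.ker g₀ ≤ LinearMap.ker (gen K 𝔮) := by
    intro x hx
    have hx𝔠 : x.1 ∈ 𝔠 := by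
      have h0 := congrArg Subtype.val (LinearMap.mem_ker.1 hx)
      exact Ideal.Quotient.eq_zero_iff_mem.1 h0
    have hx2 : x.1 ∈ 𝔮 * K := by
      rw [h𝔠] at hx𝔠
      obtain ⟨y, hy, z, hz, hyz⟩ := Submodule.mem_sup.1 hx𝔠
      have hzK : z ∈ K := by
        have h0 : z = x.1 - y := by rw [← hyz]; ring
        rw [h0]
        exact K.sub_mem x.2 (Ideal.mul_le_right hy)
      rw [← hyz]
      exact Ideal.add_mem _ hy (hAR ⟨hz, hzK⟩)
    exact LinearMap.mem_ker.2 (gen_eq_zero_of_mem K 𝔮 x hx2)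
  have hθ : ∀ x : K, ((Submodule.liftQ _ (gen K 𝔮) hker).comp
      (g₀.quotKerEquivOfSurjective hg₀s).symm.toLinearMap) (g₀ x) = gen K 𝔮 x := fun x => by
    show Submodule.liftQ _ (gen K 𝔮) hker ((g₀.quotKerEquivOfSurjective hg₀s).symm (g₀ x)) = _
    have h0 : (g₀.quotKerEquivOfSurjective hg₀s).symm (g₀ x) = Submodule.Quotient.mk x := by
      rw [LinearEquiv.symm_apply_eq]
      rfl
    rw [h0]
    rfl
  refine ⟨-(((Submodule.liftQ _ (gen K 𝔮) hker).comp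
      (g₀.quotKerEquivOfSurjective hg₀s).symm.toLinearMap).compDer
      (derivationToSquareZeroOfLift (K.map (Ideal.Quotient.mk 𝔠)) hJ'
        (χ.comp (Ideal.Quotient.mkₐ A K)) e)), fun x => ?_⟩
  have h1 : derivationToSquareZeroOfLift (K.map (Ideal.Quotient.mk 𝔠)) hJ'
      (χ.comp (Ideal.Quotient.mkₐ A K)) e x.1 = -(g₀ x) := Subtype.ext (hD₀ x)
  show -(((Submodule.liftQ _ (gen K 𝔮) hker).comp
      (g₀.quotKerEquivOfSurjective hg₀s).symm.toLinearMap)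
      (derivationToSquareZeroOfLift (K.map (Ideal.Quotient.mk 𝔠)) hJ'
        (χ.comp (Ideal.Quotient.mkₐ A K)) e x.1)) = gen K 𝔮 x
  rw [h1, map_neg, neg_neg, hθ]

end Forward


section Link

open KaehlerDifferential

variable {C T : Type u} [CommRing C] [Algebra A C] [Algebra B C] [IsScalarTower A B C]
  [CommRing T] [Algebra A T] [Algebra B T] [IsScalarTower A B T] [Algebra C T]
  [IsScalarTower B C T]

/-- `T ⊗ K/K² → K/(K² + 𝔮K)` -/
theorem exists_tensor_to_MQ (K : Ideal B) (hT : Function.Surjective (algebraMap B T))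
    (𝔮 : Ideal B) (h𝔮 : ∀ b, algebraMap B T b = 0 → b ∈ 𝔮) :
    ∃ lam : T ⊗[B] K.Cotangent →ₗ[B] MQ K 𝔮,
      ∀ y : K.Cotangent, lam (1 ⊗ₜ y) = Submodule.mkQ _ y := by
  have hℓ : Function.Surjective (Algebra.linearMap B T) := hT
  let e := (Algebra.linearMap B T).quotKerEquivOfSurjective hℓ
  let β₀ : B →ₗ[B] (K.Cotangent →ₗ[B] MQ K 𝔮) :=
    LinearMap.toSpanSingleton B _ (Submodule.mkQ _)
  have hβ₀ : ∀ b y, β₀ b y = b • Submodule.mkQ (𝔮 • ⊤ : Submodule B K.Cotangent) y :=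
    fun b y => rfl
  have h : LinearMap.ker (Algebra.linearMap B T) ≤ LinearMap.ker β₀ := by
    intro b hb
    have hb' : b ∈ 𝔮 := h𝔮 b (LinearMap.mem_ker.1 hb)
    rw [LinearMap.mem_ker]
    apply LinearMap.ext
    intro y
    rw [hβ₀]
    exact smul_MQ_right K 𝔮 hb' _
  refine ⟨TensorProduct.lift ((Submodule.liftQ _ β₀ h).comp e.symm.toLinearMap), fun y => ?_⟩
  rw [TensorProduct.lift.tmul]
  show (Submodule.liftQ _ β₀ h) (e.symm 1) y = _
  have h1 : e.symm 1 = Submodule.Quotient.mk 1 := by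
    rw [LinearEquiv.symm_apply_eq]
    show (1 : T) = Algebra.linearMap B T 1
    rw [Algebra.linearMap_apply, map_one]
  rw [h1]
  show β₀ 1 y = _
  rw [hβ₀, one_smul]

omit [Algebra A C] [IsScalarTower A B C] [Algebra C T] [IsScalarTower B C T] in
theorem hasRetr_of_retraction (hT : Function.Surjective (algebraMap B T))
    (𝔮 : Ideal B) (h𝔮 : ∀ b, algebraMap B T b = 0 → b ∈ 𝔮)
    (g : T ⊗[B] (C ⊗[B] Ω[B⁄A]) →ₗ[T] T ⊗[B] (RingHom.ker (algebraMap B C)).Cotangent)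
    (hg : g ∘ₗ LinearMap.baseChange T (kerCotangentToTensor A B C) = LinearMap.id) :
    HasRetr A (RingHom.ker (algebraMap B C)) 𝔮 := by
  obtain ⟨lam, hlam⟩ := exists_tensor_to_MQ (RingHom.ker (algebraMap B C)) hT 𝔮 h𝔮
  refine ⟨lam.compDer (((g.restrictScalars B).comp
    ((TensorProduct.mk B T (C ⊗[B] Ω[B⁄A]) 1).comp (TensorProduct.mk B C Ω[B⁄A] 1))).compDer
      (KaehlerDifferential.D A B)), fun x => ?_⟩
  show lam (g ((1 : T) ⊗ₜ[B] ((1 : C) ⊗ₜ[B] KaehlerDifferential.D A B x.1))) = _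
  have h1 : g ((1 : T) ⊗ₜ[B] ((1 : C) ⊗ₜ[B] KaehlerDifferential.D A B x.1)) =
      (1 : T) ⊗ₜ[B] (RingHom.ker (algebraMap B C)).toCotangent x := by
    have h2 := LinearMap.congr_fun hg
      ((1 : T) ⊗ₜ[B] (RingHom.ker (algebraMap B C)).toCotangent x)
    rw [LinearMap.comp_apply, LinearMap.baseChange_tmul, kerCotangentToTensor_toCotangent,
      LinearMap.id_apply] at h2
    exact h2
  rw [h1, hlam]
  rfl

omit [Algebra A C] [IsScalarTower A B C] in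
theorem retraction_of_hasRetr (𝔮 : Ideal B) (h𝔮 : ∀ b ∈ 𝔮, algebraMap B T b = 0)
    (hR : HasRetr A (RingHom.ker (algebraMap B C)) 𝔮) :
    ∃ g : T ⊗[B] (C ⊗[B] Ω[B⁄A]) →ₗ[T] T ⊗[B] (RingHom.ker (algebraMap B C)).Cotangent,
      g ∘ₗ LinearMap.baseChange T (kerCotangentToTensor A B C) = LinearMap.id := by
  obtain ⟨D, hD⟩ := hR
  have hmu : (𝔮 • ⊤ : Submodule B (RingHom.ker (algebraMap B C)).Cotangent) ≤
      LinearMap.ker (TensorProduct.mk B T (RingHom.ker (algebraMap B C)).Cotangent 1) := by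
    rw [Submodule.smul_le]
    intro a ha y _
    rw [LinearMap.mem_ker, TensorProduct.mk_apply, TensorProduct.tmul_smul,
      TensorProduct.smul_tmul', Algebra.smul_def, mul_one, h𝔮 a ha, TensorProduct.zero_tmul]
  let DT : Derivation A B (T ⊗[B] (RingHom.ker (algebraMap B C)).Cotangent) :=
    (Submodule.liftQ _ (TensorProduct.mk B T (RingHom.ker (algebraMap B C)).Cotangent 1)
      hmu).compDer D
  have hDT : ∀ x : RingHom.ker (algebraMap B C),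
      DT x.1 = (1 : T) ⊗ₜ[B] (RingHom.ker (algebraMap B C)).toCotangent x := fun x => by
    show (Submodule.liftQ _ (TensorProduct.mk B T (RingHom.ker (algebraMap B C)).Cotangent 1)
      hmu) (D x.1) = _
    rw [hD]
    rfl
  let bil : C →ₗ[B] Ω[B⁄A] →ₗ[B] T ⊗[B] (RingHom.ker (algebraMap B C)).Cotangent :=
    LinearMap.mk₂ B (fun c ω => (algebraMap C T c) • DT.liftKaehlerDifferential ω)
      (fun c c' ω => by rw [map_add, add_smul])
      (fun b c ω => by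
        rw [Algebra.smul_def, map_mul, ← IsScalarTower.algebraMap_apply, mul_smul,
          algebraMap_smul])
      (fun c ω ω' => by rw [map_add, smul_add])
      (fun b c ω => by rw [map_smul, smul_comm])
  refine ⟨LinearMap.liftBaseChange T (TensorProduct.lift bil), ?_⟩
  apply TensorProduct.AlgebraTensorModule.ext
  intro t y
  obtain ⟨x, rfl⟩ := (RingHom.ker (algebraMap B C)).toCotangent_surjective y
  rw [LinearMap.comp_apply, LinearMap.baseChange_tmul, kerCotangentToTensor_toCotangent,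
    LinearMap.liftBaseChange_tmul, TensorProduct.lift.tmul, LinearMap.id_apply]
  show t • ((algebraMap C T 1) • DT.liftKaehlerDifferential (KaehlerDifferential.D A B x.1)) = _
  rw [map_one, one_smul, Derivation.liftKaehlerDifferential_comp_D, hDT,
    TensorProduct.smul_tmul', smul_eq_mul, mul_one]

end Link


end Groth.Agent.Lib.AdicJacH1
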