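import Groth.Agent.Lib.CohenLift_helper3
import Groth.Agent.S4542

/-!
# Lifting local homomorphisms from Cohen rings to complete local rings (EGA 0_IV 19.8.6)
-/

set_option autoImplicit false
set_option maxSynthPendingDepth 3

namespace Groth.Agent.Lib.CohenLiftH3

universe u

open IsLocalRing EGA41

theorem map_mk_maximalIdeal {C : Type u} [CommRing C] [IsLocalRing C] (J : Ideal C)
    [IsLocalRing (C ⧸ J)] :
    (maximalIdeal C).map (Ideal.Quotient.mk J) = maximalIdeal (C ⧸ J) := by
  apply le_antisymm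
  · rw [Ideal.map_le_iff_le_comap]
    intro c hc
    rw [Ideal.mem_comap, mem_maximalIdeal, mem_nonunits_iff]
    intro hunit
    have hJ : J ≤ maximalIdeal C := by
      apply le_maximalIdeal
      intro h
      have : Subsingleton (C ⧸ J) := by
        rw [Ideal.Quotient.subsingleton_iff]
        exact h
      exact (not_subsingleton (C ⧸ J)) this
    -- `c` is a unit mod `J ≤ 𝔪`, so `c` is a unit
    obtain ⟨d, hd⟩ := isUnit_iff_exists_inv.1 hunit
    obtain ⟨d', rfl⟩ := Ideal.Quotient.mk_surjective d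
    rw [← map_mul, ← map_one (Ideal.Quotient.mk J), Ideal.Quotient.eq] at hd
    have h1 : c * d' - 1 ∈ maximalIdeal C := hJ hd
    have h2 : c * d' ∈ maximalIdeal C := Ideal.mul_mem_right _ _ hc
    have h3 : (1 : C) ∈ maximalIdeal C := by
      have := Ideal.sub_mem _ h2 h1
      rwa [sub_sub_cancel] at this
    exact (Ideal.ne_top_iff_one _).1 (maximalIdeal.isMaximal C).ne_top h3
  · intro y hy
    obtain ⟨c, rfl⟩ := Ideal.Quotient.mk_surjective y
    refine Ideal.mem_map_of_mem _ ?_
    rw [mem_maximalIdeal, mem_nonunits_iff]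
    intro hc
    exact (mem_nonunits_iff.1 ((mem_maximalIdeal _).1 hy)) (hc.map _)

/-- **EGA 0_IV 19.8.6 (i)**: local homomorphisms from a Cohen ring to `C/J`, `C` a complete
Noetherian local ring, lift to `C`. -/
theorem exists_lift_to_complete {W C : Type u} [CommRing W] [IsLocalRing W]
    (hW : IsCohenRingEGA W)
    [CommRing C] [IsLocalRing C] [IsNoetherianRing C] [IsAdicComplete (maximalIdeal C) C]
    (J : Ideal C) (hJ : J ≠ ⊤) [IsLocalRing (C ⧸ J)] (u : W →+* C ⧸ J) [IsLocalHom u] :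
    ∃ v : W →+* C, IsLocalHom v ∧ (Ideal.Quotient.mk J).comp v = u := by
  classical
  obtain ⟨p, hp⟩ := CharP.exists (ResidueField W)
  haveI := hp
  letI := ulAlg W
  letI := ulAlg C
  have hfs := cohen_isFormallySmoothAdic hW p (maximalIdeal W)
  have hmk := map_mk_maximalIdeal J
  -- `p ∈ 𝔪_C`
  have hpW : (p : W) ∈ maximalIdeal W := by
    rw [← residue_eq_zero_iff, map_natCast]
    exact CharP.cast_eq_zero _ p
  have hpC : (p : C) ∈ maximalIdeal C := by
    rw [mem_maximalIdeal, mem_nonunits_iff]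
    intro hunit
    have h1 : IsUnit (u (p : W)) := by
      rw [map_natCast, ← map_natCast (Ideal.Quotient.mk J)]
      exact hunit.map _
    exact (mem_nonunits_iff.1 ((mem_maximalIdeal _).1 hpW)) (isUnit_of_map_unit u _ h1)
  haveI : IsHausdorff ((maximalIdeal C).map (Ideal.Quotient.mk J)) (C ⧸ J) := by
    rw [hmk]
    infer_instance
  have hAC : ∃ k : ℕ, ((Ideal.span {(p : ULift.{u} ℤ)}) ^ k).map
      (algebraMap (ULift.{u} ℤ) C) ≤ maximalIdeal C := by
    refine ⟨1, ?_⟩
    rw [pow_one, Ideal.map_span, Set.image_singleton, Ideal.span_le, Set.singleton_subset_iff,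
      map_natCast]
    exact hpC
  have hJ' : ∃ t : ℕ, J ^ t ≤ maximalIdeal C := ⟨1, by rw [pow_one]; exact le_maximalIdeal hJ⟩
  have hu : ∃ k : ℕ, ((maximalIdeal W) ^ k).map (toULAlgHom u).toRingHom ≤
      (maximalIdeal C).map (Ideal.Quotient.mk J) := by
    refine ⟨1, ?_⟩
    rw [pow_one, hmk, Ideal.map_le_iff_le_comap]
    intro x hx
    rw [Ideal.mem_comap, mem_maximalIdeal, mem_nonunits_iff]
    intro hunit
    exact (mem_nonunits_iff.1 ((mem_maximalIdeal _).1 hx)) (isUnit_of_map_unit u _ hunit)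
  obtain ⟨v, -, hv⟩ := Groth.Agent.S4542.result (Ideal.span {(p : ULift.{u} ℤ)})
    (maximalIdeal W) (maximalIdeal C) hfs hAC J hJ' (toULAlgHom u) hu
  have hvu : ∀ x, Ideal.Quotient.mk J (v x) = u x := fun x => AlgHom.congr_fun hv x
  refine ⟨v.toRingHom, ⟨fun a ha => ?_⟩, RingHom.ext hvu⟩
  have h1 : IsUnit (u a) := by
    rw [← hvu]
    exact ha.map _
  exact isUnit_of_map_unit u _ h1

end Groth.Agent.Lib.CohenLiftH3
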