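import Mathlib
import Groth.Prelude.Def_EGA41

/-!
# Adic formal smoothness is insensitive to completion (EGA 0_IV 19.3.6)
-/

set_option autoImplicit false
set_option maxSynthPendingDepth 3

namespace Groth.Agent.Lib.FSAdicComplH3

universe u

open EGA41

section Ker

variable {R : Type*} [CommRing R] (I : Ideal R)

theorem map_pow_le_ker_evalₐ (n : ℕ) :
    (I ^ n).map (algebraMap R (AdicCompletion I R)) ≤
      RingHom.ker (AdicCompletion.evalₐ I n).toRingHom := by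
  rw [Ideal.map_le_iff_le_comap]
  intro b hb
  rw [Ideal.mem_comap, RingHom.mem_ker]
  show AdicCompletion.evalₐ I n (AdicCompletion.of I R b) = 0
  rw [AdicCompletion.evalₐ_of, Ideal.Quotient.eq_zero_iff_mem]
  exact hb

theorem ker_evalₐ_le_map_pow (fg : I.FG) (n : ℕ) :
    RingHom.ker (AdicCompletion.evalₐ I n).toRingHom ≤
      (I ^ n).map (algebraMap R (AdicCompletion I R)) := by
  intro x hx
  rw [RingHom.mem_ker] at hx
  have h : (I ^ n • ⊤ : Ideal R) = I ^ n := by simp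
  have h1 : x ∈ LinearMap.ker (AdicCompletion.eval I R n) := by
    rw [LinearMap.mem_ker, ← AdicCompletion.factor_evalₐ_eq_eval I x h.ge]
    have hx' : AdicCompletion.evalₐ I n x = 0 := hx
    rw [hx', map_zero]
  rw [← AdicCompletion.pow_smul_top_eq_ker_eval fg] at h1
  have h3 : (I ^ n • ⊤ : Submodule R (AdicCompletion I R)) =
      ((I ^ n).map (algebraMap R (AdicCompletion I R))).restrictScalars R :=
    Ideal.smul_top_eq_map _
  rw [h3] at h1
  exact h1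

end Ker

section Main

variable {A B : Type u} [CommRing A] (𝔞 : Ideal A) [CommRing B] [Algebra A B] (𝔟 : Ideal B)

theorem isFormallySmoothAdic_of_adicCompletion
    (h : IsFormallySmoothAdic A 𝔞 (AdicCompletion 𝔟 B)
      (𝔟.map (algebraMap B (AdicCompletion 𝔟 B)))) :
    IsFormallySmoothAdic A 𝔞 B 𝔟 := by
  intro C _ _ J hJ hk u ⟨k, hu⟩
  have hu' : ∀ x ∈ 𝔟 ^ k, u x = 0 := hu
  let ū : B ⧸ 𝔟 ^ k →ₐ[A] C ⧸ J := Ideal.Quotient.liftₐ (𝔟 ^ k) u hu'
  let û : AdicCompletion 𝔟 B →ₐ[A] C ⧸ J :=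
    ū.comp ((AdicCompletion.evalₐ 𝔟 k).restrictScalars A)
  have hû : ∃ k : ℕ, ∀ x ∈ (𝔟.map (algebraMap B (AdicCompletion 𝔟 B))) ^ k, û x = 0 := by
    refine ⟨k, fun x hx => ?_⟩
    rw [← Ideal.map_pow] at hx
    have := map_pow_le_ker_evalₐ 𝔟 k hx
    rw [RingHom.mem_ker] at this
    show ū (AdicCompletion.evalₐ 𝔟 k x) = 0
    have h2 : AdicCompletion.evalₐ 𝔟 k x = 0 := this
    rw [h2, map_zero]
  obtain ⟨vh, hvh⟩ := h C J hJ hk û hû
  refine ⟨vh.comp (IsScalarTower.toAlgHom A B (AdicCompletion 𝔟 B)), ?_⟩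
  ext b
  have h1 := AlgHom.congr_fun hvh (algebraMap B (AdicCompletion 𝔟 B) b)
  have h2 : û (algebraMap B (AdicCompletion 𝔟 B) b) = u b := by
    show ū (AdicCompletion.evalₐ 𝔟 k (AdicCompletion.of 𝔟 B b)) = u b
    rw [AdicCompletion.evalₐ_of]
    rfl
  rw [h2] at h1
  exact h1

theorem isFormallySmoothAdic_adicCompletion [IsNoetherianRing B]
    (h : IsFormallySmoothAdic A 𝔞 B 𝔟) :
    IsFormallySmoothAdic A 𝔞 (AdicCompletion 𝔟 B)
      (𝔟.map (algebraMap B (AdicCompletion 𝔟 B))) := by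
  intro C _ _ J hJ hk û ⟨k, hû⟩
  obtain ⟨N, hN⟩ := hJ
  let ι : B →ₐ[A] AdicCompletion 𝔟 B := IsScalarTower.toAlgHom A B (AdicCompletion 𝔟 B)
  have hι : ∀ b, ι b = algebraMap B (AdicCompletion 𝔟 B) b := fun b => rfl
  let u : B →ₐ[A] C ⧸ J := û.comp ι
  have hu : ∃ k : ℕ, ∀ x ∈ 𝔟 ^ k, u x = 0 := by
    refine ⟨k, fun x hx => ?_⟩
    show û (ι x) = 0
    apply hû
    rw [← Ideal.map_pow]
    exact Ideal.mem_map_of_mem _ hx
  obtain ⟨v, hv⟩ := h C J ⟨N, hN⟩ hk u hu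
  have hvu : ∀ b, Ideal.Quotient.mk J (v b) = u b := fun b => AlgHom.congr_fun hv b
  have hvJ : (𝔟 ^ k).map v.toRingHom ≤ J := by
    rw [Ideal.map_le_iff_le_comap]
    intro b hb
    rw [Ideal.mem_comap, ← Ideal.Quotient.eq_zero_iff_mem]
    show Ideal.Quotient.mk J (v b) = 0
    rw [hvu]
    show û (ι b) = 0
    apply hû
    rw [← Ideal.map_pow]
    exact Ideal.mem_map_of_mem _ hb
  have hvkill : ∀ x ∈ 𝔟 ^ (k * N + k), v x = 0 := by
    intro x hx
    have hx' : x ∈ (𝔟 ^ k) ^ N := by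
      rw [← pow_mul]
      exact Ideal.pow_le_pow_right (Nat.le_add_right _ _) hx
    have h1 : v.toRingHom x ∈ ((𝔟 ^ k) ^ N).map v.toRingHom := Ideal.mem_map_of_mem _ hx'
    rw [Ideal.map_pow] at h1
    have h2 := Ideal.pow_right_mono hvJ N h1
    rw [hN] at h2
    exact h2
  let vbar : B ⧸ 𝔟 ^ (k * N + k) →ₐ[A] C := Ideal.Quotient.liftₐ (𝔟 ^ (k * N + k)) v hvkill
  let vh : AdicCompletion 𝔟 B →ₐ[A] C :=
    vbar.comp ((AdicCompletion.evalₐ 𝔟 (k * N + k)).restrictScalars A)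
  refine ⟨vh, ?_⟩
  ext x
  obtain ⟨b, hb⟩ := Ideal.Quotient.mk_surjective (AdicCompletion.evalₐ 𝔟 (k * N + k) x)
  have hx : x - ι b ∈ (𝔟.map (algebraMap B (AdicCompletion 𝔟 B))) ^ k := by
    have h1 : x - ι b ∈ RingHom.ker (AdicCompletion.evalₐ 𝔟 (k * N + k)).toRingHom := by
      rw [RingHom.mem_ker]
      show AdicCompletion.evalₐ 𝔟 (k * N + k) (x - ι b) = 0
      rw [map_sub, hι]
      show _ - AdicCompletion.evalₐ 𝔟 (k * N + k) (AdicCompletion.of 𝔟 B b) = 0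
      rw [AdicCompletion.evalₐ_of, hb, sub_self]
    have h2 := ker_evalₐ_le_map_pow 𝔟 (IsNoetherian.noetherian 𝔟) _ h1
    rw [Ideal.map_pow] at h2
    exact Ideal.pow_le_pow_right (Nat.le_add_left _ _) h2
  have h3 : û x = u b := by
    have := hû _ hx
    rw [map_sub, sub_eq_zero] at this
    exact this
  show Ideal.Quotient.mk J (vbar (AdicCompletion.evalₐ 𝔟 (k * N + k) x)) = û x
  rw [h3, ← hb, ← hvu]
  rfl

/-- version with `𝔟` finitely generated only -/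
theorem isFormallySmoothAdic_adicCompletion_of_fg (fg : 𝔟.FG)
    (h : IsFormallySmoothAdic A 𝔞 B 𝔟) :
    IsFormallySmoothAdic A 𝔞 (AdicCompletion 𝔟 B)
      (𝔟.map (algebraMap B (AdicCompletion 𝔟 B))) := by
  intro C _ _ J hJ hk û ⟨k, hû⟩
  obtain ⟨N, hN⟩ := hJ
  let ι : B →ₐ[A] AdicCompletion 𝔟 B := IsScalarTower.toAlgHom A B (AdicCompletion 𝔟 B)
  have hι : ∀ b, ι b = algebraMap B (AdicCompletion 𝔟 B) b := fun b => rfl
  let u : B →ₐ[A] C ⧸ J := û.comp ι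
  have hu : ∃ k : ℕ, ∀ x ∈ 𝔟 ^ k, u x = 0 := by
    refine ⟨k, fun x hx => ?_⟩
    show û (ι x) = 0
    apply hû
    rw [← Ideal.map_pow]
    exact Ideal.mem_map_of_mem _ hx
  obtain ⟨v, hv⟩ := h C J ⟨N, hN⟩ hk u hu
  have hvu : ∀ b, Ideal.Quotient.mk J (v b) = u b := fun b => AlgHom.congr_fun hv b
  have hvJ : (𝔟 ^ k).map v.toRingHom ≤ J := by
    rw [Ideal.map_le_iff_le_comap]
    intro b hb
    rw [Ideal.mem_comap, ← Ideal.Quotient.eq_zero_iff_mem]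
    show Ideal.Quotient.mk J (v b) = 0
    rw [hvu]
    show û (ι b) = 0
    apply hû
    rw [← Ideal.map_pow]
    exact Ideal.mem_map_of_mem _ hb
  have hvkill : ∀ x ∈ 𝔟 ^ (k * N + k), v x = 0 := by
    intro x hx
    have hx' : x ∈ (𝔟 ^ k) ^ N := by
      rw [← pow_mul]
      exact Ideal.pow_le_pow_right (Nat.le_add_right _ _) hx
    have h1 : v.toRingHom x ∈ ((𝔟 ^ k) ^ N).map v.toRingHom := Ideal.mem_map_of_mem _ hx'
    rw [Ideal.map_pow] at h1
    have h2 := Ideal.pow_right_mono hvJ N h1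
    rw [hN] at h2
    exact h2
  let vbar : B ⧸ 𝔟 ^ (k * N + k) →ₐ[A] C := Ideal.Quotient.liftₐ (𝔟 ^ (k * N + k)) v hvkill
  let vh : AdicCompletion 𝔟 B →ₐ[A] C :=
    vbar.comp ((AdicCompletion.evalₐ 𝔟 (k * N + k)).restrictScalars A)
  refine ⟨vh, ?_⟩
  ext x
  obtain ⟨b, hb⟩ := Ideal.Quotient.mk_surjective (AdicCompletion.evalₐ 𝔟 (k * N + k) x)
  have hx : x - ι b ∈ (𝔟.map (algebraMap B (AdicCompletion 𝔟 B))) ^ k := by
    have h1 : x - ι b ∈ RingHom.ker (AdicCompletion.evalₐ 𝔟 (k * N + k)).toRingHom := by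
      rw [RingHom.mem_ker]
      show AdicCompletion.evalₐ 𝔟 (k * N + k) (x - ι b) = 0
      rw [map_sub, hι]
      show _ - AdicCompletion.evalₐ 𝔟 (k * N + k) (AdicCompletion.of 𝔟 B b) = 0
      rw [AdicCompletion.evalₐ_of, hb, sub_self]
    have h2 := ker_evalₐ_le_map_pow 𝔟 fg _ h1
    rw [Ideal.map_pow] at h2
    exact Ideal.pow_le_pow_right (Nat.le_add_left _ _) h2
  have h3 : û x = u b := by
    have := hû _ hx
    rw [map_sub, sub_eq_zero] at this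
    exact this
  show Ideal.Quotient.mk J (vbar (AdicCompletion.evalₐ 𝔟 (k * N + k) x)) = û x
  rw [h3, ← hb, ← hvu]
  rfl


end Main

end Groth.Agent.Lib.FSAdicComplH3
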