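import Mathlib

/-!
# Geometrically reduced finitely generated field extensions are formally smooth;
  injectivity of `m/m² → κ ⊗ Ω` for formally smooth residue field.
-/

open TensorProduct

namespace Groth.Agent.Lib.SepGenH3

universe u

section Conormal

variable (R P S : Type u) [CommRing R] [CommRing P] [CommRing S] [Algebra R P] [Algebra P S]
  [Algebra R S] [IsScalarTower R P S]

/-- if `S` is formally smooth over `R` and `P → S` is surjective, `I/I² → S ⊗ Ω[P/R]` is
injective. -/
theorem kerCotangentToTensor_injective_of_formallySmooth [Algebra.FormallySmooth R S]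
    (hf : Function.Surjective (algebraMap P S)) :
    Function.Injective (KaehlerDifferential.kerCotangentToTensor R P S) := by
  -- a section of `P/I² → S`
  let q : (P ⧸ (RingHom.ker (IsScalarTower.toAlgHom R P S)) ^ 2) →ₐ[R] S :=
    (IsScalarTower.toAlgHom R P S).kerSquareLift
  have hq : Function.Surjective q := by
    intro s
    obtain ⟨x, rfl⟩ := hf s
    exact ⟨Ideal.Quotient.mk _ x, rfl⟩
  have hq' : IsNilpotent (RingHom.ker (q : (P ⧸ (RingHom.ker (IsScalarTower.toAlgHom R P S)) ^ 2) →+* S)) := by
    refine ⟨2, ?_⟩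
    have := (IsScalarTower.toAlgHom R P S).ker_kerSquareLift
    change RingHom.ker (IsScalarTower.toAlgHom R P S).kerSquareLift.toRingHom ^ 2 = ⊥
    rw [this]
    exact Ideal.cotangentIdeal_square _
  let g : S →ₐ[R] _ := Algebra.FormallySmooth.liftOfSurjective (AlgHom.id R S) q hq hq'
  have hg : q.comp g = AlgHom.id R S :=
    Algebra.FormallySmooth.comp_liftOfSurjective (AlgHom.id R S) q hq hq'
  obtain ⟨l, hl⟩ := (retractionKerCotangentToTensorEquivSection (R := R) (P := P) (S := S) hf).symm
    ⟨g, hg⟩
  intro x y hxy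
  have h1 := LinearMap.congr_fun hl x
  have h2 := LinearMap.congr_fun hl y
  simp only [LinearMap.coe_comp, Function.comp_apply, LinearMap.id_coe, id_eq] at h1 h2
  rw [← h1, ← h2]
  exact congrArg l hxy

end Conormal

section Field

variable (k K : Type u) [Field k] [Field K] [Algebra k K]

theorem linearIndepOn_pow (p : ℕ) (hp : p.Prime) [CharP k p]
    [IsReduced (AlgebraicClosure k ⊗[k] K)]
    (s : Finset K) (hs : LinearIndepOn k id (s : Set K)) : LinearIndepOn k (· ^ p) (s : Set K) := by
  classical
  haveI : Fact p.Prime := ⟨hp⟩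
  have hs' : LinearIndependent k (fun x : (s : Set K) => (x : K)) := hs
  change LinearIndependent k (fun x : (s : Set K) => (x : K) ^ p)
  rw [Fintype.linearIndependent_iff]
  intro c hc i
  have hγ : ∀ x : (s : Set K), ∃ γ : AlgebraicClosure k,
      γ ^ p = algebraMap k (AlgebraicClosure k) (c x) :=
    fun x => IsAlgClosed.exists_pow_nat_eq _ hp.pos
  choose γ hγ using hγ
  haveI : Nontrivial (AlgebraicClosure k ⊗[k] K) :=
    (Algebra.TensorProduct.includeLeft_injective (S := k)
      (algebraMap k K).injective : Function.Injective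
        (Algebra.TensorProduct.includeLeft : AlgebraicClosure k →ₐ[k] _)).nontrivial
  haveI : CharP (AlgebraicClosure k ⊗[k] K) p :=
    charP_of_injective_algebraMap (algebraMap k (AlgebraicClosure k ⊗[k] K)).injective p
  have hz : (∑ x : (s : Set K), γ x ⊗ₜ[k] (x : K)) ^ p = 0 := by
    rw [sum_pow_char]
    simp_rw [Algebra.TensorProduct.tmul_pow, hγ]
    have : ∀ x : (s : Set K), (algebraMap k (AlgebraicClosure k) (c x)) ⊗ₜ[k] ((x : K) ^ p) =
        (1 : AlgebraicClosure k) ⊗ₜ[k] (c x • (x : K) ^ p) := by
      intro x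
      rw [Algebra.algebraMap_eq_smul_one, TensorProduct.smul_tmul]
    simp_rw [this]
    rw [← TensorProduct.tmul_sum, hc, TensorProduct.tmul_zero]
  have hz0 : (∑ x : (s : Set K), γ x ⊗ₜ[k] (x : K)) = 0 := IsReduced.eq_zero _ ⟨p, hz⟩
  have hli := Module.Flat.linearIndependent_one_tmul (S := AlgebraicClosure k) hs'
  rw [Fintype.linearIndependent_iff] at hli
  have h0 := hli γ (by
    rw [← hz0]
    refine Finset.sum_congr rfl fun x _ => ?_
    rw [TensorProduct.smul_tmul', smul_eq_mul, mul_one]) i
  have h1 := hγ i
  rw [h0, zero_pow hp.ne_zero] at h1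
  exact (map_eq_zero _).mp h1.symm

theorem formallySmooth_of_isGeometricallyReduced [Algebra.EssFiniteType k K]
    [Algebra.IsGeometricallyReduced k K] : Algebra.FormallySmooth k K := by
  obtain h0 | ⟨p, hp, hpk⟩ := CharP.exists' k
  · infer_instance
  · haveI := hpk
    haveI : ExpChar k p := ExpChar.prime hp.out
    obtain ⟨s, hs, H⟩ :=
      exists_isTranscendenceBasis_and_isSeparable_of_linearIndepOn_pow_of_essFiniteType
        (k := k) (K := K) p hp.out (fun s hs => linearIndepOn_pow k K p hp.out s hs)
    have : Algebra.IsSeparable (↥(IntermediateField.adjoin k (Set.range ((↑) : s → K)))) K := by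
      convert! H <;> simp
    exact .of_algebraicIndependent_of_isSeparable hs.1

end Field

end Groth.Agent.Lib.SepGenH3
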