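import Groth.Agent.Lib.PBasisSmooth_helper3
import Groth.Agent.Lib.SepGen_helper3

/-!
# Separable (geometrically reduced) field extensions are formally smooth (EGA 0_IV 19.6.1)
-/

set_option autoImplicit false
set_option maxSynthPendingDepth 3

namespace Groth.Agent.Lib.SepSmoothH3

universe u

open EGA41 TensorProduct Groth.Agent.Lib.PBasisH3

section LinIndep

variable (k K : Type u) [Field k] [Field K] [Algebra k K]

theorem linearIndependent_pow_fintype (p : ℕ) [hp : Fact p.Prime] [CharP k p]
    [IsReduced (AlgebraicClosure k ⊗[k] K)]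
    {J : Type*} [Fintype J] (s : J → K) (hs : LinearIndependent k s) :
    LinearIndependent k (fun j => s j ^ p) := by
  classical
  rw [Fintype.linearIndependent_iff]
  intro c hc i
  have hγ : ∀ x : J, ∃ γ : AlgebraicClosure k,
      γ ^ p = algebraMap k (AlgebraicClosure k) (c x) :=
    fun x => IsAlgClosed.exists_pow_nat_eq _ hp.out.pos
  choose γ hγ using hγ
  haveI : Nontrivial (AlgebraicClosure k ⊗[k] K) :=
    (Algebra.TensorProduct.includeLeft_injective (S := k)
      (algebraMap k K).injective : Function.Injective
        (Algebra.TensorProduct.includeLeft : AlgebraicClosure k →ₐ[k] _)).nontrivial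
  haveI : CharP (AlgebraicClosure k ⊗[k] K) p :=
    charP_of_injective_algebraMap (algebraMap k (AlgebraicClosure k ⊗[k] K)).injective p
  have hz : (∑ x : J, γ x ⊗ₜ[k] (s x)) ^ p = 0 := by
    rw [sum_pow_char]
    simp_rw [Algebra.TensorProduct.tmul_pow, hγ]
    have : ∀ x : J, (algebraMap k (AlgebraicClosure k) (c x)) ⊗ₜ[k] ((s x) ^ p) =
        (1 : AlgebraicClosure k) ⊗ₜ[k] (c x • (s x) ^ p) := by
      intro x
      rw [Algebra.algebraMap_eq_smul_one, TensorProduct.smul_tmul]
    simp_rw [this]
    rw [← TensorProduct.tmul_sum, hc, TensorProduct.tmul_zero]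
  have hz0 : (∑ x : J, γ x ⊗ₜ[k] (s x)) = 0 := IsReduced.eq_zero _ ⟨p, hz⟩
  have hli := Module.Flat.linearIndependent_one_tmul (S := AlgebraicClosure k) hs
  rw [Fintype.linearIndependent_iff] at hli
  have h0 := hli γ (by
    rw [← hz0]
    refine Finset.sum_congr rfl fun x _ => ?_
    rw [TensorProduct.smul_tmul', smul_eq_mul, mul_one]) i
  have h1 := hγ i
  rw [h0, zero_pow hp.out.ne_zero] at h1
  exact (map_eq_zero _).mp h1.symm

theorem linearIndependent_pow (p : ℕ) [hp : Fact p.Prime] [CharP k p]
    [Algebra.IsGeometricallyReduced k K]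
    {J : Type*} (s : J → K) (hs : LinearIndependent k s) :
    LinearIndependent k (fun j => s j ^ p) := by
  haveI : IsReduced (AlgebraicClosure k ⊗[k] K) :=
    (Algebra.isGeometricallyReduced_field_iff k K).mp inferInstance
  rw [linearIndependent_iff_finset_linearIndependent]
  intro t
  have hs' : LinearIndependent k (s ∘ (Subtype.val : t → J)) := hs.comp _ Subtype.val_injective
  exact linearIndependent_pow_fintype k K p _ hs'

end LinIndep

section PBasisExists

variable (p : ℕ) [hp : Fact p.Prime] (k K : Type u) [Field k] [Field K] [Algebra k K] [CharP K p]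

include hp in
theorem exists_pBasis_field : ∃ B : Set K, IsPBasis p k (Subtype.val : B → K) := by
  classical
  letI : Field (pPowerSubalgebra p k K) := (isField_pPower p).toField
  have hpow : ∀ y : K, y ^ p ∈ Set.range (algebraMap (pPowerSubalgebra p k K) K) := fun y =>
    ⟨⟨y ^ p, pow_mem_pPower p y⟩, rfl⟩
  have hL : LinearIndependent (pPowerSubalgebra p k K)
      (redMon p (Subtype.val : (∅ : Set K) → K)) := by
    have h1 : PIon p (pPowerSubalgebra p k K) (Set.range (Subtype.val : (∅ : Set K) → K)) := by
      rw [Subtype.range_coe]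
      exact pIon_empty p
    exact (pIon_range_iff (F := pPowerSubalgebra p k K) p (Subtype.val : (∅ : Set K) → K)
      Subtype.val_injective).1 h1
  have hS : Submodule.span (pPowerSubalgebra p k K)
      (Set.range (redMon p (Subtype.val : ↥(Set.univ : Set K) → K))) = ⊤ := by
    rw [eq_top_iff]
    intro y _
    refine Submodule.subset_span ⟨⟨Finsupp.single ⟨y, trivial⟩ 1, ?_⟩, ?_⟩
    · intro i
      by_cases h : (⟨y, trivial⟩ : (Set.univ : Set K)) = i
      · rw [h, Finsupp.single_eq_same]
        exact hp.out.one_lt
      · rw [Finsupp.single_eq_of_ne' h]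
        exact hp.out.pos
    · show pMonomial _ (Finsupp.single _ 1) = y
      unfold pMonomial
      rw [Finsupp.prod_single_index (by simp)]
      simp
  obtain ⟨B, -, -, hB1, hB2⟩ :=
    exists_pBasis_general (F := pPowerSubalgebra p k K) p hpow Set.univ ∅ (Set.empty_subset _) hS hL
  exact ⟨B, hB1, hB2⟩

end PBasisExists

section W0

variable (p : ℕ) [hp : Fact p.Prime] (k K : Type u) [Field k] [Field K] [Algebra k K] [CharP k p]
  [Algebra.IsGeometricallyReduced k K]

/-- `y ↦ y ^ p` into `k[K^p]` -/
def P (y : K) : pPowerSubalgebra p k K := ⟨y ^ p, pow_mem_pPower p y⟩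

omit hp [CharP k p] [Algebra.IsGeometricallyReduced k K] in
theorem P_mul (y y' : K) : P p k K (y * y') = P p k K y * P p k K y' :=
  Subtype.ext (mul_pow y y' p)

omit hp [CharP k p] [Algebra.IsGeometricallyReduced k K] in
theorem P_one : P p k K 1 = 1 := Subtype.ext (one_pow p)

omit hp [CharP k p] [Algebra.IsGeometricallyReduced k K] in
theorem span_P : Submodule.span k (Set.range (P p k K)) = ⊤ := by
  have hmul : Submodule.span k (Set.range (P p k K)) * Submodule.span k (Set.range (P p k K)) ≤
      Submodule.span k (Set.range (P p k K)) := by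
    rw [Submodule.span_mul_span]
    apply Submodule.span_mono
    rintro _ ⟨_, ⟨y, rfl⟩, _, ⟨y', rfl⟩, rfl⟩
    exact ⟨y * y', P_mul p k K y y'⟩
  rw [eq_top_iff]
  rintro ⟨c, hc⟩ -
  have key : ∀ (c : K) (hc : c ∈ pPowerSubalgebra p k K),
      (⟨c, hc⟩ : pPowerSubalgebra p k K) ∈ Submodule.span k (Set.range (P p k K)) := by
    intro c hc
    unfold pPowerSubalgebra at hc
    induction hc using Algebra.adjoin_induction with
    | mem c hc =>
      obtain ⟨y, rfl⟩ := hc
      exact Submodule.subset_span ⟨y, rfl⟩
    | algebraMap r =>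
      have h1 : (⟨algebraMap k K r, Subalgebra.algebraMap_mem _ r⟩ : pPowerSubalgebra p k K) =
          r • (1 : pPowerSubalgebra p k K) := by
        apply Subtype.ext
        show algebraMap k K r = r • (1 : K)
        exact Algebra.algebraMap_eq_smul_one r
      rw [h1, ← P_one p k K]
      exact Submodule.smul_mem _ _ (Submodule.subset_span ⟨1, rfl⟩)
    | add c d hc hd h h' =>
      exact Submodule.add_mem _ h h'
    | mul c d hc hd h h' =>
      exact hmul (Submodule.mul_mem_mul h h')
  exact key c hc

include hp in
omit [Algebra.IsGeometricallyReduced k K] in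
theorem pow_eq_sum {J : Type u} (b : Module.Basis J k K) (y : K) :
    y ^ p = ∑ j ∈ (b.repr y).support, (b.repr y j) ^ p • (b j) ^ p := by
  haveI : CharP K p := charP_of_injective_algebraMap (algebraMap k K).injective p
  conv_lhs => rw [← b.linearCombination_repr y, Finsupp.linearCombination_apply, Finsupp.sum]
  rw [sum_pow_char]
  exact Finset.sum_congr rfl fun j _ => smul_pow _ _ _

include hp in
/-- the `p`-th powers of a `k`-basis of `K` form a `k`-basis of `k[K^p]` -/
theorem exists_basis_pPower {J : Type u} (b : Module.Basis J k K) :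
    ∃ bC : Module.Basis J k (pPowerSubalgebra p k K), ∀ j, bC j = P p k K (b j) := by
  have hli : LinearIndependent k (fun j => P p k K (b j)) := by
    have h1 : LinearIndependent k (fun j => b j ^ p) :=
      linearIndependent_pow k K p b b.linearIndependent
    exact LinearIndependent.of_comp (pPowerSubalgebra p k K).val.toLinearMap h1
  have hKp : ∀ y : K, y ^ p ∈ Submodule.span k (Set.range fun j => b j ^ p) := by
    intro y
    rw [pow_eq_sum p k K b y]
    exact Submodule.sum_mem _ fun j _ =>
      Submodule.smul_mem _ _ (Submodule.subset_span ⟨j, rfl⟩)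
  have hsp : ⊤ ≤ Submodule.span k (Set.range fun j => P p k K (b j)) := by
    rw [← span_P p k K, Submodule.span_le]
    rintro _ ⟨y, rfl⟩
    have h1 := hKp y
    have h2 : Submodule.span k (Set.range fun j => b j ^ p) =
        (Submodule.span k (Set.range fun j => P p k K (b j))).map
          (pPowerSubalgebra p k K).val.toLinearMap := by
      rw [Submodule.map_span, ← Set.range_comp]
      rfl
    rw [h2] at h1
    obtain ⟨c, hc, hcy⟩ := h1
    have : c = P p k K y := Subtype.ext hcy
    rw [← this]
    exact hc
  exact ⟨Module.Basis.mk hli hsp, fun j => Module.Basis.mk_apply hli hsp j⟩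

end W0

section Main

variable (p : ℕ) [hp : Fact p.Prime] (k K : Type u) [Field k] [Field K] [Algebra k K] [CharP k p]
  [Algebra.IsGeometricallyReduced k K]

/-- the `k`-algebra map `k[K^p] → E` lifting `v`, for a square-zero ideal -/
theorem exists_w0 (E : Type u) [CommRing E] [Algebra k E] (I : Ideal E) (hI : I ^ 2 = ⊥)
    (hpE : (p : E) = 0) (v : K →ₐ[k] E ⧸ I) :
    ∃ w₀ : pPowerSubalgebra p k K →ₐ[k] E,
      ∀ y : K, w₀ (P p k K y) = frobLift p hpE I hI (v y) := by
  classical
  haveI : CharP K p := charP_of_injective_algebraMap (algebraMap k K).injective p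
  let ψ : K →+* E := (frobLift p hpE I hI).comp v.toRingHom
  have hψsmul : ∀ (r : k) (y : K), ψ (r • y) = r ^ p • ψ y := by
    intro r y
    show frobLift p hpE I hI (v (r • y)) = r ^ p • frobLift p hpE I hI (v y)
    obtain ⟨e, he⟩ := Ideal.Quotient.mk_surjective (v y)
    rw [map_smul, ← he]
    have : r • Ideal.Quotient.mk I e = Ideal.Quotient.mk I (r • e) := rfl
    rw [this, frobLift_mk, frobLift_mk, smul_pow]
  let b := Module.Basis.ofVectorSpace k K
  obtain ⟨bC, hbC⟩ := exists_basis_pPower p k K b
  let f : pPowerSubalgebra p k K →ₗ[k] E := bC.constr k (fun j => ψ (b j))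
  have hfb : ∀ j, f (P p k K (b j)) = ψ (b j) := by
    intro j
    rw [← hbC j]
    exact bC.constr_basis k _ j
  -- evaluation on `p`-th powers
  have hEV : ∀ y : K, f (P p k K y) = ψ y := by
    intro y
    have h1 : P p k K y = ∑ j ∈ (b.repr y).support, (b.repr y j) ^ p • P p k K (b j) := by
      apply Subtype.ext
      have h2 : ((∑ j ∈ (b.repr y).support, (b.repr y j) ^ p • P p k K (b j) :
          pPowerSubalgebra p k K) : K) = ∑ j ∈ (b.repr y).support, (b.repr y j) ^ p • (b j) ^ p := by
        have := map_sum (pPowerSubalgebra p k K).val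
          (fun j => (b.repr y j) ^ p • P p k K (b j)) (b.repr y).support
        simp only [map_smul] at this
        exact this
      rw [h2]
      exact pow_eq_sum p k K b y
    rw [h1, map_sum]
    simp only [map_smul, hfb]
    conv_rhs => rw [← b.linearCombination_repr y, Finsupp.linearCombination_apply, Finsupp.sum]
    rw [map_sum]
    refine Finset.sum_congr rfl fun j _ => ?_
    rw [hψsmul]
  have hm1 : ∀ (y : K) (c : pPowerSubalgebra p k K), f (P p k K y * c) = ψ y * f c := by
    intro y c
    have hc : c ∈ Submodule.span k (Set.range (P p k K)) := by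
      rw [span_P]
      trivial
    induction hc using Submodule.span_induction with
    | mem c hc =>
      obtain ⟨y', rfl⟩ := hc
      rw [← P_mul, hEV, hEV, map_mul]
    | zero => simp
    | add c c' _ _ h h' => rw [mul_add, map_add, h, h', map_add, mul_add]
    | smul r c _ h => rw [mul_smul_comm, map_smul, h, map_smul, mul_smul_comm]
  have hmul : ∀ c c' : pPowerSubalgebra p k K, f (c * c') = f c * f c' := by
    intro c c'
    have hc : c ∈ Submodule.span k (Set.range (P p k K)) := by
      rw [span_P]
      trivial
    induction hc using Submodule.span_induction with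
    | mem c hc =>
      obtain ⟨y, rfl⟩ := hc
      rw [hm1, hEV]
    | zero => simp
    | add c d _ _ h h' => rw [add_mul, map_add, h, h', map_add, add_mul]
    | smul r c _ h => rw [smul_mul_assoc, map_smul, h, map_smul, smul_mul_assoc]
  have hone : f 1 = 1 := by
    rw [← P_one p k K, hEV, map_one]
  exact ⟨AlgHom.ofLinearMap f hone hmul, hEV⟩

include hp in
/-- **EGA 0_IV 19.6.1 (char p)**: a separable extension is formally smooth. -/
theorem formallySmooth_of_charP : Algebra.FormallySmooth k K := by
  classical
  haveI : CharP K p := charP_of_injective_algebraMap (algebraMap k K).injective p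
  obtain ⟨B, hB⟩ := exists_pBasis_field p k K
  refine Algebra.FormallySmooth.of_comp_surjective fun E _ _ I hI v => ?_
  have hpE : (p : E) = 0 := by
    have h0 : (p : k) = 0 := CharP.cast_eq_zero k p
    rw [← map_natCast (algebraMap k E), h0, map_zero]
  obtain ⟨w₀, hw₀⟩ := exists_w0 p k K E I hI hpE v
  choose z hz using fun i : B => Ideal.Quotient.mk_surjective (v i.1)
  let a : B → pPowerSubalgebra p k K := fun i => P p k K i.1
  have ha : ∀ i, algebraMap (pPowerSubalgebra p k K) K (a i) = (i : K) ^ p := fun i => rfl
  have hzp : ∀ i, z i ^ p = w₀.toRingHom (a i) := by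
    intro i
    show z i ^ p = w₀ (P p k K i.1)
    rw [hw₀, ← hz i, frobLift_mk]
  obtain ⟨w, hw1, hw2⟩ := exists_ringHom_lift p (Subtype.val : B → K) a ha hB.1 hB.2
    w₀.toRingHom z hzp
  have hcomm : ∀ r : k, w (algebraMap k K r) = algebraMap k E r := by
    intro r
    have : algebraMap k K r = algebraMap (pPowerSubalgebra p k K) K
        (algebraMap k (pPowerSubalgebra p k K) r) := rfl
    rw [this, hw1]
    exact w₀.commutes r
  have hlift : (Ideal.Quotient.mk I).comp w = v.toRingHom := by
    refine ringHom_ext_of_pBasis (C := pPowerSubalgebra p k K) p (Subtype.val : B → K) hB.2 _ _ ?_ ?_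
    · intro c
      show Ideal.Quotient.mk I (w (algebraMap _ K c)) = v (algebraMap _ K c)
      rw [hw1]
      have hc : c ∈ Submodule.span k (Set.range (P p k K)) := by
        rw [span_P]
        trivial
      induction hc using Submodule.span_induction with
      | mem c hc =>
        obtain ⟨y, rfl⟩ := hc
        show Ideal.Quotient.mk I (w₀ (P p k K y)) = v (y ^ p)
        rw [hw₀, mk_frobLift, map_pow]
      | zero => simp
      | add c d _ _ h h' =>
        rw [map_add, map_add, map_add, map_add]
        rw [h, h']
      | smul r c _ h =>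
        have e1 : w₀.toRingHom (r • c) = r • w₀.toRingHom c := map_smul w₀ r c
        have e2 : algebraMap (pPowerSubalgebra p k K) K (r • c) =
            r • algebraMap (pPowerSubalgebra p k K) K c := rfl
        rw [e1, e2, map_smul v]
        have e3 : Ideal.Quotient.mk I (r • w₀.toRingHom c) =
            r • Ideal.Quotient.mk I (w₀.toRingHom c) := rfl
        rw [e3, h]
    · intro i
      show Ideal.Quotient.mk I (w i.1) = v i.1
      rw [hw2, hz]
  refine ⟨{ w with commutes' := hcomm }, AlgHom.ext fun y => ?_⟩
  exact RingHom.congr_fun hlift y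

end Main

section CharZero

variable (k K : Type u) [Field k] [Field K] [Algebra k K]

theorem formallySmooth_of_charZero [CharZero k] : Algebra.FormallySmooth k K := by
  obtain ⟨s, hs⟩ := exists_isTranscendenceBasis k K
  haveI : Algebra.IsAlgebraic (IntermediateField.adjoin k (Set.range ((↑) : s → K))) K := by
    have := hs.isAlgebraic_field
    simpa using this
  exact Algebra.FormallySmooth.of_algebraicIndependent_of_isSeparable hs.1

/-- **EGA 0_IV 19.6.1**: a separable (geometrically reduced) field extension is formally
smooth. -/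
theorem formallySmooth_of_isGeometricallyReduced [Algebra.IsGeometricallyReduced k K] :
    Algebra.FormallySmooth k K := by
  obtain h0 | ⟨p, hp, hpk⟩ := CharP.exists' k
  · exact formallySmooth_of_charZero k K
  · haveI := hp
    haveI := hpk
    exact formallySmooth_of_charP p k K

end CharZero

end Groth.Agent.Lib.SepSmoothH3
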