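import Groth.Agent.Lib.RegPS_helper3
import Groth.Agent.Lib.SepSmooth_helper3
import Groth.Agent.Lib.FSAdicCompl_helper3
import Groth.Agent.Lib.CohenLift2_helper3
import Groth.Agent.Lib.CompletionRegular_helper5
import Groth.Agent.S4537
import Groth.Agent.S11740

/-!
# Formally smooth local algebras over a field: regularity and power series (EGA 0_IV 19.6.4)
-/

set_option autoImplicit false
set_option maxSynthPendingDepth 3

namespace Groth.Agent.Lib.FSRegularH3

universe u

open IsLocalRing MvPowerSeries EGA41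

section PS

/-- Power series over a formally smooth field extension are adically formally smooth. -/
theorem isAdicFormallySmooth_mvPowerSeries (k L : Type u) [CommRing k] [Field L] [Algebra k L]
    [Algebra.FormallySmooth k L] (n : ℕ) :
    CAlgX.IsAdicFormallySmooth k (MvPowerSeries (Fin n) L)
      (maximalIdeal (MvPowerSeries (Fin n) L)) := by
  open Groth.Agent.Lib.PSEvalH1 in
  intro A _ _ J hJ ψ hψ
  obtain ⟨m, hm⟩ := hψ
  let ψ₀ : L →ₐ[k] A ⧸ J :=
    ψ.comp ((Algebra.ofId L (MvPowerSeries (Fin n) L)).restrictScalars k)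
  have hJn : IsNilpotent J := ⟨2, by rw [hJ]; rfl⟩
  let σ : L →ₐ[k] A := Algebra.FormallySmooth.lift J hJn ψ₀
  have hσ : ∀ c, Ideal.Quotient.mk J (σ c) = ψ₀ c := Algebra.FormallySmooth.mk_lift J hJn ψ₀
  letI : Algebra L A := σ.toRingHom.toAlgebra
  have halg : ∀ c : L, algebraMap L A c = σ c := fun c => rfl
  have hsurj := Ideal.Quotient.mk_surjective (I := J)
  choose a ha using fun i : Fin n => hsurj (ψ (MvPowerSeries.X i))
  have hXmem : ∀ i : Fin n, (X i : MvPowerSeries (Fin n) L) ∈
      maximalIdeal (MvPowerSeries (Fin n) L) := by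
    intro i
    rw [Groth.Agent.Lib.PSCompleteH1.mem_maximalIdeal_iff, constantCoeff_X]
    exact Ideal.zero_mem _
  have hnil : ∀ i, IsNilpotent (a i) := by
    intro i
    refine ⟨m * 2, ?_⟩
    have h1 : a i ^ m ∈ J := by
      rw [← Ideal.Quotient.eq_zero_iff_mem, map_pow, ha, ← map_pow]
      exact hm _ (Ideal.pow_mem_pow (hXmem i) m)
    have h2 : a i ^ m * a i ^ m ∈ J ^ 2 := by
      rw [pow_two]
      exact Ideal.mul_mem_mul h1 h1
    rw [hJ, Ideal.mem_bot] at h2
    rw [pow_mul, pow_two]
    exact h2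
  let χ₀ : MvPowerSeries (Fin n) L →ₐ[L] A := evalNil a hnil
  haveI : IsScalarTower k L A := IsScalarTower.of_algebraMap_eq (fun q => (σ.commutes q).symm)
  refine ⟨χ₀.restrictScalars k, ?_⟩
  let ε₁ : MvPowerSeries (Fin n) L →ₐ[L] A ⧸ J := (Ideal.Quotient.mkₐ L J).comp χ₀
  let ε₂ : MvPowerSeries (Fin n) L →ₐ[L] A ⧸ J :=
    { toRingHom := ψ.toRingHom
      commutes' := fun c => by
        show ψ (algebraMap L _ c) = Ideal.Quotient.mk J (algebraMap L A c)
        rw [halg, hσ]
        rfl }
  have h12 : ε₁ = ε₂ := by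
    apply algHom_ext_of_nilpotent
    · intro i
      show Ideal.Quotient.mk J (χ₀ (X i)) = ψ (X i)
      rw [evalNil_X, ha]
    · intro i
      show IsNilpotent (Ideal.Quotient.mk J (χ₀ (X i)))
      rw [evalNil_X]
      exact (hnil i).map _
  apply AlgHom.ext
  intro s
  exact AlgHom.congr_fun h12 s

/-- transport of adic formal smoothness along an algebra isomorphism of local rings -/
theorem isAdicFormallySmooth_of_algEquiv {k B B' : Type u} [CommRing k] [CommRing B] [CommRing B']
    [IsLocalRing B] [IsLocalRing B'] [Algebra k B] [Algebra k B'] (e : B ≃ₐ[k] B')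
    (h : CAlgX.IsAdicFormallySmooth k B' (maximalIdeal B')) :
    CAlgX.IsAdicFormallySmooth k B (maximalIdeal B) := by
  intro C _ _ J hJ ψ ⟨j, hψ⟩
  have hmax : ∀ y ∈ maximalIdeal B', e.symm y ∈ maximalIdeal B := by
    intro y hy
    rw [mem_maximalIdeal, mem_nonunits_iff] at hy ⊢
    intro hu
    apply hy
    have := hu.map e
    rwa [AlgEquiv.apply_symm_apply] at this
  obtain ⟨χ', hχ'⟩ := h C J hJ (ψ.comp e.symm.toAlgHom) ⟨j, fun y hy => by
    show ψ (e.symm y) = 0
    apply hψ
    have h1 : (maximalIdeal B' ^ j).map e.symm.toAlgHom.toRingHom ≤ maximalIdeal B ^ j := by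
      rw [Ideal.map_pow]
      apply Ideal.pow_right_mono
      rw [Ideal.map_le_iff_le_comap]
      exact fun y hy => hmax y hy
    exact h1 (Ideal.mem_map_of_mem _ hy)⟩
  refine ⟨χ'.comp e.toAlgHom, ?_⟩
  ext b
  have := AlgHom.congr_fun hχ' (e b)
  simpa using this

end PS

section Presentation

/-- A complete Noetherian local ring with a coefficient field `K` is a quotient of a power series
ring over `K` by an ideal contained in the square of the maximal ideal. -/
theorem exists_presentation (K R : Type u) [Field K] [CommRing R] [IsLocalRing R]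
    [IsNoetherianRing R] [IsAdicComplete (maximalIdeal R) R] [Algebra K R]
    (hR : Function.Surjective ((residue R).comp (algebraMap K R))) :
    ∃ (n : ℕ) (ψ : MvPowerSeries (Fin n) K →ₐ[K] R), Function.Surjective ψ ∧
      RingHom.ker ψ.toRingHom ≤ maximalIdeal (MvPowerSeries (Fin n) K) ^ 2 := by
  classical
  let b := Module.finBasis (ResidueField R) (CotangentSpace R)
  have hx : ∀ i : Fin (Module.finrank (ResidueField R) (CotangentSpace R)),
      ∃ x : maximalIdeal R, (maximalIdeal R).toCotangent x = b i :=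
    fun i => Ideal.toCotangent_surjective _ (b i)
  choose x hx using hx
  haveI : IsAdicComplete (maximalIdeal K) K := by
    rw [IsLocalRing.maximalIdeal_eq_bot]
    infer_instance
  obtain ⟨ψ, hψX⟩ := Groth.Agent.Lib.RegPSH3.exists_algHom_X (Λ := K)
    (Module.finrank (ResidueField R) (CotangentSpace R)) (fun i => (x i : R)) (fun i => (x i).2)
  have hψ : ∀ i, ψ (MvPowerSeries.X i) ∈ maximalIdeal R := fun i => by
    rw [hψX]
    exact (x i).2
  have hfun : (fun i => (maximalIdeal R).toCotangent ⟨ψ (MvPowerSeries.X i), hψ i⟩) = b := by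
    funext i
    rw [← hx i]
    congr 1
    exact Subtype.ext (hψX i)
  have hb : LinearIndependent (ResidueField R)
      (fun i => (maximalIdeal R).toCotangent ⟨ψ (MvPowerSeries.X i), hψ i⟩) := by
    rw [hfun]
    exact b.linearIndependent
  have hsp : Submodule.span (ResidueField R)
      (Set.range (fun i => (maximalIdeal R).toCotangent ⟨ψ (MvPowerSeries.X i), hψ i⟩)) = ⊤ := by
    rw [hfun]
    exact b.span_eq
  obtain ⟨hsurj, hker⟩ := Groth.Agent.S11740.result K R hR _ ψ hψ hb hsp
  exact ⟨_, ψ, hsurj, hker⟩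

end Presentation

section Main

variable {k A : Type u} [Field k] [CommRing A] [IsLocalRing A] [IsNoetherianRing A] [Algebra k A]

/-- A `k`-linear coefficient field of the completion when the residue field is separable over
`k`. -/
theorem exists_coeffField [Algebra.IsGeometricallyReduced k (ResidueField A)] :
    ∃ σ₀ : ResidueField A →ₐ[k] AdicCompletion (maximalIdeal A) A,
      ∀ y, residue (AdicCompletion (maximalIdeal A) A) (σ₀ y) =
        ResidueField.map (algebraMap A (AdicCompletion (maximalIdeal A) A)) y := by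
  haveI : Algebra.FormallySmooth k (ResidueField A) :=
    Groth.Agent.Lib.SepSmoothH3.formallySmooth_of_isGeometricallyReduced k (ResidueField A)
  let g : ResidueField A →ₐ[k] AdicCompletion (maximalIdeal A) A ⧸
      maximalIdeal (AdicCompletion (maximalIdeal A) A) :=
    { toRingHom := ResidueField.map (algebraMap A (AdicCompletion (maximalIdeal A) A))
      commutes' := fun x => rfl }
  obtain ⟨σ₀, hσ₀⟩ := Algebra.FormallySmooth.exists_mkₐ_comp_eq_of_isAdicComplete g
  exact ⟨σ₀, fun y => AlgHom.congr_fun hσ₀ y⟩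

/-- From a coefficient field and a `K`-isomorphism with a power series ring, the `k`-compatible
ring isomorphism of the statement. -/
theorem compat_of_algEquiv (σ₀ : ResidueField A →ₐ[k] AdicCompletion (maximalIdeal A) A) (n : ℕ)
    (e' : letI : Algebra (ResidueField A) (AdicCompletion (maximalIdeal A) A) :=
        σ₀.toRingHom.toAlgebra
      AdicCompletion (maximalIdeal A) A ≃ₐ[ResidueField A] MvPowerSeries (Fin n) (ResidueField A)) :
    ∃ e : AdicCompletion (maximalIdeal A) A ≃+* MvPowerSeries (Fin n) (ResidueField A),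
      ∀ x : k, e (algebraMap A (AdicCompletion (maximalIdeal A) A) (algebraMap k A x)) =
        algebraMap (ResidueField A) (MvPowerSeries (Fin n) (ResidueField A))
          (algebraMap k (ResidueField A) x) := by
  letI : Algebra (ResidueField A) (AdicCompletion (maximalIdeal A) A) := σ₀.toRingHom.toAlgebra
  refine ⟨e'.toRingEquiv, fun x => ?_⟩
  have h1 : algebraMap A (AdicCompletion (maximalIdeal A) A) (algebraMap k A x) =
      algebraMap (ResidueField A) (AdicCompletion (maximalIdeal A) A)
        (algebraMap k (ResidueField A) x) := by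
    show _ = σ₀ (algebraMap k (ResidueField A) x)
    rw [σ₀.commutes]
    rfl
  rw [h1]
  exact e'.commutes _

/-- (c) ⇒ (b) -/
theorem exists_equiv_of_regular [Algebra.IsGeometricallyReduced k (ResidueField A)]
    (hreg : IsRegularLocalRing A) :
    ∃ (n : ℕ) (e : AdicCompletion (maximalIdeal A) A ≃+* MvPowerSeries (Fin n) (ResidueField A)),
      ∀ x : k, e (algebraMap A (AdicCompletion (maximalIdeal A) A) (algebraMap k A x)) =
        algebraMap (ResidueField A) (MvPowerSeries (Fin n) (ResidueField A))
          (algebraMap k (ResidueField A) x) := by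
  obtain ⟨σ₀, hσ₀⟩ := exists_coeffField (k := k) (A := A)
  letI : Algebra (ResidueField A) (AdicCompletion (maximalIdeal A) A) := σ₀.toRingHom.toAlgebra
  haveI : IsRegularLocalRing (AdicCompletion (maximalIdeal A) A) :=
    (Groth.Agent.RegularLib.isRegularLocalRing_adicCompletion_iff A (maximalIdeal A)
      (maximalIdeal.isMaximal A).ne_top).1 hreg
  have hk : Function.Surjective ((residue (AdicCompletion (maximalIdeal A) A)).comp
      (algebraMap (ResidueField A) (AdicCompletion (maximalIdeal A) A))) := by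
    intro y
    obtain ⟨z, hz⟩ := (AdicCompletion.residueField_map_bijective A).2 y
    exact ⟨z, (hσ₀ z).trans hz⟩
  obtain ⟨d, -, ⟨e'⟩⟩ := Groth.Agent.Lib.RegPSH3.exists_algEquiv_of_regular_complete
    (AdicCompletion (maximalIdeal A) A) (ResidueField A) hk
  obtain ⟨e, he⟩ := compat_of_algEquiv σ₀ d e'
  exact ⟨d, e, he⟩

/-- (b') ⇒ (c) -/
theorem regular_of_equiv (n : ℕ)
    (e : AdicCompletion (maximalIdeal A) A ≃+* MvPowerSeries (Fin n) (ResidueField A)) :
    IsRegularLocalRing A := by
  haveI : IsRegularLocalRing (MvPowerSeries (Fin n) (ResidueField A)) :=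
    Groth.Agent.Lib.RegPSH3.isRegularLocalRing_mvPowerSeries _ n
  haveI : IsRegularLocalRing (AdicCompletion (maximalIdeal A) A) :=
    IsRegularLocalRing.of_ringEquiv e.symm
  exact (Groth.Agent.RegularLib.isRegularLocalRing_adicCompletion_iff A (maximalIdeal A)
      (maximalIdeal.isMaximal A).ne_top).2 inferInstance

/-- (b) ⇒ (a) -/
theorem formallySmooth_of_equiv [Algebra.IsGeometricallyReduced k (ResidueField A)] (n : ℕ)
    (e : AdicCompletion (maximalIdeal A) A ≃+* MvPowerSeries (Fin n) (ResidueField A))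
    (he : ∀ x : k, e (algebraMap A (AdicCompletion (maximalIdeal A) A) (algebraMap k A x)) =
        algebraMap (ResidueField A) (MvPowerSeries (Fin n) (ResidueField A))
          (algebraMap k (ResidueField A) x)) :
    CAlgX.IsAdicFormallySmooth k A (maximalIdeal A) := by
  haveI : Algebra.FormallySmooth k (ResidueField A) :=
    Groth.Agent.Lib.SepSmoothH3.formallySmooth_of_isGeometricallyReduced k (ResidueField A)
  have hP := isAdicFormallySmooth_mvPowerSeries k (ResidueField A) n
  let e' : AdicCompletion (maximalIdeal A) A ≃ₐ[k] MvPowerSeries (Fin n) (ResidueField A) :=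
    AlgEquiv.ofRingEquiv (f := e) (fun x => by
      rw [IsScalarTower.algebraMap_apply k A (AdicCompletion (maximalIdeal A) A), he,
        ← IsScalarTower.algebraMap_apply])
  have hÂ : CAlgX.IsAdicFormallySmooth k (AdicCompletion (maximalIdeal A) A)
      (maximalIdeal (AdicCompletion (maximalIdeal A) A)) := isAdicFormallySmooth_of_algEquiv e' hP
  rw [AdicCompletion.maximalIdeal_eq_map] at hÂ
  have h1 := (Groth.Agent.S4537.result (A := k) (B := AdicCompletion (maximalIdeal A) A)
    ((maximalIdeal A).map (algebraMap A (AdicCompletion (maximalIdeal A) A)))).1 hÂ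
  have h2 := Groth.Agent.Lib.FSAdicComplH3.isFormallySmoothAdic_of_adicCompletion ⊥
    (maximalIdeal A) h1
  exact (Groth.Agent.S4537.result (maximalIdeal A)).2 h2

/-- (a) ⇒ (b): the heart of EGA 0_IV 19.6.4 -/
theorem exists_equiv_of_formallySmooth [Algebra.IsGeometricallyReduced k (ResidueField A)]
    (h : CAlgX.IsAdicFormallySmooth k A (maximalIdeal A)) :
    ∃ (n : ℕ) (e : AdicCompletion (maximalIdeal A) A ≃+* MvPowerSeries (Fin n) (ResidueField A)),
      ∀ x : k, e (algebraMap A (AdicCompletion (maximalIdeal A) A) (algebraMap k A x)) =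
        algebraMap (ResidueField A) (MvPowerSeries (Fin n) (ResidueField A))
          (algebraMap k (ResidueField A) x) := by
  classical
  obtain ⟨σ₀, hσ₀⟩ := exists_coeffField (k := k) (A := A)
  letI algK : Algebra (ResidueField A) (AdicCompletion (maximalIdeal A) A) :=
    σ₀.toRingHom.toAlgebra
  haveI : IsScalarTower k (ResidueField A) (AdicCompletion (maximalIdeal A) A) :=
    IsScalarTower.of_algebraMap_eq (fun x => (σ₀.commutes x).symm)
  haveI : IsNoetherianRing (AdicCompletion (maximalIdeal A) A) :=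
    Groth.Agent.RegularLib.isNoetherianRing_adicCompletion A (maximalIdeal A)
  have hk : Function.Surjective ((residue (AdicCompletion (maximalIdeal A) A)).comp
      (algebraMap (ResidueField A) (AdicCompletion (maximalIdeal A) A))) := by
    intro y
    obtain ⟨z, hz⟩ := (AdicCompletion.residueField_map_bijective A).2 y
    exact ⟨z, (hσ₀ z).trans hz⟩
  obtain ⟨n, ψ, hsurj, hker⟩ := exists_presentation (ResidueField A)
    (AdicCompletion (maximalIdeal A) A) hk
  have hfs : EGA41.IsFormallySmoothAdic k ⊥ (AdicCompletion (maximalIdeal A) A)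
      ((maximalIdeal A).map (algebraMap A (AdicCompletion (maximalIdeal A) A))) :=
    Groth.Agent.Lib.FSAdicComplH3.isFormallySmoothAdic_adicCompletion ⊥ (maximalIdeal A)
      ((Groth.Agent.S4537.result (maximalIdeal A)).1 h)
  have hJtop : RingHom.ker ψ.toRingHom ≠ ⊤ := RingHom.ker_ne_top _
  haveI : Nontrivial (MvPowerSeries (Fin n) (ResidueField A) ⧸ RingHom.ker ψ.toRingHom) :=
    Ideal.Quotient.nontrivial_iff.2 hJtop
  haveI : IsLocalRing (MvPowerSeries (Fin n) (ResidueField A) ⧸ RingHom.ker ψ.toRingHom) :=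
    IsLocalRing.of_surjective' (Ideal.Quotient.mk (RingHom.ker ψ.toRingHom))
      Ideal.Quotient.mk_surjective
  haveI : IsAdicComplete (maximalIdeal (ResidueField A)) (ResidueField A) := by
    rw [IsLocalRing.maximalIdeal_eq_bot]
    infer_instance
  haveI : IsAdicComplete (maximalIdeal (MvPowerSeries (Fin n) (ResidueField A)))
      (MvPowerSeries (Fin n) (ResidueField A)) :=
    Groth.Agent.Lib.PSCompleteH1.isAdicComplete_maximalIdeal
  have hmk := Groth.Agent.Lib.CohenLiftH3.map_mk_maximalIdeal (RingHom.ker ψ.toRingHom)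
  haveI : IsHausdorff ((maximalIdeal (MvPowerSeries (Fin n) (ResidueField A))).map
      (Ideal.Quotient.mk (RingHom.ker ψ.toRingHom)))
      (MvPowerSeries (Fin n) (ResidueField A) ⧸ RingHom.ker ψ.toRingHom) := by
    rw [hmk]
    infer_instance
  let iso : (MvPowerSeries (Fin n) (ResidueField A) ⧸ RingHom.ker ψ.toRingHom)
      ≃ₐ[ResidueField A] AdicCompletion (maximalIdeal A) A :=
    Ideal.quotientKerAlgEquivOfSurjective hsurj
  let u : AdicCompletion (maximalIdeal A) A →ₐ[k]
      MvPowerSeries (Fin n) (ResidueField A) ⧸ RingHom.ker ψ.toRingHom :=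
    (iso.symm.toAlgHom).restrictScalars k
  have hu : ∃ j : ℕ, (((maximalIdeal A).map
      (algebraMap A (AdicCompletion (maximalIdeal A) A))) ^ j).map u.toRingHom ≤
      (maximalIdeal (MvPowerSeries (Fin n) (ResidueField A))).map
        (Ideal.Quotient.mk (RingHom.ker ψ.toRingHom)) := by
    refine ⟨1, ?_⟩
    rw [pow_one, hmk, ← AdicCompletion.maximalIdeal_eq_map, Ideal.map_le_iff_le_comap]
    intro a ha
    rw [Ideal.mem_comap, mem_maximalIdeal, mem_nonunits_iff] at *
    intro hunit
    apply ha
    have h1 : IsUnit (iso (iso.symm a)) := (show IsUnit (iso.symm a) from hunit).map iso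
    rwa [AlgEquiv.apply_symm_apply] at h1
  obtain ⟨v, -, hv⟩ := Groth.Agent.S4542.result (A := k)
    (B := AdicCompletion (maximalIdeal A) A) (C := MvPowerSeries (Fin n) (ResidueField A)) ⊥
    ((maximalIdeal A).map (algebraMap A (AdicCompletion (maximalIdeal A) A)))
    (maximalIdeal (MvPowerSeries (Fin n) (ResidueField A))) hfs
    ⟨1, by rw [pow_one, Ideal.map_bot]; exact bot_le⟩ (RingHom.ker ψ.toRingHom)
    ⟨1, by rw [pow_one]; exact hker.trans (Ideal.pow_le_self two_ne_zero)⟩ u hu
  have hvu : ∀ a, Ideal.Quotient.mk (RingHom.ker ψ.toRingHom) (v a) = iso.symm a :=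
    fun a => AlgHom.congr_fun hv a
  have hψv : ∀ a, ψ (v a) = a := by
    intro a
    have h1 : iso (Ideal.Quotient.mk (RingHom.ker ψ.toRingHom) (v a)) = ψ (v a) :=
      Ideal.quotientKerAlgEquivOfSurjective_mk hsurj (v a)
    rw [← h1, hvu, AlgEquiv.apply_symm_apply]
  -- `φ = v ∘ ψ` is the identity modulo `ker ψ ⊆ 𝔫²`
  let φ : MvPowerSeries (Fin n) (ResidueField A) →+* MvPowerSeries (Fin n) (ResidueField A) :=
    v.toRingHom.comp ψ.toRingHom
  have hφ : ∀ g, φ g - g ∈ RingHom.ker ψ.toRingHom := by
    intro g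
    rw [RingHom.mem_ker, map_sub]
    show ψ (v (ψ g)) - ψ g = 0
    rw [hψv, sub_self]
  have hφ2 : ∀ g, φ g - g ∈ maximalIdeal (MvPowerSeries (Fin n) (ResidueField A)) ^ 2 :=
    fun g => hker (hφ g)
  have hφmax : ∀ g ∈ maximalIdeal (MvPowerSeries (Fin n) (ResidueField A)),
      φ g ∈ maximalIdeal (MvPowerSeries (Fin n) (ResidueField A)) := by
    intro g hg
    have h1 := Ideal.pow_le_self two_ne_zero (hφ2 g)
    have h2 : φ g = (φ g - g) + g := by ring
    rw [h2]
    exact Ideal.add_mem _ h1 hg
  have hle : (maximalIdeal (MvPowerSeries (Fin n) (ResidueField A))).map φ ≤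
      maximalIdeal (MvPowerSeries (Fin n) (ResidueField A)) := by
    rw [Ideal.map_le_iff_le_comap]
    exact fun g hg => hφmax g hg
  have hge : maximalIdeal (MvPowerSeries (Fin n) (ResidueField A)) ≤
      (maximalIdeal (MvPowerSeries (Fin n) (ResidueField A))).map φ := by
    apply Submodule.le_of_le_smul_of_le_jacobson_bot
      (IsNoetherian.noetherian (maximalIdeal (MvPowerSeries (Fin n) (ResidueField A))))
      (maximalIdeal_le_jacobson _)
    intro g hg
    have h2 : g = φ g + (g - φ g) := by ring
    rw [h2]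
    refine Submodule.add_mem_sup (Ideal.mem_map_of_mem _ hg) ?_
    have h3 : g - φ g ∈ maximalIdeal (MvPowerSeries (Fin n) (ResidueField A)) ^ 2 := by
      have := hφ2 g
      rwa [← neg_sub, neg_mem_iff] at this
    rwa [sq, ← smul_eq_mul] at h3
  haveI : IsHausdorff ((maximalIdeal (MvPowerSeries (Fin n) (ResidueField A))).map φ)
      (MvPowerSeries (Fin n) (ResidueField A)) :=
    ⟨fun r hr => IsHausdorff.haus (inferInstance : IsHausdorff
      (maximalIdeal (MvPowerSeries (Fin n) (ResidueField A))) _) r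
      (fun j => SModEq.mono (Submodule.smul_mono_left (Ideal.pow_right_mono hle j)) (hr j))⟩
  have hφsurj : Function.Surjective φ := by
    refine surjective_of_mk_map_comp_surjective
      (I := maximalIdeal (MvPowerSeries (Fin n) (ResidueField A))) φ ?_
    intro y
    obtain ⟨r, rfl⟩ := Ideal.Quotient.mk_surjective y
    refine ⟨r, ?_⟩
    rw [RingHom.comp_apply, Ideal.Quotient.eq]
    exact hge (Ideal.pow_le_self two_ne_zero (hφ2 r))
  have hinj : Function.Injective ψ := by
    rw [injective_iff_map_eq_zero]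
    intro g hg
    obtain ⟨g', rfl⟩ := hφsurj g
    have h1 : ψ (v (ψ g')) = ψ g' := hψv (ψ g')
    have h2 : ψ g' = 0 := by rw [← h1]; exact hg
    show v (ψ g') = 0
    rw [h2, map_zero]
  let e' : AdicCompletion (maximalIdeal A) A ≃ₐ[ResidueField A]
      MvPowerSeries (Fin n) (ResidueField A) := (AlgEquiv.ofBijective ψ ⟨hinj, hsurj⟩).symm
  obtain ⟨e, he⟩ := compat_of_algEquiv σ₀ n e'
  exact ⟨n, e, he⟩

end Main

end Groth.Agent.Lib.FSRegularH3
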