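import Mathlib
import Groth.Prelude.Def_CAlgX
import Groth.Agent.Lib.AdicJac2_helper1
import Groth.Agent.Lib.FSRegular_helper3

/-!
# Adic formal smoothness versus formal smoothness for essentially finite type local algebras
(helper3)

* `adic_of_formallySmooth`: discrete formal smoothness implies adic formal smoothness.
* `exists_retraction_of_hasRetr`: helper1's `HasRetr` gives a retraction of Mathlib's
  `cotangentComplexBaseChange`.
* `formallySmooth_of_adic`: for a local quotient `S` of a Noetherian local formally smooth `P` with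
  finite free differentials: `𝔪`-adic formal smoothness of `S` implies formal smoothness.
* `formallySmooth_of_adic_of_poly`: the same for local rings essentially of finite type over a
  Noetherian ring.
APPEND-ONLY once landed.
-/

set_option autoImplicit false

namespace Groth.Agent.Lib.SmoothRegH3

open TensorProduct KaehlerDifferential IsLocalRing
open Groth.Agent.Lib.AdicJacH1

universe u

section Basic

variable {R S : Type u} [CommRing R] [CommRing S] [Algebra R S]

/-- discrete formal smoothness implies adic formal smoothness -/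
theorem adic_of_formallySmooth [Algebra.FormallySmooth R S] (𝔫 : Ideal S) :
    CAlgX.IsAdicFormallySmooth R S 𝔫 := by
  intro A _ _ J hJ ψ _
  exact Algebra.FormallySmooth.exists_lift J ⟨2, hJ⟩ ψ

end Basic

section Retr

variable {R P C T : Type u} [CommRing R] [CommRing P] [Algebra R P] [CommRing C] [Algebra P C]
  [CommRing T] [Algebra P T] [Algebra C T] [IsScalarTower P C T]

theorem exists_retraction_of_hasRetr (𝔮 : Ideal P) (h𝔮 : ∀ b ∈ 𝔮, algebraMap P T b = 0)
    (hR : HasRetr R (RingHom.ker (algebraMap P C)) 𝔮) :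
    ∃ g : T ⊗[P] Ω[P⁄R] →ₗ[T] T ⊗[P] (RingHom.ker (algebraMap P C)),
      g ∘ₗ cotangentComplexBaseChange R C P T = LinearMap.id := by
  obtain ⟨D, hD⟩ := hR
  have hKT : ∀ c ∈ RingHom.ker (algebraMap P C), algebraMap P T c = 0 := by
    intro c hc
    rw [IsScalarTower.algebraMap_apply P C T, RingHom.mem_ker.1 hc, map_zero]
  have hsm : ∀ c : P, algebraMap P T c = 0 →
      ∀ n : T ⊗[P] (RingHom.ker (algebraMap P C)), c • n = 0 := by
    intro c hc n
    rw [← algebraMap_smul T c n, hc, zero_smul]
  obtain ⟨μ, hμ⟩ := exists_lift_MQ (K := RingHom.ker (algebraMap P C)) (𝔞 := 𝔮)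
    (TensorProduct.mk P T (RingHom.ker (algebraMap P C)) 1)
    (fun c hc n => hsm c (hKT c hc) n) (fun a ha n => hsm a (h𝔮 a ha) n)
  let ℓ : Ω[P⁄R] →ₗ[P] T ⊗[P] (RingHom.ker (algebraMap P C)) := μ ∘ₗ D.liftKaehlerDifferential
  have hℓ : ∀ x : RingHom.ker (algebraMap P C), ℓ (KaehlerDifferential.D R P x.1) = 1 ⊗ₜ x := by
    intro x
    show μ (D.liftKaehlerDifferential (KaehlerDifferential.D R P x.1)) = _
    rw [Derivation.liftKaehlerDifferential_comp_D, hD, hμ]
    rfl
  refine ⟨LinearMap.liftBaseChange T ℓ, ?_⟩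
  apply LinearMap.ext
  intro z
  induction z using TensorProduct.induction_on with
  | zero => simp
  | add x y hx hy => rw [map_add, hx, hy, map_add]
  | tmul a x =>
    rw [LinearMap.comp_apply, cotangentComplexBaseChange_tmul, map_smul, kerToTensor_apply,
      LinearMap.liftBaseChange_tmul, one_smul]
    show a • ℓ (KaehlerDifferential.D R P x.1) = _
    rw [hℓ, LinearMap.id_apply, TensorProduct.smul_tmul', smul_eq_mul, mul_one]

end Retr

section Core

variable {R P S : Type u} [CommRing R] [CommRing P] [CommRing S] [Algebra R P] [Algebra R S]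
  [Algebra P S] [IsScalarTower R P S]

/-- The Jacobian criterion: a local quotient `S` of a Noetherian local formally smooth
`R`-algebra `P` with finite free differentials which is `𝔪`-adically formally smooth over `R`
is formally smooth over `R`. -/
theorem formallySmooth_of_adic [IsLocalRing S] [IsLocalRing P] [IsNoetherianRing P]
    [Algebra.FormallySmooth R P] [Module.Free P Ω[P⁄R]] [Module.Finite P Ω[P⁄R]]
    (h₁ : Function.Surjective (algebraMap P S))
    (hS : CAlgX.IsAdicFormallySmooth R S (maximalIdeal S)) : Algebra.FormallySmooth R S := by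
  have h₂ : (RingHom.ker (algebraMap P S)).FG := IsNoetherian.noetherian _
  rw [Algebra.FormallySmooth.iff_injective_cotangentComplexBaseChange_residueField P h₁ h₂]
  obtain ⟨φ, hφdef⟩ : ∃ φ : P →ₐ[R] S, φ = IsScalarTower.toAlgHom R P S := ⟨_, rfl⟩
  have hφ : Function.Surjective φ := by rw [hφdef]; exact h₁
  let e : (P ⧸ RingHom.ker φ) ≃ₐ[R] S := Ideal.quotientKerAlgEquivOfSurjective hφ
  haveI : IsLocalRing (P ⧸ RingHom.ker φ) := e.symm.toRingEquiv.isLocalRing
  have hC : CAlgX.IsAdicFormallySmooth R (P ⧸ RingHom.ker φ)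
      (maximalIdeal (P ⧸ RingHom.ker φ)) :=
    FSRegularH3.isAdicFormallySmooth_of_algEquiv e hS
  have hmax : (maximalIdeal P).map (Ideal.Quotient.mk (RingHom.ker φ)) =
      maximalIdeal (P ⧸ RingHom.ker φ) :=
    map_maximalIdeal_of_surjective _ Ideal.Quotient.mk_surjective
  rw [← hmax] at hC
  have hKJ : RingHom.ker (algebraMap P S) = RingHom.ker φ := by
    ext x
    rw [RingHom.mem_ker, RingHom.mem_ker, hφdef]
    rfl
  have hK𝔮 : RingHom.ker (algebraMap P S) ≤ maximalIdeal P :=
    le_maximalIdeal (RingHom.ker_ne_top _)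
  have hR := hasRetr_of_formallySmooth (A := R) (maximalIdeal P) _ _ hKJ hC (maximalIdeal P) hK𝔮
    ⟨1, by rw [pow_one]⟩
  haveI : IsLocalHom (algebraMap P S) := IsLocalHom.of_surjective _ h₁
  have h𝔮 : ∀ b ∈ maximalIdeal P, algebraMap P (ResidueField S) b = 0 := by
    intro b hb
    rw [IsScalarTower.algebraMap_apply P S (ResidueField S), ResidueField.algebraMap_eq,
      residue_eq_zero_iff, mem_maximalIdeal, mem_nonunits_iff, isUnit_map_iff (algebraMap P S)]
    exact hb
  obtain ⟨g, hg⟩ := exists_retraction_of_hasRetr (R := R) (C := S) (T := ResidueField S)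
    (maximalIdeal P) h𝔮 hR
  exact Function.LeftInverse.injective (g := g) (fun x => LinearMap.congr_fun hg x)

end Core

section Poly

variable {R : Type u} [CommRing R] (n : ℕ) (𝔭 : Ideal (MvPolynomial (Fin n) R)) [𝔭.IsPrime]

instance formallySmooth_localization_mvPolynomial :
    Algebra.FormallySmooth R (Localization.AtPrime 𝔭) :=
  haveI : Algebra.FormallySmooth (MvPolynomial (Fin n) R) (Localization.AtPrime 𝔭) :=
    Algebra.FormallySmooth.of_isLocalization 𝔭.primeCompl
  Algebra.FormallySmooth.comp R (MvPolynomial (Fin n) R) (Localization.AtPrime 𝔭)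

theorem free_finite_kaehler_localization_mvPolynomial :
    Module.Free (Localization.AtPrime 𝔭) Ω[Localization.AtPrime 𝔭⁄R] ∧
      Module.Finite (Localization.AtPrime 𝔭) Ω[Localization.AtPrime 𝔭⁄R] := by
  haveI : Algebra.FormallyEtale (MvPolynomial (Fin n) R) (Localization.AtPrime 𝔭) :=
    Algebra.FormallyEtale.of_isLocalization 𝔭.primeCompl
  let e := KaehlerDifferential.tensorKaehlerEquivOfFormallyEtale R (MvPolynomial (Fin n) R)
    (Localization.AtPrime 𝔭)
  haveI : Module.Free (MvPolynomial (Fin n) R) Ω[MvPolynomial (Fin n) R⁄R] :=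
    Module.Free.of_basis (KaehlerDifferential.mvPolynomialBasis R (Fin n))
  haveI : Module.Finite (MvPolynomial (Fin n) R) Ω[MvPolynomial (Fin n) R⁄R] :=
    Module.Finite.of_basis (KaehlerDifferential.mvPolynomialBasis R (Fin n))
  exact ⟨Module.Free.of_equiv e, Module.Finite.equiv e⟩

end Poly

section Main

variable {R S : Type u} [CommRing R] [IsNoetherianRing R] [CommRing S] [IsLocalRing S]
  [Algebra R S]

/-- For a local ring `S` essentially of finite type over a Noetherian ring `R` (every element is
a fraction of images of polynomials): `𝔪`-adic formal smoothness implies formal smoothness. -/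
theorem formallySmooth_of_adic_of_poly (n : ℕ) (g : MvPolynomial (Fin n) R →ₐ[R] S)
    (hg : ∀ s : S, ∃ F G, IsUnit (g G) ∧ s * g G = g F)
    (hS : CAlgX.IsAdicFormallySmooth R S (maximalIdeal S)) : Algebra.FormallySmooth R S := by
  obtain ⟨𝔭, h𝔭⟩ : ∃ 𝔭 : Ideal (MvPolynomial (Fin n) R), 𝔭 = (maximalIdeal S).comap g :=
    ⟨_, rfl⟩
  have hmem : ∀ x, x ∈ 𝔭 ↔ ¬ IsUnit (g x) := by
    intro x
    rw [h𝔭]
    rfl
  haveI : 𝔭.IsPrime := by rw [h𝔭]; exact Ideal.comap_isPrime g _
  have hunit : ∀ y : 𝔭.primeCompl, IsUnit (g.toRingHom y) := by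
    intro y
    by_contra hy
    exact y.2 ((hmem y.1).2 hy)
  letI algPS : Algebra (Localization.AtPrime 𝔭) S :=
    (IsLocalization.lift (M := 𝔭.primeCompl) (g := g.toRingHom) hunit).toAlgebra
  have hlift : ∀ x : MvPolynomial (Fin n) R,
      algebraMap (Localization.AtPrime 𝔭) S (algebraMap _ (Localization.AtPrime 𝔭) x) = g x :=
    fun x => IsLocalization.lift_eq hunit x
  haveI : IsScalarTower R (Localization.AtPrime 𝔭) S := by
    apply IsScalarTower.of_algebraMap_eq
    intro r
    rw [IsScalarTower.algebraMap_apply R (MvPolynomial (Fin n) R) (Localization.AtPrime 𝔭), hlift,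
      g.commutes]
  have h₁ : Function.Surjective (algebraMap (Localization.AtPrime 𝔭) S) := by
    intro s
    obtain ⟨F, G, hG, hFG⟩ := hg s
    have hGp : G ∈ 𝔭.primeCompl := fun hG' => (hmem G).1 hG' hG
    refine ⟨IsLocalization.mk' (Localization.AtPrime 𝔭) F ⟨G, hGp⟩, ?_⟩
    have h1 := IsLocalization.mk'_spec (Localization.AtPrime 𝔭) F ⟨G, hGp⟩
    have h2 := congrArg (algebraMap (Localization.AtPrime 𝔭) S) h1
    rw [map_mul, hlift, hlift, ← hFG] at h2
    exact hG.mul_left_injective h2
  haveI : IsNoetherianRing (Localization.AtPrime 𝔭) :=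
    IsLocalization.isNoetherianRing 𝔭.primeCompl _ inferInstance
  obtain ⟨hfree, hfin⟩ := free_finite_kaehler_localization_mvPolynomial (R := R) n 𝔭
  exact formallySmooth_of_adic (R := R) (P := Localization.AtPrime 𝔭) h₁ hS

end Main

end Groth.Agent.Lib.SmoothRegH3
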