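import Mathlib
import Groth.Prelude.Def_CAlgX
import Groth.Agent.Lib.AdicJac2_helper1
import Groth.Agent.Lib.SmoothReg_helper3

/-!
# Jacobian criterion with derivations (helper3)

* `exists_derivation_extension`: derivations extend along formally étale maps.
* `formallySmooth_of_adic_bot`: adic formal smoothness for the zero ideal is formal smoothness.
* `exists_functionals`: approximating functionals into the residue field by functionals into
  the ring, for projective modules.
* `formallySmooth_quotient_of_jacobian`: the derivation Jacobian criterion (sufficiency).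
APPEND-ONLY once landed.
-/

set_option autoImplicit false

namespace Groth.Agent.Lib.JacobianH3

open TensorProduct KaehlerDifferential IsLocalRing
open Groth.Agent.Lib.AdicJacH1

universe u

section Ext

variable (R : Type*) {S T : Type*} [CommRing R] [CommRing S] [CommRing T] [Algebra R S]
  [Algebra R T] [Algebra S T] [IsScalarTower R S T]

/-- Derivations extend (uniquely) along formally étale maps. -/
theorem exists_derivation_extension [Algebra.FormallyEtale S T] (D : Derivation R S S) :
    ∃ D' : Derivation R T T, ∀ s, D' (algebraMap S T s) = algebraMap S T (D s) := by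
  let e := tensorKaehlerEquivOfFormallyEtale R S T
  let ℓ : T ⊗[S] Ω[S⁄R] →ₗ[T] T :=
    LinearMap.liftBaseChange T ((Algebra.linearMap S T) ∘ₗ D.liftKaehlerDifferential)
  refine ⟨(ℓ ∘ₗ e.symm.toLinearMap).compDer (KaehlerDifferential.D R T), fun s => ?_⟩
  show ℓ (e.symm (KaehlerDifferential.D R T (algebraMap S T s))) = _
  rw [tensorKaehlerEquivOfFormallyEtale_symm_D_algebraMap, LinearMap.liftBaseChange_tmul, one_smul,
    LinearMap.comp_apply, Derivation.liftKaehlerDifferential_comp_D]
  rfl

end Ext

section Bot

variable {R S : Type u} [CommRing R] [CommRing S] [Algebra R S]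

theorem formallySmooth_of_adic_bot (h : CAlgX.IsAdicFormallySmooth R S ⊥) :
    Algebra.FormallySmooth R S := by
  refine .of_comp_surjective fun C _ _ I hI f => ?_
  obtain ⟨χ, hχ⟩ := h C I hI f ⟨1, fun x hx => by
    rw [pow_one, Ideal.mem_bot] at hx
    rw [hx, map_zero]⟩
  exact ⟨χ, hχ⟩

end Bot

section Approx

variable {B : Type*} [CommRing B] (q : Ideal B) [q.IsPrime] {M : Type*} [AddCommGroup M]
  [Module B M] [Module.Projective B M]

/-- every element of the residue field at `q` is a fraction -/
theorem exists_fraction (z : q.ResidueField) :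
    ∃ (a t : B), t ∉ q ∧ z * algebraMap B q.ResidueField t = algebraMap B q.ResidueField a := by
  obtain ⟨y, rfl⟩ := IsLocalRing.residue_surjective z
  obtain ⟨a, t, rfl⟩ := IsLocalization.exists_mk'_eq q.primeCompl y
  refine ⟨a, t.1, t.2, ?_⟩
  rw [IsScalarTower.algebraMap_apply B (Localization.AtPrime q) q.ResidueField,
    IsScalarTower.algebraMap_apply B (Localization.AtPrime q) q.ResidueField,
    IsLocalRing.ResidueField.algebraMap_eq, ← map_mul, IsLocalization.mk'_spec]

/-- common denominators for finite families in the residue field -/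
theorem exists_common_fraction {ι : Type*} (s : Finset ι) (z : ι → q.ResidueField) :
    ∃ (t : B) (a : ι → B), t ∉ q ∧
      ∀ i ∈ s, z i * algebraMap B q.ResidueField t = algebraMap B q.ResidueField (a i) := by
  classical
  induction s using Finset.induction_on with
  | empty => exact ⟨1, fun _ => 0, fun h => (Ideal.IsPrime.ne_top inferInstance)
      ((Ideal.eq_top_iff_one _).2 h), by simp⟩
  | insert i s hi ih =>
    obtain ⟨t, a, ht, ha⟩ := ih
    obtain ⟨a₀, t₀, ht₀, h₀⟩ := exists_fraction q (z i)
    refine ⟨t * t₀, fun j => if j = i then a₀ * t else a j * t₀,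
      fun h => (Ideal.IsPrime.mem_or_mem inferInstance h).elim ht ht₀, fun j hj => ?_⟩
    rcases Finset.mem_insert.1 hj with rfl | hj
    · show _ = algebraMap B q.ResidueField (if j = j then a₀ * t else a j * t₀)
      rw [if_pos rfl, map_mul, map_mul, ← h₀]
      ring
    · have hji : j ≠ i := fun h => hi (h ▸ hj)
      show _ = algebraMap B q.ResidueField (if j = i then a₀ * t else a j * t₀)
      rw [if_neg hji, map_mul, map_mul, ← ha j hj]
      ring

theorem exists_functionals (m : ℕ) (ω : Fin m → M)
    (δ : M →ₗ[B] (Fin m → q.ResidueField)) (hδ : ∀ i, δ (ω i) = Pi.single i 1) :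
    ∃ φ : Fin m → (M →ₗ[B] B), Matrix.det (Matrix.of fun i j => φ j (ω i)) ∉ q := by
  classical
  obtain ⟨s, hs⟩ := Module.projective_def'.1 (inferInstance : Module.Projective B M)
  have hs' : ∀ x : M, Finsupp.linearCombination B id (s x) = x :=
    fun x => LinearMap.congr_fun hs x
  -- the finite set of indices involved
  let X₀ : Finset M := Finset.univ.biUnion fun i => (s (ω i)).support
  obtain ⟨t, a, ht, ha⟩ := exists_common_fraction q (X₀ ×ˢ (Finset.univ : Finset (Fin m)))
    (fun xj : M × Fin m => δ xj.1 xj.2)
  let φ : Fin m → (M →ₗ[B] B) := fun j =>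
    ∑ x ∈ X₀, a (x, j) • ((Finsupp.lapply x : (M →₀ B) →ₗ[B] B) ∘ₗ s)
  refine ⟨φ, fun hdet => ?_⟩
  have hφ : ∀ i j, algebraMap B q.ResidueField (φ j (ω i)) =
      algebraMap B q.ResidueField t * (Pi.single i (1 : q.ResidueField) : Fin m → _) j := by
    intro i j
    have h1 : φ j (ω i) = ∑ x ∈ X₀, a (x, j) * (s (ω i)) x := by
      simp only [φ, LinearMap.sum_apply, LinearMap.smul_apply, LinearMap.comp_apply,
        Finsupp.lapply_apply, smul_eq_mul]
    have h2 : ω i = ∑ x ∈ X₀, (s (ω i)) x • x := by
      conv_lhs => rw [← hs' (ω i)]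
      rw [Finsupp.linearCombination_apply, Finsupp.sum]
      refine Finset.sum_subset ?_ ?_
      · intro x hx
        exact Finset.mem_biUnion.2 ⟨i, Finset.mem_univ _, hx⟩
      · intro x _ hx
        rw [Finsupp.notMem_support_iff] at hx
        rw [hx, zero_smul]
    have h3 : δ (ω i) j = ∑ x ∈ X₀, algebraMap B q.ResidueField ((s (ω i)) x) * δ x j := by
      conv_lhs => rw [h2]
      rw [map_sum, Finset.sum_apply]
      refine Finset.sum_congr rfl fun x _ => ?_
      rw [map_smul, Pi.smul_apply, Algebra.smul_def]
    rw [h1, map_sum, ← hδ i, h3, Finset.mul_sum]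
    refine Finset.sum_congr rfl fun x hx => ?_
    rw [map_mul, ← ha (x, j) (Finset.mem_product.2 ⟨hx, Finset.mem_univ _⟩)]
    ring
  have hmat : (algebraMap B q.ResidueField).mapMatrix (Matrix.of fun i j => φ j (ω i)) =
      algebraMap B q.ResidueField t • (1 : Matrix (Fin m) (Fin m) q.ResidueField) := by
    ext i j
    rw [RingHom.mapMatrix_apply, Matrix.map_apply, Matrix.of_apply, hφ, Matrix.smul_apply,
      Matrix.one_apply, smul_eq_mul]
    by_cases hij : i = j
    · subst hij
      rw [Pi.single_eq_same, if_pos rfl]
    · rw [Pi.single_eq_of_ne' hij, if_neg hij]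
  have h4 := (Ideal.algebraMap_residueField_eq_zero (I := q)).2 hdet
  rw [RingHom.map_det, hmat, Matrix.det_smul, Matrix.det_one, mul_one] at h4
  have h5 : algebraMap B q.ResidueField t = 0 := by
    rcases Nat.eq_zero_or_pos (Fintype.card (Fin m)) with h0 | hpos
    · exfalso
      rw [h0, pow_zero] at h4
      exact one_ne_zero h4
    · exact pow_eq_zero_iff (Nat.pos_iff_ne_zero.1 hpos) |>.1 h4
  exact ht ((Ideal.algebraMap_residueField_eq_zero (I := q)).1 h5)

end Approx

section Suff

variable {R P : Type u} [CommRing R] [CommRing P] [Algebra R P] [Algebra.FormallySmooth R P]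

/-- Sufficiency in the derivation Jacobian criterion: if `K = (g_1, …, g_m)` and there are
derivations `D'_j` of `P` with `det (D'_j g_i)` a unit, then `P ⧸ K` is formally smooth. -/
theorem formallySmooth_quotient_of_jacobian (m : ℕ) (g : Fin m → P)
    (D' : Fin m → Derivation R P P)
    (hdet : IsUnit (Matrix.det (Matrix.of fun i j => D' j (g i)))) :
    Algebra.FormallySmooth R (P ⧸ Ideal.span (Set.range g)) := by
  classical
  obtain ⟨K, hK⟩ : ∃ K : Ideal P, K = Ideal.span (Set.range g) := ⟨_, rfl⟩
  rw [← hK]
  obtain ⟨M', hM'⟩ : ∃ M' : Matrix (Fin m) (Fin m) P, M' = Matrix.of fun i j => D' j (g i) :=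
    ⟨_, rfl⟩
  rw [← hM'] at hdet
  have hMN : M' * M'⁻¹ = 1 := Matrix.mul_nonsing_inv M' hdet
  have hgK : ∀ i, g i ∈ K := fun i => by rw [hK]; exact Ideal.subset_span ⟨i, rfl⟩
  let v : Fin m → MQ K K := fun i => gen K K ⟨g i, hgK i⟩
  let Λ : Ω[P⁄R] →ₗ[P] MQ K K := ∑ i, ∑ j, (M'⁻¹ j i) •
    ((LinearMap.toSpanSingleton P (MQ K K) (v i)) ∘ₗ (D' j).liftKaehlerDifferential)
  let D : Derivation R P (MQ K K) := Λ.compDer (KaehlerDifferential.D R P)
  have hD : ∀ b, D b = ∑ i, ∑ j, (M'⁻¹ j i * D' j b) • v i := by
    intro b
    show Λ (KaehlerDifferential.D R P b) = _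
    simp only [Λ, LinearMap.sum_apply, LinearMap.smul_apply, LinearMap.comp_apply,
      LinearMap.toSpanSingleton_apply, Derivation.liftKaehlerDifferential_comp_D, mul_smul]
  have hgen : ∀ l, D (g l) = v l := by
    intro l
    rw [hD]
    have h1 : ∀ i, ∑ j, (M'⁻¹ j i * D' j (g l)) • v i = ((M' * M'⁻¹) l i) • v i := by
      intro i
      rw [← Finset.sum_smul, Matrix.mul_apply]
      congr 1
      refine Finset.sum_congr rfl fun j _ => ?_
      rw [hM', Matrix.of_apply, mul_comm]
    rw [Finset.sum_congr rfl fun i _ => h1 i, hMN]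
    simp only [Matrix.one_apply, ite_smul, one_smul, zero_smul, Finset.sum_ite_eq, Finset.mem_univ,
      if_true]
  have key : ∀ x (hx : x ∈ K), D x = gen K K ⟨x, hx⟩ := by
    intro x hx
    have hx' : x ∈ Submodule.span P (Set.range g) := by
      have := hx
      rw [hK] at this
      exact this
    have hsub : ∀ y, y ∈ Submodule.span P (Set.range g) → y ∈ K := by
      intro y hy
      rw [hK]
      exact hy
    suffices h : ∀ y (hy : y ∈ Submodule.span P (Set.range g)), D y = gen K K ⟨y, hsub y hy⟩ from
      h x hx'
    intro y hy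
    induction hy using Submodule.span_induction with
    | mem y hy =>
      obtain ⟨l, rfl⟩ := hy
      exact hgen l
    | zero =>
      rw [map_zero]
      exact (map_zero (gen K K)).symm
    | add y z hy hz ihy ihz =>
      rw [map_add, ihy, ihz]
      exact (map_add (gen K K) ⟨y, hsub y hy⟩ ⟨z, hsub z hz⟩).symm
    | smul a y hy ihy =>
      have h2 : D (a • y) = a • D y + y • D a := by
        rw [smul_eq_mul, Derivation.leibniz]
      rw [h2, ihy, smul_MQ_left K K (hsub y hy), add_zero]
      exact (map_smul (gen K K) a ⟨y, hsub y hy⟩).symm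
  have hR : HasRetr R K K := ⟨D, fun x => key x.1 x.2⟩
  have h1 := formallySmooth_of_hasRetr (A := R) ⊥ K K rfl
    (Groth.Agent.Lib.SmoothRegH3.adic_of_formallySmooth ⊥) K ⟨1, by simp⟩ ⟨1, by simp⟩ hR
  rw [Ideal.map_bot] at h1
  exact formallySmooth_of_adic_bot h1

end Suff

section Nec

variable {R B : Type u} [CommRing R] [CommRing B] [Algebra R B] [Algebra.FormallySmooth R B]
  [IsNoetherianRing B] (J q : Ideal B) [q.IsPrime]

set_option maxSynthPendingDepth 3 in
/-- Necessity in the derivation Jacobian criterion. -/
theorem exists_jacobian_of_formallySmooth_quotient (hJq : J ≤ q)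
    (h : Algebra.FormallySmooth R
      (Localization.AtPrime q ⧸ J.map (algebraMap B (Localization.AtPrime q)))) :
    ∃ (m : ℕ) (f : Fin m → B) (φ : Fin m → (Ω[B⁄R] →ₗ[B] B)), (∀ i, f i ∈ J) ∧
      J.map (algebraMap B (Localization.AtPrime q)) =
        Ideal.span (Set.range fun i => algebraMap B (Localization.AtPrime q) (f i)) ∧
      Matrix.det (Matrix.of fun i j => φ j (KaehlerDifferential.D R B (f i))) ∉ q := by
  classical
  obtain ⟨K, hK⟩ : ∃ K : Ideal (Localization.AtPrime q),
      K = J.map (algebraMap B (Localization.AtPrime q)) := ⟨_, rfl⟩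
  rw [← hK] at h ⊢
  haveI : IsNoetherianRing (Localization.AtPrime q) :=
    IsLocalization.isNoetherianRing q.primeCompl _ inferInstance
  obtain ⟨l, hl⟩ := (Algebra.FormallySmooth.iff_split_injection (R := R)
    (P := Localization.AtPrime q) (A := Localization.AtPrime q ⧸ K)
    Ideal.Quotient.mk_surjective).1 h
  obtain ⟨K', hK'def⟩ : ∃ K' : Ideal (Localization.AtPrime q),
      K' = RingHom.ker (algebraMap (Localization.AtPrime q) (Localization.AtPrime q ⧸ K)) :=
    ⟨_, rfl⟩
  have hK' : K' = K := by rw [hK'def]; exact Ideal.mk_ker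
  have hl' : ∀ x : RingHom.ker (algebraMap (Localization.AtPrime q) (Localization.AtPrime q ⧸ K)),
      l ((1 : Localization.AtPrime q ⧸ K) ⊗ₜ[Localization.AtPrime q]
        KaehlerDifferential.D R (Localization.AtPrime q) x.1) =
      (RingHom.ker (algebraMap (Localization.AtPrime q)
        (Localization.AtPrime q ⧸ K))).toCotangent x := by
    intro x
    have := LinearMap.congr_fun hl ((RingHom.ker (algebraMap (Localization.AtPrime q)
        (Localization.AtPrime q ⧸ K))).toCotangent x)
    rw [LinearMap.comp_apply, kerCotangentToTensor_toCotangent, LinearMap.id_apply] at this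
    exact this
  -- membership in `J.map`
  have hmemK : ∀ f ∈ J, algebraMap B (Localization.AtPrime q) f ∈
      RingHom.ker (algebraMap (Localization.AtPrime q) (Localization.AtPrime q ⧸ K)) := by
    intro f hf
    rw [← hK'def, hK', hK]
    exact Ideal.mem_map_of_mem _ hf
  -- the residue field and the finite dimensional vector space `W'`
  haveI : Module.Finite (Localization.AtPrime q)
      (RingHom.ker (algebraMap (Localization.AtPrime q)
        (Localization.AtPrime q ⧸ K))).Cotangent :=
    Module.Finite.of_surjective _ (Ideal.toCotangent_surjective _)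
  -- spanning set of pure tensors coming from `J`
  have hspan' : ∀ w : q.ResidueField ⊗[Localization.AtPrime q]
        (RingHom.ker (algebraMap (Localization.AtPrime q)
          (Localization.AtPrime q ⧸ K))).Cotangent, w ∈ Submodule.span q.ResidueField
      {w : q.ResidueField ⊗[Localization.AtPrime q]
        (RingHom.ker (algebraMap (Localization.AtPrime q)
          (Localization.AtPrime q ⧸ K))).Cotangent |
        ∃ (f : B) (hf : f ∈ J), w = (1 : q.ResidueField) ⊗ₜ
          (RingHom.ker (algebraMap (Localization.AtPrime q)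
            (Localization.AtPrime q ⧸ K))).toCotangent
              ⟨algebraMap B (Localization.AtPrime q) f, hmemK f hf⟩} := by
    intro w
    induction w using TensorProduct.induction_on with
    | zero => exact Submodule.zero_mem _
    | add x y hx hy => exact Submodule.add_mem _ hx hy
    | tmul c t =>
      obtain ⟨y, rfl⟩ := Ideal.toCotangent_surjective _ t
      have hy : y.1 ∈ J.map (algebraMap B (Localization.AtPrime q)) := by
        have h0 : y.1 ∈ K' := by rw [hK'def]; exact y.2
        exact (le_of_eq hK) ((le_of_eq hK') h0)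
      obtain ⟨⟨j, s⟩, hjs⟩ := (IsLocalization.mem_map_algebraMap_iff q.primeCompl
        (Localization.AtPrime q)).1 hy
      have hu : IsUnit (algebraMap B (Localization.AtPrime q) s.1) :=
        IsLocalization.map_units _ s
      obtain ⟨u, hu'⟩ := hu
      have h1 : y = (↑u⁻¹ : Localization.AtPrime q) •
          (⟨algebraMap B (Localization.AtPrime q) j.1, hmemK j.1 j.2⟩ :
            RingHom.ker (algebraMap (Localization.AtPrime q) (Localization.AtPrime q ⧸ K))) := by
        apply Subtype.ext
        show y.1 = (↑u⁻¹ : Localization.AtPrime q) * algebraMap B (Localization.AtPrime q) j.1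
        rw [← hjs, ← hu', mul_comm y.1, ← mul_assoc, Units.inv_mul, one_mul]
      have h2 : c ⊗ₜ[Localization.AtPrime q]
          (RingHom.ker (algebraMap (Localization.AtPrime q)
            (Localization.AtPrime q ⧸ K))).toCotangent y =
          (c * algebraMap (Localization.AtPrime q) q.ResidueField ↑u⁻¹) •
            ((1 : q.ResidueField) ⊗ₜ[Localization.AtPrime q]
              (RingHom.ker (algebraMap (Localization.AtPrime q)
                (Localization.AtPrime q ⧸ K))).toCotangent
                ⟨algebraMap B (Localization.AtPrime q) j.1, hmemK j.1 j.2⟩) := by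
        rw [h1, map_smul, TensorProduct.tmul_smul, TensorProduct.smul_tmul', TensorProduct.smul_tmul',
          smul_eq_mul, mul_one, Algebra.smul_def, mul_comm]
      rw [h2]
      exact Submodule.smul_mem _ _ (Submodule.subset_span ⟨j.1, j.2, rfl⟩)
  have hspan : ⊤ ≤ Submodule.span q.ResidueField
      {w : q.ResidueField ⊗[Localization.AtPrime q]
        (RingHom.ker (algebraMap (Localization.AtPrime q)
          (Localization.AtPrime q ⧸ K))).Cotangent |
        ∃ (f : B) (hf : f ∈ J), w = (1 : q.ResidueField) ⊗ₜ
          (RingHom.ker (algebraMap (Localization.AtPrime q)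
            (Localization.AtPrime q ⧸ K))).toCotangent
              ⟨algebraMap B (Localization.AtPrime q) f, hmemK f hf⟩} := fun w _ => hspan' w
  obtain ⟨ι, b₀, hb₀⟩ : ∃ (ι : Type u) (b₀ : Module.Basis ι q.ResidueField
      (q.ResidueField ⊗[Localization.AtPrime q] (RingHom.ker (algebraMap (Localization.AtPrime q)
          (Localization.AtPrime q ⧸ K))).Cotangent)), Set.range b₀ ⊆
      {w : q.ResidueField ⊗[Localization.AtPrime q]
        (RingHom.ker (algebraMap (Localization.AtPrime q)
          (Localization.AtPrime q ⧸ K))).Cotangent |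
        ∃ (f : B) (hf : f ∈ J), w = (1 : q.ResidueField) ⊗ₜ
          (RingHom.ker (algebraMap (Localization.AtPrime q)
            (Localization.AtPrime q ⧸ K))).toCotangent
              ⟨algebraMap B (Localization.AtPrime q) f, hmemK f hf⟩} :=
    ⟨_, Module.Basis.ofSpan hspan, Module.Basis.ofSpan_subset hspan⟩
  haveI : Finite ι := Module.Finite.finite_basis b₀
  letI := Fintype.ofFinite ι
  obtain ⟨m, ⟨em⟩⟩ : ∃ m : ℕ, Nonempty (ι ≃ Fin m) := ⟨_, ⟨Fintype.equivFin _⟩⟩
  let b := b₀.reindex em
  have hb : ∀ i, ∃ (f : B) (hf : f ∈ J), b i = (1 : q.ResidueField) ⊗ₜ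
      (RingHom.ker (algebraMap (Localization.AtPrime q)
        (Localization.AtPrime q ⧸ K))).toCotangent
          ⟨algebraMap B (Localization.AtPrime q) f, hmemK f hf⟩ := by
    intro i
    have h1 : b i ∈ Set.range b₀ := ⟨em.symm i, by simp [b]⟩
    exact hb₀ h1
  choose f hfJ hbf using hb
  -- the `f i` generate
  have hgen : Submodule.span (Localization.AtPrime q) (Set.range fun i =>
      (RingHom.ker (algebraMap (Localization.AtPrime q)
        (Localization.AtPrime q ⧸ K))).toCotangent
          ⟨algebraMap B (Localization.AtPrime q) (f i), hmemK (f i) (hfJ i)⟩) = ⊤ :=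
    IsLocalRing.span_eq_top_of_tmul_eq_basis _ b (fun i => (hbf i).symm)
  have hKle : K ≤ maximalIdeal (Localization.AtPrime q) := by
    rw [hK, ← Localization.AtPrime.map_eq_maximalIdeal]
    exact Ideal.map_mono hJq
  have hKspan : K = Ideal.span (Set.range fun i =>
      algebraMap B (Localization.AtPrime q) (f i)) := by
    apply le_antisymm
    · refine Submodule.le_of_le_smul_of_le_jacobson_bot (I := maximalIdeal (Localization.AtPrime q))
        (IsNoetherian.noetherian K) (IsLocalRing.maximalIdeal_le_jacobson _) ?_
      intro y hy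
      have hyK' : y ∈ RingHom.ker (algebraMap (Localization.AtPrime q)
          (Localization.AtPrime q ⧸ K)) := by
        rw [← hK'def, hK']
        exact hy
      have h1 : (RingHom.ker (algebraMap (Localization.AtPrime q)
          (Localization.AtPrime q ⧸ K))).toCotangent ⟨y, hyK'⟩ ∈
          Submodule.span (Localization.AtPrime q) (Set.range fun i =>
            (RingHom.ker (algebraMap (Localization.AtPrime q)
              (Localization.AtPrime q ⧸ K))).toCotangent
                ⟨algebraMap B (Localization.AtPrime q) (f i), hmemK (f i) (hfJ i)⟩) := by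
        rw [hgen]
        exact Submodule.mem_top
      obtain ⟨c, hc⟩ := (Submodule.mem_span_range_iff_exists_fun _).1 h1
      have h2 : (RingHom.ker (algebraMap (Localization.AtPrime q)
          (Localization.AtPrime q ⧸ K))).toCotangent
            (∑ i, c i • (⟨algebraMap B (Localization.AtPrime q) (f i), hmemK (f i) (hfJ i)⟩ :
              RingHom.ker (algebraMap (Localization.AtPrime q) (Localization.AtPrime q ⧸ K)))) =
          (RingHom.ker (algebraMap (Localization.AtPrime q)
            (Localization.AtPrime q ⧸ K))).toCotangent ⟨y, hyK'⟩ := by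
        rw [map_sum, ← hc]
        exact Finset.sum_congr rfl fun i _ => map_smul _ _ _
      rw [Ideal.toCotangent_eq] at h2
      have h3 : y = (∑ i, c i * algebraMap B (Localization.AtPrime q) (f i)) -
          ((∑ i, c i * algebraMap B (Localization.AtPrime q) (f i)) - y) := by ring
      have h4 : ((∑ i, c i • (⟨algebraMap B (Localization.AtPrime q) (f i),
          hmemK (f i) (hfJ i)⟩ : RingHom.ker (algebraMap (Localization.AtPrime q)
            (Localization.AtPrime q ⧸ K))) : RingHom.ker (algebraMap (Localization.AtPrime q)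
              (Localization.AtPrime q ⧸ K))) : Localization.AtPrime q) =
          ∑ i, c i * algebraMap B (Localization.AtPrime q) (f i) := by
        rw [Submodule.coe_sum]
        rfl
      rw [h4] at h2
      rw [h3]
      refine Submodule.sub_mem _ (Submodule.mem_sup_left ?_) (Submodule.mem_sup_right ?_)
      · refine Submodule.sum_mem _ fun i _ => ?_
        exact Ideal.mul_mem_left _ _ (Ideal.subset_span ⟨i, rfl⟩)
      · have h5 : RingHom.ker (algebraMap (Localization.AtPrime q)
            (Localization.AtPrime q ⧸ K)) ^ 2 ≤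
            maximalIdeal (Localization.AtPrime q) • K := by
          rw [← hK'def, hK', pow_two, smul_eq_mul]
          exact Ideal.mul_mono_left hKle
        exact h5 h2
    · rw [Ideal.span_le]
      rintro _ ⟨i, rfl⟩
      rw [hK]
      exact Ideal.mem_map_of_mem _ (hfJ i)
  -- the functional δ
  let L : Ω[B⁄R] →ₗ[B] q.ResidueField ⊗[Localization.AtPrime q]
      (RingHom.ker (algebraMap (Localization.AtPrime q)
        (Localization.AtPrime q ⧸ K))).Cotangent :=
    ((TensorProduct.mk (Localization.AtPrime q) q.ResidueField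
      (RingHom.ker (algebraMap (Localization.AtPrime q)
        (Localization.AtPrime q ⧸ K))).Cotangent 1).restrictScalars B) ∘ₗ
    (l.restrictScalars B) ∘ₗ
    ((TensorProduct.mk (Localization.AtPrime q) (Localization.AtPrime q ⧸ K)
      Ω[Localization.AtPrime q⁄R] 1).restrictScalars B) ∘ₗ
    (KaehlerDifferential.map R R B (Localization.AtPrime q))
  let δ : Ω[B⁄R] →ₗ[B] (Fin m → q.ResidueField) :=
    (b.equivFun.toLinearMap.restrictScalars B) ∘ₗ L
  have hδ : ∀ i, δ (KaehlerDifferential.D R B (f i)) = Pi.single i 1 := by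
    intro i
    show b.equivFun (L (KaehlerDifferential.D R B (f i))) = _
    have h1 : L (KaehlerDifferential.D R B (f i)) = b i := by
      show (1 : q.ResidueField) ⊗ₜ[Localization.AtPrime q]
        l ((1 : Localization.AtPrime q ⧸ K) ⊗ₜ[Localization.AtPrime q]
          KaehlerDifferential.map R R B (Localization.AtPrime q)
            (KaehlerDifferential.D R B (f i))) = _
      rw [KaehlerDifferential.map_D, hbf i]
      exact congrArg _ (hl' ⟨algebraMap B (Localization.AtPrime q) (f i), hmemK (f i) (hfJ i)⟩)
    rw [h1]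
    funext j
    rw [Module.Basis.equivFun_self, Pi.single_apply]
    by_cases hij : i = j
    · rw [if_pos hij, if_pos hij.symm]
    · rw [if_neg hij, if_neg (fun h => hij h.symm)]
  obtain ⟨φ, hφ⟩ := exists_functionals q m (fun i => KaehlerDifferential.D R B (f i)) δ hδ
  exact ⟨m, f, φ, hfJ, hKspan, hφ⟩

end Nec

section Iso

variable (R : Type u) {B : Type u} [CommRing R] [CommRing B] [Algebra R B] (J q : Ideal B)
  [q.IsPrime] [(q.map (Ideal.Quotient.mk J)).IsPrime]

theorem algebraMapSubmonoid_primeCompl (hJq : J ≤ q) :
    Algebra.algebraMapSubmonoid (B ⧸ J) q.primeCompl = (q.map (Ideal.Quotient.mk J)).primeCompl := by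
  ext x
  constructor
  · rintro ⟨b, hb, rfl⟩
    intro hx
    apply hb
    have h1 : b ∈ (q.map (Ideal.Quotient.mk J)).comap (Ideal.Quotient.mk J) := hx
    rw [Ideal.comap_map_of_surjective _ Ideal.Quotient.mk_surjective, ← RingHom.ker_eq_comap_bot,
      Ideal.mk_ker, sup_eq_left.2 hJq] at h1
    exact h1
  · intro hx
    obtain ⟨b, rfl⟩ := Ideal.Quotient.mk_surjective x
    exact ⟨b, fun hb => hx (Ideal.mem_map_of_mem _ hb), rfl⟩

theorem nonempty_algEquiv_quotient_localization (hJq : J ≤ q) :
    Nonempty ((Localization.AtPrime q ⧸ J.map (algebraMap B (Localization.AtPrime q))) ≃ₐ[R]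
      Localization.AtPrime (q.map (Ideal.Quotient.mk J))) := by
  haveI h1 : IsLocalization (Algebra.algebraMapSubmonoid (B ⧸ J) q.primeCompl)
      (Localization.AtPrime q ⧸ J.map (algebraMap B (Localization.AtPrime q))) := inferInstance
  rw [algebraMapSubmonoid_primeCompl J q hJq] at h1
  let e := IsLocalization.algEquiv (q.map (Ideal.Quotient.mk J)).primeCompl
    (Localization.AtPrime q ⧸ J.map (algebraMap B (Localization.AtPrime q)))
    (Localization.AtPrime (q.map (Ideal.Quotient.mk J)))
  haveI : IsScalarTower R (B ⧸ J)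
      (Localization.AtPrime q ⧸ J.map (algebraMap B (Localization.AtPrime q))) := by
    apply IsScalarTower.of_algebraMap_eq
    intro r
    rfl
  exact ⟨e.restrictScalars R⟩

end Iso

end Groth.Agent.Lib.JacobianH3
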