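import Groth.Agent.Lib.TorNat_helper5

/-!
# `Tor_0` is naturally the tensor product (both variables); Artin–Rees for `Tor_1` (helper5)
-/

set_option autoImplicit false
universe u
open CategoryTheory CategoryTheory.Limits MonoidalCategory TensorProduct

namespace Groth.Agent.TorAR

section general

variable {C D : Type*} [Category* C] [Category* D] [Abelian C] [HasProjectiveResolutions C]
  [Abelian D]

/-- naturality of `F.leftDerived 0 ⟶ F` in the functor `F`. -/
theorem fromLeftDerivedZero_naturality_left {F G : C ⥤ D} [F.Additive] [G.Additive] (α : F ⟶ G)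
    (X : C) :
    (NatTrans.leftDerived α 0).app X ≫ G.fromLeftDerivedZero.app X =
      F.fromLeftDerivedZero.app X ≫ α.app X := by
  let P := projectiveResolution X
  have key : HomologicalComplex.opcyclesMap
      ((NatTrans.mapHomologicalComplex α (ComplexShape.down ℕ)).app P.complex) 0 ≫
      P.fromLeftDerivedZero' G = P.fromLeftDerivedZero' F ≫ α.app X := by
    rw [← cancel_epi (HomologicalComplex.pOpcycles _ _),
      HomologicalComplex.p_opcyclesMap_assoc,
      ProjectiveResolution.pOpcycles_comp_fromLeftDerivedZero',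
      ProjectiveResolution.pOpcycles_comp_fromLeftDerivedZero'_assoc,
      NatTrans.mapHomologicalComplex_app_f]
    exact (α.naturality (P.π.f 0)).symm
  rw [P.leftDerived_app_eq α 0, P.fromLeftDerivedZero_eq F, P.fromLeftDerivedZero_eq G]
  simp only [Category.assoc, Iso.inv_hom_id_assoc]
  congr 1
  have key2 : HomologicalComplex.homologyMap
      ((NatTrans.mapHomologicalComplex α (ComplexShape.down ℕ)).app P.complex) 0 ≫
      ((G.mapHomologicalComplex (ComplexShape.down ℕ)).obj P.complex).homologyι 0 ≫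
        P.fromLeftDerivedZero' G =
      ((F.mapHomologicalComplex (ComplexShape.down ℕ)).obj P.complex).homologyι 0 ≫
        P.fromLeftDerivedZero' F ≫ α.app X := by
    rw [HomologicalComplex.homologyι_naturality_assoc, key]
  exact key2

end general

section modules

variable {R : Type u} [CommRing R]

open Groth.Agent.TorLES Groth.Agent.TorNat

/-- `Tor_0(X, Y) ≅ X ⊗ Y`. -/
noncomputable def τ (X Y : ModuleCat.{u} R) :
    ((Tor (ModuleCat.{u} R) 0).obj X).obj Y ≅ X ⊗ Y :=
  (Functor.leftDerivedZeroIsoSelf ((tensoringLeft (ModuleCat.{u} R)).obj X)).app Y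

lemma τ_naturality_right (X : ModuleCat.{u} R) {Y Y' : ModuleCat.{u} R} (f : Y ⟶ Y') :
    ((Tor (ModuleCat.{u} R) 0).obj X).map f ≫ (τ X Y').hom = (τ X Y).hom ≫ X ◁ f :=
  (Functor.leftDerivedZeroIsoSelf ((tensoringLeft (ModuleCat.{u} R)).obj X)).hom.naturality f

lemma τ_naturality_left {X X' : ModuleCat.{u} R} (g : X ⟶ X') (Y : ModuleCat.{u} R) :
    ((Tor (ModuleCat.{u} R) 0).map g).app Y ≫ (τ X' Y).hom = (τ X Y).hom ≫ g ▷ Y :=
  fromLeftDerivedZero_naturality_left ((tensoringLeft (ModuleCat.{u} R)).map g) Y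

end modules

section artinRees

variable {R : Type u} [CommRing R]

open Groth.Agent.TorLES Groth.Agent.TorNat

lemma exists_tmul_one {K : Type u} [AddCommGroup K] [Module R K] (J : Ideal R)
    (v : K ⊗[R] (R ⧸ J)) : ∃ k : K, v = k ⊗ₜ[R] (1 : R ⧸ J) := by
  induction v using TensorProduct.induction_on with
  | zero => exact ⟨0, by rw [zero_tmul]⟩
  | tmul k r =>
    obtain ⟨r, rfl⟩ := Ideal.Quotient.mk_surjective r
    refine ⟨r • k, ?_⟩
    rw [smul_tmul, ← Ideal.Quotient.algebraMap_eq, Algebra.smul_def, mul_one]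
  | add x y hx hy =>
    obtain ⟨a, rfl⟩ := hx
    obtain ⟨b, rfl⟩ := hy
    exact ⟨a + b, by rw [add_tmul]⟩

lemma tmul_one_eq_zero_iff {K : Type u} [AddCommGroup K] [Module R K] (J : Ideal R) (k : K) :
    k ⊗ₜ[R] (1 : R ⧸ J) = 0 ↔ k ∈ (J • ⊤ : Submodule R K) := by
  rw [← (tensorQuotEquivQuotSMul K J).map_eq_zero_iff,
    show (1 : R ⧸ J) = Ideal.Quotient.mk J 1 from rfl, tensorQuotEquivQuotSMul_tmul_mk, one_smul,
    Submodule.Quotient.mk_eq_zero]

/-- S15548. -/
theorem tor_one_map_eq_zero [IsNoetherianRing R] (I : Ideal R)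
    (M : Type u) [AddCommGroup M] [Module R M] [Module.Finite R M] (n : ℕ) :
    ∃ m : ℕ, n ≤ m ∧ ∀ h : I ^ m ≤ I ^ n,
      ((CategoryTheory.Tor (ModuleCat.{u} R) 1).obj (ModuleCat.of R M)).map
        (ModuleCat.ofHom (Submodule.factor h)) = 0 := by
  obtain ⟨k, f, hf⟩ := Module.Finite.exists_fin' R M
  obtain ⟨c, hc⟩ := Ideal.exists_pow_inf_eq_pow_smul I (LinearMap.ker f)
  refine ⟨n + c, Nat.le_add_right n c, fun h => ?_⟩
  -- the short exact sequence `0 → K → G → M → 0`
  have hS := mk_shortExact (LinearMap.ker f).subtype f Subtype.val_injective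
    (LinearMap.exact_subtype_ker_map f) hf
  set S := ShortComplex.moduleCatMk (LinearMap.ker f).subtype f
    (LinearMap.exact_subtype_ker_map f).linearMap_comp_eq_zero with hSdef
  let Ym := ModuleCat.of R (R ⧸ I ^ (n + c))
  let Yn := ModuleCat.of R (R ⧸ I ^ n)
  let π : Ym ⟶ Yn := ModuleCat.ofHom (Submodule.factor h)
  -- Artin–Rees consequence
  have hAR : ∀ x : LinearMap.ker f, (x : Fin k → R) ∈ (I ^ (n + c) • ⊤ : Submodule R (Fin k → R)) →
      x ∈ (I ^ n • ⊤ : Submodule R (LinearMap.ker f)) := by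
    intro x hx
    have h1 : (x : Fin k → R) ∈ I ^ (n + c) • (⊤ : Submodule R (Fin k → R)) ⊓ LinearMap.ker f :=
      ⟨hx, x.2⟩
    rw [hc (n + c) (Nat.le_add_left c n), Nat.add_sub_cancel] at h1
    have h2 : I ^ n • (I ^ c • (⊤ : Submodule R (Fin k → R)) ⊓ LinearMap.ker f) ≤
        Submodule.map (LinearMap.ker f).subtype (I ^ n • ⊤) := by
      rw [Submodule.map_smul'', Submodule.map_subtype_top]
      exact Submodule.smul_mono le_rfl inf_le_right
    obtain ⟨y, hy, hyx⟩ := h2 h1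
    have : y = x := Subtype.val_injective hyx
    rwa [← this]
  -- `Tor_1(G, -) = 0`
  have hG : ∀ Y : ModuleCat.{u} R, IsZero (((Tor (ModuleCat.{u} R) 1).obj S.X₂).obj Y) := fun Y =>
    isZero_tor_succ_of_flat_left (ModuleCat.of R (Fin k → R)) Y 0
  have hmono : Function.Injective (torδ S hS 0 Yn) :=
    (ModuleCat.mono_iff_injective _).mp (mono_torδ S hS 0 Yn (hG Yn))
  have hτinj : Function.Injective (τ S.X₁ Yn).hom :=
    (ModuleCat.mono_iff_injective _).mp inferInstance
  ext x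
  apply hmono
  have hnat : torδ S hS 0 Yn (((Tor (ModuleCat.{u} R) 1).obj S.X₃).map π x) =
      ((Tor (ModuleCat.{u} R) 0).obj S.X₁).map π (torδ S hS 0 Ym x) :=
    congrArg (fun g => g.hom x) (torδ_naturality S hS 0 π)
  refine hnat.trans ?_
  refine Eq.trans ?_ (map_zero _).symm
  apply hτinj
  have hnat2 : (τ S.X₁ Yn).hom (((Tor (ModuleCat.{u} R) 0).obj S.X₁).map π
      (torδ S hS 0 Ym x)) = (S.X₁ ◁ π) ((τ S.X₁ Ym).hom (torδ S hS 0 Ym x)) :=
    congrArg (fun g => g.hom (torδ S hS 0 Ym x)) (τ_naturality_right S.X₁ π)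
  refine hnat2.trans ?_
  refine Eq.trans ?_ (map_zero _).symm
  set v := (τ S.X₁ Ym).hom (torδ S hS 0 Ym x) with hv
  have hv0 : (S.f ▷ Ym) v = 0 := by
    have h1 := torδ_comp S hS 0 Ym
    have h2 := τ_naturality_left S.f Ym
    have h3 : (torδ S hS 0 Ym ≫ ((Tor (ModuleCat.{u} R) 0).map S.f).app Ym ≫ (τ S.X₂ Ym).hom) x =
        0 := by
      rw [reassoc_of% h1, zero_comp]
      rfl
    rw [h2] at h3
    exact h3
  change (LinearMap.ker f) ⊗[R] (R ⧸ I ^ (n + c)) at v
  obtain ⟨y, hy⟩ := exists_tmul_one (I ^ (n + c)) v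
  have hy1 : ((LinearMap.ker f).subtype y) ⊗ₜ[R] (1 : R ⧸ I ^ (n + c)) = 0 := by
    have h4 : (S.f ▷ Ym) v = ((LinearMap.ker f).subtype y) ⊗ₜ[R] (1 : R ⧸ I ^ (n + c)) := by
      rw [hy]
      exact ModuleCat.MonoidalCategory.whiskerRight_apply (L := S.X₁) (M := S.X₂) S.f Ym y
        (1 : R ⧸ I ^ (n + c))
    exact h4.symm.trans hv0
  rw [tmul_one_eq_zero_iff] at hy1
  have hy2 := hAR y hy1
  have h5 : (S.X₁ ◁ π) v = y ⊗ₜ[R] (1 : R ⧸ I ^ n) := by
    rw [hy]
    refine (ModuleCat.MonoidalCategory.whiskerLeft_apply S.X₁ π y (1 : R ⧸ I ^ (n + c))).trans ?_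
    rfl
  refine h5.trans ?_
  exact (tmul_one_eq_zero_iff (I ^ n) y).mpr hy2

end artinRees

end Groth.Agent.TorAR
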