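import Mathlib

/-!
# Homology of complexes of modules commutes with filtered colimits (helper5)

* `HomologyColim.preservesColimitsOfShape_homologyFunctor`: for a small filtered category `J`, the
  functor `HomologicalComplex.homologyFunctor (ModuleCat R) c i` preserves colimits of shape `J`.
-/

set_option autoImplicit false

open CategoryTheory Limits

universe u

namespace Groth.Agent.HomologyColim

variable {R : Type u} [Ring R] {ι : Type*} {c : ComplexShape ι}

section elements

variable (L : HomologicalComplex (ModuleCat.{u} R) c) (i : ι)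

lemma exists_homologyπ_eq (x : L.homology i) : ∃ z : L.cycles i, L.homologyπ i z = x :=
  (ModuleCat.epi_iff_surjective _).mp (inferInstance : Epi (L.homologyπ i)) x

lemma iCycles_injective : Function.Injective (L.iCycles i) :=
  (ModuleCat.mono_iff_injective _).mp (inferInstance : Mono (L.iCycles i))

lemma exists_iCycles_eq (y : L.X i) (hy : L.d i (c.next i) y = 0) :
    ∃ z : L.cycles i, L.iCycles i z = y := by
  have hS : (ShortComplex.mk (L.iCycles i) (L.d i (c.next i)) (L.iCycles_d i _)).Exact :=
    ShortComplex.exact_of_f_is_kernel _ (L.cyclesIsKernel i _ rfl)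
  exact (ShortComplex.moduleCat_exact_iff _).mp hS y hy

lemma homologyπ_eq_zero_iff (z : L.cycles i) :
    L.homologyπ i z = 0 ↔ ∃ w : L.X (c.prev i), L.toCycles (c.prev i) i w = z := by
  have hS : (ShortComplex.mk (L.toCycles (c.prev i) i) (L.homologyπ i)
      (L.toCycles_comp_homologyπ _ _)).Exact :=
    ShortComplex.exact_of_g_is_cokernel _ (L.homologyIsCokernel (c.prev i) i rfl)
  constructor
  · intro h
    exact (ShortComplex.moduleCat_exact_iff _).mp hS z h
  · rintro ⟨w, rfl⟩
    exact ShortComplex.moduleCat_zero_apply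
      (ShortComplex.mk (L.toCycles (c.prev i) i) (L.homologyπ i)
      (L.toCycles_comp_homologyπ _ _)) w

lemma iCycles_toCycles (w : L.X (c.prev i)) :
    L.iCycles i (L.toCycles (c.prev i) i w) = L.d (c.prev i) i w := by
  rw [← L.toCycles_i (c.prev i) i]
  rfl

end elements

section maps

variable {L L' : HomologicalComplex (ModuleCat.{u} R) c} (φ : L ⟶ L') (i : ι)

lemma homologyMap_homologyπ (z : L.cycles i) :
    HomologicalComplex.homologyMap φ i (L.homologyπ i z) =
      L'.homologyπ i (HomologicalComplex.cyclesMap φ i z) := by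
  have := HomologicalComplex.homologyπ_naturality φ i
  exact congrArg (fun f => f.hom z) this

lemma iCycles_cyclesMap (z : L.cycles i) :
    L'.iCycles i (HomologicalComplex.cyclesMap φ i z) = φ.f i (L.iCycles i z) := by
  have := HomologicalComplex.cyclesMap_i φ i
  exact congrArg (fun f => f.hom z) this

lemma f_d (j k : ι) (y : L.X j) : φ.f k (L.d j k y) = L'.d j k (φ.f j y) := by
  have := φ.comm j k
  exact (congrArg (fun f => f.hom y) this).symm

end maps

variable {J : Type u} [SmallCategory J] [IsFiltered J]

/-- The image under homology of a filtered colimit cocone of complexes of modules is a colimit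
cocone. -/
noncomputable def isColimitHomologyMapCocone
    (K : J ⥤ HomologicalComplex (ModuleCat.{u} R) c) (t : Cocone K) (ht : IsColimit t) (i : ι) :
    IsColimit ((HomologicalComplex.homologyFunctor (ModuleCat.{u} R) c i).mapCocone t) := by
  -- degreewise colimits in types
  have hdeg : ∀ m : ι, IsColimit ((forget (ModuleCat.{u} R)).mapCocone
      ((HomologicalComplex.eval _ c m).mapCocone t)) := fun m =>
    isColimitOfPreserves (forget _) (isColimitOfPreserves (HomologicalComplex.eval _ c m) ht)
  have hS : ∀ (m : ι) (y : t.pt.X m), ∃ (j : J) (yj : (K.obj j).X m),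
      (t.ι.app j).f m yj = y := fun m y => by
    obtain ⟨j, yj, h⟩ := Types.jointly_surjective_of_isColimit (hdeg m) y
    exact ⟨j, yj, h⟩
  have hI : ∀ (m : ι) (j : J) (y : (K.obj j).X m), (t.ι.app j).f m y = 0 →
      ∃ (k : J) (f : j ⟶ k), (K.map f).f m y = 0 := fun m j y hy => by
    have h0 := (Types.FilteredColimit.isColimit_eq_iff' (hdeg m) (i := j) y
      (0 : (K.obj j).X m)).mp (by
        change (t.ι.app j).f m y = (t.ι.app j).f m 0
        rw [hy, map_zero])
    obtain ⟨k, f, hf⟩ := h0
    refine ⟨k, f, ?_⟩
    change (K.map f).f m y = (K.map f).f m 0 at hf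
    rw [hf, map_zero]
  apply isColimitOfReflects (forget (ModuleCat.{u} R))
  apply Types.FilteredColimit.isColimitOf'
  · -- surjectivity
    intro x
    change (t.pt.homology i) at x
    obtain ⟨z, rfl⟩ := exists_homologyπ_eq t.pt i x
    obtain ⟨j, yj, hyj⟩ := hS i (t.pt.iCycles i z)
    have hd : (t.ι.app j).f (c.next i) ((K.obj j).d i (c.next i) yj) = 0 := by
      rw [f_d, hyj]
      have := t.pt.iCycles_d i (c.next i)
      exact congrArg (fun f => f.hom z) this
    obtain ⟨k, f, hf⟩ := hI _ j _ hd
    rw [f_d] at hf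
    obtain ⟨zk, hzk⟩ := exists_iCycles_eq (K.obj k) i _ hf
    refine ⟨k, (K.obj k).homologyπ i zk, ?_⟩
    change t.pt.homologyπ i z =
      HomologicalComplex.homologyMap (t.ι.app k) i ((K.obj k).homologyπ i zk)
    rw [homologyMap_homologyπ]
    congr 1
    apply iCycles_injective
    rw [iCycles_cyclesMap, hzk, ← hyj]
    have := t.w f
    have h2 : (K.map f ≫ t.ι.app k).f i = (t.ι.app j).f i := by rw [this]
    exact (congrArg (fun g => g.hom yj) h2).symm
  · -- injectivity
    intro j x y hxy
    change ((K.obj j).homology i) at x y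
    change HomologicalComplex.homologyMap (t.ι.app j) i x =
      HomologicalComplex.homologyMap (t.ι.app j) i y at hxy
    -- reduce to `x - y`
    have h0 : HomologicalComplex.homologyMap (t.ι.app j) i (x - y) = 0 := by
      rw [map_sub, hxy, sub_self]
    obtain ⟨z, hz⟩ := exists_homologyπ_eq (K.obj j) i (x - y)
    rw [← hz, homologyMap_homologyπ] at h0
    obtain ⟨w, hw⟩ : ∃ w : t.pt.X (c.prev i), t.pt.toCycles (c.prev i) i w =
        HomologicalComplex.cyclesMap (t.ι.app j) i z :=
      (homologyπ_eq_zero_iff t.pt i _).mp h0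
    obtain ⟨j', w', hw'⟩ := hS _ w
    have hw2 : t.pt.d (c.prev i) i w = (t.ι.app j).f i ((K.obj j).iCycles i z) := by
      rw [← iCycles_toCycles, hw, iCycles_cyclesMap]
    -- common bound
    let k := IsFiltered.max j j'
    let f : j ⟶ k := IsFiltered.leftToMax j j'
    let g : j' ⟶ k := IsFiltered.rightToMax j j'
    have hu : (t.ι.app k).f i ((K.map f).f i ((K.obj j).iCycles i z) -
        (K.obj k).d (c.prev i) i ((K.map g).f (c.prev i) w')) = 0 := by
      rw [map_sub, ← f_d]
      have e1 : (t.ι.app k).f i ((K.map f).f i ((K.obj j).iCycles i z)) =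
          (t.ι.app j).f i ((K.obj j).iCycles i z) := by
        have h2 : (K.map f ≫ t.ι.app k).f i = (t.ι.app j).f i := by rw [t.w f]
        exact congrArg (fun g => g.hom ((K.obj j).iCycles i z)) h2
      have e2 : (t.ι.app k).f i ((K.map g).f i ((K.obj j').d (c.prev i) i w')) =
          t.pt.d (c.prev i) i w := by
        have h2 : (K.map g ≫ t.ι.app k).f i = (t.ι.app j').f i := by rw [t.w g]
        have h3 := congrArg (fun g => g.hom ((K.obj j').d (c.prev i) i w')) h2
        refine h3.trans ?_
        change (t.ι.app j').f i ((K.obj j').d (c.prev i) i w') = _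
        rw [f_d, hw']
        rfl
      rw [e1, e2, hw2, sub_self]
    obtain ⟨l, h, hh⟩ := hI _ k _ hu
    refine ⟨l, f ≫ h, ?_⟩
    change HomologicalComplex.homologyMap (K.map (f ≫ h)) i x =
      HomologicalComplex.homologyMap (K.map (f ≫ h)) i y
    rw [← sub_eq_zero, ← map_sub, ← hz, homologyMap_homologyπ, homologyπ_eq_zero_iff]
    refine ⟨(K.map (g ≫ h)).f (c.prev i) w', ?_⟩
    apply iCycles_injective
    rw [iCycles_toCycles, iCycles_cyclesMap]
    rw [map_sub, sub_eq_zero] at hh
    have e3 : (K.map (f ≫ h)).f i ((K.obj j).iCycles i z) =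
        (K.map h).f i ((K.map f).f i ((K.obj j).iCycles i z)) := by
      rw [K.map_comp]; rfl
    have e4 : (K.map (g ≫ h)).f (c.prev i) w' =
        (K.map h).f (c.prev i) ((K.map g).f (c.prev i) w') := by
      rw [K.map_comp]; rfl
    rw [e3, e4, hh, f_d]

instance preservesColimitsOfShape_homologyFunctor (i : ι) :
    PreservesColimitsOfShape J (HomologicalComplex.homologyFunctor (ModuleCat.{u} R) c i) :=
  ⟨fun {K} => ⟨fun {t} ht => ⟨isColimitHomologyMapCocone K t ht i⟩⟩⟩

end Groth.Agent.HomologyColim
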