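import Groth.Agent.Lib.TorNat_helper5
import Groth.Agent.Lib.HomologyColim_helper5

/-!
# `Tor_n(M, -)` commutes with filtered colimits (helper5)
-/

set_option autoImplicit false
universe u v w
open CategoryTheory CategoryTheory.Limits MonoidalCategory

namespace Groth.Agent.TorColim2

section kernel

variable {R : Type u} [Ring R] {C : Type w} [Category.{v} C]
  {J : Type u} [SmallCategory J] [IsFiltered J]

lemma nat_apply {F G : C ⥤ ModuleCat.{u} R} (α : F ⟶ G) {X Y : C} (f : X ⟶ Y) (x : F.obj X) :
    α.app Y (F.map f x) = G.map f (α.app X x) :=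
  congrArg (fun g => g.hom x) (α.naturality f)

lemma map_comp_apply (F : C ⥤ ModuleCat.{u} R) {X Y Z : C} (f : X ⟶ Y) (g : Y ⟶ Z) (x : F.obj X) :
    F.map (f ≫ g) x = F.map g (F.map f x) :=
  congrArg (fun h => h.hom x) (F.map_comp f g)

/-- If `0 → T → F₁ → F₂` is exact (objectwise) and `F₁`, `F₂` preserve filtered colimits of shape
`J`, so does `T`. -/
theorem preservesColimitsOfShape_of_leftExact (T F₁ F₂ : C ⥤ ModuleCat.{u} R)
    (ι : T ⟶ F₁) (α : F₁ ⟶ F₂)
    (hι : ∀ X, Function.Injective (ι.app X))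
    (hz : ∀ X (t : T.obj X), α.app X (ι.app X t) = 0)
    (hex : ∀ X (y : F₁.obj X), α.app X y = 0 → ∃ t, ι.app X t = y)
    [PreservesColimitsOfShape J F₁] [PreservesColimitsOfShape J F₂] :
    PreservesColimitsOfShape J T := by
  refine ⟨fun {D} => ⟨fun {c} hc => ⟨?_⟩⟩⟩
  have h1 : IsColimit ((forget (ModuleCat.{u} R)).mapCocone (F₁.mapCocone c)) :=
    isColimitOfPreserves (forget _) (isColimitOfPreserves F₁ hc)
  have h2 : IsColimit ((forget (ModuleCat.{u} R)).mapCocone (F₂.mapCocone c)) :=
    isColimitOfPreserves (forget _) (isColimitOfPreserves F₂ hc)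
  have hS1 : ∀ y : F₁.obj c.pt, ∃ (j : J) (yj : F₁.obj (D.obj j)), F₁.map (c.ι.app j) yj = y :=
    fun y => Types.jointly_surjective_of_isColimit h1 y
  have hI1 : ∀ (j : J) (x y : F₁.obj (D.obj j)), F₁.map (c.ι.app j) x = F₁.map (c.ι.app j) y →
      ∃ (k : J) (f : j ⟶ k), F₁.map (D.map f) x = F₁.map (D.map f) y := fun j x y hxy =>
    (Types.FilteredColimit.isColimit_eq_iff' h1 (i := j) x y).mp hxy
  have hI2 : ∀ (j : J) (x : F₂.obj (D.obj j)), F₂.map (c.ι.app j) x = 0 →
      ∃ (k : J) (f : j ⟶ k), F₂.map (D.map f) x = 0 := fun j x hx => by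
    obtain ⟨k, f, hf⟩ := (Types.FilteredColimit.isColimit_eq_iff' h2 (i := j) x
      (0 : F₂.obj (D.obj j))).mp (by
        change F₂.map (c.ι.app j) x = F₂.map (c.ι.app j) 0
        rw [hx, map_zero])
    refine ⟨k, f, ?_⟩
    change F₂.map (D.map f) x = F₂.map (D.map f) 0 at hf
    rw [hf, map_zero]
  apply isColimitOfReflects (forget (ModuleCat.{u} R))
  apply Types.FilteredColimit.isColimitOf'
  · intro x
    change T.obj c.pt at x
    obtain ⟨j, yj, hyj⟩ := hS1 (ι.app c.pt x)
    have h0 : F₂.map (c.ι.app j) (α.app (D.obj j) yj) = 0 := by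
      rw [← nat_apply, hyj]
      exact hz c.pt x
    obtain ⟨k, f, hf⟩ := hI2 j _ h0
    rw [← nat_apply] at hf
    obtain ⟨t, ht⟩ := hex (D.obj k) _ hf
    refine ⟨k, t, ?_⟩
    change x = T.map (c.ι.app k) t
    apply hι c.pt
    rw [nat_apply, ht, ← map_comp_apply, c.w f, hyj]
  · intro j x y hxy
    change T.obj (D.obj j) at x y
    change T.map (c.ι.app j) x = T.map (c.ι.app j) y at hxy
    have h : F₁.map (c.ι.app j) (ι.app _ x) = F₁.map (c.ι.app j) (ι.app _ y) := by
      rw [← nat_apply, ← nat_apply, hxy]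
    obtain ⟨k, f, hf⟩ := hI1 j _ _ h
    refine ⟨k, f, ?_⟩
    change T.map (D.map f) x = T.map (D.map f) y
    apply hι
    rw [nat_apply, nat_apply, hf]

end kernel

section tor

variable {R : Type u} [CommRing R] {J : Type u} [SmallCategory J] [IsFiltered J]

open Groth.Agent.TorLES Groth.Agent.TorNat

instance preserves_tor_zero (M : ModuleCat.{u} R) :
    PreservesColimitsOfShape J ((Tor (ModuleCat.{u} R) 0).obj M) :=
  preservesColimitsOfShape_of_natIso
    (Functor.leftDerivedZeroIsoSelf ((tensoringLeft (ModuleCat.{u} R)).obj M)).symm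

/-- the presentation `0 → K → G → M → 0` with `G` projective. -/
noncomputable abbrev pres (M : ModuleCat.{u} R) : ShortComplex (ModuleCat.{u} R) :=
  ShortComplex.kernelSequence (Projective.π M)

lemma pres_shortExact (M : ModuleCat.{u} R) : (pres M).ShortExact := by
  haveI : Epi (pres M).g := by
    change Epi (Projective.π M)
    infer_instance
  exact { exact := ShortComplex.kernelSequence_exact _ }

lemma isZero_tor_pres_mid (M Y : ModuleCat.{u} R) (n : ℕ) :
    IsZero (((Tor (ModuleCat.{u} R) (n + 1)).obj (pres M).X₂).obj Y) := by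
  haveI : Projective (pres M).X₂ := by
    change Projective (Projective.over M)
    infer_instance
  haveI : Module.Projective R (pres M).X₂ := (IsProjective.iff_projective _).mpr inferInstance
  exact isZero_tor_succ_of_flat_left _ Y n

/-- S3526: `Tor_p(M, -)` preserves filtered colimits. -/
theorem preservesColimitsOfShape_tor : ∀ (p : ℕ) (M : ModuleCat.{u} R),
    PreservesColimitsOfShape J ((Tor (ModuleCat.{u} R) p).obj M) := by
  intro p
  induction p using Nat.strong_induction_on with
  | _ p ih =>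
    intro M
    match p, ih with
    | 0, _ => infer_instance
    | 1, ih =>
      haveI := ih 0 (by omega) (pres M).X₁
      haveI := ih 0 (by omega) (pres M).X₂
      exact preservesColimitsOfShape_of_leftExact
        ((Tor (ModuleCat.{u} R) 1).obj M) ((Tor (ModuleCat.{u} R) 0).obj (pres M).X₁)
        ((Tor (ModuleCat.{u} R) 0).obj (pres M).X₂)
        (torδNat (pres M) (pres_shortExact M) 0) ((Tor (ModuleCat.{u} R) 0).map (pres M).f)
        (fun Y => (ModuleCat.mono_iff_injective _).mp
          (mono_torδ (pres M) (pres_shortExact M) 0 Y (isZero_tor_pres_mid M Y 0)))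
        (fun Y t => congrArg (fun g => g.hom t) (torδ_comp (pres M) (pres_shortExact M) 0 Y))
        (fun Y y hy => exists_torδ_eq (pres M) (pres_shortExact M) 0 Y y hy)
    | (q + 2), ih =>
      haveI := ih (q + 1) (by omega) (pres M).X₁
      haveI : ∀ Y, IsIso ((torδNat (pres M) (pres_shortExact M) (q + 1)).app Y) := fun Y =>
        isIso_torδ (pres M) (pres_shortExact M) (q + 1) Y (isZero_tor_pres_mid M Y (q + 1))
          (isZero_tor_pres_mid M Y q)
      haveI : IsIso (torδNat (pres M) (pres_shortExact M) (q + 1)) :=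
        NatIso.isIso_of_isIso_app _
      exact preservesColimitsOfShape_of_natIso
        (asIso (torδNat (pres M) (pres_shortExact M) (q + 1))).symm

end tor

end Groth.Agent.TorColim2
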