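import Groth.Agent.Lib.TorBC2_helper5
import Groth.Agent.Lib.TorAR_helper5
import Groth.Agent.Lib.TorColim2_helper5

/-!
# Base change for `Tor` under Tor-independence (helper5)

`A → A'` a ring map, `P` an `A`-module with `Tor_q^A(P, A') = 0` for `q ≥ 1`, `Q'` an `A'`-module:
there is a semilinear bijection `Tor_n^A(P, Q') → Tor_n^{A'}(A' ⊗_A P, Q')`  (S3537).
-/

set_option autoImplicit false
set_option maxHeartbeats 400000
universe u
open CategoryTheory CategoryTheory.Limits MonoidalCategory TensorProduct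
open Groth.Agent.ExtendScalarsLib

namespace Groth.Agent.TorBC3

open Groth.Agent.TorLES Groth.Agent.TorNat Groth.Agent.TorAR Groth.Agent.TorBC2
  Groth.Agent.TorColim2

section kernels

variable {A : Type u} [Ring A]

/-- two kernels of isomorphic arrows are isomorphic (elementwise form). -/
theorem iso_of_kernels {T U V T' U' V' : ModuleCat.{u} A} (δ : T ⟶ U) (a : U ⟶ V)
    (δ' : T' ⟶ U') (a' : U' ⟶ V')
    (hδ : Function.Injective δ) (hδ' : Function.Injective δ')
    (hz : ∀ t, a (δ t) = 0) (hz' : ∀ t, a' (δ' t) = 0)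
    (hex : ∀ u, a u = 0 → ∃ t, δ t = u) (hex' : ∀ u, a' u = 0 → ∃ t, δ' t = u)
    (θU : U ≅ U') (θV : V ≅ V') (hc : a ≫ θV.hom = θU.hom ≫ a') : Nonempty (T ≅ T') := by
  have hc' : ∀ u, θV.hom (a u) = a' (θU.hom u) := fun u => congrArg (fun g => g.hom u) hc
  have hθV : Function.Injective θV.hom := (ModuleCat.mono_iff_injective _).mp inferInstance
  -- `T ≃ ker a`
  let e1 : T ≃ₗ[A] LinearMap.ker a.hom :=
    LinearEquiv.ofBijective (δ.hom.codRestrict (LinearMap.ker a.hom) (fun t => hz t))
      ⟨fun x y hxy => hδ (congrArg Subtype.val hxy), fun ⟨u, hu⟩ => by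
        obtain ⟨t, ht⟩ := hex u hu
        exact ⟨t, Subtype.ext ht⟩⟩
  let e1' : T' ≃ₗ[A] LinearMap.ker a'.hom :=
    LinearEquiv.ofBijective (δ'.hom.codRestrict (LinearMap.ker a'.hom) (fun t => hz' t))
      ⟨fun x y hxy => hδ' (congrArg Subtype.val hxy), fun ⟨u, hu⟩ => by
        obtain ⟨t, ht⟩ := hex' u hu
        exact ⟨t, Subtype.ext ht⟩⟩
  have hmap : Submodule.map (θU.toLinearEquiv : U →ₗ[A] U') (LinearMap.ker a.hom) =
      LinearMap.ker a'.hom := by
    ext u'
    constructor
    · rintro ⟨u, hu, rfl⟩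
      change a' (θU.hom u) = 0
      rw [← hc', show a u = 0 from hu, map_zero]
    · intro hu'
      have hinv : θU.hom (θU.inv u') = u' := by
        rw [← ConcreteCategory.comp_apply, Iso.inv_hom_id, ConcreteCategory.id_apply]
      refine ⟨θU.inv u', ?_, hinv⟩
      change a (θU.inv u') = 0
      apply hθV
      have h3 : θV.hom (a (θU.inv u')) = a' u' := by
        rw [hc', hinv]
      rw [h3, map_zero]
      exact hu'
  let e2 : LinearMap.ker a.hom ≃ₗ[A] LinearMap.ker a'.hom :=
    LinearEquiv.ofSubmodules θU.toLinearEquiv _ _ hmap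
  exact ⟨(e1 ≪≫ₗ e2 ≪≫ₗ e1'.symm).toModuleIso⟩

end kernels

variable (A A' : Type u) [CommRing A] [CommRing A'] [Algebra A A']

open ChangeOfRings in
/-- naturality of `extendScalarsEquivTensor`. -/
lemma eET_natural {F G : ModuleCat.{u} A} (g : F ⟶ G) (x : (E A A').obj F) :
    extendScalarsEquivTensor (S := A') G ((E A A').map g x) =
      LinearMap.lTensor A' g.hom (extendScalarsEquivTensor (S := A') F x) := by
  induction x using E_induction with
  | zero => simp only [map_zero]
  | add x y hx hy => simp only [map_add, hx, hy]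
  | tmul a f =>
    have h1 : (E A A').map g (a ⊗ₜ[A,algebraMap A A'] f) = a ⊗ₜ[A,algebraMap A A'] (g.hom f) :=
      ModuleCat.ExtendScalars.map_tmul _ g a f
    have h2 : extendScalarsEquivTensor (S := A') G (a ⊗ₜ[A,algebraMap A A'] (g.hom f)) =
        a ⊗ₜ[A] (g.hom f) := extendScalarsEquivTensor_tmul G a (g.hom f)
    have h3 : extendScalarsEquivTensor (S := A') F (a ⊗ₜ[A,algebraMap A A'] f) =
        a ⊗ₜ[A] f := extendScalarsEquivTensor_tmul F a f
    rw [h1]
    refine h2.trans ?_
    have h4 : (LinearMap.lTensor A' g.hom)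
        (extendScalarsEquivTensor (S := A') F (a ⊗ₜ[A,algebraMap A A'] f)) =
        (LinearMap.lTensor A' g.hom) (a ⊗ₜ[A] f) := congrArg _ h3
    exact (h4.trans (LinearMap.lTensor_tmul _ _ _ _)).symm

/-- `E` preserves the injectivity of `S.f` if `Tor_1^A(S.X₃, A') = 0`. -/
lemma mono_E_map (S : ShortComplex (ModuleCat.{u} A)) (hS : S.ShortExact)
    (h : IsZero (((Tor (ModuleCat.{u} A) 1).obj S.X₃).obj (ModuleCat.of A A'))) :
    Mono ((E A A').map S.f) := by
  rw [ModuleCat.mono_iff_injective]
  have hf : Function.Injective S.f.hom := (ModuleCat.mono_iff_injective S.f).mp hS.mono_f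
  have hg : Function.Surjective S.g.hom := (ModuleCat.epi_iff_surjective S.g).mp hS.epi_g
  have hex : Function.Exact S.f.hom S.g.hom :=
    (ShortComplex.ShortExact.moduleCat_exact_iff_function_exact S).mp hS.exact
  have hinj : Function.Injective (S.f.hom.rTensor A') :=
    rTensor_injective_of_torZero_one S.f.hom S.g.hom A' hf hex hg h
  have hinj' : Function.Injective (S.f.hom.lTensor A') := by
    have : S.f.hom.lTensor A' = (TensorProduct.comm A (S.X₂ : Type u) A').toLinearMap ∘ₗ
        S.f.hom.rTensor A' ∘ₗ (TensorProduct.comm A A' (S.X₁ : Type u)).toLinearMap := by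
      apply TensorProduct.ext'
      intro a x
      simp
    rw [this]
    exact (TensorProduct.comm A (S.X₂ : Type u) A').injective.comp
      (hinj.comp (TensorProduct.comm A A' (S.X₁ : Type u)).injective)
  intro x y hxy
  apply (extendScalarsEquivTensor (S := A') S.X₁).injective
  apply hinj'
  rw [← eET_natural, ← eET_natural, hxy]

lemma E_shortExact (S : ShortComplex (ModuleCat.{u} A)) (hS : S.ShortExact)
    (h : IsZero (((Tor (ModuleCat.{u} A) 1).obj S.X₃).obj (ModuleCat.of A A'))) :
    (S.map (E A A')).ShortExact := by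
  haveI := hS.epi_g
  haveI : Mono (S.map (E A A')).f := mono_E_map A A' S hS h
  haveI : Epi (S.map (E A A')).g := by
    change Epi ((E A A').map S.g)
    infer_instance
  exact { exact := hS.exact.map_of_epi_of_preservesCokernel (E A A') hS.epi_g inferInstance }


section theta

variable (Q' : Type u) [AddCommGroup Q'] [Module A' Q'] [Module A Q'] [IsScalarTower A A' Q']

/-- the comparison in degree `0`. -/
noncomputable def θ (X : ModuleCat.{u} A) :
    ((Tor (ModuleCat.{u} A) 0).obj X).obj (ModuleCat.of A Q') ≅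
      (ρ A A').obj (((Tor (ModuleCat.{u} A') 0).obj ((E A A').obj X)).obj (ModuleCat.of A' Q')) :=
  τ X (ModuleCat.of A Q') ≪≫ β_ X (ModuleCat.of A Q') ≪≫ (compIso A A' Q' X).symm ≪≫
    (ρ A A').mapIso (β_ (ModuleCat.of A' Q') ((E A A').obj X) ≪≫
      (τ ((E A A').obj X) (ModuleCat.of A' Q')).symm)

lemma θ_naturality {X X' : ModuleCat.{u} A} (g : X ⟶ X') :
    ((Tor (ModuleCat.{u} A) 0).map g).app (ModuleCat.of A Q') ≫ (θ A A' Q' X').hom =
      (θ A A' Q' X).hom ≫ (ρ A A').map
        (((Tor (ModuleCat.{u} A') 0).map ((E A A').map g)).app (ModuleCat.of A' Q')) := by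
  have h1 : ((Tor (ModuleCat.{u} A) 0).map g).app (ModuleCat.of A Q') ≫
      (τ X' (ModuleCat.of A Q')).hom = (τ X (ModuleCat.of A Q')).hom ≫ g ▷ (ModuleCat.of A Q') :=
    τ_naturality_left g _
  have h2 : g ▷ (ModuleCat.of A Q') ≫ (β_ X' (ModuleCat.of A Q')).hom =
      (β_ X (ModuleCat.of A Q')).hom ≫ (ModuleCat.of A Q') ◁ g :=
    BraidedCategory.braiding_naturality_left g _
  have h3 : (ModuleCat.of A Q') ◁ g ≫ (compIso A A' Q' X').inv =
      (compIso A A' Q' X).inv ≫ (ρ A A').map ((ModuleCat.of A' Q') ◁ (E A A').map g) := by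
    rw [Iso.comp_inv_eq, Category.assoc, Iso.eq_inv_comp]
    exact (compIso_naturality A A' Q' g).symm
  have h4 : (ModuleCat.of A' Q') ◁ (E A A').map g ≫
      (β_ (ModuleCat.of A' Q') ((E A A').obj X')).hom =
      (β_ (ModuleCat.of A' Q') ((E A A').obj X)).hom ≫ (E A A').map g ▷ (ModuleCat.of A' Q') :=
    BraidedCategory.braiding_naturality_right _ _
  have h5 : (E A A').map g ▷ (ModuleCat.of A' Q') ≫
      (τ ((E A A').obj X') (ModuleCat.of A' Q')).inv =
      (τ ((E A A').obj X) (ModuleCat.of A' Q')).inv ≫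
        ((Tor (ModuleCat.{u} A') 0).map ((E A A').map g)).app (ModuleCat.of A' Q') := by
    rw [Iso.comp_inv_eq, Category.assoc, Iso.eq_inv_comp]
    exact (τ_naturality_left ((E A A').map g) _).symm
  have h45 : (ρ A A').map ((ModuleCat.of A' Q') ◁ (E A A').map g) ≫
      (ρ A A').map ((β_ (ModuleCat.of A' Q') ((E A A').obj X')).hom ≫
        (τ ((E A A').obj X') (ModuleCat.of A' Q')).inv) =
      (ρ A A').map ((β_ (ModuleCat.of A' Q') ((E A A').obj X)).hom ≫
        (τ ((E A A').obj X) (ModuleCat.of A' Q')).inv) ≫ (ρ A A').map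
        (((Tor (ModuleCat.{u} A') 0).map ((E A A').map g)).app (ModuleCat.of A' Q')) := by
    rw [← CategoryTheory.Functor.map_comp, ← CategoryTheory.Functor.map_comp, reassoc_of% h4, h5,
      Category.assoc]
  change ((Tor (ModuleCat.{u} A) 0).map g).app (ModuleCat.of A Q') ≫
      ((τ X' (ModuleCat.of A Q')).hom ≫ (β_ X' (ModuleCat.of A Q')).hom ≫
        (compIso A A' Q' X').inv ≫ (ρ A A').map
          ((β_ (ModuleCat.of A' Q') ((E A A').obj X')).hom ≫
            (τ ((E A A').obj X') (ModuleCat.of A' Q')).inv)) =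
    ((τ X (ModuleCat.of A Q')).hom ≫ (β_ X (ModuleCat.of A Q')).hom ≫
        (compIso A A' Q' X).inv ≫ (ρ A A').map
          ((β_ (ModuleCat.of A' Q') ((E A A').obj X)).hom ≫
            (τ ((E A A').obj X) (ModuleCat.of A' Q')).inv)) ≫ _
  rw [reassoc_of% h1, reassoc_of% h2, reassoc_of% h3, h45]
  simp only [Category.assoc]

end theta


section main

variable (Q' : Type u) [AddCommGroup Q'] [Module A' Q'] [Module A Q'] [IsScalarTower A A' Q']

/-- the Tor-independence hypothesis. -/
def Hyp (X : ModuleCat.{u} A) : Prop :=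
  ∀ q : ℕ, IsZero (((Tor (ModuleCat.{u} A) (q + 1)).obj X).obj (ModuleCat.of A A'))

lemma hyp_pres (X : ModuleCat.{u} A) (h : Hyp A A' X) : Hyp A A' (pres X).X₁ := fun q =>
  isZero_tor_left (ModuleCat.of A A') (pres X) (pres_shortExact X) (q + 1) (h (q + 1))
    (isZero_tor_pres_mid X _ q)

lemma flat_E (G : ModuleCat.{u} A) [Module.Flat A G] : Module.Flat A' ((E A A').obj G) :=
  Module.Flat.of_linearEquiv (extendScalarsEquivTensor (S := A') G)

lemma flat_E_pres_mid (X : ModuleCat.{u} A) :
    Module.Flat A' ((E A A').obj (pres X).X₂) := by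
  haveI : Projective (pres X).X₂ := by
    change Projective (Projective.over X)
    infer_instance
  haveI : Module.Projective A (pres X).X₂ := (IsProjective.iff_projective _).mpr inferInstance
  exact flat_E A A' _

theorem main : ∀ (n : ℕ) (X : ModuleCat.{u} A), Hyp A A' X →
    Nonempty (((Tor (ModuleCat.{u} A) n).obj X).obj (ModuleCat.of A Q') ≅
      (ρ A A').obj (((Tor (ModuleCat.{u} A') n).obj ((E A A').obj X)).obj
        (ModuleCat.of A' Q'))) := by
  intro n
  induction n using Nat.strong_induction_on with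
  | _ n ih =>
    intro X hX
    have hS : (pres X).ShortExact := pres_shortExact X
    have hS' : ((pres X).map (E A A')).ShortExact := E_shortExact A A' (pres X) hS (hX 0)
    haveI : Module.Flat A' (((pres X).map (E A A')).X₂) := flat_E_pres_mid A A' X
    match n, ih with
    | 0, _ => exact ⟨θ A A' Q' X⟩
    | 1, _ =>
      have hinj' : Function.Injective
          (torδ ((pres X).map (E A A')) hS' 0 (ModuleCat.of A' Q')) :=
        (ModuleCat.mono_iff_injective _).mp (mono_torδ _ hS' 0 _
          (isZero_tor_succ_of_flat_left _ _ 0))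
      exact iso_of_kernels (torδ (pres X) hS 0 (ModuleCat.of A Q'))
        (((Tor (ModuleCat.{u} A) 0).map (pres X).f).app (ModuleCat.of A Q'))
        ((ρ A A').map (torδ ((pres X).map (E A A')) hS' 0 (ModuleCat.of A' Q')))
        ((ρ A A').map (((Tor (ModuleCat.{u} A') 0).map ((pres X).map (E A A')).f).app
          (ModuleCat.of A' Q')))
        ((ModuleCat.mono_iff_injective _).mp
          (mono_torδ (pres X) hS 0 _ (isZero_tor_pres_mid X _ 0)))
        (fun x y hxy => hinj' hxy)
        (fun t => congrArg (fun g => g.hom t) (torδ_comp (pres X) hS 0 _))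
        (fun t => congrArg (fun g => g.hom t)
          (torδ_comp ((pres X).map (E A A')) hS' 0 (ModuleCat.of A' Q')))
        (fun y hy => exists_torδ_eq (pres X) hS 0 _ y hy)
        (fun y hy => exists_torδ_eq ((pres X).map (E A A')) hS' 0 (ModuleCat.of A' Q') y hy)
        (θ A A' Q' (pres X).X₁) (θ A A' Q' (pres X).X₂) (θ_naturality A A' Q' (pres X).f)
    | (q + 2), ih =>
      obtain ⟨e⟩ := ih (q + 1) (by omega) (pres X).X₁ (hyp_pres A A' X hX)
      haveI i1 : IsIso (torδ (pres X) hS (q + 1) (ModuleCat.of A Q')) :=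
        isIso_torδ (pres X) hS (q + 1) (ModuleCat.of A Q')
          (isZero_tor_pres_mid X _ (q + 1)) (isZero_tor_pres_mid X _ q)
      haveI i2 : IsIso (torδ ((pres X).map (E A A')) hS' (q + 1) (ModuleCat.of A' Q')) :=
        isIso_torδ ((pres X).map (E A A')) hS' (q + 1) (ModuleCat.of A' Q')
          (isZero_tor_succ_of_flat_left _ _ (q + 1)) (isZero_tor_succ_of_flat_left _ _ q)
      have j1 := @asIso _ _ _ _ (torδ (pres X) hS (q + 1) (ModuleCat.of A Q')) i1
      have j2 := @asIso _ _ _ _ (torδ ((pres X).map (E A A')) hS' (q + 1)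
          (ModuleCat.of A' Q')) i2
      exact ⟨j1 ≪≫ e ≪≫ (ρ A A').mapIso j2.symm⟩

/-- S3537. -/
theorem exists_semilinear (P : Type u) [AddCommGroup P] [Module A P]
    (hP : ∀ q : ℕ, 0 < q → Subsingleton (DRing.Tor A q P A')) (n : ℕ) :
    ∃ φ : DRing.Tor A n P Q' →ₛₗ[algebraMap A A'] DRing.Tor A' n (A' ⊗[A] P) Q',
      Function.Bijective φ := by
  have hyp : Hyp A A' (ModuleCat.of A P) := fun q =>
    (torZero_iff_subsingleton (q + 1) P A').mpr (hP (q + 1) (Nat.succ_pos q))
  obtain ⟨eA⟩ := main A A' Q' n (ModuleCat.of A P) hyp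
  let iP : (E A A').obj (ModuleCat.of A P) ≅ ModuleCat.of A' (A' ⊗[A] P) :=
    (extendScalarsEquivTensor (S := A') (ModuleCat.of A P)).toModuleIso
  let eA' : ((Tor (ModuleCat.{u} A') n).obj ((E A A').obj (ModuleCat.of A P))).obj
      (ModuleCat.of A' Q') ≅
      ((Tor (ModuleCat.{u} A') n).obj (ModuleCat.of A' (A' ⊗[A] P))).obj (ModuleCat.of A' Q') :=
    ((Tor (ModuleCat.{u} A') n).mapIso iP).app (ModuleCat.of A' Q')
  refine ⟨{ toFun := fun x => eA'.hom (eA.hom x)
            map_add' := fun x y => by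
              have h1 : eA.hom (x + y) = eA.hom x + eA.hom y := map_add eA.hom.hom x y
              change eA'.hom (eA.hom (x + y)) = _
              rw [h1]
              exact map_add eA'.hom.hom _ _
            map_smul' := fun a x => ?_ }, ?_⟩
  · have h1 : eA.hom (a • x) = a • eA.hom x := map_smul eA.hom.hom a x
    change eA'.hom (eA.hom (a • x)) = (algebraMap A A' a) • eA'.hom (eA.hom x)
    rw [h1]
    exact map_smul eA'.hom.hom (algebraMap A A' a) _
  · constructor
    · intro x y hxy
      have h1 : eA.hom x = eA.hom y :=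
        (ModuleCat.mono_iff_injective eA'.hom).mp inferInstance hxy
      exact (ModuleCat.mono_iff_injective eA.hom).mp inferInstance h1
    · intro y
      obtain ⟨z, hz⟩ := (ModuleCat.epi_iff_surjective eA'.hom).mp inferInstance y
      obtain ⟨x, hx⟩ := (ModuleCat.epi_iff_surjective eA.hom).mp inferInstance z
      exact ⟨x, by change eA'.hom (eA.hom x) = y; rw [hx, hz]⟩

end main

end Groth.Agent.TorBC3
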