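import Mathlib
import Groth.Agent.Lib.TorLES_helper5
import Groth.Agent.Lib.RegFlat3_helper9

/-!
# Vanishing of `Tor` can be tested on residue fields of primes (helper5)

Over a Noetherian ring `R`: if `Tor_i(κ(p), Y) = 0` for all primes `p` and all `i > n` then
`Tor_i(X, Y) = 0` for all modules `X` and all `i > n`.
-/

set_option autoImplicit false
universe u

open CategoryTheory CategoryTheory.Limits MonoidalCategory TensorProduct

namespace Groth.Agent.TorPrimes

open Groth.Agent.TorLES

variable {R : Type u} [CommRing R]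

section basics

/-- transport along a linear equivalence in the first variable -/
theorem torZero_of_linearEquiv {X X' : Type u} [AddCommGroup X] [Module R X] [AddCommGroup X']
    [Module R X'] (e : X ≃ₗ[R] X') (Y : Type u) [AddCommGroup Y] [Module R Y] (n : ℕ)
    (h : TorZero R n X Y) : TorZero R n X' Y :=
  h.of_iso (((Tor (ModuleCat.{u} R) n).mapIso e.symm.toModuleIso).app (ModuleCat.of R Y))

theorem torZero_succ_of_subsingleton (X Y : Type u) [AddCommGroup X] [Module R X]
    [AddCommGroup Y] [Module R Y] [Subsingleton X] (n : ℕ) : TorZero R (n + 1) X Y :=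
  torZero_succ_of_flat_left Y X n

variable (X Y : Type u) [AddCommGroup X] [Module R X] [AddCommGroup Y] [Module R Y]

/-- `Tor_{n+1}(X,Y) = 0` iff `X ⊗ P_{n+2} → X ⊗ P_{n+1} → X ⊗ P_n` is exact. -/
theorem torZero_succ_iff_exact (n : ℕ) :
    TorZero R (n + 1) X Y ↔ Function.Exact
      (((ProjectiveResolution.of (ModuleCat.of R Y)).complex.d (n + 2) (n + 1)).hom.lTensor X)
      (((ProjectiveResolution.of (ModuleCat.of R Y)).complex.d (n + 1) n).hom.lTensor X) := by
  let P := ProjectiveResolution.of (ModuleCat.of R Y)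
  rw [TorZero, isZero_tor_iff _ _ P, ← HomologicalComplex.exactAt_iff_isZero_homology,
    HomologicalComplex.exactAt_iff' _ (n + 2) (n + 1) n (by simp) (by simp),
    ShortComplex.ShortExact.moduleCat_exact_iff_function_exact]
  change Function.Exact (ModuleCat.of R X ◁ P.complex.d (n + 2) (n + 1)).hom
    (ModuleCat.of R X ◁ P.complex.d (n + 1) n).hom ↔ _
  rw [ModuleCat.hom_whiskerLeft, ModuleCat.hom_whiskerLeft]

/-- union lemma: `Tor_{n+1}(X,Y) = 0` if this holds for all finitely generated submodules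
of `X`. -/
theorem torZero_succ_of_fg_submodules (n : ℕ)
    (h : ∀ X' : Submodule R X, X'.FG → TorZero R (n + 1) X' Y) : TorZero R (n + 1) X Y := by
  rw [torZero_succ_iff_exact]
  set P := ProjectiveResolution.of (ModuleCat.of R Y) with hP
  intro z
  constructor
  · intro hz
    obtain ⟨X', hfg, z', rfl⟩ := Submodule.exists_fg_le_eq_rTensor_subtype z
    have hX' := (torZero_succ_iff_exact X' Y n).mp (h X' hfg)
    rw [← hP] at hX'
    haveI : Module.Flat R (P.complex.X n) := flat_of_projRes _ P n
    have h1 : X'.subtype.rTensor (P.complex.X n) ((P.complex.d (n + 1) n).hom.lTensor X' z') = 0 := by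
      rw [Groth.Agent.Lib.LocalCrit2.sq]
      exact hz
    have h2 : (P.complex.d (n + 1) n).hom.lTensor X' z' = 0 :=
      Module.Flat.rTensor_preserves_injective_linearMap (M := P.complex.X n) X'.subtype
        (Submodule.injective_subtype _) (h1.trans (map_zero _).symm)
    obtain ⟨w', hw'⟩ := (hX' z').mp h2
    refine ⟨X'.subtype.rTensor (P.complex.X (n + 2)) w', ?_⟩
    rw [← Groth.Agent.Lib.LocalCrit2.sq, hw']
  · rintro ⟨w, rfl⟩
    rw [← LinearMap.comp_apply, ← LinearMap.lTensor_comp]
    have : (P.complex.d (n + 1) n).hom ∘ₗ (P.complex.d (n + 2) (n + 1)).hom = 0 := by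
      rw [← ModuleCat.hom_comp, P.complex.d_comp_d]
      rfl
    rw [this, LinearMap.lTensor_zero, LinearMap.zero_apply]

end basics

section cyclic

variable (Y : Type u) [AddCommGroup Y] [Module R Y]

/-- cyclic filtration: if `Tor_{n+1}(R/J', Y) = 0` for every ideal `J' ⊇ J₀` then
`Tor_{n+1}(X, Y) = 0` for every finitely generated `X` killed by `J₀`. -/
theorem torZero_of_span_of_cyclic (n : ℕ) (J₀ : Ideal R)
    (hcyc : ∀ J' : Ideal R, J₀ ≤ J' → TorZero R (n + 1) (R ⧸ J') Y) :
    ∀ (k : ℕ) (X : Type u) [AddCommGroup X] [Module R X] (v : Fin k → X),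
      Submodule.span R (Set.range v) = ⊤ → (∀ a ∈ J₀, ∀ x : X, a • x = 0) →
      TorZero R (n + 1) X Y := by
  intro k
  induction k with
  | zero =>
    intro X _ _ v hv _
    haveI : Subsingleton X := by
      rw [← Submodule.subsingleton_iff R, ← subsingleton_iff_bot_eq_top, ← hv]
      simp
    exact torZero_succ_of_subsingleton X Y n
  | succ k ih =>
    intro X _ _ v hv hkill
    set ψ : R →ₗ[R] X := LinearMap.toSpanSingleton R X (v 0) with hψ
    have h1 : TorZero R (n + 1) (LinearMap.range ψ) Y := by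
      refine torZero_of_linearEquiv (LinearMap.quotKerEquivRange ψ) Y (n + 1) (hcyc _ ?_)
      intro a ha
      rw [LinearMap.mem_ker, hψ, LinearMap.toSpanSingleton_apply]
      exact hkill a ha (v 0)
    have h3 : TorZero R (n + 1) (X ⧸ LinearMap.range ψ) Y := by
      refine ih (X ⧸ LinearMap.range ψ) (fun i => Submodule.Quotient.mk (v i.succ)) ?_ ?_
      · rw [eq_top_iff]
        rintro y -
        obtain ⟨x, rfl⟩ := Submodule.Quotient.mk_surjective _ y
        have hx : x ∈ Submodule.span R (Set.range v) := hv ▸ Submodule.mem_top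
        induction hx using Submodule.span_induction with
        | mem x hx =>
          obtain ⟨i, rfl⟩ := hx
          induction i using Fin.cases with
          | zero =>
            have : (Submodule.Quotient.mk (v 0) : X ⧸ LinearMap.range ψ) = 0 := by
              rw [Submodule.Quotient.mk_eq_zero]
              exact ⟨1, by rw [hψ, LinearMap.toSpanSingleton_apply, one_smul]⟩
            rw [this]
            exact Submodule.zero_mem _
          | succ i => exact Submodule.subset_span ⟨i, rfl⟩
        | zero => rw [Submodule.Quotient.mk_zero]; exact Submodule.zero_mem _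
        | add x y _ _ hx hy => rw [Submodule.Quotient.mk_add]; exact Submodule.add_mem _ hx hy
        | smul a x _ hx => rw [Submodule.Quotient.mk_smul]; exact Submodule.smul_mem _ a hx
      · intro a ha y
        obtain ⟨x, rfl⟩ := Submodule.Quotient.mk_surjective _ y
        rw [← Submodule.Quotient.mk_smul, hkill a ha x, Submodule.Quotient.mk_zero]
    have key := @torZero_mid R _ (↥(LinearMap.range ψ)) X (X ⧸ LinearMap.range ψ)
      _ _ _ _ _ _ (LinearMap.range ψ).subtype (LinearMap.range ψ).mkQ Y _ _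
    have k2 := key (Submodule.injective_subtype _) (LinearMap.exact_subtype_mkQ _)
      (Submodule.mkQ_surjective _) (n + 1)
    have k3 := k2 h1
    exact k3 h3

/-- finitely generated version -/
theorem torZero_of_finite_of_cyclic (n : ℕ) (J₀ : Ideal R)
    (hcyc : ∀ J' : Ideal R, J₀ ≤ J' → TorZero R (n + 1) (R ⧸ J') Y)
    (X : Type u) [AddCommGroup X] [Module R X] [Module.Finite R X]
    (hkill : ∀ a ∈ J₀, ∀ x : X, a • x = 0) : TorZero R (n + 1) X Y := by
  obtain ⟨k, v, hv⟩ := Module.Finite.exists_fin (R := R) (M := X)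
  exact torZero_of_span_of_cyclic Y n J₀ hcyc k X v hv hkill

end cyclic

section main

variable [IsNoetherianRing R] (Y : Type u) [AddCommGroup Y] [Module R Y]

open Groth.Agent.Lib.RegFlat3

/-- non-prime step: `ab ∈ J`, `a, b ∉ J`. -/
theorem torZero_quot_of_not_prime (i : ℕ) (J : Ideal R) (a b : R) (hab : a * b ∈ J)
    (ha : a ∉ J) (hb : b ∉ J)
    (IH : ∀ J' : Ideal R, J < J' → TorZero R i (R ⧸ J') Y) : TorZero R i (R ⧸ J) Y := by
  set ψ : R →ₗ[R] R ⧸ J := (LinearMap.lsmul R (R ⧸ J) a) ∘ₗ (Submodule.mkQ J) with hψ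
  have hψ_apply : ∀ c : R, ψ c = Ideal.Quotient.mk J (a * c) := by
    intro c
    rw [hψ, LinearMap.comp_apply, LinearMap.lsmul_apply, Submodule.mkQ_apply,
      ← Submodule.Quotient.mk_smul]
    rfl
  have hK : J < LinearMap.ker ψ := by
    refine lt_of_le_of_ne ?_ ?_
    · intro c hc
      rw [LinearMap.mem_ker, hψ_apply]
      exact Ideal.Quotient.eq_zero_iff_mem.mpr (Ideal.mul_mem_left _ _ hc)
    · intro h
      apply hb
      rw [h, LinearMap.mem_ker, hψ_apply]
      exact Ideal.Quotient.eq_zero_iff_mem.mpr hab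
  have h1 : TorZero R i (LinearMap.range ψ) Y :=
    torZero_of_linearEquiv (LinearMap.quotKerEquivRange ψ) Y i (IH _ hK)
  have hJa : J < J ⊔ Ideal.span {a} := by
    refine lt_of_le_of_ne le_sup_left ?_
    intro h
    apply ha
    rw [h]
    exact Ideal.mem_sup_right (Ideal.subset_span rfl)
  have h3 : TorZero R i (R ⧸ (J ⊔ Ideal.span {a})) Y := IH _ hJa
  have hrange : LinearMap.range ψ = LinearMap.range (LinearMap.lsmul R (R ⧸ J) a) := by
    rw [hψ, LinearMap.range_comp, Submodule.range_mkQ, Submodule.map_top]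
  have hex : Function.Exact (LinearMap.range ψ).subtype
      (Submodule.mapQ J (J ⊔ Ideal.span {a}) LinearMap.id (by
        rw [Submodule.comap_id]; exact le_sup_left)) := by
    intro y
    rw [exact_lsmul_mapQ J a y]
    have : Set.range (LinearMap.range ψ).subtype = (LinearMap.range ψ : Set (R ⧸ J)) := by
      ext z
      simp
    rw [this, hrange]
    rfl
  have hsurj : Function.Surjective (Submodule.mapQ J (J ⊔ Ideal.span {a}) LinearMap.id (by
      rw [Submodule.comap_id]; exact le_sup_left)) := by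
    intro y
    obtain ⟨c, rfl⟩ := Submodule.Quotient.mk_surjective _ y
    exact ⟨Submodule.Quotient.mk c, rfl⟩
  have key := @torZero_mid R _ (↥(LinearMap.range ψ)) (R ⧸ J) (R ⧸ (J ⊔ Ideal.span {a}))
    _ _ _ _ _ _ (LinearMap.range ψ).subtype (Submodule.mapQ J (J ⊔ Ideal.span {a}) LinearMap.id (by
      rw [Submodule.comap_id]; exact le_sup_left)) Y _ _
  have k2 := key (Submodule.injective_subtype _) hex hsurj i
  have k3 := k2 h1
  exact k3 h3

omit [IsNoetherianRing R] in
/-- every element of `κ(p)/(R/p)` is killed by some `s ∉ p`. -/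
theorem exists_smul_mem_range (p : Ideal R) [p.IsPrime] (z : p.ResidueField) :
    ∃ s : R, s ∉ p ∧ s • z ∈ LinearMap.range
      (IsScalarTower.toAlgHom R (R ⧸ p) p.ResidueField).toLinearMap := by
  obtain ⟨⟨x, y⟩, hxy⟩ := IsLocalization.surj (nonZeroDivisors (R ⧸ p)) z
  obtain ⟨s, hs⟩ := Ideal.Quotient.mk_surjective (y : R ⧸ p)
  refine ⟨s, ?_, x, ?_⟩
  · intro hsp
    have : (y : R ⧸ p) = 0 := by rw [← hs]; exact Ideal.Quotient.eq_zero_iff_mem.mpr hsp
    exact nonZeroDivisors.coe_ne_zero y this
  · rw [AlgHom.toLinearMap_apply, IsScalarTower.coe_toAlgHom', ← hxy, ← hs, Algebra.smul_def,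
      IsScalarTower.algebraMap_apply R (R ⧸ p) p.ResidueField, mul_comm]
    rfl

/-- prime step -/
theorem torZero_quot_of_prime (i : ℕ) (p : Ideal R) [p.IsPrime]
    (hκ : TorZero R i p.ResidueField Y)
    (IH : ∀ J' : Ideal R, p < J' → TorZero R (i + 1) (R ⧸ J') Y) : TorZero R i (R ⧸ p) Y := by
  classical
  set ι : (R ⧸ p) →ₗ[R] p.ResidueField :=
    (IsScalarTower.toAlgHom R (R ⧸ p) p.ResidueField).toLinearMap with hι
  have hιinj : Function.Injective ι := Ideal.injective_algebraMap_quotient_residueField p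
  -- `p` kills the quotient
  have hpkill : ∀ a ∈ p, ∀ y : p.ResidueField ⧸ LinearMap.range ι, a • y = 0 := by
    intro a ha y
    obtain ⟨z, rfl⟩ := Submodule.Quotient.mk_surjective _ y
    rw [← Submodule.Quotient.mk_smul, Algebra.smul_def,
      Ideal.algebraMap_residueField_eq_zero.mpr ha, zero_mul, Submodule.Quotient.mk_zero]
  have hex : ∀ y : p.ResidueField ⧸ LinearMap.range ι, ∃ s : R, s ∉ p ∧ s • y = 0 := by
    intro y
    obtain ⟨z, rfl⟩ := Submodule.Quotient.mk_surjective _ y
    obtain ⟨s, hs, hz⟩ := exists_smul_mem_range p z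
    exact ⟨s, hs, by rw [← Submodule.Quotient.mk_smul, Submodule.Quotient.mk_eq_zero]; exact hz⟩
  choose sfun hsfun using hex
  have hQ : TorZero R (i + 1) (p.ResidueField ⧸ LinearMap.range ι) Y := by
    apply torZero_succ_of_fg_submodules
    intro X' hfg
    haveI : Module.Finite R X' := Module.Finite.iff_fg.mpr hfg
    obtain ⟨S, hS⟩ := hfg
    set s : R := ∏ y ∈ S, sfun y with hs
    have hsp : s ∉ p := by
      rw [hs, Ideal.IsPrime.prod_mem_iff]
      rintro ⟨y, _, hy⟩
      exact (hsfun y).1 hy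
    have hskill : ∀ x ∈ X', s • x = 0 := by
      intro x hx
      rw [← hS] at hx
      induction hx using Submodule.span_induction with
      | mem y hy =>
        rw [hs, ← Finset.mul_prod_erase S sfun hy, mul_comm, mul_smul, (hsfun y).2, smul_zero]
      | zero => rw [smul_zero]
      | add x y _ _ hx hy => rw [smul_add, hx, hy, add_zero]
      | smul a x _ hx => rw [smul_comm, hx, smul_zero]
    have hlt : p < p ⊔ Ideal.span {s} := by
      refine lt_of_le_of_ne le_sup_left ?_
      intro h
      apply hsp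
      rw [h]
      exact Ideal.mem_sup_right (Ideal.subset_span rfl)
    refine torZero_of_finite_of_cyclic Y i (p ⊔ Ideal.span {s})
      (fun J' hJ' => IH J' (lt_of_lt_of_le hlt hJ')) X' ?_
    intro a ha x
    obtain ⟨a₁, ha₁, a₂, ha₂, rfl⟩ := Submodule.mem_sup.mp ha
    obtain ⟨r, rfl⟩ := Ideal.mem_span_singleton'.mp ha₂
    apply Subtype.ext
    rw [Submodule.coe_smul, Submodule.coe_zero, add_smul, hpkill a₁ ha₁, zero_add, mul_smul,
      hskill x x.2, smul_zero]
  have key := @torZero_left R _ (R ⧸ p) p.ResidueField (p.ResidueField ⧸ LinearMap.range ι)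
    _ _ _ _ _ _ ι (LinearMap.range ι).mkQ Y _ _
  have k2 := key hιinj (LinearMap.exact_map_mkQ_range ι) (Submodule.mkQ_surjective _) i
  have k3 := k2 hQ
  exact k3 hκ

/-- all cyclic modules -/
theorem torZero_quot_all (n : ℕ)
    (h : ∀ (p : Ideal R) [p.IsPrime] (i : ℕ), n < i → TorZero R i p.ResidueField Y) :
    ∀ (J : Ideal R) (i : ℕ), n < i → TorZero R i (R ⧸ J) Y := by
  intro J
  refine IsNoetherian.induction (P := fun J : Ideal R => ∀ i, n < i → TorZero R i (R ⧸ J) Y) ?_ J
  intro (J : Ideal R) IH i hi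
  by_cases htop : J = ⊤
  · subst htop
    obtain ⟨k, rfl⟩ : ∃ k, i = k + 1 := ⟨i - 1, by omega⟩
    haveI : Subsingleton (R ⧸ (⊤ : Ideal R)) := Ideal.Quotient.subsingleton_iff.mpr rfl
    exact torZero_succ_of_subsingleton _ Y k
  by_cases hp : Ideal.IsPrime J
  · haveI := hp
    exact torZero_quot_of_prime Y i J (h J i hi) (fun J' hJ' => IH J' hJ' (i + 1) (by omega))
  · rw [Ideal.isPrime_iff] at hp
    push_neg at hp
    obtain ⟨a, b, hab, ha, hb⟩ := hp htop
    exact torZero_quot_of_not_prime Y i J a b hab ha hb (fun J' hJ' => IH J' hJ' i hi)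

/-- **Main theorem**: `Tor_i(κ(p), Y) = 0` for all primes `p` and `i > n` implies
`Tor_i(X, Y) = 0` for all `X` and `i > n`. -/
theorem torZero_all (n : ℕ)
    (h : ∀ (p : Ideal R) [p.IsPrime] (i : ℕ), n < i → TorZero R i p.ResidueField Y)
    (X : Type u) [AddCommGroup X] [Module R X] (i : ℕ) (hi : n < i) : TorZero R i X Y := by
  obtain ⟨k, rfl⟩ : ∃ k, i = k + 1 := ⟨i - 1, by omega⟩
  apply torZero_succ_of_fg_submodules
  intro X' hfg
  haveI : Module.Finite R X' := Module.Finite.iff_fg.mpr hfg
  refine torZero_of_finite_of_cyclic Y k ⊥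
    (fun J' _ => torZero_quot_all Y n h J' (k + 1) hi) X' ?_
  intro a ha x
  rw [Ideal.mem_bot.mp ha, zero_smul]

end main

end Groth.Agent.TorPrimes
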