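import Groth.Agent.Lib.TorBal2_helper5
import Groth.Agent.Lib.TorPrimes_helper5

/-!
# `Tor_p(A/(x₁,…,x_p), M) ≅ Hom(A/(x₁,…,x_p), M)` for a weakly regular sequence (helper5)
-/

set_option autoImplicit false
set_option maxHeartbeats 400000
universe u
open CategoryTheory CategoryTheory.Limits MonoidalCategory TensorProduct RingTheory.Sequence
open scoped Pointwise

namespace Groth.Agent.TorKoszul

open Groth.Agent.TorLES Groth.Agent.TorNat Groth.Agent.TorAR Groth.Agent.HomologyColim
  Groth.Agent.TorBal Groth.Agent.TorPrimes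

variable {A : Type u} [CommRing A]

section smul

lemma cyclesMap_smul_id (L : ChainComplex (ModuleCat.{u} A) ℕ) (r : A) (n : ℕ)
    (φ : L ⟶ L) (hφ : ∀ (i : ℕ) (x : L.X i), φ.f i x = r • x) (z : L.cycles n) :
    HomologicalComplex.cyclesMap φ n z = r • z := by
  apply iCycles_injective L n
  rw [iCycles_cyclesMap, hφ, map_smul]

lemma homologyMap_smul_id (L : ChainComplex (ModuleCat.{u} A) ℕ) (r : A) (n : ℕ)
    (φ : L ⟶ L) (hφ : ∀ (i : ℕ) (x : L.X i), φ.f i x = r • x) (h : L.homology n) :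
    HomologicalComplex.homologyMap φ n h = r • h := by
  obtain ⟨z, rfl⟩ := exists_homologyπ_eq L n h
  rw [homologyMap_homologyπ, cyclesMap_smul_id L r n φ hφ, map_smul]

lemma whiskerRight_lsmul_apply (X P : ModuleCat.{u} A) (r : A)
    (x : (X ⊗ P : ModuleCat.{u} A)) :
    (ModuleCat.ofHom (LinearMap.lsmul A X r) ▷ P) x = r • x := by
  have h : (ModuleCat.ofHom (LinearMap.lsmul A X r) ▷ P).hom =
      LinearMap.lsmul A (X ⊗[A] P) r := by
    rw [ModuleCat.hom_whiskerRight]
    apply TensorProduct.ext'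
    intro a b
    simp [TensorProduct.smul_tmul']
  exact congrArg (fun f => f x) h

/-- the first-variable functoriality of `Tor` applied to a homothety is the homothety. -/
theorem tor_map_smul (X Y : ModuleCat.{u} A) (r : A) (n : ℕ)
    (t : ((Tor (ModuleCat.{u} A) n).obj X).obj Y) :
    ((Tor (ModuleCat.{u} A) n).map (ModuleCat.ofHom (LinearMap.lsmul A X r))).app Y t = r • t := by
  rw [tor_map_app_eq]
  change (torIsoH X Y n).inv (HomologicalComplex.homologyMap
    (cxMap (ModuleCat.ofHom (LinearMap.lsmul A X r)) (ProjectiveResolution.of Y).complex) n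
      ((torIsoH X Y n).hom t)) = r • t
  rw [homologyMap_smul_id _ r n _ (fun i x => ?_), map_smul]
  · congr 1
    rw [← ConcreteCategory.comp_apply, Iso.hom_inv_id, ConcreteCategory.id_apply]
  · exact whiskerRight_lsmul_apply X _ r x

end smul


section generic

variable {U H : Type u} [AddCommGroup U] [Module A U] [AddCommGroup H] [Module A H]

/-- a linear equivalence restricts to the `r`-torsion. -/
noncomputable def kerSmulCongr (E : U ≃ₗ[A] H) (r : A) :
    LinearMap.ker (LinearMap.lsmul A U r) ≃ₗ[A] LinearMap.ker (LinearMap.lsmul A H r) :=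
  LinearEquiv.ofSubmodules E _ _ (by
    ext h
    constructor
    · rintro ⟨u, hu, rfl⟩
      change r • E u = 0
      rw [← map_smul]
      have : r • u = 0 := hu
      rw [this, map_zero]
    · intro hh
      refine ⟨E.symm h, ?_, E.apply_symm_apply h⟩
      change r • E.symm h = 0
      rw [← map_smul]
      have : r • h = 0 := hh
      rw [this, map_zero])

variable (Q M : Type u) [AddCommGroup Q] [Module A Q] [AddCommGroup M] [Module A M]

/-- `Hom(Q/rQ, M)` is the `r`-torsion of `Hom(Q, M)`. -/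
noncomputable def homQuotEquiv (r : A) :
    (QuotSMulTop r Q →ₗ[A] M) ≃ₗ[A] LinearMap.ker (LinearMap.lsmul A (Q →ₗ[A] M) r) := by
  let f : (QuotSMulTop r Q →ₗ[A] M) →ₗ[A] (Q →ₗ[A] M) :=
    LinearMap.lcomp A M (Submodule.mkQ (r • ⊤ : Submodule A Q))
  have hf : ∀ ψ, f ψ ∈ LinearMap.ker (LinearMap.lsmul A (Q →ₗ[A] M) r) := by
    intro ψ
    change r • f ψ = 0
    ext q
    change r • ψ (Submodule.mkQ (r • ⊤ : Submodule A Q) q) = 0
    rw [← map_smul, ← map_smul, Submodule.mkQ_apply, (Submodule.Quotient.mk_eq_zero _).mpr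
      (Submodule.smul_mem_pointwise_smul q r ⊤ Submodule.mem_top), map_zero]
  refine LinearEquiv.ofBijective (f.codRestrict _ hf) ⟨?_, ?_⟩
  · intro ψ ψ' h
    have h1 : f ψ = f ψ' := congrArg Subtype.val h
    ext q
    exact congrArg (fun g => g q) h1
  · rintro ⟨φ, hφ⟩
    have hφ' : r • φ = 0 := hφ
    have hle : (r • ⊤ : Submodule A Q) ≤ LinearMap.ker φ := by
      intro q hq
      obtain ⟨q', -, rfl⟩ := (Submodule.mem_smul_pointwise_iff_exists _ _ _).mp hq
      change φ (r • q') = 0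
      rw [map_smul]
      exact congrArg (fun g => g q') hφ'
    refine ⟨Submodule.liftQ _ φ hle, Subtype.ext ?_⟩
    ext q
    rfl

end generic

section main

variable (M : Type u) [AddCommGroup M] [Module A M]

variable (A) in
/-- the inductive property: `Tor_n(Q, M) = 0` for `n > c` and `Tor_c(Q, M) ≅ Hom(Q, M)`. -/
def Good (c : ℕ) (Q : Type u) [AddCommGroup Q] [Module A Q] : Prop :=
  (∀ n, c < n → TorZero A n Q M) ∧
    Nonempty ((((Tor (ModuleCat.{u} A) c).obj (ModuleCat.of A Q)).obj (ModuleCat.of A M)) ≃ₗ[A]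
      (Q →ₗ[A] M))

variable {M}

lemma Good.of_linearEquiv {c : ℕ} {Q Q' : Type u} [AddCommGroup Q] [Module A Q]
    [AddCommGroup Q'] [Module A Q'] (e : Q ≃ₗ[A] Q') (h : Good A M c Q) : Good A M c Q' :=
  ⟨fun n hn => torZero_of_linearEquiv e M n (h.1 n hn),
    h.2.map fun E =>
      (((Tor (ModuleCat.{u} A) c).mapIso e.toModuleIso).app
        (ModuleCat.of A M)).toLinearEquiv.symm ≪≫ₗ E ≪≫ₗ (LinearEquiv.congrLeft M A e)⟩

lemma exact_lsmul_mkQ (Q : Type u) [AddCommGroup Q] [Module A Q] (r : A) :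
    Function.Exact (LinearMap.lsmul A Q r) (Submodule.mkQ (r • ⊤ : Submodule A Q)) := by
  intro q
  rw [Submodule.mkQ_apply, Submodule.Quotient.mk_eq_zero,
    Submodule.mem_smul_pointwise_iff_exists]
  constructor
  · rintro ⟨q', -, rfl⟩
    exact ⟨q', rfl⟩
  · rintro ⟨q', rfl⟩
    exact ⟨q', Submodule.mem_top, rfl⟩

lemma Good.step {c : ℕ} {Q : Type u} [AddCommGroup Q] [Module A Q] (h : Good A M c Q) (r : A)
    (hr : IsSMulRegular Q r) : Good A M (c + 1) (QuotSMulTop r Q) := by
  obtain ⟨hv, ⟨E⟩⟩ := h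
  have hinj : Function.Injective (LinearMap.lsmul A Q r) := hr
  have hex := exact_lsmul_mkQ Q r
  have hsurj : Function.Surjective (Submodule.mkQ (r • ⊤ : Submodule A Q)) :=
    Submodule.mkQ_surjective _
  refine ⟨fun n hn => ?_, ?_⟩
  · obtain ⟨m, rfl⟩ : ∃ m, n = m + 1 := ⟨n - 1, by omega⟩
    exact torZero_succ_right (LinearMap.lsmul A Q r) (Submodule.mkQ _) M hinj hex hsurj m
      (hv (m + 1) (by omega)) (hv m (by omega))
  · have hS := mk_shortExact (LinearMap.lsmul A Q r) (Submodule.mkQ (r • ⊤ : Submodule A Q))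
      hinj hex hsurj
    set S := ShortComplex.moduleCatMk (LinearMap.lsmul A Q r)
      (Submodule.mkQ (r • ⊤ : Submodule A Q)) hex.linearMap_comp_eq_zero with hSdef
    let δ := torδ S hS c (ModuleCat.of A M)
    have hδinj : Function.Injective δ :=
      (ModuleCat.mono_iff_injective _).mp (mono_torδ S hS c _ (hv (c + 1) (by omega)))
    have hmap : ∀ u : ((Tor (ModuleCat.{u} A) c).obj (ModuleCat.of A Q)).obj (ModuleCat.of A M),
        ((Tor (ModuleCat.{u} A) c).map S.f).app (ModuleCat.of A M) u = r • u :=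
      fun u => tor_map_smul (ModuleCat.of A Q) (ModuleCat.of A M) r c u
    have hδr : ∀ t, r • δ t = 0 := fun t => by
      have h1 := hmap (δ t)
      have h2 : ((Tor (ModuleCat.{u} A) c).map S.f).app (ModuleCat.of A M) (δ t) = 0 :=
        congrArg (fun g => g.hom t) (torδ_comp S hS c (ModuleCat.of A M))
      exact h1.symm.trans h2
    have hδex : ∀ u : ((Tor (ModuleCat.{u} A) c).obj (ModuleCat.of A Q)).obj (ModuleCat.of A M),
        r • u = 0 → ∃ t, δ t = u := fun u hu =>
      exists_torδ_eq S hS c (ModuleCat.of A M) u ((hmap u).trans hu)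
    let E1 : (((Tor (ModuleCat.{u} A) (c + 1)).obj (ModuleCat.of A (QuotSMulTop r Q))).obj
        (ModuleCat.of A M)) ≃ₗ[A] LinearMap.ker (LinearMap.lsmul A
          (((Tor (ModuleCat.{u} A) c).obj (ModuleCat.of A Q)).obj (ModuleCat.of A M)) r) :=
      LinearEquiv.ofBijective (δ.hom.codRestrict _ (fun t => hδr t))
        ⟨fun x y hxy => hδinj (congrArg Subtype.val hxy), fun ⟨u, hu⟩ => by
          obtain ⟨t, ht⟩ := hδex u hu
          exact ⟨t, Subtype.ext ht⟩⟩
    exact ⟨E1 ≪≫ₗ kerSmulCongr E r ≪≫ₗ (homQuotEquiv Q M r).symm⟩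

/-- the main induction. -/
theorem Good.of_isWeaklyRegular (fs : List A) : ∀ (c : ℕ) (Q : Type u) [AddCommGroup Q]
    [Module A Q], Good A M c Q → IsWeaklyRegular Q fs →
      Good A M (c + fs.length) (Q ⧸ (Ideal.ofList fs • ⊤ : Submodule A Q)) := by
  induction fs with
  | nil =>
    intro c Q _ _ h _
    exact h.of_linearEquiv (Submodule.quotEquivOfEqBot _ (by
      rw [Ideal.ofList_nil, Submodule.bot_smul])).symm
  | cons r rs ih =>
    intro c Q _ _ h hreg
    rw [isWeaklyRegular_cons_iff] at hreg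
    have h1 := ih (c + 1) (QuotSMulTop r Q) (h.step r hreg.1) hreg.2
    have h2 := h1.of_linearEquiv
      (Submodule.quotOfListConsSMulTopEquivQuotSMulTopInner Q r rs).symm
    have e : c + (r :: rs).length = c + 1 + rs.length := by
      rw [List.length_cons]; omega
    rw [e]
    exact h2

/-- the base case `Q = A`, `c = 0`. -/
lemma good_self : Good A M 0 A := by
  refine ⟨fun n hn => ?_, ⟨?_⟩⟩
  · obtain ⟨m, rfl⟩ : ∃ m, n = m + 1 := ⟨n - 1, by omega⟩
    exact torZero_succ_of_flat_left M A m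
  · exact (torZeroEquiv M A) ≪≫ₗ (TensorProduct.lid A M) ≪≫ₗ
      (LinearMap.ringLmapEquivSelf A A M).symm

variable (M) in
/-- `Tor_p(A/(xs), M) ≅ Hom(A/(xs), M)` for a weakly regular sequence `xs` of length `p`. -/
theorem tor_quot_equiv_hom (xs : List A) (hreg : IsWeaklyRegular A xs) :
    Nonempty ((((Tor (ModuleCat.{u} A) xs.length).obj
      (ModuleCat.of A (A ⧸ Ideal.ofList xs))).obj (ModuleCat.of A M)) ≃ₗ[A]
        ((A ⧸ Ideal.ofList xs) →ₗ[A] M)) := by
  have h := (good_self (A := A) (M := M)).of_isWeaklyRegular xs 0 A hreg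
  have e : (A ⧸ (Ideal.ofList xs • ⊤ : Submodule A A)) ≃ₗ[A] (A ⧸ Ideal.ofList xs) :=
    Submodule.quotEquivOfEq _ _ (by rw [smul_eq_mul, Ideal.mul_top])
  have h2 := h.of_linearEquiv e
  rw [zero_add] at h2
  exact h2.2

variable (M) in
/-- S5673. -/
theorem tor'_quot_equiv_hom (xs : List A) (hreg : IsWeaklyRegular A xs) :
    Nonempty ((((Tor' (ModuleCat.{u} A) xs.length).obj
      (ModuleCat.of A (A ⧸ Ideal.ofList xs))).obj (ModuleCat.of A M)) ≃ₗ[A]
        ((A ⧸ Ideal.ofList xs) →ₗ[A] M)) := by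
  obtain ⟨E⟩ := tor_quot_equiv_hom M xs hreg
  exact ⟨(torIsoTor' (ModuleCat.of A (A ⧸ Ideal.ofList xs)) (ModuleCat.of A M)
    xs.length).toLinearEquiv.symm ≪≫ₗ E⟩

end main

end Groth.Agent.TorKoszul
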