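import Groth.Agent.Lib.GlDim3_helper5
import Groth.Agent.Lib.TorBC3_helper5
import Groth.Agent.Lib.TorKoszul_helper5
import Groth.Agent.Lib.RegFlat3_helper9

/-!
# Serre's homological characterisation of regular local rings (helper5)

* `regular_of_pd`: a Noetherian local ring whose residue field has finite projective dimension is
  regular;
* `localization_regular`: localizations of regular local rings at primes are regular;
* `regular_of_flat_local`: regularity descends along flat local homomorphisms;
* `finrank_cotangentSpace_lt`: `pd k ≥ embdim`.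

The proof of `regular_of_pd` is by induction on the dimension: if `m ≠ 0` then `pd k < ∞` forces
`depth R > 0` (a `Tor` argument), prime avoidance gives a nonzerodivisor `x ∈ m \ m²`, and `k` is a
direct summand of `m/xm` over `R/x`, whence `pd_{R/x} k < ∞` by base change for `Tor`.
-/

set_option autoImplicit false
set_option maxHeartbeats 400000
universe u
open CategoryTheory CategoryTheory.Limits Abelian IsLocalRing TensorProduct RingTheory.Sequence

namespace Groth.Agent.Serre

open Groth.Agent.TorLES Groth.Agent.TorBal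

/-- `Tor` of a retract vanishes when `Tor` of the ambient object does. -/
lemma isZero_tor_of_retract {A : Type u} [CommRing A] {X X' : ModuleCat.{u} A} (i : X ⟶ X')
    (r : X' ⟶ X) (hir : i ≫ r = 𝟙 X) (Y : ModuleCat.{u} A) (n : ℕ)
    (h : IsZero (((Tor (ModuleCat.{u} A) n).obj X').obj Y)) :
    IsZero (((Tor (ModuleCat.{u} A) n).obj X).obj Y) := by
  rw [IsZero.iff_id_eq_zero]
  have h1 : 𝟙 (((Tor (ModuleCat.{u} A) n).obj X).obj Y) =
      ((Tor (ModuleCat.{u} A) n).map i).app Y ≫ ((Tor (ModuleCat.{u} A) n).map r).app Y := by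
    rw [← NatTrans.comp_app, ← CategoryTheory.Functor.map_comp, hir,
      CategoryTheory.Functor.map_id]
    rfl
  rw [h1, h.eq_of_tgt (((Tor (ModuleCat.{u} A) n).map i).app Y) 0, zero_comp]

section local_ring

variable (R : Type u) [CommRing R] [IsLocalRing R] [IsNoetherianRing R]

lemma maximalIdeal_eq_bot_of_le_sq (h : maximalIdeal R ≤ maximalIdeal R ^ 2) :
    maximalIdeal R = ⊥ := by
  apply Submodule.eq_bot_of_le_smul_of_le_jacobson_bot (maximalIdeal R) (maximalIdeal R)
    (IsNoetherian.noetherian _) _ (maximalIdeal_le_jacobson ⊥)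
  rw [Ideal.smul_eq_mul, ← pow_two]
  exact h

/-- Lemma A: if `pd k < ∞` and `m ≠ 0` then no nonzero element is killed by `m`. -/
theorem eq_zero_of_maximalIdeal_mul (hm : maximalIdeal R ≠ ⊥) (s : ℕ)
    (hk : HasProjectiveDimensionLT (ModuleCat.of R (ResidueField R)) (s + 1)) (a : R)
    (ha : ∀ y ∈ maximalIdeal R, y * a = 0) : a = 0 := by
  classical
  have hex : ∃ s, HasProjectiveDimensionLT (ModuleCat.of R (ResidueField R)) (s + 1) := ⟨s, hk⟩
  have hspec := Nat.find_spec hex
  have hmin : ∀ t, t < Nat.find hex →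
      ¬ HasProjectiveDimensionLT (ModuleCat.of R (ResidueField R)) (t + 1) :=
    fun t ht => Nat.find_min hex ht
  generalize Nat.find hex = s₀ at hspec hmin
  cases s₀ with
  | zero =>
    exfalso
    haveI := hspec
    have h1 : TorZero R 1 (ResidueField R) (ResidueField R) :=
      Groth.Agent.TorShift2.isZero_tor_of_projDim (ModuleCat.of R (ResidueField R)) 0
        (ModuleCat.of R (ResidueField R)) 1 Nat.zero_lt_one
    have h2 : maximalIdeal R ⊓ maximalIdeal R ≤ maximalIdeal R * maximalIdeal R :=
      Groth.Agent.TorReg.inf_le_mul_of_torZero_one (maximalIdeal R) (maximalIdeal R) h1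
    apply hm
    apply maximalIdeal_eq_bot_of_le_sq
    rw [pow_two]
    exact (le_of_eq (inf_idem _).symm).trans h2
  | succ t =>
    by_contra hane
    let f : R →ₗ[R] R := LinearMap.toSpanSingleton R R a
    have hle : maximalIdeal R ≤ LinearMap.ker f := by
      intro y hy
      rw [LinearMap.mem_ker, LinearMap.toSpanSingleton_apply, smul_eq_mul]
      exact ha y hy
    have hne : LinearMap.ker f ≠ ⊤ := by
      intro h
      have h1 : (1 : R) ∈ LinearMap.ker f := h ▸ Submodule.mem_top
      rw [LinearMap.mem_ker, LinearMap.toSpanSingleton_apply, one_smul] at h1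
      exact hane h1
    have heq : maximalIdeal R = LinearMap.ker f :=
      (maximalIdeal.isMaximal R).eq_of_le hne hle
    let ι : (R ⧸ maximalIdeal R) →ₗ[R] R := Submodule.liftQ (maximalIdeal R) f hle
    have hinj : Function.Injective ι :=
      LinearMap.ker_eq_bot.mp (Submodule.ker_liftQ_eq_bot' _ f heq)
    let π : R →ₗ[R] (R ⧸ LinearMap.range ι) := (LinearMap.range ι).mkQ
    have hex' : Function.Exact ι π := LinearMap.exact_map_mkQ_range ι
    have hp : Function.Surjective π := Submodule.mkQ_surjective _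
    have h3 : TorZero R (t + 1 + 1) (R ⧸ LinearMap.range ι) (ResidueField R) := by
      haveI := hspec
      exact Groth.Agent.TorShift2.isZero_tor_of_projDim
        (ModuleCat.of R (R ⧸ LinearMap.range ι)) (t + 1) (ModuleCat.of R (ResidueField R))
        (t + 1 + 1) (Nat.lt_succ_self _)
    have h2 : TorZero R (t + 1) R (ResidueField R) := by
      haveI : Module.Flat R (ModuleCat.of R R) := inferInstanceAs (Module.Flat R R)
      exact isZero_tor_succ_of_flat_left (ModuleCat.of R R) (ModuleCat.of R (ResidueField R)) t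
    have concl : TorZero R (t + 1) (R ⧸ maximalIdeal R) (ResidueField R) :=
      torZero_left ι π (ResidueField R) hinj hex' hp (t + 1) h3 h2
    exact hmin t (Nat.lt_succ_self t)
      (Groth.Agent.TorPd.pd_of_tor R t (ResidueField R) concl)

/-- Lemma B: prime avoidance. -/
theorem exists_regular_not_mem_sq (hm : maximalIdeal R ≠ ⊥)
    (hdepth : ∀ a : R, (∀ y ∈ maximalIdeal R, y * a = 0) → a = 0) :
    ∃ x ∈ maximalIdeal R, x ∉ maximalIdeal R ^ 2 ∧ x ∈ nonZeroDivisors R := by
  classical
  by_contra hcon
  push Not at hcon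
  have hfin := associatedPrimes.finite R R
  let s : Finset (Ideal R) := insert (maximalIdeal R ^ 2) hfin.toFinset
  have hsub : ((maximalIdeal R : Ideal R) : Set R) ⊆
      ⋃ i ∈ (s : Set (Ideal R)), ((fun i : Ideal R => i) i : Set R) := by
    intro x hx
    by_cases h2 : x ∈ maximalIdeal R ^ 2
    · exact Set.mem_biUnion (show maximalIdeal R ^ 2 ∈ (s : Set (Ideal R)) by simp [s]) h2
    · have hnz : x ∈ (nonZeroDivisors R : Set R)ᶜ := hcon x hx h2
      rw [← biUnion_associatedPrimes_eq_compl_nonZeroDivisors] at hnz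
      obtain ⟨p, hp, hxp⟩ := Set.mem_iUnion₂.mp hnz
      exact Set.mem_biUnion (show p ∈ (s : Set (Ideal R)) by simp [s, hp]) hxp
  have hprime : ∀ i ∈ s, i ≠ maximalIdeal R ^ 2 → i ≠ maximalIdeal R ^ 2 → i.IsPrime := by
    intro i hi hne _
    rcases Finset.mem_insert.mp hi with h | h
    · exact absurd h hne
    · exact (hfin.mem_toFinset.mp h).isPrime
  obtain ⟨i, hi, hmi⟩ := (Ideal.subset_union_prime (s := s) (f := fun i : Ideal R => i)
    (maximalIdeal R ^ 2) (maximalIdeal R ^ 2) hprime).mp hsub
  rcases Finset.mem_insert.mp hi with h | h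
  · rw [h] at hmi
    exact hm (maximalIdeal_eq_bot_of_le_sq R hmi)
  · have hass : IsAssociatedPrime i R := hfin.mem_toFinset.mp h
    obtain ⟨hip, a, ha⟩ := isAssociatedPrime_iff.mp hass
    have hmi' : maximalIdeal R = i := (maximalIdeal.isMaximal R).eq_of_le hip.ne_top hmi
    have ha0 : a = 0 := hdepth a (fun y hy => by
      have h1 : y ∈ Submodule.colon (⊥ : Submodule R R) {a} := by
        rw [← ha, ← hmi']; exact hy
      rw [Submodule.mem_colon_singleton, Submodule.mem_bot, smul_eq_mul] at h1
      exact h1)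
    have h1 : (1 : R) ∈ i := by
      rw [ha, Submodule.mem_colon_singleton, ha0, smul_zero]
      exact Submodule.zero_mem _
    exact hip.ne_top ((Ideal.eq_top_iff_one _).mpr h1)

/-- `Tor_{n+1}(m, Y) = 0` for `n ≥ pd k`. -/
theorem torZero_maximalIdeal (s : ℕ)
    (hk : HasProjectiveDimensionLT (ModuleCat.of R (ResidueField R)) (s + 1))
    (Y : Type u) [AddCommGroup Y] [Module R Y] (n : ℕ) (hn : s ≤ n) :
    TorZero R (n + 1) (maximalIdeal R) Y := by
  have h3 : TorZero R (n + 1 + 1) (ResidueField R) Y := by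
    refine (torZero_symm (n + 1 + 1) Y (ResidueField R)).mp ?_
    haveI := hk
    exact Groth.Agent.TorShift2.isZero_tor_of_projDim (ModuleCat.of R Y) s
      (ModuleCat.of R (ResidueField R)) (n + 1 + 1) (by omega)
  have h2 : TorZero R (n + 1) R Y := by
    haveI : Module.Flat R (ModuleCat.of R R) := inferInstanceAs (Module.Flat R R)
    exact isZero_tor_succ_of_flat_left (ModuleCat.of R R) (ModuleCat.of R Y) n
  exact torZero_left (maximalIdeal R).subtype (Submodule.mkQ (maximalIdeal R)) Y
    (Submodule.injective_subtype _) (LinearMap.exact_subtype_mkQ _)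
    (Submodule.mkQ_surjective _) (n + 1) h3 h2

variable (x : R)

/-- `Tor_q(m, R/x) = 0` for `q > 0` when `x` is a nonzerodivisor. -/
theorem tor_maximalIdeal_quot (hreg : IsSMulRegular R x) (q : ℕ) (hq : 0 < q) :
    Subsingleton (DRing.Tor R q (maximalIdeal R) (R ⧸ Ideal.span {x})) := by
  obtain ⟨q', rfl⟩ : ∃ q', q = q' + 1 := ⟨q - 1, by omega⟩
  have hA : IsWeaklyRegular R [x] :=
    (isWeaklyRegular_cons_iff R x []).mpr ⟨hreg, IsWeaklyRegular.nil R _⟩
  have hY : IsWeaklyRegular (maximalIdeal R) [x] :=
    (isWeaklyRegular_cons_iff (maximalIdeal R) x []).mpr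
      ⟨IsSMulRegular.submodule (maximalIdeal R) x hreg, IsWeaklyRegular.nil R _⟩
  have h1 := Groth.Agent.TorReg.torZero_quot_of_isWeaklyRegular (maximalIdeal R) [x] hA hY q'
  rw [Ideal.ofList_singleton] at h1
  exact (torZero_iff_subsingleton _ _ _).mp
    ((torZero_symm (q' + 1) (R ⧸ Ideal.span {x}) (maximalIdeal R)).mp h1)

/-- the module `m/xm`. -/
abbrev Qm : Type u :=
  (maximalIdeal R) ⧸ (Ideal.span {x} • (⊤ : Submodule R (maximalIdeal R)))

variable [IsLocalRing (R ⧸ Ideal.span {x})]

/-- the residue field of `R/x` is a direct summand of `m/xm` when `x ∈ m \ m²`. -/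
theorem exists_retract (hx : x ∈ maximalIdeal R) (hx2 : x ∉ maximalIdeal R ^ 2) :
    ∃ (i : ResidueField (R ⧸ Ideal.span {x}) →ₗ[R ⧸ Ideal.span {x}] Qm R x)
      (r : Qm R x →ₗ[R ⧸ Ideal.span {x}] ResidueField (R ⧸ Ideal.span {x})),
      r ∘ₗ i = LinearMap.id := by
  haveI : IsLocalHom (algebraMap R (R ⧸ Ideal.span {x})) :=
    IsLocalHom.of_surjective _ Ideal.Quotient.mk_surjective
  let xb : maximalIdeal R := ⟨x, hx⟩
  let q : Qm R x := Submodule.Quotient.mk xb
  have hq : ∀ y ∈ maximalIdeal R, (Ideal.Quotient.mk (Ideal.span {x}) y) • q = 0 := by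
    intro y hy
    change (Submodule.Quotient.mk (y • xb) : Qm R x) = 0
    rw [Submodule.Quotient.mk_eq_zero]
    have h1 : y • xb = x • (⟨y, hy⟩ : maximalIdeal R) := Subtype.ext (by
      change y * x = x * y
      exact mul_comm y x)
    rw [h1]
    exact Submodule.smul_mem_smul (Ideal.mem_span_singleton_self x) Submodule.mem_top
  let i₀ : (R ⧸ Ideal.span {x}) →ₗ[R ⧸ Ideal.span {x}] Qm R x :=
    LinearMap.toSpanSingleton (R ⧸ Ideal.span {x}) (Qm R x) q
  have hi₀ : maximalIdeal (R ⧸ Ideal.span {x}) ≤ LinearMap.ker i₀ := by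
    intro y' hy'
    obtain ⟨y, rfl⟩ := Ideal.Quotient.mk_surjective y'
    have hy : y ∈ maximalIdeal R := by
      by_contra hne
      have hu : IsUnit y := by
        rwa [mem_maximalIdeal, mem_nonunits_iff, not_not] at hne
      exact (mem_maximalIdeal _).mp hy' (hu.map (Ideal.Quotient.mk (Ideal.span {x})))
    rw [LinearMap.mem_ker, LinearMap.toSpanSingleton_apply]
    exact hq y hy
  let i : ResidueField (R ⧸ Ideal.span {x}) →ₗ[R ⧸ Ideal.span {x}] Qm R x :=
    Submodule.liftQ (maximalIdeal (R ⧸ Ideal.span {x})) i₀ hi₀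
  let v : CotangentSpace R := (maximalIdeal R).toCotangent xb
  have hv : v ≠ 0 := by
    intro h
    exact hx2 ((Ideal.toCotangent_eq_zero _ xb).mp h)
  obtain ⟨φ, hφ⟩ : ∃ φ : CotangentSpace R →ₗ[ResidueField R] ResidueField R, φ v = 1 := by
    obtain ⟨ψ, hψ⟩ := Module.Projective.exists_dual_ne_zero (ResidueField R) hv
    refine ⟨(ψ v)⁻¹ • ψ, ?_⟩
    rw [LinearMap.smul_apply, smul_eq_mul, inv_mul_cancel₀ hψ]
  let θ : ResidueField R →ₗ[R] ResidueField (R ⧸ Ideal.span {x}) :=
    (Algebra.linearMap (ResidueField R) (ResidueField (R ⧸ Ideal.span {x}))).restrictScalars R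
  let ρ₀ : maximalIdeal R →ₗ[R] ResidueField (R ⧸ Ideal.span {x}) :=
    θ ∘ₗ (φ.restrictScalars R) ∘ₗ (maximalIdeal R).toCotangent
  have hρ₀ : (Ideal.span {x} • (⊤ : Submodule R (maximalIdeal R))) ≤ LinearMap.ker ρ₀ := by
    intro z hz
    rw [LinearMap.mem_ker]
    have hz0 : (maximalIdeal R).toCotangent z = 0 := by
      rw [Ideal.toCotangent_eq_zero]
      refine Submodule.smul_induction_on
        (p := fun z : maximalIdeal R => (z : R) ∈ maximalIdeal R ^ 2) hz
        (fun r hr n _ => ?_) (fun a b ha hb => ?_)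
      · have hrm : r ∈ maximalIdeal R :=
          (Ideal.span_singleton_le_iff_mem (I := maximalIdeal R)).mpr hx hr
        change r * (n : R) ∈ maximalIdeal R ^ 2
        rw [pow_two]
        exact Ideal.mul_mem_mul hrm n.2
      · change (a : R) + (b : R) ∈ maximalIdeal R ^ 2
        exact Ideal.add_mem _ ha hb
    change θ (φ ((maximalIdeal R).toCotangent z)) = 0
    rw [hz0, map_zero, map_zero]
  let ρQ : Qm R x →ₗ[R] ResidueField (R ⧸ Ideal.span {x}) := Submodule.liftQ _ ρ₀ hρ₀
  let ρ : Qm R x →ₗ[R ⧸ Ideal.span {x}] ResidueField (R ⧸ Ideal.span {x}) :=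
    ρQ.extendScalarsOfSurjective Ideal.Quotient.mk_surjective
  refine ⟨i, ρ, ?_⟩
  have hρq : ρ q = 1 := by
    change θ (φ v) = 1
    rw [hφ]
    exact map_one (algebraMap (ResidueField R) (ResidueField (R ⧸ Ideal.span {x})))
  apply LinearMap.ext
  intro c
  obtain ⟨c', rfl⟩ := IsLocalRing.residue_surjective c
  have hi : i (residue (R ⧸ Ideal.span {x}) c') = c' • q := rfl
  rw [LinearMap.comp_apply, hi, map_smul, hρq, LinearMap.id_apply, Algebra.smul_def, mul_one]
  rfl

/-- Lemma C: `pd_{R/x} k < ∞`. -/
theorem pd_residue_quotient (hx : x ∈ maximalIdeal R) (hx2 : x ∉ maximalIdeal R ^ 2)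
    (hreg : IsSMulRegular R x) (s : ℕ)
    (hk : HasProjectiveDimensionLT (ModuleCat.of R (ResidueField R)) (s + 1)) :
    HasProjectiveDimensionLT
      (ModuleCat.of (R ⧸ Ideal.span {x}) (ResidueField (R ⧸ Ideal.span {x}))) (max s 1 + 1) := by
  apply Groth.Agent.TorPd.pd_of_tor (R ⧸ Ideal.span {x}) (max s 1)
    (ResidueField (R ⧸ Ideal.span {x}))
  obtain ⟨i, r, hir⟩ := exists_retract R x hx hx2
  refine isZero_tor_of_retract (ModuleCat.ofHom i) (ModuleCat.ofHom r) ?_
    (ModuleCat.of (R ⧸ Ideal.span {x}) (ResidueField (R ⧸ Ideal.span {x}))) (max s 1 + 1) ?_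
  · rw [← ModuleCat.ofHom_comp, hir]
    rfl
  · have h1 : TorZero R (max s 1 + 1) (maximalIdeal R) (ResidueField (R ⧸ Ideal.span {x})) :=
      torZero_maximalIdeal R s hk (ResidueField (R ⧸ Ideal.span {x})) (max s 1)
        (le_max_left _ _)
    obtain ⟨φ, hφ⟩ := Groth.Agent.TorBC3.exists_semilinear R (R ⧸ Ideal.span {x})
      (ResidueField (R ⧸ Ideal.span {x})) (maximalIdeal R) (tor_maximalIdeal_quot R x hreg)
      (max s 1 + 1)
    have h2 : Subsingleton (DRing.Tor (R ⧸ Ideal.span {x}) (max s 1 + 1)
        ((R ⧸ Ideal.span {x}) ⊗[R] (maximalIdeal R)) (ResidueField (R ⧸ Ideal.span {x}))) := by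
      haveI : Subsingleton (DRing.Tor R (max s 1 + 1) (maximalIdeal R)
          (ResidueField (R ⧸ Ideal.span {x}))) := (torZero_iff_subsingleton _ _ _).mp h1
      exact hφ.2.subsingleton
    have h3 : TorZero (R ⧸ Ideal.span {x}) (max s 1 + 1)
        ((R ⧸ Ideal.span {x}) ⊗[R] (maximalIdeal R)) (ResidueField (R ⧸ Ideal.span {x})) :=
      (torZero_iff_subsingleton _ _ _).mpr h2
    let e : ((R ⧸ Ideal.span {x}) ⊗[R] (maximalIdeal R)) ≃ₗ[R ⧸ Ideal.span {x}] Qm R x :=
      Groth.Agent.Lib.RegFlat3.quotTensorEquiv' (maximalIdeal R) (Ideal.span {x})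
    exact h3.of_iso (((Tor (ModuleCat.{u} (R ⧸ Ideal.span {x})) (max s 1 + 1)).mapIso
      e.toModuleIso.symm).app
        (ModuleCat.of (R ⧸ Ideal.span {x}) (ResidueField (R ⧸ Ideal.span {x}))))

end local_ring

/-- the induction. -/
theorem serre_aux : ∀ (N : ℕ) (R : Type u) [CommRing R] [IsLocalRing R] [IsNoetherianRing R],
    ringKrullDim R ≤ (N : WithBot ℕ∞) →
    (∃ s, HasProjectiveDimensionLT (ModuleCat.of R (ResidueField R)) (s + 1)) →
      IsRegularLocalRing R := by
  intro N
  induction N using Nat.strong_induction_on with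
  | _ N ih =>
    intro R _ _ _ hdim hs
    obtain ⟨s, hk⟩ := hs
    by_cases hm : maximalIdeal R = ⊥
    · apply IsRegularLocalRing.of_spanFinrank_maximalIdeal_le
      rw [hm, Submodule.spanFinrank_bot]
      exact_mod_cast ringKrullDim_nonneg_of_nontrivial
    · have hdepth := eq_zero_of_maximalIdeal_mul R hm s hk
      obtain ⟨x, hx, hx2, hnz⟩ := exists_regular_not_mem_sq R hm hdepth
      haveI : IsLocalRing (R ⧸ Ideal.span {x}) :=
        Groth.Agent.RegularLib.isLocalRing_quotient _
          (Groth.Agent.RegularLib.span_singleton_ne_top x hx)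
      have hreg : IsSMulRegular R x := Module.Flat.isSMulRegular_of_nonZeroDivisors hnz
      have hk' := pd_residue_quotient R x hx hx2 hreg s hk
      have hdim' : ringKrullDim (R ⧸ Ideal.span {x}) + 1 = ringKrullDim R :=
        ringKrullDim_quotient_span_singleton_succ_eq_ringKrullDim_of_mem_nonZeroDivisors hnz hx
      have h0 : (0 : WithBot ℕ∞) ≤ ringKrullDim (R ⧸ Ideal.span {x}) :=
        ringKrullDim_nonneg_of_nontrivial
      have hle : ringKrullDim (R ⧸ Ideal.span {x}) ≤ (N : WithBot ℕ∞) :=
        (ringKrullDim_quotient_le _).trans hdim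
      obtain ⟨k', hk'eq, hk'le⟩ := Groth.Agent.RegularLib.exists_nat_eq_of_le h0 hle
      have hlt : k' < N := by
        have h3 : (k' : WithBot ℕ∞) + 1 ≤ (N : WithBot ℕ∞) := by
          rw [← hk'eq, hdim']; exact hdim
        have h4 : ((k' + 1 : ℕ) : WithBot ℕ∞) ≤ (N : WithBot ℕ∞) := by
          push_cast; exact h3
        exact_mod_cast h4
      haveI := ih k' hlt (R ⧸ Ideal.span {x}) hk'eq.le ⟨_, hk'⟩
      exact Groth.Agent.RegularLib.of_quotient_regular R x hx hnz

/-- **Serre**: finite projective dimension of the residue field implies regularity. -/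
theorem regular_of_pd (R : Type u) [CommRing R] [IsLocalRing R] [IsNoetherianRing R] (n : ℕ)
    (h : HasProjectiveDimensionLT (ModuleCat.of R (ResidueField R)) n) :
    IsRegularLocalRing R := by
  haveI := h
  have h' : HasProjectiveDimensionLT (ModuleCat.of R (ResidueField R)) (n + 1) :=
    hasProjectiveDimensionLT_of_ge _ n (n + 1) (Nat.le_succ n)
  exact serre_aux (maximalIdeal R).spanFinrank R (ringKrullDim_le_spanFinrank_maximalIdeal R)
    ⟨n, h'⟩

/-- regularity descends along flat local homomorphisms. -/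
theorem regular_of_flat_local (R : Type u) [CommRing R] [IsLocalRing R] [IsNoetherianRing R]
    (S : Type u) [CommRing S] [IsRegularLocalRing S] [Algebra R S]
    [IsLocalHom (algebraMap R S)] [Module.Flat R S] : IsRegularLocalRing R := by
  obtain ⟨d, hd⟩ := Groth.Agent.GlDim.exists_dim S
  have hB : ∀ (N : Type u) [AddCommGroup N] [Module S N],
      HasProjectiveDimensionLT (ModuleCat.of S N) (d + 1) :=
    fun N _ _ => Groth.Agent.GlDim.hasProjectiveDimensionLT_of_regular S d hd N
  exact regular_of_pd R (d + 1) (Groth.Agent.GlDim.gldim_descent R S d hB (ResidueField R))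

/-- localizations of regular local rings are regular. -/
theorem localization_regular (R : Type u) [CommRing R] [IsRegularLocalRing R] (p : Ideal R)
    [p.IsPrime] : IsRegularLocalRing (Localization.AtPrime p) := by
  obtain ⟨d, hd⟩ := Groth.Agent.GlDim.exists_dim R
  have h1 : HasProjectiveDimensionLT
      (ModuleCat.of R (ResidueField (Localization.AtPrime p))) (d + 1) :=
    Groth.Agent.GlDim.hasProjectiveDimensionLT_of_regular R d hd
      (ResidueField (Localization.AtPrime p))
  haveI : HasProjectiveDimensionLE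
      (ModuleCat.of R (ResidueField (Localization.AtPrime p))) d := h1
  have h2 : HasProjectiveDimensionLE
      ((ModuleCat.of R (ResidueField (Localization.AtPrime p))).localizedModule p.primeCompl) d :=
    ModuleCat.localizedModule_hasProjectiveDimensionLE d p.primeCompl
      (ModuleCat.of R (ResidueField (Localization.AtPrime p)))
  haveI := isLocalizedModule_id p.primeCompl (ResidueField (Localization.AtPrime p))
    (Localization.AtPrime p)
  haveI := ModuleCat.localizedModule_isLocalizedModule
    (ModuleCat.of R (ResidueField (Localization.AtPrime p))) p.primeCompl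
  let e0 : ((ModuleCat.of R (ResidueField (Localization.AtPrime p))).localizedModule
      p.primeCompl) ≃ₗ[R] ResidueField (Localization.AtPrime p) :=
    IsLocalizedModule.linearEquiv p.primeCompl
      ((ModuleCat.of R (ResidueField (Localization.AtPrime p))).localizedModuleMkLinearMap
        p.primeCompl)
      (LinearMap.id : ResidueField (Localization.AtPrime p) →ₗ[R]
        ResidueField (Localization.AtPrime p))
  let e : ((ModuleCat.of R (ResidueField (Localization.AtPrime p))).localizedModule
      p.primeCompl) ≃ₗ[Localization.AtPrime p] ResidueField (Localization.AtPrime p) :=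
    LinearEquiv.extendScalarsOfIsLocalization p.primeCompl (Localization.AtPrime p) e0
  have h3 : HasProjectiveDimensionLT
      (ModuleCat.of (Localization.AtPrime p) (ResidueField (Localization.AtPrime p))) (d + 1) :=
    @hasProjectiveDimensionLT_of_iso _ _ _ _ _ e.toModuleIso (d + 1) h2
  exact regular_of_pd (Localization.AtPrime p) (d + 1) h3

/-- `pd k ≥ embdim`. -/
theorem finrank_cotangentSpace_lt (R : Type u) [CommRing R] [IsLocalRing R] [IsNoetherianRing R]
    (d : ℕ) (hd : HasProjectiveDimensionLT (ModuleCat.of R (ResidueField R)) d) :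
    Module.finrank (ResidueField R) (CotangentSpace R) < d := by
  classical
  haveI : IsRegularLocalRing R := regular_of_pd R d hd
  rw [← spanFinrank_maximalIdeal_eq_finrank_cotangentSpace R]
  by_contra hcon
  push Not at hcon
  obtain ⟨s, hcard, hspan⟩ := Submodule.FG.exists_span_finset_card_eq_spanFinrank
    (IsNoetherian.noetherian (maximalIdeal R))
  have hl_span : Ideal.ofList s.toList = maximalIdeal R := by
    rw [Groth.Agent.RegularLib.ofList_toList]; exact hspan
  have hl_len : s.toList.length = (maximalIdeal R).spanFinrank := by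
    rw [Finset.length_toList]; exact hcard
  have hreg := Groth.Agent.RegularLib.isRegular_of_ofList_eq R s.toList hl_span hl_len
  obtain ⟨E⟩ := Groth.Agent.TorKoszul.tor_quot_equiv_hom (ResidueField R) s.toList
    hreg.toIsWeaklyRegular
  have hzero : TorZero R s.toList.length (R ⧸ Ideal.ofList s.toList) (ResidueField R) := by
    cases d with
    | zero =>
      haveI := hd
      have hz := isZero_of_hasProjectiveDimensionLT_zero (ModuleCat.of R (ResidueField R))
      haveI : Subsingleton (ResidueField R) := ModuleCat.subsingleton_of_isZero hz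
      exact absurd (Subsingleton.elim (1 : ResidueField R) 0) one_ne_zero
    | succ d' =>
      haveI := hd
      exact Groth.Agent.TorShift2.isZero_tor_of_projDim _ d' _ _ (by omega)
  haveI : Subsingleton (((Tor (ModuleCat.{u} R) s.toList.length).obj
      (ModuleCat.of R (R ⧸ Ideal.ofList s.toList))).obj (ModuleCat.of R (ResidueField R))) :=
    (torZero_iff_subsingleton _ _ _).mp hzero
  haveI : Subsingleton ((R ⧸ Ideal.ofList s.toList) →ₗ[R] ResidueField R) :=
    E.symm.injective.subsingleton
  let f : (R ⧸ Ideal.ofList s.toList) →ₗ[R] ResidueField R :=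
    Submodule.liftQ _ (Algebra.linearMap R (ResidueField R)) (by
      rw [hl_span]
      intro y hy
      rw [LinearMap.mem_ker, Algebra.linearMap_apply]
      exact (residue_eq_zero_iff y).mpr hy)
  have hf : f (Submodule.Quotient.mk 1) = 1 := by
    change algebraMap R (ResidueField R) 1 = 1
    exact map_one _
  have hf0 : f = 0 := Subsingleton.elim _ _
  rw [hf0, LinearMap.zero_apply] at hf
  exact zero_ne_one hf

end Groth.Agent.Serre
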