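import Mathlib
import Groth.Prelude.Def_EGA4b
import Groth.Agent.Lib.Serre_helper5
import Groth.Agent.Lib.Jacobian_helper3

/-!
# Nagata's criterion for the openness of the regular locus (helper3)

* `isOpen_of_nagata` : the topological criterion on `Spec` of a Noetherian ring.
* `stableUnderGeneralization_regLocus`.
* `isRegularLocalRing_of_quotient_prime` : `R/P` regular, `P` generated by `ht P` elements ⇒ `R` regular.
* `nagata_core`, `isOpen_regLocus_of_nagata`.
APPEND-ONLY once landed.
-/

set_option autoImplicit false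
set_option maxSynthPendingDepth 3
universe u

open IsLocalRing PrimeSpectrum

namespace Groth.Agent.Lib.NagataCritH3

section Top

variable {R : Type*} [CommRing R] [IsNoetherianRing R]

/-- Nagata's topological criterion for openness in the spectrum of a Noetherian ring. -/
theorem isOpen_of_nagata (U : Set (PrimeSpectrum R))
    (hgen : StableUnderGeneralization U)
    (hloc : ∀ p ∈ U, ∃ W : Set (PrimeSpectrum R), IsOpen W ∧
      (W ∩ zeroLocus (p.asIdeal : Set R)).Nonempty ∧ W ∩ zeroLocus (p.asIdeal : Set R) ⊆ U) :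
    IsOpen U := by
  classical
  rw [← isClosed_compl_iff]
  set Z : Set (PrimeSpectrum R) := Uᶜ with hZ
  set I : Ideal R := vanishingIdeal Z with hI
  have hcl : closure Z = zeroLocus (I : Set R) := (zeroLocus_vanishingIdeal_eq_closure Z).symm
  have hfin : I.minimalPrimes.Finite := I.finite_minimalPrimes_of_isNoetherianRing R
  have hspec : StableUnderSpecialization Z := hgen.compl
  have key : ∀ q ∈ I.minimalPrimes, ∀ hq : q.IsPrime, (⟨q, hq⟩ : PrimeSpectrum R) ∈ Z := by
    intro q hqmin hq
    by_contra hnot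
    have hPU : (⟨q, hq⟩ : PrimeSpectrum R) ∈ U := by
      by_contra h
      exact hnot h
    obtain ⟨W, hWo, ⟨y, hyW, hyV⟩, hWU⟩ := hloc _ hPU
    -- `P ∈ W`
    have hPy : (⟨q, hq⟩ : PrimeSpectrum R) ⤳ y := by
      rw [← le_iff_specializes]
      exact hyV
    have hPW : (⟨q, hq⟩ : PrimeSpectrum R) ∈ W := hPy.mem_open hWo hyW
    -- the other components
    set T : Set (PrimeSpectrum R) :=
      ⋃ q' ∈ (I.minimalPrimes \ {q}), zeroLocus (q' : Set R) with hT
    have hTc : IsClosed T :=
      (hfin.subset Set.diff_subset).isClosed_biUnion fun q' _ => isClosed_zeroLocus _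
    have hPT : (⟨q, hq⟩ : PrimeSpectrum R) ∉ T := by
      intro h
      simp only [hT, Set.mem_iUnion] at h
      obtain ⟨q', ⟨hq'min, hq'ne⟩, hq'le⟩ := h
      have hle : q' ≤ q := hq'le
      have := hqmin.2 hq'min.1 hle
      exact hq'ne (le_antisymm hle this)
    have hPcl : (⟨q, hq⟩ : PrimeSpectrum R) ∈ closure Z := by
      rw [hcl]
      exact hqmin.1.2
    obtain ⟨z, ⟨hzW, hzT⟩, hzZ⟩ := mem_closure_iff.mp hPcl (W ∩ Tᶜ) (hWo.inter hTc.isOpen_compl)
      ⟨hPW, hPT⟩
    have hzI : I ≤ z.asIdeal := by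
      have : z ∈ closure Z := subset_closure hzZ
      rw [hcl] at this
      exact this
    obtain ⟨q'', hq''min, hq''z⟩ := Ideal.exists_minimalPrimes_le hzI
    have hq''q : q'' = q := by
      by_contra hne
      apply hzT
      simp only [hT, Set.mem_iUnion]
      exact ⟨q'', ⟨hq''min, hne⟩, hq''z⟩
    subst hq''q
    exact hzZ (hWU ⟨hzW, hq''z⟩)
  apply isClosed_of_closure_subset
  intro x hx
  rw [hcl] at hx
  obtain ⟨q, hqmin, hqx⟩ := Ideal.exists_minimalPrimes_le (show I ≤ x.asIdeal from hx)
  have hqZ := key q hqmin hqmin.1.1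
  exact hspec ((le_iff_specializes ⟨q, hqmin.1.1⟩ x).mp hqx) hqZ

end Top

section Gen

variable (A : Type u) [CommRing A]

/-- A regular local ring is a regular ring. -/
theorem isRegularRing_of_isRegularLocalRing (O : Type u) [CommRing O] [IsRegularLocalRing O] :
    IsRegularRing O := by
  rw [isRegularRing_iff]
  intro p hp
  exact Groth.Agent.Serre.localization_regular O p

/-- If `S = T⁻¹A` and `Q` is a prime of `S`, then `A_{Q ∩ A} ≃ S_Q`. -/
noncomputable def atPrimeUnderEquiv (T : Submonoid A) (S : Type u) [CommRing S] [Algebra A S]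
    [IsLocalization T S] (Q : Ideal S) [Q.IsPrime] :
    Localization.AtPrime (Q.under A) ≃+* Localization.AtPrime Q :=
  haveI : IsLocalization.AtPrime (Localization.AtPrime Q) (Q.under A) :=
    IsLocalization.isLocalization_isLocalization_atPrime_isLocalization T
      (Localization.AtPrime Q) Q
  (IsLocalization.algEquiv (Q.under A).primeCompl (Localization.AtPrime (Q.under A))
    (Localization.AtPrime Q)).toRingEquiv

theorem isRegularLocalRing_under_iff (T : Submonoid A) (S : Type u) [CommRing S] [Algebra A S]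
    [IsLocalization T S] (Q : Ideal S) [Q.IsPrime] :
    IsRegularLocalRing (Localization.AtPrime (Q.under A)) ↔
      IsRegularLocalRing (Localization.AtPrime Q) :=
  ⟨fun _ => IsRegularLocalRing.of_ringEquiv (atPrimeUnderEquiv A T S Q),
   fun _ => IsRegularLocalRing.of_ringEquiv (atPrimeUnderEquiv A T S Q).symm⟩

/-- transport along an equality of primes -/
theorem isRegularLocalRing_congr {p q : Ideal A} [p.IsPrime] [q.IsPrime] (h : p = q) :
    IsRegularLocalRing (Localization.AtPrime p) ↔ IsRegularLocalRing (Localization.AtPrime q) := by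
  subst h
  exact Iff.rfl

/-- `p` disjoint from `T`: `A_p` is regular iff `(T⁻¹A)_{pT⁻¹A}` is. -/
theorem isRegularLocalRing_iff_map_of_disjoint (T : Submonoid A) (S : Type u) [CommRing S]
    [Algebra A S] [IsLocalization T S] (p : Ideal A) [hp : p.IsPrime]
    (hd : Disjoint (T : Set A) p) [(p.map (algebraMap A S)).IsPrime] :
    IsRegularLocalRing (Localization.AtPrime p) ↔
      IsRegularLocalRing (Localization.AtPrime (p.map (algebraMap A S))) := by
  have hcomap : (p.map (algebraMap A S)).under A = p :=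
    IsLocalization.under_map_of_isPrime_disjoint T _ hp hd
  rw [← isRegularLocalRing_under_iff A T S (p.map (algebraMap A S))]
  exact (isRegularLocalRing_congr A hcomap).symm

theorem stableUnderGeneralization_regLocus :
    StableUnderGeneralization (EGA4.regLocus A) := by
  intro x y hyx hx
  -- `y ⤳ x`, `x ∈ Reg`
  have hle : y.asIdeal ≤ x.asIdeal := (le_iff_specializes y x).mpr hyx
  change IsRegularLocalRing (Localization.AtPrime x.asIdeal) at hx
  change IsRegularLocalRing (Localization.AtPrime y.asIdeal)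
  haveI := hx
  haveI : IsRegularRing (Localization.AtPrime x.asIdeal) :=
    isRegularRing_of_isRegularLocalRing _
  have hd : Disjoint (x.asIdeal.primeCompl : Set A) y.asIdeal := by
    rw [Set.disjoint_left]
    intro a ha hay
    exact ha (hle hay)
  haveI : (y.asIdeal.map (algebraMap A (Localization.AtPrime x.asIdeal))).IsPrime :=
    IsLocalization.isPrime_of_isPrime_disjoint x.asIdeal.primeCompl _ _ y.2 hd
  rw [isRegularLocalRing_iff_map_of_disjoint A x.asIdeal.primeCompl
    (Localization.AtPrime x.asIdeal) y.asIdeal hd]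
  infer_instance

end Gen

section LemmaB

variable {R : Type*} [CommRing R] [IsLocalRing R] [IsNoetherianRing R]

theorem spanFinrank_maximalIdeal_le_add (I : Ideal R) [IsLocalRing (R ⧸ I)] :
    (maximalIdeal R).spanFinrank ≤ I.spanFinrank + (maximalIdeal (R ⧸ I)).spanFinrank := by
  classical
  have hfgA : Submodule.FG I := IsNoetherian.noetherian _
  haveI : IsNoetherianRing (R ⧸ I) := inferInstance
  have hfg0 : Submodule.FG (maximalIdeal (R ⧸ I)) := IsNoetherian.noetherian _
  set s : Set R := Submodule.generators I with hs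
  set t : Set (R ⧸ I) := Submodule.generators (maximalIdeal (R ⧸ I)) with ht
  have hsfin : s.Finite := hfgA.finite_generators
  have htfin : t.Finite := hfg0.finite_generators
  have hsspan : Ideal.span s = I := Submodule.span_generators _
  have htspan : Ideal.span t = maximalIdeal (R ⧸ I) := Submodule.span_generators _
  have hscard : s.ncard = I.spanFinrank := hfgA.generators_ncard
  have htcard : t.ncard = (maximalIdeal (R ⧸ I)).spanFinrank := hfg0.generators_ncard
  have hmk : Function.Surjective (Ideal.Quotient.mk I) := Ideal.Quotient.mk_surjective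
  set t' : Set R := Function.surjInv hmk '' t with ht'
  have ht'img : (Ideal.Quotient.mk I) '' t' = t := by
    rw [ht', Set.image_image]
    simp [Function.surjInv_eq hmk]
  haveI : IsLocalHom (Ideal.Quotient.mk I) := IsLocalHom.of_surjective _ hmk
  have hcomap : (maximalIdeal (R ⧸ I)).comap (Ideal.Quotient.mk I) = maximalIdeal R :=
    IsLocalRing.maximalIdeal_comap _
  have h1 : maximalIdeal R = Ideal.span t' ⊔ I := by
    rw [← hcomap, ← htspan, ← ht'img, ← Ideal.map_span,
      Ideal.comap_map_of_surjective _ hmk, ← RingHom.ker_eq_comap_bot, Ideal.mk_ker]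
  have h3 : maximalIdeal R = Ideal.span (t' ∪ s) := by
    rw [Ideal.span_union, hsspan, ← h1]
  have hfin : (t' ∪ s).Finite := (htfin.image _).union hsfin
  calc (maximalIdeal R).spanFinrank
      = (Ideal.span (t' ∪ s)).spanFinrank := by rw [← h3]
    _ ≤ (t' ∪ s).ncard := Submodule.spanFinrank_span_le_ncard_of_finite hfin
    _ ≤ t'.ncard + s.ncard := Set.ncard_union_le _ _
    _ ≤ t.ncard + s.ncard := add_le_add (Set.ncard_image_le htfin) le_rfl
    _ = _ := by rw [hscard, htcard, add_comm]

theorem ringKrullDim_quotient_eq_coheight {A : Type*} [CommRing A] (p : Ideal A) [hp : p.IsPrime] :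
    ringKrullDim (A ⧸ p) = ((Order.coheight (⟨p, hp⟩ : PrimeSpectrum A) : ℕ∞) : WithBot ℕ∞) := by
  rw [ringKrullDim_quotient, Order.coheight_eq_krullDim_Ici]
  have h1 : PrimeSpectrum.zeroLocus (p : Set A) = Set.Ici (⟨p, hp⟩ : PrimeSpectrum A) := by
    ext y
    rw [PrimeSpectrum.mem_zeroLocus, SetLike.coe_subset_coe, Set.mem_Ici]
    rfl
  rw [h1]

theorem height_add_ringKrullDim_quotient_le {A : Type*} [CommRing A] (p : Ideal A)
    [hp : p.IsPrime] :
    (p.height : WithBot ℕ∞) + ringKrullDim (A ⧸ p) ≤ ringKrullDim A := by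
  haveI : Nonempty (PrimeSpectrum A) := ⟨⟨p, hp⟩⟩
  rw [ringKrullDim_quotient_eq_coheight, ringKrullDim,
    Order.krullDim_eq_iSup_height_add_coheight_of_nonempty,
    PrimeSpectrum.height_eq_orderHeight ⟨p, hp⟩, ← WithBot.coe_add, WithBot.coe_le_coe]
  exact le_iSup (fun a : PrimeSpectrum A => Order.height a + Order.coheight a) ⟨p, hp⟩

/-- If `R/P` is regular and `P` is generated by at most `ht P` elements then `R` is regular. -/
theorem isRegularLocalRing_of_quotient_prime (P : Ideal R) [P.IsPrime]
    [IsRegularLocalRing (R ⧸ P)] (h : (P.spanFinrank : ℕ∞) ≤ P.height) :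
    IsRegularLocalRing R := by
  apply IsRegularLocalRing.of_spanFinrank_maximalIdeal_le
  have h1 := spanFinrank_maximalIdeal_le_add P
  have h0 : ((maximalIdeal (R ⧸ P)).spanFinrank : WithBot ℕ∞) = ringKrullDim (R ⧸ P) :=
    IsRegularLocalRing.spanFinrank_maximalIdeal
  have h2 := height_add_ringKrullDim_quotient_le P
  have h3 : ((P.spanFinrank : ℕ) : WithBot ℕ∞) ≤ (P.height : WithBot ℕ∞) := by
    exact_mod_cast h
  calc ((maximalIdeal R).spanFinrank : WithBot ℕ∞)
      ≤ ((P.spanFinrank + (maximalIdeal (R ⧸ P)).spanFinrank : ℕ) : WithBot ℕ∞) := by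
        exact_mod_cast h1
    _ = ((P.spanFinrank : ℕ) : WithBot ℕ∞) + ringKrullDim (R ⧸ P) := by
        rw [← h0]; push_cast; rfl
    _ ≤ (P.height : WithBot ℕ∞) + ringKrullDim (R ⧸ P) := add_le_add h3 le_rfl
    _ ≤ ringKrullDim R := h2

end LemmaB

section Core

variable (A : Type u) [CommRing A] [IsNoetherianRing A]

/-- generators of `pA_p` chosen inside `p`. -/
theorem exists_finset_span_map_eq (p : Ideal A) [p.IsPrime] :
    ∃ X : Finset A, (X : Set A) ⊆ p ∧
      X.card ≤ (maximalIdeal (Localization.AtPrime p)).spanFinrank ∧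
      Ideal.span ((algebraMap A (Localization.AtPrime p)) '' (X : Set A)) =
        maximalIdeal (Localization.AtPrime p) := by
  classical
  haveI : IsNoetherianRing (Localization.AtPrime p) :=
    IsLocalization.isNoetherianRing p.primeCompl _ inferInstance
  have hfg : Submodule.FG (maximalIdeal (Localization.AtPrime p)) := IsNoetherian.noetherian _
  set s := Submodule.generators (maximalIdeal (Localization.AtPrime p)) with hs
  have hsfin : s.Finite := hfg.finite_generators
  have hsspan : Ideal.span s = maximalIdeal (Localization.AtPrime p) :=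
    Submodule.span_generators _
  have hscard : s.ncard = (maximalIdeal (Localization.AtPrime p)).spanFinrank :=
    hfg.generators_ncard
  have hmem : ∀ g ∈ s, ∃ a ∈ p, ∃ t : p.primeCompl,
      g * algebraMap A (Localization.AtPrime p) t = algebraMap A (Localization.AtPrime p) a := by
    intro g hg
    have hg' : g ∈ p.map (algebraMap A (Localization.AtPrime p)) := by
      rw [Localization.AtPrime.map_eq_maximalIdeal, ← hsspan]
      exact Ideal.subset_span hg
    rw [IsLocalization.mem_map_algebraMap_iff p.primeCompl] at hg'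
    obtain ⟨⟨⟨a, ha⟩, t⟩, h⟩ := hg'
    exact ⟨a, ha, t, h⟩
  choose! a ha t hat using hmem
  refine ⟨hsfin.toFinset.image a, ?_, ?_, ?_⟩
  · intro x hx
    simp only [Finset.coe_image, Set.Finite.coe_toFinset, Set.mem_image] at hx
    obtain ⟨g, hg, rfl⟩ := hx
    exact ha g hg
  · calc (hsfin.toFinset.image a).card ≤ hsfin.toFinset.card := Finset.card_image_le
      _ = s.ncard := (Set.ncard_eq_toFinset_card s hsfin).symm
      _ = _ := hscard
  · apply le_antisymm
    · rw [Ideal.span_le]
      rintro _ ⟨x, hx, rfl⟩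
      simp only [Finset.coe_image, Set.Finite.coe_toFinset, Set.mem_image] at hx
      obtain ⟨g, hg, rfl⟩ := hx
      rw [SetLike.mem_coe, ← Localization.AtPrime.map_eq_maximalIdeal]
      exact Ideal.mem_map_of_mem _ (ha g hg)
    · rw [← hsspan, Ideal.span_le]
      intro g hg
      have hu : IsUnit (algebraMap A (Localization.AtPrime p) (t g)) :=
        IsLocalization.map_units _ (t g)
      have hgeq : g = algebraMap A (Localization.AtPrime p) (a g) * ↑hu.unit⁻¹ := by
        rw [← hat g hg, mul_assoc]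
        have : algebraMap A (Localization.AtPrime p) (t g) * ↑hu.unit⁻¹ = 1 := hu.mul_val_inv
        rw [this, mul_one]
      rw [SetLike.mem_coe, hgeq]
      apply Ideal.mul_mem_right
      apply Ideal.subset_span
      refine ⟨a g, ?_, rfl⟩
      simp only [Finset.coe_image, Set.Finite.coe_toFinset, Set.mem_image]
      exact ⟨g, hg, rfl⟩

theorem exists_mul_mem_span (p : Ideal A) [p.IsPrime] (X : Finset A)
    (hX : Ideal.span ((algebraMap A (Localization.AtPrime p)) '' (X : Set A)) =
      maximalIdeal (Localization.AtPrime p)) :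
    ∃ f : A, f ∉ p ∧ ∀ z ∈ p, f * z ∈ Ideal.span (X : Set A) := by
  classical
  have hpfg : p.FG := IsNoetherian.noetherian p
  obtain ⟨Y, hY⟩ := hpfg
  have hmem : ∀ y ∈ Y, ∃ fy : A, fy ∉ p ∧ fy * y ∈ Ideal.span (X : Set A) := by
    intro y hy
    have hyp : y ∈ p := by
      rw [← hY]
      exact Ideal.subset_span hy
    have h1 : algebraMap A (Localization.AtPrime p) y ∈
        (Ideal.span (X : Set A)).map (algebraMap A (Localization.AtPrime p)) := by
      rw [Ideal.map_span, hX, ← Localization.AtPrime.map_eq_maximalIdeal]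
      exact Ideal.mem_map_of_mem _ hyp
    rw [IsLocalization.mem_map_algebraMap_iff p.primeCompl] at h1
    obtain ⟨⟨⟨c, hc⟩, u⟩, h⟩ := h1
    rw [← map_mul] at h
    obtain ⟨v, hv⟩ := (IsLocalization.eq_iff_exists p.primeCompl _).mp h
    refine ⟨v * u, ?_, ?_⟩
    · exact (v * u).2
    · have : (v : A) * u * y = v * c := by
        rw [mul_assoc, mul_comm (u : A) y]
        exact hv
      rw [this]
      exact Ideal.mul_mem_left _ _ hc
  choose! fy hfy hfyX using hmem
  refine ⟨∏ y ∈ Y, fy y, ?_, ?_⟩
  · intro h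
    rw [Ideal.IsPrime.prod_mem_iff] at h
    obtain ⟨y, hy, hmem⟩ := h
    exact hfy y hy hmem
  · intro z hz
    rw [← hY] at hz
    induction hz using Submodule.span_induction with
    | mem y hy =>
      rw [← Finset.mul_prod_erase Y fy hy, mul_comm (fy y), mul_assoc]
      exact Ideal.mul_mem_left _ _ (hfyX y hy)
    | zero => simp
    | add a b _ _ ha hb =>
      rw [mul_add]
      exact add_mem ha hb
    | smul c a _ ha =>
      rw [smul_eq_mul, mul_left_comm]
      exact Ideal.mul_mem_left _ _ ha

theorem nagata_core (p : PrimeSpectrum A) (hp : p ∈ EGA4.regLocus A) :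
    ∃ f : A, f ∉ p.asIdeal ∧ ∀ Q : PrimeSpectrum (A ⧸ p.asIdeal),
      f ∉ (comap (Ideal.Quotient.mk p.asIdeal) Q).asIdeal → Q ∈ EGA4.regLocus (A ⧸ p.asIdeal) →
      comap (Ideal.Quotient.mk p.asIdeal) Q ∈ EGA4.regLocus A := by
  classical
  haveI hreg : IsRegularLocalRing (Localization.AtPrime p.asIdeal) := hp
  obtain ⟨X, hXp, hXcard, hXspan⟩ := exists_finset_span_map_eq A p.asIdeal
  obtain ⟨f, hfp, hf⟩ := exists_mul_mem_span A p.asIdeal X hXspan
  refine ⟨f, hfp, fun Q hfQ hQ => ?_⟩
  set q : Ideal A := (comap (Ideal.Quotient.mk p.asIdeal) Q).asIdeal with hq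
  haveI hqprime : q.IsPrime := (comap (Ideal.Quotient.mk p.asIdeal) Q).2
  change IsRegularLocalRing (Localization.AtPrime q)
  have hqdef : q = Q.asIdeal.comap (Ideal.Quotient.mk p.asIdeal) := rfl
  have hpq : p.asIdeal ≤ q := by
    intro x hx
    rw [hqdef, Ideal.mem_comap, Ideal.Quotient.eq_zero_iff_mem.mpr hx]
    exact zero_mem _
  haveI : IsNoetherianRing (Localization.AtPrime q) :=
    IsLocalization.isNoetherianRing q.primeCompl _ inferInstance
  set P : Ideal (Localization.AtPrime q) :=
    p.asIdeal.map (algebraMap A (Localization.AtPrime q)) with hP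
  have hd : Disjoint (q.primeCompl : Set A) p.asIdeal := by
    rw [Set.disjoint_left]
    intro a ha hap
    exact ha (hpq hap)
  haveI hPprime : P.IsPrime :=
    IsLocalization.isPrime_of_isPrime_disjoint q.primeCompl _ _ p.2 hd
  -- `R/P` is regular
  have hQmap : q.map (Ideal.Quotient.mk p.asIdeal) = Q.asIdeal := by
    rw [hqdef]
    exact Ideal.map_comap_of_surjective _ Ideal.Quotient.mk_surjective _
  haveI : (q.map (Ideal.Quotient.mk p.asIdeal)).IsPrime := by
    rw [hQmap]
    exact Q.2
  obtain ⟨e⟩ := Groth.Agent.Lib.JacobianH3.nonempty_algEquiv_quotient_localization A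
    p.asIdeal q hpq
  haveI : IsRegularLocalRing (Localization.AtPrime (q.map (Ideal.Quotient.mk p.asIdeal))) := by
    rw [isRegularLocalRing_congr (A ⧸ p.asIdeal) hQmap]
    exact hQ
  haveI : IsRegularLocalRing (Localization.AtPrime q ⧸ P) :=
    IsRegularLocalRing.of_ringEquiv e.symm.toRingEquiv
  apply isRegularLocalRing_of_quotient_prime P
  -- span rank
  have hfunit : IsUnit (algebraMap A (Localization.AtPrime q) f) :=
    IsLocalization.map_units _ (⟨f, hfQ⟩ : q.primeCompl)
  have hPspan : P = Ideal.span ((algebraMap A (Localization.AtPrime q)) '' (X : Set A)) := by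
    apply le_antisymm
    · rw [hP, Ideal.map_le_iff_le_comap]
      intro z hz
      rw [Ideal.mem_comap]
      have h1 : algebraMap A (Localization.AtPrime q) (f * z) ∈
          Ideal.span ((algebraMap A (Localization.AtPrime q)) '' (X : Set A)) := by
        rw [← Ideal.map_span]
        exact Ideal.mem_map_of_mem _ (hf z hz)
      rw [map_mul] at h1
      have h2 := Ideal.mul_mem_left _ (↑hfunit.unit⁻¹ : Localization.AtPrime q) h1
      rwa [← mul_assoc, hfunit.val_inv_mul, one_mul] at h2
    · rw [Ideal.span_le]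
      rintro _ ⟨x, hx, rfl⟩
      exact Ideal.mem_map_of_mem _ (hXp hx)
  have hrank : P.spanFinrank ≤ (maximalIdeal (Localization.AtPrime p.asIdeal)).spanFinrank := by
    calc P.spanFinrank
        ≤ ((algebraMap A (Localization.AtPrime q)) '' (X : Set A)).ncard := by
          rw [hPspan]
          exact Submodule.spanFinrank_span_le_ncard_of_finite (X.finite_toSet.image _)
      _ ≤ (X : Set A).ncard := Set.ncard_image_le X.finite_toSet
      _ = X.card := Set.ncard_coe_finset X
      _ ≤ _ := hXcard
  have hht : P.height = p.asIdeal.height :=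
    IsLocalization.height_map_of_disjoint q.primeCompl p.asIdeal hd
  have hdim : ((maximalIdeal (Localization.AtPrime p.asIdeal)).spanFinrank : WithBot ℕ∞) =
      (p.asIdeal.height : WithBot ℕ∞) := by
    rw [hreg.spanFinrank_maximalIdeal,
      IsLocalization.AtPrime.ringKrullDim_eq_height p.asIdeal (Localization.AtPrime p.asIdeal)]
  have hdim' : ((maximalIdeal (Localization.AtPrime p.asIdeal)).spanFinrank : ℕ∞) =
      p.asIdeal.height := by
    exact_mod_cast hdim
  rw [hht, ← hdim']
  exact_mod_cast hrank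

/-- **Nagata's criterion** for the openness of the regular locus. -/
theorem isOpen_regLocus_of_nagata
    (h : ∀ p : PrimeSpectrum A, p ∈ EGA4.regLocus A →
      ∃ U : Set (PrimeSpectrum (A ⧸ p.asIdeal)), IsOpen U ∧ U.Nonempty ∧
        U ⊆ EGA4.regLocus (A ⧸ p.asIdeal)) :
    IsOpen (EGA4.regLocus A) := by
  apply isOpen_of_nagata _ (stableUnderGeneralization_regLocus A)
  intro p hp
  obtain ⟨f, hfp, hf⟩ := nagata_core A p hp
  obtain ⟨U, hUo, ⟨Q₀, hQ₀⟩, hUreg⟩ := h p hp
  have hemb := isClosedEmbedding_comap_of_surjective (A ⧸ p.asIdeal)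
    (Ideal.Quotient.mk p.asIdeal) Ideal.Quotient.mk_surjective
  obtain ⟨W₀, hW₀o, hW₀U⟩ := hemb.toIsInducing.isOpen_iff.mp hUo
  haveI : IsDomain (A ⧸ p.asIdeal) := Ideal.Quotient.isDomain _
  -- the generic point lies in `U`
  have hbotU : (⟨⊥, Ideal.isPrime_bot⟩ : PrimeSpectrum (A ⧸ p.asIdeal)) ∈ U := by
    have hsp : (⟨⊥, Ideal.isPrime_bot⟩ : PrimeSpectrum (A ⧸ p.asIdeal)) ⤳ Q₀ := by
      rw [← le_iff_specializes]
      exact bot_le (a := Q₀.asIdeal)
    exact hsp.mem_open hUo hQ₀
  have hcomapbot : comap (Ideal.Quotient.mk p.asIdeal)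
      (⟨⊥, Ideal.isPrime_bot⟩ : PrimeSpectrum (A ⧸ p.asIdeal)) = p := by
    ext x
    change Ideal.Quotient.mk p.asIdeal x ∈ (⊥ : Ideal (A ⧸ p.asIdeal)) ↔ _
    rw [Ideal.mem_bot, Ideal.Quotient.eq_zero_iff_mem]
  refine ⟨W₀ ∩ (basicOpen f : Set (PrimeSpectrum A)), hW₀o.inter (basicOpen f).isOpen, ?_, ?_⟩
  · refine ⟨p, ⟨?_, hfp⟩, ?_⟩
    · have : (⟨⊥, Ideal.isPrime_bot⟩ : PrimeSpectrum (A ⧸ p.asIdeal)) ∈
          comap (Ideal.Quotient.mk p.asIdeal) ⁻¹' W₀ := by
        rw [hW₀U]
        exact hbotU
      rw [Set.mem_preimage, hcomapbot] at this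
      exact this
    · exact le_refl p.asIdeal
  · rintro q ⟨⟨hqW, hqf⟩, hqV⟩
    have hrange : q ∈ Set.range (comap (Ideal.Quotient.mk p.asIdeal)) := by
      rw [range_comap_of_surjective _ _ Ideal.Quotient.mk_surjective, Ideal.mk_ker]
      exact hqV
    obtain ⟨Q, rfl⟩ := hrange
    have hQU : Q ∈ U := by
      rw [← hW₀U]
      exact hqW
    exact hf Q hqf (hUreg hQU)

end Core

section Transport

theorem bot_mem_regLocus (D : Type u) [CommRing D] [IsDomain D] :
    (⟨⊥, Ideal.isPrime_bot⟩ : PrimeSpectrum D) ∈ EGA4.regLocus D := by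
  change IsRegularLocalRing (Localization.AtPrime (⊥ : Ideal D))
  let _ : Field (Localization.AtPrime (⊥ : Ideal D)) := IsField.toField <| by
    simp [isField_iff_maximalIdeal_eq, ← Localization.AtPrime.map_eq_maximalIdeal]
  infer_instance

theorem mem_regLocus_comap_ringEquiv {R S : Type u} [CommRing R] [CommRing S] (e : R ≃+* S)
    (Q : PrimeSpectrum S) :
    comap (e : R →+* S) Q ∈ EGA4.regLocus R ↔ Q ∈ EGA4.regLocus S := by
  have e' : Localization.AtPrime (Q.asIdeal.comap e) ≃+* Localization.AtPrime Q.asIdeal :=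
    IsLocalization.ringEquivOfRingEquiv
      (Localization.AtPrime (Q.asIdeal.comap e)) (Localization.AtPrime Q.asIdeal) e
      (e.map_primeCompl_comap_eq Q.asIdeal)
  constructor
  · intro h
    change IsRegularLocalRing (Localization.AtPrime (Q.asIdeal.comap e)) at h
    change IsRegularLocalRing (Localization.AtPrime Q.asIdeal)
    exact IsRegularLocalRing.of_ringEquiv e'
  · intro h
    change IsRegularLocalRing (Localization.AtPrime Q.asIdeal) at h
    change IsRegularLocalRing (Localization.AtPrime (Q.asIdeal.comap e))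
    exact IsRegularLocalRing.of_ringEquiv e'.symm

/-- the property "the regular locus contains a nonempty open" transports along ring isomorphisms -/
theorem exists_open_subset_regLocus_of_ringEquiv {R S : Type u} [CommRing R] [CommRing S]
    (e : R ≃+* S)
    (h : ∃ U : Set (PrimeSpectrum R), IsOpen U ∧ U.Nonempty ∧ U ⊆ EGA4.regLocus R) :
    ∃ U : Set (PrimeSpectrum S), IsOpen U ∧ U.Nonempty ∧ U ⊆ EGA4.regLocus S := by
  obtain ⟨U, hUo, ⟨x, hx⟩, hUreg⟩ := h
  refine ⟨comap (e : R →+* S) ⁻¹' U, hUo.preimage (continuous_comap (e : R →+* S)), ?_, ?_⟩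
  · refine ⟨comap (e.symm : S →+* R) x, ?_⟩
    rw [Set.mem_preimage]
    have : comap (e : R →+* S) (comap (e.symm : S →+* R) x) = x := by
      ext a
      change (e.symm (e a)) ∈ x.asIdeal ↔ a ∈ x.asIdeal
      rw [e.symm_apply_apply]
    rw [this]
    exact hx
  · intro Q hQ
    exact (mem_regLocus_comap_ringEquiv e Q).mp (hUreg hQ)

theorem isOpen_regLocus_of_ringEquiv {R S : Type u} [CommRing R] [CommRing S]
    (e : R ≃+* S) (h : IsOpen (EGA4.regLocus R)) : IsOpen (EGA4.regLocus S) := by
  have : EGA4.regLocus S = comap (e : R →+* S) ⁻¹' EGA4.regLocus R := by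
    ext Q
    exact (mem_regLocus_comap_ringEquiv e Q).symm
  rw [this]
  exact h.preimage (continuous_comap (e : R →+* S))

/-- S4701 -/
theorem forall_quotient_isOpen_iff (A : Type u) [CommRing A] [IsNoetherianRing A] :
    (∀ I : Ideal A, IsOpen (EGA4.regLocus (A ⧸ I))) ↔
      ∀ (p : Ideal A) [p.IsPrime],
        ∃ U : Set (PrimeSpectrum (A ⧸ p)), IsOpen U ∧ U.Nonempty ∧ U ⊆ EGA4.regLocus (A ⧸ p) := by
  constructor
  · intro h p hp
    haveI : IsDomain (A ⧸ p) := Ideal.Quotient.isDomain p
    exact ⟨EGA4.regLocus (A ⧸ p), h p, ⟨_, bot_mem_regLocus (A ⧸ p)⟩, le_rfl⟩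
  · intro h I
    apply isOpen_regLocus_of_nagata
    intro P _
    let φ : A →+* (A ⧸ I) ⧸ P.asIdeal := (Ideal.Quotient.mk P.asIdeal).comp (Ideal.Quotient.mk I)
    have hφ : Function.Surjective φ :=
      Ideal.Quotient.mk_surjective.comp Ideal.Quotient.mk_surjective
    haveI : IsDomain ((A ⧸ I) ⧸ P.asIdeal) := Ideal.Quotient.isDomain _
    haveI : (RingHom.ker φ).IsPrime := RingHom.ker_isPrime φ
    exact exists_open_subset_regLocus_of_ringEquiv (RingHom.quotientKerEquivOfSurjective hφ)
      (h (RingHom.ker φ))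

end Transport

end Groth.Agent.Lib.NagataCritH3
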