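import Mathlib
import Groth.Agent.Lib.NagataCrit_helper3
import Groth.Agent.Lib.GenFreeG_helper8
import Groth.Agent.Lib.LocalCrit7_helper9

/-!
# Openness of the flat locus (Noetherian case)

For a Noetherian ring `A`, a finite type `A`-algebra `B` and a finite `B`-module `M`, the set of
primes `q` of `B` such that `M_q` is flat over `A` is open in `Spec B`
(EGA IV 11.1.1, Matsumura 24.3).  Proof: Nagata's topological criterion + local criterion of
flatness + generic freeness.
-/

set_option autoImplicit false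
open TensorProduct

namespace Groth.Agent.Lib.FlatLocusNoethH6

universe u

section Loc

/-- Injectivity of `M ⊗ N → M ⊗ P` passes to localizations of the left factor `M`. -/
theorem lTensor_injective_of_isLocalizedModule
    {R S : Type*} [CommRing R] [CommRing S] [Algebra R S] (T : Submonoid S)
    {M M' : Type*} [AddCommGroup M] [Module S M] [Module R M] [IsScalarTower R S M]
    [AddCommGroup M'] [Module S M'] [Module R M'] [IsScalarTower R S M']
    (g : M →ₗ[S] M') [IsLocalizedModule T g]
    {N P : Type*} [AddCommGroup N] [Module R N] [AddCommGroup P] [Module R P] (f : N →ₗ[R] P)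
    (h : Function.Injective (f.lTensor M)) : Function.Injective (f.lTensor M') := by
  have h1 := IsLocalizedModule.map_injective T (AlgebraTensorModule.rTensor R N g)
    (AlgebraTensorModule.rTensor R P g) (AlgebraTensorModule.lTensor S M f) h
  rw [IsLocalizedModule.map_lTensor] at h1
  exact h1

end Loc

section Ker

variable {B : Type*} [CommRing B] (T : Submonoid B) {X Y X' Y' : Type*}
  [AddCommGroup X] [Module B X] [AddCommGroup Y] [Module B Y]
  [AddCommGroup X'] [Module B X'] [AddCommGroup Y'] [Module B Y']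
  (f : X →ₗ[B] X') [IsLocalizedModule T f] (f' : Y →ₗ[B] Y') [IsLocalizedModule T f']
  (φ : X →ₗ[B] Y)

/-- If the kernel of `φ` is killed by an element of `T`, the localized map is injective. -/
theorem map_injective_of_smul_ker (g : B) (hg : g ∈ T) (hker : ∀ x, φ x = 0 → g • x = 0) :
    Function.Injective (IsLocalizedModule.map T f f' φ) := by
  rw [injective_iff_map_eq_zero]
  intro x' hx'
  obtain ⟨⟨x, s⟩, hxs⟩ := IsLocalizedModule.surj T f x'
  have hxs' : (s : B) • x' = f x := hxs
  have h1 : f' (φ x) = 0 := by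
    rw [← IsLocalizedModule.map_apply T f f' φ x, ← hxs', map_smul, hx', smul_zero]
  obtain ⟨t, ht⟩ := (IsLocalizedModule.eq_zero_iff T f').mp h1
  have ht' : (t : B) • φ x = 0 := ht
  have h2 : φ ((t : B) • x) = 0 := by rw [map_smul]; exact ht'
  have h3 := hker _ h2
  have h4 : f x = 0 := by
    rw [IsLocalizedModule.eq_zero_iff T f]
    refine ⟨⟨g, hg⟩ * t, ?_⟩
    change (g * (t : B)) • x = 0
    rw [mul_smul]; exact h3
  rw [h4] at hxs'
  refine (IsLocalizedModule.smul_inj f s x' 0).mp ?_
  rw [smul_zero]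
  exact hxs'

/-- If the localized map is injective and `ker φ` is finitely generated, then `ker φ` is killed
by an element of `T`. -/
theorem exists_smul_ker_of_map_injective (hfg : (LinearMap.ker φ).FG)
    (hinj : Function.Injective (IsLocalizedModule.map T f f' φ)) :
    ∃ g ∈ T, ∀ x, φ x = 0 → g • x = 0 := by
  classical
  obtain ⟨s, hs⟩ := hfg
  have hk : ∀ k : X, ∃ t : T, φ k = 0 → (t : B) • k = 0 := by
    intro k
    by_cases hk : φ k = 0
    · have h1 : IsLocalizedModule.map T f f' φ (f k) = 0 := by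
        rw [IsLocalizedModule.map_apply, hk, map_zero]
      have h2 : f k = 0 := hinj (h1.trans (map_zero _).symm)
      obtain ⟨t, ht⟩ := (IsLocalizedModule.eq_zero_iff T f).mp h2
      exact ⟨t, fun _ => ht⟩
    · exact ⟨1, fun h => absurd h hk⟩
  choose t ht using hk
  have key : ∀ x ∈ Submodule.span B (s : Set X), (∏ k ∈ s, (t k : B)) • x = 0 := by
    intro x hx
    induction hx using Submodule.span_induction with
    | mem k hk =>
      have hk0 : φ k = 0 := by
        have : k ∈ LinearMap.ker φ := hs ▸ Submodule.subset_span hk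
        exact this
      obtain ⟨c, hc⟩ := Finset.dvd_prod_of_mem (fun k => (t k : B)) (Finset.mem_coe.mp hk)
      rw [hc, mul_comm, mul_smul, ht k hk0, smul_zero]
    | zero => exact smul_zero _
    | add a b _ _ ha hb => rw [smul_add, ha, hb, add_zero]
    | smul r a _ ha => rw [smul_comm, ha, smul_zero]
  refine ⟨∏ k ∈ s, (t k : B), Submonoid.prod_mem _ (fun k _ => (t k).2), ?_⟩
  intro x hx
  exact key x (by rw [hs]; exact hx)

end Ker

section Main

variable {A B : Type u} [CommRing A] [CommRing B] [Algebra A B]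
  (M : Type u) [AddCommGroup M] [Module B M] [Module A M] [IsScalarTower A B M]

/-- The flat locus is stable under generization. -/
theorem stableUnderGeneralization_flatLocus :
    StableUnderGeneralization
      {q : PrimeSpectrum B | Module.Flat A (LocalizedModule q.asIdeal.primeCompl M)} := by
  intro x y hyx hx
  have hle : y.asIdeal ≤ x.asIdeal := (PrimeSpectrum.le_iff_specializes y x).mpr hyx
  have hS : x.asIdeal.primeCompl ≤ y.asIdeal.primeCompl := fun b hb hby => hb (hle hby)
  haveI : Module.Flat A (LocalizedModule x.asIdeal.primeCompl M) := hx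
  exact GenFreeH8.flat_of_isLocalizedModule_algebra y.asIdeal.primeCompl
    (IsLocalizedModule.liftOfLE x.asIdeal.primeCompl y.asIdeal.primeCompl hS
      (LocalizedModule.mkLinearMap x.asIdeal.primeCompl M)
      (LocalizedModule.mkLinearMap y.asIdeal.primeCompl M))

theorem finite_tensor (N : Type*) [AddCommGroup N] [Module A N] [Module.Finite A N]
    [Module.Finite B M] : Module.Finite B (M ⊗[A] N) :=
  Module.Finite.equiv (AlgebraTensorModule.cancelBaseChange A B B M N)

/-- Generic freeness of `M/pM` over `A/p`, expressed on `(A/p) ⊗ M`. -/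
theorem exists_gfw [Algebra.FiniteType A B] [Module.Finite B M] (p : Ideal A) [p.IsPrime] :
    ∃ a : A, a ∉ p ∧ GenFreeH8.GFW (A ⧸ p) ((A ⧸ p) ⊗[A] M) (Ideal.Quotient.mk p a) := by
  set J := p.map (algebraMap A B) with hJ
  let Mbar := M ⧸ (J • ⊤ : Submodule B M)
  letI : Module (A ⧸ p) Mbar := Module.compHom Mbar (algebraMap (A ⧸ p) (B ⧸ J))
  haveI : IsScalarTower (A ⧸ p) (B ⧸ J) Mbar := IsScalarTower.of_algebraMap_smul fun _ _ => rfl
  haveI : Algebra.FiniteType (A ⧸ p) (B ⧸ J) :=
    Algebra.FiniteType.of_restrictScalars_finiteType A (A ⧸ p) (B ⧸ J)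
  haveI : Module.Finite (B ⧸ J) Mbar := Module.Finite.of_restrictScalars_finite B (B ⧸ J) Mbar
  obtain ⟨abar, habar, hG, -⟩ := GenFreeH8.main (R := A ⧸ p) (S := B ⧸ J) Mbar
  obtain ⟨a, rfl⟩ := Ideal.Quotient.mk_surjective abar
  refine ⟨a, fun ha => habar (Ideal.Quotient.eq_zero_iff_mem.mpr ha), ?_⟩
  haveI : IsScalarTower A (A ⧸ p) Mbar := by
    refine IsScalarTower.of_algebraMap_smul fun r x => ?_
    change (algebraMap (A ⧸ p) (B ⧸ J) (algebraMap A (A ⧸ p) r)) • x = _
    rw [← IsScalarTower.algebraMap_apply A (A ⧸ p) (B ⧸ J),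
      IsScalarTower.algebraMap_apply A B (B ⧸ J), algebraMap_smul, algebraMap_smul]
  have hsub : (p • ⊤ : Submodule A M) = (J • ⊤ : Submodule B M).restrictScalars A := by
    rw [hJ, Ideal.smul_restrictScalars, Submodule.restrictScalars_top]
  let eA : Mbar ≃ₗ[A] (A ⧸ p) ⊗[A] M :=
    (Submodule.Quotient.restrictScalarsEquiv A (J • ⊤ : Submodule B M)).symm ≪≫ₗ
      (Submodule.quotEquivOfEq _ _ hsub.symm) ≪≫ₗ
        (TensorProduct.quotTensorEquivQuotSMul M p).symm
  exact hG.of_equiv (eA.extendScalarsOfSurjective Ideal.Quotient.mk_surjective)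

/-- If `(A/p) ⊗ M` is generically free over `A/p` at `a`, then `(A/p) ⊗ M_T` is flat over `A/p`
for every submonoid `T` of `B` containing (the image of) `a`. -/
theorem flat_quot_tensor_localized (p : Ideal A) (a : A)
    (hG : GenFreeH8.GFW (A ⧸ p) ((A ⧸ p) ⊗[A] M) (Ideal.Quotient.mk p a))
    (T : Submonoid B) (haT : algebraMap A B a ∈ T) :
    Module.Flat (A ⧸ p) ((A ⧸ p) ⊗[A] LocalizedModule T M) := by
  set c : B := algebraMap A B a with hc
  let Mc := LocalizedModule (Submonoid.powers c) M
  let ι : M →ₗ[B] Mc := LocalizedModule.mkLinearMap (Submonoid.powers c) M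
  haveI : IsLocalizedModule (Submonoid.powers (algebraMap A B a)) ι :=
    inferInstanceAs (IsLocalizedModule (Submonoid.powers c)
      (LocalizedModule.mkLinearMap (Submonoid.powers c) M))
  haveI hιA : IsLocalizedModule (Submonoid.powers a) (ι.restrictScalars A) :=
    IsLocalizedModule.restrictScalars_powers a ι
  let g₁ : (A ⧸ p) ⊗[A] M →ₗ[A ⧸ p] (A ⧸ p) ⊗[A] Mc :=
    AlgebraTensorModule.lTensor (A ⧸ p) (A ⧸ p) (ι.restrictScalars A)
  haveI h1 : IsLocalizedModule (Submonoid.powers a)
      (AlgebraTensorModule.rTensor A (A ⧸ p) (ι.restrictScalars A)) := inferInstance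
  have h2 : g₁.restrictScalars A = (TensorProduct.comm A Mc (A ⧸ p)).toLinearMap ∘ₗ
      (AlgebraTensorModule.rTensor A (A ⧸ p) (ι.restrictScalars A)) ∘ₗ
        (TensorProduct.comm A (A ⧸ p) M).toLinearMap := by
    apply TensorProduct.ext'
    intro x y
    simp [g₁]
  haveI h3 : IsLocalizedModule (Submonoid.powers a) (g₁.restrictScalars A) := by
    rw [h2]
    infer_instance
  haveI h4 : IsLocalizedModule (Submonoid.powers (Ideal.Quotient.mk p a)) g₁ := by
    have := IsLocalizedModule.of_restrictScalars (Submonoid.powers a) (A := A ⧸ p) g₁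
    rwa [Algebra.algebraMapSubmonoid_powers] at this
  have hflat : Module.Flat (A ⧸ p) ((A ⧸ p) ⊗[A] Mc) := hG.flat g₁
  rw [Groth.Agent.Lib.LocalCrit7.flat_baseChange_iff_forall_ideal] at hflat ⊢
  intro 𝔞
  have hle : Submonoid.powers c ≤ T := by rw [Submonoid.powers_le]; exact haT
  exact lTensor_injective_of_isLocalizedModule T
    (IsLocalizedModule.liftOfLE (Submonoid.powers c) T hle ι (LocalizedModule.mkLinearMap T M)) _
    (hflat 𝔞)

/-- **Openness of the flat locus**, Noetherian case. -/
theorem isOpen_flatLocus [IsNoetherianRing A] [Algebra.FiniteType A B] [Module.Finite B M] :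
    IsOpen {q : PrimeSpectrum B | Module.Flat A (LocalizedModule q.asIdeal.primeCompl M)} := by
  haveI : IsNoetherianRing B := Algebra.FiniteType.isNoetherianRing A B
  refine Groth.Agent.Lib.NagataCritH3.isOpen_of_nagata _
    (stableUnderGeneralization_flatLocus M) ?_
  intro q hq
  haveI hqflat : Module.Flat A (LocalizedModule q.asIdeal.primeCompl M) := hq
  set p : Ideal A := q.asIdeal.comap (algebraMap A B) with hp
  haveI : p.IsPrime := Ideal.comap_isPrime _ _
  let ν : M ⊗[A] p →ₗ[B] M ⊗[A] A := AlgebraTensorModule.lTensor B M p.subtype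
  haveI : Module.Finite B (M ⊗[A] p) := finite_tensor M p
  haveI : IsNoetherian B (M ⊗[A] p) := isNoetherian_of_isNoetherianRing_of_finite B _
  have hfg : (LinearMap.ker ν).FG := IsNoetherian.noetherian _
  obtain ⟨g, hgq, hgker⟩ := exists_smul_ker_of_map_injective q.asIdeal.primeCompl
    (AlgebraTensorModule.rTensor A p (LocalizedModule.mkLinearMap q.asIdeal.primeCompl M))
    (AlgebraTensorModule.rTensor A A (LocalizedModule.mkLinearMap q.asIdeal.primeCompl M)) ν hfg
    (by
      rw [IsLocalizedModule.map_lTensor]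
      exact Module.Flat.lTensor_preserves_injective_linearMap
        (M := LocalizedModule q.asIdeal.primeCompl M) p.subtype Subtype.val_injective)
  obtain ⟨a, hap, hG⟩ := exists_gfw (A := A) (B := B) M p
  refine ⟨((PrimeSpectrum.basicOpen g ⊓ PrimeSpectrum.basicOpen (algebraMap A B a) :
    TopologicalSpace.Opens (PrimeSpectrum B)) : Set (PrimeSpectrum B)),
    TopologicalSpace.Opens.isOpen _, ⟨q, ⟨hgq, hap⟩, ?_⟩, ?_⟩
  · exact (PrimeSpectrum.mem_zeroLocus _ _).mpr le_rfl
  rintro Q ⟨⟨hgQ, haQ⟩, hQq⟩
  have hqQ : q.asIdeal ≤ Q.asIdeal := (PrimeSpectrum.mem_zeroLocus _ _).mp hQq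
  have hpQ : p.map (algebraMap A B) ≤ Q.asIdeal :=
    Ideal.map_le_iff_le_comap.mpr (Ideal.comap_mono hqQ)
  haveI : Module.Flat (A ⧸ p) ((A ⧸ p) ⊗[A] LocalizedModule Q.asIdeal.primeCompl M) :=
    flat_quot_tensor_localized M p a hG Q.asIdeal.primeCompl haQ
  show Module.Flat A (LocalizedModule Q.asIdeal.primeCompl M)
  refine Groth.Agent.Lib.LocalCrit3.flat_of_tor_of_flat_quot
    (S := Localization.AtPrime Q.asIdeal) p ?_ (LocalizedModule Q.asIdeal.primeCompl M) ?_
  · rw [IsScalarTower.algebraMap_eq A B (Localization.AtPrime Q.asIdeal), ← Ideal.map_map]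
    refine (Ideal.map_mono hpQ).trans ?_
    rw [Localization.AtPrime.map_eq_maximalIdeal]
    exact IsLocalRing.maximalIdeal_le_jacobson ⊥
  · rw [← LinearMap.lTensor_inj_iff_rTensor_inj]
    have h := map_injective_of_smul_ker Q.asIdeal.primeCompl
      (AlgebraTensorModule.rTensor A p (LocalizedModule.mkLinearMap Q.asIdeal.primeCompl M))
      (AlgebraTensorModule.rTensor A A (LocalizedModule.mkLinearMap Q.asIdeal.primeCompl M)) ν g
      hgQ hgker
    rw [IsLocalizedModule.map_lTensor] at h
    exact h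

end Main

end Groth.Agent.Lib.FlatLocusNoethH6
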