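import Mathlib
import Groth.Agent.Lib.McCoy_helper8

/-!
# Injectivity modulo the maximal ideal implies injectivity with flat cokernel

Let `R → S` be a local homomorphism of local rings with `S` Noetherian, `M` a flat `R`-module, `N` a
finite `S`-module and `u : N → M` an `R`-linear map with `k ⊗ u` injective.  Then for every proper
ideal `I` of `R`, `u x ∈ I M` implies `x ∈ I N`; hence `u` is injective with `R`-flat cokernel.
-/

namespace Groth.Agent.Lib.FlatFibre

open TensorProduct

universe u

section mu

variable {R : Type*} [CommRing R] (I : Ideal R) (N : Type*) [AddCommGroup N] [Module R N]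
  (M : Type*) [AddCommGroup M] [Module R M]

/-- The multiplication map `I ⊗ N → N`. -/
noncomputable def mu : I ⊗[R] N →ₗ[R] N :=
  (TensorProduct.lid R N).toLinearMap ∘ₗ (I.subtype.rTensor N)

variable {I N}

@[simp] lemma mu_tmul (i : I) (n : N) : mu I N (i ⊗ₜ n) = (i : R) • n := by
  simp [mu]

variable (I N)

lemma range_mu : LinearMap.range (mu I N) = I • (⊤ : Submodule R N) := by
  apply le_antisymm
  · rintro _ ⟨ξ, rfl⟩
    induction ξ using TensorProduct.induction_on with
    | zero => simp
    | tmul i n => rw [mu_tmul]; exact Submodule.smul_mem_smul i.2 Submodule.mem_top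
    | add x y hx hy => rw [map_add]; exact add_mem hx hy
  · rw [Submodule.smul_le]
    intro r hr n _
    exact ⟨(⟨r, hr⟩ : I) ⊗ₜ n, mu_tmul _ _⟩

lemma mu_injective_of_flat [Module.Flat R M] : Function.Injective (mu I M) := by
  unfold mu
  rw [LinearMap.coe_comp]
  exact (TensorProduct.lid R M).injective.comp
    (Module.Flat.rTensor_preserves_injective_linearMap _ (Submodule.injective_subtype I))

variable {N M}

lemma mu_naturality (v : N →ₗ[R] M) (ξ : I ⊗[R] N) :
    mu I M (v.lTensor I ξ) = v (mu I N ξ) := by
  induction ξ using TensorProduct.induction_on with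
  | zero => simp
  | tmul i n => simp
  | add x y hx hy => simp only [map_add, hx, hy]

lemma mu_inclusion {a b : Ideal R} (hba : b ≤ a) (η : b ⊗[R] M) :
    mu a M ((Submodule.inclusion hba).rTensor M η) = mu b M η := by
  induction η using TensorProduct.induction_on with
  | zero => simp
  | tmul i n => simp
  | add x y hx hy => simp only [map_add, hx, hy]

end mu

section quot

variable {R : Type*} [CommRing R] {N : Type*} [AddCommGroup N] [Module R N]
  {M : Type*} [AddCommGroup M] [Module R M]

lemma lTensor_quot_injective_iff (I : Ideal R) (v : N →ₗ[R] M) :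
    Function.Injective (v.lTensor (R ⧸ I)) ↔
      ∀ x : N, v x ∈ I • (⊤ : Submodule R M) → x ∈ I • (⊤ : Submodule R N) := by
  let eN := TensorProduct.quotTensorEquivQuotSMul N I
  let eM := TensorProduct.quotTensorEquivQuotSMul M I
  let vbar : (N ⧸ (I • (⊤ : Submodule R N))) →ₗ[R] (M ⧸ (I • (⊤ : Submodule R M))) :=
    Submodule.mapQ _ _ v (Submodule.smul_top_le_comap_smul_top I v)
  have hsq : ∀ t, eM (v.lTensor (R ⧸ I) t) = vbar (eN t) := by
    intro t
    induction t using TensorProduct.induction_on with
    | zero => simp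
    | tmul r n =>
      obtain ⟨r, rfl⟩ := Ideal.Quotient.mk_surjective r
      rw [LinearMap.lTensor_tmul]
      show TensorProduct.quotTensorEquivQuotSMul M I _ =
        vbar (TensorProduct.quotTensorEquivQuotSMul N I _)
      rw [TensorProduct.quotTensorEquivQuotSMul_mk_tmul,
        TensorProduct.quotTensorEquivQuotSMul_mk_tmul]
      show _ = Submodule.mapQ _ _ v _ (Submodule.Quotient.mk (r • n))
      rw [Submodule.mapQ_apply, map_smul]
    | add x y hx hy => simp only [map_add, hx, hy]
  constructor
  · intro hinj x hx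
    have h1 : vbar (Submodule.Quotient.mk x) = 0 := by
      show Submodule.mapQ _ _ v _ (Submodule.Quotient.mk x) = 0
      rw [Submodule.mapQ_apply, Submodule.Quotient.mk_eq_zero]; exact hx
    have h2 : eN.symm (Submodule.Quotient.mk x) = 0 := by
      apply hinj
      apply eM.injective
      rw [hsq, LinearEquiv.apply_symm_apply, h1, map_zero, map_zero]
    have h3 : (Submodule.Quotient.mk x : N ⧸ (I • (⊤ : Submodule R N))) = 0 := by
      have := congrArg eN h2
      rwa [LinearEquiv.apply_symm_apply, map_zero] at this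
    exact (Submodule.Quotient.mk_eq_zero _).mp h3
  · intro h
    rw [injective_iff_map_eq_zero]
    intro t ht
    have h1 : vbar (eN t) = 0 := by rw [← hsq, ht, map_zero]
    obtain ⟨x, hx⟩ := Submodule.Quotient.mk_surjective _ (eN t)
    rw [← hx] at h1
    have h2 : v x ∈ I • (⊤ : Submodule R M) := by
      have : Submodule.mapQ _ _ v (Submodule.smul_top_le_comap_smul_top I v)
          (Submodule.Quotient.mk x) = 0 := h1
      rwa [Submodule.mapQ_apply, Submodule.Quotient.mk_eq_zero] at this
    have h3 := h x h2
    have h4 : eN t = 0 := by rw [← hx, Submodule.Quotient.mk_eq_zero]; exact h3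
    exact eN.injective (by rw [h4, map_zero])

end quot

section local_

variable {R : Type*} [CommRing R] [IsLocalRing R]
  {N : Type*} [AddCommGroup N] [Module R N] {M : Type*} [AddCommGroup M] [Module R M]

/-- Tensoring with a module killed by the maximal ideal preserves injectivity of `k ⊗ v`. -/
lemma lTensor_injective_of_torsion (v : N →ₗ[R] M)
    (h : Function.Injective (v.lTensor (R ⧸ IsLocalRing.maximalIdeal R)))
    (V : Type*) [AddCommGroup V] [Module R V]
    (hV : Module.IsTorsionBySet R V (IsLocalRing.maximalIdeal R)) :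
    Function.Injective (v.lTensor V) := by
  letI : Field (R ⧸ IsLocalRing.maximalIdeal R) := Ideal.Quotient.field _
  letI : Module (R ⧸ IsLocalRing.maximalIdeal R) V := hV.module
  haveI : IsScalarTower R (R ⧸ IsLocalRing.maximalIdeal R) V := hV.isScalarTower
  let eN := TensorProduct.AlgebraTensorModule.cancelBaseChange R
    (R ⧸ IsLocalRing.maximalIdeal R) (R ⧸ IsLocalRing.maximalIdeal R) V N
  let eM := TensorProduct.AlgebraTensorModule.cancelBaseChange R
    (R ⧸ IsLocalRing.maximalIdeal R) (R ⧸ IsLocalRing.maximalIdeal R) V M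
  let vk := v.baseChange (R ⧸ IsLocalRing.maximalIdeal R)
  have hvk : Function.Injective vk := h
  have hinj : Function.Injective (vk.lTensor V) :=
    Module.Flat.lTensor_preserves_injective_linearMap vk hvk
  have hnat : ∀ t, eM (vk.lTensor V t) = v.lTensor V (eN t) := by
    intro t
    induction t using TensorProduct.induction_on with
    | zero => simp
    | tmul w s =>
      induction s using TensorProduct.induction_on with
      | zero => simp
      | tmul a n =>
        rw [LinearMap.lTensor_tmul]
        show eM (w ⊗ₜ (a ⊗ₜ v n)) = v.lTensor V (eN (w ⊗ₜ (a ⊗ₜ n)))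
        rw [TensorProduct.AlgebraTensorModule.cancelBaseChange_tmul,
          TensorProduct.AlgebraTensorModule.cancelBaseChange_tmul, LinearMap.lTensor_tmul]
      | add x y hx hy =>
        rw [TensorProduct.tmul_add, map_add, map_add, hx, hy, map_add, map_add]
    | add x y hx hy => simp only [map_add, hx, hy]
  rw [injective_iff_map_eq_zero]
  intro ξ hξ
  obtain ⟨t, rfl⟩ := eN.surjective ξ
  rw [← hnat] at hξ
  have h1 : vk.lTensor V t = 0 := eM.injective (by rw [hξ, map_zero])
  have h2 : t = 0 := hinj (by rw [h1, map_zero])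
  rw [h2, map_zero]

variable [Module.Flat R M]

/-- The inductive step. -/
theorem step (v : N →ₗ[R] M)
    (h : Function.Injective (v.lTensor (R ⧸ IsLocalRing.maximalIdeal R)))
    (a b : Ideal R) (hba : b ≤ a) (hm : IsLocalRing.maximalIdeal R * a ≤ b)
    (x : N) (hx : x ∈ a • (⊤ : Submodule R N)) (hvx : v x ∈ b • (⊤ : Submodule R M)) :
    x ∈ b • (⊤ : Submodule R N) := by
  obtain ⟨ξ, rfl⟩ : ∃ ξ, mu a N ξ = x := by
    rw [← LinearMap.mem_range, range_mu]; exact hx
  obtain ⟨η, hη⟩ : ∃ η, mu b M η = v (mu a N ξ) := by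
    rw [← LinearMap.mem_range, range_mu]; exact hvx
  have h1 : (v.lTensor a) ξ = ((Submodule.inclusion hba).rTensor M) η := by
    apply mu_injective_of_flat a M
    rw [mu_naturality, ← hη, mu_inclusion]
  let b' : Submodule R a := Submodule.comap a.subtype b
  have hπj : b'.mkQ ∘ₗ (Submodule.inclusion hba) = 0 := by
    ext c
    rw [LinearMap.comp_apply, LinearMap.zero_apply, Submodule.mkQ_apply,
      Submodule.Quotient.mk_eq_zero]
    exact c.2
  have h2 : (v.lTensor (a ⧸ b')) ((b'.mkQ.rTensor N) ξ) = 0 := by
    rw [← LinearMap.comp_apply, LinearMap.lTensor_comp_rTensor, ← LinearMap.rTensor_comp_lTensor,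
      LinearMap.comp_apply, h1, ← LinearMap.comp_apply, ← LinearMap.rTensor_comp, hπj,
      LinearMap.rTensor_zero, LinearMap.zero_apply]
  have htors : Module.IsTorsionBySet R (a ⧸ b') (IsLocalRing.maximalIdeal R) := by
    intro w r
    obtain ⟨c, rfl⟩ := b'.mkQ_surjective w
    rw [← map_smul, Submodule.mkQ_apply, Submodule.Quotient.mk_eq_zero]
    show ((r : R) • (c : R)) ∈ b
    exact hm (Ideal.mul_mem_mul r.2 c.2)
  have h3 : (b'.mkQ.rTensor N) ξ = 0 :=
    (lTensor_injective_of_torsion v h _ htors) (by rw [h2, map_zero])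
  have hex : Function.Exact b'.subtype b'.mkQ := LinearMap.exact_subtype_mkQ b'
  obtain ⟨ζ, hζ⟩ := (rTensor_exact N hex (Submodule.mkQ_surjective b') ξ).mp h3
  rw [← hζ]
  clear hζ h3 h2 h1 hη
  induction ζ using TensorProduct.induction_on with
  | zero => simp
  | tmul c n =>
    rw [LinearMap.rTensor_tmul, mu_tmul]
    exact Submodule.smul_mem_smul c.2 Submodule.mem_top
  | add x y hx hy => rw [map_add, map_add]; exact add_mem hx hy

/-- All the `𝔪`-adic approximations. -/
theorem approx (v : N →ₗ[R] M)
    (h : Function.Injective (v.lTensor (R ⧸ IsLocalRing.maximalIdeal R)))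
    (I : Ideal R) (x : N) (hvx : v x ∈ I • (⊤ : Submodule R M)) (n : ℕ) :
    x ∈ (IsLocalRing.maximalIdeal R ^ n ⊔ I) • (⊤ : Submodule R N) := by
  induction n with
  | zero =>
    rw [pow_zero, Ideal.one_eq_top, top_sup_eq, Submodule.top_smul]; trivial
  | succ n ih =>
    refine step v h _ _ (sup_le_sup_right (Ideal.pow_le_pow_right (Nat.le_succ n)) I) ?_ x ih
      (Submodule.smul_mono_left le_sup_right hvx)
    rw [Ideal.mul_sup]
    refine sup_le_sup ?_ Ideal.mul_le_right
    rw [pow_succ']

end local_

section main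

lemma smul_top_le_map_smul_top {R S : Type*} [CommRing R] [CommRing S] [Algebra R S]
    {N : Type*} [AddCommGroup N] [Module R N] [Module S N] [IsScalarTower R S N]
    (J : Ideal R) (x : N) (hx : x ∈ J • (⊤ : Submodule R N)) :
    x ∈ J.map (algebraMap R S) • (⊤ : Submodule S N) := by
  have := Ideal.smul_restrictScalars (R := R) (S := S) (M := N) J (⊤ : Submodule S N)
  rw [Submodule.restrictScalars_top] at this
  rw [← this] at hx
  exact hx

lemma map_smul_top_le_smul_top {R S : Type*} [CommRing R] [CommRing S] [Algebra R S]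
    {N : Type*} [AddCommGroup N] [Module R N] [Module S N] [IsScalarTower R S N]
    (J : Ideal R) (x : N)
    (hx : x ∈ J.map (algebraMap R S) • (⊤ : Submodule S N)) : x ∈ J • (⊤ : Submodule R N) := by
  have := Ideal.smul_restrictScalars (R := R) (S := S) (M := N) J (⊤ : Submodule S N)
  rw [Submodule.restrictScalars_top] at this
  rw [← this]
  exact hx

variable {R : Type*} [CommRing R] [IsLocalRing R]
  {M : Type*} [AddCommGroup M] [Module R M] [Module.Flat R M]
  {N : Type*} [AddCommGroup N] [Module R N]

/-- The core statement. -/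
theorem core (S : Type*) [CommRing S] [IsLocalRing S]
    [IsNoetherianRing S] [Algebra R S] [IsLocalHom (algebraMap R S)]
    [Module S N] [IsScalarTower R S N] [Module.Finite S N] (v : N →ₗ[R] M)
    (h : Function.Injective (v.lTensor (R ⧸ IsLocalRing.maximalIdeal R)))
    (I : Ideal R) (x : N) (hvx : v x ∈ I • (⊤ : Submodule R M)) :
    x ∈ I • (⊤ : Submodule R N) := by
  set mS : Ideal S := (IsLocalRing.maximalIdeal R).map (algebraMap R S) with hmS
  set IS : Ideal S := I.map (algebraMap R S) with hIS
  have hmS_le : mS ≤ IsLocalRing.maximalIdeal S :=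
    Ideal.map_le_iff_le_comap.mpr fun a ha => map_nonunit (algebraMap R S) a ha
  have hmS_ne : mS ≠ ⊤ := fun htop => by
    rw [htop] at hmS_le
    exact (IsLocalRing.maximalIdeal.isMaximal S).ne_top (top_le_iff.mp hmS_le)
  let N' := N ⧸ (IS • (⊤ : Submodule S N))
  have hkrull : (⨅ i : ℕ, mS ^ i • ⊤ : Submodule S N') = ⊥ :=
    Ideal.iInf_pow_smul_eq_bot_of_isLocalRing mS hmS_ne
  have hmem : (Submodule.Quotient.mk x : N') ∈ (⨅ i : ℕ, mS ^ i • ⊤ : Submodule S N') := by
    rw [Submodule.mem_iInf]
    intro n
    have h1 := approx v h I x hvx n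
    rw [Submodule.sup_smul] at h1
    obtain ⟨y, hy, z, hz, rfl⟩ := Submodule.mem_sup.mp h1
    have hz' : (Submodule.Quotient.mk z : N') = 0 := by
      rw [Submodule.Quotient.mk_eq_zero]
      exact smul_top_le_map_smul_top I z hz
    rw [Submodule.Quotient.mk_add, hz', add_zero]
    have hy' := smul_top_le_map_smul_top (S := S) _ y hy
    rw [Ideal.map_pow] at hy'
    have : Submodule.map (IS • (⊤ : Submodule S N)).mkQ (mS ^ n • (⊤ : Submodule S N)) ≤
        mS ^ n • (⊤ : Submodule S N') := by
      rw [Submodule.map_smul'']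
      exact Submodule.smul_mono le_rfl le_top
    exact this ⟨y, hy', rfl⟩
  rw [hkrull, Submodule.mem_bot, Submodule.Quotient.mk_eq_zero] at hmem
  exact map_smul_top_le_smul_top I x hmem

theorem injective_of_injective_mod (S : Type*) [CommRing S] [IsLocalRing S]
    [IsNoetherianRing S] [Algebra R S] [IsLocalHom (algebraMap R S)]
    [Module S N] [IsScalarTower R S N] [Module.Finite S N] (v : N →ₗ[R] M)
    (h : Function.Injective (v.lTensor (R ⧸ IsLocalRing.maximalIdeal R))) :
    Function.Injective v := by
  rw [injective_iff_map_eq_zero]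
  intro x hx
  have := core S v h ⊥ x (by rw [hx]; exact zero_mem _)
  rwa [Submodule.bot_smul, Submodule.mem_bot] at this

theorem flat_coker_of_injective_mod (S : Type*) [CommRing S] [IsLocalRing S]
    [IsNoetherianRing S] [Algebra R S] [IsLocalHom (algebraMap R S)]
    [Module S N] [IsScalarTower R S N] [Module.Finite S N] (v : N →ₗ[R] M)
    (h : Function.Injective (v.lTensor (R ⧸ IsLocalRing.maximalIdeal R))) :
    Module.Flat R (M ⧸ LinearMap.range v) := by
  apply Groth.Agent.Lib.McCoyH8.flat_coker
  intro I
  rw [lTensor_quot_injective_iff]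
  exact fun x hx => core S v h I x hx

end main

end Groth.Agent.Lib.FlatFibre
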