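import Mathlib
import Groth.Agent.Lib.LocalCrit2_helper9
import Groth.Agent.Lib.FlatFibre_helper9

/-!
# Universal injectivity for maps into a flat module
-/

namespace Groth.Agent.Lib.LocalCrit9

open TensorProduct Groth.Agent.Lib.LocalCrit2

universe u

section

variable {R : Type*} [CommRing R] {M : Type*} [AddCommGroup M] [Module R M]

lemma exists_fg_le_of_mem_smul_top (I : Ideal R) (y : M) (hy : y ∈ I • (⊤ : Submodule R M)) :
    ∃ I₀ : Ideal R, I₀.FG ∧ I₀ ≤ I ∧ y ∈ I₀ • (⊤ : Submodule R M) := by
  refine Submodule.smul_induction_on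
    (p := fun y => ∃ I₀ : Ideal R, I₀.FG ∧ I₀ ≤ I ∧ y ∈ I₀ • (⊤ : Submodule R M)) hy ?_ ?_
  · intro a ha m _
    refine ⟨Ideal.span {a}, ⟨{a}, by simp⟩, ?_, ?_⟩
    · rw [Ideal.span_le]; simpa using ha
    · exact Submodule.smul_mem_smul (Ideal.subset_span rfl) Submodule.mem_top
  · rintro y z ⟨I₀, h0, h0', hy⟩ ⟨I₁, h1, h1', hz⟩
    refine ⟨I₀ ⊔ I₁, Submodule.FG.sup h0 h1, sup_le h0' h1', ?_⟩
    exact add_mem (Submodule.smul_mono le_sup_left le_rfl hy)
      (Submodule.smul_mono le_sup_right le_rfl hz)

end

/-- If `f : M → M'` is injective with flat cokernel, then `N ⊗ f` is injective for all `N`. -/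
theorem lTensor_injective_of_flat_coker {R : Type u} [CommRing R] {M M' : Type*}
    [AddCommGroup M] [Module R M] [AddCommGroup M'] [Module R M'] (f : M →ₗ[R] M')
    (hf : Function.Injective f) [Module.Flat R (M' ⧸ LinearMap.range f)]
    (N : Type u) [AddCommGroup N] [Module R N] : Function.Injective (f.lTensor N) := by
  obtain ⟨p, hp⟩ : ∃ p : (N →₀ R) →ₗ[R] N, Function.Surjective p :=
    ⟨Finsupp.linearCombination R id, Finsupp.linearCombination_id_surjective R N⟩
  exact T1_quot (N' := LinearMap.ker p) (N := N →₀ R) (N'' := N) f (LinearMap.range f).mkQ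
    (LinearMap.ker p).subtype p (LinearMap.exact_map_mkQ_range f)
    (Submodule.mkQ_surjective _) (LinearMap.exact_subtype_ker_map p) hp
    (Module.Flat.lTensor_preserves_injective_linearMap f hf)
    (Module.Flat.rTensor_preserves_injective_linearMap _ (Submodule.injective_subtype _))

/-- A map into a flat module is universally injective iff it is injective modulo every finitely
generated ideal. -/
theorem univInj_of_forall_fg {R : Type u} [CommRing R] {M M' : Type*}
    [AddCommGroup M] [Module R M] [AddCommGroup M'] [Module R M'] [Module.Flat R M']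
    (f : M →ₗ[R] M')
    (h : ∀ I : Ideal R, I.FG → Function.Injective (f.rTensor (R ⧸ I)))
    (N : Type u) [AddCommGroup N] [Module R N] : Function.Injective (f.rTensor N) := by
  have h1 : ∀ I : Ideal R, Function.Injective (f.lTensor (R ⧸ I)) := by
    intro I
    rw [Groth.Agent.Lib.FlatFibre.lTensor_quot_injective_iff]
    intro x hx
    obtain ⟨I₀, hfg, hle, hx0⟩ := exists_fg_le_of_mem_smul_top I (f x) hx
    have h0 := (LinearMap.lTensor_inj_iff_rTensor_inj _ _).mpr (h I₀ hfg)
    rw [Groth.Agent.Lib.FlatFibre.lTensor_quot_injective_iff] at h0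
    exact Submodule.smul_mono hle le_rfl (h0 x hx0)
  have hf : Function.Injective f := by
    have h0 := h1 ⊥
    rw [Groth.Agent.Lib.FlatFibre.lTensor_quot_injective_iff] at h0
    rw [injective_iff_map_eq_zero]
    intro x hx
    have := h0 x (by rw [hx]; exact zero_mem _)
    rw [Submodule.bot_smul] at this
    exact this
  haveI := Groth.Agent.Lib.McCoyH8.flat_coker f h1
  rw [← LinearMap.lTensor_inj_iff_rTensor_inj]
  exact lTensor_injective_of_flat_coker f hf N

end Groth.Agent.Lib.LocalCrit9
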