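import Mathlib
import Groth.Agent.Lib.FlatLocusNoeth_helper6
import Groth.Agent.Lib.LocalCrit9_helper9

/-!
# Pointwise descent of flatness, part A: abstract lemmas

* `isLocalizedModule_lTensor`, `isLocalizedModule_lTensor_algebra`: tensoring a localization map.
* `L2a`: if `F` is flat and the cokernel of `f : K → F` is flat after inverting `a`, then the kernel
  of `X ⊗ f` is, up to a power of `a`, generated by `X ⊗ ker f`.
* `chase_fwd`, `chase_rev`: two diagram chases relating `ker (M ⊗ J → M)` and `K ∩ JF / JK`.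
* elementwise versions of the kernel/localization lemmas.
-/

set_option autoImplicit false
open TensorProduct

namespace Groth.Agent.Lib.FlatDescAH6

universe u

section LT

variable {R : Type*} [CommRing R] (S : Submonoid R) {M M' : Type*} [AddCommGroup M] [Module R M]
  [AddCommGroup M'] [Module R M']

/-- `X ⊗ M → X ⊗ S⁻¹M` is a localization. -/
theorem isLocalizedModule_lTensor (g : M →ₗ[R] M') [IsLocalizedModule S g]
    (X : Type*) [AddCommGroup X] [Module R X] : IsLocalizedModule S (g.lTensor X) := by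
  haveI h1 : IsLocalizedModule S (AlgebraTensorModule.rTensor R X g) := inferInstance
  have h2 : g.lTensor X = (TensorProduct.comm R M' X).toLinearMap ∘ₗ
      (AlgebraTensorModule.rTensor R X g) ∘ₗ (TensorProduct.comm R X M).toLinearMap := by
    apply TensorProduct.ext'
    intro x y
    simp
  rw [h2]
  infer_instance

/-- `C ⊗ M → C ⊗ S⁻¹M` is a localization of `C`-modules. -/
theorem isLocalizedModule_lTensor_algebra (g : M →ₗ[R] M') [IsLocalizedModule S g]
    (C : Type*) [CommRing C] [Algebra R C] :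
    IsLocalizedModule (Algebra.algebraMapSubmonoid C S) (AlgebraTensorModule.lTensor C C g) := by
  haveI : IsLocalizedModule S ((AlgebraTensorModule.lTensor C C g).restrictScalars R) := by
    have : (AlgebraTensorModule.lTensor C C g).restrictScalars R = g.lTensor C := by
      apply TensorProduct.ext'
      intro x y
      simp
    rw [this]
    exact isLocalizedModule_lTensor S g C
  exact IsLocalizedModule.of_restrictScalars S (A := C) _

end LT

section L2

/-- If `F` is flat and the cokernel of `f : K → F` becomes flat after inverting `a`, then every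
element of the kernel of `X ⊗ f` lies, after multiplication by a power of `a`, in the image of
`X ⊗ ker f`. -/
theorem L2a {R : Type u} [CommRing R] (a : R) {K F : Type*} [AddCommGroup K] [Module R K]
    [AddCommGroup F] [Module R F] (f : K →ₗ[R] F)
    [hM : Module.Flat R (LocalizedModule (Submonoid.powers a) (F ⧸ LinearMap.range f))]
    (X : Type u) [AddCommGroup X] [Module R X] (ξ : X ⊗[R] K) (hξ : f.lTensor X ξ = 0) :
    ∃ N : ℕ, a ^ N • ξ ∈ LinearMap.range ((LinearMap.ker f).subtype.lTensor X) := by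
  set S := Submonoid.powers a with hS
  set Q := LinearMap.range f with hQ
  let fQ : K →ₗ[R] Q := f.rangeRestrict
  have hcomp : Q.subtype ∘ₗ fQ = f := LinearMap.subtype_comp_codRestrict _ _ _
  have hη : Q.subtype.lTensor X (fQ.lTensor X ξ) = 0 := by
    rw [← LinearMap.comp_apply, ← LinearMap.lTensor_comp, hcomp]
    exact hξ
  let mQ := LocalizedModule.mkLinearMap S Q
  let mF := LocalizedModule.mkLinearMap S F
  let mM := LocalizedModule.mkLinearMap S (F ⧸ Q)
  let ι' := IsLocalizedModule.map S mQ mF Q.subtype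
  let π' := IsLocalizedModule.map S mF mM Q.mkQ
  have hι' : Function.Injective ι' :=
    IsLocalizedModule.map_injective S mQ mF Q.subtype (Submodule.injective_subtype Q)
  have hπ' : Function.Surjective π' :=
    IsLocalizedModule.map_surjective S mF mM Q.mkQ (Submodule.mkQ_surjective Q)
  have hex : Function.Exact ι' π' :=
    IsLocalizedModule.map_exact S mQ mF mM Q.subtype Q.mkQ (LinearMap.exact_subtype_mkQ Q)
  haveI : Module.Flat R (LocalizedModule S F ⧸ LinearMap.range ι') :=
    Module.Flat.of_linearEquiv (hex.linearEquivOfSurjective hπ')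
  have hinj : Function.Injective (ι'.lTensor X) :=
    Groth.Agent.Lib.LocalCrit9.lTensor_injective_of_flat_coker ι' hι' X
  have hsq : ι' ∘ₗ mQ = mF ∘ₗ Q.subtype := IsLocalizedModule.map_comp S mQ mF Q.subtype
  have h0 : mQ.lTensor X (fQ.lTensor X ξ) = 0 := by
    apply hinj
    rw [map_zero, ← LinearMap.comp_apply, ← LinearMap.lTensor_comp, hsq, LinearMap.lTensor_comp,
      LinearMap.comp_apply, hη, map_zero]
  haveI := isLocalizedModule_lTensor S mQ X
  obtain ⟨⟨s, hs⟩, hs0⟩ := (IsLocalizedModule.eq_zero_iff S (mQ.lTensor X)).mp h0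
  obtain ⟨N, rfl⟩ := (Submonoid.mem_powers_iff s a).mp hs
  refine ⟨N, ?_⟩
  have hs0' : a ^ N • (fQ.lTensor X ξ) = 0 := hs0
  have hexK : Function.Exact (LinearMap.ker f).subtype fQ := by
    intro y
    constructor
    · intro hy
      refine ⟨⟨y, ?_⟩, rfl⟩
      have := congrArg Subtype.val hy
      simpa [fQ] using this
    · rintro ⟨⟨z, hz⟩, rfl⟩
      apply Subtype.ext
      simpa [fQ] using hz
  have hsurj : Function.Surjective fQ := LinearMap.surjective_rangeRestrict f
  have hexX := lTensor_exact X hexK hsurj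
  exact (hexX _).mp (by rw [map_smul, hs0'])

end L2

section Chase

variable {P : Type*} [CommRing P] {K₁ F₁ M₁ K₂ F₂ M₂ : Type*}
  [AddCommGroup K₁] [Module P K₁] [AddCommGroup F₁] [Module P F₁] [AddCommGroup M₁] [Module P M₁]
  [AddCommGroup K₂] [Module P K₂] [AddCommGroup F₂] [Module P F₂] [AddCommGroup M₂] [Module P M₂]
  (α₁ : K₁ →ₗ[P] F₁) (β₁ : F₁ →ₗ[P] M₁) (α₂ : K₂ →ₗ[P] F₂) (β₂ : F₂ →ₗ[P] M₂)
  (vK : K₁ →ₗ[P] K₂) (vF : F₁ →ₗ[P] F₂) (vM : M₁ →ₗ[P] M₂)

include α₁ β₁ α₂ β₂ vK vF vM in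
/-- Forward chase: if `g` sends `range α₂ ∩ range vF` into `α₂ (range vK)`, then `g` kills
`ker vM`. -/
theorem chase_fwd (h1 : Function.Exact α₁ β₁) (hs1 : Function.Surjective β₁)
    (h2 : Function.Exact α₂ β₂) (hF : Function.Injective vF)
    (cK : ∀ x, vF (α₁ x) = α₂ (vK x)) (cM : ∀ x, vM (β₁ x) = β₂ (vF x))
    (ξ : M₁) (hξ : vM ξ = 0) (g : P)
    (hg : ∀ φ, φ ∈ LinearMap.range α₂ → φ ∈ LinearMap.range vF → ∃ θ, g • φ = α₂ (vK θ)) :
    g • ξ = 0 := by
  obtain ⟨ξ', rfl⟩ := hs1 ξ
  have hφ : vF ξ' ∈ LinearMap.range α₂ := (h2 _).mp (by rw [← cM]; exact hξ)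
  obtain ⟨θ, hθ⟩ := hg (vF ξ') hφ ⟨ξ', rfl⟩
  have : g • ξ' = α₁ θ := by
    apply hF
    rw [map_smul, hθ, cK]
  rw [← map_smul, this]
  exact h1.apply_apply_eq_zero θ

include α₁ β₁ α₂ β₂ vK vF vM in
/-- Reverse chase. -/
theorem chase_rev (h1 : Function.Exact α₁ β₁) (h2 : Function.Exact α₂ β₂)
    (cK : ∀ x, vF (α₁ x) = α₂ (vK x)) (cM : ∀ x, vM (β₁ x) = β₂ (vF x))
    (φ : F₂) (hφ1 : φ ∈ LinearMap.range α₂) (hφ2 : φ ∈ LinearMap.range vF) :
    ∃ ξ : M₁, vM ξ = 0 ∧ ∀ s : P, s • ξ = 0 → ∃ θ, s • φ = α₂ (vK θ) := by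
  obtain ⟨ξ', rfl⟩ := hφ2
  refine ⟨β₁ ξ', ?_, ?_⟩
  · rw [cM]
    exact (h2 _).mpr hφ1
  · intro s hs
    rw [← map_smul] at hs
    obtain ⟨θ, hθ⟩ := (h1 _).mp hs
    refine ⟨θ, ?_⟩
    rw [← map_smul, ← hθ, cK]

end Chase

section Ker

variable {B : Type*} [CommRing B] (T : Submonoid B) {X Y X' Y' : Type*}
  [AddCommGroup X] [Module B X] [AddCommGroup Y] [Module B Y]
  [AddCommGroup X'] [Module B X'] [AddCommGroup Y'] [Module B Y']
  (f : X →ₗ[B] X') [IsLocalizedModule T f] (f' : Y →ₗ[B] Y') [IsLocalizedModule T f']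
  (φ : X →ₗ[B] Y)

/-- If every element of the kernel of `φ` is killed by an element of `T`, the localized map is
injective. -/
theorem map_injective_of_forall_smul_ker (hker : ∀ x, φ x = 0 → ∃ g ∈ T, g • x = 0) :
    Function.Injective (IsLocalizedModule.map T f f' φ) := by
  rw [injective_iff_map_eq_zero]
  intro x' hx'
  obtain ⟨⟨x, s⟩, hxs⟩ := IsLocalizedModule.surj T f x'
  have hxs' : (s : B) • x' = f x := hxs
  have h1 : f' (φ x) = 0 := by
    rw [← IsLocalizedModule.map_apply T f f' φ x, ← hxs', map_smul, hx', smul_zero]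
  obtain ⟨t, ht⟩ := (IsLocalizedModule.eq_zero_iff T f').mp h1
  have ht' : (t : B) • φ x = 0 := ht
  have h2 : φ ((t : B) • x) = 0 := by rw [map_smul]; exact ht'
  obtain ⟨g, hg, h3⟩ := hker _ h2
  have h4 : f x = 0 := by
    rw [IsLocalizedModule.eq_zero_iff T f]
    refine ⟨⟨g, hg⟩ * t, ?_⟩
    change (g * (t : B)) • x = 0
    rw [mul_smul]; exact h3
  rw [h4] at hxs'
  refine (IsLocalizedModule.smul_inj f s x' 0).mp ?_
  rw [smul_zero]
  exact hxs'

/-- If the localized map is injective, every element of `ker φ` is killed by an element of `T`. -/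
theorem exists_smul_of_map_injective
    (hinj : Function.Injective (IsLocalizedModule.map T f f' φ)) (x : X) (hx : φ x = 0) :
    ∃ g ∈ T, g • x = 0 := by
  have h1 : IsLocalizedModule.map T f f' φ (f x) = 0 := by
    rw [IsLocalizedModule.map_apply, hx, map_zero]
  have h2 : f x = 0 := hinj (h1.trans (map_zero _).symm)
  obtain ⟨t, ht⟩ := (IsLocalizedModule.eq_zero_iff T f).mp h2
  exact ⟨t, t.2, ht⟩

end Ker

section Fibre

variable {A B : Type u} [CommRing A] [CommRing B] [Algebra A B]
  (M : Type u) [AddCommGroup M] [Module B M] [Module A M] [IsScalarTower A B M]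

/-- If `(A/I) ⊗ M_c` is flat over `A/I`, then so is `(A/I) ⊗ M_T` for every submonoid `T ∋ c`. -/
theorem flat_quot_tensor_localized' (I : Ideal A) (c : B)
    (h : Module.Flat (A ⧸ I) ((A ⧸ I) ⊗[A] LocalizedModule (Submonoid.powers c) M))
    (T : Submonoid B) (hc : c ∈ T) :
    Module.Flat (A ⧸ I) ((A ⧸ I) ⊗[A] LocalizedModule T M) := by
  rw [Groth.Agent.Lib.LocalCrit7.flat_baseChange_iff_forall_ideal] at h ⊢
  intro 𝔞
  have hle : Submonoid.powers c ≤ T := by rw [Submonoid.powers_le]; exact hc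
  exact Groth.Agent.Lib.FlatLocusNoethH6.lTensor_injective_of_isLocalizedModule T
    (IsLocalizedModule.liftOfLE (Submonoid.powers c) T hle
      (LocalizedModule.mkLinearMap (Submonoid.powers c) M) (LocalizedModule.mkLinearMap T M)) _
    (h 𝔞)

end Fibre

end Groth.Agent.Lib.FlatDescAH6
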