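import Mathlib
import Groth.Agent.Lib.FlatDescA_helper6

/-!
# Pointwise descent of flatness, part B: structure of `Tor₁(A'/p₀A', A' ⊗ M₀)`

`A₀`-module setting: `g₀ : F₀ → M₀` surjective with kernel `K₀`, `p₀` an ideal of `A₀` such that
`M₀/p₀M₀` is generically free over `A₀/p₀` at `a₀`.  For every `A₀`-algebra `A'`, an element `ξ` of
`A' ⊗ K₀` whose image in `A' ⊗ F₀` lies in `p₀ (A' ⊗ F₀)` satisfies
`a₀^N ξ ∈ im (A' ⊗ (K₀ ∩ p₀F₀)) + p₀ (A' ⊗ K₀)` for some `N`.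
-/

set_option autoImplicit false
open TensorProduct

namespace Groth.Agent.Lib.FlatDescBH6

universe u

section Step2

variable {A₀ : Type*} [CommRing A₀] (p₀ : Ideal A₀) (A' : Type*) [CommRing A'] [Algebra A₀ A']

/-- The quotient map `A' → A'/p₀A'` as an `A₀`-linear map. -/
noncomputable def piQ : A' →ₗ[A₀] (A' ⧸ p₀.map (algebraMap A₀ A')) :=
  (Ideal.Quotient.mkₐ A₀ (p₀.map (algebraMap A₀ A'))).toLinearMap

theorem piQ_surjective : Function.Surjective (piQ p₀ A') :=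
  Ideal.Quotient.mkₐ_surjective A₀ _

variable (N₀ : Type*) [AddCommGroup N₀] [Module A₀ N₀]

theorem smul_top_eq : (p₀ • ⊤ : Submodule A₀ (A' ⊗[A₀] N₀)) =
    (p₀.map (algebraMap A₀ A') • ⊤ : Submodule A' (A' ⊗[A₀] N₀)).restrictScalars A₀ := by
  rw [Ideal.smul_restrictScalars, Submodule.restrictScalars_top]

/-- `p₀ (A' ⊗ N₀)` is the kernel of `A' ⊗ N₀ → (A'/p₀A') ⊗ N₀`. -/
theorem mem_smul_top_iff (x : A' ⊗[A₀] N₀) :
    x ∈ (p₀ • ⊤ : Submodule A₀ (A' ⊗[A₀] N₀)) ↔ (piQ p₀ A').rTensor N₀ x = 0 := by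
  set J := p₀.map (algebraMap A₀ A') with hJ
  have hex : Function.Exact (J.subtype.restrictScalars A₀) (piQ p₀ A') := by
    intro y
    rw [show piQ p₀ A' y = Ideal.Quotient.mk J y from rfl, Ideal.Quotient.eq_zero_iff_mem]
    constructor
    · intro hy; exact ⟨⟨y, hy⟩, rfl⟩
    · rintro ⟨z, rfl⟩; exact z.2
  have hexT := rTensor_exact N₀ hex (piQ_surjective p₀ A')
  rw [hexT x, smul_top_eq, Submodule.restrictScalars_mem]
  constructor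
  · intro hx
    change x ∈ LinearMap.range ((J.subtype.restrictScalars A₀).rTensor N₀)
    refine Submodule.smul_induction_on hx ?_ ?_
    · intro j hj y hy'
      clear hy'
      induction y using TensorProduct.induction_on with
      | zero => rw [smul_zero]; exact zero_mem _
      | tmul a' n =>
        refine ⟨(⟨j * a', J.mul_mem_right _ hj⟩ : J) ⊗ₜ n, ?_⟩
        simp [TensorProduct.smul_tmul']
      | add y z hy hz => rw [smul_add]; exact add_mem hy hz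
    · intro y z hy hz; exact add_mem hy hz
  · rintro ⟨w, rfl⟩
    induction w using TensorProduct.induction_on with
    | zero => simp
    | tmul j n =>
      have : (J.subtype.restrictScalars A₀).rTensor N₀ (j ⊗ₜ n) = (j : A') • ((1 : A') ⊗ₜ[A₀] n) := by
        simp [TensorProduct.smul_tmul']
      rw [this]
      exact Submodule.smul_mem_smul j.2 Submodule.mem_top
    | add y z hy hz => rw [map_add]; exact add_mem hy hz

end Step2

section L2A0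

variable {A₀ : Type u} [CommRing A₀] (p₀ : Ideal A₀) (a₀ : A₀) {K₀ T₀ F₀ M₀ : Type u}
  [AddCommGroup K₀] [Module A₀ K₀] [AddCommGroup T₀] [Module A₀ T₀]
  [AddCommGroup F₀] [Module A₀ F₀] [AddCommGroup M₀] [Module A₀ M₀]
  (ι : K₀ →ₗ[A₀] F₀) (g₀ : F₀ →ₗ[A₀] M₀) (j : T₀ →ₗ[A₀] K₀)

theorem exists_one_tmul (N₀ : Type*) [AddCommGroup N₀] [Module A₀ N₀]
    (y : (A₀ ⧸ p₀) ⊗[A₀] N₀) : ∃ n : N₀, y = (1 : A₀ ⧸ p₀) ⊗ₜ[A₀] n := by
  induction y using TensorProduct.induction_on with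
  | zero => exact ⟨0, by simp⟩
  | tmul b n =>
    obtain ⟨r, rfl⟩ := Ideal.Quotient.mk_surjective b
    refine ⟨r • n, ?_⟩
    rw [← TensorProduct.smul_tmul, ← Algebra.algebraMap_eq_smul_one]
    rfl
  | add y z hy hz =>
    obtain ⟨n, rfl⟩ := hy
    obtain ⟨m, rfl⟩ := hz
    exact ⟨n + m, by rw [TensorProduct.tmul_add]⟩

theorem L2a_base (hex₀ : Function.Exact ι g₀) (hg₀ : Function.Surjective g₀)
    (hT : ∀ k, ι k ∈ (p₀ • ⊤ : Submodule A₀ F₀) → k ∈ LinearMap.range j)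
    (hG : GenFreeH8.GFW (A₀ ⧸ p₀) ((A₀ ⧸ p₀) ⊗[A₀] M₀) (Ideal.Quotient.mk p₀ a₀))
    (X : Type u) [AddCommGroup X] [Module A₀ X] [Module (A₀ ⧸ p₀) X]
    [IsScalarTower A₀ (A₀ ⧸ p₀) X]
    (ξ : X ⊗[A₀] K₀) (hξ : ι.lTensor X ξ = 0) :
    ∃ (N : ℕ) (ζ : X ⊗[A₀] T₀), a₀ ^ N • ξ = j.lTensor X ζ := by
  let fbar : (A₀ ⧸ p₀) ⊗[A₀] K₀ →ₗ[A₀ ⧸ p₀] (A₀ ⧸ p₀) ⊗[A₀] F₀ :=
    AlgebraTensorModule.lTensor (A₀ ⧸ p₀) (A₀ ⧸ p₀) ι
  let gbar : (A₀ ⧸ p₀) ⊗[A₀] F₀ →ₗ[A₀ ⧸ p₀] (A₀ ⧸ p₀) ⊗[A₀] M₀ :=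
    AlgebraTensorModule.lTensor (A₀ ⧸ p₀) (A₀ ⧸ p₀) g₀
  let jbar : (A₀ ⧸ p₀) ⊗[A₀] T₀ →ₗ[A₀ ⧸ p₀] (A₀ ⧸ p₀) ⊗[A₀] K₀ :=
    AlgebraTensorModule.lTensor (A₀ ⧸ p₀) (A₀ ⧸ p₀) j
  have hex : Function.Exact fbar gbar := lTensor_exact (A₀ ⧸ p₀) hex₀ hg₀
  have hsurj : Function.Surjective gbar := LinearMap.lTensor_surjective (A₀ ⧸ p₀) hg₀
  let e : ((A₀ ⧸ p₀) ⊗[A₀] F₀ ⧸ LinearMap.range fbar) ≃ₗ[A₀ ⧸ p₀] (A₀ ⧸ p₀) ⊗[A₀] M₀ :=
    hex.linearEquivOfSurjective hsurj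
  have hG' := hG.of_equiv e.symm
  haveI : Module.Flat (A₀ ⧸ p₀) (LocalizedModule (Submonoid.powers (Ideal.Quotient.mk p₀ a₀))
      ((A₀ ⧸ p₀) ⊗[A₀] F₀ ⧸ LinearMap.range fbar)) :=
    hG'.flat (LocalizedModule.mkLinearMap _ _)
  let cK := AlgebraTensorModule.cancelBaseChange A₀ (A₀ ⧸ p₀) (A₀ ⧸ p₀) X K₀
  let cF := AlgebraTensorModule.cancelBaseChange A₀ (A₀ ⧸ p₀) (A₀ ⧸ p₀) X F₀
  let cT := AlgebraTensorModule.cancelBaseChange A₀ (A₀ ⧸ p₀) (A₀ ⧸ p₀) X T₀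
  have nat1 : ∀ w, cF (fbar.lTensor X w) = ι.lTensor X (cK w) := by
    intro w
    induction w using TensorProduct.induction_on with
    | zero => simp
    | tmul x y =>
      induction y using TensorProduct.induction_on with
      | zero => simp
      | tmul b k => simp [fbar, cK, cF]
      | add y z hy hz => simp only [TensorProduct.tmul_add, map_add, hy, hz]
    | add w w' h h' => simp only [map_add, h, h']
  have nat2 : ∀ w, cK (jbar.lTensor X w) = j.lTensor X (cT w) := by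
    intro w
    induction w using TensorProduct.induction_on with
    | zero => simp
    | tmul x y =>
      induction y using TensorProduct.induction_on with
      | zero => simp
      | tmul b k => simp [jbar, cK, cT]
      | add y z hy hz => simp only [TensorProduct.tmul_add, map_add, hy, hz]
    | add w w' h h' => simp only [map_add, h, h']
  have h0 : fbar.lTensor X (cK.symm ξ) = 0 := by
    apply cF.injective
    rw [nat1, LinearEquiv.apply_symm_apply, map_zero]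
    exact hξ
  obtain ⟨N, w, hw⟩ := Groth.Agent.Lib.FlatDescAH6.L2a (Ideal.Quotient.mk p₀ a₀) fbar X
    (cK.symm ξ) h0
  -- kernel of `fbar`
  have hker : ∀ y : (A₀ ⧸ p₀) ⊗[A₀] K₀, fbar y = 0 → ∃ z, jbar z = y := by
    intro y hy
    obtain ⟨k, rfl⟩ := exists_one_tmul p₀ K₀ y
    have h1 : (1 : A₀ ⧸ p₀) ⊗ₜ[A₀] (ι k) = 0 := by simpa [fbar] using hy
    have h2 := congrArg (TensorProduct.quotTensorEquivQuotSMul F₀ p₀) h1
    rw [TensorProduct.quotTensorEquivQuotSMul_mk_one_tmul, map_zero,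
      Submodule.Quotient.mk_eq_zero] at h2
    obtain ⟨t, rfl⟩ := hT k h2
    refine ⟨(1 : A₀ ⧸ p₀) ⊗ₜ[A₀] t, ?_⟩
    simp [jbar]
  have hrange : ∀ w : X ⊗[A₀ ⧸ p₀] LinearMap.ker fbar,
      ∃ ζ', (LinearMap.ker fbar).subtype.lTensor X w = jbar.lTensor X ζ' := by
    intro w
    induction w using TensorProduct.induction_on with
    | zero => exact ⟨0, by simp⟩
    | tmul x y =>
      obtain ⟨z, hz⟩ := hker y.1 y.2
      exact ⟨x ⊗ₜ z, by simp [hz]⟩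
    | add w w' h h' =>
      obtain ⟨ζ₁, h₁⟩ := h
      obtain ⟨ζ₂, h₂⟩ := h'
      exact ⟨ζ₁ + ζ₂, by rw [map_add, map_add, h₁, h₂]⟩
  obtain ⟨ζ', hζ'⟩ := hrange w
  refine ⟨N, cT ζ', ?_⟩
  have h3 : cK ((Ideal.Quotient.mk p₀ a₀) ^ N • cK.symm ξ) = j.lTensor X (cT ζ') := by
    rw [← hw, hζ', nat2]
  rw [map_smul, LinearEquiv.apply_symm_apply] at h3
  rw [← h3, ← map_pow, ← Ideal.Quotient.algebraMap_eq, algebraMap_smul]

/-- Structure of the obstruction after base change, `A₀`-module form. -/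
theorem core_A (hex₀ : Function.Exact ι g₀) (hg₀ : Function.Surjective g₀)
    (hT : ∀ k, ι k ∈ (p₀ • ⊤ : Submodule A₀ F₀) → k ∈ LinearMap.range j)
    (hG : GenFreeH8.GFW (A₀ ⧸ p₀) ((A₀ ⧸ p₀) ⊗[A₀] M₀) (Ideal.Quotient.mk p₀ a₀))
    (A' : Type u) [CommRing A'] [Algebra A₀ A']
    (ξ : A' ⊗[A₀] K₀)
    (hξ : ι.lTensor A' ξ ∈ (p₀ • ⊤ : Submodule A₀ (A' ⊗[A₀] F₀))) :
    ∃ (N : ℕ) (ζ : A' ⊗[A₀] T₀),
      a₀ ^ N • ξ - j.lTensor A' ζ ∈ (p₀ • ⊤ : Submodule A₀ (A' ⊗[A₀] K₀)) := by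
  set π := piQ p₀ A' with hπ
  have h1 : ι.lTensor _ (π.rTensor K₀ ξ) = 0 := by
    rw [← LinearMap.comp_apply, LinearMap.lTensor_comp_rTensor, ← LinearMap.rTensor_comp_lTensor,
      LinearMap.comp_apply]
    exact (mem_smul_top_iff p₀ A' F₀ _).mp hξ
  obtain ⟨N, ζbar, hζ⟩ := L2a_base p₀ a₀ ι g₀ j hex₀ hg₀ hT hG (A' ⧸ p₀.map (algebraMap A₀ A'))
    (π.rTensor K₀ ξ) h1
  obtain ⟨ζ, rfl⟩ := LinearMap.rTensor_surjective T₀ (piQ_surjective p₀ A') ζbar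
  refine ⟨N, ζ, ?_⟩
  rw [mem_smul_top_iff, map_sub, map_smul, hζ, sub_eq_zero, ← LinearMap.comp_apply,
    ← LinearMap.comp_apply, LinearMap.lTensor_comp_rTensor, LinearMap.rTensor_comp_lTensor]

end L2A0

end Groth.Agent.Lib.FlatDescBH6
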