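import Mathlib
import Groth.Agent.Lib.FlatDescB_helper6

/-!
# Pointwise descent of flatness, part C: the pushout (`P' = A' ⊗ P₀`) setting
-/

set_option autoImplicit false
open TensorProduct

namespace Groth.Agent.Lib.FlatDescCH6

universe u

section General

variable {A₀ : Type*} [CommRing A₀] (p₀ : Ideal A₀)

/-- `p₀ X` is preserved by `A₀`-linear maps. -/
theorem map_mem_smul_top {X Y : Type*} [AddCommGroup X] [Module A₀ X] [AddCommGroup Y]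
    [Module A₀ Y] (h : X →ₗ[A₀] Y) {x : X} (hx : x ∈ (p₀ • ⊤ : Submodule A₀ X)) :
    h x ∈ (p₀ • ⊤ : Submodule A₀ Y) := by
  refine Submodule.smul_induction_on hx ?_ ?_
  · intro π hπ y _
    rw [map_smul]
    exact Submodule.smul_mem_smul hπ Submodule.mem_top
  · intro y z hy hz
    rw [map_add]
    exact add_mem hy hz

/-- `p₀ X` is stable under the action of a bigger ring. -/
theorem smul_mem_smul_top {B : Type*} [CommRing B] [Algebra A₀ B] {X : Type*} [AddCommGroup X]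
    [Module A₀ X] [Module B X] [IsScalarTower A₀ B X] (b : B) {x : X}
    (hx : x ∈ (p₀ • ⊤ : Submodule A₀ X)) : b • x ∈ (p₀ • ⊤ : Submodule A₀ X) :=
  map_mem_smul_top p₀ ((LinearMap.lsmul B X b).restrictScalars A₀) hx

/-- `p₀ X = (p₀ B) X`. -/
theorem mem_smul_top_iff_map {B : Type*} [CommRing B] [Algebra A₀ B] {X : Type*} [AddCommGroup X]
    [Module A₀ X] [Module B X] [IsScalarTower A₀ B X] (x : X) :
    x ∈ (p₀ • ⊤ : Submodule A₀ X) ↔ x ∈ (p₀.map (algebraMap A₀ B) • ⊤ : Submodule B X) := by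
  have : (p₀ • ⊤ : Submodule A₀ X) =
      (p₀.map (algebraMap A₀ B) • ⊤ : Submodule B X).restrictScalars A₀ := by
    rw [Ideal.smul_restrictScalars, Submodule.restrictScalars_top]
  rw [this, Submodule.restrictScalars_mem]

end General

section MulJ

variable {A' : Type*} (P' : Type*) [CommRing A'] [CommRing P'] [Algebra A' P'] (J : Ideal A')
  (X : Type*) [AddCommGroup X] [Module P' X] [Module A' X] [IsScalarTower A' P' X]

/-- The multiplication map `X ⊗ J → X`, as a `P'`-linear map. -/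
noncomputable def mulJ : X ⊗[A'] J →ₗ[P'] X :=
  (AlgebraTensorModule.rid A' P' X).toLinearMap ∘ₗ AlgebraTensorModule.lTensor P' X J.subtype

@[simp] theorem mulJ_tmul (x : X) (j : J) : mulJ P' J X (x ⊗ₜ j) = (j : A') • x := by
  simp [mulJ]

theorem mem_range_mulJ_iff (y : X) :
    y ∈ LinearMap.range (mulJ P' J X) ↔ y ∈ (J • ⊤ : Submodule A' X) := by
  constructor
  · rintro ⟨w, rfl⟩
    induction w using TensorProduct.induction_on with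
    | zero => simp
    | tmul x j => rw [mulJ_tmul]; exact Submodule.smul_mem_smul j.2 Submodule.mem_top
    | add w w' h h' => rw [map_add]; exact add_mem h h'
  · intro hy
    refine Submodule.smul_induction_on hy ?_ ?_
    · intro j hj x _
      exact ⟨x ⊗ₜ ⟨j, hj⟩, by simp⟩
    · intro y z hy hz
      exact add_mem hy hz

theorem mulJ_eq_zero_iff (ξ : X ⊗[A'] J) :
    mulJ P' J X ξ = 0 ↔ AlgebraTensorModule.lTensor P' X J.subtype ξ = 0 := by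
  simp [mulJ]

theorem mulJ_injective [Module.Flat A' X] : Function.Injective (mulJ P' J X) := by
  intro a b hab
  have h1 : AlgebraTensorModule.lTensor P' X J.subtype a =
      AlgebraTensorModule.lTensor P' X J.subtype b := by
    apply (AlgebraTensorModule.rid A' P' X).injective
    exact hab
  exact Module.Flat.lTensor_preserves_injective_linearMap (M := X) J.subtype
    Subtype.val_injective h1

variable {X} {Y : Type*} [AddCommGroup Y] [Module P' Y] [Module A' Y] [IsScalarTower A' P' Y]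

theorem mulJ_naturality (h : X →ₗ[P'] Y) (w : X ⊗[A'] J) :
    mulJ P' J Y (AlgebraTensorModule.rTensor A' J h w) = h (mulJ P' J X w) := by
  induction w using TensorProduct.induction_on with
  | zero => simp
  | tmul x j => simp [LinearMap.map_smul_of_tower]
  | add w w' h1 h2 => simp only [map_add, h1, h2]

end MulJ

section Pushout

variable {A₀ P₀ A' P' : Type u} [CommRing A₀] [CommRing P₀] [CommRing A'] [CommRing P']
  [Algebra A₀ P₀] [Algebra A₀ A'] [Algebra A₀ P'] [Algebra A' P'] [Algebra P₀ P']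
  [IsScalarTower A₀ A' P'] [IsScalarTower A₀ P₀ P'] [Algebra.IsPushout A₀ A' P₀ P']
  (p₀ : Ideal A₀) (a₀ : A₀)
  {F₀ M₀ : Type u} [AddCommGroup F₀] [Module P₀ F₀] [Module A₀ F₀] [IsScalarTower A₀ P₀ F₀]
  [AddCommGroup M₀] [Module P₀ M₀] [Module A₀ M₀] [IsScalarTower A₀ P₀ M₀]
  (g₀ : F₀ →ₗ[P₀] M₀)

/-- `K₀ ∩ p₀F₀` as a `P₀`-submodule of `K₀ = ker g₀`. -/
def TP : Submodule P₀ (LinearMap.ker g₀) :=
  Submodule.comap (LinearMap.ker g₀).subtype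
    ((p₀.map (algebraMap A₀ P₀)) • ⊤ : Submodule P₀ F₀)

variable (A' P') in
/-- `κ' : P' ⊗ K₀ → P' ⊗ F₀`. -/
noncomputable def kap : P' ⊗[P₀] (LinearMap.ker g₀) →ₗ[P'] P' ⊗[P₀] F₀ :=
  AlgebraTensorModule.lTensor P' P' (LinearMap.ker g₀).subtype

variable (A' P') in
/-- `γ' : P' ⊗ F₀ → P' ⊗ M₀`. -/
noncomputable def gam : P' ⊗[P₀] F₀ →ₗ[P'] P' ⊗[P₀] M₀ :=
  AlgebraTensorModule.lTensor P' P' g₀

variable (A' P') in
/-- `P' ⊗ (K₀ ∩ p₀F₀) → P' ⊗ K₀`. -/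
noncomputable def jT : P' ⊗[P₀] (TP p₀ g₀) →ₗ[P'] P' ⊗[P₀] (LinearMap.ker g₀) :=
  AlgebraTensorModule.lTensor P' P' (TP p₀ g₀).subtype

theorem exact_kap_gam (hg₀ : Function.Surjective g₀) :
    Function.Exact (kap P' g₀) (gam P' g₀) :=
  lTensor_exact P' (LinearMap.exact_subtype_ker_map g₀) hg₀

theorem gam_surjective (hg₀ : Function.Surjective g₀) : Function.Surjective (gam P' g₀) :=
  LinearMap.lTensor_surjective P' hg₀

/-- The comparison `P' ⊗[P₀] N₀ ≃ A' ⊗[A₀] N₀`, `A₀`-linear. -/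
noncomputable def eN (A₀ A' P₀ P' : Type u) [CommRing A₀] [CommRing P₀] [CommRing A']
    [CommRing P'] [Algebra A₀ P₀] [Algebra A₀ A'] [Algebra A₀ P'] [Algebra A' P'] [Algebra P₀ P']
    [IsScalarTower A₀ A' P'] [IsScalarTower A₀ P₀ P'] [Algebra.IsPushout A₀ A' P₀ P']
    (N₀ : Type u) [AddCommGroup N₀] [Module P₀ N₀] [Module A₀ N₀]
    [IsScalarTower A₀ P₀ N₀] : P' ⊗[P₀] N₀ ≃ₗ[A₀] A' ⊗[A₀] N₀ :=
  (Algebra.IsPushout.cancelBaseChange A₀ A' P₀ P' N₀).restrictScalars A₀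

theorem eN_symm_tmul (N₀ : Type u) [AddCommGroup N₀] [Module P₀ N₀] [Module A₀ N₀]
    [IsScalarTower A₀ P₀ N₀] (a : A') (n : N₀) :
    (eN A₀ A' P₀ P' N₀).symm (a ⊗ₜ n) = algebraMap A' P' a ⊗ₜ n :=
  Algebra.IsPushout.cancelBaseChange_symm_tmul A₀ A' P₀ P' N₀ a n

theorem eN_nat {N₀ N₁ : Type u} [AddCommGroup N₀] [Module P₀ N₀] [Module A₀ N₀]
    [IsScalarTower A₀ P₀ N₀] [AddCommGroup N₁] [Module P₀ N₁] [Module A₀ N₁]
    [IsScalarTower A₀ P₀ N₁] (h : N₀ →ₗ[P₀] N₁) (w : A' ⊗[A₀] N₀) :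
    AlgebraTensorModule.lTensor P' P' h ((eN A₀ A' P₀ P' N₀).symm w) =
      (eN A₀ A' P₀ P' N₁).symm ((h.restrictScalars A₀).lTensor A' w) := by
  induction w using TensorProduct.induction_on with
  | zero => simp
  | tmul a n => simp [eN_symm_tmul]
  | add w w' h1 h2 => simp only [map_add, h1, h2]

variable (A') in
include A' in
/-- Structure of the obstruction, pushout form. -/
theorem struct_P (hg₀ : Function.Surjective g₀)
    (hG : GenFreeH8.GFW (A₀ ⧸ p₀) ((A₀ ⧸ p₀) ⊗[A₀] M₀) (Ideal.Quotient.mk p₀ a₀))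
    (ξ : P' ⊗[P₀] (LinearMap.ker g₀))
    (hξ : kap P' g₀ ξ ∈ (p₀ • ⊤ : Submodule A₀ (P' ⊗[P₀] F₀))) :
    ∃ (N : ℕ) (ζ : P' ⊗[P₀] (TP p₀ g₀)),
      a₀ ^ N • ξ - jT P' p₀ g₀ ζ ∈ (p₀ • ⊤ : Submodule A₀ (P' ⊗[P₀] (LinearMap.ker g₀))) := by
  let ι : LinearMap.ker g₀ →ₗ[A₀] F₀ := (LinearMap.ker g₀).subtype.restrictScalars A₀
  let j : TP p₀ g₀ →ₗ[A₀] LinearMap.ker g₀ := (TP p₀ g₀).subtype.restrictScalars A₀
  have hex₀ : Function.Exact ι (g₀.restrictScalars A₀) := LinearMap.exact_subtype_ker_map g₀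
  have hT : ∀ k, ι k ∈ (p₀ • ⊤ : Submodule A₀ F₀) → k ∈ LinearMap.range j := by
    intro k hk
    rw [mem_smul_top_iff_map (B := P₀)] at hk
    exact ⟨⟨k, hk⟩, rfl⟩
  set eK := eN A₀ A' P₀ P' (LinearMap.ker g₀) with heK
  set eF := eN A₀ A' P₀ P' F₀ with heF
  set eT := eN A₀ A' P₀ P' (TP p₀ g₀) with heT
  have h1 : ι.lTensor A' (eK ξ) ∈ (p₀ • ⊤ : Submodule A₀ (A' ⊗[A₀] F₀)) := by
    have := eN_nat (A' := A') (P' := P') (LinearMap.ker g₀).subtype (eK ξ)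
    rw [LinearEquiv.symm_apply_apply] at this
    have h2 : ι.lTensor A' (eK ξ) = eF (kap P' g₀ ξ) := by
      rw [kap, this, LinearEquiv.apply_symm_apply]
    rw [h2]
    exact map_mem_smul_top p₀ eF.toLinearMap hξ
  obtain ⟨N, ζA, hζ⟩ := Groth.Agent.Lib.FlatDescBH6.core_A p₀ a₀ ι (g₀.restrictScalars A₀) j hex₀
    hg₀ hT hG A' (eK ξ) h1
  refine ⟨N, eT.symm ζA, ?_⟩
  have h3 := map_mem_smul_top p₀ eK.symm.toLinearMap hζ
  have h4 : eK.symm.toLinearMap (a₀ ^ N • eK ξ - j.lTensor A' ζA) =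
      a₀ ^ N • ξ - jT P' p₀ g₀ (eT.symm ζA) := by
    rw [map_sub, map_smul, jT, eN_nat]
    simp only [LinearEquiv.coe_coe, LinearEquiv.symm_apply_apply]
    rfl
  rw [h4] at h3
  exact h3

variable (A') in
include A' in
/-- Witnesses for the generators of `K₀ ∩ p₀F₀` kill the whole obstruction. -/
theorem witness_kills (hg₀ : Function.Surjective g₀)
    (hG : GenFreeH8.GFW (A₀ ⧸ p₀) ((A₀ ⧸ p₀) ⊗[A₀] M₀) (Ideal.Quotient.mk p₀ a₀))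
    (s' : P')
    (hw : ∀ t : TP p₀ g₀, ∃ θ : P' ⊗[P₀] (LinearMap.ker g₀),
      θ ∈ (p₀ • ⊤ : Submodule A₀ (P' ⊗[P₀] (LinearMap.ker g₀))) ∧
        s' • ((1 : P') ⊗ₜ[P₀] ((t : LinearMap.ker g₀) : F₀)) = kap P' g₀ θ)
    (ξ : P' ⊗[P₀] (LinearMap.ker g₀))
    (hξ : kap P' g₀ ξ ∈ (p₀ • ⊤ : Submodule A₀ (P' ⊗[P₀] F₀))) :
    ∃ (N : ℕ) (θ : P' ⊗[P₀] (LinearMap.ker g₀)),
      θ ∈ (p₀ • ⊤ : Submodule A₀ (P' ⊗[P₀] (LinearMap.ker g₀))) ∧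
        s' • (a₀ ^ N • kap P' g₀ ξ) = kap P' g₀ θ := by
  obtain ⟨N, ζ, hζ⟩ := struct_P A' p₀ a₀ g₀ hg₀ hG ξ hξ
  have hcl : ∀ ζ : P' ⊗[P₀] (TP p₀ g₀), ∃ θ : P' ⊗[P₀] (LinearMap.ker g₀),
      θ ∈ (p₀ • ⊤ : Submodule A₀ (P' ⊗[P₀] (LinearMap.ker g₀))) ∧
        s' • kap P' g₀ (jT P' p₀ g₀ ζ) = kap P' g₀ θ := by
    intro ζ
    induction ζ using TensorProduct.induction_on with
    | zero => exact ⟨0, zero_mem _, by simp⟩
    | tmul c t =>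
      obtain ⟨θ, hθ, hθ'⟩ := hw t
      refine ⟨c • θ, smul_mem_smul_top p₀ c hθ, ?_⟩
      have : kap P' g₀ (jT P' p₀ g₀ (c ⊗ₜ t)) =
          c • ((1 : P') ⊗ₜ[P₀] ((t : LinearMap.ker g₀) : F₀)) := by
        simp [kap, jT, TensorProduct.smul_tmul']
      rw [this, smul_comm, hθ', map_smul]
    | add ζ ζ' h h' =>
      obtain ⟨θ₁, h₁, h₁'⟩ := h
      obtain ⟨θ₂, h₂, h₂'⟩ := h'
      exact ⟨θ₁ + θ₂, add_mem h₁ h₂, by rw [map_add, map_add, smul_add, h₁', h₂', map_add]⟩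
  obtain ⟨θ₁, hθ₁, hθ₁'⟩ := hcl ζ
  refine ⟨N, θ₁ + s' • (a₀ ^ N • ξ - jT P' p₀ g₀ ζ),
    add_mem hθ₁ (smul_mem_smul_top p₀ s' hζ), ?_⟩
  rw [map_add, ← hθ₁', map_smul, map_sub, smul_sub, LinearMap.map_smul_of_tower]
  abel

end Pushout

section Pushout2

variable {A₀ P₀ : Type u} (A' P' : Type u) [CommRing A₀] [CommRing P₀] [CommRing A'] [CommRing P']
  [Algebra A₀ P₀] [Algebra A₀ A'] [Algebra A₀ P'] [Algebra A' P'] [Algebra P₀ P']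
  [IsScalarTower A₀ A' P'] [IsScalarTower A₀ P₀ P']
  (p₀ : Ideal A₀)
  {F₀ M₀ : Type u} [AddCommGroup F₀] [Module P₀ F₀] [Module A₀ F₀] [IsScalarTower A₀ P₀ F₀]
  [AddCommGroup M₀] [Module P₀ M₀] [Module A₀ M₀] [IsScalarTower A₀ P₀ M₀]
  (g₀ : F₀ →ₗ[P₀] M₀) (J : Ideal A')

theorem exact_rT (hg₀ : Function.Surjective g₀) :
    Function.Exact (AlgebraTensorModule.rTensor A' J (kap P' g₀))
      (AlgebraTensorModule.rTensor A' J (gam P' g₀)) :=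
  rTensor_exact J (f := (kap P' g₀).restrictScalars A') (g := (gam P' g₀).restrictScalars A')
    (exact_kap_gam g₀ hg₀) (gam_surjective g₀ hg₀)

theorem surj_rT (hg₀ : Function.Surjective g₀) :
    Function.Surjective (AlgebraTensorModule.rTensor A' J (gam P' g₀)) :=
  LinearMap.rTensor_surjective J (g := (gam P' g₀).restrictScalars A') (gam_surjective g₀ hg₀)

/-- Forward chase: `g` kills `ker (M' ⊗ J' → M')` as soon as it sends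
`range κ' ∩ p₀F'` into `κ' (p₀K')`. -/
theorem fwd_P [Module.Flat A' (P' ⊗[P₀] F₀)] (hg₀ : Function.Surjective g₀)
    (ξ : (P' ⊗[P₀] M₀) ⊗[A'] (p₀.map (algebraMap A₀ A')))
    (hξ : mulJ P' (p₀.map (algebraMap A₀ A')) (P' ⊗[P₀] M₀) ξ = 0) (g : P')
    (hg : ∀ φ ∈ LinearMap.range (kap P' g₀), φ ∈ (p₀ • ⊤ : Submodule A₀ (P' ⊗[P₀] F₀)) →
      ∃ θ : P' ⊗[P₀] (LinearMap.ker g₀),
        θ ∈ (p₀ • ⊤ : Submodule A₀ (P' ⊗[P₀] (LinearMap.ker g₀))) ∧ g • φ = kap P' g₀ θ) :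
    g • ξ = 0 := by
  refine Groth.Agent.Lib.FlatDescAH6.chase_fwd
    (AlgebraTensorModule.rTensor A' (p₀.map (algebraMap A₀ A')) (kap P' g₀))
    (AlgebraTensorModule.rTensor A' (p₀.map (algebraMap A₀ A')) (gam P' g₀))
    (kap P' g₀) (gam P' g₀) (mulJ P' (p₀.map (algebraMap A₀ A')) (P' ⊗[P₀] (LinearMap.ker g₀)))
    (mulJ P' (p₀.map (algebraMap A₀ A')) (P' ⊗[P₀] F₀))
    (mulJ P' (p₀.map (algebraMap A₀ A')) (P' ⊗[P₀] M₀))
    (exact_rT A' P' g₀ _ hg₀) (surj_rT A' P' g₀ _ hg₀) (exact_kap_gam g₀ hg₀)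
    (mulJ_injective P' _ _) (fun x => mulJ_naturality P' _ (kap P' g₀) x)
    (fun x => mulJ_naturality P' _ (gam P' g₀) x) ξ hξ g ?_
  intro φ hφ1 hφ2
  rw [mem_range_mulJ_iff, ← mem_smul_top_iff_map] at hφ2
  obtain ⟨θ, hθ, hθ'⟩ := hg φ hφ1 hφ2
  rw [mem_smul_top_iff_map (B := A'), ← mem_range_mulJ_iff P'] at hθ
  obtain ⟨θ', rfl⟩ := hθ
  exact ⟨θ', hθ'⟩

/-- Reverse chase. -/
theorem rev_P (hg₀ : Function.Surjective g₀)
    (φ : P' ⊗[P₀] F₀) (hφ1 : φ ∈ LinearMap.range (kap P' g₀))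
    (hφ2 : φ ∈ (p₀ • ⊤ : Submodule A₀ (P' ⊗[P₀] F₀))) :
    ∃ ξ : (P' ⊗[P₀] M₀) ⊗[A'] (p₀.map (algebraMap A₀ A')),
      mulJ P' (p₀.map (algebraMap A₀ A')) (P' ⊗[P₀] M₀) ξ = 0 ∧
      ∀ s : P', s • ξ = 0 → ∃ θ : P' ⊗[P₀] (LinearMap.ker g₀),
        θ ∈ (p₀ • ⊤ : Submodule A₀ (P' ⊗[P₀] (LinearMap.ker g₀))) ∧ s • φ = kap P' g₀ θ := by
  have hφ3 : φ ∈ LinearMap.range (mulJ P' (p₀.map (algebraMap A₀ A')) (P' ⊗[P₀] F₀)) := by
    rw [mem_range_mulJ_iff, ← mem_smul_top_iff_map]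
    exact hφ2
  have cK : ∀ x, mulJ P' (p₀.map (algebraMap A₀ A')) (P' ⊗[P₀] F₀)
      (AlgebraTensorModule.rTensor A' (p₀.map (algebraMap A₀ A')) (kap P' g₀) x) =
      kap P' g₀ (mulJ P' (p₀.map (algebraMap A₀ A')) (P' ⊗[P₀] (LinearMap.ker g₀)) x) :=
    fun x => mulJ_naturality P' _ (kap P' g₀) x
  have cM : ∀ x, mulJ P' (p₀.map (algebraMap A₀ A')) (P' ⊗[P₀] M₀)
      (AlgebraTensorModule.rTensor A' (p₀.map (algebraMap A₀ A')) (gam P' g₀) x) =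
      gam P' g₀ (mulJ P' (p₀.map (algebraMap A₀ A')) (P' ⊗[P₀] F₀) x) :=
    fun x => mulJ_naturality P' _ (gam P' g₀) x
  obtain ⟨ξ, hξ0, hξ⟩ : ∃ ξ : (P' ⊗[P₀] M₀) ⊗[A'] (p₀.map (algebraMap A₀ A')),
      mulJ P' (p₀.map (algebraMap A₀ A')) (P' ⊗[P₀] M₀) ξ = 0 ∧
      ∀ s : P', s • ξ = 0 → ∃ θ : (P' ⊗[P₀] (LinearMap.ker g₀)) ⊗[A'] (p₀.map (algebraMap A₀ A')),
        s • φ = kap P' g₀ (mulJ P' (p₀.map (algebraMap A₀ A')) (P' ⊗[P₀] (LinearMap.ker g₀)) θ) :=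
    Groth.Agent.Lib.FlatDescAH6.chase_rev (P := P')
    (K₁ := (P' ⊗[P₀] (LinearMap.ker g₀)) ⊗[A'] (p₀.map (algebraMap A₀ A')))
    (F₁ := (P' ⊗[P₀] F₀) ⊗[A'] (p₀.map (algebraMap A₀ A')))
    (M₁ := (P' ⊗[P₀] M₀) ⊗[A'] (p₀.map (algebraMap A₀ A')))
    (K₂ := P' ⊗[P₀] (LinearMap.ker g₀)) (F₂ := P' ⊗[P₀] F₀) (M₂ := P' ⊗[P₀] M₀)
    (α₁ := AlgebraTensorModule.rTensor A' (p₀.map (algebraMap A₀ A')) (kap P' g₀))
    (β₁ := AlgebraTensorModule.rTensor A' (p₀.map (algebraMap A₀ A')) (gam P' g₀))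
    (α₂ := kap P' g₀) (β₂ := gam P' g₀)
    (vK := mulJ P' (p₀.map (algebraMap A₀ A')) (P' ⊗[P₀] (LinearMap.ker g₀)))
    (vF := mulJ P' (p₀.map (algebraMap A₀ A')) (P' ⊗[P₀] F₀))
    (vM := mulJ P' (p₀.map (algebraMap A₀ A')) (P' ⊗[P₀] M₀))
    (exact_rT A' P' g₀ _ hg₀) (exact_kap_gam g₀ hg₀) cK cM φ hφ1 hφ3
  refine ⟨ξ, hξ0, fun s hs => ?_⟩
  obtain ⟨θ, hθ⟩ := hξ s hs
  refine ⟨mulJ P' (p₀.map (algebraMap A₀ A')) (P' ⊗[P₀] (LinearMap.ker g₀)) θ, ?_, hθ⟩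
  rw [mem_smul_top_iff_map (B := A'), ← mem_range_mulJ_iff P']
  exact ⟨θ, rfl⟩

end Pushout2
end Groth.Agent.Lib.FlatDescCH6
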