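import Mathlib
import Groth.Agent.Lib.FlatFibre_helper9
import Groth.Agent.Lib.FlatDescC_helper6

/-!
# Fibre criterion, part B (helper6): descent of the fibre injectivity condition

APPEND-ONLY once landed.
-/

set_option autoImplicit false
open TensorProduct IsLocalRing

namespace Groth.Agent.Lib.FibInjH6

universe u

section QuotientPushout

attribute [local instance] Algebra.TensorProduct.rightAlgebra in
/-- `B ⧸ J B` is the pushout of `A ⧸ J` and `B` over `A`. -/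
theorem isPushout_quotient {A B : Type u} [CommRing A] [CommRing B] [Algebra A B] (J : Ideal A) :
    Algebra.IsPushout A (A ⧸ J) B (B ⧸ J.map (algebraMap A B)) := by
  haveI h : Algebra.IsPushout A (A ⧸ J) B ((A ⧸ J) ⊗[A] B) := TensorProduct.isPushout
  refine Algebra.IsPushout.of_equiv
    (Algebra.TensorProduct.quotIdealMapEquivQuotTensor B J).symm ?_
  ext x
  show (Algebra.TensorProduct.quotIdealMapEquivQuotTensor B J).symm ((1 : A ⧸ J) ⊗ₜ[A] x) = _
  rw [AlgEquiv.symm_apply_eq]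
  exact (Algebra.TensorProduct.quotIdealMapEquivQuotTensor_mk B J x).symm

end QuotientPushout

section FibreDescent

variable {R' R S' S₁ : Type u} [CommRing R'] [CommRing R] [CommRing S'] [CommRing S₁]
  [IsLocalRing R'] [IsLocalRing R] [Algebra R' R] [IsLocalHom (algebraMap R' R)]
  [Algebra R' S'] [Algebra R S₁] [Algebra S' S₁] [Algebra R' S₁]
  [IsScalarTower R' R S₁] [IsScalarTower R' S' S₁] [Algebra.IsPushout R' R S' S₁]
  {M' M₁ : Type u} [AddCommGroup M'] [Module S' M'] [Module R' M'] [IsScalarTower R' S' M']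
  [AddCommGroup M₁] [Module S₁ M₁] [Module S' M₁] [IsScalarTower S' S₁ M₁]

/-- **Descent of the fibre condition.**  If `w • jM x'` lies in `𝔪_R M₁` for some `w ∉ q`, then
some `w' ∈ S'` outside the contraction of `q` satisfies `w' • x' ∈ 𝔪_{R'} M'`. -/
theorem fibre_descent (q : Ideal S₁) [q.IsPrime]
    (hq : (maximalIdeal R).map (algebraMap R S₁) ≤ q)
    (jM : M' →ₗ[S'] M₁) (hM : IsBaseChange S₁ jM) (x' : M') (w : S₁) (hw : w ∉ q)
    (h : w • jM x' ∈ ((maximalIdeal R).map (algebraMap R S₁)) • (⊤ : Submodule S₁ M₁)) :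
    ∃ w' : S', algebraMap S' S₁ w' ∉ q ∧
      w' • x' ∈ ((maximalIdeal R').map (algebraMap R' S')) • (⊤ : Submodule S' M') := by
  classical
  set m := maximalIdeal R with hm
  set m' := maximalIdeal R' with hm'
  set J := m.map (algebraMap R S₁) with hJ
  set J' := m'.map (algebraMap R' S') with hJ'
  let Mb := M' ⧸ (J' • (⊤ : Submodule S' M'))
  let xb : Mb := Submodule.Quotient.mk x'
  let 𝔞 : Ideal S' := LinearMap.ker (LinearMap.toSpanSingleton S' Mb xb)
  by_contra hcon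
  push_neg at hcon
  have h𝔞q : ∀ s ∈ 𝔞, algebraMap S' S₁ s ∈ q := by
    intro s hs
    by_contra hsq
    apply hcon s hsq
    have h1 : s • xb = 0 := hs
    rwa [← Submodule.Quotient.mk_smul, Submodule.Quotient.mk_eq_zero] at h1
  -- the injection `S'/𝔞 → Mb`
  let ι : (S' ⧸ 𝔞) →ₗ[S'] Mb := Submodule.liftQ 𝔞 (LinearMap.toSpanSingleton S' Mb xb) le_rfl
  have hι : Function.Injective ι := by
    rw [← LinearMap.ker_eq_bot]
    exact Submodule.ker_liftQ_eq_bot _ _ _ le_rfl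
  have hι1 : ι (Submodule.Quotient.mk 1) = xb := by
    show Submodule.liftQ 𝔞 (LinearMap.toSpanSingleton S' Mb xb) le_rfl (Submodule.Quotient.mk 1) = xb
    rw [Submodule.liftQ_apply, LinearMap.toSpanSingleton_apply, one_smul]
  -- `Mb` is killed by `m'`
  have hMb : (m' • (⊤ : Submodule R' Mb)) = ⊥ := by
    rw [eq_bot_iff, Submodule.smul_le]
    intro r hr y _
    rw [Submodule.mem_bot]
    obtain ⟨y, rfl⟩ := Submodule.Quotient.mk_surjective _ y
    rw [← Submodule.Quotient.mk_smul, Submodule.Quotient.mk_eq_zero, ← algebraMap_smul S' r y]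
    exact Submodule.smul_mem_smul (Ideal.mem_map_of_mem _ hr) Submodule.mem_top
  -- injectivity after tensoring with the residue field of `R`
  have htors : Module.IsTorsionBySet R' (R ⧸ m) (m' : Set R') := by
    intro x a
    obtain ⟨r, rfl⟩ := Ideal.Quotient.mk_surjective x
    have ha : algebraMap R' R a.1 ∈ m := by
      rw [hm, IsLocalRing.mem_maximalIdeal]
      exact map_nonunit (algebraMap R' R) a.1 ((IsLocalRing.mem_maximalIdeal _).mp a.2)
    show (a.1 • (Ideal.Quotient.mk m r : R ⧸ m)) = 0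
    rw [← algebraMap_smul R a.1 (Ideal.Quotient.mk m r : R ⧸ m), Algebra.smul_def,
      Ideal.Quotient.algebraMap_eq, Ideal.Quotient.eq_zero_iff_mem.mpr ha, zero_mul]
  have hinjk : Function.Injective ((ι.restrictScalars R').lTensor (R ⧸ m)) := by
    refine Groth.Agent.Lib.FlatFibre.lTensor_injective_of_torsion (ι.restrictScalars R') ?_
      (R ⧸ m) htors
    rw [Groth.Agent.Lib.FlatFibre.lTensor_quot_injective_iff]
    intro d hd
    rw [hMb, Submodule.mem_bot] at hd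
    have hd0 : d = 0 := hι (hd.trans (map_zero ι).symm)
    rw [hd0]
    exact zero_mem _
  -- the pushout square over the residue field
  haveI P2 : Algebra.IsPushout R (R ⧸ m) S₁ (S₁ ⧸ J) := isPushout_quotient m
  haveI : IsScalarTower R' (R ⧸ m) (S₁ ⧸ J) := IsScalarTower.of_algebraMap_eq (fun x => by
    rw [IsScalarTower.algebraMap_apply R' R (R ⧸ m), IsScalarTower.algebraMap_apply R' S₁ (S₁ ⧸ J),
      IsScalarTower.algebraMap_apply R' R S₁]
    rfl)
  haveI P : Algebra.IsPushout R' (R ⧸ m) S' (S₁ ⧸ J) :=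
    (Algebra.IsPushout.comp_iff R' R S' (S' := S₁) (T := R ⧸ m) (T' := S₁ ⧸ J)).mpr P2
  have hinjS : Function.Injective (AlgebraTensorModule.lTensor (S₁ ⧸ J) (S₁ ⧸ J) ι) := by
    rw [injective_iff_map_eq_zero]
    intro z hz
    have h1 := Groth.Agent.Lib.FlatDescCH6.eN_nat (A₀ := R') (A' := R ⧸ m) (P₀ := S')
      (P' := S₁ ⧸ J) ι (Groth.Agent.Lib.FlatDescCH6.eN R' (R ⧸ m) S' (S₁ ⧸ J) (S' ⧸ 𝔞) z)
    rw [LinearEquiv.symm_apply_apply, hz] at h1
    have h2 : ((ι.restrictScalars R').lTensor (R ⧸ m))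
        (Groth.Agent.Lib.FlatDescCH6.eN R' (R ⧸ m) S' (S₁ ⧸ J) (S' ⧸ 𝔞) z) = 0 := by
      apply (Groth.Agent.Lib.FlatDescCH6.eN R' (R ⧸ m) S' (S₁ ⧸ J) Mb).symm.injective
      rw [← h1, map_zero]
    have h3 := hinjk (h2.trans (map_zero _).symm)
    exact (Groth.Agent.Lib.FlatDescCH6.eN R' (R ⧸ m) S' (S₁ ⧸ J) (S' ⧸ 𝔞)).injective
      (h3.trans (map_zero _).symm)
  -- the map `θ : M₁ → (S₁/J) ⊗ Mb`
  let g : M' →ₗ[S'] (S₁ ⧸ J) ⊗[S'] Mb :=
    (TensorProduct.mk S' (S₁ ⧸ J) Mb 1) ∘ₗ (Submodule.mkQ _)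
  let θ : M₁ →ₗ[S₁] (S₁ ⧸ J) ⊗[S'] Mb := hM.lift g
  have hθ : θ (jM x') = (1 : S₁ ⧸ J) ⊗ₜ[S'] xb := hM.lift_eq g x'
  have hJkill : ∀ (j : S₁), j ∈ J → ∀ t : (S₁ ⧸ J) ⊗[S'] Mb, j • t = 0 := by
    intro j hj t
    induction t using TensorProduct.induction_on with
    | zero => exact smul_zero _
    | tmul s y =>
      rw [TensorProduct.smul_tmul', Algebra.smul_def, Ideal.Quotient.algebraMap_eq,
        Ideal.Quotient.eq_zero_iff_mem.mpr hj, zero_mul, TensorProduct.zero_tmul]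
    | add a b ha hb => rw [smul_add, ha, hb, add_zero]
  have hθJ : ∀ y ∈ J • (⊤ : Submodule S₁ M₁), θ y = 0 := by
    intro y hy
    refine Submodule.smul_induction_on hy ?_ ?_
    · intro j hj z _
      rw [map_smul]
      exact hJkill j hj _
    · intro a b ha hb
      rw [map_add, ha, hb, add_zero]
  have hwz : (Ideal.Quotient.mk J w) ⊗ₜ[S'] xb = (0 : (S₁ ⧸ J) ⊗[S'] Mb) := by
    have h1 := hθJ _ h
    rw [map_smul, hθ, TensorProduct.smul_tmul', Algebra.smul_def, Ideal.Quotient.algebraMap_eq,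
      mul_one] at h1
    exact h1
  have hζ : (Ideal.Quotient.mk J w) ⊗ₜ[S'] (Submodule.Quotient.mk (1 : S') : S' ⧸ 𝔞) =
      (0 : (S₁ ⧸ J) ⊗[S'] (S' ⧸ 𝔞)) := by
    apply hinjS
    rw [AlgebraTensorModule.lTensor_tmul, hι1, hwz, map_zero]
  -- the map to `S₁ ⧸ q`
  let α : (S₁ ⧸ J) →ₗ[S'] (S₁ ⧸ q) := (Ideal.Quotient.factorₐ S' hq).toLinearMap
  let β : (S' ⧸ 𝔞) →ₗ[S'] (S₁ ⧸ q) := Submodule.liftQ 𝔞 (Algebra.linearMap S' (S₁ ⧸ q)) (by
    intro s hs
    rw [LinearMap.mem_ker, Algebra.linearMap_apply,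
      IsScalarTower.algebraMap_apply S' S₁ (S₁ ⧸ q), Ideal.Quotient.algebraMap_eq,
      Ideal.Quotient.eq_zero_iff_mem]
    exact h𝔞q s hs)
  let μ : (S₁ ⧸ J) ⊗[S'] (S' ⧸ 𝔞) →ₗ[S'] (S₁ ⧸ q) :=
    LinearMap.mul' S' (S₁ ⧸ q) ∘ₗ TensorProduct.map α β
  have hμ : μ ((Ideal.Quotient.mk J w) ⊗ₜ[S'] (Submodule.Quotient.mk (1 : S') : S' ⧸ 𝔞)) =
      Ideal.Quotient.mk q w := by
    rw [show μ = LinearMap.mul' S' (S₁ ⧸ q) ∘ₗ TensorProduct.map α β from rfl,
      LinearMap.comp_apply, TensorProduct.map_tmul, LinearMap.mul'_apply]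
    have hα : α (Ideal.Quotient.mk J w) = Ideal.Quotient.mk q w := rfl
    have hβ : β (Submodule.Quotient.mk (1 : S')) = 1 := by
      show Submodule.liftQ 𝔞 (Algebra.linearMap S' (S₁ ⧸ q)) _ (Submodule.Quotient.mk 1) = 1
      rw [Submodule.liftQ_apply, Algebra.linearMap_apply, map_one]
    rw [hα, hβ, mul_one]
  rw [hζ, map_zero] at hμ
  exact hw (Ideal.Quotient.eq_zero_iff_mem.mp hμ.symm)

end FibreDescent

end Groth.Agent.Lib.FibInjH6
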