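import Groth.Agent.Lib.FlatBC_helper8
import Groth.Agent.Lib.GenFreeG_helper8
import Mathlib
set_option autoImplicit false
open TensorProduct
universe u
namespace FlatBC2H8

/-- Base change of a localization map is a localization map. -/
theorem isLocalizedModule_baseChange {B B' : Type*} [CommRing B] [CommRing B'] [Algebra B B']
    (S : Submonoid B) {M L : Type*} [AddCommGroup M] [AddCommGroup L] [Module B M] [Module B L]
    (ℓ : M →ₗ[B] L) [IsLocalizedModule S ℓ] :
    IsLocalizedModule (Algebra.algebraMapSubmonoid B' S) (ℓ.baseChange B') := by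
  rw [IsLocalizedModule.restrictScalars_iff S]
  have h1 : IsLocalizedModule S (AlgebraTensorModule.rTensor B B' ℓ) := inferInstance
  have h2 : (ℓ.baseChange B').restrictScalars B =
      (TensorProduct.comm B L B').toLinearMap ∘ₗ (AlgebraTensorModule.rTensor B B' ℓ) ∘ₗ
        (TensorProduct.comm B B' M).toLinearMap := by
    ext b m
    simp
  rw [h2]
  infer_instance

section Alg
variable {A A' B B' : Type u} [CommRing A] [CommRing A'] [CommRing B] [CommRing B']
  [Algebra A A'] [Algebra A B] [Algebra A' B'] [Algebra B B'] [Algebra A B']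
  [IsScalarTower A A' B'] [IsScalarTower A B B'] [Algebra.IsPushout A A' B B']
  (S : Submonoid B) (S' : Submonoid B') (hSS' : Algebra.algebraMapSubmonoid B' S ≤ S')
  {M L M' L' : Type u} [AddCommGroup M] [AddCommGroup L] [AddCommGroup M'] [AddCommGroup L']
  [Module B M] [Module B L] [Module A L] [IsScalarTower A B L]
  [Module B' M'] [Module B M'] [IsScalarTower B B' M']
  [Module B' L'] [Module A' L'] [IsScalarTower A' B' L']
  (c : M →ₗ[B] M') (hc : IsBaseChange B' c)

include hSS' hc in
/-- **Flatness over the base is preserved by base change, pointwise form.**  In a pushout square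
`B' = A' ⊗_A B`, if `M' = B' ⊗_B M`, `L` is a localization of `M` which is `A`-flat and `L'` is a
localization of `M'` at a larger multiplicative set, then `L'` is `A'`-flat. -/
theorem flat_of_flat_localized (ℓ : M →ₗ[B] L) [IsLocalizedModule S ℓ]
    (ℓ' : M' →ₗ[B'] L') [IsLocalizedModule S' ℓ'] [Module.Flat A L] : Module.Flat A' L' := by
  let P := B' ⊗[B] L
  haveI : Module.Flat A' P :=
    Module.Flat.of_linearEquiv (Algebra.IsPushout.cancelBaseChange A A' B B' L)
  let τ : M' →ₗ[B'] P := (ℓ.baseChange B').comp hc.equiv.symm.toLinearMap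
  haveI : IsLocalizedModule (Algebra.algebraMapSubmonoid B' S) (ℓ.baseChange B') :=
    isLocalizedModule_baseChange S ℓ
  haveI : IsLocalizedModule (Algebra.algebraMapSubmonoid B' S) τ :=
    IsLocalizedModule.of_linearEquiv_right _ (ℓ.baseChange B') hc.equiv.symm
  let σ : P →ₗ[B'] L' := IsLocalizedModule.liftOfLE (Algebra.algebraMapSubmonoid B' S) S' hSS' τ ℓ'
  haveI : IsLocalizedModule S' σ := inferInstance
  exact GenFreeH8.flat_of_isLocalizedModule_algebra S' σ

end Alg
end FlatBC2H8
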