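import Mathlib
import Groth.Agent.Lib.FibInjB_helper6
import Groth.Agent.Lib.LocalCrit7_helper9
import Groth.Agent.Lib.FlatBC2_helper8
import Groth.Agent.Lib.GenFreeG_helper8

/-!
# Fibre criterion of flatness (critère de platitude par fibres), part A (helper6)

* `isPushout_quotient_of_ker`: pushout of quotient presentations.
* `isBaseChange_of_isPushout`: a base change along the top of a pushout square is a base change
  along the bottom.
* `flat_fibre_descent`: descent of (global) fibre flatness to a stage.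
* `stage_flat`: local criterion at a Noetherian stage.
* `flat_of_stage`: from abstract stage data to flatness over the middle ring at the top.

APPEND-ONLY once landed.
-/

set_option autoImplicit false
set_option linter.style.haveILetI false
open TensorProduct IsLocalRing

namespace Groth.Agent.Lib.FibCritH6

universe u

/-- pushout of quotient presentations. -/
theorem isPushout_quotient_of_ker {R' R A' A C : Type u} [CommRing R'] [CommRing R] [CommRing A']
    [CommRing A] [CommRing C]
    [Algebra R' R] [Algebra R' A'] [Algebra R A] [Algebra A' A] [Algebra R' A]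
    [IsScalarTower R' R A] [IsScalarTower R' A' A] [Algebra.IsPushout R' R A' A]
    (J' : Ideal A') [Algebra R C] [Algebra A C] [IsScalarTower R A C]
    (hsurj : Function.Surjective (algebraMap A C))
    (hker : RingHom.ker (algebraMap A C) = J'.map (algebraMap A' A))
    [Algebra (A' ⧸ J') C] [Algebra R' C] [IsScalarTower R' R C] [IsScalarTower R' (A' ⧸ J') C]
    (hcompat : ∀ a' : A', algebraMap (A' ⧸ J') C (Ideal.Quotient.mk J' a') =
      algebraMap A C (algebraMap A' A a')) :
    Algebra.IsPushout R' R (A' ⧸ J') C := by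
  have P0 : Algebra.IsPushout R' A' R A := Algebra.IsPushout.symm inferInstance
  have P1 : Algebra.IsPushout A' (A' ⧸ J') A (A ⧸ J'.map (algebraMap A' A)) :=
    Groth.Agent.Lib.FibInjH6.isPushout_quotient J'
  haveI : IsScalarTower R' (A' ⧸ J') (A ⧸ J'.map (algebraMap A' A)) :=
    IsScalarTower.of_algebraMap_eq fun r => by
      rw [IsScalarTower.algebraMap_apply R' A (A ⧸ J'.map (algebraMap A' A)),
        IsScalarTower.algebraMap_apply R' A' A]
      rfl
  have P2 : Algebra.IsPushout R' (A' ⧸ J') R (A ⧸ J'.map (algebraMap A' A)) :=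
    (Algebra.IsPushout.comp_iff R' A' R A (T := A' ⧸ J')
      (T' := A ⧸ J'.map (algebraMap A' A))).mpr P1
  have P3 : Algebra.IsPushout R' R (A' ⧸ J') (A ⧸ J'.map (algebraMap A' A)) := P2.symm
  let f : A →ₐ[R] C := IsScalarTower.toAlgHom R A C
  have hf : Function.Surjective f := hsurj
  have hkerf : RingHom.ker f = J'.map (algebraMap A' A) := hker
  let e : (A ⧸ J'.map (algebraMap A' A)) ≃ₐ[R] C :=
    (Ideal.quotientEquivAlgOfEq R hkerf.symm).trans (Ideal.quotientKerAlgEquivOfSurjective hf)
  have he : ∀ a : A, e (Ideal.Quotient.mk _ a) = algebraMap A C a := fun a => rfl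
  refine Algebra.IsPushout.of_equiv (h := P3) e ?_
  ext x
  show e (algebraMap (A' ⧸ J') (A ⧸ J'.map (algebraMap A' A)) (Ideal.Quotient.mk J' x)) =
    algebraMap (A' ⧸ J') C (Ideal.Quotient.mk J' x)
  rw [hcompat]
  exact he _

theorem isBaseChange_of_isPushout {A A' B B' : Type u} [CommRing A] [CommRing A'] [CommRing B]
    [CommRing B'] [Algebra A A'] [Algebra A B] [Algebra A' B'] [Algebra B B'] [Algebra A B']
    [IsScalarTower A A' B'] [IsScalarTower A B B'] [Algebra.IsPushout A A' B B']
    {M M' : Type u} [AddCommGroup M] [Module B M] [Module A M] [IsScalarTower A B M]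
    [AddCommGroup M'] [Module B' M'] [Module B M'] [IsScalarTower B B' M'] [Module A' M']
    [IsScalarTower A' B' M'] [Module A M'] [IsScalarTower A A' M'] [IsScalarTower A B M']
    (c : M →ₗ[B] M') (hc : IsBaseChange B' c) : IsBaseChange A' (c.restrictScalars A) := by
  refine IsBaseChange.of_equiv ((Algebra.IsPushout.cancelBaseChange A A' B B' M).symm ≪≫ₗ
    hc.equiv.restrictScalars A') (fun x => ?_)
  simp [Algebra.IsPushout.cancelBaseChange_symm_tmul, IsBaseChange.equiv_tmul]

set_option maxHeartbeats 800000 in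
/-- Descent of global fibre flatness to a stage. -/
theorem flat_fibre_descent {R' R B' B N' N : Type u} [CommRing R'] [CommRing R] [CommRing B']
    [CommRing B] [IsLocalRing R'] [IsLocalRing R] [Algebra R' R] [IsLocalHom (algebraMap R' R)]
    [Algebra R' B'] [Algebra R B] [Algebra B' B] [Algebra R' B]
    [IsScalarTower R' R B] [IsScalarTower R' B' B] [Algebra.IsPushout R' R B' B]
    [AddCommGroup N'] [Module B' N'] [AddCommGroup N] [Module B N] [Module B' N]
    [IsScalarTower B' B N]
    (jN : N' →ₗ[B'] N) (hjN : IsBaseChange B jN)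
    (h : Module.Flat (B ⧸ (maximalIdeal R).map (algebraMap R B))
      ((B ⧸ (maximalIdeal R).map (algebraMap R B)) ⊗[B] N)) :
    Module.Flat (B' ⧸ (maximalIdeal R').map (algebraMap R' B'))
      ((B' ⧸ (maximalIdeal R').map (algebraMap R' B')) ⊗[B'] N') := by
  set m' := maximalIdeal R' with hm'
  set m := maximalIdeal R with hm
  set I' := m'.map (algebraMap R' B') with hI'
  set I := m.map (algebraMap R B) with hI
  have hmm : m' ≤ m.comap (algebraMap R' R) := fun r hr => map_nonunit (algebraMap R' R) r hr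
  have hII : I' ≤ I.comap (algebraMap B' B) := by
    rw [hI', Ideal.map_le_iff_le_comap]
    intro r hr
    rw [Ideal.mem_comap, Ideal.mem_comap, ← IsScalarTower.algebraMap_apply,
      IsScalarTower.algebraMap_apply R' R B]
    exact Ideal.mem_map_of_mem _ (hmm hr)
  letI algkk : Algebra (R' ⧸ m') (R ⧸ m) := (Ideal.quotientMap m (algebraMap R' R) hmm).toAlgebra
  letI algAA : Algebra (B' ⧸ I') (B ⧸ I) := (Ideal.quotientMap I (algebraMap B' B) hII).toAlgebra
  letI algkA : Algebra (R' ⧸ m') (B ⧸ I) :=
    ((algebraMap (R ⧸ m) (B ⧸ I)).comp (algebraMap (R' ⧸ m') (R ⧸ m))).toAlgebra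
  haveI t1 : IsScalarTower R' (R ⧸ m) (B ⧸ I) := IsScalarTower.of_algebraMap_eq (fun x => by
    rw [IsScalarTower.algebraMap_apply R' R (R ⧸ m), IsScalarTower.algebraMap_apply R' B (B ⧸ I),
      IsScalarTower.algebraMap_apply R' R B]
    rfl)
  haveI P_top : Algebra.IsPushout R (R ⧸ m) B (B ⧸ I) :=
    Groth.Agent.Lib.FibInjH6.isPushout_quotient m
  haveI P_st : Algebra.IsPushout R' (R' ⧸ m') B' (B' ⧸ I') :=
    Groth.Agent.Lib.FibInjH6.isPushout_quotient m'
  have P1 : Algebra.IsPushout R' (R ⧸ m) B' (B ⧸ I) :=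
    (Algebra.IsPushout.comp_iff R' R B' B (T := R ⧸ m) (T' := B ⧸ I)).mpr P_top
  haveI t2 : IsScalarTower R' (R' ⧸ m') (R ⧸ m) := IsScalarTower.of_algebraMap_eq (fun x => rfl)
  haveI t3 : IsScalarTower (R' ⧸ m') (R ⧸ m) (B ⧸ I) := IsScalarTower.of_algebraMap_eq (fun x => rfl)
  haveI t4 : IsScalarTower B' (B' ⧸ I') (B ⧸ I) := IsScalarTower.of_algebraMap_eq (fun x => rfl)
  haveI t5 : IsScalarTower R' (B' ⧸ I') (B ⧸ I) := IsScalarTower.of_algebraMap_eq (fun x => by
    rw [IsScalarTower.algebraMap_apply R' B' (B' ⧸ I'),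
      ← IsScalarTower.algebraMap_apply B' (B' ⧸ I') (B ⧸ I),
      ← IsScalarTower.algebraMap_apply R' B' (B ⧸ I)])
  haveI t6 : IsScalarTower (R' ⧸ m') (B' ⧸ I') (B ⧸ I) := IsScalarTower.of_algebraMap_eq (fun x => by
    obtain ⟨r, rfl⟩ := Ideal.Quotient.mk_surjective x
    show Ideal.Quotient.mk I (algebraMap R B (algebraMap R' R r)) =
      Ideal.Quotient.mk I (algebraMap B' B (algebraMap R' B' r))
    rw [← IsScalarTower.algebraMap_apply R' R B, ← IsScalarTower.algebraMap_apply R' B' B])
  have P2 : Algebra.IsPushout (R' ⧸ m') (R ⧸ m) (B' ⧸ I') (B ⧸ I) :=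
    (Algebra.IsPushout.comp_iff R' (R' ⧸ m') B' (B' ⧸ I') (T := R ⧸ m) (T' := B ⧸ I)).mp P1
  have P3 : Algebra.IsPushout (R' ⧸ m') (B' ⧸ I') (R ⧸ m) (B ⧸ I) := P2.symm
  letI : Field (R' ⧸ m') := Ideal.Quotient.field m'
  haveI : Module.FaithfullyFlat (B' ⧸ I') (B ⧸ I) :=
    Module.FaithfullyFlat.of_linearEquiv (B' ⧸ I') ((B' ⧸ I') ⊗[R' ⧸ m'] (R ⧸ m))
      (Algebra.IsPushout.equiv (R' ⧸ m') (B' ⧸ I') (R ⧸ m) (B ⧸ I)).toLinearEquiv.symm
  haveI : Module.Flat (B ⧸ I) ((B ⧸ I) ⊗[B' ⧸ I'] ((B' ⧸ I') ⊗[B'] N')) := by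
    let e1 := AlgebraTensorModule.cancelBaseChange B' (B' ⧸ I') (B ⧸ I) (B ⧸ I) N'
    let e2 := AlgebraTensorModule.cancelBaseChange B' B (B ⧸ I) (B ⧸ I) N'
    let e3 := LinearEquiv.baseChange B (B ⧸ I) _ _ hjN.equiv
    exact Module.Flat.of_linearEquiv (e1 ≪≫ₗ e2.symm ≪≫ₗ e3)
  exact Module.Flat.of_flat_tensorProduct (B' ⧸ I') _ (B ⧸ I)

/-- Stage conclusion: local criterion at a Noetherian stage. -/
theorem stage_flat {R' B' D' N' : Type u} [CommRing R'] [IsLocalRing R'] [CommRing B']
    [CommRing D'] [IsNoetherianRing B'] [IsNoetherianRing D'] [Algebra R' B'] [Algebra B' D']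
    [Algebra R' D'] [IsScalarTower R' B' D']
    [AddCommGroup N'] [Module D' N'] [Module B' N'] [IsScalarTower B' D' N'] [Module R' N']
    [IsScalarTower R' B' N'] [IsScalarTower R' D' N'] [Module.Finite D' N'] [Module.Flat R' N']
    (hfib : Module.Flat (B' ⧸ (maximalIdeal R').map (algebraMap R' B'))
      ((B' ⧸ (maximalIdeal R').map (algebraMap R' B')) ⊗[B'] N'))
    (r' : Ideal D') [r'.IsPrime]
    (hr' : (maximalIdeal R').map (algebraMap R' D') ≤ r') :
    Module.Flat B' (LocalizedModule r'.primeCompl N') := by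
  haveI : Module.Flat R' (LocalizedModule r'.primeCompl N') :=
    GenFreeH8.flat_of_isLocalizedModule_algebra r'.primeCompl
      (LocalizedModule.mkLinearMap r'.primeCompl N')
  haveI : IsNoetherianRing (Localization.AtPrime r') :=
    IsLocalization.isNoetherianRing r'.primeCompl _ inferInstance
  haveI : Module.Flat (B' ⧸ (maximalIdeal R').map (algebraMap R' B'))
      ((B' ⧸ (maximalIdeal R').map (algebraMap R' B')) ⊗[B']
        (LocalizedModule r'.primeCompl N')) := by
    rw [Groth.Agent.Lib.LocalCrit7.flat_baseChange_iff_forall_ideal]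
    intro 𝔞
    exact Groth.Agent.Lib.LocalCrit7.lTensor_localizedModule_injective r'.primeCompl N' _
      ((Groth.Agent.Lib.LocalCrit7.flat_baseChange_iff_forall_ideal _ N').mp hfib 𝔞)
  refine Groth.Agent.Lib.LocalCrit3.flat_of_tor_of_flat_quot (R := B')
    (S := Localization.AtPrime r') ((maximalIdeal R').map (algebraMap R' B')) ?_
    (LocalizedModule r'.primeCompl N') ?_
  · rw [Ideal.map_map, ← IsScalarTower.algebraMap_eq, IsScalarTower.algebraMap_eq R' D'
      (Localization.AtPrime r'), ← Ideal.map_map]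
    refine (Ideal.map_mono hr').trans ?_
    rw [Localization.AtPrime.map_eq_maximalIdeal]
    exact IsLocalRing.maximalIdeal_le_jacobson ⊥
  · exact Groth.Agent.Lib.LocalCrit2.rTensor_map_injective (maximalIdeal R')
      (LocalizedModule r'.primeCompl N')

set_option maxHeartbeats 800000 in
/-- From abstract Noetherian stage data to flatness over the middle ring at the top. -/
theorem flat_of_stage {R' R B' B D' D N' N : Type u} [CommRing R'] [CommRing R] [CommRing B']
    [CommRing B] [CommRing D'] [CommRing D] [IsLocalRing R'] [IsLocalRing R] [Algebra R' R]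
    [IsLocalHom (algebraMap R' R)] [IsNoetherianRing B'] [IsNoetherianRing D']
    [Algebra R' B'] [Algebra B' D'] [Algebra R' D'] [IsScalarTower R' B' D']
    [Algebra R B] [Algebra B D] [Algebra R D] [IsScalarTower R B D]
    [Algebra B' B] [Algebra D' D] [Algebra R' B] [Algebra R' D] [Algebra B' D]
    [IsScalarTower R' R B] [IsScalarTower R' B' B] [IsScalarTower R' R D] [IsScalarTower R' D' D]
    [IsScalarTower B' B D] [IsScalarTower B' D' D]
    [Algebra.IsPushout R' R B' B] [Algebra.IsPushout R' R D' D]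
    [AddCommGroup N'] [Module D' N'] [Module B' N'] [IsScalarTower B' D' N'] [Module R' N']
    [IsScalarTower R' B' N'] [IsScalarTower R' D' N'] [Module.Finite D' N'] [Module.Flat R' N']
    [AddCommGroup N] [Module D N] [Module B N] [IsScalarTower B D N] [Module D' N]
    [IsScalarTower D' D N]
    (jN : N' →ₗ[D'] N) (hjN : IsBaseChange D jN)
    (r : Ideal D) [r.IsPrime] (hr : (maximalIdeal R).map (algebraMap R D) ≤ r)
    (hfib : Module.Flat (B ⧸ (maximalIdeal R).map (algebraMap R B))
      ((B ⧸ (maximalIdeal R).map (algebraMap R B)) ⊗[B] N)) :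
    Module.Flat B (LocalizedModule r.primeCompl N) := by
  haveI tRBD : IsScalarTower R' B D := IsScalarTower.of_algebraMap_eq fun x => by
    rw [IsScalarTower.algebraMap_apply R' R D, IsScalarTower.algebraMap_apply R B D,
      ← IsScalarTower.algebraMap_apply R' R B]
  have P0 : Algebra.IsPushout R' B' R B := Algebra.IsPushout.symm inferInstance
  have P0' : Algebra.IsPushout R' D' R D := Algebra.IsPushout.symm inferInstance
  haveI := P0
  have P1 : Algebra.IsPushout B' D' B D :=
    (Algebra.IsPushout.comp_iff R' B' R B (T := D') (T' := D)).mp P0'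
  haveI P : Algebra.IsPushout B' B D' D := P1.symm
  letI modB'N : Module B' N := Module.compHom N (algebraMap B' B)
  haveI tB'BN : IsScalarTower B' B N := IsScalarTower.of_algebraMap_smul fun _ _ => rfl
  haveI tB'D'N : IsScalarTower B' D' N := IsScalarTower.of_algebraMap_smul fun b x => by
    show algebraMap B' D' b • x = algebraMap B' B b • x
    rw [← algebraMap_smul D (algebraMap B' D' b) x, ← IsScalarTower.algebraMap_apply B' D' D,
      IsScalarTower.algebraMap_apply B' B D, algebraMap_smul]
  have hbcB : IsBaseChange B (jN.restrictScalars B') := isBaseChange_of_isPushout jN hjN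
  have hfib' := flat_fibre_descent (R' := R') (R := R) (jN.restrictScalars B') hbcB hfib
  let r' : Ideal D' := r.comap (algebraMap D' D)
  haveI : r'.IsPrime := Ideal.comap_isPrime _ _
  have hr' : (maximalIdeal R').map (algebraMap R' D') ≤ r' := by
    rw [Ideal.map_le_iff_le_comap]
    intro x hx
    rw [Ideal.mem_comap, Ideal.mem_comap, ← IsScalarTower.algebraMap_apply,
      IsScalarTower.algebraMap_apply R' R D]
    exact hr (Ideal.mem_map_of_mem _ (map_nonunit (algebraMap R' R) x hx))
  haveI hst : Module.Flat B' (LocalizedModule r'.primeCompl N') := stage_flat hfib' r' hr'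
  have hle : Algebra.algebraMapSubmonoid D r'.primeCompl ≤ r.primeCompl := by
    rintro _ ⟨t, ht, rfl⟩
    exact ht
  exact FlatBC2H8.flat_of_flat_localized (A := B') (A' := B) (B := D') (B' := D) r'.primeCompl
    r.primeCompl hle jN hjN (LocalizedModule.mkLinearMap r'.primeCompl N')
    (LocalizedModule.mkLinearMap r.primeCompl N)

end Groth.Agent.Lib.FibCritH6
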