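import Mathlib

/-!
# Fibre criterion, part A (helper6): local Noetherian intermediate rings and explicit stage models

APPEND-ONLY once landed.
-/

set_option autoImplicit false
open TensorProduct IsLocalRing

namespace Groth.Agent.Lib.FibInjH6

universe u

/-- Inside a local ring `R` which is an algebra over a Noetherian ring `R₀`, finitely many elements
lie in (the image of) a Noetherian local ring `R'` essentially of finite type over `R₀`, with
`R' → R` local and injective. -/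
theorem exists_local_noetherian_intermediate {R₀ R : Type u} [CommRing R₀] [IsNoetherianRing R₀]
    [CommRing R] [IsLocalRing R] [Algebra R₀ R] (F : Finset R) :
    ∃ (R' : Type u) (_ : CommRing R') (_ : IsLocalRing R') (_ : IsNoetherianRing R')
      (_ : Algebra R₀ R') (_ : Algebra R' R) (_ : IsScalarTower R₀ R' R)
      (_ : IsLocalHom (algebraMap R' R)),
      Function.Injective (algebraMap R' R) ∧
        ∀ r ∈ Algebra.adjoin R₀ (F : Set R), r ∈ Set.range (algebraMap R' R) := by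
  classical
  let A' : Subalgebra R₀ R := Algebra.adjoin R₀ (F : Set R)
  haveI : Algebra.FiniteType R₀ A' :=
    (Subalgebra.fg_iff_finiteType A').mp (Subalgebra.fg_adjoin_finset F)
  haveI : IsNoetherianRing A' := Algebra.FiniteType.isNoetherianRing R₀ A'
  let p' : Ideal A' := (maximalIdeal R).comap (algebraMap A' R)
  haveI : p'.IsPrime := Ideal.comap_isPrime _ _
  have hunit : ∀ y : p'.primeCompl, IsUnit (algebraMap A' R y) := fun y => by
    have h1 : algebraMap A' R y ∉ maximalIdeal R := y.2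
    rwa [IsLocalRing.mem_maximalIdeal, mem_nonunits_iff, not_not] at h1
  let φ : Localization.AtPrime p' →+* R :=
    IsLocalization.lift (M := p'.primeCompl) (g := algebraMap A' R) hunit
  letI algR'R : Algebra (Localization.AtPrime p') R := φ.toAlgebra
  have hφ : ∀ a : A', algebraMap (Localization.AtPrime p') R
      (algebraMap A' (Localization.AtPrime p') a) = algebraMap A' R a :=
    fun a => IsLocalization.lift_eq _ a
  haveI tw1 : IsScalarTower A' (Localization.AtPrime p') R :=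
    IsScalarTower.of_algebraMap_eq (fun a => (hφ a).symm)
  haveI tw2 : IsScalarTower R₀ (Localization.AtPrime p') R :=
    IsScalarTower.of_algebraMap_eq (fun x => by
      rw [IsScalarTower.algebraMap_apply R₀ A' (Localization.AtPrime p'), hφ,
        ← IsScalarTower.algebraMap_apply R₀ A' R])
  have hmk : ∀ (x : A') (s : p'.primeCompl),
      algebraMap (Localization.AtPrime p') R (IsLocalization.mk' _ x s) * algebraMap A' R s =
        algebraMap A' R x := by
    intro x s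
    rw [← hφ s, ← hφ x, ← map_mul, IsLocalization.mk'_spec]
  haveI hloc : IsLocalHom (algebraMap (Localization.AtPrime p') R) := ⟨fun a ha => by
    obtain ⟨x, s, rfl⟩ := IsLocalization.exists_mk'_eq p'.primeCompl a
    have hx : IsUnit (algebraMap A' R x) := by
      rw [← hmk x s]
      exact ha.mul (hunit s)
    have hxp : x ∈ p'.primeCompl := by
      intro hx'
      exact ((IsLocalRing.mem_maximalIdeal _).mp hx') hx
    exact (IsLocalization.AtPrime.isUnit_mk'_iff (Localization.AtPrime p') p' x s).mpr hxp⟩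
  refine ⟨Localization.AtPrime p', inferInstance, inferInstance,
    IsLocalization.isNoetherianRing p'.primeCompl _ inferInstance, inferInstance, algR'R, tw2,
    hloc, ?_, ?_⟩
  · rw [injective_iff_map_eq_zero]
    intro a ha
    obtain ⟨x, s, rfl⟩ := IsLocalization.exists_mk'_eq p'.primeCompl a
    have h1 := hmk x s
    rw [ha, zero_mul] at h1
    have hx0 : x = 0 := Subtype.ext h1.symm
    rw [hx0, IsLocalization.mk'_zero]
  · intro r hr
    exact ⟨algebraMap A' (Localization.AtPrime p') ⟨r, hr⟩, hφ _⟩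

section Stage

attribute [local instance] Algebra.TensorProduct.rightAlgebra

variable {R₀ R S₀ S₁ : Type u} [CommRing R₀] [CommRing R] [CommRing S₀] [CommRing S₁]
  [Algebra R₀ R] [Algebra R₀ S₀] [Algebra R S₁] [Algebra S₀ S₁] [Algebra R₀ S₁]
  [IsScalarTower R₀ R S₁] [IsScalarTower R₀ S₀ S₁] [Algebra.IsPushout R₀ R S₀ S₁]
  {N₀ N₁ : Type u} [AddCommGroup N₀] [Module S₀ N₀] [Module R₀ N₀] [IsScalarTower R₀ S₀ N₀]
  [AddCommGroup N₁] [Module S₁ N₁] [Module S₀ N₁] [IsScalarTower S₀ S₁ N₁]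

/-- **Explicit stage model** over an intermediate ring `R₀ → R' → R`. -/
theorem exists_stage [Algebra.FiniteType R₀ S₀] [Module.Finite S₀ N₀] [Module.Flat R₀ N₀]
    {f₀ : N₀ →ₗ[S₀] N₁} (hf₀ : IsBaseChange S₁ f₀)
    (R' : Type u) [CommRing R'] [Algebra R₀ R'] [Algebra R' R] [IsScalarTower R₀ R' R]
    (hR' : Function.Injective (algebraMap R' R)) :
    ∃ (S' : Type u) (_ : CommRing S') (_ : Algebra R' S') (_ : Algebra S' S₁) (_ : Algebra R' S₁)
      (_ : IsScalarTower R' R S₁) (_ : IsScalarTower R' S' S₁)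
      (N' : Type u) (_ : AddCommGroup N') (_ : Module S' N') (_ : Module R' N')
      (_ : IsScalarTower R' S' N') (_ : Module S' N₁) (_ : IsScalarTower S' S₁ N₁)
      (fN : N' →ₗ[S'] N₁),
      Algebra.FiniteType R' S' ∧ Module.Finite S' N' ∧ Module.Flat R' N' ∧
        Algebra.IsPushout R' R S' S₁ ∧ IsBaseChange S₁ fN ∧ Function.Injective fN ∧
        (∀ (a : R') (b : S₀), ∃ s' : S',
          algebraMap S' S₁ s' = algebraMap R S₁ (algebraMap R' R a) * algebraMap S₀ S₁ b) ∧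
        (∀ (a : R') (n : N₀), ∃ n' : N',
          fN n' = (algebraMap R S₁ (algebraMap R' R a)) • f₀ n) := by
  letI algR'S : Algebra R' S₁ := ((algebraMap R S₁).comp (algebraMap R' R)).toAlgebra
  haveI tw1 : IsScalarTower R' R S₁ := IsScalarTower.of_algebraMap_eq (fun _ => rfl)
  haveI tw2 : IsScalarTower R₀ R' S₁ := IsScalarTower.of_algebraMap_eq (fun x => by
    show algebraMap R₀ S₁ x = algebraMap R S₁ (algebraMap R' R (algebraMap R₀ R' x))
    rw [← IsScalarTower.algebraMap_apply R₀ R' R, ← IsScalarTower.algebraMap_apply R₀ R S₁])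
  obtain ⟨ψ, hψ⟩ : ∃ ψ : R' ⊗[R₀] S₀ →ₐ[R'] S₁, ∀ (a : R') (b : S₀),
      ψ (a ⊗ₜ b) = algebraMap R' S₁ a * algebraMap S₀ S₁ b :=
    ⟨Algebra.TensorProduct.lift (Algebra.ofId R' S₁) (IsScalarTower.toAlgHom R₀ S₀ S₁)
      (fun _ _ => Commute.all _ _), fun a b => rfl⟩
  letI algS'S : Algebra (R' ⊗[R₀] S₀) S₁ := ψ.toRingHom.toAlgebra
  have halg : ∀ x, algebraMap (R' ⊗[R₀] S₀) S₁ x = ψ x := fun x => rfl
  haveI tw3 : IsScalarTower R' (R' ⊗[R₀] S₀) S₁ := IsScalarTower.of_algebraMap_eq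
    (fun x => (ψ.commutes x).symm)
  haveI tw4 : IsScalarTower R₀ (R' ⊗[R₀] S₀) S₁ := IsScalarTower.of_algebraMap_eq (fun x => by
    rw [halg]
    show algebraMap R₀ S₁ x = ψ (algebraMap R₀ R' x ⊗ₜ 1)
    rw [hψ, map_one, mul_one, ← IsScalarTower.algebraMap_apply R₀ R' S₁])
  haveI tw5 : IsScalarTower S₀ (R' ⊗[R₀] S₀) S₁ := IsScalarTower.of_algebraMap_eq (fun x => by
    rw [halg]
    show algebraMap S₀ S₁ x = ψ (1 ⊗ₜ x)
    rw [hψ, map_one, one_mul])
  have push : Algebra.IsPushout R' R (R' ⊗[R₀] S₀) S₁ :=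
    (Algebra.IsPushout.comp_iff R₀ R' S₀ (S' := R' ⊗[R₀] S₀) (T := R) (T' := S₁)).mp inferInstance
  letI modS'N : Module (R' ⊗[R₀] S₀) N₁ := Module.compHom N₁ (algebraMap (R' ⊗[R₀] S₀) S₁)
  haveI tw6 : IsScalarTower (R' ⊗[R₀] S₀) S₁ N₁ :=
    ⟨fun x y z => by
      show (algebraMap (R' ⊗[R₀] S₀) S₁ x * y) • z = algebraMap (R' ⊗[R₀] S₀) S₁ x • (y • z)
      rw [mul_smul]⟩
  haveI tw7 : IsScalarTower S₀ (R' ⊗[R₀] S₀) N₁ :=
    ⟨fun x y z => by
      show algebraMap (R' ⊗[R₀] S₀) S₁ (x • y) • z = x • (algebraMap (R' ⊗[R₀] S₀) S₁ y • z)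
      rw [Algebra.smul_def, map_mul, mul_smul, ← IsScalarTower.algebraMap_apply S₀ (R' ⊗[R₀] S₀) S₁,
        algebraMap_smul]⟩
  obtain ⟨f, hf⟩ : ∃ f : (R' ⊗[R₀] S₀) ⊗[S₀] N₀ →ₗ[R' ⊗[R₀] S₀] N₁,
      (f.restrictScalars S₀).comp (TensorProduct.mk S₀ (R' ⊗[R₀] S₀) N₀ 1) = f₀ :=
    ⟨(TensorProduct.isBaseChange S₀ N₀ (R' ⊗[R₀] S₀)).lift f₀,
      (TensorProduct.isBaseChange S₀ N₀ (R' ⊗[R₀] S₀)).lift_comp f₀⟩
  have hbc : IsBaseChange S₁ f := by
    refine IsBaseChange.of_comp (TensorProduct.isBaseChange S₀ N₀ (R' ⊗[R₀] S₀)) ?_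
    rw [hf]
    exact hf₀
  have hflat : Module.Flat R' ((R' ⊗[R₀] S₀) ⊗[S₀] N₀) :=
    Module.Flat.of_linearEquiv
      (Algebra.IsPushout.cancelBaseChange R₀ R' S₀ (R' ⊗[R₀] S₀) N₀)
  have hf1 : ∀ n : N₀, f ((1 : R' ⊗[R₀] S₀) ⊗ₜ[S₀] n) = f₀ n := fun n =>
    LinearMap.congr_fun hf n
  have hftm : ∀ (s : R' ⊗[R₀] S₀) (n : N₀), f (s ⊗ₜ[S₀] n) = algebraMap (R' ⊗[R₀] S₀) S₁ s • f₀ n := by
    intro s n
    have : s ⊗ₜ[S₀] n = s • ((1 : R' ⊗[R₀] S₀) ⊗ₜ[S₀] n) := by
      rw [TensorProduct.smul_tmul', smul_eq_mul, mul_one]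
    rw [this, map_smul, hf1]
    rfl
  refine ⟨R' ⊗[R₀] S₀, inferInstance, inferInstance, algS'S, algR'S, tw1, tw3,
    (R' ⊗[R₀] S₀) ⊗[S₀] N₀, inferInstance, inferInstance, inferInstance, inferInstance,
    modS'N, tw6, f, inferInstance, inferInstance, hflat, push, hbc, ?_, ?_, ?_⟩
  · -- injectivity
    let ρ : R' ⊗[R₀] N₀ →ₗ[R₀] R ⊗[R₀] N₀ :=
      LinearMap.rTensor N₀ (IsScalarTower.toAlgHom R₀ R' R).toLinearMap
    have hρ : Function.Injective ρ :=
      Module.Flat.rTensor_preserves_injective_linearMap _ hR'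
    have hnat : ∀ z : R' ⊗[R₀] N₀,
        f ((Algebra.IsPushout.cancelBaseChange R₀ R' S₀ (R' ⊗[R₀] S₀) N₀).symm z) =
          hf₀.equiv ((Algebra.IsPushout.cancelBaseChange R₀ R S₀ S₁ N₀).symm (ρ z)) := by
      intro z
      induction z using TensorProduct.induction_on with
      | zero => simp
      | tmul a n =>
        rw [Algebra.IsPushout.cancelBaseChange_symm_tmul, hftm, LinearMap.rTensor_tmul,
          Algebra.IsPushout.cancelBaseChange_symm_tmul, IsBaseChange.equiv_tmul,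
          ← IsScalarTower.algebraMap_apply R' (R' ⊗[R₀] S₀) S₁]
        rfl
      | add x y hx hy => simp only [map_add, hx, hy]
    rw [injective_iff_map_eq_zero]
    intro y hy
    have h1 := hnat (Algebra.IsPushout.cancelBaseChange R₀ R' S₀ (R' ⊗[R₀] S₀) N₀ y)
    rw [LinearEquiv.symm_apply_apply, hy] at h1
    have h2 : (Algebra.IsPushout.cancelBaseChange R₀ R S₀ S₁ N₀).symm
        (ρ (Algebra.IsPushout.cancelBaseChange R₀ R' S₀ (R' ⊗[R₀] S₀) N₀ y)) = 0 :=
      hf₀.equiv.injective (h1.symm.trans (map_zero _).symm)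
    have h3 : ρ (Algebra.IsPushout.cancelBaseChange R₀ R' S₀ (R' ⊗[R₀] S₀) N₀ y) = 0 :=
      (Algebra.IsPushout.cancelBaseChange R₀ R S₀ S₁ N₀).symm.injective
        (h2.trans (map_zero _).symm)
    have h4 := hρ (h3.trans (map_zero _).symm)
    exact (Algebra.IsPushout.cancelBaseChange R₀ R' S₀ (R' ⊗[R₀] S₀) N₀).injective
      (h4.trans (map_zero _).symm)
  · intro a b
    exact ⟨a ⊗ₜ b, hψ a b⟩
  · intro a n
    refine ⟨(a ⊗ₜ[R₀] (1 : S₀)) ⊗ₜ[S₀] n, ?_⟩
    rw [hftm, halg, hψ, map_one, mul_one]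
    rfl

end Stage

end Groth.Agent.Lib.FibInjH6
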