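import Mathlib

/-!
# Finite free resolutions for a class of modules closed under syzygies
(adapted from `FinFreeRes_helper7`, with an abstract class instead of finite modules over a
noetherian ring)
-/

set_option autoImplicit false
universe u
open CategoryTheory Limits

namespace Groth.Agent.Lib.FinFreeResH8

variable {R : Type u} [CommRing R] (C : ModuleCat.{u} R → Prop)

/-- `C` is closed under syzygies: every module in `C` admits a surjection from a finite free
module whose kernel is again in `C`. -/
def SyzygyClosed : Prop :=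
  ∀ N : ModuleCat.{u} R, C N → ∃ (n : ℕ) (p : (Fin n → R) →ₗ[R] N),
    Function.Surjective p ∧ C (ModuleCat.of R (LinearMap.ker p))

variable {C} (hC : SyzygyClosed C)

/-- modules in the class, bundled -/
abbrev FM (C : ModuleCat.{u} R → Prop) : Type (u + 1) := {N : ModuleCat.{u} R // C N}

/-- number of generators -/
noncomputable def rk (N : FM C) : ℕ := (hC N.1 N.2).choose

/-- a chosen surjection from a finite free module -/
noncomputable def p (N : FM C) : (Fin (rk hC N) → R) →ₗ[R] N.1 := (hC N.1 N.2).choose_spec.choose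

theorem p_surjective (N : FM C) : Function.Surjective (p hC N) :=
  (hC N.1 N.2).choose_spec.choose_spec.1

/-- the syzygy module -/
noncomputable def next (N : FM C) : FM C :=
  ⟨ModuleCat.of R (LinearMap.ker (p hC N)), (hC N.1 N.2).choose_spec.choose_spec.2⟩

/-- iterated syzygies -/
noncomputable def K (M : FM C) : ℕ → FM C
  | 0 => M
  | n + 1 => next hC (K M n)

variable (M : FM C)

/-- the terms -/
noncomputable def X (n : ℕ) : ModuleCat.{u} R := ModuleCat.of R (Fin (rk hC (K hC M n)) → R)

/-- the covering maps -/
noncomputable def π (n : ℕ) : X hC M n ⟶ (K hC M n).1 := ModuleCat.ofHom (p hC (K hC M n))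

/-- the inclusions of syzygies -/
noncomputable def ι (n : ℕ) : (K hC M (n + 1)).1 ⟶ X hC M n :=
  ModuleCat.ofHom (LinearMap.ker (p hC (K hC M n))).subtype

theorem π_surjective (n : ℕ) : Function.Surjective (π hC M n) := p_surjective hC _

theorem ι_injective (n : ℕ) : Function.Injective (ι hC M n) := Subtype.val_injective

theorem ι_π (n : ℕ) : ι hC M n ≫ π hC M n = 0 := by
  ext x
  exact x.2

theorem exists_ι_eq (n : ℕ) (x : X hC M n) (hx : π hC M n x = 0) : ∃ y, ι hC M n y = x :=
  ⟨⟨x, hx⟩, rfl⟩

/-- the differentials -/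
noncomputable def d (n : ℕ) : X hC M (n + 1) ⟶ X hC M n := π hC M (n + 1) ≫ ι hC M n

theorem sq (n : ℕ) : d hC M (n + 1) ≫ d hC M n = 0 := by
  unfold d
  rw [Category.assoc, ← Category.assoc (ι hC M (n + 1)), ι_π, zero_comp, comp_zero]

theorem d_π : d hC M 0 ≫ π hC M 0 = 0 := by
  unfold d
  rw [Category.assoc, ι_π, comp_zero]

theorem exact_succ (n : ℕ) :
    (ShortComplex.mk (d hC M (n + 1)) (d hC M n) (sq hC M n)).Exact := by
  rw [ShortComplex.moduleCat_exact_iff]
  intro x hx
  have h1 : π hC M (n + 1) x = 0 := by
    apply ι_injective hC M n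
    rw [map_zero]
    exact hx
  obtain ⟨y, hy⟩ := exists_ι_eq hC M (n + 1) x h1
  obtain ⟨z, hz⟩ := π_surjective hC M (n + 2) y
  refine ⟨z, ?_⟩
  show ι hC M (n + 1) (π hC M (n + 2) z) = x
  rw [hz, hy]

theorem exact_zero : (ShortComplex.mk (d hC M 0) (π hC M 0) (d_π hC M)).Exact := by
  rw [ShortComplex.moduleCat_exact_iff]
  intro x hx
  obtain ⟨y, hy⟩ := exists_ι_eq hC M 0 x hx
  obtain ⟨z, hz⟩ := π_surjective hC M 1 y
  refine ⟨z, ?_⟩
  show ι hC M 0 (π hC M 1 z) = x
  rw [hz, hy]

instance (n : ℕ) : Projective (X hC M n) := by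
  unfold X
  infer_instance

/-- the complex -/
noncomputable def cx : ChainComplex (ModuleCat.{u} R) ℕ :=
  ChainComplex.of (X hC M) (d hC M) (sq hC M)

theorem cx_d_1_0 : (cx hC M).d 1 0 = d hC M 0 := by
  show ChainComplex.of.d (X hC M) (d hC M) (0 + 1) 0 = d hC M 0
  exact ChainComplex.of_d _ _ 0

theorem cx_exactAt_succ (n : ℕ) : (cx hC M).ExactAt (n + 1) := by
  rw [HomologicalComplex.exactAt_iff' _ (n + 1 + 1) (n + 1) n (by simp) (by simp)]
  have h1 : (cx hC M).d (n + 1 + 1) (n + 1) = d hC M (n + 1) := ChainComplex.of_d _ _ (n + 1)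
  have h2 : (cx hC M).d (n + 1) n = d hC M n := ChainComplex.of_d _ _ n
  refine (ShortComplex.exact_iff_of_iso ?_).mpr (exact_succ hC M n)
  exact ShortComplex.isoMk (Iso.refl _) (Iso.refl _) (Iso.refl _)
    (by
      simp only [HomologicalComplex.sc', HomologicalComplex.shortComplexFunctor', h1, Iso.refl_hom]
      exact (Category.id_comp _).trans (Category.comp_id _).symm)
    (by
      simp only [HomologicalComplex.sc', HomologicalComplex.shortComplexFunctor', h2, Iso.refl_hom]
      exact (Category.id_comp _).trans (Category.comp_id _).symm)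

/-- the resolution -/
noncomputable def res : ProjectiveResolution M.1 where
  complex := cx hC M
  projective := fun n => (inferInstance : Projective (X hC M n))
  π := (ChainComplex.toSingle₀Equiv _ _).symm ⟨(show (cx hC M).X 0 ⟶ M.1 from π hC M 0), by
    rw [cx_d_1_0]
    exact d_π hC M⟩
  quasiIso := ⟨fun n => by
    cases n
    · rw [ChainComplex.quasiIsoAt₀_iff, ShortComplex.quasiIso_iff_of_zeros']
      · dsimp
        haveI : Epi (π hC M 0) := (ModuleCat.epi_iff_surjective _).mpr (π_surjective hC M 0)
        refine (ShortComplex.exact_and_epi_g_iff_of_iso ?_).2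
          ⟨exact_zero hC M, by dsimp; infer_instance⟩
        exact ShortComplex.isoMk (Iso.refl _) (Iso.refl _) (Iso.refl _)
          (by
            simp only [cx_d_1_0, Iso.refl_hom]
            exact (Category.id_comp _).trans (Category.comp_id _).symm)
          (by
            simp only [Iso.refl_hom]
            exact (Category.id_comp _).trans (Category.comp_id _).symm)
      all_goals rfl
    · rw [quasiIsoAt_iff_exactAt']
      · apply cx_exactAt_succ
      · apply ChainComplex.exactAt_succ_single_obj⟩

theorem res_finite_free (n : ℕ) :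
    Module.Finite R ((res hC M).complex.X n) ∧ Module.Free R ((res hC M).complex.X n) := by
  constructor
  · show Module.Finite R (Fin (rk hC (K hC M n)) → R)
    infer_instance
  · show Module.Free R (Fin (rk hC (K hC M n)) → R)
    infer_instance

/-- **Finite free resolutions** for modules in a syzygy-closed class. -/
theorem exists_finite_free_resolution (hC : SyzygyClosed C) (N : ModuleCat.{u} R) (hN : C N) :
    ∃ P : ProjectiveResolution N,
      ∀ n : ℕ, Module.Finite R (P.complex.X n) ∧ Module.Free R (P.complex.X n) :=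
  ⟨res hC ⟨N, hN⟩, res_finite_free hC ⟨N, hN⟩⟩

end Groth.Agent.Lib.FinFreeResH8
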