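import Mathlib
import Groth.Agent.Lib.LocalCrit3_helper9
import Groth.Agent.Lib.LocalCrit7_helper9

/-!
# Flatness descent, part 1: local criterion with torsion kernels
-/

namespace Groth.Agent.Lib.FlatDescH8

open TensorProduct

universe u

/-- Localization kills torsion kernels. -/
theorem map_injective_of_torsion_ker {S : Type*} [CommRing S] (T : Submonoid S)
    {X Y X' Y' : Type*} [AddCommGroup X] [Module S X] [AddCommGroup Y] [Module S Y]
    [AddCommGroup X'] [Module S X'] [AddCommGroup Y'] [Module S Y']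
    (fX : X →ₗ[S] X') (fY : Y →ₗ[S] Y') [IsLocalizedModule T fX] [IsLocalizedModule T fY]
    (g : X →ₗ[S] Y) (h : ∀ x, g x = 0 → ∃ t ∈ T, t • x = 0) :
    Function.Injective (IsLocalizedModule.map T fX fY g) := by
  rw [injective_iff_map_eq_zero]
  intro x' hx'
  obtain ⟨⟨x, s⟩, hxs⟩ := IsLocalizedModule.surj T fX x'
  have h1 : fY (g x) = 0 := by
    rw [← IsLocalizedModule.map_apply T fX fY g x, ← hxs, Submonoid.smul_def, map_smul, hx', smul_zero]
  obtain ⟨t, ht⟩ := (IsLocalizedModule.eq_zero_iff T (f := fY)).mp h1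
  obtain ⟨t', ht'T, ht'⟩ := h ((t : S) • x) (by rw [map_smul]; exact ht)
  have h2 : fX x = 0 := by
    rw [IsLocalizedModule.eq_zero_iff T]
    refine ⟨⟨t', ht'T⟩ * t, ?_⟩
    rw [Submonoid.smul_def, Submonoid.coe_mul, mul_smul]
    exact ht'
  have h3 : (s : S) • x' = 0 := by
    have := hxs
    rw [h2] at this
    exact this
  have hu := IsLocalizedModule.map_units fX s
  have h4 : (algebraMap S (Module.End S X') (s : S)) x' = 0 := by
    rw [Module.algebraMap_end_apply]; exact h3
  exact (Module.End.isUnit_iff _ |>.mp hu).injective (h4.trans (map_zero _).symm)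

/-- torsion-kernel version of `LocalCrit7.lTensor_localizedModule_injective`. -/
lemma lTensor_localizedModule_injective_of_torsion {R S : Type*} [CommRing R] [CommRing S]
    [Algebra R S] (T : Submonoid S) (M : Type*) [AddCommGroup M] [Module S M] [Module R M]
    [IsScalarTower R S M] {N P : Type*} [AddCommGroup N] [Module R N] [AddCommGroup P]
    [Module R P] (f : N →ₗ[R] P) (c : R) (hc : algebraMap R S c ∈ T)
    (h : ∀ x : M ⊗[R] N, f.lTensor M x = 0 → ∃ n : ℕ, (c ^ n) • x = 0) :
    Function.Injective (f.lTensor (LocalizedModule T M)) := by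
  have h1 := map_injective_of_torsion_ker T
    (AlgebraTensorModule.rTensor R N (LocalizedModule.mkLinearMap T M))
    (AlgebraTensorModule.rTensor R P (LocalizedModule.mkLinearMap T M))
    (AlgebraTensorModule.lTensor S M f) (by
      intro x hx
      obtain ⟨n, hn⟩ := h x hx
      refine ⟨algebraMap R S (c ^ n), ?_, ?_⟩
      · rw [map_pow]; exact pow_mem hc n
      · rw [algebraMap_smul]; exact hn)
  rw [IsLocalizedModule.map_lTensor] at h1
  exact h1

/-- **Local criterion with torsion kernels**: `R → S` Noetherian, `N` a finite `S`-module, `I` an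
ideal of `R`, `c ∈ R`. If `N/IN` is flat over `R/I` up to `c`-power torsion and
`ker (N ⊗ I → N)` is `c`-power torsion, then `N_q` is `R`-flat at every prime `q ⊇ IS` of `S`
not containing `c`. -/
theorem flat_localizedModule_of_torsion {R S : Type u} [CommRing R] [CommRing S]
    [IsNoetherianRing R] [IsNoetherianRing S] [Algebra R S] (I : Ideal R) (c : R)
    (N : Type u) [AddCommGroup N] [Module S N] [Module R N] [IsScalarTower R S N]
    [Module.Finite S N]
    (h1 : ∀ (𝔞 : Ideal (R ⧸ I)) (x : N ⊗[R] 𝔞),
      (𝔞.subtype.restrictScalars R).lTensor N x = 0 → ∃ n : ℕ, (c ^ n) • x = 0)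
    (h2 : ∀ x : N ⊗[R] I, I.subtype.lTensor N x = 0 → ∃ n : ℕ, (c ^ n) • x = 0)
    (q : Ideal S) [q.IsPrime] (hIq : I.map (algebraMap R S) ≤ q)
    (hc : algebraMap R S c ∉ q) :
    Module.Flat R (LocalizedModule q.primeCompl N) := by
  have hc' : algebraMap R S c ∈ q.primeCompl := hc
  haveI : Module.Flat (R ⧸ I) ((R ⧸ I) ⊗[R] LocalizedModule q.primeCompl N) := by
    rw [LocalCrit7.flat_baseChange_iff_forall_ideal]
    intro 𝔞
    exact lTensor_localizedModule_injective_of_torsion q.primeCompl N _ c hc' (h1 𝔞)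
  have htor : Function.Injective (I.subtype.rTensor (LocalizedModule q.primeCompl N)) := by
    rw [← LinearMap.lTensor_inj_iff_rTensor_inj]
    exact lTensor_localizedModule_injective_of_torsion q.primeCompl N _ c hc' h2
  refine LocalCrit3.flat_of_tor_of_flat_quot (S := Localization.AtPrime q) I ?_
    (LocalizedModule q.primeCompl N) htor
  rw [IsScalarTower.algebraMap_eq R S (Localization.AtPrime q), ← Ideal.map_map]
  refine (Ideal.map_mono hIq).trans ?_
  rw [Localization.AtPrime.map_eq_maximalIdeal]
  exact IsLocalRing.maximalIdeal_le_jacobson ⊥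

end Groth.Agent.Lib.FlatDescH8
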