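import Mathlib
import Groth.Agent.Lib.LocalCrit9_helper9

/-!
# Flatness descent, part 2: Tor kernels via presentations
-/

namespace Groth.Agent.Lib.FlatDescH8

open TensorProduct

universe u

theorem one_tmul_eq_zero_iff {R M : Type*} [CommRing R] [AddCommGroup M] [Module R M]
    (I : Ideal R) (x : M) :
    (1 : R ⧸ I) ⊗ₜ[R] x = 0 ↔ x ∈ I • (⊤ : Submodule R M) := by
  rw [← (TensorProduct.quotTensorEquivQuotSMul M I).map_eq_zero_iff,
    TensorProduct.quotTensorEquivQuotSMul_mk_one_tmul, Submodule.Quotient.mk_eq_zero]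

/-- (B1) If `F/K` is flat then `K ∩ IF ⊆ IK`. -/
theorem inf_smul_top_le_smul_of_flat {R : Type u} [CommRing R] {F : Type*} [AddCommGroup F]
    [Module R F] (K : Submodule R F) [Module.Flat R (F ⧸ K)] (I : Ideal R) :
    K ⊓ I • ⊤ ≤ I • K := by
  haveI : Module.Flat R (F ⧸ LinearMap.range K.subtype) := by
    rw [Submodule.range_subtype]; infer_instance
  have hflat0 := @LocalCrit9.lTensor_injective_of_flat_coker R _ K F _ _ _ _ K.subtype
    (Submodule.injective_subtype _) _ (R ⧸ I) _ _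
  rintro x ⟨hxK, hxI⟩
  have h1 : K.subtype.lTensor (R ⧸ I) ((1 : R ⧸ I) ⊗ₜ[R] (⟨x, hxK⟩ : K)) = 0 := by
    rw [LinearMap.lTensor_tmul]
    exact (one_tmul_eq_zero_iff I _).mpr hxI
  have h2 : ((1 : R ⧸ I) ⊗ₜ[R] (⟨x, hxK⟩ : K) : (R ⧸ I) ⊗[R] K) = 0 :=
    hflat0 (by rw [h1, map_zero])
  have h3 := (one_tmul_eq_zero_iff I _).mp h2
  have h4 : x ∈ (I • (⊤ : Submodule R K)).map K.subtype := ⟨_, h3, rfl⟩
  rw [Submodule.map_smul'', Submodule.map_top, Submodule.range_subtype] at h4
  exact h4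

section B2

variable {R : Type u} [CommRing R] (I : Ideal R) {F : Type*} [AddCommGroup F] [Module R F]
  (K : Submodule R F)

/-- the multiplication map `F ⊗ I → F`. -/
noncomputable def mulMap : F ⊗[R] I →ₗ[R] F :=
  (TensorProduct.rid R F).toLinearMap ∘ₗ (I.subtype.lTensor F)

lemma mulMap_tmul (f : F) (i : I) : mulMap I (f ⊗ₜ[R] i) = (i : R) • f := by
  simp [mulMap]

lemma mulMap_mem (y : F ⊗[R] I) : mulMap I y ∈ I • (⊤ : Submodule R F) := by
  induction y with
  | zero => simp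
  | tmul f i => rw [mulMap_tmul]; exact Submodule.smul_mem_smul i.2 Submodule.mem_top
  | add a b ha hb => rw [map_add]; exact add_mem ha hb

lemma mulMap_injective [Module.Flat R F] : Function.Injective (mulMap (F := F) I) := by
  unfold mulMap
  rw [LinearMap.coe_comp]
  exact (TensorProduct.rid R F).injective.comp
    (Module.Flat.lTensor_preserves_injective_linearMap _ (Submodule.injective_subtype _))

lemma exists_of_mem_smul (v : F) (hv : v ∈ I • K) :
    ∃ y' : K ⊗[R] I, mulMap I (K.subtype.rTensor I y') = v := by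
  refine Submodule.smul_induction_on (p := fun v => ∃ y' : K ⊗[R] I,
    mulMap I (K.subtype.rTensor I y') = v) hv ?_ ?_
  · intro i hi k hk
    exact ⟨(⟨k, hk⟩ : K) ⊗ₜ[R] (⟨i, hi⟩ : I), by simp [mulMap_tmul]⟩
  · rintro a b ⟨ya, rfl⟩ ⟨yb, rfl⟩
    exact ⟨ya + yb, by simp⟩

lemma mkQ_mulMap (y : F ⊗[R] I) : K.mkQ (mulMap I y) = mulMap I (K.mkQ.rTensor I y) := by
  induction y with
  | zero => simp
  | tmul f i => simp [mulMap_tmul]
  | add a b ha hb => simp only [map_add, ha, hb]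

/-- (B2) If `K ∩ IF ⊆ IK` up to `c`-power torsion and `F` is flat, then `ker ((F/K) ⊗ I → F/K)`
is `c`-power torsion. -/
theorem torsion_ker_of_inf_le [Module.Flat R F] (c : R)
    (h : ∀ z ∈ K, z ∈ I • (⊤ : Submodule R F) → ∃ n : ℕ, c ^ n • z ∈ I • K)
    (x : (F ⧸ K) ⊗[R] I) (hx : I.subtype.lTensor (F ⧸ K) x = 0) : ∃ n : ℕ, c ^ n • x = 0 := by
  obtain ⟨y, rfl⟩ := LinearMap.rTensor_surjective I K.mkQ_surjective x
  have hw : mulMap I y ∈ K := by
    rw [← Submodule.Quotient.mk_eq_zero, ← Submodule.mkQ_apply]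
    rw [mkQ_mulMap]
    unfold mulMap
    rw [LinearMap.comp_apply, hx, map_zero]
  obtain ⟨n, hn⟩ := h _ hw (mulMap_mem I y)
  obtain ⟨y', hy'⟩ := exists_of_mem_smul I K _ hn
  refine ⟨n, ?_⟩
  have h2 : c ^ n • y = K.subtype.rTensor I y' := by
    apply mulMap_injective I
    rw [hy', map_smul]
  rw [← map_smul, h2, ← LinearMap.comp_apply, ← LinearMap.rTensor_comp]
  have : K.mkQ ∘ₗ K.subtype = 0 := by
    ext k; simp
  rw [this, LinearMap.rTensor_zero, LinearMap.zero_apply]

end B2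

section F3

variable {R : Type u} [CommRing R] (I : Ideal R) (c : R) {F : Type u} [AddCommGroup F]
  [Module R F] (K : Submodule R F) (R' : Type u) [CommRing R'] [Algebra R R']

/-- `π : R' → R'/IR'` as an `R`-linear map. -/
noncomputable def piMap : R' →ₗ[R] R' ⧸ I.map (algebraMap R R') :=
  (Ideal.Quotient.mkₐ R (I.map (algebraMap R R'))).toLinearMap

lemma piMap_surjective : Function.Surjective (piMap I R') :=
  Ideal.Quotient.mk_surjective

lemma piMap_rTensor_eq_zero (z : R' ⊗[R] F)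
    (hz : z ∈ (I.map (algebraMap R R')) • (⊤ : Submodule R' (R' ⊗[R] F))) :
    (piMap I R').rTensor F z = 0 := by
  obtain ⟨π', hπ'⟩ : ∃ π' : R' →ₗ[R'] R' ⧸ I.map (algebraMap R R'),
      ∀ r, π' r = Ideal.Quotient.mk _ r :=
    ⟨(Ideal.Quotient.mkₐ R' (I.map (algebraMap R R'))).toLinearMap, fun r => rfl⟩
  have hkill : ∀ a' ∈ I.map (algebraMap R R'),
      ∀ y : (R' ⧸ I.map (algebraMap R R')) ⊗[R] F, a' • y = 0 := by
    intro a' ha' y
    induction y with
    | zero => simp
    | tmul n f =>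
      obtain ⟨r, rfl⟩ := Ideal.Quotient.mk_surjective n
      rw [TensorProduct.smul_tmul', Algebra.smul_def, Ideal.Quotient.algebraMap_eq, ← map_mul,
        Ideal.Quotient.eq_zero_iff_mem.mpr (Ideal.mul_mem_right _ _ ha'), TensorProduct.zero_tmul]
    | add a b ha hb => rw [smul_add, ha, hb, add_zero]
  have hle : (I.map (algebraMap R R')) • (⊤ : Submodule R' (R' ⊗[R] F)) ≤
      LinearMap.ker (AlgebraTensorModule.rTensor R F π') := by
    rw [Submodule.smul_le]
    intro a' ha' w _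
    rw [LinearMap.mem_ker, map_smul]
    exact hkill a' ha' _
  have h1 : ∀ z : R' ⊗[R] F,
      (piMap I R').rTensor F z = AlgebraTensorModule.rTensor R F π' z := by
    intro z
    induction z with
    | zero => simp
    | tmul r f => simp [hπ', piMap]
    | add a b ha hb => simp only [map_add, ha, hb]
  rw [h1]
  exact hle hz

theorem ker_generation
    (hG1 : ∀ x : (R' ⧸ I.map (algebraMap R R')) ⊗[R] K, K.subtype.lTensor _ x = 0 →
      ∃ n : ℕ, c ^ n • x ∈ LinearMap.range
        (((I • ⊤ : Submodule R F).comap K.subtype).subtype.lTensor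
          (R' ⧸ I.map (algebraMap R R'))))
    (ζ : R' ⊗[R] K)
    (hζ : K.subtype.lTensor R' ζ ∈
      (I.map (algebraMap R R')) • (⊤ : Submodule R' (R' ⊗[R] F))) :
    ∃ n : ℕ, c ^ n • ζ ∈
      LinearMap.range (((I • ⊤ : Submodule R F).comap K.subtype).subtype.lTensor R') ⊔
      LinearMap.range ((LinearMap.ker (piMap I R')).subtype.rTensor K) := by
  obtain ⟨Kc, hKc⟩ : ∃ Kc : Submodule R K, Kc = (I • ⊤ : Submodule R F).comap K.subtype :=
    ⟨_, rfl⟩
  rw [← hKc] at hG1 ⊢
  have hB : K.subtype.lTensor _ ((piMap I R').rTensor K ζ) = 0 := by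
    rw [← LinearMap.comp_apply, LinearMap.lTensor_comp_rTensor, ← LinearMap.rTensor_comp_lTensor,
      LinearMap.comp_apply, piMap_rTensor_eq_zero I R' _ hζ]
  obtain ⟨n, y, hy⟩ := hG1 _ hB
  obtain ⟨yt, rfl⟩ := LinearMap.rTensor_surjective Kc (piMap_surjective I R') y
  refine ⟨n, ?_⟩
  have hd : c ^ n • ζ - Kc.subtype.lTensor R' yt ∈
      LinearMap.range ((LinearMap.ker (piMap I R')).subtype.rTensor K) := by
    have hex := rTensor_exact K (LinearMap.exact_subtype_ker_map (piMap I R'))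
      (piMap_surjective I R')
    rw [← hex.linearMap_ker_eq, LinearMap.mem_ker, map_sub, map_smul, ← hy]
    have hcomm : (piMap I R').rTensor K (Kc.subtype.lTensor R' yt) =
        Kc.subtype.lTensor _ ((piMap I R').rTensor Kc yt) := by
      rw [← LinearMap.comp_apply, ← LinearMap.comp_apply, LinearMap.rTensor_comp_lTensor,
        LinearMap.lTensor_comp_rTensor]
    rw [hcomm, sub_self]
  have : c ^ n • ζ = Kc.subtype.lTensor R' yt + (c ^ n • ζ - Kc.subtype.lTensor R' yt) := by abel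
  rw [this]
  exact Submodule.add_mem_sup ⟨yt, rfl⟩ hd

end F3

end Groth.Agent.Lib.FlatDescH8
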