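import Mathlib
import Groth.Agent.Lib.FlatDesc2_helper8

/-!
# Flatness descent, part 3: torsion kernels from generic flatness
-/

namespace Groth.Agent.Lib.FlatDescH8

open TensorProduct

universe u

/-- If `(F'/K')_c` is flat, then `ker (N ⊗ K' → N ⊗ F')` is `c`-power torsion for all `N`. -/
theorem torsion_ker_of_flat_localization {A : Type u} [CommRing A] (c : A) {F' : Type u}
    [AddCommGroup F'] [Module A F'] (K' : Submodule A F')
    [Module.Flat A (LocalizedModule (Submonoid.powers c) (F' ⧸ K'))]
    (N : Type u) [AddCommGroup N] [Module A N] (y : N ⊗[A] K')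
    (hy : K'.subtype.lTensor N y = 0) : ∃ n : ℕ, c ^ n • y = 0 := by
  let S : Submonoid A := Submonoid.powers c
  obtain ⟨ιc, hιc⟩ : ∃ ιc : LocalizedModule S K' →ₗ[A] LocalizedModule S F',
      ιc = LocalizedModule.map S K'.subtype := ⟨_, rfl⟩
  have hinj : Function.Injective ιc := by
    rw [hιc]; exact LocalizedModule.map_injective S _ (Submodule.injective_subtype _)
  have hex : Function.Exact ιc (LocalizedModule.map S K'.mkQ) := by
    rw [hιc]; exact LocalizedModule.map_exact S _ _ (LinearMap.exact_subtype_mkQ K')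
  have hsurj : Function.Surjective (LocalizedModule.map S K'.mkQ) :=
    LocalizedModule.map_surjective S _ (Submodule.mkQ_surjective K')
  haveI : Module.Flat A (LocalizedModule S F' ⧸ LinearMap.range ιc) :=
    Module.Flat.of_linearEquiv (hex.linearEquivOfSurjective hsurj)
  have hinjN := @LocalCrit9.lTensor_injective_of_flat_coker A _ (LocalizedModule S K')
    (LocalizedModule S F') _ _ _ _ ιc hinj _ N _ _
  have hcomp : ιc ∘ₗ LocalizedModule.mkLinearMap S K' =
      LocalizedModule.mkLinearMap S F' ∘ₗ K'.subtype := by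
    rw [hιc]
    exact IsLocalizedModule.map_comp S _ _ _
  have h1 : (LocalizedModule.mkLinearMap S K').lTensor N y = 0 := by
    apply hinjN
    rw [map_zero, ← LinearMap.comp_apply, ← LinearMap.lTensor_comp, hcomp, LinearMap.lTensor_comp,
      LinearMap.comp_apply, hy, map_zero]
  have h2 : AlgebraTensorModule.rTensor A N (LocalizedModule.mkLinearMap S K')
      (TensorProduct.comm A N K' y) = 0 := by
    have : ∀ y : N ⊗[A] K', AlgebraTensorModule.rTensor A N (LocalizedModule.mkLinearMap S K')
        (TensorProduct.comm A N K' y) = TensorProduct.comm A N _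
          ((LocalizedModule.mkLinearMap S K').lTensor N y) := by
      intro y
      induction y with
      | zero => simp
      | tmul a b => simp
      | add a b ha hb => simp only [map_add, ha, hb]
    rw [this, h1, map_zero]
  obtain ⟨s, hs⟩ := (IsLocalizedModule.eq_zero_iff S
    (f := AlgebraTensorModule.rTensor A N (LocalizedModule.mkLinearMap S K'))).mp h2
  obtain ⟨s, hsS⟩ := s
  obtain ⟨n, rfl⟩ := (Submonoid.mem_powers_iff _ _).mp hsS
  refine ⟨n, ?_⟩
  apply (TensorProduct.comm A N K').injective
  rw [map_smul, map_zero]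
  exact hs

section G1

variable {R : Type u} [CommRing R] (Rb : Type u) [CommRing Rb] [Algebra R Rb]
  (hsurj : Function.Surjective (algebraMap R Rb))

include hsurj in
theorem exists_one_tmul' {M : Type*} [AddCommGroup M] [Module R M] (z : Rb ⊗[R] M) :
    ∃ x : M, z = (1 : Rb) ⊗ₜ[R] x := by
  induction z with
  | zero => exact ⟨0, by simp⟩
  | tmul a m =>
    obtain ⟨r, rfl⟩ := hsurj a
    exact ⟨r • m, by rw [Algebra.algebraMap_eq_smul_one, TensorProduct.smul_tmul]⟩
  | add a b ha hb =>
    obtain ⟨x, rfl⟩ := ha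
    obtain ⟨y, rfl⟩ := hb
    exact ⟨x + y, by rw [TensorProduct.tmul_add]⟩

include hsurj in
theorem one_tmul_eq_zero_iff' {M : Type*} [AddCommGroup M] [Module R M] (x : M) :
    (1 : Rb) ⊗ₜ[R] x = 0 ↔ x ∈ (RingHom.ker (algebraMap R Rb)) • (⊤ : Submodule R M) := by
  have hex := rTensor_exact M
    (LinearMap.exact_subtype_ker_map (Algebra.linearMap R Rb)) hsurj
  have h1 : (1 : Rb) ⊗ₜ[R] x = (Algebra.linearMap R Rb).rTensor M ((1 : R) ⊗ₜ[R] x) := by
    simp
  rw [h1, hex]
  have hker : LinearMap.ker (Algebra.linearMap R Rb) = RingHom.ker (algebraMap R Rb) := by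
    ext r; simp [RingHom.mem_ker]
  constructor
  · rintro ⟨y, hy⟩
    have h2 := Submodule.map_range_rTensor_subtype_lid (R := R) (Q := M)
      (I := LinearMap.ker (Algebra.linearMap R Rb))
    have h3 : (TensorProduct.lid R M) ((1 : R) ⊗ₜ[R] x) ∈
        (LinearMap.range (LinearMap.rTensor M
          (LinearMap.ker (Algebra.linearMap R Rb)).subtype)).map
            (TensorProduct.lid R M).toLinearMap := ⟨_, ⟨y, hy⟩, rfl⟩
    rw [h2, TensorProduct.lid_tmul, one_smul, hker] at h3
    exact h3
  · intro hx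
    rw [← hker] at hx
    have h2 := Submodule.map_range_rTensor_subtype_lid (R := R) (Q := M)
      (I := LinearMap.ker (Algebra.linearMap R Rb))
    rw [← h2] at hx
    obtain ⟨_, ⟨y, rfl⟩, hy⟩ := hx
    refine ⟨y, ?_⟩
    apply (TensorProduct.lid R M).injective
    rw [LinearEquiv.coe_coe] at hy
    rw [hy, TensorProduct.lid_tmul, one_smul]

variable (c : R) {F : Type u} [AddCommGroup F] [Module R F] (K : Submodule R F)

include hsurj in
/-- core of (G1), with the image of `Rb ⊗ K → Rb ⊗ F` abstracted as a module `G`. -/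
theorem ker_lTensor_le_core
    (G : Type u) [AddCommGroup G] [Module Rb G]
    (jr : Rb ⊗[R] K →ₗ[Rb] G) (ι : G →ₗ[Rb] Rb ⊗[R] F) (hsr0 : Function.Surjective jr)
    (hι : Function.Injective ι)
    (hsr : ι ∘ₗ jr = K.subtype.baseChange Rb)
    (N : Type u) [AddCommGroup N] [Module R N] [Module Rb N] [IsScalarTower R Rb N]
    (htors : ∀ y : N ⊗[Rb] G, ι.lTensor N y = 0 → ∃ n : ℕ, (algebraMap R Rb c) ^ n • y = 0)
    (x : N ⊗[R] K) (hx : K.subtype.lTensor N x = 0) :
    ∃ n : ℕ, c ^ n • x ∈
      LinearMap.range (((RingHom.ker (algebraMap R Rb) • ⊤ : Submodule R F).comap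
        K.subtype).subtype.lTensor N) := by
  obtain ⟨Kc, hKc⟩ : ∃ Kc : Submodule R K,
      Kc = (RingHom.ker (algebraMap R Rb) • ⊤ : Submodule R F).comap K.subtype := ⟨_, rfl⟩
  rw [← hKc]
  obtain ⟨j, hj⟩ : ∃ j : Rb ⊗[R] K →ₗ[Rb] Rb ⊗[R] F,
      j = K.subtype.baseChange Rb := ⟨_, rfl⟩
  rw [← hj] at hsr
  have hjr : ∀ z, ι (jr z) = j z := fun z => LinearMap.congr_fun hsr z
  -- naturality of cancelBaseChange
  have hnat : ∀ x : N ⊗[R] K,
      j.lTensor N ((AlgebraTensorModule.cancelBaseChange R Rb Rb N K).symm x) =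
        (AlgebraTensorModule.cancelBaseChange R Rb Rb N F).symm
          (K.subtype.lTensor N x) := by
    intro x
    induction x with
    | zero => simp
    | tmul a b => simp [hj]
    | add a b ha hb => simp only [map_add, ha, hb]
  have hnat' : ∀ x : N ⊗[R] Kc,
      (Kc.subtype.baseChange Rb).lTensor N
        ((AlgebraTensorModule.cancelBaseChange R Rb Rb N Kc).symm x) =
        (AlgebraTensorModule.cancelBaseChange R Rb Rb N K).symm
          (Kc.subtype.lTensor N x) := by
    intro x
    induction x with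
    | zero => simp
    | tmul a b => simp
    | add a b ha hb => simp only [map_add, ha, hb]
  have hy0 : ι.lTensor N (jr.lTensor N
      ((AlgebraTensorModule.cancelBaseChange R Rb Rb N K).symm x)) = 0 := by
    rw [← LinearMap.comp_apply, ← LinearMap.lTensor_comp, hsr, hnat, hx, map_zero]
  obtain ⟨n, hn⟩ := htors _ hy0
  refine ⟨n, ?_⟩
  -- exactness of `Rb ⊗ Kc → Rb ⊗ K → G`
  have hex0 : Function.Exact (Kc.subtype.baseChange Rb) jr := by
    intro u
    constructor
    · intro hu
      obtain ⟨k, rfl⟩ := exists_one_tmul' Rb hsurj u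
      have hu' : j ((1 : Rb) ⊗ₜ[R] k) = 0 := by
        rw [← hjr, hu, map_zero]
      rw [hj, LinearMap.baseChange_tmul, Submodule.subtype_apply,
        one_tmul_eq_zero_iff' Rb hsurj] at hu'
      have hk : k ∈ Kc := by rw [hKc]; exact hu'
      exact ⟨(1 : Rb) ⊗ₜ[R] (⟨k, hk⟩ : Kc), by simp⟩
    · rintro ⟨z, rfl⟩
      apply hι
      rw [hjr, map_zero]
      induction z with
      | zero => simp
      | tmul a b =>
        rw [LinearMap.baseChange_tmul, hj, LinearMap.baseChange_tmul, Submodule.subtype_apply,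
          Submodule.subtype_apply]
        have hb : ((b : K) : F) ∈ (RingHom.ker (algebraMap R Rb) • ⊤ : Submodule R F) := by
          have h2 : (b : K) ∈ (RingHom.ker (algebraMap R Rb) • ⊤ : Submodule R F).comap
              K.subtype := by rw [← hKc]; exact b.2
          exact h2
        have h0 := (one_tmul_eq_zero_iff' Rb hsurj ((b : K) : F)).mpr hb
        have : (a ⊗ₜ[R] ((b : K) : F) : Rb ⊗[R] F) =
            a • ((1 : Rb) ⊗ₜ[R] ((b : K) : F)) := by
          rw [TensorProduct.smul_tmul', smul_eq_mul, mul_one]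
        rw [this, h0, smul_zero]
      | add a b ha hb => rw [map_add, map_add, ha, hb, add_zero]
  have hexr : Function.Exact ((Kc.subtype.baseChange Rb).lTensor N) (jr.lTensor N) :=
    lTensor_exact N hex0 hsr0
  have h1 : (AlgebraTensorModule.cancelBaseChange R Rb Rb N K).symm (c ^ n • x) ∈
      LinearMap.range ((Kc.subtype.baseChange Rb).lTensor N) := by
    rw [← hexr.linearMap_ker_eq, LinearMap.mem_ker]
    have : (AlgebraTensorModule.cancelBaseChange R Rb Rb N K).symm (c ^ n • x) =
        (algebraMap R Rb c) ^ n •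
          (AlgebraTensorModule.cancelBaseChange R Rb Rb N K).symm x := by
      rw [← algebraMap_smul Rb (c ^ n) x, map_smul, map_pow]
    rw [this, map_smul]
    exact hn
  obtain ⟨wt, hw⟩ := h1
  refine ⟨AlgebraTensorModule.cancelBaseChange R Rb Rb N Kc wt, ?_⟩
  apply (AlgebraTensorModule.cancelBaseChange R Rb Rb N K).symm.injective
  rw [← hnat', LinearEquiv.symm_apply_apply, hw]

include hsurj in
/-- (G1) Tor-kernel generation at the level of the base ring. -/
theorem ker_lTensor_le_of_flat'
    (hH : Module.Flat Rb (LocalizedModule (Submonoid.powers (algebraMap R Rb c))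
      ((Rb ⊗[R] F) ⧸ LinearMap.range (K.subtype.baseChange Rb))))
    (N : Type u) [AddCommGroup N] [Module R N] [Module Rb N] [IsScalarTower R Rb N]
    (x : N ⊗[R] K) (hx : K.subtype.lTensor N x = 0) :
    ∃ n : ℕ, c ^ n • x ∈
      LinearMap.range (((RingHom.ker (algebraMap R Rb) • ⊤ : Submodule R F).comap
        K.subtype).subtype.lTensor N) := by
  refine ker_lTensor_le_core Rb hsurj c K (LinearMap.range (K.subtype.baseChange Rb))
    (K.subtype.baseChange Rb).rangeRestrict (LinearMap.range (K.subtype.baseChange Rb)).subtype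
    (LinearMap.surjective_rangeRestrict _) (Submodule.injective_subtype _)
    (LinearMap.ext fun z => rfl) N ?_ x hx
  intro y hy
  exact torsion_ker_of_flat_localization (algebraMap R Rb c)
    (LinearMap.range (K.subtype.baseChange Rb)) N y hy

end G1

end Groth.Agent.Lib.FlatDescH8
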