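import Mathlib
import Groth.Agent.Lib.FlatDesc3_helper8

/-!
# Flatness descent, part 4: torsion-flatness and base change
-/

namespace Groth.Agent.Lib.FlatDescH8

open TensorProduct

universe u

/-- elements of `Q ⊗ X` dying in `Q ⊗ X_c` are `c`-power torsion. -/
theorem torsion_of_lTensor_mk_eq_zero {A : Type*} [CommRing A] (c : A) {X : Type*}
    [AddCommGroup X] [Module A X] (Q : Type*) [AddCommGroup Q] [Module A Q] (y : Q ⊗[A] X)
    (hy : (LocalizedModule.mkLinearMap (Submonoid.powers c) X).lTensor Q y = 0) :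
    ∃ n : ℕ, c ^ n • y = 0 := by
  let S : Submonoid A := Submonoid.powers c
  have h2 : AlgebraTensorModule.rTensor A Q (LocalizedModule.mkLinearMap S X)
      (TensorProduct.comm A Q X y) = 0 := by
    have : ∀ y : Q ⊗[A] X, AlgebraTensorModule.rTensor A Q (LocalizedModule.mkLinearMap S X)
        (TensorProduct.comm A Q X y) = TensorProduct.comm A Q _
          ((LocalizedModule.mkLinearMap S X).lTensor Q y) := by
      intro y
      induction y with
      | zero => simp
      | tmul a b => simp
      | add a b ha hb => simp only [map_add, ha, hb]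
    rw [this, hy, map_zero]
  obtain ⟨s, hs⟩ := (IsLocalizedModule.eq_zero_iff S
    (f := AlgebraTensorModule.rTensor A Q (LocalizedModule.mkLinearMap S X))).mp h2
  obtain ⟨s, hsS⟩ := s
  obtain ⟨n, rfl⟩ := (Submonoid.mem_powers_iff _ _).mp hsS
  refine ⟨n, ?_⟩
  apply (TensorProduct.comm A Q X).injective
  rw [map_smul, map_zero]
  exact hs

/-- (Lemma A) if `M_c` is flat then kernels of `f ⊗ M` for injective `f` are `c`-torsion. -/
theorem torsion_ker_rTensor_of_flat_localization {A : Type u} [CommRing A] (c : A) (M : Type u)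
    [AddCommGroup M] [Module A M] [Module.Flat A (LocalizedModule (Submonoid.powers c) M)]
    {Q' Q : Type u} [AddCommGroup Q'] [Module A Q'] [AddCommGroup Q] [Module A Q]
    (f : Q' →ₗ[A] Q) (hf : Function.Injective f) (x : Q' ⊗[A] M) (hx : f.rTensor M x = 0) :
    ∃ n : ℕ, c ^ n • x = 0 := by
  apply torsion_of_lTensor_mk_eq_zero c Q' x
  apply Module.Flat.rTensor_preserves_injective_linearMap
    (M := LocalizedModule (Submonoid.powers c) M) f hf
  rw [map_zero, ← LinearMap.comp_apply, LinearMap.rTensor_comp_lTensor,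
    ← LinearMap.lTensor_comp_rTensor, LinearMap.comp_apply, hx, map_zero]

/-- (Lemma B) torsion kernels and base change. -/
theorem torsion_ker_baseChange_iff {R : Type u} [CommRing R] (R' : Type u) [CommRing R']
    [Algebra R R'] (c : R) (M : Type u) [AddCommGroup M] [Module R M]
    {Q' Q : Type u} [AddCommGroup Q'] [Module R Q'] [Module R' Q'] [IsScalarTower R R' Q']
    [AddCommGroup Q] [Module R Q] [Module R' Q] [IsScalarTower R R' Q] (f : Q' →ₗ[R'] Q) :
    (∀ x : Q' ⊗[R'] (R' ⊗[R] M), f.rTensor (R' ⊗[R] M) x = 0 →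
      ∃ n : ℕ, (algebraMap R R' c) ^ n • x = 0) ↔
    (∀ x : Q' ⊗[R] M, (f.restrictScalars R).rTensor M x = 0 → ∃ n : ℕ, c ^ n • x = 0) := by
  have hnat : ∀ x : Q' ⊗[R'] (R' ⊗[R] M),
      AlgebraTensorModule.cancelBaseChange R R' R' Q M (f.rTensor (R' ⊗[R] M) x) =
        (f.restrictScalars R).rTensor M (AlgebraTensorModule.cancelBaseChange R R' R' Q' M x) := by
    intro x
    induction x with
    | zero => simp
    | tmul q y =>
      induction y with
      | zero => simp
      | tmul r m => simp
      | add a b ha hb =>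
        rw [TensorProduct.tmul_add, map_add, map_add, ha, hb, map_add, map_add]
    | add a b ha hb => simp only [map_add, ha, hb]
  have hsm : ∀ (n : ℕ) (x : Q' ⊗[R'] (R' ⊗[R] M)),
      AlgebraTensorModule.cancelBaseChange R R' R' Q' M ((algebraMap R R' c) ^ n • x) =
        c ^ n • AlgebraTensorModule.cancelBaseChange R R' R' Q' M x := by
    intro n x
    rw [map_smul, ← map_pow, algebraMap_smul]
  constructor
  · intro h x hx
    obtain ⟨x', rfl⟩ := (AlgebraTensorModule.cancelBaseChange R R' R' Q' M).surjective x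
    rw [← hnat] at hx
    obtain ⟨n, hn⟩ := h x' ((AlgebraTensorModule.cancelBaseChange R R' R' Q M).injective
      (hx.trans (map_zero _).symm))
    exact ⟨n, by rw [← hsm, hn, map_zero]⟩
  · intro h x hx
    obtain ⟨n, hn⟩ := h (AlgebraTensorModule.cancelBaseChange R R' R' Q' M x)
      (by rw [← hnat, hx, map_zero])
    refine ⟨n, (AlgebraTensorModule.cancelBaseChange R R' R' Q' M).injective ?_⟩
    rw [hsm, hn, map_zero]

end Groth.Agent.Lib.FlatDescH8
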