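import Mathlib
import Groth.Agent.Lib.FlatDesc1_helper8
import Groth.Agent.Lib.FlatDesc4_helper8

/-!
# Flatness descent, part 5: flatness at a fixed level
-/

namespace Groth.Agent.Lib.FlatDescH8

open TensorProduct

universe u

/-- (Lemma C) -/
theorem torsion_ker_of_three {R : Type u} [CommRing R] (R' Rb : Type u) [CommRing R'] [CommRing Rb]
    [Algebra R R'] [Algebra R Rb] (c : R) (M : Type u) [AddCommGroup M] [Module R M]
    [Module.Flat Rb (LocalizedModule (Submonoid.powers (algebraMap R Rb c)) (Rb ⊗[R] M))]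
    {Q' Q : Type u} [AddCommGroup Q'] [Module R Q'] [Module R' Q'] [IsScalarTower R R' Q']
    [Module Rb Q'] [IsScalarTower R Rb Q']
    [AddCommGroup Q] [Module R Q] [Module R' Q] [IsScalarTower R R' Q]
    [Module Rb Q] [IsScalarTower R Rb Q]
    (f' : Q' →ₗ[R'] Q) (fb : Q' →ₗ[Rb] Q) (hff : ∀ x, f' x = fb x) (hinj : Function.Injective fb)
    (x : Q' ⊗[R'] (R' ⊗[R] M)) (hx : f'.rTensor (R' ⊗[R] M) x = 0) :
    ∃ n : ℕ, (algebraMap R R' c) ^ n • x = 0 := by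
  have hA : ∀ x : Q' ⊗[Rb] (Rb ⊗[R] M), fb.rTensor (Rb ⊗[R] M) x = 0 →
      ∃ n : ℕ, (algebraMap R Rb c) ^ n • x = 0 := fun x hx =>
    torsion_ker_rTensor_of_flat_localization (algebraMap R Rb c) (Rb ⊗[R] M) fb hinj x hx
  have hB := (torsion_ker_baseChange_iff Rb c M fb).mp hA
  have heq : fb.restrictScalars R = f'.restrictScalars R := LinearMap.ext fun x => (hff x).symm
  rw [heq] at hB
  exact (torsion_ker_baseChange_iff R' c M f').mpr hB x hx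

section Level

attribute [local instance] Algebra.TensorProduct.rightAlgebra

variable {A₁ : Type u} [CommRing A₁]
  {P₁ : Type u} [CommRing P₁] [Algebra A₁ P₁]
  {F₁ : Type u} [AddCommGroup F₁] [Module P₁ F₁] [Module A₁ F₁] [IsScalarTower A₁ P₁ F₁]
  (K₁ : Submodule P₁ F₁)
  (A' : Type u) [CommRing A'] [Algebra A₁ A']

/-- `K_{A'}`: the image of `A' ⊗ K₁` in `A' ⊗ F₁`. -/
def KB : Submodule A' (A' ⊗[A₁] F₁) :=
  LinearMap.range ((K₁.restrictScalars A₁).subtype.baseChange A')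

lemma exact_KA : Function.Exact (K₁.restrictScalars A₁).subtype (K₁.mkQ.restrictScalars A₁) := by
  intro y
  rw [LinearMap.restrictScalars_apply, Submodule.mkQ_apply, Submodule.Quotient.mk_eq_zero]
  constructor
  · intro hy
    exact ⟨⟨y, hy⟩, rfl⟩
  · rintro ⟨z, rfl⟩
    exact z.2

/-- The iso `A' ⊗ (F₁/K₁) ≃ (A' ⊗ F₁)/K_{A'}`. -/
noncomputable def equivQuot₀ : ((A' ⊗[A₁] F₁) ⧸ KB K₁ A') ≃ₗ[A'] A' ⊗[A₁] (F₁ ⧸ K₁) := by
  have hex : Function.Exact ((K₁.restrictScalars A₁).subtype.baseChange A')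
      ((K₁.mkQ.restrictScalars A₁).baseChange A') := by
    have hsg : Function.Surjective (K₁.mkQ.restrictScalars A₁) := Submodule.mkQ_surjective K₁
    have := lTensor_exact (R := A₁) A' (exact_KA K₁) hsg
    intro y
    rw [LinearMap.baseChange_eq_ltensor, LinearMap.baseChange_eq_ltensor]
    exact this y
  have hsurj : Function.Surjective ((K₁.mkQ.restrictScalars A₁).baseChange A') := by
    have hsg : Function.Surjective (K₁.mkQ.restrictScalars A₁) := Submodule.mkQ_surjective K₁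
    rw [LinearMap.baseChange_eq_ltensor]
    exact LinearMap.lTensor_surjective A' hsg
  exact hex.linearEquivOfSurjective hsurj

/-- The iso `N' ≃ (A' ⊗ F₁)/K_{A'}`. -/
noncomputable def equivQuot :
    ((A' ⊗[A₁] P₁) ⊗[P₁] (F₁ ⧸ K₁)) ≃ₗ[A'] (A' ⊗[A₁] F₁) ⧸ KB K₁ A' :=
  (Algebra.IsPushout.cancelBaseChange A₁ A' P₁ (A' ⊗[A₁] P₁) (F₁ ⧸ K₁)) ≪≫ₗ
    (equivQuot₀ K₁ A').symm

/-- The Tor-kernel condition at level `A'`. -/
def TorC (𝔭 : Ideal A₁) (c : A₁) : Prop :=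
  ∀ z ∈ KB K₁ A', z ∈ (𝔭.map (algebraMap A₁ A')) • (⊤ : Submodule A' (A' ⊗[A₁] F₁)) →
    ∃ n : ℕ, (algebraMap A₁ A' c) ^ n • z ∈ (𝔭.map (algebraMap A₁ A')) • KB K₁ A'

/-- **Flatness at a fixed level**: from generic flatness modulo `𝔭` (after inverting `c`) and the
Tor-kernel condition at level `A'`, the base change is flat at the primes over `V(𝔭) ∩ D(c)`. -/
theorem flat_localizedModule_of_torC [IsNoetherianRing A'] [IsNoetherianRing (A' ⊗[A₁] P₁)]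
    [Module.Finite P₁ F₁] [Module.Flat A₁ F₁] (𝔭 : Ideal A₁) (c : A₁)
    [Module.Flat (A₁ ⧸ 𝔭) (LocalizedModule (Submonoid.powers (algebraMap A₁ (A₁ ⧸ 𝔭) c))
      ((A₁ ⧸ 𝔭) ⊗[A₁] (F₁ ⧸ K₁)))]
    (hT : TorC K₁ A' 𝔭 c)
    (q : Ideal (A' ⊗[A₁] P₁)) [q.IsPrime]
    (hq : (𝔭.map (algebraMap A₁ A')).map (algebraMap A' (A' ⊗[A₁] P₁)) ≤ q)
    (hc : algebraMap A' (A' ⊗[A₁] P₁) (algebraMap A₁ A' c) ∉ q) :
    Module.Flat A' (LocalizedModule q.primeCompl ((A' ⊗[A₁] P₁) ⊗[P₁] (F₁ ⧸ K₁))) := by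
  refine flat_localizedModule_of_torsion (R := A') (S := A' ⊗[A₁] P₁)
    (𝔭.map (algebraMap A₁ A')) (algebraMap A₁ A' c) ((A' ⊗[A₁] P₁) ⊗[P₁] (F₁ ⧸ K₁))
    ?_ ?_ q hq hc
  · -- (h1)
    intro 𝔞 x hx
    obtain ⟨e1, he1⟩ : ∃ e1 : ((A' ⊗[A₁] P₁) ⊗[P₁] (F₁ ⧸ K₁)) ≃ₗ[A'] A' ⊗[A₁] (F₁ ⧸ K₁),
        e1 = Algebra.IsPushout.cancelBaseChange A₁ A' P₁ (A' ⊗[A₁] P₁) (F₁ ⧸ K₁) := ⟨_, rfl⟩
    obtain ⟨f', hf'⟩ : ∃ f' : 𝔞 →ₗ[A'] (A' ⧸ 𝔭.map (algebraMap A₁ A')),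
        f' = 𝔞.subtype.restrictScalars A' := ⟨_, rfl⟩
    rw [← hf'] at hx
    have hcomm : ∀ x : ((A' ⊗[A₁] P₁) ⊗[P₁] (F₁ ⧸ K₁)) ⊗[A'] 𝔞,
        f'.rTensor (A' ⊗[A₁] (F₁ ⧸ K₁)) ((e1.toLinearMap.lTensor 𝔞)
          (TensorProduct.comm A' _ 𝔞 x)) =
        (e1.toLinearMap.lTensor _) (TensorProduct.comm A' _ _ (f'.lTensor _ x)) := by
      intro x
      induction x with
      | zero => simp
      | tmul a b => simp
      | add a b ha hb => simp only [map_add, ha, hb]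
    have h0 := hcomm x
    rw [hx, map_zero, map_zero] at h0
    obtain ⟨n, hn⟩ := torsion_ker_of_three A' (A₁ ⧸ 𝔭) c (F₁ ⧸ K₁) f'
      (𝔞.subtype.restrictScalars (A₁ ⧸ 𝔭)) (fun x => by rw [hf']; rfl)
      (Submodule.injective_subtype 𝔞) _ h0
    refine ⟨n, ?_⟩
    rw [← map_smul, ← map_smul] at hn
    have hinj1 : Function.Injective (e1.toLinearMap.lTensor 𝔞) :=
      (LinearEquiv.lTensor 𝔞 e1).injective
    exact (TensorProduct.comm A' _ 𝔞).injective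
      ((hinj1 (hn.trans (map_zero _).symm)).trans (map_zero _).symm)
  · -- (h2)
    intro x hx
    obtain ⟨e2, he2⟩ : ∃ e2 : ((A' ⊗[A₁] P₁) ⊗[P₁] (F₁ ⧸ K₁)) ≃ₗ[A']
        (A' ⊗[A₁] F₁) ⧸ KB K₁ A', e2 = equivQuot K₁ A' := ⟨_, rfl⟩
    have hcomm : (𝔭.map (algebraMap A₁ A')).subtype.lTensor _
        (e2.toLinearMap.rTensor (𝔭.map (algebraMap A₁ A')) x) =
        e2.toLinearMap.rTensor A' ((𝔭.map (algebraMap A₁ A')).subtype.lTensor _ x) := by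
      rw [← LinearMap.comp_apply, ← LinearMap.comp_apply, LinearMap.lTensor_comp_rTensor,
        LinearMap.rTensor_comp_lTensor]
    rw [hx, map_zero] at hcomm
    obtain ⟨n, hn⟩ := torsion_ker_of_inf_le (𝔭.map (algebraMap A₁ A')) (KB K₁ A')
      (algebraMap A₁ A' c) hT _ hcomm
    refine ⟨n, ?_⟩
    rw [← map_smul] at hn
    have hinj2 : Function.Injective (e2.toLinearMap.rTensor (𝔭.map (algebraMap A₁ A'))) :=
      (LinearEquiv.rTensor _ e2).injective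
    exact hinj2 (hn.trans (map_zero _).symm)

end Level

end Groth.Agent.Lib.FlatDescH8
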