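import Mathlib
import Groth.Agent.Lib.FlatDesc5_helper8

/-!
# Flatness descent, part 6: the Tor-kernel condition along finitely generated subalgebras
-/

namespace Groth.Agent.Lib.FlatDescH8

open TensorProduct

universe u

section D

variable {A₁ : Type u} [CommRing A₁]
  {P₁ : Type u} [CommRing P₁] [Algebra A₁ P₁]
  {F₁ : Type u} [AddCommGroup F₁] [Module P₁ F₁] [Module A₁ F₁] [IsScalarTower A₁ P₁ F₁]
  (K₁ : Submodule P₁ F₁) (𝔭 : Ideal A₁)

/-- `D(B) = 𝔭 K_B` as an `A₁`-submodule of `B ⊗ F₁`. -/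
def DB (B : Type u) [CommRing B] [Algebra A₁ B] : Submodule A₁ (B ⊗[A₁] F₁) :=
  Submodule.span A₁ {y | ∃ p ∈ 𝔭, ∃ a : B, ∃ k ∈ K₁, y = (p • a) ⊗ₜ[A₁] k}

variable (B : Type u) [CommRing B] [Algebra A₁ B]

lemma smul_mem_DB (b : B) {y : B ⊗[A₁] F₁} (hy : y ∈ DB K₁ 𝔭 B) : b • y ∈ DB K₁ 𝔭 B := by
  refine Submodule.span_induction (p := fun y _ => b • y ∈ DB K₁ 𝔭 B) ?_ ?_ ?_ ?_ hy
  · rintro _ ⟨p, hp, a, k, hk, rfl⟩
    refine Submodule.subset_span ⟨p, hp, b * a, k, hk, ?_⟩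
    rw [TensorProduct.smul_tmul', smul_eq_mul, mul_smul_comm]
  · rw [smul_zero]; exact zero_mem _
  · intro x y _ _ hx hy
    rw [smul_add]; exact add_mem hx hy
  · intro r x _ hx
    rw [smul_comm]; exact Submodule.smul_mem _ _ hx

lemma mem_DB_iff (y : B ⊗[A₁] F₁) :
    y ∈ DB K₁ 𝔭 B ↔ y ∈ (𝔭.map (algebraMap A₁ B)) • KB K₁ B := by
  constructor
  · intro hy
    refine Submodule.span_induction (p := fun y _ => y ∈ (𝔭.map (algebraMap A₁ B)) • KB K₁ B)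
      ?_ ?_ ?_ ?_ hy
    · rintro _ ⟨p, hp, a, k, hk, rfl⟩
      have h1 : ((p • a) ⊗ₜ[A₁] k : B ⊗[A₁] F₁) = (algebraMap A₁ B p) • (a ⊗ₜ[A₁] k) := by
        rw [TensorProduct.smul_tmul', Algebra.smul_def, smul_eq_mul]
      rw [h1]
      refine Submodule.smul_mem_smul (Ideal.mem_map_of_mem _ hp) ?_
      exact ⟨a ⊗ₜ[A₁] (⟨k, hk⟩ : K₁.restrictScalars A₁), by simp⟩
    · exact zero_mem _
    · intro a b _ _ ha hb
      exact add_mem ha hb
    · intro r a _ ha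
      rw [← algebraMap_smul B r a]
      exact Submodule.smul_mem _ _ ha
  · intro hy
    refine Submodule.smul_induction_on (p := fun y => y ∈ DB K₁ 𝔭 B) hy ?_ ?_
    · intro i hi w hw
      obtain ⟨ζ, rfl⟩ := hw
      have hi' : i ∈ Submodule.span B (algebraMap A₁ B '' (𝔭 : Set A₁)) := hi
      refine Submodule.span_induction (p := fun i _ =>
        i • ((K₁.restrictScalars A₁).subtype.baseChange B) ζ ∈ DB K₁ 𝔭 B) ?_ ?_ ?_ ?_ hi'
      · rintro _ ⟨p, hp, rfl⟩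
        induction ζ with
        | zero => simp
        | tmul a k =>
          rw [LinearMap.baseChange_tmul, TensorProduct.smul_tmul', smul_eq_mul,
            ← Algebra.smul_def]
          exact Submodule.subset_span ⟨p, hp, a, k.1, k.2, rfl⟩
        | add a b ha hb => rw [map_add, smul_add]; exact add_mem ha hb
      · rw [zero_smul]; exact zero_mem _
      · intro a b _ _ ha hb
        rw [add_smul]; exact add_mem ha hb
      · intro r a _ ha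
        rw [smul_assoc]
        exact smul_mem_DB K₁ 𝔭 B r ha
    · intro a b ha hb
      exact add_mem ha hb

variable {B} in
lemma map_mem_DB {B' : Type u} [CommRing B'] [Algebra A₁ B'] (φ : B →ₐ[A₁] B')
    {y : B ⊗[A₁] F₁} (hy : y ∈ DB K₁ 𝔭 B) : φ.toLinearMap.rTensor F₁ y ∈ DB K₁ 𝔭 B' := by
  refine Submodule.span_induction (p := fun y _ => φ.toLinearMap.rTensor F₁ y ∈ DB K₁ 𝔭 B')
    ?_ ?_ ?_ ?_ hy
  · rintro _ ⟨p, hp, a, k, hk, rfl⟩
    refine Submodule.subset_span ⟨p, hp, φ a, k, hk, ?_⟩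
    rw [LinearMap.rTensor_tmul, AlgHom.toLinearMap_apply, map_smul]
  · rw [map_zero]; exact zero_mem _
  · intro x y _ _ hx hy
    rw [map_add]; exact add_mem hx hy
  · intro r x _ hx
    rw [map_smul]; exact Submodule.smul_mem _ _ hx

/-- multiplication by `π ∈ P₁` as an `A₁`-linear endomorphism of `F₁`. -/
noncomputable def mulP (π : P₁) : F₁ →ₗ[A₁] F₁ :=
  (LinearMap.lsmul P₁ F₁ π).restrictScalars A₁

omit [IsScalarTower A₁ P₁ F₁] in
lemma mulP_apply [IsScalarTower A₁ P₁ F₁] (π : P₁) (f : F₁) : mulP (A₁ := A₁) π f = π • f := rfl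

lemma lTensor_mulP_mem_DB (π : P₁) {y : B ⊗[A₁] F₁} (hy : y ∈ DB K₁ 𝔭 B) :
    (mulP (A₁ := A₁) π).lTensor B y ∈ DB K₁ 𝔭 B := by
  refine Submodule.span_induction (p := fun y _ => (mulP (A₁ := A₁) π).lTensor B y ∈ DB K₁ 𝔭 B)
    ?_ ?_ ?_ ?_ hy
  · rintro _ ⟨p, hp, a, k, hk, rfl⟩
    refine Submodule.subset_span ⟨p, hp, a, π • k, K₁.smul_mem π hk, ?_⟩
    rw [LinearMap.lTensor_tmul, mulP_apply]
  · rw [map_zero]; exact zero_mem _
  · intro x y _ _ hx hy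
    rw [map_add]; exact add_mem hx hy
  · intro r x _ hx
    rw [map_smul]; exact Submodule.smul_mem _ _ hx

/-- `E(B) = {k ∈ F₁ | 1 ⊗ k ∈ 𝔭 K_B}`, a `P₁`-submodule. -/
def EB : Submodule P₁ F₁ where
  carrier := {k | (1 : B) ⊗ₜ[A₁] k ∈ DB K₁ 𝔭 B}
  add_mem' := by
    intro a b ha hb
    simp only [Set.mem_setOf_eq] at ha hb ⊢
    rw [TensorProduct.tmul_add]; exact add_mem ha hb
  zero_mem' := by
    simp only [Set.mem_setOf_eq]
    rw [TensorProduct.tmul_zero]; exact zero_mem _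
  smul_mem' := by
    intro π k hk
    simp only [Set.mem_setOf_eq] at hk ⊢
    have := lTensor_mulP_mem_DB K₁ 𝔭 B π hk
    rw [LinearMap.lTensor_tmul, mulP_apply] at this
    exact this

lemma mem_EB (k : F₁) : k ∈ EB K₁ 𝔭 B ↔ (1 : B) ⊗ₜ[A₁] k ∈ DB K₁ 𝔭 B := Iff.rfl

variable {B} in
lemma EB_mono {B' : Type u} [CommRing B'] [Algebra A₁ B'] (φ : B →ₐ[A₁] B') :
    EB K₁ 𝔭 B ≤ EB K₁ 𝔭 B' := by
  intro k hk
  rw [mem_EB] at hk ⊢
  have := map_mem_DB K₁ 𝔭 φ hk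
  rw [LinearMap.rTensor_tmul, AlgHom.toLinearMap_apply, map_one] at this
  exact this

end D

section Desc

variable {A₁ : Type u} [CommRing A₁]
  {P₁ : Type u} [CommRing P₁] [Algebra A₁ P₁]
  {F₁ : Type u} [AddCommGroup F₁] [Module P₁ F₁] [Module A₁ F₁] [IsScalarTower A₁ P₁ F₁]
  (K₁ : Submodule P₁ F₁) (𝔭 : Ideal A₁) {A : Type u} [CommRing A] [Algebra A₁ A]

lemma rTensor_val_inclusion {A' A'' : Subalgebra A₁ A} (h : A' ≤ A'') (y : A' ⊗[A₁] F₁) :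
    A''.val.toLinearMap.rTensor F₁ ((Subalgebra.inclusion h).toLinearMap.rTensor F₁ y) =
      A'.val.toLinearMap.rTensor F₁ y := by
  rw [← LinearMap.comp_apply, ← LinearMap.rTensor_comp]
  rfl

lemma exists_fg_of_mem_DB (x : A ⊗[A₁] F₁) (hx : x ∈ DB K₁ 𝔭 A) :
    ∃ A' : Subalgebra A₁ A, A'.FG ∧ ∃ y ∈ DB K₁ 𝔭 A', A'.val.toLinearMap.rTensor F₁ y = x := by
  refine Submodule.span_induction (p := fun x _ => ∃ A' : Subalgebra A₁ A, A'.FG ∧
    ∃ y ∈ DB K₁ 𝔭 A', A'.val.toLinearMap.rTensor F₁ y = x) ?_ ?_ ?_ ?_ hx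
  · rintro _ ⟨p, hp, a, k, hk, rfl⟩
    refine ⟨Algebra.adjoin A₁ {a}, ⟨{a}, by simp⟩,
      (p • (⟨a, Algebra.subset_adjoin rfl⟩ : Algebra.adjoin A₁ {a})) ⊗ₜ[A₁] k,
      Submodule.subset_span ⟨p, hp, _, k, hk, rfl⟩, ?_⟩
    rw [LinearMap.rTensor_tmul, AlgHom.toLinearMap_apply, map_smul]
    rfl
  · exact ⟨⊥, Subalgebra.fg_bot, 0, zero_mem _, map_zero _⟩
  · rintro x y _ _ ⟨A', hA', x', hx', rfl⟩ ⟨A'', hA'', y', hy', rfl⟩
    refine ⟨A' ⊔ A'', hA'.sup hA'',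
      (Subalgebra.inclusion (le_sup_left : A' ≤ A' ⊔ A'')).toLinearMap.rTensor F₁ x' +
      (Subalgebra.inclusion (le_sup_right : A'' ≤ A' ⊔ A'')).toLinearMap.rTensor F₁ y',
      add_mem (map_mem_DB K₁ 𝔭 _ hx') (map_mem_DB K₁ 𝔭 _ hy'), ?_⟩
    rw [map_add, rTensor_val_inclusion, rTensor_val_inclusion]
  · rintro r x _ ⟨A', hA', x', hx', rfl⟩
    exact ⟨A', hA', r • x', Submodule.smul_mem _ _ hx', map_smul _ _ _⟩

lemma one_tmul_mem_map_smul_top (k : F₁) (hk' : k ∈ (𝔭 • ⊤ : Submodule A₁ F₁)) :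
    (1 : A) ⊗ₜ[A₁] k ∈ (𝔭.map (algebraMap A₁ A)) • (⊤ : Submodule A (A ⊗[A₁] F₁)) := by
  refine Submodule.smul_induction_on (p := fun k => (1 : A) ⊗ₜ[A₁] k ∈
    (𝔭.map (algebraMap A₁ A)) • (⊤ : Submodule A (A ⊗[A₁] F₁))) hk' ?_ ?_
  · intro p hp f _
    have : ((1 : A) ⊗ₜ[A₁] (p • f) : A ⊗[A₁] F₁) = (algebraMap A₁ A p) • ((1 : A) ⊗ₜ[A₁] f) := by
      rw [TensorProduct.tmul_smul, algebraMap_smul]
    rw [this]
    exact Submodule.smul_mem_smul (Ideal.mem_map_of_mem _ hp) Submodule.mem_top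
  · intro a b ha hb
    rw [TensorProduct.tmul_add]; exact add_mem ha hb

/-- (F2) an element of `K₁ ∩ 𝔭F₁` lies in `E(A')` for some finitely generated `A'`. -/
theorem exists_fg_mem_EB [Module.Flat A₁ F₁] [Module.Flat A (A ⊗[A₁] (F₁ ⧸ K₁))] (k : F₁)
    (hk : k ∈ K₁) (hk' : k ∈ (𝔭 • ⊤ : Submodule A₁ F₁)) :
    ∃ A' : Subalgebra A₁ A, A'.FG ∧ k ∈ EB K₁ 𝔭 A' := by
  haveI : Module.Flat A ((A ⊗[A₁] F₁) ⧸ KB K₁ A) :=
    Module.Flat.of_linearEquiv (equivQuot₀ K₁ A)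
  have hx1 : (1 : A) ⊗ₜ[A₁] k ∈ KB K₁ A :=
    ⟨(1 : A) ⊗ₜ[A₁] (⟨k, hk⟩ : K₁.restrictScalars A₁), by simp⟩
  have hx2 := one_tmul_mem_map_smul_top 𝔭 (A := A) k hk'
  have hx3 := inf_smul_top_le_smul_of_flat (KB K₁ A) (𝔭.map (algebraMap A₁ A)) ⟨hx1, hx2⟩
  rw [← mem_DB_iff] at hx3
  obtain ⟨A', hA', y, hy, hyx⟩ := exists_fg_of_mem_DB K₁ 𝔭 _ hx3
  refine ⟨A', hA', ?_⟩
  rw [mem_EB]
  have hinj : Function.Injective (A'.val.toLinearMap.rTensor F₁) :=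
    Module.Flat.rTensor_preserves_injective_linearMap _ Subtype.val_injective
  have : y = (1 : A') ⊗ₜ[A₁] k := by
    apply hinj
    rw [hyx, LinearMap.rTensor_tmul, AlgHom.toLinearMap_apply, map_one]
  rw [← this]
  exact hy

/-- finitely many elements of `K₁ ∩ 𝔭F₁` lie in `E(A')` for all large `A'`. -/
theorem exists_fg_forall_mem_EB [Module.Flat A₁ F₁] [Module.Flat A (A ⊗[A₁] (F₁ ⧸ K₁))]
    (s : Finset F₁) (hs : ∀ k ∈ s, k ∈ K₁ ∧ k ∈ (𝔭 • ⊤ : Submodule A₁ F₁)) :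
    ∃ A₀ : Subalgebra A₁ A, A₀.FG ∧ ∀ A' : Subalgebra A₁ A, A₀ ≤ A' → ∀ k ∈ s,
      k ∈ EB K₁ 𝔭 A' := by
  classical
  induction s using Finset.induction_on with
  | empty => exact ⟨⊥, Subalgebra.fg_bot, fun _ _ k hk => absurd hk (Finset.notMem_empty k)⟩
  | insert a s ha ih =>
    obtain ⟨A₀, hA₀, h0⟩ := ih (fun k hk => hs k (Finset.mem_insert_of_mem hk))
    obtain ⟨A₁', hA₁', h1⟩ := exists_fg_mem_EB K₁ 𝔭 (A := A) a
      (hs a (Finset.mem_insert_self a s)).1 (hs a (Finset.mem_insert_self a s)).2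
    refine ⟨A₀ ⊔ A₁', hA₀.sup hA₁', fun A' hA' k hk => ?_⟩
    rcases Finset.mem_insert.mp hk with rfl | hk
    · exact EB_mono K₁ 𝔭 (Subalgebra.inclusion (le_sup_right.trans hA')) h1
    · exact h0 A' (le_sup_left.trans hA') k hk

omit [Algebra A₁ A] in
lemma mem_map_smul_top_iff (k : F₁) :
    k ∈ ((𝔭.map (algebraMap A₁ P₁)) • ⊤ : Submodule P₁ F₁) ↔ k ∈ (𝔭 • ⊤ : Submodule A₁ F₁) := by
  constructor
  · intro hk
    refine Submodule.smul_induction_on (p := fun k => k ∈ (𝔭 • ⊤ : Submodule A₁ F₁)) hk ?_ ?_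
    · intro i hi f _
      have hi' : i ∈ Submodule.span P₁ (algebraMap A₁ P₁ '' (𝔭 : Set A₁)) := hi
      refine Submodule.span_induction (p := fun i _ => ∀ f : F₁,
        i • f ∈ (𝔭 • ⊤ : Submodule A₁ F₁)) ?_ ?_ ?_ ?_ hi' f
      · rintro _ ⟨p, hp, rfl⟩ f
        rw [algebraMap_smul]
        exact Submodule.smul_mem_smul hp Submodule.mem_top
      · intro f; rw [zero_smul]; exact zero_mem _
      · intro a b _ _ ha hb f
        rw [add_smul]; exact add_mem (ha f) (hb f)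
      · intro r a _ ha f
        rw [smul_eq_mul, mul_comm, mul_smul]
        exact ha (r • f)
    · intro a b ha hb
      exact add_mem ha hb
  · intro hk
    refine Submodule.smul_induction_on
      (p := fun k => k ∈ ((𝔭.map (algebraMap A₁ P₁)) • ⊤ : Submodule P₁ F₁)) hk ?_ ?_
    · intro p hp f _
      rw [← algebraMap_smul P₁ p f]
      exact Submodule.smul_mem_smul (Ideal.mem_map_of_mem _ hp) Submodule.mem_top
    · intro a b ha hb
      exact add_mem ha hb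

/-- **The Tor-kernel condition holds for all large finitely generated subalgebras.** -/
theorem exists_fg_forall_torC [IsNoetherianRing P₁] [Module.Finite P₁ F₁] [Module.Flat A₁ F₁]
    [Module.Flat A (A ⊗[A₁] (F₁ ⧸ K₁))] (c : A₁)
    (hH : Module.Flat (A₁ ⧸ 𝔭) (LocalizedModule (Submonoid.powers (algebraMap A₁ (A₁ ⧸ 𝔭) c))
      (((A₁ ⧸ 𝔭) ⊗[A₁] F₁) ⧸
        LinearMap.range ((K₁.restrictScalars A₁).subtype.baseChange (A₁ ⧸ 𝔭))))) :
    ∃ A₀ : Subalgebra A₁ A, A₀.FG ∧ ∀ A' : Subalgebra A₁ A, A₀ ≤ A' → TorC K₁ A' 𝔭 c := by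
  classical
  haveI : IsNoetherian P₁ F₁ := isNoetherian_of_isNoetherianRing_of_finite P₁ F₁
  obtain ⟨s, hs⟩ : (K₁ ⊓ (𝔭.map (algebraMap A₁ P₁)) • ⊤ : Submodule P₁ F₁).FG :=
    IsNoetherian.noetherian _
  have hsmem : ∀ k ∈ s, k ∈ K₁ ∧ k ∈ (𝔭 • ⊤ : Submodule A₁ F₁) := by
    intro k hk
    have h1 : k ∈ (K₁ ⊓ (𝔭.map (algebraMap A₁ P₁)) • ⊤ : Submodule P₁ F₁) := by
      rw [← hs]; exact Submodule.subset_span hk
    exact ⟨h1.1, (mem_map_smul_top_iff 𝔭 k).mp h1.2⟩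
  obtain ⟨A₀, hA₀, h0⟩ := exists_fg_forall_mem_EB K₁ 𝔭 (A := A) s hsmem
  refine ⟨A₀, hA₀, fun A' hA' => ?_⟩
  have hle : (K₁ ⊓ (𝔭.map (algebraMap A₁ P₁)) • ⊤ : Submodule P₁ F₁) ≤ EB K₁ 𝔭 A' := by
    rw [← hs, Submodule.span_le]
    intro k hk
    exact h0 A' hA' k hk
  -- the condition
  intro z hzK hzI
  obtain ⟨ζ, rfl⟩ := hzK
  have hsurj : Function.Surjective (algebraMap A₁ (A₁ ⧸ 𝔭)) := Ideal.Quotient.mk_surjective
  have hkerp : RingHom.ker (algebraMap A₁ (A₁ ⧸ 𝔭)) = 𝔭 := by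
    rw [Ideal.Quotient.algebraMap_eq, Ideal.mk_ker]
  have hG1 : ∀ x : (A' ⧸ 𝔭.map (algebraMap A₁ A')) ⊗[A₁] (K₁.restrictScalars A₁),
      (K₁.restrictScalars A₁).subtype.lTensor _ x = 0 →
      ∃ n : ℕ, c ^ n • x ∈ LinearMap.range
        (((𝔭 • ⊤ : Submodule A₁ F₁).comap (K₁.restrictScalars A₁).subtype).subtype.lTensor
          (A' ⧸ 𝔭.map (algebraMap A₁ A'))) := by
    intro x hx
    have := ker_lTensor_le_of_flat' (A₁ ⧸ 𝔭) hsurj c (K₁.restrictScalars A₁) hH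
      (A' ⧸ 𝔭.map (algebraMap A₁ A')) x hx
    rw [hkerp] at this
    exact this
  have hζ : (K₁.restrictScalars A₁).subtype.lTensor A' ζ ∈
      (𝔭.map (algebraMap A₁ A')) • (⊤ : Submodule A' (A' ⊗[A₁] F₁)) := by
    rw [← LinearMap.baseChange_eq_ltensor]; exact hzI
  obtain ⟨n, hn⟩ := ker_generation 𝔭 c (K₁.restrictScalars A₁) A' hG1 ζ hζ
  refine ⟨n, ?_⟩
  rw [← mem_DB_iff, ← map_pow, algebraMap_smul]
  -- images of the two ranges lie in `DB`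
  have hΛ : ∀ w ∈ LinearMap.range (((𝔭 • ⊤ : Submodule A₁ F₁).comap
        (K₁.restrictScalars A₁).subtype).subtype.lTensor A') ⊔
      LinearMap.range ((LinearMap.ker (piMap 𝔭 A')).subtype.rTensor (K₁.restrictScalars A₁)),
      (K₁.restrictScalars A₁).subtype.lTensor A' w ∈ DB K₁ 𝔭 A' := by
    intro w hw
    obtain ⟨w1, hw1, w2, hw2, rfl⟩ := Submodule.mem_sup.mp hw
    clear hw
    rw [map_add]
    refine add_mem ?_ ?_
    · obtain ⟨y, rfl⟩ := hw1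
      clear hw2
      induction y with
      | zero => simp
      | tmul a k' =>
        rw [LinearMap.lTensor_tmul, LinearMap.lTensor_tmul]
        have hk1 : ((k' : K₁.restrictScalars A₁) : F₁) ∈ K₁ := (k' : K₁.restrictScalars A₁).2
        have hk2 : ((k' : K₁.restrictScalars A₁) : F₁) ∈ (𝔭 • ⊤ : Submodule A₁ F₁) := k'.2
        have hk3 := hle ⟨hk1, (mem_map_smul_top_iff 𝔭 _).mpr hk2⟩
        rw [mem_EB] at hk3
        have := smul_mem_DB K₁ 𝔭 A' a hk3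
        rw [TensorProduct.smul_tmul', smul_eq_mul, mul_one] at this
        exact this
      | add a b ha hb => rw [map_add, map_add]; exact add_mem ha hb
    · obtain ⟨y, rfl⟩ := hw2
      clear hw1
      induction y with
      | zero => simp
      | tmul i k =>
        rw [LinearMap.rTensor_tmul, LinearMap.lTensor_tmul]
        rw [mem_DB_iff]
        have hi : ((i : LinearMap.ker (piMap 𝔭 A')) : A') ∈ 𝔭.map (algebraMap A₁ A') := by
          have := i.2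
          rw [LinearMap.mem_ker] at this
          exact Ideal.Quotient.eq_zero_iff_mem.mp this
        have h1 : ((LinearMap.ker (piMap 𝔭 A')).subtype i ⊗ₜ[A₁]
            (K₁.restrictScalars A₁).subtype k : A' ⊗[A₁] F₁) =
            ((i : LinearMap.ker (piMap 𝔭 A')) : A') • ((1 : A') ⊗ₜ[A₁]
              (K₁.restrictScalars A₁).subtype k) := by
          rw [TensorProduct.smul_tmul', smul_eq_mul, mul_one]; rfl
        rw [h1]
        exact Submodule.smul_mem_smul hi ⟨(1 : A') ⊗ₜ[A₁] k, by simp⟩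
      | add a b ha hb => rw [map_add, map_add]; exact add_mem ha hb
  have := hΛ _ hn
  rw [map_smul] at this
  rw [LinearMap.baseChange_eq_ltensor]
  exact this

end Desc

end Groth.Agent.Lib.FlatDescH8
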