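import Mathlib
import Groth.Agent.Lib.FlatDesc6_helper8
import Groth.Agent.Lib.GenFreeF_helper8

/-!
# Flatness descent, part 7: generic flatness input, Noetherian induction, main theorem
-/

namespace Groth.Agent.Lib.FlatDescH8

open TensorProduct

universe u

section GF

attribute [local instance] Algebra.TensorProduct.rightAlgebra

variable {A₁ : Type u} [CommRing A₁]
  {P₁ : Type u} [CommRing P₁] [Algebra A₁ P₁] [Algebra.FiniteType A₁ P₁]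
  {F₁ : Type u} [AddCommGroup F₁] [Module P₁ F₁] [Module A₁ F₁] [IsScalarTower A₁ P₁ F₁]
  [Module.Finite P₁ F₁] (K₁ : Submodule P₁ F₁)

/-- flatness from `GFW`. -/
theorem flat_localizedModule_of_GFW {R : Type u} [CommRing R] {M : Type u} [AddCommGroup M]
    [Module R M] {a : R} (h : GenFreeH8.GFW R M a) :
    Module.Flat R (LocalizedModule (Submonoid.powers a) M) := by
  haveI : Module.Free (Localization (Submonoid.powers a))
      (LocalizedModule (Submonoid.powers a) M) :=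
    h.free (A := Localization (Submonoid.powers a))
      (LocalizedModule.mkLinearMap (Submonoid.powers a) M)
  haveI : Module.Flat R (Localization (Submonoid.powers a)) :=
    IsLocalization.flat _ (Submonoid.powers a)
  exact Module.Flat.trans R (Localization (Submonoid.powers a)) _

/-- **Generic flatness input** for a prime `𝔭` of the base. -/
theorem exists_generic_flat (𝔭 : Ideal A₁) [𝔭.IsPrime] :
    ∃ c : A₁, c ∉ 𝔭 ∧
      Module.Flat (A₁ ⧸ 𝔭) (LocalizedModule (Submonoid.powers (algebraMap A₁ (A₁ ⧸ 𝔭) c))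
        ((A₁ ⧸ 𝔭) ⊗[A₁] (F₁ ⧸ K₁))) ∧
      Module.Flat (A₁ ⧸ 𝔭) (LocalizedModule (Submonoid.powers (algebraMap A₁ (A₁ ⧸ 𝔭) c))
        (((A₁ ⧸ 𝔭) ⊗[A₁] F₁) ⧸
          LinearMap.range ((K₁.restrictScalars A₁).subtype.baseChange (A₁ ⧸ 𝔭)))) := by
  obtain ⟨a, ha, hg, -⟩ := GenFreeH8.main (R := A₁ ⧸ 𝔭) (S := (A₁ ⧸ 𝔭) ⊗[A₁] P₁)
    (((A₁ ⧸ 𝔭) ⊗[A₁] P₁) ⊗[P₁] (F₁ ⧸ K₁))
  obtain ⟨c, rfl⟩ := Ideal.Quotient.mk_surjective a
  have hc : c ∉ 𝔭 := fun h => ha (Ideal.Quotient.eq_zero_iff_mem.mpr h)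
  have hg1 := hg.of_equiv
    (Algebra.IsPushout.cancelBaseChange A₁ (A₁ ⧸ 𝔭) P₁ ((A₁ ⧸ 𝔭) ⊗[A₁] P₁) (F₁ ⧸ K₁))
  have hg2 := hg1.of_equiv (equivQuot₀ K₁ (A₁ ⧸ 𝔭)).symm
  exact ⟨c, hc, flat_localizedModule_of_GFW hg1, flat_localizedModule_of_GFW hg2⟩

end GF

section Main

attribute [local instance] Algebra.TensorProduct.rightAlgebra

variable {A₁ : Type u} [CommRing A₁] [IsNoetherianRing A₁]
  {P₁ : Type u} [CommRing P₁] [Algebra A₁ P₁] [Algebra.FiniteType A₁ P₁]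
  {F₁ : Type u} [AddCommGroup F₁] [Module P₁ F₁] [Module A₁ F₁] [IsScalarTower A₁ P₁ F₁]
  [Module.Finite P₁ F₁] [Module.Flat A₁ F₁] (K₁ : Submodule P₁ F₁)
  {A : Type u} [CommRing A] [Algebra A₁ A]

omit [IsNoetherianRing A₁] [Algebra.FiniteType A₁ P₁] [Module.Finite P₁ F₁] [Module.Flat A₁ F₁] in
/-- flatness of the base change to `A'` at a prime `q` of `A' ⊗ P₁`. -/
def FlatAt (A' : Subalgebra A₁ A) (q : Ideal (A' ⊗[A₁] P₁)) [q.IsPrime] : Prop :=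
  Module.Flat A' (LocalizedModule q.primeCompl ((A' ⊗[A₁] P₁) ⊗[P₁] (F₁ ⧸ K₁)))

omit [IsNoetherianRing A₁] [Algebra.FiniteType A₁ P₁] [Module.Finite P₁ F₁] [Module.Flat A₁ F₁] in
/-- the image of an ideal `J` of `A₁` in `A' ⊗ P₁`. -/
def JB (J : Ideal A₁) (A' : Subalgebra A₁ A) : Ideal (A' ⊗[A₁] P₁) :=
  (J.map (algebraMap A₁ A')).map (algebraMap A' (A' ⊗[A₁] P₁))

omit [IsNoetherianRing A₁] [Algebra.FiniteType A₁ P₁] in
lemma mem_JB (J : Ideal A₁) (A' : Subalgebra A₁ A) {x : A₁} (hx : x ∈ J) :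
    algebraMap A' (A' ⊗[A₁] P₁) (algebraMap A₁ A' x) ∈ JB (P₁ := P₁) J A' :=
  Ideal.mem_map_of_mem _ (Ideal.mem_map_of_mem _ hx)

omit [IsNoetherianRing A₁] [Algebra.FiniteType A₁ P₁] in
lemma JB_sup_span_le (J : Ideal A₁) (A' : Subalgebra A₁ A) (x : A₁) (q : Ideal (A' ⊗[A₁] P₁))
    (hJ : JB (P₁ := P₁) J A' ≤ q)
    (hx : algebraMap A' (A' ⊗[A₁] P₁) (algebraMap A₁ A' x) ∈ q) :
    JB (P₁ := P₁) (J ⊔ Ideal.span {x}) A' ≤ q := by
  unfold JB at hJ ⊢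
  rw [Ideal.map_sup, Ideal.map_sup, Ideal.map_span, Ideal.map_span, Set.image_singleton,
    Set.image_singleton]
  exact sup_le hJ ((Ideal.span_singleton_le_iff_mem _).mpr hx)

/-- **Prime step.** -/
theorem prime_step [Module.Flat A (A ⊗[A₁] (F₁ ⧸ K₁))] (𝔭 : Ideal A₁) [𝔭.IsPrime] :
    ∃ c : A₁, c ∉ 𝔭 ∧ ∃ A₀ : Subalgebra A₁ A, A₀.FG ∧ ∀ A' : Subalgebra A₁ A, A₀ ≤ A' → A'.FG →
      ∀ (q : Ideal (A' ⊗[A₁] P₁)) [q.IsPrime], JB 𝔭 A' ≤ q →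
        algebraMap A' (A' ⊗[A₁] P₁) (algebraMap A₁ A' c) ∉ q → FlatAt K₁ A' q := by
  obtain ⟨c, hc, hH2, hH1⟩ := exists_generic_flat K₁ 𝔭
  haveI : IsNoetherianRing P₁ := Algebra.FiniteType.isNoetherianRing A₁ P₁
  obtain ⟨A₀, hA₀, h0⟩ := exists_fg_forall_torC K₁ 𝔭 (A := A) c hH1
  refine ⟨c, hc, A₀, hA₀, fun A' hA' hfg q _ hq hcq => ?_⟩
  haveI : Algebra.FiniteType A₁ A' := (Subalgebra.fg_iff_finiteType A').mp hfg
  haveI : IsNoetherianRing A' := Algebra.FiniteType.isNoetherianRing A₁ A'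
  haveI : IsNoetherianRing (A' ⊗[A₁] P₁) := Algebra.FiniteType.isNoetherianRing A' _
  unfold FlatAt
  exact flat_localizedModule_of_torC K₁ A' 𝔭 c (h0 A' hA') q hq hcq

/-- **Noetherian induction**: for every ideal `J` of the base, for all large finitely generated
subalgebras `A'`, the base change to `A'` is flat at all primes over `V(J)`. -/
theorem cov [Module.Flat A (A ⊗[A₁] (F₁ ⧸ K₁))] (J : Ideal A₁) :
    ∃ A₀ : Subalgebra A₁ A, A₀.FG ∧ ∀ A' : Subalgebra A₁ A, A₀ ≤ A' → A'.FG →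
      ∀ (q : Ideal (A' ⊗[A₁] P₁)) [q.IsPrime], JB J A' ≤ q → FlatAt K₁ A' q := by
  refine IsNoetherian.induction (P := fun J : Ideal A₁ =>
    ∃ A₀ : Subalgebra A₁ A, A₀.FG ∧ ∀ A' : Subalgebra A₁ A, A₀ ≤ A' → A'.FG →
      ∀ (q : Ideal (A' ⊗[A₁] P₁)) [q.IsPrime], JB J A' ≤ q → FlatAt K₁ A' q) ?_ J
  intro J' ih
  obtain ⟨J, rfl⟩ : ∃ J : Ideal A₁, J = J' := ⟨J', rfl⟩
  have hlt : ∀ x : A₁, x ∉ J → J < J ⊔ Ideal.span {x} := by
    intro x hx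
    refine lt_of_le_of_ne le_sup_left fun h => hx ?_
    rw [h]
    exact Ideal.mem_sup_right (Ideal.subset_span rfl)
  by_cases hprime : Ideal.IsPrime J
  · haveI := hprime
    obtain ⟨c, hc, A₀, hA₀, h0⟩ := prime_step K₁ (A := A) J
    obtain ⟨A₀', hA₀', h0'⟩ := ih _ (hlt c hc)
    refine ⟨A₀ ⊔ A₀', hA₀.sup hA₀', fun A' hA' hfg q _ hq => ?_⟩
    by_cases hcq : algebraMap A' (A' ⊗[A₁] P₁) (algebraMap A₁ A' c) ∈ q
    · exact h0' A' (le_sup_right.trans hA') hfg q (JB_sup_span_le J A' c q hq hcq)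
    · exact h0 A' (le_sup_left.trans hA') hfg q hq hcq
  · rcases (Ideal.not_isPrime_iff.mp hprime) with htop | ⟨x, hx, y, hy, hxy⟩
    · refine ⟨⊥, Subalgebra.fg_bot, fun A' _ _ q hqp hq => ?_⟩
      exfalso
      apply hqp.ne_top
      rw [eq_top_iff]
      refine le_trans ?_ hq
      unfold JB
      rw [htop, Ideal.map_top, Ideal.map_top]
    · obtain ⟨A₀, hA₀, h0⟩ := ih _ (hlt x hx)
      obtain ⟨A₀', hA₀', h0'⟩ := ih _ (hlt y hy)
      refine ⟨A₀ ⊔ A₀', hA₀.sup hA₀', fun A' hA' hfg q hqp hq => ?_⟩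
      have hmem := hq (mem_JB J A' hxy)
      rw [map_mul, map_mul] at hmem
      rcases hqp.mem_or_mem hmem with h | h
      · exact h0 A' (le_sup_left.trans hA') hfg q (JB_sup_span_le J A' x q hq h)
      · exact h0' A' (le_sup_right.trans hA') hfg q (JB_sup_span_le J A' y q hq h)

/-- **Flatness descends to a finitely generated subalgebra.** `A₁` Noetherian, `P₁` a finite type
`A₁`-algebra, `F₁` a finite `P₁`-module flat over `A₁`, `K₁ ⊆ F₁` a `P₁`-submodule. If the base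
change of `F₁/K₁` to an `A₁`-algebra `A` is `A`-flat, then already the base change to some finitely
generated `A₁`-subalgebra of `A` is flat. -/
theorem exists_fg_subalgebra_flat [Module.Flat A (A ⊗[A₁] (F₁ ⧸ K₁))] :
    ∃ A' : Subalgebra A₁ A, A'.FG ∧ Module.Flat A' (A' ⊗[A₁] (F₁ ⧸ K₁)) := by
  obtain ⟨A', hA', h⟩ := cov K₁ (A := A) (⊥ : Ideal A₁)
  refine ⟨A', hA', ?_⟩
  have hq : ∀ (q : Ideal (A' ⊗[A₁] P₁)) [q.IsMaximal],
      Module.Flat A' (LocalizedModule q.primeCompl ((A' ⊗[A₁] P₁) ⊗[P₁] (F₁ ⧸ K₁))) := by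
    intro q hqm
    haveI : q.IsPrime := hqm.isPrime
    refine h A' le_rfl hA' q ?_
    unfold JB
    rw [Ideal.map_bot, Ideal.map_bot]
    exact bot_le
  haveI : Module.Flat A' ((A' ⊗[A₁] P₁) ⊗[P₁] (F₁ ⧸ K₁)) :=
    Module.flat_of_isLocalized_maximal (A' ⊗[A₁] P₁) ((A' ⊗[A₁] P₁) ⊗[P₁] (F₁ ⧸ K₁))
      (fun q _ => LocalizedModule q.primeCompl ((A' ⊗[A₁] P₁) ⊗[P₁] (F₁ ⧸ K₁)))
      (fun q _ => LocalizedModule.mkLinearMap q.primeCompl _) hq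
  exact Module.Flat.of_linearEquiv
    (Algebra.IsPushout.cancelBaseChange A₁ A' P₁ (A' ⊗[A₁] P₁) (F₁ ⧸ K₁)).symm

end Main

end Groth.Agent.Lib.FlatDescH8
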