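import Mathlib
import Groth.Agent.Lib.FlatDesc7_helper8

/-!
# Flatness descent, part 8: general form of the descent to a finitely generated subalgebra,
and lifting finitely presented algebras along directed colimits
-/

namespace Groth.Agent.Lib.FlatDescH8

open TensorProduct

universe u

/-- **Flatness descends to a finitely generated subalgebra** (general form). `A₁` Noetherian, `B₁` a
finite type `A₁`-algebra, `M₁` a finite `B₁`-module. If the base change of `M₁` to an `A₁`-algebra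
`A` is `A`-flat, then already the base change to some finitely generated `A₁`-subalgebra of `A` is
flat. -/
theorem exists_fg_subalgebra_flat' {A₁ : Type u} [CommRing A₁] [IsNoetherianRing A₁]
    {B₁ : Type u} [CommRing B₁] [Algebra A₁ B₁] [Algebra.FiniteType A₁ B₁]
    (M₁ : Type u) [AddCommGroup M₁] [Module B₁ M₁] [Module A₁ M₁] [IsScalarTower A₁ B₁ M₁]
    [Module.Finite B₁ M₁]
    (A : Type u) [CommRing A] [Algebra A₁ A] [Module.Flat A (A ⊗[A₁] M₁)] :
    ∃ A' : Subalgebra A₁ A, A'.FG ∧ Module.Flat A' (A' ⊗[A₁] M₁) := by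
  obtain ⟨n, f, hf⟩ := Algebra.FiniteType.iff_quotient_mvPolynomial''.mp
    (inferInstance : Algebra.FiniteType A₁ B₁)
  letI : Algebra (MvPolynomial (Fin n) A₁) B₁ := f.toRingHom.toAlgebra
  haveI : IsScalarTower A₁ (MvPolynomial (Fin n) A₁) B₁ :=
    IsScalarTower.of_algebraMap_eq (fun x => (f.commutes x).symm)
  letI : Module (MvPolynomial (Fin n) A₁) M₁ := Module.compHom M₁ f.toRingHom
  haveI : IsScalarTower (MvPolynomial (Fin n) A₁) B₁ M₁ :=
    ⟨fun p b m => by
      show (f p * b) • m = f p • (b • m)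
      rw [mul_smul]⟩
  haveI : IsScalarTower A₁ (MvPolynomial (Fin n) A₁) M₁ :=
    ⟨fun a p m => by
      show f (a • p) • m = a • (f p • m)
      rw [map_smul, smul_assoc]⟩
  haveI : Module.Finite (MvPolynomial (Fin n) A₁) B₁ :=
    Module.Finite.of_surjective (Algebra.linearMap (MvPolynomial (Fin n) A₁) B₁) hf
  haveI : Module.Finite (MvPolynomial (Fin n) A₁) M₁ :=
    Module.Finite.trans B₁ M₁
  obtain ⟨b, π, hπ⟩ := Module.Finite.exists_fin' (MvPolynomial (Fin n) A₁) M₁
  obtain ⟨e, -⟩ : ∃ e : ((Fin b → MvPolynomial (Fin n) A₁) ⧸ LinearMap.ker π) ≃ₗ[A₁] M₁, True :=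
    ⟨(π.quotKerEquivOfSurjective hπ).restrictScalars A₁, trivial⟩
  haveI : Module.Flat A (A ⊗[A₁] ((Fin b → MvPolynomial (Fin n) A₁) ⧸ LinearMap.ker π)) :=
    Module.Flat.of_linearEquiv (LinearEquiv.baseChange A₁ A _ _ e)
  obtain ⟨A', hA', hflat⟩ := exists_fg_subalgebra_flat (A₁ := A₁) (P₁ := MvPolynomial (Fin n) A₁)
    (F₁ := Fin b → MvPolynomial (Fin n) A₁) (LinearMap.ker π) (A := A)
  refine ⟨A', hA', ?_⟩
  exact Module.Flat.of_linearEquiv (LinearEquiv.baseChange A₁ A' _ _ e.symm)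

/-- **Lifting lemma**: a finitely presented algebra mapping to a directed colimit of algebras lifts to
some stage. -/
theorem exists_lift_of_directed_colimit {A₁ : Type u} [CommRing A₁]
    {ι : Type u} [Preorder ι] [IsDirected ι (· ≤ ·)] [Nonempty ι]
    (G : ι → Type u) [∀ i, CommRing (G i)] [∀ i, Algebra A₁ (G i)]
    (g : ∀ i j, i ≤ j → G i →+* G j)
    (hg : ∀ i j (h : i ≤ j) (a : A₁), g i j h (algebraMap A₁ (G i) a) = algebraMap A₁ (G j) a)
    (A : Type u) [CommRing A] [Algebra A₁ A] [∀ i, Algebra (G i) A]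
    [∀ i, IsScalarTower A₁ (G i) A]
    (hcomp : ∀ i j k (hij : i ≤ j) (hjk : j ≤ k),
      (g j k hjk).comp (g i j hij) = g i k (hij.trans hjk))
    (hcompat : ∀ i j (h : i ≤ j), (algebraMap (G j) A).comp (g i j h) = algebraMap (G i) A)
    (hsurj : ∀ a : A, ∃ i, ∃ x : G i, algebraMap (G i) A x = a)
    (hker : ∀ i (x : G i), algebraMap (G i) A x = 0 → ∃ j, ∃ h : i ≤ j, g i j h x = 0)
    (A' : Type u) [CommRing A'] [Algebra A₁ A'] [Algebra.FinitePresentation A₁ A']
    (f : A' →ₐ[A₁] A) :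
    ∃ i, ∃ φ : A' →ₐ[A₁] G i, ∀ x, algebraMap (G i) A (φ x) = f x := by
  classical
  obtain ⟨n, F, hF, s, hs⟩ := (inferInstance : Algebra.FinitePresentation A₁ A').out
  choose idx x hx using fun k : Fin n => hsurj (f (F (MvPolynomial.X k)))
  obtain ⟨i, hi⟩ := Finite.exists_le idx
  have hy : ∀ k, algebraMap (G i) A (g (idx k) i (hi k) (x k)) = f (F (MvPolynomial.X k)) := by
    intro k
    rw [← hx k, ← hcompat (idx k) i (hi k)]
    rfl
  have hψ : (IsScalarTower.toAlgHom A₁ (G i) A).comp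
      (MvPolynomial.aeval fun k => g (idx k) i (hi k) (x k)) = f.comp F := by
    apply MvPolynomial.algHom_ext
    intro k
    simp only [AlgHom.comp_apply, MvPolynomial.aeval_X, IsScalarTower.coe_toAlgHom']
    exact hy k
  have hψ' : ∀ p : MvPolynomial (Fin n) A₁, algebraMap (G i) A
      (MvPolynomial.aeval (fun k => g (idx k) i (hi k) (x k)) p) = f (F p) := fun p =>
    AlgHom.congr_fun hψ p
  have hz : ∀ p : (s : Set (MvPolynomial (Fin n) A₁)), ∃ j, ∃ h : i ≤ j,
      g i j h (MvPolynomial.aeval (fun k => g (idx k) i (hi k) (x k)) p.1) = 0 := by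
    intro p
    apply hker
    rw [hψ' p.1]
    have : p.1 ∈ RingHom.ker F.toRingHom := by
      rw [← hs]
      exact Ideal.subset_span p.2
    rw [show F p.1 = 0 from this, map_zero]
  choose jdx hj hj0 using hz
  obtain ⟨j0, hj0'⟩ := Finite.exists_le jdx
  obtain ⟨j, hij, hj0j⟩ := exists_ge_ge i j0
  obtain ⟨gA, hgA⟩ : ∃ gA : G i →ₐ[A₁] G j, ∀ z, gA z = g i j hij z :=
    ⟨{ g i j hij with commutes' := hg i j hij }, fun _ => rfl⟩
  have hkill : RingHom.ker F ≤ RingHom.ker
      (gA.comp (MvPolynomial.aeval fun k => g (idx k) i (hi k) (x k))) := by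
    have : RingHom.ker F = RingHom.ker F.toRingHom := rfl
    rw [this, ← hs, Ideal.span_le]
    intro p hp
    rw [SetLike.mem_coe, RingHom.mem_ker, AlgHom.comp_apply, hgA]
    have h1 := hj0 ⟨p, hp⟩
    have h2 := hcomp i (jdx ⟨p, hp⟩) j (hj ⟨p, hp⟩) ((hj0' ⟨p, hp⟩).trans hj0j)
    rw [← h2, RingHom.comp_apply, h1, map_zero]
  refine ⟨j, AlgHom.liftOfSurjective F hF _ hkill, fun z => ?_⟩
  obtain ⟨p, rfl⟩ := hF z
  rw [AlgHom.liftOfSurjective_apply, AlgHom.comp_apply, hgA, ← hψ' p, ← hcompat i j hij]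
  rfl

end Groth.Agent.Lib.FlatDescH8
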