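import Mathlib
import Groth.Agent.Lib.FlatDesc8_helper8

/-!
# Flatness descent, part 9: descending finitely presented modules along a ring map
-/

namespace Groth.Agent.Lib.FlatDescH8

open TensorProduct

universe u

/-- **Descent of a finitely presented module along a ring map** `B₁ → B₀`, when the relations have
coefficients in the image of `B₁`. -/
theorem exists_module_model {B₁ B₀ : Type u} [CommRing B₁] [CommRing B₀] [Algebra B₁ B₀]
    (M₀ : Type u) [AddCommGroup M₀] [Module B₀ M₀] [Module B₁ M₀] [IsScalarTower B₁ B₀ M₀]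
    {b c : ℕ} (π : (Fin b → B₀) →ₗ[B₀] M₀) (hπ : Function.Surjective π)
    (w : Fin c → Fin b → B₁)
    (hw : Submodule.span B₀ (Set.range fun k j => algebraMap B₁ B₀ (w k j)) = LinearMap.ker π) :
    ∃ f : ((Fin b → B₁) ⧸ LinearMap.range (Fintype.linearCombination B₁ w)) →ₗ[B₁] M₀,
      IsBaseChange B₀ f := by
  have hcomm : ∀ t : Fin c → B₁,
      (Algebra.linearMap B₁ B₀).compLeft (Fin b) (Fintype.linearCombination B₁ w t) =
      Fintype.linearCombination B₀ (fun k j => algebraMap B₁ B₀ (w k j))
        ((Algebra.linearMap B₁ B₀).compLeft (Fin c) t) := by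
    intro t
    ext j
    simp [Fintype.linearCombination_apply, Finset.sum_apply, Algebra.smul_def]
  have hker : ∀ t : Fin c → B₁,
      π ((Algebra.linearMap B₁ B₀).compLeft (Fin b) (Fintype.linearCombination B₁ w t)) = 0 := by
    intro t
    rw [hcomm t, ← LinearMap.mem_ker, ← hw, ← Fintype.range_linearCombination]
    exact LinearMap.mem_range_self _ _
  have hle : LinearMap.range (Fintype.linearCombination B₁ w) ≤
      LinearMap.ker ((π.restrictScalars B₁).comp ((Algebra.linearMap B₁ B₀).compLeft (Fin b))) := by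
    rintro _ ⟨t, rfl⟩
    exact hker t
  refine ⟨(LinearMap.range (Fintype.linearCombination B₁ w)).liftQ _ hle, ?_⟩
  refine IsBaseChange.of_right_exact B₀ ((Algebra.linearMap B₁ B₀).compLeft (Fin c))
    ((Algebra.linearMap B₁ B₀).compLeft (Fin b)) _
    (f := Fintype.linearCombination B₁ w)
    (g := (LinearMap.range (Fintype.linearCombination B₁ w)).mkQ)
    (f' := Fintype.linearCombination B₀ (fun k j => algebraMap B₁ B₀ (w k j)))
    (g' := π) ?_ ?_ ?_ ?_ ?_ ?_ ?_ hπ
  · exact LinearMap.ext fun t => hcomm t
  · exact LinearMap.ext fun t => rfl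
  · exact IsBaseChange.finitePow (Fin c) (IsBaseChange.linearMap B₁ B₀)
  · exact IsBaseChange.finitePow (Fin b) (IsBaseChange.linearMap B₁ B₀)
  · exact LinearMap.exact_map_mkQ_range _
  · exact Submodule.mkQ_surjective _
  · rw [LinearMap.exact_iff, ← hw, Fintype.range_linearCombination]

end Groth.Agent.Lib.FlatDescH8
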