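import Mathlib
import Groth.Agent.Lib.FlatDesc9_helper8

/-!
# Flatness descent, part 10: models of finitely presented algebras + modules over subrings
-/

namespace Groth.Agent.Lib.FlatDescH8

open TensorProduct

universe u

section Core

attribute [local instance] Algebra.TensorProduct.rightAlgebra

/-- Core model existence: given a presentation with coefficients in `A₁` and module relations with
coefficients in `A₁`. -/
theorem exists_model_core {A₀ : Type u} [CommRing A₀] {B₀ : Type u} [CommRing B₀] [Algebra A₀ B₀]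
    {n m : ℕ} (P : Algebra.Presentation A₀ B₀ (Fin n) (Fin m))
    (A₁ : Type u) [CommRing A₁] [Algebra A₁ A₀] [Algebra A₁ B₀] [IsScalarTower A₁ A₀ B₀]
    [P.HasCoeffs A₁]
    (M₀ : Type u) [AddCommGroup M₀] [Module B₀ M₀]
    {b c : ℕ} (π : (Fin b → B₀) →ₗ[B₀] M₀) (hπ : Function.Surjective π)
    (p' : Fin c → Fin b → MvPolynomial (Fin n) A₁)
    (hp : Submodule.span B₀ (Set.range fun k j => MvPolynomial.aeval P.val (p' k j)) =
      LinearMap.ker π) :
    ∃ (B₁ : Type u) (_ : CommRing B₁) (_ : Algebra A₁ B₁) (_ : Algebra B₁ B₀)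
      (_ : IsScalarTower A₁ B₁ B₀) (M₁ : Type u) (_ : AddCommGroup M₁) (_ : Module B₁ M₁)
      (_ : Module B₁ M₀) (_ : IsScalarTower B₁ B₀ M₀) (f : M₁ →ₗ[B₁] M₀),
      Algebra.FinitePresentation A₁ B₁ ∧ Module.Finite B₁ M₁ ∧
        Algebra.IsPushout A₁ A₀ B₁ B₀ ∧ IsBaseChange B₀ f := by
  obtain ⟨e, he⟩ : ∃ e : A₀ ⊗[A₁] P.ModelOfHasCoeffs A₁ ≃ₐ[A₀] B₀,
      ∀ (x : A₀) (y : MvPolynomial (Fin n) A₁), e (x ⊗ₜ Ideal.Quotient.mk _ y) =
        algebraMap A₀ B₀ x * MvPolynomial.aeval P.val y :=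
    ⟨P.tensorModelOfHasCoeffsEquiv A₁, fun x y => rfl⟩
  letI algB : Algebra (P.ModelOfHasCoeffs A₁) B₀ :=
    (e.toRingHom.comp (algebraMap (P.ModelOfHasCoeffs A₁) (A₀ ⊗[A₁] P.ModelOfHasCoeffs A₁))).toAlgebra
  have halg : ∀ y : MvPolynomial (Fin n) A₁,
      algebraMap (P.ModelOfHasCoeffs A₁) B₀ (Ideal.Quotient.mk _ y) = MvPolynomial.aeval P.val y := by
    intro y
    show e (1 ⊗ₜ Ideal.Quotient.mk _ y) = _
    rw [he, map_one, one_mul]
  haveI tower : IsScalarTower A₁ (P.ModelOfHasCoeffs A₁) B₀ := by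
    have h1 : ∀ x : A₁, algebraMap A₁ B₀ x =
        algebraMap (P.ModelOfHasCoeffs A₁) B₀ (algebraMap A₁ (P.ModelOfHasCoeffs A₁) x) := by
      intro x
      have : algebraMap A₁ (P.ModelOfHasCoeffs A₁) x = Ideal.Quotient.mk _ (MvPolynomial.C x) := rfl
      rw [this, halg, MvPolynomial.aeval_C]
    exact IsScalarTower.of_algebraMap_eq (R := A₁) (S := P.ModelOfHasCoeffs A₁) (A := B₀) h1
  haveI push : Algebra.IsPushout A₁ A₀ (P.ModelOfHasCoeffs A₁) B₀ :=
    Algebra.IsPushout.of_equiv (S' := A₀ ⊗[A₁] P.ModelOfHasCoeffs A₁) e rfl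
  letI modB : Module (P.ModelOfHasCoeffs A₁) M₀ :=
    Module.compHom M₀ (algebraMap (P.ModelOfHasCoeffs A₁) B₀)
  haveI tower2 : IsScalarTower (P.ModelOfHasCoeffs A₁) B₀ M₀ :=
    ⟨fun x y z => by
      show (algebraMap (P.ModelOfHasCoeffs A₁) B₀ x * y) • z =
        algebraMap (P.ModelOfHasCoeffs A₁) B₀ x • (y • z)
      rw [mul_smul]⟩
  obtain ⟨f, hf⟩ := exists_module_model (B₁ := P.ModelOfHasCoeffs A₁) M₀ π hπ
    (fun k j => Ideal.Quotient.mk _ (p' k j)) (by
      rw [← hp]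
      congr 2
      funext k j
      exact halg _)
  exact ⟨P.ModelOfHasCoeffs A₁, inferInstance, inferInstance, algB, tower, _, inferInstance,
    inferInstance, modB, tower2, f, inferInstance, inferInstance, push, hf⟩

end Core

/-- **Model existence**: a finitely presented algebra with a finitely presented module descends to a
finitely generated `ℤ`-subalgebra of the base. -/
theorem exists_model (A₀ : Type u) [CommRing A₀] (B₀ : Type u) [CommRing B₀] [Algebra A₀ B₀]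
    [Algebra.FinitePresentation A₀ B₀]
    (M₀ : Type u) [AddCommGroup M₀] [Module B₀ M₀] [Module.FinitePresentation B₀ M₀] :
    ∃ (A₁ : Type u) (_ : CommRing A₁) (_ : Algebra A₁ A₀) (_ : Algebra A₁ B₀)
      (_ : IsScalarTower A₁ A₀ B₀)
      (B₁ : Type u) (_ : CommRing B₁) (_ : Algebra A₁ B₁) (_ : Algebra B₁ B₀)
      (_ : IsScalarTower A₁ B₁ B₀) (M₁ : Type u) (_ : AddCommGroup M₁) (_ : Module B₁ M₁)
      (_ : Module B₁ M₀) (_ : IsScalarTower B₁ B₀ M₀) (f : M₁ →ₗ[B₁] M₀),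
      Algebra.FiniteType ℤ A₁ ∧ Function.Injective (algebraMap A₁ A₀) ∧
        Algebra.FinitePresentation A₁ B₁ ∧ Module.Finite B₁ M₁ ∧
        Algebra.IsPushout A₁ A₀ B₁ B₀ ∧ IsBaseChange B₀ f := by
  classical
  obtain ⟨n, m, ⟨P⟩⟩ := Algebra.Presentation.exists_presentation_fin A₀ B₀
  obtain ⟨b, K, eK, hK⟩ := Module.FinitePresentation.exists_fin B₀ M₀
  obtain ⟨c, v, hv⟩ := Submodule.fg_iff_exists_fin_generating_family.mp hK
  obtain ⟨π, hπ, hkerπ⟩ : ∃ π : (Fin b → B₀) →ₗ[B₀] M₀,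
      Function.Surjective π ∧ LinearMap.ker π = K :=
    ⟨eK.symm.toLinearMap.comp K.mkQ, eK.symm.surjective.comp K.mkQ_surjective, by
      rw [LinearEquiv.ker_comp, Submodule.ker_mkQ]⟩
  obtain ⟨T, hTdef⟩ : ∃ T : Set A₀, T = P.coeffs ∪ ⋃ k, ⋃ j, ((P.σ (v k j)).coeffs : Set A₀) :=
    ⟨_, rfl⟩
  have hT : T.Finite := by
    rw [hTdef]
    refine Set.Finite.union P.finite_coeffs ?_
    exact Set.finite_iUnion fun k => Set.finite_iUnion fun j => Finset.finite_toSet _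
  have hsub1 : P.coeffs ⊆ T := by rw [hTdef]; exact Set.subset_union_left
  have hsub2 : ∀ k j, ((P.σ (v k j)).coeffs : Set A₀) ⊆ T := by
    intro k j
    rw [hTdef]
    refine subset_trans ?_ Set.subset_union_right
    exact subset_trans (Set.subset_iUnion (fun j => ((P.σ (v k j)).coeffs : Set A₀)) j)
      (Set.subset_iUnion (fun k => ⋃ j, ((P.σ (v k j)).coeffs : Set A₀)) k)
  haveI hcoef : P.HasCoeffs (Algebra.adjoin ℤ T) :=
    ⟨fun x hx => ⟨⟨x, Algebra.subset_adjoin (hsub1 hx)⟩, rfl⟩⟩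
  have hp' : ∀ k j, ∃ q : MvPolynomial (Fin n) (Algebra.adjoin ℤ T),
      MvPolynomial.map (algebraMap (Algebra.adjoin ℤ T) A₀) q = P.σ (v k j) := by
    intro k j
    have : P.σ (v k j) ∈ Set.range (MvPolynomial.map (algebraMap (Algebra.adjoin ℤ T) A₀)) := by
      rw [MvPolynomial.mem_range_map_iff_coeffs_subset]
      intro x hx
      exact ⟨⟨x, Algebra.subset_adjoin (hsub2 k j hx)⟩, rfl⟩
    exact this
  choose p' hp' using hp'
  have hval : ∀ k j, MvPolynomial.aeval P.val (p' k j) = v k j := by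
    intro k j
    rw [← MvPolynomial.aeval_map_algebraMap A₀, hp', P.aeval_val_σ]
  obtain ⟨B₁, i1, i2, i3, i4, M₁, i5, i6, i7, i8, f, h1, h2, h3, h4⟩ :=
    exists_model_core P (Algebra.adjoin ℤ T) M₀ π hπ p' (by
      rw [hkerπ, ← hv]
      congr 2
      funext k j
      exact hval k j)
  refine ⟨Algebra.adjoin ℤ T, inferInstance, inferInstance, inferInstance, inferInstance,
    B₁, i1, i2, i3, i4, M₁, i5, i6, i7, i8, f, ?_, ?_, h1, h2, h3, h4⟩
  · exact (Subalgebra.fg_iff_finiteType _).mp (Subalgebra.fg_def.mpr ⟨T, hT, rfl⟩)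
  · exact Subtype.val_injective

end Groth.Agent.Lib.FlatDescH8
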