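import Mathlib
import Groth.Agent.Lib.FlatDesc10_helper8

/-!
# Flatness descent, part 11: flatness of a finitely presented module over a directed colimit
descends to a stage
-/

namespace Groth.Agent.Lib.FlatDescH8

open TensorProduct

universe u

/-- transfer equivalence `C ⊗[A₀] M₀ ≃ C ⊗[A₁] M₁` from `A₀ ⊗[A₁] M₁ ≃ M₀`. -/
noncomputable def trEquiv {A₁ A₀ : Type u} [CommRing A₁] [CommRing A₀] [Algebra A₁ A₀]
    {M₁ M₀ : Type u} [AddCommGroup M₁] [Module A₁ M₁] [AddCommGroup M₀] [Module A₀ M₀]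
    (e₀ : A₀ ⊗[A₁] M₁ ≃ₗ[A₀] M₀)
    (C : Type u) [CommRing C] [Algebra A₀ C] [Algebra A₁ C] [IsScalarTower A₁ A₀ C] :
    C ⊗[A₀] M₀ ≃ₗ[C] C ⊗[A₁] M₁ :=
  (LinearEquiv.baseChange A₀ C _ _ e₀).symm ≪≫ₗ
    AlgebraTensorModule.cancelBaseChange A₁ A₀ C C M₁

/-- the model equivalence `A₀ ⊗[A₁] M₁ ≃ M₀` from a pushout square and a base change map. -/
noncomputable def modelEquiv {A₁ A₀ B₁ B₀ : Type u} [CommRing A₁] [CommRing A₀] [CommRing B₁]
    [CommRing B₀] [Algebra A₁ A₀] [Algebra A₁ B₁] [Algebra A₀ B₀] [Algebra B₁ B₀] [Algebra A₁ B₀]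
    [IsScalarTower A₁ A₀ B₀] [IsScalarTower A₁ B₁ B₀] [Algebra.IsPushout A₁ A₀ B₁ B₀]
    {M₁ M₀ : Type u} [AddCommGroup M₁] [Module B₁ M₁] [Module A₁ M₁] [IsScalarTower A₁ B₁ M₁]
    [AddCommGroup M₀] [Module B₀ M₀] [Module A₀ M₀] [IsScalarTower A₀ B₀ M₀]
    [Module B₁ M₀] [IsScalarTower B₁ B₀ M₀] {f : M₁ →ₗ[B₁] M₀} (hf : IsBaseChange B₀ f) :
    A₀ ⊗[A₁] M₁ ≃ₗ[A₀] M₀ :=
  (Algebra.IsPushout.cancelBaseChange A₁ A₀ B₁ B₀ M₁).symm ≪≫ₗ hf.equiv.restrictScalars A₀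

/-- **Flatness descends along a directed colimit of rings** (the hard direction). -/
theorem exists_stage_flat {A₀ : Type u} [CommRing A₀]
    {ι : Type u} [Preorder ι] [IsDirected ι (· ≤ ·)] [Nonempty ι]
    (G : ι → Type u) [∀ i, CommRing (G i)] [∀ i, Algebra A₀ (G i)]
    (g : ∀ i j, i ≤ j → G i →ₐ[A₀] G j)
    (A : Type u) [CommRing A] [Algebra A₀ A] [∀ i, Algebra (G i) A]
    [∀ i, IsScalarTower A₀ (G i) A]
    (hcomp : ∀ i j k (hij : i ≤ j) (hjk : j ≤ k),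
      (g j k hjk).toRingHom.comp (g i j hij).toRingHom = (g i k (hij.trans hjk)).toRingHom)
    (hcompat : ∀ i j (h : i ≤ j),
      (algebraMap (G j) A).comp (g i j h).toRingHom = algebraMap (G i) A)
    (hsurj : ∀ a : A, ∃ i, ∃ x : G i, algebraMap (G i) A x = a)
    (hker : ∀ i (x : G i), algebraMap (G i) A x = 0 → ∃ j, ∃ h : i ≤ j,
      (g i j h).toRingHom x = 0)
    {B₀ : Type u} [CommRing B₀] [Algebra A₀ B₀] [Algebra.FinitePresentation A₀ B₀]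
    (M₀ : Type u) [AddCommGroup M₀] [Module B₀ M₀] [Module A₀ M₀] [IsScalarTower A₀ B₀ M₀]
    [Module.FinitePresentation B₀ M₀] [Module.Flat A (A ⊗[A₀] M₀)] :
    ∃ i : ι, Module.Flat (G i) (G i ⊗[A₀] M₀) := by
  obtain ⟨A₁, _, _, _, _, B₁, _, _, _, _, M₁, _, _, _, _, f, hft, -, hfp, hfin, hpush, hbc⟩ :=
    exists_model A₀ B₀ M₀
  letI : Module A₁ M₁ := Module.compHom M₁ (algebraMap A₁ B₁)
  haveI : IsScalarTower A₁ B₁ M₁ :=
    ⟨fun a x y => by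
      show (a • x) • y = algebraMap A₁ B₁ a • (x • y)
      rw [Algebra.smul_def, mul_smul]⟩
  obtain ⟨e₀, -⟩ : ∃ e₀ : A₀ ⊗[A₁] M₁ ≃ₗ[A₀] M₀, True := ⟨modelEquiv hbc, trivial⟩
  haveI : IsNoetherianRing A₁ := Algebra.FiniteType.isNoetherianRing ℤ A₁
  letI : Algebra A₁ A := ((algebraMap A₀ A).comp (algebraMap A₁ A₀)).toAlgebra
  haveI : IsScalarTower A₁ A₀ A := IsScalarTower.of_algebraMap_eq (fun _ => rfl)
  letI : ∀ i, Algebra A₁ (G i) := fun i =>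
    ((algebraMap A₀ (G i)).comp (algebraMap A₁ A₀)).toAlgebra
  haveI : ∀ i, IsScalarTower A₁ A₀ (G i) := fun i => IsScalarTower.of_algebraMap_eq (fun _ => rfl)
  haveI : ∀ i, IsScalarTower A₁ (G i) A := fun i => IsScalarTower.of_algebraMap_eq (fun x => by
    show algebraMap A₀ A (algebraMap A₁ A₀ x) =
      algebraMap (G i) A (algebraMap A₀ (G i) (algebraMap A₁ A₀ x))
    rw [← IsScalarTower.algebraMap_apply A₀ (G i) A])
  haveI : Module.Flat A (A ⊗[A₁] M₁) := Module.Flat.of_linearEquiv (trEquiv e₀ A).symm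
  obtain ⟨A', hA', hflat⟩ := exists_fg_subalgebra_flat' (A₁ := A₁) (B₁ := B₁) M₁ A
  haveI : Algebra.FiniteType A₁ A' := (Subalgebra.fg_iff_finiteType A').mp hA'
  haveI : Algebra.FinitePresentation A₁ A' := Algebra.FinitePresentation.of_finiteType.mp
    inferInstance
  obtain ⟨i, φ, hφ⟩ := exists_lift_of_directed_colimit G (fun i j h => (g i j h).toRingHom)
    (fun i j h a => by
      show (g i j h) (algebraMap A₀ (G i) (algebraMap A₁ A₀ a)) =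
        algebraMap A₀ (G j) (algebraMap A₁ A₀ a)
      rw [AlgHom.commutes])
    A hcomp hcompat hsurj hker A' A'.val
  letI : Algebra A' (G i) := φ.toRingHom.toAlgebra
  haveI : IsScalarTower A₁ A' (G i) := IsScalarTower.of_algebraMap_eq
    (fun x => (φ.commutes x).symm)
  haveI : Module.Flat (G i) (G i ⊗[A'] (A' ⊗[A₁] M₁)) := inferInstance
  haveI : Module.Flat (G i) (G i ⊗[A₁] M₁) := Module.Flat.of_linearEquiv
    (AlgebraTensorModule.cancelBaseChange A₁ A' (G i) (G i) M₁).symm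
  exact ⟨i, Module.Flat.of_linearEquiv (trEquiv e₀ (G i))⟩

end Groth.Agent.Lib.FlatDescH8
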