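import Mathlib
import Groth.Agent.Lib.FlatDesc11_helper8

/-!
# Flatness descent, part 12: a flat finitely presented module over a finitely presented algebra
descends, with its flatness, to a finite type `ℤ`-algebra
-/

namespace Groth.Agent.Lib.FlatDescH8

open TensorProduct

universe u

/-- abstract form of `exists_fg_subalgebra_flat'`. -/
theorem exists_fg_algebra_flat {A₁ : Type u} [CommRing A₁] [IsNoetherianRing A₁]
    {B₁ : Type u} [CommRing B₁] [Algebra A₁ B₁] [Algebra.FiniteType A₁ B₁]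
    (M₁ : Type u) [AddCommGroup M₁] [Module B₁ M₁] [Module A₁ M₁] [IsScalarTower A₁ B₁ M₁]
    [Module.Finite B₁ M₁]
    (A : Type u) [CommRing A] [Algebra A₁ A] [Module.Flat A (A ⊗[A₁] M₁)] :
    ∃ (A' : Type u) (_ : CommRing A') (_ : Algebra A₁ A') (_ : Algebra A' A)
      (_ : IsScalarTower A₁ A' A), Algebra.FiniteType A₁ A' ∧
        Function.Injective (algebraMap A' A) ∧ Module.Flat A' (A' ⊗[A₁] M₁) := by
  obtain ⟨A', hA', hflat⟩ := exists_fg_subalgebra_flat' (A₁ := A₁) (B₁ := B₁) M₁ A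
  exact ⟨A', inferInstance, inferInstance, inferInstance, inferInstance,
    (Subalgebra.fg_iff_finiteType A').mp hA', Subtype.val_injective, hflat⟩

section Main

attribute [local instance] Algebra.TensorProduct.rightAlgebra

/-- Second-stage descent: given a model `(A₁, B₁, M₁)` of `(R, S, M)` and an intermediate
`A₁`-algebra `A'` over which the base change of `M₁` is flat, produce the model over `A'`. -/
theorem exists_model_over {A₁ R B₁ S : Type u} [CommRing A₁] [CommRing R] [CommRing B₁]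
    [CommRing S] [Algebra A₁ R] [Algebra A₁ B₁] [Algebra R S] [Algebra B₁ S] [Algebra A₁ S]
    [IsScalarTower A₁ R S] [IsScalarTower A₁ B₁ S] [Algebra.IsPushout A₁ R B₁ S]
    [Algebra.FiniteType A₁ B₁]
    {M₁ M : Type u} [AddCommGroup M₁] [Module B₁ M₁] [Module A₁ M₁] [IsScalarTower A₁ B₁ M₁]
    [Module.Finite B₁ M₁]
    [AddCommGroup M] [Module S M] [Module B₁ M] [IsScalarTower B₁ S M]
    {f₁ : M₁ →ₗ[B₁] M} (hf₁ : IsBaseChange S f₁)
    (A' : Type u) [CommRing A'] [Algebra A₁ A'] [Algebra A' R] [IsScalarTower A₁ A' R]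
    [Module.Flat A' (A' ⊗[A₁] M₁)] :
    ∃ (S₀ : Type u) (_ : CommRing S₀)
      (_ : Algebra A' S₀) (_ : Algebra S₀ S) (_ : Algebra A' S) (_ : IsScalarTower A' R S)
      (_ : IsScalarTower A' S₀ S) (M₀ : Type u) (_ : AddCommGroup M₀) (_ : Module S₀ M₀)
      (_ : Module A' M₀) (_ : IsScalarTower A' S₀ M₀) (_ : Module S₀ M) (_ : IsScalarTower S₀ S M)
      (f : M₀ →ₗ[S₀] M),
      Algebra.FiniteType A' S₀ ∧ Module.Finite S₀ M₀ ∧ Module.Flat A' M₀ ∧
        Algebra.IsPushout A' R S₀ S ∧ IsBaseChange S f := by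
  letI algA'S : Algebra A' S := ((algebraMap R S).comp (algebraMap A' R)).toAlgebra
  haveI tw1 : IsScalarTower A' R S := IsScalarTower.of_algebraMap_eq (fun _ => rfl)
  haveI tw2 : IsScalarTower A₁ A' S := IsScalarTower.of_algebraMap_eq (fun x => by
    show algebraMap A₁ S x = algebraMap R S (algebraMap A' R (algebraMap A₁ A' x))
    rw [← IsScalarTower.algebraMap_apply A₁ A' R, ← IsScalarTower.algebraMap_apply A₁ R S])
  obtain ⟨ψ, hψ⟩ : ∃ ψ : A' ⊗[A₁] B₁ →ₐ[A'] S, ∀ (a : A') (b : B₁),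
      ψ (a ⊗ₜ b) = algebraMap A' S a * algebraMap B₁ S b :=
    ⟨Algebra.TensorProduct.lift (Algebra.ofId A' S) (IsScalarTower.toAlgHom A₁ B₁ S)
      (fun _ _ => Commute.all _ _), fun a b => rfl⟩
  letI algS₀S : Algebra (A' ⊗[A₁] B₁) S := ψ.toRingHom.toAlgebra
  have halg : ∀ x, algebraMap (A' ⊗[A₁] B₁) S x = ψ x := fun x => rfl
  haveI tw3 : IsScalarTower A' (A' ⊗[A₁] B₁) S := IsScalarTower.of_algebraMap_eq
    (fun x => (ψ.commutes x).symm)
  haveI tw4 : IsScalarTower A₁ (A' ⊗[A₁] B₁) S := IsScalarTower.of_algebraMap_eq (fun x => by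
    rw [halg]
    show algebraMap A₁ S x = ψ (algebraMap A₁ A' x ⊗ₜ 1)
    rw [hψ, map_one, mul_one, ← IsScalarTower.algebraMap_apply A₁ A' S])
  haveI tw5 : IsScalarTower B₁ (A' ⊗[A₁] B₁) S := IsScalarTower.of_algebraMap_eq (fun x => by
    rw [halg]
    show algebraMap B₁ S x = ψ (1 ⊗ₜ x)
    rw [hψ, map_one, one_mul])
  have push : Algebra.IsPushout A' R (A' ⊗[A₁] B₁) S :=
    (Algebra.IsPushout.comp_iff A₁ A' B₁ (S' := A' ⊗[A₁] B₁) (T := R) (T' := S)).mp inferInstance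
  letI modS₀M : Module (A' ⊗[A₁] B₁) M := Module.compHom M (algebraMap (A' ⊗[A₁] B₁) S)
  haveI tw6 : IsScalarTower (A' ⊗[A₁] B₁) S M :=
    ⟨fun x y z => by
      show (algebraMap (A' ⊗[A₁] B₁) S x * y) • z = algebraMap (A' ⊗[A₁] B₁) S x • (y • z)
      rw [mul_smul]⟩
  haveI tw7 : IsScalarTower B₁ (A' ⊗[A₁] B₁) M :=
    ⟨fun x y z => by
      show algebraMap (A' ⊗[A₁] B₁) S (x • y) • z = x • (algebraMap (A' ⊗[A₁] B₁) S y • z)
      rw [Algebra.smul_def, map_mul, mul_smul, ← IsScalarTower.algebraMap_apply B₁ (A' ⊗[A₁] B₁) S,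
        algebraMap_smul]⟩
  obtain ⟨f, hf⟩ : ∃ f : (A' ⊗[A₁] B₁) ⊗[B₁] M₁ →ₗ[A' ⊗[A₁] B₁] M,
      (f.restrictScalars B₁).comp (TensorProduct.mk B₁ (A' ⊗[A₁] B₁) M₁ 1) = f₁ :=
    ⟨(TensorProduct.isBaseChange B₁ M₁ (A' ⊗[A₁] B₁)).lift f₁,
      (TensorProduct.isBaseChange B₁ M₁ (A' ⊗[A₁] B₁)).lift_comp f₁⟩
  have hbc : IsBaseChange S f := by
    refine IsBaseChange.of_comp (TensorProduct.isBaseChange B₁ M₁ (A' ⊗[A₁] B₁)) ?_
    rw [hf]
    exact hf₁
  have hflat : Module.Flat A' ((A' ⊗[A₁] B₁) ⊗[B₁] M₁) :=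
    Module.Flat.of_linearEquiv
      (Algebra.IsPushout.cancelBaseChange A₁ A' B₁ (A' ⊗[A₁] B₁) M₁)
  exact ⟨A' ⊗[A₁] B₁, inferInstance, inferInstance, algS₀S, algA'S, tw1, tw3,
    (A' ⊗[A₁] B₁) ⊗[B₁] M₁, inferInstance, inferInstance, inferInstance, inferInstance,
    modS₀M, tw6, f, inferInstance, inferInstance, hflat, push, hbc⟩

end Main

/-- **Descent of a flat finitely presented module to a finite type `ℤ`-algebra.** -/
theorem exists_finiteType_int_model (R : Type u) [CommRing R]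
    (S : Type u) [CommRing S] [Algebra R S] [Algebra.FinitePresentation R S] (M : Type u)
    [AddCommGroup M] [Module S M] [Module R M] [IsScalarTower R S M]
    [Module.FinitePresentation S M] [Module.Flat R M] :
    ∃ (R₀ : Type u) (_ : CommRing R₀) (_ : Algebra R₀ R) (S₀ : Type u) (_ : CommRing S₀)
      (_ : Algebra R₀ S₀) (_ : Algebra S₀ S) (_ : Algebra R₀ S) (_ : IsScalarTower R₀ R S)
      (_ : IsScalarTower R₀ S₀ S) (M₀ : Type u) (_ : AddCommGroup M₀) (_ : Module S₀ M₀)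
      (_ : Module R₀ M₀) (_ : IsScalarTower R₀ S₀ M₀) (_ : Module S₀ M) (_ : IsScalarTower S₀ S M)
      (f : M₀ →ₗ[S₀] M),
      Algebra.FiniteType ℤ R₀ ∧ Algebra.FiniteType R₀ S₀ ∧ Module.Finite S₀ M₀ ∧ Module.Flat R₀ M₀ ∧
        Algebra.IsPushout R₀ R S₀ S ∧ IsBaseChange S f := by
  obtain ⟨A₁, _, _, _, _, B₁, _, _, _, _, M₁, _, _, _, _, f₁, hft, -, hfp, hfin, hpush, hbc⟩ :=
    exists_model R S M
  letI : Module A₁ M₁ := Module.compHom M₁ (algebraMap A₁ B₁)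
  haveI : IsScalarTower A₁ B₁ M₁ :=
    ⟨fun a x y => by
      show (a • x) • y = algebraMap A₁ B₁ a • (x • y)
      rw [Algebra.smul_def, mul_smul]⟩
  obtain ⟨e₀, -⟩ : ∃ e₀ : R ⊗[A₁] M₁ ≃ₗ[R] M, True := ⟨modelEquiv hbc, trivial⟩
  haveI : IsNoetherianRing A₁ := Algebra.FiniteType.isNoetherianRing ℤ A₁
  haveI : Module.Flat R (R ⊗[A₁] M₁) := Module.Flat.of_linearEquiv e₀
  obtain ⟨A', _, _, _, _, hA'ft, -, hflat⟩ := exists_fg_algebra_flat (A₁ := A₁) (B₁ := B₁) M₁ R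
  obtain ⟨S₀, i1, i2, i3, i4, i5, i6, M₀, i7, i8, i9, i10, i11, i12, f, h1, h2, h3, h4, h5⟩ :=
    exists_model_over (A₁ := A₁) (R := R) (B₁ := B₁) (S := S) hbc A'
  exact ⟨A', inferInstance, inferInstance, S₀, i1, i2, i3, i4, i5, i6, M₀, i7, i8, i9, i10, i11,
    i12, f, Algebra.FiniteType.trans hft hA'ft, h1, h2, h3, h4, h5⟩

end Groth.Agent.Lib.FlatDescH8
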