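import Mathlib
import Groth.Agent.Lib.FlatDesc12_helper8

/-!
# Flatness descent, part 13: descending faithful flatness to a finitely generated subalgebra
-/

namespace Groth.Agent.Lib.FlatDescH8

open TensorProduct AlgebraicGeometry CategoryTheory CategoryTheory.Limits

universe u

/-- A prime of a tensor product over a compatible pair of primes. -/
theorem exists_prime_tensor (A k B : Type u) [CommRing A] [CommRing k] [CommRing B]
    [Algebra A k] [Algebra A B] (p : PrimeSpectrum k) (q : PrimeSpectrum B)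
    (h : PrimeSpectrum.comap (algebraMap A k) p = PrimeSpectrum.comap (algebraMap A B) q) :
    ∃ P : PrimeSpectrum (k ⊗[A] B),
      PrimeSpectrum.comap (Algebra.TensorProduct.includeLeftRingHom (R := A) (A := k) (B := B)) P
        = p ∧
      PrimeSpectrum.comap (Algebra.TensorProduct.includeRight (R := A) (A := k) (B := B)).toRingHom P
        = q := by
  have sq : IsPullback
      (Spec.map (CommRingCat.ofHom
        (Algebra.TensorProduct.includeRight (R := A) (A := k) (B := B)).toRingHom))
      (Spec.map (CommRingCat.ofHom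
        (Algebra.TensorProduct.includeLeftRingHom (R := A) (A := k) (B := B))))
      (Spec.map (CommRingCat.ofHom (algebraMap A B)))
      (Spec.map (CommRingCat.ofHom (algebraMap A k))) :=
    (isPullback_SpecMap_of_isPushout _ _ _ _ (CommRingCat.isPushout_tensorProduct A k B)).flip
  obtain ⟨w, hw1, hw2⟩ := Scheme.Pullback.exists_preimage_pullback
    (f := Spec.map (CommRingCat.ofHom (algebraMap A B)))
    (g := Spec.map (CommRingCat.ofHom (algebraMap A k))) (q : PrimeSpectrum B) (p : PrimeSpectrum k)
    h.symm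
  refine ⟨sq.isoPullback.inv w, ?_, ?_⟩
  · rw [← hw2]
    change (Spec.map (CommRingCat.ofHom
        (Algebra.TensorProduct.includeLeftRingHom (R := A) (A := k) (B := B))))
      (sq.isoPullback.inv w) = _
    rw [← Scheme.Hom.comp_apply, sq.isoPullback_inv_snd]
  · rw [← hw1]
    change (Spec.map (CommRingCat.ofHom
        (Algebra.TensorProduct.includeRight (R := A) (A := k) (B := B)).toRingHom))
      (sq.isoPullback.inv w) = _
    rw [← Scheme.Hom.comp_apply, sq.isoPullback_inv_fst]

/-- If `I A = A` for an ideal `I` of `A'`, this already happens over a finitely generated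
`A'`-subalgebra of `A`. -/
theorem exists_fg_subalgebra_map_eq_top {A' A : Type u} [CommRing A'] [CommRing A] [Algebra A' A]
    (I : Ideal A') (hI : I.map (algebraMap A' A) = ⊤) :
    ∃ A'' : Subalgebra A' A, A''.FG ∧ I.map (algebraMap A' A'') = ⊤ := by
  classical
  have h1 : (1 : A) ∈ Submodule.span A (algebraMap A' A '' (I : Set A')) := by
    have : (1 : A) ∈ I.map (algebraMap A' A) := by rw [hI]; trivial
    exact this
  obtain ⟨c, t, ht, -, hsum⟩ := Submodule.mem_span_iff_exists_finset_subset.mp h1
  have hi : ∀ a : t, ∃ i : A', i ∈ I ∧ algebraMap A' A i = a.1 := fun a => ht a.2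
  choose i hiI hia using hi
  refine ⟨Algebra.adjoin A' ((t.image c : Finset A) : Set A), Subalgebra.fg_adjoin_finset _, ?_⟩
  have hc : ∀ a : t, c a.1 ∈ Algebra.adjoin A' ((t.image c : Finset A) : Set A) := fun a =>
    Algebra.subset_adjoin (Finset.mem_coe.mpr (Finset.mem_image_of_mem c a.2))
  rw [Ideal.eq_top_iff_one]
  have hone : (1 : Algebra.adjoin A' ((t.image c : Finset A) : Set A)) =
      ∑ a ∈ t.attach, (⟨c a.1, hc a⟩ : Algebra.adjoin A' ((t.image c : Finset A) : Set A)) *
        algebraMap A' _ (i a) := by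
    apply Subtype.ext
    rw [AddSubmonoidClass.coe_finset_sum]
    simp only [MulMemClass.coe_mul]
    have : ∀ a : t, ((algebraMap A' (Algebra.adjoin A' ((t.image c : Finset A) : Set A)) (i a) :
        Algebra.adjoin A' ((t.image c : Finset A) : Set A)) : A) = a.1 := fun a => hia a
    simp only [this]
    rw [Finset.sum_attach t (fun a => c a * a)]
    simpa [smul_eq_mul] using hsum.symm
  rw [hone]
  exact Ideal.sum_mem _ fun a _ => Ideal.mul_mem_left _ _ (Ideal.mem_map_of_mem _ (hiI a))

/-- **Faithful flatness descends to a finitely generated subalgebra**, for a flat finitely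
presented algebra. -/
theorem exists_fg_subalgebra_faithfullyFlat_core {A' A B' : Type u} [CommRing A'] [CommRing A]
    [CommRing B'] [Algebra A' A] [Algebra A' B'] [Module.Flat A' B']
    [Algebra.FinitePresentation A' B'] [Module.FaithfullyFlat A (A ⊗[A'] B')] :
    ∃ A'' : Subalgebra A' A, A''.FG ∧ Module.FaithfullyFlat A'' (A'' ⊗[A'] B') := by
  have hopen : IsOpen (Set.range (PrimeSpectrum.comap (algebraMap A' B'))) :=
    (PrimeSpectrum.isOpenMap_comap_of_hasGoingDown_of_finitePresentation (R := A') (S := B')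
      ).isOpen_range
  obtain ⟨I, hIdef⟩ : ∃ I : Ideal A', I = PrimeSpectrum.vanishingIdeal
      (Set.range (PrimeSpectrum.comap (algebraMap A' B')))ᶜ := ⟨_, rfl⟩
  have hZ : PrimeSpectrum.zeroLocus (I : Set A') =
      (Set.range (PrimeSpectrum.comap (algebraMap A' B')))ᶜ := by
    rw [hIdef, PrimeSpectrum.zeroLocus_vanishingIdeal_eq_closure]
    exact hopen.isClosed_compl.closure_eq
  have hItop : I.map (algebraMap A' A) = ⊤ := by
    by_contra hne
    obtain ⟨m, hm, hle⟩ := Ideal.exists_le_maximal _ hne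
    obtain ⟨q, hq⟩ := PrimeSpectrum.comap_surjective_of_faithfullyFlat (A := A)
      (B := A ⊗[A'] B') ⟨m, hm.isPrime⟩
    have hmem : PrimeSpectrum.comap (algebraMap A' A) ⟨m, hm.isPrime⟩ ∈
        PrimeSpectrum.zeroLocus (I : Set A') := by
      rw [PrimeSpectrum.mem_zeroLocus]
      exact Ideal.map_le_iff_le_comap.mp hle
    rw [hZ] at hmem
    apply hmem
    refine ⟨PrimeSpectrum.comap
      (Algebra.TensorProduct.includeRight (R := A') (A := A) (B := B')).toRingHom q, ?_⟩
    rw [← hq, ← PrimeSpectrum.comap_comp_apply, ← PrimeSpectrum.comap_comp_apply]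
    congr 1
    ext x
    simp [Algebra.TensorProduct.algebraMap_apply, Algebra.algebraMap_eq_smul_one, smul_tmul']
  obtain ⟨A'', hfg, htop⟩ := exists_fg_subalgebra_map_eq_top I hItop
  refine ⟨A'', hfg, ?_⟩
  refine Module.FaithfullyFlat.of_comap_surjective fun p'' => ?_
  have hnot : PrimeSpectrum.comap (algebraMap A' A'') p'' ∉ PrimeSpectrum.zeroLocus (I : Set A') := by
    intro hmem
    rw [PrimeSpectrum.mem_zeroLocus] at hmem
    have : I.map (algebraMap A' A'') ≤ p''.asIdeal := Ideal.map_le_iff_le_comap.mpr hmem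
    rw [htop] at this
    exact p''.isPrime.ne_top (top_le_iff.mp this)
  rw [hZ, Set.mem_compl_iff, not_not] at hnot
  obtain ⟨q', hq'⟩ := hnot
  obtain ⟨P, hP1, -⟩ := exists_prime_tensor A' A'' B' p'' q' hq'.symm
  exact ⟨P, hP1⟩

/-- abstract form of `exists_fg_subalgebra_faithfullyFlat_core`. -/
theorem exists_fg_algebra_faithfullyFlat_core {A' A B' : Type u} [CommRing A'] [CommRing A]
    [CommRing B'] [Algebra A' A] [Algebra A' B'] [Module.Flat A' B']
    [Algebra.FinitePresentation A' B'] [Module.FaithfullyFlat A (A ⊗[A'] B')] :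
    ∃ (A'' : Type u) (_ : CommRing A'') (_ : Algebra A' A'') (_ : Algebra A'' A)
      (_ : IsScalarTower A' A'' A), Algebra.FiniteType A' A'' ∧
        Function.Injective (algebraMap A'' A) ∧ Module.FaithfullyFlat A'' (A'' ⊗[A'] B') := by
  obtain ⟨A'', hfg, hff⟩ := exists_fg_subalgebra_faithfullyFlat_core (A' := A') (A := A) (B' := B')
  exact ⟨A'', inferInstance, inferInstance, inferInstance, inferInstance,
    (Subalgebra.fg_iff_finiteType A'').mp hfg, Subtype.val_injective, hff⟩

/-- **Faithful flatness descends to a finitely generated subalgebra.** -/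
theorem exists_fg_algebra_faithfullyFlat {A₁ : Type u} [CommRing A₁] [IsNoetherianRing A₁]
    {B₁ : Type u} [CommRing B₁] [Algebra A₁ B₁] [Algebra.FiniteType A₁ B₁]
    (A : Type u) [CommRing A] [Algebra A₁ A] [Module.FaithfullyFlat A (A ⊗[A₁] B₁)] :
    ∃ (A'' : Type u) (_ : CommRing A'') (_ : Algebra A₁ A'') (_ : Algebra A'' A)
      (_ : IsScalarTower A₁ A'' A), Algebra.FiniteType A₁ A'' ∧
        Function.Injective (algebraMap A'' A) ∧ Module.FaithfullyFlat A'' (A'' ⊗[A₁] B₁) := by
  haveI : Module.Flat A (A ⊗[A₁] B₁) := inferInstance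
  obtain ⟨A', _, _, _, _, hA'ft, hA'inj, hflat⟩ :=
    exists_fg_algebra_flat (A₁ := A₁) (B₁ := B₁) B₁ A
  haveI : Algebra.FinitePresentation A₁ B₁ := Algebra.FinitePresentation.of_finiteType.mp
    inferInstance
  haveI : Module.FaithfullyFlat A (A ⊗[A'] (A' ⊗[A₁] B₁)) :=
    Module.FaithfullyFlat.of_linearEquiv (R := A) (M := A ⊗[A₁] B₁)
      (AlgebraTensorModule.cancelBaseChange A₁ A' A A B₁)
  obtain ⟨A'', _, _, _, _, hA''ft, hA''inj, hff⟩ :=
    exists_fg_algebra_faithfullyFlat_core (A' := A') (A := A) (B' := A' ⊗[A₁] B₁)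
  letI : Algebra A₁ A'' := ((algebraMap A' A'').comp (algebraMap A₁ A')).toAlgebra
  haveI : IsScalarTower A₁ A' A'' := IsScalarTower.of_algebraMap_eq (fun _ => rfl)
  haveI : IsScalarTower A₁ A'' A := IsScalarTower.of_algebraMap_eq (fun x => by
    show algebraMap A₁ A x = algebraMap A'' A (algebraMap A' A'' (algebraMap A₁ A' x))
    rw [← IsScalarTower.algebraMap_apply A' A'' A, ← IsScalarTower.algebraMap_apply A₁ A' A])
  refine ⟨A'', inferInstance, inferInstance, inferInstance, inferInstance,
    Algebra.FiniteType.trans hA'ft hA''ft, hA''inj, ?_⟩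
  exact Module.FaithfullyFlat.of_linearEquiv (R := A'') (M := A'' ⊗[A'] (A' ⊗[A₁] B₁))
    (AlgebraTensorModule.cancelBaseChange A₁ A' A'' A'' B₁).symm

end Groth.Agent.Lib.FlatDescH8
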