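import Mathlib
import Groth.Agent.Lib.FlatDesc13_helper8

/-!
# Flatness descent, part 14: a faithfully flat finitely presented algebra descends to a finitely
presented base
-/

namespace Groth.Agent.Lib.FlatDescH8

open TensorProduct

universe u

theorem exists_fp_model_core₀ {R A B A'' B'' A₀ : Type u} [CommRing R] [CommRing A] [CommRing B]
    [CommRing A''] [CommRing B''] [CommRing A₀] [Algebra R A] [Algebra A B] [Algebra A'' A]
    [Algebra A'' B'']
    [Algebra.FinitePresentation A'' B''] [Module.FaithfullyFlat A'' B'']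
    [Algebra A'' A₀] [Algebra A₀ A] [IsScalarTower A'' A₀ A] [Algebra R A₀] [IsScalarTower R A₀ A]
    [Algebra.FinitePresentation R A₀]
    (e : A ⊗[A''] B'' ≃ₐ[A] B) :
    ∃ (A₀ B₀ : Type u) (_ : CommRing A₀) (_ : CommRing B₀) (_ : Algebra R A₀) (_ : Algebra A₀ A)
      (_ : IsScalarTower R A₀ A) (_ : Algebra A₀ B₀), Algebra.FinitePresentation R A₀ ∧
        Algebra.FinitePresentation A₀ B₀ ∧ Module.FaithfullyFlat A₀ B₀ ∧
        Nonempty (B ≃ₐ[A] A ⊗[A₀] B₀) := by
  obtain ⟨e2, -⟩ : ∃ e2 : A ⊗[A₀] (A₀ ⊗[A''] B'') ≃ₐ[A] A ⊗[A''] B'', True :=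
    ⟨Algebra.TensorProduct.cancelBaseChange A'' A₀ A A B'', trivial⟩
  exact ⟨A₀, A₀ ⊗[A''] B'', inferInstance, inferInstance, inferInstance,
    inferInstance, inferInstance, inferInstance, inferInstance, inferInstance, inferInstance,
    ⟨e.symm.trans e2.symm⟩⟩

section Core

attribute [local instance] Algebra.TensorProduct.rightAlgebra

theorem exists_fp_model_core {R A B A'' B'' : Type u} [CommRing R] [CommRing A] [CommRing B]
    [CommRing A''] [CommRing B''] [Algebra R A] [Algebra A B] [Algebra A'' A] [Algebra A'' B'']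
    [Algebra.FinitePresentation ℤ A''] [Algebra.FinitePresentation A'' B'']
    [Module.FaithfullyFlat A'' B''] (e : A ⊗[A''] B'' ≃ₐ[A] B) :
    ∃ (A₀ B₀ : Type u) (_ : CommRing A₀) (_ : CommRing B₀) (_ : Algebra R A₀) (_ : Algebra A₀ A)
      (_ : IsScalarTower R A₀ A) (_ : Algebra A₀ B₀), Algebra.FinitePresentation R A₀ ∧
        Algebra.FinitePresentation A₀ B₀ ∧ Module.FaithfullyFlat A₀ B₀ ∧
        Nonempty (B ≃ₐ[A] A ⊗[A₀] B₀) := by
  obtain ⟨ψ, hψ⟩ : ∃ ψ : R ⊗[ℤ] A'' →ₐ[R] A, ∀ (r : R) (a : A''),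
      ψ (r ⊗ₜ a) = algebraMap R A r * algebraMap A'' A a :=
    ⟨Algebra.TensorProduct.lift (Algebra.ofId R A) ((algebraMap A'' A).toIntAlgHom)
      (fun _ _ => Commute.all _ _), fun r a => rfl⟩
  letI algA₀A : Algebra (R ⊗[ℤ] A'') A := ψ.toRingHom.toAlgebra
  haveI tw1 : IsScalarTower R (R ⊗[ℤ] A'') A := by
    have h1 : ∀ x : R, algebraMap R A x =
        algebraMap (R ⊗[ℤ] A'') A (algebraMap R (R ⊗[ℤ] A'') x) := fun x => (ψ.commutes x).symm
    exact IsScalarTower.of_algebraMap_eq (R := R) (S := R ⊗[ℤ] A'') (A := A) h1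
  haveI tw2 : IsScalarTower A'' (R ⊗[ℤ] A'') A := by
    have h1 : ∀ x : A'', algebraMap A'' A x =
        algebraMap (R ⊗[ℤ] A'') A (algebraMap A'' (R ⊗[ℤ] A'') x) := fun x => by
      show algebraMap A'' A x = ψ (1 ⊗ₜ x)
      rw [hψ, map_one, one_mul]
    exact IsScalarTower.of_algebraMap_eq (R := A'') (S := R ⊗[ℤ] A'') (A := A) h1
  exact exists_fp_model_core₀ (A₀ := R ⊗[ℤ] A'') e

end Core

/-- **A faithfully flat finitely presented algebra descends to a finitely presented base.** -/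
theorem exists_fp_model_faithfullyFlat {R A B : Type u} [CommRing R] [CommRing A] [CommRing B]
    [Algebra R A] [Algebra A B] [Algebra.FinitePresentation A B] [Module.FaithfullyFlat A B] :
    ∃ (A₀ B₀ : Type u) (_ : CommRing A₀) (_ : CommRing B₀) (_ : Algebra R A₀) (_ : Algebra A₀ A)
      (_ : IsScalarTower R A₀ A) (_ : Algebra A₀ B₀), Algebra.FinitePresentation R A₀ ∧
        Algebra.FinitePresentation A₀ B₀ ∧ Module.FaithfullyFlat A₀ B₀ ∧
        Nonempty (B ≃ₐ[A] A ⊗[A₀] B₀) := by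
  obtain ⟨A₁, _, _, _, _, B₁, _, _, _, _, M₁, _, _, _, _, f, hft, -, hfp, -, hpush, -⟩ :=
    exists_model A B B
  haveI : IsNoetherianRing A₁ := Algebra.FiniteType.isNoetherianRing ℤ A₁
  haveI : Module.FaithfullyFlat A (A ⊗[A₁] B₁) :=
    Module.FaithfullyFlat.of_linearEquiv (R := A) (M := B)
      (Algebra.IsPushout.equiv A₁ A B₁ B).toLinearEquiv
  obtain ⟨A'', _, _, _, _, hA''ft, -, hff⟩ :=
    exists_fg_algebra_faithfullyFlat (A₁ := A₁) (B₁ := B₁) A
  haveI : Algebra.FiniteType ℤ A'' := Algebra.FiniteType.trans hft hA''ft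
  haveI : Algebra.FinitePresentation ℤ A'' := Algebra.FinitePresentation.of_finiteType.mp
    inferInstance
  obtain ⟨e, -⟩ : ∃ e : A ⊗[A''] (A'' ⊗[A₁] B₁) ≃ₐ[A] B, True :=
    ⟨(Algebra.TensorProduct.cancelBaseChange A₁ A'' A A B₁).trans
      (Algebra.IsPushout.equiv A₁ A B₁ B), trivial⟩
  exact exists_fp_model_core (A'' := A'') (B'' := A'' ⊗[A₁] B₁) e

end Groth.Agent.Lib.FlatDescH8
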