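import Mathlib
import Groth.Agent.Lib.FlatDesc14_helper8

/-!
# Flatness descent, part 15: finite type descends along faithfully flat finitely presented maps
-/

namespace Groth.Agent.Lib.FlatDescH8

open TensorProduct

universe u

section T1

variable {A₀ A B₀ : Type u} [CommRing A₀] [CommRing A] [CommRing B₀] [Algebra A₀ A] [Algebra A₀ B₀]

/-- the map `S ⊗ B₀ → A ⊗ B₀` for a subalgebra `S` of `A`. -/
noncomputable def jmap (S : Subalgebra A₀ A) : S ⊗[A₀] B₀ →ₐ[A₀] A ⊗[A₀] B₀ :=
  Algebra.TensorProduct.map S.val (AlgHom.id A₀ B₀)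

lemma jmap_tmul (S : Subalgebra A₀ A) (a : S) (b : B₀) :
    jmap S (a ⊗ₜ[A₀] b) = (a : A) ⊗ₜ[A₀] b := rfl

lemma jmap_range_mono {S S' : Subalgebra A₀ A} (h : S ≤ S') :
    (jmap (B₀ := B₀) S).range ≤ (jmap (B₀ := B₀) S').range := by
  have hcomp : jmap (B₀ := B₀) S = (jmap S').comp
      (Algebra.TensorProduct.map (Subalgebra.inclusion h) (AlgHom.id A₀ B₀)) := by
    apply Algebra.TensorProduct.ext'
    intro a b
    rfl
  rw [hcomp]
  exact AlgHom.range_comp_le_range _ _

/-- every element of `A ⊗ B₀` comes from `S ⊗ B₀` for a finitely generated subalgebra `S`. -/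
lemma exists_fg_mem_jmap_range (x : A ⊗[A₀] B₀) :
    ∃ S : Subalgebra A₀ A, S.FG ∧ x ∈ (jmap (B₀ := B₀) S).range := by
  induction x with
  | zero => exact ⟨⊥, Subalgebra.fg_bot, zero_mem _⟩
  | tmul a b =>
    refine ⟨Algebra.adjoin A₀ {a}, by
      simpa using Subalgebra.fg_adjoin_finset (R := A₀) ({a} : Finset A), ?_⟩
    exact ⟨(⟨a, Algebra.subset_adjoin rfl⟩ : Algebra.adjoin A₀ {a}) ⊗ₜ b, rfl⟩
  | add x y hx hy =>
    obtain ⟨S, hS, hxS⟩ := hx
    obtain ⟨S', hS', hyS'⟩ := hy
    exact ⟨S ⊔ S', hS.sup hS', add_mem (jmap_range_mono le_sup_left hxS)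
      (jmap_range_mono le_sup_right hyS')⟩

/-- finitely many elements. -/
lemma exists_fg_forall_mem_jmap_range (s : Finset (A ⊗[A₀] B₀)) :
    ∃ S : Subalgebra A₀ A, S.FG ∧ ∀ x ∈ s, x ∈ (jmap (B₀ := B₀) S).range := by
  classical
  induction s using Finset.induction_on with
  | empty => exact ⟨⊥, Subalgebra.fg_bot, fun x hx => absurd hx (Finset.notMem_empty x)⟩
  | insert a s _ ih =>
    obtain ⟨S, hS, hxS⟩ := ih
    obtain ⟨S', hS', haS'⟩ := exists_fg_mem_jmap_range (B₀ := B₀) a
    refine ⟨S ⊔ S', hS.sup hS', fun x hx => ?_⟩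
    rcases Finset.mem_insert.mp hx with rfl | hx
    · exact jmap_range_mono le_sup_right haS'
    · exact jmap_range_mono le_sup_left (hxS x hx)

lemma jmap_injective [Module.Flat A₀ B₀] (S : Subalgebra A₀ A) :
    Function.Injective (jmap (B₀ := B₀) S) := by
  have h := Module.Flat.rTensor_preserves_injective_linearMap (M := B₀) S.val.toLinearMap
    Subtype.val_injective
  intro x y hxy
  apply h
  have hc : ∀ z : S ⊗[A₀] B₀, (S.val.toLinearMap.rTensor B₀) z = jmap S z := by
    intro z
    induction z with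
    | zero => simp
    | tmul a b => rfl
    | add a b ha hb => rw [map_add, map_add, ha, hb]
  rw [hc, hc, hxy]

/-- if `jmap S` is surjective and `B₀` is faithfully flat, then `S = ⊤`. -/
lemma eq_top_of_jmap_surjective [Module.FaithfullyFlat A₀ B₀] (S : Subalgebra A₀ A)
    (h : Function.Surjective (jmap (B₀ := B₀) S)) : S = ⊤ := by
  have hc : ∀ z : S ⊗[A₀] B₀, (S.val.toLinearMap.rTensor B₀) z = jmap S z := by
    intro z
    induction z with
    | zero => simp
    | tmul a b => rfl
    | add a b ha hb => rw [map_add, map_add, ha, hb]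
  have h1 : Function.Surjective (S.val.toLinearMap.rTensor B₀) := by
    intro y
    obtain ⟨z, hz⟩ := h y
    exact ⟨z, (hc z).trans hz⟩
  have hcomm : ∀ z : S ⊗[A₀] B₀, TensorProduct.comm A₀ B₀ A
      ((S.val.toLinearMap.lTensor B₀) (TensorProduct.comm A₀ S B₀ z)) =
      (S.val.toLinearMap.rTensor B₀) z := by
    intro z
    induction z with
    | zero => simp
    | tmul a b => rfl
    | add a b ha hb => simp only [map_add, ha, hb]
  have h2 : Function.Surjective (S.val.toLinearMap.lTensor B₀) := by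
    intro y
    obtain ⟨z, hz⟩ := h1 (TensorProduct.comm A₀ B₀ A y)
    refine ⟨TensorProduct.comm A₀ S B₀ z, ?_⟩
    apply (TensorProduct.comm A₀ B₀ A).injective
    rw [← hz, hcomm]
  have h3 : Function.Surjective S.val.toLinearMap :=
    (Module.FaithfullyFlat.lTensor_surjective_iff_surjective A₀ B₀ _).mp h2
  rw [eq_top_iff]
  intro a _
  obtain ⟨z, hz⟩ := h3 a
  rw [← hz]
  exact z.2

end T1

/-- **Finite type descends along a faithfully flat finitely presented extension.** -/
theorem finiteType_of_faithfullyFlat_fp {R A B : Type u} [CommRing R] [CommRing A] [CommRing B]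
    [Algebra R A] [Algebra A B] [Algebra R B] [IsScalarTower R A B] [Algebra.FiniteType R B]
    [Module.FaithfullyFlat A B] [Algebra.FinitePresentation A B] : Algebra.FiniteType R A := by
  classical
  obtain ⟨A₀, B₀, _, _, _, _, _, _, hfpA₀, hfpB₀, hff, ⟨e⟩⟩ :=
    exists_fp_model_faithfullyFlat (R := R) (A := A) (B := B)
  obtain ⟨s, hs⟩ := (Algebra.FiniteType.out : (⊤ : Subalgebra R B).FG)
  obtain ⟨S, hSfg, hS⟩ := exists_fg_forall_mem_jmap_range (B₀ := B₀) (s.image e)
  have hall : ∀ b : B, e b ∈ (jmap (B₀ := B₀) S).range := by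
    intro b
    have hb : b ∈ Algebra.adjoin R (s : Set B) := by rw [hs]; trivial
    induction hb using Algebra.adjoin_induction with
    | mem x hx => exact hS _ (Finset.mem_image_of_mem e hx)
    | algebraMap r =>
      have : e (algebraMap R B r) = algebraMap A₀ (A ⊗[A₀] B₀) (algebraMap R A₀ r) := by
        rw [IsScalarTower.algebraMap_apply R A B, e.commutes,
          IsScalarTower.algebraMap_apply R A₀ A, Algebra.TensorProduct.algebraMap_apply,
          Algebra.TensorProduct.algebraMap_apply]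
        rfl
      rw [this]
      exact Subalgebra.algebraMap_mem _ _
    | add x y _ _ hx hy => rw [map_add]; exact add_mem hx hy
    | mul x y _ _ hx hy => rw [map_mul]; exact mul_mem hx hy
  have hsurj : Function.Surjective (jmap (B₀ := B₀) S) := by
    intro y
    obtain ⟨z, hz⟩ := hall (e.symm y)
    exact ⟨z, hz.trans (e.apply_symm_apply y)⟩
  have htop := eq_top_of_jmap_surjective S hsurj
  haveI : Algebra.FiniteType A₀ A := ⟨by rw [← htop]; exact hSfg⟩
  have h1 : Algebra.FiniteType R A₀ := inferInstance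
  exact Algebra.FiniteType.trans h1 inferInstance

end Groth.Agent.Lib.FlatDescH8
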