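import Mathlib
import Groth.Agent.Lib.FlatDesc15_helper8

/-!
# Flatness descent, part 16: finite presentation descends along faithfully flat finitely presented
maps
-/

namespace Groth.Agent.Lib.FlatDescH8

open TensorProduct

universe u

/-- if `I B` is finitely generated then it is generated by a finitely generated subideal of `I`. -/
theorem exists_fg_le_map_eq {A₀ B₀ : Type u} [CommRing A₀] [CommRing B₀] (f : A₀ →+* B₀)
    (I : Ideal A₀) (h : (I.map f).FG) : ∃ I' : Ideal A₀, I' ≤ I ∧ I'.FG ∧ I'.map f = I.map f := by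
  classical
  have h1 : (Submodule.span B₀ (f '' (I : Set A₀))).FG := h
  obtain ⟨s', hs', hspan⟩ := (Submodule.fg_span_iff_fg_span_finset_subset _).mp h1
  obtain ⟨T, hT, rfl⟩ := Finset.subset_set_image_iff.mp hs'
  refine ⟨Ideal.span (T : Set A₀), Ideal.span_le.mpr hT, ⟨T, rfl⟩, ?_⟩
  rw [Ideal.map_span]
  have : I.map f = Submodule.span B₀ (f '' (I : Set A₀)) := rfl
  rw [this, hspan]
  simp [Ideal.span]

/-- the kernel of `B₀ → A ⊗ B₀` when `A₀ → A` is surjective. -/
theorem ker_includeRight_le {A₀ A B₀ : Type u} [CommRing A₀] [CommRing A] [CommRing B₀]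
    [Algebra A₀ A] [Algebra A₀ B₀] (hsurj : Function.Surjective (algebraMap A₀ A)) (b : B₀)
    (hb : (1 : A) ⊗ₜ[A₀] b = 0) :
    b ∈ (RingHom.ker (algebraMap A₀ A)).map (algebraMap A₀ B₀) := by
  have hk := Algebra.TensorProduct.rTensor_ker (R := A₀) (S := A₀) (C := B₀) (f := Algebra.ofId A₀ A) hsurj
  have hmem : (1 : A₀) ⊗ₜ[A₀] b ∈ RingHom.ker
      (Algebra.TensorProduct.map (Algebra.ofId A₀ A) (AlgHom.id A₀ B₀)) := by
    rw [RingHom.mem_ker, Algebra.TensorProduct.map_tmul, map_one]
    exact hb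
  rw [hk] at hmem
  have hle : Ideal.map (Algebra.TensorProduct.includeLeft : A₀ →ₐ[A₀] A₀ ⊗[A₀] B₀)
      (RingHom.ker (Algebra.ofId A₀ A)) ≤
      Ideal.comap (Algebra.TensorProduct.lid A₀ B₀).toAlgHom.toRingHom
        ((RingHom.ker (algebraMap A₀ A)).map (algebraMap A₀ B₀)) := by
    rw [Ideal.map_le_iff_le_comap]
    intro x hx
    rw [Ideal.mem_comap, Ideal.mem_comap]
    have hx' : x ∈ RingHom.ker (algebraMap A₀ A) := hx
    have : (Algebra.TensorProduct.lid A₀ B₀).toAlgHom.toRingHom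
        ((Algebra.TensorProduct.includeLeft : A₀ →ₐ[A₀] A₀ ⊗[A₀] B₀) x) = algebraMap A₀ B₀ x := by
      simp [Algebra.algebraMap_eq_smul_one]
    rw [this]
    exact Ideal.mem_map_of_mem _ hx'
  have h2 := hle hmem
  rw [Ideal.mem_comap] at h2
  have h3 : (Algebra.TensorProduct.lid A₀ B₀).toAlgHom.toRingHom ((1 : A₀) ⊗ₜ[A₀] b) = b := by
    simp
  rw [h3] at h2
  exact h2

/-- core: with `A₀ → A` surjective. -/
theorem finitePresentation_core {R A B A₀ B₀ : Type u} [CommRing R] [CommRing A] [CommRing B]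
    [CommRing A₀] [CommRing B₀] [Algebra R A] [Algebra A B] [Algebra R B] [IsScalarTower R A B]
    [Algebra.FinitePresentation R B] [Algebra R A₀] [Algebra A₀ A] [IsScalarTower R A₀ A]
    [Algebra A₀ B₀] [Algebra.FinitePresentation R A₀] [Algebra.FinitePresentation A₀ B₀]
    [Module.FaithfullyFlat A₀ B₀] (hsurj : Function.Surjective (algebraMap A₀ A))
    (e : B ≃ₐ[A] A ⊗[A₀] B₀) : Algebra.FinitePresentation R A := by
  letI : Algebra R B₀ := ((algebraMap A₀ B₀).comp (algebraMap R A₀)).toAlgebra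
  haveI : IsScalarTower R A₀ B₀ := IsScalarTower.of_algebraMap_eq (fun _ => rfl)
  haveI : Algebra.FinitePresentation R B₀ := Algebra.FinitePresentation.trans R A₀ B₀
  have hcomm : ∀ r : R, e.symm ((1 : A) ⊗ₜ[A₀] algebraMap R B₀ r) = algebraMap R B r := by
    intro r
    rw [AlgEquiv.symm_apply_eq, IsScalarTower.algebraMap_apply R A B, e.commutes,
      Algebra.TensorProduct.algebraMap_apply, IsScalarTower.algebraMap_apply R A₀ A]
    show (1 : A) ⊗ₜ[A₀] algebraMap A₀ B₀ (algebraMap R A₀ r) = _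
    rw [Algebra.algebraMap_eq_smul_one (algebraMap R A₀ r), ← smul_tmul,
      ← Algebra.algebraMap_eq_smul_one]
    rfl
  obtain ⟨π, hπ⟩ : ∃ π : B₀ →ₐ[R] B, ∀ b, π b = e.symm ((1 : A) ⊗ₜ[A₀] b) :=
    ⟨{ (e.symm.toAlgHom.toRingHom.comp
        (Algebra.TensorProduct.includeRight : B₀ →ₐ[A₀] A ⊗[A₀] B₀).toRingHom) with
        commutes' := hcomm }, fun b => rfl⟩
  have hπsurj : Function.Surjective π := by
    intro b
    obtain ⟨b₀, hb₀⟩ := Algebra.TensorProduct.includeRight_surjective B₀ hsurj (e b)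
    refine ⟨b₀, ?_⟩
    rw [hπ]
    have : (1 : A) ⊗ₜ[A₀] b₀ = e b := hb₀
    rw [this, e.symm_apply_apply]
  have hker := Algebra.FinitePresentation.ker_fG_of_surjective π hπsurj
  have hkereq : RingHom.ker π.toRingHom =
      (RingHom.ker (algebraMap A₀ A)).map (algebraMap A₀ B₀) := by
    apply le_antisymm
    · intro b hb
      apply ker_includeRight_le hsurj
      have h1 : π b = 0 := hb
      rw [hπ] at h1
      exact e.symm.injective (h1.trans (map_zero _).symm)
    · rw [Ideal.map_le_iff_le_comap]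
      intro k hk
      rw [Ideal.mem_comap]
      show π (algebraMap A₀ B₀ k) = 0
      rw [hπ, Algebra.algebraMap_eq_smul_one k, ← smul_tmul, ← Algebra.algebraMap_eq_smul_one,
        (show algebraMap A₀ A k = 0 from hk), zero_tmul, map_zero]
  rw [hkereq] at hker
  obtain ⟨K', hK'le, hK'fg, hK'map⟩ := exists_fg_le_map_eq _ _ hker
  have hKeq : RingHom.ker (algebraMap A₀ A) = K' := by
    rw [← Ideal.comap_map_eq_self_of_faithfullyFlat (B := B₀) (RingHom.ker (algebraMap A₀ A)),
      ← hK'map, Ideal.comap_map_eq_self_of_faithfullyFlat]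
  haveI : Algebra.FinitePresentation A₀ A :=
    Algebra.FinitePresentation.of_surjective (f := Algebra.ofId A₀ A) hsurj (by
      have : RingHom.ker (Algebra.ofId A₀ A).toRingHom = RingHom.ker (algebraMap A₀ A) := rfl
      rw [this, hKeq]
      exact hK'fg)
  exact Algebra.FinitePresentation.trans R A₀ A

/-- **Finite presentation descends along a faithfully flat finitely presented extension.** -/
theorem finitePresentation_of_faithfullyFlat_fp {R A B : Type u} [CommRing R] [CommRing A]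
    [CommRing B] [Algebra R A] [Algebra A B] [Algebra R B] [IsScalarTower R A B]
    [Algebra.FinitePresentation R B] [Module.FaithfullyFlat A B]
    [Algebra.FinitePresentation A B] : Algebra.FinitePresentation R A := by
  haveI hft : Algebra.FiniteType R A :=
    finiteType_of_faithfullyFlat_fp (R := R) (A := A) (B := B)
  obtain ⟨A₀, B₀, _, _, _, _, _, _, hfpA₀, hfpB₀, hff, ⟨e⟩⟩ :=
    exists_fp_model_faithfullyFlat (R := R) (A := A) (B := B)
  haveI : Algebra.FiniteType A₀ A := Algebra.FiniteType.of_restrictScalars_finiteType R A₀ A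
  obtain ⟨n, f, hf⟩ := Algebra.FiniteType.iff_quotient_mvPolynomial''.mp
    (inferInstance : Algebra.FiniteType A₀ A)
  letI : Algebra (MvPolynomial (Fin n) A₀) A := f.toRingHom.toAlgebra
  haveI : IsScalarTower A₀ (MvPolynomial (Fin n) A₀) A :=
    IsScalarTower.of_algebraMap_eq (fun x => (f.commutes x).symm)
  haveI : IsScalarTower R (MvPolynomial (Fin n) A₀) A := IsScalarTower.of_algebraMap_eq (fun r => by
    show algebraMap R A r = f (algebraMap R (MvPolynomial (Fin n) A₀) r)
    rw [IsScalarTower.algebraMap_apply R A₀ (MvPolynomial (Fin n) A₀), f.commutes,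
      ← IsScalarTower.algebraMap_apply R A₀ A])
  haveI : Algebra.FinitePresentation R (MvPolynomial (Fin n) A₀) :=
    Algebra.FinitePresentation.trans R A₀ _
  obtain ⟨e', -⟩ : ∃ e' : B ≃ₐ[A]
      A ⊗[MvPolynomial (Fin n) A₀] (MvPolynomial (Fin n) A₀ ⊗[A₀] B₀), True :=
    ⟨e.trans (Algebra.TensorProduct.cancelBaseChange A₀ (MvPolynomial (Fin n) A₀) A A B₀).symm,
      trivial⟩
  exact finitePresentation_core (A₀ := MvPolynomial (Fin n) A₀)
    (B₀ := MvPolynomial (Fin n) A₀ ⊗[A₀] B₀) hf e'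

end Groth.Agent.Lib.FlatDescH8
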