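import Mathlib
import Groth.Agent.Lib.FlatDesc17_helper8
import Groth.Agent.Lib.FinFreeResGen_helper8

/-!
# Flatness descent, part 19: kernels of surjections onto flat modules and base change
-/

namespace Groth.Agent.Lib.FlatDescH8

open TensorProduct

universe u

/-- the kernel of a surjection of flat modules is flat. -/
theorem flat_ker {R : Type u} [CommRing R] {F N : Type u} [AddCommGroup F] [Module R F]
    [AddCommGroup N] [Module R N] [Module.Flat R F] [Module.Flat R N] (p : F →ₗ[R] N)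
    (hp : Function.Surjective p) : Module.Flat R (LinearMap.ker p) := by
  rw [Module.Flat.iff_rTensor_preserves_injective_linearMap]
  intro X' X _ _ _ _ i hi
  have h1 : Function.Injective ((LinearMap.ker p).subtype.lTensor X') :=
    LinearMap.lTensor_injective_of_exact_of_flat p hp _ (LinearMap.ker p).subtype_injective
      (LinearMap.exact_subtype_ker_map p) X'
  have h2 : Function.Injective (i.rTensor F) :=
    Module.Flat.rTensor_preserves_injective_linearMap i hi
  have hcomm : ((LinearMap.ker p).subtype.lTensor X).comp (i.rTensor (LinearMap.ker p)) =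
      (i.rTensor F).comp ((LinearMap.ker p).subtype.lTensor X') := by
    rw [LinearMap.lTensor_comp_rTensor, LinearMap.rTensor_comp_lTensor]
  have h3 : Function.Injective
      (((LinearMap.ker p).subtype.lTensor X).comp (i.rTensor (LinearMap.ker p))) := by
    rw [hcomm]
    exact h2.comp h1
  exact Function.Injective.of_comp h3

section Pushout

variable {R₀ : Type u} (A : Type u) {S₀ B : Type u} [CommRing R₀] [CommRing A] [CommRing S₀]
  [CommRing B]
  [Algebra R₀ A] [Algebra R₀ S₀] [Algebra S₀ B] [Algebra A B] [Algebra R₀ B]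
  [IsScalarTower R₀ A B] [IsScalarTower R₀ S₀ B] [Algebra.IsPushout R₀ A S₀ B]

include A in
/-- base change along a pushout square preserves injectivity of a map with `R₀`-flat cokernel. -/
theorem baseChange_injective_of_flat {K₀ F₀ N₀ : Type u} [AddCommGroup K₀] [AddCommGroup F₀]
    [AddCommGroup N₀] [Module S₀ K₀] [Module S₀ F₀] [Module S₀ N₀] [Module R₀ K₀] [Module R₀ F₀]
    [Module R₀ N₀] [IsScalarTower R₀ S₀ K₀] [IsScalarTower R₀ S₀ F₀] [IsScalarTower R₀ S₀ N₀]
    [Module.Flat R₀ N₀] (j : K₀ →ₗ[S₀] F₀) (π₀ : F₀ →ₗ[S₀] N₀) (hj : Function.Injective j)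
    (hπ₀ : Function.Surjective π₀) (hex : Function.Exact j π₀) :
    Function.Injective (j.baseChange B) := by
  have h1 : Function.Injective ((j.restrictScalars R₀).lTensor A) :=
    LinearMap.lTensor_injective_of_exact_of_flat (π₀.restrictScalars R₀) hπ₀
      (j.restrictScalars R₀) hj hex A
  have hnat : ∀ x : A ⊗[R₀] K₀,
      (j.baseChange B) ((Algebra.IsPushout.cancelBaseChange R₀ A S₀ B K₀).symm x) =
      (Algebra.IsPushout.cancelBaseChange R₀ A S₀ B F₀).symm
        ((j.restrictScalars R₀).lTensor A x) := by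
    intro x
    induction x with
    | zero => simp
    | tmul a k =>
      rw [Algebra.IsPushout.cancelBaseChange_symm_tmul, LinearMap.lTensor_tmul,
        Algebra.IsPushout.cancelBaseChange_symm_tmul, LinearMap.baseChange_tmul]
      rfl
    | add x y hx hy => simp only [map_add, hx, hy]
  rw [injective_iff_map_eq_zero]
  intro y hy
  have h2 := hnat (Algebra.IsPushout.cancelBaseChange R₀ A S₀ B K₀ y)
  rw [LinearEquiv.symm_apply_apply, hy] at h2
  have h3 : ((j.restrictScalars R₀).lTensor A)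
      (Algebra.IsPushout.cancelBaseChange R₀ A S₀ B K₀ y) = 0 := by
    apply (Algebra.IsPushout.cancelBaseChange R₀ A S₀ B F₀).symm.injective
    rw [← h2, map_zero]
  have h4 := h1 (h3.trans (map_zero _).symm)
  exact (Algebra.IsPushout.cancelBaseChange R₀ A S₀ B K₀).injective (h4.trans (map_zero _).symm)

include A in
/-- **Kernels commute with base change along a pushout square when the cokernel is flat over the
base.** -/
theorem isBaseChange_ker {K₀ F₀ N₀ F N : Type u} [AddCommGroup K₀] [AddCommGroup F₀]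
    [AddCommGroup N₀] [Module S₀ K₀] [Module S₀ F₀] [Module S₀ N₀] [Module R₀ K₀] [Module R₀ F₀]
    [Module R₀ N₀] [IsScalarTower R₀ S₀ K₀] [IsScalarTower R₀ S₀ F₀] [IsScalarTower R₀ S₀ N₀]
    [Module.Flat R₀ N₀] (j : K₀ →ₗ[S₀] F₀) (π₀ : F₀ →ₗ[S₀] N₀) (hj : Function.Injective j)
    (hπ₀ : Function.Surjective π₀) (hex : Function.Exact j π₀)
    [AddCommGroup F] [Module B F] [Module S₀ F] [IsScalarTower S₀ B F]
    [AddCommGroup N] [Module B N] [Module S₀ N] [IsScalarTower S₀ B N]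
    (h₂ : F₀ →ₗ[S₀] F) (hh₂ : IsBaseChange B h₂) (h₃ : N₀ →ₗ[S₀] N) (hh₃ : IsBaseChange B h₃)
    (p : F →ₗ[B] N) (hcomm : ∀ x, p (h₂ x) = h₃ (π₀ x)) :
    ∃ h₁ : K₀ →ₗ[S₀] LinearMap.ker p, IsBaseChange B h₁ ∧ ∀ k, ((h₁ k : LinearMap.ker p) : F) =
      h₂ (j k) := by
  have hmem : ∀ k, h₂ (j k) ∈ LinearMap.ker p := by
    intro k
    rw [LinearMap.mem_ker, hcomm, hex.apply_apply_eq_zero, map_zero]
  obtain ⟨h₁, hh₁⟩ : ∃ h₁ : K₀ →ₗ[S₀] LinearMap.ker p, ∀ k, ((h₁ k : LinearMap.ker p) : F) =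
      h₂ (j k) :=
    ⟨{ toFun := fun k => ⟨h₂ (j k), hmem k⟩
       map_add' := fun x y => by
        apply Subtype.ext
        simp
       map_smul' := fun c x => by
        apply Subtype.ext
        simp }, fun k => rfl⟩
  refine ⟨h₁, ?_, hh₁⟩
  -- the comparison map
  have hinjB := baseChange_injective_of_flat (R₀ := R₀) A (B := B) j π₀ hj hπ₀ hex
  have hexB : Function.Exact (j.baseChange B) (π₀.baseChange B) := by
    have := lTensor_exact (R := S₀) B hex hπ₀
    intro y
    rw [LinearMap.baseChange_eq_ltensor, LinearMap.baseChange_eq_ltensor]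
    exact this y
  have h1 : ∀ x : B ⊗[S₀] K₀, ((LinearMap.liftBaseChange B h₁ x : LinearMap.ker p) : F) =
      hh₂.equiv (j.baseChange B x) := by
    intro x
    induction x with
    | zero => simp
    | tmul b k =>
      rw [LinearMap.liftBaseChange_tmul, LinearMap.baseChange_tmul, IsBaseChange.equiv_tmul,
        Submodule.coe_smul, hh₁]
    | add x y hx hy =>
      rw [map_add, Submodule.coe_add, hx, hy, map_add, map_add]
  have h2 : ∀ z : B ⊗[S₀] F₀, p (hh₂.equiv z) = hh₃.equiv (π₀.baseChange B z) := by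
    intro z
    induction z with
    | zero => simp
    | tmul b x =>
      rw [IsBaseChange.equiv_tmul, LinearMap.baseChange_tmul, IsBaseChange.equiv_tmul, map_smul,
        hcomm]
    | add x y hx hy => simp only [map_add, hx, hy]
  have hbij : Function.Bijective (LinearMap.liftBaseChange B h₁) := by
    constructor
    · rw [injective_iff_map_eq_zero]
      intro x hx
      have h3 := h1 x
      rw [hx, Submodule.coe_zero] at h3
      have h4 : j.baseChange B x = 0 :=
        hh₂.equiv.injective (h3.symm.trans (map_zero _).symm)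
      exact hinjB (h4.trans (map_zero _).symm)
    · intro y
      have h3 := h2 (hh₂.equiv.symm y.1)
      rw [LinearEquiv.apply_symm_apply, y.2] at h3
      have h4 : π₀.baseChange B (hh₂.equiv.symm y.1) = 0 :=
        hh₃.equiv.injective (h3.symm.trans (map_zero _).symm)
      obtain ⟨x, hx⟩ := (hexB _).mp h4
      refine ⟨x, Subtype.ext ?_⟩
      rw [h1, hx, LinearEquiv.apply_symm_apply]
  exact IsBaseChange.of_equiv (LinearEquiv.ofBijective _ hbij) (fun x => by
    rw [LinearEquiv.ofBijective_apply, LinearMap.liftBaseChange_tmul, one_smul])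

end Pushout

section Main'

attribute [local instance] Algebra.TensorProduct.rightAlgebra

/-- Second-stage descent: given a model `(A₁, B₁, M₁)` of `(R, S, M)` and an intermediate
`A₁`-algebra `A'` over which the base change of `M₁` is flat, produce the model over `A'`. -/
theorem exists_model_over' {A₁ R B₁ S : Type u} [CommRing A₁] [CommRing R] [CommRing B₁]
    [CommRing S] [Algebra A₁ R] [Algebra A₁ B₁] [Algebra R S] [Algebra B₁ S] [Algebra A₁ S]
    [IsScalarTower A₁ R S] [IsScalarTower A₁ B₁ S] [Algebra.IsPushout A₁ R B₁ S]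
    [Algebra.FiniteType A₁ B₁]
    {M₁ M : Type u} [AddCommGroup M₁] [Module B₁ M₁] [Module A₁ M₁] [IsScalarTower A₁ B₁ M₁]
    [Module.Finite B₁ M₁]
    [AddCommGroup M] [Module S M] [Module B₁ M] [IsScalarTower B₁ S M]
    {f₁ : M₁ →ₗ[B₁] M} (hf₁ : IsBaseChange S f₁)
    (A' : Type u) [CommRing A'] [Algebra A₁ A'] [Algebra A' R] [IsScalarTower A₁ A' R]
    [Module.Flat A' (A' ⊗[A₁] M₁)] [Module.Flat A' (A' ⊗[A₁] B₁)] :
    ∃ (S₀ : Type u) (_ : CommRing S₀)
      (_ : Algebra A' S₀) (_ : Algebra S₀ S) (_ : Algebra A' S) (_ : IsScalarTower A' R S)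
      (_ : IsScalarTower A' S₀ S) (M₀ : Type u) (_ : AddCommGroup M₀) (_ : Module S₀ M₀)
      (_ : Module A' M₀) (_ : IsScalarTower A' S₀ M₀) (_ : Module S₀ M) (_ : IsScalarTower S₀ S M)
      (f : M₀ →ₗ[S₀] M),
      Algebra.FiniteType A' S₀ ∧ Module.Finite S₀ M₀ ∧ Module.Flat A' M₀ ∧
        Algebra.IsPushout A' R S₀ S ∧ IsBaseChange S f ∧ Module.Flat A' S₀ := by
  letI algA'S : Algebra A' S := ((algebraMap R S).comp (algebraMap A' R)).toAlgebra
  haveI tw1 : IsScalarTower A' R S := IsScalarTower.of_algebraMap_eq (fun _ => rfl)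
  haveI tw2 : IsScalarTower A₁ A' S := IsScalarTower.of_algebraMap_eq (fun x => by
    show algebraMap A₁ S x = algebraMap R S (algebraMap A' R (algebraMap A₁ A' x))
    rw [← IsScalarTower.algebraMap_apply A₁ A' R, ← IsScalarTower.algebraMap_apply A₁ R S])
  obtain ⟨ψ, hψ⟩ : ∃ ψ : A' ⊗[A₁] B₁ →ₐ[A'] S, ∀ (a : A') (b : B₁),
      ψ (a ⊗ₜ b) = algebraMap A' S a * algebraMap B₁ S b :=
    ⟨Algebra.TensorProduct.lift (Algebra.ofId A' S) (IsScalarTower.toAlgHom A₁ B₁ S)
      (fun _ _ => Commute.all _ _), fun a b => rfl⟩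
  letI algS₀S : Algebra (A' ⊗[A₁] B₁) S := ψ.toRingHom.toAlgebra
  have halg : ∀ x, algebraMap (A' ⊗[A₁] B₁) S x = ψ x := fun x => rfl
  haveI tw3 : IsScalarTower A' (A' ⊗[A₁] B₁) S := IsScalarTower.of_algebraMap_eq
    (fun x => (ψ.commutes x).symm)
  haveI tw4 : IsScalarTower A₁ (A' ⊗[A₁] B₁) S := IsScalarTower.of_algebraMap_eq (fun x => by
    rw [halg]
    show algebraMap A₁ S x = ψ (algebraMap A₁ A' x ⊗ₜ 1)
    rw [hψ, map_one, mul_one, ← IsScalarTower.algebraMap_apply A₁ A' S])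
  haveI tw5 : IsScalarTower B₁ (A' ⊗[A₁] B₁) S := IsScalarTower.of_algebraMap_eq (fun x => by
    rw [halg]
    show algebraMap B₁ S x = ψ (1 ⊗ₜ x)
    rw [hψ, map_one, one_mul])
  have push : Algebra.IsPushout A' R (A' ⊗[A₁] B₁) S :=
    (Algebra.IsPushout.comp_iff A₁ A' B₁ (S' := A' ⊗[A₁] B₁) (T := R) (T' := S)).mp inferInstance
  letI modS₀M : Module (A' ⊗[A₁] B₁) M := Module.compHom M (algebraMap (A' ⊗[A₁] B₁) S)
  haveI tw6 : IsScalarTower (A' ⊗[A₁] B₁) S M :=
    ⟨fun x y z => by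
      show (algebraMap (A' ⊗[A₁] B₁) S x * y) • z = algebraMap (A' ⊗[A₁] B₁) S x • (y • z)
      rw [mul_smul]⟩
  haveI tw7 : IsScalarTower B₁ (A' ⊗[A₁] B₁) M :=
    ⟨fun x y z => by
      show algebraMap (A' ⊗[A₁] B₁) S (x • y) • z = x • (algebraMap (A' ⊗[A₁] B₁) S y • z)
      rw [Algebra.smul_def, map_mul, mul_smul, ← IsScalarTower.algebraMap_apply B₁ (A' ⊗[A₁] B₁) S,
        algebraMap_smul]⟩
  obtain ⟨f, hf⟩ : ∃ f : (A' ⊗[A₁] B₁) ⊗[B₁] M₁ →ₗ[A' ⊗[A₁] B₁] M,
      (f.restrictScalars B₁).comp (TensorProduct.mk B₁ (A' ⊗[A₁] B₁) M₁ 1) = f₁ :=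
    ⟨(TensorProduct.isBaseChange B₁ M₁ (A' ⊗[A₁] B₁)).lift f₁,
      (TensorProduct.isBaseChange B₁ M₁ (A' ⊗[A₁] B₁)).lift_comp f₁⟩
  have hbc : IsBaseChange S f := by
    refine IsBaseChange.of_comp (TensorProduct.isBaseChange B₁ M₁ (A' ⊗[A₁] B₁)) ?_
    rw [hf]
    exact hf₁
  have hflat : Module.Flat A' ((A' ⊗[A₁] B₁) ⊗[B₁] M₁) :=
    Module.Flat.of_linearEquiv
      (Algebra.IsPushout.cancelBaseChange A₁ A' B₁ (A' ⊗[A₁] B₁) M₁)
  exact ⟨A' ⊗[A₁] B₁, inferInstance, inferInstance, algS₀S, algA'S, tw1, tw3,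
    (A' ⊗[A₁] B₁) ⊗[B₁] M₁, inferInstance, inferInstance, inferInstance, inferInstance,
    modS₀M, tw6, f, inferInstance, inferInstance, hflat, push, hbc, inferInstance⟩

end Main'

/-- a product of two flat modules is flat. -/
theorem flat_prod {R : Type u} [CommRing R] (X Y : Type u) [AddCommGroup X] [Module R X]
    [AddCommGroup Y] [Module R Y] [Module.Flat R X] [Module.Flat R Y] : Module.Flat R (X × Y) := by
  rw [Module.Flat.iff_lTensor_preserves_injective_linearMap]
  intro N' N _ _ _ _ i hi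
  have h1 : Function.Injective (i.lTensor X) :=
    Module.Flat.lTensor_preserves_injective_linearMap i hi
  have h2 : Function.Injective (i.lTensor Y) :=
    Module.Flat.lTensor_preserves_injective_linearMap i hi
  have hcomm : ∀ z : (X × Y) ⊗[R] N',
      TensorProduct.prodLeft R R X Y N (i.lTensor (X × Y) z) =
      ((i.lTensor X).prodMap (i.lTensor Y)) (TensorProduct.prodLeft R R X Y N' z) := by
    intro z
    induction z with
    | zero => simp only [map_zero]
    | tmul a b =>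
      obtain ⟨a1, a2⟩ := a
      rw [LinearMap.lTensor_tmul, TensorProduct.prodLeft_tmul, TensorProduct.prodLeft_tmul]
      rfl
    | add a b ha hb => simp only [map_add, ha, hb]
  intro z w hzw
  apply (TensorProduct.prodLeft R R X Y N').injective
  apply (Function.Injective.prodMap h1 h2)
  have := congrArg (TensorProduct.prodLeft R R X Y N) hzw
  rw [hcomm, hcomm] at this
  exact this

/-- **Noetherian flat model**: a flat finitely presented algebra with a flat finitely presented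
module descends, with both flatnesses, to a finite type `ℤ`-algebra. -/
theorem exists_noetherian_flat_model (A : Type u) [CommRing A] (B : Type u) [CommRing B]
    [Algebra A B] [Algebra.FinitePresentation A B] [Module.Flat A B] (M : Type u)
    [AddCommGroup M] [Module B M] [Module A M] [IsScalarTower A B M]
    [Module.FinitePresentation B M] [Module.Flat A M] :
    ∃ (R₀ : Type u) (_ : CommRing R₀) (_ : Algebra R₀ A) (S₀ : Type u) (_ : CommRing S₀)
      (_ : Algebra R₀ S₀) (_ : Algebra S₀ B) (_ : Algebra R₀ B) (_ : IsScalarTower R₀ A B)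
      (_ : IsScalarTower R₀ S₀ B) (M₀ : Type u) (_ : AddCommGroup M₀) (_ : Module S₀ M₀)
      (_ : Module R₀ M₀) (_ : IsScalarTower R₀ S₀ M₀) (_ : Module S₀ M) (_ : IsScalarTower S₀ B M)
      (f : M₀ →ₗ[S₀] M),
      Algebra.FiniteType ℤ R₀ ∧ Algebra.FiniteType R₀ S₀ ∧ Module.Finite S₀ M₀ ∧ Module.Flat R₀ M₀ ∧
        Algebra.IsPushout R₀ A S₀ B ∧ IsBaseChange B f ∧ Module.Flat R₀ S₀ := by
  obtain ⟨A₁, _, _, _, _, B₁, _, _, _, _, M₁, _, _, _, _, f₁, hft, -, hfp, hfin, hpush, hbc⟩ :=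
    exists_model A B M
  letI : Module A₁ M₁ := Module.compHom M₁ (algebraMap A₁ B₁)
  haveI : IsScalarTower A₁ B₁ M₁ :=
    ⟨fun a x y => by
      show (a • x) • y = algebraMap A₁ B₁ a • (x • y)
      rw [Algebra.smul_def, mul_smul]⟩
  obtain ⟨e₀, -⟩ : ∃ e₀ : A ⊗[A₁] M₁ ≃ₗ[A] M, True := ⟨modelEquiv hbc, trivial⟩
  haveI : IsNoetherianRing A₁ := Algebra.FiniteType.isNoetherianRing ℤ A₁
  haveI : Module.Flat A (A ⊗[A₁] M₁) := Module.Flat.of_linearEquiv e₀
  haveI : Module.Flat A (A ⊗[A₁] B₁) :=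
    Module.Flat.of_linearEquiv (Algebra.IsPushout.equiv A₁ A B₁ B).toLinearEquiv
  haveI : Module.Flat A ((A ⊗[A₁] M₁) × (A ⊗[A₁] B₁)) := flat_prod _ _
  haveI : Module.Flat A (A ⊗[A₁] (M₁ × B₁)) :=
    Module.Flat.of_linearEquiv (TensorProduct.prodRight A₁ A A M₁ B₁)
  obtain ⟨A', _, _, _, _, hA'ft, -, hflat⟩ :=
    exists_fg_algebra_flat (A₁ := A₁) (B₁ := B₁) (M₁ × B₁) A
  haveI : Module.Flat A' ((A' ⊗[A₁] M₁) × (A' ⊗[A₁] B₁)) :=
    Module.Flat.of_linearEquiv (TensorProduct.prodRight A₁ A' A' M₁ B₁).symm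
  haveI : Module.Flat A' (A' ⊗[A₁] M₁) :=
    Module.Flat.of_retract (M := (A' ⊗[A₁] M₁) × (A' ⊗[A₁] B₁))
      (LinearMap.inl A' _ _) (LinearMap.fst A' _ _) (by ext <;> simp)
  haveI : Module.Flat A' (A' ⊗[A₁] B₁) :=
    Module.Flat.of_retract (M := (A' ⊗[A₁] M₁) × (A' ⊗[A₁] B₁))
      (LinearMap.inr A' _ _) (LinearMap.snd A' _ _) (by ext <;> simp)
  obtain ⟨S₀, i1, i2, i3, i4, i5, i6, M₀, i7, i8, i9, i10, i11, i12, f, h1, h2, h3, h4, h5, h6⟩ :=
    exists_model_over' (A₁ := A₁) (R := A) (B₁ := B₁) (S := B) hbc A'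
  exact ⟨A', inferInstance, inferInstance, S₀, i1, i2, i3, i4, i5, i6, M₀, i7, i8, i9, i10, i11,
    i12, f, Algebra.FiniteType.trans hft hA'ft, h1, h2, h3, h4, h5, h6⟩

end Groth.Agent.Lib.FlatDescH8
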