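import Mathlib
import Groth.Agent.Lib.FlatDesc19_helper8
import Groth.Agent.Lib.FlatBC2_helper8

/-!
# Fibre criterion, part C (helper6): capture lemmas, cokernels and base change, localization lemmas

APPEND-ONLY once landed.
-/

set_option autoImplicit false
open TensorProduct IsLocalRing

namespace Groth.Agent.Lib.FibInjH6

universe u

section Cap

variable {R₀ R S₀ S₁ : Type u} [CommRing R₀] [CommRing R] [CommRing S₀] [CommRing S₁]
  [Algebra R₀ R] [Algebra R₀ S₀] [Algebra R S₁] [Algebra S₀ S₁] [Algebra R₀ S₁]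
  [IsScalarTower R₀ R S₁] [IsScalarTower R₀ S₀ S₁] [Algebra.IsPushout R₀ R S₀ S₁]
  {N₀ N₁ : Type u} [AddCommGroup N₀] [Module S₀ N₀] [Module R₀ N₀] [IsScalarTower R₀ S₀ N₀]
  [AddCommGroup N₁] [Module S₁ N₁] [Module S₀ N₁] [IsScalarTower S₀ S₁ N₁]

variable (R₀ S₀) in
/-- elements of `S₁` built from a subalgebra of `R`. -/
def ringGen (A' : Subalgebra R₀ R) : Set S₁ :=
  {z | ∃ r ∈ A', ∃ b : S₀, z = algebraMap R S₁ r * algebraMap S₀ S₁ b}

variable (S₁) in
/-- elements of `N₁` built from a subalgebra of `R`. -/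
def modGen (f₀ : N₀ →ₗ[S₀] N₁) (A' : Subalgebra R₀ R) : Set N₁ :=
  {y | ∃ r ∈ A', ∃ n : N₀, y = algebraMap R S₁ r • f₀ n}

theorem ringGen_mono {A' A'' : Subalgebra R₀ R} (h : A' ≤ A'') :
    ringGen R₀ S₀ (S₁ := S₁) A' ⊆ ringGen R₀ S₀ A'' := by
  rintro z ⟨r, hr, b, rfl⟩
  exact ⟨r, h hr, b, rfl⟩

theorem modGen_mono (f₀ : N₀ →ₗ[S₀] N₁) {A' A'' : Subalgebra R₀ R} (h : A' ≤ A'') :
    modGen S₁ f₀ A' ⊆ modGen S₁ f₀ A'' := by
  rintro z ⟨r, hr, b, rfl⟩
  exact ⟨r, h hr, b, rfl⟩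

theorem exists_finset_mem_closure_ringGen (z : S₁) :
    ∃ F : Finset R, z ∈ AddSubgroup.closure
      (ringGen R₀ S₀ (S₁ := S₁) (Algebra.adjoin R₀ (F : Set R))) := by
  classical
  obtain ⟨t, rfl⟩ := (Algebra.IsPushout.equiv R₀ R S₀ S₁).surjective z
  induction t using TensorProduct.induction_on with
  | zero => exact ⟨∅, by rw [map_zero]; exact zero_mem _⟩
  | tmul r b =>
    refine ⟨{r}, AddSubgroup.subset_closure ⟨r, Algebra.subset_adjoin (by simp), b, ?_⟩⟩
    exact Algebra.IsPushout.equiv_tmul R₀ R S₀ S₁ r b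
  | add x y hx hy =>
    obtain ⟨F₁, h₁⟩ := hx
    obtain ⟨F₂, h₂⟩ := hy
    refine ⟨F₁ ∪ F₂, ?_⟩
    rw [map_add]
    refine add_mem (AddSubgroup.closure_mono (ringGen_mono (Algebra.adjoin_mono ?_)) h₁)
      (AddSubgroup.closure_mono (ringGen_mono (Algebra.adjoin_mono ?_)) h₂)
    · exact Finset.coe_subset.mpr Finset.subset_union_left
    · exact Finset.coe_subset.mpr Finset.subset_union_right

theorem exists_finset_mem_closure_modGen {f₀ : N₀ →ₗ[S₀] N₁} (hf₀ : IsBaseChange S₁ f₀)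
    (y : N₁) :
    ∃ F : Finset R, y ∈ AddSubgroup.closure (modGen S₁ f₀ (Algebra.adjoin R₀ (F : Set R))) := by
  classical
  obtain ⟨t, rfl⟩ : ∃ t : R ⊗[R₀] N₀,
      hf₀.equiv ((Algebra.IsPushout.cancelBaseChange R₀ R S₀ S₁ N₀).symm t) = y :=
    ⟨Algebra.IsPushout.cancelBaseChange R₀ R S₀ S₁ N₀ (hf₀.equiv.symm y), by simp⟩
  induction t using TensorProduct.induction_on with
  | zero => exact ⟨∅, by rw [map_zero, map_zero]; exact zero_mem _⟩
  | tmul r n =>
    refine ⟨{r}, AddSubgroup.subset_closure ⟨r, Algebra.subset_adjoin (by simp), n, ?_⟩⟩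
    rw [Algebra.IsPushout.cancelBaseChange_symm_tmul, IsBaseChange.equiv_tmul]
  | add x y hx hy =>
    obtain ⟨F₁, h₁⟩ := hx
    obtain ⟨F₂, h₂⟩ := hy
    refine ⟨F₁ ∪ F₂, ?_⟩
    rw [map_add, map_add]
    refine add_mem (AddSubgroup.closure_mono (modGen_mono (S₁ := S₁) f₀ (Algebra.adjoin_mono ?_)) h₁)
      (AddSubgroup.closure_mono (modGen_mono (S₁ := S₁) f₀ (Algebra.adjoin_mono ?_)) h₂)
    · exact Finset.coe_subset.mpr Finset.subset_union_left
    · exact Finset.coe_subset.mpr Finset.subset_union_right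

end Cap

section CokerBC

variable {A B : Type u} [CommRing A] [CommRing B] [Algebra A B]
  {M N M₁ N₁ : Type u} [AddCommGroup M] [Module A M] [AddCommGroup N] [Module A N]
  [AddCommGroup M₁] [Module B M₁] [Module A M₁] [IsScalarTower A B M₁]
  [AddCommGroup N₁] [Module B N₁] [Module A N₁] [IsScalarTower A B N₁]

/-- cokernels commute with base change. -/
theorem isBaseChange_coker (u : M →ₗ[A] N) (u₁ : M₁ →ₗ[B] N₁) (jM : M →ₗ[A] M₁)
    (jN : N →ₗ[A] N₁) (hM : IsBaseChange B jM) (hN : IsBaseChange B jN)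
    (hc : ∀ x, u₁ (jM x) = jN (u x)) :
    ∃ jC : (N ⧸ LinearMap.range u) →ₗ[A] (N₁ ⧸ LinearMap.range u₁), IsBaseChange B jC ∧
      ∀ n, jC (Submodule.Quotient.mk n) = Submodule.Quotient.mk (jN n) := by
  have hle : LinearMap.range u ≤
      LinearMap.ker (((LinearMap.range u₁).mkQ.restrictScalars A).comp jN) := by
    rintro _ ⟨x, rfl⟩
    rw [LinearMap.mem_ker, LinearMap.comp_apply, ← hc]
    show (LinearMap.range u₁).mkQ (u₁ (jM x)) = 0
    rw [Submodule.mkQ_apply, Submodule.Quotient.mk_eq_zero]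
    exact LinearMap.mem_range_self _ _
  refine ⟨(LinearMap.range u).liftQ _ hle, ?_, fun n => rfl⟩
  refine IsBaseChange.of_right_exact B jM jN _ (f := u) (g := (LinearMap.range u).mkQ)
    (f' := u₁) (g' := (LinearMap.range u₁).mkQ) ?_ ?_ hM hN
    (LinearMap.exact_map_mkQ_range u) (Submodule.mkQ_surjective _)
    (LinearMap.exact_map_mkQ_range u₁) (Submodule.mkQ_surjective _)
  · exact LinearMap.ext fun x => (hc x).symm
  · exact LinearMap.ext fun x => rfl

end CokerBC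

section LocSmul

variable {B : Type u} [CommRing B] (T : Submonoid B) {Y Y'' : Type u} [AddCommGroup Y]
  [Module B Y] [AddCommGroup Y''] [Module B Y''] (ℓ : Y →ₗ[B] Y'') [IsLocalizedModule T ℓ]

include T in
/-- an element whose image in the localization lies in `I Y''` is, up to a denominator, in `I Y`. -/
theorem exists_smul_mem_of_map_mem (I : Ideal B) (y : Y)
    (h : ℓ y ∈ I • (⊤ : Submodule B Y'')) : ∃ t ∈ T, t • y ∈ I • (⊤ : Submodule B Y) := by
  have key : ∀ z ∈ I • (⊤ : Submodule B Y''), ∃ s ∈ T, ∃ y₀ ∈ I • (⊤ : Submodule B Y),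
      s • z = ℓ y₀ := by
    intro z hz
    refine Submodule.smul_induction_on hz ?_ ?_
    · intro a ha z' _
      obtain ⟨⟨z₀, s⟩, hs⟩ := IsLocalizedModule.surj T ℓ z'
      refine ⟨s.1, s.2, a • z₀, Submodule.smul_mem_smul ha Submodule.mem_top, ?_⟩
      have hs' : s.1 • z' = ℓ z₀ := hs
      rw [smul_comm, hs', map_smul]
    · rintro z₁ z₂ ⟨s₁, hs₁, y₁, hy₁, e₁⟩ ⟨s₂, hs₂, y₂, hy₂, e₂⟩
      refine ⟨s₁ * s₂, T.mul_mem hs₁ hs₂, s₂ • y₁ + s₁ • y₂,
        add_mem (Submodule.smul_mem _ _ hy₁) (Submodule.smul_mem _ _ hy₂), ?_⟩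
      rw [smul_add, map_add, map_smul, map_smul, ← e₁, ← e₂, mul_smul, mul_smul,
        smul_comm s₁ s₂ z₁]
  obtain ⟨s, hs, y₀, hy₀, e⟩ := key _ h
  have h0 : ℓ (s • y - y₀) = 0 := by rw [map_sub, map_smul, e, sub_self]
  obtain ⟨t, ht⟩ := (IsLocalizedModule.eq_zero_iff T ℓ).mp h0
  refine ⟨t.1 * s, T.mul_mem t.2 hs, ?_⟩
  have h1 : t.1 • (s • y - y₀) = 0 := ht
  rw [smul_sub, sub_eq_zero] at h1
  rw [mul_smul, h1]
  exact Submodule.smul_mem _ _ hy₀

end LocSmul

section InjBack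

variable {R' R S' S₁ : Type u} [CommRing R'] [CommRing R] [CommRing S'] [CommRing S₁]
  [Algebra R' R] [Algebra R' S'] [Algebra R S₁] [Algebra S' S₁] [Algebra R' S₁]
  [IsScalarTower R' R S₁] [IsScalarTower R' S' S₁] [Algebra.IsPushout R' R S' S₁]
  (T : Submonoid S')
  {M' N' M'' N'' C'' : Type u} [AddCommGroup M'] [Module S' M'] [AddCommGroup N'] [Module S' N']
  [AddCommGroup M''] [Module S' M''] [Module R' M''] [IsScalarTower R' S' M'']
  [AddCommGroup N''] [Module S' N''] [Module R' N''] [IsScalarTower R' S' N'']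
  [AddCommGroup C''] [Module S' C''] [Module R' C''] [IsScalarTower R' S' C'']
  {M₁ N₁ : Type u} [AddCommGroup M₁] [Module S₁ M₁] [Module S' M₁] [IsScalarTower S' S₁ M₁]
  [AddCommGroup N₁] [Module S₁ N₁] [Module S' N₁] [IsScalarTower S' S₁ N₁]

include R in
/-- **Injectivity descends back**: if the localized map at the stage is injective with `R'`-flat
cokernel, elements of the kernel of `u₁` are killed by (images of) elements of `T`. -/
theorem exists_smul_eq_zero_of_stage (u' : M' →ₗ[S'] N') (ℓM : M' →ₗ[S'] M'')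
    (ℓN : N' →ₗ[S'] N'') [IsLocalizedModule T ℓM] (u'' : M'' →ₗ[S'] N'')
    (hu'' : ∀ x, u'' (ℓM x) = ℓN (u' x)) (π'' : N'' →ₗ[S'] C'') (hinj : Function.Injective u'')
    (hsurj : Function.Surjective π'') (hex : Function.Exact u'' π'') [Module.Flat R' C'']
    (u₁ : M₁ →ₗ[S₁] N₁) (jM : M' →ₗ[S'] M₁) (jN : N' →ₗ[S'] N₁) (hM : IsBaseChange S₁ jM)
    (hN : IsBaseChange S₁ jN) (hc : ∀ x, u₁ (jM x) = jN (u' x)) (x₁ : M₁) (hx₁ : u₁ x₁ = 0) :
    ∃ t ∈ T, algebraMap S' S₁ t • x₁ = 0 := by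
  have hinjB : Function.Injective (u''.baseChange S₁) :=
    Groth.Agent.Lib.FlatDescH8.baseChange_injective_of_flat (R₀ := R') R (B := S₁) u'' π'' hinj
      hsurj hex
  have hnat : ∀ ξ : S₁ ⊗[S'] M', hN.equiv (u'.baseChange S₁ ξ) = u₁ (hM.equiv ξ) := by
    intro ξ
    induction ξ using TensorProduct.induction_on with
    | zero => simp
    | tmul s m =>
      rw [LinearMap.baseChange_tmul, IsBaseChange.equiv_tmul, IsBaseChange.equiv_tmul, map_smul,
        hc]
    | add x y hx hy => simp only [map_add, hx, hy]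
  set ξ := hM.equiv.symm x₁ with hξ
  have h1 : u'.baseChange S₁ ξ = 0 := by
    apply hN.equiv.injective
    rw [hnat, hξ, LinearEquiv.apply_symm_apply, hx₁, map_zero]
  have h2 : u''.baseChange S₁ (ℓM.baseChange S₁ ξ) = ℓN.baseChange S₁ (u'.baseChange S₁ ξ) := by
    have : (u''.baseChange S₁).comp (ℓM.baseChange S₁) =
        (ℓN.baseChange S₁).comp (u'.baseChange S₁) := by
      rw [← LinearMap.baseChange_comp, ← LinearMap.baseChange_comp]
      congr 1
      exact LinearMap.ext hu''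
    exact LinearMap.congr_fun this ξ
  rw [h1, map_zero] at h2
  have h3 : ℓM.baseChange S₁ ξ = 0 := hinjB (h2.trans (map_zero _).symm)
  haveI := FlatBC2H8.isLocalizedModule_baseChange (B' := S₁) T ℓM
  obtain ⟨s, hs⟩ := (IsLocalizedModule.eq_zero_iff (Algebra.algebraMapSubmonoid S₁ T)
    (ℓM.baseChange S₁)).mp h3
  obtain ⟨t, ht, hts⟩ := s.2
  refine ⟨t, ht, ?_⟩
  have h4 : algebraMap S' S₁ t • ξ = 0 := by
    rw [hts]
    exact hs
  have h5 : hM.equiv (algebraMap S' S₁ t • ξ) = algebraMap S' S₁ t • x₁ := by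
    rw [map_smul, hξ, LinearEquiv.apply_symm_apply]
  rw [← h5, h4, map_zero]

end InjBack

end Groth.Agent.Lib.FibInjH6
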