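import Mathlib
import Groth.Agent.Lib.FibCritA_helper6
import Groth.Agent.Lib.FibInjA_helper6
import Groth.Agent.Lib.FibInjC_helper6
import Groth.Agent.Lib.FlatDesc12_helper8

/-!
# Fibre criterion of flatness, part B (helper6): the spread theorem

`flat_of_fibre_flat`: `R` local, `B = R[X]/(g)` finitely presented, `D` a finitely presented
`R`-algebra and `B`-algebra, `N` a finitely presented `D`-module flat over `R`, whose fibre
`N/𝔪N` is flat over `B/𝔪B`; then `N_𝔯` is flat over `B` for every prime `𝔯 ⊇ 𝔪D`.

APPEND-ONLY once landed.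
-/

set_option autoImplicit false
set_option linter.style.haveILetI false
open TensorProduct IsLocalRing

namespace Groth.Agent.Lib.FibCritH6

universe u

attribute [local instance] MvPolynomial.algebraMvPolynomial

section StageB

variable {R' R B S' D N' N : Type u} [CommRing R'] [CommRing R] [CommRing B] [CommRing S']
  [CommRing D] [IsLocalRing R'] [IsLocalRing R] [IsNoetherianRing R'] [Algebra R' R]
  [IsLocalHom (algebraMap R' R)]
  [Algebra R B] [Algebra R D] [Algebra B D] [IsScalarTower R B D]
  [Algebra R' S'] [Algebra.FiniteType R' S'] [Algebra S' D] [Algebra R' D] [IsScalarTower R' R D]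
  [IsScalarTower R' S' D] [Algebra.IsPushout R' R S' D]
  [AddCommGroup N'] [Module S' N'] [Module R' N'] [IsScalarTower R' S' N'] [Module.Finite S' N']
  [Module.Flat R' N']
  [AddCommGroup N] [Module D N] [Module B N] [IsScalarTower B D N] [Module S' N]
  [IsScalarTower S' D N]

set_option maxHeartbeats 3200000 in
/-- From a stage `(R', S', N')` of `(R, D, N)` capturing the presentation of `B` and the map
`B → D`, to flatness of `N_𝔯` over `B`. -/
theorem flat_of_lifted_stage {n r : ℕ} (πB : MvPolynomial (Fin n) R →ₐ[R] B)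
    (hπ : Function.Surjective πB) (g : Fin r → MvPolynomial (Fin n) R)
    (hker : RingHom.ker πB.toRingHom = Ideal.span (Set.range g))
    (g' : Fin r → MvPolynomial (Fin n) R')
    (hg' : ∀ j, MvPolynomial.map (algebraMap R' R) (g' j) = g j)
    (d' : Fin n → S') (hd' : ∀ i, algebraMap S' D (d' i) = algebraMap B D (πB (MvPolynomial.X i)))
    (fN : N' →ₗ[S'] N) (hbcN' : IsBaseChange D fN) (hfNinj : Function.Injective fN)
    (𝔯 : Ideal D) [𝔯.IsPrime] (h𝔯 : (maximalIdeal R).map (algebraMap R D) ≤ 𝔯)
    (hfib : Module.Flat (B ⧸ (maximalIdeal R).map (algebraMap R B))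
      ((B ⧸ (maximalIdeal R).map (algebraMap R B)) ⊗[B] N)) :
    Module.Flat B (LocalizedModule 𝔯.primeCompl N) := by
  classical
  haveI : IsNoetherianRing S' := Algebra.FiniteType.isNoetherianRing R' S'
  let ψ' : MvPolynomial (Fin n) R' →ₐ[R'] S' := MvPolynomial.aeval d'
  have hcompat : ∀ p : MvPolynomial (Fin n) R',
      algebraMap S' D (ψ' p) = algebraMap B D (πB (MvPolynomial.map (algebraMap R' R) p)) := by
    intro p
    have h : (algebraMap S' D).comp ψ'.toRingHom =
        ((algebraMap B D).comp πB.toRingHom).comp (MvPolynomial.map (algebraMap R' R)) := by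
      apply MvPolynomial.ringHom_ext
      · intro a
        show algebraMap S' D (ψ' (MvPolynomial.C a)) =
          algebraMap B D (πB (MvPolynomial.map (algebraMap R' R) (MvPolynomial.C a)))
        rw [MvPolynomial.map_C, ← MvPolynomial.algebraMap_eq, ← MvPolynomial.algebraMap_eq,
          AlgHom.commutes, AlgHom.commutes, ← IsScalarTower.algebraMap_apply R' S' D,
          ← IsScalarTower.algebraMap_apply R B D, ← IsScalarTower.algebraMap_apply R' R D]
      · intro i
        show algebraMap S' D (ψ' (MvPolynomial.X i)) =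
          algebraMap B D (πB (MvPolynomial.map (algebraMap R' R) (MvPolynomial.X i)))
        rw [MvPolynomial.map_X, MvPolynomial.aeval_X]
        exact hd' i
    exact congr($h p)
  have hπg : ∀ j, πB (g j) = 0 := fun j => by
    have h : g j ∈ RingHom.ker πB.toRingHom := by
      rw [hker]
      exact Ideal.subset_span ⟨j, rfl⟩
    exact h
  have h𝔟'B : ∀ p ∈ Ideal.span (Set.range g'),
      (πB.toRingHom.comp (MvPolynomial.map (algebraMap R' R))) p = 0 := by
    intro p hp
    have hle : Ideal.span (Set.range g') ≤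
        RingHom.ker (πB.toRingHom.comp (MvPolynomial.map (algebraMap R' R))) := by
      refine Ideal.span_le.mpr ?_
      rintro _ ⟨j, rfl⟩
      show πB (MvPolynomial.map (algebraMap R' R) (g' j)) = 0
      rw [hg', hπg]
    exact hle hp
  have hJ'D : ∀ s ∈ (Ideal.span (Set.range g')).map ψ'.toRingHom, algebraMap S' D s = 0 := by
    intro s hs
    have hle : (Ideal.span (Set.range g')).map ψ'.toRingHom ≤ RingHom.ker (algebraMap S' D) := by
      refine Ideal.map_le_iff_le_comap.mpr ?_
      intro p hp
      show algebraMap S' D (ψ' p) = 0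
      rw [hcompat]
      have := h𝔟'B p hp
      rw [show πB (MvPolynomial.map (algebraMap R' R) p) = 0 from this, map_zero]
    exact hle hs
  have hJ'N : Module.IsTorsionBySet S' N'
      (((Ideal.span (Set.range g')).map ψ'.toRingHom : Ideal S') : Set S') := by
    intro x a
    apply hfNinj
    rw [map_smul, map_zero, ← algebraMap_smul D (a : S') (fN x), hJ'D _ a.2, zero_smul]
  -- the algebra structures
  letI algB'D'' : Algebra (MvPolynomial (Fin n) R' ⧸ Ideal.span (Set.range g'))
      (S' ⧸ (Ideal.span (Set.range g')).map ψ'.toRingHom) :=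
    (Ideal.quotientMap _ ψ'.toRingHom Ideal.le_comap_map).toAlgebra
  letI algB'B : Algebra (MvPolynomial (Fin n) R' ⧸ Ideal.span (Set.range g')) B :=
    (Ideal.Quotient.lift _ (πB.toRingHom.comp (MvPolynomial.map (algebraMap R' R))) h𝔟'B).toAlgebra
  letI algD''D : Algebra (S' ⧸ (Ideal.span (Set.range g')).map ψ'.toRingHom) D :=
    (Ideal.Quotient.lift _ (algebraMap S' D) hJ'D).toAlgebra
  letI algR'B : Algebra R' B := ((algebraMap R B).comp (algebraMap R' R)).toAlgebra
  letI algB'D : Algebra (MvPolynomial (Fin n) R' ⧸ Ideal.span (Set.range g')) D :=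
    ((algebraMap B D).comp
      (algebraMap (MvPolynomial (Fin n) R' ⧸ Ideal.span (Set.range g')) B)).toAlgebra
  haveI tR'RB : IsScalarTower R' R B := IsScalarTower.of_algebraMap_eq fun _ => rfl
  haveI tR'B'B : IsScalarTower R' (MvPolynomial (Fin n) R' ⧸ Ideal.span (Set.range g')) B :=
    IsScalarTower.of_algebraMap_eq (R := R')
      (S := MvPolynomial (Fin n) R' ⧸ Ideal.span (Set.range g')) (A := B) fun a => by
      show algebraMap R B (algebraMap R' R a) = πB (MvPolynomial.map (algebraMap R' R)
        (algebraMap R' (MvPolynomial (Fin n) R') a))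
      rw [MvPolynomial.algebraMap_eq, MvPolynomial.map_C, ← MvPolynomial.algebraMap_eq,
        AlgHom.commutes]
  haveI tR'B'D'' : IsScalarTower R' (MvPolynomial (Fin n) R' ⧸ Ideal.span (Set.range g'))
      (S' ⧸ (Ideal.span (Set.range g')).map ψ'.toRingHom) :=
    IsScalarTower.of_algebraMap_eq (R := R')
      (S := MvPolynomial (Fin n) R' ⧸ Ideal.span (Set.range g'))
      (A := S' ⧸ (Ideal.span (Set.range g')).map ψ'.toRingHom) fun a => by
      show Ideal.Quotient.mk _ (algebraMap R' S' a) =
        Ideal.Quotient.mk _ (ψ' (algebraMap R' (MvPolynomial (Fin n) R') a))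
      rw [AlgHom.commutes]
  haveI tR'D''D : IsScalarTower R' (S' ⧸ (Ideal.span (Set.range g')).map ψ'.toRingHom) D :=
    IsScalarTower.of_algebraMap_eq (R := R')
      (S := S' ⧸ (Ideal.span (Set.range g')).map ψ'.toRingHom) (A := D) fun a => by
      show algebraMap R' D a = algebraMap S' D (algebraMap R' S' a)
      exact IsScalarTower.algebraMap_apply R' S' D a
  haveI tB'BD : IsScalarTower (MvPolynomial (Fin n) R' ⧸ Ideal.span (Set.range g')) B D :=
    IsScalarTower.of_algebraMap_eq fun _ => rfl
  haveI tB'D''D : IsScalarTower (MvPolynomial (Fin n) R' ⧸ Ideal.span (Set.range g'))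
      (S' ⧸ (Ideal.span (Set.range g')).map ψ'.toRingHom) D :=
    IsScalarTower.of_algebraMap_eq fun b => by
      obtain ⟨p, rfl⟩ := Ideal.Quotient.mk_surjective b
      show algebraMap B D (πB (MvPolynomial.map (algebraMap R' R) p)) = algebraMap S' D (ψ' p)
      exact (hcompat p).symm
  -- the pushouts
  haveI pushB : Algebra.IsPushout R' R (MvPolynomial (Fin n) R' ⧸ Ideal.span (Set.range g')) B := by
    letI algQB : Algebra (MvPolynomial (Fin n) R) B := πB.toRingHom.toAlgebra
    haveI : IsScalarTower R (MvPolynomial (Fin n) R) B :=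
      IsScalarTower.of_algebraMap_eq fun x => (πB.commutes x).symm
    refine isPushout_quotient_of_ker (R' := R') (R := R) (A' := MvPolynomial (Fin n) R')
      (A := MvPolynomial (Fin n) R) (C := B) (Ideal.span (Set.range g')) hπ ?_ (fun _ => rfl)
    show RingHom.ker πB.toRingHom = _
    rw [hker, Ideal.map_span, ← Set.range_comp]
    congr 2
    funext j
    exact (hg' j).symm
  haveI pushD : Algebra.IsPushout R' R (S' ⧸ (Ideal.span (Set.range g')).map ψ'.toRingHom) D := by
    refine isPushout_quotient_of_ker (R' := R') (R := R) (A' := S') (A := D) (C := D)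
      ((Ideal.span (Set.range g')).map ψ'.toRingHom) Function.surjective_id ?_ (fun _ => rfl)
    rw [(Ideal.map_eq_bot_iff_le_ker (algebraMap S' D)).mpr (fun s hs => hJ'D s hs)]
    exact (RingHom.injective_iff_ker_eq_bot _).mp Function.injective_id
  -- the module structures
  letI modD''N' : Module (S' ⧸ (Ideal.span (Set.range g')).map ψ'.toRingHom) N' := hJ'N.module
  haveI tS'D''N' : IsScalarTower S' (S' ⧸ (Ideal.span (Set.range g')).map ψ'.toRingHom) N' :=
    IsScalarTower.of_algebraMap_smul fun _ _ => rfl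
  haveI tR'D''N' : IsScalarTower R' (S' ⧸ (Ideal.span (Set.range g')).map ψ'.toRingHom) N' :=
    IsScalarTower.of_algebraMap_smul (R := R')
      (A := S' ⧸ (Ideal.span (Set.range g')).map ψ'.toRingHom) (M := N') fun a x => by
      show (algebraMap R' S' a) • x = a • x
      exact algebraMap_smul S' a x
  letI modB'N' : Module (MvPolynomial (Fin n) R' ⧸ Ideal.span (Set.range g')) N' :=
    Module.compHom N' (algebraMap (MvPolynomial (Fin n) R' ⧸ Ideal.span (Set.range g'))
      (S' ⧸ (Ideal.span (Set.range g')).map ψ'.toRingHom))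
  haveI tB'D''N' : IsScalarTower (MvPolynomial (Fin n) R' ⧸ Ideal.span (Set.range g'))
      (S' ⧸ (Ideal.span (Set.range g')).map ψ'.toRingHom) N' :=
    IsScalarTower.of_algebraMap_smul fun _ _ => rfl
  haveI tR'B'N' : IsScalarTower R' (MvPolynomial (Fin n) R' ⧸ Ideal.span (Set.range g')) N' :=
    IsScalarTower.of_algebraMap_smul (R := R')
      (A := MvPolynomial (Fin n) R' ⧸ Ideal.span (Set.range g')) (M := N') fun a x => by
      show (algebraMap (MvPolynomial (Fin n) R' ⧸ Ideal.span (Set.range g'))
        (S' ⧸ (Ideal.span (Set.range g')).map ψ'.toRingHom)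
        (algebraMap R' (MvPolynomial (Fin n) R' ⧸ Ideal.span (Set.range g')) a)) • x = a • x
      rw [← IsScalarTower.algebraMap_apply R' (MvPolynomial (Fin n) R' ⧸ Ideal.span (Set.range g'))
        (S' ⧸ (Ideal.span (Set.range g')).map ψ'.toRingHom) a]
      exact algebraMap_smul _ a x
  haveI finN' : Module.Finite (S' ⧸ (Ideal.span (Set.range g')).map ψ'.toRingHom) N' :=
    Module.Finite.of_restrictScalars_finite S' _ N'
  letI modD''N : Module (S' ⧸ (Ideal.span (Set.range g')).map ψ'.toRingHom) N :=
    Module.compHom N (algebraMap (S' ⧸ (Ideal.span (Set.range g')).map ψ'.toRingHom) D)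
  haveI tD''DN : IsScalarTower (S' ⧸ (Ideal.span (Set.range g')).map ψ'.toRingHom) D N :=
    IsScalarTower.of_algebraMap_smul fun _ _ => rfl
  -- the base change map
  let jN : N' →ₗ[S' ⧸ (Ideal.span (Set.range g')).map ψ'.toRingHom] N :=
    { toFun := fN
      map_add' := fN.map_add
      map_smul' := fun c x => by
        obtain ⟨s, rfl⟩ := Ideal.Quotient.mk_surjective c
        show fN (s • x) = algebraMap S' D s • fN x
        rw [map_smul, algebraMap_smul] }
  have hjN : IsBaseChange D jN := by
    refine IsBaseChange.of_lift_unique _ (fun Q _ _ _ _ γ => ?_)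
    letI : Module S' Q := Module.compHom Q
      (algebraMap S' (S' ⧸ (Ideal.span (Set.range g')).map ψ'.toRingHom))
    haveI : IsScalarTower S' (S' ⧸ (Ideal.span (Set.range g')).map ψ'.toRingHom) Q :=
      IsScalarTower.of_algebraMap_smul fun _ _ => rfl
    haveI : IsScalarTower S' D Q := IsScalarTower.of_algebraMap_smul fun s q => by
      show algebraMap S' D s • q =
        (algebraMap S' (S' ⧸ (Ideal.span (Set.range g')).map ψ'.toRingHom) s) • q
      rw [← algebraMap_smul D
        (algebraMap S' (S' ⧸ (Ideal.span (Set.range g')).map ψ'.toRingHom) s) q]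
      rfl
    let γ₀ : N' →ₗ[S'] Q := γ.restrictScalars S'
    refine ⟨hbcN'.lift γ₀, ?_, ?_⟩
    · ext x
      exact hbcN'.lift_eq γ₀ x
    · intro γ' hγ'
      apply hbcN'.algHom_ext
      intro x
      rw [hbcN'.lift_eq]
      exact congr($hγ' x)
  exact flat_of_stage (R' := R') (R := R)
    (B' := MvPolynomial (Fin n) R' ⧸ Ideal.span (Set.range g')) (B := B)
    (D' := S' ⧸ (Ideal.span (Set.range g')).map ψ'.toRingHom) (D := D) jN hjN 𝔯 h𝔯 hfib

end StageB

set_option maxHeartbeats 1600000 in
/-- **Spread theorem.**  `R` local, `B = R[X]/(g)`, `D` a finitely presented `R`-algebra and a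
`B`-algebra, `N` a finitely presented `D`-module flat over `R` whose fibre is flat over the fibre
of `B`; then `N_𝔯` is `B`-flat for every prime `𝔯` of `D` above the maximal ideal of `R`. -/
theorem flat_of_fibre_flat {R B D N : Type u} [CommRing R] [IsLocalRing R] [CommRing B]
    [Algebra R B] [CommRing D] [Algebra R D] [Algebra.FinitePresentation R D] [Algebra B D]
    [IsScalarTower R B D]
    {n r : ℕ} (πB : MvPolynomial (Fin n) R →ₐ[R] B) (hπ : Function.Surjective πB)
    (g : Fin r → MvPolynomial (Fin n) R)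
    (hker : RingHom.ker πB.toRingHom = Ideal.span (Set.range g))
    [AddCommGroup N] [Module D N] [Module B N] [IsScalarTower B D N] [Module R N]
    [IsScalarTower R D N] [Module.FinitePresentation D N] [Module.Flat R N]
    (𝔯 : Ideal D) [𝔯.IsPrime] (h𝔯 : (maximalIdeal R).map (algebraMap R D) ≤ 𝔯)
    (hfib : Module.Flat (B ⧸ (maximalIdeal R).map (algebraMap R B))
      ((B ⧸ (maximalIdeal R).map (algebraMap R B)) ⊗[B] N)) :
    Module.Flat B (LocalizedModule 𝔯.primeCompl N) := by
  classical
  obtain ⟨R₀, _, _, S₀, _, _, _, _, _, _, N₀, _, _, _, _, _, _, f₀, hftR₀, hftS₀, hfinN₀, hflatN₀,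
    hpush, hbc⟩ := Groth.Agent.Lib.FlatDescH8.exists_finiteType_int_model R D N
  haveI : IsNoetherianRing R₀ := Algebra.FiniteType.isNoetherianRing ℤ R₀
  haveI := hftS₀
  haveI := hfinN₀
  haveI := hflatN₀
  haveI := hpush
  choose Fd hFd using fun i : Fin n =>
    Groth.Agent.Lib.FibInjH6.exists_finset_mem_closure_ringGen (R₀ := R₀) (R := R) (S₀ := S₀)
      (algebraMap B D (πB (MvPolynomial.X i)))
  let F : Finset R := (Finset.univ.biUnion fun j => (g j).coeffs) ∪ Finset.univ.biUnion Fd
  have hFdF : ∀ i, Algebra.adjoin R₀ ((Fd i : Finset R) : Set R) ≤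
      Algebra.adjoin R₀ (F : Set R) := fun i =>
    Algebra.adjoin_mono (Finset.coe_subset.mpr
      ((Finset.subset_biUnion_of_mem Fd (Finset.mem_univ i)).trans Finset.subset_union_right))
  obtain ⟨R', _, _, _, _, _, _, _, hR'inj, hR'range⟩ :=
    Groth.Agent.Lib.FibInjH6.exists_local_noetherian_intermediate (R₀ := R₀) (R := R) F
  obtain ⟨S', _, _, _, _, _, _, N', _, _, _, _, _, _, fN, hftS', hfinN', hflatN', hpush', hbcN',
    hfNinj, hcapS, -⟩ := Groth.Agent.Lib.FibInjH6.exists_stage (R₀ := R₀) (R := R) (S₀ := S₀)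
      (S₁ := D) hbc R' hR'inj
  haveI := hftS'
  haveI := hfinN'
  haveI := hflatN'
  haveI := hpush'
  have hg' : ∀ j, ∃ p : MvPolynomial (Fin n) R', MvPolynomial.map (algebraMap R' R) p = g j := by
    intro j
    have h : g j ∈ Set.range (MvPolynomial.map (algebraMap R' R)) := by
      rw [MvPolynomial.mem_range_map_iff_coeffs_subset]
      intro c hc
      exact hR'range c (Algebra.subset_adjoin (Finset.mem_coe.mpr (Finset.mem_union_left _
        (Finset.mem_biUnion.mpr ⟨j, Finset.mem_univ j, Finset.mem_coe.mp hc⟩))))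
    exact h
  have hd' : ∀ i, ∃ s' : S', algebraMap S' D s' = algebraMap B D (πB (MvPolynomial.X i)) := by
    intro i
    have h1 := hFd i
    have h2 : algebraMap B D (πB (MvPolynomial.X i)) ∈ (algebraMap S' D).range.toAddSubgroup := by
      refine (AddSubgroup.closure_le _).mpr ?_ h1
      rintro y ⟨a, ha, b₀, rfl⟩
      obtain ⟨a', rfl⟩ := hR'range a (hFdF i ha)
      obtain ⟨s', hs'⟩ := hcapS a' b₀
      exact ⟨s', hs'⟩
    exact h2
  choose g' hg' using hg'
  choose d' hd' using hd'
  exact flat_of_lifted_stage (R' := R') (R := R) (S' := S') πB hπ g hker g' hg' d' hd' fN hbcN'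
    hfNinj 𝔯 h𝔯 hfib

end Groth.Agent.Lib.FibCritH6
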