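import Mathlib
import Groth.Agent.Lib.FibInjC_helper6
import Groth.Agent.Lib.FlatFibre_helper9
import Groth.Agent.Lib.FlatDescC_helper6
import Groth.Agent.Lib.GenFreeG_helper8

/-!
# Fibre criterion, part D0 (helper6): conclusion at a Noetherian stage

APPEND-ONLY once landed.
-/

set_option autoImplicit false
open TensorProduct IsLocalRing

namespace Groth.Agent.Lib.FibInjH6

universe u

section StageConclusion

variable {R' R S' S₁ : Type u} [CommRing R'] [CommRing R] [CommRing S'] [CommRing S₁]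
  [IsLocalRing R'] [IsNoetherianRing S']
  [Algebra R' R] [Algebra R' S'] [Algebra R S₁] [Algebra S' S₁] [Algebra R' S₁]
  [IsScalarTower R' R S₁] [IsScalarTower R' S' S₁] [Algebra.IsPushout R' R S' S₁]
  {M' N' : Type u} [AddCommGroup M'] [Module S' M'] [Module R' M'] [IsScalarTower R' S' M']
  [Module.Finite S' M']
  [AddCommGroup N'] [Module S' N'] [Module R' N'] [IsScalarTower R' S' N'] [Module.Flat R' N']
  {M₁ N₁ : Type u} [AddCommGroup M₁] [Module S₁ M₁] [Module S' M₁] [IsScalarTower S' S₁ M₁]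
  [AddCommGroup N₁] [Module S₁ N₁] [Module S' N₁] [IsScalarTower S' S₁ N₁]
  [Module R N₁] [IsScalarTower R S₁ N₁]

set_option maxHeartbeats 1600000 in
/-- The conclusion at a Noetherian stage: apply the Noetherian fibre criterion at the localization
and base change back. -/
theorem stage_conclusion (u' : M' →ₗ[S'] N') (u₁ : M₁ →ₗ[S₁] N₁) (jM : M' →ₗ[S'] M₁)
    (jN : N' →ₗ[S'] N₁) (hM : IsBaseChange S₁ jM) (hN : IsBaseChange S₁ jN)
    (hcu : ∀ x, u₁ (jM x) = jN (u' x)) (q : Ideal S₁) [q.IsPrime]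
    (hloc : ∀ r ∈ maximalIdeal R', algebraMap S' S₁ (algebraMap R' S' r) ∈ q)
    (H' : ∀ x', u' x' ∈ ((maximalIdeal R').map (algebraMap R' S')) • (⊤ : Submodule S' N') →
      ∃ w' ∈ (q.comap (algebraMap S' S₁)).primeCompl,
        w' • x' ∈ ((maximalIdeal R').map (algebraMap R' S')) • (⊤ : Submodule S' M')) :
    (∀ x, u₁ x = 0 → ∃ w, w ∉ q ∧ w • x = 0) ∧
      Module.Flat R (LocalizedModule q.primeCompl (N₁ ⧸ LinearMap.range u₁)) := by
  classical
  let q' : Ideal S' := q.comap (algebraMap S' S₁)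
  haveI : q'.IsPrime := Ideal.comap_isPrime _ _
  set T := q'.primeCompl with hT
  set m' := maximalIdeal R' with hm'
  set J' := m'.map (algebraMap R' S') with hJ'
  let ℓM := LocalizedModule.mkLinearMap T M'
  let ℓN := LocalizedModule.mkLinearMap T N'
  let ℓC := LocalizedModule.mkLinearMap T (N' ⧸ LinearMap.range u')
  let u'' : LocalizedModule T M' →ₗ[S'] LocalizedModule T N' := IsLocalizedModule.map T ℓM ℓN u'
  let π'' : LocalizedModule T N' →ₗ[S'] LocalizedModule T (N' ⧸ LinearMap.range u') :=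
    IsLocalizedModule.map T ℓN ℓC (LinearMap.range u').mkQ
  have hu'' : ∀ x, u'' (ℓM x) = ℓN (u' x) := IsLocalizedModule.map_apply T ℓM ℓN u'
  have hex'' : Function.Exact u'' π'' :=
    IsLocalizedModule.map_exact T ℓM ℓN ℓC u' _ (LinearMap.exact_map_mkQ_range u')
  have hsurj'' : Function.Surjective π'' :=
    IsLocalizedModule.map_surjective T ℓN ℓC _ (Submodule.mkQ_surjective _)
  haveI : IsNoetherianRing (Localization.AtPrime q') :=
    IsLocalization.isNoetherianRing q'.primeCompl _ inferInstance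
  haveI : IsLocalHom (algebraMap R' (Localization.AtPrime q')) := ⟨fun r hr => by
    by_contra hnu
    have hrm : r ∈ m' := (IsLocalRing.mem_maximalIdeal _).mpr hnu
    have hrq : algebraMap R' S' r ∈ q' := hloc r hrm
    rw [IsScalarTower.algebraMap_apply R' S' (Localization.AtPrime q')] at hr
    exact (IsLocalization.AtPrime.isUnit_to_map_iff (Localization.AtPrime q') q' _).mp hr hrq⟩
  haveI : Module.Flat R' (LocalizedModule T N') :=
    GenFreeH8.flat_of_isLocalizedModule_algebra T ℓN
  let v : LocalizedModule T M' →ₗ[R'] LocalizedModule T N' := u''.restrictScalars R'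
  have hv : Function.Injective (v.lTensor (R' ⧸ maximalIdeal R')) := by
    rw [Groth.Agent.Lib.FlatFibre.lTensor_quot_injective_iff]
    intro x'' hx''
    obtain ⟨⟨x', s⟩, hs⟩ := IsLocalizedModule.surj T ℓM x''
    have hs' : s.1 • x'' = ℓM x' := hs
    have h1 : ℓN (u' x') ∈ (m' • ⊤ : Submodule R' (LocalizedModule T N')) := by
      rw [← hu'', ← hs', map_smul]
      exact Groth.Agent.Lib.FlatDescCH6.smul_mem_smul_top m' s.1 hx''
    rw [Groth.Agent.Lib.FlatDescCH6.mem_smul_top_iff_map (B := S')] at h1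
    obtain ⟨t, ht, htx⟩ := exists_smul_mem_of_map_mem T ℓN J' (u' x') h1
    rw [← map_smul] at htx
    obtain ⟨w', hw', hwx⟩ := H' (t • x') htx
    have h2 : ℓM (w' • t • x') ∈ (m' • ⊤ : Submodule R' (LocalizedModule T M')) := by
      rw [← Groth.Agent.Lib.FlatDescCH6.mem_smul_top_iff_map (B := S')] at hwx
      exact Groth.Agent.Lib.FlatDescCH6.map_mem_smul_top m' (ℓM.restrictScalars R') hwx
    have h3 : (w' * t * s.1) • x'' = ℓM (w' • t • x') := by
      rw [mul_smul, mul_smul, hs', map_smul, map_smul]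
    have hr : w' * t * s.1 ∈ T := T.mul_mem (T.mul_mem hw' ht) s.2
    have h4 : x'' = Localization.mk 1 ⟨w' * t * s.1, hr⟩ • ℓM (w' • t • x') :=
      (LocalizedModule.smul_eq_iff_of_mem _ hr _ _).mp h3
    rw [h4]
    exact Groth.Agent.Lib.FlatDescCH6.smul_mem_smul_top m' _ h2
  have hvinj : Function.Injective v :=
    Groth.Agent.Lib.FlatFibre.injective_of_injective_mod (Localization.AtPrime q') v hv
  have hvflat : Module.Flat R' (LocalizedModule T N' ⧸ LinearMap.range v) :=
    Groth.Agent.Lib.FlatFibre.flat_coker_of_injective_mod (Localization.AtPrime q') v hv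
  have eC : (LocalizedModule T N' ⧸ LinearMap.range v) ≃ₗ[R']
      LocalizedModule T (N' ⧸ LinearMap.range u') :=
    Function.Exact.linearEquivOfSurjective (f := v) (g := π''.restrictScalars R') hex'' hsurj''
  haveI : Module.Flat R' (LocalizedModule T (N' ⧸ LinearMap.range u')) :=
    Module.Flat.of_linearEquiv eC.symm
  refine ⟨?_, ?_⟩
  · intro x₁ hx₁
    obtain ⟨t, ht, htx⟩ := exists_smul_eq_zero_of_stage (R' := R') (R := R) T u' ℓM ℓN u'' hu'' π'' hvinj
      hsurj'' hex'' u₁ jM jN hM hN hcu x₁ hx₁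
    exact ⟨algebraMap S' S₁ t, ht, htx⟩
  · obtain ⟨jC, hjC, -⟩ := isBaseChange_coker (A := S') (B := S₁) u' u₁ jM jN hM hN hcu
    have hSS' : Algebra.algebraMapSubmonoid S₁ T ≤ q.primeCompl := by
      rintro _ ⟨t, ht, rfl⟩
      exact ht
    exact FlatBC2H8.flat_of_flat_localized (A := R') (A' := R) (B := S') (B' := S₁) T q.primeCompl
      hSS' jC hjC ℓC (LocalizedModule.mkLinearMap q.primeCompl (N₁ ⧸ LinearMap.range u₁))

end StageConclusion

end Groth.Agent.Lib.FibInjH6
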