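import Mathlib
import Groth.Agent.Lib.FibInjA_helper6
import Groth.Agent.Lib.FibInjB_helper6
import Groth.Agent.Lib.FibInjC_helper6
import Groth.Agent.Lib.FibInjD0_helper6
import Groth.Agent.Lib.FlatDesc12_helper8
import Groth.Agent.Lib.FlatFibre_helper9
import Groth.Agent.Lib.FlatDescC_helper6
import Groth.Agent.Lib.GenFreeG_helper8

/-!
# Fibre criterion, part D (helper6): injectivity and flatness of the cokernel from fibre
injectivity, global finitely presented form with flat target.

APPEND-ONLY once landed.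
-/

set_option autoImplicit false
open TensorProduct IsLocalRing

namespace Groth.Agent.Lib.FibInjH6

universe u

/-- Descent of a finitely presented module along `B₁ → B₀`, with the explicit formula. -/
theorem exists_module_model' {B₁ B₀ : Type u} [CommRing B₁] [CommRing B₀] [Algebra B₁ B₀]
    (M₀ : Type u) [AddCommGroup M₀] [Module B₀ M₀] [Module B₁ M₀] [IsScalarTower B₁ B₀ M₀]
    {b c : ℕ} (π : (Fin b → B₀) →ₗ[B₀] M₀) (hπ : Function.Surjective π)
    (w : Fin c → Fin b → B₁)
    (hw : Submodule.span B₀ (Set.range fun k j => algebraMap B₁ B₀ (w k j)) = LinearMap.ker π) :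
    ∃ f : ((Fin b → B₁) ⧸ LinearMap.range (Fintype.linearCombination B₁ w)) →ₗ[B₁] M₀,
      IsBaseChange B₀ f ∧ ∀ t : Fin b → B₁,
        f (Submodule.Quotient.mk t) = π ((Algebra.linearMap B₁ B₀).compLeft (Fin b) t) := by
  have hcomm : ∀ t : Fin c → B₁,
      (Algebra.linearMap B₁ B₀).compLeft (Fin b) (Fintype.linearCombination B₁ w t) =
      Fintype.linearCombination B₀ (fun k j => algebraMap B₁ B₀ (w k j))
        ((Algebra.linearMap B₁ B₀).compLeft (Fin c) t) := by
    intro t
    ext j
    simp [Fintype.linearCombination_apply, Finset.sum_apply, Algebra.smul_def]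
  have hker : ∀ t : Fin c → B₁,
      π ((Algebra.linearMap B₁ B₀).compLeft (Fin b) (Fintype.linearCombination B₁ w t)) = 0 := by
    intro t
    rw [hcomm t, ← LinearMap.mem_ker, ← hw, ← Fintype.range_linearCombination]
    exact LinearMap.mem_range_self _ _
  have hle : LinearMap.range (Fintype.linearCombination B₁ w) ≤
      LinearMap.ker ((π.restrictScalars B₁).comp ((Algebra.linearMap B₁ B₀).compLeft (Fin b))) := by
    rintro _ ⟨t, rfl⟩
    exact hker t
  refine ⟨(LinearMap.range (Fintype.linearCombination B₁ w)).liftQ _ hle, ?_, fun t => rfl⟩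
  refine IsBaseChange.of_right_exact B₀ ((Algebra.linearMap B₁ B₀).compLeft (Fin c))
    ((Algebra.linearMap B₁ B₀).compLeft (Fin b)) _
    (f := Fintype.linearCombination B₁ w)
    (g := (LinearMap.range (Fintype.linearCombination B₁ w)).mkQ)
    (f' := Fintype.linearCombination B₀ (fun k j => algebraMap B₁ B₀ (w k j)))
    (g' := π) ?_ ?_ ?_ ?_ ?_ ?_ ?_ hπ
  · exact LinearMap.ext fun t => hcomm t
  · exact LinearMap.ext fun t => rfl
  · exact IsBaseChange.finitePow (Fin c) (IsBaseChange.linearMap B₁ B₀)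
  · exact IsBaseChange.finitePow (Fin b) (IsBaseChange.linearMap B₁ B₀)
  · exact LinearMap.exact_map_mkQ_range _
  · exact Submodule.mkQ_surjective _
  · rw [LinearMap.exact_iff, ← hw, Fintype.range_linearCombination]

set_option maxHeartbeats 1600000 in
/-- **Injectivity and flatness of the cokernel from fibre injectivity** (EGA IV 11.3.7), global
finitely presented form at a prime `q`, the target being flat over the local base `R`. -/
theorem injective_and_flat_of_flat_target {R S₁ M₁ N₁ : Type u} [CommRing R] [IsLocalRing R]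
    [CommRing S₁] [Algebra R S₁] [Algebra.FinitePresentation R S₁]
    [AddCommGroup M₁] [Module S₁ M₁] [Module.FinitePresentation S₁ M₁]
    [AddCommGroup N₁] [Module S₁ N₁] [Module R N₁] [IsScalarTower R S₁ N₁]
    [Module.FinitePresentation S₁ N₁] [Module.Flat R N₁]
    (u₁ : M₁ →ₗ[S₁] N₁) (q : Ideal S₁) [q.IsPrime]
    (hq : (maximalIdeal R).map (algebraMap R S₁) ≤ q)
    (H : ∀ x, u₁ x ∈ ((maximalIdeal R).map (algebraMap R S₁)) • (⊤ : Submodule S₁ N₁) →
      ∃ w, w ∉ q ∧ w • x ∈ ((maximalIdeal R).map (algebraMap R S₁)) • (⊤ : Submodule S₁ M₁)) :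
    (∀ x, u₁ x = 0 → ∃ w, w ∉ q ∧ w • x = 0) ∧
      Module.Flat R (LocalizedModule q.primeCompl (N₁ ⧸ LinearMap.range u₁)) := by
  classical
  set J := (maximalIdeal R).map (algebraMap R S₁) with hJ
  -- (D1) the flat Noetherian model of `(S₁, N₁)`
  obtain ⟨R₀, _, _, S₀, _, _, _, _, _, _, N₀, _, _, _, _, _, _, f₀, hftR₀, hftS₀, hfinN₀, hflatN₀,
    hpush, hbc⟩ := Groth.Agent.Lib.FlatDescH8.exists_finiteType_int_model R S₁ N₁
  haveI : IsNoetherianRing R₀ := Algebra.FiniteType.isNoetherianRing ℤ R₀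
  haveI := hftS₀
  haveI := hfinN₀
  haveI := hflatN₀
  haveI := hpush
  -- (D2) a presentation of `M₁`
  obtain ⟨b, K, eK, hK⟩ := Module.FinitePresentation.exists_fin S₁ M₁
  obtain ⟨a, c, hc⟩ := Submodule.fg_iff_exists_fin_generating_family.mp hK
  obtain ⟨π, hπ, hkerπ⟩ : ∃ π : (Fin b → S₁) →ₗ[S₁] M₁,
      Function.Surjective π ∧ LinearMap.ker π = K :=
    ⟨eK.symm.toLinearMap.comp K.mkQ, eK.symm.surjective.comp K.mkQ_surjective, by
      rw [LinearEquiv.ker_comp, Submodule.ker_mkQ]⟩
  let e : Fin b → (Fin b → S₁) := fun j => Pi.single j 1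
  let ν : Fin b → N₁ := fun j => u₁ (π (e j))
  -- (D3) the finite set of coefficients
  choose Fc hFc using fun (kj : Fin a × Fin b) =>
    exists_finset_mem_closure_ringGen (R₀ := R₀) (R := R) (S₀ := S₀) (c kj.1 kj.2)
  choose Fν hFν using fun j : Fin b =>
    exists_finset_mem_closure_modGen (R₀ := R₀) (R := R) hbc (ν j)
  let F : Finset R := (Finset.univ.biUnion Fc) ∪ (Finset.univ.biUnion Fν)
  have hFcF : ∀ kj, Algebra.adjoin R₀ ((Fc kj : Finset R) : Set R) ≤
      Algebra.adjoin R₀ (F : Set R) := fun kj =>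
    Algebra.adjoin_mono (Finset.coe_subset.mpr
      ((Finset.subset_biUnion_of_mem Fc (Finset.mem_univ kj)).trans Finset.subset_union_left))
  have hFνF : ∀ j, Algebra.adjoin R₀ ((Fν j : Finset R) : Set R) ≤
      Algebra.adjoin R₀ (F : Set R) := fun j =>
    Algebra.adjoin_mono (Finset.coe_subset.mpr
      ((Finset.subset_biUnion_of_mem Fν (Finset.mem_univ j)).trans Finset.subset_union_right))
  -- (D4) the local Noetherian intermediate ring and the stage
  obtain ⟨R', _, _, _, _, _, _, _, hR'inj, hR'range⟩ :=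
    exists_local_noetherian_intermediate (R₀ := R₀) (R := R) F
  obtain ⟨S', _, _, _, _, _, _, N', _, _, _, _, _, _, fN, hftS', hfinN', hflatN', hpush', hbcN',
    hfNinj, hcapS, hcapN⟩ := exists_stage (R₀ := R₀) (R := R) (S₀ := S₀) (S₁ := S₁) hbc R' hR'inj
  haveI := hftS'
  haveI := hfinN'
  haveI := hflatN'
  haveI := hpush'
  haveI : IsNoetherianRing S' := Algebra.FiniteType.isNoetherianRing R' S'
  have hcS : ∀ k j, ∃ c' : S', algebraMap S' S₁ c' = c k j := by
    intro k j
    have h1 := hFc (k, j)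
    have h2 : c k j ∈ (algebraMap S' S₁).range.toAddSubgroup := by
      refine (AddSubgroup.closure_le _).mpr ?_ h1
      rintro z ⟨r, hr, b₀, rfl⟩
      obtain ⟨r', rfl⟩ := hR'range r (hFcF (k, j) hr)
      obtain ⟨s', hs'⟩ := hcapS r' b₀
      exact ⟨s', hs'⟩
    exact h2
  have hνN : ∀ j, ∃ ν' : N', fN ν' = ν j := by
    intro j
    have h1 := hFν j
    have h2 : ν j ∈ (LinearMap.range fN).toAddSubgroup := by
      refine (AddSubgroup.closure_le _).mpr ?_ h1
      rintro z ⟨r, hr, n₀, rfl⟩
      obtain ⟨r', rfl⟩ := hR'range r (hFνF j hr)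
      obtain ⟨n', hn'⟩ := hcapN r' n₀
      exact ⟨n', hn'⟩
    exact h2
  choose c' hc' using hcS
  choose ν' hν' using hνN
  -- (D5) the model `M'` of `M₁` and the map `u'`
  have hw : Submodule.span S₁ (Set.range fun k j => algebraMap S' S₁ (c' k j)) =
      LinearMap.ker π := by
    rw [hkerπ, ← hc]
    congr 2
    funext k j
    exact hc' k j
  letI : Module S' M₁ := Module.compHom M₁ (algebraMap S' S₁)
  haveI : IsScalarTower S' S₁ M₁ := IsScalarTower.of_algebraMap_smul (fun _ _ => rfl)
  obtain ⟨jM, hjM, hjMmk⟩ := exists_module_model' (B₁ := S') (B₀ := S₁) M₁ π hπ c' hw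
  let u0 : (Fin b → S') →ₗ[S'] N' := Fintype.linearCombination S' ν'
  have hcompat : ∀ t : Fin b → S',
      fN (u0 t) = u₁ (π ((Algebra.linearMap S' S₁).compLeft (Fin b) t)) := by
    intro t
    have h1 : (Algebra.linearMap S' S₁).compLeft (Fin b) t =
        ∑ j, algebraMap S' S₁ (t j) • e j := by
      ext i
      simp [e, Finset.sum_apply, Pi.single_apply]
      exact Algebra.algebraMap_eq_smul_one (t i)
    rw [h1, map_sum, map_sum]
    show fN (Fintype.linearCombination S' ν' t) = _
    rw [Fintype.linearCombination_apply, map_sum]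
    refine Finset.sum_congr rfl (fun j _ => ?_)
    rw [map_smul, hν', map_smul, map_smul, algebraMap_smul]
  have hu0 : LinearMap.range (Fintype.linearCombination S' c') ≤ LinearMap.ker u0 := by
    rintro _ ⟨t, rfl⟩
    rw [LinearMap.mem_ker]
    apply hfNinj
    rw [map_zero, hcompat, ← hjMmk,
      (Submodule.Quotient.mk_eq_zero _).mpr (LinearMap.mem_range_self _ t), map_zero, map_zero]
  let u' : ((Fin b → S') ⧸ LinearMap.range (Fintype.linearCombination S' c')) →ₗ[S'] N' :=
    (LinearMap.range (Fintype.linearCombination S' c')).liftQ u0 hu0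
  have hcu : ∀ x, u₁ (jM x) = fN (u' x) := by
    intro x
    obtain ⟨t, rfl⟩ := Submodule.Quotient.mk_surjective _ x
    rw [hjMmk, ← hcompat]
    rfl
  -- (D6) primes
  let q' : Ideal S' := q.comap (algebraMap S' S₁)
  haveI : q'.IsPrime := Ideal.comap_isPrime _ _
  have hJ'J : ∀ s ∈ (maximalIdeal R').map (algebraMap R' S'), algebraMap S' S₁ s ∈ J := by
    intro s hs
    have h1 : ((maximalIdeal R').map (algebraMap R' S')).map (algebraMap S' S₁) ≤ J := by
      rw [Ideal.map_map, Ideal.map_le_iff_le_comap]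
      intro r hr
      rw [Ideal.mem_comap]
      have h2 : ((algebraMap S' S₁).comp (algebraMap R' S')) r =
          algebraMap R S₁ (algebraMap R' R r) := by
        rw [RingHom.comp_apply, ← IsScalarTower.algebraMap_apply R' S' S₁,
          IsScalarTower.algebraMap_apply R' R S₁]
      rw [h2]
      exact Ideal.mem_map_of_mem _ ((IsLocalRing.mem_maximalIdeal _).mpr
        (map_nonunit (algebraMap R' R) r ((IsLocalRing.mem_maximalIdeal _).mp hr)))
    exact h1 (Ideal.mem_map_of_mem _ hs)
  -- (D8) the fibre condition at the stage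
  have H' : ∀ x', u' x' ∈ ((maximalIdeal R').map (algebraMap R' S')) • (⊤ : Submodule S' N') →
      ∃ w' ∈ q'.primeCompl, w' • x' ∈ ((maximalIdeal R').map (algebraMap R' S')) •
        (⊤ : Submodule S' ((Fin b → S') ⧸ LinearMap.range (Fintype.linearCombination S' c'))) := by
    intro x' hx'
    have h1 : u₁ (jM x') ∈ J • (⊤ : Submodule S₁ N₁) := by
      rw [hcu]
      refine Submodule.smul_induction_on hx' ?_ ?_
      · intro j hj n _
        rw [map_smul, ← algebraMap_smul S₁ j (fN n)]
        exact Submodule.smul_mem_smul (hJ'J j hj) Submodule.mem_top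
      · intro x y hx hy
        rw [map_add]
        exact add_mem hx hy
    obtain ⟨w, hwq, hw⟩ := H _ h1
    obtain ⟨w', hw'q, hw'⟩ := fibre_descent (R' := R') (R := R) q hq jM hjM x' w hwq hw
    exact ⟨w', hw'q, hw'⟩
  exact stage_conclusion (R' := R') (R := R) u' u₁ jM fN hjM hbcN' hcu q
    (fun r hr => hq (hJ'J _ (Ideal.mem_map_of_mem _ hr))) H'

end Groth.Agent.Lib.FibInjH6
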