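import Mathlib
import Groth.Agent.Lib.FlatDescA_helper6
import Groth.Agent.Lib.GenFreeG_helper8

/-!
# Flat loci: general lemmas

* `flat_localizedModule_iff`: torsion criterion for flatness of a localized module.
* `flat_iff_of_isLocalizedModule`, `flat_localizedModule_of_linearEquiv`: transport.
* `flat_localized_comap_iff`, `isOpen_of_surjective`: reduction along a surjection `P → S`.
* `flat_baseChange_localized`: flatness at a point is preserved by base change.
* `isOpen_flatLocus_base`: openness of the flat locus upstairs implies openness of the locus of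
  primes of an intermediate ring at which the localized module is flat.
-/

set_option autoImplicit false
open TensorProduct

namespace Groth.Agent.Lib.FlatLocFP1H6

universe u

section K

variable {A C : Type u} [CommRing A] [CommRing C] [Algebra A C] (T : Submonoid C)
  (M : Type u) [AddCommGroup M] [Module C M] [Module A M] [IsScalarTower A C M]

/-- **Torsion criterion**: `T⁻¹M` is `A`-flat iff for every ideal `I` of `A`, every element of the
kernel of `M ⊗ I → M ⊗ A` is killed by an element of `T`. -/
theorem flat_localizedModule_iff :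
    Module.Flat A (LocalizedModule T M) ↔
      ∀ (I : Ideal A) (ξ : M ⊗[A] I), (I.subtype.lTensor M) ξ = 0 → ∃ t ∈ T, t • ξ = 0 := by
  rw [Module.Flat.iff_lTensor_injective']
  refine forall_congr' fun I => ?_
  have hmap : IsLocalizedModule.map T
      (AlgebraTensorModule.rTensor A I (LocalizedModule.mkLinearMap T M))
      (AlgebraTensorModule.rTensor A A (LocalizedModule.mkLinearMap T M))
      (AlgebraTensorModule.lTensor C M I.subtype) =
      AlgebraTensorModule.lTensor C (LocalizedModule T M) I.subtype := by
    rw [IsLocalizedModule.map_lTensor]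
  constructor
  · intro hinj ξ hξ
    refine Groth.Agent.Lib.FlatDescAH6.exists_smul_of_map_injective (B := C) T
      (X := M ⊗[A] I) (Y := M ⊗[A] A)
      (X' := (LocalizedModule T M) ⊗[A] I) (Y' := (LocalizedModule T M) ⊗[A] A)
      (AlgebraTensorModule.rTensor A I (LocalizedModule.mkLinearMap T M))
      (AlgebraTensorModule.rTensor A A (LocalizedModule.mkLinearMap T M))
      (AlgebraTensorModule.lTensor C M I.subtype) ?_ ξ hξ
    rw [hmap]
    intro x y hxy
    exact hinj hxy
  · intro h
    have h' := Groth.Agent.Lib.FlatDescAH6.map_injective_of_forall_smul_ker (B := C) T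
      (X := M ⊗[A] I) (Y := M ⊗[A] A)
      (X' := (LocalizedModule T M) ⊗[A] I) (Y' := (LocalizedModule T M) ⊗[A] A)
      (AlgebraTensorModule.rTensor A I (LocalizedModule.mkLinearMap T M))
      (AlgebraTensorModule.rTensor A A (LocalizedModule.mkLinearMap T M))
      (AlgebraTensorModule.lTensor C M I.subtype) h
    rw [hmap] at h'
    intro x y hxy
    exact h' hxy

variable {M}

/-- Flatness of any model of the localization. -/
theorem flat_iff_of_isLocalizedModule {N' : Type u} [AddCommGroup N'] [Module C N'] [Module A N']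
    [IsScalarTower A C N'] (g : M →ₗ[C] N') [IsLocalizedModule T g] :
    Module.Flat A N' ↔ Module.Flat A (LocalizedModule T M) :=
  Module.Flat.equiv_iff ((IsLocalizedModule.iso T g).restrictScalars A).symm

/-- Transport of flatness of the localization along a linear equivalence. -/
theorem flat_localizedModule_of_linearEquiv {N' : Type u} [AddCommGroup N'] [Module C N']
    [Module A N'] [IsScalarTower A C N'] (e : M ≃ₗ[C] N')
    (h : Module.Flat A (LocalizedModule T M)) : Module.Flat A (LocalizedModule T N') := by
  have := flat_iff_of_isLocalizedModule (A := A) T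
    ((LocalizedModule.mkLinearMap T N') ∘ₗ e.toLinearMap)
  exact this.mpr h

end K

section Surj

variable {R P S : Type u} [CommRing R] [CommRing P] [CommRing S] [Algebra R P] [Algebra R S]
  [Algebra P S] [IsScalarTower R P S]
  (M : Type u) [AddCommGroup M] [Module S M] [Module P M] [Module R M] [IsScalarTower P S M]
  [IsScalarTower R S M] [IsScalarTower R P M]

theorem flat_localized_comap_iff (hs : Function.Surjective (algebraMap P S)) (Q : Ideal S)
    [Q.IsPrime] :
    Module.Flat R (LocalizedModule (Q.comap (algebraMap P S)).primeCompl M) ↔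
      Module.Flat R (LocalizedModule Q.primeCompl M) := by
  rw [flat_localizedModule_iff, flat_localizedModule_iff]
  refine forall_congr' fun I => forall_congr' fun ξ => imp_congr_right fun _ => ?_
  constructor
  · rintro ⟨p, hp, h0⟩
    refine ⟨algebraMap P S p, hp, ?_⟩
    rw [algebraMap_smul]
    exact h0
  · rintro ⟨t, ht, h0⟩
    obtain ⟨p, rfl⟩ := hs t
    refine ⟨p, ht, ?_⟩
    rw [← algebraMap_smul S p ξ]
    exact h0

theorem isOpen_of_surjective (hs : Function.Surjective (algebraMap P S))
    (h : IsOpen {q : PrimeSpectrum P |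
      Module.Flat R (LocalizedModule q.asIdeal.primeCompl M)}) :
    IsOpen {q : PrimeSpectrum S | Module.Flat R (LocalizedModule q.asIdeal.primeCompl M)} := by
  have h' := h.preimage (PrimeSpectrum.continuous_comap (algebraMap P S))
  convert h' using 1
  ext Q
  exact (flat_localized_comap_iff M hs Q.asIdeal).symm

end Surj

section BC

variable {A₁ R P₁ P : Type u} [CommRing A₁] [CommRing R] [CommRing P₁] [CommRing P]
  [Algebra A₁ R] [Algebra A₁ P₁] [Algebra R P] [Algebra P₁ P] [Algebra A₁ P]
  [IsScalarTower A₁ R P] [IsScalarTower A₁ P₁ P] [Algebra.IsPushout A₁ R P₁ P]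
  (M₁ : Type u) [AddCommGroup M₁] [Module P₁ M₁] [Module A₁ M₁] [IsScalarTower A₁ P₁ M₁]

/-- Flatness at a point is preserved by base change. -/
theorem flat_baseChange_localized (q : Ideal P) [q.IsPrime]
    (h : Module.Flat A₁ (LocalizedModule (q.comap (algebraMap P₁ P)).primeCompl M₁)) :
    Module.Flat R (LocalizedModule q.primeCompl (P ⊗[P₁] M₁)) := by
  haveI : Module.Flat R (R ⊗[A₁] LocalizedModule (q.comap (algebraMap P₁ P)).primeCompl M₁) :=
    inferInstance
  haveI : Module.Flat R (P ⊗[P₁] LocalizedModule (q.comap (algebraMap P₁ P)).primeCompl M₁) :=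
    Module.Flat.of_linearEquiv (Algebra.IsPushout.cancelBaseChange A₁ R P₁ P
      (LocalizedModule (q.comap (algebraMap P₁ P)).primeCompl M₁))
  haveI hloc := Groth.Agent.Lib.FlatDescAH6.isLocalizedModule_lTensor_algebra
    (q.comap (algebraMap P₁ P)).primeCompl
    (LocalizedModule.mkLinearMap (q.comap (algebraMap P₁ P)).primeCompl M₁) P
  have hle : Algebra.algebraMapSubmonoid P (q.comap (algebraMap P₁ P)).primeCompl ≤
      q.primeCompl := by
    rintro _ ⟨x, hx, rfl⟩
    exact hx
  exact GenFreeH8.flat_of_isLocalizedModule_algebra (R := R) (B := P) q.primeCompl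
    (N := P ⊗[P₁] LocalizedModule (q.comap (algebraMap P₁ P)).primeCompl M₁)
    (N' := LocalizedModule q.primeCompl (P ⊗[P₁] M₁))
    (IsLocalizedModule.liftOfLE _ _ hle
      (AlgebraTensorModule.lTensor P P
        (LocalizedModule.mkLinearMap (q.comap (algebraMap P₁ P)).primeCompl M₁))
      (LocalizedModule.mkLinearMap q.primeCompl (P ⊗[P₁] M₁)))

end BC

section Tower

variable {A B C : Type u} [CommRing A] [CommRing B] [CommRing C] [Algebra A B] [Algebra B C]
  [Algebra A C] [IsScalarTower A B C]
  (M : Type u) [AddCommGroup M] [Module C M] [Module B M] [Module A M]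
  [IsScalarTower B C M] [IsScalarTower A C M] [IsScalarTower A B M]

/-- If the `A`-flat locus of `M` in `Spec C` is open, then the set of primes `q` of `B` with
`M_q` flat over `A` is open in `Spec B`. -/
theorem isOpen_flatLocus_base
    (h : IsOpen {Q : PrimeSpectrum C |
      Module.Flat A (LocalizedModule Q.asIdeal.primeCompl M)}) :
    IsOpen {q : PrimeSpectrum B | Module.Flat A (LocalizedModule q.asIdeal.primeCompl M)} := by
  set Z : Set (PrimeSpectrum C) :=
    {Q : PrimeSpectrum C | Module.Flat A (LocalizedModule Q.asIdeal.primeCompl M)}ᶜ with hZ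
  have hZc : IsClosed Z := h.isClosed_compl
  have hZeq : PrimeSpectrum.zeroLocus ((PrimeSpectrum.vanishingIdeal Z : Ideal C) : Set C) = Z := by
    rw [PrimeSpectrum.zeroLocus_vanishingIdeal_eq_closure, hZc.closure_eq]
  suffices hs : {q : PrimeSpectrum B |
      Module.Flat A (LocalizedModule q.asIdeal.primeCompl M)} =
      (PrimeSpectrum.zeroLocus
        (((PrimeSpectrum.vanishingIdeal Z).comap (algebraMap B C) : Ideal B) : Set B))ᶜ by
    rw [hs]
    exact (PrimeSpectrum.isClosed_zeroLocus _).isOpen_compl
  ext q
  simp only [Set.mem_setOf_eq, Set.mem_compl_iff, PrimeSpectrum.mem_zeroLocus]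
  rw [← not_iff_not, not_not]
  constructor
  · intro hnf
    rw [flat_localizedModule_iff] at hnf
    push_neg at hnf
    obtain ⟨I, ξ, hξ, hno⟩ := hnf
    have hdisj : Disjoint ((LinearMap.ker (LinearMap.toSpanSingleton C (M ⊗[A] I) ξ) : Ideal C) :
        Set C) (Algebra.algebraMapSubmonoid C q.asIdeal.primeCompl) := by
      rw [Set.disjoint_left]
      rintro c hc ⟨b, hb, rfl⟩
      refine hno b hb ?_
      rw [← algebraMap_smul C b ξ]
      exact hc
    obtain ⟨Q, hQ, h𝔞Q, hQd⟩ := Ideal.exists_le_prime_disjoint _ _ hdisj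
    have hQZ : (⟨Q, hQ⟩ : PrimeSpectrum C) ∈ Z := by
      intro hfl
      have hfl' : Module.Flat A (LocalizedModule Q.primeCompl M) := hfl
      rw [flat_localizedModule_iff] at hfl'
      obtain ⟨c, hc, h0⟩ := hfl' I ξ hξ
      exact hc (h𝔞Q h0)
    rw [← hZeq, PrimeSpectrum.mem_zeroLocus] at hQZ
    intro b hb
    by_contra hbq
    exact Set.disjoint_left.mp hQd (hQZ hb) ⟨b, hbq, rfl⟩
  · intro hle
    obtain ⟨p', hp', hp'q⟩ := Ideal.exists_minimalPrimes_le
      (I := (PrimeSpectrum.vanishingIdeal Z).comap (algebraMap B C)) (J := q.asIdeal) hle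
    obtain ⟨Q, hQ, h𝔠Q, hQp'⟩ := Ideal.exists_comap_eq_of_mem_minimalPrimes (algebraMap B C) p' hp'
    have hQZ : (⟨Q, hQ⟩ : PrimeSpectrum C) ∈ Z := by
      rw [← hZeq, PrimeSpectrum.mem_zeroLocus]
      exact h𝔠Q
    have hnf : ¬ Module.Flat A (LocalizedModule Q.primeCompl M) := hQZ
    rw [flat_localizedModule_iff] at hnf ⊢
    push_neg at hnf ⊢
    obtain ⟨I, ξ, hξ, hno⟩ := hnf
    refine ⟨I, ξ, hξ, fun b hb h0 => hno (algebraMap B C b) ?_ ?_⟩
    · intro hbQ
      apply hb
      apply hp'q
      rw [← hQp']
      exact hbQ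
    · rw [algebraMap_smul]
      exact h0

end Tower

end Groth.Agent.Lib.FlatLocFP1H6
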