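import Mathlib
import Groth.Agent.Lib.FlatDescC_helper6

/-!
# Pointwise descent of flatness, part D: fibre flatness after base change, lifting of elements
of `MvPolynomial σ R ⊗ N₀` to finitely generated subalgebras.
-/

set_option autoImplicit false
open TensorProduct

namespace Groth.Agent.Lib.FlatDescDH6

open Groth.Agent.Lib.FlatDescCH6

universe u

section ChasePrime

variable {P : Type*} [CommRing P] {K₁ F₁ M₁ K₂ F₂ M₂ : Type*}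
  [AddCommGroup K₁] [Module P K₁] [AddCommGroup F₁] [Module P F₁] [AddCommGroup M₁] [Module P M₁]
  [AddCommGroup K₂] [Module P K₂] [AddCommGroup F₂] [Module P F₂] [AddCommGroup M₂] [Module P M₂]
  (α₁ : K₁ →ₗ[P] F₁) (β₁ : F₁ →ₗ[P] M₁) (α₂ : K₂ →ₗ[P] F₂) (β₂ : F₂ →ₗ[P] M₂)
  (vK : K₁ →ₗ[P] K₂) (vF : F₁ →ₗ[P] F₂) (vM : M₁ →ₗ[P] M₂)

include α₁ β₁ α₂ β₂ vK vF vM in
/-- Forward chase with the multiplier allowed to depend on the element. -/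
theorem chase_fwd' (h1 : Function.Exact α₁ β₁) (hs1 : Function.Surjective β₁)
    (h2 : Function.Exact α₂ β₂) (hF : Function.Injective vF)
    (cK : ∀ x, vF (α₁ x) = α₂ (vK x)) (cM : ∀ x, vM (β₁ x) = β₂ (vF x))
    (ξ : M₁) (hξ : vM ξ = 0) (T : Set P)
    (hg : ∀ φ, φ ∈ LinearMap.range α₂ → φ ∈ LinearMap.range vF →
      ∃ g ∈ T, ∃ θ, g • φ = α₂ (vK θ)) :
    ∃ g ∈ T, g • ξ = 0 := by
  obtain ⟨ξ', rfl⟩ := hs1 ξ
  have hφ : vF ξ' ∈ LinearMap.range α₂ := (h2 _).mp (by rw [← cM]; exact hξ)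
  obtain ⟨g, hgT, θ, hθ⟩ := hg (vF ξ') hφ ⟨ξ', rfl⟩
  refine ⟨g, hgT, ?_⟩
  have : g • ξ' = α₁ θ := by
    apply hF
    rw [map_smul, hθ, cK]
  rw [← map_smul, this]
  exact h1.apply_apply_eq_zero θ

end ChasePrime

section FwdPrime

variable {A₀ P₀ : Type u} (A' P' : Type u) [CommRing A₀] [CommRing P₀] [CommRing A'] [CommRing P']
  [Algebra A₀ P₀] [Algebra A₀ A'] [Algebra A₀ P'] [Algebra A' P'] [Algebra P₀ P']
  [IsScalarTower A₀ A' P'] [IsScalarTower A₀ P₀ P']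
  (p₀ : Ideal A₀)
  {F₀ M₀ : Type u} [AddCommGroup F₀] [Module P₀ F₀] [Module A₀ F₀] [IsScalarTower A₀ P₀ F₀]
  [AddCommGroup M₀] [Module P₀ M₀] [Module A₀ M₀] [IsScalarTower A₀ P₀ M₀]
  (g₀ : F₀ →ₗ[P₀] M₀)

theorem fwd_P' [Module.Flat A' (P' ⊗[P₀] F₀)] (hg₀ : Function.Surjective g₀)
    (ξ : (P' ⊗[P₀] M₀) ⊗[A'] (p₀.map (algebraMap A₀ A')))
    (hξ : mulJ P' (p₀.map (algebraMap A₀ A')) (P' ⊗[P₀] M₀) ξ = 0) (T : Set P')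
    (hg : ∀ φ ∈ LinearMap.range (kap P' g₀), φ ∈ (p₀ • ⊤ : Submodule A₀ (P' ⊗[P₀] F₀)) →
      ∃ g ∈ T, ∃ θ : P' ⊗[P₀] (LinearMap.ker g₀),
        θ ∈ (p₀ • ⊤ : Submodule A₀ (P' ⊗[P₀] (LinearMap.ker g₀))) ∧ g • φ = kap P' g₀ θ) :
    ∃ g ∈ T, g • ξ = 0 := by
  refine chase_fwd' (P := P')
    (K₁ := (P' ⊗[P₀] (LinearMap.ker g₀)) ⊗[A'] (p₀.map (algebraMap A₀ A')))
    (F₁ := (P' ⊗[P₀] F₀) ⊗[A'] (p₀.map (algebraMap A₀ A')))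
    (M₁ := (P' ⊗[P₀] M₀) ⊗[A'] (p₀.map (algebraMap A₀ A')))
    (K₂ := P' ⊗[P₀] (LinearMap.ker g₀)) (F₂ := P' ⊗[P₀] F₀) (M₂ := P' ⊗[P₀] M₀)
    (AlgebraTensorModule.rTensor A' (p₀.map (algebraMap A₀ A')) (kap P' g₀))
    (AlgebraTensorModule.rTensor A' (p₀.map (algebraMap A₀ A')) (gam P' g₀))
    (kap P' g₀) (gam P' g₀) (mulJ P' (p₀.map (algebraMap A₀ A')) (P' ⊗[P₀] (LinearMap.ker g₀)))
    (mulJ P' (p₀.map (algebraMap A₀ A')) (P' ⊗[P₀] F₀))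
    (mulJ P' (p₀.map (algebraMap A₀ A')) (P' ⊗[P₀] M₀))
    (exact_rT A' P' g₀ _ hg₀) (surj_rT A' P' g₀ _ hg₀) (exact_kap_gam g₀ hg₀)
    (mulJ_injective P' _ _) (fun x => mulJ_naturality P' _ (kap P' g₀) x)
    (fun x => mulJ_naturality P' _ (gam P' g₀) x) ξ hξ T ?_
  intro φ hφ1 hφ2
  rw [mem_range_mulJ_iff, ← mem_smul_top_iff_map] at hφ2
  obtain ⟨g, hgT, θ, hθ, hθ'⟩ := hg φ hφ1 hφ2
  rw [mem_smul_top_iff_map (B := A'), ← mem_range_mulJ_iff P'] at hθ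
  obtain ⟨θ', rfl⟩ := hθ
  exact ⟨g, hgT, θ', hθ'⟩

end FwdPrime

section Beta

variable {A₀ : Type u} [CommRing A₀] (p₀ : Ideal A₀) (a₀ : A₀)
  (A₁ : Type u) [CommRing A₁] [Algebra A₀ A₁]
  {M₀ : Type u} [AddCommGroup M₀] [Module A₀ M₀]
  {M₁ : Type u} [AddCommGroup M₁] [Module A₁ M₁]

local notation "Ā₀" => A₀ ⧸ p₀
local notation "Ā₁" => A₁ ⧸ p₀.map (algebraMap A₀ A₁)
local notation "ā₀" => Ideal.Quotient.mk p₀ a₀
local notation "V₀" => (A₀ ⧸ p₀) ⊗[A₀] M₀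
local notation "N₀" => LocalizedModule (Submonoid.powers (Ideal.Quotient.mk p₀ a₀)) ((A₀ ⧸ p₀) ⊗[A₀] M₀)

theorem beta (e : M₁ ≃ₗ[A₁] A₁ ⊗[A₀] M₀)
    [hfl : Module.Flat (A₀ ⧸ p₀) (LocalizedModule (Submonoid.powers (Ideal.Quotient.mk p₀ a₀))
      ((A₀ ⧸ p₀) ⊗[A₀] M₀))]
    {Y : Type u} [AddCommGroup Y] [Module A₁ Y] (m : M₁ →ₗ[A₁] Y)
    [IsLocalizedModule (Submonoid.powers (algebraMap A₀ A₁ a₀)) m] :
    Module.Flat (A₁ ⧸ p₀.map (algebraMap A₀ A₁))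
      ((A₁ ⧸ p₀.map (algebraMap A₀ A₁)) ⊗[A₁] Y) := by
  let m₀ : V₀ →ₗ[Ā₀] N₀ := LocalizedModule.mkLinearMap (Submonoid.powers ā₀) V₀
  haveI : Module.Flat Ā₁ (Ā₁ ⊗[Ā₀] N₀) := inferInstance
  have h₂ := Groth.Agent.Lib.FlatDescAH6.isLocalizedModule_lTensor_algebra (R := Ā₀) (M := V₀) (M' := N₀)
      (Submonoid.powers ā₀) m₀ Ā₁
  have h₁ := Groth.Agent.Lib.FlatDescAH6.isLocalizedModule_lTensor_algebra (R := A₁) (M := M₁) (M' := Y)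
      (Submonoid.powers (algebraMap A₀ A₁ a₀)) m Ā₁
  have hS : Algebra.algebraMapSubmonoid Ā₁ (Submonoid.powers (algebraMap A₀ A₁ a₀)) =
      Algebra.algebraMapSubmonoid Ā₁ (Submonoid.powers ā₀) := by
    rw [Algebra.algebraMapSubmonoid_powers, Algebra.algebraMapSubmonoid_powers]
    congr 1
  rw [hS] at h₁
  let e₁ : Ā₁ ⊗[Ā₀] V₀ ≃ₗ[Ā₁] Ā₁ ⊗[A₀] M₀ :=
    AlgebraTensorModule.cancelBaseChange A₀ Ā₀ Ā₁ Ā₁ M₀
  let e₂ : Ā₁ ⊗[A₁] (A₁ ⊗[A₀] M₀) ≃ₗ[Ā₁] Ā₁ ⊗[A₀] M₀ :=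
    AlgebraTensorModule.cancelBaseChange A₀ A₁ Ā₁ Ā₁ M₀
  let e₃ : Ā₁ ⊗[A₁] M₁ ≃ₗ[Ā₁] Ā₁ ⊗[A₁] (A₁ ⊗[A₀] M₀) :=
    AlgebraTensorModule.congr (LinearEquiv.refl Ā₁ Ā₁) e
  let E : Ā₁ ⊗[Ā₀] V₀ ≃ₗ[Ā₁] Ā₁ ⊗[A₁] M₁ := e₁ ≪≫ₗ e₂.symm ≪≫ₗ e₃.symm
  have h₁' := IsLocalizedModule.of_linearEquiv_right
    (Algebra.algebraMapSubmonoid Ā₁ (Submonoid.powers ā₀)) (AlgebraTensorModule.lTensor Ā₁ Ā₁ m) E
  exact Module.Flat.of_linearEquiv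
    (IsLocalizedModule.linearEquiv (Algebra.algebraMapSubmonoid Ā₁ (Submonoid.powers ā₀))
      ((AlgebraTensorModule.lTensor Ā₁ Ā₁ m) ∘ₗ E.toLinearMap) (AlgebraTensorModule.lTensor Ā₁ Ā₁ m₀))

end Beta

section Lift

attribute [local instance] MvPolynomial.algebraMvPolynomial

variable {A₀ : Type u} [CommRing A₀] {R : Type u} [CommRing R] [Algebra A₀ R] (σ : Type)

theorem towerP (A₁ : Subalgebra A₀ R) :
    IsScalarTower (MvPolynomial σ A₀) (MvPolynomial σ A₁) (MvPolynomial σ R) :=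
  IsScalarTower.of_algebraMap_eq' (RingHom.ext fun p => by
    simp [MvPolynomial.map_map, ← IsScalarTower.algebraMap_eq A₀ A₁ R])

attribute [local instance] towerP

theorem algebraMap_A₁_injective (A₁ : Subalgebra A₀ R) :
    Function.Injective (algebraMap (MvPolynomial σ A₁) (MvPolynomial σ R)) :=
  MvPolynomial.map_injective _ (fun _ _ h => Subtype.ext h)

theorem exists_lift_poly (A₁ : Subalgebra A₀ R) (c : MvPolynomial σ R)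
    (hc : (c.coeffs : Set R) ⊆ A₁) :
    ∃ c₁ : MvPolynomial σ A₁, algebraMap (MvPolynomial σ A₁) (MvPolynomial σ R) c₁ = c := by
  have : c ∈ Set.range (MvPolynomial.map (algebraMap A₁ R)) := by
    rw [MvPolynomial.mem_range_map_iff_coeffs_subset]
    intro x hx
    exact ⟨⟨x, hc hx⟩, rfl⟩
  obtain ⟨c₁, hc₁⟩ := this
  exact ⟨c₁, hc₁⟩

variable (A₁ : Subalgebra A₀ R) (N₀ : Type u) [AddCommGroup N₀] [Module (MvPolynomial σ A₀) N₀]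

/-- The base change map `P₁ ⊗ N₀ → P_R ⊗ N₀`. -/
noncomputable def Phi : MvPolynomial σ A₁ ⊗[MvPolynomial σ A₀] N₀ →ₗ[MvPolynomial σ A₀]
    MvPolynomial σ R ⊗[MvPolynomial σ A₀] N₀ :=
  LinearMap.rTensor N₀ ((IsScalarTower.toAlgHom (MvPolynomial σ A₀) (MvPolynomial σ A₁)
    (MvPolynomial σ R)).toLinearMap)

@[simp] theorem Phi_tmul (c : MvPolynomial σ A₁) (n : N₀) :
    Phi σ A₁ N₀ (c ⊗ₜ n) = algebraMap (MvPolynomial σ A₁) (MvPolynomial σ R) c ⊗ₜ n := rfl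

theorem Phi_smul (c : MvPolynomial σ A₁) (x : MvPolynomial σ A₁ ⊗[MvPolynomial σ A₀] N₀) :
    Phi σ A₁ N₀ (c • x) = algebraMap (MvPolynomial σ A₁) (MvPolynomial σ R) c • Phi σ A₁ N₀ x := by
  induction x using TensorProduct.induction_on with
  | zero => simp
  | tmul d n => simp [TensorProduct.smul_tmul']
  | add x y hx hy => simp only [smul_add, map_add, hx, hy]

theorem Phi_injective [Module.Flat (MvPolynomial σ A₀) N₀] :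
    Function.Injective (Phi σ A₁ N₀) :=
  Module.Flat.rTensor_preserves_injective_linearMap (M := N₀) _ (algebraMap_A₁_injective σ A₁)

theorem Phi_mem (p₀ : Ideal A₀) {x : MvPolynomial σ A₁ ⊗[MvPolynomial σ A₀] N₀}
    (hx : x ∈ (p₀ • ⊤ : Submodule A₀ (MvPolynomial σ A₁ ⊗[MvPolynomial σ A₀] N₀))) :
    Phi σ A₁ N₀ x ∈ (p₀ • ⊤ : Submodule A₀ (MvPolynomial σ R ⊗[MvPolynomial σ A₀] N₀)) :=
  by
  refine Submodule.smul_induction_on hx ?_ ?_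
  · intro π hπ y _
    rw [LinearMap.map_smul_of_tower]
    exact Submodule.smul_mem_smul hπ Submodule.mem_top
  · intro y z hy hz
    rw [map_add]
    exact add_mem hy hz

variable {σ N₀} in
/-- Every element of `P_R ⊗ N₀` comes from `P₁ ⊗ N₀` for all sufficiently large `A₁`. -/
theorem exists_finset_lift (x : MvPolynomial σ R ⊗[MvPolynomial σ A₀] N₀) :
    ∃ C : Finset R, ∀ A₁ : Subalgebra A₀ R, (C : Set R) ⊆ A₁ →
      x ∈ LinearMap.range (Phi σ A₁ N₀) := by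
  classical
  induction x using TensorProduct.induction_on with
  | zero => exact ⟨∅, fun A₁ _ => zero_mem _⟩
  | tmul c n =>
    refine ⟨c.coeffs, fun A₁ hA₁ => ?_⟩
    obtain ⟨c₁, rfl⟩ := exists_lift_poly σ A₁ c hA₁
    exact ⟨c₁ ⊗ₜ n, rfl⟩
  | add x y hx hy =>
    obtain ⟨C₁, h₁⟩ := hx
    obtain ⟨C₂, h₂⟩ := hy
    refine ⟨C₁ ∪ C₂, fun A₁ hA₁ => ?_⟩
    rw [Finset.coe_union] at hA₁
    exact add_mem (h₁ A₁ (Set.subset_union_left.trans hA₁))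
      (h₂ A₁ (Set.subset_union_right.trans hA₁))

variable {σ N₀} in
/-- Elements of `p₀ (P_R ⊗ N₀)` come from `p₀ (P₁ ⊗ N₀)` for all sufficiently large `A₁`. -/
theorem exists_finset_lift_smul (p₀ : Ideal A₀) (x : MvPolynomial σ R ⊗[MvPolynomial σ A₀] N₀)
    (hx : x ∈ (p₀ • ⊤ : Submodule A₀ (MvPolynomial σ R ⊗[MvPolynomial σ A₀] N₀))) :
    ∃ C : Finset R, ∀ A₁ : Subalgebra A₀ R, (C : Set R) ⊆ A₁ →
      ∃ y ∈ (p₀ • ⊤ : Submodule A₀ (MvPolynomial σ A₁ ⊗[MvPolynomial σ A₀] N₀)),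
        Phi σ A₁ N₀ y = x := by
  classical
  refine Submodule.smul_induction_on hx ?_ ?_
  · intro π hπ y _
    obtain ⟨C, hC⟩ := exists_finset_lift (A₀ := A₀) y
    refine ⟨C, fun A₁ hA₁ => ?_⟩
    obtain ⟨y₁, rfl⟩ := hC A₁ hA₁
    exact ⟨π • y₁, Submodule.smul_mem_smul hπ Submodule.mem_top,
      LinearMap.map_smul_of_tower _ _ _⟩
  · intro y z hy hz
    obtain ⟨C₁, h₁⟩ := hy
    obtain ⟨C₂, h₂⟩ := hz
    refine ⟨C₁ ∪ C₂, fun A₁ hA₁ => ?_⟩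
    rw [Finset.coe_union] at hA₁
    obtain ⟨y₁, hy₁, rfl⟩ := h₁ A₁ (Set.subset_union_left.trans hA₁)
    obtain ⟨z₁, hz₁, rfl⟩ := h₂ A₁ (Set.subset_union_right.trans hA₁)
    exact ⟨y₁ + z₁, add_mem hy₁ hz₁, map_add _ _ _⟩

end Lift

end Groth.Agent.Lib.FlatDescDH6
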