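import Mathlib
import Groth.Agent.Lib.FlatDescD_helper6

/-!
# Pointwise descent of flatness, part E: witnesses and their descent
-/

set_option autoImplicit false
open TensorProduct

namespace Groth.Agent.Lib.FlatDescEH6

open Groth.Agent.Lib.FlatDescCH6 Groth.Agent.Lib.FlatDescDH6

universe u

section Wit

variable {A₀ P₀ : Type u} (A' P' : Type u) [CommRing A₀] [CommRing P₀] [CommRing A'] [CommRing P']
  [Algebra A₀ P₀] [Algebra A₀ A'] [Algebra A₀ P'] [Algebra A' P'] [Algebra P₀ P']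
  [IsScalarTower A₀ A' P'] [IsScalarTower A₀ P₀ P']
  (p₀ : Ideal A₀) (a₀ : A₀)
  {F₀ M₀ : Type u} [AddCommGroup F₀] [Module P₀ F₀] [Module A₀ F₀] [IsScalarTower A₀ P₀ F₀]
  [AddCommGroup M₀] [Module P₀ M₀] [Module A₀ M₀] [IsScalarTower A₀ P₀ M₀]
  (g₀ : F₀ →ₗ[P₀] M₀)

/-- `s φ ∈ κ' (p₀ K')`. -/
def Wit (s : P') (φ : P' ⊗[P₀] F₀) : Prop :=
  ∃ θ : P' ⊗[P₀] (LinearMap.ker g₀),
    θ ∈ (p₀ • ⊤ : Submodule A₀ (P' ⊗[P₀] (LinearMap.ker g₀))) ∧ s • φ = kap P' g₀ θ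

variable {P' p₀ g₀}

theorem Wit.mul_left {s : P'} {φ : P' ⊗[P₀] F₀} (h : Wit P' p₀ g₀ s φ) (c : P') :
    Wit P' p₀ g₀ (c * s) φ := by
  obtain ⟨θ, hθ, hθ'⟩ := h
  exact ⟨c • θ, smul_mem_smul_top p₀ c hθ, by rw [mul_smul, hθ', map_smul]⟩

theorem Wit.smul {s : P'} {φ : P' ⊗[P₀] F₀} (h : Wit P' p₀ g₀ s φ) (c : P') :
    Wit P' p₀ g₀ s (c • φ) := by
  obtain ⟨θ, hθ, hθ'⟩ := h
  exact ⟨c • θ, smul_mem_smul_top p₀ c hθ, by rw [smul_comm, hθ', map_smul]⟩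

theorem Wit.add {s : P'} {φ ψ : P' ⊗[P₀] F₀} (h : Wit P' p₀ g₀ s φ) (h' : Wit P' p₀ g₀ s ψ) :
    Wit P' p₀ g₀ s (φ + ψ) := by
  obtain ⟨θ, hθ, hθ'⟩ := h
  obtain ⟨θ₂, hθ₂, hθ₂'⟩ := h'
  exact ⟨θ + θ₂, add_mem hθ hθ₂, by rw [smul_add, hθ', hθ₂', map_add]⟩

theorem Wit.zero (s : P') : Wit P' p₀ g₀ s 0 :=
  ⟨0, zero_mem _, by simp⟩

/-- Extension from a generating set of `K₀ ∩ p₀F₀` to all of it. -/
theorem Wit.of_span {s : P'} (G : Set (LinearMap.ker g₀))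
    (hG : TP p₀ g₀ ≤ Submodule.span P₀ G)
    (h : ∀ k ∈ G, Wit P' p₀ g₀ s ((1 : P') ⊗ₜ[P₀] (k : F₀))) (t : TP p₀ g₀) :
    Wit P' p₀ g₀ s ((1 : P') ⊗ₜ[P₀] ((t : LinearMap.ker g₀) : F₀)) := by
  have ht : (t : LinearMap.ker g₀) ∈ Submodule.span P₀ G := hG t.2
  generalize (t : LinearMap.ker g₀) = k at ht
  induction ht using Submodule.span_induction with
  | mem k hk => exact h k hk
  | zero => simpa using Wit.zero (p₀ := p₀) (g₀ := g₀) s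
  | add x y _ _ hx hy =>
    have : (1 : P') ⊗ₜ[P₀] ((x + y : LinearMap.ker g₀) : F₀) =
        (1 : P') ⊗ₜ[P₀] (x : F₀) + (1 : P') ⊗ₜ[P₀] (y : F₀) := by
      rw [Submodule.coe_add, TensorProduct.tmul_add]
    rw [this]
    exact hx.add hy
  | smul c x _ hx =>
    have : (1 : P') ⊗ₜ[P₀] ((c • x : LinearMap.ker g₀) : F₀) =
        (algebraMap P₀ P' c) • ((1 : P') ⊗ₜ[P₀] (x : F₀)) := by
      rw [Submodule.coe_smul, ← TensorProduct.smul_tmul, TensorProduct.smul_tmul',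
        Algebra.algebraMap_eq_smul_one, smul_assoc, one_smul]
    rw [this]
    exact hx.smul _

include A' in
/-- `(α)`: with a witness `s'` for all of `K₀ ∩ p₀F₀`, every element of `ker (M' ⊗ J' → M')` is
killed by an element of any submonoid containing `s'` and `a₀`. -/
theorem alpha [Algebra.IsPushout A₀ A' P₀ P'] [Module.Flat A' (P' ⊗[P₀] F₀)]
    (hg₀ : Function.Surjective g₀)
    (hG : GenFreeH8.GFW (A₀ ⧸ p₀) ((A₀ ⧸ p₀) ⊗[A₀] M₀) (Ideal.Quotient.mk p₀ a₀))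
    (s' : P') (hw : ∀ t : TP p₀ g₀, Wit P' p₀ g₀ s' ((1 : P') ⊗ₜ[P₀] ((t : LinearMap.ker g₀) : F₀)))
    (T : Submonoid P') (hs' : s' ∈ T) (ha₀ : algebraMap A₀ P' a₀ ∈ T)
    (ξ : (P' ⊗[P₀] M₀) ⊗[A'] (p₀.map (algebraMap A₀ A')))
    (hξ : AlgebraTensorModule.lTensor P' (P' ⊗[P₀] M₀) (p₀.map (algebraMap A₀ A')).subtype ξ = 0) :
    ∃ g ∈ T, g • ξ = 0 := by
  refine fwd_P' A' P' p₀ g₀ hg₀ ξ ((mulJ_eq_zero_iff P' _ _ ξ).mpr hξ) (T : Set P') ?_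
  rintro φ ⟨ξ', rfl⟩ hφ
  obtain ⟨N, θ, hθ, hθ'⟩ := witness_kills A' p₀ a₀ g₀ hg₀ hG s' hw ξ' hφ
  refine ⟨s' * (algebraMap A₀ P' a₀) ^ N, T.mul_mem hs' (T.pow_mem ha₀ N), θ, hθ, ?_⟩
  rw [← hθ', mul_smul, ← map_pow, algebraMap_smul]

end Wit

end Groth.Agent.Lib.FlatDescEH6
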