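import Mathlib
import Groth.Agent.Lib.FlatDescE_helper6

/-!
# Pointwise descent of flatness, part F: witnesses over `R` and their descent to a finitely
generated subalgebra (polynomial ring setting).
-/

set_option autoImplicit false
open TensorProduct

namespace Groth.Agent.Lib.FlatDescFH6

open Groth.Agent.Lib.FlatDescCH6 Groth.Agent.Lib.FlatDescDH6 Groth.Agent.Lib.FlatDescEH6

universe u

attribute [local instance] MvPolynomial.algebraMvPolynomial
attribute [local instance] Groth.Agent.Lib.FlatDescDH6.towerP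

section

variable {A₀ : Type u} [CommRing A₀] {R : Type u} [CommRing R] [Algebra A₀ R] (σ : Type)
  {F₀ M₀ : Type u} [AddCommGroup F₀] [Module (MvPolynomial σ A₀) F₀] [Module A₀ F₀]
  [IsScalarTower A₀ (MvPolynomial σ A₀) F₀]
  [AddCommGroup M₀] [Module (MvPolynomial σ A₀) M₀] [Module A₀ M₀]
  [IsScalarTower A₀ (MvPolynomial σ A₀) M₀]
  (g₀ : F₀ →ₗ[MvPolynomial σ A₀] M₀) (p₀ : Ideal A₀)

theorem Phi_kap (A₁ : Subalgebra A₀ R)
    (w : MvPolynomial σ A₁ ⊗[MvPolynomial σ A₀] (LinearMap.ker g₀)) :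
    Phi σ A₁ F₀ (kap (MvPolynomial σ A₁) g₀ w) =
      kap (MvPolynomial σ R) g₀ (Phi σ A₁ (LinearMap.ker g₀) w) := by
  induction w using TensorProduct.induction_on with
  | zero => simp
  | tmul c k => simp [kap]
  | add x y hx hy => simp only [map_add, hx, hy]

/-- `1 ⊗ t ∈ p₀ (P' ⊗ F₀)` for `t ∈ K₀ ∩ p₀F₀`. -/
theorem one_tmul_mem {P' : Type u} [CommRing P'] [Algebra A₀ P'] [Algebra (MvPolynomial σ A₀) P']
    [IsScalarTower A₀ (MvPolynomial σ A₀) P'] (t : TP p₀ g₀) :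
    (1 : P') ⊗ₜ[MvPolynomial σ A₀] ((t : LinearMap.ker g₀) : F₀) ∈
      (p₀ • ⊤ : Submodule A₀ (P' ⊗[MvPolynomial σ A₀] F₀)) := by
  have h1 : ((t : LinearMap.ker g₀) : F₀) ∈ (p₀ • ⊤ : Submodule A₀ F₀) := by
    rw [mem_smul_top_iff_map (B := MvPolynomial σ A₀)]
    exact t.2
  refine Submodule.smul_induction_on h1 ?_ ?_
  · intro π hπ f _
    rw [TensorProduct.tmul_smul]
    exact Submodule.smul_mem_smul hπ Submodule.mem_top
  · intro x y hx hy
    rw [TensorProduct.tmul_add]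
    exact add_mem hx hy

/-- Witness over `R` from flatness at `q`. -/
theorem exists_witness_R (hg₀ : Function.Surjective g₀) (q : Ideal (MvPolynomial σ R)) [q.IsPrime]
    (hq : Module.Flat R (LocalizedModule q.primeCompl
      (MvPolynomial σ R ⊗[MvPolynomial σ A₀] M₀))) (t : TP p₀ g₀) :
    ∃ s ∈ q.primeCompl, Wit (MvPolynomial σ R) p₀ g₀ s
      ((1 : MvPolynomial σ R) ⊗ₜ[MvPolynomial σ A₀] ((t : LinearMap.ker g₀) : F₀)) := by
  have hφ1 : (1 : MvPolynomial σ R) ⊗ₜ[MvPolynomial σ A₀] ((t : LinearMap.ker g₀) : F₀) ∈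
      LinearMap.range (kap (MvPolynomial σ R) g₀) :=
    ⟨(1 : MvPolynomial σ R) ⊗ₜ (t : LinearMap.ker g₀), by simp [kap]⟩
  obtain ⟨ξ, hξ0, hξ⟩ := rev_P R (MvPolynomial σ R) p₀ g₀ hg₀ _ hφ1 (one_tmul_mem σ g₀ p₀ t)
  rw [mulJ_eq_zero_iff] at hξ0
  have hinj : Function.Injective (IsLocalizedModule.map q.primeCompl
      (AlgebraTensorModule.rTensor R (p₀.map (algebraMap A₀ R))
        (LocalizedModule.mkLinearMap q.primeCompl (MvPolynomial σ R ⊗[MvPolynomial σ A₀] M₀)))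
      (AlgebraTensorModule.rTensor R R
        (LocalizedModule.mkLinearMap q.primeCompl (MvPolynomial σ R ⊗[MvPolynomial σ A₀] M₀)))
      (AlgebraTensorModule.lTensor (MvPolynomial σ R) (MvPolynomial σ R ⊗[MvPolynomial σ A₀] M₀)
        (p₀.map (algebraMap A₀ R)).subtype)) := by
    rw [IsLocalizedModule.map_lTensor]
    exact Module.Flat.lTensor_preserves_injective_linearMap
      (M := LocalizedModule q.primeCompl (MvPolynomial σ R ⊗[MvPolynomial σ A₀] M₀))
      (p₀.map (algebraMap A₀ R)).subtype Subtype.val_injective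
  have hl : IsLocalizedModule q.primeCompl (AlgebraTensorModule.rTensor R (p₀.map (algebraMap A₀ R))
        (LocalizedModule.mkLinearMap q.primeCompl (MvPolynomial σ R ⊗[MvPolynomial σ A₀] M₀))) := inferInstance
  have h1 : IsLocalizedModule.map q.primeCompl
      (AlgebraTensorModule.rTensor R (p₀.map (algebraMap A₀ R))
        (LocalizedModule.mkLinearMap q.primeCompl (MvPolynomial σ R ⊗[MvPolynomial σ A₀] M₀)))
      (AlgebraTensorModule.rTensor R R
        (LocalizedModule.mkLinearMap q.primeCompl (MvPolynomial σ R ⊗[MvPolynomial σ A₀] M₀)))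
      (AlgebraTensorModule.lTensor (MvPolynomial σ R) (MvPolynomial σ R ⊗[MvPolynomial σ A₀] M₀)
        (p₀.map (algebraMap A₀ R)).subtype) ((AlgebraTensorModule.rTensor R (p₀.map (algebraMap A₀ R))
        (LocalizedModule.mkLinearMap q.primeCompl (MvPolynomial σ R ⊗[MvPolynomial σ A₀] M₀))) ξ) = 0 := by
    rw [IsLocalizedModule.map_apply, hξ0, map_zero]
  have h2 := hinj (h1.trans (map_zero _).symm)
  obtain ⟨s, hs0⟩ := (IsLocalizedModule.eq_zero_iff q.primeCompl _).mp h2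
  exact ⟨s, s.2, hξ s hs0⟩

/-- Common witness over `R` for finitely many elements of `K₀ ∩ p₀F₀`. -/
theorem exists_common_witness_R (hg₀ : Function.Surjective g₀) (q : Ideal (MvPolynomial σ R))
    [q.IsPrime] (hq : Module.Flat R (LocalizedModule q.primeCompl
      (MvPolynomial σ R ⊗[MvPolynomial σ A₀] M₀))) (G : Finset (LinearMap.ker g₀))
    (hG : ∀ k ∈ G, k ∈ TP p₀ g₀) :
    ∃ s ∈ q.primeCompl, ∀ k ∈ G, Wit (MvPolynomial σ R) p₀ g₀ s
      ((1 : MvPolynomial σ R) ⊗ₜ[MvPolynomial σ A₀] (k : F₀)) := by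
  classical
  induction G using Finset.induction_on with
  | empty => exact ⟨1, q.primeCompl.one_mem, by simp⟩
  | insert t G _ ih =>
    obtain ⟨s, hs, h⟩ := ih (fun k hk => hG k (Finset.mem_insert_of_mem hk))
    obtain ⟨s', hs', h'⟩ := exists_witness_R σ g₀ p₀ hg₀ q hq ⟨t, hG t (Finset.mem_insert_self t G)⟩
    refine ⟨s' * s, q.primeCompl.mul_mem hs' hs, ?_⟩
    intro t₁ ht₁
    rw [Finset.mem_insert] at ht₁
    rcases ht₁ with rfl | ht₁
    · rw [mul_comm]; exact h'.mul_left s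
    · exact (h t₁ ht₁).mul_left s'

/-- Descent of finitely many witnesses to all sufficiently large subalgebras. -/
theorem descend_witness [Module.Flat (MvPolynomial σ A₀) F₀] (S : MvPolynomial σ R)
    (G : Finset (LinearMap.ker g₀))
    (h : ∀ k ∈ G, Wit (MvPolynomial σ R) p₀ g₀ S
      ((1 : MvPolynomial σ R) ⊗ₜ[MvPolynomial σ A₀] (k : F₀))) :
    ∃ C : Finset R, ∀ A₁ : Subalgebra A₀ R, (C : Set R) ⊆ A₁ → ∀ S₁ : MvPolynomial σ A₁,
      algebraMap (MvPolynomial σ A₁) (MvPolynomial σ R) S₁ = S →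
      ∀ k ∈ G, Wit (MvPolynomial σ A₁) p₀ g₀ S₁
        ((1 : MvPolynomial σ A₁) ⊗ₜ[MvPolynomial σ A₀] (k : F₀)) := by
  classical
  induction G using Finset.induction_on with
  | empty => exact ⟨∅, fun _ _ _ _ k hk => absurd hk (Finset.notMem_empty k)⟩
  | insert t G _ ih =>
    obtain ⟨θ, hθ, hθ'⟩ := h t (Finset.mem_insert_self t G)
    obtain ⟨C₁, hC₁⟩ := exists_finset_lift_smul (A₀ := A₀) p₀ θ hθ
    obtain ⟨C₂, hC₂⟩ := ih (fun k hk => h k (Finset.mem_insert_of_mem hk))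
    refine ⟨C₁ ∪ C₂, fun A₁ hA₁ S₁ hS₁ k hk => ?_⟩
    rw [Finset.coe_union] at hA₁
    rw [Finset.mem_insert] at hk
    rcases hk with rfl | hk
    · obtain ⟨θ₁, hθ₁, hθ₁'⟩ := hC₁ A₁ (Set.subset_union_left.trans hA₁)
      refine ⟨θ₁, hθ₁, ?_⟩
      apply Phi_injective σ A₁ F₀
      rw [Phi_smul, Phi_tmul, map_one, hS₁, hθ', Phi_kap, hθ₁']
    · exact hC₂ A₁ (Set.subset_union_right.trans hA₁) S₁ hS₁ k hk

end

end Groth.Agent.Lib.FlatDescFH6
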