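import Mathlib
import Groth.Agent.Lib.FlatDescF_helper6

/-!
# Pointwise descent of flatness (EGA IV 11.2.6, Stacks 00R6-type statement), polynomial form

`A₀` Noetherian, `R` an `A₀`-algebra, `M₀` a finite module over `P₀ = A₀[x_σ]`, `q` a prime of
`P_R = R[x_σ]` such that `(P_R ⊗ M₀)_q` is flat over `R`.  Then there is a finitely generated
`A₀`-subalgebra `A₁ ⊆ R` such that `(P_{A₁} ⊗ M₀)_{q ∩ P_{A₁}}` is flat over `A₁`.
-/

set_option autoImplicit false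
open TensorProduct

namespace Groth.Agent.Lib.FlatDescGH6

open Groth.Agent.Lib.FlatDescCH6 Groth.Agent.Lib.FlatDescDH6 Groth.Agent.Lib.FlatDescEH6
  Groth.Agent.Lib.FlatDescFH6

universe u

attribute [local instance] MvPolynomial.algebraMvPolynomial
attribute [local instance] Groth.Agent.Lib.FlatDescDH6.towerP

variable {A₀ : Type u} [CommRing A₀] [IsNoetherianRing A₀] {R : Type u} [CommRing R] [Algebra A₀ R]
  (σ : Type) [Finite σ]

theorem tower_apply (A₁ : Subalgebra A₀ R) (x : A₀) :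
    algebraMap (MvPolynomial σ A₁) (MvPolynomial σ R)
      (algebraMap A₁ (MvPolynomial σ A₁) (algebraMap A₀ A₁ x)) =
    algebraMap A₀ (MvPolynomial σ R) x := by
  simp [MvPolynomial.algebraMap_eq, ← IsScalarTower.algebraMap_apply]


section Finish

variable {A₀' : Type u} [CommRing A₀'] (p₀ : Ideal A₀') (a₀ : A₀')
  (A₁ : Type u) [CommRing A₁] [Algebra A₀' A₁] [IsNoetherianRing A₁]
  (P₁ : Type u) [CommRing P₁] [Algebra A₁ P₁] [IsNoetherianRing P₁]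
  {M₀ : Type u} [AddCommGroup M₀] [Module A₀' M₀]
  (M₁ : Type u) [AddCommGroup M₁] [Module P₁ M₁] [Module A₁ M₁] [IsScalarTower A₁ P₁ M₁]
  [Module.Finite P₁ M₁]

set_option maxHeartbeats 1000000 in
/-- The abstract final step: torsion-killing + generic fibre flatness give flatness at `Q₁`. -/
theorem finish (e : M₁ ≃ₗ[A₁] A₁ ⊗[A₀'] M₀)
    [hfl : Module.Flat (A₀' ⧸ p₀) (LocalizedModule (Submonoid.powers (Ideal.Quotient.mk p₀ a₀))
      ((A₀' ⧸ p₀) ⊗[A₀'] M₀))]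
    (Q₁ : Ideal P₁) [Q₁.IsPrime]
    (ha₀ : algebraMap A₁ P₁ (algebraMap A₀' A₁ a₀) ∈ Q₁.primeCompl)
    (hJ : (p₀.map (algebraMap A₀' A₁)).map (algebraMap A₁ P₁) ≤ Q₁)
    (hα : ∀ ξ : M₁ ⊗[A₁] (p₀.map (algebraMap A₀' A₁)),
      AlgebraTensorModule.lTensor P₁ M₁ (p₀.map (algebraMap A₀' A₁)).subtype ξ = 0 →
      ∃ g ∈ Q₁.primeCompl, g • ξ = 0) :
    Module.Flat A₁ (LocalizedModule Q₁.primeCompl M₁) := by
  have htor : Function.Injective ((p₀.map (algebraMap A₀' A₁)).subtype.rTensor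
      (LocalizedModule Q₁.primeCompl M₁)) := by
    rw [← LinearMap.lTensor_inj_iff_rTensor_inj]
    have h := Groth.Agent.Lib.FlatDescAH6.map_injective_of_forall_smul_ker (B := P₁)
      Q₁.primeCompl
      (X := M₁ ⊗[A₁] (p₀.map (algebraMap A₀' A₁))) (Y := M₁ ⊗[A₁] A₁)
      (X' := (LocalizedModule Q₁.primeCompl M₁) ⊗[A₁] (p₀.map (algebraMap A₀' A₁)))
      (Y' := (LocalizedModule Q₁.primeCompl M₁) ⊗[A₁] A₁)
      (AlgebraTensorModule.rTensor A₁ (p₀.map (algebraMap A₀' A₁))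
        (LocalizedModule.mkLinearMap Q₁.primeCompl M₁))
      (AlgebraTensorModule.rTensor A₁ A₁ (LocalizedModule.mkLinearMap Q₁.primeCompl M₁))
      (AlgebraTensorModule.lTensor P₁ M₁ (p₀.map (algebraMap A₀' A₁)).subtype) hα
    rw [IsLocalizedModule.map_lTensor] at h
    intro x y hxy
    exact h hxy
  haveI hloc : IsLocalizedModule (Submonoid.powers (algebraMap A₀' A₁ a₀))
      ((LocalizedModule.mkLinearMap (Submonoid.powers (algebraMap A₁ P₁ (algebraMap A₀' A₁ a₀)))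
        M₁).restrictScalars A₁) :=
    IsLocalizedModule.restrictScalars_powers (algebraMap A₀' A₁ a₀)
      (LocalizedModule.mkLinearMap (Submonoid.powers (algebraMap A₁ P₁ (algebraMap A₀' A₁ a₀))) M₁)
  have hβ₀ : Module.Flat (A₁ ⧸ p₀.map (algebraMap A₀' A₁))
      ((A₁ ⧸ p₀.map (algebraMap A₀' A₁)) ⊗[A₁]
        LocalizedModule (Submonoid.powers (algebraMap A₁ P₁ (algebraMap A₀' A₁ a₀))) M₁) :=
    beta p₀ a₀ A₁ (M₀ := M₀) (M₁ := M₁)
      (Y := LocalizedModule (Submonoid.powers (algebraMap A₁ P₁ (algebraMap A₀' A₁ a₀))) M₁) e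
      ((LocalizedModule.mkLinearMap (Submonoid.powers (algebraMap A₁ P₁ (algebraMap A₀' A₁ a₀)))
        M₁).restrictScalars A₁)
  haveI hβ : Module.Flat (A₁ ⧸ p₀.map (algebraMap A₀' A₁))
      ((A₁ ⧸ p₀.map (algebraMap A₀' A₁)) ⊗[A₁] LocalizedModule Q₁.primeCompl M₁) :=
    Groth.Agent.Lib.FlatDescAH6.flat_quot_tensor_localized' (A := A₁) (B := P₁)
      M₁ (p₀.map (algebraMap A₀' A₁)) (algebraMap A₁ P₁ (algebraMap A₀' A₁ a₀)) hβ₀ _ ha₀
  refine Groth.Agent.Lib.LocalCrit3.flat_of_tor_of_flat_quot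
    (S := Localization.AtPrime Q₁) (p₀.map (algebraMap A₀' A₁)) ?_ _ htor
  rw [IsScalarTower.algebraMap_eq A₁ P₁ (Localization.AtPrime Q₁), ← Ideal.map_map]
  refine (Ideal.map_mono hJ).trans ?_
  rw [Localization.AtPrime.map_eq_maximalIdeal]
  exact IsLocalRing.maximalIdeal_le_jacobson ⊥

end Finish

set_option maxHeartbeats 1000000 in
/-- **Pointwise descent of flatness.** -/
theorem exists_fg_subalgebra_flat_at
    (M₀ : Type u) [AddCommGroup M₀] [Module (MvPolynomial σ A₀) M₀] [Module A₀ M₀]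
    [IsScalarTower A₀ (MvPolynomial σ A₀) M₀] [Module.Finite (MvPolynomial σ A₀) M₀]
    (q : Ideal (MvPolynomial σ R)) [q.IsPrime]
    (hq : Module.Flat R (LocalizedModule q.primeCompl
      (MvPolynomial σ R ⊗[MvPolynomial σ A₀] M₀))) :
    ∃ A₁ : Subalgebra A₀ R, A₁.FG ∧
      Module.Flat A₁ (LocalizedModule
        (q.comap (algebraMap (MvPolynomial σ A₁) (MvPolynomial σ R))).primeCompl
        (MvPolynomial σ A₁ ⊗[MvPolynomial σ A₀] M₀)) := by
  classical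
  set p₀ : Ideal A₀ := q.comap (algebraMap A₀ (MvPolynomial σ R)) with hp₀
  haveI : p₀.IsPrime := Ideal.comap_isPrime _ _
  obtain ⟨a₀, ha₀, hG⟩ := Groth.Agent.Lib.FlatLocusNoethH6.exists_gfw (A := A₀)
    (B := MvPolynomial σ A₀) M₀ p₀
  obtain ⟨n, g₀, hg₀⟩ := Module.Finite.exists_fin' (MvPolynomial σ A₀) M₀
  haveI : IsNoetherian (MvPolynomial σ A₀) (LinearMap.ker g₀) := isNoetherian_submodule' _
  obtain ⟨G, hG'⟩ : (TP p₀ g₀).FG := IsNoetherian.noetherian _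
  have hGmem : ∀ k ∈ G, k ∈ TP p₀ g₀ := fun k hk => hG' ▸ Submodule.subset_span hk
  obtain ⟨S, hS, hSW⟩ := exists_common_witness_R σ g₀ p₀ hg₀ q hq G hGmem
  obtain ⟨C, hC⟩ := descend_witness σ g₀ p₀ S G hSW
  let A₁ : Subalgebra A₀ R := Algebra.adjoin A₀ ((C ∪ S.coeffs : Finset R) : Set R)
  have hA₁C : (C : Set R) ⊆ A₁ := fun x hx =>
    Algebra.subset_adjoin (by rw [Finset.coe_union]; exact Or.inl hx)
  have hA₁S : (S.coeffs : Set R) ⊆ A₁ := fun x hx =>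
    Algebra.subset_adjoin (by rw [Finset.coe_union]; exact Or.inr hx)
  obtain ⟨S₁, hS₁⟩ := exists_lift_poly σ A₁ S hA₁S
  have hW₁ := hC A₁ hA₁C S₁ hS₁
  have hw : ∀ t : TP p₀ g₀, Wit (MvPolynomial σ A₁) p₀ g₀ S₁
      ((1 : MvPolynomial σ A₁) ⊗ₜ[MvPolynomial σ A₀]
        ((t : LinearMap.ker g₀) : Fin n → MvPolynomial σ A₀)) :=
    Wit.of_span (G : Set (LinearMap.ker g₀)) hG'.ge hW₁
  have hfg : A₁.FG := Subalgebra.fg_adjoin_finset _
  refine ⟨A₁, hfg, ?_⟩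
  haveI : Algebra.FiniteType A₀ A₁ := (Subalgebra.fg_iff_finiteType A₁).mp hfg
  haveI : IsNoetherianRing A₁ := Algebra.FiniteType.isNoetherianRing A₀ A₁
  haveI : Module.Flat A₁ (MvPolynomial σ A₁ ⊗[MvPolynomial σ A₀] (Fin n → MvPolynomial σ A₀)) :=
    Module.Flat.trans A₁ (MvPolynomial σ A₁) _
  have hS₁T : S₁ ∈ (q.comap (algebraMap (MvPolynomial σ A₁) (MvPolynomial σ R))).primeCompl := by
    intro h
    exact hS (by rw [← hS₁]; exact h)
  have ha₀T : algebraMap A₀ (MvPolynomial σ A₁) a₀ ∈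
      (q.comap (algebraMap (MvPolynomial σ A₁) (MvPolynomial σ R))).primeCompl := by
    intro h
    apply ha₀
    show algebraMap A₀ (MvPolynomial σ R) a₀ ∈ q
    rw [← tower_apply σ A₁, ← IsScalarTower.algebraMap_apply A₀ A₁ (MvPolynomial σ A₁)]
    exact h
  have hα : ∀ ξ : (MvPolynomial σ A₁ ⊗[MvPolynomial σ A₀] M₀) ⊗[A₁] (p₀.map (algebraMap A₀ A₁)),
      AlgebraTensorModule.lTensor (MvPolynomial σ A₁) (MvPolynomial σ A₁ ⊗[MvPolynomial σ A₀] M₀)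
        (p₀.map (algebraMap A₀ A₁)).subtype ξ = 0 →
      ∃ g ∈ (q.comap (algebraMap (MvPolynomial σ A₁) (MvPolynomial σ R))).primeCompl, g • ξ = 0 :=
    fun ξ hξ => alpha A₁ a₀ hg₀ hG S₁ hw _ hS₁T ha₀T ξ hξ
  haveI hflat₀ : Module.Flat (A₀ ⧸ p₀) (LocalizedModule
      (Submonoid.powers (Ideal.Quotient.mk p₀ a₀)) ((A₀ ⧸ p₀) ⊗[A₀] M₀)) :=
    hG.flat (LocalizedModule.mkLinearMap _ _)
  have hcT : algebraMap A₁ (MvPolynomial σ A₁) (algebraMap A₀ A₁ a₀) ∈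
      (q.comap (algebraMap (MvPolynomial σ A₁) (MvPolynomial σ R))).primeCompl := by
    rw [← IsScalarTower.algebraMap_apply A₀ A₁ (MvPolynomial σ A₁)]
    exact ha₀T
  have hJq : (p₀.map (algebraMap A₀ A₁)).map (algebraMap A₁ (MvPolynomial σ A₁)) ≤
      q.comap (algebraMap (MvPolynomial σ A₁) (MvPolynomial σ R)) := by
    rw [Ideal.map_map, Ideal.map_le_iff_le_comap]
    intro x hx
    show algebraMap (MvPolynomial σ A₁) (MvPolynomial σ R)
      (algebraMap A₁ (MvPolynomial σ A₁) (algebraMap A₀ A₁ x)) ∈ q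
    rw [tower_apply]
    exact hx
  exact finish (A₀' := A₀) p₀ a₀ A₁ (MvPolynomial σ A₁) (M₀ := M₀)
    (MvPolynomial σ A₁ ⊗[MvPolynomial σ A₀] M₀)
    (Algebra.IsPushout.cancelBaseChange A₀ A₁ (MvPolynomial σ A₀) (MvPolynomial σ A₁) M₀)
    (q.comap (algebraMap (MvPolynomial σ A₁) (MvPolynomial σ R))) hcT hJq hα

end Groth.Agent.Lib.FlatDescGH6
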