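import Mathlib
import Groth.Agent.Lib.FlatLocFP1_helper6
import Groth.Agent.Lib.FlatDescG_helper6
import Groth.Agent.Lib.FlatLocusNoeth_helper6

/-!
# Openness of the flat locus: finitely presented case (EGA IV 11.3.1), polynomial ring form
-/

set_option autoImplicit false
open TensorProduct

namespace Groth.Agent.Lib.FlatLocFP2H6

universe u

/-- Descent of a finitely presented module along a ring map `B₁ → B₀`, when the relations have
coefficients in the image of `B₁` (same statement as helper8's `FlatDescH8.exists_module_model`,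
reproved here to keep the import chain short). -/
theorem exists_module_model {B₁ B₀ : Type u} [CommRing B₁] [CommRing B₀] [Algebra B₁ B₀]
    (M₀ : Type u) [AddCommGroup M₀] [Module B₀ M₀] [Module B₁ M₀] [IsScalarTower B₁ B₀ M₀]
    {b c : ℕ} (π : (Fin b → B₀) →ₗ[B₀] M₀) (hπ : Function.Surjective π)
    (w : Fin c → Fin b → B₁)
    (hw : Submodule.span B₀ (Set.range fun k j => algebraMap B₁ B₀ (w k j)) = LinearMap.ker π) :
    ∃ f : ((Fin b → B₁) ⧸ LinearMap.range (Fintype.linearCombination B₁ w)) →ₗ[B₁] M₀,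
      IsBaseChange B₀ f := by
  have hcomm : ∀ t : Fin c → B₁,
      (Algebra.linearMap B₁ B₀).compLeft (Fin b) (Fintype.linearCombination B₁ w t) =
      Fintype.linearCombination B₀ (fun k j => algebraMap B₁ B₀ (w k j))
        ((Algebra.linearMap B₁ B₀).compLeft (Fin c) t) := by
    intro t
    ext j
    simp [Fintype.linearCombination_apply, Finset.sum_apply, Algebra.smul_def]
  have hker : ∀ t : Fin c → B₁,
      π ((Algebra.linearMap B₁ B₀).compLeft (Fin b) (Fintype.linearCombination B₁ w t)) = 0 := by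
    intro t
    rw [hcomm t, ← LinearMap.mem_ker, ← hw, ← Fintype.range_linearCombination]
    exact LinearMap.mem_range_self _ _
  have hle : LinearMap.range (Fintype.linearCombination B₁ w) ≤
      LinearMap.ker ((π.restrictScalars B₁).comp ((Algebra.linearMap B₁ B₀).compLeft (Fin b))) := by
    rintro _ ⟨t, rfl⟩
    exact hker t
  refine ⟨(LinearMap.range (Fintype.linearCombination B₁ w)).liftQ _ hle, ?_⟩
  refine IsBaseChange.of_right_exact B₀ ((Algebra.linearMap B₁ B₀).compLeft (Fin c))
    ((Algebra.linearMap B₁ B₀).compLeft (Fin b)) _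
    (f := Fintype.linearCombination B₁ w)
    (g := (LinearMap.range (Fintype.linearCombination B₁ w)).mkQ)
    (f' := Fintype.linearCombination B₀ (fun k j => algebraMap B₁ B₀ (w k j)))
    (g' := π) ?_ ?_ ?_ ?_ ?_ ?_ ?_ hπ
  · exact LinearMap.ext fun t => hcomm t
  · exact LinearMap.ext fun t => rfl
  · exact IsBaseChange.finitePow (Fin c) (IsBaseChange.linearMap B₁ B₀)
  · exact IsBaseChange.finitePow (Fin b) (IsBaseChange.linearMap B₁ B₀)
  · exact LinearMap.exact_map_mkQ_range _
  · exact Submodule.mkQ_surjective _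
  · rw [LinearMap.exact_iff, ← hw, Fintype.range_linearCombination]

attribute [local instance] MvPolynomial.algebraMvPolynomial
attribute [local instance] Groth.Agent.Lib.FlatDescDH6.towerP

variable {R : Type u} [CommRing R] (σ : Type) [Finite σ]

set_option maxHeartbeats 1000000 in
/-- Openness of the flat locus for a module over `R[x_σ]` which is base-changed from a finite
module over `A₀[x_σ]` with `A₀` Noetherian. -/
theorem isOpen_flatLocus_tensor {A₀ : Type u} [CommRing A₀] [IsNoetherianRing A₀] [Algebra A₀ R]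
    (M' : Type u) [AddCommGroup M'] [Module (MvPolynomial σ A₀) M'] [Module A₀ M']
    [IsScalarTower A₀ (MvPolynomial σ A₀) M'] [Module.Finite (MvPolynomial σ A₀) M'] :
    IsOpen {q : PrimeSpectrum (MvPolynomial σ R) |
      Module.Flat R (LocalizedModule q.asIdeal.primeCompl
        (MvPolynomial σ R ⊗[MvPolynomial σ A₀] M'))} := by
  rw [isOpen_iff_forall_mem_open]
  intro q hq
  obtain ⟨A₁, hfg, hfl⟩ :=
    Groth.Agent.Lib.FlatDescGH6.exists_fg_subalgebra_flat_at σ M' q.asIdeal hq
  haveI : Algebra.FiniteType A₀ A₁ := (Subalgebra.fg_iff_finiteType A₁).mp hfg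
  haveI : IsNoetherianRing A₁ := Algebra.FiniteType.isNoetherianRing A₀ A₁
  have hU₁ := Groth.Agent.Lib.FlatLocusNoethH6.isOpen_flatLocus (A := A₁)
    (B := MvPolynomial σ A₁) (MvPolynomial σ A₁ ⊗[MvPolynomial σ A₀] M')
  refine ⟨PrimeSpectrum.comap (algebraMap (MvPolynomial σ A₁) (MvPolynomial σ R)) ⁻¹'
    {q₁ : PrimeSpectrum (MvPolynomial σ A₁) |
      Module.Flat A₁ (LocalizedModule q₁.asIdeal.primeCompl
        (MvPolynomial σ A₁ ⊗[MvPolynomial σ A₀] M'))}, ?_,
    hU₁.preimage (PrimeSpectrum.continuous_comap _), hfl⟩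
  intro q' hq'
  have hq'' : Module.Flat A₁ (LocalizedModule
      (q'.asIdeal.comap (algebraMap (MvPolynomial σ A₁) (MvPolynomial σ R))).primeCompl
      (MvPolynomial σ A₁ ⊗[MvPolynomial σ A₀] M')) := hq'
  have h1 := Groth.Agent.Lib.FlatLocFP1H6.flat_baseChange_localized (A₁ := A₁) (R := R)
    (P₁ := MvPolynomial σ A₁) (P := MvPolynomial σ R)
    (MvPolynomial σ A₁ ⊗[MvPolynomial σ A₀] M') q'.asIdeal hq''
  exact Groth.Agent.Lib.FlatLocFP1H6.flat_localizedModule_of_linearEquiv (A := R)
    q'.asIdeal.primeCompl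
    (AlgebraTensorModule.cancelBaseChange (MvPolynomial σ A₀) (MvPolynomial σ A₁)
      (MvPolynomial σ R) (MvPolynomial σ R) M') h1

set_option maxHeartbeats 1000000 in
/-- **Openness of the flat locus**, finitely presented module over a polynomial ring over an
arbitrary base ring. -/
theorem isOpen_flatLocus_mvPolynomial (M : Type u) [AddCommGroup M]
    [Module (MvPolynomial σ R) M] [Module R M] [IsScalarTower R (MvPolynomial σ R) M]
    [Module.FinitePresentation (MvPolynomial σ R) M] :
    IsOpen {q : PrimeSpectrum (MvPolynomial σ R) |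
      Module.Flat R (LocalizedModule q.asIdeal.primeCompl M)} := by
  classical
  obtain ⟨b, K, e, hK⟩ := Module.FinitePresentation.exists_fin (MvPolynomial σ R) M
  obtain ⟨c, w', hw'⟩ := Submodule.fg_iff_exists_fin_generating_family.mp hK
  let π : (Fin b → MvPolynomial σ R) →ₗ[MvPolynomial σ R] M := e.symm.toLinearMap ∘ₗ K.mkQ
  have hπ : Function.Surjective π := e.symm.surjective.comp K.mkQ_surjective
  have hkerπ : LinearMap.ker π = K := by
    ext x
    simp [π]
  let Cf : Finset R := Finset.univ.biUnion fun k : Fin c =>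
    Finset.univ.biUnion fun j : Fin b => (w' k j).coeffs
  let A₀ : Subalgebra ℤ R := Algebra.adjoin ℤ (Cf : Set R)
  have hA₀ : A₀.FG := Subalgebra.fg_adjoin_finset _
  haveI : Algebra.FiniteType ℤ A₀ := (Subalgebra.fg_iff_finiteType A₀).mp hA₀
  haveI : IsNoetherianRing A₀ := Algebra.FiniteType.isNoetherianRing ℤ A₀
  have hlift : ∀ k j, ∃ p : MvPolynomial σ A₀,
      algebraMap (MvPolynomial σ A₀) (MvPolynomial σ R) p = w' k j := by
    intro k j
    have hmem : w' k j ∈ Set.range (MvPolynomial.map (σ := σ) (algebraMap A₀ R)) := by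
      rw [MvPolynomial.mem_range_map_iff_coeffs_subset]
      intro x hx
      have hxA : x ∈ A₀ := by
        refine Algebra.subset_adjoin ?_
        rw [Finset.mem_coe, Finset.mem_biUnion]
        refine ⟨k, Finset.mem_univ _, ?_⟩
        rw [Finset.mem_biUnion]
        exact ⟨j, Finset.mem_univ _, hx⟩
      exact ⟨⟨x, hxA⟩, rfl⟩
    obtain ⟨p, hp⟩ := hmem
    exact ⟨p, hp⟩
  choose w hw using hlift
  letI : Module (MvPolynomial σ A₀) M :=
    Module.compHom M (algebraMap (MvPolynomial σ A₀) (MvPolynomial σ R))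
  haveI : IsScalarTower (MvPolynomial σ A₀) (MvPolynomial σ R) M :=
    IsScalarTower.of_algebraMap_smul fun r x => rfl
  have hspan : Submodule.span (MvPolynomial σ R)
      (Set.range fun k j => algebraMap (MvPolynomial σ A₀) (MvPolynomial σ R) (w k j)) =
      LinearMap.ker π := by
    rw [hkerπ, ← hw']
    congr 2
    funext k j
    exact hw k j
  obtain ⟨f, hf⟩ := exists_module_model (B₁ := MvPolynomial σ A₀) (B₀ := MvPolynomial σ R)
    M π hπ w hspan
  have h1 := isOpen_flatLocus_tensor σ (R := R) (A₀ := A₀)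
    ((Fin b → MvPolynomial σ A₀) ⧸
      LinearMap.range (Fintype.linearCombination (MvPolynomial σ A₀) w))
  convert h1 using 1
  ext q
  constructor
  · intro h
    exact Groth.Agent.Lib.FlatLocFP1H6.flat_localizedModule_of_linearEquiv (A := R)
      q.asIdeal.primeCompl hf.equiv.symm h
  · intro h
    exact Groth.Agent.Lib.FlatLocFP1H6.flat_localizedModule_of_linearEquiv (A := R)
      q.asIdeal.primeCompl hf.equiv h

end Groth.Agent.Lib.FlatLocFP2H6
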