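import Mathlib
import Groth.Prelude.Def_CAlgX
import Groth.Agent.S0387
import Groth.Agent.Lib.FlatLocFP1_helper6
import Groth.Agent.Lib.FibInjD_helper6

/-!
# Fibre criterion for injectivity, part E: from essentially f.p. local algebras to f.p. algebras

* `exists_fp_model_of_isLocalization`: a finitely presented module over a localization `T⁻¹A` is the
  localization of a finitely presented `A`-module.
* `flat_away_of_forall_flat_atPrime`: flatness of `M_g` from flatness of `M_q` at all `q ∈ D(g)`.
* `exists_good_model`: an essentially f.p. local algebra `S` with an `R`-flat f.p. module `N` is the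
  localization at a prime of an f.p. algebra `S₂` carrying an `R`-flat f.p. model of `N`.
* `transfer_fibre`, `transfer_injective`, `transfer_flat`: transport along localization at a prime.
-/

set_option autoImplicit false
open TensorProduct Pointwise

namespace Groth.Agent.Lib.FibInjH6

universe u

section L1

/-- A finitely presented module over `T⁻¹A` is the localization of a finitely presented
`A`-module. -/
theorem exists_fp_model_of_isLocalization {A A' : Type u} [CommRing A] [CommRing A'] [Algebra A A']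
    (T : Submonoid A) [IsLocalization T A']
    (M' : Type u) [AddCommGroup M'] [Module A' M'] [Module A M'] [IsScalarTower A A' M']
    [Module.FinitePresentation A' M'] :
    ∃ (M₁ : Type u) (_ : AddCommGroup M₁) (_ : Module A M₁) (_ : Module.FinitePresentation A M₁)
      (j : M₁ →ₗ[A] M'), IsLocalizedModule T j := by
  obtain ⟨b, K, e, hK⟩ := Module.FinitePresentation.exists_fin A' M'
  obtain ⟨c, w', hw'⟩ := Submodule.fg_iff_exists_fin_generating_family.mp hK
  obtain ⟨d, hd⟩ := IsLocalization.exist_integer_multiples_of_finite T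
    (fun kj : Fin c × Fin b => w' kj.1 kj.2)
  have hd' : ∀ kj : Fin c × Fin b, ∃ r : A, algebraMap A A' r = (d : A) • w' kj.1 kj.2 :=
    fun kj => hd kj
  choose w hw using hd'
  let π : (Fin b → A') →ₗ[A'] M' := e.symm.toLinearMap ∘ₗ K.mkQ
  have hπ : Function.Surjective π := e.symm.surjective.comp K.mkQ_surjective
  have hker : LinearMap.ker π = K := by
    rw [LinearMap.ker_comp, LinearEquiv.ker, Submodule.comap_bot, Submodule.ker_mkQ]
  have hset : (Set.range fun (k : Fin c) (j : Fin b) => algebraMap A A' (w (k, j))) =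
      (algebraMap A A' (d : A)) • Set.range w' := by
    ext v
    rw [Set.mem_smul_set]
    constructor
    · rintro ⟨k, rfl⟩
      refine ⟨w' k, ⟨k, rfl⟩, ?_⟩
      funext j
      show algebraMap A A' (d : A) • w' k j = algebraMap A A' (w (k, j))
      rw [hw (k, j), smul_eq_mul, Algebra.smul_def]
    · rintro ⟨_, ⟨k, rfl⟩, rfl⟩
      refine ⟨k, ?_⟩
      funext j
      show algebraMap A A' (w (k, j)) = algebraMap A A' (d : A) • w' k j
      rw [hw (k, j), smul_eq_mul, Algebra.smul_def]
  have hspan : Submodule.span A' (Set.range fun (k : Fin c) (j : Fin b) =>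
      algebraMap A A' (w (k, j))) = LinearMap.ker π := by
    rw [hker, ← hw', hset, Submodule.span_smul_eq_of_isUnit _ _ (IsLocalization.map_units A' d)]
  obtain ⟨f, hf, -⟩ := exists_module_model' (B₁ := A) (B₀ := A') M' π hπ (fun k j => w (k, j)) hspan
  refine ⟨_, inferInstance, inferInstance, ?_, f, (isLocalizedModule_iff_isBaseChange T A' f).mpr hf⟩
  refine Module.finitePresentation_of_surjective (Submodule.mkQ _) (Submodule.mkQ_surjective _) ?_
  rw [Submodule.ker_mkQ, LinearMap.range_eq_map]
  exact Submodule.FG.map _ Module.Finite.fg_top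

end L1

section L2

/-- If `M_q` is `R`-flat for all primes `q ∈ D(g)` then `M_g` is `R`-flat. -/
theorem flat_away_of_forall_flat_atPrime {R C : Type u} [CommRing R] [CommRing C] [Algebra R C]
    (M : Type u) [AddCommGroup M] [Module C M] [Module R M] [IsScalarTower R C M] (g : C)
    (h : ∀ (q : Ideal C) [q.IsPrime], g ∉ q → Module.Flat R (LocalizedModule q.primeCompl M)) :
    Module.Flat R (LocalizedModule (Submonoid.powers g) M) := by
  rw [Groth.Agent.Lib.FlatLocFP1H6.flat_localizedModule_iff]
  intro I ξ hξ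
  let a : Ideal C := LinearMap.ker (LinearMap.toSpanSingleton C (M ⊗[R] I) ξ)
  have hmem : ∀ c : C, c ∈ a ↔ c • ξ = 0 := fun c => by
    show LinearMap.toSpanSingleton C (M ⊗[R] I) ξ c = 0 ↔ _
    rw [LinearMap.toSpanSingleton_apply]
  have hg : g ∈ a.radical := by
    rw [Ideal.radical_eq_sInf, Submodule.mem_sInf]
    rintro (q : Ideal C) ⟨haq, hq⟩
    by_contra hgq
    haveI : q.IsPrime := hq
    have hflat := h q hgq
    obtain ⟨t, ht, hzero⟩ :=
      (Groth.Agent.Lib.FlatLocFP1H6.flat_localizedModule_iff q.primeCompl M).mp hflat I ξ hξ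
    exact ht (haq ((hmem t).mpr hzero))
  obtain ⟨n, hn⟩ := hg
  exact ⟨g ^ n, ⟨n, rfl⟩, (hmem _).mp hn⟩

end L2

section Mid

/-- the middle scalar tower. -/
theorem isScalarTower_mid (R A S X : Type u) [CommRing R] [CommRing A] [CommRing S] [Algebra R A]
    [Algebra A S] [Algebra R S] [IsScalarTower R A S] [AddCommGroup X] [Module S X] [Module A X]
    [IsScalarTower A S X] [Module R X] [IsScalarTower R S X] : IsScalarTower R A X :=
  IsScalarTower.of_algebraMap_smul fun r x => by
    rw [← algebraMap_smul S (algebraMap R A r) x, ← IsScalarTower.algebraMap_apply R A S,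
      algebraMap_smul]

end Mid

section E1

/-- **Good model.** -/
theorem exists_good_model {R S N : Type u} [CommRing R] [CommRing S] [IsLocalRing S] [Algebra R S]
    (hS : CAlgX.IsEssFinitePresentation R S)
    [AddCommGroup N] [Module S N] [Module R N] [IsScalarTower R S N]
    [Module.FinitePresentation S N] [Module.Flat R N] :
    ∃ (S₂ : Type u) (_ : CommRing S₂) (_ : Algebra R S₂) (_ : Algebra S₂ S)
      (_ : IsScalarTower R S₂ S) (_ : Algebra.FinitePresentation R S₂)
      (q : Ideal S₂) (_ : q.IsPrime) (_ : IsLocalization.AtPrime S q)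
      (_ : q = (IsLocalRing.maximalIdeal S).comap (algebraMap S₂ S))
      (N₂ : Type u) (_ : AddCommGroup N₂) (_ : Module S₂ N₂) (_ : Module R N₂)
      (_ : IsScalarTower R S₂ N₂) (_ : Module.FinitePresentation S₂ N₂) (_ : Module.Flat R N₂)
      (_ : Module S₂ N) (_ : IsScalarTower S₂ S N)
      (jN : N₂ →ₗ[S₂] N), IsLocalizedModule q.primeCompl jN := by
  obtain ⟨S₀, _, _, _, _, W, hfp, hloc⟩ := hS
  let q₀ : Ideal S₀ := (IsLocalRing.maximalIdeal S).comap (algebraMap S₀ S)
  haveI hq₀ : q₀.IsPrime := Ideal.comap_isPrime _ _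
  have hunit : ∀ r : S₀, r ∉ q₀ → IsUnit (algebraMap S₀ S r) := fun r hr => by
    by_contra h
    exact hr (Ideal.mem_comap.mpr ((IsLocalRing.mem_maximalIdeal _).mpr h))
  haveI hloc₀ : IsLocalization.AtPrime S q₀ := by
    refine IsLocalization.of_le W q₀.primeCompl ?_ ?_
    · intro w hw hwq
      have h1 : IsUnit (algebraMap S₀ S w) := IsLocalization.map_units S (⟨w, hw⟩ : W)
      exact (IsLocalRing.mem_maximalIdeal _).mp (Ideal.mem_comap.mp hwq) h1
    · intro r hr
      exact hunit r hr
  letI : Module S₀ N := Module.compHom N (algebraMap S₀ S)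
  haveI : IsScalarTower S₀ S N := IsScalarTower.of_algebraMap_smul fun r x => rfl
  haveI : IsScalarTower R S₀ N := isScalarTower_mid R S₀ S N
  obtain ⟨N₀, _, _, _, jN₀, hjN₀⟩ :=
    exists_fp_model_of_isLocalization (A := S₀) (A' := S) q₀.primeCompl N
  letI : Module R N₀ := Module.compHom N₀ (algebraMap R S₀)
  haveI : IsScalarTower R S₀ N₀ := IsScalarTower.of_algebraMap_smul fun r x => rfl
  -- the flat locus
  have hopen := Groth.Agent.S0387.result (R := R) (S := S₀) (M := N₀)
  have hmem : (⟨q₀, hq₀⟩ : PrimeSpectrum S₀) ∈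
      {q : PrimeSpectrum S₀ | Module.Flat R (LocalizedModule q.asIdeal.primeCompl N₀)} := by
    show Module.Flat R (LocalizedModule q₀.primeCompl N₀)
    exact (Groth.Agent.Lib.FlatLocFP1H6.flat_iff_of_isLocalizedModule (A := R)
      q₀.primeCompl jN₀).mp inferInstance
  obtain ⟨V, ⟨g, rfl⟩, hgV, hVU⟩ :=
    PrimeSpectrum.isTopologicalBasis_basic_opens.exists_subset_of_mem_open hmem hopen
  have hg : g ∉ q₀ := hgV
  -- the localized algebra
  letI algS₂ : Algebra (Localization.Away g) S :=
    (IsLocalization.Away.lift (S := Localization.Away g) g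
      (g := algebraMap S₀ S) (hunit g hg)).toAlgebra
  haveI tow1 : IsScalarTower S₀ (Localization.Away g) S :=
    IsScalarTower.of_algebraMap_eq' (IsLocalization.Away.lift_comp g (hunit g hg)).symm
  haveI tow2 : IsScalarTower R (Localization.Away g) S :=
    IsScalarTower.of_algebraMap_eq fun r => by
      rw [IsScalarTower.algebraMap_apply R S₀ S, IsScalarTower.algebraMap_apply S₀ (Localization.Away g) S,
        ← IsScalarTower.algebraMap_apply R S₀ (Localization.Away g)]
  haveI : Algebra.FinitePresentation S₀ (Localization.Away g) :=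
    IsLocalization.Away.finitePresentation g
  haveI fpS₂ : Algebra.FinitePresentation R (Localization.Away g) :=
    Algebra.FinitePresentation.trans R S₀ (Localization.Away g)
  let q₂ : Ideal (Localization.Away g) :=
    (IsLocalRing.maximalIdeal S).comap (algebraMap (Localization.Away g) S)
  haveI hq₂ : q₂.IsPrime := Ideal.comap_isPrime _ _
  haveI hloc₂ : IsLocalization.AtPrime S q₂ := by
    have hle : Submonoid.powers g ≤ q₀.primeCompl := by
      rintro _ ⟨n, rfl⟩
      exact q₀.primeCompl.pow_mem hg n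
    haveI := IsLocalization.isLocalization_of_submonoid_le (Localization.Away g) S
      (Submonoid.powers g) q₀.primeCompl hle
    refine IsLocalization.of_le (Submonoid.map (algebraMap S₀ (Localization.Away g)) q₀.primeCompl)
      q₂.primeCompl ?_ ?_
    · rintro _ ⟨r, hr, rfl⟩ hmem
      have h1 : algebraMap (Localization.Away g) S (algebraMap S₀ (Localization.Away g) r) ∈
          IsLocalRing.maximalIdeal S := Ideal.mem_comap.mp hmem
      rw [← IsScalarTower.algebraMap_apply] at h1
      exact hr (Ideal.mem_comap.mpr h1)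
    · intro r hr
      by_contra h
      exact hr (Ideal.mem_comap.mpr ((IsLocalRing.mem_maximalIdeal _).mpr h))
  -- the localized module
  haveI flatN₂ : Module.Flat R (LocalizedModule (Submonoid.powers g) N₀) := by
    refine flat_away_of_forall_flat_atPrime N₀ g fun q hq hgq => ?_
    exact hVU (show (⟨q, hq⟩ : PrimeSpectrum S₀) ∈ (PrimeSpectrum.basicOpen g : Set _) from hgq)
  letI modS₂N : Module (Localization.Away g) N :=
    Module.compHom N (algebraMap (Localization.Away g) S)
  haveI towN : IsScalarTower (Localization.Away g) S N :=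
    IsScalarTower.of_algebraMap_smul fun r x => rfl
  haveI towN' : IsScalarTower S₀ (Localization.Away g) N :=
    IsScalarTower.of_algebraMap_smul fun r x => by
      show algebraMap (Localization.Away g) S (algebraMap S₀ (Localization.Away g) r) • x =
        algebraMap S₀ S r • x
      rw [← IsScalarTower.algebraMap_apply]
  let jN₂ : LocalizedModule (Submonoid.powers g) N₀ →ₗ[Localization.Away g] N :=
    (LocalizedModule.isBaseChange (Submonoid.powers g) N₀).lift jN₀
  have h1 : IsBaseChange S jN₀ := (isLocalizedModule_iff_isBaseChange q₀.primeCompl S jN₀).mp hjN₀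
  have h2 : IsBaseChange S jN₂ := by
    refine IsBaseChange.of_comp (LocalizedModule.isBaseChange (Submonoid.powers g) N₀) ?_
    rw [IsBaseChange.lift_comp]
    exact h1
  exact ⟨Localization.Away g, inferInstance, inferInstance, algS₂, tow2, fpS₂, q₂, hq₂, hloc₂, rfl,
    LocalizedModule (Submonoid.powers g) N₀, inferInstance, inferInstance, inferInstance,
    inferInstance, inferInstance, flatN₂, modS₂N, towN, jN₂,
    (isLocalizedModule_iff_isBaseChange q₂.primeCompl S jN₂).mpr h2⟩

end E1

section Transfer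

variable {R A S : Type u} [CommRing R] [CommRing A] [CommRing S] [Algebra R A] [Algebra A S]
  [Algebra R S] [IsScalarTower R A S] (p : Ideal A) [p.IsPrime] [IsLocalization.AtPrime S p]
  {M₂ N₂ M N : Type u} [AddCommGroup M₂] [Module A M₂] [AddCommGroup N₂] [Module A N₂]
  [Module R N₂] [IsScalarTower R A N₂]
  [AddCommGroup M] [Module S M] [Module A M] [IsScalarTower A S M] [Module R M]
  [IsScalarTower R S M]
  [AddCommGroup N] [Module S N] [Module A N] [IsScalarTower A S N] [Module R N]
  [IsScalarTower R S N]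
  (jM : M₂ →ₗ[A] M) (jN : N₂ →ₗ[A] N) [IsLocalizedModule p.primeCompl jM]
  [IsLocalizedModule p.primeCompl jN]
  (u : M →ₗ[S] N) (u₂ : M₂ →ₗ[A] N₂) (s : A) (hs : s ∉ p)
  (hc : ∀ x, jN (u₂ x) = s • u (jM x))

include hs hc in
theorem transfer_fibre (I : Ideal R)
    (hu : ∀ x, u x ∈ I.map (algebraMap R S) • (⊤ : Submodule S N) →
      x ∈ I.map (algebraMap R S) • (⊤ : Submodule S M))
    (x : M₂) (hx : u₂ x ∈ I.map (algebraMap R A) • (⊤ : Submodule A N₂)) :
    ∃ w, w ∉ p ∧ w • x ∈ I.map (algebraMap R A) • (⊤ : Submodule A M₂) := by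
  haveI : IsScalarTower R A N := isScalarTower_mid R A S N
  haveI : IsScalarTower R A M := isScalarTower_mid R A S M
  have h1 : jN (u₂ x) ∈ I.map (algebraMap R A) • (⊤ : Submodule A N) :=
    Groth.Agent.Lib.FlatDescCH6.map_mem_smul_top _ jN hx
  have h2 : jN (u₂ x) ∈ I.map (algebraMap R S) • (⊤ : Submodule S N) := by
    rw [← Groth.Agent.Lib.FlatDescCH6.mem_smul_top_iff_map I (B := S),
      Groth.Agent.Lib.FlatDescCH6.mem_smul_top_iff_map I (B := A)]
    exact h1
  rw [hc] at h2
  have hsu : IsUnit (algebraMap A S s) := IsLocalization.map_units S (⟨s, hs⟩ : p.primeCompl)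
  obtain ⟨v, hv⟩ := hsu.exists_left_inv
  have h3 : u (jM x) ∈ I.map (algebraMap R S) • (⊤ : Submodule S N) := by
    have := Submodule.smul_mem _ v h2
    rwa [← algebraMap_smul S s, smul_smul, hv, one_smul] at this
  have h4 := hu _ h3
  have h5 : jM x ∈ I.map (algebraMap R A) • (⊤ : Submodule A M) := by
    rw [← Groth.Agent.Lib.FlatDescCH6.mem_smul_top_iff_map I (B := A),
      Groth.Agent.Lib.FlatDescCH6.mem_smul_top_iff_map I (B := S)]
    exact h4
  obtain ⟨t, ht, h6⟩ := exists_smul_mem_of_map_mem p.primeCompl jM _ x h5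
  exact ⟨t, ht, h6⟩

include hs hc in
theorem transfer_injective (K : ∀ x, u₂ x = 0 → ∃ w, w ∉ p ∧ w • x = 0) :
    Function.Injective u := by
  rw [injective_iff_map_eq_zero]
  intro m hm
  obtain ⟨⟨x, t⟩, hxt⟩ := IsLocalizedModule.surj p.primeCompl jM m
  have hxt' : t.1 • m = jM x := hxt
  have h1 : jN (u₂ x) = 0 := by
    rw [hc, ← hxt', LinearMap.map_smul_of_tower, hm, smul_zero, smul_zero]
  obtain ⟨c, hcz⟩ := (IsLocalizedModule.eq_zero_iff p.primeCompl jN).mp h1
  have h2 : u₂ (c.1 • x) = 0 := by
    rw [map_smul]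
    exact hcz
  obtain ⟨w, hw, hwz⟩ := K _ h2
  have h3 : jM x = 0 := by
    rw [IsLocalizedModule.eq_zero_iff p.primeCompl jM]
    refine ⟨⟨w * c.1, p.primeCompl.mul_mem hw c.2⟩, ?_⟩
    show (w * c.1) • x = 0
    rw [mul_smul]
    exact hwz
  rw [h3] at hxt'
  have htu : IsUnit (algebraMap A S t.1) := IsLocalization.map_units S t
  obtain ⟨v, hv⟩ := htu.exists_left_inv
  have := congrArg (fun z => v • z) hxt'
  simp only [smul_zero] at this
  rwa [← algebraMap_smul S t.1, smul_smul, hv, one_smul] at this

include hs hc in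
theorem transfer_flat
    (K : Module.Flat R (LocalizedModule p.primeCompl (N₂ ⧸ LinearMap.range u₂))) :
    Module.Flat R (N ⧸ LinearMap.range u) := by
  haveI : IsScalarTower R A N := isScalarTower_mid R A S N
  have hle : LinearMap.range u₂ ≤
      LinearMap.ker (((LinearMap.range u).mkQ.restrictScalars A) ∘ₗ jN) := by
    rintro _ ⟨x, rfl⟩
    rw [LinearMap.mem_ker, LinearMap.comp_apply, hc]
    show (LinearMap.range u).mkQ (s • u (jM x)) = 0
    rw [Submodule.mkQ_apply, Submodule.Quotient.mk_eq_zero, ← LinearMap.map_smul_of_tower]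
    exact LinearMap.mem_range_self _ _
  let gq : (N₂ ⧸ LinearMap.range u₂) →ₗ[A] (N ⧸ LinearMap.range u) :=
    (LinearMap.range u₂).liftQ _ hle
  have hgq : ∀ y, gq (Submodule.Quotient.mk y) = Submodule.Quotient.mk (jN y) := fun y => rfl
  haveI : IsLocalizedModule p.primeCompl gq := by
    refine ⟨(isLocalizedModule_id p.primeCompl (N ⧸ LinearMap.range u) S).map_units, ?_, ?_⟩
    · intro y
      obtain ⟨n, rfl⟩ := Submodule.Quotient.mk_surjective _ y
      obtain ⟨⟨x, t⟩, hxt⟩ := IsLocalizedModule.surj p.primeCompl jN n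
      have hxt' : t.1 • n = jN x := hxt
      refine ⟨⟨Submodule.Quotient.mk x, t⟩, ?_⟩
      show t.1 • (Submodule.Quotient.mk n : N ⧸ LinearMap.range u) = gq (Submodule.Quotient.mk x)
      rw [hgq, ← hxt']
      rfl
    · intro y₁ y₂ h
      obtain ⟨a, rfl⟩ := Submodule.Quotient.mk_surjective _ y₁
      obtain ⟨b, rfl⟩ := Submodule.Quotient.mk_surjective _ y₂
      rw [hgq, hgq, Submodule.Quotient.eq] at h
      obtain ⟨m, hm⟩ := h
      obtain ⟨⟨x, t⟩, hxt⟩ := IsLocalizedModule.surj p.primeCompl jM m
      have hxt' : t.1 • m = jM x := hxt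
      have h0 : jN ((s * t.1) • (a - b) - u₂ x) = 0 := by
        rw [map_sub, map_smul, map_sub, hc, ← hxt', LinearMap.map_smul_of_tower, hm, mul_smul,
          sub_self]
      obtain ⟨c, hcz⟩ := (IsLocalizedModule.eq_zero_iff p.primeCompl jN).mp h0
      have hcz' : c.1 • ((s * t.1) • (a - b) - u₂ x) = 0 := hcz
      refine ⟨⟨c.1 * (s * t.1), p.primeCompl.mul_mem c.2 (p.primeCompl.mul_mem hs t.2)⟩, ?_⟩
      show (c.1 * (s * t.1)) • (Submodule.Quotient.mk a : N₂ ⧸ LinearMap.range u₂) =
        (c.1 * (s * t.1)) • Submodule.Quotient.mk b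
      rw [← Submodule.Quotient.mk_smul, ← Submodule.Quotient.mk_smul, Submodule.Quotient.eq]
      refine ⟨c.1 • x, ?_⟩
      rw [map_smul, ← smul_sub, mul_smul]
      rw [smul_sub, sub_eq_zero] at hcz'
      exact hcz'.symm
  exact (Groth.Agent.Lib.FlatLocFP1H6.flat_iff_of_isLocalizedModule (A := R) p.primeCompl gq).mpr K

end Transfer

end Groth.Agent.Lib.FibInjH6
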