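import Mathlib
import Groth.Agent.Lib.FibCritB_helper6
import Groth.Agent.Lib.FibInjE_helper6
import Groth.Agent.Lib.FlatDescA_helper6
import Groth.Agent.Lib.FlatLocFP1_helper6
import Groth.Agent.S0387

/-!
# Fibre criterion of flatness, part C (helper6): reductions

* `exists_fibre_flat_away`: fibre flatness at a prime spreads to a basic open neighbourhood.

APPEND-ONLY once landed.
-/

set_option autoImplicit false
set_option linter.style.haveILetI false
open TensorProduct IsLocalRing

namespace Groth.Agent.Lib.FibCritH6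

universe u

set_option maxHeartbeats 1600000 in
/-- Fibre flatness at a prime spreads to a basic open neighbourhood. -/
theorem exists_fibre_flat_away {B D N : Type u} [CommRing B] [CommRing D] [Algebra B D]
    [Algebra.FinitePresentation B D] [AddCommGroup N] [Module D N] [Module B N]
    [IsScalarTower B D N] [Module.FinitePresentation D N] (I : Ideal B) (𝔯 : Ideal D) [𝔯.IsPrime]
    (hI : I.map (algebraMap B D) ≤ 𝔯)
    (h : Module.Flat (B ⧸ I) ((B ⧸ I) ⊗[B] LocalizedModule 𝔯.primeCompl N)) :
    ∃ t : D, t ∉ 𝔯 ∧
      Module.Flat (B ⧸ I) ((B ⧸ I) ⊗[B] LocalizedModule (Submonoid.powers t) N) := by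
  classical
  haveI P : Algebra.IsPushout B (B ⧸ I) D (D ⧸ I.map (algebraMap B D)) :=
    Groth.Agent.Lib.FibInjH6.isPushout_quotient I
  haveI fpC : Algebra.FinitePresentation (B ⧸ I) (D ⧸ I.map (algebraMap B D)) := by
    rw [← RingHom.finitePresentation_algebraMap]
    haveI P' : Algebra.IsPushout B D (B ⧸ I) (D ⧸ I.map (algebraMap B D)) := P.symm
    exact RingHom.finitePresentation_isStableUnderBaseChange B D (B ⧸ I)
      (D ⧸ I.map (algebraMap B D)) (RingHom.finitePresentation_algebraMap.mpr inferInstance)
  -- the key equivalence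
  have key : ∀ T : Submonoid D,
      Module.Flat (B ⧸ I) ((B ⧸ I) ⊗[B] LocalizedModule T N) ↔
      Module.Flat (B ⧸ I) (LocalizedModule
        (Algebra.algebraMapSubmonoid (D ⧸ I.map (algebraMap B D)) T)
        ((D ⧸ I.map (algebraMap B D)) ⊗[D] N)) := by
    intro T
    haveI hloc := Groth.Agent.Lib.FlatDescAH6.isLocalizedModule_lTensor_algebra T
      (LocalizedModule.mkLinearMap T N) (D ⧸ I.map (algebraMap B D))
    rw [← Groth.Agent.Lib.FlatLocFP1H6.flat_iff_of_isLocalizedModule (A := B ⧸ I)
      (Algebra.algebraMapSubmonoid (D ⧸ I.map (algebraMap B D)) T)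
      (AlgebraTensorModule.lTensor (D ⧸ I.map (algebraMap B D)) (D ⧸ I.map (algebraMap B D))
        (LocalizedModule.mkLinearMap T N))]
    exact Module.Flat.equiv_iff (Algebra.IsPushout.cancelBaseChange B (B ⧸ I) D
      (D ⧸ I.map (algebraMap B D)) (LocalizedModule T N)).symm
  -- the prime of the fibre ring
  let 𝔯b : Ideal (D ⧸ I.map (algebraMap B D)) := 𝔯.map (Ideal.Quotient.mk (I.map (algebraMap B D)))
  haveI h𝔯b : 𝔯b.IsPrime := Ideal.map_isPrime_of_surjective Ideal.Quotient.mk_surjective (by
    rw [Ideal.mk_ker]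
    exact hI)
  have hT : Algebra.algebraMapSubmonoid (D ⧸ I.map (algebraMap B D)) 𝔯.primeCompl =
      𝔯b.primeCompl := by
    ext x
    obtain ⟨d, rfl⟩ := Ideal.Quotient.mk_surjective x
    constructor
    · rintro ⟨d', hd', hdd'⟩ hmem
      have h1 : Ideal.Quotient.mk (I.map (algebraMap B D)) d' ∈ 𝔯b := by
        have : algebraMap D (D ⧸ I.map (algebraMap B D)) d' =
          Ideal.Quotient.mk (I.map (algebraMap B D)) d := hdd'
        rw [Ideal.Quotient.algebraMap_eq] at this
        rw [this]
        exact hmem
      exact hd' ((Ideal.mem_quotient_iff_mem hI).mp h1)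
    · intro hmem
      refine ⟨d, ?_, rfl⟩
      intro hd
      exact hmem (Ideal.mem_map_of_mem _ hd)
  have hopen := Groth.Agent.S0387.result (R := B ⧸ I) (S := D ⧸ I.map (algebraMap B D))
    (M := (D ⧸ I.map (algebraMap B D)) ⊗[D] N)
  have hmem : (⟨𝔯b, h𝔯b⟩ : PrimeSpectrum (D ⧸ I.map (algebraMap B D))) ∈
      {q : PrimeSpectrum (D ⧸ I.map (algebraMap B D)) | Module.Flat (B ⧸ I)
        (LocalizedModule q.asIdeal.primeCompl ((D ⧸ I.map (algebraMap B D)) ⊗[D] N))} := by
    show Module.Flat (B ⧸ I)
      (LocalizedModule 𝔯b.primeCompl ((D ⧸ I.map (algebraMap B D)) ⊗[D] N))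
    rw [← hT]
    exact (key 𝔯.primeCompl).mp h
  obtain ⟨V, ⟨tb, rfl⟩, htV, hVU⟩ :=
    PrimeSpectrum.isTopologicalBasis_basic_opens.exists_subset_of_mem_open hmem hopen
  obtain ⟨t, rfl⟩ := Ideal.Quotient.mk_surjective tb
  have ht : t ∉ 𝔯 := fun ht => htV (Ideal.mem_map_of_mem _ ht)
  refine ⟨t, ht, (key (Submonoid.powers t)).mpr ?_⟩
  have hpow : Algebra.algebraMapSubmonoid (D ⧸ I.map (algebraMap B D)) (Submonoid.powers t) =
      Submonoid.powers (Ideal.Quotient.mk (I.map (algebraMap B D)) t) :=
    Submonoid.map_powers _ t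
  rw [hpow]
  refine Groth.Agent.Lib.FibInjH6.flat_away_of_forall_flat_atPrime
    ((D ⧸ I.map (algebraMap B D)) ⊗[D] N) _ fun q hq hgq => ?_
  exact hVU (show (⟨q, hq⟩ : PrimeSpectrum (D ⧸ I.map (algebraMap B D))) ∈
    (PrimeSpectrum.basicOpen (Ideal.Quotient.mk (I.map (algebraMap B D)) t) : Set _) from hgq)

section Spread

set_option maxHeartbeats 1600000 in
/-- **Spreading out an algebra homomorphism** from a finitely presented algebra into a
localization at a prime. -/
theorem exists_spread_hom {R B D S' : Type u} [CommRing R] [CommRing B] [CommRing D] [CommRing S']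
    [Algebra R B] [Algebra R D] [Algebra R S'] [Algebra D S'] [IsScalarTower R D S']
    (𝔯 : Ideal D) [𝔯.IsPrime] [IsLocalization.AtPrime S' 𝔯]
    {n r : ℕ} (πB : MvPolynomial (Fin n) R →ₐ[R] B) (hπ : Function.Surjective πB)
    (g : Fin r → MvPolynomial (Fin n) R)
    (hker : RingHom.ker πB.toRingHom = Ideal.span (Set.range g))
    (φ : B →ₐ[R] S') :
    ∃ t : D, t ∉ 𝔯 ∧ ∃ φt : B →ₐ[R] Localization.Away t,
      ∀ ι : Localization.Away t →+* S',
        ι.comp (algebraMap D (Localization.Away t)) = algebraMap D S' → ∀ b, ι (φt b) = φ b := by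
  classical
  -- Step 1: common denominator
  let y : Fin n → S' := fun i => φ (πB (MvPolynomial.X i))
  obtain ⟨w, hw⟩ := IsLocalization.exist_integer_multiples_of_finite 𝔯.primeCompl y
  have hw' : ∀ i, ∃ a : D, algebraMap D S' a = (w : D) • y i := fun i => hw i
  choose a ha using hw'
  have hwu : IsUnit (algebraMap D S' (w : D)) := IsLocalization.map_units S' w
  -- Step 2: the first localization
  let e : Fin n → Localization.Away (w : D) := fun i =>
    IsLocalization.Away.invSelf (w : D) * algebraMap D (Localization.Away (w : D)) (a i)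
  let θ : MvPolynomial (Fin n) R →ₐ[R] Localization.Away (w : D) := MvPolynomial.aeval e
  let ι₁ : Localization.Away (w : D) →+* S' := IsLocalization.Away.lift (w : D) hwu
  have hι₁ : ∀ d : D, ι₁ (algebraMap D (Localization.Away (w : D)) d) = algebraMap D S' d :=
    fun d => IsLocalization.Away.lift_eq (w : D) hwu d
  have hinv : ι₁ (IsLocalization.Away.invSelf (w : D)) * algebraMap D S' (w : D) = 1 := by
    rw [← hι₁, ← map_mul, mul_comm, IsLocalization.Away.mul_invSelf, map_one]
  have hι₁e : ∀ i, ι₁ (e i) = y i := by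
    intro i
    show ι₁ (IsLocalization.Away.invSelf (w : D) *
      algebraMap D (Localization.Away (w : D)) (a i)) = y i
    rw [map_mul, hι₁, ha, Algebra.smul_def, ← mul_assoc, hinv, one_mul]
  have hι₁θ : ∀ p, ι₁ (θ p) = φ (πB p) := by
    intro p
    have h : ι₁.comp θ.toRingHom = φ.toRingHom.comp πB.toRingHom := by
      apply MvPolynomial.ringHom_ext
      · intro c
        show ι₁ (θ (MvPolynomial.C c)) = φ (πB (MvPolynomial.C c))
        rw [← MvPolynomial.algebraMap_eq, AlgHom.commutes, AlgHom.commutes, AlgHom.commutes,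
          IsScalarTower.algebraMap_apply R D (Localization.Away (w : D)), hι₁,
          ← IsScalarTower.algebraMap_apply]
      · intro i
        show ι₁ (θ (MvPolynomial.X i)) = φ (πB (MvPolynomial.X i))
        rw [MvPolynomial.aeval_X]
        exact hι₁e i
    exact congr($h p)
  have hπg : ∀ j, πB (g j) = 0 := fun j => by
    have h : g j ∈ RingHom.ker πB.toRingHom := by
      rw [hker]
      exact Ideal.subset_span ⟨j, rfl⟩
    exact h
  -- Step 3: kill the relations
  letI alg₁ : Algebra (Localization.Away (w : D)) S' := ι₁.toAlgebra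
  haveI tow₁ : IsScalarTower D (Localization.Away (w : D)) S' :=
    IsScalarTower.of_algebraMap_eq fun d => (hι₁ d).symm
  have hle : Submonoid.powers (w : D) ≤ 𝔯.primeCompl := by
    rintro _ ⟨k, rfl⟩
    exact 𝔯.primeCompl.pow_mem w.2 k
  haveI loc₁ : IsLocalization (𝔯.primeCompl.map (algebraMap D (Localization.Away (w : D)))) S' :=
    IsLocalization.isLocalization_of_submonoid_le (Localization.Away (w : D)) S'
      (Submonoid.powers (w : D)) 𝔯.primeCompl hle
  have hc : ∀ j, ∃ c : D, c ∉ 𝔯 ∧
      algebraMap D (Localization.Away (w : D)) c * θ (g j) = 0 := by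
    intro j
    have h0 : algebraMap (Localization.Away (w : D)) S' (θ (g j)) = 0 := by
      show ι₁ (θ (g j)) = 0
      rw [hι₁θ, hπg, map_zero]
    obtain ⟨⟨_, c, hc, rfl⟩, hm⟩ := (IsLocalization.map_eq_zero_iff
      (𝔯.primeCompl.map (algebraMap D (Localization.Away (w : D)))) S' (θ (g j))).mp h0
    exact ⟨c, hc, hm⟩
  choose c hc𝔯 hc0 using hc
  -- Step 4: the second localization
  let t : D := (w : D) * ∏ j, c j
  have ht : t ∉ 𝔯 := by
    have : t ∈ 𝔯.primeCompl :=
      𝔯.primeCompl.mul_mem w.2 (Submonoid.prod_mem _ fun j _ => hc𝔯 j)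
    exact this
  have htu : IsUnit (algebraMap D (Localization.Away t) t) :=
    IsLocalization.Away.algebraMap_isUnit t
  have hwu₂ : IsUnit (algebraMap D (Localization.Away t) (w : D)) :=
    isUnit_of_dvd_unit (map_dvd (algebraMap D (Localization.Away t)) (Dvd.intro _ rfl)) htu
  have hcu₂ : ∀ j, IsUnit (algebraMap D (Localization.Away t) (c j)) := fun j =>
    isUnit_of_dvd_unit (map_dvd (algebraMap D (Localization.Away t))
      ((Finset.dvd_prod_of_mem c (Finset.mem_univ j)).trans (Dvd.intro_left _ rfl))) htu
  let lam : Localization.Away (w : D) →+* Localization.Away t :=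
    IsLocalization.Away.lift (w : D) hwu₂
  have hlam : ∀ d : D, lam (algebraMap D (Localization.Away (w : D)) d) =
      algebraMap D (Localization.Away t) d := fun d => IsLocalization.Away.lift_eq (w : D) hwu₂ d
  let θ₂ : MvPolynomial (Fin n) R →ₐ[R] Localization.Away t := MvPolynomial.aeval (fun i => lam (e i))
  have hθ₂ : ∀ p, θ₂ p = lam (θ p) := by
    intro p
    have h : θ₂.toRingHom = lam.comp θ.toRingHom := by
      apply MvPolynomial.ringHom_ext
      · intro x
        show θ₂ (MvPolynomial.C x) = lam (θ (MvPolynomial.C x))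
        rw [← MvPolynomial.algebraMap_eq, AlgHom.commutes, AlgHom.commutes,
          IsScalarTower.algebraMap_apply R D (Localization.Away (w : D)), hlam,
          ← IsScalarTower.algebraMap_apply]
      · intro i
        show θ₂ (MvPolynomial.X i) = lam (θ (MvPolynomial.X i))
        rw [MvPolynomial.aeval_X, MvPolynomial.aeval_X]
    exact congr($h p)
  have hθ₂g : ∀ j, θ₂ (g j) = 0 := by
    intro j
    have h1 : algebraMap D (Localization.Away t) (c j) * θ₂ (g j) = 0 := by
      rw [hθ₂, ← hlam, ← map_mul, hc0, map_zero]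
    exact (hcu₂ j).mul_right_eq_zero.mp h1
  have H : RingHom.ker πB.toRingHom ≤ RingHom.ker θ₂.toRingHom := by
    rw [hker]
    refine Ideal.span_le.mpr ?_
    rintro _ ⟨j, rfl⟩
    exact hθ₂g j
  refine ⟨t, ht, AlgHom.liftOfSurjective πB hπ θ₂ H, fun ι hι b => ?_⟩
  obtain ⟨p, rfl⟩ := hπ b
  rw [AlgHom.liftOfSurjective_apply, hθ₂, ← hι₁θ]
  have hcomp : ι.comp lam = ι₁ := by
    apply IsLocalization.ringHom_ext (Submonoid.powers (w : D))
    ext d
    show ι (lam (algebraMap D (Localization.Away (w : D)) d)) =
      ι₁ (algebraMap D (Localization.Away (w : D)) d)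
    rw [hlam, hι₁]
    exact congr($hι d)
  exact congr($hcomp (θ p))

end Spread

section Away

/-- Passing from a model `(D, N)` of `(S', M)` to the model `(D_t, N_t)`. -/
theorem away_package {D S' M N : Type u} [CommRing D] [CommRing S'] [IsLocalRing S']
    [Algebra D S']
    [IsLocalization.AtPrime S' ((maximalIdeal S').comap (algebraMap D S'))]
    [AddCommGroup M] [Module S' M] [Module D M] [IsScalarTower D S' M]
    [AddCommGroup N] [Module D N]
    (jN : N →ₗ[D] M) [IsLocalizedModule ((maximalIdeal S').comap (algebraMap D S')).primeCompl jN]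
    (t : D) (ht : t ∉ (maximalIdeal S').comap (algebraMap D S')) :
    ∃ (_ : Algebra (Localization.Away t) S') (_ : IsScalarTower D (Localization.Away t) S')
      (_ : Module (Localization.Away t) M) (_ : IsScalarTower (Localization.Away t) S' M)
      (_ : IsScalarTower D (Localization.Away t) M)
      (jN' : LocalizedModule (Submonoid.powers t) N →ₗ[Localization.Away t] M),
      IsLocalization.AtPrime S'
        ((maximalIdeal S').comap (algebraMap (Localization.Away t) S')) ∧
      IsLocalizedModule
        ((maximalIdeal S').comap (algebraMap (Localization.Away t) S')).primeCompl jN' ∧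
      ∀ x, jN' (LocalizedModule.mkLinearMap (Submonoid.powers t) N x) = jN x := by
  have hunit : ∀ r : D, r ∉ (maximalIdeal S').comap (algebraMap D S') →
      IsUnit (algebraMap D S' r) := fun r hr => by
    by_contra h
    exact hr (Ideal.mem_comap.mpr ((IsLocalRing.mem_maximalIdeal _).mpr h))
  letI alg : Algebra (Localization.Away t) S' :=
    (IsLocalization.Away.lift (S := Localization.Away t) t
      (g := algebraMap D S') (hunit t ht)).toAlgebra
  haveI tow1 : IsScalarTower D (Localization.Away t) S' :=
    IsScalarTower.of_algebraMap_eq' (IsLocalization.Away.lift_comp t (hunit t ht)).symm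
  haveI hloc₂ : IsLocalization.AtPrime S'
      ((maximalIdeal S').comap (algebraMap (Localization.Away t) S')) := by
    have hle : Submonoid.powers t ≤ ((maximalIdeal S').comap (algebraMap D S')).primeCompl := by
      rintro _ ⟨n, rfl⟩
      exact ((maximalIdeal S').comap (algebraMap D S')).primeCompl.pow_mem ht n
    haveI := IsLocalization.isLocalization_of_submonoid_le (Localization.Away t) S'
      (Submonoid.powers t) ((maximalIdeal S').comap (algebraMap D S')).primeCompl hle
    refine IsLocalization.of_le (Submonoid.map (algebraMap D (Localization.Away t))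
      ((maximalIdeal S').comap (algebraMap D S')).primeCompl)
      ((maximalIdeal S').comap (algebraMap (Localization.Away t) S')).primeCompl ?_ ?_
    · rintro _ ⟨r, hr, rfl⟩ hmem
      have h1 : algebraMap (Localization.Away t) S' (algebraMap D (Localization.Away t) r) ∈
          maximalIdeal S' := Ideal.mem_comap.mp hmem
      rw [← IsScalarTower.algebraMap_apply] at h1
      exact hr (Ideal.mem_comap.mpr h1)
    · intro r hr
      by_contra h
      exact hr (Ideal.mem_comap.mpr ((IsLocalRing.mem_maximalIdeal _).mpr h))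
  letI modM : Module (Localization.Away t) M :=
    Module.compHom M (algebraMap (Localization.Away t) S')
  haveI towM : IsScalarTower (Localization.Away t) S' M :=
    IsScalarTower.of_algebraMap_smul fun r x => rfl
  haveI towM' : IsScalarTower D (Localization.Away t) M :=
    IsScalarTower.of_algebraMap_smul fun r x => by
      show algebraMap (Localization.Away t) S' (algebraMap D (Localization.Away t) r) • x = r • x
      rw [← IsScalarTower.algebraMap_apply, algebraMap_smul]
  let jN₂ : LocalizedModule (Submonoid.powers t) N →ₗ[Localization.Away t] M :=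
    (LocalizedModule.isBaseChange (Submonoid.powers t) N).lift jN
  have h1 : IsBaseChange S' jN :=
    (isLocalizedModule_iff_isBaseChange
      ((maximalIdeal S').comap (algebraMap D S')).primeCompl S' jN).mp inferInstance
  have h2 : IsBaseChange S' jN₂ := by
    refine IsBaseChange.of_comp (LocalizedModule.isBaseChange (Submonoid.powers t) N) ?_
    rw [IsBaseChange.lift_comp]
    exact h1
  exact ⟨alg, tow1, modM, towM, towM', jN₂, hloc₂,
    (isLocalizedModule_iff_isBaseChange
      ((maximalIdeal S').comap (algebraMap (Localization.Away t) S')).primeCompl S' jN₂).mpr h2,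
    fun x => IsBaseChange.lift_eq _ jN x⟩

/-- A local ring essentially of finite presentation is the localization at a prime of a finitely
presented algebra. -/
theorem exists_atPrime_model {R S : Type u} [CommRing R] [CommRing S] [IsLocalRing S] [Algebra R S]
    (hS : CAlgX.IsEssFinitePresentation R S) :
    ∃ (B : Type u) (_ : CommRing B) (_ : Algebra R B) (_ : Algebra B S) (_ : IsScalarTower R B S)
      (_ : Algebra.FinitePresentation R B),
      IsLocalization.AtPrime S ((maximalIdeal S).comap (algebraMap B S)) := by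
  obtain ⟨S₀, _, _, _, _, W, hfp, hloc⟩ := hS
  refine ⟨S₀, inferInstance, inferInstance, inferInstance, inferInstance, hfp, ?_⟩
  refine IsLocalization.of_le W ((maximalIdeal S).comap (algebraMap S₀ S)).primeCompl ?_ ?_
  · intro w hw hwq
    have h1 : IsUnit (algebraMap S₀ S w) := IsLocalization.map_units S (⟨w, hw⟩ : W)
    exact (IsLocalRing.mem_maximalIdeal _).mp (Ideal.mem_comap.mp hwq) h1
  · intro r hr
    by_contra h
    exact hr (Ideal.mem_comap.mpr ((IsLocalRing.mem_maximalIdeal _).mpr h))

end Away

end Groth.Agent.Lib.FibCritH6
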