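import Mathlib
import Groth.Agent.Lib.FibCritC_helper6
import Groth.Agent.Lib.LocalCrit2_helper9
import Groth.Agent.S2106

/-!
# Fibre criterion of flatness, part D (helper6): middle ring essentially of finite type

`fibre_criterion_essFiniteType`: `R → S → S'` local homomorphisms of local rings, `S` essentially of
finite type and `S'` essentially of finite presentation over `R`, `M` a nonzero finitely presented
`S'`-module flat over `R` with `M/𝔪M` flat over `S/𝔪S`.  Then `S` is flat over `R` and `M` is flat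
over `S`.

APPEND-ONLY once landed.
-/

set_option autoImplicit false
set_option linter.style.haveILetI false
open TensorProduct IsLocalRing

namespace Groth.Agent.Lib.FibCritH6

universe u

/-- Modulo an ideal `m` with Noetherian quotient, every ideal of a polynomial ring is generated by
finitely many of its elements. -/
theorem exists_fg_le_mod {R : Type u} [CommRing R] (m : Ideal R) [IsNoetherianRing (R ⧸ m)] {n : ℕ}
    (I : Ideal (MvPolynomial (Fin n) R)) :
    ∃ I₁ : Ideal (MvPolynomial (Fin n) R), I₁ ≤ I ∧ I₁.FG ∧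
      ∀ p ∈ I, ∃ p₁ ∈ I₁, p - p₁ ∈ m.map (MvPolynomial.C : R →+* MvPolynomial (Fin n) R) := by
  classical
  let κ : MvPolynomial (Fin n) R →+* MvPolynomial (Fin n) (R ⧸ m) :=
    MvPolynomial.map (Ideal.Quotient.mk m)
  have hκ : Function.Surjective κ := MvPolynomial.map_surjective _ Ideal.Quotient.mk_surjective
  have hfg : (I.map κ).FG := (isNoetherianRing_iff_ideal_fg _).mp inferInstance _
  obtain ⟨T, hT⟩ := hfg
  have hpre : ∀ t : T, ∃ p ∈ I, κ p = (t : MvPolynomial (Fin n) (R ⧸ m)) := fun t => by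
    have h : (t : MvPolynomial (Fin n) (R ⧸ m)) ∈ I.map κ := by
      rw [← hT]
      exact Submodule.subset_span t.2
    exact (Ideal.mem_map_iff_of_surjective κ hκ).mp h
  choose γ hγI hγ using hpre
  refine ⟨Ideal.span (Set.range γ), Ideal.span_le.mpr (by rintro _ ⟨t, rfl⟩; exact hγI t),
    Submodule.fg_span (Set.finite_range γ), ?_⟩
  intro p hp
  have h1 : κ p ∈ (Ideal.span (Set.range γ)).map κ := by
    rw [Ideal.map_span, ← Set.range_comp]
    have h2 : κ p ∈ I.map κ := Ideal.mem_map_of_mem κ hp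
    rw [← hT] at h2
    refine Submodule.span_mono ?_ h2
    intro t ht
    exact ⟨⟨t, ht⟩, hγ ⟨t, ht⟩⟩
  obtain ⟨p₁, hp₁, hp₁κ⟩ := (Ideal.mem_map_iff_of_surjective κ hκ).mp h1
  refine ⟨p₁, hp₁, ?_⟩
  have h3 : p - p₁ ∈ RingHom.ker κ := by
    rw [RingHom.mem_ker, map_sub, hp₁κ, sub_self]
  rwa [MvPolynomial.ker_map, Ideal.mk_ker] at h3

set_option maxHeartbeats 1600000 in
/-- A local ring essentially of finite type over a local ring is a quotient of a local ring
essentially of finite presentation, with the same closed fibre. -/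
theorem exists_essFP_cover {R S : Type u} [CommRing R] [CommRing S] [IsLocalRing R] [IsLocalRing S]
    [Algebra R S] [Algebra.EssFiniteType R S] :
    ∃ (S₁ : Type u) (_ : CommRing S₁) (_ : IsLocalRing S₁) (_ : Algebra R S₁) (_ : Algebra S₁ S)
      (_ : IsScalarTower R S₁ S) (_ : IsLocalHom (algebraMap S₁ S)),
      CAlgX.IsEssFinitePresentation R S₁ ∧ Function.Surjective (algebraMap S₁ S) ∧
      ∀ s : S₁, algebraMap S₁ S s = 0 → s ∈ (maximalIdeal R).map (algebraMap R S₁) := by
  classical
  obtain ⟨σ, hσ⟩ := (Algebra.essFiniteType_iff R S).mp (inferInstance : Algebra.EssFiniteType R S)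
  haveI ftA₀ : Algebra.FiniteType R (Algebra.adjoin R (σ : Set S)) :=
    (Subalgebra.fg_iff_finiteType _).mp (Subalgebra.fg_adjoin_finset σ)
  obtain ⟨n, π₀, hπ₀⟩ := Algebra.FiniteType.iff_quotient_mvPolynomial''.mp ftA₀
  let ρ : MvPolynomial (Fin n) R →ₐ[R] S := (Algebra.adjoin R (σ : Set S)).val.comp π₀
  have hρ : ∀ a ∈ Algebra.adjoin R (σ : Set S), ∃ p, ρ p = a := fun a ha => by
    obtain ⟨p, hp⟩ := hπ₀ ⟨a, ha⟩
    refine ⟨p, ?_⟩
    show ((π₀ p : Algebra.adjoin R (σ : Set S)) : S) = a
    rw [hp]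
  haveI : IsNoetherianRing (R ⧸ maximalIdeal R) := by
    letI : Field (R ⧸ maximalIdeal R) := Ideal.Quotient.field _
    infer_instance
  obtain ⟨I₁, hI₁I, hI₁fg, hI₁mod⟩ :=
    exists_fg_le_mod (maximalIdeal R) (RingHom.ker ρ.toRingHom)
  haveI fpB₁ : Algebra.FinitePresentation R (MvPolynomial (Fin n) R ⧸ I₁) :=
    Algebra.FinitePresentation.quotient hI₁fg
  let ρ₁ : (MvPolynomial (Fin n) R ⧸ I₁) →ₐ[R] S :=
    Ideal.Quotient.liftₐ I₁ ρ (fun a ha => hI₁I ha)
  letI algB₁S : Algebra (MvPolynomial (Fin n) R ⧸ I₁) S := ρ₁.toRingHom.toAlgebra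
  haveI towRB₁S : IsScalarTower R (MvPolynomial (Fin n) R ⧸ I₁) S :=
    IsScalarTower.of_algebraMap_eq (R := R) (S := MvPolynomial (Fin n) R ⧸ I₁) (A := S)
      fun x => (ρ₁.commutes x).symm
  have hρ₁ : ∀ p, algebraMap (MvPolynomial (Fin n) R ⧸ I₁) S (Ideal.Quotient.mk I₁ p) = ρ p :=
    fun p => rfl
  let q₁ : Ideal (MvPolynomial (Fin n) R ⧸ I₁) :=
    (maximalIdeal S).comap (algebraMap (MvPolynomial (Fin n) R ⧸ I₁) S)
  haveI hq₁ : q₁.IsPrime := Ideal.comap_isPrime _ _
  have hunit : ∀ y : q₁.primeCompl,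
      IsUnit (algebraMap (MvPolynomial (Fin n) R ⧸ I₁) S y) := fun y => by
    have h1 : algebraMap (MvPolynomial (Fin n) R ⧸ I₁) S y ∉ maximalIdeal S := y.2
    rwa [IsLocalRing.mem_maximalIdeal, mem_nonunits_iff, not_not] at h1
  let φ : Localization.AtPrime q₁ →+* S :=
    IsLocalization.lift (M := q₁.primeCompl)
      (g := algebraMap (MvPolynomial (Fin n) R ⧸ I₁) S) hunit
  letI algS₁S : Algebra (Localization.AtPrime q₁) S := φ.toAlgebra
  have hφ : ∀ b : MvPolynomial (Fin n) R ⧸ I₁, algebraMap (Localization.AtPrime q₁) S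
      (algebraMap (MvPolynomial (Fin n) R ⧸ I₁) (Localization.AtPrime q₁) b) =
      algebraMap (MvPolynomial (Fin n) R ⧸ I₁) S b := fun b => IsLocalization.lift_eq _ b
  haveI tw1 : IsScalarTower (MvPolynomial (Fin n) R ⧸ I₁) (Localization.AtPrime q₁) S :=
    IsScalarTower.of_algebraMap_eq (fun b => (hφ b).symm)
  haveI tw2 : IsScalarTower R (Localization.AtPrime q₁) S :=
    IsScalarTower.of_algebraMap_eq (R := R) (S := Localization.AtPrime q₁) (A := S) (fun x => by
      rw [IsScalarTower.algebraMap_apply R (MvPolynomial (Fin n) R ⧸ I₁) (Localization.AtPrime q₁),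
        hφ, ← IsScalarTower.algebraMap_apply R (MvPolynomial (Fin n) R ⧸ I₁) S])
  have hmk : ∀ (x : MvPolynomial (Fin n) R ⧸ I₁) (s : q₁.primeCompl),
      algebraMap (Localization.AtPrime q₁) S (IsLocalization.mk' _ x s) *
        algebraMap (MvPolynomial (Fin n) R ⧸ I₁) S s =
        algebraMap (MvPolynomial (Fin n) R ⧸ I₁) S x := by
    intro x s
    rw [← hφ s, ← hφ x, ← map_mul, IsLocalization.mk'_spec]
  haveI hloc : IsLocalHom (algebraMap (Localization.AtPrime q₁) S) := ⟨fun a ha => by
    obtain ⟨x, s, rfl⟩ := IsLocalization.exists_mk'_eq q₁.primeCompl a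
    have hx : IsUnit (algebraMap (MvPolynomial (Fin n) R ⧸ I₁) S x) := by
      rw [← hmk x s]
      exact ha.mul (hunit s)
    have hxp : x ∈ q₁.primeCompl := by
      intro hx'
      exact ((IsLocalRing.mem_maximalIdeal _).mp hx') hx
    exact (IsLocalization.AtPrime.isUnit_mk'_iff (Localization.AtPrime q₁) q₁ x s).mpr hxp⟩
  refine ⟨Localization.AtPrime q₁, inferInstance, inferInstance, inferInstance, algS₁S, tw2, hloc,
    ⟨MvPolynomial (Fin n) R ⧸ I₁, inferInstance, inferInstance, inferInstance, inferInstance,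
      q₁.primeCompl, fpB₁, Localization.isLocalization⟩, ?_, ?_⟩
  · -- surjectivity
    intro a
    obtain ⟨t, ht, htu, hat⟩ := hσ a
    obtain ⟨pt, hpt⟩ := hρ t ht
    obtain ⟨pa, hpa⟩ := hρ (a * t) hat
    have htq : Ideal.Quotient.mk I₁ pt ∈ q₁.primeCompl := by
      intro hmem
      have h1 : algebraMap (MvPolynomial (Fin n) R ⧸ I₁) S (Ideal.Quotient.mk I₁ pt) ∈
          maximalIdeal S := hmem
      rw [hρ₁, hpt] at h1
      exact ((IsLocalRing.mem_maximalIdeal _).mp h1) htu
    refine ⟨IsLocalization.mk' _ (Ideal.Quotient.mk I₁ pa) ⟨Ideal.Quotient.mk I₁ pt, htq⟩, ?_⟩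
    have h2 := hmk (Ideal.Quotient.mk I₁ pa) ⟨Ideal.Quotient.mk I₁ pt, htq⟩
    rw [hρ₁, hρ₁, hpt, hpa] at h2
    exact htu.mul_left_injective h2
  · -- the kernel lies in `𝔪 S₁`
    intro s hs
    obtain ⟨x, y, rfl⟩ := IsLocalization.exists_mk'_eq q₁.primeCompl s
    have hx0 : algebraMap (MvPolynomial (Fin n) R ⧸ I₁) S x = 0 := by
      rw [← hmk x y, hs, zero_mul]
    obtain ⟨p, rfl⟩ := Ideal.Quotient.mk_surjective x
    have hpker : p ∈ RingHom.ker ρ.toRingHom := by
      rw [RingHom.mem_ker]
      exact hx0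
    obtain ⟨p₁, hp₁, hdiff⟩ := hI₁mod p hpker
    have hmkp : Ideal.Quotient.mk I₁ p = Ideal.Quotient.mk I₁ (p - p₁) := by
      rw [map_sub, Ideal.Quotient.eq_zero_iff_mem.mpr hp₁, sub_zero]
    have hxm : Ideal.Quotient.mk I₁ p ∈
        (maximalIdeal R).map (algebraMap R (MvPolynomial (Fin n) R ⧸ I₁)) := by
      rw [hmkp]
      have h1 := Ideal.mem_map_of_mem (Ideal.Quotient.mk I₁) hdiff
      rwa [Ideal.map_map] at h1
    have hxm' : algebraMap (MvPolynomial (Fin n) R ⧸ I₁) (Localization.AtPrime q₁)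
        (Ideal.Quotient.mk I₁ p) ∈ (maximalIdeal R).map (algebraMap R (Localization.AtPrime q₁)) := by
      have h1 := Ideal.mem_map_of_mem
        (algebraMap (MvPolynomial (Fin n) R ⧸ I₁) (Localization.AtPrime q₁)) hxm
      rwa [Ideal.map_map, ← IsScalarTower.algebraMap_eq] at h1
    rw [IsLocalization.mk'_eq_mul_mk'_one]
    exact Ideal.mul_mem_right _ _ hxm'

set_option maxHeartbeats 1600000 in
/-- **Fibre criterion of flatness**, the middle ring being only essentially of finite type. -/
theorem fibre_criterion_essFiniteType {R S S' M : Type u} [CommRing R] [CommRing S] [CommRing S']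
    [IsLocalRing R] [IsLocalRing S] [IsLocalRing S'] [Algebra R S] [Algebra S S'] [Algebra R S']
    [IsScalarTower R S S'] [IsLocalHom (algebraMap R S)] [IsLocalHom (algebraMap S S')]
    [Algebra.EssFiniteType R S] (hS' : CAlgX.IsEssFinitePresentation R S')
    [AddCommGroup M] [Module S' M] [Module S M] [Module R M] [IsScalarTower S S' M]
    [IsScalarTower R S' M] [IsScalarTower R S M] [Module.FinitePresentation S' M] [Nontrivial M]
    [Module.Flat R M]
    (hfib : Module.Flat (S ⧸ (maximalIdeal R).map (algebraMap R S))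
      (M ⧸ (maximalIdeal R).map (algebraMap R S) • (⊤ : Submodule S M))) :
    Module.Flat R S ∧ Module.Flat S M := by
  classical
  obtain ⟨S₁, _, _, _, _, _, _, hS₁, hsurj, hker⟩ := exists_essFP_cover (R := R) (S := S)
  letI algS₁S' : Algebra S₁ S' := ((algebraMap S S').comp (algebraMap S₁ S)).toAlgebra
  haveI towS₁SS' : IsScalarTower S₁ S S' := IsScalarTower.of_algebraMap_eq fun _ => rfl
  haveI towRS₁S' : IsScalarTower R S₁ S' := IsScalarTower.of_algebraMap_eq fun x => by
    show algebraMap R S' x = algebraMap S S' (algebraMap S₁ S (algebraMap R S₁ x))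
    rw [← IsScalarTower.algebraMap_apply R S₁ S, ← IsScalarTower.algebraMap_apply R S S']
  haveI locRS₁ : IsLocalHom (algebraMap R S₁) := ⟨fun a ha => by
    have h1 : IsUnit (algebraMap R S a) := by
      rw [IsScalarTower.algebraMap_apply R S₁ S]
      exact ha.map _
    exact isUnit_of_map_unit (algebraMap R S) a h1⟩
  haveI locS₁S' : IsLocalHom (algebraMap S₁ S') := ⟨fun a ha => by
    have h1 : IsUnit (algebraMap S₁ S a) := isUnit_of_map_unit (algebraMap S S') _ ha
    exact isUnit_of_map_unit (algebraMap S₁ S) a h1⟩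
  letI modS₁M : Module S₁ M := Module.compHom M (algebraMap S₁ S)
  haveI towS₁SM : IsScalarTower S₁ S M := IsScalarTower.of_algebraMap_smul fun _ _ => rfl
  haveI towS₁S'M : IsScalarTower S₁ S' M := IsScalarTower.of_algebraMap_smul fun s x => by
    show algebraMap S S' (algebraMap S₁ S s) • x = algebraMap S₁ S s • x
    exact algebraMap_smul S' _ x
  haveI towRS₁M : IsScalarTower R S₁ M := IsScalarTower.of_algebraMap_smul fun r x => by
    show algebraMap S₁ S (algebraMap R S₁ r) • x = r • x
    rw [← IsScalarTower.algebraMap_apply R S₁ S, algebraMap_smul]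
  -- the fibre condition over `S₁`
  have h3 : Module.Flat (S ⧸ (maximalIdeal R).map (algebraMap R S))
      ((S ⧸ (maximalIdeal R).map (algebraMap R S)) ⊗[S] M) :=
    Module.Flat.of_linearEquiv ((TensorProduct.quotTensorEquivQuotSMul M
      ((maximalIdeal R).map (algebraMap R S))).extendScalarsOfSurjective
        Ideal.Quotient.mk_surjective)
  have hJ : ((maximalIdeal R).map (algebraMap R S₁)).map (algebraMap S₁ S) =
      (maximalIdeal R).map (algebraMap R S) := by
    rw [Ideal.map_map, ← IsScalarTower.algebraMap_eq]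
  have h4 : Module.Flat (S ⧸ ((maximalIdeal R).map (algebraMap R S₁)).map (algebraMap S₁ S))
      ((S ⧸ ((maximalIdeal R).map (algebraMap R S₁)).map (algebraMap S₁ S)) ⊗[S] M) := by
    have : ∀ J : Ideal S, J = (maximalIdeal R).map (algebraMap R S) →
        Module.Flat (S ⧸ J) ((S ⧸ J) ⊗[S] M) := by
      rintro _ rfl
      exact h3
    exact this _ hJ
  haveI P : Algebra.IsPushout S₁ (S₁ ⧸ (maximalIdeal R).map (algebraMap R S₁)) S
      (S ⧸ ((maximalIdeal R).map (algebraMap R S₁)).map (algebraMap S₁ S)) :=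
    Groth.Agent.Lib.FibInjH6.isPushout_quotient _
  have hbij : Function.Bijective (algebraMap (S₁ ⧸ (maximalIdeal R).map (algebraMap R S₁))
      (S ⧸ ((maximalIdeal R).map (algebraMap R S₁)).map (algebraMap S₁ S))) := by
    constructor
    · rw [injective_iff_map_eq_zero]
      intro x hx
      obtain ⟨s, rfl⟩ := Ideal.Quotient.mk_surjective x
      rw [Ideal.Quotient.algebraMap_quotient_map_quotient, Ideal.Quotient.eq_zero_iff_mem] at hx
      obtain ⟨j, hj, hjs⟩ := (Ideal.mem_map_iff_of_surjective (algebraMap S₁ S) hsurj).mp hx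
      have h1 : s - j ∈ (maximalIdeal R).map (algebraMap R S₁) :=
        hker _ (by rw [map_sub, hjs, sub_self])
      have h2 : s = (s - j) + j := by ring
      rw [Ideal.Quotient.eq_zero_iff_mem, h2]
      exact add_mem h1 hj
    · intro y
      obtain ⟨a, rfl⟩ := Ideal.Quotient.mk_surjective y
      obtain ⟨s, rfl⟩ := hsurj a
      exact ⟨Ideal.Quotient.mk _ s, rfl⟩
  haveI h5 : Module.Flat (S₁ ⧸ (maximalIdeal R).map (algebraMap R S₁))
      (S ⧸ ((maximalIdeal R).map (algebraMap R S₁)).map (algebraMap S₁ S)) :=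
    Module.Flat.of_linearEquiv (LinearEquiv.ofBijective (Algebra.linearMap _ _) hbij).symm
  haveI := h4
  haveI h6 : Module.Flat (S₁ ⧸ (maximalIdeal R).map (algebraMap R S₁))
      ((S ⧸ ((maximalIdeal R).map (algebraMap R S₁)).map (algebraMap S₁ S)) ⊗[S] M) :=
    Module.Flat.trans (S₁ ⧸ (maximalIdeal R).map (algebraMap R S₁))
      (S ⧸ ((maximalIdeal R).map (algebraMap R S₁)).map (algebraMap S₁ S)) _
  haveI h7 : Module.Flat (S₁ ⧸ (maximalIdeal R).map (algebraMap R S₁))
      ((S₁ ⧸ (maximalIdeal R).map (algebraMap R S₁)) ⊗[S₁] M) :=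
    Module.Flat.of_linearEquiv (Algebra.IsPushout.cancelBaseChange S₁
      (S₁ ⧸ (maximalIdeal R).map (algebraMap R S₁)) S
      (S ⧸ ((maximalIdeal R).map (algebraMap R S₁)).map (algebraMap S₁ S)) M).symm
  have hfib₁ : Module.Flat (S₁ ⧸ (maximalIdeal R).map (algebraMap R S₁))
      (M ⧸ (maximalIdeal R).map (algebraMap R S₁) • (⊤ : Submodule S₁ M)) :=
    Module.Flat.of_linearEquiv ((TensorProduct.quotTensorEquivQuotSMul M
      ((maximalIdeal R).map (algebraMap R S₁))).extendScalarsOfSurjective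
        Ideal.Quotient.mk_surjective).symm
  obtain ⟨hRS₁, hS₁M⟩ := Groth.Agent.S2106.result (R := R) (S := S₁) (S' := S') (M := M)
    hS₁ hS' hfib₁
  -- `M` is faithfully flat over `S₁`
  haveI ffS₁M : Module.FaithfullyFlat S₁ M :=
    { toFlat := hS₁M
      submodule_ne_top := by
        intro m hm htop
        rw [IsLocalRing.eq_maximalIdeal hm] at htop
        have hle : (⊤ : Submodule S' M) ≤ (maximalIdeal S') • (⊤ : Submodule S' M) := by
          intro x _
          have hx : x ∈ (maximalIdeal S₁) • (⊤ : Submodule S₁ M) := by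
            rw [htop]; trivial
          refine Submodule.smul_induction_on
            (p := fun x => x ∈ (maximalIdeal S') • (⊤ : Submodule S' M)) hx ?_ ?_
          · intro s hs y _
            rw [← algebraMap_smul S' s y]
            exact Submodule.smul_mem_smul (map_nonunit (algebraMap S₁ S') s hs)
              Submodule.mem_top
          · intro y z hy hz
            exact add_mem hy hz
        have hbot := Submodule.eq_bot_of_le_smul_of_le_jacobson_bot (maximalIdeal S')
          (⊤ : Submodule S' M) Module.Finite.fg_top hle (IsLocalRing.maximalIdeal_le_jacobson ⊥)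
        obtain ⟨x, y, hxy⟩ := exists_pair_ne M
        have hx : x ∈ (⊥ : Submodule S' M) := by rw [← hbot]; trivial
        have hy : y ∈ (⊥ : Submodule S' M) := by rw [← hbot]; trivial
        rw [Submodule.mem_bot] at hx hy
        exact hxy (hx.trans hy.symm) }
  -- `S₁ → S` is injective
  have hinj : Function.Injective (algebraMap S₁ S) := by
    rw [injective_iff_map_eq_zero]
    intro j hj
    have hjM : ∀ x : M, j • x = 0 := fun x => by
      rw [← algebraMap_smul S j x, hj, zero_smul]
    have hf : LinearMap.toSpanSingleton S₁ S₁ j = 0 := by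
      rw [Module.FaithfullyFlat.zero_iff_lTensor_zero S₁ M]
      apply TensorProduct.ext'
      intro x s
      rw [LinearMap.lTensor_tmul, LinearMap.toSpanSingleton_apply, LinearMap.zero_apply,
        smul_eq_mul, ← mul_one (s * j), ← smul_eq_mul (s * j) 1, ← TensorProduct.smul_tmul,
        mul_smul, hjM, smul_zero, TensorProduct.zero_tmul]
    have h1 := congr($hf 1)
    rwa [LinearMap.toSpanSingleton_apply, one_smul, LinearMap.zero_apply] at h1
  have hbij' : Function.Bijective (algebraMap S₁ S) := ⟨hinj, hsurj⟩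
  refine ⟨?_, ?_⟩
  · exact Module.Flat.of_linearEquiv
      (LinearEquiv.ofBijective (IsScalarTower.toAlgHom R S₁ S).toLinearMap hbij').symm
  · haveI : IsLocalization (⊥ : Submonoid S₁) S :=
      IsLocalization.of_le_isUnit_of_bijective (by
        rintro _ ⟨x, hx, rfl⟩
        rw [Submonoid.mem_bot.mp hx, map_one]
        exact isUnit_one) hbij'
    exact (Module.flat_iff_of_isLocalization S (⊥ : Submonoid S₁) M).mpr hS₁M

end Groth.Agent.Lib.FibCritH6
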