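import Mathlib
import Groth.Agent.Lib.FibStalkDim_helper8
import Groth.Agent.Lib.FibRes2_helper8

/-! The kernel of `O_{X,x} → O_{X_y,x}` is `m_y O_{X,x}` (when the fibre stalk is reduced), hence
`m_y O_{X,x}` is radical if the fibre is reduced at `x`. -/

universe u
open AlgebraicGeometry CategoryTheory CategoryTheory.Limits TopologicalSpace IsLocalRing

namespace FibRedH8

open Groth.Agent.FibStalkDimH8

variable {X Y : Scheme.{u}} (f : X ⟶ Y) (x : X)

theorem spec_ι : (f.fiberι (f.base x)).base (f.asFiber x) ⤳ x := by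
  rw [show (f.fiberι (f.base x)).base (f.asFiber x) = x from f.fiberι_asFiber x]

/-- the canonical map `O_{X,x} → O_{X_y,x}`. -/
noncomputable def toFib :
    X.presheaf.stalk x ⟶ (f.fiber (f.base x)).presheaf.stalk (f.asFiber x) :=
  X.presheaf.stalkSpecializes (spec_ι f x) ≫ (f.fiberι (f.base x)).stalkMap (f.asFiber x)

theorem germ_toFib (U : X.Opens) (hxU : x ∈ U) :
    X.presheaf.germ U x hxU ≫ toFib f x =
      (f.fiberι (f.base x)).app U ≫ (f.fiber (f.base x)).presheaf.germ
        ((f.fiberι (f.base x)) ⁻¹ᵁ U) (f.asFiber x)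
        (show (f.fiberι (f.base x)).base (f.asFiber x) ∈ U by
          rw [show (f.fiberι (f.base x)).base (f.asFiber x) = x from f.fiberι_asFiber x]
          exact hxU) := by
  unfold toFib
  rw [TopCat.Presheaf.germ_stalkSpecializes_assoc, Scheme.Hom.germ_stalkMap]

/-- `K2`: the kernel of `toFib` is contained in `m_y O_x`. -/
theorem mem_fibIdeal_of_toFib_eq_zero (b : X.presheaf.stalk x)
    (hb : (toFib f x).hom b = 0) : b ∈ fibIdeal f x := by
  set I := fibIdeal f x with hIdef
  have hI : I ≤ maximalIdeal (X.presheaf.stalk x) :=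
    ((IsLocalRing.local_hom_TFAE (f.stalkMap x).hom).out 0 2).mp
      (inferInstance : IsLocalHom (f.stalkMap x).hom)
  haveI : IsLocalRing (X.presheaf.stalk x ⧸ I) := Groth.Agent.FibDim.isLocalRing_quot hI
  let R : CommRingCat.{u} := CommRingCat.of (X.presheaf.stalk x ⧸ I)
  haveI : IsLocalRing R := inferInstanceAs (IsLocalRing (X.presheaf.stalk x ⧸ I))
  let q : X.presheaf.stalk x ⟶ R := CommRingCat.ofHom (Ideal.Quotient.mk I)
  haveI : IsLocalHom q.hom := by
    constructor
    intro a ha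
    exact Groth.Agent.FibDim.isUnit_of_isUnit_mk hI ha
  let g₁ : Spec R ⟶ X := Spec.map q ≫ X.fromSpecStalk x
  let k : Y.residueField (f.base x) ⟶ R :=
    CommRingCat.ofHom (Ideal.Quotient.lift (maximalIdeal (Y.presheaf.stalk (f.base x)))
      ((Ideal.Quotient.mk I).comp (f.stalkMap x).hom) (by
        intro a ha
        exact Ideal.Quotient.eq_zero_iff_mem.mpr (Ideal.mem_map_of_mem _ ha)))
  let g₂ : Spec R ⟶ Spec (Y.residueField (f.base x)) := Spec.map k
  have hk : Y.residue (f.base x) ≫ k = f.stalkMap x ≫ q := by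
    ext a
    rfl
  have w : g₁ ≫ f = g₂ ≫ Y.fromSpecResidueField (f.base x) := by
    show (Spec.map q ≫ X.fromSpecStalk x) ≫ f = Spec.map k ≫ Y.fromSpecResidueField (f.base x)
    rw [Category.assoc, ← Scheme.SpecMap_stalkMap_fromSpecStalk, Scheme.fromSpecResidueField,
      ← Spec.map_comp_assoc, ← Spec.map_comp_assoc, hk]
  let g : Spec R ⟶ f.fiber (f.base x) := pullback.lift g₁ g₂ w
  have hg : g ≫ f.fiberι (f.base x) = Spec.map q ≫ X.fromSpecStalk x := pullback.lift_fst _ _ _
  -- the closed point goes to `asFiber x`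
  have hc : g.base (closedPoint R) = f.asFiber x := by
    apply (f.fiberι (f.base x)).isEmbedding.injective
    rw [f.fiberι_asFiber x]
    have h1 : (f.fiberι (f.base x)).base (g.base (closedPoint R)) =
        (g ≫ f.fiberι (f.base x)).base (closedPoint R) := rfl
    rw [h1, hg, Scheme.Hom.comp_apply, Spec_closedPoint, Scheme.fromSpecStalk_closedPoint]
  obtain ⟨U, hxU, s, rfl⟩ := TopCat.Presheaf.exists_germ_eq X.presheaf b
  -- Lemma A
  have hA : ∀ (g₁' : Spec R ⟶ X) (e : g₁' = Spec.map q ≫ X.fromSpecStalk x)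
      (hU : g₁'.base (closedPoint R) ∈ U),
      X.presheaf.germ U _ hU ≫ Scheme.stalkClosedPointTo g₁' = X.presheaf.germ U x hxU ≫ q := by
    rintro _ rfl hU
    exact Scheme.germ_stalkClosedPointTo_Spec_fromSpecStalk q U hU
  have hU' : (g ≫ f.fiberι (f.base x)).base (closedPoint R) ∈ U := by
    rw [hg, Scheme.Hom.comp_apply, Spec_closedPoint, Scheme.fromSpecStalk_closedPoint]
    exact hxU
  have h2 := hA (g ≫ f.fiberι (f.base x)) hg hU'
  rw [Scheme.stalkClosedPointTo_comp] at h2
  have h3 : X.presheaf.germ U ((f.fiberι (f.base x)).base (g.base (closedPoint R))) hU' ≫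
      (f.fiberι (f.base x)).stalkMap (g.base (closedPoint R)) =
      (f.fiberι (f.base x)).app U ≫ (f.fiber (f.base x)).presheaf.germ
        ((f.fiberι (f.base x)) ⁻¹ᵁ U) (g.base (closedPoint R)) hU' :=
    Scheme.Hom.germ_stalkMap _ _ _ _
  have h4 : X.presheaf.germ U x hxU ≫ q =
      (f.fiberι (f.base x)).app U ≫ (f.fiber (f.base x)).presheaf.germ
        ((f.fiberι (f.base x)) ⁻¹ᵁ U) (g.base (closedPoint R)) hU' ≫ Scheme.stalkClosedPointTo g := by
    rw [← h2]
    exact (reassoc_of% h3) _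
  -- the germ at `g c` vanishes
  have hb' : ((f.fiberι (f.base x)).app U ≫ (f.fiber (f.base x)).presheaf.germ
        ((f.fiberι (f.base x)) ⁻¹ᵁ U) (f.asFiber x) (by
          show (f.fiberι (f.base x)).base (f.asFiber x) ∈ U
          rw [show (f.fiberι (f.base x)).base (f.asFiber x) = x from f.fiberι_asFiber x]
          exact hxU)).hom s = 0 := by
    rw [← germ_toFib f x U hxU]
    exact hb
  have key : ∀ (z' : ↥(f.fiber (f.base x))) (hz' : z' = f.asFiber x)
      (hm : z' ∈ (f.fiberι (f.base x)) ⁻¹ᵁ U),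
      ((f.fiberι (f.base x)).app U ≫ (f.fiber (f.base x)).presheaf.germ
        ((f.fiberι (f.base x)) ⁻¹ᵁ U) z' hm).hom s = 0 := by
    rintro _ rfl hm
    exact hb'
  have h5 := key _ hc hU'
  have h6 : q.hom ((X.presheaf.germ U x hxU).hom s) = 0 := by
    have := congrArg (fun φ => φ.hom s) h4
    simp only [CommRingCat.hom_comp, RingHom.comp_apply] at this h5
    rw [this, h5, map_zero]
  exact Ideal.Quotient.eq_zero_iff_mem.mp h6

theorem spec_comp :
    Spec.map (f.stalkMap x ≫ toFib f x) ≫ Y.fromSpecStalk (f.base x) =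
      (f.fiber (f.base x)).fromSpecStalk (f.asFiber x) ≫ f.fiberι (f.base x) ≫ f := by
  unfold toFib
  rw [Spec.map_comp, Spec.map_comp, Category.assoc, Category.assoc,
    Scheme.SpecMap_stalkMap_fromSpecStalk, Scheme.SpecMap_stalkSpecializes_fromSpecStalk_assoc,
    Scheme.SpecMap_stalkMap_fromSpecStalk_assoc]

/-- `K1`: `m_y O_x` is killed by `toFib` if the fibre stalk is reduced. -/
theorem toFib_eq_zero_of_mem
    [hred : _root_.IsReduced ((f.fiber (f.base x)).presheaf.stalk (f.asFiber x))]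
    (b : X.presheaf.stalk x) (hb : b ∈ fibIdeal f x) : (toFib f x).hom b = 0 := by
  suffices h : fibIdeal f x ≤ RingHom.ker (toFib f x).hom from h hb
  rw [Ideal.map_le_iff_le_comap]
  intro a ha
  show (toFib f x).hom ((f.stalkMap x).hom a) = 0
  apply IsNilpotent.eq_zero
  rw [← mem_nilradical, nilradical_eq_sInf, Ideal.mem_sInf]
  intro Q hQ
  have hQ' : Q.IsPrime := hQ
  let Qp : Spec ((f.fiber (f.base x)).presheaf.stalk (f.asFiber x)) := ⟨Q, hQ'⟩
  have h1 := congrArg (fun φ => φ.base Qp) (spec_comp f x)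
  have h2 : ((f.fiber (f.base x)).fromSpecStalk (f.asFiber x) ≫ f.fiberι (f.base x) ≫ f).base Qp
      = f.base x := Groth.Agent.FibRes2H8.fiberι_mem f _ _
  have h3 : (Spec.map (f.stalkMap x ≫ toFib f x)).base Qp =
      closedPoint (Y.presheaf.stalk (f.base x)) := by
    apply (Y.fromSpecStalk (f.base x)).isEmbedding.injective
    rw [Scheme.fromSpecStalk_closedPoint]
    exact h1.trans h2
  have h4 : Q.comap (f.stalkMap x ≫ toFib f x).hom = maximalIdeal _ :=
    congrArg PrimeSpectrum.asIdeal h3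
  have h5 : a ∈ Q.comap (f.stalkMap x ≫ toFib f x).hom := by rw [h4]; exact ha
  exact h5

theorem fibIdeal_isRadical
    [hred : _root_.IsReduced ((f.fiber (f.base x)).presheaf.stalk (f.asFiber x))] :
    (fibIdeal f x).IsRadical := by
  intro b hb
  obtain ⟨n, hn⟩ := hb
  have h1 := toFib_eq_zero_of_mem f x _ hn
  rw [map_pow] at h1
  have h2 : (toFib f x).hom b = 0 := eq_zero_of_pow_eq_zero h1
  exact mem_fibIdeal_of_toFib_eq_zero f x b h2

end FibRedH8
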