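import Mathlib
import Groth.Agent.Lib.FibRed_helper8

/-!
# The kernel of the stalk map of `fiberι` at an arbitrary point of an arbitrary fibre
-/

namespace Groth.Agent.Lib.FibKerH6

open AlgebraicGeometry CategoryTheory IsLocalRing
open Groth.Agent.FibStalkDimH8 FibRedH8

universe u

variable {X S : Scheme.{u}}

/-- `stalkSpecializes` between equal points maps the maximal ideal into the maximal ideal. -/
theorem stalkSpecializes_mem_maximalIdeal {a b : S} (hab : a = b) (h : a ⤳ b)
    (r : S.presheaf.stalk b) (hr : r ∈ maximalIdeal (S.presheaf.stalk b)) :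
    (S.presheaf.stalkSpecializes h).hom r ∈ maximalIdeal (S.presheaf.stalk a) := by
  subst hab
  have : S.presheaf.stalkSpecializes h = 𝟙 _ := TopCat.Presheaf.stalkSpecializes_refl _ _
  rw [this]
  exact hr

theorem ker_stalkMap_fiberι_le (f : X ⟶ S) (s : S) (z : f.fiber s) :
    RingHom.ker ((f.fiberι s).stalkMap z).hom ≤
      Ideal.map (f.stalkMap ((f.fiberι s) z)).hom
        (maximalIdeal (S.presheaf.stalk (f ((f.fiberι s) z)))) := by
  have key : ∀ (x : X) (s : S) (hs : f x = s) (z : f.fiber s) (hz : (f.fiberι s) z = x),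
      RingHom.ker ((f.fiberι s).stalkMap z).hom ≤
        Ideal.map (f.stalkMap ((f.fiberι s) z)).hom
          (maximalIdeal (S.presheaf.stalk (f ((f.fiberι s) z)))) := by
    intro x s hs
    subst hs
    intro z hz
    obtain rfl : z = f.asFiber x :=
      (f.fiberι (f x)).isEmbedding.injective (hz.trans (f.fiberι_asFiber x).symm)
    intro b hb
    rw [RingHom.mem_ker] at hb
    have hp : (f.fiberι (f x)) (f.asFiber x) = x := f.fiberι_asFiber x
    have h' : x ⤳ (f.fiberι (f x)) (f.asFiber x) := by rw [hp]
    have h'' : (f.fiberι (f x)) (f.asFiber x) ⤳ x := by rw [hp]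
    have hcomp : X.presheaf.stalkSpecializes h' ≫ X.presheaf.stalkSpecializes h'' = 𝟙 _ := by
      rw [TopCat.Presheaf.stalkSpecializes_comp, TopCat.Presheaf.stalkSpecializes_refl]
    have hbb : (X.presheaf.stalkSpecializes h'').hom ((X.presheaf.stalkSpecializes h').hom b) = b := by
      have := congrArg (fun φ => φ.hom b) hcomp
      simpa using this
    have hb' : (toFib f x).hom ((X.presheaf.stalkSpecializes h').hom b) = 0 := by
      show ((f.fiberι (f x)).stalkMap (f.asFiber x)).hom
        ((X.presheaf.stalkSpecializes (spec_ι f x)).hom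
          ((X.presheaf.stalkSpecializes h').hom b)) = 0
      rw [hbb]
      exact hb
    have hmem := mem_fibIdeal_of_toFib_eq_zero f x _ hb'
    rw [← hbb]
    -- transport along `stalkSpecializes h''`
    have hle : fibIdeal f x ≤ Ideal.comap (X.presheaf.stalkSpecializes h'').hom
        (Ideal.map (f.stalkMap ((f.fiberι (f x)) (f.asFiber x))).hom
          (maximalIdeal (S.presheaf.stalk (f ((f.fiberι (f x)) (f.asFiber x)))))) := by
      rw [Ideal.map_le_iff_le_comap]
      intro a ha
      rw [Ideal.mem_comap, Ideal.mem_comap]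
      have hnat := Scheme.Hom.stalkSpecializes_stalkMap_apply f _ _ h'' a
      rw [← hnat]
      refine Ideal.mem_map_of_mem _ ?_
      exact stalkSpecializes_mem_maximalIdeal (congrArg (fun p => f p) hp) _ a ha
    exact hle hmem
  exact key ((f.fiberι s) z) s (by
    have := (f.fiberHomeo s z).2
    rw [Set.mem_preimage, Set.mem_singleton_iff, Scheme.Hom.fiberHomeo_apply] at this
    exact this) z rfl

end Groth.Agent.Lib.FibKerH6
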