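import Mathlib

/-!
# Dictionary between points of an affine open and primes of its ring of sections (helper3)
-/

set_option autoImplicit false
universe u
open CategoryTheory AlgebraicGeometry TopologicalSpace

namespace Groth.Agent.Lib.AffStalk_helper3

variable {X : Scheme.{u}} {U : X.Opens}

lemma mem_zeroLocus_iff (hU : IsAffineOpen U) (s : Set Γ(X, U)) (x : U) :
    (x : X) ∈ X.zeroLocus (U := U) s ↔ s ⊆ (hU.primeIdealOf x).asIdeal := by
  have h := hU.fromSpec_preimage_zeroLocus s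
  have h3 : hU.fromSpec (hU.primeIdealOf x) ∈ X.zeroLocus (U := U) s ↔
      (hU.primeIdealOf x) ∈ PrimeSpectrum.zeroLocus s := by
    rw [← h]; exact Iff.rfl
  rw [hU.fromSpec_primeIdealOf x] at h3
  exact h3.trans (PrimeSpectrum.mem_zeroLocus _ _)

lemma specializes_iff (hU : IsAffineOpen U) (x y : U) :
    (y : X) ⤳ (x : X) ↔ (hU.primeIdealOf y).asIdeal ≤ (hU.primeIdealOf x).asIdeal := by
  have h1 := hU.fromSpec.isOpenEmbedding.isInducing.specializes_iff
    (x := hU.primeIdealOf y) (y := hU.primeIdealOf x)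
  rw [hU.fromSpec_primeIdealOf x, hU.fromSpec_primeIdealOf y] at h1
  exact h1.trans (PrimeSpectrum.le_iff_specializes _ _).symm

lemma fromSpec_mem (hU : IsAffineOpen U) (q : PrimeSpectrum Γ(X, U)) : hU.fromSpec q ∈ U := by
  have h : hU.fromSpec q ∈ Set.range hU.fromSpec := Set.mem_range_self q
  rw [hU.range_fromSpec] at h
  exact h

lemma primeIdealOf_fromSpec (hU : IsAffineOpen U) (q : PrimeSpectrum Γ(X, U)) :
    hU.primeIdealOf ⟨hU.fromSpec q, fromSpec_mem hU q⟩ = q :=
  hU.fromSpec.isOpenEmbedding.injective (hU.fromSpec_primeIdealOf _)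

lemma primeIdealOf_injective (hU : IsAffineOpen U) : Function.Injective hU.primeIdealOf := by
  intro x y h
  apply Subtype.ext
  rw [← hU.fromSpec_primeIdealOf x, ← hU.fromSpec_primeIdealOf y, h]

/-- Krull dimension of a stalk is the height of the corresponding prime. -/
lemma ringKrullDim_stalk (hU : IsAffineOpen U) (x : U) :
    ringKrullDim (X.presheaf.stalk (x : X)) = (hU.primeIdealOf x).asIdeal.height := by
  letI := TopCat.Presheaf.algebra_section_stalk X.presheaf x
  haveI := hU.isLocalization_stalk x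
  exact IsLocalization.AtPrime.ringKrullDim_eq_height (hU.primeIdealOf x).asIdeal _

/-- Membership in the support of an ideal sheaf, in terms of primes. -/
lemma mem_support_iff (hU : IsAffineOpen U) (D : X.IdealSheafData) (x : U) :
    (x : X) ∈ D.support ↔ D.ideal ⟨U, hU⟩ ≤ (hU.primeIdealOf x).asIdeal := by
  rw [Scheme.IdealSheafData.mem_support_iff_of_mem (U := ⟨U, hU⟩) x.2]
  exact mem_zeroLocus_iff hU _ x

/-- A point of the support which is maximal under generisation corresponds to a minimal prime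
over the ideal. -/
lemma primeIdealOf_mem_minimalPrimes (hU : IsAffineOpen U) (D : X.IdealSheafData) (ξ : U)
    (hξ : (ξ : X) ∈ D.support)
    (hgen : ∀ y ∈ (D.support : Set X), y ⤳ (ξ : X) → y = ξ) :
    (hU.primeIdealOf ξ).asIdeal ∈ (D.ideal ⟨U, hU⟩).minimalPrimes := by
  refine ⟨⟨(hU.primeIdealOf ξ).2, (mem_support_iff hU D ξ).mp hξ⟩, fun q ⟨hq, hIq⟩ hqp => ?_⟩
  have hyU : hU.fromSpec ⟨q, hq⟩ ∈ U := fromSpec_mem hU _
  have hpy : hU.primeIdealOf ⟨hU.fromSpec ⟨q, hq⟩, hyU⟩ = ⟨q, hq⟩ := primeIdealOf_fromSpec hU _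
  have hys : hU.fromSpec ⟨q, hq⟩ ⤳ (ξ : X) :=
    (specializes_iff hU ξ ⟨_, hyU⟩).mpr (by rw [hpy]; exact hqp)
  have hyD : hU.fromSpec ⟨q, hq⟩ ∈ (D.support : Set X) := by
    have := (mem_support_iff hU D ⟨_, hyU⟩).mpr (by rw [hpy]; exact hIq)
    exact this
  have h := hgen _ hyD hys
  have h2 : (⟨hU.fromSpec ⟨q, hq⟩, hyU⟩ : U) = ξ := Subtype.ext h
  rw [h2] at hpy
  rw [hpy]

end Groth.Agent.Lib.AffStalk_helper3
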