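import Mathlib
import Groth.Prelude.Def_EGA41

/-!
# Flat + formally smooth special fibre ⇒ formally smooth (EGA 0_IV 19.7.1, nilpotent/adic forms)
-/

set_option autoImplicit false
set_option maxSynthPendingDepth 3

namespace Groth.Agent.Lib.FSNilpH3

universe u v w w'

open TensorProduct

section FlatQuot

/-- `(R/I) ⊗_R S ≃ S/IS` as `R/I`-modules. -/
noncomputable def quotTensorEquiv {R S : Type*} [CommRing R] [CommRing S] [Algebra R S]
    (I : Ideal R) : ((R ⧸ I) ⊗[R] S) ≃ₗ[R ⧸ I] (S ⧸ I.map (algebraMap R S)) :=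
  LinearEquiv.extendScalarsOfSurjective (Ideal.Quotient.mk_surjective (I := I))
    ((TensorProduct.comm R (R ⧸ I) S) ≪≫ₗ
      ((Ideal.qoutMapEquivTensorQout (R := R) S (I := I)).symm.restrictScalars R))

theorem flat_quot {R S : Type*} [CommRing R] [CommRing S] [Algebra R S] [Module.Flat R S]
    (I : Ideal R) : Module.Flat (R ⧸ I) (S ⧸ I.map (algebraMap R S)) :=
  Module.Flat.of_linearEquiv (quotTensorEquiv I).symm

end FlatQuot

section QuotData

variable {R : Type u} {S : Type v} {R' : Type w} {S' : Type w'} [CommRing R] [CommRing S]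
  [CommRing R'] [CommRing S']
  (f : R →+* S) (qR : R →+* R') (qS : S →+* S') (g : R' →+* S')

/-- data induced on the quotients by an ideal `J ≤ ker qR` -/
theorem quot_data (flat : f.Flat) (surjR : Function.Surjective qR)
    (surjS : Function.Surjective qS) (comm : qS.comp f = g.comp qR)
    (eqmap : RingHom.ker qS = (RingHom.ker qR).map f) (J : Ideal R) (hJ : J ≤ RingHom.ker qR) :
    ∃ (f₁ : R ⧸ J →+* S ⧸ J.map f) (qR₁ : R ⧸ J →+* R') (qS₁ : S ⧸ J.map f →+* S'),
      f₁.Flat ∧ Function.Surjective qR₁ ∧ Function.Surjective qS₁ ∧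
      qS₁.comp f₁ = g.comp qR₁ ∧
      RingHom.ker qR₁ = (RingHom.ker qR).map (Ideal.Quotient.mk J) ∧
      RingHom.ker qS₁ = (RingHom.ker qR₁).map f₁ ∧
      f₁.comp (Ideal.Quotient.mk J) = (Ideal.Quotient.mk (J.map f)).comp f := by
  have hJS : J.map f ≤ RingHom.ker qS := by
    rw [eqmap]
    exact Ideal.map_mono hJ
  let f₁ : R ⧸ J →+* S ⧸ J.map f := Ideal.quotientMap (J.map f) f Ideal.le_comap_map
  let qR₁ : R ⧸ J →+* R' := Ideal.Quotient.lift J qR (fun a ha => hJ ha)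
  let qS₁ : S ⧸ J.map f →+* S' := Ideal.Quotient.lift (J.map f) qS (fun a ha => hJS ha)
  have hcompmk : f₁.comp (Ideal.Quotient.mk J) = (Ideal.Quotient.mk (J.map f)).comp f :=
    Ideal.quotientMap_comp_mk _
  have hkR : RingHom.ker qR₁ = (RingHom.ker qR).map (Ideal.Quotient.mk J) :=
    Ideal.ker_quotient_lift qR _
  have hkS : RingHom.ker qS₁ = (RingHom.ker qS).map (Ideal.Quotient.mk (J.map f)) :=
    Ideal.ker_quotient_lift qS _
  refine ⟨f₁, qR₁, qS₁, ?_, ?_, ?_, ?_, hkR, ?_, hcompmk⟩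
  · letI := f.toAlgebra
    haveI : Module.Flat R S := flat
    have h := flat_quot (R := R) (S := S) J
    have h2 : (algebraMap (R ⧸ J) (S ⧸ J.map (algebraMap R S))).Flat := by
      rw [RingHom.flat_algebraMap_iff]
      exact h
    exact h2
  · intro x
    obtain ⟨a, rfl⟩ := surjR x
    exact ⟨Ideal.Quotient.mk J a, rfl⟩
  · intro x
    obtain ⟨a, rfl⟩ := surjS x
    exact ⟨Ideal.Quotient.mk _ a, rfl⟩
  · refine Ideal.Quotient.ringHom_ext (RingHom.ext fun a => ?_)
    exact RingHom.congr_fun comm a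
  · rw [hkS, hkR, eqmap, Ideal.map_map, Ideal.map_map, hcompmk]

end QuotData

section Nilp

variable {R' : Type w} {S' : Type w'} [CommRing R'] [CommRing S']

/-- **Stacks 031L, nilpotent version** (ring hom form). -/
theorem formallySmooth_of_flat_of_nilpotent (n : ℕ) :
    ∀ {R : Type u} {S : Type v} [CommRing R] [CommRing S]
      (f : R →+* S) (qR : R →+* R') (qS : S →+* S') (g : R' →+* S'),
      f.Flat → Function.Surjective qR → Function.Surjective qS → qS.comp f = g.comp qR →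
      (RingHom.ker qR) ^ n = ⊥ → RingHom.ker qS = (RingHom.ker qR).map f →
      g.FormallySmooth → f.FormallySmooth := by
  induction n using Nat.strong_induction_on with
  | _ n ih =>
    intro R S _ _ f qR qS g flat surjR surjS comm nil eqmap smoothq
    by_cases hn : n ≤ 2
    · refine RingHom.FormallySmooth.of_flat_of_ker_eq_map_of_square_zero f flat qR qS g
        surjR surjS comm ?_ eqmap smoothq
      rw [eq_bot_iff, ← nil]
      exact Ideal.pow_le_pow_right hn
    · push Not at hn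
      obtain ⟨m, rfl⟩ : ∃ m, n = m + 1 := ⟨n - 1, by omega⟩
      set I := RingHom.ker qR with hI
      obtain ⟨f₁, qR₁, qS₁, flat₁, surjR₁, surjS₁, comm₁, hkR, hkS, hcompmk⟩ :=
        quot_data f qR qS g flat surjR surjS comm eqmap (I ^ m)
          (Ideal.pow_le_self (by omega))
      have nil₁ : (RingHom.ker qR₁) ^ m = ⊥ := by
        rw [hkR, ← Ideal.map_pow, Ideal.map_quotient_self]
      have h₁ : f₁.FormallySmooth :=
        ih m (by omega) f₁ qR₁ qS₁ g flat₁ surjR₁ surjS₁ comm₁ nil₁ hkS smoothq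
      refine RingHom.FormallySmooth.of_flat_of_ker_eq_map_of_square_zero f flat
        (Ideal.Quotient.mk (I ^ m)) (Ideal.Quotient.mk ((I ^ m).map f)) f₁
        Ideal.Quotient.mk_surjective Ideal.Quotient.mk_surjective hcompmk.symm ?_ ?_ h₁
      · rw [Ideal.mk_ker, eq_bot_iff, ← nil, ← pow_mul]
        exact Ideal.pow_le_pow_right (by omega)
      · rw [Ideal.mk_ker, Ideal.mk_ker]

end Nilp

section Adic

variable {A : Type u} {B : Type v} [CommRing A] [CommRing B] [Algebra A B]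
  {R' : Type w} {S' : Type w'} [CommRing R'] [CommRing S']

/-- flat + special fibre formally smooth ⇒ every `B/𝔞ⁿB` is formally smooth over `A/𝔞ⁿ`. -/
theorem formallySmooth_quot_pow [Module.Flat A B] (𝔞 : Ideal A)
    (qA : A →+* R') (qB : B →+* S') (g : R' →+* S')
    (surjA : Function.Surjective qA) (surjB : Function.Surjective qB)
    (comm : qB.comp (algebraMap A B) = g.comp qA)
    (hkA : RingHom.ker qA = 𝔞) (hkB : RingHom.ker qB = 𝔞.map (algebraMap A B))
    (smoothq : g.FormallySmooth) (n : ℕ) :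
    Algebra.FormallySmooth (A ⧸ 𝔞 ^ n) (B ⧸ (𝔞 ^ n).map (algebraMap A B)) := by
  have flat : (algebraMap A B).Flat := by
    rw [RingHom.flat_algebraMap_iff]
    infer_instance
  by_cases hn0 : n = 0
  · subst hn0
    haveI : Subsingleton (B ⧸ (𝔞 ^ 0).map (algebraMap A B)) := by
      rw [Ideal.Quotient.subsingleton_iff, pow_zero, Ideal.one_eq_top, Ideal.map_top]
    infer_instance
  obtain ⟨f₁, qR₁, qS₁, flat₁, surjR₁, surjS₁, comm₁, hkR, hkS, hcompmk⟩ :=
    quot_data (algebraMap A B) qA qB g flat surjA surjB comm (by rw [hkB, hkA]) (𝔞 ^ n)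
      (by rw [hkA]; exact Ideal.pow_le_self hn0)
  have nil₁ : (RingHom.ker qR₁) ^ n = ⊥ := by
    rw [hkR, hkA, ← Ideal.map_pow, Ideal.map_quotient_self]
  have h₁ : f₁.FormallySmooth :=
    formallySmooth_of_flat_of_nilpotent n f₁ qR₁ qS₁ g flat₁ surjR₁ surjS₁ comm₁ nil₁ hkS smoothq
  have hf₁ : f₁ = algebraMap (A ⧸ 𝔞 ^ n) (B ⧸ (𝔞 ^ n).map (algebraMap A B)) := by
    refine Ideal.Quotient.ringHom_ext (RingHom.ext fun a => ?_)
    exact RingHom.congr_fun hcompmk a
  rw [hf₁, RingHom.formallySmooth_algebraMap] at h₁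
  exact h₁

end Adic

section Adic2

variable {A B : Type u} [CommRing A] [CommRing B] [Algebra A B]

/-- **EGA 0_IV 19.7.1 (flat case)**: if every `B/𝔞ⁿB` is formally smooth over `A/𝔞ⁿ`, then `B`
is formally smooth over `A` for the `𝔞`-adic topology on `A` and any adic topology on `B`. -/
theorem isFormallySmoothAdic_of_forall (𝔞 : Ideal A) (𝔟 : Ideal B)
    (h : ∀ n : ℕ, Algebra.FormallySmooth (A ⧸ 𝔞 ^ n) (B ⧸ (𝔞 ^ n).map (algebraMap A B))) :
    EGA41.IsFormallySmoothAdic A 𝔞 B 𝔟 := by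
  intro C _ _ J hJ ⟨n, hn⟩ u _
  haveI := h n
  -- `C` is an `A/𝔞ⁿ`-algebra
  have hle : 𝔞 ^ n ≤ RingHom.ker (algebraMap A C) := by
    intro a ha
    have : algebraMap A C a ∈ (𝔞 ^ n).map (algebraMap A C) := Ideal.mem_map_of_mem _ ha
    rw [hn] at this
    exact this
  letI : Algebra (A ⧸ 𝔞 ^ n) C := (Ideal.Quotient.lift (𝔞 ^ n) (algebraMap A C) hle).toAlgebra
  haveI : IsScalarTower A (A ⧸ 𝔞 ^ n) C := IsScalarTower.of_algebraMap_eq fun a => rfl
  -- `u` factors through `B/𝔞ⁿB`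
  have hu : ∀ b ∈ (𝔞 ^ n).map (algebraMap A B), u b = 0 := by
    intro b hb
    have hle' : (𝔞 ^ n).map (algebraMap A B) ≤ RingHom.ker u.toRingHom := by
      rw [Ideal.map_le_iff_le_comap]
      intro a ha
      show u (algebraMap A B a) = 0
      rw [u.commutes]
      show Ideal.Quotient.mk J (algebraMap A C a) = 0
      rw [hle ha, map_zero]
    exact hle' hb
  let ū₀ : (B ⧸ (𝔞 ^ n).map (algebraMap A B)) →ₐ[A] C ⧸ J :=
    Ideal.Quotient.liftₐ _ u hu
  let ū : (B ⧸ (𝔞 ^ n).map (algebraMap A B)) →ₐ[A ⧸ 𝔞 ^ n] C ⧸ J :=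
    AlgHom.extendScalarsOfSurjective (Ideal.Quotient.mk_surjective (I := 𝔞 ^ n)) ū₀
  obtain ⟨f, hf⟩ := Algebra.FormallySmooth.exists_lift J hJ ū
  refine ⟨(f.restrictScalars A).comp (Ideal.Quotient.mkₐ A _), ?_⟩
  refine AlgHom.ext fun b => ?_
  have := AlgHom.congr_fun hf (Ideal.Quotient.mk _ b)
  exact this

end Adic2

section Lift

variable {A : Type u} {B : Type v} [CommRing A] [CommRing B] [Algebra A B]

/-- lifting against an algebra killed by `𝔞ⁿ`, universe polymorphic -/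
theorem exists_lift_of_formallySmooth_quot (𝔞 : Ideal A) (n : ℕ)
    [Algebra.FormallySmooth (A ⧸ 𝔞 ^ n) (B ⧸ (𝔞 ^ n).map (algebraMap A B))]
    (C : Type w) [CommRing C] [Algebra A C] (J : Ideal C) (hJ : IsNilpotent J)
    (hn : (𝔞 ^ n).map (algebraMap A C) = ⊥) (u : B →ₐ[A] C ⧸ J) :
    ∃ v : B →ₐ[A] C, (Ideal.Quotient.mkₐ A J).comp v = u := by
  have hle : 𝔞 ^ n ≤ RingHom.ker (algebraMap A C) := by
    intro a ha
    have : algebraMap A C a ∈ (𝔞 ^ n).map (algebraMap A C) := Ideal.mem_map_of_mem _ ha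
    rw [hn] at this
    exact this
  letI : Algebra (A ⧸ 𝔞 ^ n) C := (Ideal.Quotient.lift (𝔞 ^ n) (algebraMap A C) hle).toAlgebra
  haveI : IsScalarTower A (A ⧸ 𝔞 ^ n) C := IsScalarTower.of_algebraMap_eq fun a => rfl
  have hu : ∀ b ∈ (𝔞 ^ n).map (algebraMap A B), u b = 0 := by
    intro b hb
    have hle' : (𝔞 ^ n).map (algebraMap A B) ≤ RingHom.ker u.toRingHom := by
      rw [Ideal.map_le_iff_le_comap]
      intro a ha
      show u (algebraMap A B a) = 0
      rw [u.commutes]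
      show Ideal.Quotient.mk J (algebraMap A C a) = 0
      rw [hle ha, map_zero]
    exact hle' hb
  let ū₀ : (B ⧸ (𝔞 ^ n).map (algebraMap A B)) →ₐ[A] C ⧸ J :=
    Ideal.Quotient.liftₐ _ u hu
  let ū : (B ⧸ (𝔞 ^ n).map (algebraMap A B)) →ₐ[A ⧸ 𝔞 ^ n] C ⧸ J :=
    AlgHom.extendScalarsOfSurjective (Ideal.Quotient.mk_surjective (I := 𝔞 ^ n)) ū₀
  obtain ⟨f, hf⟩ := Algebra.FormallySmooth.exists_lift J hJ ū
  refine ⟨(f.restrictScalars A).comp (Ideal.Quotient.mkₐ A _), ?_⟩
  refine AlgHom.ext fun b => ?_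
  have := AlgHom.congr_fun hf (Ideal.Quotient.mk _ b)
  exact this

end Lift

end Groth.Agent.Lib.FSNilpH3
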