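import Mathlib

/-!
# Associated primes of `N ⊗[R] M` for `N` flat over a Noetherian ring `R` (helper5)

`Ass_S (N ⊗_R M) = ⋃_{p ∈ Ass_R M} Ass_S (N / pN)`.
-/

namespace Groth.Agent.AssFlat

open TensorProduct

universe u

variable {R S : Type u} [CommRing R] [CommRing S] [Algebra R S]
variable {N : Type u} [AddCommGroup N] [Module S N] [Module R N] [IsScalarTower R S N]

section lT

variable {M M' M'' : Type u} [AddCommGroup M] [Module R M] [AddCommGroup M'] [Module R M']
  [AddCommGroup M''] [Module R M'']

variable (S N) in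
/-- `S`-linear version of `lTensor`. -/
noncomputable abbrev lT (f : M →ₗ[R] M') : N ⊗[R] M →ₗ[S] N ⊗[R] M' :=
  TensorProduct.AlgebraTensorModule.lTensor S N f

theorem lT_injective [Module.Flat R N] (f : M →ₗ[R] M') (hf : Function.Injective f) :
    Function.Injective (lT S N f) :=
  Module.Flat.lTensor_preserves_injective_linearMap f hf

theorem lT_exact [Module.Flat R N] (f : M →ₗ[R] M') (g : M' →ₗ[R] M'')
    (h : Function.Exact f g) : Function.Exact (lT S N f) (lT S N g) :=
  Module.Flat.lTensor_exact N h

/-- an element of `R` killing `M` kills `N ⊗ M` -/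
theorem smul_tensor_eq_zero (r : R) (hr : ∀ m : M, r • m = 0) (z : N ⊗[R] M) : r • z = 0 := by
  induction z using TensorProduct.induction_on with
  | zero => simp
  | tmul n x => rw [← TensorProduct.tmul_smul, hr, TensorProduct.tmul_zero]
  | add x y hx hy => rw [smul_add, hx, hy, add_zero]

end lT

section quot

variable (N) in
/-- the map `n ↦ n ⊗ 1`, `S`-linear -/
noncomputable def toTensorQuot (p : Ideal R) : N →ₗ[S] N ⊗[R] (R ⧸ p) :=
  (TensorProduct.AlgebraTensorModule.mk R S N (R ⧸ p)).flip 1

@[simp] theorem toTensorQuot_apply (p : Ideal R) (n : N) :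
    toTensorQuot (S := S) N p n = n ⊗ₜ[R] (1 : R ⧸ p) := rfl

theorem toTensorQuot_surjective (p : Ideal R) :
    Function.Surjective (toTensorQuot (S := S) N p) := by
  intro z
  induction z using TensorProduct.induction_on with
  | zero => exact ⟨0, map_zero _⟩
  | tmul n x =>
    obtain ⟨r, rfl⟩ := Ideal.Quotient.mk_surjective x
    refine ⟨r • n, ?_⟩
    rw [toTensorQuot_apply, TensorProduct.smul_tmul]
    congr 1
    rw [← Ideal.Quotient.algebraMap_eq, Algebra.smul_def, mul_one]
  | add x y hx hy =>
    obtain ⟨a, rfl⟩ := hx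
    obtain ⟨b, rfl⟩ := hy
    exact ⟨a + b, map_add _ _ _⟩

theorem ker_toTensorQuot (p : Ideal R) :
    LinearMap.ker (toTensorQuot (S := S) N p) =
      p.map (algebraMap R S) • (⊤ : Submodule S N) := by
  apply le_antisymm
  · intro n hn
    rw [LinearMap.mem_ker, toTensorQuot_apply] at hn
    have h1 : TensorProduct.tensorQuotEquivQuotSMul N p (n ⊗ₜ[R] (1 : R ⧸ p)) = 0 := by
      rw [hn, map_zero]
    rw [← map_one (Ideal.Quotient.mk p), TensorProduct.tensorQuotEquivQuotSMul_tmul_mk,
      one_smul, Submodule.Quotient.mk_eq_zero] at h1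
    refine Submodule.smul_induction_on h1 (fun a ha x _ => ?_) (fun x y hx hy => add_mem hx hy)
    rw [← algebraMap_smul S a x]
    exact Submodule.smul_mem_smul (Ideal.mem_map_of_mem _ ha) Submodule.mem_top
  · rw [Submodule.smul_le]
    intro s hs n _
    rw [LinearMap.mem_ker, map_smul]
    refine Submodule.span_induction (p := fun s _ => s • toTensorQuot (S := S) N p n = 0)
      ?_ ?_ ?_ ?_ hs
    · rintro _ ⟨a, ha, rfl⟩
      rw [algebraMap_smul, toTensorQuot_apply, ← TensorProduct.tmul_smul]
      have : a • (1 : R ⧸ p) = 0 := by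
        rw [Algebra.smul_def, mul_one,
          Ideal.Quotient.algebraMap_eq, Ideal.Quotient.eq_zero_iff_mem]
        exact ha
      rw [this, TensorProduct.tmul_zero]
    · rw [zero_smul]
    · intro x y _ _ hx hy
      rw [add_smul, hx, hy, add_zero]
    · intro a x _ hx
      rw [smul_eq_mul, mul_smul, hx, smul_zero]

variable (N) in
/-- `N ⊗ (R/p) ≅ N/(pS)N` as `S`-modules. -/
noncomputable def tensorQuotEquiv (p : Ideal R) :
    (N ⧸ (p.map (algebraMap R S) • (⊤ : Submodule S N))) ≃ₗ[S] (N ⊗[R] (R ⧸ p)) :=
  (Submodule.quotEquivOfEq _ _ (ker_toTensorQuot (S := S) (N := N) p).symm).trans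
    ((toTensorQuot (S := S) N p).quotKerEquivOfSurjective (toTensorQuot_surjective p))

theorem associatedPrimes_tensorQuot (p : Ideal R) :
    associatedPrimes S (N ⧸ (p.map (algebraMap R S) • (⊤ : Submodule S N))) =
      associatedPrimes S (N ⊗[R] (R ⧸ p)) :=
  LinearEquiv.AssociatedPrimes.eq (tensorQuotEquiv (S := S) N p)

end quot

section main

variable [IsNoetherianRing R] [Module.Flat R N]

/-- An associated prime of `N ⊗ R/p` (`N` flat) contracts to `p`. -/
theorem comap_eq_of_mem_associatedPrimes_quot (p : Ideal R) [hp : p.IsPrime] (q : Ideal S)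
    (hq : q ∈ associatedPrimes S (N ⊗[R] (R ⧸ p))) : q.comap (algebraMap R S) = p := by
  obtain ⟨hqp, z, hz⟩ := hq
  apply le_antisymm
  · intro r hr
    by_contra hrp
    rw [Ideal.mem_comap, hz] at hr
    obtain ⟨n, hn⟩ := hr
    rw [Submodule.mem_colon_singleton, Submodule.mem_bot, ← map_pow, algebraMap_smul] at hn
    have hne : (Ideal.Quotient.mk p (r ^ n)) ≠ 0 := by
      rw [Ne, Ideal.Quotient.eq_zero_iff_mem]
      exact fun h => hrp (hp.mem_of_pow_mem n h)
    have hreg : IsSMulRegular (R ⧸ p) (r ^ n) := by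
      intro a b hab
      simp only [Algebra.smul_def, Ideal.Quotient.algebraMap_eq] at hab
      exact mul_left_cancel₀ hne hab
    have hz0 : z = 0 := (hreg.lTensor N) (by show r ^ n • z = r ^ n • 0; rw [hn, smul_zero])
    apply hqp.ne_top
    rw [hz, hz0, Ideal.radical_eq_top, Ideal.eq_top_iff_one, Submodule.mem_colon_singleton,
      smul_zero]
    exact Submodule.zero_mem _
  · intro a ha
    rw [Ideal.mem_comap, hz]
    apply Ideal.le_radical
    rw [Submodule.mem_colon_singleton, Submodule.mem_bot, algebraMap_smul]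
    apply smul_tensor_eq_zero
    intro x
    obtain ⟨x, rfl⟩ := Ideal.Quotient.mk_surjective x
    rw [Algebra.smul_def, Ideal.Quotient.algebraMap_eq, ← map_mul,
      Ideal.Quotient.eq_zero_iff_mem]
    exact Ideal.mul_mem_right _ _ ha

/-- For finite `M`, every associated prime `q` of `N ⊗ M` is associated to `N ⊗ R/(q ∩ R)`. -/
theorem mem_associatedPrimes_quot_of_finite (M : Type u) [AddCommGroup M] [Module R M]
    [hfin : Module.Finite R M] :
    ∀ q ∈ associatedPrimes S (N ⊗[R] M),
      q ∈ associatedPrimes S (N ⊗[R] (R ⧸ q.comap (algebraMap R S))) := by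
  induction hfin using IsNoetherianRing.induction_on_isQuotientEquivQuotientPrime R with
  | subsingleton M =>
    intro q hq
    rw [associatedPrimes.eq_empty_of_subsingleton] at hq
    exact absurd hq (Set.notMem_empty _)
  | quotient M p f =>
    intro q hq
    have h1 : q ∈ associatedPrimes S (N ⊗[R] (R ⧸ p.asIdeal)) :=
      associatedPrimes.subset_of_injective (f := lT S N f.toLinearMap)
        (lT_injective _ f.injective) hq
    have h2 := comap_eq_of_mem_associatedPrimes_quot p.asIdeal q h1
    rw [h2]
    exact h1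
  | exact M₁ M₂ M₃ f g hf hg hfg h₁ h₃ =>
    intro q hq
    rcases associatedPrimes.subset_union_of_exact (lT_injective f hf) (lT_exact f g hfg) hq
      with h | h
    · exact h₁ q h
    · exact h₃ q h

theorem mem_of_mem_associatedPrimes_tensor (M : Type u) [AddCommGroup M] [Module R M]
    (q : Ideal S) (hq : q ∈ associatedPrimes S (N ⊗[R] M)) :
    q.comap (algebraMap R S) ∈ associatedPrimes R M ∧
      q ∈ associatedPrimes S (N ⊗[R] (R ⧸ q.comap (algebraMap R S))) := by
  obtain ⟨hqp, z, hz⟩ := hq
  haveI := hqp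
  obtain ⟨k, a, ha⟩ := Submodule.fg_iff_exists_fin_generating_family.1
    (IsNoetherian.noetherian (q.comap (algebraMap R S)))
  have hamem : ∀ j, a j ∈ q.comap (algebraMap R S) := fun j =>
    ha ▸ Submodule.subset_span ⟨j, rfl⟩
  have hex : ∀ j, ∃ n : ℕ, (a j) ^ n • z = 0 := by
    intro j
    have := hamem j
    rw [Ideal.mem_comap, hz] at this
    obtain ⟨n, hn⟩ := this
    refine ⟨n, ?_⟩
    rw [Submodule.mem_colon_singleton, Submodule.mem_bot, ← map_pow, algebraMap_smul] at hn
    exact hn
  choose e he using hex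
  let f : M →ₗ[R] (Fin k → M) := LinearMap.pi (fun j => (a j ^ e j) • LinearMap.id)
  have hcomp : ∀ (w : N ⊗[R] M) (j : Fin k),
      TensorProduct.piRight R S N (fun _ : Fin k => M) (lT S N f w) j = (a j ^ e j) • w := by
    intro w j
    induction w using TensorProduct.induction_on with
    | zero => simp
    | tmul n x =>
      rw [TensorProduct.AlgebraTensorModule.lTensor_tmul, TensorProduct.piRight_apply,
        TensorProduct.piRightHom_tmul]
      simp only [f, LinearMap.pi_apply, LinearMap.smul_apply, LinearMap.id_apply]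
      rw [TensorProduct.tmul_smul]
    | add x y hx hy => simp only [map_add, Pi.add_apply, hx, hy, smul_add]
  have hzker : z ∈ LinearMap.range (lT S N (LinearMap.ker f).subtype) := by
    rw [← (lT_exact (S := S) (N := N) (LinearMap.ker f).subtype f
      (LinearMap.exact_subtype_ker_map f)).linearMap_ker_eq, LinearMap.mem_ker]
    apply (TensorProduct.piRight R S N (fun _ : Fin k => M)).injective
    rw [map_zero]
    ext j
    rw [hcomp, he]
    rfl
  obtain ⟨z', hz'⟩ := hzker
  obtain ⟨M₁, hM₁fin, hM₁⟩ := TensorProduct.exists_finite_submodule_right_of_setFinite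
    ({z'} : Set (N ⊗[R] (LinearMap.ker f))) (Set.finite_singleton z')
  obtain ⟨z₁, hz₁⟩ := hM₁ (Set.mem_singleton z')
  let ι : M₁ →ₗ[R] M := (LinearMap.ker f).subtype ∘ₗ M₁.subtype
  have hι : Function.Injective ι :=
    (Submodule.injective_subtype _).comp (Submodule.injective_subtype _)
  have hz₁z : lT S N ι z₁ = z := by
    rw [← hz', ← hz₁]
    show (LinearMap.lTensor N ι) z₁ = _
    rw [LinearMap.lTensor_comp]
    rfl
  have hq₁ : q ∈ associatedPrimes S (N ⊗[R] M₁) := by
    refine ⟨hqp, z₁, ?_⟩
    rw [hz]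
    congr 1
    ext s
    rw [Submodule.mem_colon_singleton, Submodule.mem_colon_singleton, Submodule.mem_bot,
      Submodule.mem_bot, ← hz₁z, ← map_smul]
    exact ⟨fun h => lT_injective ι hι (by rw [h, map_zero]), fun h => by rw [h, map_zero]⟩
  refine ⟨?_, mem_associatedPrimes_quot_of_finite M₁ q hq₁⟩
  by_contra hpM
  have hpM₁ : q.comap (algebraMap R S) ∉ associatedPrimes R M₁ :=
    fun h => hpM (associatedPrimes.subset_of_injective hι h)
  have hann : ¬ Module.annihilator R M₁ ≤ q.comap (algebraMap R S) := by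
    intro hle
    obtain ⟨P, hPmin, hPp⟩ := Ideal.exists_minimalPrimes_le hle
    have hPass :=
      Module.associatedPrimes.minimalPrimes_annihilator_subset_associatedPrimes R M₁ hPmin
    have hpP : q.comap (algebraMap R S) ≤ P := by
      rw [← ha, Submodule.span_le]
      rintro _ ⟨j, rfl⟩
      have hmem : a j ^ e j ∈ Module.annihilator R M₁ := by
        rw [Module.mem_annihilator]
        intro m
        have h1 := m.1.2
        rw [LinearMap.mem_ker] at h1
        have h2 := congrFun h1 j
        apply Subtype.ext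
        apply Subtype.ext
        simpa [f] using h2
      exact hPmin.1.1.mem_of_pow_mem _ (hPmin.1.2 hmem)
    rw [le_antisymm hpP hPp] at hpM₁
    exact hpM₁ hPass
  obtain ⟨r, hr, hrp⟩ := SetLike.not_le_iff_exists.1 hann
  apply hrp
  rw [Ideal.mem_comap, hz]
  apply Ideal.le_radical
  rw [Submodule.mem_colon_singleton, Submodule.mem_bot, algebraMap_smul, ← hz₁z,
    ← LinearMap.map_smul_of_tower,
    smul_tensor_eq_zero r (fun m => Module.mem_annihilator.1 hr m), map_zero]

/-- **Associated primes of a flat tensor product.** -/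
theorem associatedPrimes_tensor (M : Type u) [AddCommGroup M] [Module R M] :
    associatedPrimes S (N ⊗[R] M) =
      ⋃ p ∈ associatedPrimes R M,
        associatedPrimes S (N ⧸ p.map (algebraMap R S) • (⊤ : Submodule S N)) := by
  apply Set.Subset.antisymm
  · intro q hq
    obtain ⟨h1, h2⟩ := mem_of_mem_associatedPrimes_tensor M q hq
    simp only [Set.mem_iUnion]
    exact ⟨_, h1, by rw [associatedPrimes_tensorQuot]; exact h2⟩
  · intro q hq
    simp only [Set.mem_iUnion] at hq
    obtain ⟨p, hp, hq⟩ := hq
    rw [associatedPrimes_tensorQuot] at hq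
    obtain ⟨-, g, hg⟩ := (isAssociatedPrime_iff_exists_injective_linearMap p M).1 hp
    exact associatedPrimes.subset_of_injective (f := lT S N g) (lT_injective g hg) hq

end main

end Groth.Agent.AssFlat
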