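import Mathlib
import Groth.Prelude.Def_CAlg
import Groth.Agent.Lib.Depth_helper5
import Groth.Agent.Lib.DepthSkQuot_helper5
import Groth.Agent.Lib.DepthSeq_helper5
import Groth.Agent.Lib.DepthHom_helper5
import Groth.Agent.Lib.DepthRingChange_helper5
import Groth.Agent.Lib.AssFlat_helper5
import Groth.Agent.Lib.FlatFibre_helper9
import Groth.Agent.Lib.LocalCrit9_helper9

/-!
# Depth of a flat tensor product (helper5)

`depth_S (N ⊗_R M) = depth_R M + depth_S (N / m_R N)` for a local homomorphism `R → S` of Noetherian
local rings, `M` finite over `R`, `N` finite over `S` and flat over `R`.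
-/

set_option autoImplicit false
universe u

namespace Groth.Agent.DepthTensor

open TensorProduct IsLocalRing Pointwise Groth.Agent.DepthLib

section Finite

variable (R S : Type u) [CommRing R] [CommRing S] [Algebra R S]
  (M N : Type u) [AddCommGroup M] [Module R M] [AddCommGroup N] [Module S N] [Module R N]
  [IsScalarTower R S N]

/-- `N ⊗[R] M` is finite over `S` when `N` is finite over `S` and `M` finite over `R`. -/
theorem finite_tensor [Module.Finite R M] [Module.Finite S N] : Module.Finite S (N ⊗[R] M) := by
  obtain ⟨n, f, hf⟩ := Module.Finite.exists_fin' R M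
  have e : N ⊗[R] (Fin n → R) ≃ₗ[S] (Fin n → N) := TensorProduct.piScalarRight R S N (Fin n)
  haveI : Module.Finite S (N ⊗[R] (Fin n → R)) := Module.Finite.equiv e.symm
  exact Module.Finite.of_surjective (Groth.Agent.AssFlat.lT S N f)
    (LinearMap.lTensor_surjective N hf)

end Finite

section Fibre

variable (R S : Type u) [CommRing R] [CommRing S] [IsLocalRing R] [IsLocalRing S] [Algebra R S]
  (N : Type u) [AddCommGroup N] [Module S N]

/-- the closed fibre module `N / m_R N` -/
abbrev Fib : Type u := N ⧸ ((maximalIdeal R).map (algebraMap R S) • (⊤ : Submodule S N))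

end Fibre

section Steps

variable {R S : Type u} [CommRing R] [CommRing S] [IsLocalRing R] [IsLocalRing S]
  [IsNoetherianRing R] [IsNoetherianRing S] [Algebra R S] [IsLocalHom (algebraMap R S)]
  (M N : Type u) [AddCommGroup M] [Module R M] [Module.Finite R M]
  [AddCommGroup N] [Module S N] [Module R N] [IsScalarTower R S N] [Module.Finite S N]
  [Module.Flat R N]

/-- The `x`-step: an `M`-regular element `x ∈ m_R`. -/
theorem depth_step_left {x : R} (hx : x ∈ maximalIdeal R) (hreg : IsSMulRegular M x) :
    LocCoh.depth S (N ⊗[R] QuotSMulTop x M) + 1 = LocCoh.depth S (N ⊗[R] M) := by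
  haveI := finite_tensor R S M N
  haveI := finite_tensor R S (QuotSMulTop x M) N
  have hx' : algebraMap R S x ∈ maximalIdeal S := algebraMap_mem_maximalIdeal R S hx
  have hreg' : IsSMulRegular (N ⊗[R] M) (algebraMap R S x) := by
    have h1 : IsSMulRegular (N ⊗[R] M) x := IsSMulRegular.lTensor N hreg
    intro a b hab
    apply h1
    simpa only [algebraMap_smul] using hab
  have hex0 : Function.Exact (x • LinearMap.id : M →ₗ[R] M) (Submodule.mkQ (x • (⊤ : Submodule R M))) := by
    intro m
    rw [Submodule.mkQ_apply, Submodule.Quotient.mk_eq_zero]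
    constructor
    · intro hm
      obtain ⟨m', _, hm'⟩ := (Submodule.mem_smul_pointwise_iff_exists _ _ _).1 hm
      exact ⟨m', hm'⟩
    · rintro ⟨m', rfl⟩
      exact Submodule.smul_mem_pointwise_smul _ _ _ Submodule.mem_top
  have hex1 := Groth.Agent.AssFlat.lT_exact (S := S) (N := N) _ _ hex0
  have heq : Groth.Agent.AssFlat.lT S N (x • LinearMap.id : M →ₗ[R] M) =
      (algebraMap R S x • LinearMap.id : N ⊗[R] M →ₗ[S] N ⊗[R] M) := by
    apply LinearMap.ext
    intro z
    induction z using TensorProduct.induction_on with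
    | zero => simp
    | tmul n m =>
      simp only [TensorProduct.AlgebraTensorModule.lTensor_tmul, LinearMap.smul_apply,
        LinearMap.id_coe, id_eq, algebraMap_smul, TensorProduct.tmul_smul]
    | add a b ha hb => rw [map_add, map_add, ha, hb]
  rw [heq] at hex1
  exact depth_add_one_of_exact (R := S) (N ⊗[R] M) (N ⊗[R] QuotSMulTop x M) hx' hreg'
    (Groth.Agent.AssFlat.lT S N (Submodule.mkQ (x • (⊤ : Submodule R M))))
    (LinearMap.lTensor_surjective N (Submodule.mkQ_surjective _)) hex1

end Steps

section StepRight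

variable {R S : Type u} [CommRing R] [CommRing S] [IsLocalRing R] [IsLocalRing S]
  [IsNoetherianRing R] [IsNoetherianRing S] [Algebra R S] [IsLocalHom (algebraMap R S)]
  (M N : Type u) [AddCommGroup M] [Module R M] [Module.Finite R M]
  [AddCommGroup N] [Module S N] [Module R N] [IsScalarTower R S N] [Module.Finite S N]
  [Module.Flat R N]

variable (R) in
/-- multiplication by `y ∈ S` as an `R`-linear map -/
noncomputable def smulR (y : S) : N →ₗ[R] N := (y • LinearMap.id : N →ₗ[S] N).restrictScalars R

omit [IsLocalRing R] [IsLocalRing S] [IsNoetherianRing R] [IsNoetherianRing S]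
  [IsLocalHom (algebraMap R S)] [Module.Finite S N] [Module.Flat R N] in
theorem smulR_apply (y : S) (n : N) : smulR R N y n = y • n := rfl

omit [IsNoetherianRing R] [IsNoetherianRing S] [IsLocalHom (algebraMap R S)] [Module.Finite S N]
  [Module.Flat R N] in
theorem smulR_mod_injective {y : S} (hreg : IsSMulRegular (Fib R S N) y) :
    Function.Injective ((smulR R N y).lTensor (R ⧸ maximalIdeal R)) := by
  rw [Groth.Agent.Lib.FlatFibre.lTensor_quot_injective_iff]
  intro n hn
  apply Groth.Agent.Lib.FlatFibre.map_smul_top_le_smul_top (S := S)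
  have h1 := Groth.Agent.Lib.FlatFibre.smul_top_le_map_smul_top (S := S) _ _ hn
  rw [smulR_apply] at h1
  rw [← Submodule.Quotient.mk_eq_zero] at h1 ⊢
  rw [Submodule.Quotient.mk_smul] at h1
  exact hreg (show y • Submodule.Quotient.mk n = y • 0 by rw [smul_zero]; exact h1)

theorem smulR_injective {y : S} (hreg : IsSMulRegular (Fib R S N) y) :
    Function.Injective (smulR R N y) :=
  Groth.Agent.Lib.FlatFibre.injective_of_injective_mod S _ (smulR_mod_injective N hreg)

omit [IsLocalRing R] [IsLocalRing S] [IsNoetherianRing R] [IsNoetherianRing S]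
  [IsLocalHom (algebraMap R S)] [Module.Finite S N] [Module.Flat R N] in
theorem range_smulR (y : S) :
    LinearMap.range (smulR R N y) = (y • (⊤ : Submodule S N)).restrictScalars R := by
  ext n
  constructor
  · rintro ⟨n', rfl⟩
    exact Submodule.smul_mem_pointwise_smul _ _ _ Submodule.mem_top
  · intro hn
    obtain ⟨n', _, hn'⟩ := (Submodule.mem_smul_pointwise_iff_exists _ _ _).1 hn
    exact ⟨n', hn'⟩

theorem flat_quotSMulTop {y : S} (hreg : IsSMulRegular (Fib R S N) y) :
    Module.Flat R (QuotSMulTop y N) := by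
  haveI := Groth.Agent.Lib.FlatFibre.flat_coker_of_injective_mod S _ (smulR_mod_injective N hreg)
  let e : (N ⧸ LinearMap.range (smulR R N y)) ≃ₗ[R] QuotSMulTop y N :=
    Submodule.quotEquivOfEq _ _ (range_smulR N y) ≪≫ₗ
      Submodule.Quotient.restrictScalarsEquiv R (y • (⊤ : Submodule S N))
  exact Module.Flat.of_linearEquiv e.symm

omit [IsLocalRing R] [IsLocalRing S] [IsNoetherianRing R] [IsNoetherianRing S]
  [IsLocalHom (algebraMap R S)] [Module.Finite S N] [Module.Flat R N] [Module.Finite R M] in
theorem rTensor_smulR (y : S) (z : N ⊗[R] M) : (smulR R N y).rTensor M z = y • z := by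
  induction z using TensorProduct.induction_on with
  | zero => simp
  | tmul n m => rw [LinearMap.rTensor_tmul, smulR_apply, TensorProduct.smul_tmul']
  | add a b ha hb => rw [map_add, smul_add, ha, hb]

theorem isSMulRegular_tensor {y : S} (hreg : IsSMulRegular (Fib R S N) y) :
    IsSMulRegular (N ⊗[R] M) y := by
  haveI := Groth.Agent.Lib.FlatFibre.flat_coker_of_injective_mod S _ (smulR_mod_injective N hreg)
  have h1 : Function.Injective ((smulR R N y).lTensor M) :=
    Groth.Agent.Lib.LocalCrit9.lTensor_injective_of_flat_coker _ (smulR_injective N hreg) M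
  rw [LinearMap.lTensor_inj_iff_rTensor_inj] at h1
  intro a b hab
  apply h1
  rw [rTensor_smulR, rTensor_smulR]
  exact hab

theorem depth_step_right {y : S} (hy : y ∈ maximalIdeal S)
    (hreg : IsSMulRegular (Fib R S N) y) :
    LocCoh.depth S (QuotSMulTop y N ⊗[R] M) + 1 = LocCoh.depth S (N ⊗[R] M) := by
  haveI := finite_tensor R S M N
  haveI := finite_tensor R S M (QuotSMulTop y N)
  have hreg' := isSMulRegular_tensor M N hreg
  let q : N →ₗ[S] QuotSMulTop y N := Submodule.mkQ (y • (⊤ : Submodule S N))
  let g : N ⊗[R] M →ₗ[S] QuotSMulTop y N ⊗[R] M :=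
    TensorProduct.AlgebraTensorModule.map q (LinearMap.id : M →ₗ[R] M)
  have hgeq : ∀ z, g z = (q.restrictScalars R).rTensor M z := by
    intro z
    induction z using TensorProduct.induction_on with
    | zero => simp
    | tmul n m => rfl
    | add a b ha hb => rw [map_add, map_add, ha, hb]
  have hqs : Function.Surjective (q.restrictScalars R) := Submodule.mkQ_surjective _
  have hg : Function.Surjective g := by
    intro z
    obtain ⟨w, hw⟩ := LinearMap.rTensor_surjective M hqs z
    exact ⟨w, by rw [hgeq, hw]⟩
  have hex0 : Function.Exact (smulR R N y) (q.restrictScalars R) := by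
    intro n
    have h0 : n ∈ Set.range (smulR R N y) ↔ n ∈ LinearMap.range (smulR R N y) :=
      LinearMap.mem_range.symm
    rw [h0, range_smulR]
    show Submodule.Quotient.mk n = 0 ↔ _
    rw [Submodule.Quotient.mk_eq_zero]
    rfl
  have hex1 := rTensor_exact M hex0 hqs
  have hex : Function.Exact (y • LinearMap.id : N ⊗[R] M →ₗ[S] N ⊗[R] M) g := by
    intro z
    rw [hgeq, hex1 z]
    constructor
    · rintro ⟨w, rfl⟩
      exact ⟨w, by rw [rTensor_smulR]; rfl⟩
    · rintro ⟨w, rfl⟩
      exact ⟨w, by rw [rTensor_smulR]; rfl⟩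
  exact depth_add_one_of_exact (R := S) (N ⊗[R] M) (QuotSMulTop y N ⊗[R] M) hy hreg' g hg hex

end StepRight

section FibStep

variable {R S : Type u} [CommRing R] [CommRing S] [IsLocalRing R] [IsLocalRing S]
  [IsNoetherianRing S] [Algebra R S]
  (N : Type u) [AddCommGroup N] [Module S N] [Module.Finite S N]

theorem depth_fib_step {y : S} (hy : y ∈ maximalIdeal S)
    (hreg : IsSMulRegular (Fib R S N) y) :
    LocCoh.depth S (Fib R S (QuotSMulTop y N)) + 1 = LocCoh.depth S (Fib R S N) := by
  set I : Ideal S := (maximalIdeal R).map (algebraMap R S) with hI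
  let q : N →ₗ[S] QuotSMulTop y N := Submodule.mkQ (y • (⊤ : Submodule S N))
  have hmap : (I • (⊤ : Submodule S N)).map q = I • (⊤ : Submodule S (QuotSMulTop y N)) := by
    rw [Submodule.map_smul'', Submodule.map_top, Submodule.range_mkQ]
  have hle : I • (⊤ : Submodule S N) ≤
      (I • (⊤ : Submodule S (QuotSMulTop y N))).comap q := by
    rw [← Submodule.map_le_iff_le_comap, hmap]
  let g : Fib R S N →ₗ[S] Fib R S (QuotSMulTop y N) := Submodule.mapQ _ _ q hle
  have hg : Function.Surjective g := by
    intro z
    obtain ⟨z', rfl⟩ := Submodule.mkQ_surjective _ z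
    obtain ⟨n, rfl⟩ := Submodule.mkQ_surjective _ z'
    exact ⟨Submodule.Quotient.mk n, rfl⟩
  have hex : Function.Exact (y • LinearMap.id : Fib R S N →ₗ[S] Fib R S N) g := by
    intro z
    obtain ⟨n, rfl⟩ := Submodule.mkQ_surjective _ z
    constructor
    · intro hz
      have h1 : q n ∈ I • (⊤ : Submodule S (QuotSMulTop y N)) := by
        rw [← Submodule.Quotient.mk_eq_zero]; exact hz
      rw [← hmap] at h1
      obtain ⟨n₀, hn₀, hn₀'⟩ := h1
      have h3 : n₀ - n ∈ y • (⊤ : Submodule S N) := by
        rw [← Submodule.Quotient.mk_eq_zero, Submodule.Quotient.mk_sub, sub_eq_zero]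
        exact hn₀'
      obtain ⟨n₁, _, hn₁⟩ := (Submodule.mem_smul_pointwise_iff_exists _ _ _).1 h3
      refine ⟨(Submodule.Quotient.mk (-n₁) : Fib R S N), ?_⟩
      show y • (Submodule.Quotient.mk (-n₁) : Fib R S N) = (Submodule.Quotient.mk n : Fib R S N)
      rw [← Submodule.Quotient.mk_smul, smul_neg, hn₁, neg_sub, eq_comm,
        ← sub_eq_zero, ← Submodule.Quotient.mk_sub, Submodule.Quotient.mk_eq_zero]
      simpa using hn₀
    · rintro ⟨z', hz'⟩
      obtain ⟨n', rfl⟩ := Submodule.mkQ_surjective _ z'
      rw [← hz']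
      show g (y • (Submodule.Quotient.mk n' : Fib R S N)) = 0
      rw [map_smul]
      show y • (Submodule.Quotient.mk (q n') : Fib R S (QuotSMulTop y N)) = 0
      rw [← Submodule.Quotient.mk_smul, Submodule.Quotient.mk_eq_zero, ← map_smul]
      have : q (y • n') = 0 := by
        show Submodule.Quotient.mk (y • n') = 0
        rw [Submodule.Quotient.mk_eq_zero]
        exact Submodule.smul_mem_pointwise_smul _ _ _ Submodule.mem_top
      rw [this]
      exact zero_mem _
  exact depth_add_one_of_exact (R := S) (Fib R S N) (Fib R S (QuotSMulTop y N)) hy hreg g hg hex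

end FibStep

section Main

/-- In a Noetherian local ring, depth zero means the maximal ideal is associated. -/
theorem maximalIdeal_mem_associatedPrimes {A : Type u} [CommRing A] [IsLocalRing A]
    [IsNoetherianRing A] (M : Type u) [AddCommGroup M] [Module A M] [Module.Finite A M]
    (h : ¬ 1 ≤ LocCoh.depth A M) : maximalIdeal A ∈ associatedPrimes A M := by
  obtain ⟨q, hq, hle⟩ := exists_associatedPrime_of_not_one_le (maximalIdeal A) M h
  have : q = maximalIdeal A := le_antisymm (IsLocalRing.le_maximalIdeal hq.isPrime.ne_top) hle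
  rw [← this]; exact hq

theorem enat_eq_zero_of_not_one_le {d : ℕ∞} (h : ¬ 1 ≤ d) : d = 0 := by
  rw [ENat.one_le_iff_ne_zero, not_not] at h
  exact h

theorem subsingleton_of_smul_top_eq_top' {A : Type u} [CommRing A] [IsLocalRing A]
    (M : Type u) [AddCommGroup M] [Module A M]
    [Module.Finite A M] (h : IsLocalRing.maximalIdeal A • (⊤ : Submodule A M) = ⊤) :
    Subsingleton M := by
  have hbot : (⊤ : Submodule A M) = ⊥ :=
    Submodule.eq_bot_of_le_smul_of_le_jacobson_bot _ ⊤ Module.Finite.fg_top (by rw [h])
      (IsLocalRing.maximalIdeal_le_jacobson _)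
  rw [← Submodule.subsingleton_iff A]
  exact subsingleton_of_bot_eq_top hbot.symm

variable {R S : Type u} [CommRing R] [CommRing S] [IsLocalRing R] [IsLocalRing S]
  [IsNoetherianRing R] [IsNoetherianRing S] [Algebra R S] [IsLocalHom (algebraMap R S)]

theorem map_maximalIdeal_le : (maximalIdeal R).map (algebraMap R S) ≤ maximalIdeal S :=
  ((IsLocalRing.local_hom_TFAE (algebraMap R S)).out 0 2 rfl rfl).mp ‹_›

theorem nontrivial_fib (N : Type u) [AddCommGroup N] [Module S N] [Module.Finite S N]
    [Nontrivial N] : Nontrivial (Fib R S N) := by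
  rw [Submodule.Quotient.nontrivial_iff]
  intro h
  have h2 : maximalIdeal S • (⊤ : Submodule S N) = ⊤ :=
    eq_top_iff.2 (h.symm.le.trans (Submodule.smul_mono map_maximalIdeal_le le_rfl))
  have := subsingleton_of_smul_top_eq_top' N h2
  exact not_subsingleton N this

theorem nontrivial_quotSMulTop {A : Type u} [CommRing A] [IsLocalRing A]
    (M : Type u) [AddCommGroup M] [Module A M] [Module.Finite A M] [Nontrivial M]
    {x : A} (hx : x ∈ maximalIdeal A) : Nontrivial (QuotSMulTop x M) := by
  rw [Submodule.Quotient.nontrivial_iff]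
  intro h
  have h2 : maximalIdeal A • (⊤ : Submodule A M) = ⊤ := by
    refine eq_top_iff.2 (h.symm.le.trans ?_)
    intro m hm
    obtain ⟨m', _, rfl⟩ := (Submodule.mem_smul_pointwise_iff_exists _ _ _).1 hm
    exact Submodule.smul_mem_smul hx Submodule.mem_top
  have := subsingleton_of_smul_top_eq_top' M h2
  exact not_subsingleton M this

theorem smul_top_ne_top {A : Type u} [CommRing A] [IsLocalRing A]
    (M : Type u) [AddCommGroup M] [Module A M] [Module.Finite A M] [Nontrivial M] :
    maximalIdeal A • (⊤ : Submodule A M) ≠ ⊤ := by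
  intro h2
  have := subsingleton_of_smul_top_eq_top' M h2
  exact not_subsingleton M this

theorem depth_base (M N : Type u) [AddCommGroup M] [Module R M] [Module.Finite R M]
    [AddCommGroup N] [Module S N] [Module R N] [IsScalarTower R S N] [Module.Finite S N]
    [Module.Flat R N] (hM : ¬ 1 ≤ LocCoh.depth R M)
    (hN : ¬ 1 ≤ LocCoh.depth S (Fib R S N)) : ¬ 1 ≤ LocCoh.depth S (N ⊗[R] M) := by
  haveI := finite_tensor R S M N
  have h1 := maximalIdeal_mem_associatedPrimes M hM
  have h2 := maximalIdeal_mem_associatedPrimes (Fib R S N) hN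
  have h3 : maximalIdeal S ∈ associatedPrimes S (N ⊗[R] M) := by
    rw [Groth.Agent.AssFlat.associatedPrimes_tensor]
    simp only [Set.mem_iUnion]
    exact ⟨_, h1, h2⟩
  exact not_one_le_idealDepth_of_le_associatedPrime (maximalIdeal S) (N ⊗[R] M) _ h3 le_rfl

theorem depth_tensor_aux : ∀ (k : ℕ) (M N : Type u) [AddCommGroup M] [Module R M]
    [Module.Finite R M] [AddCommGroup N] [Module S N] [Module R N] [IsScalarTower R S N]
    [Module.Finite S N] [Module.Flat R N] [Nontrivial M] [Nontrivial N],
    LocCoh.depth R M + LocCoh.depth S (Fib R S N) = k → LocCoh.depth S (N ⊗[R] M) = k := by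
  intro k
  induction k with
  | zero =>
    intro M N _ _ _ _ _ _ _ _ _ _ _ h
    rw [Nat.cast_zero, add_eq_zero] at h
    have := depth_base M N (by rw [h.1]; simp) (by rw [h.2]; simp)
    rw [Nat.cast_zero]
    exact enat_eq_zero_of_not_one_le this
  | succ k ih =>
    intro M N _ _ _ _ _ _ _ _ _ _ _ h
    by_cases hM : 1 ≤ LocCoh.depth R M
    · have hM' := hM
      unfold LocCoh.depth at hM'
      rw [one_le_idealDepth_iff] at hM'
      rcases hM' with h0 | ⟨x, hx, hreg⟩
      · exact absurd h0 (smul_top_ne_top M)
      · have hstep : LocCoh.depth R (QuotSMulTop x M) + 1 = LocCoh.depth R M :=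
          idealDepth_quotSMulTop_add_one (maximalIdeal R) M hx hreg
        haveI : Nontrivial (QuotSMulTop x M) := nontrivial_quotSMulTop M hx
        have h' : LocCoh.depth R (QuotSMulTop x M) + LocCoh.depth S (Fib R S N) = k := by
          apply ENat.add_left_injective_of_ne_top ENat.one_ne_top
          show _ + _ + 1 = (k : ℕ∞) + 1
          rw [add_right_comm, hstep, h]
          push_cast
          rfl
        have h3 := ih (QuotSMulTop x M) N h'
        rw [← depth_step_left M N hx hreg, h3]
        push_cast
        rfl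
    · have hM0 : LocCoh.depth R M = 0 := enat_eq_zero_of_not_one_le hM
      rw [hM0, zero_add] at h
      have hN : 1 ≤ LocCoh.depth S (Fib R S N) := by
        rw [h]
        push_cast
        exact le_add_self
      haveI : Nontrivial (Fib R S N) := nontrivial_fib N
      have hN' := hN
      unfold LocCoh.depth at hN'
      rw [one_le_idealDepth_iff] at hN'
      rcases hN' with h0 | ⟨y, hy, hreg⟩
      · exact absurd h0 (smul_top_ne_top (Fib R S N))
      · haveI := flat_quotSMulTop N hreg
        haveI : Nontrivial (QuotSMulTop y N) := nontrivial_quotSMulTop N hy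
        have hstep := depth_fib_step (R := R) N hy hreg
        have h' : LocCoh.depth R M + LocCoh.depth S (Fib R S (QuotSMulTop y N)) = k := by
          apply ENat.add_left_injective_of_ne_top ENat.one_ne_top
          show _ + _ + 1 = (k : ℕ∞) + 1
          rw [hM0, zero_add, hstep, h]
          push_cast
          rfl
        have h3 := ih M (QuotSMulTop y N) h'
        rw [← depth_step_right M N hy hreg, h3]
        push_cast
        rfl

/-- **Depth of a flat tensor product.** -/
theorem depth_tensor (M N : Type u) [AddCommGroup M] [Module R M]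
    [Module.Finite R M] [AddCommGroup N] [Module S N] [Module R N] [IsScalarTower R S N]
    [Module.Finite S N] [Module.Flat R N] :
    LocCoh.depth S (N ⊗[R] M) = LocCoh.depth R M + LocCoh.depth S (Fib R S N) := by
  rcases subsingleton_or_nontrivial M with hM | hM
  · have h1 : LocCoh.depth R M = ⊤ := idealDepth_of_subsingleton _ M
    have h2 : LocCoh.depth S (N ⊗[R] M) = ⊤ := idealDepth_of_subsingleton _ _
    rw [h1, h2, top_add]
  rcases subsingleton_or_nontrivial N with hN | hN
  · have h1 : LocCoh.depth S (Fib R S N) = ⊤ := idealDepth_of_subsingleton _ _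
    have h2 : LocCoh.depth S (N ⊗[R] M) = ⊤ := idealDepth_of_subsingleton _ _
    rw [h1, h2, add_top]
  haveI : Nontrivial (Fib R S N) := nontrivial_fib N
  have h1 : LocCoh.depth R M ≠ ⊤ := idealDepth_ne_top _ M (smul_top_ne_top M)
  have h2 : LocCoh.depth S (Fib R S N) ≠ ⊤ := idealDepth_ne_top _ _ (smul_top_ne_top _)
  obtain ⟨a, ha⟩ := ENat.ne_top_iff_exists.1 h1
  obtain ⟨b, hb⟩ := ENat.ne_top_iff_exists.1 h2
  have h3 := depth_tensor_aux (a + b) M N (by rw [← ha, ← hb]; push_cast; rfl)
  rw [h3, ← ha, ← hb]
  push_cast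
  rfl

end Main

section FiniteLength

/-- a nonzero module of finite length over a Noetherian local ring has depth zero -/
theorem depth_eq_zero_of_isFiniteLength {A : Type u} [CommRing A] [IsLocalRing A]
    [IsNoetherianRing A] (M : Type u) [AddCommGroup M] [Module A M] [Nontrivial M]
    (h : IsFiniteLength A M) : LocCoh.depth A M = 0 := by
  obtain ⟨hnoeth, hart⟩ := isFiniteLength_iff_isNoetherian_isArtinian.1 h
  haveI : Module.Finite A M := inferInstance
  apply enat_eq_zero_of_not_one_le
  intro h1
  unfold LocCoh.depth at h1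
  rw [one_le_idealDepth_iff] at h1
  rcases h1 with h0 | ⟨y, hy, hreg⟩
  · exact absurd h0 (smul_top_ne_top M)
  · have hsurj : Function.Surjective (y • LinearMap.id : M →ₗ[A] M) :=
      IsArtinian.surjective_of_injective_endomorphism _ hreg
    apply smul_top_ne_top (A := A) M
    rw [eq_top_iff]
    intro m _
    obtain ⟨m', rfl⟩ := hsurj m
    exact Submodule.smul_mem_smul hy Submodule.mem_top

variable {R S : Type u} [CommRing R] [CommRing S] [IsLocalRing R] [IsLocalRing S]
  [IsNoetherianRing R] [IsNoetherianRing S] [Algebra R S] [IsLocalHom (algebraMap R S)]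

/-- if the closed fibre has finite length, `depth (N ⊗ M) = depth M` -/
theorem depth_tensor_of_isFiniteLength (M N : Type u) [AddCommGroup M] [Module R M]
    [Module.Finite R M] [AddCommGroup N] [Module S N] [Module R N] [IsScalarTower R S N]
    [Module.Finite S N] [Module.Flat R N] [Nontrivial N] (h : IsFiniteLength S (Fib R S N)) :
    LocCoh.depth S (N ⊗[R] M) = LocCoh.depth R M := by
  haveI : Nontrivial (Fib R S N) := nontrivial_fib N
  rw [depth_tensor M N, depth_eq_zero_of_isFiniteLength _ h, add_zero]

end FiniteLength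

end Groth.Agent.DepthTensor
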