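import Groth.Agent.Lib.SepSmooth_helper3
import Groth.Agent.Lib.PerfectGR_helper3

/-!
# Uniqueness of coefficient fields (EGA 0_IV 21.?; Ω_{K/ℤ} = 0 criterion)
-/

set_option autoImplicit false
set_option maxSynthPendingDepth 3

namespace Groth.Agent.Lib.CoeffFieldH3

universe u

open IsLocalRing KaehlerDifferential

/-- Transfer of adic completeness to a smaller ideal defining the same topology. -/
theorem isAdicComplete_of_le_of_pow_le {A : Type u} [CommRing A] (I J : Ideal A) (n : ℕ)
    (h1 : J ≤ I) (h2 : I ^ n ≤ J) [IsAdicComplete I A] : IsAdicComplete J A := by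
  have hJI : ∀ k, (J ^ k • ⊤ : Submodule A A) ≤ I ^ k • ⊤ := fun k =>
    Submodule.smul_mono_left (Ideal.pow_right_mono h1 k)
  have hIJ : ∀ k, (I ^ (n * k) • ⊤ : Submodule A A) ≤ J ^ k • ⊤ := fun k => by
    rw [pow_mul]
    exact Submodule.smul_mono_left (Ideal.pow_right_mono h2 k)
  refine { haus' := ?_, prec' := ?_ }
  · intro x hx
    exact IsHausdorff.haus (inferInstance : IsHausdorff I A) x
      (fun k => SModEq.mono (hJI k) (hx k))
  · intro f hf
    obtain ⟨L, hL⟩ := IsPrecomplete.prec (inferInstance : IsPrecomplete I A) (f := f) (by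
        intro k l hkl
        exact SModEq.mono (hJI k) (hf hkl))
    refine ⟨L, fun k => ?_⟩
    have hN1 : k ≤ max k (n * k) := le_max_left _ _
    have hN2 : n * k ≤ max k (n * k) := le_max_right _ _
    have e1 := hf hN1
    have e2 := hL (max k (n * k))
    have e3 : f (max k (n * k)) ≡ L [SMOD (J ^ k • ⊤ : Submodule A A)] :=
      SModEq.mono ((Submodule.smul_mono_left (Ideal.pow_le_pow_right hN2)).trans (hIJ k)) e2
    exact e1.trans e3

/-- Reinterpret a ring hom as a `ℤ`-algebra hom, for arbitrary `ℤ`-algebra instances. -/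
def toIntAlgHom' {X Y : Type*} [Ring X] [Ring Y] [Algebra ℤ X] [Algebra ℤ Y] (f : X →+* Y) :
    X →ₐ[ℤ] Y :=
  { f with
    commutes' := fun n => by
      show f (algebraMap ℤ X n) = algebraMap ℤ Y n
      rw [eq_intCast (algebraMap ℤ X) n, eq_intCast (algebraMap ℤ Y) n, map_intCast] }

/-- An additive Leibniz map of a field kills `1`. -/
theorem leibniz_map_one {K : Type u} [Field K] (D : K →+ K)
    (hD : ∀ x y, D (x * y) = x * D y + y * D x) : D 1 = 0 := by
  have := hD 1 1
  rw [mul_one, one_mul] at this
  linear_combination (-1 : K) * this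

/-- An additive Leibniz map of a field vanishes on the prime subfield. -/
theorem leibniz_eq_zero_of_mem_bot {K : Type u} [Field K] (D : K →+ K)
    (hD : ∀ x y, D (x * y) = x * D y + y * D x) (a : K) (ha : a ∈ (⊥ : Subfield K)) :
    D a = 0 := by
  have h1 := leibniz_map_one D hD
  let S : Subfield K :=
    { carrier := {a | D a = 0}
      mul_mem' := fun {a b} ha hb => by
        show D (a * b) = 0
        rw [hD, show D a = 0 from ha, show D b = 0 from hb, mul_zero, mul_zero, add_zero]
      one_mem' := h1
      add_mem' := fun {a b} ha hb => by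
        show D (a + b) = 0
        rw [map_add, show D a = 0 from ha, show D b = 0 from hb, add_zero]
      zero_mem' := map_zero D
      neg_mem' := fun {a} ha => by
        show D (-a) = 0
        rw [map_neg, show D a = 0 from ha, neg_zero]
      inv_mem' := fun a ha => by
        show D a⁻¹ = 0
        rcases eq_or_ne a 0 with rfl | ha0
        · rw [inv_zero]
          exact map_zero D
        · have h2 := hD a a⁻¹
          rw [mul_inv_cancel₀ ha0, h1, show D a = 0 from ha, mul_zero, add_zero] at h2
          exact (mul_eq_zero.1 h2.symm).resolve_left ha0 }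
  exact (bot_le : (⊥ : Subfield K) ≤ S) ha

/-- A field which is not formally unramified over `ℤ` has a nonzero additive Leibniz map. -/
theorem exists_leibniz_of_not_formallyUnramified (K : Type u) [Field K] [Algebra ℤ K]
    (h : ¬ Algebra.FormallyUnramified ℤ K) :
    ∃ D : K →+ K, (∀ x y, D (x * y) = x * D y + y * D x) ∧ ∃ x₀, D x₀ ≠ 0 := by
  classical
  rw [Algebra.FormallyUnramified.iff_comp_injective] at h
  push Not at h
  obtain ⟨B, _, _, I, hI, hninj⟩ := h
  rw [Function.Injective] at hninj
  push Not at hninj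
  obtain ⟨g₁, g₂, hcomp, hne⟩ := hninj
  have hδI : ∀ x, g₁ x - g₂ x ∈ I := fun x => by
    have := AlgHom.congr_fun hcomp x
    exact Ideal.Quotient.eq.1 this
  obtain ⟨x₀, hx₀⟩ : ∃ x₀, g₁ x₀ ≠ g₂ x₀ := by
    by_contra hall
    push Not at hall
    exact hne (AlgHom.ext hall)
  letI : Module K B := Module.compHom B g₁.toRingHom
  have hsm : ∀ (a : K) (b : B), a • b = g₁ a * b := fun _ _ => rfl
  obtain ⟨φ, hφ⟩ := Module.Projective.exists_dual_ne_zero K (x := g₁ x₀ - g₂ x₀)
    (sub_ne_zero.2 hx₀)
  refine ⟨⟨⟨fun x => φ (g₁ x - g₂ x), by simp⟩, fun x y => ?_⟩, fun x y => ?_, x₀, hφ⟩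
  · show φ (g₁ (x + y) - g₂ (x + y)) = φ (g₁ x - g₂ x) + φ (g₁ y - g₂ y)
    rw [← map_add]
    congr 1
    rw [map_add, map_add]
    ring
  · show φ (g₁ (x * y) - g₂ (x * y)) = x * φ (g₁ y - g₂ y) + y * φ (g₁ x - g₂ x)
    have h0 : (g₁ y - g₂ y) * (g₁ x - g₂ x) = 0 := by
      have : (g₁ y - g₂ y) * (g₁ x - g₂ x) ∈ I ^ 2 := by
        rw [sq]
        exact Ideal.mul_mem_mul (hδI y) (hδI x)
      rw [hI] at this
      exact this
    have h1 : g₁ (x * y) - g₂ (x * y) = x • (g₁ y - g₂ y) + y • (g₁ x - g₂ x) := by
      rw [hsm, hsm, map_mul, map_mul]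
      linear_combination (-1 : B) * h0
    rw [h1, map_add, map_smul, map_smul, smul_eq_mul, smul_eq_mul]

/-- The prime subfield is perfect. -/
theorem perfectField_bot (K : Type u) [Field K] : PerfectField (⊥ : Subfield K) := by
  obtain ⟨p, hp⟩ := CharP.exists K
  rcases CharP.char_is_prime_or_zero K p with hpp | rfl
  · haveI : Fact p.Prime := ⟨hpp⟩
    letI : Algebra (ZMod p) K := ZMod.algebra K p
    haveI : Finite (⊥ : Subfield K) := by
      rw [Subfield.bot_eq_of_zMod_algebra p]
      exact Finite.of_surjective (algebraMap (ZMod p) K).rangeRestrictField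
        (algebraMap (ZMod p) K).rangeRestrictField_bijective.2
    exact PerfectField.ofFinite
  · haveI : CharZero K := CharP.charP_to_charZero K
    haveI : CharZero (⊥ : Subfield K) :=
      charZero_of_injective_ringHom (⊥ : Subfield K).subtype.injective |> fun _ => by
        exact (RingHom.charZero_iff (⊥ : Subfield K).subtype.injective).2 inferInstance
    exact PerfectField.ofCharZero

section Main

variable {C : Type u} [CommRing C] [IsLocalRing C]

/-- If `Ω_{K/ℤ} = 0`, any two sections of the residue map agree. -/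
theorem eq_of_formallyUnramified [IsNoetherianRing C] [Algebra ℤ (ResidueField C)]
    [Algebra.FormallyUnramified ℤ (ResidueField C)]
    (u v : ResidueField C →+* C) (hu : ∀ x, residue C (u x) = x)
    (hv : ∀ x, residue C (v x) = x) : v = u := by
  have hK : ⨅ i, maximalIdeal C ^ i = ⊥ :=
    Ideal.iInf_pow_eq_bot_of_isLocalRing _ (maximalIdeal.isMaximal C).ne_top
  have h1 : toIntAlgHom' v = toIntAlgHom' u := by
    refine Algebra.FormallyUnramified.ext_of_iInf (I := maximalIdeal C) hK fun x => ?_
    show residue C (v x) = residue C (u x)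
    rw [hu, hv]
  ext x
  exact AlgHom.congr_fun h1 x

/-- If `K` is not formally unramified over `ℤ` and `𝔪 ≠ 0`, a section of the residue map is not
unique. -/
theorem exists_ne_of_not_formallyUnramified [IsNoetherianRing C]
    [IsAdicComplete (maximalIdeal C) C] [Algebra ℤ (ResidueField C)]
    (hm : maximalIdeal C ≠ ⊥) (u : ResidueField C →+* C) (hu : ∀ x, residue C (u x) = x)
    (hΩ : ¬ Algebra.FormallyUnramified ℤ (ResidueField C)) :
    ∃ v : ResidueField C →+* C, (∀ x, residue C (v x) = x) ∧ v ≠ u := by
  classical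
  obtain ⟨D, hD, x₀, hx₀⟩ := exists_leibniz_of_not_formallyUnramified (ResidueField C) hΩ
  have hD1 := leibniz_map_one D hD
  obtain ⟨t, htm, htm2⟩ : ∃ t ∈ maximalIdeal C, t ∉ maximalIdeal C ^ 2 := by
    by_contra hall
    push Not at hall
    apply hm
    have hle : maximalIdeal C ≤ maximalIdeal C • maximalIdeal C := by
      intro t ht
      have := hall t ht
      rwa [sq] at this
    exact Submodule.eq_bot_of_le_smul_of_le_jacobson_bot (maximalIdeal C) (maximalIdeal C)
      (IsNoetherian.noetherian _) hle (maximalIdeal_le_jacobson _)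
  haveI : PerfectField (⊥ : Subfield (ResidueField C)) := perfectField_bot (ResidueField C)
  haveI : Algebra.IsGeometricallyReduced (⊥ : Subfield (ResidueField C)) (ResidueField C) :=
    PerfectGRH3.isGeometricallyReduced_of_perfectField _ _
  haveI : Algebra.FormallySmooth (⊥ : Subfield (ResidueField C)) (ResidueField C) :=
    SepSmoothH3.formallySmooth_of_isGeometricallyReduced _ _
  letI : Algebra (⊥ : Subfield (ResidueField C)) C :=
    (u.comp (algebraMap (⊥ : Subfield (ResidueField C)) (ResidueField C))).toAlgebra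
  haveI : IsAdicComplete (maximalIdeal C ^ 2) C :=
    isAdicComplete_of_le_of_pow_le (maximalIdeal C) (maximalIdeal C ^ 2) 2
      (Ideal.pow_le_self two_ne_zero) le_rfl
  let v₁ : ResidueField C →ₐ[(⊥ : Subfield (ResidueField C))] C ⧸ maximalIdeal C ^ 2 :=
    { toFun := fun x => Ideal.Quotient.mk _ (u x + u (D x) * t)
      map_one' := by
        rw [hD1, map_zero, zero_mul, add_zero, map_one, map_one]
      map_mul' := fun x y => by
        rw [← map_mul, Ideal.Quotient.eq]
        have h1 : u (x * y) + u (D (x * y)) * t - (u x + u (D x) * t) * (u y + u (D y) * t) =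
            -(u (D x) * u (D y)) * (t * t) := by
          rw [hD]
          simp only [map_add, map_mul]
          ring
        rw [h1]
        exact Ideal.mul_mem_left _ _ (by rw [sq]; exact Ideal.mul_mem_mul htm htm)
      map_zero' := by
        rw [map_zero, map_zero, map_zero, zero_mul, add_zero, map_zero]
      map_add' := fun x y => by
        rw [← map_add]
        congr 1
        rw [map_add, map_add, map_add]
        ring
      commutes' := fun a => by
        show Ideal.Quotient.mk _ (u (algebraMap _ (ResidueField C) a) +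
          u (D (algebraMap _ (ResidueField C) a)) * t) = _
        have h0 : D (algebraMap (⊥ : Subfield (ResidueField C)) (ResidueField C) a) = 0 :=
          leibniz_eq_zero_of_mem_bot D hD _ a.2
        rw [h0, map_zero, zero_mul, add_zero]
        rfl }
  obtain ⟨v, hv⟩ := Algebra.FormallySmooth.exists_mkₐ_comp_eq_of_isAdicComplete v₁
  have hv' : ∀ x, v x - (u x + u (D x) * t) ∈ maximalIdeal C ^ 2 := fun x => by
    have := AlgHom.congr_fun hv x
    exact Ideal.Quotient.eq.1 this
  refine ⟨v.toRingHom, fun x => ?_, fun hvu => ?_⟩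
  · have h1 := Ideal.pow_le_self two_ne_zero (hv' x)
    have h2 : residue C (v x - (u x + u (D x) * t)) = 0 := (residue_eq_zero_iff _).2 h1
    rw [map_sub, map_add, map_mul, hu, hu, (residue_eq_zero_iff t).2 htm, mul_zero, add_zero,
      sub_eq_zero] at h2
    exact h2
  · apply htm2
    have h1 := hv' x₀
    have h2 : v x₀ = u x₀ := RingHom.congr_fun hvu x₀
    rw [h2] at h1
    have h3 : u (D x₀) * t ∈ maximalIdeal C ^ 2 := by
      have h4 : u x₀ - (u x₀ + u (D x₀) * t) = -(u (D x₀) * t) := by ring
      rw [h4] at h1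
      exact neg_mem_iff.1 h1
    have hunit : IsUnit (u (D x₀)) := (IsUnit.mk0 _ hx₀).map u
    exact (Ideal.unit_mul_mem_iff_mem _ hunit).1 h3

/-- EGA 0_IV (coefficient fields): a section of `C → K` is unique iff `Ω_{K/ℤ} = 0`. -/
theorem unique_section_iff [IsNoetherianRing C] [IsAdicComplete (maximalIdeal C) C]
    [Algebra ℤ (ResidueField C)]
    (hm : maximalIdeal C ≠ ⊥) (u : ResidueField C →+* C) (hu : ∀ x, residue C (u x) = x) :
    (∀ v : ResidueField C →+* C, (∀ x, residue C (v x) = x) → v = u) ↔
      Subsingleton (Ω[ResidueField C⁄ℤ]) := by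
  rw [← Algebra.formallyUnramified_iff]
  constructor
  · intro h
    by_contra hΩ
    obtain ⟨v, hv, hne⟩ := exists_ne_of_not_formallyUnramified hm u hu hΩ
    exact hne (h v hv)
  · intro hΩ v hv
    exact eq_of_formallyUnramified u v hu hv

end Main

end Groth.Agent.Lib.CoeffFieldH3
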