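import Groth.Agent.S2453
import Groth.Agent.Lib.CoeffField_helper3
import Groth.Agent.Lib.PerfectGR_helper3

/-!
# Adic formal smoothness of a local algebra over a field: differential criterion (EGA 0_IV 22.5.8)

* transitivity of adic formal smoothness along a formally smooth (discrete) base extension
* lifting along an arbitrary square-zero surjection
* extension of derivations `k → L` to `A → L` for adically formally smooth `A`
* injectivity of `Ω_{k/ℤ} ⊗ K → Ω_{A/ℤ} ⊗ K` ⟺ extension of derivations into `𝔪`-torsion modules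
* regular + extension of derivations ⇒ adically formally smooth over `k`
-/

set_option autoImplicit false
set_option maxSynthPendingDepth 3

namespace Groth.Agent.Lib.AdicFSFieldH3

universe u

open IsLocalRing TensorProduct

section Tower

/-- Transitivity: `k₀ → k` formally smooth (discrete), `A` adically formally smooth over `k`
  ⇒ `A` adically formally smooth over `k₀`. -/
theorem isAdicFormallySmooth_of_tower (k₀ k A : Type u) [CommRing k₀] [CommRing k] [CommRing A]
    [Algebra k₀ k] [Algebra k A] [Algebra k₀ A] [IsScalarTower k₀ k A]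
    [Algebra.FormallySmooth k₀ k] (𝔫 : Ideal A) (h : CAlgX.IsAdicFormallySmooth k A 𝔫) :
    CAlgX.IsAdicFormallySmooth k₀ A 𝔫 := by
  intro C _ _ J hJ ψ hψ
  let u : k →ₐ[k₀] C ⧸ J := ψ.comp (IsScalarTower.toAlgHom k₀ k A)
  obtain ⟨σ, hσ⟩ := Algebra.FormallySmooth.exists_lift J ⟨2, hJ⟩ u
  letI algC : Algebra k C := σ.toRingHom.toAlgebra
  haveI : IsScalarTower k₀ k C := IsScalarTower.of_algebraMap_eq (fun x => (σ.commutes x).symm)
  let ψ' : A →ₐ[k] C ⧸ J :=
    { ψ.toRingHom with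
      commutes' := fun x => by
        have h1 : Ideal.Quotient.mk J (σ x) = ψ (algebraMap k A x) := AlgHom.congr_fun hσ x
        exact h1.symm }
  obtain ⟨χ, hχ⟩ := h C J hJ ψ' hψ
  refine ⟨χ.restrictScalars k₀, ?_⟩
  ext x
  exact AlgHom.congr_fun hχ x

end Tower

section Lift

/-- Lifting along an arbitrary surjection with square-zero kernel. -/
theorem lift_of_surjective {R S : Type u} [CommRing R] [CommRing S] [Algebra R S] (𝔫 : Ideal S)
    (h : CAlgX.IsAdicFormallySmooth R S 𝔫) {C C' : Type u} [CommRing C] [CommRing C']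
    [Algebra R C] [Algebra R C'] (π : C →ₐ[R] C') (hπ : Function.Surjective π)
    (hker : RingHom.ker π.toRingHom ^ 2 = ⊥) (ψ : S →ₐ[R] C')
    (hψ : ∃ j : ℕ, ∀ x ∈ 𝔫 ^ j, ψ x = 0) : ∃ χ : S →ₐ[R] C, π.comp χ = ψ := by
  let e : (C ⧸ RingHom.ker π.toRingHom) ≃ₐ[R] C' := Ideal.quotientKerAlgEquivOfSurjective hπ
  obtain ⟨j, hj⟩ := hψ
  obtain ⟨χ, hχ⟩ := h C (RingHom.ker π.toRingHom) hker (e.symm.toAlgHom.comp ψ)
    ⟨j, fun x hx => by
      show e.symm (ψ x) = 0
      rw [hj x hx, map_zero]⟩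
  refine ⟨χ, ?_⟩
  ext x
  have h1 : Ideal.Quotient.mk (RingHom.ker π.toRingHom) (χ x) = e.symm (ψ x) :=
    AlgHom.congr_fun hχ x
  have h2 : e (Ideal.Quotient.mk (RingHom.ker π.toRingHom) (χ x)) = π (χ x) :=
    Ideal.quotientKerAlgEquivOfSurjective_mk hπ (χ x)
  show π (χ x) = ψ x
  rw [← h2, h1, AlgEquiv.apply_symm_apply]

end Lift

section DerivExt

/-- Dual numbers as a bare commutative ring (no inherited algebra structures). -/
def Tw (L : Type u) [CommRing L] : Type u := DualNumber L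

noncomputable instance (L : Type u) [CommRing L] : CommRing (Tw L) :=
  inferInstanceAs (CommRing (DualNumber L))

variable {k A : Type u} [CommRing k] [CommRing A] [Algebra k A]
variable (L : Type u) [CommRing L] [Algebra A L] [Algebra k L] [IsScalarTower k A L]

/-- first component -/
def Tw.fst {L : Type u} [CommRing L] (x : Tw L) : L := TrivSqZeroExt.fst (R := L) (M := L) x
/-- second component -/
def Tw.snd {L : Type u} [CommRing L] (x : Tw L) : L := TrivSqZeroExt.snd (R := L) (M := L) x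
/-- constructor -/
def Tw.mk {L : Type u} [CommRing L] (a b : L) : Tw L := ((a, b) : DualNumber L)

section TwAPI
variable {L : Type u} [CommRing L]
theorem Tw.ext {x y : Tw L} (h1 : x.fst = y.fst) (h2 : x.snd = y.snd) : x = y :=
  TrivSqZeroExt.ext h1 h2
@[simp] theorem Tw.fst_mk (a b : L) : (Tw.mk a b).fst = a := rfl
@[simp] theorem Tw.snd_mk (a b : L) : (Tw.mk a b).snd = b := rfl
theorem Tw.fst_mul (x y : Tw L) : (x * y).fst = x.fst * y.fst :=
  TrivSqZeroExt.fst_mul (R := L) (M := L) x y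
theorem Tw.snd_mul (x y : Tw L) : (x * y).snd = x.fst * y.snd + x.snd * y.fst :=
  DualNumber.snd_mul (R := L) x y
theorem Tw.fst_add (x y : Tw L) : (x + y).fst = x.fst + y.fst := rfl
theorem Tw.snd_add (x y : Tw L) : (x + y).snd = x.snd + y.snd := rfl
theorem Tw.fst_zero : (0 : Tw L).fst = 0 := rfl
theorem Tw.snd_zero : (0 : Tw L).snd = 0 := rfl
theorem Tw.fst_one : (1 : Tw L).fst = 1 := rfl
theorem Tw.snd_one : (1 : Tw L).snd = 0 := rfl
end TwAPI

/-- first projection -/
noncomputable def twFst : Tw L →+* L where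
  toFun := Tw.fst
  map_one' := Tw.fst_one
  map_mul' := Tw.fst_mul
  map_zero' := Tw.fst_zero
  map_add' := Tw.fst_add

/-- twisted structure map -/
noncomputable def twist (D : Derivation ℤ k L) : k →+* Tw L where
  toFun a := Tw.mk (algebraMap k L a) (D a)
  map_one' := by
    refine Tw.ext ?_ ?_
    · rw [Tw.fst_mk, Tw.fst_one, map_one]
    · rw [Tw.snd_mk, Tw.snd_one, D.map_one_eq_zero]
  map_mul' a b := by
    refine Tw.ext ?_ ?_
    · rw [Tw.fst_mk, Tw.fst_mul, Tw.fst_mk, Tw.fst_mk, map_mul]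
    · rw [Tw.snd_mk, Tw.snd_mul, Tw.fst_mk, Tw.fst_mk, Tw.snd_mk, Tw.snd_mk, D.leibniz,
        Algebra.smul_def, Algebra.smul_def]
      ring
  map_zero' := by
    refine Tw.ext ?_ ?_
    · rw [Tw.fst_mk, Tw.fst_zero, map_zero]
    · rw [Tw.snd_mk, Tw.snd_zero, map_zero]
  map_add' a b := by
    refine Tw.ext ?_ ?_
    · rw [Tw.fst_mk, Tw.fst_add, Tw.fst_mk, Tw.fst_mk, map_add]
    · rw [Tw.snd_mk, Tw.snd_add, Tw.snd_mk, Tw.snd_mk, map_add]

/-- Extension of derivations: if `A` is adically formally smooth over `k` and `A → L` is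
continuous (`L` discrete), every derivation `k → L` extends to `A → L`. -/
theorem exists_derivation_extension (𝔫 : Ideal A) (h : CAlgX.IsAdicFormallySmooth k A 𝔫)
    (hL : ∃ j : ℕ, ∀ x ∈ 𝔫 ^ j, algebraMap A L x = 0)
    (D : Derivation ℤ k L) : ∃ D' : Derivation ℤ A L, ∀ a, D' (algebraMap k A a) = D a := by
  classical
  letI algC : Algebra k (Tw L) := (twist L D).toAlgebra
  let π : Tw L →ₐ[k] L := { twFst L with commutes' := fun a => rfl }
  have hπ : Function.Surjective π := fun l => ⟨Tw.mk l 0, rfl⟩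
  have hπfst : ∀ x : Tw L, π x = x.fst := fun x => rfl
  have hker : RingHom.ker π.toRingHom ^ 2 = ⊥ := by
    rw [eq_bot_iff, pow_two, Ideal.mul_le]
    intro x hx y hy
    rw [RingHom.mem_ker] at hx hy
    have hx' : x.fst = 0 := hx
    have hy' : y.fst = 0 := hy
    rw [Ideal.mem_bot]
    refine Tw.ext ?_ ?_
    · rw [Tw.fst_mul, hx', zero_mul, Tw.fst_zero]
    · rw [Tw.snd_mul, hx', hy', zero_mul, mul_zero, add_zero, Tw.snd_zero]
  obtain ⟨χ, hχ⟩ := lift_of_surjective 𝔫 h π hπ hker (IsScalarTower.toAlgHom k A L) hL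
  have hfst : ∀ a, (χ a).fst = algebraMap A L a :=
    fun a => AlgHom.congr_fun hχ a
  let D₀ : A →+ L :=
    { toFun := fun a => (χ a).snd
      map_zero' := by
        show (χ 0).snd = 0
        rw [map_zero, Tw.snd_zero]
      map_add' := fun a b => by
        show (χ (a + b)).snd = _
        rw [map_add, Tw.snd_add] }
  refine ⟨Derivation.mk' D₀.toIntLinearMap (fun a b => ?_), fun a => ?_⟩
  · show (χ (a * b)).snd = a • (χ b).snd + b • (χ a).snd
    rw [map_mul, Tw.snd_mul, hfst, hfst, Algebra.smul_def, Algebra.smul_def]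
    ring
  · show (χ (algebraMap k A a)).snd = D a
    rw [χ.commutes]
    rfl

end DerivExt

section Inj

variable {k A : Type u} [Field k] [CommRing A] [IsLocalRing A] [Algebra k A]

theorem one_tmul_smul {M : Type*} [AddCommGroup M] [Module A M] (c : A) (ω : M) :
    (1 : ResidueField A) ⊗ₜ[A] (c • ω) =
      algebraMap A (ResidueField A) c • ((1 : ResidueField A) ⊗ₜ[A] ω) := by
  rw [tmul_smul, algebraMap_smul]

theorem one_tmul_one_tmul_smul (c : k) (ω : Ω[k⁄ℤ]) :
    (1 : ResidueField A) ⊗ₜ[A] ((1 : A) ⊗ₜ[k] (c • ω)) =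
      algebraMap k (ResidueField A) c • ((1 : ResidueField A) ⊗ₜ[A] ((1 : A) ⊗ₜ[k] ω)) := by
  rw [tmul_smul, ← algebraMap_smul A c ((1 : A) ⊗ₜ[k] ω), one_tmul_smul,
    ← IsScalarTower.algebraMap_apply]

/-- generators of `K ⊗_A (A ⊗_k Ω_k)` -/
theorem span_tmul_tmul_D :
    Submodule.span (ResidueField A) (Set.range fun a : k =>
      (1 : ResidueField A) ⊗ₜ[A] ((1 : A) ⊗ₜ[k] KaehlerDifferential.D ℤ k a)) = ⊤ := by
  rw [eq_top_iff]
  rintro x -
  set S := Submodule.span (ResidueField A) (Set.range fun a : k =>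
      (1 : ResidueField A) ⊗ₜ[A] ((1 : A) ⊗ₜ[k] KaehlerDifferential.D ℤ k a)) with hS
  have h1 : ∀ ω : Ω[k⁄ℤ], (1 : ResidueField A) ⊗ₜ[A] ((1 : A) ⊗ₜ[k] ω) ∈ S := by
    intro ω
    have hω : ω ∈ Submodule.span k (Set.range (KaehlerDifferential.D ℤ k)) := by
      rw [KaehlerDifferential.span_range_derivation]
      trivial
    induction hω using Submodule.span_induction with
    | mem x hx =>
      obtain ⟨a, rfl⟩ := hx
      exact Submodule.subset_span ⟨a, rfl⟩
    | zero =>
      rw [tmul_zero, tmul_zero]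
      exact S.zero_mem
    | add x y _ _ hx hy =>
      rw [tmul_add, tmul_add]
      exact S.add_mem hx hy
    | smul c x _ hx =>
      rw [one_tmul_one_tmul_smul]
      exact S.smul_mem _ hx
  have h2 : ∀ y : A ⊗[k] Ω[k⁄ℤ], (1 : ResidueField A) ⊗ₜ[A] y ∈ S := by
    intro y
    induction y using TensorProduct.induction_on with
    | zero =>
      rw [tmul_zero]
      exact S.zero_mem
    | add x y hx hy =>
      rw [tmul_add]
      exact S.add_mem hx hy
    | tmul r ω =>
      have h3 : r ⊗ₜ[k] ω = r • ((1 : A) ⊗ₜ[k] ω) := by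
        rw [smul_tmul', smul_eq_mul, mul_one]
      rw [h3, one_tmul_smul]
      exact S.smul_mem _ (h1 ω)
  induction x using TensorProduct.induction_on with
  | zero => exact S.zero_mem
  | add x y hx hy => exact S.add_mem hx hy
  | tmul c y =>
    have : c ⊗ₜ[A] y = c • ((1 : ResidueField A) ⊗ₜ[A] y) := by
      rw [smul_tmul', smul_eq_mul, mul_one]
    rw [this]
    exact S.smul_mem _ (h2 y)

/-- If every derivation `k → K` extends to `A → K`, then `Ω_k ⊗ K → Ω_A ⊗ K` is injective. -/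
theorem injective_of_extension
    (H : ∀ D : Derivation ℤ k (ResidueField A),
      ∃ D' : Derivation ℤ A (ResidueField A), ∀ a, D' (algebraMap k A a) = D a) :
    Function.Injective ((KaehlerDifferential.mapBaseChange ℤ k A).lTensor (ResidueField A)) := by
  classical
  let f := (KaehlerDifferential.mapBaseChange ℤ k A).baseChange (ResidueField A)
  have hf : (f : _ → _) = (KaehlerDifferential.mapBaseChange ℤ k A).lTensor (ResidueField A) :=
    LinearMap.baseChange_eq_ltensor _
  rw [← hf]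
  rw [injective_iff_map_eq_zero]
  intro v hv
  rw [← Module.forall_dual_apply_eq_zero_iff (ResidueField A)]
  intro φ
  -- the derivation attached to `φ`
  let D₀ : k →+ ResidueField A :=
    { toFun := fun a => φ ((1 : ResidueField A) ⊗ₜ[A] ((1 : A) ⊗ₜ[k] KaehlerDifferential.D ℤ k a))
      map_zero' := by
        show φ _ = 0
        rw [map_zero, tmul_zero, tmul_zero, map_zero]
      map_add' := fun a b => by
        show φ _ = φ _ + φ _
        rw [map_add, tmul_add, tmul_add, map_add] }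
  have hleib : ∀ a b : k, D₀ (a * b) = a • D₀ b + b • D₀ a := by
    intro a b
    show φ _ = a • φ _ + b • φ _
    rw [(KaehlerDifferential.D ℤ k).leibniz, tmul_add, tmul_add, map_add,
      one_tmul_one_tmul_smul, one_tmul_one_tmul_smul, map_smul, map_smul, algebraMap_smul,
      algebraMap_smul]
  let D : Derivation ℤ k (ResidueField A) := Derivation.mk' D₀.toIntLinearMap hleib
  obtain ⟨D', hD'⟩ := H D
  let g₀ : Ω[A⁄ℤ] →ₗ[A] ResidueField A := D'.liftKaehlerDifferential
  let ψ : ResidueField A ⊗[A] Ω[A⁄ℤ] →ₗ[ResidueField A] ResidueField A :=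
    g₀.liftBaseChange (ResidueField A)
  have hcomp : ψ ∘ₗ f = φ := by
    apply LinearMap.ext_on_range (span_tmul_tmul_D (k := k) (A := A))
    intro a
    show ψ (f ((1 : ResidueField A) ⊗ₜ[A] ((1 : A) ⊗ₜ[k] KaehlerDifferential.D ℤ k a))) = _
    have h1 : f ((1 : ResidueField A) ⊗ₜ[A] ((1 : A) ⊗ₜ[k] KaehlerDifferential.D ℤ k a)) =
        (1 : ResidueField A) ⊗ₜ[A] KaehlerDifferential.D ℤ A (algebraMap k A a) := by
      show (1 : ResidueField A) ⊗ₜ[A] (KaehlerDifferential.mapBaseChange ℤ k A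
        ((1 : A) ⊗ₜ[k] KaehlerDifferential.D ℤ k a)) = _
      rw [KaehlerDifferential.mapBaseChange_tmul, one_smul, KaehlerDifferential.map_D]
    rw [h1]
    show (1 : ResidueField A) • g₀ (KaehlerDifferential.D ℤ A (algebraMap k A a)) = _
    rw [one_smul, Derivation.liftKaehlerDifferential_comp_D, hD']
    rfl
  rw [← hcomp]
  show ψ (f v) = 0
  rw [hv, map_zero]

/-- The derivation extension property for `𝔫`-torsion modules. -/
def ExtProp (k A : Type u) [CommRing k] [CommRing A] [Algebra k A] (𝔫 : Ideal A) : Prop :=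
  ∀ (V : Type u) [AddCommGroup V] [Module A V], (∀ x ∈ 𝔫, ∀ v : V, x • v = 0) →
    ∀ D : k →+ V, (∀ a b, D (a * b) = algebraMap k A a • D b + algebraMap k A b • D a) →
      ∃ D' : A →+ V, (∀ a b, D' (a * b) = a • D' b + b • D' a) ∧
        ∀ a, D' (algebraMap k A a) = D a

/-- Injectivity of `Ω_k ⊗ K → Ω_A ⊗ K` gives the extension property for `𝔪`-torsion modules. -/
theorem extProp_of_injective
    (hinj : Function.Injective
      ((KaehlerDifferential.mapBaseChange ℤ k A).lTensor (ResidueField A))) :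
    ExtProp k A (maximalIdeal A) := by
  classical
  intro V _ _ hV D hD
  have htors : Module.IsTorsionBySet A V (maximalIdeal A : Set A) := by
    intro v x
    exact hV x.1 x.2 v
  letI modK : Module (ResidueField A) V := htors.module
  haveI : IsScalarTower A (ResidueField A) V := htors.isScalarTower
  letI modk : Module k V := Module.compHom V (algebraMap k A)
  haveI : IsScalarTower k A V := ⟨fun c a v => by
    show (c • a) • v = algebraMap k A c • (a • v)
    rw [Algebra.smul_def, mul_smul]⟩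
  have hleib : ∀ a b : k, D (a * b) = a • D b + b • D a := hD
  let Dk : Derivation ℤ k V := Derivation.mk' D.toIntLinearMap hleib
  let φ₀ : Ω[k⁄ℤ] →ₗ[k] V := Dk.liftKaehlerDifferential
  let φ₁ : A ⊗[k] Ω[k⁄ℤ] →ₗ[A] V := φ₀.liftBaseChange A
  let φ : ResidueField A ⊗[A] (A ⊗[k] Ω[k⁄ℤ]) →ₗ[ResidueField A] V :=
    φ₁.liftBaseChange (ResidueField A)
  let f := (KaehlerDifferential.mapBaseChange ℤ k A).baseChange (ResidueField A)
  have hf : Function.Injective f := hinj
  obtain ⟨g, hg⟩ := f.exists_leftInverse_of_injective (LinearMap.ker_eq_bot.2 hf)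
  let ψ : ResidueField A ⊗[A] Ω[A⁄ℤ] →ₗ[ResidueField A] V := φ ∘ₗ g
  let D' : A →+ V :=
    { toFun := fun a => ψ ((1 : ResidueField A) ⊗ₜ[A] KaehlerDifferential.D ℤ A a)
      map_zero' := by
        show ψ _ = 0
        rw [map_zero, tmul_zero, map_zero]
      map_add' := fun a b => by
        show ψ _ = ψ _ + ψ _
        rw [map_add, tmul_add, map_add] }
  refine ⟨D', fun a b => ?_, fun a => ?_⟩
  · show ψ _ = a • ψ _ + b • ψ _
    rw [(KaehlerDifferential.D ℤ A).leibniz, tmul_add, map_add, one_tmul_smul, one_tmul_smul,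
      map_smul, map_smul, algebraMap_smul, algebraMap_smul]
  · show ψ ((1 : ResidueField A) ⊗ₜ[A] KaehlerDifferential.D ℤ A (algebraMap k A a)) = D a
    have h1 : f ((1 : ResidueField A) ⊗ₜ[A] ((1 : A) ⊗ₜ[k] KaehlerDifferential.D ℤ k a)) =
        (1 : ResidueField A) ⊗ₜ[A] KaehlerDifferential.D ℤ A (algebraMap k A a) := by
      show (1 : ResidueField A) ⊗ₜ[A] (KaehlerDifferential.mapBaseChange ℤ k A
        ((1 : A) ⊗ₜ[k] KaehlerDifferential.D ℤ k a)) = _
      rw [KaehlerDifferential.mapBaseChange_tmul, one_smul, KaehlerDifferential.map_D]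
    rw [← h1]
    show φ (g (f _)) = D a
    have h2 : g (f ((1 : ResidueField A) ⊗ₜ[A] ((1 : A) ⊗ₜ[k] KaehlerDifferential.D ℤ k a))) =
        (1 : ResidueField A) ⊗ₜ[A] ((1 : A) ⊗ₜ[k] KaehlerDifferential.D ℤ k a) :=
      LinearMap.congr_fun hg _
    rw [h2]
    show (1 : ResidueField A) • ((1 : A) • φ₀ (KaehlerDifferential.D ℤ k a)) = D a
    rw [one_smul, one_smul, Derivation.liftKaehlerDifferential_comp_D]
    rfl

end Inj

section Step

variable {k₀ k A : Type u} [CommRing k₀] [CommRing k] [CommRing A] [Algebra k₀ k] [Algebra k A]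
  [Algebra k₀ A] [IsScalarTower k₀ k A]

/-- One step: lifting along a square-zero ideal killed by (lifts of) the image of `𝔫`. -/
theorem one_step (𝔫 : Ideal A) (hA₀ : CAlgX.IsAdicFormallySmooth k₀ A 𝔫) (hext : ExtProp k A 𝔫)
    (C : Type u) [CommRing C] [Algebra k C] (N : Ideal C) (hN : N ^ 2 = ⊥)
    (ψ : A →ₐ[k] C ⧸ N) (hψ : ∃ j : ℕ, ∀ x ∈ 𝔫 ^ j, ψ x = 0)
    (hkill : ∀ x ∈ 𝔫, ∀ c : C, Ideal.Quotient.mk N c = ψ x → ∀ n ∈ N, c * n = 0) :
    ∃ χ : A →ₐ[k] C, (Ideal.Quotient.mkₐ k N).comp χ = ψ := by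
  classical
  letI algC₀ : Algebra k₀ C := ((algebraMap k C).comp (algebraMap k₀ k)).toAlgebra
  haveI : IsScalarTower k₀ k C := IsScalarTower.of_algebraMap_eq (fun _ => rfl)
  haveI : IsScalarTower k₀ k (C ⧸ N) := IsScalarTower.of_algebraMap_eq (fun _ => rfl)
  obtain ⟨χ₀, hχ₀⟩ := hA₀ C N hN (ψ.restrictScalars k₀) hψ
  have hχ₀' : ∀ a, Ideal.Quotient.mk N (χ₀ a) = ψ a := fun a => AlgHom.congr_fun hχ₀ a
  letI modA : Module A N := Module.compHom N χ₀.toRingHom
  have hsmul : ∀ (a : A) (v : N), ((a • v : N) : C) = χ₀ a * v := fun a v => rfl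
  have htors : ∀ x ∈ 𝔫, ∀ v : N, x • v = 0 := by
    intro x hx v
    apply Subtype.ext
    rw [hsmul]
    exact hkill x hx (χ₀ x) (hχ₀' x) v.1 v.2
  have hmem : ∀ a : k, algebraMap k C a - χ₀ (algebraMap k A a) ∈ N := by
    intro a
    rw [← Ideal.Quotient.eq, hχ₀', ψ.commutes]
    rfl
  have hsq : ∀ x ∈ N, ∀ y ∈ N, x * y = 0 := by
    intro x hx y hy
    have : x * y ∈ N ^ 2 := by
      rw [pow_two]
      exact Ideal.mul_mem_mul hx hy
    rwa [hN, Ideal.mem_bot] at this
  let δ : k →+ N :=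
    { toFun := fun a => ⟨algebraMap k C a - χ₀ (algebraMap k A a), hmem a⟩
      map_zero' := by
        apply Subtype.ext
        show algebraMap k C 0 - χ₀ (algebraMap k A 0) = 0
        rw [map_zero, map_zero, map_zero, sub_zero]
      map_add' := fun a b => by
        apply Subtype.ext
        show algebraMap k C (a + b) - χ₀ (algebraMap k A (a + b)) =
          (algebraMap k C a - χ₀ (algebraMap k A a)) + (algebraMap k C b - χ₀ (algebraMap k A b))
        rw [map_add, map_add, map_add]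
        ring }
  have hδ : ∀ a b, δ (a * b) = algebraMap k A a • δ b + algebraMap k A b • δ a := by
    intro a b
    apply Subtype.ext
    show algebraMap k C (a * b) - χ₀ (algebraMap k A (a * b)) =
      χ₀ (algebraMap k A a) * (algebraMap k C b - χ₀ (algebraMap k A b)) +
        χ₀ (algebraMap k A b) * (algebraMap k C a - χ₀ (algebraMap k A a))
    have h0 := hsq _ (hmem a) _ (hmem b)
    rw [map_mul, map_mul, map_mul]
    linear_combination h0
  obtain ⟨D', hD'leib, hD'ext⟩ := hext N htors δ hδ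
  have hD'one : D' 1 = 0 := by
    have h1 := hD'leib 1 1
    rw [mul_one, one_smul] at h1
    exact left_eq_add.1 h1
  let χr : A →+* C :=
    { toFun := fun a => χ₀ a + (D' a : C)
      map_one' := by
        rw [map_one, hD'one]
        show (1 : C) + 0 = 1
        rw [add_zero]
      map_mul' := fun a b => by
        have h1 : ((D' (a * b) : N) : C) = χ₀ a * (D' b : C) + χ₀ b * (D' a : C) := by
          rw [hD'leib]
          rfl
        have h2 := hsq _ (D' a).2 _ (D' b).2
        rw [h1, map_mul]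
        linear_combination -h2
      map_zero' := by
        rw [map_zero, map_zero]
        show (0 : C) + 0 = 0
        rw [add_zero]
      map_add' := fun a b => by
        rw [map_add, map_add]
        show χ₀ a + χ₀ b + ((D' a : C) + (D' b : C)) = _
        ring }
  refine ⟨{ χr with commutes' := fun a => ?_ }, ?_⟩
  · show χ₀ (algebraMap k A a) + (D' (algebraMap k A a) : C) = algebraMap k C a
    rw [hD'ext]
    show χ₀ (algebraMap k A a) + (algebraMap k C a - χ₀ (algebraMap k A a)) = _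
    ring
  · ext a
    show Ideal.Quotient.mk N (χ₀ a + (D' a : C)) = ψ a
    rw [map_add, hχ₀', Ideal.Quotient.eq_zero_iff_mem.2 (D' a).2, add_zero]

/-- Induction along the filtration by powers of the image of `𝔫`. -/
theorem lift_of_filtration (𝔫 : Ideal A) (hA₀ : CAlgX.IsAdicFormallySmooth k₀ A 𝔫)
    (hext : ExtProp k A 𝔫) :
    ∀ (i : ℕ) (C C' : Type u) [CommRing C] [CommRing C'] [Algebra k C] [Algebra k C']
      (π : C →ₐ[k] C') (_ : Function.Surjective π) (_ : RingHom.ker π.toRingHom ^ 2 = ⊥)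
      (ψ : A →ₐ[k] C') (_ : ∃ j : ℕ, ∀ x ∈ 𝔫 ^ j, ψ x = 0)
      (_ : (Ideal.comap π.toRingHom (Ideal.map ψ.toRingHom 𝔫)) ^ i * RingHom.ker π.toRingHom = ⊥),
      ∃ χ : A →ₐ[k] C, π.comp χ = ψ := by
  intro i
  induction i with
  | zero =>
    intro C C' _ _ _ _ π hπ hker ψ hψ hfil
    rw [pow_zero, one_mul] at hfil
    have hinj : Function.Injective π := (RingHom.injective_iff_ker_eq_bot π.toRingHom).2 hfil
    let e : C ≃ₐ[k] C' := AlgEquiv.ofBijective π ⟨hinj, hπ⟩
    refine ⟨e.symm.toAlgHom.comp ψ, ?_⟩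
    ext a
    show e (e.symm (ψ a)) = ψ a
    exact e.apply_symm_apply (ψ a)
  | succ i ih =>
    intro C C' _ _ _ _ π hπ hker ψ hψ hfil
    set I := RingHom.ker π.toRingHom with hI
    set 𝔐 := Ideal.comap π.toRingHom (Ideal.map ψ.toRingHom 𝔫) with h𝔐
    set N := 𝔐 ^ i * I with hNdef
    have hNI : N ≤ I := Ideal.mul_le_right
    let π₁ : C ⧸ N →ₐ[k] C' := Ideal.Quotient.liftₐ N π (fun x hx => hNI hx)
    have hπ₁mk : ∀ c, π₁ (Ideal.Quotient.mk N c) = π c := fun c => rfl
    have hπ₁ : Function.Surjective π₁ := fun y => by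
      obtain ⟨c, rfl⟩ := hπ y
      exact ⟨Ideal.Quotient.mk N c, rfl⟩
    have hker₁le : RingHom.ker π₁.toRingHom ≤ I.map (Ideal.Quotient.mk N) := by
      intro z hz
      obtain ⟨c, rfl⟩ := Ideal.Quotient.mk_surjective z
      exact Ideal.mem_map_of_mem _ (show c ∈ I from hz)
    have hker₁ : RingHom.ker π₁.toRingHom ^ 2 = ⊥ := by
      rw [eq_bot_iff]
      calc RingHom.ker π₁.toRingHom ^ 2 ≤ (I.map (Ideal.Quotient.mk N)) ^ 2 :=
            Ideal.pow_right_mono hker₁le 2
        _ = (I ^ 2).map (Ideal.Quotient.mk N) := (Ideal.map_pow _ _ _).symm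
        _ = ⊥ := by rw [hker, Ideal.map_bot]
    have h𝔐₁le : Ideal.comap π₁.toRingHom (Ideal.map ψ.toRingHom 𝔫) ≤
        𝔐.map (Ideal.Quotient.mk N) := by
      intro z hz
      obtain ⟨c, rfl⟩ := Ideal.Quotient.mk_surjective z
      exact Ideal.mem_map_of_mem _ (show c ∈ 𝔐 from hz)
    have hfil₁ : (Ideal.comap π₁.toRingHom (Ideal.map ψ.toRingHom 𝔫)) ^ i *
        RingHom.ker π₁.toRingHom = ⊥ := by
      rw [eq_bot_iff]
      calc (Ideal.comap π₁.toRingHom (Ideal.map ψ.toRingHom 𝔫)) ^ i * RingHom.ker π₁.toRingHom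
          ≤ (𝔐.map (Ideal.Quotient.mk N)) ^ i * I.map (Ideal.Quotient.mk N) :=
            Ideal.mul_mono (Ideal.pow_right_mono h𝔐₁le i) hker₁le
        _ = (𝔐 ^ i * I).map (Ideal.Quotient.mk N) := by rw [Ideal.map_mul, Ideal.map_pow]
        _ = ⊥ := Ideal.map_quotient_self N
    obtain ⟨χ₁, hχ₁⟩ := ih (C ⧸ N) C' π₁ hπ₁ hker₁ ψ hψ hfil₁
    have hχ₁' : ∀ a, π₁ (χ₁ a) = ψ a := fun a => AlgHom.congr_fun hχ₁ a
    have hN2 : N ^ 2 = ⊥ := by
      rw [eq_bot_iff, ← hker]
      exact Ideal.pow_right_mono hNI 2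
    obtain ⟨j, hj⟩ := hψ
    have hψ₁ : ∃ j' : ℕ, ∀ x ∈ 𝔫 ^ j', χ₁ x = 0 := by
      refine ⟨j + j, fun x hx => ?_⟩
      rw [pow_add] at hx
      have hle : 𝔫 ^ j * 𝔫 ^ j ≤ RingHom.ker χ₁.toRingHom := by
        rw [Ideal.mul_le]
        intro a ha b hb
        rw [RingHom.mem_ker]
        show χ₁ (a * b) = 0
        rw [map_mul]
        have ha' : χ₁ a ∈ RingHom.ker π₁.toRingHom := by
          rw [RingHom.mem_ker]
          show π₁ (χ₁ a) = 0
          rw [hχ₁', hj a ha]
        have hb' : χ₁ b ∈ RingHom.ker π₁.toRingHom := by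
          rw [RingHom.mem_ker]
          show π₁ (χ₁ b) = 0
          rw [hχ₁', hj b hb]
        have h3 : χ₁ a * χ₁ b ∈ RingHom.ker π₁.toRingHom ^ 2 := by
          rw [pow_two]
          exact Ideal.mul_mem_mul ha' hb'
        rwa [hker₁, Ideal.mem_bot] at h3
      exact hle hx
    have hkill : ∀ x ∈ 𝔫, ∀ c : C, Ideal.Quotient.mk N c = χ₁ x → ∀ n ∈ N, c * n = 0 := by
      intro x hx c hc n hn
      have hc𝔐 : c ∈ 𝔐 := by
        show π c ∈ Ideal.map ψ.toRingHom 𝔫
        rw [← hπ₁mk, hc, hχ₁']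
        exact Ideal.mem_map_of_mem _ hx
      have h3 : c * n ∈ 𝔐 ^ (i + 1) * I := by
        rw [pow_succ', mul_assoc]
        exact Ideal.mul_mem_mul hc𝔐 hn
      rwa [hfil, Ideal.mem_bot] at h3
    obtain ⟨χ, hχ⟩ := one_step 𝔫 hA₀ hext C N hN2 χ₁ hψ₁ hkill
    refine ⟨χ, ?_⟩
    ext a
    have h1 : Ideal.Quotient.mk N (χ a) = χ₁ a := AlgHom.congr_fun hχ a
    show π (χ a) = ψ a
    rw [← hπ₁mk, h1, hχ₁']

/-- Adically formally smooth over `k₀` + extension of derivations from `k`
  ⇒ adically formally smooth over `k`. -/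
theorem isAdicFormallySmooth_of_extProp (𝔫 : Ideal A)
    (hA₀ : CAlgX.IsAdicFormallySmooth k₀ A 𝔫) (hext : ExtProp k A 𝔫) :
    CAlgX.IsAdicFormallySmooth k A 𝔫 := by
  intro C _ _ J hJ ψ hψ
  obtain ⟨j, hj⟩ := hψ
  have hker : RingHom.ker (Ideal.Quotient.mkₐ k J).toRingHom = J := Ideal.mk_ker
  refine lift_of_filtration (k₀ := k₀) 𝔫 hA₀ hext j C (C ⧸ J) (Ideal.Quotient.mkₐ k J)
    (Ideal.Quotient.mkₐ_surjective k J) (by rw [hker]; exact hJ) ψ ⟨j, hj⟩ ?_
  rw [hker, eq_bot_iff, ← hJ, pow_two]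
  refine Ideal.mul_mono_left ?_
  calc (Ideal.comap (Ideal.Quotient.mkₐ k J).toRingHom (Ideal.map ψ.toRingHom 𝔫)) ^ j
      ≤ Ideal.comap (Ideal.Quotient.mkₐ k J).toRingHom ((Ideal.map ψ.toRingHom 𝔫) ^ j) :=
        Ideal.le_comap_pow _ _
    _ = Ideal.comap (Ideal.Quotient.mkₐ k J).toRingHom ⊥ := by
        rw [← Ideal.map_pow, (Ideal.map_eq_bot_iff_le_ker ψ.toRingHom).2 (fun x hx => hj x hx)]
    _ = J := hker

end Step

section PrimeField

/-- The prime subfield, as a bare field (hiding the `Subfield` scalar actions). -/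
def PrimeField (k : Type u) [Field k] : Type u := (⊥ : Subfield k)

noncomputable instance (k : Type u) [Field k] : Field (PrimeField k) :=
  inferInstanceAs (Field (⊥ : Subfield k))

noncomputable instance (k : Type u) [Field k] : Algebra (PrimeField k) k :=
  inferInstanceAs (Algebra (⊥ : Subfield k) k)

instance (k : Type u) [Field k] : PerfectField (PrimeField k) :=
  Groth.Agent.Lib.CoeffFieldH3.perfectField_bot k

instance (k : Type u) [Field k] : Algebra.FormallySmooth (PrimeField k) k :=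
  haveI : Algebra.IsGeometricallyReduced (PrimeField k) k :=
    Groth.Agent.Lib.PerfectGRH3.isGeometricallyReduced_of_perfectField (PrimeField k) k
  Groth.Agent.Lib.SepSmoothH3.formallySmooth_of_isGeometricallyReduced (PrimeField k) k

end PrimeField

end Groth.Agent.Lib.AdicFSFieldH3
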