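import Mathlib
import Groth.Prelude.Def_CAlgX
import Groth.Prelude.Def_EGA41
import Groth.Agent.Lib.SmoothReg_helper3

/-!
# Formal smoothness of stalk maps: adic versus discrete (helper3)

* `adic_of_formallySmoothAdic`: for a local homomorphism, `EGA41.IsFormallySmoothAdic` (both rings
  with the adic topologies of the maximal ideals) implies `CAlgX.IsAdicFormallySmooth`.
* `formallySmoothAdic_of_formallySmooth`: discrete formal smoothness implies the adic one.
* `exists_poly_stalk`: for `f` locally of finite type, the stalk `O_{X,x}` is essentially of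
  finite type over `O_{Y,f x}`.
APPEND-ONLY once landed.
-/

set_option autoImplicit false

namespace Groth.Agent.Lib.StalkSmoothH3

open IsLocalRing

universe u

section Alg

variable {A B : Type u} [CommRing A] [CommRing B] [Algebra A B]

theorem formallySmoothAdic_of_formallySmooth [Algebra.FormallySmooth A B] (𝔞 : Ideal A)
    (𝔟 : Ideal B) : EGA41.IsFormallySmoothAdic A 𝔞 B 𝔟 := by
  intro C _ _ J hJ _ u _
  exact Algebra.FormallySmooth.exists_lift J hJ u

theorem adic_of_formallySmoothAdic [IsLocalRing A] [IsLocalRing B] [IsLocalHom (algebraMap A B)]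
    (h : EGA41.IsFormallySmoothAdic A (maximalIdeal A) B (maximalIdeal B)) :
    CAlgX.IsAdicFormallySmooth A B (maximalIdeal B) := by
  intro C _ _ J hJ ψ hψ
  obtain ⟨k, hk⟩ := hψ
  refine h C J ⟨2, hJ⟩ ⟨2 * k, ?_⟩ ψ ⟨k, hk⟩
  have h1 : (maximalIdeal A ^ k).map (algebraMap A C) ≤ J := by
    rw [Ideal.map_le_iff_le_comap]
    intro a ha
    rw [Ideal.mem_comap, ← Ideal.Quotient.eq_zero_iff_mem]
    have h2 : Ideal.Quotient.mk J (algebraMap A C a) = ψ (algebraMap A B a) := by
      rw [ψ.commutes]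
      rfl
    rw [h2]
    apply hk
    have h3 : (maximalIdeal A ^ k).map (algebraMap A B) ≤ maximalIdeal B ^ k := by
      rw [Ideal.map_pow]
      exact Ideal.pow_right_mono (map_maximalIdeal_le (algebraMap A B)) k
    exact h3 (Ideal.mem_map_of_mem _ ha)
  rw [pow_mul', Ideal.map_pow, eq_bot_iff, ← hJ]
  exact Ideal.pow_right_mono h1 2

end Alg

section Stalk

open AlgebraicGeometry CategoryTheory

variable {X Y : Scheme.{u}} (f : X ⟶ Y) [LocallyOfFiniteType f] (x : X)

theorem exists_poly_stalk :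
    letI : Algebra (Y.presheaf.stalk (f.base x)) (X.presheaf.stalk x) :=
      (f.stalkMap x).hom.toAlgebra
    ∃ (n : ℕ) (g : MvPolynomial (Fin n) (Y.presheaf.stalk (f.base x)) →ₐ[Y.presheaf.stalk (f.base x)]
      X.presheaf.stalk x), ∀ s : X.presheaf.stalk x, ∃ F G, IsUnit (g G) ∧ s * g G = g F := by
  letI alg : Algebra (Y.presheaf.stalk (f.base x)) (X.presheaf.stalk x) :=
    (f.stalkMap x).hom.toAlgebra
  obtain ⟨_, ⟨U, hU, rfl⟩, hxU, -⟩ :=
    Y.isBasis_affineOpens.exists_subset_of_mem_open (Set.mem_univ (f x)) isOpen_univ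
  obtain ⟨_, ⟨V, hV, rfl⟩, hxV, hVU⟩ :=
    X.isBasis_affineOpens.exists_subset_of_mem_open hxU (U.2.preimage f.continuous)
  have hft := f.finiteType_appLE hU hV hVU
  letI algφ : Algebra Γ(Y, U) Γ(X, V) := (f.appLE U V hVU).hom.toAlgebra
  have hft' : Algebra.FiniteType Γ(Y, U) Γ(X, V) := hft
  obtain ⟨n, F, hF⟩ := Algebra.FiniteType.iff_quotient_mvPolynomial''.1 hft'
  have compat : ∀ c : Γ(Y, U), algebraMap (Y.presheaf.stalk (f.base x)) (X.presheaf.stalk x)
      ((Y.presheaf.germ U (f x) hxU).hom c) =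
      (X.presheaf.germ V x hxV).hom (algebraMap Γ(Y, U) Γ(X, V) c) := by
    intro c
    show f.stalkMap x (Y.presheaf.germ U (f x) hxU c) =
      X.presheaf.germ V x hxV ((f.appLE U V hVU) c)
    rw [Scheme.Hom.germ_stalkMap_apply, Scheme.Hom.appLE, CommRingCat.comp_apply]
    exact (TopCat.Presheaf.germ_res_apply X.presheaf (homOfLE hVU) x hxV _).symm
  obtain ⟨g, hgdef⟩ : ∃ g : MvPolynomial (Fin n) (Y.presheaf.stalk (f.base x)) →ₐ[Y.presheaf.stalk (f.base x)]
      X.presheaf.stalk x,
      g = MvPolynomial.aeval (fun i => (X.presheaf.germ V x hxV).hom (F (MvPolynomial.X i))) :=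
    ⟨_, rfl⟩
  have hgmap : ∀ P : MvPolynomial (Fin n) Γ(Y, U),
      g (MvPolynomial.map (Y.presheaf.germ U (f x) hxU).hom P) =
        (X.presheaf.germ V x hxV).hom (F P) := by
    have : (g.toRingHom.comp (MvPolynomial.map (Y.presheaf.germ U (f x) hxU).hom)) =
        ((X.presheaf.germ V x hxV).hom).comp F.toRingHom := by
      apply MvPolynomial.ringHom_ext
      · intro r
        show g (MvPolynomial.map _ (MvPolynomial.C r)) =
          (X.presheaf.germ V x hxV).hom (F (MvPolynomial.C r))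
        rw [MvPolynomial.map_C, hgdef, MvPolynomial.aeval_C, ← MvPolynomial.algebraMap_eq,
          F.commutes, compat]
      · intro i
        show g (MvPolynomial.map _ (MvPolynomial.X i)) =
          (X.presheaf.germ V x hxV).hom (F (MvPolynomial.X i))
        rw [MvPolynomial.map_X, hgdef, MvPolynomial.aeval_X]
    intro P
    exact RingHom.congr_fun this P
  refine ⟨n, g, fun s => ?_⟩
  letI := X.presheaf.algebra_section_stalk ⟨x, hxV⟩
  haveI := hV.isLocalization_stalk ⟨x, hxV⟩
  obtain ⟨a, t, rfl⟩ := IsLocalization.exists_mk'_eq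
    (hV.primeIdealOf ⟨x, hxV⟩).asIdeal.primeCompl s
  obtain ⟨Pa, rfl⟩ := hF a
  obtain ⟨Pt, hPt⟩ := hF t.1
  refine ⟨MvPolynomial.map (Y.presheaf.germ U (f x) hxU).hom Pa,
    MvPolynomial.map (Y.presheaf.germ U (f x) hxU).hom Pt, ?_, ?_⟩
  · rw [hgmap, hPt]
    exact IsLocalization.map_units (X.presheaf.stalk x) t
  · rw [hgmap, hgmap, hPt]
    exact IsLocalization.mk'_spec (X.presheaf.stalk x) _ _

end Stalk

end Groth.Agent.Lib.StalkSmoothH3
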