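import Mathlib
import Groth.Prelude.Def_CAlgX
import Groth.Agent.Lib.SmoothReg_helper3
import Groth.Agent.Lib.StalkSmooth_helper3
import Groth.Agent.Lib.AdicFSField_helper3
import Groth.Agent.Lib.PerfectGR_helper3
import Groth.Agent.S2453

/-!
# Formally smooth local algebras over a field are regular; converse for separable residue fields
(helper3)

* `regular_of_formallySmooth_field`: a Noetherian local ring formally smooth over a field is regular
  (no hypothesis on the residue field: pass to the prime field).
* `adic_base_of_surjective`: change of base along a surjection for adic formal smoothness.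
* `regular_of_formallySmooth_of_bijective`, `formallySmooth_of_regular_of_bijective`: the same over
  a base ring in bijection with a field (e.g. a stalk of `Spec k`).
* `exists_bijective_stalk_spec_field`.
APPEND-ONLY once landed.
-/

set_option autoImplicit false
set_option maxSynthPendingDepth 3

namespace Groth.Agent.Lib.SmoothRegFieldH3

open IsLocalRing

universe u

section Field

variable {k A : Type u} [Field k] [CommRing A] [IsLocalRing A] [IsNoetherianRing A] [Algebra k A]

open Groth.Agent.Lib.AdicFSFieldH3 in
theorem regular_of_adic_field (h1 : CAlgX.IsAdicFormallySmooth k A (maximalIdeal A)) :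
    IsRegularLocalRing A := by
  letI : Algebra (PrimeField k) A :=
    ((algebraMap k A).comp (algebraMap (PrimeField k) k)).toAlgebra
  haveI : IsScalarTower (PrimeField k) k A := IsScalarTower.of_algebraMap_eq (fun _ => rfl)
  have h2 := isAdicFormallySmooth_of_tower (PrimeField k) k A _ h1
  haveI : Algebra.IsGeometricallyReduced (PrimeField k) (ResidueField A) :=
    Groth.Agent.Lib.PerfectGRH3.isGeometricallyReduced_of_perfectField _ _
  exact ((Groth.Agent.S2453.result (k := PrimeField k) (A := A)).out 0 3).1 h2

theorem regular_of_formallySmooth_field [Algebra.FormallySmooth k A] : IsRegularLocalRing A :=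
  regular_of_adic_field (k := k)
    (Groth.Agent.Lib.SmoothRegH3.adic_of_formallySmooth (maximalIdeal A))

end Field

section Base

variable {k R₀ A : Type u} [CommRing k] [CommRing R₀] [CommRing A] [Algebra k R₀] [Algebra k A]
  [Algebra R₀ A] [IsScalarTower k R₀ A]

theorem adic_base_of_surjective (hsurj : Function.Surjective (algebraMap k R₀)) (𝔫 : Ideal A)
    (h : CAlgX.IsAdicFormallySmooth k A 𝔫) : CAlgX.IsAdicFormallySmooth R₀ A 𝔫 := by
  intro C _ _ J hJ ψ hψ
  letI : Algebra k C := ((algebraMap R₀ C).comp (algebraMap k R₀)).toAlgebra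
  haveI : IsScalarTower k R₀ C := IsScalarTower.of_algebraMap_eq (fun _ => rfl)
  obtain ⟨χ, hχ⟩ := h C J hJ (ψ.restrictScalars k) hψ
  refine ⟨{ χ.toRingHom with commutes' := ?_ }, ?_⟩
  · intro r
    obtain ⟨c, rfl⟩ := hsurj r
    show χ (algebraMap R₀ A (algebraMap k R₀ c)) = algebraMap R₀ C (algebraMap k R₀ c)
    rw [← IsScalarTower.algebraMap_apply k R₀ A, χ.commutes]
    rfl
  · ext a
    exact AlgHom.congr_fun hχ a

end Base

section Bij

variable {k R₀ A : Type u} [Field k] [CommRing R₀] [CommRing A] [IsLocalRing A]
  [IsNoetherianRing A] [Algebra R₀ A]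

theorem regular_of_formallySmooth_of_bijective (φ : k →+* R₀) (hφ : Function.Bijective φ)
    [Algebra.FormallySmooth R₀ A] : IsRegularLocalRing A := by
  letI := φ.toAlgebra
  letI : Algebra k A := ((algebraMap R₀ A).comp φ).toAlgebra
  haveI : IsScalarTower k R₀ A := IsScalarTower.of_algebraMap_eq (fun _ => rfl)
  haveI : Algebra.FormallySmooth k R₀ :=
    Algebra.FormallySmooth.of_equiv (AlgEquiv.ofBijective (Algebra.ofId k R₀) hφ)
  haveI : Algebra.FormallySmooth k A := Algebra.FormallySmooth.comp k R₀ A
  exact regular_of_formallySmooth_field (k := k)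

variable [Algebra k R₀] [Algebra k A] [IsScalarTower k R₀ A] [IsNoetherianRing R₀]

theorem formallySmooth_of_regular_of_bijective (hφ : Function.Surjective (algebraMap k R₀))
    [Algebra.IsGeometricallyReduced k (ResidueField A)]
    (n : ℕ) (g : MvPolynomial (Fin n) R₀ →ₐ[R₀] A)
    (hg : ∀ s : A, ∃ F G, IsUnit (g G) ∧ s * g G = g F)
    (h : IsRegularLocalRing A) : Algebra.FormallySmooth R₀ A := by
  have h1 := ((Groth.Agent.S2453.result (k := k) (A := A)).out 0 3).2 h
  have h2 := adic_base_of_surjective (R₀ := R₀) hφ _ h1
  exact Groth.Agent.Lib.SmoothRegH3.formallySmooth_of_adic_of_poly n g hg h2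

end Bij

section Spec

open AlgebraicGeometry CategoryTheory

theorem exists_bijective_stalk_spec_field (k : Type u) [Field k] (y : Spec (CommRingCat.of k)) :
    ∃ φ : k →+* (Spec (CommRingCat.of k)).presheaf.stalk y, Function.Bijective φ := by
  let y' : PrimeSpectrum k := y
  let K' := (Spec.structureSheaf k).presheaf.stalk y'
  let e : k ≃ₐ[k] K' := IsLocalization.atUnits _ y'.asIdeal.primeCompl
      (fun x hx ↦ by
        have : x ≠ 0 := fun h => hx (by rw [h]; exact Ideal.zero_mem _)
        exact this.isUnit)
  exact ⟨(e.toRingEquiv.toRingHom : k →+* K'), e.bijective⟩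

end Spec

end Groth.Agent.Lib.SmoothRegFieldH3
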