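import Mathlib
import Groth.Prelude.Def_CAlgX
import Groth.Prelude.Def_Found
import Groth.Agent.Lib.SmoothRegField_helper3
import Groth.Agent.Lib.Serre_helper5
import Groth.Agent.S4535
import Groth.Agent.S4537

/-!
# Adic formal smoothness over a field implies geometric regularity (helper3)

* `adic_mono`, `adic_localization`: monotonicity in the ideal; localization.
* `isRegularRing_of_forall_maximal`: regularity may be tested at maximal ideals (Serre, helper5).
* `isGeometricallyRegular_of_adic`.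
APPEND-ONLY once landed.
-/

set_option autoImplicit false
set_option maxSynthPendingDepth 3

namespace Groth.Agent.Lib.GeomRegAdicH3

open TensorProduct IsLocalRing

universe u

section Basic

variable {R T : Type u} [CommRing R] [CommRing T] [Algebra R T]

theorem adic_mono {𝔫 𝔫' : Ideal T} (hle : 𝔫 ≤ 𝔫') (h : CAlgX.IsAdicFormallySmooth R T 𝔫) :
    CAlgX.IsAdicFormallySmooth R T 𝔫' := by
  intro C _ _ J hJ ψ hψ
  obtain ⟨j, hj⟩ := hψ
  exact h C J hJ ψ ⟨j, fun x hx => hj x (Ideal.pow_right_mono hle j hx)⟩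

theorem adic_localization (𝔫 : Ideal T) (h : CAlgX.IsAdicFormallySmooth R T 𝔫) (M : Submonoid T) :
    CAlgX.IsAdicFormallySmooth R (Localization M) (𝔫.map (algebraMap T (Localization M))) := by
  intro C _ _ J hJ ψ hψ
  obtain ⟨j, hj⟩ := hψ
  obtain ⟨χ₀, hχ₀⟩ := h C J hJ (ψ.comp (IsScalarTower.toAlgHom R T (Localization M)))
    ⟨j, fun x hx => hj _ (by
      rw [← Ideal.map_pow]
      exact Ideal.mem_map_of_mem _ hx)⟩
  have hχ₀' : ∀ t, Ideal.Quotient.mk J (χ₀ t) = ψ (algebraMap T (Localization M) t) :=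
    fun t => AlgHom.congr_fun hχ₀ t
  have hunit : ∀ s : M, IsUnit (χ₀.toRingHom s) := by
    intro s
    have h1 : IsUnit (Ideal.Quotient.mk J (χ₀ s)) := by
      rw [hχ₀']
      exact (IsLocalization.map_units (Localization M) s).map ψ
    exact (IsNilpotent.isUnit_quotient_mk_iff ⟨2, hJ⟩).1 h1
  refine ⟨{ IsLocalization.lift hunit with
    commutes' := fun r => by
      show IsLocalization.lift hunit (algebraMap R (Localization M) r) = _
      rw [IsScalarTower.algebraMap_apply R T (Localization M), IsLocalization.lift_eq]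
      exact χ₀.commutes r }, ?_⟩
  apply AlgHom.coe_ringHom_injective
  apply IsLocalization.ringHom_ext M
  ext t
  show Ideal.Quotient.mk J (IsLocalization.lift hunit (algebraMap T (Localization M) t)) =
    ψ (algebraMap T (Localization M) t)
  rw [IsLocalization.lift_eq]
  exact hχ₀' t

end Basic

section Max

theorem isRegularRing_of_forall_maximal (T : Type u) [CommRing T] [IsNoetherianRing T]
    (h : ∀ (𝔐 : Ideal T) [𝔐.IsMaximal], IsRegularLocalRing (Localization.AtPrime 𝔐)) :
    IsRegularRing T := by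
  rw [isRegularRing_iff]
  intro P hP
  obtain ⟨𝔐, h𝔐, hP𝔐⟩ := Ideal.exists_le_maximal P hP.ne_top
  haveI := h𝔐
  haveI := h 𝔐
  have hdisj : Disjoint (𝔐.primeCompl : Set T) (P : Set T) := by
    rw [Set.disjoint_left]
    intro x hx hxP
    exact hx (hP𝔐 hxP)
  obtain ⟨p', hp', hcomap⟩ : ∃ p' : Ideal (Localization.AtPrime 𝔐), p'.IsPrime ∧
      p'.comap (algebraMap T (Localization.AtPrime 𝔐)) = P :=
    ⟨P.map (algebraMap T (Localization.AtPrime 𝔐)),
      IsLocalization.isPrime_of_isPrime_disjoint 𝔐.primeCompl _ P hP hdisj,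
      IsLocalization.comap_map_of_isPrime_disjoint 𝔐.primeCompl _ hP hdisj⟩
  subst hcomap
  haveI := hp'
  haveI : IsRegularLocalRing (Localization.AtPrime p') :=
    Groth.Agent.Serre.localization_regular _ p'
  exact IsRegularLocalRing.of_ringEquiv
    (IsLocalization.localizationLocalizationAtPrimeIsoLocalization 𝔐.primeCompl p').symm.toRingEquiv

end Max

section Main

variable {k A : Type u} [Field k] [CommRing A] [IsLocalRing A] [IsNoetherianRing A] [Algebra k A]

theorem isGeometricallyRegular_of_adic (h : CAlgX.IsAdicFormallySmooth k A (maximalIdeal A)) :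
    CAlg.IsGeometricallyRegular k A := by
  intro k' _ _ hfin
  -- base change
  have h0 : EGA41.IsFormallySmoothAdic k ⊥ A (maximalIdeal A) :=
    (Groth.Agent.S4537.result (maximalIdeal A)).1 h
  have h1 := Groth.Agent.S4535.result (A := k) (B := A) (A' := k') ⊥ (maximalIdeal A) ⊥
    ⟨1, by rw [pow_one, Ideal.map_bot]⟩ h0
  obtain ⟨𝔫, h𝔫⟩ : ∃ 𝔫 : Ideal (k' ⊗[k] A), 𝔫 = (maximalIdeal A).map
      (Algebra.TensorProduct.includeRight : A →ₐ[k] k' ⊗[k] A).toRingHom := ⟨_, rfl⟩
  rw [Ideal.map_bot, bot_sup_eq, ← h𝔫] at h1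
  have h2 : CAlgX.IsAdicFormallySmooth k' (k' ⊗[k] A) 𝔫 :=
    (Groth.Agent.S4537.result 𝔫).2 h1
  -- `k' ⊗ A` is finite over `A`
  letI algA : Algebra A (k' ⊗[k] A) :=
    (Algebra.TensorProduct.includeRight : A →ₐ[k] k' ⊗[k] A).toRingHom.toAlgebra
  have halg : ∀ a : A, algebraMap A (k' ⊗[k] A) a = (1 : k') ⊗ₜ[k] a := fun a => rfl
  haveI : Module.Finite A (k' ⊗[k] A) := by
    refine Module.Finite.of_equiv_equiv (A₁ := A) (B₁ := A ⊗[k] k') (RingEquiv.refl A)
      (Algebra.TensorProduct.comm k A k').toRingEquiv ?_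
    ext a
    show (1 : k') ⊗ₜ[k] a = Algebra.TensorProduct.comm k A k' (a ⊗ₜ[k] (1 : k'))
    rw [Algebra.TensorProduct.comm_tmul]
  haveI : IsNoetherianRing (k' ⊗[k] A) := IsNoetherianRing.of_finite A _
  have h𝔫' : 𝔫 = (maximalIdeal A).map (algebraMap A (k' ⊗[k] A)) := h𝔫
  apply isRegularRing_of_forall_maximal
  intro 𝔐 h𝔐
  haveI : IsNoetherianRing (Localization.AtPrime 𝔐) :=
    IsLocalization.isNoetherianRing 𝔐.primeCompl _ inferInstance
  have hle : 𝔫 ≤ 𝔐 := by
    haveI : Algebra.IsIntegral A (k' ⊗[k] A) := Algebra.IsIntegral.of_finite A _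
    have hmax : (𝔐.comap (algebraMap A (k' ⊗[k] A))).IsMaximal :=
      Ideal.isMaximal_comap_of_isIntegral_of_isMaximal 𝔐
    have heq : 𝔐.comap (algebraMap A (k' ⊗[k] A)) = maximalIdeal A :=
      IsLocalRing.eq_maximalIdeal hmax
    rw [h𝔫', Ideal.map_le_iff_le_comap, heq]
  have h3 := adic_localization 𝔫 h2 𝔐.primeCompl
  have h4 : 𝔫.map (algebraMap (k' ⊗[k] A) (Localization.AtPrime 𝔐)) ≤
      maximalIdeal (Localization.AtPrime 𝔐) := by
    rw [← Localization.AtPrime.map_eq_maximalIdeal]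
    exact Ideal.map_mono hle
  exact Groth.Agent.Lib.SmoothRegFieldH3.regular_of_adic_field (k := k') (adic_mono h4 h3)

end Main

end Groth.Agent.Lib.GeomRegAdicH3
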