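import Mathlib

/-!
# Localizations of regular rings are regular (helper3)
-/

set_option autoImplicit false

namespace Groth.Agent.Lib.RegLocH3

universe u

theorem isRegularRing_of_isLocalization {R : Type u} [CommRing R] [IsRegularRing R]
    (M : Submonoid R) (S : Type u) [CommRing S] [Algebra R S] [IsLocalization M S] :
    IsRegularRing S := by
  haveI : IsNoetherianRing S := IsLocalization.isNoetherianRing M S inferInstance
  rw [isRegularRing_iff]
  intro q hq
  haveI : IsLocalization.AtPrime (Localization.AtPrime q) (q.comap (algebraMap R S)) :=
    IsLocalization.isLocalization_isLocalization_atPrime_isLocalization M _ q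
  exact IsRegularLocalRing.of_ringEquiv
    (IsLocalization.algEquiv (q.comap (algebraMap R S)).primeCompl
      (Localization.AtPrime (q.comap (algebraMap R S))) (Localization.AtPrime q)).toRingEquiv

end Groth.Agent.Lib.RegLocH3
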