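import Groth.Agent.S2484
import Groth.Agent.Lib.AdicFSField_helper3

/-!
# Separability, the imperfection module over `ℤ`, and extension of derivations (EGA 0_IV 20.6.3)
-/

set_option autoImplicit false
set_option maxSynthPendingDepth 3

namespace Groth.Agent.Lib.ImperfFieldH3

universe u v

open TensorProduct KaehlerDifferential Groth.Agent.Lib.AdicFSFieldH3

section LemmaC

variable (R : Type v) {k K : Type u} [CommRing R] [Field k] [Field K] [Algebra R k] [Algebra R K]
  [Algebra k K] [IsScalarTower R k K]

/-- generators of `K ⊗_k Ω_{k/R}` over `K` -/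
theorem span_one_tmul_D :
    Submodule.span K (Set.range fun a : k => (1 : K) ⊗ₜ[k] D R k a) = ⊤ := by
  rw [eq_top_iff]
  rintro x -
  set S := Submodule.span K (Set.range fun a : k => (1 : K) ⊗ₜ[k] D R k a) with hS
  have h1 : ∀ ω : Ω[k⁄R], (1 : K) ⊗ₜ[k] ω ∈ S := by
    intro ω
    have hω : ω ∈ Submodule.span k (Set.range (D R k)) := by
      rw [span_range_derivation]
      trivial
    induction hω using Submodule.span_induction with
    | mem x hx =>
      obtain ⟨a, rfl⟩ := hx
      exact Submodule.subset_span ⟨a, rfl⟩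
    | zero =>
      rw [tmul_zero]
      exact S.zero_mem
    | add x y _ _ hx hy =>
      rw [tmul_add]
      exact S.add_mem hx hy
    | smul c x _ hx =>
      rw [tmul_smul, ← algebraMap_smul K c ((1 : K) ⊗ₜ[k] x)]
      exact S.smul_mem _ hx
  induction x using TensorProduct.induction_on with
  | zero => exact S.zero_mem
  | add x y hx hy => exact S.add_mem hx hy
  | tmul c y =>
    have : c ⊗ₜ[k] y = c • ((1 : K) ⊗ₜ[k] y) := by
      rw [smul_tmul', smul_eq_mul, mul_one]
    rw [this]
    exact S.smul_mem _ (h1 y)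

theorem mapBaseChange_one_tmul_D (a : k) :
    mapBaseChange R k K ((1 : K) ⊗ₜ[k] D R k a) = D R K (algebraMap k K a) := by
  rw [mapBaseChange_tmul, one_smul, map_D]

/-- `Ω_{k/R} ⊗_k K → Ω_{K/R}` is injective iff every `R`-derivation `k → K` extends to `K`. -/
theorem injective_mapBaseChange_iff :
    Function.Injective (mapBaseChange R k K) ↔
      ∀ D₀ : Derivation R k K, ∃ D' : Derivation R K K, ∀ a, D' (algebraMap k K a) = D₀ a := by
  classical
  constructor
  · intro hinj D₀
    obtain ⟨g, hg⟩ := (mapBaseChange R k K).exists_leftInverse_of_injective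
      (LinearMap.ker_eq_bot.2 hinj)
    let φ₀ : Ω[k⁄R] →ₗ[k] K := D₀.liftKaehlerDifferential
    let φ : K ⊗[k] Ω[k⁄R] →ₗ[K] K := φ₀.liftBaseChange K
    let ψ : Ω[K⁄R] →ₗ[K] K := φ ∘ₗ g
    refine ⟨ψ.compDer (D R K), fun a => ?_⟩
    show ψ (D R K (algebraMap k K a)) = D₀ a
    rw [← mapBaseChange_one_tmul_D]
    show φ (g (mapBaseChange R k K _)) = D₀ a
    have h2 : g (mapBaseChange R k K ((1 : K) ⊗ₜ[k] D R k a)) = (1 : K) ⊗ₜ[k] D R k a :=
      LinearMap.congr_fun hg _
    rw [h2]
    show (1 : K) • φ₀ (D R k a) = D₀ a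
    rw [one_smul, Derivation.liftKaehlerDifferential_comp_D]
  · intro H
    rw [injective_iff_map_eq_zero]
    intro v hv
    rw [← Module.forall_dual_apply_eq_zero_iff K]
    intro φ
    let φ₀ : Ω[k⁄R] →ₗ[k] K := (φ.restrictScalars k) ∘ₗ (TensorProduct.mk k K Ω[k⁄R] 1)
    let D₀ : Derivation R k K := φ₀.compDer (D R k)
    obtain ⟨D', hD'⟩ := H D₀
    let ψ : Ω[K⁄R] →ₗ[K] K := D'.liftKaehlerDifferential
    have hcomp : ψ ∘ₗ mapBaseChange R k K = φ := by
      apply LinearMap.ext_on_range (span_one_tmul_D R (k := k) (K := K))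
      intro a
      show ψ (mapBaseChange R k K ((1 : K) ⊗ₜ[k] D R k a)) = _
      rw [mapBaseChange_one_tmul_D, Derivation.liftKaehlerDifferential_comp_D, hD']
      rfl
    rw [← hcomp]
    show ψ (mapBaseChange R k K v) = 0
    rw [hv, map_zero]

end LemmaC

section LemmaZ

variable {k : Type u} [Field k]

/-- A `ℤ`-derivation kills the prime field. -/
theorem derivation_primeField {M : Type*} [AddCommGroup M] [Module k M] (D₀ : Derivation ℤ k M)
    (c : PrimeField k) : D₀ (algebraMap (PrimeField k) k c) = 0 := by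
  let S : Subfield k :=
    { carrier := {x | D₀ x = 0}
      mul_mem' := fun {a b} ha hb => by
        show D₀ (a * b) = 0
        rw [D₀.leibniz, show D₀ a = 0 from ha, show D₀ b = 0 from hb, smul_zero, smul_zero,
          add_zero]
      one_mem' := D₀.map_one_eq_zero
      add_mem' := fun {a b} ha hb => by
        show D₀ (a + b) = 0
        rw [map_add, show D₀ a = 0 from ha, show D₀ b = 0 from hb, add_zero]
      zero_mem' := map_zero D₀
      neg_mem' := fun {a} ha => by
        show D₀ (-a) = 0
        rw [map_neg, show D₀ a = 0 from ha, neg_zero]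
      inv_mem' := fun a ha => by
        show D₀ a⁻¹ = 0
        by_cases h0 : a = 0
        · rw [h0, inv_zero, map_zero]
        · have h1 : D₀ (a * a⁻¹) = 0 := by
            rw [mul_inv_cancel₀ h0]
            exact D₀.map_one_eq_zero
          rw [D₀.leibniz, show D₀ a = 0 from ha, smul_zero, add_zero] at h1
          exact (smul_eq_zero.1 h1).resolve_left h0 }
  have h1 : (⊥ : Subfield k) ≤ S := bot_le
  exact h1 c.2

variable {K : Type u} [Field K] [Algebra k K]

/-- `ℤ`-derivations `k → K` are `PrimeField k`-derivations. -/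
noncomputable def toPrimeDer [Algebra (PrimeField k) K] [IsScalarTower (PrimeField k) k K]
    (D₀ : Derivation ℤ k K) : Derivation (PrimeField k) k K where
  toLinearMap :=
    { toFun := D₀
      map_add' := map_add D₀
      map_smul' := fun c a => by
        show D₀ (c • a) = c • D₀ a
        rw [Algebra.smul_def, D₀.leibniz, derivation_primeField, smul_zero, add_zero,
          algebraMap_smul] }
  map_one_eq_zero' := D₀.map_one_eq_zero
  leibniz' := D₀.leibniz

/-- `ℤ`-derivations `K → K` are `PrimeField k`-derivations. -/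
noncomputable def toPrimeDer' [Algebra (PrimeField k) K] [IsScalarTower (PrimeField k) k K]
    (D₀ : Derivation ℤ K K) : Derivation (PrimeField k) K K where
  toLinearMap :=
    { toFun := D₀
      map_add' := map_add D₀
      map_smul' := fun c a => by
        show D₀ (c • a) = c • D₀ a
        have h1 : D₀ (algebraMap (PrimeField k) K c) = 0 := by
          have := derivation_primeField (D₀.compAlgebraMap k) c
          rw [IsScalarTower.algebraMap_apply (PrimeField k) k K]
          exact this
        rw [Algebra.smul_def, D₀.leibniz, h1, smul_zero, add_zero, algebraMap_smul] }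
  map_one_eq_zero' := D₀.map_one_eq_zero
  leibniz' := D₀.leibniz

/-- forget to `ℤ` -/
noncomputable def toIntDer {R A M : Type*} [CommRing R] [CommRing A] [Algebra R A]
    [AddCommGroup M] [Module A M] [Module R M] (D₀ : Derivation R A M) : Derivation ℤ A M :=
  Derivation.mk' (D₀ : A →ₗ[R] M).toAddMonoidHom.toIntLinearMap D₀.leibniz

end LemmaZ

section Main

variable (k K : Type u) [Field k] [Field K] [Algebra k K]

/-- Separable ⟺ every `ℤ`-derivation `k → K` extends to `K`. -/
theorem isGeometricallyReduced_iff_extension :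
    Algebra.IsGeometricallyReduced k K ↔
      ∀ D₀ : Derivation ℤ k K, ∃ D' : Derivation ℤ K K, ∀ a : k, D' (algebraMap k K a) = D₀ a := by
  classical
  letI alg₀ : Algebra (PrimeField k) K :=
    ((algebraMap k K).comp (algebraMap (PrimeField k) k)).toAlgebra
  haveI : IsScalarTower (PrimeField k) k K := IsScalarTower.of_algebraMap_eq (fun _ => rfl)
  haveI : Algebra.IsGeometricallyReduced (PrimeField k) K :=
    Groth.Agent.Lib.PerfectGRH3.isGeometricallyReduced_of_perfectField _ K
  have h2484 := Groth.Agent.S2484.result (K := PrimeField k) (E := k) (F := K)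
  have hC := injective_mapBaseChange_iff (PrimeField k) (k := k) (K := K)
  constructor
  · intro hGR D₀
    obtain ⟨D', hD'⟩ := hC.1 (h2484.1 hGR) (toPrimeDer D₀)
    exact ⟨toIntDer D', fun a => hD' a⟩
  · intro H
    refine h2484.2 inferInstance (hC.2 fun D₀ => ?_)
    obtain ⟨D', hD'⟩ := H (toIntDer D₀)
    exact ⟨toPrimeDer' D', fun a => hD' a⟩

/-- Separable ⟺ `Υ_{K/k} = 0`. -/
theorem isGeometricallyReduced_iff_imperfection :
    Algebra.IsGeometricallyReduced k K ↔ EGA41.imperfection ℤ k K = ⊥ := by
  rw [isGeometricallyReduced_iff_extension, ← injective_mapBaseChange_iff ℤ]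
  exact LinearMap.ker_eq_bot.symm

end Main

end Groth.Agent.Lib.ImperfFieldH3
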