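import Groth.Agent.Lib.Fredholm_helper3
import Groth.Agent.Lib.ImperfField_helper3

/-!
# Cartier's equality (EGA 0_IV 21.7.1) via the Fredholm index of `Ω_K ⊗ L → Ω_L`
-/

set_option autoImplicit false
set_option maxSynthPendingDepth 3

namespace Groth.Agent.Lib.CartierH3

universe u

open TensorProduct KaehlerDifferential Groth.Agent.Lib.FredholmH3 Polynomial
  Groth.Agent.Lib.AdicFSFieldH3

section Tower

variable (R : Type*) {A B C : Type*} [CommRing R] [CommRing A] [CommRing B] [CommRing C]
  [Algebra R A] [Algebra R B] [Algebra R C] [Algebra A B] [Algebra B C] [Algebra A C]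
  [IsScalarTower R A B] [IsScalarTower R B C] [IsScalarTower R A C] [IsScalarTower A B C]

theorem one_tmul_smul {M : Type*} [AddCommGroup M] [Module B M] (c : B) (ω : M) :
    (1 : C) ⊗ₜ[B] (c • ω) = algebraMap B C c • ((1 : C) ⊗ₜ[B] ω) := by
  rw [tmul_smul, algebraMap_smul]

/-- generators of `C ⊗_B (B ⊗_A Ω_A)` -/
theorem span_tmul_tmul_D :
    Submodule.span C (Set.range fun a : A =>
      (1 : C) ⊗ₜ[B] ((1 : B) ⊗ₜ[A] D R A a)) = ⊤ := by
  rw [eq_top_iff]
  rintro x -
  set S := Submodule.span C (Set.range fun a : A =>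
      (1 : C) ⊗ₜ[B] ((1 : B) ⊗ₜ[A] D R A a)) with hS
  have h1 : ∀ ω : Ω[A⁄R], (1 : C) ⊗ₜ[B] ((1 : B) ⊗ₜ[A] ω) ∈ S := by
    intro ω
    have hω : ω ∈ Submodule.span A (Set.range (D R A)) := by
      rw [span_range_derivation]
      trivial
    induction hω using Submodule.span_induction with
    | mem x hx =>
      obtain ⟨a, rfl⟩ := hx
      exact Submodule.subset_span ⟨a, rfl⟩
    | zero =>
      rw [tmul_zero, tmul_zero]
      exact S.zero_mem
    | add x y _ _ hx hy =>
      rw [tmul_add, tmul_add]
      exact S.add_mem hx hy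
    | smul c x _ hx =>
      rw [tmul_smul, ← algebraMap_smul B c ((1 : B) ⊗ₜ[A] x), one_tmul_smul]
      exact S.smul_mem _ hx
  have h2 : ∀ y : B ⊗[A] Ω[A⁄R], (1 : C) ⊗ₜ[B] y ∈ S := by
    intro y
    induction y using TensorProduct.induction_on with
    | zero =>
      rw [tmul_zero]
      exact S.zero_mem
    | add x y hx hy =>
      rw [tmul_add]
      exact S.add_mem hx hy
    | tmul r ω =>
      have h3 : r ⊗ₜ[A] ω = r • ((1 : B) ⊗ₜ[A] ω) := by
        rw [smul_tmul', smul_eq_mul, mul_one]
      rw [h3, one_tmul_smul]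
      exact S.smul_mem _ (h1 ω)
  induction x using TensorProduct.induction_on with
  | zero => exact S.zero_mem
  | add x y hx hy => exact S.add_mem hx hy
  | tmul c y =>
    have : c ⊗ₜ[B] y = c • ((1 : C) ⊗ₜ[B] y) := by
      rw [smul_tmul', smul_eq_mul, mul_one]
    rw [this]
    exact S.smul_mem _ (h2 y)

/-- Transitivity of the canonical maps `Ω ⊗ → Ω`. -/
theorem mbc_tower :
    (mapBaseChange R A C) ∘ₗ
        (AlgebraTensorModule.cancelBaseChange A B C C Ω[A⁄R]).toLinearMap =
      (mapBaseChange R B C) ∘ₗ (mapBaseChange R A B).baseChange C := by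
  apply LinearMap.ext_on_range (span_tmul_tmul_D R (A := A) (B := B) (C := C))
  intro a
  rw [LinearMap.comp_apply, LinearMap.comp_apply]
  show mapBaseChange R A C (AlgebraTensorModule.cancelBaseChange A B C C Ω[A⁄R]
      ((1 : C) ⊗ₜ[B] ((1 : B) ⊗ₜ[A] D R A a))) =
    mapBaseChange R B C ((1 : C) ⊗ₜ[B] (mapBaseChange R A B ((1 : B) ⊗ₜ[A] D R A a)))
  have h1 : mapBaseChange R A B ((1 : B) ⊗ₜ[A] D R A a) = D R B (algebraMap A B a) := by
    rw [mapBaseChange_tmul, one_smul, map_D]
  have h2 : mapBaseChange R B C ((1 : C) ⊗ₜ[B] D R B (algebraMap A B a)) =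
      D R C (algebraMap B C (algebraMap A B a)) := by
    rw [mapBaseChange_tmul, one_smul, map_D]
  have h3 : mapBaseChange R A C ((1 : C) ⊗ₜ[A] D R A a) = D R C (algebraMap A C a) := by
    rw [mapBaseChange_tmul, one_smul, map_D]
  rw [AlgebraTensorModule.cancelBaseChange_tmul, one_smul, h1, h2, h3,
    ← IsScalarTower.algebraMap_apply]

end Tower

section TowerFred

variable (R : Type*) {A B L : Type*} [CommRing R] [CommRing A] [CommRing B] [Field L]
  [Algebra R A] [Algebra R B] [Algebra R L] [Algebra A B] [Algebra B L] [Algebra A L]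
  [IsScalarTower R A B] [IsScalarTower R B L] [IsScalarTower R A L] [IsScalarTower A B L]

theorem isFred_tower {d₁ d₂ : ℤ} (h₁ : IsFred ((mapBaseChange R A B).baseChange L) d₁)
    (h₂ : IsFred (mapBaseChange R B L) d₂) : IsFred (mapBaseChange R A L) (d₁ + d₂) := by
  have h := h₁.comp h₂
  rw [← mbc_tower] at h
  have hc : IsFred (AlgebraTensorModule.cancelBaseChange A B L L Ω[A⁄R]).symm.toLinearMap 0 :=
    IsFred.of_bijective (AlgebraTensorModule.cancelBaseChange A B L L Ω[A⁄R]).symm.bijective
  have h3 := hc.comp h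
  have e1 : ((mapBaseChange R A L) ∘ₗ
        (AlgebraTensorModule.cancelBaseChange A B L L Ω[A⁄R]).toLinearMap) ∘ₗ
      (AlgebraTensorModule.cancelBaseChange A B L L Ω[A⁄R]).symm.toLinearMap =
      mapBaseChange R A L := by
    ext x
    simp
  rw [e1, zero_add] at h3
  exact h3

end TowerFred

section Conclude

variable {E L : Type u} [Field E] [Field L] [Algebra E L]

/-- From the index of `Ω_E ⊗ L → Ω_L` to the ranks of `Ω_{L/E}` and `Υ_{L/E}`. -/
theorem cartier_of_isFred {d : ℤ} (h : IsFred (mapBaseChange ℤ E L) d) :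
    Module.Finite L (Ω[L⁄E]) ∧ Module.Finite L (EGA41.imperfection ℤ E L) ∧
      (Module.finrank L (Ω[L⁄E]) : ℤ) - Module.finrank L (EGA41.imperfection ℤ E L) = d := by
  haveI := h.finite_ker
  haveI := h.finite_coker
  let e : (Ω[L⁄ℤ] ⧸ LinearMap.range (mapBaseChange ℤ E L)) ≃ₗ[L] Ω[L⁄E] :=
    (KaehlerDifferential.exact_mapBaseChange_map ℤ E L).linearEquivOfSurjective
      (KaehlerDifferential.map_surjective ℤ E L)
  refine ⟨Module.Finite.equiv e, h.finite_ker, ?_⟩
  rw [← e.finrank_eq]
  exact h.index_eq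

end Conclude

section Poly

variable {E L : Type u} [Field E] [Field L] [Algebra E L] [Algebra E[X] L]
  [IsScalarTower E E[X] L]

/-- The polynomial step has index `1`. -/
theorem isFred_poly : IsFred ((mapBaseChange ℤ E E[X]).baseChange L) 1 := by
  classical
  have hex : Function.Exact (mapBaseChange ℤ E E[X]) (KaehlerDifferential.map ℤ E E[X] E[X]) :=
    KaehlerDifferential.exact_mapBaseChange_map ℤ E E[X]
  have hg : Function.Surjective (KaehlerDifferential.map ℤ E E[X] E[X]) := KaehlerDifferential.map_surjective ℤ E E[X]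
  have hb : Function.Injective (mapBaseChange ℤ E E[X]) := by
    rw [injective_iff_map_eq_zero]
    intro x hx
    obtain ⟨y, rfl⟩ := (Algebra.H1Cotangent.exact_δ_mapBaseChange ℤ E E[X] x).mp hx
    rw [Subsingleton.elim y 0, map_zero]
  haveI : Module.Free E[X] Ω[E[X]⁄E] :=
    Module.Free.of_equiv (KaehlerDifferential.polynomialEquiv E).symm
  obtain ⟨s, hs⟩ := Module.projective_lifting_property (KaehlerDifferential.map ℤ E E[X] E[X])
    (LinearMap.id : Ω[E[X]⁄E] →ₗ[E[X]] Ω[E[X]⁄E]) hg
  obtain ⟨-, r, hr⟩ := (hex.split_tfae'.out 0 1 rfl rfl).1 ⟨hb, s, hs⟩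
  have hj : Function.Injective ((mapBaseChange ℤ E E[X]).baseChange L) := by
    have h1 : (r.baseChange L) ∘ₗ ((mapBaseChange ℤ E E[X]).baseChange L) = LinearMap.id := by
      rw [← LinearMap.baseChange_comp, hr, LinearMap.baseChange_id]
    exact Function.LeftInverse.injective (g := r.baseChange L) (fun x => LinearMap.congr_fun h1 x)
  have hexL : Function.Exact ((mapBaseChange ℤ E E[X]).baseChange L)
      ((KaehlerDifferential.map ℤ E E[X] E[X]).baseChange L) := by
    rw [LinearMap.baseChange_eq_ltensor, LinearMap.baseChange_eq_ltensor]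
    exact lTensor_exact L hex hg
  have hgL : Function.Surjective ((KaehlerDifferential.map ℤ E E[X] E[X]).baseChange L) := by
    rw [LinearMap.baseChange_eq_ltensor]
    exact LinearMap.lTensor_surjective L hg
  let e₁ : ((L ⊗[E[X]] Ω[E[X]⁄ℤ]) ⧸ LinearMap.range ((mapBaseChange ℤ E E[X]).baseChange L))
      ≃ₗ[L] L ⊗[E[X]] Ω[E[X]⁄E] := hexL.linearEquivOfSurjective hgL
  let e₂ : L ⊗[E[X]] Ω[E[X]⁄E] ≃ₗ[L] L :=
    ((KaehlerDifferential.polynomialEquiv E).baseChange E[X] L _ _).trans
      (AlgebraTensorModule.rid E[X] L L)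
  haveI : Module.Finite L (L ⊗[E[X]] Ω[E[X]⁄E]) := Module.Finite.equiv e₂.symm
  have h := IsFred.of_injective hj e₁
  rw [e₂.finrank_eq, Module.finrank_self] at h
  exact_mod_cast h

/-- Transcendental step: `L` formally étale over `E[X]` (e.g. its fraction field). -/
theorem isFred_of_formallyEtale [Algebra.FormallyEtale E[X] L] :
    IsFred (mapBaseChange ℤ E L) 1 := by
  have h2 : IsFred (mapBaseChange ℤ E[X] L) 0 :=
    IsFred.of_bijective (tensorKaehlerEquivOfFormallyEtale ℤ E[X] L).bijective
  have := isFred_tower ℤ (A := E) (B := E[X]) (L := L) isFred_poly h2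
  rwa [add_zero] at this

/-- Algebraic step: `E[X] → L` surjective. -/
theorem isFred_of_surjective (hs : Function.Surjective (algebraMap E[X] L)) :
    IsFred (mapBaseChange ℤ E L) 0 := by
  classical
  -- the prime field
  letI algFL : Algebra (PrimeField E) L :=
    ((algebraMap E L).comp (algebraMap (PrimeField E) E)).toAlgebra
  haveI : IsScalarTower (PrimeField E) E L := IsScalarTower.of_algebraMap_eq (fun _ => rfl)
  letI algFP : Algebra (PrimeField E) E[X] :=
    ((algebraMap E E[X]).comp (algebraMap (PrimeField E) E)).toAlgebra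
  haveI : IsScalarTower (PrimeField E) E E[X] := IsScalarTower.of_algebraMap_eq (fun _ => rfl)
  haveI : IsScalarTower (PrimeField E) E[X] L := IsScalarTower.of_algebraMap_eq (fun c => by
    show algebraMap E L (algebraMap (PrimeField E) E c) =
      algebraMap E[X] L (algebraMap E E[X] (algebraMap (PrimeField E) E c))
    rw [← IsScalarTower.algebraMap_apply E E[X] L])
  haveI : Algebra.FormallySmooth (PrimeField E) E[X] :=
    Algebra.FormallySmooth.comp (PrimeField E) E E[X]
  haveI : Algebra.IsGeometricallyReduced (PrimeField E) L :=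
    Groth.Agent.Lib.PerfectGRH3.isGeometricallyReduced_of_perfectField _ L
  haveI : Algebra.FormallySmooth (PrimeField E) L :=
    Groth.Agent.Lib.SepSmoothH3.formallySmooth_of_isGeometricallyReduced _ L
  haveI : IsScalarTower ℤ (PrimeField E) E[X] := ⟨fun n c p => by
    rw [Algebra.smul_def (n • c) p, Algebra.smul_def c p, map_zsmul, smul_mul_assoc]⟩
  have hinjF : Function.Injective (kerCotangentToTensor (PrimeField E) E[X] L) :=
    (Algebra.FormallySmooth.kerCotangentToTensor_injective_iff hs).2 inferInstance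
  -- the kernel ideal
  set I := RingHom.ker (algebraMap E[X] L) with hI
  obtain ⟨f, hf⟩ : ∃ f : E[X], I = Ideal.span {f} :=
    ⟨Submodule.IsPrincipal.generator I, (Ideal.span_singleton_generator I).symm⟩
  have hfI : f ∈ I := by
    rw [hf]
    exact Ideal.subset_span (Set.mem_singleton f)
  have hItop : I ≠ ⊤ := RingHom.ker_ne_top _
  have hf0 : f ≠ 0 := by
    intro h0
    have hbot : I = ⊥ := by rw [hf, h0, Ideal.span_singleton_eq_bot]
    have hinj : Function.Injective (algebraMap E[X] L) :=
      (RingHom.injective_iff_ker_eq_bot _).2 hbot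
    have hfield : IsField E[X] :=
      (RingEquiv.ofBijective (algebraMap E[X] L) ⟨hinj, hs⟩).toMulEquiv.isField
        (Field.toIsField L)
    exact Polynomial.not_isField E hfield
  have hfnot : Ideal.toCotangent I ⟨f, hfI⟩ ≠ 0 := by
    rw [Ne, Ideal.toCotangent_eq_zero]
    intro h2
    have h3 : f ∈ Ideal.span {f * f} := by
      have : I ^ 2 = Ideal.span {f * f} := by
        rw [hf, pow_two, Ideal.span_singleton_mul_span_singleton]
      rw [← this]
      exact h2
    obtain ⟨g, hg⟩ := Ideal.mem_span_singleton'.1 h3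
    have h4 : f * (g * f - 1) = 0 := by
      linear_combination hg
    have h5 : g * f = 1 := by
      rcases mul_eq_zero.1 h4 with h | h
      · exact absurd h hf0
      · exact sub_eq_zero.1 h
    apply hItop
    rw [Ideal.eq_top_iff_one, ← h5]
    exact Ideal.mul_mem_left _ _ hfI
  -- the vector `1 ⊗ df`
  set v : L ⊗[E[X]] Ω[E[X]⁄ℤ] := (1 : L) ⊗ₜ[E[X]] D ℤ E[X] f with hv
  have hv0 : v ≠ 0 := by
    intro h0
    apply hfnot
    apply hinjF
    rw [map_zero]
    show (1 : L) ⊗ₜ[E[X]] D (PrimeField E) E[X] f = 0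
    have h1 : ((KaehlerDifferential.map ℤ (PrimeField E) E[X] E[X]).baseChange L) v = 0 := by
      rw [h0, map_zero]
    rw [hv, LinearMap.baseChange_tmul, map_D] at h1
    exact h1
  have hker : LinearMap.ker (mapBaseChange ℤ E[X] L) = Submodule.span L {v} := by
    apply le_antisymm
    · intro x hx
      have hx' : x ∈ (LinearMap.ker (mapBaseChange ℤ E[X] L)).restrictScalars E[X] := hx
      rw [← KaehlerDifferential.range_kerCotangentToTensor ℤ E[X] L hs] at hx'
      obtain ⟨y, rfl⟩ := hx'
      obtain ⟨⟨g, hg⟩, rfl⟩ := Ideal.toCotangent_surjective _ y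
      rw [kerCotangentToTensor_toCotangent]
      show (1 : L) ⊗ₜ[E[X]] D ℤ E[X] g ∈ _
      have hg' : g ∈ Ideal.span {f} := by rw [← hf]; exact hg
      obtain ⟨h, rfl⟩ := Ideal.mem_span_singleton'.1 hg'
      rw [Derivation.leibniz, tmul_add, one_tmul_smul, one_tmul_smul,
        show algebraMap E[X] L f = 0 from hfI, zero_smul, add_zero]
      exact Submodule.smul_mem _ _ (Submodule.mem_span_singleton_self v)
    · rw [Submodule.span_singleton_le_iff_mem, LinearMap.mem_ker, hv, mapBaseChange_tmul,
        one_smul, map_D, show algebraMap E[X] L f = 0 from hfI, map_zero]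
  haveI : Module.Finite L (LinearMap.ker (mapBaseChange ℤ E[X] L)) := by
    rw [hker]
    infer_instance
  have hrank : Module.finrank L (LinearMap.ker (mapBaseChange ℤ E[X] L)) = 1 := by
    rw [hker]
    exact finrank_span_singleton hv0
  have h2 : IsFred (mapBaseChange ℤ E[X] L) (-1) := by
    have := IsFred.of_surjective (mapBaseChange_surjective ℤ E[X] L hs)
    rwa [hrank] at this
  have := isFred_tower ℤ (A := E) (B := E[X]) (L := L) isFred_poly h2
  exact this

end Poly

section Induction

open IntermediateField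

/-- Cartier's property for `L/K`: the transcendence degree is a natural number `d` and
`Ω_K ⊗ L → Ω_L` has index `d`. -/
def CartierProp (K L : Type u) [Field K] [Field L] [Algebra K L] : Prop :=
  ∃ d : ℕ, Algebra.trdeg K L = (d : Cardinal) ∧ IsFred (mapBaseChange ℤ K L) d

theorem cartierProp_of_bijective {K L : Type u} [Field K] [Field L] [Algebra K L]
    (h : Function.Bijective (algebraMap K L)) : CartierProp K L := by
  refine ⟨0, ?_, ?_⟩
  · haveI : Algebra.IsAlgebraic K L := ⟨fun y => by
      obtain ⟨a, rfl⟩ := h.2 y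
      exact isAlgebraic_algebraMap a⟩
    rw [trdeg_eq_zero, Nat.cast_zero]
  · haveI : Algebra.FormallyEtale K L :=
      Algebra.FormallyEtale.of_equiv (AlgEquiv.ofBijective (Algebra.ofId K L) h)
    exact_mod_cast IsFred.of_bijective (tensorKaehlerEquivOfFormallyEtale ℤ K L).bijective

theorem cartierProp_tower (K E L : Type u) [Field K] [Field E] [Field L] [Algebra K E]
    [Algebra E L] [Algebra K L] [IsScalarTower K E L] (h₁ : CartierProp K E)
    (h₂ : CartierProp E L) : CartierProp K L := by
  obtain ⟨d₁, ht₁, hf₁⟩ := h₁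
  obtain ⟨d₂, ht₂, hf₂⟩ := h₂
  refine ⟨d₁ + d₂, ?_, ?_⟩
  · rw [← trdeg_add_eq K E (A := L), ht₁, ht₂, Nat.cast_add]
  · have := isFred_tower ℤ (A := K) (B := E) (L := L) hf₁.baseChange hf₂
    exact_mod_cast this

theorem cartierProp_simple {K L : Type u} [Field K] [Field L] [Algebra K L] (x : L) :
    CartierProp K K⟮x⟯ := by
  classical
  letI algP : Algebra K[X] K⟮x⟯ := (Polynomial.aeval (AdjoinSimple.gen K x)).toRingHom.toAlgebra
  have halg : ∀ p : K[X], algebraMap K[X] K⟮x⟯ p = Polynomial.aeval (AdjoinSimple.gen K x) p :=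
    fun p => rfl
  haveI : IsScalarTower K K[X] K⟮x⟯ := IsScalarTower.of_algebraMap_eq (fun a => by
    rw [halg]
    exact (Polynomial.aeval_C (AdjoinSimple.gen K x) a).symm)
  by_cases hx : IsAlgebraic K x
  · -- algebraic
    refine ⟨0, ?_, ?_⟩
    · haveI : Algebra.IsAlgebraic K K⟮x⟯ := isAlgebraic_adjoin_simple hx.isIntegral
      rw [trdeg_eq_zero, Nat.cast_zero]
    · have hs : Function.Surjective (algebraMap K[X] K⟮x⟯) := by
        intro y
        have hy : (y : L) ∈ K⟮x⟯.toSubalgebra := y.2
        rw [adjoin_simple_toSubalgebra_of_isAlgebraic hx,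
          Algebra.adjoin_singleton_eq_range_aeval] at hy
        obtain ⟨p, hp⟩ := hy
        refine ⟨p, Subtype.ext ?_⟩
        rw [halg, AdjoinSimple.coe_aeval_gen_apply]
        exact hp
      exact_mod_cast isFred_of_surjective hs
  · -- transcendental
    have htr : Transcendental K x := hx
    have hinj : Function.Injective (algebraMap K[X] K⟮x⟯) := by
      intro p q hpq
      have h1 : Polynomial.aeval x p = Polynomial.aeval x q := by
        have h0 := congrArg Subtype.val hpq
        rw [halg, halg, AdjoinSimple.coe_aeval_gen_apply, AdjoinSimple.coe_aeval_gen_apply] at h0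
        exact h0
      exact (transcendental_iff_injective.1 htr) h1
    haveI : FaithfulSMul K[X] K⟮x⟯ := (faithfulSMul_iff_algebraMap_injective _ _).2 hinj
    haveI : IsFractionRing K[X] K⟮x⟯ := by
      apply IsFractionRing.of_field
      intro z
      obtain ⟨r, s, hrs⟩ := (mem_adjoin_simple_iff K (z : L)).1 z.2
      refine ⟨r, s, Subtype.ext ?_⟩
      rw [hrs]
      show _ = ((algebraMap K[X] K⟮x⟯ r / algebraMap K[X] K⟮x⟯ s : K⟮x⟯) : L)
      rw [halg, halg]
      push_cast
      rw [AdjoinSimple.coe_aeval_gen_apply, AdjoinSimple.coe_aeval_gen_apply]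
    haveI : Algebra.FormallyEtale K[X] K⟮x⟯ :=
      Algebra.FormallyEtale.of_isLocalization (nonZeroDivisors K[X])
    refine ⟨1, ?_, ?_⟩
    · haveI : Algebra.IsAlgebraic K[X] K⟮x⟯ := IsLocalization.isAlgebraic _ (nonZeroDivisors K[X])
      rw [← trdeg_add_eq K K[X] (A := K⟮x⟯), Polynomial.trdeg_of_isDomain, trdeg_eq_zero,
        add_zero, Nat.cast_one]
    · exact_mod_cast isFred_of_formallyEtale (E := K) (L := K⟮x⟯)

theorem cartierProp_of_fin (L : Type u) [Field L] :
    ∀ (n : ℕ) (K : Type u) [Field K] [Algebra K L] (s : Fin n → L),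
      adjoin K (Set.range s) = ⊤ → CartierProp K L := by
  intro n
  induction n with
  | zero =>
    intro K _ _ s hs
    have hempty : Set.range s = ∅ := Set.range_eq_empty s
    rw [hempty, adjoin_empty] at hs
    refine cartierProp_of_bijective ⟨(algebraMap K L).injective, fun y => ?_⟩
    have hy : y ∈ (⊥ : IntermediateField K L) := by
      rw [hs]
      trivial
    exact mem_bot.1 hy
  | succ n ih =>
    intro K _ _ s hs
    have h₁ : CartierProp K K⟮s 0⟯ := cartierProp_simple (s 0)
    have h₂ : CartierProp K⟮s 0⟯ L := by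
      apply ih K⟮s 0⟯ (fun i => s i.succ)
      rw [← restrictScalars_eq_top_iff (K := K), adjoin_adjoin_left, ← hs]
      congr 1
      ext y
      constructor
      · rintro (hy | ⟨i, rfl⟩)
        · exact ⟨0, hy.symm⟩
        · exact ⟨i.succ, rfl⟩
      · rintro ⟨i, rfl⟩
        refine Fin.cases ?_ (fun j => ?_) i
        · exact Or.inl rfl
        · exact Or.inr ⟨j, rfl⟩
    exact cartierProp_tower K K⟮s 0⟯ L h₁ h₂

/-- Cartier's equality. -/
theorem cartier {K L : Type u} [Field K] [Field L] [Algebra K L] [Algebra.EssFiniteType K L] :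
    Module.Finite L (Ω[L⁄K]) ∧ Module.Finite L (EGA41.imperfection ℤ K L) ∧
      (Module.finrank L (Ω[L⁄K]) : ℤ) - Module.finrank L (EGA41.imperfection ℤ K L) =
        Cardinal.toNat (Algebra.trdeg K L) := by
  classical
  obtain ⟨S, hS⟩ := IntermediateField.fg_top K L
  have hC : CartierProp K L := by
    apply cartierProp_of_fin L S.card K (fun i => (S.equivFin.symm i : L))
    rw [← hS]
    congr 1
    ext y
    constructor
    · rintro ⟨i, rfl⟩
      exact (S.equivFin.symm i).2
    · intro hy
      exact ⟨S.equivFin ⟨y, hy⟩, by simp⟩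
  obtain ⟨d, htr, hf⟩ := hC
  have := cartier_of_isFred hf
  rw [htr, Cardinal.toNat_natCast]
  exact this

end Induction

end Groth.Agent.Lib.CartierH3
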