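import Mathlib
import Groth.Agent.Lib.AdicFSField_helper3

/-!
# Lifting derivations along surjections for adically formally smooth algebras (helper3)

`exists_derivation_lift`: if `A` is adically formally smooth over `k` (ideal `𝔫`), `ρ : L → L'` a
surjection of (discrete, `𝔫^j L = 0`) `A`-algebras, then every `k`-derivation `A → L'` lifts to a
`k`-derivation `A → L`.
-/

set_option autoImplicit false
set_option maxSynthPendingDepth 3

namespace Groth.Agent.Lib.DerivLiftH3

universe u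

open Groth.Agent.Lib.AdicFSFieldH3

section TwExtra

variable {L L' : Type u} [CommRing L] [CommRing L']

/-- functoriality of dual numbers -/
noncomputable def twMap (ρ : L →+* L') : Tw L →+* Tw L' where
  toFun x := Tw.mk (ρ x.fst) (ρ x.snd)
  map_one' := by
    refine Tw.ext ?_ ?_
    · rw [Tw.fst_mk, Tw.fst_one, Tw.fst_one, map_one]
    · rw [Tw.snd_mk, Tw.snd_one, Tw.snd_one, map_zero]
  map_mul' x y := by
    refine Tw.ext ?_ ?_
    · rw [Tw.fst_mk, Tw.fst_mul, Tw.fst_mul, Tw.fst_mk, Tw.fst_mk, map_mul]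
    · rw [Tw.snd_mk, Tw.snd_mul, Tw.snd_mul, Tw.fst_mk, Tw.fst_mk, Tw.snd_mk, Tw.snd_mk, map_add,
        map_mul, map_mul]
  map_zero' := by
    refine Tw.ext ?_ ?_
    · rw [Tw.fst_mk, Tw.fst_zero, Tw.fst_zero, map_zero]
    · rw [Tw.snd_mk, Tw.snd_zero, Tw.snd_zero, map_zero]
  map_add' x y := by
    refine Tw.ext ?_ ?_
    · rw [Tw.fst_mk, Tw.fst_add, Tw.fst_add, Tw.fst_mk, Tw.fst_mk, map_add]
    · rw [Tw.snd_mk, Tw.snd_add, Tw.snd_add, Tw.snd_mk, Tw.snd_mk, map_add]

theorem twMap_fst (ρ : L →+* L') (x : Tw L) : (twMap ρ x).fst = ρ x.fst := rfl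
theorem twMap_snd (ρ : L →+* L') (x : Tw L) : (twMap ρ x).snd = ρ x.snd := rfl

/-- inclusion of constants -/
noncomputable def twIncl (L : Type u) [CommRing L] : L →+* Tw L where
  toFun a := Tw.mk a 0
  map_one' := Tw.ext (by rw [Tw.fst_mk, Tw.fst_one]) (by rw [Tw.snd_mk, Tw.snd_one])
  map_mul' a b := by
    refine Tw.ext ?_ ?_
    · rw [Tw.fst_mk, Tw.fst_mul, Tw.fst_mk, Tw.fst_mk]
    · rw [Tw.snd_mk, Tw.snd_mul, Tw.snd_mk, Tw.snd_mk, mul_zero, zero_mul, add_zero]
  map_zero' := Tw.ext (by rw [Tw.fst_mk, Tw.fst_zero]) (by rw [Tw.snd_mk, Tw.snd_zero])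
  map_add' a b := by
    refine Tw.ext ?_ ?_
    · rw [Tw.fst_mk, Tw.fst_add, Tw.fst_mk, Tw.fst_mk]
    · rw [Tw.snd_mk, Tw.snd_add, Tw.snd_mk, Tw.snd_mk, add_zero]

/-- the ring map `a ↦ (f a, D a)` attached to an `f`-derivation -/
noncomputable def twOfDer {A : Type u} [CommRing A] (f : A →+* L) (D : A →+ L)
    (hD : ∀ a b, D (a * b) = f a * D b + f b * D a) : A →+* Tw L where
  toFun a := Tw.mk (f a) (D a)
  map_one' := by
    have h1 : D 1 = 0 := by
      have := hD 1 1
      rw [mul_one, RingHom.map_one, one_mul] at this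
      exact left_eq_add.1 this
    refine Tw.ext ?_ ?_
    · rw [Tw.fst_mk, Tw.fst_one, map_one]
    · rw [Tw.snd_mk, Tw.snd_one, h1]
  map_mul' a b := by
    refine Tw.ext ?_ ?_
    · rw [Tw.fst_mk, Tw.fst_mul, Tw.fst_mk, Tw.fst_mk, map_mul]
    · rw [Tw.snd_mk, Tw.snd_mul, Tw.fst_mk, Tw.fst_mk, Tw.snd_mk, Tw.snd_mk, hD]
      ring
  map_zero' := by
    refine Tw.ext ?_ ?_
    · rw [Tw.fst_mk, Tw.fst_zero, map_zero]
    · rw [Tw.snd_mk, Tw.snd_zero, map_zero]
  map_add' a b := by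
    refine Tw.ext ?_ ?_
    · rw [Tw.fst_mk, Tw.fst_add, Tw.fst_mk, Tw.fst_mk, map_add]
    · rw [Tw.snd_mk, Tw.snd_add, Tw.snd_mk, Tw.snd_mk, map_add]

end TwExtra

/-- Lifting of derivations along surjections of discrete `A`-algebras. -/
theorem exists_derivation_lift {k A : Type u} [CommRing k] [CommRing A] [Algebra k A]
    (𝔫 : Ideal A) (h : CAlgX.IsAdicFormallySmooth k A 𝔫)
    (L L' : Type u) [CommRing L] [CommRing L'] [Algebra A L] [Algebra A L']
    (ρ : L →ₐ[A] L') (hρ : Function.Surjective ρ)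
    (hL : ∃ j : ℕ, ∀ x ∈ 𝔫 ^ j, algebraMap A L x = 0)
    (D' : A →+ L')
    (hD' : ∀ a b, D' (a * b) = algebraMap A L' a * D' b + algebraMap A L' b * D' a)
    (hD'k : ∀ c : k, D' (algebraMap k A c) = 0) :
    ∃ D : A →+ L, (∀ a b, D (a * b) = algebraMap A L a * D b + algebraMap A L b * D a) ∧
      (∀ c : k, D (algebraMap k A c) = 0) ∧ ∀ a, ρ (D a) = D' a := by
  classical
  let S : Subring (L × Tw L') :=
    RingHom.eqLocus ((ρ : L →+* L').comp (RingHom.fst L (Tw L')))
      ((twFst L').comp (RingHom.snd L (Tw L')))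
  have hS : ∀ z : L × Tw L', z ∈ S ↔ ρ z.1 = z.2.fst := fun z => Iff.rfl
  let ψr : A →+* S :=
    RingHom.codRestrict (RingHom.prod (algebraMap A L) (twOfDer (algebraMap A L') D' hD')) S
      (fun a => by
        rw [hS]
        show ρ (algebraMap A L a) = algebraMap A L' a
        exact ρ.commutes a)
  let πr : Tw L →+* S :=
    RingHom.codRestrict (RingHom.prod (twFst L) (twMap (ρ : L →+* L'))) S
      (fun x => by rw [hS]; rfl)
  have hψr1 : ∀ a, ((ψr a : L × Tw L')).1 = algebraMap A L a := fun a => rfl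
  have hψr2 : ∀ a, ((ψr a : L × Tw L')).2 = Tw.mk (algebraMap A L' a) (D' a) := fun a => rfl
  have hπr1 : ∀ x, ((πr x : L × Tw L')).1 = x.fst := fun x => rfl
  have hπr2 : ∀ x, ((πr x : L × Tw L')).2 = Tw.mk (ρ x.fst) (ρ x.snd) := fun x => rfl
  letI algC : Algebra k (Tw L) :=
    ((twIncl L).comp ((algebraMap A L).comp (algebraMap k A))).toAlgebra
  letI algS : Algebra k S := (ψr.comp (algebraMap k A)).toAlgebra
  have halgC : ∀ c : k, algebraMap k (Tw L) c = Tw.mk (algebraMap A L (algebraMap k A c)) 0 :=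
    fun c => rfl
  let π : Tw L →ₐ[k] S :=
    { πr with
      commutes' := fun c => by
        apply Subtype.ext
        show (πr (algebraMap k (Tw L) c) : L × Tw L') = (ψr (algebraMap k A c) : L × Tw L')
        refine Prod.ext ?_ ?_
        · rw [hπr1, hψr1, halgC, Tw.fst_mk]
        · rw [hπr2, hψr2, halgC, Tw.fst_mk, Tw.snd_mk, map_zero, hD'k]
          congr 1
          exact ρ.commutes _ }
  let ψ : A →ₐ[k] S := { ψr with commutes' := fun c => rfl }
  have hπapp : ∀ x, π x = πr x := fun x => rfl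
  have hψapp : ∀ a, ψ a = ψr a := fun a => rfl
  have hπ : Function.Surjective π := by
    rintro ⟨⟨a, t⟩, hs⟩
    rw [hS] at hs
    obtain ⟨b, hb⟩ := hρ t.snd
    refine ⟨Tw.mk a b, ?_⟩
    apply Subtype.ext
    show (πr (Tw.mk a b) : L × Tw L') = (a, t)
    refine Prod.ext ?_ ?_
    · rw [hπr1, Tw.fst_mk]
    · rw [hπr2, Tw.fst_mk, Tw.snd_mk]
      exact Tw.ext hs hb
  have hker : RingHom.ker π.toRingHom ^ 2 = ⊥ := by
    rw [eq_bot_iff, pow_two, Ideal.mul_le]
    intro x hx y hy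
    rw [RingHom.mem_ker] at hx hy
    have hx' : x.fst = 0 := by
      have := congrArg (fun s : S => (s : L × Tw L').1) hx
      exact this
    have hy' : y.fst = 0 := by
      have := congrArg (fun s : S => (s : L × Tw L').1) hy
      exact this
    rw [Ideal.mem_bot]
    refine Tw.ext ?_ ?_
    · rw [Tw.fst_mul, hx', zero_mul, Tw.fst_zero]
    · rw [Tw.snd_mul, hx', hy', zero_mul, mul_zero, add_zero, Tw.snd_zero]
  have hψ : ∃ j : ℕ, ∀ x ∈ 𝔫 ^ j, ψ x = 0 := by
    obtain ⟨j, hj⟩ := hL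
    have hj' : ∀ x ∈ 𝔫 ^ j, algebraMap A L' x = 0 := fun x hx => by
      rw [← ρ.commutes, hj x hx, map_zero]
    refine ⟨j + j, fun x hx => ?_⟩
    have hx1 : x ∈ 𝔫 ^ j := Ideal.pow_le_pow_right (Nat.le_add_right j j) hx
    have hx3 : D' x = 0 := by
      rw [pow_add] at hx
      refine Submodule.mul_induction_on hx ?_ ?_
      · intro y hy z hz
        rw [hD', hj' y hy, hj' z hz, zero_mul, zero_mul, add_zero]
      · intro y z hy hz
        rw [map_add, hy, hz, add_zero]
    apply Subtype.ext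
    show (ψr x : L × Tw L') = 0
    refine Prod.ext ?_ ?_
    · rw [hψr1, hj x hx1]; rfl
    · rw [hψr2, hj' x hx1, hx3]; rfl
  obtain ⟨χ, hχ⟩ := lift_of_surjective 𝔫 h π hπ hker ψ hψ
  have hfst : ∀ a, (χ a).fst = algebraMap A L a := fun a => by
    have := congrArg (fun s : S => (s : L × Tw L').1) (AlgHom.congr_fun hχ a)
    exact this
  have hsnd : ∀ a, ρ (χ a).snd = D' a := fun a => by
    have := congrArg (fun s : S => ((s : L × Tw L').2).snd) (AlgHom.congr_fun hχ a)
    exact this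
  refine ⟨{ toFun := fun a => (χ a).snd
            map_zero' := by
              show (χ 0).snd = 0
              rw [map_zero, Tw.snd_zero]
            map_add' := fun a b => by
              show (χ (a + b)).snd = _
              rw [map_add, Tw.snd_add] }, fun a b => ?_, fun c => ?_, hsnd⟩
  · show (χ (a * b)).snd = algebraMap A L a * (χ b).snd + algebraMap A L b * (χ a).snd
    rw [map_mul, Tw.snd_mul, hfst, hfst]
    ring
  · show (χ (algebraMap k A c)).snd = 0
    rw [χ.commutes, halgC, Tw.snd_mk]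

end Groth.Agent.Lib.DerivLiftH3
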