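import Mathlib
import Groth.Agent.Lib.ComplKaehler_helper3
import Groth.Agent.Lib.DerivLift_helper3

/-!
# Completed differentials of an adically formally smooth local algebra are free (helper3)
-/

set_option autoImplicit false
set_option maxSynthPendingDepth 3

namespace Groth.Agent.Lib.ComplKaehlerH3

universe u

open TensorProduct KaehlerDifferential IsLocalRing Groth.Agent.Lib.AdicFSFieldH3
  Groth.Agent.Lib.DerivLiftH3

section Aux

variable {A : Type u} [CommRing A]

lemma smul_top_quotient_eq_zero (I : Ideal A) (y : A ⧸ I)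
    (hy : y ∈ I • (⊤ : Submodule A (A ⧸ I))) : y = 0 := by
  refine Submodule.smul_induction_on hy ?_ ?_
  · intro r hr z _
    rw [Algebra.smul_def, Ideal.Quotient.algebraMap_eq, Ideal.Quotient.eq_zero_iff_mem.2 hr,
      zero_mul]
  · intro a b ha hb
    rw [ha, hb, add_zero]

variable [IsLocalRing A] {M : Type*} [AddCommGroup M] [Module A M]

lemma one_tmul_eq_zero_iff (z : M) :
    (1 : ResidueField A) ⊗ₜ[A] z = 0 ↔ z ∈ maximalIdeal A • (⊤ : Submodule A M) := by
  have h := LinearMap.congr_fun
    (TensorProduct.quotTensorEquivQuotSMul_comp_mk (M := M) (maximalIdeal A)) z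
  rw [LinearMap.comp_apply] at h
  have h' : (TensorProduct.quotTensorEquivQuotSMul M (maximalIdeal A))
      ((1 : A ⧸ maximalIdeal A) ⊗ₜ[A] z) = Submodule.Quotient.mk z := h
  show (1 : A ⧸ maximalIdeal A) ⊗ₜ[A] z = 0 ↔ _
  rw [← (TensorProduct.quotTensorEquivQuotSMul M (maximalIdeal A)).map_eq_zero_iff, h',
    Submodule.Quotient.mk_eq_zero]

lemma one_tmul_surjective (y : ResidueField A ⊗[A] M) :
    ∃ z : M, (1 : ResidueField A) ⊗ₜ[A] z = y := by
  induction y using TensorProduct.induction_on with
  | zero => exact ⟨0, tmul_zero _ _⟩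
  | tmul c z =>
    obtain ⟨a, rfl⟩ := residue_surjective c
    refine ⟨a • z, ?_⟩
    rw [one_tmul_smul, smul_tmul', smul_eq_mul, mul_one]
    rfl
  | add y₁ y₂ h₁ h₂ =>
    obtain ⟨z₁, rfl⟩ := h₁
    obtain ⟨z₂, rfl⟩ := h₂
    exact ⟨z₁ + z₂, tmul_add _ _ _⟩

end Aux

section Indep

variable {k A : Type u} [CommRing k] [CommRing A] [IsLocalRing A] [Algebra k A]

/-- Key independence statement: elements of `Ω_{A/k}` which are independent modulo `𝔪` stay
independent modulo every power of `𝔪`. -/
theorem mem_pow_of_sum_mem (h : CAlgX.IsAdicFormallySmooth k A (maximalIdeal A)) {d : ℕ}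
    (x : Fin d → Ω[A⁄k])
    (hx : LinearIndependent (ResidueField A) (fun i => (1 : ResidueField A) ⊗ₜ[A] x i))
    (n : ℕ) (v : Fin d → A)
    (hv : ∑ i, v i • x i ∈ (maximalIdeal A ^ n) • (⊤ : Submodule A (Ω[A⁄k]))) :
    ∀ i, v i ∈ maximalIdeal A ^ n := by
  classical
  rcases Nat.eq_zero_or_pos n with rfl | hn
  · intro i
    rw [pow_zero, Ideal.one_eq_top]
    trivial
  have hle : maximalIdeal A ^ n ≤ maximalIdeal A := Ideal.pow_le_self (Nat.pos_iff_ne_zero.1 hn)
  let ρ : (A ⧸ maximalIdeal A ^ n) →ₐ[A] ResidueField A := Ideal.Quotient.factorₐ A hle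
  have hρmk : ∀ a : A, ρ (Ideal.Quotient.mk _ a) = residue A a := fun a => rfl
  have hρ : Function.Surjective ρ := fun c => by
    obtain ⟨a, rfl⟩ := residue_surjective c
    exact ⟨Ideal.Quotient.mk _ a, rfl⟩
  -- the left inverse
  have hinj : Function.Injective (Fintype.linearCombination (ResidueField A)
      (fun i => (1 : ResidueField A) ⊗ₜ[A] x i)) :=
    linearIndependent_iff_injective_fintypeLinearCombination.1 hx
  obtain ⟨g, hg⟩ := LinearMap.exists_leftInverse_of_injective _ (LinearMap.ker_eq_bot.2 hinj)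
  have hgx : ∀ i j, g ((1 : ResidueField A) ⊗ₜ[A] x i) j = if j = i then 1 else 0 := by
    intro i j
    have h1 := LinearMap.congr_fun hg (Pi.single i 1)
    rw [LinearMap.comp_apply, Fintype.linearCombination_apply_single, one_smul,
      LinearMap.id_apply] at h1
    rw [h1, Pi.single_apply]
  -- the derivations into the residue field
  have hlift : ∀ j : Fin d, ∃ D : A →+ (A ⧸ maximalIdeal A ^ n),
      (∀ a b, D (a * b) = algebraMap A _ a * D b + algebraMap A _ b * D a) ∧
      (∀ c : k, D (algebraMap k A c) = 0) ∧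
      ∀ a, ρ (D a) = g ((1 : ResidueField A) ⊗ₜ[A] KaehlerDifferential.D k A a) j := by
    intro j
    refine exists_derivation_lift (maximalIdeal A) h (A ⧸ maximalIdeal A ^ n) (ResidueField A) ρ hρ
      ⟨n, fun a ha => Ideal.Quotient.eq_zero_iff_mem.2 ha⟩
      { toFun := fun a => g ((1 : ResidueField A) ⊗ₜ[A] KaehlerDifferential.D k A a) j
        map_zero' := by rw [map_zero, tmul_zero, map_zero]; rfl
        map_add' := fun a b => by rw [map_add, tmul_add, map_add]; rfl } ?_ ?_
    · intro a b
      show g ((1 : ResidueField A) ⊗ₜ[A] KaehlerDifferential.D k A (a * b)) j =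
        algebraMap A (ResidueField A) a *
          g ((1 : ResidueField A) ⊗ₜ[A] KaehlerDifferential.D k A b) j +
        algebraMap A (ResidueField A) b *
          g ((1 : ResidueField A) ⊗ₜ[A] KaehlerDifferential.D k A a) j
      rw [Derivation.leibniz, tmul_add, one_tmul_smul, one_tmul_smul, map_add, map_smul, map_smul]
      rfl
    · intro c
      show g ((1 : ResidueField A) ⊗ₜ[A] KaehlerDifferential.D k A (algebraMap k A c)) j = 0
      rw [Derivation.map_algebraMap, tmul_zero, map_zero]
      rfl
  choose Dn hDmul hDk hDρ using hlift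
  -- the derivations as `k`-derivations
  let der : Fin d → Derivation k A (A ⧸ maximalIdeal A ^ n) := fun j =>
    Derivation.mk'
      { toFun := Dn j
        map_add' := map_add _
        map_smul' := fun c a => by
          rw [RingHom.id_apply, Algebra.smul_def, hDmul, hDk, mul_zero, add_zero,
            Algebra.smul_def, ← IsScalarTower.algebraMap_apply] }
      (fun a b => by
        show Dn j (a * b) = a • Dn j b + b • Dn j a
        rw [hDmul, Algebra.smul_def, Algebra.smul_def])
  have hder : ∀ j a, der j a = Dn j a := fun j a => rfl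
  let lam : Fin d → (Ω[A⁄k] →ₗ[A] (A ⧸ maximalIdeal A ^ n)) := fun j =>
    (der j).liftKaehlerDifferential
  have hlamD : ∀ j a, lam j (KaehlerDifferential.D k A a) = Dn j a := fun j a => by
    rw [← hder]
    exact Derivation.liftKaehlerDifferential_comp_D (der j) a
  have hlamρ : ∀ j (ω : Ω[A⁄k]), ρ (lam j ω) = g ((1 : ResidueField A) ⊗ₜ[A] ω) j := by
    intro j ω
    have hω : ω ∈ Submodule.span A (Set.range (KaehlerDifferential.D k A)) := by
      rw [KaehlerDifferential.span_range_derivation]; trivial
    induction hω using Submodule.span_induction with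
    | mem ω hω =>
      obtain ⟨a, rfl⟩ := hω
      rw [hlamD, hDρ]
    | zero => rw [map_zero, map_zero, tmul_zero, map_zero]; rfl
    | add ω₁ ω₂ _ _ h₁ h₂ =>
      rw [map_add, map_add, h₁, h₂, tmul_add, map_add]; rfl
    | smul a ω _ hω =>
      rw [map_smul, map_smul, hω, one_tmul_smul, map_smul, Algebra.smul_def]
      rfl
  -- the matrix
  let P : Matrix (Fin d) (Fin d) (A ⧸ maximalIdeal A ^ n) := fun j i => lam j (x i)
  have hPρ : (ρ : (A ⧸ maximalIdeal A ^ n) →+* ResidueField A).mapMatrix P = 1 := by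
    ext j i
    rw [RingHom.mapMatrix_apply, Matrix.map_apply, Matrix.one_apply]
    show ρ (lam j (x i)) = _
    rw [hlamρ, hgx]
  have hdet : ρ P.det = 1 := by
    have := RingHom.map_det (ρ : (A ⧸ maximalIdeal A ^ n) →+* ResidueField A) P
    rw [hPρ, Matrix.det_one] at this
    exact this
  have hunit : IsUnit P.det := by
    obtain ⟨a, ha⟩ := Ideal.Quotient.mk_surjective P.det
    rw [← ha, hρmk] at hdet
    have ha' : IsUnit a := by
      by_contra hnu
      have : residue A a = 0 := (residue_eq_zero_iff a).2 ((mem_maximalIdeal a).2 hnu)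
      rw [this] at hdet
      exact zero_ne_one hdet
    rw [← ha]
    exact ha'.map _
  -- apply the `lam j`
  have hlamv : ∀ j, ∑ i, P j i * Ideal.Quotient.mk (maximalIdeal A ^ n) (v i) = 0 := by
    intro j
    have h1 : lam j (∑ i, v i • x i) = 0 :=
      smul_top_quotient_eq_zero _ _ (map_mem_smul_top _ (lam j) hv)
    rw [map_sum] at h1
    rw [← h1]
    refine Finset.sum_congr rfl fun i _ => ?_
    rw [map_smul, Algebra.smul_def, Ideal.Quotient.algebraMap_eq, mul_comm]
  have hmv : P.mulVec (fun i => Ideal.Quotient.mk (maximalIdeal A ^ n) (v i)) = 0 := by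
    funext j
    exact hlamv j
  have hzero : (fun i => Ideal.Quotient.mk (maximalIdeal A ^ n) (v i)) = 0 := by
    have h2 : P⁻¹ * P = 1 := Matrix.nonsing_inv_mul P hunit
    calc (fun i => Ideal.Quotient.mk (maximalIdeal A ^ n) (v i))
        = (1 : Matrix (Fin d) (Fin d) _).mulVec
            (fun i => Ideal.Quotient.mk (maximalIdeal A ^ n) (v i)) := (Matrix.one_mulVec _).symm
      _ = P⁻¹.mulVec (P.mulVec (fun i => Ideal.Quotient.mk (maximalIdeal A ^ n) (v i))) := by
          rw [Matrix.mulVec_mulVec, h2]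
      _ = 0 := by rw [hmv, Matrix.mulVec_zero]
  intro i
  exact Ideal.Quotient.eq_zero_iff_mem.1 (congrFun hzero i)

end Indep

section Free

variable {k A : Type u} [CommRing k] [CommRing A] [IsLocalRing A] [Algebra k A]

/-- `Ω̂_{A/k}` is free of rank `dim_K (K ⊗_A Ω_{A/k})` when `A` is a complete local ring, adically
formally smooth over `k`, and that dimension is finite. -/
theorem nonempty_equiv_completedKaehler [IsAdicComplete (maximalIdeal A) A]
    (h : CAlgX.IsAdicFormallySmooth k A (maximalIdeal A))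
    [Module.Finite (ResidueField A) (ResidueField A ⊗[A] Ω[A⁄k])] :
    Nonempty ((Fin (Module.finrank (ResidueField A) (ResidueField A ⊗[A] Ω[A⁄k])) → A) ≃ₗ[A]
      AdicCompletion (maximalIdeal A) (Ω[A⁄k])) := by
  classical
  let b := Module.finBasis (ResidueField A) (ResidueField A ⊗[A] Ω[A⁄k])
  choose x hx using fun i => one_tmul_surjective (A := A) (M := Ω[A⁄k]) (b i)
  have hli : LinearIndependent (ResidueField A) (fun i => (1 : ResidueField A) ⊗ₜ[A] x i) := by
    have : (fun i => (1 : ResidueField A) ⊗ₜ[A] x i) = b := funext hx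
    rw [this]
    exact b.linearIndependent
  have hspan : Submodule.span A (Set.range x) ⊔
      maximalIdeal A • (⊤ : Submodule A (Ω[A⁄k])) = ⊤ := by
    rw [eq_top_iff]
    rintro y -
    choose c hc using fun i => residue_surjective (b.repr ((1 : ResidueField A) ⊗ₜ[A] y) i)
    have hz : y - ∑ i, c i • x i ∈ maximalIdeal A • (⊤ : Submodule A (Ω[A⁄k])) := by
      rw [← one_tmul_eq_zero_iff, tmul_sub, tmul_sum, sub_eq_zero]
      conv_lhs => rw [← b.sum_repr ((1 : ResidueField A) ⊗ₜ[A] y)]
      refine Finset.sum_congr rfl fun i _ => ?_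
      rw [one_tmul_smul, hx, ← hc i]
      rfl
    rw [show y = ∑ i, c i • x i + (y - ∑ i, c i • x i) by abel]
    refine Submodule.add_mem_sup (Submodule.sum_mem _ fun i _ => ?_) hz
    exact Submodule.smul_mem _ _ (Submodule.subset_span ⟨i, rfl⟩)
  have hsurj := surjective_of_span_sup (maximalIdeal A) x hspan
  have hinj : Function.Injective ((AdicCompletion.of (maximalIdeal A) (Ω[A⁄k])) ∘ₗ
      (Fintype.linearCombination A x)) := by
    rw [injective_iff_map_eq_zero]
    intro v hv
    rw [LinearMap.comp_apply, Fintype.linearCombination_apply] at hv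
    have hmem : ∀ n, ∑ i, v i • x i ∈
        (maximalIdeal A ^ n) • (⊤ : Submodule A (Ω[A⁄k])) := by
      intro n
      have := congrArg (fun z => AdicCompletion.eval (maximalIdeal A) _ n z) hv
      simp only [AdicCompletion.eval_of, map_zero] at this
      exact (Submodule.Quotient.mk_eq_zero _).1 this
    funext i
    refine IsHausdorff.haus' (I := maximalIdeal A) (v i) fun n => ?_
    rw [SModEq.zero, smul_eq_mul, Ideal.mul_top]
    exact mem_pow_of_sum_mem h x hli n v (hmem n) i
  exact ⟨LinearEquiv.ofBijective _ ⟨hinj, hsurj⟩⟩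

end Free

end Groth.Agent.Lib.ComplKaehlerH3
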