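import Mathlib
import Groth.Agent.Lib.ComplKaehlerFS_helper3
import Groth.Agent.Lib.Cartier_helper3
import Groth.Agent.S2471

/-!
# Rank of the completed differentials of a formally smooth complete local algebra (helper3)
-/

set_option autoImplicit false
set_option maxSynthPendingDepth 3

namespace Groth.Agent.Lib.ComplKaehlerH3

universe u

open TensorProduct KaehlerDifferential IsLocalRing Groth.Agent.Lib.AdicFSFieldH3
  Groth.Agent.Lib.FredholmH3 Groth.Agent.Lib.CartierH3

section Fred

theorem IsFred.index_unique {L : Type*} [Field L] {V W : Type*} [AddCommGroup V] [Module L V]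
    [AddCommGroup W] [Module L W] {f : V →ₗ[L] W} {a b : ℤ} (ha : IsFred f a) (hb : IsFred f b) :
    a = b := by
  rw [← ha.index_eq, ← hb.index_eq]

theorem cartierProp_of_essFiniteType {K L : Type u} [Field K] [Field L] [Algebra K L]
    [Algebra.EssFiniteType K L] : CartierProp K L := by
  classical
  obtain ⟨S, hS⟩ := IntermediateField.fg_top K L
  apply cartierProp_of_fin L S.card K (fun i => (S.equivFin.symm i : L))
  rw [← hS]
  congr 1
  ext y
  constructor
  · rintro ⟨i, rfl⟩
    exact (S.equivFin.symm i).2
  · intro hy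
    exact ⟨S.equivFin ⟨y, hy⟩, by simp⟩

end Fred

section Section

variable {F A : Type u} [Field F] [CommRing A] [IsLocalRing A] [Algebra F A]

/-- If the residue field is formally smooth over a field `F ⊆ A`, the conormal map
`𝔪/𝔪² → K ⊗ Ω_{A/ℤ}` is injective. -/
theorem kerCotangentToTensor_injective [Algebra.FormallySmooth F (ResidueField A)] :
    Function.Injective (kerCotangentToTensor ℤ A (ResidueField A)) := by
  have hsurj : Function.Surjective (algebraMap A (ResidueField A)) := residue_surjective
  let fF := IsScalarTower.toAlgHom F A (ResidueField A)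
  have hs : Function.Surjective fF.kerSquareLift :=
    Ideal.Quotient.lift_surjective_of_surjective _ _ hsurj
  have sqz : RingHom.ker fF.kerSquareLift.toRingHom ^ 2 = ⊥ := by
    rw [AlgHom.ker_kerSquareLift, Ideal.cotangentIdeal_square]
  have hnil : IsNilpotent (RingHom.ker
      (fF.kerSquareLift : (A ⧸ RingHom.ker fF.toRingHom ^ 2) →+* ResidueField A)) := ⟨2, sqz⟩
  let g₀ := Algebra.FormallySmooth.liftOfSurjective (AlgHom.id F (ResidueField A))
    fF.kerSquareLift hs hnil
  let g : ResidueField A →ₐ[ℤ]
      A ⧸ RingHom.ker (IsScalarTower.toAlgHom ℤ A (ResidueField A)).toRingHom ^ 2 :=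
    RingHom.toIntAlgHom (show ResidueField A →+*
      A ⧸ RingHom.ker (IsScalarTower.toAlgHom ℤ A (ResidueField A)).toRingHom ^ 2 from
      g₀.toRingHom)
  have hg : (IsScalarTower.toAlgHom ℤ A (ResidueField A)).kerSquareLift.comp g =
      AlgHom.id ℤ (ResidueField A) := by
    ext y
    exact Algebra.FormallySmooth.liftOfSurjective_apply (AlgHom.id F (ResidueField A))
      fF.kerSquareLift hs hnil y
  obtain ⟨l, hl⟩ := (retractionKerCotangentToTensorEquivSection (R := ℤ) hsurj).symm ⟨g, hg⟩
  exact Function.LeftInverse.injective (fun y => LinearMap.congr_fun hl y)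

variable [IsNoetherianRing A]

/-- `K ⊗ Ω_{A/ℤ} → Ω_{K/ℤ}` is surjective with kernel of dimension `dim 𝔪/𝔪²`. -/
theorem isFred_mapBaseChange_residue [Algebra.FormallySmooth F (ResidueField A)] :
    IsFred (mapBaseChange ℤ A (ResidueField A))
      (-(Module.finrank (ResidueField A) (CotangentSpace A) : ℤ)) := by
  have hsurj : Function.Surjective (algebraMap A (ResidueField A)) := residue_surjective
  have hinj := kerCotangentToTensor_injective (F := F) (A := A)
  have hIeq : RingHom.ker (algebraMap A (ResidueField A)) = maximalIdeal A := ker_residue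
  have hle : maximalIdeal A ≤
      (RingHom.ker (algebraMap A (ResidueField A))).comap (AlgHom.id A A) := by
    rw [hIeq]
    exact le_rfl
  let mc := Ideal.mapCotangent (maximalIdeal A) (RingHom.ker (algebraMap A (ResidueField A)))
    (AlgHom.id A A) hle
  have hmc : ∀ x : maximalIdeal A, mc ((maximalIdeal A).toCotangent x) =
      (RingHom.ker (algebraMap A (ResidueField A))).toCotangent ⟨x, hle x.2⟩ := fun x => rfl
  have hmcinj : Function.Injective mc := by
    rw [injective_iff_map_eq_zero]
    intro z hz
    obtain ⟨x, rfl⟩ := Ideal.toCotangent_surjective _ z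
    rw [hmc, Ideal.toCotangent_eq_zero] at hz
    rw [Ideal.toCotangent_eq_zero]
    have hz' : (x : A) ∈ RingHom.ker (algebraMap A (ResidueField A)) ^ 2 := hz
    rw [hIeq] at hz'
    exact hz'
  let c₀ : CotangentSpace A →ₗ[A] ResidueField A ⊗[A] Ω[A⁄ℤ] :=
    (kerCotangentToTensor ℤ A (ResidueField A)) ∘ₗ mc
  let c : CotangentSpace A →ₗ[ResidueField A] ResidueField A ⊗[A] Ω[A⁄ℤ] :=
    c₀.extendScalarsOfSurjective hsurj
  have hc : ∀ z, c z = kerCotangentToTensor ℤ A (ResidueField A) (mc z) := fun z => rfl
  have hcinj : Function.Injective c := fun z₁ z₂ hz => hmcinj (hinj hz)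
  have hrange : LinearMap.range c = LinearMap.ker (mapBaseChange ℤ A (ResidueField A)) := by
    have hr := KaehlerDifferential.range_kerCotangentToTensor ℤ A (ResidueField A) hsurj
    ext y
    constructor
    · rintro ⟨z, rfl⟩
      have : kerCotangentToTensor ℤ A (ResidueField A) (mc z) ∈
          LinearMap.range (kerCotangentToTensor ℤ A (ResidueField A)) := ⟨_, rfl⟩
      rw [hr] at this
      exact this
    · intro hy
      have : y ∈ (LinearMap.ker (mapBaseChange ℤ A (ResidueField A))).restrictScalars A := hy
      rw [← hr] at this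
      obtain ⟨w, rfl⟩ := this
      obtain ⟨⟨a, ha⟩, rfl⟩ := Ideal.toCotangent_surjective _ w
      have ha' : a ∈ maximalIdeal A := hIeq ▸ ha
      exact ⟨(maximalIdeal A).toCotangent ⟨a, ha'⟩, rfl⟩
  haveI : Module.Finite (ResidueField A)
      (LinearMap.ker (mapBaseChange ℤ A (ResidueField A))) := by
    rw [← hrange]
    exact Module.Finite.range c
  have hfr : Module.finrank (ResidueField A)
      (LinearMap.ker (mapBaseChange ℤ A (ResidueField A))) =
      Module.finrank (ResidueField A) (CotangentSpace A) := by
    rw [← hrange]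
    exact LinearMap.finrank_range_of_inj hcinj
  have := IsFred.of_surjective (mapBaseChange_surjective ℤ A (ResidueField A) hsurj)
  rwa [hfr] at this

end Section

section Rank

variable {k₀ A : Type u} [Field k₀] [CommRing A] [IsLocalRing A] [IsNoetherianRing A]
  [Algebra k₀ A]

theorem finite_tensor_kaehler [Algebra.EssFiniteType k₀ (ResidueField A)] :
    Module.Finite (ResidueField A) (ResidueField A ⊗[A] Ω[A⁄k₀]) := by
  haveI : Module.Finite (A ⧸ maximalIdeal A) (Ω[A ⧸ maximalIdeal A⁄k₀]) :=
    inferInstanceAs (Module.Finite (ResidueField A) (Ω[ResidueField A⁄k₀]))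
  haveI : Module.Finite (A ⧸ maximalIdeal A) (maximalIdeal A).Cotangent :=
    inferInstanceAs (Module.Finite (ResidueField A) (CotangentSpace A))
  haveI := finite_kaehler_quotient (A := k₀) (maximalIdeal A)
  haveI : Module.Finite A (ResidueField A ⊗[A] Ω[A⁄k₀]) :=
    Module.Finite.equiv (TensorProduct.quotTensorEquivQuotSMul (Ω[A⁄k₀]) (maximalIdeal A)).symm
  exact Module.Finite.of_restrictScalars_finite A (ResidueField A) _

/-- `dim_K (K ⊗_A Ω_{A/k₀}) = dim 𝔪/𝔪² + trdeg_{k₀} K` for `A` adically formally smooth
over `k₀`. -/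
theorem finrank_tensor_kaehler (hfs : CAlgX.IsAdicFormallySmooth k₀ A (maximalIdeal A))
    [Algebra.EssFiniteType k₀ (ResidueField A)]
    [Module.Finite (ResidueField A) (ResidueField A ⊗[A] Ω[A⁄k₀])] :
    Module.finrank (ResidueField A) (ResidueField A ⊗[A] Ω[A⁄k₀]) =
      Module.finrank (ResidueField A) (CotangentSpace A) +
        Cardinal.toNat (Algebra.trdeg k₀ (ResidueField A)) := by
  classical
  -- prime field
  letI alg₀ : Algebra (PrimeField k₀) A :=
    ((algebraMap k₀ A).comp (algebraMap (PrimeField k₀) k₀)).toAlgebra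
  haveI : IsScalarTower (PrimeField k₀) k₀ A := IsScalarTower.of_algebraMap_eq (fun _ => rfl)
  haveI : Algebra.IsGeometricallyReduced (PrimeField k₀) (ResidueField A) :=
    Groth.Agent.Lib.PerfectGRH3.isGeometricallyReduced_of_perfectField _ (ResidueField A)
  haveI : Algebra.FormallySmooth (PrimeField k₀) (ResidueField A) :=
    Groth.Agent.Lib.SepSmoothH3.formallySmooth_of_isGeometricallyReduced _ _
  have h₂ := isFred_mapBaseChange_residue (F := PrimeField k₀) (A := A)
  -- injectivity
  have hinj := ((Groth.Agent.S2471.result (k := k₀) (A := A)).1 hfs).2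
  have hinj' : Function.Injective ((mapBaseChange ℤ k₀ A).baseChange (ResidueField A)) := by
    rw [LinearMap.baseChange_eq_ltensor]
    exact hinj
  have hex : Function.Exact ((mapBaseChange ℤ k₀ A).baseChange (ResidueField A))
      ((KaehlerDifferential.map ℤ k₀ A A).baseChange (ResidueField A)) := by
    rw [LinearMap.baseChange_eq_ltensor, LinearMap.baseChange_eq_ltensor]
    exact lTensor_exact (ResidueField A) (KaehlerDifferential.exact_mapBaseChange_map ℤ k₀ A)
      (KaehlerDifferential.map_surjective ℤ k₀ A)
  have hq : Function.Surjective ((KaehlerDifferential.map ℤ k₀ A A).baseChange (ResidueField A)) := by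
    rw [LinearMap.baseChange_eq_ltensor]
    exact LinearMap.lTensor_surjective _ (KaehlerDifferential.map_surjective ℤ k₀ A)
  have h₁ : IsFred ((mapBaseChange ℤ k₀ A).baseChange (ResidueField A))
      (Module.finrank (ResidueField A) (ResidueField A ⊗[A] Ω[A⁄k₀])) :=
    IsFred.of_injective hinj' (hex.linearEquivOfSurjective hq)
  have h₃ := isFred_tower ℤ (A := k₀) (B := A) (L := ResidueField A) h₁ h₂
  obtain ⟨t, ht, hft⟩ := cartierProp_of_essFiniteType (K := k₀) (L := ResidueField A)
  have := IsFred.index_unique h₃ hft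
  rw [ht, Cardinal.toNat_natCast]
  omega

end Rank

end Groth.Agent.Lib.ComplKaehlerH3
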