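import Mathlib
import Groth.Agent.Lib.ComplKaehlerRank_helper3
import Groth.Agent.Lib.CoeffFieldP_helper3

/-!
# Cotangent spaces and Kähler differentials: injectivity of the conormal map in residue
characteristic `p` with `p ∈ 𝔪²`, the polynomial step and the quotient step for Fredholm
indices (helper3)
-/

set_option autoImplicit false
set_option maxSynthPendingDepth 3

namespace Groth.Agent.Lib.PRootCotH3

universe u

open TensorProduct KaehlerDifferential IsLocalRing Groth.Agent.Lib.FredholmH3
  Groth.Agent.Lib.CartierH3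

section Cot

variable {A : Type u} [CommRing A] [IsLocalRing A]

/-- If `p ∈ 𝔪²` (e.g. `A` of characteristic `p`), the conormal map `𝔪/𝔪² → K ⊗ Ω_{A/ℤ}` is
injective. -/
theorem kerCotangentToTensor_injective_of_mem_sq (p : ℕ) [hpp : Fact p.Prime]
    (hp : (p : A) ∈ maximalIdeal A ^ 2) :
    Function.Injective (kerCotangentToTensor ℤ A (ResidueField A)) := by
  classical
  have hsurj : Function.Surjective (algebraMap A (ResidueField A)) := residue_surjective
  obtain ⟨f₀, hf₀⟩ : ∃ f₀ : A →ₐ[ℤ] ResidueField A,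
      f₀ = IsScalarTower.toAlgHom ℤ A (ResidueField A) := ⟨_, rfl⟩
  have hker : RingHom.ker f₀.toRingHom = maximalIdeal A := by
    rw [hf₀]
    exact ker_residue
  have hs : Function.Surjective f₀.kerSquareLift := by
    rw [hf₀]
    exact Ideal.Quotient.lift_surjective_of_surjective _ _ hsurj
  haveI : Nontrivial (A ⧸ RingHom.ker f₀.toRingHom ^ 2) :=
    (f₀.kerSquareLift : (A ⧸ RingHom.ker f₀.toRingHom ^ 2) →+* ResidueField A).domain_nontrivial
  have hpQ : ((p : ℕ) : A ⧸ RingHom.ker f₀.toRingHom ^ 2) = 0 := by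
    rw [← map_natCast (Ideal.Quotient.mk (RingHom.ker f₀.toRingHom ^ 2)),
      Ideal.Quotient.eq_zero_iff_mem, hker]
    exact hp
  have hpK : ((p : ℕ) : ResidueField A) = 0 := by
    have := congrArg f₀.kerSquareLift hpQ
    rwa [map_natCast, map_zero] at this
  haveI : CharP (A ⧸ RingHom.ker f₀.toRingHom ^ 2) p :=
    (CharP.charP_iff_prime_eq_zero hpp.out).2 hpQ
  haveI : CharP (ResidueField A) p := (CharP.charP_iff_prime_eq_zero hpp.out).2 hpK
  letI algFQ : Algebra (ULift.{u} (ZMod p)) (A ⧸ RingHom.ker f₀.toRingHom ^ 2) :=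
    ((ZMod.castHom (dvd_refl p) (A ⧸ RingHom.ker f₀.toRingHom ^ 2)).comp
      (ULift.ringEquiv : ULift.{u} (ZMod p) ≃+* ZMod p).toRingHom).toAlgebra
  letI algFK : Algebra (ULift.{u} (ZMod p)) (ResidueField A) :=
    ((ZMod.castHom (dvd_refl p) (ResidueField A)).comp
      (ULift.ringEquiv : ULift.{u} (ZMod p) ≃+* ZMod p).toRingHom).toAlgebra
  haveI : PerfectField (ULift.{u} (ZMod p)) := PerfectField.ofFinite
  haveI : Algebra.IsGeometricallyReduced (ULift.{u} (ZMod p)) (ResidueField A) :=
    PerfectGRH3.isGeometricallyReduced_of_perfectField _ _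
  haveI : Algebra.FormallySmooth (ULift.{u} (ZMod p)) (ResidueField A) :=
    SepSmoothH3.formallySmooth_of_isGeometricallyReduced _ _
  let π : (A ⧸ RingHom.ker f₀.toRingHom ^ 2) →ₐ[ULift.{u} (ZMod p)] ResidueField A :=
    { (f₀.kerSquareLift : (A ⧸ RingHom.ker f₀.toRingHom ^ 2) →+* ResidueField A) with
      commutes' := fun a => RingHom.congr_fun (CoeffFieldPH3.ringHom_ulift_zmod_ext
          ((f₀.kerSquareLift : (A ⧸ RingHom.ker f₀.toRingHom ^ 2) →+* ResidueField A).comp
            (algebraMap (ULift.{u} (ZMod p)) (A ⧸ RingHom.ker f₀.toRingHom ^ 2)))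
          (algebraMap (ULift.{u} (ZMod p)) (ResidueField A))) a }
  have hπ : ∀ x, π x = f₀.kerSquareLift x := fun _ => rfl
  have hsπ : Function.Surjective π := hs
  have sqz : RingHom.ker (π : (A ⧸ RingHom.ker f₀.toRingHom ^ 2) →+* ResidueField A) ^ 2 = ⊥ := by
    have h1 : RingHom.ker (π : (A ⧸ RingHom.ker f₀.toRingHom ^ 2) →+* ResidueField A) =
        RingHom.ker f₀.kerSquareLift.toRingHom := by
      ext x
      rw [RingHom.mem_ker, RingHom.mem_ker]
      rfl
    rw [h1, AlgHom.ker_kerSquareLift, Ideal.cotangentIdeal_square]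
  have hnil : IsNilpotent
      (RingHom.ker (π : (A ⧸ RingHom.ker f₀.toRingHom ^ 2) →+* ResidueField A)) := ⟨2, sqz⟩
  let g₀ := Algebra.FormallySmooth.liftOfSurjective
    (AlgHom.id (ULift.{u} (ZMod p)) (ResidueField A)) π hsπ hnil
  let g : ResidueField A →ₐ[ℤ] A ⧸ RingHom.ker f₀.toRingHom ^ 2 :=
    RingHom.toIntAlgHom g₀.toRingHom
  have hg : f₀.kerSquareLift.comp g = AlgHom.id ℤ (ResidueField A) := by
    ext y
    exact Algebra.FormallySmooth.liftOfSurjective_apply
      (AlgHom.id (ULift.{u} (ZMod p)) (ResidueField A)) π hsπ hnil y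
  subst hf₀
  obtain ⟨l, hl⟩ := (retractionKerCotangentToTensorEquivSection (R := ℤ) hsurj).symm ⟨g, hg⟩
  exact Function.LeftInverse.injective (fun y => LinearMap.congr_fun hl y)

variable [IsNoetherianRing A]

/-- `K ⊗ Ω_{A/ℤ} → Ω_{K/ℤ}` is surjective with kernel of dimension `dim 𝔪/𝔪²`, as soon as the
conormal map is injective. -/
theorem isFred_mapBaseChange_residue_of_injective
    (hinj : Function.Injective (kerCotangentToTensor ℤ A (ResidueField A))) :
    IsFred (mapBaseChange ℤ A (ResidueField A))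
      (-(Module.finrank (ResidueField A) (CotangentSpace A) : ℤ)) := by
  have hsurj : Function.Surjective (algebraMap A (ResidueField A)) := residue_surjective
  have hIeq : RingHom.ker (algebraMap A (ResidueField A)) = maximalIdeal A := ker_residue
  have hle : maximalIdeal A ≤
      (RingHom.ker (algebraMap A (ResidueField A))).comap (AlgHom.id A A) := by
    rw [hIeq]
    exact le_rfl
  let mc := Ideal.mapCotangent (maximalIdeal A) (RingHom.ker (algebraMap A (ResidueField A)))
    (AlgHom.id A A) hle
  have hmc : ∀ x : maximalIdeal A, mc ((maximalIdeal A).toCotangent x) =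
      (RingHom.ker (algebraMap A (ResidueField A))).toCotangent ⟨x, hle x.2⟩ := fun x => rfl
  have hmcinj : Function.Injective mc := by
    rw [injective_iff_map_eq_zero]
    intro z hz
    obtain ⟨x, rfl⟩ := Ideal.toCotangent_surjective _ z
    rw [hmc, Ideal.toCotangent_eq_zero] at hz
    rw [Ideal.toCotangent_eq_zero]
    have hz' : (x : A) ∈ RingHom.ker (algebraMap A (ResidueField A)) ^ 2 := hz
    rw [hIeq] at hz'
    exact hz'
  let c₀ : CotangentSpace A →ₗ[A] ResidueField A ⊗[A] Ω[A⁄ℤ] :=
    (kerCotangentToTensor ℤ A (ResidueField A)) ∘ₗ mc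
  let c : CotangentSpace A →ₗ[ResidueField A] ResidueField A ⊗[A] Ω[A⁄ℤ] :=
    c₀.extendScalarsOfSurjective hsurj
  have hc : ∀ z, c z = kerCotangentToTensor ℤ A (ResidueField A) (mc z) := fun z => rfl
  have hcinj : Function.Injective c := fun z₁ z₂ hz => hmcinj (hinj hz)
  have hrange : LinearMap.range c = LinearMap.ker (mapBaseChange ℤ A (ResidueField A)) := by
    have hr := KaehlerDifferential.range_kerCotangentToTensor ℤ A (ResidueField A) hsurj
    ext y
    constructor
    · rintro ⟨z, rfl⟩
      have : kerCotangentToTensor ℤ A (ResidueField A) (mc z) ∈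
          LinearMap.range (kerCotangentToTensor ℤ A (ResidueField A)) := ⟨_, rfl⟩
      rw [hr] at this
      exact this
    · intro hy
      have : y ∈ (LinearMap.ker (mapBaseChange ℤ A (ResidueField A))).restrictScalars A := hy
      rw [← hr] at this
      obtain ⟨w, rfl⟩ := this
      obtain ⟨⟨a, ha⟩, rfl⟩ := Ideal.toCotangent_surjective _ w
      have ha' : a ∈ maximalIdeal A := hIeq ▸ ha
      exact ⟨(maximalIdeal A).toCotangent ⟨a, ha'⟩, rfl⟩
  haveI : Module.Finite (ResidueField A)
      (LinearMap.ker (mapBaseChange ℤ A (ResidueField A))) := by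
    rw [← hrange]
    exact Module.Finite.range c
  have hfr : Module.finrank (ResidueField A)
      (LinearMap.ker (mapBaseChange ℤ A (ResidueField A))) =
      Module.finrank (ResidueField A) (CotangentSpace A) := by
    rw [← hrange]
    exact LinearMap.finrank_range_of_inj hcinj
  have := IsFred.of_surjective (mapBaseChange_surjective ℤ A (ResidueField A) hsurj)
  rwa [hfr] at this

end Cot

section Poly

variable {A : Type u} [CommRing A] (r : ℕ) {L : Type u} [Field L] [Algebra A L]
  [Algebra (MvPolynomial (Fin r) A) L] [IsScalarTower A (MvPolynomial (Fin r) A) L]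

/-- The polynomial step `A → A[T_1..T_r]` has index `r` and is injective. -/
theorem isFred_mvPoly :
    Function.Injective ((mapBaseChange ℤ A (MvPolynomial (Fin r) A)).baseChange L) ∧
      IsFred ((mapBaseChange ℤ A (MvPolynomial (Fin r) A)).baseChange L) r := by
  classical
  have hex : Function.Exact (mapBaseChange ℤ A (MvPolynomial (Fin r) A))
      (KaehlerDifferential.map ℤ A (MvPolynomial (Fin r) A) (MvPolynomial (Fin r) A)) :=
    KaehlerDifferential.exact_mapBaseChange_map ℤ A (MvPolynomial (Fin r) A)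
  have hg : Function.Surjective
      (KaehlerDifferential.map ℤ A (MvPolynomial (Fin r) A) (MvPolynomial (Fin r) A)) :=
    KaehlerDifferential.map_surjective ℤ A (MvPolynomial (Fin r) A)
  have hb : Function.Injective (mapBaseChange ℤ A (MvPolynomial (Fin r) A)) := by
    rw [injective_iff_map_eq_zero]
    intro x hx
    obtain ⟨y, rfl⟩ :=
      (Algebra.H1Cotangent.exact_δ_mapBaseChange ℤ A (MvPolynomial (Fin r) A) x).mp hx
    rw [Subsingleton.elim y 0, map_zero]
  haveI : Module.Free (MvPolynomial (Fin r) A) Ω[MvPolynomial (Fin r) A⁄A] :=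
    Module.Free.of_basis (KaehlerDifferential.mvPolynomialBasis A (Fin r))
  obtain ⟨s, hs⟩ := Module.projective_lifting_property
    (KaehlerDifferential.map ℤ A (MvPolynomial (Fin r) A) (MvPolynomial (Fin r) A))
    (LinearMap.id : Ω[MvPolynomial (Fin r) A⁄A] →ₗ[MvPolynomial (Fin r) A]
      Ω[MvPolynomial (Fin r) A⁄A]) hg
  obtain ⟨-, ρ, hρ⟩ := (hex.split_tfae'.out 0 1 rfl rfl).1 ⟨hb, s, hs⟩
  have hj : Function.Injective ((mapBaseChange ℤ A (MvPolynomial (Fin r) A)).baseChange L) := by
    have h1 : (ρ.baseChange L) ∘ₗ ((mapBaseChange ℤ A (MvPolynomial (Fin r) A)).baseChange L) =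
        LinearMap.id := by
      rw [← LinearMap.baseChange_comp, hρ, LinearMap.baseChange_id]
    exact Function.LeftInverse.injective (g := ρ.baseChange L)
      (fun x => LinearMap.congr_fun h1 x)
  have hexL : Function.Exact ((mapBaseChange ℤ A (MvPolynomial (Fin r) A)).baseChange L)
      ((KaehlerDifferential.map ℤ A (MvPolynomial (Fin r) A)
        (MvPolynomial (Fin r) A)).baseChange L) := by
    rw [LinearMap.baseChange_eq_ltensor, LinearMap.baseChange_eq_ltensor]
    exact lTensor_exact L hex hg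
  have hgL : Function.Surjective ((KaehlerDifferential.map ℤ A (MvPolynomial (Fin r) A)
      (MvPolynomial (Fin r) A)).baseChange L) := by
    rw [LinearMap.baseChange_eq_ltensor]
    exact LinearMap.lTensor_surjective L hg
  let e₁ := hexL.linearEquivOfSurjective hgL
  let bL : Module.Basis (Fin r) L (L ⊗[MvPolynomial (Fin r) A] Ω[MvPolynomial (Fin r) A⁄A]) :=
    (KaehlerDifferential.mvPolynomialBasis A (Fin r)).baseChange L
  haveI : Module.Finite L (L ⊗[MvPolynomial (Fin r) A] Ω[MvPolynomial (Fin r) A⁄A]) :=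
    Module.Finite.of_basis bL
  have h := IsFred.of_injective hj e₁
  rw [Module.finrank_eq_card_basis bL, Fintype.card_fin] at h
  exact ⟨hj, h⟩

end Poly

section Quot

variable {P B : Type u} [CommRing P] [CommRing B] [Algebra P B] {L : Type u} [Field L]
  [Algebra B L] [Algebra P L] [IsScalarTower P B L]

/-- The quotient step `P → B = P/(F_i)`: surjective, with kernel spanned by the `1 ⊗ dF_i`. -/
theorem isFred_quot (hs : Function.Surjective (algebraMap P B)) {ι : Type*} [Finite ι]
    (F : ι → P) (hF : RingHom.ker (algebraMap P B) = Ideal.span (Set.range F)) :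
    IsFred ((mapBaseChange ℤ P B).baseChange L)
      (-(Module.finrank L (Submodule.span L (Set.range fun i =>
        (1 : L) ⊗ₜ[B] ((1 : B) ⊗ₜ[P] D ℤ P (F i)))) : ℤ)) := by
  classical
  have hgs : Function.Surjective (mapBaseChange ℤ P B) := mapBaseChange_surjective ℤ P B hs
  have hgL : Function.Surjective ((mapBaseChange ℤ P B).baseChange L) := by
    rw [LinearMap.baseChange_eq_ltensor]
    exact LinearMap.lTensor_surjective _ hgs
  obtain ⟨S, hS⟩ : ∃ S : Submodule L (L ⊗[B] (B ⊗[P] Ω[P⁄ℤ])), S = Submodule.span L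
      (Set.range fun i => (1 : L) ⊗ₜ[B] ((1 : B) ⊗ₜ[P] D ℤ P (F i))) := ⟨_, rfl⟩
  have hltm : ∀ (l : L) (y : B ⊗[P] Ω[P⁄ℤ]), l ⊗ₜ[B] y = l • ((1 : L) ⊗ₜ[B] y) := by
    intro l y
    rw [smul_tmul', smul_eq_mul, mul_one]
  have hF0 : ∀ i, algebraMap P B (F i) = 0 := by
    intro i
    have : F i ∈ RingHom.ker (algebraMap P B) := by
      rw [hF]
      exact Ideal.subset_span ⟨i, rfl⟩
    exact this
  -- key: elements of the ideal
  have key : ∀ G ∈ Ideal.span (Set.range F), algebraMap P B G = 0 ∧
      ∀ l : L, l ⊗ₜ[B] ((1 : B) ⊗ₜ[P] D ℤ P G) ∈ S := by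
    intro G hG
    induction hG using Submodule.span_induction with
    | mem x hx =>
      obtain ⟨i, rfl⟩ := hx
      refine ⟨hF0 i, fun l => ?_⟩
      rw [hltm, hS]
      exact Submodule.smul_mem _ _ (Submodule.subset_span ⟨i, rfl⟩)
    | zero =>
      refine ⟨map_zero _, fun l => ?_⟩
      rw [map_zero, tmul_zero, tmul_zero]
      exact S.zero_mem
    | add x y _ _ hx hy =>
      refine ⟨by rw [map_add, hx.1, hy.1, add_zero], fun l => ?_⟩
      rw [map_add, tmul_add, tmul_add]
      exact S.add_mem (hx.2 l) (hy.2 l)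
    | smul h x _ hx =>
      refine ⟨by rw [smul_eq_mul, map_mul, hx.1, mul_zero], fun l => ?_⟩
      have h1 : D ℤ P (h • x) = h • D ℤ P x + x • D ℤ P h := by
        rw [smul_eq_mul, Derivation.leibniz]
      have h2 : ∀ (c : P) (ω : Ω[P⁄ℤ]), l ⊗ₜ[B] ((1 : B) ⊗ₜ[P] (c • ω)) =
          (algebraMap B L (algebraMap P B c) * l) ⊗ₜ[B] ((1 : B) ⊗ₜ[P] ω) := by
        intro c ω
        rw [tmul_smul, ← algebraMap_smul B c ((1 : B) ⊗ₜ[P] ω), ← smul_tmul,
          Algebra.smul_def]
      rw [h1, tmul_add, tmul_add, h2, h2, hx.1, map_zero, zero_mul, zero_tmul, add_zero]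
      exact hx.2 _
  have hker : LinearMap.ker ((mapBaseChange ℤ P B).baseChange L) = S := by
    apply le_antisymm
    · have hex : Function.Exact (LinearMap.ker (mapBaseChange ℤ P B)).subtype
          (mapBaseChange ℤ P B) := LinearMap.exact_subtype_ker_map _
      have hexL := lTensor_exact L hex hgs
      intro x hx
      rw [LinearMap.mem_ker, LinearMap.baseChange_eq_ltensor] at hx
      obtain ⟨y, rfl⟩ := (hexL x).1 hx
      clear hx
      induction y using TensorProduct.induction_on with
      | zero =>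
        rw [map_zero]
        exact S.zero_mem
      | add a b ha hb =>
        rw [map_add]
        exact S.add_mem ha hb
      | tmul l z =>
        obtain ⟨z, hz⟩ := z
        have hz' : z ∈ (LinearMap.ker (mapBaseChange ℤ P B)).restrictScalars P := hz
        rw [← KaehlerDifferential.range_kerCotangentToTensor ℤ P B hs] at hz'
        obtain ⟨c, rfl⟩ := hz'
        obtain ⟨⟨G, hG⟩, rfl⟩ := Ideal.toCotangent_surjective _ c
        rw [LinearMap.lTensor_tmul]
        show l ⊗ₜ[B] (kerCotangentToTensor ℤ P B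
          ((RingHom.ker (algebraMap P B)).toCotangent ⟨G, hG⟩)) ∈ S
        rw [kerCotangentToTensor_toCotangent]
        rw [hF] at hG
        exact (key G hG).2 l
    · rw [hS, Submodule.span_le]
      rintro _ ⟨i, rfl⟩
      rw [SetLike.mem_coe, LinearMap.mem_ker, LinearMap.baseChange_tmul, mapBaseChange_tmul,
        one_smul, map_D, hF0 i, map_zero, tmul_zero]
  haveI : Module.Finite L (LinearMap.ker ((mapBaseChange ℤ P B).baseChange L)) := by
    rw [hker, hS]
    exact Module.Finite.span_of_finite L (Set.finite_range _)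
  have hfr : Module.finrank L (LinearMap.ker ((mapBaseChange ℤ P B).baseChange L)) =
      Module.finrank L S := by
    rw [hker]
  have := IsFred.of_surjective hgL
  rw [hfr, hS] at this
  exact this

end Quot

end Groth.Agent.Lib.PRootCotH3
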