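import Mathlib
import Groth.Agent.Lib.PRootCot1_helper3

/-!
# Adjoining `p`-th roots to a local ring: locality and the cotangent space (EGA 0_IV 22.5.3)
(helper3)
-/

set_option autoImplicit false
set_option maxSynthPendingDepth 3

namespace Groth.Agent.Lib.PRootCotH3

universe u

open TensorProduct KaehlerDifferential IsLocalRing Groth.Agent.Lib.FredholmH3
  Groth.Agent.Lib.CartierH3 Groth.Agent.Lib.ComplKaehlerH3 MvPolynomial Algebra

section Local

variable {A : Type u} [CommRing A] {r : ℕ}

/-- integrality of a quotient of a polynomial ring from integrality of the variables -/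
theorem isIntegral_quotient (I : Ideal (MvPolynomial (Fin r) A))
    (h : ∀ i, IsIntegral A (Ideal.Quotient.mk I (X i))) :
    Algebra.IsIntegral A (MvPolynomial (Fin r) A ⧸ I) := by
  refine ⟨fun b => ?_⟩
  obtain ⟨g, rfl⟩ := Ideal.Quotient.mk_surjective b
  induction g using MvPolynomial.induction_on with
  | C a =>
    have : Ideal.Quotient.mk I (C a) = algebraMap A (MvPolynomial (Fin r) A ⧸ I) a := rfl
    rw [this]
    exact isIntegral_algebraMap
  | add g h hg hh =>
    rw [map_add]
    exact hg.add hh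
  | mul_X g i hg =>
    rw [map_mul]
    exact hg.mul (h i)

variable [IsLocalRing A] (p : ℕ) [hpp : Fact p.Prime]

theorem isLocalRing_quotient (hpm : (p : A) ∈ maximalIdeal A) (f : Fin r → A)
    (G F : Fin r → MvPolynomial (Fin r) A)
    (hF : ∀ i, F i = X i ^ p + (p : MvPolynomial (Fin r) A) * G i - C (f i))
    [Algebra.IsIntegral A (MvPolynomial (Fin r) A ⧸ Ideal.span (Set.range F))] :
    IsLocalRing (MvPolynomial (Fin r) A ⧸ Ideal.span (Set.range F)) ∧
      IsLocalHom (algebraMap A (MvPolynomial (Fin r) A ⧸ Ideal.span (Set.range F))) := by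
  classical
  obtain ⟨I, hI⟩ : ∃ I : Ideal (MvPolynomial (Fin r) A), I = Ideal.span (Set.range F) := ⟨_, rfl⟩
  rw [← hI]
  haveI : Algebra.IsIntegral A (MvPolynomial (Fin r) A ⧸ I) := by
    rw [hI]
    infer_instance
  have hpK : ((p : ℕ) : ResidueField A) = 0 := by
    rw [← map_natCast (residue A)]
    exact (residue_eq_zero_iff _).2 hpm
  have hpKb : ((p : ℕ) : AlgebraicClosure (ResidueField A)) = 0 := by
    rw [← map_natCast (algebraMap (ResidueField A) (AlgebraicClosure (ResidueField A))), hpK,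
      map_zero]
  choose t ht using fun i : Fin r => IsAlgClosed.exists_pow_nat_eq
    (algebraMap (ResidueField A) (AlgebraicClosure (ResidueField A)) (residue A (f i)))
    hpp.out.pos
  let φ : A →+* AlgebraicClosure (ResidueField A) :=
    (algebraMap (ResidueField A) (AlgebraicClosure (ResidueField A))).comp (residue A)
  have hφm : ∀ a ∈ maximalIdeal A, φ a = 0 := by
    intro a ha
    show algebraMap (ResidueField A) (AlgebraicClosure (ResidueField A)) (residue A a) = 0
    rw [(residue_eq_zero_iff a).2 ha, map_zero]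
  let ψ₀ : MvPolynomial (Fin r) A →+* AlgebraicClosure (ResidueField A) :=
    MvPolynomial.eval₂Hom φ t
  have hψ₀X : ∀ i, ψ₀ (X i) = t i := fun i => MvPolynomial.eval₂_X _ _ _
  have hψ₀C : ∀ a, ψ₀ (C a) = φ a := fun a => MvPolynomial.eval₂_C _ _ _
  have hψ₀F : ∀ i, ψ₀ (F i) = 0 := by
    intro i
    rw [hF, map_sub, map_add, map_mul, map_pow, map_natCast, hpKb, zero_mul, add_zero, hψ₀X,
      hψ₀C, ht i]
    exact sub_self _
  have hIle : I ≤ RingHom.ker ψ₀ := by
    rw [hI, Ideal.span_le]
    rintro _ ⟨i, rfl⟩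
    exact hψ₀F i
  let ψ : (MvPolynomial (Fin r) A ⧸ I) →+* AlgebraicClosure (ResidueField A) :=
    Ideal.Quotient.lift I ψ₀ (fun g hg => hIle hg)
  have hψmk : ∀ g, ψ (Ideal.Quotient.mk I g) = ψ₀ g := fun g => Ideal.Quotient.lift_mk _ _ _
  have halg : ∀ a : A, algebraMap A (MvPolynomial (Fin r) A ⧸ I) a =
      Ideal.Quotient.mk I (C a) := fun a => rfl
  have hψA : ∀ a : A, ψ (algebraMap A (MvPolynomial (Fin r) A ⧸ I) a) = φ a := by
    intro a
    rw [halg, hψmk, hψ₀C]
  have hmker : (maximalIdeal A).map (algebraMap A (MvPolynomial (Fin r) A ⧸ I)) ≤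
      RingHom.ker ψ := by
    rw [Ideal.map_le_iff_le_comap]
    intro x hx
    rw [Ideal.mem_comap, RingHom.mem_ker, hψA]
    exact hφm x hx
  -- `𝔪 B` is contained in the Jacobson radical
  have hjac : (maximalIdeal A).map (algebraMap A (MvPolynomial (Fin r) A ⧸ I)) ≤
      Ideal.jacobson ⊥ := by
    rw [Ideal.jacobson, le_sInf_iff]
    rintro J ⟨-, hJ⟩
    rw [Ideal.map_le_iff_le_comap]
    haveI := hJ
    have hmax : (J.comap (algebraMap A (MvPolynomial (Fin r) A ⧸ I))).IsMaximal :=
      Ideal.isMaximal_comap_of_isIntegral_of_isMaximal J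
    exact (IsLocalRing.eq_maximalIdeal hmax).ge
  have hpB : ((p : ℕ) : MvPolynomial (Fin r) A ⧸ I) ∈
      (maximalIdeal A).map (algebraMap A (MvPolynomial (Fin r) A ⧸ I)) := by
    rw [← map_natCast (algebraMap A (MvPolynomial (Fin r) A ⧸ I))]
    exact Ideal.mem_map_of_mem _ hpm
  have hXp : ∀ i, (Ideal.Quotient.mk I (X i)) ^ p -
      algebraMap A (MvPolynomial (Fin r) A ⧸ I) (f i) ∈
      (maximalIdeal A).map (algebraMap A (MvPolynomial (Fin r) A ⧸ I)) := by
    intro i
    have h0 : Ideal.Quotient.mk I (F i) = 0 := by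
      rw [Ideal.Quotient.eq_zero_iff_mem, hI]
      exact Ideal.subset_span ⟨i, rfl⟩
    rw [hF, map_sub, map_add, map_mul, map_pow, map_natCast, ← halg] at h0
    have h1 : (Ideal.Quotient.mk I (X i)) ^ p -
        algebraMap A (MvPolynomial (Fin r) A ⧸ I) (f i) =
        -(((p : ℕ) : MvPolynomial (Fin r) A ⧸ I) * Ideal.Quotient.mk I (G i)) := by
      linear_combination h0
    rw [h1]
    exact neg_mem (Ideal.mul_mem_right _ _ hpB)
  -- every element has a `p`-th power in `A` modulo `𝔪 B`
  have hpow : ∀ b : MvPolynomial (Fin r) A ⧸ I, ∃ a : A,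
      b ^ p - algebraMap A (MvPolynomial (Fin r) A ⧸ I) a ∈
        (maximalIdeal A).map (algebraMap A (MvPolynomial (Fin r) A ⧸ I)) := by
    intro b
    obtain ⟨g, rfl⟩ := Ideal.Quotient.mk_surjective b
    induction g using MvPolynomial.induction_on with
    | C a =>
      refine ⟨a ^ p, ?_⟩
      rw [← halg, map_pow, sub_self]
      exact zero_mem _
    | add g h hg hh =>
      obtain ⟨a, ha⟩ := hg
      obtain ⟨a', ha'⟩ := hh
      refine ⟨a + a', ?_⟩
      obtain ⟨c, hc⟩ := exists_add_pow_prime_eq hpp.out (Ideal.Quotient.mk I g)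
        (Ideal.Quotient.mk I h)
      have h1 : (Ideal.Quotient.mk I (g + h)) ^ p -
          algebraMap A (MvPolynomial (Fin r) A ⧸ I) (a + a') =
          ((Ideal.Quotient.mk I g) ^ p - algebraMap A (MvPolynomial (Fin r) A ⧸ I) a) +
          ((Ideal.Quotient.mk I h) ^ p - algebraMap A (MvPolynomial (Fin r) A ⧸ I) a') +
          ((p : ℕ) : MvPolynomial (Fin r) A ⧸ I) *
            (Ideal.Quotient.mk I g * Ideal.Quotient.mk I h * c) := by
        rw [map_add, map_add, hc]
        ring
      rw [h1]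
      exact add_mem (add_mem ha ha') (Ideal.mul_mem_right _ _ hpB)
    | mul_X g i hg =>
      obtain ⟨a, ha⟩ := hg
      refine ⟨a * f i, ?_⟩
      have h1 : (Ideal.Quotient.mk I (g * X i)) ^ p -
          algebraMap A (MvPolynomial (Fin r) A ⧸ I) (a * f i) =
          ((Ideal.Quotient.mk I g) ^ p - algebraMap A (MvPolynomial (Fin r) A ⧸ I) a) *
            (Ideal.Quotient.mk I (X i)) ^ p +
          algebraMap A (MvPolynomial (Fin r) A ⧸ I) a *
            ((Ideal.Quotient.mk I (X i)) ^ p -
              algebraMap A (MvPolynomial (Fin r) A ⧸ I) (f i)) := by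
        rw [map_mul, map_mul]
        ring
      rw [h1]
      exact add_mem (Ideal.mul_mem_right _ _ ha) (Ideal.mul_mem_left _ _ (hXp i))
  -- units
  have hunit : ∀ b : MvPolynomial (Fin r) A ⧸ I, ψ b ≠ 0 → IsUnit b := by
    intro b hb
    obtain ⟨a, ha⟩ := hpow b
    have hψa : ψ (b ^ p - algebraMap A (MvPolynomial (Fin r) A ⧸ I) a) = 0 := hmker ha
    have haunit : IsUnit a := by
      by_contra hna
      have ham : a ∈ maximalIdeal A := hna
      rw [map_sub, map_pow, hψA, hφm a ham, sub_zero] at hψa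
      exact hb ((pow_eq_zero_iff hpp.out.ne_zero).1 hψa)
    have h1 : IsUnit (b ^ p) := by
      obtain ⟨u, hu⟩ := haunit.map (algebraMap A (MvPolynomial (Fin r) A ⧸ I))
      have hm := hjac ha
      have h2 : b ^ p * ↑u⁻¹ - 1 ∈ Ideal.jacobson (⊥ : Ideal (MvPolynomial (Fin r) A ⧸ I)) := by
        have : b ^ p * ↑u⁻¹ - 1 =
            (b ^ p - algebraMap A (MvPolynomial (Fin r) A ⧸ I) a) * ↑u⁻¹ := by
          rw [sub_mul, ← hu, Units.mul_inv]
        rw [this]
        exact Ideal.mul_mem_right _ _ hm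
      have h3 := Ideal.isUnit_of_sub_one_mem_jacobson_bot _ h2
      exact isUnit_of_mul_isUnit_left h3
    exact (isUnit_pow_iff hpp.out.ne_zero).1 h1
  constructor
  · haveI : Nontrivial (MvPolynomial (Fin r) A ⧸ I) := ψ.domain_nontrivial
    refine IsLocalRing.of_isUnit_or_isUnit_one_sub_self (fun b => ?_)
    by_cases hb : ψ b = 0
    · right
      apply hunit
      rw [map_sub, map_one, hb, sub_zero]
      exact one_ne_zero
    · left
      exact hunit b hb
  · constructor
    intro a ha
    by_contra hna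
    have ham : a ∈ maximalIdeal A := hna
    have h0 : ψ (algebraMap A (MvPolynomial (Fin r) A ⧸ I) a) = 0 := by
      rw [hψA]
      exact hφm a ham
    exact (ha.map ψ).ne_zero h0

end Local

end Groth.Agent.Lib.PRootCotH3
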