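import Mathlib
import Groth.Agent.Lib.PRootCot2_helper3

/-!
# Adjoining `p`-th roots to a local ring: the cotangent space (EGA 0_IV 22.5.3) (helper3)
-/

set_option autoImplicit false
set_option maxSynthPendingDepth 3

namespace Groth.Agent.Lib.PRootCotH3

universe u

open TensorProduct KaehlerDifferential IsLocalRing Groth.Agent.Lib.FredholmH3
  Groth.Agent.Lib.CartierH3 Groth.Agent.Lib.ComplKaehlerH3 MvPolynomial Algebra

section Main

variable {A : Type u} [CommRing A] [IsLocalRing A] [IsNoetherianRing A] (p : ℕ)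
  [hpp : Fact p.Prime] {r : ℕ} {B : Type u} [CommRing B] [Algebra (MvPolynomial (Fin r) A) B]
  [Algebra A B] [IsScalarTower A (MvPolynomial (Fin r) A) B] [IsLocalRing B] [IsNoetherianRing B]
  [IsLocalHom (algebraMap A B)] [Module.Finite A B]

theorem finrank_cotangentSpace_eq_iff_aux (hp : (p : A) ∈ maximalIdeal A ^ 2) (f : Fin r → A)
    (G F : Fin r → MvPolynomial (Fin r) A)
    (hF : ∀ i, F i = X i ^ p + (p : MvPolynomial (Fin r) A) * G i - C (f i))
    (hs : Function.Surjective (algebraMap (MvPolynomial (Fin r) A) B))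
    (hker : RingHom.ker (algebraMap (MvPolynomial (Fin r) A) B) = Ideal.span (Set.range F)) :
    Module.finrank (ResidueField A) (CotangentSpace A) =
        Module.finrank (ResidueField B) (CotangentSpace B) ↔
      LinearIndependent (ResidueField A)
        (fun i => (1 : ResidueField A) ⊗ₜ[A] D ℤ A (f i)) := by
  classical
  haveI : IsScalarTower A (MvPolynomial (Fin r) A) (ResidueField B) :=
    IsScalarTower.of_algebraMap_eq (fun a => by
      rw [IsScalarTower.algebraMap_apply A B (ResidueField B),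
        IsScalarTower.algebraMap_apply (MvPolynomial (Fin r) A) B (ResidueField B),
        ← IsScalarTower.algebraMap_apply A (MvPolynomial (Fin r) A) B])
  -- conormal injectivity
  have hinjA := kerCotangentToTensor_injective_of_mem_sq (A := A) p hp
  have hmap : (maximalIdeal A).map (algebraMap A B) ≤ maximalIdeal B :=
    ((local_hom_TFAE (algebraMap A B)).out 0 2 rfl rfl).mp inferInstance
  have hpB : ((p : ℕ) : B) ∈ maximalIdeal B ^ 2 := by
    have h1 : algebraMap A B ((p : ℕ) : A) ∈ (maximalIdeal A ^ 2).map (algebraMap A B) :=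
      Ideal.mem_map_of_mem _ hp
    rw [Ideal.map_pow, map_natCast] at h1
    exact Ideal.pow_right_mono hmap 2 h1
  have hpK' : ((p : ℕ) : ResidueField B) = 0 := by
    rw [← map_natCast (residue B)]
    exact (residue_eq_zero_iff _).2 (Ideal.pow_le_self two_ne_zero hpB)
  have hinjB := kerCotangentToTensor_injective_of_mem_sq (A := B) p hpB
  have hA := isFred_mapBaseChange_residue_of_injective hinjA
  have hB := isFred_mapBaseChange_residue_of_injective hinjB
  -- Cartier for the finite extension of residue fields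
  obtain ⟨d, hd, hC⟩ := cartierProp_of_essFiniteType (K := ResidueField A) (L := ResidueField B)
  have hd0 : d = 0 := by
    haveI : Algebra.IsAlgebraic (ResidueField A) (ResidueField B) :=
      Algebra.IsAlgebraic.of_finite (ResidueField A) (ResidueField B)
    rw [trdeg_eq_zero] at hd
    exact_mod_cast hd.symm
  subst hd0
  have hAK' := isFred_tower ℤ (A := A) (B := ResidueField A) (L := ResidueField B)
    (hA.baseChange (L := ResidueField B)) hC
  obtain ⟨hjP, hP⟩ := isFred_mvPoly (A := A) r (L := ResidueField B)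
  have hQ := isFred_quot (P := MvPolynomial (Fin r) A) (B := B) (L := ResidueField B) hs F hker
  have hPK' := isFred_tower ℤ (A := MvPolynomial (Fin r) A) (B := B) (L := ResidueField B) hQ hB
  have hAK'2 := isFred_tower ℤ (A := A) (B := MvPolynomial (Fin r) A) (L := ResidueField B)
    hP hPK'
  have heq := IsFred.index_unique hAK' hAK'2
  -- the vectors
  obtain ⟨v, hv⟩ : ∃ v : Fin r → ResidueField B ⊗[B] (B ⊗[MvPolynomial (Fin r) A]
      Ω[MvPolynomial (Fin r) A⁄ℤ]), v = fun i => (1 : ResidueField B) ⊗ₜ[B]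
        ((1 : B) ⊗ₜ[MvPolynomial (Fin r) A] D ℤ (MvPolynomial (Fin r) A) (F i)) := ⟨_, rfl⟩
  replace heq : -(Module.finrank (ResidueField A) (CotangentSpace A) : ℤ) + ((0 : ℕ) : ℤ) =
      (r : ℤ) + (-(Module.finrank (ResidueField B)
        (Submodule.span (ResidueField B) (Set.range v)) : ℤ) +
        -(Module.finrank (ResidueField B) (CotangentSpace B) : ℤ)) := by
    rw [hv]
    exact heq
  have hli : LinearIndependent (ResidueField B) v ↔
      Module.finrank (ResidueField A) (CotangentSpace A) =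
        Module.finrank (ResidueField B) (CotangentSpace B) := by
    rw [linearIndependent_iff_card_eq_finrank_span, Fintype.card_fin, Set.finrank]
    constructor
    · intro h
      rw [← h] at heq
      omega
    · intro h
      rw [h] at heq
      omega
  rw [← hli]
  -- the comparison map
  let c₁ := AlgebraTensorModule.cancelBaseChange A (ResidueField A) (ResidueField B)
    (ResidueField B) Ω[A⁄ℤ]
  let c₂ := AlgebraTensorModule.cancelBaseChange A (MvPolynomial (Fin r) A) (ResidueField B)
    (ResidueField B) Ω[A⁄ℤ]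
  let c₃ := AlgebraTensorModule.cancelBaseChange (MvPolynomial (Fin r) A) B (ResidueField B)
    (ResidueField B) Ω[MvPolynomial (Fin r) A⁄ℤ]
  let Θ : ResidueField B ⊗[ResidueField A] (ResidueField A ⊗[A] Ω[A⁄ℤ]) →ₗ[ResidueField B]
      ResidueField B ⊗[B] (B ⊗[MvPolynomial (Fin r) A] Ω[MvPolynomial (Fin r) A⁄ℤ]) :=
    -((c₃.symm.toLinearMap ∘ₗ
      ((mapBaseChange ℤ A (MvPolynomial (Fin r) A)).baseChange (ResidueField B))) ∘ₗ
      (c₂.symm.toLinearMap ∘ₗ c₁.toLinearMap))
  have hΘinj : Function.Injective Θ := by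
    intro x y hxy
    have h1 : c₃.symm (((mapBaseChange ℤ A (MvPolynomial (Fin r) A)).baseChange (ResidueField B))
        (c₂.symm (c₁ x))) = c₃.symm (((mapBaseChange ℤ A
          (MvPolynomial (Fin r) A)).baseChange (ResidueField B)) (c₂.symm (c₁ y))) :=
      neg_injective hxy
    exact c₁.injective (c₂.symm.injective (hjP (c₃.symm.injective h1)))
  have hkill : ∀ ω : Ω[MvPolynomial (Fin r) A⁄ℤ], (1 : ResidueField B) ⊗ₜ[B]
      ((1 : B) ⊗ₜ[MvPolynomial (Fin r) A] (((p : ℕ) : MvPolynomial (Fin r) A) • ω)) = 0 := by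
    intro ω
    rw [tmul_smul, ← algebraMap_smul B ((p : ℕ) : MvPolynomial (Fin r) A)
      ((1 : B) ⊗ₜ[MvPolynomial (Fin r) A] ω), ← smul_tmul, Algebra.smul_def, map_natCast,
      map_natCast, hpK', zero_mul, zero_tmul]
  have hΘw : ∀ i, Θ ((1 : ResidueField B) ⊗ₜ[ResidueField A]
      ((1 : ResidueField A) ⊗ₜ[A] D ℤ A (f i))) = v i := by
    intro i
    have h1 : c₁ ((1 : ResidueField B) ⊗ₜ[ResidueField A]
        ((1 : ResidueField A) ⊗ₜ[A] D ℤ A (f i))) = (1 : ResidueField B) ⊗ₜ[A] D ℤ A (f i) := by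
      rw [AlgebraTensorModule.cancelBaseChange_tmul, one_smul]
    have h2 : c₂.symm ((1 : ResidueField B) ⊗ₜ[A] D ℤ A (f i)) =
        (1 : ResidueField B) ⊗ₜ[MvPolynomial (Fin r) A]
          ((1 : MvPolynomial (Fin r) A) ⊗ₜ[A] D ℤ A (f i)) :=
      AlgebraTensorModule.cancelBaseChange_symm_tmul _ _ _ _ _
    have h3 : ((mapBaseChange ℤ A (MvPolynomial (Fin r) A)).baseChange (ResidueField B))
        ((1 : ResidueField B) ⊗ₜ[MvPolynomial (Fin r) A]
          ((1 : MvPolynomial (Fin r) A) ⊗ₜ[A] D ℤ A (f i))) =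
        (1 : ResidueField B) ⊗ₜ[MvPolynomial (Fin r) A]
          D ℤ (MvPolynomial (Fin r) A) (C (f i)) := by
      rw [LinearMap.baseChange_tmul, mapBaseChange_tmul, one_smul, map_D,
        MvPolynomial.algebraMap_eq]
    have h4 : c₃.symm ((1 : ResidueField B) ⊗ₜ[MvPolynomial (Fin r) A]
          D ℤ (MvPolynomial (Fin r) A) (C (f i))) =
        (1 : ResidueField B) ⊗ₜ[B] ((1 : B) ⊗ₜ[MvPolynomial (Fin r) A]
          D ℤ (MvPolynomial (Fin r) A) (C (f i))) :=
      AlgebraTensorModule.cancelBaseChange_symm_tmul _ _ _ _ _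
    have h5 : Θ ((1 : ResidueField B) ⊗ₜ[ResidueField A]
        ((1 : ResidueField A) ⊗ₜ[A] D ℤ A (f i))) =
        -(c₃.symm (((mapBaseChange ℤ A (MvPolynomial (Fin r) A)).baseChange (ResidueField B))
        (c₂.symm (c₁ ((1 : ResidueField B) ⊗ₜ[ResidueField A]
          ((1 : ResidueField A) ⊗ₜ[A] D ℤ A (f i))))))) := rfl
    rw [h5, h1, h2, h3, h4, hv]
    have h6 : D ℤ (MvPolynomial (Fin r) A) (F i) =
        ((p : ℕ) : MvPolynomial (Fin r) A) • ((X i : MvPolynomial (Fin r) A) ^ (p - 1) •
          D ℤ (MvPolynomial (Fin r) A) (X i) + D ℤ (MvPolynomial (Fin r) A) (G i)) -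
        D ℤ (MvPolynomial (Fin r) A) (C (f i)) := by
      rw [hF, map_sub, map_add, Derivation.leibniz_pow, Derivation.leibniz,
        Derivation.map_natCast, smul_zero, add_zero, smul_add,
        ← Nat.cast_smul_eq_nsmul (MvPolynomial (Fin r) A)]
    show _ = (1 : ResidueField B) ⊗ₜ[B] ((1 : B) ⊗ₜ[MvPolynomial (Fin r) A]
      D ℤ (MvPolynomial (Fin r) A) (F i))
    rw [h6, tmul_sub, tmul_sub, hkill, zero_sub]
  have hvΘ : v = Θ ∘ fun i => (1 : ResidueField B) ⊗ₜ[ResidueField A]
      ((1 : ResidueField A) ⊗ₜ[A] D ℤ A (f i)) := by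
    funext i
    exact (hΘw i).symm
  constructor
  · intro h
    rw [hvΘ] at h
    have h1 := LinearIndependent.of_comp Θ h
    have h2 : LinearIndependent (ResidueField A) (fun i => (1 : ResidueField B)
        ⊗ₜ[ResidueField A] ((1 : ResidueField A) ⊗ₜ[A] D ℤ A (f i))) :=
      LinearIndependent.restrict_scalars' (ResidueField A) h1
    exact LinearIndependent.of_comp
      (TensorProduct.mk (ResidueField A) (ResidueField B) (ResidueField A ⊗[A] Ω[A⁄ℤ]) 1) h2
  · intro h
    rw [hvΘ]
    exact (Module.Flat.linearIndependent_one_tmul (S := ResidueField B) h).map' Θ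
      (LinearMap.ker_eq_bot.2 hΘinj)

end Main

end Groth.Agent.Lib.PRootCotH3
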