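import Mathlib

/-!
# A finite free faithfully flat algebra splitting a monic polynomial (helper3)
-/

set_option autoImplicit false
set_option maxSynthPendingDepth 3
universe u

namespace Groth.Agent.Lib.SplitAlgH3

open Polynomial

theorem faithfullyFlat_adjoinRoot {R : Type u} [CommRing R] (f : R[X]) (hf : f.Monic)
    (hd : f.natDegree ≠ 0) : Module.FaithfullyFlat R (AdjoinRoot f) := by
  haveI : Nonempty (Fin f.natDegree) := ⟨⟨0, Nat.pos_of_ne_zero hd⟩⟩
  exact Module.FaithfullyFlat.of_linearEquiv R (Fin f.natDegree →₀ R)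
    (AdjoinRoot.powerBasis' hf).basis.repr

theorem exists_splitting (n : ℕ) : ∀ (R : Type u) [CommRing R] (f : R[X]), f.Monic →
    f.natDegree = n →
    ∃ (S' : Type u) (_ : CommRing S') (_ : Algebra R S'), Module.Finite R S' ∧ Module.Free R S' ∧
      Module.FaithfullyFlat R S' ∧
      ∃ x : Fin n → S', f.map (algebraMap R S') = ∏ i, (X - C (x i)) := by
  induction n with
  | zero =>
    intro R _ f hf hn
    refine ⟨R, inferInstance, inferInstance, inferInstance, inferInstance, inferInstance,
      fun i => i.elim0, ?_⟩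
    rw [Finset.univ_eq_empty, Finset.prod_empty, Algebra.algebraMap_self, Polynomial.map_id]
    exact hf.natDegree_eq_zero.mp hn
  | succ n ih =>
    intro R _ f hf hn
    have hd : f.natDegree ≠ 0 := by omega
    haveI := hf.finite_adjoinRoot
    haveI := hf.free_adjoinRoot
    haveI := faithfullyFlat_adjoinRoot f hf hd
    haveI : Nontrivial R := by
      by_contra h
      rw [not_nontrivial_iff_subsingleton] at h
      have : f = 0 := Subsingleton.elim _ _
      rw [this, natDegree_zero] at hn
      omega
    haveI : Nontrivial (AdjoinRoot f) :=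
      (FaithfulSMul.algebraMap_injective R (AdjoinRoot f)).nontrivial
    set r : AdjoinRoot f := AdjoinRoot.root f with hr
    have hroot : (f.map (AdjoinRoot.of f)).IsRoot r := by
      rw [IsRoot.def, eval_map]; exact AdjoinRoot.eval₂_root f
    have hfac : (X - C r) * (f.map (AdjoinRoot.of f) /ₘ (X - C r)) = f.map (AdjoinRoot.of f) :=
      mul_divByMonic_eq_iff_isRoot.mpr hroot
    have hmonic : (f.map (AdjoinRoot.of f) /ₘ (X - C r)).Monic := by
      refine Monic.of_mul_monic_left (monic_X_sub_C r) ?_
      rw [hfac]; exact hf.map _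
    have hdeg : (f.map (AdjoinRoot.of f) /ₘ (X - C r)).natDegree = n := by
      rw [natDegree_divByMonic _ (monic_X_sub_C r), natDegree_X_sub_C, hf.natDegree_map, hn]
      rfl
    obtain ⟨S'', _, _, hfin, hfree, hff, x', hx'⟩ := ih (AdjoinRoot f) _ hmonic hdeg
    letI : Algebra R S'' := ((algebraMap (AdjoinRoot f) S'').comp (algebraMap R (AdjoinRoot f))).toAlgebra
    haveI : IsScalarTower R (AdjoinRoot f) S'' := IsScalarTower.of_algebraMap_eq (fun _ => rfl)
    refine ⟨S'', inferInstance, inferInstance, Module.Finite.trans (AdjoinRoot f) S'',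
      Module.Free.trans (S := AdjoinRoot f), Module.FaithfullyFlat.trans R (AdjoinRoot f) S'',
      Fin.cons (algebraMap (AdjoinRoot f) S'' r) x', ?_⟩
    rw [Fin.prod_univ_succ]
    simp only [Fin.cons_zero, Fin.cons_succ]
    rw [← hx', IsScalarTower.algebraMap_eq R (AdjoinRoot f) S'', ← Polynomial.map_map]
    conv_lhs => rw [show algebraMap R (AdjoinRoot f) = AdjoinRoot.of f from rfl, ← hfac]
    rw [Polynomial.map_mul, Polynomial.map_sub, map_X, map_C]

end Groth.Agent.Lib.SplitAlgH3
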