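import Mathlib

/-!
# Kernels of maps from a standard étale algebra to fields (helper3)

Two `R`-algebra maps `P.Ring → K₁`, `P.Ring → K₂` to field extensions of a common field `k`,
sending `X` to elements with the same minimal polynomial over `k`, have the same kernel; and if
`P.f` splits in `K₂` such a root exists.
-/

set_option autoImplicit false
set_option maxSynthPendingDepth 3
universe u v w

namespace Groth.Agent.Lib.StdEtaleKerH3

open Polynomial

variable {R : Type u} [CommRing R] (P : StandardEtalePair R)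
  (k : Type v) [Field k] [Algebra R k]
  (K₁ : Type w) [Field K₁] [Algebra R K₁] [Algebra k K₁] [IsScalarTower R k K₁]
  (K₂ : Type w) [Field K₂] [Algebra R K₂] [Algebra k K₂] [IsScalarTower R k K₂]

include k in
theorem exists_root_same_ker (y₁ : K₁) (hy₁ : P.HasMap y₁) {n : ℕ} (x : Fin n → K₂)
    (hx : P.f.map (algebraMap R K₂) = ∏ i, (X - C (x i))) :
    ∃ i, ∃ h : P.HasMap (x i), RingHom.ker (P.lift (x i) h) = RingHom.ker (P.lift y₁ hy₁) := by
  have hfk₁ : aeval y₁ (P.f.map (algebraMap R k)) = 0 := by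
    rw [aeval_map_algebraMap]; exact hy₁.1
  have hint : IsIntegral k y₁ := ⟨P.f.map (algebraMap R k), P.monic_f.map _, hfk₁⟩
  haveI : Fact (Irreducible (minpoly k y₁)) := ⟨minpoly.irreducible hint⟩
  let j₁ : AdjoinRoot (minpoly k y₁) →ₐ[k] K₁ :=
    AdjoinRoot.liftAlgHom (minpoly k y₁) (Algebra.ofId k K₁) y₁ (by
      show eval₂ (algebraMap k K₁) y₁ (minpoly k y₁) = 0
      rw [← aeval_def]
      exact minpoly.aeval k y₁)
  have hj₁ : j₁ (AdjoinRoot.root _) = y₁ := AdjoinRoot.liftAlgHom_root _ _ _ _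
  -- a root of the minimal polynomial in `K₂`
  have hdvd : minpoly k y₁ ∣ P.f.map (algebraMap R k) := minpoly.dvd k y₁ hfk₁
  have hsplit : ((P.f.map (algebraMap R k)).map (algebraMap k K₂)).Splits := by
    rw [Polynomial.map_map, ← IsScalarTower.algebraMap_eq, hx]
    exact Splits.prod fun i _ => Splits.X_sub_C _
  have hsplitμ : ((minpoly k y₁).map (algebraMap k K₂)).Splits :=
    hsplit.of_dvd ((P.monic_f.map _).map _).ne_zero (Polynomial.map_dvd _ hdvd)
  obtain ⟨z, hz⟩ := hsplitμ.exists_eval_eq_zero (by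
    rw [degree_map]
    exact (minpoly.degree_pos hint).ne')
  have hzf : (P.f.map (algebraMap R K₂)).eval z = 0 := by
    obtain ⟨c, hc⟩ := hdvd
    rw [IsScalarTower.algebraMap_eq R k K₂, ← Polynomial.map_map, hc, Polynomial.map_mul,
      eval_mul, hz, zero_mul]
  rw [hx, eval_prod, Finset.prod_eq_zero_iff] at hzf
  obtain ⟨i, -, hi⟩ := hzf
  rw [eval_sub, eval_X, eval_C, sub_eq_zero] at hi
  subst hi
  let j₂ : AdjoinRoot (minpoly k y₁) →ₐ[k] K₂ :=
    AdjoinRoot.liftAlgHom (minpoly k y₁) (Algebra.ofId k K₂) (x i) (by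
      show eval₂ (algebraMap k K₂) (x i) (minpoly k y₁) = 0
      rw [← eval_map]; exact hz)
  have hj₂ : j₂ (AdjoinRoot.root _) = x i := AdjoinRoot.liftAlgHom_root _ _ _ _
  -- the map to `AdjoinRoot`
  haveI : IsScalarTower R k (AdjoinRoot (minpoly k y₁)) := inferInstance
  have hinj₁ : Function.Injective j₁ := (j₁ : AdjoinRoot (minpoly k y₁) →+* K₁).injective
  have hinj₂ : Function.Injective j₂ := (j₂ : AdjoinRoot (minpoly k y₁) →+* K₂).injective
  have key : ∀ p : R[X], j₁ (aeval (AdjoinRoot.root (minpoly k y₁)) p) = aeval y₁ p := fun p => by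
    rw [← AlgHom.restrictScalars_apply R j₁, ← aeval_algHom_apply,
      AlgHom.restrictScalars_apply, hj₁]
  have hE : P.HasMap (AdjoinRoot.root (minpoly k y₁)) := by
    constructor
    · apply hinj₁
      rw [map_zero, key]
      exact hy₁.1
    · rw [isUnit_iff_ne_zero]
      intro h0
      have : j₁ (aeval (AdjoinRoot.root (minpoly k y₁)) P.g) = 0 := by
        rw [h0, map_zero]
      rw [key] at this
      exact hy₁.2.ne_zero this
  have h₁ : (j₁.restrictScalars R).comp (P.lift _ hE) = P.lift y₁ hy₁ :=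
    P.hom_ext (by simp [hj₁])
  have hx2 : P.HasMap (x i) := by
    have := hE.map (j₂.restrictScalars R)
    rwa [AlgHom.restrictScalars_apply, hj₂] at this
  have h₂ : (j₂.restrictScalars R).comp (P.lift _ hE) = P.lift (x i) hx2 :=
    P.hom_ext (by simp [hj₂])
  refine ⟨i, hx2, ?_⟩
  rw [← h₁, ← h₂]
  ext b
  simp only [RingHom.mem_ker, AlgHom.comp_apply, AlgHom.restrictScalars_apply]
  rw [map_eq_zero_iff _ hinj₁, map_eq_zero_iff _ hinj₂]

end Groth.Agent.Lib.StdEtaleKerH3
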