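import Mathlib
import Groth.Agent.Lib.SplitAlg_helper3
import Groth.Agent.Lib.StdEtaleKer_helper3

/-!
# Splitting finitely many monic polynomials simultaneously (helper3)
-/

set_option autoImplicit false
set_option maxSynthPendingDepth 3
universe u v w

namespace Groth.Agent.Lib.SplitAlgH3

open Polynomial

theorem exists_splitting_finset {R : Type u} [CommRing R] [DecidableEq R[X]] (t : Finset R[X]) :
    (∀ f ∈ t, f.Monic) →
    ∃ (S' : Type u) (_ : CommRing S') (_ : Algebra R S'), Module.Finite R S' ∧ Module.Free R S' ∧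
      Module.FaithfullyFlat R S' ∧
      ∀ f ∈ t, ∃ (n : ℕ) (x : Fin n → S'), f.map (algebraMap R S') = ∏ i, (X - C (x i)) := by
  induction t using Finset.induction with
  | empty =>
    intro _
    exact ⟨R, inferInstance, inferInstance, inferInstance, inferInstance, inferInstance,
      fun f hf => absurd hf (Finset.notMem_empty f)⟩
  | insert f t hft ih =>
    intro hmon
    obtain ⟨S₁, _, _, hfin, hfree, hff, hsplit⟩ := ih (fun f' hf' => hmon f' (Finset.mem_insert_of_mem hf'))
    obtain ⟨S₂, _, _, hfin₂, hfree₂, hff₂, x, hx⟩ :=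
      exists_splitting (f.map (algebraMap R S₁)).natDegree S₁ (f.map (algebraMap R S₁))
        ((hmon f (Finset.mem_insert_self f t)).map _) rfl
    letI : Algebra R S₂ := ((algebraMap S₁ S₂).comp (algebraMap R S₁)).toAlgebra
    haveI : IsScalarTower R S₁ S₂ := IsScalarTower.of_algebraMap_eq (fun _ => rfl)
    refine ⟨S₂, inferInstance, inferInstance, Module.Finite.trans S₁ S₂,
      Module.Free.trans (S := S₁), Module.FaithfullyFlat.trans R S₁ S₂, ?_⟩
    intro f' hf'
    rcases Finset.mem_insert.mp hf' with rfl | hf't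
    · refine ⟨_, x, ?_⟩
      rw [IsScalarTower.algebraMap_eq R S₁ S₂, ← Polynomial.map_map, hx]
    · obtain ⟨n, y, hy⟩ := hsplit f' hf't
      refine ⟨n, fun i => algebraMap S₁ S₂ (y i), ?_⟩
      rw [IsScalarTower.algebraMap_eq R S₁ S₂, ← Polynomial.map_map, hy, Polynomial.map_prod]
      simp only [Polynomial.map_sub, Polynomial.map_X, Polynomial.map_C]

end Groth.Agent.Lib.SplitAlgH3
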