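import Mathlib
import Groth.Agent.Lib.PRootCot3_helper3
import Groth.Agent.Lib.SplitAlg2_helper3

/-!
# Quotients `A[T_1..T_r]/(q_i(T_i))` by monic one-variable polynomials: integrality and
injectivity of the structure map (helper3)
-/

set_option autoImplicit false
set_option maxSynthPendingDepth 3

namespace Groth.Agent.Lib.PRootCotH3

universe u

open MvPolynomial

section Monic

variable {A : Type u} [CommRing A] {r : ℕ}

/-- simultaneous roots of finitely many monic polynomials in a faithfully flat extension -/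
theorem exists_roots [Nontrivial A] (q : Fin r → Polynomial A)
    (hq : ∀ i, (q i).Monic) (hd : ∀ i, (q i).natDegree ≠ 0) :
    ∃ (S' : Type u) (_ : CommRing S') (_ : Algebra A S'),
      Function.Injective (algebraMap A S') ∧
      ∃ ρ : Fin r → S', ∀ i, Polynomial.aeval (ρ i) (q i) = 0 := by
  classical
  obtain ⟨S', _, _, -, -, hff, hsplit⟩ := SplitAlgH3.exists_splitting_finset
    (Finset.univ.image q) (by
      intro g hg
      obtain ⟨i, -, rfl⟩ := Finset.mem_image.1 hg
      exact hq i)
  haveI := hff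
  have hinj : Function.Injective (algebraMap A S') := FaithfulSMul.algebraMap_injective A S'
  haveI : Nontrivial S' := hinj.nontrivial
  refine ⟨S', inferInstance, inferInstance, hinj, ?_⟩
  have hroot : ∀ i, ∃ y : S', Polynomial.aeval y (q i) = 0 := by
    intro i
    obtain ⟨n, x, hx⟩ := hsplit (q i) (Finset.mem_image.2 ⟨i, Finset.mem_univ i, rfl⟩)
    have hn : n = (q i).natDegree := by
      have h1 := congrArg Polynomial.natDegree hx
      rw [(hq i).natDegree_map, Polynomial.natDegree_finsetProd_X_sub_C_eq_card,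
        Finset.card_univ, Fintype.card_fin] at h1
      exact h1.symm
    have hn0 : 0 < n := by
      rw [hn]
      exact Nat.pos_of_ne_zero (hd i)
    refine ⟨x ⟨0, hn0⟩, ?_⟩
    rw [Polynomial.aeval_def, Polynomial.eval₂_eq_eval_map, hx, Polynomial.eval_prod]
    apply Finset.prod_eq_zero (Finset.mem_univ (⟨0, hn0⟩ : Fin n))
    simp
  choose ρ hρ using hroot
  exact ⟨ρ, hρ⟩

variable (q : Fin r → Polynomial A) (F : Fin r → MvPolynomial (Fin r) A)
  (hF : ∀ i, F i = Polynomial.aeval (X i : MvPolynomial (Fin r) A) (q i))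

include hF in
theorem isIntegral_mk_X (hq : ∀ i, (q i).Monic) (i : Fin r) :
    IsIntegral A (Ideal.Quotient.mk (Ideal.span (Set.range F)) (X i)) := by
  refine ⟨q i, hq i, ?_⟩
  rw [← Polynomial.aeval_def]
  have h1 : Polynomial.aeval (Ideal.Quotient.mkₐ A (Ideal.span (Set.range F)) (X i)) (q i) =
      Ideal.Quotient.mkₐ A (Ideal.span (Set.range F))
        (Polynomial.aeval (X i : MvPolynomial (Fin r) A) (q i)) :=
    Polynomial.aeval_algHom_apply _ _ _
  rw [← hF i] at h1
  have h2 : Ideal.Quotient.mkₐ A (Ideal.span (Set.range F)) (F i) = 0 :=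
    Ideal.Quotient.eq_zero_iff_mem.2 (Ideal.subset_span ⟨i, rfl⟩)
  rw [h2] at h1
  exact h1

include hF in
theorem algebraMap_injective_quotient [Nontrivial A] (hq : ∀ i, (q i).Monic)
    (hd : ∀ i, (q i).natDegree ≠ 0) :
    Function.Injective
      (algebraMap A (MvPolynomial (Fin r) A ⧸ Ideal.span (Set.range F))) := by
  classical
  obtain ⟨S', _, _, hinj, ρ, hρ⟩ := exists_roots q hq hd
  let φ : MvPolynomial (Fin r) A →ₐ[A] S' := MvPolynomial.aeval ρ
  have hφF : ∀ i, φ (F i) = 0 := by
    intro i
    rw [hF i, ← Polynomial.aeval_algHom_apply]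
    have : φ (X i) = ρ i := MvPolynomial.aeval_X _ _
    rw [this]
    exact hρ i
  have hφ : ∀ g ∈ Ideal.span (Set.range F), φ g = 0 := by
    intro g hg
    have hle : Ideal.span (Set.range F) ≤ RingHom.ker φ.toRingHom := by
      rw [Ideal.span_le]
      rintro _ ⟨i, rfl⟩
      exact hφF i
    exact hle hg
  let ψ : (MvPolynomial (Fin r) A ⧸ Ideal.span (Set.range F)) →ₐ[A] S' :=
    Ideal.Quotient.liftₐ (Ideal.span (Set.range F)) φ hφ
  intro a a' haa
  apply hinj
  have := congrArg ψ haa
  rwa [AlgHom.commutes, AlgHom.commutes] at this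

end Monic

end Groth.Agent.Lib.PRootCotH3
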