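import Mathlib
import Groth.Agent.Lib.PRootCot4_helper3

/-!
# Base change of quotients of polynomial rings; `p`-th powers in `A[T]/(T_i^p - f_i)` (helper3)
-/

set_option autoImplicit false
set_option maxSynthPendingDepth 3

namespace Groth.Agent.Lib.PRootCotH3

universe u

open MvPolynomial TensorProduct

section BaseChange

variable {k : Type u} [CommRing k] {A : Type u} [CommRing A] [Algebra k A] {σ ι : Type*}
  (Fk : ι → MvPolynomial σ k) (FA : ι → MvPolynomial σ A)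
  (hFA : ∀ i, FA i = MvPolynomial.map (algebraMap k A) (Fk i))

include hFA in
/-- `(k[T]/(F_i)) ⊗_k A ≃ A[T]/(F_i)`. -/
theorem nonempty_ringEquiv_tensor_quotient :
    Nonempty (((MvPolynomial σ k ⧸ Ideal.span (Set.range Fk)) ⊗[k] A) ≃+*
      (MvPolynomial σ A ⧸ Ideal.span (Set.range FA))) := by
  classical
  have hmk : ∀ i, Ideal.Quotient.mk (Ideal.span (Set.range FA)) (FA i) = 0 := fun i =>
    Ideal.Quotient.eq_zero_iff_mem.2 (Ideal.subset_span ⟨i, rfl⟩)
  have hmkk : ∀ i, Ideal.Quotient.mk (Ideal.span (Set.range Fk)) (Fk i) = 0 := fun i =>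
    Ideal.Quotient.eq_zero_iff_mem.2 (Ideal.subset_span ⟨i, rfl⟩)
  -- ψ₁
  let ψ₁₀ : MvPolynomial σ k →ₐ[k] (MvPolynomial σ A ⧸ Ideal.span (Set.range FA)) :=
    (Ideal.Quotient.mkₐ k (Ideal.span (Set.range FA))).comp
      (MvPolynomial.mapAlgHom (Algebra.ofId k A))
  have hψ₁₀ : ∀ g, ψ₁₀ g = Ideal.Quotient.mk (Ideal.span (Set.range FA))
      (MvPolynomial.map (algebraMap k A) g) := fun g => rfl
  have h₁ : ∀ g ∈ Ideal.span (Set.range Fk), ψ₁₀ g = 0 := by
    intro g hg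
    have hle : Ideal.span (Set.range Fk) ≤ RingHom.ker ψ₁₀.toRingHom := by
      rw [Ideal.span_le]
      rintro _ ⟨i, rfl⟩
      show ψ₁₀ (Fk i) = 0
      rw [hψ₁₀, ← hFA, hmk]
    exact hle hg
  let ψ₁ : (MvPolynomial σ k ⧸ Ideal.span (Set.range Fk)) →ₐ[k]
      (MvPolynomial σ A ⧸ Ideal.span (Set.range FA)) :=
    Ideal.Quotient.liftₐ (Ideal.span (Set.range Fk)) ψ₁₀ h₁
  have hψ₁ : ∀ g, ψ₁ (Ideal.Quotient.mk (Ideal.span (Set.range Fk)) g) =
      Ideal.Quotient.mk (Ideal.span (Set.range FA)) (MvPolynomial.map (algebraMap k A) g) :=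
    fun g => rfl
  let ψ₂ : A →ₐ[k] (MvPolynomial σ A ⧸ Ideal.span (Set.range FA)) :=
    IsScalarTower.toAlgHom k A (MvPolynomial σ A ⧸ Ideal.span (Set.range FA))
  have hψ₂ : ∀ a, ψ₂ a = Ideal.Quotient.mk (Ideal.span (Set.range FA)) (C a) := fun a => rfl
  let Ψ : ((MvPolynomial σ k ⧸ Ideal.span (Set.range Fk)) ⊗[k] A) →ₐ[k]
      (MvPolynomial σ A ⧸ Ideal.span (Set.range FA)) :=
    Algebra.TensorProduct.lift ψ₁ ψ₂ (fun _ _ => Commute.all _ _)
  have hΨ : ∀ x a, Ψ (x ⊗ₜ[k] a) = ψ₁ x * ψ₂ a := fun x a =>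
    Algebra.TensorProduct.lift_tmul _ _ _ _ _
  -- Φ
  let Φ₀ : MvPolynomial σ A →+* ((MvPolynomial σ k ⧸ Ideal.span (Set.range Fk)) ⊗[k] A) :=
    MvPolynomial.eval₂Hom (Algebra.TensorProduct.includeRight (R := k)
      (A := MvPolynomial σ k ⧸ Ideal.span (Set.range Fk)) (B := A)).toRingHom
      (fun s => (Ideal.Quotient.mk (Ideal.span (Set.range Fk)) (X s)) ⊗ₜ[k] (1 : A))
  have hΦ₀C : ∀ a, Φ₀ (C a) = (1 : MvPolynomial σ k ⧸ Ideal.span (Set.range Fk)) ⊗ₜ[k] a :=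
    fun a => MvPolynomial.eval₂_C _ _ _
  have hΦ₀X : ∀ s, Φ₀ (X s) =
      (Ideal.Quotient.mk (Ideal.span (Set.range Fk)) (X s)) ⊗ₜ[k] (1 : A) :=
    fun s => MvPolynomial.eval₂_X _ _ _
  have hΦ₀map : ∀ g : MvPolynomial σ k, Φ₀ (MvPolynomial.map (algebraMap k A) g) =
      (Ideal.Quotient.mk (Ideal.span (Set.range Fk)) g) ⊗ₜ[k] (1 : A) := by
    intro g
    have hh : Φ₀.comp (MvPolynomial.map (algebraMap k A)) =
        (Algebra.TensorProduct.includeLeft (R := k) (S := k)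
          (A := MvPolynomial σ k ⧸ Ideal.span (Set.range Fk)) (B := A)).toRingHom.comp
          (Ideal.Quotient.mk (Ideal.span (Set.range Fk))) := by
      apply MvPolynomial.ringHom_ext
      · intro c
        show Φ₀ (MvPolynomial.map (algebraMap k A) (C c)) =
          (Ideal.Quotient.mk (Ideal.span (Set.range Fk)) (C c)) ⊗ₜ[k] (1 : A)
        rw [MvPolynomial.map_C, hΦ₀C]
        have h1 : Ideal.Quotient.mk (Ideal.span (Set.range Fk)) (C c) =
            c • (1 : MvPolynomial σ k ⧸ Ideal.span (Set.range Fk)) := by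
          rw [Algebra.smul_def, mul_one]
          rfl
        rw [h1, Algebra.algebraMap_eq_smul_one, smul_tmul]
      · intro s
        show Φ₀ (MvPolynomial.map (algebraMap k A) (X s)) =
          (Ideal.Quotient.mk (Ideal.span (Set.range Fk)) (X s)) ⊗ₜ[k] (1 : A)
        rw [MvPolynomial.map_X, hΦ₀X]
    exact RingHom.congr_fun hh g
  have hΦ₀F : ∀ g ∈ Ideal.span (Set.range FA), Φ₀ g = 0 := by
    intro g hg
    have hle : Ideal.span (Set.range FA) ≤ RingHom.ker Φ₀ := by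
      rw [Ideal.span_le]
      rintro _ ⟨i, rfl⟩
      show Φ₀ (FA i) = 0
      rw [hFA, hΦ₀map, hmkk, zero_tmul]
    exact hle hg
  let Φ : (MvPolynomial σ A ⧸ Ideal.span (Set.range FA)) →+*
      ((MvPolynomial σ k ⧸ Ideal.span (Set.range Fk)) ⊗[k] A) :=
    Ideal.Quotient.lift (Ideal.span (Set.range FA)) Φ₀ hΦ₀F
  have hΦ : ∀ g, Φ (Ideal.Quotient.mk (Ideal.span (Set.range FA)) g) = Φ₀ g := fun g => rfl
  -- compositions
  have h12 : (Ψ : _ →+* _).comp Φ = RingHom.id _ := by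
    apply Ideal.Quotient.ringHom_ext
    apply MvPolynomial.ringHom_ext
    · intro a
      show Ψ (Φ (Ideal.Quotient.mk _ (C a))) = Ideal.Quotient.mk _ (C a)
      rw [hΦ, hΦ₀C, hΨ, map_one, one_mul, hψ₂]
    · intro s
      show Ψ (Φ (Ideal.Quotient.mk _ (X s))) = Ideal.Quotient.mk _ (X s)
      rw [hΦ, hΦ₀X, hΨ, map_one, mul_one, hψ₁, MvPolynomial.map_X]
  have h21 : Φ.comp (Ψ : _ →+* _) = RingHom.id _ := by
    refine RingHom.ext fun z => ?_
    show Φ (Ψ z) = z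
    induction z using TensorProduct.induction_on with
    | zero => rw [map_zero, map_zero]
    | add x y hx hy => rw [map_add, map_add, hx, hy]
    | tmul x a =>
      obtain ⟨g, rfl⟩ := Ideal.Quotient.mk_surjective x
      rw [hΨ, map_mul, hψ₁, hψ₂, hΦ, hΦ, hΦ₀map, hΦ₀C, Algebra.TensorProduct.tmul_mul_tmul,
        mul_one, one_mul]
  exact ⟨RingEquiv.ofRingHom (Ψ : _ →+* _) Φ h12 h21⟩

end BaseChange

section Pow

variable {A : Type u} [CommRing A] (p : ℕ) [hpp : Fact p.Prime] {r : ℕ}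

/-- every element of `A[T]/(T_i^p + p G_i - f_i)` has its `p`-th power in `A` modulo `𝔞`,
if `p ∈ 𝔞`. -/
theorem exists_pow_sub_mem (𝔞 : Ideal A) (hpm : (p : A) ∈ 𝔞) (f : Fin r → A)
    (G F : Fin r → MvPolynomial (Fin r) A)
    (hF : ∀ i, F i = X i ^ p + (p : MvPolynomial (Fin r) A) * G i - C (f i))
    (b : MvPolynomial (Fin r) A ⧸ Ideal.span (Set.range F)) :
    ∃ a : A, b ^ p - algebraMap A (MvPolynomial (Fin r) A ⧸ Ideal.span (Set.range F)) a ∈
      𝔞.map (algebraMap A (MvPolynomial (Fin r) A ⧸ Ideal.span (Set.range F))) := by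
  classical
  obtain ⟨I, hI⟩ : ∃ I : Ideal (MvPolynomial (Fin r) A), I = Ideal.span (Set.range F) := ⟨_, rfl⟩
  revert b
  rw [← hI]
  intro b
  have halg : ∀ a : A, algebraMap A (MvPolynomial (Fin r) A ⧸ I) a =
      Ideal.Quotient.mk I (C a) := fun a => rfl
  have hpB : ((p : ℕ) : MvPolynomial (Fin r) A ⧸ I) ∈
      𝔞.map (algebraMap A (MvPolynomial (Fin r) A ⧸ I)) := by
    rw [← map_natCast (algebraMap A (MvPolynomial (Fin r) A ⧸ I))]
    exact Ideal.mem_map_of_mem _ hpm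
  have hXp : ∀ i, (Ideal.Quotient.mk I (X i)) ^ p -
      algebraMap A (MvPolynomial (Fin r) A ⧸ I) (f i) ∈
      𝔞.map (algebraMap A (MvPolynomial (Fin r) A ⧸ I)) := by
    intro i
    have h0 : Ideal.Quotient.mk I (F i) = 0 := by
      rw [Ideal.Quotient.eq_zero_iff_mem, hI]
      exact Ideal.subset_span ⟨i, rfl⟩
    rw [hF, map_sub, map_add, map_mul, map_pow, map_natCast, ← halg] at h0
    have h1 : (Ideal.Quotient.mk I (X i)) ^ p -
        algebraMap A (MvPolynomial (Fin r) A ⧸ I) (f i) =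
        -(((p : ℕ) : MvPolynomial (Fin r) A ⧸ I) * Ideal.Quotient.mk I (G i)) := by
      linear_combination h0
    rw [h1]
    exact neg_mem (Ideal.mul_mem_right _ _ hpB)
  obtain ⟨g, rfl⟩ := Ideal.Quotient.mk_surjective b
  induction g using MvPolynomial.induction_on with
  | C a =>
    refine ⟨a ^ p, ?_⟩
    rw [← halg, map_pow, sub_self]
    exact zero_mem _
  | add g h hg hh =>
    obtain ⟨a, ha⟩ := hg
    obtain ⟨a', ha'⟩ := hh
    refine ⟨a + a', ?_⟩
    obtain ⟨c, hc⟩ := exists_add_pow_prime_eq hpp.out (Ideal.Quotient.mk I g)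
      (Ideal.Quotient.mk I h)
    have h1 : (Ideal.Quotient.mk I (g + h)) ^ p -
        algebraMap A (MvPolynomial (Fin r) A ⧸ I) (a + a') =
        ((Ideal.Quotient.mk I g) ^ p - algebraMap A (MvPolynomial (Fin r) A ⧸ I) a) +
        ((Ideal.Quotient.mk I h) ^ p - algebraMap A (MvPolynomial (Fin r) A ⧸ I) a') +
        ((p : ℕ) : MvPolynomial (Fin r) A ⧸ I) *
          (Ideal.Quotient.mk I g * Ideal.Quotient.mk I h * c) := by
      rw [map_add, map_add, hc]
      ring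
    rw [h1]
    exact add_mem (add_mem ha ha') (Ideal.mul_mem_right _ _ hpB)
  | mul_X g i hg =>
    obtain ⟨a, ha⟩ := hg
    refine ⟨a * f i, ?_⟩
    have h1 : (Ideal.Quotient.mk I (g * X i)) ^ p -
        algebraMap A (MvPolynomial (Fin r) A ⧸ I) (a * f i) =
        ((Ideal.Quotient.mk I g) ^ p - algebraMap A (MvPolynomial (Fin r) A ⧸ I) a) *
          (Ideal.Quotient.mk I (X i)) ^ p +
        algebraMap A (MvPolynomial (Fin r) A ⧸ I) a *
          ((Ideal.Quotient.mk I (X i)) ^ p -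
            algebraMap A (MvPolynomial (Fin r) A ⧸ I) (f i)) := by
      rw [map_mul, map_mul]
      ring
    rw [h1]
    exact add_mem (Ideal.mul_mem_right _ _ ha) (Ideal.mul_mem_left _ _ (hXp i))

end Pow

end Groth.Agent.Lib.PRootCotH3
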