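import Mathlib
import Groth.Agent.Lib.PRootCot5_helper3
import Groth.Agent.Lib.IntegralHeight_helper5
import Groth.Agent.Lib.Serre_helper5
import Groth.Agent.Lib.Regular_helper5

/-!
# Regularity of `A[T]/(T_i^p + p G_i - f_i)` and differentials (EGA 0_IV 22.5.4); application
to purely inseparable base changes of exponent one (helper3)
-/

set_option autoImplicit false
set_option maxSynthPendingDepth 3

namespace Groth.Agent.Lib.PRootCotH3

universe u

open MvPolynomial TensorProduct IsLocalRing KaehlerDifferential

section Regular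

variable {A : Type u} [CommRing A] [IsRegularLocalRing A] (p : ℕ) [hpp : Fact p.Prime] {r : ℕ}

theorem isRegularRing_quotient_iff (hp : (p : A) ∈ maximalIdeal A ^ 2) (f : Fin r → A)
    (G F : Fin r → MvPolynomial (Fin r) A)
    (hF : ∀ i, F i = X i ^ p + (p : MvPolynomial (Fin r) A) * G i - C (f i))
    (q : Fin r → Polynomial A)
    (hFq : ∀ i, F i = Polynomial.aeval (X i : MvPolynomial (Fin r) A) (q i))
    (hq : ∀ i, (q i).Monic) (hd : ∀ i, (q i).natDegree ≠ 0) :
    IsLocalRing (MvPolynomial (Fin r) A ⧸ Ideal.span (Set.range F)) ∧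
      Module.Finite A (MvPolynomial (Fin r) A ⧸ Ideal.span (Set.range F)) ∧
      (IsRegularRing (MvPolynomial (Fin r) A ⧸ Ideal.span (Set.range F)) ↔
        LinearIndependent (ResidueField A)
          (fun i => (1 : ResidueField A) ⊗ₜ[A] D ℤ A (f i))) := by
  classical
  have hpm : ((p : ℕ) : A) ∈ maximalIdeal A := Ideal.pow_le_self two_ne_zero hp
  haveI := isIntegral_quotient _ (isIntegral_mk_X q F hFq hq)
  obtain ⟨hloc, hlh⟩ := isLocalRing_quotient p hpm f _ F hF
  haveI : Algebra.FiniteType A (MvPolynomial (Fin r) A ⧸ Ideal.span (Set.range F)) :=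
    Algebra.FiniteType.of_surjective (Ideal.Quotient.mkₐ A _) (Ideal.Quotient.mkₐ_surjective A _)
  haveI hfin : Module.Finite A (MvPolynomial (Fin r) A ⧸ Ideal.span (Set.range F)) :=
    Algebra.IsIntegral.finite
  refine ⟨hloc, hfin, ?_⟩
  have hiff := finrank_cotangentSpace_eq_iff_aux p hp f _ F hF
    (B := MvPolynomial (Fin r) A ⧸ Ideal.span (Set.range F))
    Ideal.Quotient.mk_surjective (by rw [Ideal.Quotient.algebraMap_eq]; exact Ideal.mk_ker)
  rw [← hiff]
  have hdim : ringKrullDim (MvPolynomial (Fin r) A ⧸ Ideal.span (Set.range F)) =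
      ringKrullDim A :=
    Groth.Agent.IntegralHeight.ringKrullDim_eq_of_isIntegral_of_injective A _
      (algebraMap_injective_quotient q F hFq hq hd)
  have hA : (Module.finrank (ResidueField A) (CotangentSpace A) : WithBot ℕ∞) = ringKrullDim A :=
    (IsRegularLocalRing.iff_finrank_cotangentSpace A).1 inferInstance
  constructor
  · intro hreg
    haveI := hreg
    have hB : IsRegularLocalRing (MvPolynomial (Fin r) A ⧸ Ideal.span (Set.range F)) :=
      IsRegularLocalRing.of_isRegularRing_of_isLocalRing _
    have hB' := (IsRegularLocalRing.iff_finrank_cotangentSpace _).1 hB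
    rw [hdim, ← hA] at hB'
    exact_mod_cast hB'.symm
  · intro h
    have hB : IsRegularLocalRing (MvPolynomial (Fin r) A ⧸ Ideal.span (Set.range F)) := by
      rw [IsRegularLocalRing.iff_finrank_cotangentSpace, hdim, ← hA, h]
    rw [isRegularRing_iff]
    intro P hP
    exact Groth.Agent.Serre.localization_regular _ P

/-- the special case `F_i = T_i^p - f_i`. -/
theorem isRegularRing_quotient_iff_simple (hp : (p : A) ∈ maximalIdeal A ^ 2) (f : Fin r → A) :
    IsLocalRing (MvPolynomial (Fin r) A ⧸ Ideal.span (Set.range fun i : Fin r =>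
        (X i ^ p - C (f i) : MvPolynomial (Fin r) A))) ∧
      Module.Finite A (MvPolynomial (Fin r) A ⧸ Ideal.span (Set.range fun i : Fin r =>
        (X i ^ p - C (f i) : MvPolynomial (Fin r) A))) ∧
      (IsRegularRing (MvPolynomial (Fin r) A ⧸ Ideal.span (Set.range fun i : Fin r =>
        (X i ^ p - C (f i) : MvPolynomial (Fin r) A))) ↔
        LinearIndependent (ResidueField A)
          (fun i => (1 : ResidueField A) ⊗ₜ[A] D ℤ A (f i))) := by
  apply isRegularRing_quotient_iff p hp f (fun _ => 0) _ (fun i => by simp)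
    (fun i => Polynomial.X ^ p - Polynomial.C (f i))
  · intro i
    simp
  · intro i
    exact Polynomial.monic_X_pow_sub_C _ hpp.out.ne_zero
  · intro i
    rw [Polynomial.natDegree_X_pow_sub_C]
    exact hpp.out.ne_zero

end Regular

end Groth.Agent.Lib.PRootCotH3
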