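import Mathlib
import Groth.Agent.Lib.PRootCot6_helper3

/-!
# Regularity of all purely inseparable base changes of exponent one forces
`Ω_{k/ℤ} ⊗ K → Ω_{A/ℤ} ⊗ K` to be injective (EGA 0_IV 22.5.8) (helper3)
-/

set_option autoImplicit false
set_option maxSynthPendingDepth 3

namespace Groth.Agent.Lib.PRootCotH3

universe u

open MvPolynomial TensorProduct IsLocalRing KaehlerDifferential

section Field

variable {k A : Type u} [Field k] (p : ℕ) [hpp : Fact p.Prime] [CharP k p]
  [CommRing A] [IsLocalRing A] [IsNoetherianRing A] [Algebra k A]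

omit hpp [CharP k p] in
theorem isRegularLocalRing_of_forall_regular
    (H : ∀ (k' : Type u) [Field k'] [Algebra k k'], Module.Finite k k' →
        (∀ x : k', x ^ p ∈ (algebraMap k k').range) → IsRegularRing (k' ⊗[k] A)) :
    IsRegularLocalRing A := by
  have h1 := H k (Module.Finite.self k) (fun x => ⟨x ^ p, rfl⟩)
  haveI := h1
  haveI : IsRegularRing A := IsRegularRing.of_ringEquiv (Algebra.TensorProduct.lid k A).toRingEquiv
  exact IsRegularLocalRing.of_isRegularRing_of_isLocalRing A

theorem linearIndependent_of_forall_regular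
    (H : ∀ (k' : Type u) [Field k'] [Algebra k k'], Module.Finite k k' →
        (∀ x : k', x ^ p ∈ (algebraMap k k').range) → IsRegularRing (k' ⊗[k] A))
    {r : ℕ} (β : Fin r → k) (hβ : LinearIndependent k (fun i => D ℤ k (β i))) :
    LinearIndependent (ResidueField A)
      (fun i => (1 : ResidueField A) ⊗ₜ[A] D ℤ A (algebraMap k A (β i))) := by
  classical
  haveI hregA : IsRegularLocalRing A := isRegularLocalRing_of_forall_regular p H
  have hpk : ((p : ℕ) : k) = 0 := CharP.cast_eq_zero k p
  have hpk2 : ((p : ℕ) : k) ∈ maximalIdeal k ^ 2 := by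
    rw [hpk]
    exact zero_mem _
  have hpA : ((p : ℕ) : A) ∈ maximalIdeal A ^ 2 := by
    rw [← map_natCast (algebraMap k A), hpk, map_zero]
    exact zero_mem _
  obtain ⟨hlock, hfink, hiffk⟩ := isRegularRing_quotient_iff_simple (A := k) p hpk2 β
  haveI := hlock
  haveI hregk : IsRegularRing (MvPolynomial (Fin r) k ⧸ Ideal.span (Set.range fun i : Fin r =>
      (X i ^ p - C (β i) : MvPolynomial (Fin r) k))) :=
    hiffk.2 (Module.Flat.linearIndependent_one_tmul (S := ResidueField k) hβ)
  haveI : IsRegularLocalRing (MvPolynomial (Fin r) k ⧸ Ideal.span (Set.range fun i : Fin r =>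
      (X i ^ p - C (β i) : MvPolynomial (Fin r) k))) :=
    IsRegularLocalRing.of_isRegularRing_of_isLocalRing _
  haveI : IsDomain (MvPolynomial (Fin r) k ⧸ Ideal.span (Set.range fun i : Fin r =>
      (X i ^ p - C (β i) : MvPolynomial (Fin r) k))) := Groth.Agent.RegularLib.isDomain _
  haveI := hfink
  haveI : Algebra.IsIntegral k (MvPolynomial (Fin r) k ⧸ Ideal.span (Set.range fun i : Fin r =>
      (X i ^ p - C (β i) : MvPolynomial (Fin r) k))) := Algebra.IsIntegral.of_finite k _
  have hfield : IsField (MvPolynomial (Fin r) k ⧸ Ideal.span (Set.range fun i : Fin r =>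
      (X i ^ p - C (β i) : MvPolynomial (Fin r) k))) :=
    isField_of_isIntegral_of_isField' (Field.toIsField k)
  letI : Field (MvPolynomial (Fin r) k ⧸ Ideal.span (Set.range fun i : Fin r =>
      (X i ^ p - C (β i) : MvPolynomial (Fin r) k))) := hfield.toField
  have hpow : ∀ x : MvPolynomial (Fin r) k ⧸ Ideal.span (Set.range fun i : Fin r =>
      (X i ^ p - C (β i) : MvPolynomial (Fin r) k)),
      x ^ p ∈ (algebraMap k (MvPolynomial (Fin r) k ⧸ Ideal.span (Set.range fun i : Fin r =>
      (X i ^ p - C (β i) : MvPolynomial (Fin r) k)))).range := by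
    intro x
    obtain ⟨a, ha⟩ := exists_pow_sub_mem p (⊥ : Ideal k) (by rw [hpk]; exact zero_mem _) β
      (fun _ => 0) _ (fun i => by simp) x
    rw [Ideal.map_bot, Ideal.mem_bot, sub_eq_zero] at ha
    exact ⟨a, ha.symm⟩
  have hreg' := H _ hfink hpow
  obtain ⟨e⟩ := nonempty_ringEquiv_tensor_quotient (k := k) (A := A)
    (fun i : Fin r => (X i ^ p - C (β i) : MvPolynomial (Fin r) k))
    (fun i : Fin r => (X i ^ p - C (algebraMap k A (β i)) : MvPolynomial (Fin r) A))
    (fun i => by simp)
  have hregBA : IsRegularRing (MvPolynomial (Fin r) A ⧸ Ideal.span (Set.range fun i : Fin r =>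
      (X i ^ p - C (algebraMap k A (β i)) : MvPolynomial (Fin r) A))) := by
    haveI := hreg'
    exact IsRegularRing.of_ringEquiv e
  obtain ⟨-, -, hiffA⟩ := isRegularRing_quotient_iff_simple (A := A) p hpA
    (fun i => algebraMap k A (β i))
  exact hiffA.1 hregBA

theorem injective_lTensor_of_forall_regular
    (H : ∀ (k' : Type u) [Field k'] [Algebra k k'], Module.Finite k k' →
        (∀ x : k', x ^ p ∈ (algebraMap k k').range) → IsRegularRing (k' ⊗[k] A)) :
    Function.Injective ((mapBaseChange ℤ k A).lTensor (ResidueField A)) := by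
  classical
  obtain ⟨ι, b₀, hb₀⟩ : ∃ (ι : Type u) (b₀ : Module.Basis ι k Ω[k⁄ℤ]),
      Set.range b₀ ⊆ Set.range (D ℤ k) :=
    ⟨_, Module.Basis.ofSpan (span_range_derivation ℤ k).ge,
      Module.Basis.ofSpan_subset (span_range_derivation ℤ k).ge⟩
  choose β hβ using fun j => hb₀ ⟨j, rfl⟩
  let cb := AlgebraTensorModule.cancelBaseChange k A (ResidueField A) (ResidueField A) Ω[k⁄ℤ]
  let bK : Module.Basis ι (ResidueField A) (ResidueField A ⊗[k] Ω[k⁄ℤ]) :=
    b₀.baseChange (ResidueField A)
  let g' : ResidueField A ⊗[A] (A ⊗[k] Ω[k⁄ℤ]) →ₗ[ResidueField A] ResidueField A ⊗[A] Ω[A⁄ℤ] :=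
    (mapBaseChange ℤ k A).baseChange (ResidueField A)
  have hW : ∀ j, g' (cb.symm (bK j)) =
      (1 : ResidueField A) ⊗ₜ[A] D ℤ A (algebraMap k A (β j)) := by
    intro j
    have h1 : bK j = (1 : ResidueField A) ⊗ₜ[k] b₀ j := Module.Basis.baseChange_apply _ _ _
    have h2 : cb.symm ((1 : ResidueField A) ⊗ₜ[k] b₀ j) =
        (1 : ResidueField A) ⊗ₜ[A] ((1 : A) ⊗ₜ[k] b₀ j) :=
      AlgebraTensorModule.cancelBaseChange_symm_tmul _ _ _ _ _
    rw [h1, h2, LinearMap.baseChange_tmul, ← hβ j, mapBaseChange_tmul, one_smul, map_D]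
  have hWli : LinearIndependent (ResidueField A) (fun j => g' (cb.symm (bK j))) := by
    rw [linearIndependent_iff_finset_linearIndependent]
    intro s
    rw [← linearIndependent_equiv s.equivFin.symm]
    have hli : LinearIndependent k (fun i : Fin s.card => D ℤ k (β (s.equivFin.symm i))) := by
      have h3 := b₀.linearIndependent.comp (fun i : Fin s.card => ((s.equivFin.symm i : s) : ι))
        (Subtype.val_injective.comp s.equivFin.symm.injective)
      have h4 : (fun i : Fin s.card => D ℤ k (β (s.equivFin.symm i))) =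
          ⇑b₀ ∘ fun i : Fin s.card => ((s.equivFin.symm i : s) : ι) := by
        funext i
        exact hβ _
      rw [h4]
      exact h3
    have h5 := linearIndependent_of_forall_regular p H (fun i => β (s.equivFin.symm i)) hli
    have h6 : (((fun j => g' (cb.symm (bK j))) ∘ (Subtype.val : s → ι)) ∘ ⇑s.equivFin.symm) =
        fun i : Fin s.card => (1 : ResidueField A) ⊗ₜ[A]
          D ℤ A (algebraMap k A (β (s.equivFin.symm i))) := by
      funext i
      exact hW _
    rw [h6]
    exact h5
  rw [injective_iff_map_eq_zero]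
  intro x hx
  have hx' : g' x = 0 := hx
  have hy : x = cb.symm (cb x) := (cb.symm_apply_apply x).symm
  have hrepr : Finsupp.linearCombination (ResidueField A) bK (bK.repr (cb x)) = cb x :=
    bK.linearCombination_repr (cb x)
  have h1 : (g' ∘ₗ cb.symm.toLinearMap)
      (Finsupp.linearCombination (ResidueField A) bK (bK.repr (cb x))) =
      Finsupp.linearCombination (ResidueField A) (fun j => g' (cb.symm (bK j)))
        (bK.repr (cb x)) := by
    rw [LinearMap.map_finsupp_linearCombination]
    rfl
  rw [hrepr] at h1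
  have h2 : (g' ∘ₗ cb.symm.toLinearMap) (cb x) = 0 := by
    show g' (cb.symm (cb x)) = 0
    rw [← hy]
    exact hx'
  rw [h2] at h1
  have h3 := linearIndependent_iff.1 hWli _ h1.symm
  have h4 : cb x = 0 := by
    rw [← hrepr, h3, map_zero]
  rw [hy, h4, map_zero]

end Field

end Groth.Agent.Lib.PRootCotH3
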