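import Mathlib
import Groth.Agent.Lib.GeomRegAdic_helper3
import Groth.Agent.Lib.RegLoc_helper3
import Groth.Agent.S4573

/-!
# Geometric regularity of a Noetherian algebra over a field via adic formal smoothness of its
local rings (helper3)

* `adic_tensor_localization`: base change + localization for adic formal smoothness;
* `adic_localization_of_forall_regular`: regular after all finite purely inseparable base changes
  of exponent one ⇒ the local rings are adically formally smooth;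
* `isRegularRing_tensor_of_forall_adic`: local rings adically formally smooth ⇒ `K ⊗ S` regular
  for every field extension `K` with `K ⊗ S` Noetherian;
* `isGeometricallyRegular_iff_forall_adic`.
-/

set_option autoImplicit false
set_option maxSynthPendingDepth 3

namespace Groth.Agent.Lib.GeomRegFSH3

open TensorProduct IsLocalRing

universe u

section TL

variable {R S K : Type u} [CommRing R] [CommRing S] [Algebra R S] [CommRing K] [Algebra R K]

theorem adic_tensor_localization (𝔮 : Ideal S) [𝔮.IsPrime]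
    (h : CAlgX.IsAdicFormallySmooth R (Localization.AtPrime 𝔮)
      (maximalIdeal (Localization.AtPrime 𝔮)))
    (𝔐 : Ideal (K ⊗[R] S)) [𝔐.IsPrime]
    (hcomap : 𝔐.comap (Algebra.TensorProduct.includeRight : S →ₐ[R] K ⊗[R] S).toRingHom = 𝔮) :
    CAlgX.IsAdicFormallySmooth K (Localization.AtPrime 𝔐)
      (maximalIdeal (Localization.AtPrime 𝔐)) := by
  intro C _ _ J hJ ψ hψ
  obtain ⟨j, hj⟩ := hψ
  letI : Algebra R C := Algebra.compHom C (algebraMap R K)
  haveI : IsScalarTower R K C := IsScalarTower.of_algebraMap_eq (fun _ => rfl)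
  let ιS : S →ₐ[R] K ⊗[R] S := Algebra.TensorProduct.includeRight
  let ψS₀ : S →+* C ⧸ J := (ψ : Localization.AtPrime 𝔐 →+* C ⧸ J).comp
    ((algebraMap (K ⊗[R] S) (Localization.AtPrime 𝔐)).comp ιS.toRingHom)
  have hψS₀ : ∀ s, ψS₀ s =
      ψ (algebraMap (K ⊗[R] S) (Localization.AtPrime 𝔐) ((1 : K) ⊗ₜ[R] s)) := fun s => rfl
  have hunitS : ∀ s : 𝔮.primeCompl, IsUnit (ψS₀ s) := by
    intro s
    have hs : ((1 : K) ⊗ₜ[R] (s : S)) ∈ 𝔐.primeCompl := by
      intro hmem
      have : (s : S) ∈ 𝔐.comap ιS.toRingHom := hmem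
      rw [hcomap] at this
      exact s.2 this
    have h1 : IsUnit (algebraMap (K ⊗[R] S) (Localization.AtPrime 𝔐) ((1 : K) ⊗ₜ[R] (s : S))) :=
      IsLocalization.map_units (Localization.AtPrime 𝔐) (⟨_, hs⟩ : 𝔐.primeCompl)
    exact h1.map ψ
  let ψ𝔮₀ : Localization.AtPrime 𝔮 →+* C ⧸ J := IsLocalization.lift hunitS
  have hψ𝔮₀ : ∀ s, ψ𝔮₀ (algebraMap S (Localization.AtPrime 𝔮) s) = ψS₀ s :=
    fun s => IsLocalization.lift_eq _ _
  have hcomm : ∀ r : R, ψS₀ (algebraMap R S r) = algebraMap R (C ⧸ J) r := by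
    intro r
    rw [hψS₀]
    have h1 : (1 : K) ⊗ₜ[R] (algebraMap R S r) = algebraMap K (K ⊗[R] S) (algebraMap R K r) := by
      rw [Algebra.TensorProduct.algebraMap_apply, Algebra.algebraMap_self, RingHom.id_apply,
        Algebra.algebraMap_eq_smul_one r, Algebra.algebraMap_eq_smul_one (A := K) r, smul_tmul]
    rw [h1, ← IsScalarTower.algebraMap_apply K (K ⊗[R] S) (Localization.AtPrime 𝔐),
      AlgHom.commutes]
    rfl
  let ψ𝔮 : Localization.AtPrime 𝔮 →ₐ[R] C ⧸ J :=
    { ψ𝔮₀ with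
      commutes' := fun r => by
        show ψ𝔮₀ (algebraMap R (Localization.AtPrime 𝔮) r) = _
        rw [IsScalarTower.algebraMap_apply R S (Localization.AtPrime 𝔮), hψ𝔮₀, hcomm] }
  have hψ𝔮 : ∀ y, ψ𝔮 y = ψ𝔮₀ y := fun _ => rfl
  have hcont : ∀ y ∈ maximalIdeal (Localization.AtPrime 𝔮) ^ j, ψ𝔮 y = 0 := by
    intro y hy
    rw [← Localization.AtPrime.map_eq_maximalIdeal, ← Ideal.map_pow] at hy
    have hle : (𝔮 ^ j).map (algebraMap S (Localization.AtPrime 𝔮)) ≤ RingHom.ker ψ𝔮₀ := by
      rw [Ideal.map_le_iff_le_comap]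
      intro x hx
      rw [Ideal.mem_comap, RingHom.mem_ker, hψ𝔮₀, hψS₀]
      apply hj
      have h1 : ((1 : K) ⊗ₜ[R] x) ∈ 𝔐 ^ j := by
        have hle2 : (𝔮 ^ j).map ιS.toRingHom ≤ 𝔐 ^ j := by
          rw [Ideal.map_pow]
          apply Ideal.pow_right_mono
          rw [Ideal.map_le_iff_le_comap, hcomap]
        exact hle2 (Ideal.mem_map_of_mem _ hx)
      rw [← Localization.AtPrime.map_eq_maximalIdeal, ← Ideal.map_pow]
      exact Ideal.mem_map_of_mem _ h1
    exact hle hy
  obtain ⟨χ𝔮, hχ𝔮⟩ := h C J hJ ψ𝔮 ⟨j, hcont⟩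
  have hχ𝔮' : ∀ y, Ideal.Quotient.mk J (χ𝔮 y) = ψ𝔮 y := fun y => AlgHom.congr_fun hχ𝔮 y
  let χT : (K ⊗[R] S) →ₐ[K] C := Algebra.TensorProduct.lift (Algebra.ofId K C)
    (χ𝔮.comp (IsScalarTower.toAlgHom R S (Localization.AtPrime 𝔮)))
    (fun _ _ => Commute.all _ _)
  have hχT : ∀ a s, χT (a ⊗ₜ[R] s) =
      algebraMap K C a * χ𝔮 (algebraMap S (Localization.AtPrime 𝔮) s) :=
    fun a s => Algebra.TensorProduct.lift_tmul _ _ _ _ _
  have hχTψ : ∀ t, Ideal.Quotient.mk J (χT t) =
      ψ (algebraMap (K ⊗[R] S) (Localization.AtPrime 𝔐) t) := by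
    intro t
    induction t using TensorProduct.induction_on with
    | zero => rw [map_zero, map_zero, map_zero, map_zero]
    | add x y hx hy => rw [map_add, map_add, hx, hy, map_add, map_add]
    | tmul a s =>
      rw [hχT, map_mul, hχ𝔮', hψ𝔮, hψ𝔮₀, hψS₀]
      have h1 : a ⊗ₜ[R] s = a • ((1 : K) ⊗ₜ[R] s) := by
        rw [smul_tmul', smul_eq_mul, mul_one]
      rw [h1, Algebra.smul_def, map_mul, map_mul,
        ← IsScalarTower.algebraMap_apply K (K ⊗[R] S) (Localization.AtPrime 𝔐), AlgHom.commutes]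
      rfl
  have hunitT : ∀ t : 𝔐.primeCompl, IsUnit (χT.toRingHom t) := by
    intro t
    have h1 : IsUnit (Ideal.Quotient.mk J (χT t)) := by
      rw [hχTψ]
      exact (IsLocalization.map_units (Localization.AtPrime 𝔐) t).map ψ
    exact (IsNilpotent.isUnit_quotient_mk_iff ⟨2, hJ⟩).1 h1
  refine ⟨{ IsLocalization.lift hunitT with
    commutes' := fun a => by
      show IsLocalization.lift hunitT (algebraMap K (Localization.AtPrime 𝔐) a) = _
      rw [IsScalarTower.algebraMap_apply K (K ⊗[R] S) (Localization.AtPrime 𝔐),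
        IsLocalization.lift_eq]
      exact χT.commutes a }, ?_⟩
  apply AlgHom.coe_ringHom_injective
  apply IsLocalization.ringHom_ext 𝔐.primeCompl
  refine RingHom.ext fun t => ?_
  show Ideal.Quotient.mk J (IsLocalization.lift hunitT
    (algebraMap (K ⊗[R] S) (Localization.AtPrime 𝔐) t)) =
    ψ (algebraMap (K ⊗[R] S) (Localization.AtPrime 𝔐) t)
  rw [IsLocalization.lift_eq]
  exact hχTψ t

end TL

section Field

variable {k S : Type u} [Field k] [CommRing S] [Algebra k S]

theorem isNoetherianRing_tensor_of_finite [IsNoetherianRing S] (k' : Type u) [Field k']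
    [Algebra k k'] [Module.Finite k k'] : IsNoetherianRing (k' ⊗[k] S) := by
  letI algA : Algebra S (k' ⊗[k] S) :=
    (Algebra.TensorProduct.includeRight : S →ₐ[k] k' ⊗[k] S).toRingHom.toAlgebra
  haveI : Module.Finite S (k' ⊗[k] S) := by
    refine Module.Finite.of_equiv_equiv (A₁ := S) (B₁ := S ⊗[k] k') (RingEquiv.refl S)
      (Algebra.TensorProduct.comm k S k').toRingEquiv ?_
    ext a
    show (1 : k') ⊗ₜ[k] a = Algebra.TensorProduct.comm k S k' (a ⊗ₜ[k] (1 : k'))
    rw [Algebra.TensorProduct.comm_tmul]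
  exact IsNoetherianRing.of_finite S _

theorem isNoetherianRing_tensor_of_essFiniteType [IsNoetherianRing S] (K : Type u) [Field K]
    [Algebra k K] [Algebra.EssFiniteType k K] : IsNoetherianRing (K ⊗[k] S) := by
  haveI : IsNoetherianRing (S ⊗[k] K) := Algebra.EssFiniteType.isNoetherianRing S (S ⊗[k] K)
  exact isNoetherianRing_of_ringEquiv (S ⊗[k] K) (Algebra.TensorProduct.comm k S K).toRingEquiv

theorem adic_localization_of_forall_regular (p : ℕ) [ExpChar k p] [IsNoetherianRing S]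
    (H : ∀ (k' : Type u) [Field k'] [Algebra k k'], Module.Finite k k' →
      (∀ x : k', x ^ p ∈ (algebraMap k k').range) → IsRegularRing (k' ⊗[k] S))
    (𝔮 : Ideal S) [𝔮.IsPrime] :
    CAlgX.IsAdicFormallySmooth k (Localization.AtPrime 𝔮)
      (maximalIdeal (Localization.AtPrime 𝔮)) := by
  classical
  rw [Groth.Agent.S4573.result p]
  intro k' _ _ hfin hpow
  haveI := H k' hfin hpow
  letI alg : Algebra (k' ⊗[k] S) (k' ⊗[k] Localization.AtPrime 𝔮) :=
    (Algebra.TensorProduct.map (AlgHom.id k k')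
      (IsScalarTower.toAlgHom k S (Localization.AtPrime 𝔮))).toRingHom.toAlgebra
  have halg : ∀ z, algebraMap (k' ⊗[k] S) (k' ⊗[k] Localization.AtPrime 𝔮) z =
      Algebra.TensorProduct.map (AlgHom.id k k')
        (IsScalarTower.toAlgHom k S (Localization.AtPrime 𝔮)) z := fun z => rfl
  haveI : IsScalarTower k' (k' ⊗[k] S) (k' ⊗[k] Localization.AtPrime 𝔮) :=
    IsScalarTower.of_algebraMap_eq (fun x => by
      rw [halg, Algebra.TensorProduct.algebraMap_apply, Algebra.TensorProduct.algebraMap_apply,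
        Algebra.TensorProduct.map_tmul, map_one]
      rfl)
  haveI hloc := IsLocalization.tensorProduct_tensorProduct_right k k' 𝔮.primeCompl
    (Localization.AtPrime 𝔮) (by
      ext a
      show algebraMap (k' ⊗[k] S) (k' ⊗[k] Localization.AtPrime 𝔮) ((1 : k') ⊗ₜ[k] a) =
        (1 : k') ⊗ₜ[k] algebraMap S (Localization.AtPrime 𝔮) a
      rw [halg, Algebra.TensorProduct.map_tmul, map_one]
      rfl)
  exact Groth.Agent.Lib.RegLocH3.isRegularRing_of_isLocalization
    (𝔮.primeCompl.map (Algebra.TensorProduct.includeRight (R := k) (A := k')))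
    (k' ⊗[k] Localization.AtPrime 𝔮)

theorem isRegularRing_tensor_of_forall_adic
    (h : ∀ (𝔮 : Ideal S) [𝔮.IsPrime], CAlgX.IsAdicFormallySmooth k (Localization.AtPrime 𝔮)
      (maximalIdeal (Localization.AtPrime 𝔮)))
    (K : Type u) [Field K] [Algebra k K] [IsNoetherianRing (K ⊗[k] S)] :
    IsRegularRing (K ⊗[k] S) := by
  apply Groth.Agent.Lib.GeomRegAdicH3.isRegularRing_of_forall_maximal
  intro 𝔐 h𝔐
  haveI : IsNoetherianRing (Localization.AtPrime 𝔐) :=
    IsLocalization.isNoetherianRing 𝔐.primeCompl _ inferInstance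
  have h1 := adic_tensor_localization (R := k) (S := S) (K := K)
    (𝔐.comap (Algebra.TensorProduct.includeRight : S →ₐ[k] K ⊗[k] S).toRingHom) (h _) 𝔐 rfl
  exact Groth.Agent.Lib.SmoothRegFieldH3.regular_of_adic_field (k := K) h1

theorem isGeometricallyRegular_iff_forall_adic [IsNoetherianRing S] :
    CAlg.IsGeometricallyRegular k S ↔
      ∀ (𝔮 : Ideal S) [𝔮.IsPrime], CAlgX.IsAdicFormallySmooth k (Localization.AtPrime 𝔮)
        (maximalIdeal (Localization.AtPrime 𝔮)) := by
  constructor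
  · intro h 𝔮 _
    obtain ⟨p, hp⟩ := ExpChar.exists k
    haveI := hp
    exact adic_localization_of_forall_regular p (fun k' _ _ hfin _ => h k' hfin) 𝔮
  · intro h k' _ _ hfin
    haveI := hfin
    haveI := isNoetherianRing_tensor_of_finite (k := k) (S := S) k'
    exact isRegularRing_tensor_of_forall_adic h k'

end Field

end Groth.Agent.Lib.GeomRegFSH3
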