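import Mathlib
import Groth.Prelude.Def_Found
import Groth.Agent.Lib.GeomRegFS_helper3

/-!
# Regularity along flat local homomorphisms; regular homomorphisms via field-valued points (helper3)

* `spanFinrank_maximalIdeal_le_add`, `ringKrullDim_le_add`, `ringKrullDim_eq_add_of_flat`
* `isRegularLocalRing_of_flat` : flat local hom, regular base, regular closed fibre ⇒ regular.
* `isNoetherianRing_fiber`
* `isRegularRing_of_flat_of_fiber` : flat, regular base, regular fibres, Noetherian ⇒ regular.
* `isRegularRing_tensor_of_isRegularHom` : for a regular hom `A → B` and any field `K` over `A`,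
  `K ⊗[A] B` is regular as soon as it is Noetherian.
* `isRegularHom_of_forall_finite`
APPEND-ONLY once landed.
-/

set_option autoImplicit false
set_option maxSynthPendingDepth 3

namespace Groth.Agent.Lib.RegFlatH3

open TensorProduct IsLocalRing

universe u

section Local

variable {A B : Type*} [CommRing A] [CommRing B] [IsLocalRing A] [IsLocalRing B]
  [IsNoetherianRing A] [IsNoetherianRing B] [Algebra A B] [IsLocalHom (algebraMap A B)]

theorem map_mk_maximalIdeal (I : Ideal B) [IsLocalRing (B ⧸ I)] :
    (maximalIdeal B).map (Ideal.Quotient.mk I) = maximalIdeal (B ⧸ I) := by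
  haveI : IsLocalHom (Ideal.Quotient.mk I) :=
    IsLocalHom.of_surjective _ Ideal.Quotient.mk_surjective
  rw [← IsLocalRing.maximalIdeal_comap (Ideal.Quotient.mk I),
    Ideal.map_comap_of_surjective _ Ideal.Quotient.mk_surjective]

theorem spanFinrank_maximalIdeal_le_add (I : Ideal B)
    (hI : I = (maximalIdeal A).map (algebraMap A B)) [IsLocalRing (B ⧸ I)] :
    (maximalIdeal B).spanFinrank ≤
      (maximalIdeal A).spanFinrank + (maximalIdeal (B ⧸ I)).spanFinrank := by
  classical
  have hfgA : Submodule.FG (maximalIdeal A) := IsNoetherian.noetherian _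
  haveI : IsNoetherianRing (B ⧸ I) := inferInstance
  have hfg0 : Submodule.FG (maximalIdeal (B ⧸ I)) := IsNoetherian.noetherian _
  set s : Set A := Submodule.generators (maximalIdeal A) with hs
  set t : Set (B ⧸ I) := Submodule.generators (maximalIdeal (B ⧸ I)) with ht
  have hsfin : s.Finite := hfgA.finite_generators
  have htfin : t.Finite := hfg0.finite_generators
  have hsspan : Ideal.span s = maximalIdeal A := Submodule.span_generators _
  have htspan : Ideal.span t = maximalIdeal (B ⧸ I) := Submodule.span_generators _
  have hscard : s.ncard = (maximalIdeal A).spanFinrank := hfgA.generators_ncard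
  have htcard : t.ncard = (maximalIdeal (B ⧸ I)).spanFinrank := hfg0.generators_ncard
  have hmk : Function.Surjective (Ideal.Quotient.mk I) := Ideal.Quotient.mk_surjective
  set t' : Set B := Function.surjInv hmk '' t with ht'
  have ht'img : (Ideal.Quotient.mk I) '' t' = t := by
    rw [ht', Set.image_image]
    simp [Function.surjInv_eq hmk]
  haveI : IsLocalHom (Ideal.Quotient.mk I) := IsLocalHom.of_surjective _ hmk
  have hcomap : (maximalIdeal (B ⧸ I)).comap (Ideal.Quotient.mk I) = maximalIdeal B :=
    IsLocalRing.maximalIdeal_comap _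
  have h1 : maximalIdeal B = Ideal.span t' ⊔ I := by
    rw [← hcomap, ← htspan, ← ht'img, ← Ideal.map_span,
      Ideal.comap_map_of_surjective _ hmk, ← RingHom.ker_eq_comap_bot, Ideal.mk_ker]
  have h2 : I = Ideal.span (algebraMap A B '' s) := by
    rw [hI, ← hsspan, Ideal.map_span]
  have h3 : maximalIdeal B = Ideal.span (t' ∪ algebraMap A B '' s) := by
    rw [Ideal.span_union, ← h2, ← h1]
  have hfin : (t' ∪ algebraMap A B '' s).Finite := (htfin.image _).union (hsfin.image _)
  calc (maximalIdeal B).spanFinrank
      = (Ideal.span (t' ∪ algebraMap A B '' s)).spanFinrank := by rw [← h3]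
    _ ≤ (t' ∪ algebraMap A B '' s).ncard := Submodule.spanFinrank_span_le_ncard_of_finite hfin
    _ ≤ t'.ncard + (algebraMap A B '' s).ncard := Set.ncard_union_le _ _
    _ ≤ t.ncard + s.ncard := add_le_add (Set.ncard_image_le htfin) (Set.ncard_image_le hsfin)
    _ = _ := by rw [hscard, htcard, add_comm]

theorem ringKrullDim_le_add (I : Ideal B)
    (hI : I = (maximalIdeal A).map (algebraMap A B)) [IsLocalRing (B ⧸ I)] :
    ringKrullDim B ≤ ringKrullDim A + ringKrullDim (B ⧸ I) := by
  subst hI
  have h := Ideal.height_le_height_add_of_liesOver (maximalIdeal A) (maximalIdeal B)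
  rw [map_mk_maximalIdeal] at h
  rw [← IsLocalRing.maximalIdeal_height_eq_ringKrullDim,
    ← IsLocalRing.maximalIdeal_height_eq_ringKrullDim (R := A),
    ← IsLocalRing.maximalIdeal_height_eq_ringKrullDim
      (R := B ⧸ (maximalIdeal A).map (algebraMap A B)), ← WithBot.coe_add]
  exact WithBot.coe_le_coe.mpr h

theorem ringKrullDim_eq_add_of_flat [Module.Flat A B] (I : Ideal B)
    (hI : I = (maximalIdeal A).map (algebraMap A B)) [IsLocalRing (B ⧸ I)] :
    ringKrullDim B = ringKrullDim A + ringKrullDim (B ⧸ I) := by
  subst hI
  have h := Ideal.height_eq_height_add_of_liesOver_of_hasGoingDown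
    (maximalIdeal A) (maximalIdeal B)
  rw [map_mk_maximalIdeal] at h
  rw [← IsLocalRing.maximalIdeal_height_eq_ringKrullDim,
    ← IsLocalRing.maximalIdeal_height_eq_ringKrullDim (R := A),
    ← IsLocalRing.maximalIdeal_height_eq_ringKrullDim
      (R := B ⧸ (maximalIdeal A).map (algebraMap A B)), ← WithBot.coe_add, h]

/-- **Regularity ascends along flat local homomorphisms with regular closed fibre.** -/
theorem isRegularLocalRing_of_flat [Module.Flat A B] [IsRegularLocalRing A] (I : Ideal B)
    (hI : I = (maximalIdeal A).map (algebraMap A B)) [IsRegularLocalRing (B ⧸ I)] :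
    IsRegularLocalRing B := by
  apply IsRegularLocalRing.of_spanFinrank_maximalIdeal_le
  have h1 := spanFinrank_maximalIdeal_le_add (A := A) I hI
  have h2 := ringKrullDim_eq_add_of_flat (A := A) I hI
  have hA : ((maximalIdeal A).spanFinrank : WithBot ℕ∞) = ringKrullDim A :=
    IsRegularLocalRing.spanFinrank_maximalIdeal
  have h0 : ((maximalIdeal (B ⧸ I)).spanFinrank : WithBot ℕ∞) = ringKrullDim (B ⧸ I) :=
    IsRegularLocalRing.spanFinrank_maximalIdeal
  rw [h2, ← hA, ← h0]
  exact_mod_cast h1

end Local

section Fiber

variable (R S : Type u) [CommRing R] [CommRing S] [Algebra R S]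

theorem isNoetherianRing_tensor_of_essFiniteType' [IsNoetherianRing S] (K : Type u) [CommRing K]
    [Algebra R K] [Algebra.EssFiniteType R K] : IsNoetherianRing (K ⊗[R] S) := by
  haveI : IsNoetherianRing (S ⊗[R] K) := Algebra.EssFiniteType.isNoetherianRing S (S ⊗[R] K)
  exact isNoetherianRing_of_ringEquiv (S ⊗[R] K) (Algebra.TensorProduct.comm R S K).toRingEquiv

theorem isNoetherianRing_fiber [IsNoetherianRing S] (p : Ideal R) [p.IsPrime] :
    IsNoetherianRing (p.Fiber S) :=
  isNoetherianRing_tensor_of_essFiniteType' R S p.ResidueField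

theorem isRegularLocalRing_localization_comap [IsNoetherianRing S] [Module.Flat R S]
    (p : Ideal R) [p.IsPrime] [IsRegularLocalRing (Localization.AtPrime p)]
    [IsRegularRing (p.Fiber S)] (q : Ideal (p.Fiber S)) [q.IsPrime] :
    IsRegularLocalRing (Localization.AtPrime
      (q.comap (Algebra.TensorProduct.includeRight : S →ₐ[R] p.Fiber S))) := by
  set r := q.comap (Algebra.TensorProduct.includeRight : S →ₐ[R] p.Fiber S) with hr
  letI := Localization.AtPrime.algebraOfLiesOver p r
  let e := Ideal.Fiber.localizationAlgEquivQuotient p q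
  haveI : IsNoetherianRing (Localization.AtPrime r) :=
    IsLocalization.isNoetherianRing r.primeCompl _ inferInstance
  haveI : Module.Flat R (Localization.AtPrime r) := inferInstance
  haveI : Module.Flat (Localization.AtPrime p) (Localization.AtPrime r) := by
    rw [Module.flat_iff_of_isLocalization (Localization.AtPrime p) p.primeCompl]
    infer_instance
  haveI h0 : IsRegularLocalRing
      (Localization.AtPrime r ⧸ p.map (algebraMap R (Localization.AtPrime r))) :=
    IsRegularLocalRing.of_ringEquiv e.toRingEquiv
  have hI : p.map (algebraMap R (Localization.AtPrime r)) =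
      (maximalIdeal (Localization.AtPrime p)).map
        (algebraMap (Localization.AtPrime p) (Localization.AtPrime r)) := by
    rw [← Localization.AtPrime.map_eq_maximalIdeal, Ideal.map_map,
      ← IsScalarTower.algebraMap_eq]
  exact isRegularLocalRing_of_flat (A := Localization.AtPrime p) _ hI

/-- Flat over a regular ring with regular fibres, Noetherian ⇒ regular. -/
theorem isRegularRing_of_flat_of_fiber [IsRegularRing R] [IsNoetherianRing S] [Module.Flat R S]
    (h : ∀ (p : Ideal R) [p.IsPrime], IsRegularRing (p.Fiber S)) : IsRegularRing S := by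
  rw [isRegularRing_iff]
  intro Q hQ
  let p := Q.under R
  haveI : p.IsPrime := inferInstance
  haveI := h p
  let Q' : p.primesOver S := ⟨Q, hQ, ⟨rfl⟩⟩
  let q := PrimeSpectrum.primesOverOrderIsoFiber R S p Q'
  have hq : q.asIdeal.comap (Algebra.TensorProduct.includeRight : S →ₐ[R] p.Fiber S) = Q := by
    have := (PrimeSpectrum.primesOverOrderIsoFiber R S p).symm_apply_apply Q'
    rw [← PrimeSpectrum.coe_primesOverOrderIsoFiber_symm_apply]
    exact congrArg Subtype.val this
  have key := isRegularLocalRing_localization_comap R S p q.asIdeal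
  have tr : ∀ (r : Ideal S) [r.IsPrime], r = Q →
      IsRegularLocalRing (Localization.AtPrime r) → IsRegularLocalRing (Localization.AtPrime Q) := by
    intro r _ e hreg
    subst e
    exact hreg
  exact tr _ hq key

theorem isRegularRing_of_isGeometricallyRegular (k T : Type u) [Field k] [CommRing T] [Algebra k T]
    (h : CAlg.IsGeometricallyRegular k T) : IsRegularRing T := by
  haveI := h k (Module.Finite.self k)
  exact IsRegularRing.of_ringEquiv (Algebra.TensorProduct.lid k T).toRingEquiv

end Fiber

section RegHom

variable (A B : Type u) [CommRing A] [CommRing B] [Algebra A B]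

/-- For a regular homomorphism `A → B` and any field `K` over `A`, `K ⊗[A] B` is regular as soon
as it is Noetherian. -/
theorem isRegularRing_tensor_of_isRegularHom (h : CAlg.IsRegularHom A B) (K : Type u) [Field K]
    [Algebra A K] [IsNoetherianRing (K ⊗[A] B)] : IsRegularRing (K ⊗[A] B) := by
  let p : Ideal A := RingHom.ker (algebraMap A K)
  haveI : p.IsPrime := RingHom.ker_isPrime _
  obtain ⟨hN, hG⟩ := h.2 p
  let φ : p.ResidueField →+* K := Ideal.ResidueField.lift p (algebraMap A K) le_rfl (by
    intro x hx
    simp only [Submonoid.mem_comap, IsUnit.mem_submonoid_iff]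
    exact isUnit_iff_ne_zero.mpr (fun h0 => hx (by simpa [p, RingHom.mem_ker] using h0)))
  letI : Algebra p.ResidueField K := φ.toAlgebra
  haveI : IsScalarTower A p.ResidueField K := IsScalarTower.of_algebraMap_eq
    (fun x => (Ideal.ResidueField.lift_algebraMap p _ _ _ x).symm)
  let e : K ⊗[p.ResidueField] (p.Fiber B) ≃ₐ[K] K ⊗[A] B :=
    Algebra.TensorProduct.cancelBaseChange A p.ResidueField K K B
  haveI : IsNoetherianRing (K ⊗[p.ResidueField] (p.Fiber B)) :=
    isNoetherianRing_of_ringEquiv _ e.symm.toRingEquiv
  haveI := hN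
  have hadic := (Groth.Agent.Lib.GeomRegFSH3.isGeometricallyRegular_iff_forall_adic
    (k := p.ResidueField) (S := p.Fiber B)).mp hG
  haveI := Groth.Agent.Lib.GeomRegFSH3.isRegularRing_tensor_of_forall_adic hadic K
  exact IsRegularRing.of_ringEquiv e.toRingEquiv

theorem isRegularHom_of_forall_finite (hflat : Module.Flat A B)
    (hN : ∀ (p : Ideal A) [p.IsPrime], IsNoetherianRing (p.Fiber B))
    (hK : ∀ (p : Ideal A) [p.IsPrime] (K : Type u) [Field K] [Algebra A K]
      [Algebra p.ResidueField K] [IsScalarTower A p.ResidueField K],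
      Module.Finite p.ResidueField K → IsRegularRing (K ⊗[A] B)) :
    CAlg.IsRegularHom A B := by
  refine ⟨hflat, fun p hp => ⟨hN p, ?_⟩⟩
  intro k' _ _ hfin
  letI : Algebra A k' := Algebra.compHom k' (algebraMap A p.ResidueField)
  haveI : IsScalarTower A p.ResidueField k' := IsScalarTower.of_algebraMap_eq (fun _ => rfl)
  haveI := hK p k' hfin
  exact IsRegularRing.of_ringEquiv
    (Algebra.TensorProduct.cancelBaseChange A p.ResidueField k' k' B).symm.toRingEquiv

/-- For a regular homomorphism, finite extensions of residue fields give Noetherian rings. -/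
theorem isNoetherianRing_tensor_of_finite_residueField
    (p : Ideal A) [p.IsPrime] [IsNoetherianRing (p.Fiber B)] (K : Type u) [Field K] [Algebra A K]
    [Algebra p.ResidueField K] [IsScalarTower A p.ResidueField K]
    [Module.Finite p.ResidueField K] : IsNoetherianRing (K ⊗[A] B) := by
  haveI := Groth.Agent.Lib.GeomRegFSH3.isNoetherianRing_tensor_of_finite
    (k := p.ResidueField) (S := p.Fiber B) K
  exact isNoetherianRing_of_ringEquiv _
    (Algebra.TensorProduct.cancelBaseChange A p.ResidueField K K B).toRingEquiv

end RegHom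

end Groth.Agent.Lib.RegFlatH3
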