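import Mathlib
import Groth.Prelude.Def_CAlg
import Groth.Prelude.Def_EGA4b
import Groth.Agent.Lib.DepthTensor_helper5
import Groth.Agent.Lib.DepthRingChange_helper5
import Groth.Agent.Lib.DepthRefl_helper5
import Groth.Agent.Lib.DepthLoc_helper5
import Groth.Agent.Lib.RegFlat_helper3

/-!
# Depth, dimension, Cohen–Macaulayness and `(S_k)` along flat homomorphisms (helper9)

* `depth_ringEquiv`, local: `depth_eq_add`, `dim_eq_add`
* global: `depth_localization_eq_add`, `dim_localization_eq_add` for a flat map of Noetherian rings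
  `R → S` and a prime `Q` of `S`, in terms of `EGA4.FibLocRing R S Q`
* `exists_fibre_equiv`: `FibLocRing R S Q` is a localisation of the fibre ring `(Q ∩ R).Fiber S`.
APPEND-ONLY once landed.
-/

set_option autoImplicit false
universe u

namespace Groth.Agent.FlatCM

open IsLocalRing TensorProduct Groth.Agent.DepthLib

section RingEquiv

/-- Depth of a local ring over itself is invariant under ring isomorphisms. -/
theorem depth_ringEquiv {A A' : Type u} [CommRing A] [CommRing A'] [IsLocalRing A] [IsLocalRing A']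
    [IsNoetherianRing A] [IsNoetherianRing A'] (e : A ≃+* A') :
    LocCoh.depth A A = LocCoh.depth A' A' := by
  letI : Algebra A A' := e.toRingHom.toAlgebra
  have : IsLocalHom (algebraMap A A') := by
    exact IsLocalHom.of_surjective _ e.surjective
  let l : A ≃ₗ[A] A' :=
    { e with
      map_smul' := fun a x => by
        change e (a * x) = e a * e x
        exact map_mul e a x }
  have : Module.Finite A A' := Module.Finite.equiv l
  rw [← depth_eq_of_isLocalHom A A' A']
  exact idealDepth_congr _ _ l

end RingEquiv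

section Local

variable (A B : Type u) [CommRing A] [CommRing B] [IsLocalRing A] [IsLocalRing B]
  [IsNoetherianRing A] [IsNoetherianRing B] [Algebra A B] [IsLocalHom (algebraMap A B)]

/-- `depth B = depth A + depth (B / m_A B)` for a flat local homomorphism. -/
theorem depth_eq_add [Module.Flat A B] :
    LocCoh.depth B B = LocCoh.depth A A + LocCoh.depth (EGA4.FibRing A B) (EGA4.FibRing A B) := by
  have h := Groth.Agent.DepthTensor.depth_tensor (R := A) (S := B) A B
  have e1 : (B ⊗[A] A) ≃ₗ[B] B := TensorProduct.AlgebraTensorModule.rid A B B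
  have h1 : LocCoh.depth B (B ⊗[A] A) = LocCoh.depth B B := idealDepth_congr _ _ e1
  have hI : (EGA4.mB A B • (⊤ : Submodule B B)) = EGA4.mB A B := by
    rw [smul_eq_mul, Ideal.mul_top]
  have e2 : Groth.Agent.DepthTensor.Fib A B B ≃ₗ[B] EGA4.FibRing A B :=
    Submodule.quotEquivOfEq _ _ hI
  have h2 : LocCoh.depth B (Groth.Agent.DepthTensor.Fib A B B) =
      LocCoh.depth B (EGA4.FibRing A B) := idealDepth_congr _ _ e2
  have : IsLocalHom (algebraMap B (EGA4.FibRing A B)) :=
    IsLocalHom.of_surjective _ Ideal.Quotient.mk_surjective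
  have h3 : LocCoh.depth B (EGA4.FibRing A B) =
      LocCoh.depth (EGA4.FibRing A B) (EGA4.FibRing A B) :=
    depth_eq_of_isLocalHom B (EGA4.FibRing A B) (EGA4.FibRing A B)
  rw [← h1, h, h2, h3]

/-- `dim B = dim A + dim (B / m_A B)` for a flat local homomorphism. -/
theorem dim_eq_add [Module.Flat A B] :
    ringKrullDim B = ringKrullDim A + ringKrullDim (EGA4.FibRing A B) :=
  Groth.Agent.Lib.RegFlatH3.ringKrullDim_eq_add_of_flat (A := A) (EGA4.mB A B) rfl

end Local

section Global

variable (R S : Type u) [CommRing R] [CommRing S] [Algebra R S]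

/-- The fibre local ring is a nontrivial quotient of a local ring. -/
theorem fibLocRing_ideal_le (Q : Ideal S) [Q.IsPrime] :
    (Q.comap (algebraMap R S)).map (algebraMap R (Localization.AtPrime Q)) ≤
      maximalIdeal (Localization.AtPrime Q) := by
  rw [Ideal.map_le_iff_le_comap]
  intro x hx
  rw [Ideal.mem_comap, IsScalarTower.algebraMap_apply R S (Localization.AtPrime Q), ← Ideal.mem_comap]
  have hcm : (maximalIdeal (Localization.AtPrime Q)).comap (algebraMap S (Localization.AtPrime Q)) = Q :=
    Localization.AtPrime.under_maximalIdeal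
  rw [hcm]
  exact hx

instance nontrivial_fibLocRing (Q : Ideal S) [Q.IsPrime] : Nontrivial (EGA4.FibLocRing R S Q) :=
  Ideal.Quotient.nontrivial_iff.2 (fun h => (IsLocalRing.maximalIdeal.isMaximal _).ne_top
    (top_le_iff.1 (h ▸ fibLocRing_ideal_le R S Q)))

instance isLocalRing_fibLocRing (Q : Ideal S) [Q.IsPrime] : IsLocalRing (EGA4.FibLocRing R S Q) :=
  IsLocalRing.of_surjective' (Ideal.Quotient.mk _) Ideal.Quotient.mk_surjective

variable [IsNoetherianRing R] [IsNoetherianRing S] [Module.Flat R S]

/-- Depth formula for a flat map of Noetherian rings at a prime `Q` of the target. -/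
theorem depth_dim_localization_eq_add (Q : Ideal S) [Q.IsPrime] :
    LocCoh.depth (Localization.AtPrime Q) (Localization.AtPrime Q) =
      LocCoh.depth (Localization.AtPrime (Q.comap (algebraMap R S)))
        (Localization.AtPrime (Q.comap (algebraMap R S))) +
      LocCoh.depth (EGA4.FibLocRing R S Q) (EGA4.FibLocRing R S Q) ∧
    ringKrullDim (Localization.AtPrime Q) =
      ringKrullDim (Localization.AtPrime (Q.comap (algebraMap R S))) +
      ringKrullDim (EGA4.FibLocRing R S Q) := by
  set p := Q.comap (algebraMap R S) with hp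
  haveI : Q.LiesOver p := ⟨rfl⟩
  letI := Localization.AtPrime.algebraOfLiesOver p Q
  haveI : IsLocalHom (algebraMap (Localization.AtPrime p) (Localization.AtPrime Q)) :=
    Localization.isLocalHom_localRingHom _ _ _ _
  haveI : Module.Flat R (Localization.AtPrime Q) := Module.Flat.trans R S (Localization.AtPrime Q)
  haveI : Module.Flat (Localization.AtPrime p) (Localization.AtPrime Q) := by
    rw [Module.flat_iff_of_isLocalization (Localization.AtPrime p) p.primeCompl]
    infer_instance
  have hI : (maximalIdeal (Localization.AtPrime p)).map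
      (algebraMap (Localization.AtPrime p) (Localization.AtPrime Q)) =
      p.map (algebraMap R (Localization.AtPrime Q)) := by
    rw [← Localization.AtPrime.map_eq_maximalIdeal, Ideal.map_map,
      ← IsScalarTower.algebraMap_eq]
  let e : EGA4.FibRing (Localization.AtPrime p) (Localization.AtPrime Q) ≃+*
      EGA4.FibLocRing R S Q := Ideal.quotEquivOfEq hI
  refine ⟨?_, ?_⟩
  · rw [depth_eq_add (Localization.AtPrime p) (Localization.AtPrime Q), depth_ringEquiv e]
  · rw [dim_eq_add (Localization.AtPrime p) (Localization.AtPrime Q),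
      ringKrullDim_eq_of_ringEquiv e]

end Global

section FibreEquiv

variable (R S : Type u) [CommRing R] [CommRing S] [Algebra R S]

/-- The localisation of the fibre ring at a prime is the fibre local ring at the corresponding
prime of `S`. -/
theorem fibre_equiv_of_prime (p : Ideal R) [p.IsPrime] (q : Ideal (p.Fiber S)) [q.IsPrime] :
    Nonempty (Localization.AtPrime q ≃+*
      EGA4.FibLocRing R S (q.comap (Algebra.TensorProduct.includeRight : S →ₐ[R] p.Fiber S))) := by
  set r := q.comap (Algebra.TensorProduct.includeRight : S →ₐ[R] p.Fiber S) with hr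
  letI := Localization.AtPrime.algebraOfLiesOver p r
  let e := Ideal.Fiber.localizationAlgEquivQuotient p q
  have hp : p = r.comap (algebraMap R S) := Ideal.LiesOver.over
  have hI : p.map (algebraMap R (Localization.AtPrime r)) =
      (r.comap (algebraMap R S)).map (algebraMap R (Localization.AtPrime r)) := by
    rw [← hp]
  exact ⟨e.toRingEquiv.trans (Ideal.quotEquivOfEq hI)⟩

/-- Every fibre local ring is the localisation of the fibre ring at a prime. -/
theorem exists_fibre_equiv (Q : Ideal S) [Q.IsPrime] :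
    ∃ (q : Ideal ((Q.comap (algebraMap R S)).Fiber S)) (_ : q.IsPrime),
      Nonempty (Localization.AtPrime q ≃+* EGA4.FibLocRing R S Q) := by
  set p := Q.comap (algebraMap R S) with hp
  let Q' : p.primesOver S := ⟨Q, inferInstance, ⟨rfl⟩⟩
  let q := PrimeSpectrum.primesOverOrderIsoFiber R S p Q'
  have hq : q.asIdeal.comap (Algebra.TensorProduct.includeRight : S →ₐ[R] p.Fiber S) = Q := by
    have := (PrimeSpectrum.primesOverOrderIsoFiber R S p).symm_apply_apply Q'
    rw [← PrimeSpectrum.coe_primesOverOrderIsoFiber_symm_apply]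
    exact congrArg Subtype.val this
  refine ⟨q.asIdeal, q.isPrime, ?_⟩
  have key := fibre_equiv_of_prime R S p q.asIdeal
  have tr : ∀ (r : Ideal S) [r.IsPrime], r = Q →
      Nonempty (Localization.AtPrime q.asIdeal ≃+* EGA4.FibLocRing R S r) →
      Nonempty (Localization.AtPrime q.asIdeal ≃+* EGA4.FibLocRing R S Q) := by
    intro r _ e h
    subst e
    exact h
  exact tr _ hq key

end FibreEquiv

section Arith

theorem exists_nat_ringKrullDim (R : Type*) [CommRing R] [IsLocalRing R] [IsNoetherianRing R] :
    ∃ a : ℕ, ringKrullDim R = (a : WithBot ℕ∞) := by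
  have h1 : ringKrullDim R ≠ ⊤ := ringKrullDim_ne_top
  have h2 : ringKrullDim R ≠ ⊥ := ringKrullDim_ne_bot
  generalize ringKrullDim R = d at h1 h2
  induction d with
  | bot => exact absurd rfl h2
  | coe d =>
    induction d with
    | top => exact absurd rfl h1
    | coe m => exact ⟨m, rfl⟩

theorem min_add_le (k a f : ℕ∞) : min k (a + f) ≤ min k a + min k f := by
  rcases le_total k a with h | h
  · rw [min_eq_left h]
    exact (min_le_left _ _).trans le_self_add
  · rw [min_eq_right h]
    rcases le_total k f with h' | h'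
    · rw [min_eq_left h']
      exact (min_le_left _ _).trans le_add_self
    · rw [min_eq_right h']
      exact min_le_right _ _

/-- `depth R ≤ dim R` for a Noetherian local ring. -/
theorem depth_le_dim (R : Type u) [CommRing R] [IsLocalRing R] [IsNoetherianRing R] :
    ((LocCoh.depth R R : ℕ∞) : WithBot ℕ∞) ≤ ringKrullDim R := by
  rw [← Module.supportDim_self_eq_ringKrullDim]
  exact depth_le_supportDim R R

end Arith

section Sk

/-- `(S_k)` for a ring in terms of its local rings. -/
theorem hasSk_self_iff (k : ℕ) (R : Type u) [CommRing R] :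
    LocCoh.HasSk k R R ↔ ∀ (p : Ideal R) [p.IsPrime],
      min (k : WithBot ℕ∞) (ringKrullDim (Localization.AtPrime p)) ≤
        ((LocCoh.depth (Localization.AtPrime p) (Localization.AtPrime p) : ℕ∞) : WithBot ℕ∞) := by
  unfold LocCoh.HasSk
  refine forall_congr' fun p => forall_congr' fun hp => ?_
  rw [depth_locSelf, supportDim_locSelf, IsLocalization.AtPrime.ringKrullDim_eq_height p]

variable (R S : Type u) [CommRing R] [CommRing S] [Algebra R S]
  [IsNoetherianRing R] [IsNoetherianRing S] [Module.Flat R S]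

/-- The inequality `(S_k)` at `Q` from the inequalities for the base and the fibre. -/
theorem sk_at_of_flat (k : ℕ) (Q : Ideal S) [Q.IsPrime]
    (hR : min (k : WithBot ℕ∞) (ringKrullDim (Localization.AtPrime (Q.comap (algebraMap R S)))) ≤
      ((LocCoh.depth (Localization.AtPrime (Q.comap (algebraMap R S)))
        (Localization.AtPrime (Q.comap (algebraMap R S))) : ℕ∞) : WithBot ℕ∞))
    (hF : min (k : WithBot ℕ∞) (ringKrullDim (EGA4.FibLocRing R S Q)) ≤
      ((LocCoh.depth (EGA4.FibLocRing R S Q) (EGA4.FibLocRing R S Q) : ℕ∞) : WithBot ℕ∞)) :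
    min (k : WithBot ℕ∞) (ringKrullDim (Localization.AtPrime Q)) ≤
      ((LocCoh.depth (Localization.AtPrime Q) (Localization.AtPrime Q) : ℕ∞) : WithBot ℕ∞) := by
  obtain ⟨h1, h2⟩ := depth_dim_localization_eq_add R S Q
  obtain ⟨a, ha⟩ := exists_nat_ringKrullDim (Localization.AtPrime (Q.comap (algebraMap R S)))
  haveI : IsNoetherianRing (Localization.AtPrime Q) :=
    IsLocalization.isNoetherianRing Q.primeCompl _ inferInstance
  haveI : IsNoetherianRing (EGA4.FibLocRing R S Q) := inferInstance
  obtain ⟨f, hf⟩ := exists_nat_ringKrullDim (EGA4.FibLocRing R S Q)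
  rw [h1, h2]
  rw [ha] at hR ⊢
  rw [hf] at hF ⊢
  have hR' : min (k : ℕ∞) (a : ℕ∞) ≤ LocCoh.depth (Localization.AtPrime (Q.comap (algebraMap R S)))
        (Localization.AtPrime (Q.comap (algebraMap R S))) := by
    have : ((min (k : ℕ∞) (a : ℕ∞) : ℕ∞) : WithBot ℕ∞) = min (k : WithBot ℕ∞) ((a : ℕ) : WithBot ℕ∞) := by
      rw [WithBot.coe_min]; rfl
    exact WithBot.coe_le_coe.1 (this ▸ hR)
  have hF' : min (k : ℕ∞) (f : ℕ∞) ≤
      LocCoh.depth (EGA4.FibLocRing R S Q) (EGA4.FibLocRing R S Q) := by
    have : ((min (k : ℕ∞) (f : ℕ∞) : ℕ∞) : WithBot ℕ∞) = min (k : WithBot ℕ∞) ((f : ℕ) : WithBot ℕ∞) := by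
      rw [WithBot.coe_min]; rfl
    exact WithBot.coe_le_coe.1 (this ▸ hF)
  have key : min (k : ℕ∞) ((a : ℕ∞) + (f : ℕ∞)) ≤
      LocCoh.depth (Localization.AtPrime (Q.comap (algebraMap R S)))
        (Localization.AtPrime (Q.comap (algebraMap R S))) +
      LocCoh.depth (EGA4.FibLocRing R S Q) (EGA4.FibLocRing R S Q) :=
    (min_add_le _ _ _).trans (add_le_add hR' hF')
  have h3 : min (k : WithBot ℕ∞) (((a : ℕ) : WithBot ℕ∞) + ((f : ℕ) : WithBot ℕ∞)) =
      ((min (k : ℕ∞) ((a : ℕ∞) + (f : ℕ∞)) : ℕ∞) : WithBot ℕ∞) := by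
    rw [WithBot.coe_min]; rfl
  rw [h3]
  exact WithBot.coe_le_coe.2 key

/-- **(S_k) ascends along flat maps with (S_k) fibres.** -/
theorem hasSk_of_flat (k : ℕ) (hR : LocCoh.HasSk k R R)
    (hfib : ∀ (p : Ideal R) [p.IsPrime], LocCoh.HasSk k (p.Fiber S) (p.Fiber S)) :
    LocCoh.HasSk k S S := by
  rw [hasSk_self_iff] at hR ⊢
  intro Q hQ
  refine sk_at_of_flat R S k Q (hR _) ?_
  obtain ⟨q, hq, ⟨e⟩⟩ := exists_fibre_equiv R S Q
  have h := (hasSk_self_iff k _).1 (hfib (Q.comap (algebraMap R S))) q
  haveI : IsNoetherianRing ((Q.comap (algebraMap R S)).Fiber S) :=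
    Groth.Agent.Lib.RegFlatH3.isNoetherianRing_fiber R S _
  haveI : IsNoetherianRing (Localization.AtPrime q) :=
    IsLocalization.isNoetherianRing q.primeCompl _ inferInstance
  haveI : IsNoetherianRing (Localization.AtPrime Q) :=
    IsLocalization.isNoetherianRing Q.primeCompl _ inferInstance
  haveI : IsNoetherianRing (EGA4.FibLocRing R S Q) := inferInstance
  rw [← depth_ringEquiv (A := Localization.AtPrime q) (A' := EGA4.FibLocRing R S Q) e,
    ← ringKrullDim_eq_of_ringEquiv e]
  exact h

end Sk

end Groth.Agent.FlatCM
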