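import Mathlib
import Groth.Prelude.Def_W4bk5brsh7111920
import Groth.Agent.Lib.AusBuch_helper5
import Groth.Agent.Lib.Serre_helper5
import Groth.Agent.Lib.ExtTop_helper5
import Groth.Agent.Lib.Regular4_helper5
import Groth.Agent.Lib.GlDim_helper5

/-!
# Adjusted depth over a regular local ring (helper5)
-/

universe u

open CategoryTheory IsLocalRing

namespace Groth.Agent.AdjDepth

theorem key (R : Type u) [CommRing R] [IsRegularLocalRing R] (d : ℕ) (hd : ringKrullDim R = d)
    (M : Type u) [AddCommGroup M] [Module R M] [Module.Finite R M] (p : PrimeSpectrum R) (t : ℕ)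
    (hp : ¬ HasProjectiveDimensionLE (ModuleCat.of (Localization.AtPrime p.asIdeal)
      (LocalizedModule p.asIdeal.primeCompl M)) t)
    (h' : (d : ℕ∞) ≤ (t : ℕ∞) + LocCoh.adjDepth (maximalIdeal R) M p) : False := by
  haveI hreg : IsRegularLocalRing (Localization.AtPrime p.asIdeal) :=
    Groth.Agent.Serre.localization_regular R p.asIdeal
  obtain ⟨h, hh⟩ := ENat.ne_top_iff_exists.mp (Ideal.height_ne_top_of_isPrime (I := p.asIdeal))
  have hdimA : ringKrullDim (Localization.AtPrime p.asIdeal) = (h : WithBot ℕ∞) := by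
    rw [IsLocalization.AtPrime.ringKrullDim_eq_height p.asIdeal, ← hh]; rfl
  haveI hNnt : Nontrivial (LocalizedModule p.asIdeal.primeCompl M) := by
    by_contra hN
    rw [not_nontrivial_iff_subsingleton] at hN
    apply hp
    haveI := (ModuleCat.isZero_of_subsingleton (ModuleCat.of (Localization.AtPrime p.asIdeal)
      (LocalizedModule p.asIdeal.primeCompl M))).hasProjectiveDimensionLT_zero
    exact hasProjectiveDimensionLT_of_ge _ 0 (t + 1) (Nat.zero_le _)
  haveI : Module.Finite (Localization.AtPrime p.asIdeal)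
      (LocalizedModule p.asIdeal.primeCompl M) :=
    Module.Finite.of_isLocalizedModule p.asIdeal.primeCompl
      (Rₚ := Localization.AtPrime p.asIdeal)
      (LocalizedModule.mkLinearMap p.asIdeal.primeCompl M)
  have hpdfin := Groth.Agent.GlDim.hasProjectiveDimensionLT_of_regular
    (Localization.AtPrime p.asIdeal) h hdimA (LocalizedModule p.asIdeal.primeCompl M)
  obtain ⟨e, he1, he2⟩ := Groth.Agent.ExtTop.exists_pd
    (LocalizedModule p.asIdeal.primeCompl M) ⟨h + 1, hpdfin⟩
  have hte : t + 1 ≤ e := by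
    by_contra hlt
    apply hp
    haveI := he1
    exact hasProjectiveDimensionLT_of_ge _ (e + 1) (t + 1) (by omega)
  have hpd : projectiveDimension (ModuleCat.of (Localization.AtPrime p.asIdeal)
      (LocalizedModule p.asIdeal.primeCompl M)) = (e : WithBot ℕ∞) :=
    le_antisymm ((projectiveDimension_le_iff _ e).mpr he1)
      ((projectiveDimension_ge_iff _ e).mpr he2)
  have hAB := Groth.Agent.AB.auslander_buchsbaum (Localization.AtPrime p.asIdeal)
    (LocalizedModule p.asIdeal.primeCompl M) e hpd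
  have hdepA : LocCoh.depth (Localization.AtPrime p.asIdeal) (Localization.AtPrime p.asIdeal)
      = h := Groth.Agent.ExtTop.regular_depth (Localization.AtPrime p.asIdeal) h hdimA
  have hABh : (h : ℕ∞) = e + LocCoh.depth (Localization.AtPrime p.asIdeal)
      (LocalizedModule p.asIdeal.primeCompl M) := by rw [← hdepA]; exact hAB
  -- the height part
  have hmP : maximalIdeal R ⊔ p.asIdeal = maximalIdeal R :=
    sup_eq_left.mpr (IsLocalRing.le_maximalIdeal p.isPrime.ne_top)
  have hIne : (maximalIdeal R ⊔ p.asIdeal).map (Ideal.Quotient.mk p.asIdeal) ≠ ⊤ := by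
    rw [Ne, Ideal.map_eq_top_iff_of_ker_le (Ideal.Quotient.mk p.asIdeal)
      (by rw [Ideal.mk_ker]; exact le_sup_right)
      (RingHom.isIntegral_of_surjective _ Ideal.Quotient.mk_surjective), hmP]
    exact (IsLocalRing.maximalIdeal.isMaximal R).ne_top
  have hc1 : ((((maximalIdeal R ⊔ p.asIdeal).map (Ideal.Quotient.mk p.asIdeal)).height : ℕ∞) :
      WithBot ℕ∞) ≤ ringKrullDim (R ⧸ p.asIdeal) :=
    Ideal.height_le_ringKrullDim_of_ne_top hIne
  have hsum := Groth.Agent.RegularLib.height_add_ringKrullDim_quotient_le p.asIdeal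
  have hd' : ringKrullDim R = ((d : ℕ∞) : WithBot ℕ∞) := by rw [hd]; rfl
  rw [hd', ← hh] at hsum
  have hhc' : (((h : ℕ∞) + ((maximalIdeal R ⊔ p.asIdeal).map
      (Ideal.Quotient.mk p.asIdeal)).height : ℕ∞) : WithBot ℕ∞) ≤ ((d : ℕ∞) : WithBot ℕ∞) := by
    rw [WithBot.coe_add]
    exact le_trans (add_le_add le_rfl hc1) hsum
  have hhc : (h : ℕ∞) + ((maximalIdeal R ⊔ p.asIdeal).map
      (Ideal.Quotient.mk p.asIdeal)).height ≤ (d : ℕ∞) := WithBot.coe_le_coe.mp hhc'
  unfold LocCoh.adjDepth at h'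
  have hδ_ne : LocCoh.depth (Localization.AtPrime p.asIdeal)
      (LocalizedModule p.asIdeal.primeCompl M) ≠ ⊤ := by
    intro htop
    rw [htop] at hABh
    simp at hABh
  have hc_ne : ((maximalIdeal R ⊔ p.asIdeal).map (Ideal.Quotient.mk p.asIdeal)).height ≠ ⊤ := by
    intro htop
    rw [htop] at hhc
    simp at hhc
  obtain ⟨δ, hδ⟩ := ENat.ne_top_iff_exists.mp hδ_ne
  obtain ⟨c', hc'⟩ := ENat.ne_top_iff_exists.mp hc_ne
  rw [← hδ] at hABh h'
  rw [← hc'] at hhc h'
  have h1 : h = e + δ := by exact_mod_cast hABh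
  have h2 : h + c' ≤ d := by exact_mod_cast hhc
  have h3 : d ≤ t + (δ + c') := by exact_mod_cast h'
  omega

/-- S11659 -/
theorem main (R : Type u) [CommRing R] [IsRegularLocalRing R] (d : ℕ) (hd : ringKrullDim R = d)
    (M : Type u) [AddCommGroup M] [Module R M] [Module.Finite R M] (b : Ideal R) (t : ℕ)
    (ht : (d : ℕ∞) ≤ (t : ℕ∞) + LocCoh.minAdjDepth (IsLocalRing.maximalIdeal R) b M) :
    b ≤ (PrimeSpectrum.vanishingIdeal {p : PrimeSpectrum R | ¬ HasProjectiveDimensionLE
      (ModuleCat.of (Localization.AtPrime p.asIdeal)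
        (LocalizedModule p.asIdeal.primeCompl M)) t}) := by
  intro x hx
  rw [PrimeSpectrum.mem_vanishingIdeal]
  intro p hp
  by_contra hxp
  have hbp : ¬ b ≤ p.asIdeal := fun hle => hxp (hle hx)
  have hlam : LocCoh.minAdjDepth (maximalIdeal R) b M ≤ LocCoh.adjDepth (maximalIdeal R) M p := by
    unfold LocCoh.minAdjDepth
    exact iInf₂_le p hbp
  exact key R d hd M p t hp (le_trans ht (add_le_add le_rfl hlam))

end Groth.Agent.AdjDepth
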