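import Mathlib
import Groth.Prelude.Def_CAlg
import Groth.Agent.Lib.CM_helper5
import Groth.Agent.Lib.SupportLoc_helper5
import Groth.Agent.Lib.Regular4_helper5
import Groth.Agent.S5762

/-!
# Chains of primes in a local ring with a Cohen–Macaulay module of full support (helper5)
-/

set_option autoImplicit false
universe u

namespace Groth.Agent.CMChain

open IsLocalRing

section order

theorem coheight_eq_one_of_covBy_top {α : Type*} [PartialOrder α] [OrderTop α] (x : α)
    (h : x ⋖ ⊤) : Order.coheight x = 1 := by
  rw [Order.coheight_eq_iSup_gt_coheight]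
  apply le_antisymm
  · apply iSup₂_le
    intro y hy
    have hy' : y = ⊤ := by
      by_contra hne
      exact h.2 hy (lt_top_iff_ne_top.mpr hne)
    rw [hy', Order.coheight_top, zero_add]
  · exact le_iSup₂_of_le ⊤ h.1 (by simp)

end order

variable (R : Type u) [CommRing R] [IsLocalRing R] [IsNoetherianRing R]
  (M : Type u) [AddCommGroup M] [Module R M] [Module.Finite R M]

theorem supportDim_eq_of_support_eq_univ {R : Type u} [CommRing R] (M : Type u) [AddCommGroup M]
    [Module R M] (hsupp : Module.support R M = Set.univ) :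
    Module.supportDim R M = ringKrullDim R := by
  unfold Module.supportDim
  rw [hsupp]
  exact Order.krullDim_eq_of_orderIso (OrderIso.Set.univ)

/-- the localization of a CM module of full support is CM of full support -/
theorem isCM_localization (hM : LocCoh.IsCohenMacaulayModule R M)
    (hsupp : Module.support R M = Set.univ) (q : Ideal R) [hq : q.IsPrime] :
    LocCoh.IsCohenMacaulayModule (Localization.AtPrime q) (LocalizedModule q.primeCompl M) ∧
      Module.support (Localization.AtPrime q) (LocalizedModule q.primeCompl M) = Set.univ := by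
  have hqM : (⟨q, hq⟩ : PrimeSpectrum R) ∈ Module.support R M := by rw [hsupp]; trivial
  obtain ⟨h1, h2⟩ := Groth.Agent.DepthLib.supportDim_localizedModule_of_isCM M hM q hqM
  refine ⟨?_, ?_⟩
  · unfold LocCoh.IsCohenMacaulayModule
    rw [h1, h2]
  · ext Q
    rw [Groth.Agent.DepthLib.mem_support_localizedModule_iff, hsupp]
    simp

/-- `ht p + dim R/p = dim R` -/
theorem height_add_ringKrullDim_quotient (hM : LocCoh.IsCohenMacaulayModule R M)
    (hsupp : Module.support R M = Set.univ) (p : Ideal R) [hp : p.IsPrime] :
    (p.height : WithBot ℕ∞) + ringKrullDim (R ⧸ p) = ringKrullDim R := by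
  have hpM : (⟨p, hp⟩ : PrimeSpectrum R) ∈ Module.support R M := by rw [hsupp]; trivial
  have h := Groth.Agent.S5762.result R M hM ⟨p, hp⟩ hpM
  have hb := Groth.Agent.DepthLib.supportDim_quotient_smul_top_eq M p hpM
  have hsd := supportDim_eq_of_support_eq_univ M hsupp
  have hloc := supportDim_eq_of_support_eq_univ (LocalizedModule p.primeCompl M)
    (isCM_localization R M hM hsupp p).2
  have hht := IsLocalization.AtPrime.ringKrullDim_eq_height p (Localization.AtPrime p)
  change Module.supportDim R M = Module.supportDim R (M ⧸ (p • (⊤ : Submodule R M))) +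
    Module.supportDim (Localization.AtPrime p) (LocalizedModule p.primeCompl M) at h
  rw [hsd, hb, hloc, hht] at h
  rw [h, add_comm]

/-- If `q` covers `p` in `Spec R` then `ht q = ht p + 1`. -/
theorem height_eq_add_one_of_covBy (hM : LocCoh.IsCohenMacaulayModule R M)
    (hsupp : Module.support R M = Set.univ) (p q : PrimeSpectrum R) (hpq : p ⋖ q) :
    q.asIdeal.height = p.asIdeal.height + 1 := by
  haveI := p.isPrime
  haveI hqprime := q.isPrime
  obtain ⟨hMq, hsuppq⟩ := isCM_localization R M hM hsupp q.asIdeal
  have hle : p.asIdeal ≤ q.asIdeal := hpq.1.le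
  have hdisj : Disjoint (q.asIdeal.primeCompl : Set R) (p.asIdeal : Set R) := by
    rw [Set.disjoint_left]
    intro x hx hxp
    exact hx (hle hxp)
  haveI hPprime : (p.asIdeal.map (algebraMap R (Localization.AtPrime q.asIdeal))).IsPrime :=
    IsLocalization.isPrime_of_isPrime_disjoint q.asIdeal.primeCompl _ _ p.isPrime hdisj
  have key := height_add_ringKrullDim_quotient (Localization.AtPrime q.asIdeal)
    (LocalizedModule q.asIdeal.primeCompl M) hMq hsuppq
    (p.asIdeal.map (algebraMap R (Localization.AtPrime q.asIdeal)))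
  have h1 : (p.asIdeal.map (algebraMap R (Localization.AtPrime q.asIdeal))).height =
      p.asIdeal.height :=
    IsLocalization.height_map_of_disjoint q.asIdeal.primeCompl p.asIdeal hdisj
  have h2 : ringKrullDim (Localization.AtPrime q.asIdeal) = q.asIdeal.height :=
    IsLocalization.AtPrime.ringKrullDim_eq_height q.asIdeal _
  have h3 : ringKrullDim (Localization.AtPrime q.asIdeal ⧸
      p.asIdeal.map (algebraMap R (Localization.AtPrime q.asIdeal))) = 1 := by
    rw [Groth.Agent.RegularLib.ringKrullDim_quotient_eq_coheight]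
    rw [← Order.coheight_orderIso
      (IsLocalization.AtPrime.primeSpectrumOrderIso (Localization.AtPrime q.asIdeal) q.asIdeal)]
    have hval : (IsLocalization.AtPrime.primeSpectrumOrderIso (Localization.AtPrime q.asIdeal)
        q.asIdeal ⟨_, hPprime⟩) = (⟨p, hpq.1.le⟩ : Set.Iic q) := by
      apply Subtype.ext
      rw [Groth.Agent.DepthLib.primeSpectrumOrderIso_val]
      apply PrimeSpectrum.ext
      change Ideal.comap _ (Ideal.map _ p.asIdeal) = p.asIdeal
      exact IsLocalization.comap_map_of_isPrime_disjoint q.asIdeal.primeCompl _ p.isPrime hdisj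
    rw [hval]
    have hcov : (⟨p, hpq.1.le⟩ : Set.Iic q) ⋖ ⊤ := by
      refine ⟨hpq.1, ?_⟩
      intro c hpc hcq
      exact hpq.2 hpc hcq
    rw [coheight_eq_one_of_covBy_top _ hcov]
    rfl
  rw [h1, h2, h3] at key
  exact_mod_cast key.symm

theorem length_eq_ringKrullDim (hM : LocCoh.IsCohenMacaulayModule R M)
    (hsupp : Module.support R M = Set.univ) (s : LTSeries (PrimeSpectrum R))
    (hhead : s.head.asIdeal ∈ minimalPrimes R) (hlast : s.last.asIdeal = maximalIdeal R)
    (hsat : ∀ i : Fin s.length, s (Fin.castSucc i) ⋖ s (Fin.succ i)) :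
    (s.length : WithBot ℕ∞) = ringKrullDim R := by
  have key : ∀ (i : ℕ) (hi : i ≤ s.length),
      (s ⟨i, Nat.lt_succ_of_le hi⟩).asIdeal.height = (i : ℕ∞) := by
    intro i
    induction i with
    | zero =>
      intro _
      haveI := (s ⟨0, Nat.lt_succ_of_le (Nat.zero_le _)⟩).isPrime
      rw [Nat.cast_zero, Ideal.height_eq_zero_iff]
      exact hhead
    | succ i ih =>
      intro hi
      have hcov := hsat ⟨i, hi⟩
      have := height_eq_add_one_of_covBy R M hM hsupp _ _ hcov
      have ih' := ih (Nat.le_of_succ_le hi)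
      change (s ⟨i + 1, _⟩).asIdeal.height = (s ⟨i, _⟩).asIdeal.height + 1 at this
      rw [this, ih']
      push_cast
      rfl
  have hl := key s.length le_rfl
  rw [← IsLocalRing.maximalIdeal_height_eq_ringKrullDim, ← hlast]
  change _ = (((s ⟨s.length, _⟩).asIdeal.height : ℕ∞) : WithBot ℕ∞)
  rw [hl]
  rfl

end Groth.Agent.CMChain
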