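import Mathlib
import Groth.Prelude.Def_Found

/-!
# Catenary rings: transfer along order embeddings with order-connected range (helper4)

`CAlg.IsCatenary R` is a statement about the partial order `PrimeSpectrum R`.  It transfers along an
order embedding with order-connected range; in particular to localizations and quotients.
-/

set_option autoImplicit false
universe u

namespace Groth.Agent.Lib.Catenary_helper4

/-- The order-theoretic content of `CAlg.IsCatenary`. -/
def Cat (α : Type*) [PartialOrder α] : Prop :=
  (∀ p q : α, p ≤ q → ∃ n : ℕ, ∀ s : LTSeries α, s.head = p → s.last = q → s.length ≤ n) ∧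
  ∀ s t : LTSeries α, s.head = t.head → s.last = t.last →
    (∀ i : Fin s.length, s (Fin.castSucc i) ⋖ s (Fin.succ i)) →
    (∀ i : Fin t.length, t (Fin.castSucc i) ⋖ t (Fin.succ i)) →
    s.length = t.length

theorem isCatenary_iff_cat (R : Type u) [CommRing R] :
    CAlg.IsCatenary R ↔ Cat (PrimeSpectrum R) := Iff.rfl

theorem cat_of_orderEmbedding {α β : Type*} [PartialOrder α] [PartialOrder β] (e : α ↪o β)
    (hconn : (Set.range e).OrdConnected) (hβ : Cat β) : Cat α := by
  refine ⟨fun p q hpq => ?_, fun s t hh hl hs ht => ?_⟩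
  · obtain ⟨n, hn⟩ := hβ.1 (e p) (e q) (e.monotone hpq)
    refine ⟨n, fun s hsp hsq => ?_⟩
    have := hn (s.map e e.strictMono) (by rw [LTSeries.head_map, hsp])
      (by rw [LTSeries.last_map, hsq])
    simpa using this
  · have := hβ.2 (s.map e e.strictMono) (t.map e e.strictMono)
      (by rw [LTSeries.head_map, LTSeries.head_map, hh])
      (by rw [LTSeries.last_map, LTSeries.last_map, hl])
      (fun i => (hconn.apply_covBy_apply_iff e).mpr (hs i))
      (fun i => (hconn.apply_covBy_apply_iff e).mpr (ht i))
    simpa using this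

/-- A localization of a catenary ring is catenary. -/
theorem isCatenary_of_isLocalization (A : Type u) [CommRing A] (S : Submonoid A)
    (B : Type u) [CommRing B] [Algebra A B] [IsLocalization S B]
    (hA : CAlg.IsCatenary A) : CAlg.IsCatenary B := by
  rw [isCatenary_iff_cat] at hA ⊢
  let e : PrimeSpectrum B ↪o PrimeSpectrum A :=
    (IsLocalization.primeSpectrumOrderIso S B).toOrderEmbedding.trans (OrderEmbedding.subtype _)
  refine cat_of_orderEmbedding e ?_ hA
  have hr : Set.range e = {p : PrimeSpectrum A | Disjoint (S : Set A) p.asIdeal} := by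
    ext p
    constructor
    · rintro ⟨q, rfl⟩
      exact ((IsLocalization.primeSpectrumOrderIso S B) q).2
    · intro hp
      exact ⟨(IsLocalization.primeSpectrumOrderIso S B).symm ⟨p, hp⟩, by simp [e]⟩
  rw [hr]
  refine ⟨fun x _ y hy z hz => ?_⟩
  exact Set.disjoint_of_subset_right (fun a ha => hz.2 ha) hy

/-- A quotient of a catenary ring is catenary. -/
theorem isCatenary_quotient (A : Type u) [CommRing A] (I : Ideal A)
    (hA : CAlg.IsCatenary A) : CAlg.IsCatenary (A ⧸ I) := by
  rw [isCatenary_iff_cat] at hA ⊢
  let e : PrimeSpectrum (A ⧸ I) ↪o PrimeSpectrum A :=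
    (Ideal.primeSpectrumQuotientOrderIsoZeroLocus I).toOrderEmbedding.trans
      (OrderEmbedding.subtype _)
  refine cat_of_orderEmbedding e ?_ hA
  have hr : Set.range e = PrimeSpectrum.zeroLocus (I : Set A) := by
    ext p
    constructor
    · rintro ⟨q, rfl⟩
      exact ((Ideal.primeSpectrumQuotientOrderIsoZeroLocus I) q).2
    · intro hp
      exact ⟨(Ideal.primeSpectrumQuotientOrderIsoZeroLocus I).symm ⟨p, hp⟩, by simp [e]⟩
  rw [hr]
  refine ⟨fun x hx y _ z hz => ?_⟩
  exact fun a ha => hz.1 (hx ha)

end Groth.Agent.Lib.Catenary_helper4
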