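import Mathlib
import Groth.Prelude.Def_EGA43
import Groth.Agent.Lib.Equi133_helper8
import Groth.Agent.Lib.DimPrime2_helper8

/-! EGA IV 13.3.x: converse direction (no catenarity needed). -/

universe u
open AlgebraicGeometry CategoryTheory TopologicalSpace IsLocalRing

namespace Equi133H8

theorem dim_quot_succ_le {R : Type*} [CommRing R] (𝔮' 𝔮 : Ideal R) [h𝔮' : 𝔮'.IsPrime]
    (hlt : 𝔮' < 𝔮) : ringKrullDim (R ⧸ 𝔮) + 1 ≤ ringKrullDim (R ⧸ 𝔮') := by
  obtain ⟨t, ht𝔮, ht𝔮'⟩ := SetLike.exists_of_lt hlt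
  haveI : IsDomain (R ⧸ 𝔮') := Ideal.Quotient.isDomain 𝔮'
  refine ringKrullDim_succ_le_of_surjective (Ideal.Quotient.factor hlt.le)
    (Ideal.Quotient.factor_surjective hlt.le) (r := Ideal.Quotient.mk 𝔮' t) ?_ ?_
  · apply mem_nonZeroDivisors_of_ne_zero
    intro h0
    exact ht𝔮' (Ideal.Quotient.eq_zero_iff_mem.mp h0)
  · rw [Ideal.Quotient.factor_mk]
    exact Ideal.Quotient.eq_zero_iff_mem.mpr ht𝔮

theorem exists_nat_of_le_of_ne_bot (x : WithBot ℕ∞) (a : ℕ) (h1 : x ≤ (a : WithBot ℕ∞))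
    (h2 : x ≠ ⊥) : ∃ b : ℕ, x = (b : WithBot ℕ∞) ∧ b ≤ a := by
  induction x with
  | bot => exact absurd rfl h2
  | coe x =>
    have h3 : x ≤ (a : ℕ∞) := by exact_mod_cast h1
    induction x with
    | top => exact absurd (top_le_iff.mp h3) (ENat.natCast_ne_top a)
    | coe m =>
      refine ⟨m, rfl, ?_⟩
      exact_mod_cast h3

theorem exists_nat_ringKrullDim (R : Type*) [CommRing R] [IsLocalRing R] [IsNoetherianRing R] :
    ∃ a : ℕ, ringKrullDim R = (a : WithBot ℕ∞) := by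
  have h1 : ringKrullDim R ≠ ⊤ := ringKrullDim_ne_top
  have h2 : ringKrullDim R ≠ ⊥ := ringKrullDim_ne_bot
  generalize ringKrullDim R = d at h1 h2
  induction d with
  | bot => exact absurd rfl h2
  | coe d =>
    induction d with
    | top => exact absurd rfl h1
    | coe m => exact ⟨m, rfl⟩

variable {X Y : Scheme.{u}} (f : X ⟶ Y)

/-- every maximal point generizing `x` comes from a minimal prime of the stalk. -/
theorem exists_minimal_of_isMax (x ξ : X) (hξx : ξ ⤳ x) (hξmax : ∀ b : X, b ⤳ ξ → b = ξ) :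
    ∃ P : Spec (X.presheaf.stalk x), P.asIdeal ∈ minimalPrimes (X.presheaf.stalk x) ∧
      X.fromSpecStalk x P = ξ := by
  obtain ⟨P, hP⟩ := OpenAtDimH8.exists_fromSpecStalk_eq x hξx
  exact ⟨P, minimal_of_isMax x P (hP ▸ hξmax), hP⟩

/-- **Step 1**. -/
theorem step1 [IsLocallyNoetherian Y] [LocallyOfFiniteType f] (x : X)
    (hX : EGA4.IsEquidim (X.presheaf.stalk x))
    (h : ringKrullDim (X.presheaf.stalk x) = ringKrullDim (Y.presheaf.stalk (f.base x)) +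
      ringKrullDim ((f.fiber (f.base x)).presheaf.stalk (f.asFiber x)))
    (P : Spec (X.presheaf.stalk x)) (hP : P.asIdeal ∈ minimalPrimes (X.presheaf.stalk x)) :
    FlatMor.fibreDimAt f (X.fromSpecStalk x P) = FlatMor.fibreDimAt f x ∧
    P.asIdeal.comap (f.stalkMap x).hom ∈ minimalPrimes (Y.presheaf.stalk (f.base x)) := by
  haveI : IsLocallyNoetherian X := LocallyOfFiniteType.isLocallyNoetherian f
  have hξmax := isMax_fromSpecStalk x P hP
  have hξx : X.fromSpecStalk x P ⤳ x := by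
    have : X.fromSpecStalk x P ∈ Set.range (X.fromSpecStalk x) := ⟨P, rfl⟩
    rw [Scheme.range_fromSpecStalk] at this; exact this
  obtain ⟨n, hn⟩ := Groth.Agent.ResQuot2H8.exists_trdeg_nat f x
  obtain ⟨E, hE⟩ := Groth.Agent.ResQuot2H8.exists_trdeg_nat f (X.fromSpecStalk x P)
  have hineq := DimPrimeH8.dim_ineq_prime f x P n E hn hE
  rw [hX _ hP] at hineq
  obtain ⟨a, ha⟩ := exists_nat_ringKrullDim (X.presheaf.stalk x)
  obtain ⟨b, hb⟩ := exists_nat_ringKrullDim (Y.presheaf.stalk (f.base x))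
  haveI := Groth.Agent.FibChainH8.isLocallyNoetherian_fiber f (f.base x)
  obtain ⟨c, hc⟩ := exists_nat_ringKrullDim ((f.fiber (f.base x)).presheaf.stalk (f.asFiber x))
  set 𝔮 := P.asIdeal.comap (f.stalkMap x).hom with h𝔮
  haveI h𝔮p : 𝔮.IsPrime := Ideal.comap_isPrime _ _
  obtain ⟨d, hd, hdb⟩ := exists_nat_of_le_of_ne_bot
    (ringKrullDim (Y.presheaf.stalk (f.base x) ⧸ 𝔮)) b
    (hb ▸ ringKrullDim_quotient_le 𝔮) ringKrullDim_ne_bot
  rw [ha, hb, hc] at h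
  have habc : a = b + c := by exact_mod_cast h
  rw [ha, hd] at hineq
  have hineq' : a + n ≤ d + E := by exact_mod_cast hineq
  -- fibre dimensions
  have hfx : FlatMor.fibreDimAt f x = ((c + n : ℕ) : WithBot ℕ∞) := by
    rw [FibCohH8.fibreDimAt_eq f x, ← FibCohH8.stalk_fiber_eq_fibCoh, hc]
    have hn' : Dual3.resTrdeg f x = n := hn
    rw [hn', Cardinal.toENat_nat]
    push_cast; rfl
  have hfξ : FlatMor.fibreDimAt f (X.fromSpecStalk x P) = ((E : ℕ) : WithBot ℕ∞) := by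
    rw [FibGenH8.fibreDimAt_of_isMax f _ hξmax]
    have hE' : Dual3.resTrdeg f (X.fromSpecStalk x P) = E := hE
    rw [hE', Cardinal.toENat_nat]
    rfl
  have hsemi := FibGenH8.fibreDimAt_le_of_specializes f hξx
  rw [hfx, hfξ] at hsemi
  have hsemi' : E ≤ c + n := by exact_mod_cast hsemi
  have hEeq : E = c + n := by omega
  have hdeq : d = b := by omega
  refine ⟨by rw [hfx, hfξ, hEeq], ?_⟩
  -- minimality of `𝔮`
  obtain ⟨𝔮', h𝔮'min, h𝔮'le⟩ := Ideal.exists_minimalPrimes_le (show (⊥ : Ideal _) ≤ 𝔮 from bot_le)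
  by_cases heq : 𝔮' = 𝔮
  · rw [← heq]; exact h𝔮'min
  · exfalso
    haveI : 𝔮'.IsPrime := h𝔮'min.1.1
    have hlt : 𝔮' < 𝔮 := lt_of_le_of_ne h𝔮'le heq
    have h1 := dim_quot_succ_le 𝔮' 𝔮 hlt
    have h2 := ringKrullDim_quotient_le 𝔮'
    rw [hd] at h1
    rw [hb] at h2
    have h3 : ((d : ℕ) : WithBot ℕ∞) + 1 ≤ (b : WithBot ℕ∞) := h1.trans h2
    have h4 : d + 1 ≤ b := by exact_mod_cast h3
    omega


/-- **EGA IV 13.3.x (converse)**: equidimensional stalk plus the dimension formula imply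
equidimensionality of the morphism at the point. -/
theorem isEquidimAt_of_dim_formula [IsLocallyNoetherian Y] [LocallyOfFiniteType f] (x : X)
    (hX : EGA4.IsEquidim (X.presheaf.stalk x))
    (h : ringKrullDim (X.presheaf.stalk x) = ringKrullDim (Y.presheaf.stalk (f.base x)) +
      ringKrullDim ((f.fiber (f.base x)).presheaf.stalk (f.asFiber x))) :
    EGA43.IsEquidimAt f x := by
  haveI : IsLocallyNoetherian X := LocallyOfFiniteType.isLocallyNoetherian f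
  obtain ⟨e, he⟩ := EquidimIrrH8.exists_nat_fibreDimAt f x
  obtain ⟨U₀, hU₀o, hxU₀, hU₀⟩ :=
    Groth.Agent.LocDim2H8.exists_good_nbhd X Set.univ isClosed_univ x
  let U : X.Opens := ⟨U₀ ∩ {u | FlatMor.fibreDimAt f u ≤ (e : WithBot ℕ∞)},
    hU₀o.inter (ChevH8.isOpen_fibreDimAt_le f e)⟩
  have hxU : x ∈ U := ⟨hxU₀, he.le⟩
  have hgenz : ∀ u ∈ U, ∃ ξ : X, (∀ b : X, b ⤳ ξ → b = ξ) ∧ ξ ⤳ x ∧ ξ ⤳ u := by
    intro u hu
    obtain ⟨η, -, hηx, hηu⟩ := hU₀ u ⟨hu.1, trivial⟩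
    obtain ⟨ξ, hξη, hξ⟩ := CodimZeroH8.exists_isMax_ge η
    exact ⟨ξ, EquidimSubH8.isMax_of_coheight hξ, hξη.trans hηx, hξη.trans hηu⟩
  have hmaxpt : ∀ ξ : X, (∀ b : X, b ⤳ ξ → b = ξ) → ξ ⤳ x →
      FlatMor.fibreDimAt f ξ = (e : WithBot ℕ∞) ∧ (∀ b : Y, b ⤳ f.base ξ → b = f.base ξ) := by
    intro ξ hξmax hξx
    obtain ⟨P, hPmin, rfl⟩ := exists_minimal_of_isMax x ξ hξx hξmax
    obtain ⟨h1, h2⟩ := step1 f x hX h P hPmin
    refine ⟨h1.trans he, ?_⟩
    have := isMax_fromSpecStalk (f.base x) ((Spec.map (f.stalkMap x)).base P) h2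
    rw [← OpenAtDimH8.map_fromSpecStalk f x P] at this
    exact this
  refine OpenAtEqH8.isEquidimAt_of_fibreDimAt_const f x e U hxU ?_ ?_
  · intro Z hZ
    obtain ⟨a₀, hZa₀, ha₀max, -⟩ :=
      Groth.Agent.FlatFibDimH8.exists_generic_of_mem_irreducibleComponents (U : Scheme.{u}) Z hZ
    have ha₀max' : ∀ b : ↥(U : Scheme.{u}), b ⤳ a₀ → b = a₀ :=
      fun b hb => (hb.antisymm (ha₀max hb)).eq
    have hξmax := QSecH8.isMax_ι U a₀ ha₀max'
    obtain ⟨ξ', hξ'max, hξ'x, hξ'a⟩ := hgenz (U.ι.base a₀) a₀.2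
    have hξ'eq : ξ' = U.ι.base a₀ := hξmax ξ' hξ'a
    rw [hξ'eq] at hξ'x
    obtain ⟨-, hfmax⟩ := hmaxpt (U.ι.base a₀) hξmax hξ'x
    refine ⟨closure {f.base (U.ι.base a₀)},
      (SubCompH8.closure_mem_irreducibleComponents_iff _).mpr hfmax,
      (hξ'x.map f.continuous).mem_closure, ?_⟩
    apply subset_antisymm
    · apply closure_minimal _ isClosed_closure
      rintro _ ⟨b, hb, rfl⟩
      have hb' : a₀ ⤳ b := by
        rw [specializes_iff_mem_closure, ← hZa₀]; exact hb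
      exact (hb'.map (U.ι ≫ f).continuous).mem_closure
    · apply closure_mono
      rw [Set.singleton_subset_iff]
      exact ⟨a₀, hZa₀ ▸ subset_closure rfl, rfl⟩
  · intro u hu
    apply le_antisymm hu.2
    obtain ⟨ξ, hξmax, hξx, hξu⟩ := hgenz u hu
    rw [← (hmaxpt ξ hξmax hξx).1]
    exact FibGenH8.fibreDimAt_le_of_specializes f hξu

end Equi133H8
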