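import Mathlib
import Groth.Prelude.Def_Found
import Groth.Prelude.Def_CAlgX

/-! More miscellaneous commutative algebra, part 3 (helper1). -/

universe u

namespace Groth.Agent.Lib.CAlgMisc3H1

/-! ## Irreducibility of the total space from open map + dense irreducible fibres -/

theorem irreducible_of_open_fibres {R S : Type u} [CommRing R] [CommRing S] [Algebra R S]
    (hopen : IsOpenMap (PrimeSpectrum.comap (algebraMap R S))) [IrreducibleSpace (PrimeSpectrum R)]
    (D : Set (PrimeSpectrum R)) (hD : Dense D)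
    (hfib : ∀ p ∈ D, IrreducibleSpace (PrimeSpectrum (p.asIdeal.Fiber S))) :
    IrreducibleSpace (PrimeSpectrum S) := by
  have hirr : ∀ p ∈ D, IsIrreducible ((PrimeSpectrum.comap (algebraMap R S)) ⁻¹' {p}) := by
    intro p hp
    haveI := hfib p hp
    rw [isIrreducible_iff_irreducibleSpace]
    exact ((PrimeSpectrum.preimageHomeomorphFiber R S p).irreducibleSpace_iff).mpr inferInstance
  have hpre : IsPreirreducible ((PrimeSpectrum.comap (algebraMap R S)) ⁻¹' Set.univ) := by
    refine (PreirreducibleSpace.isPreirreducible_univ).preimage_of_dense_isPreirreducible_fiber _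
      hopen ?_
    intro x _
    have hsub : D ⊆ Set.univ ∩
        {x | IsPreirreducible ((PrimeSpectrum.comap (algebraMap R S)) ⁻¹' {x})} := by
      intro p hp
      exact ⟨trivial, (hirr p hp).isPreirreducible⟩
    exact closure_mono hsub (hD x)
  rw [Set.preimage_univ] at hpre
  obtain ⟨p, hp⟩ := hD.nonempty
  obtain ⟨q, _⟩ := (hirr p hp).nonempty
  exact { isPreirreducible_univ := hpre, toNonempty := ⟨q⟩ }

/-! ## Invariants of a cyclic group acting on `k[X, Y]` -/

section Cyclic

open MvPolynomial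

variable (k : Type u) [Field k] (r a : ℕ) (ζ : k)

noncomputable def sigmaHom : MvPolynomial (Fin 2) k →ₐ[k] MvPolynomial (Fin 2) k :=
  MvPolynomial.aeval (fun i : Fin 2 => if i = 0 then MvPolynomial.C ζ⁻¹ * MvPolynomial.X 0
        else MvPolynomial.C (ζ⁻¹ ^ a) * (MvPolynomial.X 1 : MvPolynomial (Fin 2) k))

lemma sigmaHom_X0 : sigmaHom k a ζ (X 0) = C ζ⁻¹ * X 0 := by
  unfold sigmaHom
  rw [aeval_X]
  simp

lemma sigmaHom_X1 : sigmaHom k a ζ (X 1) = C (ζ⁻¹ ^ a) * X 1 := by
  unfold sigmaHom
  rw [aeval_X]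
  simp

lemma monomial_eq_XX (s : Fin 2 →₀ ℕ) (c : k) :
    monomial s c = C c * (X 0 ^ s 0 * X 1 ^ s 1) := by
  rw [monomial_eq, Finsupp.prod_fintype _ _ (fun i => pow_zero _), Fin.prod_univ_two]

lemma sigmaHom_XX (i j : ℕ) :
    sigmaHom k a ζ (X 0 ^ i * X 1 ^ j) = C (ζ⁻¹ ^ (i + a * j)) * (X 0 ^ i * X 1 ^ j) := by
  rw [map_mul, map_pow, map_pow, sigmaHom_X0, sigmaHom_X1, mul_pow, mul_pow, ← C_pow, ← C_pow,
    ← pow_mul, pow_add, C_mul]
  ring

lemma sigmaHom_monomial (s : Fin 2 →₀ ℕ) (c : k) :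
    sigmaHom k a ζ (monomial s c) = monomial s ((ζ⁻¹) ^ (s 0 + a * s 1) * c) := by
  rw [monomial_eq_XX, monomial_eq_XX, map_mul, sigmaHom_XX, C_mul, algHom_C, algebraMap_eq]
  ring

lemma XX_mem_adjoin (hr : 0 < r) (i j : ℕ) (h : r ∣ i + a * j) :
    (X 0 ^ i * X 1 ^ j : MvPolynomial (Fin 2) k) ∈
      Algebra.adjoin k {q : MvPolynomial (Fin 2) k | ∃ i j : ℕ, i ≤ r ∧ j ≤ r ∧
        ¬ (i = r ∧ j = r) ∧ r ∣ i + a * j ∧ q = MvPolynomial.X 0 ^ i * MvPolynomial.X 1 ^ j} := by
  set G : Set (MvPolynomial (Fin 2) k) := {q : MvPolynomial (Fin 2) k | ∃ i j : ℕ, i ≤ r ∧ j ≤ r ∧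
        ¬ (i = r ∧ j = r) ∧ r ∣ i + a * j ∧ q = MvPolynomial.X 0 ^ i * MvPolynomial.X 1 ^ j}
    with hG
  have h0 : (X 0 ^ r : MvPolynomial (Fin 2) k) ∈ Algebra.adjoin k G :=
    Algebra.subset_adjoin ⟨r, 0, le_rfl, Nat.zero_le _, by omega, by simp, by simp⟩
  have h1 : (X 1 ^ r : MvPolynomial (Fin 2) k) ∈ Algebra.adjoin k G :=
    Algebra.subset_adjoin ⟨0, r, Nat.zero_le _, le_rfl, by omega, by simp, by simp⟩
  have hdecomp : i + a * j = r * (i / r + a * (j / r)) + (i % r + a * (j % r)) := by
    conv_lhs => rw [← Nat.div_add_mod i r, ← Nat.div_add_mod j r]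
    ring
  have hdvd : r ∣ i % r + a * (j % r) := by
    rw [hdecomp] at h
    exact (Nat.dvd_add_right (dvd_mul_right _ _)).mp h
  have h2 : (X 0 ^ (i % r) * X 1 ^ (j % r) : MvPolynomial (Fin 2) k) ∈ Algebra.adjoin k G :=
    Algebra.subset_adjoin ⟨i % r, j % r, (Nat.mod_lt _ hr).le, (Nat.mod_lt _ hr).le,
      fun hh => absurd hh.1 (Nat.mod_lt _ hr).ne, hdvd, rfl⟩
  have e : (X 0 ^ i * X 1 ^ j : MvPolynomial (Fin 2) k) =
      (X 0 ^ r) ^ (i / r) * (X 1 ^ r) ^ (j / r) * (X 0 ^ (i % r) * X 1 ^ (j % r)) := by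
    conv_lhs => rw [← Nat.div_add_mod i r, ← Nat.div_add_mod j r]
    rw [pow_add, pow_add, pow_mul, pow_mul]
    ring
  rw [e]
  exact mul_mem (mul_mem (pow_mem h0 _) (pow_mem h1 _)) h2

theorem cyclic_invariants (ha : 0 < a) (har : a < r)
    (hζ : IsPrimitiveRoot ζ r) (p : MvPolynomial (Fin 2) k) :
    MvPolynomial.aeval (fun i : Fin 2 => if i = 0 then MvPolynomial.C ζ⁻¹ * MvPolynomial.X 0
        else MvPolynomial.C (ζ⁻¹ ^ a) * (MvPolynomial.X 1 : MvPolynomial (Fin 2) k)) p = p ↔
      p ∈ Algebra.adjoin k {q : MvPolynomial (Fin 2) k | ∃ i j : ℕ, i ≤ r ∧ j ≤ r ∧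
        ¬ (i = r ∧ j = r) ∧
        r ∣ i + a * j ∧ q = MvPolynomial.X 0 ^ i * MvPolynomial.X 1 ^ j} := by
  have hr : 0 < r := by omega
  change sigmaHom k a ζ p = p ↔ _
  have hcoeff : ∀ (p : MvPolynomial (Fin 2) k) (t : Fin 2 →₀ ℕ),
      coeff t (sigmaHom k a ζ p) = ζ⁻¹ ^ (t 0 + a * t 1) * coeff t p := by
    intro p
    induction p using MvPolynomial.induction_on' with
    | monomial u c =>
      intro t
      rw [sigmaHom_monomial, coeff_monomial, coeff_monomial]
      split_ifs with h
      · subst h; rfl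
      · simp
    | add p q hp hq =>
      intro t
      rw [map_add, coeff_add, coeff_add, hp, hq, mul_add]
  constructor
  · intro h
    have hsupp : ∀ t ∈ p.support, r ∣ t 0 + a * t 1 := by
      intro t ht
      have hc : coeff t p ≠ 0 := MvPolynomial.mem_support_iff.mp ht
      have h1 := hcoeff p t
      rw [h] at h1
      have h2 : ζ⁻¹ ^ (t 0 + a * t 1) = 1 := by
        have h3 : ζ⁻¹ ^ (t 0 + a * t 1) * coeff t p = 1 * coeff t p := by
          rw [one_mul]; exact h1.symm
        exact mul_right_cancel₀ hc h3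
      rw [inv_pow, inv_eq_one] at h2
      exact (hζ.pow_eq_one_iff_dvd _).mp h2
    rw [← MvPolynomial.support_sum_monomial_coeff p]
    refine Subalgebra.sum_mem _ (fun t ht => ?_)
    rw [monomial_eq_XX, ← MvPolynomial.smul_eq_C_mul]
    exact Subalgebra.smul_mem _ (XX_mem_adjoin k r a hr _ _ (hsupp t ht)) _
  · intro h
    have hle : Algebra.adjoin k {q : MvPolynomial (Fin 2) k | ∃ i j : ℕ, i ≤ r ∧ j ≤ r ∧
        ¬ (i = r ∧ j = r) ∧
        r ∣ i + a * j ∧ q = MvPolynomial.X 0 ^ i * MvPolynomial.X 1 ^ j} ≤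
        AlgHom.equalizer (sigmaHom k a ζ) (AlgHom.id k _) := by
      refine Algebra.adjoin_le ?_
      rintro q ⟨i, j, _, _, _, hdvd, rfl⟩
      show sigmaHom k a ζ _ = _
      rw [sigmaHom_XX]
      have hz : ζ⁻¹ ^ (i + a * j) = 1 := by
        rw [inv_pow, inv_eq_one]; exact (hζ.pow_eq_one_iff_dvd _).mpr hdvd
      rw [hz, C_1, one_mul]
      rfl
    exact hle h

end Cyclic

/-! ## Catenary is local at maximal ideals -/

section Catenary

/-- The order-theoretic catenary condition. -/
def PosCat (α : Type*) [Preorder α] : Prop :=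
  (∀ p q : α, p ≤ q → ∃ n : ℕ, ∀ s : LTSeries α, s.head = p → s.last = q → s.length ≤ n) ∧
  ∀ s t : LTSeries α, s.head = t.head → s.last = t.last →
    (∀ i : Fin s.length, s (Fin.castSucc i) ⋖ s (Fin.succ i)) →
    (∀ i : Fin t.length, t (Fin.castSucc i) ⋖ t (Fin.succ i)) → s.length = t.length

noncomputable def liftSeries {α β : Type*} [Preorder α] [Preorder β] (f : α ↪o β)
    (s : LTSeries β) (h : ∀ i, s i ∈ Set.range f) : LTSeries α :=
  LTSeries.mk s.length (fun i => (h i).choose) (by
    intro i j hij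
    have h1 := s.strictMono hij
    rw [← (h i).choose_spec, ← (h j).choose_spec] at h1
    exact f.lt_iff_lt.mp h1)

lemma liftSeries_apply {α β : Type*} [Preorder α] [Preorder β] (f : α ↪o β)
    (s : LTSeries β) (h : ∀ i, s i ∈ Set.range f) (i : Fin (s.length + 1)) :
    f ((liftSeries f s h).toFun i) = s i := (h i).choose_spec

theorem posCat_of_embedding {α β : Type*} [PartialOrder α] [PartialOrder β] (f : α ↪o β)
    (hf : IsLowerSet (Set.range f)) (h : PosCat β) : PosCat α := by
  constructor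
  · intro p q hpq
    obtain ⟨n, hn⟩ := h.1 (f p) (f q) (f.monotone hpq)
    refine ⟨n, fun s hs hl => ?_⟩
    have h1 := hn (s.map f f.strictMono) (by rw [LTSeries.head_map, hs])
      (by rw [LTSeries.last_map, hl])
    exact h1
  · intro s t hh hl hs ht
    have h1 := h.2 (s.map f f.strictMono) (t.map f f.strictMono)
      (by rw [LTSeries.head_map, LTSeries.head_map, hh])
      (by rw [LTSeries.last_map, LTSeries.last_map, hl])
      (fun i => CovBy.image f (hs i) hf.ordConnected)
      (fun i => CovBy.image f (ht i) hf.ordConnected)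
    exact h1

theorem posCat_of_cover {β : Type*} [PartialOrder β] {ι : Type*} (α : ι → Type*)
    [∀ i, PartialOrder (α i)]
    (f : ∀ i, α i ↪o β) (hf : ∀ i, IsLowerSet (Set.range (f i)))
    (hcov : ∀ b, ∃ i, b ∈ Set.range (f i))
    (h : ∀ i, PosCat (α i)) : PosCat β := by
  have key : ∀ (i : ι) (s : LTSeries β), s.last ∈ Set.range (f i) →
      ∀ j, s j ∈ Set.range (f i) := by
    intro i s hl j
    exact hf i (s.monotone (Fin.le_last j)) hl
  constructor
  · intro p q hpq
    obtain ⟨i, q', rfl⟩ := hcov q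
    obtain ⟨p', rfl⟩ := hf i hpq ⟨q', rfl⟩
    obtain ⟨n, hn⟩ := (h i).1 p' q' ((f i).le_iff_le.mp hpq)
    refine ⟨n, fun s hs hl => ?_⟩
    have hr := key i s (by rw [hl]; exact ⟨q', rfl⟩)
    have h1 := hn (liftSeries (f i) s hr) ?_ ?_
    · exact h1
    · apply (f i).injective
      exact (liftSeries_apply (f i) s hr 0).trans hs
    · apply (f i).injective
      exact (liftSeries_apply (f i) s hr (Fin.last _)).trans hl
  · intro s t hh hl hs ht
    obtain ⟨i, q', hq'⟩ := hcov s.last
    have hrs := key i s ⟨q', hq'⟩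
    have hrt := key i t ⟨q', hq'.trans hl⟩
    have h1 := (h i).2 (liftSeries (f i) s hrs) (liftSeries (f i) t hrt) ?_ ?_ ?_ ?_
    · exact h1
    · apply (f i).injective
      exact ((liftSeries_apply (f i) s hrs 0).trans hh).trans
        (liftSeries_apply (f i) t hrt 0).symm
    · apply (f i).injective
      exact ((liftSeries_apply (f i) s hrs (Fin.last _)).trans hl).trans
        (liftSeries_apply (f i) t hrt (Fin.last _)).symm
    · intro j
      apply CovBy.of_image (f i)
      have e1 : f i ((liftSeries (f i) s hrs).toFun j.castSucc) = s.toFun (Fin.castSucc j) :=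
        liftSeries_apply (f i) s hrs (Fin.castSucc j)
      have e2 : f i ((liftSeries (f i) s hrs).toFun j.succ) = s.toFun (Fin.succ j) :=
        liftSeries_apply (f i) s hrs (Fin.succ j)
      have h3 : s.toFun (Fin.castSucc j) ⋖ s.toFun (Fin.succ j) := hs j
      rw [← e1, ← e2] at h3
      exact h3
    · intro j
      apply CovBy.of_image (f i)
      have e1 : f i ((liftSeries (f i) t hrt).toFun j.castSucc) = t.toFun (Fin.castSucc j) :=
        liftSeries_apply (f i) t hrt (Fin.castSucc j)
      have e2 : f i ((liftSeries (f i) t hrt).toFun j.succ) = t.toFun (Fin.succ j) :=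
        liftSeries_apply (f i) t hrt (Fin.succ j)
      have h3 : t.toFun (Fin.castSucc j) ⋖ t.toFun (Fin.succ j) := ht j
      rw [← e1, ← e2] at h3
      exact h3

noncomputable def specEmb (R : Type u) [CommRing R] (m : Ideal R) [m.IsPrime] :
    PrimeSpectrum (Localization.AtPrime m) ↪o PrimeSpectrum R :=
  OrderEmbedding.ofMapLEIff (PrimeSpectrum.comap (algebraMap R (Localization.AtPrime m))) (by
    intro p q
    constructor
    · intro h
      rw [← PrimeSpectrum.asIdeal_le_asIdeal] at h ⊢
      have h1 := Ideal.map_mono (f := algebraMap R (Localization.AtPrime m)) h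
      simp only [PrimeSpectrum.comap_asIdeal] at h1
      rwa [IsLocalization.map_under m.primeCompl, IsLocalization.map_under m.primeCompl] at h1
    · intro h
      rw [← PrimeSpectrum.asIdeal_le_asIdeal] at h ⊢
      simp only [PrimeSpectrum.comap_asIdeal]
      exact Ideal.comap_mono h)

lemma specEmb_lower (R : Type u) [CommRing R] (m : Ideal R) [m.IsPrime] :
    IsLowerSet (Set.range (specEmb R m)) := by
  have h1 : Set.range (specEmb R m) = {p | Disjoint (m.primeCompl : Set R) p.asIdeal} :=
    PrimeSpectrum.localization_comap_range _ _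
  rw [h1]
  intro a b hba ha
  have h2 : (b.asIdeal : Set R) ≤ a.asIdeal := by
    rw [← PrimeSpectrum.asIdeal_le_asIdeal] at hba
    exact hba
  exact ha.mono_right h2

theorem catenary_iff_localization (R : Type u) [CommRing R] :
    CAlg.IsCatenary R ↔
      ∀ (m : Ideal R) [m.IsMaximal], CAlg.IsCatenary (Localization.AtPrime m) := by
  constructor
  · intro h m _
    exact posCat_of_embedding (specEmb R m) (specEmb_lower R m) h
  · intro h
    refine posCat_of_cover (ι := MaximalSpectrum R)
      (fun m => PrimeSpectrum (Localization.AtPrime m.asIdeal))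
      (fun m => specEmb R m.asIdeal) (fun m => specEmb_lower R m.asIdeal) ?_
      (fun m => h m.asIdeal)
    intro b
    obtain ⟨m, hm, hbm⟩ := Ideal.exists_le_maximal b.asIdeal b.2.ne_top
    refine ⟨⟨m, hm⟩, ?_⟩
    have h1 : Set.range (specEmb R m) = {p | Disjoint (m.primeCompl : Set R) p.asIdeal} :=
      PrimeSpectrum.localization_comap_range _ _
    show b ∈ Set.range (specEmb R m)
    rw [h1]
    show Disjoint (m.primeCompl : Set R) b.asIdeal
    rw [Set.disjoint_left]
    intro x hx hxb
    exact hx (hbm hxb)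

end Catenary

/-! ## `H_1`-regular sequences: concatenation -/

section H1

variable {A : Type u} [CommRing A]

lemma sum_mul_eq_zero_of_mem {c : ℕ} (F : Fin c → A) (v : Fin c → A)
    (hv : v ∈ Submodule.span A
      {v : Fin c → A | ∃ i j : Fin c, v = Pi.single i (F j) - Pi.single j (F i)}) :
    ∑ i, v i * F i = 0 := by
  induction hv using Submodule.span_induction with
  | mem x hx =>
    obtain ⟨i, j, rfl⟩ := hx
    simp only [Pi.sub_apply, Pi.single_apply, sub_mul, Finset.sum_sub_distrib, ite_mul, zero_mul,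
      Finset.sum_ite_eq', Finset.mem_univ, if_true]
    ring
  | zero => simp
  | add x y _ _ hx hy => simp [add_mul, Finset.sum_add_distrib, hx, hy]
  | smul r x _ hx => simp [mul_assoc, ← Finset.mul_sum, hx]

lemma lift_trivial_rel (I : Ideal A) {m : ℕ} (g : Fin m → A)
    (v : Fin m → A ⧸ I)
    (hv : v ∈ Submodule.span (A ⧸ I) {v : Fin m → A ⧸ I | ∃ i j : Fin m,
      v = Pi.single i (Ideal.Quotient.mk I (g j)) - Pi.single j (Ideal.Quotient.mk I (g i))}) :
    ∃ c' ∈ Submodule.span A
        {v : Fin m → A | ∃ i j : Fin m, v = Pi.single i (g j) - Pi.single j (g i)},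
      ∀ j, Ideal.Quotient.mk I (c' j) = v j := by
  induction hv using Submodule.span_induction with
  | mem x hx =>
    obtain ⟨i, j, rfl⟩ := hx
    refine ⟨Pi.single i (g j) - Pi.single j (g i), Submodule.subset_span ⟨i, j, rfl⟩,
      fun l => ?_⟩
    simp only [Pi.sub_apply, Pi.single_apply, map_sub]
    split_ifs <;> simp
  | zero => exact ⟨0, Submodule.zero_mem _, fun j => by simp⟩
  | add x y _ _ hx hy =>
    obtain ⟨x', hx', hxe⟩ := hx
    obtain ⟨y', hy', hye⟩ := hy
    exact ⟨x' + y', Submodule.add_mem _ hx' hy', fun j => by simp [hxe, hye]⟩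
  | smul r x _ hx =>
    obtain ⟨x', hx', hxe⟩ := hx
    obtain ⟨r', rfl⟩ := Ideal.Quotient.mk_surjective r
    exact ⟨r' • x', Submodule.smul_mem _ _ hx', fun j => by simp [hxe]⟩

lemma castAdd_ne_natAdd' {n m : ℕ} (i : Fin n) (j : Fin m) :
    Fin.castAdd m i ≠ Fin.natAdd n j := by
  intro h
  have h1 := congrArg Fin.val h
  simp only [Fin.val_castAdd, Fin.val_natAdd] at h1
  have := i.isLt
  omega

lemma single_cc {n m : ℕ} (i i₀ : Fin n) (x : A) :
    (Pi.single (Fin.castAdd m i) x : Fin (n + m) → A) (Fin.castAdd m i₀) =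
      if i₀ = i then x else 0 := by
  rw [Pi.single_apply]
  simp only [Fin.castAdd_inj]

lemma single_cn {n m : ℕ} (i : Fin n) (j₀ : Fin m) (x : A) :
    (Pi.single (Fin.castAdd m i) x : Fin (n + m) → A) (Fin.natAdd n j₀) = 0 := by
  rw [Pi.single_apply, if_neg (castAdd_ne_natAdd' i j₀).symm]

lemma single_nc {n m : ℕ} (j : Fin m) (i₀ : Fin n) (x : A) :
    (Pi.single (Fin.natAdd n j) x : Fin (n + m) → A) (Fin.castAdd m i₀) = 0 := by
  rw [Pi.single_apply, if_neg (castAdd_ne_natAdd' i₀ j)]

lemma single_nn {n m : ℕ} (j j₀ : Fin m) (x : A) :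
    (Pi.single (Fin.natAdd n j) x : Fin (n + m) → A) (Fin.natAdd n j₀) =
      if j₀ = j then x else 0 := by
  rw [Pi.single_apply]
  simp only [Fin.natAdd_inj]

/-- extension by zero on the left block -/
def inl' (n m : ℕ) : (Fin n → A) →ₗ[A] (Fin (n + m) → A) where
  toFun u := Fin.append u 0
  map_add' u v := by
    ext k
    refine Fin.addCases (fun l => ?_) (fun l => ?_) k
    · simp [Fin.append_left]
    · simp [Fin.append_right]
  map_smul' r u := by
    ext k
    refine Fin.addCases (fun l => ?_) (fun l => ?_) k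
    · simp [Fin.append_left]
    · simp [Fin.append_right]

/-- extension by zero on the right block -/
def inr' (n m : ℕ) : (Fin m → A) →ₗ[A] (Fin (n + m) → A) where
  toFun v := Fin.append 0 v
  map_add' u v := by
    ext k
    refine Fin.addCases (fun l => ?_) (fun l => ?_) k
    · simp [Fin.append_left]
    · simp [Fin.append_right]
  map_smul' r u := by
    ext k
    refine Fin.addCases (fun l => ?_) (fun l => ?_) k
    · simp [Fin.append_left]
    · simp [Fin.append_right]

lemma inl'_single (n m : ℕ) (i : Fin n) (x : A) :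
    inl' (A := A) n m (Pi.single i x) = Pi.single (Fin.castAdd m i) x := by
  ext k
  refine Fin.addCases (fun l => ?_) (fun l => ?_) k
  · show Fin.append (Pi.single i x) 0 (Fin.castAdd m l) = _
    rw [Fin.append_left, single_cc, Pi.single_apply]
  · show Fin.append (Pi.single i x) 0 (Fin.natAdd n l) = _
    rw [Fin.append_right, single_cn, Pi.zero_apply]

lemma inr'_single (n m : ℕ) (j : Fin m) (x : A) :
    inr' (A := A) n m (Pi.single j x) = Pi.single (Fin.natAdd n j) x := by
  ext k
  refine Fin.addCases (fun l => ?_) (fun l => ?_) k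
  · show Fin.append 0 (Pi.single j x) (Fin.castAdd m l) = _
    rw [Fin.append_left, single_nc, Pi.zero_apply]
  · show Fin.append 0 (Pi.single j x) (Fin.natAdd n l) = _
    rw [Fin.append_right, single_nn, Pi.single_apply]

theorem h1_append {n m : ℕ} (f : Fin n → A)
    (g : Fin m → A) (hf : CAlgX.IsH1Regular f)
    (hg : CAlgX.IsH1Regular (fun j => Ideal.Quotient.mk (Ideal.span (Set.range f)) (g j))) :
    CAlgX.IsH1Regular (Fin.append f g) := by
  intro a ha
  set F := Fin.append f g with hF
  set I := Ideal.span (Set.range f) with hI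
  set T := Submodule.span A
    {v : Fin (n + m) → A | ∃ i j, v = Pi.single i (F j) - Pi.single j (F i)} with hT
  set b : Fin n → A := fun i => a (Fin.castAdd m i) with hb
  set c : Fin m → A := fun j => a (Fin.natAdd n j) with hc
  have hFl : ∀ i, F (Fin.castAdd m i) = f i := fun i => Fin.append_left f g i
  have hFr : ∀ j, F (Fin.natAdd n j) = g j := fun j => Fin.append_right f g j
  have ha' : ∑ i, b i * f i + ∑ j, c j * g j = 0 := by
    rw [← ha, Fin.sum_univ_add]
    simp only [hFl, hFr, hb, hc]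
  -- step 1
  have h1 : ∑ j, (Ideal.Quotient.mk I (c j)) * (Ideal.Quotient.mk I (g j)) = 0 := by
    simp only [← map_mul, ← map_sum]
    rw [Ideal.Quotient.eq_zero_iff_mem]
    have h2 : ∑ j, c j * g j = - ∑ i, b i * f i := eq_neg_of_add_eq_zero_right ha'
    rw [h2]
    exact I.neg_mem (I.sum_mem fun i _ => I.mul_mem_left _ (Ideal.subset_span ⟨i, rfl⟩))
  have h2 := hg (fun j => Ideal.Quotient.mk I (c j)) h1
  obtain ⟨c', hc'T, hc'⟩ := lift_trivial_rel I g _ h2
  -- step 3
  have hd : ∀ j, c j - c' j ∈ I := by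
    intro j
    rw [← Ideal.Quotient.eq_zero_iff_mem, map_sub, hc' j, sub_self]
  choose e he using fun j => (Ideal.mem_span_range_iff_exists_fun).mp (hd j)
  -- memberships
  have hM1 : ∀ u ∈ Submodule.span A
      {v : Fin n → A | ∃ i j : Fin n, v = Pi.single i (f j) - Pi.single j (f i)},
      inl' n m u ∈ T := by
    intro u hu
    have hle : Submodule.span A
        {v : Fin n → A | ∃ i j : Fin n, v = Pi.single i (f j) - Pi.single j (f i)} ≤
        T.comap (inl' n m) := by
      refine Submodule.span_le.mpr ?_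
      rintro _ ⟨i, j, rfl⟩
      show inl' n m _ ∈ T
      rw [map_sub, inl'_single, inl'_single]
      refine Submodule.subset_span ⟨Fin.castAdd m i, Fin.castAdd m j, ?_⟩
      rw [hFl, hFl]
    exact hle hu
  have hM2 : ∀ u ∈ Submodule.span A
      {v : Fin m → A | ∃ i j : Fin m, v = Pi.single i (g j) - Pi.single j (g i)},
      inr' n m u ∈ T := by
    intro u hu
    have hle : Submodule.span A
        {v : Fin m → A | ∃ i j : Fin m, v = Pi.single i (g j) - Pi.single j (g i)} ≤
        T.comap (inr' n m) := by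
      refine Submodule.span_le.mpr ?_
      rintro _ ⟨i, j, rfl⟩
      show inr' n m _ ∈ T
      rw [map_sub, inr'_single, inr'_single]
      refine Submodule.subset_span ⟨Fin.natAdd n i, Fin.natAdd n j, ?_⟩
      rw [hFr, hFr]
    exact hle hu
  have hK : ∀ (i : Fin n) (j : Fin m),
      (Pi.single (Fin.natAdd n j) (f i) - Pi.single (Fin.castAdd m i) (g j) :
        Fin (n + m) → A) ∈ T := by
    intro i j
    refine Submodule.subset_span ⟨Fin.natAdd n j, Fin.castAdd m i, ?_⟩
    rw [hFl, hFr]
  -- the corrected first block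
  set b' : Fin n → A := fun i => b i + ∑ j, e j i * g j with hb'
  have hb'0 : ∑ i, b' i * f i = 0 := by
    have e1 : ∑ i, b' i * f i = ∑ i, b i * f i + ∑ j, (∑ i, e j i * f i) * g j := by
      simp only [hb', add_mul, Finset.sum_add_distrib, Finset.sum_mul]
      rw [Finset.sum_comm]
      congr 1
      refine Finset.sum_congr rfl (fun j _ => Finset.sum_congr rfl (fun i _ => ?_))
      ring
    rw [e1]
    simp only [he, sub_mul, Finset.sum_sub_distrib]
    rw [sum_mul_eq_zero_of_mem g c' hc'T, sub_zero]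
    exact ha'
  have hb'T := hf b' hb'0
  -- decomposition
  have hdec : a = inr' n m c' +
      ∑ j, ∑ i, e j i • (Pi.single (Fin.natAdd n j) (f i) - Pi.single (Fin.castAdd m i) (g j) :
        Fin (n + m) → A) + inl' n m b' := by
    ext k
    refine Fin.addCases (fun i₀ => ?_) (fun j₀ => ?_) k
    · simp only [Pi.add_apply, Finset.sum_apply, Pi.smul_apply, Pi.sub_apply, single_nc,
        single_cc, smul_eq_mul]
      show a (Fin.castAdd m i₀) = Fin.append 0 c' (Fin.castAdd m i₀) + _ +
        Fin.append b' 0 (Fin.castAdd m i₀)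
      rw [Fin.append_left, Fin.append_left]
      simp only [Pi.zero_apply, zero_sub, mul_neg, mul_ite, mul_zero, Finset.sum_neg_distrib,
        Finset.sum_ite_eq, Finset.mem_univ, if_true, hb', hb]
      ring
    · simp only [Pi.add_apply, Finset.sum_apply, Pi.smul_apply, Pi.sub_apply, single_nn,
        single_cn, smul_eq_mul]
      show a (Fin.natAdd n j₀) = Fin.append 0 c' (Fin.natAdd n j₀) + _ +
        Fin.append b' 0 (Fin.natAdd n j₀)
      rw [Fin.append_right, Fin.append_right]
      simp only [Pi.zero_apply, sub_zero, mul_ite, mul_zero, add_zero]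
      rw [Finset.sum_comm]
      simp only [Finset.sum_ite_eq, Finset.mem_univ, if_true, he]
      show c j₀ = _
      ring
  rw [hdec]
  refine T.add_mem (T.add_mem (hM2 c' hc'T) ?_) (hM1 b' hb'T)
  exact T.sum_mem fun j _ => T.sum_mem fun i _ => T.smul_mem _ (hK i j)

end H1

/-! ## Total ring of fractions with finitely many minimal primes -/

theorem total_fractions_prod {R : Type u} [CommRing R] {ι : Type} [Fintype ι] (q : ι → Ideal R)
    [∀ i, (q i).IsPrime] (hinj : Function.Injective q)
    (hmin : ∀ P : Ideal R, P ∈ minimalPrimes R ↔ P ∈ Set.range q)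
    (hzd : ∀ x : R, x ∈ nonZeroDivisors R ↔ ∀ i, x ∉ q i) :
    IsLocalization (nonZeroDivisors R) (∀ i, Localization.AtPrime (q i)) := by
  classical
  have hminq : ∀ i, q i ∈ minimalPrimes R := fun i => (hmin _).mpr ⟨i, rfl⟩
  have hpair : ∀ i j, ∃ t : R, t ∉ q i ∧
      (j ≠ i → algebraMap R (Localization.AtPrime (q j)) t = 0) := by
    intro i j
    by_cases hji : j = i
    · exact ⟨1, (Ideal.ne_top_iff_one _).mp (Ideal.IsPrime.ne_top inferInstance),
        fun h => absurd hji h⟩
    have hnle : ¬ q j ≤ q i := by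
      intro hle
      have h1 := (hminq i).2 ⟨inferInstance, bot_le⟩ hle
      exact hji (hinj (le_antisymm hle h1))
    obtain ⟨x, hxj, hxi⟩ := SetLike.not_le_iff_exists.mp hnle
    have hrad := IsLocalization.AtPrime.radical_map_of_mem_minimalPrimes
      (A := Localization.AtPrime (q j)) (q j) ⊥ (hminq j)
    rw [Ideal.map_bot] at hrad
    have hx' : algebraMap R (Localization.AtPrime (q j)) x ∈
        (⊥ : Ideal (Localization.AtPrime (q j))).radical := by
      rw [hrad]; exact Ideal.mem_map_of_mem _ hxj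
    obtain ⟨n, hn⟩ := hx'
    refine ⟨x ^ n, fun h => hxi (Ideal.IsPrime.mem_of_pow_mem inferInstance n h), fun _ => ?_⟩
    rw [map_pow]; exact Ideal.mem_bot.mp hn
  choose t ht1 ht2 using hpair
  let e : ι → R := fun i => ∏ j, t i j
  have he1 : ∀ i, e i ∉ q i := by
    intro i h
    obtain ⟨j, _, hj⟩ := Ideal.IsPrime.prod_mem_iff.mp h
    exact ht1 i j hj
  have he2 : ∀ i j, j ≠ i → algebraMap R (Localization.AtPrime (q j)) (e i) = 0 := by
    intro i j hji
    simp only [e, map_prod]
    exact Finset.prod_eq_zero (Finset.mem_univ j) (ht2 i j hji)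
  have hsum : ∀ (c : ι → R) (i : ι),
      algebraMap R (Localization.AtPrime (q i)) (∑ j, c j * e j) =
        algebraMap R _ (c i) * algebraMap R _ (e i) := by
    intro c i
    rw [map_sum, Finset.sum_eq_single i]
    · rw [map_mul]
    · intro j _ hji
      rw [map_mul, he2 j i (Ne.symm hji), mul_zero]
    · intro h; exact absurd (Finset.mem_univ i) h
  have hnzd : ∀ u : ι → R, (∀ i, u i ∉ q i) → ∑ j, u j * e j ∈ nonZeroDivisors R := by
    intro u hu
    rw [hzd]
    intro i hsi
    have h1 : IsUnit (algebraMap R (Localization.AtPrime (q i)) (∑ j, u j * e j)) := by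
      rw [hsum]
      exact (IsLocalization.map_units _ (⟨u i, hu i⟩ : (q i).primeCompl)).mul
        (IsLocalization.map_units _ (⟨e i, he1 i⟩ : (q i).primeCompl))
    exact (IsLocalization.AtPrime.isUnit_to_map_iff (Localization.AtPrime (q i)) (q i) _).mp h1 hsi
  rw [isLocalization_iff]
  refine ⟨?_, ?_, ?_⟩
  · intro y
    rw [Pi.isUnit_iff]
    intro i
    rw [Pi.algebraMap_apply]
    exact IsLocalization.map_units _ (⟨y, (hzd y).mp y.2 i⟩ : (q i).primeCompl)
  · intro z
    choose a ha using fun i => IsLocalization.surj (q i).primeCompl (z i)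
    refine ⟨(∑ j, (a j).1 * e j, ⟨∑ j, ((a j).2 : R) * e j, hnzd _ (fun i => (a i).2.2)⟩), ?_⟩
    funext i
    simp only [Pi.mul_apply, Pi.algebraMap_apply]
    rw [hsum (fun j => ((a j).2 : R)), hsum (fun j => (a j).1), ← mul_assoc, ha i]
  · intro x y hxy
    have hi : ∀ i, ∃ c : (q i).primeCompl, (c : R) * x = c * y := fun i =>
      (IsLocalization.eq_iff_exists (q i).primeCompl _).mp (by
        have := congrFun hxy i
        simpa only [Pi.algebraMap_apply] using this)
    choose c hc using hi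
    refine ⟨⟨∑ j, (c j : R) * e j, hnzd _ (fun i => (c i).2)⟩, ?_⟩
    show (∑ j, (c j : R) * e j) * x = (∑ j, (c j : R) * e j) * y
    rw [Finset.sum_mul, Finset.sum_mul]
    refine Finset.sum_congr rfl (fun j _ => ?_)
    rw [mul_right_comm, hc j, mul_right_comm]

end Groth.Agent.Lib.CAlgMisc3H1
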