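import Mathlib
import Groth.Prelude.Def_CAlg
import Groth.Agent.Lib.Depth_helper5
import Groth.Agent.Lib.DepthLoc_helper5
import Groth.Agent.Lib.DepthSk_helper5
import Groth.Agent.Lib.DepthRefl_helper5

/-!
# Hartshorne's connectedness in codimension one, algebraic form (helper5)
-/

set_option autoImplicit false
universe u

namespace Groth.Agent.Hartshorne

open Groth.Agent.DepthLib

variable {R : Type u} [CommRing R]

/-- nilpotency at a minimal prime -/
theorem exists_mul_pow_eq_zero {p : Ideal R} (hp : p ∈ minimalPrimes R) {x : R} (hx : x ∈ p) :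
    ∃ (n : ℕ) (s : R), s ∉ p ∧ s * x ^ n = 0 := by
  haveI := hp.1.1
  by_contra hcon
  push Not at hcon
  set S : Submonoid R := p.primeCompl ⊔ Submonoid.powers x with hSdef
  have hdisj : Disjoint (((⊥ : Ideal R) : Set R)) (S : Set R) := by
    rw [Set.disjoint_left]
    intro y hy hyS
    have hy0 : y = 0 := hy
    obtain ⟨s, hs, z, ⟨n, rfl⟩, hsz⟩ := Submonoid.mem_sup.1 hyS
    exact hcon n s hs (by rw [hsz, hy0])
  obtain ⟨Q, hQprime, _, hQS⟩ := Ideal.exists_le_prime_disjoint ⊥ S hdisj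
  have hQp : Q ≤ p := by
    intro y hy
    by_contra hyp
    exact (Set.disjoint_left.1 hQS) hy
      (Submonoid.mem_sup_left (show y ∈ p.primeCompl from hyp))
  have hpQ : p ≤ Q := hp.2 ⟨hQprime, bot_le⟩ hQp
  exact (Set.disjoint_left.1 hQS) (hpQ hx) (Submonoid.mem_sup_right (Submonoid.mem_powers x))

/-- under `(S_1)` an element vanishing at all minimal primes is zero -/
theorem eq_zero_of_forall_minimalPrimes [IsNoetherianRing R] (hS : LocCoh.HasSk 2 R R) (r : R)
    (hr : ∀ p ∈ minimalPrimes R, ∃ s : R, s ∉ p ∧ s * r = 0) : r = 0 := by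
  by_contra hne
  obtain ⟨Q, hQass, hQ⟩ := exists_le_isAssociatedPrime_of_isNoetherianRing R r hne
  haveI := hQass.isPrime
  have hQmem : Q ∈ associatedPrimes R R := hQass
  have h0 := (not_one_le_depth_localization_iff R Q).2 hQmem
  have h1 := hS Q
  rw [supportDim_locSelf] at h1
  have hht : Q.height = 0 := by
    by_contra hh
    have h1' : 1 ≤ Q.height := Order.one_le_iff_ne_zero.2 hh
    apply h0
    have h2 : ((1 : ℕ∞) : WithBot ℕ∞) ≤
        min ((2 : ℕ) : WithBot ℕ∞) (Q.height : WithBot ℕ∞) := by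
      apply le_min
      · have h3 : ((2 : ℕ) : WithBot ℕ∞) = ((2 : ℕ∞) : WithBot ℕ∞) := rfl
        rw [h3]
        exact WithBot.coe_le_coe.2 (by norm_num)
      · exact WithBot.coe_le_coe.2 h1'
    exact WithBot.coe_le_coe.1 (le_trans h2 h1)
  have hQmin : Q ∈ minimalPrimes R := Ideal.height_eq_zero_iff.1 hht
  obtain ⟨s, hsQ, hsr⟩ := hr Q hQmin
  apply hsQ
  apply hQ
  rw [Submodule.mem_colon_singleton, Submodule.mem_bot]
  exact hsr

theorem mem_of_mem_associatedPrimes_quotient [IsNoetherianRing R] (P1 : Set (Ideal R)) (hP1 : P1 ⊆ minimalPrimes R)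
    (a : Ideal R) (ha : ∀ r : R, r ∈ a ↔ ∀ p ∈ P1, ∃ s : R, s ∉ p ∧ s * r = 0) (Q : Ideal R)
    (hQ : Q ∈ associatedPrimes R (R ⧸ a)) : Q ∈ P1 := by
  obtain ⟨hQprime, m₀, hm₀⟩ := isAssociatedPrime_iff.1 hQ
  obtain ⟨r, rfl⟩ := Ideal.Quotient.mk_surjective m₀
  have hQmem : ∀ x, x ∈ Q ↔ x * r ∈ a := by
    intro x
    rw [hm₀, Submodule.mem_colon_singleton, Submodule.mem_bot]
    have e : x • (Ideal.Quotient.mk a r) = Ideal.Quotient.mk a (x * r) := rfl
    rw [e, Ideal.Quotient.eq_zero_iff_mem]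
  have hr : r ∉ a := by
    intro hra
    apply hQprime.ne_top
    rw [Ideal.eq_top_iff_one, hQmem, one_mul]
    exact hra
  rw [ha] at hr
  push Not at hr
  obtain ⟨p, hp1, hps⟩ := hr
  have hpmin := hP1 hp1
  haveI := hpmin.1.1
  have hQp : Q ≤ p := by
    intro x hx
    rw [hQmem, ha] at hx
    obtain ⟨s, hsp, hs⟩ := hx p hp1
    by_contra hxp
    have hsx : s * x ∉ p := fun h => (Ideal.IsPrime.mem_or_mem ‹_› h).elim hsp hxp
    exact hps (s * x) hsx (by rw [mul_assoc]; exact hs)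
  have hpQ : p ≤ Q := hpmin.2 ⟨hQprime, bot_le⟩ hQp
  rw [le_antisymm hQp hpQ]
  exact hp1

theorem exists_mem_not_mem [IsNoetherianRing R] (P2 : Set (Ideal R))
    (hP2 : P2 ⊆ minimalPrimes R) (b : Ideal R)
    (hb : ∀ r : R, r ∈ b ↔ ∀ p ∈ P2, ∃ s : R, s ∉ p ∧ s * r = 0) (P : Ideal R)
    (hP : P ∈ minimalPrimes R) (hPP2 : P ∉ P2) : ∃ r ∈ b, r ∉ P := by
  classical
  haveI := hP.1.1
  have hfin : P2.Finite := (minimalPrimes.finite_of_isNoetherianRing R).subset hP2
  have key : ∀ p ∈ P2, ∃ y : R, y ∉ P ∧ ∃ s : R, s ∉ p ∧ s * y = 0 := by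
    intro p hp
    have hpmin := hP2 hp
    haveI := hpmin.1.1
    have hnle : ¬ p ≤ P := by
      intro hle
      have hle' := hP.2 ⟨hpmin.1.1, bot_le⟩ hle
      have heq : P = p := le_antisymm hle' hle
      exact hPP2 (heq ▸ hp)
    obtain ⟨x, hxp, hxP⟩ := SetLike.not_le_iff_exists.1 hnle
    obtain ⟨n, s, hsp, hs⟩ := exists_mul_pow_eq_zero hpmin hxp
    exact ⟨x ^ n, fun h => hxP (Ideal.IsPrime.mem_of_pow_mem ‹_› n h), s, hsp, hs⟩
  choose! y hyP s hsp hsy using key
  refine ⟨∏ p ∈ hfin.toFinset, y p, ?_, ?_⟩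
  · rw [hb]
    intro p hp
    refine ⟨s p, hsp p hp, ?_⟩
    rw [← Finset.mul_prod_erase hfin.toFinset y (hfin.mem_toFinset.2 hp), ← mul_assoc, hsy p hp,
      zero_mul]
  · intro hmem
    rw [Ideal.IsPrime.prod_mem_iff] at hmem
    obtain ⟨p, hp, hyp⟩ := hmem
    exact hyP p (hfin.mem_toFinset.1 hp) hyp

section seq

variable (a b : Ideal R)

def sf : R →ₗ[R] (R ⧸ a) × (R ⧸ b) := (Submodule.mkQ a).prod (Submodule.mkQ b)

def sga : (R ⧸ a) →ₗ[R] R ⧸ (a ⊔ b) :=
  Submodule.liftQ a (Submodule.mkQ (a ⊔ b)) (by rw [Submodule.ker_mkQ]; exact le_sup_left)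

def sgb : (R ⧸ b) →ₗ[R] R ⧸ (a ⊔ b) :=
  Submodule.liftQ b (Submodule.mkQ (a ⊔ b)) (by rw [Submodule.ker_mkQ]; exact le_sup_right)

def sg : (R ⧸ a) × (R ⧸ b) →ₗ[R] R ⧸ (a ⊔ b) := (sga a b).coprod (-(sgb a b))

theorem sg_apply (r1 r2 : R) :
    sg a b (Submodule.mkQ a r1, Submodule.mkQ b r2) = Submodule.mkQ (a ⊔ b) (r1 - r2) := by
  show sga a b (Submodule.mkQ a r1) + (-(sgb a b)) (Submodule.mkQ b r2) = _
  rw [LinearMap.neg_apply, map_sub, sub_eq_add_neg]
  rfl

theorem sf_injective (h : a ⊓ b = ⊥) : Function.Injective (sf a b) := by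
  rw [injective_iff_map_eq_zero]
  intro r hr
  have h1 : Submodule.mkQ a r = 0 := congrArg Prod.fst hr
  have h2 : Submodule.mkQ b r = 0 := congrArg Prod.snd hr
  rw [Submodule.mkQ_apply, Submodule.Quotient.mk_eq_zero] at h1 h2
  have h3 : r ∈ a ⊓ b := ⟨h1, h2⟩
  rw [h] at h3
  exact h3

theorem sg_surjective : Function.Surjective (sg a b) := by
  intro z
  obtain ⟨r, rfl⟩ := Submodule.mkQ_surjective _ z
  refine ⟨(Submodule.mkQ a r, Submodule.mkQ b 0), ?_⟩
  rw [sg_apply, sub_zero]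

theorem sf_sg_exact : Function.Exact (sf a b) (sg a b) := by
  rintro ⟨x, y⟩
  obtain ⟨r1, rfl⟩ := Submodule.mkQ_surjective a x
  obtain ⟨r2, rfl⟩ := Submodule.mkQ_surjective b y
  rw [sg_apply]
  constructor
  · intro h
    rw [Submodule.mkQ_apply, Submodule.Quotient.mk_eq_zero] at h
    obtain ⟨α, hα, β, hβ, hαβ⟩ := Submodule.mem_sup.1 h
    refine ⟨r1 - α, ?_⟩
    apply Prod.ext
    · show Submodule.mkQ a (r1 - α) = Submodule.mkQ a r1
      rw [map_sub, sub_eq_self]
      exact (Submodule.Quotient.mk_eq_zero a).2 hα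
    · show Submodule.mkQ b (r1 - α) = Submodule.mkQ b r2
      have h5 : r1 - α = r2 + β := by linear_combination (-1 : R) * hαβ
      rw [h5, map_add, add_eq_left]
      exact (Submodule.Quotient.mk_eq_zero b).2 hβ
  · rintro ⟨r, hr⟩
    have h1 : Submodule.mkQ a r = Submodule.mkQ a r1 := congrArg Prod.fst hr
    have h2 : Submodule.mkQ b r = Submodule.mkQ b r2 := congrArg Prod.snd hr
    rw [Submodule.mkQ_apply, Submodule.Quotient.mk_eq_zero]
    have h1' : r - r1 ∈ a := (Submodule.Quotient.eq a).1 h1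
    have h2' : r - r2 ∈ b := (Submodule.Quotient.eq b).1 h2
    have h5 : r1 - r2 = -(r - r1) + (r - r2) := by ring
    rw [h5]
    exact Submodule.add_mem _ (Submodule.mem_sup_left (Submodule.neg_mem _ h1'))
      (Submodule.mem_sup_right h2')

end seq

theorem inl_snd_exact (M N : Type u) [AddCommGroup M] [AddCommGroup N] [Module R M]
    [Module R N] : Function.Exact (LinearMap.inl R M N) (LinearMap.snd R M N) := by
  rintro ⟨x, y⟩
  constructor
  · intro h
    have hy : y = 0 := h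
    exact ⟨x, by rw [hy]; rfl⟩
  · rintro ⟨m, hm⟩
    have h2 : (0 : N) = y := congrArg Prod.snd hm
    exact h2.symm

theorem height_eq_one [IsNoetherianRing R] (hS : LocCoh.HasSk 2 R R) (P1 P2 : Set (Ideal R))
    (hP : P1 ∪ P2 = minimalPrimes R) (hdisj : Disjoint P1 P2) (a b : Ideal R)
    (ha : ∀ r : R, r ∈ a ↔ ∀ p ∈ P1, ∃ s : R, s ∉ p ∧ s * r = 0)
    (hb : ∀ r : R, r ∈ b ↔ ∀ p ∈ P2, ∃ s : R, s ∉ p ∧ s * r = 0) (P : Ideal R)
    (hPmin : P ∈ (a ⊔ b).minimalPrimes) : P.height = 1 := by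
  haveI hPprime : P.IsPrime := hPmin.1.1
  have hP1 : P1 ⊆ minimalPrimes R := by rw [← hP]; exact Set.subset_union_left
  have hP2 : P2 ⊆ minimalPrimes R := by rw [← hP]; exact Set.subset_union_right
  have haP : a ≤ P := le_trans le_sup_left hPmin.1.2
  have hbP : b ≤ P := le_trans le_sup_right hPmin.1.2
  have hnotmin : P ∉ minimalPrimes R := by
    intro hmin
    have hmin' : P ∈ P1 ∪ P2 := by rw [hP]; exact hmin
    rcases hmin' with h1 | h2
    · have hPP2 : P ∉ P2 := fun h => (Set.disjoint_left.1 hdisj) h1 h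
      obtain ⟨r, hrb, hrP⟩ := exists_mem_not_mem P2 hP2 b hb P hmin hPP2
      exact hrP (hbP hrb)
    · have hPP1 : P ∉ P1 := fun h => (Set.disjoint_left.1 hdisj) h h2
      obtain ⟨r, hra, hrP⟩ := exists_mem_not_mem P1 hP1 a ha P hmin hPP1
      exact hrP (haP hra)
  have hinf : a ⊓ b = ⊥ := by
    rw [eq_bot_iff]
    intro r hr
    rw [Submodule.mem_bot]
    apply eq_zero_of_forall_minimalPrimes hS r
    intro p hp
    have hp' : p ∈ P1 ∪ P2 := by rw [hP]; exact hp
    rcases hp' with h1 | h2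
    · exact (ha r).1 hr.1 p h1
    · exact (hb r).1 hr.2 p h2
  have hnot2 : ¬ 2 ≤ P.height := by
    intro h2
    have hdepthR : (2 : ℕ∞) ≤ LocCoh.idealDepth P R := by
      have h6 : ((2 : ℕ) : ℕ∞) ≤ LocCoh.idealDepth P R := by
        apply le_idealDepth_of_forall_localization P 2 R
        intro Q _ hPQ
        have h3 := hS Q
        rw [supportDim_locSelf] at h3
        have h4 : (2 : ℕ∞) ≤ Q.height := le_trans h2 (Ideal.height_mono hPQ)
        have h5 : (((2 : ℕ) : ℕ∞) : WithBot ℕ∞) ≤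
            min ((2 : ℕ) : WithBot ℕ∞) (Q.height : WithBot ℕ∞) := by
          apply le_min
          · exact le_rfl
          · exact WithBot.coe_le_coe.2 (by exact_mod_cast h4)
        exact WithBot.coe_le_coe.1 (le_trans h5 h3)
      exact_mod_cast h6
    have hd := (depth_ses P R ((R ⧸ a) × (R ⧸ b)) (R ⧸ (a ⊔ b)) (sf a b) (sg a b)
      (sf_injective a b hinf) (sg_surjective a b) (sf_sg_exact a b)).2.1
    have hPass : P ∈ associatedPrimes R (R ⧸ (a ⊔ b)) := by
      apply Module.associatedPrimes.minimalPrimes_annihilator_subset_associatedPrimes R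
        (R ⧸ (a ⊔ b))
      rw [Ideal.annihilator_quotient]
      exact hPmin
    have h0 := not_one_le_idealDepth_of_le_associatedPrime P (R ⧸ (a ⊔ b)) P hPass le_rfl
    have hN : ¬ 1 ≤ LocCoh.idealDepth P ((R ⧸ a) × (R ⧸ b)) := by
      intro hN1
      apply h0
      refine le_trans (le_min hN1 ?_) hd
      exact ENat.le_sub_of_add_le_right (by simp) (by rw [one_add_one_eq_two]; exact hdepthR)
    obtain ⟨Q, hQass, hPQ⟩ := exists_associatedPrime_of_not_one_le _ _ hN
    have hQ12 : Q ∈ associatedPrimes R (R ⧸ a) ∪ associatedPrimes R (R ⧸ b) :=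
      associatedPrimes.subset_union_of_exact (f := LinearMap.inl R (R ⧸ a) (R ⧸ b))
        (g := LinearMap.snd R (R ⧸ a) (R ⧸ b)) LinearMap.inl_injective
        (inl_snd_exact (R ⧸ a) (R ⧸ b)) hQass
    have hQmin : Q ∈ minimalPrimes R := by
      rcases hQ12 with h | h
      · exact hP1 (mem_of_mem_associatedPrimes_quotient P1 hP1 a ha Q h)
      · exact hP2 (mem_of_mem_associatedPrimes_quotient P2 hP2 b hb Q h)
    have hQP : Q ≤ P := hQmin.2 ⟨hPprime, bot_le⟩ hPQ
    have hPQeq : Q = P := le_antisymm hQP hPQ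
    rw [hPQeq] at hQmin
    exact hnotmin hQmin
  have hne0 : P.height ≠ 0 := fun h => hnotmin (Ideal.height_eq_zero_iff.1 h)
  have h1 : 1 ≤ P.height := Order.one_le_iff_ne_zero.2 hne0
  have h2 : P.height < 2 := not_le.1 hnot2
  have h3 : P.height ≤ 1 := by
    have h4 := ENat.lt_add_one_iff (n := 1) (m := P.height) (by simp)
    rw [one_add_one_eq_two] at h4
    exact h4.1 h2
  exact le_antisymm h3 h1

end Groth.Agent.Hartshorne
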