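import Mathlib
import Groth.Prelude.Def_CAlg
import Groth.Agent.Lib.Hartshorne_helper5

/-!
# Hartshorne's connectedness theorem, affine form (helper5)
-/

set_option autoImplicit false
universe u

namespace Groth.Agent.Hartshorne

open Groth.Agent.DepthLib

variable {A : Type u} [CommRing A]

/-- ideal of elements vanishing in the local rings at all points of `U` -/
def vanishing (U : Set (PrimeSpectrum A)) : Ideal A where
  carrier := {r | ∀ p ∈ U, ∃ s : A, s ∉ p.asIdeal ∧ s * r = 0}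
  add_mem' := by
    intro r1 r2 h1 h2 p hp
    obtain ⟨s1, hs1, e1⟩ := h1 p hp
    obtain ⟨s2, hs2, e2⟩ := h2 p hp
    refine ⟨s1 * s2, fun h => (p.2.mem_or_mem h).elim hs1 hs2, ?_⟩
    have h3 : s1 * s2 * (r1 + r2) = s2 * (s1 * r1) + s1 * (s2 * r2) := by ring
    rw [h3, e1, e2, mul_zero, mul_zero, add_zero]
  zero_mem' := fun p _ => ⟨1, fun h => p.2.ne_top ((Ideal.eq_top_iff_one _).2 h), mul_zero 1⟩
  smul_mem' := by
    intro c r h p hp
    obtain ⟨s, hs, e⟩ := h p hp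
    exact ⟨s, hs, by rw [smul_eq_mul, mul_left_comm, e, mul_zero]⟩

theorem mem_vanishing {U : Set (PrimeSpectrum A)} {r : A} :
    r ∈ vanishing U ↔ ∀ p ∈ U, ∃ s : A, s ∉ p.asIdeal ∧ s * r = 0 := Iff.rfl

theorem vanishing_le {U : Set (PrimeSpectrum A)} {p : PrimeSpectrum A} (hp : p ∈ U) :
    vanishing U ≤ p.asIdeal := by
  intro r hr
  obtain ⟨s, hs, e⟩ := hr p hp
  have h1 : s * r ∈ p.asIdeal := by rw [e]; exact zero_mem _
  exact (p.2.mem_or_mem h1).resolve_left hs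

theorem mem_of_mem_associatedPrimes_vanishing [IsNoetherianRing A] (U : Set (PrimeSpectrum A))
    (hU : IsOpen U) (Q : Ideal A) (hQ : Q ∈ associatedPrimes A (A ⧸ vanishing U)) :
    ∃ hQp : Q.IsPrime, (⟨Q, hQp⟩ : PrimeSpectrum A) ∈ U := by
  obtain ⟨hQprime, m₀, hm₀⟩ := isAssociatedPrime_iff.1 hQ
  refine ⟨hQprime, ?_⟩
  obtain ⟨r, rfl⟩ := Ideal.Quotient.mk_surjective m₀
  have hQmem : ∀ x, x ∈ Q ↔ x * r ∈ vanishing U := by
    intro x
    rw [hm₀, Submodule.mem_colon_singleton, Submodule.mem_bot]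
    have e : x • (Ideal.Quotient.mk (vanishing U) r) = Ideal.Quotient.mk (vanishing U) (x * r) :=
      rfl
    rw [e, Ideal.Quotient.eq_zero_iff_mem]
  have hr : r ∉ vanishing U := by
    intro hra
    apply hQprime.ne_top
    rw [Ideal.eq_top_iff_one, hQmem, one_mul]
    exact hra
  rw [mem_vanishing] at hr
  push Not at hr
  obtain ⟨p, hpU, hps⟩ := hr
  have hQp : Q ≤ p.asIdeal := by
    intro x hx
    rw [hQmem, mem_vanishing] at hx
    obtain ⟨s, hsp, hs⟩ := hx p hpU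
    by_contra hxp
    have hsx : s * x ∉ p.asIdeal := fun h => (p.2.mem_or_mem h).elim hsp hxp
    exact hps (s * x) hsx (by rw [mul_assoc]; exact hs)
  have hspec : (⟨Q, hQprime⟩ : PrimeSpectrum A) ⤳ p :=
    (PrimeSpectrum.le_iff_specializes _ _).1 hQp
  exact hspec.mem_open hU hpU

theorem exists_mem_vanishing_not_mem [IsNoetherianRing A] (U1 U2 : Set (PrimeSpectrum A))
    (hU1 : IsOpen U1) (hU2 : IsOpen U2) (hdisj : Disjoint U1 U2) (p : PrimeSpectrum A)
    (hp : p ∈ U1) : ∃ r ∈ vanishing U2, r ∉ p.asIdeal := by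
  obtain ⟨s1, hs1⟩ := (PrimeSpectrum.isOpen_iff U1).1 hU1
  obtain ⟨s2, hs2⟩ := (PrimeSpectrum.isOpen_iff U2).1 hU2
  have hp1 : p ∉ PrimeSpectrum.zeroLocus s1 := by
    rw [← hs1]
    exact fun h => h hp
  rw [PrimeSpectrum.mem_zeroLocus, Set.not_subset] at hp1
  obtain ⟨x, hxs1, hxp⟩ := hp1
  obtain ⟨n, hn⟩ := IsNoetherianRing.isNilpotent_nilradical A
  refine ⟨x ^ n, ?_, fun h => hxp (p.2.mem_of_pow_mem n h)⟩
  intro q hq
  have hq2 : q ∉ PrimeSpectrum.zeroLocus s2 := by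
    rw [← hs2]
    exact fun h => h hq
  rw [PrimeSpectrum.mem_zeroLocus, Set.not_subset] at hq2
  obtain ⟨y, hys2, hyq⟩ := hq2
  have hxy : x * y ∈ nilradical A := by
    rw [nilradical_eq_sInf, Ideal.mem_sInf]
    intro P hP
    by_cases hPU1 : (⟨P, hP⟩ : PrimeSpectrum A) ∈ U1
    · have h1 : (⟨P, hP⟩ : PrimeSpectrum A) ∉ U2 := fun h => Set.disjoint_left.1 hdisj hPU1 h
      have h' : (⟨P, hP⟩ : PrimeSpectrum A) ∈ PrimeSpectrum.zeroLocus s2 := by
        rw [← hs2]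
        exact h1
      exact P.mul_mem_left _ (h' hys2)
    · have h' : (⟨P, hP⟩ : PrimeSpectrum A) ∈ PrimeSpectrum.zeroLocus s1 := by
        rw [← hs1]
        exact hPU1
      exact P.mul_mem_right _ (h' hxs1)
  have h0 : (x * y) ^ n = 0 := by
    have h2 := Ideal.pow_mem_pow hxy n
    rw [hn] at h2
    exact h2
  refine ⟨y ^ n, fun h => hyq (q.2.mem_of_pow_mem n h), ?_⟩
  rw [← mul_pow, mul_comm y x]
  exact h0

/-- **Hartshorne's connectedness theorem**, affine form -/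
theorem isPreconnected_compl_zeroLocus [IsNoetherianRing A] [PreconnectedSpace (PrimeSpectrum A)]
    (I : Ideal A)
    (h : ∀ (p : Ideal A) [p.IsPrime], I ≤ p →
      (2 : ℕ∞) ≤ LocCoh.depth (Localization.AtPrime p) (Localization.AtPrime p)) :
    IsPreconnected ((PrimeSpectrum.zeroLocus (I : Set A))ᶜ) := by
  intro u v hu hv hsub hne1 hne2
  obtain ⟨x, hxD, hxu⟩ := hne1
  obtain ⟨y, hyD, hyv⟩ := hne2
  by_contra hempty
  have hDopen : IsOpen ((PrimeSpectrum.zeroLocus (I : Set A))ᶜ) :=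
    (PrimeSpectrum.isClosed_zeroLocus _).isOpen_compl
  have hU1 : IsOpen ((PrimeSpectrum.zeroLocus (I : Set A))ᶜ ∩ u) := hDopen.inter hu
  have hU2 : IsOpen ((PrimeSpectrum.zeroLocus (I : Set A))ᶜ ∩ v) := hDopen.inter hv
  have hdisj : Disjoint ((PrimeSpectrum.zeroLocus (I : Set A))ᶜ ∩ u)
      ((PrimeSpectrum.zeroLocus (I : Set A))ᶜ ∩ v) := by
    rw [Set.disjoint_left]
    intro z hz1 hz2
    exact hempty ⟨z, hz1.1, hz1.2, hz2.2⟩
  have hunion : ∀ z, z ∈ (PrimeSpectrum.zeroLocus (I : Set A))ᶜ →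
      z ∈ (PrimeSpectrum.zeroLocus (I : Set A))ᶜ ∩ u ∨
        z ∈ (PrimeSpectrum.zeroLocus (I : Set A))ᶜ ∩ v := by
    intro z hz
    rcases hsub hz with h1 | h2
    · exact Or.inl ⟨hz, h1⟩
    · exact Or.inr ⟨hz, h2⟩
  have hmemD : ∀ z : PrimeSpectrum A,
      z ∈ (PrimeSpectrum.zeroLocus (I : Set A))ᶜ ↔ ¬ I ≤ z.asIdeal := by
    intro z
    rw [Set.mem_compl_iff, PrimeSpectrum.mem_zeroLocus, SetLike.coe_subset_coe]
  set a := vanishing ((PrimeSpectrum.zeroLocus (I : Set A))ᶜ ∩ u) with ha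
  set b := vanishing ((PrimeSpectrum.zeroLocus (I : Set A))ᶜ ∩ v) with hb
  have hdepth : ∀ P : Ideal A, I ≤ P → ((2 : ℕ) : ℕ∞) ≤ LocCoh.idealDepth P A := by
    intro P hIP
    apply le_idealDepth_of_forall_localization P 2 A
    intro Q _ hPQ
    rw [depth_locSelf]
    exact_mod_cast h Q (le_trans hIP hPQ)
  have hinf : a ⊓ b = ⊥ := by
    rw [eq_bot_iff]
    intro r hr
    rw [Submodule.mem_bot]
    have h1 : 1 ≤ LocCoh.idealDepth I A := le_trans (by norm_num) (hdepth I le_rfl)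
    apply eq_zero_of_one_le_idealDepth A I h1 r
    intro q hq hIq
    have hqD : (⟨q, hq⟩ : PrimeSpectrum A) ∈ (PrimeSpectrum.zeroLocus (I : Set A))ᶜ :=
      (hmemD _).2 hIq
    rcases hunion _ hqD with h1 | h2
    · obtain ⟨s, hs, e⟩ := hr.1 _ h1
      exact ⟨s, hs, e⟩
    · obtain ⟨s, hs, e⟩ := hr.2 _ h2
      exact ⟨s, hs, e⟩
  have hstep3 : ∀ P : Ideal A, ∀ hP : P.IsPrime, a ⊔ b ≤ P → I ≤ P := by
    intro P hP hab
    by_contra hIP
    have hPD : (⟨P, hP⟩ : PrimeSpectrum A) ∈ (PrimeSpectrum.zeroLocus (I : Set A))ᶜ :=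
      (hmemD _).2 hIP
    rcases hunion _ hPD with h1 | h2
    · obtain ⟨r, hrb, hrP⟩ := exists_mem_vanishing_not_mem _ _ hU1 hU2 hdisj _ h1
      exact hrP (hab (Ideal.mem_sup_right hrb))
    · obtain ⟨r, hra, hrP⟩ := exists_mem_vanishing_not_mem _ _ hU2 hU1 hdisj.symm _ h2
      exact hrP (hab (Ideal.mem_sup_left hra))
  have htop : a ⊔ b = ⊤ := by
    by_contra hne
    obtain ⟨⟨P, hPmin⟩⟩ := Ideal.nonempty_minimalPrimes hne
    haveI hPprime : P.IsPrime := hPmin.1.1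
    have hIP : I ≤ P := hstep3 P hPprime hPmin.1.2
    have hdepthR : (2 : ℕ∞) ≤ LocCoh.idealDepth P A := by exact_mod_cast hdepth P hIP
    have hd := (depth_ses P A ((A ⧸ a) × (A ⧸ b)) (A ⧸ (a ⊔ b)) (sf a b) (sg a b)
      (sf_injective a b hinf) (sg_surjective a b) (sf_sg_exact a b)).2.1
    have hPass : P ∈ associatedPrimes A (A ⧸ (a ⊔ b)) := by
      apply Module.associatedPrimes.minimalPrimes_annihilator_subset_associatedPrimes A
        (A ⧸ (a ⊔ b))
      rw [Ideal.annihilator_quotient]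
      exact hPmin
    have h0 := not_one_le_idealDepth_of_le_associatedPrime P (A ⧸ (a ⊔ b)) P hPass le_rfl
    have hN : ¬ 1 ≤ LocCoh.idealDepth P ((A ⧸ a) × (A ⧸ b)) := by
      intro hN1
      apply h0
      refine le_trans (le_min hN1 ?_) hd
      exact ENat.le_sub_of_add_le_right (by simp) (by rw [one_add_one_eq_two]; exact hdepthR)
    obtain ⟨Q, hQass, hPQ⟩ := exists_associatedPrime_of_not_one_le _ _ hN
    have hQ12 : Q ∈ associatedPrimes A (A ⧸ a) ∪ associatedPrimes A (A ⧸ b) :=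
      associatedPrimes.subset_union_of_exact (f := LinearMap.inl A (A ⧸ a) (A ⧸ b))
        (g := LinearMap.snd A (A ⧸ a) (A ⧸ b)) LinearMap.inl_injective
        (inl_snd_exact (A ⧸ a) (A ⧸ b)) hQass
    have hQD : ∃ hQp : Q.IsPrime,
        (⟨Q, hQp⟩ : PrimeSpectrum A) ∈ (PrimeSpectrum.zeroLocus (I : Set A))ᶜ := by
      rcases hQ12 with h | h
      · obtain ⟨hQp, hQU⟩ := mem_of_mem_associatedPrimes_vanishing _ hU1 Q h
        exact ⟨hQp, hQU.1⟩
      · obtain ⟨hQp, hQU⟩ := mem_of_mem_associatedPrimes_vanishing _ hU2 Q h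
        exact ⟨hQp, hQU.1⟩
    obtain ⟨hQp, hQD'⟩ := hQD
    exact (hmemD _).1 hQD' (le_trans hIP hPQ)
  have hZ : IsClopen (PrimeSpectrum.zeroLocus (a : Set A)) := by
    refine ⟨PrimeSpectrum.isClosed_zeroLocus _, ?_⟩
    have h1 : PrimeSpectrum.zeroLocus (a : Set A) = (PrimeSpectrum.zeroLocus (b : Set A))ᶜ := by
      ext z
      simp only [Set.mem_compl_iff, PrimeSpectrum.mem_zeroLocus, SetLike.coe_subset_coe]
      constructor
      · intro hza hzb
        have h2 : a ⊔ b ≤ z.asIdeal := sup_le hza hzb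
        rw [htop] at h2
        exact z.2.ne_top (top_le_iff.1 h2)
      · intro hzb
        by_contra hza
        have h3 : a ⊓ b ≤ z.asIdeal := by rw [hinf]; exact bot_le
        exact hzb (((Ideal.IsPrime.inf_le z.2).1 h3).resolve_left hza)
    rw [h1]
    exact (PrimeSpectrum.isClosed_zeroLocus _).isOpen_compl
  rcases isClopen_iff.1 hZ with h1 | h1
  · have h2 : x ∈ PrimeSpectrum.zeroLocus (a : Set A) := by
      rw [PrimeSpectrum.mem_zeroLocus, SetLike.coe_subset_coe]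
      exact vanishing_le ⟨hxD, hxu⟩
    rw [h1] at h2
    exact h2
  · have hya : a ≤ y.asIdeal := by
      have h2 : y ∈ PrimeSpectrum.zeroLocus (a : Set A) := by rw [h1]; trivial
      rwa [PrimeSpectrum.mem_zeroLocus, SetLike.coe_subset_coe] at h2
    have hyb : b ≤ y.asIdeal := vanishing_le ⟨hyD, hyv⟩
    have h2 : a ⊔ b ≤ y.asIdeal := sup_le hya hyb
    rw [htop] at h2
    exact y.2.ne_top (top_le_iff.1 h2)

end Groth.Agent.Hartshorne
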