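import Mathlib
import Groth.Prelude.Def_CAlg
import Groth.Agent.Lib.Connected_helper5

/-!
# Connectedness in codimension `d - 1` (helper5)
-/

set_option autoImplicit false
universe u

namespace Groth.Agent.Hartshorne

open Groth.Agent.DepthLib

variable {A : Type u} [CommRing A]

/-- adjacency of minimal primes: both lie in a prime of height `< d` -/
def Adj (d : ℕ) (p q : Ideal A) : Prop :=
  p ∈ minimalPrimes A ∧ q ∈ minimalPrimes A ∧
    ∃ (r : Ideal A) (_ : r.IsPrime), p ≤ r ∧ q ≤ r ∧ r.height + 1 ≤ (d : ℕ∞)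

theorem rtg_of_minimalPrimes [IsNoetherianRing A] [PreconnectedSpace (PrimeSpectrum A)] (d : ℕ)
    (h : ∀ (p : Ideal A) [p.IsPrime], (d : ℕ∞) ≤ p.height →
      (2 : ℕ∞) ≤ LocCoh.depth (Localization.AtPrime p) (Localization.AtPrime p))
    (p' p'' : Ideal A) (hp' : p' ∈ minimalPrimes A) (hp'' : p'' ∈ minimalPrimes A) :
    Relation.ReflTransGen (Adj d) p' p'' := by
  classical
  by_contra hnot
  have hfin : (minimalPrimes A).Finite := minimalPrimes.finite_of_isNoetherianRing A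
  have hP1fin : {q | q ∈ minimalPrimes A ∧ Relation.ReflTransGen (Adj d) p' q}.Finite :=
    hfin.subset (fun q hq => hq.1)
  have hP2fin : {q | q ∈ minimalPrimes A ∧ ¬ Relation.ReflTransGen (Adj d) p' q}.Finite :=
    hfin.subset (fun q hq => hq.1)
  set a : Ideal A := hP1fin.toFinset.inf id with ha
  set b : Ideal A := hP2fin.toFinset.inf id with hb
  have ha_le : ∀ q, q ∈ minimalPrimes A → Relation.ReflTransGen (Adj d) p' q → a ≤ q :=
    fun q hq hr => Finset.inf_le (f := id) (hP1fin.mem_toFinset.2 ⟨hq, hr⟩)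
  have hb_le : ∀ q, q ∈ minimalPrimes A → ¬ Relation.ReflTransGen (Adj d) p' q → b ≤ q :=
    fun q hq hr => Finset.inf_le (f := id) (hP2fin.mem_toFinset.2 ⟨hq, hr⟩)
  have ha_prime : ∀ P : Ideal A, P.IsPrime → a ≤ P →
      ∃ q, q ∈ minimalPrimes A ∧ Relation.ReflTransGen (Adj d) p' q ∧ q ≤ P := by
    intro P hP haP
    obtain ⟨q, hq, hqP⟩ := (Ideal.IsPrime.inf_le' hP).1 haP
    have hq' := hP1fin.mem_toFinset.1 hq
    exact ⟨q, hq'.1, hq'.2, hqP⟩
  have hb_prime : ∀ P : Ideal A, P.IsPrime → b ≤ P →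
      ∃ q, q ∈ minimalPrimes A ∧ ¬ Relation.ReflTransGen (Adj d) p' q ∧ q ≤ P := by
    intro P hP hbP
    obtain ⟨q, hq, hqP⟩ := (Ideal.IsPrime.inf_le' hP).1 hbP
    have hq' := hP2fin.mem_toFinset.1 hq
    exact ⟨q, hq'.1, hq'.2, hqP⟩
  have hht : ∀ (P : Ideal A) [P.IsPrime], a ⊔ b ≤ P → (d : ℕ∞) ≤ P.height := by
    intro P hP hab
    by_contra hlt
    obtain ⟨q1, hq1min, hq1r, hq1P⟩ := ha_prime P hP (le_trans le_sup_left hab)
    obtain ⟨q2, hq2min, hq2r, hq2P⟩ := hb_prime P hP (le_trans le_sup_right hab)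
    apply hq2r
    exact hq1r.tail ⟨hq1min, hq2min, P, hP, hq1P, hq2P, Order.add_one_le_of_lt (not_le.1 hlt)⟩
  have hpre := isPreconnected_compl_zeroLocus (a ⊔ b) (fun P _ hP => h P (hht P hP))
  rw [isPreconnected_closed_iff] at hpre
  have key := hpre (PrimeSpectrum.zeroLocus (a : Set A)) (PrimeSpectrum.zeroLocus (b : Set A))
    (PrimeSpectrum.isClosed_zeroLocus _) (PrimeSpectrum.isClosed_zeroLocus _) ?_ ?_ ?_
  · obtain ⟨z, hzD, hza, hzb⟩ := key
    apply hzD
    rw [PrimeSpectrum.mem_zeroLocus, SetLike.coe_subset_coe] at hza hzb ⊢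
    exact sup_le hza hzb
  · intro z _
    haveI := z.2
    obtain ⟨q, hq, hqz⟩ := Ideal.exists_minimalPrimes_le (bot_le : (⊥ : Ideal A) ≤ z.asIdeal)
    by_cases hr : Relation.ReflTransGen (Adj d) p' q
    · left
      rw [PrimeSpectrum.mem_zeroLocus, SetLike.coe_subset_coe]
      exact le_trans (ha_le q hq hr) hqz
    · right
      rw [PrimeSpectrum.mem_zeroLocus, SetLike.coe_subset_coe]
      exact le_trans (hb_le q hq hr) hqz
  · refine ⟨⟨p', hp'.1.1⟩, ?_, ?_⟩
    · intro hmem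
      rw [PrimeSpectrum.mem_zeroLocus, SetLike.coe_subset_coe] at hmem
      obtain ⟨q2, hq2min, hq2r, hq2p⟩ := hb_prime p' hp'.1.1 (le_trans le_sup_right hmem)
      have heq : q2 = p' := le_antisymm hq2p (hp'.2 ⟨hq2min.1.1, bot_le⟩ hq2p)
      apply hq2r
      rw [heq]
    · rw [PrimeSpectrum.mem_zeroLocus, SetLike.coe_subset_coe]
      exact ha_le p' hp' Relation.ReflTransGen.refl
  · refine ⟨⟨p'', hp''.1.1⟩, ?_, ?_⟩
    · intro hmem
      rw [PrimeSpectrum.mem_zeroLocus, SetLike.coe_subset_coe] at hmem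
      obtain ⟨q1, hq1min, hq1r, hq1p⟩ := ha_prime p'' hp''.1.1 (le_trans le_sup_left hmem)
      have heq : q1 = p'' := le_antisymm hq1p (hp''.2 ⟨hq1min.1.1, bot_le⟩ hq1p)
      apply hnot
      rw [← heq]
      exact hq1r
    · rw [PrimeSpectrum.mem_zeroLocus, SetLike.coe_subset_coe]
      exact hb_le p'' hp'' hnot

/-- chain in `Fin`-indexed form -/
theorem exists_fin_chain (d : ℕ) (p' p'' : Ideal A) (hp'' : p'' ∈ minimalPrimes A)
    (hr : Relation.ReflTransGen (Adj d) p' p'') :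
    ∃ (n : ℕ) (c : Fin (n + 1) → Ideal A), c 0 = p' ∧ c (Fin.last n) = p'' ∧
      (∀ i, c i ∈ minimalPrimes A) ∧
      ∀ i : Fin n, ∃ (q : Ideal A) (_ : q.IsPrime),
        c i.castSucc ≤ q ∧ c i.succ ≤ q ∧ q.height + 1 ≤ (d : ℕ∞) := by
  induction hr using Relation.ReflTransGen.head_induction_on with
  | refl => exact ⟨0, fun _ => p'', rfl, rfl, fun _ => hp'', fun i => i.elim0⟩
  | @head x y h1 _ ih =>
    obtain ⟨n, c, h0, hl, hmin, hstep⟩ := ih
    refine ⟨n + 1, (Fin.cons x c : Fin (n + 1 + 1) → Ideal A), ?_, ?_, ?_, ?_⟩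
    · rfl
    · rw [← Fin.succ_last, Fin.cons_succ]
      exact hl
    · intro k
      induction k using Fin.cases with
      | zero => rw [Fin.cons_zero]; exact h1.1
      | succ k' => rw [Fin.cons_succ]; exact hmin k'
    · intro k
      induction k using Fin.cases with
      | zero =>
        rw [Fin.castSucc_zero, Fin.cons_zero, Fin.cons_succ, h0]
        exact h1.2.2
      | succ k' =>
        rw [← Fin.succ_castSucc, Fin.cons_succ, Fin.cons_succ]
        exact hstep k'

/-- chain in list form -/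
theorem exists_list_chain (d : ℕ) (hd : 1 ≤ d) (p' p'' : Ideal A) (hp''min : p'' ∈ minimalPrimes A)
    (hp''prime : p''.IsPrime) (hr : Relation.ReflTransGen (Adj d) p' p'') :
    ∀ hp'prime : p'.IsPrime, ∃ l : List (PrimeSpectrum A),
      l.head? = some ⟨p', hp'prime⟩ ∧ l.getLast? = some ⟨p'', hp''prime⟩ ∧
      (∀ p ∈ l, p.asIdeal ∈ minimalPrimes A) ∧
      List.IsChain (fun p q => ∃ r : PrimeSpectrum A, p ≤ r ∧ q ≤ r ∧
        r.asIdeal.height ≤ (d - 1 : ℕ)) l := by
  induction hr using Relation.ReflTransGen.head_induction_on with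
  | refl =>
    intro hp
    refine ⟨[⟨p'', hp⟩], rfl, rfl, ?_, List.isChain_singleton _⟩
    intro p hpmem
    rw [List.mem_singleton] at hpmem
    rw [hpmem]
    exact hp''min
  | @head x y h1 _ ih =>
    intro hx
    obtain ⟨l, hhead, hlast, hmin, hchain⟩ := ih h1.2.1.1.1
    cases l with
    | nil => simp at hhead
    | cons z l' =>
      have hz : z = ⟨y, h1.2.1.1.1⟩ := by
        simpa using hhead
      refine ⟨⟨x, hx⟩ :: z :: l', rfl, ?_, ?_, ?_⟩
      · rw [List.getLast?_cons_cons]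
        exact hlast
      · intro p hp
        rcases List.mem_cons.1 hp with h | h
        · rw [h]
          exact h1.1
        · exact hmin p h
      · rw [List.isChain_cons_cons]
        refine ⟨?_, hchain⟩
        obtain ⟨r, hrp, hxr, hyr, hht⟩ := h1.2.2
        refine ⟨⟨r, hrp⟩, hxr, ?_, ?_⟩
        · rw [hz]
          exact hyr
        · have h2 : ((d : ℕ) : ℕ∞) = ((d - 1 : ℕ) : ℕ∞) + 1 := by
            have h3 : d = d - 1 + 1 := by omega
            conv_lhs => rw [h3]
            push_cast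
            rfl
          rw [h2] at hht
          exact (ENat.add_le_add_iff_right (by simp)).1 hht

end Groth.Agent.Hartshorne
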