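import Mathlib
import Groth.Prelude.Def_CAlg
import Groth.Prelude.Def_Found
import Groth.Agent.Lib.ConnectedCodim_helper5

/-!
# Equidimensionality of catenary local rings with `S_2`-type depth conditions (helper5)
-/

set_option autoImplicit false
universe u

namespace Groth.Agent.Hartshorne

section order

variable {α : Type*} [PartialOrder α] [OrderTop α]

/-- a chain from `x` of maximal length ends at the top and is saturated -/
theorem exists_saturated_series (x : α) (hfin : Order.coheight x ≠ ⊤) :
    ∃ t : LTSeries α, t.head = x ∧ t.last = ⊤ ∧ (t.length : ℕ∞) = Order.coheight x ∧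
      ∀ i : Fin t.length, t i.castSucc ⋖ t i.succ := by
  obtain ⟨n, hn⟩ := ENat.ne_top_iff_exists.1 hfin
  obtain ⟨t, hthead, htlen⟩ := Order.exists_series_of_coheight_eq_coe x hn.symm
  have hlen : (t.length : ℕ∞) = Order.coheight t.head := by
    rw [hthead, htlen, hn]
  have hidx := Order.coheight_eq_index_of_length_eq_head_coheight hlen
  refine ⟨t, hthead, ?_, ?_, ?_⟩
  · have h1 := hidx (Fin.last _)
    rw [Fin.rev_last] at h1
    have h2 : Order.coheight (t (Fin.last t.length)) = 0 := by
      rw [h1]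
      rfl
    exact isMax_iff_eq_top.1 (Order.coheight_eq_zero.1 h2)
  · rw [hlen, hthead]
  · intro i
    refine ⟨t.strictMono (Fin.castSucc_lt_succ), ?_⟩
    intro z hz1 hz2
    have h1 := Order.coheight_add_one_le hz2
    have h2 := Order.coheight_add_one_le hz1
    rw [hidx i.succ] at h1
    rw [hidx i.castSucc] at h2
    have hb : ((i.castSucc.rev : Fin (t.length + 1)) : ℕ) =
        ((i.succ.rev : Fin (t.length + 1)) : ℕ) + 1 := by
      simp only [Fin.val_rev, Fin.val_castSucc, Fin.val_succ]
      have := i.isLt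
      omega
    rw [hb] at h2
    have h3 : (((i.succ.rev : Fin (t.length + 1)) : ℕ) : ℕ∞) + 1 + 1 ≤
        ((((i.succ.rev : Fin (t.length + 1)) : ℕ) + 1 : ℕ) : ℕ∞) :=
      le_trans (add_le_add_left h1 1) h2
    have h4 : ((i.succ.rev : Fin (t.length + 1)) : ℕ) + 1 + 1 ≤
        ((i.succ.rev : Fin (t.length + 1)) : ℕ) + 1 := by
      exact_mod_cast h3
    omega

end order

section ring

variable {A : Type u} [CommRing A] [IsLocalRing A] [IsNoetherianRing A]

theorem coheight_ne_top (x : PrimeSpectrum A) : Order.coheight x ≠ ⊤ := by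
  intro h
  have h1 := Order.coheight_le_krullDim x
  rw [h] at h1
  have h2 : ringKrullDim A < ⊤ := ringKrullDim_lt_top
  exact absurd (lt_of_le_of_lt h1 h2) (lt_irrefl _)

theorem coheight_eq_of_covBy (hc : CAlg.IsCatenary A) (p r : PrimeSpectrum A) (hpr : p ⋖ r) :
    Order.coheight p = Order.coheight r + 1 := by
  obtain ⟨tr, hrhead, hrlast, hrlen, hrsat⟩ := exists_saturated_series r (coheight_ne_top r)
  obtain ⟨tp, hphead, hplast, hplen, hpsat⟩ := exists_saturated_series p (coheight_ne_top p)
  have hmono : StrictMono (Fin.cons p tr.toFun : Fin (tr.length + 1 + 1) → PrimeSpectrum A) := by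
    rw [Fin.strictMono_iff_lt_succ]
    intro k
    induction k using Fin.cases with
    | zero =>
      rw [Fin.castSucc_zero, Fin.cons_zero, Fin.cons_succ]
      have h1 : tr.toFun 0 = r := hrhead
      rw [h1]
      exact hpr.lt
    | succ k' =>
      rw [← Fin.succ_castSucc, Fin.cons_succ, Fin.cons_succ]
      exact tr.strictMono (Fin.castSucc_lt_succ)
  set s : LTSeries (PrimeSpectrum A) := LTSeries.mk (tr.length + 1) (Fin.cons p tr.toFun) hmono
    with hs
  have hsapp : ∀ k, s k = (Fin.cons p tr.toFun : Fin (tr.length + 1 + 1) → PrimeSpectrum A) k :=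
    fun k => rfl
  have hshead : s.head = tp.head := by
    rw [hphead]
    rfl
  have hslast : s.last = tp.last := by
    rw [hplast, ← hrlast]
    show s (Fin.last (tr.length + 1)) = tr (Fin.last tr.length)
    rw [hsapp, ← Fin.succ_last, Fin.cons_succ]
  have hssat : ∀ i : Fin s.length, s (Fin.castSucc i) ⋖ s (Fin.succ i) := by
    intro k
    have hk : ∀ k : Fin (tr.length + 1),
        (Fin.cons p tr.toFun : Fin (tr.length + 1 + 1) → PrimeSpectrum A) (Fin.castSucc k) ⋖
          (Fin.cons p tr.toFun : Fin (tr.length + 1 + 1) → PrimeSpectrum A) (Fin.succ k) := by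
      intro k
      induction k using Fin.cases with
      | zero =>
        rw [Fin.castSucc_zero, Fin.cons_zero, Fin.cons_succ]
        have h1 : tr.toFun 0 = r := hrhead
        rw [h1]
        exact hpr
      | succ k' =>
        rw [← Fin.succ_castSucc, Fin.cons_succ, Fin.cons_succ]
        exact hrsat k'
    exact hk k
  have hlen := hc.2 s tp hshead hslast hssat hpsat
  have hslen : s.length = tr.length + 1 := rfl
  rw [← hplen, ← hrlen, ← hlen, hslen]
  push_cast
  rfl

theorem ringKrullDim_quotient_eq_coheight (p : Ideal A) [hp : p.IsPrime] :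
    ringKrullDim (A ⧸ p) = ((Order.coheight (⟨p, hp⟩ : PrimeSpectrum A) : ℕ∞) : WithBot ℕ∞) := by
  rw [ringKrullDim_quotient, Order.coheight_eq_krullDim_Ici]
  have h1 : PrimeSpectrum.zeroLocus (p : Set A) = Set.Ici (⟨p, hp⟩ : PrimeSpectrum A) := by
    ext y
    rw [PrimeSpectrum.mem_zeroLocus, SetLike.coe_subset_coe, Set.mem_Ici]
    rfl
  rw [h1]

/-- coheight as a function on all ideals (junk value off primes) -/
noncomputable def coht (I : Ideal A) : ℕ∞ :=
  open Classical in if h : I.IsPrime then Order.coheight (⟨I, h⟩ : PrimeSpectrum A) else 0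

theorem coht_eq (I : Ideal A) [h : I.IsPrime] :
    coht I = Order.coheight (⟨I, h⟩ : PrimeSpectrum A) := by
  unfold coht
  rw [dif_pos h]

theorem coht_eq_of_adj (hc : CAlg.IsCatenary A) (x y : Ideal A) (hxy : Adj 2 x y) :
    coht x = coht y := by
  obtain ⟨hxmin, hymin, r, hr, hxr, hyr, hht⟩ := hxy
  haveI hxp : x.IsPrime := hxmin.1.1
  haveI hyp : y.IsPrime := hymin.1.1
  by_cases hxyeq : x = y
  · subst hxyeq
    rfl
  have key : ∀ (z w : Ideal A) (hz : z.IsPrime) (_ : w.IsPrime), z ∈ minimalPrimes A →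
      w ∈ minimalPrimes A → z ≠ w → z ≤ r → w ≤ r →
      Order.coheight (⟨z, hz⟩ : PrimeSpectrum A) =
        Order.coheight (⟨r, hr⟩ : PrimeSpectrum A) + 1 := by
    intro z w hz hw hzmin hwmin hzw hzr hwr
    apply coheight_eq_of_covBy hc
    have hlt : z < r := by
      refine lt_of_le_of_ne hzr ?_
      intro heq
      apply hzw
      rw [heq] at hzmin ⊢
      exact le_antisymm (hzmin.2 ⟨hw, bot_le⟩ hwr) hwr
    refine ⟨hlt, ?_⟩
    intro q hq1 hq2
    haveI := q.2
    have hq1' : z < q.asIdeal := hq1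
    have hq2' : q.asIdeal < r := hq2
    have h1 := Ideal.height_add_one_le_of_lt_of_isPrime hq1'
    have h2 := Ideal.height_add_one_le_of_lt_of_isPrime hq2'
    have h3 : (1 : ℕ∞) ≤ q.asIdeal.height := le_trans le_add_self h1
    have h4 : (1 : ℕ∞) + 1 ≤ r.height := le_trans (add_le_add_left h3 1) h2
    have h5 : (1 : ℕ∞) + 1 + 1 ≤ 2 := le_trans (add_le_add_left h4 1) hht
    have h6 : (3 : ℕ) ≤ 2 := by exact_mod_cast h5
    omega
  rw [coht_eq x, coht_eq y, key x y hxp hyp hxmin hymin hxyeq hxr hyr,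
    key y x hyp hxp hymin hxmin (Ne.symm hxyeq) hyr hxr]

theorem ringKrullDim_quotient_minimalPrimes [PreconnectedSpace (PrimeSpectrum A)]
    (hc : CAlg.IsCatenary A)
    (h : ∀ (p : Ideal A) [p.IsPrime], (2 : ℕ∞) ≤ p.height →
      (2 : ℕ∞) ≤ LocCoh.depth (Localization.AtPrime p) (Localization.AtPrime p))
    (p : Ideal A) (hp : p ∈ minimalPrimes A) : ringKrullDim (A ⧸ p) = ringKrullDim A := by
  haveI hpp : p.IsPrime := hp.1.1
  have hall : ∀ q : Ideal A, q ∈ minimalPrimes A → coht q = coht p := by
    intro q hq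
    have hr := rtg_of_minimalPrimes 2 (fun P _ hP => h P (by exact_mod_cast hP)) q p hq hp
    induction hr using Relation.ReflTransGen.head_induction_on with
    | refl => rfl
    | @head x y h1 _ ih => rw [coht_eq_of_adj hc x y h1, ih h1.2.1]
  rw [ringKrullDim_quotient_eq_coheight p]
  apply le_antisymm
  · exact Order.coheight_le_krullDim _
  · unfold ringKrullDim
    rw [Order.krullDim_eq_iSup_coheight]
    apply iSup_le
    intro a
    haveI := a.2
    obtain ⟨q, hq, hqa⟩ := Ideal.exists_minimalPrimes_le (bot_le : (⊥ : Ideal A) ≤ a.asIdeal)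
    haveI hqp : q.IsPrime := hq.1.1
    have h1 : Order.coheight a ≤ Order.coheight (⟨q, hqp⟩ : PrimeSpectrum A) :=
      Order.coheight_anti (show (⟨q, hqp⟩ : PrimeSpectrum A) ≤ a from hqa)
    have h2 := hall q hq
    rw [coht_eq q, coht_eq p] at h2
    rw [← h2]
    exact WithBot.coe_le_coe.2 h1

end ring

end Groth.Agent.Hartshorne
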