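import Mathlib
import Groth.Prelude
import Groth.Agent.Lib.CMChain_helper5
import Groth.Agent.Lib.AdjDepth_helper5
import Groth.Agent.Lib.Catenary_helper4
import Groth.Agent.Lib.Serre_helper5
import Groth.Agent.Lib.Equi133b_helper8
import Groth.Agent.S9128
import Groth.Agent.S0552

set_option autoImplicit false
universe u

open IsLocalRing

namespace RegUCH8

/-- A Cohen–Macaulay local ring is catenary. -/
theorem isCatenary_of_isCM (A : Type u) [CommRing A] [IsLocalRing A] [IsNoetherianRing A]
    (hCM : LocCoh.IsCohenMacaulayModule A A) : CAlg.IsCatenary A := by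
  rw [Groth.Agent.S9128.result A]
  have hsupp : Module.support A A = Set.univ := by
    rw [Module.support_of_algebra]
    have : RingHom.ker (algebraMap A A) = ⊥ := by
      rw [RingHom.ker_eq_bot_iff_eq_zero]; intro x hx; exact hx
    rw [this]
    simp
  obtain ⟨d, hd⟩ := Equi133H8.exists_nat_ringKrullDim A
  have hform : ∀ p : PrimeSpectrum A, ∃ a α : ℕ, p.asIdeal.height = (a : ℕ∞) ∧
      ringKrullDim (A ⧸ p.asIdeal) = (α : WithBot ℕ∞) ∧ a + α = d := by
    intro p
    haveI := p.isPrime
    have h := Groth.Agent.CMChain.height_add_ringKrullDim_quotient A A hCM hsupp p.asIdeal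
    rw [hd] at h
    obtain ⟨a, ha⟩ := ENat.ne_top_iff_exists.mp (Ideal.height_ne_top_of_isPrime (I := p.asIdeal))
    have hne : ringKrullDim (A ⧸ p.asIdeal) ≠ ⊥ := ringKrullDim_ne_bot
    have hle : ringKrullDim (A ⧸ p.asIdeal) ≤ (d : WithBot ℕ∞) := by
      rw [← hd]
      exact ringKrullDim_le_of_surjective _ Ideal.Quotient.mk_surjective
    obtain ⟨α, hα, -⟩ := Equi133H8.exists_nat_of_le_of_ne_bot _ d hle hne
    refine ⟨a, α, ha.symm, hα, ?_⟩
    rw [hα, ← ha] at h
    exact_mod_cast h
  intro p q hpq
  haveI := p.isPrime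
  haveI := q.isPrime
  obtain ⟨a, α, ha, hα, h1⟩ := hform p
  obtain ⟨b, β, hb, hβ, h2⟩ := hform q
  have hlt : p.asIdeal.height < q.asIdeal.height :=
    Ideal.height_strict_mono_of_isPrime_of_isPrime hpq
  rw [ha, hb] at hlt
  have hab : a < b := by exact_mod_cast hlt
  rw [hα, hβ]
  refine ⟨?_, ?_⟩
  · have : β < α := by omega
    exact_mod_cast this
  · intro hcov
    have h3 := Groth.Agent.CMChain.height_eq_add_one_of_covBy A A hCM hsupp p q hcov
    rw [ha, hb] at h3
    have : b = a + 1 := by exact_mod_cast h3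
    have : α = β + 1 := by omega
    exact_mod_cast this

/-- A regular local ring is Cohen–Macaulay (as a module over itself). -/
theorem isCM_of_regular (A : Type u) [CommRing A] [IsRegularLocalRing A] :
    LocCoh.IsCohenMacaulayModule A A := by
  obtain ⟨d, hd⟩ := Equi133H8.exists_nat_ringKrullDim A
  have h := Groth.Agent.ExtTop.regular_depth A d hd
  change Module.supportDim A A = ((LocCoh.depth A A : ℕ∞) : WithBot ℕ∞)
  rw [Module.supportDim_self_eq_ringKrullDim, hd]
  change _ = ((LocCoh.idealDepth (maximalIdeal A) A : ℕ∞) : WithBot ℕ∞)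
  rw [h]
  rfl

/-- A regular ring is catenary. -/
theorem isCatenary_of_isRegularRing (R : Type u) [CommRing R] [IsRegularRing R] :
    CAlg.IsCatenary R := by
  rw [Groth.Agent.S0552.result R]
  intro m hm
  haveI : IsRegularLocalRing (Localization.AtPrime m) :=
    IsRegularRing.isRegularLocalRing_localization m
  exact isCatenary_of_isCM _ (isCM_of_regular _)

theorem isRegularRing_of_isRegularLocalRing (O : Type u) [CommRing O] [IsRegularLocalRing O] :
    IsRegularRing O := by
  rw [isRegularRing_iff]
  intro p hp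
  exact Groth.Agent.Serre.localization_regular O p

open Groth.Agent.Lib.Catenary_helper4 in
theorem isCatenary_of_ringEquiv {A B : Type u} [CommRing A] [CommRing B] (e : A ≃+* B)
    (hA : CAlg.IsCatenary A) : CAlg.IsCatenary B := by
  rw [isCatenary_iff_cat] at hA ⊢
  let o : PrimeSpectrum B ≃o PrimeSpectrum A := (PrimeSpectrum.comapEquiv e.symm)
  refine cat_of_orderEmbedding o.toOrderEmbedding ?_ hA
  have : Set.range o.toOrderEmbedding = Set.univ := o.surjective.range_eq
  rw [this]
  exact Set.ordConnected_univ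

/-- A regular local ring is universally catenary. -/
theorem isUniversallyCatenary_of_isRegularLocalRing (O : Type u) [CommRing O]
    [IsRegularLocalRing O] : CAlg.IsUniversallyCatenary O := by
  haveI := isRegularRing_of_isRegularLocalRing O
  refine ⟨inferInstance, fun C _ _ hft => ?_⟩
  obtain ⟨n, f, hf⟩ := Algebra.FiniteType.iff_quotient_mvPolynomial''.mp hft
  have h1 : CAlg.IsCatenary (MvPolynomial (Fin n) O) := isCatenary_of_isRegularRing _
  have h2 := Groth.Agent.Lib.Catenary_helper4.isCatenary_quotient _ (RingHom.ker f.toRingHom) h1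
  exact isCatenary_of_ringEquiv (RingHom.quotientKerEquivOfSurjective hf) h2

end RegUCH8
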