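import Mathlib
import Groth.Agent.Lib.FlatCM_helper9
import Groth.Agent.Lib.RegUC_helper8

/-!
# Cohen–Macaulay rings along flat homomorphisms (helper9)

* `isCM_localization_iff`: for `R → S` flat Noetherian and `Q` a prime of `S`:
  `S_Q` CM iff `R_{Q ∩ R}` and the fibre local ring are CM.
* `isCMRing_of_flat`: CM base and CM fibres ⇒ CM.
* `isCMRing_mvPolynomial`, `isUniversallyCatenary_of_isCMRing`.
APPEND-ONLY once landed.
-/

set_option autoImplicit false
universe u

namespace Groth.Agent.FlatCM

open IsLocalRing TensorProduct Groth.Agent.DepthLib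

section CMBasic

theorem isCMLocalRing_iff (T : Type u) [CommRing T] [IsLocalRing T] [IsNoetherianRing T] :
    LocCoh.IsCohenMacaulayLocalRing T ↔
      ringKrullDim T = ((LocCoh.depth T T : ℕ∞) : WithBot ℕ∞) := by
  constructor
  · intro h
    rw [← Module.supportDim_self_eq_ringKrullDim]
    exact h.supportDim_eq_depth
  · intro h
    exact ⟨by rw [Module.supportDim_self_eq_ringKrullDim]; exact h⟩

theorem isCMLocalRing_of_ringEquiv {T T' : Type u} [CommRing T] [CommRing T'] (e : T ≃+* T')
    [h : LocCoh.IsCohenMacaulayLocalRing T] : LocCoh.IsCohenMacaulayLocalRing T' := by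
  have : IsLocalRing T' := e.isLocalRing
  have : IsNoetherianRing T' := isNoetherianRing_of_ringEquiv T e
  rw [isCMLocalRing_iff, ← depth_ringEquiv e, ← ringKrullDim_eq_of_ringEquiv e]
  exact (isCMLocalRing_iff T).1 h

/-- arithmetic: if `a + f = da + df` with `da ≤ a`, `df ≤ f` (all finite) then `a = da`, `f = df`. -/
theorem eq_of_add_eq_add {a f : ℕ} {da df : ℕ∞} (h1 : da ≤ a) (h2 : df ≤ f)
    (h : ((a : ℕ∞) + (f : ℕ∞)) = da + df) : (a : ℕ∞) = da ∧ (f : ℕ∞) = df := by
  obtain ⟨da', rfl⟩ := ENat.ne_top_iff_exists.1 (ne_top_of_le_ne_top (ENat.coe_ne_top a) h1)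
  obtain ⟨df', rfl⟩ := ENat.ne_top_iff_exists.1 (ne_top_of_le_ne_top (ENat.coe_ne_top f) h2)
  have h1' : da' ≤ a := by exact_mod_cast h1
  have h2' : df' ≤ f := by exact_mod_cast h2
  have h' : a + f = da' + df' := by exact_mod_cast h
  constructor
  · have : a = da' := by omega
    exact_mod_cast this
  · have : f = df' := by omega
    exact_mod_cast this

end CMBasic

section CMFlat

variable (R S : Type u) [CommRing R] [CommRing S] [Algebra R S]
  [IsNoetherianRing R] [IsNoetherianRing S] [Module.Flat R S]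

/-- For a flat map of Noetherian rings, `S_Q` is CM iff the base and the fibre local rings are. -/
theorem isCM_localization_iff (Q : Ideal S) [Q.IsPrime] :
    LocCoh.IsCohenMacaulayLocalRing (Localization.AtPrime Q) ↔
      LocCoh.IsCohenMacaulayLocalRing (Localization.AtPrime (Q.comap (algebraMap R S))) ∧
      LocCoh.IsCohenMacaulayLocalRing (EGA4.FibLocRing R S Q) := by
  obtain ⟨h1, h2⟩ := depth_dim_localization_eq_add R S Q
  have : IsNoetherianRing (Localization.AtPrime Q) :=
    IsLocalization.isNoetherianRing Q.primeCompl _ inferInstance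
  have : IsNoetherianRing (Localization.AtPrime (Q.comap (algebraMap R S))) :=
    IsLocalization.isNoetherianRing (Q.comap (algebraMap R S)).primeCompl _ inferInstance
  have : IsNoetherianRing (EGA4.FibLocRing R S Q) := inferInstance
  obtain ⟨a, ha⟩ := exists_nat_ringKrullDim (Localization.AtPrime (Q.comap (algebraMap R S)))
  obtain ⟨f, hf⟩ := exists_nat_ringKrullDim (EGA4.FibLocRing R S Q)
  have hda := depth_le_dim (Localization.AtPrime (Q.comap (algebraMap R S)))
  have hdf := depth_le_dim (EGA4.FibLocRing R S Q)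
  rw [isCMLocalRing_iff, isCMLocalRing_iff, isCMLocalRing_iff, h1, h2]
  rw [ha] at hda ⊢
  rw [hf] at hdf ⊢
  have hda' : LocCoh.depth (Localization.AtPrime (Q.comap (algebraMap R S)))
      (Localization.AtPrime (Q.comap (algebraMap R S))) ≤ (a : ℕ∞) := WithBot.coe_le_coe.1 hda
  have hdf' : LocCoh.depth (EGA4.FibLocRing R S Q) (EGA4.FibLocRing R S Q) ≤ (f : ℕ∞) :=
    WithBot.coe_le_coe.1 hdf
  constructor
  · intro h
    have h' : ((a : ℕ∞) + (f : ℕ∞)) = LocCoh.depth (Localization.AtPrime (Q.comap (algebraMap R S)))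
        (Localization.AtPrime (Q.comap (algebraMap R S))) +
        LocCoh.depth (EGA4.FibLocRing R S Q) (EGA4.FibLocRing R S Q) := by
      apply WithBot.coe_injective
      rw [WithBot.coe_add, WithBot.coe_add]
      exact h
    obtain ⟨e1, e2⟩ := eq_of_add_eq_add hda' hdf' h'
    exact ⟨congrArg _ e1, congrArg _ e2⟩
  · rintro ⟨e1, e2⟩
    rw [e1, e2, WithBot.coe_add]

/-- the fibre local rings of a map with CM fibre rings are CM -/
theorem isCM_fibLocRing_of_fiber (Q : Ideal S) [Q.IsPrime]
    [h : LocCoh.IsCohenMacaulayRing ((Q.comap (algebraMap R S)).Fiber S)] :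
    LocCoh.IsCohenMacaulayLocalRing (EGA4.FibLocRing R S Q) := by
  obtain ⟨q, hq, ⟨e⟩⟩ := exists_fibre_equiv R S Q
  have := h.isCohenMacaulayLocalRing_localization q
  exact isCMLocalRing_of_ringEquiv (T := Localization.AtPrime q) e

/-- conversely -/
theorem isCMRing_fiber_of_fibLocRing (p : Ideal R) [p.IsPrime]
    (h : ∀ (Q : Ideal S) [Q.IsPrime], Q.comap (algebraMap R S) = p →
      LocCoh.IsCohenMacaulayLocalRing (EGA4.FibLocRing R S Q)) :
    LocCoh.IsCohenMacaulayRing (p.Fiber S) := by
  have : IsNoetherianRing (p.Fiber S) := Groth.Agent.Lib.RegFlatH3.isNoetherianRing_fiber R S p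
  refine ⟨fun q hq => ?_⟩
  obtain ⟨e⟩ := fibre_equiv_of_prime R S p q
  set r := q.comap (Algebra.TensorProduct.includeRight : S →ₐ[R] p.Fiber S) with hr
  have hrp : r.comap (algebraMap R S) = p := (Ideal.LiesOver.over (p := p) (P := r)).symm
  have := h r hrp
  exact isCMLocalRing_of_ringEquiv (T' := Localization.AtPrime q) e.symm

/-- **CM base and CM fibres ⇒ CM** for flat maps of Noetherian rings. -/
theorem isCMRing_of_flat [hR : LocCoh.IsCohenMacaulayRing R]
    (hfib : ∀ (p : Ideal R) [p.IsPrime], LocCoh.IsCohenMacaulayRing (p.Fiber S)) :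
    LocCoh.IsCohenMacaulayRing S := by
  refine ⟨fun Q hQ => ?_⟩
  rw [isCM_localization_iff R S Q]
  have := hfib (Q.comap (algebraMap R S))
  exact ⟨hR.isCohenMacaulayLocalRing_localization _, isCM_fibLocRing_of_fiber R S Q⟩

end CMFlat

section Poly

/-- a regular ring is Cohen–Macaulay -/
theorem isCMRing_of_isRegularRing (T : Type u) [CommRing T] [IsNoetherianRing T] [IsRegularRing T] :
    LocCoh.IsCohenMacaulayRing T := by
  refine ⟨fun p hp => ?_⟩
  have : IsRegularLocalRing (Localization.AtPrime p) :=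
    IsRegularRing.isRegularLocalRing_localization p
  have : IsNoetherianRing (Localization.AtPrime p) :=
    IsLocalization.isNoetherianRing p.primeCompl _ inferInstance
  exact ⟨RegUCH8.isCM_of_regular _⟩

/-- **Polynomial rings over CM rings are CM.** -/
theorem isCMRing_mvPolynomial (R : Type u) [CommRing R] [LocCoh.IsCohenMacaulayRing R] (n : ℕ) :
    LocCoh.IsCohenMacaulayRing (MvPolynomial (Fin n) R) := by
  apply isCMRing_of_flat R (MvPolynomial (Fin n) R)
  intro p hp
  let e : p.Fiber (MvPolynomial (Fin n) R) ≃ₐ[p.ResidueField] MvPolynomial (Fin n) p.ResidueField :=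
    MvPolynomial.scalarRTensorAlgEquiv
  have : IsNoetherianRing (p.Fiber (MvPolynomial (Fin n) R)) :=
    isNoetherianRing_of_ringEquiv _ e.symm.toRingEquiv
  have : IsRegularRing (p.Fiber (MvPolynomial (Fin n) R)) :=
    IsRegularRing.of_ringEquiv e.symm.toRingEquiv
  exact isCMRing_of_isRegularRing _

end Poly

section UC

/-- a Cohen–Macaulay ring is catenary -/
theorem isCatenary_of_isCMRing (T : Type u) [CommRing T] [h : LocCoh.IsCohenMacaulayRing T] :
    CAlg.IsCatenary T := by
  rw [Groth.Agent.S0552.result T]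
  intro m hm
  have hloc := h.isCohenMacaulayLocalRing_localization m
  exact RegUCH8.isCatenary_of_isCM _ hloc.supportDim_eq_depth

/-- **A Cohen–Macaulay ring is universally catenary.** -/
theorem isUniversallyCatenary_of_isCMRing (R : Type u) [CommRing R]
    [LocCoh.IsCohenMacaulayRing R] : CAlg.IsUniversallyCatenary R := by
  refine ⟨inferInstance, fun C _ _ hft => ?_⟩
  obtain ⟨n, f, hf⟩ := Algebra.FiniteType.iff_quotient_mvPolynomial''.mp hft
  have := isCMRing_mvPolynomial R n
  have h1 : CAlg.IsCatenary (MvPolynomial (Fin n) R) := isCatenary_of_isCMRing _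
  have h2 := Groth.Agent.Lib.Catenary_helper4.isCatenary_quotient _ (RingHom.ker f.toRingHom) h1
  exact RegUCH8.isCatenary_of_ringEquiv (RingHom.quotientKerEquivOfSurjective hf) h2

end UC

end Groth.Agent.FlatCM
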