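import Mathlib
import Groth.Agent.Lib.FlatCM2_helper9
import Groth.Agent.Lib.FSNilp_helper3
import Groth.Agent.Lib.FlatDescent_helper4
import Groth.Agent.Lib.FibDim_helper8

/-!
# Cohen–Macaulay homomorphisms: composition and descent (helper9)

* local: for a flat local homomorphism `A → B` and an ideal `I` of `A`, `A/I → B/IB` is flat local
  with the same closed fibre; hence `B/IB` is CM iff `A/I` and `B/m_A B` are.
* `isCM_fibLocRing_comp_iff`: for `A → B → C` with `C` flat over `B`, the fibre local ring of
  `A → C` at `P` is CM iff those of `A → B` at `P ∩ B` and of `B → C` at `P` are.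
APPEND-ONLY once landed.
-/

set_option autoImplicit false
universe u

namespace Groth.Agent.FlatCM

open IsLocalRing TensorProduct Groth.Agent.DepthLib

section LocalCM

variable (A B : Type u) [CommRing A] [CommRing B] [IsLocalRing A] [IsLocalRing B]
  [IsNoetherianRing A] [IsNoetherianRing B] [Algebra A B] [IsLocalHom (algebraMap A B)]

/-- local version: `B` CM iff `A` and `B / m_A B` CM, for a flat local homomorphism. -/
theorem isCM_local_iff [Module.Flat A B] :
    LocCoh.IsCohenMacaulayLocalRing B ↔
      LocCoh.IsCohenMacaulayLocalRing A ∧ LocCoh.IsCohenMacaulayLocalRing (EGA4.FibRing A B) := by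
  have h1 := depth_eq_add A B
  have h2 := dim_eq_add A B
  obtain ⟨a, ha⟩ := exists_nat_ringKrullDim A
  obtain ⟨f, hf⟩ := exists_nat_ringKrullDim (EGA4.FibRing A B)
  have hda := depth_le_dim A
  have hdf := depth_le_dim (EGA4.FibRing A B)
  rw [isCMLocalRing_iff, isCMLocalRing_iff, isCMLocalRing_iff, h1, h2]
  rw [ha] at hda ⊢
  rw [hf] at hdf ⊢
  have hda' : LocCoh.depth A A ≤ (a : ℕ∞) := WithBot.coe_le_coe.1 hda
  have hdf' : LocCoh.depth (EGA4.FibRing A B) (EGA4.FibRing A B) ≤ (f : ℕ∞) :=
    WithBot.coe_le_coe.1 hdf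
  constructor
  · intro h
    have h' : ((a : ℕ∞) + (f : ℕ∞)) = LocCoh.depth A A +
        LocCoh.depth (EGA4.FibRing A B) (EGA4.FibRing A B) := by
      apply WithBot.coe_injective
      rw [WithBot.coe_add, WithBot.coe_add]
      exact h
    obtain ⟨e1, e2⟩ := eq_of_add_eq_add hda' hdf' h'
    exact ⟨congrArg _ e1, congrArg _ e2⟩
  · rintro ⟨e1, e2⟩
    rw [e1, e2, WithBot.coe_add]

variable (I : Ideal A)

/-- the closed fibre of `A/I → B/IB` is the closed fibre of `A → B` -/
theorem fibRing_quot_equiv [IsLocalRing (A ⧸ I)] :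
    Nonempty (EGA4.FibRing (A ⧸ I) (B ⧸ I.map (algebraMap A B)) ≃+* EGA4.FibRing A B) := by
  have hI : I ≤ maximalIdeal A := le_maximalIdeal (fun h => by
    subst h
    exact (not_subsingleton (A ⧸ (⊤ : Ideal A))) (Ideal.Quotient.subsingleton_iff.2 rfl))
  have hle : I.map (algebraMap A B) ≤ EGA4.mB A B := Ideal.map_mono hI
  have h1 : (maximalIdeal (A ⧸ I)) = (maximalIdeal A).map (Ideal.Quotient.mk I) :=
    (IsLocalRing.map_maximalIdeal_of_surjective _ Ideal.Quotient.mk_surjective).symm
  have h2 : (maximalIdeal (A ⧸ I)).map (algebraMap (A ⧸ I) (B ⧸ I.map (algebraMap A B))) =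
      (EGA4.mB A B).map (Ideal.Quotient.mk (I.map (algebraMap A B))) := by
    rw [h1, Ideal.map_map, Ideal.map_map]
    rfl
  exact ⟨(Ideal.quotEquivOfEq h2).trans (DoubleQuot.quotQuotEquivQuotOfLE hle)⟩

/-- `B/IB` is CM iff `A/I` and the closed fibre of `A → B` are. -/
theorem isCM_quot_iff [Module.Flat A B] (hI : I ≤ maximalIdeal A) :
    LocCoh.IsCohenMacaulayLocalRing (B ⧸ I.map (algebraMap A B)) ↔
      LocCoh.IsCohenMacaulayLocalRing (A ⧸ I) ∧
        LocCoh.IsCohenMacaulayLocalRing (EGA4.FibRing A B) := by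
  haveI := Groth.Agent.FibDim.isLocalRing_quot hI
  haveI : IsLocalRing (B ⧸ I.map (algebraMap A B)) :=
    Groth.Agent.FibDim.isLocalRing_quot (Groth.Agent.FibDim.map_le_maximalIdeal hI)
  haveI := Groth.Agent.FibDim.isLocalHom_quot (B := B) hI
  haveI : Module.Flat (A ⧸ I) (B ⧸ I.map (algebraMap A B)) :=
    Groth.Agent.Lib.FSNilpH3.flat_quot I
  obtain ⟨e⟩ := fibRing_quot_equiv A B I
  rw [isCM_local_iff (A ⧸ I) (B ⧸ I.map (algebraMap A B))]
  refine and_congr Iff.rfl ⟨fun h => ?_, fun h => ?_⟩
  · exact isCMLocalRing_of_ringEquiv e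
  · exact isCMLocalRing_of_ringEquiv e.symm

end LocalCM

section Comp

variable (A B C : Type u) [CommRing A] [CommRing B] [CommRing C] [Algebra A B] [Algebra B C]
  [Algebra A C] [IsScalarTower A B C] [IsNoetherianRing B] [IsNoetherianRing C] [Module.Flat B C]

/-- For `A → B → C` with `C` flat over `B`: the fibre local ring of `A → C` at `P` is CM iff the
fibre local ring of `A → B` at `P ∩ B` and that of `B → C` at `P` are. -/
theorem isCM_fibLocRing_comp_iff (P : Ideal C) [P.IsPrime] :
    LocCoh.IsCohenMacaulayLocalRing (EGA4.FibLocRing A C P) ↔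
      LocCoh.IsCohenMacaulayLocalRing (EGA4.FibLocRing A B (P.comap (algebraMap B C))) ∧
        LocCoh.IsCohenMacaulayLocalRing (EGA4.FibLocRing B C P) := by
  set q := P.comap (algebraMap B C) with hq
  haveI : P.LiesOver q := ⟨rfl⟩
  letI := Localization.AtPrime.algebraOfLiesOver q P
  haveI : IsLocalHom (algebraMap (Localization.AtPrime q) (Localization.AtPrime P)) :=
    Localization.isLocalHom_localRingHom _ _ _ _
  haveI : Module.Flat B (Localization.AtPrime P) := Module.Flat.trans B C (Localization.AtPrime P)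
  haveI : Module.Flat (Localization.AtPrime q) (Localization.AtPrime P) := by
    rw [Module.flat_iff_of_isLocalization (Localization.AtPrime q) q.primeCompl]
    infer_instance
  haveI : IsNoetherianRing (Localization.AtPrime q) :=
    IsLocalization.isNoetherianRing q.primeCompl _ inferInstance
  haveI : IsNoetherianRing (Localization.AtPrime P) :=
    IsLocalization.isNoetherianRing P.primeCompl _ inferInstance
  set I : Ideal (Localization.AtPrime q) :=
    (q.comap (algebraMap A B)).map (algebraMap A (Localization.AtPrime q)) with hIdef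
  have hI : I ≤ maximalIdeal (Localization.AtPrime q) := fibLocRing_ideal_le A B q
  have key := isCM_quot_iff (Localization.AtPrime q) (Localization.AtPrime P) I hI
  have hpq : q.comap (algebraMap A B) = P.comap (algebraMap A C) := by
    rw [hq, Ideal.comap_comap, ← IsScalarTower.algebraMap_eq]
  have hImap : I.map (algebraMap (Localization.AtPrime q) (Localization.AtPrime P)) =
      (P.comap (algebraMap A C)).map (algebraMap A (Localization.AtPrime P)) := by
    rw [hIdef, Ideal.map_map, ← IsScalarTower.algebraMap_eq, hpq]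
  have hm : (maximalIdeal (Localization.AtPrime q)).map
      (algebraMap (Localization.AtPrime q) (Localization.AtPrime P)) =
      q.map (algebraMap B (Localization.AtPrime P)) := by
    rw [← Localization.AtPrime.map_eq_maximalIdeal, Ideal.map_map,
      ← IsScalarTower.algebraMap_eq]
  let e1 : (Localization.AtPrime P ⧸
      I.map (algebraMap (Localization.AtPrime q) (Localization.AtPrime P))) ≃+*
      EGA4.FibLocRing A C P := Ideal.quotEquivOfEq hImap
  let e2 : EGA4.FibRing (Localization.AtPrime q) (Localization.AtPrime P) ≃+*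
      EGA4.FibLocRing B C P := Ideal.quotEquivOfEq hm
  constructor
  · intro h
    haveI := h
    have h' := key.1 (isCMLocalRing_of_ringEquiv e1.symm)
    haveI := h'.2
    exact ⟨h'.1, isCMLocalRing_of_ringEquiv e2⟩
  · rintro ⟨h1, h2⟩
    haveI := h2
    haveI := key.2 ⟨h1, isCMLocalRing_of_ringEquiv e2.symm⟩
    exact isCMLocalRing_of_ringEquiv e1

end Comp

section DimZero

/-- a Noetherian local ring of dimension zero is Cohen–Macaulay -/
theorem isCMLocalRing_of_dim_zero (T : Type u) [CommRing T] [IsLocalRing T] [IsNoetherianRing T]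
    (h : ringKrullDim T = 0) : LocCoh.IsCohenMacaulayLocalRing T := by
  rw [isCMLocalRing_iff, h]
  have h1 := depth_le_dim T
  rw [h] at h1
  have h2 : LocCoh.depth T T ≤ 0 := by
    have : ((LocCoh.depth T T : ℕ∞) : WithBot ℕ∞) ≤ ((0 : ℕ∞) : WithBot ℕ∞) := h1
    exact WithBot.coe_le_coe.1 this
  have h3 : LocCoh.depth T T = 0 := le_antisymm h2 zero_le
  rw [h3]
  rfl

/-- étale local homomorphisms preserve and reflect Cohen–Macaulayness -/
theorem isCM_iff_of_etale_localization (A B : Type u) [CommRing A] [CommRing B]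
    [IsLocalRing A] [IsLocalRing B] [IsNoetherianRing A] [IsNoetherianRing B]
    [Algebra A B] [IsLocalHom (algebraMap A B)]
    (E : Type u) [CommRing E] [Algebra A E] [Algebra.Etale A E] (P : Ideal E) [P.IsPrime]
    [Algebra E B] [IsScalarTower A E B] [IsLocalization.AtPrime B P] :
    LocCoh.IsCohenMacaulayLocalRing A ↔ LocCoh.IsCohenMacaulayLocalRing B := by
  haveI : Module.Flat A E := inferInstance
  haveI : Module.Flat E B := IsLocalization.flat B P.primeCompl
  haveI : Module.Flat A B := Module.Flat.trans A E B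
  haveI : Algebra.FormallyUnramified E B := Algebra.FormallyUnramified.of_isLocalization P.primeCompl
  haveI : Algebra.FormallyUnramified A B := Algebra.FormallyUnramified.comp A E B
  haveI : Algebra.EssFiniteType E B := Algebra.EssFiniteType.of_isLocalization B P.primeCompl
  haveI : Algebra.EssFiniteType A B := Algebra.EssFiniteType.comp A E B
  have hfield : IsField (EGA4.FibRing A B) :=
    Algebra.FormallyUnramified.isField_quotient_map_maximalIdeal
  have hF : LocCoh.IsCohenMacaulayLocalRing (EGA4.FibRing A B) :=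
    isCMLocalRing_of_dim_zero _ (ringKrullDim_eq_zero_of_isField hfield)
  rw [isCM_local_iff A B]
  exact ⟨fun h => ⟨h, hF⟩, fun h => h.1⟩

end DimZero

end Groth.Agent.FlatCM
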