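import Mathlib
import Groth.Prelude.Def_MoreMor
import Groth.Agent.Lib.FibRed_helper8
import Groth.Agent.Lib.FlatCM3_helper9

/-!
# The local ring of the fibre at `x` is `O_{X,x} / m_y O_{X,x}` (helper5)

`fibStalkEquiv f x : O_{X,x} ⧸ m_{f x} O_{X,x} ≃+* O_{X_{f x}, x}`; application: S9768.
APPEND-ONLY once landed.
-/

set_option autoImplicit false
universe u

namespace Groth.Agent.FibStalkIso

open AlgebraicGeometry CategoryTheory IsLocalRing
open Groth.Agent.FibStalkDimH8 FibRedH8

variable {X Y : Scheme.{u}} (f : X ⟶ Y) (x : X)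

theorem toFib_surjective : Function.Surjective (toFib f x).hom := by
  have hx : (f.fiberι (f.base x)).base (f.asFiber x) = x := f.fiberι_asFiber x
  have h' : x ⤳ (f.fiberι (f.base x)).base (f.asFiber x) := by rw [hx]
  have hcomp : X.presheaf.stalkSpecializes h' ≫ X.presheaf.stalkSpecializes (spec_ι f x) =
      𝟙 _ := by
    rw [TopCat.Presheaf.stalkSpecializes_comp, TopCat.Presheaf.stalkSpecializes_refl]
  intro c
  obtain ⟨b, hb⟩ := (f.fiberι (f.base x)).stalkMap_surjective (f.asFiber x) c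
  refine ⟨(X.presheaf.stalkSpecializes h').hom b, ?_⟩
  have h1 : (X.presheaf.stalkSpecializes (spec_ι f x)).hom
      ((X.presheaf.stalkSpecializes h').hom b) = b := by
    have := congrArg (fun φ => φ.hom b) hcomp
    simpa using this
  show ((f.fiberι (f.base x)).stalkMap (f.asFiber x)).hom
    ((X.presheaf.stalkSpecializes (spec_ι f x)).hom
      ((X.presheaf.stalkSpecializes h').hom b)) = c
  rw [h1, hb]

theorem comp_toFib_factor :
    ∃ θ : Y.residueField (f.base x) ⟶ (f.fiber (f.base x)).presheaf.stalk (f.asFiber x),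
      f.stalkMap x ≫ toFib f x = Y.residue (f.base x) ≫ θ := by
  let g : Spec ((f.fiber (f.base x)).presheaf.stalk (f.asFiber x)) ⟶
      Spec (Y.residueField (f.base x)) :=
    (f.fiber (f.base x)).fromSpecStalk (f.asFiber x) ≫ f.fiberToSpecResidueField (f.base x)
  refine ⟨Spec.preimage g, ?_⟩
  apply Spec.map_injective
  rw [← cancel_mono (Y.fromSpecStalk (f.base x)), spec_comp, Spec.map_comp, Spec.map_preimage,
    Category.assoc, Scheme.Hom.fiber_fac]
  rfl

theorem ker_toFib : RingHom.ker (toFib f x).hom = fibIdeal f x := by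
  apply le_antisymm
  · intro b hb
    exact mem_fibIdeal_of_toFib_eq_zero f x b hb
  · rw [Ideal.map_le_iff_le_comap]
    intro a ha
    obtain ⟨θ, hθ⟩ := comp_toFib_factor f x
    have h1 : (toFib f x).hom ((f.stalkMap x).hom a) = θ.hom ((Y.residue (f.base x)).hom a) := by
      have := congrArg (fun φ => φ.hom a) hθ
      simpa using this
    have h2 : (Y.residue (f.base x)).hom a = 0 := by
      exact (IsLocalRing.residue_eq_zero_iff a).2 ha
    rw [Ideal.mem_comap, RingHom.mem_ker, h1, h2, map_zero]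

/-- The local ring of the fibre at `x` is `O_{X,x} / m_y O_{X,x}`. -/
noncomputable def fibStalkEquiv :
    (X.presheaf.stalk x ⧸ fibIdeal f x) ≃+*
      (f.fiber (f.base x)).presheaf.stalk (f.asFiber x) :=
  (Ideal.quotEquivOfEq (ker_toFib f x).symm).trans
    (RingHom.quotientKerEquivOfSurjective (toFib_surjective f x))

theorem main9768 [IsLocallyNoetherian X] [IsLocallyNoetherian Y] [Flat f]
    (hX : ∀ x : X, LocCoh.IsCohenMacaulayLocalRing ↑(X.presheaf.stalk x)) :
    MoreMor.IsCMAt f x ∧ LocCoh.IsCohenMacaulayLocalRing ↑(Y.presheaf.stalk (f x)) := by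
  have hflat : (f.stalkMap x).hom.Flat := Flat.stalkMap f x
  letI : Algebra (Y.presheaf.stalk (f x)) (X.presheaf.stalk x) := (f.stalkMap x).hom.toAlgebra
  haveI : IsLocalHom (algebraMap (Y.presheaf.stalk (f x)) (X.presheaf.stalk x)) :=
    inferInstanceAs (IsLocalHom (f.stalkMap x).hom)
  haveI : Module.Flat (Y.presheaf.stalk (f x)) (X.presheaf.stalk x) := hflat
  obtain ⟨hA, hF⟩ := (Groth.Agent.FlatCM.isCM_local_iff (Y.presheaf.stalk (f x))
    (X.presheaf.stalk x)).1 (hX x)
  refine ⟨⟨hflat, ?_⟩, hA⟩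
  have hF' : LocCoh.IsCohenMacaulayLocalRing (X.presheaf.stalk x ⧸ fibIdeal f x) := hF
  exact Groth.Agent.FlatCM.isCMLocalRing_of_ringEquiv (fibStalkEquiv f x)

end Groth.Agent.FibStalkIso
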