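import Mathlib
import Groth.Prelude.Def_MoreMor
import Groth.Agent.Lib.FibStalkIso_helper5

/-!
# Cohen–Macaulay morphisms at a point: composition and descent (helper5)

S9766, S9767, via `fibStalkEquiv` and helper9's `isCM_local_iff`.
APPEND-ONLY once landed.
-/

set_option autoImplicit false
universe u

namespace Groth.Agent.FibStalkCM

open AlgebraicGeometry CategoryTheory IsLocalRing
open Groth.Agent.FibStalkDimH8 FibRedH8 Groth.Agent.FibStalkIso

section Alg

variable (A B : Type u) [CommRing A] [CommRing B] [IsLocalRing A] [IsLocalRing B]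
  [Algebra A B] [IsLocalHom (algebraMap A B)] (I : Ideal A)

/-- the closed fibre of `A/I → B/IB` is the closed fibre of `A → B` (no Noetherian hypotheses). -/
theorem fibRing_quot_equiv' (hI : I ≤ maximalIdeal A) [IsLocalRing (A ⧸ I)] :
    Nonempty (EGA4.FibRing (A ⧸ I) (B ⧸ I.map (algebraMap A B)) ≃+* EGA4.FibRing A B) := by
  have hle : I.map (algebraMap A B) ≤ EGA4.mB A B := Ideal.map_mono hI
  have h1 : (maximalIdeal (A ⧸ I)) = (maximalIdeal A).map (Ideal.Quotient.mk I) :=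
    (IsLocalRing.map_maximalIdeal_of_surjective _ Ideal.Quotient.mk_surjective).symm
  have h2 : (maximalIdeal (A ⧸ I)).map (algebraMap (A ⧸ I) (B ⧸ I.map (algebraMap A B))) =
      (EGA4.mB A B).map (Ideal.Quotient.mk (I.map (algebraMap A B))) := by
    rw [h1, Ideal.map_map, Ideal.map_map]
    rfl
  exact ⟨(Ideal.quotEquivOfEq h2).trans (DoubleQuot.quotQuotEquivQuotOfLE hle)⟩

/-- `B/IB` is CM iff `A/I` and the closed fibre of `A → B` are (only the quotients Noetherian). -/
theorem isCM_quot_iff' [Module.Flat A B] (hI : I ≤ maximalIdeal A)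
    [IsNoetherianRing (A ⧸ I)] [IsNoetherianRing (B ⧸ I.map (algebraMap A B))] :
    LocCoh.IsCohenMacaulayLocalRing (B ⧸ I.map (algebraMap A B)) ↔
      LocCoh.IsCohenMacaulayLocalRing (A ⧸ I) ∧
        LocCoh.IsCohenMacaulayLocalRing (EGA4.FibRing A B) := by
  haveI := Groth.Agent.FibDim.isLocalRing_quot hI
  haveI : IsLocalRing (B ⧸ I.map (algebraMap A B)) :=
    Groth.Agent.FibDim.isLocalRing_quot (Groth.Agent.FibDim.map_le_maximalIdeal hI)
  haveI := Groth.Agent.FibDim.isLocalHom_quot (B := B) hI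
  haveI : Module.Flat (A ⧸ I) (B ⧸ I.map (algebraMap A B)) :=
    Groth.Agent.Lib.FSNilpH3.flat_quot I
  obtain ⟨e⟩ := fibRing_quot_equiv' A B I hI
  rw [Groth.Agent.FlatCM.isCM_local_iff (A ⧸ I) (B ⧸ I.map (algebraMap A B))]
  refine and_congr Iff.rfl ⟨fun h => ?_, fun h => ?_⟩
  · exact Groth.Agent.FlatCM.isCMLocalRing_of_ringEquiv e
  · exact Groth.Agent.FlatCM.isCMLocalRing_of_ringEquiv e.symm

end Alg

variable {X Y Z : Scheme.{u}} (f : X ⟶ Y) (g : Y ⟶ Z) (x : X)

theorem fibIdeal_comp :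
    fibIdeal (f ≫ g) x = (fibIdeal g (f x)).map (f.stalkMap x).hom := by
  show (maximalIdeal (Z.presheaf.stalk ((f ≫ g) x))).map ((f ≫ g).stalkMap x).hom =
    ((maximalIdeal (Z.presheaf.stalk (g (f x)))).map (g.stalkMap (f x)).hom).map
      (f.stalkMap x).hom
  rw [Ideal.map_map, Scheme.Hom.stalkMap_comp]
  rfl

theorem fibIdeal_le : fibIdeal f x ≤ maximalIdeal (X.presheaf.stalk x) :=
  ((IsLocalRing.local_hom_TFAE (f.stalkMap x).hom).out 0 2).mp
    (inferInstance : IsLocalHom (f.stalkMap x).hom)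

/-- Common setup: with `B₀ = O_{Y,f x}`, `C₀ = O_{X,x}`, `I = m_z B₀`:
`CM (fibre stalk of f ≫ g at x) ↔ CM (fibre stalk of g at f x) ∧ CM (fibre stalk of f at x)`,
given that `f` is flat at `x` and the fibre stalks of `g` and `f ≫ g` are Noetherian. -/
theorem cm_comp_iff (hf1 : (f.stalkMap x).hom.Flat)
    (hN1 : IsNoetherianRing ((g.fiber (g.base (f x))).presheaf.stalk (g.asFiber (f x))))
    (hN2 : IsNoetherianRing
      (((f ≫ g).fiber ((f ≫ g).base x)).presheaf.stalk ((f ≫ g).asFiber x))) :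
    LocCoh.IsCohenMacaulayLocalRing
        (((f ≫ g).fiber ((f ≫ g).base x)).presheaf.stalk ((f ≫ g).asFiber x)) ↔
      LocCoh.IsCohenMacaulayLocalRing
          ((g.fiber (g.base (f x))).presheaf.stalk (g.asFiber (f x))) ∧
        LocCoh.IsCohenMacaulayLocalRing
          ((f.fiber (f.base x)).presheaf.stalk (f.asFiber x)) := by
  letI : Algebra (Y.presheaf.stalk (f x)) (X.presheaf.stalk x) := (f.stalkMap x).hom.toAlgebra
  haveI : IsLocalHom (algebraMap (Y.presheaf.stalk (f x)) (X.presheaf.stalk x)) :=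
    inferInstanceAs (IsLocalHom (f.stalkMap x).hom)
  haveI : Module.Flat (Y.presheaf.stalk (f x)) (X.presheaf.stalk x) := hf1
  have hIle : fibIdeal g (f x) ≤ maximalIdeal (Y.presheaf.stalk (f x)) := fibIdeal_le g (f x)
  have hmap : (fibIdeal g (f x)).map (algebraMap (Y.presheaf.stalk (f x)) (X.presheaf.stalk x)) =
      fibIdeal (f ≫ g) x := (fibIdeal_comp f g x).symm
  let e : (X.presheaf.stalk x ⧸ (fibIdeal g (f x)).map
        (algebraMap (Y.presheaf.stalk (f x)) (X.presheaf.stalk x))) ≃+*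
      ((f ≫ g).fiber ((f ≫ g).base x)).presheaf.stalk ((f ≫ g).asFiber x) :=
    (Ideal.quotEquivOfEq hmap).trans (fibStalkEquiv (f ≫ g) x)
  haveI : IsNoetherianRing (X.presheaf.stalk x ⧸ (fibIdeal g (f x)).map
      (algebraMap (Y.presheaf.stalk (f x)) (X.presheaf.stalk x))) :=
    isNoetherianRing_of_ringEquiv _ e.symm
  haveI : IsNoetherianRing (Y.presheaf.stalk (f x) ⧸ fibIdeal g (f x)) :=
    isNoetherianRing_of_ringEquiv _ (fibStalkEquiv g (f x)).symm
  have key := isCM_quot_iff' (Y.presheaf.stalk (f x)) (X.presheaf.stalk x)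
    (fibIdeal g (f x)) hIle
  constructor
  · intro h
    haveI := h
    have h1 := Groth.Agent.FlatCM.isCMLocalRing_of_ringEquiv e.symm
    obtain ⟨h2, h3⟩ := key.1 h1
    constructor
    · haveI := h2
      exact Groth.Agent.FlatCM.isCMLocalRing_of_ringEquiv (fibStalkEquiv g (f x))
    · have h3' : LocCoh.IsCohenMacaulayLocalRing (X.presheaf.stalk x ⧸ fibIdeal f x) := h3
      haveI := h3'
      exact Groth.Agent.FlatCM.isCMLocalRing_of_ringEquiv (fibStalkEquiv f x)
  · rintro ⟨h2, h3⟩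
    have h2' : LocCoh.IsCohenMacaulayLocalRing (Y.presheaf.stalk (f x) ⧸ fibIdeal g (f x)) := by
      haveI := h2
      exact Groth.Agent.FlatCM.isCMLocalRing_of_ringEquiv (fibStalkEquiv g (f x)).symm
    have h3' : LocCoh.IsCohenMacaulayLocalRing
        (EGA4.FibRing (Y.presheaf.stalk (f x)) (X.presheaf.stalk x)) := by
      haveI := h3
      have : LocCoh.IsCohenMacaulayLocalRing (X.presheaf.stalk x ⧸ fibIdeal f x) :=
        Groth.Agent.FlatCM.isCMLocalRing_of_ringEquiv (fibStalkEquiv f x).symm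
      exact this
    haveI := key.2 ⟨h2', h3'⟩
    exact Groth.Agent.FlatCM.isCMLocalRing_of_ringEquiv e

theorem main9766 (hN : IsLocallyNoetherian ((f ≫ g).fiber (g (f x))))
    (hf : MoreMor.IsCMAt f x) (hg : MoreMor.IsCMAt g (f x)) : MoreMor.IsCMAt (f ≫ g) x := by
  obtain ⟨hf1, hf2⟩ := hf
  obtain ⟨hg1, hg2⟩ := hg
  have hflat : ((f ≫ g).stalkMap x).hom.Flat := by
    rw [Scheme.Hom.stalkMap_comp]
    exact RingHom.Flat.comp hg1 hf1
  refine ⟨hflat, ?_⟩
  have hN2 : IsNoetherianRing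
      (((f ≫ g).fiber ((f ≫ g).base x)).presheaf.stalk ((f ≫ g).asFiber x)) := by
    haveI : IsLocallyNoetherian ((f ≫ g).fiber ((f ≫ g).base x)) := hN
    infer_instance
  exact (cm_comp_iff f g x hf1 hg2.toIsNoetherian hN2).2 ⟨hg2, hf2⟩

theorem main9767
    (hNg : IsLocallyNoetherian (g.fiber (g (f x))))
    (h : MoreMor.IsCMAt (f ≫ g) x) (hfl : (f.stalkMap x).hom.Flat) :
    MoreMor.IsCMAt f x ∧ MoreMor.IsCMAt g (f x) := by
  obtain ⟨h1, h2⟩ := h
  have hN1 : IsNoetherianRing ((g.fiber (g.base (f x))).presheaf.stalk (g.asFiber (f x))) := by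
    haveI := hNg
    infer_instance
  obtain ⟨hg2, hf2⟩ := (cm_comp_iff f g x hfl hN1 h2.toIsNoetherian).1 h2
  refine ⟨⟨hfl, hf2⟩, ⟨?_, hg2⟩⟩
  -- flatness of `g` at `f x` by faithfully flat descent along `f.stalkMap x`
  have hff : (f.stalkMap x).hom.FaithfullyFlat := by
    letI : Algebra (Y.presheaf.stalk (f x)) (X.presheaf.stalk x) := (f.stalkMap x).hom.toAlgebra
    haveI : IsLocalHom (algebraMap (Y.presheaf.stalk (f x)) (X.presheaf.stalk x)) :=
      inferInstanceAs (IsLocalHom (f.stalkMap x).hom)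
    haveI : Module.Flat (Y.presheaf.stalk (f x)) (X.presheaf.stalk x) := hfl
    exact (Module.FaithfullyFlat.of_flat_of_isLocalHom :
      Module.FaithfullyFlat (Y.presheaf.stalk (f x)) (X.presheaf.stalk x))
  have h1' : ((f.stalkMap x).hom.comp (g.stalkMap (f x)).hom).Flat := by
    have := h1
    rw [Scheme.Hom.stalkMap_comp] at this
    exact this
  exact Groth.Agent.Lib.FlatDescent_helper4.ringHom_flat_of_comp _ _ hff h1'

end Groth.Agent.FibStalkCM
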