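import Mathlib
import Groth.Prelude.Def_CInt
import Groth.Prelude.Def_CAlg
import Groth.Agent.Lib.FibStalkCM_helper5

/-!
# Depth of the local ring of a fibre vs depth of the local ring of the total space (helper5)
APPEND-ONLY once landed.
-/

set_option autoImplicit false
universe u

namespace Groth.Agent.FibStalkDepth

open AlgebraicGeometry CategoryTheory IsLocalRing
open Groth.Agent.FibStalkDimH8 FibRedH8 Groth.Agent.FibStalkIso

/-- For a flat morphism of locally Noetherian schemes: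
`depth O_{X,y} = depth O_{S,f y} + depth O_{X_{f y}, y}`. -/
theorem depth_stalk_eq_add {X S : Scheme.{u}} [IsLocallyNoetherian X] [IsLocallyNoetherian S]
    (f : X ⟶ S) [Flat f] (y : X) :
    LocCoh.depth ↑(X.presheaf.stalk y) ↑(X.presheaf.stalk y) =
      LocCoh.depth ↑(S.presheaf.stalk (f y)) ↑(S.presheaf.stalk (f y)) +
        LocCoh.depth ↑(CInt.fiberStalk f y) ↑(CInt.fiberStalk f y) := by
  have hflat : (f.stalkMap y).hom.Flat := Flat.stalkMap f y
  letI : Algebra (S.presheaf.stalk (f y)) (X.presheaf.stalk y) := (f.stalkMap y).hom.toAlgebra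
  haveI : IsLocalHom (algebraMap (S.presheaf.stalk (f y)) (X.presheaf.stalk y)) :=
    inferInstanceAs (IsLocalHom (f.stalkMap y).hom)
  haveI : Module.Flat (S.presheaf.stalk (f y)) (X.presheaf.stalk y) := hflat
  haveI hloc : IsLocalRing (X.presheaf.stalk y ⧸ fibIdeal f y) :=
    Groth.Agent.FibDim.isLocalRing_quot (Groth.Agent.FibStalkCM.fibIdeal_le f y)
  have h1 : LocCoh.depth ↑(X.presheaf.stalk y) ↑(X.presheaf.stalk y) =
      LocCoh.depth ↑(S.presheaf.stalk (f y)) ↑(S.presheaf.stalk (f y)) +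
        LocCoh.depth (X.presheaf.stalk y ⧸ fibIdeal f y) (X.presheaf.stalk y ⧸ fibIdeal f y) :=
    Groth.Agent.FlatCM.depth_eq_add (S.presheaf.stalk (f y)) (X.presheaf.stalk y)
  haveI : IsNoetherianRing ↑(CInt.fiberStalk f y) :=
    isNoetherianRing_of_ringEquiv _ (fibStalkEquiv f y)
  have h2 : LocCoh.depth (X.presheaf.stalk y ⧸ fibIdeal f y) (X.presheaf.stalk y ⧸ fibIdeal f y) =
      LocCoh.depth ↑(CInt.fiberStalk f y) ↑(CInt.fiberStalk f y) :=
    Groth.Agent.FlatCM.depth_ringEquiv (fibStalkEquiv f y)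
  rw [h1, h2]

theorem main14104 {X S : Scheme.{u}} [IsLocallyNoetherian X] [IsLocallyNoetherian S]
    (f : X ⟶ S) [Flat f] (Y : Set ↥X) (d : ℕ)
    (h : ∀ y : ↥X, y ∈ Y →
      (d : ℕ∞) ≤ LocCoh.depth ↑(CInt.fiberStalk f y) ↑(CInt.fiberStalk f y)) :
    ∀ y : ↥X, y ∈ Y →
      (d : ℕ∞) ≤ LocCoh.depth ↑(X.presheaf.stalk y) ↑(X.presheaf.stalk y) := by
  intro y hy
  rw [depth_stalk_eq_add f y]
  exact (h y hy).trans le_add_self

end Groth.Agent.FibStalkDepth
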