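import Mathlib
import Groth.Prelude.Def_CInt
import Groth.Prelude.Def_CAlg
import Groth.Agent.Lib.FibStalkDepth_helper5
import Groth.Agent.Lib.AffStalk_helper3

/-!
# Dimension of fibre local rings of a composite (helper5): S14109, S14110
APPEND-ONLY once landed.
-/

set_option autoImplicit false
universe u

namespace Groth.Agent.FibStalkDim2

open AlgebraicGeometry CategoryTheory IsLocalRing
open Groth.Agent.FibStalkDimH8 FibRedH8 Groth.Agent.FibStalkIso Groth.Agent.FibStalkCM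

section Comp

variable {X' X S : Scheme.{u}} [IsLocallyNoetherian X] [IsLocallyNoetherian X']
  (g : X' ⟶ X) (f : X ⟶ S) (y' : X')

/-- `dim O_{X'_s,y'} ≤ dim O_{X_s,g y'} + dim O_{g⁻¹(g y'),y'}`, with equality if `g` is flat
at `y'`. -/
theorem dim_comp :
    ringKrullDim ↑(CInt.fiberStalk (g ≫ f) y') ≤
        ringKrullDim ↑(CInt.fiberStalk f (g y')) + ringKrullDim ↑(CInt.fiberStalk g y') ∧
      ((g.stalkMap y').hom.Flat →
        ringKrullDim ↑(CInt.fiberStalk (g ≫ f) y') =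
          ringKrullDim ↑(CInt.fiberStalk f (g y')) + ringKrullDim ↑(CInt.fiberStalk g y')) := by
  letI : Algebra (X.presheaf.stalk (g y')) (X'.presheaf.stalk y') := (g.stalkMap y').hom.toAlgebra
  haveI : IsLocalHom (algebraMap (X.presheaf.stalk (g y')) (X'.presheaf.stalk y')) :=
    inferInstanceAs (IsLocalHom (g.stalkMap y').hom)
  have hIle : fibIdeal f (g y') ≤ maximalIdeal (X.presheaf.stalk (g y')) := fibIdeal_le f (g y')
  have hmap : (fibIdeal f (g y')).map
      (algebraMap (X.presheaf.stalk (g y')) (X'.presheaf.stalk y')) =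
      fibIdeal (g ≫ f) y' := (fibIdeal_comp g f y').symm
  let e : (X'.presheaf.stalk y' ⧸ (fibIdeal f (g y')).map
        (algebraMap (X.presheaf.stalk (g y')) (X'.presheaf.stalk y'))) ≃+*
      ((g ≫ f).fiber ((g ≫ f).base y')).presheaf.stalk ((g ≫ f).asFiber y') :=
    (Ideal.quotEquivOfEq hmap).trans (fibStalkEquiv (g ≫ f) y')
  haveI := Groth.Agent.FibDim.isLocalRing_quot hIle
  haveI : IsLocalRing (X'.presheaf.stalk y' ⧸ (fibIdeal f (g y')).map
      (algebraMap (X.presheaf.stalk (g y')) (X'.presheaf.stalk y'))) :=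
    Groth.Agent.FibDim.isLocalRing_quot (Groth.Agent.FibDim.map_le_maximalIdeal hIle)
  haveI := Groth.Agent.FibDim.isLocalHom_quot (B := X'.presheaf.stalk y') hIle
  obtain ⟨e3⟩ := fibRing_quot_equiv' (X.presheaf.stalk (g y')) (X'.presheaf.stalk y')
    (fibIdeal f (g y')) hIle
  have d1 : ringKrullDim (X.presheaf.stalk (g y') ⧸ fibIdeal f (g y')) =
      ringKrullDim ↑(CInt.fiberStalk f (g y')) :=
    ringKrullDim_eq_of_ringEquiv (fibStalkEquiv f (g y'))
  have d2 : ringKrullDim (X'.presheaf.stalk y' ⧸ (fibIdeal f (g y')).map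
        (algebraMap (X.presheaf.stalk (g y')) (X'.presheaf.stalk y'))) =
      ringKrullDim ↑(CInt.fiberStalk (g ≫ f) y') := ringKrullDim_eq_of_ringEquiv e
  have d3 : ringKrullDim (EGA4.FibRing (X.presheaf.stalk (g y') ⧸ fibIdeal f (g y'))
        (X'.presheaf.stalk y' ⧸ (fibIdeal f (g y')).map
          (algebraMap (X.presheaf.stalk (g y')) (X'.presheaf.stalk y')))) =
      ringKrullDim ↑(CInt.fiberStalk g y') :=
    (ringKrullDim_eq_of_ringEquiv e3).trans
      (ringKrullDim_eq_of_ringEquiv (fibStalkEquiv g y'))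
  constructor
  · rw [← d1, ← d2, ← d3]
    exact Groth.Agent.FibDim.dim_le
  · intro hflat
    haveI : Module.Flat (X.presheaf.stalk (g y')) (X'.presheaf.stalk y') := hflat
    haveI : Module.Flat (X.presheaf.stalk (g y') ⧸ fibIdeal f (g y'))
        (X'.presheaf.stalk y' ⧸ (fibIdeal f (g y')).map
          (algebraMap (X.presheaf.stalk (g y')) (X'.presheaf.stalk y'))) :=
      Groth.Agent.Lib.FSNilpH3.flat_quot (fibIdeal f (g y'))
    rw [← d1, ← d2, ← d3]
    exact Groth.Agent.FlatCM.dim_eq_add _ _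

theorem main14110 (f : X ⟶ S) (g : X' ⟶ X) [Flat g] (Y : Set ↥X) :
    (⨅ y : Y, ringKrullDim ↑(CInt.fiberStalk f y.1)) ≤
      ⨅ y' : (fun x' => g x') ⁻¹' Y, ringKrullDim ↑(CInt.fiberStalk (g ≫ f) y'.1) := by
  refine le_iInf fun y' => ?_
  have h1 : (⨅ y : Y, ringKrullDim ↑(CInt.fiberStalk f y.1)) ≤
      ringKrullDim ↑(CInt.fiberStalk f (g y'.1)) :=
    iInf_le (fun y : Y => ringKrullDim ↑(CInt.fiberStalk f y.1)) ⟨g y'.1, y'.2⟩
  refine h1.trans ?_
  rw [(dim_comp g f y'.1).2 (Flat.stalkMap g y'.1)]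
  exact le_add_of_nonneg_right ringKrullDim_nonneg_of_nontrivial

end Comp

theorem exists_zero_dim_point (F : Scheme.{u}) [hF : Nonempty F] :
    ∃ z : F, ringKrullDim (F.presheaf.stalk z) = 0 := by
  obtain ⟨z₀⟩ := hF
  obtain ⟨_, ⟨U, hU, rfl⟩, hzU, -⟩ :=
    F.isBasis_affineOpens.exists_subset_of_mem_open (Set.mem_univ z₀) isOpen_univ
  have hU' : IsAffineOpen U := hU
  haveI : Nonempty U := ⟨⟨z₀, hzU⟩⟩
  haveI : Nontrivial Γ(F, U) := Scheme.component_nontrivial F U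
  obtain ⟨⟨p, hp⟩⟩ := Ideal.nonempty_minimalPrimes (I := (⊥ : Ideal Γ(F, U))) bot_ne_top
  haveI : p.IsPrime := hp.1.1
  let q : PrimeSpectrum Γ(F, U) := ⟨p, inferInstance⟩
  refine ⟨hU'.fromSpec q, ?_⟩
  have h1 := Groth.Agent.Lib.AffStalk_helper3.ringKrullDim_stalk hU'
    ⟨hU'.fromSpec q, Groth.Agent.Lib.AffStalk_helper3.fromSpec_mem hU' q⟩
  rw [Groth.Agent.Lib.AffStalk_helper3.primeIdealOf_fromSpec] at h1
  rw [h1]
  have h2 : p.height = 0 := Ideal.height_eq_zero_iff.2 hp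
  show ((p.height : ℕ∞) : WithBot ℕ∞) = 0
  rw [h2]
  rfl

theorem dim_fiberStalk_transport {X' X : Scheme.{u}} (g : X' ⟶ X) :
    ∀ (y : X) (z : g.fiber y) (y' : X'), (g.fiberι y) z = y' →
      ringKrullDim ↑(CInt.fiberStalk g y') = ringKrullDim ((g.fiber y).presheaf.stalk z) := by
  intro y z y' hz
  have hy : g y' = y := by
    rw [← hz]
    have := (g.fiberHomeo y z).2
    rw [Set.mem_preimage, Set.mem_singleton_iff, Scheme.Hom.fiberHomeo_apply] at this
    exact this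
  subst hy
  have hz' : z = g.asFiber y' := by
    apply (g.fiberι (g y')).isEmbedding.injective
    rw [hz, Scheme.Hom.fiberι_asFiber]
  subst hz'
  rfl

theorem main14109 {X X' S : Scheme.{u}} [IsLocallyNoetherian X] [IsLocallyNoetherian X']
    (f : X ⟶ S) (g : X' ⟶ X) [Surjective g] (Y : Set ↥X) :
    (⨅ y' : (fun x' => g x') ⁻¹' Y, ringKrullDim ↑(CInt.fiberStalk (g ≫ f) y'.1)) ≤
      ⨅ y : Y, ringKrullDim ↑(CInt.fiberStalk f y.1) := by
  refine le_iInf fun y => ?_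
  obtain ⟨y₀, hy₀⟩ := g.surjective y.1
  haveI : Nonempty (g.fiber y.1) := ⟨(g.fiberHomeo y.1).symm ⟨y₀, hy₀⟩⟩
  obtain ⟨z, hz⟩ := exists_zero_dim_point (g.fiber y.1)
  have hy' : g ((g.fiberι y.1) z) = y.1 := by
    have := (g.fiberHomeo y.1 z).2
    rw [Set.mem_preimage, Set.mem_singleton_iff, Scheme.Hom.fiberHomeo_apply] at this
    exact this
  have hmem : (g.fiberι y.1) z ∈ (fun x' => g x') ⁻¹' Y := by
    show g ((g.fiberι y.1) z) ∈ Y
    rw [hy']
    exact y.2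
  have h1 : (⨅ y' : (fun x' => g x') ⁻¹' Y, ringKrullDim ↑(CInt.fiberStalk (g ≫ f) y'.1)) ≤
      ringKrullDim ↑(CInt.fiberStalk (g ≫ f) ((g.fiberι y.1) z)) :=
    iInf_le (fun y' : (fun x' => g x') ⁻¹' Y => ringKrullDim ↑(CInt.fiberStalk (g ≫ f) y'.1))
      ⟨(g.fiberι y.1) z, hmem⟩
  refine h1.trans ((dim_comp g f ((g.fiberι y.1) z)).1.trans ?_)
  rw [dim_fiberStalk_transport g y.1 z _ rfl, hz, add_zero, hy']

end Groth.Agent.FibStalkDim2
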