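import Mathlib
import Groth.Prelude.Def_MoreMor
import Groth.Prelude.Def_CInt
import Groth.Agent.Lib.FibStalkDim2_helper5

/-!
# The induced map on fibres of a cartesian square is flat (helper5): S1346
APPEND-ONLY once landed.
-/

set_option autoImplicit false
universe u

namespace Groth.Agent.FibMapFlat

open AlgebraicGeometry CategoryTheory Limits IsLocalRing

section

variable {P X Y Z : Scheme.{u}} {fst : P ⟶ X} {snd : P ⟶ Y} {f : X ⟶ Z} {g : Y ⟶ Z}

/-- the induced map on fibres `P_y ⟶ X_{g y}` of a cartesian square -/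
noncomputable def fibMap (h : IsPullback fst snd f g) (y : Y) : snd.fiber y ⟶ f.fiber (g y) :=
  pullback.map _ _ _ _ fst (Spec.map (g.residueFieldMap y)) g h.w.symm (by simp)

theorem fibMap_fiberι (h : IsPullback fst snd f g) (y : Y) :
    fibMap h y ≫ f.fiberι (g y) = snd.fiberι y ≫ fst :=
  pullback.lift_fst _ _ _

theorem isPullback_fibMap (h : IsPullback fst snd f g) (y : Y) :
    IsPullback (fibMap h y) (snd.fiberToSpecResidueField y)
      (f.fiberToSpecResidueField (g y)) (Spec.map (g.residueFieldMap y)) :=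
  isPullback_fiberToSpecResidueField_of_isPullback h y

theorem flat_fibMap (h : IsPullback fst snd f g) (y : Y) : Flat (fibMap h y) := by
  have hfl : Flat (Spec.map (g.residueFieldMap y)) := by
    rw [HasRingHomProperty.Spec_iff (P := @Flat)]
    letI : Algebra (Z.residueField (g y)) (Y.residueField y) :=
      (g.residueFieldMap y).hom.toAlgebra
    show Module.Flat (Z.residueField (g y)) (Y.residueField y)
    infer_instance
  exact MorphismProperty.of_isPullback (P := @Flat) (isPullback_fibMap h y).flip hfl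

theorem fiberι_fibMap_apply (h : IsPullback fst snd f g) (y : Y) (z' : snd.fiber y) :
    (f.fiberι (g y)) (fibMap h y z') = fst ((snd.fiberι y) z') := by
  rw [← Scheme.Hom.comp_apply, fibMap_fiberι, Scheme.Hom.comp_apply]

end

theorem fiberStalk_transport_equiv {X' X : Scheme.{u}} (g : X' ⟶ X) :
    ∀ (y : X) (z : g.fiber y) (y' : X'), (g.fiberι y) z = y' →
      Nonempty (↑(CInt.fiberStalk g y') ≃+* ↑((g.fiber y).presheaf.stalk z)) := by
  intro y z y' hz
  have hy : g y' = y := by
    rw [← hz]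
    have := (g.fiberHomeo y z).2
    rw [Set.mem_preimage, Set.mem_singleton_iff, Scheme.Hom.fiberHomeo_apply] at this
    exact this
  subst hy
  have hz' : z = g.asFiber y' := by
    apply (g.fiberι (g y')).isEmbedding.injective
    rw [hz, Scheme.Hom.fiberι_asFiber]
  subst hz'
  exact ⟨RingEquiv.refl _⟩

theorem main1346 {X Y X' Y' : Scheme.{u}} (f : X ⟶ Y)
    (hN : ∀ y : Y, IsLocallyNoetherian (f.fiber y))
    (f' : X' ⟶ Y') (g' : X' ⟶ X) (g : Y' ⟶ Y) (hc : IsPullback g' f' f g) (x' : X')
    (hflat : (f.stalkMap (g' x')).hom.Flat) (h : MoreMor.IsCMAt f' x') :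
    MoreMor.IsCMAt f (g' x') := by
  refine ⟨hflat, ?_⟩
  obtain ⟨-, hCM⟩ := h
  haveI hflφ : Flat (fibMap hc (f' x')) := flat_fibMap hc (f' x')
  have hpt : (f.fiberι (g (f' x'))) (fibMap hc (f' x') (f'.asFiber x')) = g' x' := by
    rw [fiberι_fibMap_apply, Scheme.Hom.fiberι_asFiber]
  obtain ⟨e⟩ := fiberStalk_transport_equiv f (g (f' x')) (fibMap hc (f' x') (f'.asFiber x'))
    (g' x') hpt
  letI : Algebra ((f.fiber (g (f' x'))).presheaf.stalk (fibMap hc (f' x') (f'.asFiber x')))
      ((f'.fiber (f' x')).presheaf.stalk (f'.asFiber x')) :=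
    ((fibMap hc (f' x')).stalkMap (f'.asFiber x')).hom.toAlgebra
  haveI : IsLocalHom (algebraMap
      ((f.fiber (g (f' x'))).presheaf.stalk (fibMap hc (f' x') (f'.asFiber x')))
      ((f'.fiber (f' x')).presheaf.stalk (f'.asFiber x'))) :=
    inferInstanceAs (IsLocalHom ((fibMap hc (f' x')).stalkMap (f'.asFiber x')).hom)
  haveI : Module.Flat
      ((f.fiber (g (f' x'))).presheaf.stalk (fibMap hc (f' x') (f'.asFiber x')))
      ((f'.fiber (f' x')).presheaf.stalk (f'.asFiber x')) :=
    Flat.stalkMap (fibMap hc (f' x')) (f'.asFiber x')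
  haveI : IsNoetherianRing
      ((f.fiber (g (f' x'))).presheaf.stalk (fibMap hc (f' x') (f'.asFiber x'))) := by
    haveI := hN (g (f' x'))
    infer_instance
  haveI : IsNoetherianRing ((f'.fiber (f' x')).presheaf.stalk (f'.asFiber x')) :=
    hCM.toIsNoetherian
  have hA := ((Groth.Agent.FlatCM.isCM_local_iff
    ((f.fiber (g (f' x'))).presheaf.stalk (fibMap hc (f' x') (f'.asFiber x')))
    ((f'.fiber (f' x')).presheaf.stalk (f'.asFiber x'))).1 hCM).1
  haveI := hA
  exact Groth.Agent.FlatCM.isCMLocalRing_of_ringEquiv e.symm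

end Groth.Agent.FibMapFlat
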