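import Mathlib

/-!
# Lifting freeness from the fibre

Let `R → O` be a ring map with `O` local, `I` an ideal of `R` with `I O ≠ O`, and `O → Ō` a
surjection whose kernel is contained in `I O`.  If `N` is a finitely presented `O`-module which is
flat over `R` and `Ō ⊗_O N` is free over `Ō`, then `N` is free over `O`.
-/

namespace Groth.Agent.Lib.FreeLiftH6

open TensorProduct

universe u

theorem one_tmul_eq_zero {O Ō : Type u} [CommRing O] [CommRing Ō] [Algebra O Ō]
    (hπ : Function.Surjective (algebraMap O Ō)) {N : Type u} [AddCommGroup N] [Module O N] (n : N)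
    (h : (1 : Ō) ⊗ₜ[O] n = 0) :
    n ∈ RingHom.ker (algebraMap O Ō) • (⊤ : Submodule O N) := by
  have hπ' : Function.Surjective (Algebra.ofId O Ō) := hπ
  let e : Ō ⊗[O] N ≃ₗ[O] N ⧸ (RingHom.ker (algebraMap O Ō) • (⊤ : Submodule O N)) :=
    (TensorProduct.congr (Ideal.quotientKerAlgEquivOfSurjective hπ').symm.toLinearEquiv
      (LinearEquiv.refl O N)) ≪≫ₗ
      quotTensorEquivQuotSMul N (RingHom.ker (Algebra.ofId O Ō))
  have h1 : e ((1 : Ō) ⊗ₜ[O] n) = Submodule.Quotient.mk n := by
    show quotTensorEquivQuotSMul N (RingHom.ker (Algebra.ofId O Ō))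
      ((TensorProduct.congr (Ideal.quotientKerAlgEquivOfSurjective hπ').symm.toLinearEquiv
        (LinearEquiv.refl O N)) ((1 : Ō) ⊗ₜ[O] n)) = _
    rw [TensorProduct.congr_tmul]
    have : (Ideal.quotientKerAlgEquivOfSurjective hπ').symm.toLinearEquiv (1 : Ō) = 1 :=
      map_one (Ideal.quotientKerAlgEquivOfSurjective hπ').symm
    rw [this]
    exact quotTensorEquivQuotSMul_mk_one_tmul _ _
  rw [h, map_zero] at h1
  exact (Submodule.Quotient.mk_eq_zero _).mp h1.symm

theorem free_of_free_quotient {R O Ō : Type u} [CommRing R] [CommRing O] [CommRing Ō]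
    [IsLocalRing O] [Algebra R O] [Algebra O Ō] (hπ : Function.Surjective (algebraMap O Ō))
    (I : Ideal R) (hI : I.map (algebraMap R O) ≤ IsLocalRing.maximalIdeal O)
    (hker : RingHom.ker (algebraMap O Ō) ≤ I.map (algebraMap R O))
    {N : Type u} [AddCommGroup N] [Module O N] [Module R N] [IsScalarTower R O N]
    [Module.FinitePresentation O N] [Module.Flat R N] [Module.Free Ō (Ō ⊗[O] N)] :
    Module.Free O N := by
  classical
  have hjac : I.map (algebraMap R O) ≤ Ideal.jacobson (⊥ : Ideal O) := by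
    rw [IsLocalRing.jacobson_eq_maximalIdeal ⊥ bot_ne_top]
    exact hI
  let ι := Module.Free.ChooseBasisIndex Ō (Ō ⊗[O] N)
  let b : Module.Basis ι Ō (Ō ⊗[O] N) := Module.Free.chooseBasis Ō (Ō ⊗[O] N)
  haveI : Fintype ι := Module.Free.ChooseBasisIndex.fintype Ō (Ō ⊗[O] N)
  have hmk : Function.Surjective (TensorProduct.mk O Ō N 1) := TensorProduct.mk_surjective O N Ō hπ
  choose n hn using fun i => hmk (b i)
  let φ : (ι → O) →ₗ[O] N := Fintype.linearCombination O n
  have hφ : ∀ v : ι → O, (1 : Ō) ⊗ₜ[O] (φ v) = ∑ i, algebraMap O Ō (v i) • b i := by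
    intro v
    show (1 : Ō) ⊗ₜ[O] (Fintype.linearCombination O n v) = _
    rw [Fintype.linearCombination_apply, TensorProduct.tmul_sum]
    refine Finset.sum_congr rfl fun i _ => ?_
    rw [← hn i, algebraMap_smul, TensorProduct.tmul_smul]
    rfl
  -- surjectivity
  have hsurj : Function.Surjective φ := by
    rw [← LinearMap.range_eq_top, eq_top_iff]
    refine Submodule.le_of_le_smul_of_le_jacobson_bot (I := I.map (algebraMap R O))
      (Module.Finite.fg_top) hjac ?_
    intro x _
    obtain ⟨o, ho⟩ : ∃ o : ι → O, ∀ i, algebraMap O Ō (o i) = b.repr ((1 : Ō) ⊗ₜ[O] x) i :=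
      ⟨fun i => (hπ (b.repr ((1 : Ō) ⊗ₜ[O] x) i)).choose,
        fun i => (hπ (b.repr ((1 : Ō) ⊗ₜ[O] x) i)).choose_spec⟩
    have h0 : (1 : Ō) ⊗ₜ[O] (x - φ o) = 0 := by
      rw [TensorProduct.tmul_sub, hφ o, sub_eq_zero]
      conv_lhs => rw [← b.sum_repr ((1 : Ō) ⊗ₜ[O] x)]
      exact Finset.sum_congr rfl fun i _ => by rw [ho i]
    have h1 := one_tmul_eq_zero hπ (x - φ o) h0
    have h2 : x = φ o + (x - φ o) := by abel
    rw [h2]
    refine Submodule.add_mem_sup (LinearMap.mem_range_self φ o) ?_
    exact Submodule.smul_mono_left hker h1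
  -- injectivity
  have hK : (LinearMap.ker φ).FG := Module.FinitePresentation.fg_ker φ hsurj
  have hinj : LinearMap.ker φ = ⊥ := by
    refine Submodule.eq_bot_of_le_smul_of_le_jacobson_bot (I.map (algebraMap R O)) _ hK ?_ hjac
    intro v hv
    have hv0 : φ v = 0 := hv
    -- coordinates lie in the kernel
    have hcoord : ∀ i, v i ∈ I.map (algebraMap R O) := by
      intro i
      apply hker
      rw [RingHom.mem_ker]
      have h1 := hφ v
      rw [hv0, TensorProduct.tmul_zero] at h1
      exact Fintype.linearIndependent_iff.mp b.linearIndependent _ h1.symm i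
    -- `v ∈ I • ⊤` as an `R`-module
    have hvI : v ∈ I • (⊤ : Submodule R (ι → O)) := by
      have h1 : v ∈ I.map (algebraMap R O) • (⊤ : Submodule O (ι → O)) := by
        have : v = ∑ i, v i • (Pi.single i (1 : O) : ι → O) := by
          ext j
          simp [Finset.sum_apply, Pi.single_apply]
        rw [this]
        exact Submodule.sum_mem _ fun i _ => Submodule.smul_mem_smul (hcoord i) trivial
      have h2 := Ideal.smul_restrictScalars I (⊤ : Submodule O (ι → O))
      rw [Submodule.restrictScalars_top] at h2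
      rw [← h2]
      exact h1
    -- flatness
    have hflat := LinearMap.lTensor_injective_of_exact_of_flat (φ.restrictScalars R) hsurj
      ((LinearMap.ker φ).subtype.restrictScalars R) (LinearMap.ker φ).injective_subtype
      (LinearMap.exact_subtype_ker_map φ) (R ⧸ I)
    have hz : (1 : R ⧸ I) ⊗ₜ[R] (⟨v, hv⟩ : LinearMap.ker φ) = 0 := by
      apply hflat
      rw [map_zero, LinearMap.lTensor_tmul]
      apply (quotTensorEquivQuotSMul (ι → O) I).injective
      rw [map_zero, quotTensorEquivQuotSMul_mk_one_tmul]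
      exact (Submodule.Quotient.mk_eq_zero _).mpr hvI
    have hz2 : (⟨v, hv⟩ : LinearMap.ker φ) ∈ I • (⊤ : Submodule R (LinearMap.ker φ)) := by
      have := congrArg (quotTensorEquivQuotSMul (LinearMap.ker φ) I) hz
      rw [map_zero, quotTensorEquivQuotSMul_mk_one_tmul] at this
      exact (Submodule.Quotient.mk_eq_zero _).mp this
    have h3 := Ideal.smul_restrictScalars I (⊤ : Submodule O (LinearMap.ker φ))
    rw [Submodule.restrictScalars_top] at h3
    rw [← h3] at hz2
    have hz3 : (⟨v, hv⟩ : LinearMap.ker φ) ∈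
        I.map (algebraMap R O) • (⊤ : Submodule O (LinearMap.ker φ)) := hz2
    have h4 : (LinearMap.ker φ).subtype ⟨v, hv⟩ ∈ Submodule.map (LinearMap.ker φ).subtype
        (I.map (algebraMap R O) • (⊤ : Submodule O (LinearMap.ker φ))) :=
      Submodule.mem_map_of_mem hz3
    rw [Submodule.map_smul'', Submodule.map_top, Submodule.range_subtype] at h4
    exact h4
  have hbij : Function.Bijective φ := ⟨LinearMap.ker_eq_bot.mp hinj, hsurj⟩
  exact Module.Free.of_equiv (LinearEquiv.ofBijective φ hbij)

end Groth.Agent.Lib.FreeLiftH6
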