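import Groth.Agent.Lib.PB8_helper8
import Groth.Agent.Lib.StalkLoc_helper8
import Groth.Agent.Lib.GenFlatSch_helper8
set_option autoImplicit false
open CategoryTheory AlgebraicGeometry Opposite TopologicalSpace
open AlgebraicGeometry.Scheme.Modules
universe u
namespace PBH8

section
variable {X Y : Scheme.{u}} (f : X ⟶ Y) (F : Y.Modules)

/-- The canonical map on stalks `F_{f x} → (f^* F)_x`. -/
noncomputable def cStalkHom (x : X) :
    F.presheaf.stalk (f x) ⟶ ((Scheme.Modules.pullback f).obj F).presheaf.stalk x :=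
  (TopCat.Presheaf.stalkFunctor Ab (f x)).map
      (((pullbackPushforwardAdjunction f).unit.app F).mapPresheaf) ≫
    TopCat.Presheaf.stalkPushforward Ab f.base
      ((Scheme.Modules.pullback f).obj F).presheaf x

lemma cStalkHom_germ (x : X) (V : Y.Opens) (hx : f x ∈ V) (m : Γ(F, V)) :
    cStalkHom f F x (F.presheaf.germ V (f x) hx m) =
      ((Scheme.Modules.pullback f).obj F).presheaf.germ (f ⁻¹ᵁ V) x hx
        (((pullbackPushforwardAdjunction f).unit.app F).app V m) := by
  unfold cStalkHom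
  have h1 := TopCat.Presheaf.stalkFunctor_map_germ_apply V (f x) hx
    (((pullbackPushforwardAdjunction f).unit.app F).mapPresheaf) m
  rw [ConcreteCategory.comp_apply]
  erw [h1]
  exact TopCat.Presheaf.stalkPushforward_germ_apply Ab f.base
    ((Scheme.Modules.pullback f).obj F).presheaf V x hx _

end
end PBH8

namespace PBH8
section
variable {X Y : Scheme.{u}} (f : X ⟶ Y) (F : Y.Modules)

lemma cStalkHom_germ_cUV {U : X.Opens} {V : Y.Opens} (h : U ≤ f ⁻¹ᵁ V) {x : X} (hxU : x ∈ U)
    (m : Γ(F, V)) :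
    cStalkHom f F x (F.presheaf.germ V (f x) (h hxU) m) =
      ((Scheme.Modules.pullback f).obj F).presheaf.germ U x hxU (cUV f F h m) := by
  rw [cStalkHom_germ]
  unfold cUV
  exact (TopCat.Presheaf.germ_res_apply ((Scheme.Modules.pullback f).obj F).presheaf
    (homOfLE h) x hxU _).symm

/-- semilinearity of the stalk map -/
lemma cStalkHom_smul (x : X) (r : Y.presheaf.stalk (f x)) (m : F.presheaf.stalk (f x)) :
    cStalkHom f F x (r • m) = (f.stalkMap x).hom r • cStalkHom f F x m := by
  obtain ⟨V₁, hxV₁, r₁, rfl⟩ := TopCat.Presheaf.exists_germ_eq (F := Y.presheaf) r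
  obtain ⟨V₂, hxV₂, m₂, rfl⟩ := TopCat.Presheaf.exists_germ_eq (F := F.presheaf) m
  set W : Y.Opens := V₁ ⊓ V₂ with hW
  have hxW : f x ∈ W := ⟨hxV₁, hxV₂⟩
  have e1 : Y.presheaf.germ V₁ (f x) hxV₁ r₁ =
      Y.presheaf.germ W (f x) hxW (Y.presheaf.map (homOfLE inf_le_left).op r₁) :=
    (TopCat.Presheaf.germ_res_apply Y.presheaf (homOfLE (inf_le_left : W ≤ V₁)) (f x) hxW r₁).symm
  have e2 : F.presheaf.germ V₂ (f x) hxV₂ m₂ =
      F.presheaf.germ W (f x) hxW (F.presheaf.map (homOfLE inf_le_right).op m₂) :=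
    (TopCat.Presheaf.germ_res_apply F.presheaf (homOfLE (inf_le_right : W ≤ V₂)) (f x) hxW m₂).symm
  rw [e1, e2]
  set a := Y.presheaf.map (homOfLE (inf_le_left : W ≤ V₁)).op r₁ with ha
  set n := F.presheaf.map (homOfLE (inf_le_right : W ≤ V₂)).op m₂ with hn
  rw [← Groth.Agent.Lib.QCohLoc_helper4.germ_smul F W (f x) hxW a n, cStalkHom_germ, cStalkHom_germ,
    Scheme.Modules.Hom.app_smul]
  have h1 := Groth.Agent.Lib.QCohLoc_helper4.germ_smul ((Scheme.Modules.pullback f).obj F)
    (f ⁻¹ᵁ W) x hxW (f.app W a) (((pullbackPushforwardAdjunction f).unit.app F).app W n)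
  refine h1.trans ?_
  congr 1
  exact (Scheme.Hom.germ_stalkMap_apply f W x hxW a).symm

end
end PBH8

namespace PBH8
section
variable {X Y : Scheme.{u}} (f : X ⟶ Y) (F : Y.Modules)

/-- The canonical stalk map as a linear map over `O_{Y, f x}`. -/
noncomputable def cStalkLin (x : X) :
    letI : Module (Y.presheaf.stalk (f x))
        (((Scheme.Modules.pullback f).obj F).presheaf.stalk x) :=
      Module.compHom _ (f.stalkMap x).hom
    F.presheaf.stalk (f x) →ₗ[Y.presheaf.stalk (f x)]
      ((Scheme.Modules.pullback f).obj F).presheaf.stalk x :=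
  letI : Module (Y.presheaf.stalk (f x))
      (((Scheme.Modules.pullback f).obj F).presheaf.stalk x) :=
    Module.compHom _ (f.stalkMap x).hom
  { toFun := cStalkHom f F x
    map_add' := fun a b => map_add _ a b
    map_smul' := fun r m => cStalkHom_smul f F x r m }

lemma cStalkLin_apply (x : X) (m : F.presheaf.stalk (f x)) :
    cStalkLin f F x m = cStalkHom f F x m := rfl

variable [F.IsQuasicoherent]

/-- **Stalks of the pullback of a quasi-coherent module**:
`(f^* F)_x = O_{X,x} ⊗_{O_{Y,f x}} F_{f x}`. -/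
theorem isBaseChange_cStalk (x : X) :
    letI := (f.stalkMap x).hom.toAlgebra
    letI : Module (Y.presheaf.stalk (f x))
        (((Scheme.Modules.pullback f).obj F).presheaf.stalk x) :=
      Module.compHom _ (f.stalkMap x).hom
    haveI : IsScalarTower (Y.presheaf.stalk (f x)) (X.presheaf.stalk x)
        (((Scheme.Modules.pullback f).obj F).presheaf.stalk x) :=
      IsScalarTower.of_algebraMap_smul fun _ _ => rfl
    IsBaseChange (X.presheaf.stalk x) (cStalkLin f F x) := by
  obtain ⟨V, U, hV, hU, hxU, h⟩ := exists_affine_pair' f x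
  have hyV : f x ∈ V := h hxU
  -- algebras
  letI algApBq : Algebra (Y.presheaf.stalk (f x)) (X.presheaf.stalk x) :=
    (f.stalkMap x).hom.toAlgebra
  letI algAB : Algebra Γ(Y, V) Γ(X, U) := (f.appLE V U h).hom.toAlgebra
  letI algAAp : Algebra Γ(Y, V) (Y.presheaf.stalk (f x)) :=
    TopCat.Presheaf.algebra_section_stalk Y.presheaf (⟨f x, hyV⟩ : V)
  letI algBBq : Algebra Γ(X, U) (X.presheaf.stalk x) :=
    TopCat.Presheaf.algebra_section_stalk X.presheaf (⟨x, hxU⟩ : U)
  letI algABq : Algebra Γ(Y, V) (X.presheaf.stalk x) :=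
    ((X.presheaf.germ U x hxU).hom.comp (f.appLE V U h).hom).toAlgebra
  haveI : IsScalarTower Γ(Y, V) Γ(X, U) (X.presheaf.stalk x) :=
    IsScalarTower.of_algebraMap_eq' rfl
  haveI : IsScalarTower Γ(Y, V) (Y.presheaf.stalk (f x)) (X.presheaf.stalk x) := by
    refine IsScalarTower.of_algebraMap_eq fun r => ?_
    exact (GenFlatSchH8.stalkMap_germ_appLE f h hxU r).symm
  haveI : IsLocalization.AtPrime (Y.presheaf.stalk (f x))
      (hV.primeIdealOf ⟨f x, hyV⟩).asIdeal := hV.isLocalization_stalk ⟨f x, hyV⟩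
  haveI : IsLocalization.AtPrime (X.presheaf.stalk x)
      (hU.primeIdealOf ⟨x, hxU⟩).asIdeal := hU.isLocalization_stalk ⟨x, hxU⟩
  -- modules
  letI mAMp : Module Γ(Y, V) (F.presheaf.stalk (f x)) := StalkLocH8.modSec F hyV
  haveI : IsScalarTower Γ(Y, V) (Y.presheaf.stalk (f x)) (F.presheaf.stalk (f x)) :=
    IsScalarTower.of_algebraMap_smul fun _ _ => rfl
  letI mAP : Module Γ(Y, V) Γ((Scheme.Modules.pullback f).obj F, U) :=
    Module.compHom _ (f.appLE V U h).hom
  haveI : IsScalarTower Γ(Y, V) Γ(X, U) Γ((Scheme.Modules.pullback f).obj F, U) :=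
    IsScalarTower.of_algebraMap_smul fun _ _ => rfl
  letI mBPq : Module Γ(X, U) (((Scheme.Modules.pullback f).obj F).presheaf.stalk x) :=
    StalkLocH8.modSec ((Scheme.Modules.pullback f).obj F) hxU
  haveI : IsScalarTower Γ(X, U) (X.presheaf.stalk x)
      (((Scheme.Modules.pullback f).obj F).presheaf.stalk x) :=
    IsScalarTower.of_algebraMap_smul fun _ _ => rfl
  letI mApPq : Module (Y.presheaf.stalk (f x))
      (((Scheme.Modules.pullback f).obj F).presheaf.stalk x) :=
    Module.compHom _ (f.stalkMap x).hom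
  haveI : IsScalarTower (Y.presheaf.stalk (f x)) (X.presheaf.stalk x)
      (((Scheme.Modules.pullback f).obj F).presheaf.stalk x) :=
    IsScalarTower.of_algebraMap_smul fun _ _ => rfl
  letI mAPq : Module Γ(Y, V) (((Scheme.Modules.pullback f).obj F).presheaf.stalk x) :=
    Module.compHom _ ((X.presheaf.germ U x hxU).hom.comp (f.appLE V U h).hom)
  haveI : IsScalarTower Γ(Y, V) (X.presheaf.stalk x)
      (((Scheme.Modules.pullback f).obj F).presheaf.stalk x) :=
    IsScalarTower.of_algebraMap_smul fun _ _ => rfl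
  haveI : IsScalarTower Γ(Y, V) Γ(X, U)
      (((Scheme.Modules.pullback f).obj F).presheaf.stalk x) :=
    IsScalarTower.of_algebraMap_smul fun _ _ => rfl
  haveI : IsScalarTower Γ(Y, V) (Y.presheaf.stalk (f x))
      (((Scheme.Modules.pullback f).obj F).presheaf.stalk x) := by
    refine IsScalarTower.of_algebraMap_smul fun r z => ?_
    change (f.stalkMap x).hom ((Y.presheaf.germ V (f x) hyV).hom r) • z =
      ((X.presheaf.germ U x hxU).hom ((f.appLE V U h).hom r)) • z
    rw [GenFlatSchH8.stalkMap_germ_appLE f h hxU r]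
  -- the three base changes
  haveI := StalkLocH8.isLocalizedModule_germLin F hV hyV
  have hM : IsBaseChange (Y.presheaf.stalk (f x)) (StalkLocH8.germLin F hyV) :=
    IsLocalizedModule.isBaseChange (hV.primeIdealOf ⟨f x, hyV⟩).asIdeal.primeCompl _ _
  haveI := StalkLocH8.isLocalizedModule_germLin ((Scheme.Modules.pullback f).obj F) hU hxU
  have hP : IsBaseChange (X.presheaf.stalk x)
      (StalkLocH8.germLin ((Scheme.Modules.pullback f).obj F) hxU) :=
    IsLocalizedModule.isBaseChange (hU.primeIdealOf ⟨x, hxU⟩).asIdeal.primeCompl _ _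
  have hc := isBaseChange_cUV f F h hU hV
  have hcomp := hc.comp hP
  refine IsBaseChange.of_comp hM ?_
  convert hcomp using 1
  ext m
  exact cStalkHom_germ_cUV f F h hxU m

end
end PBH8
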