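import Mathlib
import Groth.Prelude
import Groth.Agent.Lib.FreeLift_helper6
import Groth.Agent.Lib.FibKer_helper6
import Groth.Agent.Lib.FibMapFlat_helper5
import Groth.Agent.Lib.PB10_helper8
import Groth.Agent.Lib.IsoCrit_helper5
import Groth.Agent.Lib.QCohFP2_helper9
import Groth.Agent.Lib.Fpqc1_helper8

/-!
# The free locus of a finitely presented module flat over the base commutes with base change
-/

namespace Groth.Agent.Lib.FreeLocBCH6

open AlgebraicGeometry CategoryTheory Limits IsLocalRing TensorProduct

universe u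

section General

variable {P Q : Scheme.{u}} (p : P ⟶ Q) (F : Q.Modules) [F.IsQuasicoherent] (y : P)

/-- Freeness of stalks ascends along pullback. -/
theorem free_stalk_pullback
    (h : Module.Free (Q.presheaf.stalk (p y)) (F.presheaf.stalk (p y))) :
    Module.Free (P.presheaf.stalk y) (((Scheme.Modules.pullback p).obj F).presheaf.stalk y) := by
  letI := (p.stalkMap y).hom.toAlgebra
  letI : Module (Q.presheaf.stalk (p y))
      (((Scheme.Modules.pullback p).obj F).presheaf.stalk y) :=
    Module.compHom _ (p.stalkMap y).hom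
  haveI : IsScalarTower (Q.presheaf.stalk (p y)) (P.presheaf.stalk y)
      (((Scheme.Modules.pullback p).obj F).presheaf.stalk y) :=
    IsScalarTower.of_algebraMap_smul fun _ _ => rfl
  have hbc : IsBaseChange (P.presheaf.stalk y) (PBH8.cStalkLin p F y) :=
    PBH8.isBaseChange_cStalk p F y
  exact Module.Free.of_equiv hbc.equiv

/-- Flatness of stalks descends along pullback by a morphism flat at the point. -/
theorem flat_stalk_of_flat_pullback (hp : (p.stalkMap y).hom.Flat)
    (h : Module.Flat (P.presheaf.stalk y)
      (((Scheme.Modules.pullback p).obj F).presheaf.stalk y)) :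
    Module.Flat (Q.presheaf.stalk (p y)) (F.presheaf.stalk (p y)) := by
  letI := (p.stalkMap y).hom.toAlgebra
  letI : Module (Q.presheaf.stalk (p y))
      (((Scheme.Modules.pullback p).obj F).presheaf.stalk y) :=
    Module.compHom _ (p.stalkMap y).hom
  haveI : IsScalarTower (Q.presheaf.stalk (p y)) (P.presheaf.stalk y)
      (((Scheme.Modules.pullback p).obj F).presheaf.stalk y) :=
    IsScalarTower.of_algebraMap_smul fun _ _ => rfl
  have hbc : IsBaseChange (P.presheaf.stalk y) (PBH8.cStalkLin p F y) :=
    PBH8.isBaseChange_cStalk p F y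
  haveI : Module.Flat (Q.presheaf.stalk (p y)) (P.presheaf.stalk y) := hp
  haveI : IsLocalHom (algebraMap (Q.presheaf.stalk (p y)) (P.presheaf.stalk y)) :=
    inferInstanceAs (IsLocalHom (p.stalkMap y).hom)
  haveI : Module.FaithfullyFlat (Q.presheaf.stalk (p y)) (P.presheaf.stalk y) :=
    Module.FaithfullyFlat.of_flat_of_isLocalHom
  haveI : Module.Flat (P.presheaf.stalk y)
      (P.presheaf.stalk y ⊗[Q.presheaf.stalk (p y)] F.presheaf.stalk (p y)) :=
    Module.Flat.of_linearEquiv hbc.equiv
  exact Module.Flat.of_flat_tensorProduct _ _ (P.presheaf.stalk y)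

end General

section Iso

variable {X : Scheme.{u}} {M M' : X.Modules}

/-- Freeness of a stalk is invariant under isomorphism of modules. -/
theorem free_stalk_of_iso (α : M ≅ M') (x : X)
    (h : Module.Free (X.presheaf.stalk x) (M.presheaf.stalk x)) :
    Module.Free (X.presheaf.stalk x) (M'.presheaf.stalk x) := by
  have hbij : Function.Bijective (Groth.Agent.IsoCrit.stalkLin α.hom x) := by
    haveI : IsIso ((TopCat.Presheaf.stalkFunctor AddCommGrpCat.{u} x).map
        ((Scheme.Modules.toPresheaf X).map α.hom)) := inferInstance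
    exact ConcreteCategory.bijective_of_isIso
      ((TopCat.Presheaf.stalkFunctor AddCommGrpCat.{u} x).map
        ((Scheme.Modules.toPresheaf X).map α.hom))
  exact Module.Free.of_equiv (LinearEquiv.ofBijective (Groth.Agent.IsoCrit.stalkLin α.hom x) hbij)

end Iso

section Stalk

variable {X : Scheme.{u}} (F : X.Modules) [F.IsQuasicoherent]

/-- The stalk of a finitely presented module is finitely presented. -/
theorem finitePresentation_stalk (hF : CohB1.IsFP F) (x : X) :
    Module.FinitePresentation (X.presheaf.stalk x) (F.presheaf.stalk x) := by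
  obtain ⟨U, hU, hxU, -⟩ := TopologicalSpace.Opens.isBasis_iff_nbhd.mp X.isBasis_affineOpens
    (show x ∈ (⊤ : X.Opens) from trivial)
  haveI : SheafOfModules.IsFinitePresentation (R := X.ringCatSheaf) F := hF
  haveI : Module.FinitePresentation Γ(X, U) Γ(F, U) :=
    QCohFP2.finitePresentation_of_isFinitePresentation F hU
  letI := TopCat.Presheaf.algebra_section_stalk X.presheaf (⟨x, hxU⟩ : U)
  haveI : IsLocalization.AtPrime (X.presheaf.stalk x) (hU.primeIdealOf ⟨x, hxU⟩).asIdeal :=
    hU.isLocalization_stalk ⟨x, hxU⟩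
  letI := StalkLocH8.modSec F hxU
  haveI : IsScalarTower Γ(X, U) (X.presheaf.stalk x) (F.presheaf.stalk x) :=
    IsScalarTower.of_algebraMap_smul fun _ _ => rfl
  haveI := StalkLocH8.isLocalizedModule_germLin F hU hxU
  have hbc : IsBaseChange (X.presheaf.stalk x) (StalkLocH8.germLin F hxU) :=
    IsLocalizedModule.isBaseChange (hU.primeIdealOf ⟨x, hxU⟩).asIdeal.primeCompl
      (X.presheaf.stalk x) (StalkLocH8.germLin F hxU)
  exact FinitePresentation.of_isBaseChange _ hbc

end Stalk

section Fibre

variable {X S : Scheme.{u}} (f : X ⟶ S) (F : X.Modules) [F.IsQuasicoherent]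

/-- If the restriction of `F` to a fibre is free at a point, `F` is finitely presented and flat
over the base at the image point, then `F` is free at the image point. -/
theorem free_stalk_of_free_fiber (hF : CohB1.IsFP F) (s : S) (z : f.fiber s)
    (hfl : FlatMod.IsFlatOverAt f F ((f.fiberι s) z))
    (h : Module.Free ((f.fiber s).presheaf.stalk z)
      (((Scheme.Modules.pullback (f.fiberι s)).obj F).presheaf.stalk z)) :
    Module.Free (X.presheaf.stalk ((f.fiberι s) z)) (F.presheaf.stalk ((f.fiberι s) z)) := by
  letI algOO : Algebra (X.presheaf.stalk ((f.fiberι s) z)) ((f.fiber s).presheaf.stalk z) :=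
    ((f.fiberι s).stalkMap z).hom.toAlgebra
  letI : Module (X.presheaf.stalk ((f.fiberι s) z))
      (((Scheme.Modules.pullback (f.fiberι s)).obj F).presheaf.stalk z) :=
    Module.compHom _ ((f.fiberι s).stalkMap z).hom
  haveI : IsScalarTower (X.presheaf.stalk ((f.fiberι s) z)) ((f.fiber s).presheaf.stalk z)
      (((Scheme.Modules.pullback (f.fiberι s)).obj F).presheaf.stalk z) :=
    IsScalarTower.of_algebraMap_smul fun _ _ => rfl
  have hbc : IsBaseChange ((f.fiber s).presheaf.stalk z) (PBH8.cStalkLin (f.fiberι s) F z) :=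
    PBH8.isBaseChange_cStalk (f.fiberι s) F z
  haveI : Module.Free ((f.fiber s).presheaf.stalk z)
      ((f.fiber s).presheaf.stalk z ⊗[X.presheaf.stalk ((f.fiberι s) z)]
        F.presheaf.stalk ((f.fiberι s) z)) :=
    Module.Free.of_equiv hbc.equiv.symm
  letI algRO : Algebra (S.presheaf.stalk (f ((f.fiberι s) z)))
      (X.presheaf.stalk ((f.fiberι s) z)) := (f.stalkMap ((f.fiberι s) z)).hom.toAlgebra
  letI modRN : Module (S.presheaf.stalk (f ((f.fiberι s) z)))
      (F.presheaf.stalk ((f.fiberι s) z)) := FlatMod.moduleStalkOver f F ((f.fiberι s) z)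
  haveI : IsScalarTower (S.presheaf.stalk (f ((f.fiberι s) z)))
      (X.presheaf.stalk ((f.fiberι s) z)) (F.presheaf.stalk ((f.fiberι s) z)) :=
    IsScalarTower.of_algebraMap_smul fun _ _ => rfl
  haveI : Module.Flat (S.presheaf.stalk (f ((f.fiberι s) z)))
      (F.presheaf.stalk ((f.fiberι s) z)) := hfl
  haveI : Module.FinitePresentation (X.presheaf.stalk ((f.fiberι s) z))
      (F.presheaf.stalk ((f.fiberι s) z)) := finitePresentation_stalk F hF _
  have hπ : Function.Surjective (algebraMap (X.presheaf.stalk ((f.fiberι s) z))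
      ((f.fiber s).presheaf.stalk z)) := (f.fiberι s).stalkMap_surjective z
  have hI : Ideal.map (algebraMap (S.presheaf.stalk (f ((f.fiberι s) z)))
        (X.presheaf.stalk ((f.fiberι s) z)))
      (maximalIdeal (S.presheaf.stalk (f ((f.fiberι s) z)))) ≤
      maximalIdeal (X.presheaf.stalk ((f.fiberι s) z)) :=
    ((IsLocalRing.local_hom_TFAE (f.stalkMap ((f.fiberι s) z)).hom).out 0 2).mp
      (inferInstance : IsLocalHom (f.stalkMap ((f.fiberι s) z)).hom)
  have hker : RingHom.ker (algebraMap (X.presheaf.stalk ((f.fiberι s) z))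
      ((f.fiber s).presheaf.stalk z)) ≤
      Ideal.map (algebraMap (S.presheaf.stalk (f ((f.fiberι s) z)))
        (X.presheaf.stalk ((f.fiberι s) z)))
      (maximalIdeal (S.presheaf.stalk (f ((f.fiberι s) z)))) :=
    FibKerH6.ker_stalkMap_fiberι_le f s z
  exact FreeLiftH6.free_of_free_quotient hπ
    (maximalIdeal (S.presheaf.stalk (f ((f.fiberι s) z)))) hI hker

end Fibre

section Main

open Groth.Agent.FibMapFlat

variable {X S X' S' : Scheme.{u}} {f : X ⟶ S} {g : S' ⟶ S} {f' : X' ⟶ S'} {g' : X' ⟶ X}

/-- **Descent of freeness of stalks along base change** for a finitely presented module flat over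
the base. -/
theorem free_of_free_pullback (hc : IsPullback g' f' f g) (F : X.Modules) [F.IsQuasicoherent]
    (hF : CohB1.IsFP F) (hfl : FlatMod.IsFlatOver f F) (x' : X')
    (h : Module.Free (X'.presheaf.stalk x')
      (((Scheme.Modules.pullback g').obj F).presheaf.stalk x')) :
    Module.Free (X.presheaf.stalk (g' x')) (F.presheaf.stalk (g' x')) := by
  have hx' : (f'.fiberι (f' x')) (f'.asFiber x') = x' := f'.fiberι_asFiber x'
  -- step 1: restrict to the fibre of `f'`
  have h1 : Module.Free (X'.presheaf.stalk ((f'.fiberι (f' x')) (f'.asFiber x')))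
      (((Scheme.Modules.pullback g').obj F).presheaf.stalk
        ((f'.fiberι (f' x')) (f'.asFiber x'))) := by
    rw [hx']
    exact h
  have h2 := free_stalk_pullback (f'.fiberι (f' x')) ((Scheme.Modules.pullback g').obj F)
    (f'.asFiber x') h1
  -- step 2: rewrite the module on the fibre
  have hcomm : fibMap hc (f' x') ≫ f.fiberι (g (f' x')) = f'.fiberι (f' x') ≫ g' :=
    fibMap_fiberι hc (f' x')
  let α : (Scheme.Modules.pullback (f'.fiberι (f' x'))).obj ((Scheme.Modules.pullback g').obj F) ≅
      (Scheme.Modules.pullback (fibMap hc (f' x'))).obj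
        ((Scheme.Modules.pullback (f.fiberι (g (f' x')))).obj F) :=
    (Scheme.Modules.pullbackComp (f'.fiberι (f' x')) g').app F ≪≫
      (Scheme.Modules.pullbackCongr hcomm.symm).app F ≪≫
      ((Scheme.Modules.pullbackComp (fibMap hc (f' x')) (f.fiberι (g (f' x')))).app F).symm
  have h3 := free_stalk_of_iso α (f'.asFiber x') h2
  -- step 3: descend flatness along the flat map of fibres
  haveI : Flat (fibMap hc (f' x')) := flat_fibMap hc (f' x')
  have hflat : Module.Flat ((f'.fiber (f' x')).presheaf.stalk (f'.asFiber x'))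
      (((Scheme.Modules.pullback (fibMap hc (f' x'))).obj
        ((Scheme.Modules.pullback (f.fiberι (g (f' x')))).obj F)).presheaf.stalk
          (f'.asFiber x')) := by
    haveI := h3
    infer_instance
  have h4 := flat_stalk_of_flat_pullback (fibMap hc (f' x'))
    ((Scheme.Modules.pullback (f.fiberι (g (f' x')))).obj F) (f'.asFiber x')
    (Flat.stalkMap (fibMap hc (f' x')) (f'.asFiber x')) hflat
  -- step 4: the stalk on the fibre is finite and flat over a local ring, hence free
  haveI : Module.FinitePresentation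
      ((f.fiber (g (f' x'))).presheaf.stalk (fibMap hc (f' x') (f'.asFiber x')))
      (((Scheme.Modules.pullback (f.fiberι (g (f' x')))).obj F).presheaf.stalk
        (fibMap hc (f' x') (f'.asFiber x'))) := by
    haveI : SheafOfModules.IsFinitePresentation (R := X.ringCatSheaf) F := hF
    exact finitePresentation_stalk _ (FpqcH8.isFP_pullback (f.fiberι (g (f' x'))) F) _
  haveI := h4
  have h5 : Module.Free
      ((f.fiber (g (f' x'))).presheaf.stalk (fibMap hc (f' x') (f'.asFiber x')))
      (((Scheme.Modules.pullback (f.fiberι (g (f' x')))).obj F).presheaf.stalk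
        (fibMap hc (f' x') (f'.asFiber x'))) :=
    Module.free_of_flat_of_isLocalRing
  -- step 5: lift to `X`
  have h6 := free_stalk_of_free_fiber f F hF (g (f' x')) (fibMap hc (f' x') (f'.asFiber x'))
    (hfl _) h5
  have hpt : (f.fiberι (g (f' x'))) (fibMap hc (f' x') (f'.asFiber x')) = g' x' := by
    rw [fiberι_fibMap_apply, hx']
  rw [hpt] at h6
  exact h6

end Main

end Groth.Agent.Lib.FreeLocBCH6
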