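import Mathlib
import Groth.Prelude
import Groth.Agent.Lib.CycLen1_helper8
import Groth.Agent.Lib.FreeLocBC_helper6
import Groth.Agent.Lib.FlatSec_helper8
import Groth.Agent.Lib.FlatFibre_helper9
import Groth.Agent.Lib.FlatDescC_helper6

/-!
# Fibre criterion, part F: scheme-to-ring translation

* `isEssFinitePresentation_of_localizations`, `isEssFinitePresentation_stalkMap`: the stalk map of a
  morphism locally of finite presentation is essentially of finite presentation.
* `exact_stalk_cokernel`: right exactness of stalks for the cokernel of a map of `O_X`-modules.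
* `fibre_of_injective_of_flat_coker`: the converse (easy) direction of the fibre criterion.
-/

set_option autoImplicit false
open TensorProduct CategoryTheory AlgebraicGeometry Limits TopologicalSpace

namespace Groth.Agent.Lib.FibInjH6

universe u

section Alg

theorem isEssFinitePresentation_of_localizations {B C R S : Type u} [CommRing B] [CommRing C]
    [CommRing R] [CommRing S] [Algebra B C] [Algebra.FinitePresentation B C] [Algebra B R]
    [Algebra C S] [Algebra R S] [Algebra B S] [IsScalarTower B C S] [IsScalarTower B R S]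
    (p : Ideal B) [p.IsPrime] (q : Ideal C) [q.IsPrime] [IsLocalization.AtPrime R p]
    [IsLocalization.AtPrime S q]
    (hpq : p.primeCompl.map (algebraMap B C) ≤ q.primeCompl) :
    CAlgX.IsEssFinitePresentation R S := by
  let M₁ : Submonoid C := p.primeCompl.map (algebraMap B C)
  have hfp : (algebraMap B C).FinitePresentation :=
    RingHom.finitePresentation_algebraMap.mpr inferInstance
  have hfp' := RingHom.finitePresentation_localizationPreserves (algebraMap B C) p.primeCompl R
    (Localization M₁) hfp
  letI algRS' : Algebra R (Localization M₁) :=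
    (IsLocalization.map (Localization M₁) (algebraMap B C)
      (Submonoid.le_comap_map p.primeCompl) : R →+* Localization M₁).toAlgebra
  haveI fpRS' : Algebra.FinitePresentation R (Localization M₁) := hfp'
  have hunits : ∀ y : M₁, IsUnit (algebraMap C S y) := fun y =>
    IsLocalization.map_units S (⟨y.1, hpq y.2⟩ : q.primeCompl)
  letI algS'S : Algebra (Localization M₁) S := (IsLocalization.lift (M := M₁) hunits).toAlgebra
  haveI tow1 : IsScalarTower C (Localization M₁) S :=
    IsScalarTower.of_algebraMap_eq' (IsLocalization.lift_comp hunits).symm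
  haveI tow2 : IsScalarTower R (Localization M₁) S := by
    refine IsScalarTower.of_algebraMap_eq' ?_
    refine IsLocalization.ringHom_ext p.primeCompl ?_
    ext b
    show algebraMap R S (algebraMap B R b) =
      IsLocalization.lift (M := M₁) hunits
        (IsLocalization.map (Localization M₁) (algebraMap B C)
          (Submonoid.le_comap_map p.primeCompl) (algebraMap B R b))
    rw [IsLocalization.map_eq, IsLocalization.lift_eq, ← IsScalarTower.algebraMap_apply,
      ← IsScalarTower.algebraMap_apply]
  haveI := IsLocalization.isLocalization_of_submonoid_le (Localization M₁) S M₁ q.primeCompl hpq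
  exact ⟨Localization M₁, inferInstance, algRS', algS'S, tow2,
    Submonoid.map (algebraMap C (Localization M₁)) q.primeCompl, fpRS', inferInstance⟩

/-- The easy direction of the fibre criterion. -/
theorem fibre_of_injective_of_flat_coker {R S M N : Type u} [CommRing R] [CommRing S]
    [Algebra R S] [AddCommGroup M] [Module S M] [Module R M] [IsScalarTower R S M]
    [AddCommGroup N] [Module S N] [Module R N] [IsScalarTower R S N] (u : M →ₗ[S] N)
    (hinj : Function.Injective u) (hfl : Module.Flat R (N ⧸ LinearMap.range u)) (I : Ideal R)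
    (m : M) (hm : u m ∈ I.map (algebraMap R S) • (⊤ : Submodule S N)) :
    m ∈ I.map (algebraMap R S) • (⊤ : Submodule S M) := by
  have hex : Function.Exact (u.restrictScalars R) ((LinearMap.range u).mkQ.restrictScalars R) :=
    fun y => LinearMap.exact_map_mkQ_range u y
  have hsurj : Function.Surjective ((LinearMap.range u).mkQ.restrictScalars R) := by
    intro y
    obtain ⟨a, rfl⟩ := Submodule.mkQ_surjective (LinearMap.range u) y
    exact ⟨a, rfl⟩
  have hinj' : Function.Injective (u.restrictScalars R) := hinj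
  have hinjT : Function.Injective ((u.restrictScalars R).lTensor (R ⧸ I)) :=
    LinearMap.lTensor_injective_of_exact_of_flat
      ((LinearMap.range u).mkQ.restrictScalars R) hsurj (u.restrictScalars R) hinj' hex (R ⧸ I)
  rw [Groth.Agent.Lib.FlatFibre.lTensor_quot_injective_iff] at hinjT
  have := hinjT m ((Groth.Agent.Lib.FlatDescCH6.mem_smul_top_iff_map I (B := S) (u m)).mpr hm)
  exact (Groth.Agent.Lib.FlatDescCH6.mem_smul_top_iff_map I (B := S) m).mp this

end Alg

section Geom

variable {X Y : Scheme.{u}}

theorem mem_primeIdealOf_iff {U : X.Opens} (hU : IsAffineOpen U) {x : X} (hx : x ∈ U)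
    (g : Γ(X, U)) : g ∈ (hU.primeIdealOf ⟨x, hx⟩).asIdeal ↔
      (X.presheaf.germ U x hx).hom g ∈ IsLocalRing.maximalIdeal (X.presheaf.stalk x) := by
  rw [hU.primeIdealOf_eq_map_closedPoint]
  exact Iff.rfl

/-- The stalk map of a morphism locally of finite presentation is essentially of finite
presentation. -/
theorem isEssFinitePresentation_stalkMap (f : X ⟶ Y) [LocallyOfFinitePresentation f] (x : X) :
    letI : Algebra (Y.presheaf.stalk (f x)) (X.presheaf.stalk x) := (f.stalkMap x).hom.toAlgebra
    CAlgX.IsEssFinitePresentation (Y.presheaf.stalk (f x)) (X.presheaf.stalk x) := by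
  obtain ⟨V, hV, hyV, -⟩ := Opens.isBasis_iff_nbhd.mp Y.isBasis_affineOpens
    (show f.base x ∈ (⊤ : Y.Opens) from trivial)
  obtain ⟨U, hU, hxU, e'⟩ := Opens.isBasis_iff_nbhd.mp X.isBasis_affineOpens
    (show x ∈ f ⁻¹ᵁ V from hyV)
  letI algBC : Algebra Γ(Y, V) Γ(X, U) := (f.appLE V U e').hom.toAlgebra
  haveI : Algebra.FinitePresentation Γ(Y, V) Γ(X, U) :=
    HasRingHomProperty.appLE (P := @LocallyOfFinitePresentation) f inferInstance ⟨V, hV⟩ ⟨U, hU⟩ e'
  letI algBR : Algebra Γ(Y, V) (Y.presheaf.stalk (f x)) :=
    TopCat.Presheaf.algebra_section_stalk Y.presheaf (⟨f.base x, hyV⟩ : V)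
  letI algCS : Algebra Γ(X, U) (X.presheaf.stalk x) :=
    TopCat.Presheaf.algebra_section_stalk X.presheaf (⟨x, hxU⟩ : U)
  letI algRS : Algebra (Y.presheaf.stalk (f x)) (X.presheaf.stalk x) :=
    (f.stalkMap x).hom.toAlgebra
  letI algBS : Algebra Γ(Y, V) (X.presheaf.stalk x) :=
    ((X.presheaf.germ U x hxU).hom.comp (f.appLE V U e').hom).toAlgebra
  haveI : IsScalarTower Γ(Y, V) Γ(X, U) (X.presheaf.stalk x) :=
    IsScalarTower.of_algebraMap_eq fun r => rfl
  haveI : IsScalarTower Γ(Y, V) (Y.presheaf.stalk (f x)) (X.presheaf.stalk x) :=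
    IsScalarTower.of_algebraMap_eq fun r => (GenFlatSchH8.stalkMap_germ_appLE f e' hxU r).symm
  haveI : IsLocalization.AtPrime (Y.presheaf.stalk (f x))
      (hV.primeIdealOf ⟨f.base x, hyV⟩).asIdeal := hV.isLocalization_stalk ⟨f.base x, hyV⟩
  haveI : IsLocalization.AtPrime (X.presheaf.stalk x) (hU.primeIdealOf ⟨x, hxU⟩).asIdeal :=
    hU.isLocalization_stalk ⟨x, hxU⟩
  refine isEssFinitePresentation_of_localizations (B := Γ(Y, V)) (C := Γ(X, U))
    (hV.primeIdealOf ⟨f.base x, hyV⟩).asIdeal (hU.primeIdealOf ⟨x, hxU⟩).asIdeal ?_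
  rintro _ ⟨b, hb, rfl⟩ hmem
  apply hb
  rw [SetLike.mem_coe, mem_primeIdealOf_iff hV hyV]
  have h1 := (mem_primeIdealOf_iff hU hxU _).mp hmem
  rw [IsLocalRing.mem_maximalIdeal] at h1 ⊢
  intro hunit
  apply h1
  have h2 := hunit.map (f.stalkMap x).hom
  rw [GenFlatSchH8.stalkMap_germ_appLE f e' hxU b] at h2
  exact h2

/-- Right exactness of stalks. -/
theorem exact_stalk_cokernel {F F' : X.Modules} (u : F' ⟶ F) (x : X) :
    Function.Exact (Algz.stalkMapₗ u x) (Algz.stalkMapₗ (cokernel.π u) x) ∧
      Function.Surjective (Algz.stalkMapₗ (cokernel.π u) x) := by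
  let T : ShortComplex X.Modules :=
    ShortComplex.mk (Abelian.image.ι u) (cokernel.π u) (kernel.condition _)
  have hT : T.ShortExact := ShortComplex.ShortExact.mk'
    (ShortComplex.exact_of_f_is_kernel T (kernelIsKernel (cokernel.π u)))
    (inferInstanceAs (Mono (kernel.ι (cokernel.π u)))) (inferInstanceAs (Epi (cokernel.π u)))
  have hex := CycLenH8.stalk_exact T hT x
  have hsurj := CycLenH8.stalk_surjective T hT x
  have he : Function.Surjective (Algz.stalkMapₗ (Abelian.factorThruImage u) x) :=
    EpiLoc.stalk_surjective_of_epi (Abelian.factorThruImage u) x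
  have hfac : Algz.stalkMapₗ u x =
      Algz.stalkMapₗ (Abelian.image.ι u) x ∘ₗ Algz.stalkMapₗ (Abelian.factorThruImage u) x := by
    rw [← CohDevH8.stalkMapₗ_comp, Abelian.image.fac]
  refine ⟨fun n => ?_, hsurj⟩
  rw [hex n]
  constructor
  · rintro ⟨k, rfl⟩
    obtain ⟨m, rfl⟩ := he k
    exact ⟨m, by rw [hfac]; rfl⟩
  · rintro ⟨m, rfl⟩
    exact ⟨Algz.stalkMapₗ (Abelian.factorThruImage u) x m, by rw [hfac]; rfl⟩

end Geom

end Groth.Agent.Lib.FibInjH6
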