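import Groth.Agent.Lib.AlgSpFibreFlat_helper7
import Groth.Agent.Lib.FibCritD_helper6
import Groth.Agent.Lib.FibInjF_helper6

/-!
# Fibrewise criterion of flatness for algebraic spaces, finite presentation version (helper7)

S10603.  Uses helper6's local-ring criterion `fibre_criterion_essFiniteType`.
-/

set_option autoImplicit false
universe u
open CategoryTheory CategoryTheory.Limits AlgebraicGeometry Opposite TensorProduct
open AlgSp Groth.Agent.Lib.AlgSpPoints_helper7 Groth.Agent.Lib.AlgSpPullback_helper7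
  Groth.Agent.Lib.AlgSpQC_helper7 Groth.Agent.Lib.AlgSpLocP4_helper7
  Groth.Agent.Lib.FibreFlatH7 Groth.Agent.Lib.AlgSpFibreFlatH7

namespace Groth.Agent.Lib.AlgSpFibreFlat2H7

/-- Fibrewise criterion of flatness, finite presentation version. -/
theorem flat_of_fibrewise_flat' {U V W : Scheme.{u}} (g : U ⟶ V) (k : V ⟶ W) [Flat (g ≫ k)]
    [LocallyOfFinitePresentation (g ≫ k)] [LocallyOfFiniteType k]
    (hfib : ∀ w : W, ∃ (Uw Vw : Scheme.{u}) (p1 : Uw ⟶ U) (p2 : Uw ⟶ Spec (W.residueField w))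
      (q1 : Vw ⟶ V) (q2 : Vw ⟶ Spec (W.residueField w)) (gw : Uw ⟶ Vw),
      IsPullback p1 p2 (g ≫ k) (W.fromSpecResidueField w) ∧
      IsPullback q1 q2 k (W.fromSpecResidueField w) ∧ gw ≫ q1 = p1 ≫ g ∧ gw ≫ q2 = p2 ∧
      Flat gw) :
    Flat g ∧ (Surjective g → Flat k) := by
  have key : ∀ u : U, (g.stalkMap u).hom.Flat ∧ (k.stalkMap (g u)).hom.Flat := by
    intro u
    obtain ⟨Uw, Vw, p1, p2, q1, q2, gw, hU, hV, c1, c2, hgw⟩ := hfib (k (g u))
    letI algRS : Algebra (W.presheaf.stalk (k (g u))) (V.presheaf.stalk (g u)) :=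
      (k.stalkMap (g u)).hom.toAlgebra
    letI algSS' : Algebra (V.presheaf.stalk (g u)) (U.presheaf.stalk u) :=
      (g.stalkMap u).hom.toAlgebra
    letI algRS' : Algebra (W.presheaf.stalk (k (g u))) (U.presheaf.stalk u) :=
      (k.stalkMap (g u) ≫ g.stalkMap u).hom.toAlgebra
    haveI : IsScalarTower (W.presheaf.stalk (k (g u))) (V.presheaf.stalk (g u))
        (U.presheaf.stalk u) := IsScalarTower.of_algebraMap_eq (fun _ => rfl)
    haveI : IsLocalHom (algebraMap (W.presheaf.stalk (k (g u))) (V.presheaf.stalk (g u))) :=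
      inferInstanceAs (IsLocalHom (k.stalkMap (g u)).hom)
    haveI : IsLocalHom (algebraMap (V.presheaf.stalk (g u)) (U.presheaf.stalk u)) :=
      inferInstanceAs (IsLocalHom (g.stalkMap u).hom)
    haveI : Module.Flat (W.presheaf.stalk (k (g u))) (U.presheaf.stalk u) := by
      have h1 := Flat.stalkMap (g ≫ k) u
      rw [Scheme.Hom.stalkMap_comp] at h1
      exact h1
    have hsch := flat_pullback_fst_stalk g k u p1 p2 q1 q2 gw hU hV c1 c2 hgw
      (A := CommRingCat.of (V.presheaf.stalk (g u) ⧸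
        mIdeal (W.presheaf.stalk (k (g u))) (V.presheaf.stalk (g u))))
      (CommRingCat.ofHom (Ideal.Quotient.mk _))
      (CommRingCat.ofHom (Ideal.Quotient.lift _
        ((Ideal.Quotient.mk (mIdeal (W.presheaf.stalk (k (g u))) (V.presheaf.stalk (g u)))).comp
          (algebraMap _ _))
        (fun a ha => Ideal.Quotient.eq_zero_iff_mem.mpr (Ideal.mem_map_of_mem _ ha))))
      (by ext x; rfl)
    have H := flat_tensor_of_flat_pullback_fst (V.presheaf.stalk (g u))
      (V.presheaf.stalk (g u) ⧸ mIdeal (W.presheaf.stalk (k (g u))) (V.presheaf.stalk (g u)))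
      (U.presheaf.stalk u) hsch
    haveI : Algebra.EssFiniteType (W.presheaf.stalk (k (g u))) (V.presheaf.stalk (g u)) :=
      LocallyOfFiniteType.stalkMap k (g u)
    have hS' : CAlgX.IsEssFinitePresentation (W.presheaf.stalk (k (g u)))
        (U.presheaf.stalk u) := by
      have h1 := Groth.Agent.Lib.FibInjH6.isEssFinitePresentation_stalkMap (g ≫ k) u
      rw [Scheme.Hom.stalkMap_comp] at h1
      exact h1
    haveI := H
    have hfib' : Module.Flat (V.presheaf.stalk (g u) ⧸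
        mIdeal (W.presheaf.stalk (k (g u))) (V.presheaf.stalk (g u)))
        (U.presheaf.stalk u ⧸ mIdeal (W.presheaf.stalk (k (g u))) (V.presheaf.stalk (g u)) •
          (⊤ : Submodule (V.presheaf.stalk (g u)) (U.presheaf.stalk u))) :=
      Module.Flat.of_linearEquiv
        ((TensorProduct.quotTensorEquivQuotSMul (U.presheaf.stalk u)
          (mIdeal (W.presheaf.stalk (k (g u))) (V.presheaf.stalk (g u)))).extendScalarsOfSurjective
            Ideal.Quotient.mk_surjective).symm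
    have res := Groth.Agent.Lib.FibCritH6.fibre_criterion_essFiniteType
      (R := W.presheaf.stalk (k (g u)))
      (S := V.presheaf.stalk (g u)) (S' := U.presheaf.stalk u) (M := U.presheaf.stalk u) hS' hfib'
    exact ⟨res.2, res.1⟩
  refine ⟨Flat.of_stalkMap g (fun u => (key u).1), fun hs => Flat.of_stalkMap k (fun v => ?_)⟩
  obtain ⟨u, rfl⟩ := hs.surj v
  exact (key u).2


variable {S : Scheme.{u}}

theorem main' {X Y Z : Space S} (f : X ⟶ Y) (h : Y ⟶ Z)
    (hfp : LocP @LocallyOfFinitePresentation (f ≫ h).hom) (hfl : LocP @Flat (f ≫ h).hom)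
    (hft : LocP @LocallyOfFiniteType h.hom)
    (hfib : ∀ (K : Type u) [Field K] (sK : Spec (CommRingCat.of K) ⟶ S)
      (z : (yon S).obj (Over.mk sK) ⟶ Z.obj) (Xz Yz : Sp S)
      (pX : Xz ⟶ X.obj) (qX : Xz ⟶ (yon S).obj (Over.mk sK))
      (pY : Yz ⟶ Y.obj) (qY : Yz ⟶ (yon S).obj (Over.mk sK)) (fz : Xz ⟶ Yz),
      IsPullback pX qX (f ≫ h).hom z → IsPullback pY qY h.hom z → fz ≫ pY = pX ≫ f.hom →
      fz ≫ qY = qX → LocP @Flat fz) :
    LocP @Flat f.hom ∧ (IsSurjectiveMor f.hom → LocP @Flat h.hom) := by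
  obtain ⟨W, c, hce, hcs⟩ := Z.property.atlas
  obtain ⟨V0, b0, hb0e, hb0s⟩ := Y.property.atlas
  obtain ⟨X0, a0, ha0e, ha0s⟩ := X.property.atlas
  obtain ⟨U1, g1, s1, sq1, hs1e, hs1s⟩ : ∃ (U1 : Over S) (g1 : U1 ⟶ V0) (s1 : U1 ⟶ X0),
      IsPullback ((yon S).map g1) ((yon S).map s1) b0 (a0 ≫ f.hom) ∧ Etale s1.left ∧
      Surjective s1.left :=
    ⟨_, hb0e.rep.fst' _, hb0e.rep.snd _, hb0e.rep.isPullback' _, hb0e.property_snd _,
      hb0s.property _ _ _ (hb0e.rep.isPullback _)⟩
  have ha1e : RepWith @Etale ((yon S).map s1 ≫ a0) :=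
    repWith_comp _ ((repWith_yon_map_iff _ _).2 hs1e) ha0e
  have ha1s : RepWith @Surjective ((yon S).map s1 ≫ a0) :=
    repWith_comp _ ((repWith_yon_map_iff _ _).2 hs1s) ha0s
  have comm1 : ((yon S).map s1 ≫ a0) ≫ f.hom = (yon S).map g1 ≫ b0 := by
    rw [Category.assoc]; exact sq1.w.symm
  obtain ⟨V, kV, sV, sqV, hsVe, hsVs⟩ : ∃ (V : Over S) (kV : V ⟶ W) (sV : V ⟶ V0),
      IsPullback ((yon S).map kV) ((yon S).map sV) c (b0 ≫ h.hom) ∧ Etale sV.left ∧
      Surjective sV.left :=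
    ⟨_, hce.rep.fst' _, hce.rep.snd _, hce.rep.isPullback' _, hce.property_snd _,
      hcs.property _ _ _ (hce.rep.isPullback _)⟩
  obtain ⟨U, kU, sU, sqU, hsUe, hsUs⟩ : ∃ (U : Over S) (kU : U ⟶ W) (sU : U ⟶ U1),
      IsPullback ((yon S).map kU) ((yon S).map sU) c
        (((yon S).map s1 ≫ a0) ≫ f.hom ≫ h.hom) ∧ Etale sU.left ∧ Surjective sU.left :=
    ⟨_, hce.rep.fst' _, hce.rep.snd _, hce.rep.isPullback' _, hce.property_snd _,
      hcs.property _ _ _ (hce.rep.isPullback _)⟩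
  have hgc : (yon S).map kU ≫ c = (yon S).map (sU ≫ g1) ≫ b0 ≫ h.hom := by
    rw [sqU.w, ← Category.assoc ((yon S).map s1 ≫ a0) f.hom h.hom, comm1,
      CategoryTheory.Functor.map_comp]
    simp only [Category.assoc]
  obtain ⟨g, hg⟩ := (yon S).map_surjective
    (sqV.lift ((yon S).map kU) ((yon S).map (sU ≫ g1)) hgc)
  have hg1 : g ≫ kV = kU := (yon S).map_injective (by
    rw [CategoryTheory.Functor.map_comp, hg, sqV.lift_fst])
  have hg2 : g ≫ sV = sU ≫ g1 := (yon S).map_injective (by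
    rw [CategoryTheory.Functor.map_comp, hg, sqV.lift_snd])
  have hbe : RepWith @Etale ((yon S).map sV ≫ b0) :=
    repWith_comp _ ((repWith_yon_map_iff _ _).2 hsVe) hb0e
  have hbs : RepWith @Surjective ((yon S).map sV ≫ b0) :=
    repWith_comp _ ((repWith_yon_map_iff _ _).2 hsVs) hb0s
  have hae : RepWith @Etale ((yon S).map sU ≫ (yon S).map s1 ≫ a0) :=
    repWith_comp _ ((repWith_yon_map_iff _ _).2 hsUe) ha1e
  have has : RepWith @Surjective ((yon S).map sU ≫ (yon S).map s1 ≫ a0) :=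
    repWith_comp _ ((repWith_yon_map_iff _ _).2 hsUs) ha1s
  have e2 : (yon S).map g ≫ (yon S).map sV = (yon S).map sU ≫ (yon S).map g1 := by
    rw [← CategoryTheory.Functor.map_comp, hg2, CategoryTheory.Functor.map_comp]
  have comm_f : ((yon S).map sU ≫ (yon S).map s1 ≫ a0) ≫ f.hom =
      (yon S).map g ≫ (yon S).map sV ≫ b0 := by
    rw [Category.assoc, comm1, reassoc_of% e2]
  have comm_h : ((yon S).map sV ≫ b0) ≫ h.hom = (yon S).map kV ≫ c := by
    rw [Category.assoc]; exact sqV.w.symm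
  have comm_fh : ((yon S).map sU ≫ (yon S).map s1 ≫ a0) ≫ (f ≫ h).hom =
      (yon S).map (g ≫ kV) ≫ c := by
    rw [hg1, Category.assoc]; exact sqU.w.symm
  haveI hgk : Flat (g.left ≫ kV.left) := hfl _ c (g ≫ kV) hae hce comm_fh
  haveI hgkp : LocallyOfFinitePresentation (g.left ≫ kV.left) :=
    hfp _ c (g ≫ kV) hae hce comm_fh
  haveI hkft : LocallyOfFiniteType kV.left := hft _ c kV hbe hce comm_h
  have hT1 := flat_of_fibrewise_flat' g.left kV.left (fun w => ?_)
  · refine ⟨locP_of_one_chart etLocal_flat f.hom _ _ g hae has hbe comm_f hT1.1, fun hsurj => ?_⟩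
    have hsurj1 : IsSurjectiveMor (a0 ≫ f.hom) := fun y => by
      obtain ⟨x, hx⟩ := hsurj y
      obtain ⟨x0, hx0⟩ := isSurjectiveMor_of_repWith a0 ha0s x
      exact ⟨x0, by rw [Points.map_comp, hx0, hx]⟩
    have hg1s : Surjective g1.left := surjective_left_of_isPullback sq1.flip hsurj1
    have sqG : IsPullback ((yon S).map g) ((yon S).map sU) ((yon S).map sV) ((yon S).map g1) := by
      refine IsPullback.of_right ?_ e2 sqV
      rw [← CategoryTheory.Functor.map_comp, hg1, ← Category.assoc ((yon S).map g1), ← comm1]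
      exact sqU
    have hgs : Surjective g.left := surjective_left_of_isPullback sqG.flip
      (isSurjectiveMor_of_repWith _ ((repWith_yon_map_iff @Surjective g1).2 hg1s))
    exact locP_of_one_chart etLocal_flat h.hom _ c kV hbe hbs hce comm_h (hT1.2 hgs)
  · exact fibre_data f.hom h.hom ((yon S).map s1 ≫ a0) b0 c g1 ha1e hb0e comm1 kU sU kV sV g
      sqU sqV hg1 hg2 (Over.homMk (W.left.fromSpecResidueField w) rfl :
        Over.mk (W.left.fromSpecResidueField w ≫ W.hom) ⟶ W)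
      (pullback.lift (pullback.fst _ _ ≫ f.hom) (pullback.snd _ _) (by
        rw [Category.assoc]; exact pullback.condition))
      (pullback.lift_fst _ _ _) (pullback.lift_snd _ _ _)
      (hfib ↑(W.left.residueField w) (W.left.fromSpecResidueField w ≫ W.hom) _ _ _ _ _ _ _ _
        (IsPullback.of_hasPullback _ _) (IsPullback.of_hasPullback _ _)
        (pullback.lift_fst _ _ _) (pullback.lift_snd _ _ _))


end Groth.Agent.Lib.AlgSpFibreFlat2H7
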