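import Groth.Agent.Lib.AlgSpLocP8_helper7
import Mathlib.AlgebraicGeometry.Noetherian

/-!
# Finite presentation: Noetherian targets and cancellation (helper7)
-/

set_option autoImplicit false
universe u
open CategoryTheory CategoryTheory.Limits AlgebraicGeometry Opposite MorphismProperty
open AlgSp Groth.Agent.Lib.AlgSpQC2_helper7 Groth.Agent.Lib.AlgSpPoints_helper7
  Groth.Agent.Lib.AlgSpQC_helper7 Groth.Agent.Lib.AlgSpDiag_helper7 Groth.Agent.Lib.AlgSpTop_helper7
  Groth.Agent.Lib.AlgSpPullback_helper7 Groth.Agent.Lib.AlgSpSep_helper7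
  Groth.Agent.Lib.AlgSpLocP_helper7 Groth.Agent.Lib.AlgSpUniv_helper7
  Groth.Agent.Lib.AlgSpFpqc_helper7 Groth.Agent.Lib.AlgSpFpqc2_helper7
  Groth.Agent.Lib.AlgSpDescent_helper7 Groth.Agent.Lib.AlgSpEtale_helper7
  Groth.Agent.Lib.AlgSpLocP2_helper7 Groth.Agent.Lib.AlgSpLocP3_helper7
  Groth.Agent.Lib.AlgSpEpi_helper7
  Groth.Agent.Lib.SchSrcLocal_helper7 Groth.Agent.Lib.AlgSpLocP4_helper7
  Groth.Agent.Lib.AlgSpLocP5_helper7 Groth.Agent.Lib.AlgSpLocP6_helper7
  Groth.Agent.Lib.SchSrcLocal2_helper7 Groth.Agent.Lib.AlgSpSrc_helper7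
  Groth.Agent.Lib.AlgSpLocP7_helper7 Groth.Agent.Lib.AlgSpLocP8_helper7

namespace Groth.Agent.Lib.AlgSpLocP9_helper7

variable {S : Scheme.{u}}

/-- If `f ≫ g` is locally of finite presentation and `g` is locally of finite type, then `f` is
locally of finite presentation. -/
theorem locallyOfFinitePresentation_of_comp {X Y Z : Scheme.{u}} (f : X ⟶ Y) (g : Y ⟶ Z)
    [LocallyOfFinitePresentation (f ≫ g)] [LocallyOfFiniteType g] :
    LocallyOfFinitePresentation f := by
  rw [HasRingHomProperty.iff_exists_appLE (P := @LocallyOfFinitePresentation)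
    (RingHom.finitePresentation_stableUnderComposition.stableUnderCompositionWithLocalizationAway
      RingHom.finitePresentation_holdsForLocalizationAway).left]
  intro x
  obtain ⟨W, hW, hw, -⟩ := TopologicalSpace.Opens.isBasis_iff_nbhd.mp Z.isBasis_affineOpens
    (TopologicalSpace.Opens.mem_top (g (f x)))
  obtain ⟨V, hV, hv, eV⟩ := TopologicalSpace.Opens.isBasis_iff_nbhd.mp Y.isBasis_affineOpens
    (show f x ∈ g ⁻¹ᵁ W from hw)
  obtain ⟨U, hU, hu, eU⟩ := TopologicalSpace.Opens.isBasis_iff_nbhd.mp X.isBasis_affineOpens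
    (show x ∈ f ⁻¹ᵁ V from hv)
  replace hW : IsAffineOpen W := hW
  replace hV : IsAffineOpen V := hV
  replace hU : IsAffineOpen U := hU
  refine ⟨⟨V, hV⟩, ⟨U, hU⟩, hu, eU, ?_⟩
  have h1 : (g.appLE W V eV ≫ f.appLE V U eU).hom.FinitePresentation := by
    rw [Scheme.Hom.appLE_comp_appLE]
    exact HasRingHomProperty.appLE (P := @LocallyOfFinitePresentation) (f ≫ g) inferInstance
      ⟨W, hW⟩ ⟨U, hU⟩ _
  have h2 : (g.appLE W V eV).hom.FiniteType :=
    HasRingHomProperty.appLE (P := @LocallyOfFiniteType) g inferInstance ⟨W, hW⟩ ⟨V, hV⟩ eV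
  exact RingHom.FinitePresentation.of_comp_finiteType _ h1 h2

theorem locP_lfp_of_comp {X Y Z : Sp S} (hZ : IsAlgSpace Z) (f : X ⟶ Y) (g : Y ⟶ Z)
    (h : LocP @LocallyOfFinitePresentation (f ≫ g)) (hg : LocP @LocallyOfFiniteType g) :
    LocP @LocallyOfFinitePresentation f :=
  locP_of_comp' @LocallyOfFinitePresentation @LocallyOfFiniteType
    (descendsEtale_of_descendsAlong _)
    (fun _ _ _ f' g' (_ : LocallyOfFinitePresentation (f' ≫ g')) (_ : LocallyOfFiniteType g') =>
      locallyOfFinitePresentation_of_comp f' g') hZ f g h hg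

theorem locP_unramified_of_comp {X Y Z : Sp S} (hZ : IsAlgSpace Z) (f : X ⟶ Y) (g : Y ⟶ Z)
    (h : LocP (@LocallyOfFiniteType ⊓ @FormallyUnramified) (f ≫ g)) :
    LocP (@LocallyOfFiniteType ⊓ @FormallyUnramified) f :=
  locP_of_comp' (@LocallyOfFiniteType ⊓ @FormallyUnramified) ⊤
    (Groth.Agent.Lib.AlgSpDescent2_helper7.descendsEtale_inf (descendsEtale_of_descendsAlong _)
      (descendsEtale_of_descendsAlong _))
    (fun _ _ _ f' g' ⟨(_ : LocallyOfFiniteType (f' ≫ g')), (_ : FormallyUnramified (f' ≫ g'))⟩ _ =>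
      ⟨locallyOfFiniteType_of_comp f' g', FormallyUnramified.of_comp f' g'⟩) hZ f g h
    (fun _ _ _ _ _ _ _ _ => trivial)

/-- Over a locally Noetherian algebraic space, locally of finite type implies locally of finite
presentation. -/
theorem locP_lfp_of_isLocNoethSp {X Y : Sp S} (hX : IsAlgSpace X) (hY : IsAlgSpace Y) (f : X ⟶ Y)
    (hN : IsLocNoethSp Y) (hf : LocP @LocallyOfFiniteType f) :
    LocP @LocallyOfFinitePresentation f := by
  obtain ⟨V, q, hqe, hqs, hV⟩ := hN
  have sq := IsPullback.of_hasPullback f q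
  have hQ : IsAlgSpace (pullback f q) :=
    isAlgSpace_of_isPullback hY.diag hX (IsAlgSpace.yon_obj V) sq
  obtain ⟨U, a, hae, has⟩ := hQ.atlas
  obtain ⟨k, hk⟩ := (yon S).map_surjective (a ≫ pullback.snd f q)
  have h1e : RepWith @Etale (a ≫ pullback.fst f q) :=
    repWith_comp _ hae (repWith_fst_of_isPullback _ sq hqe)
  have h1s : RepWith @Surjective (a ≫ pullback.fst f q) :=
    repWith_comp _ has (repWith_fst_of_isPullback _ sq hqs)
  have hc : (a ≫ pullback.fst f q) ≫ f = (yon S).map k ≫ q := by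
    rw [hk, Category.assoc, Category.assoc, pullback.condition]
  have h3 : LocallyOfFiniteType k.left := hf _ _ k h1e hqe hc
  have : IsLocallyNoetherian V.left := hV
  refine locP_of_one_chart etLocal_locallyOfFinitePresentation f _ q k h1e h1s hqe hc ?_
  exact LocallyOfFinitePresentation.iff_locallyOfFiniteType.mpr h3

end Groth.Agent.Lib.AlgSpLocP9_helper7
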