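import Groth.Statements.S18502
import Groth.Agent.Lib.GeomQuotSep_lead

/-! # A principal bundle is a geometric quotient (lead) -/

set_option backward.isDefEq.respectTransparency false
set_option backward.isDefEq.respectTransparency.types false
set_option linter.unusedSimpArgs false
set_option linter.unusedVariables false
set_option linter.unusedSectionVars false
set_option linter.style.longLine false
set_option linter.style.haveILetI false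
set_option maxHeartbeats 800000

universe u

open CategoryTheory CategoryTheory.Limits MonoidalCategory CartesianMonoidalCategory MonObj GrpObj
  AlgebraicGeometry Opposite Topology

namespace Groth.Agent.Lib.PBGeomQuot

open Groth.Agent.Lib.AssocBundle Groth.Agent.Lib.GeomQuotSep

/-! ## functions as morphisms to the affine line -/

/-- the ring `ℤ[t]` in universe `u` -/
noncomputable abbrev R1 : CommRingCat.{u} := CommRingCat.of (Polynomial (ULift.{u} ℤ))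

theorem hom_ext_R1 {A : CommRingCat.{u}} (f g : R1.{u} ⟶ A)
    (h : f.hom Polynomial.X = g.hom Polynomial.X) : f = g := by
  apply CommRingCat.hom_ext
  apply Polynomial.ringHom_ext
  · rintro ⟨n⟩
    have e1 : (ULift.up n : ULift.{u} ℤ) = ((n : ℤ) : ULift.{u} ℤ) := by
      apply ULift.ext
      simp
    rw [e1]
    simp only [map_intCast]
  · exact h

noncomputable def tt : Γ(Spec R1.{u}, ⊤) :=
  (Scheme.ΓSpecIso R1.{u}).inv (Polynomial.X : Polynomial (ULift.{u} ℤ))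

noncomputable def fromA1 {Z : Scheme.{u}} (g : Z ⟶ Spec R1.{u}) : Γ(Z, ⊤) := g.appTop tt

theorem fromA1_comp {Z' Z : Scheme.{u}} (h : Z' ⟶ Z) (g : Z ⟶ Spec R1.{u}) :
    fromA1 (h ≫ g) = h.appTop (fromA1 g) := by
  unfold fromA1
  rw [Scheme.Hom.comp_appTop]
  rfl

theorem fromA1_inj {Z : Scheme.{u}} (g₁ g₂ : Z ⟶ Spec R1.{u}) (h : fromA1 g₁ = fromA1 g₂) :
    g₁ = g₂ := by
  apply ext_of_isAffine
  have : (Scheme.ΓSpecIso R1.{u}).inv ≫ g₁.appTop = (Scheme.ΓSpecIso R1.{u}).inv ≫ g₂.appTop := by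
    apply hom_ext_R1
    exact h
  exact (cancel_epi _).mp this

theorem fromA1_surj {Z : Scheme.{u}} (c : Γ(Z, ⊤)) : ∃ g : Z ⟶ Spec R1.{u}, fromA1 g = c := by
  obtain ⟨ev, hev⟩ : ∃ ev : R1.{u} ⟶ Γ(Z, ⊤), ev.hom Polynomial.X = c :=
    ⟨CommRingCat.ofHom (Polynomial.eval₂RingHom
      ((Int.castRingHom Γ(Z, ⊤)).comp (ULift.ringEquiv : ULift.{u} ℤ ≃+* ℤ).toRingHom) c),
      by simp⟩
  refine ⟨Z.toSpecΓ ≫ Spec.map ev, ?_⟩
  have h1 : (Scheme.ΓSpecIso R1.{u}).inv ≫ (Z.toSpecΓ ≫ Spec.map ev).appTop = ev := by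
    rw [Scheme.Hom.comp_appTop, ← Category.assoc, ← Scheme.ΓSpecIso_inv_naturality, Category.assoc,
      Scheme.toSpecΓ_appTop, Iso.inv_hom_id, Category.comp_id]
  have h2 := ConcreteCategory.congr_hom h1 (Polynomial.X : Polynomial (ULift.{u} ℤ))
  exact h2.trans hev

theorem resLE_appTop_topIso_inv {X Y : Scheme.{u}} (f : X ⟶ Y) (U : Y.Opens) (V : X.Opens)
    (e : V ≤ f ⁻¹ᵁ U) (c : Γ(Y, U)) :
    (f.resLE U V e).appTop (U.topIso.inv c) = V.topIso.inv (f.appLE U V e c) := by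
  have h2 : U.topIso.inv ≫ (f.resLE U V e).appTop = f.appLE U V e ≫ V.topIso.inv := by
    show U.topIso.inv ≫ (f.resLE U V e).app ⊤ = _
    rw [Scheme.Hom.resLE_app_top, Iso.inv_hom_id_assoc]
  exact ConcreteCategory.congr_hom h2 c

theorem iso_inv_inj {A B : CommRingCat.{u}} (e : A ≅ B) {x y : B} (h : e.inv x = e.inv y) : x = y := by
  have := congrArg e.hom h
  simpa only [CategoryTheory.Iso.inv_hom_id_apply] using this

theorem appTop_comp_apply {A B C : Scheme.{u}} (f : A ⟶ B) (g : B ⟶ C) (x : Γ(C, ⊤)) :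
    f.appTop (g.appTop x) = (f ≫ g).appTop x := rfl

/-! ## descent of functions along a principal bundle -/

theorem sections_core' {GX X Y : Scheme.{u}} (φ : X ⟶ Y) [Flat φ] [Surjective φ] [QuasiCompact φ]
    (s p : GX ⟶ X) (hpb : IsPullback s p φ φ) (U : Y.Opens)
    (V : X.Opens) (hV : V = φ ⁻¹ᵁ U) (W : GX.Opens) (hW : W = s ⁻¹ᵁ V ⊓ p ⁻¹ᵁ V)
    (eV : V ≤ φ ⁻¹ᵁ U) (e1 : W ≤ s ⁻¹ᵁ V) (e2 : W ≤ p ⁻¹ᵁ V) :
    Function.Injective (φ.appLE U V eV) ∧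
      Set.range (φ.appLE U V eV) = {f | s.appLE V W e1 f = p.appLE V W e2 f} := by
  subst hW
  subst hV
  obtain ⟨φU, hφU⟩ : ∃ φU : ((φ ⁻¹ᵁ U : X.Opens) : Scheme) ⟶ (U : Scheme),
      φU = φ.resLE U (φ ⁻¹ᵁ U) eV := ⟨_, rfl⟩
  obtain ⟨sW, hsW⟩ : ∃ sW : ((s ⁻¹ᵁ (φ ⁻¹ᵁ U) ⊓ p ⁻¹ᵁ (φ ⁻¹ᵁ U) : GX.Opens) : Scheme) ⟶
      ((φ ⁻¹ᵁ U : X.Opens) : Scheme), sW = s.resLE (φ ⁻¹ᵁ U) _ e1 := ⟨_, rfl⟩
  obtain ⟨pW, hpW⟩ : ∃ pW : ((s ⁻¹ᵁ (φ ⁻¹ᵁ U) ⊓ p ⁻¹ᵁ (φ ⁻¹ᵁ U) : GX.Opens) : Scheme) ⟶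
      ((φ ⁻¹ᵁ U : X.Opens) : Scheme), pW = p.resLE (φ ⁻¹ᵁ U) _ e2 := ⟨_, rfl⟩
  have hφι : φU ≫ U.ι = (φ ⁻¹ᵁ U).ι ≫ φ := by rw [hφU]; exact Scheme.Hom.resLE_comp_ι _ _
  have hsι : sW ≫ (φ ⁻¹ᵁ U).ι = (s ⁻¹ᵁ (φ ⁻¹ᵁ U) ⊓ p ⁻¹ᵁ (φ ⁻¹ᵁ U)).ι ≫ s := by
    rw [hsW]; exact Scheme.Hom.resLE_comp_ι _ _
  have hpι : pW ≫ (φ ⁻¹ᵁ U).ι = (s ⁻¹ᵁ (φ ⁻¹ᵁ U) ⊓ p ⁻¹ᵁ (φ ⁻¹ᵁ U)).ι ≫ p := by
    rw [hpW]; exact Scheme.Hom.resLE_comp_ι _ _
  have hPφ : ∀ c : Γ(Y, U), φU.appTop (U.topIso.inv c) =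
      (φ ⁻¹ᵁ U).topIso.inv (φ.appLE U (φ ⁻¹ᵁ U) eV c) := by
    intro c; rw [hφU]; exact resLE_appTop_topIso_inv φ U _ eV c
  have hPs : ∀ c : Γ(X, φ ⁻¹ᵁ U), sW.appTop ((φ ⁻¹ᵁ U).topIso.inv c) =
      (s ⁻¹ᵁ (φ ⁻¹ᵁ U) ⊓ p ⁻¹ᵁ (φ ⁻¹ᵁ U)).topIso.inv (s.appLE (φ ⁻¹ᵁ U) _ e1 c) := by
    intro c; rw [hsW]; exact resLE_appTop_topIso_inv s _ _ e1 c
  have hPp : ∀ c : Γ(X, φ ⁻¹ᵁ U), pW.appTop ((φ ⁻¹ᵁ U).topIso.inv c) =
      (s ⁻¹ᵁ (φ ⁻¹ᵁ U) ⊓ p ⁻¹ᵁ (φ ⁻¹ᵁ U)).topIso.inv (p.appLE (φ ⁻¹ᵁ U) _ e2 c) := by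
    intro c; rw [hpW]; exact resLE_appTop_topIso_inv p _ _ e2 c
  have hφU' : φU = φ ∣_ U := by rw [hφU]; exact Scheme.Hom.resLE_eq_morphismRestrict φ
  haveI : Flat φU := by
    rw [hφU']
    exact MorphismProperty.of_isPullback (P := @Flat) (isPullback_morphismRestrict φ U).flip
      inferInstance
  haveI : Surjective φU := by
    rw [hφU']
    exact MorphismProperty.of_isPullback (P := @Surjective) (isPullback_morphismRestrict φ U).flip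
      inferInstance
  haveI : QuasiCompact φU := by
    rw [hφU']
    exact MorphismProperty.of_isPullback (P := @QuasiCompact)
      (isPullback_morphismRestrict φ U).flip inferInstance
  have hcov := isCov_of_flat φU
  haveI : EffectiveEpi φU := hcov.effectiveEpi
  haveI : Epi φU := inferInstance
  have hsq : sW ≫ φU = pW ≫ φU := by
    rw [← cancel_mono U.ι, Category.assoc, Category.assoc, hφι, ← Category.assoc, ← Category.assoc,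
      hsι, hpι, Category.assoc, Category.assoc, hpb.w]
  have hPB : IsPullback sW pW φU φU := by
    refine isPullback_of_exists_unique sW pW φU φU hsq ?_ ?_
    · intro T a b hab
      have h0 : (a ≫ (φ ⁻¹ᵁ U).ι) ≫ φ = (b ≫ (φ ⁻¹ᵁ U).ι) ≫ φ := by
        rw [Category.assoc, Category.assoc, ← hφι, ← Category.assoc, ← Category.assoc, hab]
      obtain ⟨l₀, hl1, hl2⟩ : ∃ l₀ : T ⟶ GX, l₀ ≫ s = a ≫ (φ ⁻¹ᵁ U).ι ∧
          l₀ ≫ p = b ≫ (φ ⁻¹ᵁ U).ι :=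
        ⟨hpb.lift _ _ h0, hpb.lift_fst _ _ _, hpb.lift_snd _ _ _⟩
      have hr : Set.range l₀.base ⊆
          Set.range (s ⁻¹ᵁ (φ ⁻¹ᵁ U) ⊓ p ⁻¹ᵁ (φ ⁻¹ᵁ U)).ι.base := by
        rw [Scheme.Opens.range_ι]
        rintro _ ⟨t, rfl⟩
        have m1 : s.base (l₀.base t) ∈ φ ⁻¹ᵁ U := by
          rw [← Scheme.Hom.comp_apply, hl1, Scheme.Hom.comp_apply]
          exact (a.base t).2
        have m2 : p.base (l₀.base t) ∈ φ ⁻¹ᵁ U := by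
          rw [← Scheme.Hom.comp_apply, hl2, Scheme.Hom.comp_apply]
          exact (b.base t).2
        exact ⟨m1, m2⟩
      obtain ⟨l, hl⟩ : ∃ l : T ⟶ ((s ⁻¹ᵁ (φ ⁻¹ᵁ U) ⊓ p ⁻¹ᵁ (φ ⁻¹ᵁ U) : GX.Opens) : Scheme),
          l ≫ (s ⁻¹ᵁ (φ ⁻¹ᵁ U) ⊓ p ⁻¹ᵁ (φ ⁻¹ᵁ U)).ι = l₀ :=
        ⟨IsOpenImmersion.lift _ l₀ hr, IsOpenImmersion.lift_fac _ _ _⟩
      refine ⟨l, ?_, ?_⟩
      · rw [← cancel_mono (φ ⁻¹ᵁ U).ι, Category.assoc, hsι, ← Category.assoc, hl, hl1]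
      · rw [← cancel_mono (φ ⁻¹ᵁ U).ι, Category.assoc, hpι, ← Category.assoc, hl, hl2]
    · intro T l l' h1 h2
      rw [← cancel_mono (s ⁻¹ᵁ (φ ⁻¹ᵁ U) ⊓ p ⁻¹ᵁ (φ ⁻¹ᵁ U)).ι]
      apply hpb.hom_ext
      · rw [Category.assoc, Category.assoc, ← hsι, ← Category.assoc, ← Category.assoc, h1]
      · rw [Category.assoc, Category.assoc, ← hpι, ← Category.assoc, ← Category.assoc, h2]
  constructor
  · intro c₁ c₂ hc
    obtain ⟨g₁, hg₁⟩ := fromA1_surj (U.topIso.inv c₁)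
    obtain ⟨g₂, hg₂⟩ := fromA1_surj (U.topIso.inv c₂)
    have h3 : φU ≫ g₁ = φU ≫ g₂ := by
      apply fromA1_inj
      rw [fromA1_comp, fromA1_comp, hg₁, hg₂, hPφ, hPφ, hc]
    have hg : g₁ = g₂ := (cancel_epi φU).mp h3
    have h4 : U.topIso.inv c₁ = U.topIso.inv c₂ := by rw [← hg₁, ← hg₂, hg]
    exact iso_inv_inj _ h4
  · ext f
    constructor
    · rintro ⟨c, rfl⟩
      show s.appLE (φ ⁻¹ᵁ U) _ e1 (φ.appLE U (φ ⁻¹ᵁ U) eV c) =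
        p.appLE (φ ⁻¹ᵁ U) _ e2 (φ.appLE U (φ ⁻¹ᵁ U) eV c)
      have key : (s ⁻¹ᵁ (φ ⁻¹ᵁ U) ⊓ p ⁻¹ᵁ (φ ⁻¹ᵁ U)).topIso.inv
            (s.appLE (φ ⁻¹ᵁ U) _ e1 (φ.appLE U (φ ⁻¹ᵁ U) eV c)) =
          (s ⁻¹ᵁ (φ ⁻¹ᵁ U) ⊓ p ⁻¹ᵁ (φ ⁻¹ᵁ U)).topIso.inv
            (p.appLE (φ ⁻¹ᵁ U) _ e2 (φ.appLE U (φ ⁻¹ᵁ U) eV c)) := by
        rw [← hPs, ← hPp, ← hPφ, appTop_comp_apply, appTop_comp_apply, hsq]
      exact iso_inv_inj _ key
    · intro hf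
      have hf' : s.appLE (φ ⁻¹ᵁ U) _ e1 f = p.appLE (φ ⁻¹ᵁ U) _ e2 f := hf
      obtain ⟨g, hg⟩ := fromA1_surj ((φ ⁻¹ᵁ U).topIso.inv f)
      have hsg : sW ≫ g = pW ≫ g := by
        apply fromA1_inj
        rw [fromA1_comp, fromA1_comp, hg, hPs, hPp, hf']
      have hdesc : ∀ {Z : Scheme.{u}} (g₁ g₂ : Z ⟶ ((φ ⁻¹ᵁ U : X.Opens) : Scheme)),
          g₁ ≫ φU = g₂ ≫ φU → g₁ ≫ g = g₂ ≫ g := by
        intro Z g₁ g₂ hg12
        obtain ⟨l, hl1, hl2⟩ : ∃ l : Z ⟶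
            ((s ⁻¹ᵁ (φ ⁻¹ᵁ U) ⊓ p ⁻¹ᵁ (φ ⁻¹ᵁ U) : GX.Opens) : Scheme),
            l ≫ sW = g₁ ∧ l ≫ pW = g₂ :=
          ⟨hPB.lift _ _ hg12, hPB.lift_fst _ _ _, hPB.lift_snd _ _ _⟩
        rw [← hl1, ← hl2, Category.assoc, Category.assoc, hsg]
      obtain ⟨h, hh⟩ : ∃ h : (U : Scheme) ⟶ Spec R1.{u}, φU ≫ h = g :=
        ⟨EffectiveEpi.desc φU g hdesc, EffectiveEpi.fac φU g hdesc⟩
      refine ⟨U.topIso.hom (fromA1 h), ?_⟩
      have e0 : U.topIso.inv (U.topIso.hom (fromA1 h)) = fromA1 h :=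
        CategoryTheory.Iso.hom_inv_id_apply U.topIso (fromA1 h)
      have key : (φ ⁻¹ᵁ U).topIso.inv (φ.appLE U (φ ⁻¹ᵁ U) eV (U.topIso.hom (fromA1 h))) =
          (φ ⁻¹ᵁ U).topIso.inv f := by
        rw [← hPφ, e0, ← fromA1_comp, hh, hg]
      exact iso_inv_inj _ key

theorem sections_core {GX X Y : Scheme.{u}} (φ : X ⟶ Y) [Flat φ] [Surjective φ] [QuasiCompact φ]
    (s p : GX ⟶ X) (hpb : IsPullback s p φ φ) (U : Y.Opens) :
    Function.Injective (φ.app U) ∧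
      Set.range (φ.app U) =
        {f | s.appLE (φ ⁻¹ᵁ U) (s ⁻¹ᵁ (φ ⁻¹ᵁ U) ⊓ p ⁻¹ᵁ (φ ⁻¹ᵁ U)) inf_le_left f =
          p.appLE (φ ⁻¹ᵁ U) (s ⁻¹ᵁ (φ ⁻¹ᵁ U) ⊓ p ⁻¹ᵁ (φ ⁻¹ᵁ U)) inf_le_right f} := by
  have h := sections_core' φ s p hpb U (φ ⁻¹ᵁ U) rfl (s ⁻¹ᵁ (φ ⁻¹ᵁ U) ⊓ p ⁻¹ᵁ (φ ⁻¹ᵁ U)) rfl le_rfl
    inf_le_left inf_le_right
  rw [Scheme.Hom.appLE_eq_app] at h
  exact h

/-! ## freeness -/

theorem incl_closedImm {X Y S : Scheme.{u}} (f : X ⟶ Y) (i : Y ⟶ S) (hX : X ⟶ S) (e : f ≫ i = hX)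
    [IsSeparated i] (w : pullback.fst f f ≫ hX = pullback.snd f f ≫ hX) :
    IsClosedImmersion (pullback.lift (pullback.fst f f) (pullback.snd f f) w) := by
  subst e
  have h : pullback.lift (pullback.fst f f) (pullback.snd f f) w = pullback.mapDesc f f i := by
    apply pullback.hom_ext <;> simp
  rw [h]
  infer_instance

theorem psi_eq {GX XX X Y : Scheme.{u}} (φ : X ⟶ Y) (s p : GX ⟶ X) (f1 f2 : XX ⟶ X)
    (Ψ : GX ⟶ XX) (hΨ1 : Ψ ≫ f1 = s) (hΨ2 : Ψ ≫ f2 = p)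
    (hXX : ∀ {T : Scheme.{u}} (a b : T ⟶ XX), a ≫ f1 = b ≫ f1 → a ≫ f2 = b ≫ f2 → a = b)
    (incl : pullback φ φ ⟶ XX) (hι1 : incl ≫ f1 = pullback.fst φ φ)
    (hι2 : incl ≫ f2 = pullback.snd φ φ)
    (PsiY : GX ⟶ pullback φ φ) (hP1 : PsiY ≫ pullback.fst φ φ = s)
    (hP2 : PsiY ≫ pullback.snd φ φ = p) : PsiY ≫ incl = Ψ :=
  hXX _ _ (by rw [Category.assoc, hι1, hP1, hΨ1]) (by rw [Category.assoc, hι2, hP2, hΨ2])

theorem main (k : Type u) [Field k] (G X Y : Over (Spec (CommRingCat.of k))) [GrpObj G]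
    [LocallyOfFiniteType X.hom] [QuasiCompact X.hom]
    [LocallyOfFiniteType Y.hom] [IsSeparated Y.hom]
    (a : AlgGrp.Action G X) (φ : X ⟶ Y) (hinv : GIT.IsInvariant a φ) [Flat φ.left]
    [Surjective φ.left] (hcart : IsIso (GIT.PsiY a φ hinv)) :
    GIT.IsGeomQuot a φ ∧ IsClosedImmersion (GIT.psi a (𝟙 X)).left := by
  haveI := hcart
  haveI : QuasiCompact φ.left := qc_left φ
  have hpb : IsPullback a.act.left (snd G X).left φ.left φ.left := by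
    refine IsPullback.of_iso_pullback ⟨hinv.left⟩ (asIso (GIT.PsiY a φ hinv)) ?_ ?_
    · exact pullback.lift_fst _ _ _
    · exact pullback.lift_snd _ _ _
  haveI : IsNoetherianRing (CommRingCat.of k) := inferInstanceAs (IsNoetherianRing k)
  haveI : IsLocallyNoetherian Y.left := LocallyOfFiniteType.isLocallyNoetherian Y.hom
  haveI : LocallyOfFiniteType φ.left := by
    haveI : LocallyOfFiniteType (φ.left ≫ Y.hom) := by rw [Over.w φ]; infer_instance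
    exact locallyOfFiniteType_of_comp φ.left Y.hom
  haveI : LocallyOfFinitePresentation φ.left := inferInstance
  haveI : UniversallyOpen φ.left := inferInstance
  refine ⟨⟨hinv, (‹Surjective φ.left›).surj, ?_, ?_, ?_⟩, ?_⟩
  · exact (GIT.PsiY a φ hinv).homeomorph.surjective
  · intro X' Y' i₁ i₂ f' hsq
    haveI : UniversallyOpen f' :=
      MorphismProperty.of_isPullback (P := @UniversallyOpen) hsq.flip inferInstance
    haveI : Surjective f' :=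
      MorphismProperty.of_isPullback (P := @Surjective) hsq.flip inferInstance
    exact IsOpenMap.isQuotientMap f'.isOpenMap f'.continuous f'.surjective
  · intro U
    exact sections_core φ.left a.act.left (snd G X).left hpb U
  · have hΨ1 : GIT.psi a (𝟙 X) ≫ fst X X = a.act := by
      unfold GIT.psi
      rw [lift_fst, MonoidalCategory.whiskerLeft_id, Category.id_comp]
    have hΨ2 : GIT.psi a (𝟙 X) ≫ snd X X = snd G X := by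
      unfold GIT.psi
      rw [lift_snd]
    have hι : pullback.fst φ.left φ.left ≫ X.hom = pullback.snd φ.left φ.left ≫ X.hom := by
      rw [← Over.w φ, ← Category.assoc, pullback.condition, Category.assoc]
    obtain ⟨incl, hincl⟩ : ∃ incl : pullback φ.left φ.left ⟶ (X ⊗ X).left,
        incl = pullback.lift (pullback.fst φ.left φ.left) (pullback.snd φ.left φ.left) hι :=
      ⟨_, rfl⟩
    haveI : IsClosedImmersion incl := by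
      rw [hincl]
      exact incl_closedImm φ.left Y.hom X.hom (Over.w φ) hι
    have h1 : incl ≫ (fst X X).left = pullback.fst φ.left φ.left := by
      rw [hincl]; exact pullback.lift_fst _ _ _
    have h2 : incl ≫ (snd X X).left = pullback.snd φ.left φ.left := by
      rw [hincl]; exact pullback.lift_snd _ _ _
    have hΨ := psi_eq (φ := φ.left) (s := a.act.left) (p := (snd G X).left)
      (f1 := (fst X X).left) (f2 := (snd X X).left) (Ψ := (GIT.psi a (𝟙 X)).left)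
      (congrArg CommaMorphism.left hΨ1) (congrArg CommaMorphism.left hΨ2)
      (fun a b e1 e2 => pullback.hom_ext e1 e2) incl h1 h2
      (GIT.PsiY a φ hinv) (pullback.lift_fst _ _ _) (pullback.lift_snd _ _ _)
    rw [← hΨ]
    infer_instance

end Groth.Agent.Lib.PBGeomQuot
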