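import Groth.Statements.S18975
import Groth.Agent.Lib.PBGeomQuot_lead
import Groth.Agent.Lib.AffineDescent_helper7
import Groth.Agent.Lib.TorsorProp_helper7

/-! # An fpqc torsor under an affine group is affine and a geometric quotient (lead) -/

set_option backward.isDefEq.respectTransparency false
set_option backward.isDefEq.respectTransparency.types false
set_option linter.unusedSimpArgs false
set_option linter.unusedVariables false
set_option linter.unusedSectionVars false
set_option linter.style.longLine false
set_option linter.style.haveILetI false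
set_option maxHeartbeats 800000

universe u

open CategoryTheory CategoryTheory.Limits MonoidalCategory CartesianMonoidalCategory MonObj GrpObj
  AlgebraicGeometry Opposite Topology

namespace Groth.Agent.Lib.TorsorGeomQuot

open Groth.Agent.Lib.AssocBundle Groth.Agent.Lib.GeomQuotSep Groth.Agent.Lib.PBGeomQuot SchFpqcCovH7
  Groth.Agent.Lib.TorsorProp_helper7 Groth.Agent.Lib.AffineDescent_helper7
  Groth.Agent.Lib.TorsorFF_helper7

/-- A property of morphisms that is Zariski-local on the target, stable under base change and
descends along fpqc morphisms passes from `G → S` to any fpqc-locally trivial `G`-bundle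
`φ : X → Y`. -/
theorem prop_of_bundle (P : MorphismProperty Scheme.{u}) [IsZariskiLocalAtTarget P]
    [P.IsStableUnderBaseChange] [P.DescendsAlong (@Surjective ⊓ @Flat ⊓ @QuasiCompact)]
    {S : Scheme.{u}} {G X Y : Over S} (act : G ⊗ X ⟶ X) (φ : X ⟶ Y)
    (hcart : IsPullback act (snd G X) φ φ)
    (hloc : NonAbH1.IsLocallyTrivialFor Scheme.fpqcPrecoverage (Over.mk φ.left : Over Y.left))
    (hG : P G.hom) : P φ.left := by
  obtain ⟨R, hR, hsec⟩ := hloc
  have sq : IsPullback act.left (snd G X).left φ.left φ.left := hcart.map (Over.forget S)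
  have hsnd : P (snd G X).left := by
    have h0 : IsPullback (fst G X).left (snd G X).left G.hom X.hom :=
      IsPullback.of_hasPullback G.hom X.hom
    exact P.of_isPullback h0 hG
  have hbase : P (pullback.snd φ.left φ.left) := by
    have e : sq.isoPullback.hom ≫ pullback.snd φ.left φ.left = (snd G X).left :=
      sq.isoPullback_hom_snd
    have e' : pullback.snd φ.left φ.left = sq.isoPullback.inv ≫ (snd G X).left :=
      (Iso.eq_inv_comp _).2 e
    rw [e', P.cancel_left_of_respectsIso]
    exact hsnd
  refine P_of_fpqc_aux P φ.left (𝟙 Y.left) hR (fun T f hf => ?_)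
  obtain ⟨s, hs⟩ := hsec f hf
  have hs' : s ≫ φ.left = f := hs
  have h1 : P (pullback.snd φ.left f) := P_snd_precomp P φ.left φ.left s f hs' hbase
  exact P_snd_precomp P φ.left f (pullback.snd (𝟙 Y.left) f) (pullback.fst (𝟙 Y.left) f)
    (pullback.condition.symm.trans (Category.comp_id _)) h1

theorem main (k : Type u) [Field k]
    (G X Y : Over (Spec (CommRingCat.of k))) [GrpObj G] [IsAffine G.left] [LocallyOfFiniteType G.hom]
    (a : AlgGrp.Action G X) (φ : X ⟶ Y)
    (hcart : IsPullback a.act (snd G X) φ φ)
    (hloc : NonAbH1.IsLocallyTrivialFor Scheme.fpqcPrecoverage (Over.mk φ.left : Over Y.left)) :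
    IsAffineHom φ.left ∧ GIT.IsGeomQuot a φ := by
  haveI := isAffineHom_descends.{u}
  haveI := flat_descends.{u}
  haveI : IsNoetherianRing (CommRingCat.of k) := inferInstanceAs (IsNoetherianRing k)
  haveI : LocallyOfFinitePresentation G.hom := inferInstance
  haveI hAff : IsAffineHom φ.left := prop_of_bundle @IsAffineHom a.act φ hcart hloc inferInstance
  haveI hFlat : Flat φ.left := prop_of_bundle @Flat a.act φ hcart hloc inferInstance
  haveI hLFP : LocallyOfFinitePresentation φ.left :=
    prop_of_bundle @LocallyOfFinitePresentation a.act φ hcart hloc inferInstance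
  haveI hSurj : Surjective φ.left :=
    prop_of_bundle @Surjective a.act φ hcart hloc (surjective_grp_hom G)
  haveI : QuasiCompact φ.left := inferInstance
  haveI : UniversallyOpen φ.left := inferInstance
  have sq : IsPullback a.act.left (snd G X).left φ.left φ.left := hcart.map (Over.forget _)
  have hinv : GIT.IsInvariant a φ := hcart.w
  have hΨ : GIT.PsiY a φ hinv = sq.isoPullback.hom := by
    apply pullback.hom_ext
    · rw [sq.isoPullback_hom_fst]; exact pullback.lift_fst _ _ _
    · rw [sq.isoPullback_hom_snd]; exact pullback.lift_snd _ _ _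
  haveI : IsIso (GIT.PsiY a φ hinv) := by rw [hΨ]; infer_instance
  refine ⟨hAff, ⟨hinv, hSurj.surj, ?_, ?_, ?_⟩⟩
  · exact (GIT.PsiY a φ hinv).homeomorph.surjective
  · intro X' Y' i₁ i₂ f' hsq
    haveI : UniversallyOpen f' :=
      MorphismProperty.of_isPullback (P := @UniversallyOpen) hsq.flip inferInstance
    haveI : Surjective f' :=
      MorphismProperty.of_isPullback (P := @Surjective) hsq.flip inferInstance
    exact IsOpenMap.isQuotientMap f'.isOpenMap f'.continuous f'.surjective
  · intro U
    exact sections_core φ.left a.act.left (snd G X).left sq U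

end Groth.Agent.Lib.TorsorGeomQuot
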