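import Groth.Statements.S16675
import Groth.Agent.Lib.TorsorGeomQuot_lead

/-! # Properties of a flat surjective homomorphism versus properties of its kernel (lead) -/

set_option backward.isDefEq.respectTransparency false
set_option backward.isDefEq.respectTransparency.types false
set_option linter.unusedSimpArgs false
set_option linter.unusedVariables false
set_option linter.unusedSectionVars false
set_option linter.style.longLine false
set_option linter.style.haveILetI false
set_option maxHeartbeats 800000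

universe u

open CategoryTheory CategoryTheory.Limits MonoidalCategory CartesianMonoidalCategory MonObj GrpObj
  AlgebraicGeometry Opposite Topology

namespace Groth.Agent.Lib.IsogKernel

open Groth.Agent.Lib.AssocBundle Groth.Agent.Lib.GeomQuotSep Groth.Agent.Lib.BundleStages
  Groth.Agent.Lib.TorsorSeq SchFpqcCovH7

variable {S : Scheme.{u}}

section kernel

variable {N G Q : Over S} [GrpObj G] [GrpObj Q] (i : N ⟶ G) (q : G ⟶ Q)
  [IsMonHom q] (hker : AlgGrp.IsKernel i q)

include hker in
theorem ker_comp {T : Over S} (n : T ⟶ N) : (n ≫ i) ≫ q = 1 := by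
  rw [Category.assoc, hker.w, ← Category.assoc, Hom.one_def]
  congr 1
  exact toUnit_unique _ _

include hker in
theorem ker_lift {T : Over S} (g : T ⟶ G) (h : g ≫ q = 1) : ∃ n : T ⟶ N, n ≫ i = g := by
  have hd : g ≫ q = toUnit T ≫ η[Q] := by rw [h, Hom.one_def]
  exact ⟨hker.lift g (toUnit T) hd, hker.lift_fst _ _ _⟩

include hker in
theorem ker_mono {T : Over S} (n₁ n₂ : T ⟶ N) (h : n₁ ≫ i = n₂ ≫ i) : n₁ = n₂ :=
  hker.hom_ext h (toUnit_unique _ _)

include hker in
theorem ker_diff_left {T : Over S} (a b : T ⟶ G) (h : a ≫ q = b ≫ q) :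
    ∃ n : T ⟶ N, a = (n ≫ i) * b := by
  have hd : (a * b⁻¹) ≫ q = 1 := by
    rw [MonObj.mul_comp, GrpObj.inv_comp, h, _root_.mul_inv_cancel]
  obtain ⟨n, hn⟩ := ker_lift i q hker _ hd
  exact ⟨n, by rw [hn, _root_.inv_mul_cancel_right]⟩

theorem act_pt {T : Over S} (n : T ⟶ N) (b : T ⟶ G) :
    lift n b ≫ (i ▷ G) ≫ μ[G] = (n ≫ i) * b := by
  rw [lift_whiskerRight_assoc, Hom.mul_def]

include hker in
theorem cart_q : IsPullback ((i ▷ G) ≫ μ[G]) (snd N G) q q := by
  apply isPullback_of_exists_unique
  · have e : (i ▷ G) ≫ μ[G] = lift (fst N G) (snd N G) ≫ (i ▷ G) ≫ μ[G] := by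
      rw [lift_fst_snd, Category.id_comp]
    rw [e, act_pt, MonObj.mul_comp, ker_comp i q hker, _root_.one_mul]
  · intro T a b hab
    obtain ⟨n, hn⟩ := ker_diff_left i q hker a b hab
    exact ⟨lift n b, by rw [act_pt, ← hn], lift_snd _ _⟩
  · intro T l l' h1 h2
    have e1 : l ≫ (i ▷ G) ≫ μ[G] = ((l ≫ fst N G) ≫ i) * (l ≫ snd N G) := by
      have := act_pt i (l ≫ fst N G) (l ≫ snd N G)
      rwa [← lift_eta l] at this
    have e2 : l' ≫ (i ▷ G) ≫ μ[G] = ((l' ≫ fst N G) ≫ i) * (l' ≫ snd N G) := by
      have := act_pt i (l' ≫ fst N G) (l' ≫ snd N G)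
      rwa [← lift_eta l'] at this
    rw [e1, e2, h2] at h1
    have h3 : (l ≫ fst N G) ≫ i = (l' ≫ fst N G) ≫ i := _root_.mul_right_cancel h1
    exact CartesianMonoidalCategory.hom_ext _ _ (ker_mono i q hker _ _ h3) h2

include hker in
/-- the kernel is the base change of `q` along the unit section -/
theorem prop_kernel (P : MorphismProperty Scheme.{u}) [P.IsStableUnderBaseChange]
    (h : P q.left) : P N.hom := by
  have sq : IsPullback i.left (toUnit N).left q.left (η[Q]).left :=
    (show IsPullback i (toUnit N) q η[Q] from hker).map (Over.forget S)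
  have h1 : P (toUnit N).left := P.of_isPullback sq h
  rwa [Over.toUnit_left] at h1

open Groth.Agent.Lib.TorsorGeomQuot in
include hker in
/-- a flat surjective quasi-compact homomorphism inherits every fpqc-local property of its
kernel -/
theorem prop_of_kernel (P : MorphismProperty Scheme.{u}) [IsZariskiLocalAtTarget P]
    [P.IsStableUnderBaseChange] [P.DescendsAlong (@Surjective ⊓ @Flat ⊓ @QuasiCompact)]
    [Flat q.left] [Surjective q.left] [QuasiCompact q.left] (h : P N.hom) : P q.left := by
  refine prop_of_bundle P ((i ▷ G) ≫ μ[G]) q (cart_q i q hker) ?_ h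
  refine ⟨Presieve.singleton q.left, q.left.singleton_mem_fpqcPrecoverage, ?_⟩
  rintro S' f ⟨⟩
  exact ⟨𝟙 _, Category.id_comp _⟩

end kernel

end Groth.Agent.Lib.IsogKernel
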