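import Mathlib
import Groth.Agent.Lib.SchImGrp_helper4
import Groth.Agent.Lib.GrpLocClosed_helper4
set_option autoImplicit false
set_option linter.style.haveILetI false

universe v u

open CategoryTheory CategoryTheory.Limits AlgebraicGeometry MonoidalCategory
  CartesianMonoidalCategory MonObj

namespace OpenSubgrpH4

section abstract

variable {C : Type u} [Category.{v} C] [CartesianMonoidalCategory C]

lemma mul_inv_rev_hom (G : C) [GrpObj G] :
    lift (snd G G ≫ ι[G]) (fst G G ≫ ι[G]) ≫ μ[G] = μ[G] ≫ ι[G] := by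
  have e : fst G G * snd G G = μ[G] := by rw [Hom.mul_def, lift_fst_snd, Category.id_comp]
  rw [← Hom.mul_def]
  simp only [← Hom.inv_def]
  rw [← mul_inv_rev, e]

end abstract

variable {S : Scheme.{u}}

/-- An open subset stable under the group operations is the underlying set of an open subgroup
scheme. -/
theorem openSubgroup (G : Over S) [GrpObj G] (U : G.left.Opens)
    (h1 : ∀ pt : ↥(𝟙_ (Over S)).left, η[G].left pt ∈ U)
    (hmul : ∀ z : ↥(G ⊗ G).left, (fst G G).left z ∈ U → (snd G G).left z ∈ U →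
      μ[G].left z ∈ U)
    (hinv : ∀ x : G.left, x ∈ U → ι[G].left x ∈ U) :
    ∃ (H : Over S) (_ : GrpObj H) (i : H ⟶ G), IsMonHom i ∧ IsOpenImmersion i.left ∧
      Set.range i.left = (U : Set G.left) := by
  let H : Over S := Over.mk (U.ι ≫ G.hom)
  let i : H ⟶ G := Over.homMk U.ι rfl
  haveI hoi : IsOpenImmersion i.left := (inferInstance : IsOpenImmersion U.ι)
  haveI : Mono i.left := inferInstance
  haveI : Mono i := Over.mono_of_mono_left i
  have hrange : Set.range i.left = (U : Set G.left) := Scheme.Opens.range_ι U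
  have hmem : ∀ x : H.left, i.left x ∈ U := fun x => by
    have : i.left x ∈ Set.range i.left := ⟨x, rfl⟩
    rwa [hrange] at this
  -- one
  have r1 : Set.range η[G].left ⊆ Set.range i.left := by
    rintro _ ⟨pt, rfl⟩
    rw [hrange]; exact h1 pt
  let one' : 𝟙_ (Over S) ⟶ H := Over.homMk (IsOpenImmersion.lift i.left η[G].left r1) (by
    show _ ≫ i.left ≫ G.hom = _
    rw [IsOpenImmersion.lift_fac_assoc, Over.w])
  have ho : one' ≫ i = η[G] := by
    ext1
    exact IsOpenImmersion.lift_fac _ _ _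
  -- mul
  have r2 : Set.range ((i ⊗ₘ i) ≫ μ[G]).left ⊆ Set.range i.left := by
    rintro _ ⟨w, rfl⟩
    rw [hrange, Over.comp_left, Scheme.Hom.comp_apply]
    apply hmul
    · rw [← Scheme.Hom.comp_apply, ← Over.comp_left, tensorHom_fst, Over.comp_left,
        Scheme.Hom.comp_apply]
      exact hmem _
    · rw [← Scheme.Hom.comp_apply, ← Over.comp_left, tensorHom_snd, Over.comp_left,
        Scheme.Hom.comp_apply]
      exact hmem _
  let mul' : H ⊗ H ⟶ H := Over.homMk (IsOpenImmersion.lift i.left ((i ⊗ₘ i) ≫ μ[G]).left r2) (by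
    show _ ≫ i.left ≫ G.hom = _
    rw [IsOpenImmersion.lift_fac_assoc, Over.w])
  have hm : mul' ≫ i = (i ⊗ₘ i) ≫ μ[G] := by
    ext1
    exact IsOpenImmersion.lift_fac _ _ _
  -- inv
  have r3 : Set.range (i ≫ ι[G]).left ⊆ Set.range i.left := by
    rintro _ ⟨w, rfl⟩
    rw [hrange, Over.comp_left, Scheme.Hom.comp_apply]
    exact hinv _ (hmem _)
  let inv' : H ⟶ H := Over.homMk (IsOpenImmersion.lift i.left (i ≫ ι[G]).left r3) (by
    show _ ≫ i.left ≫ G.hom = _
    rw [IsOpenImmersion.lift_fac_assoc, Over.w])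
  have hi : inv' ≫ i = i ≫ ι[G] := by
    ext1
    exact IsOpenImmersion.lift_fac _ _ _
  letI grp : GrpObj H := SchImGrpH4.grpObjOfMono i one' ho mul' hm inv' hi
  exact ⟨H, grp, i, ⟨ho, hm⟩, hoi, hrange⟩

theorem isClosed_of_stable (K : Type u) [Field K] (G : Over (Spec (CommRingCat.of K)))
    [GrpObj G] (U : G.left.Opens)
    (h1 : ∀ pt : ↥(𝟙_ (Over (Spec (CommRingCat.of K)))).left, η[G].left pt ∈ U)
    (hmul : ∀ z : ↥(G ⊗ G).left, (fst G G).left z ∈ U → (snd G G).left z ∈ U →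
      μ[G].left z ∈ U)
    (hinv : ∀ x : G.left, x ∈ U → ι[G].left x ∈ U) : IsClosed (U : Set G.left) := by
  obtain ⟨H, grp, i, hmon, hoi, hr⟩ := openSubgroup G U h1 hmul hinv
  have := Groth.Agent.Lib.GrpLocClosedH4.main0352 K H G i (by rw [hr]; exact U.2)
  rwa [hr] at this

lemma isOpenMap_mul (G : Over S) [GrpObj G] [UniversallyOpen G.hom] :
    IsOpenMap μ[G].left := by
  haveI : UniversallyOpen (fst G G * (snd G G ≫ 𝟙 G)).left :=
    MorphismProperty.of_isPullback (P := @UniversallyOpen)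
      ((MaxOpenSubH4.isPullback_mulRight (𝟙 G)).map (Over.forget S)) ‹UniversallyOpen G.hom›
  have e : fst G G * (snd G G ≫ 𝟙 G) = μ[G] := by
    rw [Category.comp_id, Hom.mul_def, lift_fst_snd, Category.id_comp]
  rw [← e]
  exact Scheme.Hom.isOpenMap _

lemma isCompact_prod [QuasiSeparatedSpace S] (X Y : Over S) (A : X.left.Opens)
    (B : Y.left.Opens) (hA : IsCompact (A : Set X.left)) (hB : IsCompact (B : Set Y.left)) :
    IsCompact ((fst X Y).left ⁻¹' (A : Set X.left) ∩ (snd X Y).left ⁻¹' (B : Set Y.left)) := by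
  let XA : Over S := Over.mk (A.ι ≫ X.hom)
  let YB : Over S := Over.mk (B.ι ≫ Y.hom)
  let a : XA ⟶ X := Over.homMk A.ι rfl
  let b : YB ⟶ Y := Over.homMk B.ι rfl
  have hrange : Set.range (a ⊗ₘ b).left =
      (fst X Y).left ⁻¹' Set.range a.left ∩ (snd X Y).left ⁻¹' Set.range b.left :=
    Scheme.Pullback.range_map (f := XA.hom) (g := YB.hom) X.hom Y.hom a.left b.left (𝟙 S)
      (by rw [Category.comp_id]; exact (Over.w a).symm)
      (by rw [Category.comp_id]; exact (Over.w b).symm)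
  haveI : CompactSpace XA.left := isCompact_iff_compactSpace.mp hA
  haveI : CompactSpace YB.left := isCompact_iff_compactSpace.mp hB
  haveI : QuasiCompact YB.hom := inferInstance
  haveI : CompactSpace ↥(XA ⊗ YB).left := (inferInstance : CompactSpace ↥(pullback XA.hom YB.hom))
  have h1 : Set.range a.left = (A : Set X.left) := Scheme.Opens.range_ι A
  have h2 : Set.range b.left = (B : Set Y.left) := Scheme.Opens.range_ι B
  rw [← h1, ← h2, ← hrange]
  exact isCompact_range (a ⊗ₘ b).left.continuous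

section field

variable (K : Type u) [Field K] (G : Over (Spec (CommRingCat.of K))) [GrpObj G]

lemma exists_pair_one (x : G.left) : ∃ z : ↥(G ⊗ G).left, (fst G G).left z = x ∧
    (snd G G).left z = η[G].left (IsLocalRing.closedPoint K) ∧ μ[G].left z = x := by
  have hs : Subsingleton ↥(Spec (CommRingCat.of K)) :=
    (inferInstance : Subsingleton (PrimeSpectrum K))
  refine ⟨(lift (𝟙 G) (toUnit G ≫ η[G])).left x, ?_, ?_, ?_⟩
  · rw [← Scheme.Hom.comp_apply, ← Over.comp_left, lift_fst]; rfl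
  · rw [← Scheme.Hom.comp_apply, ← Over.comp_left, lift_snd, Over.comp_left,
      Scheme.Hom.comp_apply]
    congr 1
    exact @Subsingleton.elim _ hs _ _
  · rw [← Scheme.Hom.comp_apply, ← Over.comp_left, MonObj.lift_comp_one_right]; rfl

/-- The doubling sequence. -/
noncomputable def Wseq (W₀ : Set G.left) : ℕ → Set G.left
  | 0 => W₀
  | n + 1 => μ[G].left '' ((fst G G).left ⁻¹' (Wseq W₀ n) ∩ (snd G G).left ⁻¹' (Wseq W₀ n))

lemma Wseq_succ (W₀ : Set G.left) (n : ℕ) : Wseq K G W₀ (n + 1) =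
    μ[G].left '' ((fst G G).left ⁻¹' (Wseq K G W₀ n) ∩ (snd G G).left ⁻¹' (Wseq K G W₀ n)) :=
  rfl

lemma Wseq_props (W₀ : Set G.left) (ho : IsOpen W₀) (hc : IsCompact W₀)
    (he : η[G].left (IsLocalRing.closedPoint K) ∈ W₀) (hs : ∀ x ∈ W₀, ι[G].left x ∈ W₀) (n : ℕ) :
    IsOpen (Wseq K G W₀ n) ∧ IsCompact (Wseq K G W₀ n) ∧
      η[G].left (IsLocalRing.closedPoint K) ∈ Wseq K G W₀ n ∧
      (∀ x ∈ Wseq K G W₀ n, ι[G].left x ∈ Wseq K G W₀ n) ∧
      Wseq K G W₀ n ⊆ Wseq K G W₀ (n + 1) := by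
  haveI : Subsingleton ↥(Spec (CommRingCat.of K)) :=
    (inferInstance : Subsingleton (PrimeSpectrum K))
  have hmono : ∀ m, η[G].left (IsLocalRing.closedPoint K) ∈ Wseq K G W₀ m →
      Wseq K G W₀ m ⊆ Wseq K G W₀ (m + 1) := by
    intro m hem x hx
    obtain ⟨z, hz1, hz2, hz3⟩ := exists_pair_one K G x
    rw [Wseq_succ]
    exact ⟨z, ⟨by rw [Set.mem_preimage, hz1]; exact hx, by rw [Set.mem_preimage, hz2]; exact hem⟩,
      hz3⟩
  induction n with
  | zero => exact ⟨ho, hc, he, hs, hmono 0 he⟩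
  | succ n ih =>
    obtain ⟨iho, ihc, ihe, ihs, ihm⟩ := ih
    have hopen : IsOpen (Wseq K G W₀ (n + 1)) := by
      rw [Wseq_succ]
      exact isOpenMap_mul G _ ((iho.preimage (fst G G).left.continuous).inter
        (iho.preimage (snd G G).left.continuous))
    have hcomp : IsCompact (Wseq K G W₀ (n + 1)) := by
      rw [Wseq_succ]
      exact (isCompact_prod G G ⟨_, iho⟩ ⟨_, iho⟩ ihc ihc).image μ[G].left.continuous
    have hemem : η[G].left (IsLocalRing.closedPoint K) ∈ Wseq K G W₀ (n + 1) := ihm ihe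
    refine ⟨hopen, hcomp, hemem, ?_, hmono (n + 1) hemem⟩
    intro x hx
    rw [Wseq_succ] at hx ⊢
    obtain ⟨z, ⟨hz1, hz2⟩, rfl⟩ := hx
    refine ⟨(lift (snd G G ≫ ι[G]) (fst G G ≫ ι[G])).left z, ⟨?_, ?_⟩, ?_⟩
    · rw [Set.mem_preimage, ← Scheme.Hom.comp_apply, ← Over.comp_left, lift_fst, Over.comp_left,
        Scheme.Hom.comp_apply]
      exact ihs _ hz2
    · rw [Set.mem_preimage, ← Scheme.Hom.comp_apply, ← Over.comp_left, lift_snd, Over.comp_left,
        Scheme.Hom.comp_apply]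
      exact ihs _ hz1
    · rw [← Scheme.Hom.comp_apply, ← Over.comp_left, mul_inv_rev_hom, Over.comp_left,
        Scheme.Hom.comp_apply]

set_option maxHeartbeats 1600000 in
theorem main1865 : ∃ U : G.left.Opens, IsClosed (U : Set G.left) ∧
    η[G].left (IsLocalRing.closedPoint K) ∈ U ∧ ∃ V : ℕ → G.left.Opens,
      (∀ n, IsAffineOpen (V n)) ∧ (U : Set G.left) = ⋃ n, (V n : Set G.left) := by
  haveI hsub : Subsingleton ↥(Spec (CommRingCat.of K)) :=
    (inferInstance : Subsingleton (PrimeSpectrum K))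
  set e : G.left := η[G].left (IsLocalRing.closedPoint K) with he_def
  obtain ⟨U₀, hU₀, heU₀, -⟩ := exists_isAffineOpen_mem_and_subset (U := ⊤) (x := e) (by simp)
  -- the inverse is an involution
  have hinvinv : ∀ x : G.left, ι[G].left (ι[G].left x) = x := by
    intro x
    rw [← Scheme.Hom.comp_apply, ← Over.comp_left, GrpObj.inv_comp_inv]
    rfl
  have hinve : ι[G].left e = e := by
    rw [he_def, ← Scheme.Hom.comp_apply, ← Over.comp_left, GrpObj.one_inv]
  haveI : IsIso ι[G].left := by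
    refine ⟨ι[G].left, ?_, ?_⟩ <;>
    · rw [← Over.comp_left, GrpObj.inv_comp_inv]; rfl
  let U₁ : G.left.Opens := ι[G].left ⁻¹ᵁ U₀
  have hU₁ : IsAffineOpen U₁ := hU₀.preimage_of_isIso ι[G].left
  let W₀ : Set G.left := (U₀ : Set G.left) ∪ (U₁ : Set G.left)
  have hW₀o : IsOpen W₀ := U₀.2.union U₁.2
  have hW₀c : IsCompact W₀ := hU₀.isCompact.union hU₁.isCompact
  have hW₀e : e ∈ W₀ := Or.inl heU₀
  have hW₀s : ∀ x ∈ W₀, ι[G].left x ∈ W₀ := by
    rintro x (hx | hx)
    · right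
      show ι[G].left (ι[G].left x) ∈ U₀
      rw [hinvinv]; exact hx
    · left
      exact hx
  have hP := Wseq_props K G W₀ hW₀o hW₀c hW₀e hW₀s
  have hmono : Monotone (Wseq K G W₀) := monotone_nat_of_le_succ fun n => (hP n).2.2.2.2
  let U : G.left.Opens := ⟨⋃ n, Wseq K G W₀ n, isOpen_iUnion fun n => (hP n).1⟩
  have hUmem : ∀ x : G.left, x ∈ U ↔ ∃ n, x ∈ Wseq K G W₀ n := fun x => Set.mem_iUnion
  have heU : e ∈ U := (hUmem e).2 ⟨0, hW₀e⟩
  have hclosed : IsClosed (U : Set G.left) := by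
    refine isClosed_of_stable K G U ?_ ?_ ?_
    · intro pt
      have : pt = IsLocalRing.closedPoint K := @Subsingleton.elim _ hsub _ _
      rw [this]; exact heU
    · intro z hz1 hz2
      obtain ⟨a, ha⟩ := (hUmem _).1 hz1
      obtain ⟨b, hb⟩ := (hUmem _).1 hz2
      refine (hUmem _).2 ⟨max a b + 1, ?_⟩
      rw [Wseq_succ]
      exact ⟨z, ⟨hmono (le_max_left a b) ha, hmono (le_max_right a b) hb⟩, rfl⟩
    · intro x hx
      obtain ⟨a, ha⟩ := (hUmem _).1 hx
      exact (hUmem _).2 ⟨a, (hP a).2.2.2.1 x ha⟩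
  refine ⟨U, hclosed, heU, ?_⟩
  -- countable union of affines
  have hfin : ∀ n, ∃ s : Set G.left.affineOpens, s.Finite ∧
      Wseq K G W₀ n = ⋃ i ∈ s, (i : Set G.left) := fun n =>
    isCompact_and_isOpen_iff_finite_and_eq_biUnion_affineOpens.mp ⟨(hP n).2.1, (hP n).1⟩
  choose s hsfin hs using hfin
  let T : Set G.left.affineOpens := ⋃ n, s n
  have hTc : T.Countable := Set.countable_iUnion fun n => (hsfin n).countable
  have hTne : T.Nonempty := by
    have h0 : e ∈ ⋃ i ∈ s 0, (i : Set G.left) := by rw [← hs 0]; exact hW₀e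
    obtain ⟨i, hi, -⟩ := Set.mem_iUnion₂.1 h0
    exact ⟨i, Set.mem_iUnion.2 ⟨0, hi⟩⟩
  obtain ⟨f, hf⟩ := hTc.exists_eq_range hTne
  refine ⟨fun k => (f k : G.left.Opens), fun k => (f k).2, ?_⟩
  ext x
  constructor
  · intro hx
    obtain ⟨n, hn⟩ := (hUmem x).1 hx
    rw [hs n] at hn
    obtain ⟨i, hi, hxi⟩ := Set.mem_iUnion₂.1 hn
    have hiT : i ∈ T := Set.mem_iUnion.2 ⟨n, hi⟩
    rw [hf] at hiT
    obtain ⟨k, rfl⟩ := hiT
    exact Set.mem_iUnion.2 ⟨k, hxi⟩
  · intro hx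
    obtain ⟨k, hk⟩ := Set.mem_iUnion.1 hx
    have hkT : f k ∈ T := by rw [hf]; exact ⟨k, rfl⟩
    obtain ⟨n, hn⟩ := Set.mem_iUnion.1 hkT
    refine (hUmem x).2 ⟨n, ?_⟩
    rw [hs n]
    exact Set.mem_iUnion₂.2 ⟨f k, hn, hk⟩

end field

end OpenSubgrpH4
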