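import Mathlib

/-!
# fpqc descent of quasi-compact, quasi-separated, affine, closed immersions, finite, integral,
separated, proper morphisms (helper6)
-/

set_option autoImplicit false
universe u
open CategoryTheory CategoryTheory.Limits AlgebraicGeometry Opposite TopologicalSpace Topology
  MorphismProperty

namespace Groth.Agent.Lib.SchDescent_helper6

/-- Quasi-compactness descends along surjective quasi-compact morphisms. -/
theorem descendsAlong_quasiCompact :
    DescendsAlong @QuasiCompact (@Surjective ⊓ @Flat ⊓ @QuasiCompact : MorphismProperty Scheme.{u}) := by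
  refine ⟨fun {A X Y Z fst snd f g} h hf hfst => ?_⟩
  obtain ⟨⟨hs, _⟩, hq⟩ := hf
  haveI : QuasiCompact f := hq
  haveI : QuasiCompact fst := hfst
  have hsnd : Surjective snd := MorphismProperty.of_isPullback (P := @Surjective) h hs
  refine ⟨fun U hUo hUc => ?_⟩
  have h1 : IsCompact (fst ⁻¹' (f ⁻¹' U)) :=
    QuasiCompact.isCompact_preimage (f := fst) _ (hUo.preimage f.continuous)
      (QuasiCompact.isCompact_preimage (f := f) _ hUo hUc)
  have h2 : fst ⁻¹' (f ⁻¹' U) = snd ⁻¹' (g ⁻¹' U) := by
    ext a
    simp only [Set.mem_preimage]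
    rw [← Scheme.Hom.comp_apply, ← Scheme.Hom.comp_apply, h.w]
  rw [h2] at h1
  have h3 := h1.image snd.continuous
  haveI := hsnd
  rwa [Set.image_preimage_eq _ snd.surjective] at h3

attribute [local instance] descendsAlong_quasiCompact

theorem descendsAlong_quasiSeparated :
    DescendsAlong @QuasiSeparated (@Surjective ⊓ @Flat ⊓ @QuasiCompact : MorphismProperty Scheme.{u}) := by
  rw [quasiSeparated_eq_diagonal_is_quasiCompact]
  infer_instance

attribute [local instance] descendsAlong_quasiSeparated

/-- A scheme over an affine base which becomes affine after a faithfully flat affine base change is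
affine. -/
theorem isAffine_of_isAffine_pullback {R S : CommRingCat.{u}} {X : Scheme.{u}} (φ : R ⟶ S)
    (g : X ⟶ Spec R) (hφs : Surjective (Spec.map φ)) (hφf : Flat (Spec.map φ))
    [IsAffine (pullback (Spec.map φ) g)] : IsAffine X := by
  haveI := hφs
  haveI := hφf
  let f := Spec.map φ
  let p1 := pullback.fst f g
  let p2 := pullback.snd f g
  have H : IsPullback p2 p1 g f := (IsPullback.of_hasPullback f g).flip
  have hfpqc : (@Surjective ⊓ @Flat ⊓ @QuasiCompact : MorphismProperty Scheme.{u}) f :=
    ⟨⟨hφs, hφf⟩, inferInstance⟩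
  -- `X` is quasi-compact
  haveI : Surjective p2 := inferInstance
  haveI : CompactSpace X := p2.surjective.compactSpace p2.continuous
  -- `X` is quasi-separated
  haveI : QuasiSeparated p1 := inferInstance
  haveI : QuasiSeparated g :=
    MorphismProperty.of_pullback_fst_of_descendsAlong (P := @QuasiSeparated)
      (Q := (@Surjective ⊓ @Flat ⊓ @QuasiCompact : MorphismProperty Scheme.{u})) hfpqc ‹_›
  haveI : QuasiSeparatedSpace X := (quasiSeparated_iff_quasiSeparatedSpace g).1 inferInstance
  -- flat base change
  have hiso : IsIso (pushoutSection H (US := ⊤) (UT := ⊤) (UX := ⊤) (UY := ⊤)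
      (by simp) (by simp) (by simp)) :=
    isIso_pushoutSection_of_isQuasiSeparated_of_flat_right H _ _ _ (isAffineOpen_top _)
      (isAffineOpen_top _) CompactSpace.isCompact_univ isQuasiSeparated_univ
  have hpo := (isIso_pushoutSection_iff H (US := ⊤) (UT := ⊤) (UX := ⊤) (UY := ⊤)
      (by simp) (by simp) (by simp)).1 hiso
  have hpo' : IsPushout g.appTop f.appTop p2.appTop p1.appTop := by
    convert hpo using 1 <;> simp [Scheme.Hom.appLE, Scheme.Hom.appTop]
  have hD : IsPullback (Spec.map p2.appTop) (Spec.map p1.appTop) (Spec.map g.appTop)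
      (Spec.map f.appTop) := isPullback_SpecMap_of_isPushout _ _ _ _ hpo'
  -- the iso square on the base
  have hbase : IsPullback (Spec S).toSpecΓ f (Spec.map f.appTop) (Spec R).toSpecΓ :=
    IsPullback.of_horiz_isIso ⟨(Scheme.toSpecΓ_naturality f).symm⟩
  have hbig : IsPullback (p1 ≫ (Spec S).toSpecΓ) p2 (Spec.map f.appTop) (g ≫ (Spec R).toSpecΓ) :=
    H.flip.paste_horiz hbase
  rw [Scheme.toSpecΓ_naturality p1, Scheme.toSpecΓ_naturality g] at hbig
  have hL : IsPullback (pullback f g).toSpecΓ p2 (Spec.map p2.appTop) X.toSpecΓ :=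
    IsPullback.of_right hbig (Scheme.toSpecΓ_naturality p2).symm hD.flip
  -- the cover
  have hcov0 : (@Surjective ⊓ @Flat ⊓ @QuasiCompact : MorphismProperty Scheme.{u})
      (Spec.map f.appTop) := by
    have e : Spec.map f.appTop = inv (Spec S).toSpecΓ ≫ f ≫ (Spec R).toSpecΓ := by
      rw [IsIso.eq_inv_comp, Scheme.toSpecΓ_naturality]
    rw [e]
    exact (MorphismProperty.cancel_left_of_respectsIso
      (P := (@Surjective ⊓ @Flat ⊓ @QuasiCompact : MorphismProperty Scheme.{u}))
      (inv (Spec S).toSpecΓ) (f ≫ (Spec R).toSpecΓ)).2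
      ((MorphismProperty.cancel_right_of_respectsIso
        (P := (@Surjective ⊓ @Flat ⊓ @QuasiCompact : MorphismProperty Scheme.{u}))
        f (Spec R).toSpecΓ).2 hfpqc)
  have hcov : (@Surjective ⊓ @Flat ⊓ @QuasiCompact : MorphismProperty Scheme.{u})
      (Spec.map p2.appTop) := MorphismProperty.of_isPullback hD.flip hcov0
  have hisoX : (isomorphisms Scheme.{u}) X.toSpecΓ :=
    MorphismProperty.of_isPullback_of_descendsAlong (P := isomorphisms Scheme.{u})
      (Q := (@Surjective ⊓ @Flat ⊓ @QuasiCompact : MorphismProperty Scheme.{u})) hL hcov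
      (inferInstanceAs (IsIso (pullback f g).toSpecΓ))
  exact ⟨hisoX⟩

theorem le_fpqc : (@IsLocalIso ⊓ @Surjective : MorphismProperty Scheme.{u}) ≤
    (@Surjective ⊓ @Flat : MorphismProperty Scheme.{u}) := by
  rw [inf_comm]
  exact inf_le_inf le_rfl (IsLocalIso.le_of_isZariskiLocalAtSource _)

theorem descendsAlong_isAffineHom :
    DescendsAlong @IsAffineHom (@Surjective ⊓ @Flat ⊓ @QuasiCompact : MorphismProperty Scheme.{u}) := by
  refine IsZariskiLocalAtTarget.descendsAlong_inf_quasiCompact _ _ le_fpqc ?_
  intro R S Y φ g hφ hfst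
  haveI : IsAffineHom (pullback.fst (Spec.map φ) g) := hfst
  haveI : IsAffine (pullback (Spec.map φ) g) := isAffine_of_isAffineHom (pullback.fst (Spec.map φ) g)
  haveI : IsAffine Y := isAffine_of_isAffine_pullback φ g hφ.1 hφ.2
  exact (inferInstance : IsAffineHom g)

end Groth.Agent.Lib.SchDescent_helper6

namespace Groth.Agent.Lib.SchDescent_helper6

open TensorProduct

attribute [local instance] descendsAlong_isAffineHom

theorem fpqc_spec_faithfullyFlat {R S : CommRingCat.{u}} {f : R ⟶ S}
    (h : (@Surjective ⊓ @Flat : MorphismProperty Scheme.{u}) (Spec.map f)) :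
    f.hom.FaithfullyFlat := by
  obtain ⟨hf₁, hf₂⟩ := h
  rw [RingHom.FaithfullyFlat.iff_flat_and_comap_surjective]
  refine ⟨?_, (Spec.map f).surjective⟩
  rwa [HasRingHomProperty.Spec_iff (P := @Flat)] at hf₂

/-- fpqc descent for properties of the form "affine and `Q` on global sections". -/
theorem descendsAlong_of_affineAnd {P : MorphismProperty Scheme.{u}} [P.IsStableUnderBaseChange]
    {Q : ∀ {R S : Type u} [CommRing R] [CommRing S], (R →+* S) → Prop}
    (hP : HasAffineProperty P (affineAnd Q)) (hQ : RingHom.RespectsIso Q)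
    (hQQ' : RingHom.CodescendsAlong Q RingHom.FaithfullyFlat) :
    P.DescendsAlong (@Surjective ⊓ @Flat ⊓ @QuasiCompact : MorphismProperty Scheme.{u}) := by
  apply IsZariskiLocalAtTarget.descendsAlong_inf_quasiCompact _ _ le_fpqc
  introv h hf
  have : IsAffine Y := by
    haveI haff : IsAffineHom (pullback.fst (Spec.map φ) g) :=
      HasAffineProperty.affineAnd_le_isAffineHom P inferInstance _ hf
    haveI : IsAffine (pullback (Spec.map φ) g) :=
      isAffine_of_isAffineHom (pullback.fst (Spec.map φ) g)
    exact isAffine_of_isAffine_pullback φ g h.1 h.2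
  wlog hY : ∃ S, Y = Spec S generalizing Y
  · rw [← P.cancel_left_of_respectsIso Y.isoSpec.inv]
    have heq : pullback.fst (Spec.map φ) (Y.isoSpec.inv ≫ g) =
        pullback.map _ _ _ _ (𝟙 _) (Y.isoSpec.inv) (𝟙 _) (by simp) (by simp) ≫
          pullback.fst (Spec.map φ) g := (pullback.lift_fst _ _ _).symm
    refine this _ ?_ inferInstance ⟨_, rfl⟩
    rwa [heq, P.cancel_left_of_respectsIso]
  obtain ⟨Y, rfl⟩ := hY
  apply of_pullback_fst_Spec_of_codescendsAlong _ _ hQQ' fpqc_spec_faithfullyFlat _ h hf
  simp [HasAffineProperty.SpecMap_iff_of_affineAnd _ hQ]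

theorem descendsAlong_isClosedImmersion :
    DescendsAlong @IsClosedImmersion
      (@Surjective ⊓ @Flat ⊓ @QuasiCompact : MorphismProperty Scheme.{u}) := by
  have hP : HasAffineProperty @IsClosedImmersion (affineAnd (fun f => Function.Surjective f)) :=
    IsClosedImmersion.hasAffineProperty
  exact descendsAlong_of_affineAnd hP RingHom.surjective_respectsIso
    RingHom.FaithfullyFlat.codescendsAlong_surjective

theorem descendsAlong_isFinite :
    DescendsAlong @IsFinite
      (@Surjective ⊓ @Flat ⊓ @QuasiCompact : MorphismProperty Scheme.{u}) := by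
  have hP : HasAffineProperty @IsFinite (affineAnd RingHom.Finite) := inferInstance
  exact descendsAlong_of_affineAnd hP RingHom.finite_respectsIso
    RingHom.Finite.codescendsAlong_faithfullyFlat

attribute [local instance] descendsAlong_isClosedImmersion

theorem descendsAlong_isSeparated :
    DescendsAlong @IsSeparated
      (@Surjective ⊓ @Flat ⊓ @QuasiCompact : MorphismProperty Scheme.{u}) := by
  rw [IsSeparated.isSeparated_eq_diagonal_isClosedImmersion]
  infer_instance

attribute [local instance] descendsAlong_isSeparated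

theorem descendsAlong_locallyOfFiniteType :
    DescendsAlong @LocallyOfFiniteType
      (@Surjective ⊓ @Flat ⊓ @QuasiCompact : MorphismProperty Scheme.{u}) :=
  HasRingHomProperty.descendsAlong_flat RingHom.FiniteType.codescendsAlong_faithfullyFlat

attribute [local instance] descendsAlong_locallyOfFiniteType

theorem descendsAlong_isProper :
    DescendsAlong @IsProper
      (@Surjective ⊓ @Flat ⊓ @QuasiCompact : MorphismProperty Scheme.{u}) := by
  rw [isProper_eq]
  infer_instance

/-- Integrality descends along faithfully flat base change. -/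
theorem isIntegral_of_tensorProduct (R S T : Type u) [CommRing R] [CommRing S] [CommRing T]
    [Algebra R S] [Algebra R T] [Module.FaithfullyFlat R S]
    (h : (algebraMap S (S ⊗[R] T)).IsIntegral) : (algebraMap R T).IsIntegral := by
  intro t
  let T₀ : Subalgebra R T := Algebra.adjoin R {t}
  let ι : S ⊗[R] T₀ →ₐ[S] S ⊗[R] T := Algebra.TensorProduct.map (AlgHom.id S S) T₀.val
  have hιl : (ι : S ⊗[R] T₀ → S ⊗[R] T) = LinearMap.lTensor S (T₀.val.toLinearMap) := by
    ext x
    induction x using TensorProduct.induction_on with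
    | zero => simp
    | tmul s x => simp [ι]
    | add a b ha hb => simp only [map_add, ha, hb]
  have hι : Function.Injective ι := by
    rw [hιl]
    exact Module.Flat.lTensor_preserves_injective_linearMap (M := S) T₀.val.toLinearMap
      Subtype.val_injective
  let y : S ⊗[R] T := 1 ⊗ₜ t
  have hy : IsIntegral S y := h y
  have hmem : ∀ x ∈ T₀, (1 : S) ⊗ₜ[R] x ∈ Algebra.adjoin S {y} := by
    intro x hx
    induction hx using Algebra.adjoin_induction with
    | mem x hx =>
      rw [Set.mem_singleton_iff] at hx
      subst hx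
      exact Algebra.subset_adjoin rfl
    | algebraMap r =>
      have : (1 : S) ⊗ₜ[R] (algebraMap R T r) = algebraMap S (S ⊗[R] T) (algebraMap R S r) := by
        rw [Algebra.TensorProduct.algebraMap_apply, Algebra.algebraMap_eq_smul_one r,
          Algebra.algebraMap_eq_smul_one r, TensorProduct.tmul_smul, TensorProduct.smul_tmul']
        simp
      rw [this]
      exact Subalgebra.algebraMap_mem _ _
    | add a b _ _ ha hb => rw [TensorProduct.tmul_add]; exact add_mem ha hb
    | mul a b _ _ ha hb =>
      have : (1 : S) ⊗ₜ[R] (a * b) = (1 ⊗ₜ a) * (1 ⊗ₜ b) := by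
        rw [Algebra.TensorProduct.tmul_mul_tmul, one_mul]
      rw [this]; exact mul_mem ha hb
  have hrange : ι.range = Algebra.adjoin S {y} := by
    apply le_antisymm
    · rintro _ ⟨x, rfl⟩
      induction x using TensorProduct.induction_on with
      | zero => simp
      | tmul s x =>
        have : ι (s ⊗ₜ x) = s • ((1 : S) ⊗ₜ[R] (x : T)) := by
          simp [ι, TensorProduct.smul_tmul']
        change ι (s ⊗ₜ x) ∈ _
        rw [this]
        exact Subalgebra.smul_mem _ (hmem x.1 x.2) s
      | add a b ha hb => rw [map_add]; exact add_mem ha hb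
    · apply Algebra.adjoin_le
      rintro _ rfl
      exact ⟨1 ⊗ₜ ⟨t, Algebra.subset_adjoin rfl⟩, by simp [ι, y]⟩
  have hfin : Module.Finite S (S ⊗[R] T₀) := by
    have h1 : Module.Finite S (Algebra.adjoin S {y}) :=
      Module.Finite.iff_fg.2 hy.fg_adjoin_singleton
    have h2 : Module.Finite S ι.range := by rw [hrange]; exact h1
    let e : (S ⊗[R] T₀) ≃ₗ[S] ι.range := (AlgEquiv.ofInjective ι hι).toLinearEquiv
    exact Module.Finite.equiv e.symm
  haveI : Module.Finite R T₀ := Module.Finite.of_finite_tensorProduct_of_faithfullyFlat S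
  have h3 : IsIntegral R (⟨t, Algebra.subset_adjoin rfl⟩ : T₀) := IsIntegral.of_finite R _
  exact h3.map T₀.val

theorem isIntegral_codescendsAlong_faithfullyFlat :
    RingHom.CodescendsAlong (fun f => f.IsIntegral) RingHom.FaithfullyFlat := by
  refine .mk _ RingHom.isIntegral_respectsIso fun R S T _ _ _ _ _ h h' ↦ ?_
  rw [RingHom.faithfullyFlat_algebraMap_iff] at h
  exact isIntegral_of_tensorProduct R S T h'

theorem descendsAlong_isIntegralHom :
    DescendsAlong @IsIntegralHom
      (@Surjective ⊓ @Flat ⊓ @QuasiCompact : MorphismProperty Scheme.{u}) := by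
  have hP : HasAffineProperty @IsIntegralHom (affineAnd RingHom.IsIntegral) := inferInstance
  exact descendsAlong_of_affineAnd hP RingHom.isIntegral_respectsIso
    isIntegral_codescendsAlong_faithfullyFlat

end Groth.Agent.Lib.SchDescent_helper6
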