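import Groth.Agent.Lib.IsogFib2_lead
import Groth.Agent.Lib.IsogKernel_lead
import Groth.Agent.Lib.SchDescent_helper6
import Groth.Agent.Lib.OpenSubgrp_helper4
import Groth.Agent.Lib.AlgSpFibreFlat2_helper7
import Groth.Agent.Lib.AlgSpLocP9_helper7
import Groth.Agent.Lib.FlatFibDim_helper8
import Groth.Agent.Lib.FibCoh_helper8
import Groth.Agent.Lib.DimGenFib_helper8
import Groth.Agent.Lib.FibRes2_helper8
import Groth.Statements.S7815
import Groth.Statements.S7801

/-! # Isogenies of group schemes via their fibres (lead) -/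

set_option backward.isDefEq.respectTransparency false
set_option backward.isDefEq.respectTransparency.types false
set_option linter.unusedSimpArgs false
set_option linter.unusedVariables false
set_option linter.unusedSectionVars false
set_option linter.style.longLine false
set_option linter.style.haveILetI false
set_option linter.unnecessarySimpa false
set_option maxHeartbeats 800000

universe u

open CategoryTheory CategoryTheory.Limits MonoidalCategory CartesianMonoidalCategory MonObj GrpObj
  AlgebraicGeometry Opposite Topology TopologicalSpace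

namespace Groth.Agent.Lib.IsogFibre

theorem sq_whiskerR {S : Scheme.{u}} {X Y Y' : Over S} (φ : Y' ⟶ Y) :
    IsPullback (φ ▷ X) (fst Y' X) (fst Y X) φ := by
  apply Groth.Agent.Lib.AssocBundle.isPullback_of_exists_unique
  · rw [whiskerRight_fst]
  · intro T b c hbc
    refine ⟨lift c (b ≫ snd Y X), ?_, lift_fst _ _⟩
    apply CartesianMonoidalCategory.hom_ext
    · rw [Category.assoc, whiskerRight_fst, lift_fst_assoc, hbc]
    · rw [Category.assoc, whiskerRight_snd, lift_snd]
  · intro T l l' h1 h2
    apply CartesianMonoidalCategory.hom_ext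
    · exact h2
    · have h3 := congrArg (fun m => m ≫ snd Y X) h1
      simp only [Category.assoc, whiskerRight_snd] at h3
      exact h3

section field

variable {k : Type u} [Field k]

/-- an open homomorphism to a connected group scheme over a field is surjective -/
theorem surj_of_open {G H : Over (Spec (CommRingCat.of k))} [GrpObj G] [GrpObj H] (ψ : G ⟶ H)
    [IsMonHom ψ] (hopen : IsOpenMap ψ.left) [ConnectedSpace H.left] : Surjective ψ.left := by
  obtain ⟨U, hU⟩ : ∃ U : H.left.Opens, (U : Set H.left) = Set.range ψ.left :=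
    ⟨⟨Set.range ψ.left, hopen.isOpen_range⟩, rfl⟩
  have hmemU : ∀ x : H.left, x ∈ U ↔ x ∈ Set.range ψ.left := by
    intro x
    rw [← hU]
    exact Iff.rfl
  have hηψ : η[G] ≫ ψ = η[H] := IsMonHom.one_hom ψ
  have hιψ : ψ ≫ ι[H] = ι[G] ≫ ψ := by
    have h := GrpObj.inv_comp (𝟙 G) ψ
    simp only [Hom.inv_def, Category.id_comp] at h
    exact h.symm
  have hμψ : μ[G] ≫ ψ = (ψ ⊗ₘ ψ) ≫ μ[H] := IsMonHom.mul_hom ψ
  have hcl : IsClosed (U : Set H.left) := by
    refine OpenSubgrpH4.isClosed_of_stable k H U ?_ ?_ ?_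
    · intro pt
      rw [hmemU, ← hηψ]
      exact ⟨η[G].left pt, rfl⟩
    · intro z hz1 hz2
      rw [hmemU] at hz1 hz2 ⊢
      obtain ⟨g₁, hg₁⟩ := hz1
      obtain ⟨g₂, hg₂⟩ := hz2
      have sq1 : IsPullback (H ◁ ψ).left (snd H G).left (snd H H).left ψ.left :=
        Groth.Agent.Lib.FinGrpSplit.isPullback_whiskerLeft H ψ
      obtain ⟨z₁, hz₁a, hz₁b⟩ :=
        Groth.Agent.Lib.ClosedOrbit.exists_of_isPullback sq1 z g₂ hg₂.symm
      have sq2 : IsPullback (ψ ▷ G).left (fst G G).left (fst H G).left ψ.left :=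
        (sq_whiskerR (X := G) ψ).map (Over.forget _)
      have hz₁c : (fst H G).left z₁ = ψ.left g₁ := by
        have e : (fst H G) = (H ◁ ψ) ≫ fst H H := (whiskerLeft_fst H ψ).symm
        have e' : (fst H G).left z₁ = (fst H H).left ((H ◁ ψ).left z₁) := by rw [e]; rfl
        rw [e', hz₁a, hg₁]
      obtain ⟨w, hwa, hwb⟩ :=
        Groth.Agent.Lib.ClosedOrbit.exists_of_isPullback sq2 z₁ g₁ hz₁c
      have e : (μ[G] ≫ ψ).left w = μ[H].left z := by
        rw [hμψ, MonoidalCategory.tensorHom_def]
        show μ[H].left ((H ◁ ψ).left ((ψ ▷ G).left w)) = _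
        rw [hwa, hz₁a]
      exact ⟨μ[G].left w, e⟩
    · intro x hx
      rw [hmemU] at hx ⊢
      obtain ⟨g, rfl⟩ := hx
      have e : (ι[G] ≫ ψ).left g = ι[H].left (ψ.left g) := by
        rw [← hιψ]; rfl
      exact ⟨ι[G].left g, e⟩
  have hclopen : IsClopen (U : Set H.left) := ⟨hcl, U.2⟩
  have hne : (U : Set H.left).Nonempty := by
    obtain ⟨pt⟩ : Nonempty ↥(𝟙_ (Over (Spec (CommRingCat.of k)))).left :=
      (inferInstance : Nonempty (PrimeSpectrum k))
    refine ⟨η[H].left pt, ?_⟩
    rw [hU, ← hηψ]
    exact ⟨η[G].left pt, rfl⟩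
  have huniv := hclopen.eq_univ hne
  refine ⟨fun y => ?_⟩
  have hy : y ∈ (U : Set H.left) := by rw [huniv]; trivial
  rw [hU] at hy
  exact hy

/-- a flat surjective quasi-compact locally quasi-finite homomorphism of group schemes over a
field is finite -/
theorem finite_of_lqf {G H : Over (Spec (CommRingCat.of k))} [GrpObj G] [GrpObj H] (ψ : G ⟶ H)
    [IsMonHom ψ] [Flat ψ.left] [Surjective ψ.left] [QuasiCompact ψ.left]
    [LocallyQuasiFinite ψ.left] : IsFinite ψ.left := by
  obtain ⟨N, i, hker⟩ : ∃ (N : Over (Spec (CommRingCat.of k))) (i : N ⟶ G),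
      AlgGrp.IsKernel i ψ := by
    refine ⟨pullback ψ η[H], pullback.fst ψ η[H], ?_⟩
    have h := IsPullback.of_hasPullback ψ η[H]
    have e : pullback.snd ψ η[H] = toUnit _ := toUnit_unique _ _
    rw [e] at h
    exact h
  have h1 : LocallyQuasiFinite N.hom :=
    Groth.Agent.Lib.IsogKernel.prop_kernel i ψ hker @LocallyQuasiFinite ‹_›
  have h2 : QuasiCompact N.hom :=
    Groth.Agent.Lib.IsogKernel.prop_kernel i ψ hker @QuasiCompact ‹_›
  haveI : IsLocallyArtinian (Spec (CommRingCat.of k)) :=
    Scheme.isLocallyArtinianScheme_Spec.mpr (inferInstanceAs (IsArtinianRing k))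
  have h3 : IsFinite N.hom := IsFinite.of_locallyQuasiFinite N.hom
  haveI := Groth.Agent.Lib.SchDescent_helper6.descendsAlong_isFinite.{u}
  exact Groth.Agent.Lib.IsogKernel.prop_of_kernel i ψ hker @IsFinite h3

end field

/-- a flat locally quasi-finite surjective morphism preserves dimension -/
theorem dim_eq_of_flat_lqf_surj {A B : Scheme.{u}} (ψ : A ⟶ B) [IsLocallyNoetherian B]
    [LocallyOfFiniteType ψ] [Flat ψ] [LocallyQuasiFinite ψ] [Surjective ψ] :
    topologicalKrullDim A = topologicalKrullDim B := by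
  rw [Groth.Agent.DimGenFibH8.topDim_eq_iSup_stalk A, Groth.Agent.DimGenFibH8.topDim_eq_iSup_stalk B]
  have key : ∀ x : A, ringKrullDim (A.presheaf.stalk x) = ringKrullDim (B.presheaf.stalk (ψ x)) := by
    intro x
    have h0 := FibCohH8.stalk_fiber_eq_fibCoh ψ x
    rw [FibCohH8.fibCoh_eq_zero_of_lqf] at h0
    exact Groth.Agent.FlatFibDimH8.flat_stalk_dim_eq ψ x h0
  apply le_antisymm
  · refine iSup_le fun x => ?_
    exact (key x).le.trans (le_iSup (fun y : B => ringKrullDim (B.presheaf.stalk y)) (ψ x))
  · refine iSup_le fun y => ?_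
    obtain ⟨x, rfl⟩ := ψ.surjective y
    exact (key x).symm.le.trans (le_iSup (fun x : A => ringKrullDim (A.presheaf.stalk x)) x)

variable {S : Scheme.{u}}

/-- transfer of a property between the two models of the fibre morphism -/
theorem fibre_transfer (P : MorphismProperty Scheme.{u}) [P.RespectsIso] {G H : Over S} (f : G ⟶ H)
    (s : S) :
    P ((Over.pullback (S.fromSpecResidueField s)).map f).left ↔
      P (pullback.snd f.left (H.hom.fiberι s)) := by
  have sq := (Groth.Agent.Lib.TorsorBC.isPullback_map_left (S.fromSpecResidueField s) f).flip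
  have e : sq.isoPullback.hom ≫
      pullback.snd f.left (pullback.fst H.hom (S.fromSpecResidueField s)) =
      ((Over.pullback (S.fromSpecResidueField s)).map f).left := sq.isoPullback_hom_snd
  rw [← e]
  exact P.cancel_left_of_respectsIso _ _

/-- fibrewise flatness for a surjective homomorphism onto a group scheme with reduced fibres -/
theorem flat_of_fibres (G H : Over S) [GrpObj G] [GrpObj H] [Flat G.hom]
    [LocallyOfFinitePresentation G.hom] [QuasiCompact G.hom] [LocallyOfFiniteType H.hom]
    (hred : ∀ w : S, IsReduced (Red.bc (S.fromSpecResidueField w) H).left)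
    (f : G ⟶ H) [IsMonHom f] [Surjective f.left] : Flat f.left ∧ Flat H.hom := by
  haveI : Flat (f.left ≫ H.hom) := by rw [Over.w f]; infer_instance
  haveI : LocallyOfFinitePresentation (f.left ≫ H.hom) := by rw [Over.w f]; infer_instance
  have hfib : ∀ w : S, ∃ (Uw Vw : Scheme.{u}) (p1 : Uw ⟶ G.left)
      (p2 : Uw ⟶ Spec (S.residueField w))
      (q1 : Vw ⟶ H.left) (q2 : Vw ⟶ Spec (S.residueField w)) (gw : Uw ⟶ Vw),
      IsPullback p1 p2 (f.left ≫ H.hom) (S.fromSpecResidueField w) ∧
      IsPullback q1 q2 H.hom (S.fromSpecResidueField w) ∧ gw ≫ q1 = p1 ≫ f.left ∧ gw ≫ q2 = p2 ∧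
      Flat gw := by
    intro w
    haveI : LocallyOfFiniteType (Red.bc (S.fromSpecResidueField w) G).hom :=
      (inferInstance : LocallyOfFiniteType (pullback.snd G.hom (S.fromSpecResidueField w)))
    haveI : QuasiCompact (Red.bc (S.fromSpecResidueField w) G).hom :=
      (inferInstance : QuasiCompact (pullback.snd G.hom (S.fromSpecResidueField w)))
    haveI := hred w
    have sq := Groth.Agent.Lib.TorsorBC.isPullback_map_left (S.fromSpecResidueField w) f
    haveI : Surjective ((Over.pullback (S.fromSpecResidueField w)).map f).left :=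
      MorphismProperty.of_isPullback (P := @Surjective) sq.flip ‹Surjective f.left›
    have hflat : Flat ((Over.pullback (S.fromSpecResidueField w)).map f).left :=
      Groth.Agent.Lib.GenFlatHom.flat_hom (k := ↑(S.residueField w))
        ((Over.pullback (S.fromSpecResidueField w)).map f)
    refine ⟨_, _, pullback.fst G.hom (S.fromSpecResidueField w),
      pullback.snd G.hom (S.fromSpecResidueField w),
      pullback.fst H.hom (S.fromSpecResidueField w), pullback.snd H.hom (S.fromSpecResidueField w),
      ((Over.pullback (S.fromSpecResidueField w)).map f).left, ?_,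
      IsPullback.of_hasPullback _ _, sq.w, Over.w _, hflat⟩
    rw [Over.w f]
    exact IsPullback.of_hasPullback _ _
  obtain ⟨h1, h2⟩ := Groth.Agent.Lib.AlgSpFibreFlat2H7.flat_of_fibrewise_flat' f.left H.hom hfib
  exact ⟨h1, h2 inferInstance⟩

theorem main7815 (G H : Over S) [GrpObj G] [GrpObj H]
    [Smooth G.hom] [IsSeparated G.hom] [QuasiCompact G.hom] [GeometricallyConnected G.hom]
    [Smooth H.hom] [IsSeparated H.hom] [QuasiCompact H.hom] [GeometricallyConnected H.hom]
    (f : G ⟶ H) [IsMonHom f] :
    (Flat f.left ∧ LocallyQuasiFinite f.left ∧ LocallyOfFinitePresentation f.left) ↔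
      ∀ s : S, IsFinite (pullback.snd f.left (H.hom.fiberι s)) ∧
        Surjective (pullback.snd f.left (H.hom.fiberι s)) := by
  haveI : LocallyOfFinitePresentation (f.left ≫ H.hom) := by rw [Over.w f]; infer_instance
  haveI hlfp : LocallyOfFinitePresentation f.left :=
    Groth.Agent.Lib.AlgSpLocP9_helper7.locallyOfFinitePresentation_of_comp f.left H.hom
  haveI : LocallyOfFiniteType f.left := inferInstance
  haveI : QuasiCompact (f.left ≫ H.hom) := by rw [Over.w f]; infer_instance
  haveI hqc : QuasiCompact f.left := QuasiCompact.of_comp f.left H.hom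
  constructor
  · rintro ⟨hflat, hlqf, -⟩ s
    obtain ⟨ψ, hψ⟩ : ∃ ψ : Red.bc (S.fromSpecResidueField s) G ⟶
        Red.bc (S.fromSpecResidueField s) H,
        ψ = (Over.pullback (S.fromSpecResidueField s)).map f := ⟨_, rfl⟩
    haveI : IsMonHom ψ := by rw [hψ]; infer_instance
    have sq : IsPullback ψ.left (pullback.fst G.hom (S.fromSpecResidueField s))
        (pullback.fst H.hom (S.fromSpecResidueField s)) f.left := by
      rw [hψ]; exact Groth.Agent.Lib.TorsorBC.isPullback_map_left _ f
    haveI : Flat ψ.left := MorphismProperty.of_isPullback (P := @Flat) sq.flip hflat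
    haveI : LocallyQuasiFinite ψ.left :=
      MorphismProperty.of_isPullback (P := @LocallyQuasiFinite) sq.flip hlqf
    haveI : LocallyOfFinitePresentation ψ.left :=
      MorphismProperty.of_isPullback (P := @LocallyOfFinitePresentation) sq.flip hlfp
    haveI : QuasiCompact ψ.left :=
      MorphismProperty.of_isPullback (P := @QuasiCompact) sq.flip hqc
    haveI : ConnectedSpace ↥(Red.bc (S.fromSpecResidueField s) H).left :=
      (inferInstance : ConnectedSpace ↥(H.hom.fiber s))
    haveI hsurj : Surjective ψ.left :=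
      surj_of_open (k := ↑(S.residueField s)) ψ ψ.left.isOpenMap
    have hfin : IsFinite ψ.left := finite_of_lqf (k := ↑(S.residueField s)) ψ
    rw [hψ] at hfin hsurj
    exact ⟨(fibre_transfer @IsFinite f s).mp hfin, (fibre_transfer @Surjective f s).mp hsurj⟩
  · intro h
    have hsurj : Surjective f.left := by
      refine ⟨fun y => ?_⟩
      obtain ⟨y', hy'⟩ : ∃ y' : ↥(H.hom.fiber (H.hom y)), H.hom.fiberι (H.hom y) y' = y :=
        ⟨H.hom.asFiber y, H.hom.fiberι_asFiber y⟩
      obtain ⟨z, hz⟩ := (h (H.hom y)).2.surj y'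
      refine ⟨pullback.fst f.left (H.hom.fiberι (H.hom y)) z, ?_⟩
      rw [← Scheme.Hom.comp_apply, pullback.condition, Scheme.Hom.comp_apply, hz, hy']
    haveI := hsurj
    have hred : ∀ w : S, IsReduced (Red.bc (S.fromSpecResidueField w) H).left := by
      intro w
      haveI : Smooth (Red.bc (S.fromSpecResidueField w) H).hom :=
        (inferInstance : Smooth (pullback.snd H.hom (S.fromSpecResidueField w)))
      exact Groth.Agent.Lib.GenFlatHom.isReduced_of_smooth (k := ↑(S.residueField w)) _
    obtain ⟨hflat, -⟩ := flat_of_fibres G H hred f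
    refine ⟨hflat, ?_, hlfp⟩
    rw [Groth.Agent.Lib.IsogFib.lqf_iff_forall_fibre f]
    intro s
    haveI : IsFinite ((Over.pullback (S.fromSpecResidueField s)).map f).left :=
      (fibre_transfer @IsFinite f s).mpr (h s).1
    infer_instance

theorem main7801 (X Y : Over S) [GrpObj X] [IsProper X.hom] [Flat X.hom]
    [LocallyOfFinitePresentation X.hom] [GeometricallyReduced X.hom]
    [GeometricallyConnected X.hom]
    [GrpObj Y] [IsProper Y.hom] [Flat Y.hom] [LocallyOfFinitePresentation Y.hom]
    [GeometricallyReduced Y.hom] [GeometricallyConnected Y.hom]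
    (f : X ⟶ Y) [IsMonHom f] [IsFinite f.left] [Surjective f.left] :
    Flat f.left ∧ ∀ s : S, topologicalKrullDim ↥(X.hom.fiber s) =
      topologicalKrullDim ↥(Y.hom.fiber s) := by
  have hred : ∀ w : S, IsReduced (Red.bc (S.fromSpecResidueField w) Y).left :=
    fun w => (inferInstance : IsReduced (Y.hom.fiber w))
  obtain ⟨hflat, -⟩ := flat_of_fibres X Y hred f
  refine ⟨hflat, fun s => ?_⟩
  have sq := Groth.Agent.Lib.TorsorBC.isPullback_map_left (S.fromSpecResidueField s) f
  obtain ⟨ψ, hψ⟩ : ∃ ψ : X.hom.fiber s ⟶ Y.hom.fiber s,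
      ψ = ((Over.pullback (S.fromSpecResidueField s)).map f).left := ⟨_, rfl⟩
  rw [← hψ] at sq
  haveI : Flat ψ := MorphismProperty.of_isPullback (P := @Flat) sq.flip hflat
  haveI : IsFinite ψ := MorphismProperty.of_isPullback (P := @IsFinite) sq.flip ‹IsFinite f.left›
  haveI : Surjective ψ :=
    MorphismProperty.of_isPullback (P := @Surjective) sq.flip ‹Surjective f.left›
  haveI : LocallyOfFiniteType ψ := inferInstance
  haveI : LocallyQuasiFinite ψ := inferInstance
  haveI := Groth.Agent.FibRes2H8.lft_fiber Y.hom s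
  haveI : IsLocallyNoetherian (Y.hom.fiber s) :=
    LocallyOfFiniteType.isLocallyNoetherian (Y.hom.fiberToSpecResidueField s)
  exact dim_eq_of_flat_lqf_surj ψ

end Groth.Agent.Lib.IsogFibre
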