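import Groth.Statements.S17255
import Groth.Agent.Lib.AbFibDim_lead
import Groth.Agent.Lib.IsogFibre_lead
import Groth.Agent.Lib.GenFlatHom_lead
import Groth.Agent.S1653
import Groth.Agent.Lib.FibCoh3_helper8
import Groth.Agent.Lib.GrpConnComp_helper4
import Groth.Agent.Lib.EtaleReduced_helper7

/-! # Homomorphisms of abelian varieties of equal dimension: flat iff finite (lead) -/

set_option backward.isDefEq.respectTransparency false
set_option backward.isDefEq.respectTransparency.types false
set_option linter.unusedSimpArgs false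
set_option linter.unusedVariables false
set_option linter.unusedSectionVars false
set_option linter.style.longLine false
set_option linter.style.haveILetI false
set_option linter.unnecessarySimpa false
set_option maxHeartbeats 800000

universe u

open CategoryTheory CategoryTheory.Limits MonoidalCategory CartesianMonoidalCategory MonObj GrpObj
  AlgebraicGeometry Opposite Topology TopologicalSpace

namespace Groth.Agent.Lib.AbIsogDim

variable {k : Type u} [Field k]

/-- a smooth geometrically connected group scheme over a field is geometrically integral -/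
theorem geomIntegral_of_smooth (A : Over (Spec (CommRingCat.of k))) [GrpObj A] [Smooth A.hom]
    [GeometricallyConnected A.hom] : GeometricallyIntegral A.hom := by
  refine ⟨fun K _ y Z fst snd h => ?_⟩
  haveI : ConnectedSpace ↥(pullback A.hom y) :=
    GeometricallyConnected.geometrically_connectedSpace y (pullback.fst A.hom y)
      (pullback.snd A.hom y) (IsPullback.of_hasPullback A.hom y)
  haveI : Smooth (pullback.snd A.hom y) := inferInstance
  haveI : IsReduced (pullback A.hom y) := by
    haveI : _root_.IsReduced (CommRingCat.of K) := inferInstanceAs (_root_.IsReduced K)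
    exact Groth.Agent.Lib.EtaleReduced_helper7.isReduced_of_smooth_scheme (pullback.snd A.hom y)
  have hirr := (GrpConnCompH4.main0355 K (Red.bc y A)).1
  haveI hc2 : ConnectedSpace ↥(Red.bc y A).left := ‹ConnectedSpace ↥(pullback A.hom y)›
  have huniv : connectedComponent ((η[Red.bc y A]).left (IsLocalRing.closedPoint K)) =
      (Set.univ : Set ↥(Red.bc y A).left) :=
    PreconnectedSpace.connectedComponent_eq_univ _
  haveI : IrreducibleSpace ↥(pullback A.hom y) := by
    rw [huniv] at hirr
    exact (irreducibleSpace_def ↥(Red.bc y A).left).mpr hirr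
  haveI : IsIntegral (pullback A.hom y) := isIntegral_of_irreducibleSpace_of_isReduced _
  haveI : Nonempty ↥Z := ⟨h.isoPullback.inv (Classical.arbitrary _)⟩
  exact isIntegral_of_isOpenImmersion h.isoPullback.hom

theorem main17255 (k : Type u) [Field k]
    (A B : Over (Spec (CommRingCat.of k)))
    [GrpObj A] [Smooth A.hom] [IsProper A.hom] [GeometricallyConnected A.hom]
    [GrpObj B] [Smooth B.hom] [IsProper B.hom] [GeometricallyConnected B.hom]
    (f : A ⟶ B) [IsMonHom f] (hdim : topologicalKrullDim A.left = topologicalKrullDim B.left) :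
    Flat f.left ↔ IsFinite f.left := by
  haveI hsub : Subsingleton ↥(Spec (CommRingCat.of k)) :=
    inferInstanceAs (Subsingleton (PrimeSpectrum k))
  haveI : GeometricallyIntegral A.hom := geomIntegral_of_smooth A
  haveI : GeometricallyIntegral B.hom := geomIntegral_of_smooth B
  haveI : IsIntegral (Spec (CommRingCat.of k)) := inferInstance
  haveI : IsIntegral A.left := GeometricallyIntegral.isIntegral_of_subsingleton A.hom
  haveI : IsIntegral B.left := GeometricallyIntegral.isIntegral_of_subsingleton B.hom
  haveI : LocallyOfFiniteType A.hom := inferInstance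
  haveI : LocallyOfFiniteType B.hom := inferInstance
  haveI : LocallyOfFiniteType f.left := Groth.Agent.Lib.GenFlatHom.lft_hom f
  haveI : IsProper f.left := by
    haveI : IsProper (f.left ≫ B.hom) := by rw [Over.w f]; infer_instance
    exact IsProper.of_comp f.left B.hom
  letI : A.left.Over (Spec (CommRingCat.of k)) := ⟨A.hom⟩
  letI : B.left.Over (Spec (CommRingCat.of k)) := ⟨B.hom⟩
  haveI : LocallyOfFiniteType (A.left ↘ Spec (CommRingCat.of k)) :=
    inferInstanceAs (LocallyOfFiniteType A.hom)
  haveI : LocallyOfFiniteType (B.left ↘ Spec (CommRingCat.of k)) :=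
    inferInstanceAs (LocallyOfFiniteType B.hom)
  obtain ⟨ξ, hξ⟩ : ∃ ξ : A.left, ξ = genericPoint A.left := ⟨_, rfl⟩
  have hξgen : ∀ x : A.left, ξ ⤳ x := fun x => hξ ▸ genericPoint_specializes x
  obtain ⟨θ, hθ⟩ : ∃ θ : B.left, θ = genericPoint B.left := ⟨_, rfl⟩
  have hθgen : ∀ y : B.left, θ ⤳ y := fun y => hθ ▸ genericPoint_specializes y
  obtain ⟨a, -, ha⟩ := Groth.Agent.HtTrdegH8.height_eq_trdeg k A.left ξ
  obtain ⟨b, -, hb⟩ := Groth.Agent.HtTrdegH8.height_eq_trdeg k B.left θ
  obtain ⟨m, -, hm⟩ := Groth.Agent.HtTrdegH8.height_eq_trdeg k B.left (f.left ξ)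
  have hdA : topologicalKrullDim A.left = (a : WithBot ℕ∞) := by
    rw [Groth.Agent.IrrDimH8.topDim_eq_height_generic A.left ξ hξgen, ha]; rfl
  have hdB : topologicalKrullDim B.left = (b : WithBot ℕ∞) := by
    rw [Groth.Agent.IrrDimH8.topDim_eq_height_generic B.left θ hθgen, hb]; rfl
  have hab : a = b := by
    rw [hdA, hdB] at hdim; exact_mod_cast hdim
  have hcl : closure (Set.range f.left.base) = closure {f.left ξ} := by
    apply Set.Subset.antisymm
    · apply closure_minimal _ isClosed_closure
      rintro _ ⟨x, rfl⟩
      exact ((hξgen x).map f.left.continuous).mem_closure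
    · exact closure_mono (Set.singleton_subset_iff.mpr ⟨ξ, rfl⟩)
  have hdcl : topologicalKrullDim ↥(closure (Set.range f.left.base)) = (m : WithBot ℕ∞) := by
    rw [hcl, Groth.Agent.ClosHtH8.topologicalKrullDim_closure_singleton B.left (f.left ξ), hm]; rfl
  have hq : f.left ≫ B.hom = A.hom := Over.w f
  obtain ⟨hlow, -, hdense⟩ := Groth.Agent.S1653.result k A.left B.left f.left hq a m hdA hdcl
  have hconst : ∀ x₁ x₂ : A.left, FlatMor.fibreDimAt f.left x₁ = FlatMor.fibreDimAt f.left x₂ :=
    fun x₁ x₂ => Groth.Agent.Lib.AbFibDim.const A B.hom f.left hq x₁ x₂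
  constructor
  · intro hflat
    haveI := hflat
    haveI : LocallyOfFinitePresentation A.hom := inferInstance
    haveI : LocallyOfFinitePresentation (f.left ≫ B.hom) := by rw [hq]; infer_instance
    haveI : LocallyOfFinitePresentation f.left :=
      Groth.Agent.Lib.AlgSpLocP9_helper7.locallyOfFinitePresentation_of_comp f.left B.hom
    have hopen : IsOpenMap f.left := f.left.isOpenMap
    haveI : ConnectedSpace B.left := inferInstance
    haveI hsurj : Surjective f.left := Groth.Agent.Lib.IsogFibre.surj_of_open f hopen
    obtain ⟨x, hx⟩ := hsurj.surj θ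
    have h1 : f.left ξ ⤳ θ := hx ▸ (hξgen x).map f.left.continuous
    have heqpt : f.left ξ = θ := (h1.antisymm (hθgen _)).eq
    have hmb : m = b := by
      rw [heqpt, hb] at hm; exact_mod_cast hm.symm
    obtain ⟨x₀, hx₀⟩ := hdense.nonempty
    have hx₀' : FlatMor.fibreDimAt f.left x₀ = ((a - m : ℕ) : WithBot ℕ∞) := hx₀
    have ham0 : a - m = 0 := by omega
    rw [ham0] at hx₀'
    have h0 : ∀ x : A.left, FlatMor.fibreDimAt f.left x = 0 := fun x => by
      rw [hconst x x₀, hx₀']; rfl
    haveI : LocallyQuasiFinite f.left := FibCohH8.lqf_of_forall_fibreDimAt_eq_zero f.left h0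
    exact IsFinite.of_isProper_of_locallyQuasiFinite f.left
  · intro hfin
    haveI := hfin
    have h0 : FlatMor.fibreDimAt f.left ξ = 0 := FibCohH8.fibreDimAt_eq_zero_of_lqf f.left ξ
    have h1 := hlow ξ
    rw [h0] at h1
    have ham0 : a - m = 0 := by
      have h2 : ((a - m : ℕ) : WithBot ℕ∞) ≤ ((0 : ℕ) : WithBot ℕ∞) := h1
      have h3 : (a - m : ℕ) ≤ 0 := by exact_mod_cast h2
      omega
    have hle : f.left ξ ≤ θ := hθgen (f.left ξ)
    have heqpt : f.left ξ = θ := by
      by_contra hne
      have hlt : f.left ξ < θ := by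
        refine ⟨hle, fun hge => hne ?_⟩
        have hge' : f.left ξ ⤳ θ := hge
        exact (hge'.antisymm (hθgen _)).eq
      have h4 := Order.height_strictMono hlt (by rw [hm]; exact ENat.coe_lt_top m)
      rw [hm, hb] at h4
      have h5 : m < b := by exact_mod_cast h4
      omega
    have hclosed : IsClosed (Set.range f.left) := f.left.isClosedMap.isClosed_range
    haveI : Surjective f.left := ⟨fun y => by
      have hy : y ∈ closure ({θ} : Set B.left) := (hθgen y).mem_closure
      have hsub : closure ({θ} : Set B.left) ⊆ Set.range f.left :=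
        hclosed.closure_subset_iff.mpr (by
          rw [Set.singleton_subset_iff]; exact ⟨ξ, heqpt⟩)
      exact hsub hy⟩
    haveI : IsReduced B.left := Groth.Agent.Lib.GenFlatHom.isReduced_of_smooth B
    haveI : QuasiCompact A.hom := inferInstance
    exact Groth.Agent.Lib.GenFlatHom.flat_hom f

end Groth.Agent.Lib.AbIsogDim
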