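import Mathlib

set_option autoImplicit false
set_option linter.style.haveILetI false
set_option linter.unusedSectionVars false
universe u
open CategoryTheory CategoryTheory.Limits AlgebraicGeometry

namespace Groth.Agent.Lib.ConnRedFieldH4

theorem idempotent_trivial (X : Scheme.{u}) [ConnectedSpace ↥X] [IsReduced X] (e : Γ(X, ⊤))
    (he : IsIdempotentElem e) : e = 0 ∨ e = 1 := by
  have hdisj : X.basicOpen e ⊓ X.basicOpen (1 - e) = ⊥ := by
    rw [← Scheme.basicOpen_mul]
    have h0 : e * (1 - e) = 0 := by rw [mul_sub, mul_one, he.eq, sub_self]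
    rw [h0, Scheme.basicOpen_zero]
  have hcov : ∀ x : ↥X, x ∈ X.basicOpen e ∨ x ∈ X.basicOpen (1 - e) := by
    intro x
    have h1 : IsUnit (X.presheaf.germ ⊤ x trivial e + X.presheaf.germ ⊤ x trivial (1 - e)) := by
      rw [← map_add, add_sub_cancel, map_one]; exact isUnit_one
    rcases IsLocalRing.isUnit_or_isUnit_of_isUnit_add h1 with h | h
    · exact Or.inl ((X.mem_basicOpen_top e x).mpr h)
    · exact Or.inr ((X.mem_basicOpen_top (1 - e) x).mpr h)
  have hUV : (X.basicOpen e : Set ↥X) = ((X.basicOpen (1 - e) : Set ↥X))ᶜ := by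
    apply Set.Subset.antisymm
    · intro x hx hxV
      have hmem : x ∈ (X.basicOpen e ⊓ X.basicOpen (1 - e) : X.Opens) := ⟨hx, hxV⟩
      rw [hdisj] at hmem
      exact hmem
    · intro x hxV
      exact (hcov x).resolve_right hxV
  have hclopen : IsClopen (X.basicOpen e : Set ↥X) := by
    refine ⟨?_, (X.basicOpen e).2⟩
    rw [hUV]; exact (X.basicOpen (1 - e)).2.isClosed_compl
  rcases isClopen_iff.mp hclopen with h | h
  · left
    exact (basicOpen_eq_bot_iff e).mp
      (TopologicalSpace.Opens.ext (h.trans TopologicalSpace.Opens.coe_bot.symm))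
  · right
    have h2 : X.basicOpen (1 - e) = ⊥ := by
      refine TopologicalSpace.Opens.ext (Set.eq_empty_of_forall_notMem fun x hxV => ?_)
      have hx : x ∈ (X.basicOpen e : Set ↥X) := h ▸ Set.mem_univ x
      rw [hUV] at hx
      exact hx hxV
    have h3 := (basicOpen_eq_bot_iff (1 - e)).mp h2
    exact (sub_eq_zero.mp h3).symm

theorem isField_integralClosure {k Γ : Type u} [Field k] [CommRing Γ] [Algebra k Γ]
    [IsReduced Γ] [Nontrivial Γ]
    (hidem : ∀ e : Γ, IsIdempotentElem e → e = 0 ∨ e = 1) :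
    IsField ↥(integralClosure k Γ) := by
  refine { exists_pair_ne := ⟨0, 1, zero_ne_one⟩, mul_comm := mul_comm, mul_inv_cancel := ?_ }
  rintro ⟨a, ha⟩ hne
  haveI : Module.Finite k ↥(Algebra.adjoin k {a}) := Algebra.finite_adjoin_simple_of_isIntegral ha
  haveI : IsArtinianRing ↥(Algebra.adjoin k {a}) := IsArtinianRing.of_finite k _
  haveI : IsReduced ↥(Algebra.adjoin k {a}) :=
    isReduced_of_injective (Algebra.adjoin k {a}).val Subtype.val_injective
  haveI : PreconnectedSpace (PrimeSpectrum ↥(Algebra.adjoin k {a})) := by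
    rw [preconnectedSpace_iff_clopen]
    intro s hs
    obtain ⟨e, he, rfl⟩ := PrimeSpectrum.isClopen_iff.mp hs
    have he' : IsIdempotentElem (e : Γ) := congrArg Subtype.val he.eq
    rcases hidem _ he' with h | h
    · left
      have h0 : e = 0 := Subtype.ext h
      rw [h0]; simp
    · right
      have h1 : e = 1 := Subtype.ext h
      rw [h1]; simp
  haveI : Subsingleton (PrimeSpectrum ↥(Algebra.adjoin k {a})) :=
    PreconnectedSpace.trivial_of_discrete
  haveI : IsLocalRing ↥(Algebra.adjoin k {a}) := by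
    obtain ⟨m, hm⟩ := Ideal.exists_maximal ↥(Algebra.adjoin k {a})
    refine IsLocalRing.of_unique_max_ideal ⟨m, hm, fun m' hm' => ?_⟩
    have h := Subsingleton.elim (⟨m', hm'.isPrime⟩ : PrimeSpectrum ↥(Algebra.adjoin k {a}))
      ⟨m, hm.isPrime⟩
    exact congrArg PrimeSpectrum.asIdeal h
  have hB : IsField ↥(Algebra.adjoin k {a}) :=
    IsArtinianRing.isField_of_isReduced_of_isLocalRing _
  have hane : (⟨a, Algebra.subset_adjoin (Set.mem_singleton a)⟩ : ↥(Algebra.adjoin k {a})) ≠ 0 :=
    fun h => hne (Subtype.ext (by simpa using congrArg Subtype.val h))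
  obtain ⟨b, hb⟩ := hB.mul_inv_cancel hane
  have hBA : Algebra.adjoin k {a} ≤ integralClosure k Γ :=
    Algebra.adjoin_le (Set.singleton_subset_iff.mpr ha)
  have hb' : a * (b : Γ) = 1 := by simpa using congrArg Subtype.val hb
  exact ⟨⟨b.1, hBA b.2⟩, Subtype.ext hb'⟩

theorem main7618 (k : Type u) [Field k] (X : Scheme.{u}) [X.Over (Spec (CommRingCat.of k))]
    [ConnectedSpace ↥X] [IsReduced X] :
    letI := ((X ↘ (Spec (CommRingCat.of k))).appTop.hom.comp
      (Scheme.ΓSpecIso (CommRingCat.of k)).inv.hom : k →+* Γ(X, ⊤)).toAlgebra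
    IsField ↥(integralClosure k ↑Γ(X, ⊤)) := by
  obtain ⟨x0⟩ : Nonempty ↥X := inferInstance
  haveI : Nonempty (⊤ : X.Opens) := ⟨⟨x0, trivial⟩⟩
  haveI : Nontrivial ↑Γ(X, ⊤) := Scheme.component_nontrivial X ⊤
  haveI hred : _root_.IsReduced ↑Γ(X, ⊤) := inferInstance
  letI inst := ((X ↘ (Spec (CommRingCat.of k))).appTop.hom.comp
      (Scheme.ΓSpecIso (CommRingCat.of k)).inv.hom : k →+* Γ(X, ⊤)).toAlgebra
  exact isField_integralClosure (idempotent_trivial X)

end Groth.Agent.Lib.ConnRedFieldH4
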