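import Mathlib

open CategoryTheory AlgebraicGeometry Limits TopologicalSpace
universe u

namespace Groth.Agent.Lib.SchImage

/-- For quasi-compact `f`, the map to the scheme-theoretic image is scheme-theoretically dominant. -/
instance isSchemeTheoreticallyDominant_toImage {X Y : Scheme.{u}} (f : X ⟶ Y) [QuasiCompact f] :
    IsSchemeTheoreticallyDominant f.toImage := by
  rw [isSchemeTheoreticallyDominant_iff]
  refine Scheme.IdealSheafData.ext_of_iSup_eq_top
    (fun V : Y.affineOpens => (⟨f.imageι ⁻¹ᵁ V.1, V.2.preimage f.imageι⟩ : f.image.affineOpens))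
    ?_ ?_
  · have h := iSup_affineOpens_eq_top Y
    have h2 := congr(f.imageι ⁻¹ᵁ $h)
    rw [Scheme.Hom.preimage_iSup] at h2
    simpa using h2
  · intro V
    rw [Scheme.Hom.ker_apply]
    simp only [Scheme.IdealSheafData.ideal_bot, Pi.bot_apply]
    exact (RingHom.injective_iff_ker_eq_bot _).mp (f.toImage_app_injective V)

/-- Flat base change of the scheme-theoretic image of a quasi-compact morphism. -/
theorem ker_pullback_snd_of_flat {X Y Y' : Scheme.{u}} (f : X ⟶ Y) (g : Y' ⟶ Y)
    [QuasiCompact f] [Flat g] :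
    (pullback.snd f g).ker = f.ker.comap g := by
  let t := f.toImage
  let ι := f.imageι
  let s := pullback.snd g ι
  have hs : Flat s := inferInstance
  have hdom : IsSchemeTheoreticallyDominant (pullback.snd t s) := inferInstance
  have H : IsPullback (pullback.snd t s ≫ pullback.fst g ι) (pullback.fst t s) g (t ≫ ι) :=
    (IsPullback.of_hasPullback t s).flip.paste_horiz (IsPullback.of_hasPullback g ι)
  have H' : IsPullback (pullback.fst t s) (pullback.snd t s ≫ pullback.fst g ι) f g := by
    have := H.flip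
    rwa [show t ≫ ι = f from f.toImage_imageι] at this
  have h1 : pullback.snd f g = H'.isoPullback.inv ≫ pullback.snd t s ≫ pullback.fst g ι := by
    rw [Iso.eq_inv_comp, H'.isoPullback_hom_snd]
  rw [h1, Scheme.Hom.ker_comp_of_isIso, Scheme.Hom.ker_comp, (pullback.snd t s).ker_eq_bot,
    Scheme.IdealSheafData.map_bot]
  rfl

end Groth.Agent.Lib.SchImage

/-! ## Restored earlier content (namespace `Groth.Agent.Lib.SchImage_helper9`), used by S14361/S14362 -/

section Restored
set_option autoImplicit false


namespace Groth.Agent.Lib.SchImage_helper9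

open AlgebraicGeometry AlgebraicGeometry.Scheme TopologicalSpace

/-- A section over an affine open which pulls back to zero on a reduced scheme lies in every prime
of the affine open that is in the image of the morphism. -/
theorem mem_of_app_eq_zero {X Y : Scheme.{u}} (π : X ⟶ Y) (U : Y.affineOpens)
    (s : Γ(Y, U.1)) (hs : (π.app U.1).hom s = 0) (p : PrimeSpectrum Γ(Y, U.1))
    (hp : U.2.fromSpec p ∈ Set.range π) : s ∈ p.asIdeal := by
  by_contra hsp
  obtain ⟨x, hx⟩ := hp
  have h1 : p ∈ (PrimeSpectrum.basicOpen s : Set (PrimeSpectrum Γ(Y, U.1))) := hsp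
  have h2 : p ∈ U.2.fromSpec ⁻¹ᵁ Y.basicOpen s := by
    rw [U.2.fromSpec_preimage_basicOpen]; exact h1
  have h3 : π x ∈ Y.basicOpen s := by rw [hx]; exact h2
  have h4 : x ∈ π ⁻¹ᵁ Y.basicOpen s := h3
  rw [Scheme.preimage_basicOpen] at h4
  have h5 : (π.app U.1) s = 0 := hs
  rw [h5, Scheme.basicOpen_zero] at h4
  exact h4

theorem ker_eq_vanishingIdeal {X Y : Scheme.{u}} [IsReduced X] (π : X ⟶ Y) :
    π.ker = IdealSheafData.vanishingIdeal ⟨closure (Set.range π), isClosed_closure⟩ := by
  apply le_antisymm
  · rw [← IdealSheafData.le_support_iff_le_vanishingIdeal]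
    intro y hy
    exact (π.ker.support.isClosed.closure_subset_iff.mpr π.range_subset_ker_support) hy
  · refine IdealSheafData.le_ofIdeals_iff.mpr fun U s hs => ?_
    rw [IdealSheafData.vanishingIdeal_ideal, PrimeSpectrum.mem_vanishingIdeal] at hs
    rw [RingHom.mem_ker]
    have h0 : X.basicOpen ((π.app U.1) s) = ⊥ := by
      rw [← Scheme.preimage_basicOpen]
      ext x
      simp only [Opens.coe_bot, Set.mem_empty_iff_false, iff_false]
      intro hx
      have hx' : π x ∈ Y.basicOpen s := hx
      have hxU : π x ∈ (U.1 : Set Y) := Y.basicOpen_le s hx'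
      rw [← U.2.range_fromSpec] at hxU
      obtain ⟨p, hp⟩ := hxU
      have hpZ : p ∈ U.2.fromSpec ⁻¹' (closure (Set.range π)) := by
        show U.2.fromSpec p ∈ closure (Set.range π)
        rw [hp]; exact subset_closure ⟨x, rfl⟩
      have hsp := hs p hpZ
      have h2 : p ∈ U.2.fromSpec ⁻¹ᵁ Y.basicOpen s := by
        show U.2.fromSpec p ∈ Y.basicOpen s
        rw [hp]; exact hx'
      rw [U.2.fromSpec_preimage_basicOpen] at h2
      exact h2 hsp
    exact (AlgebraicGeometry.basicOpen_eq_bot_iff _).mp h0

set_option backward.isDefEq.respectTransparency false in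
theorem ker_ideal_eq {X Y : Scheme.{u}} [IsReduced X] (π : X ⟶ Y) (U : Y.affineOpens) :
    π.ker.ideal U = RingHom.ker (π.app U).hom := by
  apply le_antisymm (π.ideal_ker_le U)
  intro s hs
  rw [RingHom.mem_ker] at hs
  rw [ker_eq_vanishingIdeal, IdealSheafData.vanishingIdeal_ideal]
  have hU : IsAffineOpen U.1 := U.2
  show s ∈ PrimeSpectrum.vanishingIdeal (hU.fromSpec ⁻¹' closure (Set.range π))
  rw [hU.fromSpec.isOpenEmbedding.isOpenMap.preimage_closure_eq_closure_preimage
    hU.fromSpec.continuous, PrimeSpectrum.vanishingIdeal_closure,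
    PrimeSpectrum.mem_vanishingIdeal]
  intro p hp
  exact mem_of_app_eq_zero π U s hs p hp

theorem support_ker_eq {X Y : Scheme.{u}} [IsReduced X] (π : X ⟶ Y) :
    (π.ker.support : Set Y) = closure (Set.range π) := by
  rw [ker_eq_vanishingIdeal, IdealSheafData.coe_support_vanishingIdeal]
  rfl

end Groth.Agent.Lib.SchImage_helper9

end Restored
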