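import Mathlib
import Groth.Prelude
import Groth.Agent.Lib.Rigidity_lead
import Groth.Agent.Lib.ConnRedField_helper4
import Groth.Agent.Lib.ProperOver_helper9
import Groth.Agent.Lib.SchImage_helper9

set_option backward.isDefEq.respectTransparency false
set_option backward.isDefEq.respectTransparency.types false
set_option autoImplicit false
set_option linter.style.haveILetI false
set_option linter.unusedVariables false
set_option linter.unusedSimpArgs false
set_option linter.unusedSectionVars false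
set_option linter.style.longLine false
set_option maxHeartbeats 800000

universe u

open CategoryTheory CategoryTheory.Limits MonoidalCategory CartesianMonoidalCategory MonObj GrpObj
  AlgebraicGeometry TopologicalSpace

namespace Groth.Agent.Lib.AbVarFibreH4

open Groth.Agent.Lib.AntiAffine Groth.Agent.Lib.Rigidity ProperOver

/-- The reduced induced structure is reduced. -/
theorem isReduced_red' {X : Scheme.{u}} (Z : Set X) (hZ : IsClosed Z) : IsReduced (red Z hZ) := by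
  apply +allowSynthFailures @IsReduced.of_openCover
    (𝒰 := (Scheme.IdealSheafData.vanishingIdeal ⟨Z, hZ⟩).subschemeCover.openCover)
  intro U
  show IsReduced (Spec (.of (Γ(X, U.1) ⧸ (Scheme.IdealSheafData.vanishingIdeal ⟨Z, hZ⟩).ideal U)))
  rw [affine_isReduced_iff]
  show _root_.IsReduced (Γ(X, U.1) ⧸ (Scheme.IdealSheafData.vanishingIdeal ⟨Z, hZ⟩).ideal U)
  rw [← Ideal.isRadical_iff_quotient_reduced, Scheme.IdealSheafData.vanishingIdeal_ideal]
  exact PrimeSpectrum.isRadical_vanishingIdeal _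

/-- Lifting a morphism from a reduced scheme through the reduced induced structure. -/
theorem exists_lift_of_reduced {T X : Scheme.{u}} [IsReduced T] (g : T ⟶ X) {C : Set X}
    (hC : IsClosed C) (h : Set.range g ⊆ C) :
    ∃ g' : T ⟶ red C hC, g' ≫ redι C hC = g := by
  have hle : (redι C hC).ker ≤ g.ker := by
    rw [Scheme.IdealSheafData.ker_subschemeι,
      Groth.Agent.Lib.SchImage_helper9.ker_eq_vanishingIdeal g]
    apply Scheme.IdealSheafData.vanishingIdeal_antimono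
    intro z hz
    exact (hC.closure_subset_iff.mpr h) hz
  exact ⟨IsClosedImmersion.lift (redι C hC) g hle, IsClosedImmersion.lift_fac _ _ _⟩

/-- A proper connected reduced scheme over an algebraically closed field is anti-affine. -/
theorem aa_of_proper_connected_reduced {k : Type u} [Field k] [IsAlgClosed k]
    (Q : Over (Spec (CommRingCat.of k))) [IsProper Q.hom] [IsReduced Q.left]
    [ConnectedSpace Q.left] : AA Q := by
  rw [← aa_iff]
  obtain ⟨F, hF⟩ : ∃ F : k →+* Γ(Q.left, ⊤),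
      F = ((Scheme.ΓSpecIso (CommRingCat.of k)).inv ≫ Q.hom.appTop).hom := ⟨_, rfl⟩
  rw [← hF]
  have hint : F.IsIntegral := by
    rw [hF]
    apply RingHom.isIntegral_respectsIso.2
      (e := (Scheme.ΓSpecIso (CommRingCat.of k)).symm.commRingCatIsoToRingEquiv)
    exact isIntegral_appTop_of_universallyClosed Q.hom
  obtain ⟨x0⟩ : Nonempty Q.left := inferInstance
  haveI : Nonempty ↥(⊤ : Q.left.Opens) := ⟨⟨x0, trivial⟩⟩
  haveI : Nontrivial Γ(Q.left, ⊤) := inferInstance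
  letI algF : Algebra k Γ(Q.left, ⊤) := F.toAlgebra
  have hfield : IsField ↥(integralClosure k Γ(Q.left, ⊤)) :=
    Groth.Agent.Lib.ConnRedFieldH4.isField_integralClosure
      (fun e he => Groth.Agent.Lib.ConnRedFieldH4.idempotent_trivial Q.left e he)
  haveI : IsDomain ↥(integralClosure k Γ(Q.left, ⊤)) := hfield.isDomain
  have hb := IsAlgClosed.algebraMap_bijective_of_isIntegral (k := k)
    (K := ↥(integralClosure k Γ(Q.left, ⊤)))
  refine ⟨F.injective, fun g => ?_⟩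
  obtain ⟨c, hc⟩ := hb.2 ⟨g, hint g⟩
  refine ⟨c, ?_⟩
  have h1 := congrArg (fun z : ↥(integralClosure k Γ(Q.left, ⊤)) => (z : Γ(Q.left, ⊤))) hc
  exact h1

section Main

variable {k : Type u} [Field k] [IsAlgClosed k]

theorem main19533 (A : Over (Spec (CommRingCat.of k))) [GrpObj A] [IsProper A.hom]
    [Smooth A.hom] [GeometricallyConnected A.hom]
    {Y : Scheme.{u}} (q : Y ⟶ Spec (CommRingCat.of k)) [IsSeparated q] (f : A.left ⟶ Y)
    (hf : f ≫ q = A.hom)
    (x y : 𝟙_ (Over (Spec (CommRingCat.of k))) ⟶ A)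
    (pt : ↥(𝟙_ (Over (Spec (CommRingCat.of k)))).left)
    (hx : x.left pt ∈ connectedComponentIn (f ⁻¹' {f (η[A].left pt)}) (η[A].left pt))
    (hy : y.left pt ∈ connectedComponentIn (f ⁻¹' {f (η[A].left pt)}) (η[A].left pt)) :
    (lift x y ≫ μ[A]).left pt ∈
        connectedComponentIn (f ⁻¹' {f (η[A].left pt)}) (η[A].left pt) ∧
      (x ≫ ι[A]).left pt ∈
        connectedComponentIn (f ⁻¹' {f (η[A].left pt)}) (η[A].left pt) := by
  haveI hsub : Subsingleton ↥(Spec (CommRingCat.of k)) :=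
    inferInstanceAs (Subsingleton (PrimeSpectrum k))
  haveI hsub' : Subsingleton ↥(𝟙_ (Over (Spec (CommRingCat.of k)))).left :=
    (inferInstance : Subsingleton (PrimeSpectrum k))
  haveI hne : Nonempty ↥(Spec (CommRingCat.of k)) := (inferInstance : Nonempty (PrimeSpectrum k))
  haveI hredpt : IsReduced (𝟙_ (Over (Spec (CommRingCat.of k)))).left :=
    (inferInstance : IsReduced (Spec (CommRingCat.of k)))
  obtain ⟨e, he⟩ : ∃ e : A.left, e = η[A].left pt := ⟨_, rfl⟩
  rw [← he] at hx hy ⊢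
  obtain ⟨Fib, hFib⟩ : ∃ Fib : Set A.left, Fib = f ⁻¹' {f e} := ⟨_, rfl⟩
  rw [← hFib] at hx hy ⊢
  obtain ⟨C, hCdef⟩ : ∃ C : Set A.left, C = connectedComponentIn Fib e := ⟨_, rfl⟩
  rw [← hCdef] at hx hy ⊢
  have hmemFib : ∀ a : A.left, a ∈ Fib ↔ f a = f e := by
    intro a; rw [hFib]; exact Iff.rfl
  have heF : e ∈ Fib := (hmemFib e).mpr rfl
  have heC : e ∈ C := by rw [hCdef]; exact mem_connectedComponentIn heF
  have hCF : C ⊆ Fib := by rw [hCdef]; exact connectedComponentIn_subset Fib e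
  -- the point `f e` is closed
  obtain ⟨s, hs⟩ : ∃ s : Spec (CommRingCat.of k) ⟶ Y,
      s = (η[A].left : Spec (CommRingCat.of k) ⟶ A.left) ≫ f := ⟨_, rfl⟩
  have hsq : s ≫ q = 𝟙 (Spec (CommRingCat.of k)) := by
    rw [hs, Category.assoc, hf]
    exact Over.w η[A]
  haveI : IsClosedImmersion (s ≫ q) := by rw [hsq]; infer_instance
  haveI : IsClosedImmersion s := IsClosedImmersion.of_comp s q
  have hspt : s pt = f e := by rw [hs, he]; rfl
  have hrange : Set.range s = {f e} := by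
    ext z
    constructor
    · rintro ⟨t, rfl⟩
      rw [Subsingleton.elim t pt, hspt]; rfl
    · intro hz
      rw [Set.mem_singleton_iff] at hz
      exact ⟨pt, by rw [hspt, hz]⟩
  have hclpt : IsClosed ({f e} : Set Y) := by
    rw [← hrange]; exact s.isClosedEmbedding.isClosed_range
  have hFibcl : IsClosed Fib := by rw [hFib]; exact hclpt.preimage f.continuous
  have hCcl : IsClosed C := by
    rw [hCdef, connectedComponentIn_eq_image heF]
    exact hFibcl.isClosedEmbedding_subtypeVal.isClosedMap _ isClosed_connectedComponent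
  -- the reduced closed subscheme `F0` on `C`
  obtain ⟨i, hi⟩ : ∃ i : red C hCcl ⟶ A.left, i = redι C hCcl := ⟨_, rfl⟩
  haveI hicl : IsClosedImmersion i := by rw [hi]; infer_instance
  have hri : Set.range i = C := by rw [hi]; exact range_redι C hCcl
  obtain ⟨F0, hF0⟩ : ∃ F0 : Over (Spec (CommRingCat.of k)), F0 = Over.mk (i ≫ A.hom) := ⟨_, rfl⟩
  subst hF0
  obtain ⟨ι₀, hι₀⟩ : ∃ ι₀ : Over.mk (i ≫ A.hom) ⟶ A, ι₀ = Over.homMk i rfl := ⟨_, rfl⟩
  haveI : IsProper (Over.mk (i ≫ A.hom)).hom := by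
    show IsProper (i ≫ A.hom); infer_instance
  haveI : IsReduced (Over.mk (i ≫ A.hom)).left := isReduced_red' C hCcl
  obtain ⟨u0, hu0⟩ : ∃ u0 : red C hCcl, i u0 = e := by
    have : e ∈ Set.range i := by rw [hri]; exact heC
    exact this
  have hpre : _root_.IsPreconnected (Set.univ : Set ↥(red C hCcl)) := by
    have h1 : _root_.IsPreconnected (i '' Set.univ) := by
      rw [Set.image_univ, hri, hCdef]; exact isPreconnected_connectedComponentIn
    exact i.isClosedEmbedding.isEmbedding.isInducing.isPreconnected_image.mp h1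
  haveI hconnF0 : ConnectedSpace (Over.mk (i ≫ A.hom)).left :=
    { toPreconnectedSpace := ⟨hpre⟩, toNonempty := ⟨u0⟩ }
  have hAA : AA (Over.mk (i ≫ A.hom)) := aa_of_proper_connected_reduced _
  haveI : LocallyOfFiniteType (Over.mk (i ≫ A.hom)).hom := inferInstance
  haveI : QuasiCompact (Over.mk (i ≫ A.hom)).hom := inferInstance
  obtain ⟨hc, hq⟩ := qcqs (Over.mk (i ≫ A.hom))
  haveI := hc
  haveI := hq
  haveI : LocallyOfFiniteType A.hom := inferInstance
  haveI : QuasiCompact A.hom := inferInstance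
  haveI : ConnectedSpace A.left := GeometricallyConnected.connectedSpace_of_subsingleton A.hom
  -- the target
  obtain ⟨Z, hZ⟩ : ∃ Z : Over (Spec (CommRingCat.of k)), Z = Over.mk q := ⟨_, rfl⟩
  subst hZ
  haveI : IsSeparated (Over.mk q).hom := by show IsSeparated q; infer_instance
  obtain ⟨fZ, hfZ⟩ : ∃ fZ : A ⟶ Over.mk q, fZ = Over.homMk f hf := ⟨_, rfl⟩
  have hfZl : ∀ a : A.left, fZ.left a = f a := by intro a; rw [hfZ]; rfl
  -- lifting points
  have hrange_pt : ∀ (g : 𝟙_ (Over (Spec (CommRingCat.of k))) ⟶ A), g.left pt ∈ C →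
      Set.range g.left ⊆ C := by
    rintro g hg _ ⟨t, rfl⟩
    rw [Subsingleton.elim t pt]; exact hg
  have hlift : ∀ (g : 𝟙_ (Over (Spec (CommRingCat.of k))) ⟶ A), g.left pt ∈ C →
      ∃ g' : 𝟙_ (Over (Spec (CommRingCat.of k))) ⟶ Over.mk (i ≫ A.hom), g' ≫ ι₀ = g := by
    intro g hg
    obtain ⟨gl, hgl⟩ := exists_lift_of_reduced g.left hCcl (hrange_pt g hg)
    rw [← hi] at hgl
    refine ⟨Over.homMk gl ?_, ?_⟩
    · show gl ≫ i ≫ A.hom = _
      rw [← Category.assoc, hgl]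
      exact Over.w g
    · apply Over.OverMorphism.ext
      rw [hι₀]
      exact hgl
  obtain ⟨e0, he0⟩ := hlift η[A] (by rw [← he]; exact heC)
  obtain ⟨x', hx'⟩ := hlift x hx
  -- the morphism to which rigidity applies
  obtain ⟨f', hf'⟩ : ∃ f' : Over.mk (i ≫ A.hom) ⊗ A ⟶ Over.mk q,
      f' = ((fst (Over.mk (i ≫ A.hom)) A ≫ ι₀) * snd (Over.mk (i ≫ A.hom)) A) ≫ fZ := ⟨_, rfl⟩
  have ew : Over.mk (i ≫ A.hom) ◁ η[A] =
      lift (fst (Over.mk (i ≫ A.hom)) (𝟙_ _)) (snd (Over.mk (i ≫ A.hom)) (𝟙_ _) ≫ η[A]) := by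
    apply CartesianMonoidalCategory.hom_ext
    · rw [whiskerLeft_fst, lift_fst]
    · rw [whiskerLeft_snd, lift_snd]
  have hone : snd (Over.mk (i ≫ A.hom)) (𝟙_ (Over (Spec (CommRingCat.of k)))) ≫ η[A] =
      (1 : Over.mk (i ≫ A.hom) ⊗ 𝟙_ (Over (Spec (CommRingCat.of k))) ⟶ A) := by
    rw [Hom.one_def]
    congr 1
    exact toUnit_unique _ _
  have h1 : (Over.mk (i ≫ A.hom) ◁ η[A]) ≫ f' =
      (fst (Over.mk (i ≫ A.hom)) (𝟙_ _) ≫ ι₀) ≫ fZ := by
    rw [hf', ← Category.assoc, ew, MonObj.comp_mul, lift_fst_assoc, lift_snd, hone,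
      _root_.mul_one]
  have hconst : ∀ p, ((Over.mk (i ≫ A.hom) ◁ η[A]) ≫ f').left p = f e := by
    intro p
    rw [h1]
    have h2 : ((fst (Over.mk (i ≫ A.hom)) (𝟙_ _) ≫ ι₀) ≫ fZ).left p =
        f (i ((fst (Over.mk (i ≫ A.hom)) (𝟙_ (Over (Spec (CommRingCat.of k))))).left p)) := by
      rw [hfZ, hι₀]; rfl
    rw [h2]
    have hmem : i ((fst (Over.mk (i ≫ A.hom)) (𝟙_ (Over (Spec (CommRingCat.of k))))).left p) ∈
        Fib := hCF (hri.subset ⟨_, rfl⟩)
    exact (hmemFib _).mp hmem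
  have key := rigid_conn (Over.mk (i ≫ A.hom)) A (Over.mk q) hAA e0 η[A] f' (f e) hconst
  have hη1 : η[A] = (1 : 𝟙_ (Over (Spec (CommRingCat.of k))) ⟶ A) := by
    rw [Hom.one_def]
    have : toUnit (𝟙_ (Over (Spec (CommRingCat.of k)))) = 𝟙 _ := toUnit_unique _ _
    rw [this, Category.id_comp]
  have h2 : lift (toUnit A ≫ e0) (𝟙 A) ≫ f' = fZ := by
    have e1 : lift (toUnit A ≫ e0) (𝟙 A) ≫
        ((fst (Over.mk (i ≫ A.hom)) A ≫ ι₀) * snd (Over.mk (i ≫ A.hom)) A) = 𝟙 A := by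
      rw [MonObj.comp_mul, lift_fst_assoc, lift_snd, Category.assoc, he0, ← Hom.one_def,
        _root_.one_mul]
    rw [hf', ← Category.assoc, e1, Category.id_comp]
  have hr : ∀ a : 𝟙_ (Over (Spec (CommRingCat.of k))) ⟶ A,
      (ι₀ * (toUnit (Over.mk (i ≫ A.hom)) ≫ a)) ≫ fZ =
        toUnit (Over.mk (i ≫ A.hom)) ≫ a ≫ fZ := by
    intro a
    have e1 : lift (𝟙 (Over.mk (i ≫ A.hom))) (toUnit (Over.mk (i ≫ A.hom)) ≫ a) ≫ f' =
        (ι₀ * (toUnit (Over.mk (i ≫ A.hom)) ≫ a)) ≫ fZ := by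
      rw [hf', ← Category.assoc, MonObj.comp_mul, lift_fst_assoc, lift_snd, Category.id_comp]
    have e2 : lift (𝟙 (Over.mk (i ≫ A.hom))) (toUnit (Over.mk (i ≫ A.hom)) ≫ a) ≫
        snd (Over.mk (i ≫ A.hom)) A ≫ lift (toUnit A ≫ e0) (𝟙 A) ≫ f' =
        toUnit (Over.mk (i ≫ A.hom)) ≫ a ≫ fZ := by
      rw [lift_snd_assoc, h2, Category.assoc]
    exact e1.symm.trans ((congrArg (fun t =>
      lift (𝟙 (Over.mk (i ≫ A.hom))) (toUnit (Over.mk (i ≫ A.hom)) ≫ a) ≫ t) key).trans e2)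
  have hpt : ∀ (a : 𝟙_ (Over (Spec (CommRingCat.of k))) ⟶ A) (u : ↥(red C hCcl)),
      f ((ι₀ * (toUnit (Over.mk (i ≫ A.hom)) ≫ a)).left u) = f (a.left pt) := by
    intro a u
    have h := congrArg (fun t => t.left u) (hr a)
    have hu : (toUnit (Over.mk (i ≫ A.hom))).left u = pt := Subsingleton.elim _ _
    have h' : fZ.left ((ι₀ * (toUnit (Over.mk (i ≫ A.hom)) ≫ a)).left u) =
        fZ.left (a.left ((toUnit (Over.mk (i ≫ A.hom))).left u)) := h
    rw [hu, hfZl, hfZl] at h'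
    exact h'
  have he0r : ∀ a : 𝟙_ (Over (Spec (CommRingCat.of k))) ⟶ A,
      e0 ≫ (ι₀ * (toUnit (Over.mk (i ≫ A.hom)) ≫ a)) = a := by
    intro a
    have h3 : e0 ≫ toUnit (Over.mk (i ≫ A.hom)) = 𝟙 _ := toUnit_unique _ _
    rw [MonObj.comp_mul, he0, ← Category.assoc, h3, Category.id_comp, hη1, _root_.one_mul]
  have hx'r : ∀ a : 𝟙_ (Over (Spec (CommRingCat.of k))) ⟶ A,
      x' ≫ (ι₀ * (toUnit (Over.mk (i ≫ A.hom)) ≫ a)) = x * a := by
    intro a
    have h3 : x' ≫ toUnit (Over.mk (i ≫ A.hom)) = 𝟙 _ := toUnit_unique _ _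
    rw [MonObj.comp_mul, hx', ← Category.assoc, h3, Category.id_comp]
  haveI : PreconnectedSpace ↥(red C hCcl) := ⟨hpre⟩
  have hRpre : ∀ a : 𝟙_ (Over (Spec (CommRingCat.of k))) ⟶ A,
      _root_.IsPreconnected (Set.range (ι₀ * (toUnit (Over.mk (i ≫ A.hom)) ≫ a)).left) := by
    intro a
    exact isPreconnected_range (ι₀ * (toUnit (Over.mk (i ≫ A.hom)) ≫ a)).left.continuous
  have hRa : ∀ a : 𝟙_ (Over (Spec (CommRingCat.of k))) ⟶ A,
      a.left pt ∈ Set.range (ι₀ * (toUnit (Over.mk (i ≫ A.hom)) ≫ a)).left := by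
    intro a
    refine ⟨e0.left pt, ?_⟩
    exact congrArg (fun t => t.left pt) (he0r a)
  have hRx : ∀ a : 𝟙_ (Over (Spec (CommRingCat.of k))) ⟶ A,
      (x * a).left pt ∈ Set.range (ι₀ * (toUnit (Over.mk (i ≫ A.hom)) ≫ a)).left := by
    intro a
    refine ⟨x'.left pt, ?_⟩
    exact congrArg (fun t => t.left pt) (hx'r a)
  have hRF : ∀ a : 𝟙_ (Over (Spec (CommRingCat.of k))) ⟶ A, f (a.left pt) = f e →
      Set.range (ι₀ * (toUnit (Over.mk (i ≫ A.hom)) ≫ a)).left ⊆ Fib := by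
    rintro a ha _ ⟨u, rfl⟩
    rw [hmemFib, hpt a u, ha]
  constructor
  · -- product
    have hyF : f (y.left pt) = f e := (hmemFib _).mp (hCF hy)
    have hsub1 := (hRpre y).subset_connectedComponentIn (hRa y) (hRF y hyF)
    have hCy : C = connectedComponentIn Fib (y.left pt) := by
      rw [hCdef]; exact connectedComponentIn_eq (by rw [← hCdef]; exact hy)
    rw [← Hom.mul_def, hCy]
    exact hsub1 (hRx y)
  · -- inverse
    obtain ⟨a, ha⟩ : ∃ a : 𝟙_ (Over (Spec (CommRingCat.of k))) ⟶ A, a = x ≫ ι[A] := ⟨_, rfl⟩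
    rw [← ha]
    have hxa : x * a = η[A] := by
      rw [ha, ← Hom.inv_def, _root_.mul_inv_cancel, hη1]
    have heR : e ∈ Set.range (ι₀ * (toUnit (Over.mk (i ≫ A.hom)) ≫ a)).left := by
      have := hRx a
      rw [hxa, ← he] at this
      exact this
    obtain ⟨u1, hu1⟩ := heR
    have haF : f (a.left pt) = f e := by
      rw [← hpt a u1, hu1]
    have hsub1 := (hRpre a).subset_connectedComponentIn ⟨u1, hu1⟩ (hRF a haF)
    rw [hCdef]
    exact hsub1 (hRa a)

end Main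

end Groth.Agent.Lib.AbVarFibreH4
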