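import Mathlib
import Groth.Prelude
import Groth.Agent.Lib.AAKunneth_lead
import Groth.Agent.Lib.AbVarFibre_helper4

set_option backward.isDefEq.respectTransparency false
set_option backward.isDefEq.respectTransparency.types false
set_option autoImplicit false
set_option linter.style.haveILetI false
set_option linter.unusedVariables false
set_option linter.unusedSimpArgs false
set_option linter.unusedSectionVars false
set_option linter.style.longLine false
set_option maxHeartbeats 800000

universe u

open CategoryTheory CategoryTheory.Limits AlgebraicGeometry TopologicalSpace Opposite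

namespace Groth.Agent.Lib.H0ConstH4

open Groth.Agent.Lib.AntiAffine

/-- `H^0(X, O_X) ≃+ Γ(X, ⊤)`. -/
noncomputable def e0 (X : Scheme.{u}) : Coh.HH X (Coh.structureModule X) 0 ≃+ Coh.Γtop X :=
  Sheaf.H.equiv₀ (Coh.toAb (Coh.structureModule X)) (isTerminalTop : IsTerminal (⊤ : X.Opens))

theorem resTop_top (X : Scheme.{u}) (r : Coh.Γtop X) : Coh.resTop X (op ⊤) r = r := by
  have h : (homOfLE (le_top (a := (⊤ : X.Opens)))) = 𝟙 _ := Subsingleton.elim _ _
  have h2 : X.ringCatSheaf.obj.map (𝟙 (op (⊤ : X.Opens))) = 𝟙 _ := X.ringCatSheaf.obj.map_id _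
  show (X.ringCatSheaf.obj.map (homOfLE (le_top (a := (⊤ : X.Opens)))).op).hom r = r
  rw [h, op_id]
  exact congrArg (fun φ => (RingCat.Hom.hom φ) r) h2

theorem e0_smul (X : Scheme.{u}) (r : Coh.Γtop X) (x : Coh.HH X (Coh.structureModule X) 0) :
    e0 X (r • x) = r * e0 X x := by
  have h := Sheaf.H.equiv₀_naturality (hT := (isTerminalTop : IsTerminal (⊤ : X.Opens)))
    (f := Coh.smulAb (Coh.structureModule X) r) x
  show Sheaf.H.equiv₀ _ _ (Sheaf.H.map (Coh.smulAb _ r) 0 x) = _
  rw [← h, Coh.smulAb_app, resTop_top]
  rfl

/-- If `A → Γ(X, O_X)` is bijective for `A = k` a field, `H^0(X, O_X)` has rank one. -/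
theorem finrank_HH_zero_eq_one (k : Type u) [Field k] (X : Scheme.{u})
    [X.Over (Spec (CommRingCat.of k))]
    (hbij : Function.Bijective (Coh.toGlobal (X ↘ Spec (CommRingCat.of k)))) :
    Module.finrank k (Coh.HH X (Coh.structureModule X) 0) = 1 := by
  rw [finrank_eq_one_iff']
  refine ⟨(e0 X).symm 1, ?_, ?_⟩
  · intro h
    have h1 : (1 : Coh.Γtop X) = 0 := by
      have := congrArg (e0 X) h
      rwa [AddEquiv.apply_symm_apply, map_zero] at this
    have h2 : (1 : k) = 0 := hbij.1 (by rw [map_one, map_zero]; exact h1)
    exact one_ne_zero h2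
  · intro w
    obtain ⟨c, hc⟩ := hbij.2 (e0 X w)
    refine ⟨c, (e0 X).injective ?_⟩
    have h3 : c • (e0 X).symm 1 =
        (Coh.toGlobal (X ↘ Spec (CommRingCat.of k)) c) • (e0 X).symm 1 := rfl
    rw [h3, e0_smul, AddEquiv.apply_symm_apply, mul_one, hc]

/-- A proper, geometrically reduced, geometrically connected scheme over a field is
anti-affine. -/
theorem isIso_appTop (k : Type u) [Field k] {X : Scheme.{u}} (f : X ⟶ Spec (CommRingCat.of k))
    [IsProper f] [GeometricallyReduced f] [GeometricallyConnected f] : IsIso f.appTop := by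
  haveI : IsProper (Over.mk f).hom := by show IsProper f; infer_instance
  haveI : GeometricallyReduced (Over.mk f).hom := by show GeometricallyReduced f; infer_instance
  haveI : GeometricallyConnected (Over.mk f).hom := by
    show GeometricallyConnected f; infer_instance
  haveI : LocallyOfFiniteType (Over.mk f).hom := inferInstance
  haveI : QuasiCompact (Over.mk f).hom := inferInstance
  have key : IsIso (Over.mk f).hom.appTop := by
    rw [AAKunneth.aa_bc_iff (AlgebraicClosure k) (Over.mk f)]
    obtain ⟨y, hy⟩ : ∃ y : Spec (CommRingCat.of (AlgebraicClosure k)) ⟶ Spec (CommRingCat.of k),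
        y = Spec.map (CommRingCat.ofHom (algebraMap k (AlgebraicClosure k))) := ⟨_, rfl⟩
    rw [← hy]
    haveI : IsProper (Over.mk (pullback.snd (Over.mk f).hom y)).hom := by
      show IsProper (pullback.snd (Over.mk f).hom y); infer_instance
    haveI : IsReduced (Over.mk (pullback.snd (Over.mk f).hom y)).left :=
      pullback_of_geometrically
        (GeometricallyReduced.geometrically_isReduced (f := f)) (AlgebraicClosure k) y
    haveI : GeometricallyConnected (Over.mk (pullback.snd (Over.mk f).hom y)).hom := by
      show GeometricallyConnected (pullback.snd (Over.mk f).hom y); infer_instance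
    haveI : Subsingleton ↥(Spec (CommRingCat.of (AlgebraicClosure k))) :=
      inferInstanceAs (Subsingleton (PrimeSpectrum (AlgebraicClosure k)))
    haveI : Nonempty ↥(Spec (CommRingCat.of (AlgebraicClosure k))) :=
      inferInstanceAs (Nonempty (PrimeSpectrum (AlgebraicClosure k)))
    haveI : ConnectedSpace (Over.mk (pullback.snd (Over.mk f).hom y)).left :=
      GeometricallyConnected.connectedSpace_of_subsingleton
        (Over.mk (pullback.snd (Over.mk f).hom y)).hom
    have hAA : AA (Over.mk (pullback.snd (Over.mk f).hom y)) :=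
      AbVarFibreH4.aa_of_proper_connected_reduced _
    exact hAA
  exact key

theorem toGlobal_bijective (k : Type u) [Field k] {X : Scheme.{u}}
    (f : X ⟶ Spec (CommRingCat.of k))
    [IsProper f] [GeometricallyReduced f] [GeometricallyConnected f] :
    Function.Bijective (Coh.toGlobal f) := by
  haveI := isIso_appTop k f
  have h : IsIso ((Scheme.ΓSpecIso (CommRingCat.of k)).inv ≫ f.appTop) := inferInstance
  exact ConcreteCategory.bijective_of_isIso ((Scheme.ΓSpecIso (CommRingCat.of k)).inv ≫ f.appTop)

theorem main1536 (k : Type u) [Field k] (X : Scheme.{u}) [X.Over (Spec (CommRingCat.of k))]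
    [IsProper (X ↘ (Spec (CommRingCat.of k)))]
    [GeometricallyReduced (X ↘ (Spec (CommRingCat.of k)))]
    [GeometricallyConnected (X ↘ (Spec (CommRingCat.of k)))] :
    Module.finrank k (Coh.HH X (Coh.structureModule X) 0) = 1 :=
  finrank_HH_zero_eq_one k X (toGlobal_bijective k (X ↘ (Spec (CommRingCat.of k))))

end Groth.Agent.Lib.H0ConstH4
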