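import Groth.Agent.Lib.AffBC1_helper8
import Mathlib
set_option autoImplicit false
open CategoryTheory AlgebraicGeometry Opposite TopologicalSpace TensorProduct
open AlgebraicGeometry.Scheme.Modules
universe u
namespace AffBCH8

section
variable {X S X' S' : Scheme.{u}} {f : X ⟶ S} {g : S' ⟶ S} {g' : X' ⟶ X} {f' : X' ⟶ S'}
  (hc : IsPullback g' f' f g) (M : X.Modules)

include hc in
theorem affine_pushout' {W : S.Opens} {U : X.Opens} {W' : S'.Opens} {U' : X'.Opens}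
    (hW : IsAffineOpen W) (hU : IsAffineOpen U) (hW' : IsAffineOpen W') (hUW : U ≤ f ⁻¹ᵁ W)
    (hW'W : W' ≤ g ⁻¹ᵁ W) (hU'U : U' ≤ g' ⁻¹ᵁ U) (hU'W' : U' ≤ f' ⁻¹ᵁ W')
    (hU' : U' = g' ⁻¹ᵁ U ⊓ f' ⁻¹ᵁ W') :
    IsAffineOpen U' ∧ IsPushout (f.appLE W U hUW) (g.appLE W W' hW'W)
      (g'.appLE U U' hU'U) (f'.appLE W' U' hU'W') := by
  subst hU'
  exact FlatBC2H8.affine_pushout hc hW hU hW' hUW hW'W

variable [IsAffineHom f] [M.IsQuasicoherent]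

include hc in
theorem bc_app_bijective {W : S.Opens} {W' : S'.Opens} (hW : IsAffineOpen W)
    (hW' : IsAffineOpen W') (hW'W : W' ≤ g ⁻¹ᵁ W) :
    Function.Bijective ((bc hc M).app W') := by
  have hU : IsAffineOpen (f ⁻¹ᵁ W) := hW.preimage f
  have hU'U : f' ⁻¹ᵁ W' ≤ g' ⁻¹ᵁ (f ⁻¹ᵁ W) := by
    intro x hx
    show f (g' x) ∈ W
    have : f (g' x) = g (f' x) := by
      rw [← Scheme.Hom.comp_apply, ← Scheme.Hom.comp_apply, hc.w]
    rw [this]; exact hW'W hx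
  have hU'eq : f' ⁻¹ᵁ W' = g' ⁻¹ᵁ (f ⁻¹ᵁ W) ⊓ f' ⁻¹ᵁ W' := (inf_eq_right.mpr hU'U).symm
  obtain ⟨hU', hpo⟩ := affine_pushout' hc hW hU hW' (le_refl _) hW'W hU'U (le_refl _) hU'eq
  haveI : ((Scheme.Modules.pushforward f).obj M).IsQuasicoherent :=
    QCohCrit.isQuasicoherent_pushforward f M
  -- algebra instances
  letI algAB : Algebra Γ(S, W) Γ(X, f ⁻¹ᵁ W) := (f.appLE W (f ⁻¹ᵁ W) (le_refl _)).hom.toAlgebra
  letI algAA' : Algebra Γ(S, W) Γ(S', W') := (g.appLE W W' hW'W).hom.toAlgebra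
  letI algBB' : Algebra Γ(X, f ⁻¹ᵁ W) Γ(X', f' ⁻¹ᵁ W') := (g'.appLE (f ⁻¹ᵁ W) (f' ⁻¹ᵁ W') hU'U).hom.toAlgebra
  letI algA'B' : Algebra Γ(S', W') Γ(X', f' ⁻¹ᵁ W') := (f'.appLE W' (f' ⁻¹ᵁ W') (le_refl _)).hom.toAlgebra
  letI algAB' : Algebra Γ(S, W) Γ(X', f' ⁻¹ᵁ W') :=
    ((g'.appLE (f ⁻¹ᵁ W) (f' ⁻¹ᵁ W') hU'U).hom.comp (f.appLE W (f ⁻¹ᵁ W) (le_refl _)).hom).toAlgebra
  haveI : IsScalarTower Γ(S, W) Γ(X, f ⁻¹ᵁ W) Γ(X', f' ⁻¹ᵁ W') := IsScalarTower.of_algebraMap_eq' rfl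
  haveI : IsScalarTower Γ(S, W) Γ(S', W') Γ(X', f' ⁻¹ᵁ W') := by
    refine IsScalarTower.of_algebraMap_eq' ?_
    change (g'.appLE (f ⁻¹ᵁ W) (f' ⁻¹ᵁ W') hU'U).hom.comp (f.appLE W (f ⁻¹ᵁ W) (le_refl _)).hom =
      (f'.appLE W' (f' ⁻¹ᵁ W') (le_refl _)).hom.comp (g.appLE W W' hW'W).hom
    rw [← CommRingCat.hom_comp, ← CommRingCat.hom_comp]
    congr 1
    exact hpo.w
  haveI : Algebra.IsPushout Γ(S, W) Γ(S', W') Γ(X, f ⁻¹ᵁ W) Γ(X', f' ⁻¹ᵁ W') := by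
    apply Algebra.IsPushout.symm
    exact CommRingCat.isPushout_iff_isPushout.mp hpo
  -- modules
  letI mBN : Module Γ(X, f ⁻¹ᵁ W) Γ((Scheme.Modules.pushforward f).obj M, W) := inferInstanceAs (Module Γ(X, f ⁻¹ᵁ W) Γ(M, f ⁻¹ᵁ W))
  haveI : IsScalarTower Γ(S, W) Γ(X, f ⁻¹ᵁ W) Γ((Scheme.Modules.pushforward f).obj M, W) := by
    refine IsScalarTower.of_algebraMap_smul fun a n => ?_
    show ((f.appLE W (f ⁻¹ᵁ W) (le_refl _)).hom a) • (show Γ(M, f ⁻¹ᵁ W) from n) = a • n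
    rw [Scheme.Hom.appLE_eq_app]
    rfl
  letI mAL : Module Γ(S, W) Γ((Scheme.Modules.pullback g).obj ((Scheme.Modules.pushforward f).obj M), W') :=
    Module.compHom _ (g.appLE W W' hW'W).hom
  haveI : IsScalarTower Γ(S, W) Γ(S', W') Γ((Scheme.Modules.pullback g).obj ((Scheme.Modules.pushforward f).obj M), W') :=
    IsScalarTower.of_algebraMap_smul fun _ _ => rfl
  have bc₁ := PBH8.isBaseChange_cUV g ((Scheme.Modules.pushforward f).obj M) hW'W hW' hW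
  letI mBP : Module Γ(X, f ⁻¹ᵁ W) Γ((Scheme.Modules.pullback g').obj M, f' ⁻¹ᵁ W') := Module.compHom _ (g'.appLE (f ⁻¹ᵁ W) (f' ⁻¹ᵁ W') hU'U).hom
  haveI : IsScalarTower Γ(X, f ⁻¹ᵁ W) Γ(X', f' ⁻¹ᵁ W') Γ((Scheme.Modules.pullback g').obj M, f' ⁻¹ᵁ W') :=
    IsScalarTower.of_algebraMap_smul fun _ _ => rfl
  have bc₂ := PBH8.isBaseChange_cUV g' M hU'U hU' hU
  let E₁ := bc₁.equiv
  let E₂ := bc₂.equiv
  let cB := Algebra.IsPushout.cancelBaseChange Γ(S, W) Γ(S', W') Γ(X, f ⁻¹ᵁ W) Γ(X', f' ⁻¹ᵁ W') Γ((Scheme.Modules.pushforward f).obj M, W)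
  have key : ∀ z : Γ(S', W') ⊗[Γ(S, W)] Γ((Scheme.Modules.pushforward f).obj M, W),
      (bc hc M).app W' (E₁ z) = E₂ (cB.symm z) := by
    intro z
    induction z using TensorProduct.induction_on with
    | zero => rw [map_zero, map_zero, map_zero]; exact (map_zero E₂).symm
    | tmul a' n =>
      have e1 : E₁ (a' ⊗ₜ n) = a' • PBH8.cUVLin g ((Scheme.Modules.pushforward f).obj M) hW'W n := bc₁.equiv_tmul a' n
      have e2 : cB.symm (a' ⊗ₜ n) = algebraMap Γ(S', W') Γ(X', f' ⁻¹ᵁ W') a' ⊗ₜ n :=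
        Algebra.IsPushout.cancelBaseChange_symm_tmul _ _ _ _ _ a' n
      have e3 : E₂ (algebraMap Γ(S', W') Γ(X', f' ⁻¹ᵁ W') a' ⊗ₜ n) =
          algebraMap Γ(S', W') Γ(X', f' ⁻¹ᵁ W') a' • PBH8.cUVLin g' M hU'U n :=
        bc₂.equiv_tmul _ n
      rw [e1, e2]
      refine Eq.trans ?_ e3.symm
      rw [Scheme.Modules.Hom.app_smul, PBH8.cUVLin_apply,
        PBH8.cUVLin_apply, bc_cUV hc M hW'W n hU'U]
      show ((f'.app W').hom a') • (PBH8.cUV g' M hU'U n) =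
        ((f'.appLE W' (f' ⁻¹ᵁ W') (le_refl _)).hom a') • (PBH8.cUV g' M hU'U n)
      rw [Scheme.Hom.appLE_eq_app]
    | add x y hx hy =>
      rw [map_add, map_add, map_add, hx, hy]
      exact (map_add E₂ _ _).symm
  have hfun : ⇑((bc hc M).app W') = (fun l => E₂ (cB.symm (E₁.symm l))) := by
    funext l
    rw [← key, LinearEquiv.apply_symm_apply]
  rw [hfun]
  exact (E₂.bijective.comp cB.symm.bijective).comp E₁.symm.bijective

include hc in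
theorem bc_isIso : IsIso (bc hc M) := by
  haveI : IsAffineHom f' := MorphismProperty.of_isPullback (P := @IsAffineHom) hc inferInstance
  haveI : ((Scheme.Modules.pushforward f).obj M).IsQuasicoherent :=
    QCohCrit.isQuasicoherent_pushforward f M
  haveI : ((Scheme.Modules.pullback g').obj M).IsQuasicoherent := PBH8.isQuasicoherent_pullback g' M
  haveI : ((Scheme.Modules.pushforward f').obj ((Scheme.Modules.pullback g').obj M)).IsQuasicoherent :=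
    QCohCrit.isQuasicoherent_pushforward f' _
  haveI : ((Scheme.Modules.pullback g).obj ((Scheme.Modules.pushforward f).obj M)).IsQuasicoherent :=
    PBH8.isQuasicoherent_pullback g _
  let ι := {W' : S'.Opens // IsAffineOpen W' ∧ ∃ W : S.Opens, IsAffineOpen W ∧ W' ≤ g ⁻¹ᵁ W}
  have hcover : ⨆ i : ι, (i.1 : S'.Opens) = ⊤ := by
    rw [eq_top_iff]
    intro x _
    obtain ⟨V, U, hV, hU, hxU, hUV⟩ := PBH8.exists_affine_pair' g x
    exact Opens.mem_iSup.mpr ⟨⟨U, hU, V, hV, hUV⟩, hxU⟩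
  refine QCohCrit.isIso_of_bijective_on_cover (bc hc M) (fun i : ι => (i.1 : S'.Opens))
    (fun i => i.2.1) hcover ?_
  rintro ⟨W', hW', W, hW, hW'W⟩
  exact bc_app_bijective hc M hW hW' hW'W

end
end AffBCH8
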