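import Mathlib

set_option autoImplicit false
set_option linter.style.haveILetI false
set_option linter.unusedSectionVars false

universe v u

open CategoryTheory CategoryTheory.Limits ZeroObject

namespace Groth.Agent.Lib.ResolUpH4

/-! ## A criterion for a chain map to be a quasi-isomorphism in one degree -/

section Crit

variable {C : Type u} [Category.{v} C] [Abelian C]

theorem quasiIsoAt_of_stage {Q P : ChainComplex C ℤ} (φ : Q ⟶ P) (m : ℤ)
    (Z : C) (ι : Z ⟶ Q.X (m + 1)) (ζ : Z ⟶ P.cycles (m + 1))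
    (hu : ι ≫ φ.f (m + 1) = ζ ≫ P.iCycles (m + 1))
    (hepi : Epi (ζ ≫ P.homologyπ (m + 1)))
    (hιd : ι ≫ Q.d (m + 1) m = 0)
    (hlift : ∀ {A : C} (y : A ⟶ Q.X (m + 1)), y ≫ Q.d (m + 1) m = 0 →
      ∃ y' : A ⟶ Z, y' ≫ ι = y)
    (hmono : ∀ {A : C} (y' : A ⟶ Z), y' ≫ ζ ≫ P.homologyπ (m + 1) = 0 →
      ∃ (A' : C) (π : A' ⟶ A) (_ : Epi π) (w : A' ⟶ Q.X (m + 1 + 1)),
        π ≫ y' ≫ ι = w ≫ Q.d (m + 1 + 1) (m + 1)) :
    QuasiIsoAt φ (m + 1) := by
  have hprev : (ComplexShape.down ℤ).prev (m + 1) = m + 1 + 1 := by simp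
  have hnext : (ComplexShape.down ℤ).next (m + 1) = m := by simp
  rw [quasiIsoAt_iff_isIso_homologyMap]
  haveI : Mono (HomologicalComplex.homologyMap φ (m + 1)) := by
    rw [HomologicalComplex.mono_homologyMap_iff_up_to_refinements φ (m + 1 + 1) (m + 1) m
      hprev hnext]
    intro A y hy z hz
    obtain ⟨y', rfl⟩ := hlift y hy
    have h1 : y' ≫ ζ = z ≫ P.toCycles (m + 1 + 1) (m + 1) := by
      rw [← cancel_mono (P.iCycles (m + 1)), Category.assoc, Category.assoc, P.toCycles_i,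
        ← hu, ← hz, Category.assoc]
    refine hmono y' ?_
    rw [← Category.assoc, h1, Category.assoc, P.toCycles_comp_homologyπ, comp_zero]
  haveI : Epi (HomologicalComplex.homologyMap φ (m + 1)) := by
    rw [HomologicalComplex.epi_homologyMap_iff_up_to_refinements φ (m + 1 + 1) (m + 1) m
      hprev hnext]
    intro A x hx
    haveI := hepi
    obtain ⟨A₁, π₁, hπ₁, y₀, hy₀⟩ := surjective_up_to_refinements_of_epi
      (ζ ≫ P.homologyπ (m + 1)) (P.liftCycles x m hnext hx ≫ P.homologyπ (m + 1))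
    obtain ⟨A₂, π₂, hπ₂, z, hz⟩ := (P.comp_homologyπ_eq_iff_up_to_refinements (m + 1 + 1) (m + 1)
      hprev (π₁ ≫ P.liftCycles x m hnext hx) (y₀ ≫ ζ)).1 (by
        rw [Category.assoc, Category.assoc]
        exact hy₀)
    haveI := hπ₁
    haveI := hπ₂
    refine ⟨A₂, π₂ ≫ π₁, epi_comp _ _, π₂ ≫ y₀ ≫ ι, ?_, z, ?_⟩
    · rw [Category.assoc, Category.assoc, hιd, comp_zero, comp_zero]
    · have h2 := congrArg (fun t => t ≫ P.iCycles (m + 1)) hz
      simp only [Category.assoc, Preadditive.add_comp, HomologicalComplex.liftCycles_i,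
        HomologicalComplex.toCycles_i] at h2
      rw [Category.assoc, Category.assoc, Category.assoc, hu]
      exact h2
  exact isIso_of_mono_of_epi _

end Crit

/-! ## Re-indexing of chain complexes (translation without signs) -/

section Reidx

variable {D : Type u} [Category.{v} D] [HasZeroMorphisms D]

/-- The complex `n ↦ L.X (n - c)` with the same differentials (no sign). -/
def reidx (L : ChainComplex D ℤ) (c : ℤ) : ChainComplex D ℤ where
  X n := L.X (n - c)
  d i j := L.d (i - c) (j - c)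
  shape i j h := L.shape _ _ (fun h' => h (by
    have h'' : j - c + 1 = i - c := h'
    show j + 1 = i
    omega))
  d_comp_d' i j k _ _ := L.d_comp_d _ _ _

/-- Functoriality of `reidx`. -/
def reidxMap {L M : ChainComplex D ℤ} (ψ : L ⟶ M) (c : ℤ) : reidx L c ⟶ reidx M c where
  f n := ψ.f (n - c)
  comm' i j _ := ψ.comm _ _

/-- The canonical isomorphism `reidx (reidx K (-a)) a ≅ K`, as a morphism. -/
noncomputable def Θ (K : ChainComplex D ℤ) (a : ℤ) : reidx (reidx K (-a)) a ⟶ K where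
  f n := (K.XIsoOfEq (show n - a - (-a) = n by omega)).hom
  comm' i j _ := by
    show (K.XIsoOfEq _).hom ≫ K.d i j =
      K.d (i - a - (-a)) (j - a - (-a)) ≫ (K.XIsoOfEq _).hom
    rw [K.XIsoOfEq_hom_comp_d, K.d_comp_XIsoOfEq_hom]

end Reidx

section ReidxAb

variable {C : Type u} [Category.{v} C] [Abelian C]

/-- Homology of the re-indexed complex. -/
noncomputable def reidxHomologyIso (L : ChainComplex C ℤ) (c n : ℤ) :
    (reidx L c).homology n ≅ L.homology (n - c) :=
  ShortComplex.homologyMapIso ((reidx L c).isoSc' (n + 1) n (n - 1) (by simp) (by simp)) ≪≫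
    (ShortComplex.homologyMapIso (L.isoSc' (n + 1 - c) (n - c) (n - 1 - c)
      (by rw [ChainComplex.prev]; omega) (by rw [ChainComplex.next]; omega))).symm

lemma qi_reidx {L M : ChainComplex C ℤ} (ψ : L ⟶ M) [QuasiIso ψ] (c : ℤ) :
    QuasiIso (reidxMap ψ c) := by
  rw [quasiIso_iff]
  intro n
  have h' : QuasiIsoAt ψ (n - c) := inferInstance
  rw [quasiIsoAt_iff' _ (n + 1 - c) (n - c) (n - 1 - c)
    (by rw [ChainComplex.prev]; omega) (by rw [ChainComplex.next]; omega)] at h'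
  rw [quasiIsoAt_iff' _ (n + 1) n (n - 1) (by simp) (by simp)]
  exact h'

end ReidxAb

/-! ## The inductive construction -/

section Stages

variable {C : Type u} [Category.{v} C] [Abelian C]

/-- The hypotheses on the two classes of objects. -/
structure Hyp (K' K'' : ObjectProperty C) : Prop where
  sub : K'' ≤ K'
  h1 : ∀ ⦃A A' : C⦄ (u : A ⟶ A'), K' A' → Epi u → ∃ (B : C) (v : B ⟶ A), K'' B ∧ Epi (v ≫ u)
  h2 : ∀ ⦃A B : C⦄ (u : A ⟶ B), K' A → K' B → Epi u → K' (kernel u)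
  h3 : ∀ ⦃B B' : C⦄, K'' B → K'' B' → K'' (B ⨯ B')

/-- The data after the `n`-th step: the term `Q` in degree `n`, the cycles `Z` of the complex
constructed so far, and their maps to `P`. -/
structure Stage (K' : ObjectProperty C) (P : ChainComplex C ℤ) (n : ℤ) where
  Q : C
  u : Q ⟶ P.X n
  Z : C
  ι : Z ⟶ Q
  ζ : Z ⟶ P.cycles n
  hι : Mono ι
  hu : ι ≫ u = ζ ≫ P.iCycles n
  hZ : K' Z
  hepi : Epi (ζ ≫ P.homologyπ n)

variable {K' K'' : ObjectProperty C} [K'.IsClosedUnderIsomorphisms]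
  (H : Hyp K' K'') {P : ChainComplex C ℤ} (hP : ∀ i, K' (P.homology i))

namespace Stage

variable {n : ℤ} (s : Stage K' P n)

noncomputable def π : s.Z ⟶ P.homology n := s.ζ ≫ P.homologyπ n

noncomputable abbrev N : C := kernel s.π

noncomputable def ν : s.N ⟶ s.Z := kernel.ι s.π

instance : Mono s.ν := by
  unfold ν
  infer_instance

lemma ν_ζ_π : (s.ν ≫ s.ζ) ≫ P.homologyπ n = 0 := by
  rw [Category.assoc]
  exact kernel.condition s.π

noncomputable abbrev M : C := pullback (s.ν ≫ s.ζ) (P.toCycles (n + 1) n)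

noncomputable def fst : s.M ⟶ s.N := pullback.fst _ _

noncomputable def snd : s.M ⟶ P.X (n + 1) := pullback.snd _ _

lemma cond : s.fst ≫ s.ν ≫ s.ζ = s.snd ≫ P.toCycles (n + 1) n := pullback.condition

lemma epi_fst : Epi s.fst := by
  rw [epi_iff_surjective_up_to_refinements]
  intro A y
  obtain ⟨A', π, hπ, x, hx⟩ := (P.comp_homologyπ_eq_zero_iff_up_to_refinements (n + 1) n
    (by simp) (y ≫ s.ν ≫ s.ζ)).1 (by rw [Category.assoc, s.ν_ζ_π, comp_zero])
  exact ⟨A', π, hπ, pullback.lift (π ≫ y) x (by rw [Category.assoc]; exact hx),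
    (pullback.lift_fst _ _ _).symm⟩

include H hP

lemma exB : ∃ (B : C) (v : B ⟶ s.M), K'' B ∧ Epi (v ≫ s.fst) :=
  H.h1 s.fst (H.h2 s.π s.hZ (hP n) s.hepi) s.epi_fst

noncomputable def B : C := (s.exB H hP).choose

noncomputable def v : s.B H hP ⟶ s.M := (s.exB H hP).choose_spec.choose

lemma hB : K'' (s.B H hP) := (s.exB H hP).choose_spec.choose_spec.1

lemma hv : Epi (s.v H hP ≫ s.fst) := (s.exB H hP).choose_spec.choose_spec.2

include s in
lemma exB' : ∃ (B' : C) (v' : B' ⟶ P.cycles (n + 1)), K'' B' ∧ Epi (v' ≫ P.homologyπ (n + 1)) :=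
  H.h1 (P.homologyπ (n + 1)) (hP (n + 1)) inferInstance

noncomputable def B' : C := (s.exB' H hP).choose

noncomputable def v' : s.B' H hP ⟶ P.cycles (n + 1) := (s.exB' H hP).choose_spec.choose

lemma hB' : K'' (s.B' H hP) := (s.exB' H hP).choose_spec.choose_spec.1

lemma hv' : Epi (s.v' H hP ≫ P.homologyπ (n + 1)) := (s.exB' H hP).choose_spec.choose_spec.2

noncomputable abbrev Qn : C := s.B H hP ⨯ s.B' H hP

lemma hQn : K'' (s.Qn H hP) := H.h3 (s.hB H hP) (s.hB' H hP)

noncomputable def ε : s.Qn H hP ⟶ s.N :=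
  (prod.fst : s.B H hP ⨯ s.B' H hP ⟶ s.B H hP) ≫ s.v H hP ≫ s.fst

lemma epi_ε : Epi (s.ε H hP) := by
  haveI := s.hv H hP
  unfold ε
  infer_instance

noncomputable def δ : s.Qn H hP ⟶ s.Z := s.ε H hP ≫ s.ν

noncomputable def un : s.Qn H hP ⟶ P.X (n + 1) :=
  (prod.fst : s.B H hP ⨯ s.B' H hP ⟶ s.B H hP) ≫ s.v H hP ≫ s.snd +
    (prod.snd : s.B H hP ⨯ s.B' H hP ⟶ s.B' H hP) ≫ s.v' H hP ≫ P.iCycles (n + 1)

noncomputable def dnext : s.Qn H hP ⟶ s.Q := s.δ H hP ≫ s.ι

lemma star : s.un H hP ≫ P.d (n + 1) n = s.δ H hP ≫ s.ζ ≫ P.iCycles n := by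
  have h : s.snd ≫ P.d (n + 1) n = s.fst ≫ s.ν ≫ s.ζ ≫ P.iCycles n := by
    rw [← P.toCycles_i (n + 1) n, ← Category.assoc s.snd, ← s.cond]
    simp only [Category.assoc]
  unfold un δ ε
  rw [Preadditive.add_comp]
  simp only [Category.assoc]
  rw [P.iCycles_d, comp_zero, comp_zero, add_zero, h]

lemma comm : s.un H hP ≫ P.d (n + 1) n = s.dnext H hP ≫ s.u := by
  rw [s.star H hP]
  unfold dnext
  rw [Category.assoc, s.hu]

noncomputable def ζn : kernel (s.δ H hP) ⟶ P.cycles (n + 1) :=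
  P.liftCycles (kernel.ι (s.δ H hP) ≫ s.un H hP) n (by simp) (by
    rw [Category.assoc, s.star H hP, ← Category.assoc, kernel.condition, zero_comp])

lemma ζn_i : s.ζn H hP ≫ P.iCycles (n + 1) = kernel.ι (s.δ H hP) ≫ s.un H hP :=
  P.liftCycles_i _ _ _ _

noncomputable def σ : s.B' H hP ⟶ s.Qn H hP := prod.lift 0 (𝟙 _)

set_option backward.isDefEq.respectTransparency false in
lemma σ_δ : s.σ H hP ≫ s.δ H hP = 0 := by
  simp [σ, δ, ε]

set_option backward.isDefEq.respectTransparency false in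
lemma σ_un : s.σ H hP ≫ s.un H hP = s.v' H hP ≫ P.iCycles (n + 1) := by
  simp [σ, un]

/-- The next stage. -/
noncomputable def next : Stage K' P (n + 1) where
  Q := s.Qn H hP
  u := s.un H hP
  Z := kernel (s.δ H hP)
  ι := kernel.ι (s.δ H hP)
  ζ := s.ζn H hP
  hι := inferInstance
  hu := (s.ζn_i H hP).symm
  hZ := by
    have h := H.h2 (s.ε H hP) (H.sub _ (s.hQn H hP)) (H.h2 s.π s.hZ (hP n) s.hepi)
      (s.epi_ε H hP)
    exact K'.prop_of_iso (kernelCompMono (s.ε H hP) s.ν).symm h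
  hepi := by
    haveI := s.hv' H hP
    have h1 : kernel.lift (s.δ H hP) (s.σ H hP) (s.σ_δ H hP) ≫ s.ζn H hP = s.v' H hP := by
      rw [← cancel_mono (P.iCycles (n + 1)), Category.assoc, s.ζn_i H hP, ← Category.assoc,
        kernel.lift_ι, s.σ_un H hP]
    exact epi_of_epi_fac (f := kernel.lift (s.δ H hP) (s.σ H hP) (s.σ_δ H hP))
      (h := s.v' H hP ≫ P.homologyπ (n + 1)) (by rw [← Category.assoc, h1])

lemma next_ι_dnext : (s.next H hP).ι ≫ s.dnext H hP = 0 := by
  show kernel.ι (s.δ H hP) ≫ s.δ H hP ≫ s.ι = 0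
  rw [← Category.assoc, kernel.condition, zero_comp]

lemma dnext_comp : (s.next H hP).dnext H hP ≫ s.dnext H hP = 0 := by
  show ((s.next H hP).δ H hP ≫ (s.next H hP).ι) ≫ s.dnext H hP = 0
  rw [Category.assoc, s.next_ι_dnext H hP, comp_zero]

lemma lift_cycle {A : C} (y : A ⟶ s.Qn H hP) (hy : y ≫ s.dnext H hP = 0) :
    ∃ y' : A ⟶ (s.next H hP).Z, y' ≫ (s.next H hP).ι = y := by
  haveI := s.hι
  have h : y ≫ s.δ H hP = 0 := by
    rw [← cancel_mono s.ι, Category.assoc, zero_comp]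
    exact hy
  exact ⟨kernel.lift (s.δ H hP) y h, kernel.lift_ι _ _ _⟩

lemma mono_step {A : C} (y' : A ⟶ s.Z) (h : y' ≫ s.ζ ≫ P.homologyπ n = 0) :
    ∃ (A' : C) (π : A' ⟶ A) (_ : Epi π) (w : A' ⟶ s.Qn H hP),
      π ≫ y' ≫ s.ι = w ≫ s.dnext H hP := by
  haveI := s.epi_ε H hP
  have h' : y' ≫ s.π = 0 := h
  obtain ⟨A', π, hπ, w, hw⟩ :=
    surjective_up_to_refinements_of_epi (s.ε H hP) (kernel.lift s.π y' h')
  refine ⟨A', π, hπ, w, ?_⟩
  have e1 : kernel.lift s.π y' h' ≫ s.ν = y' := kernel.lift_ι _ _ _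
  calc π ≫ y' ≫ s.ι = (π ≫ kernel.lift s.π y' h') ≫ s.ν ≫ s.ι := by
        rw [Category.assoc, ← Category.assoc (kernel.lift s.π y' h'), e1]
    _ = (w ≫ s.ε H hP) ≫ s.ν ≫ s.ι := by rw [hw]
    _ = w ≫ s.dnext H hP := by
        unfold dnext δ
        simp only [Category.assoc]

end Stage

/-! ### The families indexed by `ℤ` (case `d = 1`) -/

/-- The hypotheses for the case `d = 1`. -/
structure Dat (K' K'' : ObjectProperty C) (P : ChainComplex C ℤ) : Prop where
  H : Hyp K' K''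
  hP : ∀ i, K' (P.homology i)
  hd : ∀ i : ℤ, i < 1 → IsZero (P.homology i)

section Families

variable (X : Dat K' K'' P)

/-- The initial stage. -/
noncomputable def Stage.init : Stage K' P (Int.ofNat 0) where
  Q := 0
  u := 0
  Z := 0
  ι := 0
  ζ := 0
  hι := IsZero.mono (isZero_zero C) _
  hu := by rw [zero_comp, zero_comp]
  hZ := K'.prop_of_iso (X.hd (Int.ofNat 0) (by decide)).isoZero (X.hP (Int.ofNat 0))
  hepi := IsZero.epi (X.hd (Int.ofNat 0) (by decide)) _

/-- All the stages. -/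
noncomputable def stg : ∀ k : ℕ, Stage K' P (Int.ofNat k)
  | 0 => Stage.init X
  | (k + 1) => (stg k).next X.H X.hP

noncomputable def QZ : ℤ → C
  | Int.ofNat k => (stg X k).Q
  | Int.negSucc _ => 0

noncomputable def uZ : ∀ n : ℤ, QZ X n ⟶ P.X n
  | Int.ofNat k => (stg X k).u
  | Int.negSucc _ => 0

noncomputable def dZ : ∀ n : ℤ, QZ X (n + 1) ⟶ QZ X n
  | Int.ofNat k => (stg X k).dnext X.H X.hP
  | Int.negSucc _ => 0

lemma sqZ : ∀ n : ℤ, dZ X (n + 1) ≫ dZ X n = 0
  | Int.ofNat k => (stg X k).dnext_comp X.H X.hP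
  | Int.negSucc _ => (isZero_zero C).eq_of_tgt _ _

/-- The resolving complex. -/
noncomputable def Qcx : ChainComplex C ℤ :=
  ChainComplex.of (QZ X) (dZ X) (sqZ X)

lemma Qcx_d (n : ℤ) : (Qcx X).d (n + 1) n = dZ X n := ChainComplex.of_d _ _ n

lemma QZ_isZero : ∀ n : ℤ, n ≤ 0 → IsZero (QZ X n)
  | Int.ofNat 0, _ => isZero_zero C
  | Int.ofNat (k + 1), h => by
      exfalso
      have h' : ((k + 1 : ℕ) : ℤ) ≤ 0 := h
      omega
  | Int.negSucc _, _ => isZero_zero C

lemma QZ_mem : ∀ n : ℤ, 1 ≤ n → K'' (QZ X n)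
  | Int.ofNat 0, h => by
      exfalso
      have h' : (1 : ℤ) ≤ ((0 : ℕ) : ℤ) := h
      omega
  | Int.ofNat (k + 1), _ => (stg X k).hQn X.H X.hP
  | Int.negSucc m, h => by
      exfalso
      have := Int.negSucc_lt_zero m
      omega

lemma commZ : ∀ n : ℤ, uZ X (n + 1) ≫ P.d (n + 1) n = dZ X n ≫ uZ X n
  | Int.ofNat k => (stg X k).comm X.H X.hP
  | Int.negSucc m => (QZ_isZero X (Int.negSucc m + 1) (by
      have := Int.negSucc_lt_zero m
      omega)).eq_of_src _ _

/-- The resolution map. -/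
noncomputable def Φ : Qcx X ⟶ P where
  f n := uZ X n
  comm' := by
    intro i j hij
    obtain rfl : j + 1 = i := hij
    rw [Qcx_d]
    exact commZ X j

lemma qi_low (n : ℤ) (hn : n ≤ 0) : QuasiIsoAt (Φ X) n := by
  rw [quasiIsoAt_iff_isIso_homologyMap]
  have h1 : IsZero ((Qcx X).homology n) :=
    (HomologicalComplex.ExactAt.of_isZero (K := Qcx X) (i := n)
      (QZ_isZero X n hn)).isZero_homology
  have h2 : IsZero (P.homology n) := X.hd n (by omega)
  haveI : Mono (HomologicalComplex.homologyMap (Φ X) n) := h1.mono _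
  haveI : Epi (HomologicalComplex.homologyMap (Φ X) n) := h2.epi _
  exact isIso_of_mono_of_epi _

lemma qi_high (k : ℕ) : QuasiIsoAt (Φ X) (Int.ofNat k + 1) := by
  refine quasiIsoAt_of_stage (Φ X) (Int.ofNat k) (stg X (k + 1)).Z
    (stg X (k + 1)).ι (stg X (k + 1)).ζ (stg X (k + 1)).hu
    (stg X (k + 1)).hepi ?_ ?_ ?_
  · rw [Qcx_d]
    exact (stg X k).next_ι_dnext X.H X.hP
  · intro A y hy
    rw [Qcx_d] at hy
    exact (stg X k).lift_cycle X.H X.hP y hy
  · intro A y' h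
    obtain ⟨A', π, hπ, w, hw⟩ := (stg X (k + 1)).mono_step X.H X.hP y' h
    refine ⟨A', π, hπ, w, ?_⟩
    rw [Qcx_d]
    exact hw

include X in
theorem core : ∃ (Q : ChainComplex C ℤ) (u : Q ⟶ P),
    (∀ i, 1 ≤ i → K'' (Q.X i)) ∧ (∀ i, i < 1 → IsZero (Q.X i)) ∧ QuasiIso u := by
  refine ⟨Qcx X, Φ X, fun i hi => QZ_mem X i hi,
    fun i hi => QZ_isZero X i (by omega), ?_⟩
  rw [quasiIso_iff]
  intro n
  rcases le_or_gt n 0 with hn | hn
  · exact qi_low X n hn
  · obtain ⟨k, rfl⟩ : ∃ k : ℕ, n = Int.ofNat k + 1 := ⟨(n - 1).toNat, by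
      show n = ((n - 1).toNat : ℤ) + 1
      omega⟩
    exact qi_high X k

end Families

end Stages

/-! ## The general statement -/

section Final

variable {C : Type u} [Category.{v} C] [Abelian C]

theorem main2372 (K' K'' : ObjectProperty C) [K'.IsClosedUnderIsomorphisms] (H : Hyp K' K'')
    (P : ChainComplex C ℤ) (hP : ∀ i, K' (P.homology i)) (d : ℤ)
    (hd : ∀ i < d, IsZero (P.homology i)) :
    ∃ (Q : ChainComplex C ℤ) (u : Q ⟶ P),
      (∀ i, d ≤ i → K'' (Q.X i)) ∧ (∀ i < d, IsZero (Q.X i)) ∧ QuasiIso u := by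
  obtain ⟨a, ha⟩ : ∃ a : ℤ, a = d - 1 := ⟨_, rfl⟩
  have hP' : ∀ i, K' ((reidx P (-a)).homology i) := fun i =>
    K'.prop_of_iso (reidxHomologyIso P (-a) i).symm (hP _)
  have hd' : ∀ i : ℤ, i < 1 → IsZero ((reidx P (-a)).homology i) := fun i hi =>
    IsZero.of_iso (hd (i - -a) (by omega)) (reidxHomologyIso P (-a) i)
  obtain ⟨Q', u', hQ1, hQ2, hqi⟩ := core (Dat.mk H hP' hd')
  haveI := hqi
  haveI : ∀ n, IsIso ((Θ P a).f n) := fun n => by
    show IsIso (P.XIsoOfEq (show n - a - (-a) = n by omega)).hom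
    infer_instance
  haveI : IsIso (Θ P a) := HomologicalComplex.Hom.isIso_of_components _
  haveI := qi_reidx u' a
  exact ⟨reidx Q' a, reidxMap u' a ≫ Θ P a, fun i hi => hQ1 (i - a) (by omega),
    fun i hi => hQ2 (i - a) (by omega), inferInstance⟩

end Final

/-! ## The case of modules over a Noetherian ring -/

section Mod

variable {A : Type u} [CommRing A]

/-- Finitely generated modules. -/
def Kfg : ObjectProperty (ModuleCat.{u} A) := fun M => Module.Finite A M

/-- Finitely generated free modules. -/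
def Kff : ObjectProperty (ModuleCat.{u} A) := fun M => Module.Finite A M ∧ Module.Free A M

instance Kfg_closed : (Kfg (A := A)).IsClosedUnderIsomorphisms where
  of_iso {X Y} e h := by
    haveI : Module.Finite A X := h
    exact Module.Finite.equiv e.toLinearEquiv

variable [IsNoetherianRing A]

lemma hypMod : Hyp (Kfg (A := A)) (Kff (A := A)) where
  sub := fun M h => h.1
  h1 := by
    intro M M' f hM' hf
    haveI : Module.Finite A M' := hM'
    obtain ⟨n, p, hp⟩ := Module.Finite.exists_fin' A M'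
    have hfs : Function.Surjective f.hom := (ModuleCat.epi_iff_surjective f).1 hf
    obtain ⟨g, hg⟩ := Module.projective_lifting_property f.hom p hfs
    refine ⟨ModuleCat.of A (Fin n → A), ModuleCat.ofHom g, ⟨?_, ?_⟩, ?_⟩
    · show Module.Finite A (Fin n → A)
      infer_instance
    · show Module.Free A (Fin n → A)
      infer_instance
    · rw [ModuleCat.epi_iff_surjective]
      intro y
      obtain ⟨x, hx⟩ := hp y
      refine ⟨x, ?_⟩
      show f.hom (g x) = y
      rw [← hx, ← hg]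
      rfl
  h2 := by
    intro M N f hM _ _
    haveI : Module.Finite A M := hM
    exact Module.Finite.of_injective (kernel.ι f).hom
      ((ModuleCat.mono_iff_injective (kernel.ι f)).1 inferInstance)
  h3 := by
    intro B B' hB hB'
    haveI : Module.Finite A B := hB.1
    haveI : Module.Free A B := hB.2
    haveI : Module.Finite A B' := hB'.1
    haveI : Module.Free A B' := hB'.2
    let e : ModuleCat.of A (B × B') ≅ (B ⨯ B') :=
      (limit.isoLimitCone (ModuleCat.binaryProductLimitCone B B')).symm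
    haveI : Module.Finite A (ModuleCat.of A (B × B')) :=
      inferInstanceAs (Module.Finite A (B × B'))
    haveI : Module.Free A (ModuleCat.of A (B × B')) :=
      inferInstanceAs (Module.Free A (B × B'))
    exact ⟨Module.Finite.equiv e.toLinearEquiv, Module.Free.of_equiv e.toLinearEquiv⟩

theorem main2373 (P : ChainComplex (ModuleCat.{u} A) ℤ)
    (hP : ∀ i, Module.Finite A (P.homology i)) (d : ℤ)
    (hd : ∀ i < d, IsZero (P.homology i)) :
    ∃ (Q : ChainComplex (ModuleCat.{u} A) ℤ) (u : Q ⟶ P),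
      (∀ i, Module.Finite A (Q.X i) ∧ Module.Free A (Q.X i)) ∧ (∀ i < d, IsZero (Q.X i)) ∧
        QuasiIso u := by
  obtain ⟨Q, u, h1, h2, h3⟩ := main2372 (Kfg (A := A)) (Kff (A := A)) hypMod P hP d hd
  refine ⟨Q, u, fun i => ?_, h2, h3⟩
  rcases le_or_gt d i with hi | hi
  · exact h1 i hi
  · haveI : Subsingleton (Q.X i) := ModuleCat.subsingleton_of_isZero (h2 i hi)
    exact ⟨inferInstance, inferInstance⟩

end Mod

end Groth.Agent.Lib.ResolUpH4
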