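import Mathlib
import Groth.Agent.Lib.ResolUp_helper4

/-!
# Base change algebra: tensoring a quasi-isomorphism of (possibly unbounded) flat complexes

* `isIso_homologyMap_tensor` / `quasiIso_tensor_of_bound`: if `u : L ⟶ C` is a quasi-isomorphism of
  cochain complexes of flat modules and `u ⊗ M` is an isomorphism on `H^i` for all `i > b` and all `M`,
  then `u ⊗ M` is a quasi-isomorphism for all `M` (descending induction + four lemma).
* `exists_finite_free_qi`: Mumford's lemma for cochain complexes (from `ResolUpH4.main2373`).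
-/

set_option autoImplicit false
universe u
open CategoryTheory CategoryTheory.Limits MonoidalCategory

namespace Groth.Agent.Lib.BCAlgH2

variable {A : Type u} [CommRing A]

/-- cochain complexes of `A`-modules -/
abbrev Cx (A : Type u) [CommRing A] := CochainComplex (ModuleCat.{u} A) ℤ

/-- `- ⊗ M` on complexes -/
noncomputable abbrev TR (M : ModuleCat.{u} A) : Cx A ⥤ Cx A :=
  (tensorRight M).mapHomologicalComplex (ComplexShape.up ℤ)

/-- `K ⊗ g` -/
noncomputable abbrev tm (K : Cx A) {M N : ModuleCat.{u} A} (g : M ⟶ N) :
    (TR M).obj K ⟶ (TR N).obj K :=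
  (NatTrans.mapHomologicalComplex ((tensoringRight (ModuleCat.{u} A)).map g)
    (ComplexShape.up ℤ)).app K

lemma tm_f (K : Cx A) {M N : ModuleCat.{u} A} (g : M ⟶ N) (i : ℤ) :
    (tm K g).f i = K.X i ◁ g := rfl

lemma tm_naturality {L C : Cx A} (u : L ⟶ C) {M N : ModuleCat.{u} A} (g : M ⟶ N) :
    (TR M).map u ≫ tm C g = tm L g ≫ (TR N).map u :=
  (NatTrans.mapHomologicalComplex ((tensoringRight (ModuleCat.{u} A)).map g)
    (ComplexShape.up ℤ)).naturality u

lemma tm_comp_zero (K : Cx A) (S : ShortComplex (ModuleCat.{u} A)) :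
    tm K S.f ≫ tm K S.g = 0 := by
  apply HomologicalComplex.hom_ext
  intro i
  show K.X i ◁ S.f ≫ K.X i ◁ S.g = 0
  rw [← MonoidalCategory.whiskerLeft_comp, S.zero, MonoidalPreadditive.whiskerLeft_zero]

/-- `K ⊗ S` for a short complex of modules `S` -/
noncomputable def tSC (K : Cx A) (S : ShortComplex (ModuleCat.{u} A)) : ShortComplex (Cx A) :=
  ShortComplex.mk (tm K S.f) (tm K S.g) (tm_comp_zero K S)

lemma tSC_shortExact (K : Cx A) (hK : ∀ i, Module.Flat A (K.X i))
    (S : ShortComplex (ModuleCat.{u} A)) (hS : S.ShortExact) : (tSC K S).ShortExact := by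
  apply HomologicalComplex.shortExact_of_degreewise_shortExact
  intro i
  haveI := hK i
  exact hS.map_of_exact (tensorLeft (K.X i))

/-- the morphism `L ⊗ S ⟶ C ⊗ S` -/
noncomputable def tSCmap {L C : Cx A} (u : L ⟶ C) (S : ShortComplex (ModuleCat.{u} A)) :
    tSC L S ⟶ tSC C S where
  τ₁ := (TR S.X₁).map u
  τ₂ := (TR S.X₂).map u
  τ₃ := (TR S.X₃).map u
  comm₁₂ := tm_naturality u S.f
  comm₂₃ := tm_naturality u S.g

section Free

/-- the canonical free cover -/
noncomputable def freeCover (M : ModuleCat.{u} A) : ModuleCat.of A (M →₀ A) ⟶ M :=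
  ModuleCat.ofHom (Finsupp.linearCombination A id)

instance (M : ModuleCat.{u} A) : Epi (freeCover M) := by
  rw [ModuleCat.epi_iff_surjective]
  exact Finsupp.linearCombination_id_surjective A M

/-- the free presentation `0 → R → F → M → 0` -/
noncomputable def freeSES (M : ModuleCat.{u} A) : ShortComplex (ModuleCat.{u} A) :=
  ShortComplex.mk (kernel.ι (freeCover M)) (freeCover M) (kernel.condition _)

lemma freeSES_shortExact (M : ModuleCat.{u} A) : (freeSES M).ShortExact where
  exact := ShortComplex.exact_of_f_is_kernel _ (kernelIsKernel _)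
  mono_f := inferInstanceAs (Mono (kernel.ι (freeCover M)))
  epi_g := inferInstanceAs (Epi (freeCover M))

instance (M : ModuleCat.{u} A) : Module.Free A (freeSES M).X₂ :=
  inferInstanceAs (Module.Free A (M →₀ A))

end Free

lemma preservesHomology_tensorRight (F : ModuleCat.{u} A) [Module.Flat A F] :
    (tensorRight F).PreservesHomology :=
  Functor.preservesHomology_of_map_exact _
    (fun S hS => Module.Flat.rTensor_shortComplex_exact F S hS)

lemma quasiIso_TR_of_flat {L C : Cx A} (u : L ⟶ C) [QuasiIso u] (F : ModuleCat.{u} A)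
    [Module.Flat A F] : QuasiIso ((TR F).map u) := by
  haveI := preservesHomology_tensorRight F
  infer_instance

theorem isIso_homologyMap_tensor {L C : Cx A} (u : L ⟶ C) [QuasiIso u]
    (hL : ∀ i, Module.Flat A (L.X i)) (hC : ∀ i, Module.Flat A (C.X i)) (b : ℤ)
    (hb : ∀ (M : ModuleCat.{u} A) (i : ℤ), b < i →
      IsIso (HomologicalComplex.homologyMap ((TR M).map u) i)) :
    ∀ (k : ℕ) (M : ModuleCat.{u} A) (i : ℤ), b < i + k →
      IsIso (HomologicalComplex.homologyMap ((TR M).map u) i) := by
  intro k
  induction k with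
  | zero =>
    intro M i hi
    exact hb M i (by simpa using hi)
  | succ k ih =>
    intro M i hi
    have IH : ∀ N : ModuleCat.{u} A,
        IsIso (HomologicalComplex.homologyMap ((TR N).map u) (i + 1)) :=
      fun N => ih N (i + 1) (by push_cast at hi; omega)
    have hepi : ∀ N : ModuleCat.{u} A,
        Epi (HomologicalComplex.homologyMap ((TR N).map u) i) := by
      intro N
      have hS := freeSES_shortExact N
      haveI : QuasiIso ((TR (freeSES N).X₂).map u) := quasiIso_TR_of_flat u _
      refine HomologicalComplex.HomologySequence.epi_homologyMap_τ₃ (tSCmap u (freeSES N))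
        (tSC_shortExact L hL _ hS) (tSC_shortExact C hC _ hS) i ?_ ?_ ?_
      · show Epi (HomologicalComplex.homologyMap ((TR (freeSES N).X₂).map u) i)
        infer_instance
      · intro j hij
        obtain rfl : i + 1 = j := hij
        show Epi (HomologicalComplex.homologyMap ((TR (freeSES N).X₁).map u) (i + 1))
        haveI := IH (freeSES N).X₁
        infer_instance
      · intro j hij
        show Mono (HomologicalComplex.homologyMap ((TR (freeSES N).X₂).map u) j)
        infer_instance
    have hmono : Mono (HomologicalComplex.homologyMap ((TR M).map u) i) := by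
      have hS := freeSES_shortExact M
      haveI : QuasiIso ((TR (freeSES M).X₂).map u) := quasiIso_TR_of_flat u _
      refine HomologicalComplex.HomologySequence.mono_homologyMap_τ₃ (tSCmap u (freeSES M))
        (tSC_shortExact L hL _ hS) (tSC_shortExact C hC _ hS) i ?_ ?_ ?_
      · exact hepi (freeSES M).X₁
      · show Mono (HomologicalComplex.homologyMap ((TR (freeSES M).X₂).map u) i)
        infer_instance
      · intro j hij
        obtain rfl : i + 1 = j := hij
        show Mono (HomologicalComplex.homologyMap ((TR (freeSES M).X₁).map u) (i + 1))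
        haveI := IH (freeSES M).X₁
        infer_instance
    haveI := hepi M
    exact isIso_of_mono_of_epi _

/-- **Tensoring a quasi-isomorphism of flat complexes**, given that it is a quasi-isomorphism after
every tensoring in large degrees. -/
theorem quasiIso_tensor_of_bound {L C : Cx A} (u : L ⟶ C) [QuasiIso u]
    (hL : ∀ i, Module.Flat A (L.X i)) (hC : ∀ i, Module.Flat A (C.X i)) (b : ℤ)
    (hb : ∀ (M : ModuleCat.{u} A) (i : ℤ), b < i →
      IsIso (HomologicalComplex.homologyMap ((TR M).map u) i))
    (M : ModuleCat.{u} A) : QuasiIso ((TR M).map u) := by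
  rw [quasiIso_iff]
  intro i
  rw [quasiIsoAt_iff_isIso_homologyMap]
  refine isIso_homologyMap_tensor u hL hC b hb ((b - i).toNat + 1) M i ?_
  have := Int.self_le_toNat (b - i)
  push_cast
  omega

end Groth.Agent.Lib.BCAlgH2
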