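import Mathlib
import Groth.Agent.Lib.BCAlg1_helper2

/-!
# Mumford's lemma for cochain complexes, and the resulting complex of finite free modules
-/

set_option autoImplicit false
universe u
open CategoryTheory CategoryTheory.Limits MonoidalCategory ComplexShape

namespace Groth.Agent.Lib.BCAlgH2

section Reindex

variable {V : Type*} [Category V] [Abelian V]

lemma f_eqToHom {ι : Type*} {c : ComplexShape ι} {K K' : HomologicalComplex V c} (φ : K ⟶ K')
    {a b : ι} (h : a = b) :
    eqToHom (by rw [h]) ≫ φ.f b = φ.f a ≫ eqToHom (by rw [h]) := by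
  subst h
  simp

/-- restriction along `n ↦ -n` preserves quasi-isomorphisms -/
lemma quasiIso_restrictionMap_up {K K' : ChainComplex V ℤ} (φ : K ⟶ K') [QuasiIso φ] :
    QuasiIso (HomologicalComplex.restrictionMap φ embeddingUpIntDownInt) := by
  rw [quasiIso_iff]
  intro j
  have hφ : QuasiIsoAt φ (-j) := inferInstance
  rw [quasiIsoAt_iff' _ (-j + 1) (-j) (-j - 1) (by simp) (by simp)] at hφ
  rw [quasiIsoAt_iff' _ (j - 1) j (j + 1) (by simp) (by simp)]
  refine (ShortComplex.quasiIso_iff_of_arrow_mk_iso _ _ ?_).2 hφ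
  have h1 : embeddingUpIntDownInt.f (j - 1) = -j + 1 := by simp; ring
  have h2 : embeddingUpIntDownInt.f j = -j := rfl
  have h3 : embeddingUpIntDownInt.f (j + 1) = -j - 1 := by simp; ring
  refine Arrow.isoMk
    (HomologicalComplex.restriction.sc'Iso K embeddingUpIntDownInt (j - 1) j (j + 1) h1 h2 h3
      (by simp) (by simp))
    (HomologicalComplex.restriction.sc'Iso K' embeddingUpIntDownInt (j - 1) j (j + 1) h1 h2 h3
      (by simp) (by simp)) ?_
  ext
  · simp [HomologicalComplex.restrictionXIso]
    exact f_eqToHom φ h1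
  · simp [HomologicalComplex.restrictionXIso]
    exact f_eqToHom φ h2
  · simp [HomologicalComplex.restrictionXIso]
    exact f_eqToHom φ h3

end Reindex

variable {A : Type u} [CommRing A]

/-- **Mumford's lemma** for cochain complexes: a complex with finite cohomology, vanishing above `b`,
receives a quasi-isomorphism from a complex of finite free modules vanishing above `b`. -/
theorem exists_finite_free_qi [IsNoetherianRing A] (C : Cx A)
    (hC : ∀ i, Module.Finite A (C.homology i)) (b : ℤ)
    (hb : ∀ i, b < i → IsZero (C.homology i)) :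
    ∃ (L : Cx A) (u : L ⟶ C),
      (∀ i, Module.Finite A (L.X i) ∧ Module.Free A (L.X i)) ∧
        (∀ i, b < i → IsZero (L.X i)) ∧ QuasiIso u := by
  let E := ChainComplex.cochainComplexEquivalence (ModuleCat.{u} A)
  let P : ChainComplex (ModuleCat.{u} A) ℤ := E.inverse.obj C
  have hiso : ∀ i : ℤ, P.homology i ≅ C.homology (-i) := fun i =>
    C.restrictionHomologyIso embeddingDownIntUpInt (i + 1) i (i - 1) (by simp) (by simp)
      (i' := -i - 1) (j' := -i) (k' := -i + 1) (by simp; ring) rfl (by simp; ring)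
      (by simp) (by simp)
  have hP : ∀ i, Module.Finite A (P.homology i) := fun i => by
    haveI := hC (-i)
    exact Module.Finite.equiv (hiso i).symm.toLinearEquiv
  have hd : ∀ i < -b, IsZero (P.homology i) := fun i hi =>
    IsZero.of_iso (hb (-i) (by omega)) (hiso i)
  obtain ⟨Q, v, hQ1, hQ2, hv⟩ := Groth.Agent.Lib.ResolUpH4.main2373 P hP (-b) hd
  haveI := hv
  refine ⟨E.functor.obj Q, E.functor.map v ≫ E.counitIso.hom.app C, fun i => hQ1 (-i),
    fun i hi => hQ2 (-i) (by omega), ?_⟩
  haveI : QuasiIso (E.functor.map v) := quasiIso_restrictionMap_up v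
  infer_instance

/-- `C ⊗ A ≅ C` -/
noncomputable def TRunitIso (C : Cx A) : (TR (𝟙_ (ModuleCat.{u} A))).obj C ≅ C :=
  HomologicalComplex.Hom.isoOfComponents (fun i => ρ_ (C.X i)) (fun i j _ => by
    show (ρ_ (C.X i)).hom ≫ C.d i j = (C.d i j ▷ 𝟙_ (ModuleCat.{u} A)) ≫ (ρ_ (C.X j)).hom
    rw [rightUnitor_naturality])

lemma isZero_homology_of_isZero_X {V : Type*} [Category V] [Abelian V] {ι : Type*}
    {c : ComplexShape ι} (K : HomologicalComplex V c) (i : ι) (h : IsZero (K.X i)) :
    IsZero (K.homology i) :=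
  ShortComplex.isZero_homology_of_isZero_X₂ (K.sc i) h

/-- **The finite free complex computing `H(C ⊗ M)`**: for a complex `C` of flat modules with finite
cohomology such that `H^i(C ⊗ M) = 0` for all `M` and `i > b`, there is a complex `L` of finite free
modules, zero above `b`, with a morphism `u : L ⟶ C` such that `u ⊗ M` is a quasi-isomorphism for all
`M`. -/
theorem exists_L [IsNoetherianRing A] (C : Cx A) (hflat : ∀ i, Module.Flat A (C.X i))
    (hfin : ∀ i, Module.Finite A (C.homology i)) (b : ℤ)
    (hb : ∀ (M : ModuleCat.{u} A) (i : ℤ), b < i → IsZero (((TR M).obj C).homology i)) :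
    ∃ (L : Cx A) (u : L ⟶ C), (∀ i, Module.Finite A (L.X i) ∧ Module.Free A (L.X i)) ∧
      (∀ i, b < i → IsZero (L.X i)) ∧ ∀ M : ModuleCat.{u} A, QuasiIso ((TR M).map u) := by
  have hb0 : ∀ i, b < i → IsZero (C.homology i) := fun i hi =>
    IsZero.of_iso (hb (𝟙_ _) i hi)
      ((HomologicalComplex.homologyFunctor _ _ i).mapIso (TRunitIso C)).symm
  obtain ⟨L, u, hL, hLz, hu⟩ := exists_finite_free_qi C hfin b hb0
  haveI := hu
  refine ⟨L, u, hL, hLz, fun M => ?_⟩
  refine quasiIso_tensor_of_bound u (fun i => ?_) hflat b (fun N i hi => ?_) M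
  · haveI := (hL i).1
    haveI := (hL i).2
    infer_instance
  · have h1 : IsZero (((TR N).obj L).homology i) :=
      isZero_homology_of_isZero_X _ i ((tensorRight N).map_isZero (hLz i hi))
    have h2 := hb N i hi
    exact ⟨⟨0, h1.eq_of_src _ _, h2.eq_of_src _ _⟩⟩

end Groth.Agent.Lib.BCAlgH2
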