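import Mathlib
import Groth.Prelude
import Groth.Agent.Lib.BCAlg2_helper2

/-!
# A morphism of complexes that is universally a quasi-isomorphism induces an isomorphism of the
functors `M ↦ H^p(- ⊗ M)`
-/

set_option autoImplicit false
universe u
open CategoryTheory CategoryTheory.Limits MonoidalCategory

namespace Groth.Agent.Lib.BCAlgH2

variable {A : Type u} [CommRing A]

/-- the isomorphism of functors `H^p(L ⊗ -) ≅ H^p(C ⊗ -)` -/
noncomputable def TFunIso {L C : Cx A} (u : L ⟶ C) (hu : ∀ M : ModuleCat.{u} A, QuasiIso ((TR M).map u))
    (p : ℤ) : CohIII.TFun L p ≅ CohIII.TFun C p :=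
  NatIso.ofComponents
    (fun M => @asIso _ _ _ _ (HomologicalComplex.homologyMap ((TR M).map u) p)
      ((quasiIsoAt_iff_isIso_homologyMap _ _).1 ((quasiIso_iff _).1 (hu M) p)))
    (fun {M M'} g => by
      show HomologicalComplex.homologyMap (tm L g) p ≫
          HomologicalComplex.homologyMap ((TR M').map u) p =
        HomologicalComplex.homologyMap ((TR M).map u) p ≫
          HomologicalComplex.homologyMap (tm C g) p
      rw [← HomologicalComplex.homologyMap_comp, ← HomologicalComplex.homologyMap_comp,
        tm_naturality])

end Groth.Agent.Lib.BCAlgH2
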