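import Mathlib
import Groth.Prelude.Def_CohSite
import Groth.Prelude.Def_CohCx
import Groth.Agent.Lib.CechSiteSheaf_helper2
import Groth.Agent.Lib.CechSiteInj_helper2
import Groth.Agent.Lib.FreeSheaf_helper2
import Groth.Agent.Lib.ExtAcyclicClass_helper2

/-!
# Cartan's criterion and Leray's theorem on a small site
-/

set_option autoImplicit false
universe w v u
open CategoryTheory Limits Opposite Abelian

namespace Groth.Agent.Lib.CechSite

section Map

variable {D : Type u} [Category.{v} D] [HasFiniteProducts D] {P Q : Dᵒᵖ ⥤ AddCommGrpCat.{w}}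
  (φ : P ⟶ Q) {ι : Type w} (Y : ι → D)

lemma map_f_π (n : ℕ) (σ : Fin (n + 1) → ι) :
    ((cechComplexFunctor Y).map φ).f n ≫ Pi.π (fun i : Fin (n + 1) → ι => Q.obj (op (∏ᶜ (Y ∘ i)))) σ =
      Pi.π (fun i : Fin (n + 1) → ι => P.obj (op (∏ᶜ (Y ∘ i)))) σ ≫ φ.app (op (∏ᶜ (Y ∘ σ))) := by
  dsimp [cechComplexFunctor, FormalCoproduct.cochainComplexFunctor,
    AlgebraicTopology.alternatingCofaceMapComplex, FormalCoproduct.cosimplicialObjectFunctor]
  simp only [FormalCoproduct.evalOp_map_app]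
  erw [Pi.map_π]
  rfl

lemma cmp_map (n : ℕ) (x : ((cechComplexFunctor Y).obj P).X n) :
    cmp Q Y n ((((cechComplexFunctor Y).map φ).f n).hom x) = mapC φ Y n (cmp P Y n x) := by
  funext σ
  rw [cmp_apply, mapC_apply, cmp_apply]
  have h := congrArg (fun f => f.hom x) (map_f_π φ Y n σ)
  exact h

lemma map_zero_eq (P Q : Dᵒᵖ ⥤ AddCommGrpCat.{w}) :
    (cechComplexFunctor Y).map (0 : P ⟶ Q) = 0 := by
  ext n x
  apply (cmp Q Y n).injective
  rw [cmp_map]
  have h0 : ((0 : (cechComplexFunctor Y).obj P ⟶ (cechComplexFunctor Y).obj Q).f n).hom x = 0 := rfl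
  rw [h0, map_zero]
  funext σ
  rw [mapC_apply]
  rfl

end Map

section Site

variable {C : Type u} [SmallCategory C] {J : GrothendieckTopology C} {U : C}
  [HasFiniteProducts (Over U)] {ι : Type u} (Y : ι → Over U)

/-- restriction of a morphism of presheaves to `Over U` -/
abbrev qr {P Q : Cᵒᵖ ⥤ AddCommGrpCat.{u}} (φ : P ⟶ Q) : Qr (U := U) P ⟶ Qr Q :=
  Functor.whiskerLeft (Over.forget U).op φ

lemma mapC_qr_apply {P Q : Cᵒᵖ ⥤ AddCommGrpCat.{u}} (φ : P ⟶ Q) (n : ℕ) (β : Coch (Qr P) Y n)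
    (σ : Fin (n + 1) → ι) : mapC (qr φ) Y n β σ = (φ.app (op (T Y σ).left)).hom (β σ) := rfl

/-- the short complex of Čech complexes attached to a short complex of sheaves -/
noncomputable def cechSC (S : ShortComplex (Sheaf J AddCommGrpCat.{u})) :
    ShortComplex (CochainComplex AddCommGrpCat.{u} ℕ) :=
  ShortComplex.mk ((cechComplexFunctor Y).map (qr S.f.hom)) ((cechComplexFunctor Y).map (qr S.g.hom)) (by
    rw [← Functor.map_comp]
    have h : S.f.hom ≫ S.g.hom = 0 := by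
      have := congrArg (fun ψ : S.X₁ ⟶ S.X₃ => ψ.hom) S.zero
      exact this
    have h' : qr (U := U) S.f.hom ≫ qr S.g.hom = 0 := by
      rw [← Functor.whiskerLeft_comp, h]
      rfl
    rw [h', map_zero_eq])

lemma cechSC_shortExact (S : ShortComplex (Sheaf J AddCommGrpCat.{u})) (hS : S.ShortExact)
    (hsurj : ∀ (n : ℕ) (σ : Fin (n + 1) → ι),
      Function.Surjective (S.g.hom.app (op (T Y σ).left)).hom) :
    (cechSC Y S).ShortExact := by
  haveI := hS.mono_f
  apply HomologicalComplex.shortExact_of_degreewise_shortExact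
  intro n
  have hexact : ((cechSC Y S).map (HomologicalComplex.eval _ _ n)).Exact := by
    rw [ShortComplex.ab_exact_iff]
    intro x hx
    have hx' : (((cechComplexFunctor Y).map (qr S.g.hom)).f n).hom x = 0 := hx
    have h1 : mapC (qr S.g.hom) Y n (cmp (Qr S.X₂.obj) Y n x) = 0 := by
      rw [← cmp_map, hx', map_zero]
    have hex : ∀ σ : Fin (n + 1) → ι, ∃ a : S.X₁.obj.obj (op (T Y σ).left),
        (S.f.hom.app _).hom a = cmp (Qr S.X₂.obj) Y n x σ := by
      intro σ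
      apply sections_exact S hS.exact inferInstance
      exact congrFun h1 σ
    choose a ha using hex
    refine ⟨(cmp (Qr S.X₁.obj) Y n).symm a, ?_⟩
    apply (cmp (Qr S.X₂.obj) Y n).injective
    show cmp (Qr S.X₂.obj) Y n ((((cechComplexFunctor Y).map (qr S.f.hom)).f n).hom _) = _
    rw [cmp_map, AddEquiv.apply_symm_apply]
    exact funext ha
  have hmono : Mono ((cechSC Y S).map (HomologicalComplex.eval _ _ n)).f := by
    rw [AddCommGrpCat.mono_iff_injective]
    intro x y hxy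
    have hxy' : (((cechComplexFunctor Y).map (qr S.f.hom)).f n).hom x =
        (((cechComplexFunctor Y).map (qr S.f.hom)).f n).hom y := hxy
    have h1 := congrArg (cmp (Qr S.X₂.obj) Y n) hxy'
    rw [cmp_map, cmp_map] at h1
    apply (cmp (Qr S.X₁.obj) Y n).injective
    funext σ
    apply app_injective S.f (T Y σ).left
    exact congrFun h1 σ
  have hepi : Epi ((cechSC Y S).map (HomologicalComplex.eval _ _ n)).g := by
    rw [AddCommGrpCat.epi_iff_surjective]
    intro z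
    choose b hb using fun σ => hsurj n σ (cmp (Qr S.X₃.obj) Y n z σ)
    refine ⟨(cmp (Qr S.X₂.obj) Y n).symm b, ?_⟩
    apply (cmp (Qr S.X₃.obj) Y n).injective
    show cmp (Qr S.X₃.obj) Y n ((((cechComplexFunctor Y).map (qr S.g.hom)).f n).hom _) = _
    rw [cmp_map, AddEquiv.apply_symm_apply]
    exact funext hb
  exact ShortComplex.ShortExact.mk' hexact hmono hepi

/-- the long exact sequence argument: vanishing for the quotient -/
theorem isZero_cechH_X₃ (S : ShortComplex (Sheaf J AddCommGrpCat.{u})) (hS : S.ShortExact) (p : ℕ)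
    (hsurj : ∀ σ : Fin (p + 2) → ι, Function.Surjective (S.g.hom.app (op (T Y σ).left)).hom)
    (h2 : IsZero (((cechComplexFunctor Y).obj (Qr S.X₂.obj)).homology (p + 1)))
    (h1 : IsZero (((cechComplexFunctor Y).obj (Qr S.X₁.obj)).homology (p + 2))) :
    IsZero (((cechComplexFunctor Y).obj (Qr S.X₃.obj)).homology (p + 1)) := by
  haveI := hS.mono_f
  rw [isZero_homology_succ_iff] at h1 h2 ⊢
  intro γ hγ
  choose γ₀ hγ₀ using fun σ => hsurj σ (γ σ)
  obtain ⟨γ', hγ''⟩ : ∃ γ' : Coch (Qr S.X₂.obj) Y (p + 1), γ' = γ₀ := ⟨γ₀, rfl⟩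
  have hγ' : ∀ σ, (S.g.hom.app (op (T Y σ).left)).hom (γ' σ) = γ σ := by
    intro σ
    rw [hγ'']
    exact hγ₀ σ
  have hγ'm : mapC (qr S.g.hom) Y (p + 1) γ' = γ := funext hγ'
  have hex : ∀ τ : Fin (p + 3) → ι, ∃ a : S.X₁.obj.obj (op (T Y τ).left),
      (S.f.hom.app _).hom a = Dd (Qr S.X₂.obj) Y (p + 1) γ' τ := by
    intro τ
    apply sections_exact S hS.exact inferInstance
    have := congrFun (mapC_Dd (qr S.g.hom) Y (p + 1) γ') τ
    rw [hγ'm, hγ] at this
    exact this.symm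
  choose φ hφ using hex
  have hφm : mapC (qr S.f.hom) Y (p + 2) φ = Dd (Qr S.X₂.obj) Y (p + 1) γ' := funext hφ
  have hDφ : Dd (Qr S.X₁.obj) Y (p + 2) φ = 0 := by
    funext τ
    apply app_injective S.f (T Y τ).left
    have := congrFun (mapC_Dd (qr S.f.hom) Y (p + 2) φ) τ
    rw [hφm, Dd_Dd] at this
    rw [mapC_qr_apply] at this
    refine this.symm.trans ?_
    exact (map_zero _).symm
  obtain ⟨ψ, hψ⟩ := h1 φ hDφ
  have hD0 : Dd (Qr S.X₂.obj) Y (p + 1) (γ' - mapC (qr S.f.hom) Y (p + 1) ψ) = 0 := by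
    rw [map_sub, mapC_Dd, hψ, hφm, sub_self]
  obtain ⟨δ, hδ⟩ := h2 _ hD0
  refine ⟨mapC (qr S.g.hom) Y p δ, ?_⟩
  rw [mapC_Dd, hδ, map_sub, hγ'm]
  have : mapC (qr S.g.hom) Y (p + 1) (mapC (qr S.f.hom) Y (p + 1) ψ) = 0 := by
    funext σ
    rw [mapC_qr_apply, mapC_qr_apply]
    exact app_comp_zero S _ _
  rw [this, sub_zero]

section H0

/-- the augmentation of the Čech complex -/
noncomputable def aug (P : Cᵒᵖ ⥤ AddCommGrpCat.{u}) : P.obj (op U) →+ Coch (Qr P) Y 0 where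
  toFun s σ := rs P (T Y σ).hom s
  map_zero' := by
    funext σ
    exact map_zero (rs P (T Y σ).hom)
  map_add' s t := by
    funext σ
    exact map_add (rs P (T Y σ).hom) s t

lemma aug_apply (P : Cᵒᵖ ⥤ AddCommGrpCat.{u}) (s : P.obj (op U)) (σ : Fin 1 → ι) :
    aug Y P s σ = rs P (T Y σ).hom s := rfl

lemma Dd_aug (P : Cᵒᵖ ⥤ AddCommGrpCat.{u}) (s : P.obj (op U)) :
    Dd (Qr P) Y 0 (aug Y P s) = 0 := by
  funext τ
  rw [Dd_apply', Fin.sum_univ_two]
  simp only [Fin.val_zero, Fin.val_one, pow_zero, pow_one, one_smul, neg_smul, aug_apply, rs_rs,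
    Over.w]
  exact add_neg_cancel _

lemma aug_mapC {P Q : Cᵒᵖ ⥤ AddCommGrpCat.{u}} (φ : P ⟶ Q) (s : P.obj (op U)) :
    mapC (qr φ) Y 0 (aug Y P s) = aug Y Q ((φ.app (op U)).hom s) := by
  funext σ
  rw [mapC_qr_apply, aug_apply, aug_apply, rs_app]

lemma inv1_hom (c : Fin 1 → ι) : inv1 Y c ≫ (T Y c).hom = (Y (c 0)).hom := lft_hom Y c _ _ _

lemma aug_injective (F : Sheaf J AddCommGrpCat.{u})
    (hY : Sieve.ofArrows (fun i => (Y i).left) (fun i => (Y i).hom) ∈ J U) :
    Function.Injective (aug Y F.obj) := by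
  intro s t hst
  apply ext_of_cover Y F hY
  intro i
  have h := congrArg (rs F.obj (inv1 Y (fun _ => i))) (congrFun hst (fun _ => i))
  rw [aug_apply, aug_apply, rs_rs, rs_rs, inv1_hom] at h
  exact h

lemma exists_aug (F : Sheaf J AddCommGrpCat.{u})
    (hY : Sieve.ofArrows (fun i => (Y i).left) (fun i => (Y i).hom) ∈ J U)
    (β : Coch (Qr F.obj) Y 0) (hβ : Dd (Qr F.obj) Y 0 β = 0) :
    ∃ s, aug Y F.obj s = β := by
  have hpair : ∀ σ : Fin 2 → ι, rs F.obj (pr Y σ 0) (ofCoch0 Y F.obj β (σ 0)) =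
      rs F.obj (pr Y σ 1) (ofCoch0 Y F.obj β (σ 1)) := by
    intro σ
    have h1 := congrFun hβ σ
    rw [Dd0_apply] at h1
    exact (sub_eq_zero.1 h1).symm
  obtain ⟨s, hs, -⟩ := existsUnique_glue Y F hY (ofCoch0 Y F.obj β)
    (compat_of_pair Y F.obj _ hpair)
  refine ⟨s, ?_⟩
  funext σ
  rw [aug_apply, ← pr_hom Y σ 0, ← rs_rs, hs]
  unfold ofCoch0
  rw [rs_rs]
  have hc : σ = fun _ => σ 0 := funext fun k => by
    obtain rfl : k = 0 := Subsingleton.elim (α := Fin 1) _ _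
    rfl
  have := coch0_congr Y F.obj β (σ 0) σ hc (𝟙 _) (pr Y σ 0 ≫ inv1 Y (fun _ => σ 0)) (by
    rw [Category.assoc, inv1_pr, Category.comp_id, Category.id_comp]
    simp)
  rw [rs_id] at this
  exact this.symm

/-- the augmentation as a morphism to the degree `0` term of Mathlib's Čech complex -/
noncomputable def εhom (P : Cᵒᵖ ⥤ AddCommGrpCat.{u}) :
    P.obj (op U) ⟶ ((cechComplexFunctor Y).obj (Qr P)).X 0 :=
  AddCommGrpCat.ofHom ((cmp (Qr P) Y 0).symm.toAddMonoidHom.comp (aug Y P))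

lemma cmp_εhom (P : Cᵒᵖ ⥤ AddCommGrpCat.{u}) (s : P.obj (op U)) :
    cmp (Qr P) Y 0 ((εhom Y P).hom s) = aug Y P s :=
  (cmp (Qr P) Y 0).apply_symm_apply _

lemma εhom_d (P : Cᵒᵖ ⥤ AddCommGrpCat.{u}) :
    εhom Y P ≫ ((cechComplexFunctor Y).obj (Qr P)).d 0 1 = 0 := by
  ext s
  apply (cmp (Qr P) Y 1).injective
  show cmp (Qr P) Y 1 ((((cechComplexFunctor Y).obj (Qr P)).d 0 1).hom ((εhom Y P).hom s)) = _
  rw [cmp_d, cmp_εhom, Dd_aug]
  exact (map_zero (cmp (Qr P) Y 1)).symm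

lemma εhom_map {P Q : Cᵒᵖ ⥤ AddCommGrpCat.{u}} (φ : P ⟶ Q) :
    εhom Y P ≫ ((cechComplexFunctor Y).map (qr φ)).f 0 = φ.app (op U) ≫ εhom Y Q := by
  ext s
  apply (cmp (Qr Q) Y 0).injective
  show cmp (Qr Q) Y 0 ((((cechComplexFunctor Y).map (qr φ)).f 0).hom ((εhom Y P).hom s)) =
    cmp (Qr Q) Y 0 ((εhom Y Q).hom ((φ.app (op U)).hom s))
  rw [cmp_map, cmp_εhom, cmp_εhom, aug_mapC]

/-- sections over `U` map to Čech `H^0` -/
noncomputable def κ (P : Cᵒᵖ ⥤ AddCommGrpCat.{u}) :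
    P.obj (op U) ⟶ ((cechComplexFunctor Y).obj (Qr P)).homology 0 :=
  ((cechComplexFunctor Y).obj (Qr P)).liftCycles (εhom Y P) 1 (by simp) (εhom_d Y P) ≫
    ((cechComplexFunctor Y).obj (Qr P)).homologyπ 0

lemma κ_natural {P Q : Cᵒᵖ ⥤ AddCommGrpCat.{u}} (φ : P ⟶ Q) :
    κ Y P ≫ HomologicalComplex.homologyMap ((cechComplexFunctor Y).map (qr φ)) 0 =
      φ.app (op U) ≫ κ Y Q := by
  unfold κ
  rw [Category.assoc, HomologicalComplex.homologyπ_naturality, ← Category.assoc,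
    HomologicalComplex.liftCycles_comp_cyclesMap, ← Category.assoc]
  congr 1
  rw [← cancel_mono (((cechComplexFunctor Y).obj (Qr Q)).iCycles 0)]
  simp only [HomologicalComplex.liftCycles_i, Category.assoc]
  exact εhom_map Y φ

lemma κ_bijective (F : Sheaf J AddCommGrpCat.{u})
    (hY : Sieve.ofArrows (fun i => (Y i).left) (fun i => (Y i).hom) ∈ J U) :
    Function.Bijective (κ Y F.obj).hom := by
  have hπ : Function.Bijective (((cechComplexFunctor Y).obj (Qr F.obj)).homologyπ 0).hom :=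
    (ConcreteCategory.isIso_iff_bijective _).mp inferInstance
  have hi : Function.Injective (((cechComplexFunctor Y).obj (Qr F.obj)).iCycles 0).hom :=
    (AddCommGrpCat.mono_iff_injective _).mp inferInstance
  have hl : Function.Bijective (((cechComplexFunctor Y).obj (Qr F.obj)).liftCycles (εhom Y F.obj) 1
      (by simp) (εhom_d Y F.obj)).hom := by
    have hli : ∀ s, (((cechComplexFunctor Y).obj (Qr F.obj)).iCycles 0).hom
        ((((cechComplexFunctor Y).obj (Qr F.obj)).liftCycles (εhom Y F.obj) 1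
          (by simp) (εhom_d Y F.obj)).hom s) = (εhom Y F.obj).hom s := by
      intro s
      have := congrArg (fun f => f.hom s) (((cechComplexFunctor Y).obj (Qr F.obj)).liftCycles_i
        (εhom Y F.obj) 1 (by simp) (εhom_d Y F.obj))
      exact this
    constructor
    · intro s t hst
      have h1 := congrArg (((cechComplexFunctor Y).obj (Qr F.obj)).iCycles 0).hom hst
      rw [hli, hli] at h1
      have h2 := congrArg (cmp (Qr F.obj) Y 0) h1
      rw [cmp_εhom, cmp_εhom] at h2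
      exact aug_injective Y F hY h2
    · intro z
      have hz : Dd (Qr F.obj) Y 0
          (cmp (Qr F.obj) Y 0 ((((cechComplexFunctor Y).obj (Qr F.obj)).iCycles 0).hom z)) = 0 := by
        rw [← cmp_d]
        have := congrArg (fun f => f.hom z) (((cechComplexFunctor Y).obj (Qr F.obj)).iCycles_d 0 1)
        have h3 : (((cechComplexFunctor Y).obj (Qr F.obj)).d 0 1).hom
            ((((cechComplexFunctor Y).obj (Qr F.obj)).iCycles 0).hom z) = 0 := this
        rw [h3, map_zero]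
      obtain ⟨s, hs⟩ := exists_aug Y F hY _ hz
      refine ⟨s, hi ?_⟩
      rw [hli]
      apply (cmp (Qr F.obj) Y 0).injective
      rw [cmp_εhom, hs]
  exact hπ.comp hl

end H0

end Site

section ExtGen

variable {A : Type*} [Category A] [Abelian A] [HasExt.{u} A] (G : A) {S : ShortComplex A}
  (hS : S.ShortExact)

include hS in
lemma ext_X₃_eq_zero (q : ℕ) (hI : ∀ ξ : Ext G S.X₂ (q + 1), ξ = 0)
    (hF : ∀ ξ : Ext G S.X₁ (q + 2), ξ = 0) (ξ : Ext G S.X₃ (q + 1)) : ξ = 0 := by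
  obtain ⟨y, hy⟩ := Ext.covariant_sequence_exact₃ G hS ξ (rfl : q + 1 + 1 = q + 2) (hF _)
  rw [← hy, hI y, Ext.zero_comp]

/-- the connecting isomorphism when the middle term is acyclic -/
noncomputable def extShift (p : ℕ) (hI1 : ∀ ξ : Ext G S.X₂ (p + 1), ξ = 0)
    (hI2 : ∀ ξ : Ext G S.X₂ (p + 2), ξ = 0) : Ext G S.X₃ (p + 1) ≃+ Ext G S.X₁ (p + 2) :=
  AddEquiv.ofBijective (hS.extClass.postcomp G (rfl : p + 1 + 1 = p + 2)) (by
    constructor
    · rw [injective_iff_map_eq_zero]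
      intro x hx
      obtain ⟨y, hy⟩ := Ext.covariant_sequence_exact₃ G hS x (rfl : p + 1 + 1 = p + 2) hx
      rw [← hy, hI1 y, Ext.zero_comp]
    · intro ξ
      exact Ext.covariant_sequence_exact₁ G hS ξ (hI2 _) (rfl : p + 1 + 1 = p + 2))

end ExtGen

section ExtSide

open Groth.Agent.Lib.FreeSheaf

variable {C : Type u} [SmallCategory C] (J : GrothendieckTopology C)

/-- the free abelian sheaf on an object -/
noncomputable abbrev fr (W : C) : Sheaf J AddCommGrpCat.{u} := freeSheaf J W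

variable (W : C)

lemma homEquiv_add (F : Sheaf J AddCommGrpCat.{u}) (f g : fr J W ⟶ F) :
    freeSheafHomEquiv J W F (f + g) = freeSheafHomEquiv J W F f + freeSheafHomEquiv J W F g := by
  have h1 : f + g = biprod.lift f g ≫ (biprod.fst + biprod.snd) := by
    rw [Preadditive.comp_add, biprod.lift_fst, biprod.lift_snd]
  rw [h1, freeSheafHomEquiv_comp]
  have h2 : ((biprod.fst + biprod.snd : F ⊞ F ⟶ F).hom.app (op W)) =
      (biprod.fst : F ⊞ F ⟶ F).hom.app (op W) + (biprod.snd : F ⊞ F ⟶ F).hom.app (op W) := rfl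
  rw [h2]
  show ((biprod.fst : F ⊞ F ⟶ F).hom.app (op W)).hom _ + ((biprod.snd : F ⊞ F ⟶ F).hom.app (op W)).hom _ = _
  have e1 := freeSheafHomEquiv_comp J W (biprod.lift f g) (biprod.fst : F ⊞ F ⟶ F)
  have e2 := freeSheafHomEquiv_comp J W (biprod.lift f g) (biprod.snd : F ⊞ F ⟶ F)
  rw [biprod.lift_fst] at e1
  rw [biprod.lift_snd] at e2
  rw [e1, e2]

/-- maps from the free sheaf are sections, additively -/
noncomputable def secAddEquiv (F : Sheaf J AddCommGrpCat.{u}) : (fr J W ⟶ F) ≃+ F.obj.obj (op W) :=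
  { freeSheafHomEquiv J W F with
    map_add' := homEquiv_add J W F }

lemma secAddEquiv_comp {F F' : Sheaf J AddCommGrpCat.{u}} (f : fr J W ⟶ F) (φ : F ⟶ F') :
    secAddEquiv J W F' (f ≫ φ) = (φ.hom.app (op W)).hom (secAddEquiv J W F f) :=
  freeSheafHomEquiv_comp J W f φ

lemma secAddEquiv_symm_comp {F F' : Sheaf J AddCommGrpCat.{u}} (s : F.obj.obj (op W)) (φ : F ⟶ F') :
    (secAddEquiv J W F).symm s ≫ φ = (secAddEquiv J W F').symm ((φ.hom.app (op W)).hom s) := by
  apply (secAddEquiv J W F').injective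
  rw [secAddEquiv_comp, AddEquiv.apply_symm_apply, AddEquiv.apply_symm_apply]

/-- sections give classes in `Ext^0` -/
noncomputable def ext0 (F : Sheaf J AddCommGrpCat.{u}) : F.obj.obj (op W) →+ Ext (fr J W) F 0 :=
  AddMonoidHom.mk' (fun s => Ext.mk₀ ((secAddEquiv J W F).symm s)) (by
    intro s t
    rw [map_add, Ext.mk₀_add])

lemma ext0_apply (F : Sheaf J AddCommGrpCat.{u}) (s : F.obj.obj (op W)) :
    ext0 J W F s = Ext.mk₀ ((secAddEquiv J W F).symm s) := rfl

lemma ext0_bijective (F : Sheaf J AddCommGrpCat.{u}) : Function.Bijective (ext0 J W F) :=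
  (Ext.mk₀_bijective (fr J W) F).comp (secAddEquiv J W F).symm.bijective

lemma ext0_comp {F F' : Sheaf J AddCommGrpCat.{u}} (s : F.obj.obj (op W)) (φ : F ⟶ F') :
    (ext0 J W F s).comp (Ext.mk₀ φ) (add_zero 0) = ext0 J W F' ((φ.hom.app (op W)).hom s) := by
  rw [ext0_apply, ext0_apply, Ext.mk₀_comp_mk₀, secAddEquiv_symm_comp]

variable {S : ShortComplex (Sheaf J AddCommGrpCat.{u})} (hS : S.ShortExact)

include hS in
lemma ext0_comp_extClass_eq_zero_iff (z : S.X₃.obj.obj (op W)) :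
    (ext0 J W S.X₃ z).comp hS.extClass (zero_add 1) = 0 ↔
      ∃ s : S.X₂.obj.obj (op W), (S.g.hom.app (op W)).hom s = z := by
  constructor
  · intro h
    obtain ⟨y, hy⟩ := Ext.covariant_sequence_exact₃ (fr J W) hS (ext0 J W S.X₃ z) (zero_add 1) h
    obtain ⟨s, rfl⟩ := (ext0_bijective J W S.X₂).2 y
    rw [ext0_comp] at hy
    exact ⟨s, (ext0_bijective J W S.X₃).1 hy⟩
  · rintro ⟨s, rfl⟩
    rw [← ext0_comp, Ext.comp_assoc_of_second_deg_zero, hS.comp_extClass, Ext.comp_zero]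

include hS in
lemma surjective_of_ext1 (h : ∀ ξ : Ext (fr J W) S.X₁ 1, ξ = 0) :
    Function.Surjective (S.g.hom.app (op W)).hom := by
  intro z
  exact (ext0_comp_extClass_eq_zero_iff J W hS z).1 (h _)

/-- the connecting map from sections of the quotient to `Ext^1` -/
noncomputable def extδ₀ : S.X₃.obj.obj (op W) →+ Ext (fr J W) S.X₁ 1 :=
  (hS.extClass.postcomp (fr J W) (zero_add 1)).comp (ext0 J W S.X₃)

lemma extδ₀_apply (z : S.X₃.obj.obj (op W)) :
    extδ₀ J W hS z = (ext0 J W S.X₃ z).comp hS.extClass (zero_add 1) := rfl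

lemma extδ₀_surjective (hI : ∀ ξ : Ext (fr J W) S.X₂ 1, ξ = 0) :
    Function.Surjective (extδ₀ J W hS) := by
  intro ξ
  obtain ⟨x, hx⟩ := Ext.covariant_sequence_exact₁ (fr J W) hS ξ (hI _) (zero_add 1)
  obtain ⟨z, rfl⟩ := (ext0_bijective J W S.X₃).2 x
  exact ⟨z, hx⟩

end ExtSide

section Main

open Groth.Agent.Lib.FreeSheaf

theorem nonempty_addEquiv_of_surj {Z A B : Type*} [AddCommGroup Z] [AddCommGroup A]
    [AddCommGroup B] (φ : Z →+ A) (ψ : Z →+ B) (hφ : Function.Surjective φ)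
    (hψ : Function.Surjective ψ) (hk : ∀ z, φ z = 0 ↔ ψ z = 0) : Nonempty (A ≃+ B) := by
  have hker : φ.ker = ψ.ker := by
    ext z
    simp only [AddMonoidHom.mem_ker]
    exact hk z
  exact ⟨(QuotientAddGroup.quotientKerEquivOfSurjective φ hφ).symm.trans
    ((QuotientAddGroup.quotientAddEquivOfEq hker).trans
      (QuotientAddGroup.quotientKerEquivOfSurjective ψ hψ))⟩

variable {C : Type u} [SmallCategory C] (J : GrothendieckTopology C) {U : C}
  [HasFiniteProducts (Over U)] {ι : Type u} (Y : ι → Over U)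

lemma injective_obj (I : Sheaf J AddCommGrpCat.{u}) [Injective I] : Injective I.obj :=
  (Injective.injective_of_adjoint (sheafificationAdjunction J AddCommGrpCat.{u}) I :
    Injective ((sheafToPresheaf J AddCommGrpCat.{u}).obj I))

/-- Leray's theorem on a site -/
theorem leray (hY : Sieve.ofArrows (fun i => (Y i).left) (fun i => (Y i).hom) ∈ J U) (p : ℕ) :
    ∀ (F : Sheaf J AddCommGrpCat.{u})
    (_ : ∀ (n : ℕ) (σ : Fin (n + 1) → ι) (q : ℕ) (ξ : Ext (fr J (T Y σ).left) F (q + 1)), ξ = 0),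
    Nonempty (((cechComplexFunctor Y).obj (Qr F.obj)).homology p ≃+ Ext (fr J U) F p) := by
  induction p with
  | zero =>
    intro F h
    exact ⟨(AddEquiv.ofBijective (κ Y F.obj).hom (κ_bijective Y F hY)).symm.trans
      (AddEquiv.ofBijective (ext0 J U F) (ext0_bijective J _ F))⟩
  | succ p ih =>
    intro F h
    let S : ShortComplex (Sheaf J AddCommGrpCat.{u}) := ShortComplex.mk (Injective.ι F)
      (cokernel.π (Injective.ι F)) (cokernel.condition _)
    have hS : S.ShortExact :=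
      { exact := ShortComplex.exact_of_g_is_cokernel _ (cokernelIsCokernel _)
        mono_f := inferInstanceAs (Mono (Injective.ι F))
        epi_g := inferInstanceAs (Epi (cokernel.π (Injective.ι F))) }
    have hI : ∀ (V : C) (n : ℕ) (ξ : Ext (fr J V) S.X₂ (n + 1)), ξ = 0 :=
      fun V n ξ => Ext.eq_zero_of_injective (I := Injective.under F) ξ
    have hsurj : ∀ (n : ℕ) (σ : Fin (n + 1) → ι),
        Function.Surjective (S.g.hom.app (op (T Y σ).left)).hom :=
      fun n σ => surjective_of_ext1 J _ hS (h n σ 0)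
    have hQ : ∀ (n : ℕ) (σ : Fin (n + 1) → ι) (q : ℕ)
        (ξ : Ext (fr J (T Y σ).left) S.X₃ (q + 1)), ξ = 0 :=
      fun n σ q ξ => ext_X₃_eq_zero _ hS q (hI _ q) (h n σ (q + 1)) ξ
    have hSC := cechSC_shortExact Y S hS hsurj
    haveI : Injective S.X₂ := inferInstanceAs (Injective (Injective.under F))
    haveI : Injective S.X₂.obj := injective_obj J S.X₂
    have hCI : ∀ q, IsZero ((cechSC Y S).X₂.homology (q + 1)) :=
      fun q => isZero_cech_of_injective Y S.X₂.obj q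
    cases p with
    | zero =>
      let φ : S.X₃.obj.obj (op U) →+ (cechSC Y S).X₁.homology 1 :=
        (hSC.δ 0 1 rfl).hom.comp (κ Y S.X₃.obj).hom
      have hφs : Function.Surjective φ := by
        have : Epi (hSC.δ 0 1 rfl) := hSC.epi_δ 0 1 rfl (hCI 0)
        exact ((AddCommGrpCat.epi_iff_surjective _).mp this).comp (κ_bijective Y S.X₃ hY).2
      refine nonempty_addEquiv_of_surj φ (extδ₀ J U hS) hφs
        (extδ₀_surjective J _ hS (hI _ 0)) ?_
      intro z
      rw [extδ₀_apply, ext0_comp_extClass_eq_zero_iff]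
      have hn : ∀ s, (HomologicalComplex.homologyMap (cechSC Y S).g 0).hom
          ((κ Y S.X₂.obj).hom s) = (κ Y S.X₃.obj).hom ((S.g.hom.app (op U)).hom s) :=
        fun s => congrArg (fun f => f.hom s) (κ_natural Y S.g.hom)
      constructor
      · intro hz
        have hex := hSC.homology_exact₃ 0 1 rfl
        rw [ShortComplex.ab_exact_iff] at hex
        obtain ⟨y, hy⟩ := hex ((κ Y S.X₃.obj).hom z) hz
        obtain ⟨s, rfl⟩ := (κ_bijective Y S.X₂ hY).2 y
        refine ⟨s, (κ_bijective Y S.X₃ hY).1 ?_⟩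
        exact (hn s).symm.trans hy
      · rintro ⟨s, rfl⟩
        show (hSC.δ 0 1 rfl).hom ((κ Y S.X₃.obj).hom ((S.g.hom.app (op U)).hom s)) = 0
        rw [← hn s]
        have := congrArg (fun f => f.hom ((κ Y S.X₂.obj).hom s)) (hSC.comp_δ 0 1 rfl)
        exact this
    | succ p =>
      obtain ⟨e⟩ := ih S.X₃ hQ
      let e1 : (cechSC Y S).X₃.homology (p + 1) ≅ (cechSC Y S).X₁.homology (p + 2) :=
        hSC.δIso (p + 1) (p + 2) rfl (hCI p) (hCI (p + 1))
      exact ⟨e1.symm.addCommGroupIsoToAddEquiv.trans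
        (e.trans (extShift (fr J U) hS p (hI _ p) (hI _ (p + 1))))⟩

end Main

section Cartan

open Groth.Agent.Lib.FreeSheaf

variable {C : Type u} [SmallCategory C] [HasPullbacks C] (J : GrothendieckTopology C)

/-- Cartan's criterion on a site, relative to a class `B` of objects and a class `Cov` of
covering families -/
theorem ext_eq_zero_of_cech (B : Set C) (Cov : ∀ (U : C) (ι : Type u), (ι → Over U) → Prop)
    (h1 : ∀ (U : C) (ι : Type u) (Y : ι → Over U), Cov U ι Y → U ∈ B ∧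
      Sieve.ofArrows (fun i => (Y i).left) (fun i => (Y i).hom) ∈ J U ∧
      ∀ (p : ℕ) (a : Fin (p + 1) → ι), (∏ᶜ fun k => Y (a k)).left ∈ B)
    (h2 : ∀ U ∈ B, ∀ T ∈ J U, ∃ (ι : Type u) (Y : ι → Over U), Cov U ι Y ∧ ∀ i, T.arrows (Y i).hom)
    (F : Sheaf J AddCommGrpCat.{u})
    (h3 : ∀ (U : C) (ι : Type u) (Y : ι → Over U), Cov U ι Y → ∀ p : ℕ,
      IsZero (((cechComplexFunctor Y).obj (Qr F.obj)).homology (p + 1)))
    (U₀ : C) (hU₀ : U₀ ∈ B) (n : ℕ) (ξ : Ext (fr J U₀) F (n + 1)) : ξ = 0 := by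
  have hsurjB : ∀ (S : ShortComplex (Sheaf J AddCommGrpCat.{u})), S.ShortExact →
      (∀ (U : C) (ι : Type u) (Y : ι → Over U), Cov U ι Y → ∀ p : ℕ,
        IsZero (((cechComplexFunctor Y).obj (Qr S.X₁.obj)).homology (p + 1))) →
      ∀ U₁, U₁ ∈ B → Function.Surjective (S.g.hom.app (op U₁)).hom := by
    intro S hS hP U₁ hU₁
    apply surjective_of_cechH1 S hS
    intro T hT
    obtain ⟨ι, Y, hCov, hr⟩ := h2 U₁ hU₁ T hT
    exact ⟨ι, Y, hr, (h1 _ _ _ hCov).2.1, hP _ ι Y hCov 0⟩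
  refine Groth.Agent.Lib.ExtAcyclic.ext_eq_zero_of_class (fr J U₀)
    (fun F => ∀ (U : C) (ι : Type u) (Y : ι → Over U), Cov U ι Y → ∀ p : ℕ,
      IsZero (((cechComplexFunctor Y).obj (Qr F.obj)).homology (p + 1))) ?_ ?_ ?_ n F h3 ξ
  · intro I hI U ι Y _ p
    haveI := hI
    haveI := injective_obj J I
    exact isZero_cech_of_injective Y I.obj p
  · intro S hS hP1 hP2 U ι Y hCov p
    exact isZero_cechH_X₃ Y S hS p
      (fun σ => hsurjB S hS hP1 _ ((h1 U ι Y hCov).2.2 (p + 1) σ)) (hP2 U ι Y hCov p)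
      (hP1 U ι Y hCov (p + 1))
  · intro S hS hP1 φ
    obtain ⟨t, ht⟩ := hsurjB S hS hP1 U₀ hU₀ (freeSheafHomEquiv J U₀ S.X₃ φ)
    refine ⟨(freeSheafHomEquiv J U₀ S.X₂).symm t, ?_⟩
    apply (freeSheafHomEquiv J U₀ S.X₃).injective
    rw [freeSheafHomEquiv_comp, Equiv.apply_symm_apply]
    exact ht

end Cartan

end Groth.Agent.Lib.CechSite
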