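import Mathlib

/-!
# The long exact sequence of right derived functors for a short exact sequence of functors

Let `T ⟶ A ⟶ P` be natural transformations of additive functors `C ⥤ D` between abelian
categories which are short exact on injective objects.  We construct natural connecting morphisms
`R^n P ⟶ R^{n+1} T`, prove exactness of `R^n A ⟶ R^n P ⟶ R^{n+1} T`, and deduce:
* `R^n P ≅ R^{n+1} T` when `R^n A = R^{n+1} A = 0`;
* `coker (A ⟶ P) ≅ R^1 T` when `A`, `P` are left exact and `R^1 A = 0`.
-/

open CategoryTheory CategoryTheory.Limits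

namespace DerLES

variable {C D : Type*} [Category C] [Category D] [Abelian C] [Abelian D]
  [HasInjectiveResolutions C]
  {T A P : C ⥤ D} [T.Additive] [A.Additive] [P.Additive] (α : T ⟶ A) (β : A ⟶ P)
  (hαβ : α ≫ β = 0)

include hαβ in
omit [HasInjectiveResolutions C] [T.Additive] [A.Additive] [P.Additive] [Abelian C] in
theorem w_app (I : C) : α.app I ≫ β.app I = 0 := by
  rw [← NatTrans.comp_app, hαβ]
  rfl

/-- The sequence `T ⟶ A ⟶ P` is short exact on injective objects. -/
def SESOnInj : Prop :=
  ∀ I : C, Injective I → Mono (α.app I) ∧ Epi (β.app I) ∧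
    (ShortComplex.mk (α.app I) (β.app I) (w_app α β hαβ I)).Exact

/-- The short complex of cochain complexes `T K ⟶ A K ⟶ P K`. -/
noncomputable def SC (K : CochainComplex C ℕ) : ShortComplex (CochainComplex D ℕ) :=
  ShortComplex.mk ((NatTrans.mapHomologicalComplex α (ComplexShape.up ℕ)).app K)
    ((NatTrans.mapHomologicalComplex β (ComplexShape.up ℕ)).app K) (by
      ext n
      exact w_app α β hαβ (K.X n))

omit [HasInjectiveResolutions C] in
theorem SC_shortExact (h : SESOnInj α β hαβ) (K : CochainComplex C ℕ)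
    (hK : ∀ n, Injective (K.X n)) : (SC α β hαβ K).ShortExact :=
  HomologicalComplex.shortExact_of_degreewise_shortExact _ (fun i => by
    obtain ⟨h1, h2, h3⟩ := h (K.X i) (hK i)
    exact ShortComplex.ShortExact.mk' h3 h1 h2)

/-- The morphism of short complexes induced by a morphism of cochain complexes. -/
noncomputable def SCmap {K L : CochainComplex C ℕ} (φ : K ⟶ L) : SC α β hαβ K ⟶ SC α β hαβ L where
  τ₁ := (T.mapHomologicalComplex _).map φ
  τ₂ := (A.mapHomologicalComplex _).map φ
  τ₃ := (P.mapHomologicalComplex _).map φ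
  comm₁₂ := NatTrans.mapHomologicalComplex_naturality α φ
  comm₂₃ := NatTrans.mapHomologicalComplex_naturality β φ

section Clean

/-- The complex `F(I_X)` computing `R^n F X`. -/
noncomputable abbrev cx (F : C ⥤ D) [F.Additive] (X : C) : CochainComplex D ℕ :=
  (F.mapHomologicalComplex (ComplexShape.up ℕ)).obj (injectiveResolution X).cocomplex

/-- `R^n F X ≅ H^n(F(I_X))`, with a syntactically clean target. -/
noncomputable def isoH (F : C ⥤ D) [F.Additive] (X : C) (n : ℕ) :
    (F.rightDerived n).obj X ≅ (cx F X).homology n :=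
  (injectiveResolution X).isoRightDerivedObj F n

/-- The map of complexes induced by a natural transformation. -/
noncomputable def cxMap {F G : C ⥤ D} [F.Additive] [G.Additive] (γ : F ⟶ G) (X : C) :
    cx F X ⟶ cx G X :=
  (NatTrans.mapHomologicalComplex γ (ComplexShape.up ℕ)).app (injectiveResolution X).cocomplex

/-- The map of complexes induced by a morphism in `C`. -/
noncomputable def cxDesc (F : C ⥤ D) [F.Additive] {X Y : C} (φ : X ⟶ Y) : cx F X ⟶ cx F Y :=
  (F.mapHomologicalComplex (ComplexShape.up ℕ)).map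
    (InjectiveResolution.desc φ (injectiveResolution Y) (injectiveResolution X))

theorem derived_app_eq {F G : C ⥤ D} [F.Additive] [G.Additive] (γ : F ⟶ G) (X : C) (n : ℕ) :
    (NatTrans.rightDerived γ n).app X =
      (isoH F X n).hom ≫ HomologicalComplex.homologyMap (cxMap γ X) n ≫ (isoH G X n).inv :=
  InjectiveResolution.rightDerived_app_eq γ (injectiveResolution X) n

theorem derived_map_eq (F : C ⥤ D) [F.Additive] {X Y : C} (φ : X ⟶ Y) (n : ℕ) :
    (F.rightDerived n).map φ =
      (isoH F X n).hom ≫ HomologicalComplex.homologyMap (cxDesc F φ) n ≫ (isoH F Y n).inv :=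
  Functor.rightDerived_map_eq F n φ _ (InjectiveResolution.desc_commutes φ _ _)

/-- The canonical map `F X ⟶ Z^0(F(I_X))`. -/
noncomputable def toCyc (F : C ⥤ D) [F.Additive] (X : C) : F.obj X ⟶ (cx F X).cycles 0 :=
  (injectiveResolution X).toRightDerivedZero' F

theorem toCyc_i (F : C ⥤ D) [F.Additive] (X : C) :
    toCyc F X ≫ (cx F X).iCycles 0 = F.map ((injectiveResolution X).ι.f 0) :=
  InjectiveResolution.toRightDerivedZero'_comp_iCycles _ _

theorem toRDZ_eq (F : C ⥤ D) [F.Additive] (X : C) :
    F.toRightDerivedZero.app X = toCyc F X ≫ (cx F X).homologyπ 0 ≫ (isoH F X 0).inv :=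
  (injectiveResolution X).toRightDerivedZero_eq F

theorem toCyc_naturality {F G : C ⥤ D} [F.Additive] [G.Additive] (γ : F ⟶ G) (X : C) :
    toCyc F X ≫ HomologicalComplex.cyclesMap (cxMap γ X) 0 = γ.app X ≫ toCyc G X := by
  rw [← cancel_mono ((cx G X).iCycles 0), Category.assoc, Category.assoc,
    HomologicalComplex.cyclesMap_i, toCyc_i, ← Category.assoc, toCyc_i]
  exact γ.naturality ((injectiveResolution X).ι.f 0)

theorem toRightDerivedZero_naturality {F G : C ⥤ D} [F.Additive] [G.Additive] (γ : F ⟶ G)
    (X : C) :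
    F.toRightDerivedZero.app X ≫ (NatTrans.rightDerived γ 0).app X =
      γ.app X ≫ G.toRightDerivedZero.app X := by
  rw [toRDZ_eq F X, toRDZ_eq G X, derived_app_eq γ X 0]
  simp only [Category.assoc, Iso.inv_hom_id_assoc]
  rw [HomologicalComplex.homologyπ_naturality_assoc, ← Category.assoc, toCyc_naturality,
    Category.assoc]

end Clean

variable (h : SESOnInj α β hαβ)

include h

/-- The short exact sequence of complexes attached to the chosen injective resolution. -/
theorem sesRes (X : C) : (SC α β hαβ (injectiveResolution X).cocomplex).ShortExact :=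
  SC_shortExact α β hαβ h _ (fun n => (injectiveResolution X).injective n)

/-- The connecting morphism on the level of complexes, with clean types. -/
noncomputable def δ' (X : C) (n : ℕ) : (cx P X).homology n ⟶ (cx T X).homology (n + 1) :=
  (sesRes α β hαβ h X).δ n (n + 1) rfl

theorem δ'_naturality {X Y : C} (φ : X ⟶ Y) (n : ℕ) :
    HomologicalComplex.homologyMap (cxDesc P φ) n ≫ δ' α β hαβ h Y n =
      δ' α β hαβ h X n ≫ HomologicalComplex.homologyMap (cxDesc T φ) (n + 1) :=
  (HomologicalComplex.HomologySequence.δ_naturality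
    (SCmap α β hαβ (InjectiveResolution.desc φ (injectiveResolution Y) (injectiveResolution X)))
    (sesRes α β hαβ h X) (sesRes α β hαβ h Y) n (n + 1) rfl).symm

theorem comp_δ' (X : C) (n : ℕ) :
    HomologicalComplex.homologyMap (cxMap β X) n ≫ δ' α β hαβ h X n = 0 :=
  (sesRes α β hαβ h X).comp_δ n (n + 1) rfl

theorem exact_δ' (X : C) (n : ℕ) :
    (ShortComplex.mk (HomologicalComplex.homologyMap (cxMap β X) n) (δ' α β hαβ h X n)
      (comp_δ' α β hαβ h X n)).Exact :=
  (sesRes α β hαβ h X).homology_exact₃ n (n + 1) rfl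

theorem isIso_δ' (X : C) (n : ℕ) (h0 : IsZero ((cx A X).homology n))
    (h1 : IsZero ((cx A X).homology (n + 1))) : IsIso (δ' α β hαβ h X n) :=
  (sesRes α β hαβ h X).isIso_δ n (n + 1) rfl h0 h1

theorem epi_δ' (X : C) (n : ℕ) (h1 : IsZero ((cx A X).homology (n + 1))) :
    Epi (δ' α β hαβ h X n) :=
  (sesRes α β hαβ h X).epi_δ n (n + 1) rfl h1

/-- The connecting morphism `R^n P X ⟶ R^{n+1} T X`. -/
noncomputable def conn (X : C) (n : ℕ) :
    (P.rightDerived n).obj X ⟶ (T.rightDerived (n + 1)).obj X :=
  (isoH P X n).hom ≫ δ' α β hαβ h X n ≫ (isoH T X (n + 1)).inv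

theorem conn_naturality {X Y : C} (φ : X ⟶ Y) (n : ℕ) :
    (P.rightDerived n).map φ ≫ conn α β hαβ h Y n =
      conn α β hαβ h X n ≫ (T.rightDerived (n + 1)).map φ := by
  rw [derived_map_eq P φ n, derived_map_eq T φ (n + 1)]
  dsimp only [conn]
  simp only [Category.assoc, Iso.inv_hom_id_assoc]
  rw [← Category.assoc (HomologicalComplex.homologyMap (cxDesc P φ) n), δ'_naturality,
    Category.assoc]

/-- The connecting morphisms as a natural transformation. -/
noncomputable def connNat (n : ℕ) : P.rightDerived n ⟶ T.rightDerived (n + 1) where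
  app X := conn α β hαβ h X n
  naturality _ _ φ := conn_naturality α β hαβ h φ n

theorem isIso_conn (X : C) (n : ℕ) (h0 : IsZero ((A.rightDerived n).obj X))
    (h1 : IsZero ((A.rightDerived (n + 1)).obj X)) : IsIso (conn α β hαβ h X n) := by
  haveI : IsIso (δ' α β hαβ h X n) := isIso_δ' α β hαβ h X n
    (IsZero.of_iso h0 (isoH A X n).symm) (IsZero.of_iso h1 (isoH A X (n + 1)).symm)
  unfold conn
  infer_instance

theorem epi_conn (X : C) (n : ℕ) (h1 : IsZero ((A.rightDerived (n + 1)).obj X)) :
    Epi (conn α β hαβ h X n) := by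
  haveI : Epi (δ' α β hαβ h X n) := epi_δ' α β hαβ h X n
    (IsZero.of_iso h1 (isoH A X (n + 1)).symm)
  unfold conn
  infer_instance

/-- `R^n P ≅ R^{n+1} T` when `R^n A` and `R^{n+1} A` vanish. -/
noncomputable def connIso (n : ℕ) (h0 : ∀ X, IsZero ((A.rightDerived n).obj X))
    (h1 : ∀ X, IsZero ((A.rightDerived (n + 1)).obj X)) :
    P.rightDerived n ≅ T.rightDerived (n + 1) :=
  haveI : ∀ X, IsIso ((connNat α β hαβ h n).app X) := fun X =>
    isIso_conn α β hαβ h X n (h0 X) (h1 X)
  haveI : IsIso (connNat α β hαβ h n) := NatIso.isIso_of_isIso_app _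
  asIso (connNat α β hαβ h n)

theorem derived_comp_conn (X : C) (n : ℕ) :
    (NatTrans.rightDerived β n).app X ≫ conn α β hαβ h X n = 0 := by
  rw [derived_app_eq β X n]
  dsimp only [conn]
  simp only [Category.assoc, Iso.inv_hom_id_assoc]
  rw [← Category.assoc (HomologicalComplex.homologyMap (cxMap β X) n), comp_δ', zero_comp,
    comp_zero]

theorem exact_conn (X : C) (n : ℕ) :
    (ShortComplex.mk _ _ (derived_comp_conn α β hαβ h X n)).Exact := by
  refine (ShortComplex.exact_iff_of_iso ?_).2 (exact_δ' α β hαβ h X n)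
  refine ShortComplex.isoMk (isoH A X n) (isoH P X n) (isoH T X (n + 1)) ?_ ?_
  · dsimp only
    rw [derived_app_eq β X n]
    simp only [Category.assoc, Iso.inv_hom_id, Category.comp_id]
  · dsimp only [conn]
    simp only [Category.assoc, Iso.inv_hom_id, Category.comp_id]

section Zero

variable [PreservesFiniteLimits A] [PreservesFiniteLimits P]

/-- The morphism `P ⟶ R^1 T`. -/
noncomputable def bdry : P ⟶ T.rightDerived 1 :=
  P.toRightDerivedZero ≫ connNat α β hαβ h 0

theorem comp_bdry : β ≫ bdry α β hαβ h = 0 := by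
  ext X
  have h1 := toRightDerivedZero_naturality β X
  have h2 := derived_comp_conn α β hαβ h X 0
  show β.app X ≫ P.toRightDerivedZero.app X ≫ conn α β hαβ h X 0 = 0
  rw [← Category.assoc, ← h1, Category.assoc, h2, comp_zero]

theorem exact_bdry (X : C) :
    (ShortComplex.mk (β.app X) ((bdry α β hαβ h).app X)
      (by rw [← NatTrans.comp_app, comp_bdry]; rfl)).Exact := by
  refine (ShortComplex.exact_iff_of_iso ?_).2 (exact_conn α β hαβ h X 0)
  refine ShortComplex.isoMk (asIso (A.toRightDerivedZero.app X))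
    (asIso (P.toRightDerivedZero.app X)) (Iso.refl _) ?_ ?_
  · exact toRightDerivedZero_naturality β X
  · dsimp only [asIso_hom, Iso.refl_hom]
    rw [Category.comp_id]
    rfl

theorem epi_bdry (X : C) (h1 : IsZero ((A.rightDerived 1).obj X)) :
    Epi ((bdry α β hαβ h).app X) := by
  haveI := epi_conn α β hαβ h X 0 h1
  show Epi (P.toRightDerivedZero.app X ≫ conn α β hαβ h X 0)
  infer_instance

/-- `coker (A ⟶ P) ≅ R^1 T` when `A` and `P` are left exact and `R^1 A = 0`. -/
noncomputable def cokerIso (h1 : ∀ X, IsZero ((A.rightDerived 1).obj X)) :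
    cokernel β ≅ T.rightDerived 1 := by
  have hcol : IsColimit (CokernelCofork.ofπ (bdry α β hαβ h) (comp_bdry α β hαβ h)) := by
    refine evaluationJointlyReflectsColimits _ (fun X => ?_)
    refine (CokernelCofork.isColimitMapCoconeEquiv _ ((evaluation C D).obj X)).2 ?_
    haveI := epi_bdry α β hαβ h X (h1 X)
    exact (exact_bdry α β hαβ h X).gIsCokernel
  exact IsColimit.coconePointUniqueUpToIso (cokernelIsCokernel β) hcol

end Zero

end DerLES

namespace DerLES

/-- The higher right derived functors of the identity functor vanish. -/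
theorem isZero_rightDerived_id {C : Type*} [Category C] [Abelian C] [HasInjectiveResolutions C]
    (X : C) (n : ℕ) : IsZero (((𝟭 C).rightDerived (n + 1)).obj X) := by
  refine IsZero.of_iso ?_ ((injectiveResolution X).isoRightDerivedObj (𝟭 C) (n + 1))
  have e : ((𝟭 C).mapHomologicalComplex (ComplexShape.up ℕ)).obj
      (injectiveResolution X).cocomplex ≅ (injectiveResolution X).cocomplex :=
    (Functor.mapHomologicalComplexIdIso C (ComplexShape.up ℕ)).app _
  refine IsZero.of_iso ?_ ((HomologicalComplex.homologyFunctor C (ComplexShape.up ℕ) (n + 1)).mapIso e)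
  exact (HomologicalComplex.exactAt_iff_isZero_homology _ _).1
    ((injectiveResolution X).cocomplex_exactAt_succ n)

end DerLES
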