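import Mathlib
import Groth.Agent.Lib.CechSiteInj_helper2
import Groth.Agent.Lib.CechSiteLeray_helper2
import Groth.Agent.Lib.DerLES_helper9

/-!
# Čech cohomology functors on presheaves as right derived functors of `Ȟ^0`

The Čech complex functors `C^n` on presheaves are exact, the cycle functors `Z^n` are left exact
and `0 → Z^n → C^n → Z^{n+1} → 0` is short exact on injective presheaves.  Hence
`Ȟ^{p+1} = coker (C^p → Z^{p+1}) ≅ R^1 Z^p ≅ R^2 Z^{p-1} ≅ ⋯ ≅ R^{p+1} Z^0 ≅ R^{p+1} Ȟ^0`.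
-/

set_option autoImplicit false
universe w v u
open CategoryTheory Limits Opposite

namespace Groth.Agent.Lib.CechDerived

open Groth.Agent.Lib.CechSite

section Complexes

variable (K : CochainComplex AddCommGrpCat.{w} ℕ)

lemma exists_cycle (n : ℕ) (x : K.X n) (hx : (K.d n (n + 1)).hom x = 0) :
    ∃ z : K.cycles n, (K.iCycles n).hom z = x := by
  have hex : (ShortComplex.mk (K.iCycles n) (K.d n (n + 1)) (K.iCycles_d n (n + 1))).Exact :=
    ShortComplex.exact_of_f_is_kernel _ (K.cyclesIsKernel n (n + 1) (by simp))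
  exact (ShortComplex.ab_exact_iff _).mp hex x hx

lemma iCycles_injective (n : ℕ) : Function.Injective (K.iCycles n).hom :=
  (AddCommGrpCat.mono_iff_injective _).mp inferInstance

lemma epi_toCycles_of_isZero (n : ℕ) (h : IsZero (K.homology (n + 1))) :
    Epi (K.toCycles n (n + 1)) :=
  Preadditive.epi_of_isZero_cokernel' _ (K.homologyIsCokernel n (n + 1) (by simp)) h

lemma iCycles_toCycles (n : ℕ) : K.iCycles n ≫ K.toCycles n (n + 1) = 0 := by
  rw [← cancel_mono (K.iCycles (n + 1)), Category.assoc, K.toCycles_i, K.iCycles_d, zero_comp]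

lemma exact_iCycles_toCycles (n : ℕ) :
    (ShortComplex.mk (K.iCycles n) (K.toCycles n (n + 1)) (iCycles_toCycles K n)).Exact := by
  rw [ShortComplex.ab_exact_iff]
  intro x hx
  apply exists_cycle
  have h1 := congrArg (fun f => f.hom x) (K.toCycles_i n (n + 1))
  have h2 : (K.iCycles (n + 1)).hom ((K.toCycles n (n + 1)).hom x) = (K.d n (n + 1)).hom x := h1
  have hx' : (K.toCycles n (n + 1)).hom x = 0 := hx
  rw [← h2, hx', map_zero]

lemma toCycles_nat {K L : CochainComplex AddCommGrpCat.{w} ℕ} (φ : K ⟶ L) (n : ℕ) :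
    φ.f n ≫ L.toCycles n (n + 1) =
      K.toCycles n (n + 1) ≫ HomologicalComplex.cyclesMap φ (n + 1) := by
  rw [← cancel_mono (L.iCycles (n + 1)), Category.assoc, Category.assoc,
    HomologicalComplex.toCycles_i, HomologicalComplex.cyclesMap_i, ← Category.assoc,
    HomologicalComplex.toCycles_i, HomologicalComplex.Hom.comm]

end Complexes

section Derived

variable {A B : Type*} [Category A] [Abelian A] [Category B] [Abelian B]
  [HasInjectiveResolutions A]

/-- the higher right derived functors of an exact functor vanish -/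
theorem isZero_rightDerived_of_exact (F : A ⥤ B) [F.Additive] [PreservesFiniteLimits F]
    [PreservesFiniteColimits F] (X : A) (q : ℕ) : IsZero ((F.rightDerived (q + 1)).obj X) := by
  refine IsZero.of_iso ?_ ((injectiveResolution X).isoRightDerivedObj F (q + 1))
  refine (HomologicalComplex.exactAt_iff_isZero_homology _ _).1 ?_
  have h := (injectiveResolution X).cocomplex_exactAt_succ q
  have h' : ((injectiveResolution X).cocomplex.sc (q + 1)).Exact := h
  exact h'.map F

/-- the isomorphism of right derived functors induced by a natural isomorphism -/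
noncomputable def rightDerivedMapIso {F G : A ⥤ B} [F.Additive] [G.Additive] (e : F ≅ G) (n : ℕ) :
    F.rightDerived n ≅ G.rightDerived n where
  hom := NatTrans.rightDerived e.hom n
  inv := NatTrans.rightDerived e.inv n
  hom_inv_id := by rw [← NatTrans.rightDerived_comp, e.hom_inv_id, NatTrans.rightDerived_id]
  inv_hom_id := by rw [← NatTrans.rightDerived_comp, e.inv_hom_id, NatTrans.rightDerived_id]

end Derived

variable {C : Type u} [Category.{v} C] {U : C} [HasFiniteProducts (Over U)] {ι : Type w}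
  (Uf : ι → Over U)

/-- the Čech complex functor on presheaves -/
noncomputable def Cf : (Cᵒᵖ ⥤ AddCommGrpCat.{w}) ⥤ CochainComplex AddCommGrpCat.{w} ℕ :=
  (Functor.whiskeringLeft (Over U)ᵒᵖ Cᵒᵖ AddCommGrpCat.{w}).obj (Over.forget U).op ⋙
    cechComplexFunctor Uf

/-- the comparison with concrete cochains -/
noncomputable def cmpC (P : Cᵒᵖ ⥤ AddCommGrpCat.{w}) (n : ℕ) :
    ((Cf Uf).obj P).X n ≃+ Coch ((Over.forget U).op ⋙ P) Uf n :=
  cmp ((Over.forget U).op ⋙ P) Uf n

lemma cmpC_map {P Q : Cᵒᵖ ⥤ AddCommGrpCat.{w}} (φ : P ⟶ Q) (n : ℕ)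
    (x : ((Cf Uf).obj P).X n) (σ : Fin (n + 1) → ι) :
    cmpC Uf Q n ((((Cf Uf).map φ).f n).hom x) σ =
      (φ.app (op (T Uf σ).left)).hom (cmpC Uf P n x σ) :=
  congrFun (cmp_map (Functor.whiskerLeft (Over.forget U).op φ) Uf n x) σ

instance : (Cf Uf).Additive where
  map_add {P Q φ ψ} := by
    ext n x
    apply (cmpC Uf Q n).injective
    funext σ
    rw [cmpC_map]
    show _ = cmpC Uf Q n
      ((((Cf Uf).map φ).f n).hom x + (((Cf Uf).map ψ).f n).hom x) σ
    rw [map_add, Pi.add_apply, cmpC_map, cmpC_map]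
    rfl

section Pointwise

lemma app_exact (S : ShortComplex (Cᵒᵖ ⥤ AddCommGrpCat.{w})) (hS : S.Exact) (V : C)
    (b : S.X₂.obj (op V)) (hb : (S.g.app (op V)).hom b = 0) :
    ∃ a : S.X₁.obj (op V), (S.f.app (op V)).hom a = b := by
  have h2 : (S.map ((evaluation Cᵒᵖ AddCommGrpCat.{w}).obj (op V))).Exact :=
    ((Functor.exact_tfae ((evaluation Cᵒᵖ AddCommGrpCat.{w}).obj (op V))).out 1 3 rfl rfl).mpr
      ⟨inferInstance, inferInstance⟩ _ hS
  exact (ShortComplex.ab_exact_iff _).mp h2 b hb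

lemma app_inj {P Q : Cᵒᵖ ⥤ AddCommGrpCat.{w}} (φ : P ⟶ Q) [Mono φ] (V : C) :
    Function.Injective (φ.app (op V)).hom := by
  have h2 : Mono (φ.app (op V)) := (NatTrans.mono_iff_mono_app φ).mp inferInstance (op V)
  exact (AddCommGrpCat.mono_iff_injective _).mp h2

end Pointwise

/-- the terms of the Čech complex -/
noncomputable def Cn (n : ℕ) : (Cᵒᵖ ⥤ AddCommGrpCat.{w}) ⥤ AddCommGrpCat.{w} :=
  Cf Uf ⋙ HomologicalComplex.eval _ _ n

/-- the cycles of the Čech complex -/
noncomputable def Zn (n : ℕ) : (Cᵒᵖ ⥤ AddCommGrpCat.{w}) ⥤ AddCommGrpCat.{w} :=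
  Cf Uf ⋙ HomologicalComplex.cyclesFunctor _ _ n

/-- the Čech cohomology functors -/
noncomputable def Hn (n : ℕ) : (Cᵒᵖ ⥤ AddCommGrpCat.{w}) ⥤ AddCommGrpCat.{w} :=
  Cf Uf ⋙ HomologicalComplex.homologyFunctor _ _ n

instance (n : ℕ) : (Cn Uf n).Additive := by
  unfold Cn
  infer_instance

instance (n : ℕ) : (Hn Uf n).Additive := by
  unfold Hn
  infer_instance

instance (n : ℕ) : (Zn Uf n).Additive where
  map_add {P Q φ ψ} := by
    show HomologicalComplex.cyclesMap ((Cf Uf).map (φ + ψ)) n =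
      HomologicalComplex.cyclesMap ((Cf Uf).map φ) n + HomologicalComplex.cyclesMap ((Cf Uf).map ψ) n
    rw [← cancel_mono (((Cf Uf).obj Q).iCycles n), Preadditive.add_comp,
      HomologicalComplex.cyclesMap_i, HomologicalComplex.cyclesMap_i,
      HomologicalComplex.cyclesMap_i, Functor.map_add, HomologicalComplex.add_f_apply,
      Preadditive.comp_add]

lemma Cf_map_injective {P Q : Cᵒᵖ ⥤ AddCommGrpCat.{w}} (φ : P ⟶ Q) [Mono φ] (n : ℕ) :
    Function.Injective (((Cf Uf).map φ).f n).hom := by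
  intro x y hxy
  apply (cmpC Uf P n).injective
  funext σ
  apply app_inj φ (T Uf σ).left
  show (φ.app (op (T Uf σ).left)).hom (cmpC Uf P n x σ) =
    (φ.app (op (T Uf σ).left)).hom (cmpC Uf P n y σ)
  rw [← cmpC_map, ← cmpC_map, hxy]

lemma Cf_map_exact (n : ℕ) (S : ShortComplex (Cᵒᵖ ⥤ AddCommGrpCat.{w})) (hS : S.Exact)
    (x : ((Cf Uf).obj S.X₂).X n) (hx : (((Cf Uf).map S.g).f n).hom x = 0) :
    ∃ a : ((Cf Uf).obj S.X₁).X n, (((Cf Uf).map S.f).f n).hom a = x := by
  have hex : ∀ σ, ∃ a : S.X₁.obj (op (T Uf σ).left),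
      (S.f.app _).hom a = cmpC Uf S.X₂ n x σ := by
    intro σ
    apply app_exact S hS (T Uf σ).left
    show (S.g.app (op (T Uf σ).left)).hom (cmpC Uf S.X₂ n x σ) = 0
    rw [← cmpC_map, hx, map_zero]
    rfl
  choose a ha using hex
  refine ⟨(cmpC Uf S.X₁ n).symm a, ?_⟩
  apply (cmpC Uf S.X₂ n).injective
  funext σ
  rw [cmpC_map, AddEquiv.apply_symm_apply]
  exact ha σ

lemma Cn_map_exact (n : ℕ) (S : ShortComplex (Cᵒᵖ ⥤ AddCommGrpCat.{w})) (hS : S.Exact) :
    (S.map (Cn Uf n)).Exact := by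
  rw [ShortComplex.ab_exact_iff]
  intro x hx
  exact Cf_map_exact Uf n S hS x hx

lemma Cn_exact (n : ℕ) : PreservesFiniteLimits (Cn Uf n) ∧ PreservesFiniteColimits (Cn Uf n) :=
  ((Functor.exact_tfae (Cn Uf n)).out 1 3 rfl rfl).mp (Cn_map_exact Uf n)

instance (n : ℕ) : PreservesFiniteLimits (Cn Uf n) := (Cn_exact Uf n).1

instance (n : ℕ) : PreservesFiniteColimits (Cn Uf n) := (Cn_exact Uf n).2

lemma Zn_leftExact (n : ℕ) : PreservesFiniteLimits (Zn Uf n) := by
  refine ((Functor.preservesFiniteLimits_tfae (Zn Uf n)).out 0 3 rfl rfl).mp ?_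
  intro S hS
  haveI := hS.mono_f
  have hi : ∀ (P : Cᵒᵖ ⥤ AddCommGrpCat.{w}) (z : ((Cf Uf).obj P).cycles n),
      True := fun _ _ => trivial
  have hnat : ∀ {P Q : Cᵒᵖ ⥤ AddCommGrpCat.{w}} (φ : P ⟶ Q) (z : ((Cf Uf).obj P).cycles n),
      (((Cf Uf).obj Q).iCycles n).hom ((HomologicalComplex.cyclesMap ((Cf Uf).map φ) n).hom z) =
        (((Cf Uf).map φ).f n).hom ((((Cf Uf).obj P).iCycles n).hom z) := by
    intro P Q φ z
    exact congrArg (fun f => f.hom z) (HomologicalComplex.cyclesMap_i ((Cf Uf).map φ) n)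
  constructor
  · rw [ShortComplex.ab_exact_iff]
    intro x hx
    have hx' : (HomologicalComplex.cyclesMap ((Cf Uf).map S.g) n).hom x = 0 := hx
    obtain ⟨a, ha⟩ := Cf_map_exact Uf n S hS.exact ((((Cf Uf).obj S.X₂).iCycles n).hom x) (by
      rw [← hnat, hx', map_zero])
    have hda : (((Cf Uf).obj S.X₁).d n (n + 1)).hom a = 0 := by
      apply Cf_map_injective Uf S.f (n + 1)
      have hc := congrArg (fun f => f.hom a) (((Cf Uf).map S.f).comm n (n + 1))
      have hc' : (((Cf Uf).obj S.X₂).d n (n + 1)).hom ((((Cf Uf).map S.f).f n).hom a) =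
          (((Cf Uf).map S.f).f (n + 1)).hom ((((Cf Uf).obj S.X₁).d n (n + 1)).hom a) := hc
      rw [← hc', ha, map_zero]
      have hd := congrArg (fun f => f.hom x) (((Cf Uf).obj S.X₂).iCycles_d n (n + 1))
      exact hd
    obtain ⟨z, hz⟩ := exists_cycle _ n a hda
    refine ⟨z, ?_⟩
    apply iCycles_injective
    show (((Cf Uf).obj S.X₂).iCycles n).hom
      ((HomologicalComplex.cyclesMap ((Cf Uf).map S.f) n).hom z) = _
    rw [hnat, hz, ha]
  · show Mono (HomologicalComplex.cyclesMap ((Cf Uf).map S.f) n)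
    rw [AddCommGrpCat.mono_iff_injective]
    intro z z' hzz
    apply iCycles_injective
    apply Cf_map_injective Uf S.f n
    rw [← hnat, ← hnat, hzz]

instance (n : ℕ) : PreservesFiniteLimits (Zn Uf n) := Zn_leftExact Uf n

/-- cycles to cochains -/
noncomputable def iZ (n : ℕ) : Zn Uf n ⟶ Cn Uf n where
  app P := ((Cf Uf).obj P).iCycles n
  naturality P Q φ := HomologicalComplex.cyclesMap_i ((Cf Uf).map φ) n

/-- cochains to cycles of the next degree -/
noncomputable def tZ (n : ℕ) : Cn Uf n ⟶ Zn Uf (n + 1) where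
  app P := ((Cf Uf).obj P).toCycles n (n + 1)
  naturality P Q φ := toCycles_nat ((Cf Uf).map φ) n

lemma iZ_tZ (n : ℕ) : iZ Uf n ≫ tZ Uf n = 0 := by
  ext P : 2
  exact iCycles_toCycles ((Cf Uf).obj P) n

/-- cycles to cohomology -/
noncomputable def πH (n : ℕ) : Zn Uf n ⟶ Hn Uf n :=
  Functor.whiskerLeft (Cf Uf) (HomologicalComplex.natTransHomologyπ _ _ n)

lemma tZ_πH (n : ℕ) : tZ Uf n ≫ πH Uf (n + 1) = 0 := by
  ext P : 2
  exact ((Cf Uf).obj P).toCycles_comp_homologyπ n (n + 1)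

/-- cohomology as a cokernel, functorially -/
noncomputable def cokerH (n : ℕ) : cokernel (tZ Uf n) ≅ Hn Uf (n + 1) := by
  have hcol : IsColimit (CokernelCofork.ofπ (πH Uf (n + 1)) (tZ_πH Uf n)) := by
    refine evaluationJointlyReflectsColimits _ (fun P => ?_)
    refine (CokernelCofork.isColimitMapCoconeEquiv _ ((evaluation _ _).obj P)).2 ?_
    exact ((Cf Uf).obj P).homologyIsCokernel n (n + 1) (by simp)
  exact IsColimit.coconePointUniqueUpToIso (cokernelIsCokernel _) hcol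

/-- `Z^0 ≅ Ȟ^0` -/
noncomputable def isoZH0 : Zn Uf 0 ≅ Hn Uf 0 :=
  haveI : ∀ P, IsIso ((πH Uf 0).app P) := fun P =>
    (inferInstance : IsIso (((Cf Uf).obj P).homologyπ 0))
  haveI := NatIso.isIso_of_isIso_app (πH Uf 0)
  asIso (πH Uf 0)

instance : PreservesFiniteLimits (Hn Uf 0) := preservesFiniteLimits_of_natIso (isoZH0 Uf)

variable [LocallySmall.{w} C]

lemma sesOnInj (n : ℕ) : DerLES.SESOnInj (iZ Uf n) (tZ Uf n) (iZ_tZ Uf n) := by
  intro I hI
  haveI := hI
  exact ⟨inferInstanceAs (Mono (((Cf Uf).obj I).iCycles n)),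
    epi_toCycles_of_isZero _ n (isZero_cech_of_injective Uf I n),
    exact_iCycles_toCycles _ n⟩

variable [HasInjectiveResolutions (Cᵒᵖ ⥤ AddCommGrpCat.{w})]

/-- dimension shifting on the cycle functors -/
noncomputable def shift (k q : ℕ) :
    (Zn Uf (k + 1)).rightDerived (q + 1) ≅ (Zn Uf k).rightDerived (q + 2) :=
  DerLES.connIso (iZ Uf k) (tZ Uf k) (iZ_tZ Uf k) (sesOnInj Uf k) (q + 1)
    (fun X => isZero_rightDerived_of_exact (Cn Uf k) X q)
    (fun X => isZero_rightDerived_of_exact (Cn Uf k) X (q + 1))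

lemma chain : ∀ (k q m : ℕ), m = k + q + 1 →
    Nonempty ((Zn Uf k).rightDerived (q + 1) ≅ (Zn Uf 0).rightDerived m)
  | 0, q, m, h => by
    obtain rfl : m = q + 1 := by omega
    exact ⟨Iso.refl _⟩
  | k + 1, q, m, h => by
    obtain ⟨e⟩ := chain k (q + 1) m (by omega)
    exact ⟨shift Uf k q ≪≫ e⟩

/-- Čech cohomology functors are the right derived functors of `Ȟ^0` -/
theorem cech_iso_rightDerived (p : ℕ) : Nonempty (Hn Uf p ≅ (Hn Uf 0).rightDerived p) := by
  cases p with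
  | zero => exact ⟨(Functor.rightDerivedZeroIsoSelf (Hn Uf 0)).symm⟩
  | succ p =>
    obtain ⟨e⟩ := chain Uf p 0 (p + 1) (by omega)
    exact ⟨(cokerH Uf p).symm ≪≫
      DerLES.cokerIso (iZ Uf p) (tZ Uf p) (iZ_tZ Uf p) (sesOnInj Uf p)
        (fun X => isZero_rightDerived_of_exact (Cn Uf p) X 0) ≪≫ e ≪≫
      rightDerivedMapIso (isoZH0 Uf) (p + 1)⟩

end Groth.Agent.Lib.CechDerived
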