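import Mathlib
import Groth.Agent.Lib.CechSiteLeray_helper2

/-!
# Čech cohomology of a presheaf as Ext out of the free presheaf on the generated sieve

A generic dimension shifting statement comparing the cohomology of a functorial complex with Ext
groups, and its application: for a presheaf `M` (a sheaf for the trivial topology) and a family
`Y i ⟶ U` generating the sieve `R`, `Ȟ^q((Y i ⟶ U), M) ≃ Ext^q(ℤ[R], M)`.
-/

set_option autoImplicit false
universe w w' v u
open CategoryTheory Limits Opposite Abelian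

namespace Groth.Agent.Lib.CechSieve

open Groth.Agent.Lib.CechSite

section DimShift

variable {A : Type u} [Category.{v} A] [Abelian A] [HasExt.{w} A] [EnoughInjectives A] (G : A)
  (K : A ⥤ CochainComplex AddCommGrpCat.{w'} ℕ)

/-- dimension shifting: a functorial complex which is exact on short exact sequences, acyclic on
injectives and computes `Hom(G, -)` in degree `0` computes `Ext(G, -)` -/
theorem dimShift
    (hK : ∀ (S : ShortComplex A), S.ShortExact →
      ∃ w : K.map S.f ≫ K.map S.g = 0, (ShortComplex.mk (K.map S.f) (K.map S.g) w).ShortExact)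
    (hI : ∀ (I : A), Injective I → ∀ q : ℕ, IsZero ((K.obj I).homology (q + 1)))
    (θ : ∀ F : A, (G ⟶ F) →+ (K.obj F).homology 0)
    (hθ : ∀ F, Function.Bijective (θ F))
    (hnat : ∀ {F F' : A} (φ : F ⟶ F') (s : G ⟶ F),
      (HomologicalComplex.homologyMap (K.map φ) 0).hom (θ F s) = θ F' (s ≫ φ))
    (p : ℕ) : ∀ F : A, Nonempty ((K.obj F).homology p ≃+ Ext G F p) := by
  induction p with
  | zero =>
    intro F
    exact ⟨(AddEquiv.ofBijective (θ F) (hθ F)).symm.trans Ext.addEquiv₀.symm⟩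
  | succ p ih =>
    intro F
    let S : ShortComplex A := ShortComplex.mk (Injective.ι F)
      (cokernel.π (Injective.ι F)) (cokernel.condition _)
    have hS : S.ShortExact :=
      { exact := ShortComplex.exact_of_g_is_cokernel _ (cokernelIsCokernel _)
        mono_f := inferInstanceAs (Mono (Injective.ι F))
        epi_g := inferInstanceAs (Epi (cokernel.π (Injective.ι F))) }
    have hIE : ∀ (n : ℕ) (ξ : Ext G S.X₂ (n + 1)), ξ = 0 :=
      fun n ξ => Ext.eq_zero_of_injective (I := Injective.under F) ξ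
    obtain ⟨w, hSC⟩ := hK S hS
    have hCI : ∀ q, IsZero ((K.obj S.X₂).homology (q + 1)) :=
      fun q => hI S.X₂ (inferInstanceAs (Injective (Injective.under F))) q
    cases p with
    | zero =>
      let φ : (G ⟶ S.X₃) →+ (K.obj S.X₁).homology 1 :=
        (hSC.δ 0 1 rfl).hom.comp (θ S.X₃)
      have hφs : Function.Surjective φ := by
        have : Epi (hSC.δ 0 1 rfl) := hSC.epi_δ 0 1 rfl (hCI 0)
        exact ((AddCommGrpCat.epi_iff_surjective _).mp this).comp (hθ S.X₃).2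
      let ψ : (G ⟶ S.X₃) →+ Ext G S.X₁ 1 :=
        (hS.extClass.postcomp G (zero_add 1)).comp Ext.addEquiv₀.symm.toAddMonoidHom
      have hψ : ∀ z, ψ z = (Ext.mk₀ z).comp hS.extClass (zero_add 1) := fun z => rfl
      have hψs : Function.Surjective ψ := by
        intro ξ
        obtain ⟨x, hx⟩ := Ext.covariant_sequence_exact₁ G hS ξ (hIE _ _) (zero_add 1)
        obtain ⟨z, rfl⟩ := Ext.addEquiv₀.symm.surjective x
        exact ⟨z, hx⟩
      refine nonempty_addEquiv_of_surj φ ψ hφs hψs ?_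
      intro z
      have hψz : ψ z = 0 ↔ ∃ s : G ⟶ S.X₂, s ≫ S.g = z := by
        rw [hψ]
        constructor
        · intro h
          obtain ⟨y, hy⟩ := Ext.covariant_sequence_exact₃ G hS (Ext.mk₀ z) (zero_add 1) h
          obtain ⟨s, rfl⟩ := Ext.addEquiv₀.symm.surjective y
          refine ⟨s, ?_⟩
          rw [Ext.addEquiv₀_symm_apply, Ext.mk₀_comp_mk₀] at hy
          exact (Ext.mk₀_bijective _ _).1 hy
        · rintro ⟨s, rfl⟩
          rw [← Ext.mk₀_comp_mk₀, Ext.comp_assoc_of_second_deg_zero, hS.comp_extClass,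
            Ext.comp_zero]
      rw [hψz]
      constructor
      · intro hz
        have hex := hSC.homology_exact₃ 0 1 rfl
        rw [ShortComplex.ab_exact_iff] at hex
        obtain ⟨y, hy⟩ := hex (θ S.X₃ z) hz
        obtain ⟨s, rfl⟩ := (hθ S.X₂).2 y
        refine ⟨s, (hθ S.X₃).1 ?_⟩
        exact (hnat S.g s).symm.trans hy
      · rintro ⟨s, rfl⟩
        show (hSC.δ 0 1 rfl).hom (θ S.X₃ (s ≫ S.g)) = 0
        rw [← hnat S.g s]
        have := congrArg (fun f => f.hom (θ S.X₂ s)) (hSC.comp_δ 0 1 rfl)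
        exact this
    | succ p =>
      obtain ⟨e⟩ := ih S.X₃
      let e1 : (K.obj S.X₃).homology (p + 1) ≅ (K.obj S.X₁).homology (p + 2) :=
        hSC.δIso (p + 1) (p + 2) rfl (hCI p) (hCI (p + 1))
      exact ⟨e1.symm.addCommGroupIsoToAddEquiv.trans
        (e.trans (extShift G hS p (hIE p) (hIE (p + 1))))⟩

end DimShift

section Kappa

variable {C : Type u} [SmallCategory C] {U : C} [HasFiniteProducts (Over U)] {ι : Type u}
  (Y : ι → Over U)

variable (P : Cᵒᵖ ⥤ AddCommGrpCat.{u}) {Z : Type u} [AddCommGroup Z]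
  (a : Z →+ Coch (Qr P) Y 0)

/-- a map to degree `0` cochains, as a morphism to Mathlib's Čech complex -/
noncomputable def εG : AddCommGrpCat.of Z ⟶ ((cechComplexFunctor Y).obj (Qr P)).X 0 :=
  AddCommGrpCat.ofHom ((cmp (Qr P) Y 0).symm.toAddMonoidHom.comp a)

lemma cmp_εG (z : Z) : cmp (Qr P) Y 0 ((εG Y P a).hom z) = a z :=
  (cmp (Qr P) Y 0).apply_symm_apply _

variable (ha : ∀ z, Dd (Qr P) Y 0 (a z) = 0)

include ha in
lemma εG_d : εG Y P a ≫ ((cechComplexFunctor Y).obj (Qr P)).d 0 1 = 0 := by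
  ext s
  apply (cmp (Qr P) Y 1).injective
  show cmp (Qr P) Y 1 ((((cechComplexFunctor Y).obj (Qr P)).d 0 1).hom ((εG Y P a).hom s)) = _
  rw [cmp_d, cmp_εG, ha]
  exact (map_zero (cmp (Qr P) Y 1)).symm

/-- the induced map to Čech `H^0` -/
noncomputable def κG : AddCommGrpCat.of Z ⟶ ((cechComplexFunctor Y).obj (Qr P)).homology 0 :=
  ((cechComplexFunctor Y).obj (Qr P)).liftCycles (εG Y P a) 1 (by simp) (εG_d Y P a ha) ≫
    ((cechComplexFunctor Y).obj (Qr P)).homologyπ 0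

lemma κG_natural {Q : Cᵒᵖ ⥤ AddCommGrpCat.{u}} (φ : P ⟶ Q) {Z' : Type u} [AddCommGroup Z']
    (a' : Z' →+ Coch (Qr Q) Y 0) (ha' : ∀ z, Dd (Qr Q) Y 0 (a' z) = 0) (f : Z →+ Z')
    (hf : ∀ z, mapC (qr φ) Y 0 (a z) = a' (f z)) :
    κG Y P a ha ≫ HomologicalComplex.homologyMap ((cechComplexFunctor Y).map (qr φ)) 0 =
      AddCommGrpCat.ofHom f ≫ κG Y Q a' ha' := by
  unfold κG
  rw [Category.assoc, HomologicalComplex.homologyπ_naturality, ← Category.assoc,
    HomologicalComplex.liftCycles_comp_cyclesMap, ← Category.assoc]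
  congr 1
  rw [← cancel_mono (((cechComplexFunctor Y).obj (Qr Q)).iCycles 0)]
  simp only [HomologicalComplex.liftCycles_i, Category.assoc]
  ext s
  apply (cmp (Qr Q) Y 0).injective
  show cmp (Qr Q) Y 0 ((((cechComplexFunctor Y).map (qr φ)).f 0).hom ((εG Y P a).hom s)) =
    cmp (Qr Q) Y 0 ((εG Y Q a').hom (f s))
  rw [cmp_map, cmp_εG, cmp_εG, hf]

lemma κG_bijective (hinj : Function.Injective a)
    (hsurj : ∀ β : Coch (Qr P) Y 0, Dd (Qr P) Y 0 β = 0 → ∃ z, a z = β) :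
    Function.Bijective (κG Y P a ha).hom := by
  have hπ : Function.Bijective (((cechComplexFunctor Y).obj (Qr P)).homologyπ 0).hom :=
    (ConcreteCategory.isIso_iff_bijective _).mp inferInstance
  have hi : Function.Injective (((cechComplexFunctor Y).obj (Qr P)).iCycles 0).hom :=
    (AddCommGrpCat.mono_iff_injective _).mp inferInstance
  have hl : Function.Bijective (((cechComplexFunctor Y).obj (Qr P)).liftCycles (εG Y P a) 1
      (by simp) (εG_d Y P a ha)).hom := by
    have hli : ∀ s, (((cechComplexFunctor Y).obj (Qr P)).iCycles 0).hom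
        ((((cechComplexFunctor Y).obj (Qr P)).liftCycles (εG Y P a) 1
          (by simp) (εG_d Y P a ha)).hom s) = (εG Y P a).hom s := by
      intro s
      have := congrArg (fun f => f.hom s) (((cechComplexFunctor Y).obj (Qr P)).liftCycles_i
        (εG Y P a) 1 (by simp) (εG_d Y P a ha))
      exact this
    constructor
    · intro s t hst
      have h1 := congrArg (((cechComplexFunctor Y).obj (Qr P)).iCycles 0).hom hst
      rw [hli, hli] at h1
      have h2 := congrArg (cmp (Qr P) Y 0) h1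
      rw [cmp_εG, cmp_εG] at h2
      exact hinj h2
    · intro z
      have hz : Dd (Qr P) Y 0
          (cmp (Qr P) Y 0 ((((cechComplexFunctor Y).obj (Qr P)).iCycles 0).hom z)) = 0 := by
        rw [← cmp_d]
        have := congrArg (fun f => f.hom z) (((cechComplexFunctor Y).obj (Qr P)).iCycles_d 0 1)
        have h3 : (((cechComplexFunctor Y).obj (Qr P)).d 0 1).hom
            ((((cechComplexFunctor Y).obj (Qr P)).iCycles 0).hom z) = 0 := this
        rw [h3, map_zero]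
      obtain ⟨s, hs⟩ := hsurj _ hz
      refine ⟨s, hi ?_⟩
      rw [hli]
      apply (cmp (Qr P) Y 0).injective
      rw [cmp_εG, hs]
  exact hπ.comp hl

end Kappa

section SieveFam

variable {C : Type u} [SmallCategory C] {U : C} [HasFiniteProducts (Over U)] {ι : Type u}
  (Y : ι → Over U)

/-- the sieve generated by the family -/
abbrev Rs : Sieve U := Sieve.ofArrows (fun i => (Y i).left) (fun i => (Y i).hom)

/-- the free abelian presheaf on the sieve -/
abbrev ZR : Cᵒᵖ ⥤ AddCommGrpCat.{u} := (Rs Y).functor ⋙ AddCommGrpCat.free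

lemma T_hom_mem {n : ℕ} (σ : Fin (n + 1) → ι) : (Rs Y).arrows (T Y σ).hom := by
  rw [← pr_hom Y σ 0]
  exact (Rs Y).downward_closed (Sieve.ofArrows_mk _ _ (σ 0)) _

variable {Y} (P : Cᵒᵖ ⥤ AddCommGrpCat.{u})

/-- evaluation of a morphism out of the free presheaf at an arrow of the sieve -/
def ev (ψ : ZR Y ⟶ P) {V : C} (f : V ⟶ U) (hf : (Rs Y).arrows f) : P.obj (op V) :=
  (ψ.app (op V)).hom (FreeAbelianGroup.of (⟨f, hf⟩ : (Rs Y).functor.obj (op V)))

lemma ev_congr (ψ : ZR Y ⟶ P) {V : C} {f f' : V ⟶ U} (h : f = f') (hf : (Rs Y).arrows f)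
    (hf' : (Rs Y).arrows f') : ev P ψ f hf = ev P ψ f' hf' := by
  subst h
  rfl

lemma ZR_map_of {V W : C} (h : W ⟶ V) (f : V ⟶ U) (hf : (Rs Y).arrows f) :
    ((ZR Y).map h.op).hom (FreeAbelianGroup.of (⟨f, hf⟩ : (Rs Y).functor.obj (op V))) =
      FreeAbelianGroup.of (⟨h ≫ f, (Rs Y).downward_closed hf h⟩ : (Rs Y).functor.obj (op W)) :=
  FreeAbelianGroup.map_of_apply _

lemma ev_rs (ψ : ZR Y ⟶ P) {V W : C} (h : W ⟶ V) (f : V ⟶ U) (hf : (Rs Y).arrows f) :
    rs P h (ev P ψ f hf) = ev P ψ (h ≫ f) ((Rs Y).downward_closed hf h) := by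
  have hn := ψ.naturality h.op
  have h1 := congrArg (fun k => k.hom
    (FreeAbelianGroup.of (⟨f, hf⟩ : (Rs Y).functor.obj (op V)))) hn
  have h2 : (ψ.app (op W)).hom (((ZR Y).map h.op).hom
      (FreeAbelianGroup.of (⟨f, hf⟩ : (Rs Y).functor.obj (op V)))) =
      rs P h (ev P ψ f hf) := h1
  rw [← h2, ZR_map_of]
  rfl

lemma hom_ext_ev (ψ ψ' : ZR Y ⟶ P)
    (h : ∀ (V : C) (f : V ⟶ U) (hf : (Rs Y).arrows f), ev P ψ f hf = ev P ψ' f hf) :
    ψ = ψ' := by
  apply NatTrans.ext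
  funext V
  apply AddCommGrpCat.hom_ext
  apply FreeAbelianGroup.lift_ext
  intro s
  obtain ⟨f, hf⟩ := s
  exact h V.unop f hf

/-- the morphism out of the free presheaf attached to a compatible family on the sieve -/
noncomputable def mkψ (x : ∀ (V : C) (f : V ⟶ U), (Rs Y).arrows f → P.obj (op V))
    (hx : ∀ (V W : C) (h : W ⟶ V) (f : V ⟶ U) (hf : (Rs Y).arrows f),
      rs P h (x V f hf) = x W (h ≫ f) ((Rs Y).downward_closed hf h)) : ZR Y ⟶ P where
  app V := AddCommGrpCat.ofHom (FreeAbelianGroup.lift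
    (fun s : (Rs Y).functor.obj V => x V.unop s.1 s.2))
  naturality V W h := by
    apply AddCommGrpCat.hom_ext
    apply FreeAbelianGroup.lift_ext
    intro s
    obtain ⟨f, hf⟩ := s
    show FreeAbelianGroup.lift (fun s : (Rs Y).functor.obj W => x W.unop s.1 s.2)
        (((ZR Y).map h.unop.op).hom (FreeAbelianGroup.of (⟨f, hf⟩ : (Rs Y).functor.obj (op V.unop)))) =
      rs P h.unop (FreeAbelianGroup.lift (fun s : (Rs Y).functor.obj V => x V.unop s.1 s.2)
        (FreeAbelianGroup.of ⟨f, hf⟩))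
    rw [ZR_map_of]
    refine (FreeAbelianGroup.lift_apply_of _ _).trans ?_
    refine Eq.trans ?_ (congrArg (rs P h.unop) (FreeAbelianGroup.lift_apply_of _ _).symm)
    exact (hx _ _ h.unop f hf).symm

lemma ev_mkψ (x : ∀ (V : C) (f : V ⟶ U), (Rs Y).arrows f → P.obj (op V))
    (hx : ∀ (V W : C) (h : W ⟶ V) (f : V ⟶ U) (hf : (Rs Y).arrows f),
      rs P h (x V f hf) = x W (h ≫ f) ((Rs Y).downward_closed hf h))
    {V : C} (f : V ⟶ U) (hf : (Rs Y).arrows f) : ev P (mkψ P x hx) f hf = x V f hf :=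
  FreeAbelianGroup.lift_apply_of _ _

variable (Y)

/-- the values of a morphism out of the free presheaf on the sieve, on the members of the Čech
nerve in degree `0` -/
noncomputable def augR : (ZR Y ⟶ P) →+ Coch (Qr P) Y 0 where
  toFun ψ σ := ev P ψ (T Y σ).hom (T_hom_mem Y σ)
  map_zero' := rfl
  map_add' ψ ψ' := rfl

lemma augR_apply (ψ : ZR Y ⟶ P) (σ : Fin 1 → ι) :
    augR Y P ψ σ = ev P ψ (T Y σ).hom (T_hom_mem Y σ) := rfl

lemma ofCoch0_augR (ψ : ZR Y ⟶ P) (i : ι) :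
    ofCoch0 Y P (augR Y P ψ) i = ev P ψ (Y i).hom (Sieve.ofArrows_mk _ _ i) := by
  unfold ofCoch0
  rw [augR_apply, ev_rs]
  exact ev_congr P ψ (inv1_hom Y (fun _ => i)) _ _

lemma Dd_augR (ψ : ZR Y ⟶ P) : Dd (Qr P) Y 0 (augR Y P ψ) = 0 := by
  funext σ
  rw [Dd0_apply, ofCoch0_augR, ofCoch0_augR, ev_rs, ev_rs]
  rw [ev_congr P ψ (pr_hom Y σ 1) _ (T_hom_mem Y σ), ev_congr P ψ (pr_hom Y σ 0) _ (T_hom_mem Y σ)]
  exact sub_self _

lemma augR_comp {Q : Cᵒᵖ ⥤ AddCommGrpCat.{u}} (ψ : ZR Y ⟶ P) (φ : P ⟶ Q) :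
    mapC (qr φ) Y 0 (augR Y P ψ) = augR Y Q (ψ ≫ φ) := rfl

lemma ev_eq_of_augR (ψ : ZR Y ⟶ P) {V : C} (i : ι) (g : V ⟶ (Y i).left) :
    ev P ψ (g ≫ (Y i).hom) ((Rs Y).downward_closed (Sieve.ofArrows_mk _ _ i) g) =
      rs P (g ≫ inv1 Y (fun _ => i)) (augR Y P ψ (fun _ => i)) := by
  rw [augR_apply, ev_rs]
  refine ev_congr P ψ ?_ _ _
  rw [Category.assoc, inv1_hom]

lemma augR_injective : Function.Injective (augR Y P) := by
  intro ψ ψ' h
  apply hom_ext_ev
  intro V f hf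
  obtain ⟨i, g, rfl⟩ := (Sieve.mem_ofArrows_iff _ _ f).1 hf
  rw [ev_eq_of_augR, ev_eq_of_augR, h]

lemma fam0_ofCoch0 (β : Coch (Qr P) Y 0) (σ : Fin 1 → ι) :
    rs P (pr Y σ 0) (ofCoch0 Y P β (σ 0)) = β σ := by
  unfold ofCoch0
  rw [rs_rs]
  have hc : σ = fun _ => σ 0 := funext fun k => by
    obtain rfl : k = 0 := Subsingleton.elim (α := Fin 1) _ _
    rfl
  have := coch0_congr Y P β (σ 0) σ hc (𝟙 _) (pr Y σ 0 ≫ inv1 Y (fun _ => σ 0)) (by
    rw [Category.assoc, inv1_pr, Category.comp_id, Category.id_comp]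
    simp)
  rw [rs_id] at this
  exact this.symm

lemma exists_augR (β : Coch (Qr P) Y 0) (hβ : Dd (Qr P) Y 0 β = 0) :
    ∃ ψ, augR Y P ψ = β := by
  have hpair : ∀ σ : Fin 2 → ι, rs P (pr Y σ 0) (ofCoch0 Y P β (σ 0)) =
      rs P (pr Y σ 1) (ofCoch0 Y P β (σ 1)) := by
    intro σ
    have h1 := congrFun hβ σ
    rw [Dd0_apply] at h1
    exact (sub_eq_zero.1 h1).symm
  have hc := compat_of_pair Y P (ofCoch0 Y P β) hpair
  have hex : ∀ (V : C) (f : V ⟶ U) (hf : (Rs Y).arrows f),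
      ∃ (i : ι) (g : V ⟶ (Y i).left), f = g ≫ (Y i).hom :=
    fun V f hf => (Sieve.mem_ofArrows_iff _ _ f).1 hf
  choose ii gg hgg using hex
  have hx : ∀ (V : C) (f : V ⟶ U) (hf : (Rs Y).arrows f) (i : ι) (g : V ⟶ (Y i).left),
      f = g ≫ (Y i).hom →
      rs P (gg V f hf) (ofCoch0 Y P β (ii V f hf)) = rs P g (ofCoch0 Y P β i) := by
    intro V f hf i g hg
    exact hc _ _ _ _ _ ((hgg V f hf).symm.trans hg)
  refine ⟨mkψ P (fun V f hf => rs P (gg V f hf) (ofCoch0 Y P β (ii V f hf))) ?_, ?_⟩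
  · intro V W h f hf
    rw [rs_rs]
    refine (hx W (h ≫ f) _ _ (h ≫ gg V f hf) ?_).symm
    rw [Category.assoc, ← hgg V f hf]
  · funext σ
    rw [augR_apply, ev_mkψ, hx _ _ _ (σ 0) (pr Y σ 0) (pr_hom Y σ 0).symm]
    exact fam0_ofCoch0 Y P β σ

end SieveFam

section Bot

variable {C : Type u} [SmallCategory C] {U : C} [HasFiniteProducts (Over U)] {ι : Type u}
  (Y : ι → Over U)

/-- epimorphisms of sheaves for the trivial topology are surjective on sections -/
lemma surjective_of_epi_bot {F G : Sheaf (⊥ : GrothendieckTopology C) AddCommGrpCat.{u}}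
    (φ : F ⟶ G) [Epi φ] (V : C) : Function.Surjective (φ.hom.app (op V)).hom := by
  intro z
  have h := imageSieve_mem_of_epi φ V z
  rw [GrothendieckTopology.bot_covering] at h
  have h1 : (Presheaf.imageSieve φ.hom z).arrows (𝟙 V) := by
    rw [h]
    trivial
  obtain ⟨t, ht⟩ := h1
  refine ⟨t, ht.trans ?_⟩
  have := rs_id G.obj z
  exact this

variable (J : GrothendieckTopology C)

/-- the Čech complex as a functor on sheaves -/
noncomputable def KF : Sheaf J AddCommGrpCat.{u} ⥤ CochainComplex AddCommGrpCat.{u} ℕ :=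
  sheafToPresheaf J _ ⋙ (Functor.whiskeringLeft _ _ _).obj (Over.forget U).op ⋙
    cechComplexFunctor Y

/-- the free abelian sheaf on the sieve -/
noncomputable abbrev GR : Sheaf J AddCommGrpCat.{u} :=
  (presheafToSheaf J AddCommGrpCat.{u}).obj (ZR Y)

/-- morphisms out of the free sheaf on the sieve, as morphisms of presheaves -/
noncomputable def adjE (F : Sheaf J AddCommGrpCat.{u}) : (GR Y J ⟶ F) ≃+ (ZR Y ⟶ F.obj) :=
  (sheafificationAdjunction J AddCommGrpCat.{u}).homAddEquiv (ZR Y) F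

lemma adjE_comp {F F' : Sheaf J AddCommGrpCat.{u}} (s : GR Y J ⟶ F) (φ : F ⟶ F') :
    adjE Y J F' (s ≫ φ) = adjE Y J F s ≫ φ.hom :=
  (sheafificationAdjunction J AddCommGrpCat.{u}).homEquiv_naturality_right s φ

/-- the values on the Čech nerve of a morphism out of the free sheaf on the sieve -/
noncomputable def aG (F : Sheaf J AddCommGrpCat.{u}) : (GR Y J ⟶ F) →+ Coch (Qr F.obj) Y 0 :=
  (augR Y F.obj).comp (adjE Y J F).toAddMonoidHom

lemma aG_apply (F : Sheaf J AddCommGrpCat.{u}) (s : GR Y J ⟶ F) :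
    aG Y J F s = augR Y F.obj (adjE Y J F s) := rfl

lemma Dd_aG (F : Sheaf J AddCommGrpCat.{u}) (s : GR Y J ⟶ F) :
    Dd (Qr F.obj) Y 0 (aG Y J F s) = 0 := by
  rw [aG_apply]
  exact Dd_augR Y F.obj _

lemma aG_injective (F : Sheaf J AddCommGrpCat.{u}) : Function.Injective (aG Y J F) := by
  intro s t h
  rw [aG_apply, aG_apply] at h
  exact (adjE Y J F).injective (augR_injective Y F.obj h)

lemma exists_aG (F : Sheaf J AddCommGrpCat.{u}) (β : Coch (Qr F.obj) Y 0)
    (hβ : Dd (Qr F.obj) Y 0 β = 0) : ∃ s, aG Y J F s = β := by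
  obtain ⟨ψ, hψ⟩ := exists_augR Y F.obj β hβ
  refine ⟨(adjE Y J F).symm ψ, ?_⟩
  rw [aG_apply, AddEquiv.apply_symm_apply, hψ]

lemma aG_comp {F F' : Sheaf J AddCommGrpCat.{u}} (s : GR Y J ⟶ F) (φ : F ⟶ F') :
    mapC (qr φ.hom) Y 0 (aG Y J F s) = aG Y J F' (s ≫ φ) := by
  rw [aG_apply, aG_apply, adjE_comp, augR_comp]

/-- the comparison in degree `0` -/
noncomputable def θ (F : Sheaf J AddCommGrpCat.{u}) :
    (GR Y J ⟶ F) →+ ((cechComplexFunctor Y).obj (Qr F.obj)).homology 0 :=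
  (κG Y F.obj (aG Y J F) (Dd_aG Y J F)).hom

lemma θ_bijective (F : Sheaf J AddCommGrpCat.{u}) : Function.Bijective (θ Y J F) :=
  κG_bijective Y F.obj _ _ (aG_injective Y J F) (exists_aG Y J F)

lemma θ_natural {F F' : Sheaf J AddCommGrpCat.{u}} (φ : F ⟶ F') (s : GR Y J ⟶ F) :
    (HomologicalComplex.homologyMap ((cechComplexFunctor Y).map (qr φ.hom)) 0).hom (θ Y J F s) =
      θ Y J F' (s ≫ φ) := by
  have := κG_natural Y F.obj (aG Y J F) (Dd_aG Y J F) φ.hom (aG Y J F') (Dd_aG Y J F')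
    (Preadditive.rightComp (GR Y J) φ) (fun z => aG_comp Y J z φ)
  exact congrArg (fun k => k.hom s) this

lemma KF_obj (F : Sheaf J AddCommGrpCat.{u}) :
    (KF Y J).obj F = (cechComplexFunctor Y).obj (Qr F.obj) := rfl

lemma KF_map {F F' : Sheaf J AddCommGrpCat.{u}} (φ : F ⟶ F') :
    (KF Y J).map φ = (cechComplexFunctor Y).map (qr φ.hom) := rfl

theorem cech_iso_ext_sieve (q : ℕ) (F : Sheaf (⊥ : GrothendieckTopology C) AddCommGrpCat.{u}) :
    Nonempty (((cechComplexFunctor Y).obj (Qr F.obj)).homology q ≃+ Ext (GR Y ⊥) F q) := by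
  refine dimShift (GR Y ⊥) (KF Y ⊥) ?_ ?_ (θ Y ⊥) (θ_bijective Y ⊥) (θ_natural Y ⊥) q F
  · intro S hS
    haveI := hS.epi_g
    exact ⟨(cechSC Y S).zero, cechSC_shortExact Y S hS
      (fun n σ => surjective_of_epi_bot S.g _)⟩
  · intro I hI q
    haveI := hI
    haveI := injective_obj ⊥ I
    exact isZero_cech_of_injective Y I.obj q

end Bot

end Groth.Agent.Lib.CechSieve
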