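import Mathlib
import Groth.Prelude.Def_CechEdge
import Groth.Agent.Lib.CechSieve_helper2
import Groth.Agent.Lib.CechDerived_helper2

/-!
# Čech cohomology in degree `0` and the sheaf condition; basic facts for the comparison maps
-/

set_option autoImplicit false
universe u
open CategoryTheory Limits Opposite Abelian

namespace Groth.Agent.Lib.CechEdgeBase

open Groth.Agent.Lib.CechSite Groth.Agent.Lib.CechSieve

variable {C : Type u} [SmallCategory C] [HasPullbacks C] {U : C} {ι : Type u} (Y : ι → Over U)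

lemma toCech₀_eq (P : Cᵒᵖ ⥤ AddCommGrpCat.{u}) : CechEdge.toCech₀ P Y = εhom Y P := by
  ext s
  apply (cmp (Qr P) Y 0).injective
  refine Eq.trans ?_ (cmp_εhom Y P s).symm
  funext σ
  rw [cmp_apply, aug_apply]
  have h := congrArg (fun f => f.hom s)
    (Pi.lift_π (fun (i : Fin 1 → ι) => P.map (∏ᶜ (Y ∘ i)).hom.op) σ)
  exact h

lemma liftCycles_congr (K : CochainComplex AddCommGrpCat.{u} ℕ) {A : AddCommGrpCat.{u}}
    (f g : A ⟶ K.X 0) (h : f = g) (hf : f ≫ K.d 0 1 = 0) (hg : g ≫ K.d 0 1 = 0) :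
    K.liftCycles f 1 (by simp) hf = K.liftCycles g 1 (by simp) hg := by
  subst h
  rfl

lemma toCech_eq (P : Cᵒᵖ ⥤ AddCommGrpCat.{u}) : CechEdge.toCech Y P = (κ Y P).hom := by
  unfold CechEdge.toCech κ CechEdge.toCycles
  rw [liftCycles_congr _ _ _ (toCech₀_eq Y P) _ (εhom_d Y P)]

lemma κ_eq_κG (P : Cᵒᵖ ⥤ AddCommGrpCat.{u}) : κ Y P = κG Y P (aug Y P) (Dd_aug Y P) := rfl

section Iff

variable (P : Cᵒᵖ ⥤ AddCommGrpCat.{u}) {Z : Type u} [AddCommGroup Z]
  (a : Z →+ Coch (Qr P) Y 0) (ha : ∀ z, Dd (Qr P) Y 0 (a z) = 0)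

lemma κG_bijective_iff :
    Function.Bijective (κG Y P a ha).hom ↔
      (Function.Injective a ∧ ∀ β : Coch (Qr P) Y 0, Dd (Qr P) Y 0 β = 0 → ∃ z, a z = β) := by
  refine ⟨fun hb => ?_, fun h => κG_bijective Y P a ha h.1 h.2⟩
  have hπ : Function.Bijective (((cechComplexFunctor Y).obj (Qr P)).homologyπ 0).hom :=
    (ConcreteCategory.isIso_iff_bijective _).mp inferInstance
  have hi : Function.Injective (((cechComplexFunctor Y).obj (Qr P)).iCycles 0).hom :=
    (AddCommGrpCat.mono_iff_injective _).mp inferInstance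
  obtain ⟨l, hl⟩ : ∃ l, l = ((cechComplexFunctor Y).obj (Qr P)).liftCycles (εG Y P a) 1
      (by simp) (εG_d Y P a ha) := ⟨_, rfl⟩
  have hκ : ∀ z, (κG Y P a ha).hom z =
      (((cechComplexFunctor Y).obj (Qr P)).homologyπ 0).hom (l.hom z) := by
    intro z
    rw [hl]
    rfl
  have hli : ∀ s, (((cechComplexFunctor Y).obj (Qr P)).iCycles 0).hom (l.hom s) =
      (εG Y P a).hom s := by
    intro s
    rw [hl]
    have := congrArg (fun f => f.hom s) (((cechComplexFunctor Y).obj (Qr P)).liftCycles_i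
      (εG Y P a) 1 (by simp) (εG_d Y P a ha))
    exact this
  have hlb : Function.Bijective l.hom := by
    constructor
    · intro s t hst
      apply hb.1
      rw [hκ, hκ, hst]
    · intro c
      obtain ⟨z, hz⟩ := hb.2 ((((cechComplexFunctor Y).obj (Qr P)).homologyπ 0).hom c)
      refine ⟨z, hπ.1 ?_⟩
      rw [← hκ, hz]
  constructor
  · intro z z' hzz
    apply hlb.1
    apply hi
    rw [hli, hli]
    apply (cmp (Qr P) Y 0).injective
    rw [cmp_εG, cmp_εG, hzz]
  · intro β hβ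
    obtain ⟨c, hc⟩ := Groth.Agent.Lib.CechDerived.exists_cycle
      ((cechComplexFunctor Y).obj (Qr P)) 0 ((cmp (Qr P) Y 0).symm β) (by
        apply (cmp (Qr P) Y 1).injective
        rw [cmp_d, AddEquiv.apply_symm_apply, hβ, map_zero])
    obtain ⟨z, rfl⟩ := hlb.2 c
    refine ⟨z, ?_⟩
    rw [← cmp_εG Y P a z, ← hli, hc, AddEquiv.apply_symm_apply]

end Iff

section SheafIff

variable (J : GrothendieckTopology C) (P : Cᵒᵖ ⥤ AddCommGrpCat.{u})

theorem toCech_bijective_of_isSheaf (hP : Presheaf.IsSheaf J P) {U : C} {ι : Type u}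
    (Y : ι → Over U) (hY : Sieve.ofArrows (fun i => (Y i).left) (fun i => (Y i).hom) ∈ J U) :
    Function.Bijective (CechEdge.toCech Y P) := by
  rw [toCech_eq]
  exact κ_bijective Y (⟨P, hP⟩ : Sheaf J AddCommGrpCat.{u}) hY

theorem isSheaf_of_toCech_bijective
    (h : ∀ (U : C) (ι : Type u) (Y : ι → Over U),
      Sieve.ofArrows (fun i => (Y i).left) (fun i => (Y i).hom) ∈ J U →
        Function.Bijective (CechEdge.toCech Y P)) : Presheaf.IsSheaf J P := by
  rw [Presheaf.isSheaf_iff_isSheaf_forget J P (forget AddCommGrpCat.{u}),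
    isSheaf_iff_isSheaf_of_type]
  intro X S hS
  obtain ⟨Y, hYdef⟩ : ∃ Y : (Σ V : C, {f : V ⟶ X // S.arrows f}) → Over X,
      Y = fun i => Over.mk i.2.1 := ⟨_, rfl⟩
  have hYhom : ∀ i, S.arrows (Y i).hom := by
    intro i
    rw [hYdef]
    exact i.2.2
  have hex : ∀ (V : C) (f : V ⟶ X), S.arrows f → ∃ i, Y i = Over.mk f := by
    intro V f hf
    exact ⟨⟨V, f, hf⟩, by rw [hYdef]⟩
  have hRS : Rs Y = S := by
    ext V f
    constructor
    · intro hf
      obtain ⟨i, g, rfl⟩ := (Sieve.mem_ofArrows_iff _ _ f).1 hf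
      exact S.downward_closed (hYhom i) g
    · intro hf
      obtain ⟨i, hi⟩ := hex V f hf
      have : ∀ (Z : Over X), Z = Over.mk f → (Rs Y).arrows Z.hom → (Rs Y).arrows f := by
        intro Z hZ hh
        subst hZ
        exact hh
      exact this _ hi (Sieve.ofArrows_mk _ _ i)
  have hcov : Sieve.ofArrows (fun i => (Y i).left) (fun i => (Y i).hom) ∈ J X := by
    have : Rs Y ∈ J X := by rw [hRS]; exact hS
    exact this
  have hb := h X _ Y hcov
  rw [toCech_eq, κ_eq_κG, κG_bijective_iff] at hb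
  obtain ⟨hinj, hsurj⟩ := hb
  have hmem : ∀ {V : C} (f : V ⟶ X), (Rs Y).arrows f → S.arrows f := by
    intro V f hf
    rw [← hRS]
    exact hf
  intro x hx
  have hx' := (Presieve.compatible_iff_sieveCompatible x).1 hx
  obtain ⟨ψ, hψ⟩ : ∃ ψ : ZR Y ⟶ P, ∀ (V : C) (f : V ⟶ X) (hf : (Rs Y).arrows f),
      ev P ψ f hf = x f (hmem f hf) := by
    refine ⟨mkψ P (fun V f hf => x f (hmem f hf)) ?_, fun V f hf => ev_mkψ P _ _ f hf⟩
    intro V W k f hf
    exact (hx' f k (hmem f hf)).symm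
  obtain ⟨s, hs⟩ := hsurj (augR Y P ψ) (Dd_augR Y P ψ)
  have hs' : ∀ (V : C) (f : V ⟶ X) (hf : S.arrows f), rs P f s = x f hf := by
    intro V f hf
    have key : ∀ (i : (Σ V : C, {f : V ⟶ X // S.arrows f})),
        rs P (Y i).hom s = x (Y i).hom (hYhom i) := by
      intro i
      have e1 := congrFun hs (fun _ => i)
      rw [aug_apply, augR_apply, hψ] at e1
      have e2 := congrArg (rs P (inv1 Y (fun _ => i))) e1
      rw [rs_rs] at e2
      have e3 : inv1 Y (fun _ => i) ≫ (T Y (fun _ : Fin 1 => i)).hom = (Y i).hom :=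
        inv1_hom Y (fun _ => i)
      have e4 := hx' (T Y (fun _ : Fin 1 => i)).hom (inv1 Y (fun _ => i))
        (hmem _ (T_hom_mem Y (fun _ => i)))
      have e5 : rs P (inv1 Y (fun _ => i)) (x (T Y (fun _ : Fin 1 => i)).hom
          (hmem _ (T_hom_mem Y (fun _ => i)))) =
          x (inv1 Y (fun _ => i) ≫ (T Y (fun _ : Fin 1 => i)).hom)
            (S.downward_closed (hmem _ (T_hom_mem Y (fun _ => i))) _) := e4.symm
      rw [e5] at e2
      have e6 : ∀ (g g' : (Y i).left ⟶ X) (hg : g = g') (h1 : S.arrows g) (h2 : S.arrows g'),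
          x g h1 = x g' h2 := by
        intro g g' hg h1 h2
        subst hg
        rfl
      rw [e6 _ _ e3 _ (hYhom i), e3] at e2
      exact e2
    obtain ⟨i, hi⟩ := hex V f hf
    have : ∀ (Z : Over X) (hZ : Z = Over.mk f) (hZS : S.arrows Z.hom),
        rs P Z.hom s = x Z.hom hZS → rs P f s = x f hf := by
      intro Z hZ hZS hh
      subst hZ
      exact hh
    exact this _ hi _ (key i)
  refine ⟨s, fun V f hf => hs' V f hf, ?_⟩
  intro s' hs''
  apply hinj
  funext σ
  rw [aug_apply, aug_apply]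
  have h1 := hs' _ (T Y σ).hom (hmem _ (T_hom_mem Y σ))
  have h2 : rs P (T Y σ).hom s' = x (T Y σ).hom (hmem _ (T_hom_mem Y σ)) :=
    hs'' (T Y σ).hom (hmem _ (T_hom_mem Y σ))
  rw [h1, h2]

end SheafIff

end Groth.Agent.Lib.CechEdgeBase
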