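import Mathlib

/-!
# Universal δ-functors (Grothendieck): existence and uniqueness of morphisms

A (cohomological, group valued) δ-functor `T` on an abelian category with enough injectives which
is effaceable by injectives is universal: a natural transformation `T^0 ⟶ H^0` to another
δ-functor extends uniquely to a morphism of δ-functors.
-/

set_option autoImplicit false
universe w v u
open CategoryTheory Limits

namespace Groth.Agent.Lib.DeltaFun

section Lift

variable {A B D : AddCommGrpCat.{w}} (f : A ⟶ B) (hf : Function.Surjective f.hom) (g : A ⟶ D)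
  (hk : ∀ x, f.hom x = 0 → g.hom x = 0)

/-- factorisation through a surjection -/
noncomputable def liftSurj : B ⟶ D :=
  AddCommGrpCat.ofHom
    { toFun := fun b => g.hom (Classical.choose (hf b))
      map_zero' := hk _ (Classical.choose_spec (hf 0))
      map_add' := fun b b' => by
        have h := hk (Classical.choose (hf (b + b')) - Classical.choose (hf b) -
          Classical.choose (hf b')) (by
            rw [map_sub, map_sub, Classical.choose_spec (hf (b + b')),
              Classical.choose_spec (hf b), Classical.choose_spec (hf b')]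
            abel)
        rw [map_sub, map_sub, sub_sub, sub_eq_zero] at h
        exact h }

lemma liftSurj_apply (a : A) : (liftSurj f hf g hk).hom (f.hom a) = g.hom a := by
  have h := hk (Classical.choose (hf (f.hom a)) - a) (by
    rw [map_sub, Classical.choose_spec (hf (f.hom a)), sub_self])
  rw [map_sub, sub_eq_zero] at h
  exact h

lemma liftSurj_comp : f ≫ liftSurj f hf g hk = g := by
  ext a
  exact liftSurj_apply f hf g hk a

end Lift

variable (AC : Type u) [Category.{v} AC] [Abelian AC]

/-- a cohomological δ-functor with values in abelian groups (only the properties used below) -/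
structure DFun where
  F : ℕ → AC ⥤ AddCommGrpCat.{w}
  δ : ∀ (S : ShortComplex AC), S.ShortExact → ∀ p : ℕ, (F p).obj S.X₃ ⟶ (F (p + 1)).obj S.X₁
  δ_nat : ∀ {S S' : ShortComplex AC} (hS : S.ShortExact) (hS' : S'.ShortExact) (Φ : S ⟶ S')
    (p : ℕ), δ S hS p ≫ (F (p + 1)).map Φ.τ₁ = (F p).map Φ.τ₃ ≫ δ S' hS' p
  comp_δ : ∀ (S : ShortComplex AC) (hS : S.ShortExact) (p : ℕ), (F p).map S.g ≫ δ S hS p = 0

variable {AC}

/-- effaceability by injectives, in the form used below -/
structure Effaceable (T : DFun.{w} AC) : Prop where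
  surj : ∀ (S : ShortComplex AC) (hS : S.ShortExact) (p : ℕ), Injective S.X₂ →
    Function.Surjective (T.δ S hS p).hom
  ker : ∀ (S : ShortComplex AC) (hS : S.ShortExact) (p : ℕ), Injective S.X₂ →
    ∀ x, (T.δ S hS p).hom x = 0 → ∃ y, ((T.F p).map S.g).hom y = x

section Lifting

variable {S S' : ShortComplex AC} (hS : S.ShortExact) [Injective S'.X₂]
  (φ : S.X₁ ⟶ S'.X₁)

/-- extension of a morphism on the kernels to a morphism of short exact sequences, when the
middle term of the target is injective -/
noncomputable def liftHom : S ⟶ S' :=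
  haveI := hS.mono_f
  haveI := hS.epi_g
  ShortComplex.homMk φ (Injective.factorThru (φ ≫ S'.f) S.f)
    (hS.exact.desc (Injective.factorThru (φ ≫ S'.f) S.f ≫ S'.g) (by
      rw [← Category.assoc, Injective.comp_factorThru, Category.assoc, S'.zero, comp_zero]))
    (by rw [Injective.comp_factorThru])
    (by rw [ShortComplex.Exact.g_desc])

lemma liftHom_τ₁ : (liftHom hS φ : S ⟶ S').τ₁ = φ := rfl

end Lifting

section Construction

variable [EnoughInjectives AC]

/-- the chosen embedding into an injective object, as a short exact sequence -/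
noncomputable abbrev SI (P : AC) : ShortComplex AC :=
  ShortComplex.mk (Injective.ι P) (cokernel.π (Injective.ι P)) (cokernel.condition _)

lemma SI_shortExact (P : AC) : (SI P).ShortExact :=
  { exact := ShortComplex.exact_of_g_is_cokernel _ (cokernelIsCokernel _)
    mono_f := inferInstanceAs (Mono (Injective.ι P))
    epi_g := inferInstanceAs (Epi (cokernel.π (Injective.ι P))) }

instance (P : AC) : Injective (SI P).X₂ := inferInstanceAs (Injective (Injective.under P))

variable (T H : DFun.{w} AC) (hT : Effaceable T) (p : ℕ) (ep : T.F p ⟶ H.F p)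

include hT in
lemma step_ker (P : AC) (x : (T.F p).obj (SI P).X₃)
    (hx : (T.δ (SI P) (SI_shortExact P) p).hom x = 0) :
    (ep.app (SI P).X₃ ≫ H.δ (SI P) (SI_shortExact P) p).hom x = 0 := by
  obtain ⟨y, rfl⟩ := hT.ker (SI P) (SI_shortExact P) p inferInstance x hx
  have h1 : (T.F p).map (SI P).g ≫ ep.app (SI P).X₃ ≫ H.δ (SI P) (SI_shortExact P) p = 0 := by
    rw [← Category.assoc, ep.naturality, Category.assoc, H.comp_δ, comp_zero]
  exact congrArg (fun f => f.hom y) h1

/-- the component of the next map at an object -/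
noncomputable def stepApp (P : AC) : (T.F (p + 1)).obj P ⟶ (H.F (p + 1)).obj P :=
  liftSurj (T.δ (SI P) (SI_shortExact P) p) (hT.surj (SI P) (SI_shortExact P) p inferInstance)
    (ep.app (SI P).X₃ ≫ H.δ (SI P) (SI_shortExact P) p) (step_ker T H hT p ep P)

lemma δ_stepApp (P : AC) :
    T.δ (SI P) (SI_shortExact P) p ≫ stepApp T H hT p ep P =
      ep.app (SI P).X₃ ≫ H.δ (SI P) (SI_shortExact P) p :=
  liftSurj_comp _ _ _ _

/-- the key compatibility: for any short exact sequence mapping to the chosen one -/
lemma δ_stepApp_of_hom (S : ShortComplex AC) (hS : S.ShortExact) (P : AC) (Φ : S ⟶ SI P) :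
    T.δ S hS p ≫ (T.F (p + 1)).map Φ.τ₁ ≫ stepApp T H hT p ep P =
      ep.app S.X₃ ≫ H.δ S hS p ≫ (H.F (p + 1)).map Φ.τ₁ := by
  rw [← Category.assoc, T.δ_nat hS (SI_shortExact P) Φ p, Category.assoc, δ_stepApp,
    H.δ_nat hS (SI_shortExact P) Φ p, ← Category.assoc, ← Category.assoc, ep.naturality]

lemma stepApp_naturality {P P' : AC} (φ : P ⟶ P') :
    (T.F (p + 1)).map φ ≫ stepApp T H hT p ep P' =
      stepApp T H hT p ep P ≫ (H.F (p + 1)).map φ := by
  haveI : Epi (T.δ (SI P) (SI_shortExact P) p) :=
    (AddCommGrpCat.epi_iff_surjective _).mpr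
      (hT.surj (SI P) (SI_shortExact P) p inferInstance)
  rw [← cancel_epi (T.δ (SI P) (SI_shortExact P) p)]
  have h := δ_stepApp_of_hom T H hT p ep (SI P) (SI_shortExact P) P'
    (liftHom (SI_shortExact P) φ)
  rw [liftHom_τ₁] at h
  rw [h, ← Category.assoc (T.δ (SI P) (SI_shortExact P) p), δ_stepApp, Category.assoc]

/-- the next map -/
noncomputable def step : T.F (p + 1) ⟶ H.F (p + 1) where
  app P := stepApp T H hT p ep P
  naturality _ _ φ := stepApp_naturality T H hT p ep φ

lemma step_spec (S : ShortComplex AC) (hS : S.ShortExact) :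
    T.δ S hS p ≫ (step T H hT p ep).app S.X₁ = ep.app S.X₃ ≫ H.δ S hS p := by
  have h := δ_stepApp_of_hom T H hT p ep S hS S.X₁
    (liftHom hS (𝟙 S.X₁))
  rw [liftHom_τ₁, CategoryTheory.Functor.map_id, CategoryTheory.Functor.map_id,
    Category.id_comp, Category.comp_id] at h
  exact h

/-- the morphism of δ-functors extending a natural transformation in degree `0` -/
noncomputable def edge (e0 : T.F 0 ⟶ H.F 0) : ∀ p : ℕ, T.F p ⟶ H.F p
  | 0 => e0
  | p + 1 => step T H hT p (edge e0 p)

lemma edge_zero (e0 : T.F 0 ⟶ H.F 0) : edge T H hT e0 0 = e0 := rfl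

lemma edge_spec (e0 : T.F 0 ⟶ H.F 0) (p : ℕ) (S : ShortComplex AC) (hS : S.ShortExact) :
    T.δ S hS p ≫ (edge T H hT e0 (p + 1)).app S.X₁ =
      (edge T H hT e0 p).app S.X₃ ≫ H.δ S hS p :=
  step_spec T H hT p (edge T H hT e0 p) S hS

include hT in
/-- uniqueness of morphisms of δ-functors -/
theorem edge_unique (e e' : ∀ p : ℕ, T.F p ⟶ H.F p)
    (he : ∀ (p : ℕ) (S : ShortComplex AC) (hS : S.ShortExact),
      T.δ S hS p ≫ (e (p + 1)).app S.X₁ = (e p).app S.X₃ ≫ H.δ S hS p)
    (he' : ∀ (p : ℕ) (S : ShortComplex AC) (hS : S.ShortExact),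
      T.δ S hS p ≫ (e' (p + 1)).app S.X₁ = (e' p).app S.X₃ ≫ H.δ S hS p)
    (h0 : e 0 = e' 0) : ∀ p, e p = e' p := by
  intro p
  induction p with
  | zero => exact h0
  | succ p ih =>
    ext P : 2
    haveI : Epi (T.δ (SI P) (SI_shortExact P) p) :=
      (AddCommGrpCat.epi_iff_surjective _).mpr
        (hT.surj (SI P) (SI_shortExact P) p inferInstance)
    rw [← cancel_epi (T.δ (SI P) (SI_shortExact P) p)]
    have h1 := he p (SI P) (SI_shortExact P)
    have h2 := he' p (SI P) (SI_shortExact P)
    rw [ih] at h1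
    exact h1.trans h2.symm

end Construction

end Groth.Agent.Lib.DeltaFun
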