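import Mathlib
import Groth.Prelude.Def_CechEdge
import Groth.Agent.Lib.DeltaFun_helper2
import Groth.Agent.Lib.CechEdgeBase_helper2

/-!
# The Čech δ-functor and the sheaf cohomology δ-functor on presheaves; the comparison maps
-/

set_option autoImplicit false
universe u
open CategoryTheory Limits Opposite Abelian

namespace Groth.Agent.Lib.CechEdgeDelta

open Groth.Agent.Lib.CechSite Groth.Agent.Lib.CechSieve Groth.Agent.Lib.DeltaFun
  Groth.Agent.Lib.CechDerived

lemma presheaf_enoughInjectives (C : Type u) [SmallCategory C] :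
    EnoughInjectives (Cᵒᵖ ⥤ AddCommGrpCat.{u}) :=
  (Equivalence.enoughInjectives_iff (sheafBotEquivalence AddCommGrpCat.{u})).mp inferInstance

attribute [local instance] presheaf_enoughInjectives

variable {C : Type u} [SmallCategory C] [HasPullbacks C] {U : C} {ι : Type u} (Y : ι → Over U)

section CechSide

lemma cechSES (S : ShortComplex (Cᵒᵖ ⥤ AddCommGrpCat.{u})) (hS : S.ShortExact) :
    (S.map (CechEdge.cxFunctor Y)).ShortExact := by
  apply HomologicalComplex.shortExact_of_degreewise_shortExact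
  intro n
  exact hS.map_of_exact (Cn Y n)

/-- Čech cohomology as a δ-functor on presheaves -/
noncomputable def TC : DFun.{u} (Cᵒᵖ ⥤ AddCommGrpCat.{u}) where
  F p := CechEdge.cxFunctor Y ⋙ HomologicalComplex.homologyFunctor AddCommGrpCat.{u} _ p
  δ S hS p := (cechSES Y S hS).δ p (p + 1) rfl
  δ_nat {S S'} hS hS' Φ p :=
    HomologicalComplex.HomologySequence.δ_naturality
      ((CechEdge.cxFunctor Y).mapShortComplex.map Φ) (cechSES Y S hS) (cechSES Y S' hS') p (p + 1) rfl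
  comp_δ S hS p := (cechSES Y S hS).comp_δ p (p + 1) rfl

lemma TC_effaceable : Effaceable (TC Y) where
  surj S hS p hI := by
    haveI := hI
    have hz : IsZero ((S.map (CechEdge.cxFunctor Y)).X₂.homology (p + 1)) :=
      isZero_cech_of_injective Y S.X₂ p
    have : Epi ((cechSES Y S hS).δ p (p + 1) rfl) := (cechSES Y S hS).epi_δ p (p + 1) rfl hz
    exact (AddCommGrpCat.epi_iff_surjective _).mp this
  ker S hS p hI x hx := by
    have hex := (cechSES Y S hS).homology_exact₃ p (p + 1) rfl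
    rw [ShortComplex.ab_exact_iff] at hex
    exact hex x hx

end CechSide

section SheafSide

variable (J : GrothendieckTopology C) (U)

/-- the sheafified short exact sequence -/
lemma shfSES (S : ShortComplex (Cᵒᵖ ⥤ AddCommGrpCat.{u})) (hS : S.ShortExact) :
    (S.map (presheafToSheaf J AddCommGrpCat.{u})).ShortExact :=
  hS.map_of_exact (presheafToSheaf J AddCommGrpCat.{u})

lemma HUmap_apply {F G : Sheaf J AddCommGrpCat.{u}} (ψ : F ⟶ G) (p : ℕ)
    (x : CohSite.HU F p U) :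
    CechEdge.HUmap ψ p U x = x.comp (Ext.mk₀ ψ) (add_zero p) := rfl

/-- sheaf cohomology of the associated sheaf as a δ-functor on presheaves -/
noncomputable def HE : DFun.{u} (Cᵒᵖ ⥤ AddCommGrpCat.{u}) where
  F p := presheafToSheaf J AddCommGrpCat.{u} ⋙ Sheaf.cohomologyPresheafFunctor J p ⋙
    (evaluation Cᵒᵖ AddCommGrpCat.{u}).obj (op U)
  δ S hS p := AddCommGrpCat.ofHom (CechEdge.extδ (shfSES J S hS) U p)
  δ_nat {S S'} hS hS' Φ p := by
    ext x
    show CechEdge.HUmap (CechEdge.shfMap J Φ.τ₁) (p + 1) U (CechEdge.extδ (shfSES J S hS) U p x) =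
      CechEdge.extδ (shfSES J S' hS') U p (CechEdge.HUmap (CechEdge.shfMap J Φ.τ₃) p U x)
    rw [HUmap_apply, HUmap_apply]
    show (x.comp (shfSES J S hS).extClass rfl).comp _ _ =
      (x.comp _ _).comp (shfSES J S' hS').extClass rfl
    have h := ShortComplex.ShortExact.extClass_naturality (shfSES J S hS) (shfSES J S' hS')
      ((presheafToSheaf J AddCommGrpCat.{u}).mapShortComplex.map Φ)
    rw [Ext.comp_assoc_of_third_deg_zero, Ext.comp_assoc_of_second_deg_zero]
    exact congrArg (fun z => x.comp z rfl) h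
  comp_δ S hS p := by
    ext x
    show CechEdge.extδ (shfSES J S hS) U p (CechEdge.HUmap (CechEdge.shfMap J S.g) p U x) = 0
    rw [HUmap_apply]
    show (x.comp _ _).comp (shfSES J S hS).extClass rfl = 0
    rw [Ext.comp_assoc_of_second_deg_zero]
    have h := (shfSES J S hS).comp_extClass
    exact (congrArg (fun z => x.comp z rfl) h).trans (Ext.comp_zero _ _ _ _ _)

end SheafSide

section DegreeZero

variable (J : GrothendieckTopology C)

lemma cechHMap_eq {P Q : Cᵒᵖ ⥤ AddCommGrpCat.{u}} (φ : P ⟶ Q) (p : ℕ) :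
    CechEdge.cechHMap Y φ p = (((TC Y).F p).map φ).hom := rfl

lemma cechHMap_comp {P Q R : Cᵒᵖ ⥤ AddCommGrpCat.{u}} (φ : P ⟶ Q) (ψ : Q ⟶ R) (p : ℕ)
    (x : CohCx.cechH P Y p) :
    CechEdge.cechHMap Y (φ ≫ ψ) p x = CechEdge.cechHMap Y ψ p (CechEdge.cechHMap Y φ p x) := by
  rw [cechHMap_eq, cechHMap_eq, cechHMap_eq, CategoryTheory.Functor.map_comp]
  rfl

lemma cechHMap_id (P : Cᵒᵖ ⥤ AddCommGrpCat.{u}) (p : ℕ) (x : CohCx.cechH P Y p) :
    CechEdge.cechHMap Y (𝟙 P) p x = x := by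
  rw [cechHMap_eq, CategoryTheory.Functor.map_id]
  rfl

lemma HUmap_comp {F G H : Sheaf J AddCommGrpCat.{u}} (φ : F ⟶ G) (ψ : G ⟶ H) (p : ℕ)
    (x : CohSite.HU F p U) :
    CechEdge.HUmap (φ ≫ ψ) p U x = CechEdge.HUmap ψ p U (CechEdge.HUmap φ p U x) := by
  show (((Sheaf.cohomologyPresheafFunctor J p).map (φ ≫ ψ)).app (op U)).hom x = _
  rw [CategoryTheory.Functor.map_comp]
  rfl

lemma HUmap_id (F : Sheaf J AddCommGrpCat.{u}) (p : ℕ) (x : CohSite.HU F p U) :
    CechEdge.HUmap (𝟙 F) p U x = x := by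
  show (((Sheaf.cohomologyPresheafFunctor J p).map (𝟙 F)).app (op U)).hom x = _
  rw [CategoryTheory.Functor.map_id]
  rfl

lemma HUmap_bijective {F G : Sheaf J AddCommGrpCat.{u}} (ψ : F ⟶ G) [IsIso ψ] (p : ℕ) :
    Function.Bijective (CechEdge.HUmap ψ p U) := by
  constructor
  · intro x y hxy
    have h := congrArg (CechEdge.HUmap (inv ψ) p U) hxy
    rw [← HUmap_comp, ← HUmap_comp, IsIso.hom_inv_id, HUmap_id, HUmap_id] at h
    exact h
  · intro y
    refine ⟨CechEdge.HUmap (inv ψ) p U y, ?_⟩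
    rw [← HUmap_comp, IsIso.inv_hom_id, HUmap_id]

lemma sectH0_apply (F : Sheaf J AddCommGrpCat.{u}) (s : F.obj.obj (op U)) :
    CechEdge.sectH0 J U F s = Ext.mk₀ (CohFree.ofSect J U F s) := rfl

lemma ofSect_comp {F G : Sheaf J AddCommGrpCat.{u}} (ψ : F ⟶ G) (s : F.obj.obj (op U)) :
    CohFree.ofSect J U F s ≫ ψ = CohFree.ofSect J U G ((ψ.hom.app (op U)).hom s) := by
  apply (CohFree.homEquivSect J U G).injective
  rw [CohFree.homEquivSect_apply, CohFree.homEquivSect_apply, CohFree.evalGen_ofSect]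
  show (ψ.hom.app (op U)).hom (CohFree.evalGen J U F (CohFree.ofSect J U F s)) = _
  rw [CohFree.evalGen_ofSect]

lemma sectH0_natural {F G : Sheaf J AddCommGrpCat.{u}} (ψ : F ⟶ G) (s : F.obj.obj (op U)) :
    CechEdge.HUmap ψ 0 U (CechEdge.sectH0 J U F s) =
      CechEdge.sectH0 J U G ((ψ.hom.app (op U)).hom s) := by
  rw [HUmap_apply, sectH0_apply, sectH0_apply, Ext.mk₀_comp_mk₀, ofSect_comp]

variable (hY : Sieve.ofArrows (fun i => (Y i).left) (fun i => (Y i).hom) ∈ J U)

/-- sections of a sheaf over `U` are the Čech `H^0` of a covering family -/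
noncomputable def κEquiv (F : Sheaf J AddCommGrpCat.{u}) :
    F.obj.obj (op U) ≃+ CohCx.cechH F.obj Y 0 :=
  AddEquiv.ofBijective (κ Y F.obj).hom (κ_bijective Y F hY)

lemma κEquiv_apply (F : Sheaf J AddCommGrpCat.{u}) (s : F.obj.obj (op U)) :
    κEquiv Y J hY F s = CechEdge.toCech Y F.obj s := by
  rw [Groth.Agent.Lib.CechEdgeBase.toCech_eq]
  rfl

lemma toCech_natural {P Q : Cᵒᵖ ⥤ AddCommGrpCat.{u}} (φ : P ⟶ Q) (s : P.obj (op U)) :
    CechEdge.cechHMap Y φ 0 (CechEdge.toCech Y P s) =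
      CechEdge.toCech Y Q ((φ.app (op U)).hom s) := by
  rw [Groth.Agent.Lib.CechEdgeBase.toCech_eq, Groth.Agent.Lib.CechEdgeBase.toCech_eq]
  exact congrArg (fun f => f.hom s) (κ_natural Y φ)

lemma κEquiv_symm_natural {F G : Sheaf J AddCommGrpCat.{u}} (ψ : F ⟶ G)
    (y : CohCx.cechH F.obj Y 0) :
    (κEquiv Y J hY G).symm (CechEdge.cechHMap Y ψ.hom 0 y) =
      (ψ.hom.app (op U)).hom ((κEquiv Y J hY F).symm y) := by
  apply (κEquiv Y J hY G).injective
  rw [AddEquiv.apply_symm_apply, κEquiv_apply, ← toCech_natural, ← κEquiv_apply Y J hY,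
    AddEquiv.apply_symm_apply]

/-- the comparison in degree `0` for sheaves -/
noncomputable def sheafE0 (F : Sheaf J AddCommGrpCat.{u}) :
    CohCx.cechH F.obj Y 0 →+ CohSite.HU F 0 U :=
  (CechEdge.sectH0 J U F).toAddMonoidHom.comp (κEquiv Y J hY F).symm.toAddMonoidHom

lemma sheafE0_apply (F : Sheaf J AddCommGrpCat.{u}) (y : CohCx.cechH F.obj Y 0) :
    sheafE0 Y J hY F y = CechEdge.sectH0 J U F ((κEquiv Y J hY F).symm y) := rfl

lemma sheafE0_natural {F G : Sheaf J AddCommGrpCat.{u}} (ψ : F ⟶ G)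
    (y : CohCx.cechH F.obj Y 0) :
    sheafE0 Y J hY G (CechEdge.cechHMap Y ψ.hom 0 y) =
      CechEdge.HUmap ψ 0 U (sheafE0 Y J hY F y) := by
  rw [sheafE0_apply, sheafE0_apply, κEquiv_symm_natural, sectH0_natural]

lemma sheafE0_bijective (F : Sheaf J AddCommGrpCat.{u}) :
    Function.Bijective (sheafE0 Y J hY F) :=
  (CechEdge.sectH0 J U F).bijective.comp (κEquiv Y J hY F).symm.bijective

/-- the comparison in degree `0` for presheaves -/
noncomputable def e0App (P : Cᵒᵖ ⥤ AddCommGrpCat.{u}) :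
    CohCx.cechH P Y 0 →+ CohSite.HU (CechEdge.shf J P) 0 U :=
  (sheafE0 Y J hY (CechEdge.shf J P)).comp (CechEdge.cechHMap Y (toSheafify J P) 0)

lemma e0App_apply (P : Cᵒᵖ ⥤ AddCommGrpCat.{u}) (x : CohCx.cechH P Y 0) :
    e0App Y J hY P x =
      sheafE0 Y J hY (CechEdge.shf J P) (CechEdge.cechHMap Y (toSheafify J P) 0 x) := rfl

lemma shfMap_hom {P Q : Cᵒᵖ ⥤ AddCommGrpCat.{u}} (φ : P ⟶ Q) :
    toSheafify J P ≫ (CechEdge.shfMap J φ).hom = φ ≫ toSheafify J Q :=
  (toSheafify_naturality J φ).symm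

lemma e0App_natural {P Q : Cᵒᵖ ⥤ AddCommGrpCat.{u}} (φ : P ⟶ Q) (x : CohCx.cechH P Y 0) :
    e0App Y J hY Q (CechEdge.cechHMap Y φ 0 x) =
      CechEdge.HUmap (CechEdge.shfMap J φ) 0 U (e0App Y J hY P x) := by
  rw [e0App_apply, e0App_apply, ← cechHMap_comp, ← shfMap_hom, cechHMap_comp, sheafE0_natural]

lemma e0App_zero (P : Cᵒᵖ ⥤ AddCommGrpCat.{u}) (s : P.obj (op U)) :
    e0App Y J hY P (CechEdge.toCech Y P s) =
      CechEdge.sectH0 J U (CechEdge.shf J P) (((toSheafify J P).app (op U)).hom s) := by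
  rw [e0App_apply, toCech_natural, sheafE0_apply]
  congr 1
  apply (κEquiv Y J hY (CechEdge.shf J P)).injective
  rw [AddEquiv.apply_symm_apply, κEquiv_apply]

/-- the comparison in degree `0`, as a natural transformation -/
noncomputable def e0 : (TC Y).F 0 ⟶ (HE U J).F 0 where
  app P := AddCommGrpCat.ofHom (e0App Y J hY P)
  naturality P Q φ := by
    ext x
    exact e0App_natural Y J hY φ x

end DegreeZero

section Existence

variable (J : GrothendieckTopology C)
  (hY : Sieve.ofArrows (fun i => (Y i).left) (fun i => (Y i).hom) ∈ J U)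

/-- the comparison maps -/
noncomputable def edgeMap (P : Cᵒᵖ ⥤ AddCommGrpCat.{u}) (p : ℕ) :
    CohCx.cechH P Y p →+ CohSite.HU (CechEdge.shf J P) p U :=
  ((edge (TC Y) (HE U J) (TC_effaceable Y) (e0 Y J hY) p).app P).hom

theorem isEdge_edgeMap : CechEdge.IsEdge J Y (edgeMap Y J hY) where
  cover := hY
  zero P s := e0App_zero Y J hY P s
  natural P Q φ p x :=
    congrArg (fun f => f.hom x)
      ((edge (TC Y) (HE U J) (TC_effaceable Y) (e0 Y J hY) p).naturality φ)
  delta S hS hC p x :=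
    congrArg (fun f => f.hom x)
      (edge_spec (TC Y) (HE U J) (TC_effaceable Y) (e0 Y J hY) p S hS)

end Existence

end Groth.Agent.Lib.CechEdgeDelta
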