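import Mathlib
import Groth.Prelude.Def_CechEdge
import Groth.Agent.Lib.CechEdgeDelta_helper2

/-!
# Uniqueness of the edge family, and first consequences
-/

set_option autoImplicit false
universe u
open CategoryTheory Limits Opposite Abelian

namespace Groth.Agent.Lib.CechEdgeUniq

open Groth.Agent.Lib.CechSite Groth.Agent.Lib.CechSieve Groth.Agent.Lib.DeltaFun
  Groth.Agent.Lib.CechDerived Groth.Agent.Lib.CechEdgeDelta

attribute [local instance] presheaf_enoughInjectives

variable {C : Type u} [SmallCategory C] [HasPullbacks C] (J : GrothendieckTopology C)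
  {U : C} {ι : Type u} (Y : ι → Over U)

lemma isIso_shfMap_toSheafify (P : Cᵒᵖ ⥤ AddCommGrpCat.{u}) :
    IsIso (CechEdge.shfMap J (toSheafify J P)) := by
  have h := (sheafificationAdjunction J AddCommGrpCat.{u}).left_triangle_components P
  have h2 : IsIso ((presheafToSheaf J AddCommGrpCat.{u}).map
      ((sheafificationAdjunction J AddCommGrpCat.{u}).unit.app P) ≫
      (sheafificationAdjunction J AddCommGrpCat.{u}).counit.app
        ((presheafToSheaf J AddCommGrpCat.{u}).obj P)) := by
    rw [h]
    exact IsIso.id _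
  exact IsIso.of_isIso_comp_right _ ((sheafificationAdjunction J AddCommGrpCat.{u}).counit.app
    ((presheafToSheaf J AddCommGrpCat.{u}).obj P))

variable {J Y}
variable {e : ∀ (P : Cᵒᵖ ⥤ AddCommGrpCat.{u}) (p : ℕ),
  CohCx.cechH P Y p →+ CohSite.HU (CechEdge.shf J P) p U}

/-- the degree `0` part of an edge family is determined -/
lemma deg0_eq (he : CechEdge.IsEdge J Y e) (P : Cᵒᵖ ⥤ AddCommGrpCat.{u})
    (x : CohCx.cechH P Y 0) : e P 0 x = e0App Y J he.cover P x := by
  haveI := isIso_shfMap_toSheafify J P
  apply (HUmap_bijective J (CechEdge.shfMap J (toSheafify J P)) 0).1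
  rw [← he.natural, ← e0App_natural]
  obtain ⟨s, hs⟩ : ∃ s, CechEdge.toCech Y (CechEdge.shf J P).obj s =
      CechEdge.cechHMap Y (toSheafify J P) 0 x :=
    ⟨(κEquiv Y J he.cover (CechEdge.shf J P)).symm _, by
      rw [← κEquiv_apply Y J he.cover, AddEquiv.apply_symm_apply]⟩
  rw [← hs]
  exact (he.zero _ s).trans (e0App_zero Y J he.cover _ s).symm

/-- an edge family as a family of natural transformations -/
noncomputable def toNat (he : CechEdge.IsEdge J Y e) (p : ℕ) : (TC Y).F p ⟶ (HE U J).F p where
  app P := AddCommGrpCat.ofHom (e P p)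
  naturality P Q φ := by
    ext x
    exact he.natural P Q φ p x

theorem isEdge_unique {e' : ∀ (P : Cᵒᵖ ⥤ AddCommGrpCat.{u}) (p : ℕ),
    CohCx.cechH P Y p →+ CohSite.HU (CechEdge.shf J P) p U}
    (he : CechEdge.IsEdge J Y e) (he' : CechEdge.IsEdge J Y e') : e = e' := by
  funext P p
  have h := edge_unique (TC Y) (HE U J) (TC_effaceable Y) (toNat he) (toNat he')
    (fun p S hS => by
      ext x
      exact he.delta S hS (cechSES Y S hS) p x)
    (fun p S hS => by
      ext x
      exact he'.delta S hS (cechSES Y S hS) p x)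
    (by
      apply NatTrans.ext
      funext P
      ext x
      exact (deg0_eq he P x).trans (deg0_eq he' P x).symm) p
  have h2 := congrArg (fun t => (t.app P).hom) h
  exact h2

end Groth.Agent.Lib.CechEdgeUniq
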