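import Mathlib
import Groth.Prelude.Def_CechEdge
import Groth.Agent.Lib.CechEdgeUniq_helper2
import Groth.Agent.Lib.CechSiteLeray_helper2

/-!
# Injectivity in degree one and bijectivity for acyclic coverings of the edge maps
-/

set_option autoImplicit false
universe u
open CategoryTheory Limits Opposite Abelian

namespace Groth.Agent.Lib.CechEdgeInj

open Groth.Agent.Lib.CechSite Groth.Agent.Lib.CechSieve Groth.Agent.Lib.DeltaFun
  Groth.Agent.Lib.CechDerived Groth.Agent.Lib.CechEdgeDelta Groth.Agent.Lib.CechEdgeUniq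

attribute [local instance] presheaf_enoughInjectives

variable {C : Type u} [SmallCategory C] [HasPullbacks C] {J : GrothendieckTopology C}
  {U : C} {ι : Type u} {Y : ι → Over U}

section Maps

variable (Y)

lemma cechHMap_bijective_of_isIso {P Q : Cᵒᵖ ⥤ AddCommGrpCat.{u}} (φ : P ⟶ Q) [IsIso φ] (p : ℕ) :
    Function.Bijective (CechEdge.cechHMap Y φ p) := by
  constructor
  · intro x y hxy
    have h := congrArg (CechEdge.cechHMap Y (inv φ) p) hxy
    rw [← cechHMap_comp, ← cechHMap_comp, IsIso.hom_inv_id, cechHMap_id, cechHMap_id] at h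
    exact h
  · intro y
    refine ⟨CechEdge.cechHMap Y (inv φ) p y, ?_⟩
    rw [← cechHMap_comp, IsIso.inv_hom_id, cechHMap_id]

lemma cechHMap_zero_injective_of_mono {P Q : Cᵒᵖ ⥤ AddCommGrpCat.{u}} (φ : P ⟶ Q) [Mono φ] :
    Function.Injective (CechEdge.cechHMap Y φ 0) := by
  have h : Mono ((Hn Y 0).map φ) := inferInstance
  exact (AddCommGrpCat.mono_iff_injective _).mp h

lemma Cf_map_bijective {P Q : Cᵒᵖ ⥤ AddCommGrpCat.{u}} (φ : P ⟶ Q)
    (h : ∀ (n : ℕ) (σ : Fin (n + 1) → ι), Function.Bijective (φ.app (op (T Y σ).left)).hom)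
    (n : ℕ) : Function.Bijective (((Cf Y).map φ).f n).hom := by
  constructor
  · intro x y hxy
    apply (cmpC Y P n).injective
    funext σ
    apply (h n σ).1
    rw [← cmpC_map, ← cmpC_map, hxy]
  · intro z
    choose b hb using fun σ => (h n σ).2 (cmpC Y Q n z σ)
    refine ⟨(cmpC Y P n).symm b, ?_⟩
    apply (cmpC Y Q n).injective
    funext σ
    rw [cmpC_map, AddEquiv.apply_symm_apply, hb]

lemma cechHMap_bijective_of_app {P Q : Cᵒᵖ ⥤ AddCommGrpCat.{u}} (φ : P ⟶ Q)
    (h : ∀ (n : ℕ) (σ : Fin (n + 1) → ι), Function.Bijective (φ.app (op (T Y σ).left)).hom)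
    (p : ℕ) : Function.Bijective (CechEdge.cechHMap Y φ p) := by
  haveI : ∀ n, IsIso (((Cf Y).map φ).f n) := fun n =>
    (ConcreteCategory.isIso_iff_bijective _).mpr (Cf_map_bijective Y φ h n)
  haveI : IsIso ((Cf Y).map φ) := HomologicalComplex.Hom.isIso_of_components _
  have h2 : IsIso ((HomologicalComplex.homologyFunctor AddCommGrpCat.{u} (ComplexShape.up ℕ) p).map
      ((Cf Y).map φ)) := inferInstance
  exact (ConcreteCategory.isIso_iff_bijective _).mp h2

end Maps

section Presentation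

variable (F : Sheaf J AddCommGrpCat.{u})

/-- the presheaf short exact sequence `0 → F → I → Q' → 0` -/
noncomputable abbrev SP : ShortComplex (Cᵒᵖ ⥤ AddCommGrpCat.{u}) :=
  ShortComplex.mk (Injective.ι F).hom (cokernel.π (Injective.ι F).hom) (cokernel.condition _)

lemma sheafToPresheaf_SI :
    ((SI F).map (sheafToPresheaf J AddCommGrpCat.{u})).Exact ∧
      Mono ((SI F).map (sheafToPresheaf J AddCommGrpCat.{u})).f := by
  haveI := (SI_shortExact F).mono_f
  exact ((Functor.preservesFiniteLimits_tfae (sheafToPresheaf J AddCommGrpCat.{u})).out 1 3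
    rfl rfl).mpr inferInstance (SI F) ⟨(SI_shortExact F).exact, inferInstance⟩

instance mono_ι_hom : Mono (Injective.ι F).hom := (sheafToPresheaf_SI F).2

lemma SP_shortExact : (SP F).ShortExact :=
  { exact := ShortComplex.exact_of_g_is_cokernel _ (cokernelIsCokernel _)
    mono_f := mono_ι_hom F
    epi_g := inferInstanceAs (Epi (cokernel.π (Injective.ι F).hom)) }

instance : Injective (SP F).X₂ := injective_obj J (Injective.under F)

/-- the comparison from the presheaf cokernel to the sheaf cokernel -/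
noncomputable def mm : (SP F).X₃ ⟶ (SI F).X₃.obj :=
  cokernel.desc (Injective.ι F).hom (cokernel.π (Injective.ι F)).hom
    ((SI F).map (sheafToPresheaf J AddCommGrpCat.{u})).zero

lemma g_mm : (SP F).g ≫ mm F = (SI F).g.hom := cokernel.π_desc _ _ _

instance mono_mm : Mono (mm F) :=
  (ShortComplex.exact_iff_mono_cokernel_desc _).mp (sheafToPresheaf_SI F).1

lemma isIso_shfMap_mm : IsIso (CechEdge.shfMap J (mm F)) := by
  haveI : Mono (CechEdge.shfMap J (mm F)) := inferInstance
  have hnat : CechEdge.shfMap J (SI F).g.hom ≫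
      (sheafificationAdjunction J AddCommGrpCat.{u}).counit.app (SI F).X₃ =
      (sheafificationAdjunction J AddCommGrpCat.{u}).counit.app (SI F).X₂ ≫ (SI F).g :=
    (sheafificationAdjunction J AddCommGrpCat.{u}).counit.naturality (SI F).g
  haveI : Epi (SI F).g := (SI_shortExact F).epi_g
  haveI : Epi (CechEdge.shfMap J (SI F).g.hom) := by
    have h1 : CechEdge.shfMap J (SI F).g.hom =
        ((sheafificationAdjunction J AddCommGrpCat.{u}).counit.app (SI F).X₂ ≫ (SI F).g) ≫
          inv ((sheafificationAdjunction J AddCommGrpCat.{u}).counit.app (SI F).X₃) := by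
      rw [← hnat, Category.assoc, IsIso.hom_inv_id, Category.comp_id]
    rw [h1]
    infer_instance
  have h2 : CechEdge.shfMap J (SP F).g ≫ CechEdge.shfMap J (mm F) =
      CechEdge.shfMap J (SI F).g.hom := by
    rw [← Functor.map_comp, g_mm]
  haveI : Epi (CechEdge.shfMap J (mm F)) := epi_of_epi_fac h2
  exact isIso_of_mono_of_epi _

lemma mm_app_bijective (V : C) (h : Function.Surjective ((SI F).g.hom.app (op V)).hom) :
    Function.Bijective ((mm F).app (op V)).hom := by
  refine ⟨app_inj (mm F) V, ?_⟩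
  intro z
  obtain ⟨b, hb⟩ := h z
  refine ⟨((SP F).g.app (op V)).hom b, ?_⟩
  rw [← hb, ← g_mm]
  rfl

/-- the sheafification of an injective sheaf is injective -/
lemma injective_shf (I : Sheaf J AddCommGrpCat.{u}) [Injective I] :
    Injective (CechEdge.shf J I.obj) :=
  Injective.of_iso (asIso ((sheafificationAdjunction J AddCommGrpCat.{u}).counit.app I)).symm
    inferInstance

end Presentation

section Main

variable {e : ∀ (P : Cᵒᵖ ⥤ AddCommGrpCat.{u}) (p : ℕ),
  CohCx.cechH P Y p →+ CohSite.HU (CechEdge.shf J P) p U}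

lemma e_zero_eq (he : CechEdge.IsEdge J Y e) (P : Cᵒᵖ ⥤ AddCommGrpCat.{u}) :
    e P 0 = e0App Y J he.cover P :=
  AddMonoidHom.ext (deg0_eq he P)

lemma e_zero_bijective (he : CechEdge.IsEdge J Y e) (F : Sheaf J AddCommGrpCat.{u}) :
    Function.Bijective (e F.obj 0) := by
  rw [e_zero_eq he]
  haveI : IsIso (toSheafify J F.obj) := isIso_toSheafify J F.property
  exact (sheafE0_bijective Y J he.cover _).comp (cechHMap_bijective_of_isIso Y _ 0)

lemma e_zero_injective_of_mono (he : CechEdge.IsEdge J Y e) (P : Cᵒᵖ ⥤ AddCommGrpCat.{u})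
    (G : Sheaf J AddCommGrpCat.{u}) (m : P ⟶ G.obj) [Mono m] :
    Function.Injective (e P 0) := by
  intro x y hxy
  apply cechHMap_zero_injective_of_mono Y m
  apply (e_zero_bijective he G).1
  rw [he.natural, he.natural, hxy]

lemma e_bijective_of_mm (he : CechEdge.IsEdge J Y e) (F : Sheaf J AddCommGrpCat.{u}) (p : ℕ)
    (h1 : Function.Bijective (e (SI F).X₃.obj p))
    (h2 : Function.Bijective (CechEdge.cechHMap Y (mm F) p)) :
    Function.Bijective (e (SP F).X₃ p) := by
  haveI := isIso_shfMap_mm F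
  have h3 := HUmap_bijective (U := U) J (CechEdge.shfMap J (mm F)) p
  have h4 : ∀ x, CechEdge.HUmap (CechEdge.shfMap J (mm F)) p U (e (SP F).X₃ p x) =
      e (SI F).X₃.obj p (CechEdge.cechHMap Y (mm F) p x) := fun x => (he.natural _ _ _ _ x).symm
  constructor
  · intro x y hxy
    apply h2.1
    apply h1.1
    rw [← h4, ← h4, hxy]
  · intro z
    obtain ⟨w, hw⟩ := h1.2 (CechEdge.HUmap (CechEdge.shfMap J (mm F)) p U z)
    obtain ⟨x, rfl⟩ := h2.2 w
    refine ⟨x, h3.1 ?_⟩
    rw [h4, hw]

lemma e_succ_injective (he : CechEdge.IsEdge J Y e) (F : Sheaf J AddCommGrpCat.{u}) (p : ℕ)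
    (hI : Function.Surjective (e (Injective.under F).obj p))
    (hQ : Function.Injective (e (SP F).X₃ p)) :
    Function.Injective (e F.obj (p + 1)) := by
  rw [injective_iff_map_eq_zero]
  intro x hx
  obtain ⟨y, rfl⟩ := (TC_effaceable Y).surj (SP F) (SP_shortExact F) p inferInstance x
  have hd := he.delta (SP F) (SP_shortExact F) (cechSES Y (SP F) (SP_shortExact F)) p y
  have hx' : e F.obj (p + 1) (((cechSES Y (SP F) (SP_shortExact F)).δ p (p + 1) rfl).hom y) = 0 :=
    hx
  rw [hd] at hx'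
  obtain ⟨z, hz⟩ := Ext.covariant_sequence_exact₃ (CohCx.freeSheaf J U)
    ((SP_shortExact F).map_of_exact (presheafToSheaf J AddCommGrpCat.{u}))
    (e (SP F).X₃ p y) rfl hx'
  obtain ⟨w, rfl⟩ := hI z
  have hn := he.natural _ _ (SP F).g p w
  have hy : y = CechEdge.cechHMap Y (SP F).g p w := by
    apply hQ
    rw [hn, HUmap_apply]
    exact hz.symm
  rw [hy]
  exact congrArg (fun t => t.hom w) ((TC Y).comp_δ (SP F) (SP_shortExact F) p)

lemma e_succ_surjective (he : CechEdge.IsEdge J Y e) (F : Sheaf J AddCommGrpCat.{u}) (p : ℕ)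
    (hQ : Function.Surjective (e (SP F).X₃ p)) :
    Function.Surjective (e F.obj (p + 1)) := by
  intro ξ
  haveI : Injective ((SP F).map (presheafToSheaf J AddCommGrpCat.{u})).X₂ :=
    injective_shf (Injective.under F)
  obtain ⟨z, hz⟩ := Ext.covariant_sequence_exact₁ (CohCx.freeSheaf J U)
    ((SP_shortExact F).map_of_exact (presheafToSheaf J AddCommGrpCat.{u})) ξ
    (Ext.eq_zero_of_injective _) (rfl : p + 1 = p + 1)
  obtain ⟨y, rfl⟩ := hQ z
  refine ⟨((cechSES Y (SP F) (SP_shortExact F)).δ p (p + 1) rfl).hom y, ?_⟩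
  rw [he.delta (SP F) (SP_shortExact F) (cechSES Y (SP F) (SP_shortExact F)) p y]
  exact hz

theorem e_one_injective (he : CechEdge.IsEdge J Y e) (F : Sheaf J AddCommGrpCat.{u}) :
    Function.Injective (e F.obj 1) :=
  e_succ_injective he F 0 (e_zero_bijective he _).2
    (e_zero_injective_of_mono he _ (SI F).X₃ (mm F))

theorem edgeSh_one_injective (he : CechEdge.IsEdge J Y e) (F : Sheaf J AddCommGrpCat.{u}) :
    Function.Injective (CechEdge.edgeSh e F 1) :=
  (HUmap_bijective J ((sheafificationAdjunction J AddCommGrpCat.{u}).counit.app F) 1).1.comp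
    (e_one_injective he F)

/-- acyclicity of a sheaf on the iterated fibre products of the family -/
def Acyc (Y : ι → Over U) (F : Sheaf J AddCommGrpCat.{u}) : Prop :=
  ∀ (n : ℕ) (σ : Fin (n + 1) → ι) (q : ℕ) (ξ : Ext (fr J (T Y σ).left) F (q + 1)), ξ = 0

theorem e_bijective_of_acyc (he : CechEdge.IsEdge J Y e) (p : ℕ) :
    ∀ (F : Sheaf J AddCommGrpCat.{u}), Acyc Y F → Function.Bijective (e F.obj p) := by
  induction p with
  | zero => exact fun F _ => e_zero_bijective he F
  | succ p ih =>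
    intro F h
    have hS := SI_shortExact F
    have hI : ∀ (V : C) (n : ℕ) (ξ : Ext (fr J V) (SI F).X₂ (n + 1)), ξ = 0 :=
      fun V n ξ => Ext.eq_zero_of_injective (I := Injective.under F) ξ
    have hsurj : ∀ (n : ℕ) (σ : Fin (n + 1) → ι),
        Function.Surjective ((SI F).g.hom.app (op (T Y σ).left)).hom :=
      fun n σ => surjective_of_ext1 J _ hS (h n σ 0)
    have hQ : Acyc Y (SI F).X₃ :=
      fun n σ q ξ => ext_X₃_eq_zero _ hS q (hI _ q) (h n σ (q + 1)) ξ
    have hIa : Acyc Y (Injective.under F) := fun n σ q ξ => hI _ q ξ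
    have hm := cechHMap_bijective_of_app Y (mm F)
      (fun n σ => mm_app_bijective F _ (hsurj n σ)) p
    have hQ' := e_bijective_of_mm he F p (ih _ hQ) hm
    exact ⟨e_succ_injective he F p (ih _ hIa).2 hQ'.1, e_succ_surjective he F p hQ'.2⟩

theorem edgeSh_bijective_of_acyc (he : CechEdge.IsEdge J Y e) (F : Sheaf J AddCommGrpCat.{u})
    (h : Acyc Y F) (p : ℕ) : Function.Bijective (CechEdge.edgeSh e F p) :=
  (HUmap_bijective J ((sheafificationAdjunction J AddCommGrpCat.{u}).counit.app F) p).comp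
    (e_bijective_of_acyc he p F h)

end Main

end Groth.Agent.Lib.CechEdgeInj
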