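import Mathlib
import Groth.Prelude.Def_Coh
import Groth.Prelude.Def_CechEdge
import Groth.Agent.Lib.CechEdgeInj_helper2
import Groth.Agent.Lib.CechEdgeDelta_helper2
import Groth.Agent.Lib.CechAffine_helper2

/-!
# The natural comparison from Čech cohomology of an affine covering to sheaf cohomology on a scheme
-/

set_option autoImplicit false
universe u
open CategoryTheory Limits TopologicalSpace Opposite Abelian AlgebraicGeometry

namespace Groth.Agent.Lib.BCCechH2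

open Groth.Agent.Lib.CechSite Groth.Agent.Lib.CechEdgeDelta Groth.Agent.Lib.CechEdgeInj

section Top

variable {X : TopCat.{u}} {ι : Type u} (𝒰 : ι → Opens X)

/-- the covering family, over the whole space -/
def Yt (i : ι) : Over (⊤ : Opens X) := Over.mk (homOfLE le_top : 𝒰 i ⟶ ⊤)

lemma cover (hcov : ⨆ i, 𝒰 i = ⊤) :
    Sieve.ofArrows (fun i => (Yt 𝒰 i).left) (fun i => (Yt 𝒰 i).hom) ∈
      Opens.grothendieckTopology X ⊤ := by
  intro x _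
  have hx : x ∈ ⨆ i, 𝒰 i := by rw [hcov]; trivial
  obtain ⟨i, hi⟩ := Opens.mem_iSup.mp hx
  exact ⟨𝒰 i, (Yt 𝒰 i).hom, Sieve.ofArrows_mk _ _ i, hi⟩

lemma T_left_le {n : ℕ} (σ : Fin n → ι) (k : Fin n) : (T (Yt 𝒰) σ).left ≤ 𝒰 (σ k) :=
  leOfHom (Pi.π (Yt 𝒰 ∘ σ) k).left

lemma le_T_left {n : ℕ} (σ : Fin n → ι) (V : Opens X) (hV : ∀ k, V ≤ 𝒰 (σ k)) :
    V ≤ (T (Yt 𝒰) σ).left :=
  leOfHom (Pi.lift (fun k => (Over.homMk (homOfLE (hV k)) (Subsingleton.elim _ _) :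
    Over.mk (homOfLE le_top : V ⟶ ⊤) ⟶ (Yt 𝒰 ∘ σ) k))).left

lemma T_left_eq {n : ℕ} (σ : Fin n → ι) : (T (Yt 𝒰) σ).left = ⨅ k, 𝒰 (σ k) :=
  le_antisymm (le_iInf fun k => T_left_le 𝒰 σ k) (le_T_left 𝒰 σ _ fun k => iInf_le _ k)

variable (hcov : ⨆ i, 𝒰 i = ⊤)

/-- the natural comparison `Ȟ^p(𝒰, G) → H^p(X, G)`, with values in `Ext` from the free sheaf -/
noncomputable def edge (G : CohTop.Ab X) (p : ℕ) :
    CohCx.cechH G.obj (Yt 𝒰) p →+ CohSite.HU G p (⊤ : Opens X) :=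
  CechEdge.edgeSh (edgeMap (Yt 𝒰) (Opens.grothendieckTopology X) (cover 𝒰 hcov)) G p

lemma edge_natural {G G' : CohTop.Ab X} (ψ : G ⟶ G') (p : ℕ) (x : CohCx.cechH G.obj (Yt 𝒰) p) :
    edge 𝒰 hcov G' p (CechEdge.cechHMap (Yt 𝒰) ψ.hom p x) =
      CechEdge.HUmap ψ p ⊤ (edge 𝒰 hcov G p x) := by
  have he := isEdge_edgeMap (Yt 𝒰) (Opens.grothendieckTopology X) (cover 𝒰 hcov)
  unfold edge CechEdge.edgeSh
  rw [AddMonoidHom.comp_apply, AddMonoidHom.comp_apply, he.natural, ← HUmap_comp, ← HUmap_comp]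
  congr 2
  exact (sheafificationAdjunction (Opens.grothendieckTopology X) AddCommGrpCat.{u}).counit.naturality ψ

lemma edge_bijective (G : CohTop.Ab X) (h : Acyc (Yt 𝒰) G) (p : ℕ) :
    Function.Bijective (edge 𝒰 hcov G p) :=
  edgeSh_bijective_of_acyc
    (isEdge_edgeMap (Yt 𝒰) (Opens.grothendieckTopology X) (cover 𝒰 hcov)) G h p

/-- `H^p` at the top open versus cohomology of the space -/
noncomputable def topEquiv (G : CohTop.Ab X) (p : ℕ) :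
    CohSite.HU G p (⊤ : Opens X) ≃+ Sheaf.H G p :=
  Groth.Agent.Lib.Cech.extTopEquiv G p

lemma topEquiv_natural {G G' : CohTop.Ab X} (ψ : G ⟶ G') (p : ℕ)
    (x : CohSite.HU G p (⊤ : Opens X)) :
    topEquiv G' p (CechEdge.HUmap ψ p ⊤ x) = Sheaf.H.map ψ p (topEquiv G p x) := by
  rw [HUmap_apply, Sheaf.H.map_apply]
  show (Ext.mk₀ (Groth.Agent.Lib.Cech.kkToFr (X := X))).comp (x.comp (Ext.mk₀ ψ) (add_zero p))
      (zero_add p) =
    ((Ext.mk₀ (Groth.Agent.Lib.Cech.kkToFr (X := X))).comp x (zero_add p)).comp (Ext.mk₀ ψ)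
      (add_zero p)
  rw [Ext.comp_assoc_of_third_deg_zero]

/-- **the natural comparison** `Ȟ^p(𝒰, G) → H^p(X, G)` -/
noncomputable def cechToH (G : CohTop.Ab X) (p : ℕ) :
    CohCx.cechH G.obj (Yt 𝒰) p →+ Sheaf.H G p :=
  (topEquiv G p).toAddMonoidHom.comp (edge 𝒰 hcov G p)

lemma cechToH_natural {G G' : CohTop.Ab X} (ψ : G ⟶ G') (p : ℕ)
    (x : CohCx.cechH G.obj (Yt 𝒰) p) :
    cechToH 𝒰 hcov G' p (CechEdge.cechHMap (Yt 𝒰) ψ.hom p x) =
      Sheaf.H.map ψ p (cechToH 𝒰 hcov G p x) := by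
  unfold cechToH
  rw [AddMonoidHom.comp_apply, AddMonoidHom.comp_apply, edge_natural]
  exact topEquiv_natural ψ p _

lemma cechToH_bijective (G : CohTop.Ab X) (h : Acyc (Yt 𝒰) G) (p : ℕ) :
    Function.Bijective (cechToH 𝒰 hcov G p) :=
  (topEquiv G p).bijective.comp (edge_bijective 𝒰 hcov G h p)

end Top

section Scheme

variable {X : Scheme.{u}} {ι : Type u} (𝒰 : ι → X.Opens)

lemma isAffineOpen_T_left (hU : ∀ s : Finset ι, s.Nonempty → IsAffineOpen (⨅ i ∈ s, 𝒰 i))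
    {n : ℕ} (σ : Fin (n + 1) → ι) : IsAffineOpen (T (Yt (X := X.toTopCat) 𝒰) σ).left := by
  classical
  rw [T_left_eq, Groth.Agent.Lib.Cech.iInf_eq_biInf_image]
  exact hU _ ⟨σ 0, Finset.mem_image_of_mem σ (Finset.mem_univ 0)⟩

lemma acyc_toAb (hU : ∀ s : Finset ι, s.Nonempty → IsAffineOpen (⨅ i ∈ s, 𝒰 i))
    (M : X.Modules) [M.IsQuasicoherent] : Acyc (Yt (X := X.toTopCat) 𝒰) (Coh.toAb M) := by
  intro n σ q ξ
  exact Groth.Agent.Lib.Cech.ext_fr_eq_zero_of_isAffineOpen M _ (isAffineOpen_T_left 𝒰 hU σ) q ξ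

end Scheme

end Groth.Agent.Lib.BCCechH2
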