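import Mathlib

/-!
# Comparing the homology of an `ℕ`-indexed complex of abelian groups with that of a `ℤ`-indexed
complex of modules, from a degreewise comparison
-/

set_option autoImplicit false
universe u
open CategoryTheory CategoryTheory.Limits ComplexShape

namespace Groth.Agent.Lib.BCExtH2

variable {A : Type u} [CommRing A]

/-- the forgetful functor -/
noncomputable abbrev F₂ (A : Type u) [CommRing A] : ModuleCat.{u} A ⥤ AddCommGrpCat.{u} :=
  forget₂ (ModuleCat.{u} A) AddCommGrpCat.{u}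

/-- comparison data between an `ℕ`-indexed complex of abelian groups and a `ℤ`-indexed complex of
modules: additive bijections in degrees `≥ 0` commuting with the differentials, and vanishing of the
second complex in negative degrees -/
structure CxCmp (K : CochainComplex AddCommGrpCat.{u} ℕ)
    (K' : CochainComplex (ModuleCat.{u} A) ℤ) where
  a : ∀ n : ℕ, K'.X (Int.ofNat n) ≃+ K.X n
  comm : ∀ (n : ℕ) (x : K'.X (Int.ofNat n)),
    a (n + 1) ((K'.d (Int.ofNat n) (Int.ofNat (n + 1))).hom x) = (K.d n (n + 1)).hom (a n x)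
  neg : ∀ n : ℕ, IsZero (K'.X (Int.negSucc n))

namespace CxCmp

variable {K : CochainComplex AddCommGrpCat.{u} ℕ} {K' : CochainComplex (ModuleCat.{u} A) ℤ}
  (c : CxCmp K K')

lemma f_ofNat (n : ℕ) : embeddingUpNat.f n = Int.ofNat n := rfl

lemma f_ne_negSucc (n : ℕ) (i : ℕ) : embeddingUpNat.f i ≠ Int.negSucc n := by
  intro h
  have : (Int.ofNat i) = Int.negSucc n := h
  cases this

/-- the degreewise comparison, as an isomorphism of abelian groups -/
noncomputable def aIso (n : ℕ) : (F₂ A).obj (K'.X (Int.ofNat n)) ≅ K.X n where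
  hom := AddCommGrpCat.ofHom (c.a n).toAddMonoidHom
  inv := AddCommGrpCat.ofHom (c.a n).symm.toAddMonoidHom
  hom_inv_id := by
    ext x
    exact (c.a n).symm_apply_apply x
  inv_hom_id := by
    ext x
    exact (c.a n).apply_symm_apply x

lemma aIso_hom_apply (n : ℕ) (x : K'.X (Int.ofNat n)) : (c.aIso n).hom x = c.a n x := rfl

lemma aIso_comm (n : ℕ) :
    (c.aIso n).hom ≫ K.d n (n + 1) =
      (F₂ A).map (K'.d (Int.ofNat n) (Int.ofNat (n + 1))) ≫ (c.aIso (n + 1)).hom := by
  ext x
  exact (c.comm n x).symm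

/-- the components of the comparison isomorphism -/
noncomputable def compIso : ∀ i : ℤ,
    (((F₂ A).mapHomologicalComplex (up ℤ)).obj K').X i ≅ (K.extend embeddingUpNat).X i
  | Int.ofNat n => c.aIso n ≪≫ (K.extendXIso embeddingUpNat (f_ofNat n)).symm
  | Int.negSucc n => IsZero.iso ((F₂ A).map_isZero (c.neg n))
      (K.isZero_extend_X embeddingUpNat _ (f_ne_negSucc n))

lemma compIso_ofNat_hom (n : ℕ) :
    (c.compIso (Int.ofNat n)).hom =
      (c.aIso n).hom ≫ (K.extendXIso embeddingUpNat (f_ofNat n)).inv := rfl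

/-- the comparison isomorphism of complexes -/
noncomputable def iso :
    ((F₂ A).mapHomologicalComplex (up ℤ)).obj K' ≅ K.extend embeddingUpNat :=
  HomologicalComplex.Hom.isoOfComponents c.compIso (by
    intro i j hij
    obtain rfl : i + 1 = j := hij
    cases i with
    | ofNat n =>
      show ((c.aIso n).hom ≫ (K.extendXIso embeddingUpNat (f_ofNat n)).inv) ≫
          (K.extend embeddingUpNat).d (Int.ofNat n) (Int.ofNat (n + 1)) =
        (F₂ A).map (K'.d (Int.ofNat n) (Int.ofNat (n + 1))) ≫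
          ((c.aIso (n + 1)).hom ≫ (K.extendXIso embeddingUpNat (f_ofNat (n + 1))).inv)
      rw [K.extend_d_eq embeddingUpNat (f_ofNat n) (f_ofNat (n + 1))]
      simp only [Category.assoc, Iso.inv_hom_id_assoc]
      rw [← Category.assoc, ← Category.assoc, c.aIso_comm n]
    | negSucc n =>
      exact ((F₂ A).map_isZero (c.neg n)).eq_of_src _ _)

lemma iso_hom_f_ofNat (n : ℕ) :
    c.iso.hom.f (Int.ofNat n) =
      (c.aIso n).hom ≫ (K.extendXIso embeddingUpNat (f_ofNat n)).inv := rfl

/-- the induced isomorphism in homology -/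
noncomputable def H (p : ℕ) : (F₂ A).obj (K'.homology (Int.ofNat p)) ≅ K.homology p :=
  ((K'.sc (Int.ofNat p)).mapHomologyIso (F₂ A)).symm ≪≫
    (HomologicalComplex.homologyFunctor _ _ (Int.ofNat p)).mapIso c.iso ≪≫
    K.extendHomologyIso embeddingUpNat (f_ofNat p)

end CxCmp

section Naturality

variable {K₁ K₂ : CochainComplex AddCommGrpCat.{u} ℕ}
  {K₁' K₂' : CochainComplex (ModuleCat.{u} A) ℤ} (c₁ : CxCmp K₁ K₁') (c₂ : CxCmp K₂ K₂')
  (f : K₁ ⟶ K₂) (f' : K₁' ⟶ K₂')

lemma iso_natural
    (h : ∀ (n : ℕ) (x : K₁'.X (Int.ofNat n)),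
      c₂.a n ((f'.f (Int.ofNat n)).hom x) = (f.f n).hom (c₁.a n x)) :
    ((F₂ A).mapHomologicalComplex (up ℤ)).map f' ≫ c₂.iso.hom =
      c₁.iso.hom ≫ HomologicalComplex.extendMap f embeddingUpNat := by
  apply HomologicalComplex.hom_ext
  intro i
  cases i with
  | ofNat n =>
    show (F₂ A).map (f'.f (Int.ofNat n)) ≫
        ((c₂.aIso n).hom ≫ (K₂.extendXIso embeddingUpNat (CxCmp.f_ofNat n)).inv) =
      ((c₁.aIso n).hom ≫ (K₁.extendXIso embeddingUpNat (CxCmp.f_ofNat n)).inv) ≫
        (HomologicalComplex.extendMap f embeddingUpNat).f (Int.ofNat n)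
    rw [HomologicalComplex.extendMap_f f embeddingUpNat (CxCmp.f_ofNat n)]
    simp only [Category.assoc, Iso.inv_hom_id_assoc]
    have h4 : (F₂ A).map (f'.f (Int.ofNat n)) ≫ (c₂.aIso n).hom = (c₁.aIso n).hom ≫ f.f n := by
      ext x
      exact h n x
    rw [← Category.assoc, ← Category.assoc, h4]
  | negSucc n =>
    exact ((F₂ A).map_isZero (c₁.neg n)).eq_of_src _ _

theorem H_natural
    (h : ∀ (n : ℕ) (x : K₁'.X (Int.ofNat n)),
      c₂.a n ((f'.f (Int.ofNat n)).hom x) = (f.f n).hom (c₁.a n x)) (p : ℕ) :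
    (F₂ A).map (HomologicalComplex.homologyMap f' (Int.ofNat p)) ≫ (c₂.H p).hom =
      (c₁.H p).hom ≫ HomologicalComplex.homologyMap f p := by
  have h1 := ShortComplex.mapHomologyIso_inv_naturality
    ((HomologicalComplex.shortComplexFunctor _ _ (Int.ofNat p)).map f') (F₂ A)
  have h2 : HomologicalComplex.homologyMap (((F₂ A).mapHomologicalComplex (up ℤ)).map f')
      (Int.ofNat p) ≫ HomologicalComplex.homologyMap c₂.iso.hom (Int.ofNat p) =
      HomologicalComplex.homologyMap c₁.iso.hom (Int.ofNat p) ≫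
        HomologicalComplex.homologyMap (HomologicalComplex.extendMap f embeddingUpNat)
          (Int.ofNat p) := by
    rw [← HomologicalComplex.homologyMap_comp, ← HomologicalComplex.homologyMap_comp,
      iso_natural c₁ c₂ f f' h]
  have h3 := HomologicalComplex.extendHomologyIso_hom_naturality f embeddingUpNat
    (CxCmp.f_ofNat p)
  unfold CxCmp.H
  simp only [Iso.trans_hom, Iso.symm_hom, Functor.mapIso_hom, Category.assoc]
  erw [reassoc_of% h1]
  erw [reassoc_of% h2, h3]
  rfl

end Naturality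

end Groth.Agent.Lib.BCExtH2
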