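import Mathlib

/-!
# An algebraic lemma: `P ⊗_A M ≅ B ⊗_R P` when `B` is the base change of `M` to `R`
(with the base ring `A` replaced by an isomorphic ring `A₀` in the base change hypothesis)
-/

set_option autoImplicit false
universe u
open TensorProduct

namespace Groth.Agent.Lib.BCSecH2

section Ext

variable {A : Type*} [CommRing A] {P M : Type*} [AddCommGroup P] [Module A P] [AddCommGroup M]
  [Module A M]

theorem addHom_ext_tmul {T : Type*} [AddCommMonoid T] (f g : P ⊗[A] M →+ T)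
    (h : ∀ x m, f (x ⊗ₜ m) = g (x ⊗ₜ m)) : f = g := by
  ext z
  refine TensorProduct.induction_on z ?_ h ?_
  · rw [map_zero, map_zero]
  · intro x y hx hy
    rw [map_add, map_add, hx, hy]

end Ext

section Semilinear

variable {A A₀ : Type u} [CommRing A] [CommRing A₀] (φ : A →+* A₀)
  {P M M₀ : Type u} [AddCommGroup P] [Module A P] [Module A₀ P] [AddCommGroup M] [Module A M]
  [AddCommGroup M₀] [Module A₀ M₀]

/-- the tensor product of the identity and a semilinear map -/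
noncomputable def semiTensor (hP : ∀ (a : A) (x : P), a • x = φ a • x) (t : M →+ M₀)
    (hts : ∀ a m, t (a • m) = φ a • t m) : P ⊗[A] M →+ P ⊗[A₀] M₀ :=
  TensorProduct.liftAddHom
    (AddMonoidHom.mk' (fun x => AddMonoidHom.mk' (fun m => x ⊗ₜ[A₀] t m)
      (fun m m' => by rw [map_add, TensorProduct.tmul_add]))
      (fun x x' => by
        ext m
        show (x + x') ⊗ₜ[A₀] t m = x ⊗ₜ[A₀] t m + x' ⊗ₜ[A₀] t m
        rw [TensorProduct.add_tmul]))
    (fun a x m => by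
      show (a • x) ⊗ₜ[A₀] t m = x ⊗ₜ[A₀] t (a • m)
      rw [hP, hts, TensorProduct.smul_tmul])

lemma semiTensor_tmul (hP : ∀ (a : A) (x : P), a • x = φ a • x) (t : M →+ M₀)
    (hts : ∀ a m, t (a • m) = φ a • t m) (x : P) (m : M) :
    semiTensor φ hP t hts (x ⊗ₜ m) = x ⊗ₜ[A₀] t m := rfl

lemma semiTensor_bijective (hφ : Function.Bijective φ)
    (hP : ∀ (a : A) (x : P), a • x = φ a • x) (t : M →+ M₀) (ht : Function.Bijective t)
    (hts : ∀ a m, t (a • m) = φ a • t m) : Function.Bijective (semiTensor φ hP t hts) := by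
  let φe : A ≃+* A₀ := RingEquiv.ofBijective φ hφ
  let te : M ≃+ M₀ := AddEquiv.ofBijective t ht
  have hP' : ∀ (a₀ : A₀) (x : P), a₀ • x = φe.symm.toRingHom a₀ • x := by
    intro a₀ x
    rw [hP]
    congr 1
    exact (φe.apply_symm_apply a₀).symm
  have hts' : ∀ (a₀ : A₀) (m₀ : M₀),
      te.symm.toAddMonoidHom (a₀ • m₀) = φe.symm.toRingHom a₀ • te.symm.toAddMonoidHom m₀ := by
    intro a₀ m₀
    apply te.injective
    show te (te.symm (a₀ • m₀)) = t (φe.symm a₀ • te.symm m₀)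
    rw [te.apply_symm_apply, hts]
    show a₀ • m₀ = φe (φe.symm a₀) • te (te.symm m₀)
    rw [φe.apply_symm_apply, te.apply_symm_apply]
  let g' : P ⊗[A₀] M₀ →+ P ⊗[A] M := semiTensor φe.symm.toRingHom hP' te.symm.toAddMonoidHom hts'
  have h1 : g'.comp (semiTensor φ hP t hts) = AddMonoidHom.id _ := by
    apply addHom_ext_tmul
    intro x m
    show g' (x ⊗ₜ[A₀] t m) = x ⊗ₜ m
    show x ⊗ₜ[A] te.symm (te m) = x ⊗ₜ m
    rw [te.symm_apply_apply]
  have h2 : (semiTensor φ hP t hts).comp g' = AddMonoidHom.id _ := by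
    apply addHom_ext_tmul
    intro x m₀
    show x ⊗ₜ[A₀] te (te.symm m₀) = x ⊗ₜ m₀
    rw [te.apply_symm_apply]
  exact ⟨fun x y hxy => by
      have := congrArg g' hxy
      rwa [← AddMonoidHom.comp_apply, ← AddMonoidHom.comp_apply, h1] at this,
    fun y => ⟨g' y, by rw [← AddMonoidHom.comp_apply, h2]; rfl⟩⟩

end Semilinear

section Tau

variable {A A₀ R : Type u} [CommRing A] [CommRing A₀] [CommRing R] [Algebra A₀ R]
  (φ : A →+* A₀)
  {M M₀ B P : Type u} [AddCommGroup M] [Module A M] [AddCommGroup M₀] [Module A₀ M₀]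
  [AddCommGroup B] [Module R B] [Module A₀ B] [IsScalarTower A₀ R B]
  [AddCommGroup P] [Module R P] [Module A P]

/-- **Key algebraic lemma.** If `B` is the base change of `M₀ ≅ M` to `R` and `P` is an `R`-module, then
`P ⊗_A M → B ⊗_R P`, `x ⊗ m ↦ c(m) ⊗ x`, is bijective. -/
theorem tau_bijective (hφ : Function.Bijective φ)
    (hP : ∀ (a : A) (x : P), a • x = algebraMap A₀ R (φ a) • x)
    (t : M →+ M₀) (ht : Function.Bijective t) (hts : ∀ a m, t (a • m) = φ a • t m)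
    (c₀ : M₀ →ₗ[A₀] B) (hbc : IsBaseChange R c₀)
    (τ : P ⊗[A] M →+ B ⊗[R] P) (hτ : ∀ x m, τ (x ⊗ₜ m) = c₀ (t m) ⊗ₜ x) :
    Function.Bijective τ := by
  letI mP : Module A₀ P := Module.compHom P (algebraMap A₀ R)
  haveI : IsScalarTower A₀ R P := IsScalarTower.of_algebraMap_smul (fun _ _ => rfl)
  have hP' : ∀ (a : A) (x : P), a • x = φ a • x := fun a x => hP a x
  let g := semiTensor φ hP' t hts
  have hg : Function.Bijective g := semiTensor_bijective φ hφ hP' t ht hts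
  let e₁ : R ⊗[A₀] M₀ ≃ₗ[R] B := hbc.equiv
  let e₂ : P ⊗[R] (R ⊗[A₀] M₀) ≃ₗ[R] P ⊗[A₀] M₀ :=
    TensorProduct.AlgebraTensorModule.cancelBaseChange A₀ R R P M₀
  let e₄ : P ⊗[R] (R ⊗[A₀] M₀) ≃ₗ[R] P ⊗[R] B := TensorProduct.congr (LinearEquiv.refl R P) e₁
  let e₅ : P ⊗[R] B ≃ₗ[R] B ⊗[R] P := TensorProduct.comm R P B
  let Ψ : P ⊗[A] M →+ B ⊗[R] P :=
    (e₅.toAddEquiv.toAddMonoidHom.comp (e₄.toAddEquiv.toAddMonoidHom.comp
      e₂.symm.toAddEquiv.toAddMonoidHom)).comp g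
  have hΨ : τ = Ψ := by
    apply addHom_ext_tmul
    intro x m
    rw [hτ]
    show c₀ (t m) ⊗ₜ x = e₅ (e₄ (e₂.symm (x ⊗ₜ[A₀] t m)))
    have h2 : e₂.symm (x ⊗ₜ[A₀] t m) = x ⊗ₜ[R] ((1 : R) ⊗ₜ[A₀] t m) := by
      rw [LinearEquiv.symm_apply_eq]
      show x ⊗ₜ[A₀] t m = TensorProduct.AlgebraTensorModule.cancelBaseChange A₀ R R P M₀
        (x ⊗ₜ[R] ((1 : R) ⊗ₜ[A₀] t m))
      rw [TensorProduct.AlgebraTensorModule.cancelBaseChange_tmul, one_smul]
    rw [h2]
    show c₀ (t m) ⊗ₜ x = e₅ (x ⊗ₜ[R] e₁ ((1 : R) ⊗ₜ[A₀] t m))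
    rw [show e₁ ((1 : R) ⊗ₜ[A₀] t m) = (1 : R) • c₀ (t m) from hbc.equiv_tmul 1 (t m), one_smul]
    rfl
  rw [hΨ]
  exact (e₅.bijective.comp (e₄.bijective.comp e₂.symm.bijective)).comp hg

end Tau

end Groth.Agent.Lib.BCSecH2
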