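import Mathlib

/-!
# Flat base change for cohomology, I: algebra (helper2)

`IsBC A B t`: the additive map `t : P →+ P'` from an `A`-module to a `B`-module exhibits `P'` as
the base change `B ⊗[A] P` (formulated through an explicit `B`-linear equivalence, so that no
`A`-module structure on `P'` is needed).
APPEND-ONLY once landed.
-/

set_option autoImplicit false

open TensorProduct

namespace Groth.Agent.Lib.FlatBCH2

section Alg

variable (A B : Type*) [CommRing A] [CommRing B] [Algebra A B]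

/-- `t : P →+ P'` exhibits the `B`-module `P'` as the base change of the `A`-module `P`. -/
def IsBC {P P' : Type*} [AddCommGroup P] [AddCommGroup P'] [Module A P] [Module B P']
    (t : P →+ P') : Prop :=
  ∃ e : B ⊗[A] P ≃ₗ[B] P', ∀ x, e (1 ⊗ₜ[A] x) = t x

variable {A B}
variable {P P' : Type*} [AddCommGroup P] [AddCommGroup P'] [Module A P] [Module B P']

theorem IsBC.nonempty {t : P →+ P'} (h : IsBC A B t) : Nonempty (B ⊗[A] P ≃ₗ[B] P') :=
  let ⟨e, _⟩ := h
  ⟨e⟩

theorem one_tmul_smul (a : A) (x : P) :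
    (1 : B) ⊗ₜ[A] (a • x) = algebraMap A B a • ((1 : B) ⊗ₜ[A] x) := by
  rw [TensorProduct.tmul_smul, algebraMap_smul]

theorem tmul_eq_smul_one_tmul (b : B) (x : P) : b ⊗ₜ[A] x = b • ((1 : B) ⊗ₜ[A] x) := by
  rw [TensorProduct.smul_tmul', smul_eq_mul, mul_one]

theorem IsBC.semilinear {t : P →+ P'} (h : IsBC A B t) (a : A) (x : P) :
    t (a • x) = algebraMap A B a • t x := by
  obtain ⟨e, he⟩ := h
  rw [← he, ← he, ← map_smul, one_tmul_smul]

theorem IsBC.apply_tmul {t : P →+ P'} (e : B ⊗[A] P ≃ₗ[B] P') (he : ∀ x, e (1 ⊗ₜ[A] x) = t x)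
    (b : B) (x : P) : e (b ⊗ₜ[A] x) = b • t x := by
  rw [tmul_eq_smul_one_tmul, map_smul, he]

/-- from a genuine `IsBaseChange` -/
theorem IsBC.of_isBaseChange [Module A P'] [IsScalarTower A B P'] (tl : P →ₗ[A] P')
    (h : IsBaseChange B tl) (t : P →+ P') (ht : ∀ x, t x = tl x) : IsBC A B t :=
  ⟨h.equiv, fun x => by rw [h.equiv_tmul, one_smul, ht]⟩

/-- transport along linear equivalences -/
theorem IsBC.comp_equiv {Q Q' : Type*} [AddCommGroup Q] [AddCommGroup Q'] [Module A Q]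
    [Module B Q'] {t : P →+ P'} (h : IsBC A B t) (e₁ : Q ≃ₗ[A] P) (e₂ : P' ≃ₗ[B] Q')
    (s : Q →+ Q') (hs : ∀ q, s q = e₂ (t (e₁ q))) : IsBC A B s := by
  obtain ⟨e, he⟩ := h
  refine ⟨(TensorProduct.AlgebraTensorModule.congr (LinearEquiv.refl B B) e₁) ≪≫ₗ e ≪≫ₗ e₂,
    fun q => ?_⟩
  rw [LinearEquiv.trans_apply, LinearEquiv.trans_apply,
    TensorProduct.AlgebraTensorModule.congr_tmul, LinearEquiv.refl_apply, he, hs]

/-- the zero map between trivial modules -/
theorem IsBC.of_subsingleton [Subsingleton P] [Subsingleton P'] (t : P →+ P') : IsBC A B t := by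
  haveI : Subsingleton (B ⊗[A] P) := by
    refine ⟨fun z w => ?_⟩
    have h0 : ∀ z : B ⊗[A] P, z = 0 := by
      intro z
      induction z using TensorProduct.induction_on with
      | zero => rfl
      | tmul b x => rw [Subsingleton.elim x 0, TensorProduct.tmul_zero]
      | add z w hz hw => rw [hz, hw, add_zero]
    rw [h0 z, h0 w]
  exact ⟨LinearEquiv.ofSubsingleton (B ⊗[A] P) P', fun x => Subsingleton.elim _ _⟩

/-- **Cokernels**: a morphism of right exact sequences `P₁ → P₂ → P₃ → 0` whose first two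
components are base change maps induces a base change map on the third terms. -/
theorem IsBC.coker {P₁ P₂ P₃ P₁' P₂' P₃' : Type*}
    [AddCommGroup P₁] [AddCommGroup P₂] [AddCommGroup P₃]
    [AddCommGroup P₁'] [AddCommGroup P₂'] [AddCommGroup P₃']
    [Module A P₁] [Module A P₂] [Module A P₃] [Module B P₁'] [Module B P₂'] [Module B P₃']
    (a : P₁ →ₗ[A] P₂) (b : P₂ →ₗ[A] P₃) (a' : P₁' →ₗ[B] P₂') (b' : P₂' →ₗ[B] P₃')
    (hab : LinearMap.range a = LinearMap.ker b) (hb : Function.Surjective b)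
    (hab' : LinearMap.range a' = LinearMap.ker b') (hb' : Function.Surjective b')
    (t₁ : P₁ →+ P₁') (t₂ : P₂ →+ P₂') (h₁ : IsBC A B t₁) (h₂ : IsBC A B t₂)
    (hcomm : ∀ x, t₂ (a x) = a' (t₁ x)) :
    ∃ t₃ : P₃ →+ P₃', IsBC A B t₃ ∧ ∀ x, t₃ (b x) = b' (t₂ x) := by
  obtain ⟨e₁, he₁⟩ := h₁
  obtain ⟨e₂, he₂⟩ := h₂
  let β : B ⊗[A] P₂ →ₗ[B] B ⊗[A] P₃ := b.baseChange B
  let α : B ⊗[A] P₁ →ₗ[B] B ⊗[A] P₂ := a.baseChange B
  have hβ : Function.Surjective β := LinearMap.baseChange_surjective B hb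
  have hex : Function.Exact a b := by
    rw [LinearMap.exact_iff, hab]
  have hex' : Function.Exact (a.lTensor B) (b.lTensor B) := lTensor_exact B hex hb
  have hαβ : ∀ z, β z = 0 → ∃ w, α w = z := by
    intro z hz
    have h1 : (b.lTensor B) z = 0 := by
      rw [← LinearMap.baseChange_eq_ltensor]
      exact hz
    obtain ⟨w, hw⟩ := (hex' z).mp h1
    refine ⟨w, ?_⟩
    show (a.baseChange B) w = z
    rw [LinearMap.baseChange_eq_ltensor]
    exact hw
  have hcomm₂ : ∀ w, e₂ (α w) = a' (e₁ w) := by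
    intro w
    induction w using TensorProduct.induction_on with
    | zero => rw [map_zero, map_zero, map_zero, map_zero]
    | tmul c x =>
      show e₂ ((a.baseChange B) (c ⊗ₜ[A] x)) = a' (e₁ (c ⊗ₜ[A] x))
      rw [LinearMap.baseChange_tmul, IsBC.apply_tmul e₂ he₂, IsBC.apply_tmul e₁ he₁, map_smul,
        hcomm]
    | add z w hz hw => rw [map_add, map_add, map_add, map_add, hz, hw]
  let ψ : B ⊗[A] P₂ →ₗ[B] P₃' := b' ∘ₗ e₂.toLinearMap
  have hker : LinearMap.ker β ≤ LinearMap.ker ψ := by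
    intro z hz
    obtain ⟨w, rfl⟩ := hαβ z hz
    rw [LinearMap.mem_ker]
    show b' (e₂ (α w)) = 0
    rw [hcomm₂]
    have : a' (e₁ w) ∈ LinearMap.ker b' := by
      rw [← hab']
      exact ⟨_, rfl⟩
    exact this
  let T₃ : B ⊗[A] P₃ →ₗ[B] P₃' :=
    ((LinearMap.ker β).liftQ ψ hker) ∘ₗ (β.quotKerEquivOfSurjective hβ).symm.toLinearMap
  have hT₃ : ∀ z, T₃ (β z) = ψ z := by
    intro z
    show ((LinearMap.ker β).liftQ ψ hker) ((β.quotKerEquivOfSurjective hβ).symm (β z)) = ψ z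
    rw [LinearMap.quotKerEquivOfSurjective_symm_apply]
    rfl
  have hbij : Function.Bijective T₃ := by
    constructor
    · rw [injective_iff_map_eq_zero]
      intro y hy
      obtain ⟨z, rfl⟩ := hβ y
      rw [hT₃] at hy
      have h1 : e₂ z ∈ LinearMap.ker b' := hy
      rw [← hab'] at h1
      obtain ⟨v, hv⟩ := h1
      obtain ⟨w, rfl⟩ := e₁.surjective v
      rw [← hcomm₂] at hv
      have h2 : α w = z := e₂.injective hv
      rw [← h2]
      show (b.baseChange B) ((a.baseChange B) w) = 0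
      rw [LinearMap.baseChange_eq_ltensor, LinearMap.baseChange_eq_ltensor]
      exact hex'.apply_apply_eq_zero w
    · intro y
      obtain ⟨v, rfl⟩ := hb' y
      obtain ⟨z, rfl⟩ := e₂.surjective v
      exact ⟨β z, hT₃ z⟩
  let E₃ : B ⊗[A] P₃ ≃ₗ[B] P₃' := LinearEquiv.ofBijective T₃ hbij
  let t₃ : P₃ →+ P₃' :=
    { toFun := fun x => E₃ (1 ⊗ₜ[A] x)
      map_zero' := by rw [TensorProduct.tmul_zero, map_zero]
      map_add' := fun x y => by rw [TensorProduct.tmul_add, map_add] }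
  refine ⟨t₃, ⟨E₃, fun x => rfl⟩, fun x => ?_⟩
  show T₃ (1 ⊗ₜ[A] b x) = b' (t₂ x)
  have h1 : (1 : B) ⊗ₜ[A] b x = β (1 ⊗ₜ[A] x) := (LinearMap.baseChange_tmul b 1 x).symm
  rw [h1, hT₃]
  show b' (e₂ (1 ⊗ₜ[A] x)) = b' (t₂ x)
  rw [he₂]

end Alg

end Groth.Agent.Lib.FlatBCH2
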