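import Mathlib

/-!
# Modules over a sheaf of rings on a scheme: restriction of scalars (helper6)

General site lemmas: `SheafOfModules.toSheaf` and `SheafOfModules.restrictScalars` preserve colimits
(`preservesColimit_toSheaf`, `preservesColimit_restrictScalars`), `restrictScalars` is faithful,
reflects isomorphisms and preserves finite limits.
-/

universe w' w v v' u' u

open CategoryTheory Limits

namespace Groth.Agent.Lib.BModH6

section General

variable {C : Type u'} [Category.{v'} C] {J : GrothendieckTopology C}
variable (R : Sheaf J RingCat.{u}) [HasWeakSheafify J AddCommGrpCat.{v}]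
  [J.WEqualsLocallyBijective AddCommGrpCat.{v}]

/-- `toSheaf` preserves colimits of any diagram whose underlying presheaf diagram has a colimit. -/
theorem preservesColimit_toSheaf {K : Type w} [Category.{w'} K] (D : K ⥤ SheafOfModules.{v} R)
    [HasColimit (D ⋙ SheafOfModules.forget R)]
    [PreservesColimit (D ⋙ SheafOfModules.forget R) (PresheafOfModules.toPresheaf R.obj)] :
    PreservesColimit D (SheafOfModules.toSheaf.{v} R) := by
  let L := PresheafOfModules.sheafification.{v} (𝟙 R.obj)
  let T := PresheafOfModules.toPresheaf R.obj ⋙ presheafToSheaf J AddCommGrpCat.{v}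
  let e : D ≅ (D ⋙ SheafOfModules.forget R) ⋙ L :=
    Functor.isoWhiskerLeft D
      (asIso (PresheafOfModules.sheafificationAdjunction (𝟙 R.obj)).counit).symm
  let c' := colimit.cocone (D ⋙ SheafOfModules.forget R)
  have hc' : IsColimit c' := colimit.isColimit _
  have h1 : IsColimit (L.mapCocone c') := isColimitOfPreserves L hc'
  -- the colimit cocone of D
  let c : Cocone D := (Cocone.precompose e.hom).obj (L.mapCocone c')
  have hc : IsColimit c := (IsColimit.precomposeHomEquiv e _).symm h1
  refine preservesColimit_of_preserves_colimit_cocone hc ?_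
  have h2 : IsColimit (T.mapCocone c') := isColimitOfPreserves T hc'
  have h3 : IsColimit ((SheafOfModules.toSheaf.{v} R).mapCocone (L.mapCocone c')) := h2
  exact (IsColimit.precomposeHomEquiv (Functor.isoWhiskerRight e (SheafOfModules.toSheaf.{v} R))
    _).symm h3

end General

end Groth.Agent.Lib.BModH6

namespace Groth.Agent.Lib.BModH6

section RS

variable {C : Type u'} [Category.{v'} C] {J : GrothendieckTopology C}
variable {R R' : Sheaf J RingCat.{u}} (α : R ⟶ R') [HasWeakSheafify J AddCommGrpCat.{v}]
  [J.WEqualsLocallyBijective AddCommGrpCat.{v}]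

theorem restrictScalars_comp_toSheaf :
    SheafOfModules.restrictScalars.{v} α ⋙ SheafOfModules.toSheaf.{v} R =
      SheafOfModules.toSheaf.{v} R' := rfl

instance : (SheafOfModules.restrictScalars.{v} α).Faithful where
  map_injective {M N} f g h := by
    apply (SheafOfModules.toSheaf.{v} R').map_injective
    exact congrArg (fun k => (SheafOfModules.toSheaf.{v} R).map k) h

instance : (SheafOfModules.restrictScalars.{v} α).ReflectsIsomorphisms where
  reflects {M N} f hf := by
    rw [← isIso_iff_of_reflects_iso _ (SheafOfModules.toSheaf.{v} R')]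
    exact (inferInstance : IsIso ((SheafOfModules.toSheaf.{v} R).map
      ((SheafOfModules.restrictScalars.{v} α).map f)))

theorem preservesColimit_restrictScalars {K : Type w} [Category.{w'} K]
    [HasColimitsOfShape K (PresheafOfModules.{v} R.obj)]
    [HasColimitsOfShape K (PresheafOfModules.{v} R'.obj)]
    [PreservesColimitsOfShape K (PresheafOfModules.toPresheaf.{v} R.obj)]
    [PreservesColimitsOfShape K (PresheafOfModules.toPresheaf.{v} R'.obj)]
    (D : K ⥤ SheafOfModules.{v} R') :
    PreservesColimit D (SheafOfModules.restrictScalars.{v} α) := by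
  haveI : PreservesColimit D
      (SheafOfModules.restrictScalars.{v} α ⋙ SheafOfModules.toSheaf.{v} R) :=
    preservesColimit_toSheaf R' D
  haveI : PreservesColimit (D ⋙ SheafOfModules.restrictScalars.{v} α)
      (SheafOfModules.toSheaf.{v} R) :=
    preservesColimit_toSheaf R _
  haveI : ReflectsColimit (D ⋙ SheafOfModules.restrictScalars.{v} α)
      (SheafOfModules.toSheaf.{v} R) :=
    reflectsColimit_of_reflectsIsomorphisms _ _
  exact preservesColimit_of_reflects_of_preserves _ (SheafOfModules.toSheaf.{v} R)

end RS

end Groth.Agent.Lib.BModH6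

namespace Groth.Agent.Lib.BModH6

section RS2

variable {C : Type u'} [Category.{v'} C] {J : GrothendieckTopology C}
variable {R R' : Sheaf J RingCat.{u}} (α : R ⟶ R') [HasSheafify J AddCommGrpCat.{v}]
  [J.WEqualsLocallyBijective AddCommGrpCat.{v}]

noncomputable instance preservesFiniteLimits_restrictScalars :
    PreservesFiniteLimits (SheafOfModules.restrictScalars.{v} α) := by
  haveI : PreservesFiniteLimits
      (SheafOfModules.restrictScalars.{v} α ⋙ SheafOfModules.toSheaf.{v} R) :=
    (inferInstance : PreservesFiniteLimits (SheafOfModules.toSheaf.{v} R'))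
  exact preservesFiniteLimits_of_reflects_of_preserves _ (SheafOfModules.toSheaf.{v} R)

end RS2

section Top

open AlgebraicGeometry TopologicalSpace

variable {X : Scheme.{u}} {R' : Sheaf (Opens.grothendieckTopology X) RingCat.{u}}
  (α : X.ringCatSheaf ⟶ R')

instance preservesColimits_restrictScalars_scheme :
    PreservesColimitsOfSize.{u, u} (SheafOfModules.restrictScalars.{u} α) where
  preservesColimitsOfShape := { preservesColimit := preservesColimit_restrictScalars α _ }

end Top

end Groth.Agent.Lib.BModH6
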