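import Mathlib
import Groth.Agent.Lib.QCohFP_helper9

universe u

open CategoryTheory Limits AlgebraicGeometry TopologicalSpace Scheme.Modules

namespace Groth.Agent.Lib.BModH6

section Loc

variable {X : Scheme.{u}}

set_option backward.isDefEq.respectTransparency false in
/-- If the restriction of `F` to `Spec Γ(X, U)` is quasi-coherent, then `F.over U` has a
presentation. -/
theorem nonempty_presentation_over_of_restrict (F : X.Modules) {U : X.Opens} (hU : IsAffineOpen U)
    [h : (F.restrict hU.fromSpec).IsQuasicoherent] : Nonempty (F.over U).Presentation := by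
  haveI : IsIso (F.restrict hU.fromSpec).fromTildeΓ :=
    Scheme.Modules.isIso_fromTildeΓ_of_isQuasicoherent _
  let P₀ : (tilde (QCohFP.secSpec hU F)).Presentation :=
    presentationTilde.{u} (QCohFP.secSpec hU F) .univ (by simp) _ (Submodule.span_eq _)
  let P₁ := P₀.ofIsIso (F.restrict hU.fromSpec).fromTildeΓ
  haveI := QCohFP.preservesColimits_Φ hU
  let P₂ := P₁.map (QCohFP.Φ hU) (QCohFP.η hU)
  exact ⟨P₂.ofIsIso (QCohFP.compIso hU F).hom⟩

/-- Locality of quasi-coherence, in terms of restrictions to affine opens of a cover. -/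
theorem isQuasicoherent_of_restrict_fromSpec (F : X.Modules) {ι : Type u} (𝒰 : ι → X.Opens)
    (h𝒰 : ∀ i, IsAffineOpen (𝒰 i)) (hcov : ⨆ i, 𝒰 i = ⊤)
    (H : ∀ i, (F.restrict (h𝒰 i).fromSpec).IsQuasicoherent) : F.IsQuasicoherent := by
  have hc : (Opens.grothendieckTopology X).CoversTop 𝒰 := by
    rw [Opens.coversTop_iff]
    exact hcov
  let σ : SheafOfModules.QuasicoherentData.{u} (R := X.ringCatSheaf) F :=
    { I := ι, X := 𝒰, coversTop := hc,
      presentation := fun i =>
        (@nonempty_presentation_over_of_restrict _ F _ (h𝒰 i) (H i)).some }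
  exact σ.isQuasicoherent

end Loc

end Groth.Agent.Lib.BModH6

namespace Groth.Agent.Lib.BModH6

section Sigma

variable {X : Scheme.{u}}

set_option backward.isDefEq.respectTransparency false in
/-- On `Spec R`, a coproduct of quasi-coherent modules is quasi-coherent. -/
theorem isQuasicoherent_sigma_spec {R : CommRingCat.{u}} {I : Type u}
    (M : I → (Spec R).Modules) [∀ i, (M i).IsQuasicoherent] : (∐ M).IsQuasicoherent := by
  haveI : ∀ i, IsIso (M i).fromTildeΓ := fun i =>
    Scheme.Modules.isIso_fromTildeΓ_of_isQuasicoherent _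
  let N : I → ModuleCat.{u} R := fun i => (moduleSpecΓFunctor (R := R)).obj (M i)
  let e₁ : (∐ fun i => (tilde.functor R).obj (N i)) ≅ ∐ M :=
    Sigma.mapIso (fun i => asIso (M i).fromTildeΓ)
  let e₂ : (tilde.functor R).obj (∐ N) ≅ ∐ fun i => (tilde.functor R).obj (N i) :=
    PreservesCoproduct.iso (tilde.functor R) N
  exact (SheafOfModules.isQuasicoherent (Spec R).ringCatSheaf).prop_of_iso (e₂ ≪≫ e₁)
    (inferInstanceAs ((tilde.functor R).obj (∐ N)).IsQuasicoherent)

set_option backward.isDefEq.respectTransparency false in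
/-- A coproduct of quasi-coherent modules is quasi-coherent. -/
theorem isQuasicoherent_sigma {I : Type u} (M : I → X.Modules) [∀ i, (M i).IsQuasicoherent] :
    (∐ M).IsQuasicoherent := by
  refine isQuasicoherent_of_restrict_fromSpec (∐ M) (fun U : X.affineOpens => U.1)
    (fun U => U.2) (iSup_affineOpens_eq_top X) (fun U => ?_)
  haveI : PreservesColimitsOfSize.{u, u} (Scheme.Modules.restrictFunctor U.2.fromSpec) :=
    inferInstance
  let e : (∐ M).restrict U.2.fromSpec ≅ ∐ fun i => (M i).restrict U.2.fromSpec :=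
    PreservesCoproduct.iso (Scheme.Modules.restrictFunctor U.2.fromSpec) M
  haveI := isQuasicoherent_sigma_spec (fun i => (M i).restrict U.2.fromSpec)
  exact (SheafOfModules.isQuasicoherent (Spec Γ(X, U.1)).ringCatSheaf).prop_of_iso e.symm
    (inferInstanceAs (∐ fun i => (M i).restrict U.2.fromSpec).IsQuasicoherent)

end Sigma

end Groth.Agent.Lib.BModH6
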