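import Mathlib
import Groth.Agent.Lib.BMod0_helper6
import Groth.Agent.Lib.BMod1_helper6
import Groth.Agent.Lib.SubExt_helper9

universe u

open CategoryTheory Limits AlgebraicGeometry TopologicalSpace Scheme.Modules

namespace Groth.Agent.Lib.BModH6

section Coker

variable {X : Scheme.{u}}

/-- The cokernel of a morphism of quasi-coherent modules is quasi-coherent (helper8/helper9). -/
theorem isQuasicoherent_cokernel {F G : X.Modules} [F.IsQuasicoherent] [G.IsQuasicoherent]
    (u : F ⟶ G) : (cokernel u).IsQuasicoherent := by
  haveI h1 : (Abelian.coimage u).IsQuasicoherent := SubExt.isQuasicoherent_coimage u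
  haveI h2 : (Abelian.image u).IsQuasicoherent :=
    (SheafOfModules.isQuasicoherent X.ringCatSheaf).prop_of_iso (Abelian.coimageIsoImage u) h1
  let E : ShortComplex X.Modules :=
    ShortComplex.mk (kernel.ι (cokernel.π u)) (cokernel.π u) (kernel.condition _)
  have hE : E.ShortExact := ShortComplex.ShortExact.mk' (ShortComplex.exact_kernel (cokernel.π u))
    (inferInstanceAs (Mono (kernel.ι (cokernel.π u)))) (inferInstanceAs (Epi (cokernel.π u)))
  haveI : E.X₁.IsQuasicoherent := h2
  haveI : E.X₂.IsQuasicoherent := ‹G.IsQuasicoherent›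
  exact SubExt.isQuasicoherent_X₃ E hE

end Coker

section Core1

variable {X : Scheme.{u}} {R' : Sheaf (Opens.grothendieckTopology X) RingCat.{u}}
  (α : X.ringCatSheaf ⟶ R')

/-- Restriction of scalars from `R'`-modules to `𝒪_X`-modules. -/
noncomputable abbrev rho : SheafOfModules.{u} R' ⥤ SheafOfModules.{u} X.ringCatSheaf :=
  SheafOfModules.restrictScalars.{u} α

set_option backward.isDefEq.respectTransparency false in
theorem isQuasicoherent_rho_free
    (hα : ((rho α).obj (SheafOfModules.unit R')).IsQuasicoherent) (I : Type u) :
    ((rho α).obj (SheafOfModules.free.{u} I)).IsQuasicoherent := by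
  let e : (rho α).obj (SheafOfModules.free.{u} I) ≅
      ∐ fun _ : I => (rho α).obj (SheafOfModules.unit R') :=
    PreservesCoproduct.iso (rho α) (fun _ : I => SheafOfModules.unit R')
  haveI : ∀ _ : I, ((rho α).obj (SheafOfModules.unit R')).IsQuasicoherent := fun _ => hα
  exact (SheafOfModules.isQuasicoherent X.ringCatSheaf).prop_of_iso e.symm
    (isQuasicoherent_sigma (fun _ : I => (rho α).obj (SheafOfModules.unit R')))

set_option backward.isDefEq.respectTransparency false in
theorem isQuasicoherent_rho_of_presentation
    (hα : ((rho α).obj (SheafOfModules.unit R')).IsQuasicoherent)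
    {G : SheafOfModules.{u} R'} (P : G.Presentation) :
    ((rho α).obj G).IsQuasicoherent := by
  let fP : SheafOfModules.free P.relations.I ⟶ SheafOfModules.free P.generators.I :=
    (SheafOfModules.freeHomEquiv _).symm P.relations.s ≫ kernel.ι _
  have hcol := P.isColimit
  have h2 := CokernelCofork.mapIsColimit _ hcol (rho α)
  haveI := isQuasicoherent_rho_free α hα P.relations.I
  haveI := isQuasicoherent_rho_free α hα P.generators.I
  let e : (rho α).obj G ≅ cokernel ((rho α).map fP) :=
    h2.coconePointUniqueUpToIso (colimit.isColimit _)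
  exact (SheafOfModules.isQuasicoherent X.ringCatSheaf).prop_of_iso e.symm
    (isQuasicoherent_cokernel (X := X) ((rho α).map fP))

end Core1

end Groth.Agent.Lib.BModH6
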