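import Mathlib

/-!
# A presentation lemma for modules over polynomial rings (helper2)

For an `A`-module `G` with commuting endomorphisms `T i`, the base change `G' = A[X] ⊗ G` modulo
the relations `X_i w - (1 ⊗ T_i) w` is `G` again.
APPEND-ONLY once landed.
-/

set_option autoImplicit false
open scoped BigOperators

namespace Groth.Agent.Lib.FormalFnH2

section AL

variable {A : Type*} [CommRing A] {σ : Type*}
  {G : Type*} [AddCommGroup G] [Module A G] (T : σ → G →ₗ[A] G)
  {G' : Type*} [AddCommGroup G'] [Module A G'] [Module (MvPolynomial σ A) G']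
  [IsScalarTower A (MvPolynomial σ A) G']
  (c : G →ₗ[A] G') (τ : σ → G' →ₗ[MvPolynomial σ A] G')

/-- the relation submodule -/
noncomputable def relSub : Submodule (MvPolynomial σ A) G' :=
  Submodule.span _ {w | ∃ i w', w = (MvPolynomial.X i : MvPolynomial σ A) • w' - τ i w'}

lemma C_smul' (a : A) (w : G') : (MvPolynomial.C a : MvPolynomial σ A) • w = a • w := by
  rw [← MvPolynomial.algebraMap_eq, algebraMap_smul]

include T in
theorem exists_sub_mem_relSub (hτ : ∀ i g, τ i (c g) = c (T i g))
    (hbc : IsBaseChange (MvPolynomial σ A) c) (w : G') : ∃ g : G, w - c g ∈ relSub τ := by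
  have key : ∀ p : MvPolynomial σ A, ∀ g, ∃ g', p • c g - c g' ∈ relSub τ := by
    intro p
    induction p using MvPolynomial.induction_on with
    | C a =>
      intro g
      refine ⟨a • g, ?_⟩
      rw [C_smul', map_smul, sub_self]
      exact Submodule.zero_mem _
    | add p q hp hq =>
      intro g
      obtain ⟨g₁, h₁⟩ := hp g
      obtain ⟨g₂, h₂⟩ := hq g
      refine ⟨g₁ + g₂, ?_⟩
      have : (p + q) • c g - c (g₁ + g₂) = (p • c g - c g₁) + (q • c g - c g₂) := by
        rw [add_smul, map_add]; abel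
      rw [this]
      exact Submodule.add_mem _ h₁ h₂
    | mul_X p i hp =>
      intro g
      obtain ⟨g₁, h₁⟩ := hp (T i g)
      refine ⟨g₁, ?_⟩
      have : (p * MvPolynomial.X i) • c g - c g₁ =
          p • ((MvPolynomial.X i : MvPolynomial σ A) • c g - τ i (c g)) +
            (p • c (T i g) - c g₁) := by
        rw [mul_smul, smul_sub, hτ]; abel
      rw [this]
      exact Submodule.add_mem _
        (Submodule.smul_mem _ _ (Submodule.subset_span ⟨i, c g, rfl⟩)) h₁
  refine hbc.inductionOn w (fun w => ∃ g : G, w - c g ∈ relSub τ) ?_ ?_ ?_ ?_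
  · exact ⟨0, by rw [map_zero, sub_zero]; exact Submodule.zero_mem _⟩
  · intro m
    exact ⟨m, by rw [sub_self]; exact Submodule.zero_mem _⟩
  · rintro s n ⟨g, hg⟩
    obtain ⟨g', hg'⟩ := key s g
    refine ⟨g', ?_⟩
    have : s • n - c g' = s • (n - c g) + (s • c g - c g') := by
      rw [smul_sub]; abel
    rw [this]
    exact Submodule.add_mem _ (Submodule.smul_mem _ _ hg) hg'
  · rintro n₁ n₂ ⟨g₁, h₁⟩ ⟨g₂, h₂⟩
    refine ⟨g₁ + g₂, ?_⟩
    have : n₁ + n₂ - c (g₁ + g₂) = (n₁ - c g₁) + (n₂ - c g₂) := by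
      rw [map_add]; abel
    rw [this]
    exact Submodule.add_mem _ h₁ h₂

open scoped IsMulCommutative in
theorem eq_zero_of_mem_relSub (hT : ∀ i j, T i ∘ₗ T j = T j ∘ₗ T i)
    (hτ : ∀ i g, τ i (c g) = c (T i g))
    (hbc : IsBaseChange (MvPolynomial σ A) c) (g : G) (h : c g ∈ relSub τ) : g = 0 := by
  classical
  have hcomm : ∀ x ∈ Set.range T, ∀ y ∈ Set.range T, x * y = y * x := by
    rintro _ ⟨i, rfl⟩ _ ⟨j, rfl⟩
    exact hT i j
  haveI := Algebra.isMulCommutative_adjoin A hcomm
  let t : σ → ↥(Algebra.adjoin A (Set.range T)) := fun i => ⟨T i, Algebra.subset_adjoin ⟨i, rfl⟩⟩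
  let φ : MvPolynomial σ A →ₐ[A] ↥(Algebra.adjoin A (Set.range T)) := MvPolynomial.aeval t
  let ψ : MvPolynomial σ A →+* Module.End A G :=
    ((Algebra.adjoin A (Set.range T)).val : ↥(Algebra.adjoin A (Set.range T)) →+* Module.End A G).comp
      (φ : MvPolynomial σ A →+* ↥(Algebra.adjoin A (Set.range T)))
  letI mP : Module (MvPolynomial σ A) G := Module.compHom G ψ
  have hsm : ∀ (p : MvPolynomial σ A) (x : G), p • x = ψ p x := fun p x => rfl
  have hX : ∀ i (x : G), (MvPolynomial.X i : MvPolynomial σ A) • x = T i x := by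
    intro i x
    rw [hsm]
    show ((MvPolynomial.aeval t (MvPolynomial.X i) : ↥(Algebra.adjoin A (Set.range T))) :
      Module.End A G) x = T i x
    rw [MvPolynomial.aeval_X]
  have hC : ∀ (a : A) (x : G), (MvPolynomial.C a : MvPolynomial σ A) • x = a • x := by
    intro a x
    rw [hsm]
    show ((MvPolynomial.aeval t (MvPolynomial.C a) : ↥(Algebra.adjoin A (Set.range T))) :
      Module.End A G) x = a • x
    rw [MvPolynomial.aeval_C]
    rfl
  haveI : IsScalarTower A (MvPolynomial σ A) G := by
    refine IsScalarTower.of_algebraMap_smul (fun a x => ?_)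
    rw [MvPolynomial.algebraMap_eq, hC]
  have hcommT : ∀ i (p : MvPolynomial σ A) (x : G), T i (p • x) = p • T i x := by
    intro i p x
    rw [hsm, hsm]
    have h1 : (t i) * (φ p) = (φ p) * (t i) := mul_comm _ _
    have h2 := congrArg (fun e : ↥(Algebra.adjoin A (Set.range T)) => (e : Module.End A G) x) h1
    exact h2
  let ev : G' →ₗ[MvPolynomial σ A] G := hbc.lift LinearMap.id
  have hev : ∀ x, ev (c x) = x := fun x => hbc.lift_eq LinearMap.id x
  let Ti : σ → G →ₗ[MvPolynomial σ A] G := fun i =>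
    { toFun := T i
      map_add' := map_add _
      map_smul' := fun p x => hcommT i p x }
  have hevτ : ∀ i, ev.comp (τ i) = (Ti i).comp ev := by
    intro i
    apply hbc.algHom_ext
    intro x
    show ev (τ i (c x)) = T i (ev (c x))
    rw [hτ, hev, hev]
  have hker : relSub τ ≤ LinearMap.ker ev := by
    apply Submodule.span_le.mpr
    rintro _ ⟨i, w', rfl⟩
    rw [SetLike.mem_coe, LinearMap.mem_ker, map_sub, map_smul, hX]
    have := LinearMap.congr_fun (hevτ i) w'
    have h3 : ev (τ i w') = T i (ev w') := this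
    rw [h3, sub_self]
  have h4 := hker h
  rw [LinearMap.mem_ker, hev] at h4
  exact h4

end AL

end Groth.Agent.Lib.FormalFnH2
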