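import Mathlib

/-!
# Algebra for the theorem on formal functions (helper2)

* `exists_gen`: a graded Noetherian lemma: a family of groups `K n` embedded as orthogonal
  summands in a Noetherian module over a polynomial ring, compatibly with the shifts, is
  generated in bounded degrees (also for sub-families).
* `range_le_of_gen`: the Artin--Rees type inclusion deduced from generation in bounded degree.
* `inc_eq_zero`: the transition maps of the sub-family `Q` are eventually zero.
* `nonempty_completion_addEquiv`, `bijective_toLim`: the limit statements.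
APPEND-ONLY once landed.
-/

set_option autoImplicit false
open scoped BigOperators

namespace Groth.Agent.Lib.FormalFnH2

/-! ### Graded Noetherian lemma -/
section GR

variable {A : Type*} [CommRing A] {σ : Type*} [Fintype σ]
  {H : Type*} [AddCommGroup H] [Module (MvPolynomial σ A) H]
  {K : ℕ → Type*} [∀ n, AddCommGroup (K n)] [∀ n, Module A (K n)]

/-- the sum of the shift maps -/
noncomputable def sumMap (μ : σ → ∀ n, K n →ₗ[A] K (n + 1)) (n : ℕ) (Q : Submodule A (K n)) :
    (σ → Q) →ₗ[A] K (n + 1) :=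
  ∑ i, (μ i n).comp (Q.subtype.comp (LinearMap.proj i))

lemma sumMap_apply (μ : σ → ∀ n, K n →ₗ[A] K (n + 1)) (n : ℕ) (Q : Submodule A (K n))
    (f : σ → Q) : sumMap μ n Q f = ∑ i, μ i n (f i : K n) := by
  simp [sumMap, LinearMap.sum_apply]

/-- the family generated in degrees `≤ d` -/
noncomputable def Qtr (μ : σ → ∀ n, K n →ₗ[A] K (n + 1)) (Q : ∀ n, Submodule A (K n)) (d : ℕ) :
    ∀ n, Submodule A (K n)
  | 0 => Q 0
  | (n + 1) => if n + 1 ≤ d then Q (n + 1) else LinearMap.range (sumMap μ n (Qtr μ Q d n))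

variable (μ : σ → ∀ n, K n →ₗ[A] K (n + 1)) (Q : ∀ n, Submodule A (K n)) (d : ℕ)

lemma Qtr_of_le {n : ℕ} (h : n ≤ d) : Qtr μ Q d n = Q n := by
  cases n with
  | zero => rfl
  | succ n =>
    simp only [Qtr]
    rw [if_pos h]

lemma Qtr_succ_of_lt {n : ℕ} (h : d < n + 1) :
    Qtr μ Q d (n + 1) = LinearMap.range (sumMap μ n (Qtr μ Q d n)) := by
  simp only [Qtr]
  rw [if_neg (not_le.mpr h)]

variable {μ Q}

lemma Qtr_le (hQ : ∀ i n y, y ∈ Q n → μ i n y ∈ Q (n + 1)) : ∀ n, Qtr μ Q d n ≤ Q n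
  | 0 => le_of_eq (Qtr_of_le μ Q d (Nat.zero_le d))
  | (n + 1) => by
    by_cases h : n + 1 ≤ d
    · rw [Qtr_of_le μ Q d h]
    · rw [Qtr_succ_of_lt μ Q d (not_le.mp h)]
      rintro _ ⟨f, rfl⟩
      rw [sumMap_apply]
      exact Submodule.sum_mem _ (fun i _ => hQ i n _ (Qtr_le hQ n (f i).2))

lemma Qtr_mul (hQ : ∀ i n y, y ∈ Q n → μ i n y ∈ Q (n + 1)) (i : σ) (n : ℕ) (y : K n)
    (hy : y ∈ Qtr μ Q d n) : μ i n y ∈ Qtr μ Q d (n + 1) := by
  classical
  by_cases h : n + 1 ≤ d
  · rw [Qtr_of_le μ Q d h]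
    exact hQ i n y (Qtr_le d hQ n hy)
  · rw [Qtr_succ_of_lt μ Q d (not_le.mp h)]
    refine ⟨Pi.single i ⟨y, hy⟩, ?_⟩
    rw [sumMap_apply, Finset.sum_eq_single i]
    · rw [Pi.single_eq_same]
    · intro j _ hj
      rw [Pi.single_eq_of_ne hj]
      exact map_zero _
    · intro h
      exact absurd (Finset.mem_univ i) h

/-- **Graded Noetherian lemma.** -/
theorem exists_gen [IsNoetherian (MvPolynomial σ A) H]
    (J : ∀ n, K n →+ H) (Pr : ∀ n, H →+ K n)
    (hPJ : ∀ n y, Pr n (J n y) = y) (hPJ' : ∀ n m, n ≠ m → ∀ y, Pr m (J n y) = 0)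
    (hX : ∀ i n y, (MvPolynomial.X i : MvPolynomial σ A) • J n y = J (n + 1) (μ i n y))
    (hC : ∀ (a : A) n y, (MvPolynomial.C a : MvPolynomial σ A) • J n y = J n (a • y))
    (hQ : ∀ i n y, y ∈ Q n → μ i n y ∈ Q (n + 1)) :
    ∃ d, ∀ n, d ≤ n → ∀ y ∈ Q (n + 1),
      ∃ f : σ → K n, (∀ i, f i ∈ Q n) ∧ y = ∑ i, μ i n (f i) := by
  classical
  let W : ℕ →o Submodule (MvPolynomial σ A) H :=
    ⟨fun m => Submodule.span _ {h | ∃ k, k ≤ m ∧ ∃ y ∈ Q k, J k y = h}, fun m m' hmm' =>
      Submodule.span_mono (fun h ⟨k, hk, y, hy, e⟩ => ⟨k, hk.trans hmm', y, hy, e⟩)⟩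
  obtain ⟨d, hd⟩ := (monotone_stabilizes_iff_noetherian.mpr ‹_›) W
  refine ⟨d, fun n hn y hy => ?_⟩
  let S : Set H := {h | ∃ k, ∃ y ∈ Qtr μ Q d k, J k y = h}
  let W' : AddSubgroup H := AddSubgroup.closure S
  have hXW : ∀ i, ∀ h ∈ W', (MvPolynomial.X i : MvPolynomial σ A) • h ∈ W' := by
    intro i h hh
    induction hh using AddSubgroup.closure_induction with
    | mem x hx =>
      obtain ⟨k, y, hy, rfl⟩ := hx
      rw [hX]
      exact AddSubgroup.subset_closure ⟨k + 1, _, Qtr_mul d hQ i k y hy, rfl⟩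
    | zero => rw [smul_zero]; exact W'.zero_mem
    | add x y _ _ hx hy => rw [smul_add]; exact W'.add_mem hx hy
    | neg x _ hx => rw [smul_neg]; exact W'.neg_mem hx
  have hCW : ∀ a : A, ∀ h ∈ W', (MvPolynomial.C a : MvPolynomial σ A) • h ∈ W' := by
    intro a h hh
    induction hh using AddSubgroup.closure_induction with
    | mem x hx =>
      obtain ⟨k, y, hy, rfl⟩ := hx
      rw [hC]
      exact AddSubgroup.subset_closure ⟨k, _, (Qtr μ Q d k).smul_mem a hy, rfl⟩
    | zero => rw [smul_zero]; exact W'.zero_mem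
    | add x y _ _ hx hy => rw [smul_add]; exact W'.add_mem hx hy
    | neg x _ hx => rw [smul_neg]; exact W'.neg_mem hx
  have hPW : ∀ p : MvPolynomial σ A, ∀ h ∈ W', p • h ∈ W' := by
    intro p
    induction p using MvPolynomial.induction_on with
    | C a => exact hCW a
    | add p q hp hq =>
      intro h hh
      rw [add_smul]
      exact W'.add_mem (hp h hh) (hq h hh)
    | mul_X p i hp =>
      intro h hh
      rw [mul_smul]
      exact hp _ (hXW i h hh)
  let W'' : Submodule (MvPolynomial σ A) H :=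
    { carrier := W'
      add_mem' := W'.add_mem
      zero_mem' := W'.zero_mem
      smul_mem' := fun p h hh => hPW p h hh }
  have hWd : W d ≤ W'' := by
    apply Submodule.span_le.mpr
    rintro _ ⟨k, hk, y, hy, rfl⟩
    exact AddSubgroup.subset_closure ⟨k, y, by rw [Qtr_of_le μ Q d hk]; exact hy, rfl⟩
  have hJ : J (n + 1) y ∈ W' := by
    have h1 : J (n + 1) y ∈ W (n + 1) := Submodule.subset_span ⟨n + 1, le_rfl, y, hy, rfl⟩
    rw [← hd (n + 1) (hn.trans (Nat.le_succ n))] at h1
    exact hWd h1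
  have hPr : ∀ h ∈ W', Pr (n + 1) h ∈ Qtr μ Q d (n + 1) := by
    intro h hh
    induction hh using AddSubgroup.closure_induction with
    | mem x hx =>
      obtain ⟨k, z, hz, rfl⟩ := hx
      by_cases hk : k = n + 1
      · subst hk
        rw [hPJ]
        exact hz
      · rw [hPJ' k (n + 1) hk]
        exact Submodule.zero_mem _
    | zero => rw [map_zero]; exact Submodule.zero_mem _
    | add x y _ _ hx hy => rw [map_add]; exact Submodule.add_mem _ hx hy
    | neg x _ hx => rw [map_neg]; exact Submodule.neg_mem _ hx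
  have h2 := hPr _ hJ
  rw [hPJ, Qtr_succ_of_lt μ Q d (Nat.lt_succ_of_le hn)] at h2
  obtain ⟨f, hf⟩ := h2
  refine ⟨fun i => (f i : K n), fun i => Qtr_le d hQ n (f i).2, ?_⟩
  rw [← hf, sumMap_apply]

end GR

/-! ### Consequences of generation in bounded degrees -/
section D

variable {A : Type*} [CommRing A] (I : Ideal A) {σ : Type*} [Fintype σ] (a : σ → A)
  (ha : ∀ i, a i ∈ I)
  {H : Type*} [AddCommGroup H] [Module A H]
  {K : ℕ → Type*} [∀ n, AddCommGroup (K n)] [∀ n, Module A (K n)]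
  (ι : ∀ n, K n →ₗ[A] H) (μ : σ → ∀ n, K n →ₗ[A] K (n + 1))

include ha in
theorem range_le_of_gen (hιμ : ∀ i n y, ι (n + 1) (μ i n y) = a i • ι n y) (d : ℕ)
    (hgen : ∀ n, d ≤ n → ∀ y : K (n + 1), ∃ f : σ → K n, y = ∑ i, μ i n (f i)) :
    ∀ n, d ≤ n → LinearMap.range (ι n) ≤ I ^ (n - d) • (⊤ : Submodule A H) := by
  intro n hn
  induction n, hn using Nat.le_induction with
  | base =>
    rw [Nat.sub_self, pow_zero, Ideal.one_eq_top, Submodule.top_smul]
    exact le_top
  | succ n hn ih =>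
    rintro _ ⟨y, rfl⟩
    obtain ⟨f, rfl⟩ := hgen n hn y
    rw [map_sum]
    refine Submodule.sum_mem _ (fun i _ => ?_)
    rw [hιμ, Nat.succ_sub hn, pow_succ', Submodule.mul_smul]
    exact Submodule.smul_mem_smul (ha i) (ih ⟨f i, rfl⟩)

include ha in
theorem inc_eq_zero
    (inc : ∀ {n k : ℕ}, n ≤ k → K k →ₗ[A] K n)
    (inc_refl : ∀ n (y : K n), inc (le_refl n) y = y)
    (inc_trans : ∀ {n m k : ℕ} (h₁ : n ≤ m) (h₂ : m ≤ k) (y : K k),
      inc h₁ (inc h₂ y) = inc (h₁.trans h₂) y)
    (hincμ : ∀ i n y, inc (Nat.le_succ n) (μ i n y) = a i • y)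
    (Q : ∀ n, Submodule A (K n))
    (hQkill : ∀ n, ∀ b ∈ I ^ n, ∀ y ∈ Q n, b • y = 0)
    (d : ℕ) (hgen : ∀ n, d ≤ n → ∀ y ∈ Q (n + 1),
      ∃ f : σ → K n, (∀ i, f i ∈ Q n) ∧ y = ∑ i, μ i n (f i)) :
    ∀ n k (h : n ≤ k), n + 2 * d ≤ k → ∀ y ∈ Q k, inc h y = 0 := by
  -- Step 1: `I ^ d` kills all `Q n`
  have h1 : ∀ n, ∀ b ∈ I ^ d, ∀ y ∈ Q n, b • y = 0 := by
    intro n
    by_cases hnd : n ≤ d
    · intro b hb y hy
      exact hQkill n b (Ideal.pow_le_pow_right hnd hb) y hy
    · have hdn : d ≤ n := le_of_not_ge hnd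
      induction n, hdn using Nat.le_induction with
      | base => exact hQkill d
      | succ n hn ih =>
        intro b hb y hy
        obtain ⟨f, hf, rfl⟩ := hgen n hn y hy
        rw [Finset.smul_sum]
        refine Finset.sum_eq_zero (fun i _ => ?_)
        rw [← map_smul]
        by_cases hnd' : n ≤ d
        · rw [hQkill n b (Ideal.pow_le_pow_right hnd' hb) _ (hf i), map_zero]
        · rw [ih hnd' b hb _ (hf i), map_zero]
  -- Step 2
  have h2 : ∀ n, d ≤ n → ∀ k (h : n ≤ k), ∀ y ∈ Q k,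
      inc h y ∈ I ^ (k - n) • (Q n) := by
    intro n hdn k h
    induction k, h using Nat.le_induction with
    | base =>
      intro y hy
      rw [inc_refl, Nat.sub_self, pow_zero, Ideal.one_eq_top, Submodule.top_smul]
      exact hy
    | succ k hk ih =>
      intro y hy
      obtain ⟨f, hf, rfl⟩ := hgen k (hdn.trans hk) y hy
      rw [map_sum]
      refine Submodule.sum_mem _ (fun i _ => ?_)
      rw [← inc_trans hk (Nat.le_succ k), hincμ, map_smul, Nat.succ_sub hk, pow_succ',
        Submodule.mul_smul]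
      exact Submodule.smul_mem_smul (ha i) (ih _ (hf i))
  -- Step 3
  have h3 : ∀ n, d ≤ n → ∀ k (h : n ≤ k), n + d ≤ k → ∀ y ∈ Q k, inc h y = 0 := by
    intro n hdn k h hk y hy
    have h4 := h2 n hdn k h y hy
    have h5 : I ^ (k - n) • (Q n) ≤ (⊥ : Submodule A (K n)) := by
      rw [Submodule.smul_le]
      intro b hb z hz
      rw [Submodule.mem_bot]
      exact h1 n b (Ideal.pow_le_pow_right (by omega) hb) z hz
    exact (Submodule.mem_bot A).mp (h5 h4)
  intro n k h hk y hy
  by_cases hdn : d ≤ n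
  · exact h3 n hdn k h (by omega) y hy
  · have hnd : n ≤ d := le_of_not_ge hdn
    have hdk : d ≤ k := by omega
    rw [← inc_trans hnd hdk, h3 d le_rfl k hdk (by omega) y hy, map_zero]

end D

/-! ### The limit statements -/
section E

variable {A : Type*} [CommRing A] (I : Ideal A) {H : Type*} [AddCommGroup H] [Module A H]
  {M : ℕ → Type*} [∀ n, AddCommGroup (M n)]
  (t : ∀ n, H →+ M n) (τ : ∀ n, M (n + 1) →+ M n)
  (hτt : ∀ n h, τ n (t (n + 1) h) = t n h)
  (hkill : ∀ n, ∀ h ∈ (I ^ (n + 1) • ⊤ : Submodule A H), t n h = 0)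
  (c : ℕ) (hker : ∀ n, c ≤ n → ∀ h, t n h = 0 → h ∈ (I ^ (n - c) • ⊤ : Submodule A H))
  (L : AddSubgroup (∀ n, M n)) (hL : ∀ x, x ∈ L ↔ ∀ n, τ n (x (n + 1)) = x n)
  (hML : ∀ x ∈ L, ∀ n, ∃ h, t n h = x n)

include hτt in
lemma t_eq_of_add (x : ∀ n, M n) (hx : ∀ n, τ n (x (n + 1)) = x n) :
    ∀ (k m : ℕ) (h : H), t (m + k) h = x (m + k) → t m h = x m := by
  intro k
  induction k with
  | zero => intro m h hh; exact hh
  | succ k ih =>
    intro m h hh
    apply ih m h
    have h1 : t (m + k) h = τ (m + k) (t (m + k + 1) h) := (hτt (m + k) h).symm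
    rw [h1]
    have h2 : t (m + k + 1) h = x (m + k + 1) := hh
    rw [h2, hx]

include hτt hker hL hML in
/-- a compatible family comes from a Cauchy sequence -/
lemma exists_cauchy (x : ∀ n, M n) (hx : x ∈ L) :
    ∃ g : ℕ → H, (∀ n, g n ≡ g (n + 1) [SMOD (I ^ n • ⊤ : Submodule A H)]) ∧
      ∀ n, t (n + c) (g n) = x (n + c) := by
  choose hh hhx using fun n => hML x hx n
  refine ⟨fun n => hh (n + c), fun n => ?_, fun n => hhx (n + c)⟩
  rw [SModEq.sub_mem]
  have h1 : t (n + c) (hh (n + c) - hh (n + 1 + c)) = 0 := by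
    rw [map_sub, hhx (n + c), sub_eq_zero]
    have h2 : n + 1 + c = n + c + 1 := by omega
    have h3 := t_eq_of_add t τ hτt x ((hL x).mp hx) 1 (n + c) (hh (n + 1 + c))
      (by rw [show n + c + 1 = n + 1 + c by omega]; exact hhx (n + 1 + c))
    exact h3.symm
  have h4 := hker (n + c) (Nat.le_add_left c n) _ h1
  rwa [Nat.add_sub_cancel] at h4

include hτt hkill in
lemma t_eq_of_smodEq (x : ∀ n, M n) (hx : ∀ n, τ n (x (n + 1)) = x n) (g : ℕ → H)
    (hg : ∀ n, t (n + c) (g n) = x (n + c)) (y : H) (m : ℕ)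
    (hy : y ≡ g (m + 1) [SMOD (I ^ (m + 1) • ⊤ : Submodule A H)]) : t m y = x m := by
  rw [SModEq.sub_mem] at hy
  have h1 : t m (y - g (m + 1)) = 0 := hkill m _ hy
  rw [map_sub, sub_eq_zero] at h1
  rw [h1]
  have h2 := hg (m + 1)
  exact t_eq_of_add t τ hτt x hx (1 + c) m (g (m + 1))
    (by rw [show m + (1 + c) = m + 1 + c by omega]; exact h2)

include hτt hkill hker hL hML in
/-- **The completion of `H` is the inverse limit.** -/
theorem nonempty_completion_addEquiv : Nonempty (AdicCompletion I H ≃+ L) := by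
  -- the map from Cauchy sequences to the limit
  have hcompat : ∀ f : AdicCompletion.AdicCauchySequence I H,
      (fun m => t m (f (m + 1))) ∈ L := by
    intro f
    rw [hL]
    intro m
    show τ m (t (m + 1) (f (m + 1 + 1))) = t m (f (m + 1))
    rw [hτt]
    have h1 : f (m + 1) ≡ f (m + 1 + 1) [SMOD (I ^ (m + 1) • ⊤ : Submodule A H)] :=
      f.property (Nat.le_succ (m + 1))
    rw [SModEq.sub_mem] at h1
    have h2 := hkill m _ h1
    rw [map_sub, sub_eq_zero] at h2
    exact h2.symm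
  let Ψ : AdicCompletion.AdicCauchySequence I H →+ L :=
    { toFun := fun f => ⟨fun m => t m (f (m + 1)), hcompat f⟩
      map_zero' := by
        apply Subtype.ext
        funext m
        show t m ((0 : AdicCompletion.AdicCauchySequence I H) (m + 1)) = 0
        rw [AdicCompletion.AdicCauchySequence.zero_apply, map_zero]
      map_add' := fun f g => by
        apply Subtype.ext
        funext m
        show t m ((f + g) (m + 1)) = t m (f (m + 1)) + t m (g (m + 1))
        rw [AdicCompletion.AdicCauchySequence.add_apply, map_add] }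
  have hΨ : ∀ f : AdicCompletion.AdicCauchySequence I H, ∀ m, (Ψ f : ∀ n, M n) m = t m (f (m + 1)) :=
    fun f m => rfl
  let φ : AdicCompletion.AdicCauchySequence I H →+ AdicCompletion I H := (AdicCompletion.mk I H).toAddMonoidHom
  have hφs : Function.Surjective φ := AdicCompletion.mk_surjective I H
  have hΨs : Function.Surjective Ψ := by
    rintro ⟨x, hx⟩
    obtain ⟨g, hg1, hg2⟩ := exists_cauchy I t τ hτt c hker L hL hML x hx
    refine ⟨AdicCompletion.AdicCauchySequence.mk I H g hg1, Subtype.ext (funext fun m => ?_)⟩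
    rw [hΨ]
    exact t_eq_of_smodEq I t τ hτt hkill c x ((hL x).mp hx) g hg2 _ m SModEq.rfl
  have hk : ∀ f, φ f = 0 ↔ Ψ f = 0 := by
    intro f
    have hφ0 : φ f = 0 ↔ ∀ n, f n ∈ (I ^ n • ⊤ : Submodule A H) := by
      constructor
      · intro h n
        have h1 : (AdicCompletion.mk I H f).val n = 0 := by
          have : AdicCompletion.mk I H f = 0 := h
          rw [this]
          rfl
        rw [AdicCompletion.mk_apply_coe, Submodule.mkQ_apply, Submodule.Quotient.mk_eq_zero] at h1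
        exact h1
      · intro h
        show AdicCompletion.mk I H f = 0
        apply AdicCompletion.ext
        intro n
        rw [AdicCompletion.mk_apply_coe, Submodule.mkQ_apply, AdicCompletion.val_zero]
        exact (Submodule.Quotient.mk_eq_zero _).mpr (h n)
    rw [hφ0]
    constructor
    · intro h
      apply Subtype.ext
      funext m
      rw [hΨ]
      exact hkill m _ (h (m + 1))
    · intro h n
      have h1 : t (n + c) (f (n + c + 1)) = 0 := by
        have := congrArg (fun z : L => (z : ∀ n, M n) (n + c)) h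
        exact this
      have h2 := hker (n + c) (Nat.le_add_left c n) _ h1
      rw [Nat.add_sub_cancel] at h2
      have h3 : f n ≡ f (n + c + 1) [SMOD (I ^ n • ⊤ : Submodule A H)] :=
        f.property (by omega)
      rw [SModEq.sub_mem] at h3
      have h4 := Submodule.add_mem _ h3 h2
      rwa [sub_add_cancel] at h4
  have hker' : φ.ker = Ψ.ker := by
    ext z
    simp only [AddMonoidHom.mem_ker]
    exact hk z
  exact ⟨(QuotientAddGroup.quotientKerEquivOfSurjective φ hφs).symm.trans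
    ((QuotientAddGroup.quotientAddEquivOfEq hker').trans
      (QuotientAddGroup.quotientKerEquivOfSurjective Ψ hΨs))⟩

include hτt hkill hker hL hML in
/-- **For a complete module, the map to the inverse limit is bijective.** -/
theorem bijective_toLim [IsAdicComplete I H] (Φ : H →+ L)
    (hΦ : ∀ h n, (Φ h : ∀ n, M n) n = t n h) : Function.Bijective Φ := by
  constructor
  · rw [injective_iff_map_eq_zero]
    intro h hh
    apply IsHausdorff.haus (inferInstance : IsHausdorff I H)
    intro n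
    rw [SModEq.zero]
    have h1 : t (n + c) h = 0 := by
      rw [← hΦ, hh]
      rfl
    have h2 := hker (n + c) (Nat.le_add_left c n) h h1
    rwa [Nat.add_sub_cancel] at h2
  · rintro ⟨x, hx⟩
    obtain ⟨g, hg1, hg2⟩ := exists_cauchy I t τ hτt c hker L hL hML x hx
    have hg : ∀ {m n}, m ≤ n → g m ≡ g n [SMOD (I ^ m • ⊤ : Submodule A H)] :=
      (AdicCompletion.isAdicCauchy_iff I H g).mpr hg1
    obtain ⟨y, hy⟩ := IsPrecomplete.prec (inferInstance : IsPrecomplete I H) hg
    refine ⟨y, Subtype.ext (funext fun m => ?_)⟩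
    rw [hΦ]
    exact t_eq_of_smodEq I t τ hτt hkill c x ((hL x).mp hx) g hg2 y m (hy (m + 1)).symm

end E

end Groth.Agent.Lib.FormalFnH2
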