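import Mathlib
import Groth.Agent.Lib.FormalFnAlg_helper2
import Groth.Agent.Lib.FormalFnAlg2_helper2

/-!
# More algebra for the theorem on formal functions (helper2)

* `isBaseChange_of_isPushout`: base change along `R → R'` is base change along `A → P` when
  `R' = P ⊗[A] R`.
* `bijective_comp_of_presentation`: the quotient of `A[X] ⊗ G` by the relations `X_i w - τ_i w`
  is `G`.
* `inc_mem_of_gen`: the Artin--Rees type statement for the transition maps.
APPEND-ONLY once landed.
-/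

set_option autoImplicit false
open scoped BigOperators TensorProduct

namespace Groth.Agent.Lib.FormalFnH2

section BC

variable (A P R R' : Type*) [CommRing A] [CommRing P] [CommRing R] [CommRing R']
  [Algebra A P] [Algebra A R] [Algebra A R'] [Algebra R R'] [Algebra P R']
  [IsScalarTower A R R'] [IsScalarTower A P R'] [Algebra.IsPushout A P R R']
  {M N : Type*} [AddCommGroup M] [Module A M] [Module R M] [IsScalarTower A R M]
  [AddCommGroup N] [Module A N] [Module R N] [Module P N] [Module R' N]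
  [IsScalarTower A R N] [IsScalarTower R R' N] [IsScalarTower P R' N] [IsScalarTower A P N]

theorem isBaseChange_of_isPushout (c : M →ₗ[R] N) (hc : IsBaseChange R' c) :
    IsBaseChange P (c.restrictScalars A) := by
  let e₁ : R' ⊗[R] M ≃ₗ[P] P ⊗[A] M := Algebra.IsPushout.cancelBaseChange A P R R' M
  let e₂ : R' ⊗[R] M ≃ₗ[P] N := hc.equiv.restrictScalars P
  refine IsBaseChange.of_equiv (e₁.symm ≪≫ₗ e₂) (fun x => ?_)
  show e₂ (e₁.symm (1 ⊗ₜ x)) = c x
  have h1 : e₁.symm (1 ⊗ₜ x) = algebraMap P R' 1 ⊗ₜ x :=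
    Algebra.IsPushout.cancelBaseChange_symm_tmul A P R R' M 1 x
  rw [h1, map_one]
  show hc.equiv (1 ⊗ₜ x) = c x
  rw [hc.equiv_tmul, one_smul]

end BC

section PR

variable {A : Type*} [CommRing A] {σ : Type*} [Fintype σ]
  {G : Type*} [AddCommGroup G] [Module A G] (T : σ → G →ₗ[A] G)
  {G' : Type*} [AddCommGroup G'] [Module A G'] [Module (MvPolynomial σ A) G']
  [IsScalarTower A (MvPolynomial σ A) G']
  (c : G →ₗ[A] G') (τ : σ → G' →ₗ[MvPolynomial σ A] G')
  {Q : Type*} [AddCommGroup Q] [Module (MvPolynomial σ A) Q] (π : G' →ₗ[MvPolynomial σ A] Q)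

include T in
theorem bijective_comp_of_presentation (hT : ∀ i j, T i ∘ₗ T j = T j ∘ₗ T i)
    (hτ : ∀ i g, τ i (c g) = c (T i g))
    (hbc : IsBaseChange (MvPolynomial σ A) c) (hπ : Function.Surjective π)
    (h1 : ∀ i w, π ((MvPolynomial.X i : MvPolynomial σ A) • w - τ i w) = 0)
    (h2 : ∀ w, π w = 0 → ∃ z : σ → G', w = ∑ i, ((MvPolynomial.X i : MvPolynomial σ A) • z i - τ i (z i))) :
    Function.Bijective (fun g => π (c g)) := by
  have hle : relSub τ ≤ LinearMap.ker π := by
    apply Submodule.span_le.mpr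
    rintro _ ⟨i, w', rfl⟩
    exact h1 i w'
  constructor
  · intro g g' hgg'
    have h3 : π (c (g - g')) = 0 := by
      rw [map_sub, map_sub]
      exact sub_eq_zero.mpr hgg'
    obtain ⟨z, hz⟩ := h2 _ h3
    have h4 : c (g - g') ∈ relSub τ := by
      rw [hz]
      exact Submodule.sum_mem _ (fun i _ => Submodule.subset_span ⟨i, z i, rfl⟩)
    exact sub_eq_zero.mp (eq_zero_of_mem_relSub T c τ hT hτ hbc _ h4)
  · intro q
    obtain ⟨w, rfl⟩ := hπ q
    obtain ⟨g, hg⟩ := exists_sub_mem_relSub T c τ hτ hbc w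
    refine ⟨g, ?_⟩
    have h3 := hle hg
    rw [LinearMap.mem_ker, map_sub, sub_eq_zero] at h3
    exact h3.symm

end PR

section D2

variable {A : Type*} [CommRing A] (I : Ideal A) {σ : Type*} [Fintype σ] (a : σ → A)
  (ha : ∀ i, a i ∈ I)
  {K : ℕ → Type*} [∀ n, AddCommGroup (K n)] [∀ n, Module A (K n)]
  (μ : σ → ∀ n, K n →ₗ[A] K (n + 1))

include ha in
theorem inc_mem_of_gen
    (inc : ∀ {n k : ℕ}, n ≤ k → K k →ₗ[A] K n)
    (inc_refl : ∀ n (y : K n), inc (le_refl n) y = y)
    (inc_trans : ∀ {n m k : ℕ} (h₁ : n ≤ m) (h₂ : m ≤ k) (y : K k),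
      inc h₁ (inc h₂ y) = inc (h₁.trans h₂) y)
    (hincμ : ∀ i n y, inc (Nat.le_succ n) (μ i n y) = a i • y)
    (d : ℕ) (hgen : ∀ n, d ≤ n → ∀ y : K (n + 1), ∃ f : σ → K n, y = ∑ i, μ i n (f i)) :
    ∀ n, d ≤ n → ∀ k (h : n ≤ k), ∀ y : K k,
      inc h y ∈ I ^ (k - n) • (⊤ : Submodule A (K n)) := by
  intro n hdn k h
  induction k, h using Nat.le_induction with
  | base =>
    intro y
    rw [inc_refl, Nat.sub_self, pow_zero, Ideal.one_eq_top, Submodule.top_smul]
    exact Submodule.mem_top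
  | succ k hk ih =>
    intro y
    obtain ⟨f, rfl⟩ := hgen k (hdn.trans hk) y
    rw [map_sum]
    refine Submodule.sum_mem _ (fun i _ => ?_)
    rw [← inc_trans hk (Nat.le_succ k), hincμ, map_smul, Nat.succ_sub hk, pow_succ',
      Submodule.mul_smul]
    exact Submodule.smul_mem_smul (ha i) (ih _)

/-- a linear map sends `J • ⊤` into `J • ⊤` -/
theorem map_mem_smul_top {M N : Type*} [AddCommGroup M] [Module A M] [AddCommGroup N] [Module A N]
    (f : M →ₗ[A] N) (J : Ideal A) (x : M) (hx : x ∈ J • (⊤ : Submodule A M)) :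
    f x ∈ J • (⊤ : Submodule A N) := by
  have h1 : Submodule.map f (J • (⊤ : Submodule A M)) ≤ J • (⊤ : Submodule A N) := by
    rw [Submodule.map_smul'']
    exact Submodule.smul_mono le_rfl le_top
  exact h1 ⟨x, hx, rfl⟩

end D2

end Groth.Agent.Lib.FormalFnH2
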