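import Mathlib
import Groth.Prelude

set_option autoImplicit false
set_option linter.style.haveILetI false
set_option linter.unusedVariables false

universe u

open CategoryTheory AlgebraicGeometry TopologicalSpace Opposite

namespace Groth.Agent.Lib.FormalModPowH4

open Limits Formal

variable {A : Type u} [CommRing A] {X : Scheme.{u}} [X.Over (Spec (CommRingCat.of A))]

/-- restriction of the global function attached to `a` -/
noncomputable def rU (a : A) (U : X.Opens) : Γ(X, U) :=
  Coh.resTop X (op U) (Coh.toGlobal (X ↘ Spec (CommRingCat.of A)) a)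

theorem rU_mul (a b : A) (U : X.Opens) : rU (X := X) (a * b) U = rU a U * rU b U := by
  unfold rU
  rw [map_mul, map_mul]
  rfl

theorem rU_one (U : X.Opens) : rU (X := X) (1 : A) U = 1 := by
  unfold rU
  rw [map_one, map_one]
  rfl

theorem smulMod_app (M : X.Modules) (a : A) (U : X.Opens) (x : Γ(M, U)) :
    (Formal.smulMod A M a).app U x = rU a U • x := rfl

theorem smulMod_naturality {M N : X.Modules} (g : M ⟶ N) (a : A) :
    Formal.smulMod A M a ≫ g = g ≫ Formal.smulMod A N a := by
  refine Scheme.Modules.hom_ext _ _ (fun U => ?_)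
  ext x
  show g.app U ((Formal.smulMod A M a).app U x) = (Formal.smulMod A N a).app U (g.app U x)
  rw [smulMod_app, smulMod_app, Scheme.Modules.Hom.app_smul]

theorem smulMod_mul (M : X.Modules) (a b : A) :
    Formal.smulMod A M (a * b) = Formal.smulMod A M b ≫ Formal.smulMod A M a := by
  refine Scheme.Modules.hom_ext _ _ (fun U => ?_)
  ext x
  show (Formal.smulMod A M (a * b)).app U x =
    (Formal.smulMod A M a).app U ((Formal.smulMod A M b).app U x)
  rw [smulMod_app, smulMod_app, smulMod_app, rU_mul, mul_smul]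

theorem smulMod_one (M : X.Modules) : Formal.smulMod A M (1 : A) = 𝟙 M := by
  refine Scheme.Modules.hom_ext _ _ (fun U => ?_)
  ext x
  show (Formal.smulMod A M (1 : A)).app U x = x
  rw [smulMod_app, rU_one, one_smul]

variable {F : X.Modules} (f : A)

theorem mono_pow (hF : Mono (Formal.smulMod A F f)) (k : ℕ) :
    Mono (Formal.smulMod A F (f ^ k)) := by
  induction k with
  | zero => rw [pow_zero, smulMod_one]; infer_instance
  | succ k ih =>
    rw [pow_succ, smulMod_mul]
    exact mono_comp _ _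

theorem family_comp_eq_zero (n : ℕ) {T : X.Modules} (g : F ⟶ T)
    (hg : Formal.smulMod A F (f ^ n) ≫ g = 0) :
    Formal.smulFamily ((Ideal.span ({f} : Set A)) ^ n) F ≫ g = 0 := by
  apply Sigma.hom_ext
  intro a
  obtain ⟨c, hc⟩ : ∃ c, c * f ^ n = (a : A) := by
    have : (a : A) ∈ Ideal.span ({f ^ n} : Set A) := by
      rw [← Ideal.span_singleton_pow]; exact a.2
    exact Ideal.mem_span_singleton'.1 this
  have h1 : Sigma.ι (fun _ : ((Ideal.span ({f} : Set A)) ^ n : Ideal A) => F) a ≫
      Formal.smulFamily ((Ideal.span ({f} : Set A)) ^ n) F = Formal.smulMod A F (a : A) := by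
    unfold Formal.smulFamily
    exact Sigma.ι_desc _ _
  rw [comp_zero, ← Category.assoc, h1, ← hc, smulMod_mul, Category.assoc, smulMod_naturality g c,
    ← Category.assoc, hg, zero_comp]

/-- maps out of `F / f^n F` -/
noncomputable def descPow (n : ℕ) {T : X.Modules} (g : F ⟶ T)
    (hg : Formal.smulMod A F (f ^ n) ≫ g = 0) :
    Formal.modPow (Ideal.span ({f} : Set A)) n F ⟶ T :=
  cokernel.desc _ g (family_comp_eq_zero f n g hg)

theorem π_descPow (n : ℕ) {T : X.Modules} (g : F ⟶ T)
    (hg : Formal.smulMod A F (f ^ n) ≫ g = 0) :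
    Formal.modPowπ (Ideal.span ({f} : Set A)) n F ≫ descPow f n g hg = g :=
  cokernel.π_desc _ _ _

theorem pow_comp_π (n : ℕ) :
    Formal.smulMod A F (f ^ n) ≫ Formal.modPowπ (Ideal.span ({f} : Set A)) n F = 0 := by
  have hmem : f ^ n ∈ (Ideal.span ({f} : Set A)) ^ n :=
    Ideal.pow_mem_pow (Ideal.mem_span_singleton_self f) n
  have h1 : Sigma.ι (fun _ : ((Ideal.span ({f} : Set A)) ^ n : Ideal A) => F) ⟨f ^ n, hmem⟩ ≫
      Formal.smulFamily ((Ideal.span ({f} : Set A)) ^ n) F = Formal.smulMod A F (f ^ n) := by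
    unfold Formal.smulFamily
    exact Sigma.ι_desc _ _
  have h2 : Formal.smulFamily ((Ideal.span ({f} : Set A)) ^ n) F ≫
      Formal.modPowπ (Ideal.span ({f} : Set A)) n F = 0 := cokernel.condition _
  rw [← h1, Category.assoc, h2, comp_zero]

theorem lift_of_comp_π (n : ℕ) (hm : Mono (Formal.smulMod A F (f ^ n))) {T : X.Modules}
    (y : T ⟶ F) (hy : y ≫ Formal.modPowπ (Ideal.span ({f} : Set A)) n F = 0) :
    ∃ r : T ⟶ F, r ≫ Formal.smulMod A F (f ^ n) = y := by
  have h0 : Formal.smulMod A F (f ^ n) ≫ cokernel.π (Formal.smulMod A F (f ^ n)) = 0 :=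
    cokernel.condition _
  have hd' := π_descPow f n (cokernel.π (Formal.smulMod A F (f ^ n))) h0
  have h1 : y ≫ cokernel.π (Formal.smulMod A F (f ^ n)) = 0 := by
    rw [← hd', ← Category.assoc, hy, zero_comp]
  exact ⟨Abelian.monoLift _ y h1, Abelian.monoLift_comp _ y h1⟩

theorem main (A : Type u) [CommRing A] (X : Scheme.{u}) [X.Over (Spec (CommRingCat.of A))] (f : A) (F : X.Modules) (hF : Mono (Formal.smulMod A F f)) (n : ℕ) (hn : 1 ≤ n) : ∃ i : Formal.modPow (Ideal.span ({f} : Set A)) 1 F ⟶ Formal.modPow (Ideal.span ({f} : Set A)) (n + 1) F, Mono i ∧ Formal2.modPowLE (Ideal.span ({f} : Set A)) (Nat.le_add_left 1 n) F ≫ i = Formal.smulMod A (Formal.modPow (Ideal.span ({f} : Set A)) (n + 1) F) (f ^ n) ∧ ∃ w : i ≫ Formal.modPowTrans (Ideal.span ({f} : Set A)) n F = 0, (ShortComplex.mk i (Formal.modPowTrans (Ideal.span ({f} : Set A)) n F) w).ShortExact := by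
  have hm : ∀ k, Mono (Formal.smulMod A F (f ^ k)) := mono_pow f hF
  have epi_π : ∀ k, Epi (Formal.modPowπ (Ideal.span ({f} : Set A)) k F) := fun k => by
    unfold Formal.modPowπ; exact coequalizer.π_epi
  have h2 : Formal.smulMod A F (f ^ (n + 1)) =
      Formal.smulMod A F (f ^ 1) ≫ Formal.smulMod A F (f ^ n) := by
    rw [pow_add, smulMod_mul]
  have hg : Formal.smulMod A F (f ^ 1) ≫ (Formal.smulMod A F (f ^ n) ≫
      Formal.modPowπ (Ideal.span ({f} : Set A)) (n + 1) F) = 0 := by
    rw [← Category.assoc, ← h2]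
    exact pow_comp_π f (n + 1)
  have hi := π_descPow f 1 (Formal.smulMod A F (f ^ n) ≫
      Formal.modPowπ (Ideal.span ({f} : Set A)) (n + 1) F) hg
  have hmono : Mono (descPow f 1 (Formal.smulMod A F (f ^ n) ≫
      Formal.modPowπ (Ideal.span ({f} : Set A)) (n + 1) F) hg) := by
    refine Preadditive.mono_of_cancel_zero _ (fun {T} g hg0 => ?_)
    haveI := epi_π 1
    obtain ⟨T', π, hπ, x, hx⟩ :=
      surjective_up_to_refinements_of_epi (Formal.modPowπ (Ideal.span ({f} : Set A)) 1 F) g
    have h1 : (x ≫ Formal.smulMod A F (f ^ n)) ≫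
        Formal.modPowπ (Ideal.span ({f} : Set A)) (n + 1) F = 0 := by
      rw [Category.assoc, ← hi, ← Category.assoc, ← hx, Category.assoc, hg0, comp_zero]
    obtain ⟨r, hr⟩ := lift_of_comp_π f (n + 1) (hm (n + 1)) _ h1
    rw [h2, ← Category.assoc] at hr
    haveI := hm n
    have h3 : r ≫ Formal.smulMod A F (f ^ 1) = x :=
      (cancel_mono (Formal.smulMod A F (f ^ n))).1 hr
    have h4 : x ≫ Formal.modPowπ (Ideal.span ({f} : Set A)) 1 F = 0 := by
      rw [← h3, Category.assoc, pow_comp_π, comp_zero]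
    haveI := hπ
    exact (cancel_epi π).1 (by rw [hx, h4, comp_zero])
  refine ⟨descPow f 1 (Formal.smulMod A F (f ^ n) ≫
      Formal.modPowπ (Ideal.span ({f} : Set A)) (n + 1) F) hg, hmono, ?_, ?_⟩
  · haveI := epi_π (n + 1)
    refine (cancel_epi (Formal.modPowπ (Ideal.span ({f} : Set A)) (n + 1) F)).1 ?_
    rw [← Category.assoc, Formal2.modPowπ_modPowLE, hi, smulMod_naturality]
  · have w : descPow f 1 (Formal.smulMod A F (f ^ n) ≫
        Formal.modPowπ (Ideal.span ({f} : Set A)) (n + 1) F) hg ≫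
        Formal.modPowTrans (Ideal.span ({f} : Set A)) n F = 0 := by
      haveI := epi_π 1
      refine (cancel_epi (Formal.modPowπ (Ideal.span ({f} : Set A)) 1 F)).1 ?_
      rw [← Category.assoc, hi, Category.assoc, Formal.modPowπ_trans, pow_comp_π, comp_zero]
    refine ⟨w, ?_⟩
    haveI : Epi (Formal.modPowTrans (Ideal.span ({f} : Set A)) n F) := by
      haveI := epi_π n
      exact epi_of_epi_fac (Formal.modPowπ_trans (Ideal.span ({f} : Set A)) n F)
    refine { exact := ?_, mono_f := hmono, epi_g := ‹_› }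
    rw [ShortComplex.exact_iff_exact_up_to_refinements]
    intro T x₂ hx₂
    have hx₂' : x₂ ≫ Formal.modPowTrans (Ideal.span ({f} : Set A)) n F = 0 := hx₂
    haveI := epi_π (n + 1)
    obtain ⟨T', π, hπ, y, hy⟩ :=
      surjective_up_to_refinements_of_epi
        (Formal.modPowπ (Ideal.span ({f} : Set A)) (n + 1) F) x₂
    have h1 : y ≫ Formal.modPowπ (Ideal.span ({f} : Set A)) n F = 0 := by
      rw [← Formal.modPowπ_trans, ← Category.assoc, ← hy, Category.assoc, hx₂', comp_zero]
    obtain ⟨r, hr⟩ := lift_of_comp_π f n (hm n) y h1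
    refine ⟨T', π, hπ, r ≫ Formal.modPowπ (Ideal.span ({f} : Set A)) 1 F, ?_⟩
    show π ≫ x₂ = (r ≫ Formal.modPowπ (Ideal.span ({f} : Set A)) 1 F) ≫
      descPow f 1 (Formal.smulMod A F (f ^ n) ≫
        Formal.modPowπ (Ideal.span ({f} : Set A)) (n + 1) F) hg
    rw [Category.assoc, hi, ← Category.assoc, hr, hy]

end Groth.Agent.Lib.FormalModPowH4
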