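import Groth.Agent.Lib.Desc1_helper8
import Groth.Agent.Lib.PB10_helper8

/-!
# Faithfully flat descent of properties of module morphisms, at a point (helper8)
-/

universe u

open CategoryTheory CategoryTheory.Limits AlgebraicGeometry Opposite TopologicalSpace TensorProduct

namespace DescH8

section Alg

variable {A B : Type*} [CommRing A] [CommRing B] [Algebra A B]
  {M N M' N' : Type*} [AddCommGroup M] [Module A M] [AddCommGroup N] [Module A N]
  [AddCommGroup M'] [Module A M'] [Module B M'] [IsScalarTower A B M']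
  [AddCommGroup N'] [Module A N'] [Module B N'] [IsScalarTower A B N']
  {cM : M →ₗ[A] M'} (hM : IsBaseChange B cM) {cN : N →ₗ[A] N'} (hN : IsBaseChange B cN)
  (φ : M →ₗ[A] N) (φ' : M' →ₗ[B] N') (hcomm : ∀ m, φ' (cM m) = cN (φ m))

include hcomm in
theorem comp_equiv_eq (t : B ⊗[A] M) : φ' (hM.equiv t) = hN.equiv (φ.baseChange B t) := by
  induction t using TensorProduct.induction_on with
  | zero => simp
  | tmul b m =>
    rw [IsBaseChange.equiv_tmul, map_smul, hcomm, LinearMap.baseChange_tmul,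
      IsBaseChange.equiv_tmul]
  | add a b ha hb => rw [map_add, map_add, ha, hb, map_add, map_add]

include hcomm hM hN in
theorem injective_iff_of_isBaseChange [Module.FaithfullyFlat A B] :
    Function.Injective φ' ↔ Function.Injective φ := by
  rw [← Module.FaithfullyFlat.lTensor_injective_iff_injective A B φ]
  have h1 : ∀ t, φ' (hM.equiv t) = hN.equiv (φ.lTensor B t) := fun t => by
    rw [comp_equiv_eq hM hN φ φ' hcomm t, LinearMap.baseChange_eq_ltensor]
  constructor
  · intro h a b hab
    apply hM.equiv.injective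
    apply h
    rw [h1, h1, hab]
  · intro h a b hab
    obtain ⟨a, rfl⟩ := hM.equiv.surjective a
    obtain ⟨b, rfl⟩ := hM.equiv.surjective b
    rw [h1, h1] at hab
    rw [h (hN.equiv.injective hab)]

include hcomm hM hN in
theorem surjective_iff_of_isBaseChange [Module.FaithfullyFlat A B] :
    Function.Surjective φ' ↔ Function.Surjective φ := by
  rw [← Module.FaithfullyFlat.lTensor_surjective_iff_surjective A B φ]
  have h1 : ∀ t, φ' (hM.equiv t) = hN.equiv (φ.lTensor B t) := fun t => by
    rw [comp_equiv_eq hM hN φ φ' hcomm t, LinearMap.baseChange_eq_ltensor]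
  constructor
  · intro h y
    obtain ⟨x, hx⟩ := h (hN.equiv y)
    obtain ⟨t, rfl⟩ := hM.equiv.surjective x
    refine ⟨t, hN.equiv.injective ?_⟩
    rw [← h1, hx]
  · intro h y
    obtain ⟨y, rfl⟩ := hN.equiv.surjective y
    obtain ⟨t, rfl⟩ := h y
    exact ⟨hM.equiv t, h1 t⟩

include hcomm hM hN in
theorem zero_iff_of_isBaseChange [Module.FaithfullyFlat A B] :
    (∀ m', φ' m' = 0) ↔ ∀ m, φ m = 0 := by
  have h1 : ∀ t, φ' (hM.equiv t) = hN.equiv (φ.lTensor B t) := fun t => by
    rw [comp_equiv_eq hM hN φ φ' hcomm t, LinearMap.baseChange_eq_ltensor]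
  constructor
  · intro h
    have h2 : φ.lTensor B = 0 := by
      refine LinearMap.ext (fun t => ?_)
      apply hN.equiv.injective
      rw [← h1, h, LinearMap.zero_apply, map_zero]
    have h3 := (Module.FaithfullyFlat.zero_iff_lTensor_zero A B φ).2 h2
    intro m
    rw [h3, LinearMap.zero_apply]
  · intro h m'
    obtain ⟨t, rfl⟩ := hM.equiv.surjective m'
    have h3 : φ = 0 := LinearMap.ext h
    rw [h1, h3, LinearMap.lTensor_zero, LinearMap.zero_apply, map_zero]

end Alg

section Geom

theorem stk_smul {X : Scheme.{u}} {F G : X.Modules} (u : F ⟶ G) (x : X)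
    (r : X.presheaf.stalk x) (t : F.presheaf.stalk x) : stk u x (r • t) = r • stk u x t := by
  obtain ⟨V₁, hxV₁, r₁, rfl⟩ := TopCat.Presheaf.exists_germ_eq (F := X.presheaf) r
  obtain ⟨V₂, hxV₂, m₂, rfl⟩ := TopCat.Presheaf.exists_germ_eq (F := F.presheaf) t
  obtain ⟨W, hW⟩ : ∃ W : X.Opens, W = V₁ ⊓ V₂ := ⟨_, rfl⟩
  have hxW : x ∈ W := hW ▸ ⟨hxV₁, hxV₂⟩
  have hW1 : W ≤ V₁ := hW ▸ inf_le_left
  have hW2 : W ≤ V₂ := hW ▸ inf_le_right
  have e1 : X.presheaf.germ V₁ x hxV₁ r₁ =
      X.presheaf.germ W x hxW (X.presheaf.map (homOfLE hW1).op r₁) :=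
    (TopCat.Presheaf.germ_res_apply X.presheaf (homOfLE hW1) x hxW r₁).symm
  have e2 : F.presheaf.germ V₂ x hxV₂ m₂ =
      F.presheaf.germ W x hxW (F.presheaf.map (homOfLE hW2).op m₂) :=
    (TopCat.Presheaf.germ_res_apply F.presheaf (homOfLE hW2) x hxW m₂).symm
  rw [e1, e2, ← Groth.Agent.Lib.QCohLoc_helper4.germ_smul F W x hxW, stk_germ, stk_germ,
    Scheme.Modules.Hom.app_smul, Groth.Agent.Lib.QCohLoc_helper4.germ_smul G W x hxW]

variable {X Y : Scheme.{u}} (f : X ⟶ Y) {F G : Y.Modules} (u : F ⟶ G)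

theorem cStalkHom_naturality (x : X) (m : F.presheaf.stalk (f x)) :
    PBH8.cStalkHom f G x (stk u (f x) m) =
      stk ((Scheme.Modules.pullback f).map u) x (PBH8.cStalkHom f F x m) := by
  obtain ⟨V, hx, s, rfl⟩ := TopCat.Presheaf.exists_germ_eq (F := F.presheaf) m
  rw [stk_germ, PBH8.cStalkHom_germ, PBH8.cStalkHom_germ]
  erw [stk_germ]
  congr 1
  have h1 := (Scheme.Modules.pullbackPushforwardAdjunction f).unit.naturality u
  exact congrArg (fun ψ => (Scheme.Modules.Hom.app ψ V) s) h1

variable [F.IsQuasicoherent] [G.IsQuasicoherent]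

/-- **Descent at a point**: if `f` is flat at `x`, the stalk of `u` at `f x` is
injective/surjective/zero iff the stalk of `f^* u` at `x` is. -/
theorem descent_at (x : X) (hfl : (f.stalkMap x).hom.Flat) :
    (Function.Injective (stk ((Scheme.Modules.pullback f).map u) x) ↔
      Function.Injective (stk u (f x))) ∧
    (Function.Surjective (stk ((Scheme.Modules.pullback f).map u) x) ↔
      Function.Surjective (stk u (f x))) ∧
    ((∀ t, stk ((Scheme.Modules.pullback f).map u) x t = 0) ↔ ∀ t, stk u (f x) t = 0) := by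
  letI := (f.stalkMap x).hom.toAlgebra
  letI : Module (Y.presheaf.stalk (f x))
      (((Scheme.Modules.pullback f).obj F).presheaf.stalk x) :=
    Module.compHom _ (f.stalkMap x).hom
  haveI : IsScalarTower (Y.presheaf.stalk (f x)) (X.presheaf.stalk x)
      (((Scheme.Modules.pullback f).obj F).presheaf.stalk x) :=
    IsScalarTower.of_algebraMap_smul fun _ _ => rfl
  letI : Module (Y.presheaf.stalk (f x))
      (((Scheme.Modules.pullback f).obj G).presheaf.stalk x) :=
    Module.compHom _ (f.stalkMap x).hom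
  haveI : IsScalarTower (Y.presheaf.stalk (f x)) (X.presheaf.stalk x)
      (((Scheme.Modules.pullback f).obj G).presheaf.stalk x) :=
    IsScalarTower.of_algebraMap_smul fun _ _ => rfl
  have hM := PBH8.isBaseChange_cStalk f F x
  have hN := PBH8.isBaseChange_cStalk f G x
  haveI : Module.Flat (Y.presheaf.stalk (f x)) (X.presheaf.stalk x) := hfl
  haveI : IsLocalHom (algebraMap (Y.presheaf.stalk (f x)) (X.presheaf.stalk x)) :=
    inferInstanceAs (IsLocalHom (f.stalkMap x).hom)
  haveI : Module.FaithfullyFlat (Y.presheaf.stalk (f x)) (X.presheaf.stalk x) :=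
    Module.FaithfullyFlat.of_flat_of_isLocalHom
  obtain ⟨φ, hφ⟩ : ∃ φ : F.presheaf.stalk (f x) →ₗ[Y.presheaf.stalk (f x)]
      G.presheaf.stalk (f x), ∀ m, φ m = stk u (f x) m :=
    ⟨{ toFun := stk u (f x)
       map_add' := fun a b => map_add _ a b
       map_smul' := fun r m => stk_smul u (f x) r m }, fun _ => rfl⟩
  obtain ⟨φ', hφ'⟩ : ∃ φ' : ((Scheme.Modules.pullback f).obj F).presheaf.stalk x →ₗ[X.presheaf.stalk x]
      ((Scheme.Modules.pullback f).obj G).presheaf.stalk x,
      ∀ m, φ' m = stk ((Scheme.Modules.pullback f).map u) x m :=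
    ⟨{ toFun := stk ((Scheme.Modules.pullback f).map u) x
       map_add' := fun a b => map_add _ a b
       map_smul' := fun r m => stk_smul _ x r m }, fun _ => rfl⟩
  have hcomm : ∀ m, φ' (PBH8.cStalkLin f F x m) = PBH8.cStalkLin f G x (φ m) := fun m => by
    rw [hφ', hφ, PBH8.cStalkLin_apply, PBH8.cStalkLin_apply, cStalkHom_naturality]
  have e1 : (stk ((Scheme.Modules.pullback f).map u) x : _ → _) = φ' := funext fun m => (hφ' m).symm
  have e2 : (stk u (f x) : _ → _) = φ := funext fun m => (hφ m).symm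
  refine ⟨?_, ?_, ?_⟩
  · rw [e1, e2]; exact injective_iff_of_isBaseChange hM hN φ φ' hcomm
  · rw [e1, e2]; exact surjective_iff_of_isBaseChange hM hN φ φ' hcomm
  · have := zero_iff_of_isBaseChange hM hN φ φ' hcomm
    simp only [hφ, hφ'] at this
    exact this

end Geom

end DescH8
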