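import Groth.Agent.Lib.PB8_helper8
import Groth.Agent.Lib.SerreFT2_helper9
import Groth.Agent.Lib.Desc2_helper8
import Groth.Agent.Lib.QCohCrit2_helper9

/-!
# Dictionary between pulled-back module morphisms and base-changed linear maps (helper2)

For `f : X ⟶ Y`, affine opens `U ⊆ X`, `V ⊆ Y` with `f(U) ⊆ V`, and quasi-coherent `F`, `G` on
`Y` with `φ : F ⟶ G`, the map `(f^*φ)(U)` is the base change of `φ(V)` along `Γ(Y,V) → Γ(X,U)`.
Also: criteria for equality / epimorphy of morphisms of quasi-coherent modules on an affine cover.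
APPEND-ONLY once landed.
-/

set_option autoImplicit false
set_option maxHeartbeats 1000000
set_option linter.style.haveILetI false
set_option linter.unusedSectionVars false
set_option linter.unusedVariables false
universe u

open CategoryTheory CategoryTheory.Limits AlgebraicGeometry TopologicalSpace Opposite TensorProduct

namespace Groth.Agent.Lib.LimMod

section Dict

variable {X Y : Scheme.{u}} (f : X ⟶ Y) {U : X.Opens} {V : Y.Opens} (h : U ≤ f ⁻¹ᵁ V)
  (hU : IsAffineOpen U) (hV : IsAffineOpen V)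

include hU hV in
/-- **Dictionary**: `(f^*φ)(U)` is the base change of `φ(V)`. -/
theorem dict_lTensor {F G : Y.Modules} [F.IsQuasicoherent] [G.IsQuasicoherent] (φ : F ⟶ G) :
    letI := (f.appLE V U h).hom.toAlgebra
    letI : Module Γ(Y, V) Γ((Scheme.Modules.pullback f).obj F, U) :=
      Module.compHom _ (f.appLE V U h).hom
    letI : Module Γ(Y, V) Γ((Scheme.Modules.pullback f).obj G, U) :=
      Module.compHom _ (f.appLE V U h).hom
    haveI : IsScalarTower Γ(Y, V) Γ(X, U) Γ((Scheme.Modules.pullback f).obj F, U) :=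
      IsScalarTower.of_algebraMap_smul fun _ _ => rfl
    haveI : IsScalarTower Γ(Y, V) Γ(X, U) Γ((Scheme.Modules.pullback f).obj G, U) :=
      IsScalarTower.of_algebraMap_smul fun _ _ => rfl
    ∀ x : Γ(X, U) ⊗[Γ(Y, V)] Γ(F, V),
      (PBH8.isBaseChange_cUV f G h hU hV).equiv ((SerreFT.apL φ V).lTensor Γ(X, U) x) =
        ((Scheme.Modules.pullback f).map φ).app U
          ((PBH8.isBaseChange_cUV f F h hU hV).equiv x) := by
  letI := (f.appLE V U h).hom.toAlgebra
  letI : Module Γ(Y, V) Γ((Scheme.Modules.pullback f).obj F, U) :=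
    Module.compHom _ (f.appLE V U h).hom
  letI : Module Γ(Y, V) Γ((Scheme.Modules.pullback f).obj G, U) :=
    Module.compHom _ (f.appLE V U h).hom
  haveI : IsScalarTower Γ(Y, V) Γ(X, U) Γ((Scheme.Modules.pullback f).obj F, U) :=
    IsScalarTower.of_algebraMap_smul fun _ _ => rfl
  haveI : IsScalarTower Γ(Y, V) Γ(X, U) Γ((Scheme.Modules.pullback f).obj G, U) :=
    IsScalarTower.of_algebraMap_smul fun _ _ => rfl
  intro x
  induction x with
  | zero => rw [map_zero, map_zero, map_zero, map_zero]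
  | tmul r m =>
    rw [LinearMap.lTensor_tmul, IsBaseChange.equiv_tmul, IsBaseChange.equiv_tmul,
      PBH8.cUVLin_apply, PBH8.cUVLin_apply, SerreFT.apL_apply, Scheme.Modules.Hom.app_smul,
      PBH8.cUV_naturality]
  | add x y hx hy => rw [map_add, map_add, map_add, map_add, hx, hy]

include hU hV in
/-- Surjectivity of `(f^*φ)(U)` is surjectivity of the base change of `φ(V)`. -/
theorem app_surjective_iff {F G : Y.Modules} [F.IsQuasicoherent] [G.IsQuasicoherent]
    (φ : F ⟶ G) :
    letI := (f.appLE V U h).hom.toAlgebra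
    Function.Surjective (((Scheme.Modules.pullback f).map φ).app U) ↔
      Function.Surjective ((SerreFT.apL φ V).lTensor Γ(X, U)) := by
  letI := (f.appLE V U h).hom.toAlgebra
  letI : Module Γ(Y, V) Γ((Scheme.Modules.pullback f).obj F, U) :=
    Module.compHom _ (f.appLE V U h).hom
  letI : Module Γ(Y, V) Γ((Scheme.Modules.pullback f).obj G, U) :=
    Module.compHom _ (f.appLE V U h).hom
  haveI : IsScalarTower Γ(Y, V) Γ(X, U) Γ((Scheme.Modules.pullback f).obj F, U) :=
    IsScalarTower.of_algebraMap_smul fun _ _ => rfl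
  haveI : IsScalarTower Γ(Y, V) Γ(X, U) Γ((Scheme.Modules.pullback f).obj G, U) :=
    IsScalarTower.of_algebraMap_smul fun _ _ => rfl
  have key := dict_lTensor f h hU hV φ
  set eF := (PBH8.isBaseChange_cUV f F h hU hV).equiv with heF
  set eG := (PBH8.isBaseChange_cUV f G h hU hV).equiv with heG
  constructor
  · intro hs y
    obtain ⟨s, hs'⟩ := hs (eG y)
    refine ⟨eF.symm s, ?_⟩
    apply eG.injective
    rw [key, eF.apply_symm_apply, hs']
  · intro hs t
    obtain ⟨x, hx⟩ := hs (eG.symm t)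
    refine ⟨eF x, ?_⟩
    rw [← key, hx, eG.apply_symm_apply]

include hU hV in
/-- Bijectivity of `(f^*φ)(U)` is bijectivity of the base change of `φ(V)`. -/
theorem app_bijective_iff {F G : Y.Modules} [F.IsQuasicoherent] [G.IsQuasicoherent]
    (φ : F ⟶ G) :
    letI := (f.appLE V U h).hom.toAlgebra
    Function.Bijective (((Scheme.Modules.pullback f).map φ).app U) ↔
      Function.Bijective ((SerreFT.apL φ V).lTensor Γ(X, U)) := by
  letI := (f.appLE V U h).hom.toAlgebra
  letI : Module Γ(Y, V) Γ((Scheme.Modules.pullback f).obj F, U) :=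
    Module.compHom _ (f.appLE V U h).hom
  letI : Module Γ(Y, V) Γ((Scheme.Modules.pullback f).obj G, U) :=
    Module.compHom _ (f.appLE V U h).hom
  haveI : IsScalarTower Γ(Y, V) Γ(X, U) Γ((Scheme.Modules.pullback f).obj F, U) :=
    IsScalarTower.of_algebraMap_smul fun _ _ => rfl
  haveI : IsScalarTower Γ(Y, V) Γ(X, U) Γ((Scheme.Modules.pullback f).obj G, U) :=
    IsScalarTower.of_algebraMap_smul fun _ _ => rfl
  have key := dict_lTensor f h hU hV φ
  set eF := (PBH8.isBaseChange_cUV f F h hU hV).equiv with heF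
  set eG := (PBH8.isBaseChange_cUV f G h hU hV).equiv with heG
  constructor
  · rintro ⟨hi, hs⟩
    refine ⟨fun x y hxy => ?_, fun y => ?_⟩
    · apply eF.injective
      apply hi
      rw [← key, ← key, hxy]
    · obtain ⟨s, hs'⟩ := hs (eG y)
      refine ⟨eF.symm s, ?_⟩
      apply eG.injective
      rw [key, eF.apply_symm_apply, hs']
  · rintro ⟨hi, hs⟩
    refine ⟨fun s t hst => ?_, fun t => ?_⟩
    · have h1 : eF.symm s = eF.symm t := by
        apply hi
        apply eG.injective
        rw [key, key, eF.apply_symm_apply, eF.apply_symm_apply, hst]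
      exact eF.symm.injective h1
    · obtain ⟨x, hx⟩ := hs (eG.symm t)
      refine ⟨eF x, ?_⟩
      rw [← key, hx, eG.apply_symm_apply]

include hU hV in
/-- Equality of `(f^*φ)(U)` and `(f^*ψ)(U)` in terms of the base change. -/
theorem app_eq_iff {F G : Y.Modules} [F.IsQuasicoherent] [G.IsQuasicoherent]
    (φ ψ : F ⟶ G) :
    letI := (f.appLE V U h).hom.toAlgebra
    (∀ s, ((Scheme.Modules.pullback f).map φ).app U s =
        ((Scheme.Modules.pullback f).map ψ).app U s) ↔
      ∀ m : Γ(F, V), (1 : Γ(X, U)) ⊗ₜ[Γ(Y, V)] (SerreFT.apL φ V m) =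
        (1 : Γ(X, U)) ⊗ₜ[Γ(Y, V)] (SerreFT.apL ψ V m) := by
  letI := (f.appLE V U h).hom.toAlgebra
  letI : Module Γ(Y, V) Γ((Scheme.Modules.pullback f).obj F, U) :=
    Module.compHom _ (f.appLE V U h).hom
  letI : Module Γ(Y, V) Γ((Scheme.Modules.pullback f).obj G, U) :=
    Module.compHom _ (f.appLE V U h).hom
  haveI : IsScalarTower Γ(Y, V) Γ(X, U) Γ((Scheme.Modules.pullback f).obj F, U) :=
    IsScalarTower.of_algebraMap_smul fun _ _ => rfl
  haveI : IsScalarTower Γ(Y, V) Γ(X, U) Γ((Scheme.Modules.pullback f).obj G, U) :=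
    IsScalarTower.of_algebraMap_smul fun _ _ => rfl
  set eG := (PBH8.isBaseChange_cUV f G h hU hV).equiv with heG
  have h1 : ∀ (χ : F ⟶ G) (m : Γ(F, V)), eG ((1 : Γ(X, U)) ⊗ₜ[Γ(Y, V)] (SerreFT.apL χ V m)) =
      ((Scheme.Modules.pullback f).map χ).app U (PBH8.cUV f F h m) := by
    intro χ m
    rw [heG, IsBaseChange.equiv_tmul, one_smul, PBH8.cUVLin_apply, SerreFT.apL_apply,
      PBH8.cUV_naturality]
  constructor
  · intro H m
    apply eG.injective
    rw [h1, h1, H]
  · intro H s
    have hs : s ∈ Submodule.span Γ(X, U) (Set.range (PBH8.cUV f F h)) := by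
      rw [PBH8.span_cUV f F hU hV h]
      trivial
    refine Submodule.span_induction (p := fun s _ =>
      ((Scheme.Modules.pullback f).map φ).app U s =
        ((Scheme.Modules.pullback f).map ψ).app U s) ?_ ?_ ?_ ?_ hs
    · rintro _ ⟨m, rfl⟩
      rw [← h1, ← h1, H]
    · rw [map_zero, map_zero]
    · intro a b _ _ ha hb
      rw [map_add, map_add, ha, hb]
    · intro r a _ ha
      rw [Scheme.Modules.Hom.app_smul, Scheme.Modules.Hom.app_smul, ha]

include hU hV in
/-- Projectivity of the base change gives projectivity of the sections of the pullback. -/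
theorem projective_sections (F : Y.Modules) [F.IsQuasicoherent] :
    letI := (f.appLE V U h).hom.toAlgebra
    Module.Projective Γ(X, U) (Γ(X, U) ⊗[Γ(Y, V)] Γ(F, V)) →
      Module.Projective Γ(X, U) Γ((Scheme.Modules.pullback f).obj F, U) := by
  letI := (f.appLE V U h).hom.toAlgebra
  letI : Module Γ(Y, V) Γ((Scheme.Modules.pullback f).obj F, U) :=
    Module.compHom _ (f.appLE V U h).hom
  haveI : IsScalarTower Γ(Y, V) Γ(X, U) Γ((Scheme.Modules.pullback f).obj F, U) :=
    IsScalarTower.of_algebraMap_smul fun _ _ => rfl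
  intro hP
  exact Module.Projective.of_equiv (PBH8.isBaseChange_cUV f F h hU hV).equiv

include hU hV in
/-- Flatness of the sections of the pullback gives flatness of the base change. -/
theorem flat_tensor (F : Y.Modules) [F.IsQuasicoherent] :
    letI := (f.appLE V U h).hom.toAlgebra
    Module.Flat Γ(X, U) Γ((Scheme.Modules.pullback f).obj F, U) →
      Module.Flat Γ(X, U) (Γ(X, U) ⊗[Γ(Y, V)] Γ(F, V)) := by
  letI := (f.appLE V U h).hom.toAlgebra
  letI : Module Γ(Y, V) Γ((Scheme.Modules.pullback f).obj F, U) :=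
    Module.compHom _ (f.appLE V U h).hom
  haveI : IsScalarTower Γ(Y, V) Γ(X, U) Γ((Scheme.Modules.pullback f).obj F, U) :=
    IsScalarTower.of_algebraMap_smul fun _ _ => rfl
  intro hP
  exact Module.Flat.of_linearEquiv (PBH8.isBaseChange_cUV f F h hU hV).equiv

end Dict

section Cover

variable {X : Scheme.{u}}

/-- A morphism out of a quasi-coherent module vanishing on the sections over an affine open cover
is zero. -/
theorem eq_zero_of_affine_cover {F G : X.Modules} [F.IsQuasicoherent] (u : F ⟶ G)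
    (H : ∀ x : X, ∃ U : X.Opens, IsAffineOpen U ∧ x ∈ U ∧ ∀ s : Γ(F, U), u.app U s = 0) :
    u = 0 := by
  refine DescH8.eq_zero_of_stk_eq_zero u (fun x z => ?_)
  obtain ⟨U, hU, hx, hU0⟩ := H x
  obtain ⟨g, t, hxg, hgt⟩ :=
    (Groth.Agent.Lib.QCohLoc_helper4.locOn_of_isQuasicoherent F hU).exists_germ_eq_smul hU hx z
  have hunit : IsUnit (X.presheaf.germ U x hx g) := (Scheme.mem_basicOpen _ _ _ hx).mp hxg
  obtain ⟨w, hw⟩ := hunit
  have hz : z = (↑w⁻¹ : X.presheaf.stalk x) • F.presheaf.germ U x hx t := by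
    rw [hgt, ← hw, smul_smul, Units.inv_mul, one_smul]
  rw [hz, DescH8.stk_smul, DescH8.stk_germ, hU0, map_zero, smul_zero]

/-- Two morphisms out of a quasi-coherent module agreeing on the sections over an affine open
cover are equal. -/
theorem hom_eq_of_affine_cover {F G : X.Modules} [F.IsQuasicoherent] (φ ψ : F ⟶ G)
    (H : ∀ x : X, ∃ U : X.Opens, IsAffineOpen U ∧ x ∈ U ∧
      ∀ s : Γ(F, U), φ.app U s = ψ.app U s) : φ = ψ := by
  rw [← sub_eq_zero]
  refine eq_zero_of_affine_cover (φ - ψ) (fun x => ?_)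
  obtain ⟨U, hU, hx, hU0⟩ := H x
  refine ⟨U, hU, hx, fun s => ?_⟩
  rw [Scheme.Modules.Hom.sub_app]
  change φ.app U s - ψ.app U s = 0
  rw [hU0, sub_self]

/-- A morphism to a quasi-coherent module which is surjective on the sections over an affine
open cover is an epimorphism. -/
theorem epi_of_affine_cover {F G : X.Modules} [G.IsQuasicoherent] (u : F ⟶ G)
    (H : ∀ x : X, ∃ U : X.Opens, IsAffineOpen U ∧ x ∈ U ∧ Function.Surjective (u.app U)) :
    Epi u := by
  refine DescH8.epi_of_stk_surjective u (fun x z => ?_)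
  obtain ⟨U, hU, hx, hUs⟩ := H x
  obtain ⟨g, t, hxg, hgt⟩ :=
    (Groth.Agent.Lib.QCohLoc_helper4.locOn_of_isQuasicoherent G hU).exists_germ_eq_smul hU hx z
  have hunit : IsUnit (X.presheaf.germ U x hx g) := (Scheme.mem_basicOpen _ _ _ hx).mp hxg
  obtain ⟨w, hw⟩ := hunit
  have hz : z = (↑w⁻¹ : X.presheaf.stalk x) • G.presheaf.germ U x hx t := by
    rw [hgt, ← hw, smul_smul, Units.inv_mul, one_smul]
  obtain ⟨m, rfl⟩ := hUs t
  refine ⟨(↑w⁻¹ : X.presheaf.stalk x) • F.presheaf.germ U x hx m, ?_⟩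
  rw [DescH8.stk_smul, DescH8.stk_germ, hz]

/-- A morphism of quasi-coherent modules which is bijective on the sections over an affine open
cover is an isomorphism. -/
theorem isIso_of_affine_cover {F G : X.Modules} [F.IsQuasicoherent] [G.IsQuasicoherent]
    (u : F ⟶ G)
    (H : ∀ x : X, ∃ U : X.Opens, IsAffineOpen U ∧ x ∈ U ∧ Function.Bijective (u.app U)) :
    IsIso u := by
  refine QCohCrit.isIso_of_bijective_on_cover u
    (ι := {U : X.Opens // IsAffineOpen U ∧ Function.Bijective (u.app U)}) (fun U => U.1)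
    (fun U => U.2.1) ?_ (fun U => U.2.2)
  rw [eq_top_iff]
  intro x _
  obtain ⟨U, hU, hx, hUb⟩ := H x
  exact Opens.mem_iSup.mpr ⟨⟨U, hU, hUb⟩, hx⟩

end Cover

end Groth.Agent.Lib.LimMod
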