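import Mathlib
import Groth.Prelude
import Groth.Agent.Lib.FormalModPow_helper4
import Groth.Agent.Lib.PB8_helper8
import Groth.Agent.Lib.AffBC2_helper8
import Groth.Agent.Lib.QCohCrit2_helper9
import Groth.Agent.Lib.QCohExact_helper9
import Groth.Agent.Lib.SubExt_helper9
import Groth.Agent.Lib.BMod2_helper6
import Groth.Agent.Lib.LimModDict_helper2
import Groth.Agent.Lib.FormalFnAlg3_helper2

/-!
# Modules on `X ×_A A[σ]` from modules on `X` with commuting endomorphisms (helper2)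

For `X` over `Spec A`, a quasi-coherent `O_X`-module `𝒢` with commuting endomorphisms `T i`
(`i : σ`, `σ` finite) we construct a quasi-coherent module `Gt` on `XP = X ×_A Spec A[σ]` with an
isomorphism `uu : 𝒢 ≅ ρ_* Gt` (`ρ : XP ⟶ X` the projection) under which `T i` corresponds to the
multiplication by the variable `X i`.
APPEND-ONLY once landed.
-/

set_option autoImplicit false
universe u

open CategoryTheory CategoryTheory.Limits AlgebraicGeometry TopologicalSpace Opposite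

namespace Groth.Agent.Lib.FormalFnH2

open Formal Groth.Agent.Lib.FormalModPowH4

section Cat

theorem sigma_total {C : Type*} [Category C] [Preadditive C] {σ : Type*} [Fintype σ]
    [DecidableEq σ] (f : σ → C) [HasCoproduct f] :
    ∑ i, Sigma.π f i ≫ Sigma.ι f i = 𝟙 (∐ f) := by
  apply Sigma.hom_ext
  intro j
  rw [Preadditive.comp_sum, Category.comp_id, Finset.sum_eq_single j]
  · rw [← Category.assoc, Sigma.ι_π_eq_id, Category.id_comp]
  · intro i _ hij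
    rw [← Category.assoc, Sigma.ι_π_of_ne f (Ne.symm hij), zero_comp]
  · intro h
    exact absurd (Finset.mem_univ j) h

/-- evaluation of morphisms of modules at a section, additively -/
noncomputable def evalHom {Y : Scheme.{u}} (M N : Y.Modules) (U : Y.Opens) (z : Γ(M, U)) :
    (M ⟶ N) →+ Γ(N, U) where
  toFun φ := φ.app U z
  map_zero' := rfl
  map_add' _ _ := rfl

theorem evalHom_apply {Y : Scheme.{u}} (M N : Y.Modules) (U : Y.Opens) (z : Γ(M, U))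
    (φ : M ⟶ N) : evalHom M N U z φ = φ.app U z := rfl

theorem cUV_self' {X Y : Scheme.{u}} (f : X ⟶ Y) (F : Y.Modules) (V : Y.Opens) (x : Γ(F, V)) :
    PBH8.cUV f F (le_refl (f ⁻¹ᵁ V)) x =
      ((Scheme.Modules.pullbackPushforwardAdjunction f).unit.app F).app V x := by
  unfold PBH8.cUV
  have h : (homOfLE (le_refl (f ⁻¹ᵁ V))) = 𝟙 _ := rfl
  rw [h, op_id, CategoryTheory.Functor.map_id]
  rfl

end Cat

section RU

variable {A : Type u} [CommRing A] {X : Scheme.{u}} [X.Over (Spec (CommRingCat.of A))]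

/-- the ring map `A → Γ(X, U)` -/
noncomputable def rUHom (U : X.Opens) : A →+* Γ(X, U) :=
  (Coh.resTop X (op U)).comp (Coh.toGlobal (X ↘ Spec (CommRingCat.of A)))

theorem rUHom_apply (U : X.Opens) (a : A) : rUHom U a = rU a U := rfl

theorem ofHom_rUHom (V : X.Opens) (h : V ≤ (X ↘ Spec (CommRingCat.of A)) ⁻¹ᵁ ⊤) :
    CommRingCat.ofHom (rUHom (A := A) V) =
      (Scheme.ΓSpecIso (CommRingCat.of A)).inv ≫
        (X ↘ Spec (CommRingCat.of A)).appLE ⊤ V h := by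
  ext a
  rfl

end RU

section Geo

variable (A : Type u) [CommRing A] (X : Scheme.{u}) [X.Over (Spec (CommRingCat.of A))]
  (σ : Type u)

/-- `Spec A[σ] ⟶ Spec A` -/
noncomputable def gC : Spec (CommRingCat.of (MvPolynomial σ A)) ⟶ Spec (CommRingCat.of A) :=
  Spec.map (CommRingCat.ofHom (MvPolynomial.C : A →+* MvPolynomial σ A))

/-- `X ×_A Spec A[σ]` -/
noncomputable def XP : Scheme.{u} := pullback (X ↘ Spec (CommRingCat.of A)) (gC A σ)

/-- the projection `X ×_A Spec A[σ] ⟶ X` -/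
noncomputable def rho : XP A X σ ⟶ X := pullback.fst _ _

/-- the projection `X ×_A Spec A[σ] ⟶ Spec A[σ]` -/
noncomputable def sndP : XP A X σ ⟶ Spec (CommRingCat.of (MvPolynomial σ A)) := pullback.snd _ _

noncomputable instance instOverXP :
    (XP A X σ).Over (Spec (CommRingCat.of (MvPolynomial σ A))) := ⟨sndP A X σ⟩

theorem isPullback_XP :
    IsPullback (rho A X σ) (sndP A X σ) (X ↘ Spec (CommRingCat.of A)) (gC A σ) :=
  IsPullback.of_hasPullback _ _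

instance isAffineHom_gC : IsAffineHom (gC A σ) := by
  unfold gC
  infer_instance

instance isAffineHom_rho : IsAffineHom (rho A X σ) :=
  MorphismProperty.pullback_fst (P := @IsAffineHom) _ _ (isAffineHom_gC A σ)

instance isProper_XP [IsProper (X ↘ Spec (CommRingCat.of A))] :
    IsProper (XP A X σ ↘ Spec (CommRingCat.of (MvPolynomial σ A))) :=
  inferInstanceAs (IsProper (pullback.snd (X ↘ Spec (CommRingCat.of A)) (gC A σ)))

theorem rho_comm :
    (Scheme.ΓSpecIso (CommRingCat.of A)).inv ≫ (X ↘ Spec (CommRingCat.of A)).appTop ≫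
        (rho A X σ).appTop =
      CommRingCat.ofHom (MvPolynomial.C : A →+* MvPolynomial σ A) ≫
        (Scheme.ΓSpecIso (CommRingCat.of (MvPolynomial σ A))).inv ≫ (sndP A X σ).appTop := by
  have h1 : (X ↘ Spec (CommRingCat.of A)).appTop ≫ (rho A X σ).appTop =
      (gC A σ).appTop ≫ (sndP A X σ).appTop := by
    rw [← Scheme.Hom.comp_appTop, ← Scheme.Hom.comp_appTop]
    exact congrArg Scheme.Hom.appTop (isPullback_XP A X σ).w
  have h2 : (Scheme.ΓSpecIso (CommRingCat.of A)).inv ≫ (gC A σ).appTop =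
      CommRingCat.ofHom (MvPolynomial.C : A →+* MvPolynomial σ A) ≫
        (Scheme.ΓSpecIso (CommRingCat.of (MvPolynomial σ A))).inv :=
    (Scheme.ΓSpecIso_inv_naturality
      (CommRingCat.ofHom (MvPolynomial.C : A →+* MvPolynomial σ A))).symm
  rw [h1, ← Category.assoc, h2, Category.assoc]

theorem rho_appTop_toGlobal (a : A) :
    (rho A X σ).appTop.hom (Coh.toGlobal (X ↘ Spec (CommRingCat.of A)) a) =
      Coh.toGlobal (sndP A X σ) (MvPolynomial.C a : MvPolynomial σ A) :=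
  congrArg (fun φ => φ.hom a) (rho_comm A X σ)

theorem rho_app_rU (a : A) (V : X.Opens) :
    ((rho A X σ).app V).hom (rU a V) =
      rU (MvPolynomial.C a : MvPolynomial σ A) ((rho A X σ) ⁻¹ᵁ V) := by
  have h1 := (rho A X σ).naturality (homOfLE (le_top : V ≤ ⊤)).op
  have h2 := congrArg (fun φ => φ.hom (Coh.toGlobal (X ↘ Spec (CommRingCat.of A)) a)) h1
  refine h2.trans ?_
  show ((XP A X σ).presheaf.map _).hom
    ((rho A X σ).appTop.hom (Coh.toGlobal (X ↘ Spec (CommRingCat.of A)) a)) = _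
  rw [rho_appTop_toGlobal]
  rfl

theorem push_smulMod (N : (XP A X σ).Modules) (a : A) :
    (Scheme.Modules.pushforward (rho A X σ)).map
        (Formal.smulMod (MvPolynomial σ A) N (MvPolynomial.C a)) =
      Formal.smulMod A ((Scheme.Modules.pushforward (rho A X σ)).obj N) a := by
  refine Scheme.Modules.hom_ext _ _ (fun V => ?_)
  ext x
  show (Formal.smulMod (MvPolynomial σ A) N (MvPolynomial.C a)).app ((rho A X σ) ⁻¹ᵁ V) x =
    (Formal.smulMod A ((Scheme.Modules.pushforward (rho A X σ)).obj N) a).app V x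
  rw [smulMod_app, smulMod_app, ← rho_app_rU]
  rfl

theorem isPushout_ring {V : X.Opens} (hV : IsAffineOpen V) :
    IsAffineOpen ((rho A X σ) ⁻¹ᵁ V) ∧
    IsPushout (CommRingCat.ofHom (rUHom (A := A) V))
      (CommRingCat.ofHom (MvPolynomial.C : A →+* MvPolynomial σ A))
      ((rho A X σ).appLE V ((rho A X σ) ⁻¹ᵁ V) (le_refl _))
      (CommRingCat.ofHom (rUHom (A := MvPolynomial σ A) ((rho A X σ) ⁻¹ᵁ V))) := by
  have hle : ∀ W : (XP A X σ).Opens, W ≤ (sndP A X σ) ⁻¹ᵁ ⊤ := fun W x _ => trivial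
  have hle' : ∀ W : X.Opens, W ≤ (X ↘ Spec (CommRingCat.of A)) ⁻¹ᵁ ⊤ := fun W x _ => trivial
  have hle'' : (⊤ : (Spec (CommRingCat.of (MvPolynomial σ A))).Opens) ≤ (gC A σ) ⁻¹ᵁ ⊤ :=
    fun x _ => trivial
  obtain ⟨h1, hpo⟩ := AffBCH8.affine_pushout' (isPullback_XP A X σ) (W := ⊤) (U := V) (W' := ⊤)
    (U' := (rho A X σ) ⁻¹ᵁ V) (isAffineOpen_top _) hV (isAffineOpen_top _) (hle' V) hle''
    (le_refl _) (hle _) (le_antisymm (le_inf le_rfl (hle _)) inf_le_left)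
  refine ⟨h1, ?_⟩
  refine hpo.of_iso (Scheme.ΓSpecIso (CommRingCat.of A)) (Iso.refl _)
    (Scheme.ΓSpecIso (CommRingCat.of (MvPolynomial σ A))) (Iso.refl _) ?_ ?_ ?_ ?_
  · rw [Iso.refl_hom, Category.comp_id, ofHom_rUHom V (hle' V), Iso.hom_inv_id_assoc]
  · have h3 : (gC A σ).appLE ⊤ ⊤ hle'' = (gC A σ).appTop := (gC A σ).appLE_eq_app
    rw [h3]
    exact Scheme.ΓSpecIso_naturality (CommRingCat.ofHom (MvPolynomial.C : A →+* MvPolynomial σ A))
  · rw [Iso.refl_hom, Iso.refl_hom, Category.comp_id, Category.id_comp]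
  · rw [Iso.refl_hom, Category.comp_id]
    have h4 := ofHom_rUHom (A := MvPolynomial σ A) (X := XP A X σ) ((rho A X σ) ⁻¹ᵁ V) (hle _)
    rw [h4, Iso.hom_inv_id_assoc]
    rfl

end Geo

section Mod

variable (A : Type u) [CommRing A] {X : Scheme.{u}} [X.Over (Spec (CommRingCat.of A))]
  (σ : Type u) (𝒢 : X.Modules) (T : σ → (𝒢 ⟶ 𝒢))

/-- the pullback of `𝒢` to `X ×_A Spec A[σ]` -/
noncomputable abbrev NN : (XP A X σ).Modules := (Scheme.Modules.pullback (rho A X σ)).obj 𝒢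

/-- the relation `X_i - T_i` -/
noncomputable def DDi (i : σ) : NN A σ 𝒢 ⟶ NN A σ 𝒢 :=
  Formal.smulMod (MvPolynomial σ A) (NN A σ 𝒢) (MvPolynomial.X i) -
    (Scheme.Modules.pullback (rho A X σ)).map (T i)

/-- all relations -/
noncomputable def DD : (∐ fun _ : σ => NN A σ 𝒢) ⟶ NN A σ 𝒢 := Sigma.desc (DDi A σ 𝒢 T)

/-- the module on `X ×_A Spec A[σ]` attached to `(𝒢, T)` -/
noncomputable def Gt : (XP A X σ).Modules := cokernel (DD A σ 𝒢 T)

/-- the projection -/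
noncomputable def Gtπ : NN A σ 𝒢 ⟶ Gt A σ 𝒢 T := cokernel.π (DD A σ 𝒢 T)

instance epi_Gtπ : Epi (Gtπ A σ 𝒢 T) := inferInstanceAs (Epi (cokernel.π (DD A σ 𝒢 T)))

theorem ι_DD (i : σ) : Sigma.ι (fun _ : σ => NN A σ 𝒢) i ≫ DD A σ 𝒢 T = DDi A σ 𝒢 T i :=
  Sigma.ι_desc _ _

theorem DD_Gtπ : DD A σ 𝒢 T ≫ Gtπ A σ 𝒢 T = 0 := cokernel.condition _

theorem Gtπ_rel (i : σ) : DDi A σ 𝒢 T i ≫ Gtπ A σ 𝒢 T = 0 := by
  rw [← ι_DD, Category.assoc, DD_Gtπ, comp_zero]

theorem Gtπ_rel' (i : σ) :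
    (Scheme.Modules.pullback (rho A X σ)).map (T i) ≫ Gtπ A σ 𝒢 T =
      Formal.smulMod (MvPolynomial σ A) (NN A σ 𝒢) (MvPolynomial.X i) ≫ Gtπ A σ 𝒢 T := by
  have h := Gtπ_rel A σ 𝒢 T i
  unfold DDi at h
  rw [Preadditive.sub_comp, sub_eq_zero] at h
  exact h.symm

instance isQuasicoherent_Gt [𝒢.IsQuasicoherent] : (Gt A σ 𝒢 T).IsQuasicoherent := by
  haveI : (∐ fun _ : σ => NN A σ 𝒢).IsQuasicoherent :=
    Groth.Agent.Lib.BModH6.isQuasicoherent_sigma _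
  exact Groth.Agent.Lib.BModH6.isQuasicoherent_cokernel _

/-- the comparison map `𝒢 ⟶ ρ_* Gt` -/
noncomputable def uu : 𝒢 ⟶ (Scheme.Modules.pushforward (rho A X σ)).obj (Gt A σ 𝒢 T) :=
  (Scheme.Modules.pullbackPushforwardAdjunction (rho A X σ)).unit.app 𝒢 ≫
    (Scheme.Modules.pushforward (rho A X σ)).map (Gtπ A σ 𝒢 T)

theorem T_uu (i : σ) :
    T i ≫ uu A σ 𝒢 T = uu A σ 𝒢 T ≫ (Scheme.Modules.pushforward (rho A X σ)).map
      (Formal.smulMod (MvPolynomial σ A) (Gt A σ 𝒢 T) (MvPolynomial.X i)) := by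
  have h1 : T i ≫ (Scheme.Modules.pullbackPushforwardAdjunction (rho A X σ)).unit.app 𝒢 =
      (Scheme.Modules.pullbackPushforwardAdjunction (rho A X σ)).unit.app 𝒢 ≫
        (Scheme.Modules.pushforward (rho A X σ)).map
          ((Scheme.Modules.pullback (rho A X σ)).map (T i)) :=
    ((Scheme.Modules.pullbackPushforwardAdjunction (rho A X σ)).unit_naturality (T i)).symm
  unfold uu
  rw [← Category.assoc, h1, Category.assoc, Category.assoc, ← Functor.map_comp,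
    ← Functor.map_comp, Gtπ_rel', smulMod_naturality]

theorem smul_uu (a : A) :
    Formal.smulMod A 𝒢 a ≫ uu A σ 𝒢 T = uu A σ 𝒢 T ≫
      (Scheme.Modules.pushforward (rho A X σ)).map
        (Formal.smulMod (MvPolynomial σ A) (Gt A σ 𝒢 T) (MvPolynomial.C a)) := by
  rw [push_smulMod, smulMod_naturality]

theorem DDi_app (i : σ) (U : (XP A X σ).Opens) (w : Γ(NN A σ 𝒢, U)) :
    (DDi A σ 𝒢 T i).app U w = rU (MvPolynomial.X i : MvPolynomial σ A) U • w -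
      ((Scheme.Modules.pullback (rho A X σ)).map (T i)).app U w := rfl

variable [Fintype σ]

theorem exists_decomp_of_Gtπ_app_eq_zero [𝒢.IsQuasicoherent] {V' : (XP A X σ).Opens}
    (hV' : IsAffineOpen V') (w : Γ(NN A σ 𝒢, V')) (hw : (Gtπ A σ 𝒢 T).app V' w = 0) :
    ∃ z : σ → Γ(NN A σ 𝒢, V'), w = ∑ i, (DDi A σ 𝒢 T i).app V' (z i) := by
  classical
  haveI : (∐ fun _ : σ => NN A σ 𝒢).IsQuasicoherent :=
    Groth.Agent.Lib.BModH6.isQuasicoherent_sigma _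
  haveI : (cokernel (DD A σ 𝒢 T)).IsQuasicoherent :=
    Groth.Agent.Lib.BModH6.isQuasicoherent_cokernel _
  haveI : (kernel (cokernel.π (DD A σ 𝒢 T))).IsQuasicoherent :=
    SubExt.isQuasicoherent_kernel _
  let E : ShortComplex (XP A X σ).Modules :=
    ShortComplex.mk (kernel.ι (cokernel.π (DD A σ 𝒢 T))) (cokernel.π (DD A σ 𝒢 T))
      (kernel.condition _)
  have hE : E.Exact := ShortComplex.exact_kernel _
  haveI : Mono E.f := inferInstanceAs (Mono (kernel.ι (cokernel.π (DD A σ 𝒢 T))))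
  obtain ⟨y, hy⟩ := QCohExact.app_exact E hE V' w hw
  have hs := QCohExact.app_surjective_of_epi (Abelian.factorThruImage (DD A σ 𝒢 T)) hV'
  obtain ⟨z', hz'⟩ := hs y
  have h3 : (DD A σ 𝒢 T).app V' z' = w := by
    rw [← hy, ← hz']
    exact congrArg (fun φ => φ.app V' z') (Abelian.image.fac (DD A σ 𝒢 T)).symm
  have h4 : DD A σ 𝒢 T = ∑ i, Sigma.π (fun _ : σ => NN A σ 𝒢) i ≫ DDi A σ 𝒢 T i := by
    have h5 : DD A σ 𝒢 T = 𝟙 _ ≫ DD A σ 𝒢 T := (Category.id_comp _).symm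
    rw [h5, ← sigma_total (fun _ : σ => NN A σ 𝒢), Preadditive.sum_comp]
    refine Finset.sum_congr rfl (fun i _ => ?_)
    rw [Category.assoc, ι_DD]
  refine ⟨fun i => (Sigma.π (fun _ : σ => NN A σ 𝒢) i).app V' z', ?_⟩
  rw [← h3]
  have h6 := congrArg (fun φ => evalHom _ _ V' z' φ) h4
  simp only [map_sum] at h6
  exact h6

theorem uu_app_bijective [𝒢.IsQuasicoherent] (hT : ∀ i j, T i ≫ T j = T j ≫ T i)
    {V : X.Opens} (hV : IsAffineOpen V) :
    Function.Bijective ((uu A σ 𝒢 T).app V) := by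
  classical
  obtain ⟨hV', hpo⟩ := isPushout_ring A X σ hV
  -- rings
  letI aAR : Algebra A Γ(X, V) := (rUHom (A := A) V).toAlgebra
  letI aPR' : Algebra (MvPolynomial σ A) Γ(XP A X σ, (rho A X σ) ⁻¹ᵁ V) :=
    (rUHom (A := MvPolynomial σ A) ((rho A X σ) ⁻¹ᵁ V)).toAlgebra
  letI aRR' : Algebra Γ(X, V) Γ(XP A X σ, (rho A X σ) ⁻¹ᵁ V) :=
    ((rho A X σ).appLE V ((rho A X σ) ⁻¹ᵁ V) (le_refl _)).hom.toAlgebra
  letI aAR' : Algebra A Γ(XP A X σ, (rho A X σ) ⁻¹ᵁ V) :=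
    ((rUHom (A := MvPolynomial σ A) ((rho A X σ) ⁻¹ᵁ V)).comp
      (MvPolynomial.C : A →+* MvPolynomial σ A)).toAlgebra
  have hcomm : ((rho A X σ).appLE V ((rho A X σ) ⁻¹ᵁ V) (le_refl _)).hom.comp
      (rUHom (A := A) V) =
      (rUHom (A := MvPolynomial σ A) ((rho A X σ) ⁻¹ᵁ V)).comp
        (MvPolynomial.C : A →+* MvPolynomial σ A) :=
    congrArg CommRingCat.Hom.hom hpo.w
  haveI tAPR' : IsScalarTower A (MvPolynomial σ A) Γ(XP A X σ, (rho A X σ) ⁻¹ᵁ V) :=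
    IsScalarTower.of_algebraMap_eq' rfl
  haveI tARR' : IsScalarTower A Γ(X, V) Γ(XP A X σ, (rho A X σ) ⁻¹ᵁ V) :=
    IsScalarTower.of_algebraMap_eq' hcomm.symm
  haveI hPO : Algebra.IsPushout A (MvPolynomial σ A) Γ(X, V)
      Γ(XP A X σ, (rho A X σ) ⁻¹ᵁ V) :=
    CommRingCat.isPushout_iff_isPushout.mp hpo.flip
  -- modules
  letI mAG : Module A Γ(𝒢, V) := Module.compHom _ (rUHom (A := A) V)
  haveI : IsScalarTower A Γ(X, V) Γ(𝒢, V) := IsScalarTower.of_algebraMap_smul fun _ _ => rfl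
  letI mRN : Module Γ(X, V) Γ(NN A σ 𝒢, (rho A X σ) ⁻¹ᵁ V) :=
    Module.compHom _ ((rho A X σ).appLE V ((rho A X σ) ⁻¹ᵁ V) (le_refl _)).hom
  haveI : IsScalarTower Γ(X, V) Γ(XP A X σ, (rho A X σ) ⁻¹ᵁ V)
      Γ(NN A σ 𝒢, (rho A X σ) ⁻¹ᵁ V) := IsScalarTower.of_algebraMap_smul fun _ _ => rfl
  letI mPN : Module (MvPolynomial σ A) Γ(NN A σ 𝒢, (rho A X σ) ⁻¹ᵁ V) :=
    Module.compHom _ (rUHom (A := MvPolynomial σ A) ((rho A X σ) ⁻¹ᵁ V))
  haveI : IsScalarTower (MvPolynomial σ A) Γ(XP A X σ, (rho A X σ) ⁻¹ᵁ V)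
      Γ(NN A σ 𝒢, (rho A X σ) ⁻¹ᵁ V) := IsScalarTower.of_algebraMap_smul fun _ _ => rfl
  letI mAN : Module A Γ(NN A σ 𝒢, (rho A X σ) ⁻¹ᵁ V) :=
    Module.compHom _ ((rUHom (A := MvPolynomial σ A) ((rho A X σ) ⁻¹ᵁ V)).comp
      (MvPolynomial.C : A →+* MvPolynomial σ A))
  haveI : IsScalarTower A (MvPolynomial σ A) Γ(NN A σ 𝒢, (rho A X σ) ⁻¹ᵁ V) :=
    IsScalarTower.of_algebraMap_smul fun _ _ => rfl
  haveI : IsScalarTower A Γ(X, V) Γ(NN A σ 𝒢, (rho A X σ) ⁻¹ᵁ V) :=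
    IsScalarTower.of_algebraMap_smul fun a w => by
      show ((rho A X σ).appLE V ((rho A X σ) ⁻¹ᵁ V) (le_refl _)).hom (rUHom (A := A) V a) • w =
        (rUHom (A := MvPolynomial σ A) ((rho A X σ) ⁻¹ᵁ V) (MvPolynomial.C a)) • w
      rw [show ((rho A X σ).appLE V ((rho A X σ) ⁻¹ᵁ V) (le_refl _)).hom (rUHom (A := A) V a) =
        rUHom (A := MvPolynomial σ A) ((rho A X σ) ⁻¹ᵁ V) (MvPolynomial.C a) from
        RingHom.congr_fun hcomm a]
  have bc := PBH8.isBaseChange_cUV (rho A X σ) 𝒢 (le_refl ((rho A X σ) ⁻¹ᵁ V)) hV' hV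
  have bcP := isBaseChange_of_isPushout A (MvPolynomial σ A) Γ(X, V)
    Γ(XP A X σ, (rho A X σ) ⁻¹ᵁ V) (PBH8.cUVLin (rho A X σ) 𝒢 (le_refl _)) bc
  -- the linear maps
  let TL : σ → Γ(𝒢, V) →ₗ[A] Γ(𝒢, V) := fun i =>
    { toFun := fun x => (T i).app V x
      map_add' := fun x y => map_add ((T i).app V).hom x y
      map_smul' := fun a x => Scheme.Modules.Hom.app_smul (T i) (rUHom (A := A) V a) x }
  let τL : σ → Γ(NN A σ 𝒢, (rho A X σ) ⁻¹ᵁ V) →ₗ[MvPolynomial σ A]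
      Γ(NN A σ 𝒢, (rho A X σ) ⁻¹ᵁ V) := fun i =>
    { toFun := fun w => ((Scheme.Modules.pullback (rho A X σ)).map (T i)).app _ w
      map_add' := fun x y =>
        map_add (((Scheme.Modules.pullback (rho A X σ)).map (T i)).app _).hom x y
      map_smul' := fun p w => Scheme.Modules.Hom.app_smul
        ((Scheme.Modules.pullback (rho A X σ)).map (T i))
        (rUHom (A := MvPolynomial σ A) ((rho A X σ) ⁻¹ᵁ V) p) w }
  letI mPQ : Module (MvPolynomial σ A) Γ(Gt A σ 𝒢 T, (rho A X σ) ⁻¹ᵁ V) :=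
    Module.compHom _ (rUHom (A := MvPolynomial σ A) ((rho A X σ) ⁻¹ᵁ V))
  let πL : Γ(NN A σ 𝒢, (rho A X σ) ⁻¹ᵁ V) →ₗ[MvPolynomial σ A]
      Γ(Gt A σ 𝒢 T, (rho A X σ) ⁻¹ᵁ V) :=
    { toFun := fun w => (Gtπ A σ 𝒢 T).app _ w
      map_add' := fun x y => map_add ((Gtπ A σ 𝒢 T).app _).hom x y
      map_smul' := fun p w => Scheme.Modules.Hom.app_smul (Gtπ A σ 𝒢 T)
        (rUHom (A := MvPolynomial σ A) ((rho A X σ) ⁻¹ᵁ V) p) w }
  have hT' : ∀ i j, TL i ∘ₗ TL j = TL j ∘ₗ TL i := by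
    intro i j
    apply LinearMap.ext
    intro x
    show (T i).app V ((T j).app V x) = (T j).app V ((T i).app V x)
    exact congrArg (fun φ => φ.app V x) (hT j i)
  have hτ : ∀ i g, τL i (((PBH8.cUVLin (rho A X σ) 𝒢 (le_refl _)).restrictScalars A) g) =
      ((PBH8.cUVLin (rho A X σ) 𝒢 (le_refl _)).restrictScalars A) (TL i g) :=
    fun i g => PBH8.cUV_naturality (rho A X σ) (T i) (le_refl _) g
  have hπ : Function.Surjective πL :=
    QCohExact.app_surjective_of_epi (Gtπ A σ 𝒢 T) hV'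
  have h1 : ∀ i w, πL ((MvPolynomial.X i : MvPolynomial σ A) • w - τL i w) = 0 := by
    intro i w
    have h := congrArg (fun φ => φ.app ((rho A X σ) ⁻¹ᵁ V) w) (Gtπ_rel A σ 𝒢 T i)
    exact h
  have h2 : ∀ w, πL w = 0 →
      ∃ z : σ → Γ(NN A σ 𝒢, (rho A X σ) ⁻¹ᵁ V),
        w = ∑ i, ((MvPolynomial.X i : MvPolynomial σ A) • z i - τL i (z i)) := by
    intro w hw
    obtain ⟨z, hz⟩ := exists_decomp_of_Gtπ_app_eq_zero A σ 𝒢 T hV' w hw
    exact ⟨z, hz⟩
  have key := bijective_comp_of_presentation (A := A) (σ := σ) TL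
    ((PBH8.cUVLin (rho A X σ) 𝒢 (le_refl _)).restrictScalars A) τL πL hT' hτ bcP hπ h1 h2
  have hfun : ⇑((uu A σ 𝒢 T).app V).hom =
      fun g => πL (((PBH8.cUVLin (rho A X σ) 𝒢 (le_refl _)).restrictScalars A) g) := by
    funext g
    show (Gtπ A σ 𝒢 T).app ((rho A X σ) ⁻¹ᵁ V)
        (((Scheme.Modules.pullbackPushforwardAdjunction (rho A X σ)).unit.app 𝒢).app V g) =
      (Gtπ A σ 𝒢 T).app ((rho A X σ) ⁻¹ᵁ V) (PBH8.cUV (rho A X σ) 𝒢 (le_refl _) g)
    rw [cUV_self']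
  exact hfun ▸ key

theorem isIso_uu [𝒢.IsQuasicoherent] (hT : ∀ i j, T i ≫ T j = T j ≫ T i) :
    IsIso (uu A σ 𝒢 T) := by
  haveI : ((Scheme.Modules.pushforward (rho A X σ)).obj (Gt A σ 𝒢 T)).IsQuasicoherent :=
    QCohCrit.isQuasicoherent_pushforward (rho A X σ) _
  refine Groth.Agent.Lib.LimMod.isIso_of_affine_cover _ (fun x => ?_)
  obtain ⟨V, hV, hxV, -⟩ := (Opens.isBasis_iff_nbhd.mp X.isBasis_affineOpens)
    (show x ∈ (⊤ : X.Opens) from trivial)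
  exact ⟨V, hV, hxV, uu_app_bijective A σ 𝒢 T hT hV⟩

end Mod

end Groth.Agent.Lib.FormalFnH2
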