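import Groth.Agent.Lib.QBC4_helper8
import Mathlib
set_option autoImplicit false
open CategoryTheory AlgebraicGeometry Opposite TopologicalSpace TensorProduct
open AlgebraicGeometry.Scheme.Modules
universe u
namespace QBCH8

section
variable {X S X' S' : Scheme.{u}} {f : X ⟶ S} {g : S' ⟶ S} {g' : X' ⟶ X} {f' : X' ⟶ S'}
  (hc : IsPullback g' f' f g) (M : X.Modules) [M.IsQuasicoherent]
  [QuasiCompact f] [QuasiSeparated f] [Flat g]

include hc in
theorem isBaseChange_qcqs {W : S.Opens} {W' : S'.Opens} (hW : IsAffineOpen W)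
    (hW' : IsAffineOpen W') (hW'W : W' ≤ g ⁻¹ᵁ W) (hV'V : f' ⁻¹ᵁ W' ≤ g' ⁻¹ᵁ (f ⁻¹ᵁ W)) :
    letI := (g.appLE W W' hW'W).hom.toAlgebra
    letI : Module Γ(S, W)
        Γ((Scheme.Modules.pushforward f').obj ((Scheme.Modules.pullback g').obj M), W') :=
      Module.compHom _ (g.appLE W W' hW'W).hom
    haveI : IsScalarTower Γ(S, W) Γ(S', W')
        Γ((Scheme.Modules.pushforward f').obj ((Scheme.Modules.pullback g').obj M), W') :=
      IsScalarTower.of_algebraMap_smul fun _ _ => rfl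
    ∀ (c : Γ((Scheme.Modules.pushforward f).obj M, W) →ₗ[Γ(S, W)]
        Γ((Scheme.Modules.pushforward f').obj ((Scheme.Modules.pullback g').obj M), W')),
      (∀ m, c m = PBH8.cUV g' M hV'V m) → IsBaseChange Γ(S', W') c := by
  have hVc : IsCompact ((f ⁻¹ᵁ W : X.Opens) : Set X) :=
    QuasiCompact.isCompact_preimage (f := f) (W : Set S) W.2 hW.isCompact
  have hVqs : IsQuasiSeparated ((f ⁻¹ᵁ W : X.Opens) : Set X) :=
    f.isQuasiSeparated_preimage hW.isQuasiSeparated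
  obtain ⟨I, J, hI, hJ, s, t, U, T, hU, hT, hle, hcov, hTs, hTt, hTcov⟩ :=
    exists_cover_data (f ⁻¹ᵁ W) hVc hVqs
  set P := (Scheme.Modules.pullback g').obj M with hP
  -- primed opens
  let U' : I → X'.Opens := fun i => g' ⁻¹ᵁ (U i) ⊓ f' ⁻¹ᵁ W'
  let T' : J → X'.Opens := fun j => g' ⁻¹ᵁ (T j) ⊓ f' ⁻¹ᵁ W'
  have hle' : ∀ i, U' i ≤ f' ⁻¹ᵁ W' := fun i => inf_le_right
  have hcov' : f' ⁻¹ᵁ W' ≤ ⨆ i, U' i := by
    intro x hx
    obtain ⟨i, hi⟩ := Opens.mem_iSup.mp (hcov (hV'V hx))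
    exact Opens.mem_iSup.mpr ⟨i, hi, hx⟩
  have hTs' : ∀ j, T' j ≤ U' (s j) := fun j x hx => ⟨hTs j hx.1, hx.2⟩
  have hTt' : ∀ j, T' j ≤ U' (t j) := fun j x hx => ⟨hTt j hx.1, hx.2⟩
  have hTcov' : ∀ i i' x, x ∈ U' i → x ∈ U' i' → ∃ j, s j = i ∧ t j = i' ∧ x ∈ T' j := by
    intro i i' x hx hx'
    obtain ⟨j, h1, h2, h3⟩ := hTcov i i' (g' x) hx.1 hx'.1
    exact ⟨j, h1, h2, h3, hx.2⟩
  have hTW : ∀ j, T j ≤ f ⁻¹ᵁ W := fun j => (hTs j).trans (hle _)
  -- algebra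
  letI algAA' : Algebra Γ(S, W) Γ(S', W') := (g.appLE W W' hW'W).hom.toAlgebra
  haveI : Module.Flat Γ(S, W) Γ(S', W') := Flat.flat_appLE g hW hW' hW'W
  -- modules
  letI m2 : ∀ i, Module Γ(S, W) Γ(M, U i) := fun i =>
    Module.compHom _ (f.appLE W (U i) (hle i)).hom
  letI m3 : ∀ j, Module Γ(S, W) Γ(M, T j) := fun j =>
    Module.compHom _ (f.appLE W (T j) (hTW j)).hom
  letI n1A : Module Γ(S, W) Γ((Scheme.Modules.pushforward f').obj P, W') :=
    Module.compHom _ (g.appLE W W' hW'W).hom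
  haveI t1 : IsScalarTower Γ(S, W) Γ(S', W') Γ((Scheme.Modules.pushforward f').obj P, W') :=
    IsScalarTower.of_algebraMap_smul fun _ _ => rfl
  letI n2 : ∀ i, Module Γ(S', W') Γ(P, U' i) := fun i =>
    Module.compHom _ (f'.appLE W' (U' i) (hle' i)).hom
  letI n2A : ∀ i, Module Γ(S, W) Γ(P, U' i) := fun i =>
    Module.compHom _ (g.appLE W W' hW'W).hom
  haveI t2 : ∀ i, IsScalarTower Γ(S, W) Γ(S', W') Γ(P, U' i) := fun i =>
    IsScalarTower.of_algebraMap_smul fun _ _ => rfl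
  letI n3 : ∀ j, Module Γ(S', W') Γ(P, T' j) := fun j =>
    Module.compHom _ (f'.appLE W' (T' j) inf_le_right).hom
  letI n3A : ∀ j, Module Γ(S, W) Γ(P, T' j) := fun j =>
    Module.compHom _ (g.appLE W W' hW'W).hom
  haveI t3 : ∀ j, IsScalarTower Γ(S, W) Γ(S', W') Γ(P, T' j) := fun j =>
    IsScalarTower.of_algebraMap_smul fun _ _ => rfl
  -- maps
  let ρ : ∀ i, Γ((Scheme.Modules.pushforward f).obj M, W) →ₗ[Γ(S, W)] Γ(M, U i) := fun i =>
    { toFun := fun x => QcqsLoc.rF M (hle i) x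
      map_add' := fun x y => map_add (QcqsLoc.rF M (hle i)) x y
      map_smul' := fun a x => by
        show QcqsLoc.rF M (hle i) ((f.app W).hom a • (show Γ(M, f ⁻¹ᵁ W) from x)) =
          (f.appLE W (U i) (hle i)).hom a • QcqsLoc.rF M (hle i) x
        rw [QcqsLoc.rF_smul]
        rfl }
  let σ : ∀ j, Γ(M, U (s j)) →ₗ[Γ(S, W)] Γ(M, T j) := fun j =>
    { toFun := fun x => QcqsLoc.rF M (hTs j) x
      map_add' := fun x y => map_add (QcqsLoc.rF M (hTs j)) x y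
      map_smul' := fun a x => by
        show QcqsLoc.rF M (hTs j) ((f.appLE W (U (s j)) (hle _)).hom a • x) =
          (f.appLE W (T j) (hTW j)).hom a • QcqsLoc.rF M (hTs j) x
        rw [QcqsLoc.rF_smul, appLE_res] }
  let τ : ∀ j, Γ(M, U (t j)) →ₗ[Γ(S, W)] Γ(M, T j) := fun j =>
    { toFun := fun x => QcqsLoc.rF M (hTt j) x
      map_add' := fun x y => map_add (QcqsLoc.rF M (hTt j)) x y
      map_smul' := fun a x => by
        show QcqsLoc.rF M (hTt j) ((f.appLE W (U (t j)) (hle _)).hom a • x) =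
          (f.appLE W (T j) (hTW j)).hom a • QcqsLoc.rF M (hTt j) x
        rw [QcqsLoc.rF_smul, appLE_res] }
  let ρ' : ∀ i, Γ((Scheme.Modules.pushforward f').obj P, W') →ₗ[Γ(S', W')] Γ(P, U' i) := fun i =>
    { toFun := fun x => QcqsLoc.rF P (hle' i) x
      map_add' := fun x y => map_add (QcqsLoc.rF P (hle' i)) x y
      map_smul' := fun a x => by
        show QcqsLoc.rF P (hle' i) ((f'.app W').hom a • (show Γ(P, f' ⁻¹ᵁ W') from x)) =
          (f'.appLE W' (U' i) (hle' i)).hom a • QcqsLoc.rF P (hle' i) x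
        rw [QcqsLoc.rF_smul]
        rfl }
  let σ' : ∀ j, Γ(P, U' (s j)) →ₗ[Γ(S', W')] Γ(P, T' j) := fun j =>
    { toFun := fun x => QcqsLoc.rF P (hTs' j) x
      map_add' := fun x y => map_add (QcqsLoc.rF P (hTs' j)) x y
      map_smul' := fun a x => by
        show QcqsLoc.rF P (hTs' j) ((f'.appLE W' (U' (s j)) (hle' _)).hom a • x) =
          (f'.appLE W' (T' j) inf_le_right).hom a • QcqsLoc.rF P (hTs' j) x
        rw [QcqsLoc.rF_smul, appLE_res] }
  let τ' : ∀ j, Γ(P, U' (t j)) →ₗ[Γ(S', W')] Γ(P, T' j) := fun j =>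
    { toFun := fun x => QcqsLoc.rF P (hTt' j) x
      map_add' := fun x y => map_add (QcqsLoc.rF P (hTt' j)) x y
      map_smul' := fun a x => by
        show QcqsLoc.rF P (hTt' j) ((f'.appLE W' (U' (t j)) (hle' _)).hom a • x) =
          (f'.appLE W' (T' j) inf_le_right).hom a • QcqsLoc.rF P (hTt' j) x
        rw [QcqsLoc.rF_smul, appLE_res] }
  let h₂ : ∀ i, Γ(M, U i) →ₗ[Γ(S, W)] Γ(P, U' i) := fun i =>
    { toFun := fun x => PBH8.cUV g' M (inf_le_left : U' i ≤ g' ⁻¹ᵁ (U i)) x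
      map_add' := fun x y => PBH8.cUV_add g' M _ x y
      map_smul' := fun a x => by
        show PBH8.cUV g' M (inf_le_left : U' i ≤ g' ⁻¹ᵁ (U i))
            ((f.appLE W (U i) (hle i)).hom a • x) =
          (f'.appLE W' (U' i) (hle' i)).hom ((g.appLE W W' hW'W).hom a) •
            PBH8.cUV g' M (inf_le_left : U' i ≤ g' ⁻¹ᵁ (U i)) x
        rw [PBH8.cUV_smul, ← appLE_comm_apply hc (hle i) hW'W inf_le_left (hle' i) a] }
  let h₃ : ∀ j, Γ(M, T j) →ₗ[Γ(S, W)] Γ(P, T' j) := fun j =>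
    { toFun := fun x => PBH8.cUV g' M (inf_le_left : T' j ≤ g' ⁻¹ᵁ (T j)) x
      map_add' := fun x y => PBH8.cUV_add g' M _ x y
      map_smul' := fun a x => by
        show PBH8.cUV g' M (inf_le_left : T' j ≤ g' ⁻¹ᵁ (T j))
            ((f.appLE W (T j) (hTW j)).hom a • x) =
          (f'.appLE W' (T' j) inf_le_right).hom ((g.appLE W W' hW'W).hom a) •
            PBH8.cUV g' M (inf_le_left : T' j ≤ g' ⁻¹ᵁ (T j)) x
        rw [PBH8.cUV_smul, ← appLE_comm_apply hc (hTW j) hW'W inf_le_left inf_le_right a] }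
  have b₂ : ∀ i, IsBaseChange Γ(S', W') (h₂ i) := fun i =>
    isBaseChange_affine hc M hW hW' hW'W (hU i) (hle i) (h₂ i) (fun m => rfl)
  have b₃ : ∀ j, IsBaseChange Γ(S', W') (h₃ j) := fun j =>
    isBaseChange_affine hc M hW hW' hW'W (hT j) (hTW j) (h₃ j) (fun m => rfl)
  intro c hcc
  refine isBaseChange_of_cover Γ(S', W') s t c h₂ h₃ ρ σ τ ρ' σ' τ' ?_ ?_ ?_ ?_ ?_ ?_ ?_ ?_ ?_
    b₂ b₃
  · -- c₁
    intro i x
    show PBH8.cUV g' M (inf_le_left : U' i ≤ g' ⁻¹ᵁ (U i)) (QcqsLoc.rF M (hle i) x) =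
      QcqsLoc.rF P (hle' i) (c x)
    rw [hcc, TensH8.rF_cUV, TensH8.cUV_resV]
  · -- c₂
    intro j y
    show PBH8.cUV g' M (inf_le_left : T' j ≤ g' ⁻¹ᵁ (T j)) (QcqsLoc.rF M (hTs j) y) =
      QcqsLoc.rF P (hTs' j) (PBH8.cUV g' M (inf_le_left : U' (s j) ≤ g' ⁻¹ᵁ (U (s j))) y)
    rw [TensH8.rF_cUV, TensH8.cUV_resV]
  · -- c₃
    intro j y
    show PBH8.cUV g' M (inf_le_left : T' j ≤ g' ⁻¹ᵁ (T j)) (QcqsLoc.rF M (hTt j) y) =
      QcqsLoc.rF P (hTt' j) (PBH8.cUV g' M (inf_le_left : U' (t j) ≤ g' ⁻¹ᵁ (U (t j))) y)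
    rw [TensH8.rF_cUV, TensH8.cUV_resV]
  · -- inj
    intro x hx
    exact sheaf_inj M U (f ⁻¹ᵁ W) hle hcov x hx
  · -- cmp
    intro j x
    exact sheaf_cmp M s t U (f ⁻¹ᵁ W) T hle hTs hTt j x
  · -- ex
    intro y hy
    exact sheaf_glue M s t U (f ⁻¹ᵁ W) T hle hcov hTs hTt hTcov y hy
  · intro x hx
    exact sheaf_inj P U' (f' ⁻¹ᵁ W') hle' hcov' x hx
  · intro j x
    exact sheaf_cmp P s t U' (f' ⁻¹ᵁ W') T' hle' hTs' hTt' j x
  · intro y hy
    exact sheaf_glue P s t U' (f' ⁻¹ᵁ W') T' hle' hcov' hTs' hTt' hTcov' y hy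


include hc in
theorem qbc_app_bijective {W : S.Opens} {W' : S'.Opens} (hW : IsAffineOpen W)
    (hW' : IsAffineOpen W') (hW'W : W' ≤ g ⁻¹ᵁ W) :
    Function.Bijective ((AffBCH8.bc hc M).app W') := by
  have hV'V : f' ⁻¹ᵁ W' ≤ g' ⁻¹ᵁ (f ⁻¹ᵁ W) := by
    intro x hx
    show f (g' x) ∈ W
    have : f (g' x) = g (f' x) := by
      rw [← Scheme.Hom.comp_apply, ← Scheme.Hom.comp_apply, hc.w]
    rw [this]; exact hW'W hx
  haveI : ((Scheme.Modules.pushforward f).obj M).IsQuasicoherent :=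
    QcqsLoc.isQuasicoherent_pushforward_qcqs f M
  set P := (Scheme.Modules.pullback g').obj M with hP
  letI algAA' : Algebra Γ(S, W) Γ(S', W') := (g.appLE W W' hW'W).hom.toAlgebra
  letI mAL : Module Γ(S, W)
      Γ((Scheme.Modules.pullback g).obj ((Scheme.Modules.pushforward f).obj M), W') :=
    Module.compHom _ (g.appLE W W' hW'W).hom
  haveI : IsScalarTower Γ(S, W) Γ(S', W')
      Γ((Scheme.Modules.pullback g).obj ((Scheme.Modules.pushforward f).obj M), W') :=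
    IsScalarTower.of_algebraMap_smul fun _ _ => rfl
  have bc₁ := PBH8.isBaseChange_cUV g ((Scheme.Modules.pushforward f).obj M) hW'W hW' hW
  letI n1A : Module Γ(S, W) Γ((Scheme.Modules.pushforward f').obj P, W') :=
    Module.compHom _ (g.appLE W W' hW'W).hom
  haveI t1 : IsScalarTower Γ(S, W) Γ(S', W') Γ((Scheme.Modules.pushforward f').obj P, W') :=
    IsScalarTower.of_algebraMap_smul fun _ _ => rfl
  let c : Γ((Scheme.Modules.pushforward f).obj M, W) →ₗ[Γ(S, W)]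
      Γ((Scheme.Modules.pushforward f').obj P, W') :=
    { toFun := fun x => PBH8.cUV g' M hV'V x
      map_add' := fun x y => PBH8.cUV_add g' M hV'V x y
      map_smul' := fun a x => by
        show PBH8.cUV g' M hV'V ((f.app W).hom a • (show Γ(M, f ⁻¹ᵁ W) from x)) =
          (f'.app W').hom ((g.appLE W W' hW'W).hom a) • PBH8.cUV g' M hV'V x
        have e := appLE_comm_apply hc (le_refl (f ⁻¹ᵁ W)) hW'W hV'V (le_refl _) a
        rw [Scheme.Hom.appLE_eq_app, Scheme.Hom.appLE_eq_app] at e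
        rw [PBH8.cUV_smul, e] }
  have bc₂ : IsBaseChange Γ(S', W') c := isBaseChange_qcqs hc M hW hW' hW'W hV'V c (fun m => rfl)
  let E₁ := bc₁.equiv
  let E₂ := bc₂.equiv
  have key : ∀ z : Γ(S', W') ⊗[Γ(S, W)] Γ((Scheme.Modules.pushforward f).obj M, W),
      (AffBCH8.bc hc M).app W' (E₁ z) = E₂ z := by
    intro z
    induction z using TensorProduct.induction_on with
    | zero => rw [map_zero, map_zero]; exact (map_zero E₂).symm
    | tmul a' n =>
      have e1 : E₁ (a' ⊗ₜ n) =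
          a' • PBH8.cUVLin g ((Scheme.Modules.pushforward f).obj M) hW'W n := bc₁.equiv_tmul a' n
      have e3 : E₂ (a' ⊗ₜ n) = a' • c n := bc₂.equiv_tmul a' n
      rw [e1]
      refine Eq.trans ?_ e3.symm
      rw [Scheme.Modules.Hom.app_smul, PBH8.cUVLin_apply, AffBCH8.bc_cUV hc M hW'W n hV'V]
      rfl
    | add x y hx hy =>
      rw [map_add, map_add, hx, hy]
      exact (map_add E₂ _ _).symm
  have hfun : ⇑((AffBCH8.bc hc M).app W') = (fun l => E₂ (E₁.symm l)) := by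
    funext l
    rw [← key, LinearEquiv.apply_symm_apply]
  rw [hfun]
  exact E₂.bijective.comp E₁.symm.bijective

include hc in
/-- **Flat base change** for a quasi-compact quasi-separated morphism. -/
theorem qbc_isIso : IsIso (AffBCH8.bc hc M) := by
  haveI : QuasiCompact f' := MorphismProperty.of_isPullback (P := @QuasiCompact) hc inferInstance
  haveI : QuasiSeparated f' :=
    MorphismProperty.of_isPullback (P := @QuasiSeparated) hc inferInstance
  haveI : ((Scheme.Modules.pushforward f).obj M).IsQuasicoherent :=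
    QcqsLoc.isQuasicoherent_pushforward_qcqs f M
  haveI : ((Scheme.Modules.pullback g').obj M).IsQuasicoherent := PBH8.isQuasicoherent_pullback g' M
  haveI : ((Scheme.Modules.pushforward f').obj ((Scheme.Modules.pullback g').obj M)).IsQuasicoherent :=
    QcqsLoc.isQuasicoherent_pushforward_qcqs f' _
  haveI : ((Scheme.Modules.pullback g).obj ((Scheme.Modules.pushforward f).obj M)).IsQuasicoherent :=
    PBH8.isQuasicoherent_pullback g _
  let ι := {W' : S'.Opens // IsAffineOpen W' ∧ ∃ W : S.Opens, IsAffineOpen W ∧ W' ≤ g ⁻¹ᵁ W}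
  have hcover : ⨆ i : ι, (i.1 : S'.Opens) = ⊤ := by
    rw [eq_top_iff]
    intro x _
    obtain ⟨V, U, hV, hU, hxU, hUV⟩ := PBH8.exists_affine_pair' g x
    exact Opens.mem_iSup.mpr ⟨⟨U, hU, V, hV, hUV⟩, hxU⟩
  refine QCohCrit.isIso_of_bijective_on_cover (AffBCH8.bc hc M) (fun i : ι => (i.1 : S'.Opens))
    (fun i => i.2.1) hcover ?_
  rintro ⟨W', hW', W, hW, hW'W⟩
  exact qbc_app_bijective hc M hW hW' hW'W

end
end QBCH8
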