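import Mathlib
import Groth.Prelude
import Groth.Agent.Lib.FormalFn2_helper2
import Groth.Agent.Lib.QBC5_helper8
import Groth.Agent.Lib.FlatBC1_helper2
import Groth.Agent.Lib.HHVan_helper9

/-!
# Flat base change for cohomology, II: degree zero (helper2)

For `X` over `Spec A`, `X' = X ×_A Spec B` with `B` flat over `A` and `X` quasi-compact and
quasi-separated: `Γ(X', g'^* M) = B ⊗_A Γ(X, M)` for quasi-coherent `M`, through the canonical map,
and the same for `H^0`, naturally in `M`.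
APPEND-ONLY once landed.
-/

set_option autoImplicit false
universe u

open CategoryTheory CategoryTheory.Limits AlgebraicGeometry TopologicalSpace Opposite TensorProduct

namespace Groth.Agent.Lib.FlatBCH2

open Groth.Agent.Lib.FormalFnH2 Groth.Agent.Lib.FormalModPowH4

section Mod

variable (A : Type u) [CommRing A] {X : Scheme.{u}} [X.Over (Spec (CommRingCat.of A))]

/-- sections of a module on a scheme over `Spec A`, as an `A`-module -/
@[reducible] noncomputable def secMod (M : X.Modules) (V : X.Opens) : Module A Γ(M, V) :=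
  Module.compHom _ (rUHom (A := A) V)

theorem rX_rUHom {V W : X.Opens} (h : V ≤ W) (a : A) :
    QcqsLoc.rX h (rUHom (A := A) W a) = rUHom (A := A) V a :=
  Coh.resTop_comp (op W) (op V) (homOfLE h).op _

/-- restriction of sections, `A`-linearly -/
noncomputable def resLin (M : X.Modules) {V W : X.Opens} (h : V ≤ W) :
    letI := secMod A M W
    letI := secMod A M V
    Γ(M, W) →ₗ[A] Γ(M, V) :=
  letI := secMod A M W
  letI := secMod A M V
  { toFun := fun x => QcqsLoc.rF M h x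
    map_add' := fun x y => map_add (QcqsLoc.rF M h) x y
    map_smul' := fun a x => by
      show QcqsLoc.rF M h (rUHom (A := A) W a • x) = rUHom (A := A) V a • QcqsLoc.rF M h x
      rw [QcqsLoc.rF_smul, rX_rUHom] }

end Mod

section Geo

variable {A B : Type u} [CommRing A] [CommRing B] [Algebra A B]
  {X X' : Scheme.{u}} [X.Over (Spec (CommRingCat.of A))] [X'.Over (Spec (CommRingCat.of B))]
  {g' : X' ⟶ X}
  (hsq : IsPullback g' (X' ↘ Spec (CommRingCat.of B)) (X ↘ Spec (CommRingCat.of A))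
    (Spec.map (CommRingCat.ofHom (algebraMap A B))))

include hsq in
theorem isPushout_ring' {V : X.Opens} (hV : IsAffineOpen V) :
    IsAffineOpen (g' ⁻¹ᵁ V) ∧
    IsPushout (CommRingCat.ofHom (rUHom (A := A) V))
      (CommRingCat.ofHom (algebraMap A B))
      (g'.appLE V (g' ⁻¹ᵁ V) (le_refl _))
      (CommRingCat.ofHom (rUHom (A := B) (g' ⁻¹ᵁ V))) := by
  have hle : ∀ W : X'.Opens, W ≤ (X' ↘ Spec (CommRingCat.of B)) ⁻¹ᵁ ⊤ := fun W x _ => trivial
  have hle' : ∀ W : X.Opens, W ≤ (X ↘ Spec (CommRingCat.of A)) ⁻¹ᵁ ⊤ := fun W x _ => trivial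
  have hle'' : (⊤ : (Spec (CommRingCat.of B)).Opens) ≤
      (Spec.map (CommRingCat.ofHom (algebraMap A B))) ⁻¹ᵁ ⊤ := fun x _ => trivial
  obtain ⟨h1, hpo⟩ := AffBCH8.affine_pushout' hsq (W := ⊤) (U := V) (W' := ⊤)
    (U' := g' ⁻¹ᵁ V) (isAffineOpen_top _) hV (isAffineOpen_top _) (hle' V) hle''
    (le_refl _) (hle _) (le_antisymm (le_inf le_rfl (hle _)) inf_le_left)
  refine ⟨h1, ?_⟩
  refine hpo.of_iso (Scheme.ΓSpecIso (CommRingCat.of A)) (Iso.refl _)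
    (Scheme.ΓSpecIso (CommRingCat.of B)) (Iso.refl _) ?_ ?_ ?_ ?_
  · rw [Iso.refl_hom, Category.comp_id, ofHom_rUHom V (hle' V), Iso.hom_inv_id_assoc]
  · have h3 : (Spec.map (CommRingCat.ofHom (algebraMap A B))).appLE ⊤ ⊤ hle'' =
        (Spec.map (CommRingCat.ofHom (algebraMap A B))).appTop :=
      (Spec.map (CommRingCat.ofHom (algebraMap A B))).appLE_eq_app
    rw [h3]
    exact Scheme.ΓSpecIso_naturality (CommRingCat.ofHom (algebraMap A B))
  · rw [Iso.refl_hom, Iso.refl_hom, Category.comp_id, Category.id_comp]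
  · rw [Iso.refl_hom, Category.comp_id]
    have h4 := ofHom_rUHom (A := B) (X := X') (g' ⁻¹ᵁ V) (hle _)
    rw [h4, Iso.hom_inv_id_assoc]

variable (A B) in
/-- sections of a module on a scheme over `Spec B`, as an `A`-module -/
@[reducible] noncomputable def secModA (N : X'.Modules) (V' : X'.Opens) : Module A Γ(N, V') :=
  Module.compHom _ ((rUHom (A := B) V').comp (algebraMap A B))

variable (A B) in
theorem secTower (N : X'.Modules) (V' : X'.Opens) :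
    letI := secMod B N V'
    letI := secModA A B N V'
    IsScalarTower A B Γ(N, V') :=
  letI := secMod B N V'
  letI := secModA A B N V'
  IsScalarTower.of_algebraMap_smul fun _ _ => rfl

include hsq in
/-- Affine piece. -/
theorem isBaseChange_cUV_affine (M : X.Modules) [M.IsQuasicoherent] {V : X.Opens}
    (hV : IsAffineOpen V) :
    letI := secMod A M V
    letI := secMod B ((Scheme.Modules.pullback g').obj M) (g' ⁻¹ᵁ V)
    letI := secModA A B ((Scheme.Modules.pullback g').obj M) (g' ⁻¹ᵁ V)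
    haveI := secTower A B ((Scheme.Modules.pullback g').obj M) (g' ⁻¹ᵁ V)
    ∀ c : Γ(M, V) →ₗ[A] Γ((Scheme.Modules.pullback g').obj M, g' ⁻¹ᵁ V),
      (∀ m, c m = PBH8.cUV g' M (le_refl _) m) → IsBaseChange B c := by
  obtain ⟨hV', hpo⟩ := isPushout_ring' hsq hV
  set N := (Scheme.Modules.pullback g').obj M with hN
  -- rings
  letI aAR : Algebra A Γ(X, V) := (rUHom (A := A) V).toAlgebra
  letI aBR' : Algebra B Γ(X', g' ⁻¹ᵁ V) := (rUHom (A := B) (g' ⁻¹ᵁ V)).toAlgebra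
  letI aRR' : Algebra Γ(X, V) Γ(X', g' ⁻¹ᵁ V) :=
    (g'.appLE V (g' ⁻¹ᵁ V) (le_refl _)).hom.toAlgebra
  letI aAR' : Algebra A Γ(X', g' ⁻¹ᵁ V) :=
    ((rUHom (A := B) (g' ⁻¹ᵁ V)).comp (algebraMap A B)).toAlgebra
  have hcomm : (g'.appLE V (g' ⁻¹ᵁ V) (le_refl _)).hom.comp (rUHom (A := A) V) =
      (rUHom (A := B) (g' ⁻¹ᵁ V)).comp (algebraMap A B) :=
    congrArg CommRingCat.Hom.hom hpo.w
  haveI tABR' : IsScalarTower A B Γ(X', g' ⁻¹ᵁ V) := IsScalarTower.of_algebraMap_eq' rfl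
  haveI tARR' : IsScalarTower A Γ(X, V) Γ(X', g' ⁻¹ᵁ V) :=
    IsScalarTower.of_algebraMap_eq' hcomm.symm
  haveI hPO : Algebra.IsPushout A B Γ(X, V) Γ(X', g' ⁻¹ᵁ V) :=
    CommRingCat.isPushout_iff_isPushout.mp hpo.flip
  -- modules
  letI mAM : Module A Γ(M, V) := secMod A M V
  haveI : IsScalarTower A Γ(X, V) Γ(M, V) := IsScalarTower.of_algebraMap_smul fun _ _ => rfl
  letI mRN : Module Γ(X, V) Γ(N, g' ⁻¹ᵁ V) :=
    Module.compHom _ (g'.appLE V (g' ⁻¹ᵁ V) (le_refl _)).hom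
  haveI : IsScalarTower Γ(X, V) Γ(X', g' ⁻¹ᵁ V) Γ(N, g' ⁻¹ᵁ V) :=
    IsScalarTower.of_algebraMap_smul fun _ _ => rfl
  letI mBN : Module B Γ(N, g' ⁻¹ᵁ V) := secMod B N (g' ⁻¹ᵁ V)
  haveI : IsScalarTower B Γ(X', g' ⁻¹ᵁ V) Γ(N, g' ⁻¹ᵁ V) :=
    IsScalarTower.of_algebraMap_smul fun _ _ => rfl
  letI mAN : Module A Γ(N, g' ⁻¹ᵁ V) := secModA A B N (g' ⁻¹ᵁ V)
  haveI : IsScalarTower A B Γ(N, g' ⁻¹ᵁ V) := IsScalarTower.of_algebraMap_smul fun _ _ => rfl
  have bc := PBH8.isBaseChange_cUV g' M (le_refl (g' ⁻¹ᵁ V)) hV' hV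
  intro c hcc
  exact QBCH8.isBaseChange_of_isPushout' A B Γ(X, V) Γ(X', g' ⁻¹ᵁ V)
    (PBH8.cUVLin g' M (le_refl _)) bc c hcc

end Geo

section Cover

variable {A B : Type u} [CommRing A] [CommRing B] [Algebra A B] [Module.Flat A B]
  {X X' : Scheme.{u}} [X.Over (Spec (CommRingCat.of A))] [X'.Over (Spec (CommRingCat.of B))]
  {g' : X' ⟶ X}
  (hsq : IsPullback g' (X' ↘ Spec (CommRingCat.of B)) (X ↘ Spec (CommRingCat.of A))
    (Spec.map (CommRingCat.ofHom (algebraMap A B))))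
  [CompactSpace X] [QuasiSeparatedSpace X] (M : X.Modules) [M.IsQuasicoherent]

include hsq in
/-- **Flat base change for global sections** of quasi-coherent modules on quasi-compact
quasi-separated schemes. -/
theorem isBaseChange_cTop :
    letI := secMod A M ⊤
    letI := secMod B ((Scheme.Modules.pullback g').obj M) ⊤
    letI := secModA A B ((Scheme.Modules.pullback g').obj M) ⊤
    haveI := secTower A B ((Scheme.Modules.pullback g').obj M) ⊤
    ∀ c : Γ(M, ⊤) →ₗ[A] Γ((Scheme.Modules.pullback g').obj M, ⊤),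
      (∀ m, c m = PBH8.cUV g' M (le_top : (⊤ : X'.Opens) ≤ g' ⁻¹ᵁ ⊤) m) →
        IsBaseChange B c := by
  have hVc : IsCompact ((⊤ : X.Opens) : Set X) := by
    rw [Opens.coe_top]
    exact CompactSpace.isCompact_univ (X := X)
  have hVqs : IsQuasiSeparated ((⊤ : X.Opens) : Set X) := by
    rw [Opens.coe_top]
    exact isQuasiSeparated_univ
  obtain ⟨I, J, hI, hJ, s, t, U, T, hU, hT, hle, hcov, hTs, hTt, hTcov⟩ :=
    QBCH8.exists_cover_data (⊤ : X.Opens) hVc hVqs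
  haveI := hI
  haveI := hJ
  set P := (Scheme.Modules.pullback g').obj M with hP
  have hle' : ∀ i, g' ⁻¹ᵁ (U i) ≤ (⊤ : X'.Opens) := fun i => le_top
  have hcov' : (⊤ : X'.Opens) ≤ ⨆ i, g' ⁻¹ᵁ (U i) := by
    intro x _
    obtain ⟨i, hi⟩ := Opens.mem_iSup.mp (hcov (show g' x ∈ (⊤ : X.Opens) from trivial))
    exact Opens.mem_iSup.mpr ⟨i, hi⟩
  have hTs' : ∀ j, g' ⁻¹ᵁ (T j) ≤ g' ⁻¹ᵁ (U (s j)) := fun j x hx => hTs j hx
  have hTt' : ∀ j, g' ⁻¹ᵁ (T j) ≤ g' ⁻¹ᵁ (U (t j)) := fun j x hx => hTt j hx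
  have hTcov' : ∀ i i' x, x ∈ g' ⁻¹ᵁ (U i) → x ∈ g' ⁻¹ᵁ (U i') →
      ∃ j, s j = i ∧ t j = i' ∧ x ∈ g' ⁻¹ᵁ (T j) := by
    intro i i' x hx hx'
    obtain ⟨j, h1, h2, h3⟩ := hTcov i i' (g' x) hx hx'
    exact ⟨j, h1, h2, h3⟩
  -- modules
  letI m1 := secMod A M ⊤
  letI m2 : ∀ i, Module A Γ(M, U i) := fun i => secMod A M (U i)
  letI m3 : ∀ j, Module A Γ(M, T j) := fun j => secMod A M (T j)
  letI n1 := secMod B P ⊤
  letI n1A := secModA A B P ⊤
  haveI t1 := secTower A B P ⊤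
  letI n2 : ∀ i, Module B Γ(P, g' ⁻¹ᵁ (U i)) := fun i => secMod B P (g' ⁻¹ᵁ (U i))
  letI n2A : ∀ i, Module A Γ(P, g' ⁻¹ᵁ (U i)) := fun i => secModA A B P (g' ⁻¹ᵁ (U i))
  haveI t2 : ∀ i, IsScalarTower A B Γ(P, g' ⁻¹ᵁ (U i)) := fun i =>
    secTower A B P (g' ⁻¹ᵁ (U i))
  letI n3 : ∀ j, Module B Γ(P, g' ⁻¹ᵁ (T j)) := fun j => secMod B P (g' ⁻¹ᵁ (T j))
  letI n3A : ∀ j, Module A Γ(P, g' ⁻¹ᵁ (T j)) := fun j => secModA A B P (g' ⁻¹ᵁ (T j))
  haveI t3 : ∀ j, IsScalarTower A B Γ(P, g' ⁻¹ᵁ (T j)) := fun j =>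
    secTower A B P (g' ⁻¹ᵁ (T j))
  -- maps
  let ρ : ∀ i, Γ(M, ⊤) →ₗ[A] Γ(M, U i) := fun i => resLin A M (hle i)
  let σ : ∀ j, Γ(M, U (s j)) →ₗ[A] Γ(M, T j) := fun j => resLin A M (hTs j)
  let τ : ∀ j, Γ(M, U (t j)) →ₗ[A] Γ(M, T j) := fun j => resLin A M (hTt j)
  let ρ' : ∀ i, Γ(P, ⊤) →ₗ[B] Γ(P, g' ⁻¹ᵁ (U i)) := fun i => resLin B P (hle' i)
  let σ' : ∀ j, Γ(P, g' ⁻¹ᵁ (U (s j))) →ₗ[B] Γ(P, g' ⁻¹ᵁ (T j)) := fun j =>
    resLin B P (hTs' j)
  let τ' : ∀ j, Γ(P, g' ⁻¹ᵁ (U (t j))) →ₗ[B] Γ(P, g' ⁻¹ᵁ (T j)) := fun j =>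
    resLin B P (hTt' j)
  have hring : ∀ {V : X.Opens} (hV : IsAffineOpen V) (a : A),
      (g'.appLE V (g' ⁻¹ᵁ V) (le_refl _)).hom (rUHom (A := A) V a) =
        rUHom (A := B) (g' ⁻¹ᵁ V) (algebraMap A B a) := fun hV a =>
    congrArg (fun φ => φ.hom a) (isPushout_ring' hsq hV).2.w
  let h₂ : ∀ i, Γ(M, U i) →ₗ[A] Γ(P, g' ⁻¹ᵁ (U i)) := fun i =>
    { toFun := fun x => PBH8.cUV g' M (le_refl (g' ⁻¹ᵁ (U i))) x
      map_add' := fun x y => PBH8.cUV_add g' M _ x y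
      map_smul' := fun a x => by
        show PBH8.cUV g' M (le_refl (g' ⁻¹ᵁ (U i))) (rUHom (A := A) (U i) a • x) =
          rUHom (A := B) (g' ⁻¹ᵁ (U i)) (algebraMap A B a) •
            PBH8.cUV g' M (le_refl (g' ⁻¹ᵁ (U i))) x
        rw [PBH8.cUV_smul, ← hring (hU i) a] }
  let h₃ : ∀ j, Γ(M, T j) →ₗ[A] Γ(P, g' ⁻¹ᵁ (T j)) := fun j =>
    { toFun := fun x => PBH8.cUV g' M (le_refl (g' ⁻¹ᵁ (T j))) x
      map_add' := fun x y => PBH8.cUV_add g' M _ x y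
      map_smul' := fun a x => by
        show PBH8.cUV g' M (le_refl (g' ⁻¹ᵁ (T j))) (rUHom (A := A) (T j) a • x) =
          rUHom (A := B) (g' ⁻¹ᵁ (T j)) (algebraMap A B a) •
            PBH8.cUV g' M (le_refl (g' ⁻¹ᵁ (T j))) x
        rw [PBH8.cUV_smul, ← hring (hT j) a] }
  have b₂ : ∀ i, IsBaseChange B (h₂ i) := fun i =>
    isBaseChange_cUV_affine hsq M (hU i) (h₂ i) (fun m => rfl)
  have b₃ : ∀ j, IsBaseChange B (h₃ j) := fun j =>
    isBaseChange_cUV_affine hsq M (hT j) (h₃ j) (fun m => rfl)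
  intro c hcc
  refine QBCH8.isBaseChange_of_cover B s t c h₂ h₃ ρ σ τ ρ' σ' τ' ?_ ?_ ?_ ?_ ?_ ?_ ?_ ?_ ?_
    b₂ b₃
  · -- c₁
    intro i x
    show PBH8.cUV g' M (le_refl (g' ⁻¹ᵁ (U i))) (QcqsLoc.rF M (hle i) x) =
      QcqsLoc.rF P (hle' i) (c x)
    rw [hcc, TensH8.rF_cUV, TensH8.cUV_resV]
  · -- c₂
    intro j y
    show PBH8.cUV g' M (le_refl (g' ⁻¹ᵁ (T j))) (QcqsLoc.rF M (hTs j) y) =
      QcqsLoc.rF P (hTs' j) (PBH8.cUV g' M (le_refl (g' ⁻¹ᵁ (U (s j)))) y)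
    rw [TensH8.rF_cUV, TensH8.cUV_resV]
  · -- c₃
    intro j y
    show PBH8.cUV g' M (le_refl (g' ⁻¹ᵁ (T j))) (QcqsLoc.rF M (hTt j) y) =
      QcqsLoc.rF P (hTt' j) (PBH8.cUV g' M (le_refl (g' ⁻¹ᵁ (U (t j)))) y)
    rw [TensH8.rF_cUV, TensH8.cUV_resV]
  · intro x hx
    exact QBCH8.sheaf_inj M U ⊤ hle hcov x hx
  · intro j x
    exact QBCH8.sheaf_cmp M s t U ⊤ T hle hTs hTt j x
  · intro y hy
    exact QBCH8.sheaf_glue M s t U ⊤ T hle hcov hTs hTt hTcov y hy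
  · intro x hx
    exact QBCH8.sheaf_inj P (fun i => g' ⁻¹ᵁ (U i)) ⊤ hle' hcov' x hx
  · intro j x
    exact QBCH8.sheaf_cmp P s t (fun i => g' ⁻¹ᵁ (U i)) ⊤ (fun j => g' ⁻¹ᵁ (T j)) hle' hTs' hTt'
      j x
  · intro y hy
    exact QBCH8.sheaf_glue P s t (fun i => g' ⁻¹ᵁ (U i)) ⊤ (fun j => g' ⁻¹ᵁ (T j)) hle' hcov'
      hTs' hTt' hTcov' y hy

end Cover

section H0

variable (A : Type u) [CommRing A] {X : Scheme.{u}} [X.Over (Spec (CommRingCat.of A))]

/-- `H^0` is the group of global sections -/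
noncomputable def h0Add (M : X.Modules) : Coh.HH X M 0 ≃+ Γ(M, ⊤) :=
  Sheaf.H.equiv₀ (Coh.toAb M) Limits.isTerminalTop

theorem h0Add_hmap {M N : X.Modules} (φ : M ⟶ N) (x : Coh.HH X M 0) :
    h0Add N (Groth.Agent.HHVan.hmap φ 0 x) = φ.app ⊤ (h0Add M x) :=
  (Sheaf.H.equiv₀_naturality (hT := Limits.isTerminalTop)
    (f := (SerreCrit.TT X).map φ) x).symm

theorem h0Add_symm_hmap {M N : X.Modules} (φ : M ⟶ N) (y : Γ(M, ⊤)) :
    Groth.Agent.HHVan.hmap φ 0 ((h0Add M).symm y) = (h0Add N).symm (φ.app ⊤ y) :=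
  Sheaf.H.equiv₀_symm_naturality (hT := Limits.isTerminalTop)
    (f := (SerreCrit.TT X).map φ) y

theorem h0Add_smul (M : X.Modules) (a : A) (x : Coh.HH X M 0) :
    h0Add M (a • x) = rUHom (A := A) (X := X) ⊤ a • h0Add M x :=
  (Sheaf.H.equiv₀_naturality (hT := Limits.isTerminalTop)
    (f := Coh.smulAb M (Coh.toGlobal (X ↘ Spec (CommRingCat.of A)) a)) x).symm

/-- `H^0` is the module of global sections, `A`-linearly -/
noncomputable def h0Equiv (M : X.Modules) :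
    letI := secMod A M ⊤
    Coh.HH X M 0 ≃ₗ[A] Γ(M, ⊤) :=
  letI := secMod A M ⊤
  { toFun := fun x => h0Add M x
    invFun := fun y => (h0Add M).symm y
    map_add' := fun x y => map_add (h0Add M) x y
    map_smul' := fun a x => h0Add_smul A M a x
    left_inv := fun x => (h0Add M).symm_apply_apply x
    right_inv := fun y => (h0Add M).apply_symm_apply y }

end H0

section T0

variable {A B : Type u} [CommRing A] [CommRing B] [Algebra A B]
  {X X' : Scheme.{u}} [X.Over (Spec (CommRingCat.of A))] [X'.Over (Spec (CommRingCat.of B))]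
  (g' : X' ⟶ X)

theorem topLe : (⊤ : X'.Opens) ≤ g' ⁻¹ᵁ (⊤ : X.Opens) := le_top

/-- the canonical map on global sections -/
noncomputable def cTopHom (M : X.Modules) :
    Γ(M, ⊤) →+ Γ((Scheme.Modules.pullback g').obj M, ⊤) :=
  AddMonoidHom.mk' (fun x => PBH8.cUV g' M (topLe g') x)
    (fun x y => PBH8.cUV_add g' M _ x y)

/-- the canonical map `H^0(X, M) → H^0(X', g'^* M)` -/
noncomputable def t0 (M : X.Modules) :
    Coh.HH X M 0 →+ Coh.HH X' ((Scheme.Modules.pullback g').obj M) 0 :=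
  ((h0Add ((Scheme.Modules.pullback g').obj M)).symm.toAddMonoidHom).comp
    ((cTopHom g' M).comp (h0Add M).toAddMonoidHom)

theorem t0_apply (M : X.Modules) (x : Coh.HH X M 0) :
    t0 g' M x = (h0Add ((Scheme.Modules.pullback g').obj M)).symm
      (PBH8.cUV g' M (topLe g') (h0Add M x)) := rfl

/-- naturality of `t0` -/
theorem t0_naturality {M N : X.Modules} (φ : M ⟶ N) (x : Coh.HH X M 0) :
    t0 g' N (Groth.Agent.HHVan.hmap φ 0 x) =
      Groth.Agent.HHVan.hmap ((Scheme.Modules.pullback g').map φ) 0 (t0 g' M x) := by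
  rw [t0_apply, t0_apply, h0Add_hmap, h0Add_symm_hmap, PBH8.cUV_naturality]

variable
  (hsq : IsPullback g' (X' ↘ Spec (CommRingCat.of B)) (X ↘ Spec (CommRingCat.of A))
    (Spec.map (CommRingCat.ofHom (algebraMap A B))))

include hsq in
theorem gp_comm :
    (Scheme.ΓSpecIso (CommRingCat.of A)).inv ≫ (X ↘ Spec (CommRingCat.of A)).appTop ≫
        g'.appTop =
      CommRingCat.ofHom (algebraMap A B) ≫
        (Scheme.ΓSpecIso (CommRingCat.of B)).inv ≫ (X' ↘ Spec (CommRingCat.of B)).appTop := by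
  have h1 : (X ↘ Spec (CommRingCat.of A)).appTop ≫ g'.appTop =
      (Spec.map (CommRingCat.ofHom (algebraMap A B))).appTop ≫
        (X' ↘ Spec (CommRingCat.of B)).appTop := by
    rw [← Scheme.Hom.comp_appTop, ← Scheme.Hom.comp_appTop]
    exact congrArg Scheme.Hom.appTop hsq.w
  have h2 : (Scheme.ΓSpecIso (CommRingCat.of A)).inv ≫
      (Spec.map (CommRingCat.ofHom (algebraMap A B))).appTop =
      CommRingCat.ofHom (algebraMap A B) ≫ (Scheme.ΓSpecIso (CommRingCat.of B)).inv :=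
    (Scheme.ΓSpecIso_inv_naturality (CommRingCat.ofHom (algebraMap A B))).symm
  rw [h1, ← Category.assoc, h2, Category.assoc]

include hsq in
theorem gp_appTop_toGlobal (a : A) :
    g'.appTop.hom (Coh.toGlobal (X ↘ Spec (CommRingCat.of A)) a) =
      Coh.toGlobal (X' ↘ Spec (CommRingCat.of B)) (algebraMap A B a) :=
  congrArg (fun φ => φ.hom a) (gp_comm g' hsq)

include hsq in
theorem gp_app_rU (a : A) (V : X.Opens) :
    (g'.app V).hom (rU a V) = rU (algebraMap A B a) (g' ⁻¹ᵁ V) := by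
  have h1 := g'.naturality (homOfLE (le_top : V ≤ ⊤)).op
  have h2 := congrArg (fun φ => φ.hom (Coh.toGlobal (X ↘ Spec (CommRingCat.of A)) a)) h1
  refine h2.trans ?_
  show (X'.presheaf.map _).hom
    (g'.appTop.hom (Coh.toGlobal (X ↘ Spec (CommRingCat.of A)) a)) = _
  rw [gp_appTop_toGlobal g' hsq]
  rfl

include hsq in
theorem appLE_rUHom (V : X.Opens) (a : A) :
    (g'.appLE V (g' ⁻¹ᵁ V) (le_refl _)).hom (rUHom (A := A) V a) =
      rUHom (A := B) (g' ⁻¹ᵁ V) (algebraMap A B a) := by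
  have h : g'.appLE V (g' ⁻¹ᵁ V) (le_refl _) = g'.app V := g'.appLE_eq_app
  rw [h]
  exact gp_app_rU g' hsq a V

variable [Module.Flat A B] [CompactSpace X] [QuasiSeparatedSpace X]

include hsq in
/-- **Flat base change in degree zero.** -/
theorem isBC_t0 (M : X.Modules) [M.IsQuasicoherent] : IsBC A B (t0 g' M) := by
  set P := (Scheme.Modules.pullback g').obj M with hP
  letI m1 := secMod A M ⊤
  letI n1 := secMod B P ⊤
  letI n1A := secModA A B P ⊤
  haveI t1 := secTower A B P ⊤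
  let c : Γ(M, ⊤) →ₗ[A] Γ(P, ⊤) :=
    { toFun := fun x => PBH8.cUV g' M (topLe g') x
      map_add' := fun x y => PBH8.cUV_add g' M _ x y
      map_smul' := fun a x => by
        show PBH8.cUV g' M (topLe g') (rUHom (A := A) (X := X) ⊤ a • x) =
          rUHom (A := B) (X := X') ⊤ (algebraMap A B a) • PBH8.cUV g' M (topLe g') x
        rw [PBH8.cUV_smul]
        congr 1
        exact appLE_rUHom g' hsq ⊤ a }
  have hbc : IsBaseChange B c := isBaseChange_cTop hsq M c (fun m => rfl)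
  have h1 : IsBC A B (cTopHom g' M) := IsBC.of_isBaseChange c hbc _ (fun x => rfl)
  exact IsBC.comp_equiv h1 (h0Equiv A M) (h0Equiv B P).symm (t0 g' M) (fun q => rfl)

end T0

end Groth.Agent.Lib.FlatBCH2
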