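import Mathlib
import Groth.Prelude
import Groth.Agent.Lib.TensQC2_helper8

/-!
# The sheaf associated to a tensor product of modules (helper8)
APPEND-ONLY once landed.
-/

set_option autoImplicit false

namespace TensQCH8

open AlgebraicGeometry CategoryTheory CategoryTheory.Limits TopologicalSpace Opposite TensorProduct
open QcqsLoc MonoidalCategory TensH8 RelFPKit

universe u

section Alg

variable {A A' : Type u} [CommRing A] [CommRing A'] {ρ : A →+* A'} {a : A}
  {M N M' N' : Type u} [AddCommGroup M] [Module A M] [AddCommGroup N] [Module A N]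
  [AddCommGroup M'] [Module A' M'] [AddCommGroup N'] [Module A' N']
  {lM : M →+ M'} {lN : N →+ N'}

/-- The tensor product of two semilinear maps. -/
theorem exists_tensor_map (hM : ∀ (x : A) (m : M), lM (x • m) = ρ x • lM m)
    (hN : ∀ (x : A) (n : N), lN (x • n) = ρ x • lN n) :
    ∃ r : M ⊗[A] N →+ M' ⊗[A'] N', ∀ m n, r (m ⊗ₜ n) = lM m ⊗ₜ lN n := by
  let f : M →+ N →+ M' ⊗[A'] N' :=
    AddMonoidHom.mk' (fun m => AddMonoidHom.mk' (fun n => lM m ⊗ₜ[A'] lN n)
      (fun n n' => by rw [map_add, TensorProduct.tmul_add]))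
      (fun m m' => by
        ext n
        show lM (m + m') ⊗ₜ[A'] lN n = lM m ⊗ₜ[A'] lN n + lM m' ⊗ₜ[A'] lN n
        rw [map_add, TensorProduct.add_tmul])
  refine ⟨TensorProduct.liftAddHom f (fun x m n => ?_), fun m n => rfl⟩
  show lM (x • m) ⊗ₜ[A'] lN n = lM m ⊗ₜ[A'] lN (x • n)
  rw [hM, hN, TensorProduct.smul_tmul]

end Alg

section Tilde

variable (R : CommRingCat.{u}) (M : ModuleCat.{u} R)

/-- The map `M → Γ(M~, ⊤)` as an additive map. -/
noncomputable def toTop : M →+ Γ(tilde M, ⊤) :=
  (tilde.toOpen M ⊤).hom.toAddMonoidHom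

theorem toTop_bijective : Function.Bijective (toTop R M) :=
  ConcreteCategory.bijective_of_isIso (tilde.toOpen M ⊤)

theorem toTop_smul (x : R) (m : M) :
    toTop R M (x • m) = algebraMap R Γ(Spec R, ⊤) x • toTop R M m :=
  (tilde.toOpen M ⊤).hom.map_smul x m

theorem algebraMap_top_bijective : Function.Bijective (algebraMap R Γ(Spec R, ⊤)) := by
  have h : (homOfLE (le_top : (⊤ : (Spec R).Opens) ≤ ⊤)) = 𝟙 _ := rfl
  rw [IsAffineOpen.algebraMap_Spec_obj, h, op_id, CategoryTheory.Functor.map_id, Category.comp_id]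
  exact ConcreteCategory.bijective_of_isIso (Scheme.ΓSpecIso R).inv

theorem locData_toTop : LocData (algebraMap R Γ(Spec R, ⊤)) (1 : R) (toTop R M) := by
  refine ⟨?_, toTop_smul R M, ?_, ?_⟩
  · letI := (algebraMap R Γ(Spec R, ⊤)).toAlgebra
    exact IsLocalization.away_of_isUnit_of_bijective _ isUnit_one (algebraMap_top_bijective R)
  · intro m'
    obtain ⟨m, rfl⟩ := (toTop_bijective R M).2 m'
    exact ⟨0, m, by rw [pow_zero, one_smul]⟩
  · intro m hm
    refine ⟨0, ?_⟩
    rw [pow_zero, one_smul]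
    apply (toTop_bijective R M).1
    rw [hm, map_zero]

end Tilde

section Main

variable (R : CommRingCat.{u}) (M N : ModuleCat.{u} R)

/-- The sheaf associated to `M ⊗ N` is the tensor product of the sheaves associated to `M`, `N`. -/
theorem tilde_tensor_iso :
    Nonempty (tilde (ModuleCat.of R (M ⊗[R] N)) ≅ CohB1.tensorMod (tilde M) (tilde N)) := by
  obtain ⟨μ, hμ⟩ := exists_tensor_map (lM := toTop R M) (lN := toTop R N)
    (toTop_smul R M) (toTop_smul R N)
  have L : LocData (algebraMap R Γ(Spec R, ⊤)) 1 μ :=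
    locData_tensor (locData_toTop R M) (locData_toTop R N) μ hμ
  have hμbij : Function.Bijective μ := by
    constructor
    · rw [injective_iff_map_eq_zero]
      intro q hq
      obtain ⟨n, hn⟩ := L.ker q hq
      simpa using hn
    · intro p
      obtain ⟨n, q, hq⟩ := L.surj p
      exact ⟨q, by simpa using hq.symm⟩
  haveI : (CohB1.tensorMod (tilde M) (tilde N)).IsQuasicoherent := isQuasicoherent_tensorMod _ _
  have hη := eta_bijective (tilde M) (tilde N) (isAffineOpen_top (Spec R))
  let φ : (M ⊗[R] N) →ₗ[R]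
      ((modulesSpecToSheaf.obj (CohB1.tensorMod (tilde M) (tilde N))).presheaf.obj (op ⊤)) :=
    { toFun := fun q => eta (tilde M) (tilde N) ⊤ (μ q)
      map_add' := fun q q' => by rw [map_add]; exact (eta (tilde M) (tilde N) ⊤).map_add _ _
      map_smul' := fun x q => by
        rw [L.smul]
        exact eta_smul (tilde M) (tilde N) ⊤ _ (μ q) }
  have hφ : Function.Bijective φ := hη.comp hμbij
  let e : ModuleCat.of R (M ⊗[R] N) ≅
      ((modulesSpecToSheaf.obj (CohB1.tensorMod (tilde M) (tilde N))).presheaf.obj (op ⊤)) :=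
    (LinearEquiv.ofBijective φ hφ).toModuleIso
  haveI hiso : IsIso (CohB1.tensorMod (tilde M) (tilde N)).fromTildeΓ :=
    Scheme.Modules.isIso_fromTildeΓ_of_isQuasicoherent (CohB1.tensorMod (tilde M) (tilde N))
  exact ⟨(tilde.functor R).mapIso e ≪≫ @asIso _ _ _ _ _ hiso⟩

end Main

end TensQCH8
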