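import Mathlib
import Groth.Prelude
import Groth.Agent.Lib.BCSec1_helper2
import Groth.Agent.Lib.TensQC4_helper8
import Groth.Agent.Lib.PB10_helper8
import Groth.Agent.Lib.FlatBC2_helper2

/-!
# Sections of `f^*(M~)` and of `f^*(M~) ⊗ F` over affine opens of a scheme over `Spec A`
-/

set_option autoImplicit false
universe u
open CategoryTheory AlgebraicGeometry TopologicalSpace Opposite TensorProduct

namespace Groth.Agent.Lib.BCSecH2

open QcqsLoc Groth.Agent.Lib.FormalFnH2 Groth.Agent.Lib.FlatBCH2 TensH8 TensQCH8 PBH8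

variable (A : Type u) [CommRing A] {X : Scheme.{u}} [X.Over (Spec (CommRingCat.of A))]

/-- `f^*(M~)` -/
noncomputable abbrev NM (M : ModuleCat.{u} A) : X.Modules :=
  (Scheme.Modules.pullback (X ↘ Spec (CommRingCat.of A))).obj
    ((tilde.functor (CommRingCat.of A)).obj M)

/-- `f^*(g~)` -/
noncomputable abbrev NMmap {M M' : ModuleCat.{u} A} (g : M ⟶ M') : NM A (X := X) M ⟶ NM A M' :=
  (Scheme.Modules.pullback (X ↘ Spec (CommRingCat.of A))).map
    ((tilde.functor (CommRingCat.of A)).map g)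

lemma le_pre (V : X.Opens) : V ≤ (X ↘ Spec (CommRingCat.of A)) ⁻¹ᵁ ⊤ := le_top

/-- the canonical map `M → Γ(f^*(M~), V)` -/
noncomputable def cM (V : X.Opens) (M : ModuleCat.{u} A) : M →+ Γ(NM A (X := X) M, V) :=
  AddMonoidHom.mk' (fun m => cUV (X ↘ Spec (CommRingCat.of A)) (tilde M) (le_pre A V)
      (toTop (CommRingCat.of A) M m))
    (fun m m' => by
      rw [map_add]
      exact cUV_add _ _ _ _ _)

lemma cM_apply (V : X.Opens) (M : ModuleCat.{u} A) (m : M) :
    cM A V M m = cUV (X ↘ Spec (CommRingCat.of A)) (tilde M) (le_pre A V)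
      (toTop (CommRingCat.of A) M m) := rfl

lemma cM_res {V V' : X.Opens} (h : V' ≤ V) (M : ModuleCat.{u} A) (m : M) :
    rF (NM A M) h (cM A V M m) = cM A V' M m :=
  cUV_res (X ↘ Spec (CommRingCat.of A)) (tilde M) (le_pre A V) h _

omit A in
lemma algebraMap_top_apply' (R : CommRingCat.{u}) (a : R) :
    algebraMap R Γ(Spec R, ⊤) a = (Scheme.ΓSpecIso R).inv.hom a := by
  have h : (homOfLE (le_top : (⊤ : (Spec R).Opens) ≤ ⊤)) = 𝟙 _ := rfl
  rw [IsAffineOpen.algebraMap_Spec_obj, h, op_id, CategoryTheory.Functor.map_id, Category.comp_id]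

/-- the ring map `A → Γ(Spec A, ⊤)` -/
noncomputable def φA : A →+* Γ(Spec (CommRingCat.of A), ⊤) :=
  (Scheme.ΓSpecIso (CommRingCat.of A)).inv.hom

lemma φA_bijective : Function.Bijective (φA A) :=
  ConcreteCategory.bijective_of_isIso (Scheme.ΓSpecIso (CommRingCat.of A)).inv

lemma toTop_smul' (M : ModuleCat.{u} A) (a : A) (m : M) :
    toTop (CommRingCat.of A) M (a • m) = φA A a • toTop (CommRingCat.of A) M m := by
  have h := toTop_smul (CommRingCat.of A) M a m
  rw [algebraMap_top_apply'] at h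
  exact h

lemma appLE_φA (V : X.Opens) (a : A) :
    ((X ↘ Spec (CommRingCat.of A)).appLE ⊤ V (le_pre A V)).hom (φA A a) = rUHom (A := A) V a :=
  rfl

lemma cM_smul (V : X.Opens) (M : ModuleCat.{u} A) (a : A) (m : M) :
    cM A V M (a • m) = rUHom (A := A) V a • cM A V M m := by
  rw [cM_apply, cM_apply, toTop_smul', cUV_smul, ← appLE_φA]
  rfl

lemma cM_natural (V : X.Opens) {M M' : ModuleCat.{u} A} (g : M ⟶ M') (m : M) :
    (NMmap A (X := X) g).app V (cM A V M m) = cM A V M' (g m) := by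
  rw [cM_apply, cM_apply]
  erw [cUV_naturality]
  congr 1
  have h := tilde.toOpen_map_app (R := CommRingCat.of A) g ⊤
  have h2 := congrArg (fun ψ => (ModuleCat.Hom.hom ψ) m) h
  exact h2

end Groth.Agent.Lib.BCSecH2
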