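import Mathlib
import Groth.Prelude
import Groth.Agent.Lib.BCSec2_helper2

/-!
# Sections of `f^*(M~) ⊗ F` over affine opens: `Γ(F, V) ⊗_A M ≃ Γ(f^*(M~) ⊗ F, V)`
-/

set_option autoImplicit false
universe u
open CategoryTheory AlgebraicGeometry TopologicalSpace Opposite TensorProduct

namespace Groth.Agent.Lib.BCSecH2

open QcqsLoc Groth.Agent.Lib.FormalFnH2 Groth.Agent.Lib.FlatBCH2 TensH8 TensQCH8 PBH8

/-- sections over an open, with their `A`-module structure -/
def SecA (_A : Type u) {X : Scheme.{u}} (F : X.Modules) (V : X.Opens) : Type u := Γ(F, V)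

variable (A : Type u) [CommRing A] {X : Scheme.{u}} [X.Over (Spec (CommRingCat.of A))]

noncomputable instance (F : X.Modules) (V : X.Opens) : AddCommGroup (SecA A F V) :=
  inferInstanceAs (AddCommGroup Γ(F, V))

noncomputable instance (F : X.Modules) (V : X.Opens) : Module A (SecA A F V) := secMod A F V

lemma SecA.smul_def (F : X.Modules) (V : X.Opens) (a : A) (x : SecA A F V) :
    a • x = (show SecA A F V from (rUHom (A := A) V a • (show Γ(F, V) from x) : Γ(F, V))) := rfl

/-- restriction, `A`-linearly -/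
noncomputable def resA (F : X.Modules) {V V' : X.Opens} (h : V' ≤ V) :
    SecA A F V →ₗ[A] SecA A F V' := resLin A F h

lemma resA_apply (F : X.Modules) {V V' : X.Opens} (h : V' ≤ V) (x : SecA A F V) :
    resA A F h x = (show SecA A F V' from rF F h (show Γ(F, V) from x)) := rfl

/-- the map on sections induced by a morphism, `A`-linearly -/
noncomputable def mapA {F G : X.Modules} (ψ : F ⟶ G) (V : X.Opens) :
    SecA A F V →ₗ[A] SecA A G V where
  toFun x := (ψ.app V).hom x
  map_add' x y := map_add (ψ.app V).hom x y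
  map_smul' a x := Scheme.Modules.Hom.app_smul ψ (rUHom (A := A) V a) x

lemma mapA_apply {F G : X.Modules} (ψ : F ⟶ G) (V : X.Opens) (x : SecA A F V) :
    mapA A ψ V x = (show SecA A G V from (ψ.app V).hom (show Γ(F, V) from x)) := rfl

/-- the pairing `Γ(F, V) × M → Γ(f^*(M~) ⊗ F, V)` -/
noncomputable def pair (F : X.Modules) (V : X.Opens) (M : ModuleCat.{u} A) :
    SecA A F V →ₗ[A] M →ₗ[A] SecA A (CohB1.tensorMod (NM A M) F) V :=
  LinearMap.mk₂ A (fun x m => SecTwist.tmul (NM A M) F V (cM A V M m) x)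
    (fun x x' m => tmul_add_right _ _ V _ x x')
    (fun a x m => tmul_smul_right _ _ V (rUHom (A := A) V a) _ x)
    (fun x m m' => by
      rw [map_add]
      exact tmul_add_left _ _ V _ _ x)
    (fun a x m => by
      rw [cM_smul]
      exact tmul_smul_left _ _ V (rUHom (A := A) V a) _ x)

/-- **the comparison** `Γ(F, V) ⊗_A M → Γ(f^*(M~) ⊗ F, V)` -/
noncomputable def theta (F : X.Modules) (V : X.Opens) (M : ModuleCat.{u} A) :
    SecA A F V ⊗[A] M →ₗ[A] SecA A (CohB1.tensorMod (NM A M) F) V :=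
  TensorProduct.lift (pair A F V M)

lemma theta_tmul (F : X.Modules) (V : X.Opens) (M : ModuleCat.{u} A) (x : SecA A F V) (m : M) :
    theta A F V M (x ⊗ₜ m) = SecTwist.tmul (NM A M) F V (cM A V M m) x := rfl

/-- the twist `Γ(F, V) ⊗_A M → Γ(f^*(M~), V) ⊗_{Γ(X, V)} Γ(F, V)` -/
noncomputable def tau (F : X.Modules) (V : X.Opens) (M : ModuleCat.{u} A) :
    SecA A F V ⊗[A] M →+ PU (NM A M) F V :=
  TensorProduct.liftAddHom
    (AddMonoidHom.mk' (fun x : SecA A F V =>
        (AddMonoidHom.mk' (fun m : M => ((cM A V M m) ⊗ₜ[Γ(X, V)] (show Γ(F, V) from x) : PU (NM A M) F V))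
          (fun m m' => by rw [map_add]; exact TensorProduct.add_tmul _ _ _)))
      (fun x x' => by
        ext m
        exact TensorProduct.tmul_add _ _ _))
    (fun a x m => by
      show ((cM A V M m) ⊗ₜ[Γ(X, V)] (rUHom (A := A) V a • (show Γ(F, V) from x)) : PU (NM A M) F V) =
        ((cM A V M (a • m)) ⊗ₜ[Γ(X, V)] (show Γ(F, V) from x) : PU (NM A M) F V)
      rw [cM_smul]
      exact (TensorProduct.smul_tmul _ _ _).symm)

lemma tau_tmul (F : X.Modules) (V : X.Opens) (M : ModuleCat.{u} A) (x : SecA A F V) (m : M) :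
    tau A F V M (x ⊗ₜ m) = ((cM A V M m) ⊗ₜ[Γ(X, V)] (show Γ(F, V) from x) : PU (NM A M) F V) := rfl

lemma theta_eq (F : X.Modules) (V : X.Opens) (M : ModuleCat.{u} A) :
    (theta A F V M).toAddMonoidHom = (eta (NM A M) F V).comp (tau A F V M) := by
  apply addHom_ext_tmul
  intro x m
  rfl

theorem tau_bijective' (F : X.Modules) {V : X.Opens} (hV : IsAffineOpen V) (M : ModuleCat.{u} A) :
    Function.Bijective (tau A F V M) := by
  letI : Algebra Γ(Spec (CommRingCat.of A), ⊤) Γ(X, V) :=
    ((X ↘ Spec (CommRingCat.of A)).appLE ⊤ V (le_pre A V)).hom.toAlgebra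
  letI : Module Γ(Spec (CommRingCat.of A), ⊤)
      Γ((Scheme.Modules.pullback (X ↘ Spec (CommRingCat.of A))).obj (tilde M), V) :=
    Module.compHom _ ((X ↘ Spec (CommRingCat.of A)).appLE ⊤ V (le_pre A V)).hom
  haveI : IsScalarTower Γ(Spec (CommRingCat.of A), ⊤) Γ(X, V)
      Γ((Scheme.Modules.pullback (X ↘ Spec (CommRingCat.of A))).obj (tilde M), V) :=
    IsScalarTower.of_algebraMap_smul fun _ _ => rfl
  letI : Module Γ(X, V) (SecA A F V) := inferInstanceAs (Module Γ(X, V) Γ(F, V))
  exact tau_bijective (φA A) (φA_bijective A) (fun a x => rfl)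
    (toTop (CommRingCat.of A) M) (toTop_bijective _ _) (toTop_smul' A M)
    (cUVLin (X ↘ Spec (CommRingCat.of A)) (tilde M) (le_pre A V))
    (isBaseChange_cUV (X ↘ Spec (CommRingCat.of A)) (tilde M) (le_pre A V) hV (isAffineOpen_top _))
    (tau A F V M) (fun x m => rfl)

instance isQuasicoherent_NM (M : ModuleCat.{u} A) : (NM A (X := X) M).IsQuasicoherent :=
  inferInstanceAs
    ((Scheme.Modules.pullback (X ↘ Spec (CommRingCat.of A))).obj (tilde M)).IsQuasicoherent

theorem theta_bijective (F : X.Modules) [F.IsQuasicoherent] {V : X.Opens} (hV : IsAffineOpen V)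
    (M : ModuleCat.{u} A) : Function.Bijective (theta A F V M) := by
  have h : ⇑(theta A F V M) = ⇑((eta (NM A M) F V).comp (tau A F V M)) := by
    rw [← theta_eq]
    rfl
  rw [h]
  exact (eta_bijective (NM A M) F hV).comp (tau_bijective' A F hV M)

/-- compatibility of `theta` with restriction -/
theorem theta_res (F : X.Modules) {V V' : X.Opens} (h : V' ≤ V) (M : ModuleCat.{u} A) :
    (resA A (CohB1.tensorMod (NM A M) F) h) ∘ₗ (theta A F V M) =
      (theta A F V' M) ∘ₗ (LinearMap.rTensor M (resA A F h)) := by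
  apply TensorProduct.ext'
  intro x m
  show rF (CohB1.tensorMod (NM A M) F) h (SecTwist.tmul (NM A M) F V (cM A V M m) x) =
    SecTwist.tmul (NM A M) F V' (cM A V' M m) (rF F h x)
  rw [← cM_res A h M m]
  exact SecTwist.map_tmul (NM A M) F (homOfLE h) _ _

omit [X.Over (Spec (CommRingCat.of A))] in
/-- section formula for `ψ ⊗ F` -/
theorem tensorRightMod_map_tmul {N N' : X.Modules} (ψ : N ⟶ N') (F : X.Modules) (U : X.Opens)
    (n : Γ(N, U)) (s : Γ(F, U)) :
    (((DCoh.tensorRightMod F).map ψ).app U).hom (SecTwist.tmul N F U n s) =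
      SecTwist.tmul N' F U ((ψ.app U).hom n) s := by
  let adj := PresheafOfModules.sheafificationAdjunction.{u, u, u, u}
    (J := Opens.grothendieckTopology X) (𝟙 X.ringCatSheaf.obj)
  let P : X.PresheafOfModules := CohB1.tensorPre N F
  let Q : X.PresheafOfModules := CohB1.tensorPre N' F
  let g : P ⟶ Q := (show (CohB1.tensorPre N F : CohB1.PMod X) ⟶ (CohB1.tensorPre N' F : CohB1.PMod X) from
    MonoidalCategory.whiskerRight (show CohB1.toPMod N ⟶ CohB1.toPMod N' from ψ.val) (CohB1.toPMod F))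
  let x : ↥((CohB1.tensorPre N F).obj (op U)) := n ⊗ₜ s
  have natU : ((adj.unit.app Q).app (op U)).hom ((g.app (op U)).hom x) =
      ((((CohB1.sheafifyMod X).map g).val.app (op U)).hom
        (((adj.unit.app P).app (op U)).hom x)) :=
    congrArg (fun φ => (PresheafOfModules.Hom.app φ (op U)).hom x) (adj.unit.naturality g)
  have hg : (g.app (op U)).hom x =
      (((ψ.app U).hom n : Γ(N', U)) ⊗ₜ s : ↥((CohB1.tensorPre N' F).obj (op U))) := by
    rfl
  rw [hg] at natU
  exact natU.symm

/-- naturality of `theta` in the module -/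
theorem theta_natural (F : X.Modules) (V : X.Opens) {M M' : ModuleCat.{u} A} (g : M ⟶ M') :
    (mapA A ((DCoh.tensorRightMod F).map (NMmap A (X := X) g)) V) ∘ₗ (theta A F V M) =
      (theta A F V M') ∘ₗ (LinearMap.lTensor (SecA A F V) g.hom) := by
  apply TensorProduct.ext'
  intro x m
  show (((DCoh.tensorRightMod F).map (NMmap A (X := X) g)).app V).hom
      (SecTwist.tmul (NM A M) F V (cM A V M m) x) =
    SecTwist.tmul (NM A M') F V (cM A V M' (g.hom m)) x
  rw [tensorRightMod_map_tmul]
  congr 1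
  exact cM_natural A V g m

instance isQuasicoherent_tensorNM (F : X.Modules) [F.IsQuasicoherent] (M : ModuleCat.{u} A) :
    (CohB1.tensorMod (NM A (X := X) M) F).IsQuasicoherent :=
  isQuasicoherent_tensorMod _ _

lemma tensorAFunctor_obj (F : X.Modules) (M : ModuleCat.{u} A) :
    (CohIII.tensorAFunctor A F).obj M = CohB1.tensorMod (NM A M) F := rfl

lemma tensorAFunctor_map (F : X.Modules) {M M' : ModuleCat.{u} A} (g : M ⟶ M') :
    (CohIII.tensorAFunctor A F).map g = (DCoh.tensorRightMod F).map (NMmap A (X := X) g) := rfl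

end Groth.Agent.Lib.BCSecH2
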