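import Mathlib
import Groth.Prelude
import Groth.Agent.Lib.BCSec3_helper2
import Groth.Agent.Lib.BCCech1_helper2
import Groth.Agent.Lib.BCExt1_helper2

/-!
# The Čech complex of a module on a scheme over `Spec A`, as a `ℤ`-indexed complex of `A`-modules
-/

set_option autoImplicit false
universe u
open CategoryTheory Limits AlgebraicGeometry TopologicalSpace Opposite TensorProduct

namespace Groth.Agent.Lib.BCCxH2

open Groth.Agent.Lib.CechSite Groth.Agent.Lib.BCCechH2 Groth.Agent.Lib.BCSecH2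
  Groth.Agent.Lib.BCExtH2 QcqsLoc Groth.Agent.Lib.FormalFnH2 Groth.Agent.Lib.FlatBCH2

variable (A : Type u) [CommRing A] {X : Scheme.{u}} [X.Over (Spec (CommRingCat.of A))]
  {ι : Type u} (𝒰 : ι → X.Opens)

/-- the family over the terminal open -/
abbrev YY : ι → Over (⊤ : Opens X.toTopCat) := Yt (X := X.toTopCat) 𝒰

/-- the intersections -/
noncomputable abbrev VV {n : ℕ} (σ : Fin n → ι) : X.Opens := (T (YY 𝒰) σ).left

/-- the presheaf on `Over ⊤` -/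
noncomputable abbrev QQ (G : X.Modules) : (Over (⊤ : Opens X.toTopCat))ᵒᵖ ⥤ AddCommGrpCat.{u} :=
  (Over.forget ⊤).op ⋙ (Coh.toAb G).obj

/-- cochains with their `A`-module structure -/
abbrev Cn (G : X.Modules) (n : ℕ) : Type u := ∀ σ : Fin (n + 1) → ι, SecA A G (VV 𝒰 σ)

lemma face_le {n : ℕ} (σ : Fin (n + 2) → ι) (k : Fin (n + 2)) :
    VV 𝒰 σ ≤ VV 𝒰 (σ ∘ k.succAbove) :=
  leOfHom (face (YY 𝒰) σ k).left

/-- the differential -/
noncomputable def dA (G : X.Modules) (n : ℕ) : Cn A 𝒰 G n →ₗ[A] Cn A 𝒰 G (n + 1) :=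
  ∑ k : Fin (n + 2), ((-1 : ℤ) ^ (k : ℕ)) • LinearMap.pi (fun σ : Fin (n + 2) → ι =>
    (resA A G (face_le 𝒰 σ k)) ∘ₗ (LinearMap.proj (σ ∘ k.succAbove)))

lemma dA_apply (G : X.Modules) (n : ℕ) (β : Cn A 𝒰 G n) (σ : Fin (n + 2) → ι) :
    dA A 𝒰 G n β σ = ∑ k : Fin (n + 2), ((-1 : ℤ) ^ (k : ℕ)) •
      resA A G (face_le 𝒰 σ k) (β (σ ∘ k.succAbove)) := by
  unfold dA
  rw [LinearMap.sum_apply, Finset.sum_apply]
  rfl

lemma dA_eq_Dd (G : X.Modules) (n : ℕ) (β : Cn A 𝒰 G n) :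
    dA A 𝒰 G n β = Dd (QQ G) (YY 𝒰) n β := by
  funext σ
  rw [dA_apply, Dd_apply]
  rfl

lemma dA_dA (G : X.Modules) (n : ℕ) (β : Cn A 𝒰 G n) :
    dA A 𝒰 G (n + 1) (dA A 𝒰 G n β) = 0 := by
  rw [dA_eq_Dd, dA_eq_Dd]
  exact Dd_Dd (QQ G) (YY 𝒰) n β

/-- the terms of the `ℤ`-indexed complex -/
noncomputable def XZ (G : X.Modules) : ℤ → ModuleCat.{u} A
  | Int.ofNat n => ModuleCat.of A (Cn A 𝒰 G n)
  | Int.negSucc _ => ModuleCat.of A PUnit.{u + 1}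

/-- the differentials of the `ℤ`-indexed complex -/
noncomputable def dZ (G : X.Modules) : ∀ i : ℤ, XZ A 𝒰 G i ⟶ XZ A 𝒰 G (i + 1)
  | Int.ofNat n => (ModuleCat.ofHom (dA A 𝒰 G n) :
      XZ A 𝒰 G (Int.ofNat n) ⟶ XZ A 𝒰 G (Int.ofNat (n + 1)))
  | Int.negSucc _ => 0

lemma dZ_sq (G : X.Modules) (i : ℤ) : dZ A 𝒰 G i ≫ dZ A 𝒰 G (i + 1) = 0 := by
  cases i with
  | ofNat n =>
    show (ModuleCat.ofHom (dA A 𝒰 G n) :
        XZ A 𝒰 G (Int.ofNat n) ⟶ XZ A 𝒰 G (Int.ofNat (n + 1))) ≫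
      (ModuleCat.ofHom (dA A 𝒰 G (n + 1)) :
        XZ A 𝒰 G (Int.ofNat (n + 1)) ⟶ XZ A 𝒰 G (Int.ofNat (n + 2))) = 0
    exact ModuleCat.hom_ext (LinearMap.ext fun β => dA_dA A 𝒰 G n β)
  | negSucc n => exact zero_comp

/-- **the Čech complex of `A`-modules** -/
noncomputable def CC (G : X.Modules) : CochainComplex (ModuleCat.{u} A) ℤ :=
  CochainComplex.of (XZ A 𝒰 G) (dZ A 𝒰 G) (dZ_sq A 𝒰 G)

lemma CC_d (G : X.Modules) (n : ℕ) :
    (CC A 𝒰 G).d (Int.ofNat n) (Int.ofNat (n + 1)) = ModuleCat.ofHom (dA A 𝒰 G n) := by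
  show (CC A 𝒰 G).d (Int.ofNat n) (Int.ofNat n + 1) = _
  exact CochainComplex.of_d _ _ _

lemma isZero_CC_negSucc (G : X.Modules) (n : ℕ) : IsZero ((CC A 𝒰 G).X (Int.negSucc n)) :=
  ModuleCat.isZero_of_subsingleton (ModuleCat.of A PUnit.{u + 1})

/-- comparison with the Čech complex of abelian groups -/
noncomputable def cxCmp (G : X.Modules) :
    CxCmp (CechEdge.cx (Coh.toAb G).obj (YY 𝒰)) (CC A 𝒰 G) where
  a n := (cmp (QQ G) (YY 𝒰) n).symm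
  comm n x := by
    have h := cmp_d (QQ G) (YY 𝒰) n ((cmp (QQ G) (YY 𝒰) n).symm x)
    rw [AddEquiv.apply_symm_apply] at h
    have h2 : (cmp (QQ G) (YY 𝒰) (n + 1)).symm (Dd (QQ G) (YY 𝒰) n x) =
        ((CechEdge.cx (Coh.toAb G).obj (YY 𝒰)).d n (n + 1)).hom
          ((cmp (QQ G) (YY 𝒰) n).symm x) := by
      rw [← h, AddEquiv.symm_apply_apply]
    refine (congrArg (cmp (QQ G) (YY 𝒰) (n + 1)).symm ?_).trans h2
    rw [CC_d]
    exact dA_eq_Dd A 𝒰 G n x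
  neg n := isZero_CC_negSucc A 𝒰 G n

end Groth.Agent.Lib.BCCxH2
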