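import Mathlib
import Groth.Prelude
import Groth.Agent.Lib.BCCx1_helper2

/-!
# The Čech complex of `A`-modules computes cohomology, `A`-linearly
-/

set_option autoImplicit false
universe u
open CategoryTheory Limits AlgebraicGeometry TopologicalSpace Opposite TensorProduct

namespace Groth.Agent.Lib.BCCxH2

open Groth.Agent.Lib.CechSite Groth.Agent.Lib.BCCechH2 Groth.Agent.Lib.BCSecH2
  Groth.Agent.Lib.BCExtH2 QcqsLoc Groth.Agent.Lib.FormalFnH2 Groth.Agent.Lib.FlatBCH2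

variable (A : Type u) [CommRing A] {X : Scheme.{u}} [X.Over (Spec (CommRingCat.of A))]
  {ι : Type u} (𝒰 : ι → X.Opens)

/-- the map on cochains induced by a morphism of modules -/
noncomputable def mapCn {G G' : X.Modules} (ψ : G ⟶ G') (n : ℕ) :
    Cn A 𝒰 G n →ₗ[A] Cn A 𝒰 G' n :=
  LinearMap.pi fun σ => (mapA A ψ (VV 𝒰 σ)) ∘ₗ LinearMap.proj σ

lemma mapCn_apply {G G' : X.Modules} (ψ : G ⟶ G') (n : ℕ) (β : Cn A 𝒰 G n)
    (σ : Fin (n + 1) → ι) : mapCn A 𝒰 ψ n β σ = mapA A ψ (VV 𝒰 σ) (β σ) := rfl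

/-- the morphism of presheaves on `Over ⊤` induced by a morphism of abelian presheaves -/
noncomputable abbrev QQw {G G' : X.Modules} (φ₀ : (Coh.toAb G).obj ⟶ (Coh.toAb G').obj) :
    QQ G ⟶ QQ G' :=
  Functor.whiskerLeft (Over.forget (⊤ : Opens X.toTopCat)).op φ₀

lemma mapCn_eq_mapC {G G' : X.Modules} (ψ : G ⟶ G') (n : ℕ) (β : Cn A 𝒰 G n) :
    mapCn A 𝒰 ψ n β =
      mapC (QQw ((SheafOfModules.toSheaf X.ringCatSheaf).map ψ).hom) (YY 𝒰) n β := rfl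

lemma smul_eq_mapC (G : X.Modules) (a : A) (n : ℕ) (β : Cn A 𝒰 G n) :
    a • β = mapC (QQw (Coh.smulAb G (Coh.toGlobal (X ↘ Spec (CommRingCat.of A)) a)).hom)
      (YY 𝒰) n β := rfl

lemma cxCmp_a_mapC {G G' : X.Modules} (φ₀ : (Coh.toAb G).obj ⟶ (Coh.toAb G').obj) (n : ℕ)
    (x : Cn A 𝒰 G n) :
    (cxCmp A 𝒰 G').a n (mapC (QQw φ₀) (YY 𝒰) n x) =
      (((CechEdge.cxFunctor (YY 𝒰)).map φ₀).f n).hom ((cxCmp A 𝒰 G).a n x) := by
  have h := cmp_map (QQw φ₀) (YY 𝒰) n ((cmp (QQ G) (YY 𝒰) n).symm x)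
  rw [AddEquiv.apply_symm_apply] at h
  show (cmp (QQ G') (YY 𝒰) n).symm (mapC (QQw φ₀) (YY 𝒰) n x) = _
  rw [← h, AddEquiv.symm_apply_apply]
  rfl

omit [X.Over (Spec (CommRingCat.of A))] in
lemma homologyMap_smul_id (K : CochainComplex (ModuleCat.{u} A) ℤ) (a : A) (i : ℤ)
    (x : K.homology i) :
    (HomologicalComplex.homologyMap (a • 𝟙 K) i).hom x = a • x := by
  have h1 : (HomologicalComplex.shortComplexFunctor (ModuleCat.{u} A) (ComplexShape.up ℤ) i).map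
      (a • 𝟙 K) = a • 𝟙 _ := rfl
  have h2 : HomologicalComplex.homologyMap (a • 𝟙 K) i = a • 𝟙 _ := by
    show ShortComplex.homologyMap _ = _
    rw [h1, ShortComplex.homologyMap_smul, ShortComplex.homologyMap_id]
    rfl
  rw [h2]
  rfl

variable (hcov : ⨆ i, 𝒰 i = ⊤)

/-- **Čech cohomology of `A`-modules to sheaf cohomology** -/
noncomputable def toHH (G : X.Modules) (p : ℕ) :
    (CC A 𝒰 G).homology (Int.ofNat p) →+ Coh.HH X G p :=
  (cechToH (X := X.toTopCat) 𝒰 hcov (Coh.toAb G) p).comp ((cxCmp A 𝒰 G).H p).hom.hom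

lemma toHH_apply (G : X.Modules) (p : ℕ) (x : (CC A 𝒰 G).homology (Int.ofNat p)) :
    toHH A 𝒰 hcov G p x =
      cechToH (X := X.toTopCat) 𝒰 hcov (Coh.toAb G) p (((cxCmp A 𝒰 G).H p).hom.hom x) := rfl

theorem toHH_bijective (hU : ∀ s : Finset ι, s.Nonempty → IsAffineOpen (⨅ i ∈ s, 𝒰 i))
    (G : X.Modules) [G.IsQuasicoherent] (p : ℕ) : Function.Bijective (toHH A 𝒰 hcov G p) :=
  (cechToH_bijective (X := X.toTopCat) 𝒰 hcov (Coh.toAb G) (acyc_toAb 𝒰 hU G) p).comp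
    (ConcreteCategory.bijective_of_isIso ((cxCmp A 𝒰 G).H p).hom)

theorem toHH_smul (G : X.Modules) (p : ℕ) (a : A) (x : (CC A 𝒰 G).homology (Int.ofNat p)) :
    toHH A 𝒰 hcov G p (a • x) = a • toHH A 𝒰 hcov G p x := by
  rw [← homologyMap_smul_id]
  have hn := H_natural (cxCmp A 𝒰 G) (cxCmp A 𝒰 G)
    ((CechEdge.cxFunctor (YY 𝒰)).map
      (Coh.smulAb G (Coh.toGlobal (X ↘ Spec (CommRingCat.of A)) a)).hom)
    (a • 𝟙 (CC A 𝒰 G)) (fun n y => by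
      have h := cxCmp_a_mapC A 𝒰
        (Coh.smulAb G (Coh.toGlobal (X ↘ Spec (CommRingCat.of A)) a)).hom n y
      rw [← smul_eq_mapC] at h
      exact h) p
  have hn2 := congrArg (fun f => f.hom x) hn
  rw [toHH_apply, toHH_apply]
  refine Eq.trans (congrArg (cechToH (X := X.toTopCat) 𝒰 hcov (Coh.toAb G) p) hn2) ?_
  exact cechToH_natural (X := X.toTopCat) 𝒰 hcov
    (Coh.smulAb G (Coh.toGlobal (X ↘ Spec (CommRingCat.of A)) a)) p _

end Groth.Agent.Lib.BCCxH2
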