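import Mathlib
import Groth.Prelude
import Groth.Agent.Lib.BCCx2_helper2

/-!
# The Čech complex of `f^*(M~) ⊗ F` is `Č(F) ⊗_A M`
-/

set_option autoImplicit false
universe u
open CategoryTheory Limits AlgebraicGeometry TopologicalSpace Opposite TensorProduct

namespace Groth.Agent.Lib.BCCxH2

open Groth.Agent.Lib.CechSite Groth.Agent.Lib.BCCechH2 Groth.Agent.Lib.BCSecH2
  Groth.Agent.Lib.BCExtH2 QcqsLoc Groth.Agent.Lib.FormalFnH2 Groth.Agent.Lib.FlatBCH2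

variable (A : Type u) [CommRing A] {X : Scheme.{u}} [X.Over (Spec (CommRingCat.of A))]
  {ι : Type u} [Fintype ι] [DecidableEq ι] (𝒰 : ι → X.Opens)
  (hU : ∀ s : Finset ι, s.Nonempty → IsAffineOpen (⨅ i ∈ s, 𝒰 i))
  (F : X.Modules) [F.IsQuasicoherent]

/-- the module `f^*(M~) ⊗ F` -/
noncomputable abbrev GM (M : ModuleCat.{u} A) : X.Modules := CohB1.tensorMod (NM A M) F

/-- `Č^n(F) ⊗_A M ≃ Č^n(f^*(M~) ⊗ F)` -/
noncomputable def Theta (M : ModuleCat.{u} A) (n : ℕ) :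
    (Cn A 𝒰 F n) ⊗[A] M ≃ₗ[A] Cn A 𝒰 (GM A F M) n :=
  (TensorProduct.piLeft A M (fun σ : Fin (n + 1) → ι => SecA A F (VV 𝒰 σ))) ≪≫ₗ
    LinearEquiv.piCongrRight (fun σ : Fin (n + 1) → ι =>
      LinearEquiv.ofBijective (theta A F (VV 𝒰 σ) M)
        (theta_bijective A F (isAffineOpen_T_left 𝒰 hU σ) M))

lemma Theta_tmul (M : ModuleCat.{u} A) (n : ℕ) (β : Cn A 𝒰 F n) (m : M) (σ : Fin (n + 1) → ι) :
    Theta A 𝒰 hU F M n (β ⊗ₜ m) σ = theta A F (VV 𝒰 σ) M (β σ ⊗ₜ m) := rfl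

theorem Theta_d (M : ModuleCat.{u} A) (n : ℕ) :
    (Theta A 𝒰 hU F M (n + 1)).toLinearMap ∘ₗ (LinearMap.rTensor M (dA A 𝒰 F n)) =
      (dA A 𝒰 (GM A F M) n) ∘ₗ (Theta A 𝒰 hU F M n).toLinearMap := by
  apply TensorProduct.ext'
  intro β m
  funext σ
  show Theta A 𝒰 hU F M (n + 1) (dA A 𝒰 F n β ⊗ₜ m) σ =
    dA A 𝒰 (GM A F M) n (Theta A 𝒰 hU F M n (β ⊗ₜ m)) σ
  rw [Theta_tmul, dA_apply, dA_apply, TensorProduct.sum_tmul, map_sum]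
  refine Finset.sum_congr rfl fun k _ => ?_
  rw [Theta_tmul, ← TensorProduct.smul_tmul', map_zsmul]
  congr 1
  exact (LinearMap.congr_fun (theta_res A F (face_le 𝒰 σ k) M) (β (σ ∘ k.succAbove) ⊗ₜ m)).symm

theorem Theta_natural {M M' : ModuleCat.{u} A} (g : M ⟶ M') (n : ℕ) :
    (Theta A 𝒰 hU F M' n).toLinearMap ∘ₗ (LinearMap.lTensor (Cn A 𝒰 F n) g.hom) =
      (mapCn A 𝒰 ((DCoh.tensorRightMod F).map (NMmap A (X := X) g)) n) ∘ₗ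
        (Theta A 𝒰 hU F M n).toLinearMap := by
  apply TensorProduct.ext'
  intro β m
  funext σ
  show Theta A 𝒰 hU F M' n (β ⊗ₜ g.hom m) σ =
    mapCn A 𝒰 ((DCoh.tensorRightMod F).map (NMmap A (X := X) g)) n
      (Theta A 𝒰 hU F M n (β ⊗ₜ m)) σ
  rw [Theta_tmul, mapCn_apply, Theta_tmul]
  exact (LinearMap.congr_fun (theta_natural A F (VV 𝒰 σ) g) (β σ ⊗ₜ m)).symm

end Groth.Agent.Lib.BCCxH2
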