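import Mathlib
import Groth.Prelude
import Groth.Agent.Lib.BCCx3_helper2

/-!
# `H^p(X, f^*(M~) ⊗ F) ≅ H^p(Č(F) ⊗_A M)`, naturally in `M`
-/

set_option autoImplicit false
universe u
open CategoryTheory Limits AlgebraicGeometry TopologicalSpace Opposite TensorProduct

namespace Groth.Agent.Lib.BCCxH2

open Groth.Agent.Lib.CechSite Groth.Agent.Lib.BCCechH2 Groth.Agent.Lib.BCSecH2
  Groth.Agent.Lib.BCExtH2 QcqsLoc Groth.Agent.Lib.FormalFnH2 Groth.Agent.Lib.FlatBCH2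

variable (A : Type u) [CommRing A] {X : Scheme.{u}} [X.Over (Spec (CommRingCat.of A))]
  {ι : Type u} [Fintype ι] [DecidableEq ι] (𝒰 : ι → X.Opens)
  (hU : ∀ s : Finset ι, s.Nonempty → IsAffineOpen (⨅ i ∈ s, 𝒰 i))
  (F : X.Modules) [F.IsQuasicoherent]

lemma tensorObj_d_apply (M : ModuleCat.{u} A) (n : ℕ)
    (x : (CohIII.tensorObj (CC A 𝒰 F) M).X (Int.ofNat n)) :
    ((CohIII.tensorObj (CC A 𝒰 F) M).d (Int.ofNat n) (Int.ofNat (n + 1))).hom x =
      LinearMap.rTensor M (dA A 𝒰 F n) x := by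
  show (MonoidalCategory.whiskerRight ((CC A 𝒰 F).d (Int.ofNat n) (Int.ofNat (n + 1))) M).hom x = _
  rw [CC_d]
  rfl

/-- comparison of `Č(F) ⊗_A M` with the Čech complex of `f^*(M~) ⊗ F` -/
noncomputable def cxCmpT (M : ModuleCat.{u} A) :
    CxCmp (CechEdge.cx (Coh.toAb (GM A F M)).obj (YY 𝒰)) (CohIII.tensorObj (CC A 𝒰 F) M) where
  a n := (Theta A 𝒰 hU F M n).toAddEquiv.trans (cmp (QQ (GM A F M)) (YY 𝒰) n).symm
  comm n x := by
    have h2 := LinearMap.congr_fun (Theta_d A 𝒰 hU F M n) x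
    have h := (cxCmp A 𝒰 (GM A F M)).comm n (Theta A 𝒰 hU F M n x)
    rw [CC_d] at h
    refine Eq.trans ?_ h
    show (cmp (QQ (GM A F M)) (YY 𝒰) (n + 1)).symm (Theta A 𝒰 hU F M (n + 1) _) =
      (cmp (QQ (GM A F M)) (YY 𝒰) (n + 1)).symm _
    congr 1
    rw [tensorObj_d_apply]
    exact h2
  neg n := (MonoidalCategory.tensorRight M).map_isZero (isZero_CC_negSucc A 𝒰 F n)

lemma cxCmpT_a_apply (M : ModuleCat.{u} A) (n : ℕ)
    (x : (CohIII.tensorObj (CC A 𝒰 F) M).X (Int.ofNat n)) :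
    (cxCmpT A 𝒰 hU F M).a n x =
      (cxCmp A 𝒰 (GM A F M)).a n (Theta A 𝒰 hU F M n x) := rfl

theorem cxCmpT_natural {M M' : ModuleCat.{u} A} (g : M ⟶ M') (p : ℕ) :
    (F₂ A).map (HomologicalComplex.homologyMap (CohIII.tensorMap (CC A 𝒰 F) g) (Int.ofNat p)) ≫
        ((cxCmpT A 𝒰 hU F M').H p).hom =
      ((cxCmpT A 𝒰 hU F M).H p).hom ≫
        HomologicalComplex.homologyMap ((CechEdge.cxFunctor (YY 𝒰)).map
          ((SheafOfModules.toSheaf X.ringCatSheaf).map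
            ((DCoh.tensorRightMod F).map (NMmap A (X := X) g))).hom) p := by
  refine H_natural (cxCmpT A 𝒰 hU F M) (cxCmpT A 𝒰 hU F M') _ _ (fun n x => ?_) p
  rw [cxCmpT_a_apply, cxCmpT_a_apply]
  have h1 : ((CohIII.tensorMap (CC A 𝒰 F) g).f (Int.ofNat n)).hom x =
      LinearMap.lTensor (Cn A 𝒰 F n) g.hom x := rfl
  rw [h1]
  have h2 := LinearMap.congr_fun (Theta_natural A 𝒰 hU F g n) x
  have h3 := cxCmp_a_mapC A 𝒰 ((SheafOfModules.toSheaf X.ringCatSheaf).map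
    ((DCoh.tensorRightMod F).map (NMmap A (X := X) g))).hom n (Theta A 𝒰 hU F M n x)
  refine Eq.trans ?_ h3
  congr 1

variable (hcov : ⨆ i, 𝒰 i = ⊤)

/-- the Čech-to-derived isomorphism, in `Ab` -/
noncomputable def cechIso (G : X.Modules) [G.IsQuasicoherent] (p : ℕ) :
    (CechEdge.cx (Coh.toAb G).obj (YY 𝒰)).homology p ≅ (CohIII.HAb X p).obj G :=
  (AddEquiv.ofBijective (cechToH (X := X.toTopCat) 𝒰 hcov (Coh.toAb G) p)
    (cechToH_bijective (X := X.toTopCat) 𝒰 hcov (Coh.toAb G) (acyc_toAb 𝒰 hU G) p)).toAddCommGrpIso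

lemma cechIso_hom_apply (G : X.Modules) [G.IsQuasicoherent] (p : ℕ)
    (x : (CechEdge.cx (Coh.toAb G).obj (YY 𝒰)).homology p) :
    (cechIso 𝒰 hU hcov G p).hom.hom x = cechToH (X := X.toTopCat) 𝒰 hcov (Coh.toAb G) p x := rfl

/-- **the natural isomorphism** `H^p(Č(F) ⊗_A M) ≅ H^p(X, f^*(M~) ⊗ F)` -/
noncomputable def natIso (p : ℕ) :
    CohIII.TFun (CC A 𝒰 F) (Int.ofNat p) ⋙ forget₂ (ModuleCat.{u} A) AddCommGrpCat.{u} ≅
      CohIII.tensorAFunctor A F ⋙ CohIII.HAb X p :=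
  NatIso.ofComponents
    (fun M => (cxCmpT A 𝒰 hU F M).H p ≪≫ cechIso 𝒰 hU hcov (GM A F M) p)
    (fun {M M'} g => by
      have h := cxCmpT_natural A 𝒰 hU F g p
      show (F₂ A).map (HomologicalComplex.homologyMap (CohIII.tensorMap (CC A 𝒰 F) g)
          (Int.ofNat p)) ≫ (((cxCmpT A 𝒰 hU F M').H p).hom ≫
            (cechIso 𝒰 hU hcov (GM A F M') p).hom) =
        (((cxCmpT A 𝒰 hU F M).H p).hom ≫ (cechIso 𝒰 hU hcov (GM A F M) p).hom) ≫
          (CohIII.HAb X p).map ((DCoh.tensorRightMod F).map (NMmap A (X := X) g))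
      rw [← Category.assoc, h]
      refine (Category.assoc _ _ _).trans ?_
      refine Eq.trans ?_ (Category.assoc _ _ _).symm
      congr 1
      ext x
      exact cechToH_natural (X := X.toTopCat) 𝒰 hcov
        ((SheafOfModules.toSheaf X.ringCatSheaf).map
          ((DCoh.tensorRightMod F).map (NMmap A (X := X) g))) p x)

end Groth.Agent.Lib.BCCxH2
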