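import Mathlib

/-!
# Algebra for "vanishing of the cohomology of the fibre" arguments (helper2)

* `exists_lift_basis`: lifting a basis of `m^k / m^(k+1)` over the residue field;
* `mem_smul_of_flat`: for a flat module `M`, a relation `∑ aᵢ xᵢ ∈ J M` with the `aᵢ` independent
  modulo `J` (relative to `m`) forces `xᵢ ∈ m M` (equational criterion of flatness).

APPEND-ONLY once landed.
-/

set_option autoImplicit false
universe u

open Submodule

namespace Groth.Agent.Lib.FibVanH2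

theorem exists_lift_basis_fin {A : Type u} [CommRing A] [IsNoetherianRing A] (m : Ideal A)
    [hm : m.IsMaximal] (k : ℕ) :
    ∃ (N : ℕ) (a : Fin N → A), (∀ i, a i ∈ m ^ k) ∧
      (∀ c : Fin N → A, ∑ i, c i * a i ∈ m ^ (k + 1) → ∀ i, c i ∈ m) ∧
      (∀ w ∈ m ^ k, ∃ c : Fin N → A, w - ∑ i, c i * a i ∈ m ^ (k + 1)) := by
  classical
  letI : Field (A ⧸ m) := Ideal.Quotient.field m
  let V := (↥(m ^ k)) ⧸ (m • (⊤ : Submodule A ↥(m ^ k)))
  haveI : Module.Finite A ↥(m ^ k) := Module.IsNoetherian.finite A ↥(m ^ k)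
  haveI : Module.Finite A V := inferInstance
  haveI : IsScalarTower A (A ⧸ m) V := inferInstance
  haveI : Module.Finite (A ⧸ m) V := Module.Finite.of_restrictScalars_finite A (A ⧸ m) V
  let b := Module.finBasis (A ⧸ m) V
  let q : ↥(m ^ k) →ₗ[A] V := (m • (⊤ : Submodule A ↥(m ^ k))).mkQ
  have hq : ∀ (r : A) (x : ↥(m ^ k)), Ideal.Quotient.mk m r • q x = q (r • x) := fun _ _ => rfl
  have hmem : ∀ x : ↥(m ^ k), q x = 0 ↔ (x : A) ∈ m ^ (k + 1) := by
    intro x
    show Submodule.Quotient.mk x = 0 ↔ _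
    rw [Submodule.Quotient.mk_eq_zero, Submodule.mem_smul_top_iff, pow_succ', smul_eq_mul]
  choose a' ha' using fun i => Submodule.mkQ_surjective (m • ⊤ : Submodule A ↥(m ^ k)) (b i)
  refine ⟨_, fun i => (a' i : A), fun i => (a' i).2, ?_, ?_⟩
  · intro c hc
    have h1 : ∑ i, Ideal.Quotient.mk m (c i) • b i = 0 := by
      have h2 : ∑ i, Ideal.Quotient.mk m (c i) • b i = q (∑ i, c i • a' i) := by
        rw [map_sum]
        refine Finset.sum_congr rfl (fun i _ => ?_)
        rw [← ha' i]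
        exact hq _ _
      rw [h2, hmem]
      simpa using hc
    have h3 := Fintype.linearIndependent_iff.mp b.linearIndependent _ h1
    intro i
    exact Ideal.Quotient.eq_zero_iff_mem.mp (h3 i)
  · intro w hw
    have h1 := b.sum_repr (q ⟨w, hw⟩)
    choose c hc using fun i => Ideal.Quotient.mk_surjective (b.repr (q ⟨w, hw⟩) i)
    refine ⟨c, ?_⟩
    have h2 : q ((⟨w, hw⟩ : ↥(m ^ k)) - ∑ i, c i • a' i) = 0 := by
      rw [map_sub, map_sum, sub_eq_zero, ← h1]
      refine Finset.sum_congr rfl (fun i _ => ?_)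
      rw [← hc i, ← ha' i]
      exact (hq _ _).symm
    rw [hmem] at h2
    simpa using h2

/-- a lift of a basis of `m^k/m^(k+1)`, indexed by a finite type in `Type u` -/
theorem exists_lift_basis {A : Type u} [CommRing A] [IsNoetherianRing A] (m : Ideal A)
    [hm : m.IsMaximal] (k : ℕ) :
    ∃ (σ : Type u) (_ : Fintype σ) (a : σ → A), (∀ i, a i ∈ m ^ k) ∧
      (∀ c : σ → A, ∑ i, c i * a i ∈ m ^ (k + 1) → ∀ i, c i ∈ m) ∧
      (∀ w ∈ m ^ k, ∃ c : σ → A, w - ∑ i, c i * a i ∈ m ^ (k + 1)) := by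
  obtain ⟨N, a, h1, h2, h3⟩ := exists_lift_basis_fin m k
  refine ⟨ULift.{u} (Fin N), inferInstance, fun i => a i.down, fun i => h1 i.down, ?_, ?_⟩
  · intro c hc i
    have e : ∑ i : ULift.{u} (Fin N), c i * a i.down = ∑ j : Fin N, c ⟨j⟩ * a j :=
      Fintype.sum_equiv Equiv.ulift _ _ (fun _ => rfl)
    rw [e] at hc
    exact h2 (fun j => c ⟨j⟩) hc i.down
  · intro w hw
    obtain ⟨c, hc⟩ := h3 w hw
    refine ⟨fun i => c i.down, ?_⟩
    have e : ∑ i : ULift.{u} (Fin N), c i.down * a i.down = ∑ j : Fin N, c j * a j :=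
      Fintype.sum_equiv Equiv.ulift _ _ (fun _ => rfl)
    rw [e]
    exact hc

/-- elements of `J • ⊤` are finite `J`-combinations -/
theorem exists_sum_of_mem_smul_top {A M : Type*} [CommRing A] [AddCommGroup M] [Module A M]
    (J : Ideal A) (z : M) (hz : z ∈ J • (⊤ : Submodule A M)) :
    ∃ (ι : Type) (_ : Fintype ι) (b : ι → A) (y : ι → M), (∀ j, b j ∈ J) ∧
      z = ∑ j, b j • y j := by
  refine Submodule.smul_induction_on hz ?_ ?_
  · intro r hr n _
    exact ⟨Unit, inferInstance, fun _ => r, fun _ => n, fun _ => hr, by simp⟩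
  · rintro x y ⟨ι₁, _, b₁, y₁, hb₁, rfl⟩ ⟨ι₂, _, b₂, y₂, hb₂, rfl⟩
    refine ⟨ι₁ ⊕ ι₂, inferInstance, Sum.elim b₁ b₂, Sum.elim y₁ y₂, ?_, ?_⟩
    · rintro (j | j)
      · exact hb₁ j
      · exact hb₂ j
    · rw [Fintype.sum_sum_type]
      rfl

/-- **Flatness and independence.** -/
theorem mem_smul_of_flat {A M : Type*} [CommRing A] [AddCommGroup M] [Module A M]
    [Module.Flat A M] (m J : Ideal A) {σ : Type*} [Fintype σ] (a : σ → A)
    (hind : ∀ c : σ → A, ∑ i, c i * a i ∈ J → ∀ i, c i ∈ m)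
    (x : σ → M) (hx : ∑ i, a i • x i ∈ J • (⊤ : Submodule A M)) :
    ∀ i, x i ∈ m • (⊤ : Submodule A M) := by
  classical
  obtain ⟨ι, _, b, y, hb, hsum⟩ := exists_sum_of_mem_smul_top J _ hx
  have hrel : ∑ t : σ ⊕ ι, (Sum.elim a (fun j => - b j) t) • (Sum.elim x y t) = 0 := by
    rw [Fintype.sum_sum_type]
    simp only [Sum.elim_inl, Sum.elim_inr, neg_smul, Finset.sum_neg_distrib]
    rw [hsum, add_neg_cancel]
  obtain ⟨k, c, z, hxz, hc⟩ := Module.Flat.isTrivialRelation_of_sum_smul_eq_zero hrel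
  have hcm : ∀ l i, c (Sum.inl i) l ∈ m := by
    intro l
    apply hind (fun i => c (Sum.inl i) l)
    have h1 := hc l
    rw [Fintype.sum_sum_type] at h1
    simp only [Sum.elim_inl, Sum.elim_inr, neg_mul, Finset.sum_neg_distrib] at h1
    have h2 : ∑ i, c (Sum.inl i) l * a i = ∑ j, b j * c (Sum.inr j) l := by
      rw [← sub_eq_zero, sub_eq_add_neg, ← h1]
      congr 1
      exact Finset.sum_congr rfl (fun i _ => mul_comm _ _)
    rw [h2]
    exact Ideal.sum_mem _ (fun j _ => Ideal.mul_mem_right _ _ (hb j))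
  intro i
  have h3 := hxz (Sum.inl i)
  simp only [Sum.elim_inl] at h3
  rw [h3]
  exact Submodule.sum_mem _ (fun l _ => Submodule.smul_mem_smul (hcm l i) Submodule.mem_top)

end Groth.Agent.Lib.FibVanH2
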