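import Mathlib
import Groth.Prelude
import Groth.Agent.Lib.FormalModPow_helper4

/-!
# The modules `I^n F` and their shift maps (helper2)

For `X` over `Spec A`, an ideal `I` of `A` and an `O_X`-module `F`, the submodules
`I^n F = Formal2.idealPowMod I n F` (the kernel of `F ⟶ F/I^nF`), the maps `pwMul a : I^nF ⟶ I^(n+1)F`
(multiplication by `a ∈ I`), the inclusions, and the epimorphism `∐_i I^nF ⟶ I^(n+1)F` attached to
generators `a i` of `I`.
APPEND-ONLY once landed.
-/

set_option autoImplicit false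
universe u

open CategoryTheory CategoryTheory.Limits AlgebraicGeometry

namespace Groth.Agent.Lib.FormalFnH2

open Formal Groth.Agent.Lib.FormalModPowH4

variable {A : Type u} [CommRing A] {X : Scheme.{u}} [X.Over (Spec (CommRingCat.of A))]

section Basic

variable (M : X.Modules)

theorem rU_add (a b : A) (U : X.Opens) : rU (X := X) (a + b) U = rU a U + rU b U := by
  unfold rU
  rw [map_add, map_add]
  rfl

theorem rU_zero (U : X.Opens) : rU (X := X) (0 : A) U = 0 := by
  unfold rU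
  rw [map_zero, map_zero]
  rfl

theorem smulMod_add (a b : A) :
    Formal.smulMod A M (a + b) = Formal.smulMod A M a + Formal.smulMod A M b := by
  refine Scheme.Modules.hom_ext _ _ (fun U => ?_)
  ext x
  show (Formal.smulMod A M (a + b)).app U x =
    (Formal.smulMod A M a).app U x + (Formal.smulMod A M b).app U x
  rw [smulMod_app, smulMod_app, smulMod_app, rU_add, add_smul]

theorem smulMod_zero : Formal.smulMod A M (0 : A) = 0 := by
  refine Scheme.Modules.hom_ext _ _ (fun U => ?_)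
  ext x
  show (Formal.smulMod A M (0 : A)).app U x = 0
  rw [smulMod_app, rU_zero, zero_smul]

theorem smulMod_sum {ι : Type*} (s : Finset ι) (f : ι → A) :
    Formal.smulMod A M (∑ i ∈ s, f i) = ∑ i ∈ s, Formal.smulMod A M (f i) := by
  classical
  induction s using Finset.induction_on with
  | empty => rw [Finset.sum_empty, Finset.sum_empty, smulMod_zero]
  | insert i s hi ih => rw [Finset.sum_insert hi, Finset.sum_insert hi, smulMod_add, ih]

theorem ι_smulFamily (J : Ideal A) (a : J) :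
    Sigma.ι (fun _ : J => M) a ≫ Formal.smulFamily J M = Formal.smulMod A M (a : A) := by
  unfold Formal.smulFamily
  exact Sigma.ι_desc _ _

theorem smulMod_π_of_mem (J : Ideal A) {a : A} (ha : a ∈ J) :
    Formal.smulMod A M a ≫ cokernel.π (Formal.smulFamily J M) = 0 := by
  rw [← ι_smulFamily M J ⟨a, ha⟩, Category.assoc, cokernel.condition, comp_zero]

theorem smulMod_modPowπ (I : Ideal A) (n : ℕ) {a : A} (ha : a ∈ I ^ n) :
    Formal.smulMod A M a ≫ Formal.modPowπ I n M = 0 :=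
  smulMod_π_of_mem M (I ^ n) ha

instance epi_modPowπ (I : Ideal A) (n : ℕ) : Epi (Formal.modPowπ I n M) := by
  unfold Formal.modPowπ
  exact coequalizer.π_epi

/-- `M / I^n M` is killed by `I^n`. -/
theorem smulMod_modPow_eq_zero (I : Ideal A) (n : ℕ) {a : A} (ha : a ∈ I ^ n) :
    Formal.smulMod A (Formal.modPow I n M) a = 0 := by
  rw [← cancel_epi (Formal.modPowπ I n M), comp_zero, ← smulMod_naturality,
    smulMod_modPowπ M I n ha]

end Basic

section Pw

variable (I : Ideal A) (F : X.Modules)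

/-- `I^n F` -/
noncomputable abbrev pw (n : ℕ) : X.Modules := Formal2.idealPowMod I n F

/-- the inclusion `I^n F ⟶ F` -/
noncomputable abbrev pwι (n : ℕ) : pw I F n ⟶ F := Formal2.idealPowModι I n F

theorem pwι_π (n : ℕ) : pwι I F n ≫ Formal.modPowπ I n F = 0 := kernel.condition _

/-- the short exact sequence `0 → I^nF → F → F/I^nF → 0` -/
noncomputable abbrev pwSC (n : ℕ) : ShortComplex X.Modules :=
  ShortComplex.mk (pwι I F n) (Formal.modPowπ I n F) (pwι_π I F n)

theorem pwSC_shortExact (n : ℕ) : (pwSC I F n).ShortExact :=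
  { exact := ShortComplex.exact_kernel (Formal.modPowπ I n F)
    mono_f := inferInstanceAs (Mono (kernel.ι (Formal.modPowπ I n F)))
    epi_g := epi_modPowπ F I n }

/-- the canonical epimorphism `∐_{b ∈ I^n} F ⟶ I^n F` -/
noncomputable def pwE (n : ℕ) : (∐ fun _ : (I ^ n : Ideal A) => F) ⟶ pw I F n :=
  kernel.lift _ (Formal.smulFamily (I ^ n) F) (cokernel.condition _)

theorem pwE_ι (n : ℕ) : pwE I F n ≫ pwι I F n = Formal.smulFamily (I ^ n) F :=
  kernel.lift_ι _ _ _

instance epi_pwE (n : ℕ) : Epi (pwE I F n) :=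
  inferInstanceAs (Epi (Abelian.factorThruImage (Formal.smulFamily (I ^ n) F)))

/-- multiplication by `b ∈ I^n` as a map `F ⟶ I^n F` -/
noncomputable def pwIn (n : ℕ) (b : A) (hb : b ∈ I ^ n) : F ⟶ pw I F n :=
  Sigma.ι (fun _ : (I ^ n : Ideal A) => F) ⟨b, hb⟩ ≫ pwE I F n

theorem pwIn_ι (n : ℕ) (b : A) (hb : b ∈ I ^ n) :
    pwIn I F n b hb ≫ pwι I F n = Formal.smulMod A F b := by
  unfold pwIn
  rw [Category.assoc, pwE_ι, ι_smulFamily]

/-- a morphism out of `F` killing all multiplications by `b ∈ I^n` vanishes on `I^n F` -/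
theorem pwι_comp_eq_zero {T : X.Modules} (n : ℕ) (g : F ⟶ T)
    (h : ∀ b ∈ I ^ n, Formal.smulMod A F b ≫ g = 0) : pwι I F n ≫ g = 0 := by
  rw [← cancel_epi (pwE I F n), comp_zero, ← Category.assoc, pwE_ι]
  apply Sigma.hom_ext
  intro b
  rw [comp_zero, ← Category.assoc, ι_smulFamily]
  exact h b.1 b.2

/-- a morphism out of `I^n F` is determined by its values on the `b F`, `b ∈ I^n` -/
theorem pw_hom_ext {T : X.Modules} (n : ℕ) (g g' : pw I F n ⟶ T)
    (h : ∀ (b : A) (hb : b ∈ I ^ n), pwIn I F n b hb ≫ g = pwIn I F n b hb ≫ g') : g = g' := by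
  rw [← cancel_epi (pwE I F n)]
  apply Sigma.hom_ext
  intro b
  have := h b.1 b.2
  unfold pwIn at this
  rw [Category.assoc, Category.assoc] at this
  exact this

theorem pwι_smul_π (a : A) (ha : a ∈ I) (n : ℕ) :
    (pwι I F n ≫ Formal.smulMod A F a) ≫ Formal.modPowπ I (n + 1) F = 0 := by
  rw [Category.assoc]
  apply pwι_comp_eq_zero
  intro b hb
  rw [← Category.assoc, ← smulMod_mul]
  apply smulMod_modPowπ
  rw [pow_succ']
  exact Ideal.mul_mem_mul ha hb

/-- multiplication by `a ∈ I` as a map `I^n F ⟶ I^(n+1) F` -/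
noncomputable def pwMul (a : A) (ha : a ∈ I) (n : ℕ) : pw I F n ⟶ pw I F (n + 1) :=
  kernel.lift _ (pwι I F n ≫ Formal.smulMod A F a) (pwι_smul_π I F a ha n)

theorem pwMul_ι (a : A) (ha : a ∈ I) (n : ℕ) :
    pwMul I F a ha n ≫ pwι I F (n + 1) = pwι I F n ≫ Formal.smulMod A F a :=
  kernel.lift_ι _ _ _

/-- the inclusion `I^k F ⟶ I^n F`, `n ≤ k` -/
noncomputable abbrev pwInc {n k : ℕ} (h : n ≤ k) : pw I F k ⟶ pw I F n :=
  Formal2.idealPowIncl I h F

theorem pwInc_ι {n k : ℕ} (h : n ≤ k) : pwInc I F h ≫ pwι I F n = pwι I F k :=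
  kernel.lift_ι _ _ _

theorem pwInc_refl (n : ℕ) : pwInc I F (le_refl n) = 𝟙 _ := by
  rw [← cancel_mono (pwι I F n), pwInc_ι, Category.id_comp]

theorem pwInc_trans {n m k : ℕ} (h₁ : n ≤ m) (h₂ : m ≤ k) :
    pwInc I F h₂ ≫ pwInc I F h₁ = pwInc I F (h₁.trans h₂) := by
  rw [← cancel_mono (pwι I F n), Category.assoc, pwInc_ι, pwInc_ι, pwInc_ι]

theorem pwMul_inc (a : A) (ha : a ∈ I) (n : ℕ) :
    pwMul I F a ha n ≫ pwInc I F (Nat.le_succ n) = Formal.smulMod A (pw I F n) a := by
  rw [← cancel_mono (pwι I F n), Category.assoc, pwInc_ι, pwMul_ι, smulMod_naturality]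

theorem pwIn_mul (a : A) (ha : a ∈ I) (n : ℕ) (b : A) (hb : b ∈ I ^ n)
    (hab : a * b ∈ I ^ (n + 1)) :
    pwIn I F n b hb ≫ pwMul I F a ha n = pwIn I F (n + 1) (a * b) hab := by
  rw [← cancel_mono (pwι I F (n + 1)), Category.assoc, pwMul_ι, ← Category.assoc, pwIn_ι, pwIn_ι,
    smulMod_mul]

/-- the morphism of short exact sequences for `n ≤ k` -/
noncomputable def pwSCMap {n k : ℕ} (h : n ≤ k) : pwSC I F k ⟶ pwSC I F n where
  τ₁ := pwInc I F h
  τ₂ := 𝟙 F
  τ₃ := Formal2.modPowLE I h F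
  comm₁₂ := by
    show pwInc I F h ≫ pwι I F n = pwι I F k ≫ 𝟙 F
    rw [pwInc_ι, Category.comp_id]
  comm₂₃ := by
    show 𝟙 F ≫ Formal.modPowπ I n F = Formal.modPowπ I k F ≫ Formal2.modPowLE I h F
    rw [Formal2.modPowπ_modPowLE, Category.id_comp]

end Pw

section Gen

variable (I : Ideal A) (F : X.Modules) {σ : Type u} [Fintype σ] (a : σ → A)
  (ha : ∀ i, a i ∈ I)

/-- the sum of the multiplication maps -/
noncomputable def pwMulSum (n : ℕ) : (∐ fun _ : σ => pw I F n) ⟶ pw I F (n + 1) :=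
  Sigma.desc (fun i => pwMul I F (a i) (ha i) n)

theorem ι_pwMulSum (n : ℕ) (i : σ) :
    Sigma.ι (fun _ : σ => pw I F n) i ≫ pwMulSum I F a ha n = pwMul I F (a i) (ha i) n := by
  unfold pwMulSum
  exact Sigma.ι_desc _ _

theorem exists_decomp (hspan : Ideal.span (Set.range a) = I) (n : ℕ) (b : A)
    (hb : b ∈ I ^ (n + 1)) : ∃ c : σ → A, (∀ i, c i ∈ I ^ n) ∧ b = ∑ i, a i * c i := by
  rw [pow_succ] at hb
  have h1 : b ∈ (I ^ n) • (Submodule.span A (Set.range a) : Submodule A A) := by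
    rw [show (Submodule.span A (Set.range a) : Submodule A A) = I from hspan]
    exact hb
  rw [Submodule.mem_ideal_smul_span_iff_exists_sum] at h1
  obtain ⟨c, hc, rfl⟩ := h1
  refine ⟨fun i => c i, hc, ?_⟩
  rw [Finsupp.sum_fintype c (fun i c => c • a i) (fun i => zero_smul _ _)]
  exact Finset.sum_congr rfl (fun i _ => by rw [smul_eq_mul, mul_comm])

include ha in
theorem epi_pwMulSum (hspan : Ideal.span (Set.range a) = I) (n : ℕ) :
    Epi (pwMulSum I F a ha n) := by
  refine Preadditive.epi_of_cancel_zero _ (fun {Z} c hc => ?_)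
  apply pw_hom_ext
  intro b hb
  rw [comp_zero]
  obtain ⟨c', hc', rfl⟩ := exists_decomp I a hspan n b hb
  have hmem : ∀ i, a i * c' i ∈ I ^ (n + 1) := fun i => by
    rw [pow_succ']
    exact Ideal.mul_mem_mul (ha i) (hc' i)
  have h1 : pwIn I F (n + 1) (∑ i, a i * c' i) hb =
      ∑ i, pwIn I F n (c' i) (hc' i) ≫ pwMul I F (a i) (ha i) n := by
    rw [← cancel_mono (pwι I F (n + 1)), pwIn_ι, Preadditive.sum_comp, smulMod_sum]
    refine Finset.sum_congr rfl (fun i _ => ?_)
    rw [pwIn_mul I F (a i) (ha i) n (c' i) (hc' i) (hmem i), pwIn_ι]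
  rw [h1, Preadditive.sum_comp]
  refine Finset.sum_eq_zero (fun i _ => ?_)
  rw [Category.assoc, ← ι_pwMulSum I F a ha n i, Category.assoc, hc, comp_zero, comp_zero]

end Gen

end Groth.Agent.Lib.FormalFnH2
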