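import Mathlib
import Groth.Agent.Lib.Leray_helper9
import Groth.Agent.Lib.LerayNat_helper9

/-!
# The degenerate Leray comparison, compatibly with endomorphisms (helper2)

`exists_H_addEquiv_push_nat`: if `R^{q+1} f_* F = 0` for all `q`, there is an additive isomorphism
`H^p(X, F) ≃ H^p(Y, f_* F)` compatible with all endomorphisms of `F`.
APPEND-ONLY once landed.
-/

set_option autoImplicit false
universe w w' u

open CategoryTheory CategoryTheory.Limits Opposite TopologicalSpace
open Groth.Agent.Lib.FreeSheaf Groth.Agent.Lib.FlasqueAcyclic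

namespace Groth.Agent.Lib.FormalFnH2

open Leray

section Ext

variable {C : Type*} [Category C] [Abelian C] [HasExt.{w} C]
variable {C' : Type*} [Category C'] [Abelian C'] [HasExt.{w'} C']

/-- Comparison of `Ext` groups computed by two injective resolutions whose `Hom` complexes are
identified, compatibly with endomorphisms. -/
theorem exists_ext_addEquiv_nat {K G : C} (R : InjectiveResolution G) {K' G' : C'}
    (R' : InjectiveResolution G')
    (θ : ∀ n, (K ⟶ R.cocomplex.X n) ≃+ (K' ⟶ R'.cocomplex.X n))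
    (hθ : ∀ n (a : K ⟶ R.cocomplex.X n),
      θ (n + 1) (a ≫ R.cocomplex.d n (n + 1)) = θ n a ≫ R'.cocomplex.d n (n + 1))
    (p : ℕ) : ∃ e : Abelian.Ext.{w} K G (p + 1) ≃+ Abelian.Ext.{w'} K' G' (p + 1),
      ∀ (g : G ⟶ G) (g' : G' ⟶ G') (φ : InjectiveResolution.Hom R R g)
        (φ' : InjectiveResolution.Hom R' R' g'),
        (∀ a : K ⟶ R.cocomplex.X (p + 1),
          θ (p + 1) (a ≫ φ.hom.f (p + 1)) = θ (p + 1) a ≫ φ'.hom.f (p + 1)) →
        ∀ x, e (x.comp (Abelian.Ext.mk₀ g) (add_zero _)) =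
          (e x).comp (Abelian.Ext.mk₀ g') (add_zero _) := by
  have hmem : ∀ a : K ⟶ R.cocomplex.X (p + 1),
      a ∈ cocyc K R (p + 1) ↔ θ (p + 1) a ∈ cocyc K' R' (p + 1) := by
    intro a
    rw [mem_cocyc, mem_cocyc, ← hθ]
    constructor
    · intro h
      rw [h, map_zero]
    · intro h
      exact (θ (p + 1 + 1)).injective (h.trans (map_zero _).symm)
  let τ : cocyc K R (p + 1) →+ cocyc K' R' (p + 1) :=
    AddMonoidHom.mk' (fun a => ⟨θ (p + 1) a.1, (hmem a.1).mp a.2⟩)
      (fun a b => Subtype.ext (map_add (θ (p + 1)) a.1 b.1))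
  have hτ : Function.Surjective τ := by
    rintro ⟨b, hb⟩
    refine ⟨⟨(θ (p + 1)).symm b, (hmem _).mpr ?_⟩, Subtype.ext (AddEquiv.apply_symm_apply _ b)⟩
    rw [AddEquiv.apply_symm_apply]
    exact hb
  have hk : ∀ a, extHom K R (p + 1) a = 0 ↔ ((extHom K' R' (p + 1)).comp τ) a = 0 := by
    intro a
    rw [extHom_eq_zero_iff]
    show _ ↔ extHom K' R' (p + 1) (τ a) = 0
    rw [extHom_eq_zero_iff]
    constructor
    · rintro ⟨g, hg⟩
      refine ⟨θ p g, ?_⟩
      rw [← hθ, hg]
      rfl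
    · rintro ⟨g', hg'⟩
      refine ⟨(θ p).symm g', (θ (p + 1)).injective ?_⟩
      rw [hθ, AddEquiv.apply_symm_apply]
      exact hg'
  obtain ⟨e, he⟩ := Groth.Agent.LerayNat.exists_addEquiv_of_surj (extHom K R (p + 1))
    ((extHom K' R' (p + 1)).comp τ) (extHom_surjective K R (p + 1))
    ((extHom_surjective K' R' (p + 1)).comp hτ) hk
  refine ⟨e, ?_⟩
  intro g g' φ φ' hφ x
  obtain ⟨a, rfl⟩ := extHom_surjective K R (p + 1) x
  have ha2 : a.1 ≫ R.cocomplex.d (p + 1) (p + 1 + 1) = 0 := (mem_cocyc R _ a.1).mp a.2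
  have ha' : (a.1 ≫ φ.hom.f (p + 1)) ∈ cocyc K R (p + 1) := by
    rw [mem_cocyc, Category.assoc, φ.hom.comm, ← Category.assoc, ha2, zero_comp]
  have h1 : (extHom K R (p + 1) a).comp (Abelian.Ext.mk₀ g) (add_zero _) =
      extHom K R (p + 1) ⟨a.1 ≫ φ.hom.f (p + 1), ha'⟩ :=
    InjectiveResolution.extMk_comp_mk₀ a.1 (p + 1 + 1) rfl ha2 φ
  rw [h1, he, he]
  have h2 := InjectiveResolution.extMk_comp_mk₀ (θ (p + 1) a.1) (p + 1 + 1) rfl
    ((mem_cocyc R' _ _).mp ((hmem a.1).mp a.2)) φ'
  refine Eq.trans ?_ h2.symm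
  have key : ∀ (b c : K' ⟶ R'.cocomplex.X (p + 1))
      (hb : b ≫ R'.cocomplex.d (p + 1) (p + 1 + 1) = 0)
      (hc : c ≫ R'.cocomplex.d (p + 1) (p + 1 + 1) = 0), b = c →
      R'.extMk b (p + 1 + 1) rfl hb = R'.extMk c (p + 1 + 1) rfl hc := by
    intro b c hb hc hbc
    subst hbc
    rfl
  exact key (θ (p + 1) (a.1 ≫ φ.hom.f (p + 1))) _
    ((mem_cocyc R' _ _).mp ((hmem _).mp ha')) _ (hφ a.1)

end Ext

section Top

variable {X Y : TopCat.{u}}

/-- a lift of an endomorphism to an injective resolution -/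
noncomputable def resHom {F : CohTop.Ab X} (R : InjectiveResolution F) (g : F ⟶ F) :
    InjectiveResolution.Hom R R g :=
  ⟨InjectiveResolution.desc g R R, by simpa using InjectiveResolution.desc_commutes_zero g R R⟩

/-- its pushforward -/
noncomputable def pushHom (f : X ⟶ Y) (F : CohTop.Ab X) (R : InjectiveResolution F)
    (h : ∀ q : ℕ, IsZero ((CohTop.Rpush f (q + 1)).obj F)) (g : F ⟶ F)
    (φ : InjectiveResolution.Hom R R g) :
    InjectiveResolution.Hom (pushRes f F R h) (pushRes f F R h) ((CohTop.push f).map g) where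
  hom := ((CohTop.push f).mapHomologicalComplex _).map φ.hom
  ι_f_zero_comp_hom_f_zero := by
    have h1 : (pushRes f F R h).ι ≫ ((CohTop.push f).mapHomologicalComplex _).map φ.hom =
        (CochainComplex.single₀ _).map ((CohTop.push f).map g) ≫ (pushRes f F R h).ι := by
      show ((HomologicalComplex.singleMapHomologicalComplex (CohTop.push f)
        (ComplexShape.up ℕ) 0).inv.app F ≫
          ((CohTop.push f).mapHomologicalComplex _).map R.ι) ≫ _ = _ ≫ (_ ≫ _)
      rw [Category.assoc, ← Functor.map_comp, φ.ι_comp_hom, Functor.map_comp, ← Category.assoc,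
        ← Category.assoc]
      congr 1
      exact ((HomologicalComplex.singleMapHomologicalComplex (CohTop.push f)
        (ComplexShape.up ℕ) 0).inv.naturality g).symm
    exact HomologicalComplex.congr_hom h1 0

/-- **Degenerate Leray, compatibly with endomorphisms.** -/
theorem exists_H_addEquiv_push_nat (f : X ⟶ Y) (F : CohTop.Ab X)
    (h : ∀ q : ℕ, IsZero ((CohTop.Rpush f (q + 1)).obj F)) (p : ℕ) :
    ∃ e : CohTop.H F p ≃+ CohTop.H ((CohTop.push f).obj F) p,
      ∀ (g : F ⟶ F) (x : CohTop.H F p),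
        e (Sheaf.H.map g p x) = Sheaf.H.map ((CohTop.push f).map g) p (e x) := by
  cases p with
  | zero =>
    let e1 := Sheaf.H.equiv₀ F isTerminalTop
    let e2 := Sheaf.H.equiv₀ ((CohTop.push f).obj F) isTerminalTop
    refine ⟨e1.trans e2.symm, fun g x => ?_⟩
    have h1 : Sheaf.H.map ((CohTop.push f).map g) 0 (e2.symm (e1 x)) =
        e2.symm (((CohTop.push f).map g).hom.app (op ⊤) (e1 x)) :=
      Sheaf.H.equiv₀_symm_naturality (hT := isTerminalTop) (f := (CohTop.push f).map g) (e1 x)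
    have h2 : g.hom.app (op ⊤) (e1 x) = e1 (Sheaf.H.map g 0 x) :=
      Sheaf.H.equiv₀_naturality (hT := isTerminalTop) (f := g) x
    show e2.symm (e1 (Sheaf.H.map g 0 x)) =
      Sheaf.H.map ((CohTop.push f).map g) 0 (e2.symm (e1 x))
    rw [h1, ← h2]
    rfl
  | succ p =>
    obtain ⟨e, he⟩ := exists_ext_addEquiv_nat (injectiveResolution F)
      (pushRes f F (injectiveResolution F) h)
      (fun n => theta f ((injectiveResolution F).cocomplex.X n))
      (fun n a => theta_comp f a _) p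
    refine ⟨e, fun g x => ?_⟩
    rw [Sheaf.H.map_apply, Sheaf.H.map_apply]
    exact he g ((CohTop.push f).map g) (resHom _ g)
      (pushHom f F _ h g (resHom _ g)) (fun a => theta_comp f a _) x

end Top

end Groth.Agent.Lib.FormalFnH2
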