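import Mathlib
import Groth.Prelude
import Groth.Agent.Lib.FormalFn1_helper2
import Groth.Agent.Lib.FormalFn2_helper2
import Groth.Agent.Lib.FormalFnLeray_helper2
import Groth.Agent.Lib.FormalFnAlg_helper2
import Groth.Agent.Lib.ProperFin9_helper9
import Groth.Agent.Lib.RpushVanish_helper9
import Groth.Agent.Lib.CohKer_helper8
import Groth.Agent.Lib.Fpqc1_helper8
import Groth.Agent.Lib.HHVan_helper9
import Groth.Agent.Lib.QCohFT_helper9

/-!
# The graded module `⊕ I^n F` and generation of `⊕ H^p(X, I^n F)` in bounded degrees (helper2)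

APPEND-ONLY once landed.
-/

set_option autoImplicit false
universe u

open CategoryTheory CategoryTheory.Limits AlgebraicGeometry TopologicalSpace Opposite

namespace Groth.Agent.Lib.FormalFnH2

open Formal Groth.Agent.Lib.FormalModPowH4 Groth.Agent.HHVan

section FT

variable {Y : Scheme.{u}}

theorem isFiniteType_of_epi {M N : Y.Modules} [M.IsQuasicoherent] [N.IsQuasicoherent]
    [SheafOfModules.IsFiniteType (R := Y.ringCatSheaf) M] (π : M ⟶ N) [Epi π] :
    SheafOfModules.IsFiniteType (R := Y.ringCatSheaf) N := by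
  refine QCohCrit.isFiniteType_of_sections_cover N
    (fun V : Y.affineOpens => (V : Y.Opens)) (fun V => V.2) CohKerH8.iSup_affineOpens (fun V => ?_)
  haveI := QCohFT.finite_of_isFiniteType M V.2
  have hs : Function.Surjective (π.app V.1) := QCohExact.app_surjective_of_epi π V.2
  let ψ : Γ(M, V.1) →ₗ[Γ(Y, V.1)] Γ(N, V.1) :=
    { toFun := fun x => π.app V.1 x
      map_add' := fun x y => map_add (π.app V.1).hom x y
      map_smul' := fun r m => Scheme.Modules.Hom.app_smul π r m }
  exact Module.Finite.of_surjective ψ hs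

theorem isCoh_cokernel' {M N : Y.Modules} [M.IsQuasicoherent] (hN : Coh.IsCoh N) (φ : M ⟶ N) :
    Coh.IsCoh (cokernel φ) := by
  haveI : N.IsQuasicoherent := hN.1
  haveI : SheafOfModules.IsFiniteType (R := Y.ringCatSheaf) N := hN.2
  haveI : (cokernel φ).IsQuasicoherent := Groth.Agent.Lib.BModH6.isQuasicoherent_cokernel φ
  exact ⟨inferInstance, isFiniteType_of_epi (cokernel.π φ)⟩

end FT

section Adj

variable {X Y : Scheme.{u}} (f : Y ⟶ X)

/-- the adjunct of a morphism `f^* M ⟶ Z` -/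
noncomputable def adjct {M : X.Modules} {Z : Y.Modules}
    (h : (Scheme.Modules.pullback f).obj M ⟶ Z) : M ⟶ (Scheme.Modules.pushforward f).obj Z :=
  (Scheme.Modules.pullbackPushforwardAdjunction f).unit.app M ≫
    (Scheme.Modules.pushforward f).map h

theorem adjct_zero {M : X.Modules} {Z : Y.Modules} :
    adjct f (0 : (Scheme.Modules.pullback f).obj M ⟶ Z) = 0 := by
  unfold adjct
  rw [Functor.map_zero, comp_zero]

theorem eq_zero_of_adjct {M : X.Modules} {Z : Y.Modules}
    (h : (Scheme.Modules.pullback f).obj M ⟶ Z) (h0 : adjct f h = 0) : h = 0 := by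
  have h1 : h = ((Scheme.Modules.pullbackPushforwardAdjunction f).homEquiv M Z).symm
      ((Scheme.Modules.pullbackPushforwardAdjunction f).homEquiv M Z h) :=
    (Equiv.symm_apply_apply _ _).symm
  have h2 : (Scheme.Modules.pullbackPushforwardAdjunction f).homEquiv M Z h = 0 := by
    rw [Adjunction.homEquiv_unit]
    exact h0
  rw [h1, h2, Adjunction.homEquiv_counit, Functor.map_zero, zero_comp]

theorem comp_adjct {M' M : X.Modules} {Z : Y.Modules} (k : M' ⟶ M)
    (h : (Scheme.Modules.pullback f).obj M ⟶ Z) :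
    k ≫ adjct f h = adjct f ((Scheme.Modules.pullback f).map k ≫ h) := by
  unfold adjct
  rw [Functor.map_comp, ← Category.assoc, ← Category.assoc]
  congr 1
  exact ((Scheme.Modules.pullbackPushforwardAdjunction f).unit_naturality k).symm

end Adj

section GGsec

variable {A : Type u} [CommRing A] {X : Scheme.{u}} [X.Over (Spec (CommRingCat.of A))]
  (I : Ideal A) (F : X.Modules)

theorem pwMul_comm (a b : A) (ha : a ∈ I) (hb : b ∈ I) (n : ℕ) :
    pwMul I F a ha n ≫ pwMul I F b hb (n + 1) = pwMul I F b hb n ≫ pwMul I F a ha (n + 1) := by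
  rw [← cancel_mono (pwι I F (n + 1 + 1)), Category.assoc, Category.assoc, pwMul_ι, pwMul_ι,
    ← Category.assoc, ← Category.assoc, pwMul_ι, pwMul_ι, Category.assoc, Category.assoc,
    ← smulMod_mul, ← smulMod_mul, mul_comm b a]

/-- the graded module `⊕ I^n F` -/
noncomputable def GG : X.Modules := ∐ fun n : ULift.{u} ℕ => pw I F n.down

/-- the inclusion of the degree `n` part -/
noncomputable def jj (n : ℕ) : pw I F n ⟶ GG I F :=
  Sigma.ι (fun n : ULift.{u} ℕ => pw I F n.down) (ULift.up n)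

/-- the projection to the degree `n` part -/
noncomputable def prr (n : ℕ) : GG I F ⟶ pw I F n :=
  Sigma.π (fun n : ULift.{u} ℕ => pw I F n.down) (ULift.up n)

theorem jj_prr (n : ℕ) : jj I F n ≫ prr I F n = 𝟙 _ := Sigma.ι_π_eq_id _ _

theorem jj_prr_of_ne {n m : ℕ} (h : n ≠ m) : jj I F n ≫ prr I F m = 0 :=
  Sigma.ι_π_of_ne _ (fun e => h (congrArg ULift.down e))

theorem GG_hom_ext {Z : X.Modules} (g g' : GG I F ⟶ Z)
    (h : ∀ n, jj I F n ≫ g = jj I F n ≫ g') : g = g' :=
  Sigma.hom_ext _ _ (fun n => h n.down)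

instance isQuasicoherent_modPow [F.IsQuasicoherent] (n : ℕ) :
    (Formal.modPow I n F).IsQuasicoherent := by
  haveI : (∐ fun _ : (I ^ n : Ideal A) => F).IsQuasicoherent :=
    Groth.Agent.Lib.BModH6.isQuasicoherent_sigma _
  exact Groth.Agent.Lib.BModH6.isQuasicoherent_cokernel (Formal.smulFamily (I ^ n) F)

instance isQuasicoherent_pw [F.IsQuasicoherent] (n : ℕ) : (pw I F n).IsQuasicoherent :=
  SubExt.isQuasicoherent_kernel (Formal.modPowπ I n F)

instance isQuasicoherent_GG [F.IsQuasicoherent] : (GG I F).IsQuasicoherent :=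
  Groth.Agent.Lib.BModH6.isQuasicoherent_sigma _

theorem isCoh_pw [IsLocallyNoetherian X] (hF : Coh.IsCoh F) (n : ℕ) : Coh.IsCoh (pw I F n) := by
  haveI : F.IsQuasicoherent := hF.1
  have h1 : Coh.IsCoh (Formal.modPow I n F) := by
    haveI : (∐ fun _ : (I ^ n : Ideal A) => F).IsQuasicoherent :=
      Groth.Agent.Lib.BModH6.isQuasicoherent_sigma _
    exact isCoh_cokernel' hF (Formal.smulFamily (I ^ n) F)
  exact CohKerH8.isCoh_kernel hF h1 (Formal.modPowπ I n F)

variable {σ : Type u} (a : σ → A) (ha : ∀ i, a i ∈ I)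

/-- the shift endomorphisms of `⊕ I^n F` -/
noncomputable def TT (i : σ) : GG I F ⟶ GG I F :=
  Sigma.desc (fun n : ULift.{u} ℕ => pwMul I F (a i) (ha i) n.down ≫ jj I F (n.down + 1))

theorem jj_TT (i : σ) (n : ℕ) :
    jj I F n ≫ TT I F a ha i = pwMul I F (a i) (ha i) n ≫ jj I F (n + 1) :=
  Sigma.ι_desc _ _

theorem TT_comm (i j : σ) : TT I F a ha i ≫ TT I F a ha j = TT I F a ha j ≫ TT I F a ha i := by
  apply GG_hom_ext
  intro n
  have h1 : ∀ i j, jj I F n ≫ TT I F a ha i ≫ TT I F a ha j =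
      (pwMul I F (a i) (ha i) n ≫ pwMul I F (a j) (ha j) (n + 1)) ≫ jj I F (n + 1 + 1) := by
    intro i j
    rw [← Category.assoc, jj_TT, Category.assoc, jj_TT, Category.assoc]
  rw [h1, h1, pwMul_comm]

variable (A) (σ) [Fintype σ] (hspan : Ideal.span (Set.range a) = I)

include hspan in
theorem pullback_jj_comp_eq_zero {Z : (XP A X σ).Modules}
    (g : Gt A σ (GG I F) (TT I F a ha) ⟶ Z)
    (hg : (Scheme.Modules.pullback (rho A X σ)).map (jj I F 0) ≫
      Gtπ A σ (GG I F) (TT I F a ha) ≫ g = 0) (n : ℕ) :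
    (Scheme.Modules.pullback (rho A X σ)).map (jj I F n) ≫
      Gtπ A σ (GG I F) (TT I F a ha) ≫ g = 0 := by
  induction n with
  | zero => exact hg
  | succ n ih =>
    apply eq_zero_of_adjct (rho A X σ)
    haveI := epi_pwMulSum I F a ha hspan n
    rw [← cancel_epi (pwMulSum I F a ha n), comp_zero]
    apply Sigma.hom_ext
    intro i
    rw [comp_zero, ← Category.assoc, ι_pwMulSum, comp_adjct]
    have e1 : (Scheme.Modules.pullback (rho A X σ)).map (pwMul I F (a i) (ha i) n) ≫
        (Scheme.Modules.pullback (rho A X σ)).map (jj I F (n + 1)) =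
        (Scheme.Modules.pullback (rho A X σ)).map (jj I F n) ≫
          (Scheme.Modules.pullback (rho A X σ)).map (TT I F a ha i) := by
      rw [← Functor.map_comp, ← Functor.map_comp, jj_TT]
    have e2 : (Scheme.Modules.pullback (rho A X σ)).map (TT I F a ha i) ≫
        Gtπ A σ (GG I F) (TT I F a ha) ≫ g =
        (Gtπ A σ (GG I F) (TT I F a ha) ≫ g) ≫
          Formal.smulMod (MvPolynomial σ A) Z (MvPolynomial.X i) := by
      rw [← Category.assoc, Gtπ_rel', Category.assoc, smulMod_naturality]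
    have h1 : (Scheme.Modules.pullback (rho A X σ)).map (pwMul I F (a i) (ha i) n) ≫
        (Scheme.Modules.pullback (rho A X σ)).map (jj I F (n + 1)) ≫
          Gtπ A σ (GG I F) (TT I F a ha) ≫ g = 0 := by
      rw [← Category.assoc, e1, Category.assoc, e2, ← Category.assoc, ih, zero_comp]
    rw [h1, adjct_zero]

include hspan in
theorem epi_pullback_jj_zero :
    Epi ((Scheme.Modules.pullback (rho A X σ)).map (jj I F 0) ≫
      Gtπ A σ (GG I F) (TT I F a ha)) := by
  refine Preadditive.epi_of_cancel_zero _ (fun {Z} g hg => ?_)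
  rw [Category.assoc] at hg
  have h1 := pullback_jj_comp_eq_zero A I F σ a ha hspan g hg
  rw [← cancel_epi (Gtπ A σ (GG I F) (TT I F a ha)), comp_zero]
  apply eq_zero_of_adjct (rho A X σ)
  apply GG_hom_ext
  intro n
  rw [comp_zero, comp_adjct, h1 n, adjct_zero]

include hspan in
theorem isCoh_Gt [IsLocallyNoetherian X] (hF : Coh.IsCoh F) :
    Coh.IsCoh (Gt A σ (GG I F) (TT I F a ha)) := by
  haveI : F.IsQuasicoherent := hF.1
  have h0 := isCoh_pw I F hF 0
  haveI : (pw I F 0).IsQuasicoherent := h0.1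
  haveI : SheafOfModules.IsFiniteType (R := X.ringCatSheaf) (pw I F 0) := h0.2
  haveI : SheafOfModules.IsFiniteType (R := (XP A X σ).ringCatSheaf)
      ((Scheme.Modules.pullback (rho A X σ)).obj (pw I F 0)) :=
    FpqcH8.isFiniteType_pullback (rho A X σ) (pw I F 0)
  haveI := epi_pullback_jj_zero A I F σ a ha hspan
  exact ⟨inferInstance, isFiniteType_of_epi
    ((Scheme.Modules.pullback (rho A X σ)).map (jj I F 0) ≫ Gtπ A σ (GG I F) (TT I F a ha))⟩

end GGsec

section Coh

theorem hmap_zero {Y : Scheme.{u}} {M N : Y.Modules} (i : ℕ) (x : Coh.HH Y M i) :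
    hmap (0 : M ⟶ N) i x = 0 := by
  unfold hmap
  have h : (SerreCrit.TT Y).map (0 : M ⟶ N) = 0 := Functor.map_zero _ _ _
  rw [h, Sheaf.H.map_apply, Abelian.Ext.mk₀_zero, Abelian.Ext.comp_zero]

theorem smul_eq_hmap {B : Type u} [CommRing B] {Y : Scheme.{u}}
    [Y.Over (Spec (CommRingCat.of B))] (M : Y.Modules) (b : B) (i : ℕ) (x : Coh.HH Y M i) :
    b • x = hmap (Formal.smulMod B M b) i x := rfl

variable (A : Type u) [CommRing A] [IsNoetherianRing A] (I : Ideal A) (X : Scheme.{u})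
  [X.Over (Spec (CommRingCat.of A))] [IsProper (X ↘ Spec (CommRingCat.of A))]
  (F : X.Modules) (hF : Coh.IsCoh F)
  (σ : Type u) [Fintype σ] (a : σ → A) (ha : ∀ i, a i ∈ I)
  (hspan : Ideal.span (Set.range a) = I) (p : ℕ)

include hF hspan in
/-- **Generation in bounded degrees** of the graded module `⊕_n H^p(X, I^n F)` (and of
sub-families stable under the shifts) over the polynomial ring. -/
theorem exists_gen_pw (Q : ∀ n, Submodule A (Coh.HH X (pw I F n) p))
    (hQ : ∀ i n y, y ∈ Q n → Canon.HHlin A (pwMul I F (a i) (ha i) n) p y ∈ Q (n + 1)) :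
    ∃ d, ∀ n, d ≤ n → ∀ y ∈ Q (n + 1), ∃ f : σ → Coh.HH X (pw I F n) p,
      (∀ i, f i ∈ Q n) ∧ y = ∑ i, Canon.HHlin A (pwMul I F (a i) (ha i) n) p (f i) := by
  haveI : F.IsQuasicoherent := hF.1
  haveI : IsLocallyNoetherian X :=
    LocallyOfFiniteType.isLocallyNoetherian (X ↘ Spec (CommRingCat.of A))
  have hGt : Coh.IsCoh (Gt A σ (GG I F) (TT I F a ha)) := isCoh_Gt A I F σ a ha hspan hF
  haveI hfin : Module.Finite (MvPolynomial σ A)
      (Coh.HH (XP A X σ) (Gt A σ (GG I F) (TT I F a ha)) p) :=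
    ProperFinH9.finite_HH_of_proper (MvPolynomial σ A) (XP A X σ) _ hGt p
  haveI : IsNoetherian (MvPolynomial σ A)
      (Coh.HH (XP A X σ) (Gt A σ (GG I F) (TT I F a ha)) p) :=
    isNoetherian_of_isNoetherianRing_of_finite _ _
  haveI : IsIso (uu A σ (GG I F) (TT I F a ha)) :=
    isIso_uu A σ (GG I F) (TT I F a ha) (TT_comm I F a ha)
  obtain ⟨e, he⟩ : ∃ e : Coh.HH (XP A X σ) (Gt A σ (GG I F) (TT I F a ha)) p ≃+
      Coh.HH X ((Scheme.Modules.pushforward (rho A X σ)).obj (Gt A σ (GG I F) (TT I F a ha))) p,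
      ∀ (θ : Gt A σ (GG I F) (TT I F a ha) ⟶ Gt A σ (GG I F) (TT I F a ha))
        (z : Coh.HH (XP A X σ) (Gt A σ (GG I F) (TT I F a ha)) p),
        e (hmap θ p z) = hmap ((Scheme.Modules.pushforward (rho A X σ)).map θ) p (e z) := by
    obtain ⟨e, he⟩ := exists_H_addEquiv_push_nat (rho A X σ).base
      (Coh.toAb (Gt A σ (GG I F) (TT I F a ha)))
      (fun q => RpushVanish.isZero_RpushAb_of_isAffineHom (rho A X σ)
        (Gt A σ (GG I F) (TT I F a ha)) q) p
    exact ⟨e, fun θ z => he _ z⟩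
  let J : ∀ n, Coh.HH X (pw I F n) p →+ Coh.HH (XP A X σ) (Gt A σ (GG I F) (TT I F a ha)) p :=
    fun n => (AddEquiv.toAddMonoidHom e.symm).comp
      (hmap (jj I F n ≫ uu A σ (GG I F) (TT I F a ha)) p)
  let Pr : ∀ n, Coh.HH (XP A X σ) (Gt A σ (GG I F) (TT I F a ha)) p →+ Coh.HH X (pw I F n) p :=
    fun n => (hmap (inv (uu A σ (GG I F) (TT I F a ha)) ≫ prr I F n) p).comp
      (AddEquiv.toAddMonoidHom e)
  have hPJ : ∀ n y, Pr n (J n y) = y := by
    intro n y
    show hmap (inv (uu A σ (GG I F) (TT I F a ha)) ≫ prr I F n) p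
      (e (e.symm (hmap (jj I F n ≫ uu A σ (GG I F) (TT I F a ha)) p y))) = y
    rw [AddEquiv.apply_symm_apply, ← hmap_comp]
    have h1 : (jj I F n ≫ uu A σ (GG I F) (TT I F a ha)) ≫
        inv (uu A σ (GG I F) (TT I F a ha)) ≫ prr I F n = 𝟙 _ := by
      rw [Category.assoc, IsIso.hom_inv_id_assoc, jj_prr]
    rw [h1, hmap_id]
  have hPJ' : ∀ n m, n ≠ m → ∀ y, Pr m (J n y) = 0 := by
    intro n m hnm y
    show hmap (inv (uu A σ (GG I F) (TT I F a ha)) ≫ prr I F m) p
      (e (e.symm (hmap (jj I F n ≫ uu A σ (GG I F) (TT I F a ha)) p y))) = 0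
    rw [AddEquiv.apply_symm_apply, ← hmap_comp]
    have h1 : (jj I F n ≫ uu A σ (GG I F) (TT I F a ha)) ≫
        inv (uu A σ (GG I F) (TT I F a ha)) ≫ prr I F m = 0 := by
      rw [Category.assoc, IsIso.hom_inv_id_assoc, jj_prr_of_ne I F hnm]
    rw [h1, hmap_zero]
  have hX : ∀ i n y, (MvPolynomial.X i : MvPolynomial σ A) • J n y =
      J (n + 1) (Canon.HHlin A (pwMul I F (a i) (ha i) n) p y) := by
    intro i n y
    apply e.injective
    show e ((MvPolynomial.X i : MvPolynomial σ A) •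
        e.symm (hmap (jj I F n ≫ uu A σ (GG I F) (TT I F a ha)) p y)) =
      e (e.symm (hmap (jj I F (n + 1) ≫ uu A σ (GG I F) (TT I F a ha)) p
        (hmap (pwMul I F (a i) (ha i) n) p y)))
    rw [smul_eq_hmap, he, AddEquiv.apply_symm_apply, AddEquiv.apply_symm_apply, ← hmap_comp,
      ← hmap_comp]
    have h1 : (jj I F n ≫ uu A σ (GG I F) (TT I F a ha)) ≫
        (Scheme.Modules.pushforward (rho A X σ)).map
          (Formal.smulMod (MvPolynomial σ A) (Gt A σ (GG I F) (TT I F a ha))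
            (MvPolynomial.X i)) =
        pwMul I F (a i) (ha i) n ≫ jj I F (n + 1) ≫ uu A σ (GG I F) (TT I F a ha) := by
      rw [Category.assoc, ← T_uu, ← Category.assoc, jj_TT, Category.assoc]
    rw [h1]
  have hC : ∀ (b : A) n y, (MvPolynomial.C b : MvPolynomial σ A) • J n y = J n (b • y) := by
    intro b n y
    apply e.injective
    show e ((MvPolynomial.C b : MvPolynomial σ A) •
        e.symm (hmap (jj I F n ≫ uu A σ (GG I F) (TT I F a ha)) p y)) =
      e (e.symm (hmap (jj I F n ≫ uu A σ (GG I F) (TT I F a ha)) p (b • y)))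
    rw [smul_eq_hmap, he, AddEquiv.apply_symm_apply, AddEquiv.apply_symm_apply,
      smul_eq_hmap (B := A), ← hmap_comp, ← hmap_comp]
    have h1 : (jj I F n ≫ uu A σ (GG I F) (TT I F a ha)) ≫
        (Scheme.Modules.pushforward (rho A X σ)).map
          (Formal.smulMod (MvPolynomial σ A) (Gt A σ (GG I F) (TT I F a ha))
            (MvPolynomial.C b)) =
        Formal.smulMod A (pw I F n) b ≫ jj I F n ≫ uu A σ (GG I F) (TT I F a ha) := by
      rw [Category.assoc, ← smul_uu, ← Category.assoc, ← smulMod_naturality, Category.assoc]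
    rw [h1]
  exact exists_gen (K := fun n => Coh.HH X (pw I F n) p)
    (μ := fun i n => Canon.HHlin A (pwMul I F (a i) (ha i) n) p) (Q := Q) J Pr hPJ hPJ' hX hC hQ

end Coh

end Groth.Agent.Lib.FormalFnH2
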