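import Mathlib
import Groth.Prelude
import Groth.Agent.Lib.FormalFn3_helper2
import Groth.Agent.Lib.FormalFnAlg3_helper2
import Groth.Agent.Lib.LESLin_helper9

/-!
# The theorem on formal functions: assembly (helper2)

APPEND-ONLY once landed.
-/

set_option autoImplicit false
universe u

open CategoryTheory CategoryTheory.Limits AlgebraicGeometry TopologicalSpace Opposite

namespace Groth.Agent.Lib.FormalFnH2

open Formal Groth.Agent.Lib.FormalModPowH4 Groth.Agent.HHVan Groth.Agent.ProjFin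

section ExtNat

open Abelian

variable {C : Type*} [Category C] [Abelian C] [HasExt.{u} C]

lemma ext_comp_comp_extClass {S S' : ShortComplex C} (hS : S.ShortExact) (hS' : S'.ShortExact)
    (Φ : S ⟶ S') {G : C} {k : ℕ} (a : Ext G S.X₃ k) {k' : ℕ} (h : k + 1 = k') :
    (a.comp (Ext.mk₀ Φ.τ₃) (add_zero k)).comp hS'.extClass h =
      (a.comp hS.extClass h).comp (Ext.mk₀ Φ.τ₁) (add_zero k') := by
  rw [Ext.comp_assoc_of_second_deg_zero, ← hS.extClass_naturality hS' Φ,
    ← Ext.comp_assoc_of_third_deg_zero]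

end ExtNat

section Gens

theorem exists_generators (A : Type u) [CommRing A] [IsNoetherianRing A] (I : Ideal A) :
    ∃ (σ : Type u) (_ : Fintype σ) (a : σ → A),
      (∀ i, a i ∈ I) ∧ Ideal.span (Set.range a) = I := by
  obtain ⟨s, hs⟩ := (isNoetherianRing_iff_ideal_fg A).mp inferInstance I
  refine ⟨{x // x ∈ s}, inferInstance, Subtype.val, fun i => ?_, ?_⟩
  · rw [← hs]
    exact Ideal.subset_span i.2
  · rw [Subtype.range_coe_subtype]
    exact hs

/-- finite modules over complete Noetherian rings are complete (proof as in helper3's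
`InvCompleteH3.isAdicComplete_of_finite_aux`) -/
theorem isAdicComplete_of_finite'' {R : Type u} [CommRing R] [IsNoetherianRing R] (I : Ideal R)
    [IsAdicComplete I R] (M : Type u) [AddCommGroup M] [Module R M] [Module.Finite R M] :
    IsAdicComplete I M := by
  rw [← AdicCompletion.of_bijective_iff]
  let e0 : R ≃ₗ[R] AdicCompletion I R :=
    LinearEquiv.ofBijective (AdicCompletion.of I R) (AdicCompletion.of_bijective I R)
  let e1 : M ≃ₗ[R] TensorProduct R (AdicCompletion I R) M :=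
    (TensorProduct.lid R M).symm ≪≫ₗ (LinearEquiv.rTensor M e0)
  have h : ⇑(AdicCompletion.of I M) = (AdicCompletion.ofTensorProduct I M) ∘ e1 := by
    funext x
    show _ = AdicCompletion.ofTensorProduct I M (e1 x)
    have : e1 x = TensorProduct.tmul R (AdicCompletion.of I R 1) x := by
      simp [e1, e0]
    rw [this, AdicCompletion.ofTensorProduct_tmul]
    have h1 : AdicCompletion.of I R 1 = 1 := rfl
    rw [h1, one_smul]
  rw [h]
  exact (AdicCompletion.ofTensorProduct_bijective_of_finite_of_isNoetherian I M).comp e1.bijective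

end Gens

section Lin

variable (A : Type u) [CommRing A] {X : Scheme.{u}} [X.Over (Spec (CommRingCat.of A))]

theorem HHlin_comp {M N P : X.Modules} (φ : M ⟶ N) (ψ : N ⟶ P) (p : ℕ) (x : Coh.HH X M p) :
    Canon.HHlin A ψ p (Canon.HHlin A φ p x) = Canon.HHlin A (φ ≫ ψ) p x :=
  (hmap_comp φ ψ p x).symm

theorem HHlin_id {M : X.Modules} (p : ℕ) (x : Coh.HH X M p) : Canon.HHlin A (𝟙 M) p x = x :=
  hmap_id p x

theorem HHlin_smulMod {M : X.Modules} (a : A) (p : ℕ) (x : Coh.HH X M p) :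
    Canon.HHlin A (Formal.smulMod A M a) p x = a • x := rfl

theorem HHlin_zero {M N : X.Modules} (p : ℕ) (x : Coh.HH X M p) :
    Canon.HHlin A (0 : M ⟶ N) p x = 0 := hmap_zero p x

theorem δlin_naturality {S S' : ShortComplex X.Modules} (hS : S.ShortExact)
    (hS' : S'.ShortExact) (Φ : S ⟶ S') (i : ℕ) (x : Coh.HH X S.X₃ i) :
    δlin A S' hS' i (Canon.HHlin A Φ.τ₃ i x) = Canon.HHlin A Φ.τ₁ (i + 1) (δlin A S hS i x) := by
  show Abelian.Ext.comp (Sheaf.H.map ((SerreCrit.TT X).map Φ.τ₃) i x)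
      (SerreCrit.shortExact_toSheaf S' hS').extClass rfl =
    Sheaf.H.map ((SerreCrit.TT X).map Φ.τ₁) (i + 1)
      (Abelian.Ext.comp (show Abelian.Ext _ (Coh.toAb S.X₃) i from x)
        (SerreCrit.shortExact_toSheaf S hS).extClass rfl)
  rw [Sheaf.H.map_apply, Sheaf.H.map_apply]
  exact ext_comp_comp_extClass (SerreCrit.shortExact_toSheaf S hS)
    (SerreCrit.shortExact_toSheaf S' hS') ((SerreCrit.TT X).mapShortComplex.map Φ) _ rfl

variable (I : Ideal A) (F : X.Modules) (p : ℕ)

theorem ι_inc {n k : ℕ} (h : n ≤ k) (y : Coh.HH X (pw I F k) p) :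
    Canon.HHlin A (pwι I F n) p (Canon.HHlin A (pwInc I F h) p y) =
      Canon.HHlin A (pwι I F k) p y := by
  rw [HHlin_comp, pwInc_ι]

theorem inc_refl' (n : ℕ) (y : Coh.HH X (pw I F n) p) :
    Canon.HHlin A (pwInc I F (le_refl n)) p y = y := by
  rw [pwInc_refl, HHlin_id]

theorem inc_trans' {n m k : ℕ} (h₁ : n ≤ m) (h₂ : m ≤ k) (y : Coh.HH X (pw I F k) p) :
    Canon.HHlin A (pwInc I F h₁) p (Canon.HHlin A (pwInc I F h₂) p y) =
      Canon.HHlin A (pwInc I F (h₁.trans h₂)) p y := by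
  rw [HHlin_comp, pwInc_trans]

theorem ι_mul (b : A) (hb : b ∈ I) (n : ℕ) (y : Coh.HH X (pw I F n) p) :
    Canon.HHlin A (pwι I F (n + 1)) p (Canon.HHlin A (pwMul I F b hb n) p y) =
      b • Canon.HHlin A (pwι I F n) p y := by
  rw [HHlin_comp, pwMul_ι, ← HHlin_comp, HHlin_smulMod]

theorem inc_mul (b : A) (hb : b ∈ I) (n : ℕ) (y : Coh.HH X (pw I F n) p) :
    Canon.HHlin A (pwInc I F (Nat.le_succ n)) p (Canon.HHlin A (pwMul I F b hb n) p y) =
      b • y := by
  rw [HHlin_comp, pwMul_inc, HHlin_smulMod]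

theorem toHHmodPow_eq_zero_iff (n : ℕ) (x : Coh.HH X F p) :
    Formal.toHHmodPow I F p n x = 0 ↔
      x ∈ LinearMap.range (Canon.HHlin A (pwι I F (n + 1)) p) := by
  have h2 : LinearMap.range (Canon.HHlin A (pwι I F (n + 1)) p) =
      LinearMap.ker (Canon.HHlin A (Formal.modPowπ I (n + 1) F) p) :=
    Groth.Agent.LESLin.range_HHlin_f A (pwSC I F (n + 1)) (pwSC_shortExact I F (n + 1)) p
  rw [h2, LinearMap.mem_ker]
  rfl

theorem smul_HH_modPow_eq_zero (n q : ℕ) (b : A) (hb : b ∈ I ^ n)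
    (z : Coh.HH X (Formal.modPow I n F) q) : b • z = 0 := by
  have h : b • z = Canon.HHlin A (Formal.smulMod A (Formal.modPow I n F) b) q z := rfl
  rw [h, smulMod_modPow_eq_zero F I n hb, HHlin_zero]

theorem smul_eq_zero_of_mem_ker (n : ℕ) (b : A) (hb : b ∈ I ^ n)
    (y : Coh.HH X (pw I F n) p) (hy : y ∈ LinearMap.ker (Canon.HHlin A (pwι I F n) p)) :
    b • y = 0 := by
  cases p with
  | zero =>
    have hinj := Groth.Agent.LESLin.injective_HHlin_f_zero A (pwSC I F n) (pwSC_shortExact I F n)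
    have h0 : y = 0 := hinj ((LinearMap.mem_ker.mp hy).trans (map_zero _).symm)
    rw [h0, smul_zero]
  | succ q =>
    have h := Groth.Agent.LESLin.range_δlin A (pwSC I F n) (pwSC_shortExact I F n) q
    have hy' : y ∈ LinearMap.range (δlin A (pwSC I F n) (pwSC_shortExact I F n) q) := by
      rw [h]
      exact hy
    obtain ⟨z, rfl⟩ := hy'
    rw [← map_smul, smul_HH_modPow_eq_zero A I F n q b hb z, map_zero]

theorem modPowLE_refl (n : ℕ) : Formal2.modPowLE I (le_refl n) F = 𝟙 _ := by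
  rw [← cancel_epi (Formal.modPowπ I n F), Formal2.modPowπ_modPowLE, Category.comp_id]

theorem modPowTrans_modPowLE {m n : ℕ} (h : m ≤ n) :
    Formal.modPowTrans I n F ≫ Formal2.modPowLE I h F =
      Formal2.modPowLE I (h.trans (Nat.le_succ n)) F := by
  rw [← cancel_epi (Formal.modPowπ I (n + 1) F), ← Category.assoc, Formal.modPowπ_trans,
    Formal2.modPowπ_modPowLE, Formal2.modPowπ_modPowLE]

theorem completion_map (n k : ℕ) (h : n ≤ k) :
    (Formal.completion I F).map (homOfLE h).op = Formal2.modPowLE I (Nat.succ_le_succ h) F := by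
  induction k, h using Nat.le_induction with
  | base =>
    have h0 : (homOfLE (le_refl n)).op = 𝟙 (op n) := rfl
    rw [h0, CategoryTheory.Functor.map_id]
    exact (modPowLE_refl A I F (n + 1)).symm
  | succ k hk ih =>
    have h1 : (homOfLE (hk.trans (Nat.le_succ k))).op =
        (homOfLE (Nat.le_add_right k 1)).op ≫ (homOfLE hk).op := rfl
    have h2 : (Formal.completion I F).map (homOfLE (Nat.le_add_right k 1)).op =
        Formal.modPowTrans I (k + 1) F := by
      unfold Formal.completion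
      exact Functor.ofOpSequence_map_homOfLE_succ _ k
    rw [h1, Functor.map_comp, ih, h2]
    exact modPowTrans_modPowLE A I F (Nat.succ_le_succ hk)

theorem hτt (n : ℕ) (h : Coh.HH X F p) :
    Formal.HHmodPowTrans I F p n (Formal.toHHmodPow I F p (n + 1) h) =
      Formal.toHHmodPow I F p n h := by
  show hmap (Formal.modPowTrans I (n + 1) F) p (hmap (Formal.modPowπ I (n + 1 + 1) F) p h) =
    hmap (Formal.modPowπ I (n + 1) F) p h
  rw [← hmap_comp, Formal.modPowπ_trans]

theorem hkill (n : ℕ) (h : Coh.HH X F p)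
    (hh : h ∈ (I ^ (n + 1) • ⊤ : Submodule A (Coh.HH X F p))) :
    Formal.toHHmodPow I F p n h = 0 := by
  have h0 : ∀ h, Formal.toHHmodPow I F p n h =
      Canon.HHlin A (Formal.modPowπ I (n + 1) F) p h := fun _ => rfl
  rw [h0]
  refine Submodule.smul_induction_on hh (fun r hr m _ => ?_) (fun x y hx hy => ?_)
  · rw [map_smul]
    exact smul_HH_modPow_eq_zero A I F (n + 1) p r hr _
  · rw [map_add, hx, hy, add_zero]

end Lin

section Main

variable (A : Type u) [CommRing A] [IsNoetherianRing A] (I : Ideal A) (X : Scheme.{u})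
  [X.Over (Spec (CommRingCat.of A))] [IsProper (X ↘ Spec (CommRingCat.of A))]
  (F : X.Modules) (hF : Coh.IsCoh F)
  (σ : Type u) [Fintype σ] (a : σ → A) (ha : ∀ i, a i ∈ I)
  (hspan : Ideal.span (Set.range a) = I) (p : ℕ)

include hF hspan in
theorem gen_top : ∃ d, ∀ n, d ≤ n → ∀ y : Coh.HH X (pw I F (n + 1)) p,
    ∃ f : σ → Coh.HH X (pw I F n) p,
      y = ∑ i, Canon.HHlin A (pwMul I F (a i) (ha i) n) p (f i) := by
  obtain ⟨d, hd⟩ := exists_gen_pw A I X F hF σ a ha hspan p (fun _ => ⊤)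
    (fun _ _ _ _ => Submodule.mem_top)
  refine ⟨d, fun n hn y => ?_⟩
  obtain ⟨f, -, hf⟩ := hd n hn y Submodule.mem_top
  exact ⟨f, hf⟩

include hF hspan ha in
theorem inc_zero : ∃ d, ∀ n k (h : n ≤ k), n + 2 * d ≤ k →
    ∀ y ∈ LinearMap.ker (Canon.HHlin A (pwι I F k) p), Canon.HHlin A (pwInc I F h) p y = 0 := by
  obtain ⟨d, hd⟩ := exists_gen_pw A I X F hF σ a ha hspan p
    (fun n => LinearMap.ker (Canon.HHlin A (pwι I F n) p)) (fun i n y hy => by
      rw [LinearMap.mem_ker] at hy ⊢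
      rw [ι_mul, hy, smul_zero])
  refine ⟨d, ?_⟩
  exact inc_eq_zero (K := fun n => Coh.HH X (pw I F n) p) I a ha
    (fun i n => Canon.HHlin A (pwMul I F (a i) (ha i) n) p)
    (fun {n k} h => Canon.HHlin A (pwInc I F h) p)
    (fun n y => inc_refl' A I F p n y) (fun h₁ h₂ y => inc_trans' A I F p h₁ h₂ y)
    (fun i n y => inc_mul A I F p (a i) (ha i) n y)
    (fun n => LinearMap.ker (Canon.HHlin A (pwι I F n) p))
    (fun n b hb y hy => smul_eq_zero_of_mem_ker A I F p n b hb y hy) d hd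

include hF hspan ha in
theorem exists_ker_le : ∃ c, ∀ n, c ≤ n → ∀ x : Coh.HH X F p,
    Formal.toHHmodPow I F p n x = 0 →
      x ∈ (I ^ (n - c) • ⊤ : Submodule A (Coh.HH X F p)) := by
  obtain ⟨d, hd⟩ := gen_top A I X F hF σ a ha hspan p
  have hr := range_le_of_gen (K := fun n => Coh.HH X (pw I F n) p) I a ha
    (fun n => Canon.HHlin A (pwι I F n) p)
    (fun i n => Canon.HHlin A (pwMul I F (a i) (ha i) n) p)
    (fun i n y => ι_mul A I F p (a i) (ha i) n y) d hd
  refine ⟨d, fun n hn x hx => ?_⟩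
  rw [toHHmodPow_eq_zero_iff A] at hx
  have h1 := hr (n + 1) (hn.trans (Nat.le_succ n)) hx
  exact Submodule.smul_mono_left (Ideal.pow_le_pow_right (by omega)) h1

include hF hspan ha in
theorem exists_range_le : ∃ c, ∀ n k (h : n ≤ k), n + c ≤ k →
    ∀ z : Coh.HH X (Formal.modPow I (k + 1) F) p, ∃ x,
      Formal.toHHmodPow I F p n x =
        Canon.HHlin A (Formal2.modPowLE I (Nat.succ_le_succ h) F) p z := by
  obtain ⟨d, hd⟩ := inc_zero A I X F hF σ a ha hspan (p + 1)
  refine ⟨2 * d, fun n k h hk z => ?_⟩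
  have hnat := δlin_naturality A (pwSC_shortExact I F (k + 1)) (pwSC_shortExact I F (n + 1))
    (pwSCMap I F (Nat.succ_le_succ h)) p z
  have hr := Groth.Agent.LESLin.range_δlin A (pwSC I F (k + 1)) (pwSC_shortExact I F (k + 1)) p
  have h1 : δlin A (pwSC I F (k + 1)) (pwSC_shortExact I F (k + 1)) p z ∈
      LinearMap.ker (Canon.HHlin A (pwι I F (k + 1)) (p + 1)) := by
    show _ ∈ LinearMap.ker (Canon.HHlin A (pwSC I F (k + 1)).f (p + 1))
    rw [← hr]
    exact ⟨z, rfl⟩
  have h2 := hd (n + 1) (k + 1) (Nat.succ_le_succ h) (by omega) _ h1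
  have h3 : δlin A (pwSC I F (n + 1)) (pwSC_shortExact I F (n + 1)) p
      (Canon.HHlin A (Formal2.modPowLE I (Nat.succ_le_succ h) F) p z) = 0 :=
    hnat.trans h2
  have hg := range_HHlin_g A (pwSC I F (n + 1)) (pwSC_shortExact I F (n + 1)) p
  have h4 : Canon.HHlin A (Formal2.modPowLE I (Nat.succ_le_succ h) F) p z ∈
      LinearMap.range (Canon.HHlin A (pwSC I F (n + 1)).g p) := by
    rw [hg]
    exact LinearMap.mem_ker.mpr h3
  obtain ⟨x, hx⟩ := h4
  exact ⟨x, hx⟩

include hF hspan ha in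
theorem exists_ML : ∀ x ∈ Formal.HHlim I F p, ∀ n, ∃ h, Formal.toHHmodPow I F p n h = x n := by
  obtain ⟨c, hc⟩ := exists_range_le A I X F hF σ a ha hspan p
  intro x hx n
  have hcompat : ∀ k (h : n ≤ k),
      Canon.HHlin A (Formal2.modPowLE I (Nat.succ_le_succ h) F) p (x k) = x n := by
    intro k h
    induction k, h using Nat.le_induction with
    | base =>
      have h0 : Formal2.modPowLE I (Nat.succ_le_succ (le_refl n)) F = 𝟙 _ :=
        modPowLE_refl A I F (n + 1)
      rw [h0]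
      exact HHlin_id A p (x n)
    | succ k hk ih =>
      have h1 : Formal.HHmodPowTrans I F p k (x (k + 1)) = x k := hx k
      rw [← ih, ← h1]
      show hmap (Formal2.modPowLE I _ F) p (x (k + 1)) =
        hmap (Formal2.modPowLE I _ F) p (hmap (Formal.modPowTrans I (k + 1) F) p (x (k + 1)))
      rw [← hmap_comp, modPowTrans_modPowLE A]
  obtain ⟨h, hh⟩ := hc n (n + c) (Nat.le_add_right n c) le_rfl (x (n + c))
  exact ⟨h, hh.trans (hcompat (n + c) (Nat.le_add_right n c))⟩

end Main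

section Final

variable (A : Type u) [CommRing A] [IsNoetherianRing A] (I : Ideal A) (X : Scheme.{u})
  [X.Over (Spec (CommRingCat.of A))] [IsProper (X ↘ Spec (CommRingCat.of A))]
  (M : X.Modules) (hM : Coh.IsCoh M) (p : ℕ)

include hM in
theorem main0057 : ∃ c : ℕ, ∀ n : ℕ, c ≤ n →
    ((Formal.toHHmodPow I M p n).ker : Set (Coh.HH X M p)) ⊆
      ((I ^ (n - c) • (⊤ : Submodule A (Coh.HH X M p)) : Submodule A (Coh.HH X M p)) :
        Set (Coh.HH X M p)) := by
  obtain ⟨σ, _, a, ha, hspan⟩ := exists_generators A I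
  obtain ⟨c, hc⟩ := exists_ker_le A I X M hM σ a ha hspan p
  exact ⟨c, fun n hn x hx => hc n hn x (AddMonoidHom.mem_ker.mp hx)⟩

include hM in
theorem main4461 : ∃ k₀ : ℕ, ∀ k : ℕ, k₀ ≤ k →
    ((Formal.toHHmodPow I M p (k + 1)).ker : Set (Coh.HH X M p)) =
      ((I • Submodule.span A ((Formal.toHHmodPow I M p k).ker : Set (Coh.HH X M p)) :
        Submodule A (Coh.HH X M p)) : Set (Coh.HH X M p)) := by
  obtain ⟨σ, _, a, ha, hspan⟩ := exists_generators A I
  obtain ⟨d, hd⟩ := gen_top A I X M hM σ a ha hspan p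
  refine ⟨d, fun k hk => ?_⟩
  have hker : ∀ n, ((Formal.toHHmodPow I M p n).ker : Set (Coh.HH X M p)) =
      (LinearMap.range (Canon.HHlin A (pwι I M (n + 1)) p) : Set (Coh.HH X M p)) := by
    intro n
    ext x
    rw [SetLike.mem_coe, AddMonoidHom.mem_ker, toHHmodPow_eq_zero_iff A]
    rfl
  have hsub : LinearMap.range (Canon.HHlin A (pwι I M (k + 1 + 1)) p) =
      I • LinearMap.range (Canon.HHlin A (pwι I M (k + 1)) p) := by
    apply le_antisymm
    · rintro _ ⟨y, rfl⟩
      obtain ⟨f, rfl⟩ := hd (k + 1) (hk.trans (Nat.le_succ k)) y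
      rw [map_sum]
      refine Submodule.sum_mem _ (fun i _ => ?_)
      rw [ι_mul]
      exact Submodule.smul_mem_smul (ha i) ⟨f i, rfl⟩
    · rw [Submodule.smul_le]
      rintro r hr _ ⟨y, rfl⟩
      exact ⟨Canon.HHlin A (pwMul I M r hr (k + 1)) p y, ι_mul A I M p r hr (k + 1) y⟩
  rw [hker, hker, Submodule.span_eq, hsub]

include hM in
theorem main0853 : ∃ c : ℕ, ∀ (n m : ℕ), c ≤ n + m →
    Set.range (Sheaf.H.map ((SheafOfModules.toSheaf _).map
      (Formal2.idealPowIncl I (Nat.le_add_right n m) M)) p) ⊆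
      SetLike.coe (I ^ (m - (c - n)) •
        (⊤ : Submodule A (Coh.HH X (Formal2.idealPowMod I n M) p))) := by
  obtain ⟨σ, _, a, ha, hspan⟩ := exists_generators A I
  obtain ⟨d, hd⟩ := gen_top A I X M hM σ a ha hspan p
  have hmem := inc_mem_of_gen (K := fun n => Coh.HH X (pw I M n) p) I a ha
    (fun i n => Canon.HHlin A (pwMul I M (a i) (ha i) n) p)
    (fun {n k} h => Canon.HHlin A (pwInc I M h) p)
    (fun n y => inc_refl' A I M p n y) (fun h₁ h₂ y => inc_trans' A I M p h₁ h₂ y)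
    (fun i n y => inc_mul A I M p (a i) (ha i) n y) d hd
  refine ⟨d, fun n m hnm => ?_⟩
  rintro _ ⟨y, rfl⟩
  show Canon.HHlin A (pwInc I M (Nat.le_add_right n m)) p y ∈
    I ^ (m - (d - n)) • (⊤ : Submodule A (Coh.HH X (pw I M n) p))
  by_cases hdn : d ≤ n
  · have h1 := hmem n hdn (n + m) (Nat.le_add_right n m) y
    have e : m - (d - n) = n + m - n := by omega
    rw [e]
    exact h1
  · have hnd : n ≤ d := le_of_not_ge hdn
    have h1 := hmem d le_rfl (n + m) hnm y
    have h2 := map_mem_smul_top (Canon.HHlin A (pwInc I M hnd) p) _ _ h1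
    rw [inc_trans'] at h2
    have e : m - (d - n) = n + m - d := by omega
    rw [e]
    exact h2

include hM in
theorem main0837 : ∃ c : ℕ, ∀ (n : ℕ) (h : c ≤ n),
    (Sheaf.H.map ((SheafOfModules.toSheaf _).map (Formal2.idealPowModι I n M)) p).ker =
      (Sheaf.H.map ((SheafOfModules.toSheaf _).map
        (Formal2.idealPowIncl I (Nat.sub_le n c) M)) p).ker := by
  obtain ⟨σ, _, a, ha, hspan⟩ := exists_generators A I
  obtain ⟨d, hd⟩ := inc_zero A I X M hM σ a ha hspan p
  refine ⟨2 * d, fun n hn => ?_⟩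
  ext y
  rw [AddMonoidHom.mem_ker, AddMonoidHom.mem_ker]
  constructor
  · intro hy
    exact hd (n - 2 * d) n (Nat.sub_le n (2 * d)) (by omega) y (LinearMap.mem_ker.mpr hy)
  · intro hy
    have h1 := ι_inc A I M p (Nat.sub_le n (2 * d)) y
    have hy' : Canon.HHlin A (pwInc I M (Nat.sub_le n (2 * d))) p y = 0 := hy
    rw [hy', map_zero] at h1
    exact h1.symm

include hM in
theorem main0058 : ∃ c : ℕ, ∀ (n k : ℕ) (h : n ≤ k), n + c ≤ k →
    Set.range (Sheaf.H.map ((SheafOfModules.toSheaf X.ringCatSheaf).map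
      ((Formal.completion I M).map (homOfLE h).op)) p) =
      Set.range (Formal.toHHmodPow I M p n) := by
  obtain ⟨σ, _, a, ha, hspan⟩ := exists_generators A I
  obtain ⟨c, hc⟩ := exists_range_le A I X M hM σ a ha hspan p
  refine ⟨c, fun n k h hk => ?_⟩
  rw [completion_map A I M n k h]
  ext w
  constructor
  · rintro ⟨z, rfl⟩
    obtain ⟨x, hx⟩ := hc n k h hk z
    exact ⟨x, hx⟩
  · rintro ⟨x, rfl⟩
    refine ⟨Formal.toHHmodPow I M p k x, ?_⟩
    show hmap (Formal2.modPowLE I (Nat.succ_le_succ h) M) p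
      (hmap (Formal.modPowπ I (k + 1) M) p x) = hmap (Formal.modPowπ I (n + 1) M) p x
    rw [← hmap_comp, Formal2.modPowπ_modPowLE]

include hM in
theorem main0059 : Nonempty (AdicCompletion I (Coh.HH X M p) ≃+ Formal.HHlim I M p) := by
  obtain ⟨σ, _, a, ha, hspan⟩ := exists_generators A I
  obtain ⟨c, hker⟩ := exists_ker_le A I X M hM σ a ha hspan p
  have hML := exists_ML A I X M hM σ a ha hspan p
  exact nonempty_completion_addEquiv (M := fun n => Formal.HHmodPow I M p n) I
    (fun n => Formal.toHHmodPow I M p n) (fun n => Formal.HHmodPowTrans I M p n)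
    (fun n h => hτt A I M p n h) (fun n h hh => hkill A I M p n h hh) c hker
    (Formal.HHlim I M p) (fun x => Iff.rfl) hML

include hM in
theorem main0003 [IsAdicComplete I A] : Function.Bijective (Formal.toHHlim I M p) := by
  obtain ⟨σ, _, a, ha, hspan⟩ := exists_generators A I
  obtain ⟨c, hker⟩ := exists_ker_le A I X M hM σ a ha hspan p
  have hML := exists_ML A I X M hM σ a ha hspan p
  haveI : Module.Finite A (Coh.HH X M p) := ProperFinH9.finite_HH_of_proper A X M hM p
  haveI : IsAdicComplete I (Coh.HH X M p) := isAdicComplete_of_finite'' I _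
  exact bijective_toLim (M := fun n => Formal.HHmodPow I M p n) I
    (fun n => Formal.toHHmodPow I M p n) (fun n => Formal.HHmodPowTrans I M p n)
    (fun n h => hτt A I M p n h) (fun n h hh => hkill A I M p n h hh) c hker
    (Formal.HHlim I M p) (fun x => Iff.rfl) hML (Formal.toHHlim I M p) (fun h n => rfl)

end Final

end Groth.Agent.Lib.FormalFnH2
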