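import Mathlib
import Groth.Prelude
import Groth.Agent.Lib.FormalFn4_helper2
import Groth.Agent.Lib.FlatBC2_helper2
import Groth.Agent.Lib.FlatSec_helper8
import Groth.Agent.Lib.TildeFlat_helper8
import Groth.Agent.Lib.ProjDual1_helper9
import Groth.Agent.Lib.FibVan1_helper2

/-!
# Sections of `F / I^n F` over affine opens, flatness of sections (helper2)

APPEND-ONLY once landed.
-/

set_option autoImplicit false
universe u

open CategoryTheory CategoryTheory.Limits AlgebraicGeometry TopologicalSpace Opposite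

namespace Groth.Agent.Lib.FibVanH2

open Formal Groth.Agent.Lib.FormalModPowH4 Groth.Agent.Lib.FormalFnH2 Groth.Agent.Lib.FlatBCH2
  Groth.Agent.HHVan Groth.Agent.ProjFin

section App

variable {X : Scheme.{u}}

theorem comp_app' {M N P : X.Modules} (φ : M ⟶ N) (ψ : N ⟶ P) (U : X.Opens) (x : Γ(M, U)) :
    (φ ≫ ψ).app U x = ψ.app U (φ.app U x) := rfl

theorem zero_app' {M N : X.Modules} (U : X.Opens) (x : Γ(M, U)) :
    (0 : M ⟶ N).app U x = 0 :=
  map_zero (evalHom M N U x)

theorem sum_app' {M N : X.Modules} {ι : Type*} (s : Finset ι) (φ : ι → (M ⟶ N)) (U : X.Opens)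
    (x : Γ(M, U)) : (∑ i ∈ s, φ i).app U x = ∑ i ∈ s, (φ i).app U x :=
  map_sum (evalHom M N U x) φ s

theorem app_add' {M N : X.Modules} (φ : M ⟶ N) (U : X.Opens) (x y : Γ(M, U)) :
    φ.app U (x + y) = φ.app U x + φ.app U y :=
  map_add (φ.app U).hom x y

theorem app_zero' {M N : X.Modules} (φ : M ⟶ N) (U : X.Opens) :
    φ.app U (0 : Γ(M, U)) = 0 :=
  map_zero (φ.app U).hom

theorem app_sub' {M N : X.Modules} (φ : M ⟶ N) (U : X.Opens) (x y : Γ(M, U)) :
    φ.app U (x - y) = φ.app U x - φ.app U y :=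
  map_sub (φ.app U).hom x y

theorem app_sum' {M N : X.Modules} (φ : M ⟶ N) (U : X.Opens) {ι : Type*} (s : Finset ι)
    (x : ι → Γ(M, U)) : φ.app U (∑ i ∈ s, x i) = ∑ i ∈ s, φ.app U (x i) :=
  map_sum (φ.app U).hom x s

/-- a section of a finite coproduct is the sum of its components -/
theorem sigma_decomp {σ : Type u} [Fintype σ] [DecidableEq σ] (G : σ → X.Modules)
    (U : X.Opens) (z : Γ(∐ G, U)) :
    z = ∑ i, (Sigma.ι G i).app U ((Sigma.π G i).app U z) := by
  have hst := sigma_total G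
  have h1 : z = (𝟙 (∐ G) : ∐ G ⟶ ∐ G).app U z := rfl
  have h2 : (𝟙 (∐ G) : ∐ G ⟶ ∐ G).app U z =
      ∑ i, (Sigma.ι G i).app U ((Sigma.π G i).app U z) := by
    rw [← hst, sum_app']
    rfl
  exact h1.trans h2

end App

section Sec

variable (A : Type u) [CommRing A] (I : Ideal A) {X : Scheme.{u}}
  [X.Over (Spec (CommRingCat.of A))] (F : X.Modules)

/-- sections over affine opens of a module flat over the base are flat -/
theorem flat_sections [F.IsQuasicoherent]
    (hfl : FlatMod.IsFlatOver (X ↘ Spec (CommRingCat.of A)) F) {U : X.Opens}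
    (hU : IsAffineOpen U) :
    letI := secMod A F U
    Module.Flat A Γ(F, U) := by
  letI := secMod A F U
  have e : U ≤ (X ↘ Spec (CommRingCat.of A)) ⁻¹ᵁ ⊤ := le_top
  have hV : IsAffineOpen (⊤ : (Spec (CommRingCat.of A)).Opens) := isAffineOpen_top _
  have h1 : @Module.Flat Γ(Spec (CommRingCat.of A), ⊤) Γ(F, U) _ _
      (Module.compHom Γ(F, U) ((X ↘ Spec (CommRingCat.of A)).appLE ⊤ U e).hom) :=
    FlatSecH8.flat_sections_of_flat_stalks (X ↘ Spec (CommRingCat.of A)) F hU e (fun x hxU =>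
      (FlatSecH8.isFlatOverAt_iff_flat_stalk (X ↘ Spec (CommRingCat.of A)) F hV e hxU).mp
        (hfl x))
  letI mR : Module Γ(Spec (CommRingCat.of A), ⊤) Γ(F, U) :=
    Module.compHom Γ(F, U) ((X ↘ Spec (CommRingCat.of A)).appLE ⊤ U e).hom
  refine (TildeFlatH8.flat_iff_of_bijective
    (Scheme.ΓSpecIso (CommRingCat.of A)).inv.hom ?_ ?_).mpr h1
  · exact ConcreteCategory.bijective_of_isIso (Scheme.ΓSpecIso (CommRingCat.of A)).inv
  · intro a n
    rfl

variable {σ : Type u} [Fintype σ] (n : ℕ) (b : σ → A) (hb : ∀ j, b j ∈ I ^ n)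

/-- the sum of the multiplications by the `b j ∈ I^n`, as a map `∐ F ⟶ I^n F` -/
noncomputable def sumIn : (∐ fun _ : σ => F) ⟶ pw I F n :=
  Sigma.desc (fun j => pwIn I F n (b j) (hb j))

theorem ι_sumIn (j : σ) :
    Sigma.ι (fun _ : σ => F) j ≫ sumIn A I F n b hb = pwIn I F n (b j) (hb j) :=
  Sigma.ι_desc _ _

include hb in
theorem epi_sumIn (hspan : Ideal.span (Set.range b) = I ^ n) : Epi (sumIn A I F n b hb) := by
  refine Preadditive.epi_of_cancel_zero _ (fun {Z} c hc => ?_)
  apply pw_hom_ext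
  intro b' hb'
  rw [comp_zero]
  have h1 : b' ∈ Ideal.span (Set.range b) := by rw [hspan]; exact hb'
  obtain ⟨c', rfl⟩ := (Ideal.mem_span_range_iff_exists_fun).mp h1
  have h2 : pwIn I F n (∑ j, c' j * b j) hb' =
      ∑ j, Formal.smulMod A F (c' j) ≫ pwIn I F n (b j) (hb j) := by
    rw [← cancel_mono (pwι I F n), pwIn_ι, Preadditive.sum_comp, smulMod_sum]
    refine Finset.sum_congr rfl (fun j _ => ?_)
    rw [Category.assoc, pwIn_ι, mul_comm, smulMod_mul]
  rw [h2, Preadditive.sum_comp]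
  refine Finset.sum_eq_zero (fun j _ => ?_)
  rw [Category.assoc, ← ι_sumIn A I F n b hb j, Category.assoc, hc, comp_zero, comp_zero]

end Sec

section Sec2

variable (A : Type u) [CommRing A] [IsNoetherianRing A] (I : Ideal A) {X : Scheme.{u}}
  [X.Over (Spec (CommRingCat.of A))] (F : X.Modules) [F.IsQuasicoherent] (n : ℕ)

theorem modPowπ_app_surjective {U : X.Opens} (hU : IsAffineOpen U) :
    Function.Surjective ((Formal.modPowπ I n F).app U) :=
  QCohExact.app_surjective_of_epi (Formal.modPowπ I n F) hU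

/-- the kernel of `Γ(U, F) → Γ(U, F/I^nF)` is `I^n Γ(U, F)`, `U` affine -/
theorem mem_smul_top_of_modPowπ_app_eq_zero {U : X.Opens} (hU : IsAffineOpen U) (x : Γ(F, U))
    (hx : (Formal.modPowπ I n F).app U x = 0) :
    letI := secMod A F U
    x ∈ (I ^ n) • (⊤ : Submodule A Γ(F, U)) := by
  classical
  letI := secMod A F U
  obtain ⟨σ, _, b, hb, hspan⟩ := exists_generators A (I ^ n)
  haveI : Mono (pwSC I F n).f := (pwSC_shortExact I F n).mono_f
  obtain ⟨y, hy⟩ := QCohExact.app_exact (pwSC I F n) (pwSC_shortExact I F n).exact U x hx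
  haveI : (∐ fun _ : σ => F).IsQuasicoherent :=
    Groth.Agent.Lib.BModH6.isQuasicoherent_sigma _
  haveI := epi_sumIn A I F n b hb hspan
  obtain ⟨z, hz⟩ := QCohExact.app_surjective_of_epi (sumIn A I F n b hb) hU y
  have h6 : x = ∑ j, rU (b j) U • (Sigma.π (fun _ : σ => F) j).app U z := by
    have hy' : (pwι I F n).app U y = x := hy
    rw [← hy', ← hz]
    conv_lhs => rw [sigma_decomp (fun _ : σ => F) U z]
    rw [app_sum', app_sum']
    refine Finset.sum_congr rfl (fun j _ => ?_)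
    have h8 : (Sigma.ι (fun _ : σ => F) j ≫ sumIn A I F n b hb ≫ pwι I F n).app U
        ((Sigma.π (fun _ : σ => F) j).app U z) =
        (Formal.smulMod A F (b j)).app U ((Sigma.π (fun _ : σ => F) j).app U z) := by
      rw [← Category.assoc, ι_sumIn, pwIn_ι]
    exact h8
  rw [h6]
  refine Submodule.sum_mem _ (fun j _ => ?_)
  have h7 : rU (b j) U • (Sigma.π (fun _ : σ => F) j).app U z =
      (b j) • ((Sigma.π (fun _ : σ => F) j).app U z : Γ(F, U)) := rfl
  rw [h7]
  exact Submodule.smul_mem_smul (hb j) Submodule.mem_top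

theorem modPowπ_app_eq_zero_of_mem {U : X.Opens} (x : Γ(F, U))
    (hx : letI := secMod A F U; x ∈ (I ^ n) • (⊤ : Submodule A Γ(F, U))) :
    (Formal.modPowπ I n F).app U x = 0 := by
  letI := secMod A F U
  refine Submodule.smul_induction_on hx (fun r hr y _ => ?_) (fun y z hy hz => ?_)
  · have h1 : r • y = rU r U • y := rfl
    rw [h1, ← smulMod_app, ← comp_app', smulMod_modPowπ F I n hr, zero_app']
  · rw [app_add', hy, hz, add_zero]

end Sec2

section HH

variable {X : Scheme.{u}}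

theorem subsingleton_HH_sigma {σ : Type u} [Fintype σ] (G : X.Modules) (q : ℕ)
    (h : Subsingleton (Coh.HH X G q)) : Subsingleton (Coh.HH X (∐ fun _ : σ => G) q) := by
  classical
  have hz : ∀ z : Coh.HH X (∐ fun _ : σ => G) q, z = 0 := fun z => by
    have h1 : z = hmap (𝟙 (∐ fun _ : σ => G)) q z := (hmap_id q z).symm
    rw [h1, ← sigma_total (fun _ : σ => G), Groth.Agent.ProjDual.hmap_sum]
    refine Finset.sum_eq_zero (fun i _ => ?_)
    rw [hmap_comp, Subsingleton.elim (hmap (Sigma.π (fun _ : σ => G) i) q z) 0, map_zero]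
  exact ⟨fun x y => by rw [hz x, hz y]⟩

variable (A : Type u) [CommRing A] [X.Over (Spec (CommRingCat.of A))]

theorem surjective_HHlin_g_of_subsingleton (S : ShortComplex X.Modules) (hS : S.ShortExact)
    (p : ℕ) (h : Subsingleton (Coh.HH X S.X₁ (p + 1))) :
    Function.Surjective (Canon.HHlin A S.g p) := by
  rw [← LinearMap.range_eq_top, range_HHlin_g A S hS p, LinearMap.ker_eq_top]
  ext x
  exact Subsingleton.elim _ _

include A in
theorem subsingleton_HH_X₂ (S : ShortComplex X.Modules) (hS : S.ShortExact) (p : ℕ)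
    (h1 : Subsingleton (Coh.HH X S.X₁ p)) (h3 : Subsingleton (Coh.HH X S.X₃ p)) :
    Subsingleton (Coh.HH X S.X₂ p) := by
  have hz : ∀ z : Coh.HH X S.X₂ p, z = 0 := fun z => by
    have h2 : z ∈ LinearMap.ker (Canon.HHlin A S.g p) :=
      LinearMap.mem_ker.mpr (Subsingleton.elim _ _)
    rw [← Groth.Agent.LESLin.range_HHlin_f A S hS p] at h2
    obtain ⟨y, rfl⟩ := h2
    rw [Subsingleton.elim y 0, map_zero]
  exact ⟨fun x y => by rw [hz x, hz y]⟩

end HH

end Groth.Agent.Lib.FibVanH2
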