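import Mathlib
import Groth.Prelude
import Groth.Agent.Lib.BCCx4_helper2
import Groth.Agent.Lib.BCAlg3_helper2
import Groth.Agent.Lib.FibVan2_helper2
import Groth.Agent.Lib.AffVanish2_helper9
import Groth.Agent.Lib.ProperFin9_helper9

/-!
# Cohomology and base change: the finite free complex computing `H^p(X, f^*(M~) ⊗ F)`
-/

set_option autoImplicit false
universe u
open CategoryTheory Limits AlgebraicGeometry TopologicalSpace Opposite TensorProduct

namespace Groth.Agent.Lib.BCMainH2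

open Groth.Agent.Lib.CechSite Groth.Agent.Lib.BCCechH2 Groth.Agent.Lib.BCSecH2
  Groth.Agent.Lib.BCExtH2 Groth.Agent.Lib.BCCxH2 Groth.Agent.Lib.BCAlgH2

theorem exists_affine_cover (X : Scheme.{u}) [CompactSpace X] :
    ∃ (m : ℕ) (Ui : Fin m → X.Opens), (∀ i, IsAffineOpen (Ui i)) ∧ (⨆ i, Ui i = ⊤) := by
  have hA : ∀ x : X, ∃ A : X.Opens, IsAffineOpen A ∧ x ∈ A := by
    intro x
    obtain ⟨_, ⟨V, hV, rfl⟩, hxV, -⟩ :=
      X.isBasis_affineOpens.exists_subset_of_mem_open (Set.mem_univ x) isOpen_univ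
    exact ⟨V, hV, hxV⟩
  choose A hAaff hxA using hA
  obtain ⟨t, ht⟩ := isCompact_univ.elim_finite_subcover (fun x : X => (A x : Set X))
    (fun x => (A x).2) (fun x _ => Set.mem_iUnion.mpr ⟨x, hxA x⟩)
  refine ⟨t.card, fun k => A (t.equivFin.symm k).1, fun k => hAaff _, ?_⟩
  rw [eq_top_iff]
  intro y _
  have := ht (Set.mem_univ y)
  simp only [Set.mem_iUnion] at this
  obtain ⟨x, hx, hy⟩ := this
  refine Opens.mem_iSup.mpr ⟨t.equivFin ⟨x, hx⟩, ?_⟩
  simpa using hy

lemma isAffineOpen_biInf {X : Scheme.{u}}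
    (hd : ∀ V W : X.Opens, IsAffineOpen V → IsAffineOpen W → IsAffineOpen (V ⊓ W))
    {ι : Type u} [DecidableEq ι] (𝒰 : ι → X.Opens) (h𝒰 : ∀ i, IsAffineOpen (𝒰 i))
    (s : Finset ι) (hs : s.Nonempty) : IsAffineOpen (⨅ i ∈ s, 𝒰 i) := by
  induction hs using Finset.Nonempty.cons_induction with
  | singleton a =>
    rw [Finset.iInf_singleton]
    exact h𝒰 a
  | cons a s h hs ih =>
    rw [Finset.cons_eq_insert, Finset.iInf_insert]
    exact hd _ _ (h𝒰 a) ih

lemma inf_affine_of_separated {X Y : Scheme.{u}} (f : X ⟶ Y) [IsAffine Y] [IsSeparated f]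
    (V W : X.Opens) (hV : IsAffineOpen V) (hW : IsAffineOpen W) : IsAffineOpen (V ⊓ W) :=
  isAffineHom_diagonal_iff.mp (inferInstance : IsAffineHom (pullback.diagonal f)) ⊤
    (isAffineOpen_top _) V le_top W le_top hV hW

section

variable (A : Type u) [CommRing A] {X : Scheme.{u}} [X.Over (Spec (CommRingCat.of A))]
  {ι : Type u} [Fintype ι] [DecidableEq ι] (𝒰 : ι → X.Opens)
  (hU : ∀ s : Finset ι, s.Nonempty → IsAffineOpen (⨅ i ∈ s, 𝒰 i))
  (F : X.Modules) [F.IsQuasicoherent]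

include hU in
lemma flat_CC (hfl : FlatMod.IsFlatOver (X ↘ Spec (CommRingCat.of A)) F) (i : ℤ) :
    Module.Flat A ((CC A 𝒰 F).X i) := by
  cases i with
  | ofNat n =>
    show Module.Flat A (Cn A 𝒰 F n)
    haveI : ∀ σ : Fin (n + 1) → ι, Module.Flat A (SecA A F (VV 𝒰 σ)) := fun σ =>
      Groth.Agent.Lib.FibVanH2.flat_sections A F hfl (isAffineOpen_T_left 𝒰 hU σ)
    exact Module.Flat.of_linearEquiv
      (DFinsupp.linearEquivFunOnFintype (R := A)
        (M := fun σ : Fin (n + 1) → ι => SecA A F (VV 𝒰 σ))).symm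
  | negSucc n =>
    show Module.Flat A PUnit.{u + 1}
    infer_instance

variable (hcov : ⨆ i, 𝒰 i = ⊤)

/-- the `A`-linear isomorphism from Čech cohomology to cohomology -/
noncomputable def toHHLin (G : X.Modules) [G.IsQuasicoherent] (p : ℕ) :
    (CC A 𝒰 G).homology (Int.ofNat p) ≃ₗ[A] Coh.HH X G p :=
  LinearEquiv.ofBijective
    { toFun := toHH A 𝒰 hcov G p
      map_add' := map_add _
      map_smul' := toHH_smul A 𝒰 hcov G p }
    (toHH_bijective A 𝒰 hcov hU G p)

include hU hcov in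
lemma finite_homology_CC [IsNoetherianRing A] [IsProper (X ↘ Spec (CommRingCat.of A))]
    (hF : Coh.IsCoh F) (i : ℤ) : Module.Finite A ((CC A 𝒰 F).homology i) := by
  cases i with
  | ofNat p =>
    haveI := ProperFinH9.finite_HH_of_proper A X F hF p
    exact Module.Finite.equiv (toHHLin A 𝒰 hU hcov F p).symm
  | negSucc n =>
    have hz : IsZero ((CC A 𝒰 F).homology (Int.negSucc n)) :=
      isZero_homology_of_isZero_X _ _ (isZero_CC_negSucc A 𝒰 F n)
    haveI : Subsingleton ((CC A 𝒰 F).homology (Int.negSucc n)) :=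
      ModuleCat.subsingleton_of_isZero hz
    exact Module.Finite.of_finite

include hU hcov in
lemma isZero_homology_tensor (t : ℕ)
    (hvan : ∀ (G : X.Modules) [G.IsQuasicoherent] (p : ℕ), t ≤ p → Subsingleton (Coh.HH X G p))
    (M : ModuleCat.{u} A) (i : ℤ) (hi : (t : ℤ) < i) :
    IsZero (((TR M).obj (CC A 𝒰 F)).homology i) := by
  cases i with
  | ofNat p =>
    have hp : t ≤ p := by
      have : (t : ℤ) < (p : ℤ) := hi
      omega
    have e := (natIso A 𝒰 hU F hcov p).app M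
    haveI : Subsingleton ↑((CohIII.tensorAFunctor A F ⋙ CohIII.HAb X p).obj M) :=
      hvan (GM A F M) p hp
    haveI : Subsingleton ((CohIII.T (CC A 𝒰 F) (Int.ofNat p) M : ModuleCat.{u} A)) :=
      (Iso.addCommGroupIsoToAddEquiv e).toEquiv.subsingleton
    exact ModuleCat.isZero_of_subsingleton _
  | negSucc n =>
    exfalso
    have : (0 : ℤ) ≤ t := Int.natCast_nonneg t
    have h2 : Int.negSucc n < 0 := Int.negSucc_lt_zero n
    omega

end

/-- **The Grothendieck complex.** For `X` proper over a Noetherian ring `A` and `F` coherent and flat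
over `A`, there is a bounded-above complex `L` of finite free `A`-modules with
`H^p(X, f^*(M~) ⊗ F) ≅ H^p(L ⊗_A M)`, naturally in the `A`-module `M`. -/
theorem main (A : Type u) [CommRing A] [IsNoetherianRing A] (X : Scheme.{u})
    [X.Over (Spec (CommRingCat.of A))] [IsProper (X ↘ Spec (CommRingCat.of A))]
    (F : X.Modules) (hF : Coh.IsCoh F)
    (hfl : FlatMod.IsFlatOver (X ↘ Spec (CommRingCat.of A)) F) :
    ∃ L : CochainComplex (ModuleCat.{u} A) ℤ,
      (∀ i, Module.Finite A (L.X i) ∧ Module.Free A (L.X i)) ∧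
      (∃ b : ℤ, ∀ i, b < i → IsZero (L.X i)) ∧
      ∀ p : ℕ, Nonempty (CohIII.tensorAFunctor A F ⋙ CohIII.HAb X p ≅
        CohIII.TFun L (p : ℤ) ⋙ forget₂ (ModuleCat.{u} A) AddCommGrpCat.{u}) := by
  classical
  haveI : F.IsQuasicoherent := hF.1
  haveI : CompactSpace X :=
    QuasiCompact.compactSpace_of_compactSpace (X ↘ Spec (CommRingCat.of A))
  obtain ⟨t, U', hU', hcov'⟩ := exists_affine_cover X
  have hd : ∀ V W : X.Opens, IsAffineOpen V → IsAffineOpen W → IsAffineOpen (V ⊓ W) :=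
    inf_affine_of_separated (X ↘ Spec (CommRingCat.of A))
  let 𝒰 : ULift.{u} (Fin t) → X.Opens := fun i => U' i.down
  have hcov : ⨆ i, 𝒰 i = ⊤ := by
    rw [eq_top_iff, ← hcov']
    exact iSup_le fun i => le_iSup 𝒰 ⟨i⟩
  have hU := isAffineOpen_biInf hd 𝒰 (fun i => hU' i.down)
  have hvan : ∀ (G : X.Modules) [G.IsQuasicoherent] (p : ℕ), t ≤ p →
      Subsingleton (Coh.HH X G p) := fun G _ p hp =>
    AffVanish.HH_subsingleton_of_cover X t U' hU' hcov' hd G p hp
  obtain ⟨L, u, hL, hLz, hu⟩ := exists_L (CC A 𝒰 F) (flat_CC A 𝒰 hU F hfl)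
    (finite_homology_CC A 𝒰 hU F hcov hF) (t : ℤ)
    (fun M i hi => isZero_homology_tensor A 𝒰 hU F hcov t hvan M i hi)
  exact ⟨L, hL, ⟨t, hLz⟩, fun p => ⟨(natIso A 𝒰 hU F hcov p).symm ≪≫
    (Functor.isoWhiskerRight (TFunIso u hu (Int.ofNat p)) _).symm⟩⟩

end Groth.Agent.Lib.BCMainH2
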