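import Groth.Agent.Lib.Desc2_helper8

/-!
# Descent of properties of morphisms of quasi-coherent modules along flat covers (helper8)
-/

universe u

open CategoryTheory CategoryTheory.Limits AlgebraicGeometry Opposite TopologicalSpace

namespace DescH8

/-- A jointly surjective family of flat morphisms. -/
structure IsFlatCover {Y : Scheme.{u}} (R : Presieve Y) : Prop where
  flat : ∀ ⦃X : Scheme.{u}⦄ ⦃g : X ⟶ Y⦄, R g → Flat g
  surj : ∀ y : Y, ∃ (X : Scheme.{u}) (g : X ⟶ Y), R g ∧ ∃ x : X, g x = y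

theorem isFlatCover_of_mem_fpqc {Y : Scheme.{u}} {R : Presieve Y}
    (h : R ∈ Scheme.fpqcPrecoverage Y) : IsFlatCover R := by
  have h2 : R ∈ Scheme.precoverage @Flat Y := h.2
  refine ⟨fun X g hg => h2.2 hg, fun y => ?_⟩
  obtain ⟨X, g, hg, x, hx⟩ :=
    (Presieve.mem_comap_jointlySurjectivePrecoverage_iff Scheme.forget).1 h2.1 y
  exact ⟨X, g, hg, x, hx⟩

variable {Y : Scheme.{u}} {F G : Y.Modules} [F.IsQuasicoherent] [G.IsQuasicoherent] (u : F ⟶ G)
  {R : Presieve Y} (hR : IsFlatCover R)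

include hR

theorem isIso_of_flatCover
    (h : ∀ ⦃X : Scheme.{u}⦄ ⦃g : X ⟶ Y⦄, R g → IsIso ((Scheme.Modules.pullback g).map u)) :
    IsIso u := by
  refine isIso_of_stk_bijective u (fun y => ?_)
  obtain ⟨X, g, hg, x, rfl⟩ := hR.surj y
  haveI := hR.flat hg
  haveI := h hg
  have hd := descent_at g u x (Flat.stalkMap g x)
  have hb := stk_bijective_of_isIso ((Scheme.Modules.pullback g).map u) x
  exact ⟨hd.1.1 hb.1, hd.2.1.1 hb.2⟩

theorem epi_of_flatCover
    (h : ∀ ⦃X : Scheme.{u}⦄ ⦃g : X ⟶ Y⦄, R g → Epi ((Scheme.Modules.pullback g).map u)) :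
    Epi u := by
  refine epi_of_stk_surjective u (fun y => ?_)
  obtain ⟨X, g, hg, x, rfl⟩ := hR.surj y
  haveI := hR.flat hg
  haveI := h hg
  have hd := descent_at g u x (Flat.stalkMap g x)
  exact hd.2.1.1 (EpiLoc.stalk_surjective_of_epi ((Scheme.Modules.pullback g).map u) x)

theorem eq_zero_of_flatCover
    (h : ∀ ⦃X : Scheme.{u}⦄ ⦃g : X ⟶ Y⦄, R g → (Scheme.Modules.pullback g).map u = 0) :
    u = 0 := by
  refine eq_zero_of_stk_eq_zero u (fun y => ?_)
  obtain ⟨X, g, hg, x, rfl⟩ := hR.surj y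
  haveI := hR.flat hg
  have hd := descent_at g u x (Flat.stalkMap g x)
  exact hd.2.2.1 (stk_eq_zero_of_eq_zero _ (h hg) x)

theorem mono_of_flatCover
    (h : ∀ ⦃X : Scheme.{u}⦄ ⦃g : X ⟶ Y⦄, R g → Mono ((Scheme.Modules.pullback g).map u)) :
    Mono u := by
  refine mono_of_stk_injective u (fun y => ?_)
  obtain ⟨X, g, hg, x, rfl⟩ := hR.surj y
  haveI := hR.flat hg
  haveI := h hg
  have hd := descent_at g u x (Flat.stalkMap g x)
  exact hd.1.1 (stk_injective_of_mono ((Scheme.Modules.pullback g).map u) x)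

omit hR in
/-- Pullback along a flat morphism preserves monomorphisms of quasi-coherent modules. -/
theorem mono_pullback_of_flat {X : Scheme.{u}} (g : X ⟶ Y) [Flat g] [Mono u] :
    Mono ((Scheme.Modules.pullback g).map u) := by
  refine mono_of_stk_injective _ (fun x => ?_)
  have hd := descent_at g u x (Flat.stalkMap g x)
  exact hd.1.2 (stk_injective_of_mono u (g x))

end DescH8
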