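import Groth.Agent.Lib.LimModMain1_helper2
import Groth.Agent.Lib.SubExt_helper9
import Groth.Agent.Lib.BMod2_helper6
import Groth.Agent.Lib.Desc3_helper8

/-!
# Categorical lemmas on exactness and right exact functors; flat pullback of modules (helper2)
APPEND-ONLY once landed.
-/

set_option autoImplicit false
set_option maxHeartbeats 1000000
set_option linter.style.haveILetI false
set_option linter.unusedSectionVars false
set_option linter.unusedVariables false
universe u v v' w w'

open CategoryTheory CategoryTheory.Limits AlgebraicGeometry TopologicalSpace Opposite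

namespace Groth.Agent.Lib.LimMod

section Cat

variable {C : Type w} [Category.{v} C] [Abelian C] {D : Type w'} [Category.{v'} D] [Abelian D]

/-- Exactness together with epimorphy transfers along a natural isomorphism of functors. -/
theorem exactEpi_of_natIso {P Q : C ⥤ D} [P.PreservesZeroMorphisms] [Q.PreservesZeroMorphisms]
    (α : P ≅ Q) {A B E : C} (f : A ⟶ B) (g : B ⟶ E)
    (H : ∃ w : P.map f ≫ P.map g = 0, (ShortComplex.mk _ _ w).Exact ∧ Epi (P.map g)) :
    ∃ w : Q.map f ≫ Q.map g = 0, (ShortComplex.mk _ _ w).Exact ∧ Epi (Q.map g) := by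
  obtain ⟨w, hex, hepi⟩ := H
  have w' : Q.map f ≫ Q.map g = 0 := by
    rw [← NatIso.naturality_1 α f, ← NatIso.naturality_1 α g]
    simp only [Category.assoc, Iso.hom_inv_id_app_assoc]
    rw [reassoc_of% w]
    simp
  refine ⟨w', ?_⟩
  have e : ShortComplex.mk _ _ w ≅ ShortComplex.mk _ _ w' :=
    ShortComplex.isoMk (α.app A) (α.app B) (α.app E) (α.hom.naturality f).symm
      (α.hom.naturality g).symm
  exact (ShortComplex.exact_and_epi_g_iff_of_iso e).mp ⟨hex, hepi⟩

theorem exactEpi_iff_of_natIso {P Q : C ⥤ D} [P.PreservesZeroMorphisms]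
    [Q.PreservesZeroMorphisms] (α : P ≅ Q) {A B E : C} (f : A ⟶ B) (g : B ⟶ E) :
    (∃ w : P.map f ≫ P.map g = 0, (ShortComplex.mk _ _ w).Exact ∧ Epi (P.map g)) ↔
      ∃ w : Q.map f ≫ Q.map g = 0, (ShortComplex.mk _ _ w).Exact ∧ Epi (Q.map g) :=
  ⟨exactEpi_of_natIso α f g, exactEpi_of_natIso α.symm f g⟩

/-- Exactness transfers along a natural isomorphism of functors. -/
theorem exact_of_natIso {P Q : C ⥤ D} [P.PreservesZeroMorphisms] [Q.PreservesZeroMorphisms]
    (α : P ≅ Q) {A B E : C} (f : A ⟶ B) (g : B ⟶ E)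
    (H : ∃ w : P.map f ≫ P.map g = 0, (ShortComplex.mk _ _ w).Exact) :
    ∃ w : Q.map f ≫ Q.map g = 0, (ShortComplex.mk _ _ w).Exact := by
  obtain ⟨w, hex⟩ := H
  have w' : Q.map f ≫ Q.map g = 0 := by
    rw [← NatIso.naturality_1 α f, ← NatIso.naturality_1 α g]
    simp only [Category.assoc, Iso.hom_inv_id_app_assoc]
    rw [reassoc_of% w]
    simp
  refine ⟨w', ?_⟩
  have e : ShortComplex.mk _ _ w ≅ ShortComplex.mk _ _ w' :=
    ShortComplex.isoMk (α.app A) (α.app B) (α.app E) (α.hom.naturality f).symm
      (α.hom.naturality g).symm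
  exact (ShortComplex.exact_iff_of_iso e).mp hex

theorem exact_iff_of_natIso {P Q : C ⥤ D} [P.PreservesZeroMorphisms]
    [Q.PreservesZeroMorphisms] (α : P ≅ Q) {A B E : C} (f : A ⟶ B) (g : B ⟶ E) :
    (∃ w : P.map f ≫ P.map g = 0, (ShortComplex.mk _ _ w).Exact) ↔
      ∃ w : Q.map f ≫ Q.map g = 0, (ShortComplex.mk _ _ w).Exact :=
  ⟨exact_of_natIso α f g, exact_of_natIso α.symm f g⟩

variable (L : C ⥤ D) [L.PreservesZeroMorphisms]

/-- A right exact functor preserves "exact and epi". -/
theorem exactEpi_map {A B E : C} (f : A ⟶ B) (g : B ⟶ E)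
    [PreservesColimit (parallelPair f 0) L]
    (H : ∃ w : f ≫ g = 0, (ShortComplex.mk _ _ w).Exact ∧ Epi g) :
    ∃ w : L.map f ≫ L.map g = 0, (ShortComplex.mk _ _ w).Exact ∧ Epi (L.map g) := by
  obtain ⟨w, hex, hepi⟩ := H
  have w' : L.map f ≫ L.map g = 0 := by rw [← L.map_comp, w, L.map_zero]
  refine ⟨w', ?_⟩
  haveI : Epi (ShortComplex.mk f g w).g := hepi
  have hcol := CokernelCofork.mapIsColimit _ hex.gIsCokernel L
  exact (ShortComplex.mk _ _ w').exact_and_epi_g_iff_g_is_cokernel.mpr ⟨hcol⟩

/-- For a right exact functor `L` and `f ≫ g = 0`: the image under `L` of `f, g` is exact with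
`L g` epi iff `L` maps the comparison `coker f ⟶ E` to an isomorphism. -/
theorem exactEpi_map_iff_isIso {A B E : C} {f : A ⟶ B} {g : B ⟶ E} (w : f ≫ g = 0)
    [PreservesColimit (parallelPair f 0) L] :
    (∃ w' : L.map f ≫ L.map g = 0, (ShortComplex.mk _ _ w').Exact ∧ Epi (L.map g)) ↔
      IsIso (L.map (cokernel.desc f g w)) := by
  have hfac : L.map (cokernel.π f) ≫ L.map (cokernel.desc f g w) = L.map g := by
    rw [← L.map_comp, cokernel.π_desc]
  have wπ : L.map f ≫ L.map (cokernel.π f) = 0 := by
    rw [← L.map_comp, cokernel.condition, L.map_zero]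
  have hπ : IsColimit (CokernelCofork.ofπ (L.map (cokernel.π f)) wπ) :=
    CokernelCofork.mapIsColimit _ (cokernelIsCokernel f) L
  constructor
  · rintro ⟨w', hex, hepi⟩
    haveI : Epi (ShortComplex.mk _ _ w').g := hepi
    have hg : IsColimit (CokernelCofork.ofπ (L.map g) w') := hex.gIsCokernel
    have key : L.map (cokernel.desc f g w) =
        (IsColimit.coconePointUniqueUpToIso hπ hg).hom := by
      apply Cofork.IsColimit.hom_ext hπ
      have h1 := IsColimit.comp_coconePointUniqueUpToIso_hom hπ hg WalkingParallelPair.one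
      exact hfac.trans h1.symm
    rw [key]
    infer_instance
  · intro hiso
    have w' : L.map f ≫ L.map g = 0 := by rw [← L.map_comp, w, L.map_zero]
    refine ⟨w', ?_⟩
    have e : ShortComplex.mk _ _ wπ ≅ ShortComplex.mk _ _ w' :=
      ShortComplex.isoMk (Iso.refl _) (Iso.refl _) (asIso (L.map (cokernel.desc f g w)))
        (by simp) (by simpa using hfac.symm)
    exact (ShortComplex.exact_and_epi_g_iff_of_iso e).mp
      ((ShortComplex.mk _ _ wπ).exact_and_epi_g_iff_g_is_cokernel.mpr ⟨hπ⟩)

/-- For a right exact functor `L` which is also left exact on `0 → ker g → B → E`: the image of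
`f, g` under `L` is exact iff `L` kills `f ≫ g` and `ker g → coker f`. -/
theorem exact_map_iff {A B E : C} (f : A ⟶ B) (g : B ⟶ E)
    [PreservesColimit (parallelPair f 0) L] [Mono (L.map (kernel.ι g))]
    (hK : (ShortComplex.mk (L.map (kernel.ι g)) (L.map g)
      (by rw [← L.map_comp, kernel.condition, L.map_zero])).Exact) :
    (∃ w' : L.map f ≫ L.map g = 0, (ShortComplex.mk _ _ w').Exact) ↔
      L.map (f ≫ g) = 0 ∧ L.map (kernel.ι g ≫ cokernel.π f) = 0 := by
  constructor
  · rintro ⟨w', hex⟩
    refine ⟨by rw [L.map_comp, w'], ?_⟩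
    have h1 : kernel.ι (L.map g) ≫ cokernel.π (L.map f) = 0 :=
      (ShortComplex.mk _ _ w').exact_iff_kernel_ι_comp_cokernel_π_zero.mp hex
    have h2 : L.map (kernel.ι g) = kernel.lift (L.map g) (L.map (kernel.ι g))
        (by rw [← L.map_comp, kernel.condition, L.map_zero]) ≫ kernel.ι (L.map g) :=
      (kernel.lift_ι _ _ _).symm
    rw [L.map_comp, ← π_comp_cokernelComparison, h2, Category.assoc, reassoc_of% h1]
    simp
  · rintro ⟨h1, h2⟩
    have w' : L.map f ≫ L.map g = 0 := by rw [← L.map_comp, h1]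
    refine ⟨w', ?_⟩
    rw [ShortComplex.exact_iff_kernel_ι_comp_cokernel_π_zero]
    change kernel.ι (L.map g) ≫ cokernel.π (L.map f) = 0
    haveI : Mono (ShortComplex.mk (L.map (kernel.ι g)) (L.map g)
      (by rw [← L.map_comp, kernel.condition, L.map_zero])).f := ‹Mono (L.map (kernel.ι g))›
    have h3 := hK.lift_f (kernel.ι (L.map g)) (kernel.condition _)
    have h4 : cokernel.π (L.map f) = L.map (cokernel.π f) ≫ inv (cokernelComparison f L) := by
      rw [← π_comp_cokernelComparison, Category.assoc, IsIso.hom_inv_id, Category.comp_id]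
    rw [← h3, h4]
    change (hK.lift (kernel.ι (L.map g)) (kernel.condition _) ≫ L.map (kernel.ι g)) ≫
      L.map (cokernel.π f) ≫ inv (cokernelComparison f L) = 0
    rw [Category.assoc, ← L.map_comp_assoc, h2]
    simp

end Cat

section Flat

variable {X Y : Scheme.{u}}

/-- Pullback along a flat morphism preserves exactness of short complexes of quasi-coherent
modules. -/
theorem exact_map_pullback_of_flat (φ : X ⟶ Y) [Flat φ] (S : ShortComplex Y.Modules)
    [S.X₁.IsQuasicoherent] [S.X₂.IsQuasicoherent] [S.X₃.IsQuasicoherent] (hS : S.Exact) :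
    (S.map (Scheme.Modules.pullback φ)).Exact := by
  haveI : (cokernel S.f).IsQuasicoherent :=
    Groth.Agent.Lib.BModH6.isQuasicoherent_cokernel S.f
  haveI : Mono (cokernel.desc S.f S.g S.zero) := hS.mono_cokernelDesc
  haveI : Mono ((Scheme.Modules.pullback φ).map (cokernel.desc S.f S.g S.zero)) :=
    DescH8.mono_pullback_of_flat _ φ
  rw [ShortComplex.exact_iff_mono_cokernel_desc]
  have e := cokernelComparison_map_desc S.f (Scheme.Modules.pullback φ) S.zero
  change Mono (cokernel.desc ((Scheme.Modules.pullback φ).map S.f)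
    ((Scheme.Modules.pullback φ).map S.g) _)
  rw [← e]
  exact mono_comp _ _

/-- For a flat morphism: the pullback of a morphism of quasi-coherent modules is a monomorphism
iff the pullback of its kernel inclusion vanishes. -/
theorem mono_pullback_iff_of_flat (φ : X ⟶ Y) [Flat φ] {F G : Y.Modules} [F.IsQuasicoherent]
    [G.IsQuasicoherent] (f : F ⟶ G) :
    Mono ((Scheme.Modules.pullback φ).map f) ↔
      (Scheme.Modules.pullback φ).map (kernel.ι f) = 0 := by
  constructor
  · intro hm
    rw [← cancel_mono ((Scheme.Modules.pullback φ).map f), ← Functor.map_comp, kernel.condition,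
      Functor.map_zero, zero_comp]
  · intro h0
    haveI : (kernel f).IsQuasicoherent := SubExt.isQuasicoherent_kernel f
    let S : ShortComplex Y.Modules := ShortComplex.mk (kernel.ι f) f (kernel.condition f)
    haveI : S.X₁.IsQuasicoherent := ‹(kernel f).IsQuasicoherent›
    haveI : S.X₂.IsQuasicoherent := ‹F.IsQuasicoherent›
    haveI : S.X₃.IsQuasicoherent := ‹G.IsQuasicoherent›
    have hS : S.Exact := ShortComplex.exact_kernel f
    have h1 := exact_map_pullback_of_flat φ S hS
    exact ((S.map (Scheme.Modules.pullback φ)).exact_iff_mono h0).mp h1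

/-- The kernel of an epimorphism from a finite type onto a finitely presented quasi-coherent
module is of finite type. -/
theorem isFT_kernel_of_epi {F G : X.Modules} [F.IsQuasicoherent] [G.IsQuasicoherent]
    (hF : CohB1.IsFT F) (hG : CohB1.IsFP G) (p : F ⟶ G) [Epi p] : CohB1.IsFT (kernel p) := by
  haveI : (kernel p).IsQuasicoherent := SubExt.isQuasicoherent_kernel p
  apply SerreFT.isFT_of_finite_affine
  intro V hV
  haveI := hF
  haveI := hG
  haveI : Module.Finite Γ(X, V) Γ(F, V) := QCohFT.finite_of_isFiniteType F hV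
  haveI : Module.FinitePresentation Γ(X, V) Γ(G, V) :=
    QCohFP2.finitePresentation_of_isFinitePresentation G hV
  have hsurj : Function.Surjective (SerreFT.apL p V) := QCohExact.app_surjective_of_epi p hV
  have hker : (LinearMap.ker (SerreFT.apL p V)).FG :=
    Module.FinitePresentation.fg_ker (SerreFT.apL p V) hsurj
  let S : ShortComplex X.Modules := ShortComplex.mk (kernel.ι p) p (kernel.condition p)
  have hS : S.Exact := ShortComplex.exact_kernel p
  haveI : Mono S.f := inferInstanceAs (Mono (kernel.ι p))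
  have hinj : Function.Injective (SerreFT.apL (kernel.ι p) V) :=
    QCohExact.app_injective_of_mono (kernel.ι p) V
  have hrange : LinearMap.range (SerreFT.apL (kernel.ι p) V) =
      LinearMap.ker (SerreFT.apL p V) := by
    apply le_antisymm
    · rintro _ ⟨k, rfl⟩
      exact congrArg (fun φ : kernel p ⟶ G => QCohExtn.ap φ V k) (kernel.condition p)
    · intro e he
      obtain ⟨k, hk⟩ := QCohExact.app_exact S hS V e he
      exact ⟨k, hk⟩
  let eq : Γ(kernel p, V) ≃ₗ[Γ(X, V)] LinearMap.range (SerreFT.apL (kernel.ι p) V) :=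
    LinearEquiv.ofInjective _ hinj
  haveI : Module.Finite Γ(X, V) (LinearMap.range (SerreFT.apL (kernel.ι p) V)) := by
    rw [hrange]
    exact Module.Finite.iff_fg.mpr hker
  exact Module.Finite.equiv eq.symm

end Flat

end Groth.Agent.Lib.LimMod
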