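import Mathlib
import Groth.Prelude
import Groth.Agent.Lib.FlatBC2_helper2
import Groth.Agent.Lib.RpushVanish_helper9
import Groth.Agent.Lib.Leray_helper9
import Groth.Agent.Lib.AffVanish_helper9
import Groth.Agent.Lib.LimModCat_helper2
import Groth.Agent.Lib.ProjFin1_helper9
import Groth.Agent.Lib.BMod2_helper6

/-!
# Flat base change for cohomology, III: the acyclic embedding (helper2)

For a finite cover of `X` by affine opens `U i` with affine inclusions, every quasi-coherent `M`
embeds into `∐ j_{i*} (M|_{U i})`, which is quasi-coherent and acyclic, and stays acyclic after an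
affine flat base change.
APPEND-ONLY once landed.
-/

set_option autoImplicit false
universe u

open CategoryTheory CategoryTheory.Limits AlgebraicGeometry TopologicalSpace Opposite

namespace Groth.Agent.Lib.FlatBCH2

open Groth.Agent.Lib.FormalFnH2 Groth.Agent.HHVan

section Van

/-- the cohomology of a retract-sum vanishes if that of the summands does -/
theorem subsingleton_HH_of_total {Y : Scheme.{u}} {ι : Type*} [Fintype ι] (Z : Y.Modules)
    (G : ι → Y.Modules) (p : ∀ i, Z ⟶ G i) (q : ∀ i, G i ⟶ Z) (hpq : ∑ i, p i ≫ q i = 𝟙 Z)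
    (n : ℕ) (h : ∀ i, Subsingleton (Coh.HH Y (G i) n)) : Subsingleton (Coh.HH Y Z n) := by
  have h0 : ∀ x : Coh.HH Y Z n, x = 0 := by
    intro x
    have h1 : x = ∑ i, Groth.Agent.ProjFin.HmapHom n ((SerreCrit.TT Y).map (p i ≫ q i)) x := by
      rw [← AddMonoidHom.finset_sum_apply, ← map_sum, ← Functor.map_sum, hpq,
        CategoryTheory.Functor.map_id]
      exact (Sheaf.H.map_id_apply x).symm
    rw [h1]
    apply Finset.sum_eq_zero
    intro i _
    show hmap (p i ≫ q i) n x = 0
    rw [hmap_comp, Subsingleton.elim (hmap (p i) n x) 0, map_zero]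
  exact ⟨fun x y => by rw [h0 x, h0 y]⟩

/-- Higher cohomology of the pushforward of a quasi-coherent module along an affine morphism from
an affine scheme vanishes. -/
theorem subsingleton_HH_push_affine {V X : Scheme.{u}} (j : V ⟶ X) [IsAffineHom j] [IsAffine V]
    (N : V.Modules) [N.IsQuasicoherent] (n : ℕ) :
    Subsingleton (Coh.HH X ((Scheme.Modules.pushforward j).obj N) (n + 1)) := by
  obtain ⟨e⟩ := Leray.nonempty_H_addEquiv_push j.base (Coh.toAb N)
    (fun q => RpushVanish.isZero_RpushAb_of_isAffineHom j N q) (n + 1)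
  haveI := AffVanish.HH_subsingleton_of_isAffine V N n
  refine ⟨fun x y => ?_⟩
  have hx : ∀ z : Coh.HH X ((Scheme.Modules.pushforward j).obj N) (n + 1), z = 0 := by
    intro z
    have h0 : e.symm z = 0 := Subsingleton.elim _ _
    have := congrArg e h0
    rwa [AddEquiv.apply_symm_apply, map_zero] at this
  rw [hx x, hx y]

end Van

section Emb

variable {X : Scheme.{u}} {ι : Type u} [Fintype ι] [DecidableEq ι] (U : ι → X.Opens)

/-- `j_{i*} (M|_{U i})` -/
noncomputable abbrev Gi (M : X.Modules) (i : ι) : X.Modules :=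
  (Scheme.Modules.pushforward (U i).ι).obj (M.restrict (U i).ι)

/-- the unit `M ⟶ j_{i*} (M|_{U i})` -/
noncomputable def ηi (M : X.Modules) (i : ι) : M ⟶ Gi U M i :=
  (Scheme.Modules.restrictAdjunction (U i).ι).unit.app M

/-- `∐ j_{i*} (M|_{U i})` -/
noncomputable abbrev GGc (M : X.Modules) : X.Modules := ∐ fun i => Gi U M i

/-- the embedding -/
noncomputable def ηc (M : X.Modules) : M ⟶ GGc U M :=
  ∑ i, ηi U M i ≫ Sigma.ι (fun i => Gi U M i) i

theorem ηc_π (M : X.Modules) (k : ι) :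
    ηc U M ≫ Sigma.π (fun i => Gi U M i) k = ηi U M k := by
  unfold ηc
  rw [Preadditive.sum_comp, Finset.sum_eq_single k]
  · rw [Category.assoc, Sigma.ι_π_eq_id, Category.comp_id]
  · intro i _ hik
    rw [Category.assoc, Sigma.ι_π_of_ne _ hik, comp_zero]
  · intro h
    exact absurd (Finset.mem_univ k) h

theorem mono_ηc (hcov : ⨆ i, U i = ⊤) (M : X.Modules) : Mono (ηc U M) := by
  constructor
  intro Z a b hab
  have h1 : ∀ k, a ≫ ηi U M k = b ≫ ηi U M k := fun k => by
    rw [← ηc_π, ← Category.assoc, ← Category.assoc, hab]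
  refine Scheme.Modules.hom_ext _ _ (fun V => ?_)
  ext x
  apply QcqsLoc.eq_of_cover
  intro p hp
  have hp' : p ∈ ⨆ i, U i := by rw [hcov]; trivial
  obtain ⟨i, hi⟩ := Opens.mem_iSup.mp hp'
  refine ⟨(U i).ι ''ᵁ ((U i).ι ⁻¹ᵁ V), (U i).ι.image_preimage_le V, ?_, ?_⟩
  · exact ⟨⟨p, hi⟩, hp, rfl⟩
  · have h2 := congrArg (fun φ => φ.app V x) (h1 i)
    exact h2

theorem isQuasicoherent_Gi (hU : ∀ i, IsAffineHom (U i).ι) (M : X.Modules) [M.IsQuasicoherent]
    (i : ι) : (Gi U M i).IsQuasicoherent :=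
  haveI := hU i
  QcqsLoc.isQuasicoherent_pushforward_qcqs (U i).ι _

theorem isQuasicoherent_GGc (hU : ∀ i, IsAffineHom (U i).ι) (M : X.Modules)
    [M.IsQuasicoherent] : (GGc U M).IsQuasicoherent := by
  haveI : ∀ i, (Gi U M i).IsQuasicoherent := fun i => isQuasicoherent_Gi U hU M i
  exact Groth.Agent.Lib.BModH6.isQuasicoherent_sigma _

theorem subsingleton_HH_GGc (hA : ∀ i, IsAffineOpen (U i)) (hU : ∀ i, IsAffineHom (U i).ι)
    (M : X.Modules) [M.IsQuasicoherent] (n : ℕ) :
    Subsingleton (Coh.HH X (GGc U M) (n + 1)) := by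
  refine subsingleton_HH_of_total (GGc U M) (fun i => Gi U M i)
    (fun i => Sigma.π (fun i => Gi U M i) i) (fun i => Sigma.ι (fun i => Gi U M i) i)
    (sigma_total _) (n + 1) (fun i => ?_)
  haveI := hU i
  haveI : IsAffine ((U i : X.Opens) : Scheme.{u}) := hA i
  exact subsingleton_HH_push_affine (U i).ι _ n

end Emb

section EmbBC

variable {X X' : Scheme.{u}} (g' : X' ⟶ X) [IsAffineHom g']
  {ι : Type u} [Fintype ι] [DecidableEq ι] (U : ι → X.Opens)

theorem subsingleton_HH_pullback_Gi (hA : ∀ i, IsAffineOpen (U i))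
    (hU : ∀ i, IsAffineHom (U i).ι) (M : X.Modules) [M.IsQuasicoherent] (i : ι) (n : ℕ) :
    Subsingleton (Coh.HH X' ((Scheme.Modules.pullback g').obj (Gi U M i)) (n + 1)) := by
  haveI := hU i
  have hc : IsPullback (g' ∣_ (U i)) (g' ⁻¹ᵁ (U i)).ι (U i).ι g' :=
    isPullback_morphismRestrict g' (U i)
  haveI : IsIso (AffBCH8.bc hc (M.restrict (U i).ι)) := AffBCH8.bc_isIso hc _
  haveI : IsAffineHom (g' ⁻¹ᵁ (U i)).ι :=
    MorphismProperty.of_isPullback (P := @IsAffineHom) hc inferInstance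
  haveI : IsAffine ((g' ⁻¹ᵁ (U i) : X'.Opens) : Scheme.{u}) := (hA i).preimage g'
  haveI : ((Scheme.Modules.pullback (g' ∣_ (U i))).obj (M.restrict (U i).ι)).IsQuasicoherent :=
    PBH8.isQuasicoherent_pullback _ _
  have h := subsingleton_HH_push_affine (g' ⁻¹ᵁ (U i)).ι
    ((Scheme.Modules.pullback (g' ∣_ (U i))).obj (M.restrict (U i).ι)) n
  exact subsingleton_of_iso (asIso (AffBCH8.bc hc (M.restrict (U i).ι))).symm (n + 1) h

theorem subsingleton_HH_pullback_GGc (hA : ∀ i, IsAffineOpen (U i))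
    (hU : ∀ i, IsAffineHom (U i).ι) (M : X.Modules) [M.IsQuasicoherent] (n : ℕ) :
    Subsingleton (Coh.HH X' ((Scheme.Modules.pullback g').obj (GGc U M)) (n + 1)) := by
  refine subsingleton_HH_of_total _ (fun i => (Scheme.Modules.pullback g').obj (Gi U M i))
    (fun i => (Scheme.Modules.pullback g').map (Sigma.π (fun i => Gi U M i) i))
    (fun i => (Scheme.Modules.pullback g').map (Sigma.ι (fun i => Gi U M i) i))
    ?_ (n + 1) (fun i => subsingleton_HH_pullback_Gi g' U hA hU M i n)
  simp_rw [← Functor.map_comp]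
  rw [← Functor.map_sum, sigma_total]
  exact CategoryTheory.Functor.map_id _ _

end EmbBC

end Groth.Agent.Lib.FlatBCH2
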