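import Mathlib
import Groth.Prelude
import Groth.Agent.Lib.FlatBC3_helper2
import Groth.Agent.Lib.LESLin_helper9

/-!
# Flat base change for cohomology, IV: the separated case (helper2)

`A → B` flat, `X` quasi-compact and separated over `Spec A`, `X' = X ×_A Spec B`, `M`
quasi-coherent on `X`: `B ⊗_A H^n(X, M) ≃ H^n(X', g'^* M)`, `B`-linearly.  Proof by dimension
shifting along the acyclic embedding of `FlatBC3`, starting from the natural isomorphism in
degree zero of `FlatBC2`.
APPEND-ONLY once landed.
-/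

set_option autoImplicit false
universe u

open CategoryTheory CategoryTheory.Limits AlgebraicGeometry TopologicalSpace Opposite TensorProduct

namespace Groth.Agent.Lib.FlatBCH2

open Groth.Agent.Lib.FormalFnH2 Groth.Agent.HHVan Groth.Agent.ProjFin

section Main

variable {A B : Type u} [CommRing A] [CommRing B] [Algebra A B] [Module.Flat A B]
  {X X' : Scheme.{u}} [X.Over (Spec (CommRingCat.of A))] [X'.Over (Spec (CommRingCat.of B))]
  (g' : X' ⟶ X)
  (hsq : IsPullback g' (X' ↘ Spec (CommRingCat.of B)) (X ↘ Spec (CommRingCat.of A))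
    (Spec.map (CommRingCat.ofHom (algebraMap A B))))
  {ι : Type u} [Fintype ι] [DecidableEq ι] (U : ι → X.Opens)
  (hcov : ⨆ i, U i = ⊤) (hA : ∀ i, IsAffineOpen (U i)) (hU : ∀ i, IsAffineHom (U i).ι)

include hsq in
theorem isAffineHom_gp : IsAffineHom g' :=
  MorphismProperty.of_isPullback (P := @IsAffineHom) hsq.flip inferInstance

include hsq in
theorem flat_gp : Flat g' := by
  have h1 : Flat (Spec.map (CommRingCat.ofHom (algebraMap A B))) :=
    Flat.SpecMap_iff.mpr (RingHom.flat_algebraMap_iff.mpr inferInstance)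
  exact MorphismProperty.of_isPullback (P := @Flat) hsq.flip h1

/-- the short exact sequence `0 → M → ∐ j_*(M|U_i) → Q → 0` -/
noncomputable abbrev SS (M : X.Modules) : ShortComplex X.Modules :=
  ShortComplex.mk (ηc U M) (cokernel.π (ηc U M)) (cokernel.condition _)

include hcov in
theorem SS_shortExact (M : X.Modules) : (SS U M).ShortExact :=
  { exact := ShortComplex.exact_cokernel (ηc U M)
    mono_f := mono_ηc U hcov M
    epi_g := inferInstanceAs (Epi (cokernel.π (ηc U M))) }

include hU in
theorem isQuasicoherent_Q (M : X.Modules) [M.IsQuasicoherent] :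
    (cokernel (ηc U M)).IsQuasicoherent := by
  haveI := isQuasicoherent_GGc U hU M
  exact Groth.Agent.Lib.BModH6.isQuasicoherent_cokernel (ηc U M)

include hsq hcov hU in
theorem SS'_shortExact (M : X.Modules) [M.IsQuasicoherent] :
    ((SS U M).map (Scheme.Modules.pullback g')).ShortExact := by
  haveI := flat_gp g' hsq
  haveI h2 : (GGc U M).IsQuasicoherent := isQuasicoherent_GGc U hU M
  haveI h3 : (cokernel (ηc U M)).IsQuasicoherent := isQuasicoherent_Q U hU M
  haveI : (SS U M).X₁.IsQuasicoherent := ‹M.IsQuasicoherent›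
  haveI : (SS U M).X₂.IsQuasicoherent := h2
  haveI : (SS U M).X₃.IsQuasicoherent := h3
  haveI := mono_ηc U hcov M
  exact
    { exact := Groth.Agent.Lib.LimMod.exact_map_pullback_of_flat g' (SS U M)
        (SS_shortExact U hcov M).exact
      mono_f := DescH8.mono_pullback_of_flat (ηc U M) g'
      epi_g := inferInstanceAs (Epi ((Scheme.Modules.pullback g').map (cokernel.π (ηc U M)))) }

include hsq hcov hA hU in
/-- the dimension shifting step -/
theorem step (n : ℕ) (M : X.Modules) [M.IsQuasicoherent]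
    (t₁ : Coh.HH X (GGc U M) n →+ Coh.HH X' ((Scheme.Modules.pullback g').obj (GGc U M)) n)
    (h₁ : IsBC A B t₁)
    (t₂ : Coh.HH X (cokernel (ηc U M)) n →+
      Coh.HH X' ((Scheme.Modules.pullback g').obj (cokernel (ηc U M))) n)
    (h₂ : IsBC A B t₂)
    (hcomm : ∀ x, t₂ (hmap (cokernel.π (ηc U M)) n x) =
      hmap ((Scheme.Modules.pullback g').map (cokernel.π (ηc U M))) n (t₁ x)) :
    ∃ t₃ : Coh.HH X M (n + 1) →+ Coh.HH X' ((Scheme.Modules.pullback g').obj M) (n + 1),
      IsBC A B t₃ := by
  haveI := isAffineHom_gp g' hsq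
  have hS := SS_shortExact U hcov M
  have hS' := SS'_shortExact g' hsq U hcov hU M
  haveI s1 := subsingleton_HH_GGc U hA hU M n
  haveI s2 := subsingleton_HH_pullback_GGc g' U hA hU M n
  have hb : Function.Surjective (δlin A (SS U M) hS n) := by
    rw [← LinearMap.range_eq_top, Groth.Agent.LESLin.range_δlin A (SS U M) hS n,
      LinearMap.ker_eq_top]
    exact LinearMap.ext fun x => Subsingleton.elim (h := s1) _ _
  have hb' : Function.Surjective
      (δlin B ((SS U M).map (Scheme.Modules.pullback g')) hS' n) := by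
    rw [← LinearMap.range_eq_top,
      Groth.Agent.LESLin.range_δlin B ((SS U M).map (Scheme.Modules.pullback g')) hS' n,
      LinearMap.ker_eq_top]
    exact LinearMap.ext fun x => Subsingleton.elim (h := s2) _ _
  obtain ⟨t₃, h₃, -⟩ := IsBC.coker (A := A) (B := B)
    (Canon.HHlin A (SS U M).g n) (δlin A (SS U M) hS n)
    (Canon.HHlin B ((SS U M).map (Scheme.Modules.pullback g')).g n)
    (δlin B ((SS U M).map (Scheme.Modules.pullback g')) hS' n)
    (range_HHlin_g A (SS U M) hS n) hb
    (range_HHlin_g B ((SS U M).map (Scheme.Modules.pullback g')) hS' n) hb'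
    t₁ t₂ h₁ h₂ hcomm
  exact ⟨t₃, h₃⟩

variable [CompactSpace X] [QuasiSeparatedSpace X]

include hsq hcov hA hU in
theorem exists_isBC_succ (n : ℕ) : ∀ (M : X.Modules) [M.IsQuasicoherent],
    ∃ t : Coh.HH X M (n + 1) →+ Coh.HH X' ((Scheme.Modules.pullback g').obj M) (n + 1),
      IsBC A B t := by
  haveI := isAffineHom_gp g' hsq
  induction n with
  | zero =>
    intro M _
    haveI := isQuasicoherent_GGc U hU M
    haveI := isQuasicoherent_Q U hU M
    exact step g' hsq U hcov hA hU 0 M (t0 g' (GGc U M)) (isBC_t0 g' hsq (GGc U M))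
      (t0 g' (cokernel (ηc U M))) (isBC_t0 g' hsq (cokernel (ηc U M)))
      (fun x => t0_naturality g' (cokernel.π (ηc U M)) x)
  | succ k ih =>
    intro M _
    haveI := isQuasicoherent_GGc U hU M
    haveI := isQuasicoherent_Q U hU M
    obtain ⟨t₂, h₂⟩ := ih (cokernel (ηc U M))
    haveI s1 := subsingleton_HH_GGc U hA hU M k
    haveI s2 := subsingleton_HH_pullback_GGc g' U hA hU M k
    refine step g' hsq U hcov hA hU (k + 1) M 0 (IsBC.of_subsingleton 0) t₂ h₂ (fun x => ?_)
    rw [Subsingleton.elim x 0, map_zero, map_zero, map_zero, map_zero]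

include hsq hcov hA hU in
theorem exists_isBC (n : ℕ) (M : X.Modules) [M.IsQuasicoherent] :
    ∃ t : Coh.HH X M n →+ Coh.HH X' ((Scheme.Modules.pullback g').obj M) n, IsBC A B t := by
  cases n with
  | zero => exact ⟨t0 g' M, isBC_t0 g' hsq M⟩
  | succ n => exact exists_isBC_succ g' hsq U hcov hA hU n M

end Main

section Sep

variable {A B : Type u} [CommRing A] [CommRing B] [Algebra A B] [Module.Flat A B]
  {X X' : Scheme.{u}} [X.Over (Spec (CommRingCat.of A))] [X'.Over (Spec (CommRingCat.of B))]
  (g' : X' ⟶ X)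
  (hsq : IsPullback g' (X' ↘ Spec (CommRingCat.of B)) (X ↘ Spec (CommRingCat.of A))
    (Spec.map (CommRingCat.ofHom (algebraMap A B))))
  [CompactSpace X] [IsSeparated (X ↘ Spec (CommRingCat.of A))]

include hsq in
/-- **Flat base change** for the cohomology of quasi-coherent modules on a quasi-compact scheme
separated over an affine base. -/
theorem exists_isBC_of_isSeparated (n : ℕ) (M : X.Modules) [M.IsQuasicoherent] :
    ∃ t : Coh.HH X M n →+ Coh.HH X' ((Scheme.Modules.pullback g').obj M) n, IsBC A B t := by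
  classical
  haveI : QuasiSeparatedSpace X :=
    quasiSeparatedSpace_of_quasiSeparated (X ↘ Spec (CommRingCat.of A))
  have hc : IsCompact ((⊤ : X.Opens) : Set X) := by
    rw [Opens.coe_top]
    exact CompactSpace.isCompact_univ (X := X)
  obtain ⟨S, hS, -, hScov⟩ := QBCH8.exists_finite_affine_cover (⊤ : X.Opens) hc
  haveI : Fintype S := hS.fintype
  let U : S → X.Opens := fun i => (i.1 : X.Opens)
  have hcov : ⨆ i, U i = ⊤ := by
    rw [eq_top_iff]
    intro x hx
    obtain ⟨W, hW, hxW⟩ := hScov x hx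
    exact Opens.mem_iSup.mpr ⟨⟨W, hW⟩, hxW⟩
  have hA : ∀ i, IsAffineOpen (U i) := fun i => i.1.2
  have hU : ∀ i, IsAffineHom (U i).ι := by
    intro i
    haveI : IsAffine ((U i : X.Opens) : Scheme.{u}) := hA i
    haveI : IsAffineHom ((U i).ι ≫ (X ↘ Spec (CommRingCat.of A))) := inferInstance
    exact IsAffineHom.of_comp (f := (U i).ι) (g := X ↘ Spec (CommRingCat.of A))
  exact exists_isBC g' hsq U hcov hA hU n M

include hsq in
theorem nonempty_linearEquiv_of_isSeparated (n : ℕ) (M : X.Modules) [M.IsQuasicoherent] :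
    Nonempty (B ⊗[A] Coh.HH X M n ≃ₗ[B]
      Coh.HH X' ((Scheme.Modules.pullback g').obj M) n) := by
  obtain ⟨t, ht⟩ := exists_isBC_of_isSeparated g' hsq n M
  exact ht.nonempty

end Sep

end Groth.Agent.Lib.FlatBCH2
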