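import Mathlib

set_option autoImplicit false

/-! Horizontal composition of base change maps, abstractly and for modules on schemes. -/

namespace Groth.Agent.Lib.BCComp_helper7
open CategoryTheory

section Abstract
variable {AX AY AZ AU AV AW : Type*} [Category AX] [Category AY] [Category AZ]
  [Category AU] [Category AV] [Category AW]
  {Lf : AY ⥤ AX} {Rf : AX ⥤ AY} (af : Lf ⊣ Rf)
  {Lg : AZ ⥤ AY} {Rg : AY ⥤ AZ} (ag : Lg ⊣ Rg)
  {Lh : AZ ⥤ AX} {Rh : AX ⥤ AZ} (ah : Lh ⊣ Rh)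
  {Lφ : AV ⥤ AU} {Rφ : AU ⥤ AV} (aφ : Lφ ⊣ Rφ)
  {Lψ : AW ⥤ AV} {Rψ : AV ⥤ AW} (aψ : Lψ ⊣ Rψ)
  {Lχ : AW ⥤ AU} {Rχ : AU ⥤ AW} (aχ : Lχ ⊣ Rχ)
  {Rξ : AX ⥤ AU} {Rη : AY ⥤ AV} {Rζ : AZ ⥤ AW}
  (p : Lg ⋙ Lf ≅ Lh) (c : Rf ⋙ Rg ≅ Rh) (p' : Lψ ⋙ Lφ ≅ Lχ) (c' : Rφ ⋙ Rψ ≅ Rχ)
  (θ₁ : Rf ⋙ Rη ⟶ Rξ ⋙ Rφ) (θ₂ : Rg ⋙ Rζ ⟶ Rη ⋙ Rψ) (θw : Rh ⋙ Rζ ⟶ Rξ ⋙ Rχ)

lemma flat_lhs
    (Hp' : ∀ A, aψ.unit.app A ≫ Rψ.map (aφ.unit.app (Lψ.obj A)) ≫
      c'.hom.app (Lφ.obj (Lψ.obj A)) = aχ.unit.app A ≫ Rχ.map (p'.inv.app A))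
    {A : AW} {B : AU} (t : A ⟶ Rχ.obj B) :
    aψ.homEquiv _ _ (aφ.homEquiv _ _ (p'.hom.app A ≫ (aχ.homEquiv A B).symm t)) =
      t ≫ c'.inv.app B := by
  rw [← cancel_mono (c'.hom.app B), Category.assoc, Iso.inv_hom_id_app, Category.comp_id]
  have ht : aχ.unit.app A ≫ Rχ.map ((aχ.homEquiv A B).symm t) = t :=
    (Adjunction.homEquiv_unit aχ _ _ _).symm.trans ((aχ.homEquiv A B).apply_symm_apply t)
  generalize (aχ.homEquiv A B).symm t = n at ht ⊢
  have n1 : Rψ.map (Rφ.map n) ≫ c'.hom.app B = c'.hom.app (Lχ.obj A) ≫ Rχ.map n :=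
    c'.hom.naturality n
  have n2 : Rψ.map (Rφ.map (p'.hom.app A)) ≫ c'.hom.app (Lχ.obj A) =
      c'.hom.app (Lφ.obj (Lψ.obj A)) ≫ Rχ.map (p'.hom.app A) := c'.hom.naturality (p'.hom.app A)
  have h3 : Rχ.map (p'.inv.app A) ≫ Rχ.map (p'.hom.app A) = 𝟙 _ := by
    rw [← CategoryTheory.Functor.map_comp, Iso.inv_hom_id_app, CategoryTheory.Functor.map_id]
  rw [aφ.homEquiv_unit, aψ.homEquiv_unit]
  dsimp only [Functor.comp_obj, Functor.comp_map, Functor.id_obj] at n1 n2 h3 ht ⊢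
  simp only [CategoryTheory.Functor.map_comp, Category.assoc]
  rw [n1, reassoc_of% n2, reassoc_of% (Hp' A), reassoc_of% h3, ht]

lemma flat_rhs {A : AW} {A₁ : AV} {B₁ B : AU} (s : A ⟶ Rψ.obj A₁) (r : A₁ ⟶ Rφ.obj B₁)
    (m : B₁ ⟶ B) :
    aψ.homEquiv _ _ (aφ.homEquiv _ _
      (Lφ.map ((aψ.homEquiv A A₁).symm s) ≫ (aφ.homEquiv A₁ B₁).symm r ≫ m)) =
      s ≫ Rψ.map r ≫ Rψ.map (Rφ.map m) := by
  rw [aφ.homEquiv_naturality_left, aφ.homEquiv_naturality_right, Equiv.apply_symm_apply,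
    aψ.homEquiv_naturality_right, Equiv.apply_symm_apply, CategoryTheory.Functor.map_comp]

include af ag ah in
lemma chain
    (Hp : ∀ L, ag.unit.app L ≫ Rg.map (af.unit.app (Lg.obj L)) ≫
      c.hom.app (Lf.obj (Lg.obj L)) = ah.unit.app L ≫ Rh.map (p.inv.app L))
    (Hθ : ∀ M, Rζ.map (c.hom.app M) ≫ θw.app M =
      θ₂.app (Rf.obj M) ≫ Rψ.map (θ₁.app M) ≫ c'.hom.app (Rξ.obj M)) (L : AZ) :
    (Rζ.map (ah.unit.app L) ≫ θw.app (Lh.obj L)) ≫ c'.inv.app (Rξ.obj (Lh.obj L)) =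
      (Rζ.map (ag.unit.app L) ≫ θ₂.app (Lg.obj L)) ≫
        Rψ.map (Rη.map (af.unit.app (Lg.obj L)) ≫ θ₁.app (Lf.obj (Lg.obj L))) ≫
        Rψ.map (Rφ.map (Rξ.map (p.hom.app L))) := by
  rw [← cancel_mono (c'.hom.app (Rξ.obj (Lh.obj L)))]
  have n3 : Rψ.map (Rφ.map (Rξ.map (p.hom.app L))) ≫ c'.hom.app (Rξ.obj (Lh.obj L)) =
      c'.hom.app (Rξ.obj (Lf.obj (Lg.obj L))) ≫ Rχ.map (Rξ.map (p.hom.app L)) :=
    c'.hom.naturality (Rξ.map (p.hom.app L))
  have n4 : θ₂.app (Lg.obj L) ≫ Rψ.map (Rη.map (af.unit.app (Lg.obj L))) =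
      Rζ.map (Rg.map (af.unit.app (Lg.obj L))) ≫ θ₂.app (Rf.obj (Lf.obj (Lg.obj L))) :=
    (θ₂.naturality (af.unit.app (Lg.obj L))).symm
  have n5 : Rζ.map (Rh.map (p.inv.app L)) ≫ θw.app (Lf.obj (Lg.obj L)) =
      θw.app (Lh.obj L) ≫ Rχ.map (Rξ.map (p.inv.app L)) := θw.naturality (p.inv.app L)
  have h6 : Rχ.map (Rξ.map (p.inv.app L)) ≫ Rχ.map (Rξ.map (p.hom.app L)) = 𝟙 _ := by
    rw [← CategoryTheory.Functor.map_comp, ← CategoryTheory.Functor.map_comp, Iso.inv_hom_id_app, CategoryTheory.Functor.map_id,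
      CategoryTheory.Functor.map_id]
  have h7 : Rζ.map (ag.unit.app L) ≫ Rζ.map (Rg.map (af.unit.app (Lg.obj L))) ≫
      Rζ.map (c.hom.app (Lf.obj (Lg.obj L))) =
      Rζ.map (ah.unit.app L) ≫ Rζ.map (Rh.map (p.inv.app L)) := by
    rw [← CategoryTheory.Functor.map_comp, ← CategoryTheory.Functor.map_comp, Hp L, CategoryTheory.Functor.map_comp]
  have h8 := (Hθ (Lf.obj (Lg.obj L))).symm
  dsimp only [Functor.comp_obj, Functor.comp_map, Functor.id_obj] at n3 n4 n5 h6 h7 h8 ⊢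
  simp only [CategoryTheory.Functor.map_comp, Category.assoc, Iso.inv_hom_id_app, Category.comp_id]
  rw [n3, reassoc_of% n4, reassoc_of% h8, reassoc_of% h7, reassoc_of% n5, h6, Category.comp_id]

include af ag ah in
theorem bc_comp
    (Hp : ∀ L, ag.unit.app L ≫ Rg.map (af.unit.app (Lg.obj L)) ≫
      c.hom.app (Lf.obj (Lg.obj L)) = ah.unit.app L ≫ Rh.map (p.inv.app L))
    (Hp' : ∀ A, aψ.unit.app A ≫ Rψ.map (aφ.unit.app (Lψ.obj A)) ≫
      c'.hom.app (Lφ.obj (Lψ.obj A)) = aχ.unit.app A ≫ Rχ.map (p'.inv.app A))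
    (Hθ : ∀ M, Rζ.map (c.hom.app M) ≫ θw.app M =
      θ₂.app (Rf.obj M) ≫ Rψ.map (θ₁.app M) ≫ c'.hom.app (Rξ.obj M)) (L : AZ) :
    p'.hom.app (Rζ.obj L) ≫
        (aχ.homEquiv (Rζ.obj L) (Rξ.obj (Lh.obj L))).symm
          (Rζ.map (ah.unit.app L) ≫ θw.app (Lh.obj L)) =
      Lφ.map ((aψ.homEquiv (Rζ.obj L) (Rη.obj (Lg.obj L))).symm
          (Rζ.map (ag.unit.app L) ≫ θ₂.app (Lg.obj L))) ≫
        (aφ.homEquiv (Rη.obj (Lg.obj L)) (Rξ.obj (Lf.obj (Lg.obj L)))).symm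
          (Rη.map (af.unit.app (Lg.obj L)) ≫ θ₁.app (Lf.obj (Lg.obj L))) ≫
        Rξ.map (p.hom.app L) := by
  apply (aφ.homEquiv _ _).injective
  apply (aψ.homEquiv _ _).injective
  refine (flat_lhs aφ aψ aχ p' c' Hp' _).trans ?_
  refine Eq.trans ?_ (flat_rhs aφ aψ _ _ _).symm
  exact chain af ag ah p c c' θ₁ θ₂ θw Hp Hθ L

end Abstract

section Concrete
open AlgebraicGeometry Scheme.Modules
universe u

lemma Hp_concrete {X Y Z : Scheme.{u}} (f : X ⟶ Y) (g : Y ⟶ Z) (L : Z.Modules) :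
    (pullbackPushforwardAdjunction g).unit.app L ≫
      (pushforward g).map ((pullbackPushforwardAdjunction f).unit.app ((pullback g).obj L)) ≫
      (pushforwardComp f g).hom.app ((pullback f).obj ((pullback g).obj L)) =
    (pullbackPushforwardAdjunction (f ≫ g)).unit.app L ≫
      (pushforward (f ≫ g)).map ((pullbackComp f g).inv.app L) := by
  have h := unit_conjugateEquiv
    ((pullbackPushforwardAdjunction g).comp (pullbackPushforwardAdjunction f))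
    (pullbackPushforwardAdjunction (f ≫ g)) (pullbackComp f g).inv L
  rw [conjugateEquiv_pullbackComp_inv] at h
  rw [← h]
  simp

theorem bc_concrete {X Y Z U V W : Scheme.{u}} (f : X ⟶ Y) (g : Y ⟶ Z)
    (ξ : X ⟶ U) (η : Y ⟶ V) (ζ : Z ⟶ W) (φ : U ⟶ V) (ψ : V ⟶ W)
    (h₁ : f ≫ η = ξ ≫ φ) (h₂ : g ≫ ζ = η ≫ ψ) (hw : (f ≫ g) ≫ ζ = ξ ≫ (φ ≫ ψ)) (L : Z.Modules) :
    (pullbackComp φ ψ).hom.app ((pushforward ζ).obj L) ≫
        (((pullbackPushforwardAdjunction (φ ≫ ψ)).homEquiv ((pushforward ζ).obj L)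
            ((pushforward ξ).obj ((pullback (f ≫ g)).obj L))).symm
          ((pushforward ζ).map ((pullbackPushforwardAdjunction (f ≫ g)).unit.app L) ≫
            (pushforwardComp (f ≫ g) ζ).hom.app ((pullback (f ≫ g)).obj L) ≫
            (pushforwardCongr hw).hom.app ((pullback (f ≫ g)).obj L) ≫
            (pushforwardComp ξ (φ ≫ ψ)).inv.app ((pullback (f ≫ g)).obj L))) =
      (pullback φ).map (((pullbackPushforwardAdjunction ψ).homEquiv ((pushforward ζ).obj L)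
            ((pushforward η).obj ((pullback g).obj L))).symm
          ((pushforward ζ).map ((pullbackPushforwardAdjunction g).unit.app L) ≫
            (pushforwardComp g ζ).hom.app ((pullback g).obj L) ≫
            (pushforwardCongr h₂).hom.app ((pullback g).obj L) ≫
            (pushforwardComp η ψ).inv.app ((pullback g).obj L))) ≫
        (((pullbackPushforwardAdjunction φ).homEquiv ((pushforward η).obj ((pullback g).obj L))
            ((pushforward ξ).obj ((pullback f).obj ((pullback g).obj L)))).symm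
          ((pushforward η).map ((pullbackPushforwardAdjunction f).unit.app ((pullback g).obj L)) ≫
            (pushforwardComp f η).hom.app ((pullback f).obj ((pullback g).obj L)) ≫
            (pushforwardCongr h₁).hom.app ((pullback f).obj ((pullback g).obj L)) ≫
            (pushforwardComp ξ φ).inv.app ((pullback f).obj ((pullback g).obj L)))) ≫
        (pushforward ξ).map ((pullbackComp f g).hom.app L) := by
  let θ₁ : pushforward f ⋙ pushforward η ⟶ pushforward ξ ⋙ pushforward φ :=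
    (pushforwardComp f η).hom ≫ (pushforwardCongr h₁).hom ≫ (pushforwardComp ξ φ).inv
  let θ₂ : pushforward g ⋙ pushforward ζ ⟶ pushforward η ⋙ pushforward ψ :=
    (pushforwardComp g ζ).hom ≫ (pushforwardCongr h₂).hom ≫ (pushforwardComp η ψ).inv
  let θw : pushforward (f ≫ g) ⋙ pushforward ζ ⟶ pushforward ξ ⋙ pushforward (φ ≫ ψ) :=
    (pushforwardComp (f ≫ g) ζ).hom ≫ (pushforwardCongr hw).hom ≫
      (pushforwardComp ξ (φ ≫ ψ)).inv
  have Hθ : ∀ M : X.Modules, (pushforward ζ).map ((pushforwardComp f g).hom.app M) ≫ θw.app M =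
      θ₂.app ((pushforward f).obj M) ≫ (pushforward ψ).map (θ₁.app M) ≫
        (pushforwardComp φ ψ).hom.app ((pushforward ξ).obj M) := by
    intro M
    have key : ∀ {A B C : (TopologicalSpace.Opens X)ᵒᵖ} (a : A ⟶ C) (b : A ⟶ B) (c : B ⟶ C),
        M.presheaf.map a = M.presheaf.map b ≫ M.presheaf.map c := by
      intro A B C a b c
      rw [← CategoryTheory.Functor.map_comp]
      congr 1
    ext U x
    simp only [θ₁, θ₂, θw, NatTrans.comp_app, Hom.comp_app, pushforward_map_app,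
      pushforwardComp_hom_app_app, pushforwardComp_inv_app_app, pushforwardCongr_hom_app_app,
      pushforward_obj_presheaf_map]
    exact ConcreteCategory.congr_hom (key _ _ _) x
  exact bc_comp (pullbackPushforwardAdjunction f) (pullbackPushforwardAdjunction g)
    (pullbackPushforwardAdjunction (f ≫ g)) (pullbackPushforwardAdjunction φ)
    (pullbackPushforwardAdjunction ψ) (pullbackPushforwardAdjunction (φ ≫ ψ))
    (pullbackComp f g) (pushforwardComp f g) (pullbackComp φ ψ) (pushforwardComp φ ψ)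
    θ₁ θ₂ θw (Hp_concrete f g) (Hp_concrete φ ψ) Hθ L

end Concrete

end Groth.Agent.Lib.BCComp_helper7
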