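import Mathlib
import Groth.Prelude.Def_FlatFun

/-!
# Sheaf condition for subfunctors of the final functor on the big fpqc site (helper8)
-/

universe u

open CategoryTheory CategoryTheory.Limits AlgebraicGeometry Opposite

namespace SubShfH8

variable (S : Scheme.{u})

/-- A presheaf with subsingleton values is a sheaf for `J` as soon as nonemptiness descends along
covering sieves. -/
theorem isSheaf_of_subsingleton {C : Type*} [Category C] (J : GrothendieckTopology C)
    (Q : Cᵒᵖ ⥤ Type*) [∀ T, Subsingleton (Q.obj T)]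
    (h : ∀ (T : C) (R : Sieve T), R ∈ J T →
      (∀ ⦃T' : C⦄ (g : T' ⟶ T), R g → Nonempty (Q.obj (op T'))) → Nonempty (Q.obj (op T))) :
    Presheaf.IsSheaf J Q := by
  rw [isSheaf_iff_isSheaf_of_type]
  intro T R hR x _
  obtain ⟨t⟩ := h T R hR (fun T' g hg => ⟨x g hg⟩)
  exact ⟨t, fun T' g hg => Subsingleton.elim _ _, fun _ _ => Subsingleton.elim _ _⟩

/-- The sheaf condition for `genPSp S P` on the big fpqc site, from stability under base change and
descent along fpqc covering families. -/
theorem isSheaf_genPSp (P : Over S → Prop)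
    (hstab : ∀ ⦃T T₀ : Over S⦄ (_ : T ⟶ T₀), P T₀ → P T)
    (hdesc : ∀ (T : Over S) (R : Presieve T.left), R ∈ Scheme.fpqcPrecoverage T.left →
      (∀ ⦃T' : Scheme.{u}⦄ (g : T' ⟶ T.left), R g → P (Over.mk (g ≫ T.hom))) → P T) :
    Presheaf.IsSheaf (QuotSh.J Scheme.fpqcPrecoverage S) (FlatFun.genPSp S P) := by
  apply isSheaf_of_subsingleton
  intro T R hR hx
  rw [FlatFun.genPSp_nonempty_iff_of_stable P hstab]
  rw [GrothendieckTopology.mem_over_iff] at hR
  obtain ⟨R₀, hR₀, hle⟩ :=
    (Precoverage.mem_toGrothendieck_iff_of_isStableUnderComposition).1 hR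
  refine hdesc T R₀ hR₀ (fun T' g hg => ?_)
  have h1 := hle _ _ hg
  rw [Sieve.overEquiv_iff] at h1
  exact (FlatFun.genPSp_nonempty_iff_of_stable P hstab _).1 (hx _ h1)

end SubShfH8
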