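import Groth.Agent.Lib.Desc3_helper8
import Groth.Agent.Lib.SubShf1_helper8

/-!
# Base change along `T' ⟶ T` over `S`, and the fpqc sheaf condition for flattening-type functors
(helper8)
-/

universe u

open CategoryTheory CategoryTheory.Limits AlgebraicGeometry Opposite TopologicalSpace

namespace DescH8

section Transfer

variable {X Z Z' : Scheme.{u}} (a : Z' ⟶ Z) (b : Z ⟶ X) (c : Z' ⟶ X) (h : a ≫ b = c)
  {F G : X.Modules} (u : F ⟶ G)

/-- The natural isomorphism `b^* ⋙ a^* ≅ c^*` for `a ≫ b = c`. -/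
noncomputable def pbIso : Scheme.Modules.pullback b ⋙ Scheme.Modules.pullback a ≅
    Scheme.Modules.pullback c :=
  Scheme.Modules.pullbackComp a b ≪≫ Scheme.Modules.pullbackCongr h

theorem pb_map_eq : (Scheme.Modules.pullback c).map u =
    (pbIso a b c h).inv.app F ≫
      (Scheme.Modules.pullback a).map ((Scheme.Modules.pullback b).map u) ≫
        (pbIso a b c h).hom.app G :=
  (NatIso.naturality_1 (pbIso a b c h) u).symm

theorem pb_map_eq' : (Scheme.Modules.pullback a).map ((Scheme.Modules.pullback b).map u) =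
    (pbIso a b c h).hom.app F ≫ (Scheme.Modules.pullback c).map u ≫
      (pbIso a b c h).inv.app G :=
  (NatIso.naturality_2 (pbIso a b c h) u).symm

include h in
theorem isIso_pb_iff : IsIso ((Scheme.Modules.pullback c).map u) ↔
    IsIso ((Scheme.Modules.pullback a).map ((Scheme.Modules.pullback b).map u)) :=
  (NatIso.isIso_map_iff (pbIso a b c h) u).symm

include h in
theorem epi_pb_iff : Epi ((Scheme.Modules.pullback c).map u) ↔
    Epi ((Scheme.Modules.pullback a).map ((Scheme.Modules.pullback b).map u)) := by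
  constructor
  · intro _; rw [pb_map_eq' a b c h u]; infer_instance
  · intro _; rw [pb_map_eq a b c h u]; infer_instance

include h in
theorem mono_pb_iff : Mono ((Scheme.Modules.pullback c).map u) ↔
    Mono ((Scheme.Modules.pullback a).map ((Scheme.Modules.pullback b).map u)) := by
  constructor
  · intro _; rw [pb_map_eq' a b c h u]; infer_instance
  · intro _; rw [pb_map_eq a b c h u]; infer_instance

include h in
theorem zero_pb_iff : (Scheme.Modules.pullback c).map u = 0 ↔
    (Scheme.Modules.pullback a).map ((Scheme.Modules.pullback b).map u) = 0 := by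
  constructor
  · intro h0; rw [pb_map_eq' a b c h u, h0]; simp
  · intro h0; rw [pb_map_eq a b c h u, h0]; simp

end Transfer

section Cover

variable {X S : Scheme.{u}} (f : X ⟶ S)

theorem isPullback_XTmap {T T' : Over S} (g : T' ⟶ T) :
    IsPullback (PicF.XTmap f g) (pullback.snd f T'.hom) (pullback.snd f T.hom) g.left := by
  have hq : PicF.XTmap f g ≫ pullback.snd f T.hom = pullback.snd f T'.hom ≫ g.left := by
    unfold PicF.XTmap
    exact pullback.lift_snd _ _ _
  refine IsPullback.of_right ?_ hq (IsPullback.of_hasPullback f T.hom)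
  rw [FGA.XTmap_fst, Over.w g]
  exact IsPullback.of_hasPullback f T'.hom

theorem flat_XTmap {T T' : Over S} (g : T' ⟶ T) [Flat g.left] : Flat (PicF.XTmap f g) :=
  MorphismProperty.of_isPullback (P := @Flat) (isPullback_XTmap f g).flip inferInstance

theorem exists_XTmap_eq {T T' : Over S} (g : T' ⟶ T) (z : PicF.XT f T) (t' : T'.left)
    (h : g.left t' = pullback.snd f T.hom z) : ∃ z' : PicF.XT f T', PicF.XTmap f g z' = z := by
  have h1 := Scheme.Pullback.range_map f T'.hom f T.hom (𝟙 X) g.left (𝟙 S) (by simp)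
    (by simp [Over.w g])
  have h2 : z ∈ Set.range (PicF.XTmap f g) := by
    unfold PicF.XTmap
    rw [h1]
    exact ⟨⟨pullback.fst f T.hom z, rfl⟩, ⟨t', h⟩⟩
  exact h2

/-- The `S`-scheme `T' ⟶ T ⟶ S`. -/
abbrev ovr (T : Over S) {T' : Scheme.{u}} (g : T' ⟶ T.left) : Over S := Over.mk (g ≫ T.hom)

/-- The morphism `T' ⟶ T` over `S`. -/
abbrev ovrHom (T : Over S) {T' : Scheme.{u}} (g : T' ⟶ T.left) : ovr T g ⟶ T := Over.homMk g

/-- The family of base changes `X_{T'} ⟶ X_T`, for `T' ⟶ T` in a presieve. -/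
inductive covXT (T : Over S) (R₀ : Presieve T.left) : Presieve (PicF.XT f T)
  | mk {T' : Scheme.{u}} (g : T' ⟶ T.left) (hg : R₀ g) : covXT T R₀ (PicF.XTmap f (ovrHom T g))

/-- An fpqc-type cover of `T` induces a flat cover of `X_T`. -/
theorem flatCover_XT (T : Over S) {R₀ : Presieve T.left} (h : IsFlatCover R₀) :
    IsFlatCover (covXT f T R₀) := by
  constructor
  · rintro Z g ⟨g₀, hg₀⟩
    haveI : Flat (ovrHom T g₀).left := h.flat hg₀
    exact flat_XTmap f _
  · intro z
    obtain ⟨T', g, hg, t', ht'⟩ := h.surj (pullback.snd f T.hom z)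
    obtain ⟨z', hz'⟩ := exists_XTmap_eq f (ovrHom T g) z t' ht'
    exact ⟨_, _, covXT.mk g hg, z', hz'⟩

variable {F G : X.Modules} [F.IsQuasicoherent] [G.IsQuasicoherent] (u : F ⟶ G)

instance (Z : Scheme.{u}) (a : Z ⟶ X) : (Scheme.Modules.pullback a).PreservesEpimorphisms :=
  Functor.preservesEpimorphisms_of_adjunction (Scheme.Modules.pullbackPushforwardAdjunction a)

theorem isSheaf_iso :
    Presheaf.IsSheaf (QuotSh.J Scheme.fpqcPrecoverage S)
      (FlatFun.genPSp S (fun T =>
        IsIso ((Scheme.Modules.pullback (pullback.fst f T.hom)).map u))) := by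
  apply SubShfH8.isSheaf_genPSp
  · intro T T₀ g hP
    haveI := hP
    exact (isIso_pb_iff (PicF.XTmap f g) (pullback.fst f T₀.hom) (pullback.fst f T.hom)
      (FGA.XTmap_fst f g) u).2 inferInstance
  · intro T R₀ hR₀ hP
    have hc := flatCover_XT f T (isFlatCover_of_mem_fpqc hR₀)
    refine isIso_of_flatCover _ hc ?_
    rintro Z g ⟨g₀, hg₀⟩
    exact (isIso_pb_iff (PicF.XTmap f (ovrHom T g₀)) (pullback.fst f T.hom)
      (pullback.fst f (ovr T g₀).hom) (FGA.XTmap_fst f _) u).1 (hP g₀ hg₀)

theorem isSheaf_epi :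
    Presheaf.IsSheaf (QuotSh.J Scheme.fpqcPrecoverage S)
      (FlatFun.genPSp S (fun T =>
        Epi ((Scheme.Modules.pullback (pullback.fst f T.hom)).map u))) := by
  apply SubShfH8.isSheaf_genPSp
  · intro T T₀ g hP
    haveI := hP
    exact (epi_pb_iff (PicF.XTmap f g) (pullback.fst f T₀.hom) (pullback.fst f T.hom)
      (FGA.XTmap_fst f g) u).2 inferInstance
  · intro T R₀ hR₀ hP
    have hc := flatCover_XT f T (isFlatCover_of_mem_fpqc hR₀)
    refine epi_of_flatCover _ hc ?_
    rintro Z g ⟨g₀, hg₀⟩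
    exact (epi_pb_iff (PicF.XTmap f (ovrHom T g₀)) (pullback.fst f T.hom)
      (pullback.fst f (ovr T g₀).hom) (FGA.XTmap_fst f _) u).1 (hP g₀ hg₀)

theorem isSheaf_zero :
    Presheaf.IsSheaf (QuotSh.J Scheme.fpqcPrecoverage S)
      (FlatFun.genPSp S (fun T =>
        (Scheme.Modules.pullback (pullback.fst f T.hom)).map u = 0)) := by
  apply SubShfH8.isSheaf_genPSp
  · intro T T₀ g hP
    refine (zero_pb_iff (PicF.XTmap f g) (pullback.fst f T₀.hom) (pullback.fst f T.hom)
      (FGA.XTmap_fst f g) u).2 ?_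
    rw [hP]
    exact (Scheme.Modules.pullback (PicF.XTmap f g)).map_zero _ _
  · intro T R₀ hR₀ hP
    have hc := flatCover_XT f T (isFlatCover_of_mem_fpqc hR₀)
    refine eq_zero_of_flatCover _ hc ?_
    rintro Z g ⟨g₀, hg₀⟩
    exact (zero_pb_iff (PicF.XTmap f (ovrHom T g₀)) (pullback.fst f T.hom)
      (pullback.fst f (ovr T g₀).hom) (FGA.XTmap_fst f _) u).1 (hP g₀ hg₀)

theorem mono_iff_of_fpqc (T : Over S) {ι : Type*} (Ti : ι → Over S) (g : ∀ i, Ti i ⟶ T)
    (hcov : Presieve.ofArrows (fun i => (Ti i).left) (fun i => (g i).left) ∈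
      Scheme.fpqcPrecoverage T.left) :
    Mono ((Scheme.Modules.pullback (pullback.fst f T.hom)).map u) ↔
      ∀ i, Mono ((Scheme.Modules.pullback (pullback.fst f (Ti i).hom)).map u) := by
  have hc0 := isFlatCover_of_mem_fpqc hcov
  have hfl : ∀ i, Flat (g i).left := fun i => hc0.flat (Presieve.ofArrows.mk i)
  constructor
  · intro hm i
    haveI := hfl i
    haveI := flat_XTmap f (g i)
    haveI := hm
    exact (mono_pb_iff (PicF.XTmap f (g i)) (pullback.fst f T.hom) (pullback.fst f (Ti i).hom)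
      (FGA.XTmap_fst f _) u).2 (mono_pullback_of_flat _ _)
  · intro hm
    have hc : IsFlatCover (Presieve.ofArrows (fun i => PicF.XT f (Ti i))
        (fun i => PicF.XTmap f (g i))) := by
      constructor
      · rintro Z h ⟨i⟩
        haveI := hfl i
        exact flat_XTmap f (g i)
      · intro z
        obtain ⟨T', g', hg', t', ht'⟩ := hc0.surj (pullback.snd f T.hom z)
        obtain ⟨i⟩ := hg'
        obtain ⟨z', hz'⟩ := exists_XTmap_eq f (g i) z t' ht'
        exact ⟨_, _, Presieve.ofArrows.mk i, z', hz'⟩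
    refine mono_of_flatCover _ hc ?_
    rintro Z h ⟨i⟩
    exact (mono_pb_iff (PicF.XTmap f (g i)) (pullback.fst f T.hom) (pullback.fst f (Ti i).hom)
      (FGA.XTmap_fst f _) u).1 (hm i)

end Cover

end DescH8
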