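import Mathlib
import Groth.Prelude
import Groth.Agent.Lib.RefHull17_helper8
import Groth.Agent.Lib.Tens5_helper8

set_option autoImplicit false
universe u

open CategoryTheory AlgebraicGeometry TopologicalSpace Opposite
open QcqsLoc GenLocH8 SecOrdH8 FLFH8 QCohExtn

/-! Modules which look like rank one reflexive modules in codimension one: extension property,
generic injectivity and local generators at the points of codimension at most one. -/

namespace RefHullH8

variable {X : Scheme.{u}}

/-- Extension property, generic injectivity and local generators in codimension at most one. -/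
def IsR1 [IrreducibleSpace X] (M : X.Modules) : Prop :=
  HasExt M ∧ S2.GenInj M ∧ ∀ x : X, Order.coheight x ≤ 1 →
    ∃ (W : X.Opens) (_ : x ∈ W) (e : Γ(M, W)), IsGen M W e

theorem IsR1.exists_isGen₂ [IrreducibleSpace X] {F G : X.Modules} (hF : IsR1 F) (hG : IsR1 G)
    (x : X) (hx : Order.coheight x ≤ 1) :
    ∃ (W : X.Opens) (_ : x ∈ W) (e : Γ(F, W)) (e' : Γ(G, W)), IsGen F W e ∧ IsGen G W e' := by
  obtain ⟨W1, hx1, e1, he1⟩ := hF.2.2 x hx
  obtain ⟨W2, hx2, e2, he2⟩ := hG.2.2 x hx
  exact ⟨W1 ⊓ W2, ⟨hx1, hx2⟩, _, _, he1.res inf_le_left, he2.res inf_le_right⟩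

theorem coheight_genericPoint_le [IrreducibleSpace X] : Order.coheight (genericPoint X) ≤ 1 := by
  have : Order.coheight (genericPoint X) = 0 := by
    rw [Order.coheight_eq_zero]
    intro w _
    exact (genericPoint_spec X).specializes (Set.mem_univ w)
  rw [this]
  exact zero_le

theorem IsR1.exists_generic [IrreducibleSpace X] {F : X.Modules} (hF : IsR1 F) :
    ∃ (W : X.Opens) (_ : genericPoint X ∈ W) (e : Γ(F, W)), IsGen F W e :=
  hF.2.2 _ coheight_genericPoint_le

theorem isR1_of_isRef1 [IsIntegral X] [IsLocallyNoetherian X] (hX : Pi1.IsNormalScheme X)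
    {F : X.Modules} (hF : RefHull.IsRef1 F) : IsR1 F := by
  haveI : F.IsQuasicoherent := hF.1.1
  exact ⟨hasExt_of_isReflexive hX hF.2.1, S2.genInj_of_isReflexive hF.2.1,
    fun x hx => exists_isGen_of_isRef1 hX hF x hx⟩

theorem isR1_ddualTensor [IsIntegral X] [IsLocallyNoetherian X] (hX : Pi1.IsNormalScheme X)
    {F G : X.Modules} (hF : IsR1 F) (hG : IsR1 G) :
    IsR1 (RefHull.ddual (CohB1.tensorMod F G)) := by
  refine ⟨hasExt_ddual hX _, genInj_ddual _, fun x hx => ?_⟩
  obtain ⟨W, hxW, e, e', he, he'⟩ := hF.exists_isGen₂ hG x hx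
  exact ⟨W, hxW, _, isGen_bidual (TensH8.isGen_tmul he he')⟩

theorem isR1_dual [IsIntegral X] [IsLocallyNoetherian X] (hX : Pi1.IsNormalScheme X)
    {F : X.Modules} (hF : IsR1 F) : IsR1 (RefHull.dual F) := by
  refine ⟨hasExt_dual hX _, genInj_dual _, fun x hx => ?_⟩
  obtain ⟨W, hxW, e, he⟩ := hF.2.2 x hx
  exact ⟨W, hxW, _, isGen_dualGen he⟩

theorem isR1_structureModule [IsIntegral X] [IsLocallyNoetherian X] (hX : Pi1.IsNormalScheme X) :
    IsR1 (Coh.structureModule X) :=
  ⟨hasExt_structureModule hX, S2.genInj_structureModule,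
    fun x _ => ⟨⊤, trivial, _, TensH8.isGen_one ⊤⟩⟩

section Ord1

variable [IsIntegral X] [IsLocallyNoetherian X]

/-- The map of generic stalks determined by linearly equivalent divisors of sections extends over
the local rings at points of codimension at most one. -/
theorem exists_spec_eq_lift₁ (hX : Pi1.IsNormalScheme X)
    {F G : X.Modules} (hF : IsR1 F) (hG : IsR1 G)
    {a : F.presheaf.stalk (genericPoint X)} (ha : IsFreeGen F (genericPoint X) a)
    {b : G.presheaf.stalk (genericPoint X)} (hb : IsFreeGen G (genericPoint X) b)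
    (φ ψ f : X.functionField) (hφ : φ ≠ 0) (hψ : ψ ≠ 0) (hf : f ≠ 0)
    (hdiv : ∀ x : X, Order.coheight x = 1 →
      Cyc.secOrdAt F (genericPoint X) x ((genericPoint_spec X).specializes (Set.mem_univ x))
          (φ • fmk F (genericPoint X) a) =
        Cyc.secOrdAt G (genericPoint X) x ((genericPoint_spec X).specializes (Set.mem_univ x))
          (ψ • fmk G (genericPoint X) b) + Scheme.ord f x)
    (x : X) (hx : Order.coheight x ≤ 1) (m : F.presheaf.stalk x) :
    ∃ g : G.presheaf.stalk x,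
      G.presheaf.stalkSpecializes ((genericPoint_spec X).specializes (Set.mem_univ x)) g =
        ha.lift ((f * ψ * φ⁻¹) • b)
          (F.presheaf.stalkSpecializes ((genericPoint_spec X).specializes (Set.mem_univ x)) m) := by
  rcases hx.lt_or_eq with h0 | h1
  · have h0' : Order.coheight x = 0 := Order.lt_one_iff.mp h0
    obtain rfl := eq_generic_of_coheight_eq_zero x h0'
    have hG1 : G.presheaf.stalkSpecializes
        ((genericPoint_spec X).specializes (Set.mem_univ (genericPoint X))) = 𝟙 _ :=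
      TopCat.Presheaf.stalkSpecializes_refl G.presheaf (genericPoint X)
    have hF1 : F.presheaf.stalkSpecializes
        ((genericPoint_spec X).specializes (Set.mem_univ (genericPoint X))) = 𝟙 _ :=
      TopCat.Presheaf.stalkSpecializes_refl F.presheaf (genericPoint X)
    refine ⟨ha.lift ((f * ψ * φ⁻¹) • b) m, ?_⟩
    rw [hG1, hF1]
    rfl
  · set h := (genericPoint_spec X).specializes (Set.mem_univ x) with hh
    obtain ⟨W, hxW, eF, eG, heF, heG⟩ := hF.exists_isGen₂ hG x hx
    have hηW : genericPoint X ∈ W := h.mem_open W.isOpen hxW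
    obtain ⟨α, hα0, hα⟩ := exists_coef_generic ha (stalk_gen heF hηW)
    obtain ⟨β, hβ0, hβ⟩ := exists_coef_generic hb (stalk_gen heG hηW)
    have h1F := secOrdAt_eq_ord_mul_inv h1 heF hxW φ α hφ hα0 hα
    have h1G := secOrdAt_eq_ord_mul_inv h1 heG hxW ψ β hψ hβ0 hβ
    have hd := hdiv x h1
    rw [h1F, h1G] at hd
    -- the unit
    set u : X.functionField := α * (f * ψ * φ⁻¹) * β⁻¹ with hu
    have hu0 : u ≠ 0 := by
      rw [hu]
      exact mul_ne_zero (mul_ne_zero hα0 (mul_ne_zero (mul_ne_zero hf hψ) (inv_ne_zero hφ)))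
        (inv_ne_zero hβ0)
    have hup : u * (φ * α⁻¹) = (ψ * β⁻¹) * f := by
      rw [hu]
      field_simp
    have hordu : Scheme.ord u x = 0 := by
      have h2 := congrArg (fun z => Scheme.ord z x) hup
      beta_reduce at h2
      rw [Scheme.ord_mul hu0 (mul_ne_zero hφ (inv_ne_zero hα0)),
        Scheme.ord_mul (mul_ne_zero hψ (inv_ne_zero hβ0)) hf] at h2
      omega
    obtain ⟨u', hu'⟩ := (Groth.Agent.CDivNormal.ord_eq_zero_iff hX x h1 u hu0).mp hordu
    obtain ⟨r, hr⟩ := (stalk_gen heF hxW).1 m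
    have hu'' : X.presheaf.stalkSpecializes h (u' : X.presheaf.stalk x) = u := hu'
    refine ⟨(r * (u' : X.presheaf.stalk x)) • G.presheaf.germ W x hxW eG, ?_⟩
    rw [hr, stalkSpecializes_smul, stalkSpecializes_smul, stalkSpecializes_germ,
      stalkSpecializes_germ, map_smul, hα, map_smul, ha.lift_gen, hβ, map_mul, hu'', hu]
    rw [smul_smul, smul_smul, smul_smul]
    congr 1
    field_simp

end Ord1

section Main

variable [IsIntegral X] [IsLocallyNoetherian X]

/-- Isomorphic rank one reflexive modules have linearly equivalent divisors of sections. -/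
theorem exists_div_of_iso₁ (hX : Pi1.IsNormalScheme X)
    {F G : X.Modules} (hF : IsR1 F) (α : F ≅ G)
    {a : F.presheaf.stalk (genericPoint X)} (ha : IsFreeGen F (genericPoint X) a)
    {b : G.presheaf.stalk (genericPoint X)} (hb : IsFreeGen G (genericPoint X) b)
    (φ ψ : X.functionField) (hφ : φ ≠ 0) (hψ : ψ ≠ 0) :
    ∃ f : X.functionField, f ≠ 0 ∧ ∀ x : X, Order.coheight x = 1 →
      Cyc.secOrdAt F (genericPoint X) x ((genericPoint_spec X).specializes (Set.mem_univ x))
          (φ • fmk F (genericPoint X) a) =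
        Cyc.secOrdAt G (genericPoint X) x ((genericPoint_spec X).specializes (Set.mem_univ x))
          (ψ • fmk G (genericPoint X) b) + Scheme.ord f x := by
  haveI : IsIso α.hom := inferInstance
  have hbij := stalkMap_bijective_of_isIso α.hom (genericPoint X)
  set αη := RefHull.stalkMapₗ α.hom (genericPoint X) with hαη
  have ha' : IsFreeGen G (genericPoint X) (αη a) := by
    constructor
    · intro z
      obtain ⟨z', rfl⟩ := hbij.2 z
      obtain ⟨c, rfl⟩ := ha.1 z'
      exact ⟨c, map_smul _ _ _⟩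
    · intro c hc
      rw [← map_smul] at hc
      exact ha.2 c (hbij.1 (hc.trans (map_zero _).symm))
  obtain ⟨v, hv0, hv⟩ := exists_coef_generic hb ha'
  refine ⟨φ * v * ψ⁻¹, mul_ne_zero (mul_ne_zero hφ hv0) (inv_ne_zero hψ), fun x hx => ?_⟩
  set h := (genericPoint_spec X).specializes (Set.mem_univ x) with hh
  obtain ⟨W, hxW, eF, heF⟩ := hF.2.2 x hx.le
  have hηW : genericPoint X ∈ W := h.mem_open W.isOpen hxW
  have heG : IsGen G W (ap α.hom W eF) := isGen_of_iso α heF
  obtain ⟨α₁, hα0, hα⟩ := exists_coef_generic ha (stalk_gen heF hηW)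
  have hβ : G.presheaf.germ W (genericPoint X) hηW (ap α.hom W eF) = (α₁ * v) • b := by
    have h1 := germ_app α.hom (genericPoint X) hηW eF
    have h2 : G.presheaf.germ W (genericPoint X) hηW (ap α.hom W eF) =
        αη (F.presheaf.germ W (genericPoint X) hηW eF) := h1
    rw [h2, hα, map_smul, hv, smul_smul]
  rw [secOrdAt_eq_ord_mul_inv hx heF hxW φ α₁ hφ hα0 hα,
    secOrdAt_eq_ord_mul_inv hx heG hxW ψ (α₁ * v) hψ (mul_ne_zero hα0 hv0) hβ,
    ← Scheme.ord_mul (mul_ne_zero hψ (inv_ne_zero (mul_ne_zero hα0 hv0)))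
      (mul_ne_zero (mul_ne_zero hφ hv0) (inv_ne_zero hψ))]
  congr 1
  field_simp

/-- Rank one reflexive modules with linearly equivalent divisors of sections are isomorphic. -/
theorem iso_of_div₁ (hX : Pi1.IsNormalScheme X)
    {F G : X.Modules} (hF : IsR1 F) (hG : IsR1 G)
    {a : F.presheaf.stalk (genericPoint X)} (ha : IsFreeGen F (genericPoint X) a)
    {b : G.presheaf.stalk (genericPoint X)} (hb : IsFreeGen G (genericPoint X) b)
    (φ ψ f : X.functionField) (hφ : φ ≠ 0) (hψ : ψ ≠ 0) (hf : f ≠ 0)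
    (hdiv : ∀ x : X, Order.coheight x = 1 →
      Cyc.secOrdAt F (genericPoint X) x ((genericPoint_spec X).specializes (Set.mem_univ x))
          (φ • fmk F (genericPoint X) a) =
        Cyc.secOrdAt G (genericPoint X) x ((genericPoint_spec X).specializes (Set.mem_univ x))
          (ψ • fmk G (genericPoint X) b) + Scheme.ord f x) :
    Nonempty (F ≅ G) := by
  have hdiv' : ∀ x : X, Order.coheight x = 1 →
      Cyc.secOrdAt G (genericPoint X) x ((genericPoint_spec X).specializes (Set.mem_univ x))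
          (ψ • fmk G (genericPoint X) b) =
        Cyc.secOrdAt F (genericPoint X) x ((genericPoint_spec X).specializes (Set.mem_univ x))
          (φ • fmk F (genericPoint X) a) + Scheme.ord f⁻¹ x := by
    intro x hx
    rw [hdiv x hx, ord_inv' x hf]
    ring
  set θ := ha.lift ((f * ψ * φ⁻¹) • b) with hθdef
  set θ' := hb.lift ((f⁻¹ * φ * ψ⁻¹) • a) with hθ'def
  have hθ := fun x hx m => exists_spec_eq_lift₁ hX hF hG ha hb φ ψ f hφ hψ hf hdiv x hx m
  have hθ' := fun x hx m =>
    exists_spec_eq_lift₁ hX hG hF hb ha ψ φ f⁻¹ hψ hφ (inv_ne_zero hf) hdiv' x hx m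
  have hc1 : θ'.comp θ = LinearMap.id := by
    apply ha.hom_ext
    show θ' (θ a) = a
    rw [hθdef, ha.lift_gen, map_smul, hθ'def, hb.lift_gen, smul_smul]
    have : f * ψ * φ⁻¹ * (f⁻¹ * φ * ψ⁻¹) = 1 := by field_simp
    rw [this, one_smul]
  have hc2 : θ.comp θ' = LinearMap.id := by
    apply hb.hom_ext
    show θ (θ' b) = b
    rw [hθ'def, hb.lift_gen, map_smul, hθdef, ha.lift_gen, smul_smul]
    have : f⁻¹ * φ * ψ⁻¹ * (f * ψ * φ⁻¹) = 1 := by field_simp
    rw [this, one_smul]
  set Ψ : F ⟶ G := S2.genMap hG.1 hG.2.1 θ hθ with hΨ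
  set Ψ' : G ⟶ F := S2.genMap hF.1 hF.2.1 θ' hθ' with hΨ'
  refine ⟨⟨Ψ, Ψ', ?_, ?_⟩⟩
  · apply Scheme.Modules.hom_ext
    intro V
    apply ConcreteCategory.hom_ext
    intro m
    show ap Ψ' V (ap Ψ V m) = m
    have h1 : S2.IsImg (LinearMap.id) m (ap Ψ' V (ap Ψ V m)) := by
      intro hη
      have e1 := S2.isImg_genMap hF.1 hF.2.1 θ' hθ' V (ap Ψ V m) hη
      have e2 := S2.isImg_genMap hG.1 hG.2.1 θ hθ V m hη
      have e3 : F.presheaf.germ V (genericPoint X) hη (ap Ψ' V (ap Ψ V m)) =
          θ' (G.presheaf.germ V (genericPoint X) hη (ap Ψ V m)) := e1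
      have e4 : G.presheaf.germ V (genericPoint X) hη (ap Ψ V m) =
          θ (F.presheaf.germ V (genericPoint X) hη m) := e2
      rw [e3, e4]
      exact LinearMap.congr_fun hc1 _
    have h2 : S2.IsImg (LinearMap.id) m m := fun hη => rfl
    exact S2.IsImg.unique hF.2.1 _ h1 h2
  · apply Scheme.Modules.hom_ext
    intro V
    apply ConcreteCategory.hom_ext
    intro m
    show ap Ψ V (ap Ψ' V m) = m
    have h1 : S2.IsImg (LinearMap.id) m (ap Ψ V (ap Ψ' V m)) := by
      intro hη
      have e1 := S2.isImg_genMap hG.1 hG.2.1 θ hθ V (ap Ψ' V m) hη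
      have e2 := S2.isImg_genMap hF.1 hF.2.1 θ' hθ' V m hη
      have e3 : G.presheaf.germ V (genericPoint X) hη (ap Ψ V (ap Ψ' V m)) =
          θ (F.presheaf.germ V (genericPoint X) hη (ap Ψ' V m)) := e1
      have e4 : F.presheaf.germ V (genericPoint X) hη (ap Ψ' V m) =
          θ' (G.presheaf.germ V (genericPoint X) hη m) := e2
      rw [e3, e4]
      exact LinearMap.congr_fun hc2 _
    have h2 : S2.IsImg (LinearMap.id) m m := fun hη => rfl
    exact S2.IsImg.unique hG.2.1 _ h1 h2

/-- The class map is well defined and injective. -/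
theorem iso_iff_div₁ (hX : Pi1.IsNormalScheme X) (F G : X.Modules) (hF : IsR1 F)
    (hG : IsR1 G)
    (s : Cyc.secFibre F (genericPoint X)) (hs : s ≠ 0) (t : Cyc.secFibre G (genericPoint X))
    (ht : t ≠ 0) :
    Nonempty (F ≅ G) ↔
      ∃ f : X.functionField, f ≠ 0 ∧
        ∀ (x : X), Order.coheight x = 1 →
          Cyc.secOrdAt F (genericPoint X) x
              ((genericPoint_spec X).specializes (Set.mem_univ x)) s =
            Cyc.secOrdAt G (genericPoint X) x
              ((genericPoint_spec X).specializes (Set.mem_univ x)) t + Scheme.ord f x := by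
  obtain ⟨W1, hη1, a₀, ha₀⟩ := hF.exists_generic
  obtain ⟨W2, hη2, b₀, hb₀⟩ := hG.exists_generic
  have ha : IsFreeGen F (genericPoint X) (F.presheaf.germ W1 _ hη1 a₀) := stalk_gen ha₀ hη1
  have hb : IsFreeGen G (genericPoint X) (G.presheaf.germ W2 _ hη2 b₀) := stalk_gen hb₀ hη2
  obtain ⟨φ, rfl⟩ := ha.fibre_surj s
  obtain ⟨ψ, rfl⟩ := hb.fibre_surj t
  have hφ : (φ : X.functionField) ≠ 0 := by
    rintro rfl
    exact hs (zero_smul _ _)
  have hψ : (ψ : X.functionField) ≠ 0 := by
    rintro rfl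
    exact ht (zero_smul _ _)
  constructor
  · rintro ⟨α⟩
    exact exists_div_of_iso₁ hX hF α ha hb φ ψ hφ hψ
  · rintro ⟨f, hf, hdiv⟩
    exact iso_of_div₁ hX hF hG ha hb φ ψ f hφ hψ hf hdiv

end Main

end RefHullH8
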