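import Mathlib
import Groth.Prelude
import Groth.Agent.Lib.RefHull18_helper8
import Groth.Agent.Lib.RefHull9_helper8

set_option autoImplicit false
universe u

open CategoryTheory AlgebraicGeometry TopologicalSpace Opposite
open QcqsLoc GenLocH8 SecOrdH8 FLFH8 TensH8 QCohExtn
open Groth.Agent.LatticeDet Groth.Agent.OrdSum

/-! Divisors of sections of reflexive tensor products and duals. -/

namespace RefHullH8

variable {X : Scheme.{u}}

theorem exists_ddualTensor_section₁ [IsIntegral X] [IsLocallyNoetherian X]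
    (hX : Pi1.IsNormalScheme X) (F G : X.Modules) (hF : IsR1 F) (hG : IsR1 G)
    (s : Cyc.secFibre F (genericPoint X)) (hs : s ≠ 0) (t : Cyc.secFibre G (genericPoint X))
    (ht : t ≠ 0) :
    ∃ w : Cyc.secFibre (RefHull.ddual (CohB1.tensorMod F G)) (genericPoint X), w ≠ 0 ∧
      ∀ (x : X), Order.coheight x = 1 →
        Cyc.secOrdAt (RefHull.ddual (CohB1.tensorMod F G)) (genericPoint X) x
            ((genericPoint_spec X).specializes (Set.mem_univ x)) w =
          Cyc.secOrdAt F (genericPoint X) x ((genericPoint_spec X).specializes (Set.mem_univ x)) s +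
            Cyc.secOrdAt G (genericPoint X) x
              ((genericPoint_spec X).specializes (Set.mem_univ x)) t := by
  set T := CohB1.tensorMod F G with hT
  set H := RefHull.ddual T with hH
  set j := RefHull.bidualMap T with hj
  obtain ⟨W1, hη1, eF1, heF1⟩ := hF.exists_generic
  obtain ⟨W2, hη2, eG2, heG2⟩ := hG.exists_generic
  obtain ⟨W, hξW, eL, eN, heL, heN⟩ : ∃ (W : X.Opens) (_ : (genericPoint X) ∈ W) (e : Γ(F, W)) (e' : Γ(G, W)),
      IsGen F W e ∧ IsGen G W e' :=
    ⟨W1 ⊓ W2, ⟨hη1, hη2⟩, _, _, heF1.res inf_le_left, heG2.res inf_le_right⟩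
  have heT : IsGen T W (SecTwist.tmul F G W eL eN) := isGen_tmul heL heN
  have heH : IsGen H W (j.app W (SecTwist.tmul F G W eL eN)) := isGen_bidual heT
  have gL : IsFreeGen F (genericPoint X) (F.presheaf.germ W (genericPoint X) hξW eL) := stalk_gen heL hξW
  have gN : IsFreeGen G (genericPoint X) (G.presheaf.germ W (genericPoint X) hξW eN) := stalk_gen heN hξW
  have gH : IsFreeGen H (genericPoint X) (H.presheaf.germ W (genericPoint X) hξW (j.app W (SecTwist.tmul F G W eL eN))) :=
    stalk_gen heH hξW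
  obtain ⟨φL, hφL⟩ := gL.fibre_surj s
  obtain ⟨φN, hφN⟩ := gN.fibre_surj t
  have hφL0 : φL ∉ IsLocalRing.maximalIdeal (X.presheaf.stalk (genericPoint X)) := by
    intro hm
    exact hs (hφL.trans ((gL.fibre_smul_eq_zero_iff φL).mpr hm))
  have hφN0 : φN ∉ IsLocalRing.maximalIdeal (X.presheaf.stalk (genericPoint X)) := by
    intro hm
    exact ht (hφN.trans ((gN.fibre_smul_eq_zero_iff φN).mpr hm))
  refine ⟨(φL * φN) • fmk H (genericPoint X)
    (H.presheaf.germ W (genericPoint X) hξW (j.app W (SecTwist.tmul F G W eL eN))), ?_, ?_⟩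
  · intro h0
    rw [gH.fibre_smul_eq_zero_iff] at h0
    rcases (IsLocalRing.maximalIdeal.isMaximal _).isPrime.mem_or_mem h0 with h | h
    · exact hφL0 h
    · exact hφN0 h
  · intro x hx
    set h := (genericPoint_spec X).specializes (Set.mem_univ x) with hh
    obtain ⟨W', hxW', eL', eN', heL', heN'⟩ := hF.exists_isGen₂ hG x hx.le
    have heT' : IsGen T W' (SecTwist.tmul F G W' eL' eN') := isGen_tmul heL' heN'
    have heH' : IsGen H W' (j.app W' (SecTwist.tmul F G W' eL' eN')) := isGen_bidual heT'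
    have hξW' : (genericPoint X) ∈ W' := h.mem_open W'.isOpen hxW'
    obtain ⟨vL, vN, hvL, hvN, hvT⟩ := germ_tmul_change (eL := eL) (eN := eN) heL' heN' (genericPoint X) hξW hξW'
    have hvH : H.presheaf.germ W (genericPoint X) hξW (j.app W (SecTwist.tmul F G W eL eN)) =
        (vL * vN) • H.presheaf.germ W' (genericPoint X) hξW' (j.app W' (SecTwist.tmul F G W' eL' eN')) := by
      rw [germ_app, germ_app, hvT, map_smul]
    have e1 : s = (φL * vL) • fmk F (genericPoint X) (F.presheaf.germ W' (genericPoint X) hξW' eL') := by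
      rw [hφL, hvL, mul_smul]
      rfl
    have e2 : t = (φN * vN) • fmk G (genericPoint X) (G.presheaf.germ W' (genericPoint X) hξW' eN') := by
      rw [hφN, hvN, mul_smul]
      rfl
    have e3 : (φL * φN) • fmk H (genericPoint X)
        (H.presheaf.germ W (genericPoint X) hξW (j.app W (SecTwist.tmul F G W eL eN))) =
        ((φL * vL) * (φN * vN)) • fmk H (genericPoint X)
          (H.presheaf.germ W' (genericPoint X) hξW' (j.app W' (SecTwist.tmul F G W' eL' eN'))) := by
      rw [hvH]
      change (φL * φN) • ((vL * vN) • fmk H (genericPoint X) _) = _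
      rw [smul_smul]
      congr 1
      ring
    rw [secOrdAt_eq_of_isGen h heL' hxW' s _ e1, secOrdAt_eq_of_isGen h heN' hxW' t _ e2,
      secOrdAt_eq_of_isGen h heH' hxW' _ _ e3]
    haveI := krullDimLE_one_locQuot_of_coheight h hx.le
    haveI := OrdFlatH8.isFractionRing_locQuot x (genericPoint X) h
    have hspL : IsFreeGen F (genericPoint X) (F.presheaf.germ W' (genericPoint X) hξW' eL') := stalk_gen heL' hξW'
    have hspN : IsFreeGen G (genericPoint X) (G.presheaf.germ W' (genericPoint X) hξW' eN') := stalk_gen heN' hξW'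
    have n1 : X.residue (genericPoint X) (φL * vL) ≠ 0 := by
      intro h0
      apply hs
      rw [e1, hspL.fibre_smul_eq_zero_iff]
      exact (IsLocalRing.residue_eq_zero_iff _).mp h0
    have n2 : X.residue (genericPoint X) (φN * vN) ≠ 0 := by
      intro h0
      apply ht
      rw [e2, hspN.fibre_smul_eq_zero_iff]
      exact (IsLocalRing.residue_eq_zero_iff _).mp h0
    unfold Cyc.ordAt
    rw [map_mul (X.residue (genericPoint X)).hom (φL * vL) (φN * vN)]
    exact ordFrac_mul (Cyc.LocQuot x (genericPoint X) h) (X.residueField (genericPoint X)) n1 n2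


/-- Dual generators transform by the inverse coefficient. -/
theorem dualGen_coef {M : X.Modules} {W W₀ : X.Opens} {e : Γ(M, W)} {e₀ : Γ(M, W₀)}
    (he : IsGen M W e) (he₀ : IsGen M W₀ e₀) (y : X) (hy : y ∈ W) (hy₀ : y ∈ W₀)
    (α β : X.presheaf.stalk y)
    (hα : M.presheaf.germ W y hy e = α • M.presheaf.germ W₀ y hy₀ e₀)
    (hβ : (RefHull.dual M).presheaf.germ W y hy (dualGen he) =
      β • (RefHull.dual M).presheaf.germ W₀ y hy₀ (dualGen he₀)) : α * β = 1 := by
  have h1 := congrArg (RefHull.evalStalk M (Coh.structureModule X) y) hβ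
  rw [map_smul, RefHull.evalStalk_germ, RefHull.evalStalk_germ] at h1
  have h2 := LinearMap.congr_fun h1 (M.presheaf.germ W y hy e)
  rw [LinearMap.smul_apply] at h2
  have h3 : (dualGen he).1 ⟨y, hy⟩ (M.presheaf.germ W y hy e) =
      (Coh.structureModule X).presheaf.germ W y hy (toM (1 : Γ(X, W))) := homGen_apply he _ ⟨y, hy⟩
  have h4 : (dualGen he₀).1 ⟨y, hy₀⟩ (M.presheaf.germ W₀ y hy₀ e₀) =
      (Coh.structureModule X).presheaf.germ W₀ y hy₀ (toM (1 : Γ(X, W₀))) :=
    homGen_apply he₀ _ ⟨y, hy₀⟩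
  rw [h3, hα, map_smul, h4] at h2
  have h5 : (Coh.structureModule X).presheaf.germ W y hy (toM (1 : Γ(X, W))) =
      (Coh.structureModule X).presheaf.germ W₀ y hy₀ (toM (1 : Γ(X, W₀))) := by
    have e1 : rF (Coh.structureModule X) (inf_le_left : W ⊓ W₀ ≤ W) (toM (1 : Γ(X, W))) =
        toM (1 : Γ(X, W ⊓ W₀)) := map_one (rX (inf_le_left : W ⊓ W₀ ≤ W))
    have e2 : rF (Coh.structureModule X) (inf_le_right : W ⊓ W₀ ≤ W₀) (toM (1 : Γ(X, W₀))) =
        toM (1 : Γ(X, W ⊓ W₀)) := map_one (rX (inf_le_right : W ⊓ W₀ ≤ W₀))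
    rw [← germ_rF (Coh.structureModule X) (inf_le_left : W ⊓ W₀ ≤ W) y ⟨hy, hy₀⟩, e1, ← e2,
      germ_rF]
  have hu : IsFreeGen (Coh.structureModule X) y
      ((Coh.structureModule X).presheaf.germ W₀ y hy₀ (toM (1 : Γ(X, W₀)))) :=
    stalk_gen (isGen_one W₀) hy₀
  rw [h5, smul_smul] at h2
  have h6 : (1 : X.presheaf.stalk y) •
      (Coh.structureModule X).presheaf.germ W₀ y hy₀ (toM (1 : Γ(X, W₀))) =
      (β * α) • (Coh.structureModule X).presheaf.germ W₀ y hy₀ (toM (1 : Γ(X, W₀))) := by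
    rw [one_smul]; exact h2
  have := hu.smul_cancel h6
  rw [mul_comm]
  exact this.symm

theorem exists_dual_section [IsIntegral X] [IsLocallyNoetherian X]
    {F : X.Modules} (hF : IsR1 F)
    (s : Cyc.secFibre F (genericPoint X)) (hs : s ≠ 0) :
    ∃ w : Cyc.secFibre (RefHull.dual F) (genericPoint X), w ≠ 0 ∧
      ∀ (x : X), Order.coheight x = 1 →
        Cyc.secOrdAt (RefHull.dual F) (genericPoint X) x
            ((genericPoint_spec X).specializes (Set.mem_univ x)) w =
          - Cyc.secOrdAt F (genericPoint X) x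
            ((genericPoint_spec X).specializes (Set.mem_univ x)) s := by
  obtain ⟨W₀, hη₀, e₀, he₀⟩ := hF.exists_generic
  have ha : IsFreeGen F (genericPoint X) (F.presheaf.germ W₀ _ hη₀ e₀) := stalk_gen he₀ hη₀
  have hb : IsFreeGen (RefHull.dual F) (genericPoint X)
      ((RefHull.dual F).presheaf.germ W₀ _ hη₀ (dualGen he₀)) :=
    stalk_gen (isGen_dualGen he₀) hη₀
  obtain ⟨φ, rfl⟩ := ha.fibre_surj s
  have hφ : (φ : X.functionField) ≠ 0 := by
    rintro rfl
    exact hs (zero_smul _ _)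
  have hφi : ((φ : X.functionField)⁻¹ : X.functionField) ≠ 0 := inv_ne_zero hφ
  refine ⟨((φ : X.functionField)⁻¹ : X.functionField) • fmk (RefHull.dual F) (genericPoint X)
    ((RefHull.dual F).presheaf.germ W₀ _ hη₀ (dualGen he₀)), ?_, ?_⟩
  · intro h0
    have h1 := (hb.fibre_smul_eq_zero_iff _).mp h0
    have h2 : IsUnit ((φ : X.functionField)⁻¹ : X.functionField) := isUnit_iff_ne_zero.mpr hφi
    exact (IsLocalRing.maximalIdeal X.functionField).ne_top_iff_one.mp
      (IsLocalRing.maximalIdeal.isMaximal _).ne_top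
      ((Ideal.eq_top_of_isUnit_mem _ h1 h2) ▸ Submodule.mem_top)
  · intro x hx
    obtain ⟨W, hxW, e, he⟩ := hF.2.2 x hx.le
    have hηW : genericPoint X ∈ W :=
      ((genericPoint_spec X).specializes (Set.mem_univ x)).mem_open W.isOpen hxW
    obtain ⟨α, hα0, hα⟩ := exists_coef_generic ha (stalk_gen he hηW)
    obtain ⟨β, hβ0, hβ⟩ := exists_coef_generic hb (stalk_gen (isGen_dualGen he) hηW)
    have hαβ : (α : X.functionField) * β = 1 :=
      dualGen_coef he he₀ (genericPoint X) hηW hη₀ α β hα hβ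
    rw [secOrdAt_eq_ord_mul_inv hx he hxW (φ : X.functionField) α hφ hα0 hα,
      secOrdAt_eq_ord_mul_inv hx (isGen_dualGen he) hxW _ β hφi hβ0 hβ]
    have h3 : ((φ : X.functionField)⁻¹ : X.functionField) * β⁻¹ =
        ((φ : X.functionField) * α⁻¹)⁻¹ := by
      have : (β : X.functionField)⁻¹ = α := by
        rw [inv_eq_iff_eq_inv]
        exact eq_inv_of_mul_eq_one_right hαβ
      rw [this, mul_inv, inv_inv]
    rw [h3, ord_inv' x (mul_ne_zero hφ (inv_ne_zero hα0))]

end RefHullH8
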