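import Mathlib
import Groth.Prelude
import Groth.Agent.Lib.WDivSh6_helper8

set_option autoImplicit false
universe u

open CategoryTheory AlgebraicGeometry TopologicalSpace Opposite
open QcqsLoc GenLocH8 SecOrdH8 FLFH8 QCohExtn RefHullH8

/-! The divisor of a rational section of a rank one reflexive module is locally finite. -/

namespace WDivShH8

variable {X : Scheme.{u}} [IsIntegral X] [IsLocallyNoetherian X] (hX : Pi1.IsNormalScheme X)

include hX in
theorem locallyFiniteSupport_secOrd {F : X.Modules} (hF : RefHull.IsRef1 F)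
    (s : Cyc.secFibre F (genericPoint X)) (hs : s ≠ 0) :
    LocallyFiniteSupport (fun x : X => if Order.coheight x = 1 then
      Cyc.secOrdAt F (genericPoint X) x ((genericPoint_spec X).specializes (Set.mem_univ x)) s
      else 0) := by
  classical
  obtain ⟨W₀, hηW₀, e₀, he₀⟩ := exists_isGen_generic hF.2.2
  have ha : IsFreeGen F (genericPoint X) (F.presheaf.germ W₀ _ hηW₀ e₀) := stalk_gen he₀ hηW₀
  obtain ⟨φ, rfl⟩ := ha.fibre_surj s
  have hφ : (φ : X.functionField) ≠ 0 := by
    rintro rfl
    exact hs (zero_smul _ _)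
  intro z
  obtain ⟨_, ⟨U, hU : IsAffineOpen U, rfl⟩, hzU, -⟩ :=
    (X.isBasis_affineOpens).exists_subset_of_mem_open (Set.mem_univ z) isOpen_univ
  have hηU : genericPoint X ∈ U := NormH8.genericPoint_mem hzU
  obtain ⟨f, hfle, hηf⟩ := hU.exists_basicOpen_le (⟨genericPoint X, hηW₀⟩ : W₀) hηU
  set fK : X.functionField := X.presheaf.germ U (genericPoint X) hηU f with hfK
  have hfK0 : fK ≠ 0 := by
    have : IsUnit (X.presheaf.germ U (genericPoint X) hηU f) :=
      (X.mem_basicOpen f (genericPoint X) hηU).mp hηf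
    exact this.ne_zero
  refine ⟨U, U.isOpen.mem_nhds hzU, ?_⟩
  apply ((Groth.Agent.OrdFin.finite_ord_ne_zero hU φ hφ).union
    (Groth.Agent.OrdFin.finite_ord_ne_zero hU fK hfK0)).subset
  rintro x ⟨hxU, hx⟩
  rw [Function.mem_support] at hx
  by_cases hxc : Order.coheight x = 1
  swap
  · rw [if_neg hxc] at hx
    exact absurd rfl hx
  rw [if_pos hxc] at hx
  by_cases hxW₀ : x ∈ W₀
  · left
    refine ⟨hxU, hxc, ?_⟩
    have h1 := secOrdAt_eq_ord_mul_inv hxc he₀ hxW₀ (φ : X.functionField) 1 hφ one_ne_zero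
      (one_smul _ _).symm
    rw [inv_one, mul_one] at h1
    rw [← h1]
    exact hx
  · right
    refine ⟨hxU, hxc, ?_⟩
    have hu : ¬ IsUnit (X.presheaf.germ U x hxU f) := fun hu =>
      hxW₀ (hfle ((X.mem_basicOpen f x hxU).mpr hu))
    have h1 := one_le_ord_algebraMap hX x hxc (X.presheaf.germ U x hxU f)
      (by rw [algebraMap_germ x hxU hηU]; exact hfK0) hu
    rw [algebraMap_germ x hxU hηU] at h1
    have : (1 : ℤ) ≤ Scheme.ord fK x := h1
    omega

include hX in
/-- The class map takes values in Weil divisors and is surjective. -/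
theorem secDivisor_locallyFinite_and_surjective :
    (∀ (F : X.Modules) (_ : RefHull.IsRef1 F) (s : Cyc.secFibre F (genericPoint X)), s ≠ 0 →
        ∃ D : AlgebraicCycle X ℤ, (∀ x : X, Order.coheight x ≠ 1 → D x = 0) ∧
          ∀ (x : X), Order.coheight x = 1 →
            D x = Cyc.secOrdAt F (genericPoint X) x
              ((genericPoint_spec X).specializes (Set.mem_univ x)) s) ∧
      ∀ D : AlgebraicCycle X ℤ, (∀ x : X, Order.coheight x ≠ 1 → D x = 0) →
        ∃ (F : X.Modules) (_ : RefHull.IsRef1 F) (s : Cyc.secFibre F (genericPoint X)), s ≠ 0 ∧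
          ∀ (x : X), Order.coheight x = 1 →
            D x = Cyc.secOrdAt F (genericPoint X) x
              ((genericPoint_spec X).specializes (Set.mem_univ x)) s := by
  classical
  constructor
  · intro F hF s hs
    have hfin := locallyFiniteSupport_secOrd hX hF s hs
    refine ⟨⟨_, Set.subset_univ _, fun z _ => hfin z⟩, fun x hx => ?_, fun x hx => ?_⟩
    · exact if_neg hx
    · exact if_pos hx
  · intro D _
    exact exists_ref1_of_divisor hX (fun x => D x) D.locallyFiniteSupport

end WDivShH8
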