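import Mathlib
import Groth.Prelude
import Groth.Agent.Lib.RefHull19_helper8
import Groth.Agent.Lib.WDivSh7_helper8

set_option autoImplicit false
universe u

open CategoryTheory AlgebraicGeometry TopologicalSpace Opposite
open QcqsLoc GenLocH8 SecOrdH8 FLFH8 TensH8 QCohExtn

/-! The group of isomorphism classes of rank one reflexive modules. -/

namespace RefHullH8

variable {X : Scheme.{u}}

theorem iso_of_cl_eq {F G : X.Modules} (h : PicF.cl F = PicF.cl G) : Nonempty (F ≅ G) := by
  have h1 := Quot.eqvGen_exact h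
  clear h
  induction h1 with
  | rel _ _ h => exact h
  | refl _ => exact ⟨Iso.refl _⟩
  | symm _ _ _ ih => exact ⟨ih.some.symm⟩
  | trans _ _ _ _ _ ih1 ih2 => exact ⟨ih1.some ≪≫ ih2.some⟩

variable [IsIntegral X] [IsLocallyNoetherian X]

/-- The principal divisors, as a subgroup of the integer valued functions on the points. -/
def prin (X : Scheme.{u}) [IsIntegral X] [IsLocallyNoetherian X] : AddSubgroup (X → ℤ) where
  carrier := {D | ∃ f : X.functionField, f ≠ 0 ∧ D = fun x => Scheme.ord f x}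
  zero_mem' := ⟨1, one_ne_zero, funext (fun x => (ord_one' x).symm)⟩
  add_mem' := by
    rintro _ _ ⟨f, hf, rfl⟩ ⟨g, hg, rfl⟩
    exact ⟨f * g, mul_ne_zero hf hg, funext (fun x => (Scheme.ord_mul hf hg).symm)⟩
  neg_mem' := by
    rintro _ ⟨f, hf, rfl⟩
    exact ⟨f⁻¹, inv_ne_zero hf, funext (fun x => (ord_inv' x hf).symm)⟩

open Classical in
/-- The divisor of a rational section, as a function on the points. -/
noncomputable def divFun (M : X.Modules) (s : Cyc.secFibre M (genericPoint X)) : X → ℤ :=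
  fun x => if Order.coheight x = 1 then
    Cyc.secOrdAt M (genericPoint X) x ((genericPoint_spec X).specializes (Set.mem_univ x)) s else 0

omit [IsLocallyNoetherian X] in
theorem divFun_of_coheight {M : X.Modules} (s : Cyc.secFibre M (genericPoint X)) {x : X}
    (hx : Order.coheight x = 1) : divFun M s x =
      Cyc.secOrdAt M (genericPoint X) x ((genericPoint_spec X).specializes (Set.mem_univ x)) s :=
  if_pos hx

omit [IsLocallyNoetherian X] in
theorem divFun_of_coheight_ne {M : X.Modules} (s : Cyc.secFibre M (genericPoint X)) {x : X}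
    (hx : Order.coheight x ≠ 1) : divFun M s x = 0 :=
  if_neg hx

omit [IsLocallyNoetherian X] in
theorem IsR1.exists_sec {M : X.Modules} (hM : IsR1 M) :
    ∃ s : Cyc.secFibre M (genericPoint X), s ≠ 0 := by
  obtain ⟨W, hη, e, he⟩ := hM.exists_generic
  have ha : IsFreeGen M (genericPoint X) (M.presheaf.germ W _ hη e) := stalk_gen he hη
  refine ⟨(1 : X.functionField) • fmk M (genericPoint X) (M.presheaf.germ W _ hη e), ?_⟩
  intro h0
  have h1 := (ha.fibre_smul_eq_zero_iff _).mp h0
  exact (IsLocalRing.maximalIdeal X.functionField).ne_top_iff_one.mp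
    (IsLocalRing.maximalIdeal.isMaximal _).ne_top h1

/-- A chosen nonzero rational section. -/
noncomputable def IsR1.sec {M : X.Modules} (hM : IsR1 M) : Cyc.secFibre M (genericPoint X) :=
  hM.exists_sec.choose

omit [IsLocallyNoetherian X] in
theorem IsR1.sec_ne_zero {M : X.Modules} (hM : IsR1 M) : hM.sec ≠ 0 := hM.exists_sec.choose_spec

/-- The divisor class of a module. -/
noncomputable def divCl (M : X.Modules) (hM : IsR1 M) : (X → ℤ) ⧸ prin X :=
  QuotientAddGroup.mk (divFun M hM.sec)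

theorem mk_divFun_eq_iff (hX : Pi1.IsNormalScheme X) {M N : X.Modules} (hM : IsR1 M)
    (hN : IsR1 N) (s : Cyc.secFibre M (genericPoint X)) (hs : s ≠ 0)
    (t : Cyc.secFibre N (genericPoint X)) (ht : t ≠ 0) :
    (QuotientAddGroup.mk (divFun M s) : (X → ℤ) ⧸ prin X) = QuotientAddGroup.mk (divFun N t) ↔
      Nonempty (M ≅ N) := by
  rw [iso_iff_div₁ hX M N hM hN s hs t ht, QuotientAddGroup.eq]
  constructor
  · rintro ⟨g, hg, hgeq⟩
    refine ⟨g⁻¹, inv_ne_zero hg, fun x hx => ?_⟩
    have h1 := congrFun hgeq x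
    simp only [Pi.add_apply, Pi.neg_apply] at h1
    rw [divFun_of_coheight s hx, divFun_of_coheight t hx] at h1
    rw [ord_inv' x hg]
    omega
  · rintro ⟨f, hf, hdiv⟩
    refine ⟨f⁻¹, inv_ne_zero hf, funext (fun x => ?_)⟩
    simp only [Pi.add_apply, Pi.neg_apply]
    by_cases hx : Order.coheight x = 1
    · rw [divFun_of_coheight s hx, divFun_of_coheight t hx, hdiv x hx, ord_inv' x hf]
      omega
    · rw [divFun_of_coheight_ne s hx, divFun_of_coheight_ne t hx,
        Scheme.ord_eq_zero_of_coheight_neq_one hx]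
      simp

theorem divCl_eq_of_sec (hX : Pi1.IsNormalScheme X) {M : X.Modules} (hM : IsR1 M)
    (s : Cyc.secFibre M (genericPoint X)) (hs : s ≠ 0) :
    divCl M hM = QuotientAddGroup.mk (divFun M s) :=
  (mk_divFun_eq_iff hX hM hM _ hM.sec_ne_zero s hs).mpr ⟨Iso.refl _⟩

theorem divCl_eq_iff (hX : Pi1.IsNormalScheme X) {M N : X.Modules} (hM : IsR1 M) (hN : IsR1 N) :
    divCl M hM = divCl N hN ↔ Nonempty (M ≅ N) :=
  mk_divFun_eq_iff hX hM hN _ hM.sec_ne_zero _ hN.sec_ne_zero

theorem divCl_ddualTensor (hX : Pi1.IsNormalScheme X) {F G : X.Modules} (hF : IsR1 F)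
    (hG : IsR1 G) :
    divCl (RefHull.ddual (CohB1.tensorMod F G)) (isR1_ddualTensor hX hF hG) =
      divCl F hF + divCl G hG := by
  obtain ⟨w, hw, hdiv⟩ := exists_ddualTensor_section₁ hX F G hF hG _ hF.sec_ne_zero _
    hG.sec_ne_zero
  rw [divCl_eq_of_sec hX _ w hw]
  show _ = QuotientAddGroup.mk (divFun F hF.sec) + QuotientAddGroup.mk (divFun G hG.sec)
  rw [← QuotientAddGroup.mk_add]
  congr 1
  funext x
  simp only [Pi.add_apply]
  by_cases hx : Order.coheight x = 1
  · rw [divFun_of_coheight _ hx, divFun_of_coheight _ hx, divFun_of_coheight _ hx, hdiv x hx]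
  · rw [divFun_of_coheight_ne _ hx, divFun_of_coheight_ne _ hx, divFun_of_coheight_ne _ hx,
      add_zero]

theorem divCl_dual (hX : Pi1.IsNormalScheme X) {F : X.Modules} (hF : IsR1 F) :
    divCl (RefHull.dual F) (isR1_dual hX hF) = - divCl F hF := by
  obtain ⟨w, hw, hdiv⟩ := exists_dual_section hF _ hF.sec_ne_zero
  rw [divCl_eq_of_sec hX _ w hw]
  show _ = - QuotientAddGroup.mk (divFun F hF.sec)
  rw [← QuotientAddGroup.mk_neg]
  congr 1
  funext x
  simp only [Pi.neg_apply]
  by_cases hx : Order.coheight x = 1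
  · rw [divFun_of_coheight _ hx, divFun_of_coheight _ hx, hdiv x hx]
  · rw [divFun_of_coheight_ne _ hx, divFun_of_coheight_ne _ hx, neg_zero]

/-- Every class of a locally finite divisor is the class of a rank one reflexive module. -/
theorem exists_isRef1_divCl (hX : Pi1.IsNormalScheme X) (D : X → ℤ)
    (hD : LocallyFiniteSupport D) (hD1 : ∀ x, Order.coheight x ≠ 1 → D x = 0) :
    ∃ (E : X.Modules) (hE : RefHull.IsRef1 E),
      divCl E (isR1_of_isRef1 hX hE) = QuotientAddGroup.mk D := by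
  obtain ⟨E, hE, s, hs, hdiv⟩ := WDivShH8.exists_ref1_of_divisor hX D hD
  refine ⟨E, hE, ?_⟩
  rw [divCl_eq_of_sec hX _ s hs]
  congr 1
  funext x
  by_cases hx : Order.coheight x = 1
  · rw [divFun_of_coheight _ hx, hdiv x hx]
  · rw [divFun_of_coheight_ne _ hx, hD1 x hx]

theorem locallyFiniteSupport_divFun (hX : Pi1.IsNormalScheme X) {F : X.Modules}
    (hF : RefHull.IsRef1 F) (s : Cyc.secFibre F (genericPoint X)) (hs : s ≠ 0) :
    LocallyFiniteSupport (divFun F s) := by
  have := WDivShH8.locallyFiniteSupport_secOrd hX hF s hs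
  intro z
  obtain ⟨t, ht, hfin⟩ := this z
  refine ⟨t, ht, hfin.subset ?_⟩
  rintro x ⟨hxt, hx⟩
  refine ⟨hxt, ?_⟩
  rw [Function.mem_support] at hx ⊢
  by_cases hxc : Order.coheight x = 1
  · rw [if_pos hxc]
    rwa [divFun_of_coheight _ hxc] at hx
  · exact absurd (divFun_of_coheight_ne _ hxc) hx

end RefHullH8
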