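import Mathlib
import Groth.Prelude
import Groth.Agent.Lib.RefHull20_helper8
import Groth.Agent.Lib.CohDev8_helper8

set_option autoImplicit false
universe u

open CategoryTheory AlgebraicGeometry TopologicalSpace Opposite
open QcqsLoc GenLocH8 SecOrdH8 FLFH8 TensH8 QCohExtn

/-! The group law on isomorphism classes of rank one reflexive modules. -/

namespace RefHullH8

variable {X : Scheme.{u}}

theorem locallyFiniteSupport_add {Y : Type*} [TopologicalSpace Y] {f g : Y → ℤ}
    (hf : LocallyFiniteSupport f) (hg : LocallyFiniteSupport g) :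
    LocallyFiniteSupport (f + g) := by
  intro z
  obtain ⟨t₁, ht₁, h₁⟩ := hf z
  obtain ⟨t₂, ht₂, h₂⟩ := hg z
  refine ⟨t₁ ∩ t₂, Filter.inter_mem ht₁ ht₂, (h₁.union h₂).subset ?_⟩
  rintro x ⟨⟨hx1, hx2⟩, hx⟩
  rw [Function.mem_support, Pi.add_apply] at hx
  by_cases h : f x = 0
  · right
    refine ⟨hx2, ?_⟩
    rw [Function.mem_support]
    intro h'
    exact hx (by rw [h, h', add_zero])
  · left
    exact ⟨hx1, h⟩

theorem locallyFiniteSupport_neg {Y : Type*} [TopologicalSpace Y] {f : Y → ℤ}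
    (hf : LocallyFiniteSupport f) : LocallyFiniteSupport (-f) := by
  intro z
  obtain ⟨t₁, ht₁, h₁⟩ := hf z
  refine ⟨t₁, ht₁, h₁.subset ?_⟩
  rintro x ⟨hx1, hx⟩
  refine ⟨hx1, ?_⟩
  rw [Function.mem_support, Pi.neg_apply, neg_ne_zero] at hx
  exact hx

variable [IsIntegral X] [IsLocallyNoetherian X]

theorem isRef1_structureModule (hX : Pi1.IsNormalScheme X) :
    RefHull.IsRef1 (Coh.structureModule X) := by
  refine ⟨CohDevH8.isCoh_structureModule X, ?_, ?_⟩
  · exact isReflexive_of_S2 hX (hasExt_structureModule hX) S2.genInj_structureModule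
      (fun x _ => ⟨⊤, trivial, _, isGen_one ⊤⟩)
  · refine ⟨⊤, by simp, ?_⟩
    apply isInvertible_of_gens
    intro y
    obtain ⟨_, ⟨W', hW' : IsAffineOpen W', rfl⟩, hyW', -⟩ :=
      (((⊤ : X.Opens) : Scheme.{u}).isBasis_affineOpens).exists_subset_of_mem_open
        (Set.mem_univ y) isOpen_univ
    exact ⟨W', hW', hyW', _,
      WDivShH8.isGen_restrict (Coh.structureModule X) ⊤ (isGen_one ⊤) W' le_top⟩

theorem divCl_structureModule (hX : Pi1.IsNormalScheme X) :
    divCl (Coh.structureModule X) (isR1_structureModule hX) = 0 := by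
  have he : IsGen (Coh.structureModule X) ⊤ (toM (1 : Γ(X, ⊤))) := isGen_one ⊤
  have ha : IsFreeGen (Coh.structureModule X) (genericPoint X)
      ((Coh.structureModule X).presheaf.germ ⊤ (genericPoint X) trivial (toM (1 : Γ(X, ⊤)))) :=
    stalk_gen he trivial
  set s : Cyc.secFibre (Coh.structureModule X) (genericPoint X) :=
    (1 : X.functionField) • fmk (Coh.structureModule X) (genericPoint X)
      ((Coh.structureModule X).presheaf.germ ⊤ (genericPoint X) trivial (toM (1 : Γ(X, ⊤))))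
    with hs
  have hs0 : s ≠ 0 := by
    intro h0
    have h1 := (ha.fibre_smul_eq_zero_iff _).mp h0
    exact (IsLocalRing.maximalIdeal X.functionField).ne_top_iff_one.mp
      (IsLocalRing.maximalIdeal.isMaximal _).ne_top h1
  rw [divCl_eq_of_sec hX _ s hs0]
  have : divFun (Coh.structureModule X) s = 0 := by
    funext x
    by_cases hx : Order.coheight x = 1
    · rw [divFun_of_coheight _ hx, hs,
        secOrdAt_eq_ord_mul_inv hx he trivial (1 : X.functionField) 1 one_ne_zero one_ne_zero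
          (one_smul _ _).symm, inv_one, mul_one, ord_one']
      rfl
    · rw [divFun_of_coheight_ne _ hx]
      rfl
  rw [this]
  rfl

/-- Isomorphism classes of rank one reflexive modules form an abelian group under the reflexive
tensor product. -/
theorem ref1Cl_commGroup_law (hX : Pi1.IsNormalScheme X) :
    ∃ (mul : {c : PicF.Cl X // ∃ F : X.Modules, PicF.cl F = c ∧ RefHull.IsRef1 F} →
          {c : PicF.Cl X // ∃ F : X.Modules, PicF.cl F = c ∧ RefHull.IsRef1 F} →
            {c : PicF.Cl X // ∃ F : X.Modules, PicF.cl F = c ∧ RefHull.IsRef1 F})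
      (one : {c : PicF.Cl X // ∃ F : X.Modules, PicF.cl F = c ∧ RefHull.IsRef1 F})
      (inv : {c : PicF.Cl X // ∃ F : X.Modules, PicF.cl F = c ∧ RefHull.IsRef1 F} →
          {c : PicF.Cl X // ∃ F : X.Modules, PicF.cl F = c ∧ RefHull.IsRef1 F}),
      (∀ a b, mul a b = mul b a) ∧ (∀ a b c, mul (mul a b) c = mul a (mul b c)) ∧
        (∀ a, mul one a = a) ∧ (∀ a, mul (inv a) a = one) ∧
        (∀ (F G : X.Modules) (hF : RefHull.IsRef1 F) (hG : RefHull.IsRef1 G),
          (mul ⟨PicF.cl F, F, rfl, hF⟩ ⟨PicF.cl G, G, rfl, hG⟩).1 =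
            PicF.cl (RefHull.ddual (CohB1.tensorMod F G))) ∧
        one.1 = PicF.cl (Coh.structureModule X) ∧
        (∀ (F : X.Modules) (hF : RefHull.IsRef1 F),
          (inv ⟨PicF.cl F, F, rfl, hF⟩).1 = PicF.cl (RefHull.dual F)) := by
  classical
  -- representatives
  let R := {c : PicF.Cl X // ∃ F : X.Modules, PicF.cl F = c ∧ RefHull.IsRef1 F}
  let rep : R → X.Modules := fun a => a.2.choose
  have rep_cl : ∀ a : R, PicF.cl (rep a) = a.1 := fun a => a.2.choose_spec.1
  have rep_ref1 : ∀ a : R, RefHull.IsRef1 (rep a) := fun a => a.2.choose_spec.2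
  have rep_r1 : ∀ a : R, IsR1 (rep a) := fun a => isR1_of_isRef1 hX (rep_ref1 a)
  let Φ : R → (X → ℤ) ⧸ prin X := fun a => divCl (rep a) (rep_r1 a)
  have hΦ_inj : ∀ a b : R, Φ a = Φ b → a = b := by
    intro a b hab
    obtain ⟨e⟩ := (divCl_eq_iff hX (rep_r1 a) (rep_r1 b)).mp hab
    apply Subtype.ext
    rw [← rep_cl a, ← rep_cl b]
    exact Quot.sound ⟨e⟩
  have hΦ_mod : ∀ (a : R) (M : X.Modules) (hM : IsR1 M), PicF.cl M = a.1 →
      Φ a = divCl M hM := by
    intro a M hM hcl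
    have h1 : PicF.cl (rep a) = PicF.cl M := (rep_cl a).trans hcl.symm
    exact (divCl_eq_iff hX (rep_r1 a) hM).mpr (iso_of_cl_eq h1)
  have hΦ_of : ∀ (a : R) (M : X.Modules) (hM : IsR1 M), Φ a = divCl M hM → a.1 = PicF.cl M := by
    intro a M hM h
    obtain ⟨e⟩ := (divCl_eq_iff hX (rep_r1 a) hM).mp h
    rw [← rep_cl a]
    exact Quot.sound ⟨e⟩
  have hlf : ∀ a : R, LocallyFiniteSupport (divFun (rep a) (rep_r1 a).sec) := fun a =>
    locallyFiniteSupport_divFun hX (rep_ref1 a) _ (rep_r1 a).sec_ne_zero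
  have hadd : ∀ a b : R, ∃ r : R, Φ r = Φ a + Φ b := by
    intro a b
    obtain ⟨E, hE, hcl⟩ := exists_isRef1_divCl hX
      (divFun (rep a) (rep_r1 a).sec + divFun (rep b) (rep_r1 b).sec)
      (locallyFiniteSupport_add (hlf a) (hlf b)) (fun x hx => by
        rw [Pi.add_apply, divFun_of_coheight_ne _ hx, divFun_of_coheight_ne _ hx, add_zero])
    refine ⟨⟨PicF.cl E, E, rfl, hE⟩, ?_⟩
    rw [hΦ_mod ⟨PicF.cl E, E, rfl, hE⟩ E (isR1_of_isRef1 hX hE) rfl, hcl]
    rfl
  have hneg : ∀ a : R, ∃ r : R, Φ r = - Φ a := by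
    intro a
    obtain ⟨E, hE, hcl⟩ := exists_isRef1_divCl hX (- divFun (rep a) (rep_r1 a).sec)
      (locallyFiniteSupport_neg (hlf a)) (fun x hx => by
        rw [Pi.neg_apply, divFun_of_coheight_ne _ hx, neg_zero])
    refine ⟨⟨PicF.cl E, E, rfl, hE⟩, ?_⟩
    rw [hΦ_mod ⟨PicF.cl E, E, rfl, hE⟩ E (isR1_of_isRef1 hX hE) rfl, hcl]
    rfl
  let one : R := ⟨PicF.cl (Coh.structureModule X), _, rfl, isRef1_structureModule hX⟩
  have hone : Φ one = 0 := by
    rw [hΦ_mod one _ (isR1_structureModule hX) rfl]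
    exact divCl_structureModule hX
  refine ⟨fun a b => (hadd a b).choose, one, fun a => (hneg a).choose, ?_, ?_, ?_, ?_, ?_, rfl, ?_⟩
  · intro a b
    apply hΦ_inj
    rw [(hadd a b).choose_spec, (hadd b a).choose_spec, add_comm]
  · intro a b c
    apply hΦ_inj
    rw [(hadd _ c).choose_spec, (hadd a b).choose_spec, (hadd a _).choose_spec,
      (hadd b c).choose_spec, add_assoc]
  · intro a
    apply hΦ_inj
    rw [(hadd one a).choose_spec, hone, zero_add]
  · intro a
    apply hΦ_inj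
    rw [(hadd _ a).choose_spec, (hneg a).choose_spec, hone, neg_add_cancel]
  · intro F G hF hG
    apply hΦ_of _ _ (isR1_ddualTensor hX (isR1_of_isRef1 hX hF) (isR1_of_isRef1 hX hG))
    rw [(hadd _ _).choose_spec, divCl_ddualTensor hX,
      hΦ_mod ⟨PicF.cl F, F, rfl, hF⟩ F (isR1_of_isRef1 hX hF) rfl,
      hΦ_mod ⟨PicF.cl G, G, rfl, hG⟩ G (isR1_of_isRef1 hX hG) rfl]
  · intro F hF
    apply hΦ_of _ _ (isR1_dual hX (isR1_of_isRef1 hX hF))
    rw [(hneg _).choose_spec, divCl_dual hX,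
      hΦ_mod ⟨PicF.cl F, F, rfl, hF⟩ F (isR1_of_isRef1 hX hF) rfl]

end RefHullH8
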