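import Mathlib
import Groth.Prelude
import Groth.Agent.Lib.RefHull21_helper8

set_option autoImplicit false
universe u

open CategoryTheory AlgebraicGeometry TopologicalSpace Opposite
open QcqsLoc GenLocH8 SecOrdH8 FLFH8 TensH8 QCohExtn

/-! Modules with local generators everywhere (e.g. invertible modules) have the extension
property on a normal scheme. -/

namespace RefHullH8

variable {X : Scheme.{u}}

theorem genInj_of_gens [IsIntegral X] {L : X.Modules}
    (hL : ∀ x : X, ∃ (W : X.Opens) (_ : x ∈ W) (e : Γ(L, W)), IsGen L W e) : S2.GenInj L := by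
  intro V g hg
  refine TopCat.Presheaf.section_ext ⟨L.presheaf, L.isSheaf⟩ V _ _ (fun y hy => ?_)
  rw [map_zero]
  obtain ⟨W, hyW, e, he⟩ := hL y
  have hO : W ⊓ V ≤ W := inf_le_left
  have hOV : W ⊓ V ≤ V := inf_le_right
  have hyO : y ∈ W ⊓ V := ⟨hyW, hy⟩
  have hηO : genericPoint X ∈ W ⊓ V := NormH8.genericPoint_mem hyO
  obtain ⟨c, hc⟩ := (he (W ⊓ V) hO).1 (rF L hOV g)
  have h1 : L.presheaf.germ (W ⊓ V) (genericPoint X) hηO (rF L hOV g) = 0 := by
    rw [germ_rF]
    exact hg _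
  rw [hc, Mero.germ_smul, germ_rF] at h1
  have h2 : X.presheaf.germ (W ⊓ V) (genericPoint X) hηO c = 0 :=
    (stalk_gen he hηO.1).2 _ h1
  have h3 : c = 0 :=
    germ_injective_of_isIntegral X (genericPoint X) hηO (h2.trans (map_zero _).symm)
  rw [← germ_rF L hOV y hyO g, hc, h3, zero_smul, map_zero]

theorem hasExt_of_gens [IsIntegral X] [IsLocallyNoetherian X] (hX : Pi1.IsNormalScheme X)
    {L : X.Modules}
    (hL : ∀ x : X, ∃ (W : X.Opens) (_ : x ∈ W) (e : Γ(L, W)), IsGen L W e) : HasExt L := by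
  have hI := genInj_of_gens hL
  intro V U₁ hbig
  have hηmem : ∀ y ∈ V, genericPoint X ∈ U₁ := fun y hy =>
    hbig.2 _ (NormH8.genericPoint_mem hy) coheight_genericPoint_le
  -- injectivity of restrictions to big opens
  have hinj : ∀ (V' U' : X.Opens) (hb : BigIn U' V') (g : Γ(L, V')), rF L hb.1 g = 0 → g = 0 := by
    intro V' U' hb g hg
    apply hI
    intro hη
    have hη' : genericPoint X ∈ U' := hb.2 _ hη coheight_genericPoint_le
    rw [← germ_rF L hb.1 _ hη' g, hg, map_zero]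
  constructor
  · rw [injective_iff_map_eq_zero]
    intro g hg
    exact hinj V U₁ hbig g hg
  · intro g₁
    -- local extensions
    have hloc : ∀ y : V, ∃ (O : X.Opens) (hO : O ≤ V) (_ : y.1 ∈ O) (m : Γ(L, O)),
        rF L (inf_le_right : U₁ ⊓ O ≤ O) m = rF L (inf_le_left : U₁ ⊓ O ≤ U₁) g₁ := by
      intro y
      obtain ⟨W, hyW, e, he⟩ := hL y.1
      have hOW : W ⊓ V ≤ W := inf_le_left
      have hOV : W ⊓ V ≤ V := inf_le_right
      have hb : BigIn (U₁ ⊓ (W ⊓ V)) (W ⊓ V) := hbig.inf hOV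
      obtain ⟨c, hc⟩ := (he (U₁ ⊓ (W ⊓ V)) (inf_le_right.trans hOW)).1
        (rF L (inf_le_left : U₁ ⊓ (W ⊓ V) ≤ U₁) g₁)
      obtain ⟨c', hc'⟩ := (hasExt_structureModule hX (W ⊓ V) (U₁ ⊓ (W ⊓ V)) hb).2 c
      have hc'' : rX hb.1 (show Γ(X, W ⊓ V) from c') = c := hc'
      refine ⟨W ⊓ V, hOV, ⟨hyW, y.2⟩, (show Γ(X, W ⊓ V) from c') • rF L hOW e, ?_⟩
      rw [rF_smul, rF_rF, hc'', hc]
    choose O hO hyO m hm using hloc
    have hcompat : ∀ (y z : V) (w : X) (hwy : w ∈ O y) (hwz : w ∈ O z),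
        L.presheaf.germ (O y) w hwy (m y) = L.presheaf.germ (O z) w hwz (m z) := by
      intro y z w hwy hwz
      have hb : BigIn (U₁ ⊓ (O y ⊓ O z)) (O y ⊓ O z) := hbig.inf (inf_le_left.trans (hO y))
      have h1 : rF L (inf_le_left : O y ⊓ O z ≤ O y) (m y) -
          rF L (inf_le_right : O y ⊓ O z ≤ O z) (m z) = 0 := by
        apply hinj _ _ hb
        rw [map_sub, rF_rF, rF_rF, sub_eq_zero]
        have e1 : rF L ((inf_le_right : U₁ ⊓ (O y ⊓ O z) ≤ O y ⊓ O z).trans inf_le_left) (m y) =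
            rF L (show U₁ ⊓ (O y ⊓ O z) ≤ U₁ ⊓ O y from
              inf_le_inf_left _ inf_le_left) (rF L (inf_le_right : U₁ ⊓ O y ≤ O y) (m y)) :=
          (rF_rF L _ _ _).symm
        have e2 : rF L ((inf_le_right : U₁ ⊓ (O y ⊓ O z) ≤ O y ⊓ O z).trans inf_le_right) (m z) =
            rF L (show U₁ ⊓ (O y ⊓ O z) ≤ U₁ ⊓ O z from
              inf_le_inf_left _ inf_le_right) (rF L (inf_le_right : U₁ ⊓ O z ≤ O z) (m z)) :=
          (rF_rF L _ _ _).symm
        rw [e1, e2, hm y, hm z, rF_rF, rF_rF]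
      have h2 := sub_eq_zero.mp h1
      rw [← germ_rF L (inf_le_left : O y ⊓ O z ≤ O y) w ⟨hwy, hwz⟩, h2, germ_rF]
    obtain ⟨g, hg⟩ := exists_section_of_germs L V
      (fun y => L.presheaf.germ (O y) y.1 (hyO y) (m y)) (by
        intro y
        refine ⟨O y, hO y, hyO y, m y, fun w hw => ?_⟩
        exact hcompat _ _ w _ hw)
    refine ⟨g, ?_⟩
    refine TopCat.Presheaf.section_ext ⟨L.presheaf, L.isSheaf⟩ U₁ _ _ (fun w hw => ?_)
    have hwV : w ∈ V := hbig.1 hw
    have e1 : L.presheaf.germ U₁ w hw (rF L hbig.1 g) = L.presheaf.germ V w hwV g :=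
      germ_rF L hbig.1 w hw g
    refine e1.trans ?_
    rw [hg ⟨w, hwV⟩]
    have hwO : w ∈ O ⟨w, hwV⟩ := hyO ⟨w, hwV⟩
    rw [← germ_rF L (inf_le_right : U₁ ⊓ O ⟨w, hwV⟩ ≤ O ⟨w, hwV⟩) w ⟨hw, hwO⟩, hm, germ_rF]

theorem isR1_of_isInvertible [IsIntegral X] [IsLocallyNoetherian X] (hX : Pi1.IsNormalScheme X)
    {L : X.Modules} (hL : PicF.IsInvertible L) : IsR1 L := by
  have hg : ∀ x : X, ∃ (W : X.Opens) (_ : x ∈ W) (e : Γ(L, W)), IsGen L W e := by
    intro x
    obtain ⟨W, -, hxW, e, he⟩ := exists_isGen hL x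
    exact ⟨W, hxW, e, he⟩
  exact ⟨hasExt_of_gens hX hg, genInj_of_gens hg, fun x _ => hg x⟩

/-- An invertible module with a rational section whose divisor is principal is trivial. -/
theorem iso_structureModule_of_principal [IsIntegral X] [IsLocallyNoetherian X]
    (hX : Pi1.IsNormalScheme X) (L : X.Modules) (hL : PicF.IsInvertible L)
    (s : Cyc.secFibre L (genericPoint X)) (hs : s ≠ 0) (f : X.functionField) (hf : f ≠ 0)
    (h : ∀ x : X, Order.coheight x = 1 →
      Cyc.secOrdAt L (genericPoint X) x ((genericPoint_spec X).specializes (Set.mem_univ x)) s =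
        Scheme.ord f x) :
    Nonempty (L ≅ Coh.structureModule X) := by
  have he : IsGen (Coh.structureModule X) ⊤ (toM (1 : Γ(X, ⊤))) := isGen_one ⊤
  have ha : IsFreeGen (Coh.structureModule X) (genericPoint X)
      ((Coh.structureModule X).presheaf.germ ⊤ (genericPoint X) trivial (toM (1 : Γ(X, ⊤)))) :=
    stalk_gen he trivial
  set t : Cyc.secFibre (Coh.structureModule X) (genericPoint X) :=
    (1 : X.functionField) • fmk (Coh.structureModule X) (genericPoint X)
      ((Coh.structureModule X).presheaf.germ ⊤ (genericPoint X) trivial (toM (1 : Γ(X, ⊤))))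
    with ht
  have ht0 : t ≠ 0 := by
    intro h0
    have h1 := (ha.fibre_smul_eq_zero_iff _).mp h0
    exact (IsLocalRing.maximalIdeal X.functionField).ne_top_iff_one.mp
      (IsLocalRing.maximalIdeal.isMaximal _).ne_top h1
  rw [iso_iff_div₁ hX L _ (isR1_of_isInvertible hX hL) (isR1_structureModule hX) s hs t ht0]
  refine ⟨f, hf, fun x hx => ?_⟩
  rw [h x hx, ht, secOrdAt_eq_ord_mul_inv hx he trivial (1 : X.functionField) 1 one_ne_zero
    one_ne_zero (one_smul _ _).symm, inv_one, mul_one, ord_one', zero_add]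

end RefHullH8
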