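import Groth.Prelude.Def_FlatCA
import Mathlib

/-!
# Weakly associated primes: basic lemmas (helper4)

`FlatCA.weakAss R M` = primes minimal over the annihilator of an element.
`FlatCA.ass R M` = primes equal to the annihilator of an element.
-/

set_option autoImplicit false
universe u v

namespace Groth.Agent.Lib.WeakAss_helper4

open FlatCA

section Basic

variable {R : Type u} [CommRing R] {M : Type v} [AddCommGroup M] [Module R M]

/-- The annihilator of an element. -/
abbrev ann (R : Type u) [CommRing R] {M : Type v} [AddCommGroup M] [Module R M] (m : M) : Ideal R :=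
  (Submodule.span R {m}).annihilator

theorem mem_ann {m : M} {r : R} : r ∈ ann R m ↔ r • m = 0 :=
  Submodule.mem_annihilator_span_singleton m r

theorem mem_weakAss {p : Ideal R} : p ∈ weakAss R M ↔ ∃ m : M, p ∈ (ann R m).minimalPrimes :=
  Iff.rfl

theorem mem_ass {p : Ideal R} : p ∈ ass R M ↔ p.IsPrime ∧ ∃ m : M, p = ann R m := Iff.rfl

theorem isPrime_of_mem_weakAss {p : Ideal R} (hp : p ∈ weakAss R M) : p.IsPrime := by
  obtain ⟨m, hm⟩ := hp
  exact hm.1.1

theorem ann_ne_top {m : M} (hm : m ≠ 0) : ann R m ≠ ⊤ := by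
  intro h
  apply hm
  have : (1 : R) ∈ ann R m := h ▸ Submodule.mem_top
  simpa using mem_ann.mp this

theorem ann_zero : ann R (0 : M) = ⊤ := by
  rw [eq_top_iff]
  intro r _
  rw [mem_ann, smul_zero]

/-- If `ann m ≤ q` with `q` prime then there is a weakly associated prime `p` with
`ann m ≤ p ≤ q`. -/
theorem exists_mem_weakAss_le {m : M} {q : Ideal R} [q.IsPrime] (h : ann R m ≤ q) :
    ∃ p ∈ weakAss R M, ann R m ≤ p ∧ p ≤ q := by
  obtain ⟨p, hp, hpq⟩ := Ideal.exists_minimalPrimes_le h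
  exact ⟨p, ⟨m, hp⟩, hp.1.2, hpq⟩

theorem exists_mem_weakAss_of_ne_zero {m : M} (hm : m ≠ 0) :
    ∃ p ∈ weakAss R M, ann R m ≤ p := by
  obtain ⟨q, hq, hle⟩ := Ideal.exists_le_maximal _ (ann_ne_top (R := R) hm)
  have := hq.isPrime
  obtain ⟨p, hp, h1, -⟩ := exists_mem_weakAss_le hle
  exact ⟨p, hp, h1⟩

/-- Key local nilpotency: if `p` is minimal over `I` and `t ∈ p` then `s * t ^ n ∈ I` for some
`s ∉ p`. -/
theorem exists_mul_pow_mem {I p : Ideal R} (hp : p ∈ I.minimalPrimes) {t : R} (ht : t ∈ p) :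
    ∃ s ∉ p, ∃ n : ℕ, s * t ^ n ∈ I := by
  have hpp : p.IsPrime := hp.1.1
  have h := IsLocalization.AtPrime.radical_map_of_mem_minimalPrimes
    (A := Localization.AtPrime p) p I hp
  have h1 : algebraMap R (Localization.AtPrime p) t ∈
      (I.map (algebraMap R (Localization.AtPrime p))).radical := by
    rw [h]; exact Ideal.mem_map_of_mem _ ht
  obtain ⟨n, hn⟩ := h1
  rw [IsLocalization.mem_map_algebraMap_iff (M := p.primeCompl)] at hn
  obtain ⟨⟨a, b⟩, hab⟩ := hn
  rw [← map_pow, ← map_mul, IsLocalization.eq_iff_exists p.primeCompl] at hab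
  obtain ⟨c, hc⟩ := hab
  refine ⟨c * b, (c * b).2, n, ?_⟩
  have : (c : R) * b * t ^ n = c * (t ^ n * b) := by ring
  rw [this, hc]
  exact I.mul_mem_left _ a.2

/-- Elements of a weakly associated prime kill a nonzero multiple. -/
theorem exists_smul_eq_zero_of_mem {p : Ideal R} {m : M} (hp : p ∈ (ann R m).minimalPrimes)
    {f : R} (hf : f ∈ p) : ∃ y : R, y • m ≠ 0 ∧ f • (y • m) = 0 := by
  obtain ⟨y, hy, hfy⟩ := Ideal.exists_mul_mem_of_mem_minimalPrimes hp hf
  refine ⟨y, fun h => hy (mem_ann.mpr h), ?_⟩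
  rw [smul_smul]; exact mem_ann.mp hfy

/-- Weakly associated primes of a submodule (injective image) are weakly associated. -/
theorem weakAss_subset_of_injective {M' : Type*} [AddCommGroup M'] [Module R M']
    (f : M' →ₗ[R] M) (hf : Function.Injective f) : weakAss R M' ⊆ weakAss R M := by
  rintro p ⟨m, hm⟩
  refine ⟨f m, ?_⟩
  have : ann R (f m) = ann R m := by
    ext r
    rw [mem_ann, mem_ann, ← map_smul, map_eq_zero_iff f hf]
  show p ∈ (ann R (f m)).minimalPrimes
  rw [this]; exact hm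

theorem ass_subset_of_injective {M' : Type*} [AddCommGroup M'] [Module R M']
    (f : M' →ₗ[R] M) (hf : Function.Injective f) : ass R M' ⊆ ass R M := by
  rintro p ⟨hp, m, hm⟩
  refine ⟨hp, f m, ?_⟩
  have : ann R (f m) = ann R m := by
    ext r
    rw [mem_ann, mem_ann, ← map_smul, map_eq_zero_iff f hf]
  show p = ann R (f m)
  rw [this]; exact hm

/-- If `I ≤ J ≤ p` and `p` is minimal over `I` then `p` is minimal over `J`. -/
theorem mem_minimalPrimes_of_le {I J p : Ideal R} (hp : p ∈ I.minimalPrimes) (hIJ : I ≤ J)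
    (hJp : J ≤ p) : p ∈ J.minimalPrimes :=
  ⟨⟨hp.1.1, hJp⟩, fun _ hq hqp => hp.2 ⟨hq.1, hIJ.trans hq.2⟩ hqp⟩

end Basic

end Groth.Agent.Lib.WeakAss_helper4
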