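import Mathlib
import Groth.Prelude.Def_CurvBase
import Groth.Prelude.Def_FlatCA
import Groth.Agent.Lib.WeakAss_helper4
import Groth.Agent.Lib.QCohLoc_helper4

/-!
# Weakly associated points of quasi-coherent modules on schemes (helper4)

Bridge between `Curv2.IsWeakAssPoint F x` (stalk-wise) and `FlatCA.weakAss Γ(X, U) Γ(F, U)` for an
affine open `U ∋ x` on which `F` is localizing (`LocOn`, e.g. `F` quasi-coherent).
-/

set_option autoImplicit false
universe u

namespace Groth.Agent.Lib.WeakAssSch_helper4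

open AlgebraicGeometry CategoryTheory TopologicalSpace Opposite FlatCA
open Groth.Agent.Lib.WeakAss_helper4 Groth.Agent.Lib.QCohLoc_helper4

section Abstract

variable {A : Type*} [CommRing A] (p : Ideal A) [hp : p.IsPrime] {M : Type*} [AddCommGroup M]
  [Module A M] {B : Type*} [CommRing B] [IsLocalRing B] {N : Type*} [AddCommGroup N] [Module B N]
  (ρ : A →+* B) (γ : M →+ N)

/-- Abstract form of the bridge: `N` over the local ring `B` is the localization of `M` at `p`. -/
theorem weakAss_iff_of_loc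
    (hunit : ∀ a, a ∉ p → IsUnit (ρ a)) (hmem : ∀ a ∈ p, ρ a ∈ IsLocalRing.maximalIdeal B)
    (hB : ∀ b : B, ∃ (s a : A), s ∉ p ∧ ρ s * b = ρ a)
    (hγ : ∀ a m, γ (a • m) = ρ a • γ m)
    (hN : ∀ z : N, ∃ (s : A) (m : M), s ∉ p ∧ ρ s • z = γ m)
    (hker : ∀ m, γ m = 0 → ∃ s, s ∉ p ∧ s • m = 0) :
    (∃ z : N, Ideal.radical (LinearMap.ker (LinearMap.toSpanSingleton B N z)) =
        IsLocalRing.maximalIdeal B) ↔ p ∈ weakAss A M := by
  have hmemker : ∀ (z : N) (b : B),
      b ∈ LinearMap.ker (LinearMap.toSpanSingleton B N z) ↔ b • z = 0 := by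
    intro z b; rw [LinearMap.mem_ker, LinearMap.toSpanSingleton_apply]
  constructor
  · rintro ⟨z, hz⟩
    obtain ⟨s, m, hs, hsm⟩ := hN z
    have hann : ∀ b : B, b • γ m = 0 ↔ b • z = 0 := by
      intro b
      rw [← hsm, smul_comm]
      exact (hunit s hs).smul_eq_zero
    refine ⟨m, ⟨hp, ?_⟩, ?_⟩
    · intro a ha
      by_contra hap
      rw [mem_ann] at ha
      have h1 : ρ a • γ m = 0 := by rw [← hγ, ha, map_zero]
      have h2 : γ m = 0 := (hunit a hap).smul_eq_zero.mp h1
      have h3 : z = 0 := by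
        have := (hann 1).mp (by rw [one_smul]; exact h2)
        rwa [one_smul] at this
      have : (1 : B) ∈ IsLocalRing.maximalIdeal B := by
        rw [← hz]; apply Ideal.le_radical; rw [hmemker, h3, smul_zero]
      exact (IsLocalRing.maximalIdeal.isMaximal B).ne_top ((Ideal.eq_top_iff_one _).mpr this)
    · rintro q ⟨hq, hqa⟩ hqp
      intro a ha
      have h1 : ρ a ∈ Ideal.radical (LinearMap.ker (LinearMap.toSpanSingleton B N z)) := by
        rw [hz]; exact hmem a ha
      obtain ⟨n, hn⟩ := h1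
      rw [hmemker, ← hann, ← map_pow, ← hγ] at hn
      obtain ⟨t, ht, htm⟩ := hker _ hn
      have h2 : t * a ^ n ∈ q := hqa (by rw [mem_ann, mul_smul]; exact htm)
      rcases hq.mem_or_mem h2 with h3 | h3
      · exact absurd (hqp h3) ht
      · exact hq.mem_of_pow_mem n h3
  · rintro ⟨m, hm⟩
    have hmp : ann A m ≤ p := hm.1.2
    have hne : γ m ≠ 0 := by
      intro h0
      obtain ⟨s, hs, hsm⟩ := hker m h0
      exact hs (hmp (mem_ann.mpr hsm))
    refine ⟨γ m, le_antisymm ?_ ?_⟩
    · apply ((IsLocalRing.maximalIdeal.isMaximal B).isPrime.radical_le_iff).mpr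
      apply IsLocalRing.le_maximalIdeal
      intro htop
      apply hne
      have : (1 : B) ∈ LinearMap.ker (LinearMap.toSpanSingleton B N (γ m)) := by
        rw [htop]; exact Submodule.mem_top
      rw [hmemker, one_smul] at this
      exact this
    · intro b hb
      obtain ⟨s, a, hs, hsb⟩ := hB b
      have ha : a ∈ p := by
        by_contra hap
        have h1 : IsUnit (ρ s * b) := hsb ▸ hunit a hap
        have h2 : IsUnit b := isUnit_of_mul_isUnit_right h1
        exact (IsLocalRing.mem_maximalIdeal b).mp hb h2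
      obtain ⟨t, ht, n, htn⟩ := exists_mul_pow_mem hm ha
      rw [mem_ann, mul_smul] at htn
      have h1 : ρ t • (ρ a ^ n • γ m) = 0 := by
        rw [← map_pow, ← hγ, ← hγ, htn, map_zero]
      have h2 : ρ a ^ n • γ m = 0 := (hunit t ht).smul_eq_zero.mp h1
      rw [← hsb, mul_pow, mul_smul] at h2
      have h3 : b ^ n • γ m = 0 := ((hunit s hs).pow n).smul_eq_zero.mp h2
      exact ⟨n, (hmemker _ _).mpr h3⟩

end Abstract

section Bridge

variable {X : Scheme.{u}} {F : X.Modules} {U : X.Opens} (h : LocOn F U) (hU : IsAffineOpen U)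

include hU in
theorem mem_primeIdealOf_iff {x : X} (hx : x ∈ U) (a : Γ(X, U)) :
    a ∈ (hU.primeIdealOf ⟨x, hx⟩).asIdeal ↔
      (X.presheaf.germ U x hx).hom a ∈ IsLocalRing.maximalIdeal (X.presheaf.stalk x) := by
  rw [hU.primeIdealOf_eq_map_closedPoint]
  rfl

include hU in
theorem notMem_primeIdealOf_iff {x : X} (hx : x ∈ U) (a : Γ(X, U)) :
    a ∉ (hU.primeIdealOf ⟨x, hx⟩).asIdeal ↔ x ∈ X.basicOpen a := by
  rw [mem_primeIdealOf_iff hU hx, Scheme.mem_basicOpen _ _ _ hx, IsLocalRing.mem_maximalIdeal,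
    mem_nonunits_iff, not_not]

include h hU in
/-- The bridge: a point of an affine open `U` is weakly associated to `F` iff the corresponding
prime of `Γ(X, U)` is weakly associated to the module `Γ(F, U)`. -/
theorem isWeakAssPoint_iff {x : X} (hx : x ∈ U) :
    Curv2.IsWeakAssPoint F x ↔
      (hU.primeIdealOf ⟨x, hx⟩).asIdeal ∈ weakAss Γ(X, U) Γ(F, U) := by
  let _ := TopCat.Presheaf.algebra_section_stalk X.presheaf (⟨x, hx⟩ : U)
  have hloc := hU.isLocalization_stalk ⟨x, hx⟩
  refine weakAss_iff_of_loc (hU.primeIdealOf ⟨x, hx⟩).asIdeal (X.presheaf.germ U x hx).hom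
    (F.presheaf.germ U x hx).hom ?_ ?_ ?_ ?_ ?_ ?_
  · intro a ha
    exact (Scheme.mem_basicOpen _ _ _ hx).mp ((notMem_primeIdealOf_iff hU hx a).mp ha)
  · intro a ha
    exact (mem_primeIdealOf_iff hU hx a).mp ha
  · intro b
    obtain ⟨⟨a, s⟩, hs⟩ := IsLocalization.surj (hU.primeIdealOf ⟨x, hx⟩).asIdeal.primeCompl b
    exact ⟨s.1, a, s.2, (mul_comm _ _).trans hs⟩
  · intro a m
    exact germ_smul F U x hx a m
  · intro z
    obtain ⟨g, t, hg, hgt⟩ := h.exists_germ_eq_smul hU hx z
    exact ⟨g, t, (notMem_primeIdealOf_iff hU hx g).mpr hg, hgt.symm⟩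
  · intro m hm
    obtain ⟨g, hg, hgm⟩ := h.exists_smul_eq_zero_of_germ_eq_zero hU hx m hm
    exact ⟨g, (notMem_primeIdealOf_iff hU hx g).mpr hg, hgm⟩

end Bridge

section Points

variable {X : Scheme.{u}} {U : X.Opens} (hU : IsAffineOpen U)

include hU

/-- Every prime of `Γ(X, U)` is the prime of a point of `U`. -/
theorem exists_point_of_prime (q : PrimeSpectrum Γ(X, U)) :
    ∃ (y : X) (hy : y ∈ U), hU.primeIdealOf ⟨y, hy⟩ = q := by
  have hy : hU.fromSpec q ∈ U := by
    have : hU.fromSpec q ∈ Set.range hU.fromSpec := ⟨q, rfl⟩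
    rw [hU.range_fromSpec] at this
    exact this
  refine ⟨hU.fromSpec q, hy, ?_⟩
  apply hU.fromSpec.isOpenEmbedding.injective
  exact hU.fromSpec_primeIdealOf ⟨_, hy⟩

theorem primeIdealOf_injective {x y : X} (hx : x ∈ U) (hy : y ∈ U)
    (h : hU.primeIdealOf ⟨x, hx⟩ = hU.primeIdealOf ⟨y, hy⟩) : x = y := by
  have h1 := hU.fromSpec_primeIdealOf ⟨x, hx⟩
  have h2 := hU.fromSpec_primeIdealOf ⟨y, hy⟩
  rw [h] at h1
  exact h1.symm.trans h2

theorem specializes_iff_primeIdealOf_le {x y : X} (hx : x ∈ U) (hy : y ∈ U) :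
    y ⤳ x ↔ (hU.primeIdealOf ⟨y, hy⟩).asIdeal ≤ (hU.primeIdealOf ⟨x, hx⟩).asIdeal := by
  have h1 := hU.fromSpec_primeIdealOf ⟨x, hx⟩
  have h2 := hU.fromSpec_primeIdealOf ⟨y, hy⟩
  have h3 := hU.fromSpec.isOpenEmbedding.toIsInducing.specializes_iff
    (x := hU.primeIdealOf ⟨y, hy⟩) (y := hU.primeIdealOf ⟨x, hx⟩)
  rw [h1, h2] at h3
  rw [h3]
  exact (PrimeSpectrum.le_iff_specializes _ _).symm

end Points

section Sections

variable {X : Scheme.{u}} (F : X.Modules)

/-- A section vanishing on all affine opens vanishes. -/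
theorem eq_zero_of_forall_affine {V : X.Opens} (s : Γ(F, V))
    (h : ∀ (U : X.Opens) (hUV : U ≤ V), IsAffineOpen U → F.presheaf.map (homOfLE hUV).op s = 0) :
    s = 0 := by
  refine TopCat.Sheaf.eq_of_locally_eq' ⟨F.presheaf, F.isSheaf⟩
    (fun i : {U : X.affineOpens // U.1 ≤ V} => i.1.1) V (fun i => homOfLE i.2) ?_ s 0 ?_
  · intro x hx
    obtain ⟨W, hW, hxW, hWV⟩ := (Opens.isBasis_iff_nbhd.mp X.isBasis_affineOpens) hx
    exact Opens.mem_iSup.mpr ⟨⟨⟨W, hW⟩, hWV⟩, hxW⟩
  · intro i
    rw [map_zero]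
    exact h i.1.1 i.2 i.1.2

/-- A morphism of modules injective on sections over affine opens is a monomorphism. -/
theorem mono_of_injective_affine {F G : X.Modules} (φ : F ⟶ G)
    (h : ∀ (U : X.Opens), IsAffineOpen U → Function.Injective (φ.app U)) : Mono φ := by
  have hall : ∀ U : X.Opens, Function.Injective (φ.app U) := by
    intro V
    rw [injective_iff_map_eq_zero]
    intro s hs
    apply eq_zero_of_forall_affine F
    intro U hUV hU
    apply h U hU
    have hnat : φ.app U (F.presheaf.map (homOfLE hUV).op s) =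
        G.presheaf.map (homOfLE hUV).op (φ.app V s) :=
      NatTrans.naturality_apply φ.mapPresheaf (homOfLE hUV).op s
    rw [map_zero, hnat, hs, map_zero]
  have : Mono φ.mapPresheaf := by
    apply (config := { allowSynthFailures := true }) NatTrans.mono_of_mono_app
    intro U
    exact (AddCommGrpCat.mono_iff_injective _).mpr (hall U.unop)
  exact (Scheme.Modules.toPresheaf X).mono_of_mono_map this

/-- A module all of whose sections over affine opens vanish is zero. -/
theorem isZero_of_forall_affine (h : ∀ (U : X.Opens), IsAffineOpen U → ∀ s : Γ(F, U), s = 0) :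
    Limits.IsZero F := by
  rw [Limits.IsZero.iff_id_eq_zero]
  apply Scheme.Modules.hom_ext
  intro V
  ext s
  apply eq_zero_of_forall_affine F
  intro U hUV hU
  exact h U hU _

theorem eq_zero_of_isZero (hF : Limits.IsZero F) {U : X.Opens} (s : Γ(F, U)) : s = 0 := by
  have h1 : (𝟙 F : F ⟶ F) = 0 := hF.eq_of_src _ _
  have h2 := congrArg (fun k : F ⟶ F => (k.app U) s) h1
  simpa using h2

theorem stalk_eq_zero_of_isZero (hF : Limits.IsZero F) (x : X) (z : F.presheaf.stalk x) :
    z = 0 := by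
  obtain ⟨V, hxV, s, rfl⟩ := TopCat.Presheaf.exists_germ_eq F.presheaf z
  rw [eq_zero_of_isZero F hF s, map_zero]

end Sections

end Groth.Agent.Lib.WeakAssSch_helper4
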