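import Mathlib
import Groth.Agent.Lib.WeakAssSch_helper4

/-!
# Weakly associated points, part 2 (helper4): exact sequences, pushforward
-/

set_option autoImplicit false
universe u

namespace Groth.Agent.Lib.WeakAssSch2_helper4

open AlgebraicGeometry CategoryTheory TopologicalSpace Opposite FlatCA
open Groth.Agent.Lib.WeakAss_helper4 Groth.Agent.Lib.QCohLoc_helper4
open Groth.Agent.Lib.WeakAssSch_helper4

section Algebra

variable {R : Type*} [CommRing R] {M' M M'' : Type*} [AddCommGroup M'] [Module R M']
  [AddCommGroup M] [Module R M] [AddCommGroup M''] [Module R M'']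

theorem weakAss_subset_union_of_exact (f : M' →ₗ[R] M) (g : M →ₗ[R] M'')
    (hf : Function.Injective f) (hfg : Function.Exact f g) :
    weakAss R M ⊆ weakAss R M' ∪ weakAss R M'' := by
  rintro p ⟨m, hm⟩
  have hpp : p.IsPrime := hm.1.1
  by_cases hle : ann R (g m) ≤ p
  · right
    refine ⟨g m, mem_minimalPrimes_of_le hm ?_ hle⟩
    intro r hr
    rw [mem_ann] at hr ⊢
    rw [← map_smul, hr, map_zero]
  · left
    obtain ⟨y, hy, hyp⟩ := SetLike.not_le_iff_exists.mp hle
    rw [mem_ann, ← map_smul] at hy
    obtain ⟨m', hm'⟩ := (hfg (y • m)).mp hy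
    refine ⟨m', ?_⟩
    have heq : ann R m' = ann R (y • m) := by
      ext r
      rw [mem_ann, mem_ann, ← hm', ← map_smul, map_eq_zero_iff f hf]
    show p ∈ (ann R m').minimalPrimes
    rw [heq]
    refine mem_minimalPrimes_of_le hm ?_ ?_
    · intro r hr
      rw [mem_ann] at hr ⊢
      rw [smul_comm, hr, smul_zero]
    · intro x hx
      rw [mem_ann, smul_smul] at hx
      have : x * y ∈ p := hm.1.2 (mem_ann.mpr hx)
      exact (hpp.mem_or_mem this).resolve_right hyp

/-- Weakly associated primes under restriction of scalars: every weakly associated prime of the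
restricted module is the contraction of a weakly associated prime. -/
theorem exists_weakAss_comap {A B : Type*} [CommRing A] [CommRing B] (φ : A →+* B)
    {N : Type*} [AddCommGroup N] [Module A N] {N' : Type*} [AddCommGroup N'] [Module B N']
    (γ : N →+ N') (hγ : ∀ a n, γ (a • n) = φ a • γ n) (hinj : Function.Injective γ)
    {p : Ideal A} (hp : p ∈ weakAss A N) : ∃ q ∈ weakAss B N', q.comap φ = p := by
  obtain ⟨n, hn⟩ := hp
  have hcomap : (ann B (γ n)).comap φ = ann A n := by
    ext a
    rw [Ideal.mem_comap, mem_ann, mem_ann, ← hγ]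
    exact ⟨fun h => hinj (h.trans (map_zero γ).symm), fun h => by rw [h, map_zero]⟩
  have hn' : p ∈ ((ann B (γ n)).comap φ).minimalPrimes := by rw [hcomap]; exact hn
  obtain ⟨p', hp'prime, hle, hp'⟩ := Ideal.exists_comap_eq_of_mem_minimalPrimes φ p hn'
  obtain ⟨q, hq, hqp'⟩ := Ideal.exists_minimalPrimes_le hle
  have hqprime : q.IsPrime := hq.1.1
  refine ⟨q, ⟨γ n, hq⟩, ?_⟩
  refine le_antisymm ?_ ?_
  · rw [← hp']; exact Ideal.comap_mono hqp'
  · have h1 : ann A n ≤ q.comap φ := by rw [← hcomap]; exact Ideal.comap_mono hq.1.2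
    exact hn.2 ⟨Ideal.comap_isPrime φ q, h1⟩ (by rw [← hp']; exact Ideal.comap_mono hqp')

end Algebra

section Sections

variable {X : Scheme.{u}}

/-- The map on sections of a morphism of modules, as a linear map. -/
noncomputable def appLin {F G : X.Modules} (φ : F ⟶ G) (U : X.Opens) : Γ(F, U) →ₗ[Γ(X, U)] Γ(G, U) where
  toFun := φ.app U
  map_add' := map_add _
  map_smul' := fun r x => Scheme.Modules.Hom.app_smul φ r x

@[simp] theorem appLin_apply {F G : X.Modules} (φ : F ⟶ G) (U : X.Opens) (s : Γ(F, U)) :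
    appLin φ U s = φ.app U s := rfl

/-- The sections-over-`U` functor. -/
noncomputable abbrev secFunctor (X : Scheme.{u}) (U : X.Opens) : X.Modules ⥤ Ab :=
  Scheme.Modules.toPresheaf X ⋙ (evaluation _ _).obj (op U)

instance (U : X.Opens) : (secFunctor X U).PreservesZeroMorphisms := ⟨fun _ _ => rfl⟩

instance (U : X.Opens) : Limits.PreservesFiniteLimits (secFunctor X U) := by
  haveI : Limits.PreservesFiniteLimits (Scheme.Modules.toPresheaf X) := inferInstance
  haveI : Limits.PreservesFiniteLimits ((evaluation (X.Opensᵒᵖ) Ab.{u}).obj (op U)) :=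
    inferInstance
  exact Limits.comp_preservesFiniteLimits _ _

theorem sections_exact {S : ShortComplex X.Modules} (hS : S.ShortExact) (U : X.Opens) :
    Function.Injective (S.f.app U) ∧ Function.Exact (S.f.app U) (S.g.app U) := by
  have := hS.mono_f
  have hex : (S.map (secFunctor X U)).Exact :=
    hS.exact.map_of_mono_of_preservesKernel (secFunctor X U) hS.mono_f inferInstance
  have hmono : Mono ((secFunctor X U).map S.f) := inferInstance
  exact ⟨(AddCommGrpCat.mono_iff_injective _).mp hmono,
    (ShortComplex.ab_exact_iff_function_exact _).mp hex⟩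

end Sections

section Pushforward

variable {X S : Scheme.{u}} (f : X ⟶ S) (F : X.Modules)

theorem smul_pushforward (V : S.Opens) (r : Γ(S, V))
    (s : Γ((Scheme.Modules.pushforward f).obj F, V)) :
    r • s = (show Γ((Scheme.Modules.pushforward f).obj F, V) from
      ((f.app V).hom r • (show Γ(F, f ⁻¹ᵁ V) from s))) := rfl

variable {f F}

theorem locOn_pushforward {V : S.Opens} (h : LocOn F (f ⁻¹ᵁ V)) :
    LocOn ((Scheme.Modules.pushforward f).obj F) V := by
  constructor
  · intro g s
    have e : f ⁻¹ᵁ S.basicOpen g = X.basicOpen ((f.app V).hom g) := Scheme.preimage_basicOpen f g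
    obtain ⟨n, t, ht⟩ := h.ex ((f.app V).hom g) (F.presheaf.map (eqToHom e.symm).op s)
    refine ⟨n, t, ?_⟩
    have hinj : Function.Injective (F.presheaf.map (eqToHom e.symm).op) :=
      (ConcreteCategory.bijective_of_isIso _).1
    apply hinj
    refine (map_map_eq F _ _ _ t).trans (ht.trans ?_)
    have hnat : (f.app (S.basicOpen g)).hom
        ((S.presheaf.map (homOfLE (S.basicOpen_le g)).op).hom g) =
        (X.presheaf.map ((Opens.map f.base).map (homOfLE (S.basicOpen_le g))).op).hom
          ((f.app V).hom g) :=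
      congrArg (fun k => k.hom g) (f.naturality (homOfLE (S.basicOpen_le g)).op)
    have hpow : (X.presheaf.map (homOfLE (X.basicOpen_le ((f.app V).hom g))).op).hom
          ((f.app V).hom g) ^ n =
        (X.presheaf.map (eqToHom e.symm).op).hom ((f.app (S.basicOpen g)).hom
          ((S.presheaf.map (homOfLE (S.basicOpen_le g)).op).hom g ^ n)) := by
      rw [map_pow, map_pow, hnat,
        ring_map_map_eq _ _ (homOfLE (X.basicOpen_le ((f.app V).hom g))).op]
    exact (congrArg (· • F.presheaf.map (eqToHom e.symm).op s) hpow).trans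
      (Scheme.Modules.map_smul F _ _ _).symm
  · intro g t ht
    have e : f ⁻¹ᵁ S.basicOpen g = X.basicOpen ((f.app V).hom g) := Scheme.preimage_basicOpen f g
    obtain ⟨n, hn⟩ := h.ker ((f.app V).hom g) t (by
      have h1 : F.presheaf.map (eqToHom e.symm).op
          (F.presheaf.map ((Opens.map f.base).map (homOfLE (S.basicOpen_le g))).op t) = 0 := by
        have : F.presheaf.map ((Opens.map f.base).map (homOfLE (S.basicOpen_le g))).op t = 0 := ht
        rw [this, map_zero]
      exact (map_map_eq F _ _ _ t).symm.trans h1)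
    refine ⟨n, ?_⟩
    show (f.app V).hom (g ^ n) • (show Γ(F, f ⁻¹ᵁ V) from t) = 0
    rw [map_pow]
    exact hn

/-- A weakly associated point of the pushforward along an affine morphism is the image of a weakly
associated point. -/
theorem exists_isWeakAssPoint_of_pushforward [IsAffineHom f] [F.IsQuasicoherent] (s : S)
    (hs : Curv2.IsWeakAssPoint ((Scheme.Modules.pushforward f).obj F) s) :
    ∃ x : X, f x = s ∧ Curv2.IsWeakAssPoint F x := by
  obtain ⟨V, hV, hsV, -⟩ := (Opens.isBasis_iff_nbhd.mp S.isBasis_affineOpens)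
    (show s ∈ (⊤ : S.Opens) from trivial)
  have hU : IsAffineOpen (f ⁻¹ᵁ V) := IsAffineHom.isAffine_preimage _ hV
  have hlocF := locOn_of_isQuasicoherent F hU
  have hlocP : LocOn ((Scheme.Modules.pushforward f).obj F) V := locOn_pushforward hlocF
  have h1 := (isWeakAssPoint_iff hlocP hV hsV).mp hs
  obtain ⟨q, hq, hqp⟩ := exists_weakAss_comap (f.app V).hom
    (N := Γ((Scheme.Modules.pushforward f).obj F, V)) (N' := Γ(F, f ⁻¹ᵁ V))
    (AddMonoidHom.id _) (fun _ _ => rfl) (fun _ _ h => h) h1
  haveI : q.IsPrime := isPrime_of_mem_weakAss hq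
  obtain ⟨x, hxU, hxq⟩ := exists_point_of_prime hU ⟨q, inferInstance⟩
  refine ⟨x, ?_, (isWeakAssPoint_iff hlocF hU hxU).mpr (by rw [hxq]; exact hq)⟩
  have h2 := IsAffineOpen.comap_primeIdealOf_appLE (f := f) V hV (f ⁻¹ᵁ V) hU le_rfl hxU
  apply primeIdealOf_injective hV (show f x ∈ V from hxU) hsV
  rw [← h2, hxq]
  apply PrimeSpectrum.ext
  have h3 : f.appLE V (f ⁻¹ᵁ V) le_rfl = f.app V := by rw [Scheme.Hom.app_eq_appLE]
  rw [h3]
  exact hqp

end Pushforward

end Groth.Agent.Lib.WeakAssSch2_helper4
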