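import Mathlib
import Groth.Prelude
import Groth.Agent.Lib.RefHull22_helper8
import Groth.Agent.Lib.WeakAssSch2_helper4
import Groth.Agent.Lib.NormalLift_helper4
import Groth.Agent.Lib.Regular_helper5
import Groth.Agent.Lib.StalkLoc_helper8

set_option autoImplicit false
universe u

open CategoryTheory AlgebraicGeometry TopologicalSpace Opposite
open QcqsLoc GenLocH8 SecOrdH8 FLFH8 QCohExtn RefHullH8

/-! Kernels of maps from reflexive modules to torsion-free modules are normal. -/

namespace RegKerH8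

variable {X : Scheme.{u}}

/-- Sections of a torsion-free quasi-coherent module on an integral scheme are determined by
their germ at the generic point. -/
theorem genInj_of_torsionFree [IsIntegral X] (Q : X.Modules) [Q.IsQuasicoherent]
    (hQ : TorSh.IsTorsionFree Q) : S2.GenInj Q := by
  intro V s hs
  refine TopCat.Presheaf.section_ext ⟨Q.presheaf, Q.isSheaf⟩ V _ _ (fun x hx => ?_)
  rw [map_zero]
  obtain ⟨_, ⟨W, hW : IsAffineOpen W, rfl⟩, hxW, hWV⟩ :=
    (X.isBasis_affineOpens).exists_subset_of_mem_open hx V.isOpen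
  have hWV' : W ≤ V := hWV
  have hxW' : x ∈ W := hxW
  have hηW : genericPoint X ∈ W := NormH8.genericPoint_mem hxW'
  set n := rF Q hWV' s with hn
  have hn0 : Q.presheaf.germ W (genericPoint X) hηW n = 0 := by
    rw [hn, germ_rF]
    exact hs _
  letI := StalkLocH8.modSec Q hηW
  haveI := StalkLocH8.isLocalizedModule_germLin Q hW hηW
  obtain ⟨c, hc⟩ := (IsLocalizedModule.eq_zero_iff
    (hW.primeIdealOf ⟨genericPoint X, hηW⟩).asIdeal.primeCompl (StalkLocH8.germLin Q hηW)).mp hn0
  have h1 : Q.presheaf.germ W x hxW' ((c : Γ(X, W)) • n) = 0 := by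
    have : (c : Γ(X, W)) • n = 0 := hc
    rw [this, map_zero]
  rw [Mero.germ_smul] at h1
  have hc0 : X.presheaf.germ W x hxW' (c : Γ(X, W)) ≠ 0 := by
    intro h0
    have h2 : (c : Γ(X, W)) = 0 :=
      germ_injective_of_isIntegral X x hxW' (h0.trans (map_zero _).symm)
    exact c.2 (h2 ▸ Ideal.zero_mem _)
  haveI := hQ x
  haveI : IsDomain (X.presheaf.stalk x) := inferInstance
  rw [← germ_rF Q hWV' x hxW' s]
  exact (smul_eq_zero.mp h1).resolve_left hc0

theorem isNormalScheme_of_regular (hreg : ∀ x : X, IsRegularLocalRing (X.presheaf.stalk x)) :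
    Pi1.IsNormalScheme X := fun x =>
  haveI := hreg x
  ⟨Groth.Agent.RegularLib.isDomain _,
    Groth.Agent.Lib.NormalLiftH4.isIntegrallyClosed_of_isRegularLocalRing _⟩

theorem bigIn_of_dim {U V : X.Opens} (hVU : V ≤ U)
    (h : ∀ x : X, x ∈ U → x ∉ V → (2 : WithBot ℕ∞) ≤ ringKrullDim (X.presheaf.stalk x)) :
    BigIn V U := by
  refine ⟨hVU, fun y hy hc => ?_⟩
  by_contra hyV
  have h2 := h y hy hyV
  rw [ringKrullDim_stalk_eq_coheight] at h2
  have h3 : ((2 : ℕ∞) : WithBot ℕ∞) ≤ ((Order.coheight y : ℕ∞) : WithBot ℕ∞) := h2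
  have h4 : (2 : ℕ∞) ≤ Order.coheight y := WithBot.coe_le_coe.mp h3
  have h5 : (2 : ℕ∞) ≤ 1 := h4.trans hc
  exact absurd h5 (by decide)

/-- The kernel of an epimorphism from a module with the extension property onto a module whose
sections are determined generically has the extension property. -/
theorem hasExt_kernel [IsIntegral X] (S : ShortComplex X.Modules) (hS : S.ShortExact)
    (hE : HasExt S.X₂) (hQ : S2.GenInj S.X₃) : HasExt S.X₁ := by
  intro V U₁ hbig
  have hηmem : ∀ y ∈ V, genericPoint X ∈ U₁ := fun y hy =>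
    hbig.2 _ (NormH8.genericPoint_mem hy) coheight_genericPoint_le
  obtain ⟨hinjV, hexV⟩ := Groth.Agent.Lib.WeakAssSch2_helper4.sections_exact hS V
  obtain ⟨hinjU, hexU⟩ := Groth.Agent.Lib.WeakAssSch2_helper4.sections_exact hS U₁
  have hnatf : ∀ t : Γ(S.X₁, V), S.f.app U₁ (rF S.X₁ hbig.1 t) = rF S.X₂ hbig.1 (S.f.app V t) :=
    fun t => ap_rF S.f hbig.1 t
  have hnatg : ∀ t : Γ(S.X₂, V), S.g.app U₁ (rF S.X₂ hbig.1 t) = rF S.X₃ hbig.1 (S.g.app V t) :=
    fun t => ap_rF S.g hbig.1 t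
  constructor
  · intro a b hab
    apply hinjV
    apply (hE V U₁ hbig).1
    rw [← hnatf, ← hnatf, hab]
  · intro t
    obtain ⟨e, he⟩ := (hE V U₁ hbig).2 (S.f.app U₁ t)
    have hq : S.g.app V e = 0 := by
      apply hQ
      intro hη
      have hηU : genericPoint X ∈ U₁ := hηmem _ hη
      rw [← germ_rF S.X₃ hbig.1 _ hηU, ← hnatg, he]
      have : S.g.app U₁ (S.f.app U₁ t) = 0 := (hexU _).mpr ⟨t, rfl⟩
      rw [this, map_zero]
    obtain ⟨t', ht'⟩ := (hexV e).mp hq
    refine ⟨t', ?_⟩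
    apply hinjU
    rw [hnatf, ht', he]

end RegKerH8
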