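import Mathlib
import Groth.Prelude
import Groth.Agent.Lib.RefHull22_helper8
import Groth.Agent.Lib.RegKer1_helper8
import Groth.Agent.Lib.FLF2_helper8
import Groth.Agent.Lib.TFFree_helper8

set_option autoImplicit false
universe u

open CategoryTheory AlgebraicGeometry TopologicalSpace Opposite
open QcqsLoc GenLocH8 SecOrdH8 FLFH8 QCohExtn RefHullH8

/-! Local bases of modules, of their sheaf Homs and of their reflexive hulls. -/

namespace RefBasisH8

variable {X : Scheme.{u}}

/-- The germs of the sections `e i` form a basis of every stalk over `W`. -/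
def IsBasisOn (F : X.Modules) (W : X.Opens) {r : ℕ} (e : Fin r → Γ(F, W)) : Prop :=
  ∀ (y : X) (hy : y ∈ W),
    LinearIndependent (X.presheaf.stalk y)
      (fun i => (F.presheaf.germ W y hy (e i) : F.presheaf.stalk y)) ∧
    ⊤ ≤ Submodule.span (X.presheaf.stalk y)
      (Set.range fun i => (F.presheaf.germ W y hy (e i) : F.presheaf.stalk y))

variable {F : X.Modules} {W : X.Opens} {r : ℕ} {e : Fin r → Γ(F, W)}

/-- The basis of the stalk. -/
noncomputable def IsBasisOn.basis (h : IsBasisOn F W e) {y : X} (hy : y ∈ W) :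
    Module.Basis (Fin r) (X.presheaf.stalk y) (F.presheaf.stalk y) :=
  Module.Basis.mk (h y hy).1 (h y hy).2

theorem IsBasisOn.basis_apply (h : IsBasisOn F W e) {y : X} (hy : y ∈ W) (i : Fin r) :
    h.basis hy i = F.presheaf.germ W y hy (e i) :=
  Module.Basis.mk_apply _ _ i

/-- Sections are locally combinations of the basis sections. -/
theorem IsBasisOn.exists_local_coef (h : IsBasisOn F W e) {V : X.Opens} (hV : V ≤ W)
    (m : Γ(F, V)) (z : X) (hz : z ∈ V) :
    ∃ (N : X.Opens) (hN : N ≤ V) (_ : z ∈ N) (c : Fin r → Γ(X, N)),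
      rF F hN m = ∑ i, c i • rF F (hN.trans hV) (e i) := by
  set a := (h.basis (hV hz)).repr (F.presheaf.germ V z hz m) with ha
  have h1 : ∀ i, ∃ (Wi : X.Opens) (hzi : z ∈ Wi) (ri : Γ(X, Wi)),
      X.presheaf.germ Wi z hzi ri = a i := fun i => by
    obtain ⟨Wi, hzi, ri, hri⟩ := TopCat.Presheaf.exists_germ_eq X.presheaf (a i)
    exact ⟨Wi, hzi, ri, hri⟩
  choose Wi hzi ri hri using h1
  set N₀ : X.Opens := V ⊓ ⨅ i, Wi i with hN₀
  have hzN₀ : z ∈ N₀ := ⟨hz, (mem_iInf_opens Wi z).mpr hzi⟩
  have hN₀V : N₀ ≤ V := inf_le_left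
  have hN₀W : ∀ i, N₀ ≤ Wi i := fun i => inf_le_right.trans (iInf_le _ i)
  have e1 : F.presheaf.germ N₀ z hzN₀ (rF F hN₀V m) =
      F.presheaf.germ N₀ z hzN₀ (∑ i, rX (hN₀W i) (ri i) • rF F (hN₀V.trans hV) (e i)) := by
    rw [germ_rF, map_sum]
    have e2 : ∀ i, F.presheaf.germ N₀ z hzN₀ (rX (hN₀W i) (ri i) • rF F (hN₀V.trans hV) (e i)) =
        a i • h.basis (hV hz) i := fun i => by
      rw [Mero.germ_smul, germ_rX, germ_rF, hri, h.basis_apply]
    rw [Finset.sum_congr rfl (fun i _ => e2 i)]
    exact ((h.basis (hV hz)).sum_repr _).symm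
  obtain ⟨N, hN, hzN, e3⟩ := (germ_eq_iff F z hzN₀ _ _).mp e1
  refine ⟨N, hN.trans hN₀V, hzN, fun i => rX hN (rX (hN₀W i) (ri i)), ?_⟩
  rw [rF_rF] at e3
  rw [e3, map_sum]
  refine Finset.sum_congr rfl (fun i _ => ?_)
  rw [rF_smul, rF_rF]


theorem IsBasisOn.coord_germ (h : IsBasisOn F W e) {V : X.Opens} (hV : V ≤ W) (m : Γ(F, V))
    {N' : X.Opens} (hN' : N' ≤ V) (c : Fin r → Γ(X, N'))
    (hc : rF F hN' m = ∑ k, c k • rF F (hN'.trans hV) (e k)) (y : X) (hy : y ∈ N') (i : Fin r) :
    (h.basis (hV (hN' hy))).coord i (F.presheaf.germ V y (hN' hy) m) =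
      X.presheaf.germ N' y hy (c i) := by
  rw [← germ_rF F hN' y hy m, hc, map_sum, map_sum]
  have e2 : ∀ k, (h.basis (hV (hN' hy))).coord i
      (F.presheaf.germ N' y hy (c k • rF F (hN'.trans hV) (e k))) =
      if i = k then X.presheaf.germ N' y hy (c k) else 0 := fun k => by
    rw [Mero.germ_smul, germ_rF, ← h.basis_apply, map_smul, Module.Basis.coord_apply,
      Module.Basis.repr_self, Finsupp.single_apply, smul_eq_mul]
    split_ifs with h1 h2 h2
    · rw [mul_one]
    · exact absurd h1.symm h2
    · exact absurd h2.symm h1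
    · rw [mul_zero]
  rw [Finset.sum_congr rfl (fun k _ => e2 k), Finset.sum_ite_eq, if_pos (Finset.mem_univ i)]

/-- The section of the sheaf Hom sending `e i` to `n₀` and the other basis sections to zero. -/
noncomputable def homBasis {N : X.Modules} (h : IsBasisOn F W e) (n₀ : Γ(N, W)) (i : Fin r) :
    Γ(RefHull.homSh F N, W) :=
  ⟨fun y => (LinearMap.toSpanSingleton (X.presheaf.stalk y.1) _
      (N.presheaf.germ W y.1 y.2 n₀)).comp ((h.basis y.2).coord i), fun V j m x => by
    obtain ⟨N', hN', hxN', c, hc⟩ := h.exists_local_coef j.le m x.1 x.2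
    refine ⟨N', hxN', homOfLE hN', c i • rF N (hN'.trans j.le) n₀, fun y => ?_⟩
    change (LinearMap.toSpanSingleton (X.presheaf.stalk y.1) _
      (N.presheaf.germ W y.1 (j.le (hN' y.2)) n₀))
        ((h.basis (j.le (hN' y.2))).coord i (F.presheaf.germ V y.1 (hN' y.2) m)) = _
    rw [h.coord_germ j.le m hN' c hc y.1 y.2 i, Mero.germ_smul, germ_rF]
    rfl⟩

theorem homBasis_apply {N : X.Modules} (h : IsBasisOn F W e) (n₀ : Γ(N, W)) (i k : Fin r)
    (y : W) :
    (homBasis h n₀ i).1 y (F.presheaf.germ W y.1 y.2 (e k)) =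
      if i = k then N.presheaf.germ W y.1 y.2 n₀ else 0 := by
  change (LinearMap.toSpanSingleton (X.presheaf.stalk y.1) _ (N.presheaf.germ W y.1 y.2 n₀))
    ((h.basis y.2).coord i (F.presheaf.germ W y.1 y.2 (e k))) = _
  rw [← h.basis_apply, Module.Basis.coord_apply, Module.Basis.repr_self, Finsupp.single_apply]
  split_ifs with h1 h2 h2
  · exact one_smul _ _
  · exact absurd h1.symm h2
  · exact absurd h2.symm h1
  · exact zero_smul _ _


theorem homSh_sum_apply {A B : X.Modules} {U : X.Opens} {ι : Type*} (s : Finset ι)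
    (l : ι → Γ(RefHull.homSh A B, U)) (y : U) :
    (∑ i ∈ s, l i).1 y = ∑ i ∈ s, (l i).1 y := by
  classical
  induction s using Finset.induction_on with
  | empty => simp only [Finset.sum_empty]; rfl
  | insert a s ha ih =>
    rw [Finset.sum_insert ha, Finset.sum_insert ha, homSh_add_apply, ih]

/-- The value of a section of the sheaf Hom on a section. -/
theorem exists_apSec {A B : X.Modules} {O : X.Opens} (l : Γ(RefHull.homSh A B, O))
    (s : Γ(A, O)) :
    ∃ n : Γ(B, O), ∀ y : O, B.presheaf.germ O y.1 y.2 n = l.1 y (A.presheaf.germ O y.1 y.2 s) := by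
  refine exists_section_of_germs B O (fun y => l.1 y (A.presheaf.germ O y.1 y.2 s)) ?_
  intro x
  obtain ⟨W', hxW', j, n, hn'⟩ := RefHull.isLocSect_of_mem l O (𝟙 O) s x
  exact ⟨W', j.le, hxW', n, fun y hy => hn' ⟨y, hy⟩⟩

/-- The sheaf Hom from a module with a local basis to a module with a local generator has a
local basis. -/
theorem isBasisOn_homBasis {N : X.Modules} (h : IsBasisOn F W e) {n₀ : Γ(N, W)}
    (hn : IsGen N W n₀) : IsBasisOn (RefHull.homSh F N) W (homBasis h n₀) := by
  intro y hy
  have hfn : ∀ (z : X) (hz : z ∈ W), IsFreeGen N z (N.presheaf.germ W z hz n₀) :=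
    fun z hz => stalk_gen hn hz
  constructor
  · rw [Fintype.linearIndependent_iff]
    intro g hg k
    have h1 := congrArg (RefHull.evalStalk F N y) hg
    rw [map_sum, map_zero] at h1
    have h2 := LinearMap.congr_fun h1 (F.presheaf.germ W y hy (e k))
    rw [LinearMap.sum_apply, LinearMap.zero_apply] at h2
    have h3 : ∀ i, (RefHull.evalStalk F N y
        (g i • (RefHull.homSh F N).presheaf.germ W y hy (homBasis h n₀ i)))
          (F.presheaf.germ W y hy (e k)) =
        if i = k then g i • N.presheaf.germ W y hy n₀ else 0 := fun i => by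
      rw [map_smul, RefHull.evalStalk_germ, LinearMap.smul_apply]
      have := homBasis_apply h n₀ i k ⟨y, hy⟩
      rw [this]
      split_ifs
      · rfl
      · exact smul_zero _
    rw [Finset.sum_congr rfl (fun i _ => h3 i), Finset.sum_ite_eq' , if_pos (Finset.mem_univ k)] at h2
    exact (hfn y hy).2 _ h2
  · intro θ _
    obtain ⟨O₀, hyO₀, l₀, rfl⟩ := TopCat.Presheaf.exists_germ_eq (RefHull.homSh F N).presheaf θ
    set O : X.Opens := O₀ ⊓ W with hO
    have hyO : y ∈ O := ⟨hyO₀, hy⟩
    have hOW : O ≤ W := inf_le_right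
    have hOO₀ : O ≤ O₀ := inf_le_left
    set l := rF (RefHull.homSh F N) hOO₀ l₀ with hl
    have hgl : (RefHull.homSh F N).presheaf.germ O₀ y hyO₀ l₀ =
        (RefHull.homSh F N).presheaf.germ O y hyO l := (germ_rF _ hOO₀ y hyO l₀).symm
    rw [hgl]
    have h1 : ∀ i, ∃ c : Γ(X, O), ∀ z : O,
        l.1 z (F.presheaf.germ W z.1 (hOW z.2) (e i)) =
          X.presheaf.germ O z.1 z.2 c • N.presheaf.germ W z.1 (hOW z.2) n₀ := fun i => by
      obtain ⟨n, hn'⟩ := exists_apSec l (rF F hOW (e i))
      obtain ⟨c, hc⟩ := (hn O hOW).1 n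
      refine ⟨c, fun z => ?_⟩
      have h2 := hn' z
      rw [germ_rF] at h2
      rw [← h2, hc, Mero.germ_smul, germ_rF]
    choose c hc using h1
    have h2 : l = ∑ i, c i • rF (RefHull.homSh F N) hOW (homBasis h n₀ i) := by
      apply homSh_ext
      intro z
      apply (h.basis (hOW z.2)).ext
      intro k
      rw [h.basis_apply, hc k z, homSh_sum_apply, LinearMap.sum_apply]
      have h3 : ∀ i, ((c i • rF (RefHull.homSh F N) hOW (homBasis h n₀ i)).1 z)
          (F.presheaf.germ W z.1 (hOW z.2) (e k)) =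
          if i = k then X.presheaf.germ O z.1 z.2 (c i) • N.presheaf.germ W z.1 (hOW z.2) n₀
            else 0 := fun i => by
        rw [homSh_smul_apply, LinearMap.smul_apply]
        have e1 : (rF (RefHull.homSh F N) hOW (homBasis h n₀ i)).1 z =
            (homBasis h n₀ i).1 ⟨z.1, hOW z.2⟩ := rfl
        rw [e1, homBasis_apply h n₀ i k ⟨z.1, hOW z.2⟩]
        split_ifs
        · rfl
        · exact smul_zero _
      rw [Finset.sum_congr rfl (fun i _ => h3 i), Finset.sum_ite_eq', if_pos (Finset.mem_univ k)]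
    rw [h2, map_sum]
    refine Submodule.sum_mem _ (fun i _ => ?_)
    rw [Mero.germ_smul, germ_rF]
    exact Submodule.smul_mem _ _ (Submodule.subset_span ⟨i, rfl⟩)


/-- The dual basis. -/
noncomputable def dualBasis (h : IsBasisOn F W e) (i : Fin r) : Γ(RefHull.dual F, W) :=
  homBasis h (toM (1 : Γ(X, W))) i

theorem isBasisOn_dualBasis (h : IsBasisOn F W e) :
    IsBasisOn (RefHull.dual F) W (dualBasis h) :=
  isBasisOn_homBasis h (TensH8.isGen_one W)

theorem bidualMap_app_eq (h : IsBasisOn F W e) (i : Fin r) :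
    (RefHull.bidualMap F).app W (e i) = dualBasis (isBasisOn_dualBasis h) i := by
  apply homSh_ext
  intro y
  rw [RefHull.bidualMap_app_apply]
  apply ((isBasisOn_dualBasis h).basis y.2).ext
  intro k
  rw [IsBasisOn.basis_apply, RefHull.bidualAt_apply, RefHull.evalStalk_germ]
  have e1 := homBasis_apply h (toM (1 : Γ(X, W))) k i y
  have e2 := homBasis_apply (isBasisOn_dualBasis h) (toM (1 : Γ(X, W))) i k y
  refine e1.trans (Eq.trans ?_ e2.symm)
  by_cases hik : i = k
  · rw [if_pos hik, if_pos hik.symm]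
  · rw [if_neg hik, if_neg (fun h' => hik h'.symm)]

/-- The biduality map carries a local basis to a local basis of the reflexive hull. -/
theorem isBasisOn_bidual (h : IsBasisOn F W e) :
    IsBasisOn (RefHull.ddual F) W (fun i => (RefHull.bidualMap F).app W (e i)) := by
  have e1 : (fun i => (RefHull.bidualMap F).app W (e i)) =
      dualBasis (isBasisOn_dualBasis h) := funext (bidualMap_app_eq h)
  rw [e1]
  exact isBasisOn_dualBasis (isBasisOn_dualBasis h)

/-- The biduality map is bijective on the stalks at the points around which there is a local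
basis. -/
theorem stalkMap_bidual_bijective (h : IsBasisOn F W e) {y : X} (hy : y ∈ W) :
    Function.Bijective (RefHull.stalkMapₗ (RefHull.bidualMap F) y) := by
  set b := h.basis hy with hb
  set b' := (isBasisOn_bidual h).basis hy with hb'
  set j := RefHull.stalkMapₗ (RefHull.bidualMap F) y with hj'
  have hj : ∀ i, j (b i) = b' i := fun i => by
    rw [hb, hb', h.basis_apply, IsBasisOn.basis_apply]
    exact (germ_app (RefHull.bidualMap F) y hy (e i)).symm
  set g := b'.constr ℕ (fun i => b i) with hg
  have h1 : g.comp j = LinearMap.id := b.ext (fun i => by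
    rw [LinearMap.comp_apply, hj, hg, Module.Basis.constr_basis, LinearMap.id_apply])
  have h2 : j.comp g = LinearMap.id := b'.ext (fun i => by
    rw [LinearMap.comp_apply, hg, Module.Basis.constr_basis, hj, LinearMap.id_apply])
  exact Function.bijective_iff_has_inverse.mpr
    ⟨g, fun m => LinearMap.congr_fun h1 m, fun m => LinearMap.congr_fun h2 m⟩


/-- Naturality of the specialization maps of stalks. -/
theorem stalkSpecializes_stalkMap {A B : X.Modules} (φ : A ⟶ B) {x ξ : X} (h : ξ ⤳ x)
    (g : A.presheaf.stalk x) :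
    B.presheaf.stalkSpecializes h (RefHull.stalkMapₗ φ x g) =
      RefHull.stalkMapₗ φ ξ (A.presheaf.stalkSpecializes h g) := by
  obtain ⟨O, hxO, s, rfl⟩ := TopCat.Presheaf.exists_germ_eq A.presheaf g
  rw [← germ_app φ x hxO s, stalkSpecializes_germ, stalkSpecializes_germ, germ_app]

/-- A module with the extension property whose sections are determined generically is reflexive
as soon as the biduality map is bijective on the generic stalk and surjective on the stalks at the
points of codimension one. -/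
theorem isReflexive_of_stalks [IsIntegral X] [IsLocallyNoetherian X] (hX : Pi1.IsNormalScheme X)
    {F : X.Modules} (hE : HasExt F) (hI : S2.GenInj F)
    (hη : Function.Bijective (RefHull.stalkMapₗ (RefHull.bidualMap F) (genericPoint X)))
    (hx : ∀ x : X, Order.coheight x ≤ 1 →
      Function.Surjective (RefHull.stalkMapₗ (RefHull.bidualMap F) x)) :
    RefHull.IsReflexive F := by
  set H := RefHull.ddual F with hH
  set j := RefHull.bidualMap F with hj
  have hEH : HasExt H := hasExt_ddual hX F
  have hIH : S2.GenInj H := genInj_ddual F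
  set jη := RefHull.stalkMapₗ j (genericPoint X) with hjη
  set eη := LinearEquiv.ofBijective jη hη with heη
  set θ' : H.presheaf.stalk (genericPoint X) →ₗ[X.presheaf.stalk (genericPoint X)]
    F.presheaf.stalk (genericPoint X) := eη.symm.toLinearMap with hθ'def
  have hθ' : ∀ (x : X), Order.coheight x ≤ 1 → ∀ m : H.presheaf.stalk x,
      ∃ g : F.presheaf.stalk x,
        F.presheaf.stalkSpecializes ((genericPoint_spec X).specializes (Set.mem_univ x)) g =
          θ' (H.presheaf.stalkSpecializes
            ((genericPoint_spec X).specializes (Set.mem_univ x)) m) := by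
    intro x hx' m
    obtain ⟨g, hg⟩ := hx x hx' m
    refine ⟨g, ?_⟩
    rw [← hg, stalkSpecializes_stalkMap]
    exact (eη.symm_apply_apply _).symm
  have hc1 : θ'.comp jη = LinearMap.id := by
    apply LinearMap.ext
    intro a
    exact eη.symm_apply_apply a
  have hc2 : jη.comp θ' = LinearMap.id := by
    apply LinearMap.ext
    intro b
    exact eη.apply_symm_apply b
  set Ψ' : H ⟶ F := S2.genMap hE hI θ' hθ' with hΨ'
  have h1 : j ≫ Ψ' = 𝟙 F := by
    apply Scheme.Modules.hom_ext
    intro V
    apply ConcreteCategory.hom_ext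
    intro m
    show ap Ψ' V (ap j V m) = m
    have e1 : S2.IsImg (LinearMap.id) m (ap Ψ' V (ap j V m)) := by
      intro hη'
      have e2 := S2.isImg_genMap hE hI θ' hθ' V (ap j V m) hη'
      have e3 : F.presheaf.germ V (genericPoint X) hη' (ap Ψ' V (ap j V m)) =
          θ' (H.presheaf.germ V (genericPoint X) hη' (ap j V m)) := e2
      have e4 : H.presheaf.germ V (genericPoint X) hη' (ap j V m) =
          jη (F.presheaf.germ V (genericPoint X) hη' m) := germ_app j (genericPoint X) hη' m
      rw [e3, e4]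
      exact LinearMap.congr_fun hc1 _
    have e5 : S2.IsImg (LinearMap.id) m m := fun hη' => rfl
    exact S2.IsImg.unique hI _ e1 e5
  have h2 : Ψ' ≫ j = 𝟙 H := by
    apply Scheme.Modules.hom_ext
    intro V
    apply ConcreteCategory.hom_ext
    intro m
    show ap j V (ap Ψ' V m) = m
    have e1 : S2.IsImg (LinearMap.id) m (ap j V (ap Ψ' V m)) := by
      intro hη'
      have e2 := S2.isImg_genMap hE hI θ' hθ' V m hη'
      have e3 : F.presheaf.germ V (genericPoint X) hη' (ap Ψ' V m) =
          θ' (H.presheaf.germ V (genericPoint X) hη' m) := e2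
      have e4 : H.presheaf.germ V (genericPoint X) hη' (ap j V (ap Ψ' V m)) =
          jη (F.presheaf.germ V (genericPoint X) hη' (ap Ψ' V m)) :=
        germ_app j (genericPoint X) hη' _
      rw [e4, e3]
      exact LinearMap.congr_fun hc2 _
    have e5 : S2.IsImg (LinearMap.id) m m := fun hη' => rfl
    exact S2.IsImg.unique hIH _ e1 e5
  exact ⟨⟨Ψ', h1, h2⟩⟩


/-- A basis of the sections of a quasi-coherent module over an affine open gives bases of the
stalks. -/
theorem isBasisOn_of_basis (F : X.Modules) [F.IsQuasicoherent] {W : X.Opens} (hW : IsAffineOpen W)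
    {r : ℕ} (g : Fin r → Γ(F, W)) (hg : Submodule.span Γ(X, W) (Set.range g) = ⊤)
    (hli : LinearIndependent Γ(X, W) g) : IsBasisOn F W g := by
  intro y hy
  set p := (hW.primeIdealOf ⟨y, hy⟩).asIdeal with hp
  letI := TopCat.Presheaf.algebra_section_stalk X.presheaf (⟨y, hy⟩ : W)
  haveI : IsLocalization.AtPrime (X.presheaf.stalk y) p := hW.isLocalization_stalk ⟨y, hy⟩
  letI modA : Module Γ(X, W) (F.presheaf.stalk y) := StalkLocH8.modSec F hy
  haveI : IsScalarTower Γ(X, W) (X.presheaf.stalk y) (F.presheaf.stalk y) :=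
    IsScalarTower.of_algebraMap_smul (fun _ _ => rfl)
  haveI := StalkLocH8.isLocalizedModule_germLin F hW hy
  let b : Module.Basis (Fin r) Γ(X, W) Γ(F, W) := Module.Basis.mk hli hg.ge
  let b' := b.ofIsLocalizedModule (X.presheaf.stalk y) p.primeCompl (StalkLocH8.germLin F hy)
  have hb' : ∀ i, b' i = F.presheaf.germ W y hy (g i) := fun i => by
    rw [Module.Basis.ofIsLocalizedModule_apply, Module.Basis.mk_apply]
    rfl
  have e : (fun i => (F.presheaf.germ W y hy (g i) : F.presheaf.stalk y)) = ⇑b' :=
    funext (fun i => (hb' i).symm)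
  refine ⟨?_, ?_⟩
  · rw [e]
    exact b'.linearIndependent
  · rw [e]
    exact b'.span_eq.ge

/-- A coherent module on a locally Noetherian scheme has a local basis around every point at
which its stalk is free. -/
theorem exists_isBasisOn_of_free [IsLocallyNoetherian X] (F : X.Modules) (hF : Coh.IsCoh F) (x : X)
    (hfree : Module.Free (X.presheaf.stalk x) (F.presheaf.stalk x)) :
    ∃ (W : X.Opens) (_ : x ∈ W) (r : ℕ) (e : Fin r → Γ(F, W)), IsBasisOn F W e := by
  haveI : F.IsQuasicoherent := hF.1
  haveI : SheafOfModules.IsFiniteType (R := X.ringCatSheaf) F := hF.2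
  obtain ⟨_, ⟨V, hV : IsAffineOpen V, rfl⟩, hxV, -⟩ :=
    (X.isBasis_affineOpens).exists_subset_of_mem_open (Set.mem_univ x) isOpen_univ
  have hxV' : x ∈ V := hxV
  haveI : IsNoetherianRing Γ(X, V) := IsLocallyNoetherian.component_noetherian ⟨V, hV⟩
  haveI : Module.Finite Γ(X, V) Γ(F, V) := QCohFT.finite_of_isFiniteType F hV
  haveI : Module.FinitePresentation Γ(X, V) Γ(F, V) := Module.finitePresentation_of_finite _ _
  obtain ⟨f, hxf, r, g, hg, hli⟩ := exists_basis_basicOpen F hV hxV' hfree
  exact ⟨X.basicOpen f, hxf, r, g, isBasisOn_of_basis F (hV.basicOpen f) g hg hli⟩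

/-- A coherent module with the extension property and torsion-free stalks on a normal integral
locally Noetherian scheme is reflexive. -/
theorem isReflexive_of_torsionFree_of_hasExt [IsIntegral X] [IsLocallyNoetherian X]
    (hX : Pi1.IsNormalScheme X) {F : X.Modules} (hF : Coh.IsCoh F) (hT : TorSh.IsTorsionFree F)
    (hE : HasExt F) : RefHull.IsReflexive F := by
  haveI : F.IsQuasicoherent := hF.1
  have hI : S2.GenInj F := RegKerH8.genInj_of_torsionFree F hT
  have hbij : ∀ x : X, Order.coheight x ≤ 1 →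
      Function.Bijective (RefHull.stalkMapₗ (RefHull.bidualMap F) x) := by
    intro x hx
    haveI := isPrincipalIdealRing_stalk hX x hx
    haveI := hT x
    haveI : Module.Finite (X.presheaf.stalk x) (F.presheaf.stalk x) := finite_stalk hF.2 x
    obtain ⟨W, hxW, r, e, he⟩ :=
      exists_isBasisOn_of_free F hF x Module.free_of_finite_type_torsion_free'
    exact stalkMap_bidual_bijective he hxW
  exact isReflexive_of_stalks hX hE hI (hbij _ coheight_genericPoint_le)
    (fun x hx => (hbij x hx).2)

end RefBasisH8
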