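import Mathlib
import Groth.Prelude
import Groth.Agent.Lib.RefBasis1_helper8

set_option autoImplicit false
universe u

open CategoryTheory AlgebraicGeometry TopologicalSpace Opposite
open QcqsLoc GenLocH8 SecOrdH8 FLFH8 QCohExtn RefHullH8

/-! Sections of the sheaf Hom out of a quasi-coherent module from linear maps of sections over an
affine open. -/

namespace HomLinH8

variable {X : Scheme.{u}}

/-- Functions not vanishing at `y` act invertibly on the stalks at `y`. -/
theorem isUnit_end_stalk (G : X.Modules) {W : X.Opens} (hW : IsAffineOpen W) {y : X} (hy : y ∈ W)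
    (s : (hW.primeIdealOf ⟨y, hy⟩).asIdeal.primeCompl) :
    letI := StalkLocH8.modSec G hy
    IsUnit (algebraMap Γ(X, W) (Module.End Γ(X, W) (G.presheaf.stalk y)) s) := by
  set p := (hW.primeIdealOf ⟨y, hy⟩).asIdeal with hp
  letI := TopCat.Presheaf.algebra_section_stalk X.presheaf (⟨y, hy⟩ : W)
  haveI : IsLocalization.AtPrime (X.presheaf.stalk y) p := hW.isLocalization_stalk ⟨y, hy⟩
  letI modA : Module Γ(X, W) (G.presheaf.stalk y) := StalkLocH8.modSec G hy
  have hunit : IsUnit (algebraMap Γ(X, W) (X.presheaf.stalk y) s) :=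
    IsLocalization.map_units (X.presheaf.stalk y) s
  rw [Module.End.isUnit_iff]
  obtain ⟨u, hu⟩ := hunit
  constructor
  · intro a b hab
    have hab' : algebraMap Γ(X, W) (X.presheaf.stalk y) s • a =
        algebraMap Γ(X, W) (X.presheaf.stalk y) s • b := hab
    rw [← hu] at hab'
    have := congrArg (fun z => (↑u⁻¹ : X.presheaf.stalk y) • z) hab'
    simpa [smul_smul] using this
  · intro b
    refine ⟨(↑u⁻¹ : X.presheaf.stalk y) • b, ?_⟩
    change algebraMap Γ(X, W) (X.presheaf.stalk y) s • ((↑u⁻¹ : X.presheaf.stalk y) • b) = b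
    rw [← hu, smul_smul, Units.mul_inv, one_smul]

variable (F G : X.Modules) [F.IsQuasicoherent] {W : X.Opens} (hW : IsAffineOpen W)
  {W' : X.Opens} (hW' : W' ≤ W) (ψ : Γ(F, W) →+ Γ(G, W'))
  (hψ : ∀ (a : Γ(X, W)) (m : Γ(F, W)), ψ (a • m) = rX hW' a • ψ m)

/-- The composite of `ψ` with the germ map at `y`, as a linear map over the functions on `W`. -/
noncomputable def germComp {y : X} (hy : y ∈ W') :
    letI := StalkLocH8.modSec G (hW' hy)
    Γ(F, W) →ₗ[Γ(X, W)] G.presheaf.stalk y :=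
  letI := StalkLocH8.modSec G (hW' hy)
  { toFun := fun m => G.presheaf.germ W' y hy (ψ m)
    map_add' := fun a b => by rw [map_add, map_add]
    map_smul' := fun a m => by
      rw [hψ, Mero.germ_smul, germ_rX]
      rfl }

/-- The map of stalks induced by `ψ`. -/
noncomputable def stalkLin {y : X} (hy : y ∈ W') :
    F.presheaf.stalk y →ₗ[X.presheaf.stalk y] G.presheaf.stalk y :=
  letI := TopCat.Presheaf.algebra_section_stalk X.presheaf (⟨y, hW' hy⟩ : W)
  haveI : IsLocalization.AtPrime (X.presheaf.stalk y) (hW.primeIdealOf ⟨y, hW' hy⟩).asIdeal :=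
    hW.isLocalization_stalk ⟨y, hW' hy⟩
  letI := StalkLocH8.modSec F (hW' hy)
  letI := StalkLocH8.modSec G (hW' hy)
  haveI : IsScalarTower Γ(X, W) (X.presheaf.stalk y) (F.presheaf.stalk y) :=
    IsScalarTower.of_algebraMap_smul (fun _ _ => rfl)
  haveI : IsScalarTower Γ(X, W) (X.presheaf.stalk y) (G.presheaf.stalk y) :=
    IsScalarTower.of_algebraMap_smul (fun _ _ => rfl)
  haveI := StalkLocH8.isLocalizedModule_germLin F hW (hW' hy)
  (IsLocalizedModule.lift (hW.primeIdealOf ⟨y, hW' hy⟩).asIdeal.primeCompl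
    (StalkLocH8.germLin F (hW' hy)) (germComp F G hW' ψ hψ hy)
    (isUnit_end_stalk G hW (hW' hy))).extendScalarsOfIsLocalization
      (hW.primeIdealOf ⟨y, hW' hy⟩).asIdeal.primeCompl (X.presheaf.stalk y)

theorem stalkLin_germ {y : X} (hy : y ∈ W') (m : Γ(F, W)) :
    stalkLin F G hW hW' ψ hψ hy (F.presheaf.germ W y (hW' hy) m) =
      G.presheaf.germ W' y hy (ψ m) := by
  letI := StalkLocH8.modSec F (hW' hy)
  letI := StalkLocH8.modSec G (hW' hy)
  haveI := StalkLocH8.isLocalizedModule_germLin F hW (hW' hy)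
  exact IsLocalizedModule.lift_apply (hW.primeIdealOf ⟨y, hW' hy⟩).asIdeal.primeCompl
    (StalkLocH8.germLin F (hW' hy)) (germComp F G hW' ψ hψ hy)
    (isUnit_end_stalk G hW (hW' hy)) m


theorem isLocSect_stalkLin :
    RefHull.IsLocSect F G (U := W') (fun y => stalkLin F G hW hW' ψ hψ y.2) := by
  intro V i m x
  have hxW' : x.1 ∈ W' := i.le x.2
  have hxW : x.1 ∈ W := hW' hxW'
  have hVW : V ≤ W := i.le.trans hW'
  letI := StalkLocH8.modSec F hxW
  haveI := StalkLocH8.isLocalizedModule_germLin F hW hxW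
  obtain ⟨⟨m₀, s⟩, hs⟩ := IsLocalizedModule.surj (hW.primeIdealOf ⟨x.1, hxW⟩).asIdeal.primeCompl
    (StalkLocH8.germLin F hxW) (F.presheaf.germ V x.1 x.2 m)
  have hs' : X.presheaf.germ W x.1 hxW (s : Γ(X, W)) • F.presheaf.germ V x.1 x.2 m =
      F.presheaf.germ W x.1 hxW m₀ := hs
  have e1 : F.presheaf.germ V x.1 x.2 (rX hVW (s : Γ(X, W)) • m) =
      F.presheaf.germ V x.1 x.2 (rF F hVW m₀) := by
    rw [Mero.germ_smul, germ_rX, germ_rF]
    exact hs'
  obtain ⟨N₁, hN₁, hxN₁, e2⟩ := (germ_eq_iff F x.1 x.2 _ _).mp e1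
  have hxs : x.1 ∈ X.basicOpen (s : Γ(X, W)) := mem_basicOpen_of_notMem_prime hW hxW s.2
  set N : X.Opens := N₁ ⊓ X.basicOpen (s : Γ(X, W)) with hN
  have hNN₁ : N ≤ N₁ := inf_le_left
  have hNs : N ≤ X.basicOpen (s : Γ(X, W)) := inf_le_right
  have hNV : N ≤ V := hNN₁.trans hN₁
  have hNW : N ≤ W := hNV.trans hVW
  have hNW' : N ≤ W' := hNV.trans i.le
  have hu0 : IsUnit (rX (X.basicOpen_le (s : Γ(X, W))) (s : Γ(X, W))) :=
    X.toRingedSpace.isUnit_res_basicOpen (s : Γ(X, W))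
  have hu : IsUnit (rX hNW (s : Γ(X, W))) := by
    have := hu0.map (rX hNs)
    rwa [rX_rX] at this
  obtain ⟨u, hu'⟩ := hu
  refine ⟨N, ⟨hxN₁, hxs⟩, homOfLE hNV, (↑u⁻¹ : Γ(X, N)) • rF G hNW' (ψ m₀), fun z => ?_⟩
  have hzV : z.1 ∈ V := hNV z.2
  have hzW : z.1 ∈ W := hNW z.2
  have hzW' : z.1 ∈ W' := hNW' z.2
  change stalkLin F G hW hW' ψ hψ hzW' (F.presheaf.germ V z.1 hzV m) = _
  have e3 := congrArg (fun t => F.presheaf.germ N z.1 z.2 (rF F hNN₁ t)) e2
  simp only at e3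
  rw [rF_rF, rF_rF, rF_rF, rF_smul, rX_rX, Mero.germ_smul, germ_rF, germ_rF] at e3
  have e4 := congrArg (stalkLin F G hW hW' ψ hψ hzW') e3
  rw [map_smul, stalkLin_germ] at e4
  rw [Mero.germ_smul, germ_rF, ← e4, smul_smul, ← map_mul, ← hu', Units.inv_mul, map_one, one_smul]

/-- The section of the sheaf Hom defined by a semilinear map of sections. -/
noncomputable def homOfLin : Γ(RefHull.homSh F G, W') :=
  ⟨fun y => stalkLin F G hW hW' ψ hψ y.2, isLocSect_stalkLin F G hW hW' ψ hψ⟩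

theorem homOfLin_apply (y : W') (m : Γ(F, W)) :
    (homOfLin F G hW hW' ψ hψ).1 y (F.presheaf.germ W y.1 (hW' y.2) m) =
      G.presheaf.germ W' y.1 y.2 (ψ m) :=
  stalkLin_germ F G hW hW' ψ hψ y.2 m

end HomLinH8
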