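import Mathlib
import Groth.Prelude
import Groth.Agent.Lib.HomLin1_helper8
import Groth.Agent.Lib.QCohFP2_helper9

set_option autoImplicit false
universe u

open CategoryTheory AlgebraicGeometry TopologicalSpace Opposite
open QcqsLoc GenLocH8 SecOrdH8 FLFH8 QCohExtn RefHullH8

/-! The stalks of the sheaf Hom out of a module of finite presentation. -/

namespace HomLinH8

variable {X : Scheme.{u}}

set_option maxHeartbeats 800000 in
theorem evalStalk_surjective (F G : X.Modules) (hF : CohB1.IsFP F) (x : X) :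
    Function.Surjective (RefHull.evalStalk F G x) := by
  haveI : SheafOfModules.IsFinitePresentation (R := X.ringCatSheaf) F := hF
  haveI : F.IsQuasicoherent := inferInstance
  intro φ
  obtain ⟨_, ⟨W, hW : IsAffineOpen W, rfl⟩, hxW, -⟩ :=
    (X.isBasis_affineOpens).exists_subset_of_mem_open (Set.mem_univ x) isOpen_univ
  have hx : x ∈ W := hxW
  haveI : Module.FinitePresentation Γ(X, W) Γ(F, W) :=
    QCohFP2.finitePresentation_of_isFinitePresentation F hW
  obtain ⟨n, m, hm⟩ := Module.Finite.exists_fin (R := Γ(X, W)) (M := Γ(F, W))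
  set π : (Fin n → Γ(X, W)) →ₗ[Γ(X, W)] Γ(F, W) := Fintype.linearCombination Γ(X, W) m with hπdef
  have hπ : Function.Surjective π := by
    rw [← LinearMap.range_eq_top, hπdef, Fintype.range_linearCombination]
    exact hm
  have hker : (LinearMap.ker π).FG := Module.FinitePresentation.fg_ker π hπ
  obtain ⟨k, rr, hrr⟩ := Submodule.fg_iff_exists_fin_generating_family.mp hker
  have hrrker : ∀ j, π (rr j) = 0 := fun j => by
    have : rr j ∈ LinearMap.ker π := by
      rw [← hrr]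
      exact Submodule.subset_span ⟨j, rfl⟩
    exact this
  -- sections representing the images of the generators
  have h1 : ∀ i, ∃ (Vi : X.Opens) (hxi : x ∈ Vi) (ti : Γ(G, Vi)),
      G.presheaf.germ Vi x hxi ti = φ (F.presheaf.germ W x hx (m i)) := fun i => by
    obtain ⟨Vi, hxi, ti, hti⟩ := TopCat.Presheaf.exists_germ_eq G.presheaf
      (φ (F.presheaf.germ W x hx (m i)))
    exact ⟨Vi, hxi, ti, hti⟩
  choose Vi hxi ti hti using h1
  set V₀ : X.Opens := W ⊓ ⨅ i, Vi i with hV₀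
  have hxV₀ : x ∈ V₀ := ⟨hx, (mem_iInf_opens Vi x).mpr hxi⟩
  have hV₀W : V₀ ≤ W := inf_le_left
  have hV₀V : ∀ i, V₀ ≤ Vi i := fun i => inf_le_right.trans (iInf_le _ i)
  -- the relations hold near `x`
  have h2 : ∀ j : Fin k, ∃ (Vj : X.Opens) (hVj : Vj ≤ V₀), x ∈ Vj ∧
      rF G hVj (∑ i, rX hV₀W (rr j i) • rF G (hV₀V i) (ti i)) = 0 := fun j => by
    rw [← germ_eq_zero_iff G x hxV₀, map_sum]
    have e1 : ∀ i, G.presheaf.germ V₀ x hxV₀ (rX hV₀W (rr j i) • rF G (hV₀V i) (ti i)) =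
        φ (F.presheaf.germ W x hx (rr j i • m i)) := fun i => by
      rw [Mero.germ_smul, germ_rX, germ_rF, hti, Mero.germ_smul, map_smul]
    rw [Finset.sum_congr rfl (fun i _ => e1 i), ← map_sum, ← map_sum]
    have e2 : ∑ i, rr j i • m i = π (rr j) := (Fintype.linearCombination_apply _ _ _).symm
    rw [e2, hrrker, map_zero, map_zero]
  choose Vj hVj hxVj hrel using h2
  set V' : X.Opens := V₀ ⊓ ⨅ j, Vj j with hV'
  have hxV' : x ∈ V' := ⟨hxV₀, (mem_iInf_opens Vj x).mpr hxVj⟩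
  have hV'V₀ : V' ≤ V₀ := inf_le_left
  have hV'Vj : ∀ j, V' ≤ Vj j := fun j => inf_le_right.trans (iInf_le _ j)
  have hV'W : V' ≤ W := hV'V₀.trans hV₀W
  letI modG : Module Γ(X, W) Γ(G, V') := Module.compHom _ (rX hV'W)
  have hsmul : ∀ (a : Γ(X, W)) (t : Γ(G, V')), a • t = rX hV'W a • t := fun _ _ => rfl
  set ψ₀ : (Fin n → Γ(X, W)) →ₗ[Γ(X, W)] Γ(G, V') :=
    Fintype.linearCombination Γ(X, W) (fun i => rF G (hV'V₀.trans (hV₀V i)) (ti i)) with hψ₀
  have hk : LinearMap.ker π ≤ LinearMap.ker ψ₀ := by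
    rw [← hrr, Submodule.span_le]
    rintro _ ⟨j, rfl⟩
    change ψ₀ (rr j) = 0
    rw [hψ₀, Fintype.linearCombination_apply]
    have e3 := congrArg (rF G (hV'Vj j)) (hrel j)
    rw [map_zero, rF_rF, map_sum] at e3
    rw [← e3]
    refine Finset.sum_congr rfl (fun i _ => ?_)
    rw [rF_smul, rX_rX, rF_rF]
    rfl
  set ψ : Γ(F, W) →ₗ[Γ(X, W)] Γ(G, V') :=
    ((LinearMap.ker π).liftQ ψ₀ hk).comp (π.quotKerEquivOfSurjective hπ).symm.toLinearMap with hψ
  have hψπ : ∀ c, ψ (π c) = ψ₀ c := fun c => by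
    rw [hψ, LinearMap.comp_apply]
    have : (π.quotKerEquivOfSurjective hπ).symm (π c) = Submodule.Quotient.mk c := by
      rw [LinearEquiv.symm_apply_eq]
      rfl
    rw [LinearEquiv.coe_coe, this, Submodule.liftQ_apply]
  set g := homOfLin F G hW hV'W ψ.toAddMonoidHom (fun a t => ψ.map_smul a t) with hg
  refine ⟨(RefHull.homSh F G).presheaf.germ V' x hxV' g, ?_⟩
  rw [RefHull.evalStalk_germ]
  apply LinearMap.ext_on_range (span_germ F hW hx m hm)
  intro i
  have e4 := homOfLin_apply F G hW hV'W ψ.toAddMonoidHom (fun a t => ψ.map_smul a t) ⟨x, hxV'⟩ (m i)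
  rw [hg, e4]
  have e5 : m i = π (Pi.single i 1) := by
    rw [hπdef, Fintype.linearCombination_apply_single, one_smul]
  have e6 : ψ (m i) = rF G (hV'V₀.trans (hV₀V i)) (ti i) := by
    rw [e5, hψπ, hψ₀, Fintype.linearCombination_apply_single, one_smul]
  change G.presheaf.germ V' x hxV' (ψ (m i)) = _
  rw [e6, germ_rF, hti]

theorem evalStalk_bijective (F G : X.Modules) (hF : CohB1.IsFP F) (x : X) :
    Function.Bijective (RefHull.evalStalk F G x) :=
  ⟨evalStalk_injective F G inferInstance x, evalStalk_surjective F G hF x⟩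

end HomLinH8
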