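import Mathlib
import Groth.Prelude
import Groth.Agent.Lib.HomLin2_helper8

set_option autoImplicit false
universe u

open CategoryTheory AlgebraicGeometry TopologicalSpace Opposite
open QcqsLoc GenLocH8 SecOrdH8 FLFH8 QCohExtn RefHullH8 RefBasisH8

/-! Evaluation of sections of the sheaf Hom on sections. -/

namespace HomLinH8

variable {X : Scheme.{u}} {A B : X.Modules}

/-- The value of a section of the sheaf Hom on a section. -/
noncomputable def evSec {O : X.Opens} (l : Γ(RefHull.homSh A B, O)) (s : Γ(A, O)) : Γ(B, O) :=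
  (exists_apSec l s).choose

theorem germ_evSec {O : X.Opens} (l : Γ(RefHull.homSh A B, O)) (s : Γ(A, O)) (y : X)
    (hy : y ∈ O) :
    B.presheaf.germ O y hy (evSec l s) = l.1 ⟨y, hy⟩ (A.presheaf.germ O y hy s) :=
  (exists_apSec l s).choose_spec ⟨y, hy⟩

theorem evSec_unique {O : X.Opens} (l : Γ(RefHull.homSh A B, O)) (s : Γ(A, O)) (n : Γ(B, O))
    (h : ∀ (y : X) (hy : y ∈ O), B.presheaf.germ O y hy n =
      l.1 ⟨y, hy⟩ (A.presheaf.germ O y hy s)) : evSec l s = n := by
  refine TopCat.Presheaf.section_ext ⟨B.presheaf, B.isSheaf⟩ O _ _ (fun y hy => ?_)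
  exact (germ_evSec l s y hy).trans (h y hy).symm

theorem evSec_add_left {O : X.Opens} (l l' : Γ(RefHull.homSh A B, O)) (s : Γ(A, O)) :
    evSec (l + l') s = evSec l s + evSec l' s := by
  apply evSec_unique
  intro y hy
  rw [map_add, germ_evSec, germ_evSec, homSh_add_apply, LinearMap.add_apply]

theorem evSec_zero_left {O : X.Opens} (s : Γ(A, O)) :
    evSec (0 : Γ(RefHull.homSh A B, O)) s = 0 := by
  apply evSec_unique
  intro y hy
  rw [map_zero, homSh_zero_apply, LinearMap.zero_apply]

theorem evSec_smul_left {O : X.Opens} (a : Γ(X, O)) (l : Γ(RefHull.homSh A B, O)) (s : Γ(A, O)) :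
    evSec (a • l) s = a • evSec l s := by
  apply evSec_unique
  intro y hy
  rw [Mero.germ_smul, germ_evSec, homSh_smul_apply, LinearMap.smul_apply]

theorem evSec_add_right {O : X.Opens} (l : Γ(RefHull.homSh A B, O)) (s s' : Γ(A, O)) :
    evSec l (s + s') = evSec l s + evSec l s' := by
  apply evSec_unique
  intro y hy
  rw [map_add, map_add, map_add, germ_evSec, germ_evSec]

theorem evSec_zero_right {O : X.Opens} (l : Γ(RefHull.homSh A B, O)) :
    evSec l (0 : Γ(A, O)) = 0 := by
  apply evSec_unique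
  intro y hy
  rw [map_zero, map_zero, map_zero]

theorem evSec_smul_right {O : X.Opens} (l : Γ(RefHull.homSh A B, O)) (a : Γ(X, O)) (s : Γ(A, O)) :
    evSec l (a • s) = a • evSec l s := by
  apply evSec_unique
  intro y hy
  rw [Mero.germ_smul, Mero.germ_smul, map_smul, germ_evSec]

theorem evSec_sum_right {O : X.Opens} (l : Γ(RefHull.homSh A B, O)) {ι : Type*} (t : Finset ι)
    (s : ι → Γ(A, O)) : evSec l (∑ i ∈ t, s i) = ∑ i ∈ t, evSec l (s i) := by
  classical
  induction t using Finset.induction_on with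
  | empty => simp only [Finset.sum_empty]; exact evSec_zero_right l
  | insert a t ha ih => rw [Finset.sum_insert ha, Finset.sum_insert ha, evSec_add_right, ih]

theorem rF_evSec {O O' : X.Opens} (h : O' ≤ O) (l : Γ(RefHull.homSh A B, O)) (s : Γ(A, O)) :
    rF B h (evSec l s) = evSec (rF (RefHull.homSh A B) h l) (rF A h s) := by
  symm
  apply evSec_unique
  intro y hy
  rw [germ_rF, germ_rF, germ_evSec]
  rfl


section QC

variable (F G : X.Modules) [F.IsQuasicoherent] {U : X.Opens} (hU : IsAffineOpen U)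
  {k : ℕ} (m : Fin k → Γ(F, U)) (hm : Submodule.span Γ(X, U) (Set.range m) = ⊤)

include hU hm in
/-- A section of the sheaf Hom vanishing on generators vanishes. -/
theorem homSh_eq_zero_of_evSec {O : X.Opens} (hO : O ≤ U) (l : Γ(RefHull.homSh F G, O))
    (h : ∀ i, evSec l (rF F hO (m i)) = 0) : l = 0 := by
  apply homSh_ext
  intro y
  rw [homSh_zero_apply]
  apply LinearMap.ext_on_range (span_germ F hU (hO y.2) m hm)
  intro i
  rw [LinearMap.zero_apply, ← germ_rF F hO y.1 y.2 (m i), ← germ_evSec l _ y.1 y.2, h i, map_zero]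

include hU hm in
theorem homSh_ext_of_evSec {O : X.Opens} (hO : O ≤ U) (l l' : Γ(RefHull.homSh F G, O))
    (h : ∀ i, evSec l (rF F hO (m i)) = evSec l' (rF F hO (m i))) : l = l' := by
  rw [← sub_eq_zero]
  apply homSh_eq_zero_of_evSec F G hU m hm hO
  intro i
  have : l - l' = l + (-1 : Γ(X, O)) • l' := by rw [neg_one_smul, sub_eq_add_neg]
  rw [this, evSec_add_left, evSec_smul_left, h i, neg_one_smul, add_neg_cancel]

variable [G.IsQuasicoherent]

include hU hm in
theorem homSh_ker (a : Γ(X, U)) (l : Γ(RefHull.homSh F G, U))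
    (h : rF (RefHull.homSh F G) (X.basicOpen_le a) l = 0) : ∃ n : ℕ, a ^ n • l = 0 := by
  have hl : X.basicOpen a ≤ U := X.basicOpen_le a
  have hG := Groth.Agent.Lib.QCohLoc_helper4.locOn_of_isQuasicoherent G hU
  have h1 : ∀ i, ∃ e : ℕ, a ^ e • evSec l (m i) = 0 := fun i => by
    apply hG.ker a
    have := rF_evSec hl l (m i)
    rw [h, evSec_zero_left] at this
    exact this
  choose e he using h1
  refine ⟨∑ i, e i, ?_⟩
  apply homSh_eq_zero_of_evSec F G hU m hm le_rfl
  intro i
  have hle : e i ≤ ∑ j, e j := Finset.single_le_sum (fun _ _ => Nat.zero_le _) (Finset.mem_univ i)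
  have e1 : rF F (le_refl U) (m i) = m i := by
    change F.presheaf.map (homOfLE (le_refl U)).op (m i) = m i
    have : (homOfLE (le_refl U)).op = 𝟙 (op U) := rfl
    rw [this, F.presheaf.map_id]
    rfl
  rw [e1, evSec_smul_left, ← Nat.sub_add_cancel hle, pow_add, mul_smul, he i, smul_zero]


include hU hm in
theorem homSh_surj [Module.FinitePresentation Γ(X, U) Γ(F, U)] (a : Γ(X, U))
    (l' : Γ(RefHull.homSh F G, X.basicOpen a)) :
    ∃ (n : ℕ) (l : Γ(RefHull.homSh F G, U)),
      rX (X.basicOpen_le a) a ^ n • l' = rF (RefHull.homSh F G) (X.basicOpen_le a) l := by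
  have hl : X.basicOpen a ≤ U := X.basicOpen_le a
  have hG := Groth.Agent.Lib.QCohLoc_helper4.locOn_of_isQuasicoherent G hU
  set π : (Fin k → Γ(X, U)) →ₗ[Γ(X, U)] Γ(F, U) := Fintype.linearCombination Γ(X, U) m with hπdef
  have hπ : Function.Surjective π := by
    rw [← LinearMap.range_eq_top, hπdef, Fintype.range_linearCombination]
    exact hm
  have hker : (LinearMap.ker π).FG := Module.FinitePresentation.fg_ker π hπ
  obtain ⟨q, rr, hrr⟩ := Submodule.fg_iff_exists_fin_generating_family.mp hker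
  have hrrker : ∀ j, π (rr j) = 0 := fun j => by
    have : rr j ∈ LinearMap.ker π := by
      rw [← hrr]
      exact Submodule.subset_span ⟨j, rfl⟩
    exact this
  -- images of the generators
  set n' : Fin k → Γ(G, X.basicOpen a) := fun i => evSec l' (rF F hl (m i)) with hn'
  have h1 : ∀ i, ∃ (e : ℕ) (t : Γ(G, U)), rF G hl t = rX hl a ^ e • n' i :=
    fun i => hG.ex a (n' i)
  choose e t ht using h1
  set E := ∑ i, e i with hE
  set t' : Fin k → Γ(G, U) := fun i => a ^ (E - e i) • t i with ht'def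
  have ht' : ∀ i, rF G hl (t' i) = rX hl a ^ E • n' i := by
    intro i
    have hle : e i ≤ E := Finset.single_le_sum (fun _ _ => Nat.zero_le _) (Finset.mem_univ i)
    rw [ht'def]
    simp only
    rw [rF_smul, ht, map_pow, smul_smul, ← pow_add, Nat.sub_add_cancel hle]
  -- relations
  have h2 : ∀ j, ∃ e' : ℕ, a ^ e' • ∑ i, rr j i • t' i = 0 := fun j => by
    apply hG.ker a
    change rF G hl (∑ i, rr j i • t' i) = 0
    rw [map_sum]
    have e1 : ∀ i, rF G hl (rr j i • t' i) =
        rX hl a ^ E • evSec l' (rX hl (rr j i) • rF F hl (m i)) := fun i => by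
      rw [rF_smul, ht', smul_comm, evSec_smul_right]
    rw [Finset.sum_congr rfl (fun i _ => e1 i), ← Finset.smul_sum, ← evSec_sum_right]
    have e2 : ∑ i, rX hl (rr j i) • rF F hl (m i) = rF F hl (π (rr j)) := by
      rw [hπdef, Fintype.linearCombination_apply, map_sum]
      refine Finset.sum_congr rfl (fun i _ => ?_)
      rw [rF_smul]
    rw [e2, hrrker, map_zero, evSec_zero_right, smul_zero]
  choose e' he' using h2
  set E' := ∑ j, e' j with hE'
  set t'' : Fin k → Γ(G, U) := fun i => a ^ E' • t' i with ht''def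
  have hrel : ∀ j, ∑ i, rr j i • t'' i = 0 := by
    intro j
    have hle : e' j ≤ E' := Finset.single_le_sum (fun _ _ => Nat.zero_le _) (Finset.mem_univ j)
    have e3 : ∑ i, rr j i • t'' i = a ^ E' • ∑ i, rr j i • t' i := by
      rw [Finset.smul_sum]
      refine Finset.sum_congr rfl (fun i _ => ?_)
      rw [ht''def]
      simp only
      rw [smul_comm]
    rw [e3, ← Nat.sub_add_cancel hle, pow_add, mul_smul, he' j, smul_zero]
  set ψ₀ : (Fin k → Γ(X, U)) →ₗ[Γ(X, U)] Γ(G, U) := Fintype.linearCombination Γ(X, U) t'' with hψ₀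
  have hk : LinearMap.ker π ≤ LinearMap.ker ψ₀ := by
    rw [← hrr, Submodule.span_le]
    rintro _ ⟨j, rfl⟩
    change ψ₀ (rr j) = 0
    rw [hψ₀, Fintype.linearCombination_apply]
    exact hrel j
  set ψ : Γ(F, U) →ₗ[Γ(X, U)] Γ(G, U) :=
    ((LinearMap.ker π).liftQ ψ₀ hk).comp (π.quotKerEquivOfSurjective hπ).symm.toLinearMap with hψ
  have hψπ : ∀ c, ψ (π c) = ψ₀ c := fun c => by
    rw [hψ, LinearMap.comp_apply]
    have : (π.quotKerEquivOfSurjective hπ).symm (π c) = Submodule.Quotient.mk c := by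
      rw [LinearEquiv.symm_apply_eq]
      rfl
    rw [LinearEquiv.coe_coe, this, Submodule.liftQ_apply]
  have hψm : ∀ i, ψ (m i) = t'' i := fun i => by
    have e5 : m i = π (Pi.single i 1) := by
      rw [hπdef, Fintype.linearCombination_apply_single, one_smul]
    rw [e5, hψπ, hψ₀, Fintype.linearCombination_apply_single, one_smul]
  have hsemi : ∀ (b : Γ(X, U)) (s : Γ(F, U)),
      ψ.toAddMonoidHom (b • s) = rX (le_refl U) b • ψ.toAddMonoidHom s := fun b s => by
    rw [rX_self]
    exact ψ.map_smul b s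
  set l := homOfLin F G hU (le_refl U) ψ.toAddMonoidHom hsemi with hldef
  refine ⟨E + E', l, ?_⟩
  apply homSh_ext_of_evSec F G hU m hm hl
  intro i
  rw [evSec_smul_left, ← rF_evSec]
  have e6 : evSec l (m i) = t'' i := by
    apply evSec_unique
    intro y hy
    have := homOfLin_apply F G hU (le_refl U) ψ.toAddMonoidHom hsemi ⟨y, hy⟩ (m i)
    rw [hldef, this]
    change G.presheaf.germ U y hy (t'' i) = G.presheaf.germ U y hy (ψ (m i))
    rw [hψm]
  rw [e6]
  change rX hl a ^ (E + E') • n' i = rF G hl (a ^ E' • t' i)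
  rw [rF_smul, ht', map_pow, smul_smul, ← pow_add, add_comm]

end QC

/-- The sheaf Hom from a module of finite presentation to a quasi-coherent module is
quasi-coherent. -/
theorem isQuasicoherent_homSh (F G : X.Modules)
    [SheafOfModules.IsFinitePresentation (R := X.ringCatSheaf) F] [G.IsQuasicoherent] :
    (RefHull.homSh F G).IsQuasicoherent := by
  haveI : F.IsQuasicoherent := inferInstance
  apply QCohCrit.isQuasicoherent_of_locOnU
  intro U a
  haveI : Module.FinitePresentation Γ(X, U.1) Γ(F, U.1) :=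
    QCohFP2.finitePresentation_of_isFinitePresentation F U.2
  obtain ⟨k, m, hm⟩ := Module.Finite.exists_fin (R := Γ(X, U.1)) (M := Γ(F, U.1))
  refine ⟨U.2.isLocalization_basicOpen a, fun x s => Scheme.Modules.map_smul _ _ x s, ?_, ?_⟩
  · intro l'
    obtain ⟨n, l, h⟩ := homSh_surj F G U.2 m hm a l'
    exact ⟨n, l, h⟩
  · intro l h
    exact homSh_ker F G U.2 m hm a l h

end HomLinH8
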