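import Groth.Agent.Lib.LimModDict_helper2
import Groth.Agent.Lib.Desc4_helper8
import Groth.Agent.Lib.HomLin3_helper8
import Groth.Agent.Lib.ModHomBasis_helper5

/-!
# Gluing homomorphisms of modules from linear maps on affine charts (helper2)

* `pbIso_cUV`: the canonical isomorphism `a^* b^* F ≅ c^* F` (`a ≫ b = c`) carries the canonical
  section `cUV a (cUV b p)` to `cUV c p`;
* `exists_hom_of_local`: sections of the sheaf Hom on an open cover with equal stalk maps on the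
  overlaps glue to a morphism;
* `stalkLin_eq_of_compat`, `exists_hom_of_charts`: linear maps of sections on affine charts,
  compatible on a refinement of the overlaps, glue to a morphism.
APPEND-ONLY once landed.
-/

set_option autoImplicit false
set_option maxHeartbeats 1000000
set_option linter.style.haveILetI false
set_option linter.unusedSectionVars false
set_option linter.unusedVariables false
universe u

open CategoryTheory CategoryTheory.Limits AlgebraicGeometry TopologicalSpace Opposite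

namespace Groth.Agent.Lib.LimMod

/-- the unit map on sections -/
noncomputable abbrev unitSec {X Y : Scheme.{u}} (f : X ⟶ Y) (F : Y.Modules) (V : Y.Opens)
    (x : Γ(F, V)) : Γ((Scheme.Modules.pullback f).obj F, f ⁻¹ᵁ V) :=
  ((Scheme.Modules.pullbackPushforwardAdjunction f).unit.app F).app V x

/-- unit of the composite adjunction, on sections. -/
theorem pullbackComp_unit {X Y Z : Scheme.{u}} (a : X ⟶ Y) (b : Y ⟶ Z) (F : Z.Modules)
    (W : Z.Opens) (p : Γ(F, W)) :
    ((Scheme.Modules.pullbackComp a b).hom.app F).app (a ⁻¹ᵁ (b ⁻¹ᵁ W))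
      (unitSec a ((Scheme.Modules.pullback b).obj F) (b ⁻¹ᵁ W) (unitSec b F W p)) =
      unitSec (a ≫ b) F W p := by
  have h1 := unit_conjugateEquiv
    ((Scheme.Modules.pullbackPushforwardAdjunction b).comp
      (Scheme.Modules.pullbackPushforwardAdjunction a))
    (Scheme.Modules.pullbackPushforwardAdjunction (a ≫ b))
    (Scheme.Modules.pullbackComp a b).inv F
  rw [Scheme.Modules.conjugateEquiv_pullbackComp_inv] at h1
  have h2 := congrArg (fun ψ => (Scheme.Modules.Hom.app ψ W) p) h1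
  simp only [Adjunction.comp_unit_app] at h2
  have h3 : unitSec a ((Scheme.Modules.pullback b).obj F) (b ⁻¹ᵁ W) (unitSec b F W p) =
      ((Scheme.Modules.pullbackComp a b).inv.app F).app ((a ≫ b) ⁻¹ᵁ W)
        (unitSec (a ≫ b) F W p) := h2
  rw [h3]
  have h4 : ((Scheme.Modules.pullbackComp a b).inv.app F ≫
      (Scheme.Modules.pullbackComp a b).hom.app F) = 𝟙 _ := Iso.inv_hom_id_app _ _
  exact congrArg (fun ψ => (Scheme.Modules.Hom.app ψ ((a ≫ b) ⁻¹ᵁ W)) (unitSec (a ≫ b) F W p)) h4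

theorem map_map_sec {X : Scheme.{u}} (M : X.Modules) {U V W : X.Opens} (h1 : U ≤ V) (h2 : V ≤ W)
    (x : Γ(M, W)) :
    M.presheaf.map (homOfLE h1).op (M.presheaf.map (homOfLE h2).op x) =
      M.presheaf.map (homOfLE (h1.trans h2)).op x := by
  have := congrArg (fun ψ => ψ x) (M.presheaf.map_comp (homOfLE h2).op (homOfLE h1).op)
  exact this.symm

/-- **The canonical isomorphism `a^* b^* F ≅ c^* F` on canonical sections.** -/
theorem pbIso_cUV {X Y Z : Scheme.{u}} (a : X ⟶ Y) (b : Y ⟶ Z) (c : X ⟶ Z) (w : a ≫ b = c)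
    (F : Z.Modules) {U : X.Opens} {V : Y.Opens} {W : Z.Opens} (hUV : U ≤ a ⁻¹ᵁ V)
    (hVW : V ≤ b ⁻¹ᵁ W) (hUW : U ≤ c ⁻¹ᵁ W) (p : Γ(F, W)) :
    ((DescH8.pbIso a b c w).hom.app F).app U
      (PBH8.cUV a ((Scheme.Modules.pullback b).obj F) hUV (PBH8.cUV b F hVW p)) =
      PBH8.cUV c F hUW p := by
  subst w
  have e0 : (DescH8.pbIso a b (a ≫ b) rfl).hom.app F =
      (Scheme.Modules.pullbackComp a b).hom.app F := by
    simp [DescH8.pbIso, Scheme.Modules.pullbackCongr]
  rw [e0]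
  have hVW' : a ⁻¹ᵁ V ≤ a ⁻¹ᵁ (b ⁻¹ᵁ W) := fun x hx => hVW hx
  have n1 : ((Scheme.Modules.pullbackPushforwardAdjunction a).unit.app
        ((Scheme.Modules.pullback b).obj F)).app V (PBH8.cUV b F hVW p) =
      ((Scheme.Modules.pullback a).obj ((Scheme.Modules.pullback b).obj F)).presheaf.map
        (homOfLE hVW').op (unitSec a ((Scheme.Modules.pullback b).obj F) (b ⁻¹ᵁ W)
          (unitSec b F W p)) :=
    QCohCrit.app_naturality ((Scheme.Modules.pullbackPushforwardAdjunction a).unit.app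
      ((Scheme.Modules.pullback b).obj F)) (homOfLE hVW) (unitSec b F W p)
  have n2 : PBH8.cUV a ((Scheme.Modules.pullback b).obj F) hUV (PBH8.cUV b F hVW p) =
      ((Scheme.Modules.pullback a).obj ((Scheme.Modules.pullback b).obj F)).presheaf.map
        (homOfLE (hUV.trans hVW')).op (unitSec a ((Scheme.Modules.pullback b).obj F) (b ⁻¹ᵁ W)
          (unitSec b F W p)) := by
    change ((Scheme.Modules.pullback a).obj ((Scheme.Modules.pullback b).obj F)).presheaf.map
      (homOfLE hUV).op (((Scheme.Modules.pullbackPushforwardAdjunction a).unit.app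
        ((Scheme.Modules.pullback b).obj F)).app V (PBH8.cUV b F hVW p)) = _
    rw [n1]
    exact map_map_sec _ hUV hVW' _
  rw [n2]
  have n3 := QCohCrit.app_naturality ((Scheme.Modules.pullbackComp a b).hom.app F)
    (homOfLE (hUV.trans hVW')) (unitSec a ((Scheme.Modules.pullback b).obj F) (b ⁻¹ᵁ W)
      (unitSec b F W p))
  refine n3.trans ?_
  rw [pullbackComp_unit]
  rfl

/-- naturality of `cUV` in the open of the target. -/
theorem cUV_res_base {X Y : Scheme.{u}} (f : X ⟶ Y) (F : Y.Modules) {U U' : X.Opens}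
    {V V' : Y.Opens} (h : U ≤ f ⁻¹ᵁ V) (h' : U' ≤ f ⁻¹ᵁ V') (hU : U' ≤ U) (hV : V' ≤ V)
    (x : Γ(F, V)) :
    PBH8.cUV f F h' (F.presheaf.map (homOfLE hV).op x) =
      ((Scheme.Modules.pullback f).obj F).presheaf.map (homOfLE hU).op (PBH8.cUV f F h x) := by
  have hVV : f ⁻¹ᵁ V' ≤ f ⁻¹ᵁ V := fun z hz => hV hz
  have n1 : ((Scheme.Modules.pullbackPushforwardAdjunction f).unit.app F).app V'
        (F.presheaf.map (homOfLE hV).op x) =
      ((Scheme.Modules.pullback f).obj F).presheaf.map (homOfLE hVV).op (unitSec f F V x) :=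
    QCohCrit.app_naturality ((Scheme.Modules.pullbackPushforwardAdjunction f).unit.app F)
      (homOfLE hV) x
  change ((Scheme.Modules.pullback f).obj F).presheaf.map (homOfLE h').op
    (((Scheme.Modules.pullbackPushforwardAdjunction f).unit.app F).app V'
      (F.presheaf.map (homOfLE hV).op x)) =
    ((Scheme.Modules.pullback f).obj F).presheaf.map (homOfLE hU).op
      (((Scheme.Modules.pullback f).obj F).presheaf.map (homOfLE h).op (unitSec f F V x))
  rw [n1, map_map_sec, map_map_sec]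

section Glue

open HomLinH8 RefHullH8 QcqsLoc

variable {X : Scheme.{u}}

/-- **Gluing**: sections of the sheaf Hom over an open cover, with equal stalk maps on the
overlaps, come from a morphism. -/
theorem exists_hom_of_local (A B : X.Modules) {ι : Type*} (V : ι → X.Opens)
    (hcov : ∀ x : X, ∃ i, x ∈ V i) (l : ∀ i, Γ(RefHull.homSh A B, V i))
    (hl : ∀ i j (x : X) (hi : x ∈ V i) (hj : x ∈ V j), (l i).1 ⟨x, hi⟩ = (l j).1 ⟨x, hj⟩) :
    ∃ φ : A ⟶ B, ∀ i (O : X.Opens) (hO : O ≤ V i) (s : Γ(A, O)) (y : X) (hy : y ∈ O),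
      B.presheaf.germ O y hy (φ.app O s) = (l i).1 ⟨y, hO hy⟩ (A.presheaf.germ O y hy s) := by
  classical
  choose ix hix using hcov
  obtain ⟨f, hf⟩ : ∃ f : ∀ x : (⊤ : X.Opens), RefHull.StalkHom A B x.1,
      ∀ x, f x = (l (ix x.1)).1 ⟨x.1, hix x.1⟩ := ⟨fun x => (l (ix x.1)).1 ⟨x.1, hix x.1⟩,
    fun _ => rfl⟩
  have hfl : ∀ i (x : X) (hi : x ∈ V i), f ⟨x, trivial⟩ = (l i).1 ⟨x, hi⟩ := by
    intro i x hi
    rw [hf]
    exact hl _ _ x _ hi
  have hpred : RefHull.IsLocSect A B f := by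
    apply (RefHull.homLoc A B).locality
    intro x
    refine ⟨V (ix x.1), hix x.1, homOfLE le_top, ?_⟩
    have e : (fun z : V (ix x.1) => f ((homOfLE le_top : V (ix x.1) ⟶ ⊤) z)) =
        (l (ix x.1)).1 := by
      funext z
      exact hfl _ z.1 z.2
    change RefHull.IsLocSect A B (fun z : V (ix x.1) =>
      f ((homOfLE le_top : V (ix x.1) ⟶ ⊤) z))
    rw [e]
    exact (l (ix x.1)).2
  obtain ⟨L, hL⟩ : ∃ L : Γ(RefHull.homSh A B, (⊤ : X.Opens)), L.1 = f := ⟨⟨f, hpred⟩, rfl⟩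
  have hBasis : Opens.IsBasis (Set.range (fun O : X.Opens => O)) := by
    rw [Opens.isBasis_iff_nbhd]
    intro O x hx
    exact ⟨O, ⟨O, rfl⟩, hx, le_rfl⟩
  obtain ⟨φ, hφ⟩ := Groth.Agent.ModHomBasis.exists_hom_of_basis A B (fun O : X.Opens => O) hBasis
    (fun O s => evSec (rF (RefHull.homSh A B) (le_top : O ≤ ⊤) L) s)
    (fun O x y => evSec_add_right _ x y)
    (fun O r x => evSec_smul_right _ r x)
    (fun O O' h x => by
      rw [rF_evSec h, rF_rF])
  refine ⟨φ, fun i O hO s y hy => ?_⟩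
  rw [hφ O s, germ_evSec]
  have e1 : (rF (RefHull.homSh A B) (le_top : O ≤ ⊤) L).1 ⟨y, hy⟩ = L.1 ⟨y, trivial⟩ := rfl
  rw [e1, hL, hfl i y (hO hy)]

theorem rX_self {U : X.Opens} (h : U ≤ U) (a : Γ(X, U)) : rX h a = a := by
  change X.presheaf.map (homOfLE h).op a = a
  have : (homOfLE h).op = 𝟙 (op U) := rfl
  rw [this, X.presheaf.map_id]
  rfl

/-- The section of the sheaf Hom over an affine open defined by a linear map of sections. -/
noncomputable def linSec (A B : X.Modules) [A.IsQuasicoherent] {U : X.Opens} (hU : IsAffineOpen U)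
    (ψ : Γ(A, U) →ₗ[Γ(X, U)] Γ(B, U)) : Γ(RefHull.homSh A B, U) :=
  homOfLin A B hU (le_refl U) ψ.toAddMonoidHom (fun a m => by
    rw [rX_self]
    exact ψ.map_smul a m)

theorem linSec_germ (A B : X.Modules) [A.IsQuasicoherent] {U : X.Opens} (hU : IsAffineOpen U)
    (ψ : Γ(A, U) →ₗ[Γ(X, U)] Γ(B, U)) (y : X) (hy : y ∈ U) (m : Γ(A, U)) :
    (linSec A B hU ψ).1 ⟨y, hy⟩ (A.presheaf.germ U y hy m) = B.presheaf.germ U y hy (ψ m) :=
  homOfLin_apply A B hU (le_refl U) ψ.toAddMonoidHom _ ⟨y, hy⟩ m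

/-- The germs of the sections over an affine open span the stalk. -/
theorem span_germ_univ (A : X.Modules) [A.IsQuasicoherent] {U : X.Opens} (hU : IsAffineOpen U)
    {y : X} (hy : y ∈ U) :
    Submodule.span (X.presheaf.stalk y)
      (Set.range fun m : Γ(A, U) => (A.presheaf.germ U y hy m : A.presheaf.stalk y)) = ⊤ := by
  set p := (hU.primeIdealOf ⟨y, hy⟩).asIdeal with hp
  letI := TopCat.Presheaf.algebra_section_stalk X.presheaf (⟨y, hy⟩ : U)
  haveI : IsLocalization.AtPrime (X.presheaf.stalk y) p := hU.isLocalization_stalk ⟨y, hy⟩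
  letI modA : Module Γ(X, U) (A.presheaf.stalk y) := StalkLocH8.modSec A hy
  haveI : IsScalarTower Γ(X, U) (X.presheaf.stalk y) (A.presheaf.stalk y) :=
    IsScalarTower.of_algebraMap_smul (fun _ _ => rfl)
  haveI := StalkLocH8.isLocalizedModule_germLin A hU hy
  have h := span_eq_top_of_isLocalizedModule (X.presheaf.stalk y) p.primeCompl
    (StalkLocH8.germLin A hy) (v := Set.univ) Submodule.span_univ
  rw [Set.image_univ] at h
  exact h

/-- Linear maps on two nested affine opens which are compatible with restriction have the same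
stalk maps. -/
theorem linSec_eq_of_compat (A B : X.Modules) [A.IsQuasicoherent] {U O : X.Opens}
    (hU : IsAffineOpen U) (hO : IsAffineOpen O) (hOU : O ≤ U)
    (ψU : Γ(A, U) →ₗ[Γ(X, U)] Γ(B, U)) (ψO : Γ(A, O) →ₗ[Γ(X, O)] Γ(B, O))
    (hcompat : ∀ x : Γ(A, U), ψO (rF A hOU x) = rF B hOU (ψU x)) (y : X) (hy : y ∈ O) :
    (linSec A B hU ψU).1 ⟨y, hOU hy⟩ = (linSec A B hO ψO).1 ⟨y, hy⟩ := by
  apply LinearMap.ext_on_range (span_germ_univ A hU (hOU hy))
  intro m
  rw [linSec_germ, ← SecOrdH8.germ_rF A hOU y hy m, linSec_germ, hcompat, SecOrdH8.germ_rF]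

/-- **Gluing linear maps on affine charts.** -/
theorem exists_hom_of_charts (A B : X.Modules) [A.IsQuasicoherent] {ι : Type*}
    (V : ι → X.Opens) (hV : ∀ i, IsAffineOpen (V i))
    (ψ : ∀ i, Γ(A, V i) →ₗ[Γ(X, V i)] Γ(B, V i)) (C : ι → Prop)
    (hcov : ∀ x : X, ∃ i, C i ∧ x ∈ V i)
    (href : ∀ i j, C i → C j → ∀ x : X, x ∈ V i → x ∈ V j →
      ∃ o, x ∈ V o ∧ ∃ (h1 : V o ≤ V i) (h2 : V o ≤ V j),
        (∀ s, ψ o (rF A h1 s) = rF B h1 (ψ i s)) ∧ (∀ s, ψ o (rF A h2 s) = rF B h2 (ψ j s))) :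
    ∃ φ : A ⟶ B, ∀ i, C i → ∀ s : Γ(A, V i), φ.app (V i) s = ψ i s := by
  obtain ⟨φ, hφ⟩ := exists_hom_of_local A B (fun i : {i // C i} => V i.1)
    (fun x => by
      obtain ⟨i, hi, hx⟩ := hcov x
      exact ⟨⟨i, hi⟩, hx⟩)
    (fun i => linSec A B (hV i.1) (ψ i.1))
    (fun i j x hi hj => by
      obtain ⟨o, hxo, h1, h2, c1, c2⟩ := href i.1 j.1 i.2 j.2 x hi hj
      rw [linSec_eq_of_compat A B (hV i.1) (hV o) h1 (ψ i.1) (ψ o) c1 x hxo,
        linSec_eq_of_compat A B (hV j.1) (hV o) h2 (ψ j.1) (ψ o) c2 x hxo])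
  refine ⟨φ, fun i hi s => ?_⟩
  refine TopCat.Presheaf.section_ext ⟨B.presheaf, B.isSheaf⟩ (V i) _ _ (fun y hy => ?_)
  rw [hφ ⟨i, hi⟩ (V i) le_rfl s y hy]
  exact linSec_germ A B (hV i) (ψ i) y hy s

end Glue

end Groth.Agent.Lib.LimMod
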