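import Mathlib
import Groth.Prelude.Def_CohCmp

/-!
# Functoriality of the pullback maps on cohomology (helper2)
APPEND-ONLY once landed.

`CohPull.pullAb`, `CohPull.pullMod`: naturality in the sheaf and compatibility with the
connecting homomorphisms of short exact sequences.
-/

set_option autoImplicit false
set_option backward.isDefEq.respectTransparency false
set_option linter.style.haveILetI false
set_option linter.unusedSectionVars false
universe u

namespace Groth.Agent.Lib.PullFnH2

open CategoryTheory CategoryTheory.Limits AlgebraicGeometry AlgebraicGeometry.Scheme.Modules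
  TopologicalSpace Opposite Abelian

section Top

variable {X Y : TopCat.{u}}

/-- connecting homomorphism of a short exact sequence of abelian sheaves on a space -/
noncomputable abbrev extδ {S : ShortComplex (CohTop.Ab X)} (hS : S.ShortExact) (p : ℕ) :
    Sheaf.H S.X₃ p →+ Sheaf.H S.X₁ (p + 1) :=
  hS.extClass.postcomp (CohTop.const X (ULift.{u} ℤ)) rfl

lemma extδ_apply {S : ShortComplex (CohTop.Ab X)} (hS : S.ShortExact) (p : ℕ) (x : Sheaf.H S.X₃ p) :
    extδ hS p x = x.comp hS.extClass rfl := rfl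

variable (f : X ⟶ Y)

lemma pullAb_apply (M : CohTop.Ab Y) (p : ℕ) (x : Sheaf.H M p) :
    CohPull.pullAb f M p x =
      (Ext.mk₀ (CohPull.oneTo f)).comp (x.mapExactFunctor (CohPull.inv f)) (zero_add p) := rfl

theorem pullAb_map {M N : CohTop.Ab Y} (φ : M ⟶ N) (p : ℕ) (x : Sheaf.H M p) :
    CohPull.pullAb f N p (Sheaf.H.map φ p x) =
      Sheaf.H.map ((CohPull.inv f).map φ) p (CohPull.pullAb f M p x) := by
  rw [pullAb_apply, pullAb_apply, Sheaf.H.map_apply, Sheaf.H.map_apply,
    Ext.mapExactFunctor_comp, Ext.mapExactFunctor_mk₀]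
  rw [Ext.comp_assoc]
  all_goals omega

theorem pullAb_extδ {S : ShortComplex (CohTop.Ab Y)} (hS : S.ShortExact) (p : ℕ)
    (x : Sheaf.H S.X₃ p) :
    CohPull.pullAb f S.X₁ (p + 1) (extδ hS p x) =
      extδ (hS.map_of_exact (CohPull.inv f)) p (CohPull.pullAb f S.X₃ p x) := by
  rw [pullAb_apply, pullAb_apply, extδ_apply, extδ_apply,
    Ext.mapExactFunctor_comp, Ext.mapExactFunctor_extClass]
  rw [Ext.comp_assoc]
  all_goals omega

theorem Hmap_extδ {S S' : ShortComplex (CohTop.Ab X)} (hS : S.ShortExact) (hS' : S'.ShortExact)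
    (φ : S ⟶ S') (p : ℕ) (x : Sheaf.H S.X₃ p) :
    Sheaf.H.map φ.τ₁ (p + 1) (extδ hS p x) = extδ hS' p (Sheaf.H.map φ.τ₃ p x) := by
  rw [Sheaf.H.map_apply, Sheaf.H.map_apply, extδ_apply, extδ_apply]
  rw [Ext.comp_assoc x hS.extClass (Ext.mk₀ φ.τ₁) rfl (add_zero 1) (by omega),
    ShortComplex.ShortExact.extClass_naturality hS hS' φ,
    Ext.comp_assoc x (Ext.mk₀ φ.τ₃) hS'.extClass (add_zero p) (zero_add 1) (by omega)]

end Top

end Groth.Agent.Lib.PullFnH2
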