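import Mathlib

namespace Groth.Agent.Lib.DerivedCommH8

open CategoryTheory Limits Category

variable {A : Type*} [Category A] [Abelian A] {A' : Type*} [Category A'] [Abelian A']
  {B : Type*} [Category B] [Abelian B] {B' : Type*} [Category B'] [Abelian B']

section MapRes

variable (G : A ⥤ A') [G.Additive] [G.PreservesHomology] [G.PreservesInjectiveObjects]

/-- The image of an injective resolution under an exact functor preserving injectives. -/
noncomputable def mapInjRes {X : A} (I : InjectiveResolution X) :
    InjectiveResolution (G.obj X) where
  cocomplex := (G.mapHomologicalComplex _).obj I.cocomplex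
  injective n := G.injective_obj (I.cocomplex.X n)
  ι := (HomologicalComplex.singleMapHomologicalComplex G (ComplexShape.up ℕ) 0).inv.app X ≫
    (G.mapHomologicalComplex _).map I.ι
  quasiIso := by infer_instance

lemma mapInjRes_ι_f_zero {X : A} (I : InjectiveResolution X) :
    (mapInjRes G I).ι.f 0 = G.map (I.ι.f 0) := by
  simp [mapInjRes]
  exact Category.id_comp _

section

variable [HasInjectiveResolutions A] [HasInjectiveResolutions A']
  (F' : A' ⥤ B') [F'.Additive]

/-- Right derived functors commute with precomposition by an exact functor preserving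
injective objects. -/
noncomputable def rightDerivedPrecompIso (n : ℕ) :
    (G ⋙ F').rightDerived n ≅ G ⋙ F'.rightDerived n :=
  NatIso.ofComponents (fun X => (injectiveResolution X).isoRightDerivedObj (G ⋙ F') n ≪≫
      ((mapInjRes G (injectiveResolution X)).isoRightDerivedObj F' n).symm)
    (by
      intro X Y f
      have comm := InjectiveResolution.desc_commutes_zero f (injectiveResolution Y)
        (injectiveResolution X)
      have comm' : (mapInjRes G (injectiveResolution X)).ι.f 0 ≫
          ((G.mapHomologicalComplex _).map (InjectiveResolution.desc f (injectiveResolution Y)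
            (injectiveResolution X))).f 0 =
          G.map f ≫ (mapInjRes G (injectiveResolution Y)).ι.f 0 := by
        rw [mapInjRes_ι_f_zero, mapInjRes_ι_f_zero]
        exact ((G.map_comp _ _).symm.trans (congrArg G.map comm)).trans (G.map_comp _ _)
      have h1 := InjectiveResolution.isoRightDerivedObj_hom_naturality f (injectiveResolution X)
        (injectiveResolution Y) _ comm (G ⋙ F') n
      have h2 := InjectiveResolution.isoRightDerivedObj_inv_naturality (G.map f)
        (mapInjRes G (injectiveResolution X)) (mapInjRes G (injectiveResolution Y)) _ comm' F' n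
      dsimp only [Iso.trans_hom, Iso.symm_hom, Functor.comp_map]
      rw [reassoc_of% h1, Category.assoc]
      refine congrArg (_ ≫ ·) ?_
      exact h2.symm)

end

end MapRes

section PostComp

variable {ι : Type*} (c : ComplexShape ι) (H : B ⥤ B') [H.Additive] [H.PreservesHomology]

/-- Homology commutes with a functor preserving homology (complex level). -/
noncomputable def homologyCompIso (n : ι) :
    H.mapHomologicalComplex c ⋙ HomologicalComplex.homologyFunctor B' c n ≅
      HomologicalComplex.homologyFunctor B c n ⋙ H :=
  NatIso.ofComponents (fun K => (K.sc n).mapHomologyIso H)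
    (fun f => ShortComplex.mapHomologyIso_hom_naturality
      ((HomologicalComplex.shortComplexFunctor B c n).map f) H)

/-- Homology commutes with a functor preserving homology (homotopy category level). -/
noncomputable def homotopyHomologyCompIso (n : ι) :
    H.mapHomotopyCategory c ⋙ HomotopyCategory.homologyFunctor B' c n ≅
      HomotopyCategory.homologyFunctor B c n ⋙ H :=
  Quotient.natIsoLift _
    ((Functor.associator _ _ _).symm ≪≫
      Functor.isoWhiskerRight (H.mapHomotopyCategoryFactors c) _ ≪≫
      Functor.associator _ _ _ ≪≫
      Functor.isoWhiskerLeft _ (HomotopyCategory.homologyFunctorFactors B' c n) ≪≫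
      homologyCompIso c H n ≪≫
      Functor.isoWhiskerRight (HomotopyCategory.homologyFunctorFactors B c n).symm H ≪≫
      Functor.associator _ _ _)

/-- Right derived functors commute with postcomposition by an exact functor. -/
noncomputable def rightDerivedPostcompIso [HasInjectiveResolutions A] (F : A ⥤ B) [F.Additive]
    (n : ℕ) : (F ⋙ H).rightDerived n ≅ F.rightDerived n ⋙ H :=
  Functor.isoWhiskerRight
      (Functor.isoWhiskerLeft (injectiveResolutions A)
        (Functor.mapHomotopyCategoryCompIso (Iso.refl (F ⋙ H)) _).symm ≪≫
        (Functor.associator _ _ _).symm) _ ≪≫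
    Functor.associator _ _ _ ≪≫
    Functor.isoWhiskerLeft _ (homotopyHomologyCompIso _ H n) ≪≫
    (Functor.associator _ _ _).symm

end PostComp

section NatIso

variable [HasInjectiveResolutions A]

/-- A natural isomorphism of additive functors induces an isomorphism on right derived
functors. -/
noncomputable def rightDerivedNatIso {F₁ F₂ : A ⥤ B} [F₁.Additive] [F₂.Additive] (e : F₁ ≅ F₂)
    (n : ℕ) : F₁.rightDerived n ≅ F₂.rightDerived n where
  hom := NatTrans.rightDerived e.hom n
  inv := NatTrans.rightDerived e.inv n
  hom_inv_id := by rw [← NatTrans.rightDerived_comp, e.hom_inv_id, NatTrans.rightDerived_id]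
  inv_hom_id := by rw [← NatTrans.rightDerived_comp, e.inv_hom_id, NatTrans.rightDerived_id]

end NatIso

section Main

variable [HasInjectiveResolutions A] [HasInjectiveResolutions A']

/-- Base change for right derived functors: if `F ⋙ H ≅ G ⋙ F'` with `H` exact and `G` exact
preserving injectives, then `RⁿF ⋙ H ≅ G ⋙ RⁿF'`. -/
noncomputable def rightDerivedBaseChange (F : A ⥤ B) [F.Additive] (F' : A' ⥤ B') [F'.Additive]
    (G : A ⥤ A') [G.Additive] [G.PreservesHomology] [G.PreservesInjectiveObjects]
    (H : B ⥤ B') [H.Additive] [H.PreservesHomology] (e : F ⋙ H ≅ G ⋙ F') (n : ℕ) :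
    F.rightDerived n ⋙ H ≅ G ⋙ F'.rightDerived n :=
  (rightDerivedPostcompIso H F n).symm ≪≫ rightDerivedNatIso e n ≪≫ rightDerivedPrecompIso G F' n

end Main

end Groth.Agent.Lib.DerivedCommH8
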