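import Mathlib
import Groth.Agent.Lib.ModSite9_helper8

namespace Groth.Agent.Lib.ModSiteH8
open CategoryTheory Limits Opposite MonoidalCategory ModSite

universe u

variable {C : Type u} [SmallCategory C] {J : GrothendieckTopology C}
variable (O : Sheaf J CommRingCat.{u}) (X : C)

/-- presheaf-level restriction to `C/X` -/
noncomputable def r0 : PM O.obj ⥤ PM (O.over X).obj :=
  PresheafOfModules.pushforward₀OfCommRingCat (Over.forget X) O.obj

lemma r0_ELS {P P' : PM O.obj} (β : P ⟶ P') (h : ELS J β) :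
    ELS (J.over X) ((r0 O X).map β) := by
  intro Y b
  obtain ⟨S₀, hS₀, hl⟩ := h (op Y.unop.left) b
  refine ⟨(Sieve.overEquiv Y.unop).symm S₀, J.overEquiv_symm_mem_over Y.unop S₀ hS₀, ?_⟩
  intro V f hf
  obtain ⟨t, ht⟩ := hl f.left hf
  exact ⟨t, ht⟩

lemma r0_ELI {P P' : PM O.obj} (β : P ⟶ P') (h : ELI J β) :
    ELI (J.over X) ((r0 O X).map β) := by
  intro Y x hx
  obtain ⟨S₀, hS₀, hl⟩ := h (op Y.unop.left) x hx
  refine ⟨(Sieve.overEquiv Y.unop).symm S₀, J.overEquiv_symm_mem_over Y.unop S₀ hS₀, ?_⟩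
  intro V f hf
  exact hl f.left hf


theorem isIso_adj_of_ELS_ELI {P₀ : PM O.obj} {S : Mod O} (γ : P₀ ⟶ (iF O).obj S)
    (hs : ELS J γ) (hi : ELI J γ) : IsIso (((adjLf O).homEquiv P₀ S).symm γ) := by
  let g := ((adjLf O).homEquiv P₀ S).symm γ
  have h1 : γ = (adjLf O).unit.app P₀ ≫ (iF O).map g :=
    (((adjLf O).homEquiv_unit P₀ S g).symm.trans (Equiv.apply_symm_apply _ γ)).symm
  have h2 : IsIso ((Lf O).map γ) := isIso_sheafify_map_of_ELS_ELI O γ hs hi
  haveI h3 : IsIso ((Lf O).map ((adjLf O).unit.app P₀)) :=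
    isIso_sheafify_map_of_ELS_ELI O _ (etaP_ELS O P₀) (etaP_ELI O P₀)
  haveI h4 : IsIso ((Lf O).map ((iF O).map g)) := by
    rw [h1, Functor.map_comp] at h2
    exact IsIso.of_isIso_comp_left ((Lf O).map ((adjLf O).unit.app P₀)) _
  have h5 : (Lf O).map ((iF O).map g) ≫ (adjLf O).counit.app S =
      (adjLf O).counit.app _ ≫ g := (adjLf O).counit.naturality g
  have h6 : g = inv ((adjLf O).counit.app _) ≫ (Lf O).map ((iF O).map g) ≫
      (adjLf O).counit.app S := by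
    rw [h5]
    exact (IsIso.inv_hom_id_assoc _ _).symm
  show IsIso g
  rw [h6]
  infer_instance

noncomputable instance : (r0 O X).Monoidal :=
  inferInstanceAs (PresheafOfModules.pushforward₀OfCommRingCat (Over.forget X) O.obj).Monoidal

theorem restr_tensor_iso (M N : Mod O) :
    Nonempty ((restr O X).obj (((tensorBi O).obj M).obj N) ≅
      ((tensorBi (O.over X)).obj ((restr O X).obj M)).obj ((restr O X).obj N)) := by
  let Q : PM O.obj := (iF O).obj M ⊗ (iF O).obj N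
  let γ : (r0 O X).obj Q ⟶ (iF (O.over X)).obj ((restr O X).obj ((Lf O).obj Q)) :=
    (r0 O X).map ((adjLf O).unit.app Q)
  haveI := isIso_adj_of_ELS_ELI (O.over X) γ (r0_ELS O X _ (etaP_ELS O Q))
    (r0_ELI O X _ (etaP_ELI O Q))
  let e1 : (Lf (O.over X)).obj ((r0 O X).obj Q) ≅ (restr O X).obj ((Lf O).obj Q) :=
    asIso (((adjLf (O.over X)).homEquiv _ _).symm γ)
  let e2 : (r0 O X).obj Q ≅ (r0 O X).obj ((iF O).obj M) ⊗ (r0 O X).obj ((iF O).obj N) :=
    (Functor.Monoidal.μIso (r0 O X) _ _).symm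
  exact ⟨e1.symm ≪≫ (Lf (O.over X)).mapIso e2⟩

end Groth.Agent.Lib.ModSiteH8
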