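import Mathlib
import Groth.Agent.Lib.ModSite10_helper8

namespace Groth.Agent.Lib.ModSiteH8
open CategoryTheory Limits Opposite MonoidalCategory ModSite

universe u

section ModHelpers
variable {R : Type u} [CommRing R]

/-- maps out of `free S ⊗ N` -/
noncomputable def freeTensorDesc {S : Type u} {N Q : ModuleCat.{u} R} (ψ : S → (N ⟶ Q)) :
    ((ModuleCat.free R).obj S ⊗ N : ModuleCat.{u} R) ⟶ Q :=
  ModuleCat.ofHom (TensorProduct.lift (Finsupp.linearCombination R (fun s => (ψ s).hom)))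

lemma freeTensorDesc_apply {S : Type u} {N Q : ModuleCat.{u} R} (ψ : S → (N ⟶ Q)) (s : S) (n : N) :
    freeTensorDesc ψ ((ModuleCat.freeMk s : (ModuleCat.free R).obj S) ⊗ₜ n) = ψ s n := by
  show (TensorProduct.lift (Finsupp.linearCombination R fun s => (ψ s).hom))
    ((Finsupp.single s (1 : R)) ⊗ₜ[R] n) = (ψ s).hom n
  rw [TensorProduct.lift.tmul, Finsupp.linearCombination_single, one_smul]

lemma freeTensor_hom_ext {S : Type u} {N Q : ModuleCat.{u} R}
    {f g : ((ModuleCat.free R).obj S ⊗ N : ModuleCat.{u} R) ⟶ Q}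
    (h : ∀ (s : S) (n : N), f ((ModuleCat.freeMk s : (ModuleCat.free R).obj S) ⊗ₜ n) =
      g ((ModuleCat.freeMk s : (ModuleCat.free R).obj S) ⊗ₜ n)) : f = g := by
  apply ModuleCat.hom_ext
  apply TensorProduct.ext
  apply Finsupp.lhom_ext'
  intro s
  apply LinearMap.ext_ring
  ext n
  exact h s n

end ModHelpers


variable {C : Type u} [SmallCategory C] {J : GrothendieckTopology C}
variable (O : Sheaf J CommRingCat.{u}) (X : C)

/-- the basis element of `freeY O X` over `V` attached to `f : V ⟶ X` -/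
noncomputable def eY {V : C} (f : V ⟶ X) : (freeY O X).obj (op V) :=
  ModuleCat.freeMk (R := O.obj.obj (op V)) (X := (yoneda.obj X).obj (op V)) f

lemma freeY_map_eY {V W : C} (g : W ⟶ V) (f : V ⟶ X) :
    (freeY O X).map g.op (eY O X f) = eY O X (g ≫ f) := by
  show ModuleCat.freeDesc _ (ModuleCat.freeMk _) = _
  rw [ModuleCat.freeDesc_apply]
  rfl

/-- component of `toOver` -/
noncomputable def toOverApp {P Q : PM O.obj} (φ : freeY O X ⊗ P ⟶ Q) {V : C} (f : V ⟶ X) :
    P.obj (op V) ⟶ Q.obj (op V) :=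
  ModuleCat.ofHom ((φ.app (op V)).hom ∘ₗ
    (TensorProduct.mk (O.obj.obj (op V)) ((freeY O X).obj (op V)) (P.obj (op V)) (eY O X f)))

lemma toOverApp_apply {P Q : PM O.obj} (φ : freeY O X ⊗ P ⟶ Q) {V : C} (f : V ⟶ X)
    (p : P.obj (op V)) : toOverApp O X φ f p = φ.app (op V) (eY O X f ⊗ₜ p) := rfl

lemma tensor_map_eY {P : PM O.obj} {V W : C} (g : W ⟶ V) (f : V ⟶ X) (p : P.obj (op V)) :
    (freeY O X ⊗ P).map g.op (eY O X f ⊗ₜ p) = (eY O X (g ≫ f) ⊗ₜ P.map g.op p) := by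
  refine Eq.trans ?_ (congrArg (fun z => z ⊗ₜ[O.obj.obj (op W)] (P.map g.op p)) (freeY_map_eY O X g f))
  rfl

/-- from maps out of `freeY X ⊗ P` to maps over `C/X` -/
noncomputable def toOver {P Q : PM O.obj} (φ : freeY O X ⊗ P ⟶ Q) :
    (r0 O X).obj P ⟶ (r0 O X).obj Q where
  app Y := toOverApp O X φ Y.unop.hom
  naturality {Y Y'} g := by
    ext p
    show toOverApp O X φ Y'.unop.hom (P.map g.unop.left.op p) =
      Q.map g.unop.left.op (toOverApp O X φ Y.unop.hom p)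
    rw [toOverApp_apply, toOverApp_apply]
    refine Eq.trans ?_ (PresheafOfModules.naturality_apply φ g.unop.left.op _)
    refine congrArg (φ.app (op Y'.unop.left)) ?_
    refine Eq.trans ?_ (tensor_map_eY O X g.unop.left Y.unop.hom p).symm
    rw [Over.w]
    rfl

lemma toOver_app_apply {P Q : PM O.obj} (φ : freeY O X ⊗ P ⟶ Q) (Y : (Over X)ᵒᵖ)
    (p : P.obj (op Y.unop.left)) :
    (toOver O X φ).app Y p = φ.app (op Y.unop.left) (eY O X Y.unop.hom ⊗ₜ p) := rfl

/-- component of `fromOver` -/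
noncomputable def fromOverApp {P Q : PM O.obj} (ψ : (r0 O X).obj P ⟶ (r0 O X).obj Q) (V : Cᵒᵖ) :
    (freeY O X ⊗ P).obj V ⟶ Q.obj V :=
  freeTensorDesc (R := O.obj.obj V) (S := (yoneda.obj X).obj V) (N := P.obj V) (Q := Q.obj V)
    (fun f => ψ.app (op (Over.mk f)))

lemma fromOverApp_apply {P Q : PM O.obj} (ψ : (r0 O X).obj P ⟶ (r0 O X).obj Q) (V : Cᵒᵖ)
    (f : V.unop ⟶ X) (p : P.obj V) :
    fromOverApp O X ψ V (eY O X f ⊗ₜ p) = ψ.app (op (Over.mk f)) p :=
  freeTensorDesc_apply (R := O.obj.obj V) (S := (yoneda.obj X).obj V) (N := P.obj V) (Q := Q.obj V)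
    (fun f => ψ.app (op (Over.mk f))) f p

/-- from maps over `C/X` to maps out of `freeY X ⊗ P` -/
noncomputable def fromOver {P Q : PM O.obj} (ψ : (r0 O X).obj P ⟶ (r0 O X).obj Q) :
    freeY O X ⊗ P ⟶ Q where
  app V := fromOverApp O X ψ V
  naturality {V W} g := by
    refine freeTensor_hom_ext (R := O.obj.obj V) (S := (yoneda.obj X).obj V) (N := P.obj V) ?_
    intro f p
    show fromOverApp O X ψ W ((freeY O X ⊗ P).map g (eY O X f ⊗ₜ p)) =
      Q.map g (fromOverApp O X ψ V (eY O X f ⊗ₜ p))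
    rw [fromOverApp_apply]
    have h1 := tensor_map_eY O X (P := P) g.unop f p
    refine (congrArg (fromOverApp O X ψ W) h1).trans ?_
    refine (fromOverApp_apply O X ψ W (g.unop ≫ f) (P.map g p)).trans ?_
    exact PresheafOfModules.naturality_apply ψ
      (X := op (Over.mk f)) (Y := op (Over.mk (g.unop ≫ f)))
      (Over.homMk g.unop rfl : Over.mk (g.unop ≫ f) ⟶ Over.mk f).op p

lemma fromOver_app_apply {P Q : PM O.obj} (ψ : (r0 O X).obj P ⟶ (r0 O X).obj Q) (V : Cᵒᵖ)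
    (f : V.unop ⟶ X) (p : P.obj V) :
    (fromOver O X ψ).app V (eY O X f ⊗ₜ p) = ψ.app (op (Over.mk f)) p :=
  fromOverApp_apply O X ψ V f p

/-- `Hom(freeY X ⊗ P, Q) ≃ Hom(P|_X, Q|_X)` at the presheaf level -/
noncomputable def toOverEquiv (P Q : PM O.obj) :
    (freeY O X ⊗ P ⟶ Q) ≃ ((r0 O X).obj P ⟶ (r0 O X).obj Q) where
  toFun := toOver O X
  invFun := fromOver O X
  left_inv φ := by
    apply PresheafOfModules.hom_ext
    intro V
    refine freeTensor_hom_ext (R := O.obj.obj V) (S := (yoneda.obj X).obj V) (N := P.obj V) ?_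
    intro f p
    exact (fromOver_app_apply O X (toOver O X φ) V f p).trans
      (toOver_app_apply O X φ (op (Over.mk f)) p)
  right_inv ψ := by
    ext Y p
    exact (toOver_app_apply O X (fromOver O X ψ) Y p).trans
      (fromOver_app_apply O X ψ (op Y.unop.left) Y.unop.hom p)

lemma toOver_comp {P Q Q' : PM O.obj} (φ : freeY O X ⊗ P ⟶ Q) (ρ : Q ⟶ Q') :
    toOver O X (φ ≫ ρ) = toOver O X φ ≫ (r0 O X).map ρ := by
  ext Y p
  rfl

lemma toOver_add {P Q : PM O.obj} (φ φ' : freeY O X ⊗ P ⟶ Q) :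
    toOver O X (φ + φ') = toOver O X φ + toOver O X φ' := by
  ext Y p
  rfl

/-- `freeOn X ⊗ M ≅ L(freeY X ⊗ iM)` -/
noncomputable def freeTensorIso (M : Mod O) :
    ((tensorBi O).obj (freeOn O X)).obj M ≅ (Lf O).obj (freeY O X ⊗ (iF O).obj M) :=
  (((tensorBi O).mapIso (freeOnIso O X)).app M).symm ≪≫
    (@asIso _ _ _ _ ((Lf O).map ((adjLf O).unit.app (freeY O X) ▷ (iF O).obj M))
      (isIso_Lf_unit_whiskerRight O _ _)).symm

/-- sheaf-level maps from presheaf-level maps over `C/X` -/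
noncomputable def overPreimage (M G : Mod O) :
    ((r0 O X).obj ((iF O).obj M) ⟶ (r0 O X).obj ((iF O).obj G)) ≃
      ((restr O X).obj M ⟶ (restr O X).obj G) where
  toFun ψ := ⟨ψ⟩
  invFun k := k.val
  left_inv _ := rfl
  right_inv _ := rfl

/-- hom-set description -/
noncomputable def extZeroHomEquiv (M G : Mod O) :
    ((Lf O).obj (freeY O X ⊗ (iF O).obj M) ⟶ G) ≃
      ((extZero O X).obj ((restr O X).obj M) ⟶ G) :=
  ((adjLf O).homEquiv _ G).trans ((toOverEquiv O X _ _).trans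
    ((overPreimage O X M G).trans ((extZeroAdj O X).homEquiv _ _).symm))

lemma extZeroHomEquiv_comp (M : Mod O) {G G' : Mod O}
    (h : (Lf O).obj (freeY O X ⊗ (iF O).obj M) ⟶ G) (g : G ⟶ G') :
    extZeroHomEquiv O X M G' (h ≫ g) = extZeroHomEquiv O X M G h ≫ g := by
  show ((extZeroAdj O X).homEquiv _ _).symm (overPreimage O X M G'
    (toOver O X ((adjLf O).homEquiv _ G' (h ≫ g)))) =
    ((extZeroAdj O X).homEquiv _ _).symm (overPreimage O X M G
    (toOver O X ((adjLf O).homEquiv _ G h))) ≫ g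
  rw [← Adjunction.homEquiv_naturality_right_symm]
  congr 1

theorem freeOn_tensor_iso (M : Mod O) :
    Nonempty (((tensorBi O).obj (freeOn O X)).obj M ≅
      (extZero O X).obj ((restr O X).obj M)) :=
  ⟨freeTensorIso O X M ≪≫ isoOfHomEquiv (extZeroHomEquiv O X M)
    (fun h g => extZeroHomEquiv_comp O X M h g)⟩

end Groth.Agent.Lib.ModSiteH8
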