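import Mathlib
import Groth.Agent.Lib.ModSite12_helper8

namespace Groth.Agent.Lib.ModSiteH8
open CategoryTheory Limits Opposite MonoidalCategory ModSite

universe u

variable {C : Type u} [SmallCategory C] {J : GrothendieckTopology C}
variable (O : Sheaf J CommRingCat.{u}) (V : C)

noncomputable section ShrDef
open Classical

/-- the ring of sections over `W` -/
abbrev RW (W : Cᵒᵖ) : RingCat.{u} := (O.obj ⋙ forget₂ CommRingCat.{u} RingCat.{u}).obj W

variable (N : PM (O.over V).obj)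

/-- the component of `j_!^{pre} N` over `W` at `φ : W ⟶ V` -/
abbrev cmp (W : Cᵒᵖ) (φ : W.unop ⟶ V) : ModuleCat.{u} (RW O W) := N.obj (op (Over.mk φ))

/-- sections of `j_!^{pre} N` over `W` -/
abbrev Sec (W : Cᵒᵖ) : Type u := DirectSum (W.unop ⟶ V) (fun φ => cmp O V N W φ)

/-- transition maps -/
def tr {W W' : Cᵒᵖ} (a : W'.unop ⟶ W.unop) (φ : W.unop ⟶ V) (ψ : W'.unop ⟶ V)
    (h : a ≫ φ = ψ) : cmp O V N W φ →+ cmp O V N W' ψ :=
  (N.presheaf.map (Over.homMk a h : Over.mk ψ ⟶ Over.mk φ).op).hom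

lemma tr_id {W : Cᵒᵖ} (φ : W.unop ⟶ V) (x : cmp O V N W φ) :
    tr O V N (𝟙 W.unop) φ φ (Category.id_comp φ) x = x := by
  have h1 : (Over.homMk (𝟙 W.unop) (Category.id_comp φ) : Over.mk φ ⟶ Over.mk φ) = 𝟙 _ := rfl
  show (N.presheaf.map
    (Over.homMk (𝟙 W.unop) (Category.id_comp φ) : Over.mk φ ⟶ Over.mk φ).op).hom x = x
  rw [h1, op_id, N.presheaf.map_id]
  rfl

omit J O N in
lemma comp_w {W W' W'' : Cᵒᵖ} {a : W'.unop ⟶ W.unop} {b : W''.unop ⟶ W'.unop}
    {φ : W.unop ⟶ V} {ψ : W'.unop ⟶ V} {χ : W''.unop ⟶ V} (h : a ≫ φ = ψ) (h' : b ≫ ψ = χ) :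
    (b ≫ a) ≫ φ = χ := by rw [Category.assoc, h, h']

lemma tr_tr {W W' W'' : Cᵒᵖ} (a : W'.unop ⟶ W.unop) (b : W''.unop ⟶ W'.unop)
    (φ : W.unop ⟶ V) (ψ : W'.unop ⟶ V) (χ : W''.unop ⟶ V) (h : a ≫ φ = ψ) (h' : b ≫ ψ = χ)
    (x : cmp O V N W φ) :
    tr O V N b ψ χ h' (tr O V N a φ ψ h x) =
      tr O V N (b ≫ a) φ χ (comp_w V h h') x := by
  have h1 : (Over.homMk (b ≫ a) (comp_w V h h') : Over.mk χ ⟶ Over.mk φ) =
      (Over.homMk b h' : Over.mk χ ⟶ Over.mk ψ) ≫ (Over.homMk a h : Over.mk ψ ⟶ Over.mk φ) := rfl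
  show _ = (N.presheaf.map
    (Over.homMk (b ≫ a) (comp_w V h h') : Over.mk χ ⟶ Over.mk φ).op).hom x
  rw [h1, op_comp, N.presheaf.map_comp]
  rfl

lemma of_tr_congr {W W' : Cᵒᵖ} (a : W'.unop ⟶ W.unop) (φ : W.unop ⟶ V) {ψ ψ' : W'.unop ⟶ V}
    (h : a ≫ φ = ψ) (e : ψ = ψ') (x : cmp O V N W φ) :
    DirectSum.of (fun χ => cmp O V N W' χ) ψ (tr O V N a φ ψ h x) =
      DirectSum.of (fun χ => cmp O V N W' χ) ψ' (tr O V N a φ ψ' (h.trans e) x) := by
  subst e; rfl

lemma tr_smul {W W' : Cᵒᵖ} (a : W'.unop ⟶ W.unop) (φ : W.unop ⟶ V) (ψ : W'.unop ⟶ V)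
    (h : a ≫ φ = ψ) (r : RW O W) (x : cmp O V N W φ) :
    tr O V N a φ ψ h (r • x) =
      (((O.obj ⋙ forget₂ CommRingCat.{u} RingCat.{u}).map a.op).hom r : RW O W') •
        tr O V N a φ ψ h x :=
  PresheafOfModules.map_smul N (Over.homMk a h : Over.mk ψ ⟶ Over.mk φ).op r x

/-- restriction maps of `j_!^{pre} N` -/
def resMap {W W' : Cᵒᵖ} (g : W ⟶ W') : Sec O V N W →+ Sec O V N W' :=
  DirectSum.toAddMonoid (fun φ =>
    (DirectSum.of (fun χ => cmp O V N W' χ) (g.unop ≫ φ)).comp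
      (tr O V N g.unop φ (g.unop ≫ φ) rfl))

lemma resMap_of {W W' : Cᵒᵖ} (g : W ⟶ W') (φ : W.unop ⟶ V) (x : cmp O V N W φ) :
    resMap O V N g (DirectSum.of (fun χ => cmp O V N W χ) φ x) =
      DirectSum.of (fun χ => cmp O V N W' χ) (g.unop ≫ φ)
        (tr O V N g.unop φ (g.unop ≫ φ) rfl x) :=
  DirectSum.toAddMonoid_of _ _ _

/-- the underlying abelian presheaf of `j_!^{pre} N` -/
def shrAb : Cᵒᵖ ⥤ Ab.{u} where
  obj W := AddCommGrpCat.of (Sec O V N W)
  map g := AddCommGrpCat.ofHom (resMap O V N g)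
  map_id W := by
    apply AddCommGrpCat.hom_ext
    apply DirectSum.addHom_ext
    intro φ x
    show resMap O V N (𝟙 W) (DirectSum.of _ φ x) = DirectSum.of _ φ x
    rw [resMap_of]
    exact (of_tr_congr O V N (𝟙 W.unop) φ rfl (Category.id_comp φ) x).trans
      (congrArg (DirectSum.of (fun χ => cmp O V N W χ) φ) (tr_id O V N φ x))
  map_comp {W W' W''} g g' := by
    apply AddCommGrpCat.hom_ext
    apply DirectSum.addHom_ext
    intro φ x
    show resMap O V N (g ≫ g') (DirectSum.of _ φ x) =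
      resMap O V N g' (resMap O V N g (DirectSum.of _ φ x))
    refine (resMap_of O V N (g ≫ g') φ x).trans ?_
    refine Eq.trans ?_ (congrArg (resMap O V N g') (resMap_of O V N g φ x)).symm
    refine Eq.trans ?_ (resMap_of O V N g' _ _).symm
    refine Eq.trans ?_ (congrArg (DirectSum.of (fun χ => cmp O V N W'' χ) _)
      (tr_tr O V N g.unop g'.unop φ _ _ rfl rfl x)).symm
    exact of_tr_congr O V N (g'.unop ≫ g.unop) φ rfl (Category.assoc _ _ _) x

instance shrAbModule (W : Cᵒᵖ) : Module (RW O W) ((shrAb O V N).obj W) :=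
  inferInstanceAs (Module (RW O W) (Sec O V N W))

lemma shrAb_map_smul {W W' : Cᵒᵖ} (g : W ⟶ W') (r : RW O W) (m : Sec O V N W) :
    resMap O V N g (r • m) =
      (((O.obj ⋙ forget₂ CommRingCat.{u} RingCat.{u}).map g).hom r : RW O W') •
        resMap O V N g m := by
  induction m using DirectSum.induction_on with
  | zero => simp
  | of φ x =>
    rw [← DirectSum.of_smul, resMap_of, resMap_of, tr_smul, DirectSum.of_smul]
    rfl
  | add a b ha hb => rw [smul_add, map_add, map_add, smul_add, ha, hb]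

/-- the presheaf of modules `j_!^{pre} N` -/
def shrObj : PM O.obj :=
  PresheafOfModules.ofPresheaf (R := O.obj ⋙ forget₂ CommRingCat.{u} RingCat.{u}) (shrAb O V N)
    (fun _ _ g r m => shrAb_map_smul O V N g r m)

end ShrDef

noncomputable section ShrAdj
open Classical

variable (N : PM (O.over V).obj)

/-- the inclusion of a component -/
def ιShr (W : Cᵒᵖ) (φ : W.unop ⟶ V) : cmp O V N W φ ⟶ (shrObj O V N).obj W :=
  ModuleCat.ofHom (R := RW O W) (X := cmp O V N W φ) (Y := Sec O V N W)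
    (DirectSum.lof (RW O W) (W.unop ⟶ V) (fun χ => cmp O V N W χ) φ)

lemma ιShr_apply (W : Cᵒᵖ) (φ : W.unop ⟶ V) (x : cmp O V N W φ) :
    ιShr O V N W φ x = DirectSum.of (fun χ => cmp O V N W χ) φ x := rfl

lemma sec_hom_ext {W : Cᵒᵖ} {T : ModuleCat.{u} (RW O W)} {f g : (shrObj O V N).obj W ⟶ T}
    (h : ∀ (φ : W.unop ⟶ V) (x : cmp O V N W φ),
      f (DirectSum.of (fun χ => cmp O V N W χ) φ x) =
        g (DirectSum.of (fun χ => cmp O V N W χ) φ x)) : f = g := by
  apply ModuleCat.hom_ext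
  apply DirectSum.linearMap_ext
  intro φ
  ext x
  exact h φ x

/-- maps out of `j_!^{pre} N` give maps over `C/V` -/
def shrToOver {Q : PM O.obj} (α : shrObj O V N ⟶ Q) : N ⟶ (r0 O V).obj Q where
  app Y := ιShr O V N (op Y.unop.left) Y.unop.hom ≫ α.app (op Y.unop.left)
  naturality {Y Y'} h := by
    ext x
    show α.app (op Y'.unop.left) (DirectSum.of (fun χ => cmp O V N (op Y'.unop.left) χ)
        Y'.unop.hom (N.map h x)) =
      Q.map h.unop.left.op (α.app (op Y.unop.left)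
        (DirectSum.of (fun χ => cmp O V N (op Y.unop.left) χ) Y.unop.hom x))
    refine Eq.trans ?_ (PresheafOfModules.naturality_apply α h.unop.left.op _)
    refine congrArg (α.app (op Y'.unop.left)) ?_
    refine Eq.trans ?_ (resMap_of O V N h.unop.left.op Y.unop.hom x).symm
    exact (of_tr_congr O V N (W := op Y.unop.left) (W' := op Y'.unop.left) h.unop.left
      Y.unop.hom (ψ := h.unop.left ≫ Y.unop.hom) (ψ' := Y'.unop.hom) rfl (Over.w h.unop) x).symm

lemma shrToOver_app_apply {Q : PM O.obj} (α : shrObj O V N ⟶ Q) (Y : (Over V)ᵒᵖ) (x : N.obj Y) :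
    (shrToOver O V N α).app Y x = α.app (op Y.unop.left)
      (DirectSum.of (fun χ => cmp O V N (op Y.unop.left) χ) Y.unop.hom x) := rfl

/-- component of a map over `C/V` -/
def βcmp {Q : PM O.obj} (β : N ⟶ (r0 O V).obj Q) (W : Cᵒᵖ) (φ : W.unop ⟶ V) :
    cmp O V N W φ ⟶ Q.obj W := β.app (op (Over.mk φ))

/-- maps over `C/V` give maps out of `j_!^{pre} N` -/
def shrFromOver {Q : PM O.obj} (β : N ⟶ (r0 O V).obj Q) : shrObj O V N ⟶ Q where
  app W := ModuleCat.ofHom (DirectSum.toModule (RW O W) (W.unop ⟶ V) (Q.obj W)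
    (fun φ => (βcmp O V N β W φ).hom))
  naturality {W W'} g := by
    apply sec_hom_ext
    intro φ x
    show DirectSum.toModule (RW O W') (W'.unop ⟶ V) (Q.obj W')
        (fun φ => (βcmp O V N β W' φ).hom) (resMap O V N g (DirectSum.of _ φ x)) =
      Q.map g (DirectSum.toModule (RW O W) (W.unop ⟶ V) (Q.obj W)
        (fun φ => (βcmp O V N β W φ).hom) (DirectSum.of _ φ x))
    rw [resMap_of]
    refine (DirectSum.toModule_lof (RW O W') _ _).trans ?_
    refine Eq.trans ?_ (congrArg (Q.map g) (DirectSum.toModule_lof (RW O W) _ _).symm)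
    exact PresheafOfModules.naturality_apply β
      (Over.homMk g.unop rfl : Over.mk (g.unop ≫ φ) ⟶ Over.mk φ).op x

lemma shrFromOver_app_of {Q : PM O.obj} (β : N ⟶ (r0 O V).obj Q) (W : Cᵒᵖ) (φ : W.unop ⟶ V)
    (x : cmp O V N W φ) :
    (shrFromOver O V N β).app W (DirectSum.of (fun χ => cmp O V N W χ) φ x) =
      β.app (op (Over.mk φ)) x :=
  DirectSum.toModule_lof (RW O W) _ _

/-- the adjunction bijection for `j_!^{pre}` -/
def shrHomEquiv (Q : PM O.obj) : (shrObj O V N ⟶ Q) ≃ (N ⟶ (r0 O V).obj Q) where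
  toFun := shrToOver O V N
  invFun := shrFromOver O V N
  left_inv α := by
    apply PresheafOfModules.hom_ext
    intro W
    apply sec_hom_ext
    intro φ x
    exact shrFromOver_app_of O V N (shrToOver O V N α) W φ x
  right_inv β := by
    ext Y x
    exact shrFromOver_app_of O V N β (op Y.unop.left) Y.unop.hom x

lemma shrHomEquiv_comp {Q Q' : PM O.obj} (α : shrObj O V N ⟶ Q) (ρ : Q ⟶ Q') :
    shrHomEquiv O V N Q' (α ≫ ρ) = shrHomEquiv O V N Q α ≫ (r0 O V).map ρ := by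
  ext Y x
  rfl

end ShrAdj

noncomputable section ShrFunctor
open Classical

/-- `j_!^{pre}` as a functor -/
def shr : PM (O.over V).obj ⥤ PM O.obj :=
  Adjunction.leftAdjointOfEquiv (G := r0 O V) (F_obj := shrObj O V)
    (fun N Q => shrHomEquiv O V N Q) (fun N _ _ ρ α => shrHomEquiv_comp O V N α ρ)

/-- `j_!^{pre} ⊣ restriction` -/
def shrAdj : shr O V ⊣ r0 O V := Adjunction.adjunctionOfEquivLeft _ _

lemma shr_map_app_of {N N' : PM (O.over V).obj} (f : N ⟶ N') (W : Cᵒᵖ) (φ : W.unop ⟶ V)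
    (x : cmp O V N W φ) :
    ((shr O V).map f).app W (DirectSum.of (fun χ => cmp O V N W χ) φ x) =
      DirectSum.of (fun χ => cmp O V N' W χ) φ (f.app (op (Over.mk φ)) x) := by
  show (shrFromOver O V N (f ≫ shrToOver O V N' (𝟙 _))).app W _ = _
  rw [shrFromOver_app_of]
  rfl

instance shr_isLeftAdjoint : (shr O V).IsLeftAdjoint := (shrAdj O V).isLeftAdjoint

instance shr_additive : (shr O V).Additive := by
  haveI := preservesBinaryBiproducts_of_preservesBinaryCoproducts (shr O V)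
  exact Functor.additive_of_preservesBinaryBiproducts _

instance shr_preservesMono : (shr O V).PreservesMonomorphisms := ⟨fun {N N'} f hf => by
  apply PresheafOfModules.mono_of_injective
  intro W
  have hinj : ∀ φ : W.unop ⟶ V, Function.Injective
      (((f.app (op (Over.mk φ))).hom.toAddMonoidHom : cmp O V N W φ →+ cmp O V N' W φ)) :=
    fun φ => PresheafOfModules.injective_of_mono f _
  let D : Sec O V N W →+ Sec O V N' W := DirectSum.map
    (fun φ => ((f.app (op (Over.mk φ))).hom.toAddMonoidHom : cmp O V N W φ →+ cmp O V N' W φ))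
  have hD : ((((shr O V).map f).app W).hom.toAddMonoidHom : Sec O V N W →+ Sec O V N' W) = D := by
    apply DirectSum.addHom_ext
    intro φ x
    exact (shr_map_app_of O V f W φ x).trans (DirectSum.map_of
      (fun φ => ((f.app (op (Over.mk φ))).hom.toAddMonoidHom :
        cmp O V N W φ →+ cmp O V N' W φ)) φ x).symm
  intro s t hst
  have h2 : D s = D t := by rw [← hD]; exact hst
  exact (DirectSum.map_injective _).2 hinj h2⟩

end ShrFunctor

lemma preservesFiniteLimits_of_preservesMono {𝒜 ℬ : Type*} [Category 𝒜] [Category ℬ]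
    [Abelian 𝒜] [Abelian ℬ] (F : 𝒜 ⥤ ℬ) [F.Additive] [PreservesFiniteColimits F]
    [F.PreservesMonomorphisms] : PreservesFiniteLimits F := by
  rw [Functor.preservesFiniteLimits_iff_forall_exact_map_and_mono]
  intro S hS
  have h := ((Functor.preservesFiniteColimits_iff_forall_exact_map_and_epi F).1 inferInstance) S hS
  haveI := hS.mono_f
  exact ⟨h.1, inferInstance⟩

instance shr_preservesFiniteLimits : PreservesFiniteLimits (shr O V) :=
  preservesFiniteLimits_of_preservesMono _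

end Groth.Agent.Lib.ModSiteH8
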