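import Mathlib
import Groth.Agent.Lib.ModSite15_helper8

namespace Groth.Agent.Lib.ModSiteH8
open CategoryTheory Limits Opposite MonoidalCategory ModSite

universe u

variable {C : Type u} [SmallCategory C] {J : GrothendieckTopology C}
variable (O : Sheaf J CommRingCat.{u}) (V : C)

/-- composite adjunction at the presheaf/sheaf level -/
noncomputable def shrLfAdj : shr O V ⋙ Lf O ⊣ iF O ⋙ r0 O V := (shrAdj O V).comp (adjLf O)

/-- `iF ⋙ r0 ≅ restr ⋙ iF'` -/
noncomputable def restrCommIso :
    𝟭 (Mod O) ⋙ (iF O ⋙ r0 O V) ≅ restr O V ⋙ iF (O.over V) :=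
  NatIso.ofComponents (fun _ => Iso.refl _) (by
    intro M M' f
    rfl)

/-- the concrete extension by zero -/
noncomputable def extZero' : Mod (O.over V) ⥤ Mod O := iF (O.over V) ⋙ shr O V ⋙ Lf O

/-- the concrete extension by zero is left adjoint to restriction -/
noncomputable def extZero'Adj : extZero' O V ⊣ restr O V :=
  (shrLfAdj O V).restrictFullyFaithful
    (show (iF (O.over V)).FullyFaithful from SheafOfModules.fullyFaithfulForget _)
    (Functor.FullyFaithful.id _)
    (Functor.rightUnitor (extZero' O V)).symm (restrCommIso O V)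

/-- comparison with the chosen left adjoint -/
noncomputable def extZeroIso : extZero O V ≅ extZero' O V :=
  (extZeroAdj O V).leftAdjointUniq (extZero'Adj O V)

instance extZero'_preservesFiniteLimits : PreservesFiniteLimits (extZero' O V) := by
  haveI : PreservesFiniteLimits (shr O V ⋙ Lf O) := comp_preservesFiniteLimits _ _
  exact comp_preservesFiniteLimits (iF (O.over V)) (shr O V ⋙ Lf O)

theorem extZero_preservesFiniteLimits : PreservesFiniteLimits (extZero O V) :=
  preservesFiniteLimits_of_natIso (extZeroIso O V).symm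

open Classical in
theorem extZero'_faithful : (extZero' O V).Faithful := by
  constructor
  intro N N' a b hab
  let a' : N.val ⟶ N'.val := a.val
  let b' : N.val ⟶ N'.val := b.val
  let η := (adjLf O).unit.app ((shr O V).obj N'.val)
  have h1 : (shr O V).map a' ≫ η = (shr O V).map b' ≫ η := by
    have ha := (adjLf O).unit.naturality ((shr O V).map a')
    have hb := (adjLf O).unit.naturality ((shr O V).map b')
    have hab' : (Lf O ⋙ iF O).map ((shr O V).map a') = (Lf O ⋙ iF O).map ((shr O V).map b') :=
      congrArg (iF O).map hab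
    exact ha.trans ((congrArg (fun t => (adjLf O).unit.app _ ≫ t) hab').trans hb.symm)
  apply SheafOfModules.hom_ext
  apply PresheafOfModules.hom_ext
  intro Y
  ext x
  have h2 : η.app (op Y.unop.left) (((shr O V).map a').app (op Y.unop.left)
        (DirectSum.of (fun χ => cmp O V N.val (op Y.unop.left) χ) Y.unop.hom x)) =
      η.app (op Y.unop.left) (((shr O V).map b').app (op Y.unop.left)
        (DirectSum.of (fun χ => cmp O V N.val (op Y.unop.left) χ) Y.unop.hom x)) :=
    congrArg (fun t : (shr O V).obj N.val ⟶ _ => t.app (op Y.unop.left)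
      (DirectSum.of (fun χ => cmp O V N.val (op Y.unop.left) χ) Y.unop.hom x)) h1
  rw [shr_map_app_of, shr_map_app_of] at h2
  have h3 : η.app (op Y.unop.left)
      (DirectSum.of (fun χ => cmp O V N'.val (op Y.unop.left) χ) Y.unop.hom
        (a'.app Y x - b'.app Y x)) = 0 := by
    have e1 := map_sub (DirectSum.of (fun χ => cmp O V N'.val (op Y.unop.left) χ) Y.unop.hom)
      (a'.app Y x) (b'.app Y x)
    have e2 := map_sub (η.app (op Y.unop.left)).hom
      (DirectSum.of (fun χ => cmp O V N'.val (op Y.unop.left) χ) Y.unop.hom (a'.app Y x))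
      (DirectSum.of (fun χ => cmp O V N'.val (op Y.unop.left) χ) Y.unop.hom (b'.app Y x))
    exact (congrArg (η.app (op Y.unop.left)).hom e1).trans (e2.trans (sub_eq_zero.2 h2))
  obtain ⟨S, hS, hl⟩ := etaP_ELI O _ (op Y.unop.left) _ h3
  have h5 : (a'.app Y x - b'.app Y x : N'.val.obj Y) = 0 := by
    apply (Presheaf.IsSheaf.isSeparated N'.isSheaf) _ _ (J.overEquiv_symm_mem_over Y.unop S hS)
    intro Z f hf
    have h6 := hl f.left hf
    have h7 : resMap O V N'.val f.left.op
        (DirectSum.of (fun χ => cmp O V N'.val (op Y.unop.left) χ) Y.unop.hom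
          (a'.app Y x - b'.app Y x)) = 0 := h6
    rw [resMap_of] at h7
    have h8 := (of_tr_congr O V N'.val (W := op Y.unop.left) (W' := op Z.left) f.left Y.unop.hom
      (ψ := f.left ≫ Y.unop.hom) (ψ' := Z.hom) rfl (Over.w f) (a'.app Y x - b'.app Y x)).symm.trans h7
    have h9 := DirectSum.of_injective (β := fun χ => cmp O V N'.val (op Z.left) χ) Z.hom
      (h8.trans (map_zero _).symm)
    exact h9.trans (map_zero _).symm
  exact sub_eq_zero.1 h5

theorem extZero_faithful : (extZero O V).Faithful :=
  haveI := extZero'_faithful O V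
  Functor.Faithful.of_iso (extZeroIso O V).symm

theorem extZero_reflects_exact (S : ShortComplex (Mod (O.over V)))
    (h : (S.map (extZero O V)).Exact) : S.Exact := by
  haveI := extZero_faithful O V
  haveI := extZero_preservesFiniteLimits O V
  haveI : (extZero O V).IsLeftAdjoint := (extZeroAdj O V).isLeftAdjoint
  exact (ShortComplex.exact_map_iff_of_faithful S (extZero O V)).1 h

end Groth.Agent.Lib.ModSiteH8
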