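import Mathlib
import Groth.Agent.Lib.ModSite16_helper8

namespace Groth.Agent.Lib.ModSiteH8
open CategoryTheory Limits Opposite MonoidalCategory ModSite

universe u

section ModHelpers2
variable {R : Type u} [CommRing R] {ι : Type u} [DecidableEq ι]

/-- maps out of `(⨁ M i) ⊗ N` -/
noncomputable def dsTensorDesc (M : ι → ModuleCat.{u} R) {N T : ModuleCat.{u} R}
    (ψ : ∀ i, (M i ⊗ N : ModuleCat.{u} R) ⟶ T) :
    ((ModuleCat.of R (DirectSum ι (fun i => M i)) ⊗ N : ModuleCat.{u} R)) ⟶ T :=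
  ModuleCat.ofHom (TensorProduct.lift
    (DirectSum.toModule R ι (N →ₗ[R] T) (fun i => TensorProduct.curry (ψ i).hom)))

lemma dsTensorDesc_apply (M : ι → ModuleCat.{u} R) {N T : ModuleCat.{u} R}
    (ψ : ∀ i, (M i ⊗ N : ModuleCat.{u} R) ⟶ T) (i : ι) (m : M i) (n : N) :
    dsTensorDesc M ψ ((DirectSum.of (fun i => M i) i m :
      ModuleCat.of R (DirectSum ι (fun i => M i))) ⊗ₜ n) = ψ i (m ⊗ₜ n) := by
  show TensorProduct.lift (DirectSum.toModule R ι (N →ₗ[R] T)
    (fun i => TensorProduct.curry (ψ i).hom))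
      ((DirectSum.lof R ι (fun i => M i) i m) ⊗ₜ[R] n) = _
  rw [TensorProduct.lift.tmul, DirectSum.toModule_lof]
  rfl

lemma dsTensor_hom_ext (M : ι → ModuleCat.{u} R) {N T : ModuleCat.{u} R}
    {f g : ((ModuleCat.of R (DirectSum ι (fun i => M i)) ⊗ N : ModuleCat.{u} R)) ⟶ T}
    (h : ∀ (i : ι) (m : M i) (n : N),
      f ((DirectSum.of (fun i => M i) i m : ModuleCat.of R (DirectSum ι (fun i => M i))) ⊗ₜ n) =
      g ((DirectSum.of (fun i => M i) i m : ModuleCat.of R (DirectSum ι (fun i => M i))) ⊗ₜ n)) :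
    f = g := by
  apply ModuleCat.hom_ext
  apply TensorProduct.ext
  apply DirectSum.linearMap_ext
  intro i
  ext m n
  exact h i m n

end ModHelpers2

variable {C : Type u} [SmallCategory C] {J : GrothendieckTopology C}
variable (O : Sheaf J CommRingCat.{u}) (V : C)

noncomputable section ShrTensor
open Classical

variable (P : PM (O.over V).obj)

/-- components as modules over the commutative ring of sections -/
abbrev cmpC (W : Cᵒᵖ) (φ : W.unop ⟶ V) : ModuleCat.{u} (O.obj.obj W) := cmp O V P W φ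

/-- component of `stToOver` -/
def stToOverApp {N Q : PM O.obj} (α : shrObj O V P ⊗ N ⟶ Q) (W : Cᵒᵖ) (φ : W.unop ⟶ V) :
    (cmpC O V P W φ ⊗ (N.obj W : ModuleCat.{u} (O.obj.obj W)) : ModuleCat.{u} (O.obj.obj W)) ⟶
      Q.obj W :=
  ModuleCat.ofHom (LinearMap.comp
    (show TensorProduct (O.obj.obj W) (Sec O V P W) (N.obj W) →ₗ[O.obj.obj W] Q.obj W from
      (α.app W).hom)
    (LinearMap.rTensor (N.obj W)
      (DirectSum.lof (O.obj.obj W) (W.unop ⟶ V) (fun χ => cmp O V P W χ) φ)))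

lemma stToOverApp_tmul {N Q : PM O.obj} (α : shrObj O V P ⊗ N ⟶ Q) (W : Cᵒᵖ) (φ : W.unop ⟶ V)
    (p : cmp O V P W φ) (n : N.obj W) :
    stToOverApp O V P α W φ (p ⊗ₜ n) =
      α.app W ((DirectSum.of (fun χ => cmp O V P W χ) φ p : (shrObj O V P).obj W) ⊗ₜ n) := rfl

/-- maps out of `j_!^{pre} P ⊗ N` give maps out of `P ⊗ N|_V` -/
def stToOver {N Q : PM O.obj} (α : shrObj O V P ⊗ N ⟶ Q) :
    P ⊗ (r0 O V).obj N ⟶ (r0 O V).obj Q where
  app Y := stToOverApp O V P α (op Y.unop.left) Y.unop.hom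
  naturality {Y Y'} h := by
    refine ModuleCat.MonoidalCategory.tensor_ext (fun p n => ?_)
    show stToOverApp O V P α (op Y'.unop.left) Y'.unop.hom
        ((P.map h p) ⊗ₜ (N.map h.unop.left.op n)) =
      Q.map h.unop.left.op (stToOverApp O V P α (op Y.unop.left) Y.unop.hom (p ⊗ₜ n))
    rw [stToOverApp_tmul, stToOverApp_tmul]
    refine Eq.trans ?_ (PresheafOfModules.naturality_apply α h.unop.left.op _)
    refine congrArg (α.app (op Y'.unop.left)) ?_
    show ((DirectSum.of (fun χ => cmp O V P (op Y'.unop.left) χ) Y'.unop.hom (P.map h p) :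
        (shrObj O V P).obj (op Y'.unop.left)) ⊗ₜ (N.map h.unop.left.op n)) =
      ((resMap O V P h.unop.left.op
        (DirectSum.of (fun χ => cmp O V P (op Y.unop.left) χ) Y.unop.hom p) :
          (shrObj O V P).obj (op Y'.unop.left)) ⊗ₜ (N.map h.unop.left.op n))
    congr 1
    refine Eq.trans ?_ (resMap_of O V P h.unop.left.op Y.unop.hom p).symm
    exact (of_tr_congr O V P (W := op Y.unop.left) (W' := op Y'.unop.left) h.unop.left
      Y.unop.hom (ψ := h.unop.left ≫ Y.unop.hom) (ψ' := Y'.unop.hom) rfl (Over.w h.unop) p).symm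

lemma stToOver_app_tmul {N Q : PM O.obj} (α : shrObj O V P ⊗ N ⟶ Q) (Y : (Over V)ᵒᵖ)
    (p : P.obj Y) (n : N.obj (op Y.unop.left)) :
    (stToOver O V P α).app Y (p ⊗ₜ n) =
      α.app (op Y.unop.left) ((DirectSum.of (fun χ => cmp O V P (op Y.unop.left) χ) Y.unop.hom p :
        (shrObj O V P).obj (op Y.unop.left)) ⊗ₜ n) := rfl

/-- component of a map out of `P ⊗ N|_V` -/
def stβ {N Q : PM O.obj} (β : P ⊗ (r0 O V).obj N ⟶ (r0 O V).obj Q) (W : Cᵒᵖ) (φ : W.unop ⟶ V) :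
    (cmpC O V P W φ ⊗ (N.obj W : ModuleCat.{u} (O.obj.obj W)) : ModuleCat.{u} (O.obj.obj W)) ⟶
      Q.obj W := β.app (op (Over.mk φ))

/-- component of `stFromOver` -/
def stFromOverApp {N Q : PM O.obj} (β : P ⊗ (r0 O V).obj N ⟶ (r0 O V).obj Q) (W : Cᵒᵖ) :
    (shrObj O V P ⊗ N).obj W ⟶ Q.obj W :=
  dsTensorDesc (R := O.obj.obj W) (ι := (W.unop ⟶ V)) (fun φ => cmpC O V P W φ)
    (N := N.obj W) (T := Q.obj W) (fun φ => stβ O V P β W φ)

lemma stFromOverApp_tmul {N Q : PM O.obj} (β : P ⊗ (r0 O V).obj N ⟶ (r0 O V).obj Q) (W : Cᵒᵖ)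
    (φ : W.unop ⟶ V) (p : cmp O V P W φ) (n : N.obj W) :
    stFromOverApp O V P β W ((DirectSum.of (fun χ => cmp O V P W χ) φ p :
        (shrObj O V P).obj W) ⊗ₜ n) = β.app (op (Over.mk φ)) (p ⊗ₜ n) :=
  dsTensorDesc_apply (R := O.obj.obj W) (ι := (W.unop ⟶ V)) (fun φ => cmpC O V P W φ)
    (N := N.obj W) (T := Q.obj W) (fun φ => stβ O V P β W φ) φ p n

/-- maps out of `P ⊗ N|_V` give maps out of `j_!^{pre} P ⊗ N` -/
def stFromOver {N Q : PM O.obj} (β : P ⊗ (r0 O V).obj N ⟶ (r0 O V).obj Q) :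
    shrObj O V P ⊗ N ⟶ Q where
  app W := stFromOverApp O V P β W
  naturality {W W'} g := by
    refine dsTensor_hom_ext (R := O.obj.obj W) (ι := (W.unop ⟶ V)) (fun φ => cmpC O V P W φ)
      (N := N.obj W) ?_
    intro φ p n
    show stFromOverApp O V P β W' (((resMap O V P g (DirectSum.of (fun χ => cmp O V P W χ) φ p) :
        (shrObj O V P).obj W')) ⊗ₜ (N.map g n)) =
      Q.map g (stFromOverApp O V P β W ((DirectSum.of (fun χ => cmp O V P W χ) φ p :
        (shrObj O V P).obj W) ⊗ₜ n))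
    rw [stFromOverApp_tmul, resMap_of]
    refine (stFromOverApp_tmul O V P β W' (g.unop ≫ φ) _ _).trans ?_
    exact PresheafOfModules.naturality_apply β
      (Over.homMk g.unop rfl : Over.mk (g.unop ≫ φ) ⟶ Over.mk φ).op (p ⊗ₜ n)

/-- `Hom(j_!^{pre} P ⊗ N, Q) ≃ Hom(P ⊗ N|_V, Q|_V)` -/
def shrTensorEquiv (N Q : PM O.obj) :
    (shrObj O V P ⊗ N ⟶ Q) ≃ (P ⊗ (r0 O V).obj N ⟶ (r0 O V).obj Q) where
  toFun := stToOver O V P
  invFun := stFromOver O V P
  left_inv α := by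
    apply PresheafOfModules.hom_ext
    intro W
    refine dsTensor_hom_ext (R := O.obj.obj W) (ι := (W.unop ⟶ V)) (fun φ => cmpC O V P W φ)
      (N := N.obj W) ?_
    intro φ p n
    exact (stFromOverApp_tmul O V P (stToOver O V P α) W φ p n).trans
      (stToOver_app_tmul O V P α (op (Over.mk φ)) p n)
  right_inv β := by
    apply PresheafOfModules.hom_ext
    intro Y
    refine ModuleCat.MonoidalCategory.tensor_ext (fun p n => ?_)
    exact (stToOver_app_tmul O V P (stFromOver O V P β) Y p n).trans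
      (stFromOverApp_tmul O V P β (op Y.unop.left) Y.unop.hom p n)

lemma stToOver_comp {N Q Q' : PM O.obj} (α : shrObj O V P ⊗ N ⟶ Q) (ρ : Q ⟶ Q') :
    stToOver O V P (α ≫ ρ) = stToOver O V P α ≫ (r0 O V).map ρ := by
  apply PresheafOfModules.hom_ext
  intro Y
  refine ModuleCat.MonoidalCategory.tensor_ext (fun p n => ?_)
  rfl

lemma stToOver_whiskerLeft {N N' Q : PM O.obj} (ν : N' ⟶ N) (α : shrObj O V P ⊗ N ⟶ Q) :
    stToOver O V P ((shrObj O V P ◁ ν) ≫ α) = (P ◁ (r0 O V).map ν) ≫ stToOver O V P α := by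
  apply PresheafOfModules.hom_ext
  intro Y
  refine ModuleCat.MonoidalCategory.tensor_ext (fun p n => ?_)
  rfl

end ShrTensor

noncomputable section ShrTensor2
open Classical

lemma stToOver_whiskerRight {P P' : PM (O.over V).obj} {N Q : PM O.obj} (π : P' ⟶ P)
    (α : shrObj O V P ⊗ N ⟶ Q) :
    stToOver O V P' (((shr O V).map π ▷ N) ≫ α) = (π ▷ (r0 O V).obj N) ≫ stToOver O V P α := by
  apply PresheafOfModules.hom_ext
  intro Y
  refine ModuleCat.MonoidalCategory.tensor_ext (fun p n => ?_)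
  show α.app (op Y.unop.left) ((((shr O V).map π).app (op Y.unop.left)
      (DirectSum.of (fun χ => cmp O V P' (op Y.unop.left) χ) Y.unop.hom p) :
        (shrObj O V P).obj (op Y.unop.left)) ⊗ₜ n) =
    α.app (op Y.unop.left) ((DirectSum.of (fun χ => cmp O V P (op Y.unop.left) χ) Y.unop.hom
      (π.app Y p) : (shrObj O V P).obj (op Y.unop.left)) ⊗ₜ n)
  rw [shr_map_app_of]
  rfl

end ShrTensor2

end Groth.Agent.Lib.ModSiteH8
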