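import Mathlib
import Groth.Agent.Lib.ModSite17_helper8

namespace Groth.Agent.Lib.ModSiteH8
open CategoryTheory Limits Opposite MonoidalCategory ModSite

universe u

variable {C : Type u} [SmallCategory C] {J : GrothendieckTopology C}
variable (O : Sheaf J CommRingCat.{u}) (V : C)

noncomputable section Proj

variable (P : Mod (O.over V)) (N G : Mod O)

/-- presheaf-level source -/
abbrev pA : PM (O.over V).obj := (iF (O.over V)).obj P ⊗ (r0 O V).obj ((iF O).obj N)

/-- presheaf-level target -/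
abbrev pB : PM O.obj := shrObj O V ((iF (O.over V)).obj P) ⊗ (iF O).obj N

/-- `j_!(P ⊗ j^* N)` -/
abbrev sA : Mod O :=
  (extZero O V).obj (((tensorBi (O.over V)).obj P).obj ((restr O V).obj N))

/-- `j_!' P ⊗ N` -/
abbrev sB : Mod O := ((tensorBi O).obj ((extZero' O V).obj P)).obj N

/-- the comparison `L(j_!^{pre} P ⊗ N) ⟶ j_!' P ⊗ N` -/
def κP : (Lf O).obj (pB O V P N) ⟶ sB O V P N :=
  (Lf O).map ((adjLf O).unit.app (shrObj O V ((iF (O.over V)).obj P)) ▷ (iF O).obj N)

instance : IsIso (κP O V P N) := isIso_Lf_unit_whiskerRight O _ _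

def E1 : (sA O V P N ⟶ G) ≃ ((Lf (O.over V)).obj (pA O V P N) ⟶ (restr O V).obj G) :=
  (extZeroAdj O V).homEquiv _ G

def E2 : ((Lf (O.over V)).obj (pA O V P N) ⟶ (restr O V).obj G) ≃
    (pA O V P N ⟶ (r0 O V).obj ((iF O).obj G)) :=
  (adjLf (O.over V)).homEquiv _ _

def E3 : (pA O V P N ⟶ (r0 O V).obj ((iF O).obj G)) ≃ (pB O V P N ⟶ (iF O).obj G) :=
  (shrTensorEquiv O V ((iF (O.over V)).obj P) ((iF O).obj N) ((iF O).obj G)).symm

def E4 : (pB O V P N ⟶ (iF O).obj G) ≃ ((Lf O).obj (pB O V P N) ⟶ G) :=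
  ((adjLf O).homEquiv _ G).symm

def E5 : ((Lf O).obj (pB O V P N) ⟶ G) ≃ (sB O V P N ⟶ G) where
  toFun t := inv (κP O V P N) ≫ t
  invFun s := κP O V P N ≫ s
  left_inv t := by simp
  right_inv s := by simp

/-- the hom-set form of the projection formula -/
def projEquiv : (sA O V P N ⟶ G) ≃ (sB O V P N ⟶ G) :=
  (E1 O V P N G).trans ((E2 O V P N G).trans ((E3 O V P N G).trans
    ((E4 O V P N G).trans (E5 O V P N G))))

variable {G}

lemma E1_comp {G' : Mod O} (h : sA O V P N ⟶ G) (g : G ⟶ G') :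
    E1 O V P N G' (h ≫ g) = E1 O V P N G h ≫ (restr O V).map g :=
  Adjunction.homEquiv_naturality_right _ _ _

lemma E2_comp {G' : Mod O} (k : (Lf (O.over V)).obj (pA O V P N) ⟶ (restr O V).obj G) (g : G ⟶ G') :
    E2 O V P N G' (k ≫ (restr O V).map g) =
      E2 O V P N G k ≫ (r0 O V).map ((iF O).map g) :=
  Adjunction.homEquiv_naturality_right _ _ _

lemma E3_comp {G' : Mod O} (β : pA O V P N ⟶ (r0 O V).obj ((iF O).obj G)) (g : G ⟶ G') :
    E3 O V P N G' (β ≫ (r0 O V).map ((iF O).map g)) = E3 O V P N G β ≫ (iF O).map g := by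
  apply (shrTensorEquiv O V ((iF (O.over V)).obj P) ((iF O).obj N) ((iF O).obj G')).injective
  refine (Equiv.apply_symm_apply _ _).trans ?_
  refine Eq.trans ?_ (stToOver_comp O V _ (E3 O V P N G β) ((iF O).map g)).symm
  exact congrArg (fun t => t ≫ (r0 O V).map ((iF O).map g))
    (Equiv.apply_symm_apply (shrTensorEquiv O V ((iF (O.over V)).obj P) ((iF O).obj N)
      ((iF O).obj G)) β).symm

lemma E4_comp {G' : Mod O} (α : pB O V P N ⟶ (iF O).obj G) (g : G ⟶ G') :
    E4 O V P N G' (α ≫ (iF O).map g) = E4 O V P N G α ≫ g :=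
  Adjunction.homEquiv_naturality_right_symm _ _ _

lemma E5_comp {G' : Mod O} (t : (Lf O).obj (pB O V P N) ⟶ G) (g : G ⟶ G') :
    E5 O V P N G' (t ≫ g) = E5 O V P N G t ≫ g := by
  show inv (κP O V P N) ≫ (t ≫ g) = (inv (κP O V P N) ≫ t) ≫ g
  rw [Category.assoc]

lemma projEquiv_comp {G' : Mod O} (h : sA O V P N ⟶ G) (g : G ⟶ G') :
    projEquiv O V P N G' (h ≫ g) = projEquiv O V P N G h ≫ g := by
  show E5 O V P N G' (E4 O V P N G' (E3 O V P N G' (E2 O V P N G' (E1 O V P N G' (h ≫ g))))) =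
    E5 O V P N G (E4 O V P N G (E3 O V P N G (E2 O V P N G (E1 O V P N G h)))) ≫ g
  rw [E1_comp, E2_comp, E3_comp, E4_comp, E5_comp]

/-- the projection formula `j_!(P ⊗ j^* N) ≅ j_!' P ⊗ N` -/
def projIso : sA O V P N ≅ sB O V P N :=
  isoOfHomEquiv (projEquiv O V P N) (fun h g => projEquiv_comp O V P N h g)

lemma projIso_inv : (projIso O V P N).inv = projEquiv O V P N (sA O V P N) (𝟙 _) := rfl

theorem extZero_projection_formula :
    Nonempty ((extZero O V).obj (((tensorBi (O.over V)).obj P).obj ((restr O V).obj N)) ≅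
      ((tensorBi O).obj ((extZero O V).obj P)).obj N) :=
  ⟨projIso O V P N ≪≫ ((tensorBi O).mapIso ((extZeroIso O V).app P).symm).app N⟩

end Proj

noncomputable section NatN

variable (P : Mod (O.over V)) {N N' : Mod O} (ν : N' ⟶ N) {G : Mod O}

/-- presheaf-level map on sources -/
abbrev aN : pA O V P N' ⟶ pA O V P N :=
  (iF (O.over V)).obj P ◁ (r0 O V).map ((iF O).map ν)

/-- presheaf-level map on targets -/
abbrev bN : pB O V P N' ⟶ pB O V P N :=
  shrObj O V ((iF (O.over V)).obj P) ◁ (iF O).map ν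

/-- functoriality of `sA` in `N` -/
abbrev sAmapN : sA O V P N' ⟶ sA O V P N :=
  (extZero O V).map (((tensorBi (O.over V)).obj P).map ((restr O V).map ν))

/-- functoriality of `sB` in `N` -/
abbrev sBmapN : sB O V P N' ⟶ sB O V P N := ((tensorBi O).obj ((extZero' O V).obj P)).map ν

lemma E1_natN (h : sA O V P N ⟶ G) :
    E1 O V P N' G (sAmapN O V P ν ≫ h) =
      (Lf (O.over V)).map (aN O V P ν) ≫ E1 O V P N G h :=
  Adjunction.homEquiv_naturality_left _ _ _

lemma E2_natN (k : (Lf (O.over V)).obj (pA O V P N) ⟶ (restr O V).obj G) :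
    E2 O V P N' G ((Lf (O.over V)).map (aN O V P ν) ≫ k) = aN O V P ν ≫ E2 O V P N G k :=
  Adjunction.homEquiv_naturality_left _ _ _

lemma E3_natN (β : pA O V P N ⟶ (r0 O V).obj ((iF O).obj G)) :
    E3 O V P N' G (aN O V P ν ≫ β) = bN O V P ν ≫ E3 O V P N G β := by
  apply (shrTensorEquiv O V ((iF (O.over V)).obj P) ((iF O).obj N') ((iF O).obj G)).injective
  refine (Equiv.apply_symm_apply _ _).trans ?_
  refine Eq.trans ?_ (stToOver_whiskerLeft O V _ ((iF O).map ν) (E3 O V P N G β)).symm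
  exact congrArg (fun t => aN O V P ν ≫ t)
    (Equiv.apply_symm_apply (shrTensorEquiv O V ((iF (O.over V)).obj P) ((iF O).obj N)
      ((iF O).obj G)) β).symm

lemma E4_natN (α : pB O V P N ⟶ (iF O).obj G) :
    E4 O V P N' G (bN O V P ν ≫ α) = (Lf O).map (bN O V P ν) ≫ E4 O V P N G α :=
  Adjunction.homEquiv_naturality_left_symm _ _ _

lemma κP_natN : (Lf O).map (bN O V P ν) ≫ κP O V P N = κP O V P N' ≫ sBmapN O V P ν := by
  show (Lf O).map (bN O V P ν) ≫ (Lf O).map _ = (Lf O).map _ ≫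
    (Lf O).map ((iF O).obj ((extZero' O V).obj P) ◁ (iF O).map ν)
  rw [← Functor.map_comp, ← Functor.map_comp]
  congr 1
  exact whisker_exchange _ _

lemma E5_natN (t : (Lf O).obj (pB O V P N) ⟶ G) :
    E5 O V P N' G ((Lf O).map (bN O V P ν) ≫ t) = sBmapN O V P ν ≫ E5 O V P N G t := by
  show inv (κP O V P N') ≫ (Lf O).map (bN O V P ν) ≫ t =
    sBmapN O V P ν ≫ inv (κP O V P N) ≫ t
  rw [← Category.assoc, ← Category.assoc]
  congr 1
  rw [IsIso.inv_comp_eq, ← Category.assoc, ← κP_natN, Category.assoc, IsIso.hom_inv_id,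
    Category.comp_id]

lemma projEquiv_natN (h : sA O V P N ⟶ G) :
    projEquiv O V P N' G (sAmapN O V P ν ≫ h) = sBmapN O V P ν ≫ projEquiv O V P N G h := by
  show E5 O V P N' G (E4 O V P N' G (E3 O V P N' G (E2 O V P N' G
      (E1 O V P N' G (sAmapN O V P ν ≫ h))))) =
    sBmapN O V P ν ≫ E5 O V P N G (E4 O V P N G (E3 O V P N G (E2 O V P N G (E1 O V P N G h))))
  rw [E1_natN, E2_natN, E3_natN, E4_natN, E5_natN]

lemma projIso_inv_natN :
    sBmapN O V P ν ≫ (projIso O V P N).inv = (projIso O V P N').inv ≫ sAmapN O V P ν := by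
  rw [projIso_inv, projIso_inv, ← projEquiv_comp, Category.id_comp, ← projEquiv_natN,
    Category.comp_id]

end NatN

noncomputable section NatP

variable {P P' : Mod (O.over V)} (π : P' ⟶ P) (N : Mod O) {G : Mod O}

/-- presheaf-level map on sources -/
abbrev aP : pA O V P' N ⟶ pA O V P N :=
  (iF (O.over V)).map π ▷ (r0 O V).obj ((iF O).obj N)

/-- presheaf-level map on targets -/
abbrev bP : pB O V P' N ⟶ pB O V P N :=
  (shr O V).map ((iF (O.over V)).map π) ▷ (iF O).obj N

/-- functoriality of `sA` in `P` -/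
abbrev sAmapP : sA O V P' N ⟶ sA O V P N :=
  (extZero O V).map (((tensorBi (O.over V)).map π).app ((restr O V).obj N))

/-- functoriality of `sB` in `P` -/
abbrev sBmapP : sB O V P' N ⟶ sB O V P N :=
  ((tensorBi O).map ((extZero' O V).map π)).app N

lemma E1_natP (h : sA O V P N ⟶ G) :
    E1 O V P' N G (sAmapP O V π N ≫ h) =
      (Lf (O.over V)).map (aP O V π N) ≫ E1 O V P N G h :=
  Adjunction.homEquiv_naturality_left _ _ _

lemma E2_natP (k : (Lf (O.over V)).obj (pA O V P N) ⟶ (restr O V).obj G) :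
    E2 O V P' N G ((Lf (O.over V)).map (aP O V π N) ≫ k) = aP O V π N ≫ E2 O V P N G k :=
  Adjunction.homEquiv_naturality_left _ _ _

lemma E3_natP (β : pA O V P N ⟶ (r0 O V).obj ((iF O).obj G)) :
    E3 O V P' N G (aP O V π N ≫ β) = bP O V π N ≫ E3 O V P N G β := by
  apply (shrTensorEquiv O V ((iF (O.over V)).obj P') ((iF O).obj N) ((iF O).obj G)).injective
  refine (Equiv.apply_symm_apply _ _).trans ?_
  refine Eq.trans ?_ (stToOver_whiskerRight O V ((iF (O.over V)).map π) (E3 O V P N G β)).symm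
  exact congrArg (fun t => aP O V π N ≫ t)
    (Equiv.apply_symm_apply (shrTensorEquiv O V ((iF (O.over V)).obj P) ((iF O).obj N)
      ((iF O).obj G)) β).symm

lemma E4_natP (α : pB O V P N ⟶ (iF O).obj G) :
    E4 O V P' N G (bP O V π N ≫ α) = (Lf O).map (bP O V π N) ≫ E4 O V P N G α :=
  Adjunction.homEquiv_naturality_left_symm _ _ _

lemma κP_natP : (Lf O).map (bP O V π N) ≫ κP O V P N = κP O V P' N ≫ sBmapP O V π N := by
  show (Lf O).map (bP O V π N) ≫ (Lf O).map _ = (Lf O).map _ ≫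
    (Lf O).map ((iF O).map ((extZero' O V).map π) ▷ (iF O).obj N)
  rw [← Functor.map_comp, ← Functor.map_comp]
  congr 1
  have h := (adjLf O).unit.naturality ((shr O V).map ((iF (O.over V)).map π))
  exact ((comp_whiskerRight _ _ _).symm.trans
    (congrArg (fun t => t ▷ (iF O).obj N) h)).trans (comp_whiskerRight _ _ _)

lemma E5_natP (t : (Lf O).obj (pB O V P N) ⟶ G) :
    E5 O V P' N G ((Lf O).map (bP O V π N) ≫ t) = sBmapP O V π N ≫ E5 O V P N G t := by
  show inv (κP O V P' N) ≫ (Lf O).map (bP O V π N) ≫ t =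
    sBmapP O V π N ≫ inv (κP O V P N) ≫ t
  rw [← Category.assoc, ← Category.assoc]
  congr 1
  rw [IsIso.inv_comp_eq, ← Category.assoc, ← κP_natP, Category.assoc, IsIso.hom_inv_id,
    Category.comp_id]

lemma projEquiv_natP (h : sA O V P N ⟶ G) :
    projEquiv O V P' N G (sAmapP O V π N ≫ h) = sBmapP O V π N ≫ projEquiv O V P N G h := by
  show E5 O V P' N G (E4 O V P' N G (E3 O V P' N G (E2 O V P' N G
      (E1 O V P' N G (sAmapP O V π N ≫ h))))) =
    sBmapP O V π N ≫ E5 O V P N G (E4 O V P N G (E3 O V P N G (E2 O V P N G (E1 O V P N G h))))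
  rw [E1_natP, E2_natP, E3_natP, E4_natP, E5_natP]

lemma projIso_inv_natP :
    sBmapP O V π N ≫ (projIso O V P N).inv = (projIso O V P' N).inv ≫ sAmapP O V π N := by
  rw [projIso_inv, projIso_inv, ← projEquiv_comp, Category.id_comp, ← projEquiv_natP,
    Category.comp_id]

end NatP

/-- the projection formula as a natural isomorphism in `N` -/
noncomputable def projNatIsoN (P : Mod (O.over V)) :
    (tensorBi O).obj ((extZero' O V).obj P) ≅
      restr O V ⋙ (tensorBi (O.over V)).obj P ⋙ extZero O V :=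
  NatIso.ofComponents (fun N => (projIso O V P N).symm)
    (fun ν => projIso_inv_natN O V P ν)

/-- the projection formula as a natural isomorphism in `P` -/
noncomputable def projNatIsoP (N : Mod O) :
    extZero' O V ⋙ (tensorBi O).flip.obj N ≅
      (tensorBi (O.over V)).flip.obj ((restr O V).obj N) ⋙ extZero O V :=
  NatIso.ofComponents (fun P => (projIso O V P N).symm)
    (fun π => projIso_inv_natP O V π N)

end Groth.Agent.Lib.ModSiteH8
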