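import Mathlib
import Groth.Agent.Lib.ModSite18_helper8

namespace Groth.Agent.Lib.ModSiteH8
open CategoryTheory Limits Opposite MonoidalCategory ModSite

universe u

variable {C : Type u} [SmallCategory C] {J : GrothendieckTopology C}
variable (O : Sheaf J CommRingCat.{u}) (V : C)

theorem isFlat_extZero (M : Mod (O.over V)) (hM : ModSite.IsFlat M) :
    ModSite.IsFlat ((extZero O V).obj M) := by
  refine isFlat_of_iso O ((extZeroIso O V).app M).symm ?_
  rw [isFlat_iff]
  haveI : PreservesFiniteLimits ((tensorBi (O.over V)).flip.obj M) := (isFlat_iff M).1 hM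
  haveI : PreservesFiniteLimits ((tensorBi (O.over V)).obj M) :=
    preservesFiniteLimits_of_natIso (sigmaIso (O.over V) M).symm
  haveI := extZero_preservesFiniteLimits O V
  haveI : PreservesFiniteLimits (restr O V) := inferInstance
  haveI : PreservesFiniteLimits ((tensorBi (O.over V)).obj M ⋙ extZero O V) :=
    comp_preservesFiniteLimits _ _
  haveI : PreservesFiniteLimits (restr O V ⋙ (tensorBi (O.over V)).obj M ⋙ extZero O V) :=
    comp_preservesFiniteLimits _ _
  haveI : PreservesFiniteLimits ((tensorBi O).obj ((extZero' O V).obj M)) :=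
    preservesFiniteLimits_of_natIso (projNatIsoN O V M).symm
  exact preservesFiniteLimits_of_natIso (sigmaIso O ((extZero' O V).obj M))

theorem isFlat_restr (M : Mod O) (hM : ModSite.IsFlat M) :
    ModSite.IsFlat ((restr O V).obj M) := by
  rw [isFlat_iff]
  haveI hMl : PreservesFiniteLimits ((tensorBi O).flip.obj M) := (isFlat_iff M).1 hM
  haveI : ((tensorBi (O.over V)).flip.obj ((restr O V).obj M)).PreservesMonomorphisms := by
    constructor
    intro P' P a ha
    haveI := extZero_faithful O V
    apply (extZero O V).mono_of_mono_map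
    haveI h1 : Mono ((extZero' O V).map a) := inferInstance
    haveI h2 : Mono (((tensorBi O).flip.obj M).map ((extZero' O V).map a)) := inferInstance
    have hnat := (projNatIsoP O V M).hom.naturality a
    have h3 : ((tensorBi (O.over V)).flip.obj ((restr O V).obj M) ⋙ extZero O V).map a =
        (projNatIsoP O V M).inv.app P' ≫
          (extZero' O V ⋙ (tensorBi O).flip.obj M).map a ≫ (projNatIsoP O V M).hom.app P := by
      rw [hnat, ← Category.assoc, ← NatTrans.comp_app, Iso.inv_hom_id, NatTrans.id_app,
        Category.id_comp]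
    show Mono (((tensorBi (O.over V)).flip.obj ((restr O V).obj M) ⋙ extZero O V).map a)
    rw [h3]
    haveI : Mono ((extZero' O V ⋙ (tensorBi O).flip.obj M).map a) := h2
    infer_instance
  exact preservesFiniteLimits_of_preservesMono _

theorem restr_sheafHom_iso (M N : Mod O) [HasSheafHom M] [HasSheafHom ((restr O V).obj M)] :
    Nonempty ((restr O V).obj ((sheafHom M).obj N) ≅
      (sheafHom ((restr O V).obj M)).obj ((restr O V).obj N)) := by
  let adj1 := (sheafHomAdj ((restr O V).obj M)).comp (extZeroAdj O V)
  let adj2 := (extZeroAdj O V).comp (sheafHomAdj M)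
  let Ψ : (tensorBi (O.over V)).flip.obj ((restr O V).obj M) ⋙ extZero O V ≅
      extZero O V ⋙ (tensorBi O).flip.obj M :=
    (projNatIsoP O V M).symm ≪≫
      Functor.isoWhiskerRight (extZeroIso O V).symm ((tensorBi O).flip.obj M)
  exact ⟨(Adjunction.rightAdjointUniq adj2 (adj1.ofNatIsoLeft Ψ)).app N⟩

end Groth.Agent.Lib.ModSiteH8
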