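import Mathlib
import Groth.Agent.Lib.ModSite19_helper8
import Groth.Agent.Lib.DerivedComm_helper8
import Groth.Prelude.Def_ModSite2

namespace Groth.Agent.Lib.ModSiteH8
open CategoryTheory Limits Opposite MonoidalCategory ModSite

universe u

variable {C : Type u} [SmallCategory C] {J : GrothendieckTopology C}
variable (O : Sheaf J CommRingCat.{u}) (V : C)

/-- Functor-level version of `restr_sheafHom_iso`. -/
noncomputable def restrSheafHomNatIso (M : Mod O) [HasSheafHom M]
    [HasSheafHom ((restr O V).obj M)] :
    sheafHom M ⋙ restr O V ≅ restr O V ⋙ sheafHom ((restr O V).obj M) :=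
  let adj1 := (sheafHomAdj ((restr O V).obj M)).comp (extZeroAdj O V)
  let adj2 := (extZeroAdj O V).comp (sheafHomAdj M)
  let Ψ : (tensorBi (O.over V)).flip.obj ((restr O V).obj M) ⋙ extZero O V ≅
      extZero O V ⋙ (tensorBi O).flip.obj M :=
    (projNatIsoP O V M).symm ≪≫
      Functor.isoWhiskerRight (extZeroIso O V).symm ((tensorBi O).flip.obj M)
  Adjunction.rightAdjointUniq adj2 (adj1.ofNatIsoLeft Ψ)

theorem restr_isLeftAdjoint : (restr O V).IsLeftAdjoint := by
  unfold restr SheafOfModules.overFunctor
  exact pushforward_isLeftAdjoint _ _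

instance restr_preservesFiniteColimits : PreservesFiniteColimits (restr O V) := by
  haveI := restr_isLeftAdjoint O V
  infer_instance

instance restr_preservesFiniteLimits : PreservesFiniteLimits (restr O V) := by
  infer_instance

instance restr_additive : (restr O V).Additive :=
  Functor.additive_of_preserves_binary_products _

instance restr_preservesInjectiveObjects : (restr O V).PreservesInjectiveObjects := by
  haveI := extZero_preservesFiniteLimits O V
  haveI : (extZero O V).PreservesMonomorphisms := inferInstance
  exact Functor.preservesInjectiveObjects_of_adjunction_of_preservesMonomorphisms (extZeroAdj O V)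

/-- Local Ext sheaves commute with localisation. -/
theorem extSh_comp_restr_iso (M : Mod O) [HasSheafHom M] [HasSheafHom ((restr O V).obj M)]
    [HasInjectiveResolutions (Mod O)] [HasInjectiveResolutions (Mod (O.over V))] (q : ℕ) :
    Nonempty (extSh M q ⋙ restr O V ≅ restr O V ⋙ extSh ((restr O V).obj M) q) :=
  ⟨Groth.Agent.Lib.DerivedCommH8.rightDerivedBaseChange (sheafHom M)
    (sheafHom ((restr O V).obj M)) (restr O V) (restr O V) (restrSheafHomNatIso O V M) q⟩

end Groth.Agent.Lib.ModSiteH8
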