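import Mathlib
import Groth.Prelude.Def_Coh
import Groth.Agent.Lib.ModSite20_helper8
import Groth.Agent.Lib.DerivedComm_helper8
import Groth.Agent.Lib.SheafOfModulesGrothendieck_helper2

/-!
# Higher direct images of modules commute with restriction to an open of the base (helper9)

`(R^q f_* M)|_V ≅ R^q (f|_V)_* (M|_{f⁻¹ V})` as `O_V`-modules.
APPEND-ONLY once landed.
-/

set_option autoImplicit false
universe u
open CategoryTheory CategoryTheory.Limits AlgebraicGeometry Opposite TopologicalSpace

namespace RpushQC

section Inj

variable {X : Scheme.{u}} (U : X.Opens)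

/-- restriction to an open subscheme preserves injective modules -/
instance preservesInjectiveObjects_restrictFunctor :
    (Scheme.Modules.restrictFunctor U.ι).PreservesInjectiveObjects := by
  haveI : (SheafOfModules.overFunctor X.ringCatSheaf U).PreservesInjectiveObjects :=
    Groth.Agent.Lib.ModSiteH8.restr_preservesInjectiveObjects X.sheaf U
  haveI : (Scheme.Modules.overEquiv U).functor.PreservesInjectiveObjects :=
    Functor.preservesInjectiveObjects_of_isEquivalence
  constructor
  intro I hI
  have h1 : Injective ((SheafOfModules.overFunctor X.ringCatSheaf U).obj I) :=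
    (SheafOfModules.overFunctor X.ringCatSheaf U).injective_obj_of_injective hI
  have h2 : Injective ((Scheme.Modules.overEquiv U).functor.obj
      ((SheafOfModules.overFunctor X.ringCatSheaf U).obj I)) :=
    (Scheme.Modules.overEquiv U).functor.injective_obj_of_injective h1
  exact Injective.of_iso ((Scheme.Modules.overFunctorEquiv U).app I) h2

/-- restriction to an open subscheme is additive -/
instance additive_restrictFunctor : (Scheme.Modules.restrictFunctor U.ι).Additive :=
  (Scheme.Modules.restrictAdjunction U.ι).left_adjoint_additive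

/-- restriction to an open subscheme is left exact -/
instance preservesFiniteLimits_restrictFunctor :
    PreservesFiniteLimits (Scheme.Modules.restrictFunctor U.ι) := by
  haveI : PreservesFiniteLimits (SheafOfModules.overFunctor X.ringCatSheaf U) :=
    Groth.Agent.Lib.ModSiteH8.restr_preservesFiniteLimits X.sheaf U
  haveI : PreservesFiniteLimits (Scheme.Modules.overEquiv U).functor :=
    ⟨fun _ _ _ => inferInstance⟩
  have h : PreservesFiniteLimits (SheafOfModules.overFunctor X.ringCatSheaf U ⋙
      (Scheme.Modules.overEquiv U).functor) := comp_preservesFiniteLimits _ _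
  exact @preservesFiniteLimits_of_natIso _ _ _ _ _ _ (Scheme.Modules.overFunctorEquiv U) h

theorem enoughInjectives_modules (X : Scheme.{u}) : EnoughInjectives X.Modules := by
  haveI : IsGrothendieckAbelian.{u} X.Modules :=
    Groth.Agent.Lib.FunctorialInjective.isGrothendieckAbelian_sheafOfModules
      (Opens.grothendieckTopology X) X.ringCatSheaf
  infer_instance

end Inj

variable {X S : Scheme.{u}} (f : X ⟶ S) (V : S.Opens)

/-- the two functors on opens agree -/
noncomputable def opensIso :
    V.ι.opensFunctor ⋙ Opens.map f.base ≅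
      Opens.map (f ∣_ V).base ⋙ (f ⁻¹ᵁ V).ι.opensFunctor :=
  NatIso.ofComponents (fun W => eqToIso (image_morphismRestrict_preimage f V W).symm)
    (fun _ => Subsingleton.elim _ _)

set_option maxHeartbeats 400000 in
/-- direct image commutes with restriction to an open of the base -/
noncomputable def pushRestrictIso :
    Scheme.Modules.pushforward f ⋙ Scheme.Modules.restrictFunctor V.ι ≅
      Scheme.Modules.restrictFunctor (f ⁻¹ᵁ V).ι ⋙ Scheme.Modules.pushforward (f ∣_ V) := by
  letI := CategoryTheory.Functor.isContinuous_comp.{u} V.ι.opensFunctor (Opens.map f.base)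
    (Opens.grothendieckTopology V) (Opens.grothendieckTopology S) (Opens.grothendieckTopology X)
  letI := CategoryTheory.Functor.isContinuous_comp.{u} (Opens.map (f ∣_ V).base)
    (f ⁻¹ᵁ V).ι.opensFunctor
    (Opens.grothendieckTopology V) (Opens.grothendieckTopology (f ⁻¹ᵁ V))
    (Opens.grothendieckTopology X)
  refine (SheafOfModules.pushforwardComp _ _) ≪≫
    SheafOfModules.pushforwardCongr₂ _ (opensIso f V).symm ?_ ≪≫
    (SheafOfModules.pushforwardComp _ _).symm
  ext W x
  have h : (V.ι.appIso W.unop).inv ≫ f.app (V.ι ''ᵁ W.unop) ≫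
      X.presheaf.map (eqToHom (image_morphismRestrict_preimage f V W.unop)).op =
      (f ∣_ V).app W.unop ≫ ((f ⁻¹ᵁ V).ι.appIso ((f ∣_ V) ⁻¹ᵁ W.unop)).inv := by
    rw [morphismRestrict_app]
    simp only [Scheme.Opens.ι_appIso, Iso.refl_inv]
    exact (Category.id_comp _).trans (Category.comp_id _).symm
  exact congr($h x)

/-- **Higher direct images commute with restriction to an open of the base.** -/
theorem nonempty_restrict_Rpush_iso [HasInjectiveResolutions X.Modules] (M : X.Modules) (q : ℕ) :
    haveI : HasInjectiveResolutions ((f ⁻¹ᵁ V : X.Opens) : Scheme.{u}).Modules :=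
      haveI := enoughInjectives_modules ((f ⁻¹ᵁ V : X.Opens) : Scheme.{u})
      inferInstance
    Nonempty (((Coh.Rpush f q).obj M).restrict V.ι ≅
      (Coh.Rpush (f ∣_ V) q).obj (M.restrict (f ⁻¹ᵁ V).ι)) := by
  haveI : HasInjectiveResolutions ((f ⁻¹ᵁ V : X.Opens) : Scheme.{u}).Modules :=
    haveI := enoughInjectives_modules ((f ⁻¹ᵁ V : X.Opens) : Scheme.{u})
    inferInstance
  haveI : PreservesFiniteColimits (Scheme.Modules.restrictFunctor (f ⁻¹ᵁ V).ι) := inferInstance
  haveI : PreservesFiniteColimits (Scheme.Modules.restrictFunctor V.ι) := inferInstance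
  haveI : (Scheme.Modules.restrictFunctor (f ⁻¹ᵁ V).ι).PreservesHomology := {}
  haveI : (Scheme.Modules.restrictFunctor V.ι).PreservesHomology := {}
  exact ⟨(Groth.Agent.Lib.DerivedCommH8.rightDerivedBaseChange (Scheme.Modules.pushforward f)
    (Scheme.Modules.pushforward (f ∣_ V)) (Scheme.Modules.restrictFunctor (f ⁻¹ᵁ V).ι)
    (Scheme.Modules.restrictFunctor V.ι) (pushRestrictIso f V) q).app M⟩

end RpushQC
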