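import Mathlib
import Groth.Prelude.Def_CohCmp
import Groth.Agent.Lib.EpiLoc_helper9
import Groth.Agent.Lib.RpushRestrict_helper9
import Groth.Agent.Lib.FAcyc_helper9
import Groth.Agent.Lib.ModSite1_helper8

/-!
# The comparison `H^p(f⁻¹V, F) → Γ(V, R^p f_* F)` is locally surjective (helper9)
APPEND-ONLY once landed.
-/

set_option autoImplicit false
universe u

namespace Groth.Agent.Lib.SectCmp1

open CategoryTheory CategoryTheory.Limits AlgebraicGeometry AlgebraicGeometry.Scheme.Modules
  TopologicalSpace Opposite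

variable {X Y : Scheme.{u}}

/-- restriction to an open followed by the underlying abelian sheaf is exact -/
theorem shortExact_toAbOn (U : X.Opens) (S : ShortComplex X.Modules) (hS : S.ShortExact) :
    (S.map (CohCmp.toAbOn X U)).ShortExact := by
  have h0 := Groth.Agent.Lib.ModSiteH8.toSheaf_preservesColimitsOfSize (U : Scheme.{u}).ringCatSheaf
  have hc2 : PreservesFiniteColimits (SheafOfModules.toSheaf.{u} (U : Scheme.{u}).ringCatSheaf) :=
    ⟨fun _ _ _ => inferInstance⟩
  have hl2 : PreservesFiniteLimits (SheafOfModules.toSheaf.{u} (U : Scheme.{u}).ringCatSheaf) :=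
    inferInstance
  have hl1 : PreservesFiniteLimits (Scheme.Modules.restrictFunctor U.ι) :=
    RpushQC.preservesFiniteLimits_restrictFunctor (U := U)
  have hc1 : PreservesFiniteColimits (Scheme.Modules.restrictFunctor U.ι) := inferInstance
  haveI : PreservesFiniteLimits (CohCmp.toAbOn X U) :=
    @comp_preservesFiniteLimits _ _ _ _ _ _ _ _ hl1 hl2
  haveI : PreservesFiniteColimits (CohCmp.toAbOn X U) :=
    @comp_preservesFiniteColimits _ _ _ _ _ _ _ _ hc1 hc2
  exact hS.map_of_exact _

/-- naturality of a morphism of modules on sections -/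
theorem app_map {M N : Y.Modules} (ψ : M ⟶ N) {W' W : Y.Opens} (h : W' ≤ W) (s : Γ(M, W)) :
    ψ.app W' (M.presheaf.map (homOfLE h).op s) = N.presheaf.map (homOfLE h).op (ψ.app W s) := by
  have := ψ.mapPresheaf.naturality (homOfLE h).op
  exact congr($this s)

theorem map_map (N : Y.Modules) {W'' W' W : Y.Opens} (h : W'' ≤ W') (h' : W' ≤ W) (s : Γ(N, W)) :
    N.presheaf.map (homOfLE h).op (N.presheaf.map (homOfLE h').op s) =
      N.presheaf.map (homOfLE (h.trans h')).op s := by
  have : N.presheaf.map (homOfLE h').op ≫ N.presheaf.map (homOfLE h).op =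
      N.presheaf.map (homOfLE (h.trans h')).op := by
    rw [← N.presheaf.map_comp]
    rfl
  exact congr($this s)

theorem map_refl (N : Y.Modules) {W : Y.Opens} (s : Γ(N, W)) :
    N.presheaf.map (homOfLE (le_refl W)).op s = s := by
  have : N.presheaf.map (homOfLE (le_refl W)).op = 𝟙 _ := N.presheaf.map_id _
  exact congr($this s)

variable (f : X ⟶ Y) [HasInjectiveResolutions X.Modules]

/-- the canonical short exact sequence `0 → F → I → Q → 0` with `I` injective -/
noncomputable abbrev sesInj (F : X.Modules) : ShortComplex X.Modules :=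
  haveI := Groth.Agent.Lib.FAcyc.enoughInjectives (A := X.Modules)
  ShortComplex.mk (Injective.ι F) (cokernel.π (Injective.ι F)) (cokernel.condition _)

theorem sesInj_shortExact (F : X.Modules) : (sesInj F).ShortExact := by
  haveI := Groth.Agent.Lib.FAcyc.enoughInjectives (A := X.Modules)
  exact
    { exact := ShortComplex.exact_cokernel _
      mono_f := by dsimp only [sesInj]; infer_instance
      epi_g := by dsimp only [sesInj]; infer_instance }

theorem epi_δ {Δ : RDer.DerivedLES (pushforward f)} (F : X.Modules) (p : ℕ) :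
    Epi (Δ.δ (sesInj F) (sesInj_shortExact F) p (p + 1) rfl) := by
  haveI := Groth.Agent.Lib.FAcyc.enoughInjectives (A := X.Modules)
  have hz : IsZero (((pushforward f).rightDerived (p + 1)).obj (sesInj F).X₂) :=
    Functor.isZero_rightDerived_obj_injective_succ _ p _
  exact (Δ.exact₁ (sesInj F) (sesInj_shortExact F) p (p + 1) rfl).epi_f (hz.eq_of_tgt _ _)

theorem locally_surjective {Δ : RDer.DerivedLES (pushforward f)} (E : CohCmp.SectCmp f Δ) :
    ∀ (p : ℕ) (F : X.Modules) (V : Y.Opens) (t : ((Coh.Rpush f p).obj F).presheaf.obj (op V))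
      (y : Y) (_ : y ∈ V),
      ∃ (W : Y.Opens) (hWV : W ≤ V), y ∈ W ∧
        ∃ x : Coh.HHon X F (f ⁻¹ᵁ W) p,
          E.ε W F p x = ((Coh.Rpush f p).obj F).presheaf.map (homOfLE hWV).op t := by
  intro p
  induction p with
  | zero =>
    intro F V t y hy
    refine ⟨V, le_rfl, hy, ?_⟩
    haveI : IsIso ((pushforward f).toRightDerivedZero.app F) := inferInstance
    let s : F.presheaf.obj (op (f ⁻¹ᵁ V)) :=
      (inv ((pushforward f).toRightDerivedZero.app F)).app V t
    refine ⟨CohPull.sectH0 F (f ⁻¹ᵁ V) s, ?_⟩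
    rw [E.zero, map_refl]
    have h : (inv ((pushforward f).toRightDerivedZero.app F)).app V ≫
        ((pushforward f).toRightDerivedZero.app F).app V = 𝟙 _ := by
      rw [← Scheme.Modules.Hom.comp_app, IsIso.inv_hom_id]
      rfl
    exact congr($h t)
  | succ p ih =>
    intro F V t y hy
    haveI := epi_δ f (Δ := Δ) F p
    obtain ⟨W, hWV, hyW, t', ht'⟩ :=
      EpiLoc.exists_local_lift (Δ.δ (sesInj F) (sesInj_shortExact F) p (p + 1) rfl) t hy
    obtain ⟨W', hW'W, hyW', x', hx'⟩ := ih (sesInj F).X₃ W t' y hyW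
    refine ⟨W', hW'W.trans hWV, hyW',
      CohCmp.extδ (shortExact_toAbOn (f ⁻¹ᵁ W') (sesInj F) (sesInj_shortExact F)) p x', ?_⟩
    have h1 := E.delta W' (sesInj F) (sesInj_shortExact F)
      (shortExact_toAbOn (f ⁻¹ᵁ W') (sesInj F) (sesInj_shortExact F)) p x'
    refine h1.trans ?_
    rw [hx', app_map, ht', map_map]

end Groth.Agent.Lib.SectCmp1
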