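import Mathlib
import Groth.Prelude.Def_CohCmp
import Groth.Agent.Lib.PullFn1_helper2
import Groth.Agent.Lib.SectCmp1_helper9

/-!
# Functoriality of the pullback maps on cohomology of O-modules (helper2)
APPEND-ONLY once landed.
-/

set_option autoImplicit false
set_option backward.isDefEq.respectTransparency false
set_option linter.style.haveILetI false
set_option linter.unusedSectionVars false
universe u

namespace Groth.Agent.Lib.PullFnH2

open CategoryTheory CategoryTheory.Limits AlgebraicGeometry AlgebraicGeometry.Scheme.Modules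
  TopologicalSpace Opposite Abelian

variable {X Y : Scheme.{u}} (g : X ⟶ Y)

/-- underlying abelian sheaf functor -/
noncomputable abbrev toAbF (X : Scheme.{u}) : X.Modules ⥤ CohTop.Ab X :=
  SheafOfModules.toSheaf.{u} X.ringCatSheaf

instance toAbF_additive (X : Scheme.{u}) : (toAbF X).Additive where
  map_add := by
    intros
    rfl

lemma toSheaf_push_map {A B : X.Modules} (φ : A ⟶ B) :
    (toAbF Y).map ((pushforward g).map φ) = (CohTop.push g.base).map ((toAbF X).map φ) := rfl

theorem theta_natural {M N : Y.Modules} (ψ : M ⟶ N) :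
    (CohPull.inv g.base).map ((toAbF Y).map ψ) ≫ CohPull.theta g N =
      CohPull.theta g M ≫ (toAbF X).map ((Scheme.Modules.pullback g).map ψ) := by
  have h : ψ ≫ (pullbackPushforwardAdjunction g).unit.app N =
      (pullbackPushforwardAdjunction g).unit.app M ≫
        (pushforward g).map ((Scheme.Modules.pullback g).map ψ) :=
    (pullbackPushforwardAdjunction g).unit.naturality ψ
  unfold CohPull.theta
  rw [← Adjunction.homEquiv_naturality_left_symm]
  have h2 : (SheafOfModules.toSheaf.{u} Y.ringCatSheaf).map ψ ≫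
      (SheafOfModules.toSheaf.{u} Y.ringCatSheaf).map ((pullbackPushforwardAdjunction g).unit.app N) =
      (SheafOfModules.toSheaf.{u} Y.ringCatSheaf).map ((pullbackPushforwardAdjunction g).unit.app M) ≫
        (CohTop.push g.base).map ((toAbF X).map ((Scheme.Modules.pullback g).map ψ)) := by
    rw [← Functor.map_comp, h, Functor.map_comp]
    rfl
  rw [h2]
  exact Adjunction.homEquiv_naturality_right_symm (CohPull.invPushAdj g.base) _ _

lemma pullMod_apply (M : Y.Modules) (p : ℕ) (x : Coh.HH Y M p) :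
    CohPull.pullMod g M p x = Sheaf.H.map (CohPull.theta g M) p (CohPull.pullAb g.base (Coh.toAb M) p x) :=
  rfl

theorem pullMod_map {M N : Y.Modules} (ψ : M ⟶ N) (p : ℕ) (x : Coh.HH Y M p) :
    CohPull.pullMod g N p (CohPull.mapH ψ p x) =
      CohPull.mapH ((Scheme.Modules.pullback g).map ψ) p (CohPull.pullMod g M p x) := by
  rw [pullMod_apply, pullMod_apply]
  show Sheaf.H.map _ p (CohPull.pullAb g.base _ p (Sheaf.H.map _ p x)) = Sheaf.H.map _ p _
  rw [pullAb_map, ← Sheaf.H.map_comp_apply, ← Sheaf.H.map_comp_apply]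
  exact congrArg (fun t => Sheaf.H.map t p _) (theta_natural g ψ)

/-- the morphism of short complexes given by `theta` -/
noncomputable def thetaSC (S : ShortComplex Y.Modules) :
    (S.map (toAbF Y)).map (CohPull.inv g.base) ⟶
      (S.map (Scheme.Modules.pullback g)).map (toAbF X) where
  τ₁ := CohPull.theta g S.X₁
  τ₂ := CohPull.theta g S.X₂
  τ₃ := CohPull.theta g S.X₃
  comm₁₂ := (theta_natural g S.f).symm
  comm₂₃ := (theta_natural g S.g).symm

theorem pullMod_extδ (S : ShortComplex Y.Modules)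
    (hA : (S.map (toAbF Y)).ShortExact)
    (hB : ((S.map (Scheme.Modules.pullback g)).map (toAbF X)).ShortExact)
    (p : ℕ) (x : Coh.HH Y S.X₃ p) :
    CohPull.pullMod g S.X₁ (p + 1) (extδ hA p x) = extδ hB p (CohPull.pullMod g S.X₃ p x) := by
  rw [pullMod_apply, pullMod_apply]
  have h1 := pullAb_extδ g.base hA p x
  have h2 := Hmap_extδ (hA.map_of_exact (CohPull.inv g.base)) hB (thetaSC g S) p
    (CohPull.pullAb g.base (Coh.toAb S.X₃) p x)
  exact (congrArg (Sheaf.H.map (CohPull.theta g S.X₁) (p + 1)) h1).trans h2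

section PullOn

variable (U : Y.Opens) (U' : X.Opens) (h : U' ≤ g ⁻¹ᵁ U)

/-- `pullOnIso` as a natural isomorphism -/
noncomputable def pullOnNatIso :
    restrictFunctor U.ι ⋙ Scheme.Modules.pullback (g.resLE U U' h) ≅
      Scheme.Modules.pullback g ⋙ restrictFunctor U'.ι :=
  Functor.isoWhiskerRight (restrictFunctorIsoPullback U.ι) (Scheme.Modules.pullback (g.resLE U U' h)) ≪≫
    pullbackComp (g.resLE U U' h) U.ι ≪≫
    pullbackCongr (Scheme.Hom.resLE_comp_ι g h) ≪≫
    (pullbackComp U'.ι g).symm ≪≫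
    Functor.isoWhiskerLeft (Scheme.Modules.pullback g) (restrictFunctorIsoPullback U'.ι).symm

lemma pullOnNatIso_app (F : Y.Modules) :
    (pullOnNatIso g U U' h).app F = CohPull.pullOnIso g U U' h F := by
  ext : 1
  simp [pullOnNatIso, CohPull.pullOnIso]

end PullOn

section PullOn2

variable (U : Y.Opens) (U' : X.Opens) (h : U' ≤ g ⁻¹ᵁ U)

theorem pullOnIso_natural {F G : Y.Modules} (ψ : F ⟶ G) :
    (Scheme.Modules.pullback (g.resLE U U' h)).map ((restrictFunctor U.ι).map ψ) ≫
        (CohPull.pullOnIso g U U' h G).hom =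
      (CohPull.pullOnIso g U U' h F).hom ≫
        (restrictFunctor U'.ι).map ((Scheme.Modules.pullback g).map ψ) := by
  have := (pullOnNatIso g U U' h).hom.naturality ψ
  rw [← pullOnNatIso_app, ← pullOnNatIso_app]
  exact this

lemma pullOn_apply (F : Y.Modules) (p : ℕ) (x : Coh.HHon Y F U p) :
    CohPull.pullOn g U U' h F p x =
      CohPull.mapH (CohPull.pullOnIso g U U' h F).hom p
        (CohPull.pullMod (g.resLE U U' h) (F.restrict U.ι) p x) := rfl

theorem pullOn_map {F G : Y.Modules} (ψ : F ⟶ G) (p : ℕ) (x : Coh.HHon Y F U p) :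
    CohPull.pullOn g U U' h G p (CohPull.mapH ((restrictFunctor U.ι).map ψ) p x) =
      CohPull.mapH ((restrictFunctor U'.ι).map ((Scheme.Modules.pullback g).map ψ)) p
        (CohPull.pullOn g U U' h F p x) := by
  rw [pullOn_apply, pullOn_apply, pullMod_map]
  show Sheaf.H.map _ p (Sheaf.H.map _ p _) = Sheaf.H.map _ p (Sheaf.H.map _ p _)
  rw [← Sheaf.H.map_comp_apply, ← Sheaf.H.map_comp_apply, ← Functor.map_comp, ← Functor.map_comp,
    pullOnIso_natural]

instance : (restrictFunctor U.ι).Additive := inferInstance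

end PullOn2

section PullOn3

variable (U : Y.Opens) (U' : X.Opens) (h : U' ≤ g ⁻¹ᵁ U)

/-- the morphism of short complexes given by `pullOnIso` -/
noncomputable def pullOnSC (S : ShortComplex Y.Modules) :
    ((S.map (restrictFunctor U.ι)).map (Scheme.Modules.pullback (g.resLE U U' h))).map (toAbF U') ⟶
      (S.map (Scheme.Modules.pullback g)).map (CohCmp.toAbOn X U') where
  τ₁ := (toAbF U').map (CohPull.pullOnIso g U U' h S.X₁).hom
  τ₂ := (toAbF U').map (CohPull.pullOnIso g U U' h S.X₂).hom
  τ₃ := (toAbF U').map (CohPull.pullOnIso g U U' h S.X₃).hom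
  comm₁₂ := by
    show (toAbF U').map _ ≫ (toAbF U').map _ = (toAbF U').map _ ≫ (toAbF U').map _
    rw [← Functor.map_comp, ← Functor.map_comp]
    exact congrArg _ (pullOnIso_natural g U U' h S.f).symm
  comm₂₃ := by
    show (toAbF U').map _ ≫ (toAbF U').map _ = (toAbF U').map _ ≫ (toAbF U').map _
    rw [← Functor.map_comp, ← Functor.map_comp]
    exact congrArg _ (pullOnIso_natural g U U' h S.g).symm

instance (S : ShortComplex Y.Modules) : IsIso (pullOnSC g U U' h S) := by
  haveI : IsIso (pullOnSC g U U' h S).τ₁ := by dsimp only [pullOnSC]; infer_instance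
  haveI : IsIso (pullOnSC g U U' h S).τ₂ := by dsimp only [pullOnSC]; infer_instance
  haveI : IsIso (pullOnSC g U U' h S).τ₃ := by dsimp only [pullOnSC]; infer_instance
  exact ShortComplex.isIso_of_isIso _

theorem pullOn_extδ (S : ShortComplex Y.Modules)
    (hA : (S.map (CohCmp.toAbOn Y U)).ShortExact)
    (hB : ((S.map (Scheme.Modules.pullback g)).map (CohCmp.toAbOn X U')).ShortExact)
    (p : ℕ) (x : Coh.HHon Y S.X₃ U p) :
    CohPull.pullOn g U U' h S.X₁ (p + 1) (CohCmp.extδ hA p x) =
      CohCmp.extδ hB p (CohPull.pullOn g U U' h S.X₃ p x) := by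
  have hC : (((S.map (restrictFunctor U.ι)).map
      (Scheme.Modules.pullback (g.resLE U U' h))).map (toAbF U')).ShortExact :=
    ShortComplex.shortExact_of_iso (asIso (pullOnSC g U U' h S)).symm hB
  have h1 := pullMod_extδ (g.resLE U U' h) (S.map (restrictFunctor U.ι)) hA hC p x
  have h2 := Hmap_extδ hC hB (pullOnSC g U U' h S) p
    (CohPull.pullMod (g.resLE U U' h) (S.X₃.restrict U.ι) p x)
  rw [pullOn_apply, pullOn_apply]
  exact (congrArg (CohPull.mapH (CohPull.pullOnIso g U U' h S.X₁).hom (p + 1)) h1).trans h2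

end PullOn3

section ResLE

variable {X : Scheme.{u}}

lemma resLE_apply (F : X.Modules) {U U' : X.Opens} (h : U' ≤ U) (p : ℕ) (x : Coh.HHon X F U p) :
    CohPull.resLE F h p x =
      CohPull.mapH ((restrictFunctor U'.ι).map ((pullbackId X).hom.app F)) p
        (CohPull.pullOn (𝟙 X) U U' (by rwa [Scheme.Hom.id_preimage]) F p x) := rfl

theorem resLE_map {F G : X.Modules} (ψ : F ⟶ G) {U U' : X.Opens} (h : U' ≤ U) (p : ℕ)
    (x : Coh.HHon X F U p) :
    CohPull.resLE G h p (CohPull.mapH ((restrictFunctor U.ι).map ψ) p x) =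
      CohPull.mapH ((restrictFunctor U'.ι).map ψ) p (CohPull.resLE F h p x) := by
  rw [resLE_apply, resLE_apply, pullOn_map]
  show Sheaf.H.map _ p (Sheaf.H.map _ p _) = Sheaf.H.map _ p (Sheaf.H.map _ p _)
  rw [← Sheaf.H.map_comp_apply, ← Sheaf.H.map_comp_apply, ← Functor.map_comp, ← Functor.map_comp,
    ← Functor.map_comp, ← Functor.map_comp]
  have := (pullbackId X).hom.naturality ψ
  simp only [Functor.id_map] at this
  rw [this]

/-- the morphism of short complexes given by `pullbackId` -/
noncomputable def pbIdSC (S : ShortComplex X.Modules) (U' : X.Opens) :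
    (S.map (Scheme.Modules.pullback (𝟙 X))).map (CohCmp.toAbOn X U') ⟶ S.map (CohCmp.toAbOn X U') where
  τ₁ := (CohCmp.toAbOn X U').map ((pullbackId X).hom.app S.X₁)
  τ₂ := (CohCmp.toAbOn X U').map ((pullbackId X).hom.app S.X₂)
  τ₃ := (CohCmp.toAbOn X U').map ((pullbackId X).hom.app S.X₃)
  comm₁₂ := by
    show (CohCmp.toAbOn X U').map _ ≫ (CohCmp.toAbOn X U').map _ =
      (CohCmp.toAbOn X U').map _ ≫ (CohCmp.toAbOn X U').map _
    rw [← Functor.map_comp, ← Functor.map_comp]
    exact congrArg _ ((pullbackId X).hom.naturality S.f).symm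
  comm₂₃ := by
    show (CohCmp.toAbOn X U').map _ ≫ (CohCmp.toAbOn X U').map _ =
      (CohCmp.toAbOn X U').map _ ≫ (CohCmp.toAbOn X U').map _
    rw [← Functor.map_comp, ← Functor.map_comp]
    exact congrArg _ ((pullbackId X).hom.naturality S.g).symm

instance (S : ShortComplex X.Modules) (U' : X.Opens) : IsIso (pbIdSC S U') := by
  haveI : IsIso (pbIdSC S U').τ₁ := by dsimp only [pbIdSC]; infer_instance
  haveI : IsIso (pbIdSC S U').τ₂ := by dsimp only [pbIdSC]; infer_instance
  haveI : IsIso (pbIdSC S U').τ₃ := by dsimp only [pbIdSC]; infer_instance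
  exact ShortComplex.isIso_of_isIso _

theorem resLE_extδ (S : ShortComplex X.Modules) {U U' : X.Opens} (h : U' ≤ U)
    (hA : (S.map (CohCmp.toAbOn X U)).ShortExact) (hA' : (S.map (CohCmp.toAbOn X U')).ShortExact)
    (p : ℕ) (x : Coh.HHon X S.X₃ U p) :
    CohPull.resLE S.X₁ h (p + 1) (CohCmp.extδ hA p x) =
      CohCmp.extδ hA' p (CohPull.resLE S.X₃ h p x) := by
  have hB : ((S.map (Scheme.Modules.pullback (𝟙 X))).map (CohCmp.toAbOn X U')).ShortExact :=
    ShortComplex.shortExact_of_iso (asIso (pbIdSC S U')).symm hA'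
  have h1 := pullOn_extδ (𝟙 X) U U' (by rwa [Scheme.Hom.id_preimage]) S hA hB p x
  have h2 := Hmap_extδ hB hA' (pbIdSC S U') p
    (CohPull.pullOn (𝟙 X) U U' (by rwa [Scheme.Hom.id_preimage]) S.X₃ p x)
  rw [resLE_apply, resLE_apply]
  exact (congrArg (CohPull.mapH ((restrictFunctor U'.ι).map ((pullbackId X).hom.app S.X₁)) (p + 1))
    h1).trans h2

end ResLE

end Groth.Agent.Lib.PullFnH2
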