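import Mathlib
import Groth.Prelude.Def_CohCmp
import Groth.Agent.Lib.PullFn2_helper2
import Groth.Agent.Lib.LimHomGlue_helper2

/-!
# Degree zero: restriction of cohomology classes to a smaller open is restriction of sections
(helper2)  APPEND-ONLY once landed.
-/

set_option autoImplicit false
set_option backward.isDefEq.respectTransparency false
set_option linter.style.haveILetI false
set_option linter.unusedSectionVars false
universe u

namespace Groth.Agent.Lib.PullFnH2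

open CategoryTheory CategoryTheory.Limits AlgebraicGeometry AlgebraicGeometry.Scheme.Modules
  TopologicalSpace Opposite Abelian

section DegZero

variable {Z : Scheme.{u}}

lemma equiv₀_mapH {M N : Z.Modules} (φ : M ⟶ N) (y : Coh.HH Z M 0) :
    Sheaf.H.equiv₀ (Coh.toAb N) (isTerminalTop : IsTerminal (⊤ : Z.Opens)) (CohPull.mapH φ 0 y) =
      φ.app ⊤ (Sheaf.H.equiv₀ (Coh.toAb M) isTerminalTop y) :=
  (Sheaf.H.equiv₀_naturality (hT := (isTerminalTop : IsTerminal (⊤ : Z.Opens)))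
    ((SheafOfModules.toSheaf.{u} Z.ringCatSheaf).map φ) y).symm

lemma equiv₀_sectH0 (F : Z.Modules) (U : Z.Opens) (s : F.presheaf.obj (op U)) :
    Sheaf.H.equiv₀ (Coh.toAb (F.restrict U.ι)) (isTerminalTop : IsTerminal (⊤ : U.toScheme.Opens))
        (CohPull.sectH0 F U s) =
      F.presheaf.map (eqToHom U.ι_image_top).op s := by
  unfold CohPull.sectH0
  rw [AddEquiv.trans_apply, AddEquiv.apply_symm_apply]
  rfl

end DegZero

section OpenImm

variable {X' X : Scheme.{u}} (ι : X' ⟶ X) [IsOpenImmersion ι]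

theorem image_le_of_le_preimage {V' : X'.Opens} {U : X.Opens} (h : V' ≤ ι ⁻¹ᵁ U) :
    ι ''ᵁ V' ≤ U := (ι.image_mono h).trans (ι.image_preimage_le U)

lemma comp_app' {Z : Scheme.{u}} {A B C : Z.Modules} (φ : A ⟶ B) (ψ : B ⟶ C) (U : Z.Opens) (x : Γ(A, U)) :
    (φ ≫ ψ).app U x = ψ.app U (φ.app U x) := rfl

/-- the canonical map to the sections of the pullback along an open immersion, through the
restriction functor -/
theorem cUV_openImm_eq (M : X.Modules) {V' : X'.Opens} {U : X.Opens} (h : V' ≤ ι ⁻¹ᵁ U)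
    (x : Γ(M, U)) :
    PBH8.cUV ι M h x =
      ((Scheme.Modules.restrictFunctorIsoPullback ι).hom.app M).app V'
        (show Γ(M.restrict ι, V') from
          M.presheaf.map (homOfLE (image_le_of_le_preimage ι h)).op x) := by
  have hu : (Scheme.Modules.pullbackPushforwardAdjunction ι).unit.app M =
      (Scheme.Modules.restrictAdjunction ι).unit.app M ≫
        (Scheme.Modules.pushforward ι).map
          ((Scheme.Modules.restrictFunctorIsoPullback ι).hom.app M) :=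
    ((Scheme.Modules.restrictAdjunction ι).unit_leftAdjointUniq_hom_app
      (Scheme.Modules.pullbackPushforwardAdjunction ι) M).symm
  unfold PBH8.cUV
  rw [hu]
  have h1 := QCohCrit.app_naturality ((Scheme.Modules.restrictFunctorIsoPullback ι).hom.app M)
    (homOfLE h) (show Γ(M.restrict ι, ι ⁻¹ᵁ U) from
      M.presheaf.map (homOfLE (ι.image_preimage_le U)).op x)
  refine h1.symm.trans ?_
  congr 1
  have := congrArg (fun ψ => ψ x) (M.presheaf.map_comp (homOfLE (ι.image_preimage_le U)).op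
    (homOfLE (ι.image_mono h)).op)
  exact this.symm

theorem restrictIso_inv_cUV (M : X.Modules) {V' : X'.Opens} {U : X.Opens} (h : V' ≤ ι ⁻¹ᵁ U)
    (x : Γ(M, U)) :
    ((Scheme.Modules.restrictFunctorIsoPullback ι).inv.app M).app V' (PBH8.cUV ι M h x) =
      (show Γ(M.restrict ι, V') from
          M.presheaf.map (homOfLE (image_le_of_le_preimage ι h)).op x) := by
  rw [cUV_openImm_eq, ← comp_app', Iso.hom_inv_id_app]
  rfl

end OpenImm

section PbId

variable {Z : Scheme.{u}}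

theorem pullbackId_hom_unit (M : Z.Modules) (V : Z.Opens) (x : Γ(M, V)) :
    ((Scheme.Modules.pullbackId Z).hom.app M).app ((𝟙 Z) ⁻¹ᵁ V)
      (((Scheme.Modules.pullbackPushforwardAdjunction (𝟙 Z)).unit.app M).app V x) = x := by
  have h1 := CategoryTheory.unit_conjugateEquiv Adjunction.id
    (Scheme.Modules.pullbackPushforwardAdjunction (𝟙 Z)) (Scheme.Modules.pullbackId Z).hom M
  rw [Scheme.Modules.conjugateEquiv_pullbackId_hom] at h1
  have h2 := congrArg (fun ψ => (Scheme.Modules.Hom.app ψ V) x) h1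
  exact h2.symm

theorem pullbackId_hom_cUV (M : Z.Modules) {U V : Z.Opens} (h : U ≤ (𝟙 Z) ⁻¹ᵁ V) (x : Γ(M, V)) :
    ((Scheme.Modules.pullbackId Z).hom.app M).app U (PBH8.cUV (𝟙 Z) M h x) =
      M.presheaf.map (homOfLE (show U ≤ V from h)).op x := by
  unfold PBH8.cUV
  rw [QCohCrit.app_naturality, pullbackId_hom_unit]
  rfl

end PbId

section ResZero

variable {X : Scheme.{u}}

lemma map_map_sec' (M : X.Modules) {U V W : X.Opens} (i : U ⟶ V) (j : V ⟶ W) (x : Γ(M, W)) :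
    M.presheaf.map i.op (M.presheaf.map j.op x) = M.presheaf.map (i ≫ j).op x := by
  have := congrArg (fun ψ => ψ x) (M.presheaf.map_comp j.op i.op)
  exact this.symm

lemma map_self {Z : Scheme.{u}} (N : Z.Modules) {W : Z.Opens} (i : W ⟶ W) (z : Γ(N, W)) :
    N.presheaf.map i.op z = z := by
  have : i = 𝟙 W := Subsingleton.elim _ _
  subst this
  have : N.presheaf.map (𝟙 W).op = 𝟙 _ := N.presheaf.map_id _
  exact congr($this z)

theorem equiv₀_pullMod_cUV {Y : Scheme.{u}} (g : X ⟶ Y) (M : Y.Modules) (y : Coh.HH Y M 0) :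
    Sheaf.H.equiv₀ (Coh.toAb ((Scheme.Modules.pullback g).obj M))
        (isTerminalTop : IsTerminal (⊤ : X.Opens)) (CohPull.pullMod g M 0 y) =
      PBH8.cUV g M (le_top : (⊤ : X.Opens) ≤ g ⁻¹ᵁ ⊤)
        (Sheaf.H.equiv₀ (Coh.toAb M) (isTerminalTop : IsTerminal (⊤ : Y.Opens)) y) := by
  rw [CohPull.equiv₀_pullMod]
  unfold PBH8.cUV
  exact (map_self ((Scheme.Modules.pullback g).obj M)
    (homOfLE (le_top : (⊤ : X.Opens) ≤ g ⁻¹ᵁ ⊤)) _).symm

theorem equiv₀_pullOn {Y : Scheme.{u}} (g : X ⟶ Y) (U : Y.Opens) (U' : X.Opens) (h : U' ≤ g ⁻¹ᵁ U)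
    (F : Y.Modules) (x : Coh.HHon Y F U 0) :
    Sheaf.H.equiv₀ (Coh.toAb (((Scheme.Modules.pullback g).obj F).restrict U'.ι))
        (isTerminalTop : IsTerminal (⊤ : U'.toScheme.Opens)) (CohPull.pullOn g U U' h F 0 x) =
      (CohPull.pullOnIso g U U' h F).hom.app ⊤
        (PBH8.cUV (g.resLE U U' h) (F.restrict U.ι) (U := ⊤) (V := ⊤) le_top
          (Sheaf.H.equiv₀ (Coh.toAb (F.restrict U.ι))
            (isTerminalTop : IsTerminal (⊤ : U.toScheme.Opens)) x)) := by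
  rw [pullOn_apply]
  refine (equiv₀_mapH (Z := U'.toScheme) _ _).trans ?_
  exact congrArg _ (equiv₀_pullMod_cUV _ _ _)

set_option maxRecDepth 8000 in
set_option maxHeartbeats 1000000 in
theorem equiv₀_resLE_sectH0 (F : X.Modules) {U U' : X.Opens} (h : U' ≤ U) (s : F.presheaf.obj (op U)) :
    Sheaf.H.equiv₀ (Coh.toAb (F.restrict U'.ι))
        (isTerminalTop : IsTerminal (⊤ : U'.toScheme.Opens))
        (CohPull.resLE F h 0 (CohPull.sectH0 F U s)) =
      F.presheaf.map (eqToHom U'.ι_image_top).op (F.presheaf.map (homOfLE h).op s) := by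
  have h' : U' ≤ (𝟙 X) ⁻¹ᵁ U := by rwa [Scheme.Hom.id_preimage]
  rw [resLE_apply]
  refine (equiv₀_mapH (Z := U'.toScheme) _ _).trans ?_
  refine (congrArg (fun z => ((restrictFunctor U'.ι).map ((pullbackId X).hom.app F)).app ⊤ z)
    (equiv₀_pullOn (𝟙 X) U U' h' F _)).trans ?_
  refine (congrArg (fun z => ((restrictFunctor U'.ι).map ((pullbackId X).hom.app F)).app ⊤
    ((CohPull.pullOnIso (𝟙 X) U U' h' F).hom.app ⊤
      (PBH8.cUV (Scheme.Hom.resLE (𝟙 X) U U' h') (F.restrict U.ι) (U := ⊤) (V := ⊤) le_top z)))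
    (equiv₀_sectH0 F U s)).trans ?_
  have h₁ : (⊤ : U.toScheme.Opens) ≤ U.ι ⁻¹ᵁ U := fun x _ => x.2
  have h₂ : (⊤ : U'.toScheme.Opens) ≤ (U'.ι ≫ 𝟙 X) ⁻¹ᵁ U := fun x _ => h x.2
  have h₃ : (⊤ : U'.toScheme.Opens) ≤ U'.ι ⁻¹ᵁ U := fun x _ => h x.2
  have h₄ : U ≤ (𝟙 X) ⁻¹ᵁ U := by rw [Scheme.Hom.id_preimage]
  have h₀ : (⊤ : U'.toScheme.Opens) ≤ (Scheme.Hom.resLE (𝟙 X) U U' h') ⁻¹ᵁ ⊤ := le_top
  have hb : ((restrictFunctorIsoPullback U.ι).hom.app F).app ⊤
      (show Γ(F.restrict U.ι, ⊤) from F.presheaf.map (eqToHom U.ι_image_top).op s) =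
        PBH8.cUV U.ι F h₁ s := by
    rw [cUV_openImm_eq]
    rfl
  have hc : ((Scheme.Modules.pullback (Scheme.Hom.resLE (𝟙 X) U U' h')).map
      ((restrictFunctorIsoPullback U.ι).hom.app F)).app ⊤
      (PBH8.cUV (Scheme.Hom.resLE (𝟙 X) U U' h') (F.restrict U.ι) h₀
        (show Γ(F.restrict U.ι, ⊤) from F.presheaf.map (eqToHom U.ι_image_top).op s)) =
      PBH8.cUV (Scheme.Hom.resLE (𝟙 X) U U' h') _ h₀ (PBH8.cUV U.ι F h₁ s) := by
    rw [PBH8.cUV_naturality, hb]
  have hde : ((pullbackCongr (Scheme.Hom.resLE_comp_ι (𝟙 X) h')).hom.app F).app ⊤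
      (((pullbackComp (Scheme.Hom.resLE (𝟙 X) U U' h') U.ι).hom.app F).app ⊤
        (PBH8.cUV (Scheme.Hom.resLE (𝟙 X) U U' h') _ h₀ (PBH8.cUV U.ι F h₁ s))) =
      PBH8.cUV (U'.ι ≫ 𝟙 X) F h₂ s := by
    have := Groth.Agent.Lib.LimMod.pbIso_cUV (Scheme.Hom.resLE (𝟙 X) U U' h') U.ι (U'.ι ≫ 𝟙 X)
      (Scheme.Hom.resLE_comp_ι (𝟙 X) h') F h₀ h₁ h₂ s
    simpa [DescH8.pbIso] using this
  have hf : ((pullbackComp U'.ι (𝟙 X)).inv.app F).app ⊤ (PBH8.cUV (U'.ι ≫ 𝟙 X) F h₂ s) =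
      PBH8.cUV U'.ι ((Scheme.Modules.pullback (𝟙 X)).obj F) h₃ (PBH8.cUV (𝟙 X) F h₄ s) := by
    have := Groth.Agent.Lib.LimMod.pbIso_cUV U'.ι (𝟙 X) (U'.ι ≫ 𝟙 X) rfl F h₃ h₄ h₂ s
    have e0 : (DescH8.pbIso U'.ι (𝟙 X) (U'.ι ≫ 𝟙 X) rfl).hom.app F =
        (pullbackComp U'.ι (𝟙 X)).hom.app F := by
      simp [DescH8.pbIso, pullbackCongr]
    rw [e0] at this
    rw [← this, ← comp_app', Iso.hom_inv_id_app]
    rfl
  have hg := restrictIso_inv_cUV U'.ι ((Scheme.Modules.pullback (𝟙 X)).obj F) h₃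
    (PBH8.cUV (𝟙 X) F h₄ s)
  have hi := pullbackId_hom_cUV F h₄ s
  have hk : U'.ι ''ᵁ ⊤ ≤ U := image_le_of_le_preimage U'.ι h₃
  have hh : ((restrictFunctor U'.ι).map ((pullbackId X).hom.app F)).app ⊤
      (show Γ(((Scheme.Modules.pullback (𝟙 X)).obj F).restrict U'.ι, ⊤) from
        ((Scheme.Modules.pullback (𝟙 X)).obj F).presheaf.map (homOfLE hk).op
          (PBH8.cUV (𝟙 X) F h₄ s)) =
      F.presheaf.map (homOfLE hk).op
        (((pullbackId X).hom.app F).app U (PBH8.cUV (𝟙 X) F h₄ s)) :=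
    QCohCrit.app_naturality ((pullbackId X).hom.app F) (homOfLE hk) _
  calc ((restrictFunctor U'.ι).map ((pullbackId X).hom.app F)).app ⊤
        ((CohPull.pullOnIso (𝟙 X) U U' h' F).hom.app ⊤
          (PBH8.cUV (Scheme.Hom.resLE (𝟙 X) U U' h') (F.restrict U.ι) (U := ⊤) (V := ⊤) le_top
            (F.presheaf.map (eqToHom U.ι_image_top).op s)))
      = ((restrictFunctor U'.ι).map ((pullbackId X).hom.app F)).app ⊤
        (((restrictFunctorIsoPullback U'.ι).inv.app ((Scheme.Modules.pullback (𝟙 X)).obj F)).app ⊤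
          (((pullbackComp U'.ι (𝟙 X)).inv.app F).app ⊤
            (((pullbackCongr (Scheme.Hom.resLE_comp_ι (𝟙 X) h')).hom.app F).app ⊤
              (((pullbackComp (Scheme.Hom.resLE (𝟙 X) U U' h') U.ι).hom.app F).app ⊤
                (((Scheme.Modules.pullback (Scheme.Hom.resLE (𝟙 X) U U' h')).map
                  ((restrictFunctorIsoPullback U.ι).hom.app F)).app ⊤
                  (PBH8.cUV (Scheme.Hom.resLE (𝟙 X) U U' h') (F.restrict U.ι) h₀
                    (show Γ(F.restrict U.ι, ⊤) from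
                      F.presheaf.map (eqToHom U.ι_image_top).op s))))))) := rfl
    _ = ((restrictFunctor U'.ι).map ((pullbackId X).hom.app F)).app ⊤
        (((restrictFunctorIsoPullback U'.ι).inv.app ((Scheme.Modules.pullback (𝟙 X)).obj F)).app ⊤
          (PBH8.cUV U'.ι ((Scheme.Modules.pullback (𝟙 X)).obj F) h₃ (PBH8.cUV (𝟙 X) F h₄ s))) := by
        rw [hc, hde, hf]
    _ = F.presheaf.map (homOfLE hk).op
        (((pullbackId X).hom.app F).app U (PBH8.cUV (𝟙 X) F h₄ s)) := by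
        rw [hg]
        exact hh
    _ = F.presheaf.map (eqToHom U'.ι_image_top).op (F.presheaf.map (homOfLE h).op s) := by
        rw [hi, map_map_sec', map_map_sec']
        rfl

theorem resLE_sectH0 (F : X.Modules) {U U' : X.Opens} (h : U' ≤ U) (s : F.presheaf.obj (op U)) :
    CohPull.resLE F h 0 (CohPull.sectH0 F U s) =
      CohPull.sectH0 F U' (F.presheaf.map (homOfLE h).op s) :=
  (Sheaf.H.equiv₀ (Coh.toAb (F.restrict U'.ι))
    (isTerminalTop : IsTerminal (⊤ : U'.toScheme.Opens))).injective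
    ((equiv₀_resLE_sectH0 F h s).trans (equiv₀_sectH0 F U' _).symm)

end ResZero

end Groth.Agent.Lib.PullFnH2
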