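import Mathlib
import Groth.Prelude.Def_CohCmp
import Groth.Agent.Lib.PullFn1_helper2

/-!
# Pullback on cohomology along a continuous map with a cohomomorphism (helper2)
APPEND-ONLY once landed.

For `r : T' ⟶ T`, abelian sheaves `A` on `T`, `A'` on `T'` and `c : A ⟶ r_* A'`, the map
`pullCo r c p : H^p(T, A) → H^p(T', A')`; naturality, compatibility with connecting maps, degree
zero, and composition.
-/

set_option autoImplicit false
set_option backward.isDefEq.respectTransparency false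
set_option linter.style.haveILetI false
set_option linter.unusedSectionVars false
universe u

namespace Groth.Agent.Lib.PullFnH2

open CategoryTheory CategoryTheory.Limits AlgebraicGeometry TopologicalSpace Opposite Abelian

section Top

variable {T T' T'' : TopCat.{u}}

/-- the adjoint `r⁻¹ A ⟶ A'` of a cohomomorphism `c : A ⟶ r_* A'` -/
noncomputable abbrev sharp (r : T' ⟶ T) {A : CohTop.Ab T} {A' : CohTop.Ab T'}
    (c : A ⟶ (CohTop.push r).obj A') : (CohPull.inv r).obj A ⟶ A' :=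
  ((CohPull.invPushAdj r).homEquiv _ _).symm c

/-- pullback on cohomology along `r` with a cohomomorphism `c : A ⟶ r_* A'` -/
noncomputable def pullCo (r : T' ⟶ T) {A : CohTop.Ab T} {A' : CohTop.Ab T'}
    (c : A ⟶ (CohTop.push r).obj A') (p : ℕ) : Sheaf.H A p →+ Sheaf.H A' p :=
  (Sheaf.H.map (sharp r c) p).comp (CohPull.pullAb r A p)

lemma pullCo_apply (r : T' ⟶ T) {A : CohTop.Ab T} {A' : CohTop.Ab T'}
    (c : A ⟶ (CohTop.push r).obj A') (p : ℕ) (x : Sheaf.H A p) :
    pullCo r c p x = Sheaf.H.map (sharp r c) p (CohPull.pullAb r A p x) := rfl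

lemma sharp_natural (r : T' ⟶ T) {A B : CohTop.Ab T} {A' B' : CohTop.Ab T'}
    (cA : A ⟶ (CohTop.push r).obj A') (cB : B ⟶ (CohTop.push r).obj B') (φ : A ⟶ B) (ψ : A' ⟶ B')
    (w : cA ≫ (CohTop.push r).map ψ = φ ≫ cB) :
    (CohPull.inv r).map φ ≫ sharp r cB = sharp r cA ≫ ψ := by
  unfold sharp
  rw [← Adjunction.homEquiv_naturality_left_symm, ← w, Adjunction.homEquiv_naturality_right_symm]

theorem pullCo_map (r : T' ⟶ T) {A B : CohTop.Ab T} {A' B' : CohTop.Ab T'}
    (cA : A ⟶ (CohTop.push r).obj A') (cB : B ⟶ (CohTop.push r).obj B') (φ : A ⟶ B) (ψ : A' ⟶ B')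
    (w : cA ≫ (CohTop.push r).map ψ = φ ≫ cB) (p : ℕ) (x : Sheaf.H A p) :
    pullCo r cB p (Sheaf.H.map φ p x) = Sheaf.H.map ψ p (pullCo r cA p x) := by
  rw [pullCo_apply, pullCo_apply, pullAb_map, ← Sheaf.H.map_comp_apply, ← Sheaf.H.map_comp_apply,
    sharp_natural r cA cB φ ψ w]

/-- the morphism of short complexes given by `sharp` -/
noncomputable def sharpSC (r : T' ⟶ T) {S : ShortComplex (CohTop.Ab T)}
    {S' : ShortComplex (CohTop.Ab T')} (c : S ⟶ S'.map (CohTop.push r)) :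
    S.map (CohPull.inv r) ⟶ S' where
  τ₁ := sharp r c.τ₁
  τ₂ := sharp r c.τ₂
  τ₃ := sharp r c.τ₃
  comm₁₂ := (sharp_natural r c.τ₁ c.τ₂ S.f S'.f c.comm₁₂).symm
  comm₂₃ := (sharp_natural r c.τ₂ c.τ₃ S.g S'.g c.comm₂₃).symm

theorem pullCo_extδ (r : T' ⟶ T) {S : ShortComplex (CohTop.Ab T)}
    {S' : ShortComplex (CohTop.Ab T')} (hS : S.ShortExact) (hS' : S'.ShortExact)
    (c : S ⟶ S'.map (CohTop.push r)) (p : ℕ) (x : Sheaf.H S.X₃ p) :
    pullCo r c.τ₁ (p + 1) (extδ hS p x) = extδ hS' p (pullCo r c.τ₃ p x) := by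
  rw [pullCo_apply, pullCo_apply, pullAb_extδ]
  exact Hmap_extδ (hS.map_of_exact (CohPull.inv r)) hS' (sharpSC r c) p _

theorem equiv₀_pullCo (r : T' ⟶ T) {A : CohTop.Ab T} {A' : CohTop.Ab T'}
    (c : A ⟶ (CohTop.push r).obj A') (x : Sheaf.H A 0) :
    Sheaf.H.equiv₀ A' isTerminalTop (pullCo r c 0 x) =
      c.hom.app (op ⊤) (Sheaf.H.equiv₀ A isTerminalTop x) := by
  rw [pullCo_apply, ← Sheaf.H.equiv₀_naturality, CohPull.equiv₀_pullAb]
  have h : (CohPull.invPushAdj r).unit.app A ≫ (CohTop.push r).map (sharp r c) = c := by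
    have h1 := Adjunction.homEquiv_unit (CohPull.invPushAdj r) A A' (sharp r c)
    rw [← h1]
    exact Equiv.apply_symm_apply _ _
  have := congrArg (fun t => (t.hom.app (op ⊤)) (Sheaf.H.equiv₀ A isTerminalTop x)) h
  simp only [ObjectProperty.FullSubcategory.comp_hom, NatTrans.comp_app,
    ConcreteCategory.comp_apply] at this
  exact this

/-- the unit of the inverse image / pushforward adjunction, with a clean type -/
noncomputable abbrev η (r : T' ⟶ T) (A : CohTop.Ab T) :
    A ⟶ (CohTop.push r).obj ((CohPull.inv r).obj A) :=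
  (CohPull.invPushAdj r).unit.app A

lemma η_natural (r : T' ⟶ T) {A B : CohTop.Ab T} (φ : A ⟶ B) :
    φ ≫ η r B = η r A ≫ (CohTop.push r).map ((CohPull.inv r).map φ) :=
  (CohPull.invPushAdj r).unit.naturality φ

lemma unit_sharp (r : T' ⟶ T) {A : CohTop.Ab T} {A' : CohTop.Ab T'}
    (c : A ⟶ (CohTop.push r).obj A') :
    η r A ≫ (CohTop.push r).map (sharp r c) = c := by
  have h1 := Adjunction.homEquiv_unit (CohPull.invPushAdj r) A A' (sharp r c)
  refine h1.symm.trans ?_
  exact Equiv.apply_symm_apply _ _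

lemma sharp_unit (r : T' ⟶ T) (A : CohTop.Ab T) :
    sharp r (η r A) = 𝟙 _ := by
  unfold sharp
  rw [Adjunction.homEquiv_symm_apply]
  exact (CohPull.invPushAdj r).left_triangle_components A

lemma pullCo_unit (r : T' ⟶ T) (A : CohTop.Ab T) (p : ℕ) (x : Sheaf.H A p) :
    pullCo r (η r A) p x = CohPull.pullAb r A p x := by
  rw [pullCo_apply, sharp_unit]
  exact Sheaf.H.map_id_apply _

/-- composite of cohomomorphisms -/
noncomputable abbrev compCo (r : T' ⟶ T) (r' : T'' ⟶ T') {A : CohTop.Ab T} {A' : CohTop.Ab T'}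
    {A'' : CohTop.Ab T''} (c : A ⟶ (CohTop.push r).obj A') (c' : A' ⟶ (CohTop.push r').obj A'') :
    A ⟶ (CohTop.push (r' ≫ r)).obj A'' :=
  c ≫ (CohTop.push r).map c'

/-- the unit as a morphism of short complexes -/
noncomputable def unitSC (r : T' ⟶ T) (S : ShortComplex (CohTop.Ab T)) :
    S ⟶ (S.map (CohPull.inv r)).map (CohTop.push r) where
  τ₁ := η r S.X₁
  τ₂ := η r S.X₂
  τ₃ := η r S.X₃
  comm₁₂ := (η_natural r S.f).symm
  comm₂₃ := (η_natural r S.g).symm

lemma η2_natural (r : T' ⟶ T) (r' : T'' ⟶ T') {A B : CohTop.Ab T} (φ : A ⟶ B) :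
    compCo r r' (η r A) (η r' ((CohPull.inv r).obj A)) ≫
        (CohTop.push (r' ≫ r)).map ((CohPull.inv r').map ((CohPull.inv r).map φ)) =
      φ ≫ compCo r r' (η r B) (η r' ((CohPull.inv r).obj B)) := by
  have h1 := η_natural r φ
  have h2 := η_natural r' ((CohPull.inv r).map φ)
  show (η r A ≫ (CohTop.push r).map (η r' _)) ≫
      (CohTop.push r).map ((CohTop.push r').map ((CohPull.inv r').map ((CohPull.inv r).map φ))) =
    φ ≫ η r B ≫ (CohTop.push r).map (η r' _)
  rw [Category.assoc, ← Functor.map_comp, ← h2, Functor.map_comp, ← Category.assoc, ← h1,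
    Category.assoc]

/-- the composite unit as a morphism of short complexes -/
noncomputable def unit2SC (r : T' ⟶ T) (r' : T'' ⟶ T') (S : ShortComplex (CohTop.Ab T)) :
    S ⟶ ((S.map (CohPull.inv r)).map (CohPull.inv r')).map (CohTop.push (r' ≫ r)) where
  τ₁ := compCo r r' (η r S.X₁) (η r' ((CohPull.inv r).obj S.X₁))
  τ₂ := compCo r r' (η r S.X₂) (η r' ((CohPull.inv r).obj S.X₂))
  τ₃ := compCo r r' (η r S.X₃) (η r' ((CohPull.inv r).obj S.X₃))
  comm₁₂ := η2_natural r r' S.f
  comm₂₃ := η2_natural r r' S.g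

/-- an injective embedding sequence of an abelian sheaf -/
noncomputable abbrev sesInjAb (A : CohTop.Ab T) : ShortComplex (CohTop.Ab T) :=
  ShortComplex.mk (Injective.ι A) (cokernel.π (Injective.ι A)) (cokernel.condition _)

lemma sesInjAb_shortExact (A : CohTop.Ab T) : (sesInjAb A).ShortExact :=
  { exact := ShortComplex.exact_cokernel _
    mono_f := by dsimp only [sesInjAb]; infer_instance
    epi_g := by dsimp only [sesInjAb]; infer_instance }

lemma exists_extδ_ab (A : CohTop.Ab T) (p : ℕ) (x : Sheaf.H A (p + 1)) :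
    ∃ z : Sheaf.H (sesInjAb A).X₃ p, extδ (sesInjAb_shortExact A) p z = x := by
  haveI : Injective (sesInjAb A).X₂ := by dsimp only [sesInjAb]; infer_instance
  obtain ⟨z, hz⟩ := Abelian.Ext.covariant_sequence_exact₁ _ (sesInjAb_shortExact A)
    (show Abelian.Ext _ (sesInjAb A).X₁ (p + 1) from x) (Abelian.Ext.eq_zero_of_injective _) rfl
  exact ⟨z, hz⟩

/-- composition, universal case -/
theorem pullCo_comp_unit (r : T' ⟶ T) (r' : T'' ⟶ T') : ∀ (p : ℕ) (A : CohTop.Ab T)
    (x : Sheaf.H A p),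
    pullCo r' (η r' ((CohPull.inv r).obj A)) p (pullCo r (η r A) p x) =
      pullCo (r' ≫ r) (compCo r r' (η r A) (η r' ((CohPull.inv r).obj A))) p x := by
  intro p
  induction p with
  | zero =>
    intro A x
    apply (Sheaf.H.equiv₀ ((CohPull.inv r').obj ((CohPull.inv r).obj A)) isTerminalTop).injective
    rw [equiv₀_pullCo, equiv₀_pullCo, equiv₀_pullCo]
    rfl
  | succ p ih =>
    intro A x
    obtain ⟨z, rfl⟩ := exists_extδ_ab A p x
    have hS := sesInjAb_shortExact A
    have hS' := hS.map_of_exact (CohPull.inv r)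
    have hS'' := hS'.map_of_exact (CohPull.inv r')
    have e1 := pullCo_extδ r hS hS' (unitSC r (sesInjAb A)) p z
    have e2 := pullCo_extδ r' hS' hS'' (unitSC r' ((sesInjAb A).map (CohPull.inv r))) p
      (pullCo r (unitSC r (sesInjAb A)).τ₃ p z)
    have e3 := pullCo_extδ (r' ≫ r) hS hS'' (unit2SC r r' (sesInjAb A)) p z
    refine (congrArg (fun t => pullCo r' (η r' ((CohPull.inv r).obj A)) (p + 1) t) e1).trans
      (e2.trans ?_)
    refine Eq.trans ?_ e3.symm
    exact congrArg (fun t => extδ hS'' p t) (ih (sesInjAb A).X₃ z)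

/-- composition of pullbacks with cohomomorphisms -/
theorem pullCo_comp (r : T' ⟶ T) (r' : T'' ⟶ T') {A : CohTop.Ab T} {A' : CohTop.Ab T'}
    {A'' : CohTop.Ab T''} (c : A ⟶ (CohTop.push r).obj A') (c' : A' ⟶ (CohTop.push r').obj A'')
    (p : ℕ) (x : Sheaf.H A p) :
    pullCo r' c' p (pullCo r c p x) = pullCo (r' ≫ r) (compCo r r' c c') p x := by
  have hU := pullCo_comp_unit r r' p A x
  rw [pullCo_unit, pullCo_unit] at hU
  rw [pullCo_apply, pullCo_apply, pullAb_map, ← Sheaf.H.map_comp_apply, hU]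
  have w : compCo r r' (η r A) (η r' ((CohPull.inv r).obj A)) ≫
      (CohTop.push (r' ≫ r)).map ((CohPull.inv r').map (sharp r c) ≫ sharp r' c') =
      𝟙 A ≫ compCo r r' c c' := by
    have h2 := η_natural r' (sharp r c)
    show (η r A ≫ (CohTop.push r).map (η r' _)) ≫
      (CohTop.push r).map ((CohTop.push r').map ((CohPull.inv r').map (sharp r c) ≫ sharp r' c')) =
      𝟙 A ≫ c ≫ (CohTop.push r).map c'
    rw [Category.id_comp, Category.assoc, ← Functor.map_comp, Functor.map_comp (CohTop.push r'),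
      ← Category.assoc (η r' _), ← h2, Category.assoc, unit_sharp,
      Functor.map_comp, ← Category.assoc, unit_sharp]
  have := pullCo_map (r' ≫ r) _ (compCo r r' c c') (𝟙 A)
    ((CohPull.inv r').map (sharp r c) ≫ sharp r' c') w p x
  rw [Sheaf.H.map_id_apply] at this
  exact this.symm

end Top

end Groth.Agent.Lib.PullFnH2
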