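import Mathlib
import Groth.Prelude.Def_CohCmp
import Groth.Agent.Lib.PullFn3_helper2
import Groth.Agent.Lib.PullFn4_helper2

/-!
# Pullback on cohomology of O-modules with a cohomomorphism; composition of `pullOn` (helper2)
APPEND-ONLY once landed.
-/

set_option autoImplicit false
set_option backward.isDefEq.respectTransparency false
set_option linter.style.haveILetI false
set_option linter.unusedSectionVars false
universe u

namespace Groth.Agent.Lib.PullFnH2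

open CategoryTheory CategoryTheory.Limits AlgebraicGeometry AlgebraicGeometry.Scheme.Modules
  TopologicalSpace Opposite Abelian

section ModCo

variable {X'' X' X : Scheme.{u}}

/-- the underlying cohomomorphism of abelian sheaves -/
noncomputable abbrev coAb (r : X' ⟶ X) {M : X.Modules} {M' : X'.Modules}
    (c : M ⟶ (Scheme.Modules.pushforward r).obj M') :
    Coh.toAb M ⟶ (CohTop.push r.base).obj (Coh.toAb M') :=
  (SheafOfModules.toSheaf.{u} X.ringCatSheaf).map c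

/-- pullback on cohomology of O-modules along `r` with a cohomomorphism `c : M ⟶ r_* M'` -/
noncomputable def pullCoMod (r : X' ⟶ X) {M : X.Modules} {M' : X'.Modules}
    (c : M ⟶ (Scheme.Modules.pushforward r).obj M') (p : ℕ) : Coh.HH X M p →+ Coh.HH X' M' p :=
  pullCo r.base (coAb r c) p

lemma pullCoMod_apply (r : X' ⟶ X) {M : X.Modules} {M' : X'.Modules}
    (c : M ⟶ (Scheme.Modules.pushforward r).obj M') (p : ℕ) (x : Coh.HH X M p) :
    pullCoMod r c p x = pullCo r.base (coAb r c) p x := rfl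

lemma pullMod_eq (r : X' ⟶ X) (M : X.Modules) (p : ℕ) (x : Coh.HH X M p) :
    CohPull.pullMod r M p x =
      pullCoMod r ((pullbackPushforwardAdjunction r).unit.app M) p x := rfl

theorem mapH_pullCoMod (r : X' ⟶ X) {M : X.Modules} {M' N' : X'.Modules}
    (c : M ⟶ (Scheme.Modules.pushforward r).obj M') (ψ : M' ⟶ N') (p : ℕ) (x : Coh.HH X M p) :
    CohPull.mapH ψ p (pullCoMod r c p x) =
      pullCoMod r (c ≫ (Scheme.Modules.pushforward r).map ψ) p x := by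
  have w : coAb r c ≫ (CohTop.push r.base).map ((toAbF X').map ψ) =
      𝟙 _ ≫ coAb r (c ≫ (Scheme.Modules.pushforward r).map ψ) := by
    rw [Category.id_comp]
    exact ((toAbF X).map_comp c ((Scheme.Modules.pushforward r).map ψ)).symm
  have := pullCo_map r.base (coAb r c) (coAb r (c ≫ (Scheme.Modules.pushforward r).map ψ)) (𝟙 _)
    ((toAbF X').map ψ) w p x
  rw [Sheaf.H.map_id_apply] at this
  exact this.symm

theorem pullCoMod_congr {r r' : X' ⟶ X} (e : r = r') {M : X.Modules} {M' : X'.Modules}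
    (c : M ⟶ (Scheme.Modules.pushforward r).obj M')
    (c' : M ⟶ (Scheme.Modules.pushforward r').obj M')
    (hc : ∀ (O : X.Opens) (s : Γ(M, O)),
      M'.presheaf.map (eqToHom (show r' ⁻¹ᵁ O = r ⁻¹ᵁ O by rw [e])).op (c.app O s) = c'.app O s)
    (p : ℕ) (x : Coh.HH X M p) : pullCoMod r c p x = pullCoMod r' c' p x := by
  subst e
  have : c = c' := by
    ext O s
    have := hc O s
    rwa [map_self] at this
  rw [this]

theorem pullCoMod_comp (r : X' ⟶ X) (r' : X'' ⟶ X') {M : X.Modules} {M' : X'.Modules}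
    {M'' : X''.Modules} (c : M ⟶ (Scheme.Modules.pushforward r).obj M')
    (c' : M' ⟶ (Scheme.Modules.pushforward r').obj M'') (p : ℕ) (x : Coh.HH X M p) :
    pullCoMod r' c' p (pullCoMod r c p x) =
      pullCoMod (r' ≫ r) (c ≫ (Scheme.Modules.pushforward r).map c' ≫
        (Scheme.Modules.pushforwardComp r' r).hom.app M'') p x := by
  rw [pullCoMod_apply, pullCoMod_apply, pullCo_comp]
  rfl

end ModCo

section COn

variable {X Y : Scheme.{u}} (g : X ⟶ Y) (U : Y.Opens) (U' : X.Opens) (h : U' ≤ g ⁻¹ᵁ U)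

/-- the cohomomorphism underlying `CohPull.pullOn` -/
noncomputable def cOn (F : Y.Modules) :
    F.restrict U.ι ⟶ (Scheme.Modules.pushforward (g.resLE U U' h)).obj
      (((Scheme.Modules.pullback g).obj F).restrict U'.ι) :=
  (pullbackPushforwardAdjunction (g.resLE U U' h)).unit.app (F.restrict U.ι) ≫
    (Scheme.Modules.pushforward (g.resLE U U' h)).map (CohPull.pullOnIso g U U' h F).hom

theorem pullOn_eq (F : Y.Modules) (p : ℕ) (x : Coh.HHon Y F U p) :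
    CohPull.pullOn g U U' h F p x = pullCoMod (g.resLE U U' h) (cOn g U U' h F) p x := by
  rw [pullOn_apply, pullMod_eq]
  exact mapH_pullCoMod _ _ _ p x

lemma cUV_map {F : Y.Modules} {W W' : X.Opens} {V : Y.Opens} (hW : W ≤ g ⁻¹ᵁ V) (i : W' ⟶ W)
    (x : Γ(F, V)) :
    ((Scheme.Modules.pullback g).obj F).presheaf.map i.op (PBH8.cUV g F hW x) =
      PBH8.cUV g F (i.le.trans hW) x := by
  have : i = homOfLE i.le := Subsingleton.elim _ _
  rw [this]
  exact PBH8.cUV_res g F hW i.le x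

lemma image_resLE_preimage_le (O : U.toScheme.Opens) :
    U'.ι ''ᵁ ((g.resLE U U' h) ⁻¹ᵁ O) ≤ g ⁻¹ᵁ (U.ι ''ᵁ O) :=
  (Scheme.Hom.le_resLE_preimage_iff g h O _).mp le_rfl

set_option maxRecDepth 8000 in
set_option maxHeartbeats 1000000 in
/-- on sections, the cohomomorphism underlying `pullOn` is the canonical map to the sections of
the pullback -/
theorem cOn_app (F : Y.Modules) (O : U.toScheme.Opens) (s : Γ(F, U.ι ''ᵁ O)) :
    (cOn g U U' h F).app O (show Γ(F.restrict U.ι, O) from s) =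
      (show Γ(((Scheme.Modules.pullback g).obj F).restrict U'.ι, (g.resLE U U' h) ⁻¹ᵁ O) from
        PBH8.cUV g F (image_resLE_preimage_le g U U' h O) s) := by
  have h₀ : (g.resLE U U' h) ⁻¹ᵁ O ≤ (g.resLE U U' h) ⁻¹ᵁ O := le_rfl
  have h₁ : O ≤ U.ι ⁻¹ᵁ (U.ι ''ᵁ O) := by
    rw [Scheme.Hom.preimage_image_eq]
  have h₄ := image_resLE_preimage_le g U U' h O
  have h₃ : (g.resLE U U' h) ⁻¹ᵁ O ≤ U'.ι ⁻¹ᵁ (U'.ι ''ᵁ ((g.resLE U U' h) ⁻¹ᵁ O)) := by
    rw [Scheme.Hom.preimage_image_eq]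
  have h₂ : (g.resLE U U' h) ⁻¹ᵁ O ≤ (U'.ι ≫ g) ⁻¹ᵁ (U.ι ''ᵁ O) := by
    rw [Scheme.Hom.comp_preimage]
    exact h₃.trans (U'.ι.preimage_mono h₄)
  have ha : ((pullbackPushforwardAdjunction (g.resLE U U' h)).unit.app (F.restrict U.ι)).app O
      (show Γ(F.restrict U.ι, O) from s) =
      PBH8.cUV (g.resLE U U' h) (F.restrict U.ι) h₀ (show Γ(F.restrict U.ι, O) from s) := by
    unfold PBH8.cUV
    exact (map_self ((Scheme.Modules.pullback (g.resLE U U' h)).obj (F.restrict U.ι))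
      (homOfLE h₀) _).symm
  have hb : ((restrictFunctorIsoPullback U.ι).hom.app F).app O
      (show Γ(F.restrict U.ι, O) from s) = PBH8.cUV U.ι F h₁ s := by
    rw [cUV_openImm_eq, map_self]
  have hc : ((Scheme.Modules.pullback (g.resLE U U' h)).map
      ((restrictFunctorIsoPullback U.ι).hom.app F)).app ((g.resLE U U' h) ⁻¹ᵁ O)
      (PBH8.cUV (g.resLE U U' h) (F.restrict U.ι) h₀ (show Γ(F.restrict U.ι, O) from s)) =
      PBH8.cUV (g.resLE U U' h) _ h₀ (PBH8.cUV U.ι F h₁ s) := by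
    rw [PBH8.cUV_naturality, hb]
  have hde : ((pullbackCongr (Scheme.Hom.resLE_comp_ι g h)).hom.app F).app
        ((g.resLE U U' h) ⁻¹ᵁ O)
      (((pullbackComp (g.resLE U U' h) U.ι).hom.app F).app ((g.resLE U U' h) ⁻¹ᵁ O)
        (PBH8.cUV (g.resLE U U' h) _ h₀ (PBH8.cUV U.ι F h₁ s))) =
      PBH8.cUV (U'.ι ≫ g) F h₂ s := by
    have := Groth.Agent.Lib.LimMod.pbIso_cUV (g.resLE U U' h) U.ι (U'.ι ≫ g)
      (Scheme.Hom.resLE_comp_ι g h) F h₀ h₁ h₂ s
    simpa [DescH8.pbIso] using this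
  have hf : ((pullbackComp U'.ι g).inv.app F).app ((g.resLE U U' h) ⁻¹ᵁ O)
        (PBH8.cUV (U'.ι ≫ g) F h₂ s) =
      PBH8.cUV U'.ι ((Scheme.Modules.pullback g).obj F) h₃ (PBH8.cUV g F h₄ s) := by
    have := Groth.Agent.Lib.LimMod.pbIso_cUV U'.ι g (U'.ι ≫ g) rfl F h₃ h₄ h₂ s
    have e0 : (DescH8.pbIso U'.ι g (U'.ι ≫ g) rfl).hom.app F =
        (pullbackComp U'.ι g).hom.app F := by
      simp [DescH8.pbIso, pullbackCongr]
    rw [e0] at this
    rw [← this, ← comp_app', Iso.hom_inv_id_app]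
    rfl
  have hg : ((restrictFunctorIsoPullback U'.ι).inv.app ((Scheme.Modules.pullback g).obj F)).app
        ((g.resLE U U' h) ⁻¹ᵁ O)
        (PBH8.cUV U'.ι ((Scheme.Modules.pullback g).obj F) h₃ (PBH8.cUV g F h₄ s)) =
      (show Γ(((Scheme.Modules.pullback g).obj F).restrict U'.ι, (g.resLE U U' h) ⁻¹ᵁ O) from
        PBH8.cUV g F h₄ s) := by
    rw [restrictIso_inv_cUV, map_self]
  calc (cOn g U U' h F).app O (show Γ(F.restrict U.ι, O) from s)
      = ((restrictFunctorIsoPullback U'.ι).inv.app ((Scheme.Modules.pullback g).obj F)).app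
          ((g.resLE U U' h) ⁻¹ᵁ O)
          (((pullbackComp U'.ι g).inv.app F).app ((g.resLE U U' h) ⁻¹ᵁ O)
            (((pullbackCongr (Scheme.Hom.resLE_comp_ι g h)).hom.app F).app
              ((g.resLE U U' h) ⁻¹ᵁ O)
              (((pullbackComp (g.resLE U U' h) U.ι).hom.app F).app ((g.resLE U U' h) ⁻¹ᵁ O)
                (((Scheme.Modules.pullback (g.resLE U U' h)).map
                  ((restrictFunctorIsoPullback U.ι).hom.app F)).app ((g.resLE U U' h) ⁻¹ᵁ O)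
                  (((pullbackPushforwardAdjunction (g.resLE U U' h)).unit.app
                    (F.restrict U.ι)).app O (show Γ(F.restrict U.ι, O) from s)))))) := rfl
    _ = _ := by rw [ha, hc, hde, hf, hg]

end COn


section PullOnComp

lemma restrict_map_cUV {X Y : Scheme.{u}} (g : X ⟶ Y) (F : Y.Modules) (U' : X.Opens)
    {O₁ O₂ : U'.toScheme.Opens} (i : O₂ ⟶ O₁) {V : Y.Opens}
    (hV : U'.ι ''ᵁ O₁ ≤ g ⁻¹ᵁ V) (hV' : U'.ι ''ᵁ O₂ ≤ g ⁻¹ᵁ V) (s : Γ(F, V)) :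
    (((Scheme.Modules.pullback g).obj F).restrict U'.ι).presheaf.map i.op
      (show Γ(((Scheme.Modules.pullback g).obj F).restrict U'.ι, O₁) from PBH8.cUV g F hV s) =
    (show Γ(((Scheme.Modules.pullback g).obj F).restrict U'.ι, O₂) from PBH8.cUV g F hV' s) := by
  rw [Scheme.Modules.restrict_map]
  exact cUV_map g hV _ s

variable {X Y Z : Scheme.{u}} (g₁ : X ⟶ Y) (g₂ : Y ⟶ Z)

set_option maxRecDepth 8000 in
set_option maxHeartbeats 1000000 in
/-- composition of the pullbacks of cohomology classes over opens -/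
theorem pullOn_comp (U : Z.Opens) (U' : Y.Opens) (U'' : X.Opens)
    (h₂ : U' ≤ g₂ ⁻¹ᵁ U) (h₁ : U'' ≤ g₁ ⁻¹ᵁ U') (h₁₂ : U'' ≤ (g₁ ≫ g₂) ⁻¹ᵁ U) (F : Z.Modules)
    (p : ℕ) (x : Coh.HHon Z F U p) :
    CohPull.pullOn (g₁ ≫ g₂) U U'' h₁₂ F p x =
      CohPull.mapH ((restrictFunctor U''.ι).map ((pullbackComp g₁ g₂).hom.app F)) p
        (CohPull.pullOn g₁ U' U'' h₁ ((Scheme.Modules.pullback g₂).obj F) p
          (CohPull.pullOn g₂ U U' h₂ F p x)) := by
  rw [pullOn_eq, pullOn_eq, pullOn_eq, pullCoMod_comp]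
  refine Eq.trans ?_ (mapH_pullCoMod (g₁.resLE U' U'' h₁ ≫ g₂.resLE U U' h₂) _
    ((restrictFunctor U''.ι).map ((pullbackComp g₁ g₂).hom.app F)) p x).symm
  have e : g₁.resLE U' U'' h₁ ≫ g₂.resLE U U' h₂ = (g₁ ≫ g₂).resLE U U'' h₁₂ :=
    Scheme.Hom.resLE_comp_resLE g₁ h₁ g₂ h₂
  refine (pullCoMod_congr e _ _ ?_ p x).symm
  intro O s
  have k1 := cOn_app g₂ U U' h₂ F O s
  have k2 := cOn_app g₁ U' U'' h₁ ((Scheme.Modules.pullback g₂).obj F)
    ((g₂.resLE U U' h₂) ⁻¹ᵁ O) (PBH8.cUV g₂ F (image_resLE_preimage_le g₂ U U' h₂ O) s)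
  have k3 := cOn_app (g₁ ≫ g₂) U U'' h₁₂ F O s
  refine Eq.trans ?_ k3.symm
  have hA : U''.ι ''ᵁ ((g₁.resLE U' U'' h₁) ⁻¹ᵁ ((g₂.resLE U U' h₂) ⁻¹ᵁ O)) ≤
      (g₁ ≫ g₂) ⁻¹ᵁ (U.ι ''ᵁ O) := by
    rw [Scheme.Hom.comp_preimage]
    exact (image_resLE_preimage_le g₁ U' U'' h₁ _).trans
      (g₁.preimage_mono (image_resLE_preimage_le g₂ U U' h₂ O))
  have hA' : U''.ι ''ᵁ ((g₁.resLE U' U'' h₁ ≫ g₂.resLE U U' h₂) ⁻¹ᵁ O) ≤
      (g₁ ≫ g₂) ⁻¹ᵁ (U.ι ''ᵁ O) := hA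
  have k4 := Groth.Agent.Lib.LimMod.pbIso_cUV g₁ g₂ (g₁ ≫ g₂) rfl F
    (image_resLE_preimage_le g₁ U' U'' h₁ ((g₂.resLE U U' h₂) ⁻¹ᵁ O))
    (image_resLE_preimage_le g₂ U U' h₂ O) hA s
  have e0 : (DescH8.pbIso g₁ g₂ (g₁ ≫ g₂) rfl).hom.app F = (pullbackComp g₁ g₂).hom.app F := by
    simp [DescH8.pbIso, pullbackCongr]
  rw [e0] at k4
  have k5 := restrict_map_cUV (g₁ ≫ g₂) F U''
    (eqToHom (show ((g₁ ≫ g₂).resLE U U'' h₁₂) ⁻¹ᵁ O =
        (g₁.resLE U' U'' h₁ ≫ g₂.resLE U U' h₂) ⁻¹ᵁ O by rw [e])) hA'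
    (image_resLE_preimage_le (g₁ ≫ g₂) U U'' h₁₂ O) s
  refine Eq.trans ?_ k5
  refine congrArg (fun z => (((Scheme.Modules.pullback (g₁ ≫ g₂)).obj F).restrict U''.ι).presheaf.map
      (eqToHom (show ((g₁ ≫ g₂).resLE U U'' h₁₂) ⁻¹ᵁ O =
        (g₁.resLE U' U'' h₁ ≫ g₂.resLE U U' h₂) ⁻¹ᵁ O by rw [e])).op z) ?_
  refine Eq.trans ?_ k4
  refine congrArg (fun z => ((pullbackComp g₁ g₂).hom.app F).app
    (U''.ι ''ᵁ ((g₁.resLE U' U'' h₁) ⁻¹ᵁ ((g₂.resLE U U' h₂) ⁻¹ᵁ O))) z) ?_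
  refine Eq.trans ?_ k2
  exact congrArg (fun z => (cOn g₁ U' U'' h₁ ((Scheme.Modules.pullback g₂).obj F)).app
    ((g₂.resLE U U' h₂) ⁻¹ᵁ O) z) k1

end PullOnComp

end Groth.Agent.Lib.PullFnH2
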