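import Mathlib
import Groth.Agent.Lib.ModFree_helper2
set_option autoImplicit false
universe u
open CategoryTheory Limits Opposite
namespace Groth.Agent.Lib.ModFree
variable {C : Type u} [SmallCategory C]

lemma free_map_mono (R₀ : Cᵒᵖ ⥤ RingCat.{u}) {P Q : Cᵒᵖ ⥤ Type u} (φ : P ⟶ Q)
    (h : ∀ X, Function.Injective (φ.app X)) : Mono ((PresheafOfModules.free R₀).map φ) := by
  apply PresheafOfModules.mono_of_injective
  intro X
  exact Finsupp.mapDomain_injective (h X)

variable {J : GrothendieckTopology C} (R : Sheaf J RingCat.{u})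

instance L₁_map_yoneda_mono {U U' : C} (a : U' ⟶ U) [Mono a] :
    Mono ((L₁ R).map (yoneda.map a)) := by
  have : Mono ((PresheafOfModules.free R.obj).map (yoneda.map a)) := by
    apply free_map_mono
    intro X g g' hgg
    exact (cancel_mono a).1 hgg
  dsimp only [L₁, Functor.comp_map]
  infer_instance

/-- sections of a sheaf of modules as morphisms from the free sheaf of modules -/
noncomputable def sectEquiv (U : C) (N : SheafOfModules.{u} R) :
    ((L₁ R).obj (yoneda.obj U) ⟶ N) ≃ N.val.obj (op U) :=
  ((adj₁ R).homEquiv (yoneda.obj U) N).trans yonedaEquiv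

lemma sectEquiv_map {U U' : C} (a : U' ⟶ U) (N : SheafOfModules.{u} R)
    (g : (L₁ R).obj (yoneda.obj U) ⟶ N) :
    N.val.map a.op (sectEquiv R U N g) = sectEquiv R U' N ((L₁ R).map (yoneda.map a) ≫ g) := by
  dsimp only [sectEquiv, Equiv.trans_apply]
  rw [(adj₁ R).homEquiv_naturality_left]
  have := yonedaEquiv_naturality (F := (iFR R ⋙ PresheafOfModules.toPresheaf R.obj ⋙
    (Functor.whiskeringRight _ _ _).obj (forget AddCommGrpCat.{u})).obj N)
    ((adj₁ R).homEquiv (yoneda.obj U) N g) a
  exact this

theorem surjective_map_of_mono (I : SheafOfModules.{u} R) [Injective I] {U U' : C} (a : U' ⟶ U)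
    [Mono a] : Function.Surjective (I.val.map a.op) := by
  intro s'
  let g' := (sectEquiv R U' I).symm s'
  refine ⟨sectEquiv R U I (Injective.factorThru g' ((L₁ R).map (yoneda.map a))), ?_⟩
  rw [sectEquiv_map, Injective.comp_factorThru]
  exact Equiv.apply_symm_apply _ _

end Groth.Agent.Lib.ModFree
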