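import Mathlib
import Groth.Prelude.Def_DeltaF

/-!
# Effaceable δ-functors are universal (general abelian target)
-/

set_option autoImplicit false
universe v u v' u'
open CategoryTheory Limits

namespace Groth.Agent.Lib.DeltaUniv

open DeltaF

variable {A : Type u} [Category.{v} A] [Abelian A] {B : Type u'} [Category.{v'} B] [Abelian B]

section SE

variable {X Y : A} (u : X ⟶ Y)

/-- the short exact sequence of a monomorphism -/
noncomputable abbrev SE : ShortComplex A :=
  ShortComplex.mk u (cokernel.π u) (cokernel.condition u)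

lemma SE_shortExact [Mono u] : (SE u).ShortExact :=
  { exact := ShortComplex.exact_of_g_is_cokernel _ (cokernelIsCokernel _)
    mono_f := inferInstanceAs (Mono u)
    epi_g := inferInstanceAs (Epi (cokernel.π u)) }

end SE

variable (T T' : CohDeltaFunctor A B ℕ)

section Eff

variable {X Y : A} (u : X ⟶ Y) [Mono u] (n : ℕ) (hu : (T.F (n + 1)).map u = 0)

include hu in
lemma epi_δ : Epi (T.δ (SE u) (SE_shortExact u) n (n + 1) rfl) :=
  (T.exact₁ (SE u) (SE_shortExact u) n (n + 1) rfl).epi_f hu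

variable (ep : T.F n ⟶ T'.F n)

/-- the map in degree `n + 1` attached to an effacing monomorphism -/
noncomputable def τE : (T.F (n + 1)).obj X ⟶ (T'.F (n + 1)).obj X :=
  haveI := epi_δ T u n hu
  (T.exact₃ (SE u) (SE_shortExact u) n (n + 1) rfl).desc
    (ep.app (cokernel u) ≫ T'.δ (SE u) (SE_shortExact u) n (n + 1) rfl) (by
      show (T.F n).map (cokernel.π u) ≫ ep.app (cokernel u) ≫ _ = 0
      rw [← Category.assoc, ep.naturality, Category.assoc]
      have h := T'.comp_δ (SE u) (SE_shortExact u) n (n + 1) rfl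
      have h' : (T'.F n).map (cokernel.π u) ≫ T'.δ (SE u) (SE_shortExact u) n (n + 1) rfl = 0 := h
      rw [h', comp_zero])

lemma δ_τE : T.δ (SE u) (SE_shortExact u) n (n + 1) rfl ≫ τE T T' u n hu ep =
    ep.app (cokernel u) ≫ T'.δ (SE u) (SE_shortExact u) n (n + 1) rfl := by
  haveI := epi_δ T u n hu
  exact (T.exact₃ (SE u) (SE_shortExact u) n (n + 1) rfl).g_desc _ _

/-- the key compatibility -/
lemma δ_τE_of_hom (S : ShortComplex A) (hS : S.ShortExact) (Φ : S ⟶ SE u) :
    T.δ S hS n (n + 1) rfl ≫ (T.F (n + 1)).map Φ.τ₁ ≫ τE T T' u n hu ep =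
      ep.app S.X₃ ≫ T'.δ S hS n (n + 1) rfl ≫ (T'.F (n + 1)).map Φ.τ₁ := by
  rw [← Category.assoc, ← T.δ_natural hS (SE_shortExact u) Φ n (n + 1) rfl, Category.assoc,
    δ_τE, ← T'.δ_natural hS (SE_shortExact u) Φ n (n + 1) rfl, ← Category.assoc,
    ← Category.assoc, ep.naturality]

end Eff

section Compare

variable {X Y X' Y' : A} (u : X ⟶ Y) [Mono u] (u' : X' ⟶ Y') [Mono u'] (n : ℕ)
  (hu : (T.F (n + 1)).map u = 0) (hu' : (T.F (n + 1)).map u' = 0) (ep : T.F n ⟶ T'.F n)

lemma τE_natural (f : X ⟶ X') (a : Y ⟶ Y') (comm : u ≫ a = f ≫ u') :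
    (T.F (n + 1)).map f ≫ τE T T' u' n hu' ep = τE T T' u n hu ep ≫ (T'.F (n + 1)).map f := by
  haveI := epi_δ T u n hu
  rw [← cancel_epi (T.δ (SE u) (SE_shortExact u) n (n + 1) rfl)]
  have h := δ_τE_of_hom T T' u' n hu' ep (SE u) (SE_shortExact u)
    (ShortComplex.homMk f a (cokernel.map u u' f a comm) comm.symm (by simp))
  have h2 : T.δ (SE u) (SE_shortExact u) n (n + 1) rfl ≫ τE T T' u n hu ep ≫
      (T'.F (n + 1)).map f = ep.app (cokernel u) ≫
        T'.δ (SE u) (SE_shortExact u) n (n + 1) rfl ≫ (T'.F (n + 1)).map f := by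
    rw [← Category.assoc, δ_τE, Category.assoc]
  exact h.trans h2.symm

end Compare

section Indep

variable {X Y Y' : A} (u : X ⟶ Y) [Mono u] (u' : X ⟶ Y') [Mono u'] (n : ℕ)
  (hu : (T.F (n + 1)).map u = 0) (hu' : (T.F (n + 1)).map u' = 0) (ep : T.F n ⟶ T'.F n)

lemma τE_eq_of_hom (a : Y ⟶ Y') (comm : u ≫ a = u') :
    τE T T' u n hu ep = τE T T' u' n hu' ep := by
  have h := τE_natural T T' u u' n hu hu' ep (𝟙 X) a (by rw [comm, Category.id_comp])
  rw [CategoryTheory.Functor.map_id, CategoryTheory.Functor.map_id, Category.id_comp,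
    Category.comp_id] at h
  exact h.symm

lemma τE_indep : τE T T' u n hu ep = τE T T' u' n hu' ep := by
  haveI : Mono (u ≫ pushout.inl u u') := mono_comp _ _
  have hw : (T.F (n + 1)).map (u ≫ pushout.inl u u') = 0 := by
    rw [CategoryTheory.Functor.map_comp, hu, zero_comp]
  rw [τE_eq_of_hom T T' u (u ≫ pushout.inl u u') n hu hw ep (pushout.inl u u') rfl,
    τE_eq_of_hom T T' u' (u ≫ pushout.inl u u') n hu' hw ep (pushout.inr u u')
      pushout.condition.symm]

end Indep

section Construction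

variable (hT : T.IsEffaceable)

/-- the chosen effacing object -/
noncomputable def effY (n : ℕ) (X : A) : A := Classical.choose (hT n X)

/-- the chosen effacing monomorphism -/
noncomputable def effu (n : ℕ) (X : A) : X ⟶ effY T hT n X :=
  Classical.choose (Classical.choose_spec (hT n X))

instance (n : ℕ) (X : A) : Mono (effu T hT n X) :=
  (Classical.choose_spec (Classical.choose_spec (hT n X))).1

lemma effu_zero (n : ℕ) (X : A) : (T.F (n + 1)).map (effu T hT n X) = 0 :=
  (Classical.choose_spec (Classical.choose_spec (hT n X))).2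

variable (n : ℕ) (ep : T.F n ⟶ T'.F n)

/-- the component of the next map -/
noncomputable def stepApp (X : A) : (T.F (n + 1)).obj X ⟶ (T'.F (n + 1)).obj X :=
  τE T T' (effu T hT n X) n (effu_zero T hT n X) ep

lemma stepApp_naturality {X X' : A} (f : X ⟶ X') :
    (T.F (n + 1)).map f ≫ stepApp T T' hT n ep X' =
      stepApp T T' hT n ep X ≫ (T'.F (n + 1)).map f := by
  haveI : Mono (effu T hT n X' ≫ pushout.inr (effu T hT n X) (f ≫ effu T hT n X')) :=
    mono_comp _ _
  have hw : (T.F (n + 1)).map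
      (effu T hT n X' ≫ pushout.inr (effu T hT n X) (f ≫ effu T hT n X')) = 0 := by
    rw [CategoryTheory.Functor.map_comp, effu_zero, zero_comp]
  have h := τE_natural T T' (effu T hT n X)
    (effu T hT n X' ≫ pushout.inr (effu T hT n X) (f ≫ effu T hT n X')) n
    (effu_zero T hT n X) hw ep f (pushout.inl _ _) (by
      rw [pushout.condition, Category.assoc])
  unfold stepApp
  rw [τE_indep T T' (effu T hT n X')
    (effu T hT n X' ≫ pushout.inr (effu T hT n X) (f ≫ effu T hT n X')) n
    (effu_zero T hT n X') hw ep]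
  exact h

/-- the next map -/
noncomputable def step : T.F (n + 1) ⟶ T'.F (n + 1) where
  app X := stepApp T T' hT n ep X
  naturality _ _ f := stepApp_naturality T T' hT n ep f

lemma step_spec (S : ShortComplex A) (hS : S.ShortExact) :
    T.δ S hS n (n + 1) rfl ≫ (step T T' hT n ep).app S.X₁ =
      ep.app S.X₃ ≫ T'.δ S hS n (n + 1) rfl := by
  haveI := hS.mono_f
  haveI := hS.epi_g
  haveI : Mono (effu T hT n S.X₁ ≫ pushout.inr S.f (effu T hT n S.X₁)) := mono_comp _ _
  have hw : (T.F (n + 1)).map (effu T hT n S.X₁ ≫ pushout.inr S.f (effu T hT n S.X₁)) = 0 := by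
    rw [CategoryTheory.Functor.map_comp, effu_zero, zero_comp]
  have hc : S.f ≫ pushout.inl S.f (effu T hT n S.X₁) ≫
      cokernel.π (effu T hT n S.X₁ ≫ pushout.inr S.f (effu T hT n S.X₁)) = 0 := by
    rw [← Category.assoc, pushout.condition, cokernel.condition]
  have h := δ_τE_of_hom T T' (effu T hT n S.X₁ ≫ pushout.inr S.f (effu T hT n S.X₁)) n hw ep S hS
    (ShortComplex.homMk (𝟙 S.X₁) (pushout.inl _ _) (hS.exact.desc _ hc)
      (by
        show 𝟙 S.X₁ ≫ effu T hT n S.X₁ ≫ pushout.inr S.f (effu T hT n S.X₁) = S.f ≫ _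
        rw [Category.id_comp, pushout.condition])
      (by
        show pushout.inl S.f (effu T hT n S.X₁) ≫ cokernel.π _ = S.g ≫ _
        rw [ShortComplex.Exact.g_desc]))
  simp only [ShortComplex.homMk_τ₁, CategoryTheory.Functor.map_id, Category.id_comp,
    Category.comp_id] at h
  show T.δ S hS n (n + 1) rfl ≫ stepApp T T' hT n ep S.X₁ = _
  unfold stepApp
  rw [τE_indep T T' (effu T hT n S.X₁)
    (effu T hT n S.X₁ ≫ pushout.inr S.f (effu T hT n S.X₁)) n (effu_zero T hT n S.X₁) hw ep]
  exact h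

/-- the morphism of δ-functors extending a natural transformation in degree `0` -/
noncomputable def edge (e0 : T.F 0 ⟶ T'.F 0) : ∀ p : ℕ, T.F p ⟶ T'.F p
  | 0 => e0
  | p + 1 => step T T' hT p (edge e0 p)

/-- the morphism of δ-functors -/
noncomputable def edgeHom (e0 : T.F 0 ⟶ T'.F 0) : T ⟶ T' where
  app := edge T T' hT e0
  comm S hS n₀ n₁ h := by
    subst h
    exact step_spec T T' hT n₀ (edge T T' hT e0 n₀) S hS

include hT in
lemma hom_unique (τ τ' : T ⟶ T') (h0 : τ.app 0 = τ'.app 0) : τ = τ' := by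
  apply CohDeltaFunctor.hom_ext
  intro p
  induction p with
  | zero => exact h0
  | succ p ih =>
    ext X
    haveI := epi_δ T (effu T hT p X) p (effu_zero T hT p X)
    rw [← cancel_epi (T.δ (SE (effu T hT p X)) (SE_shortExact _) p (p + 1) rfl)]
    have h1 := τ.comm (SE (effu T hT p X)) (SE_shortExact _) p (p + 1) rfl
    have h2 := τ'.comm (SE (effu T hT p X)) (SE_shortExact _) p (p + 1) rfl
    rw [ih] at h1
    exact h1.trans h2.symm

include hT in
theorem isUniversal : T.IsUniversal := by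
  intro T' t
  refine ⟨edgeHom T T' hT t, rfl, ?_⟩
  intro τ hτ
  exact hom_unique T T' hT τ _ hτ

end Construction

end Groth.Agent.Lib.DeltaUniv
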