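import Mathlib
import Groth.Prelude.Def_RDerDelta
import Groth.Agent.Lib.DeltaUniv_helper2
import Groth.Agent.Lib.Horseshoe0_helper9

/-!
# Base change for right derived functors via universal δ-functors (helper2)

If `F ⋙ H ≅ G ⋙ F'` with `H`, `G` exact and `G` sending injectives to `F'`-acyclic objects, then
`RⁿF ⋙ H ≅ G ⋙ RⁿF'` as functors.
-/

set_option autoImplicit false
universe v₁ v₂ v₃ v₄ u₁ u₂ u₃ u₄
open CategoryTheory Limits DeltaF

namespace Groth.Agent.Lib.DeltaComp

variable {A : Type u₁} [Category.{v₁} A] [Abelian A] {B : Type u₂} [Category.{v₂} B] [Abelian B]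
  {A' : Type u₃} [Category.{v₃} A'] [Abelian A'] {B' : Type u₄} [Category.{v₄} B'] [Abelian B']

/-- postcomposition of a δ-functor with an exact functor -/
noncomputable def postcomp (T : CohDeltaFunctor A B ℕ) (H : B ⥤ B') [H.Additive]
    [H.PreservesHomology] : CohDeltaFunctor A B' ℕ where
  F n := T.F n ⋙ H
  additive n := inferInstance
  δ S hS n₀ n₁ h := H.map (T.δ S hS n₀ n₁ h)
  δ_natural {S S'} hS hS' φ n₀ n₁ h := by
    have := T.δ_natural hS hS' φ n₀ n₁ h
    simp only [Functor.comp_map, ← H.map_comp, this]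
  exact₂ S hS n := (T.exact₂ S hS n).map H
  comp_δ S hS n₀ n₁ h := by
    simp only [Functor.comp_map, ← H.map_comp, T.comp_δ S hS n₀ n₁ h, H.map_zero]
  exact₃ S hS n₀ n₁ h := (T.exact₃ S hS n₀ n₁ h).map H
  δ_comp S hS n₀ n₁ h := by
    simp only [Functor.comp_map, ← H.map_comp, T.δ_comp S hS n₀ n₁ h, H.map_zero]
  exact₁ S hS n₀ n₁ h := (T.exact₁ S hS n₀ n₁ h).map H

/-- precomposition of a δ-functor with an exact functor -/
noncomputable def precomp (G : A' ⥤ A) [G.Additive] [PreservesFiniteLimits G]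
    [PreservesFiniteColimits G] (T : CohDeltaFunctor A B ℕ) : CohDeltaFunctor A' B ℕ where
  F n := G ⋙ T.F n
  additive n := inferInstance
  δ S hS n₀ n₁ h := T.δ (S.map G) (hS.map_of_exact G) n₀ n₁ h
  δ_natural {S S'} hS hS' φ n₀ n₁ h :=
    T.δ_natural (hS.map_of_exact G) (hS'.map_of_exact G) (G.mapShortComplex.map φ) n₀ n₁ h
  exact₂ S hS n := T.exact₂ (S.map G) (hS.map_of_exact G) n
  comp_δ S hS n₀ n₁ h := T.comp_δ (S.map G) (hS.map_of_exact G) n₀ n₁ h
  exact₃ S hS n₀ n₁ h := T.exact₃ (S.map G) (hS.map_of_exact G) n₀ n₁ h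
  δ_comp S hS n₀ n₁ h := T.δ_comp (S.map G) (hS.map_of_exact G) n₀ n₁ h
  exact₁ S hS n₀ n₁ h := T.exact₁ (S.map G) (hS.map_of_exact G) n₀ n₁ h

/-- a δ-functor vanishing on injectives in positive degrees is effaceable -/
lemma isEffaceable_of_isZero [EnoughInjectives A] (T : CohDeltaFunctor A B ℕ)
    (h : ∀ (n : ℕ) (I : A), Injective I → IsZero ((T.F (n + 1)).obj I)) : T.IsEffaceable := by
  intro n X
  exact ⟨Injective.under X, Injective.ι X, inferInstance,
    (h n (Injective.under X) inferInstance).eq_of_tgt _ _⟩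

/-- two effaceable δ-functors with isomorphic degree `0` parts are isomorphic in each degree -/
theorem nonempty_iso_of_effaceable (T T' : CohDeltaFunctor A B ℕ) (hT : T.IsEffaceable)
    (hT' : T'.IsEffaceable) (e : T.F 0 ≅ T'.F 0) (q : ℕ) : Nonempty (T.F q ≅ T'.F q) := by
  let τ : T ⟶ T' := DeltaUniv.edgeHom T T' hT e.hom
  let τ' : T' ⟶ T := DeltaUniv.edgeHom T' T hT' e.inv
  have h1 : τ ≫ τ' = 𝟙 T := DeltaUniv.hom_unique T T hT _ _ (by
    show e.hom ≫ e.inv = 𝟙 _
    exact e.hom_inv_id)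
  have h2 : τ' ≫ τ = 𝟙 T' := DeltaUniv.hom_unique T' T' hT' _ _ (by
    show e.inv ≫ e.hom = 𝟙 _
    exact e.inv_hom_id)
  exact ⟨{ hom := τ.app q
           inv := τ'.app q
           hom_inv_id := congrArg (fun f : T ⟶ T => f.app q) h1
           inv_hom_id := congrArg (fun f : T' ⟶ T' => f.app q) h2 }⟩

/-- **Base change for right derived functors.** -/
theorem nonempty_rightDerived_baseChange [EnoughInjectives A] [EnoughInjectives A']
    (F : A ⥤ B) [F.Additive] [PreservesFiniteLimits F]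
    (F' : A' ⥤ B') [F'.Additive] [PreservesFiniteLimits F']
    (G : A ⥤ A') [G.Additive] [PreservesFiniteLimits G] [PreservesFiniteColimits G]
    (H : B ⥤ B') [H.Additive] [H.PreservesHomology] (e : F ⋙ H ≅ G ⋙ F')
    (hG : ∀ (I : A), Injective I → ∀ n : ℕ, IsZero ((F'.rightDerived (n + 1)).obj (G.obj I)))
    (q : ℕ) : Nonempty (F.rightDerived q ⋙ H ≅ G ⋙ F'.rightDerived q) := by
  let Δ := Groth.Agent.Lib.Horseshoe0.derivedLES F
  let Δ' := Groth.Agent.Lib.Horseshoe0.derivedLES F'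
  let T : CohDeltaFunctor A B' ℕ := postcomp Δ.toCohDeltaFunctor H
  let T' : CohDeltaFunctor A B' ℕ := precomp G Δ'.toCohDeltaFunctor
  have hT : T.IsEffaceable := isEffaceable_of_isZero T (fun n I hI => by
    show IsZero (H.obj ((F.rightDerived (n + 1)).obj I))
    exact H.map_isZero (F.isZero_rightDerived_obj_injective_succ n I))
  have hT' : T'.IsEffaceable := isEffaceable_of_isZero T' (fun n I hI => hG I hI n)
  let e0 : T.F 0 ≅ T'.F 0 :=
    Functor.isoWhiskerRight F.rightDerivedZeroIsoSelf H ≪≫ e ≪≫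
      Functor.isoWhiskerLeft G F'.rightDerivedZeroIsoSelf.symm
  exact nonempty_iso_of_effaceable T T' hT hT' e0 q

end Groth.Agent.Lib.DeltaComp
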