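import Mathlib
import Groth.Agent.Lib.DeltaComp_helper2
import Groth.Agent.Lib.ModPushDer_helper2
import Groth.Agent.Lib.FAcyc_helper9
import Groth.Prelude.Def_Coh
import Groth.Prelude.Def_Formal
import Groth.Prelude.Def_KLin

/-!
# `R^q f_*` of modules versus abelian sheaves, as a natural isomorphism (helper9)

`Coh.Rpush f q ⋙ toSheaf ≅ toSheaf ⋙ Coh.RpushAb f q` as functors (via helper2's universal
δ-functor base change).
APPEND-ONLY once landed.
-/

set_option autoImplicit false

universe u

open CategoryTheory CategoryTheory.Limits AlgebraicGeometry Opposite TopologicalSpace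

namespace RpushNat

attribute [local instance] HasDerivedCategory.standard in
theorem nonempty_natIso {X Y : Scheme.{u}} (f : X ⟶ Y) [HasInjectiveResolutions X.Modules]
    (q : ℕ) :
    Nonempty (Coh.Rpush f q ⋙ SheafOfModules.toSheaf Y.ringCatSheaf ≅
      SheafOfModules.toSheaf X.ringCatSheaf ⋙ Coh.RpushAb f q) := by
  haveI := Groth.Agent.Lib.ModSiteH8.toSheaf_preservesColimitsOfSize Y.ringCatSheaf
  haveI : PreservesFiniteColimits (SheafOfModules.toSheaf Y.ringCatSheaf) :=
    ⟨fun _ _ _ => inferInstance⟩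
  haveI := Groth.Agent.Lib.ModSiteH8.toSheaf_preservesColimitsOfSize X.ringCatSheaf
  haveI : PreservesFiniteColimits (SheafOfModules.toSheaf X.ringCatSheaf) :=
    ⟨fun _ _ _ => inferInstance⟩
  have hinj : HasInjectiveResolutions (SheafOfModules X.ringCatSheaf) :=
    ‹HasInjectiveResolutions X.Modules›
  haveI : EnoughInjectives (SheafOfModules X.ringCatSheaf) := Groth.Agent.Lib.FAcyc.enoughInjectives
  let Fm : SheafOfModules X.ringCatSheaf ⥤ SheafOfModules Y.ringCatSheaf :=
    Scheme.Modules.pushforward f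
  haveI hadd : Fm.Additive := inferInstanceAs ((Scheme.Modules.pushforward f).Additive)
  haveI : PreservesFiniteLimits Fm :=
    inferInstanceAs (PreservesFiniteLimits (Scheme.Modules.pushforward f))
  let e : Fm ⋙ SheafOfModules.toSheaf Y.ringCatSheaf ≅
      SheafOfModules.toSheaf X.ringCatSheaf ⋙
        CohSite.push (Opens.grothendieckTopology X) (Opens.grothendieckTopology Y)
          (TopologicalSpace.Opens.map f.base) :=
    NatIso.ofComponents (fun M => Iso.refl _) (by intros; ext; rfl)
  exact Groth.Agent.Lib.DeltaComp.nonempty_rightDerived_baseChange Fm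
    (CohSite.push (Opens.grothendieckTopology X) (Opens.grothendieckTopology Y)
      (TopologicalSpace.Opens.map f.base))
    (SheafOfModules.toSheaf X.ringCatSheaf) (SheafOfModules.toSheaf Y.ringCatSheaf) e
    (fun I hI n => Groth.Agent.Lib.PushDerAcyc.acyclic_push_of_objAcyclic _ _
      (TopologicalSpace.Opens.map f.base) _
      (Groth.Agent.Lib.PushAcyc.objAcyclic_of_totallyAcyclic _
        (Groth.Agent.Lib.ModFree.totallyAcyclic_toSheaf_of_injective X.ringCatSheaf I))
      (n + 1) (Nat.succ_pos n)) q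

end RpushNat

namespace DerCentral

open CategoryTheory CategoryTheory.Limits

variable {𝒜 ℬ : Type*} [Category 𝒜] [Abelian 𝒜] [Category ℬ] [Abelian ℬ]

/-- a natural endomorphism of the identity commutes with everything -/
theorem central_comm (ρ' : 𝟭 ℬ ⟶ 𝟭 ℬ) {A B : ℬ} (g : A ⟶ B) :
    g ≫ ρ'.app B = ρ'.app A ≫ g := ρ'.naturality g

/-- the map induced on homology by a "central" endomorphism of a complex -/
theorem homologyMap_central (ρ' : 𝟭 ℬ ⟶ 𝟭 ℬ) (K : CochainComplex ℬ ℕ) (κ : K ⟶ K)
    (hκ : ∀ j, κ.f j = ρ'.app (K.X j)) (n : ℕ) :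
    HomologicalComplex.homologyMap κ n = ρ'.app (K.homology n) := by
  have hc : HomologicalComplex.cyclesMap κ n = ρ'.app (K.cycles n) := by
    rw [← cancel_mono (K.iCycles n), HomologicalComplex.cyclesMap_i, hκ]
    exact central_comm ρ' (K.iCycles n)
  rw [← cancel_epi (K.homologyπ n), HomologicalComplex.homologyπ_naturality, hc]
  exact (central_comm ρ' (K.homologyπ n)).symm

variable [HasInjectiveResolutions 𝒜]

/-- right derived functors are compatible with "central" endomorphisms -/
theorem rightDerived_map_central (F : 𝒜 ⥤ ℬ) [F.Additive] (ρ : 𝟭 𝒜 ⟶ 𝟭 𝒜) (ρ' : 𝟭 ℬ ⟶ 𝟭 ℬ)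
    (h : ∀ X, F.map (ρ.app X) = ρ'.app (F.obj X)) (n : ℕ) (X : 𝒜) :
    (F.rightDerived n).map (ρ.app X) = ρ'.app ((F.rightDerived n).obj X) := by
  let I := injectiveResolution X
  let κ : I.cocomplex ⟶ I.cocomplex :=
    { f := fun j => ρ.app (I.cocomplex.X j)
      comm' := fun i j _ => (central_comm ρ (I.cocomplex.d i j)).symm }
  have w : I.ι ≫ κ = (CochainComplex.single₀ 𝒜).map (ρ.app X) ≫ I.ι := by
    apply HomologicalComplex.from_single_hom_ext
    rw [HomologicalComplex.comp_f, HomologicalComplex.comp_f, CochainComplex.single₀_map_f_zero]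
    exact central_comm ρ (I.ι.f 0)
  rw [F.rightDerived_map_eq n (ρ.app X) κ w]
  have h2 : (F.mapHomologicalComplex _ ⋙ HomologicalComplex.homologyFunctor _ _ n).map κ =
      ρ'.app (((F.mapHomologicalComplex (ComplexShape.up ℕ)).obj I.cocomplex).homology n) :=
    homologyMap_central ρ' _ _ (fun j => h _) n
  rw [h2]
  have h3 := central_comm ρ' (I.isoRightDerivedObj F n).inv
  erw [← h3]
  rw [Iso.hom_inv_id_assoc]

end DerCentral

namespace RpushNat

open CategoryTheory CategoryTheory.Limits AlgebraicGeometry Opposite TopologicalSpace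

/-- multiplication by a global function as a natural endomorphism of the identity -/
noncomputable def ρΓ {X : Scheme.{u}} (r : Coh.Γtop X) : 𝟭 X.Modules ⟶ 𝟭 X.Modules where
  app N := Formal.smulModΓ N r
  naturality _ _ f := KLin.comp_smulModΓ f r

theorem ρΓ_app {X : Scheme.{u}} (r : Coh.Γtop X) (N : X.Modules) :
    (ρΓ r).app N = Formal.smulModΓ N r := rfl

variable {X Y : Scheme.{u}} (f : X ⟶ Y)

theorem push_map_smulModΓ (M : X.Modules) (a : Γ(Y, ⊤)) :
    (Scheme.Modules.pushforward f).map (Formal.smulModΓ M (f.appTop.hom a)) =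
      Formal.smulModΓ ((Scheme.Modules.pushforward f).obj M) a := by
  refine Scheme.Modules.hom_ext _ _ fun U => ?_
  ext m
  change (Formal.smulModΓ M (f.appTop.hom a)).app (f ⁻¹ᵁ U) m =
    (Formal.smulModΓ ((Scheme.Modules.pushforward f).obj M) a).app U m
  rw [KLin.smulModΓ_app_apply, KLin.smulModΓ_app_apply]
  have h1 : (X.presheaf.map (homOfLE (le_top : f ⁻¹ᵁ U ≤ ⊤)).op).hom (f.appTop.hom a) =
      (f.app U).hom ((Y.presheaf.map (homOfLE (le_top : U ≤ ⊤)).op).hom a) := by
    have := congrArg (fun φ => φ.hom a) (f.naturality (homOfLE (le_top : U ≤ ⊤)).op)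
    exact this.symm
  exact congrArg (· • (id m : Γ(M, f ⁻¹ᵁ U))) h1

/-- **`R^q f_*` is compatible with multiplication by functions on the base.** -/
theorem Rpush_map_smulModΓ [HasInjectiveResolutions X.Modules] (M : X.Modules) (a : Γ(Y, ⊤))
    (q : ℕ) :
    (Coh.Rpush f q).map (Formal.smulModΓ M (f.appTop.hom a)) =
      Formal.smulModΓ ((Coh.Rpush f q).obj M) a :=
  DerCentral.rightDerived_map_central (Scheme.Modules.pushforward f) (ρΓ (f.appTop.hom a))
    (ρΓ a) (fun N => push_map_smulModΓ f N a) q M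

end RpushNat
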