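import Mathlib
import Groth.Agent.Lib.RpushAffine1_helper9

/-!
# Quasi-coherence of higher direct images, I: the localization property of a sheaf with an
endomorphism (helper9)
APPEND-ONLY once landed.
-/

set_option autoImplicit false

universe u

open CategoryTheory CategoryTheory.Limits AlgebraicGeometry Opposite TopologicalSpace

namespace RpushQC

variable {S : Scheme.{u}}

/-- the localization property of an abelian sheaf with an endomorphism, for `D(c) ⊆ S` -/
structure LocPair (G : TopCat.Sheaf AddCommGrpCat.{u} S.toTopCat) (α : G ⟶ G) (c : Γ(S, ⊤)) :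
    Prop where
  surj : ∀ t : G.obj.obj (op (S.basicOpen c)), ∃ (n : ℕ) (s : G.obj.obj (op ⊤)),
    G.obj.map (homOfLE (le_top : S.basicOpen c ≤ ⊤)).op s =
      (⇑(α.hom.app (op (S.basicOpen c))).hom)^[n] t
  inj : ∀ s : G.obj.obj (op ⊤), G.obj.map (homOfLE (le_top : S.basicOpen c ≤ ⊤)).op s = 0 →
    ∃ n : ℕ, (⇑(α.hom.app (op ⊤)).hom)^[n] s = 0

/-- transport along an equivariant isomorphism -/
theorem LocPair.of_iso {G G' : TopCat.Sheaf AddCommGrpCat.{u} S.toTopCat} {α : G ⟶ G}
    {α' : G' ⟶ G'} {c : Γ(S, ⊤)} (h : LocPair G' α' c) (ε : G ≅ G')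
    (hε : α ≫ ε.hom = ε.hom ≫ α') : LocPair G α c := by
  have hcomm : ∀ (W : Opens S) (t : G.obj.obj (op W)),
      ε.hom.hom.app (op W) (α.hom.app (op W) t) = α'.hom.app (op W) (ε.hom.hom.app (op W) t) :=
    fun W t => congrArg (fun κ : G ⟶ G' => κ.hom.app (op W) t) hε
  have hpow : ∀ (W : Opens S) (n : ℕ) (t : G.obj.obj (op W)),
      ε.hom.hom.app (op W) ((⇑(α.hom.app (op W)).hom)^[n] t) =
        (⇑(α'.hom.app (op W)).hom)^[n] (ε.hom.hom.app (op W) t) := by
    intro W n
    induction n with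
    | zero => intro t; rfl
    | succ n ih =>
      intro t
      rw [Function.iterate_succ_apply', Function.iterate_succ_apply', ← ih]
      exact hcomm W _
  have hinv : ∀ (W : Opens S) (t : G.obj.obj (op W)),
      ε.inv.hom.app (op W) (ε.hom.hom.app (op W) t) = t :=
    fun W t => congrArg (fun κ : G ⟶ G => κ.hom.app (op W) t) ε.hom_inv_id
  have hinv' : ∀ (W : Opens S) (t : G'.obj.obj (op W)),
      ε.hom.hom.app (op W) (ε.inv.hom.app (op W) t) = t :=
    fun W t => congrArg (fun κ : G' ⟶ G' => κ.hom.app (op W) t) ε.inv_hom_id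
  have hinj : ∀ W : Opens S, Function.Injective (ε.hom.hom.app (op W)) := fun W x y hxy => by
    rw [← hinv W x, ← hinv W y, hxy]
  have hnat : ∀ {W W' : Opens S} (i : W' ≤ W) (t : G.obj.obj (op W)),
      ε.hom.hom.app (op W') (G.obj.map (homOfLE i).op t) =
        G'.obj.map (homOfLE i).op (ε.hom.hom.app (op W) t) :=
    fun i t => NatTrans.naturality_apply ε.hom.hom (homOfLE i).op t
  have hnat' : ∀ {W W' : Opens S} (i : W' ≤ W) (t : G'.obj.obj (op W)),
      ε.inv.hom.app (op W') (G'.obj.map (homOfLE i).op t) =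
        G.obj.map (homOfLE i).op (ε.inv.hom.app (op W) t) :=
    fun i t => NatTrans.naturality_apply ε.inv.hom (homOfLE i).op t
  constructor
  · intro t
    obtain ⟨n, s', hs'⟩ := h.surj (ε.hom.hom.app _ t)
    refine ⟨n, ε.inv.hom.app _ s', ?_⟩
    apply hinj
    rw [hpow, ← hs', ← hnat', hinv']
  · intro s hs
    obtain ⟨n, hn⟩ := h.inj (ε.hom.hom.app _ s) (by rw [← hnat, hs, map_zero])
    refine ⟨n, ?_⟩
    apply hinj
    rw [hpow, hn, map_zero]

open SheafBasis in
/-- the localization property from a `SheafBasis.Data` -/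
theorem locPair_of_data [IsAffine S] {P : (Opens S)ᵒᵖ ⥤ AddCommGrpCat.{u}} (d : Data P)
    (G : TopCat.Sheaf AddCommGrpCat.{u} S.toTopCat) (φ : P ⟶ G.obj) (hinj : LocInj G φ)
    (hsurj : LocSurj G φ) (c : Γ(S, ⊤)) (α : G ⟶ G)
    (hα : ∀ (W : Opens S) (x : P.obj (op W)),
      φ.app (op W) (d.act W c x) = α.hom.app (op W) (φ.app (op W) x)) :
    LocPair G α c := by
  have hpow : ∀ (W : Opens S) (n : ℕ) (x : P.obj (op W)),
      φ.app (op W) (d.act W (c ^ n) x) = (⇑(α.hom.app (op W)).hom)^[n] (φ.app (op W) x) := by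
    intro W n
    induction n with
    | zero =>
      intro x
      rw [pow_zero, Data.act_one_apply]
      rfl
    | succ n ih =>
      intro x
      rw [Data.act_pow_succ_apply, hα, ih, Function.iterate_succ_apply']
  have h1 : S.basicOpen (1 : Γ(S, ⊤)) = ⊤ := Scheme.basicOpen_of_isUnit _ isUnit_one
  have htop : Function.Bijective (φ.app (op ⊤)) :=
    RpushAffine.bijective_of_eq φ h1 ⟨app_injective d hinj 1, app_surjective d hinj hsurj 1⟩
  constructor
  · intro t
    obtain ⟨y, rfl⟩ := app_surjective d hinj hsurj c t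
    obtain ⟨n, x, hx⟩ := d.surj c y
    refine ⟨n, φ.app (op ⊤) x, ?_⟩
    rw [← hpow, ← hx]
    exact (app_res (le_top : S.basicOpen c ≤ ⊤) x).symm
  · intro s hs
    obtain ⟨x, rfl⟩ := htop.2 s
    have h2 : res P (le_top : S.basicOpen c ≤ ⊤) x = 0 := by
      apply app_injective d hinj c
      rw [app_res, hs, map_zero]
    obtain ⟨n, hn⟩ := d.inj c x h2
    exact ⟨n, by rw [← hpow, hn, map_zero]⟩

end RpushQC
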