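import Mathlib
import Groth.Agent.Lib.RpushSheafify_helper9

/-!
# Naturality of `R^i f_* F ≅ (V ↦ H^i(f⁻¹ V, F))^♯` (helper9)

The isomorphism of `RpushSheafify.main` is compatible with morphisms `ψ : F ⟶ F'`.
APPEND-ONLY once landed.
-/

set_option autoImplicit false

open CategoryTheory CategoryTheory.Limits Opposite TopologicalSpace

namespace RpushSheafNat

universe w w' v u

section Hom

variable {C : Type u} [Category.{v} C] [Abelian C] [HasExt.{v} C]
  {D : Type w} [Category.{w'} D] (K : D ⥤ C)
  {F F' : C} {R : InjectiveResolution F} {R' : InjectiveResolution F'} {g : F ⟶ F'}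
  (φ : InjectiveResolution.Hom R R' g) (n : ℕ)

/-- the map induced on the `Ext` presheaves -/
noncomputable def Emap (g : F ⟶ F') (n : ℕ) : PreshExt.E K F n ⟶ PreshExt.E K F' n :=
  Functor.whiskerLeft K.op ((Abelian.extFunctor.{v} n).flip.map g)

/-- the map induced on the complexes of `Hom` presheaves -/
noncomputable abbrev Lmap : PreshExt.L K R ⟶ PreshExt.L K R' :=
  ((PreshExt.Phi K).mapHomologicalComplex (ComplexShape.up ℕ)).map φ.hom

theorem iC_cyclesMap (V : Dᵒᵖ) (z : ((PreshExt.L K R).cycles n).obj V) :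
    PreshExt.iC K R' n V (((HomologicalComplex.cyclesMap (Lmap K φ) n).app V).hom z) =
      PreshExt.iC K R n V z ≫ φ.hom.f n :=
  congrArg (fun κ => (κ.app V).hom z) (HomologicalComplex.cyclesMap_i (Lmap K φ) n)

theorem cycΨ_naturality :
    HomologicalComplex.cyclesMap (Lmap K φ) n ≫ PreshExt.cycΨ K R' n =
      PreshExt.cycΨ K R n ≫ Emap K g n := by
  ext V z
  show PreshExt.cycFun K R' n V (((HomologicalComplex.cyclesMap (Lmap K φ) n).app V).hom z) =
    (PreshExt.cycFun K R n V z).comp (Abelian.Ext.mk₀ g) (add_zero n)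
  unfold PreshExt.cycFun
  rw [InjectiveResolution.extMk_comp_mk₀ _ _ _ _ φ]
  exact ExtDer.extMk_congr R' (iC_cyclesMap K φ n V z) _ _ _ _

theorem homΨ_naturality :
    HomologicalComplex.homologyMap (Lmap K φ) n ≫ PreshExt.homΨ K R' n =
      PreshExt.homΨ K R n ≫ Emap K g n := by
  rw [← cancel_epi ((PreshExt.L K R).homologyπ n), HomologicalComplex.homologyπ_naturality_assoc,
    PreshExt.π_homΨ, cycΨ_naturality, ← Category.assoc, PreshExt.π_homΨ]

end Hom

end RpushSheafNat

namespace RpushSheafNat

universe u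

open RpushSheafify

section Hom'

variable {C : Type*} [Category C] [Abelian C] [HasExt C]
  {D : Type*} [Category D] (K : D ⥤ C)
  {F F' : C} {R : InjectiveResolution F} {R' : InjectiveResolution F'} {g : F ⟶ F'}
  (φ : InjectiveResolution.Hom R R' g) (n : ℕ)

theorem homologyIso_naturality :
    HomologicalComplex.homologyMap (Lmap K φ) n ≫ (PreshExt.homologyIso K R' n).hom =
      (PreshExt.homologyIso K R n).hom ≫ Emap K g n :=
  homΨ_naturality K φ n

theorem homologyIso'_naturality (Ψ : C ⥤ Dᵒᵖ ⥤ AddCommGrpCat) [Ψ.Additive]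
    (θ : Ψ ≅ PreshExt.Phi K) :
    HomologicalComplex.homologyMap ((Ψ.mapHomologicalComplex (ComplexShape.up ℕ)).map φ.hom) n ≫
        (PreshExt.homologyIso' K R' n Ψ θ).hom =
      (PreshExt.homologyIso' K R n Ψ θ).hom ≫ Emap K g n := by
  have h1 : (Ψ.mapHomologicalComplex (ComplexShape.up ℕ)).map φ.hom ≫
      ((NatIso.mapHomologicalComplex θ (ComplexShape.up ℕ)).app R'.cocomplex).hom =
      ((NatIso.mapHomologicalComplex θ (ComplexShape.up ℕ)).app R.cocomplex).hom ≫
        ((PreshExt.Phi K).mapHomologicalComplex (ComplexShape.up ℕ)).map φ.hom :=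
    (NatIso.mapHomologicalComplex θ (ComplexShape.up ℕ)).hom.naturality φ.hom
  change HomologicalComplex.homologyMap _ n ≫ (HomologicalComplex.homologyMap _ n ≫
      PreshExt.homΨ K R' n) = (HomologicalComplex.homologyMap _ n ≫ PreshExt.homΨ K R n) ≫
      Emap K g n
  rw [← Category.assoc, ← HomologicalComplex.homologyMap_comp, h1,
    HomologicalComplex.homologyMap_comp, Category.assoc, Category.assoc]
  congr 1
  exact homΨ_naturality K φ n

end Hom'

variable {X Y : TopCat.{u}}

section Sheafify

variable {L L' : CochainComplex (CohTop.Ab Y) ℕ} (g : L ⟶ L')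

/-- the induced map on the underlying complexes of presheaves -/
noncomputable abbrev preCxMap : preCx L ⟶ preCx L' :=
  ((iota Y).mapHomologicalComplex (ComplexShape.up ℕ)).map g

theorem counitCx_naturality :
    ((shf Y).mapHomologicalComplex (ComplexShape.up ℕ)).map (preCxMap g) ≫ (counitCx L').hom =
      (counitCx L).hom ≫ g := by
  refine HomologicalComplex.hom_ext _ _ (fun n => ?_)
  exact (sheafificationAdjunction (Opens.grothendieckTopology Y)
    AddCommGrpCat.{u}).counit.naturality (g.f n)

theorem mapHomIso_naturality {M M' : CochainComplex ((Opens Y)ᵒᵖ ⥤ AddCommGrpCat.{u}) ℕ}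
    (h : M ⟶ M') (i : ℕ) :
    HomologicalComplex.homologyMap
        (((shf Y).mapHomologicalComplex (ComplexShape.up ℕ)).map h) i ≫ (mapHomIso M' i).hom =
      (mapHomIso M i).hom ≫ (shf Y).map (HomologicalComplex.homologyMap h i) :=
  ShortComplex.mapHomologyIso_hom_naturality
    ((HomologicalComplex.shortComplexFunctor _ (ComplexShape.up ℕ) i).map h) (shf Y)

theorem sheafHomologyIso_naturality (i : ℕ) :
    HomologicalComplex.homologyMap g i ≫ (sheafHomologyIso L' i).hom =
      (sheafHomologyIso L i).hom ≫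
        (shf Y).map (HomologicalComplex.homologyMap (preCxMap g) i) := by
  have h1 : HomologicalComplex.homologyMap g i ≫
      HomologicalComplex.homologyMap (counitCx L').inv i =
      HomologicalComplex.homologyMap (counitCx L).inv i ≫
        HomologicalComplex.homologyMap
          (((shf Y).mapHomologicalComplex (ComplexShape.up ℕ)).map (preCxMap g)) i := by
    rw [← HomologicalComplex.homologyMap_comp, ← HomologicalComplex.homologyMap_comp]
    congr 1
    rw [Iso.comp_inv_eq, Category.assoc, counitCx_naturality, Iso.inv_hom_id_assoc]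
  change HomologicalComplex.homologyMap g i ≫
      (HomologicalComplex.homologyMap (counitCx L').inv i ≫ (mapHomIso (preCx L') i).hom) =
    (HomologicalComplex.homologyMap (counitCx L).inv i ≫ (mapHomIso (preCx L) i).hom) ≫
      (shf Y).map (HomologicalComplex.homologyMap (preCxMap g) i)
  rw [← Category.assoc, h1, Category.assoc, Category.assoc, mapHomIso_naturality]

end Sheafify

end RpushSheafNat

namespace RpushSheafNat

universe u

open RpushSheafify

variable {X Y : TopCat.{u}} (f : X ⟶ Y)

/-- the presheaf `V ↦ H^i(f⁻¹ V, F)`, as a functor of `F` -/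
noncomputable abbrev PPfun (i : ℕ) : CohTop.Ab X ⥤ (Opens Y)ᵒᵖ ⥤ AddCommGrpCat.{u} :=
  Sheaf.cohomologyPresheafFunctor.{u} (Opens.grothendieckTopology X) i ⋙
    (Functor.whiskeringLeft _ _ _).obj (Opens.map f).op

/-- `RpushSheafify.Eiso` with target `PPfun` -/
noncomputable def Eiso' (F : CohTop.Ab X) (i : ℕ) :
    PreshExt.E (Opens.map f ⋙ frF X) F i ≅ (PPfun f i).obj F := Eiso f F i

theorem Eiso'_naturality {F F' : CohTop.Ab X} (ψ : F ⟶ F') (i : ℕ) :
    Emap (Opens.map f ⋙ frF X) ψ i ≫ (Eiso' f F' i).hom =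
      (Eiso' f F i).hom ≫ (PPfun f i).map ψ := by
  apply NatTrans.ext
  funext V
  exact (Category.comp_id _).trans (Category.id_comp _).symm

/-- the chosen lift of `ψ` to the chosen injective resolutions -/
noncomputable def liftHom {F F' : CohTop.Ab X} (ψ : F ⟶ F') :
    InjectiveResolution.Hom (injectiveResolution F) (injectiveResolution F') ψ where
  hom := InjectiveResolution.desc ψ (injectiveResolution F') (injectiveResolution F)
  ι_f_zero_comp_hom_f_zero := by
    rw [CochainComplex.single₀_map_f_zero]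
    exact InjectiveResolution.desc_commutes_zero ψ _ _

/-- the complex `f_* I^•` -/
noncomputable abbrev pushCx (F : CohTop.Ab X) : CochainComplex (CohTop.Ab Y) ℕ :=
  ((CohTop.push f).mapHomologicalComplex (ComplexShape.up ℕ)).obj
    (injectiveResolution F).cocomplex

/-- the map `f_* I^• ⟶ f_* I'^•` -/
noncomputable abbrev pushCxMap {F F' : CohTop.Ab X} (ψ : F ⟶ F') : pushCx f F ⟶ pushCx f F' :=
  ((CohTop.push f).mapHomologicalComplex (ComplexShape.up ℕ)).map (liftHom ψ).hom

/-- the third isomorphism -/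
noncomputable def e3 (F : CohTop.Ab X) (i : ℕ) :
    (preCx (pushCx f F)).homology i ≅ PreshExt.E (Opens.map f ⋙ frF X) F i :=
  PreshExt.homologyIso' (Opens.map f ⋙ frF X) (injectiveResolution F) i
    (CohTop.push f ⋙ iota Y) (thetaPush f).symm

theorem e3_naturality {F F' : CohTop.Ab X} (ψ : F ⟶ F') (i : ℕ) :
    HomologicalComplex.homologyMap (preCxMap (pushCxMap f ψ)) i ≫ (e3 f F' i).hom =
      (e3 f F i).hom ≫ Emap (Opens.map f ⋙ frF X) ψ i :=
  homologyIso'_naturality (Opens.map f ⋙ frF X) (liftHom ψ) i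
    (CohTop.push f ⋙ iota Y) (thetaPush f).symm

/-- the first isomorphism -/
noncomputable def e1 (F : CohTop.Ab X) (i : ℕ) :
    (CohTop.Rpush f i).obj F ≅ (pushCx f F).homology i :=
  (injectiveResolution F).isoRightDerivedObj (CohTop.push f) i

theorem e1_naturality {F F' : CohTop.Ab X} (ψ : F ⟶ F') (i : ℕ) :
    (CohTop.Rpush f i).map ψ ≫ (e1 f F' i).hom =
      (e1 f F i).hom ≫ HomologicalComplex.homologyMap (pushCxMap f ψ) i :=
  InjectiveResolution.isoRightDerivedObj_hom_naturality ψ (injectiveResolution F)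
    (injectiveResolution F') (liftHom ψ).hom
    (InjectiveResolution.desc_commutes_zero ψ _ _) (CohTop.push f) i

/-- the isomorphism of `RpushSheafify.main` -/
noncomputable def mainIso (F : CohTop.Ab X) (i : ℕ) :
    (CohTop.Rpush f i).obj F ≅ (shf Y).obj ((PPfun f i).obj F) :=
  e1 f F i ≪≫ sheafHomologyIso (pushCx f F) i ≪≫ (shf Y).mapIso (e3 f F i ≪≫ Eiso' f F i)

theorem mainIso_naturality {F F' : CohTop.Ab X} (ψ : F ⟶ F') (i : ℕ) :
    (CohTop.Rpush f i).map ψ ≫ (mainIso f F' i).hom =
      (mainIso f F i).hom ≫ (shf Y).map ((PPfun f i).map ψ) := by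
  have n1 := e1_naturality f ψ i
  have n2 := sheafHomologyIso_naturality (pushCxMap f ψ) i
  have n3 := e3_naturality f ψ i
  have n4 := Eiso'_naturality f ψ i
  have n34 : HomologicalComplex.homologyMap (preCxMap (pushCxMap f ψ)) i ≫
      (e3 f F' i ≪≫ Eiso' f F' i).hom =
      (e3 f F i ≪≫ Eiso' f F i).hom ≫ (PPfun f i).map ψ := by
    rw [Iso.trans_hom, Iso.trans_hom, ← Category.assoc, n3, Category.assoc, n4, Category.assoc]
  change (CohTop.Rpush f i).map ψ ≫ ((e1 f F' i).hom ≫ (sheafHomologyIso (pushCx f F') i).hom ≫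
          (shf Y).map (e3 f F' i ≪≫ Eiso' f F' i).hom) =
    ((e1 f F i).hom ≫ (sheafHomologyIso (pushCx f F) i).hom ≫
          (shf Y).map (e3 f F i ≪≫ Eiso' f F i).hom) ≫ (shf Y).map ((PPfun f i).map ψ)
  rw [← Category.assoc, n1, Category.assoc, ← Category.assoc (HomologicalComplex.homologyMap _ i),
    n2, Category.assoc, ← (shf Y).map_comp, n34, (shf Y).map_comp, Category.assoc, Category.assoc]

end RpushSheafNat
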