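import Mathlib
import Groth.Agent.Lib.RpushQC1_helper9
import Groth.Agent.Lib.RpushNat_helper9
import Groth.Agent.Lib.RpushSheafNat_helper9
import Groth.Agent.Lib.QCohCrit2_helper9

/-!
# Quasi-coherence of higher direct images, II: affine base (helper9)
APPEND-ONLY once landed.
-/

set_option autoImplicit false

universe u

open CategoryTheory CategoryTheory.Limits AlgebraicGeometry Opposite TopologicalSpace

namespace RpushQC

variable {X S : Scheme.{u}} (f : X ⟶ S) (M : X.Modules) (q : ℕ)

/-- the endomorphism of `V ↦ H^q(f⁻¹ V, M)` induced by multiplication by `a` -/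
noncomputable def πa (a : Γ(S, ⊤)) : RpushAffine.PP f M q ⟶ RpushAffine.PP f M q :=
  (RpushSheafNat.PPfun f.base q).map (Coh.smulAb M (f.appTop.hom a))

theorem πa_app (a : Γ(S, ⊤)) (W : Opens S) (x : (RpushAffine.PP f M q).obj (op W)) :
    (πa f M q a).app (op W) x = RpushAffine.act f M q W a x := rfl

section

variable [QuasiCompact f] [QuasiSeparated f] [IsAffine S] [M.IsQuasicoherent]

theorem locPair_shP (a : Γ(S, ⊤)) :
    LocPair (RpushAffine.shP (RpushAffine.PP f M q))
      ((presheafToSheaf (Opens.grothendieckTopology S.toTopCat) AddCommGrpCat.{u}).map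
        (πa f M q a)) a := by
  haveI : CompactSpace X := QuasiCompact.compactSpace_of_compactSpace f
  haveI : QuasiSeparatedSpace X := quasiSeparatedSpace_of_quasiSeparated f
  refine locPair_of_data (RpushAffine.data f M q) _ (RpushAffine.phi _)
    (RpushAffine.locInj _) (RpushAffine.locSurj _) a _ (fun W x => ?_)
  have h := toSheafify_naturality (Opens.grothendieckTopology S.toTopCat) (πa f M q a)
  exact congrArg (fun κ => κ.app (op W) x) h

end

end RpushQC

namespace RpushQC

variable {X S : Scheme.{u}} (f : X ⟶ S) (M : X.Modules) (q : ℕ)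
  [HasInjectiveResolutions X.Modules]

/-- the underlying abelian sheaf of `R^q f_* M` is the sheafification of `V ↦ H^q(f⁻¹ V, M)`,
compatibly with multiplication by functions on the base -/
theorem exists_equivariant_iso :
    ∃ ε : Coh.toAb ((Coh.Rpush f q).obj M) ≅ RpushAffine.shP (RpushAffine.PP f M q),
      ∀ a : Γ(S, ⊤), Coh.smulAb ((Coh.Rpush f q).obj M) a ≫ ε.hom =
        ε.hom ≫ (presheafToSheaf (Opens.grothendieckTopology S.toTopCat)
          AddCommGrpCat.{u}).map (πa f M q a) := by
  obtain ⟨Θ⟩ := RpushNat.nonempty_natIso f q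
  let ε₁ : Coh.toAb ((Coh.Rpush f q).obj M) ≅ (Coh.RpushAb f q).obj (Coh.toAb M) := Θ.app M
  let ε₂ : (Coh.RpushAb f q).obj (Coh.toAb M) ≅ RpushAffine.shP (RpushAffine.PP f M q) :=
    RpushSheafNat.mainIso f.base (Coh.toAb M) q
  refine ⟨ε₁ ≪≫ ε₂, fun a => ?_⟩
  have hC := RpushNat.Rpush_map_smulModΓ f M a q
  have hΘ : Coh.smulAb ((Coh.Rpush f q).obj M) a ≫ ε₁.hom =
      ε₁.hom ≫ (Coh.RpushAb f q).map (Coh.smulAb M (f.appTop.hom a)) := by
    have h := Θ.hom.naturality (Formal.smulModΓ M (f.appTop.hom a))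
    rw [Functor.comp_map, hC] at h
    exact h
  have hB : (Coh.RpushAb f q).map (Coh.smulAb M (f.appTop.hom a)) ≫ ε₂.hom =
      ε₂.hom ≫ (presheafToSheaf (Opens.grothendieckTopology S.toTopCat)
          AddCommGrpCat.{u}).map (πa f M q a) :=
    RpushSheafNat.mainIso_naturality f.base (Coh.smulAb M (f.appTop.hom a)) q
  rw [Iso.trans_hom, ← Category.assoc, hΘ, Category.assoc, hB, Category.assoc]

end RpushQC

namespace RpushQC

variable {S : Scheme.{u}}

theorem iterate_smulAb (F : S.Modules) (a : Γ(S, ⊤)) (W : Opens S) (n : ℕ)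
    (t : (Coh.toAb F).obj.obj (op W)) :
    (⇑((Coh.smulAb F a).hom.app (op W)).hom)^[n] t =
      @HSMul.hSMul (S.ringCatSheaf.obj.obj (op W)) (F.val.obj (op W)) (F.val.obj (op W)) _
        ((Coh.resTop S (op W) a) ^ n) t := by
  induction n with
  | zero =>
    rw [pow_zero, one_smul]
    rfl
  | succ n ih =>
    rw [Function.iterate_succ_apply', ih, pow_succ', mul_smul]
    rfl

variable {X : Scheme.{u}} (f : X ⟶ S) (M : X.Modules) (q : ℕ)
  [HasInjectiveResolutions X.Modules]

/-- the localization property of `R^q f_* M` over an affine base -/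
theorem locOnU_top [QuasiCompact f] [QuasiSeparated f] [IsAffine S] [M.IsQuasicoherent] :
    QCohCrit.LocOnU ((Coh.Rpush f q).obj M) ⊤ := by
  intro a
  obtain ⟨ε, hε⟩ := exists_equivariant_iso f M q
  have hL : LocPair (Coh.toAb ((Coh.Rpush f q).obj M))
      (Coh.smulAb ((Coh.Rpush f q).obj M) a) a := (locPair_shP f M q a).of_iso ε (hε a)
  refine ⟨(isAffineOpen_top S).isLocalization_basicOpen a,
    fun x m => Scheme.Modules.map_smul _ _ x m, ?_, ?_⟩
  · intro m'
    obtain ⟨n, s, hs⟩ := hL.surj m'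
    refine ⟨n, s, ?_⟩
    rw [iterate_smulAb] at hs
    exact hs.symm
  · intro m hm
    obtain ⟨n, hn⟩ := hL.inj m hm
    refine ⟨n, ?_⟩
    rw [iterate_smulAb] at hn
    have h1 : Coh.resTop S (op ⊤) a = a := by
      change (S.ringCatSheaf.obj.map (𝟙 (op ⊤))).hom a = a
      rw [S.ringCatSheaf.obj.map_id]
      rfl
    rw [h1] at hn
    exact hn

/-- **Higher direct images of quasi-coherent modules over an affine base are quasi-coherent.** -/
theorem isQuasicoherent_Rpush_of_isAffine [QuasiCompact f] [QuasiSeparated f] [IsAffine S]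
    [M.IsQuasicoherent] : ((Coh.Rpush f q).obj M).IsQuasicoherent :=
  QCohCrit.isQuasicoherent_of_locOnU_cover _ (fun _ : PUnit.{u + 1} => (⊤ : S.Opens))
    (fun _ => isAffineOpen_top S) (by simp) (fun _ => locOnU_top f M q)

end RpushQC
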