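import Mathlib
import Groth.Agent.Lib.RpushQC2_helper9
import Groth.Agent.Lib.RpushRestrict_helper9

/-!
# Quasi-coherence of higher direct images, III: general base (helper9)
APPEND-ONLY once landed.
-/

set_option autoImplicit false
universe u
open CategoryTheory CategoryTheory.Limits AlgebraicGeometry Opposite TopologicalSpace

namespace RpushQC

variable {S : Scheme.{u}}

/-- `LocData` only depends on the opens up to equality -/
theorem locData_congr (F : S.Modules) {U₁ U₂ W₁ W₂ : S.Opens} (eU : U₁ = U₂) (eW : W₁ = W₂)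
    (h₁ : W₁ ≤ U₁) (h₂ : W₂ ≤ U₂) (a₁ : Γ(S, U₁)) (a₂ : Γ(S, U₂))
    (ha : (S.presheaf.map (eqToHom eU).op).hom a₂ = a₁)
    (L : RelFPKit.LocData (S.presheaf.map (homOfLE h₁).op).hom a₁
      (F.presheaf.map (homOfLE h₁).op).hom) :
    RelFPKit.LocData (S.presheaf.map (homOfLE h₂).op).hom a₂
      (F.presheaf.map (homOfLE h₂).op).hom := by
  subst eU eW
  have h3 : a₂ = a₁ := by
    rw [← ha]
    change a₂ = (S.presheaf.map (𝟙 _)).hom a₂
    rw [S.presheaf.map_id]
    rfl
  subst h3
  exact L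

theorem restrict_smul_eq (F : S.Modules) (W : S.Opens) (V' : (W : Scheme.{u}).Opens)
    (c : Γ((W : Scheme.{u}), V')) (z : Γ(F.restrict W.ι, V')) :
    (c • z : Γ(F.restrict W.ι, V')) =
      (show Γ(S, W.ι ''ᵁ V') from c) • (show Γ(F, W.ι ''ᵁ V') from z) := by
  have h1 : (c • z : Γ(F.restrict W.ι, V')) =
      ((W.ι.appIso V').inv.hom c) • (show Γ(F, W.ι ''ᵁ V') from z) := rfl
  rw [h1, Scheme.Opens.ι_appIso]
  rfl

/-- from the restriction to `V` back to `S` -/
theorem locData_of_restrict (F : S.Modules) (V : S.Opens) (a' : Γ((V : Scheme.{u}), ⊤))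
    (L : RelFPKit.LocData
      ((V : Scheme.{u}).presheaf.map (homOfLE ((V : Scheme.{u}).basicOpen_le a')).op).hom a'
      ((F.restrict V.ι).presheaf.map (homOfLE ((V : Scheme.{u}).basicOpen_le a')).op).hom) :
    RelFPKit.LocData
      (S.presheaf.map (homOfLE (V.ι.image_mono
        ((V : Scheme.{u}).basicOpen_le a'))).op).hom (show Γ(S, V.ι ''ᵁ ⊤) from a')
      (F.presheaf.map (homOfLE (V.ι.image_mono
        ((V : Scheme.{u}).basicOpen_le a'))).op).hom := by
  have hloc := L.isLoc
  refine ⟨hloc, fun x m => Scheme.Modules.map_smul _ _ x m, ?_, ?_⟩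
  · intro m'
    obtain ⟨n, m, hm⟩ := L.surj m'
    refine ⟨n, m, ?_⟩
    rw [restrict_smul_eq] at hm
    exact hm
  · intro m hm
    obtain ⟨n, hn⟩ := L.ker m hm
    refine ⟨n, ?_⟩
    rw [restrict_smul_eq] at hn
    exact hn

/-- the localization property may be checked on the restriction -/
theorem locOnU_of_restrict (F : S.Modules) (V : S.Opens)
    (h : QCohCrit.LocOnU (F.restrict V.ι) ⊤) : QCohCrit.LocOnU F V := by
  intro a
  have e₁ : V.ι ''ᵁ ⊤ = V := V.ι_image_top
  let a' : Γ((V : Scheme.{u}), ⊤) := (S.presheaf.map (eqToHom e₁).op).hom a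
  have e₂ : V.ι ''ᵁ ((V : Scheme.{u}).basicOpen a') = S.basicOpen a := by
    rw [Scheme.Opens.ι_image_basicOpen]
    exact S.basicOpen_res_eq a (eqToHom e₁).op
  have L := locData_of_restrict F V a' (h a')
  exact locData_congr F e₁ e₂ _ (S.basicOpen_le a) (show Γ(S, V.ι ''ᵁ ⊤) from a') a rfl L

/-- quasi-coherence may be checked on the restrictions to the affine opens -/
theorem isQuasicoherent_of_restrict (F : S.Modules)
    (H : ∀ V : S.affineOpens, (F.restrict (V : S.Opens).ι).IsQuasicoherent) :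
    F.IsQuasicoherent :=
  QCohCrit.isQuasicoherent_of_locOnU F (fun V => locOnU_of_restrict F V
    (haveI := H V
     QCohCrit.locOnU_of_isQuasicoherent _ (isAffineOpen_top _)))

variable {X : Scheme.{u}} (f : X ⟶ S) [QuasiCompact f] [QuasiSeparated f]
  [HasInjectiveResolutions X.Modules] (M : X.Modules) [M.IsQuasicoherent] (q : ℕ)

/-- **Higher direct images of quasi-coherent modules along quasi-compact quasi-separated
morphisms are quasi-coherent.** -/
theorem isQuasicoherent_Rpush : ((Coh.Rpush f q).obj M).IsQuasicoherent := by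
  apply isQuasicoherent_of_restrict
  intro V
  haveI : HasInjectiveResolutions ((f ⁻¹ᵁ (V : S.Opens) : X.Opens) : Scheme.{u}).Modules :=
    haveI := enoughInjectives_modules ((f ⁻¹ᵁ (V : S.Opens) : X.Opens) : Scheme.{u})
    inferInstance
  obtain ⟨e⟩ := nonempty_restrict_Rpush_iso f (V : S.Opens) M q
  haveI : IsAffine ((V : S.Opens) : Scheme.{u}) := V.2
  haveI : ((Coh.Rpush (f ∣_ (V : S.Opens)) q).obj
      (M.restrict (f ⁻¹ᵁ (V : S.Opens)).ι)).IsQuasicoherent :=
    isQuasicoherent_Rpush_of_isAffine (f ∣_ (V : S.Opens)) (M.restrict (f ⁻¹ᵁ (V : S.Opens)).ι) q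
  exact (SheafOfModules.isQuasicoherent ((V : S.Opens) : Scheme.{u}).ringCatSheaf).prop_of_iso
    e.symm inferInstance

end RpushQC
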