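import Mathlib
import Groth.Prelude.Def_CohCmp
import Groth.Agent.Lib.SectCmp1_helper9
import Groth.Agent.Lib.HHVan_helper9
import Groth.Agent.Lib.SerreCrit3_helper9
import Groth.Agent.Lib.AffVanish_helper9
import Groth.Agent.Lib.FlasqueAcyclic_helper2
import Groth.Agent.Lib.ModFreeMono_helper2
import Groth.Agent.Lib.RpushQC3_helper9

/-!
# The comparison `H^q(X, F) → Γ(S, R^q f_* F)` over an affine base is bijective (helper9)
APPEND-ONLY once landed.
-/

set_option autoImplicit false
universe u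

namespace Groth.Agent.Lib.SectCmp2

open CategoryTheory CategoryTheory.Limits AlgebraicGeometry AlgebraicGeometry.Scheme.Modules
  TopologicalSpace Opposite
open Groth.Agent.Lib.SectCmp1

variable {X Y : Scheme.{u}}

/-! ### Flasqueness of injective modules -/

/-- the restriction of an injective module to an open subscheme is flasque -/
theorem isFlasque_restrict (I : X.Modules) [Injective I] (U : X.Opens) :
    TopCat.Sheaf.IsFlasque (X := (U : Scheme.{u}).carrier) (Coh.toAb (I.restrict U.ι)) := by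
  have hI : Injective (C := SheafOfModules X.ringCatSheaf) I := ‹Injective I›
  constructor
  intro V V' i
  rw [AddCommGrpCat.epi_iff_surjective]
  have hle : V'.unop ≤ V.unop := leOfHom i.unop
  have hle' : U.ι ''ᵁ V'.unop ≤ U.ι ''ᵁ V.unop := U.ι.image_mono hle
  have h := @Groth.Agent.Lib.ModFree.surjective_map_of_mono _ _ _ X.ringCatSheaf I hI
    (U.ι ''ᵁ V.unop) (U.ι ''ᵁ V'.unop) (homOfLE hle') inferInstance
  exact h

/-- the direct image of an injective module is flasque -/
theorem isFlasque_push (f : X ⟶ Y) (I : X.Modules) [Injective I] :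
    TopCat.Sheaf.IsFlasque (X := Y.carrier) (Coh.toAb ((pushforward f).obj I)) := by
  have hI : Injective (C := SheafOfModules X.ringCatSheaf) I := ‹Injective I›
  constructor
  intro V V' i
  rw [AddCommGrpCat.epi_iff_surjective]
  have hle : V'.unop ≤ V.unop := leOfHom i.unop
  have hle' : f ⁻¹ᵁ V'.unop ≤ f ⁻¹ᵁ V.unop := f.preimage_mono hle
  have h := @Groth.Agent.Lib.ModFree.surjective_map_of_mono _ _ _ X.ringCatSheaf I hI
    (f ⁻¹ᵁ V.unop) (f ⁻¹ᵁ V'.unop) (homOfLE hle') inferInstance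
  exact h

theorem HHon_eq_zero_of_injective (I : X.Modules) [Injective I] (U : X.Opens) (p : ℕ)
    (x : Coh.HHon X I U (p + 1)) : x = 0 := by
  haveI := isFlasque_restrict I U
  exact Groth.Agent.Lib.FlasqueAcyclic.H_eq_zero_of_isFlasque
    (X := (U : Scheme.{u}).carrier) (Coh.toAb (I.restrict U.ι)) p x

theorem HH_push_subsingleton_of_injective (f : X ⟶ Y) (I : X.Modules) [Injective I] (p : ℕ) :
    Subsingleton (Coh.HH Y ((pushforward f).obj I) (p + 1)) := by
  haveI := isFlasque_push f I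
  have h := Groth.Agent.Lib.FlasqueAcyclic.H_eq_zero_of_isFlasque
    (X := Y.carrier) (Coh.toAb ((pushforward f).obj I)) p
  exact ⟨fun a b => (h a).trans (h b).symm⟩

/-! ### The Ext sequence on the open -/

theorem exists_extδ (U : X.Opens) (S : ShortComplex X.Modules) (hS : S.ShortExact) (p : ℕ)
    (hinj : ∀ x : Coh.HHon X S.X₂ U (p + 1), x = 0) (x : Coh.HHon X S.X₁ U (p + 1)) :
    ∃ y : Coh.HHon X S.X₃ U p, CohCmp.extδ (shortExact_toAbOn U S hS) p y = x := by
  obtain ⟨y, hy⟩ := Abelian.Ext.covariant_sequence_exact₁ _ (shortExact_toAbOn U S hS)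
    (show Abelian.Ext _ ((S.map (CohCmp.toAbOn X U)).X₁) (p + 1) from x) (hinj _) rfl
  exact ⟨y, hy⟩

theorem exists_mapH_of_extδ_eq_zero (U : X.Opens) (S : ShortComplex X.Modules)
    (hS : S.ShortExact) (p : ℕ) (y : Coh.HHon X S.X₃ U p)
    (hy : CohCmp.extδ (shortExact_toAbOn U S hS) p y = 0) :
    ∃ z : Coh.HHon X S.X₂ U p, CohPull.mapH ((restrictFunctor U.ι).map S.g) p z = y := by
  obtain ⟨z, hz⟩ := Abelian.Ext.covariant_sequence_exact₃ _ (shortExact_toAbOn U S hS)
    (show Abelian.Ext _ ((S.map (CohCmp.toAbOn X U)).X₃) p from y) rfl hy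
  exact ⟨z, hz⟩

theorem extδ_mapH (U : X.Opens) (S : ShortComplex X.Modules)
    (hS : S.ShortExact) (p : ℕ) (z : Coh.HHon X S.X₂ U p) :
    CohCmp.extδ (shortExact_toAbOn U S hS) p
      (CohPull.mapH ((restrictFunctor U.ι).map S.g) p z) = 0 := by
  have h := (shortExact_toAbOn U S hS).comp_extClass
  show ((show Abelian.Ext _ ((S.map (CohCmp.toAbOn X U)).X₂) p from z).comp
    (Abelian.Ext.mk₀ (S.map (CohCmp.toAbOn X U)).g) (add_zero p)).comp
      (shortExact_toAbOn U S hS).extClass rfl = 0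
  rw [Abelian.Ext.comp_assoc_of_second_deg_zero, h, Abelian.Ext.comp_zero]

/-! ### Global sections of short exact sequences of modules -/

open QCohExtn (ap)

theorem exists_of_ap_eq_zero (S : ShortComplex Y.Modules) (hS : S.ShortExact) (c : Γ(S.X₂, ⊤))
    (hc : ap S.g ⊤ c = 0) : ∃ a : Γ(S.X₁, ⊤), ap S.f ⊤ a = c := by
  have hT := SerreCrit.shortExact_toSheaf S hS
  haveI := hT.mono_f
  obtain ⟨a', ha'⟩ : ∃ a', Leray.constAddEquiv ((SerreCrit.TT Y).obj S.X₂) a' = c :=
    (Leray.constAddEquiv ((SerreCrit.TT Y).obj S.X₂)).surjective c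
  have h0 : a' ≫ (SerreCrit.TT Y).map S.g = 0 := by
    apply (Leray.constAddEquiv ((SerreCrit.TT Y).obj S.X₃)).injective
    rw [Leray.constAddEquiv_comp, ha', map_zero]
    exact hc
  refine ⟨Leray.constAddEquiv ((SerreCrit.TT Y).obj S.X₁) (hT.exact.lift a' h0), ?_⟩
  have h3 := Leray.constAddEquiv_comp (hT.exact.lift a' h0) ((SerreCrit.TT Y).map S.f)
  have h4 : hT.exact.lift a' h0 ≫ (SerreCrit.TT Y).map S.f = a' := hT.exact.lift_f a' h0
  rw [h4, ha'] at h3
  exact h3.symm

section FourTerm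

variable {A B C D : Y.Modules} (a : A ⟶ B) (b : B ⟶ C) (d : C ⟶ D)
  (hab : a ≫ b = 0) (hbd : b ≫ d = 0)

/-- `0 → ker d → C → D → 0` -/
noncomputable abbrev sesB : ShortComplex Y.Modules :=
  ShortComplex.mk (kernel.ι d) d (kernel.condition d)

theorem sesB_shortExact [Epi d] : (sesB d).ShortExact :=
  { exact := ShortComplex.exact_kernel d
    mono_f := by dsimp only [sesB]; infer_instance
    epi_g := by dsimp only [sesB]; infer_instance }

/-- `0 → A → B → ker d → 0` -/
noncomputable abbrev sesA : ShortComplex Y.Modules :=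
  ShortComplex.mk a (kernel.lift d b hbd) (by
    apply (cancel_mono (kernel.ι d)).1
    rw [Category.assoc, kernel.lift_ι, hab, zero_comp])

theorem sesA_shortExact [Mono a] (h1 : (ShortComplex.mk a b hab).Exact)
    (h2 : (ShortComplex.mk b d hbd).Exact) : (sesA a b d hab hbd).ShortExact := by
  let φ : sesA a b d hab hbd ⟶ ShortComplex.mk a b hab :=
    { τ₁ := 𝟙 _
      τ₂ := 𝟙 _
      τ₃ := kernel.ι d
      comm₁₂ := by simp
      comm₂₃ := by simp }
  haveI : Epi φ.τ₁ := by dsimp only [φ]; infer_instance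
  haveI : IsIso φ.τ₂ := by dsimp only [φ]; infer_instance
  haveI : Mono φ.τ₃ := by dsimp only [φ]; infer_instance
  have hex : (sesA a b d hab hbd).Exact :=
    (ShortComplex.exact_iff_of_epi_of_isIso_of_mono φ).2 h1
  have hepi : Epi (kernel.lift d b hbd) := by
    have := (ShortComplex.exact_iff_epi_kernel_lift (ShortComplex.mk b d hbd)).1 h2
    exact this
  exact
    { exact := hex
      mono_f := by dsimp only [sesA]; infer_instance
      epi_g := by dsimp only [sesA]; exact hepi }

variable [Mono a] [Epi d] (h1 : (ShortComplex.mk a b hab).Exact)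
  (h2 : (ShortComplex.mk b d hbd).Exact)

include h1 h2 in
theorem HH_kernel_subsingleton (p : ℕ)
    (hB : Subsingleton (Coh.HH Y B (p + 1))) (hA : Subsingleton (Coh.HH Y A (p + 2))) :
    Subsingleton (Coh.HH Y (kernel d) (p + 1)) :=
  Groth.Agent.HHVan.subsingleton_right (sesA a b d hab hbd) (sesA_shortExact a b d hab hbd h1 h2)
    (p + 1) hB hA

include h1 h2 in
theorem HH_C_subsingleton (p : ℕ)
    (hB : Subsingleton (Coh.HH Y B (p + 1))) (hA : Subsingleton (Coh.HH Y A (p + 2)))
    (hD : Subsingleton (Coh.HH Y D (p + 1))) :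
    Subsingleton (Coh.HH Y C (p + 1)) :=
  Groth.Agent.HHVan.subsingleton_mid (sesB d) (sesB_shortExact d) (p + 1)
    (HH_kernel_subsingleton a b d hab hbd h1 h2 p hB hA) hD

include h1 h2 in
theorem surj_d (hB : Subsingleton (Coh.HH Y B 1)) (hA : Subsingleton (Coh.HH Y A 2))
    (t : Γ(D, ⊤)) : ∃ c : Γ(C, ⊤), ap d ⊤ c = t := by
  have hK := HH_kernel_subsingleton a b d hab hbd h1 h2 0 hB hA
  exact SerreCrit.surj_of_H1 (sesB d) (sesB_shortExact d)
    (fun x => Subsingleton.elim (h := hK) _ _) t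

include h1 h2 in
theorem exists_of_d_eq_zero (hA : Subsingleton (Coh.HH Y A 1))
    (c : Γ(C, ⊤)) (hc : ap d ⊤ c = 0) : ∃ b' : Γ(B, ⊤), ap b ⊤ b' = c := by
  obtain ⟨k, hk⟩ := exists_of_ap_eq_zero (sesB d) (sesB_shortExact d) c hc
  obtain ⟨b', hb'⟩ := SerreCrit.surj_of_H1 (sesA a b d hab hbd)
    (sesA_shortExact a b d hab hbd h1 h2) (fun x => Subsingleton.elim (h := hA) _ _) k
  refine ⟨b', ?_⟩
  have h3 : b = kernel.lift d b hbd ≫ kernel.ι d := (kernel.lift_ι d b hbd).symm
  rw [h3, SerreCrit.ap_comp]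
  rw [show ap (kernel.lift d b hbd) ⊤ b' = k from hb']
  exact hk

end FourTerm

/-! ### The class of modules with acyclic higher direct images -/

section Main

variable (f : X ⟶ Y) [HasInjectiveResolutions X.Modules]

/-- all higher direct images of `F` are acyclic on the base -/
def Good (F : X.Modules) : Prop :=
  ∀ j p : ℕ, Subsingleton (Coh.HH Y ((Coh.Rpush f j).obj F) (p + 1))

theorem good_of_isQuasicoherent [QuasiCompact f] [QuasiSeparated f] [IsAffine Y]
    (F : X.Modules) [F.IsQuasicoherent] : Good f F := by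
  intro j p
  haveI := RpushQC.isQuasicoherent_Rpush_of_isAffine f F j
  exact AffVanish.HH_subsingleton_of_isAffine Y _ p

instance injective_sesInj_X₂ (F : X.Modules) : Injective (sesInj F).X₂ := by
  haveI := Groth.Agent.Lib.FAcyc.enoughInjectives (A := X.Modules)
  dsimp only [sesInj]
  infer_instance

theorem mono_R0_map {F G : X.Modules} (φ : F ⟶ G) [Mono φ] : Mono ((Coh.Rpush f 0).map φ) := by
  haveI := Groth.Agent.Lib.FAcyc.enoughInjectives (A := X.Modules)
  haveI : IsIso ((pushforward f).toRightDerivedZero.app F) := inferInstance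
  haveI : Mono ((pushforward f).map φ) := inferInstance
  have hnat := (pushforward f).toRightDerivedZero.naturality φ
  have h : (Coh.Rpush f 0).map φ =
      inv ((pushforward f).toRightDerivedZero.app F) ≫ (pushforward f).map φ ≫
        (pushforward f).toRightDerivedZero.app G := by
    rw [hnat, IsIso.inv_hom_id_assoc]
  rw [h]
  infer_instance

theorem HH_R0_injective_subsingleton (I : X.Modules) [Injective I] (p : ℕ) :
    Subsingleton (Coh.HH Y ((Coh.Rpush f 0).obj I) (p + 1)) := by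
  haveI : IsIso ((pushforward f).toRightDerivedZero.app I) := inferInstance
  exact Groth.Agent.HHVan.subsingleton_of_iso
    (asIso ((pushforward f).toRightDerivedZero.app I)) (p + 1)
    (HH_push_subsingleton_of_injective f I p)

variable (Δ : RDer.DerivedLES (pushforward f))

theorem isIso_δ_succ (F : X.Modules) (q : ℕ) :
    IsIso (Δ.δ (sesInj F) (sesInj_shortExact F) (q + 1) (q + 2) rfl) := by
  haveI := Groth.Agent.Lib.FAcyc.enoughInjectives (A := X.Modules)
  haveI := epi_δ f (Δ := Δ) F (q + 1)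
  have hz : IsZero (((pushforward f).rightDerived (q + 1)).obj (sesInj F).X₂) :=
    Functor.isZero_rightDerived_obj_injective_succ _ q _
  haveI : Mono (Δ.δ (sesInj F) (sesInj_shortExact F) (q + 1) (q + 2) rfl) :=
    (Δ.exact₃ (sesInj F) (sesInj_shortExact F) (q + 1) (q + 2) rfl).mono_g (hz.eq_of_src _ _)
  exact isIso_of_mono_of_epi _

theorem R0_zero (F : X.Modules) :
    (Coh.Rpush f 0).map (sesInj F).f ≫ (Coh.Rpush f 0).map (sesInj F).g = 0 := by
  rw [← Functor.map_comp, (sesInj F).zero, Functor.map_zero]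

include Δ in
theorem good_sesInj_X₃ (F : X.Modules) (hF : Good f F) : Good f (sesInj F).X₃ := by
  intro j p
  cases j with
  | zero =>
    haveI := mono_R0_map f (sesInj F).f
    haveI := epi_δ f (Δ := Δ) F 0
    exact HH_C_subsingleton ((Coh.Rpush f 0).map (sesInj F).f) ((Coh.Rpush f 0).map (sesInj F).g)
      (Δ.δ (sesInj F) (sesInj_shortExact F) 0 1 rfl) (R0_zero f F)
      (Δ.comp_δ (sesInj F) (sesInj_shortExact F) 0 1 rfl)
      (Δ.exact₂ (sesInj F) (sesInj_shortExact F) 0)
      (Δ.exact₃ (sesInj F) (sesInj_shortExact F) 0 1 rfl) p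
      (HH_R0_injective_subsingleton f (sesInj F).X₂ p) (hF 0 (p + 1)) (hF 1 p)
  | succ j =>
    haveI := isIso_δ_succ f Δ F j
    exact Groth.Agent.HHVan.subsingleton_of_iso
      (asIso (Δ.δ (sesInj F) (sesInj_shortExact F) (j + 1) (j + 2) rfl)).symm (p + 1)
      (hF (j + 2) p)

theorem app_inv_app {M N : Y.Modules} (φ : M ⟶ N) [IsIso φ] (V : Y.Opens) (t : Γ(N, V)) :
    φ.app V ((inv φ).app V t) = t := by
  have h : (inv φ).app V ≫ φ.app V = 𝟙 _ := by
    rw [← Scheme.Modules.Hom.comp_app, IsIso.inv_hom_id]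
    rfl
  exact congr($h t)

theorem inv_app_app {M N : Y.Modules} (φ : M ⟶ N) [IsIso φ] (V : Y.Opens) (s : Γ(M, V)) :
    (inv φ).app V (φ.app V s) = s := by
  have h : φ.app V ≫ (inv φ).app V = 𝟙 _ := by
    rw [← Scheme.Modules.Hom.comp_app, IsIso.hom_inv_id]
    rfl
  exact congr($h s)

variable {Δ}

/-- in degree zero the comparison map is bijective over every open -/
theorem bijective_zero (E : CohCmp.SectCmp f Δ) (V : Y.Opens) (F : X.Modules) :
    Function.Bijective (E.ε V F 0) := by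
  haveI : IsIso ((pushforward f).toRightDerivedZero.app F) := inferInstance
  constructor
  · intro x x' hxx'
    obtain ⟨s, rfl⟩ := (CohPull.sectH0 F (f ⁻¹ᵁ V)).surjective x
    obtain ⟨s', rfl⟩ := (CohPull.sectH0 F (f ⁻¹ᵁ V)).surjective x'
    rw [E.zero, E.zero] at hxx'
    have h := congrArg ((inv ((pushforward f).toRightDerivedZero.app F)).app V) hxx'
    rw [inv_app_app, inv_app_app] at h
    rw [h]
  · intro t
    refine ⟨CohPull.sectH0 F (f ⁻¹ᵁ V)
      ((inv ((pushforward f).toRightDerivedZero.app F)).app V t), ?_⟩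
    rw [E.zero, app_inv_app]

/-- **The comparison map over the whole base is bijective on modules all of whose higher direct
images are acyclic.** -/
theorem bijective_top (E : CohCmp.SectCmp f Δ) :
    ∀ (q : ℕ) (F : X.Modules), Good f F → Function.Bijective (E.ε ⊤ F q) := by
  intro q
  induction q with
  | zero =>
    intro F _
    exact bijective_zero f E ⊤ F
  | succ q ih =>
    intro F hF
    have hQ := good_sesInj_X₃ f Δ F hF
    have hS := sesInj_shortExact F
    have hA := shortExact_toAbOn (f ⁻¹ᵁ ⊤) (sesInj F) hS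
    have K1 : ∀ x : Coh.HHon X (sesInj F).X₁ (f ⁻¹ᵁ ⊤) (q + 1),
        ∃ y, CohCmp.extδ hA q y = x :=
      fun x => exists_extδ (f ⁻¹ᵁ ⊤) (sesInj F) hS q
        (HHon_eq_zero_of_injective (sesInj F).X₂ _ q) x
    have K23 : (∀ t : Γ((Coh.Rpush f (q + 1)).obj (sesInj F).X₁, ⊤),
          ∃ c : Γ((Coh.Rpush f q).obj (sesInj F).X₃, ⊤),
            (Δ.δ (sesInj F) hS q (q + 1) rfl).app ⊤ c = t) ∧
        (∀ y : Coh.HHon X (sesInj F).X₃ (f ⁻¹ᵁ ⊤) q,
          (Δ.δ (sesInj F) hS q (q + 1) rfl).app ⊤ (E.ε ⊤ (sesInj F).X₃ q y) = 0 →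
            CohCmp.extδ hA q y = 0) := by
      cases q with
      | zero =>
        haveI := mono_R0_map f (sesInj F).f
        haveI := epi_δ f (Δ := Δ) F 0
        constructor
        · intro t
          exact surj_d ((Coh.Rpush f 0).map (sesInj F).f) ((Coh.Rpush f 0).map (sesInj F).g)
            (Δ.δ (sesInj F) hS 0 1 rfl) (R0_zero f F)
            (Δ.comp_δ (sesInj F) hS 0 1 rfl) (Δ.exact₂ (sesInj F) hS 0)
            (Δ.exact₃ (sesInj F) hS 0 1 rfl)
            (HH_R0_injective_subsingleton f (sesInj F).X₂ 0) (hF 0 1) t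
        · intro y hy
          obtain ⟨b', hb'⟩ := exists_of_d_eq_zero ((Coh.Rpush f 0).map (sesInj F).f)
            ((Coh.Rpush f 0).map (sesInj F).g)
            (Δ.δ (sesInj F) hS 0 1 rfl) (R0_zero f F)
            (Δ.comp_δ (sesInj F) hS 0 1 rfl) (Δ.exact₂ (sesInj F) hS 0)
            (Δ.exact₃ (sesInj F) hS 0 1 rfl) (hF 0 0) (E.ε ⊤ (sesInj F).X₃ 0 y) hy
          obtain ⟨z, hz⟩ := (bijective_zero f E ⊤ (sesInj F).X₂).2 b'
          have hn := E.natural ⊤ (sesInj F).g 0 z
          rw [hz] at hn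
          have hyz : CohPull.mapH ((restrictFunctor (f ⁻¹ᵁ ⊤).ι).map (sesInj F).g) 0 z = y :=
            (bijective_zero f E ⊤ (sesInj F).X₃).1 (hn.trans hb')
          rw [← hyz]
          exact extδ_mapH (f ⁻¹ᵁ ⊤) (sesInj F) hS 0 z
      | succ q' =>
        haveI := isIso_δ_succ f Δ F q'
        constructor
        · intro t
          exact ⟨(inv (Δ.δ (sesInj F) hS (q' + 1) (q' + 2) rfl)).app ⊤ t, app_inv_app _ _ _⟩
        · intro y hy
          have h := congrArg ((inv (Δ.δ (sesInj F) hS (q' + 1) (q' + 2) rfl)).app ⊤) hy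
          rw [inv_app_app, map_zero] at h
          have hy0 : y = 0 := (ih (sesInj F).X₃ hQ).1 (h.trans (map_zero _).symm)
          rw [hy0]
          exact map_zero (CohCmp.extδ hA (q' + 1))
    obtain ⟨K2, K3⟩ := K23
    constructor
    · rw [injective_iff_map_eq_zero]
      intro x hx
      obtain ⟨y, rfl⟩ := K1 x
      rw [E.delta ⊤ (sesInj F) hS hA q y] at hx
      exact K3 y hx
    · intro t
      obtain ⟨c, hc⟩ := K2 t
      obtain ⟨y, hy⟩ := (ih (sesInj F).X₃ hQ).2 c
      refine ⟨CohCmp.extδ hA q y, ?_⟩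
      rw [E.delta ⊤ (sesInj F) hS hA q y, hy, hc]

/-- **S16959.** -/
theorem bijective_top_of_isAffine [QuasiCompact f] [QuasiSeparated f] [IsAffine Y]
    (E : CohCmp.SectCmp f Δ) (F : X.Modules) [F.IsQuasicoherent] (q : ℕ) :
    Function.Bijective (E.ε ⊤ F q) :=
  bijective_top f E q F (good_of_isQuasicoherent f F)

end Main

end Groth.Agent.Lib.SectCmp2
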