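import Mathlib
import Groth.Prelude.Def_CohCmp
import Groth.Agent.Lib.PullFn3_helper2
import Groth.Agent.Lib.SectCmp2_helper9
import Groth.Agent.Lib.QCohExact_helper9

/-!
# The comparison `H^p(f⁻¹V, F) → Γ(V, R^p f_* F)`: compatibility with restriction, local injectivity
(helper2)  APPEND-ONLY once landed.

* `resLE_trans`: transitivity of the restriction maps `CohPull.resLE` (uniqueness of morphisms of
  delta-functors out of a universal one);
* `ε_resLE`: the comparison maps of a `CohCmp.SectCmp` commute with restriction;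
* `locally_zero`: a class killed by the comparison map vanishes locally on the base.
-/

set_option autoImplicit false
set_option backward.isDefEq.respectTransparency false
set_option linter.style.haveILetI false
set_option linter.unusedSectionVars false
universe u

namespace Groth.Agent.Lib.SectCmp3H2

open CategoryTheory CategoryTheory.Limits AlgebraicGeometry AlgebraicGeometry.Scheme.Modules
  TopologicalSpace Opposite
open Groth.Agent.Lib.SectCmp1 Groth.Agent.Lib.SectCmp2 Groth.Agent.Lib.PullFnH2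

variable {X Y : Scheme.{u}}

/-- local lifting along an exact sequence of modules -/
theorem exists_local_lift_of_exact (S : ShortComplex Y.Modules) (hS : S.Exact) {V : Y.Opens}
    (c : Γ(S.X₂, V)) (hc : S.g.app V c = 0) {y : Y} (hy : y ∈ V) :
    ∃ (W : Y.Opens) (hW : W ≤ V) (_ : y ∈ W) (t : Γ(S.X₁, W)),
      S.f.app W t = S.X₂.presheaf.map (homOfLE hW).op c := by
  let S' : ShortComplex Y.Modules := ShortComplex.mk (kernel.ι S.g) S.g (kernel.condition _)
  have hS' : S'.Exact := ShortComplex.exact_kernel S.g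
  haveI : Mono S'.f := by dsimp only [S']; infer_instance
  obtain ⟨k, hk⟩ := QCohExact.app_exact S' hS' V c hc
  haveI : Epi (kernel.lift S.g S.f S.zero) := by
    have := (S.exact_iff_epi_kernel_lift).mp hS
    exact this
  obtain ⟨W, hW, hyW, t, ht⟩ := EpiLoc.exists_local_lift (kernel.lift S.g S.f S.zero) k hy
  refine ⟨W, hW, hyW, t, ?_⟩
  have h1 : S.f = kernel.lift S.g S.f S.zero ≫ kernel.ι S.g := (kernel.lift_ι _ _ _).symm
  rw [h1]
  show (kernel.ι S.g).app W ((kernel.lift S.g S.f S.zero).app W t) = _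
  rw [ht, app_map, hk]

variable [HasInjectiveResolutions X.Modules]

/-- transitivity of restriction -/
theorem resLE_trans : ∀ (p : ℕ) (F : X.Modules) {U U' U'' : X.Opens} (h : U' ≤ U) (h' : U'' ≤ U')
    (x : Coh.HHon X F U p),
    CohPull.resLE F h' p (CohPull.resLE F h p x) = CohPull.resLE F (h'.trans h) p x := by
  intro p
  induction p with
  | zero =>
    intro F U U' U'' h h' x
    obtain ⟨s, rfl⟩ := (CohPull.sectH0 F U).surjective x
    rw [resLE_sectH0, resLE_sectH0, resLE_sectH0, map_map]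
  | succ p ih =>
    intro F U U' U'' h h' x
    obtain ⟨z, rfl⟩ := exists_extδ U (sesInj F) (sesInj_shortExact F) p
      (HHon_eq_zero_of_injective (sesInj F).X₂ U p) x
    rw [resLE_extδ (sesInj F) h _ (shortExact_toAbOn U' (sesInj F) (sesInj_shortExact F)),
      resLE_extδ (sesInj F) h' _ (shortExact_toAbOn U'' (sesInj F) (sesInj_shortExact F)),
      resLE_extδ (sesInj F) (h'.trans h) _ (shortExact_toAbOn U'' (sesInj F) (sesInj_shortExact F)),
      ih]

variable (f : X ⟶ Y) {Δ : RDer.DerivedLES (pushforward f)} (E : CohCmp.SectCmp f Δ)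

/-- the comparison maps commute with restriction -/
theorem ε_resLE : ∀ (p : ℕ) (F : X.Modules) {V W : Y.Opens} (hWV : W ≤ V)
    (x : Coh.HHon X F (f ⁻¹ᵁ V) p),
    E.ε W F p (CohPull.resLE F (f.preimage_mono hWV) p x) =
      ((Coh.Rpush f p).obj F).presheaf.map (homOfLE hWV).op (E.ε V F p x) := by
  intro p
  induction p with
  | zero =>
    intro F V W hWV x
    obtain ⟨s, rfl⟩ := (CohPull.sectH0 F (f ⁻¹ᵁ V)).surjective x
    rw [resLE_sectH0, E.zero, E.zero]
    exact app_map ((pushforward f).toRightDerivedZero.app F) hWV s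
  | succ p ih =>
    intro F V W hWV x
    obtain ⟨z, rfl⟩ := exists_extδ (f ⁻¹ᵁ V) (sesInj F) (sesInj_shortExact F) p
      (HHon_eq_zero_of_injective (sesInj F).X₂ (f ⁻¹ᵁ V) p) x
    rw [resLE_extδ (sesInj F) (f.preimage_mono hWV) _
      (shortExact_toAbOn (f ⁻¹ᵁ W) (sesInj F) (sesInj_shortExact F))]
    have h1 := E.delta W (sesInj F) (sesInj_shortExact F)
      (shortExact_toAbOn (f ⁻¹ᵁ W) (sesInj F) (sesInj_shortExact F)) p
      (CohPull.resLE (sesInj F).X₃ (f.preimage_mono hWV) p z)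
    have h2 := E.delta V (sesInj F) (sesInj_shortExact F)
      (shortExact_toAbOn (f ⁻¹ᵁ V) (sesInj F) (sesInj_shortExact F)) p z
    refine h1.trans ?_
    rw [ih, app_map]
    exact congrArg _ h2.symm

/-- the comparison maps are locally injective -/
theorem locally_zero : ∀ (p : ℕ) (F : X.Modules) (V : Y.Opens) (x : Coh.HHon X F (f ⁻¹ᵁ V) p)
    (_ : E.ε V F p x = 0) (y : Y) (_ : y ∈ V),
    ∃ (W : Y.Opens) (hWV : W ≤ V), y ∈ W ∧ CohPull.resLE F (f.preimage_mono hWV) p x = 0 := by
  intro p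
  induction p with
  | zero =>
    intro F V x hx y hy
    refine ⟨V, le_rfl, hy, ?_⟩
    obtain ⟨s, rfl⟩ := (CohPull.sectH0 F (f ⁻¹ᵁ V)).surjective x
    rw [E.zero] at hx
    haveI : IsIso ((pushforward f).toRightDerivedZero.app F) := inferInstance
    have hs : s = 0 := by
      apply QCohExact.app_injective_of_mono ((pushforward f).toRightDerivedZero.app F) V
      rw [hx, map_zero]
    rw [hs, map_zero, map_zero]
  | succ p ih =>
    intro F V x hx y hy
    have hS := sesInj_shortExact F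
    obtain ⟨z, rfl⟩ := exists_extδ (f ⁻¹ᵁ V) (sesInj F) hS p
      (HHon_eq_zero_of_injective (sesInj F).X₂ (f ⁻¹ᵁ V) p) x
    have h2 := E.delta V (sesInj F) hS (shortExact_toAbOn (f ⁻¹ᵁ V) (sesInj F) hS) p z
    rw [hx] at h2
    obtain ⟨W₁, hW₁, hyW₁, t, ht⟩ := exists_local_lift_of_exact
      (ShortComplex.mk _ _ (Δ.comp_δ (sesInj F) hS p (p + 1) rfl))
      (Δ.exact₃ (sesInj F) hS p (p + 1) rfl) (E.ε V (sesInj F).X₃ p z) h2.symm hy
    obtain ⟨W₂, hW₂, hyW₂, u, hu⟩ := locally_surjective f E p (sesInj F).X₂ W₁ t y hyW₁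
    have hW₂V : W₂ ≤ V := hW₂.trans hW₁
    have hdiff : E.ε W₂ (sesInj F).X₃ p
        (CohPull.resLE (sesInj F).X₃ (f.preimage_mono hW₂V) p z -
          CohPull.mapH ((restrictFunctor (f ⁻¹ᵁ W₂).ι).map (sesInj F).g) p u) = 0 := by
      rw [map_sub, ε_resLE f E p _ hW₂V z, E.natural, hu, app_map]
      have ht' : ((Coh.Rpush f p).map (sesInj F).g).app W₁ t =
          ((Coh.Rpush f p).obj (sesInj F).X₃).presheaf.map (homOfLE hW₁).op
            (E.ε V (sesInj F).X₃ p z) := ht
      rw [ht', map_map, sub_self]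
    obtain ⟨W₃, hW₃, hyW₃, h3⟩ := ih (sesInj F).X₃ W₂ _ hdiff y hyW₂
    refine ⟨W₃, hW₃.trans hW₂V, hyW₃, ?_⟩
    rw [resLE_extδ (sesInj F) (f.preimage_mono (hW₃.trans hW₂V)) _
      (shortExact_toAbOn (f ⁻¹ᵁ W₃) (sesInj F) hS)]
    have h4 : CohPull.resLE (sesInj F).X₃ (f.preimage_mono (hW₃.trans hW₂V)) p z =
        CohPull.mapH ((restrictFunctor (f ⁻¹ᵁ W₃).ι).map (sesInj F).g) p
          (CohPull.resLE (sesInj F).X₂ (f.preimage_mono hW₃) p u) := by
      rw [← resLE_map (sesInj F).g (f.preimage_mono hW₃) p u,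
        ← resLE_trans p (sesInj F).X₃ (f.preimage_mono hW₂V) (f.preimage_mono hW₃) z]
      rw [map_sub, sub_eq_zero] at h3
      exact h3
    exact (congrArg (CohCmp.extδ (shortExact_toAbOn (f ⁻¹ᵁ W₃) (sesInj F) hS) p) h4).trans
      (extδ_mapH (f ⁻¹ᵁ W₃) (sesInj F) hS p _)

end Groth.Agent.Lib.SectCmp3H2
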