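import Mathlib
import Groth.Prelude.Def_CohCmp
import Groth.Agent.Lib.PullFn5_helper2
import Groth.Agent.Lib.SectCmp3_helper2
import Groth.Agent.Lib.BCComp_helper7

/-!
# The pinned base change maps `GenBC`: uniqueness tools and horizontal composition (helper2)
APPEND-ONLY once landed.
-/

set_option autoImplicit false
set_option backward.isDefEq.respectTransparency false
set_option linter.style.haveILetI false
set_option linter.unusedSectionVars false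
universe u

namespace Groth.Agent.Lib.GenBCH2

open CategoryTheory CategoryTheory.Limits AlgebraicGeometry AlgebraicGeometry.Scheme.Modules
  TopologicalSpace Opposite Abelian Groth.Agent.Lib.PullFnH2

/-- Two sections agreeing locally are equal. -/
theorem section_ext_cover {X : Scheme.{u}} (F : X.Modules) {U : X.Opens} (s t : Γ(F, U))
    (h : ∀ x ∈ U, ∃ (W : X.Opens) (hW : W ≤ U), x ∈ W ∧
      F.presheaf.map (homOfLE hW).op s = F.presheaf.map (homOfLE hW).op t) : s = t := by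
  choose W hWU hxW hst using h
  refine TopCat.Sheaf.eq_of_locally_eq' ⟨F.presheaf, F.isSheaf⟩ (fun x : U => W x.1 x.2) U
    (fun x => homOfLE (hWU x.1 x.2)) ?_ _ _ ?_
  · intro x hx
    exact Opens.mem_iSup.mpr ⟨⟨x, hx⟩, hxW x hx⟩
  · intro x
    exact hst x.1 x.2

/-- a morphism out of `R^p f_* F` is determined by its values on the classes `ε(x)` -/
theorem hom_ext_of_ε {X Y : Scheme.{u}} {f : X ⟶ Y} [HasInjectiveResolutions X.Modules]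
    {Δ : RDer.DerivedLES (pushforward f)} (E : CohCmp.SectCmp f Δ) (p : ℕ) (F : X.Modules)
    {N : Y.Modules} (a b : (Coh.Rpush f p).obj F ⟶ N)
    (h : ∀ (V : Y.Opens) (x : Coh.HHon X F (f ⁻¹ᵁ V) p),
      a.app V (E.ε V F p x) = b.app V (E.ε V F p x)) : a = b := by
  ext V t
  refine section_ext_cover N _ _ (fun y hy => ?_)
  obtain ⟨W, hWV, hyW, x, hx⟩ := SectCmp1.locally_surjective f E p F V t y hy
  refine ⟨W, hWV, hyW, ?_⟩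
  have h1 := SectCmp1.app_map a hWV t
  have h2 := SectCmp1.app_map b hWV t
  refine h1.symm.trans (Eq.trans ?_ h2)
  rw [← hx]
  exact h W x

section HComp

variable {X Y Z U V W : Scheme.{u}} (f : X ⟶ Y) (g : Y ⟶ Z) (ξ : X ⟶ U) (η : Y ⟶ V) (ζ : Z ⟶ W)
    (φ : U ⟶ V) (ψ : V ⟶ W) (w₁ : f ≫ η = ξ ≫ φ) (w₂ : g ≫ ζ = η ≫ ψ)
    (hw : (f ≫ g) ≫ ζ = ξ ≫ (φ ≫ ψ))
    [HasInjectiveResolutions X.Modules] [HasInjectiveResolutions Y.Modules]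
    [HasInjectiveResolutions Z.Modules]
    {Δζ : RDer.DerivedLES (pushforward ζ)} {Δη : RDer.DerivedLES (pushforward η)}
    {Δξ : RDer.DerivedLES (pushforward ξ)}
    (Eζ : CohCmp.SectCmp ζ Δζ) (Eη : CohCmp.SectCmp η Δη) (Eξ : CohCmp.SectCmp ξ Δξ)
    (B₂ : CohCmp.GenBC ζ ψ η g w₂ Eζ Eη) (B₁ : CohCmp.GenBC η φ ξ f w₁ Eη Eξ)
    (B : CohCmp.GenBC ζ (φ ≫ ψ) ξ (f ≫ g) hw Eζ Eξ)

set_option maxHeartbeats 1000000 in
/-- horizontal composition, in adjoint form -/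
theorem φ_hcomp (L : Z.Modules) (p : ℕ) :
    B.φ p L ≫ (pushforwardComp φ ψ).inv.app _ =
      B₂.φ p L ≫ (pushforward ψ).map (B₁.φ p ((Scheme.Modules.pullback g).obj L)) ≫
        (pushforward ψ).map ((pushforward φ).map
          ((Coh.Rpush ξ p).map ((pullbackComp f g).hom.app L))) := by
  refine hom_ext_of_ε Eζ p L _ _ (fun 𝒱 x => ?_)
  have c := B.compat 𝒱 L p x
  have c₂ := B₂.compat 𝒱 L p x
  have c₁ := B₁.compat (ψ ⁻¹ᵁ 𝒱) ((Scheme.Modules.pullback g).obj L) p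
    (CohPull.pullOn g (ζ ⁻¹ᵁ 𝒱) (η ⁻¹ᵁ (ψ ⁻¹ᵁ 𝒱)) (CohCmp.sqLE ζ ψ η g w₂ 𝒱) L p x)
  have n := Eξ.natural (φ ⁻¹ᵁ (ψ ⁻¹ᵁ 𝒱)) ((pullbackComp f g).hom.app L) p
    (CohPull.pullOn f (η ⁻¹ᵁ (ψ ⁻¹ᵁ 𝒱)) (ξ ⁻¹ᵁ (φ ⁻¹ᵁ (ψ ⁻¹ᵁ 𝒱)))
      (CohCmp.sqLE η φ ξ f w₁ (ψ ⁻¹ᵁ 𝒱)) ((Scheme.Modules.pullback g).obj L) p
      (CohPull.pullOn g (ζ ⁻¹ᵁ 𝒱) (η ⁻¹ᵁ (ψ ⁻¹ᵁ 𝒱)) (CohCmp.sqLE ζ ψ η g w₂ 𝒱) L p x))
  have k := pullOn_comp f g (ζ ⁻¹ᵁ 𝒱) (η ⁻¹ᵁ (ψ ⁻¹ᵁ 𝒱)) (ξ ⁻¹ᵁ (φ ⁻¹ᵁ (ψ ⁻¹ᵁ 𝒱)))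
    (CohCmp.sqLE ζ ψ η g w₂ 𝒱) (CohCmp.sqLE η φ ξ f w₁ (ψ ⁻¹ᵁ 𝒱))
    (CohCmp.sqLE ζ (φ ≫ ψ) ξ (f ≫ g) hw 𝒱) L p x
  show (B.φ p L).app 𝒱 (Eζ.ε 𝒱 L p x) =
    ((Coh.Rpush ξ p).map ((pullbackComp f g).hom.app L)).app (φ ⁻¹ᵁ (ψ ⁻¹ᵁ 𝒱))
      ((B₁.φ p ((Scheme.Modules.pullback g).obj L)).app (ψ ⁻¹ᵁ 𝒱)
        ((B₂.φ p L).app 𝒱 (Eζ.ε 𝒱 L p x)))
  refine c.trans ?_
  refine Eq.trans ?_ (congrArg (fun z =>
    ((Coh.Rpush ξ p).map ((pullbackComp f g).hom.app L)).app (φ ⁻¹ᵁ (ψ ⁻¹ᵁ 𝒱))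
      ((B₁.φ p ((Scheme.Modules.pullback g).obj L)).app (ψ ⁻¹ᵁ 𝒱) z)) c₂.symm)
  refine Eq.trans ?_ (congrArg (fun z =>
    ((Coh.Rpush ξ p).map ((pullbackComp f g).hom.app L)).app (φ ⁻¹ᵁ (ψ ⁻¹ᵁ 𝒱)) z) c₁.symm)
  refine Eq.trans ?_ n
  exact congrArg (fun z => Eξ.ε (φ ⁻¹ᵁ (ψ ⁻¹ᵁ 𝒱)) ((Scheme.Modules.pullback (f ≫ g)).obj L) p z) k

/-- horizontal composition of the pinned base change maps -/
theorem bc_hcomp (L : Z.Modules) (p : ℕ) :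
    (pullbackComp φ ψ).hom.app ((Coh.Rpush ζ p).obj L) ≫ B.bc p L =
      (Scheme.Modules.pullback φ).map (B₂.bc p L) ≫ B₁.bc p ((Scheme.Modules.pullback g).obj L) ≫
        (Coh.Rpush ξ p).map ((pullbackComp f g).hom.app L) := by
  apply ((pullbackPushforwardAdjunction φ).homEquiv _ _).injective
  apply ((pullbackPushforwardAdjunction ψ).homEquiv _ _).injective
  refine (BCComp_helper7.flat_lhs (pullbackPushforwardAdjunction φ)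
    (pullbackPushforwardAdjunction ψ) (pullbackPushforwardAdjunction (φ ≫ ψ))
    (pullbackComp φ ψ) (pushforwardComp φ ψ) (BCComp_helper7.Hp_concrete φ ψ) (B.φ p L)).trans ?_
  refine Eq.trans ?_ (BCComp_helper7.flat_rhs (pullbackPushforwardAdjunction φ)
    (pullbackPushforwardAdjunction ψ) (B₂.φ p L) (B₁.φ p ((Scheme.Modules.pullback g).obj L))
    ((Coh.Rpush ξ p).map ((pullbackComp f g).hom.app L))).symm
  exact φ_hcomp f g ξ η ζ φ ψ w₁ w₂ hw Eζ Eη Eξ B₂ B₁ B L p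

end HComp

end Groth.Agent.Lib.GenBCH2
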