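import Mathlib
import Groth.Prelude

/-!
# Limits of adic systems of modules (helper2)

`Y : ℕᵒᵖ ⥤ ModuleCat A` an inverse system with surjective transition maps `Y_{n+1} → Y_n` whose
kernels are `I^{n+1} Y_{n+1}`, and `I^{n+1} Y_n = 0`; `I` finitely generated.  Then the limit
`L = lim Y_n` (`Lsub Y`, the compatible families) satisfies `Ker (L → Y_l) = I^{l+1} L`
(`mem_smul_top_of_apply_eq_zero`; Stacks 09B8).
APPEND-ONLY once landed.
-/

set_option autoImplicit false
universe u
open CategoryTheory CategoryTheory.Limits Opposite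

namespace Groth.Agent.Lib.AdicSysH2

variable {A : Type u} [CommRing A]

section Basic

theorem map_mem_smul_top {M N : Type u} [AddCommGroup M] [Module A M] [AddCommGroup N]
    [Module A N] (K : Ideal A) (f : M →ₗ[A] N) {x : M} (hx : x ∈ K • (⊤ : Submodule A M)) :
    f x ∈ K • (⊤ : Submodule A N) := by
  have h2 : f x ∈ Submodule.map f (K • (⊤ : Submodule A M)) := ⟨x, hx, rfl⟩
  rw [Submodule.map_smul''] at h2
  exact Submodule.smul_mono le_rfl le_top h2

theorem exists_sum_of_mem_span_smul {M : Type u} [AddCommGroup M] [Module A M] {ι : Type u}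
    [Fintype ι] (g : ι → A) (P : Submodule A M) (x : M)
    (hx : x ∈ Ideal.span (Set.range g) • P) :
    ∃ v : ι → M, (∀ j, v j ∈ P) ∧ x = ∑ j, g j • v j := by
  refine Submodule.smul_induction_on hx (fun r hr p hp => ?_) (fun y z hy hz => ?_)
  · obtain ⟨c, rfl⟩ := (Ideal.mem_span_range_iff_exists_fun).mp hr
    refine ⟨fun j => c j • p, fun j => P.smul_mem _ hp, ?_⟩
    rw [Finset.sum_smul]
    refine Finset.sum_congr rfl (fun j _ => ?_)
    rw [smul_smul, mul_comm]
  · obtain ⟨v, hv, e⟩ := hy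
    obtain ⟨v', hv', e'⟩ := hz
    refine ⟨fun j => v j + v' j, fun j => P.add_mem (hv j) (hv' j), ?_⟩
    rw [e, e', ← Finset.sum_add_distrib]
    refine Finset.sum_congr rfl (fun j _ => ?_)
    rw [smul_add]

end Basic

section Sys

variable (Y : ARSys.PS (ModuleCat.{u} A))

/-- the transition maps, as linear maps -/
abbrev T {n k : ℕ} (h : n ≤ k) : Y.obj (op k) →ₗ[A] Y.obj (op n) := (ARSys.tr Y h).hom

theorem T_T {n k l : ℕ} (h1 : n ≤ k) (h2 : k ≤ l) (x : Y.obj (op l)) :
    T Y h1 (T Y h2 x) = T Y (h1.trans h2) x := by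
  have h : ARSys.tr Y h2 ≫ ARSys.tr Y h1 = ARSys.tr Y (h1.trans h2) :=
    (Y.map_comp _ _).symm.trans (congrArg Y.map (Subsingleton.elim _ _))
  exact congrArg (fun f : Y.obj (op l) ⟶ Y.obj (op n) => f.hom x) h

theorem T_refl (n : ℕ) (x : Y.obj (op n)) : T Y (le_refl n) x = x := by
  have h : ARSys.tr Y (le_refl n) = 𝟙 _ := by
    show Y.map (homOfLE (le_refl n)).op = 𝟙 _
    have h0 : (homOfLE (le_refl n)).op = 𝟙 (op n) := rfl
    rw [h0, Y.map_id]
  exact congrArg (fun f : Y.obj (op n) ⟶ Y.obj (op n) => f.hom x) h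

/-- the limit: compatible families -/
def Lsub : Submodule A (∀ n, Y.obj (op n)) where
  carrier := {y | ∀ (n k : ℕ) (h : n ≤ k), T Y h (y k) = y n}
  add_mem' := by
    intro y y' hy hy' n k h
    show T Y h (y k + y' k) = y n + y' n
    rw [map_add, hy n k h, hy' n k h]
  zero_mem' := by
    intro n k h
    show T Y h 0 = 0
    rw [map_zero]
  smul_mem' := by
    intro a y hy n k h
    show T Y h (a • y k) = a • y n
    rw [map_smul, hy n k h]

theorem mem_Lsub_of_succ (y : ∀ n, Y.obj (op n))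
    (hy : ∀ n, T Y (Nat.le_succ n) (y (n + 1)) = y n) : y ∈ Lsub Y := by
  intro n k h
  induction k, h using Nat.le_induction with
  | base => exact T_refl Y n _
  | succ k h ih => rw [← T_T Y h (Nat.le_succ k), hy k, ih]

/-- the projections -/
def πL (n : ℕ) : Lsub Y →ₗ[A] Y.obj (op n) := (LinearMap.proj n).comp (Lsub Y).subtype

theorem πL_apply (n : ℕ) (y : Lsub Y) : πL Y n y = y.1 n := rfl

theorem T_πL {n k : ℕ} (h : n ≤ k) (y : Lsub Y) : T Y h (πL Y k y) = πL Y n y := y.2 n k h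

theorem Lsub_ext (y y' : Lsub Y) (h : ∀ n, πL Y n y = πL Y n y') : y = y' :=
  Subtype.ext (funext h)

variable (hS : ∀ n, Function.Surjective (T Y (Nat.le_succ n)))

include hS in
theorem πL_surjective (n : ℕ) : Function.Surjective (πL Y n) := by
  intro v
  classical
  let w : ∀ m, Y.obj (op m) := fun m =>
    Nat.rec (motive := fun m => Y.obj (op m)) (T Y (Nat.zero_le n) v)
      (fun m wm => if h : m + 1 ≤ n then T Y h v else Function.surjInv (hS m) wm) m
  have hw0 : w 0 = T Y (Nat.zero_le n) v := rfl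
  have hws : ∀ m, w (m + 1) =
      if h : m + 1 ≤ n then T Y h v else Function.surjInv (hS m) (w m) := fun m => rfl
  have hA : ∀ m (h : m ≤ n), w m = T Y h v := by
    intro m h
    cases m with
    | zero => exact hw0
    | succ m => rw [hws, dif_pos h]
  have hB : ∀ m, T Y (Nat.le_succ m) (w (m + 1)) = w m := by
    intro m
    by_cases h : m + 1 ≤ n
    · rw [hws, dif_pos h, hA m (Nat.le_of_succ_le h), T_T]
    · rw [hws, dif_neg h]
      exact Function.surjInv_eq (hS m) _
  refine ⟨⟨w, mem_Lsub_of_succ Y w hB⟩, ?_⟩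
  show w n = v
  rw [hA n le_rfl, T_refl]

variable (I : Ideal A)
  (hK : ∀ n, LinearMap.ker (T Y (Nat.le_succ n)) ≤
    I ^ (n + 1) • (⊤ : Submodule A (Y.obj (op n.succ))))
  (hZ : ∀ n, I ^ (n + 1) • (⊤ : Submodule A (Y.obj (op n))) = ⊥)

include hZ in
theorem πL_eq_zero_of_mem_smul_top {p n : ℕ} (hnp : n + 1 ≤ p) (y : Lsub Y)
    (hy : y ∈ I ^ p • (⊤ : Submodule A (Lsub Y))) : πL Y n y = 0 := by
  have h1 : πL Y n y ∈ I ^ p • (⊤ : Submodule A (Y.obj (op n))) :=
    map_mem_smul_top (I ^ p) (πL Y n) hy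
  have h2 : I ^ p • (⊤ : Submodule A (Y.obj (op n))) ≤ I ^ (n + 1) • ⊤ :=
    Submodule.smul_mono (Ideal.pow_le_pow_right hnp) le_rfl
  have h3 := h2 h1
  rw [hZ n] at h3
  exact (Submodule.mem_bot A).mp h3

include hS hK in
theorem exists_step {ι : Type u} [Fintype ι] (g : ι → A) (l : ℕ)
    (hg : Ideal.span (Set.range g) = I ^ (l + 1)) (p : ℕ) (x : Lsub Y)
    (hx : πL Y (l + p) x = 0) :
    ∃ w : ι → Lsub Y, (∀ j, w j ∈ I ^ p • (⊤ : Submodule A (Lsub Y))) ∧
      πL Y (l + p + 1) (x - ∑ j, g j • w j) = 0 := by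
  have h1 : πL Y (l + p + 1) x ∈ LinearMap.ker (T Y (Nat.le_succ (l + p))) := by
    rw [LinearMap.mem_ker, T_πL, hx]
  have h2 := hK (l + p) h1
  have e : I ^ (l + p + 1) = I ^ (l + 1) * I ^ p := by
    rw [← pow_add]
    congr 1
    omega
  rw [e, mul_smul, ← hg] at h2
  obtain ⟨v, hv, hxv⟩ := exists_sum_of_mem_span_smul g _ _ h2
  have h3 : ∀ j, ∃ w : Lsub Y, w ∈ I ^ p • (⊤ : Submodule A (Lsub Y)) ∧
      πL Y (l + p + 1) w = v j := by
    intro j
    have h4 : v j ∈ Submodule.map (πL Y (l + p + 1)) (I ^ p • (⊤ : Submodule A (Lsub Y))) := by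
      rw [Submodule.map_smul'', Submodule.map_top,
        LinearMap.range_eq_top.mpr (πL_surjective Y hS _)]
      exact hv j
    obtain ⟨w, hw, e⟩ := h4
    exact ⟨w, hw, e⟩
  choose w hw1 hw2 using h3
  refine ⟨w, hw1, ?_⟩
  rw [map_sub, map_sum, hxv, sub_eq_zero]
  refine Finset.sum_congr rfl (fun j _ => ?_)
  rw [map_smul, hw2]

include hS hK hZ in
/-- **Stacks 09B8**: the kernel of `L → Y_l` is `I^{l+1} L` -/
theorem mem_smul_top_of_apply_eq_zero (hI : I.FG) (l : ℕ) (x : Lsub Y)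
    (hx : πL Y l x = 0) : x ∈ I ^ (l + 1) • (⊤ : Submodule A (Lsub Y)) := by
  classical
  obtain ⟨s, hs⟩ := Ideal.FG.pow (n := l + 1) hI
  let g : (↥(s : Set A)) → A := Subtype.val
  have hg : Ideal.span (Set.range g) = I ^ (l + 1) := by
    rw [Subtype.range_coe]
    exact hs
  have hstep := exists_step Y hS I hK g l hg
  choose W hW1 hW2 using hstep
  let st : ∀ p, {y : Lsub Y // πL Y (l + p) y = 0} := fun p =>
    Nat.rec (motive := fun p => {y : Lsub Y // πL Y (l + p) y = 0}) ⟨x, hx⟩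
      (fun p y => ⟨y.1 - ∑ j, g j • W p y.1 y.2 j, hW2 p y.1 y.2⟩) p
  have hst0 : (st 0).1 = x := rfl
  let w : ℕ → ↥(s : Set A) → Lsub Y := fun p j => W p (st p).1 (st p).2 j
  have hsts : ∀ p, (st (p + 1)).1 = (st p).1 - ∑ j, g j • w p j := fun p => rfl
  have hw : ∀ p j, w p j ∈ I ^ p • (⊤ : Submodule A (Lsub Y)) := fun p j =>
    hW1 p (st p).1 (st p).2 j
  let S : ℕ → ↥(s : Set A) → Lsub Y := fun q j => ∑ p ∈ Finset.range q, w p j
  have hSs : ∀ q j, S (q + 1) j = S q j + w q j := fun q j => Finset.sum_range_succ _ q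
  have hinv : ∀ q, (st q).1 = x - ∑ j, g j • S q j := by
    intro q
    induction q with
    | zero =>
      rw [hst0]
      have : ∀ j, S 0 j = 0 := fun j => Finset.sum_range_zero _
      simp only [this, smul_zero, Finset.sum_const_zero, sub_zero]
    | succ q ih =>
      rw [hsts, ih, sub_sub, ← Finset.sum_add_distrib]
      congr 1
      refine Finset.sum_congr rfl (fun j _ => ?_)
      rw [hSs, smul_add]
  let z : ↥(s : Set A) → ∀ n, Y.obj (op n) := fun j n => πL Y n (S (n + 1) j)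
  have hstab : ∀ j n q, n + 1 ≤ q → πL Y n (S q j) = z j n := by
    intro j n q hq
    induction q, hq using Nat.le_induction with
    | base => rfl
    | succ q hq ih =>
      rw [hSs, map_add, ih, πL_eq_zero_of_mem_smul_top Y I hZ hq (w q j) (hw q j), add_zero]
  have hz : ∀ j, z j ∈ Lsub Y := by
    intro j
    refine mem_Lsub_of_succ Y (z j) (fun n => ?_)
    show T Y (Nat.le_succ n) (πL Y (n + 1) (S (n + 1 + 1) j)) = z j n
    rw [T_πL]
    exact hstab j n (n + 1 + 1) (Nat.le_succ _)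
  have hfinal : x = ∑ j, g j • (⟨z j, hz j⟩ : Lsub Y) := by
    apply Lsub_ext
    intro n
    have h1 : πL Y n (st (n + 1)).1 = 0 := by
      have hle : n ≤ l + (n + 1) := by omega
      rw [← T_πL Y hle, (st (n + 1)).2, map_zero]
    rw [hinv (n + 1), map_sub, sub_eq_zero] at h1
    rw [h1, map_sum, map_sum]
    refine Finset.sum_congr rfl (fun j _ => ?_)
    rw [map_smul, map_smul]
    rfl
  rw [hfinal]
  refine Submodule.sum_mem _ (fun j _ => ?_)
  refine Submodule.smul_mem_smul ?_ Submodule.mem_top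
  rw [← hg]
  exact Ideal.subset_span ⟨j, rfl⟩

end Sys

end Groth.Agent.Lib.AdicSysH2
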