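import Mathlib.Topology.Constructible
import Mathlib.Topology.Sober
import Mathlib.Topology.NoetherianSpace
import Mathlib.Topology.Sets.Closeds

/-!
# Constructible sets and generic points (lead)
-/

universe u

namespace Groth.Agent.Lib.Constr_lead

open Topology TopologicalSpace

variable {X : Type u} [TopologicalSpace X]

/-- A constructible set either contains or misses a neighbourhood of the generic point in an
irreducible closed set. -/
theorem exists_open_generic_of_isConstructible {E : Set X} (hE : IsConstructible E) {Z : Set X}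
    {ξ : X} (hξ : IsGenericPoint ξ Z) :
    ∃ U : Set X, IsOpen U ∧ ξ ∈ U ∧ (U ∩ Z ⊆ E ∨ U ∩ Z ⊆ Eᶜ) := by
  induction hE using IsConstructible.empty_union_induction with
  | open_retrocompact U hU _ =>
    by_cases h : ξ ∈ U
    · exact ⟨U, hU, h, Or.inl Set.inter_subset_left⟩
    · refine ⟨Set.univ, isOpen_univ, trivial, Or.inr ?_⟩
      rintro z ⟨-, hz⟩ hzU
      exact h ((hξ.mem_open_set_iff hU).2 ⟨z, hz, hzU⟩)
  | union s hs t ht ihs iht =>
    obtain ⟨U, hU, hξU, h1⟩ := ihs
    obtain ⟨V, hV, hξV, h2⟩ := iht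
    refine ⟨U ∩ V, hU.inter hV, ⟨hξU, hξV⟩, ?_⟩
    rcases h1 with h1 | h1
    · left; exact fun z hz => Or.inl (h1 ⟨hz.1.1, hz.2⟩)
    · rcases h2 with h2 | h2
      · left; exact fun z hz => Or.inr (h2 ⟨hz.1.2, hz.2⟩)
      · right
        intro z hz hzst
        rcases hzst with h | h
        · exact h1 ⟨hz.1.1, hz.2⟩ h
        · exact h2 ⟨hz.1.2, hz.2⟩ h
  | compl s hs ih =>
    obtain ⟨U, hU, hξU, h1⟩ := ih
    refine ⟨U, hU, hξU, ?_⟩
    rcases h1 with h1 | h1
    · right; rwa [compl_compl]
    · left; exact h1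

/-- In a Noetherian sober space, a constructible set stable under specialization is closed. -/
theorem isClosed_of_isConstructible_of_stableUnderSpecialization [NoetherianSpace X] [QuasiSober X]
    {E : Set X} (hE : IsConstructible E) (hs : StableUnderSpecialization E) : IsClosed E := by
  suffices h : ∀ Z : Closeds X, IsClosed (E ∩ (Z : Set X)) by simpa using h ⊤
  intro Z
  induction Z using WellFoundedLT.induction with
  | ind Z ih =>
  by_cases hZ : IsIrreducible (Z : Set X)
  · obtain ⟨ξ, hξ⟩ := QuasiSober.sober hZ Z.isClosed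
    obtain ⟨U, hU, hξU, h⟩ := exists_open_generic_of_isConstructible hE hξ
    rcases h with h | h
    · have hsub : (Z : Set X) ⊆ E := fun z hz => hs (hξ.specializes hz) (h ⟨hξU, hξ.mem⟩)
      rw [Set.inter_eq_right.2 hsub]; exact Z.isClosed
    · have hcl : IsClosed ((Z : Set X) \ U) := Z.isClosed.sdiff hU
      have hlt : (⟨(Z : Set X) \ U, hcl⟩ : Closeds X) < Z := by
        refine lt_of_le_of_ne (fun z hz => hz.1) ?_
        intro heq
        have : ξ ∈ ((⟨(Z : Set X) \ U, hcl⟩ : Closeds X) : Set X) := by rw [heq]; exact hξ.mem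
        exact this.2 hξU
      have hih := ih _ hlt
      have heq : E ∩ (Z : Set X) = E ∩ ((Z : Set X) \ U) := by
        ext z
        constructor
        · rintro ⟨hzE, hzZ⟩; exact ⟨hzE, hzZ, fun hzU => h ⟨hzU, hzZ⟩ hzE⟩
        · rintro ⟨hzE, hzZ, -⟩; exact ⟨hzE, hzZ⟩
      rw [heq]; exact hih
  · by_cases hne : (Z : Set X).Nonempty
    · have hnp : ¬ IsPreirreducible (Z : Set X) := fun h => hZ ⟨hne, h⟩
      rw [isPreirreducible_iff_isClosed_union_isClosed] at hnp
      push Not at hnp
      obtain ⟨z₁, z₂, h1, h2, hsub, hn1, hn2⟩ := hnp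
      have hlt1 : (⟨(Z : Set X) ∩ z₁, Z.isClosed.inter h1⟩ : Closeds X) < Z := by
        refine lt_of_le_of_ne (fun z hz => hz.1) ?_
        intro heq
        apply hn1
        intro z hz
        have : z ∈ ((⟨(Z : Set X) ∩ z₁, Z.isClosed.inter h1⟩ : Closeds X) : Set X) := by
          rw [heq]; exact hz
        exact this.2
      have hlt2 : (⟨(Z : Set X) ∩ z₂, Z.isClosed.inter h2⟩ : Closeds X) < Z := by
        refine lt_of_le_of_ne (fun z hz => hz.1) ?_
        intro heq
        apply hn2
        intro z hz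
        have : z ∈ ((⟨(Z : Set X) ∩ z₂, Z.isClosed.inter h2⟩ : Closeds X) : Set X) := by
          rw [heq]; exact hz
        exact this.2
      have heq : E ∩ (Z : Set X) = (E ∩ ((Z : Set X) ∩ z₁)) ∪ (E ∩ ((Z : Set X) ∩ z₂)) := by
        ext z
        constructor
        · rintro ⟨hzE, hzZ⟩
          rcases hsub hzZ with h | h
          · exact Or.inl ⟨hzE, hzZ, h⟩
          · exact Or.inr ⟨hzE, hzZ, h⟩
        · rintro (⟨hzE, hzZ, -⟩ | ⟨hzE, hzZ, -⟩) <;> exact ⟨hzE, hzZ⟩
      rw [heq]
      exact (ih _ hlt1).union (ih _ hlt2)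
    · rw [Set.not_nonempty_iff_eq_empty] at hne
      rw [hne, Set.inter_empty]; exact isClosed_empty

theorem isOpen_of_isConstructible_of_stableUnderGeneralization [NoetherianSpace X] [QuasiSober X]
    {E : Set X} (hE : IsConstructible E) (hs : StableUnderGeneralization E) : IsOpen E := by
  rw [← isClosed_compl_iff]
  exact isClosed_of_isConstructible_of_stableUnderSpecialization hE.compl hs.compl

end Groth.Agent.Lib.Constr_lead
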