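import Mathlib
import Groth.Prelude.Def_EGA4Misc
import Groth.Agent.Lib.Constr_lead
import Groth.Agent.Lib.CohDev6_helper8

/-!
# Constructible properties of algebraic schemes, I (helper7)

* `isConstructible_of_forall_generic`: the Noetherian criterion for constructibility.
* `isNoetherian_of_subsingleton`: an integral scheme with one point is Noetherian.
* `isPullback_fiberMap`, `locus_baseChange`: fibres and base change.
* `isConstructible_locus`: the locus of a constructible property is constructible over a
  Noetherian base.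
* `main5884`.
-/

set_option autoImplicit false
set_option linter.style.haveILetI false
set_option linter.unusedVariables false
universe u
open CategoryTheory CategoryTheory.Limits AlgebraicGeometry TopologicalSpace Topology

namespace Groth.Agent.Lib.ConsPropH7

section Top

variable {X : Type*} [TopologicalSpace X]

theorem isConstructible_of_isOpen_noeth [NoetherianSpace X] {U : Set X} (hU : IsOpen U) :
    IsConstructible U :=
  IsRetrocompact.isConstructible hU (fun V _ _ => NoetherianSpace.isCompact _)

theorem isConstructible_of_isClosed_noeth [NoetherianSpace X] {Z : Set X} (hZ : IsClosed Z) :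
    IsConstructible Z := by
  have := (isConstructible_of_isOpen_noeth hZ.isOpen_compl).compl
  rwa [compl_compl] at this

/-- A subset of a Noetherian sober space which, on every irreducible closed subset, contains or
misses a neighbourhood of the generic point, is constructible. -/
theorem isConstructible_of_forall_generic [NoetherianSpace X] [QuasiSober X] {E : Set X}
    (h : ∀ ξ : X, ∃ U : Set X, IsOpen U ∧ ξ ∈ U ∧
      (U ∩ closure {ξ} ⊆ E ∨ U ∩ closure {ξ} ⊆ Eᶜ)) :
    IsConstructible E := by
  suffices h' : ∀ Z : Closeds X, IsConstructible (E ∩ (Z : Set X)) by simpa using h' ⊤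
  intro Z
  induction Z using WellFoundedLT.induction with
  | ind Z ih =>
  by_cases hZ : IsIrreducible (Z : Set X)
  · obtain ⟨ξ, hξ⟩ := QuasiSober.sober hZ Z.isClosed
    obtain ⟨U, hU, hξU, hcase⟩ := h ξ
    have hcl : closure {ξ} = (Z : Set X) := hξ.def
    rw [hcl] at hcase
    have hclo : IsClosed ((Z : Set X) \ U) := Z.isClosed.sdiff hU
    have hlt : (⟨(Z : Set X) \ U, hclo⟩ : Closeds X) < Z := by
      refine lt_of_le_of_ne (fun z hz => hz.1) ?_
      intro heq
      have : ξ ∈ ((⟨(Z : Set X) \ U, hclo⟩ : Closeds X) : Set X) := by rw [heq]; exact hξ.mem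
      exact this.2 hξU
    have hih := ih _ hlt
    have hZU : IsConstructible (U ∩ (Z : Set X)) :=
      (isConstructible_of_isOpen_noeth hU).inter (isConstructible_of_isClosed_noeth Z.isClosed)
    rcases hcase with h1 | h1
    · have heq : E ∩ (Z : Set X) = (E ∩ ((Z : Set X) \ U)) ∪ (U ∩ (Z : Set X)) := by
        ext z
        constructor
        · rintro ⟨hzE, hzZ⟩
          by_cases hzU : z ∈ U
          · exact Or.inr ⟨hzU, hzZ⟩
          · exact Or.inl ⟨hzE, hzZ, hzU⟩
        · rintro (⟨hzE, hzZ, -⟩ | ⟨hzU, hzZ⟩)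
          · exact ⟨hzE, hzZ⟩
          · exact ⟨h1 ⟨hzU, hzZ⟩, hzZ⟩
      rw [heq]
      exact hih.union hZU
    · have heq : E ∩ (Z : Set X) = E ∩ ((Z : Set X) \ U) := by
        ext z
        constructor
        · rintro ⟨hzE, hzZ⟩
          exact ⟨hzE, hzZ, fun hzU => h1 ⟨hzU, hzZ⟩ hzE⟩
        · rintro ⟨hzE, hzZ, -⟩
          exact ⟨hzE, hzZ⟩
      rw [heq]
      exact hih
  · by_cases hne : (Z : Set X).Nonempty
    · have hnp : ¬ IsPreirreducible (Z : Set X) := fun h => hZ ⟨hne, h⟩
      rw [isPreirreducible_iff_isClosed_union_isClosed] at hnp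
      push Not at hnp
      obtain ⟨z₁, z₂, h1, h2, hsub, hn1, hn2⟩ := hnp
      have hlt1 : (⟨(Z : Set X) ∩ z₁, Z.isClosed.inter h1⟩ : Closeds X) < Z := by
        refine lt_of_le_of_ne (fun z hz => hz.1) ?_
        intro heq
        apply hn1
        intro z hz
        have : z ∈ ((⟨(Z : Set X) ∩ z₁, Z.isClosed.inter h1⟩ : Closeds X) : Set X) := by
          rw [heq]; exact hz
        exact this.2
      have hlt2 : (⟨(Z : Set X) ∩ z₂, Z.isClosed.inter h2⟩ : Closeds X) < Z := by
        refine lt_of_le_of_ne (fun z hz => hz.1) ?_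
        intro heq
        apply hn2
        intro z hz
        have : z ∈ ((⟨(Z : Set X) ∩ z₂, Z.isClosed.inter h2⟩ : Closeds X) : Set X) := by
          rw [heq]; exact hz
        exact this.2
      have heq : E ∩ (Z : Set X) = (E ∩ ((Z : Set X) ∩ z₁)) ∪ (E ∩ ((Z : Set X) ∩ z₂)) := by
        ext z
        constructor
        · rintro ⟨hzE, hzZ⟩
          rcases hsub hzZ with h | h
          · exact Or.inl ⟨hzE, hzZ, h⟩
          · exact Or.inr ⟨hzE, hzZ, h⟩
        · rintro (⟨hzE, hzZ, -⟩ | ⟨hzE, hzZ, -⟩) <;> exact ⟨hzE, hzZ⟩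
      rw [heq]
      exact (ih _ hlt1).union (ih _ hlt2)
    · rw [Set.not_nonempty_iff_eq_empty] at hne
      rw [hne, Set.inter_empty]
      exact IsConstructible.empty

end Top

section OnePoint

theorem isNoetherianRing_of_subsingleton_primeSpectrum (R : Type*) [CommRing R] [IsDomain R]
    [Subsingleton (PrimeSpectrum R)] : IsNoetherianRing R := by
  have hf : IsField R := by
    by_contra hnf
    obtain ⟨p, hp0, hp⟩ := Ring.not_isField_iff_exists_prime.mp hnf
    have : (⟨p, hp⟩ : PrimeSpectrum R) = ⟨⊥, Ideal.isPrime_bot⟩ := Subsingleton.elim _ _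
    exact hp0 (congrArg PrimeSpectrum.asIdeal this)
  letI := hf.toField
  infer_instance

theorem isAffine_of_subsingleton (T : Scheme.{u}) [Nonempty T] [Subsingleton T] : IsAffine T := by
  obtain ⟨t⟩ := ‹Nonempty T›
  obtain ⟨_, ⟨U, hU, rfl⟩, htU, -⟩ :=
    T.isBasis_affineOpens.exists_subset_of_mem_open (Set.mem_univ t) isOpen_univ
  have hUtop : U = ⊤ := by
    apply SetLike.coe_injective
    ext x
    simp only [Opens.coe_top, Set.mem_univ, iff_true]
    rw [Subsingleton.elim x t]
    exact htU
  subst hUtop
  have hU' : IsAffineOpen (⊤ : T.Opens) := hU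
  haveI : IsAffine ((⊤ : T.Opens) : Scheme.{u}) := hU'
  exact IsAffine.of_isIso (T.topIso).inv

/-- An integral scheme with a single point is Noetherian. -/
theorem isNoetherian_of_subsingleton (T : Scheme.{u}) [IsIntegral T] [Subsingleton T] :
    IsNoetherian T := by
  haveI : IsAffine T := isAffine_of_subsingleton T
  haveI : Subsingleton (PrimeSpectrum Γ(T, ⊤)) :=
    (T.isoSpec.hom.homeomorph).symm.injective.subsingleton
  haveI : IsNoetherianRing Γ(T, ⊤) := isNoetherianRing_of_subsingleton_primeSpectrum _
  haveI : IsLocallyNoetherian (Spec Γ(T, ⊤)) := inferInstance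
  haveI : IsLocallyNoetherian T := isLocallyNoetherian_of_isOpenImmersion T.isoSpec.hom
  exact {}

instance subsingleton_spec_residueField (S : Scheme.{u}) (s : S) :
    Subsingleton ↥(Spec (S.residueField s)) :=
  inferInstanceAs (Subsingleton (PrimeSpectrum (S.residueField s)))

end OnePoint

section Fib

theorem isPullback_fiberMap {X Y S : Scheme.{u}} (f : X ⟶ Y) (g : Y ⟶ S) (s : S) :
    IsPullback ((f ≫ g).fiberι s) (MoreMor.fiberMap f g s) f (g.fiberι s) := by
  refine IsPullback.of_bot ?_ ?_ (IsPullback.of_hasPullback g (S.fromSpecResidueField s))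
  · have h1 : MoreMor.fiberMap f g s ≫ pullback.snd g (S.fromSpecResidueField s) =
        (f ≫ g).fiberToSpecResidueField s := pullback.lift_snd _ _ _
    rw [h1]
    exact IsPullback.of_hasPullback (f ≫ g) (S.fromSpecResidueField s)
  · exact (pullback.lift_fst _ _ _).symm

/-- The locus of a field-stable property commutes with base change. -/
theorem locus_baseChange {P : ∀ ⦃Y T : Scheme.{u}⦄, (Y ⟶ T) → Prop}
    (hP : ConsProp.IsFieldStable P) {X S X' S' : Scheme.{u}} (u : X ⟶ S)
    [LocallyOfFiniteType u] [QuasiCompact u] (h : S' ⟶ S) (e : X' ⟶ X) (u' : X' ⟶ S')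
    (sq : IsPullback e u' u h) (s' : S') :
    P (u'.fiberToSpecResidueField s') ↔ P (u.fiberToSpecResidueField (h s')) := by
  have sqF := isPullback_fiberToSpecResidueField_of_isPullback sq s'
  haveI : LocallyOfFiniteType (u.fiberToSpecResidueField (h s')) :=
    MorphismProperty.pullback_snd _ _ inferInstance
  haveI : QuasiCompact (u.fiberToSpecResidueField (h s')) :=
    MorphismProperty.pullback_snd _ _ inferInstance
  exact (hP (u.fiberToSpecResidueField (h s')) (u'.fiberToSpecResidueField s') _ _ sqF).symm

/-- Over a Noetherian base, the locus of a constructible property is constructible. -/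
theorem isConstructible_locus {P : ∀ ⦃Y T : Scheme.{u}⦄, (Y ⟶ T) → Prop}
    (hP : ConsProp.IsCons P) {X S : Scheme.{u}} (u : X ⟶ S) [IsNoetherian S]
    [LocallyOfFiniteType u] [QuasiCompact u] : IsConstructible (ConsProp.locus P u) := by
  apply isConstructible_of_forall_generic
  intro ξ
  obtain ⟨I, hI⟩ : ∃ I : S.IdealSheafData,
      I = Scheme.IdealSheafData.vanishingIdeal ⟨closure {ξ}, isClosed_closure⟩ := ⟨_, rfl⟩
  obtain ⟨hint, hgen⟩ : ∃ (_ : IsIntegral I.subscheme),
      I.subschemeι (genericPoint I.subscheme) = ξ := by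
    subst hI
    exact CohDevH8.exists_isIntegral_subscheme (closure {ξ}) isClosed_closure ξ rfl
  haveI := hint
  haveI : IsLocallyNoetherian I.subscheme := LocallyOfFiniteType.isLocallyNoetherian I.subschemeι
  haveI : CompactSpace I.subscheme := QuasiCompact.compactSpace_of_compactSpace I.subschemeι
  haveI : IsNoetherian I.subscheme := {}
  have hrange : Set.range I.subschemeι = closure {ξ} := by
    rw [Scheme.IdealSheafData.range_subschemeι, hI]
    exact Scheme.IdealSheafData.coe_support_vanishingIdeal _
  have hloc : ∀ t : I.subscheme, t ∈ ConsProp.locus P (pullback.snd u I.subschemeι) ↔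
      I.subschemeι t ∈ ConsProp.locus P u :=
    fun t => locus_baseChange hP.1 u I.subschemeι (pullback.fst _ _) (pullback.snd _ _)
      (IsPullback.of_hasPullback _ _) t
  have key : ∀ (W : Set I.subscheme) (F : Set S), IsOpen W → W.Nonempty →
      (∀ t ∈ W, I.subschemeι t ∈ F) →
      ∃ U : Set S, IsOpen U ∧ ξ ∈ U ∧ U ∩ closure {ξ} ⊆ F := by
    intro W F hW hWne hWF
    obtain ⟨U, hU, hUW⟩ := I.subschemeι.isClosedEmbedding.isInducing.isOpen_iff.mp hW
    refine ⟨U, hU, ?_, ?_⟩
    · have hη : genericPoint I.subscheme ∈ W :=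
        ((genericPoint_spec _).mem_open_set_iff hW).mpr (by simpa using hWne)
      rw [← hgen]
      have : genericPoint I.subscheme ∈ I.subschemeι ⁻¹' U := by rw [hUW]; exact hη
      exact this
    · rintro z ⟨hzU, hzZ⟩
      rw [← hrange] at hzZ
      obtain ⟨t, rfl⟩ := hzZ
      apply hWF
      rw [← hUW]
      exact hzU
  rcases hP.2 (pullback.snd u I.subschemeι) with h1 | h1
  · obtain ⟨U, hU, hξU, hsub⟩ := key _ (ConsProp.locus P u) isOpen_interior h1
      (fun t ht => (hloc t).mp (interior_subset ht))
    exact ⟨U, hU, hξU, Or.inl hsub⟩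
  · obtain ⟨U, hU, hξU, hsub⟩ := key _ (ConsProp.locus P u)ᶜ isOpen_interior h1
      (fun t ht hcon => interior_subset ht ((hloc t).mpr hcon))
    exact ⟨U, hU, hξU, Or.inr hsub⟩

end Fib

/-- **S5884** -/
theorem main5884 {P : ∀ ⦃Y T : Scheme.{u}⦄, (Y ⟶ T) → Prop} (hP : ConsProp.IsCons P) :
    ConsProp.IsConsMor
      (fun X Y T f g => ∀ y : ↥Y, P (f.fiberToSpecResidueField y)) := by
  refine ⟨?_, ?_⟩
  · intro X X' Y Y' T T' f g f' g' eX eY h _ _ _ _ _ _ _ _ hY hX
    haveI : IsNoetherian T := isNoetherian_of_subsingleton T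
    haveI : IsLocallyNoetherian Y := LocallyOfFiniteType.isLocallyNoetherian g
    haveI : QuasiSeparated g := QuasiSeparated.of_quasiSeparatedSpace g
    haveI : LocallyOfFiniteType f := locallyOfFiniteType_of_comp f g
    haveI : QuasiCompact f := QuasiCompact.of_comp f g
    haveI : Surjective h := ⟨fun t => ⟨Classical.arbitrary _, Subsingleton.elim _ _⟩⟩
    haveI : Surjective eY := MorphismProperty.of_isPullback hY.flip inferInstance
    have key : ∀ y' : Y', P (f'.fiberToSpecResidueField y') ↔
        P (f.fiberToSpecResidueField (eY y')) :=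
      fun y' => locus_baseChange hP.1 f eY eX f' hX y'
    constructor
    · intro H y'
      exact (key y').mpr (H _)
    · intro H y
      obtain ⟨y', rfl⟩ := eY.surjective y
      exact (key y').mp (H y')
  · intro X Y S f g _ _ _ _ _ _
    haveI : IsLocallyNoetherian Y := LocallyOfFiniteType.isLocallyNoetherian g
    haveI : CompactSpace Y := QuasiCompact.compactSpace_of_compactSpace g
    haveI : IsNoetherian Y := {}
    haveI : QuasiSeparated g := QuasiSeparated.of_quasiSeparatedSpace g
    haveI : LocallyOfFiniteType f := locallyOfFiniteType_of_comp f g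
    haveI : QuasiCompact f := QuasiCompact.of_comp f g
    have hE : IsConstructible (ConsProp.locus P f) := isConstructible_locus hP f
    have hloc : ConsProp.locusMor
        (fun X Y T f g => ∀ y : ↥Y, P (f.fiberToSpecResidueField y)) f g =
        (g '' (ConsProp.locus P f)ᶜ)ᶜ := by
      ext s
      have key : ∀ y : g.fiber s, P ((MoreMor.fiberMap f g s).fiberToSpecResidueField y) ↔
          P (f.fiberToSpecResidueField (g.fiberι s y)) :=
        fun y => locus_baseChange hP.1 f (g.fiberι s) ((f ≫ g).fiberι s)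
          (MoreMor.fiberMap f g s) (isPullback_fiberMap f g s) y
      constructor
      · intro H
        rintro ⟨y₀, hy₀, rfl⟩
        apply hy₀
        have h1 := (key (g.asFiber y₀)).mp (H (g.asFiber y₀))
        rw [Scheme.Hom.fiberι_asFiber] at h1
        exact h1
      · intro H y
        rw [key y]
        by_contra hcon
        exact H ⟨g.fiberι s y, hcon, Groth.Agent.FibRes2H8.fiberι_mem g s y⟩
    have hc : IsConstructible (ConsProp.locusMor
        (fun X Y T f g => ∀ y : ↥Y, P (f.fiberToSpecResidueField y)) f g) := by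
      rw [hloc]
      exact (g.isConstructible_image hE.compl).compl
    obtain ⟨U, hU, hηU, hcase⟩ :=
      Groth.Agent.Lib.Constr_lead.exists_open_generic_of_isConstructible hc (genericPoint_spec S)
    rcases hcase with h1 | h1
    · left
      exact ⟨genericPoint S, mem_interior.mpr ⟨U, fun s hs => h1 ⟨hs, trivial⟩, hU, hηU⟩⟩
    · right
      exact ⟨genericPoint S, mem_interior.mpr ⟨U, fun s hs => h1 ⟨hs, trivial⟩, hU, hηU⟩⟩

end Groth.Agent.Lib.ConsPropH7
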