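import Mathlib

namespace Groth.Agent.Lib.SpectralT1H8

open Topology TopologicalSpace

variable {X : Type*} [TopologicalSpace X]

theorem compactSpace_constructible [CompactSpace X] [QuasiSober X] [PrespectralSpace X]
    [QuasiSeparatedSpace X] : @CompactSpace X (constructibleTopology X) :=
  @Function.Surjective.compactSpace (WithConstructibleTopology X) X _ (constructibleTopology X)
    WithTopology.ofTopology (WithTopology.continuous_ofTopology _) inferInstance
    (WithTopology.ofTopology_surjective _)

/-- A spectral space in which all points are closed is Hausdorff. -/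
theorem t2Space_of_closed_points [SpectralSpace X] (h : ∀ x : X, IsClosed ({x} : Set X)) :
    T2Space X := by
  refine ⟨fun x y hxy => ?_⟩
  by_contra hcon
  let S : Set (Set X) := {U | IsOpen U ∧ IsCompact U ∧ (x ∈ U ∨ y ∈ U)}
  have hcl : ∀ t ∈ S, IsClosed[constructibleTopology X] t := by
    intro t ht
    rw [← @isOpen_compl_iff X _ (constructibleTopology X)]
    exact IsCompact.isOpen_constructibleTopology_of_isClosed (by simpa using ht.2.1)
      (by simpa using ht.1)
  have hfin : ∀ t ⊆ S, t.Finite → (⋂₀ t).Nonempty := by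
    intro t ht hf
    have hA : IsOpen (⋂₀ {u ∈ t | x ∈ u}) :=
      (hf.subset (fun u hu => hu.1)).isOpen_sInter (fun u hu => (ht hu.1).1)
    have hB : IsOpen (⋂₀ {u ∈ t | x ∉ u}) :=
      (hf.subset (fun u hu => hu.1)).isOpen_sInter (fun u hu => (ht hu.1).1)
    have hxA : x ∈ ⋂₀ {u ∈ t | x ∈ u} := fun u hu => hu.2
    have hyB : y ∈ ⋂₀ {u ∈ t | x ∉ u} := fun u hu => (ht hu.1).2.2.resolve_left hu.2
    have hne : ¬ Disjoint (⋂₀ {u ∈ t | x ∈ u}) (⋂₀ {u ∈ t | x ∉ u}) := fun hd =>
      hcon ⟨_, _, hA, hB, hxA, hyB, hd⟩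
    rw [Set.not_disjoint_iff] at hne
    obtain ⟨z, hzA, hzB⟩ := hne
    refine ⟨z, fun u hu => ?_⟩
    by_cases hxu : x ∈ u
    · exact hzA u ⟨hu, hxu⟩
    · exact hzB u ⟨hu, hxu⟩
  obtain ⟨z, hz⟩ := @CompactSpace.nonempty_sInter X (constructibleTopology X)
    compactSpace_constructible S hcl hfin
  have key : ∀ w : X, (w = x ∨ w = y) → w = z := by
    intro w hw
    have hzw : z ⤳ w := by
      rw [specializes_iff_forall_open]
      intro s hs hws
      obtain ⟨U, ⟨hU1, hU2⟩, hwU, hUs⟩ :=
        PrespectralSpace.isTopologicalBasis.exists_subset_of_mem_open hws hs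
      refine hUs (hz U ⟨hU1, hU2, ?_⟩)
      rcases hw with rfl | rfl
      · exact Or.inl hwU
      · exact Or.inr hwU
    have := hzw.mem_closed (h z) rfl
    exact this
  exact hxy ((key x (Or.inl rfl)).trans (key y (Or.inr rfl)).symm)

/-- A spectral space in which all points are closed is totally disconnected. -/
theorem totallyDisconnectedSpace_of_closed_points [SpectralSpace X]
    (h : ∀ x : X, IsClosed ({x} : Set X)) : TotallyDisconnectedSpace X := by
  haveI := t2Space_of_closed_points h
  infer_instance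

end Groth.Agent.Lib.SpectralT1H8
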