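import Mathlib
import Groth.Agent.Lib.SpectralT1_helper8

namespace Groth.Agent.Lib.ProConsTopH8

open Topology TopologicalSpace Set

variable {X : Type*} [TopologicalSpace X]

/-- The Boolean subalgebra of clopen subsets for a topology. -/
def clopenSub (τ : TopologicalSpace X) : BooleanSubalgebra (Set X) where
  carrier := {s | IsOpen[τ] s ∧ IsClosed[τ] s}
  supClosed' := fun s hs t ht => ⟨@IsOpen.union X s t τ hs.1 ht.1, @IsClosed.union X s t τ hs.2 ht.2⟩
  infClosed' := fun s hs t ht => ⟨@IsOpen.inter X τ s t hs.1 ht.1, @IsClosed.inter X s t τ hs.2 ht.2⟩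
  compl_mem' := fun {s} hs => ⟨(@isOpen_compl_iff X s τ).2 hs.2, (@isClosed_compl_iff X τ s).2 hs.1⟩
  bot_mem' := ⟨@isOpen_empty X τ, @isClosed_empty X τ⟩

theorem isClopen_constructibleTopology [CompactSpace X] {s : Set X} (hs : IsConstructible s) :
    IsOpen[constructibleTopology X] s ∧ IsClosed[constructibleTopology X] s := by
  have h : BooleanSubalgebra.closure {U : Set X | IsOpen U ∧ IsRetrocompact U} ≤
      clopenSub (constructibleTopology X) := by
    rw [BooleanSubalgebra.closure_le]
    intro U hU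
    refine ⟨hU.2.isCompact.isOpen_constructibleTopology_of_isOpen hU.1, ?_⟩
    rw [← @isOpen_compl_iff X _ (constructibleTopology X)]
    exact IsCompact.isOpen_constructibleTopology_of_isClosed (by simpa using hU.2.isCompact)
      (by simpa using hU.1)
  exact h hs

/-- In a spectral space, a set which is both a union and an intersection of constructible sets is
constructible. -/
theorem isConstructible_of_sUnion_of_sInter [CompactSpace X] [QuasiSober X] [PrespectralSpace X]
    [QuasiSeparatedSpace X] {E : Set X} (S S' : Set (Set X))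
    (hS : ∀ T ∈ S, IsConstructible T) (hS' : ∀ T ∈ S', IsConstructible T)
    (h1 : E = ⋃₀ S) (h2 : E = ⋂₀ S') : IsConstructible E := by
  have hcs : @CompactSpace X (constructibleTopology X) :=
    Groth.Agent.Lib.SpectralT1H8.compactSpace_constructible
  have hcl : IsClosed[constructibleTopology X] E := by
    rw [h2]
    exact @isClosed_sInter X (constructibleTopology X) S'
      (fun T hT => (isClopen_constructibleTopology (hS' T hT)).2)
  have hc : @IsCompact X (constructibleTopology X) E :=
    @IsClosed.isCompact X (constructibleTopology X) E hcs hcl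
  have hcov : E ⊆ ⋃ T : S, (T : Set X) := by
    rw [h1, sUnion_eq_iUnion]
  obtain ⟨t, ht⟩ := @IsCompact.elim_finite_subcover X (constructibleTopology X) E S hc
    (fun T => (T : Set X))
    (fun T => (isClopen_constructibleTopology (hS T T.2)).1) hcov
  have hE : E = ⋃ T ∈ t, (T : Set X) := by
    apply subset_antisymm ht
    intro z hz
    simp only [mem_iUnion] at hz
    obtain ⟨T, _, hzT⟩ := hz
    rw [h1]
    exact ⟨T, T.2, hzT⟩
  rw [hE]
  exact IsConstructible.biUnion t.finite_toSet (fun T _ => hS T T.2)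

/-- In a spectral space, a union of constructible sets containing all generizations of `x` is a
neighbourhood of `x`. -/
theorem mem_nhds_of_sUnion_of_generizations [CompactSpace X] [QuasiSober X] [PrespectralSpace X]
    [QuasiSeparatedSpace X] {E : Set X} (S : Set (Set X))
    (hS : ∀ T ∈ S, IsConstructible T) (h1 : E = ⋃₀ S) (x : X)
    (hx : ∀ x' : X, x' ⤳ x → x' ∈ E) : E ∈ 𝓝 x := by
  have hcs : @CompactSpace X (constructibleTopology X) :=
    Groth.Agent.Lib.SpectralT1H8.compactSpace_constructible
  by_contra hcon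
  have hEc : IsClosed[constructibleTopology X] Eᶜ := by
    rw [h1, compl_sUnion]
    refine @isClosed_sInter X (constructibleTopology X) _ ?_
    rintro _ ⟨T, hT, rfl⟩
    exact (isClopen_constructibleTopology (hS T hT).compl).2
  let F : Set (Set X) := {A | ∃ V : Set X, IsOpen V ∧ IsCompact V ∧ x ∈ V ∧ A = V ∩ Eᶜ}
  have hcl : ∀ A ∈ F, IsClosed[constructibleTopology X] A := by
    rintro _ ⟨V, hV1, hV2, _, rfl⟩
    exact @IsClosed.inter X _ _ (constructibleTopology X)
      (isClopen_constructibleTopology (hV2.isConstructible hV1)).2 hEc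
  have hfin : ∀ t ⊆ F, t.Finite → (⋂₀ t).Nonempty := by
    intro t ht hf
    have hex : ∀ A : t, ∃ V : Set X, IsOpen V ∧ IsCompact V ∧ x ∈ V ∧ (A : Set X) = V ∩ Eᶜ :=
      fun A => ht A.2
    choose V hV1 hV2 hxV hAV using hex
    haveI : Finite t := hf
    have hO : IsOpen (⋂ A : t, V A) := isOpen_iInter_of_finite hV1
    have hxO : x ∈ ⋂ A : t, V A := mem_iInter.2 hxV
    obtain ⟨W, ⟨hW1, hW2⟩, hxW, hWO⟩ :=
      PrespectralSpace.isTopologicalBasis.exists_subset_of_mem_open hxO hO
    have hWE : ¬ W ⊆ E := fun hWE => hcon (Filter.mem_of_superset (hW1.mem_nhds hxW) hWE)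
    rw [not_subset] at hWE
    obtain ⟨z, hzW, hzE⟩ := hWE
    refine ⟨z, fun A hA => ?_⟩
    have := hAV ⟨A, hA⟩
    simp only at this
    rw [this]
    exact ⟨mem_iInter.1 (hWO hzW) ⟨A, hA⟩, hzE⟩
  obtain ⟨z, hz⟩ := @CompactSpace.nonempty_sInter X (constructibleTopology X) hcs F hcl hfin
  have hzx : z ⤳ x := by
    rw [specializes_iff_forall_open]
    intro s hs hxs
    obtain ⟨W, ⟨hW1, hW2⟩, hxW, hWs⟩ :=
      PrespectralSpace.isTopologicalBasis.exists_subset_of_mem_open hxs hs
    exact hWs (hz _ ⟨W, hW1, hW2, hxW, rfl⟩).1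
  obtain ⟨W, ⟨hW1, hW2⟩, hxW, -⟩ :=
    PrespectralSpace.isTopologicalBasis.exists_subset_of_mem_open (mem_univ x) isOpen_univ
  exact (hz _ ⟨W, hW1, hW2, hxW, rfl⟩).2 (hx z hzx)

end Groth.Agent.Lib.ProConsTopH8
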