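import Mathlib
import Groth.Prelude.Def_ProCons
import Groth.Agent.Lib.ProConsTop_helper8

namespace Groth.Agent.Lib.ProConsLocH8

open Topology TopologicalSpace Set CategoryTheory AlgebraicGeometry Set.Notation
open Groth.Agent.Lib.ProConsTopH8

universe u

/-- Every point of a scheme has arbitrarily small spectral open neighbourhoods. -/
theorem exists_spectral_open (X : Scheme.{u}) (x : X) (U : Set X) (hU : IsOpen U) (hx : x ∈ U) :
    ∃ W : Set X, IsOpen W ∧ x ∈ W ∧ W ⊆ U ∧ CompactSpace W ∧ QuasiSober W ∧ PrespectralSpace W ∧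
      QuasiSeparatedSpace W := by
  obtain ⟨_, ⟨V, hV, rfl⟩, hxV, hVU⟩ := X.isBasis_affineOpens.exists_subset_of_mem_open hx hU
  haveI : IsAffine (V : Scheme.{u}) := hV
  exact ⟨V, V.2, hxV, hVU, inferInstanceAs (CompactSpace (V : Scheme.{u})),
    inferInstanceAs (QuasiSober (V : Scheme.{u})), inferInstanceAs (PrespectralSpace (V : Scheme.{u})),
    inferInstanceAs (QuasiSeparatedSpace (V : Scheme.{u}))⟩

section top

variable {X : Type*} [TopologicalSpace X]

/-- Restricting a union of locally constructible subsets of `U` to a spectral open `W ⊆ U`. -/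
theorem restrict_sUnion {E : Set X} {W U : Set X} (hW : IsOpen W) (hWU : W ⊆ U)
    [CompactSpace W] [PrespectralSpace W] [QuasiSeparatedSpace W]
    (S : Set (Set U)) (hS : ∀ T ∈ S, IsLocallyConstructible T)
    (hE : (Subtype.val ⁻¹' E : Set U) = ⋃₀ S) :
    ∃ S' : Set (Set W), (∀ T ∈ S', IsConstructible T) ∧ (W ↓∩ E) = ⋃₀ S' := by
  have hj : IsOpenEmbedding (inclusion hWU) :=
    .inclusion hWU (hW.preimage continuous_subtype_val)
  refine ⟨(fun T => inclusion hWU ⁻¹' T) '' S, ?_, ?_⟩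
  · rintro _ ⟨T, hT, rfl⟩
    exact ((hS T hT).preimage_of_isOpenEmbedding hj).isConstructible
  · have : (W ↓∩ E) = inclusion hWU ⁻¹' (Subtype.val ⁻¹' E : Set U) := rfl
    rw [this, hE, preimage_sUnion, sUnion_image]

theorem restrict_sInter {E : Set X} {W U : Set X} (hW : IsOpen W) (hWU : W ⊆ U)
    [CompactSpace W] [PrespectralSpace W] [QuasiSeparatedSpace W]
    (S : Set (Set U)) (hS : ∀ T ∈ S, IsLocallyConstructible T)
    (hE : (Subtype.val ⁻¹' E : Set U) = ⋂₀ S) :
    ∃ S' : Set (Set W), (∀ T ∈ S', IsConstructible T) ∧ (W ↓∩ E) = ⋂₀ S' := by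
  have hj : IsOpenEmbedding (inclusion hWU) :=
    .inclusion hWU (hW.preimage continuous_subtype_val)
  refine ⟨(fun T => inclusion hWU ⁻¹' T) '' S, ?_, ?_⟩
  · rintro _ ⟨T, hT, rfl⟩
    exact ((hS T hT).preimage_of_isOpenEmbedding hj).isConstructible
  · have : (W ↓∩ E) = inclusion hWU ⁻¹' (Subtype.val ⁻¹' E : Set U) := rfl
    rw [this, hE, preimage_sInter, sInter_image]

end top

/-- A subset of a scheme is locally constructible iff it is ind- and pro-constructible. -/
theorem isLocallyConstructible_iff (X : Scheme.{u}) (E : Set X) :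
    IsLocallyConstructible E ↔ ProCons.IsIndConstructible E ∧ ProCons.IsProConstructible E := by
  constructor
  · intro h
    have h' : IsLocallyConstructible (Subtype.val ⁻¹' E : Set (univ : Set X)) :=
      h.preimage_of_isOpenEmbedding isOpen_univ.isOpenEmbedding_subtypeVal
    exact ⟨fun x => ⟨univ, isOpen_univ, mem_univ x, {Subtype.val ⁻¹' E}, by simpa using h',
      (sUnion_singleton _).symm⟩,
      fun x => ⟨univ, isOpen_univ, mem_univ x, {Subtype.val ⁻¹' E}, by simpa using h',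
      (sInter_singleton _).symm⟩⟩
  · rintro ⟨hI, hP⟩ x
    obtain ⟨U₁, hU₁, hxU₁, S₁, hS₁, hE₁⟩ := hI x
    obtain ⟨U₂, hU₂, hxU₂, S₂, hS₂, hE₂⟩ := hP x
    obtain ⟨W, hW, hxW, hWU, i1, i2, i3, i4⟩ :=
      exists_spectral_open X x (U₁ ∩ U₂) (hU₁.inter hU₂) ⟨hxU₁, hxU₂⟩
    obtain ⟨S₁', hS₁', hE₁'⟩ := restrict_sUnion hW (hWU.trans inter_subset_left) S₁ hS₁ hE₁
    obtain ⟨S₂', hS₂', hE₂'⟩ := restrict_sInter hW (hWU.trans inter_subset_right) S₂ hS₂ hE₂
    exact ⟨W, hW.mem_nhds hxW, hW,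
      isConstructible_of_sUnion_of_sInter S₁' S₂' hS₁' hS₂' hE₁' hE₂'⟩

/-- Interior points of ind-constructible sets. -/
theorem mem_interior_iff (X : Scheme.{u}) (E : Set X) (hE : ProCons.IsIndConstructible E) (x : X) :
    x ∈ interior E ↔ ∀ x' : X, x' ⤳ x → x' ∈ E := by
  constructor
  · intro h x' hx'
    exact interior_subset (hx'.mem_open isOpen_interior h)
  · intro h
    obtain ⟨U, hU, hxU, S, hS, hES⟩ := hE x
    obtain ⟨W, hW, hxW, hWU, i1, i2, i3, i4⟩ := exists_spectral_open X x U hU hxU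
    obtain ⟨S', hS', hE'⟩ := restrict_sUnion hW hWU S hS hES
    have hn : (W ↓∩ E) ∈ 𝓝 (⟨x, hxW⟩ : W) := by
      refine mem_nhds_of_sUnion_of_generizations S' hS' hE' ⟨x, hxW⟩ (fun x' hx' => ?_)
      exact h x'.1 (hx'.map continuous_subtype_val)
    rw [mem_interior_iff_mem_nhds]
    have := hW.isOpenEmbedding_subtypeVal.image_mem_nhds.2 hn
    refine Filter.mem_of_superset this ?_
    rintro _ ⟨z, hz, rfl⟩
    exact hz

end Groth.Agent.Lib.ProConsLocH8
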