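import Mathlib
import Groth.Prelude.Def_ProCons
import Groth.Agent.Lib.ProConsLoc_helper8

namespace Groth.Agent.Lib.ProConsCptH8

open Topology TopologicalSpace Set CategoryTheory AlgebraicGeometry Set.Notation
open Groth.Agent.Lib.ProConsTopH8 Groth.Agent.Lib.ProConsLocH8

universe u

section top

variable {X : Type*} [TopologicalSpace X]

/-- The complement of an ind-constructible set is pro-constructible. -/
theorem isProConstructible_compl {E : Set X} (hE : ProCons.IsIndConstructible E) :
    ProCons.IsProConstructible Eᶜ := by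
  intro x
  obtain ⟨U, hU, hxU, S, hS, hES⟩ := hE x
  refine ⟨U, hU, hxU, compl '' S, ?_, ?_⟩
  · rintro _ ⟨T, hT, rfl⟩
    intro y
    obtain ⟨U', hyU', hU', hc⟩ := hS T hT y
    exact ⟨U', hyU', hU', by rw [preimage_compl]; exact hc.compl⟩
  · rw [preimage_compl, hES, compl_sUnion]

/-- A pro-constructible set meets a spectral open in a closed set for the constructible
topology. -/
theorem isClosed_restrict_of_pro {E : Set X} (hE : ProCons.IsProConstructible E) {W : Set X}
    (hW : IsOpen W) [CompactSpace W] [PrespectralSpace W] [QuasiSeparatedSpace W] :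
    IsClosed[constructibleTopology W] (W ↓∩ E) := by
  have key : ∀ w : W, ∃ V : Set W, IsOpen V ∧ IsCompact V ∧ w ∈ V ∧
      IsClosed[constructibleTopology W] (V ∩ (W ↓∩ E)) := by
    intro w
    obtain ⟨U, hU, hwU, S, hS, hES⟩ := hE w.1
    obtain ⟨V, ⟨hV1, hV2⟩, hwV, hVU⟩ :=
      PrespectralSpace.isTopologicalBasis.exists_subset_of_mem_open (show w ∈ W ↓∩ U from hwU)
        (hU.preimage continuous_subtype_val)
    refine ⟨V, hV1, hV2, hwV, ?_⟩
    haveI : CompactSpace V := isCompact_iff_compactSpace.mp hV2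
    haveI : PrespectralSpace V := hV1.isOpenEmbedding_subtypeVal.prespectralSpace
    haveI : QuasiSeparatedSpace V := hV1.isOpenEmbedding_subtypeVal.quasiSeparatedSpace
    let k : V → U := fun z => ⟨z.1.1, hVU z.2⟩
    have hk : IsOpenEmbedding k := by
      have h1 : IsOpenEmbedding (Subtype.val ∘ k : V → X) :=
        hW.isOpenEmbedding_subtypeVal.comp hV1.isOpenEmbedding_subtypeVal
      exact IsOpenEmbedding.of_comp _ hU.isOpenEmbedding_subtypeVal h1
    have hA : ∀ T ∈ S, IsConstructible (Subtype.val '' (k ⁻¹' T) : Set W) := fun T hT =>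
      (((hS T hT).preimage_of_isOpenEmbedding hk).isConstructible).image_of_isOpenEmbedding
        hV1.isOpenEmbedding_subtypeVal (by rw [Subtype.range_coe]; exact hV2.isRetrocompact hV1)
    have hEq : V ∩ (W ↓∩ E) = V ∩ ⋂ T ∈ S, (Subtype.val '' (k ⁻¹' T) : Set W) := by
      ext z
      simp only [mem_inter_iff, mem_preimage, mem_iInter, mem_image]
      constructor
      · rintro ⟨hzV, hzE⟩
        refine ⟨hzV, fun T hT => ⟨⟨z, hzV⟩, ?_, rfl⟩⟩
        have : (⟨z.1, hVU hzV⟩ : U) ∈ (Subtype.val ⁻¹' E : Set U) := hzE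
        rw [hES] at this
        exact this T hT
      · rintro ⟨hzV, h⟩
        refine ⟨hzV, ?_⟩
        have : (⟨z.1, hVU hzV⟩ : U) ∈ (Subtype.val ⁻¹' E : Set U) := by
          rw [hES]
          intro T hT
          obtain ⟨z', hz', rfl⟩ := h T hT
          exact hz'
        exact this
    rw [hEq]
    refine @IsClosed.inter W _ _ (constructibleTopology W)
      (isClopen_constructibleTopology (hV2.isConstructible hV1)).2 ?_
    exact @isClosed_biInter W _ (constructibleTopology W) _ _
      (fun T hT => (isClopen_constructibleTopology (hA T hT)).2)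
  choose V hV1 hV2 hwV hcl using key
  obtain ⟨t, ht⟩ := isCompact_univ.elim_nhds_subcover V (fun w _ => (hV1 w).mem_nhds (hwV w))
  have : (W ↓∩ E) = ⋃ w ∈ t, V w ∩ (W ↓∩ E) := by
    rw [← iUnion₂_inter]
    exact (inter_eq_right.2 (fun z _ => ht.2 (mem_univ z))).symm
  rw [this]
  exact @Set.Finite.isClosed_biUnion W _ (constructibleTopology W) _ _ t.finite_toSet
    (fun w _ => hcl w)

/-- An ind-constructible set meets a spectral open in an open set for the constructible
topology. -/
theorem isOpen_restrict_of_ind {E : Set X} (hE : ProCons.IsIndConstructible E) {W : Set X}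
    (hW : IsOpen W) [CompactSpace W] [PrespectralSpace W] [QuasiSeparatedSpace W] :
    IsOpen[constructibleTopology W] (W ↓∩ E) := by
  have h := isClosed_restrict_of_pro (isProConstructible_compl hE) hW
  rw [preimage_compl, @isClosed_compl_iff W (constructibleTopology W)] at h
  exact h

end top

/-- A finite cover of a quasi-compact scheme by spectral opens. -/
theorem exists_finite_spectral_cover (X : Scheme.{u}) [CompactSpace X] :
    ∃ (t : Finset X) (W : X → Set X), (∀ x, IsOpen (W x) ∧ CompactSpace (W x) ∧ QuasiSober (W x) ∧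
      PrespectralSpace (W x) ∧ QuasiSeparatedSpace (W x)) ∧ ∀ z : X, ∃ x ∈ t, z ∈ W x := by
  have h := fun x : X => exists_spectral_open X x univ isOpen_univ (mem_univ x)
  choose W hW1 hxW _ i1 i2 i3 i4 using h
  obtain ⟨t, ht⟩ := isCompact_univ.elim_nhds_subcover W (fun x _ => (hW1 x).mem_nhds (hxW x))
  refine ⟨t, W, fun x => ⟨hW1 x, i1 x, i2 x, i3 x, i4 x⟩, fun z => ?_⟩
  have := ht.2 (mem_univ z)
  simp only [mem_iUnion] at this
  obtain ⟨x, hx, hz⟩ := this
  exact ⟨x, hx, hz⟩

theorem finite_subfamily_of_pro_ind (X : Scheme.{u}) [CompactSpace X] (E : Set X)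
    (hE : ProCons.IsIndConstructible E) {ι : Type*} (F : ι → Set X)
    (hF : ∀ i, ProCons.IsProConstructible (F i)) (h : ⋂ i, F i ⊆ E) :
    ∃ J : Finset ι, ⋂ i ∈ J, F i ⊆ E := by
  classical
  obtain ⟨t, W, hW, hcov⟩ := exists_finite_spectral_cover X
  have key : ∀ x : X, ∃ J : Finset ι, ∀ z ∈ W x, (∀ i ∈ J, z ∈ F i) → z ∈ E := by
    intro x
    obtain ⟨hW1, i1, i2, i3, i4⟩ := hW x
    have hcs : @CompactSpace (W x) (constructibleTopology (W x)) :=
      Groth.Agent.Lib.SpectralT1H8.compactSpace_constructible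
    have hO := isOpen_restrict_of_ind hE hW1
    have hC := fun i => isClosed_restrict_of_pro (hF i) hW1
    have hs : @IsCompact (W x) (constructibleTopology (W x)) ((W x) ↓∩ E)ᶜ :=
      @IsClosed.isCompact (W x) (constructibleTopology (W x)) _ hcs
        ((@isClosed_compl_iff (W x) (constructibleTopology (W x)) _).2 hO)
    obtain ⟨u, hu⟩ := @IsCompact.elim_finite_subfamily_closed (W x)
      (constructibleTopology (W x)) _ ι hs (fun i => (W x) ↓∩ F i) hC (by
        rw [eq_empty_iff_forall_notMem]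
        rintro z ⟨hz1, hz2⟩
        exact hz1 (h (mem_iInter.2 (fun i => mem_iInter.1 hz2 i))))
    refine ⟨u, fun z hzW hzF => ?_⟩
    by_contra hzE
    have : (⟨z, hzW⟩ : W x) ∈ (((W x) ↓∩ E)ᶜ ∩ ⋂ i ∈ u, (W x) ↓∩ F i : Set (W x)) :=
      ⟨hzE, mem_iInter₂.2 (fun i hi => hzF i hi)⟩
    rw [hu] at this
    exact this
  choose J hJ using key
  refine ⟨t.biUnion J, fun z hz => ?_⟩
  obtain ⟨x, hx, hzW⟩ := hcov z
  refine hJ x z hzW (fun i hi => ?_)
  exact mem_iInter₂.1 hz i (Finset.mem_biUnion.2 ⟨x, hx, hi⟩)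

theorem finite_subcover_of_pro_ind (X : Scheme.{u}) [CompactSpace X] (F : Set X)
    (hF : ProCons.IsProConstructible F) {ι : Type*} (E : ι → Set X)
    (hE : ∀ i, ProCons.IsIndConstructible (E i)) (h : F ⊆ ⋃ i, E i) :
    ∃ J : Finset ι, F ⊆ ⋃ i ∈ J, E i := by
  classical
  obtain ⟨t, W, hW, hcov⟩ := exists_finite_spectral_cover X
  have key : ∀ x : X, ∃ J : Finset ι, ∀ z ∈ W x, z ∈ F → ∃ i ∈ J, z ∈ E i := by
    intro x
    obtain ⟨hW1, i1, i2, i3, i4⟩ := hW x
    have hcs : @CompactSpace (W x) (constructibleTopology (W x)) :=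
      Groth.Agent.Lib.SpectralT1H8.compactSpace_constructible
    have hO := fun i => isOpen_restrict_of_ind (hE i) hW1
    have hC := isClosed_restrict_of_pro hF hW1
    have hs : @IsCompact (W x) (constructibleTopology (W x)) ((W x) ↓∩ F) :=
      @IsClosed.isCompact (W x) (constructibleTopology (W x)) _ hcs hC
    obtain ⟨u, hu⟩ := @IsCompact.elim_finite_subcover (W x)
      (constructibleTopology (W x)) _ ι hs (fun i => (W x) ↓∩ E i) hO (by
        intro z hz
        have := h hz
        simp only [mem_iUnion] at this ⊢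
        exact this)
    refine ⟨u, fun z hzW hzF => ?_⟩
    have := hu (show (⟨z, hzW⟩ : W x) ∈ (W x) ↓∩ F from hzF)
    simp only [mem_iUnion] at this
    obtain ⟨i, hi, hz⟩ := this
    exact ⟨i, hi, hz⟩
  choose J hJ using key
  refine ⟨t.biUnion J, fun z hz => ?_⟩
  obtain ⟨x, hx, hzW⟩ := hcov z
  obtain ⟨i, hi, hzE⟩ := hJ x z hzW hz
  exact mem_iUnion₂.2 ⟨i, Finset.mem_biUnion.2 ⟨x, hx, hi⟩, hzE⟩

end Groth.Agent.Lib.ProConsCptH8
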