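import Mathlib
import Groth.Prelude.Def_ProCons
import Groth.Agent.Lib.ProConsCpt_helper8

namespace Groth.Agent.Lib.ProConsImgH8

open Topology TopologicalSpace Set CategoryTheory AlgebraicGeometry Set.Notation
open Groth.Agent.Lib.ProConsTopH8 Groth.Agent.Lib.ProConsLocH8 Groth.Agent.Lib.ProConsCptH8

universe u

section top

variable {X : Type*} [TopologicalSpace X]

theorem isConstructible_of_mem_subbasis [QuasiSeparatedSpace X] {A : Set X}
    (hA : A ∈ constructibleTopologySubbasis X) : IsConstructible A := by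
  rcases hA with h | h
  · exact h.2.isConstructible h.1
  · have := (h.2.isConstructible h.1.isOpen_compl).compl
    rwa [compl_compl] at this

/-- Open sets of the constructible topology are unions of constructible sets. -/
theorem exists_sUnion_of_isOpen [QuasiSeparatedSpace X] {s : Set X}
    (hs : IsOpen[constructibleTopology X] s) :
    ∃ S : Set (Set X), (∀ T ∈ S, IsConstructible T) ∧ s = ⋃₀ S := by
  have hb := @isTopologicalBasis_of_subbasis X (constructibleTopology X)
    (constructibleTopologySubbasis X) rfl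
  refine ⟨{T | T ∈ ((fun f => ⋂₀ f) '' {f : Set (Set X) | f.Finite ∧
    f ⊆ constructibleTopologySubbasis X}) ∧ T ⊆ s}, ?_, ?_⟩
  · rintro T ⟨⟨f, ⟨hf1, hf2⟩, rfl⟩, -⟩
    exact IsConstructible.sInter hf1 (fun A hA => isConstructible_of_mem_subbasis (hf2 hA))
  · exact @IsTopologicalBasis.open_eq_sUnion' X (constructibleTopology X) _ hb s hs

/-- Closed sets of the constructible topology are intersections of constructible sets. -/
theorem exists_sInter_of_isClosed [QuasiSeparatedSpace X] {s : Set X}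
    (hs : IsClosed[constructibleTopology X] s) :
    ∃ S : Set (Set X), (∀ T ∈ S, IsConstructible T) ∧ s = ⋂₀ S := by
  obtain ⟨S, hS, h⟩ := exists_sUnion_of_isOpen
    ((@isOpen_compl_iff X s (constructibleTopology X)).2 hs)
  refine ⟨compl '' S, ?_, ?_⟩
  · rintro _ ⟨T, hT, rfl⟩
    exact (hS T hT).compl
  · rw [← compl_compl s, h, compl_sUnion]

/-- In a T0 prespectral quasi-separated space, distinct points are separated by a constructible
set. -/
theorem exists_isConstructible_mem_notMem [T0Space X] [PrespectralSpace X] [QuasiSeparatedSpace X]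
    {y z : X} (h : z ≠ y) : ∃ D : Set X, IsConstructible D ∧ y ∈ D ∧ z ∉ D := by
  obtain ⟨O, hO, hx⟩ := exists_isOpen_xor_mem h
  rcases hx with ⟨hzO, hyO⟩ | ⟨hyO, hzO⟩
  · obtain ⟨K, ⟨hK1, hK2⟩, hzK, hKO⟩ :=
      PrespectralSpace.isTopologicalBasis.exists_subset_of_mem_open hzO hO
    exact ⟨Kᶜ, (hK2.isConstructible hK1).compl, fun hyK => hyO (hKO hyK), fun hz => hz hzK⟩
  · obtain ⟨K, ⟨hK1, hK2⟩, hyK, hKO⟩ :=
      PrespectralSpace.isTopologicalBasis.exists_subset_of_mem_open hyO hO
    exact ⟨K, hK2.isConstructible hK1, hyK, fun hzK => hzO (hKO hzK)⟩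

/-- A map of spectral spaces pulling back constructible sets to constructible sets is closed for
the constructible topologies. -/
theorem isClosed_image_constructibleTopology {A B : Type*} [TopologicalSpace A]
    [TopologicalSpace B] [CompactSpace A] [QuasiSober A] [PrespectralSpace A]
    [QuasiSeparatedSpace A] [T0Space B] [PrespectralSpace B] [CompactSpace B]
    [QuasiSeparatedSpace B] (g : A → B)
    (hg : ∀ D : Set B, IsConstructible D → IsConstructible (g ⁻¹' D)) {C : Set A}
    (hC : IsClosed[constructibleTopology A] C) : IsClosed[constructibleTopology B] (g '' C) := by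
  classical
  have hcs : @CompactSpace A (constructibleTopology A) :=
    Groth.Agent.Lib.SpectralT1H8.compactSpace_constructible
  rw [← @isOpen_compl_iff B _ (constructibleTopology B),
    @isOpen_iff_forall_mem_open B (constructibleTopology B)]
  intro y hy
  have hCc : @IsCompact A (constructibleTopology A) C :=
    @IsClosed.isCompact A (constructibleTopology A) _ hcs hC
  let 𝒟 := {D : Set B // IsConstructible D ∧ y ∈ D}
  obtain ⟨u, hu⟩ := @IsCompact.elim_finite_subfamily_closed A (constructibleTopology A) _ 𝒟 hCc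
    (fun D => g ⁻¹' D.1) (fun D => (isClopen_constructibleTopology (hg D.1 D.2.1)).2) (by
      rw [eq_empty_iff_forall_notMem]
      rintro a ⟨haC, ha⟩
      have hgy : g a = y := by
        by_contra hne
        obtain ⟨D, hD, hyD, hgD⟩ := exists_isConstructible_mem_notMem hne
        exact hgD (mem_iInter.1 ha ⟨D, hD, hyD⟩)
      exact hy ⟨a, haC, hgy⟩)
  refine ⟨⋂ D ∈ u, D.1, ?_, ?_, ?_⟩
  · rintro b hb ⟨a, haC, rfl⟩
    have : a ∈ (C ∩ ⋂ D ∈ u, g ⁻¹' D.1 : Set A) :=
      ⟨haC, mem_iInter₂.2 (fun D hD => mem_iInter₂.1 hb D hD)⟩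
    rw [hu] at this
    exact this
  · exact (isClopen_constructibleTopology
      (IsConstructible.biInter u.finite_toSet (fun D _ => D.2.1))).1
  · exact mem_iInter₂.2 (fun D _ => D.2.2)

end top

/-- The image of a pro-constructible set under a quasi-compact morphism is pro-constructible. -/
theorem isProConstructible_image {X' X : Scheme.{u}} (f : X' ⟶ X) [QuasiCompact f] (E' : Set X')
    (hE' : ProCons.IsProConstructible E') : ProCons.IsProConstructible (f.base '' E') := by
  intro x
  obtain ⟨_, ⟨W, hW, rfl⟩, hxW, -⟩ :=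
    X.isBasis_affineOpens.exists_subset_of_mem_open (mem_univ x) isOpen_univ
  haveI : IsAffine (W : Scheme.{u}) := hW
  have k1 : CompactSpace ↥(W : Set X) := inferInstanceAs (CompactSpace (W : Scheme.{u}))
  have k3 : PrespectralSpace ↥(W : Set X) := inferInstanceAs (PrespectralSpace (W : Scheme.{u}))
  have k4 : QuasiSeparatedSpace ↥(W : Set X) :=
    inferInstanceAs (QuasiSeparatedSpace (W : Scheme.{u}))
  have k5 : T0Space ↥(W : Set X) := inferInstanceAs (T0Space (W : Scheme.{u}))
  have hc : IsCompact (f.base ⁻¹' (W : Set X)) :=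
    QuasiCompact.isCompact_preimage (f := f) _ W.2 hW.isCompact
  have hloc : ∀ z ∈ f.base ⁻¹' (W : Set X), ∃ V : X'.Opens, IsAffineOpen V ∧ z ∈ V ∧
      V ≤ f ⁻¹ᵁ W := by
    intro z hz
    obtain ⟨_, ⟨V, hV, rfl⟩, hzV, hVW⟩ :=
      X'.isBasis_affineOpens.exists_subset_of_mem_open hz (f ⁻¹ᵁ W).2
    exact ⟨V, hV, hzV, hVW⟩
  choose! V hV hzV hVW using hloc
  obtain ⟨t, ht1, ht2⟩ := hc.elim_nhds_subcover (fun z => (V z : Set X'))
    (fun z hz => (V z).2.mem_nhds (hzV z hz))
  have key : ∀ z ∈ t, IsClosed[constructibleTopology ↥(W : Set X)]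
      ((W : Set X) ↓∩ (f.base '' (E' ∩ V z))) := by
    intro z hz
    haveI : IsAffine ((V z) : Scheme.{u}) := hV z (ht1 z hz)
    have j1 : CompactSpace ↥(V z : Set X') := inferInstanceAs (CompactSpace ((V z) : Scheme.{u}))
    have j2 : QuasiSober ↥(V z : Set X') := inferInstanceAs (QuasiSober ((V z) : Scheme.{u}))
    have j3 : PrespectralSpace ↥(V z : Set X') :=
      inferInstanceAs (PrespectralSpace ((V z) : Scheme.{u}))
    have j4 : QuasiSeparatedSpace ↥(V z : Set X') :=
      inferInstanceAs (QuasiSeparatedSpace ((V z) : Scheme.{u}))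
    let g := f.resLE W (V z) (hVW z (ht1 z hz))
    have hC := @isClosed_restrict_of_pro X' _ E' hE' (V z : Set X') (V z).2 j1 j3 j4
    have h := @isClosed_image_constructibleTopology ↥(V z : Set X') ↥(W : Set X) _ _ j1 j2 j3 j4
      k5 k3 k1 k4 (fun a => g.base a) (fun D hD => g.isConstructible_preimage hD) _ hC
    have e : ((W : Set X) ↓∩ (f.base '' (E' ∩ V z)) : Set ↥(W : Set X)) =
        (fun a => g.base a) '' ((V z : Set X') ↓∩ E') := by
      ext ⟨y, hy⟩
      constructor
      · rintro ⟨a, ⟨haE, haV⟩, hay⟩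
        refine ⟨⟨a, haV⟩, haE, Subtype.ext ?_⟩
        exact (Scheme.Hom.coe_resLE_apply f (hVW z (ht1 z hz)) ⟨a, haV⟩).trans hay
      · rintro ⟨a, haE, hay⟩
        refine ⟨a.1, ⟨haE, a.2⟩, ?_⟩
        have := congrArg Subtype.val hay
        exact (Scheme.Hom.coe_resLE_apply f (hVW z (ht1 z hz)) a).symm.trans this
    rw [e]
    exact h
  have hU : ((W : Set X) ↓∩ (f.base '' E') : Set ↥(W : Set X)) =
      ⋃ z ∈ t, (W : Set X) ↓∩ (f.base '' (E' ∩ V z)) := by
    ext ⟨y, hy⟩
    simp only [mem_preimage, mem_iUnion, mem_image, mem_inter_iff]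
    constructor
    · rintro ⟨a, haE, rfl⟩
      have := ht2 (show a ∈ f.base ⁻¹' (W : Set X) from hy)
      simp only [mem_iUnion] at this
      obtain ⟨z, hz, haV⟩ := this
      exact ⟨z, hz, a, ⟨haE, haV⟩, rfl⟩
    · rintro ⟨z, hz, a, ⟨haE, _⟩, rfl⟩
      exact ⟨a, haE, rfl⟩
  have hcl : IsClosed[constructibleTopology ↥(W : Set X)] ((W : Set X) ↓∩ (f.base '' E')) := by
    rw [hU]
    exact @Set.Finite.isClosed_biUnion _ _ (constructibleTopology ↥(W : Set X)) _ _
      t.finite_toSet key
  obtain ⟨S, hS, hES⟩ := @exists_sInter_of_isClosed _ _ k4 _ hcl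
  exact ⟨W, W.2, hxW, S, fun T hT => (hS T hT).isLocallyConstructible, hES⟩

end Groth.Agent.Lib.ProConsImgH8
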