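import Mathlib
import Groth.Prelude.Def_ProCons
import Groth.Agent.Lib.ProConsTop_helper8

namespace Groth.Agent.Lib.ProConsSchH8

open Topology TopologicalSpace Set CategoryTheory AlgebraicGeometry Set.Notation

universe u

/-- Preimages of locally constructible sets under morphisms of schemes are locally constructible. -/
theorem isLocallyConstructible_preimage {X Y : Scheme.{u}} (f : X ⟶ Y) {s : Set Y}
    (hs : IsLocallyConstructible s) : IsLocallyConstructible (f.base ⁻¹' s) := by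
  intro x
  obtain ⟨U, hxU, hU, hc⟩ := hs (f.base x)
  refine ⟨f.base ⁻¹' U, f.continuous.continuousAt.preimage_mem_nhds hxU, hU.preimage f.continuous, ?_⟩
  have h := (f ∣_ ⟨U, hU⟩).isConstructible_preimage hc
  have e : ((f.base ⁻¹' U) ↓∩ (f.base ⁻¹' s) : Set ↥(f.base ⁻¹' U)) =
      ((f ∣_ ⟨U, hU⟩).base ⁻¹' ((U : Set Y) ↓∩ s) : Set ↥(f.base ⁻¹' U)) := by
    ext ⟨z, hz⟩
    simp only [mem_preimage]
    exact (congrArg (· ∈ s) (morphismRestrict_base_coe f ⟨U, hU⟩ ⟨z, hz⟩)).to_iff.symm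
  rw [e]
  exact h

theorem isLocallyConstructible_restrictPreimage {X Y : Scheme.{u}} (f : X ⟶ Y) (U : Set Y)
    (hU : IsOpen U) {A : Set ↥U} (hA : IsLocallyConstructible A) :
    IsLocallyConstructible (U.restrictPreimage f.base ⁻¹' A) := by
  have h := isLocallyConstructible_preimage (f ∣_ ⟨U, hU⟩) hA
  have e : ((f ∣_ ⟨U, hU⟩).base ⁻¹' A : Set ↥(f.base ⁻¹' U)) = U.restrictPreimage f.base ⁻¹' A := by
    ext ⟨z, hz⟩
    simp only [mem_preimage]
    exact (congrArg (· ∈ A) (Subtype.ext (morphismRestrict_base_coe f ⟨U, hU⟩ ⟨z, hz⟩))).to_iff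
  rw [← e]
  exact h

theorem isProConstructible_preimage {X Y : Scheme.{u}} (f : X ⟶ Y) (T : Set Y)
    (hT : ProCons.IsProConstructible T) : ProCons.IsProConstructible (f.base ⁻¹' T) := by
  intro x
  obtain ⟨U, hU, hxU, S, hS, hE⟩ := hT (f.base x)
  refine ⟨f.base ⁻¹' U, hU.preimage f.continuous, hxU,
    (fun A => U.restrictPreimage f.base ⁻¹' A) '' S, ?_, ?_⟩
  · rintro _ ⟨A, hA, rfl⟩
    exact isLocallyConstructible_restrictPreimage f U hU (hS A hA)
  · have : (Subtype.val ⁻¹' (f.base ⁻¹' T) : Set ↥(f.base ⁻¹' U)) =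
        U.restrictPreimage f.base ⁻¹' (Subtype.val ⁻¹' T) := rfl
    rw [this, hE, preimage_sInter, sInter_image]

theorem isIndConstructible_preimage {X Y : Scheme.{u}} (f : X ⟶ Y) (T : Set Y)
    (hT : ProCons.IsIndConstructible T) : ProCons.IsIndConstructible (f.base ⁻¹' T) := by
  intro x
  obtain ⟨U, hU, hxU, S, hS, hE⟩ := hT (f.base x)
  refine ⟨f.base ⁻¹' U, hU.preimage f.continuous, hxU,
    (fun A => U.restrictPreimage f.base ⁻¹' A) '' S, ?_, ?_⟩
  · rintro _ ⟨A, hA, rfl⟩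
    exact isLocallyConstructible_restrictPreimage f U hU (hS A hA)
  · have : (Subtype.val ⁻¹' (f.base ⁻¹' T) : Set ↥(f.base ⁻¹' U)) =
        U.restrictPreimage f.base ⁻¹' (Subtype.val ⁻¹' T) := rfl
    rw [this, hE, preimage_sUnion, sUnion_image]

end Groth.Agent.Lib.ProConsSchH8
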