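import Mathlib
import Groth.Prelude.Def_ProCons
import Groth.Agent.Lib.ProConsImg_helper8
import Groth.Agent.Lib.ProConsSch_helper8

namespace Groth.Agent.Lib.ProConsChevH8

open Topology TopologicalSpace Set CategoryTheory AlgebraicGeometry Set.Notation
open Groth.Agent.Lib.ProConsTopH8 Groth.Agent.Lib.ProConsLocH8 Groth.Agent.Lib.ProConsCptH8
  Groth.Agent.Lib.ProConsImgH8

universe u

/-- The image of an ind-constructible set under a morphism locally of finite presentation is
ind-constructible. -/
theorem isIndConstructible_image {X' X : Scheme.{u}} (f : X' ⟶ X)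
    [LocallyOfFinitePresentation f] (E' : Set X') (hE' : ProCons.IsIndConstructible E') :
    ProCons.IsIndConstructible (f.base '' E') := by
  intro x
  obtain ⟨_, ⟨W, hW, rfl⟩, hxW, -⟩ :=
    X.isBasis_affineOpens.exists_subset_of_mem_open (mem_univ x) isOpen_univ
  haveI : IsAffine (W : Scheme.{u}) := hW
  refine ⟨W, W.2, hxW, {D | IsConstructible D ∧ D ⊆ (W : Set X) ↓∩ (f.base '' E')},
    fun D hD => hD.1.isLocallyConstructible, ?_⟩
  apply subset_antisymm
  · rintro ⟨y, hyW⟩ ⟨e, heE, rfl⟩
    obtain ⟨U', hU', heU', S, hS, hES⟩ := hE' e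
    have h1 : (⟨e, heU'⟩ : U') ∈ (Subtype.val ⁻¹' E' : Set U') := heE
    rw [hES] at h1
    obtain ⟨T, hT, heT⟩ := h1
    obtain ⟨_, ⟨W', hW', rfl⟩, heW', hW'U⟩ :=
      X'.isBasis_affineOpens.exists_subset_of_mem_open
        (show e ∈ U' ∩ f.base ⁻¹' (W : Set X) from ⟨heU', hyW⟩) (hU'.inter (f ⁻¹ᵁ W).2)
    haveI : IsAffine (W' : Scheme.{u}) := hW'
    have j1 : CompactSpace ↥(W' : Set X') := inferInstanceAs (CompactSpace (W' : Scheme.{u}))
    have j3 : PrespectralSpace ↥(W' : Set X') :=
      inferInstanceAs (PrespectralSpace (W' : Scheme.{u}))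
    have j4 : QuasiSeparatedSpace ↥(W' : Set X') :=
      inferInstanceAs (QuasiSeparatedSpace (W' : Scheme.{u}))
    have hle : W' ≤ f ⁻¹ᵁ W := fun z hz => (hW'U hz).2
    let g := f.resLE W W' hle
    have hincl : IsOpenEmbedding (inclusion (hW'U.trans inter_subset_left)) :=
      .inclusion _ (W'.2.preimage continuous_subtype_val)
    have hT' : IsConstructible
        (inclusion (hW'U.trans inter_subset_left) ⁻¹' T : Set ↥(W' : Set X')) :=
      @IsLocallyConstructible.isConstructible _ _ _ j3 j4 j1
        ((hS T hT).preimage_of_isOpenEmbedding hincl)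
    have hD := g.isConstructible_image hT'
    refine ⟨g.base '' (inclusion (hW'U.trans inter_subset_left) ⁻¹' T), ⟨hD, ?_⟩,
      ⟨⟨e, heW'⟩, heT, Subtype.ext (Scheme.Hom.coe_resLE_apply f hle ⟨e, heW'⟩)⟩⟩
    rintro _ ⟨a, haT, rfl⟩
    refine ⟨a.1, ?_, (Scheme.Hom.coe_resLE_apply f hle a).symm⟩
    have h2 : inclusion (hW'U.trans inter_subset_left) a ∈ (Subtype.val ⁻¹' E' : Set U') := by
      rw [hES]
      exact ⟨T, hT, haT⟩
    exact h2
  · rintro z ⟨D, ⟨_, hD⟩, hz⟩
    exact hD hz

/-- The complement of a pro-constructible set is ind-constructible. -/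
theorem isIndConstructible_compl {X : Type*} [TopologicalSpace X] {E : Set X}
    (hE : ProCons.IsProConstructible E) : ProCons.IsIndConstructible Eᶜ := by
  intro x
  obtain ⟨U, hU, hxU, S, hS, hES⟩ := hE x
  refine ⟨U, hU, hxU, compl '' S, ?_, ?_⟩
  · rintro _ ⟨T, hT, rfl⟩
    intro y
    obtain ⟨U', hyU', hU', hc⟩ := hS T hT y
    exact ⟨U', hyU', hU', by rw [preimage_compl]; exact hc.compl⟩
  · rw [preimage_compl, hES, compl_sInter, sUnion_image]

theorem preimage_iff {X Y : Scheme.{u}} (f : X ⟶ Y) [Surjective f]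
    (hf : QuasiCompact f ∨ LocallyOfFinitePresentation f) (E : Set Y) :
    (IsLocallyConstructible E ↔ IsLocallyConstructible (f.base ⁻¹' E)) ∧
    (ProCons.IsProConstructible E ↔ ProCons.IsProConstructible (f.base ⁻¹' E)) ∧
    (ProCons.IsIndConstructible E ↔ ProCons.IsIndConstructible (f.base ⁻¹' E)) := by
  have hsurj : ∀ A : Set Y, f.base '' (f.base ⁻¹' A) = A :=
    fun A => image_preimage_eq A f.surjective
  have hpro : ProCons.IsProConstructible E ↔ ProCons.IsProConstructible (f.base ⁻¹' E) := by
    refine ⟨Groth.Agent.Lib.ProConsSchH8.isProConstructible_preimage f E, fun h => ?_⟩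
    rcases hf with hf | hf
    · rw [← hsurj E]
      exact isProConstructible_image f _ h
    · have h1 : ProCons.IsIndConstructible (f.base ⁻¹' Eᶜ) := by
        rw [preimage_compl]
        exact isIndConstructible_compl h
      have h2 := isIndConstructible_image f _ h1
      rw [hsurj] at h2
      have h3 := isProConstructible_compl h2
      rwa [compl_compl] at h3
  have hind : ProCons.IsIndConstructible E ↔ ProCons.IsIndConstructible (f.base ⁻¹' E) := by
    refine ⟨Groth.Agent.Lib.ProConsSchH8.isIndConstructible_preimage f E, fun h => ?_⟩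
    rcases hf with hf | hf
    · have h1 : ProCons.IsProConstructible (f.base ⁻¹' Eᶜ) := by
        rw [preimage_compl]
        exact isProConstructible_compl h
      have h2 := isProConstructible_image f _ h1
      rw [hsurj] at h2
      have h3 := isIndConstructible_compl h2
      rwa [compl_compl] at h3
    · rw [← hsurj E]
      exact isIndConstructible_image f _ h
  refine ⟨?_, hpro, hind⟩
  rw [isLocallyConstructible_iff, isLocallyConstructible_iff, hpro, hind]

end Groth.Agent.Lib.ProConsChevH8
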