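import Mathlib
import Groth.Prelude.Def_ProCons
import Groth.Agent.Lib.ProConsLoc_helper8

namespace Groth.Agent.Lib.ProConsNoethH8

open Topology TopologicalSpace Set CategoryTheory AlgebraicGeometry Set.Notation
open Groth.Agent.Lib.ProConsTopH8 Groth.Agent.Lib.ProConsLocH8

universe u

/-- A constructible set contains a neighbourhood of each of its points `x` in `closure {x}`. -/
theorem exists_open_inter_closure_subset {W : Type*} [TopologicalSpace W] [CompactSpace W]
    [QuasiSeparatedSpace W] [PrespectralSpace W] {T : Set W} (hT : IsConstructible T) :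
    ∀ x ∈ T, ∃ O : Set W, IsOpen O ∧ x ∈ O ∧ O ∩ closure {x} ⊆ T := by
  let ι := {U : Set W // IsOpen U ∧ IsCompact U}
  haveI : Nonempty ι := ⟨⟨∅, isOpen_empty, isCompact_empty⟩⟩
  have hb : IsTopologicalBasis (range (fun i : ι => i.1)) := by
    have h := PrespectralSpace.isTopologicalBasis (X := W)
    have e : range (fun i : ι => i.1) = {U : Set W | IsOpen U ∧ IsCompact U} := Subtype.range_coe
    rw [e]
    exact h
  refine IsConstructible.induction_of_isTopologicalBasis
    (P := fun T _ => ∀ x ∈ T, ∃ O : Set W, IsOpen O ∧ x ∈ O ∧ O ∩ closure {x} ⊆ T)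
    (fun i : ι => i.1) hb (fun i => i.2.2) ?_ ?_ T hT
  · intro i s hs x hx
    refine ⟨i.1, i.2.1, hx.1, ?_⟩
    rintro y ⟨hyi, hyx⟩
    refine ⟨hyi, fun hyC => hx.2 ?_⟩
    have hopen : IsOpen (⋃ j ∈ s, (j : ι).1) := isOpen_biUnion (fun j _ => j.2.1)
    exact (specializes_iff_mem_closure.2 hyx).mem_open hopen hyC
  · intro s hs t ht hs' ht' x hx
    rcases hx with hx | hx
    · obtain ⟨O, hO, hxO, h⟩ := hs' x hx
      exact ⟨O, hO, hxO, h.trans subset_union_left⟩
    · obtain ⟨O, hO, hxO, h⟩ := ht' x hx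
      exact ⟨O, hO, hxO, h.trans subset_union_right⟩

theorem isIndConstructible_iff_nhds (X : Scheme.{u}) [IsLocallyNoetherian X] (E : Set X) :
    ProCons.IsIndConstructible E ↔
      ∀ x ∈ E, (Subtype.val ⁻¹' E : Set ↥(closure ({x} : Set X))) ∈
        nhds (⟨x, subset_closure rfl⟩ : ↥(closure ({x} : Set X))) := by
  constructor
  · intro hE x hx
    obtain ⟨U, hU, hxU, S, hS, hES⟩ := hE x
    obtain ⟨W, hW, hxW, hWU, i1, i2, i3, i4⟩ := exists_spectral_open X x U hU hxU
    obtain ⟨S', hS', hE'⟩ := restrict_sUnion hW hWU S hS hES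
    have hxE : (⟨x, hxW⟩ : W) ∈ W ↓∩ E := hx
    rw [hE'] at hxE
    obtain ⟨T, hT, hxT⟩ := hxE
    obtain ⟨O, hO, hxO, hOT⟩ := exists_open_inter_closure_subset (hS' T hT) ⟨x, hxW⟩ hxT
    rw [mem_nhds_subtype]
    refine ⟨Subtype.val '' O, (hW.isOpenMap_subtype_val O hO).mem_nhds ⟨⟨x, hxW⟩, hxO, rfl⟩, ?_⟩
    rintro ⟨z, hzZ⟩ ⟨w, hwO, hwz⟩
    have hwz' : w.1 = z := hwz
    subst hwz'
    show w.1 ∈ E
    have hwcl : w ∈ closure ({⟨x, hxW⟩} : Set W) := by
      rw [closure_subtype]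
      simpa using hzZ
    have h3 : w ∈ W ↓∩ E := by
      rw [hE']
      exact ⟨T, hT, hOT ⟨hwO, hwcl⟩⟩
    exact h3
  · intro h x₀
    obtain ⟨_, ⟨W, hW, rfl⟩, hxW, -⟩ :=
      X.isBasis_affineOpens.exists_subset_of_mem_open (mem_univ x₀) isOpen_univ
    haveI : IsAffine (W : Scheme.{u}) := hW
    haveI : IsNoetherianRing Γ(X, W) := IsLocallyNoetherian.component_noetherian ⟨W, hW⟩
    have n1 : NoetherianSpace ↥(W : Set X) := noetherianSpace_of_isAffineOpen W hW
    refine ⟨W, W.2, hxW, {D | IsConstructible D ∧ D ⊆ (W : Set X) ↓∩ E},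
      fun D hD => hD.1.isLocallyConstructible, ?_⟩
    apply subset_antisymm
    · intro w hw
      have h1 := h w.1 hw
      rw [mem_nhds_subtype] at h1
      obtain ⟨N, hN, hNE⟩ := h1
      obtain ⟨O, hON, hO, hwO⟩ := mem_nhds_iff.1 hN
      refine ⟨(W : Set X) ↓∩ (O ∩ closure {w.1}), ⟨?_, ?_⟩, ⟨hwO, subset_closure rfl⟩⟩
      · have hopen : ∀ A : Set ↥(W : Set X), IsOpen A → IsConstructible A := fun A hA =>
          IsRetrocompact.isConstructible hA (fun V _ _ => NoetherianSpace.isCompact _)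
        rw [preimage_inter]
        refine (hopen _ (hO.preimage continuous_subtype_val)).inter ?_
        have h2 := (hopen _ ((isClosed_closure (s := {w.1})).preimage
          continuous_subtype_val).isOpen_compl).compl
        rwa [compl_compl] at h2
      · rintro z ⟨hzO, hzcl⟩
        exact hNE (show (⟨z.1, hzcl⟩ : ↥(closure {w.1})) ∈ Subtype.val ⁻¹' N from hON hzO)
    · rintro z ⟨D, ⟨_, hD⟩, hz⟩
      exact hD hz

end Groth.Agent.Lib.ProConsNoethH8
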