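import Mathlib
import Groth.Prelude.Def_EGA4Misc
import Groth.Agent.Lib.ConsProp1_helper7
import Groth.Agent.Lib.ProConsNoeth_helper8
import Groth.Agent.Lib.ProConsChev_helper8

/-!
# Constructible properties of algebraic schemes, II (helper7)

* `exists_open_of_subscheme`: opens of the reduced subscheme on `closure {ξ}` and neighbourhoods
  of `ξ` in its closure.
* `fieldStableMor_forall_fiber`, `locusMor_forall_fiber_eq`.
* `isIndConstructible_locus`, `main5885`.
* `locusMor_baseChange`, `isConstructible_locusMor`, `isIndConstructible_locusMor`.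
-/

set_option autoImplicit false
set_option linter.style.haveILetI false
set_option linter.unusedVariables false
universe u
open CategoryTheory CategoryTheory.Limits AlgebraicGeometry TopologicalSpace Topology

namespace Groth.Agent.Lib.ConsPropH7

/-- Data of the reduced closed subscheme on the closure of a point. -/
theorem exists_red_closure {S : Scheme.{u}} [IsNoetherian S] (ξ : S) :
    ∃ (I : S.IdealSheafData) (_ : IsIntegral I.subscheme) (_ : IsNoetherian I.subscheme),
      I.subschemeι (genericPoint I.subscheme) = ξ ∧ Set.range I.subschemeι = closure {ξ} := by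
  obtain ⟨I, hI⟩ : ∃ I : S.IdealSheafData,
      I = Scheme.IdealSheafData.vanishingIdeal ⟨closure {ξ}, isClosed_closure⟩ := ⟨_, rfl⟩
  obtain ⟨hint, hgen⟩ : ∃ (_ : IsIntegral I.subscheme),
      I.subschemeι (genericPoint I.subscheme) = ξ := by
    subst hI
    exact CohDevH8.exists_isIntegral_subscheme (closure {ξ}) isClosed_closure ξ rfl
  haveI : IsLocallyNoetherian I.subscheme := LocallyOfFiniteType.isLocallyNoetherian I.subschemeι
  haveI : CompactSpace I.subscheme := QuasiCompact.compactSpace_of_compactSpace I.subschemeι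
  have hN : IsNoetherian I.subscheme := {}
  refine ⟨I, hint, hN, hgen, ?_⟩
  rw [Scheme.IdealSheafData.range_subschemeι, hI]
  exact Scheme.IdealSheafData.coe_support_vanishingIdeal _

theorem exists_open_of_subscheme {S : Scheme.{u}} (ξ : S) (I : S.IdealSheafData)
    [IsIntegral I.subscheme] (hgen : I.subschemeι (genericPoint I.subscheme) = ξ)
    (hrange : Set.range I.subschemeι = closure {ξ})
    (W : Set I.subscheme) (F : Set S) (hW : IsOpen W) (hWne : W.Nonempty)
    (hWF : ∀ t ∈ W, I.subschemeι t ∈ F) :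
    ∃ U : Set S, IsOpen U ∧ ξ ∈ U ∧ U ∩ closure {ξ} ⊆ F := by
  obtain ⟨U, hU, hUW⟩ := I.subschemeι.isClosedEmbedding.isInducing.isOpen_iff.mp hW
  refine ⟨U, hU, ?_, ?_⟩
  · have hη : genericPoint I.subscheme ∈ W :=
      ((genericPoint_spec _).mem_open_set_iff hW).mpr (by simpa using hWne)
    rw [← hgen]
    have : genericPoint I.subscheme ∈ I.subschemeι ⁻¹' U := by rw [hUW]; exact hη
    exact this
  · rintro z ⟨hzU, hzZ⟩
    rw [← hrange] at hzZ
    obtain ⟨t, rfl⟩ := hzZ
    apply hWF
    rw [← hUW]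
    exact hzU

section ForallFiber

variable {P : ∀ ⦃Y T : Scheme.{u}⦄, (Y ⟶ T) → Prop}

theorem fieldStableMor_forall_fiber (hP : ConsProp.IsFieldStable P) :
    ConsProp.IsFieldStableMor
      (fun X Y T f g => ∀ y : ↥Y, P (f.fiberToSpecResidueField y)) := by
  intro X X' Y Y' T T' f g f' g' eX eY h _ _ _ _ _ _ _ _ hY hX
  haveI : IsNoetherian T := isNoetherian_of_subsingleton T
  haveI : IsLocallyNoetherian Y := LocallyOfFiniteType.isLocallyNoetherian g
  haveI : QuasiSeparated g := QuasiSeparated.of_quasiSeparatedSpace g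
  haveI : LocallyOfFiniteType f := locallyOfFiniteType_of_comp f g
  haveI : QuasiCompact f := QuasiCompact.of_comp f g
  haveI : Surjective h := ⟨fun t => ⟨Classical.arbitrary _, Subsingleton.elim _ _⟩⟩
  haveI : Surjective eY := MorphismProperty.of_isPullback hY.flip inferInstance
  have key : ∀ y' : Y', P (f'.fiberToSpecResidueField y') ↔
      P (f.fiberToSpecResidueField (eY y')) :=
    fun y' => locus_baseChange hP f eY eX f' hX y'
  constructor
  · intro H y'
    exact (key y').mpr (H _)
  · intro H y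
    obtain ⟨y', rfl⟩ := eY.surjective y
    exact (key y').mp (H y')

theorem locusMor_forall_fiber_eq (hP : ConsProp.IsFieldStable P) {X Y S : Scheme.{u}}
    (f : X ⟶ Y) (g : Y ⟶ S) [LocallyOfFiniteType f] [QuasiCompact f] :
    ConsProp.locusMor (fun X Y T f g => ∀ y : ↥Y, P (f.fiberToSpecResidueField y)) f g =
      (g '' (ConsProp.locus P f)ᶜ)ᶜ := by
  ext s
  have key : ∀ y : g.fiber s, P ((MoreMor.fiberMap f g s).fiberToSpecResidueField y) ↔
      P (f.fiberToSpecResidueField (g.fiberι s y)) :=
    fun y => locus_baseChange hP f (g.fiberι s) ((f ≫ g).fiberι s)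
      (MoreMor.fiberMap f g s) (isPullback_fiberMap f g s) y
  constructor
  · intro H
    rintro ⟨y₀, hy₀, rfl⟩
    apply hy₀
    have h1 := (key (g.asFiber y₀)).mp (H (g.asFiber y₀))
    rw [Scheme.Hom.fiberι_asFiber] at h1
    exact h1
  · intro H y
    rw [key y]
    by_contra hcon
    exact H ⟨g.fiberι s y, hcon, Groth.Agent.FibRes2H8.fiberι_mem g s y⟩

/-- Over a Noetherian base, the locus of an ind-constructible property is ind-constructible. -/
theorem isIndConstructible_locus (hP : ConsProp.IsIndCons P) {X S : Scheme.{u}} (u : X ⟶ S)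
    [IsNoetherian S] [LocallyOfFiniteType u] [QuasiCompact u] :
    ProCons.IsIndConstructible (ConsProp.locus P u) := by
  rw [Groth.Agent.Lib.ProConsNoethH8.isIndConstructible_iff_nhds]
  intro ξ hξ
  obtain ⟨I, hint, hN, hgen, hrange⟩ := exists_red_closure ξ
  haveI := hint
  haveI := hN
  have hloc : ∀ t : I.subscheme, t ∈ ConsProp.locus P (pullback.snd u I.subschemeι) ↔
      I.subschemeι t ∈ ConsProp.locus P u :=
    fun t => locus_baseChange hP.1 u I.subschemeι (pullback.fst _ _) (pullback.snd _ _)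
      (IsPullback.of_hasPullback _ _) t
  have hη : genericPoint I.subscheme ∈ ConsProp.locus P (pullback.snd u I.subschemeι) := by
    rw [hloc, hgen]
    exact hξ
  have h1 := hP.2 (pullback.snd u I.subschemeι) hη
  obtain ⟨U, hU, hξU, hsub⟩ := exists_open_of_subscheme ξ I hgen hrange _ (ConsProp.locus P u)
    isOpen_interior h1 (fun t ht => (hloc t).mp (interior_subset ht))
  exact Filter.mem_of_superset ((hU.preimage continuous_subtype_val).mem_nhds hξU)
    (fun z hz => hsub ⟨hz, z.2⟩)

/-- **S5885** -/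
theorem main5885 (hP : ConsProp.IsIndCons P) :
    ConsProp.IsIndConsMor
      (fun X Y T f g => ∀ y : ↥Y, P (f.fiberToSpecResidueField y)) := by
  refine ⟨fieldStableMor_forall_fiber hP.1, ?_⟩
  intro X Y S f g _ _ _ _ _ _ hη
  haveI : IsLocallyNoetherian Y := LocallyOfFiniteType.isLocallyNoetherian g
  haveI : CompactSpace Y := QuasiCompact.compactSpace_of_compactSpace g
  haveI : IsNoetherian Y := {}
  haveI : QuasiSeparated g := QuasiSeparated.of_quasiSeparatedSpace g
  haveI : LocallyOfFiniteType f := locallyOfFiniteType_of_comp f g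
  haveI : QuasiCompact f := QuasiCompact.of_comp f g
  have hE : ProCons.IsIndConstructible (ConsProp.locus P f) := isIndConstructible_locus hP f
  have hloc := locusMor_forall_fiber_eq hP.1 f g
  have hind : ProCons.IsIndConstructible (ConsProp.locusMor
      (fun X Y T f g => ∀ y : ↥Y, P (f.fiberToSpecResidueField y)) f g) := by
    rw [hloc]
    exact Groth.Agent.Lib.ProConsChevH8.isIndConstructible_compl
      (Groth.Agent.Lib.ProConsImgH8.isProConstructible_image g _
        (Groth.Agent.Lib.ProConsCptH8.isProConstructible_compl hE))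
  refine ⟨genericPoint S, ?_⟩
  rw [Groth.Agent.Lib.ProConsLocH8.mem_interior_iff S _ hind]
  intro x' hx'
  have hx : x' = genericPoint S := (hx'.antisymm (genericPoint_specializes x')).eq
  rw [hx]
  exact hη

end ForallFiber

section Mor

variable {P : ∀ ⦃X Y T : Scheme.{u}⦄, (X ⟶ Y) → (Y ⟶ T) → Prop}

theorem fiberMap_comp_toSpec {X Y S : Scheme.{u}} (f : X ⟶ Y) (g : Y ⟶ S) (s : S) :
    MoreMor.fiberMap f g s ≫ g.fiberToSpecResidueField s =
      (f ≫ g).fiberToSpecResidueField s := pullback.lift_snd _ _ _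

theorem fiberMap_comp_fiberι {X Y S : Scheme.{u}} (f : X ⟶ Y) (g : Y ⟶ S) (s : S) :
    MoreMor.fiberMap f g s ≫ g.fiberι s = (f ≫ g).fiberι s ≫ f := pullback.lift_fst _ _ _

/-- The locus of a field-stable property of morphisms commutes with base change. -/
theorem locusMor_baseChange (hP : ConsProp.IsFieldStableMor P) {X Y S X' Y' S' : Scheme.{u}}
    (f : X ⟶ Y) (g : Y ⟶ S) [LocallyOfFiniteType g] [QuasiCompact g]
    [LocallyOfFiniteType (f ≫ g)] [QuasiCompact (f ≫ g)]
    (f' : X' ⟶ Y') (g' : Y' ⟶ S') (eX : X' ⟶ X) (eY : Y' ⟶ Y) (h : S' ⟶ S)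
    (hY : IsPullback eY g' g h) (hX : IsPullback eX f' f eY) (s' : S') :
    s' ∈ ConsProp.locusMor P f' g' ↔ h s' ∈ ConsProp.locusMor P f g := by
  have hXY : IsPullback eX (f' ≫ g') (f ≫ g) h := hX.paste_vert hY
  obtain ⟨θY, hθY1, hθY2, sqY⟩ : ∃ θY : g'.fiber s' ⟶ g.fiber (h s'),
      θY ≫ g.fiberι (h s') = g'.fiberι s' ≫ eY ∧
      θY ≫ g.fiberToSpecResidueField (h s') =
        g'.fiberToSpecResidueField s' ≫ Spec.map (h.residueFieldMap s') ∧
      IsPullback θY (g'.fiberToSpecResidueField s') (g.fiberToSpecResidueField (h s'))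
        (Spec.map (h.residueFieldMap s')) :=
    ⟨_, pullback.lift_fst _ _ _, pullback.lift_snd _ _ _,
      isPullback_fiberToSpecResidueField_of_isPullback hY s'⟩
  obtain ⟨θX, hθX1, hθX2, sqX⟩ : ∃ θX : (f' ≫ g').fiber s' ⟶ (f ≫ g).fiber (h s'),
      θX ≫ (f ≫ g).fiberι (h s') = (f' ≫ g').fiberι s' ≫ eX ∧
      θX ≫ (f ≫ g).fiberToSpecResidueField (h s') =
        (f' ≫ g').fiberToSpecResidueField s' ≫ Spec.map (h.residueFieldMap s') ∧
      IsPullback θX ((f' ≫ g').fiberToSpecResidueField s')
        ((f ≫ g).fiberToSpecResidueField (h s')) (Spec.map (h.residueFieldMap s')) :=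
    ⟨_, pullback.lift_fst _ _ _, pullback.lift_snd _ _ _,
      isPullback_fiberToSpecResidueField_of_isPullback hXY s'⟩
  have e1 := fiberMap_comp_fiberι f g (h s')
  have e1' := fiberMap_comp_fiberι f' g' s'
  have e2 := fiberMap_comp_toSpec f g (h s')
  have e2' := fiberMap_comp_toSpec f' g' s'
  have hcomm : θX ≫ MoreMor.fiberMap f g (h s') = MoreMor.fiberMap f' g' s' ≫ θY := by
    apply pullback.hom_ext
    · show (θX ≫ MoreMor.fiberMap f g (h s')) ≫ g.fiberι (h s') =
        (MoreMor.fiberMap f' g' s' ≫ θY) ≫ g.fiberι (h s')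
      rw [Category.assoc, Category.assoc, e1, hθY1, reassoc_of% hθX1, reassoc_of% e1', hX.w]
    · show (θX ≫ MoreMor.fiberMap f g (h s')) ≫ g.fiberToSpecResidueField (h s') =
        (MoreMor.fiberMap f' g' s' ≫ θY) ≫ g.fiberToSpecResidueField (h s')
      rw [Category.assoc, Category.assoc, e2, hθX2, hθY2, reassoc_of% e2']
  have sq : IsPullback θX (MoreMor.fiberMap f' g' s') (MoreMor.fiberMap f g (h s')) θY := by
    refine IsPullback.of_bot ?_ hcomm sqY
    rw [fiberMap_comp_toSpec, fiberMap_comp_toSpec]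
    exact sqX
  haveI : LocallyOfFiniteType (g.fiberToSpecResidueField (h s')) :=
    MorphismProperty.pullback_snd _ _ inferInstance
  haveI : QuasiCompact (g.fiberToSpecResidueField (h s')) :=
    MorphismProperty.pullback_snd _ _ inferInstance
  haveI : LocallyOfFiniteType
      (MoreMor.fiberMap f g (h s') ≫ g.fiberToSpecResidueField (h s')) := by
    rw [fiberMap_comp_toSpec]
    exact MorphismProperty.pullback_snd _ _ inferInstance
  haveI : QuasiCompact
      (MoreMor.fiberMap f g (h s') ≫ g.fiberToSpecResidueField (h s')) := by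
    rw [fiberMap_comp_toSpec]
    exact MorphismProperty.pullback_snd _ _ inferInstance
  exact (hP (MoreMor.fiberMap f g (h s')) (g.fiberToSpecResidueField (h s'))
    (MoreMor.fiberMap f' g' s') (g'.fiberToSpecResidueField s') θX θY _ sqY sq).symm

end Mor

end Groth.Agent.Lib.ConsPropH7
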