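import Mathlib
import Groth.Agent.Lib.IndEtale1_helper3

/-!
# Every algebra is a filtered colimit of finitely presented algebras (helper7)
-/

set_option autoImplicit false
set_option maxSynthPendingDepth 3
universe u
open CategoryTheory Limits

namespace Groth.Agent.Lib.AlgColim2H7

variable (R A : Type u) [CommRing R] [CommRing A] [Algebra R A]

/-- evaluation from the big polynomial ring -/
noncomputable def ev : MvPolynomial A R →ₐ[R] A := MvPolynomial.aeval id

theorem ev_X (a : A) : ev R A (MvPolynomial.X a) = a := by simp [ev]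

/-- index: a finite set of variables and a finite set of relations in those variables -/
abbrev Idx : Type u :=
  {p : Finset A × Finset (MvPolynomial A R) //
    ∀ x ∈ p.2, x ∈ MvPolynomial.supported R (p.1 : Set A) ∧ ev R A x = 0}

instance : Nonempty (Idx R A) := ⟨⟨(∅, ∅), fun x hx => by simp at hx⟩⟩

instance : IsDirected (Idx R A) (· ≤ ·) := by
  classical
  refine ⟨fun p q => ⟨⟨(p.1.1 ∪ q.1.1, p.1.2 ∪ q.1.2), ?_⟩, ?_, ?_⟩⟩
  · intro x hx
    rcases Finset.mem_union.mp hx with hx | hx
    · exact ⟨MvPolynomial.supported_mono (Finset.coe_subset.mpr Finset.subset_union_left)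
        (p.2 x hx).1, (p.2 x hx).2⟩
    · exact ⟨MvPolynomial.supported_mono (Finset.coe_subset.mpr Finset.subset_union_right)
        (q.2 x hx).1, (q.2 x hx).2⟩
  · exact ⟨Finset.subset_union_left, Finset.subset_union_left⟩
  · exact ⟨Finset.subset_union_right, Finset.subset_union_right⟩

variable {R A}

/-- the polynomial subalgebra of a stage -/
noncomputable abbrev Sub (p : Idx R A) : Subalgebra R (MvPolynomial A R) :=
  MvPolynomial.supported R (p.1.1 : Set A)

/-- the relation ideal of a stage -/
noncomputable abbrev Rel (p : Idx R A) : Ideal (Sub p) :=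
  Ideal.span ((Sub p).val ⁻¹' (p.1.2 : Set (MvPolynomial A R)))

theorem Sub_mono {p q : Idx R A} (h : p ≤ q) : Sub p ≤ Sub q :=
  MvPolynomial.supported_mono (Finset.coe_subset.mpr h.1)

theorem Rel_le {p q : Idx R A} (h : p ≤ q) :
    Rel p ≤ (Rel q).comap (Subalgebra.inclusion (Sub_mono h)).toRingHom := by
  rw [Ideal.span_le]
  intro x hx
  have h1 : (x : MvPolynomial A R) ∈ p.1.2 := by
    simpa only [Set.mem_preimage, Subalgebra.coe_val, Finset.mem_coe] using hx
  have h2 : (x : MvPolynomial A R) ∈ q.1.2 := h.2 h1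
  rw [SetLike.mem_coe, Ideal.mem_comap]
  refine Ideal.subset_span ?_
  rw [Set.mem_preimage, Subalgebra.coe_val, Finset.mem_coe, AlgHom.toRingHom_eq_coe,
    RingHom.coe_coe, Subalgebra.coe_inclusion]
  exact h2

theorem Rel_le_ker (p : Idx R A) :
    Rel p ≤ RingHom.ker ((ev R A).comp (Sub p).val).toRingHom := by
  rw [Ideal.span_le]
  intro x hx
  have h1 : (x : MvPolynomial A R) ∈ p.1.2 := by
    simpa only [Set.mem_preimage, Subalgebra.coe_val, Finset.mem_coe] using hx
  rw [SetLike.mem_coe, RingHom.mem_ker]
  exact (p.2 _ h1).2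

theorem Rel_fg (p : Idx R A) : (Rel p).FG := by
  refine Submodule.fg_span ?_
  exact Set.Finite.preimage (Set.injOn_of_injective Subtype.val_injective) p.1.2.finite_toSet

/-- the diagram -/
noncomputable def D : Idx R A ⥤ Under (CommRingCat.of R) where
  obj p := Under.mk (CommRingCat.ofHom (algebraMap R (Sub p ⧸ Rel p)))
  map {p q} h := Under.homMk (CommRingCat.ofHom
      (Ideal.quotientMap (Rel q) (Subalgebra.inclusion (Sub_mono (leOfHom h))).toRingHom
        (Rel_le (leOfHom h)))) (by
    apply CommRingCat.hom_ext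
    apply RingHom.ext
    intro r
    rfl)
  map_id p := by
    apply Under.UnderMorphism.ext
    apply CommRingCat.hom_ext
    apply RingHom.ext
    intro x
    obtain ⟨x, rfl⟩ := Ideal.Quotient.mk_surjective x
    rfl
  map_comp h k := by
    apply Under.UnderMorphism.ext
    apply CommRingCat.hom_ext
    apply RingHom.ext
    intro x
    obtain ⟨x, rfl⟩ := Ideal.Quotient.mk_surjective x
    rfl

/-- the cocone with vertex `A` -/
noncomputable def cocone : Cocone (D (R := R) (A := A)) where
  pt := Under.mk (CommRingCat.ofHom (algebraMap R A))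
  ι :=
    { app := fun p => Under.homMk (CommRingCat.ofHom
        (Ideal.Quotient.lift (Rel p) ((ev R A).comp (Sub p).val).toRingHom
          (fun x hx => Rel_le_ker p hx))) (by
          apply CommRingCat.hom_ext
          apply RingHom.ext
          intro r
          exact ((ev R A).comp (Sub p).val).commutes r)
      naturality := fun p q h => by
        apply Under.UnderMorphism.ext
        apply CommRingCat.hom_ext
        apply RingHom.ext
        intro x
        obtain ⟨x, rfl⟩ := Ideal.Quotient.mk_surjective x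
        rfl }

theorem cocone_ι_mk (p : Idx R A) (x : Sub p) :
    ((cocone (R := R) (A := A)).ι.app p).right.hom (Ideal.Quotient.mk (Rel p) x) =
      ev R A x.1 := rfl

theorem D_map_mk {p q : Idx R A} (h : p ⟶ q) (x : Sub p) :
    ((D (R := R) (A := A)).map h).right.hom (Ideal.Quotient.mk (Rel p) x) =
      Ideal.Quotient.mk (Rel q) (Subalgebra.inclusion (Sub_mono (leOfHom h)) x) := rfl

/-- the cocone is colimiting -/
noncomputable def isColimit : IsColimit (cocone (R := R) (A := A)) := by
  classical
  refine Groth.Agent.Lib.IndEtaleH3.isColimitOfSurjInj D cocone ?_ ?_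
  · intro (x : A)
    let p : Idx R A := ⟨({x}, ∅), fun y hy => by simp at hy⟩
    have hx : (MvPolynomial.X x : MvPolynomial A R) ∈ Sub p :=
      Algebra.subset_adjoin ⟨x, Finset.mem_coe.mpr (Finset.mem_singleton_self x), rfl⟩
    refine ⟨p, Ideal.Quotient.mk _ ⟨_, hx⟩, ?_⟩
    rw [cocone_ι_mk]
    exact ev_X R A x
  · intro p y hy
    obtain ⟨z, rfl⟩ := Ideal.Quotient.mk_surjective y
    rw [cocone_ι_mk] at hy
    let q : Idx R A := ⟨(p.1.1, p.1.2 ∪ {z.1}), fun w hw => by
      rcases Finset.mem_union.mp hw with hw | hw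
      · exact p.2 w hw
      · rw [Finset.mem_singleton] at hw
        subst hw
        exact ⟨z.2, hy⟩⟩
    have hpq : p ≤ q := ⟨Finset.Subset.refl _, Finset.subset_union_left⟩
    refine ⟨q, homOfLE hpq, ?_⟩
    rw [D_map_mk]
    refine Ideal.Quotient.eq_zero_iff_mem.mpr (Ideal.subset_span ?_)
    show (z.1 : MvPolynomial A R) ∈ (q.1.2 : Set (MvPolynomial A R))
    exact Finset.mem_coe.mpr (Finset.mem_union_right _ (Finset.mem_singleton_self _))

theorem D_fp (p : Idx R A) : ((D (R := R) (A := A)).obj p).hom.hom.FinitePresentation := by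
  have h1 : Algebra.FinitePresentation R (Sub p) :=
    Algebra.FinitePresentation.equiv
      (MvPolynomial.supportedEquivMvPolynomial (R := R) (p.1.1 : Set A)).symm
  have : Algebra.FinitePresentation R (Sub p ⧸ Rel p) :=
    Algebra.FinitePresentation.quotient (Rel_fg p)
  exact RingHom.finitePresentation_algebraMap.mpr this

end Groth.Agent.Lib.AlgColim2H7
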