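import Mathlib

/-!
# Gluing two schemes along a common open subscheme, and base change (helper7)

* `exists_glue`: gluing two morphisms on a two-piece open cover.
* properties of the pushout `Z₁ ⊔_O Z₂` of two open immersions: open immersions `inl`, `inr`,
  joint surjectivity, compactness, quasi-separatedness, `pushout.desc` locally of finite
  presentation.
* `glue_isPullback`: the pushout of open immersions commutes with base change (in the form needed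
  for descending schemes of finite presentation along limits).
-/

set_option autoImplicit false
set_option linter.style.haveILetI false
universe u
open CategoryTheory CategoryTheory.Limits AlgebraicGeometry Topology TopologicalSpace

namespace Groth.Agent.Lib.GlueOpenPushoutH7

/-- objects of a two-piece cover -/
def pieceObj (X₁ X₂ : Scheme.{u}) : WalkingPair → Scheme.{u}
  | .left => X₁
  | .right => X₂

/-- maps of a two-piece cover -/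
def pieceMap {X' X₁ X₂ : Scheme.{u}} (j₁ : X₁ ⟶ X') (j₂ : X₂ ⟶ X') :
    (i : WalkingPair) → pieceObj X₁ X₂ i ⟶ X'
  | .left => j₁
  | .right => j₂

/-- the two-piece open cover -/
noncomputable def twoCover {X' X₁ X₂ : Scheme.{u}} (j₁ : X₁ ⟶ X') (j₂ : X₂ ⟶ X')
    [IsOpenImmersion j₁] [IsOpenImmersion j₂]
    (hcov : ∀ x : X', x ∈ Set.range j₁ ∨ x ∈ Set.range j₂) : X'.OpenCover :=
  Scheme.Cover.mkOfCovers WalkingPair (pieceObj X₁ X₂) (pieceMap j₁ j₂)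
    (fun x => by
      rcases hcov x with ⟨y, hy⟩ | ⟨y, hy⟩
      · exact ⟨.left, y, hy⟩
      · exact ⟨.right, y, hy⟩)
    (fun i => by
      cases i
      · exact (inferInstance : IsOpenImmersion j₁)
      · exact (inferInstance : IsOpenImmersion j₂))

theorem exists_glue {X' X₁ X₂ X₁₂ Y : Scheme.{u}} (j₁ : X₁ ⟶ X') (j₂ : X₂ ⟶ X')
    [IsOpenImmersion j₁] [IsOpenImmersion j₂]
    (hcov : ∀ x : X', x ∈ Set.range j₁ ∨ x ∈ Set.range j₂)
    (q₁ : X₁₂ ⟶ X₁) (q₂ : X₁₂ ⟶ X₂) (hq : IsPullback q₁ q₂ j₁ j₂)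
    (a₁ : X₁ ⟶ Y) (a₂ : X₂ ⟶ Y) (ha : q₁ ≫ a₁ = q₂ ≫ a₂) :
    ∃ a : X' ⟶ Y, j₁ ≫ a = a₁ ∧ j₂ ≫ a = a₂ := by
  let F : (i : WalkingPair) → (twoCover j₁ j₂ hcov).X i ⟶ Y := fun i =>
    match i with
    | .left => a₁
    | .right => a₂
  have hF : ∀ x y, pullback.fst ((twoCover j₁ j₂ hcov).f x) ((twoCover j₁ j₂ hcov).f y) ≫ F x =
      pullback.snd ((twoCover j₁ j₂ hcov).f x) ((twoCover j₁ j₂ hcov).f y) ≫ F y := by
    rintro (_ | _) (_ | _)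
    · show pullback.fst j₁ j₁ ≫ a₁ = pullback.snd j₁ j₁ ≫ a₁
      have : pullback.fst j₁ j₁ = pullback.snd j₁ j₁ := (cancel_mono j₁).mp pullback.condition
      rw [this]
    · show pullback.fst j₁ j₂ ≫ a₁ = pullback.snd j₁ j₂ ≫ a₂
      rw [← cancel_epi hq.isoPullback.hom, IsPullback.isoPullback_hom_fst_assoc,
        IsPullback.isoPullback_hom_snd_assoc]
      exact ha
    · show pullback.fst j₂ j₁ ≫ a₂ = pullback.snd j₂ j₁ ≫ a₁
      rw [← cancel_epi hq.flip.isoPullback.hom, IsPullback.isoPullback_hom_fst_assoc,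
        IsPullback.isoPullback_hom_snd_assoc]
      exact ha.symm
    · show pullback.fst j₂ j₂ ≫ a₂ = pullback.snd j₂ j₂ ≫ a₂
      have : pullback.fst j₂ j₂ = pullback.snd j₂ j₂ := (cancel_mono j₂).mp pullback.condition
      rw [this]
  exact ⟨(twoCover j₁ j₂ hcov).glueMorphisms F hF,
    (twoCover j₁ j₂ hcov).ι_glueMorphisms F hF WalkingPair.left,
    (twoCover j₁ j₂ hcov).ι_glueMorphisms F hF WalkingPair.right⟩

section Pushout
variable {O Z₁ Z₂ : Scheme.{u}} (o₁ : O ⟶ Z₁) (o₂ : O ⟶ Z₂) [IsOpenImmersion o₁]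
  [IsOpenImmersion o₂]

instance isOpenImmersion_inl : IsOpenImmersion (pushout.inl o₁ o₂) :=
  inferInstanceAs (IsOpenImmersion (colimit.ι (span o₁ o₂) WalkingSpan.left))

instance isOpenImmersion_inr : IsOpenImmersion (pushout.inr o₁ o₂) :=
  inferInstanceAs (IsOpenImmersion (colimit.ι (span o₁ o₂) WalkingSpan.right))

theorem inl_inr_jointly_surjective (x : ↥(pushout o₁ o₂)) :
    x ∈ Set.range (pushout.inl o₁ o₂) ∨ x ∈ Set.range (pushout.inr o₁ o₂) := by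
  obtain ⟨i, xi, rfl⟩ := Scheme.IsLocallyDirected.ι_jointly_surjective (span o₁ o₂) x
  rcases i with _ | (_ | _)
  · left
    have h0 : colimit.ι (span o₁ o₂) WalkingSpan.zero = o₁ ≫ pushout.inl o₁ o₂ :=
      (colimit.w (span o₁ o₂) WalkingSpan.Hom.fst).symm
    exact ⟨o₁ xi, by
      show (o₁ ≫ pushout.inl o₁ o₂) xi = colimit.ι (span o₁ o₂) WalkingSpan.zero xi
      rw [h0]
      rfl⟩
  · left
    exact ⟨xi, rfl⟩
  · right
    exact ⟨xi, rfl⟩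

theorem exists_of_inl_eq_inr {z₁ : Z₁} {z₂ : Z₂}
    (h : pushout.inl o₁ o₂ z₁ = pushout.inr o₁ o₂ z₂) : ∃ w : O, o₁ w = z₁ ∧ o₂ w = z₂ := by
  obtain ⟨k, fi, fj, x, hx1, hx2⟩ := (Scheme.IsLocallyDirected.ι_eq_ι_iff (F := span o₁ o₂)
    (i := WalkingSpan.left) (j := WalkingSpan.right) (xi := z₁) (xj := z₂)).mp h
  obtain (a | a) := fi
  · rcases fj with _ | _
  · obtain (b | b) := fj
    exact ⟨x, hx1, hx2⟩

theorem range_inl_inter_range_inr :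
    Set.range (pushout.inl o₁ o₂) ∩ Set.range (pushout.inr o₁ o₂) =
      Set.range (o₁ ≫ pushout.inl o₁ o₂) := by
  ext x
  constructor
  · rintro ⟨⟨z₁, rfl⟩, ⟨z₂, h⟩⟩
    obtain ⟨w, hw1, -⟩ := exists_of_inl_eq_inr o₁ o₂ h.symm
    exact ⟨w, by rw [Scheme.Hom.comp_apply, hw1]⟩
  · rintro ⟨w, rfl⟩
    refine ⟨⟨o₁ w, (Scheme.Hom.comp_apply _ _ _).symm⟩, ⟨o₂ w, ?_⟩⟩
    rw [← Scheme.Hom.comp_apply, ← pushout.condition]

theorem compactSpace_pushout [CompactSpace Z₁] [CompactSpace Z₂] :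
    CompactSpace ↥(pushout o₁ o₂) := by
  rw [← isCompact_univ_iff]
  have : (Set.univ : Set ↥(pushout o₁ o₂)) =
      Set.range (pushout.inl o₁ o₂) ∪ Set.range (pushout.inr o₁ o₂) := by
    ext x
    simp only [Set.mem_univ, Set.mem_union, true_iff]
    exact inl_inr_jointly_surjective o₁ o₂ x
  rw [this]
  exact (isCompact_range (pushout.inl o₁ o₂).continuous).union
    (isCompact_range (pushout.inr o₁ o₂).continuous)

theorem quasiSeparatedSpace_pushout [QuasiSeparatedSpace Z₁] [QuasiSeparatedSpace Z₂]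
    [CompactSpace O] : QuasiSeparatedSpace ↥(pushout o₁ o₂) := by
  have hR₁o : IsOpen (Set.range (pushout.inl o₁ o₂)) :=
    (pushout.inl o₁ o₂).isOpenEmbedding.isOpen_range
  have hR₂o : IsOpen (Set.range (pushout.inr o₁ o₂)) :=
    (pushout.inr o₁ o₂).isOpenEmbedding.isOpen_range
  have hqs₁ : IsQuasiSeparated (Set.range (pushout.inl o₁ o₂)) := by
    have := (pushout.inl o₁ o₂).isOpenEmbedding.isQuasiSeparated_iff (s := Set.univ)
    rw [Set.image_univ] at this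
    exact this.mp isQuasiSeparated_univ
  have hqs₂ : IsQuasiSeparated (Set.range (pushout.inr o₁ o₂)) := by
    have := (pushout.inr o₁ o₂).isOpenEmbedding.isQuasiSeparated_iff (s := Set.univ)
    rw [Set.image_univ] at this
    exact this.mp isQuasiSeparated_univ
  have hR₁₂ : IsCompact (Set.range (pushout.inl o₁ o₂) ∩ Set.range (pushout.inr o₁ o₂)) := by
    rw [range_inl_inter_range_inr]
    exact isCompact_range (o₁ ≫ pushout.inl o₁ o₂).continuous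
  have hR₁₂o := hR₁o.inter hR₂o
  have mixed : ∀ (A B : Set ↥(pushout o₁ o₂)), IsOpen A → IsCompact A → IsOpen B → IsCompact B →
      A ⊆ Set.range (pushout.inl o₁ o₂) → B ⊆ Set.range (pushout.inr o₁ o₂) →
      IsCompact (A ∩ B) := by
    intro A B hAo hAc hBo hBc hA hB
    have h1 := hqs₁ A _ hA hAo hAc Set.inter_subset_left hR₁₂o hR₁₂
    have h2 := hqs₂ B _ hB hBo hBc Set.inter_subset_right hR₁₂o hR₁₂
    have h3 := hqs₁ _ _ (Set.inter_subset_left.trans hA) (hAo.inter hR₁₂o) h1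
      (Set.inter_subset_right.trans Set.inter_subset_left) (hBo.inter hR₁₂o) h2
    have : A ∩ B = (A ∩ (Set.range (pushout.inl o₁ o₂) ∩ Set.range (pushout.inr o₁ o₂))) ∩
        (B ∩ (Set.range (pushout.inl o₁ o₂) ∩ Set.range (pushout.inr o₁ o₂))) := by
      ext x
      constructor
      · rintro ⟨ha, hb⟩
        exact ⟨⟨ha, hA ha, hB hb⟩, ⟨hb, hA ha, hB hb⟩⟩
      · rintro ⟨⟨ha, -⟩, ⟨hb, -⟩⟩
        exact ⟨ha, hb⟩
    rw [this]
    exact h3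
  refine Scheme.quasiSeparatedSpace_of_isOpenCover
    (fun U : {U : (pushout o₁ o₂).Opens // IsAffineOpen U ∧
      ((U : Set ↥(pushout o₁ o₂)) ⊆ Set.range (pushout.inl o₁ o₂) ∨
        (U : Set ↥(pushout o₁ o₂)) ⊆ Set.range (pushout.inr o₁ o₂))} => U.1) ?_
    (fun U => U.2.1) ?_
  · show iSup _ = ⊤
    rw [eq_top_iff]
    intro x _
    rcases inl_inr_jointly_surjective o₁ o₂ x with hx | hx
    · obtain ⟨_, ⟨(V : (pushout o₁ o₂).Opens), hV, rfl⟩, hxV, hVR⟩ :=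
        (pushout o₁ o₂).isBasis_affineOpens.exists_subset_of_mem_open hx hR₁o
      exact Opens.mem_iSup.mpr ⟨⟨V, hV, Or.inl hVR⟩, hxV⟩
    · obtain ⟨_, ⟨(V : (pushout o₁ o₂).Opens), hV, rfl⟩, hxV, hVR⟩ :=
        (pushout o₁ o₂).isBasis_affineOpens.exists_subset_of_mem_open hx hR₂o
      exact Opens.mem_iSup.mpr ⟨⟨V, hV, Or.inr hVR⟩, hxV⟩
  · rintro ⟨U, hU, hUR⟩ ⟨U', hU', hUR'⟩
    show IsCompact ((U : Set ↥(pushout o₁ o₂)) ∩ (U' : Set ↥(pushout o₁ o₂)))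
    rcases hUR with hUR | hUR <;> rcases hUR' with hUR' | hUR'
    · exact hqs₁ _ _ hUR U.2 hU.isCompact hUR' U'.2 hU'.isCompact
    · exact mixed _ _ U.2 hU.isCompact U'.2 hU'.isCompact hUR hUR'
    · rw [Set.inter_comm]
      exact mixed _ _ U'.2 hU'.isCompact U.2 hU.isCompact hUR' hUR
    · exact hqs₂ _ _ hUR U.2 hU.isCompact hUR' U'.2 hU'.isCompact

/-- the two-piece cover of the pushout -/
noncomputable def pushoutCover : (pushout o₁ o₂).OpenCover :=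
  twoCover (pushout.inl o₁ o₂) (pushout.inr o₁ o₂) (inl_inr_jointly_surjective o₁ o₂)

theorem lfp_desc {B : Scheme.{u}} (h₁ : Z₁ ⟶ B) (h₂ : Z₂ ⟶ B) (hh : o₁ ≫ h₁ = o₂ ≫ h₂)
    [LocallyOfFinitePresentation h₁] [LocallyOfFinitePresentation h₂] :
    LocallyOfFinitePresentation (pushout.desc h₁ h₂ hh) := by
  refine IsZariskiLocalAtSource.of_openCover (P := @LocallyOfFinitePresentation)
    (pushoutCover o₁ o₂) ?_
  rintro (_ | _)
  · show LocallyOfFinitePresentation (pushout.inl o₁ o₂ ≫ pushout.desc h₁ h₂ hh)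
    rw [pushout.inl_desc]
    infer_instance
  · show LocallyOfFinitePresentation (pushout.inr o₁ o₂ ≫ pushout.desc h₁ h₂ hh)
    rw [pushout.inr_desc]
    infer_instance

end Pushout

theorem glue_isPullback {T B : Scheme.{u}} (π : T ⟶ B)
    {Z₁ Z₂ O : Scheme.{u}} (o₁ : O ⟶ Z₁) (o₂ : O ⟶ Z₂) [IsOpenImmersion o₁] [IsOpenImmersion o₂]
    (h₁ : Z₁ ⟶ B) (h₂ : Z₂ ⟶ B) (hh : o₁ ≫ h₁ = o₂ ≫ h₂)
    {X' X₁ X₂ X₁₂ : Scheme.{u}} (f' : X' ⟶ T) (j₁ : X₁ ⟶ X') (j₂ : X₂ ⟶ X')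
    [IsOpenImmersion j₁] [IsOpenImmersion j₂]
    (hcov : ∀ x : X', x ∈ Set.range j₁ ∨ x ∈ Set.range j₂)
    (q₁ : X₁₂ ⟶ X₁) (q₂ : X₁₂ ⟶ X₂) (hq : IsPullback q₁ q₂ j₁ j₂)
    (g₁ : X₁ ⟶ Z₁) (g₂ : X₂ ⟶ Z₂) (g₁₂ : X₁₂ ⟶ O)
    (H1 : IsPullback g₁ (j₁ ≫ f') h₁ π) (H2 : IsPullback g₂ (j₂ ≫ f') h₂ π)
    (H12 : IsPullback g₁₂ (q₁ ≫ j₁ ≫ f') (o₁ ≫ h₁) π)
    (e₁ : g₁₂ ≫ o₁ = q₁ ≫ g₁) (e₂ : g₁₂ ≫ o₂ = q₂ ≫ g₂) :
    ∃ g : X' ⟶ pushout o₁ o₂, IsPullback g f' (pushout.desc h₁ h₂ hh) π := by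
  have hq12 : q₁ ≫ j₁ ≫ f' = q₂ ≫ j₂ ≫ f' := by rw [← Category.assoc, hq.w, Category.assoc]
  have K1 : IsPullback g₁₂ q₁ o₁ g₁ := IsPullback.of_bot H12 e₁ H1
  have K2 : IsPullback g₁₂ q₂ o₂ g₂ := by
    refine IsPullback.of_bot ?_ e₂ H2
    rw [← hq12, ← hh]
    exact H12
  obtain ⟨g, hg1, hg2⟩ := exists_glue j₁ j₂ hcov q₁ q₂ hq (g₁ ≫ pushout.inl o₁ o₂)
    (g₂ ≫ pushout.inr o₁ o₂)
    (by rw [← Category.assoc, ← e₁, ← Category.assoc, ← e₂, Category.assoc, Category.assoc,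
      pushout.condition])
  refine ⟨g, ?_⟩
  have M1 : IsPullback g₁ j₁ (pushout.inl o₁ o₂) g := by
    refine IsOpenImmersion.isPullback _ _ _ _ hg1 (le_antisymm ?_ ?_)
    · intro x hx
      obtain ⟨z₁, hz₁⟩ := hx
      rcases hcov x with ⟨x₁, rfl⟩ | ⟨x₂, rfl⟩
      · exact ⟨x₁, rfl⟩
      · have h1 : pushout.inl o₁ o₂ z₁ = pushout.inr o₁ o₂ (g₂ x₂) := by
          rw [hz₁, ← Scheme.Hom.comp_apply, hg2, Scheme.Hom.comp_apply]
        obtain ⟨w, -, hw2⟩ := exists_of_inl_eq_inr o₁ o₂ h1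
        obtain ⟨y, -, hy2⟩ := Scheme.exists_preimage_of_isPullback K2 w x₂ hw2
        refine ⟨q₁ y, ?_⟩
        rw [← hy2, ← Scheme.Hom.comp_apply, ← Scheme.Hom.comp_apply, hq.w]
    · rintro _ ⟨x₁, rfl⟩
      refine ⟨g₁ x₁, ?_⟩
      rw [← Scheme.Hom.comp_apply, ← Scheme.Hom.comp_apply, hg1]
  have M2 : IsPullback g₂ j₂ (pushout.inr o₁ o₂) g := by
    refine IsOpenImmersion.isPullback _ _ _ _ hg2 (le_antisymm ?_ ?_)
    · intro x hx
      obtain ⟨z₂, hz₂⟩ := hx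
      rcases hcov x with ⟨x₁, rfl⟩ | ⟨x₂, rfl⟩
      · have h1 : pushout.inl o₁ o₂ (g₁ x₁) = pushout.inr o₁ o₂ z₂ := by
          rw [hz₂, ← Scheme.Hom.comp_apply, ← hg1, Scheme.Hom.comp_apply]
        obtain ⟨w, hw1, -⟩ := exists_of_inl_eq_inr o₁ o₂ h1
        obtain ⟨y, -, hy2⟩ := Scheme.exists_preimage_of_isPullback K1 w x₁ hw1
        refine ⟨q₂ y, ?_⟩
        rw [← hy2, ← Scheme.Hom.comp_apply, ← Scheme.Hom.comp_apply, hq.w]
      · exact ⟨x₂, rfl⟩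
    · rintro _ ⟨x₂, rfl⟩
      refine ⟨g₂ x₂, ?_⟩
      rw [← Scheme.Hom.comp_apply, ← Scheme.Hom.comp_apply, hg2]
  refine Scheme.isPullback_of_openCover g f' _ π (pushoutCover o₁ o₂) ?_
  rintro (_ | _)
  · show IsPullback (pullback.snd g (pushout.inl o₁ o₂))
      (pullback.fst g (pushout.inl o₁ o₂) ≫ f') (pushout.inl o₁ o₂ ≫ pushout.desc h₁ h₂ hh) π
    rw [pushout.inl_desc]
    exact H1.of_iso M1.flip.isoPullback (Iso.refl _) (Iso.refl _) (Iso.refl _) (by simp) (by simp)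
      (by simp) (by simp)
  · show IsPullback (pullback.snd g (pushout.inr o₁ o₂))
      (pullback.fst g (pushout.inr o₁ o₂) ≫ f') (pushout.inr o₁ o₂ ≫ pushout.desc h₁ h₂ hh) π
    rw [pushout.inr_desc]
    exact H2.of_iso M2.flip.isoPullback (Iso.refl _) (Iso.refl _) (Iso.refl _) (by simp) (by simp)
      (by simp) (by simp)

/-- Packaged version with the finiteness properties of the glued scheme. -/
theorem glue {T B : Scheme.{u}} (π : T ⟶ B)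
    {Z₁ Z₂ O : Scheme.{u}} (o₁ : O ⟶ Z₁) (o₂ : O ⟶ Z₂) [IsOpenImmersion o₁] [IsOpenImmersion o₂]
    (h₁ : Z₁ ⟶ B) (h₂ : Z₂ ⟶ B) (hh : o₁ ≫ h₁ = o₂ ≫ h₂)
    [LocallyOfFinitePresentation h₁] [LocallyOfFinitePresentation h₂]
    [CompactSpace Z₁] [CompactSpace Z₂] [QuasiSeparatedSpace Z₁] [QuasiSeparatedSpace Z₂]
    [CompactSpace O]
    {X' X₁ X₂ X₁₂ : Scheme.{u}} (f' : X' ⟶ T) (j₁ : X₁ ⟶ X') (j₂ : X₂ ⟶ X')
    [IsOpenImmersion j₁] [IsOpenImmersion j₂]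
    (hcov : ∀ x : X', x ∈ Set.range j₁ ∨ x ∈ Set.range j₂)
    (q₁ : X₁₂ ⟶ X₁) (q₂ : X₁₂ ⟶ X₂) (hq : IsPullback q₁ q₂ j₁ j₂)
    (g₁ : X₁ ⟶ Z₁) (g₂ : X₂ ⟶ Z₂) (g₁₂ : X₁₂ ⟶ O)
    (H1 : IsPullback g₁ (j₁ ≫ f') h₁ π) (H2 : IsPullback g₂ (j₂ ≫ f') h₂ π)
    (H12 : IsPullback g₁₂ (q₁ ≫ j₁ ≫ f') (o₁ ≫ h₁) π)
    (e₁ : g₁₂ ≫ o₁ = q₁ ≫ g₁) (e₂ : g₁₂ ≫ o₂ = q₂ ≫ g₂) :
    ∃ (P : Scheme.{u}) (h : P ⟶ B) (g : X' ⟶ P), LocallyOfFinitePresentation h ∧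
      CompactSpace P ∧ QuasiSeparatedSpace P ∧ IsPullback g f' h π := by
  obtain ⟨g, hg⟩ := glue_isPullback π o₁ o₂ h₁ h₂ hh f' j₁ j₂ hcov q₁ q₂ hq g₁ g₂ g₁₂ H1 H2 H12
    e₁ e₂
  exact ⟨pushout o₁ o₂, pushout.desc h₁ h₂ hh, g, lfp_desc o₁ o₂ h₁ h₂ hh,
    compactSpace_pushout o₁ o₂, quasiSeparatedSpace_pushout o₁ o₂, hg⟩

end Groth.Agent.Lib.GlueOpenPushoutH7
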