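import Mathlib
import Groth.Agent.S9218
import Groth.Agent.S9219

set_option autoImplicit false
set_option linter.style.haveILetI false
universe u
open CategoryTheory CategoryTheory.Limits AlgebraicGeometry

namespace Groth.Agent.Lib.LimIsoStageH7

variable {I : Type u} [SmallCategory I] [IsCofiltered I]
  (D : I ⥤ Scheme.{u}) (c : Limits.Cone D)
  [∀ (i j : I) (f : i ⟶ j), IsAffineHom (D.map f)]

lemma compact_pullback {i j : I} (φ : j ⟶ i) {Xi : Scheme.{u}} (xi : Xi ⟶ D.obj i)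
    [CompactSpace Xi] : CompactSpace ↥(pullback xi (D.map φ)) :=
  QuasiCompact.compactSpace_of_compactSpace (pullback.fst xi (D.map φ))

lemma qs_pullback {i j : I} (φ : j ⟶ i) {Xi : Scheme.{u}} (xi : Xi ⟶ D.obj i)
    [QuasiSeparatedSpace Xi] : QuasiSeparatedSpace ↥(pullback xi (D.map φ)) :=
  quasiSeparatedSpace_of_quasiSeparated (pullback.fst xi (D.map φ))

omit [IsCofiltered I] [∀ (i j : I) (f : i ⟶ j), IsAffineHom (D.map f)] in
lemma isPullback_stage {i j : I} (φ : j ⟶ i) {Xi X : Scheme.{u}} (xi : Xi ⟶ D.obj i)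
    (qX : X ⟶ Xi) (pX : X ⟶ c.pt) (hX : IsPullback qX pX xi (c.π.app i))
    (sX : X ⟶ pullback xi (D.map φ)) (h1 : sX ≫ pullback.fst xi (D.map φ) = qX)
    (h2 : sX ≫ pullback.snd xi (D.map φ) = pX ≫ c.π.app j) :
    IsPullback sX pX (pullback.snd xi (D.map φ)) (c.π.app j) := by
  refine IsPullback.of_right ?_ h2 (IsPullback.of_hasPullback xi (D.map φ))
  rw [h1, c.w φ]
  exact hX

theorem forward (hc : Limits.IsLimit c) (i₀ : I) [CompactSpace (D.obj i₀)]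
    [QuasiSeparatedSpace (D.obj i₀)]
    {X₀ Y₀ : Scheme.{u}} (a₀ : X₀ ⟶ D.obj i₀) (b₀ : Y₀ ⟶ D.obj i₀)
    [LocallyOfFinitePresentation a₀] [QuasiCompact a₀] [QuasiSeparated a₀]
    [LocallyOfFinitePresentation b₀] [QuasiCompact b₀] [QuasiSeparated b₀]
    {X Y : Scheme.{u}} (a : X ⟶ c.pt) (b : Y ⟶ c.pt) (qX : X ⟶ X₀) (qY : Y ⟶ Y₀)
    (hX : IsPullback qX a a₀ (c.π.app i₀)) (hY : IsPullback qY b b₀ (c.π.app i₀))
    (e : X ≅ Y) (he : e.hom ≫ b = a) :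
    ∃ (j : I) (φ : j ⟶ i₀) (Xj Yj : Scheme.{u}) (aj : Xj ⟶ D.obj j) (bj : Yj ⟶ D.obj j)
        (pX : Xj ⟶ X₀) (pY : Yj ⟶ Y₀), IsPullback pX aj a₀ (D.map φ) ∧
        IsPullback pY bj b₀ (D.map φ) ∧ ∃ e : Xj ≅ Yj, e.hom ≫ bj = aj := by
  haveI : CompactSpace X₀ := QuasiCompact.compactSpace_of_compactSpace a₀
  haveI : QuasiSeparatedSpace X₀ := quasiSeparatedSpace_of_quasiSeparated a₀
  haveI : CompactSpace Y₀ := QuasiCompact.compactSpace_of_compactSpace b₀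
  haveI : QuasiSeparatedSpace Y₀ := quasiSeparatedSpace_of_quasiSeparated b₀
  -- step 1: descend `e.hom`
  obtain ⟨j₁, φ₁, f₁, sX₁, sY₁, hf₁, hsX₁f, hsX₁s, hsY₁f, hsY₁s, hcomm₁⟩ :=
    Groth.Agent.S9218.result D c hc i₀ a₀ b₀ qX a hX qY b hY e.hom he
  haveI := compact_pullback D φ₁ a₀
  haveI := qs_pullback D φ₁ a₀
  haveI := compact_pullback D φ₁ b₀
  haveI := qs_pullback D φ₁ b₀
  have hX₁ := isPullback_stage D c φ₁ a₀ qX a hX sX₁ hsX₁f hsX₁s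
  have hY₁ := isPullback_stage D c φ₁ b₀ qY b hY sY₁ hsY₁f hsY₁s
  have he' : e.inv ≫ a = b := by rw [← he, Iso.inv_hom_id_assoc]
  -- step 2: descend `e.inv` (over the stage `j₁`)
  obtain ⟨j₂, φ₂, g₂, sY₂, sX₂, hg₂, hsY₂f, hsY₂s, hsX₂f, hsX₂s, hcomm₂⟩ :=
    Groth.Agent.S9218.result D c hc j₁ (pullback.snd b₀ (D.map φ₁)) (pullback.snd a₀ (D.map φ₁))
      sY₁ b hY₁ sX₁ a hX₁ e.inv he'
  haveI := compact_pullback D φ₂ (pullback.snd a₀ (D.map φ₁))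
  haveI := qs_pullback D φ₂ (pullback.snd a₀ (D.map φ₁))
  haveI := compact_pullback D φ₂ (pullback.snd b₀ (D.map φ₁))
  haveI := qs_pullback D φ₂ (pullback.snd b₀ (D.map φ₁))
  have hX₂ := isPullback_stage D c φ₂ (pullback.snd a₀ (D.map φ₁)) sX₁ a hX₁ sX₂ hsX₂f hsX₂s
  have hY₂ := isPullback_stage D c φ₂ (pullback.snd b₀ (D.map φ₁)) sY₁ b hY₁ sY₂ hsY₂f hsY₂s
  -- base change of `f₁` to the stage `j₂`
  obtain ⟨f₂, hf₂f, hf₂s⟩ : ∃ f₂ : pullback (pullback.snd a₀ (D.map φ₁)) (D.map φ₂) ⟶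
      pullback (pullback.snd b₀ (D.map φ₁)) (D.map φ₂),
      f₂ ≫ pullback.fst (pullback.snd b₀ (D.map φ₁)) (D.map φ₂) =
        pullback.fst (pullback.snd a₀ (D.map φ₁)) (D.map φ₂) ≫ f₁ ∧
      f₂ ≫ pullback.snd (pullback.snd b₀ (D.map φ₁)) (D.map φ₂) =
        pullback.snd (pullback.snd a₀ (D.map φ₁)) (D.map φ₂) :=
    ⟨pullback.lift (pullback.fst (pullback.snd a₀ (D.map φ₁)) (D.map φ₂) ≫ f₁)
      (pullback.snd (pullback.snd a₀ (D.map φ₁)) (D.map φ₂))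
      (by rw [Category.assoc, hf₁, pullback.condition]),
      pullback.lift_fst _ _ _, pullback.lift_snd _ _ _⟩
  have key₁ : sX₂ ≫ f₂ = e.hom ≫ sY₂ := by
    apply pullback.hom_ext
    · rw [Category.assoc, hf₂f, ← Category.assoc, hsX₂f, hcomm₁, Category.assoc, hsY₂f]
    · rw [Category.assoc, hf₂s, hsX₂s, Category.assoc, hsY₂s, ← Category.assoc, he]
  -- step 3: `f₂ ≫ g₂ = 𝟙` eventually
  obtain ⟨j₃, φ₃, h₃⟩ := Groth.Agent.S9219.result D c hc j₂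
    (pullback.snd (pullback.snd a₀ (D.map φ₁)) (D.map φ₂))
    (pullback.snd (pullback.snd a₀ (D.map φ₁)) (D.map φ₂)) sX₂ a hX₂ (f₂ ≫ g₂) (𝟙 _)
    (by rw [Category.assoc, hg₂, hf₂s]) (Category.id_comp _)
    (by rw [← Category.assoc, key₁, Category.assoc, hcomm₂, Iso.hom_inv_id_assoc,
      Category.comp_id])
  -- step 4: `g₂ ≫ f₂ = 𝟙` eventually
  obtain ⟨j₄, φ₄, h₄⟩ := Groth.Agent.S9219.result D c hc j₂
    (pullback.snd (pullback.snd b₀ (D.map φ₁)) (D.map φ₂))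
    (pullback.snd (pullback.snd b₀ (D.map φ₁)) (D.map φ₂)) sY₂ b hY₂ (g₂ ≫ f₂) (𝟙 _)
    (by rw [Category.assoc, hf₂s, hg₂]) (Category.id_comp _)
    (by rw [← Category.assoc, hcomm₂, Category.assoc, key₁, Iso.inv_hom_id_assoc,
      Category.comp_id])
  -- step 5: common refinement
  obtain ⟨j₅, ψ₃, ψ₄, hψ⟩ := IsCofiltered.cospan φ₃ φ₄
  obtain ⟨θ, hθ3, hθ4⟩ : ∃ θ : j₅ ⟶ j₂, θ = ψ₃ ≫ φ₃ ∧ θ = ψ₄ ≫ φ₄ := ⟨_, rfl, hψ⟩
  have hfg : pullback.fst (pullback.snd (pullback.snd a₀ (D.map φ₁)) (D.map φ₂)) (D.map θ) ≫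
      f₂ ≫ g₂ = pullback.fst (pullback.snd (pullback.snd a₀ (D.map φ₁)) (D.map φ₂)) (D.map θ) := by
    have hu : pullback.lift
        (pullback.fst (pullback.snd (pullback.snd a₀ (D.map φ₁)) (D.map φ₂)) (D.map θ))
        (pullback.snd (pullback.snd (pullback.snd a₀ (D.map φ₁)) (D.map φ₂)) (D.map θ) ≫
          D.map ψ₃)
        (by rw [pullback.condition, Category.assoc, ← D.map_comp, ← hθ3]) ≫
        pullback.fst (pullback.snd (pullback.snd a₀ (D.map φ₁)) (D.map φ₂)) (D.map φ₃) =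
        pullback.fst (pullback.snd (pullback.snd a₀ (D.map φ₁)) (D.map φ₂)) (D.map θ) :=
      pullback.lift_fst _ _ _
    rw [← hu, Category.assoc, h₃, Category.comp_id]
  have hgf : pullback.fst (pullback.snd (pullback.snd b₀ (D.map φ₁)) (D.map φ₂)) (D.map θ) ≫
      g₂ ≫ f₂ = pullback.fst (pullback.snd (pullback.snd b₀ (D.map φ₁)) (D.map φ₂)) (D.map θ) := by
    have hu : pullback.lift
        (pullback.fst (pullback.snd (pullback.snd b₀ (D.map φ₁)) (D.map φ₂)) (D.map θ))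
        (pullback.snd (pullback.snd (pullback.snd b₀ (D.map φ₁)) (D.map φ₂)) (D.map θ) ≫
          D.map ψ₄)
        (by rw [pullback.condition, Category.assoc, ← D.map_comp, ← hθ4]) ≫
        pullback.fst (pullback.snd (pullback.snd b₀ (D.map φ₁)) (D.map φ₂)) (D.map φ₄) =
        pullback.fst (pullback.snd (pullback.snd b₀ (D.map φ₁)) (D.map φ₂)) (D.map θ) :=
      pullback.lift_fst _ _ _
    rw [← hu, Category.assoc, h₄, Category.comp_id]
  refine ⟨j₅, θ ≫ φ₂ ≫ φ₁, pullback (pullback.snd (pullback.snd a₀ (D.map φ₁)) (D.map φ₂)) (D.map θ),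
    pullback (pullback.snd (pullback.snd b₀ (D.map φ₁)) (D.map φ₂)) (D.map θ),
    pullback.snd _ _, pullback.snd _ _,
    pullback.fst _ _ ≫ pullback.fst _ _ ≫ pullback.fst _ _,
    pullback.fst _ _ ≫ pullback.fst _ _ ≫ pullback.fst _ _, ?_, ?_, ?_⟩
  · have := (IsPullback.of_hasPullback (pullback.snd (pullback.snd a₀ (D.map φ₁)) (D.map φ₂))
      (D.map θ)).paste_horiz ((IsPullback.of_hasPullback (pullback.snd a₀ (D.map φ₁))
        (D.map φ₂)).paste_horiz (IsPullback.of_hasPullback a₀ (D.map φ₁)))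
    rw [D.map_comp, D.map_comp]
    exact this
  · have := (IsPullback.of_hasPullback (pullback.snd (pullback.snd b₀ (D.map φ₁)) (D.map φ₂))
      (D.map θ)).paste_horiz ((IsPullback.of_hasPullback (pullback.snd b₀ (D.map φ₁))
        (D.map φ₂)).paste_horiz (IsPullback.of_hasPullback b₀ (D.map φ₁)))
    rw [D.map_comp, D.map_comp]
    exact this
  · refine ⟨⟨pullback.lift (pullback.fst _ _ ≫ f₂) (pullback.snd _ _)
        (by rw [Category.assoc, hf₂s, pullback.condition]),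
      pullback.lift (pullback.fst _ _ ≫ g₂) (pullback.snd _ _)
        (by rw [Category.assoc, hg₂, pullback.condition]), ?_, ?_⟩, pullback.lift_snd _ _ _⟩
    · apply pullback.hom_ext
      · rw [Category.assoc, pullback.lift_fst, ← Category.assoc, pullback.lift_fst,
          Category.assoc, hfg, Category.id_comp]
      · rw [Category.assoc, pullback.lift_snd, pullback.lift_snd, Category.id_comp]
    · apply pullback.hom_ext
      · rw [Category.assoc, pullback.lift_fst, ← Category.assoc, pullback.lift_fst,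
          Category.assoc, hgf, Category.id_comp]
      · rw [Category.assoc, pullback.lift_snd, pullback.lift_snd, Category.id_comp]

omit [IsCofiltered I] [∀ (i j : I) (f : i ⟶ j), IsAffineHom (D.map f)] in
theorem backward (i₀ : I) {X₀ Y₀ : Scheme.{u}} (a₀ : X₀ ⟶ D.obj i₀) (b₀ : Y₀ ⟶ D.obj i₀)
    {X Y : Scheme.{u}} (a : X ⟶ c.pt) (b : Y ⟶ c.pt) (qX : X ⟶ X₀) (qY : Y ⟶ Y₀)
    (hX : IsPullback qX a a₀ (c.π.app i₀)) (hY : IsPullback qY b b₀ (c.π.app i₀))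
    (j : I) (φ : j ⟶ i₀) (Xj Yj : Scheme.{u}) (aj : Xj ⟶ D.obj j) (bj : Yj ⟶ D.obj j)
    (pX : Xj ⟶ X₀) (pY : Yj ⟶ Y₀) (hXj : IsPullback pX aj a₀ (D.map φ))
    (hYj : IsPullback pY bj b₀ (D.map φ))
    (e : Xj ≅ Yj) (he : e.hom ≫ bj = aj) : ∃ e : X ≅ Y, e.hom ≫ b = a := by
  have hwX : qX ≫ a₀ = (a ≫ c.π.app j) ≫ D.map φ := by
    rw [Category.assoc, c.w φ]; exact hX.w
  have hwY : qY ≫ b₀ = (b ≫ c.π.app j) ≫ D.map φ := by
    rw [Category.assoc, c.w φ]; exact hY.w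
  obtain ⟨sX, hsX⟩ : ∃ sX : X ⟶ Xj, IsPullback sX a aj (c.π.app j) := by
    refine ⟨hXj.lift qX (a ≫ c.π.app j) hwX, ?_⟩
    refine IsPullback.of_right ?_ (hXj.lift_snd _ _ _) hXj
    rw [hXj.lift_fst, c.w φ]; exact hX
  obtain ⟨sY, hsY⟩ : ∃ sY : Y ⟶ Yj, IsPullback sY b bj (c.π.app j) := by
    refine ⟨hYj.lift qY (b ≫ c.π.app j) hwY, ?_⟩
    refine IsPullback.of_right ?_ (hYj.lift_snd _ _ _) hYj
    rw [hYj.lift_fst, c.w φ]; exact hY
  have he' : e.inv ≫ aj = bj := by rw [← he, Iso.inv_hom_id_assoc]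
  refine ⟨⟨hsY.lift (sX ≫ e.hom) a (by rw [Category.assoc, he, hsX.w]),
    hsX.lift (sY ≫ e.inv) b (by rw [Category.assoc, he', hsY.w]), ?_, ?_⟩, hsY.lift_snd _ _ _⟩
  · apply hsX.hom_ext
    · rw [Category.assoc, hsX.lift_fst, ← Category.assoc, hsY.lift_fst, Category.assoc,
        Iso.hom_inv_id, Category.comp_id, Category.id_comp]
    · rw [Category.assoc, hsX.lift_snd, hsY.lift_snd, Category.id_comp]
  · apply hsY.hom_ext
    · rw [Category.assoc, hsY.lift_fst, ← Category.assoc, hsX.lift_fst, Category.assoc,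
        Iso.inv_hom_id, Category.comp_id, Category.id_comp]
    · rw [Category.assoc, hsY.lift_snd, hsX.lift_snd, Category.id_comp]

theorem main4795 (hc : Limits.IsLimit c) (i₀ : I)
    [CompactSpace (D.obj i₀)] [QuasiSeparatedSpace (D.obj i₀)]
    {X₀ Y₀ : Scheme.{u}} (a₀ : X₀ ⟶ D.obj i₀) (b₀ : Y₀ ⟶ D.obj i₀)
    [LocallyOfFinitePresentation a₀] [QuasiCompact a₀] [QuasiSeparated a₀]
    [LocallyOfFinitePresentation b₀] [QuasiCompact b₀] [QuasiSeparated b₀]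
    {X Y : Scheme.{u}} (a : X ⟶ c.pt) (b : Y ⟶ c.pt) (qX : X ⟶ X₀) (qY : Y ⟶ Y₀)
    (hX : IsPullback qX a a₀ (c.π.app i₀)) (hY : IsPullback qY b b₀ (c.π.app i₀)) :
    (∃ e : X ≅ Y, e.hom ≫ b = a) ↔
      ∃ (j : I) (φ : j ⟶ i₀) (Xj Yj : Scheme.{u}) (aj : Xj ⟶ D.obj j) (bj : Yj ⟶ D.obj j)
        (pX : Xj ⟶ X₀) (pY : Yj ⟶ Y₀), IsPullback pX aj a₀ (D.map φ) ∧
        IsPullback pY bj b₀ (D.map φ) ∧ ∃ e : Xj ≅ Yj, e.hom ≫ bj = aj := by
  constructor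
  · rintro ⟨e, he⟩
    exact forward D c hc i₀ a₀ b₀ a b qX qY hX hY e he
  · rintro ⟨j, φ, Xj, Yj, aj, bj, pX, pY, h1, h2, e, he⟩
    exact backward D c i₀ a₀ b₀ a b qX qY hX hY j φ Xj Yj aj bj pX pY h1 h2 e he

end Groth.Agent.Lib.LimIsoStageH7
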