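import Mathlib
import Groth.Agent.Lib.LimConstr_helper9

/-!
# Zariski coverings of a cofiltered limit descend to a stage (helper7)
-/

set_option autoImplicit false
set_option linter.style.haveILetI false
universe u
open CategoryTheory CategoryTheory.Limits AlgebraicGeometry Topology TopologicalSpace

namespace Groth.Agent.Lib.LimZarCovH7

/-- an open immersion whose range is the preimage of an open is the base change of the
inclusion of that open -/
theorem isPullback_of_preimage_eq {X Y U : Scheme.{u}} (π : X ⟶ Y) (W : Y.Opens) (f : U ⟶ X)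
    [IsOpenImmersion f] (h : π ⁻¹ᵁ W = f.opensRange) :
    ∃ e : U ⟶ (W : Scheme.{u}), IsPullback e f W.ι π := by
  have H : Set.range (f ≫ π) ⊆ Set.range W.ι := by
    rintro _ ⟨y, rfl⟩
    rw [Scheme.Opens.range_ι]
    have h1 : f y ∈ π ⁻¹ᵁ W := by
      rw [h]
      exact ⟨y, rfl⟩
    rw [Scheme.Hom.comp_apply]
    exact h1
  refine ⟨IsOpenImmersion.lift W.ι (f ≫ π) H,
    IsOpenImmersion.isPullback _ _ _ _ (IsOpenImmersion.lift_fac _ _ _).symm ?_⟩
  rw [Scheme.Opens.opensRange_ι, h]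

theorem main20010 {I : Type u} [SmallCategory I] [IsCofiltered I]
    (D : I ⥤ Scheme.{u}) (c : Cone D) (hc : IsLimit c)
    [∀ (i j : I) (t : i ⟶ j), IsAffineHom (D.map t)] (i₀ : I) [CompactSpace (D.obj i₀)]
    [QuasiSeparatedSpace (D.obj i₀)] {ι : Type u} (U : ι → Scheme.{u}) (u : ∀ a, U a ⟶ c.pt)
    [∀ a, IsOpenImmersion (u a)] [∀ a, QuasiCompact (u a)]
    (hcov : ∀ x : c.pt, ∃ (a : ι) (y : U a), (u a).base y = x) :
    ∃ (i : I) (n : ℕ) (V : Fin n → Scheme.{u}) (v : ∀ j, V j ⟶ D.obj i) (a : Fin n → ι)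
      (e : ∀ j, U (a j) ⟶ V j),
      (∀ j, IsOpenImmersion (v j) ∧ QuasiCompact (v j)) ∧
      (∀ x : D.obj i, ∃ (j : Fin n) (y : V j), (v j).base y = x) ∧
      ∀ j, IsPullback (e j) (u (a j)) (v j) (c.π.app i) := by
  classical
  haveI hA' : ∀ {i j : I} (f : i ⟶ j), IsAffineHom (D.map f) := fun f => inferInstance
  haveI : CompactSpace c.pt := LimConstr.compactSpace_pt D c hc i₀
  have hcov' : (Set.univ : Set c.pt) ⊆ ⋃ a, ((u a).opensRange : Set c.pt) := by
    intro x _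
    obtain ⟨a, y, hy⟩ := hcov x
    exact Set.mem_iUnion.mpr ⟨a, y, hy⟩
  obtain ⟨t, ht⟩ := isCompact_univ.elim_finite_subcover
    (fun a => ((u a).opensRange : Set c.pt)) (fun a => (u a).opensRange.2) hcov'
  have hO : ∀ a, IsCompact ((u a).opensRange : Set c.pt) := by
    intro a
    haveI : CompactSpace (U a) := QuasiCompact.compactSpace_of_compactSpace (u a)
    exact isCompact_range (u a).continuous
  choose i V hV hVi using fun a : ι => exists_preimage_eq D c hc (u a).opensRange (hO a)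
  obtain ⟨j, fj⟩ := IsCofiltered.inf_objs_exists (insert i₀ (t.image i))
  have φ₀ : j ⟶ i₀ := (fj (Finset.mem_insert_self _ _)).some
  have φ : ∀ a : t, j ⟶ i a.1 := fun a =>
    (fj (Finset.mem_insert_of_mem (Finset.mem_image_of_mem i a.2))).some
  haveI : CompactSpace (D.obj j) := QuasiCompact.compactSpace_of_compactSpace (D.map φ₀)
  haveI : QuasiSeparatedSpace (D.obj j) := quasiSeparatedSpace_of_quasiSeparated (D.map φ₀)
  let W : t → (D.obj j).Opens := fun a => D.map (φ a) ⁻¹ᵁ V a.1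
  have hW : ∀ a : t, IsCompact (W a : Set (D.obj j)) := fun a =>
    QuasiCompact.isCompact_preimage (f := D.map (φ a)) _ (V a.1).2 (hV a.1)
  have hWπ : ∀ a : t, c.π.app j ⁻¹ᵁ W a = (u a.1).opensRange := by
    intro a
    show c.π.app j ⁻¹ᵁ (D.map (φ a) ⁻¹ᵁ V a.1) = _
    rw [← Scheme.Hom.comp_preimage, c.w, hVi]
  have hZ : IsConstructible ((⋃ a : t, (W a : Set (D.obj j)))ᶜ) :=
    ((isCompact_iUnion hW).isConstructible (isOpen_iUnion fun a => (W a).2)).compl
  have hempty : (c.π.app j) ⁻¹' ((⋃ a : t, (W a : Set (D.obj j)))ᶜ) = ∅ := by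
    rw [Set.preimage_compl, Set.compl_empty_iff, Set.preimage_iUnion, Set.eq_univ_iff_forall]
    intro x
    obtain ⟨a, ha, hx⟩ := Set.mem_iUnion₂.mp (ht (Set.mem_univ x))
    refine Set.mem_iUnion.mpr ⟨⟨a, ha⟩, ?_⟩
    have h1 : x ∈ c.π.app j ⁻¹ᵁ W ⟨a, ha⟩ := by
      rw [hWπ]
      exact hx
    exact h1
  obtain ⟨k, ψ, hk⟩ := LimSurjH7.exists_preimage_eq_empty D c hc j hZ hempty
  haveI : QuasiSeparatedSpace (D.obj k) := quasiSeparatedSpace_of_quasiSeparated (D.map ψ)
  let W' : t → (D.obj k).Opens := fun a => D.map ψ ⁻¹ᵁ W a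
  have hW' : ∀ a : t, IsCompact (W' a : Set (D.obj k)) := fun a =>
    QuasiCompact.isCompact_preimage (f := D.map ψ) _ (W a).2 (hW a)
  have hW'π : ∀ a : t, c.π.app k ⁻¹ᵁ W' a = (u a.1).opensRange := by
    intro a
    show c.π.app k ⁻¹ᵁ (D.map ψ ⁻¹ᵁ W a) = _
    rw [← Scheme.Hom.comp_preimage, c.w, hWπ]
  have hcovk : ∀ x : D.obj k, ∃ a : t, x ∈ W' a := by
    intro x
    by_contra hx
    push_neg at hx
    have : x ∈ (D.map ψ) ⁻¹' ((⋃ a : t, (W a : Set (D.obj j)))ᶜ) := by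
      rw [Set.mem_preimage, Set.mem_compl_iff, Set.mem_iUnion]
      rintro ⟨a, ha⟩
      exact hx a ha
    rw [hk] at this
    exact this
  choose e he using fun a : t =>
    isPullback_of_preimage_eq (c.π.app k) (W' a) (u a.1) (hW'π a)
  refine ⟨k, t.card, fun m => ((W' (t.equivFin.symm m) : (D.obj k).Opens) : Scheme.{u}),
    fun m => (W' (t.equivFin.symm m)).ι, fun m => (t.equivFin.symm m).1,
    fun m => e (t.equivFin.symm m), ?_, ?_, ?_⟩
  · intro m
    refine ⟨inferInstance, ?_⟩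
    haveI : CompactSpace ((W' (t.equivFin.symm m) : (D.obj k).Opens) : Scheme.{u}) :=
      isCompact_iff_compactSpace.mp (hW' (t.equivFin.symm m))
    infer_instance
  · intro x
    obtain ⟨a, ha⟩ := hcovk x
    refine ⟨t.equivFin a, ⟨x, ?_⟩, rfl⟩
    rw [Equiv.symm_apply_apply]
    exact ha
  · intro m
    exact he (t.equivFin.symm m)

end Groth.Agent.Lib.LimZarCovH7
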