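import Mathlib
import Groth.Agent.Lib.GlueOpenPushout_helper7
import Groth.Agent.Lib.LimIsoStage2_helper7
import Groth.Agent.Lib.LimZarCov_helper7

/-!
# Descending finitely presented schemes along cofiltered limits: the gluing step (helper7)

`DescOAt D c h R i`: the morphism `h : Z ⟶ lim D` is the base change of a morphism of finite
presentation `Zi ⟶ D i` (with `Zi` qcqs), and the open `R ⊆ Z` is the preimage of a compact open of
`Zi`.  Main results: `DescOAt.mono` (change of stage), `exists_descO` (compact opens descend),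
`glueStep` (two-piece gluing).
-/

set_option autoImplicit false
set_option linter.style.haveILetI false
universe u
open CategoryTheory CategoryTheory.Limits AlgebraicGeometry Topology TopologicalSpace

namespace Groth.Agent.Lib.LimDescFPH7
open Groth.Agent.Lib.LimBaseChangeH7 Groth.Agent.Lib.LimIsoStageH7

variable {I : Type u} [SmallCategory I] [IsCofiltered I]
  (D : I ⥤ Scheme.{u}) (c : Cone D)
  [∀ (i j : I) (f : i ⟶ j), IsAffineHom (D.map f)]

/-- `h` descends to the stage `i`, and `R` is the preimage of a compact open at that stage. -/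
def DescOAt {Z : Scheme.{u}} (h : Z ⟶ c.pt) (R : Z.Opens) (i : I) : Prop :=
  ∃ (Zi : Scheme.{u}) (hi : Zi ⟶ D.obj i) (g : Z ⟶ Zi) (V : Zi.Opens),
    LocallyOfFinitePresentation hi ∧ CompactSpace Zi ∧ QuasiSeparatedSpace Zi ∧
    IsPullback g h hi (c.π.app i) ∧ IsCompact (V : Set Zi) ∧ g ⁻¹ᵁ V = R

variable {D c}

theorem DescOAt.mono {Z : Scheme.{u}} {h : Z ⟶ c.pt} {R : Z.Opens} {i j : I} (φ : j ⟶ i)
    (hd : DescOAt D c h R i) : DescOAt D c h R j := by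
  obtain ⟨Zi, hi, g, V, hlfp, hcpt, hqs, hpb, hV, hVR⟩ := hd
  haveI := hlfp
  haveI := hcpt
  haveI := hqs
  have hw : g ≫ hi = (h ≫ c.π.app j) ≫ D.map φ := by
    rw [Category.assoc, c.w φ]
    exact hpb.w
  refine ⟨pullback hi (D.map φ), pullback.snd _ _, pullback.lift g (h ≫ c.π.app j) hw,
    pullback.fst hi (D.map φ) ⁻¹ᵁ V, inferInstance, compact_pullback D φ hi, qs_pullback D φ hi,
    isPullback_stage D c φ hi g h hpb _ (pullback.lift_fst _ _ _) (pullback.lift_snd _ _ _), ?_, ?_⟩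
  · exact QuasiCompact.isCompact_preimage (f := pullback.fst hi (D.map φ)) _ V.2 hV
  · rw [← Scheme.Hom.comp_preimage, pullback.lift_fst, hVR]

theorem DescOAt.top {Z : Scheme.{u}} {h : Z ⟶ c.pt} {R : Z.Opens} {i : I}
    (hd : DescOAt D c h R i) : DescOAt D c h ⊤ i := by
  obtain ⟨Zi, hi, g, V, hlfp, hcpt, hqs, hpb, hV, hVR⟩ := hd
  haveI := hcpt
  exact ⟨Zi, hi, g, ⊤, hlfp, hcpt, hqs, hpb, by rw [Opens.coe_top]; exact isCompact_univ, rfl⟩

theorem exists_descO (hc : IsLimit c) {Z W : Scheme.{u}} (h : Z ⟶ c.pt) (q : W ⟶ Z)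
    [IsOpenImmersion q] [CompactSpace W] {i : I} (hd : DescOAt D c h ⊤ i) :
    ∃ (j : I), DescOAt D c h q.opensRange j := by
  obtain ⟨Zi, hi, g, -, hlfp, hcpt, hqs, hpb, -, -⟩ := hd
  haveI := hlfp
  haveI := hcpt
  haveI := hqs
  haveI hA' : ∀ {j k : Over i} (f : j ⟶ k), IsAffineHom ((bcDiagram D i hi).map f) :=
    fun f => inferInstance
  have hq : IsCompact (q.opensRange : Set Z) := isCompact_range q.continuous
  obtain ⟨j, V, hV, hVR⟩ := exists_preimage_eq (bcDiagram D i hi) (bcCone c hpb)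
    (isLimitBcCone c hpb hc) q.opensRange hq
  exact ⟨j.left, pullback hi (D.map j.hom), pullback.snd _ _, (bcCone c hpb).π.app j, V,
    inferInstance, compact_pullback D j.hom hi, qs_pullback D j.hom hi,
    isPullback_bcCone_π c hpb j, hV, hVR⟩

theorem glueStep (hc : IsLimit c) {X' X₁ X₂ X₁₂ : Scheme.{u}} (f' : X' ⟶ c.pt)
    (j₁ : X₁ ⟶ X') (j₂ : X₂ ⟶ X') [IsOpenImmersion j₁] [IsOpenImmersion j₂]
    (hcov : ∀ x : X', x ∈ Set.range j₁ ∨ x ∈ Set.range j₂)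
    (q₁ : X₁₂ ⟶ X₁) (q₂ : X₁₂ ⟶ X₂) (hq : IsPullback q₁ q₂ j₁ j₂) [CompactSpace X₁₂]
    {i₁ i₂ : I} (d₁ : DescOAt D c (j₁ ≫ f') ⊤ i₁) (d₂ : DescOAt D c (j₂ ≫ f') ⊤ i₂) :
    ∃ i, DescOAt D c f' ⊤ i := by
  haveI : IsOpenImmersion q₂ :=
    MorphismProperty.of_isPullback (P := @IsOpenImmersion) hq (inferInstance : IsOpenImmersion j₁)
  haveI : IsOpenImmersion q₁ :=
    MorphismProperty.of_isPullback (P := @IsOpenImmersion) hq.flip
      (inferInstance : IsOpenImmersion j₂)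
  obtain ⟨k₁, d₁'⟩ := exists_descO hc (j₁ ≫ f') q₁ d₁
  obtain ⟨k₂, d₂'⟩ := exists_descO hc (j₂ ≫ f') q₂ d₂
  obtain ⟨Z₁, h₁, g₁, V₁, lfp₁, cpt₁, qs₁, H1, hV₁, hVR₁⟩ :=
    d₁'.mono (IsCofiltered.minToLeft k₁ k₂)
  obtain ⟨Z₂, h₂, g₂, V₂, lfp₂, cpt₂, qs₂, H2, hV₂, hVR₂⟩ :=
    d₂'.mono (IsCofiltered.minToRight k₁ k₂)
  generalize IsCofiltered.min k₁ k₂ = k at *
  haveI := lfp₁
  haveI := lfp₂
  haveI := cpt₁
  haveI := cpt₂
  haveI := qs₁
  haveI := qs₂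
  obtain ⟨e₁, E1⟩ := LimZarCovH7.isPullback_of_preimage_eq g₁ V₁ q₁ hVR₁
  obtain ⟨e₂, E2⟩ := LimZarCovH7.isPullback_of_preimage_eq g₂ V₂ q₂ hVR₂
  have B1 : IsPullback e₁ (q₁ ≫ j₁ ≫ f') (V₁.ι ≫ h₁) (c.π.app k) := E1.paste_vert H1
  have B2 : IsPullback e₂ (q₂ ≫ j₂ ≫ f') (V₂.ι ≫ h₂) (c.π.app k) := E2.paste_vert H2
  have hq12 : q₁ ≫ j₁ ≫ f' = q₂ ≫ j₂ ≫ f' := by rw [← Category.assoc, hq.w, Category.assoc]
  haveI : CompactSpace ↥(V₁ : Scheme.{u}) := isCompact_iff_compactSpace.mp hV₁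
  haveI : CompactSpace ↥(V₂ : Scheme.{u}) := isCompact_iff_compactSpace.mp hV₂
  haveI : QuasiSeparatedSpace ↥(V₁ : Scheme.{u}) := V₁.ι.isOpenEmbedding.quasiSeparatedSpace
  haveI : QuasiSeparatedSpace ↥(V₂ : Scheme.{u}) := V₂.ι.isOpenEmbedding.quasiSeparatedSpace
  obtain ⟨j, φ, Xj, Yj, aj, bj, pX, pY, θ, sX, sY, hXj, hYj, hθ, hsXp, hsXa, hsYp, hsYb, hcomp⟩ :=
    LimIsoStage2H7.forward' D c hc k (V₁.ι ≫ h₁) (V₂.ι ≫ h₂) (q₁ ≫ j₁ ≫ f') (q₂ ≫ j₂ ≫ f')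
      e₁ e₂ B1 B2 (Iso.refl X₁₂) (by rw [Iso.refl_hom, Category.id_comp, hq12])
  rw [Iso.refl_hom, Category.id_comp] at hcomp
  -- the stage `j`
  let o₁ : Xj ⟶ pullback h₁ (D.map φ) := pullback.lift (pX ≫ V₁.ι) aj
    (by rw [Category.assoc]; exact hXj.w)
  let o₂' : Yj ⟶ pullback h₂ (D.map φ) := pullback.lift (pY ≫ V₂.ι) bj
    (by rw [Category.assoc]; exact hYj.w)
  have P1 : IsPullback pX o₁ V₁.ι (pullback.fst h₁ (D.map φ)) := by
    refine IsPullback.of_bot ?_ (pullback.lift_fst _ _ _).symm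
      (IsPullback.of_hasPullback h₁ (D.map φ))
    rw [pullback.lift_snd]
    exact hXj
  have P2 : IsPullback pY o₂' V₂.ι (pullback.fst h₂ (D.map φ)) := by
    refine IsPullback.of_bot ?_ (pullback.lift_fst _ _ _).symm
      (IsPullback.of_hasPullback h₂ (D.map φ))
    rw [pullback.lift_snd]
    exact hYj
  haveI : IsOpenImmersion o₁ :=
    MorphismProperty.of_isPullback (P := @IsOpenImmersion) P1 (inferInstance : IsOpenImmersion V₁.ι)
  haveI : IsOpenImmersion o₂' :=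
    MorphismProperty.of_isPullback (P := @IsOpenImmersion) P2 (inferInstance : IsOpenImmersion V₂.ι)
  have hw₁ : g₁ ≫ h₁ = ((j₁ ≫ f') ≫ c.π.app j) ≫ D.map φ := by
    rw [Category.assoc, c.w φ]
    exact H1.w
  have hw₂ : g₂ ≫ h₂ = ((j₂ ≫ f') ≫ c.π.app j) ≫ D.map φ := by
    rw [Category.assoc, c.w φ]
    exact H2.w
  have H1' := isPullback_stage D c φ h₁ g₁ (j₁ ≫ f') H1
    (pullback.lift g₁ ((j₁ ≫ f') ≫ c.π.app j) hw₁) (pullback.lift_fst _ _ _)
    (pullback.lift_snd _ _ _)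
  have H2' := isPullback_stage D c φ h₂ g₂ (j₂ ≫ f') H2
    (pullback.lift g₂ ((j₂ ≫ f') ≫ c.π.app j) hw₂) (pullback.lift_fst _ _ _)
    (pullback.lift_snd _ _ _)
  have H12 : IsPullback sX (q₁ ≫ j₁ ≫ f') aj (c.π.app j) := by
    refine IsPullback.of_right ?_ hsXa hXj
    rw [hsXp, c.w φ]
    exact B1
  have H12' : IsPullback sX (q₁ ≫ j₁ ≫ f') (o₁ ≫ pullback.snd h₁ (D.map φ)) (c.π.app j) := by
    rw [pullback.lift_snd]
    exact H12
  have hh : o₁ ≫ pullback.snd h₁ (D.map φ) = (θ.hom ≫ o₂') ≫ pullback.snd h₂ (D.map φ) := by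
    rw [pullback.lift_snd, Category.assoc, pullback.lift_snd, hθ]
  have e₁' : sX ≫ o₁ = q₁ ≫ pullback.lift g₁ ((j₁ ≫ f') ≫ c.π.app j) hw₁ := by
    apply pullback.hom_ext
    · rw [Category.assoc, pullback.lift_fst, reassoc_of% hsXp, E1.w, Category.assoc,
        pullback.lift_fst]
    · rw [Category.assoc, pullback.lift_snd, hsXa]
      simp only [Category.assoc, pullback.lift_snd]
  have e₂' : sX ≫ θ.hom ≫ o₂' = q₂ ≫ pullback.lift g₂ ((j₂ ≫ f') ≫ c.π.app j) hw₂ := by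
    rw [reassoc_of% hcomp]
    apply pullback.hom_ext
    · rw [Category.assoc, pullback.lift_fst, reassoc_of% hsYp, E2.w, Category.assoc,
        pullback.lift_fst]
    · rw [Category.assoc, pullback.lift_snd, hsYb]
      simp only [Category.assoc, pullback.lift_snd]
  haveI := compact_pullback D φ h₁
  haveI := compact_pullback D φ h₂
  haveI := qs_pullback D φ h₁
  haveI := qs_pullback D φ h₂
  haveI : IsAffineHom pX :=
    MorphismProperty.of_isPullback (P := @IsAffineHom) hXj.flip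
      (inferInstance : IsAffineHom (D.map φ))
  haveI : CompactSpace Xj := QuasiCompact.compactSpace_of_compactSpace pX
  obtain ⟨P, h, g, hlfp, hcpt, hqs, hpb⟩ := GlueOpenPushoutH7.glue (c.π.app j) o₁ (θ.hom ≫ o₂')
    (pullback.snd h₁ (D.map φ)) (pullback.snd h₂ (D.map φ)) hh f' j₁ j₂ hcov q₁ q₂ hq
    (pullback.lift g₁ ((j₁ ≫ f') ≫ c.π.app j) hw₁) (pullback.lift g₂ ((j₂ ≫ f') ≫ c.π.app j) hw₂)
    sX H1' H2' H12' e₁' e₂'
  haveI := hcpt
  exact ⟨j, P, h, g, ⊤, hlfp, hcpt, hqs, hpb, by rw [Opens.coe_top]; exact isCompact_univ, rfl⟩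

end Groth.Agent.Lib.LimDescFPH7
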