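import Mathlib.RingTheory.Extension.Presentation.Core
import Mathlib.RingTheory.IsTensorProduct
import Mathlib.AlgebraicGeometry.Morphisms.FinitePresentation
import Mathlib.AlgebraicGeometry.Pullbacks
import Mathlib.Algebra.Category.Ring.Constructions

/-!
# Noetherian approximation of a finitely presented algebra / affine morphism

* `exists_model_of_finitePresentation`: a finitely presented `A`-algebra `B` is the base change of
  a finitely presented `A₀`-algebra `B₀` with `A₀` a finitely generated `ℤ`-subalgebra of `A`.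
* `exists_isPullback_of_finitePresentation`: scheme version for a morphism of affine schemes.
-/

set_option autoImplicit false
universe u

namespace Groth.Agent.Lib.NoethApprox_helper5

open TensorProduct

/-- Algebraic Noetherian approximation. -/
theorem exists_model_of_finitePresentation (A B : Type u) [CommRing A] [CommRing B] [Algebra A B]
    [Algebra.FinitePresentation A B] :
    ∃ (A₀ : Subalgebra ℤ A) (B₀ : Type u) (_ : CommRing B₀) (_ : Algebra A₀ B₀),
      A₀.FG ∧ Algebra.FinitePresentation A₀ B₀ ∧ Nonempty (A ⊗[A₀] B₀ ≃ₐ[A] B) := by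
  let P := Algebra.Presentation.ofFinitePresentation A B
  let A₀ : Subalgebra ℤ A := Algebra.adjoin ℤ P.coeffs
  have : P.HasCoeffs A₀ := ⟨by simp [A₀]⟩
  exact ⟨A₀, (P.ModelOfHasCoeffs A₀ :), inferInstance, inferInstance,
    ⟨P.finite_coeffs.toFinset, by simp [A₀]⟩, inferInstance,
    ⟨P.tensorModelOfHasCoeffsEquiv A₀⟩⟩

open AlgebraicGeometry CategoryTheory Limits

/-- Pushout square in `CommRingCat` from a tensor product presentation `A ⊗[A₀] B₀ ≃ₐ[A] B`. -/
theorem isPushout_of_tensorEquiv (A₀ A B₀ B : Type u) [CommRing A₀] [CommRing A] [CommRing B₀]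
    [CommRing B] [Algebra A₀ A] [Algebra A₀ B₀] [Algebra A B] (e : A ⊗[A₀] B₀ ≃ₐ[A] B) :
    IsPushout (CommRingCat.ofHom (algebraMap A₀ A)) (CommRingCat.ofHom (algebraMap A₀ B₀))
      (CommRingCat.ofHom (algebraMap A B))
      (CommRingCat.ofHom ((e : A ⊗[A₀] B₀ →+* B).comp
        (Algebra.TensorProduct.includeRight (R := A₀) (A := A) (B := B₀)).toRingHom)) := by
  refine (CommRingCat.isPushout_tensorProduct A₀ A B₀).of_iso (Iso.refl _) (Iso.refl _) (Iso.refl _)
    (e.toRingEquiv.toCommRingCatIso) (by simp) (by simp) ?_ ?_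
  · ext x
    have : e (x ⊗ₜ[A₀] 1) = algebraMap A B x := by
      have h1 : x ⊗ₜ[A₀] (1 : B₀) = algebraMap A (A ⊗[A₀] B₀) x := rfl
      rw [h1, e.commutes]
    simpa using this
  · ext x
    simp

/-- Noetherian approximation for a finitely presented morphism of affine schemes. -/
theorem exists_isPullback_of_finitePresentation {X S : Scheme.{u}} (f : X ⟶ S) [IsAffine X]
    [IsAffine S] [LocallyOfFinitePresentation f] :
    ∃ (A₀ B₀ : Type u) (_ : CommRing A₀) (_ : CommRing B₀) (φ₀ : A₀ →+* B₀)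
      (g : S ⟶ Spec (CommRingCat.of A₀)) (g' : X ⟶ Spec (CommRingCat.of B₀)),
      Algebra.FiniteType ℤ A₀ ∧ φ₀.FinitePresentation ∧
      IsPullback g' f (Spec.map (CommRingCat.ofHom φ₀)) g := by
  have hf : f.appTop.hom.FinitePresentation := f.finitePresentation_appTop
  algebraize [f.appTop.hom]
  obtain ⟨A₀, B₀, _, _, hfg, hfp, ⟨e⟩⟩ := exists_model_of_finitePresentation Γ(S, ⊤) Γ(X, ⊤)
  have hpo := isPushout_of_tensorEquiv A₀ Γ(S, ⊤) B₀ Γ(X, ⊤) e
  have hpb := isPullback_SpecMap_of_isPushout _ _ _ _ hpo.flip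
  refine ⟨A₀, B₀, inferInstance, inferInstance, algebraMap A₀ B₀,
    S.isoSpec.hom ≫ Spec.map (CommRingCat.ofHom (algebraMap A₀ Γ(S, ⊤))),
    X.isoSpec.hom ≫ Spec.map (CommRingCat.ofHom ((e : Γ(S, ⊤) ⊗[A₀] B₀ →+* Γ(X, ⊤)).comp
        (Algebra.TensorProduct.includeRight (R := A₀) (A := Γ(S, ⊤)) (B := B₀)).toRingHom)),
    (Subalgebra.fg_iff_finiteType A₀).mp hfg, RingHom.finitePresentation_algebraMap.mpr hfp, ?_⟩
  refine hpb.of_iso X.isoSpec.symm (Iso.refl _) S.isoSpec.symm (Iso.refl _) ?_ ?_ ?_ ?_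
  · simp
  · simp only [Iso.symm_hom]
    rw [Iso.comp_inv_eq, Category.assoc, ← Scheme.isoSpec_hom_naturality, Iso.inv_hom_id_assoc]
    rfl
  · simp
  · simp

end Groth.Agent.Lib.NoethApprox_helper5
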