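import Mathlib
import Groth.Agent.Lib.LimDescFP1_helper7
import Groth.Agent.Lib.NoethApprox_helper5

/-!
# Descending finitely presented schemes along cofiltered limits (helper7)

`main591`: every morphism of finite presentation to a cofiltered limit of qcqs schemes with affine
transition maps is the base change of a morphism of finite presentation to some stage.
-/

set_option autoImplicit false
set_option linter.style.haveILetI false
universe u
open CategoryTheory CategoryTheory.Limits AlgebraicGeometry Topology TopologicalSpace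

namespace Groth.Agent.Lib.LimDescFPH7
open Groth.Agent.Lib.LimBaseChangeH7 Groth.Agent.Lib.LimIsoStageH7

/-- `Spec A₀ ⟶ Spec ℤ` is locally of finite presentation for `A₀` of finite type over `ℤ`. -/
theorem lfp_from_terminal (A₀ : Type u) [CommRing A₀] (hA₀ : Algebra.FiniteType ℤ A₀) :
    LocallyOfFinitePresentation
      (specULiftZIsTerminal.{u}.from (Spec (CommRingCat.of A₀))) := by
  let ψ : ULift.{u} ℤ →+* A₀ := (Int.castRingHom A₀).comp (ULift.ringEquiv : ULift.{u} ℤ ≃+* ℤ).toRingHom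
  have hψ : ψ.FinitePresentation := by
    refine RingHom.FinitePresentation.comp ?_ ?_
    · have : Algebra.FinitePresentation ℤ A₀ := Algebra.FinitePresentation.of_finiteType.mp hA₀
      have h2 : (algebraMap ℤ A₀).FinitePresentation :=
        RingHom.finitePresentation_algebraMap.mpr this
      rwa [algebraMap_int_eq] at h2
    · refine RingHom.FinitePresentation.of_surjective _
        (ULift.ringEquiv : ULift.{u} ℤ ≃+* ℤ).surjective ?_
      have : RingHom.ker (ULift.ringEquiv : ULift.{u} ℤ ≃+* ℤ).toRingHom = ⊥ :=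
        (RingHom.injective_iff_ker_eq_bot _).mp (ULift.ringEquiv : ULift.{u} ℤ ≃+* ℤ).injective
      rw [this]
      exact Submodule.fg_bot
  have : specULiftZIsTerminal.{u}.from (Spec (CommRingCat.of A₀)) =
      Spec.map (CommRingCat.ofHom ψ) := specULiftZIsTerminal.hom_ext _ _
  rw [this]
  exact (HasRingHomProperty.Spec_iff (P := @LocallyOfFinitePresentation)).mpr hψ

variable {I : Type u} [SmallCategory I] [IsCofiltered I]
  {D : I ⥤ Scheme.{u}} {c : Cone D}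
  [∀ (i j : I) (f : i ⟶ j), IsAffineHom (D.map f)]

theorem desc_affine (hc : IsLimit c) {X : Scheme.{u}} (f : X ⟶ c.pt)
    [LocallyOfFinitePresentation f] (i₀ : I) (T : (D.obj i₀).Opens) (hT : IsAffineOpen T)
    (V : X.Opens) (hV : IsAffineOpen V) (hVT : V ≤ f ⁻¹ᵁ (c.π.app i₀ ⁻¹ᵁ T)) :
    ∃ i, DescOAt D c (V.ι ≫ f) ⊤ i := by
  haveI hA' : ∀ {i j : I} (f : i ⟶ j), IsAffineHom (D.map f) := fun f => inferInstance
  haveI hEaff : ∀ j, IsAffine ((opensDiagram D i₀ T).obj j) := fun j => hT.preimage (D.map j.hom)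
  have hcE := isLimitOpensCone D c hc i₀ T
  haveI : IsAffine ((c.π.app i₀ ⁻¹ᵁ T : c.pt.Opens) : Scheme.{u}) :=
    Scheme.isAffine_of_isLimit _ hcE
  haveI : IsAffine (V : Scheme.{u}) := hV
  haveI : LocallyOfFinitePresentation (f.resLE (c.π.app i₀ ⁻¹ᵁ T) V hVT) := inferInstance
  have hv : f.resLE (c.π.app i₀ ⁻¹ᵁ T) V hVT ≫ (c.π.app i₀ ⁻¹ᵁ T).ι = V.ι ≫ f :=
    Scheme.Hom.resLE_comp_ι f hVT
  obtain ⟨A₀, B₀, _, _, φ₀, g, g', hA₀, hφ₀, hpb⟩ :=
    Groth.Agent.Lib.NoethApprox_helper5.exists_isPullback_of_finitePresentation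
      (f.resLE (c.π.app i₀ ⁻¹ᵁ T) V hVT)
  haveI := lfp_from_terminal A₀ hA₀
  let t : opensDiagram D i₀ T ⟶ (Functor.const (Over i₀)).obj
      (Spec (CommRingCat.of (ULift.{u} ℤ))) :=
    { app := fun j => specULiftZIsTerminal.from _
      naturality := fun _ _ _ => specULiftZIsTerminal.hom_ext _ _ }
  obtain ⟨j, gj₀, hgj₀, -⟩ := Scheme.exists_π_app_comp_eq_of_locallyOfFinitePresentation
    (opensDiagram D i₀ T) t (specULiftZIsTerminal.from (Spec (CommRingCat.of A₀)))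
    (opensCone D c i₀ T) hcE g (by
      ext j : 2
      exact specULiftZIsTerminal.hom_ext _ _)
  have hle : c.π.app i₀ ⁻¹ᵁ T ≤ c.π.app j.left ⁻¹ᵁ (D.map j.hom ⁻¹ᵁ T) := by
    rw [← Scheme.Hom.comp_preimage, c.w]
  obtain ⟨gj, hgj1'⟩ : ∃ gj : ((D.map j.hom ⁻¹ᵁ T : (D.obj j.left).Opens) : Scheme.{u}) ⟶
      Spec (CommRingCat.of A₀),
      (c.π.app j.left).resLE (D.map j.hom ⁻¹ᵁ T) (c.π.app i₀ ⁻¹ᵁ T) hle ≫ gj = g :=
    ⟨gj₀, hgj₀⟩
  clear hgj₀ gj₀
  haveI : LocallyOfFinitePresentation (Spec.map (CommRingCat.ofHom φ₀)) :=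
    (HasRingHomProperty.Spec_iff (P := @LocallyOfFinitePresentation)).mpr hφ₀
  have hw : g' ≫ Spec.map (CommRingCat.ofHom φ₀) =
      (f.resLE (c.π.app i₀ ⁻¹ᵁ T) V hVT ≫
        (c.π.app j.left).resLE (D.map j.hom ⁻¹ᵁ T) (c.π.app i₀ ⁻¹ᵁ T) hle) ≫ gj := by
    rw [Category.assoc, hgj1']
    exact hpb.w
  have hpbj : IsPullback (pullback.lift g' (f.resLE (c.π.app i₀ ⁻¹ᵁ T) V hVT ≫
        (c.π.app j.left).resLE (D.map j.hom ⁻¹ᵁ T) (c.π.app i₀ ⁻¹ᵁ T) hle) hw)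
      (f.resLE (c.π.app i₀ ⁻¹ᵁ T) V hVT)
      (pullback.snd (Spec.map (CommRingCat.ofHom φ₀)) gj)
      ((c.π.app j.left).resLE (D.map j.hom ⁻¹ᵁ T) (c.π.app i₀ ⁻¹ᵁ T) hle) := by
    refine IsPullback.of_right ?_ (pullback.lift_snd _ _ _) (IsPullback.of_hasPullback _ gj)
    rw [pullback.lift_fst, hgj1']
    exact hpb
  have hbot : IsPullback ((c.π.app j.left).resLE (D.map j.hom ⁻¹ᵁ T) (c.π.app i₀ ⁻¹ᵁ T) hle)
      (c.π.app i₀ ⁻¹ᵁ T).ι (D.map j.hom ⁻¹ᵁ T).ι (c.π.app j.left) :=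
    IsOpenImmersion.isPullback _ _ _ _ (Scheme.Hom.resLE_comp_ι _ _).symm
      (by rw [Scheme.Opens.opensRange_ι, Scheme.Opens.opensRange_ι, ← Scheme.Hom.comp_preimage,
        c.w])
  have hfin := hpbj.paste_vert hbot
  rw [hv] at hfin
  haveI : IsAffine ((D.map j.hom ⁻¹ᵁ T : (D.obj j.left).Opens) : Scheme.{u}) := hEaff j
  haveI : IsAffine (pullback (Spec.map (CommRingCat.ofHom φ₀)) gj) := inferInstance
  exact ⟨j.left, pullback (Spec.map (CommRingCat.ofHom φ₀)) gj,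
    pullback.snd (Spec.map (CommRingCat.ofHom φ₀)) gj ≫ (D.map j.hom ⁻¹ᵁ T).ι, _, ⊤,
    inferInstance, inferInstance, inferInstance, hfin,
    by rw [Opens.coe_top]; exact isCompact_univ, rfl⟩

theorem desc_bot (X : Scheme.{u}) (f : X ⟶ c.pt) (i₀ : I) [QuasiSeparatedSpace (D.obj i₀)] :
    DescOAt D c ((⊥ : X.Opens).ι ≫ f) ⊤ i₀ := by
  haveI : IsEmpty ↥((⊥ : X.Opens) : Scheme.{u}) := ⟨fun x => x.2⟩
  haveI : IsEmpty ↥((⊥ : (D.obj i₀).Opens) : Scheme.{u}) := ⟨fun x => x.2⟩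
  have h : c.π.app i₀ ⁻¹ᵁ (⊥ : (D.obj i₀).Opens) = ((⊥ : X.Opens).ι ≫ f).opensRange := by
    refine le_antisymm (fun y hy => (hy : False).elim) ?_
    rintro _ ⟨y, -⟩
    exact (IsEmpty.false y).elim
  obtain ⟨e, he⟩ := LimZarCovH7.isPullback_of_preimage_eq (c.π.app i₀) ⊥ ((⊥ : X.Opens).ι ≫ f) h
  haveI : QuasiSeparatedSpace ↥((⊥ : (D.obj i₀).Opens) : Scheme.{u}) :=
    (⊥ : (D.obj i₀).Opens).ι.isOpenEmbedding.quasiSeparatedSpace
  exact ⟨_, (⊥ : (D.obj i₀).Opens).ι, e, ⊤, inferInstance, inferInstance, inferInstance, he,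
    by rw [Opens.coe_top]; exact isCompact_univ, rfl⟩

theorem main591 (hc : IsLimit c) [∀ i, CompactSpace (D.obj i)]
    [∀ i, QuasiSeparatedSpace (D.obj i)] (X : Scheme.{u}) (f : X ⟶ c.pt)
    [LocallyOfFinitePresentation f] [QuasiCompact f] [QuasiSeparated f] :
    ∃ (i : I) (Xi : Scheme.{u}) (fi : Xi ⟶ D.obj i) (g : X ⟶ Xi),
      LocallyOfFinitePresentation fi ∧ QuasiCompact fi ∧ QuasiSeparated fi ∧
      IsPullback g f fi (c.π.app i) := by
  classical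
  obtain ⟨i₀⟩ := IsCofiltered.nonempty (C := I)
  haveI : CompactSpace c.pt := LimConstr.compactSpace_pt D c hc i₀
  haveI : QuasiSeparatedSpace c.pt := LimConstr.quasiSeparatedSpace_pt D c hc i₀
  haveI : CompactSpace X := QuasiCompact.compactSpace_of_compactSpace f
  haveI : QuasiSeparatedSpace X := quasiSeparatedSpace_of_quasiSeparated f
  have hloc : ∀ x : X, ∃ V : X.Opens, IsAffineOpen V ∧ x ∈ V ∧
      ∃ i, DescOAt D c (V.ι ≫ f) ⊤ i := by
    intro x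
    obtain ⟨_, ⟨(T : (D.obj i₀).Opens), hT, rfl⟩, hxT, -⟩ :=
      (D.obj i₀).isBasis_affineOpens.exists_subset_of_mem_open
        (Set.mem_univ (c.π.app i₀ (f x))) isOpen_univ
    have hxU : x ∈ f ⁻¹ᵁ (c.π.app i₀ ⁻¹ᵁ T) := hxT
    obtain ⟨_, ⟨(V : X.Opens), hV, rfl⟩, hxV, hVU⟩ :=
      X.isBasis_affineOpens.exists_subset_of_mem_open hxU (f ⁻¹ᵁ (c.π.app i₀ ⁻¹ᵁ T)).2
    exact ⟨V, hV, hxV, desc_affine hc f i₀ T hT V hV hVU⟩
  choose V hVaff hxV hVd using hloc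
  obtain ⟨t, ht⟩ := isCompact_univ.elim_finite_subcover (fun x => (V x : Set X))
    (fun x => (V x).isOpen) (fun x _ => Set.mem_iUnion.mpr ⟨x, hxV x⟩)
  have hind : ∀ s : Finset X, ∃ i, DescOAt D c ((⨆ x ∈ s, V x).ι ≫ f) ⊤ i := by
    intro s
    induction s using Finset.induction_on with
    | empty =>
      have e : (⨆ x ∈ (∅ : Finset X), V x) = ⊥ := by simp
      rw [e]
      exact ⟨i₀, desc_bot X f i₀⟩
    | insert a s has ih =>
      obtain ⟨i₂, d₂⟩ := ih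
      obtain ⟨i₁, d₁⟩ := hVd a
      have e : (⨆ x ∈ insert a s, V x) = V a ⊔ ⨆ x ∈ s, V x := Finset.iSup_insert a s V
      rw [e]
      have hScpt : IsCompact ((⨆ x ∈ s, V x : X.Opens) : Set X) := by
        have : ((⨆ x ∈ s, V x : X.Opens) : Set X) = ⋃ x ∈ s, (V x : Set X) := by
          simp [Opens.coe_iSup]
        rw [this]
        exact s.isCompact_biUnion fun x _ => (hVaff x).isCompact
      haveI : CompactSpace ↥((V a ⊓ ⨆ x ∈ s, V x : X.Opens) : Scheme.{u}) :=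
        isCompact_iff_compactSpace.mp
          (QuasiSeparatedSpace.inter_isCompact _ _ (V a).2 (hVaff a).isCompact
            (⨆ x ∈ s, V x).2 hScpt)
      refine glueStep hc ((V a ⊔ ⨆ x ∈ s, V x).ι ≫ f)
        (X.homOfLE (le_sup_left : V a ≤ V a ⊔ ⨆ x ∈ s, V x))
        (X.homOfLE (le_sup_right : (⨆ x ∈ s, V x) ≤ V a ⊔ ⨆ x ∈ s, V x)) ?_
        (X.homOfLE (inf_le_left : V a ⊓ (⨆ x ∈ s, V x) ≤ V a))
        (X.homOfLE (inf_le_right : V a ⊓ (⨆ x ∈ s, V x) ≤ ⨆ x ∈ s, V x))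
        (isPullback_opens_inf_le le_sup_left le_sup_right)
        (i₁ := i₁) (i₂ := i₂) ?_ ?_
      · rintro ⟨x, hx⟩
        rcases (hx : x ∈ (V a : Set X) ∪ ((⨆ x ∈ s, V x : X.Opens) : Set X)) with h | h
        · exact Or.inl ⟨⟨x, h⟩, Scheme.homOfLE_apply' _ x h⟩
        · exact Or.inr ⟨⟨x, h⟩, Scheme.homOfLE_apply' _ x h⟩
      · rw [Scheme.homOfLE_ι_assoc]
        exact d₁
      · rw [Scheme.homOfLE_ι_assoc]
        exact d₂
  have hS : (⨆ x ∈ t, V x) = ⊤ := by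
    rw [eq_top_iff]
    intro x _
    obtain ⟨y, hy⟩ := Set.mem_iUnion.mp (ht (Set.mem_univ x))
    obtain ⟨hyt, hxy⟩ := Set.mem_iUnion.mp hy
    exact Opens.mem_iSup.mpr ⟨y, Opens.mem_iSup.mpr ⟨hyt, hxy⟩⟩
  obtain ⟨i, d⟩ := hind t
  rw [hS] at d
  obtain ⟨Zi, hi, g, -, hlfp, hcpt, hqs, hpb, -, -⟩ := d
  haveI := hcpt
  haveI := hqs
  refine ⟨i, Zi, hi, X.topIso.inv ≫ g, hlfp, inferInstance, inferInstance, ?_⟩
  exact hpb.of_iso X.topIso (Iso.refl _) (Iso.refl _) (Iso.refl _) (by simp) (by simp) (by simp)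
    (by simp)

end Groth.Agent.Lib.LimDescFPH7
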