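import Mathlib
import Groth.Agent.Lib.LimDescend_helper7

/-!
# Spreading-in of source-local properties along cofiltered limits (helper7)

* `AffAffStage P H`: the spreading-in property for affine source and affine stage.
* `exists_of_affine`: re-basing of `AffAffStage` to an affine `Y₀` over an arbitrary stage.
* `exists_snd_of_compact_source`, `exists_descend_src`: for source-local `P`, only the source
  needs to be quasi-compact.
* `affineStage_of_affAff`: for `P ≤ IsAffineHom`, `AffAffStage` implies `AffineStage`.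
-/

set_option autoImplicit false
set_option backward.isDefEq.respectTransparency false
universe u
open CategoryTheory CategoryTheory.Limits AlgebraicGeometry

namespace Groth.Agent.Lib.LimSrcH7
open Groth.Agent.Lib.LimBaseChangeH7 Groth.Agent.Lib.LimIsoH7 Groth.Agent.Lib.LimDescendH7

section Def
variable (P : MorphismProperty Scheme.{u}) (H : ∀ {X Y : Scheme.{u}}, (X ⟶ Y) → Prop)

/-- The "spreading-in" property for affine source and affine stage. -/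
def AffAffStage : Prop :=
  ∀ {J : Type u} [SmallCategory J] [IsCofiltered J] (E : J ⥤ Scheme.{u}) (cE : Cone E)
    (_ : IsLimit cE) [∀ (i j : J) (f : i ⟶ j), IsAffineHom (E.map f)] (j₀ : J)
    [IsAffine (E.obj j₀)] {X₀ : Scheme.{u}} [IsAffine X₀] (f₀ : X₀ ⟶ E.obj j₀), H f₀ →
      P (pullback.snd f₀ (cE.π.app j₀)) → ∃ (j : J) (φ : j ⟶ j₀), P (pullback.snd f₀ (E.map φ))

end Def

section Gen
variable {P : MorphismProperty Scheme.{u}} {H : ∀ {X Y : Scheme.{u}}, (X ⟶ Y) → Prop}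
  [P.RespectsIso] [P.IsStableUnderBaseChange]

/-- cancel a monomorphism on the right -/
theorem of_comp_mono {X Y Z : Scheme.{u}} (a : X ⟶ Y) (m : Y ⟶ Z) [Mono m] (h : P (a ≫ m)) :
    P a := by
  have sq : IsPullback (𝟙 X) a (a ≫ m) m := by
    refine ⟨⟨by simp⟩, ⟨PullbackCone.IsLimit.mk _ (fun s => s.fst) (fun s => by simp)
      (fun s => ?_) (fun s m' h1 _ => by simpa using h1)⟩⟩
    rw [← cancel_mono m, Category.assoc]
    exact s.condition
  exact P.of_isPullback sq h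

theorem snd_precomp [IsZariskiLocalAtSource P] {W X Y Z : Scheme.{u}} (i : W ⟶ X)
    [IsOpenImmersion i] (f : X ⟶ Z) (g : Y ⟶ Z) (h : P (pullback.snd f g)) :
    P (pullback.snd (i ≫ f) g) := by
  have he := pullbackRightPullbackFstIso_hom_snd f g i
  rw [← P.cancel_left_of_respectsIso (pullbackRightPullbackFstIso f g i).hom, he]
  exact IsZariskiLocalAtSource.comp h _

theorem piece_iff [P.IsStableUnderComposition]
    (hopen : ∀ {X Y : Scheme.{u}} (f : X ⟶ Y), IsOpenImmersion f → P f)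
    {U V S T : Scheme.{u}} (f' : U ⟶ V) (ι : V ⟶ S) [IsOpenImmersion ι] (h : T ⟶ S) :
    P (pullback.snd f' (pullback.fst ι h)) ↔ P (pullback.snd (f' ≫ ι) h) := by
  have he := pullbackRightPullbackFstIso_hom_snd ι h f'
  constructor
  · intro hp
    rw [← P.cancel_left_of_respectsIso (pullbackRightPullbackFstIso ι h f').hom, he]
    exact P.comp_mem _ _ hp (hopen _ inferInstance)
  · intro hp
    apply of_comp_mono _ (pullback.snd ι h)
    rw [← he]
    exact (P.cancel_left_of_respectsIso _ _).mpr hp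

theorem exists_of_affine (hA : AffAffStage P H)
    (hH : ∀ {X Y Z : Scheme.{u}} (f : X ⟶ Z) (g : Y ⟶ Z), H f → H (pullback.snd f g))
    {I : Type u} [SmallCategory I] [IsCofiltered I] (D : I ⥤ Scheme.{u}) (c : Cone D)
    (hc : IsLimit c) [∀ (i j : I) (f : i ⟶ j), IsAffineHom (D.map f)] (i₀ : I)
    {X₀ Y₀ : Scheme.{u}} [IsAffine X₀] [IsAffine Y₀] (f₀ : X₀ ⟶ Y₀) (g₀ : Y₀ ⟶ D.obj i₀)
    (hf₀ : H f₀) (hP : P (pullback.snd f₀ (pullback.fst g₀ (c.π.app i₀)))) :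
    ∃ (j : I) (φ : j ⟶ i₀), P (pullback.snd f₀ (pullback.fst g₀ (D.map φ))) := by
  have hY := IsPullback.of_hasPullback g₀ (c.π.app i₀)
  let j₀ : Over i₀ := Over.mk (𝟙 i₀)
  haveI : IsAffine ((bcDiagram D i₀ g₀).obj j₀) := by
    show IsAffine (pullback g₀ (D.map j₀.hom))
    infer_instance
  haveI : IsAffine (pullback f₀ (pullback.fst g₀ (D.map j₀.hom))) := inferInstance
  have hP' : P (pullback.snd (pullback.snd f₀ (pullback.fst g₀ (D.map j₀.hom)))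
      ((bcCone c hY).π.app j₀)) := by
    rw [snd_snd_iff (P := P), bcCone_π_fst]
    exact hP
  obtain ⟨j', φ', hj'⟩ := hA (bcDiagram D i₀ g₀) (bcCone c hY) (isLimitBcCone c hY hc) j₀
    (pullback.snd f₀ (pullback.fst g₀ (D.map j₀.hom))) (hH f₀ _ hf₀) hP'
  rw [snd_snd_iff (P := P), bcDiagram_map_fst] at hj'
  exact ⟨j'.left, j'.hom, hj'⟩

theorem exists_snd_of_compact_source [P.IsStableUnderComposition] [IsZariskiLocalAtSource P]
    (hopen : ∀ {X Y : Scheme.{u}} (f : X ⟶ Y), IsOpenImmersion f → P f)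
    (hA : AffAffStage P H)
    (hH : ∀ {X Y Z : Scheme.{u}} (f : X ⟶ Z) (g : Y ⟶ Z), H f → H (pullback.snd f g))
    (hHres : ∀ {X Y : Scheme.{u}} (f : X ⟶ Y) (U : X.Opens) (V : Y.Opens) (e : U ≤ f ⁻¹ᵁ V),
      H f → H (f.resLE V U e))
    {I : Type u} [SmallCategory I] [IsCofiltered I] (D : I ⥤ Scheme.{u}) (c : Cone D)
    (hc : IsLimit c) [∀ (i j : I) (f : i ⟶ j), IsAffineHom (D.map f)] (i₀ : I)
    {X₀ : Scheme.{u}} [CompactSpace X₀] (f₀ : X₀ ⟶ D.obj i₀) (hf₀ : H f₀)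
    (hP : P (pullback.snd f₀ (c.π.app i₀))) :
    ∃ (j : I) (φ : j ⟶ i₀), P (pullback.snd f₀ (D.map φ)) := by
  classical
  have hcov : ∀ x : X₀, ∃ (U : X₀.Opens) (V : (D.obj i₀).Opens), IsAffineOpen U ∧
      IsAffineOpen V ∧ x ∈ U ∧ U ≤ f₀ ⁻¹ᵁ V := fun x => by
    obtain ⟨_, ⟨V, hV, rfl⟩, hxV, -⟩ := (D.obj i₀).isBasis_affineOpens.exists_subset_of_mem_open
      (Set.mem_univ (f₀ x)) isOpen_univ
    obtain ⟨_, ⟨U, hU, rfl⟩, hxU, hUV⟩ := X₀.isBasis_affineOpens.exists_subset_of_mem_open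
      (show x ∈ f₀ ⁻¹ᵁ V from hxV) (f₀ ⁻¹ᵁ V).isOpen
    exact ⟨U, V, hU, hV, hxU, hUV⟩
  choose U V hU hV hxU hUV using hcov
  obtain ⟨t, ht⟩ := isCompact_univ.elim_finite_subcover (fun x => (U x : Set X₀))
    (fun x => (U x).isOpen) (fun x _ => Set.mem_iUnion.mpr ⟨x, hxU x⟩)
  have claim : ∀ x : X₀, ∃ (j : I) (φ : j ⟶ i₀),
      P (pullback.snd ((U x).ι ≫ f₀) (D.map φ)) := by
    intro x
    haveI : IsAffine (U x).toScheme := hU x
    haveI : IsAffine (V x).toScheme := hV x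
    have hfac : f₀.resLE (V x) (U x) (hUV x) ≫ (V x).ι = (U x).ι ≫ f₀ :=
      Scheme.Hom.resLE_comp_ι _ _
    have h1 : P (pullback.snd ((U x).ι ≫ f₀) (c.π.app i₀)) := snd_precomp (U x).ι f₀ _ hP
    rw [← hfac] at h1
    have h2 := (piece_iff hopen _ (V x).ι (c.π.app i₀)).mpr h1
    obtain ⟨j, φ, hj⟩ := exists_of_affine hA hH D c hc i₀ (f₀.resLE (V x) (U x) (hUV x))
      (V x).ι (hHres f₀ _ _ _ hf₀) h2
    have h3 := (piece_iff hopen _ (V x).ι (D.map φ)).mp hj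
    rw [hfac] at h3
    exact ⟨j, φ, h3⟩
  choose jk φk hk using claim
  obtain ⟨j, φ, ψ, hψ⟩ := IsCofiltered.wideCospan (fun k : t => φk k.1)
  refine ⟨j, φ, ?_⟩
  have hUtop : TopologicalSpace.IsOpenCover (fun k : t => U k.1) := by
    rw [TopologicalSpace.IsOpenCover, eq_top_iff]
    intro x _
    obtain ⟨y, hy⟩ := Set.mem_iUnion.mp (ht (Set.mem_univ x))
    obtain ⟨hyt, hxy⟩ := Set.mem_iUnion.mp hy
    exact TopologicalSpace.Opens.mem_iSup.mpr ⟨⟨y, hyt⟩, hxy⟩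
  rw [IsZariskiLocalAtSource.iff_of_openCover (P := P)
    (Scheme.Pullback.openCoverOfLeft (X₀.openCoverOfIsOpenCover _ hUtop) f₀ (D.map φ))]
  intro k
  have hk' : (Scheme.Pullback.openCoverOfLeft (X₀.openCoverOfIsOpenCover _ hUtop) f₀
      (D.map φ)).f k ≫ pullback.snd f₀ (D.map φ) =
      pullback.snd ((U k.1).ι ≫ f₀) (D.map φ) := by
    simp [Scheme.Pullback.openCoverOfLeft]
    rfl
  rw [hk', ← hψ k, D.map_comp]
  exact snd_comp _ _ _ (hk k.1)

theorem exists_descend_src [P.IsStableUnderComposition] [IsZariskiLocalAtSource P]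
    (hopen : ∀ {X Y : Scheme.{u}} (f : X ⟶ Y), IsOpenImmersion f → P f)
    (hA : AffAffStage P H)
    (hH : ∀ {X Y Z : Scheme.{u}} (f : X ⟶ Z) (g : Y ⟶ Z), H f → H (pullback.snd f g))
    (hHres : ∀ {X Y : Scheme.{u}} (f : X ⟶ Y) (U : X.Opens) (V : Y.Opens) (e : U ≤ f ⁻¹ᵁ V),
      H f → H (f.resLE V U e))
    {I : Type u} [SmallCategory I] [IsCofiltered I] (D : I ⥤ Scheme.{u}) (c : Cone D)
    (hc : IsLimit c) [∀ (i j : I) (f : i ⟶ j), IsAffineHom (D.map f)] (i₀ : I)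
    {X₀ Y₀ : Scheme.{u}} (f₀ : X₀ ⟶ Y₀) (g₀ : Y₀ ⟶ D.obj i₀) [CompactSpace X₀] (hf₀ : H f₀)
    {X Y : Scheme.{u}} (f : X ⟶ Y) (g : Y ⟶ c.pt) (qY : Y ⟶ Y₀) (qX : X ⟶ X₀)
    (hY : IsPullback qY g g₀ (c.π.app i₀)) (hX : IsPullback qX f f₀ qY) (hP : P f) :
    ∃ (i : I) (φ : i ⟶ i₀) (Xi Yi : Scheme.{u}) (fi : Xi ⟶ Yi) (gi : Yi ⟶ D.obj i) (pY : Yi ⟶ Y₀)
      (pX : Xi ⟶ X₀), IsPullback pY gi g₀ (D.map φ) ∧ IsPullback pX fi f₀ pY ∧ P fi := by
  have hP' : P (pullback.snd (pullback.snd f₀ (pullback.fst g₀ (D.map (Over.mk (𝟙 i₀)).hom)))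
      ((bcCone c hY).π.app (Over.mk (𝟙 i₀)))) := by
    rw [snd_snd_iff (P := P), bcCone_π_fst,
      ← P.cancel_left_of_respectsIso hX.isoPullback.hom, hX.isoPullback_hom_snd]
    exact hP
  haveI : CompactSpace ↥(pullback f₀ (pullback.fst g₀ (D.map (Over.mk (𝟙 i₀)).hom))) :=
    QuasiCompact.compactSpace_of_compactSpace
      (pullback.fst f₀ (pullback.fst g₀ (D.map (Over.mk (𝟙 i₀)).hom)))
  obtain ⟨j', φ', hj'⟩ := exists_snd_of_compact_source hopen hA hH hHres (bcDiagram D i₀ g₀)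
    (bcCone c hY) (isLimitBcCone c hY hc) (Over.mk (𝟙 i₀))
    (pullback.snd f₀ (pullback.fst g₀ (D.map (Over.mk (𝟙 i₀)).hom)))
    (hH f₀ _ hf₀) hP'
  rw [snd_snd_iff (P := P), bcDiagram_map_fst] at hj'
  exact ⟨j'.left, j'.hom, _, _, pullback.snd f₀ (pullback.fst g₀ (D.map j'.hom)),
    pullback.snd g₀ (D.map j'.hom), pullback.fst g₀ (D.map j'.hom), pullback.fst f₀ _,
    IsPullback.of_hasPullback _ _, IsPullback.of_hasPullback _ _, hj'⟩

/-- For properties of affine morphisms, `AffAffStage` implies `AffineStage`. -/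
theorem affineStage_of_affAff (hle : ∀ {X Y : Scheme.{u}} (f : X ⟶ Y), P f → IsAffineHom f)
    (hA : AffAffStage P H)
    (hH : ∀ {X Y Z : Scheme.{u}} (f : X ⟶ Z) (g : Y ⟶ Z), H f → H (pullback.snd f g))
    (hHqcqs : ∀ {X Y : Scheme.{u}} (f : X ⟶ Y), H f → QuasiCompact f ∧ QuasiSeparated f) :
    AffineStage P H := by
  intro J _ _ E cE hcE _ j₀ _ X₀ f₀ hf₀ hP
  obtain ⟨j₁, φ₁, h1⟩ := affineStage_isAffineHom E cE hcE j₀ f₀ (hHqcqs f₀ hf₀) (hle _ hP)
  haveI : IsAffine (E.obj j₁) := isAffine_of_isAffineHom (E.map φ₁)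
  haveI : IsAffineHom (pullback.snd f₀ (E.map φ₁)) := h1
  haveI : IsAffine (pullback f₀ (E.map φ₁)) := isAffine_of_isAffineHom (pullback.snd f₀ (E.map φ₁))
  have hP₁ : P (pullback.snd (pullback.snd f₀ (E.map φ₁)) (cE.π.app j₁)) := by
    rw [snd_snd_iff (P := P), cE.w]
    exact hP
  obtain ⟨j, φ, hj⟩ := hA E cE hcE j₁ (pullback.snd f₀ (E.map φ₁)) (hH _ _ hf₀) hP₁
  rw [snd_snd_iff (P := P), ← E.map_comp] at hj
  exact ⟨j, φ ≫ φ₁, hj⟩

end Gen

end Groth.Agent.Lib.LimSrcH7
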