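import Mathlib

/-!
# Weak (not necessarily functorial) directed colimits of algebras and tensor products (lead)

The hypotheses of the statements `exists_index_baseChange_*_of_colimit` give a family of
`A₀`-algebras `G i` indexed by a directed preorder, transition maps `f i j` that are *not* assumed
functorial, and compatible maps `g i : G i → A` that are jointly surjective and satisfy the kernel
condition.  We work with *admissible maps* (`Adm`): arbitrary `A₀`-algebra maps `G i → G j`
compatible with the `g`'s; these are closed under composition, which repairs the missing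
functoriality.  Main result: for any `A₀`-module `M`, `M ⊗ G i → M ⊗ A` is again jointly surjective
and satisfies the kernel condition with respect to admissible maps.
-/

set_option autoImplicit false
universe u v

namespace Groth.Agent.Lib.WeakColim

open TensorProduct

variable {ι : Type u} [Preorder ι] [IsDirected ι (· ≤ ·)] [Nonempty ι]
  {A₀ : Type v} [CommRing A₀] {G : ι → Type u} [∀ i, CommRing (G i)] [∀ i, Algebra A₀ (G i)]
  {A : Type u} [CommRing A] [Algebra A₀ A]

/-- An admissible map `G i → G j`: an `A₀`-algebra map compatible with the maps to `A`. -/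
structure Adm (g : ∀ i, G i →ₐ[A₀] A) (i j : ι) where
  /-- the underlying map -/
  φ : G i →ₐ[A₀] G j
  comp : (g j).comp φ = g i

namespace Adm

variable {g : ∀ i, G i →ₐ[A₀] A}

theorem apply {i j : ι} (a : Adm g i j) (x : G i) : g j (a.φ x) = g i x :=
  AlgHom.congr_fun a.comp x

/-- identity -/
def refl (i : ι) : Adm g i i := ⟨AlgHom.id A₀ (G i), AlgHom.comp_id _⟩

/-- composition -/
def trans {i j k : ι} (a : Adm g i j) (b : Adm g j k) : Adm g i k :=
  ⟨b.φ.comp a.φ, by rw [← AlgHom.comp_assoc, b.comp, a.comp]⟩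

theorem trans_φ {i j k : ι} (a : Adm g i j) (b : Adm g j k) :
    (a.trans b).φ = b.φ.comp a.φ := rfl

variable {M : Type*} [AddCommGroup M] [Module A₀ M]

theorem lTensor_g_lTensor {i j : ι} (a : Adm g i j) (t : M ⊗[A₀] G i) :
    LinearMap.lTensor M (g j).toLinearMap (LinearMap.lTensor M a.φ.toLinearMap t) =
      LinearMap.lTensor M (g i).toLinearMap t := by
  rw [← LinearMap.comp_apply, ← LinearMap.lTensor_comp, ← AlgHom.comp_toLinearMap, a.comp]

theorem lTensor_trans {i j k : ι} (a : Adm g i j) (b : Adm g j k) (t : M ⊗[A₀] G i) :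
    LinearMap.lTensor M (a.trans b).φ.toLinearMap t =
      LinearMap.lTensor M b.φ.toLinearMap (LinearMap.lTensor M a.φ.toLinearMap t) := by
  rw [← LinearMap.comp_apply, ← LinearMap.lTensor_comp, ← AlgHom.comp_toLinearMap]
  rfl

end Adm

/-- the hypotheses of the statements -/
structure IsWeakColim (f : ∀ i j, i ≤ j → (G i →ₐ[A₀] G j)) (g : ∀ i, G i →ₐ[A₀] A) : Prop where
  hg : ∀ i j (h : i ≤ j), (g j).comp (f i j h) = g i
  hsurj : ∀ a : A, ∃ i, ∃ x : G i, g i x = a
  hker : ∀ i (x : G i), g i x = 0 → ∃ j, ∃ h : i ≤ j, f i j h x = 0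

namespace IsWeakColim

variable {f : ∀ i j, i ≤ j → (G i →ₐ[A₀] G j)} {g : ∀ i, G i →ₐ[A₀] A}

/-- admissible map from the order -/
def ofLE (H : IsWeakColim f g) {i j : ι} (h : i ≤ j) : Adm g i j := ⟨f i j h, H.hg i j h⟩

theorem exists_kill_one (H : IsWeakColim f g) {i : ι} (x : G i) (hx : g i x = 0) :
    ∃ (j : ι) (a : Adm g i j), a.φ x = 0 := by
  obtain ⟨j, h, hj⟩ := H.hker i x hx
  exact ⟨j, H.ofLE h, hj⟩

theorem exists_kill_finset (H : IsWeakColim f g) {i : ι} (s : Finset (G i))
    (hs : ∀ x ∈ s, g i x = 0) :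
    ∃ (j : ι) (a : Adm g i j), ∀ x ∈ s, a.φ x = 0 := by
  classical
  induction s using Finset.induction_on with
  | empty => exact ⟨i, Adm.refl i, fun x hx => absurd hx (Finset.notMem_empty x)⟩
  | insert x s hx ih =>
    obtain ⟨j, a, ha⟩ := ih (fun z hz => hs z (Finset.mem_insert_of_mem hz))
    have h0 : g j (a.φ x) = 0 := by
      rw [a.apply]
      exact hs x (Finset.mem_insert_self x s)
    obtain ⟨k, b, hb⟩ := H.exists_kill_one (a.φ x) h0
    refine ⟨k, a.trans b, fun z hz => ?_⟩
    rcases Finset.mem_insert.1 hz with hzx | hz'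
    · rw [hzx]
      exact hb
    · show b.φ (a.φ z) = 0
      rw [ha z hz', map_zero]

variable (M : Type*) [AddCommGroup M] [Module A₀ M]

theorem exists_lift (H : IsWeakColim f g) (t : M ⊗[A₀] A) :
    ∃ (i : ι) (x : M ⊗[A₀] G i), LinearMap.lTensor M (g i).toLinearMap x = t := by
  induction t using TensorProduct.induction_on with
  | zero => exact ⟨Classical.arbitrary ι, 0, map_zero _⟩
  | tmul m a =>
    obtain ⟨i, x, hx⟩ := H.hsurj a
    exact ⟨i, m ⊗ₜ x, by rw [LinearMap.lTensor_tmul, AlgHom.toLinearMap_apply, hx]⟩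
  | add t₁ t₂ h₁ h₂ =>
    obtain ⟨i, x₁, h₁⟩ := h₁
    obtain ⟨j, x₂, h₂⟩ := h₂
    obtain ⟨k, hik, hjk⟩ := exists_ge_ge i j
    refine ⟨k, LinearMap.lTensor M (H.ofLE hik).φ.toLinearMap x₁ +
      LinearMap.lTensor M (H.ofLE hjk).φ.toLinearMap x₂, ?_⟩
    rw [map_add, Adm.lTensor_g_lTensor, Adm.lTensor_g_lTensor, h₁, h₂]

theorem exists_lift_finset (H : IsWeakColim f g) {κ : Type*} (S : Finset κ)
    (t : κ → M ⊗[A₀] A) (i₀ : ι) :
    ∃ (i : ι) (_ : Adm g i₀ i) (x : κ → M ⊗[A₀] G i),
      ∀ k ∈ S, LinearMap.lTensor M (g i).toLinearMap (x k) = t k := by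
  classical
  induction S using Finset.induction_on with
  | empty =>
    exact ⟨i₀, Adm.refl i₀, fun _ => 0, fun k hk => absurd hk (Finset.notMem_empty k)⟩
  | insert k S hk ih =>
    obtain ⟨i, a, x, hx⟩ := ih
    obtain ⟨j, y, hy⟩ := H.exists_lift M (t k)
    obtain ⟨l, hil, hjl⟩ := exists_ge_ge i j
    let x' : κ → M ⊗[A₀] G l := fun k' => if k' = k then
      LinearMap.lTensor M (H.ofLE hjl).φ.toLinearMap y else
      LinearMap.lTensor M (H.ofLE hil).φ.toLinearMap (x k')
    have hx'k : x' k = LinearMap.lTensor M (H.ofLE hjl).φ.toLinearMap y := if_pos rfl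
    have hx'ne : ∀ k', k' ≠ k →
        x' k' = LinearMap.lTensor M (H.ofLE hil).φ.toLinearMap (x k') := fun k' h => if_neg h
    refine ⟨l, a.trans (H.ofLE hil), x', fun k' hk' => ?_⟩
    by_cases h : k' = k
    · subst h
      rw [hx'k, Adm.lTensor_g_lTensor, hy]
    · rw [hx'ne k' h, Adm.lTensor_g_lTensor]
      exact hx k' ((Finset.mem_insert.1 hk').resolve_left h)

/-- the kernel condition for `M ⊗ G i → M ⊗ A` -/
theorem exists_kill_tensor (H : IsWeakColim f g) {i : ι} (t : M ⊗[A₀] G i)
    (ht : LinearMap.lTensor M (g i).toLinearMap t = 0) :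
    ∃ (j : ι) (a : Adm g i j), LinearMap.lTensor M a.φ.toLinearMap t = 0 := by
  classical
  -- the honest directed system of ranges
  let R : ι → Submodule A₀ A := fun i => LinearMap.range (g i).toLinearMap
  have hmono : ∀ i j, i ≤ j → R i ≤ R j := by
    rintro i j h _ ⟨y, rfl⟩
    exact ⟨f i j h y, (H.ofLE h).apply y⟩
  let incl : ∀ i j, i ≤ j → (R i →ₗ[A₀] R j) := fun i j h => Submodule.inclusion (hmono i j h)
  haveI : DirectedSystem (fun i => R i) (fun i j h => incl i j h) :=
    ⟨fun i x => Subtype.ext rfl, fun k j i hij hjk x => Subtype.ext rfl⟩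
  let Ψ : Module.DirectLimit (fun i => R i) incl →ₗ[A₀] A :=
    Module.DirectLimit.lift A₀ ι (fun i => R i) incl (fun i => (R i).subtype)
      (fun i j h x => rfl)
  have hΨof : ∀ (i : ι) (x : R i),
      Ψ (Module.DirectLimit.of A₀ ι (fun i => R i) incl i x) = (x : A) :=
    fun i x => Module.DirectLimit.lift_of _ _ _
  have hΨinj : Function.Injective Ψ :=
    Module.DirectLimit.lift_injective _ _ (fun i => Subtype.val_injective)
  have hΨsurj : Function.Surjective Ψ := by
    intro a
    obtain ⟨i, x, hx⟩ := H.hsurj a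
    exact ⟨Module.DirectLimit.of A₀ ι (fun i => R i) incl i ⟨g i x, ⟨x, rfl⟩⟩,
      (hΨof i _).trans hx⟩
  let Ψe : Module.DirectLimit (fun i => R i) incl ≃ₗ[A₀] A :=
    LinearEquiv.ofBijective Ψ ⟨hΨinj, hΨsurj⟩
  have hlinj : Function.Injective (LinearMap.lTensor M Ψ) := by
    refine Function.LeftInverse.injective (g := LinearMap.lTensor M Ψe.symm.toLinearMap) ?_
    intro z
    rw [← LinearMap.comp_apply, ← LinearMap.lTensor_comp]
    have : Ψe.symm.toLinearMap ∘ₗ Ψ = LinearMap.id :=
      LinearMap.ext fun w => Ψe.symm_apply_apply w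
    rw [this, LinearMap.lTensor_id, LinearMap.id_apply]
  let gt : ∀ i, G i →ₗ[A₀] R i := fun i => (g i).toLinearMap.rangeRestrict
  have hgt : ∀ i, (R i).subtype ∘ₗ gt i = (g i).toLinearMap :=
    fun i => LinearMap.ext fun x => rfl
  obtain ⟨t', ht'⟩ : ∃ t', t' = LinearMap.lTensor M (gt i) t := ⟨_, rfl⟩
  have h1 : LinearMap.lTensor M (R i).subtype t' = 0 := by
    rw [ht', ← LinearMap.comp_apply, ← LinearMap.lTensor_comp, hgt, ht]
  have hΨof' : Ψ ∘ₗ Module.DirectLimit.of A₀ ι (fun i => R i) incl i = (R i).subtype :=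
    LinearMap.ext fun x => hΨof i x
  have h2 : LinearMap.lTensor M (Module.DirectLimit.of A₀ ι (fun i => R i) incl i) t' = 0 := by
    apply hlinj
    rw [← LinearMap.comp_apply, ← LinearMap.lTensor_comp, hΨof', h1, map_zero]
  have h5 : ∀ z : M ⊗[A₀] R i, (TensorProduct.directLimitRight incl M).symm
      (Module.DirectLimit.of A₀ ι (fun i => M ⊗[A₀] R i)
        (fun i j h => LinearMap.lTensor M (incl i j h)) i z) =
      LinearMap.lTensor M (Module.DirectLimit.of A₀ ι (fun i => R i) incl i) z := by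
    intro z
    induction z using TensorProduct.induction_on with
    | zero => simp only [map_zero]
    | tmul m r => rw [TensorProduct.directLimitRight_symm_of_tmul, LinearMap.lTensor_tmul]
    | add z₁ z₂ h₁ h₂ => simp only [map_add, h₁, h₂]
  have h4 : Module.DirectLimit.of A₀ ι (fun i => M ⊗[A₀] R i)
      (fun i j h => LinearMap.lTensor M (incl i j h)) i t' = 0 := by
    have h6 := h5 t'
    rw [h2] at h6
    exact (LinearEquiv.map_eq_zero_iff _).1 h6
  obtain ⟨j, hij, hj⟩ := Module.DirectLimit.of.zero_exact h4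
  -- now at stage `j`
  obtain ⟨tj, htj⟩ : ∃ tj, tj = LinearMap.lTensor M (H.ofLE hij).φ.toLinearMap t := ⟨_, rfl⟩
  have hcomm : gt j ∘ₗ (H.ofLE hij).φ.toLinearMap = incl i j hij ∘ₗ gt i :=
    LinearMap.ext fun x => Subtype.ext ((H.ofLE hij).apply x)
  have h7 : LinearMap.lTensor M (gt j) tj = 0 := by
    rw [htj, ← LinearMap.comp_apply, ← LinearMap.lTensor_comp, hcomm, LinearMap.lTensor_comp,
      LinearMap.comp_apply, ← ht']
    exact hj
  have hex : Function.Exact (LinearMap.lTensor M (LinearMap.ker (gt j)).subtype)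
      (LinearMap.lTensor M (gt j)) :=
    lTensor_exact M (LinearMap.exact_subtype_ker_map (gt j))
      (LinearMap.surjective_rangeRestrict _)
  obtain ⟨s, hs⟩ := (hex tj).1 h7
  obtain ⟨S, hS⟩ := TensorProduct.exists_finset s
  obtain ⟨l, b, hb⟩ := H.exists_kill_finset
    (S.image fun p => ((p.2 : LinearMap.ker (gt j)) : G j)) (by
      intro x hx
      obtain ⟨p, _, rfl⟩ := Finset.mem_image.1 hx
      have h8 : gt j (p.2 : G j) = 0 := LinearMap.mem_ker.1 p.2.2
      exact congrArg Subtype.val h8)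
  refine ⟨l, (H.ofLE hij).trans b, ?_⟩
  rw [Adm.lTensor_trans, ← htj, ← hs, hS, map_sum, map_sum]
  refine Finset.sum_eq_zero fun p hp => ?_
  rw [LinearMap.lTensor_tmul, LinearMap.lTensor_tmul]
  have h9 : b.φ ((p.2 : LinearMap.ker (gt j)) : G j) = 0 :=
    hb _ (Finset.mem_image_of_mem _ hp)
  rw [Submodule.subtype_apply, AlgHom.toLinearMap_apply, h9, TensorProduct.tmul_zero]

theorem exists_kill_tensor_finset (H : IsWeakColim f g) {i : ι} (S : Finset (M ⊗[A₀] G i))
    (hS : ∀ t ∈ S, LinearMap.lTensor M (g i).toLinearMap t = 0) :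
    ∃ (j : ι) (a : Adm g i j), ∀ t ∈ S, LinearMap.lTensor M a.φ.toLinearMap t = 0 := by
  classical
  induction S using Finset.induction_on with
  | empty => exact ⟨i, Adm.refl i, fun t ht => absurd ht (Finset.notMem_empty t)⟩
  | insert t S ht ih =>
    obtain ⟨j, a, ha⟩ := ih (fun z hz => hS z (Finset.mem_insert_of_mem hz))
    have h0 : LinearMap.lTensor M (g j).toLinearMap (LinearMap.lTensor M a.φ.toLinearMap t) = 0 := by
      rw [Adm.lTensor_g_lTensor]
      exact hS t (Finset.mem_insert_self t S)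
    obtain ⟨k, b, hb⟩ := H.exists_kill_tensor M _ h0
    refine ⟨k, a.trans b, fun z hz => ?_⟩
    rw [Adm.lTensor_trans]
    rcases Finset.mem_insert.1 hz with hzt | hz'
    · rw [hzt]
      exact hb
    · rw [ha z hz', map_zero]

end IsWeakColim

end Groth.Agent.Lib.WeakColim
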