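import Mathlib
import Groth.Agent.Lib.WeakColim_lead

/-!
# Weak directed colimits: the systems `(B₀ ⊗ G i) ⊗[B₀] D` and descent of algebra maps (lead)
-/

set_option autoImplicit false
universe u

namespace Groth.Agent.Lib.WeakColim

open TensorProduct

section Maps

variable {A₀ : Type u} [CommRing A₀] (B₀ : Type u) [CommRing B₀] [Algebra A₀ B₀]
  {N N' N'' : Type u} [CommRing N] [Algebra A₀ N] [CommRing N'] [Algebra A₀ N']
  [CommRing N''] [Algebra A₀ N'']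

/-- the map `B₀ ⊗ N → B₀ ⊗ N'` -/
noncomputable abbrev tMap (φ : N →ₐ[A₀] N') : B₀ ⊗[A₀] N →ₐ[B₀] B₀ ⊗[A₀] N' :=
  Algebra.TensorProduct.map (AlgHom.id B₀ B₀) φ

theorem tMap_eq (φ : N →ₐ[A₀] N') (x : B₀ ⊗[A₀] N) :
    tMap B₀ φ x = LinearMap.lTensor B₀ φ.toLinearMap x := by
  induction x using TensorProduct.induction_on with
  | zero => simp only [map_zero]
  | tmul b n => rfl
  | add x y hx hy => simp only [map_add, hx, hy]

theorem tMap_comp (ψ : N' →ₐ[A₀] N'') (φ : N →ₐ[A₀] N') :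
    tMap B₀ (ψ.comp φ) = (tMap B₀ ψ).comp (tMap B₀ φ) :=
  Algebra.TensorProduct.map_id_comp ψ φ

section Module

variable (D : Type u) [AddCommGroup D] [Module A₀ D] [Module B₀ D] [IsScalarTower A₀ B₀ D]

/-- the map `(B₀ ⊗ N) ⊗[B₀] D → (B₀ ⊗ N') ⊗[B₀] D` -/
noncomputable abbrev cMapₗ (φ : N →ₐ[A₀] N') :
    (B₀ ⊗[A₀] N) ⊗[B₀] D →ₗ[B₀] (B₀ ⊗[A₀] N') ⊗[B₀] D :=
  LinearMap.rTensor D (tMap B₀ φ).toLinearMap

theorem cMapₗ_tmul (φ : N →ₐ[A₀] N') (t : B₀ ⊗[A₀] N) (d : D) :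
    cMapₗ B₀ D φ (t ⊗ₜ[B₀] d) = (tMap B₀ φ t) ⊗ₜ[B₀] d := rfl

theorem cMapₗ_comp (ψ : N' →ₐ[A₀] N'') (φ : N →ₐ[A₀] N') (x : (B₀ ⊗[A₀] N) ⊗[B₀] D) :
    cMapₗ B₀ D (ψ.comp φ) x = cMapₗ B₀ D ψ (cMapₗ B₀ D φ x) := by
  induction x using TensorProduct.induction_on with
  | zero => simp only [map_zero]
  | tmul t d => rw [cMapₗ_tmul, cMapₗ_tmul, cMapₗ_tmul, tMap_comp]; rfl
  | add x y hx hy => simp only [map_add, hx, hy]

variable (N) in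
/-- `(B₀ ⊗ N) ⊗[B₀] D ≃ D ⊗ N` -/
noncomputable def theta : (B₀ ⊗[A₀] N) ⊗[B₀] D ≃ₗ[B₀] D ⊗[A₀] N :=
  (TensorProduct.comm B₀ (B₀ ⊗[A₀] N) D).trans
    (TensorProduct.AlgebraTensorModule.cancelBaseChange A₀ B₀ B₀ D N)

theorem theta_tmul (b : B₀) (n : N) (d : D) :
    theta B₀ N D ((b ⊗ₜ[A₀] n) ⊗ₜ[B₀] d) = (b • d) ⊗ₜ[A₀] n := rfl

theorem theta_nat (φ : N →ₐ[A₀] N') (x : (B₀ ⊗[A₀] N) ⊗[B₀] D) :
    theta B₀ N' D (cMapₗ B₀ D φ x) = LinearMap.lTensor D φ.toLinearMap (theta B₀ N D x) := by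
  induction x using TensorProduct.induction_on with
  | zero => simp only [map_zero]
  | add x y hx hy => simp only [map_add, hx, hy]
  | tmul t d =>
    induction t using TensorProduct.induction_on with
    | zero => simp only [TensorProduct.zero_tmul, map_zero]
    | add t₁ t₂ h₁ h₂ => simp only [TensorProduct.add_tmul, map_add, h₁, h₂]
    | tmul b n => rfl

end Module

section Alg

variable (D : Type u) [CommRing D] [Algebra A₀ D] [Algebra B₀ D] [IsScalarTower A₀ B₀ D]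

/-- the algebra map `(B₀ ⊗ N) ⊗[B₀] D → (B₀ ⊗ N') ⊗[B₀] D` -/
noncomputable abbrev cMap (φ : N →ₐ[A₀] N') :
    (B₀ ⊗[A₀] N) ⊗[B₀] D →ₐ[B₀] (B₀ ⊗[A₀] N') ⊗[B₀] D :=
  Algebra.TensorProduct.map (tMap B₀ φ) (AlgHom.id B₀ D)

theorem cMap_tmul (φ : N →ₐ[A₀] N') (t : B₀ ⊗[A₀] N) (d : D) :
    cMap B₀ D φ (t ⊗ₜ[B₀] d) = (tMap B₀ φ t) ⊗ₜ[B₀] d := rfl

theorem cMap_eq (φ : N →ₐ[A₀] N') (x : (B₀ ⊗[A₀] N) ⊗[B₀] D) :
    cMap B₀ D φ x = cMapₗ B₀ D φ x := by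
  induction x using TensorProduct.induction_on with
  | zero => simp only [map_zero]
  | tmul t d => rfl
  | add x y hx hy => simp only [map_add, hx, hy]

theorem cMap_comp (ψ : N' →ₐ[A₀] N'') (φ : N →ₐ[A₀] N') :
    cMap B₀ D (ψ.comp φ) = (cMap B₀ D ψ).comp (cMap B₀ D φ) := by
  refine Algebra.TensorProduct.ext' fun t d => ?_
  rw [AlgHom.comp_apply, cMap_tmul, cMap_tmul, cMap_tmul, tMap_comp]
  rfl

end Alg

end Maps

variable {ι : Type u} [Preorder ι] [IsDirected ι (· ≤ ·)] [Nonempty ι]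
  {A₀ : Type u} [CommRing A₀] {G : ι → Type u} [∀ i, CommRing (G i)] [∀ i, Algebra A₀ (G i)]
  {A : Type u} [CommRing A] [Algebra A₀ A]
  {f : ∀ i j, i ≤ j → (G i →ₐ[A₀] G j)} {g : ∀ i, G i →ₐ[A₀] A}
  (B₀ : Type u) [CommRing B₀] [Algebra A₀ B₀]

namespace IsWeakColim

section Module

variable (D : Type u) [AddCommGroup D] [Module A₀ D] [Module B₀ D] [IsScalarTower A₀ B₀ D]

theorem exists_lift₂ (H : IsWeakColim f g) {κ : Type*} (S : Finset κ)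
    (t : κ → (B₀ ⊗[A₀] A) ⊗[B₀] D) (i₀ : ι) :
    ∃ (i : ι) (_ : Adm g i₀ i) (x : κ → (B₀ ⊗[A₀] G i) ⊗[B₀] D),
      ∀ k ∈ S, cMapₗ B₀ D (g i) (x k) = t k := by
  obtain ⟨i, a, x, hx⟩ := H.exists_lift_finset D S (fun k => theta B₀ A D (t k)) i₀
  refine ⟨i, a, fun k => (theta B₀ (G i) D).symm (x k), fun k hk => ?_⟩
  apply (theta B₀ A D).injective
  rw [theta_nat, LinearEquiv.apply_symm_apply, hx k hk]

theorem exists_kill₂ (H : IsWeakColim f g) {i : ι} (S : Finset ((B₀ ⊗[A₀] G i) ⊗[B₀] D))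
    (hS : ∀ x ∈ S, cMapₗ B₀ D (g i) x = 0) :
    ∃ (j : ι) (a : Adm g i j), ∀ x ∈ S, cMapₗ B₀ D a.φ x = 0 := by
  classical
  obtain ⟨j, a, ha⟩ := H.exists_kill_tensor_finset D (S.image (theta B₀ (G i) D)) (by
    intro y hy
    obtain ⟨x, hx, rfl⟩ := Finset.mem_image.1 hy
    rw [← theta_nat, hS x hx, map_zero])
  refine ⟨j, a, fun x hx => ?_⟩
  apply (theta B₀ (G j) D).injective
  rw [theta_nat, ha _ (Finset.mem_image_of_mem _ hx), map_zero]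

end Module

section Alg

variable (C₀ : Type u) [CommRing C₀] [Algebra B₀ C₀]
  (D : Type u) [CommRing D] [Algebra A₀ D] [Algebra B₀ D] [IsScalarTower A₀ B₀ D]

omit [Preorder ι] [IsDirected ι (· ≤ ·)] [Nonempty ι] in
theorem cMap_adm {i j : ι} (a : Adm g i j) (z : (B₀ ⊗[A₀] G i) ⊗[B₀] D) :
    cMap B₀ D (g j) (cMap B₀ D a.φ z) = cMap B₀ D (g i) z := by
  rw [← AlgHom.comp_apply, ← cMap_comp, a.comp]

omit [Preorder ι] [IsDirected ι (· ≤ ·)] [Nonempty ι] in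
theorem cMap_trans {i j k : ι} (a : Adm g i j) (b : Adm g j k) (z : (B₀ ⊗[A₀] G i) ⊗[B₀] D) :
    cMap B₀ D (a.trans b).φ z = cMap B₀ D b.φ (cMap B₀ D a.φ z) := by
  rw [← AlgHom.comp_apply, ← cMap_comp]
  rfl

/-- an algebra map from a finitely presented algebra to the colimit factors through a stage -/
theorem exists_factor_algHom (H : IsWeakColim f g) [Algebra.FinitePresentation B₀ C₀]
    (ν : C₀ →ₐ[B₀] (B₀ ⊗[A₀] A) ⊗[B₀] D) (i₀ : ι) :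
    ∃ (i : ι) (_ : Adm g i₀ i) (ν' : C₀ →ₐ[B₀] (B₀ ⊗[A₀] G i) ⊗[B₀] D),
      (cMap B₀ D (g i)).comp ν' = ν := by
  classical
  obtain ⟨n, π, hπ, s, hs⟩ := Algebra.FinitePresentation.out (R := B₀) (A := C₀)
  obtain ⟨i₁, a₁, y, hy⟩ := H.exists_lift₂ B₀ D (Finset.univ : Finset (Fin n))
    (fun k => ν (π (MvPolynomial.X k))) i₀
  let ν₁ : MvPolynomial (Fin n) B₀ →ₐ[B₀] (B₀ ⊗[A₀] G i₁) ⊗[B₀] D := MvPolynomial.aeval y
  have h1 : (cMap B₀ D (g i₁)).comp ν₁ = ν.comp π := by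
    refine MvPolynomial.algHom_ext fun k => ?_
    show cMap B₀ D (g i₁) (MvPolynomial.aeval y (MvPolynomial.X k)) = ν (π (MvPolynomial.X k))
    rw [MvPolynomial.aeval_X, cMap_eq]
    exact hy k (Finset.mem_univ k)
  have h1' : ∀ q, cMap B₀ D (g i₁) (ν₁ q) = ν (π q) := fun q => AlgHom.congr_fun h1 q
  obtain ⟨i, b, hb⟩ := H.exists_kill₂ B₀ D (s.image ν₁) (by
    intro x hx
    obtain ⟨r, hr, rfl⟩ := Finset.mem_image.1 hx
    have h2 : r ∈ RingHom.ker π.toRingHom := by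
      rw [← hs]
      exact Ideal.subset_span hr
    have h3 : π r = 0 := RingHom.mem_ker.1 h2
    rw [← cMap_eq, h1', h3, map_zero])
  let ν₂ : MvPolynomial (Fin n) B₀ →ₐ[B₀] (B₀ ⊗[A₀] G i) ⊗[B₀] D :=
    (cMap B₀ D b.φ).comp ν₁
  have hle : RingHom.ker π.toRingHom ≤ RingHom.ker ν₂.toRingHom := by
    rw [← hs, Ideal.span_le]
    intro r hr
    refine RingHom.mem_ker.2 ?_
    show cMap B₀ D b.φ (ν₁ r) = 0
    rw [cMap_eq]
    exact hb _ (Finset.mem_image_of_mem ν₁ hr)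
  refine ⟨i, a₁.trans b, AlgHom.liftOfSurjective π hπ ν₂ hle, ?_⟩
  refine AlgHom.ext fun c => ?_
  obtain ⟨q, rfl⟩ := hπ c
  show cMap B₀ D (g i) (AlgHom.liftOfSurjective π hπ ν₂ hle (π q)) = ν (π q)
  rw [AlgHom.liftOfSurjective_apply]
  show cMap B₀ D (g i) (cMap B₀ D b.φ (ν₁ q)) = ν (π q)
  rw [cMap_adm, h1']

/-- two algebra maps from a finite type algebra to a stage that agree in the colimit agree at a
later stage -/
theorem exists_eq_algHom (H : IsWeakColim f g) [Algebra.FiniteType B₀ C₀] {i : ι}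
    (ν ν' : C₀ →ₐ[B₀] (B₀ ⊗[A₀] G i) ⊗[B₀] D)
    (h : (cMap B₀ D (g i)).comp ν = (cMap B₀ D (g i)).comp ν') :
    ∃ (j : ι) (a : Adm g i j), (cMap B₀ D a.φ).comp ν = (cMap B₀ D a.φ).comp ν' := by
  classical
  obtain ⟨s, hs⟩ := (Algebra.FiniteType.out : (⊤ : Subalgebra B₀ C₀).FG)
  obtain ⟨j, a, ha⟩ := H.exists_kill₂ B₀ D (s.image fun c => ν c - ν' c) (by
    intro x hx
    obtain ⟨c, hc, rfl⟩ := Finset.mem_image.1 hx
    rw [← cMap_eq, map_sub, sub_eq_zero]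
    exact AlgHom.congr_fun h c)
  refine ⟨j, a, AlgHom.ext_of_adjoin_eq_top hs fun c hc => ?_⟩
  have h1 := ha _ (Finset.mem_image_of_mem (fun c => ν c - ν' c) (Finset.mem_coe.1 hc))
  rw [← cMap_eq, map_sub, sub_eq_zero] at h1
  exact h1

end Alg

end IsWeakColim

end Groth.Agent.Lib.WeakColim
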