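import Mathlib
import Groth.Agent.Lib.WeakColim2_lead

/-!
# Weak directed colimits: descent of properties of `B₀ ⊗ A → (B₀ ⊗ A) ⊗[B₀] C₀` to a stage (lead)
-/

set_option autoImplicit false
universe u

namespace Groth.Agent.Lib.WeakColim

open TensorProduct

section General

variable {R S C : Type*} [CommRing R] [CommRing S] [CommRing C] [Algebra R S] [Algebra R C]

theorem algebraMap_eq_tmul_one (t : S) : algebraMap S (S ⊗[R] C) t = t ⊗ₜ[R] (1 : C) := rfl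

theorem subalgebra_eq_top (s : Set C) (hs : Algebra.adjoin R s = ⊤)
    (U : Subalgebra S (S ⊗[R] C)) (h : ∀ c ∈ s, (1 : S) ⊗ₜ[R] c ∈ U) : U = ⊤ := by
  have h1 : ∀ c : C, (1 : S) ⊗ₜ[R] c ∈ U := by
    let V : Subalgebra R C := (U.restrictScalars R).comap Algebra.TensorProduct.includeRight
    have hV : Algebra.adjoin R s ≤ V := Algebra.adjoin_le fun c hc => h c hc
    intro c
    have hc : c ∈ V := hV (by rw [hs]; exact Algebra.mem_top)
    exact hc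
  have h3 : ∀ z : S ⊗[R] C, z ∈ U := by
    intro z
    induction z using TensorProduct.induction_on with
    | zero => exact U.zero_mem
    | tmul t c =>
      have h2 : t ⊗ₜ[R] c = t • ((1 : S) ⊗ₜ[R] c) := by
        rw [TensorProduct.smul_tmul', smul_eq_mul, mul_one]
      rw [h2]
      exact U.smul_mem (h1 c) t
    | add x y hx hy => exact U.add_mem hx hy
  exact eq_top_iff.2 fun z _ => h3 z

theorem surjective_algebraMap_of_generators (s : Set C) (hs : Algebra.adjoin R s = ⊤)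
    (h : ∀ c ∈ s, ∃ t : S, t ⊗ₜ[R] (1 : C) = (1 : S) ⊗ₜ[R] c) :
    Function.Surjective (algebraMap S (S ⊗[R] C)) := by
  have hU : (Algebra.ofId S (S ⊗[R] C)).range = ⊤ :=
    subalgebra_eq_top s hs _ (fun c hc => by
      obtain ⟨t, ht⟩ := h c hc
      exact (AlgHom.mem_range _).2 ⟨t, ht⟩)
  intro z
  have hz : z ∈ (Algebra.ofId S (S ⊗[R] C)).range := by
    rw [hU]
    exact Algebra.mem_top
  obtain ⟨t, ht⟩ := (AlgHom.mem_range _).1 hz
  exact ⟨t, ht⟩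

theorem finite_of_generators_integral (s : Finset C) (hs : Algebra.adjoin R (s : Set C) = ⊤)
    (h : ∀ c ∈ s, IsIntegral S ((1 : S) ⊗ₜ[R] c)) : Module.Finite S (S ⊗[R] C) := by
  classical
  have hU : Algebra.adjoin S
      (((s.image fun c => (1 : S) ⊗ₜ[R] c : Finset (S ⊗[R] C)) : Set (S ⊗[R] C))) = ⊤ :=
    subalgebra_eq_top (s : Set C) hs _ (fun c hc =>
      Algebra.subset_adjoin (Finset.mem_coe.2
        (Finset.mem_image_of_mem _ (Finset.mem_coe.1 hc))))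
  have hfg : (Algebra.adjoin S
      (((s.image fun c => (1 : S) ⊗ₜ[R] c : Finset (S ⊗[R] C)) :
        Set (S ⊗[R] C)))).toSubmodule.FG :=
    fg_adjoin_of_finite (Finset.finite_toSet _) (fun x hx => by
      obtain ⟨c, hc, rfl⟩ := Finset.mem_image.1 (Finset.mem_coe.1 hx)
      exact h c hc)
  rw [hU, Algebra.top_toSubmodule] at hfg
  exact ⟨hfg⟩

theorem monic_eval₂_eq {R' S' : Type*} [CommRing R'] [CommRing S'] (φ : R' →+* S')
    (p : Polynomial R') (hp : p.Monic) (z : S') :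
    Polynomial.eval₂ φ z p =
      z ^ p.natDegree + ∑ m : Fin p.natDegree, φ (p.coeff m) * z ^ (m : ℕ) := by
  rw [Polynomial.eval₂_eq_sum_range, Finset.sum_range_succ, hp.coeff_natDegree, map_one, one_mul,
    add_comm, Finset.sum_range]

theorem isIntegral_of_eq {R' S' : Type*} [CommRing R'] [CommRing S'] [Algebra R' S'] (z : S')
    (n : ℕ) (a : Fin n → R')
    (h : z ^ n + ∑ m : Fin n, algebraMap R' S' (a m) * z ^ (m : ℕ) = 0) : IsIntegral R' z := by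
  refine ⟨Polynomial.X ^ n + ∑ m : Fin n, Polynomial.C (a m) * Polynomial.X ^ (m : ℕ),
    Polynomial.monic_X_pow_add (Polynomial.degree_sum_fin_lt a), ?_⟩
  rw [Polynomial.eval₂_add, Polynomial.eval₂_pow, Polynomial.eval₂_X, Polynomial.eval₂_finsetSum]
  simp only [Polynomial.eval₂_mul, Polynomial.eval₂_C, Polynomial.eval₂_pow, Polynomial.eval₂_X]
  exact h

theorem subsingleton_tensor_kaehler (s : Set C) (hs : Algebra.adjoin R s = ⊤)
    (h : ∀ c ∈ s, (1 : S) ⊗ₜ[R] KaehlerDifferential.D R C c = 0) :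
    Subsingleton (S ⊗[R] Ω[C⁄R]) := by
  let V : Submodule C (Ω[C⁄R]) :=
    { carrier := {ω | ∀ t : S, t ⊗ₜ[R] ω = 0}
      add_mem' := fun {a b} ha hb t => by rw [TensorProduct.tmul_add, ha t, hb t, add_zero]
      zero_mem' := fun t => TensorProduct.tmul_zero _ t
      smul_mem' := fun c ω hω t => by
        have h1 : t ⊗ₜ[R] (c • ω) = LinearMap.lTensor S
            ((LinearMap.lsmul C (Ω[C⁄R]) c).restrictScalars R) (t ⊗ₜ[R] ω) := rfl
        rw [h1, hω t, map_zero] }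
  have hV : ∀ ω, ω ∈ V ↔ ∀ t : S, t ⊗ₜ[R] ω = 0 := fun ω => Iff.rfl
  have hD : ∀ c : C, KaehlerDifferential.D R C c ∈ V := by
    let U : Subalgebra R C :=
      { carrier := {c | KaehlerDifferential.D R C c ∈ V}
        mul_mem' := fun {a b} ha hb => by
          show KaehlerDifferential.D R C (a * b) ∈ V
          rw [Derivation.leibniz]
          exact V.add_mem (V.smul_mem a hb) (V.smul_mem b ha)
        one_mem' := by
          show KaehlerDifferential.D R C 1 ∈ V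
          rw [Derivation.map_one_eq_zero]
          exact V.zero_mem
        add_mem' := fun {a b} ha hb => by
          show KaehlerDifferential.D R C (a + b) ∈ V
          rw [map_add]
          exact V.add_mem ha hb
        zero_mem' := by
          show KaehlerDifferential.D R C 0 ∈ V
          rw [map_zero]
          exact V.zero_mem
        algebraMap_mem' := fun r => by
          show KaehlerDifferential.D R C (algebraMap R C r) ∈ V
          rw [Derivation.map_algebraMap]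
          exact V.zero_mem }
    have hU : Algebra.adjoin R s ≤ U := Algebra.adjoin_le fun c hc => by
      show KaehlerDifferential.D R C c ∈ V
      rw [hV]
      intro t
      have h2 : t ⊗ₜ[R] KaehlerDifferential.D R C c =
          t • ((1 : S) ⊗ₜ[R] KaehlerDifferential.D R C c) := by
        rw [TensorProduct.smul_tmul', smul_eq_mul, mul_one]
      rw [h2, h c hc, smul_zero]
    intro c
    have hc : c ∈ U := hU (by rw [hs]; exact Algebra.mem_top)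
    exact hc
  have hVtop : V = ⊤ := by
    rw [eq_top_iff, ← KaehlerDifferential.span_range_derivation R C, Submodule.span_le]
    rintro _ ⟨c, rfl⟩
    exact hD c
  have h0 : ∀ z : S ⊗[R] Ω[C⁄R], z = 0 := by
    intro z
    induction z using TensorProduct.induction_on with
    | zero => rfl
    | tmul t ω =>
      have hω : ω ∈ V := by
        rw [hVtop]
        exact Submodule.mem_top
      exact (hV ω).1 hω t
    | add a b ha hb => rw [ha, hb, add_zero]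
  exact ⟨fun x y => by rw [h0 x, h0 y]⟩

end General

section SmoothGeneral

theorem formallySmooth_iff_section {R P C E : Type u} [CommRing R] [CommRing P] [CommRing C]
    [CommRing E] [Algebra R P] [Algebra R C] [Algebra R E] [Algebra.FormallySmooth R P]
    (π : P →ₐ[R] C) (p : P →ₐ[R] E) (q : E →ₐ[R] C) (hqp : q.comp p = π)
    (hπ : Function.Surjective π) (hp : Function.Surjective p)
    (hker : RingHom.ker p.toRingHom = RingHom.ker π.toRingHom ^ 2) :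
    Algebra.FormallySmooth R C ↔ ∃ σ : C →ₐ[R] E, q.comp σ = AlgHom.id R C := by
  have hqp' : ∀ y, q (p y) = π y := fun y => AlgHom.congr_fun hqp y
  constructor
  · intro hsm
    obtain ⟨g, hg⟩ := (Algebra.FormallySmooth.iff_split_surjection π hπ).1 hsm
    have hle : ∀ a ∈ RingHom.ker π.toRingHom ^ 2, p a = 0 := by
      intro a ha
      rw [← hker] at ha
      exact RingHom.mem_ker.1 ha
    let ε' : P ⧸ RingHom.ker π.toRingHom ^ 2 →ₐ[R] E := Ideal.Quotient.liftₐ _ p hle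
    refine ⟨ε'.comp g, ?_⟩
    have h1 : q.comp ε' = π.kerSquareLift := by
      refine AlgHom.ext fun z => ?_
      obtain ⟨y, rfl⟩ := Ideal.Quotient.mk_surjective z
      exact hqp' y
    rw [← AlgHom.comp_assoc, h1, hg]
  · rintro ⟨σ, hσ⟩
    have hle : RingHom.ker p.toRingHom ≤
        RingHom.ker (Ideal.Quotient.mkₐ R (RingHom.ker π.toRingHom ^ 2)).toRingHom := by
      rw [hker]
      intro a ha
      exact RingHom.mem_ker.2 (Ideal.Quotient.eq_zero_iff_mem.2 ha)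
    let ε : E →ₐ[R] P ⧸ RingHom.ker π.toRingHom ^ 2 :=
      AlgHom.liftOfSurjective p hp (Ideal.Quotient.mkₐ R _) hle
    refine Algebra.FormallySmooth.of_split π (ε.comp σ) ?_
    refine AlgHom.ext fun c => ?_
    obtain ⟨y, hy⟩ := hp (σ c)
    show π.kerSquareLift (ε (σ c)) = c
    rw [← hy, AlgHom.liftOfSurjective_apply]
    show π y = c
    rw [← hqp', hy]
    exact AlgHom.congr_fun hσ c

variable {B₀ : Type u} [CommRing B₀] {C₀ : Type u} [CommRing C₀] [Algebra B₀ C₀]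
  {P₀ : Type u} [CommRing P₀] [Algebra B₀ P₀]
  (S : Type u) [CommRing S] [Algebra B₀ S]

theorem map_id_eq_lTensor {C D : Type u} [CommRing C] [CommRing D] [Algebra B₀ C] [Algebra B₀ D]
    (γ : C →ₐ[B₀] D) (x : S ⊗[B₀] C) :
    Algebra.TensorProduct.map (AlgHom.id S S) γ x = LinearMap.lTensor S γ.toLinearMap x := by
  induction x using TensorProduct.induction_on with
  | zero => simp only [map_zero]
  | tmul t c => rfl
  | add x y hx hy => simp only [map_add, hx, hy]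

theorem map_id_surjective {C D : Type u} [CommRing C] [CommRing D] [Algebra B₀ C] [Algebra B₀ D]
    (γ : C →ₐ[B₀] D) (hγ : Function.Surjective γ) :
    Function.Surjective (Algebra.TensorProduct.map (AlgHom.id S S) γ) := by
  intro y
  obtain ⟨x, hx⟩ := LinearMap.lTensor_surjective S (g := γ.toLinearMap) hγ y
  exact ⟨x, by rw [map_id_eq_lTensor, hx]⟩

theorem ker_map_id {C D : Type u} [CommRing C] [CommRing D] [Algebra B₀ C] [Algebra B₀ D]
    (γ : C →ₐ[B₀] D) (hγ : Function.Surjective γ) :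
    RingHom.ker (Algebra.TensorProduct.map (AlgHom.id S S) γ).toRingHom =
      (RingHom.ker γ.toRingHom).map
        (Algebra.TensorProduct.includeRight : C →ₐ[B₀] S ⊗[B₀] C) := by
  have h1 := Algebra.TensorProduct.lTensor_ker (A := S) γ hγ
  have h2 : RingHom.ker (Algebra.TensorProduct.map (AlgHom.id S S) γ).toRingHom =
      RingHom.ker (Algebra.TensorProduct.map (AlgHom.id B₀ S) γ) := by
    ext x
    rw [RingHom.mem_ker, RingHom.mem_ker]
    have h3 : (Algebra.TensorProduct.map (AlgHom.id S S) γ).toRingHom x =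
        Algebra.TensorProduct.map (AlgHom.id B₀ S) γ x := by
      induction x using TensorProduct.induction_on with
      | zero => simp only [map_zero]
      | tmul t c => rfl
      | add x y hx hy => simp only [map_add, hx, hy]
    rw [h3]
  rw [h2, h1]
  rfl

end SmoothGeneral

variable {ι : Type u} [Preorder ι] [IsDirected ι (· ≤ ·)] [Nonempty ι]
  {A₀ : Type u} [CommRing A₀] {G : ι → Type u} [∀ i, CommRing (G i)] [∀ i, Algebra A₀ (G i)]
  {A : Type u} [CommRing A] [Algebra A₀ A]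
  {f : ∀ i j, i ≤ j → (G i →ₐ[A₀] G j)} {g : ∀ i, G i →ₐ[A₀] A}
  (B₀ : Type u) [CommRing B₀] [Algebra A₀ B₀] (C₀ : Type u) [CommRing C₀] [Algebra A₀ C₀]
  [Algebra B₀ C₀] [IsScalarTower A₀ B₀ C₀]

namespace IsWeakColim

theorem exists_surjective (H : IsWeakColim f g) [Algebra.FiniteType B₀ C₀]
    (h : Function.Surjective (algebraMap (B₀ ⊗[A₀] A) ((B₀ ⊗[A₀] A) ⊗[B₀] C₀))) (i₀ : ι) :
    ∃ (i : ι) (_ : Adm g i₀ i), ∀ (j : ι) (_ : Adm g i j),
      Function.Surjective (algebraMap (B₀ ⊗[A₀] G j) ((B₀ ⊗[A₀] G j) ⊗[B₀] C₀)) := by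
  classical
  obtain ⟨s, hs⟩ := (Algebra.FiniteType.out : (⊤ : Subalgebra B₀ C₀).FG)
  choose θ hθ using fun c : C₀ => h ((1 : B₀ ⊗[A₀] A) ⊗ₜ[B₀] c)
  obtain ⟨i₁, a₁, x, hx⟩ := H.exists_lift_finset B₀ s θ i₀
  obtain ⟨i, b, hb⟩ := H.exists_kill₂ B₀ C₀
    (s.image fun c => (x c) ⊗ₜ[B₀] (1 : C₀) - (1 : B₀ ⊗[A₀] G i₁) ⊗ₜ[B₀] c) (by
      intro z hz
      obtain ⟨c, hc, rfl⟩ := Finset.mem_image.1 hz
      rw [map_sub, sub_eq_zero, cMapₗ_tmul, cMapₗ_tmul, map_one, tMap_eq, hx c hc]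
      exact hθ c)
  refine ⟨i, a₁.trans b, fun j a' => ?_⟩
  refine surjective_algebraMap_of_generators (s : Set C₀) hs (fun c hc => ?_)
  refine ⟨tMap B₀ a'.φ (tMap B₀ b.φ (x c)), ?_⟩
  have h1 := hb _ (Finset.mem_image_of_mem
    (fun c => (x c) ⊗ₜ[B₀] (1 : C₀) - (1 : B₀ ⊗[A₀] G i₁) ⊗ₜ[B₀] c) (Finset.mem_coe.1 hc))
  rw [map_sub, sub_eq_zero, cMapₗ_tmul, cMapₗ_tmul, map_one] at h1
  have h2 := congrArg (cMapₗ B₀ C₀ a'.φ) h1
  rw [cMapₗ_tmul, cMapₗ_tmul, map_one] at h2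
  exact h2

theorem exists_finite (H : IsWeakColim f g) [Algebra.FiniteType B₀ C₀]
    (h : Module.Finite (B₀ ⊗[A₀] A) ((B₀ ⊗[A₀] A) ⊗[B₀] C₀)) (i₀ : ι) :
    ∃ (i : ι) (_ : Adm g i₀ i), ∀ (j : ι) (_ : Adm g i j),
      Module.Finite (B₀ ⊗[A₀] G j) ((B₀ ⊗[A₀] G j) ⊗[B₀] C₀) := by
  classical
  obtain ⟨s, hs⟩ := (Algebra.FiniteType.out : (⊤ : Subalgebra B₀ C₀).FG)
  have hint : ∀ c : C₀, ∃ p : Polynomial (B₀ ⊗[A₀] A), p.Monic ∧
      Polynomial.eval₂ (algebraMap (B₀ ⊗[A₀] A) ((B₀ ⊗[A₀] A) ⊗[B₀] C₀))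
        ((1 : B₀ ⊗[A₀] A) ⊗ₜ[B₀] c) p = 0 :=
    fun c => IsIntegral.of_finite (B₀ ⊗[A₀] A) ((1 : B₀ ⊗[A₀] A) ⊗ₜ[B₀] c)
  choose p hpm hp using hint
  obtain ⟨i₁, a₁, x, hx⟩ := H.exists_lift_finset B₀
    (s ×ˢ Finset.range (s.sup fun c => (p c).natDegree))
    (fun k : C₀ × ℕ => (p k.1).coeff k.2) i₀
  have hx' : ∀ c ∈ s, ∀ m : Fin (p c).natDegree,
      tMap B₀ (g i₁) (x (c, (m : ℕ))) = (p c).coeff (m : ℕ) := by
    intro c hc m
    rw [tMap_eq]
    exact hx (c, (m : ℕ)) (Finset.mem_product.2 ⟨hc, Finset.mem_range.2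
      (lt_of_lt_of_le m.2 (Finset.le_sup (f := fun c => (p c).natDegree) hc))⟩)
  let e : ∀ (j : ι), (C₀ × ℕ → B₀ ⊗[A₀] G j) → C₀ → (B₀ ⊗[A₀] G j) ⊗[B₀] C₀ := fun j y c =>
    ((1 : B₀ ⊗[A₀] G j) ⊗ₜ[B₀] c) ^ (p c).natDegree +
      ∑ m : Fin (p c).natDegree, (y (c, (m : ℕ)) ⊗ₜ[B₀] (1 : C₀)) *
        ((1 : B₀ ⊗[A₀] G j) ⊗ₜ[B₀] c) ^ (m : ℕ)
  have he : ∀ (j k : ι) (φ : G j →ₐ[A₀] G k) (y : C₀ × ℕ → B₀ ⊗[A₀] G j) (c : C₀),
      cMap B₀ C₀ φ (e j y c) = e k (fun q => tMap B₀ φ (y q)) c := by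
    intro j k φ y c
    simp only [e, map_add, map_pow, map_sum, map_mul, cMap_tmul, map_one]
  obtain ⟨i, b, hb⟩ := H.exists_kill₂ B₀ C₀ (s.image (e i₁ x)) (by
    intro z hz
    obtain ⟨c, hc, rfl⟩ := Finset.mem_image.1 hz
    rw [← cMap_eq]
    have h1 : cMap B₀ C₀ (g i₁) (e i₁ x c) =
        ((1 : B₀ ⊗[A₀] A) ⊗ₜ[B₀] c) ^ (p c).natDegree +
          ∑ m : Fin (p c).natDegree, (tMap B₀ (g i₁) (x (c, (m : ℕ))) ⊗ₜ[B₀] (1 : C₀)) *
            ((1 : B₀ ⊗[A₀] A) ⊗ₜ[B₀] c) ^ (m : ℕ) := by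
      simp only [e, map_add, map_pow, map_sum, map_mul, cMap_tmul, map_one]
    have hp' := hp c
    rw [monic_eval₂_eq _ _ (hpm c)] at hp'
    rw [h1]
    refine Eq.trans ?_ hp'
    congr 1
    refine Finset.sum_congr rfl fun m _ => ?_
    rw [hx' c hc m, algebraMap_eq_tmul_one])
  refine ⟨i, a₁.trans b, fun j a' => ?_⟩
  refine finite_of_generators_integral s hs (fun c hc => ?_)
  have h1 : cMap B₀ C₀ b.φ (e i₁ x c) = 0 := by
    rw [cMap_eq]
    exact hb _ (Finset.mem_image_of_mem _ hc)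
  have h2 := he i j a'.φ (fun q => tMap B₀ b.φ (x q)) c
  rw [← he i₁ i b.φ x c, h1, map_zero] at h2
  refine isIntegral_of_eq _ (p c).natDegree
    (fun m => tMap B₀ a'.φ (tMap B₀ b.φ (x (c, (m : ℕ))))) ?_
  exact h2.symm

theorem exists_injective (H : IsWeakColim f g) [Algebra.FinitePresentation B₀ C₀]
    (ν₀ : C₀ →ₐ[B₀] B₀ ⊗[A₀] A) (i₀ : ι) :
    ∃ (i : ι) (_ : Adm g i₀ i), ∀ (j : ι) (_ : Adm g i j),
      Function.Injective (algebraMap (B₀ ⊗[A₀] G j) ((B₀ ⊗[A₀] G j) ⊗[B₀] C₀)) := by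
  obtain ⟨i, a, ν', -⟩ := H.exists_factor_algHom B₀ C₀ B₀
    ((Algebra.TensorProduct.rid B₀ B₀ (B₀ ⊗[A₀] A)).symm.toAlgHom.comp ν₀) i₀
  refine ⟨i, a, fun j a' => ?_⟩
  let ν'' : C₀ →ₐ[B₀] B₀ ⊗[A₀] G j :=
    ((Algebra.TensorProduct.rid B₀ B₀ (B₀ ⊗[A₀] G j)).toAlgHom.comp (cMap B₀ B₀ a'.φ)).comp ν'
  let ρ : (B₀ ⊗[A₀] G j) ⊗[B₀] C₀ →ₐ[B₀ ⊗[A₀] G j] B₀ ⊗[A₀] G j :=
    Algebra.TensorProduct.lift (AlgHom.id _ _) ν'' (fun _ _ => Commute.all _ _)
  exact Function.LeftInverse.injective (g := ρ) (fun t => ρ.commutes t)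

theorem exists_bijective (H : IsWeakColim f g) [Algebra.FinitePresentation B₀ C₀]
    (h : Function.Bijective (algebraMap (B₀ ⊗[A₀] A) ((B₀ ⊗[A₀] A) ⊗[B₀] C₀))) (i₀ : ι) :
    ∃ (i : ι) (_ : Adm g i₀ i), ∀ (j : ι) (_ : Adm g i j),
      Function.Bijective (algebraMap (B₀ ⊗[A₀] G j) ((B₀ ⊗[A₀] G j) ⊗[B₀] C₀)) := by
  obtain ⟨i₁, a₁, h₁⟩ := H.exists_surjective B₀ C₀ h.2 i₀
  let e : (B₀ ⊗[A₀] A) ≃ₐ[B₀ ⊗[A₀] A] (B₀ ⊗[A₀] A) ⊗[B₀] C₀ :=
    AlgEquiv.ofBijective (Algebra.ofId (B₀ ⊗[A₀] A) ((B₀ ⊗[A₀] A) ⊗[B₀] C₀)) h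
  let ν₀ : C₀ →ₐ[B₀] B₀ ⊗[A₀] A :=
    (e.symm.toAlgHom.restrictScalars B₀).comp Algebra.TensorProduct.includeRight
  obtain ⟨i, a, h₂⟩ := H.exists_injective B₀ C₀ ν₀ i₁
  exact ⟨i, a₁.trans a, fun j a' => ⟨h₂ j a', h₁ j (a.trans a')⟩⟩

section Unramified

attribute [local instance] Algebra.TensorProduct.rightAlgebra

theorem exists_unramified (H : IsWeakColim f g) [Algebra.FiniteType B₀ C₀]
    (h : Algebra.Unramified (B₀ ⊗[A₀] A) ((B₀ ⊗[A₀] A) ⊗[B₀] C₀)) (i₀ : ι) :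
    ∃ (i : ι) (_ : Adm g i₀ i), ∀ (j : ι) (_ : Adm g i j),
      Algebra.Unramified (B₀ ⊗[A₀] G j) ((B₀ ⊗[A₀] G j) ⊗[B₀] C₀) := by
  classical
  obtain ⟨s, hs⟩ := (Algebra.FiniteType.out : (⊤ : Subalgebra B₀ C₀).FG)
  haveI hsub : Subsingleton ((B₀ ⊗[A₀] A) ⊗[B₀] Ω[C₀⁄B₀]) :=
    (KaehlerDifferential.tensorKaehlerEquivBase B₀ (B₀ ⊗[A₀] A) C₀
      ((B₀ ⊗[A₀] A) ⊗[B₀] C₀)).toEquiv.subsingleton
  obtain ⟨i, a, ha⟩ := H.exists_kill₂ B₀ (Ω[C₀⁄B₀])
    (s.image fun c => (1 : B₀ ⊗[A₀] G i₀) ⊗ₜ[B₀] KaehlerDifferential.D B₀ C₀ c)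
    (fun z _ => Subsingleton.elim _ _)
  refine ⟨i, a, fun j a' => ?_⟩
  have h1 : ∀ c ∈ (s : Set C₀),
      (1 : B₀ ⊗[A₀] G j) ⊗ₜ[B₀] KaehlerDifferential.D B₀ C₀ c = 0 := by
    intro c hc
    have h2 := ha _ (Finset.mem_image_of_mem
      (fun c => (1 : B₀ ⊗[A₀] G i₀) ⊗ₜ[B₀] KaehlerDifferential.D B₀ C₀ c) (Finset.mem_coe.1 hc))
    rw [cMapₗ_tmul, map_one] at h2
    have h3 := congrArg (cMapₗ B₀ (Ω[C₀⁄B₀]) a'.φ) h2
    rwa [cMapₗ_tmul, map_one, map_zero] at h3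
  haveI : Subsingleton ((B₀ ⊗[A₀] G j) ⊗[B₀] Ω[C₀⁄B₀]) :=
    subsingleton_tensor_kaehler (s : Set C₀) hs h1
  haveI : Subsingleton (Ω[(B₀ ⊗[A₀] G j) ⊗[B₀] C₀⁄B₀ ⊗[A₀] G j]) :=
    (KaehlerDifferential.tensorKaehlerEquivBase B₀ (B₀ ⊗[A₀] G j) C₀
      ((B₀ ⊗[A₀] G j) ⊗[B₀] C₀)).symm.toEquiv.subsingleton
  exact { formallyUnramified := ⟨inferInstance⟩, finiteType := inferInstance }

end Unramified

end IsWeakColim

end Groth.Agent.Lib.WeakColim
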