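import Mathlib
import Groth.Agent.Lib.WeakColim3_lead

/-!
# Weak directed colimits: descent of smoothness and étaleness to a stage (lead)
-/

set_option autoImplicit false
universe u

namespace Groth.Agent.Lib.WeakColim

open TensorProduct

section SmoothData

variable {A₀ : Type u} [CommRing A₀] {B₀ : Type u} [CommRing B₀] [Algebra A₀ B₀]
  {C₀ : Type u} [CommRing C₀] [Algebra A₀ C₀] [Algebra B₀ C₀] [IsScalarTower A₀ B₀ C₀]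
  {n : ℕ} (π : MvPolynomial (Fin n) B₀ →ₐ[B₀] C₀)

/-- the first-order thickening `B₀[X]/J²` of `C₀ = B₀[X]/J` -/
abbrev EE : Type u := MvPolynomial (Fin n) B₀ ⧸ RingHom.ker π.toRingHom ^ 2

theorem smooth_data_iff (S : Type u) [CommRing S] [Algebra B₀ S] (hπ : Function.Surjective π) :
    Algebra.FormallySmooth S (S ⊗[B₀] C₀) ↔
      ∃ σ : S ⊗[B₀] C₀ →ₐ[S] S ⊗[B₀] EE π,
        (Algebra.TensorProduct.map (AlgHom.id S S) π.kerSquareLift).comp σ = AlgHom.id S _ := by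
  have hmk : Function.Surjective (Ideal.Quotient.mkₐ B₀ (RingHom.ker π.toRingHom ^ 2)) :=
    Ideal.Quotient.mkₐ_surjective B₀ _
  have hkermk : RingHom.ker (Ideal.Quotient.mkₐ B₀ (RingHom.ker π.toRingHom ^ 2)).toRingHom =
      RingHom.ker π.toRingHom ^ 2 := by
    ext x
    rw [RingHom.mem_ker]
    exact Ideal.Quotient.eq_zero_iff_mem
  refine formallySmooth_iff_section
    (Algebra.TensorProduct.map (AlgHom.id S S) π)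
    (Algebra.TensorProduct.map (AlgHom.id S S)
      (Ideal.Quotient.mkₐ B₀ (RingHom.ker π.toRingHom ^ 2)))
    (Algebra.TensorProduct.map (AlgHom.id S S) π.kerSquareLift) ?_ ?_ ?_ ?_
  · have h1 : π.kerSquareLift.comp (Ideal.Quotient.mkₐ B₀ (RingHom.ker π.toRingHom ^ 2)) = π :=
      AlgHom.ext fun x => rfl
    rw [← Algebra.TensorProduct.map_id_comp, h1]
  · exact map_id_surjective S π hπ
  · exact map_id_surjective S _ hmk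
  · rw [ker_map_id S _ hmk, ker_map_id S π hπ, ← Ideal.map_pow, hkermk]

variable (N N' : Type u) [CommRing N] [Algebra A₀ N] [CommRing N'] [Algebra A₀ N']

/-- `(B₀ ⊗ N) ⊗ E₀ → (B₀ ⊗ N) ⊗ C₀` as a `B₀`-algebra map -/
noncomputable abbrev qq :
    (B₀ ⊗[A₀] N) ⊗[B₀] EE π →ₐ[B₀] (B₀ ⊗[A₀] N) ⊗[B₀] C₀ :=
  Algebra.TensorProduct.map (AlgHom.id B₀ (B₀ ⊗[A₀] N)) π.kerSquareLift

theorem qq_eq (x : (B₀ ⊗[A₀] N) ⊗[B₀] EE π) :
    qq π N x = Algebra.TensorProduct.map (AlgHom.id (B₀ ⊗[A₀] N) (B₀ ⊗[A₀] N))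
      π.kerSquareLift x := by
  induction x using TensorProduct.induction_on with
  | zero => simp only [map_zero]
  | tmul t c => rfl
  | add x y hx hy => simp only [map_add, hx, hy]

variable {N N'} in
theorem qq_nat (φ : N →ₐ[A₀] N') :
    (cMap B₀ C₀ φ).comp (qq π N) = (qq π N').comp (cMap B₀ (EE π) φ) :=
  Algebra.TensorProduct.ext' fun _ _ => rfl

end SmoothData

variable {ι : Type u} [Preorder ι] [IsDirected ι (· ≤ ·)] [Nonempty ι]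
  {A₀ : Type u} [CommRing A₀] {G : ι → Type u} [∀ i, CommRing (G i)] [∀ i, Algebra A₀ (G i)]
  {A : Type u} [CommRing A] [Algebra A₀ A]
  {f : ∀ i j, i ≤ j → (G i →ₐ[A₀] G j)} {g : ∀ i, G i →ₐ[A₀] A}
  (B₀ : Type u) [CommRing B₀] [Algebra A₀ B₀] (C₀ : Type u) [CommRing C₀] [Algebra A₀ C₀]
  [Algebra B₀ C₀] [IsScalarTower A₀ B₀ C₀]

namespace IsWeakColim

theorem exists_smooth (H : IsWeakColim f g) [Algebra.FinitePresentation B₀ C₀]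
    (h : Algebra.Smooth (B₀ ⊗[A₀] A) ((B₀ ⊗[A₀] A) ⊗[B₀] C₀)) (i₀ : ι) :
    ∃ (i : ι) (_ : Adm g i₀ i), ∀ (j : ι) (_ : Adm g i j),
      Algebra.Smooth (B₀ ⊗[A₀] G j) ((B₀ ⊗[A₀] G j) ⊗[B₀] C₀) := by
  classical
  obtain ⟨n, π, hπ, -⟩ := Algebra.FinitePresentation.out (R := B₀) (A := C₀)
  haveI := h
  obtain ⟨σA, hσA⟩ := (smooth_data_iff π (B₀ ⊗[A₀] A) hπ).1 inferInstance
  let σ₀ : C₀ →ₐ[B₀] (B₀ ⊗[A₀] A) ⊗[B₀] EE π :=
    (σA.restrictScalars B₀).comp Algebra.TensorProduct.includeRight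
  obtain ⟨i₁, a₁, σ₁, hσ₁⟩ := H.exists_factor_algHom B₀ C₀ (EE π) σ₀ i₀
  have hcomp : (cMap B₀ C₀ (g i₁)).comp ((qq π (G i₁)).comp σ₁) =
      (cMap B₀ C₀ (g i₁)).comp Algebra.TensorProduct.includeRight := by
    refine AlgHom.ext fun c => ?_
    have e1 : cMap B₀ C₀ (g i₁) (qq π (G i₁) (σ₁ c)) =
        qq π A (cMap B₀ (EE π) (g i₁) (σ₁ c)) :=
      AlgHom.congr_fun (qq_nat π (g i₁)) (σ₁ c)
    have e2 : cMap B₀ (EE π) (g i₁) (σ₁ c) = σ₀ c := AlgHom.congr_fun hσ₁ c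
    have e3 : qq π A (σ₀ c) = (1 : B₀ ⊗[A₀] A) ⊗ₜ[B₀] c := by
      rw [qq_eq]
      exact AlgHom.congr_fun hσA ((1 : B₀ ⊗[A₀] A) ⊗ₜ[B₀] c)
    show cMap B₀ C₀ (g i₁) (qq π (G i₁) (σ₁ c)) =
      cMap B₀ C₀ (g i₁) ((1 : B₀ ⊗[A₀] G i₁) ⊗ₜ[B₀] c)
    rw [e1, e2, e3, cMap_tmul, map_one]
  haveI : Algebra.FiniteType B₀ C₀ := inferInstance
  obtain ⟨i, b, hb⟩ := H.exists_eq_algHom B₀ C₀ C₀ _ _ hcomp
  refine ⟨i, a₁.trans b, fun j a' => ?_⟩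
  let σj : C₀ →ₐ[B₀] (B₀ ⊗[A₀] G j) ⊗[B₀] EE π :=
    (cMap B₀ (EE π) (b.trans a').φ).comp σ₁
  have hσj : ∀ c : C₀, qq π (G j) (σj c) = (1 : B₀ ⊗[A₀] G j) ⊗ₜ[B₀] c := by
    intro c
    have e1 : qq π (G j) (cMap B₀ (EE π) (b.trans a').φ (σ₁ c)) =
        cMap B₀ C₀ (b.trans a').φ (qq π (G i₁) (σ₁ c)) :=
      (AlgHom.congr_fun (qq_nat π (b.trans a').φ) (σ₁ c)).symm
    have e2 : cMap B₀ C₀ b.φ (qq π (G i₁) (σ₁ c)) =
        cMap B₀ C₀ b.φ ((1 : B₀ ⊗[A₀] G i₁) ⊗ₜ[B₀] c) := AlgHom.congr_fun hb c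
    show qq π (G j) (cMap B₀ (EE π) (b.trans a').φ (σ₁ c)) = _
    rw [e1, cMap_trans, e2, cMap_tmul, map_one, cMap_tmul, map_one]
  let sj : (B₀ ⊗[A₀] G j) ⊗[B₀] C₀ →ₐ[B₀ ⊗[A₀] G j] (B₀ ⊗[A₀] G j) ⊗[B₀] EE π :=
    Algebra.TensorProduct.lift (Algebra.ofId _ _) σj
      (fun x y => Commute.all (Algebra.ofId (B₀ ⊗[A₀] G j) ((B₀ ⊗[A₀] G j) ⊗[B₀] EE π) x) (σj y))
  have hfs : Algebra.FormallySmooth (B₀ ⊗[A₀] G j) ((B₀ ⊗[A₀] G j) ⊗[B₀] C₀) := by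
    refine (smooth_data_iff π (B₀ ⊗[A₀] G j) hπ).2 ⟨sj, ?_⟩
    refine Algebra.TensorProduct.ext' fun t c => ?_
    show Algebra.TensorProduct.map (AlgHom.id (B₀ ⊗[A₀] G j) (B₀ ⊗[A₀] G j)) π.kerSquareLift
      (algebraMap (B₀ ⊗[A₀] G j) ((B₀ ⊗[A₀] G j) ⊗[B₀] EE π) t * σj c) = t ⊗ₜ[B₀] c
    rw [map_mul, AlgHom.commutes, ← qq_eq, hσj c, algebraMap_eq_tmul_one,
      Algebra.TensorProduct.tmul_mul_tmul, mul_one, one_mul]
  exact { formallySmooth := hfs, finitePresentation := inferInstance }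

theorem exists_etale (H : IsWeakColim f g) [Algebra.FinitePresentation B₀ C₀]
    (h : Algebra.Etale (B₀ ⊗[A₀] A) ((B₀ ⊗[A₀] A) ⊗[B₀] C₀)) (i₀ : ι) :
    ∃ (i : ι) (_ : Adm g i₀ i), ∀ (j : ι) (_ : Adm g i j),
      Algebra.Etale (B₀ ⊗[A₀] G j) ((B₀ ⊗[A₀] G j) ⊗[B₀] C₀) := by
  have hE := (Algebra.Etale.iff_formallyUnramified_and_smooth).1 h
  haveI : Algebra.Smooth (B₀ ⊗[A₀] A) ((B₀ ⊗[A₀] A) ⊗[B₀] C₀) := hE.2
  have hU : Algebra.Unramified (B₀ ⊗[A₀] A) ((B₀ ⊗[A₀] A) ⊗[B₀] C₀) :=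
    { formallyUnramified := hE.1, finiteType := inferInstance }
  haveI : Algebra.FiniteType B₀ C₀ := inferInstance
  obtain ⟨i₁, a₁, h₁⟩ := H.exists_smooth B₀ C₀ hE.2 i₀
  obtain ⟨i, a, h₂⟩ := H.exists_unramified B₀ C₀ hU i₁
  refine ⟨i, a₁.trans a, fun j a' => ?_⟩
  exact (Algebra.Etale.iff_formallyUnramified_and_smooth).2
    ⟨(h₂ j a').formallyUnramified, h₁ j (a.trans a')⟩

end IsWeakColim

end Groth.Agent.Lib.WeakColim
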