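import Mathlib
import Groth.Agent.Lib.LimSrc_helper7
import Groth.Agent.Lib.WeakColim4_lead

/-!
# From colimit descent of ring-hom properties to spreading-in along cofiltered limits (helper7)

Bridge between lead's algebra-level statements (`IsWeakColim.exists_smooth` etc.) and
`AffAffStage` of `LimSrc_helper7`.
-/

set_option autoImplicit false
set_option backward.isDefEq.respectTransparency false
universe u
open CategoryTheory CategoryTheory.Limits AlgebraicGeometry TensorProduct Opposite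

namespace Groth.Agent.Lib.LimAlgH7
open Groth.Agent.Lib.WeakColim Groth.Agent.Lib.LimSrcH7 Groth.Agent.Lib.LimIsoH7

section Ring
variable (Q : ∀ {R S : Type u} [CommRing R] [CommRing S], (R →+* S) → Prop)
  (Fin : ∀ {R S : Type u} [CommRing R] [CommRing S], (R →+* S) → Prop)
  (FinA : ∀ (R S : Type u) [CommRing R] [CommRing S] [Algebra R S], Prop)

/-- pushout-form of the descent of `Q` to a stage of a directed colimit. -/
def RingStage : Prop :=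
  ∀ {ι : Type u} [Preorder ι] [IsDirected ι (· ≤ ·)] [Nonempty ι]
    (A₀ : Type u) [CommRing A₀] (G : ι → Type u) [∀ i, CommRing (G i)] (τ : ∀ i, A₀ →+* G i)
    (f : ∀ i j, i ≤ j → (G i →+* G j)) (A : Type u) [CommRing A] (σ : A₀ →+* A)
    (g : ∀ i, G i →+* A)
    (_ : ∀ i j (h : i ≤ j), (f i j h).comp (τ i) = τ j)
    (_ : ∀ i, (g i).comp (τ i) = σ)
    (_ : ∀ i j (h : i ≤ j), (g j).comp (f i j h) = g i)
    (_ : ∀ a : A, ∃ i, ∃ x : G i, g i x = a)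
    (_ : ∀ i (x : G i), g i x = 0 → ∃ j, ∃ h : i ≤ j, f i j h x = 0)
    (C₀ : Type u) [CommRing C₀] (φ₀ : A₀ →+* C₀), Fin φ₀ →
    ∀ (Pt : CommRingCat.{u}) (inl : CommRingCat.of C₀ ⟶ Pt) (inr : CommRingCat.of A ⟶ Pt),
      IsPushout (CommRingCat.ofHom φ₀) (CommRingCat.ofHom σ) inl inr → Q inr.hom →
    ∃ i, ∀ (Pt' : CommRingCat.{u}) (inl' : CommRingCat.of C₀ ⟶ Pt')
      (inr' : CommRingCat.of (G i) ⟶ Pt'),
      IsPushout (CommRingCat.ofHom φ₀) (CommRingCat.ofHom (τ i)) inl' inr' → Q inr'.hom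

/-- tensor-form (the shape of lead's statements with `B₀ = A₀`). -/
def LeadForm : Prop :=
  ∀ {ι : Type u} [Preorder ι] [IsDirected ι (· ≤ ·)] [Nonempty ι]
    {A₀ : Type u} [CommRing A₀] {G : ι → Type u} [∀ i, CommRing (G i)] [∀ i, Algebra A₀ (G i)]
    {A : Type u} [CommRing A] [Algebra A₀ A]
    {f : ∀ i j, i ≤ j → (G i →ₐ[A₀] G j)} {g : ∀ i, G i →ₐ[A₀] A}, IsWeakColim f g →
    ∀ (C₀ : Type u) [CommRing C₀] [Algebra A₀ C₀], FinA A₀ C₀ →
    Q (algebraMap (A₀ ⊗[A₀] A) ((A₀ ⊗[A₀] A) ⊗[A₀] C₀)) →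
      ∃ i, Q (algebraMap (A₀ ⊗[A₀] G i) ((A₀ ⊗[A₀] G i) ⊗[A₀] C₀))

variable {Q Fin FinA}

theorem bridge_alg (hQ : RingHom.RespectsIso @Q) {A₀ R C₀ : Type u} [CommRing A₀] [CommRing R]
    [CommRing C₀] [Algebra A₀ R] [Algebra A₀ C₀] {Pt : CommRingCat.{u}}
    (inl : CommRingCat.of C₀ ⟶ Pt) (inr : CommRingCat.of R ⟶ Pt)
    (h : IsPushout (CommRingCat.ofHom (algebraMap A₀ C₀)) (CommRingCat.ofHom (algebraMap A₀ R))
      inl inr) :
    Q (algebraMap (A₀ ⊗[A₀] R) ((A₀ ⊗[A₀] R) ⊗[A₀] C₀)) ↔ Q inr.hom := by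
  let e₁ : CommRingCat.of (A₀ ⊗[A₀] R) ≅ CommRingCat.of R :=
    (Algebra.TensorProduct.lid A₀ R).toRingEquiv.toCommRingCatIso
  have sq2 := CommRingCat.isPushout_tensorProduct A₀ (A₀ ⊗[A₀] R) C₀
  have sq1 : IsPushout (CommRingCat.ofHom (algebraMap A₀ (A₀ ⊗[A₀] R)))
      (CommRingCat.ofHom (algebraMap A₀ C₀)) (e₁.hom ≫ inr) inl := by
    refine IsPushout.of_iso h.flip (Iso.refl _) e₁.symm (Iso.refl _) (Iso.refl _) ?_ ?_ ?_ ?_
    · ext x
      simp [e₁]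
    · simp
    · simp
    · simp
  have he₂ := sq2.inl_isoIsPushout_hom _ _ sq1
  have hmap : algebraMap (A₀ ⊗[A₀] R) ((A₀ ⊗[A₀] R) ⊗[A₀] C₀) =
      CommRingCat.Hom.hom (CommRingCat.ofHom (R := A₀ ⊗[A₀] R) (S := (A₀ ⊗[A₀] R) ⊗[A₀] C₀)
        Algebra.TensorProduct.includeLeftRingHom) := by
    refine RingHom.ext fun x => ?_
    simp [Algebra.TensorProduct.algebraMap_apply]
  rw [hmap, ← hQ.cancel_right_isIso _ (sq2.isoIsPushout _ _ sq1).hom, ← CommRingCat.hom_comp,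
    he₂, CommRingCat.hom_comp, hQ.cancel_left_isIso]

theorem ringStage_of_leadForm (hQ : RingHom.RespectsIso @Q) (hL : LeadForm @Q @FinA)
    (hFin : ∀ {R S : Type u} [CommRing R] [CommRing S] (φ : R →+* S), Fin φ →
      @FinA R S _ _ φ.toAlgebra) : RingStage @Q @Fin := by
  intro ι _ _ _ A₀ _ G _ τ f A _ σ g hτ hσ hg hsurj hker C₀ _ φ₀ hfin Pt inl inr hpo hq
  letI : Algebra A₀ C₀ := φ₀.toAlgebra
  letI : Algebra A₀ A := σ.toAlgebra
  letI : ∀ i, Algebra A₀ (G i) := fun i => (τ i).toAlgebra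
  let f' : ∀ i j, i ≤ j → (G i →ₐ[A₀] G j) := fun i j h =>
    { (f i j h) with commutes' := fun r => congr($(hτ i j h) r) }
  let g' : ∀ i, G i →ₐ[A₀] A := fun i =>
    { (g i) with commutes' := fun r => congr($(hσ i) r) }
  have HW : IsWeakColim f' g' :=
    ⟨fun i j h => AlgHom.ext fun x => congr($(hg i j h) x), hsurj, hker⟩
  have h1 : Q (algebraMap (A₀ ⊗[A₀] A) ((A₀ ⊗[A₀] A) ⊗[A₀] C₀)) :=
    (bridge_alg hQ inl inr hpo).mpr hq
  obtain ⟨i, hi⟩ := hL HW C₀ (hFin φ₀ hfin) h1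
  exact ⟨i, fun Pt' inl' inr' hpo' => (bridge_alg hQ inl' inr' hpo').mp hi⟩

end Ring

section Scheme
variable {Q : ∀ {R S : Type u} [CommRing R] [CommRing S], (R →+* S) → Prop}
  {Fin : ∀ {R S : Type u} [CommRing R] [CommRing S], (R →+* S) → Prop}
  {P : MorphismProperty Scheme.{u}} {H : ∀ {X Y : Scheme.{u}}, (X ⟶ Y) → Prop}

theorem core (hR : RingStage @Q @Fin)
    (hPQ : ∀ {X Y : Scheme.{u}} [IsAffine X] [IsAffine Y] (f : X ⟶ Y), P f ↔ Q f.appTop.hom)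
    {α : Type u} [PartialOrder α] [IsDirected α (· ≤ ·)] [Nonempty α]
    (E : αᵒᵖ ⥤ Scheme.{u}) [∀ a, IsAffine (E.obj a)] (cE : Cone E) (hcE : IsLimit cE)
    [IsAffine cE.pt] {S₀ : Scheme.{u}} [IsAffine S₀] (t : ∀ a, E.obj a ⟶ S₀)
    (ht : ∀ {a b : αᵒᵖ} (φ : a ⟶ b), E.map φ ≫ t b = t a)
    (s : cE.pt ⟶ S₀) (hs : ∀ a, cE.π.app a ≫ t a = s)
    {X₀ : Scheme.{u}} [IsAffine X₀] (f₀ : X₀ ⟶ S₀) (hfin : Fin f₀.appTop.hom)
    (hP : P (pullback.snd f₀ s)) : ∃ a, P (pullback.snd f₀ (t a)) := by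
  haveI : IsCofiltered αᵒᵖ := inferInstance
  obtain ⟨a, ha⟩ := hR (ι := α) Γ(S₀, ⊤) (fun a => Γ(E.obj (op a), ⊤))
    (fun a => (t (op a)).appTop.hom)
    (fun a b h => (E.map (homOfLE h).op).appTop.hom) Γ(cE.pt, ⊤) s.appTop.hom
    (fun a => (cE.π.app (op a)).appTop.hom)
    (fun a b h => by
      rw [← CommRingCat.hom_comp, ← Scheme.Hom.comp_appTop, ht])
    (fun a => by
      rw [← CommRingCat.hom_comp, ← Scheme.Hom.comp_appTop, hs])
    (fun a b h => by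
      rw [← CommRingCat.hom_comp, ← Scheme.Hom.comp_appTop, cE.w])
    (fun x => by
      obtain ⟨i, y, hy⟩ := exists_appTop_π_eq_of_isAffine_of_isLimit E cE hcE x
      exact ⟨i.unop, y, hy⟩)
    (fun a x hx => by
      obtain ⟨j, φ, hφ⟩ := exists_appTop_map_eq_zero_of_isAffine_of_isLimit E cE hcE (op a) x hx
      refine ⟨j.unop, leOfHom φ.unop, ?_⟩
      have : (homOfLE (leOfHom φ.unop)).op = φ := Quiver.Hom.unop_inj (Subsingleton.elim _ _)
      rw [this]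
      exact hφ)
    Γ(X₀, ⊤) f₀.appTop.hom hfin Γ(pullback f₀ s, ⊤) (pullback.fst f₀ s).appTop
    (pullback.snd f₀ s).appTop
    (isPushout_appTop_of_isPullback (IsPullback.of_hasPullback f₀ s))
    ((hPQ _).mp hP)
  exact ⟨op a, (hPQ _).mpr (ha _ (pullback.fst f₀ (t (op a))).appTop
    (pullback.snd f₀ (t (op a))).appTop
    (isPushout_appTop_of_isPullback (IsPullback.of_hasPullback f₀ (t (op a)))))⟩

theorem affAffStage_of_ringStage (hR : RingStage @Q @Fin)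
    (hPQ : ∀ {X Y : Scheme.{u}} [IsAffine X] [IsAffine Y] (f : X ⟶ Y), P f ↔ Q f.appTop.hom)
    (hFin : ∀ {X Y : Scheme.{u}} [IsAffine X] [IsAffine Y] (f : X ⟶ Y), H f →
      Fin f.appTop.hom) : AffAffStage P H := by
  intro J _ _ E cE hcE _ j₀ _ X₀ _ f₀ hf₀ hP
  obtain ⟨α, _, _, _, F, hF⟩ := IsFiltered.exists_directed (Over j₀)ᵒᵖ
  haveI := hF
  let Φ : αᵒᵖ ⥤ J := F.leftOp ⋙ Over.forget j₀
  haveI : Φ.Initial := inferInstance
  have hlim : IsLimit (cE.whisker Φ) := (Functor.Initial.isLimitWhiskerEquiv Φ cE).symm hcE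
  haveI : ∀ a, IsAffine ((Φ ⋙ E).obj a) := fun a =>
    isAffine_of_isAffineHom (E.map (F.obj a.unop).unop.hom)
  haveI : IsAffineHom (cE.π.app j₀) := isAffineHom_π_app E cE hcE j₀
  haveI hpt : IsAffine cE.pt := isAffine_of_isAffineHom (cE.π.app j₀)
  haveI : IsAffine (cE.whisker Φ).pt := hpt
  obtain ⟨a, ha⟩ := core hR hPQ (Φ ⋙ E) (cE.whisker Φ) hlim
    (fun a => E.map (F.obj a.unop).unop.hom)
    (fun {a b} φ => by
      rw [Functor.comp_map, ← E.map_comp]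
      congr 1
      exact Over.w (F.leftOp.map φ))
    (cE.π.app j₀) (fun a => by simp [Φ]) f₀ (hFin f₀ hf₀) hP
  exact ⟨_, (F.obj a.unop).unop.hom, ha⟩

end Scheme

end Groth.Agent.Lib.LimAlgH7
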