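import Mathlib
import Groth.Agent.Lib.LimAlg_helper7
import Groth.Agent.Lib.LimDiag_helper7

/-!
# `AffAffStage` for smooth, étale, formally unramified and finite morphisms (helper7)
-/

set_option autoImplicit false
set_option backward.isDefEq.respectTransparency false
universe u
open CategoryTheory CategoryTheory.Limits AlgebraicGeometry TensorProduct Opposite

namespace Groth.Agent.Lib.LimAlgH7
open Groth.Agent.Lib.WeakColim Groth.Agent.Lib.LimSrcH7 Groth.Agent.Lib.LimIsoH7
  Groth.Agent.Lib.LimDescendH7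

theorem leadForm_smooth :
    LeadForm @RingHom.Smooth (fun R S _ _ _ => Algebra.FinitePresentation R S) := by
  intro ι _ _ _ A₀ _ G _ _ A _ _ f g HW C₀ _ _ hfin hq
  haveI := hfin
  obtain ⟨i, _, hi⟩ := HW.exists_smooth A₀ C₀ (RingHom.smooth_algebraMap.mp hq)
    (Classical.arbitrary ι)
  exact ⟨i, RingHom.smooth_algebraMap.mpr (hi i (Adm.refl i))⟩

theorem leadForm_etale :
    LeadForm @RingHom.Etale (fun R S _ _ _ => Algebra.FinitePresentation R S) := by
  intro ι _ _ _ A₀ _ G _ _ A _ _ f g HW C₀ _ _ hfin hq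
  haveI := hfin
  obtain ⟨i, _, hi⟩ := HW.exists_etale A₀ C₀ (RingHom.etale_algebraMap.mp hq)
    (Classical.arbitrary ι)
  exact ⟨i, RingHom.etale_algebraMap.mpr (hi i (Adm.refl i))⟩

theorem leadForm_finite :
    LeadForm @RingHom.Finite (fun R S _ _ _ => Algebra.FiniteType R S) := by
  intro ι _ _ _ A₀ _ G _ _ A _ _ f g HW C₀ _ _ hfin hq
  haveI := hfin
  obtain ⟨i, _, hi⟩ := HW.exists_finite A₀ C₀ (RingHom.finite_algebraMap.mp hq)
    (Classical.arbitrary ι)
  exact ⟨i, RingHom.finite_algebraMap.mpr (hi i (Adm.refl i))⟩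

theorem leadForm_formallyUnramified :
    LeadForm @RingHom.FormallyUnramified (fun R S _ _ _ => Algebra.FiniteType R S) := by
  intro ι _ _ _ A₀ _ G _ _ A _ _ f g HW C₀ _ _ hfin hq
  haveI := hfin
  haveI : Algebra.FormallyUnramified (A₀ ⊗[A₀] A) ((A₀ ⊗[A₀] A) ⊗[A₀] C₀) :=
    RingHom.formallyUnramified_algebraMap.mp hq
  have hU : Algebra.Unramified (A₀ ⊗[A₀] A) ((A₀ ⊗[A₀] A) ⊗[A₀] C₀) :=
    { formallyUnramified := inferInstance, finiteType := inferInstance }
  obtain ⟨i, _, hi⟩ := HW.exists_unramified A₀ C₀ hU (Classical.arbitrary ι)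
  haveI := hi i (Adm.refl i)
  exact ⟨i, RingHom.formallyUnramified_algebraMap.mpr inferInstance⟩

theorem affAffStage_smooth :
    AffAffStage @Smooth (fun f => LocallyOfFinitePresentation f) :=
  affAffStage_of_ringStage (Q := @RingHom.Smooth) (Fin := @RingHom.FinitePresentation)
    (ringStage_of_leadForm RingHom.Smooth.respectsIso leadForm_smooth (fun _ h => h))
    (fun _ => HasRingHomProperty.iff_of_isAffine (P := @Smooth))
    (fun _ hf => (HasRingHomProperty.iff_of_isAffine (P := @LocallyOfFinitePresentation)).mp hf)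

theorem affAffStage_etale :
    AffAffStage @Etale (fun f => LocallyOfFinitePresentation f) :=
  affAffStage_of_ringStage (Q := @RingHom.Etale) (Fin := @RingHom.FinitePresentation)
    (ringStage_of_leadForm RingHom.Etale.respectsIso leadForm_etale (fun _ h => h))
    (fun _ => HasRingHomProperty.iff_of_isAffine (P := @Etale))
    (fun _ hf => (HasRingHomProperty.iff_of_isAffine (P := @LocallyOfFinitePresentation)).mp hf)

theorem affAffStage_formallyUnramified :
    AffAffStage @FormallyUnramified (fun f => LocallyOfFiniteType f) :=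
  affAffStage_of_ringStage (Q := @RingHom.FormallyUnramified) (Fin := @RingHom.FiniteType)
    (ringStage_of_leadForm RingHom.FormallyUnramified.respectsIso leadForm_formallyUnramified
      (fun _ h => h))
    (fun _ => HasRingHomProperty.iff_of_isAffine (P := @FormallyUnramified))
    (fun _ hf => (HasRingHomProperty.iff_of_isAffine (P := @LocallyOfFiniteType)).mp hf)

theorem affAffStage_isFinite :
    AffAffStage @IsFinite
      (fun f => LocallyOfFiniteType f ∧ QuasiCompact f ∧ QuasiSeparated f) :=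
  affAffStage_of_ringStage (Q := @RingHom.Finite) (Fin := @RingHom.FiniteType)
    (P := @IsFinite)
    (H := fun f => LocallyOfFiniteType f ∧ QuasiCompact f ∧ QuasiSeparated f)
    (ringStage_of_leadForm RingHom.finite_respectsIso leadForm_finite (fun _ h => h))
    (fun {X Y} _ _ f => by
      rw [HasAffineProperty.iff_of_isAffine (P := @IsFinite)]
      exact ⟨fun h => h.2, fun h => ⟨inferInstance, h⟩⟩)
    (fun _ hf => (HasRingHomProperty.iff_of_isAffine (P := @LocallyOfFiniteType)).mp hf.1)

theorem affineStage_isFinite :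
    AffineStage @IsFinite
      (fun f => LocallyOfFiniteType f ∧ QuasiCompact f ∧ QuasiSeparated f) :=
  affineStage_of_affAff (P := @IsFinite)
    (H := fun f => LocallyOfFiniteType f ∧ QuasiCompact f ∧ QuasiSeparated f)
    (fun _ h => h.toIsAffineHom) affAffStage_isFinite
    (fun f g hf => by
      obtain ⟨h1, h2, h3⟩ := hf
      exact ⟨inferInstance, inferInstance, inferInstance⟩)
    (fun _ hf => ⟨hf.2.1, hf.2.2⟩)

/-- hypotheses on `LocallyOfFinitePresentation` used in `exists_descend_src`. -/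
theorem lfp_pullback_snd {X Y Z : Scheme.{u}} (f : X ⟶ Z) (g : Y ⟶ Z)
    (hf : LocallyOfFinitePresentation f) : LocallyOfFinitePresentation (pullback.snd f g) :=
  inferInstance

theorem lfp_resLE {X Y : Scheme.{u}} (f : X ⟶ Y) (U : X.Opens) (V : Y.Opens)
    (e : U ≤ f ⁻¹ᵁ V) (hf : LocallyOfFinitePresentation f) :
    LocallyOfFinitePresentation (f.resLE V U e) := by
  haveI : LocallyOfFinitePresentation (f.resLE V U e ≫ V.ι) := by
    rw [Scheme.Hom.resLE_comp_ι]
    infer_instance
  exact Groth.Agent.Lib.LimDiagH7.lfp_of_comp (f.resLE V U e) V.ι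

theorem lft_pullback_snd {X Y Z : Scheme.{u}} (f : X ⟶ Z) (g : Y ⟶ Z)
    (hf : LocallyOfFiniteType f) : LocallyOfFiniteType (pullback.snd f g) :=
  inferInstance

theorem lft_resLE {X Y : Scheme.{u}} (f : X ⟶ Y) (U : X.Opens) (V : Y.Opens)
    (e : U ≤ f ⁻¹ᵁ V) (hf : LocallyOfFiniteType f) :
    LocallyOfFiniteType (f.resLE V U e) := by
  haveI : LocallyOfFiniteType (f.resLE V U e ≫ V.ι) := by
    rw [Scheme.Hom.resLE_comp_ι]
    infer_instance
  exact locallyOfFiniteType_of_comp (f.resLE V U e) V.ι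

end Groth.Agent.Lib.LimAlgH7
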