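import Mathlib
import Groth.Agent.Lib.LimAlg2_helper7
import Groth.Agent.Lib.FlatDesc11_helper8

/-!
# Flatness descends to a stage of a cofiltered limit (helper7)

Uses helper8's `exists_stage_flat` (algebra) and the `LimAlg`/`LimSrc` framework.
-/

set_option autoImplicit false
set_option linter.style.haveILetI false
set_option backward.isDefEq.respectTransparency false
universe u
open CategoryTheory CategoryTheory.Limits AlgebraicGeometry TensorProduct Opposite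

namespace Groth.Agent.Lib.LimFlatDescH7
open Groth.Agent.Lib.WeakColim Groth.Agent.Lib.LimSrcH7 Groth.Agent.Lib.LimIsoH7
  Groth.Agent.Lib.LimAlgH7 Groth.Agent.Lib.LimDescendH7

section Ring
variable (Q : ∀ {R S : Type u} [CommRing R] [CommRing S], (R →+* S) → Prop)
  (Fin : ∀ {R S : Type u} [CommRing R] [CommRing S], (R →+* S) → Prop)

/-- pushout-form of the descent of `Q` to a stage of a directed colimit, with functorial
transition maps. -/
def RingStageC : Prop :=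
  ∀ {ι : Type u} [Preorder ι] [IsDirected ι (· ≤ ·)] [Nonempty ι]
    (A₀ : Type u) [CommRing A₀] (G : ι → Type u) [∀ i, CommRing (G i)] (τ : ∀ i, A₀ →+* G i)
    (f : ∀ i j, i ≤ j → (G i →+* G j)) (A : Type u) [CommRing A] (σ : A₀ →+* A)
    (g : ∀ i, G i →+* A)
    (_ : ∀ i j (h : i ≤ j), (f i j h).comp (τ i) = τ j)
    (_ : ∀ i, (g i).comp (τ i) = σ)
    (_ : ∀ i j (h : i ≤ j), (g j).comp (f i j h) = g i)
    (_ : ∀ i j k (hij : i ≤ j) (hjk : j ≤ k),
      (f j k hjk).comp (f i j hij) = f i k (hij.trans hjk))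
    (_ : ∀ a : A, ∃ i, ∃ x : G i, g i x = a)
    (_ : ∀ i (x : G i), g i x = 0 → ∃ j, ∃ h : i ≤ j, f i j h x = 0)
    (C₀ : Type u) [CommRing C₀] (φ₀ : A₀ →+* C₀), Fin φ₀ →
    ∀ (Pt : CommRingCat.{u}) (inl : CommRingCat.of C₀ ⟶ Pt) (inr : CommRingCat.of A ⟶ Pt),
      IsPushout (CommRingCat.ofHom φ₀) (CommRingCat.ofHom σ) inl inr → Q inr.hom →
    ∃ i, ∀ (Pt' : CommRingCat.{u}) (inl' : CommRingCat.of C₀ ⟶ Pt')
      (inr' : CommRingCat.of (G i) ⟶ Pt'),
      IsPushout (CommRingCat.ofHom φ₀) (CommRingCat.ofHom (τ i)) inl' inr' → Q inr'.hom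

end Ring

/-- flatness of a pushout leg in terms of the tensor product. -/
theorem bridge_flat {A₀ R C₀ : Type u} [CommRing A₀] [CommRing R]
    [CommRing C₀] [Algebra A₀ R] [Algebra A₀ C₀] {Pt : CommRingCat.{u}}
    (inl : CommRingCat.of C₀ ⟶ Pt) (inr : CommRingCat.of R ⟶ Pt)
    (h : IsPushout (CommRingCat.ofHom (algebraMap A₀ C₀)) (CommRingCat.ofHom (algebraMap A₀ R))
      inl inr) :
    inr.hom.Flat ↔ Module.Flat R (R ⊗[A₀] C₀) := by
  have sq := CommRingCat.isPushout_tensorProduct A₀ R C₀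
  have he := sq.inl_isoIsPushout_hom _ _ h.flip
  have hmap : algebraMap R (R ⊗[A₀] C₀) =
      CommRingCat.Hom.hom (CommRingCat.ofHom (R := R) (S := R ⊗[A₀] C₀)
        Algebra.TensorProduct.includeLeftRingHom) := by
    refine RingHom.ext fun x => ?_
    simp [Algebra.TensorProduct.algebraMap_apply]
  rw [← RingHom.flat_algebraMap_iff, hmap,
    ← RingHom.Flat.respectsIso.cancel_right_isIso _ (sq.isoIsPushout _ _ h.flip).hom,
    ← CommRingCat.hom_comp, he]

theorem ringStageC_flat : RingStageC @RingHom.Flat @RingHom.FinitePresentation := by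
  intro ι _ _ _ A₀ _ G _ τ f A _ σ g hτ hσ hg hcomp hsurj hker C₀ _ φ₀ hfin Pt inl inr hpo hq
  letI : Algebra A₀ C₀ := φ₀.toAlgebra
  letI : Algebra A₀ A := σ.toAlgebra
  letI : ∀ i, Algebra A₀ (G i) := fun i => (τ i).toAlgebra
  letI : ∀ i, Algebra (G i) A := fun i => (g i).toAlgebra
  haveI : ∀ i, IsScalarTower A₀ (G i) A := fun i =>
    IsScalarTower.of_algebraMap_eq (fun x => (congr($(hσ i) x)).symm)
  let f' : ∀ i j, i ≤ j → (G i →ₐ[A₀] G j) := fun i j h =>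
    { (f i j h) with commutes' := fun r => congr($(hτ i j h) r) }
  haveI : Algebra.FinitePresentation A₀ C₀ := hfin
  haveI hflat : Module.Flat A (A ⊗[A₀] C₀) := (bridge_flat inl inr hpo).mp hq
  obtain ⟨i, hi⟩ := Groth.Agent.Lib.FlatDescH8.exists_stage_flat G f' A
    (fun i j k hij hjk => hcomp i j k hij hjk) (fun i j h => hg i j h) hsurj hker
    (B₀ := C₀) C₀
  exact ⟨i, fun Pt' inl' inr' hpo' => (bridge_flat inl' inr' hpo').mpr hi⟩

section Scheme
variable {Q : ∀ {R S : Type u} [CommRing R] [CommRing S], (R →+* S) → Prop}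
  {Fin : ∀ {R S : Type u} [CommRing R] [CommRing S], (R →+* S) → Prop}
  {P : MorphismProperty Scheme.{u}} {H : ∀ {X Y : Scheme.{u}}, (X ⟶ Y) → Prop}

theorem coreC (hR : RingStageC @Q @Fin)
    (hPQ : ∀ {X Y : Scheme.{u}} [IsAffine X] [IsAffine Y] (f : X ⟶ Y), P f ↔ Q f.appTop.hom)
    {α : Type u} [PartialOrder α] [IsDirected α (· ≤ ·)] [Nonempty α]
    (E : αᵒᵖ ⥤ Scheme.{u}) [∀ a, IsAffine (E.obj a)] (cE : Cone E) (hcE : IsLimit cE)
    [IsAffine cE.pt] {S₀ : Scheme.{u}} [IsAffine S₀] (t : ∀ a, E.obj a ⟶ S₀)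
    (ht : ∀ {a b : αᵒᵖ} (φ : a ⟶ b), E.map φ ≫ t b = t a)
    (s : cE.pt ⟶ S₀) (hs : ∀ a, cE.π.app a ≫ t a = s)
    {X₀ : Scheme.{u}} [IsAffine X₀] (f₀ : X₀ ⟶ S₀) (hfin : Fin f₀.appTop.hom)
    (hP : P (pullback.snd f₀ s)) : ∃ a, P (pullback.snd f₀ (t a)) := by
  haveI : IsCofiltered αᵒᵖ := inferInstance
  obtain ⟨a, ha⟩ := hR (ι := α) Γ(S₀, ⊤) (fun a => Γ(E.obj (op a), ⊤))
    (fun a => (t (op a)).appTop.hom)
    (fun a b h => (E.map (homOfLE h).op).appTop.hom) Γ(cE.pt, ⊤) s.appTop.hom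
    (fun a => (cE.π.app (op a)).appTop.hom)
    (fun a b h => by
      rw [← CommRingCat.hom_comp, ← Scheme.Hom.comp_appTop, ht])
    (fun a => by
      rw [← CommRingCat.hom_comp, ← Scheme.Hom.comp_appTop, hs])
    (fun a b h => by
      rw [← CommRingCat.hom_comp, ← Scheme.Hom.comp_appTop, cE.w])
    (fun a b c hab hbc => by
      have e : (homOfLE hbc).op ≫ (homOfLE hab).op = (homOfLE (hab.trans hbc)).op :=
        Quiver.Hom.unop_inj (Subsingleton.elim _ _)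
      rw [← CommRingCat.hom_comp, ← Scheme.Hom.comp_appTop, ← E.map_comp, e])
    (fun x => by
      obtain ⟨i, y, hy⟩ := exists_appTop_π_eq_of_isAffine_of_isLimit E cE hcE x
      exact ⟨i.unop, y, hy⟩)
    (fun a x hx => by
      obtain ⟨j, φ, hφ⟩ := exists_appTop_map_eq_zero_of_isAffine_of_isLimit E cE hcE (op a) x hx
      refine ⟨j.unop, leOfHom φ.unop, ?_⟩
      have : (homOfLE (leOfHom φ.unop)).op = φ := Quiver.Hom.unop_inj (Subsingleton.elim _ _)
      rw [this]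
      exact hφ)
    Γ(X₀, ⊤) f₀.appTop.hom hfin Γ(pullback f₀ s, ⊤) (pullback.fst f₀ s).appTop
    (pullback.snd f₀ s).appTop
    (isPushout_appTop_of_isPullback (IsPullback.of_hasPullback f₀ s))
    ((hPQ _).mp hP)
  exact ⟨op a, (hPQ _).mpr (ha _ (pullback.fst f₀ (t (op a))).appTop
    (pullback.snd f₀ (t (op a))).appTop
    (isPushout_appTop_of_isPullback (IsPullback.of_hasPullback f₀ (t (op a)))))⟩

theorem affAffStage_of_ringStageC (hR : RingStageC @Q @Fin)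
    (hPQ : ∀ {X Y : Scheme.{u}} [IsAffine X] [IsAffine Y] (f : X ⟶ Y), P f ↔ Q f.appTop.hom)
    (hFin : ∀ {X Y : Scheme.{u}} [IsAffine X] [IsAffine Y] (f : X ⟶ Y), H f →
      Fin f.appTop.hom) : AffAffStage P H := by
  intro J _ _ E cE hcE _ j₀ _ X₀ _ f₀ hf₀ hP
  obtain ⟨α, _, _, _, F, hF⟩ := IsFiltered.exists_directed (Over j₀)ᵒᵖ
  haveI := hF
  let Φ : αᵒᵖ ⥤ J := F.leftOp ⋙ Over.forget j₀
  haveI : Φ.Initial := inferInstance
  have hlim : IsLimit (cE.whisker Φ) := (Functor.Initial.isLimitWhiskerEquiv Φ cE).symm hcE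
  haveI : ∀ a, IsAffine ((Φ ⋙ E).obj a) := fun a =>
    isAffine_of_isAffineHom (E.map (F.obj a.unop).unop.hom)
  haveI : IsAffineHom (cE.π.app j₀) := isAffineHom_π_app E cE hcE j₀
  haveI hpt : IsAffine cE.pt := isAffine_of_isAffineHom (cE.π.app j₀)
  haveI : IsAffine (cE.whisker Φ).pt := hpt
  obtain ⟨a, ha⟩ := coreC hR hPQ (Φ ⋙ E) (cE.whisker Φ) hlim
    (fun a => E.map (F.obj a.unop).unop.hom)
    (fun {a b} φ => by
      rw [Functor.comp_map, ← E.map_comp]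
      congr 1
      exact Over.w (F.leftOp.map φ))
    (cE.π.app j₀) (fun a => by simp [Φ]) f₀ (hFin f₀ hf₀) hP
  exact ⟨_, (F.obj a.unop).unop.hom, ha⟩

end Scheme

theorem affAffStage_flat :
    AffAffStage @Flat (fun f => LocallyOfFinitePresentation f) :=
  affAffStage_of_ringStageC (Q := @RingHom.Flat) (Fin := @RingHom.FinitePresentation)
    ringStageC_flat
    (fun _ => HasRingHomProperty.iff_of_isAffine (P := @Flat))
    (fun _ hf => (HasRingHomProperty.iff_of_isAffine (P := @LocallyOfFinitePresentation)).mp hf)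

/-- **S2075**: flatness descends to a stage. -/
theorem exists_flat_descend {I : Type u} [SmallCategory I] [IsCofiltered I]
    (D : I ⥤ Scheme.{u}) (c : Limits.Cone D) (hc : Limits.IsLimit c)
    [∀ (i j : I) (f : i ⟶ j), IsAffineHom (D.map f)] (i₀ : I)
    {X₀ Y₀ : Scheme.{u}} (f₀ : X₀ ⟶ Y₀) (g₀ : Y₀ ⟶ D.obj i₀)
    [CompactSpace X₀]
    {X Y : Scheme.{u}} (f : X ⟶ Y) (g : Y ⟶ c.pt) (qY : Y ⟶ Y₀) (qX : X ⟶ X₀)
    (hY : IsPullback qY g g₀ (c.π.app i₀)) (hX : IsPullback qX f f₀ qY)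
    [LocallyOfFinitePresentation f₀] [Flat f] :
    ∃ (i : I) (φ : i ⟶ i₀) (Xi Yi : Scheme.{u}) (fi : Xi ⟶ Yi) (gi : Yi ⟶ D.obj i) (pY : Yi ⟶ Y₀)
      (pX : Xi ⟶ X₀), IsPullback pY gi g₀ (D.map φ) ∧ IsPullback pX fi f₀ pY ∧ Flat fi :=
  exists_descend_src (P := @Flat)
    (H := fun f => LocallyOfFinitePresentation f)
    (fun _ h => by haveI := h; infer_instance)
    affAffStage_flat
    lfp_pullback_snd lfp_resLE
    D c hc i₀ f₀ g₀ inferInstance f g qY qX hY hX inferInstance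

end Groth.Agent.Lib.LimFlatDescH7
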