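import Mathlib
import Groth.Agent.Lib.LimSurj_helper7

/-!
# Open immersions descend to a stage of a cofiltered limit (helper7)

`affineStage_isOpenImmersion`: the affine-stage statement for open immersions (for morphisms
locally of finite presentation, quasi-compact and quasi-separated).
-/

set_option autoImplicit false
set_option backward.isDefEq.respectTransparency false
universe u
open CategoryTheory CategoryTheory.Limits AlgebraicGeometry Topology

namespace Groth.Agent.Lib.LimOpenImmH7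
open Groth.Agent.Lib.LimBaseChangeH7 Groth.Agent.Lib.LimIsoH7 Groth.Agent.Lib.LimDescendH7
open Groth.Agent.Lib.LimSurjH7

theorem preimage_ι_eq_univ {Y : Scheme.{u}} (W : Y.Opens) {s : Set Y} (h : (W : Set Y) ⊆ s) :
    W.ι ⁻¹' s = Set.univ := by
  apply Set.eq_univ_of_forall
  intro x
  apply h
  have : W.ι x ∈ Set.range W.ι := ⟨x, rfl⟩
  rwa [Scheme.Opens.range_ι] at this

/-- A morphism whose range lies in an open `W` and whose base change to `W` is an isomorphism is an
open immersion. -/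
theorem isOpenImmersion_of_isIso_snd {X Y : Scheme.{u}} (g : X ⟶ Y) (W : Y.Opens)
    (hrange : Set.range g ⊆ (W : Set Y)) (hiso : IsIso (pullback.snd g W.ι)) :
    IsOpenImmersion g := by
  haveI := hiso
  haveI : IsIso (pullback.fst g W.ι) := by
    apply isIso_of_isOpenImmersion_of_opensRange_eq_top
    apply TopologicalSpace.Opens.ext
    rw [Scheme.Hom.coe_opensRange, Scheme.Pullback.range_fst, Scheme.Opens.range_ι]
    apply Set.eq_univ_of_forall
    intro x
    exact hrange ⟨x, rfl⟩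
  have : g = inv (pullback.fst g W.ι) ≫ pullback.snd g W.ι ≫ W.ι := by
    rw [IsIso.eq_inv_comp, pullback.condition]
  rw [this]
  infer_instance

/-- The base change of an open immersion to (an open contained in) its range is an isomorphism. -/
theorem isIso_snd_of_le_range {X Y : Scheme.{u}} (g : X ⟶ Y) [IsOpenImmersion g] (W : Y.Opens)
    (hW : (W : Set Y) ⊆ Set.range g) : IsIso (pullback.snd g W.ι) := by
  apply isIso_of_isOpenImmersion_of_opensRange_eq_top
  apply TopologicalSpace.Opens.ext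
  rw [Scheme.Hom.coe_opensRange, Scheme.Pullback.range_snd]
  exact preimage_ι_eq_univ W hW

theorem affineStage_isOpenImmersion : AffineStage @IsOpenImmersion
    (fun f => LocallyOfFinitePresentation f ∧ QuasiCompact f ∧ QuasiSeparated f) := by
  intro J _ _ E cE hcE _ j₀ _ X₀ f₀ hf₀ hP
  obtain ⟨h1, h2, h3⟩ := hf₀
  haveI := hP
  haveI : IsAffineHom (cE.π.app j₀) := isAffineHom_π_app E cE hcE j₀
  haveI hpt : IsAffine cE.pt := isAffine_of_isAffineHom (cE.π.app j₀)
  haveI : IsAffine (((Functor.const J).obj cE.pt).obj j₀) := hpt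
  let π₀ : cE.pt ⟶ E.obj j₀ := cE.π.app j₀
  let fI : pullback f₀ π₀ ⟶ cE.pt := pullback.snd f₀ π₀
  haveI : IsOpenImmersion fI := hP
  haveI : CompactSpace ↑(pullback f₀ π₀) := QuasiCompact.compactSpace_of_compactSpace fI
  -- Step 1: descend the range
  have hVc : IsCompact (fI.opensRange : Set cE.pt) := by
    rw [Scheme.Hom.coe_opensRange]
    exact isCompact_range fI.continuous
  obtain ⟨j₁, V₁, hV₁c, hV₁⟩ := exists_preimage_eq E cE hcE fI.opensRange hVc
  let k₁ := IsCofiltered.min j₁ j₀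
  let a : k₁ ⟶ j₁ := IsCofiltered.minToLeft j₁ j₀
  let b : k₁ ⟶ j₀ := IsCofiltered.minToRight j₁ j₀
  let V : (E.obj k₁).Opens := E.map a ⁻¹ᵁ V₁
  have hV : cE.π.app k₁ ⁻¹ᵁ V = fI.opensRange := by
    rw [← Scheme.Hom.comp_preimage, cE.w, hV₁]
  have hVc' : IsCompact (V : Set (E.obj k₁)) := (E.map a).isCompact_preimage hV₁c
  haveI : IsAffine (E.obj k₁) := isAffine_of_isAffineHom (E.map b)
  -- Step 2: the range lands in `V` at some stage
  let Z : Set (E.obj k₁) := (E.map b) ⁻¹' (Set.range f₀) \ V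
  have hZ : IsConstructible Z := by
    refine IsConstructible.sdiff ?_ (hVc'.isConstructible V.2)
    apply Scheme.Hom.isConstructible_preimage
    rw [← Set.image_univ]
    exact f₀.isConstructible_image IsConstructible.univ
  have hZempty : (cE.π.app k₁) ⁻¹' Z = ∅ := by
    ext x
    simp only [Set.mem_preimage, Set.mem_empty_iff_false, iff_false]
    rintro ⟨hx1, hx2⟩
    apply hx2
    have hx3 : x ∈ Set.range fI := by
      rw [Scheme.Pullback.range_snd]
      show cE.π.app j₀ x ∈ Set.range f₀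
      rw [← cE.w b, Scheme.Hom.comp_apply]
      exact hx1
    have hx4 : x ∈ (cE.π.app k₁ ⁻¹ᵁ V) := by rw [hV]; exact hx3
    exact hx4
  obtain ⟨k₂, ψ, hψ⟩ := exists_preimage_eq_empty E cE hcE k₁ hZ hZempty
  -- Step 3: descend the isomorphism
  let W : (E.obj k₂).Opens := E.map ψ ⁻¹ᵁ V
  let φ : k₂ ⟶ j₀ := ψ ≫ b
  have hW : cE.π.app k₂ ⁻¹ᵁ W = fI.opensRange := by
    rw [← Scheme.Hom.comp_preimage, cE.w, hV]
  have hWc : IsCompact (W : Set (E.obj k₂)) := (E.map ψ).isCompact_preimage hVc'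
  have hc' := isLimitOpensCone E cE hcE k₂ W
  haveI : CompactSpace ↥((opensDiagram E k₂ W).obj (Over.mk (𝟙 k₂))) :=
    isCompact_iff_compactSpace.mp ((E.map (𝟙 k₂)).isCompact_preimage hWc)
  let u : (opensDiagram E k₂ W).obj (Over.mk (𝟙 k₂)) ⟶ E.obj j₀ :=
    (E.map (𝟙 k₂) ⁻¹ᵁ W).ι ≫ E.map (𝟙 k₂) ≫ E.map φ
  have hcomp : (opensCone E cE k₂ W).π.app (Over.mk (𝟙 k₂)) ≫ u =
      (cE.π.app k₂ ⁻¹ᵁ W).ι ≫ cE.π.app j₀ := by
    show (cE.π.app k₂).resLE _ _ _ ≫ (E.map (𝟙 k₂) ⁻¹ᵁ W).ι ≫ E.map (𝟙 k₂) ≫ E.map φ = _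
    rw [Scheme.Hom.resLE_comp_ι_assoc, cE.w_assoc, cE.w]
  have hiso : IsIso (pullback.snd (pullback.snd f₀ u)
      ((opensCone E cE k₂ W).π.app (Over.mk (𝟙 k₂)))) := by
    rw [← MorphismProperty.isomorphisms.iff,
      snd_snd_iff (P := MorphismProperty.isomorphisms Scheme), hcomp,
      ← snd_snd_iff (P := MorphismProperty.isomorphisms Scheme),
      MorphismProperty.isomorphisms.iff]
    refine isIso_snd_of_le_range fI (cE.π.app k₂ ⁻¹ᵁ W) ?_
    rw [hW, Scheme.Hom.coe_opensRange]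
  haveI : LocallyOfFinitePresentation (pullback.snd f₀ u) := inferInstance
  obtain ⟨k', χ, hk'⟩ := exists_isIso_snd_of_compact (opensDiagram E k₂ W) (opensCone E cE k₂ W)
    hc' (Over.mk (𝟙 k₂)) (pullback.snd f₀ u) hiso
  have hcomp' : (opensDiagram E k₂ W).map χ ≫ u =
      (E.map k'.hom ⁻¹ᵁ W).ι ≫ E.map (k'.hom ≫ φ) := by
    show (E.map χ.left).resLE _ _ _ ≫ (E.map (𝟙 k₂) ⁻¹ᵁ W).ι ≫ E.map (𝟙 k₂) ≫ E.map φ = _
    have hw : χ.left ≫ 𝟙 k₂ = k'.hom := Over.w χ
    rw [Scheme.Hom.resLE_comp_ι_assoc, ← E.map_comp_assoc, hw, ← E.map_comp]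
  rw [← MorphismProperty.isomorphisms.iff,
    snd_snd_iff (P := MorphismProperty.isomorphisms Scheme), hcomp',
    ← snd_snd_iff (P := MorphismProperty.isomorphisms Scheme),
    MorphismProperty.isomorphisms.iff] at hk'
  -- Step 4
  refine ⟨k'.left, k'.hom ≫ φ, ?_⟩
  refine isOpenImmersion_of_isIso_snd _ (E.map k'.hom ⁻¹ᵁ W) ?_ hk'
  rw [Scheme.Pullback.range_snd]
  intro x hx
  by_contra hxW
  have hmem : E.map k'.hom x ∈ (E.map ψ) ⁻¹' Z := by
    refine ⟨?_, hxW⟩
    show E.map b (E.map ψ (E.map k'.hom x)) ∈ Set.range f₀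
    rw [← Scheme.Hom.comp_apply, ← Scheme.Hom.comp_apply, ← E.map_comp, ← E.map_comp]
    exact hx
  rw [hψ] at hmem
  exact hmem

end Groth.Agent.Lib.LimOpenImmH7
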