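import Mathlib
import Groth.Agent.Lib.LimDescend_helper7

/-!
# Closed immersions descend to a stage of a cofiltered limit (helper7)

* `range_sup_range_eq_top`: in a pushout of commutative rings the two images generate.
* `persist`, `single`, `exists_stage_of_finset`, `surjective_of_generators`: ring-level tools for
  the affine-stage arguments.
* `affineStage_isClosedImmersion`.
-/

set_option autoImplicit false
set_option backward.isDefEq.respectTransparency false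
universe u
open CategoryTheory CategoryTheory.Limits AlgebraicGeometry

namespace Groth.Agent.Lib.LimCIH7
open Groth.Agent.Lib.LimBaseChangeH7 Groth.Agent.Lib.LimIsoH7 Groth.Agent.Lib.LimDescendH7

/-- In a pushout of commutative rings, the two images generate. -/
theorem range_sup_range_eq_top {A B C P : CommRingCat.{u}} {f : A ⟶ B} {g : A ⟶ C}
    {inl : B ⟶ P} {inr : C ⟶ P} (h : IsPushout f g inl inr) :
    inl.hom.range ⊔ inr.hom.range = ⊤ := by
  let inl' : B ⟶ CommRingCat.of ↥(inl.hom.range ⊔ inr.hom.range) :=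
    CommRingCat.ofHom (inl.hom.codRestrict (inl.hom.range ⊔ inr.hom.range)
      (fun x => (le_sup_left : inl.hom.range ≤ _) ⟨x, rfl⟩))
  let inr' : C ⟶ CommRingCat.of ↥(inl.hom.range ⊔ inr.hom.range) :=
    CommRingCat.ofHom (inr.hom.codRestrict (inl.hom.range ⊔ inr.hom.range)
      (fun x => (le_sup_right : inr.hom.range ≤ _) ⟨x, rfl⟩))
  let incl : CommRingCat.of ↥(inl.hom.range ⊔ inr.hom.range) ⟶ P :=
    CommRingCat.ofHom (inl.hom.range ⊔ inr.hom.range).subtype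
  have h1 : inl' ≫ incl = inl := by ext x; rfl
  have h2 : inr' ≫ incl = inr := by ext x; rfl
  have w : f ≫ inl' = g ≫ inr' := by
    ext x
    exact congr($(h.w) x)
  have hd : h.desc inl' inr' w ≫ incl = 𝟙 P := by
    apply h.hom_ext
    · rw [← Category.assoc, h.inl_desc, h1, Category.comp_id]
    · rw [← Category.assoc, h.inr_desc, h2, Category.comp_id]
  rw [eq_top_iff]
  intro p _
  have hp : incl (h.desc inl' inr' w p) = p := congr($(hd) p)
  rw [← hp]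
  exact (h.desc inl' inr' w p).2

theorem appTop_comp_apply {X Y Z : Scheme.{u}} (f : X ⟶ Y) (g : Y ⟶ Z) (z : Γ(Z, ⊤)) :
    (f ≫ g).appTop z = f.appTop (g.appTop z) := by
  rw [Scheme.Hom.comp_appTop]
  rfl

theorem appTop_congr {X Y : Scheme.{u}} {f g : X ⟶ Y} (h : f = g) (z : Γ(Y, ⊤)) :
    f.appTop z = g.appTop z := by
  subst h
  rfl

section Stage

variable {J : Type u} [SmallCategory J] [IsCofiltered J] (E : J ⥤ Scheme.{u}) (cE : Cone E)
  (hcE : IsLimit cE) [∀ (i j : J) (f : i ⟶ j), IsAffineHom (E.map f)] (j₀ : J)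
  [IsAffine (E.obj j₀)] {X₀ : Scheme.{u}} (f₀ : X₀ ⟶ E.obj j₀)

/-- The projection `X_k ⟶ E_k`. -/
noncomputable abbrev sn (k : Over j₀) : (bcDiagram E j₀ f₀).obj k ⟶ E.obj k.left :=
  pullback.snd f₀ (E.map k.hom)

/-- The limit cone of the `X_k`. -/
noncomputable abbrev cX : Cone (bcDiagram E j₀ f₀) :=
  bcCone cE (IsPullback.of_hasPullback f₀ (cE.π.app j₀))

/-- The projection `X ⟶ E_∞`. -/
noncomputable abbrev sInf : (cX E cE j₀ f₀).pt ⟶ cE.pt :=
  pullback.snd f₀ (cE.π.app j₀)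

theorem map_sn {k' k : Over j₀} (χ : k' ⟶ k) :
    (bcDiagram E j₀ f₀).map χ ≫ sn E j₀ f₀ k = sn E j₀ f₀ k' ≫ E.map χ.left :=
  bcDiagram_map_snd E j₀ f₀ χ

theorem cone_sn (k : Over j₀) :
    (cX E cE j₀ f₀).π.app k ≫ sn E j₀ f₀ k = sInf E cE j₀ f₀ ≫ cE.π.app k.left :=
  bcCone_π_snd cE (IsPullback.of_hasPullback f₀ (cE.π.app j₀)) k

/-- Persistence: if a section of a stage `X_{k₁}` (pulled back to `X_k`) comes from the base at
stage `k`, it does so at all later stages. -/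
theorem persist {k₁ : Over j₀} (b : Γ((bcDiagram E j₀ f₀).obj k₁, ⊤)) {k : Over j₀} (ψ : k ⟶ k₁)
    (h : ((bcDiagram E j₀ f₀).map ψ).appTop b ∈ Set.range (sn E j₀ f₀ k).appTop)
    {k' : Over j₀} (χ : k' ⟶ k) :
    ((bcDiagram E j₀ f₀).map (χ ≫ ψ)).appTop b ∈ Set.range (sn E j₀ f₀ k').appTop := by
  obtain ⟨a, ha⟩ := h
  refine ⟨(E.map χ.left).appTop a, ?_⟩
  calc (sn E j₀ f₀ k').appTop ((E.map χ.left).appTop a)
      = (sn E j₀ f₀ k' ≫ E.map χ.left).appTop a := (appTop_comp_apply _ _ a).symm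
    _ = ((bcDiagram E j₀ f₀).map χ ≫ sn E j₀ f₀ k).appTop a :=
        appTop_congr (map_sn E j₀ f₀ χ).symm a
    _ = ((bcDiagram E j₀ f₀).map χ).appTop ((sn E j₀ f₀ k).appTop a) := appTop_comp_apply _ _ a
    _ = ((bcDiagram E j₀ f₀).map χ).appTop (((bcDiagram E j₀ f₀).map ψ).appTop b) := by rw [ha]
    _ = ((bcDiagram E j₀ f₀).map χ ≫ (bcDiagram E j₀ f₀).map ψ).appTop b :=
        (appTop_comp_apply _ _ b).symm
    _ = ((bcDiagram E j₀ f₀).map (χ ≫ ψ)).appTop b :=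
        appTop_congr ((bcDiagram E j₀ f₀).map_comp χ ψ).symm b

include hcE in
/-- A section of a stage whose image in the limit comes from the base comes from the base at
a later stage. -/
theorem single [QuasiCompact f₀] [QuasiSeparated f₀] {k₁ : Over j₀}
    (b : Γ((bcDiagram E j₀ f₀).obj k₁, ⊤))
    (hb : ((cX E cE j₀ f₀).π.app k₁).appTop b ∈ Set.range (sInf E cE j₀ f₀).appTop)
    {k : Over j₀} (ψ : k ⟶ k₁) :
    ∃ (k' : Over j₀) (χ : k' ⟶ k), ((bcDiagram E j₀ f₀).map (χ ≫ ψ)).appTop b ∈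
      Set.range (sn E j₀ f₀ k').appTop := by
  obtain ⟨a, ha⟩ := hb
  haveI : ∀ k : Over j₀, IsAffine ((Over.forget j₀ ⋙ E).obj k) := fun k =>
    isAffine_of_isAffineHom (E.map k.hom)
  have hcEd := (Functor.Initial.isLimitWhiskerEquiv (Over.forget j₀) cE).symm hcE
  obtain ⟨ka, a', ha'⟩ : ∃ (ka : Over j₀) (a' : Γ(E.obj ka.left, ⊤)),
      (cE.π.app ka.left).appTop a' = a :=
    exists_appTop_π_eq_of_isAffine_of_isLimit (Over.forget j₀ ⋙ E)
      (cE.whisker (Over.forget j₀)) hcEd a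
  -- common stage
  let k₂ : Over j₀ := IsCofiltered.min k ka
  let ψ₂ : k₂ ⟶ k := IsCofiltered.minToLeft k ka
  let ψa : k₂ ⟶ ka := IsCofiltered.minToRight k ka
  let a₂ : Γ(E.obj k₂.left, ⊤) := (E.map ψa.left).appTop a'
  have ha₂ : (cE.π.app k₂.left).appTop a₂ = a :=
    calc (cE.π.app k₂.left).appTop a₂
        = (cE.π.app k₂.left ≫ E.map ψa.left).appTop a' := (appTop_comp_apply _ _ a').symm
      _ = (cE.π.app ka.left).appTop a' := appTop_congr (cE.w ψa.left) a'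
      _ = a := ha'
  haveI : ∀ k : Over j₀, CompactSpace ((bcDiagram E j₀ f₀).obj k) := fun k => by
    haveI : IsAffine (E.obj k.left) := isAffine_of_isAffineHom (E.map k.hom)
    exact QuasiCompact.compactSpace_of_compactSpace (pullback.snd f₀ (E.map k.hom))
  have huv : ((cX E cE j₀ f₀).π.app k₂).appTop (((bcDiagram E j₀ f₀).map (ψ₂ ≫ ψ)).appTop b) =
      ((cX E cE j₀ f₀).π.app k₂).appTop ((sn E j₀ f₀ k₂).appTop a₂) :=
    calc ((cX E cE j₀ f₀).π.app k₂).appTop (((bcDiagram E j₀ f₀).map (ψ₂ ≫ ψ)).appTop b)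
        = ((cX E cE j₀ f₀).π.app k₂ ≫ (bcDiagram E j₀ f₀).map (ψ₂ ≫ ψ)).appTop b :=
          (appTop_comp_apply _ _ b).symm
      _ = ((cX E cE j₀ f₀).π.app k₁).appTop b := appTop_congr ((cX E cE j₀ f₀).w (ψ₂ ≫ ψ)) b
      _ = (sInf E cE j₀ f₀).appTop a := ha.symm
      _ = (sInf E cE j₀ f₀).appTop ((cE.π.app k₂.left).appTop a₂) := by rw [ha₂]
      _ = (sInf E cE j₀ f₀ ≫ cE.π.app k₂.left).appTop a₂ := (appTop_comp_apply _ _ a₂).symm
      _ = ((cX E cE j₀ f₀).π.app k₂ ≫ sn E j₀ f₀ k₂).appTop a₂ :=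
          appTop_congr (cone_sn E cE j₀ f₀ k₂).symm a₂
      _ = ((cX E cE j₀ f₀).π.app k₂).appTop ((sn E j₀ f₀ k₂).appTop a₂) :=
          appTop_comp_apply _ _ a₂
  obtain ⟨k', χ, hχ⟩ := exists_app_map_eq_map_of_isLimit (bcDiagram E j₀ f₀) (cX E cE j₀ f₀)
    (isLimitBcCone cE (IsPullback.of_hasPullback f₀ (cE.π.app j₀)) hcE) (U := ⊤) isCompact_univ
    (((bcDiagram E j₀ f₀).map (ψ₂ ≫ ψ)).appTop b) ((sn E j₀ f₀ k₂).appTop a₂) huv
  have hχ' : ((bcDiagram E j₀ f₀).map χ).appTop (((bcDiagram E j₀ f₀).map (ψ₂ ≫ ψ)).appTop b) =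
      ((bcDiagram E j₀ f₀).map χ).appTop ((sn E j₀ f₀ k₂).appTop a₂) := hχ
  refine ⟨k', χ ≫ ψ₂, (E.map χ.left).appTop a₂, ?_⟩
  calc (sn E j₀ f₀ k').appTop ((E.map χ.left).appTop a₂)
      = (sn E j₀ f₀ k' ≫ E.map χ.left).appTop a₂ := (appTop_comp_apply _ _ a₂).symm
    _ = ((bcDiagram E j₀ f₀).map χ ≫ sn E j₀ f₀ k₂).appTop a₂ :=
        appTop_congr (map_sn E j₀ f₀ χ).symm a₂
    _ = ((bcDiagram E j₀ f₀).map χ).appTop ((sn E j₀ f₀ k₂).appTop a₂) :=
        appTop_comp_apply _ _ a₂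
    _ = ((bcDiagram E j₀ f₀).map χ).appTop (((bcDiagram E j₀ f₀).map (ψ₂ ≫ ψ)).appTop b) :=
        hχ'.symm
    _ = ((bcDiagram E j₀ f₀).map χ ≫ (bcDiagram E j₀ f₀).map (ψ₂ ≫ ψ)).appTop b :=
        (appTop_comp_apply _ _ b).symm
    _ = ((bcDiagram E j₀ f₀).map ((χ ≫ ψ₂) ≫ ψ)).appTop b :=
        appTop_congr (by rw [← Functor.map_comp, Category.assoc]) b

include hcE in
theorem exists_stage_of_finset [QuasiCompact f₀] [QuasiSeparated f₀] {k₁ : Over j₀}
    (s : Finset Γ((bcDiagram E j₀ f₀).obj k₁, ⊤))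
    (hs : ∀ b ∈ s, ((cX E cE j₀ f₀).π.app k₁).appTop b ∈ Set.range (sInf E cE j₀ f₀).appTop) :
    ∃ (k : Over j₀) (ψ : k ⟶ k₁), ∀ b ∈ s, ((bcDiagram E j₀ f₀).map ψ).appTop b ∈
      Set.range (sn E j₀ f₀ k).appTop := by
  classical
  induction s using Finset.induction_on with
  | empty => exact ⟨k₁, 𝟙 k₁, fun b hb => absurd hb (Finset.notMem_empty b)⟩
  | insert b s hbs ih =>
    obtain ⟨k, ψ, hk⟩ := ih (fun b' hb' => hs b' (Finset.mem_insert_of_mem hb'))
    obtain ⟨k', χ, hk'⟩ := single E cE hcE j₀ f₀ b (hs b (Finset.mem_insert_self b s)) ψ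
    refine ⟨k', χ ≫ ψ, fun b' hb' => ?_⟩
    rcases Finset.mem_insert.mp hb' with rfl | hb'
    · exact hk'
    · exact persist E j₀ f₀ b' ψ (hk b' hb') χ

/-- If the generators of the affine stage `X_{k₁}` over `E_{k₁}` come from the base at stage `k`,
then `X_k ⟶ E_k` is surjective on global sections. -/
theorem surjective_of_generators {k₁ : Over j₀} [IsAffine ((bcDiagram E j₀ f₀).obj k₁)]
    (s : Set Γ((bcDiagram E j₀ f₀).obj k₁, ⊤))
    (hs : letI : Algebra Γ(E.obj k₁.left, ⊤) Γ((bcDiagram E j₀ f₀).obj k₁, ⊤) :=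
        (sn E j₀ f₀ k₁).appTop.hom.toAlgebra
      Algebra.adjoin Γ(E.obj k₁.left, ⊤) s = ⊤)
    {k : Over j₀} (ψ : k ⟶ k₁)
    (hk : ∀ b ∈ s, ((bcDiagram E j₀ f₀).map ψ).appTop b ∈ Set.range (sn E j₀ f₀ k).appTop) :
    Function.Surjective (sn E j₀ f₀ k).appTop := by
  haveI : IsAffine (E.obj k₁.left) := isAffine_of_isAffineHom (E.map k₁.hom)
  haveI : IsAffine (E.obj k.left) := isAffine_of_isAffineHom (E.map k.hom)
  have hpo : IsPushout (sn E j₀ f₀ k₁).appTop (E.map ψ.left).appTop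
      ((bcDiagram E j₀ f₀).map ψ).appTop (sn E j₀ f₀ k).appTop :=
    isPushout_appTop_of_isPullback (isPullback_map E j₀ f₀ ψ)
  have hgen := range_sup_range_eq_top hpo
  letI : Algebra Γ(E.obj k₁.left, ⊤) Γ((bcDiagram E j₀ f₀).obj k₁, ⊤) :=
    (sn E j₀ f₀ k₁).appTop.hom.toAlgebra
  have hle : ((bcDiagram E j₀ f₀).map ψ).appTop.hom.range ≤ (sn E j₀ f₀ k).appTop.hom.range := by
    rintro _ ⟨b, rfl⟩
    have hb : b ∈ Algebra.adjoin Γ(E.obj k₁.left, ⊤) s := by rw [hs]; trivial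
    induction hb using Algebra.adjoin_induction with
    | mem x hx => exact hk x hx
    | algebraMap r =>
      refine ⟨(E.map ψ.left).appTop r, ?_⟩
      calc (sn E j₀ f₀ k).appTop ((E.map ψ.left).appTop r)
          = (sn E j₀ f₀ k ≫ E.map ψ.left).appTop r := (appTop_comp_apply _ _ r).symm
        _ = ((bcDiagram E j₀ f₀).map ψ ≫ sn E j₀ f₀ k₁).appTop r :=
            appTop_congr (map_sn E j₀ f₀ ψ).symm r
        _ = ((bcDiagram E j₀ f₀).map ψ).appTop ((sn E j₀ f₀ k₁).appTop r) :=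
            appTop_comp_apply _ _ r
    | add x y _ _ hx hy =>
      rw [map_add]
      exact Subring.add_mem _ hx hy
    | mul x y _ _ hx hy =>
      rw [map_mul]
      exact Subring.mul_mem _ hx hy
  rw [sup_eq_right.mpr hle] at hgen
  intro z
  have hz : z ∈ (sn E j₀ f₀ k).appTop.hom.range := by rw [hgen]; trivial
  exact hz

end Stage

theorem affineStage_isClosedImmersion :
    AffineStage @IsClosedImmersion
      (fun f => LocallyOfFiniteType f ∧ QuasiCompact f ∧ QuasiSeparated f) := by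
  intro J _ _ E cE hcE _ j₀ _ X₀ f₀ hf₀ hP
  obtain ⟨hlft, hqc, hqs⟩ := hf₀
  haveI := hP
  obtain ⟨j₁, φ₁, haff⟩ := affineStage_isAffineHom E cE hcE j₀ f₀ ⟨hqc, hqs⟩ inferInstance
  haveI := haff
  haveI hE₁ : IsAffine (E.obj j₁) := isAffine_of_isAffineHom (E.map φ₁)
  haveI hX₁ : IsAffine ((bcDiagram E j₀ f₀).obj (Over.mk φ₁)) :=
    isAffine_of_isAffineHom (pullback.snd f₀ (E.map φ₁))
  haveI : IsAffineHom (cE.π.app j₀) := isAffineHom_π_app E cE hcE j₀
  haveI hpt : IsAffine cE.pt := isAffine_of_isAffineHom (cE.π.app j₀)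
  haveI : IsAffine (((Functor.const J).obj cE.pt).obj j₀) := hpt
  have hsurj : Function.Surjective (sInf E cE j₀ f₀).appTop :=
    (IsClosedImmersion.isAffine_surjective_of_isAffine (pullback.snd f₀ (cE.π.app j₀))).2
  haveI : IsAffine (E.obj (Over.mk φ₁).left) := hE₁
  have hft : RingHom.FiniteType (sn E j₀ f₀ (Over.mk φ₁)).appTop.hom :=
    HasRingHomProperty.appTop (P := @LocallyOfFiniteType) _ inferInstance
  letI : Algebra Γ(E.obj (Over.mk φ₁).left, ⊤) Γ((bcDiagram E j₀ f₀).obj (Over.mk φ₁), ⊤) :=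
    (sn E j₀ f₀ (Over.mk φ₁)).appTop.hom.toAlgebra
  obtain ⟨s, hs⟩ := (show Algebra.FiniteType Γ(E.obj (Over.mk φ₁).left, ⊤)
    Γ((bcDiagram E j₀ f₀).obj (Over.mk φ₁), ⊤) from hft).out
  obtain ⟨k, ψ, hk⟩ := exists_stage_of_finset E cE hcE j₀ f₀ s (fun b _ => hsurj _)
  have hsk := surjective_of_generators E j₀ f₀ (k₁ := Over.mk φ₁) (↑s) hs ψ
    (fun b hb => hk b (Finset.mem_coe.mp hb))
  haveI : IsAffine (E.obj k.left) := isAffine_of_isAffineHom (E.map k.hom)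
  haveI : IsAffine ((bcDiagram E j₀ f₀).obj k) :=
    isAffine_of_isAffineHom ((bcDiagram E j₀ f₀).map ψ)
  exact ⟨k.left, k.hom, IsClosedImmersion.of_surjective_of_isAffine (sn E j₀ f₀ k) hsk⟩

end Groth.Agent.Lib.LimCIH7
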