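import Mathlib
import Groth.Agent.Lib.LimOpenImm_helper7
import Groth.Agent.Lib.LimCI_helper7

/-!
# Immersions descend to a stage of a cofiltered limit (helper7)

* `exists_range_le_and_snd`: generic lemma: if in the limit the base change `f∞` of `f₀` has range
  in a compact open `U` and `P` holds for `f∞` restricted over `U`, then the same holds at a stage.
* `affineStage_isImmersion`.
-/

set_option autoImplicit false
set_option backward.isDefEq.respectTransparency false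
universe u
open CategoryTheory CategoryTheory.Limits AlgebraicGeometry Topology

namespace Groth.Agent.Lib.LimImmH7
open Groth.Agent.Lib.LimBaseChangeH7 Groth.Agent.Lib.LimIsoH7 Groth.Agent.Lib.LimDescendH7
open Groth.Agent.Lib.LimSurjH7 Groth.Agent.Lib.LimOpenImmH7

section Generic
variable {P : MorphismProperty Scheme.{u}} {H : ∀ {X Y : Scheme.{u}}, (X ⟶ Y) → Prop}

theorem snd_ι_congr {X Y : Scheme.{u}} (g : X ⟶ Y) {U U' : Y.Opens} (h : U = U')
    (hP : P (pullback.snd g U.ι)) : P (pullback.snd g U'.ι) := by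
  subst h; exact hP

variable [P.RespectsIso] [P.IsStableUnderBaseChange] [IsZariskiLocalAtTarget P]

theorem exists_range_le_and_snd (hA : AffineStage P H)
    (hH : ∀ {X Y Z : Scheme.{u}} (f : X ⟶ Z) (g : Y ⟶ Z), H f → H (pullback.snd f g))
    {J : Type u} [SmallCategory J] [IsCofiltered J] (E : J ⥤ Scheme.{u}) (cE : Cone E)
    (hcE : IsLimit cE) [∀ (i j : J) (f : i ⟶ j), IsAffineHom (E.map f)] (j₀ : J)
    [IsAffine (E.obj j₀)] {X₀ : Scheme.{u}} (f₀ : X₀ ⟶ E.obj j₀) [QuasiCompact f₀] (hf₀ : H f₀)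
    (fI : pullback f₀ (cE.π.app j₀) ⟶ cE.pt) (hfI : fI = pullback.snd f₀ (cE.π.app j₀))
    (U : cE.pt.Opens) (hUc : IsCompact (U : Set cE.pt))
    (hrange : Set.range fI ⊆ (U : Set cE.pt))
    (hP : P (pullback.snd fI U.ι)) :
    ∃ (k : J) (φ : k ⟶ j₀) (W : (E.obj k).Opens),
      Set.range (pullback.snd f₀ (E.map φ)) ⊆ (W : Set (E.obj k)) ∧
        P (pullback.snd (pullback.snd f₀ (E.map φ)) W.ι) := by
  haveI : CompactSpace X₀ := QuasiCompact.compactSpace_of_compactSpace f₀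
  -- Step 1: descend `U`
  obtain ⟨j₁, V₁, hV₁c, hV₁⟩ := exists_preimage_eq E cE hcE U hUc
  let k₁ := IsCofiltered.min j₁ j₀
  let a : k₁ ⟶ j₁ := IsCofiltered.minToLeft j₁ j₀
  let b : k₁ ⟶ j₀ := IsCofiltered.minToRight j₁ j₀
  let V : (E.obj k₁).Opens := E.map a ⁻¹ᵁ V₁
  have hV : cE.π.app k₁ ⁻¹ᵁ V = U := by
    rw [← Scheme.Hom.comp_preimage, cE.w, hV₁]
  have hVc' : IsCompact (V : Set (E.obj k₁)) := (E.map a).isCompact_preimage hV₁c
  -- Step 2: the range lands in `V` at some stage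
  have hXpb := IsPullback.of_hasPullback f₀ (cE.π.app j₀)
  let K₁ : Over j₀ := Over.mk b
  let UX : ((bcDiagram E j₀ f₀).obj K₁).Opens := (pullback.snd f₀ (E.map K₁.hom)) ⁻¹ᵁ V
  have hUX : (bcCone cE hXpb).π.app K₁ ⁻¹ᵁ UX = ⊤ := by
    rw [← Scheme.Hom.comp_preimage, bcCone_π_snd, Scheme.Hom.comp_preimage]
    show pullback.snd f₀ (cE.π.app j₀) ⁻¹ᵁ (cE.π.app k₁ ⁻¹ᵁ V) = ⊤
    rw [hV, ← hfI, ← top_le_iff]
    intro x _
    exact hrange ⟨x, rfl⟩
  obtain ⟨K₂, χ, hχ⟩ := exists_map_eq_top (bcDiagram E j₀ f₀) (bcCone cE hXpb)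
    (isLimitBcCone cE hXpb hcE) UX hUX
  let k₂ : J := K₂.left
  let φ : k₂ ⟶ j₀ := K₂.hom
  let W : (E.obj k₂).Opens := E.map χ.left ⁻¹ᵁ V
  have hrange₂ : Set.range (pullback.snd f₀ (E.map φ)) ⊆ (W : Set (E.obj k₂)) := by
    intro y hy
    obtain ⟨x, rfl⟩ := hy
    let x' : ↑((bcDiagram E j₀ f₀).obj K₂) := x
    have hx : x' ∈ ((bcDiagram E j₀ f₀).map χ ⁻¹ᵁ UX) := by rw [hχ]; trivial
    have hx' : (pullback.snd f₀ (E.map K₁.hom)) ((bcDiagram E j₀ f₀).map χ x') ∈ V := hx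
    have key : (bcDiagram E j₀ f₀).map χ ≫ pullback.snd f₀ (E.map K₁.hom) =
        pullback.snd f₀ (E.map K₂.hom) ≫ E.map χ.left := bcDiagram_map_snd _ _ _ χ
    have h2 : (pullback.snd f₀ (E.map K₁.hom)) ((bcDiagram E j₀ f₀).map χ x') =
        (E.map χ.left) ((pullback.snd f₀ (E.map K₂.hom)) x') := by
      have := congrArg (fun g : (bcDiagram E j₀ f₀).obj K₂ ⟶ E.obj K₁.left => g x') key
      simp only [Scheme.Hom.comp_apply] at this
      exact this
    rw [h2] at hx'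
    exact hx'
  have hW : cE.π.app k₂ ⁻¹ᵁ W = U := by
    rw [← Scheme.Hom.comp_preimage, cE.w]
    exact hV
  have hWc : IsCompact (W : Set (E.obj k₂)) := (E.map χ.left).isCompact_preimage hVc'
  -- Step 3: descend `P`
  have hc' := isLimitOpensCone E cE hcE k₂ W
  haveI : CompactSpace ↥((opensDiagram E k₂ W).obj (Over.mk (𝟙 k₂))) :=
    isCompact_iff_compactSpace.mp ((E.map (𝟙 k₂)).isCompact_preimage hWc)
  let u : (opensDiagram E k₂ W).obj (Over.mk (𝟙 k₂)) ⟶ E.obj j₀ :=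
    (E.map (𝟙 k₂) ⁻¹ᵁ W).ι ≫ E.map (𝟙 k₂) ≫ E.map φ
  have hcomp : (opensCone E cE k₂ W).π.app (Over.mk (𝟙 k₂)) ≫ u =
      (cE.π.app k₂ ⁻¹ᵁ W).ι ≫ cE.π.app j₀ := by
    show (cE.π.app k₂).resLE _ _ _ ≫ (E.map (𝟙 k₂) ⁻¹ᵁ W).ι ≫ E.map (𝟙 k₂) ≫ E.map φ = _
    rw [Scheme.Hom.resLE_comp_ι_assoc, cE.w_assoc, cE.w]
  have hP' : P (pullback.snd (pullback.snd f₀ u)
      ((opensCone E cE k₂ W).π.app (Over.mk (𝟙 k₂)))) := by
    rw [snd_snd_iff (P := P), hcomp, ← snd_snd_iff (P := P), ← hfI]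
    exact snd_ι_congr fI hW.symm hP
  obtain ⟨k', χ', hk'⟩ := exists_snd_of_compact hA hH (opensDiagram E k₂ W)
    (opensCone E cE k₂ W) hc' (Over.mk (𝟙 k₂)) (pullback.snd f₀ u) (hH f₀ u hf₀) hP'
  have hcomp' : (opensDiagram E k₂ W).map χ' ≫ u =
      (E.map k'.hom ⁻¹ᵁ W).ι ≫ E.map (k'.hom ≫ φ) := by
    show (E.map χ'.left).resLE _ _ _ ≫ (E.map (𝟙 k₂) ⁻¹ᵁ W).ι ≫ E.map (𝟙 k₂) ≫ E.map φ = _
    have hw : χ'.left ≫ 𝟙 k₂ = k'.hom := Over.w χ'
    rw [Scheme.Hom.resLE_comp_ι_assoc, ← E.map_comp_assoc, hw, ← E.map_comp]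
  rw [snd_snd_iff (P := P), hcomp', ← snd_snd_iff (P := P)] at hk'
  -- Step 4
  refine ⟨k'.left, k'.hom ≫ φ, E.map k'.hom ⁻¹ᵁ W, ?_, hk'⟩
  rw [Scheme.Pullback.range_snd]
  intro x hx
  apply hrange₂
  rw [Scheme.Pullback.range_snd]
  show E.map φ (E.map k'.hom x) ∈ Set.range f₀
  rw [← Scheme.Hom.comp_apply, ← E.map_comp]
  exact hx

end Generic

/-- A morphism with range in an open `W` whose base change to `W` is a closed immersion is an
immersion. -/
theorem isImmersion_of_isClosedImmersion_snd {X Y : Scheme.{u}} (g : X ⟶ Y) (W : Y.Opens)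
    (hrange : Set.range g ⊆ (W : Set Y)) (hci : IsClosedImmersion (pullback.snd g W.ι)) :
    IsImmersion g := by
  haveI := hci
  haveI : IsIso (pullback.fst g W.ι) := by
    apply isIso_of_isOpenImmersion_of_opensRange_eq_top
    apply TopologicalSpace.Opens.ext
    rw [Scheme.Hom.coe_opensRange, Scheme.Pullback.range_fst, Scheme.Opens.range_ι]
    apply Set.eq_univ_of_forall
    intro x
    exact hrange ⟨x, rfl⟩
  have : g = inv (pullback.fst g W.ι) ≫ pullback.snd g W.ι ≫ W.ι := by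
    rw [IsIso.eq_inv_comp, pullback.condition]
  rw [this]
  infer_instance

theorem affineStage_isImmersion : AffineStage @IsImmersion
    (fun f => LocallyOfFiniteType f ∧ QuasiCompact f ∧ QuasiSeparated f) := by
  intro J _ _ E cE hcE _ j₀ _ X₀ f₀ hf₀ hP
  obtain ⟨h1, h2, h3⟩ := hf₀
  haveI : IsAffineHom (cE.π.app j₀) := isAffineHom_π_app E cE hcE j₀
  haveI hpt : IsAffine cE.pt := isAffine_of_isAffineHom (cE.π.app j₀)
  haveI : IsAffine (((Functor.const J).obj cE.pt).obj j₀) := hpt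
  let fI : pullback f₀ (cE.π.app j₀) ⟶ cE.pt := pullback.snd f₀ (cE.π.app j₀)
  haveI : IsImmersion fI := hP
  haveI : CompactSpace ↑(pullback f₀ (cE.π.app j₀)) :=
    QuasiCompact.compactSpace_of_compactSpace fI
  -- a compact open between the range and the coborder
  have hcov : ∀ y : ↑(pullback f₀ (cE.π.app j₀)), ∃ V : cE.pt.Opens, IsAffineOpen V ∧ fI y ∈ V ∧
      V ≤ fI.coborderRange := fun y => by
    obtain ⟨_, ⟨(V : cE.pt.Opens), hV, rfl⟩, hyV, hVle⟩ :=
      cE.pt.isBasis_affineOpens.exists_subset_of_mem_open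
        (show fI y ∈ (fI.coborderRange : Set cE.pt) from subset_coborder ⟨y, rfl⟩)
        fI.coborderRange.isOpen
    exact ⟨V, hV, hyV, hVle⟩
  choose V hVaff hyV hVle using hcov
  obtain ⟨t, ht⟩ := (isCompact_range fI.continuous).elim_finite_subcover
    (fun y => (V y : Set cE.pt)) (fun y => (V y).isOpen)
    (by rintro _ ⟨y, rfl⟩; exact Set.mem_iUnion.mpr ⟨y, hyV y⟩)
  let U : cE.pt.Opens := ⟨⋃ y ∈ t, (V y : Set cE.pt), isOpen_biUnion fun y _ => (V y).isOpen⟩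
  have hUc : IsCompact (U : Set cE.pt) :=
    t.finite_toSet.isCompact_biUnion fun y _ => (hVaff y).isCompact
  have hUle : (U : Set cE.pt) ⊆ coborder (Set.range fI) := by
    intro x hx
    obtain ⟨y, hy⟩ := Set.mem_iUnion.mp hx
    obtain ⟨_, hxy⟩ := Set.mem_iUnion.mp hy
    exact hVle y hxy
  have hci : IsClosedImmersion (pullback.snd fI U.ι) := by
    refine IsClosedImmersion.of_isPreimmersion _ ?_
    rw [Scheme.Pullback.range_snd]
    have heq : U.ι ⁻¹' Set.range fI = U.ι ⁻¹' closure (Set.range fI) := by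
      ext x
      constructor
      · intro hx; exact subset_closure hx
      · intro hx
        by_contra hn
        have hxU : U.ι x ∈ (U : Set cE.pt) := by
          have : U.ι x ∈ Set.range U.ι := ⟨x, rfl⟩
          rwa [Scheme.Opens.range_ι] at this
        exact hUle hxU ⟨hx, hn⟩
    rw [heq]
    exact isClosed_closure.preimage U.ι.continuous
  obtain ⟨k, φ, W, hW1, hW2⟩ := exists_range_le_and_snd (P := @IsClosedImmersion)
    (H := fun f => LocallyOfFiniteType f ∧ QuasiCompact f ∧ QuasiSeparated f)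
    Groth.Agent.Lib.LimCIH7.affineStage_isClosedImmersion
    (fun f g h => by
      obtain ⟨h1, h2, h3⟩ := h
      exact ⟨inferInstance, inferInstance, inferInstance⟩)
    E cE hcE j₀ f₀ ⟨h1, h2, h3⟩ fI rfl U hUc ht hci
  exact ⟨k, φ, isImmersion_of_isClosedImmersion_snd _ W hW1 hW2⟩

end Groth.Agent.Lib.LimImmH7
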