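import Mathlib
import Groth.Agent.Lib.LimDescFP2_helper7
import Groth.Agent.S9188
import Groth.Agent.S9191
import Groth.Agent.S9192
import Groth.Agent.S9193
import Groth.Agent.S2075

/-!
# Descending finitely presented schemes together with a property (helper7)

* `DescendsProp P`: the property `P` of the base change to the limit spreads to a stage.
* `exists_descend_with`: a finitely presented `X ⟶ lim D` with `P` is the base change of a
  finitely presented `Xj ⟶ D j` with `P`.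
-/

set_option autoImplicit false
set_option linter.style.haveILetI false
universe u
open CategoryTheory CategoryTheory.Limits AlgebraicGeometry Topology TopologicalSpace

namespace Groth.Agent.Lib.LimDescFPH7

/-- `P` spreads from the limit to a stage (format of the statements S9188–S9197). -/
def DescendsProp (P : MorphismProperty Scheme.{u}) : Prop :=
  ∀ {I : Type u} [SmallCategory I] [IsCofiltered I] (D : I ⥤ Scheme.{u}) (c : Cone D)
    (_ : IsLimit c) [∀ (i j : I) (f : i ⟶ j), IsAffineHom (D.map f)] (i₀ : I)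
    [CompactSpace (D.obj i₀)] [QuasiSeparatedSpace (D.obj i₀)] {X₀ Y₀ : Scheme.{u}}
    (f₀ : X₀ ⟶ Y₀) (g₀ : Y₀ ⟶ D.obj i₀) [CompactSpace X₀] [QuasiSeparatedSpace X₀]
    [CompactSpace Y₀] [QuasiSeparatedSpace Y₀] [LocallyOfFinitePresentation f₀]
    {X Y : Scheme.{u}} (f : X ⟶ Y) (g : Y ⟶ c.pt) (qY : Y ⟶ Y₀) (qX : X ⟶ X₀)
    (_ : IsPullback qY g g₀ (c.π.app i₀)) (_ : IsPullback qX f f₀ qY), P f →
    ∃ (i : I) (φ : i ⟶ i₀) (Xi Yi : Scheme.{u}) (fi : Xi ⟶ Yi) (gi : Yi ⟶ D.obj i)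
      (pY : Yi ⟶ Y₀) (pX : Xi ⟶ X₀),
      IsPullback pY gi g₀ (D.map φ) ∧ IsPullback pX fi f₀ pY ∧ P fi

theorem descendsProp_etale : DescendsProp.{u} @Etale := by
  intro I _ _ D c hc _ i₀ _ _ X₀ Y₀ f₀ g₀ _ _ _ _ _ X Y f g qY qX hY hX hP
  haveI : Etale f := hP
  exact Groth.Agent.S9192.result D c hc i₀ f₀ g₀ f g qY qX hY hX

theorem descendsProp_smooth : DescendsProp.{u} @Smooth := by
  intro I _ _ D c hc _ i₀ _ _ X₀ Y₀ f₀ g₀ _ _ _ _ _ X Y f g qY qX hY hX hP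
  haveI : Smooth f := hP
  exact Groth.Agent.S9191.result D c hc i₀ f₀ g₀ f g qY qX hY hX

theorem descendsProp_flat : DescendsProp.{u} @Flat := by
  intro I _ _ D c hc _ i₀ _ _ X₀ Y₀ f₀ g₀ _ _ _ _ _ X Y f g qY qX hY hX hP
  haveI : Flat f := hP
  exact Groth.Agent.S2075.result D c hc i₀ f₀ g₀ f g qY qX hY hX

theorem descendsProp_formallyUnramified : DescendsProp.{u} @FormallyUnramified := by
  intro I _ _ D c hc _ i₀ _ _ X₀ Y₀ f₀ g₀ _ _ _ _ _ X Y f g qY qX hY hX hP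
  haveI : FormallyUnramified f := hP
  exact Groth.Agent.S9188.result D c hc i₀ f₀ g₀ f g qY qX hY hX

theorem descendsProp_isImmersion : DescendsProp.{u} @IsImmersion := by
  intro I _ _ D c hc _ i₀ _ _ X₀ Y₀ f₀ g₀ _ _ _ _ _ X Y f g qY qX hY hX hP
  haveI : IsImmersion f := hP
  exact Groth.Agent.S9193.result D c hc i₀ f₀ g₀ f g qY qX hY hX

theorem exists_descend_with {P : MorphismProperty Scheme.{u}} [P.RespectsIso]
    (hP : DescendsProp P) {I : Type u} [SmallCategory I] [IsCofiltered I]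
    (D : I ⥤ Scheme.{u}) (c : Cone D) (hc : IsLimit c)
    [∀ (i j : I) (f : i ⟶ j), IsAffineHom (D.map f)] (i₀ : I) [CompactSpace (D.obj i₀)]
    [QuasiSeparatedSpace (D.obj i₀)] {X : Scheme.{u}} (f : X ⟶ c.pt)
    [LocallyOfFinitePresentation f] [QuasiCompact f] [QuasiSeparated f] (hf : P f) :
    ∃ (j : I) (_ : j ⟶ i₀) (Xj : Scheme.{u}) (fj : Xj ⟶ D.obj j) (q : X ⟶ Xj),
      LocallyOfFinitePresentation fj ∧ QuasiCompact fj ∧ QuasiSeparated fj ∧ P fj ∧
      IsPullback q f fj (c.π.app j) := by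
  haveI hcpt : ∀ j : Over i₀, CompactSpace ((Over.forget i₀ ⋙ D).obj j) := fun j =>
    QuasiCompact.compactSpace_of_compactSpace (D.map j.hom)
  haveI hqsO : ∀ j : Over i₀, QuasiSeparatedSpace ((Over.forget i₀ ⋙ D).obj j) := fun j =>
    quasiSeparatedSpace_of_quasiSeparated (D.map j.hom)
  haveI : ∀ (j k : Over i₀) (g : j ⟶ k), IsAffineHom ((Over.forget i₀ ⋙ D).map g) := by
    intro j k g
    dsimp
    infer_instance
  have hcO := (Functor.Initial.isLimitWhiskerEquiv (Over.forget i₀) c).symm hc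
  let f' : X ⟶ (c.whisker (Over.forget i₀)).pt := f
  haveI : LocallyOfFinitePresentation f' := ‹LocallyOfFinitePresentation f›
  haveI : QuasiCompact f' := ‹QuasiCompact f›
  haveI : QuasiSeparated f' := ‹QuasiSeparated f›
  obtain ⟨j₀, X₀, f₀, g₀, hlfp, hqc, hqs, hpb'⟩ : ∃ (j₀ : Over i₀) (X₀ : Scheme.{u})
      (f₀ : X₀ ⟶ D.obj j₀.left) (g₀ : X ⟶ X₀), LocallyOfFinitePresentation f₀ ∧ QuasiCompact f₀ ∧
      QuasiSeparated f₀ ∧ IsPullback g₀ f f₀ (c.π.app j₀.left) := main591 hcO X f'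
  haveI : CompactSpace (D.obj j₀.left) := hcpt j₀
  haveI : QuasiSeparatedSpace (D.obj j₀.left) := hqsO j₀
  haveI := hlfp
  haveI := hqc
  haveI := hqs
  haveI : CompactSpace X₀ := QuasiCompact.compactSpace_of_compactSpace f₀
  haveI : QuasiSeparatedSpace X₀ := quasiSeparatedSpace_of_quasiSeparated f₀
  obtain ⟨i, φ, Xi, Yi, fi, gi, pY, pX, h1, h2, hPi⟩ := hP D c hc j₀.left f₀ (𝟙 _) f (𝟙 _)
    (c.π.app j₀.left) g₀ (IsPullback.id_vert _) hpb' hf
  haveI : IsIso gi := h1.isIso_snd_of_isIso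
  have h3 : IsPullback pX (fi ≫ gi) f₀ (D.map φ) := by
    have := h2.paste_vert h1
    rwa [Category.comp_id] at this
  have hw : g₀ ≫ f₀ = (f ≫ c.π.app i) ≫ D.map φ := by
    rw [Category.assoc, c.w φ]
    exact hpb'.w
  refine ⟨i, φ ≫ j₀.hom, Xi, fi ≫ gi, h3.lift g₀ (f ≫ c.π.app i) hw, ?_, ?_, ?_, ?_, ?_⟩
  · exact MorphismProperty.of_isPullback (P := @LocallyOfFinitePresentation) h3 hlfp
  · exact MorphismProperty.of_isPullback (P := @QuasiCompact) h3 hqc
  · exact MorphismProperty.of_isPullback (P := @QuasiSeparated) h3 hqs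
  · exact (P.cancel_right_of_respectsIso fi gi).mpr hPi
  · refine IsPullback.of_right ?_ (h3.lift_snd _ _ _) h3
    rw [h3.lift_fst, c.w φ]
    exact hpb'

theorem main4815 {I : Type u} [SmallCategory I] [IsCofiltered I]
    (D : I ⥤ Scheme.{u}) (c : Cone D) (hc : IsLimit c)
    [∀ (i j : I) (f : i ⟶ j), IsAffineHom (D.map f)] (i₀ : I)
    [CompactSpace (D.obj i₀)] [QuasiSeparatedSpace (D.obj i₀)]
    {Z : Scheme.{u}} (ι : Z ⟶ c.pt) [IsImmersion ι] [LocallyOfFinitePresentation ι]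
    [QuasiCompact ι] :
    ∃ (j : I) (_ : j ⟶ i₀) (Zj : Scheme.{u}) (ιj : Zj ⟶ D.obj j) (q : Z ⟶ Zj),
      IsImmersion ιj ∧ LocallyOfFinitePresentation ιj ∧ QuasiCompact ιj ∧
      IsPullback q ι ιj (c.π.app j) := by
  obtain ⟨j, φ, Zj, ιj, q, h1, h2, -, h4, h5⟩ :=
    exists_descend_with descendsProp_isImmersion D c hc i₀ ι (inferInstance : IsImmersion ι)
  exact ⟨j, φ, Zj, ιj, q, h4, h1, h2, h5⟩

end Groth.Agent.Lib.LimDescFPH7
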