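import Mathlib
import Groth.Agent.Lib.LimDescFP3_helper7
import Groth.Agent.Lib.AlgColim2_helper7

/-!
# Models of finitely presented schemes over finitely generated `ℤ`-subalgebras (helper7)

`exists_model_fg`: a finitely presented `X ⟶ Spec A` with a property `P` that spreads out is the
base change of a finitely presented `X₀ ⟶ Spec A₀` with `P`, `A₀ ⊆ A` a finitely generated
`ℤ`-subalgebra.
-/

set_option autoImplicit false
set_option linter.style.haveILetI false
universe u
open CategoryTheory CategoryTheory.Limits AlgebraicGeometry Topology TopologicalSpace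

namespace Groth.Agent.Lib.LimDescFPH7

section Diag

variable (R A : Type u) [CommRing R] [CommRing A] [Algebra R A]

/-- the diagram of finitely presented `R`-algebras mapping to `A` -/
noncomputable def DR : AlgColim2H7.Idx R A ⥤ CommRingCat.{u} :=
  AlgColim2H7.D (R := R) (A := A) ⋙ Under.forget _

/-- the diagram of affine schemes -/
noncomputable def DS : (AlgColim2H7.Idx R A)ᵒᵖ ⥤ Scheme.{u} := (DR R A).op ⋙ Scheme.Spec

attribute [local instance] IsFiltered.isConnected

/-- the limit cone with vertex `Spec A` -/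
noncomputable def coneS : Cone (DS R A) :=
  Scheme.Spec.mapCone
    ((Under.forget _).mapCocone (AlgColim2H7.cocone (R := R) (A := A))).op

/-- it is a limit cone -/
noncomputable def isLimitConeS : IsLimit (coneS R A) :=
  isLimitOfPreserves Scheme.Spec
    (isColimitOfPreserves (Under.forget _) (AlgColim2H7.isColimit (R := R) (A := A))).op

instance (i j : (AlgColim2H7.Idx R A)ᵒᵖ) (f : i ⟶ j) : IsAffineHom ((DS R A).map f) :=
  show IsAffineHom (Spec.map _) from inferInstance

instance (i : (AlgColim2H7.Idx R A)ᵒᵖ) : IsAffine ((DS R A).obj i) :=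
  show IsAffine (Spec _) from inferInstance

end Diag

theorem model_of_stage {P : MorphismProperty Scheme.{u}} [P.IsStableUnderBaseChange]
    (A : Type u) [CommRing A] (B : CommRingCat.{u}) (ι : B ⟶ CommRingCat.of A)
    (hft : Algebra.FiniteType ℤ B) {X Xj : Scheme.{u}} (f : X ⟶ Spec (CommRingCat.of A))
    (fj : Xj ⟶ Spec B) (q : X ⟶ Xj) [LocallyOfFinitePresentation fj] [QuasiCompact fj]
    (hPj : P fj) (hpb : IsPullback q f fj (Spec.map ι)) :
    ∃ A₀ : Subalgebra ℤ A, A₀.FG ∧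
      ∃ (X₀ : Scheme.{u}) (f₀ : X₀ ⟶ Spec (CommRingCat.of ↥A₀)) (g : X ⟶ X₀),
        P f₀ ∧ LocallyOfFinitePresentation f₀ ∧ QuasiCompact f₀ ∧
          IsPullback g f f₀ (Spec.map (CommRingCat.ofHom (algebraMap (↥A₀) A))) := by
  let φ' : B →ₐ[ℤ] A := ι.hom.toIntAlgHom
  have hfg : φ'.range.FG := by
    have h1 : (⊤ : Subalgebra ℤ B).FG := hft.out
    have h2 := h1.map φ'
    rwa [Algebra.map_top] at h2
  let ψc : B ⟶ CommRingCat.of φ'.range := CommRingCat.ofHom φ'.rangeRestrict.toRingHom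
  have hψ : ψc ≫ CommRingCat.ofHom (algebraMap (↥φ'.range) A) = ι := by
    ext x
    rfl
  have hw : q ≫ fj = (f ≫ Spec.map (CommRingCat.ofHom (algebraMap (↥φ'.range) A))) ≫
      Spec.map ψc := by
    rw [Category.assoc, ← Spec.map_comp, hψ]
    exact hpb.w
  refine ⟨φ'.range, hfg, pullback fj (Spec.map ψc), pullback.snd _ _,
    pullback.lift q (f ≫ Spec.map (CommRingCat.ofHom (algebraMap (↥φ'.range) A))) hw,
    P.pullback_snd _ _ hPj, inferInstance, inferInstance, ?_⟩
  refine IsPullback.of_right ?_ (pullback.lift_snd _ _ _) (IsPullback.of_hasPullback fj _)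
  rw [pullback.lift_fst, ← Spec.map_comp, hψ]
  exact hpb

theorem exists_model_fg {P : MorphismProperty Scheme.{u}} [P.RespectsIso]
    [P.IsStableUnderBaseChange] (hP : DescendsProp P) (A : Type u) [CommRing A] {X : Scheme.{u}}
    (f : X ⟶ Spec (CommRingCat.of A)) [LocallyOfFinitePresentation f] [QuasiCompact f]
    [QuasiSeparated f] (hf : P f) :
    ∃ A₀ : Subalgebra ℤ A, A₀.FG ∧
      ∃ (X₀ : Scheme.{u}) (f₀ : X₀ ⟶ Spec (CommRingCat.of ↥A₀)) (g : X ⟶ X₀),
        P f₀ ∧ LocallyOfFinitePresentation f₀ ∧ QuasiCompact f₀ ∧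
          IsPullback g f f₀ (Spec.map (CommRingCat.ofHom (algebraMap (↥A₀) A))) := by
  letI : Algebra (ULift.{u} ℤ) A := ULift.algebra' ℤ A
  obtain ⟨i₀⟩ : Nonempty (AlgColim2H7.Idx (ULift.{u} ℤ) A)ᵒᵖ :=
    ⟨Opposite.op (Classical.arbitrary _)⟩
  let f' : X ⟶ (coneS (ULift.{u} ℤ) A).pt := f
  haveI : LocallyOfFinitePresentation f' := ‹LocallyOfFinitePresentation f›
  haveI : QuasiCompact f' := ‹QuasiCompact f›
  haveI : QuasiSeparated f' := ‹QuasiSeparated f›
  obtain ⟨j, Xj, fj, q, hlfp, hqc, hPj, hpb⟩ : ∃ (j : (AlgColim2H7.Idx (ULift.{u} ℤ) A)ᵒᵖ)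
      (Xj : Scheme.{u}) (fj : Xj ⟶ Spec ((DR (ULift.{u} ℤ) A).obj j.unop)) (q : X ⟶ Xj),
      LocallyOfFinitePresentation fj ∧ QuasiCompact fj ∧ P fj ∧
      IsPullback q f fj (Spec.map (((Under.forget _).mapCocone
        (AlgColim2H7.cocone (R := ULift.{u} ℤ) (A := A))).ι.app j.unop)) := by
    obtain ⟨j, -, Xj, fj, q, hlfp, hqc, -, hPj, hpb⟩ := exists_descend_with hP
      (DS (ULift.{u} ℤ) A) (coneS (ULift.{u} ℤ) A) (isLimitConeS (ULift.{u} ℤ) A) i₀ f' hf
    exact ⟨j, Xj, fj, q, hlfp, hqc, hPj, hpb⟩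
  haveI := hlfp
  haveI := hqc
  have hfp : (((AlgColim2H7.D (R := ULift.{u} ℤ) (A := A)).obj j.unop).hom.hom).FinitePresentation :=
    AlgColim2H7.D_fp j.unop
  have hft : Algebra.FiniteType ℤ ((DR (ULift.{u} ℤ) A).obj j.unop) := by
    have h1 := RingHom.FiniteType.of_finitePresentation hfp
    have h2 : ((ULift.ringEquiv : ULift.{u} ℤ ≃+* ℤ).symm.toRingHom).FiniteType :=
      RingHom.FiniteType.of_surjective _ (ULift.ringEquiv : ULift.{u} ℤ ≃+* ℤ).symm.surjective
    have h3 := h1.comp h2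
    have h4 : algebraMap ℤ ((DR (ULift.{u} ℤ) A).obj j.unop) =
        (((AlgColim2H7.D (R := ULift.{u} ℤ) (A := A)).obj j.unop).hom.hom).comp
          (ULift.ringEquiv : ULift.{u} ℤ ≃+* ℤ).symm.toRingHom := Subsingleton.elim _ _
    rw [← h4] at h3
    exact RingHom.finiteType_algebraMap.mp h3
  exact model_of_stage A _ _ hft f fj q hPj hpb

end Groth.Agent.Lib.LimDescFPH7
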