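import Mathlib

namespace Groth.Agent.ProdRes

open PrimeSpectrum Topology

universe u

variable {A : Type u} [CommRing A]

/-- The product of the residue fields at the points of `E`. -/
abbrev prodRes (E : Set (PrimeSpectrum A)) : Type u := ∀ p : E, p.1.asIdeal.ResidueField

/-- The canonical map to the product of residue fields. -/
noncomputable def toProdRes (E : Set (PrimeSpectrum A)) : A →+* prodRes E :=
  RingHom.pi fun p => algebraMap A p.1.asIdeal.ResidueField

theorem toProdRes_apply (E : Set (PrimeSpectrum A)) (a : A) (p : E) :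
    toProdRes E a p = algebraMap A p.1.asIdeal.ResidueField a := rfl

theorem subset_range_comap (E : Set (PrimeSpectrum A)) :
    E ⊆ Set.range (comap (toProdRes E)) := by
  intro p hp
  let ev : prodRes E →+* p.asIdeal.ResidueField := Pi.evalRingHom _ (⟨p, hp⟩ : E)
  refine ⟨comap ev ⊥, ?_⟩
  apply PrimeSpectrum.ext
  ext a
  simp only [comap_asIdeal, Ideal.mem_comap]
  show ev (toProdRes E a) ∈ (⊥ : PrimeSpectrum p.asIdeal.ResidueField).asIdeal ↔ _
  have : ev (toProdRes E a) = algebraMap A p.asIdeal.ResidueField a := rfl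
  rw [this]
  have hbot : (⊥ : PrimeSpectrum p.asIdeal.ResidueField).asIdeal = ⊥ := rfl
  rw [hbot, Ideal.mem_bot, ← RingHom.mem_ker, Ideal.ker_algebraMap_residueField]

/-- A basic constructible set disjoint from `E` is disjoint from the image of the spectrum of the
product of residue fields. -/
theorem basic_disjoint (E : Set (PrimeSpectrum A)) (C : BasicConstructibleSetData A)
    (hC : Disjoint E C.toSet) : Disjoint (Set.range (comap (toProdRes E))) C.toSet := by
  classical
  rw [Set.disjoint_left]
  rintro _ ⟨Q, rfl⟩ hq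
  obtain ⟨hqg, hqf⟩ := hq
  -- hqg : all g_j ∈ comap, hqf : f ∉ comap
  have hg : ∀ j, toProdRes E (C.g j) ∈ Q.asIdeal := by
    intro j
    have := hqg (Set.mem_range_self j)
    exact this
  have hf : toProdRes E C.f ∉ Q.asIdeal := by
    intro h
    apply hqf
    rw [mem_zeroLocus, Set.singleton_subset_iff]
    exact h
  -- the idempotents
  let u : Fin C.n → prodRes E := fun j p => (algebraMap A p.1.asIdeal.ResidueField (C.g j))⁻¹
  let e : Fin C.n → prodRes E := fun j => u j * toProdRes E (C.g j)
  have he : ∀ j, e j ∈ Q.asIdeal := fun j => Q.asIdeal.mul_mem_left _ (hg j)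
  have hprod : toProdRes E C.f * ∏ j, (1 - e j) = 0 := by
    funext p
    simp only [Pi.mul_apply, Finset.prod_apply, Pi.sub_apply, Pi.one_apply, Pi.zero_apply]
    by_cases hpf : algebraMap A p.1.asIdeal.ResidueField C.f = 0
    · rw [toProdRes_apply, hpf, zero_mul]
    · -- p ∉ C.toSet so some g_j ∉ p
      have hpC : p.1 ∉ C.toSet := fun h => Set.disjoint_left.mp hC p.2 h
      have : ∃ j, algebraMap A p.1.asIdeal.ResidueField (C.g j) ≠ 0 := by
        by_contra hcon
        push Not at hcon
        apply hpC
        refine ⟨?_, ?_⟩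
        · rw [mem_zeroLocus]
          rintro _ ⟨j, rfl⟩
          have := hcon j
          rwa [← RingHom.mem_ker, Ideal.ker_algebraMap_residueField] at this
        · rw [mem_zeroLocus, Set.singleton_subset_iff]
          intro h
          apply hpf
          rw [← RingHom.mem_ker, Ideal.ker_algebraMap_residueField]
          exact h
      obtain ⟨j, hj⟩ := this
      have h1 : (1 : p.1.asIdeal.ResidueField) - e j p = 0 := by
        show 1 - (algebraMap A p.1.asIdeal.ResidueField (C.g j))⁻¹ *
          algebraMap A p.1.asIdeal.ResidueField (C.g j) = 0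
        rw [inv_mul_cancel₀ hj, sub_self]
      rw [Finset.prod_eq_zero (Finset.mem_univ j) h1, mul_zero]
  have hmem : ∏ j, (1 - e j) ∈ Q.asIdeal := by
    have h0 : toProdRes E C.f * ∏ j, (1 - e j) ∈ Q.asIdeal := by rw [hprod]; exact zero_mem _
    exact (Q.2.mem_or_mem h0).resolve_left hf
  obtain ⟨j, -, hj⟩ := (Ideal.IsPrime.prod_mem_iff (hp := Q.2)).mp hmem
  have : (1 : prodRes E) ∈ Q.asIdeal := by
    have := Q.asIdeal.add_mem hj (he j)
    rwa [sub_add_cancel] at this
  exact Q.2.ne_top ((Ideal.eq_top_iff_one _).mpr this)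

/-- If `E` is an intersection of constructible sets, then `E` is the image of the spectrum of the
product of its residue fields. -/
theorem range_comap_eq (E : Set (PrimeSpectrum A)) (S : Set (Set (PrimeSpectrum A)))
    (hS : ∀ T ∈ S, IsConstructible T) (hE : E = ⋂₀ S) :
    Set.range (comap (toProdRes E)) = E := by
  apply Set.Subset.antisymm _ (subset_range_comap E)
  intro q hq
  rw [hE, Set.mem_sInter]
  intro T hT
  by_contra hqT
  have hTc : IsConstructible Tᶜ := (hS T hT).compl
  obtain ⟨D, hD⟩ := exists_constructibleSetData_iff.mpr hTc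
  have hqD : q ∈ D.toSet := hD ▸ hqT
  simp only [ConstructibleSetData.toSet, Set.mem_iUnion] at hqD
  obtain ⟨C, hCD, hqC⟩ := hqD
  have hdisj : Disjoint E C.toSet := by
    rw [Set.disjoint_left]
    intro p hpE hpC
    have hpT : p ∈ T := by
      rw [hE] at hpE
      exact Set.mem_sInter.mp hpE T hT
    have : p ∈ D.toSet := by
      simp only [ConstructibleSetData.toSet, Set.mem_iUnion]
      exact ⟨C, hCD, hpC⟩
    rw [hD] at this
    exact this hpT
  exact Set.disjoint_left.mp (basic_disjoint E C hdisj) hq hqC

end Groth.Agent.ProdRes
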