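import Mathlib
import Groth.Prelude.Def_ProCons
import Groth.Agent.Lib.ProConsImg_helper8
import Groth.Agent.Lib.ProConsSch_helper8
import Groth.Agent.Lib.ProdRes_helper8

namespace Groth.Agent.Lib.ProConsAffH8

open Topology TopologicalSpace Set CategoryTheory AlgebraicGeometry Set.Notation Limits
open Groth.Agent.Lib.ProConsTopH8 Groth.Agent.Lib.ProConsLocH8 Groth.Agent.Lib.ProConsCptH8
  Groth.Agent.Lib.ProConsImgH8

universe u

/-- In a spectral space a pro-constructible set is an intersection of constructible sets. -/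
theorem exists_sInter_of_pro {Y : Type*} [TopologicalSpace Y] [CompactSpace Y]
    [PrespectralSpace Y] [QuasiSeparatedSpace Y] {E : Set Y}
    (hE : ProCons.IsProConstructible E) :
    ∃ S : Set (Set Y), (∀ T ∈ S, IsConstructible T) ∧ E = ⋂₀ S := by
  haveI : CompactSpace ↥(univ : Set Y) := isCompact_iff_compactSpace.mp isCompact_univ
  haveI : PrespectralSpace ↥(univ : Set Y) := isOpen_univ.isOpenEmbedding_subtypeVal.prespectralSpace
  haveI : QuasiSeparatedSpace ↥(univ : Set Y) :=
    isOpen_univ.isOpenEmbedding_subtypeVal.quasiSeparatedSpace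
  have h := isClosed_restrict_of_pro hE (W := (univ : Set Y)) isOpen_univ
  obtain ⟨S', hS', h'⟩ := exists_sInter_of_isClosed h
  refine ⟨(fun T => Subtype.val '' T) '' S', ?_, ?_⟩
  · rintro _ ⟨T, hT, rfl⟩
    exact (hS' T hT).image_of_isOpenEmbedding isOpen_univ.isOpenEmbedding_subtypeVal
      (by rw [Subtype.range_coe]; exact IsRetrocompact.univ)
  · ext y
    constructor
    · intro hy
      rw [mem_sInter]
      rintro _ ⟨T, hT, rfl⟩
      have : (⟨y, mem_univ y⟩ : ↥(univ : Set Y)) ∈ ((univ : Set Y) ↓∩ E) := hy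
      rw [h'] at this
      exact ⟨⟨y, mem_univ y⟩, mem_sInter.mp this T hT, rfl⟩
    · intro hy
      have : (⟨y, mem_univ y⟩ : ↥(univ : Set Y)) ∈ ((univ : Set Y) ↓∩ E) := by
        rw [h', mem_sInter]
        intro T hT
        obtain ⟨z, hz, hzy⟩ := mem_sInter.mp hy _ ⟨T, hT, rfl⟩
        have : z = ⟨y, mem_univ y⟩ := Subtype.ext hzy
        rwa [← this]
      exact this

theorem isProConstructible_univ {Y : Type*} [TopologicalSpace Y] :
    ProCons.IsProConstructible (univ : Set Y) := by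
  intro y
  refine ⟨univ, isOpen_univ, mem_univ y, ∅, ?_, ?_⟩
  · intro T hT
    exact absurd hT (notMem_empty T)
  · simp

/-- For an affine open `W` of `X` and a pro-constructible `E`, there is an affine scheme mapping to
`X` with image `E ∩ W`. -/
theorem exists_affine_range_eq (X : Scheme.{u}) (E : Set X) (hE : ProCons.IsProConstructible E)
    (W : X.Opens) (hW : IsAffineOpen W) :
    ∃ (B : CommRingCat.{u}) (g : Spec B ⟶ X), Set.range g.base = E ∩ (W : Set X) := by
  let EA : Set (PrimeSpectrum Γ(X, W)) := hW.fromSpec.base ⁻¹' E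
  have hEA : ProCons.IsProConstructible (X := PrimeSpectrum Γ(X, W)) EA :=
    Groth.Agent.Lib.ProConsSchH8.isProConstructible_preimage hW.fromSpec E hE
  obtain ⟨S, hS, hES⟩ := exists_sInter_of_pro (Y := PrimeSpectrum Γ(X, W)) hEA
  have hrange := Groth.Agent.ProdRes.range_comap_eq EA S hS hES
  refine ⟨CommRingCat.of (Groth.Agent.ProdRes.prodRes EA),
    Spec.map (CommRingCat.ofHom (Groth.Agent.ProdRes.toProdRes EA)) ≫ hW.fromSpec, ?_⟩
  have hmem : ∀ p : PrimeSpectrum Γ(X, W),
      p ∈ Set.range (PrimeSpectrum.comap (Groth.Agent.ProdRes.toProdRes EA)) ↔ p ∈ EA :=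
    fun p => by rw [hrange]
  ext x
  constructor
  · rintro ⟨q, rfl⟩
    have hq : PrimeSpectrum.comap (Groth.Agent.ProdRes.toProdRes EA) q ∈ EA :=
      (hmem _).mp ⟨q, rfl⟩
    refine ⟨hq, ?_⟩
    have : hW.fromSpec.base (PrimeSpectrum.comap (Groth.Agent.ProdRes.toProdRes EA) q) ∈
        Set.range hW.fromSpec.base := ⟨_, rfl⟩
    rw [hW.range_fromSpec] at this
    exact this
  · rintro ⟨hxE, hxW⟩
    have : x ∈ Set.range hW.fromSpec.base := by
      rw [hW.range_fromSpec]; exact hxW
    obtain ⟨p, rfl⟩ := this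
    obtain ⟨q, hq⟩ := (hmem p).mpr hxE
    refine ⟨q, ?_⟩
    show hW.fromSpec.base (PrimeSpectrum.comap (Groth.Agent.ProdRes.toProdRes EA) q) = _
    rw [hq]

end Groth.Agent.Lib.ProConsAffH8
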