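import Mathlib
import Groth.Prelude.Def_EGA4Misc
import Groth.Agent.Lib.ConsProp2_helper7
import Groth.Agent.Lib.LimDescFP4_helper7
import Groth.Agent.Lib.LimDiag_helper7
import Groth.Agent.Lib.ProConsAff_helper8

/-!
# Constructible properties of algebraic schemes, III (helper7)

* `isConstructible_locusMor`, `isIndConstructible_locusMor`: Noetherian base.
* `exists_descend_pair`: descent of `X ⟶ Y ⟶ lim S_i` to a stage.
* `isConstructible_locusMor_of_isAffine`, `isIndConstructible_locusMor_of_isAffine`.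
* `main5880`, `main5881`.
-/

set_option autoImplicit false
set_option linter.style.haveILetI false
set_option linter.unusedVariables false
universe u
open CategoryTheory CategoryTheory.Limits AlgebraicGeometry TopologicalSpace Topology
open Set.Notation

namespace Groth.Agent.Lib.ConsPropH7

open Groth.Agent.Lib.LimBaseChangeH7 Groth.Agent.Lib.LimDescFPH7

variable {P : ∀ ⦃X Y T : Scheme.{u}⦄, (X ⟶ Y) → (Y ⟶ T) → Prop}

section Noeth

/-- Over a Noetherian base the locus of a constructible property of morphisms is constructible. -/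
theorem isConstructible_locusMor (hP : ConsProp.IsConsMor P) {X Y S : Scheme.{u}} (f : X ⟶ Y)
    (g : Y ⟶ S) [IsNoetherian S] [LocallyOfFiniteType g] [QuasiCompact g]
    [LocallyOfFiniteType (f ≫ g)] [QuasiCompact (f ≫ g)] :
    IsConstructible (ConsProp.locusMor P f g) := by
  apply isConstructible_of_forall_generic
  intro ξ
  obtain ⟨I, hint, hN, hgen, hrange⟩ := exists_red_closure ξ
  haveI := hint
  haveI := hN
  have hY := IsPullback.of_hasPullback g I.subschemeι
  have hX := IsPullback.of_hasPullback f (pullback.fst g I.subschemeι)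
  haveI : LocallyOfFiniteType (pullback.snd f (pullback.fst g I.subschemeι) ≫
      pullback.snd g I.subschemeι) :=
    MorphismProperty.of_isPullback (P := @LocallyOfFiniteType) (hX.paste_vert hY) inferInstance
  haveI : QuasiCompact (pullback.snd f (pullback.fst g I.subschemeι) ≫
      pullback.snd g I.subschemeι) :=
    MorphismProperty.of_isPullback (P := @QuasiCompact) (hX.paste_vert hY) inferInstance
  have hloc : ∀ t : I.subscheme,
      t ∈ ConsProp.locusMor P (pullback.snd f (pullback.fst g I.subschemeι))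
        (pullback.snd g I.subschemeι) ↔ I.subschemeι t ∈ ConsProp.locusMor P f g :=
    fun t => locusMor_baseChange hP.1 f g _ _ _ _ I.subschemeι hY hX t
  rcases hP.2 (pullback.snd f (pullback.fst g I.subschemeι)) (pullback.snd g I.subschemeι)
    with h1 | h1
  · obtain ⟨U, hU, hξU, hsub⟩ := exists_open_of_subscheme ξ I hgen hrange _
      (ConsProp.locusMor P f g) isOpen_interior h1
      (fun t ht => (hloc t).mp (interior_subset ht))
    exact ⟨U, hU, hξU, Or.inl hsub⟩
  · obtain ⟨U, hU, hξU, hsub⟩ := exists_open_of_subscheme ξ I hgen hrange _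
      (ConsProp.locusMor P f g)ᶜ isOpen_interior h1
      (fun t ht hcon => interior_subset ht ((hloc t).mpr hcon))
    exact ⟨U, hU, hξU, Or.inr hsub⟩

/-- Over a Noetherian base the locus of an ind-constructible property of morphisms is
ind-constructible. -/
theorem isIndConstructible_locusMor (hP : ConsProp.IsIndConsMor P) {X Y S : Scheme.{u}}
    (f : X ⟶ Y) (g : Y ⟶ S) [IsNoetherian S] [LocallyOfFiniteType g] [QuasiCompact g]
    [LocallyOfFiniteType (f ≫ g)] [QuasiCompact (f ≫ g)] :
    ProCons.IsIndConstructible (ConsProp.locusMor P f g) := by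
  rw [Groth.Agent.Lib.ProConsNoethH8.isIndConstructible_iff_nhds]
  intro ξ hξ
  obtain ⟨I, hint, hN, hgen, hrange⟩ := exists_red_closure ξ
  haveI := hint
  haveI := hN
  have hY := IsPullback.of_hasPullback g I.subschemeι
  have hX := IsPullback.of_hasPullback f (pullback.fst g I.subschemeι)
  haveI : LocallyOfFiniteType (pullback.snd f (pullback.fst g I.subschemeι) ≫
      pullback.snd g I.subschemeι) :=
    MorphismProperty.of_isPullback (P := @LocallyOfFiniteType) (hX.paste_vert hY) inferInstance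
  haveI : QuasiCompact (pullback.snd f (pullback.fst g I.subschemeι) ≫
      pullback.snd g I.subschemeι) :=
    MorphismProperty.of_isPullback (P := @QuasiCompact) (hX.paste_vert hY) inferInstance
  have hloc : ∀ t : I.subscheme,
      t ∈ ConsProp.locusMor P (pullback.snd f (pullback.fst g I.subschemeι))
        (pullback.snd g I.subschemeι) ↔ I.subschemeι t ∈ ConsProp.locusMor P f g :=
    fun t => locusMor_baseChange hP.1 f g _ _ _ _ I.subschemeι hY hX t
  have hη : genericPoint I.subscheme ∈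
      ConsProp.locusMor P (pullback.snd f (pullback.fst g I.subschemeι))
        (pullback.snd g I.subschemeι) := by
    rw [hloc, hgen]
    exact hξ
  have h1 := hP.2 (pullback.snd f (pullback.fst g I.subschemeι)) (pullback.snd g I.subschemeι) hη
  obtain ⟨U, hU, hξU, hsub⟩ := exists_open_of_subscheme ξ I hgen hrange _
    (ConsProp.locusMor P f g) isOpen_interior h1
    (fun t ht => (hloc t).mp (interior_subset ht))
  exact Filter.mem_of_superset ((hU.preimage continuous_subtype_val).mem_nhds hξU)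
    (fun z hz => hsub ⟨hz, z.2⟩)

end Noeth

section Descend

/-- A pair `X ⟶ Y ⟶ lim S_i` of finitely presented objects descends to a stage. -/
theorem exists_descend_pair {I : Type u} [SmallCategory I] [IsCofiltered I]
    (D : I ⥤ Scheme.{u}) (c : Cone D) (hc : IsLimit c)
    [∀ (i j : I) (a : i ⟶ j), IsAffineHom (D.map a)] [∀ i, CompactSpace (D.obj i)]
    [∀ i, QuasiSeparatedSpace (D.obj i)] {X Y : Scheme.{u}} (f : X ⟶ Y) (g : Y ⟶ c.pt)
    [LocallyOfFinitePresentation g] [QuasiCompact g] [QuasiSeparated g]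
    [LocallyOfFinitePresentation (f ≫ g)] [QuasiCompact (f ≫ g)] [QuasiSeparated (f ≫ g)] :
    ∃ (i : I) (Xi Yi : Scheme.{u}) (fi : Xi ⟶ Yi) (gi : Yi ⟶ D.obj i) (qX : X ⟶ Xi)
      (qY : Y ⟶ Yi), LocallyOfFiniteType gi ∧ QuasiCompact gi ∧ LocallyOfFiniteType (fi ≫ gi) ∧
        QuasiCompact (fi ≫ gi) ∧ IsPullback qY g gi (c.π.app i) ∧ IsPullback qX f fi qY := by
  obtain ⟨i₁, Y₁, g₁, q₁, hlfp₁, hqc₁, hqs₁, hpb₁⟩ := main591 hc Y g
  haveI := hlfp₁
  haveI := hqc₁
  haveI := hqs₁
  haveI : CompactSpace Y₁ := QuasiCompact.compactSpace_of_compactSpace g₁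
  haveI : QuasiSeparatedSpace Y₁ := quasiSeparatedSpace_of_quasiSeparated g₁
  haveI : LocallyOfFinitePresentation f := Groth.Agent.Lib.LimDiagH7.lfp_of_comp f g
  haveI : QuasiCompact f := QuasiCompact.of_comp f g
  haveI : QuasiSeparated f := QuasiSeparated.of_comp f g
  let f' : X ⟶ (bcCone c hpb₁).pt := f
  haveI : LocallyOfFinitePresentation f' := ‹LocallyOfFinitePresentation f›
  haveI : QuasiCompact f' := ‹QuasiCompact f›
  haveI : QuasiSeparated f' := ‹QuasiSeparated f›
  obtain ⟨j, Xj, fj, q, hlfp, hqc, hqs, hpb⟩ :=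
    main591 (D := bcDiagram D i₁ g₁) (c := bcCone c hpb₁) (isLimitBcCone c hpb₁ hc) X f'
  let fj' : Xj ⟶ pullback g₁ (D.map j.hom) := fj
  haveI : LocallyOfFinitePresentation fj' := hlfp
  haveI : QuasiCompact fj' := hqc
  refine ⟨j.left, Xj, pullback g₁ (D.map j.hom), fj', pullback.snd g₁ (D.map j.hom), q,
    (bcCone c hpb₁).π.app j, inferInstance, inferInstance, ?_, ?_,
    isPullback_bcCone_π c hpb₁ j, hpb⟩
  · haveI : LocallyOfFiniteType fj' := inferInstance
    infer_instance
  · infer_instance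

end Descend

section Affine

theorem isNoetherian_stage (A : Type u) [CommRing A] [Algebra (ULift.{u} ℤ) A]
    (j : (AlgColim2H7.Idx (ULift.{u} ℤ) A)ᵒᵖ) :
    IsNoetherian ((DS (ULift.{u} ℤ) A).obj j) := by
  have hfp : (((AlgColim2H7.D (R := ULift.{u} ℤ) (A := A)).obj j.unop).hom.hom).FinitePresentation :=
    AlgColim2H7.D_fp j.unop
  have hft : Algebra.FiniteType ℤ ((DR (ULift.{u} ℤ) A).obj j.unop) := by
    have h1 := RingHom.FiniteType.of_finitePresentation hfp
    have h2 : ((ULift.ringEquiv : ULift.{u} ℤ ≃+* ℤ).symm.toRingHom).FiniteType :=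
      RingHom.FiniteType.of_surjective _ (ULift.ringEquiv : ULift.{u} ℤ ≃+* ℤ).symm.surjective
    have h3 := h1.comp h2
    have h4 : algebraMap ℤ ((DR (ULift.{u} ℤ) A).obj j.unop) =
        (((AlgColim2H7.D (R := ULift.{u} ℤ) (A := A)).obj j.unop).hom.hom).comp
          (ULift.ringEquiv : ULift.{u} ℤ ≃+* ℤ).symm.toRingHom := Subsingleton.elim _ _
    rw [← h4] at h3
    exact RingHom.finiteType_algebraMap.mp h3
  haveI : IsNoetherianRing ((DR (ULift.{u} ℤ) A).obj j.unop) :=
    Algebra.FiniteType.isNoetherianRing ℤ _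
  show IsNoetherian (Spec ((DR (ULift.{u} ℤ) A).obj j.unop))
  infer_instance

/-- descent of a finitely presented pair over `Spec A` to a Noetherian base -/
theorem exists_noetherian_model (A : Type u) [CommRing A] {X Y : Scheme.{u}} (f : X ⟶ Y)
    (g : Y ⟶ Spec (CommRingCat.of A))
    [LocallyOfFinitePresentation g] [QuasiCompact g] [QuasiSeparated g]
    [LocallyOfFinitePresentation (f ≫ g)] [QuasiCompact (f ≫ g)] [QuasiSeparated (f ≫ g)] :
    ∃ (S₀ X₀ Y₀ : Scheme.{u}) (_ : IsNoetherian S₀) (f₀ : X₀ ⟶ Y₀) (g₀ : Y₀ ⟶ S₀)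
      (h : Spec (CommRingCat.of A) ⟶ S₀) (qX : X ⟶ X₀) (qY : Y ⟶ Y₀),
      LocallyOfFiniteType g₀ ∧ QuasiCompact g₀ ∧ LocallyOfFiniteType (f₀ ≫ g₀) ∧
        QuasiCompact (f₀ ≫ g₀) ∧ IsPullback qY g g₀ h ∧ IsPullback qX f f₀ qY := by
  letI : Algebra (ULift.{u} ℤ) A := ULift.algebra' ℤ A
  haveI : ∀ i, CompactSpace ((DS (ULift.{u} ℤ) A).obj i) := fun i => inferInstance
  haveI : ∀ i, QuasiSeparatedSpace ((DS (ULift.{u} ℤ) A).obj i) := fun i => inferInstance
  let g' : Y ⟶ (coneS (ULift.{u} ℤ) A).pt := g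
  haveI : LocallyOfFinitePresentation g' := ‹LocallyOfFinitePresentation g›
  haveI : QuasiCompact g' := ‹QuasiCompact g›
  haveI : QuasiSeparated g' := ‹QuasiSeparated g›
  haveI : LocallyOfFinitePresentation (f ≫ g') := ‹LocallyOfFinitePresentation (f ≫ g)›
  haveI : QuasiCompact (f ≫ g') := ‹QuasiCompact (f ≫ g)›
  haveI : QuasiSeparated (f ≫ g') := ‹QuasiSeparated (f ≫ g)›
  obtain ⟨i, Xi, Yi, fi, gi, qX, qY, h1, h2, h3, h4, h5, h6⟩ :=
    exists_descend_pair (DS (ULift.{u} ℤ) A) (coneS (ULift.{u} ℤ) A)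
      (isLimitConeS (ULift.{u} ℤ) A) f g'
  exact ⟨_, Xi, Yi, isNoetherian_stage A i, fi, gi, (coneS (ULift.{u} ℤ) A).π.app i, qX, qY,
    h1, h2, h3, h4, h5, h6⟩

/-- descent of a finitely presented pair over an affine scheme to a Noetherian base -/
theorem exists_noetherian_model_of_isAffine {X Y S : Scheme.{u}} [IsAffine S] (f : X ⟶ Y)
    (g : Y ⟶ S)
    [LocallyOfFinitePresentation g] [QuasiCompact g] [QuasiSeparated g]
    [LocallyOfFinitePresentation (f ≫ g)] [QuasiCompact (f ≫ g)] [QuasiSeparated (f ≫ g)] :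
    ∃ (S₀ X₀ Y₀ : Scheme.{u}) (_ : IsNoetherian S₀) (f₀ : X₀ ⟶ Y₀) (g₀ : Y₀ ⟶ S₀)
      (h : S ⟶ S₀) (qX : X ⟶ X₀) (qY : Y ⟶ Y₀),
      LocallyOfFiniteType g₀ ∧ QuasiCompact g₀ ∧ LocallyOfFiniteType (f₀ ≫ g₀) ∧
        QuasiCompact (f₀ ≫ g₀) ∧ IsPullback qY g g₀ h ∧ IsPullback qX f f₀ qY := by
  let e : S ⟶ Spec (CommRingCat.of Γ(S, ⊤)) := S.isoSpec.hom
  haveI : IsIso e := inferInstanceAs (IsIso S.isoSpec.hom)
  haveI : LocallyOfFinitePresentation (g ≫ e) := inferInstance
  haveI : QuasiCompact (g ≫ e) := inferInstance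
  haveI : QuasiSeparated (g ≫ e) := inferInstance
  haveI : LocallyOfFinitePresentation (f ≫ g ≫ e) := by
    rw [← Category.assoc]; infer_instance
  haveI : QuasiCompact (f ≫ g ≫ e) := by
    rw [← Category.assoc]; infer_instance
  haveI : QuasiSeparated (f ≫ g ≫ e) := by
    rw [← Category.assoc]; infer_instance
  obtain ⟨S₀, X₀, Y₀, hN, f₀, g₀, h, qX, qY, h1, h2, h3, h4, h5, h6⟩ :=
    exists_noetherian_model Γ(S, ⊤) f (g ≫ e)
  refine ⟨S₀, X₀, Y₀, hN, f₀, g₀, e ≫ h, qX, qY, h1, h2, h3, h4, ?_, h6⟩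
  have hiso : IsPullback (𝟙 Y) g (g ≫ e) e := IsPullback.of_horiz_isIso ⟨by simp⟩
  have h7 := hiso.paste_horiz h5
  simpa using h7

/-- Over an affine base the locus of a constructible property of morphisms is constructible. -/
theorem isConstructible_locusMor_of_isAffine (hP : ConsProp.IsConsMor P) {X Y S : Scheme.{u}}
    [IsAffine S] (f : X ⟶ Y) (g : Y ⟶ S)
    [LocallyOfFinitePresentation g] [QuasiCompact g] [QuasiSeparated g]
    [LocallyOfFinitePresentation (f ≫ g)] [QuasiCompact (f ≫ g)] [QuasiSeparated (f ≫ g)] :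
    IsConstructible (ConsProp.locusMor P f g) := by
  obtain ⟨S₀, X₀, Y₀, hN, f₀, g₀, h, qX, qY, h1, h2, h3, h4, h5, h6⟩ :=
    exists_noetherian_model_of_isAffine f g
  haveI := hN
  haveI := h1
  haveI := h2
  haveI := h3
  haveI := h4
  have e : ConsProp.locusMor P f g = h ⁻¹' ConsProp.locusMor P f₀ g₀ := by
    ext s
    exact locusMor_baseChange hP.1 f₀ g₀ f g qX qY h h5 h6 s
  rw [e]
  exact h.isConstructible_preimage (isConstructible_locusMor hP f₀ g₀)

/-- Over an affine base the locus of an ind-constructible property of morphisms is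
ind-constructible. -/
theorem isIndConstructible_locusMor_of_isAffine (hP : ConsProp.IsIndConsMor P)
    {X Y S : Scheme.{u}} [IsAffine S] (f : X ⟶ Y) (g : Y ⟶ S)
    [LocallyOfFinitePresentation g] [QuasiCompact g] [QuasiSeparated g]
    [LocallyOfFinitePresentation (f ≫ g)] [QuasiCompact (f ≫ g)] [QuasiSeparated (f ≫ g)] :
    ProCons.IsIndConstructible (ConsProp.locusMor P f g) := by
  obtain ⟨S₀, X₀, Y₀, hN, f₀, g₀, h, qX, qY, h1, h2, h3, h4, h5, h6⟩ :=
    exists_noetherian_model_of_isAffine f g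
  haveI := hN
  haveI := h1
  haveI := h2
  haveI := h3
  haveI := h4
  have e : ConsProp.locusMor P f g = h.base ⁻¹' ConsProp.locusMor P f₀ g₀ := by
    ext s
    exact locusMor_baseChange hP.1 f₀ g₀ f g qX qY h h5 h6 s
  rw [e]
  exact Groth.Agent.Lib.ProConsSchH8.isIndConstructible_preimage h _
    (isIndConstructible_locusMor hP f₀ g₀)

end Affine

section General

/-- restriction of the locus to an open subscheme -/
theorem locusMor_restrict (hP : ConsProp.IsFieldStableMor P) {X Y S : Scheme.{u}} (f : X ⟶ Y)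
    (g : Y ⟶ S) [LocallyOfFiniteType g] [QuasiCompact g]
    [LocallyOfFiniteType (f ≫ g)] [QuasiCompact (f ≫ g)] (U : S.Opens) :
    ((U : Set S) ↓∩ ConsProp.locusMor P f g) =
      ConsProp.locusMor P (pullback.snd f (pullback.fst g U.ι)) (pullback.snd g U.ι) := by
  have hY := IsPullback.of_hasPullback g U.ι
  have hX := IsPullback.of_hasPullback f (pullback.fst g U.ι)
  ext t
  exact (locusMor_baseChange hP f g _ _ _ _ U.ι hY hX t).symm

theorem isConstructible_locusMor_restrict (hP : ConsProp.IsConsMor P) {X Y S : Scheme.{u}}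
    (f : X ⟶ Y) (g : Y ⟶ S)
    [LocallyOfFinitePresentation g] [QuasiCompact g] [QuasiSeparated g]
    [LocallyOfFinitePresentation (f ≫ g)] [QuasiCompact (f ≫ g)] [QuasiSeparated (f ≫ g)]
    (U : S.Opens) (hU : IsAffineOpen U) :
    IsConstructible ((U : Set S) ↓∩ ConsProp.locusMor P f g) := by
  haveI : IsAffine (U : Scheme.{u}) := hU
  have hY := IsPullback.of_hasPullback g U.ι
  have hX := IsPullback.of_hasPullback f (pullback.fst g U.ι)
  haveI : LocallyOfFinitePresentation (pullback.snd f (pullback.fst g U.ι) ≫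
      pullback.snd g U.ι) :=
    MorphismProperty.of_isPullback (P := @LocallyOfFinitePresentation) (hX.paste_vert hY)
      inferInstance
  haveI : QuasiCompact (pullback.snd f (pullback.fst g U.ι) ≫ pullback.snd g U.ι) :=
    MorphismProperty.of_isPullback (P := @QuasiCompact) (hX.paste_vert hY) inferInstance
  haveI : QuasiSeparated (pullback.snd f (pullback.fst g U.ι) ≫ pullback.snd g U.ι) :=
    MorphismProperty.of_isPullback (P := @QuasiSeparated) (hX.paste_vert hY) inferInstance
  rw [locusMor_restrict hP.1 f g U]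
  exact isConstructible_locusMor_of_isAffine hP _ _

theorem exists_sUnion_locusMor_restrict (hP : ConsProp.IsIndConsMor P) {X Y S : Scheme.{u}}
    (f : X ⟶ Y) (g : Y ⟶ S)
    [LocallyOfFinitePresentation g] [QuasiCompact g] [QuasiSeparated g]
    [LocallyOfFinitePresentation (f ≫ g)] [QuasiCompact (f ≫ g)] [QuasiSeparated (f ≫ g)]
    (U : S.Opens) (hU : IsAffineOpen U) :
    ∃ 𝒮 : Set (Set ↥(U : Set S)), (∀ T ∈ 𝒮, IsLocallyConstructible T) ∧
      ((U : Set S) ↓∩ ConsProp.locusMor P f g) = ⋃₀ 𝒮 := by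
  haveI : IsAffine (U : Scheme.{u}) := hU
  have hY := IsPullback.of_hasPullback g U.ι
  have hX := IsPullback.of_hasPullback f (pullback.fst g U.ι)
  haveI : LocallyOfFinitePresentation (pullback.snd f (pullback.fst g U.ι) ≫
      pullback.snd g U.ι) :=
    MorphismProperty.of_isPullback (P := @LocallyOfFinitePresentation) (hX.paste_vert hY)
      inferInstance
  haveI : QuasiCompact (pullback.snd f (pullback.fst g U.ι) ≫ pullback.snd g U.ι) :=
    MorphismProperty.of_isPullback (P := @QuasiCompact) (hX.paste_vert hY) inferInstance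
  haveI : QuasiSeparated (pullback.snd f (pullback.fst g U.ι) ≫ pullback.snd g U.ι) :=
    MorphismProperty.of_isPullback (P := @QuasiSeparated) (hX.paste_vert hY) inferInstance
  have hind := isIndConstructible_locusMor_of_isAffine hP
    (pullback.snd f (pullback.fst g U.ι)) (pullback.snd g U.ι)
  have hpro := Groth.Agent.Lib.ProConsCptH8.isProConstructible_compl hind
  haveI k1 : CompactSpace (U : Scheme.{u}) := inferInstance
  haveI k2 : PrespectralSpace (U : Scheme.{u}) := inferInstance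
  haveI k3 : QuasiSeparatedSpace (U : Scheme.{u}) := inferInstance
  obtain ⟨𝒮, h𝒮, hE⟩ := Groth.Agent.Lib.ProConsAffH8.exists_sInter_of_pro
    (Y := (U : Scheme.{u})) hpro
  refine ⟨compl '' 𝒮, ?_, ?_⟩
  · rintro _ ⟨T, hT, rfl⟩
    exact (h𝒮 T hT).compl.isLocallyConstructible
  · have e := locusMor_restrict hP.1 f g U
    have e2 : ConsProp.locusMor P (pullback.snd f (pullback.fst g U.ι)) (pullback.snd g U.ι) =
        ⋃₀ (compl '' 𝒮) := by
      rw [← Set.compl_sInter, ← hE, compl_compl]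
    exact e.trans e2

theorem main5880 (hP : ConsProp.IsConsMor P) {X Y S : Scheme.{u}} (f : X ⟶ Y) (g : Y ⟶ S)
    [LocallyOfFinitePresentation g] [QuasiCompact g] [QuasiSeparated g]
    [LocallyOfFinitePresentation (f ≫ g)] [QuasiCompact (f ≫ g)] [QuasiSeparated (f ≫ g)] :
    IsLocallyConstructible (ConsProp.locusMor P f g) := by
  intro x
  obtain ⟨_, ⟨U, hU, rfl⟩, hxU, -⟩ :=
    S.isBasis_affineOpens.exists_subset_of_mem_open (Set.mem_univ x) isOpen_univ
  exact ⟨U, U.2.mem_nhds hxU, U.2, isConstructible_locusMor_restrict hP f g U hU⟩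

theorem main5881 (hP : ConsProp.IsIndConsMor P) {X Y S : Scheme.{u}} (f : X ⟶ Y) (g : Y ⟶ S)
    [LocallyOfFinitePresentation g] [QuasiCompact g] [QuasiSeparated g]
    [LocallyOfFinitePresentation (f ≫ g)] [QuasiCompact (f ≫ g)] [QuasiSeparated (f ≫ g)] :
    ProCons.IsIndConstructible (ConsProp.locusMor P f g) := by
  intro x
  obtain ⟨_, ⟨U, hU, rfl⟩, hxU, -⟩ :=
    S.isBasis_affineOpens.exists_subset_of_mem_open (Set.mem_univ x) isOpen_univ
  obtain ⟨𝒮, h1, h2⟩ := exists_sUnion_locusMor_restrict hP f g U hU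
  exact ⟨U, U.2, hxU, 𝒮, h1, h2⟩

end General

end Groth.Agent.Lib.ConsPropH7
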