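import Mathlib
import Groth.Prelude
import Groth.Agent.Lib.LimDescend_helper7

set_option autoImplicit false
set_option backward.isDefEq.respectTransparency false
universe u v
open CategoryTheory CategoryTheory.Limits AlgebraicGeometry

namespace Groth.Agent.Lib.LimLQFH7

open Groth.Agent.Lib.LimBaseChangeH7 Groth.Agent.Lib.LimIsoH7

/-- Factoring the top map of a pullback square through a monomorphism into the corner. -/
lemma isPullback_of_mono_comp {C : Type u} [Category.{v} C] {X Y X₀ Y₀ U : C} {qX : X ⟶ X₀}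
    {f : X ⟶ Y} {f₀ : X₀ ⟶ Y₀} {qY : Y ⟶ Y₀} (sq : IsPullback qX f f₀ qY) (i : U ⟶ X₀) [Mono i]
    (q' : X ⟶ U) (h : q' ≫ i = qX) : IsPullback q' f (i ≫ f₀) qY := by
  refine ⟨⟨by rw [← Category.assoc, h, sq.w]⟩, ⟨PullbackCone.IsLimit.mk _
    (fun s => sq.lift (s.fst ≫ i) s.snd (by simpa using s.condition)) (fun s => ?_)
    (fun s => sq.lift_snd _ _ _) (fun s m h1 h2 => ?_)⟩⟩
  · rw [← cancel_mono i, Category.assoc, h, sq.lift_fst]
  · apply sq.hom_ext
    · rw [sq.lift_fst, ← h, ← Category.assoc, h1]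
    · rw [sq.lift_snd, h2]

/-- Topological characterization of quasi-finiteness at a point. -/
lemma quasiFiniteAt_iff_isOpen_singleton {X Y : Scheme.{u}} {f : X ⟶ Y} [LocallyOfFiniteType f]
    {x : X} {y : Y} (hy : f x = y) :
    f.QuasiFiniteAt x ↔ IsOpen ({⟨x, hy⟩} : Set (f ⁻¹' {y})) := by
  subst hy
  rw [Scheme.Hom.quasiFiniteAt_iff_isOpen_singleton_asFiber, ← (f.fiberHomeo (f x)).isOpen_image]
  simp only [Set.image_singleton, Scheme.Hom.asFiber, Homeomorph.apply_symm_apply]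

/-- Quasi-finiteness at a point descends along arbitrary base change. -/
lemma quasiFiniteAt_of_isPullback {X Y X₀ Y₀ : Scheme.{u}} {qX : X ⟶ X₀} {f : X ⟶ Y}
    {f₀ : X₀ ⟶ Y₀} {qY : Y ⟶ Y₀} (sq : IsPullback qX f f₀ qY) [LocallyOfFiniteType f₀] (x : X)
    (hx : f.QuasiFiniteAt x) : f₀.QuasiFiniteAt (qX x) := by
  haveI : LocallyOfFiniteType f :=
    MorphismProperty.of_isPullback (P := @LocallyOfFiniteType) sq inferInstance
  obtain ⟨m, hm, hmι⟩ : ∃ m : f.fiber (f x) ⟶ f₀.fiber (qY (f x)),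
      IsPullback m (f.fiberToSpecResidueField (f x)) (f₀.fiberToSpecResidueField (qY (f x)))
        (Spec.map (qY.residueFieldMap (f x))) ∧
      m ≫ f₀.fiberι (qY (f x)) = f.fiberι (f x) ≫ qX :=
    ⟨_, isPullback_fiberToSpecResidueField_of_isPullback sq (f x), by
      simp [Scheme.Hom.fiberι, Scheme.Hom.fiber]⟩
  have huo : UniversallyOpen (Spec.map (qY.residueFieldMap (f x))) := inferInstance
  have hmo : UniversallyOpen m :=
    MorphismProperty.of_isPullback (P := @UniversallyOpen) hm.flip huo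
  have hopen : IsOpen {f.asFiber x} :=
    Scheme.Hom.quasiFiniteAt_iff_isOpen_singleton_asFiber.mp hx
  have h2 : IsOpen (m '' {f.asFiber x}) := m.isOpenMap _ hopen
  rw [Set.image_singleton] at h2
  have hfib : f₀ (qX x) = qY (f x) := by
    rw [← Scheme.Hom.comp_apply, sq.w, Scheme.Hom.comp_apply]
  rw [quasiFiniteAt_iff_isOpen_singleton hfib]
  have h3 := (f₀.fiberHomeo (qY (f x))).isOpen_image.mpr h2
  rw [Set.image_singleton] at h3
  convert h3 using 2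
  apply Subtype.ext
  show qX x = f₀.fiberι (qY (f x)) (m (f.asFiber x))
  rw [← Scheme.Hom.comp_apply, hmι, Scheme.Hom.comp_apply, Scheme.Hom.fiberι_asFiber]

/-- If every point of `X` maps into the quasi-finite locus of `f₀`, then the base change `f` is
locally quasi-finite. -/
lemma locallyQuasiFinite_of_forall {X Y X₀ Y₀ : Scheme.{u}} {qX : X ⟶ X₀} {f : X ⟶ Y}
    {f₀ : X₀ ⟶ Y₀} {qY : Y ⟶ Y₀} (sq : IsPullback qX f f₀ qY) [LocallyOfFiniteType f₀]
    (hU : ∀ x : X, f₀.QuasiFiniteAt (qX x)) : LocallyQuasiFinite f := by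
  let U₀ := f₀.quasiFiniteLocus
  have hr : Set.range qX ⊆ Set.range U₀.ι := by
    rw [Scheme.Opens.range_ι]
    rintro _ ⟨x, rfl⟩
    exact hU x
  let q' : X ⟶ U₀ := IsOpenImmersion.lift U₀.ι qX hr
  have hq' : q' ≫ U₀.ι = qX := IsOpenImmersion.lift_fac _ _ _
  have sq' := isPullback_of_mono_comp sq U₀.ι q' hq'
  exact MorphismProperty.of_isPullback (P := @LocallyQuasiFinite) sq' inferInstance

lemma preimage_preimage_eq {A B C : Scheme.{u}} (g : A ⟶ B) (h : B ⟶ C) (k : A ⟶ C)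
    (hk : g ≫ h = k) (L : C.Opens) : g ⁻¹ᵁ (h ⁻¹ᵁ L) = k ⁻¹ᵁ L := by
  subst hk; rfl

lemma locallyQuasiFinite_of_preimage_eq_top {X Y X₀ Y₀ : Scheme.{u}} {qX : X ⟶ X₀} {f : X ⟶ Y}
    {f₀ : X₀ ⟶ Y₀} {qY : Y ⟶ Y₀} (sq : IsPullback qX f f₀ qY) [LocallyOfFiniteType f₀]
    (hU : qX ⁻¹ᵁ f₀.quasiFiniteLocus = ⊤) : LocallyQuasiFinite f :=
  locallyQuasiFinite_of_forall sq fun x => hU.ge (Set.mem_univ x)

lemma preimage_quasiFiniteLocus_eq_top {X Y X₀ Y₀ : Scheme.{u}} {qX : X ⟶ X₀} {f : X ⟶ Y}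
    {f₀ : X₀ ⟶ Y₀} {qY : Y ⟶ Y₀} (sq : IsPullback qX f f₀ qY) [LocallyOfFiniteType f₀]
    [LocallyQuasiFinite f] : qX ⁻¹ᵁ f₀.quasiFiniteLocus = ⊤ := by
  rw [eq_top_iff]
  intro x _
  exact quasiFiniteAt_of_isPullback sq x (f.quasiFiniteAt x)

/-- Local quasi-finiteness spreads in from the limit to a stage (compact source, any stage). -/
theorem stage_locallyQuasiFinite {J : Type u} [SmallCategory J] [IsCofiltered J]
    (E : J ⥤ Scheme.{u}) (cE : Cone E) (hcE : IsLimit cE)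
    [∀ (i j : J) (f : i ⟶ j), IsAffineHom (E.map f)] (j₀ : J) {X₀ : Scheme.{u}}
    (f₀ : X₀ ⟶ E.obj j₀) [LocallyOfFiniteType f₀] [CompactSpace X₀]
    (hP : LocallyQuasiFinite (pullback.snd f₀ (cE.π.app j₀))) :
    ∃ (j : J) (φ : j ⟶ j₀), LocallyQuasiFinite (pullback.snd f₀ (E.map φ)) := by
  have hXpb := IsPullback.of_hasPullback f₀ (cE.π.app j₀)
  let i : Over j₀ := Over.mk (𝟙 j₀)
  let U : ((bcDiagram E j₀ f₀).obj i).Opens :=
    (pullback.fst f₀ (E.map i.hom)) ⁻¹ᵁ f₀.quasiFiniteLocus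
  have hL : (pullback.fst f₀ (cE.π.app j₀)) ⁻¹ᵁ f₀.quasiFiniteLocus = ⊤ :=
    preimage_quasiFiniteLocus_eq_top hXpb
  have hU : (bcCone cE hXpb).π.app i ⁻¹ᵁ U = ⊤ :=
    (preimage_preimage_eq _ _ _ (bcCone_π_fst cE hXpb i) _).trans hL
  obtain ⟨k, fki, hk⟩ := exists_map_eq_top (bcDiagram E j₀ f₀) (bcCone cE hXpb)
    (isLimitBcCone cE hXpb hcE) U hU
  refine ⟨k.left, k.hom, ?_⟩
  refine locallyQuasiFinite_of_preimage_eq_top (IsPullback.of_hasPullback f₀ (E.map k.hom)) ?_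
  exact (preimage_preimage_eq _ _ _ (bcDiagram_map_fst E j₀ f₀ fki) _).symm.trans hk

theorem affineStage_locallyQuasiFinite :
    AffineStage @LocallyQuasiFinite (fun f => LocallyOfFiniteType f ∧ QuasiCompact f) := by
  intro J _ _ E cE hcE _ j₀ _ X₀ f₀ hf₀ hP
  obtain ⟨h1, h2⟩ := hf₀
  haveI : CompactSpace X₀ := QuasiCompact.compactSpace_of_compactSpace f₀
  exact stage_locallyQuasiFinite E cE hcE j₀ f₀ hP

theorem hH_lft_qc {X Y Z : Scheme.{u}} (f : X ⟶ Z) (g : Y ⟶ Z)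
    (h : LocallyOfFiniteType f ∧ QuasiCompact f) :
    LocallyOfFiniteType (pullback.snd f g) ∧ QuasiCompact (pullback.snd f g) := by
  obtain ⟨h1, h2⟩ := h
  exact ⟨inferInstance, inferInstance⟩

end Groth.Agent.Lib.LimLQFH7
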