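import Mathlib
import Groth.Prelude.Def_ProCons
import Groth.Agent.Lib.ProConsImg_helper8
import Groth.Agent.Lib.ProConsSch_helper8

namespace Groth.Agent.Lib.ProConsGenH8

open Topology TopologicalSpace Set CategoryTheory AlgebraicGeometry Set.Notation
open Groth.Agent.Lib.ProConsTopH8 Groth.Agent.Lib.ProConsLocH8 Groth.Agent.Lib.ProConsCptH8
  Groth.Agent.Lib.ProConsImgH8

universe u

/-- The closure of a pro-constructible subset of a scheme consists of the specializations of its
points. -/
theorem exists_specializes_of_mem_closure (X : Scheme.{u}) {E : Set X}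
    (hE : ProCons.IsProConstructible E) {y : X} (hy : y ∈ closure E) : ∃ z ∈ E, z ⤳ y := by
  by_contra hcon
  push Not at hcon
  obtain ⟨W, hW, hyW, -, i1, i2, i3, i4⟩ := exists_spectral_open X y univ isOpen_univ (mem_univ y)
  have hcl := isClosed_restrict_of_pro hE hW
  obtain ⟨S, hS, hES⟩ := exists_sUnion_of_isOpen
    ((@isOpen_compl_iff W _ (constructibleTopology W)).2 hcl)
  have hn : (W ↓∩ E)ᶜ ∈ 𝓝 (⟨y, hyW⟩ : W) := by
    refine mem_nhds_of_sUnion_of_generizations S hS hES ⟨y, hyW⟩ (fun x' hx' hx'E => ?_)
    exact hcon x'.1 hx'E (hx'.map continuous_subtype_val)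
  have h2 := hW.isOpenEmbedding_subtypeVal.image_mem_nhds.2 hn
  rw [mem_closure_iff_nhds] at hy
  obtain ⟨_, ⟨z, hz, rfl⟩, hzE⟩ := hy _ h2
  exact hz hzE

/-- Preimages of dense pro-constructible sets under flat morphisms are dense. -/
theorem dense_preimage_of_flat {X' X : Scheme.{u}} (f : X' ⟶ X) [Flat f] (Z : Set X)
    (hZ : ProCons.IsProConstructible Z) (hd : Dense Z) : Dense (f.base ⁻¹' Z) := by
  intro x'
  obtain ⟨z, hzZ, hz⟩ := exists_specializes_of_mem_closure X hZ (hd (f.base x'))
  obtain ⟨z', hz', rfl⟩ := Flat.generalizingMap (f := f) hz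
  exact closure_mono (singleton_subset_iff.2 (show z' ∈ f.base ⁻¹' Z from hzZ))
    (specializes_iff_mem_closure.1 hz')

/-- In a T0 spectral space points are closed for the constructible topology. -/
theorem isClosed_singleton_constructibleTopology {B : Type*} [TopologicalSpace B] [T0Space B]
    [PrespectralSpace B] [CompactSpace B] [QuasiSeparatedSpace B] (y : B) :
    IsClosed[constructibleTopology B] ({y} : Set B) := by
  have h : ({y} : Set B) = ⋂₀ {D | IsConstructible D ∧ y ∈ D} := by
    apply subset_antisymm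
    · rintro _ rfl D ⟨_, hD⟩
      exact hD
    · intro z hz
      by_contra hne
      obtain ⟨D, hD, hyD, hzD⟩ := exists_isConstructible_mem_notMem (show z ≠ y from hne)
      exact hzD (hz D ⟨hD, hyD⟩)
  rw [h]
  exact @isClosed_sInter B (constructibleTopology B) _
    (fun D hD => (isClopen_constructibleTopology hD.1).2)

/-- A point of a scheme is pro-constructible. -/
theorem isProConstructible_singleton (X : Scheme.{u}) (y : X) :
    ProCons.IsProConstructible ({y} : Set X) := by
  intro x
  obtain ⟨_, ⟨W, hW, rfl⟩, hxW, -⟩ :=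
    X.isBasis_affineOpens.exists_subset_of_mem_open (mem_univ x) isOpen_univ
  haveI : IsAffine (W : Scheme.{u}) := hW
  have k1 : CompactSpace ↥(W : Set X) := inferInstanceAs (CompactSpace (W : Scheme.{u}))
  have k3 : PrespectralSpace ↥(W : Set X) := inferInstanceAs (PrespectralSpace (W : Scheme.{u}))
  have k4 : QuasiSeparatedSpace ↥(W : Set X) :=
    inferInstanceAs (QuasiSeparatedSpace (W : Scheme.{u}))
  have k5 : T0Space ↥(W : Set X) := inferInstanceAs (T0Space (W : Scheme.{u}))
  have hcl : IsClosed[constructibleTopology ↥(W : Set X)] ((W : Set X) ↓∩ ({y} : Set X)) := by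
    by_cases hy : y ∈ (W : Set X)
    · have : ((W : Set X) ↓∩ ({y} : Set X)) = {(⟨y, hy⟩ : ↥(W : Set X))} := by
        ext z
        simp only [mem_preimage, mem_singleton_iff]
        exact ⟨fun h => Subtype.ext h, fun h => congrArg Subtype.val h⟩
      rw [this]
      exact @isClosed_singleton_constructibleTopology _ _ k5 k3 k1 k4 _
    · have : ((W : Set X) ↓∩ ({y} : Set X)) = ∅ := by
        ext z
        simp only [mem_preimage, mem_singleton_iff, mem_empty_iff_false, iff_false]
        rintro rfl
        exact hy z.2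
      rw [this]
      exact @isClosed_empty _ (constructibleTopology ↥(W : Set X))
  obtain ⟨S, hS, hES⟩ := @exists_sInter_of_isClosed _ _ k4 _ hcl
  exact ⟨W, W.2, hxW, S, fun T hT => (hS T hT).isLocallyConstructible, hES⟩

/-- A morphism lifts pairs `y' ⤳ y` iff it is closure-surjective on pro-constructible sets. -/
theorem ssubtrusive_iff {X Y : Scheme.{u}} (f : X ⟶ Y) :
    (∀ ⦃y y' : Y⦄, y' ⤳ y → ∃ x x' : X, x' ⤳ x ∧ f.base x = y ∧ f.base x' = y') ↔
      ∀ Z : Set Y, ProCons.IsProConstructible Z →
        f.base '' closure (f.base ⁻¹' Z) = closure Z := by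
  constructor
  · intro h Z hZ
    apply subset_antisymm
    · refine (image_closure_subset_closure_image f.continuous).trans (closure_mono ?_)
      exact image_preimage_subset _ _
    · intro y hy
      obtain ⟨z, hzZ, hz⟩ := exists_specializes_of_mem_closure Y hZ hy
      obtain ⟨x, x', hx, rfl, rfl⟩ := h hz
      exact ⟨x, closure_mono (singleton_subset_iff.2 (show x' ∈ f.base ⁻¹' Z from hzZ))
        (specializes_iff_mem_closure.1 hx), rfl⟩
  · intro h y y' hy
    have hZ := isProConstructible_singleton Y y'
    have h1 : y ∈ f.base '' closure (f.base ⁻¹' {y'}) := by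
      rw [h _ hZ]
      exact specializes_iff_mem_closure.1 hy
    obtain ⟨x, hx, rfl⟩ := h1
    obtain ⟨x', hx', hxx'⟩ := exists_specializes_of_mem_closure X
      (Groth.Agent.Lib.ProConsSchH8.isProConstructible_preimage f _ hZ) hx
    exact ⟨x, x', hxx', rfl, hx'⟩

end Groth.Agent.Lib.ProConsGenH8
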