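import Mathlib
import Groth.Prelude
import Groth.Agent.Lib.ProConsGen_helper8
import Groth.Agent.Lib.ProConsAff_helper8
import Groth.Agent.Lib.LimConstr_helper9
import Groth.Agent.Lib.LimLQF_helper7
import Groth.Agent.Lib.LimFlat_helper9

/-!
# Dominance and cofiltered limits with flat affine transition maps (helper7)
-/

set_option autoImplicit false
set_option linter.style.haveILetI false
universe u
open CategoryTheory CategoryTheory.Limits AlgebraicGeometry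

namespace Groth.Agent.Lib.LimDomH7

open Groth.Agent.Lib.LimBaseChangeH7 Groth.Agent.Lib.LimLQFH7

/-- For a flat morphism, the preimage of the closure of a pro-constructible set is contained in
the closure of the preimage. -/
theorem preimage_closure_subset_of_flat {X' X : Scheme.{u}} (f : X' ⟶ X) [Flat f] (Z : Set X)
    (hZ : ProCons.IsProConstructible Z) : f.base ⁻¹' (closure Z) ⊆ closure (f.base ⁻¹' Z) := by
  intro x' hx'
  obtain ⟨z, hzZ, hz⟩ := Groth.Agent.Lib.ProConsGenH8.exists_specializes_of_mem_closure X hZ hx'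
  obtain ⟨z', hz', rfl⟩ := Flat.generalizingMap (f := f) hz
  exact closure_mono (Set.singleton_subset_iff.2 (show z' ∈ f.base ⁻¹' Z from hzZ))
    (specializes_iff_mem_closure.1 hz')

theorem isProConstructible_range {X Y : Scheme.{u}} (f : X ⟶ Y) [QuasiCompact f] :
    ProCons.IsProConstructible (Set.range f.base) := by
  rw [← Set.image_univ]
  exact Groth.Agent.Lib.ProConsImgH8.isProConstructible_image f Set.univ
    Groth.Agent.Lib.ProConsAffH8.isProConstructible_univ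

theorem range_snd_of_isPullback {P X Y Z : Scheme.{u}} {fst : P ⟶ X} {snd : P ⟶ Y} {f : X ⟶ Z}
    {g : Y ⟶ Z} (sq : IsPullback fst snd f g) :
    Set.range snd.base = g.base ⁻¹' Set.range f.base := by
  have h2 : Set.range (pullback.snd f g).base = g.base ⁻¹' Set.range f.base :=
    Scheme.Pullback.range_snd f g
  rw [← h2]
  ext y
  constructor
  · rintro ⟨a, rfl⟩
    refine ⟨sq.isoPullback.hom a, ?_⟩
    rw [← Scheme.Hom.comp_apply, sq.isoPullback_hom_snd]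
  · rintro ⟨b, rfl⟩
    refine ⟨sq.isoPullback.inv b, ?_⟩
    rw [← Scheme.Hom.comp_apply, sq.isoPullback_inv_snd]

/-- A flat base change of a quasi-compact dominant morphism is dominant. -/
theorem isDominant_of_isPullback_flat {X' Y' X Y : Scheme.{u}} {s : X' ⟶ X} {f' : X' ⟶ Y'}
    {f : X ⟶ Y} {r : Y' ⟶ Y} (sq : IsPullback s f' f r) [Flat r] [QuasiCompact f]
    [IsDominant f] : IsDominant f' := by
  refine ⟨fun y => ?_⟩
  have h1 : r.base y ∈ closure (Set.range f.base) := (IsDominant.denseRange (f := f)) (r.base y)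
  have h2 := preimage_closure_subset_of_flat r (Set.range f.base) (isProConstructible_range f) h1
  rw [← range_snd_of_isPullback sq] at h2
  exact h2

variable {I : Type u} [SmallCategory I] [IsCofiltered I]
  (D : I ⥤ Scheme.{u}) (c : Limits.Cone D) (hc : Limits.IsLimit c)
  [∀ (i j : I) (f : i ⟶ j), IsAffineHom (D.map f)]

include hc in
set_option backward.isDefEq.respectTransparency false in
theorem forward (i₀ : I) [CompactSpace (D.obj i₀)]
    (hfl : ∀ (i j : I) (φ : i ⟶ j), Flat (D.map φ))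
    {X₀ Y₀ : Scheme.{u}} (f₀ : X₀ ⟶ Y₀) (g₀ : Y₀ ⟶ D.obj i₀)
    [QuasiCompact (f₀ ≫ g₀)] [QuasiCompact g₀] [QuasiSeparated g₀]
    (hcl : Topology.IsConstructible (closure (Set.range ⇑f₀)))
    {X Y : Scheme.{u}} (f : X ⟶ Y) (g : Y ⟶ c.pt) (qY : Y ⟶ Y₀) (qX : X ⟶ X₀)
    (hY : IsPullback qY g g₀ (c.π.app i₀)) (hX : IsPullback qX f f₀ qY) (hdom : IsDominant f) :
    ∃ (j : I) (φ : j ⟶ i₀) (Xj Yj : Scheme.{u}) (fj : Xj ⟶ Yj) (gj : Yj ⟶ D.obj j)
      (pY : Yj ⟶ Y₀) (pX : Xj ⟶ X₀), IsPullback pY gj g₀ (D.map φ) ∧ IsPullback pX fj f₀ pY ∧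
      IsDominant fj := by
  haveI : QuasiCompact f₀ := QuasiCompact.of_comp f₀ g₀
  haveI : CompactSpace Y₀ := QuasiCompact.compactSpace_of_compactSpace g₀
  let O₀ : Y₀.Opens := ⟨(closure (Set.range ⇑f₀))ᶜ, isClosed_closure.isOpen_compl⟩
  have hO₀c : IsCompact (O₀ : Set Y₀) :=
    Groth.Agent.Lib.LimConstr.isCompact_of_isConstructible hcl.compl
  -- the preimage of `O₀` in the limit is empty
  have hL : qY ⁻¹ᵁ O₀ = ⊥ := by
    rw [eq_bot_iff]
    intro y hy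
    have hsub : Set.range ⇑f ⊆ ⇑qY ⁻¹' (closure (Set.range ⇑f₀)) := by
      rintro _ ⟨x, rfl⟩
      have : qY (f x) = f₀ (qX x) := by
        rw [← Scheme.Hom.comp_apply, ← Scheme.Hom.comp_apply, hX.w]
      show qY (f x) ∈ closure (Set.range ⇑f₀)
      rw [this]
      exact subset_closure ⟨qX x, rfl⟩
    have hcl' : IsClosed (⇑qY ⁻¹' (closure (Set.range ⇑f₀))) :=
      isClosed_closure.preimage qY.continuous
    have hy' : y ∈ ⇑qY ⁻¹' (closure (Set.range ⇑f₀)) :=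
      closure_minimal hsub hcl' ((IsDominant.denseRange (f := f)) y)
    exact (hy hy').elim
  let i : Over i₀ := Over.mk (𝟙 i₀)
  let U : ((bcDiagram D i₀ g₀).obj i).Opens := (pullback.fst g₀ (D.map i.hom)) ⁻¹ᵁ O₀
  have hUc : IsCompact (U : Set ((bcDiagram D i₀ g₀).obj i)) :=
    QuasiCompact.isCompact_preimage (f := pullback.fst g₀ (D.map i.hom)) _ O₀.2 hO₀c
  have hU : (bcCone c hY).π.app i ⁻¹ᵁ U ≤ (bcCone c hY).π.app i ⁻¹ᵁ ⊥ := by
    rw [(preimage_preimage_eq _ _ _ (bcCone_π_fst c hY i) _).trans hL]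
    exact bot_le
  obtain ⟨k, fki, hk⟩ := exists_map_preimage_le_map_preimage (bcDiagram D i₀ g₀) (bcCone c hY)
    (isLimitBcCone c hY hc) hUc hU
  have hk' : ∀ y : ↥(pullback g₀ (D.map k.hom)),
      pullback.fst g₀ (D.map k.hom) y ∈ closure (Set.range ⇑f₀) := by
    intro y
    by_contra hy
    have hy1 : y ∈ (pullback.fst g₀ (D.map k.hom)) ⁻¹ᵁ O₀ := hy
    have hy2 : y ∈ (bcDiagram D i₀ g₀).map fki ⁻¹ᵁ U := by
      rw [preimage_preimage_eq _ _ _ (bcDiagram_map_fst D i₀ g₀ fki) _]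
      exact hy1
    exact (Set.notMem_empty _ (hk hy2)).elim
  haveI : Flat (D.map k.hom) := hfl _ _ k.hom
  haveI : Flat (pullback.fst g₀ (D.map k.hom)) := inferInstance
  refine ⟨k.left, k.hom, pullback f₀ (pullback.fst g₀ (D.map k.hom)), pullback g₀ (D.map k.hom),
    pullback.snd f₀ (pullback.fst g₀ (D.map k.hom)), pullback.snd g₀ (D.map k.hom),
    pullback.fst g₀ (D.map k.hom), pullback.fst f₀ (pullback.fst g₀ (D.map k.hom)),
    IsPullback.of_hasPullback _ _, IsPullback.of_hasPullback _ _, ⟨fun y => ?_⟩⟩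
  have h2 := preimage_closure_subset_of_flat (pullback.fst g₀ (D.map k.hom)) (Set.range f₀.base)
    (isProConstructible_range f₀) (hk' y)
  rw [← range_snd_of_isPullback (IsPullback.of_hasPullback f₀ (pullback.fst g₀ (D.map k.hom)))]
    at h2
  exact h2

include hc in
theorem backward (i₀ : I)
    (hfl : ∀ (i j : I) (φ : i ⟶ j), Flat (D.map φ))
    {X₀ Y₀ : Scheme.{u}} (f₀ : X₀ ⟶ Y₀) (g₀ : Y₀ ⟶ D.obj i₀)
    [QuasiCompact (f₀ ≫ g₀)] [QuasiSeparated g₀]
    {X Y : Scheme.{u}} (f : X ⟶ Y) (g : Y ⟶ c.pt) (qY : Y ⟶ Y₀) (qX : X ⟶ X₀)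
    (hY : IsPullback qY g g₀ (c.π.app i₀)) (hX : IsPullback qX f f₀ qY)
    (j : I) (φ : j ⟶ i₀) (Xj Yj : Scheme.{u}) (fj : Xj ⟶ Yj) (gj : Yj ⟶ D.obj j)
    (pY : Yj ⟶ Y₀) (pX : Xj ⟶ X₀) (h1 : IsPullback pY gj g₀ (D.map φ))
    (h2 : IsPullback pX fj f₀ pY) (hdom : IsDominant fj) : IsDominant f := by
  haveI : QuasiCompact f₀ := QuasiCompact.of_comp f₀ g₀
  haveI : QuasiCompact fj := MorphismProperty.of_isPullback (P := @QuasiCompact) h2 inferInstance
  have hw : qY ≫ g₀ = (g ≫ c.π.app j) ≫ D.map φ := by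
    rw [Category.assoc, c.w φ]; exact hY.w
  obtain ⟨r, hr1, hr⟩ : ∃ r : Y ⟶ Yj, r ≫ pY = qY ∧ IsPullback r g gj (c.π.app j) := by
    refine ⟨h1.lift qY (g ≫ c.π.app j) hw, h1.lift_fst _ _ _, ?_⟩
    refine IsPullback.of_right ?_ (h1.lift_snd _ _ _) h1
    rw [h1.lift_fst, c.w φ]; exact hY
  haveI : Flat (c.π.app j) := Groth.Agent.Lib.LimFlat.flat_π D c hc j (fun j' φ' => hfl _ _ φ')
  haveI : Flat r := MorphismProperty.of_isPullback (P := @Flat) hr.flip inferInstance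
  have hw2 : qX ≫ f₀ = (f ≫ r) ≫ pY := by
    rw [Category.assoc, hr1]; exact hX.w
  obtain ⟨s, hs⟩ : ∃ s : X ⟶ Xj, IsPullback s f fj r := by
    refine ⟨h2.lift qX (f ≫ r) hw2, ?_⟩
    refine IsPullback.of_right ?_ (h2.lift_snd _ _ _) h2
    rw [h2.lift_fst, hr1]; exact hX
  exact isDominant_of_isPullback_flat hs

include hc in
theorem main4800 (i₀ : I) [CompactSpace (D.obj i₀)]
    (hfl : ∀ (i j : I) (φ : i ⟶ j), Flat (D.map φ))
    {X₀ Y₀ : Scheme.{u}} (f₀ : X₀ ⟶ Y₀) (g₀ : Y₀ ⟶ D.obj i₀)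
    [QuasiCompact (f₀ ≫ g₀)] [QuasiCompact g₀] [QuasiSeparated g₀]
    (hcl : Topology.IsConstructible (closure (Set.range ⇑f₀)))
    {X Y : Scheme.{u}} (f : X ⟶ Y) (g : Y ⟶ c.pt) (qY : Y ⟶ Y₀) (qX : X ⟶ X₀)
    (hY : IsPullback qY g g₀ (c.π.app i₀)) (hX : IsPullback qX f f₀ qY) :
    IsDominant f ↔ ∃ (j : I) (φ : j ⟶ i₀) (Xj Yj : Scheme.{u}) (fj : Xj ⟶ Yj) (gj : Yj ⟶ D.obj j)
      (pY : Yj ⟶ Y₀) (pX : Xj ⟶ X₀), IsPullback pY gj g₀ (D.map φ) ∧ IsPullback pX fj f₀ pY ∧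
      IsDominant fj := by
  constructor
  · intro hdom
    exact forward D c hc i₀ hfl f₀ g₀ hcl f g qY qX hY hX hdom
  · rintro ⟨j, φ, Xj, Yj, fj, gj, pY, pX, h1, h2, hdom⟩
    exact backward D c hc i₀ hfl f₀ g₀ f g qY qX hY hX j φ Xj Yj fj gj pY pX h1 h2 hdom

end Groth.Agent.Lib.LimDomH7
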