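import Mathlib
import Groth.Prelude
import Groth.Agent.Lib.LimDom_helper7
import Groth.Agent.Lib.ProConsSch_helper8

/-!
# Pro-constructible sets, closures and cofiltered limits with flat affine transitions (helper7)
-/

set_option autoImplicit false
set_option linter.style.haveILetI false
universe u
open CategoryTheory CategoryTheory.Limits AlgebraicGeometry

namespace Groth.Agent.Lib.LimProConsH7

open Groth.Agent.Lib.LimBaseChangeH7 Groth.Agent.Lib.LimDomH7

variable {I : Type u} [SmallCategory I] [IsCofiltered I]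
  (D : I ⥤ Scheme.{u}) (c : Limits.Cone D) (hc : Limits.IsLimit c)
  [∀ (i j : I) (f : i ⟶ j), IsAffineHom (D.map f)]

include hc in
/-- A compact scheme over a stage whose base change to the limit is empty has empty base change
to some stage. -/
theorem exists_isEmpty_stage (i : I) {T : Scheme.{u}} (a : T ⟶ D.obj i) [CompactSpace T]
    (h : IsEmpty ↥(pullback a (c.π.app i))) :
    ∃ (i' : I) (φ : i' ⟶ i), IsEmpty ↥(pullback a (D.map φ)) := by
  classical
  by_contra hne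
  push_neg at hne
  have hX := IsPullback.of_hasPullback a (c.π.app i)
  have hcX := isLimitBcCone c hX hc
  have hne' : ∀ j : Over i, Nonempty ((bcDiagram D i a).obj j) := by
    intro j
    exact hne j.left j.hom
  have := Scheme.nonempty_of_isLimit (bcDiagram D i a) (bcCone c hX) hcX
  exact (not_isEmpty_iff.mpr this) h

include hc in
theorem exists_preimage_inter_eq_empty (i₁ : I) (Z'' : Set (D.obj i₁))
    (hZ'' : ProCons.IsProConstructible Z'') (O : (D.obj i₁).Opens)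
    (hO : IsCompact (O : Set (D.obj i₁)))
    (h : ∀ y : c.pt, c.π.app i₁ y ∈ Z'' → c.π.app i₁ y ∉ O) :
    ∃ (j : I) (φ : j ⟶ i₁), ∀ y : D.obj j, D.map φ y ∈ Z'' → D.map φ y ∉ O := by
  classical
  have hcov : ∀ x : O, ∃ W : (D.obj i₁).Opens, IsAffineOpen W ∧ x.1 ∈ W ∧ W ≤ O := fun x => by
    obtain ⟨_, ⟨(W : (D.obj i₁).Opens), hW, rfl⟩, hxW, hWO⟩ :=
      (D.obj i₁).isBasis_affineOpens.exists_subset_of_mem_open x.2 O.isOpen
    exact ⟨W, hW, hxW, hWO⟩
  choose W hWaff hxW hWO using hcov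
  obtain ⟨t, ht⟩ := hO.elim_finite_subcover (fun x : O => ((W x : (D.obj i₁).Opens) : Set (D.obj i₁)))
    (fun x => (W x).isOpen) (fun y hy => Set.mem_iUnion.mpr ⟨⟨y, hy⟩, hxW _⟩)
  choose B g hg using fun x : O =>
    Groth.Agent.Lib.ProConsAffH8.exists_affine_range_eq (D.obj i₁) Z'' hZ'' (W x) (hWaff x)
  have single : ∀ x : O, ∃ (j : I) (φ : j ⟶ i₁),
      Disjoint (Set.range (g x)) (Set.range (D.map φ)) := by
    intro x
    have hdis : Disjoint (Set.range (g x)) (Set.range (c.π.app i₁)) := by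
      rw [Set.disjoint_iff_forall_ne]
      rintro _ hz _ ⟨y, rfl⟩ rfl
      have hz' : c.π.app i₁ y ∈ Z'' ∩ (W x : Set (D.obj i₁)) := by
        rw [← hg x]; exact hz
      exact h y hz'.1 (hWO x hz'.2)
    have hemp : IsEmpty ↥(pullback (g x) (c.π.app i₁)) := Scheme.isEmpty_pullback_iff.mpr hdis
    obtain ⟨j, φ, hj⟩ := exists_isEmpty_stage D c hc i₁ (g x) hemp
    exact ⟨j, φ, Scheme.isEmpty_pullback_iff.mp hj⟩
  have all : ∀ s : Finset O, ∃ (j : I) (φ : j ⟶ i₁), ∀ x ∈ s,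
      Disjoint (Set.range (g x)) (Set.range (D.map φ)) := by
    intro s
    induction s using Finset.induction_on with
    | empty => exact ⟨i₁, 𝟙 i₁, fun x hx => absurd hx (Finset.notMem_empty x)⟩
    | insert x s hxs ih =>
      obtain ⟨j₁, φ₁, h₁⟩ := ih
      obtain ⟨j₂, φ₂, h₂⟩ := single x
      obtain ⟨m, ψ₁, ψ₂, hψ⟩ := IsCofiltered.cospan φ₁ φ₂
      have hr₁ : Set.range (D.map (ψ₁ ≫ φ₁)) ⊆ Set.range (D.map φ₁) := by
        rintro _ ⟨y, rfl⟩
        exact ⟨D.map ψ₁ y, by rw [← Scheme.Hom.comp_apply, ← D.map_comp]⟩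
      have hr₂ : Set.range (D.map (ψ₁ ≫ φ₁)) ⊆ Set.range (D.map φ₂) := by
        rw [hψ]
        rintro _ ⟨y, rfl⟩
        exact ⟨D.map ψ₂ y, by rw [← Scheme.Hom.comp_apply, ← D.map_comp]⟩
      refine ⟨m, ψ₁ ≫ φ₁, fun x' hx' => ?_⟩
      rcases Finset.mem_insert.mp hx' with rfl | hx'
      · exact Set.disjoint_of_subset_right hr₂ h₂
      · exact Set.disjoint_of_subset_right hr₁ (h₁ x' hx')
  obtain ⟨j, φ, hj⟩ := all t
  refine ⟨j, φ, fun y hyZ hyO => ?_⟩
  obtain ⟨x, hx⟩ := Set.mem_iUnion.mp (ht hyO)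
  obtain ⟨hxt, hyW⟩ := Set.mem_iUnion.mp hx
  have hmem : D.map φ y ∈ Set.range (g x) := by
    rw [hg x]; exact ⟨hyZ, hyW⟩
  exact Set.disjoint_iff_forall_ne.mp (hj x hxt) hmem ⟨y, rfl⟩ rfl

include hc in
theorem main4786 (i₁ : I) [CompactSpace (D.obj i₁)]
    (hfl : ∀ (i j : I) (φ : i ⟶ j), Flat (D.map φ))
    (Z' Z'' : Set (D.obj i₁)) (hZ' : ProCons.IsProConstructible Z')
    (hZ'' : ProCons.IsProConstructible Z'')
    (hcl : Topology.IsConstructible (closure Z')) :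
    (⇑(c.π.app i₁) ⁻¹' Z'' : Set c.pt) ⊆ closure (⇑(c.π.app i₁) ⁻¹' Z' : Set c.pt) ↔
      ∃ (j : I) (φ : j ⟶ i₁), ⇑(D.map φ) ⁻¹' Z'' ⊆ closure (⇑(D.map φ) ⁻¹' Z') := by
  constructor
  · intro hsub
    let O : (D.obj i₁).Opens := ⟨(closure Z')ᶜ, isClosed_closure.isOpen_compl⟩
    have hOc : IsCompact (O : Set (D.obj i₁)) :=
      Groth.Agent.Lib.LimConstr.isCompact_of_isConstructible hcl.compl
    have h : ∀ y : c.pt, c.π.app i₁ y ∈ Z'' → c.π.app i₁ y ∉ O := by
      intro y hy hyO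
      have h1 : y ∈ closure (⇑(c.π.app i₁) ⁻¹' Z') := hsub hy
      have h2 : y ∈ ⇑(c.π.app i₁) ⁻¹' (closure Z') :=
        closure_minimal (Set.preimage_mono subset_closure)
          (isClosed_closure.preimage (c.π.app i₁).continuous) h1
      exact hyO h2
    obtain ⟨j, φ, hj⟩ := exists_preimage_inter_eq_empty D c hc i₁ Z'' hZ'' O hOc h
    haveI : Flat (D.map φ) := hfl _ _ φ
    refine ⟨j, φ, fun y hy => ?_⟩
    have hy' : D.map φ y ∈ closure Z' := by
      by_contra hcon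
      exact hj y hy hcon
    exact preimage_closure_subset_of_flat (D.map φ) Z' hZ' hy'
  · rintro ⟨j, φ, hsub⟩
    haveI : Flat (c.π.app j) :=
      Groth.Agent.Lib.LimFlat.flat_π D c hc j (fun j' φ' => hfl _ _ φ')
    intro y hy
    have h1 : c.π.app j y ∈ ⇑(D.map φ) ⁻¹' Z'' := by
      show D.map φ (c.π.app j y) ∈ Z''
      rw [← Scheme.Hom.comp_apply, c.w φ]
      exact hy
    have h2 := hsub h1
    have h3 := preimage_closure_subset_of_flat (c.π.app j) ((D.map φ).base ⁻¹' Z')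
      (Groth.Agent.Lib.ProConsSchH8.isProConstructible_preimage (D.map φ) Z' hZ') h2
    have e : (c.π.app j).base ⁻¹' ((D.map φ).base ⁻¹' Z') = ⇑(c.π.app i₁) ⁻¹' Z' := by
      ext z
      show D.map φ (c.π.app j z) ∈ Z' ↔ c.π.app i₁ z ∈ Z'
      rw [← Scheme.Hom.comp_apply, c.w φ]
    rw [e] at h3
    exact h3

end Groth.Agent.Lib.LimProConsH7
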