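import Mathlib
import Groth.Prelude.Def_EGA4Misc
import Groth.Agent.Lib.ConsProp3_helper7
import Groth.Agent.Lib.LimProCons_helper7

/-!
# Constructible properties of algebraic schemes, IV: limits (helper7)

* `main5891`: for an ind-constructible property of morphisms, the property holds on all fibres
  over the limit iff it holds on all fibres over some stage.
-/

set_option autoImplicit false
set_option linter.style.haveILetI false
set_option linter.unusedVariables false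
universe u
open CategoryTheory CategoryTheory.Limits AlgebraicGeometry TopologicalSpace Topology
open Set.Notation

namespace Groth.Agent.Lib.ConsPropH7

variable {P : ∀ ⦃X Y T : Scheme.{u}⦄, (X ⟶ Y) → (Y ⟶ T) → Prop}

theorem main5891 (hP : ConsProp.IsIndConsMor P)
    {I : Type u} [SmallCategory I] [IsCofiltered I]
    (D : I ⥤ Scheme.{u}) (c : Limits.Cone D) (hc : Limits.IsLimit c)
    [∀ (i j : I) (a : i ⟶ j), IsAffineHom (D.map a)] (i₀ : I) [CompactSpace ↥(D.obj i₀)]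
    {X₀ Y₀ : Scheme.{u}} (f₀ : X₀ ⟶ Y₀) (g₀ : Y₀ ⟶ D.obj i₀)
    [LocallyOfFinitePresentation g₀] [QuasiCompact g₀] [QuasiSeparated g₀]
    [LocallyOfFinitePresentation (f₀ ≫ g₀)] [QuasiCompact (f₀ ≫ g₀)] [QuasiSeparated (f₀ ≫ g₀)]
    {X Y : Scheme.{u}} (f : X ⟶ Y) (g : Y ⟶ c.pt) (qY : Y ⟶ Y₀) (qX : X ⟶ X₀)
    (hY : IsPullback qY g g₀ (c.π.app i₀)) (hX : IsPullback qX f f₀ qY) :
    (∀ s : ↥c.pt, s ∈ ConsProp.locusMor P f g) ↔
      ∃ (j : I) (φ : j ⟶ i₀) (Xj Yj : Scheme.{u}) (fj : Xj ⟶ Yj) (gj : Yj ⟶ D.obj j)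
        (pY : Yj ⟶ Y₀) (pX : Xj ⟶ X₀), IsPullback pY gj g₀ (D.map φ) ∧ IsPullback pX fj f₀ pY ∧
          ∀ t : ↥(D.obj j), t ∈ ConsProp.locusMor P fj gj := by
  have hind := main5881 hP f₀ g₀
  have hpro := Groth.Agent.Lib.ProConsCptH8.isProConstructible_compl hind
  have hbc : ∀ s : c.pt, s ∈ ConsProp.locusMor P f g ↔
      c.π.app i₀ s ∈ ConsProp.locusMor P f₀ g₀ :=
    fun s => locusMor_baseChange hP.1 f₀ g₀ f g qX qY (c.π.app i₀) hY hX s
  constructor
  · intro hall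
    have hcpt : IsCompact ((⊤ : (D.obj i₀).Opens) : Set (D.obj i₀)) := by
      rw [Opens.coe_top]
      exact isCompact_univ
    obtain ⟨j, φ, hj⟩ := Groth.Agent.Lib.LimProConsH7.exists_preimage_inter_eq_empty D c hc i₀
      (ConsProp.locusMor P f₀ g₀)ᶜ hpro ⊤ hcpt
      (fun y hy => absurd ((hbc y).mp (hall y)) hy)
    have hYj := IsPullback.of_hasPullback g₀ (D.map φ)
    have hXj := IsPullback.of_hasPullback f₀ (pullback.fst g₀ (D.map φ))
    refine ⟨j, φ, _, _, pullback.snd f₀ (pullback.fst g₀ (D.map φ)), pullback.snd g₀ (D.map φ),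
      pullback.fst g₀ (D.map φ), pullback.fst f₀ (pullback.fst g₀ (D.map φ)), hYj, hXj, ?_⟩
    intro t
    rw [locusMor_baseChange hP.1 f₀ g₀ _ _ _ _ (D.map φ) hYj hXj t]
    by_contra hcon
    exact hj t hcon (Opens.mem_top _)
  · rintro ⟨j, φ, Xj, Yj, fj, gj, pY, pX, hYj, hXj, hall⟩ s
    rw [hbc]
    have h1 := (locusMor_baseChange hP.1 f₀ g₀ fj gj pX pY (D.map φ) hYj hXj
      (c.π.app j s)).mp (hall _)
    have h2 : D.map φ (c.π.app j s) = c.π.app i₀ s := by
      rw [← Scheme.Hom.comp_apply, c.w]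
    rwa [h2] at h1

end Groth.Agent.Lib.ConsPropH7
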