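import Groth.Agent.Lib.StalkFam1_helper2
import Groth.Agent.Lib.QCohPb_helper9

/-!
# Gluing two quasi-coherent modules along an isomorphism over the intersection (helper2)

`exists_glue_two`: given quasi-coherent modules `G₁`, `G₂` on `Y`, quasi-compact opens `U₁`, `U₂`
and a stalkwise bijective family of stalk maps `mu : G₁ → G₂` over `U₁ ⊓ U₂`, there are a
quasi-coherent module `G` and stalkwise bijective families `e₁ : G → G₁` over `U₁`,
`e₂ : G → G₂` over `U₂` with `mu ∘ e₁ = e₂` on `U₁ ⊓ U₂`.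

`G` is the fibre product of `j₁_* j₁^* G₁` and `j₂_* j₂^* G₂` over `j₁₂_* j₁₂^* G₂`.
APPEND-ONLY once landed.
-/

set_option autoImplicit false
set_option maxHeartbeats 1000000
set_option linter.style.haveILetI false
set_option linter.unusedSectionVars false
set_option linter.unusedVariables false
universe u

open CategoryTheory CategoryTheory.Limits AlgebraicGeometry TopologicalSpace Opposite
open HomLinH8 RefHullH8 QcqsLoc SecOrdH8 QCohExtn
open Groth.Agent.Lib.StalkFam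

namespace Groth.Agent.Lib.GlueTwo

section Inv

variable {X : Scheme.{u}} {A B : X.Modules}

theorem evSec_res_inv {O O' : X.Opens} (h : O' ≤ O) (l : Γ(RefHull.homSh A B, O))
    (hl : ∀ y, Function.Bijective (l.1 y)) (z : Γ(A, O')) :
    evSec (resSec h (invSec l hl)) (evSec (resSec h l) z) = z := by
  apply evSec_unique
  intro y hy
  rw [germ_evSec]
  exact (invSec_apply_apply l hl ⟨y, h hy⟩ _).symm

theorem evSec_res_inv' {O O' : X.Opens} (h : O' ≤ O) (l : Γ(RefHull.homSh A B, O))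
    (hl : ∀ y, Function.Bijective (l.1 y)) (z : Γ(B, O')) :
    evSec (resSec h l) (evSec (resSec h (invSec l hl)) z) = z := by
  apply evSec_unique
  intro y hy
  rw [germ_evSec]
  exact (apply_invSec_apply l hl ⟨y, h hy⟩ _).symm

theorem isBasis_all (Y : Scheme.{u}) : Opens.IsBasis (Set.range (fun O : Y.Opens => O)) := by
  rw [Opens.isBasis_iff_nbhd]
  intro O x hx
  exact ⟨O, ⟨O, rfl⟩, hx, le_rfl⟩

end Inv

section JJ

variable {Y : Scheme.{u}} (U : Y.Opens) (G : Y.Modules)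

/-- `j_* j^* G` for the inclusion `j` of the open `U`. -/
noncomputable abbrev jj : Y.Modules := (Scheme.Modules.pushforward U.ι).obj (G.restrict U.ι)

/-- `U ∩ W`, in the form in which it appears in the sections of `jj`. -/
abbrev cap (W : Y.Opens) : Y.Opens := U.ι ''ᵁ (U.ι ⁻¹ᵁ W)

theorem cap_le (W : Y.Opens) : cap U W ≤ W := U.ι.image_preimage_le W

theorem cap_eq (W : Y.Opens) : cap U W = U ⊓ W := by
  unfold cap
  rw [Scheme.Hom.image_preimage_eq_opensRange_inf, Scheme.Opens.opensRange_ι]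

theorem cap_le_self (W : Y.Opens) : cap U W ≤ U := by
  rw [cap_eq]
  exact inf_le_left

theorem cap_mono {W' W : Y.Opens} (h : W' ≤ W) : cap U W' ≤ cap U W :=
  Scheme.Hom.image_mono _ (fun x hx => h hx)

theorem mem_cap {W : Y.Opens} {y : Y} (hyW : y ∈ W) (hyU : y ∈ U) : y ∈ cap U W := by
  rw [cap_eq]
  exact ⟨hyU, hyW⟩

theorem cap_eq_of_le {W : Y.Opens} (h : W ≤ U) : cap U W = W := by
  rw [cap_eq]
  exact inf_eq_right.mpr h

/-- Sections of `jj` as sections of `G`. -/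
def jjOut (W : Y.Opens) (x : Γ(jj U G, W)) : Γ(G, cap U W) := x

/-- Sections of `G` as sections of `jj`. -/
def jjIn (W : Y.Opens) (x : Γ(G, cap U W)) : Γ(jj U G, W) := x

theorem jjOut_jjIn (W : Y.Opens) (x : Γ(G, cap U W)) : jjOut U G W (jjIn U G W x) = x := rfl

theorem jjIn_jjOut (W : Y.Opens) (x : Γ(jj U G, W)) : jjIn U G W (jjOut U G W x) = x := rfl

theorem jjOut_inj {W : Y.Opens} {x x' : Γ(jj U G, W)} (h : jjOut U G W x = jjOut U G W x') :
    x = x' := h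

set_option backward.isDefEq.respectTransparency false in
theorem jj_rF {W' W : Y.Opens} (h : W' ≤ W) (x : Γ(jj U G, W)) :
    jjOut U G W' (rF (jj U G) h x) = rF G (cap_mono U h) (jjOut U G W x) := rfl

set_option backward.isDefEq.respectTransparency false in
theorem jj_add (W : Y.Opens) (x y : Γ(jj U G, W)) :
    jjOut U G W (x + y) = jjOut U G W x + jjOut U G W y := rfl

set_option backward.isDefEq.respectTransparency false in
theorem jj_smul (W : Y.Opens) (r : Γ(Y, W)) (x : Γ(jj U G, W)) :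
    jjOut U G W (r • x) = rX (cap_le U W) r • jjOut U G W x := by
  have h1 : jjOut U G W (r • x) =
      ((U.ι.appIso (U.ι ⁻¹ᵁ W)).inv (U.ι.app W r)) • jjOut U G W x := rfl
  rw [h1]
  congr 1
  exact congrArg (fun φ => φ.hom r) (U.ι.app_appIso_inv W)

set_option backward.isDefEq.respectTransparency false in
theorem jj_unit (W : Y.Opens) (a : Γ(G, W)) :
    jjOut U G W (((Scheme.Modules.restrictAdjunction U.ι).unit.app G).app W a) =
      rF G (cap_le U W) a := rfl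

/-- The stalks of `jj U G` at the points of `U` are the stalks of `G`. -/
theorem exists_jj_stalk :
    ∃ d : Γ(RefHull.homSh (jj U G) G, U), (∀ y, Function.Bijective (d.1 y)) ∧
      ∀ (Q : Y.Opens) (x : Γ(jj U G, Q)) (y : Y) (hyQ : y ∈ Q) (hyU : y ∈ U),
        d.1 ⟨y, hyU⟩ ((jj U G).presheaf.germ Q y hyQ x) =
          G.presheaf.germ (cap U Q) y (mem_cap U hyQ hyU) (jjOut U G Q x) := by
  obtain ⟨η, hη⟩ : ∃ η : G ⟶ jj U G, η = (Scheme.Modules.restrictAdjunction U.ι).unit.app G :=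
    ⟨_, rfl⟩
  have hbij : ∀ y : U, Function.Bijective ((RefHull.ofHom η U).1 y) := by
    intro y
    refine stalkMapₗ_bijective_of_sections η (N := U) (fun Q hQ => ?_) y.1 y.2
    rw [hη]
    exact SubExt.unit_bijective U G Q hQ
  refine ⟨invSec (RefHull.ofHom η U) hbij, invSec_bijective _ hbij, ?_⟩
  intro Q x y hyQ hyU
  have hyc := mem_cap U hyQ hyU
  have e1 : η.app (cap U Q) (jjOut U G Q x) = rF (jj U G) (cap_le U Q) x := by
    have h3 : jjOut U G (cap U Q) (η.app (cap U Q) (jjOut U G Q x)) =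
        jjOut U G (cap U Q) (rF (jj U G) (cap_le U Q) x) := by
      rw [hη, jj_unit, jj_rF]
    exact h3
  have e2 : (jj U G).presheaf.germ Q y hyQ x =
      RefHull.stalkMapₗ η y (G.presheaf.germ (cap U Q) y hyc (jjOut U G Q x)) := by
    rw [RefHull.stalkMapₗ_germ, e1, germ_rF]
  rw [e2]
  exact invSec_apply_apply (RefHull.ofHom η U) hbij ⟨y, hyU⟩ _

end JJ

section Glue

variable {Y : Scheme.{u}} (U₁ U₂ : Y.Opens) (G₁ G₂ : Y.Modules)
  (mu : Γ(RefHull.homSh G₁ G₂, U₁ ⊓ U₂))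

theorem cap12_le1 (W : Y.Opens) : cap (U₁ ⊓ U₂) W ≤ cap U₁ W := by
  rw [cap_eq, cap_eq]
  exact inf_le_inf_right _ inf_le_left

theorem cap12_le2 (W : Y.Opens) : cap (U₁ ⊓ U₂) W ≤ cap U₂ W := by
  rw [cap_eq, cap_eq]
  exact inf_le_inf_right _ inf_le_right

theorem cap12_eq1 {W : Y.Opens} (h : W ≤ U₂) : cap (U₁ ⊓ U₂) W = cap U₁ W := by
  rw [cap_eq, cap_eq]
  exact le_antisymm (inf_le_inf_right _ inf_le_left)
    (le_inf (le_inf inf_le_left (inf_le_right.trans h)) inf_le_right)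

theorem cap12_eq2 {W : Y.Opens} (h : W ≤ U₁) : cap (U₁ ⊓ U₂) W = cap U₂ W := by
  rw [cap_eq, cap_eq]
  exact le_antisymm (inf_le_inf_right _ inf_le_right)
    (le_inf (le_inf (inf_le_right.trans h) inf_le_left) inf_le_right)

/-- The restriction map `j₂_* j₂^* G₂ ⟶ j₁₂_* j₁₂^* G₂`. -/
theorem exists_resMap : ∃ r : jj U₂ G₂ ⟶ jj (U₁ ⊓ U₂) G₂,
    ∀ (W : Y.Opens) (x : Γ(jj U₂ G₂, W)),
      jjOut (U₁ ⊓ U₂) G₂ W (r.app W x) = rF G₂ (cap12_le2 U₁ U₂ W) (jjOut U₂ G₂ W x) := by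
  obtain ⟨φ, hφ⟩ := Groth.Agent.ModHomBasis.exists_hom_of_basis (jj U₂ G₂) (jj (U₁ ⊓ U₂) G₂)
    (fun O : Y.Opens => O) (isBasis_all Y)
    (fun W x => jjIn (U₁ ⊓ U₂) G₂ W (rF G₂ (cap12_le2 U₁ U₂ W) (jjOut U₂ G₂ W x)))
    (fun W x y => by
      apply jjOut_inj
      simp only [jjOut_jjIn, jj_add, map_add])
    (fun W r x => by
      apply jjOut_inj
      simp only [jjOut_jjIn, jj_smul, rF_smul, rX_rX])
    (fun W W' h x => by
      apply jjOut_inj
      rw [jjOut_jjIn, jj_rF, jj_rF, jjOut_jjIn, rF_rF, rF_rF])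
  exact ⟨φ, fun W x => by rw [hφ W x, jjOut_jjIn]⟩

/-- The map `j₁_* j₁^* G₁ ⟶ j₁₂_* j₁₂^* G₂` induced by `mu`. -/
theorem exists_muMap : ∃ m : jj U₁ G₁ ⟶ jj (U₁ ⊓ U₂) G₂,
    ∀ (W : Y.Opens) (x : Γ(jj U₁ G₁, W)),
      jjOut (U₁ ⊓ U₂) G₂ W (m.app W x) =
        evSec (resSec (cap_le_self (U₁ ⊓ U₂) W) mu)
          (rF G₁ (cap12_le1 U₁ U₂ W) (jjOut U₁ G₁ W x)) := by
  obtain ⟨φ, hφ⟩ := Groth.Agent.ModHomBasis.exists_hom_of_basis (jj U₁ G₁) (jj (U₁ ⊓ U₂) G₂)
    (fun O : Y.Opens => O) (isBasis_all Y)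
    (fun W x => jjIn (U₁ ⊓ U₂) G₂ W (evSec (resSec (cap_le_self (U₁ ⊓ U₂) W) mu)
      (rF G₁ (cap12_le1 U₁ U₂ W) (jjOut U₁ G₁ W x))))
    (fun W x y => by
      apply jjOut_inj
      simp only [jjOut_jjIn, jj_add, map_add, evSec_add_right])
    (fun W r x => by
      apply jjOut_inj
      simp only [jjOut_jjIn, jj_smul, rF_smul, rX_rX, evSec_smul_right])
    (fun W W' h x => by
      apply jjOut_inj
      rw [jjOut_jjIn, jj_rF, jj_rF, jjOut_jjIn, rF_evSec]
      simp only [rF_rF])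
  exact ⟨φ, fun W x => by rw [hφ W x, jjOut_jjIn]⟩

/-- **Gluing two quasi-coherent modules.** -/
theorem exists_glue_two [QuasiCompact U₁.ι] [QuasiCompact U₂.ι] [QuasiCompact (U₁ ⊓ U₂).ι]
    [G₁.IsQuasicoherent] [G₂.IsQuasicoherent] (hmu : ∀ y, Function.Bijective (mu.1 y)) :
    ∃ (G : Y.Modules) (_ : G.IsQuasicoherent) (e₁ : Γ(RefHull.homSh G G₁, U₁))
      (e₂ : Γ(RefHull.homSh G G₂, U₂)),
      (∀ y, Function.Bijective (e₁.1 y)) ∧ (∀ y, Function.Bijective (e₂.1 y)) ∧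
      ∀ (y : Y) (h1 : y ∈ U₁) (h2 : y ∈ U₂) (g : G.presheaf.stalk y),
        mu.1 ⟨y, ⟨h1, h2⟩⟩ (e₁.1 ⟨y, h1⟩ g) = e₂.1 ⟨y, h2⟩ g := by
  obtain ⟨m, hm⟩ := exists_muMap U₁ U₂ G₁ G₂ mu
  obtain ⟨r, hr⟩ := exists_resMap U₁ U₂ G₂
  obtain ⟨d₁, hd₁b, hd₁⟩ := exists_jj_stalk U₁ G₁
  obtain ⟨d₂, hd₂b, hd₂⟩ := exists_jj_stalk U₂ G₂
  have hcond : ∀ (W : Y.Opens) (s : Γ(pullback m r, W)),
      m.app W ((pullback.fst m r).app W s) = r.app W ((pullback.snd m r).app W s) := by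
    intro W s
    have := congrArg (fun χ => (χ.app W).hom s) (pullback.condition (f := m) (g := r))
    exact this
  -- `r` is bijective on sections over opens inside `U₁`
  have hrb : ∀ Q : Y.Opens, Q ≤ U₁ → Function.Bijective (ap r Q) := by
    intro Q hQ
    have hb := SubExt.rF_bijective_of_eq G₂ (cap12_le2 U₁ U₂ Q) (cap12_eq2 U₁ U₂ hQ)
    constructor
    · intro x x' hxx
      apply jjOut_inj
      apply hb.1
      have h3 := congrArg (jjOut (U₁ ⊓ U₂) G₂ Q) hxx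
      have h4 : jjOut (U₁ ⊓ U₂) G₂ Q (r.app Q x) = jjOut (U₁ ⊓ U₂) G₂ Q (r.app Q x') := h3
      rw [hr, hr] at h4
      exact h4
    · intro z
      obtain ⟨w, hw⟩ := hb.2 (jjOut (U₁ ⊓ U₂) G₂ Q z)
      refine ⟨jjIn U₂ G₂ Q w, ?_⟩
      apply jjOut_inj
      have h4 : jjOut (U₁ ⊓ U₂) G₂ Q (r.app Q (jjIn U₂ G₂ Q w)) =
          jjOut (U₁ ⊓ U₂) G₂ Q z := by
        rw [hr, jjOut_jjIn]
        exact hw
      exact h4
  -- `m` is bijective on sections over opens inside `U₂`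
  have hmb : ∀ Q : Y.Opens, Q ≤ U₂ → Function.Bijective (ap m Q) := by
    intro Q hQ
    have hb := SubExt.rF_bijective_of_eq G₁ (cap12_le1 U₁ U₂ Q) (cap12_eq1 U₁ U₂ hQ)
    constructor
    · intro x x' hxx
      apply jjOut_inj
      apply hb.1
      have h3 := congrArg (jjOut (U₁ ⊓ U₂) G₂ Q) hxx
      have h4 : jjOut (U₁ ⊓ U₂) G₂ Q (m.app Q x) = jjOut (U₁ ⊓ U₂) G₂ Q (m.app Q x') := h3
      rw [hm, hm] at h4
      have h5 := congrArg (evSec (resSec (cap_le_self (U₁ ⊓ U₂) Q) (invSec mu hmu))) h4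
      rw [evSec_res_inv, evSec_res_inv] at h5
      exact h5
    · intro z
      obtain ⟨w, hw⟩ := hb.2 (evSec (resSec (cap_le_self (U₁ ⊓ U₂) Q) (invSec mu hmu))
        (jjOut (U₁ ⊓ U₂) G₂ Q z))
      refine ⟨jjIn U₁ G₁ Q w, ?_⟩
      apply jjOut_inj
      have h4 : jjOut (U₁ ⊓ U₂) G₂ Q (m.app Q (jjIn U₁ G₁ Q w)) =
          jjOut (U₁ ⊓ U₂) G₂ Q z := by
        rw [hm, jjOut_jjIn]
        have hw' : rF G₁ (cap12_le1 U₁ U₂ Q) w =
            evSec (resSec (cap_le_self (U₁ ⊓ U₂) Q) (invSec mu hmu))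
              (jjOut (U₁ ⊓ U₂) G₂ Q z) := hw
        rw [hw', evSec_res_inv']
      exact h4
  -- the projections are bijective on sections over small opens
  have hfst : ∀ Q : Y.Opens, Q ≤ U₁ → Function.Bijective (ap (pullback.fst m r) Q) := by
    intro Q hQ
    have hb := hrb Q hQ
    constructor
    · intro s s' hss
      apply QCohPb.pb_ext m r Q s s' hss
      apply hb.1
      have h1 := hcond Q s
      have h2 := hcond Q s'
      have hss' : (pullback.fst m r).app Q s = (pullback.fst m r).app Q s' := hss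
      rw [hss'] at h1
      exact h1.symm.trans h2
    · intro x
      obtain ⟨y, hy⟩ := hb.2 (ap m Q x)
      obtain ⟨s, hs, -⟩ := QCohPb.pb_exists m r Q x y hy.symm
      exact ⟨s, hs⟩
  have hsnd : ∀ Q : Y.Opens, Q ≤ U₂ → Function.Bijective (ap (pullback.snd m r) Q) := by
    intro Q hQ
    have hb := hmb Q hQ
    constructor
    · intro s s' hss
      apply QCohPb.pb_ext m r Q s s' ?_ hss
      apply hb.1
      have h1 := hcond Q s
      have h2 := hcond Q s'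
      have hss' : (pullback.snd m r).app Q s = (pullback.snd m r).app Q s' := hss
      rw [hss'] at h1
      exact h1.trans h2.symm
    · intro y
      obtain ⟨x, hx⟩ := hb.2 (ap r Q y)
      obtain ⟨s, -, hs⟩ := QCohPb.pb_exists m r Q x y hx
      exact ⟨s, hs⟩
  -- quasi-coherence
  have hq1 : (jj U₁ G₁).IsQuasicoherent := by
    haveI : (G₁.restrict U₁.ι).IsQuasicoherent := inferInstance
    exact QcqsLoc.isQuasicoherent_pushforward_qcqs U₁.ι (G₁.restrict U₁.ι)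
  have hq2 : (jj U₂ G₂).IsQuasicoherent := by
    haveI : (G₂.restrict U₂.ι).IsQuasicoherent := inferInstance
    exact QcqsLoc.isQuasicoherent_pushforward_qcqs U₂.ι (G₂.restrict U₂.ι)
  have hq12 : (jj (U₁ ⊓ U₂) G₂).IsQuasicoherent := by
    haveI : (G₂.restrict (U₁ ⊓ U₂).ι).IsQuasicoherent := inferInstance
    exact QcqsLoc.isQuasicoherent_pushforward_qcqs (U₁ ⊓ U₂).ι (G₂.restrict (U₁ ⊓ U₂).ι)
  refine ⟨pullback m r, QCohPb.isQuasicoherent_pullback m r hq1 hq2 hq12,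
    compSec (RefHull.ofHom (pullback.fst m r) U₁) d₁,
    compSec (RefHull.ofHom (pullback.snd m r) U₂) d₂, ?_, ?_, ?_⟩
  · exact fun y => compSec_bijective _ _
      (fun y => stalkMapₗ_bijective_of_sections (pullback.fst m r) hfst y.1 y.2) hd₁b y
  · exact fun y => compSec_bijective _ _
      (fun y => stalkMapₗ_bijective_of_sections (pullback.snd m r) hsnd y.1 y.2) hd₂b y
  · intro y h1 h2 g
    obtain ⟨Q, hyQ, s, rfl⟩ := TopCat.Presheaf.exists_germ_eq (F := (pullback m r).presheaf) g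
    have hy12 : y ∈ cap (U₁ ⊓ U₂) Q := mem_cap _ hyQ ⟨h1, h2⟩
    have E1 : (compSec (RefHull.ofHom (pullback.fst m r) U₁) d₁).1 ⟨y, h1⟩
        ((pullback m r).presheaf.germ Q y hyQ s) =
        G₁.presheaf.germ (cap U₁ Q) y (mem_cap U₁ hyQ h1)
          (jjOut U₁ G₁ Q ((pullback.fst m r).app Q s)) := by
      change d₁.1 ⟨y, h1⟩ (RefHull.stalkMapₗ (pullback.fst m r) y
        ((pullback m r).presheaf.germ Q y hyQ s)) = _
      rw [RefHull.stalkMapₗ_germ, hd₁]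
    have E2 : (compSec (RefHull.ofHom (pullback.snd m r) U₂) d₂).1 ⟨y, h2⟩
        ((pullback m r).presheaf.germ Q y hyQ s) =
        G₂.presheaf.germ (cap U₂ Q) y (mem_cap U₂ hyQ h2)
          (jjOut U₂ G₂ Q ((pullback.snd m r).app Q s)) := by
      change d₂.1 ⟨y, h2⟩ (RefHull.stalkMapₗ (pullback.snd m r) y
        ((pullback m r).presheaf.germ Q y hyQ s)) = _
      rw [RefHull.stalkMapₗ_germ, hd₂]
    rw [E1, E2]
    have hc : jjOut (U₁ ⊓ U₂) G₂ Q (m.app Q ((pullback.fst m r).app Q s)) =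
        jjOut (U₁ ⊓ U₂) G₂ Q (r.app Q ((pullback.snd m r).app Q s)) :=
      congrArg (jjOut (U₁ ⊓ U₂) G₂ Q) (hcond Q s)
    rw [hm, hr] at hc
    have a1 : G₁.presheaf.germ (cap U₁ Q) y (mem_cap U₁ hyQ h1)
        (jjOut U₁ G₁ Q ((pullback.fst m r).app Q s)) =
        G₁.presheaf.germ (cap (U₁ ⊓ U₂) Q) y hy12
          (rF G₁ (cap12_le1 U₁ U₂ Q) (jjOut U₁ G₁ Q ((pullback.fst m r).app Q s))) :=
      (germ_rF G₁ (cap12_le1 U₁ U₂ Q) y hy12 _).symm
    have a2 : G₂.presheaf.germ (cap U₂ Q) y (mem_cap U₂ hyQ h2)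
        (jjOut U₂ G₂ Q ((pullback.snd m r).app Q s)) =
        G₂.presheaf.germ (cap (U₁ ⊓ U₂) Q) y hy12
          (rF G₂ (cap12_le2 U₁ U₂ Q) (jjOut U₂ G₂ Q ((pullback.snd m r).app Q s))) :=
      (germ_rF G₂ (cap12_le2 U₁ U₂ Q) y hy12 _).symm
    rw [a1, a2, ← hc, germ_evSec]
    rfl

end Glue

end Groth.Agent.Lib.GlueTwo
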