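import Groth.Agent.Lib.LimDescAff_helper2
import Groth.Agent.Lib.GlueTwo_helper2

/-!
# EGA IV 8.5.2 (ii): descent of finitely presented quasi-coherent modules over a limit (helper2)

Over a cofiltered limit `S = lim S_i` of schemes with affine transition maps, with a quasi-compact
quasi-separated stage `S_{i₀}`, every quasi-coherent `O_S`-module of finite presentation is
isomorphic to the pullback of a quasi-coherent module of finite presentation at a stage.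

The proof is by induction on quasi-compact opens `W` of `S_{i₀}` (`compact_open_induction_on`) for
the predicate `Good W`: there are a stage `j`, a quasi-coherent module `G` on `S_j`, finitely
presented near the preimage of `W`, and a stalkwise bijective family of stalk maps
`π_j^* G → F` over the preimage of `W` in `S`.
APPEND-ONLY once landed.
-/

set_option autoImplicit false
set_option maxHeartbeats 1000000
set_option linter.style.haveILetI false
set_option linter.unusedSectionVars false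
set_option linter.unusedVariables false
universe u

open CategoryTheory CategoryTheory.Limits AlgebraicGeometry TopologicalSpace Opposite TensorProduct
open HomLinH8 RefHullH8 QcqsLoc SecOrdH8 QCohExtn
open Groth.Agent.Lib.LimMod Groth.Agent.Lib.StalkFam Groth.Agent.Lib.LimOH
open Groth.Agent.Lib.GlueTwo Groth.Agent.Lib.LimDescAff

namespace Groth.Agent.Lib.LimDescMain

section FPAtLemmas

variable {X : Scheme.{u}}

/-- Finite presentation near a point transfers along a stalkwise bijective family. -/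
theorem FPAt.of_family {G G' : X.Modules} [G'.IsQuasicoherent] {U : X.Opens}
    (e : Γ(RefHull.homSh G G', U)) (he : ∀ y, Function.Bijective (e.1 y)) {x : X} (hx : x ∈ U)
    (h : FPAt G' x) : FPAt G x := by
  obtain ⟨Q, hQ, hxQ, hQU, hfp⟩ := h.exists_le U hx
  haveI := hfp
  refine ⟨Q, hQ, hxQ, ?_⟩
  let E : Γ(G, Q) ≃ₗ[Γ(X, Q)] Γ(G', Q) :=
    { toFun := evSec (resSec hQU e)
      map_add' := evSec_add_right _
      map_smul' := fun r s => evSec_smul_right _ r s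
      invFun := evSec (resSec hQU (invSec e he))
      left_inv := fun z => evSec_res_inv hQU e he z
      right_inv := fun z => evSec_res_inv' hQU e he z }
  exact Module.FinitePresentation.of_equiv E.symm

/-- Finite presentation near a point is preserved by pullback. -/
theorem FPAt.pullback {Y : Scheme.{u}} (f : X ⟶ Y) (G : Y.Modules) [G.IsQuasicoherent] (x : X)
    (h : FPAt G (f x)) : FPAt ((Scheme.Modules.pullback f).obj G) x := by
  obtain ⟨Q, hQ, hxQ, hfp⟩ := h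
  haveI := hfp
  obtain ⟨_, ⟨P, hP : IsAffineOpen P, rfl⟩, hxP, hPsub⟩ :=
    X.isBasis_affineOpens.exists_subset_of_mem_open (show x ∈ f ⁻¹ᵁ Q from hxQ)
      (f ⁻¹ᵁ Q).isOpen
  exact ⟨P, hP, hxP, FpqcH8.fp_sections_pullback f G hP hQ (fun z hz => hPsub hz)⟩

end FPAtLemmas

section Main

variable {I : Type u} [SmallCategory I] [IsCofiltered I] (D : I ⥤ Scheme.{u}) (c : Cone D)
  (hc : IsLimit c) [∀ (i j : I) (f : i ⟶ j), IsAffineHom (D.map f)] (i₀ : I)
  (F : c.pt.Modules)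

/-- The induction predicate. -/
def Good (W : (D.obj i₀).Opens) : Prop :=
  ∃ (j : Over i₀) (G : (D.obj j.left).Modules) (_ : G.IsQuasicoherent)
    (l : Γ(RefHull.homSh ((Scheme.Modules.pullback (c.π.app j.left)).obj G) F, Uinf D c i₀ W)),
    (∀ x ∈ Uj D i₀ W j, FPAt G x) ∧ ∀ s, Function.Bijective (l.1 s)

omit [IsCofiltered I] in
/-- Change of stage. -/
theorem good_stage_change {W : (D.obj i₀).Opens} (j : Over i₀) (G : (D.obj j.left).Modules)
    [G.IsQuasicoherent]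
    (l : Γ(RefHull.homSh ((Scheme.Modules.pullback (c.π.app j.left)).obj G) F, Uinf D c i₀ W))
    (hfp : ∀ x ∈ Uj D i₀ W j, FPAt G x) (hl : ∀ s, Function.Bijective (l.1 s)) {k : Over i₀}
    (g : k ⟶ j) :
    ∃ (G' : (D.obj k.left).Modules) (_ : G'.IsQuasicoherent)
      (l' : Γ(RefHull.homSh ((Scheme.Modules.pullback (c.π.app k.left)).obj G') F,
        Uinf D c i₀ W)),
      (∀ x ∈ Uj D i₀ W k, FPAt G' x) ∧ ∀ s, Function.Bijective (l'.1 s) := by
  refine ⟨(Scheme.Modules.pullback (D.map g.left)).obj G, inferInstance,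
    compSec (RefHull.ofHom ((DescH8.pbIso (c.π.app k.left) (D.map g.left) (c.π.app j.left)
      (c.w g.left)).hom.app G) (Uinf D c i₀ W)) l, ?_, ?_⟩
  · intro x hx
    exact FPAt.pullback (D.map g.left) G x (hfp _ (Uj_le D i₀ W g hx))
  · intro s
    exact compSec_bijective _ _ (fun y => stalkMapₗ_bijective_of_isIso _ y.1) hl s

include hc in
/-- The inductive step, for data at a common stage. -/
theorem good_union_aux [QuasiSeparatedSpace (D.obj i₀)] [F.IsQuasicoherent]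
    {S U : (D.obj i₀).Opens} (hS : IsCompact (S : Set (D.obj i₀)))
    (hU : IsCompact (U : Set (D.obj i₀))) (j : Over i₀)
    (G₁ G₂ : (D.obj j.left).Modules) [G₁.IsQuasicoherent] [G₂.IsQuasicoherent]
    (l₁ : Γ(RefHull.homSh ((Scheme.Modules.pullback (c.π.app j.left)).obj G₁) F,
      Uinf D c i₀ S))
    (l₂ : Γ(RefHull.homSh ((Scheme.Modules.pullback (c.π.app j.left)).obj G₂) F,
      Uinf D c i₀ U))
    (hfp₁ : ∀ x ∈ Uj D i₀ S j, FPAt G₁ x) (hfp₂ : ∀ x ∈ Uj D i₀ U j, FPAt G₂ x)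
    (hl₁ : ∀ s, Function.Bijective (l₁.1 s)) (hl₂ : ∀ s, Function.Bijective (l₂.1 s)) :
    Good D c i₀ F (S ⊔ U) := by
  haveI hA' : ∀ {i j : I} (f : i ⟶ j), IsAffineHom (D.map f) := fun f => inferInstance
  haveI : QuasiSeparatedSpace (D.obj j.left) :=
    quasiSeparatedSpace_of_quasiSeparated (D.map j.hom)
  -- the intersection at the stage `j`
  obtain ⟨O₁₂, hO₁₂def⟩ : ∃ O₁₂ : (D.obj j.left).Opens, O₁₂ = Uj D i₀ (S ⊓ U) j := ⟨_, rfl⟩
  have hO₁₂ : IsCompact ((O₁₂ : (D.obj j.left).Opens) : Set (D.obj j.left)) := by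
    have h : IsCompact ((S ⊓ U : (D.obj i₀).Opens) : Set (D.obj i₀)) :=
      QuasiSeparatedSpace.inter_isCompact S.1 U.1 S.2 hS U.2 hU
    rw [hO₁₂def]
    exact (D.map j.hom).isCompact_preimage h
  have hO1 : ∀ x, x ∈ O₁₂ → x ∈ Uj D i₀ S j := by
    intro x hx
    rw [hO₁₂def] at hx
    exact hx.1
  have hO2 : ∀ x, x ∈ O₁₂ → x ∈ Uj D i₀ U j := by
    intro x hx
    rw [hO₁₂def] at hx
    exact hx.2
  have hO12 : ∀ x, x ∈ Uj D i₀ S j → x ∈ Uj D i₀ U j → x ∈ O₁₂ := by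
    intro x h1 h2
    rw [hO₁₂def]
    exact ⟨h1, h2⟩
  have hT1 : Uinf D c j.left O₁₂ ≤ Uinf D c i₀ S :=
    fun s hs => Uinf_ge D c i₀ S j (hO1 _ hs)
  have hT2 : Uinf D c j.left O₁₂ ≤ Uinf D c i₀ U :=
    fun s hs => Uinf_ge D c i₀ U j (hO2 _ hs)
  obtain ⟨lam, hlamdef⟩ : ∃ lam : Γ(RefHull.homSh
      ((Scheme.Modules.pullback (c.π.app j.left)).obj G₁)
      ((Scheme.Modules.pullback (c.π.app j.left)).obj G₂), Uinf D c j.left O₁₂),
      lam = compSec (resSec hT1 l₁)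
        (invSec (resSec hT2 l₂) (fun y => hl₂ ⟨y.1, hT2 y.2⟩)) := ⟨_, rfl⟩
  have hlam : ∀ y, Function.Bijective (lam.1 y) := by
    intro y
    rw [hlamdef]
    exact compSec_bijective _ _ (fun y => hl₁ ⟨y.1, hT1 y.2⟩)
      (fun y => invSec_bijective _ _ y) y
  obtain ⟨κ, mu, hmu, hcompat⟩ := exists_open_iso_lift D c hc j.left G₁ G₂ lam hO₁₂
    (fun x hx => hfp₁ x (hO1 x hx)) (fun x hx => hfp₂ x (hO2 x hx)) hlam
  -- glue at the stage `κ.left`
  haveI : QuasiSeparatedSpace (D.obj κ.left) :=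
    quasiSeparatedSpace_of_quasiSeparated (D.map κ.hom)
  obtain ⟨U₁', hU₁'def⟩ : ∃ U₁' : (D.obj κ.left).Opens,
      U₁' = Uj D j.left (Uj D i₀ S j) κ := ⟨_, rfl⟩
  obtain ⟨U₂', hU₂'def⟩ : ∃ U₂' : (D.obj κ.left).Opens,
      U₂' = Uj D j.left (Uj D i₀ U j) κ := ⟨_, rfl⟩
  have hU₁'c : IsCompact ((U₁' : (D.obj κ.left).Opens) : Set (D.obj κ.left)) := by
    rw [hU₁'def]
    exact (D.map κ.hom).isCompact_preimage ((D.map j.hom).isCompact_preimage hS)
  have hU₂'c : IsCompact ((U₂' : (D.obj κ.left).Opens) : Set (D.obj κ.left)) := by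
    rw [hU₂'def]
    exact (D.map κ.hom).isCompact_preimage ((D.map j.hom).isCompact_preimage hU)
  have hU₁₂'c : IsCompact ((U₁' ⊓ U₂' : (D.obj κ.left).Opens) : Set (D.obj κ.left)) :=
    QuasiSeparatedSpace.inter_isCompact U₁'.1 U₂'.1 U₁'.2 hU₁'c U₂'.2 hU₂'c
  haveI : CompactSpace U₁'.toScheme := isCompact_iff_compactSpace.mp hU₁'c
  haveI : CompactSpace U₂'.toScheme := isCompact_iff_compactSpace.mp hU₂'c
  haveI : CompactSpace (U₁' ⊓ U₂').toScheme := isCompact_iff_compactSpace.mp hU₁₂'c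
  haveI : QuasiCompact U₁'.ι := inferInstance
  haveI : QuasiCompact U₂'.ι := inferInstance
  haveI : QuasiCompact (U₁' ⊓ U₂').ι := inferInstance
  have h12 : U₁' ⊓ U₂' ≤ Uj D j.left O₁₂ κ := by
    intro y hy
    have h1 : y ∈ U₁' := hy.1
    have h2 : y ∈ U₂' := hy.2
    rw [hU₁'def] at h1
    rw [hU₂'def] at h2
    exact hO12 _ h1 h2
  obtain ⟨G, hG, e₁, e₂, he₁, he₂, hcomp⟩ := exists_glue_two U₁' U₂'
    ((Scheme.Modules.pullback (D.map κ.hom)).obj G₁)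
    ((Scheme.Modules.pullback (D.map κ.hom)).obj G₂) (resSec h12 mu)
    (fun y => hmu ⟨y.1, h12 y.2⟩)
  haveI := hG
  -- the new family
  have hS1 : Uinf D c i₀ S ≤ (c.π.app κ.left) ⁻¹ᵁ U₁' := by
    rw [hU₁'def]
    exact (Uinf_le D c i₀ S j).trans (Uinf_le D c j.left (Uj D i₀ S j) κ)
  have hS2 : Uinf D c i₀ U ≤ (c.π.app κ.left) ⁻¹ᵁ U₂' := by
    rw [hU₂'def]
    exact (Uinf_le D c i₀ U j).trans (Uinf_le D c j.left (Uj D i₀ U j) κ)
  obtain ⟨L₁, hL₁def⟩ : ∃ L₁ : Γ(RefHull.homSh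
      ((Scheme.Modules.pullback (c.π.app κ.left)).obj G) F, Uinf D c i₀ S),
      L₁ = compSec (compSec (resSec hS1 (pbSec (c.π.app κ.left) e₁))
        (RefHull.ofHom ((DescH8.pbIso (c.π.app κ.left) (D.map κ.hom) (c.π.app j.left)
          (c.w κ.hom)).hom.app G₁) (Uinf D c i₀ S))) l₁ := ⟨_, rfl⟩
  obtain ⟨L₂, hL₂def⟩ : ∃ L₂ : Γ(RefHull.homSh
      ((Scheme.Modules.pullback (c.π.app κ.left)).obj G) F, Uinf D c i₀ U),
      L₂ = compSec (compSec (resSec hS2 (pbSec (c.π.app κ.left) e₂))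
        (RefHull.ofHom ((DescH8.pbIso (c.π.app κ.left) (D.map κ.hom) (c.π.app j.left)
          (c.w κ.hom)).hom.app G₂) (Uinf D c i₀ U))) l₂ := ⟨_, rfl⟩
  have hL₁b : ∀ y, Function.Bijective (L₁.1 y) := by
    intro y
    rw [hL₁def]
    exact compSec_bijective _ _ (fun y => compSec_bijective _ _
      (fun y => pbSec_bijective (c.π.app κ.left) e₁ he₁ ⟨y.1, hS1 y.2⟩)
      (fun y => stalkMapₗ_bijective_of_isIso _ y.1) y) hl₁ y
  have hL₂b : ∀ y, Function.Bijective (L₂.1 y) := by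
    intro y
    rw [hL₂def]
    exact compSec_bijective _ _ (fun y => compSec_bijective _ _
      (fun y => pbSec_bijective (c.π.app κ.left) e₂ he₂ ⟨y.1, hS2 y.2⟩)
      (fun y => stalkMapₗ_bijective_of_isIso _ y.1) y) hl₂ y
  have hL₁f : ∀ (s : c.pt) (h1 : s ∈ Uinf D c i₀ S) (g : G.presheaf.stalk (c.π.app κ.left s)),
      L₁.1 ⟨s, h1⟩ (PBH8.cStalkHom (c.π.app κ.left) G s g) =
        l₁.1 ⟨s, h1⟩ (trStalk (c.π.app κ.left) (D.map κ.hom) (c.π.app j.left) (c.w κ.hom) G₁ s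
          (e₁.1 ⟨c.π.app κ.left s, hS1 h1⟩ g)) := by
    intro s h1 g
    rw [hL₁def]
    change l₁.1 ⟨s, h1⟩ (RefHull.stalkMapₗ ((DescH8.pbIso (c.π.app κ.left) (D.map κ.hom)
      (c.π.app j.left) (c.w κ.hom)).hom.app G₁) s
      ((pbSec (c.π.app κ.left) e₁).1 ⟨s, hS1 h1⟩ (PBH8.cStalkHom (c.π.app κ.left) G s g))) = _
    rw [pbSec_apply]
    rfl
  have hL₂f : ∀ (s : c.pt) (h2 : s ∈ Uinf D c i₀ U) (g : G.presheaf.stalk (c.π.app κ.left s)),
      L₂.1 ⟨s, h2⟩ (PBH8.cStalkHom (c.π.app κ.left) G s g) =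
        l₂.1 ⟨s, h2⟩ (trStalk (c.π.app κ.left) (D.map κ.hom) (c.π.app j.left) (c.w κ.hom) G₂ s
          (e₂.1 ⟨c.π.app κ.left s, hS2 h2⟩ g)) := by
    intro s h2 g
    rw [hL₂def]
    change l₂.1 ⟨s, h2⟩ (RefHull.stalkMapₗ ((DescH8.pbIso (c.π.app κ.left) (D.map κ.hom)
      (c.π.app j.left) (c.w κ.hom)).hom.app G₂) s
      ((pbSec (c.π.app κ.left) e₂).1 ⟨s, hS2 h2⟩ (PBH8.cStalkHom (c.π.app κ.left) G s g))) = _
    rw [pbSec_apply]
    rfl
  have hagree : ∀ (s : c.pt) (h1 : s ∈ Uinf D c i₀ S) (h2 : s ∈ Uinf D c i₀ U),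
      L₁.1 ⟨s, h1⟩ = L₂.1 ⟨s, h2⟩ := by
    intro s h1 h2
    apply pbStalk_ext (c.π.app κ.left) G s
    intro g
    rw [hL₁f s h1 g, hL₂f s h2 g]
    have hsT : s ∈ Uinf D c j.left O₁₂ :=
      hO12 _ (Uinf_le D c i₀ S j h1) (Uinf_le D c i₀ U j h2)
    have hc1 := hcomp (c.π.app κ.left s) (hS1 h1) (hS2 h2) g
    have hc2 := hcompat s hsT (e₁.1 ⟨c.π.app κ.left s, hS1 h1⟩ g)
    have hc1' : mu.1 ⟨c.π.app κ.left s, Uinf_le D c j.left O₁₂ κ hsT⟩
        (e₁.1 ⟨c.π.app κ.left s, hS1 h1⟩ g) = e₂.1 ⟨c.π.app κ.left s, hS2 h2⟩ g := hc1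
    rw [← hc1', ← hc2, hlamdef]
    exact (apply_invSec_apply (resSec hT2 l₂) (fun y => hl₂ ⟨y.1, hT2 y.2⟩) ⟨s, hsT⟩ _).symm
  have hcov : Uinf D c i₀ (S ⊔ U) ≤ Uinf D c i₀ S ⊔ Uinf D c i₀ U := by
    intro s hs
    have hs' : (c.π.app i₀) s ∈ S ⊔ U := hs
    rcases Opens.mem_sup.mp hs' with h | h
    · exact Opens.mem_sup.mpr (Or.inl h)
    · exact Opens.mem_sup.mpr (Or.inr h)
  obtain ⟨L, hL1, hL2⟩ := exists_glue2 L₁ L₂ hagree (Uinf D c i₀ (S ⊔ U)) hcov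
  refine ⟨Over.mk (κ.hom ≫ j.hom), G, hG, L, ?_, ?_⟩
  · intro x hx
    have hx' : x ∈ (D.map κ.hom) ⁻¹ᵁ Uj D i₀ (S ⊔ U) j :=
      Uj_le D i₀ (S ⊔ U) (Over.homMk κ.hom rfl : Over.mk (κ.hom ≫ j.hom) ⟶ j) hx
    have hx'' : (D.map j.hom) ((D.map κ.hom) x) ∈ S ⊔ U := hx'
    rcases Opens.mem_sup.mp hx'' with h | h
    · have hx1 : x ∈ U₁' := by
        rw [hU₁'def]
        exact h
      exact FPAt.of_family e₁ he₁ hx1 (FPAt.pullback (D.map κ.hom) G₁ x (hfp₁ _ h))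
    · have hx2 : x ∈ U₂' := by
        rw [hU₂'def]
        exact h
      exact FPAt.of_family e₂ he₂ hx2 (FPAt.pullback (D.map κ.hom) G₂ x (hfp₂ _ h))
  · rintro ⟨s, hs⟩
    have hs' : (c.π.app i₀) s ∈ S ⊔ U := hs
    rcases Opens.mem_sup.mp hs' with h | h
    · rw [hL1 s hs h]
      exact hL₁b ⟨s, h⟩
    · rw [hL2 s hs h]
      exact hL₂b ⟨s, h⟩

include hc in
/-- The inductive step. -/
theorem good_union [QuasiSeparatedSpace (D.obj i₀)] [F.IsQuasicoherent]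
    {S U : (D.obj i₀).Opens} (hS : IsCompact (S : Set (D.obj i₀)))
    (hU : IsCompact (U : Set (D.obj i₀))) (h1 : Good D c i₀ F S) (h2 : Good D c i₀ F U) :
    Good D c i₀ F (S ⊔ U) := by
  obtain ⟨j₁, G₁, hG₁, l₁, hfp₁, hl₁⟩ := h1
  obtain ⟨j₂, G₂, hG₂, l₂, hfp₂, hl₂⟩ := h2
  haveI := hG₁
  haveI := hG₂
  obtain ⟨G₁', hG₁', l₁', hfp₁', hl₁'⟩ := good_stage_change D c i₀ F j₁ G₁ l₁ hfp₁ hl₁
    (IsCofiltered.minToLeft j₁ j₂)
  obtain ⟨G₂', hG₂', l₂', hfp₂', hl₂'⟩ := good_stage_change D c i₀ F j₂ G₂ l₂ hfp₂ hl₂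
    (IsCofiltered.minToRight j₁ j₂)
  haveI := hG₁'
  haveI := hG₂'
  exact good_union_aux D c hc i₀ F hS hU (IsCofiltered.min j₁ j₂) G₁' G₂' l₁' l₂' hfp₁' hfp₂'
    hl₁' hl₂'

include hc in
/-- **EGA IV 8.5.2 (ii).** -/
theorem main4788 [CompactSpace (D.obj i₀)] [QuasiSeparatedSpace (D.obj i₀)]
    [Coh.IsQCoh F] (hFfp : CohB1.IsFP F) :
    ∃ (i : I) (_ : i ⟶ i₀) (Fi : (D.obj i).Modules), Coh.IsQCoh Fi ∧ CohB1.IsFP Fi ∧
      Nonempty ((Scheme.Modules.pullback (c.π.app i)).obj Fi ≅ F) := by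
  haveI := hFfp
  haveI : F.IsQuasicoherent := ‹Coh.IsQCoh F›
  haveI hA' : ∀ {i j : I} (f : i ⟶ j), IsAffineHom (D.map f) := fun f => inferInstance
  haveI := isAffineHom_π_app D c hc i₀
  have key : Good D c i₀ F ⊤ := by
    apply compact_open_induction_on (P := fun W => Good D c i₀ F W) ⊤ isCompact_univ
    · refine ⟨Over.mk (𝟙 i₀), SheafOfModules.free (R := (D.obj i₀).ringCatSheaf) PUnit.{u+1},
        inferInstance, 0, ?_, ?_⟩
      · intro x hx
        exact False.elim hx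
      · intro s
        exact False.elim s.2
    · intro S hS U hSgood
      have hUgood : Good D c i₀ F U.1 := by
        have hfpU : Module.FinitePresentation Γ(c.pt, Uinf D c i₀ U.1) Γ(F, Uinf D c i₀ U.1) :=
          QCohFP2.finitePresentation_of_isFinitePresentation F (U.2.preimage (c.π.app i₀))
        exact exists_affine_descent D c hc i₀ U.2 F hfpU
      exact good_union D c hc i₀ F hS U.2.isCompact hSgood hUgood
  obtain ⟨j, G, hG, l, hfp, hl⟩ := key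
  haveI := hG
  have hGfp : SheafOfModules.IsFinitePresentation (R := (D.obj j.left).ringCatSheaf) G := by
    choose Q hQaff hxQ hQfp using fun x : D.obj j.left => hfp x trivial
    refine QCohFP2.isFinitePresentation_of_sections_cover G Q hQaff ?_ hQfp
    rw [eq_top_iff]
    intro x _
    exact Opens.mem_iSup.mpr ⟨x, hxQ x⟩
  refine ⟨j.left, j.hom, G, hG, hGfp, ?_⟩
  have htop : (⊤ : c.pt.Opens) ≤ Uinf D c i₀ ⊤ := fun s _ => trivial
  exact nonempty_iso_of_sec (resSec htop l) (fun y => hl ⟨y.1, htop y.2⟩)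

end Main

end Groth.Agent.Lib.LimDescMain
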