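import Mathlib
import Groth.Prelude.Def_EGA4Misc
import Groth.Agent.Lib.ConsProp4_helper7
import Groth.Agent.Lib.LimDescMain_helper2
import Groth.Agent.Lib.CohDev8_helper8
import Groth.Agent.Lib.Fpqc1_helper8
import Groth.Agent.Lib.Desc4_helper8

/-!
# Constructible properties of algebraic schemes with a coherent module (helper2)

Module analogue of helper7's `ConsProp1-4` (EGA IV 9.2.3, 9.2.6, 9.3.3 in the form with a module):

* `locusMod_baseChange`: the locus of a field-stable relation with a module commutes with base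
  change.
* `isConstructible_locusMod`, `isIndConstructible_locusMod`: Noetherian base.
* `exists_descend_mod`: descent of `(X ⟶ lim S_i, F)` to a stage (uses `main591` and `main4788`).
* `exists_noetherian_model_mod(_of_isAffine)`.
* `main5878`, `main5879`, `main5882`, `main5883`, `main5892`.
APPEND-ONLY once landed.
-/

set_option autoImplicit false
set_option linter.style.haveILetI false
set_option linter.unusedVariables false
universe u
open CategoryTheory CategoryTheory.Limits AlgebraicGeometry TopologicalSpace Topology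
open Set.Notation

namespace Groth.Agent.Lib.ConsModH2

open Groth.Agent.Lib.ConsPropH7 Groth.Agent.Lib.LimBaseChangeH7 Groth.Agent.Lib.LimDescFPH7

variable {P : ∀ ⦃Y T : Scheme.{u}⦄, (Y ⟶ T) → Y.Modules → Prop}

section Basic

/-- The pullback of a coherent (quasi-coherent of finite type) module is coherent. -/
theorem isCoh_pullback {X Y : Scheme.{u}} (f : X ⟶ Y) (F : Y.Modules) (hF : Coh.IsCoh F) :
    Coh.IsCoh ((Scheme.Modules.pullback f).obj F) := by
  haveI : F.IsQuasicoherent := hF.1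
  haveI : SheafOfModules.IsFiniteType (R := Y.ringCatSheaf) F := hF.2
  exact ⟨inferInstance, FpqcH8.isFiniteType_pullback f F⟩

/-- A quasi-coherent module of finite presentation is coherent in the sense of the prelude. -/
theorem isCoh_of_isFP {X : Scheme.{u}} (F : X.Modules) [Coh.IsQCoh F] (hF : CohB1.IsFP F) :
    Coh.IsCoh F := by
  haveI := hF
  exact ⟨‹Coh.IsQCoh F›, inferInstance⟩

/-- The locus of a field-stable relation with a module commutes with base change. -/
theorem locusMod_baseChange (hP : ConsProp.IsFieldStableMod P) {X S X' S' : Scheme.{u}}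
    (u : X ⟶ S) [LocallyOfFiniteType u] [QuasiCompact u] (h : S' ⟶ S) (e : X' ⟶ X)
    (u' : X' ⟶ S') (sq : IsPullback e u' u h) (F : X.Modules) (hF : Coh.IsCoh F)
    (F' : X'.Modules) (α : F' ≅ (Scheme.Modules.pullback e).obj F) (s' : S') :
    s' ∈ ConsProp.locusMod P u' F' ↔ h s' ∈ ConsProp.locusMod P u F := by
  obtain ⟨θ, hθ1, hθ2, sqF⟩ : ∃ θ : u'.fiber s' ⟶ u.fiber (h s'),
      θ ≫ u.fiberι (h s') = u'.fiberι s' ≫ e ∧
      θ ≫ u.fiberToSpecResidueField (h s') =
        u'.fiberToSpecResidueField s' ≫ Spec.map (h.residueFieldMap s') ∧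
      IsPullback θ (u'.fiberToSpecResidueField s') (u.fiberToSpecResidueField (h s'))
        (Spec.map (h.residueFieldMap s')) :=
    ⟨_, pullback.lift_fst _ _ _, pullback.lift_snd _ _ _,
      isPullback_fiberToSpecResidueField_of_isPullback sq s'⟩
  haveI : LocallyOfFiniteType (u.fiberToSpecResidueField (h s')) :=
    MorphismProperty.pullback_snd _ _ inferInstance
  haveI : QuasiCompact (u.fiberToSpecResidueField (h s')) :=
    MorphismProperty.pullback_snd _ _ inferInstance
  have hcoh : Coh.IsCoh ((Scheme.Modules.pullback (u.fiberι (h s'))).obj F) :=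
    isCoh_pullback _ F hF
  let β : (Scheme.Modules.pullback (u'.fiberι s')).obj F' ≅
      (Scheme.Modules.pullback θ).obj ((Scheme.Modules.pullback (u.fiberι (h s'))).obj F) :=
    (Scheme.Modules.pullback (u'.fiberι s')).mapIso α ≪≫
      (DescH8.pbIso (u'.fiberι s') e (u'.fiberι s' ≫ e) rfl).app F ≪≫
      ((DescH8.pbIso θ (u.fiberι (h s')) (u'.fiberι s' ≫ e) hθ1).app F).symm
  exact (hP (u.fiberToSpecResidueField (h s')) (u'.fiberToSpecResidueField s') θ _ sqF
    ((Scheme.Modules.pullback (u.fiberι (h s'))).obj F)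
    ((Scheme.Modules.pullback (u'.fiberι s')).obj F') hcoh β).symm

end Basic

section Noeth

/-- Over a Noetherian base the locus of a constructible relation with a module is
constructible. -/
theorem isConstructible_locusMod (hP : ConsProp.IsConsMod P) {X S : Scheme.{u}} (u : X ⟶ S)
    [IsNoetherian S] [LocallyOfFiniteType u] [QuasiCompact u] (F : X.Modules)
    (hF : Coh.IsCoh F) : IsConstructible (ConsProp.locusMod P u F) := by
  apply isConstructible_of_forall_generic
  intro ξ
  obtain ⟨I, hint, hN, hgen, hrange⟩ := exists_red_closure ξ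
  haveI := hint
  haveI := hN
  have sq := IsPullback.of_hasPullback u I.subschemeι
  have hF' := isCoh_pullback (pullback.fst u I.subschemeι) F hF
  have hloc : ∀ t : I.subscheme,
      t ∈ ConsProp.locusMod P (pullback.snd u I.subschemeι)
        ((Scheme.Modules.pullback (pullback.fst u I.subschemeι)).obj F) ↔
        I.subschemeι t ∈ ConsProp.locusMod P u F :=
    fun t => locusMod_baseChange hP.1 u I.subschemeι _ _ sq F hF _ (Iso.refl _) t
  rcases hP.2 (pullback.snd u I.subschemeι)
    ((Scheme.Modules.pullback (pullback.fst u I.subschemeι)).obj F) hF' with h1 | h1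
  · obtain ⟨U, hU, hξU, hsub⟩ := exists_open_of_subscheme ξ I hgen hrange _
      (ConsProp.locusMod P u F) isOpen_interior h1
      (fun t ht => (hloc t).mp (interior_subset ht))
    exact ⟨U, hU, hξU, Or.inl hsub⟩
  · obtain ⟨U, hU, hξU, hsub⟩ := exists_open_of_subscheme ξ I hgen hrange _
      (ConsProp.locusMod P u F)ᶜ isOpen_interior h1
      (fun t ht hcon => interior_subset ht ((hloc t).mpr hcon))
    exact ⟨U, hU, hξU, Or.inr hsub⟩

/-- Over a Noetherian base the locus of an ind-constructible relation with a module is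
ind-constructible. -/
theorem isIndConstructible_locusMod (hP : ConsProp.IsIndConsMod P) {X S : Scheme.{u}}
    (u : X ⟶ S) [IsNoetherian S] [LocallyOfFiniteType u] [QuasiCompact u] (F : X.Modules)
    (hF : Coh.IsCoh F) : ProCons.IsIndConstructible (ConsProp.locusMod P u F) := by
  rw [Groth.Agent.Lib.ProConsNoethH8.isIndConstructible_iff_nhds]
  intro ξ hξ
  obtain ⟨I, hint, hN, hgen, hrange⟩ := exists_red_closure ξ
  haveI := hint
  haveI := hN
  have sq := IsPullback.of_hasPullback u I.subschemeι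
  have hF' := isCoh_pullback (pullback.fst u I.subschemeι) F hF
  have hloc : ∀ t : I.subscheme,
      t ∈ ConsProp.locusMod P (pullback.snd u I.subschemeι)
        ((Scheme.Modules.pullback (pullback.fst u I.subschemeι)).obj F) ↔
        I.subschemeι t ∈ ConsProp.locusMod P u F :=
    fun t => locusMod_baseChange hP.1 u I.subschemeι _ _ sq F hF _ (Iso.refl _) t
  have hη : genericPoint I.subscheme ∈ ConsProp.locusMod P (pullback.snd u I.subschemeι)
      ((Scheme.Modules.pullback (pullback.fst u I.subschemeι)).obj F) := by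
    rw [hloc, hgen]
    exact hξ
  have h1 := hP.2 (pullback.snd u I.subschemeι)
    ((Scheme.Modules.pullback (pullback.fst u I.subschemeι)).obj F) hF' hη
  obtain ⟨U, hU, hξU, hsub⟩ := exists_open_of_subscheme ξ I hgen hrange _
    (ConsProp.locusMod P u F) isOpen_interior h1
    (fun t ht => (hloc t).mp (interior_subset ht))
  exact Filter.mem_of_superset ((hU.preimage continuous_subtype_val).mem_nhds hξU)
    (fun z hz => hsub ⟨hz, z.2⟩)

end Noeth

section Descend

/-- A finitely presented morphism `X ⟶ lim S_i` with a finitely presented quasi-coherent module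
descends to a stage. -/
theorem exists_descend_mod {I : Type u} [SmallCategory I] [IsCofiltered I]
    (D : I ⥤ Scheme.{u}) (c : Cone D) (hc : IsLimit c)
    [∀ (i j : I) (a : i ⟶ j), IsAffineHom (D.map a)] [∀ i, CompactSpace (D.obj i)]
    [∀ i, QuasiSeparatedSpace (D.obj i)] {X : Scheme.{u}} (u : X ⟶ c.pt)
    [LocallyOfFinitePresentation u] [QuasiCompact u] [QuasiSeparated u]
    (F : X.Modules) [Coh.IsQCoh F] (hF : CohB1.IsFP F) :
    ∃ (i : I) (Xi : Scheme.{u}) (ui : Xi ⟶ D.obj i) (q : X ⟶ Xi) (Fi : Xi.Modules),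
      LocallyOfFinitePresentation ui ∧ QuasiCompact ui ∧ QuasiSeparated ui ∧
        IsPullback q u ui (c.π.app i) ∧ Coh.IsQCoh Fi ∧ CohB1.IsFP Fi ∧
        Nonempty ((Scheme.Modules.pullback q).obj Fi ≅ F) := by
  obtain ⟨i₁, X₁, u₁, q₁, hlfp₁, hqc₁, hqs₁, hpb₁⟩ := main591 hc X u
  haveI := hlfp₁
  haveI := hqc₁
  haveI := hqs₁
  haveI : CompactSpace X₁ := QuasiCompact.compactSpace_of_compactSpace u₁
  haveI : QuasiSeparatedSpace X₁ := quasiSeparatedSpace_of_quasiSeparated u₁
  let F' : (bcCone c hpb₁).pt.Modules := F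
  haveI : Coh.IsQCoh F' := ‹Coh.IsQCoh F›
  have hF' : CohB1.IsFP F' := hF
  haveI : ∀ (j k : Over i₁) (g : j ⟶ k), IsAffineHom ((bcDiagram D i₁ u₁).map g) :=
    fun j k g => inferInstance
  haveI : CompactSpace ((bcDiagram D i₁ u₁).obj (Over.mk (𝟙 i₁))) := inferInstance
  haveI : QuasiSeparatedSpace ((bcDiagram D i₁ u₁).obj (Over.mk (𝟙 i₁))) := inferInstance
  obtain ⟨j, -, Fj, hq, hfp, ⟨ε⟩⟩ :=
    Groth.Agent.Lib.LimDescMain.main4788 (bcDiagram D i₁ u₁) (bcCone c hpb₁)
      (isLimitBcCone c hpb₁ hc) (Over.mk (𝟙 i₁)) F' hF'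
  refine ⟨j.left, pullback u₁ (D.map j.hom), pullback.snd u₁ (D.map j.hom),
    (bcCone c hpb₁).π.app j, Fj, MorphismProperty.pullback_snd _ _ inferInstance,
    MorphismProperty.pullback_snd _ _ inferInstance,
    MorphismProperty.pullback_snd _ _ inferInstance, isPullback_bcCone_π c hpb₁ j, hq, hfp, ⟨ε⟩⟩

end Descend

section Affine

/-- descent of a finitely presented morphism with module over `Spec A` to a Noetherian base -/
theorem exists_noetherian_model_mod (A : Type u) [CommRing A] {X : Scheme.{u}}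
    (u : X ⟶ Spec (CommRingCat.of A))
    [LocallyOfFinitePresentation u] [QuasiCompact u] [QuasiSeparated u]
    (F : X.Modules) [Coh.IsQCoh F] (hF : CohB1.IsFP F) :
    ∃ (S₀ X₀ : Scheme.{u}) (_ : IsNoetherian S₀) (u₀ : X₀ ⟶ S₀)
      (h : Spec (CommRingCat.of A) ⟶ S₀) (q : X ⟶ X₀) (F₀ : X₀.Modules),
      LocallyOfFiniteType u₀ ∧ QuasiCompact u₀ ∧ IsPullback q u u₀ h ∧ Coh.IsCoh F₀ ∧
        Nonempty ((Scheme.Modules.pullback q).obj F₀ ≅ F) := by
  letI : Algebra (ULift.{u} ℤ) A := ULift.algebra' ℤ A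
  haveI : ∀ i, CompactSpace ((DS (ULift.{u} ℤ) A).obj i) := fun i => inferInstance
  haveI : ∀ i, QuasiSeparatedSpace ((DS (ULift.{u} ℤ) A).obj i) := fun i => inferInstance
  let u' : X ⟶ (coneS (ULift.{u} ℤ) A).pt := u
  haveI : LocallyOfFinitePresentation u' := ‹LocallyOfFinitePresentation u›
  haveI : QuasiCompact u' := ‹QuasiCompact u›
  haveI : QuasiSeparated u' := ‹QuasiSeparated u›
  obtain ⟨i, Xi, ui, q, Fi, h1, h2, h3, h4, h5, h6, h7⟩ :=
    exists_descend_mod (DS (ULift.{u} ℤ) A) (coneS (ULift.{u} ℤ) A)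
      (isLimitConeS (ULift.{u} ℤ) A) u' F hF
  haveI := h1
  haveI := h5
  exact ⟨_, Xi, isNoetherian_stage A i, ui, (coneS (ULift.{u} ℤ) A).π.app i, q, Fi,
    inferInstance, h2, h4, isCoh_of_isFP Fi h6, h7⟩

/-- descent of a finitely presented morphism with module over an affine scheme to a Noetherian
base -/
theorem exists_noetherian_model_mod_of_isAffine {X S : Scheme.{u}} [IsAffine S] (u : X ⟶ S)
    [LocallyOfFinitePresentation u] [QuasiCompact u] [QuasiSeparated u]
    (F : X.Modules) [Coh.IsQCoh F] (hF : CohB1.IsFP F) :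
    ∃ (S₀ X₀ : Scheme.{u}) (_ : IsNoetherian S₀) (u₀ : X₀ ⟶ S₀) (h : S ⟶ S₀) (q : X ⟶ X₀)
      (F₀ : X₀.Modules),
      LocallyOfFiniteType u₀ ∧ QuasiCompact u₀ ∧ IsPullback q u u₀ h ∧ Coh.IsCoh F₀ ∧
        Nonempty ((Scheme.Modules.pullback q).obj F₀ ≅ F) := by
  let e : S ⟶ Spec (CommRingCat.of Γ(S, ⊤)) := S.isoSpec.hom
  haveI : IsIso e := inferInstanceAs (IsIso S.isoSpec.hom)
  haveI : LocallyOfFinitePresentation (u ≫ e) := inferInstance
  haveI : QuasiCompact (u ≫ e) := inferInstance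
  haveI : QuasiSeparated (u ≫ e) := inferInstance
  obtain ⟨S₀, X₀, hN, u₀, h, q, F₀, h1, h2, h3, h4, h5⟩ :=
    exists_noetherian_model_mod Γ(S, ⊤) (u ≫ e) F hF
  refine ⟨S₀, X₀, hN, u₀, e ≫ h, q, F₀, h1, h2, ?_, h4, h5⟩
  have hiso : IsPullback (𝟙 X) u (u ≫ e) e := IsPullback.of_horiz_isIso ⟨by simp⟩
  have h7 := hiso.paste_horiz h3
  simpa using h7

/-- Over an affine base the locus of a constructible relation with a module is constructible. -/
theorem isConstructible_locusMod_of_isAffine (hP : ConsProp.IsConsMod P) {X S : Scheme.{u}}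
    [IsAffine S] (u : X ⟶ S)
    [LocallyOfFinitePresentation u] [QuasiCompact u] [QuasiSeparated u]
    (F : X.Modules) [Coh.IsQCoh F] (hF : CohB1.IsFP F) :
    IsConstructible (ConsProp.locusMod P u F) := by
  obtain ⟨S₀, X₀, hN, u₀, h, q, F₀, h1, h2, h3, h4, ⟨ε⟩⟩ :=
    exists_noetherian_model_mod_of_isAffine u F hF
  haveI := hN
  haveI := h1
  haveI := h2
  have e : ConsProp.locusMod P u F = h ⁻¹' ConsProp.locusMod P u₀ F₀ := by
    ext s
    exact locusMod_baseChange hP.1 u₀ h q u h3 F₀ h4 F ε.symm s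
  rw [e]
  exact h.isConstructible_preimage (isConstructible_locusMod hP u₀ F₀ h4)

/-- Over an affine base the locus of an ind-constructible relation with a module is
ind-constructible. -/
theorem isIndConstructible_locusMod_of_isAffine (hP : ConsProp.IsIndConsMod P)
    {X S : Scheme.{u}} [IsAffine S] (u : X ⟶ S)
    [LocallyOfFinitePresentation u] [QuasiCompact u] [QuasiSeparated u]
    (F : X.Modules) [Coh.IsQCoh F] (hF : CohB1.IsFP F) :
    ProCons.IsIndConstructible (ConsProp.locusMod P u F) := by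
  obtain ⟨S₀, X₀, hN, u₀, h, q, F₀, h1, h2, h3, h4, ⟨ε⟩⟩ :=
    exists_noetherian_model_mod_of_isAffine u F hF
  haveI := hN
  haveI := h1
  haveI := h2
  have e : ConsProp.locusMod P u F = h.base ⁻¹' ConsProp.locusMod P u₀ F₀ := by
    ext s
    exact locusMod_baseChange hP.1 u₀ h q u h3 F₀ h4 F ε.symm s
  rw [e]
  exact Groth.Agent.Lib.ProConsSchH8.isIndConstructible_preimage h _
    (isIndConstructible_locusMod hP u₀ F₀ h4)

end Affine

section General

/-- restriction of the locus to an open subscheme -/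
theorem locusMod_restrict (hP : ConsProp.IsFieldStableMod P) {X S : Scheme.{u}} (u : X ⟶ S)
    [LocallyOfFiniteType u] [QuasiCompact u] (F : X.Modules) (hF : Coh.IsCoh F)
    (U : S.Opens) :
    ((U : Set S) ↓∩ ConsProp.locusMod P u F) =
      ConsProp.locusMod P (pullback.snd u U.ι)
        ((Scheme.Modules.pullback (pullback.fst u U.ι)).obj F) := by
  ext t
  exact (locusMod_baseChange hP u U.ι _ _ (IsPullback.of_hasPullback u U.ι) F hF _
    (Iso.refl _) t).symm

theorem isConstructible_locusMod_restrict (hP : ConsProp.IsConsMod P) {X S : Scheme.{u}}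
    (u : X ⟶ S) [LocallyOfFinitePresentation u] [QuasiCompact u] [QuasiSeparated u]
    (F : X.Modules) [Coh.IsQCoh F] (hF : CohB1.IsFP F) (U : S.Opens) (hU : IsAffineOpen U) :
    IsConstructible ((U : Set S) ↓∩ ConsProp.locusMod P u F) := by
  haveI : IsAffine (U : Scheme.{u}) := hU
  haveI := hF
  haveI : F.IsQuasicoherent := ‹Coh.IsQCoh F›
  haveI : LocallyOfFinitePresentation (pullback.snd u U.ι) :=
    MorphismProperty.pullback_snd _ _ inferInstance
  haveI : QuasiCompact (pullback.snd u U.ι) := MorphismProperty.pullback_snd _ _ inferInstance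
  haveI : QuasiSeparated (pullback.snd u U.ι) := MorphismProperty.pullback_snd _ _ inferInstance
  rw [locusMod_restrict hP.1 u F (isCoh_of_isFP F hF) U]
  haveI : Coh.IsQCoh ((Scheme.Modules.pullback (pullback.fst u U.ι)).obj F) :=
    PBH8.isQuasicoherent_pullback _ F
  exact isConstructible_locusMod_of_isAffine hP _ _ (FpqcH8.isFP_pullback _ F)

theorem exists_sUnion_locusMod_restrict (hP : ConsProp.IsIndConsMod P) {X S : Scheme.{u}}
    (u : X ⟶ S) [LocallyOfFinitePresentation u] [QuasiCompact u] [QuasiSeparated u]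
    (F : X.Modules) [Coh.IsQCoh F] (hF : CohB1.IsFP F) (U : S.Opens) (hU : IsAffineOpen U) :
    ∃ 𝒮 : Set (Set ↥(U : Set S)), (∀ T ∈ 𝒮, IsLocallyConstructible T) ∧
      ((U : Set S) ↓∩ ConsProp.locusMod P u F) = ⋃₀ 𝒮 := by
  haveI : IsAffine (U : Scheme.{u}) := hU
  haveI := hF
  haveI : F.IsQuasicoherent := ‹Coh.IsQCoh F›
  haveI : LocallyOfFinitePresentation (pullback.snd u U.ι) :=
    MorphismProperty.pullback_snd _ _ inferInstance
  haveI : QuasiCompact (pullback.snd u U.ι) := MorphismProperty.pullback_snd _ _ inferInstance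
  haveI : QuasiSeparated (pullback.snd u U.ι) := MorphismProperty.pullback_snd _ _ inferInstance
  haveI : Coh.IsQCoh ((Scheme.Modules.pullback (pullback.fst u U.ι)).obj F) :=
    PBH8.isQuasicoherent_pullback _ F
  have hind := isIndConstructible_locusMod_of_isAffine hP (pullback.snd u U.ι)
    ((Scheme.Modules.pullback (pullback.fst u U.ι)).obj F) (FpqcH8.isFP_pullback _ F)
  have hpro := Groth.Agent.Lib.ProConsCptH8.isProConstructible_compl hind
  haveI k1 : CompactSpace (U : Scheme.{u}) := inferInstance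
  haveI k2 : PrespectralSpace (U : Scheme.{u}) := inferInstance
  haveI k3 : QuasiSeparatedSpace (U : Scheme.{u}) := inferInstance
  obtain ⟨𝒮, h𝒮, hE⟩ := Groth.Agent.Lib.ProConsAffH8.exists_sInter_of_pro
    (Y := (U : Scheme.{u})) hpro
  refine ⟨compl '' 𝒮, ?_, ?_⟩
  · rintro _ ⟨T, hT, rfl⟩
    exact (h𝒮 T hT).compl.isLocallyConstructible
  · have e := locusMod_restrict hP.1 u F (isCoh_of_isFP F hF) U
    have e2 : ConsProp.locusMod P (pullback.snd u U.ι)
        ((Scheme.Modules.pullback (pullback.fst u U.ι)).obj F) = ⋃₀ (compl '' 𝒮) := by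
      rw [← Set.compl_sInter, ← hE, compl_compl]
    exact e.trans e2

/-- **S5878** -/
theorem main5878 (hP : ConsProp.IsConsMod P) {X S : Scheme.{u}} (u : X ⟶ S)
    [LocallyOfFinitePresentation u] [QuasiCompact u] [QuasiSeparated u]
    (F : X.Modules) [Coh.IsQCoh F] (hF : CohB1.IsFP F) :
    IsLocallyConstructible (ConsProp.locusMod P u F) := by
  intro x
  obtain ⟨_, ⟨U, hU, rfl⟩, hxU, -⟩ :=
    S.isBasis_affineOpens.exists_subset_of_mem_open (Set.mem_univ x) isOpen_univ
  exact ⟨U, U.2.mem_nhds hxU, U.2, isConstructible_locusMod_restrict hP u F hF U hU⟩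

/-- **S5879** -/
theorem main5879 (hP : ConsProp.IsIndConsMod P) {X S : Scheme.{u}} (u : X ⟶ S)
    [LocallyOfFinitePresentation u] [QuasiCompact u] [QuasiSeparated u]
    (F : X.Modules) [Coh.IsQCoh F] (hF : CohB1.IsFP F) :
    ProCons.IsIndConstructible (ConsProp.locusMod P u F) := by
  intro x
  obtain ⟨_, ⟨U, hU, rfl⟩, hxU, -⟩ :=
    S.isBasis_affineOpens.exists_subset_of_mem_open (Set.mem_univ x) isOpen_univ
  obtain ⟨𝒮, h1, h2⟩ := exists_sUnion_locusMod_restrict hP u F hF U hU
  exact ⟨U, U.2, hxU, 𝒮, h1, h2⟩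

/-- **S5882** -/
theorem main5882 (hP : ConsProp.IsConsMod P) {X S : Scheme.{u}} [IrreducibleSpace S]
    (u : X ⟶ S) [LocallyOfFinitePresentation u] [QuasiCompact u] [QuasiSeparated u]
    (F : X.Modules) [Coh.IsQCoh F] (hF : CohB1.IsFP F) :
    genericPoint S ∈ interior (ConsProp.locusMod P u F) ∨
      genericPoint S ∈ interior (ConsProp.locusMod P u F)ᶜ := by
  obtain ⟨_, ⟨U, hU, rfl⟩, hηU, -⟩ :=
    S.isBasis_affineOpens.exists_subset_of_mem_open (Set.mem_univ (genericPoint S)) isOpen_univ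
  have hc := isConstructible_locusMod_restrict hP u F hF U hU
  have hgen : IsGenericPoint (⟨genericPoint S, hηU⟩ : ((U : S.Opens) : Set S)) Set.univ := by
    show closure _ = _
    apply Set.eq_univ_of_forall
    intro y
    rw [closure_subtype, Set.image_singleton, (genericPoint_spec S).def]
    exact Set.mem_univ _
  obtain ⟨W, hW, hηW, hcase⟩ :=
    Groth.Agent.Lib.Constr_lead.exists_open_generic_of_isConstructible hc hgen
  have hWo : IsOpen (Subtype.val '' W) := U.2.isOpenMap_subtype_val W hW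
  have hηW' : genericPoint S ∈ Subtype.val '' W := ⟨_, hηW, rfl⟩
  rcases hcase with h1 | h1
  · left
    refine mem_interior.mpr ⟨Subtype.val '' W, ?_, hWo, hηW'⟩
    rintro _ ⟨w, hw, rfl⟩
    exact h1 ⟨hw, trivial⟩
  · right
    refine mem_interior.mpr ⟨Subtype.val '' W, ?_, hWo, hηW'⟩
    rintro _ ⟨w, hw, rfl⟩
    exact h1 ⟨hw, trivial⟩

/-- **S5883** -/
theorem main5883 (hP : ConsProp.IsIndConsMod P) {X S : Scheme.{u}} [IrreducibleSpace S]
    (u : X ⟶ S) [LocallyOfFinitePresentation u] [QuasiCompact u] [QuasiSeparated u]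
    (F : X.Modules) [Coh.IsQCoh F] (hF : CohB1.IsFP F)
    (hη : genericPoint S ∈ ConsProp.locusMod P u F) :
    genericPoint S ∈ interior (ConsProp.locusMod P u F) := by
  rw [Groth.Agent.Lib.ProConsLocH8.mem_interior_iff S _ (main5879 hP u F hF)]
  intro x' hx'
  have hx : x' = genericPoint S := (hx'.antisymm (genericPoint_specializes x')).eq
  rw [hx]
  exact hη

/-- **S5892** -/
theorem main5892 (hP : ConsProp.IsIndConsMod P)
    {I : Type u} [SmallCategory I] [IsCofiltered I]
    (D : I ⥤ Scheme.{u}) (c : Limits.Cone D) (hc : Limits.IsLimit c)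
    [∀ (i j : I) (a : i ⟶ j), IsAffineHom (D.map a)] (i₀ : I) [CompactSpace ↥(D.obj i₀)]
    {X₀ : Scheme.{u}} (u₀ : X₀ ⟶ D.obj i₀)
    [LocallyOfFinitePresentation u₀] [QuasiCompact u₀] [QuasiSeparated u₀]
    (F₀ : X₀.Modules) [Coh.IsQCoh F₀] (hF₀ : CohB1.IsFP F₀)
    {X : Scheme.{u}} (u : X ⟶ c.pt) (q : X ⟶ X₀) (hX : IsPullback q u u₀ (c.π.app i₀)) :
    (∀ s : ↥c.pt, s ∈ ConsProp.locusMod P u ((Scheme.Modules.pullback q).obj F₀)) ↔
      ∃ (j : I) (φ : j ⟶ i₀) (Xj : Scheme.{u}) (uj : Xj ⟶ D.obj j) (p : Xj ⟶ X₀),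
        IsPullback p uj u₀ (D.map φ) ∧
          ∀ t : ↥(D.obj j),
            t ∈ ConsProp.locusMod P uj ((Scheme.Modules.pullback p).obj F₀) := by
  have hind := main5879 hP u₀ F₀ hF₀
  have hpro := Groth.Agent.Lib.ProConsCptH8.isProConstructible_compl hind
  have hcoh₀ : Coh.IsCoh F₀ := isCoh_of_isFP F₀ hF₀
  have hbc : ∀ s : c.pt, s ∈ ConsProp.locusMod P u ((Scheme.Modules.pullback q).obj F₀) ↔
      c.π.app i₀ s ∈ ConsProp.locusMod P u₀ F₀ :=
    fun s => locusMod_baseChange hP.1 u₀ (c.π.app i₀) q u hX F₀ hcoh₀ _ (Iso.refl _) s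
  constructor
  · intro hall
    have hcpt : IsCompact ((⊤ : (D.obj i₀).Opens) : Set (D.obj i₀)) := by
      rw [Opens.coe_top]
      exact isCompact_univ
    obtain ⟨j, φ, hj⟩ := Groth.Agent.Lib.LimProConsH7.exists_preimage_inter_eq_empty D c hc i₀
      (ConsProp.locusMod P u₀ F₀)ᶜ hpro ⊤ hcpt
      (fun y hy => absurd ((hbc y).mp (hall y)) hy)
    have hXj := IsPullback.of_hasPullback u₀ (D.map φ)
    refine ⟨j, φ, _, pullback.snd u₀ (D.map φ), pullback.fst u₀ (D.map φ), hXj, ?_⟩
    intro t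
    rw [locusMod_baseChange hP.1 u₀ (D.map φ) _ _ hXj F₀ hcoh₀ _ (Iso.refl _) t]
    by_contra hcon
    exact hj t hcon (Opens.mem_top _)
  · rintro ⟨j, φ, Xj, uj, p, hXj, hall⟩ s
    rw [hbc]
    have h1 := (locusMod_baseChange hP.1 u₀ (D.map φ) p uj hXj F₀ hcoh₀ _ (Iso.refl _)
      (c.π.app j s)).mp (hall _)
    have h2 : D.map φ (c.π.app j s) = c.π.app i₀ s := by
      rw [← Scheme.Hom.comp_apply, c.w]
    rwa [h2] at h1

end General

end Groth.Agent.Lib.ConsModH2
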