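import Mathlib
import Groth.Prelude

/-!
# The pulled-back ideal sheaf on affine opens (helper8)
APPEND-ONLY once landed.

`(J.comap f)(V) = J(U)·O_Y(V)` for affine opens `V ⊆ f⁻¹U`.
-/

set_option autoImplicit false

namespace ChevAH8

open AlgebraicGeometry CategoryTheory CategoryTheory.Limits TopologicalSpace Opposite

universe u

variable {X Y : Scheme.{u}}

/-- The easy inclusion: `f^♯(J(U)) ⊆ (J.comap f)(V)`. -/
theorem map_ideal_le_ideal_comap (f : Y ⟶ X) (J : X.IdealSheafData) (U : X.affineOpens)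
    (V : Y.affineOpens) (hVU : V.1 ≤ f ⁻¹ᵁ U.1) :
    Ideal.map (f.appLE U.1 V.1 hVU).hom (J.ideal U) ≤ (J.comap f).ideal V := by
  rw [Ideal.map_le_iff_le_comap]
  intro a ha
  rw [Ideal.mem_comap]
  set K := J.comap f with hK
  have h1 : J ≤ K.map f := Scheme.IdealSheafData.le_map_comap J f
  have h2 : a ∈ (K.map f).ideal U := h1 U ha
  have h3 : a ∈ RingHom.ker ((K.subschemeι ≫ f).app U.1).hom :=
    Scheme.Hom.ideal_ker_le _ U h2
  rw [RingHom.mem_ker] at h3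
  replace h3 : (K.subschemeι.app (f ⁻¹ᵁ U.1)).hom ((f.app U.1).hom a) = 0 := h3
  rw [← K.ker_subschemeι_app V, RingHom.mem_ker]
  have h4 : (f.appLE U.1 V.1 hVU ≫ K.subschemeι.app V.1) =
      f.app U.1 ≫ K.subschemeι.app (f ⁻¹ᵁ U.1) ≫ K.subscheme.presheaf.map
        (homOfLE (show K.subschemeι ⁻¹ᵁ V.1 ≤ K.subschemeι ⁻¹ᵁ (f ⁻¹ᵁ U.1) from
          fun x hx => hVU hx)).op := by
    rw [Scheme.Hom.appLE, Category.assoc]
    congr 1
    exact K.subschemeι.naturality (homOfLE hVU).op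
  have h5 := congrArg (fun φ => φ.hom a) h4
  simp only [CommRingCat.hom_comp, RingHom.comp_apply] at h5
  rw [h5, h3, map_zero]

/-- The hard inclusion: `(J.comap f)(V) ⊆ J(U)·O_Y(V)`. -/
theorem ideal_comap_le_map_ideal (f : Y ⟶ X) (J : X.IdealSheafData) (U : X.affineOpens)
    (V : Y.affineOpens) (hVU : V.1 ≤ f ⁻¹ᵁ U.1) :
    (J.comap f).ideal V ≤ Ideal.map (f.appLE U.1 V.1 hVU).hom (J.ideal U) := by
  set φ := (f.appLE U.1 V.1 hVU).hom with hφ
  set 𝔟 := Ideal.map φ (J.ideal U) with h𝔟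
  let R : CommRingCat := .of (Γ(Y, V.1) ⧸ 𝔟)
  let mkb : Γ(Y, V.1) ⟶ R := CommRingCat.ofHom (Ideal.Quotient.mk 𝔟)
  let t : Spec R ⟶ Y := Spec.map mkb ≫ V.2.fromSpec
  let ψ : CommRingCat.of (Γ(X, U.1) ⧸ J.ideal U) ⟶ R :=
    CommRingCat.ofHom (Ideal.quotientMap 𝔟 φ Ideal.le_comap_map)
  obtain ⟨c, hc⟩ : ∃ c : Spec (.of (Γ(X, U.1) ⧸ J.ideal U)) ⟶ J.subscheme, c ≫ J.subschemeι =
      Spec.map (CommRingCat.ofHom (Ideal.Quotient.mk (J.ideal U))) ≫ U.2.fromSpec :=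
    ⟨_, (J.subschemeCover_map_subschemeι U).trans (J.glueDataObjι_ι U)⟩
  let g : Spec R ⟶ J.subscheme := Spec.map ψ ≫ c
  have hg : g ≫ J.subschemeι = t ≫ f := by
    simp only [g, t, Category.assoc]
    rw [hc, ← IsAffineOpen.SpecMap_appLE_fromSpec f U.2 V.2 hVU, ← Spec.map_comp_assoc,
      ← Spec.map_comp_assoc]
    congr 2
  have hle : J.comap f ≤ t.ker := by
    rw [← Scheme.IdealSheafData.le_map_iff_comap_le, Scheme.IdealSheafData.map_ker, ← hg]
    calc J = J.subschemeι.ker := J.ker_subschemeι.symm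
      _ ≤ (g ≫ J.subschemeι).ker := Scheme.Hom.le_ker_comp g _
  intro b hb
  have h1 : b ∈ RingHom.ker (t.app V.1).hom := Scheme.Hom.ideal_ker_le t V (hle V hb)
  have htop : t ⁻¹ᵁ V.1 = ⊤ := by
    simp only [t, Scheme.Hom.comp_preimage, IsAffineOpen.fromSpec_preimage_self]
    rfl
  have hle' : (⊤ : (Spec R).Opens) ≤ t ⁻¹ᵁ V.1 := by rw [htop]
  have h2 : t.appLE V.1 ⊤ hle' = mkb ≫ (Scheme.ΓSpecIso R).inv := by
    apply Spec.map_injective
    have h3 := IsAffineOpen.SpecMap_appLE_fromSpec t V.2 (isAffineOpen_top (Spec R)) hle'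
    rw [← cancel_mono V.2.fromSpec, h3, IsAffineOpen.fromSpec_top, Scheme.isoSpec_Spec_inv,
      Spec.map_comp, Category.assoc]
  have h4 : (t.appLE V.1 ⊤ hle').hom b = 0 := by
    rw [Scheme.Hom.appLE, CommRingCat.hom_comp, RingHom.comp_apply, RingHom.mem_ker.mp h1,
      map_zero]
  rw [h2, CommRingCat.hom_comp, RingHom.comp_apply] at h4
  have h5 : (mkb.hom b) = 0 := by
    have := congrArg (Scheme.ΓSpecIso R).hom.hom h4
    rwa [map_zero, ← RingHom.comp_apply, ← CommRingCat.hom_comp, Iso.inv_hom_id] at this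
  exact Ideal.Quotient.eq_zero_iff_mem.mp h5

/-- `(J.comap f)(V) = J(U)·O_Y(V)` for affine opens `V ⊆ f⁻¹U`. -/
theorem ideal_comap_eq_map_ideal (f : Y ⟶ X) (J : X.IdealSheafData) (U : X.affineOpens)
    (V : Y.affineOpens) (hVU : V.1 ≤ f ⁻¹ᵁ U.1) :
    (J.comap f).ideal V = Ideal.map (f.appLE U.1 V.1 hVU).hom (J.ideal U) :=
  le_antisymm (ideal_comap_le_map_ideal f J U V hVU) (map_ideal_le_ideal_comap f J U V hVU)

end ChevAH8
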