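import Mathlib
import Groth.Prelude
import Groth.Agent.Lib.ChevA_helper8
import Groth.Agent.Lib.CohDev12_helper8

/-!
# `I·f_*F = f_*((f⁻¹I O_Y)·F)` for affine `f` (helper8)
APPEND-ONLY once landed.
-/

set_option autoImplicit false

namespace ChevBH8

open AlgebraicGeometry CategoryTheory CategoryTheory.Limits TopologicalSpace Opposite
open QcqsLoc QCohExtn IsLocalRing CohDevH8

universe u

section Alg

variable {A B M M' : Type*} [CommRing A] [CommRing B] [AddCommGroup M] [AddCommGroup M']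
  [Module A M'] [Module B M] (φ : A →+* B) (e : M' ≃+ M)
  (he : ∀ (a : A) (m : M'), e (a • m) = φ a • e m) (𝔞 : Ideal A)

include he in
theorem map_mem_smul_top {m : M'} (hm : m ∈ 𝔞 • (⊤ : Submodule A M')) :
    e m ∈ Ideal.map φ 𝔞 • (⊤ : Submodule B M) := by
  refine Submodule.smul_induction_on hm ?_ ?_
  · intro a ha x _
    rw [he]
    exact Submodule.smul_mem_smul (Ideal.mem_map_of_mem φ ha) trivial
  · intro x y hx hy
    rw [map_add]
    exact add_mem hx hy

include he in
theorem symm_mem_smul_top {m : M} (hm : m ∈ Ideal.map φ 𝔞 • (⊤ : Submodule B M)) :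
    e.symm m ∈ 𝔞 • (⊤ : Submodule A M') := by
  have key : ∀ b ∈ Ideal.map φ 𝔞, ∀ x : M, e.symm (b • x) ∈ 𝔞 • (⊤ : Submodule A M') := by
    intro b hb
    refine Submodule.span_induction ?_ ?_ ?_ ?_ hb
    · rintro _ ⟨a, ha, rfl⟩ x
      have h1 : e.symm (φ a • x) = a • e.symm x := by
        apply e.injective
        rw [he, e.apply_symm_apply, e.apply_symm_apply]
      rw [h1]
      exact Submodule.smul_mem_smul ha trivial
    · intro x
      rw [zero_smul, map_zero]
      exact zero_mem _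
    · intro b₁ b₂ _ _ h₁ h₂ x
      rw [add_smul, map_add]
      exact add_mem (h₁ x) (h₂ x)
    · intro c b' _ h x
      rw [smul_eq_mul, mul_comm, mul_smul]
      exact h (c • x)
  refine Submodule.smul_induction_on hm ?_ ?_
  · intro b hb x _
    exact key b hb x
  · intro x y hx hy
    rw [map_add]
    exact add_mem hx hy

end Alg

variable {X Y : Scheme.{u}}

section Main

variable (f : Y ⟶ X) [IsAffineHom f] (F : Y.Modules) [F.IsQuasicoherent] (I : X.IdealSheafData)

omit [F.IsQuasicoherent] in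
/-- Sections of `f_*F` over an affine open `U` in `I(U)·(f_*F)(U)` are exactly the sections of `F`
over `f⁻¹U` in `(f⁻¹I O_Y)(f⁻¹U)·F(f⁻¹U)`. -/
theorem mem_smul_top_pushforward_iff {U : X.Opens} (hU : IsAffineOpen U)
    (m : Γ((Scheme.Modules.pushforward f).obj F, U)) :
    m ∈ (I.ideal ⟨U, hU⟩ • (⊤ : Submodule Γ(X, U) Γ((Scheme.Modules.pushforward f).obj F, U))) ↔
      (show Γ(F, f ⁻¹ᵁ U) from m) ∈ ((I.comap f).ideal ⟨f ⁻¹ᵁ U, hU.preimage f⟩ •
        (⊤ : Submodule Γ(Y, f ⁻¹ᵁ U) Γ(F, f ⁻¹ᵁ U))) := by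
  have hid := ChevAH8.ideal_comap_eq_map_ideal f I ⟨U, hU⟩ ⟨f ⁻¹ᵁ U, hU.preimage f⟩ le_rfl
  have happ : (f.appLE U (f ⁻¹ᵁ U) le_rfl) = f.app U := by
    simp [Scheme.Hom.appLE]
  rw [hid, happ]
  let e : Γ((Scheme.Modules.pushforward f).obj F, U) ≃+ Γ(F, f ⁻¹ᵁ U) := AddEquiv.refl _
  have he : ∀ (a : Γ(X, U)) (s : Γ((Scheme.Modules.pushforward f).obj F, U)),
      e (a • s) = (f.app U).hom a • e s := fun a s => rfl
  constructor
  · intro hm
    exact map_mem_smul_top (f.app U).hom e he _ hm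
  · intro hm
    exact symm_mem_smul_top (f.app U).hom e he _ hm


/-- **`I·f_*F = f_*((f⁻¹I O_Y)·F)`** as submodules of `f_*F`, for affine `f` and quasi-coherent
`F`. -/
theorem exists_idealMul_pushforward_iso :
    ∃ e : (Dual3.idealMul I).obj ((Scheme.Modules.pushforward f).obj F) ≅
        (Scheme.Modules.pushforward f).obj ((Dual3.idealMul (I.comap f)).obj F),
      e.hom ≫ (Scheme.Modules.pushforward f).map (Dual3.idealMulι (I.comap f) F) =
        Dual3.idealMulι I ((Scheme.Modules.pushforward f).obj F) := by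
  haveI hG : ((Scheme.Modules.pushforward f).obj F).IsQuasicoherent :=
    QCohCrit.isQuasicoherent_pushforward f F
  set G := (Scheme.Modules.pushforward f).obj F with hGdef
  set K := I.comap f with hK
  set j₁ := Dual3.idealMulι I G with hj₁
  set j₂ := (Scheme.Modules.pushforward f).map (Dual3.idealMulι K F) with hj₂
  haveI : Mono j₂ := inferInstance
  obtain ⟨a, ha⟩ := exists_lift_of_affine j₂ j₁ (fun U hU s => by
    have h1 := idealMulι_app_mem I G hU s
    rw [mem_smul_top_pushforward_iff f F I hU] at h1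
    obtain ⟨h, hh⟩ := exists_idealMulι_app_eq K F (hU.preimage f) _ h1
    exact ⟨h, hh⟩)
  obtain ⟨b, hb⟩ := exists_lift_of_affine j₁ j₂ (fun U hU s => by
    have h1 := idealMulι_app_mem K F (hU.preimage f) (show Γ((Dual3.idealMul K).obj F, f ⁻¹ᵁ U) from s)
    have h2 := (mem_smul_top_pushforward_iff f F I hU _).mpr h1
    obtain ⟨h, hh⟩ := exists_idealMulι_app_eq I G hU _ h2
    exact ⟨h, hh⟩)
  refine ⟨⟨a, b, ?_, ?_⟩, ha⟩
  · rw [← cancel_mono j₁, Category.assoc, hb, ha, Category.id_comp]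
  · rw [← cancel_mono j₂, Category.assoc, ha, hb, Category.id_comp]

end Main

end ChevBH8
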