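import Mathlib
import Groth.Prelude
import Groth.Agent.Lib.ChevB_helper8
import Groth.Agent.Lib.CohDev14_helper8

/-!
# Chevalley's theorem, the generating coherent sheaf (helper8)
APPEND-ONLY once landed.

For `f : Y → X` finite surjective onto a locally Noetherian scheme and an irreducible closed `Z₀ ⊆ X`
with generic point `ξ`, the coherent `O_Y`-module `F = O_Y / (f⁻¹ I_{Z₀}) O_Y` has
`Supp f_*F = Z₀` and `(f_*F)_ξ` is killed by `𝔪_ξ`.
-/

set_option autoImplicit false

namespace ChevCH8

open AlgebraicGeometry CategoryTheory CategoryTheory.Limits TopologicalSpace Opposite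
open QcqsLoc QCohExtn IsLocalRing CohDevH8

universe u

variable {X Y : Scheme.{u}}

section Supp

variable (f : Y ⟶ X) [IsAffineHom f] (F : Y.Modules) [F.IsQuasicoherent]

/-- The image of the support of `F` lies in the support of `f_*F` (for affine `f`). -/
theorem image_support_subset_support_pushforward :
    f '' (CohB1.support F) ⊆ CohB1.support ((Scheme.Modules.pushforward f).obj F) := by
  haveI hG : ((Scheme.Modules.pushforward f).obj F).IsQuasicoherent :=
    QCohCrit.isQuasicoherent_pushforward f F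
  rintro _ ⟨y, hy, rfl⟩
  obtain ⟨U, hU', hxU, -⟩ :=
    (Opens.isBasis_iff_nbhd.mp X.isBasis_affineOpens) (Opens.mem_top (f y))
  have hU : IsAffineOpen U := hU'
  have hV : IsAffineOpen (f ⁻¹ᵁ U) := hU.preimage f
  have hyV : y ∈ f ⁻¹ᵁ U := hxU
  rw [← AnnSh2H8.mem_support_iff F hV hyV] at hy
  rw [← AnnSh2H8.mem_support_iff _ hU hxU]
  rw [Module.mem_support_iff_exists_annihilator] at hy ⊢
  obtain ⟨m, hm⟩ := hy
  refine ⟨(show Γ((Scheme.Modules.pushforward f).obj F, U) from m), ?_⟩
  intro a ha
  rw [Submodule.mem_annihilator_span_singleton] at ha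
  have h1 : (f.app U).hom a ∈ (hV.primeIdealOf ⟨y, hyV⟩).asIdeal := by
    apply hm
    rw [Submodule.mem_annihilator_span_singleton]
    exact ha
  by_contra hna
  have h2 : f y ∈ X.basicOpen a := (AnnShH8.mem_basicOpen_iff hU hxU a).mpr hna
  have h3 : y ∈ Y.basicOpen ((f.app U).hom a) := by
    rw [← Scheme.preimage_basicOpen]
    exact h2
  exact ((AnnShH8.mem_basicOpen_iff hV hyV _).mp h3) h1

end Supp


section Gen

variable (f : Y ⟶ X) [IsFinite f] [Surjective f] [IsLocallyNoetherian X]

/-- Stacks 01YO-type generator: a coherent module on `Y` whose direct image has support exactly `Z₀`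
and stalk at the generic point `ξ` of `Z₀` killed by the maximal ideal. -/
theorem exists_generator (Z₀ : Set X) (hZ₀ : IsClosed Z₀) (ξ : X) (hξ : closure {ξ} = Z₀) :
    ∃ F : Y.Modules, Coh.IsCoh F ∧
      CohB1.support ((Scheme.Modules.pushforward f).obj F) = Z₀ ∧
      ∀ a ∈ maximalIdeal (X.presheaf.stalk ξ),
        ∀ m : ((Scheme.Modules.pushforward f).obj F).presheaf.stalk ξ, a • m = 0 := by
  haveI : IsLocallyNoetherian Y := LocallyOfFiniteType.isLocallyNoetherian f
  set J := Scheme.IdealSheafData.vanishingIdeal ⟨Z₀, hZ₀⟩ with hJ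
  set K := J.comap f with hK
  have hO := isCoh_structureModule Y
  have hF : Coh.IsCoh (quotJ K (Coh.structureModule Y)) := isCoh_quotJ K _ hO
  haveI := hF.1
  haveI := hF.2
  set F := quotJ K (Coh.structureModule Y) with hFdef
  haveI hGq : ((Scheme.Modules.pushforward f).obj F).IsQuasicoherent :=
    QCohCrit.isQuasicoherent_pushforward f F
  haveI hGf : SheafOfModules.IsFiniteType (R := X.ringCatSheaf)
      ((Scheme.Modules.pushforward f).obj F) := QCohCrit.isFiniteType_pushforward f F
  have hk : ClSub.KilledByIdeal J ((Scheme.Modules.pushforward f).obj F) := by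
    intro U a ha m
    have h1 : (f.app U.1).hom a ∈ K.ideal ⟨f ⁻¹ᵁ U.1, U.2.preimage f⟩ := by
      have h2 := ChevAH8.map_ideal_le_ideal_comap f J U ⟨f ⁻¹ᵁ U.1, U.2.preimage f⟩ le_rfl
      have happ : (f.appLE U.1 (f ⁻¹ᵁ U.1) le_rfl) = f.app U.1 := by
        simp [Scheme.Hom.appLE]
      rw [happ] at h2
      exact h2 (Ideal.mem_map_of_mem _ ha)
    exact killed_quotJ K (Coh.structureModule Y) ⟨f ⁻¹ᵁ U.1, U.2.preimage f⟩ _ h1 m
  refine ⟨F, hF, ?_, stalk_killed_of_killed _ Z₀ hZ₀ ξ hξ hk⟩
  apply Set.Subset.antisymm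
  · have h1 := support_subset_of_killed J _ hk
    rwa [Scheme.IdealSheafData.coe_support_vanishingIdeal] at h1
  · intro x hx
    obtain ⟨y, rfl⟩ := f.surjective x
    apply image_support_subset_support_pushforward f F
    refine ⟨y, ?_, rfl⟩
    refine mem_support_quotJ K _ hO ?_ ?_
    · rw [support_structureModule]
      trivial
    · rw [hK, Scheme.IdealSheafData.support_comap]
      show f y ∈ (J.support : Set X)
      rw [Scheme.IdealSheafData.coe_support_vanishingIdeal]
      exact hx

end Gen

end ChevCH8
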