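import Mathlib
import Groth.Prelude
import Groth.Agent.Lib.ChevC_helper8

/-!
# Chevalley's theorem: stalk isomorphisms from section isomorphisms (helper8)
APPEND-ONLY once landed.
-/

set_option autoImplicit false

namespace ChevDH8

open AlgebraicGeometry CategoryTheory CategoryTheory.Limits TopologicalSpace Opposite
open QcqsLoc QCohExtn IsLocalRing CohDevH8

universe u

variable {X : Scheme.{u}}

theorem stalkMapₗ_germ {A B : X.Modules} (φ : A ⟶ B) {V : X.Opens} {y : X} (hyV : y ∈ V)
    (s : Γ(A, V)) :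
    Algz.stalkMapₗ φ y (A.presheaf.germ V y hyV s) = B.presheaf.germ V y hyV (ap φ V s) := by
  show Algz.stalkMapAb φ y (A.presheaf.germ V y hyV s) = _
  dsimp only [Algz.stalkMapAb]
  erw [TopCat.Presheaf.stalkFunctor_map_germ_apply]
  rfl

/-- A morphism of quasi-coherent modules which is bijective on sections over an affine
neighbourhood of `y` is bijective on stalks at `y`. -/
theorem stalkMapₗ_bijective_of_app_bijective {A B : X.Modules} [A.IsQuasicoherent]
    [B.IsQuasicoherent] (φ : A ⟶ B) {V : X.Opens} (hV : IsAffineOpen V) {y : X} (hyV : y ∈ V)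
    (hb : Function.Bijective (ap φ V)) : Function.Bijective (Algz.stalkMapₗ φ y) := by
  letI := StalkLocH8.modSec A hyV
  letI := StalkLocH8.modSec B hyV
  haveI := StalkLocH8.isLocalizedModule_germLin A hV hyV
  haveI := StalkLocH8.isLocalizedModule_germLin B hV hyV
  set p := (hV.primeIdealOf ⟨y, hyV⟩).asIdeal.primeCompl with hp
  have hlin : ∀ (a : Γ(X, V)) (w : A.presheaf.stalk y),
      Algz.stalkMapₗ φ y (a • w) = a • Algz.stalkMapₗ φ y w := by
    intro a w
    exact (Algz.stalkMapₗ φ y).map_smul ((X.presheaf.germ V y hyV).hom a) w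
  have hgerm : ∀ s : Γ(A, V), Algz.stalkMapₗ φ y (StalkLocH8.germLin A hyV s) =
      StalkLocH8.germLin B hyV (ap φ V s) := fun s => stalkMapₗ_germ φ hyV s
  constructor
  · rw [injective_iff_map_eq_zero]
    intro w hw
    obtain ⟨⟨m', s⟩, hs⟩ := IsLocalizedModule.surj p (StalkLocH8.germLin A hyV) w
    have h1 : StalkLocH8.germLin B hyV (ap φ V m') = 0 := by
      rw [← hgerm, ← hs]
      show Algz.stalkMapₗ φ y ((s : Γ(X, V)) • w) = 0
      rw [hlin, hw, smul_zero]
    obtain ⟨t, ht⟩ := (IsLocalizedModule.eq_zero_iff p (StalkLocH8.germLin B hyV)).mp h1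
    have h2 : ap φ V ((t : Γ(X, V)) • m') = 0 := by
      rw [ap_smul]
      exact ht
    have h3 : (t : Γ(X, V)) • m' = 0 := by
      apply hb.1
      rw [h2, map_zero]
    have h4 : t • (s • w) = 0 := by
      rw [hs]
      show (t : Γ(X, V)) • StalkLocH8.germLin A hyV m' = 0
      rw [← map_smul, h3, map_zero]
    have h5 : s • w = 0 := by
      have := (IsLocalizedModule.smul_inj (StalkLocH8.germLin A hyV) t (s • w) 0).mp
        (by rw [h4, smul_zero])
      exact this
    exact (IsLocalizedModule.smul_inj (StalkLocH8.germLin A hyV) s w 0).mp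
      (by rw [h5, smul_zero])
  · intro z
    obtain ⟨⟨m, s⟩, hs⟩ := IsLocalizedModule.surj p (StalkLocH8.germLin B hyV) z
    obtain ⟨m', hm'⟩ := hb.2 m
    refine ⟨IsLocalizedModule.mk' (StalkLocH8.germLin A hyV) m' s, ?_⟩
    apply (IsLocalizedModule.smul_inj (StalkLocH8.germLin B hyV) s _ _).mp
    rw [hs]
    show (s : Γ(X, V)) • Algz.stalkMapₗ φ y _ = _
    rw [← hlin]
    have h1 : (s : Γ(X, V)) • IsLocalizedModule.mk' (StalkLocH8.germLin A hyV) m' s =
        StalkLocH8.germLin A hyV m' := IsLocalizedModule.mk'_cancel' _ m' s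
    rw [h1, hgerm, hm']

/-- The same, as an isomorphism in the category of abelian groups. -/
theorem isIso_stalkFunctor_map_of_app_bijective {A B : X.Modules} [A.IsQuasicoherent]
    [B.IsQuasicoherent] (φ : A ⟶ B) {V : X.Opens} (hV : IsAffineOpen V) {y : X} (hyV : y ∈ V)
    (hb : Function.Bijective (ap φ V)) :
    IsIso ((TopCat.Presheaf.stalkFunctor _ y).map φ.mapPresheaf) := by
  have h := stalkMapₗ_bijective_of_app_bijective φ hV hyV hb
  exact (ConcreteCategory.isIso_iff_bijective
    ((TopCat.Presheaf.stalkFunctor Ab y).map φ.mapPresheaf)).mpr h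

end ChevDH8
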