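import Mathlib
import Groth.Prelude.Def_CohB1
import Groth.Agent.Lib.SerreFT2_helper9

/-!
# Serre's criterion with finite type ideals, part 3 (helper9)
APPEND-ONLY once landed.

* `surj_of_ft_H1`: if `H¹` vanishes on finite type quasi-coherent ideals of a qcqs scheme, then global
  sections lift along every epimorphism whose kernel is a quasi-coherent ideal;
* `SurjHyp1`, the ideal-only surjectivity hypothesis, and the first half of Serre's criterion under it.
-/

set_option autoImplicit false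
universe u
open AlgebraicGeometry CategoryTheory CategoryTheory.Limits TopologicalSpace Opposite
open QcqsLoc QCohExtn SerreCrit
open scoped ZeroObject

namespace SerreFT

variable {X : Scheme.{u}}

theorem surj_of_ft_H1 [CompactSpace X] [QuasiSeparatedSpace X]
    (h : ∀ (I : X.Modules) (i : I ⟶ OO X), Mono i → I.IsQuasicoherent → CohB1.IsFT I →
      ∀ x : Coh.HH X I 1, x = 0)
    (S : ShortComplex X.Modules) (hS : S.ShortExact) (hq : S.X₁.IsQuasicoherent)
    (j : S.X₁ ⟶ OO X) (hj : Mono j) (c : Γ(S.X₃, ⊤)) :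
    ∃ b : Γ(S.X₂, ⊤), ap S.g ⊤ b = c := by
  haveI := hq
  haveI := hj
  haveI hqE : (pbE S c).IsQuasicoherent := isQuasicoherent_pbE S hS c
  have hT := pbS_shortExact S hS c
  haveI : Epi (pbP S c) := hT.epi_g
  obtain ⟨E', i, hm, hq', hf, hepi⟩ := exists_ft_sub_epi (pbE S c) (pbP S c)
  haveI := hm
  haveI := hq'
  haveI := hepi
  obtain ⟨p', hp'⟩ : ∃ p' : E' ⟶ OO X, p' = i ≫ pbP S c := ⟨_, rfl⟩
  haveI : Epi p' := hp' ▸ hepi
  let T' : ShortComplex X.Modules := ShortComplex.mk (kernel.ι p') p' (kernel.condition p')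
  have hT' : T'.ShortExact := ShortComplex.ShortExact.mk' (ShortComplex.exact_kernel p')
    (inferInstanceAs (Mono (kernel.ι p'))) (inferInstanceAs (Epi p'))
  haveI hqk : (kernel p').IsQuasicoherent := SubExt.isQuasicoherent_kernel p'
  have hfk : CohB1.IsFT (kernel p') := isFT_kernel_of_epi_OO E' hf p'
  have h0 : (kernel.ι p' ≫ i) ≫ pbP S c = 0 := by
    rw [Category.assoc, ← hp']
    exact kernel.condition p'
  obtain ⟨u, hu⟩ := pbLift_exists S hS c (kernel.ι p' ≫ i) h0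
  haveI : Mono (kernel.ι p' ≫ i) := mono_comp _ _
  haveI : Mono u := mono_of_mono_fac hu
  have hmono : Mono (u ≫ j) := mono_comp _ _
  have hH := h (kernel p') (u ≫ j) hmono hqk hfk
  obtain ⟨e', he'⟩ := surj_of_H1 T' hT' hH (ofFn (1 : Γ(X, ⊤)))
  refine ⟨ap (pbQ S c) ⊤ (ap i ⊤ e'), ?_⟩
  apply lift_of_pb
  have h3 : ap p' ⊤ e' = ofFn (1 : Γ(X, ⊤)) := he'
  rw [hp'] at h3
  exact h3

/-- Global sections are right exact on short exact sequences whose kernel is a quasi-coherent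
ideal. -/
def SurjHyp1 (X : Scheme.{u}) : Prop :=
  ∀ (S : ShortComplex X.Modules), S.ShortExact → S.X₁.IsQuasicoherent →
    (∃ j : S.X₁ ⟶ OO X, Mono j) → ∀ c : Γ(S.X₃, ⊤), ∃ b : Γ(S.X₂, ⊤), ap S.g ⊤ b = c

theorem surjHyp1_of_ft_H1 [CompactSpace X] [QuasiSeparatedSpace X]
    (h : ∀ (I : X.Modules) (i : I ⟶ OO X), Mono i → I.IsQuasicoherent → CohB1.IsFT I →
      ∀ x : Coh.HH X I 1, x = 0) : SurjHyp1 X := by
  rintro S hS hq ⟨j, hj⟩ c
  exact surj_of_ft_H1 h S hS hq j hj c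

/-- Under `SurjHyp1`, a closed point has a neighbourhood `X_f` inside any given open
neighbourhood. -/
theorem exists_basicOpen1 (hyp : SurjHyp1 X) (x : X) (hx : IsClosed ({x} : Set X)) (U : X.Opens)
    (hxU : x ∈ U) : ∃ f : Γ(X, ⊤), x ∈ X.basicOpen f ∧ X.basicOpen f ≤ U := by
  let N := VZ (OO X) (𝟙 _) ((U : Set X)ᶜ)
  haveI hJ : N.toModules.IsQuasicoherent := isQuasicoherent_VZ _ _ _
  let K := VZ N.toModules N.ι {x}
  haveI hK : K.toModules.IsQuasicoherent := isQuasicoherent_VZ _ _ _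
  let S : ShortComplex X.Modules :=
    ShortComplex.mk K.ι (cokernel.π K.ι) (cokernel.condition K.ι)
  have hS : S.ShortExact := ShortComplex.ShortExact.mk' (ShortComplex.exact_cokernel K.ι)
    (inferInstanceAs (Mono K.ι)) (inferInstanceAs (Epi (cokernel.π K.ι)))
  have hKπ : ∀ (W : X.Opens) (k : Γ(K.toModules, W)), ap (cokernel.π K.ι) W (ap K.ι W k) = 0 := by
    intro W k
    exact congrArg (fun χ => (χ.app W).hom k) (cokernel.condition K.ι)
  -- the section `1` over `U`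
  have h1mem : ofFn (1 : Γ(X, U)) ∈ N.carrier U := by
    intro z hz hzb
    exact hz (X.basicOpen_le _ hzb)
  obtain ⟨u, hu⟩ := N.exists_of_mem h1mem
  let U₂ : X.Opens := ⟨({x} : Set X)ᶜ, hx.isOpen_compl⟩
  have hcov : (⊤ : X.Opens) ≤ U ⊔ U₂ := by
    intro y _
    by_cases hy : y = x
    · exact Or.inl (hy ▸ hxU)
    · exact Or.inr hy
  have hagree : rF (cokernel K.ι) (inf_le_left : U ⊓ U₂ ≤ U) (ap (cokernel.π K.ι) U u) =
      rF (cokernel K.ι) (inf_le_right : U ⊓ U₂ ≤ U₂) 0 := by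
    rw [map_zero, ← ap_rF]
    have hmem : rF N.toModules (inf_le_left : U ⊓ U₂ ≤ U) u ∈ K.carrier (U ⊓ U₂) := by
      intro z hz hzb
      have hzx : z = x := hz
      have h2 : z ∈ U ⊓ U₂ := X.basicOpen_le _ hzb
      exact h2.2 hzx
    obtain ⟨k, hk⟩ := K.exists_of_mem hmem
    rw [← hk]
    exact hKπ _ k
  obtain ⟨c, hcU, -⟩ := glue₂_mod (cokernel K.ι) (le_top : U ≤ ⊤) (le_top : U₂ ≤ ⊤) hcov
    (ap (cokernel.π K.ι) U u) 0 hagree
  have hmono : ∃ j : S.X₁ ⟶ OO X, Mono j := by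
    haveI : Mono K.ι := inferInstance
    haveI : Mono N.ι := inferInstance
    exact ⟨K.ι ≫ N.ι, mono_comp _ _⟩
  obtain ⟨b, hb⟩ := hyp S hS hK hmono c
  refine ⟨toFn (ap N.ι ⊤ b), ?_, ?_⟩
  · by_contra hxb
    have hbK : b ∈ K.carrier ⊤ := by
      intro z hz
      have hzx : z = x := hz
      rw [hzx]
      exact hxb
    obtain ⟨k, hk⟩ := K.exists_of_mem hbK
    have hc0 : c = 0 := by
      rw [← hb, ← hk]
      exact hKπ _ k
    have hcU0 : ap (cokernel.π K.ι) U u = 0 := by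
      rw [← hcU, hc0, map_zero]
    obtain ⟨k', hk'⟩ := QCohExact.app_exact S hS.exact U u hcU0
    have huK : u ∈ K.carrier U := by
      have := K.ι_mem k'
      rwa [show ap K.ι U k' = u from hk'] at this
    have hx1 := huK x rfl
    rw [hu] at hx1
    apply hx1
    rw [show toFn (ofFn (1 : Γ(X, U))) = 1 from rfl, Scheme.basicOpen_of_isUnit X isUnit_one]
    exact hxU
  · intro z hz
    by_contra hzU
    exact N.ι_mem b z hzU hz

end SerreFT
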