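import Mathlib
import Groth.Prelude.Def_CohB1
import Groth.Agent.Lib.SerreFT3_helper9
import Groth.Agent.Lib.FCompl1_helper8

/-!
# Serre's criterion with finite type ideals, part 4 (helper9)
APPEND-ONLY once landed.

The second half of Serre's criterion using only short exact sequences whose kernel is a
quasi-coherent ideal.
-/

set_option autoImplicit false
universe u
open AlgebraicGeometry CategoryTheory CategoryTheory.Limits TopologicalSpace Opposite
open QcqsLoc QCohExtn SerreCrit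
open scoped ZeroObject

namespace SerreFT

variable {X : Scheme.{u}}

/-- Step 2: a finite cover by affine opens of the form `X_f`. -/
theorem exists_list_cover1 [CompactSpace X] (hyp : SurjHyp1 X) :
    ∃ l : List Γ(X, ⊤), (∀ f ∈ l, IsAffineOpen (X.basicOpen f)) ∧
      ∀ y : X, ∃ f ∈ l, y ∈ X.basicOpen f := by
  let 𝒮 : Set Γ(X, ⊤) := {f | IsAffineOpen (X.basicOpen f)}
  have hpt : ∀ y : X, ∃ f ∈ 𝒮, y ∈ X.basicOpen f := by
    by_contra hne
    push Not at hne
    let T : Set X := (⋃ f ∈ 𝒮, (X.basicOpen f : Set X))ᶜ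
    have hTcl : IsClosed T :=
      (isOpen_biUnion (fun f _ => (X.basicOpen f).2)).isClosed_compl
    have hTne : T.Nonempty := by
      obtain ⟨y, hy⟩ := hne
      refine ⟨y, ?_⟩
      intro hyU
      obtain ⟨f, hf, hyf⟩ := Set.mem_iUnion₂.mp hyU
      exact hy f hf hyf
    obtain ⟨x, hxT, hxcl⟩ := hTcl.exists_closed_singleton hTne
    obtain ⟨U, hU, hxU, -⟩ := Opens.isBasis_iff_nbhd.mp X.isBasis_affineOpens
      (show x ∈ (⊤ : X.Opens) from trivial)
    obtain ⟨f, hxf, hfU⟩ := exists_basicOpen1 hyp x hxcl U hxU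
    have haff : IsAffineOpen (X.basicOpen f) := by
      have h1 : IsAffineOpen (X.basicOpen (X.presheaf.map (homOfLE (le_top : U ≤ ⊤)).op f)) :=
        hU.basicOpen _
      rw [Scheme.basicOpen_res, inf_eq_right.mpr hfU] at h1
      exact h1
    exact hxT (Set.mem_iUnion₂.mpr ⟨f, haff, hxf⟩)
  obtain ⟨t, ht⟩ := isCompact_univ.elim_finite_subcover
    (fun f : 𝒮 => (X.basicOpen f.1 : Set X)) (fun f => (X.basicOpen f.1).2) (by
      intro y _
      obtain ⟨f, hf, hyf⟩ := hpt y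
      exact Set.mem_iUnion.mpr ⟨⟨f, hf⟩, hyf⟩)
  refine ⟨t.toList.map Subtype.val, ?_, ?_⟩
  · intro f hf
    obtain ⟨g, -, rfl⟩ := List.mem_map.mp hf
    exact g.2
  · intro y
    obtain ⟨g, hg, hyg⟩ := Set.mem_iUnion₂.mp (ht (Set.mem_univ y))
    exact ⟨g.1, List.mem_map.mpr ⟨g, Finset.mem_toList.mpr hg, rfl⟩, hyg⟩

/-- the successive quotients `O_X / (f₁, …, f_k)` with their projections. -/
noncomputable def QP : List Γ(X, ⊤) → Σ C : X.Modules, (OO X ⟶ C)
  | [] => ⟨OO X, 𝟙 _⟩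
  | f :: l => ⟨cokernel (mulBy f ≫ (QP l).2), (QP l).2 ≫ cokernel.π (mulBy f ≫ (QP l).2)⟩

noncomputable abbrev Cq (l : List Γ(X, ⊤)) : X.Modules := (QP l).1

noncomputable abbrev πq (l : List Γ(X, ⊤)) : OO X ⟶ Cq l := (QP l).2

theorem isQuasicoherent_Cq (l : List Γ(X, ⊤)) : (Cq l).IsQuasicoherent := by
  induction l with
  | nil => exact isQuasicoherent_OO
  | cons f l ih =>
    haveI := ih
    show (cokernel (mulBy f ≫ πq l)).IsQuasicoherent
    exact FComplH8.isQuasicoherent_cokernel _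

theorem mulBy_πq (l : List Γ(X, ⊤)) : ∀ f ∈ l, mulBy f ≫ πq l = 0 := by
  induction l with
  | nil =>
    intro f hf
    exact absurd hf List.not_mem_nil
  | cons g l ih =>
    intro f hf
    show mulBy f ≫ πq l ≫ cokernel.π (mulBy g ≫ πq l) = 0
    rcases List.mem_cons.mp hf with rfl | hf
    · rw [← Category.assoc]
      exact cokernel.condition _
    · rw [← Category.assoc, ih f hf, zero_comp]

theorem mulBy_top (f : Γ(X, ⊤)) (a : Γ(OO X, ⊤)) :
    toFn (ap (mulBy f) ⊤ a) = toFn a * f := by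
  rw [mulBy_app]
  have hr : rX (le_top : (⊤ : X.Opens) ≤ ⊤) f = f := SubExt.rF_self (OO X) _ (ofFn f)
  rw [hr]

theorem mem_span_of_πq (hyp : SurjHyp1 X) (l : List Γ(X, ⊤)) :
    ∀ s : Γ(OO X, ⊤), ap (πq l) ⊤ s = 0 → toFn s ∈ Ideal.span {f | f ∈ l} := by
  induction l with
  | nil =>
    intro s hs
    have h0 : s = 0 := hs
    rw [h0]
    exact Submodule.zero_mem _
  | cons f l ih =>
    intro s hs
    haveI := isQuasicoherent_Cq l
    obtain ⟨ψ, hψ⟩ : ∃ ψ : OO X ⟶ Cq l, ψ = mulBy f ≫ πq l := ⟨_, rfl⟩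
    have hs' : ap (cokernel.π ψ) ⊤ (ap (πq l) ⊤ s) = 0 := by
      rw [hψ]
      exact hs
    let S₁ : ShortComplex X.Modules :=
      ShortComplex.mk (kernel.ι (cokernel.π ψ)) (cokernel.π ψ) (kernel.condition _)
    have hS₁ : S₁.Exact := ShortComplex.exact_kernel _
    haveI : Mono S₁.f := inferInstanceAs (Mono (kernel.ι (cokernel.π ψ)))
    obtain ⟨t, ht⟩ := QCohExact.app_exact S₁ hS₁ ⊤ (ap (πq l) ⊤ s) hs'
    haveI : (cokernel ψ).IsQuasicoherent := FComplH8.isQuasicoherent_cokernel ψ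
    haveI : (Abelian.image ψ).IsQuasicoherent := SubExt.isQuasicoherent_kernel (cokernel.π ψ)
    obtain ⟨π', hπ'⟩ : ∃ π' : OO X ⟶ Abelian.image ψ, π' = Abelian.factorThruImage ψ := ⟨_, rfl⟩
    haveI : Epi π' := by
      rw [hπ']
      infer_instance
    haveI hqk : (kernel π').IsQuasicoherent := SubExt.isQuasicoherent_kernel π'
    let S₂ : ShortComplex X.Modules := ShortComplex.mk (kernel.ι π') π' (kernel.condition _)
    have hS₂ : S₂.ShortExact := ShortComplex.ShortExact.mk' (ShortComplex.exact_kernel π')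
      (inferInstanceAs (Mono (kernel.ι π'))) (inferInstanceAs (Epi π'))
    obtain ⟨a, ha⟩ := hyp S₂ hS₂ hqk ⟨kernel.ι π', inferInstance⟩ t
    have hψa : ap ψ ⊤ a = ap (πq l) ⊤ s := by
      have hfac : π' ≫ Abelian.image.ι ψ = ψ := by
        rw [hπ']
        exact Abelian.image.fac ψ
      have h1 := congrArg (fun χ : OO X ⟶ Cq l => ap χ ⊤ a) hfac
      refine h1.symm.trans ?_
      show ap (Abelian.image.ι ψ) ⊤ (ap π' ⊤ a) = _
      have ha' : ap π' ⊤ a = t := ha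
      rw [ha']
      exact ht
    have h2 : ap (πq l) ⊤ (s - ap (mulBy f) ⊤ a) = 0 := by
      rw [map_sub, sub_eq_zero, ← hψa, hψ]
      rfl
    have h3 := ih _ h2
    have h4 : toFn s = toFn (s - ap (mulBy f) ⊤ a) + toFn a * f := by
      rw [← mulBy_top]
      show s = (s - ap (mulBy f) ⊤ a) + ap (mulBy f) ⊤ a
      abel
    rw [h4]
    apply Ideal.add_mem
    · exact Ideal.span_mono (fun g hg => List.mem_cons_of_mem _ hg) h3
    · apply Ideal.mul_mem_left
      apply Ideal.subset_span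
      exact List.mem_cons_self ..

theorem πq_one (l : List Γ(X, ⊤)) (hcov : ∀ y : X, ∃ f ∈ l, y ∈ X.basicOpen f) :
    ap (πq l) ⊤ (ofFn (1 : Γ(X, ⊤))) = 0 := by
  apply eq_zero_of_cover
  intro y _
  obtain ⟨f, hf, hyf⟩ := hcov y
  refine ⟨X.basicOpen f, le_top, hyf, ?_⟩
  rw [← ap_rF]
  have hu : IsUnit (rX (le_top : X.basicOpen f ≤ ⊤) f) :=
    RingedSpace.isUnit_res_basicOpen X.toRingedSpace f
  obtain ⟨u, hu'⟩ := hu
  have h1 : rF (OO X) (le_top : X.basicOpen f ≤ ⊤) (ofFn (1 : Γ(X, ⊤))) =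
      ap (mulBy f) (X.basicOpen f) (ofFn (↑u⁻¹ : Γ(X, X.basicOpen f))) := by
    show toFn (rF (OO X) (le_top : X.basicOpen f ≤ ⊤) (ofFn (1 : Γ(X, ⊤)))) =
      toFn (ap (mulBy f) (X.basicOpen f) (ofFn (↑u⁻¹ : Γ(X, X.basicOpen f))))
    rw [mulBy_app, rF_eq, ← hu']
    show rX (le_top : X.basicOpen f ≤ ⊤) (1 : Γ(X, ⊤)) = (↑u⁻¹ : Γ(X, X.basicOpen f)) * ↑u
    rw [map_one, Units.inv_mul]
  rw [h1]
  exact congrArg (fun χ : OO X ⟶ Cq l => ap χ (X.basicOpen f)
    (ofFn (↑u⁻¹ : Γ(X, X.basicOpen f)))) (mulBy_πq l f hf)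

/-- **Serre's criterion**, from surjectivity on sequences with quasi-coherent ideal kernel. -/
theorem isAffine_of_surjHyp1 [CompactSpace X] (hyp : SurjHyp1 X) : IsAffine X := by
  obtain ⟨l, hl, hcov⟩ := exists_list_cover1 hyp
  have h1 : (1 : Γ(X, ⊤)) ∈ Ideal.span {f | f ∈ l} :=
    mem_span_of_πq hyp l (ofFn (1 : Γ(X, ⊤))) (πq_one l hcov)
  exact isAffine_of_isAffineOpen_basicOpen {f | f ∈ l} ((Ideal.eq_top_iff_one _).mpr h1)
    (fun f hf => hl f hf)

/-- **Serre's criterion with finite type ideals** on a qcqs scheme. -/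
theorem isAffine_of_ft_H1 [CompactSpace X] [QuasiSeparatedSpace X]
    (h : ∀ (I : X.Modules) (i : I ⟶ OO X), Mono i → I.IsQuasicoherent → CohB1.IsFT I →
      ∀ x : Coh.HH X I 1, x = 0) : IsAffine X :=
  isAffine_of_surjHyp1 (surjHyp1_of_ft_H1 h)

end SerreFT
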