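import Mathlib
import Groth.Prelude
import Groth.Agent.Lib.ChevD_helper8
import Groth.Agent.Lib.HHVan_helper9
import Groth.Agent.Lib.SerreFT4_helper9
import Groth.Agent.Lib.AffVanish_helper9
import Groth.Agent.S0012
import Groth.Agent.S9522
import Groth.Agent.S0027

/-!
# Chevalley's theorem: a Noetherian scheme finitely dominated by an affine scheme is affine (helper8)
APPEND-ONLY once landed.
-/

set_option autoImplicit false

namespace ChevEH8

open AlgebraicGeometry CategoryTheory CategoryTheory.Limits TopologicalSpace Opposite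
open QcqsLoc QCohExtn IsLocalRing CohDevH8

universe u

variable {X Y : Scheme.{u}}

/-- Vanishing of `H¹`. -/
def P1 (F : X.Modules) : Prop := Subsingleton (Coh.HH X F 1)

theorem P1_of_iso {M N : X.Modules} (e : Nonempty (M ≅ N)) (h : P1 M) : P1 N :=
  Groth.Agent.HHVan.subsingleton_of_iso e.some 1 h

theorem P1_mid (S : ShortComplex X.Modules) (hS : S.ShortExact) (h1 : P1 S.X₁) (h3 : P1 S.X₃) :
    P1 S.X₂ :=
  Groth.Agent.HHVan.subsingleton_mid S hS 1 h1 h3

theorem P1_of_retract {M N : X.Modules} (s : M ⟶ N) (r : N ⟶ M) (h : s ≫ r = 𝟙 M) (hN : P1 N) :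
    P1 M := by
  refine ⟨fun x y => ?_⟩
  have hx : ∀ z : Coh.HH X M 1, z = 0 := fun z => by
    have h1 : Groth.Agent.HHVan.hmap r 1 (Groth.Agent.HHVan.hmap s 1 z) = z := by
      rw [← Groth.Agent.HHVan.hmap_comp, h, Groth.Agent.HHVan.hmap_id]
    rw [← h1, Subsingleton.elim (h := hN) (Groth.Agent.HHVan.hmap s 1 z) 0, map_zero]
  rw [hx x, hx y]

theorem P1_of_isZero (M : X.Modules) (h : IsZero M) : P1 M := by
  refine ⟨fun x y => ?_⟩
  have hx : ∀ z : Coh.HH X M 1, z = 0 := fun z => by
    have hz : IsZero (Coh.toAb M) := Functor.map_isZero (SerreCrit.TT X) h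
    have h1 := Abelian.Ext.comp_mk₀_id (show Abelian.Ext _ (Coh.toAb M) 1 from z)
    rw [hz.eq_of_src (𝟙 _) 0, Abelian.Ext.mk₀_zero, Abelian.Ext.comp_zero] at h1
    exact h1.symm
  rw [hx x, hx y]

theorem P1_of_sigma (F : X.Modules) (r : ℕ) (hr : 1 ≤ r) (h : P1 (∐ fun _ : Fin r => F)) :
    P1 F :=
  P1_of_retract (Sigma.ι (fun _ : Fin r => F) ⟨0, hr⟩) (Sigma.desc (fun _ => 𝟙 F))
    (by simp) h


section Push

variable {Z : Scheme.{u}} (i : Z ⟶ X) [IsClosedImmersion i] [IsLocallyNoetherian X]

/-- The direct image of a quasi-coherent ideal of a closed subscheme is coherent and supported on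
the subscheme. -/
theorem isCoh_push_ideal (I : Z.Modules) (ι : I ⟶ Coh.structureModule Z) [Mono ι]
    (hq : Coh.IsQCoh I) :
    Coh.IsCoh ((Coh.push i).obj I) ∧ CohB1.support ((Coh.push i).obj I) ⊆ Set.range ⇑i := by
  haveI : IsLocallyNoetherian Z := LocallyOfFiniteType.isLocallyNoetherian i
  have hI : Coh.IsCoh I := isCoh_of_mono ι hq (isCoh_structureModule Z)
  haveI := hI.1
  haveI := hI.2
  haveI hGq : ((Scheme.Modules.pushforward i).obj I).IsQuasicoherent :=
    QCohCrit.isQuasicoherent_pushforward i I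
  haveI hGf : SheafOfModules.IsFiniteType (R := X.ringCatSheaf)
      ((Scheme.Modules.pushforward i).obj I) := QCohCrit.isFiniteType_pushforward i I
  refine ⟨⟨hGq, hGf⟩, ?_⟩
  have hk : ClSub.KilledByIdeal i.ker ((Scheme.Modules.pushforward i).obj I) := by
    intro U a ha m
    have h1 : (i.app U.1).hom a = 0 := RingHom.mem_ker.mp (Scheme.Hom.ideal_ker_le i U ha)
    show ((i.app U.1).hom a • (show Γ(I, i ⁻¹ᵁ U.1) from m) : Γ(I, i ⁻¹ᵁ U.1)) = 0
    rw [h1, zero_smul]
  have h2 := support_subset_of_killed i.ker _ hk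
  rw [Scheme.Hom.support_ker, i.isClosedEmbedding.isClosed_range.closure_eq] at h2
  exact h2

end Push

section Main

variable (f : Y ⟶ X) [IsFinite f] [Surjective f] [IsAffine Y] [IsNoetherian X]

include f in
/-- Under the hypotheses of Chevalley's theorem, `H¹` vanishes on coherent modules supported on an
irreducible closed subset. -/
theorem P1_of_support_subset (Z₀ : Closeds X) :
    IsIrreducible (Z₀ : Set X) → ∀ F : X.Modules, Coh.IsCoh F →
      CohB1.support F ⊆ (Z₀ : Set X) → P1 F := by
  induction Z₀ using WellFoundedLT.induction with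
  | ind Z₀ IH =>
    intro hirr F hF hsupp
    haveI : IsLocallyNoetherian Y := LocallyOfFiniteType.isLocallyNoetherian f
    have hξcl : closure {hirr.genericPoint} = (Z₀ : Set X) :=
      hirr.closure_genericPoint Z₀.isClosed
    have hξmem : hirr.genericPoint ∈ (Z₀ : Set X) :=
      hξcl.subset (subset_closure (Set.mem_singleton _))
    refine Groth.Agent.S9522.result X (Z₀ : Set X) Z₀.isClosed hirr hirr.genericPoint
      ⟨hξmem, hξcl⟩ P1 (fun M N e h => P1_of_iso e h) P1_of_isZero
      (fun S hS _ _ _ h1 h3 => P1_mid S hS h1 h3) (fun F r _ hr h => P1_of_sigma F r hr h)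
      ?_ ?_ F hF hsupp
    · intro Z i hi hZ hsub hne I ι hι hq
      haveI := hi
      haveI := hZ
      haveI := hι
      obtain ⟨hcoh, hs⟩ := isCoh_push_ideal i I ι hq
      refine IH ⟨Set.range ⇑i, i.isClosedEmbedding.isClosed_range⟩ ?_ ?_ _ hcoh hs
      · refine lt_of_le_of_ne (fun x hx => hsub hx) (fun h => hne ?_)
        exact congrArg (fun W : Closeds X => (W : Set X)) h
      · have h1 := (IrreducibleSpace.isIrreducible_univ Z).image i i.continuous.continuousOn
        rwa [Set.image_univ] at h1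
    · obtain ⟨F₀, hF₀, hs₀, hk₀⟩ :=
        ChevCH8.exists_generator f (Z₀ : Set X) Z₀.isClosed hirr.genericPoint hξcl
      haveI := hF₀.1
      haveI := hF₀.2
      haveI hGq : ((Scheme.Modules.pushforward f).obj F₀).IsQuasicoherent :=
        QCohCrit.isQuasicoherent_pushforward f F₀
      haveI hGf : SheafOfModules.IsFiniteType (R := X.ringCatSheaf)
          ((Scheme.Modules.pushforward f).obj F₀) := QCohCrit.isFiniteType_pushforward f F₀
      refine ⟨(Scheme.Modules.pushforward f).obj F₀, ⟨hGq, hGf⟩, hs₀, hk₀, fun J hJ => ?_⟩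
      obtain ⟨e, he⟩ := ChevBH8.exists_idealMul_pushforward_iso f F₀ J
      have hKF : Coh.IsCoh ((Dual3.idealMul (J.comap f)).obj F₀) := isCoh_idealMul _ F₀ hF₀
      haveI := hKF.1
      haveI hG'q : ((Scheme.Modules.pushforward f).obj
          ((Dual3.idealMul (J.comap f)).obj F₀)).IsQuasicoherent :=
        QCohCrit.isQuasicoherent_pushforward f _
      have hcomp : e.inv ≫ Dual3.idealMulι J ((Scheme.Modules.pushforward f).obj F₀) =
          (Scheme.Modules.pushforward f).map (Dual3.idealMulι (J.comap f) F₀) := by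
        rw [← he, Iso.inv_hom_id_assoc]
      refine ⟨_, e.inv, inferInstance, hG'q, ?_, ?_⟩
      · rw [hcomp]
        obtain ⟨V, hV, hξV, hJV⟩ := exists_affine_ideal_eq_top J hJ
        refine ChevDH8.isIso_stalkFunctor_map_of_app_bijective _ hV hξV ?_
        have hKV : (J.comap f).ideal ⟨f ⁻¹ᵁ V, hV.preimage f⟩ = ⊤ := by
          rw [ChevAH8.ideal_comap_eq_map_ideal f J ⟨V, hV⟩ ⟨f ⁻¹ᵁ V, hV.preimage f⟩ le_rfl, hJV,
            Ideal.map_top]
        exact idealMulι_app_bijective (J.comap f) F₀ (hV.preimage f) hKV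
      · obtain ⟨eq⟩ := Groth.Agent.S0012.result f ((Dual3.idealMul (J.comap f)).obj F₀) 1
        haveI : Subsingleton (Coh.HH Y ((Dual3.idealMul (J.comap f)).obj F₀) 1) :=
          AffVanish.HH_subsingleton_of_isAffine Y _ 0
        exact eq.symm.toEquiv.subsingleton

include f in
/-- **Chevalley's theorem** (Noetherian case): if `f : Y → X` is finite surjective, `Y` is affine and
`X` is Noetherian, then `X` is affine. -/
theorem isAffine_of_finite_surjective : IsAffine X := by
  by_cases hne : Nonempty X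
  · have hall : ∀ M : X.Modules, Coh.IsCoh M → P1 M := by
      intro M hM
      refine Groth.Agent.S0027.result X P1 (fun M N e h => P1_of_iso e h)
        (fun S hS _ _ _ h1 h3 => P1_mid S hS h1 h3) ?_ M hM
      intro Z i hi hZ I ι hι hq
      haveI := hi
      haveI := hZ
      haveI := hι
      obtain ⟨hcoh, hs⟩ := isCoh_push_ideal i I ι hq
      refine P1_of_support_subset f ⟨Set.range ⇑i, i.isClosedEmbedding.isClosed_range⟩ ?_ _ hcoh hs
      have h1 := (IrreducibleSpace.isIrreducible_univ Z).image i i.continuous.continuousOn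
      rwa [Set.image_univ] at h1
    refine SerreFT.isAffine_of_ft_H1 (fun I i hi hq hft x => ?_)
    exact Subsingleton.elim (h := hall I ⟨hq, hft⟩) _ _
  · haveI : IsEmpty X := not_nonempty_iff.mp hne
    exact isAffine_of_isEmpty

end Main

end ChevEH8
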