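import Mathlib
import Groth.Prelude
import Groth.Agent.Lib.GrTwO_helper5

/-!
# `O_X(n)|U ⊗ O_X(-n)|U ≅ O_U` on quasi-compact opens of a relative `Proj` (helper5)
-/

set_option autoImplicit false
universe u
open CategoryTheory CategoryTheory.Limits AlgebraicGeometry TopologicalSpace Opposite DirectSum
open HomogeneousLocalization

namespace Groth.Agent.GrTw

/-- Restriction of a bilinear pairing of modules to an open subscheme. -/
noncomputable def restrictBilin {X : Scheme.{u}} {M N Q : X.Modules} (B : FLFH8.BilinData M N Q)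
    (U : X.Opens) : FLFH8.BilinData (M.restrict U.ι) (N.restrict U.ι) (Q.restrict U.ι) where
  β O s t := B.β (U.ι ''ᵁ O) s t
  add_left O s s' t := B.add_left (U.ι ''ᵁ O) s s' t
  smul_left O r s t := by
    rw [RefHullH8.restrict_smul_eq, RefHullH8.restrict_smul_eq]
    exact B.smul_left (U.ι ''ᵁ O) _ _ _
  add_right O s t t' := B.add_right (U.ι ''ᵁ O) s t t'
  smul_right O r s t := by
    rw [RefHullH8.restrict_smul_eq, RefHullH8.restrict_smul_eq]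
    exact B.smul_right (U.ι ''ᵁ O) _ _ _
  natural {O O'} h s t := B.natural (U.ι.image_mono h) s t

section Rel
variable {Y P : Scheme.{u}} {𝒮 : RelProj.QCGrAlg Y} {p : P ⟶ Y}
  {chart : ∀ (U : Y.Opens) (hU : IsAffineOpen U),
    (((p ⁻¹ᵁ U : P.Opens) : Scheme.{u}) ≅ Proj (𝒮.deg U hU))}
  {m n : ℤ} {L L' L'' : P.Modules}
  {lam : ∀ (U : Y.Opens) (hU : IsAffineOpen U),
    L ⟶ (Scheme.Modules.pushforward (RelProj.emb p chart U hU)).obj
      (GrTwist.twist (𝒮.deg U hU) m)}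
  {lam' : ∀ (U : Y.Opens) (hU : IsAffineOpen U),
    L' ⟶ (Scheme.Modules.pushforward (RelProj.emb p chart U hU)).obj
      (GrTwist.twist (𝒮.deg U hU) n)}
  {lam'' : ∀ (U : Y.Opens) (hU : IsAffineOpen U),
    L'' ⟶ (Scheme.Modules.pushforward (RelProj.emb p chart U hU)).obj
      (GrTwist.twist (𝒮.deg U hU) (m + n))}

/-- The product of the chart generators `f^c` and `f^{c'}` generates `O_P(m+n)`. -/
theorem isGen_mulBilinRel_β (hL : RelProj.IsRelTwist 𝒮 p chart m L lam)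
    (hL' : RelProj.IsRelTwist 𝒮 p chart n L' lam')
    (hL'' : RelProj.IsRelTwist 𝒮 p chart (m + n) L'' lam'')
    (hP : RelProj.IsRelProj 𝒮 p chart) (V : Y.Opens) (hV : IsAffineOpen V) {d : ℕ}
    {f : 𝒮.presheaf.obj (op V)} (hf : f ∈ 𝒮.deg V hV d) (c c' : ℤ) (hm : m = c * d)
    (hn : n = c' * d) (W : P.Opens) (hWr : W ≤ (RelProj.emb p chart V hV).opensRange)
    (hWf : (RelProj.emb p chart V hV) ⁻¹ᵁ W ≤ Proj.basicOpen (𝒮.deg V hV) f)
    (e : Γ(L, W)) (hee : chartSec 𝒮 p chart m L lam V hV W e =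
      QcqsLoc.rF (GrTwist.twist (𝒮.deg V hV) m) hWf (genSecK (𝒮.deg V hV) hf c m hm))
    (e' : Γ(L', W)) (hee' : chartSec 𝒮 p chart n L' lam' V hV W e' =
      QcqsLoc.rF (GrTwist.twist (𝒮.deg V hV) n) hWf (genSecK (𝒮.deg V hV) hf c' n hn)) :
    GenLocH8.IsGen L'' W ((mulBilinRel hL hL' hL'' hP).β W e e') := by
  have hWU : W ≤ p ⁻¹ᵁ V := hWr.trans (opensRange_emb 𝒮 p chart V hV).le
  have hbij : ∀ O : P.Opens, O ≤ W → Function.Bijective (QCohExtn.ap (lam'' V hV) O) :=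
    fun O hO => hL''.bijective V hV O (hO.trans hWU)
  refine isGen_of_pushforward_bij (RelProj.emb p chart V hV) _ L'' (lam'' V hV) W hWr hbij _ ?_
  have h2 := mulBilinRel_spec hL hL' hL'' hP W e e' V hV
  have h3 : QCohExtn.ap (lam'' V hV) W ((mulBilinRel hL hL' hL'' hP).β W e e') =
      mulSec (𝒮.deg V hV) m n (op ((RelProj.emb p chart V hV) ⁻¹ᵁ W))
        (QcqsLoc.rF (GrTwist.twist (𝒮.deg V hV) m) hWf (genSecK (𝒮.deg V hV) hf c m hm))
        (QcqsLoc.rF (GrTwist.twist (𝒮.deg V hV) n) hWf (genSecK (𝒮.deg V hV) hf c' n hn)) := by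
    refine h2.trans ?_
    rw [hee, hee']
  rw [h3]
  refine isGen_of_inverse' (𝒮.deg V hV) (m + n) (-(c * d) + -(c' * d)) (by omega) _ _
    (mulSec (𝒮.deg V hV) _ _ (op ((RelProj.emb p chart V hV) ⁻¹ᵁ W))
      (QcqsLoc.rF (GrTwist.twist (𝒮.deg V hV) (-(c * d))) hWf
        (genSecKInv (𝒮.deg V hV) hf c _ rfl))
      (QcqsLoc.rF (GrTwist.twist (𝒮.deg V hV) (-(c' * d))) hWf
        (genSecKInv (𝒮.deg V hV) hf c' _ rfl))) (fun y => ?_)
  have hyf : f ∉ (y.1 : ProjectiveSpectrum (𝒮.deg V hV)).asHomogeneousIdeal := hWf y.2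
  have hp : ∀ k : ℕ, f ^ k ∈
      (y.1 : ProjectiveSpectrum (𝒮.deg V hV)).asHomogeneousIdeal.toIdeal.primeCompl :=
    fun k h => hyf ((y.1 : ProjectiveSpectrum (𝒮.deg V hV)).isPrime.mem_of_pow_mem _ h)
  show (Localization.mk (f ^ (-c).toNat) ⟨f ^ c.toNat, hp _⟩ *
      Localization.mk (f ^ (-c').toNat) ⟨f ^ c'.toNat, hp _⟩) *
    (Localization.mk (f ^ c.toNat) ⟨f ^ (-c).toNat, hp _⟩ *
      Localization.mk (f ^ c'.toNat) ⟨f ^ (-c').toNat, hp _⟩) = 1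
  rw [mul_mul_mul_comm, mk_mul_mk_swap, mk_mul_mk_swap, one_mul]

end Rel

section Inv
variable {Y P : Scheme.{u}} {𝒮 : RelProj.QCGrAlg Y} {p : P ⟶ Y}
  {chart : ∀ (U : Y.Opens) (hU : IsAffineOpen U),
    (((p ⁻¹ᵁ U : P.Opens) : Scheme.{u}) ≅ Proj (𝒮.deg U hU))}

/-- **`O_X(n)|U ⊗ O_X(-n)|U ≅ O_U`** for `d ∣ n`, on a quasi-compact open `U` of a relative `Proj`. -/
theorem exists_d_tensor_neg_iso (hP : RelProj.IsRelProj 𝒮 p chart) (U : P.Opens)
    (hU : IsCompact (U : Set P)) :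
    ∃ d : ℕ, 0 < d ∧ ∀ (n : ℤ), (d : ℤ) ∣ n →
      ∀ (L : P.Modules)
        (lam : ∀ (V : Y.Opens) (hV : IsAffineOpen V),
          L ⟶ (Scheme.Modules.pushforward (RelProj.emb p chart V hV)).obj
            (GrTwist.twist (𝒮.deg V hV) n)),
        RelProj.IsRelTwist 𝒮 p chart n L lam →
      ∀ (L' : P.Modules)
        (lam' : ∀ (V : Y.Opens) (hV : IsAffineOpen V),
          L' ⟶ (Scheme.Modules.pushforward (RelProj.emb p chart V hV)).obj
            (GrTwist.twist (𝒮.deg V hV) (-n))),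
        RelProj.IsRelTwist 𝒮 p chart (-n) L' lam' →
          Nonempty (CohB1.tensorMod (L.restrict U.ι) (L'.restrict U.ι) ≅
            Coh.structureModule (U : Scheme.{u})) := by
  choose V hV m h hm hh hxW hWU using fun x : U => exists_chart_basicOpen 𝒮 p chart U x.1 x.2
  obtain ⟨t, ht⟩ := hU.elim_finite_subcover
    (fun x : U => (((RelProj.emb p chart (V x) (hV x)) ''ᵁ
      (Proj.basicOpen (𝒮.deg (V x) (hV x)) (h x)) : P.Opens) : Set P))
    (fun x => ((RelProj.emb p chart (V x) (hV x)) ''ᵁ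
      (Proj.basicOpen (𝒮.deg (V x) (hV x)) (h x))).2)
    (fun z hz => Set.mem_iUnion.mpr ⟨⟨z, hz⟩, hxW ⟨z, hz⟩⟩)
  refine ⟨∏ k ∈ t, m k, Finset.prod_pos (fun k _ => hm k), fun n hn L lam hL L' lam' hL' => ?_⟩
  have hO := isRelTwist_lamO hP (n + -n) (add_neg_cancel n)
  let B := mulBilinRel hL hL' hO hP
  let ψ := (restrictBilin B U).toHom
  haveI : IsIso ψ := by
    apply TensH8.isIso_of_isGen_cover
    intro u
    obtain ⟨k, hk⟩ := Set.mem_iUnion.mp (ht u.2)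
    obtain ⟨hkt, huk⟩ := Set.mem_iUnion.mp hk
    obtain ⟨c, hc⟩ : (m k : ℤ) ∣ n :=
      (Int.natCast_dvd_natCast.mpr (Finset.dvd_prod_of_mem m hkt)).trans hn
    have hn1 : n = c * (m k : ℤ) := by rw [hc, mul_comm]
    have hn2 : -n = (-c) * (m k : ℤ) := by rw [hn1]; ring
    have hWr : (RelProj.emb p chart (V k) (hV k)) ''ᵁ
        (Proj.basicOpen (𝒮.deg (V k) (hV k)) (h k)) ≤
        (RelProj.emb p chart (V k) (hV k)).opensRange := Scheme.Hom.image_le_opensRange _ _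
    have hWf : (RelProj.emb p chart (V k) (hV k)) ⁻¹ᵁ ((RelProj.emb p chart (V k) (hV k)) ''ᵁ
        (Proj.basicOpen (𝒮.deg (V k) (hV k)) (h k))) ≤
        Proj.basicOpen (𝒮.deg (V k) (hV k)) (h k) := (Scheme.Hom.preimage_image_eq _ _).le
    obtain ⟨W, hW⟩ : ∃ W : P.Opens, W = (RelProj.emb p chart (V k) (hV k)) ''ᵁ
        (Proj.basicOpen (𝒮.deg (V k) (hV k)) (h k)) := ⟨_, rfl⟩
    have hWUk : W ≤ U := hW ▸ hWU k
    rw [← hW] at hWr hWf huk
    obtain ⟨e, hee, he⟩ := exists_isGen_of_chartK hL (V k) (hV k) (hh k) c hn1 W hWr hWf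
    obtain ⟨e', hee', he'⟩ := exists_isGen_of_chartK hL' (V k) (hV k) (hh k) (-c) hn2 W hWr hWf
    have hW' : U.ι ''ᵁ (U.ι ⁻¹ᵁ W) ≤ W := Scheme.Hom.image_preimage_le _ _
    have hg := WDivShH8.isGen_restrict L U he (U.ι ⁻¹ᵁ W) hW'
    have hg' := WDivShH8.isGen_restrict L' U he' (U.ι ⁻¹ᵁ W) hW'
    refine ⟨U.ι ⁻¹ᵁ W, huk, SecTwist.tmul _ _ _ _ _, TensH8.isGen_tmul hg hg', ?_⟩
    have h1 : QCohExtn.ap ψ (U.ι ⁻¹ᵁ W) (SecTwist.tmul (L.restrict U.ι) (L'.restrict U.ι) _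
        (show Γ(L.restrict U.ι, U.ι ⁻¹ᵁ W) from QcqsLoc.rF L hW' e)
        (show Γ(L'.restrict U.ι, U.ι ⁻¹ᵁ W) from QcqsLoc.rF L' hW' e')) =
        (show Γ((Coh.structureModule P).restrict U.ι, U.ι ⁻¹ᵁ W) from
          QcqsLoc.rF (Coh.structureModule P) hW' (B.β W e e')) := by
      refine ((restrictBilin B U).toHom_tmul (U.ι ⁻¹ᵁ W) _ _).trans ?_
      exact (B.natural hW' e e').symm
    rw [h1]
    exact WDivShH8.isGen_restrict (Coh.structureModule P) U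
      (isGen_mulBilinRel_β hL hL' hO hP (V k) (hV k) (hh k) c (-c) hn1 hn2 W hWr hWf e hee e' hee')
      (U.ι ⁻¹ᵁ W) hW'
  exact ⟨asIso ψ ≪≫ Scheme.Modules.restrictUnitIso U.ι⟩

end Inv

end Groth.Agent.GrTw
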