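import Mathlib
import Groth.Prelude
import Groth.Agent.Lib.Tens5_helper8

/-!
# A module with a tensor inverse is invertible (helper8)
APPEND-ONLY once landed.
-/

set_option autoImplicit false

namespace InvTensH8

open AlgebraicGeometry CategoryTheory CategoryTheory.Limits TopologicalSpace Opposite TensorProduct
open QcqsLoc MonoidalCategory GenLocH8 FLFH8 QCohExtn TensH8

universe u

variable {X : Scheme.{u}} {L N : X.Modules} (φ : CohB1.tensorMod L N ⟶ Coh.structureModule X)

/-- The pairing of sections induced by a morphism `L ⊗ N ⟶ O_X`. -/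
noncomputable def pair (U : X.Opens) (m : Γ(L, U)) (n : Γ(N, U)) : Γ(X, U) :=
  ofM (ap φ U (SecTwist.tmul L N U m n))

theorem pair_add_left (U : X.Opens) (m m' : Γ(L, U)) (n : Γ(N, U)) :
    pair φ U (m + m') n = pair φ U m n + pair φ U m' n := by
  have h := tmul_add_left L N U m m' n
  have h2 := congrArg (fun t => ofM (ap φ U t)) h
  exact h2.trans (congrArg ofM (map_add (ap φ U) _ _))

theorem pair_add_right (U : X.Opens) (m : Γ(L, U)) (n n' : Γ(N, U)) :
    pair φ U m (n + n') = pair φ U m n + pair φ U m n' := by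
  have h := tmul_add_right L N U m n n'
  have h2 := congrArg (fun t => ofM (ap φ U t)) h
  exact h2.trans (congrArg ofM (map_add (ap φ U) _ _))

theorem pair_smul_left (U : X.Opens) (r : Γ(X, U)) (m : Γ(L, U)) (n : Γ(N, U)) :
    pair φ U (r • m) n = r * pair φ U m n := by
  have h := tmul_smul_left L N U r m n
  have h2 := congrArg (fun t => ofM (ap φ U t)) h
  exact h2.trans (congrArg ofM (ap_smul φ r _))

theorem pair_smul_right (U : X.Opens) (r : Γ(X, U)) (m : Γ(L, U)) (n : Γ(N, U)) :
    pair φ U m (r • n) = r * pair φ U m n := by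
  have h := tmul_smul_right L N U r m n
  have h2 := congrArg (fun t => ofM (ap φ U t)) h
  exact h2.trans (congrArg ofM (ap_smul φ r _))

theorem pair_res {U V : X.Opens} (h : V ≤ U) (m : Γ(L, U)) (n : Γ(N, U)) :
    pair φ V (rF L h m) (rF N h n) = rX h (pair φ U m n) := by
  have h1 := rF_tmul L N h m n
  have h2 := congrArg (fun t => ofM (ap φ V t)) h1
  refine h2.symm.trans ?_
  exact congrArg ofM (ap_rF φ h _)

theorem pair_zero_left (U : X.Opens) (n : Γ(N, U)) : pair φ U 0 n = 0 := by
  have h := tmul_zero_left L N U n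
  have h2 := congrArg (fun t => ofM (ap φ U t)) h
  exact h2.trans (congrArg ofM (map_zero (ap φ U)))

end InvTensH8
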