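import Mathlib
import Groth.Prelude
import Groth.Agent.Lib.InvTens1_helper8

/-!
# A module with a tensor inverse is invertible, II (helper8)
APPEND-ONLY once landed.
-/

set_option autoImplicit false

namespace InvTensH8

open AlgebraicGeometry CategoryTheory CategoryTheory.Limits TopologicalSpace Opposite TensorProduct
open QcqsLoc MonoidalCategory GenLocH8 FLFH8 QCohExtn TensH8

universe u

variable {X : Scheme.{u}} {L N : X.Modules} (φ : CohB1.tensorMod L N ⟶ Coh.structureModule X)

/-- `ofM` as an additive map. -/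
noncomputable def ofMHom (U : X.Opens) : Γ(Coh.structureModule X, U) →+ Γ(X, U) :=
  AddMonoidHom.mk' ofM (fun _ _ => rfl)

/-- The value of `φ` on the presheaf tensor product. -/
noncomputable def preVal (U : X.Opens) : ↥((CohB1.tensorPre L N).obj (op U)) →+ Γ(X, U) :=
  (ofMHom U).comp ((ap φ U).comp (eta L N U))

theorem preVal_tmul (U : X.Opens) (m : L.val.obj (op U)) (n : N.val.obj (op U)) :
    preVal φ U (m ⊗ₜ n) = pair φ U m n := rfl

theorem exists_pair_unit (x : X) {U : X.Opens} (hx : x ∈ U)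
    (p : ↥((CohB1.tensorPre L N).obj (op U))) (hp : preVal φ U p = 1) :
    ∃ (l : Γ(L, U)) (n : Γ(N, U)), IsUnit (X.presheaf.germ U x hx (pair φ U l n)) := by
  by_contra h
  push Not at h
  let S : AddSubmonoid ↥((CohB1.tensorPre L N).obj (op U)) :=
    (IsLocalRing.maximalIdeal (X.presheaf.stalk x)).toAddSubmonoid.comap
      ((X.presheaf.germ U x hx).hom.toAddMonoidHom.comp (preVal φ U))
  have key : ∀ q : ↥((CohB1.tensorPre L N).obj (op U)), q ∈ S := by
    intro q
    induction q using TensorProduct.induction_on with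
    | zero => exact S.zero_mem
    | tmul l n => exact h l n
    | add q q' hq hq' => exact S.add_mem hq hq'
  have h1 : X.presheaf.germ U x hx (preVal φ U p) ∈
      IsLocalRing.maximalIdeal (X.presheaf.stalk x) := key p
  rw [hp, map_one] at h1
  exact (IsLocalRing.maximalIdeal (X.presheaf.stalk x)).ne_top_iff_one.1
    (Ideal.IsMaximal.ne_top inferInstance) h1

/-- `(m, n) ↦ pair(l, n) • m`. -/
noncomputable def cFun {O : X.Opens} (l : Γ(L, O)) (m : Γ(L, O)) (n : Γ(N, O)) : Γ(L, O) :=
  pair φ O l n • m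

theorem cFun_add_left {O : X.Opens} (l : Γ(L, O)) (m m' : Γ(L, O)) (n : Γ(N, O)) :
    cFun φ l (m + m') n = cFun φ l m n + cFun φ l m' n := smul_add _ _ _

theorem cFun_smul_left {O : X.Opens} (l : Γ(L, O)) (r : Γ(X, O)) (m : Γ(L, O)) (n : Γ(N, O)) :
    cFun φ l (r • m) n = r • cFun φ l m n := smul_comm _ _ _

theorem cFun_add_right {O : X.Opens} (l : Γ(L, O)) (m : Γ(L, O)) (n n' : Γ(N, O)) :
    cFun φ l m (n + n') = cFun φ l m n + cFun φ l m n' := by
  unfold cFun
  rw [pair_add_right, add_smul]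

theorem cFun_smul_right {O : X.Opens} (l : Γ(L, O)) (r : Γ(X, O)) (m : Γ(L, O)) (n : Γ(N, O)) :
    cFun φ l m (r • n) = r • cFun φ l m n := by
  unfold cFun
  rw [pair_smul_right, mul_smul]

/-- The contraction `L(O) ⊗ N(O) → L(O)`, `m ⊗ n ↦ pair(l, n) • m`. -/
noncomputable def contr {O : X.Opens} (l : Γ(L, O)) :
    ((CohB1.tensorPre L N).obj (op O)) ⟶ ((CohB1.toPMod L).obj (op O)) :=
  ModuleCat.MonoidalCategory.tensorLift
    (fun m n => cFun φ l m n)
    (fun m m' n => cFun_add_left φ l m m' n)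
    (fun r m n => cFun_smul_left φ l r m n)
    (fun m n n' => cFun_add_right φ l m n n')
    (fun r m n => cFun_smul_right φ l r m n)

theorem contr_tmul {O : X.Opens} (l : Γ(L, O)) (m : L.val.obj (op O)) (n : N.val.obj (op O)) :
    (contr φ l).hom (m ⊗ₜ n) = cFun φ l m n := rfl


section Main

variable (e : CohB1.tensorMod L N ≅ Coh.structureModule X)

theorem ap_inv_hom (U : X.Opens) (t : Γ(CohB1.tensorMod L N, U)) :
    ap e.inv U (ap e.hom U t) = t := by
  have h := congrArg (fun f => ap f U t) e.hom_inv_id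
  exact h

theorem ap_hom_inv (U : X.Opens) (t : Γ(Coh.structureModule X, U)) :
    ap e.hom U (ap e.inv U t) = t := by
  have h := congrArg (fun f => ap f U t) e.inv_hom_id
  exact h

/-- If `k ⊗ n` pairs to zero against an element `n` with `pair(l, n) = 1`, then `k = 0`. -/
theorem eq_zero_of_pair {O : X.Opens} (l k : Γ(L, O)) (n : Γ(N, O))
    (h1 : pair e.hom O l n = 1) (hk : pair e.hom O k n = 0) : k = 0 := by
  have h2 : SecTwist.tmul L N O k n = (0 : Γ(CohB1.tensorMod L N, O)) := by
    have h3 : ap e.hom O (SecTwist.tmul L N O k n) = 0 := hk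
    have h4 := congrArg (ap e.inv O) h3
    rw [ap_inv_hom, map_zero] at h4
    exact h4
  apply eq_zero_of_cover L k
  intro z hz
  have h5 : eta L N O ((k : L.val.obj (op O)) ⊗ₜ (n : N.val.obj (op O))) = eta L N O 0 := by
    rw [eta_tmul, map_zero]
    exact h2
  obtain ⟨V, hV, hzV, hres⟩ := eta_locally_injective L N _ _ h5 z hz
  refine ⟨V, hV, hzV, ?_⟩
  rw [resPre_tmul, map_zero] at hres
  have h6 := congrArg (contr e.hom (rF L hV l)).hom hres
  rw [contr_tmul, map_zero] at h6
  unfold cFun at h6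
  rw [pair_res, h1, map_one, one_smul] at h6
  exact h6

end Main


theorem pair_sub_left (U : X.Opens) (m m' : Γ(L, U)) (n : Γ(N, U)) :
    pair φ U (m - m') n = pair φ U m n - pair φ U m' n := by
  have h := pair_add_left φ U (m - m') m' n
  rw [sub_add_cancel] at h
  rw [h, add_sub_cancel_right]

/-- A module with a tensor inverse is invertible. -/
theorem isInvertible_of_tensor_iso (e : CohB1.tensorMod L N ≅ Coh.structureModule X) :
    PicF.IsInvertible L := by
  apply isInvertible_of_gens
  intro x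
  let y : Γ(CohB1.tensorMod L N, ⊤) := ap e.inv ⊤ (toM 1)
  obtain ⟨V, hV, hxV, p, hp⟩ := eta_locally_surjective L N y x trivial
  have hp1 : preVal e.hom V p = 1 := by
    show ofM (ap e.hom V (eta L N V p)) = 1
    rw [hp]
    have h1 : ap e.hom V (rF (CohB1.tensorMod L N) hV y) =
        rF (Coh.structureModule X) hV (ap e.hom ⊤ y) := ap_rF e.hom hV y
    have h2 : ap e.hom ⊤ y = toM 1 := ap_hom_inv e ⊤ (toM 1)
    have h3 : ofM (ap e.hom V (rF (CohB1.tensorMod L N) hV y)) = 1 := by
      rw [h1, h2]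
      exact map_one (rX hV)
    exact h3
  obtain ⟨l, n, hu⟩ := exists_pair_unit e.hom x hxV p hp1
  have hxa : x ∈ X.basicOpen (pair e.hom V l n) := (X.mem_basicOpen _ x hxV).2 hu
  obtain ⟨_, ⟨W, hW : IsAffineOpen W, rfl⟩, hxW, hWle⟩ :=
    (X.isBasis_affineOpens).exists_subset_of_mem_open hxa (X.basicOpen (pair e.hom V l n)).isOpen
  have hWa : W ≤ X.basicOpen (pair e.hom V l n) := hWle
  have hWV : W ≤ V := hWa.trans (X.basicOpen_le _)
  have hunit : IsUnit (rX hWV (pair e.hom V l n)) := by
    have h1 : IsUnit (rX (X.basicOpen_le (pair e.hom V l n)) (pair e.hom V l n)) :=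
      RingedSpace.isUnit_res_basicOpen X.toRingedSpace (pair e.hom V l n)
    have h2 := h1.map (rX hWa)
    rwa [rX_rX] at h2
  obtain ⟨u, hu'⟩ := hunit
  let l' : Γ(L, W) := rF L hWV l
  let n' : Γ(N, W) := ((↑u⁻¹ : Γ(X, W))) • rF N hWV n
  have h1 : pair e.hom W l' n' = 1 := by
    show pair e.hom W (rF L hWV l) (((↑u⁻¹ : Γ(X, W))) • rF N hWV n) = 1
    rw [pair_smul_right, pair_res, ← hu']
    exact u.inv_mul
  refine ⟨W, hW, hxW, l', ?_⟩
  intro O hO
  have h1O : pair e.hom O (rF L hO l') (rF N hO n') = 1 := by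
    rw [pair_res, h1, map_one]
  constructor
  · intro m
    refine ⟨pair e.hom O m (rF N hO n'), ?_⟩
    have hk : m - pair e.hom O m (rF N hO n') • rF L hO l' = 0 := by
      apply eq_zero_of_pair e (rF L hO l') _ (rF N hO n') h1O
      rw [pair_sub_left, pair_smul_left, h1O, mul_one, sub_self]
    exact sub_eq_zero.1 hk
  · intro c hc
    have h2 := congrArg (fun t => pair e.hom O t (rF N hO n')) hc
    simp only [pair_smul_left, h1O, mul_one, pair_zero_left] at h2
    exact h2

end InvTensH8
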