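import Mathlib
import Groth.Prelude
import Groth.Agent.Lib.Tens16_helper8
import Groth.Agent.Lib.TwistEpi_helper5

/-!
# Two modules framed with the same weight over an invertible module are isomorphic (helper5).
APPEND-ONLY once landed.
-/

set_option autoImplicit false
universe u
open CategoryTheory CategoryTheory.Limits AlgebraicGeometry TopologicalSpace Opposite

noncomputable section

namespace Groth.Agent.FrameIso

open QcqsLoc QCohExtn GenLocH8 TensH8

variable {X : Scheme.{u}} {L M M' : X.Modules} {N : ℕ}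

theorem exists_transfer (hL : PicF.IsInvertible L) (Φ : Frame L M N) (Ψ : Frame L M' N)
    (U : X.Opens) (s : Γ(M, U)) :
    ∃ σ : Γ(M', U), ∀ (W : X.Opens) (hW : W ≤ U) (e : Γ(L, W)) (he : IsGen L W e),
      rF M' hW σ = Φ.coefOf s W hW e he • Ψ.φ W e :=
  Ψ.exists_section hL U (fun W hW e he => Φ.coefOf s W hW e he)
    (fun W hW e he W' h => Φ.coefOf_res s W hW e he h)
    (fun W hW e he u he' => Φ.coefOf_change s W hW e he u he')

/-- Transfer of a section between two framed modules of the same weight. -/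
def transfer (hL : PicF.IsInvertible L) (Φ : Frame L M N) (Ψ : Frame L M' N)
    (U : X.Opens) (s : Γ(M, U)) : Γ(M', U) :=
  Classical.choose (exists_transfer hL Φ Ψ U s)

theorem transfer_spec (hL : PicF.IsInvertible L) (Φ : Frame L M N) (Ψ : Frame L M' N)
    (U : X.Opens) (s : Γ(M, U)) (W : X.Opens) (hW : W ≤ U) (e : Γ(L, W)) (he : IsGen L W e) :
    rF M' hW (transfer hL Φ Ψ U s) = Φ.coefOf s W hW e he • Ψ.φ W e :=
  Classical.choose_spec (exists_transfer hL Φ Ψ U s) W hW e he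

theorem eq_transfer (hL : PicF.IsInvertible L) (Φ : Frame L M N) (Ψ : Frame L M' N)
    (U : X.Opens) (s : Γ(M, U)) (σ : Γ(M', U))
    (hσ : ∀ (W : X.Opens) (hW : W ≤ U) (e : Γ(L, W)) (he : IsGen L W e),
      ∃ c : Γ(X, W), rF M hW s = c • Φ.φ W e ∧ rF M' hW σ = c • Ψ.φ W e) :
    σ = transfer hL Φ Ψ U s := by
  apply eq_of_cover M'
  intro x hx
  obtain ⟨W, -, hxW, hWU, e, he⟩ := exists_isGen_le hL x U hx
  refine ⟨W, hWU, hxW, ?_⟩
  obtain ⟨c, hc1, hc2⟩ := hσ W hWU e he
  rw [transfer_spec hL Φ Ψ U s W hWU e he, hc2, Φ.coefOf_unique s W hWU e he c hc1]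

theorem transfer_add (hL : PicF.IsInvertible L) (Φ : Frame L M N) (Ψ : Frame L M' N)
    (U : X.Opens) (s s' : Γ(M, U)) :
    transfer hL Φ Ψ U (s + s') = transfer hL Φ Ψ U s + transfer hL Φ Ψ U s' := by
  symm
  apply eq_transfer
  intro W hW e he
  refine ⟨Φ.coefOf s W hW e he + Φ.coefOf s' W hW e he, ?_, ?_⟩
  · rw [map_add, add_smul, ← Φ.coefOf_spec, ← Φ.coefOf_spec]
  · rw [map_add, add_smul, transfer_spec hL Φ Ψ U s W hW e he,
      transfer_spec hL Φ Ψ U s' W hW e he]

theorem transfer_smul (hL : PicF.IsInvertible L) (Φ : Frame L M N) (Ψ : Frame L M' N)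
    (U : X.Opens) (r : Γ(X, U)) (s : Γ(M, U)) :
    transfer hL Φ Ψ U (r • s) = r • transfer hL Φ Ψ U s := by
  symm
  apply eq_transfer
  intro W hW e he
  refine ⟨rX hW r * Φ.coefOf s W hW e he, ?_, ?_⟩
  · rw [rF_smul, mul_smul, ← Φ.coefOf_spec]
  · rw [rF_smul, mul_smul, transfer_spec hL Φ Ψ U s W hW e he]

theorem transfer_rF (hL : PicF.IsInvertible L) (Φ : Frame L M N) (Ψ : Frame L M' N)
    {U V : X.Opens} (h : V ≤ U) (s : Γ(M, U)) :
    rF M' h (transfer hL Φ Ψ U s) = transfer hL Φ Ψ V (rF M h s) := by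
  apply eq_transfer
  intro W hW e he
  refine ⟨Φ.coefOf s W (hW.trans h) e he, ?_, ?_⟩
  · rw [rF_rF, ← Φ.coefOf_spec]
  · rw [rF_rF, transfer_spec hL Φ Ψ U s W (hW.trans h) e he]

theorem transfer_transfer (hL : PicF.IsInvertible L) (Φ : Frame L M N) (Ψ : Frame L M' N)
    (U : X.Opens) (s : Γ(M, U)) :
    transfer hL Ψ Φ U (transfer hL Φ Ψ U s) = s := by
  symm
  apply eq_transfer
  intro W hW e he
  exact ⟨Φ.coefOf s W hW e he, transfer_spec hL Φ Ψ U s W hW e he, Φ.coefOf_spec s W hW e he⟩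

/-- The transfer morphism. -/
def transferHom (hL : PicF.IsInvertible L) (Φ : Frame L M N) (Ψ : Frame L M' N) : M ⟶ M' :=
  Groth.Agent.FinGG.homOfSections (M := M) (P := M')
    (fun U => AddMonoidHom.mk' (fun s => transfer hL Φ Ψ U s)
      (fun a b => transfer_add hL Φ Ψ U a b))
    (fun U r s => transfer_smul hL Φ Ψ U r s)
    (fun {U V} h s => transfer_rF hL Φ Ψ h s)

theorem transferHom_comp (hL : PicF.IsInvertible L) (Φ : Frame L M N) (Ψ : Frame L M' N) :
    transferHom hL Φ Ψ ≫ transferHom hL Ψ Φ = 𝟙 M := by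
  apply Scheme.Modules.hom_ext
  intro U
  apply ConcreteCategory.hom_ext
  intro s
  exact transfer_transfer hL Φ Ψ U s

/-- **Two modules framed with the same weight over an invertible module are isomorphic.** -/
def iso (hL : PicF.IsInvertible L) (Φ : Frame L M N) (Ψ : Frame L M' N) : M ≅ M' where
  hom := transferHom hL Φ Ψ
  inv := transferHom hL Ψ Φ
  hom_inv_id := transferHom_comp hL Φ Ψ
  inv_hom_id := transferHom_comp hL Ψ Φ

theorem ap_iso_hom (hL : PicF.IsInvertible L) (Φ : Frame L M N) (Ψ : Frame L M' N)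
    (U : X.Opens) (s : Γ(M, U)) : ap (iso hL Φ Ψ).hom U s = transfer hL Φ Ψ U s := rfl

end Groth.Agent.FrameIso
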