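import Mathlib
import Groth.Prelude
import Groth.Agent.Lib.FrameIso_helper5
import Groth.Agent.Lib.Tens17_helper8
import Groth.Agent.Lib.Tens9_helper8

/-!
# Pullback commutes with the tensor product of invertible modules  (helper5).
APPEND-ONLY once landed.
-/

set_option autoImplicit false
universe u
open CategoryTheory AlgebraicGeometry TopologicalSpace Opposite

noncomputable section

namespace Groth.Agent.InvTensP

open QcqsLoc QCohExtn GenLocH8 TensH8 PBH8

variable {X Y : Scheme.{u}} (q : X ⟶ Y) {K K' : Y.Modules}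

/-- The local frame from `q^*K ⊗ q^*K'` to `q^*(K ⊗ K')`. -/
def pullbackTensorLocalFrame (hK : PicF.IsInvertible K) (hK' : PicF.IsInvertible K') :
    LocalFrame (CohB1.tensorMod ((Scheme.Modules.pullback q).obj K)
      ((Scheme.Modules.pullback q).obj K'))
      ((Scheme.Modules.pullback q).obj (CohB1.tensorMod K K')) 1 where
  ι := {p : Σ V : Y.Opens, Γ(K, V) × Γ(K', V) //
    IsAffineOpen p.1 ∧ IsGen K p.1 p.2.1 ∧ IsGen K' p.1 p.2.2}
  O p := q ⁻¹ᵁ p.1.1
  e p := SecTwist.tmul _ _ _ (cUV q K le_rfl p.1.2.1) (cUV q K' le_rfl p.1.2.2)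
  m p := cUV q (CohB1.tensorMod K K') le_rfl (SecTwist.tmul K K' p.1.1 p.1.2.1 p.1.2.2)
  he p := isGen_tmul (isGen_cUV q hK p.2.1 p.2.2.1) (isGen_cUV q hK' p.2.1 p.2.2.2)
  hm p := isGen_cUV q (isInvertible_tensorMod hK hK') p.2.1 (isGen_tmul p.2.2.1 p.2.2.2)
  cover x := by
    obtain ⟨V, -, hxV, k, hk⟩ := exists_isGen hK (q x)
    obtain ⟨V', hV', hxV', hV'V, k', hk'⟩ := exists_isGen_le hK' (q x) V hxV
    exact ⟨⟨⟨V', (rF K hV'V k, k')⟩, hV', hk.res hV'V, hk'⟩, hxV'⟩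
  compat := by
    rintro ⟨⟨V, ⟨k, k'⟩⟩, hV, hk, hk'⟩ ⟨⟨V₂, ⟨k₂, k₂'⟩⟩, hV₂, hk₂, hk₂'⟩
      (c : Γ(X, q ⁻¹ᵁ (V ⊓ V₂))) hc
    have hl : V ⊓ V₂ ≤ V := inf_le_left
    have hr : V ⊓ V₂ ≤ V₂ := inf_le_right
    have hpl : q ⁻¹ᵁ (V ⊓ V₂) ≤ q ⁻¹ᵁ V := fun _ hz => hz.1
    have hpr : q ⁻¹ᵁ (V ⊓ V₂) ≤ q ⁻¹ᵁ V₂ := fun _ hz => hz.2
    obtain ⟨d, hd⟩ := (hk₂.res hr).exists_coef (rF K hl k)
    obtain ⟨d', hd'⟩ := (hk₂'.res hr).exists_coef (rF K' hl k')
    have g1 : rF ((Scheme.Modules.pullback q).obj K) hpl (cUV q K le_rfl k) =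
        q.appLE (V ⊓ V₂) (q ⁻¹ᵁ (V ⊓ V₂)) le_rfl d •
          rF ((Scheme.Modules.pullback q).obj K) hpr (cUV q K le_rfl k₂) := by
      rw [rF_cUV, rF_cUV, ← cUV_resV q K hl le_rfl, hd, cUV_smul, cUV_resV q K hr le_rfl]
    have g1' : rF ((Scheme.Modules.pullback q).obj K') hpl (cUV q K' le_rfl k') =
        q.appLE (V ⊓ V₂) (q ⁻¹ᵁ (V ⊓ V₂)) le_rfl d' •
          rF ((Scheme.Modules.pullback q).obj K') hpr (cUV q K' le_rfl k₂') := by
      rw [rF_cUV, rF_cUV, ← cUV_resV q K' hl le_rfl, hd', cUV_smul, cUV_resV q K' hr le_rfl]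
    have hgen : IsGen (CohB1.tensorMod ((Scheme.Modules.pullback q).obj K)
        ((Scheme.Modules.pullback q).obj K')) (q ⁻¹ᵁ (V ⊓ V₂))
        (SecTwist.tmul _ _ _ (rF ((Scheme.Modules.pullback q).obj K) hpr (cUV q K le_rfl k₂))
          (rF ((Scheme.Modules.pullback q).obj K') hpr (cUV q K' le_rfl k₂'))) :=
      isGen_tmul ((isGen_cUV q hK hV₂ hk₂).res hpr) ((isGen_cUV q hK' hV₂ hk₂').res hpr)
    have hc' : c = q.appLE (V ⊓ V₂) (q ⁻¹ᵁ (V ⊓ V₂)) le_rfl d *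
        q.appLE (V ⊓ V₂) (q ⁻¹ᵁ (V ⊓ V₂)) le_rfl d' := by
      apply IsGen.coef_ext hgen
      have h2 : SecTwist.tmul ((Scheme.Modules.pullback q).obj K)
            ((Scheme.Modules.pullback q).obj K') (q ⁻¹ᵁ (V ⊓ V₂))
            (rF ((Scheme.Modules.pullback q).obj K) hpl (cUV q K le_rfl k))
            (rF ((Scheme.Modules.pullback q).obj K') hpl (cUV q K' le_rfl k')) =
          c • SecTwist.tmul ((Scheme.Modules.pullback q).obj K)
            ((Scheme.Modules.pullback q).obj K') (q ⁻¹ᵁ (V ⊓ V₂))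
            (rF ((Scheme.Modules.pullback q).obj K) hpr (cUV q K le_rfl k₂))
            (rF ((Scheme.Modules.pullback q).obj K') hpr (cUV q K' le_rfl k₂')) := by
        have h3 := hc
        simp only at h3
        rw [rF_tmul, rF_tmul] at h3
        exact h3
      rw [g1, g1', tmul_smul_left, tmul_smul_right, ← mul_smul] at h2
      exact h2.symm
    simp only
    rw [pow_one]
    show rF ((Scheme.Modules.pullback q).obj (CohB1.tensorMod K K')) hpl
        (cUV q (CohB1.tensorMod K K') le_rfl (SecTwist.tmul K K' V k k')) =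
      c • rF ((Scheme.Modules.pullback q).obj (CohB1.tensorMod K K')) hpr
        (cUV q (CohB1.tensorMod K K') le_rfl (SecTwist.tmul K K' V₂ k₂ k₂'))
    rw [rF_cUV, rF_cUV, ← cUV_resV q _ hl le_rfl, rF_tmul, hd, hd', tmul_smul_left,
      tmul_smul_right, ← mul_smul, cUV_smul, ← rF_tmul, cUV_resV q _ hr le_rfl, hc', map_mul]

/-- **Pullback commutes with the tensor product of invertible modules.** -/
def pullbackTensorIso (hK : PicF.IsInvertible K) (hK' : PicF.IsInvertible K') :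
    CohB1.tensorMod ((Scheme.Modules.pullback q).obj K) ((Scheme.Modules.pullback q).obj K') ≅
      (Scheme.Modules.pullback q).obj (CohB1.tensorMod K K') :=
  Groth.Agent.FrameIso.iso
    (isInvertible_tensorMod (isInvertible_pullback q hK) (isInvertible_pullback q hK'))
    (Frame.self _) (pullbackTensorLocalFrame q hK hK').toFrame

end Groth.Agent.InvTensP
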