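import Groth.Agent.Lib.ProjBasic_helper3

/-! Projective Nullstellensatz-type lemmas. -/

universe u
open AlgebraicGeometry CategoryTheory HomogeneousLocalization

namespace Groth.Agent.Lib.ProjNull_helper3

section
variable {A σ : Type*} [CommRing A] [SetLike σ A] [AddSubgroupClass σ A]
  (𝒜 : ℕ → σ) [GradedRing 𝒜]

/-- Projective Nullstellensatz on the irrelevant ideal. -/
theorem mem_radical_iff {I : Ideal A} (hI : I.IsHomogeneous 𝒜) {g : A}
    (hg : g ∈ (HomogeneousIdeal.irrelevant 𝒜).toIdeal) :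
    g ∈ I.radical ↔ ∀ x : ProjectiveSpectrum 𝒜, I ≤ x.asHomogeneousIdeal.toIdeal →
      g ∈ x.asHomogeneousIdeal.toIdeal := by
  constructor
  · intro h x hx
    exact (x.isPrime.radical_le_iff.mpr hx) h
  · intro h
    rw [hI.radical_eq, Ideal.mem_sInf]
    rintro J ⟨hJ, hIJ, hJp⟩
    by_cases hirr : HomogeneousIdeal.irrelevant 𝒜 ≤ (⟨J, hJ⟩ : HomogeneousIdeal 𝒜)
    · exact hirr hg
    · exact h ⟨⟨J, hJ⟩, hJp, hirr⟩ hIJ

theorem isNilpotent_iff {g : A} (hg : g ∈ (HomogeneousIdeal.irrelevant 𝒜).toIdeal) :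
    IsNilpotent g ↔ ∀ x : ProjectiveSpectrum 𝒜, g ∈ x.asHomogeneousIdeal.toIdeal := by
  have := mem_radical_iff 𝒜 (I := ⊥) (Ideal.IsHomogeneous.bot 𝒜) hg
  rw [← mem_nilradical, nilradical, ← Ideal.zero_eq_bot] at *
  rw [this]
  exact ⟨fun h x => h x (by simp), fun h x _ => h x⟩

theorem isEmpty_iff {A σ : Type u} [CommRing A] [SetLike σ A] [AddSubgroupClass σ A]
    (𝒜 : ℕ → σ) [GradedRing 𝒜] :
    IsEmpty (Proj 𝒜) ↔ ∀ f ∈ (HomogeneousIdeal.irrelevant 𝒜).toIdeal, IsNilpotent f := by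
  constructor
  · intro h f hf
    rw [isNilpotent_iff 𝒜 hf]
    intro x
    exact (h.false (show Proj 𝒜 from x)).elim
  · intro h
    refine ⟨fun x => ?_⟩
    have x' : ProjectiveSpectrum 𝒜 := x
    apply x'.not_irrelevant_le
    intro f hf
    obtain ⟨k, hk⟩ := h f hf
    exact x'.isPrime.mem_of_pow_mem k (hk ▸ zero_mem _)

theorem iSup_basicOpen_eq_top_iff {A σ : Type u} [CommRing A] [SetLike σ A] [AddSubgroupClass σ A]
    (𝒜 : ℕ → σ) [GradedRing 𝒜] {ι : Type*} (f : ι → A) (hf : ∀ i, ∃ d : ℕ, f i ∈ 𝒜 d) :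
    (⨆ i, Proj.basicOpen 𝒜 (f i)) = ⊤ ↔
      (HomogeneousIdeal.irrelevant 𝒜).toIdeal ≤ (Ideal.span (Set.range f)).radical := by
  have hhom : (Ideal.span (Set.range f)).IsHomogeneous 𝒜 := by
    apply Ideal.homogeneous_span
    rintro _ ⟨i, rfl⟩
    obtain ⟨d, hd⟩ := hf i
    exact ⟨d, hd⟩
  constructor
  · intro h g hg
    rw [mem_radical_iff 𝒜 hhom hg]
    intro x hx
    have hx' : (show Proj 𝒜 from x) ∈ (⨆ i, Proj.basicOpen 𝒜 (f i)) := h ▸ trivial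
    obtain ⟨i, hi⟩ := TopologicalSpace.Opens.mem_iSup.mp hx'
    exact (hi (hx (Ideal.subset_span ⟨i, rfl⟩))).elim
  · intro h
    refine top_le_iff.mp fun x _ => TopologicalSpace.Opens.mem_iSup.mpr ?_
    by_contra! H
    simp only [Proj.mem_basicOpen, not_not] at H
    refine x.not_irrelevant_le (h.trans ?_)
    rw [x.isPrime.radical_le_iff, Ideal.span_le, Set.range_subset_iff]
    exact H

end

end Groth.Agent.Lib.ProjNull_helper3

namespace Groth.Agent.Lib.ProjNull_helper3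

section
open TopologicalSpace
variable {A σ : Type u} [CommRing A] [SetLike σ A] [AddSubgroupClass σ A] (𝒜 : ℕ → σ) [GradedRing 𝒜]

theorem exists_basicOpen_irrelevant (x : Proj 𝒜) (U : (Proj 𝒜).Opens) (hx : x ∈ U) :
    ∃ f ∈ (HomogeneousIdeal.irrelevant 𝒜).toIdeal, x ∈ Proj.basicOpen 𝒜 f ∧ Proj.basicOpen 𝒜 f ≤ U := by
  obtain ⟨_, ⟨a, rfl⟩, hxa, haU⟩ := Opens.isBasis_iff_nbhd.mp (Proj.isBasis_basicOpen 𝒜) hx
  have hx' : ¬ (HomogeneousIdeal.irrelevant 𝒜 ≤ x.asHomogeneousIdeal) := x.not_irrelevant_le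
  rw [SetLike.not_le_iff_exists] at hx'
  obtain ⟨h, hh, hhx⟩ := hx'
  refine ⟨a * h, Ideal.mul_mem_left _ _ hh, ?_, ?_⟩
  · rw [Proj.basicOpen_mul]
    exact ⟨hxa, hhx⟩
  · rw [Proj.basicOpen_mul]
    exact inf_le_left.trans haU

theorem basicOpen_nonempty_iff {f : A} (hf : f ∈ (HomogeneousIdeal.irrelevant 𝒜).toIdeal) :
    (∃ x : Proj 𝒜, x ∈ Proj.basicOpen 𝒜 f) ↔ ¬ IsNilpotent f := by
  rw [isNilpotent_iff 𝒜 hf, not_forall]
  rfl

theorem proj_isIntegral_iff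
    (hred : ∀ f ∈ (HomogeneousIdeal.irrelevant 𝒜).toIdeal, IsNilpotent f → f = 0) :
    AlgebraicGeometry.IsIntegral (Proj 𝒜) ↔
      ((∃ f ∈ (HomogeneousIdeal.irrelevant 𝒜).toIdeal, f ≠ 0) ∧
        ∀ f ∈ (HomogeneousIdeal.irrelevant 𝒜).toIdeal, ∀ g ∈ (HomogeneousIdeal.irrelevant 𝒜).toIdeal,
          f * g = 0 → f = 0 ∨ g = 0) := by
  have hnn : ∀ f ∈ (HomogeneousIdeal.irrelevant 𝒜).toIdeal, f ≠ 0 → ∃ x : Proj 𝒜, x ∈ Proj.basicOpen 𝒜 f :=
    fun f hf h0 => (basicOpen_nonempty_iff 𝒜 hf).mpr fun hn => h0 (hred f hf hn)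
  constructor
  · intro hint
    constructor
    · have hne : Nonempty (Proj 𝒜) := inferInstance
      have : ¬ IsEmpty (Proj 𝒜) := not_isEmpty_iff.mpr hne
      rw [isEmpty_iff] at this
      push Not at this
      obtain ⟨f, hf, hfn⟩ := this
      exact ⟨f, hf, fun h0 => hfn (h0 ▸ IsNilpotent.zero)⟩
    · intro f hf g hg hfg
      by_contra hcon
      push Not at hcon
      obtain ⟨x, hx⟩ := hnn f hf hcon.1
      obtain ⟨y, hy⟩ := hnn g hg hcon.2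
      have hirr : IrreducibleSpace (Proj 𝒜) := inferInstance
      obtain ⟨z, hz1, hz2⟩ := nonempty_preirreducible_inter (Proj.basicOpen 𝒜 f).2 (Proj.basicOpen 𝒜 g).2
        ⟨x, hx⟩ ⟨y, hy⟩
      have : z ∈ Proj.basicOpen 𝒜 (f * g) := by rw [Proj.basicOpen_mul]; exact ⟨hz1, hz2⟩
      rw [hfg, Proj.basicOpen_zero] at this
      exact this
  · rintro ⟨⟨f₀, hf₀, hf₀ne⟩, hdom⟩
    have hredP := Groth.Agent.Lib.ProjBasic_helper3.proj_isReduced 𝒜 hred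
    obtain ⟨x₀, _⟩ := hnn f₀ hf₀ hf₀ne
    have hpre : PreirreducibleSpace (Proj 𝒜) := by
      refine PreirreducibleSpace.of_forall_nonempty_inter ?_
      rintro U V hU hV ⟨x, hx⟩ ⟨y, hy⟩
      obtain ⟨f, hf, hxf, hfU⟩ := exists_basicOpen_irrelevant 𝒜 x ⟨U, hU⟩ hx
      obtain ⟨g, hg, hyg, hgV⟩ := exists_basicOpen_irrelevant 𝒜 y ⟨V, hV⟩ hy
      have hfne : f ≠ 0 := by
        rintro rfl; rw [Proj.basicOpen_zero] at hxf; exact hxf
      have hgne : g ≠ 0 := by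
        rintro rfl; rw [Proj.basicOpen_zero] at hyg; exact hyg
      have hfg : f * g ≠ 0 := fun h => (hdom f hf g hg h).elim hfne hgne
      obtain ⟨z, hz⟩ := hnn (f * g) (Ideal.mul_mem_left _ _ hg) hfg
      rw [Proj.basicOpen_mul] at hz
      exact ⟨z, hfU hz.1, hgV hz.2⟩
    have hirr : IrreducibleSpace (Proj 𝒜) := { toPreirreducibleSpace := hpre, toNonempty := ⟨x₀⟩ }
    exact isIntegral_of_irreducibleSpace_of_isReduced _
end

end Groth.Agent.Lib.ProjNull_helper3
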