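import Mathlib
import Groth.Prelude.Def_RelProj4
import Groth.Agent.Lib.RelProjTN4_helper5

/-!
# Morphisms `G(ψ) ⟶ Proj 𝒜` given on the standard charts  (helper5)

`κ : G' ⟶ Proj ℬ` is an open immersion onto `G(ψ)`, and `γ : G' ⟶ Proj 𝒜` is `Spec(𝒜_(f) → ℬ_(ψ f))` on
each chart `D_+(ψ f)`. Then `γ⁻¹D_+(f) = κ⁻¹D_+(ψ f)` and target-local properties pass to `γ`.
-/

set_option autoImplicit false
universe u
open CategoryTheory CategoryTheory.Limits AlgebraicGeometry TopologicalSpace Opposite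
open HomogeneousLocalization
open scoped HomogeneousIdeal

noncomputable section

namespace Groth.Agent.RelProjTN

section AbsDom
variable {A B σ τ : Type u} [CommRing A] [SetLike σ A] [AddSubgroupClass σ A] [CommRing B]
  [SetLike τ B] [AddSubgroupClass τ B] {𝒜 : ℕ → σ} [GradedRing 𝒜] {ℬ : ℕ → τ} [GradedRing ℬ]
  (ψ : 𝒜 →+*ᵍ ℬ) {G' : Scheme.{u}} (κ : G' ⟶ Proj ℬ) [IsOpenImmersion κ] (γ : G' ⟶ Proj 𝒜)

/-- chart compatibility, without naming the lifts of the charts. -/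
def HCG : Prop := ∀ (d : ℕ) (hd : 0 < d) (f : A) (hf : f ∈ 𝒜 d)
  (c : Spec (CommRingCat.of (Away ℬ (ψ f))) ⟶ G'),
  c ≫ κ = Proj.awayι ℬ (ψ f) (ψ.map_mem hf) hd →
    c ≫ γ = Spec.map (CommRingCat.ofHom (Away.map ψ f)) ≫ Proj.awayι 𝒜 f hf hd

variable {ψ κ γ}

theorem range_awayι_subset (hκ : Set.range κ.base = (RelCone.domOpen ψ : Set (Proj ℬ))) {d : ℕ}
    (hd : 0 < d) {f : A} (hf : f ∈ 𝒜 d) :
    Set.range (Proj.awayι ℬ (ψ f) (ψ.map_mem hf) hd).base ⊆ Set.range κ.base := by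
  rw [hκ]
  rintro _ ⟨y, rfl⟩
  apply mem_domOpen_of_mem_basicOpen ψ hd hf
  rw [← Proj.opensRange_awayι ℬ (ψ f) (ψ.map_mem hf) hd]
  exact ⟨y, rfl⟩

/-- The chart `Spec ℬ_(ψ f) ⟶ G'`. -/
def chartG (hκ : Set.range κ.base = (RelCone.domOpen ψ : Set (Proj ℬ))) {d : ℕ}
    (hd : 0 < d) {f : A} (hf : f ∈ 𝒜 d) : Spec (CommRingCat.of (Away ℬ (ψ f))) ⟶ G' :=
  IsOpenImmersion.lift κ (Proj.awayι ℬ (ψ f) (ψ.map_mem hf) hd) (range_awayι_subset hκ hd hf)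

theorem chartG_κ (hκ : Set.range κ.base = (RelCone.domOpen ψ : Set (Proj ℬ))) {d : ℕ}
    (hd : 0 < d) {f : A} (hf : f ∈ 𝒜 d) :
    chartG hκ hd hf ≫ κ = Proj.awayι ℬ (ψ f) (ψ.map_mem hf) hd :=
  IsOpenImmersion.lift_fac _ _ _

instance (hκ : Set.range κ.base = (RelCone.domOpen ψ : Set (Proj ℬ))) {d : ℕ}
    (hd : 0 < d) {f : A} (hf : f ∈ 𝒜 d) : IsOpenImmersion (chartG hκ hd hf) := by
  haveI : IsOpenImmersion (chartG hκ hd hf ≫ κ) := by rw [chartG_κ]; infer_instance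
  exact IsOpenImmersion.of_comp _ κ

theorem chartG_κ_apply (hκ : Set.range κ.base = (RelCone.domOpen ψ : Set (Proj ℬ))) {d : ℕ}
    (hd : 0 < d) {f : A} (hf : f ∈ 𝒜 d) (y : Spec (CommRingCat.of (Away ℬ (ψ f)))) :
    κ.base ((chartG hκ hd hf).base y) = (Proj.awayι ℬ (ψ f) (ψ.map_mem hf) hd).base y := by
  have := congrArg (fun m => m.base y) (chartG_κ hκ hd hf)
  simpa using this

theorem HCG.apply (hγ : HCG ψ κ γ) (hκ : Set.range κ.base = (RelCone.domOpen ψ : Set (Proj ℬ)))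
    {d : ℕ} (hd : 0 < d) {f : A} (hf : f ∈ 𝒜 d) (y : Spec (CommRingCat.of (Away ℬ (ψ f)))) :
    γ.base ((chartG hκ hd hf).base y) =
      (Proj.awayι 𝒜 f hf hd).base ((Spec.map (CommRingCat.ofHom (Away.map ψ f))).base y) := by
  have := congrArg (fun m => m.base y) (hγ d hd f hf (chartG hκ hd hf) (chartG_κ hκ hd hf))
  simpa using this

theorem opensRange_chartG (hκ : Set.range κ.base = (RelCone.domOpen ψ : Set (Proj ℬ))) {d : ℕ}
    (hd : 0 < d) {f : A} (hf : f ∈ 𝒜 d) :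
    (chartG hκ hd hf).opensRange = κ ⁻¹ᵁ Proj.basicOpen ℬ (ψ f) := by
  ext y
  constructor
  · rintro ⟨y', rfl⟩
    show κ.base ((chartG hκ hd hf).base y') ∈ Proj.basicOpen ℬ (ψ f)
    rw [chartG_κ_apply, ← Proj.opensRange_awayι ℬ (ψ f) (ψ.map_mem hf) hd]
    exact ⟨y', rfl⟩
  · intro hy
    have hy' : κ.base y ∈ Proj.basicOpen ℬ (ψ f) := hy
    rw [← Proj.opensRange_awayι ℬ (ψ f) (ψ.map_mem hf) hd] at hy'
    obtain ⟨y', hy'⟩ := hy'
    refine ⟨y', κ.isOpenEmbedding.injective ?_⟩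
    rw [chartG_κ_apply]; exact hy'

theorem preimage_basicOpen_gen (hγ : HCG ψ κ γ)
    (hκ : Set.range κ.base = (RelCone.domOpen ψ : Set (Proj ℬ))) {d : ℕ} (hd : 0 < d) {f : A}
    (hf : f ∈ 𝒜 d) : γ ⁻¹ᵁ Proj.basicOpen 𝒜 f = κ ⁻¹ᵁ Proj.basicOpen ℬ (ψ f) := by
  apply le_antisymm
  · intro y hy
    have hκy : κ.base y ∈ RelCone.domOpen ψ := by
      have : κ.base y ∈ Set.range κ.base := ⟨y, rfl⟩
      rw [hκ] at this; exact this
    obtain ⟨d₂, hd₂, f₂, hf₂, hz₂⟩ := exists_homogeneous_of_mem_domOpen ψ _ hκy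
    have hy₂ : y ∈ (chartG hκ hd₂ hf₂).opensRange := by
      rw [opensRange_chartG]; exact hz₂
    obtain ⟨y', rfl⟩ := hy₂
    have hz' : γ.base ((chartG hκ hd₂ hf₂).base y') ∈ Proj.basicOpen 𝒜 f := hy
    rw [hγ.apply hκ hd₂ hf₂] at hz'
    have h2 : (Spec.map (CommRingCat.ofHom (Away.map ψ f₂))).base y' ∈
        Proj.awayι 𝒜 f₂ hf₂ hd₂ ⁻¹ᵁ Proj.basicOpen 𝒜 f := hz'
    rw [Proj.awayι_preimage_basicOpen 𝒜 hf₂ hd₂ hf hd] at h2
    have h3 : y' ∈ PrimeSpectrum.basicOpen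
        (Away.map ψ f₂ (Away.isLocalizationElem hf₂ hf)) := h2
    rw [map_isLocalizationElem,
      ← Proj.awayι_preimage_basicOpen ℬ (ψ.map_mem hf₂) hd₂ (ψ.map_mem hf) hd] at h3
    show κ.base ((chartG hκ hd₂ hf₂).base y') ∈ Proj.basicOpen ℬ (ψ f)
    rw [chartG_κ_apply]
    exact h3
  · intro y hy
    have hy₂ : y ∈ (chartG hκ hd hf).opensRange := by
      rw [opensRange_chartG]; exact hy
    obtain ⟨y', rfl⟩ := hy₂
    show γ.base ((chartG hκ hd hf).base y') ∈ Proj.basicOpen 𝒜 f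
    rw [hγ.apply hκ hd hf, ← Proj.opensRange_awayι 𝒜 f hf hd]
    exact ⟨_, rfl⟩

theorem isPullback_chartG (hγ : HCG ψ κ γ)
    (hκ : Set.range κ.base = (RelCone.domOpen ψ : Set (Proj ℬ))) {d : ℕ} (hd : 0 < d) {f : A}
    (hf : f ∈ 𝒜 d) :
    IsPullback (Spec.map (CommRingCat.ofHom (Away.map ψ f))) (chartG hκ hd hf)
      (Proj.awayι 𝒜 f hf hd) γ := by
  refine IsOpenImmersion.isPullback _ _ _ _
    (hγ d hd f hf (chartG hκ hd hf) (chartG_κ hκ hd hf)) ?_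
  rw [opensRange_chartG, Proj.opensRange_awayι, preimage_basicOpen_gen hγ hκ hd hf]

/-- Properties local on the target pass from the chart maps to `γ`. -/
theorem of_charts_gen (Q : MorphismProperty Scheme.{u}) [IsZariskiLocalAtTarget Q]
    (hγ : HCG ψ κ γ) (hκ : Set.range κ.base = (RelCone.domOpen ψ : Set (Proj ℬ)))
    (H : ∀ (d : ℕ) (_ : 0 < d) (f : A) (_ : f ∈ 𝒜 d),
      Q (Spec.map (CommRingCat.ofHom (Away.map ψ f)))) : Q γ := by
  refine IsZariskiLocalAtTarget.of_openCover (Proj.affineOpenCover 𝒜).openCover fun s => ?_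
  have hpb := (isPullback_chartG hγ hκ s.1.2 s.2.2).flip
  have h1 : hpb.isoPullback.hom ≫ pullback.snd _ _ =
      Spec.map (CommRingCat.ofHom (Away.map ψ s.2)) := hpb.isoPullback_hom_snd
  have h2 := H s.1 s.1.2 s.2 s.2.2
  rw [← h1, Q.cancel_left_of_respectsIso] at h2
  exact h2

end AbsDom

end Groth.Agent.RelProjTN
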