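import Mathlib
import Groth.Prelude.Def_RelProj4
import Groth.Agent.Lib.RelProjTN3_helper5

/-!
# The morphism `Proj(φ) : G(φ) ⟶ Proj(𝒜)` of relative homogeneous spectra, given chartwise (helper5)
-/

set_option autoImplicit false
universe u
open CategoryTheory CategoryTheory.Limits AlgebraicGeometry TopologicalSpace Opposite
open HomogeneousLocalization
open scoped HomogeneousIdeal

noncomputable section

namespace Groth.Agent.RelProjTN

open RelProj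

section RelOn
variable {Y PA PB : Scheme.{u}} {𝒜 ℬ : RelProj.QCGrAlg Y}
  (φ : 𝒜.toQCAlg ⟶ ℬ.toQCAlg) (hφ : RelProj.IsGradedHom φ)
  {pA : PA ⟶ Y}
  {chartA : ∀ (U : Y.Opens) (hU : IsAffineOpen U),
    (((pA ⁻¹ᵁ U : PA.Opens) : Scheme.{u}) ≅ Proj (𝒜.deg U hU))}
  {pB : PB ⟶ Y}
  {chartB : ∀ (U : Y.Opens) (hU : IsAffineOpen U),
    (((pB ⁻¹ᵁ U : PB.Opens) : Scheme.{u}) ≅ Proj (ℬ.deg U hU))}

/-- Both sides of the chart equations lie over the same morphism to `Y`. -/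
theorem chart_comp_pA (hA : RelProj.IsRelProj 𝒜 pA chartA) (hB : RelProj.IsRelProj ℬ pB chartB)
    (U : Y.Opens) (hU : IsAffineOpen U) {d : ℕ} (hd : 0 < d) (f : 𝒜.presheaf.obj (op U))
    (hf : f ∈ 𝒜.deg U hU d) :
    (Spec.map (CommRingCat.ofHom (Away.map (psi φ hφ U hU) f)) ≫
      Proj.awayι (𝒜.deg U hU) f hf hd ≫ RelProj.emb pA chartA U hU) ≫ pA =
    RelProj.awayEmb (RelProj.QGrHom.ofHom φ hφ) pB chartB U hU U hU (hle U) hd f hf ≫ pB := by
  simp only [Category.assoc]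
  rw [emb_comp hA, Proj.awayι_toSpecZero_assoc]
  unfold RelProj.awayEmb
  simp only [Category.assoc]
  rw [emb_comp hB, Proj.awayι_toSpecZero_assoc, ← strZero_comp_psi φ hφ U hU]
  simp only [← Spec.map_comp_assoc, ← CommRingCat.ofHom_comp, Category.assoc]
  rw [Groth.Agent.Lib.ProjMap_helper3.away_map_comp_fromZero]

variable (Φ : ((RelProj.domQ (RelProj.QGrHom.ofHom φ hφ) pB chartB : PB.Opens) : Scheme.{u}) ⟶ PA)

/-- The chart equations of `IsProjQMapOn` on `G(φ)` for the pairs `U' = U`. -/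
def HQOn : Prop := ∀ (U : Y.Opens) (hU : IsAffineOpen U) (d : ℕ) (hd : 0 < d)
    (f : 𝒜.presheaf.obj (op U)) (hf : f ∈ 𝒜.deg U hU d),
  IsOpenImmersion.lift (RelProj.domQ (RelProj.QGrHom.ofHom φ hφ) pB chartB).ι
      (RelProj.awayEmb (RelProj.QGrHom.ofHom φ hφ) pB chartB U hU U hU (hle U) hd f hf)
      (RelProj.range_awayEmb_subset_domQ (RelProj.QGrHom.ofHom φ hφ) pB chartB U hU U hU (hle U)
        hd f hf) ≫ Φ =
    Spec.map (CommRingCat.ofHom (Away.map (psi φ hφ U hU) f)) ≫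
      Proj.awayι (𝒜.deg U hU) f hf hd ≫ RelProj.emb pA chartA U hU

theorem HQOn_of_isProjQMapOn
    (hΦ : RelProj.IsProjQMapOn (RelProj.QGrHom.ofHom φ hφ) pA chartA pB chartB
      (RelProj.domQ (RelProj.QGrHom.ofHom φ hφ) pB chartB) Φ) :
    HQOn (pA := pA) (chartA := chartA) φ hφ Φ :=
  fun U hU d hd f hf => hΦ U hU U hU (hle U) d hd f hf _

variable {φ hφ Φ}

/-- Every point of `G(φ)` lies in a standard chart for a pair `U' = U`. -/
theorem exists_chart_on (hB : RelProj.IsRelProj ℬ pB chartB) (x : PB)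
    (hx : x ∈ RelProj.domQ (RelProj.QGrHom.ofHom φ hφ) pB chartB) :
    ∃ (U : Y.Opens) (hU : IsAffineOpen U) (d : ℕ) (hd : 0 < d)
      (f : 𝒜.presheaf.obj (op U)) (hf : f ∈ 𝒜.deg U hU d),
      x ∈ Set.range
        (RelProj.awayEmb (RelProj.QGrHom.ofHom φ hφ) pB chartB U hU U hU (hle U) hd f hf).base := by
  obtain ⟨_, ⟨U, hU : IsAffineOpen U, rfl⟩, hxU, -⟩ :=
    (Y.isBasis_affineOpens).exists_subset_of_mem_open (Set.mem_univ (pB.base x)) isOpen_univ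
  have hxU' : x ∈ pB ⁻¹ᵁ U := hxU
  have h1 : x ∈ RelProj.domQ (RelProj.QGrHom.ofHom φ hφ) pB chartB ⊓ pB ⁻¹ᵁ U := ⟨hx, hxU'⟩
  rw [domQ_inf φ hφ hB U hU] at h1
  obtain ⟨z, hz, rfl⟩ := h1
  obtain ⟨d, hd, f, hf, hzf⟩ := exists_homogeneous_of_mem_domOpen _ z hz
  refine ⟨U, hU, d, hd, f, hf, ?_⟩
  have hz' : z ∈ (Proj.awayι (ℬ.deg U hU) ((psi φ hφ U hU) f)
      ((psi φ hφ U hU).map_mem hf) hd).opensRange := by
    rw [Proj.opensRange_awayι]; exact hzf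
  obtain ⟨y, hy⟩ := hz'
  refine ⟨y, ?_⟩
  unfold RelProj.awayEmb
  rw [Scheme.Hom.comp_base, TopCat.coe_comp, Function.comp_apply]
  erw [hy]
  rfl

theorem comp_eq_on (hA : RelProj.IsRelProj 𝒜 pA chartA) (hB : RelProj.IsRelProj ℬ pB chartB)
    (hh : HQOn (pA := pA) (chartA := chartA) φ hφ Φ) :
    Φ ≫ pA = (RelProj.domQ (RelProj.QGrHom.ofHom φ hφ) pB chartB).ι ≫ pB := by
  apply hom_ext_of_charts
  intro y
  obtain ⟨U, hU, d, hd, f, hf, y', hy'⟩ := exists_chart_on (φ := φ) (hφ := hφ) hB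
    ((RelProj.domQ (RelProj.QGrHom.ofHom φ hφ) pB chartB).ι.base y) y.2
  have hW := RelProj.range_awayEmb_subset_domQ (RelProj.QGrHom.ofHom φ hφ) pB chartB U hU U hU
    (hle U) hd f hf
  refine ⟨_, IsOpenImmersion.lift (RelProj.domQ (RelProj.QGrHom.ofHom φ hφ) pB chartB).ι
    (RelProj.awayEmb (RelProj.QGrHom.ofHom φ hφ) pB chartB U hU U hU (hle U) hd f hf) hW,
    ?_, ⟨y', ?_⟩, ?_⟩
  · haveI : IsOpenImmersion (IsOpenImmersion.lift
        (RelProj.domQ (RelProj.QGrHom.ofHom φ hφ) pB chartB).ι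
        (RelProj.awayEmb (RelProj.QGrHom.ofHom φ hφ) pB chartB U hU U hU (hle U) hd f hf) hW ≫
        (RelProj.domQ (RelProj.QGrHom.ofHom φ hφ) pB chartB).ι) := by
      rw [IsOpenImmersion.lift_fac]; infer_instance
    exact IsOpenImmersion.of_comp _ (RelProj.domQ (RelProj.QGrHom.ofHom φ hφ) pB chartB).ι
  · apply (RelProj.domQ (RelProj.QGrHom.ofHom φ hφ) pB chartB).ι.isOpenEmbedding.injective
    rw [← hy']
    have := congrArg (fun m => m.base y') (IsOpenImmersion.lift_fac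
      (RelProj.domQ (RelProj.QGrHom.ofHom φ hφ) pB chartB).ι
      (RelProj.awayEmb (RelProj.QGrHom.ofHom φ hφ) pB chartB U hU U hU (hle U) hd f hf) hW)
    exact this
  · rw [← Category.assoc, hh U hU d hd f hf, chart_comp_pA φ hφ hA hB U hU hd f hf,
      ← Category.assoc, IsOpenImmersion.lift_fac]

theorem comp_eq_on_apply (hA : RelProj.IsRelProj 𝒜 pA chartA) (hB : RelProj.IsRelProj ℬ pB chartB)
    (hh : HQOn (pA := pA) (chartA := chartA) φ hφ Φ)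
    (y : ((RelProj.domQ (RelProj.QGrHom.ofHom φ hφ) pB chartB : PB.Opens) : Scheme.{u})) :
    pA.base (Φ.base y) = pB.base y.1 := by
  have := congrArg (fun m => m.base y) (comp_eq_on hA hB hh)
  exact this

/-- Target-local properties pass from the chart maps to `Proj(φ) : G(φ) ⟶ Proj(𝒜)`. -/
theorem of_chart_rel_on (Q : MorphismProperty Scheme.{u}) [IsZariskiLocalAtTarget Q]
    (hA : RelProj.IsRelProj 𝒜 pA chartA) (hB : RelProj.IsRelProj ℬ pB chartB)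
    (hh : HQOn (pA := pA) (chartA := chartA) φ hφ Φ)
    (H : ∀ (U : Y.Opens) (hU : IsAffineOpen U) (d : ℕ) (_ : 0 < d) (f : 𝒜.presheaf.obj (op U))
      (_ : f ∈ 𝒜.deg U hU d), Q (Spec.map (CommRingCat.ofHom (Away.map (psi φ hφ U hU) f)))) :
    Q Φ := by
  refine IsZariskiLocalAtTarget.of_iSup_eq_top (fun U : Y.affineOpens => pA ⁻¹ᵁ (U : Y.Opens))
    (Groth.Agent.Lib.RelProj_helper3.isOpenCover_preimage pA) fun U => ?_
  obtain ⟨U, hU⟩ := U
  show Q (Φ ∣_ (pA ⁻¹ᵁ U))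
  have hrange : Set.range ((Φ ⁻¹ᵁ (pA ⁻¹ᵁ U)).ι ≫
      (RelProj.domQ (RelProj.QGrHom.ofHom φ hφ) pB chartB).ι).base ⊆
        Set.range (pB ⁻¹ᵁ U).ι.base := by
    rw [Scheme.Opens.range_ι]
    rintro _ ⟨y, rfl⟩
    show pB.base ((y.1).1) ∈ U
    rw [← comp_eq_on_apply hA hB hh]
    exact y.2
  let κ₀ := IsOpenImmersion.lift (pB ⁻¹ᵁ U).ι ((Φ ⁻¹ᵁ (pA ⁻¹ᵁ U)).ι ≫
      (RelProj.domQ (RelProj.QGrHom.ofHom φ hφ) pB chartB).ι) hrange
  have hκ₀ : κ₀ ≫ (pB ⁻¹ᵁ U).ι = (Φ ⁻¹ᵁ (pA ⁻¹ᵁ U)).ι ≫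
      (RelProj.domQ (RelProj.QGrHom.ofHom φ hφ) pB chartB).ι := IsOpenImmersion.lift_fac _ _ _
  haveI : IsOpenImmersion κ₀ := by
    haveI : IsOpenImmersion (κ₀ ≫ (pB ⁻¹ᵁ U).ι) := by rw [hκ₀]; infer_instance
    exact IsOpenImmersion.of_comp _ (pB ⁻¹ᵁ U).ι
  let κ := κ₀ ≫ (chartB U hU).hom
  have hκemb : κ ≫ RelProj.emb pB chartB U hU = (Φ ⁻¹ᵁ (pA ⁻¹ᵁ U)).ι ≫
      (RelProj.domQ (RelProj.QGrHom.ofHom φ hφ) pB chartB).ι := by
    unfold RelProj.emb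
    simp only [κ, Category.assoc, Iso.hom_inv_id_assoc]
    exact hκ₀
  have hκemb_apply : ∀ y, (RelProj.emb pB chartB U hU).base (κ.base y) = (y.1).1 := fun y => by
    have := congrArg (fun m => m.base y) hκemb
    exact this
  have hκ : Set.range κ.base = (RelCone.domOpen (psi φ hφ U hU) : Set (Proj (ℬ.deg U hU))) := by
    ext z
    constructor
    · rintro ⟨y, rfl⟩
      have h1 : (y.1).1 ∈ RelProj.domQ (RelProj.QGrHom.ofHom φ hφ) pB chartB ⊓ pB ⁻¹ᵁ U := by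
        refine ⟨(y.1).2, ?_⟩
        show pB.base ((y.1).1) ∈ U
        rw [← comp_eq_on_apply hA hB hh]
        exact y.2
      rw [domQ_inf φ hφ hB U hU] at h1
      obtain ⟨z₂, hz₂, hz₂'⟩ := h1
      have : z₂ = κ.base y := by
        apply (RelProj.emb pB chartB U hU).isOpenEmbedding.injective
        rw [hκemb_apply]; exact hz₂'
      rw [← this]; exact hz₂
    · intro hz
      have h1 : (RelProj.emb pB chartB U hU).base z ∈
          RelProj.domQ (RelProj.QGrHom.ofHom φ hφ) pB chartB ⊓ pB ⁻¹ᵁ U := by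
        rw [domQ_inf φ hφ hB U hU]; exact ⟨z, hz, rfl⟩
      let y₁ : ((RelProj.domQ (RelProj.QGrHom.ofHom φ hφ) pB chartB : PB.Opens) : Scheme.{u}) :=
        ⟨(RelProj.emb pB chartB U hU).base z, h1.1⟩
      have hy₁ : y₁ ∈ Φ ⁻¹ᵁ (pA ⁻¹ᵁ U) := by
        show pA.base (Φ.base y₁) ∈ U
        rw [comp_eq_on_apply hA hB hh]
        exact h1.2
      refine ⟨⟨y₁, hy₁⟩, ?_⟩
      apply (RelProj.emb pB chartB U hU).isOpenEmbedding.injective
      rw [hκemb_apply]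
  let γ := (Φ ∣_ (pA ⁻¹ᵁ U)) ≫ (chartA U hU).hom
  have hγ : HCG (psi φ hφ U hU) κ γ := by
    intro d hd f hf c hc
    rw [← cancel_mono (RelProj.emb pA chartA U hU)]
    have hW := RelProj.range_awayEmb_subset_domQ (RelProj.QGrHom.ofHom φ hφ) pB chartB U hU U hU
      (hle U) hd f hf
    have e1 : c ≫ (Φ ⁻¹ᵁ (pA ⁻¹ᵁ U)).ι =
        IsOpenImmersion.lift (RelProj.domQ (RelProj.QGrHom.ofHom φ hφ) pB chartB).ι
          (RelProj.awayEmb (RelProj.QGrHom.ofHom φ hφ) pB chartB U hU U hU (hle U) hd f hf) hW := by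
      rw [← cancel_mono (RelProj.domQ (RelProj.QGrHom.ofHom φ hφ) pB chartB).ι,
        IsOpenImmersion.lift_fac, Category.assoc, ← hκemb, ← Category.assoc, hc]
      rfl
    have e2 : (c ≫ γ) ≫ RelProj.emb pA chartA U hU = (c ≫ (Φ ⁻¹ᵁ (pA ⁻¹ᵁ U)).ι) ≫ Φ := by
      unfold RelProj.emb
      simp only [γ, Category.assoc, Iso.hom_inv_id_assoc]
      rw [morphismRestrict_ι]
    rw [e2, e1, hh U hU d hd f hf]
    simp only [Category.assoc]
  have hQγ := of_charts_gen Q hγ hκ (H U hU)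
  rwa [Q.cancel_right_of_respectsIso] at hQγ

end RelOn

end Groth.Agent.RelProjTN
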