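import Mathlib
import Groth.Prelude.Def_RelProj4
import Groth.Agent.Lib.RelProjTN5_helper5

/-!
# `Proj(v) : G(v) → Proj(𝒯)` for a (TN)-surjective / (TN)-injective graded homomorphism `v : 𝒯 → 𝒮`
(helper5)
-/

set_option autoImplicit false
universe u
open AlgebraicGeometry CategoryTheory CategoryTheory.Limits HomogeneousLocalization Opposite TopologicalSpace
open scoped HomogeneousIdeal

noncomputable section

namespace Groth.Agent.ProjQComp

open Groth.Agent.RelProjTN RelProj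

section Abs
variable {A B σ τ : Type u} [CommRing A] [SetLike σ A] [AddSubgroupClass σ A] [CommRing B]
  [SetLike τ B] [AddSubgroupClass τ B] {𝒜 : ℕ → σ} [GradedRing 𝒜] {ℬ : ℕ → τ} [GradedRing ℬ]

/-- A graded homomorphism injective in all large degrees induces injections on the degree zero
localizations. -/
theorem away_map_injective_of_eventually (ψ : 𝒜 →+*ᵍ ℬ) (n₀ : ℕ)
    (hinj : ∀ n : ℕ, n₀ ≤ n → ∀ a ∈ 𝒜 n, ψ a = 0 → a = 0)
    {i : ℕ} (hi : 0 < i) (s : A) (hs : s ∈ 𝒜 i) : Function.Injective (Away.map ψ s) := by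
  rw [injective_iff_map_eq_zero]
  intro x hx
  obtain ⟨n, a, ha, rfl⟩ := Away.mk_surjective 𝒜 hs x
  rw [Away.map_mk, HomogeneousLocalization.ext_iff_val, Away.val_mk, HomogeneousLocalization.val_zero,
    Localization.mk_eq_mk', IsLocalization.mk'_eq_zero_iff] at hx
  obtain ⟨⟨_, m, rfl⟩, hm⟩ := hx
  simp only at hm
  have h1 : ψ (s ^ (m + n₀) * a) = 0 := by
    rw [map_mul, map_pow, pow_add, mul_assoc, mul_comm (ψ s ^ n₀), ← mul_assoc, hm, zero_mul]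
  have hdeg : s ^ (m + n₀) * a ∈ 𝒜 ((m + n₀) • i + n • i) :=
    SetLike.mul_mem_graded (SetLike.pow_mem_graded (m + n₀) hs) ha
  have hpos : n₀ ≤ (m + n₀) • i + n • i := by
    simp only [smul_eq_mul]
    calc n₀ ≤ (m + n₀) * 1 := by omega
      _ ≤ (m + n₀) * i := Nat.mul_le_mul_left _ hi
      _ ≤ (m + n₀) * i + n * i := Nat.le_add_right _ _
  have h2 := hinj _ hpos _ hdeg h1
  rw [HomogeneousLocalization.ext_iff_val, Away.val_mk, HomogeneousLocalization.val_zero,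
    Localization.mk_eq_mk', IsLocalization.mk'_eq_zero_iff]
  exact ⟨⟨s ^ (m + n₀), _, rfl⟩, h2⟩

end Abs

section TN
variable {Y P P' : Scheme.{u}} {𝒮 𝒯 : RelProj.QCGrAlg Y}
  (v : 𝒯.toQCAlg ⟶ 𝒮.toQCAlg) (hv : RelProj.IsGradedHom v)
  {p : P ⟶ Y}
  {chart : ∀ (U : Y.Opens) (hU : IsAffineOpen U), (((p ⁻¹ᵁ U : P.Opens) : Scheme.{u}) ≅ Proj (𝒮.deg U hU))}
  {p' : P' ⟶ Y}
  {chart' : ∀ (U : Y.Opens) (hU : IsAffineOpen U), (((p' ⁻¹ᵁ U : P'.Opens) : Scheme.{u}) ≅ Proj (𝒯.deg U hU))}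

theorem cov_of_TN
    (hTN : ∃ n : ℕ, ∀ k, n ≤ k → ∀ (U : Y.Opens) (hU : IsAffineOpen U), ∀ y ∈ 𝒮.deg U hU k,
      ∃ x ∈ 𝒯.deg U hU k, (v.hom.app (op U)).hom x = y)
    (U : Y.Opens) (hU : IsAffineOpen U) : Cov (psi v hv U hU) := by
  obtain ⟨n, hn⟩ := hTN
  refine cov_of_eventually (psi v hv U hU) n fun k hk b hb => ?_
  obtain ⟨x, hx, hxb⟩ := hn k hk U hU b hb
  exact ⟨x, hx, (psi_apply v hv U hU x).trans hxb⟩

theorem domQ_eq_top_of_TN
    (hTN : ∃ n : ℕ, ∀ k, n ≤ k → ∀ (U : Y.Opens) (hU : IsAffineOpen U), ∀ y ∈ 𝒮.deg U hU k,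
      ∃ x ∈ 𝒯.deg U hU k, (v.hom.app (op U)).hom x = y) :
    RelProj.domQ (RelProj.QGrHom.ofHom v hv) p chart = ⊤ :=
  domQ_eq_top (cov_of_TN v hv hTN)

theorem isClosedImmersion_of_TN
    (hTN : ∃ n : ℕ, ∀ k, n ≤ k → ∀ (U : Y.Opens) (hU : IsAffineOpen U), ∀ y ∈ 𝒮.deg U hU k,
      ∃ x ∈ 𝒯.deg U hU k, (v.hom.app (op U)).hom x = y)
    (hP' : RelProj.IsRelProj 𝒯 p' chart') (hP : RelProj.IsRelProj 𝒮 p chart)
    (Φ : ((RelProj.domQ (RelProj.QGrHom.ofHom v hv) p chart : P.Opens) : Scheme.{u}) ⟶ P')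
    (hΦ : RelProj.IsProjQMapOn (RelProj.QGrHom.ofHom v hv) p' chart' p chart
      (RelProj.domQ (RelProj.QGrHom.ofHom v hv) p chart) Φ) : IsClosedImmersion Φ := by
  obtain ⟨n, hn⟩ := hTN
  refine of_chart_rel_on @IsClosedImmersion hP' hP (HQOn_of_isProjQMapOn v hv Φ hΦ)
    fun U hU d hd f hf => ?_
  refine IsClosedImmersion.spec_of_surjective _ ?_
  refine away_map_surjective_of_eventually (psi v hv U hU) n (fun k hk b hb => ?_) hd f hf
  obtain ⟨x, hx, hxb⟩ := hn k hk U hU b hb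
  exact ⟨x, hx, (psi_apply v hv U hU x).trans hxb⟩

theorem isDominant_of_TN_inj
    (hTN : ∃ n : ℕ, ∀ k, n ≤ k → ∀ (U : Y.Opens) (hU : IsAffineOpen U), ∀ x ∈ 𝒯.deg U hU k,
      (v.hom.app (op U)).hom x = 0 → x = 0)
    (hP' : RelProj.IsRelProj 𝒯 p' chart') (hP : RelProj.IsRelProj 𝒮 p chart)
    (Φ : ((RelProj.domQ (RelProj.QGrHom.ofHom v hv) p chart : P.Opens) : Scheme.{u}) ⟶ P')
    (hΦ : RelProj.IsProjQMapOn (RelProj.QGrHom.ofHom v hv) p' chart' p chart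
      (RelProj.domQ (RelProj.QGrHom.ofHom v hv) p chart) Φ) : IsDominant Φ := by
  obtain ⟨n, hn⟩ := hTN
  refine of_chart_rel_on @IsDominant hP' hP (HQOn_of_isProjQMapOn v hv Φ hΦ)
    fun U hU d hd f hf => ?_
  have hinj : Function.Injective (Away.map (psi v hv U hU) f) :=
    away_map_injective_of_eventually (psi v hv U hU) n
      (fun k hk a ha h0 => hn k hk U hU a ha ((psi_apply v hv U hU a).symm.trans h0)) hd f hf
  refine ⟨(PrimeSpectrum.denseRange_comap_iff_ker_le_nilRadical _).mpr ?_⟩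
  have hk : RingHom.ker (Away.map (psi v hv U hU) f) = ⊥ := (RingHom.injective_iff_ker_eq_bot _).mp hinj
  exact (le_of_eq hk).trans bot_le

end TN

end Groth.Agent.ProjQComp
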