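import Mathlib

/-!
# The graded ring `R[z]` over a graded ring `R` (`z` of degree `1`)  (helper5)

`ψ : R → S` graded, `z ∈ S_1`, `R[X] → S`, `X ↦ z`, bijective.  Then `S_n = ⊕_{j ≤ n} ψ(R_{n-j}) z^j`,
`S_(z) ≅ R` (by `x / z^k ↦ x`), `z` is a nonzerodivisor.
-/

set_option autoImplicit false
universe u
open HomogeneousLocalization DirectSum

namespace Groth.Agent.ConeImm

section
variable {R S : Type u} [CommRing R] [CommRing S] {ℛ : ℕ → AddSubgroup R} [GradedRing ℛ]
  {𝒮 : ℕ → AddSubgroup S} [GradedRing 𝒮] (ψ : ℛ →+*ᵍ 𝒮) (z : S)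

theorem zpow_mem {z : S} (hz : z ∈ 𝒮 1) (j : ℕ) : z ^ j ∈ 𝒮 j := by
  have := SetLike.pow_mem_graded j hz
  simpa using this

/-- Decomposition of a homogeneous element of `S = R[z]`. -/
theorem exists_coef (hz : z ∈ 𝒮 1)
    (hsurj : Function.Surjective (Polynomial.eval₂RingHom ψ.toRingHom z)) {n : ℕ} {b : S}
    (hb : b ∈ 𝒮 n) :
    ∃ c : ℕ → R, (∀ j, c j ∈ ℛ (n - j)) ∧ b = ∑ j ∈ Finset.range (n + 1), ψ (c j) * z ^ j := by
  classical
  obtain ⟨P, rfl⟩ := hsurj b
  refine ⟨fun j => (decompose ℛ (P.coeff j) (n - j) : R), fun j => SetLike.coe_mem _, ?_⟩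
  set N := max (P.natDegree + 1) (n + 1) with hN
  have h1 : Polynomial.eval₂RingHom ψ.toRingHom z P =
      ∑ j ∈ Finset.range N, ψ (P.coeff j) * z ^ j := by
    rw [Polynomial.coe_eval₂RingHom,
      Polynomial.eval₂_eq_sum_range' _ (lt_of_lt_of_le (Nat.lt_succ_self _) (le_max_left _ _))]
    rfl
  have h2 : GradedRing.proj 𝒮 n (Polynomial.eval₂RingHom ψ.toRingHom z P) =
      Polynomial.eval₂RingHom ψ.toRingHom z P := by
    rw [GradedRing.proj_apply, decompose_of_mem_same 𝒮 hb]
  rw [← h2, h1, map_sum]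
  rw [← Finset.sum_subset (Finset.range_subset_range.2 (le_max_right (P.natDegree + 1) (n + 1)))]
  · refine Finset.sum_congr rfl fun j hj => ?_
    have hj' : j ≤ n := Nat.lt_succ_iff.mp (Finset.mem_range.mp hj)
    rw [GradedRing.proj_apply, coe_decompose_mul_of_right_mem_of_le 𝒮 (zpow_mem hz j) hj',
      ← ψ.map_directSumDecompose]
  · intro j _ hj
    have hj' : ¬ j ≤ n := fun h => hj (Finset.mem_range.mpr (Nat.lt_succ_iff.mpr h))
    rw [GradedRing.proj_apply, coe_decompose_mul_of_right_mem_of_not_le 𝒮 (zpow_mem hz j) hj']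

theorem mem_smul_one {n : ℕ} {b : S} (hb : b ∈ 𝒮 n) : b ∈ 𝒮 (n • 1) := by
  simpa using hb

/-- The generator `x / z^k` of `S_(z)` (`x ∈ R_k`). -/
noncomputable def gen (hz : z ∈ 𝒮 1) (k : ℕ) (x : R) (hx : x ∈ ℛ k) : Away 𝒮 z :=
  Away.mk 𝒮 hz k (ψ x) (mem_smul_one (ψ.map_mem hx))

theorem val_gen (hz : z ∈ 𝒮 1) (k : ℕ) (x : R) (hx : x ∈ ℛ k) :
    (gen ψ z hz k x hx).val =
      Localization.mk (ψ x) ⟨z ^ k, pow_mem (Submonoid.mem_powers z) k⟩ := by
  unfold gen
  rw [Away.val_mk]

theorem val_sum {ι : Type*} (s : Finset ι) (g : ι → Away 𝒮 z) :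
    (∑ i ∈ s, g i).val = ∑ i ∈ s, (g i).val := by
  classical
  induction s using Finset.induction_on with
  | empty => simp
  | insert a s ha ih => rw [Finset.sum_insert ha, Finset.sum_insert ha, val_add, ih]

/-- Every element of `S_(z)` is a sum of generators. -/
theorem exists_eq_sum_gen (hz : z ∈ 𝒮 1)
    (hsurj : Function.Surjective (Polynomial.eval₂RingHom ψ.toRingHom z)) (q : Away 𝒮 z) :
    ∃ (n : ℕ) (c : ℕ → R) (hc : ∀ j, c j ∈ ℛ (n - j)),
      q = ∑ j ∈ Finset.range (n + 1), gen ψ z hz (n - j) (c j) (hc j) := by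
  obtain ⟨n, s, hs, rfl⟩ := Away.mk_surjective 𝒮 hz q
  have hs' : s ∈ 𝒮 n := by simpa using hs
  obtain ⟨c, hc, rfl⟩ := exists_coef ψ z hz hsurj hs'
  refine ⟨n, c, hc, ?_⟩
  rw [HomogeneousLocalization.ext_iff_val, val_sum, Away.val_mk]
  rw [show (⟨z ^ n, n, rfl⟩ : Submonoid.powers z) =
    ⟨z ^ n, pow_mem (Submonoid.mem_powers z) n⟩ from rfl]
  have : ∀ j ∈ Finset.range (n + 1), (gen ψ z hz (n - j) (c j) (hc j)).val =
      Localization.mk (ψ (c j) * z ^ j) ⟨z ^ n, pow_mem (Submonoid.mem_powers z) n⟩ := by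
    intro j hj
    have hj' : j ≤ n := Nat.lt_succ_iff.mp (Finset.mem_range.mp hj)
    rw [val_gen, Localization.mk_eq_mk_iff, Localization.r_iff_exists]
    refine ⟨1, ?_⟩
    simp only [OneMemClass.coe_one, one_mul]
    have hzn : z ^ n = z ^ (n - j) * z ^ j := by rw [← pow_add, Nat.sub_add_cancel hj']
    rw [hzn]; ring
  rw [Finset.sum_congr rfl this]
  clear this
  induction (Finset.range (n + 1)) using Finset.induction_on with
  | empty => simp [Localization.mk_zero]
  | insert a s ha ih => rw [Finset.sum_insert ha, Finset.sum_insert ha, ← ih, Localization.add_mk_self]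

variable {T : Type u} [CommRing T]

/-- Ring homomorphisms out of `S_(z)` are determined by their values on the generators. -/
theorem hom_ext_gen (hz : z ∈ 𝒮 1)
    (hsurj : Function.Surjective (Polynomial.eval₂RingHom ψ.toRingHom z)) (α β : Away 𝒮 z →+* T)
    (h : ∀ (k : ℕ) (x : R) (hx : x ∈ ℛ k), α (gen ψ z hz k x hx) = β (gen ψ z hz k x hx)) :
    α = β := by
  ext q
  obtain ⟨n, c, hc, rfl⟩ := exists_eq_sum_gen ψ z hz hsurj q
  rw [map_sum, map_sum]
  exact Finset.sum_congr rfl fun j _ => h _ _ _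

theorem injective_coeff (hinj : Function.Injective (Polynomial.eval₂RingHom ψ.toRingHom z))
    (n : ℕ) (c : ℕ → R) (h : ∑ j ∈ Finset.range (n + 1), ψ (c j) * z ^ j = 0) :
    ∀ j ∈ Finset.range (n + 1), c j = 0 := by
  classical
  intro j hj
  have h1 : Polynomial.eval₂RingHom ψ.toRingHom z
      (∑ j ∈ Finset.range (n + 1), Polynomial.C (c j) * Polynomial.X ^ j) = 0 := by
    rw [map_sum, ← h]
    refine Finset.sum_congr rfl fun j _ => ?_
    simp only [Polynomial.coe_eval₂RingHom, Polynomial.eval₂_mul, Polynomial.eval₂_C,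
      Polynomial.eval₂_pow, Polynomial.eval₂_X]
    rfl
  have h2 := hinj (h1.trans (map_zero _).symm)
  have h3 := congrArg (fun P => Polynomial.coeff P j) h2
  simp only [Polynomial.finsetSum_coeff, Polynomial.coeff_C_mul, Polynomial.coeff_X_pow,
    Polynomial.coeff_zero] at h3
  rw [Finset.sum_eq_single j] at h3
  · simpa using h3
  · intro b _ hb
    rw [if_neg (Ne.symm hb), mul_zero]
  · intro hj'; exact absurd hj hj'

/-- A ring homomorphism `θ : S_(z) → R` sending `ψ(x) / z^k` to `x` (`x ∈ R_k`) is bijective. -/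
theorem theta_bijective' (hz : z ∈ 𝒮 1)
    (hpoly : Function.Bijective (Polynomial.eval₂RingHom ψ.toRingHom z)) (θ : Away 𝒮 z →+* R)
    (hθ : ∀ (k : ℕ) (x : R) (hx : x ∈ ℛ k), θ (gen ψ z hz k x hx) = x) : Function.Bijective θ := by
  classical
  constructor
  · rw [injective_iff_map_eq_zero]
    intro q hq
    obtain ⟨n, c, hc, rfl⟩ := exists_eq_sum_gen ψ z hz hpoly.2 q
    rw [map_sum] at hq
    have hq' : ∑ j ∈ Finset.range (n + 1), c j = 0 := by
      rw [← hq]; exact Finset.sum_congr rfl fun j _ => (hθ _ _ _).symm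
    -- the `c j` have distinct degrees `n - j`
    have hc0 : ∀ j ∈ Finset.range (n + 1), c j = 0 := by
      intro j hj
      have hj' : j ≤ n := Nat.lt_succ_iff.mp (Finset.mem_range.mp hj)
      have h1 : ((decompose ℛ (∑ i ∈ Finset.range (n + 1), c i) (n - j) : ℛ (n - j)) : R) = c j := by
        rw [decompose_sum, DFinsupp.finsetSum_apply, AddSubmonoidClass.coe_finsetSum]
        rw [Finset.sum_eq_single j]
        · exact decompose_of_mem_same ℛ (hc j)
        · intro b hb hbj
          have hb' : b ≤ n := Nat.lt_succ_iff.mp (Finset.mem_range.mp hb)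
          exact decompose_of_mem_ne ℛ (hc b) (by omega)
        · intro h; exact absurd hj h
      rw [← h1, hq', decompose_zero]; rfl
    exact Finset.sum_eq_zero fun j hj => by
      have : gen ψ z hz (n - j) (c j) (hc j) = 0 := by
        rw [HomogeneousLocalization.ext_iff_val, val_gen, hc0 j hj, map_zero, Localization.mk_zero,
          HomogeneousLocalization.val_zero]
      exact this
  · intro x
    refine ⟨∑ k ∈ (decompose ℛ x).support, gen ψ z hz k (decompose ℛ x k) (SetLike.coe_mem _), ?_⟩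
    rw [map_sum]
    rw [Finset.sum_congr rfl fun k _ => hθ k _ _]
    exact DirectSum.sum_support_decompose ℛ x

/-- `z` is a nonzerodivisor of `S = R[z]`. -/
theorem z_mul_eq_zero (hpoly : Function.Bijective (Polynomial.eval₂RingHom ψ.toRingHom z)) (a : S)
    (h : z * a = 0) : a = 0 := by
  obtain ⟨P, rfl⟩ := hpoly.2 a
  have h1 : Polynomial.eval₂RingHom ψ.toRingHom z (Polynomial.X * P) = 0 := by
    rw [map_mul]
    simpa using h
  have h2 := hpoly.1 (h1.trans (map_zero _).symm)
  have h3 : P = 0 := by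
    apply (Polynomial.isRegular_X (R := R)).left
    show Polynomial.X * P = Polynomial.X * 0
    rw [h2, mul_zero]
  rw [h3, map_zero]

end

end Groth.Agent.ConeImm
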