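import Mathlib
import Groth.Prelude.Def_RelProj2
import Groth.Agent.Lib.RelProjTN2_helper5

/-!
# Morphisms `Spec(𝒜) ⟶ Proj(Ŝ)` given chartwise through `D_+(z)`  (helper5)

`𝒜` a quasi-coherent algebra, `Ŝ` a quasi-coherent graded algebra with relative Proj `p : P ⟶ Y`, `z` a global
section of degree one, and ring homomorphisms `θ_U : Ŝ(U)_(z) ⟶ 𝒜(U)` compatible with restriction to basic
opens.  Then the morphisms `Spec 𝒜(U) ⟶ D_+(z|U) ⟶ Proj Ŝ(U) ⟶ P` glue uniquely to `i : Spec(𝒜) ⟶ P`.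
-/

set_option autoImplicit false
universe u
open AlgebraicGeometry CategoryTheory CategoryTheory.Limits HomogeneousLocalization Opposite TopologicalSpace

namespace Groth.Agent.ConeImm

section Alg
variable {A B σ τ : Type u} [CommRing A] [SetLike σ A] [AddSubgroupClass σ A] [CommRing B]
  [SetLike τ B] [AddSubgroupClass τ B] {𝒜 : ℕ → σ} [GradedRing 𝒜] {ℬ : ℕ → τ} [GradedRing ℬ]

/-- `Away.map` with a prescribed target element. -/
def awayMapTo (ψ : 𝒜 →+*ᵍ ℬ) (f : A) (g : B) (h : ψ f = g) : Away 𝒜 f →+* Away ℬ g :=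
  HomogeneousLocalization.map ψ (by rintro _ ⟨n, rfl⟩; exact ⟨n, by simp [← h]⟩)

theorem awayMapTo_self (ψ : 𝒜 →+*ᵍ ℬ) (f : A) : awayMapTo ψ f (ψ f) rfl = Away.map ψ f := rfl

theorem awayMapTo_mk (ψ : 𝒜 →+*ᵍ ℬ) (f : A) (g : B) (h : ψ f = g) {d : ℕ} (hf : f ∈ 𝒜 d) (hg : g ∈ ℬ d)
    (n : ℕ) (x : A) (hx : x ∈ 𝒜 (n • d)) :
    awayMapTo ψ f g h (Away.mk 𝒜 hf n x hx) = Away.mk ℬ hg n (ψ x) (ψ.map_mem hx) := by
  subst h
  exact Away.map_mk ψ f hf n x hx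

@[reassoc] theorem awayι_comp_map_to (ψ : 𝒜 →+*ᵍ ℬ) (hψ : HomogeneousIdeal.irrelevant ℬ ≤ (HomogeneousIdeal.irrelevant 𝒜).map ψ)
    (f : A) (g : B) (h : ψ f = g) {d : ℕ} (hd : 0 < d) (hf : f ∈ 𝒜 d) (hg : g ∈ ℬ d) :
    Proj.awayι ℬ g hg hd ≫ Proj.map ψ hψ =
      Spec.map (CommRingCat.ofHom (awayMapTo ψ f g h)) ≫ Proj.awayι 𝒜 f hf hd := by
  subst h
  exact Proj.awayι_comp_map ψ hψ hd f hf

end Alg


section Sch
variable {Y P : Scheme.{u}} (𝒜 : RelSpec.QCAlg Y) (Sh : RelProj.QCGrAlg Y)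
  (z : Sh.presheaf.obj (op ⊤))
  (hz : ∀ (U : Y.Opens) (hU : IsAffineOpen U),
    (Sh.presheaf.map (homOfLE le_top).op).hom z ∈ Sh.deg U hU 1)
  (p : P ⟶ Y)
  (chart : ∀ (U : Y.Opens) (hU : IsAffineOpen U),
    (((p ⁻¹ᵁ U : P.Opens) : Scheme.{u}) ≅ Proj (Sh.deg U hU)))
  (θ : ∀ (U : Y.Opens) (hU : IsAffineOpen U),
    CommRingCat.of (HomogeneousLocalization.Away (Sh.deg U hU)
      ((Sh.presheaf.map (homOfLE le_top).op).hom z)) ⟶ 𝒜.presheaf.obj (op U))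

/-- The restriction of the global section `z` to `U`. -/
abbrev zU (U : Y.Opens) : Sh.presheaf.obj (op U) := (Sh.presheaf.map (homOfLE le_top).op).hom z

theorem res_zU {U V : Y.Opens} (hU : IsAffineOpen U) (hV : IsAffineOpen V) (i : V ≤ U) :
    Sh.res hU hV i (zU Sh z U) = zU Sh z V := by
  show (Sh.presheaf.map (homOfLE i).op).hom ((Sh.presheaf.map (homOfLE le_top).op).hom z) = _
  rw [← CommRingCat.comp_apply, ← Functor.map_comp]
  rfl

/-- The chart morphism `Spec 𝒜(U) ⟶ P`. -/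
noncomputable def chartMor (U : Y.Opens) (hU : IsAffineOpen U) : Spec (𝒜.presheaf.obj (op U)) ⟶ P :=
  Spec.map (θ U hU) ≫ Proj.awayι (Sh.deg U hU) (zU Sh z U) (hz U hU) one_pos ≫
    RelProj.emb p chart U hU

/-- Naturality of the `θ_U` for restriction to basic opens. -/
def NatB : Prop := ∀ (U : Y.Opens) (hU : IsAffineOpen U) (r : Γ(Y, U)),
  θ U hU ≫ 𝒜.presheaf.map (homOfLE (Y.basicOpen_le r)).op =
    CommRingCat.ofHom (awayMapTo (Sh.res hU (hU.basicOpen r) (Y.basicOpen_le r)) (zU Sh z U)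
      (zU Sh z (Y.basicOpen r)) (res_zU Sh z hU (hU.basicOpen r) (Y.basicOpen_le r))) ≫
      θ (Y.basicOpen r) (hU.basicOpen r)

/-- Compatibility of the `θ_U` with the structure maps. -/
def StrC : Prop := ∀ (U : Y.Opens) (hU : IsAffineOpen U),
  Sh.strZero U hU ≫ CommRingCat.ofHom (fromZeroRingHom (Sh.deg U hU) _) ≫ θ U hU = 𝒜.str.app (op U)

variable {𝒜 Sh z hz p chart θ}

theorem chartMor_res (hP : RelProj.IsRelProj Sh p chart) (hN : NatB 𝒜 Sh z θ)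
    (U : Y.Opens) (hU : IsAffineOpen U) (r : Γ(Y, U)) :
    Spec.map (𝒜.presheaf.map (homOfLE (Y.basicOpen_le r)).op) ≫ chartMor 𝒜 Sh z hz p chart θ U hU =
      chartMor 𝒜 Sh z hz p chart θ (Y.basicOpen r) (hU.basicOpen r) := by
  unfold chartMor
  rw [← Spec.map_comp_assoc, hN U hU r, Spec.map_comp_assoc,
    ← awayι_comp_map_to_assoc _ (Sh.irrelevant_le_map U hU r) _ _ _ one_pos (hz U hU)
      (hz _ (hU.basicOpen r)),
    RelProj.map_res_emb hP U hU r]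


/-- The cocone of chart morphisms. -/
noncomputable def cocone (hP : RelProj.IsRelProj Sh p chart) (hN : NatB 𝒜 Sh z θ) :
    Cocone 𝒜.glueData.functor where
  pt := P
  ι :=
    { app := fun U => chartMor 𝒜 Sh z hz p chart θ U.1 U.2
      naturality := by
        intro V U i
        obtain ⟨U, hU⟩ := U
        obtain ⟨V, hV⟩ := V
        obtain ⟨f, hf⟩ := i.1.1
        change Y.basicOpen f = V at hf
        subst hf
        simp only [Functor.const_obj_obj, Functor.const_obj_map, Category.comp_id]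
        exact chartMor_res hP hN U hU f }

theorem exists_glue (hP : RelProj.IsRelProj Sh p chart) (hN : NatB 𝒜 Sh z θ) :
    ∃ i : 𝒜.spec ⟶ P, ∀ (U : Y.Opens) (hU : IsAffineOpen U),
      𝒜.ι U hU ≫ i = chartMor 𝒜 Sh z hz p chart θ U hU :=
  ⟨colimit.desc 𝒜.glueData.functor (cocone (hz := hz) hP hN), fun U hU =>
    colimit.ι_desc (cocone (hz := hz) hP hN) ⟨U, hU⟩⟩

theorem hom_ext_spec {T : Scheme.{u}} (i j : 𝒜.spec ⟶ T)
    (h : ∀ (U : Y.Opens) (hU : IsAffineOpen U), 𝒜.ι U hU ≫ i = 𝒜.ι U hU ≫ j) : i = j := by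
  apply colimit.hom_ext
  intro U
  exact h U.1 U.2

theorem existsUnique_glue (hP : RelProj.IsRelProj Sh p chart) (hN : NatB 𝒜 Sh z θ) :
    ∃! i : 𝒜.spec ⟶ P, ∀ (U : Y.Opens) (hU : IsAffineOpen U),
      𝒜.ι U hU ≫ i = chartMor 𝒜 Sh z hz p chart θ U hU := by
  obtain ⟨i, hi⟩ := exists_glue (hz := hz) hP hN
  exact ⟨i, hi, fun j hj => hom_ext_spec j i fun U hU => by rw [hi, hj]⟩


theorem chartMor_comp_p (hP : RelProj.IsRelProj Sh p chart) (hS : StrC 𝒜 Sh z θ)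
    (U : Y.Opens) (hU : IsAffineOpen U) :
    chartMor 𝒜 Sh z hz p chart θ U hU ≫ p = 𝒜.ι U hU ≫ 𝒜.π := by
  unfold chartMor
  simp only [Category.assoc]
  rw [Groth.Agent.RelProjTN.emb_comp hP, Proj.awayι_toSpecZero_assoc, 𝒜.ι_π, ← hS U hU]
  simp only [Spec.map_comp, Category.assoc]

theorem comp_p (hP : RelProj.IsRelProj Sh p chart) (hS : StrC 𝒜 Sh z θ) (i : 𝒜.spec ⟶ P)
    (hi : ∀ (U : Y.Opens) (hU : IsAffineOpen U),
      𝒜.ι U hU ≫ i = chartMor 𝒜 Sh z hz p chart θ U hU) : i ≫ p = 𝒜.π := by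
  apply hom_ext_spec
  intro U hU
  rw [← Category.assoc, hi, chartMor_comp_p hP hS]

/-- The part of the chart morphism inside `Proj Ŝ(U)`. -/
noncomputable def chartLoc (U : Y.Opens) (hU : IsAffineOpen U) :
    Spec (𝒜.presheaf.obj (op U)) ⟶ Proj (Sh.deg U hU) :=
  Spec.map (θ U hU) ≫ Proj.awayι (Sh.deg U hU) (zU Sh z U) (hz U hU) one_pos

theorem isPullback_chart (hP : RelProj.IsRelProj Sh p chart) (hS : StrC 𝒜 Sh z θ) (i : 𝒜.spec ⟶ P)
    (hi : ∀ (U : Y.Opens) (hU : IsAffineOpen U),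
      𝒜.ι U hU ≫ i = chartMor 𝒜 Sh z hz p chart θ U hU) (U : Y.Opens) (hU : IsAffineOpen U) :
    IsPullback (chartLoc (𝒜 := 𝒜) (hz := hz) (θ := θ) U hU) (𝒜.ι U hU)
      (RelProj.emb p chart U hU) i := by
  refine IsOpenImmersion.isPullback _ _ _ _ ?_ ?_
  · rw [hi U hU]; unfold chartMor chartLoc; simp only [Category.assoc]
  · rw [Groth.Agent.RelProjTN.opensRange_emb, ← Scheme.Hom.comp_preimage, comp_p hP hS i hi,
      𝒜.π_preimage U hU]

/-- Properties local on the target pass from the chart maps to `i`. -/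
theorem of_chartLoc (Q : MorphismProperty Scheme.{u}) [IsZariskiLocalAtTarget Q]
    (hP : RelProj.IsRelProj Sh p chart) (hS : StrC 𝒜 Sh z θ) (i : 𝒜.spec ⟶ P)
    (hi : ∀ (U : Y.Opens) (hU : IsAffineOpen U),
      𝒜.ι U hU ≫ i = chartMor 𝒜 Sh z hz p chart θ U hU)
    (H : ∀ (U : Y.Opens) (hU : IsAffineOpen U), Q (chartLoc (𝒜 := 𝒜) (hz := hz) (θ := θ) U hU)) :
    Q i := by
  refine Groth.Agent.Lib.RelProj_helper3.of_isPullback_cover Q i
    (fun U : Y.affineOpens => p ⁻¹ᵁ (U : Y.Opens))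
    (Groth.Agent.Lib.RelProj_helper3.isOpenCover_preimage p)
    (fun U => Spec (𝒜.presheaf.obj (op U.1)))
    (fun U => chartLoc (𝒜 := 𝒜) (hz := hz) (θ := θ) U.1 U.2 ≫ (chart U.1 U.2).inv)
    (fun U => 𝒜.ι U.1 U.2) (fun U => ?_) (fun U => ?_)
  · have h := isPullback_chart hP hS i hi U.1 U.2
    unfold RelProj.emb at h
    exact h.of_iso (Iso.refl _) ((chart U.1 U.2).symm) (Iso.refl _) (Iso.refl _)
      (by simp) (by simp) (by simp) (by simp)
  · rw [Q.cancel_right_of_respectsIso]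
    exact H U.1 U.2

end Sch

end Groth.Agent.ConeImm
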