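import Mathlib

/-!
# `D_+(z) ⊆ Proj S` for a nonzerodivisor `z`: affine and scheme-theoretically dense  (helper5)
-/

set_option autoImplicit false
universe u
open AlgebraicGeometry CategoryTheory CategoryTheory.Limits HomogeneousLocalization

namespace Groth.Agent.ConeImm

section
variable {A σ : Type u} [CommRing A] [SetLike σ A] [AddSubgroupClass σ A] {𝒜 : ℕ → σ} [GradedRing 𝒜]

theorem pow_mul_eq_zero {g : A} (hreg : ∀ a : A, g * a = 0 → a = 0) (n : ℕ) (a : A)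
    (h : g ^ n * a = 0) : a = 0 := by
  induction n with
  | zero => simpa using h
  | succ n ih =>
    apply ih
    apply hreg
    rw [← mul_assoc, ← pow_succ']
    exact h

/-- `A_(f) → A_(fg)` is injective when `g` is a nonzerodivisor. -/
theorem awayMap_injective {d e : ℕ} {f g : A} (hf : f ∈ 𝒜 d) (hg : g ∈ 𝒜 e) {x : A}
    (hx : x = f * g) (hreg : ∀ a : A, g * a = 0 → a = 0) :
    Function.Injective (awayMap 𝒜 hg hx) := by
  rw [injective_iff_map_eq_zero]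
  intro q hq
  obtain ⟨n, a, ha, rfl⟩ := Away.mk_surjective 𝒜 hf q
  rw [awayMap_mk 𝒜 hg hx n hf a ha, HomogeneousLocalization.ext_iff_val, Away.val_mk,
    HomogeneousLocalization.val_zero, Localization.mk_eq_mk', IsLocalization.mk'_eq_zero_iff] at hq
  obtain ⟨⟨_, k, rfl⟩, hk⟩ := hq
  have hk' : g ^ (k + n) * (f ^ k * a) = 0 := by
    have : x ^ k * (a * g ^ n) = 0 := hk
    rw [hx, mul_pow] at this
    rw [pow_add, ← this]; ring
  have h0 := pow_mul_eq_zero hreg _ _ hk'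
  rw [HomogeneousLocalization.ext_iff_val, Away.val_mk, HomogeneousLocalization.val_zero,
    Localization.mk_eq_mk', IsLocalization.mk'_eq_zero_iff]
  exact ⟨⟨f ^ k, k, rfl⟩, h0⟩

instance isAffineHom_awayι {d : ℕ} (f : A) (hf : f ∈ 𝒜 d) (hd : 0 < d) :
    IsAffineHom (Proj.awayι 𝒜 f hf hd) := by
  have h : IsAffineHom (Proj.awayι 𝒜 f hf hd ≫ Proj.toSpecZero 𝒜) := by
    rw [Proj.awayι_toSpecZero]; infer_instance
  exact IsAffineHom.of_comp (Proj.awayι 𝒜 f hf hd) (Proj.toSpecZero 𝒜)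

theorem awayι_congr {m m' : ℕ} (f : A) (hf : f ∈ 𝒜 m) (hm : 0 < m) (hf' : f ∈ 𝒜 m') (hm' : 0 < m')
    (h : m = m') : Proj.awayι 𝒜 f hf hm = Proj.awayι 𝒜 f hf' hm' := by
  subst h; rfl

theorem isPullback_awayι {d e : ℕ} {f g : A} (hf : f ∈ 𝒜 d) (hd : 0 < d) (hg : g ∈ 𝒜 e)
    (he : 0 < e) {x : A} (hx : x = f * g) :
    IsPullback (Spec.map (CommRingCat.ofHom (awayMap 𝒜 hg hx)))
      (Spec.map (CommRingCat.ofHom (awayMap 𝒜 hf (hx.trans (mul_comm _ _)))))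
      (Proj.awayι 𝒜 f hf hd) (Proj.awayι 𝒜 g hg he) := by
  refine IsPullback.of_iso_pullback ⟨?_⟩ (Proj.pullbackAwayιIso 𝒜 hf hd hg he hx).symm ?_ ?_
  · rw [Proj.SpecMap_awayMap_awayι 𝒜 hf hd hg hx,
      Proj.SpecMap_awayMap_awayι 𝒜 hg he hf (hx.trans (mul_comm _ _))]
    exact awayι_congr _ _ _ _ _ (add_comm _ _)
  · exact Proj.pullbackAwayιIso_inv_fst 𝒜 hf hd hg he hx
  · exact Proj.pullbackAwayιIso_inv_snd 𝒜 hf hd hg he hx

theorem ker_specMap_eq_bot {R T : CommRingCat.{u}} (φ : R ⟶ T) (hφ : Function.Injective φ.hom) :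
    (Spec.map φ).ker.ideal ⟨⊤, isAffineOpen_top _⟩ = ⊥ := by
  rw [Scheme.Hom.ker_apply, eq_bot_iff]
  intro x hx
  rw [RingHom.mem_ker] at hx
  have h1 : (Spec.map φ).appTop ≫ (Scheme.ΓSpecIso T).hom = (Scheme.ΓSpecIso R).hom ≫ φ :=
    Scheme.ΓSpecIso_naturality φ
  have h2 := congrArg (fun m => m.hom x) h1
  simp only [CommRingCat.hom_comp, RingHom.comp_apply] at h2
  have h3 : ((Spec.map φ).appTop).hom x = 0 := hx
  rw [h3, map_zero] at h2
  have h4 := hφ (h2.symm.trans (map_zero _).symm)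
  have h5 : Function.Injective (Scheme.ΓSpecIso R).hom.hom :=
    (ConcreteCategory.bijective_of_isIso (Scheme.ΓSpecIso R).hom).1
  exact h5 (h4.trans (map_zero _).symm)

/-- `D_+(z) ⊆ Proj S` is scheme-theoretically dense when `z` is a nonzerodivisor. -/
theorem ker_awayι_eq_bot {z : A} (hz : z ∈ 𝒜 1) (hreg : ∀ a : A, z * a = 0 → a = 0) :
    (Proj.awayι 𝒜 z hz one_pos).ker = ⊥ := by
  refine Scheme.IdealSheafData.ext_of_iSup_eq_top
    (fun s : (Proj.affineOpenCover 𝒜).I₀ =>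
      ⟨((Proj.affineOpenCover 𝒜).f s).opensRange, isAffineOpen_opensRange _⟩)
    (Proj.affineOpenCover 𝒜).openCover.iSup_opensRange fun s => ?_
  obtain ⟨⟨d, hd⟩, ⟨f, hf⟩⟩ := s
  have H := isPullback_awayι (𝒜 := 𝒜) hf hd hz one_pos (x := f * z) rfl
  have key := Scheme.ker_ideal_of_isPullback_of_isOpenImmersion
    (Proj.awayι 𝒜 z hz one_pos) _ _ (Proj.awayι 𝒜 f hf hd) H ⟨⊤, isAffineOpen_top _⟩
  rw [ker_specMap_eq_bot _ (awayMap_injective hf hz rfl hreg)] at key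
  have hU : (⟨(Proj.awayι 𝒜 f hf hd) ''ᵁ ⊤, (isAffineOpen_top _).image_of_isOpenImmersion _⟩ :
      (Proj 𝒜).affineOpens) =
      ⟨((Proj.affineOpenCover 𝒜).f ⟨⟨d, hd⟩, ⟨f, hf⟩⟩).opensRange, isAffineOpen_opensRange _⟩ :=
    Subtype.ext (Scheme.Hom.image_top_eq_opensRange _)
  rw [← hU]
  show _ = (⊥ : Ideal _)
  rw [eq_bot_iff]
  intro x hx
  have hy : ((Proj.awayι 𝒜 f hf hd).appIso ⊤).hom.hom x ∈
      Ideal.comap ((Proj.awayι 𝒜 f hf hd).appIso ⊤).inv.hom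
        ((Proj.awayι 𝒜 z hz one_pos).ker.ideal ⟨(Proj.awayι 𝒜 f hf hd) ''ᵁ ⊤,
          (isAffineOpen_top _).image_of_isOpenImmersion _⟩) := by
    rw [Ideal.mem_comap]
    have : ((Proj.awayι 𝒜 f hf hd).appIso ⊤).inv.hom
        (((Proj.awayι 𝒜 f hf hd).appIso ⊤).hom.hom x) = x := by
      rw [← CommRingCat.comp_apply, Iso.hom_inv_id]; rfl
    rw [this]; exact hx
  rw [← key] at hy
  have h0 : ((Proj.awayι 𝒜 f hf hd).appIso ⊤).hom.hom x = 0 := hy
  have hinj : Function.Injective ((Proj.awayι 𝒜 f hf hd).appIso ⊤).hom.hom :=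
    (ConcreteCategory.bijective_of_isIso ((Proj.awayι 𝒜 f hf hd).appIso ⊤).hom).1
  exact hinj (h0.trans (map_zero _).symm)

end

end Groth.Agent.ConeImm
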