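import Mathlib
import Groth.Prelude.Def_RelProj2
import Groth.Agent.Lib.ConeImm1_helper5
import Groth.Agent.Lib.ConeImm5_helper5

/-!
# The canonical morphism `Spec(𝒜) ⟶ Proj(Ŝ)` through `D_+(z)`: affine, scheme-theoretically dense,
image `= P_z`  (helper5)
-/

set_option autoImplicit false
universe u
open AlgebraicGeometry CategoryTheory CategoryTheory.Limits HomogeneousLocalization Opposite TopologicalSpace

namespace Groth.Agent.ConeImm

section
variable {Y P : Scheme.{u}} {𝒜 : RelSpec.QCAlg Y} {Sh : RelProj.QCGrAlg Y}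
  {z : Sh.presheaf.obj (op ⊤)}
  {hz : ∀ (U : Y.Opens) (hU : IsAffineOpen U),
    (Sh.presheaf.map (homOfLE le_top).op).hom z ∈ Sh.deg U hU 1}
  {p : P ⟶ Y}
  {chart : ∀ (U : Y.Opens) (hU : IsAffineOpen U),
    (((p ⁻¹ᵁ U : P.Opens) : Scheme.{u}) ≅ Proj (Sh.deg U hU))}
  {θ : ∀ (U : Y.Opens) (hU : IsAffineOpen U),
    CommRingCat.of (HomogeneousLocalization.Away (Sh.deg U hU)
      ((Sh.presheaf.map (homOfLE le_top).op).hom z)) ⟶ 𝒜.presheaf.obj (op U)}

theorem isAffineHom_glue (hP : RelProj.IsRelProj Sh p chart) (hS : StrC 𝒜 Sh z θ) (i : 𝒜.spec ⟶ P)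
    (hi : ∀ (U : Y.Opens) (hU : IsAffineOpen U),
      𝒜.ι U hU ≫ i = chartMor 𝒜 Sh z hz p chart θ U hU) : IsAffineHom i := by
  refine of_chartLoc @IsAffineHom hP hS i hi fun U hU => ?_
  unfold chartLoc
  infer_instance

theorem isOpenImmersion_glue (hP : RelProj.IsRelProj Sh p chart) (hS : StrC 𝒜 Sh z θ)
    (i : 𝒜.spec ⟶ P)
    (hi : ∀ (U : Y.Opens) (hU : IsAffineOpen U),
      𝒜.ι U hU ≫ i = chartMor 𝒜 Sh z hz p chart θ U hU)
    (hθ : ∀ (U : Y.Opens) (hU : IsAffineOpen U), IsIso (θ U hU)) : IsOpenImmersion i := by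
  refine of_chartLoc @IsOpenImmersion hP hS i hi fun U hU => ?_
  unfold chartLoc
  have := hθ U hU
  infer_instance

theorem ker_glue_eq_bot (hP : RelProj.IsRelProj Sh p chart) (hS : StrC 𝒜 Sh z θ)
    (i : 𝒜.spec ⟶ P)
    (hi : ∀ (U : Y.Opens) (hU : IsAffineOpen U),
      𝒜.ι U hU ≫ i = chartMor 𝒜 Sh z hz p chart θ U hU)
    (hθ : ∀ (U : Y.Opens) (hU : IsAffineOpen U), IsIso (θ U hU))
    (hreg : ∀ (U : Y.Opens) (_ : IsAffineOpen U) (a : Sh.presheaf.obj (op U)),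
      zU Sh z U * a = 0 → a = 0) : i.ker = ⊥ := by
  have hiaff : IsAffineHom i := isAffineHom_glue hP hS i hi
  refine Scheme.IdealSheafData.ext_of_iSup_eq_top
    (fun s : (Σ U : Y.affineOpens, (Proj (Sh.deg U.1 U.2)).affineOpens) =>
      ⟨RelProj.emb p chart s.1.1 s.1.2 ''ᵁ s.2.1, s.2.2.image_of_isOpenImmersion _⟩) ?_ fun s => ?_
  · rw [eq_top_iff]
    intro x _
    obtain ⟨_, ⟨U, hU : IsAffineOpen U, rfl⟩, hxU, -⟩ :=
      (Y.isBasis_affineOpens).exists_subset_of_mem_open (Set.mem_univ (p.base x)) isOpen_univ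
    have hx : x ∈ p ⁻¹ᵁ U := hxU
    obtain ⟨_, ⟨W, hW : IsAffineOpen W, rfl⟩, hyW, -⟩ :=
      ((Proj (Sh.deg U hU)).isBasis_affineOpens).exists_subset_of_mem_open
        (Set.mem_univ ((chart U hU).hom.base ⟨x, hx⟩)) isOpen_univ
    refine Opens.mem_iSup.mpr ⟨⟨⟨U, hU⟩, ⟨W, hW⟩⟩, ⟨_, hyW, ?_⟩⟩
    exact Groth.Agent.RelProjTN.emb_apply_chart U hU x hx
  · obtain ⟨⟨U, hU⟩, ⟨W, hW⟩⟩ := s
    have H := isPullback_chart hP hS i hi U hU
    have key := Scheme.ker_ideal_of_isPullback_of_isOpenImmersion i _ _ _ H ⟨W, hW⟩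
    have hk : (chartLoc (𝒜 := 𝒜) (hz := hz) (θ := θ) U hU).ker = ⊥ := by
      unfold chartLoc
      have := hθ U hU
      rw [Scheme.Hom.ker_comp_of_isIso]
      exact ker_awayι_eq_bot (hz U hU) (hreg U hU)
    rw [hk] at key
    show _ = (⊥ : Ideal _)
    rw [eq_bot_iff]
    intro x hx
    have hy : ((RelProj.emb p chart U hU).appIso W).hom.hom x ∈
        Ideal.comap ((RelProj.emb p chart U hU).appIso W).inv.hom
          (i.ker.ideal ⟨RelProj.emb p chart U hU ''ᵁ W, hW.image_of_isOpenImmersion _⟩) := by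
      rw [Ideal.mem_comap]
      have : ((RelProj.emb p chart U hU).appIso W).inv.hom
          (((RelProj.emb p chart U hU).appIso W).hom.hom x) = x := by
        rw [← CommRingCat.comp_apply, Iso.hom_inv_id]; rfl
      rw [this]; exact hx
    rw [← key] at hy
    have h0 : ((RelProj.emb p chart U hU).appIso W).hom.hom x = 0 := hy
    have hinj : Function.Injective ((RelProj.emb p chart U hU).appIso W).hom.hom :=
      (ConcreteCategory.bijective_of_isIso ((RelProj.emb p chart U hU).appIso W).hom).1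
    exact hinj (h0.trans (map_zero _).symm)

theorem range_glue (hP : RelProj.IsRelProj Sh p chart) (hS : StrC 𝒜 Sh z θ)
    (i : 𝒜.spec ⟶ P)
    (hi : ∀ (U : Y.Opens) (hU : IsAffineOpen U),
      𝒜.ι U hU ≫ i = chartMor 𝒜 Sh z hz p chart θ U hU)
    (hθ : ∀ (U : Y.Opens) (hU : IsAffineOpen U), IsIso (θ U hU))
    (Xz : P.Opens)
    (hXz : ∀ (U : Y.Opens) (hU : IsAffineOpen U),
      Xz ⊓ p ⁻¹ᵁ U = (p ⁻¹ᵁ U).ι ''ᵁ ((chart U hU).hom ⁻¹ᵁ
        Proj.basicOpen (Sh.deg U hU) ((Sh.presheaf.map (homOfLE le_top).op).hom z))) :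
    Set.range i.base = (Xz : Set P) := by
  have hip := comp_p hP hS i hi
  ext x
  obtain ⟨_, ⟨U, hU : IsAffineOpen U, rfl⟩, hxU, -⟩ :=
    (Y.isBasis_affineOpens).exists_subset_of_mem_open (Set.mem_univ (p.base x)) isOpen_univ
  have hx : x ∈ p ⁻¹ᵁ U := hxU
  constructor
  · rintro ⟨c, rfl⟩
    have hc : c ∈ 𝒜.π ⁻¹ᵁ U := by
      rw [← hip]; exact hx
    rw [𝒜.π_preimage U hU] at hc
    obtain ⟨c', rfl⟩ := hc
    have h1 : i.base ((𝒜.ι U hU).base c') =
        (chartMor 𝒜 Sh z hz p chart θ U hU).base c' := by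
      rw [← hi U hU]; rfl
    have hmem : i.base ((𝒜.ι U hU).base c') ∈ Xz ⊓ p ⁻¹ᵁ U := by
      rw [hXz U hU, h1]
      unfold chartMor RelProj.emb
      refine ⟨((chart U hU).inv.base ((Proj.awayι (Sh.deg U hU) (zU Sh z U) (hz U hU) one_pos).base
        ((Spec.map (θ U hU)).base c'))), ?_, rfl⟩
      show (chart U hU).hom.base ((chart U hU).inv.base _) ∈ Proj.basicOpen (Sh.deg U hU) _
      have : (chart U hU).hom.base ((chart U hU).inv.base
          ((Proj.awayι (Sh.deg U hU) (zU Sh z U) (hz U hU) one_pos).base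
            ((Spec.map (θ U hU)).base c'))) =
          ((Proj.awayι (Sh.deg U hU) (zU Sh z U) (hz U hU) one_pos).base
            ((Spec.map (θ U hU)).base c')) := by
        change ((chart U hU).inv ≫ (chart U hU).hom).base _ = _
        rw [Iso.inv_hom_id]; rfl
      rw [this, ← Proj.opensRange_awayι (Sh.deg U hU) (zU Sh z U) (hz U hU) one_pos]
      exact ⟨_, rfl⟩
    exact hmem.1
  · intro hxz
    have hmem : x ∈ Xz ⊓ p ⁻¹ᵁ U := ⟨hxz, hx⟩
    rw [hXz U hU] at hmem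
    obtain ⟨w, hw, rfl⟩ := hmem
    have hw' : (chart U hU).hom.base w ∈
        (Proj.awayι (Sh.deg U hU) (zU Sh z U) (hz U hU) one_pos).opensRange := by
      rw [Proj.opensRange_awayι]; exact hw
    obtain ⟨s, hs⟩ := hw'
    have := hθ U hU
    have hsurj : Function.Surjective (Spec.map (θ U hU)).base :=
      (ConcreteCategory.bijective_of_isIso (Spec.map (θ U hU)).base).2
    obtain ⟨c', rfl⟩ := hsurj s
    refine ⟨(𝒜.ι U hU).base c', ?_⟩
    have h1 : i.base ((𝒜.ι U hU).base c') =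
        (chartMor 𝒜 Sh z hz p chart θ U hU).base c' := by
      rw [← hi U hU]; rfl
    rw [h1]
    unfold chartMor RelProj.emb
    show (p ⁻¹ᵁ U).ι.base ((chart U hU).inv.base
      ((Proj.awayι (Sh.deg U hU) (zU Sh z U) (hz U hU) one_pos).base
        ((Spec.map (θ U hU)).base c'))) = _
    rw [hs]
    change (p ⁻¹ᵁ U).ι.base (((chart U hU).hom ≫ (chart U hU).inv).base w) = _
    rw [Iso.hom_inv_id]; rfl

end

end Groth.Agent.ConeImm
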