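import Mathlib
import Groth.Prelude.Def_RelProj2
import Groth.Agent.Lib.ConeImm4_helper5
import Groth.Agent.Lib.ConeImm6_helper5

/-!
# The canonical open immersion of the affine cone into the projective cone  (helper5)
-/

set_option autoImplicit false
universe u
open AlgebraicGeometry CategoryTheory CategoryTheory.Limits HomogeneousLocalization Opposite TopologicalSpace

namespace Groth.Agent.ConeImm

section
variable {Y PC : Scheme.{u}} (𝒮 Sh : RelProj.QCGrAlg Y)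
  (ι : 𝒮.toQCAlg ⟶ Sh.toQCAlg) (hι : RelProj.IsGradedHom ι) (z : Sh.presheaf.obj (op ⊤))
  (hz : ∀ (U : Y.Opens) (hU : IsAffineOpen U),
    (Sh.presheaf.map (homOfLE le_top).op).hom z ∈ Sh.deg U hU 1)
  (hpoly : ∀ (U : Y.Opens) (hU : IsAffineOpen U),
    Function.Bijective (Polynomial.eval₂RingHom (ι.hom.app (op U)).hom
      ((Sh.presheaf.map (homOfLE le_top).op).hom z)))
  (pC : PC ⟶ Y)
  (chartC : ∀ (U : Y.Opens) (hU : IsAffineOpen U),
    (((pC ⁻¹ᵁ U : PC.Opens) : Scheme.{u}) ≅ Proj (Sh.deg U hU)))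
  (θ : ∀ (U : Y.Opens) (hU : IsAffineOpen U),
    CommRingCat.of (HomogeneousLocalization.Away (Sh.deg U hU)
      ((Sh.presheaf.map (homOfLE le_top).op).hom z)) ⟶ 𝒮.presheaf.obj (op U))
  (hθ : ∀ (U : Y.Opens) (hU : IsAffineOpen U)
    (q : HomogeneousLocalization.Away (Sh.deg U hU) ((Sh.presheaf.map (homOfLE le_top).op).hom z))
    (k : ℕ) (x : 𝒮.presheaf.obj (op U)), x ∈ 𝒮.deg U hU k →
      q.val = Localization.mk ((ι.hom.app (op U)).hom x)
        ⟨(Sh.presheaf.map (homOfLE le_top).op).hom z ^ k,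
          pow_mem (Submonoid.mem_powers ((Sh.presheaf.map (homOfLE le_top).op).hom z)) k⟩ →
      (θ U hU).hom q = x)

/-- `ι(U)` as a graded ring homomorphism. -/
abbrev psiU (U : Y.Opens) (hU : IsAffineOpen U) : 𝒮.deg U hU →+*ᵍ Sh.deg U hU :=
  RelProj.gradedHomAt ι hι U hU

include hθ in
theorem theta_gen (U : Y.Opens) (hU : IsAffineOpen U) (k : ℕ) (x : 𝒮.presheaf.obj (op U))
    (hx : x ∈ 𝒮.deg U hU k) :
    (θ U hU).hom (gen (psiU 𝒮 Sh ι hι U hU) (zU Sh z U) (hz U hU) k x hx) = x :=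
  hθ U hU _ k x hx (val_gen (psiU 𝒮 Sh ι hι U hU) (zU Sh z U) (hz U hU) k x hx)

include hι hz hpoly hθ in
theorem isIso_theta (U : Y.Opens) (hU : IsAffineOpen U) : IsIso (θ U hU) := by
  have hb : Function.Bijective (θ U hU).hom :=
    theta_bijective' (psiU 𝒮 Sh ι hι U hU) (zU Sh z U) (hz U hU) (hpoly U hU) (θ U hU).hom
      (theta_gen 𝒮 Sh ι hι z hz θ hθ U hU)
  have : IsIso ((forget CommRingCat).map (θ U hU)) := (isIso_iff_bijective _).mpr hb
  exact isIso_of_reflects_iso (θ U hU) (forget CommRingCat)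

include hι hz hpoly hθ in
theorem natB_cone : NatB 𝒮.toQCAlg Sh z θ := by
  intro U hU r
  apply CommRingCat.hom_ext
  apply hom_ext_gen (psiU 𝒮 Sh ι hι U hU) (zU Sh z U) (hz U hU) (hpoly U hU).2
  intro k x hx
  rw [CommRingCat.hom_comp, CommRingCat.hom_comp, RingHom.comp_apply, RingHom.comp_apply,
    theta_gen 𝒮 Sh ι hι z hz θ hθ U hU k x hx]
  have hx' : (𝒮.presheaf.map (homOfLE (Y.basicOpen_le r)).op).hom x ∈
      𝒮.deg (Y.basicOpen r) (hU.basicOpen r) k := 𝒮.map_mem hU (hU.basicOpen r) _ hx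
  have h2 : (CommRingCat.ofHom (awayMapTo (Sh.res hU (hU.basicOpen r) (Y.basicOpen_le r)) (zU Sh z U)
      (zU Sh z (Y.basicOpen r)) (res_zU Sh z hU (hU.basicOpen r) (Y.basicOpen_le r)))).hom
      (gen (psiU 𝒮 Sh ι hι U hU) (zU Sh z U) (hz U hU) k x hx) =
      gen (psiU 𝒮 Sh ι hι _ (hU.basicOpen r)) (zU Sh z (Y.basicOpen r)) (hz _ (hU.basicOpen r)) k
        _ hx' := by
    unfold gen
    rw [CommRingCat.hom_ofHom, awayMapTo_mk _ _ _ (res_zU Sh z hU (hU.basicOpen r) (Y.basicOpen_le r))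
      (hz U hU) (hz _ (hU.basicOpen r))]
    congr 1
    have := congrArg (fun m => m.hom x) (ι.hom.naturality (homOfLE (Y.basicOpen_le r)).op)
    simp only [CommRingCat.hom_comp, RingHom.comp_apply] at this
    exact this.symm
  rw [h2, theta_gen 𝒮 Sh ι hι z hz θ hθ _ (hU.basicOpen r) k _ hx']

include hθ in
theorem strC_cone : StrC 𝒮.toQCAlg Sh z θ := by
  intro U hU
  ext r
  rw [CommRingCat.comp_apply, CommRingCat.comp_apply]
  apply hθ U hU _ 0 ((𝒮.str.app (op U)).hom r) (𝒮.str_mem U hU r)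
  have hc : (ι.hom.app (op U)).hom ((𝒮.str.app (op U)).hom r) = (Sh.str.app (op U)).hom r := by
    have := congrArg (fun m => (m.app (op U)).hom r) ι.comm
    simpa using this
  rw [hc]
  show (fromZeroRingHom (Sh.deg U hU) _ ((Sh.strZero U hU).hom r)).val = _
  unfold fromZeroRingHom
  simp only [RingHom.coe_mk, MonoidHom.coe_mk, OneHom.coe_mk, HomogeneousLocalization.val_mk]
  rw [Localization.mk_eq_mk_iff, Localization.r_iff_exists]
  refine ⟨1, ?_⟩
  simp only [OneMemClass.coe_one, one_mul, pow_zero]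
  rw [RelProj.QCGrAlg.strZero_apply_coe]
  simp

include hι hpoly hθ in
theorem main_cone (hPC : RelProj.IsRelProj Sh pC chartC) :
    (∃! i : 𝒮.toQCAlg.spec ⟶ PC, ∀ (U : Y.Opens) (hU : IsAffineOpen U),
        𝒮.toQCAlg.ι U hU ≫ i = chartMor 𝒮.toQCAlg Sh z hz pC chartC θ U hU) ∧
      ∀ i : 𝒮.toQCAlg.spec ⟶ PC, (∀ (U : Y.Opens) (hU : IsAffineOpen U),
        𝒮.toQCAlg.ι U hU ≫ i = chartMor 𝒮.toQCAlg Sh z hz pC chartC θ U hU) →
        IsOpenImmersion i ∧ IsAffineHom i ∧ i ≫ pC = 𝒮.toQCAlg.π ∧ i.ker = ⊥ ∧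
          ∀ Xz : PC.Opens, (∀ (U : Y.Opens) (hU : IsAffineOpen U),
            Xz ⊓ pC ⁻¹ᵁ U =
              (pC ⁻¹ᵁ U).ι ''ᵁ ((chartC U hU).hom ⁻¹ᵁ
                Proj.basicOpen (Sh.deg U hU) ((Sh.presheaf.map (homOfLE le_top).op).hom z))) →
            Set.range i.base = (Xz : Set PC) := by
  have hN := natB_cone 𝒮 Sh ι hι z hz hpoly θ hθ
  have hS := strC_cone 𝒮 Sh ι z θ hθ
  have hiso := isIso_theta 𝒮 Sh ι hι z hz hpoly θ hθ
  refine ⟨existsUnique_glue hPC hN, fun i hi => ⟨isOpenImmersion_glue hPC hS i hi hiso,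
    isAffineHom_glue hPC hS i hi, comp_p hPC hS i hi, ?_, fun Xz hXz =>
      range_glue hPC hS i hi hiso Xz hXz⟩⟩
  exact ker_glue_eq_bot hPC hS i hi hiso fun U hU a ha =>
    z_mul_eq_zero (psiU 𝒮 Sh ι hι U hU) (zU Sh z U) (hpoly U hU) a ha

end

end Groth.Agent.ConeImm
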