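import Mathlib
import Groth.Prelude.Def_RelSpec2
import Groth.Agent.Lib.ConeImm7_helper5
import Groth.Agent.Lib.RelProjTN4_helper5

/-!
# The canonical immersion `i : C ⟶ Ĉ` (`RelCone.IsConeImm`) and the pointed projective cone  (helper5)
-/

set_option autoImplicit false
universe u
open AlgebraicGeometry CategoryTheory CategoryTheory.Limits HomogeneousLocalization Opposite TopologicalSpace

namespace Groth.Agent.ConeImm

section
variable {Y PC : Scheme.{u}} {𝒮 𝒮h : RelProj.QCGrAlg Y}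
  {ι : 𝒮.toQCAlg ⟶ 𝒮h.toQCAlg} {z : 𝒮h.presheaf.obj (op ⊤)} (hz : RelCone.IsPolyOver 𝒮 𝒮h ι z)
  {pC : PC ⟶ Y}
  {chartC : ∀ (U : Y.Opens) (hU : IsAffineOpen U),
    (((pC ⁻¹ᵁ U : PC.Opens) : Scheme.{u}) ≅ Proj (𝒮h.deg U hU))}

/-- The homomorphisms `Ŝ(U)_(z) → 𝒮(U)` of `RelCone.IsConeImm`. -/
noncomputable def thz (U : Y.Opens) (hU : IsAffineOpen U) :
    CommRingCat.of (HomogeneousLocalization.Away (𝒮h.deg U hU)
      ((𝒮h.presheaf.map (homOfLE le_top).op).hom z)) ⟶ 𝒮.presheaf.obj (op U) :=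
  CommRingCat.ofHom (hz.awayZToBase U hU)

theorem thz_spec (U : Y.Opens) (hU : IsAffineOpen U)
    (q : HomogeneousLocalization.Away (𝒮h.deg U hU) ((𝒮h.presheaf.map (homOfLE le_top).op).hom z))
    (k : ℕ) (x : 𝒮.presheaf.obj (op U)) (_ : x ∈ 𝒮.deg U hU k)
    (hq : q.val = Localization.mk ((ι.hom.app (op U)).hom x)
        ⟨(𝒮h.presheaf.map (homOfLE le_top).op).hom z ^ k,
          pow_mem (Submonoid.mem_powers ((𝒮h.presheaf.map (homOfLE le_top).op).hom z)) k⟩) :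
    (thz hz U hU).hom q = x := by
  unfold thz
  rw [CommRingCat.hom_ofHom, hz.awayZToBase_of_val U hU q _ k hq, hz.evalOne_ι]

theorem chartMor_of_isConeImm (i : 𝒮.toQCAlg.spec ⟶ PC) (hi : RelCone.IsConeImm 𝒮 hz pC chartC i)
    (U : Y.Opens) (hU : IsAffineOpen U) :
    𝒮.toQCAlg.ι U hU ≫ i = chartMor 𝒮.toQCAlg 𝒮h z hz.deg_z pC chartC (thz hz) U hU :=
  hi U hU

/-- The point of `Proj Ŝ(U)` attached to a prime `c` of `𝒮(U)`. -/
noncomputable def ptOf (U : Y.Opens) (hU : IsAffineOpen U) (c : Spec (𝒮.presheaf.obj (op U))) :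
    Proj (𝒮h.deg U hU) :=
  (Proj.awayι (𝒮h.deg U hU) (zU 𝒮h z U) (hz.deg_z U hU) one_pos).base
    ((Spec.map (thz hz U hU)).base c)

theorem i_ι_apply (i : 𝒮.toQCAlg.spec ⟶ PC) (hi : RelCone.IsConeImm 𝒮 hz pC chartC i)
    (U : Y.Opens) (hU : IsAffineOpen U) (c : Spec (𝒮.presheaf.obj (op U))) :
    i.base ((𝒮.toQCAlg.ι U hU).base c) = (RelProj.emb pC chartC U hU).base (ptOf hz U hU c) := by
  have := congrArg (fun m => m.base c) (hi U hU)
  exact this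

theorem ptOf_mem_basicOpen_z (U : Y.Opens) (hU : IsAffineOpen U)
    (c : Spec (𝒮.presheaf.obj (op U))) :
    ptOf hz U hU c ∈ Proj.basicOpen (𝒮h.deg U hU) (zU 𝒮h z U) := by
  rw [← Proj.opensRange_awayι (𝒮h.deg U hU) (zU 𝒮h z U) (hz.deg_z U hU) one_pos]
  exact ⟨_, rfl⟩

theorem ptOf_mem_basicOpen_iff (U : Y.Opens) (hU : IsAffineOpen U) {d : ℕ} (hd : 0 < d)
    {f : 𝒮.presheaf.obj (op U)} (hf : f ∈ 𝒮.deg U hU d) (c : Spec (𝒮.presheaf.obj (op U))) :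
    ptOf hz U hU c ∈ Proj.basicOpen (𝒮h.deg U hU) ((ι.hom.app (op U)).hom f) ↔ f ∉ c.asIdeal := by
  have hιf : (ι.hom.app (op U)).hom f ∈ 𝒮h.deg U hU d := hz.graded U hU d f hf
  have h1 : ptOf hz U hU c ∈ Proj.basicOpen (𝒮h.deg U hU) ((ι.hom.app (op U)).hom f) ↔
      (Spec.map (thz hz U hU)).base c ∈
        (Proj.awayι (𝒮h.deg U hU) (zU 𝒮h z U) (hz.deg_z U hU) one_pos) ⁻¹ᵁ
          Proj.basicOpen (𝒮h.deg U hU) ((ι.hom.app (op U)).hom f) := Iff.rfl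
  rw [h1, Proj.awayι_preimage_basicOpen (𝒮h.deg U hU) (hz.deg_z U hU) one_pos hιf hd]
  have h2 : (Spec.map (thz hz U hU)).base c ∈
      PrimeSpectrum.basicOpen (Away.isLocalizationElem (hz.deg_z U hU) hιf) ↔
      (thz hz U hU).hom (Away.isLocalizationElem (hz.deg_z U hU) hιf) ∉ c.asIdeal := Iff.rfl
  have h3 : (thz hz U hU).hom (Away.isLocalizationElem (hz.deg_z U hU) hιf) = f := by
    apply thz_spec hz U hU _ d f hf
    unfold Away.isLocalizationElem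
    rw [Away.val_mk, pow_one]
  refine h2.trans ?_
  rw [h3]

theorem ptOf_mem_domOpen_iff (U : Y.Opens) (hU : IsAffineOpen U)
    (c : Spec (𝒮.presheaf.obj (op U))) :
    ptOf hz U hU c ∈ RelCone.domOpen (RelProj.gradedHomAt ι hz.graded U hU) ↔
      ¬ ((HomogeneousIdeal.irrelevant (𝒮.deg U hU)).toIdeal ≤ c.asIdeal) := by
  constructor
  · intro h hle
    obtain ⟨d, hd, f, hf, hfy⟩ :=
      Groth.Agent.RelProjTN.exists_homogeneous_of_mem_domOpen _ _ h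
    have := (ptOf_mem_basicOpen_iff hz U hU hd hf c).mp hfy
    exact this (hle (HomogeneousIdeal.mem_irrelevant_of_mem _ hd hf))
  · intro h
    by_contra hcon
    apply h
    rw [HomogeneousIdeal.toIdeal_irrelevant_le]
    intro d hd f hf
    by_contra hfc
    exact hcon (Groth.Agent.RelProjTN.mem_domOpen_of_mem_basicOpen _ hd hf _
      ((ptOf_mem_basicOpen_iff hz U hU hd hf c).mpr hfc))

theorem isIso_thz (U : Y.Opens) (hU : IsAffineOpen U) : IsIso (thz hz U hU) :=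
  isIso_theta 𝒮 𝒮h ι hz.graded z hz.deg_z hz.bij (thz hz) (thz_spec hz) U hU

theorem exists_ptOf (U : Y.Opens) (hU : IsAffineOpen U) (y : Proj (𝒮h.deg U hU))
    (hy : y ∈ Proj.basicOpen (𝒮h.deg U hU) (zU 𝒮h z U)) : ∃ c, ptOf hz U hU c = y := by
  rw [← Proj.opensRange_awayι (𝒮h.deg U hU) (zU 𝒮h z U) (hz.deg_z U hU) one_pos] at hy
  obtain ⟨s, hs⟩ := hy
  have := isIso_thz hz U hU
  have hsurj : Function.Surjective (Spec.map (thz hz U hU)).base :=
    (ConcreteCategory.bijective_of_isIso (Spec.map (thz hz U hU)).base).2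
  obtain ⟨c, rfl⟩ := hsurj s
  exact ⟨c, hs⟩

theorem mem_basicOpen_z_of_not_mem_domOpen (U : Y.Opens) (hU : IsAffineOpen U)
    (y : Proj (𝒮h.deg U hU))
    (hy : y ∉ RelCone.domOpen (RelProj.gradedHomAt ι hz.graded U hU)) :
    y ∈ Proj.basicOpen (𝒮h.deg U hU) (zU 𝒮h z U) := by
  classical
  rw [RelCone.mem_domOpen] at hy
  push Not at hy
  rw [Proj.mem_basicOpen]
  intro hzy
  apply y.not_irrelevant_le
  rw [HomogeneousIdeal.irrelevant_le]
  intro n hn b hb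
  obtain ⟨c, hc, rfl⟩ := exists_coef (RelProj.gradedHomAt ι hz.graded U hU) (zU 𝒮h z U)
    (hz.deg_z U hU) (hz.bij U hU).2 hb
  refine Ideal.sum_mem _ fun j _ => ?_
  by_cases hj : j = 0
  · subst hj
    rw [pow_zero, mul_one]
    exact hy _ (HomogeneousIdeal.mem_irrelevant_of_mem _ hn (hc 0))
  · exact Ideal.mul_mem_left _ _ (Ideal.pow_mem_of_mem _ hzy j (Nat.pos_of_ne_zero hj))

theorem pointedProjCone_eq_domQ (hPC : RelProj.IsRelProj 𝒮h pC chartC) :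
    RelCone.pointedProjCone 𝒮 hz pC chartC =
      RelProj.domQ (RelProj.QGrHom.ofHom ι hz.graded) pC chartC := by
  apply le_antisymm
  · refine iSup_le fun U => ?_
    have := Groth.Agent.RelProjTN.domQ_inf ι hz.graded hPC U.1 U.2
    rw [← Groth.Agent.RelProjTN.domOpen_gradedHomAt] at this
    rw [← this]
    exact inf_le_left
  · intro x hx
    obtain ⟨_, ⟨U, hU : IsAffineOpen U, rfl⟩, hxU, -⟩ :=
      (Y.isBasis_affineOpens).exists_subset_of_mem_open (Set.mem_univ (pC.base x)) isOpen_univ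
    have hxU' : x ∈ pC ⁻¹ᵁ U := hxU
    have hmem : x ∈ RelProj.domQ (RelProj.QGrHom.ofHom ι hz.graded) pC chartC ⊓ pC ⁻¹ᵁ U :=
      ⟨hx, hxU'⟩
    rw [Groth.Agent.RelProjTN.domQ_inf ι hz.graded hPC U hU,
      ← Groth.Agent.RelProjTN.domOpen_gradedHomAt] at hmem
    exact Opens.mem_iSup.mpr ⟨⟨U, hU⟩, hmem⟩

theorem pointedProjCone_inf (hPC : RelProj.IsRelProj 𝒮h pC chartC) (U : Y.Opens)
    (hU : IsAffineOpen U) :
    RelCone.pointedProjCone 𝒮 hz pC chartC ⊓ pC ⁻¹ᵁ U =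
      RelProj.emb pC chartC U hU ''ᵁ RelCone.domOpen (RelProj.gradedHomAt ι hz.graded U hU) := by
  rw [pointedProjCone_eq_domQ hz hPC, Groth.Agent.RelProjTN.domQ_inf ι hz.graded hPC U hU,
    ← Groth.Agent.RelProjTN.domOpen_gradedHomAt]

end

end Groth.Agent.ConeImm
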