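import Mathlib
import Groth.Agent.Lib.RelProjTN1_helper5

/-!
# Pointwise description of `Proj` chart maps  (helper5)
-/

set_option autoImplicit false
universe u
open AlgebraicGeometry CategoryTheory HomogeneousLocalization

namespace Groth.Agent.ConeRetr

open Groth.Agent.RelProjTN

section Abs
variable {A B σ τ : Type u} [CommRing A] [SetLike σ A] [AddSubgroupClass σ A] [CommRing B]
  [SetLike τ B] [AddSubgroupClass τ B] {𝒜 : ℕ → σ} [GradedRing 𝒜] {ℬ : ℕ → τ} [GradedRing ℬ]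
  (ψ : 𝒜 →+*ᵍ ℬ)

/-- Membership in basic opens is transported by the chart maps `Spec (𝒜_(f₂) → ℬ_(ψ f₂))`. -/
theorem awayι_map_mem_basicOpen_iff {d₂ : ℕ} (hd₂ : 0 < d₂) {f₂ : A} (hf₂ : f₂ ∈ 𝒜 d₂) {d : ℕ}
    (hd : 0 < d) {f : A} (hf : f ∈ 𝒜 d) (y' : Spec (CommRingCat.of (Away ℬ (ψ f₂)))) :
    (Proj.awayι 𝒜 f₂ hf₂ hd₂).base ((Spec.map (CommRingCat.ofHom (Away.map ψ f₂))).base y') ∈
        Proj.basicOpen 𝒜 f ↔
      (Proj.awayι ℬ (ψ f₂) (ψ.map_mem hf₂) hd₂).base y' ∈ Proj.basicOpen ℬ (ψ f) := by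
  have key := Proj.awayι_preimage_basicOpen ℬ (ψ.map_mem hf₂) hd₂ (ψ.map_mem hf) hd
  have key𝒜 := Proj.awayι_preimage_basicOpen 𝒜 hf₂ hd₂ hf hd
  have e1 : (Spec.map (CommRingCat.ofHom (Away.map ψ f₂))).base y' ∈
        Proj.awayι 𝒜 f₂ hf₂ hd₂ ⁻¹ᵁ Proj.basicOpen 𝒜 f ↔
      (Spec.map (CommRingCat.ofHom (Away.map ψ f₂))).base y' ∈
        PrimeSpectrum.basicOpen (Away.isLocalizationElem hf₂ hf) :=
    (congrArg (fun O => (Spec.map (CommRingCat.ofHom (Away.map ψ f₂))).base y' ∈ O) key𝒜).to_iff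
  have e2 : y' ∈ Proj.awayι ℬ (ψ f₂) (ψ.map_mem hf₂) hd₂ ⁻¹ᵁ Proj.basicOpen ℬ (ψ f) ↔
      y' ∈ PrimeSpectrum.basicOpen (Away.isLocalizationElem (ψ.map_mem hf₂) (ψ.map_mem hf)) :=
    (congrArg (fun O => y' ∈ O) key).to_iff
  have e3 : (Spec.map (CommRingCat.ofHom (Away.map ψ f₂))).base y' ∈
        PrimeSpectrum.basicOpen (Away.isLocalizationElem hf₂ hf) ↔
      y' ∈ PrimeSpectrum.basicOpen (Away.map ψ f₂ (Away.isLocalizationElem hf₂ hf)) := Iff.rfl
  have e4 : y' ∈ PrimeSpectrum.basicOpen (Away.map ψ f₂ (Away.isLocalizationElem hf₂ hf)) ↔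
      y' ∈ PrimeSpectrum.basicOpen (Away.isLocalizationElem (ψ.map_mem hf₂) (ψ.map_mem hf)) := by
    rw [map_isLocalizationElem hf₂ hf]
  exact (e1.trans (e3.trans e4)).trans e2.symm

/-- Two points of `D_+(f)` with the same basic opens `D_+(a)`, `a` homogeneous of positive degree, are
equal. -/
theorem proj_ext_of_basicOpen {k : ℕ} (hk : 0 < k) {f : A} (hf : f ∈ 𝒜 k) (w w' : Proj 𝒜)
    (hw : w ∈ Proj.basicOpen 𝒜 f) (hw' : w' ∈ Proj.basicOpen 𝒜 f)
    (H : ∀ (m : ℕ) (_ : 0 < m) (a : A) (_ : a ∈ 𝒜 m),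
      (w' ∈ Proj.basicOpen 𝒜 a ↔ w ∈ Proj.basicOpen 𝒜 a)) : w' = w := by
  classical
  have hfw : f ∉ w.asHomogeneousIdeal := (Proj.mem_basicOpen 𝒜 f w).mp hw
  have hfw' : f ∉ w'.asHomogeneousIdeal := (Proj.mem_basicOpen 𝒜 f w').mp hw'
  have Hpos : ∀ (m : ℕ) (_ : 0 < m) (a : A) (_ : a ∈ 𝒜 m),
      (a ∈ w'.asHomogeneousIdeal ↔ a ∈ w.asHomogeneousIdeal) := by
    intro m hm a ha
    have := H m hm a ha
    rw [Proj.mem_basicOpen, Proj.mem_basicOpen] at this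
    exact not_iff_not.mp this
  have Hall : ∀ (m : ℕ) (a : A) (_ : a ∈ 𝒜 m),
      (a ∈ w'.asHomogeneousIdeal ↔ a ∈ w.asHomogeneousIdeal) := by
    intro m a ha
    by_cases hm : 0 < m
    · exact Hpos m hm a ha
    · have hm0 : m = 0 := by omega
      subst hm0
      have haf : a * f ∈ 𝒜 (0 + k) := SetLike.mul_mem_graded ha hf
      have h1 := Hpos (0 + k) (by omega) (a * f) haf
      constructor
      · intro h
        have := h1.mp (Ideal.mul_mem_right _ _ h)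
        exact (w.isPrime.mem_or_mem this).resolve_right hfw
      · intro h
        have := h1.mpr (Ideal.mul_mem_right _ _ h)
        exact (w'.isPrime.mem_or_mem this).resolve_right hfw'
  apply ProjectiveSpectrum.ext
  apply HomogeneousIdeal.toIdeal_injective
  ext a
  rw [w'.asHomogeneousIdeal.isHomogeneous.mem_iff, w.asHomogeneousIdeal.isHomogeneous.mem_iff]
  refine forall_congr' fun i => ?_
  exact Hall i _ (SetLike.coe_mem (DirectSum.decompose 𝒜 a i))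

/-- A point of `Proj` lies in `D_+(f)` for some homogeneous `f` of positive degree. -/
theorem exists_homogeneous_not_mem (w : Proj 𝒜) :
    ∃ (k : ℕ) (_ : 0 < k) (f : A) (_ : f ∈ 𝒜 k), w ∈ Proj.basicOpen 𝒜 f := by
  classical
  by_contra hcon
  push Not at hcon
  apply w.not_irrelevant_le
  intro a ha
  change a ∈ (HomogeneousIdeal.irrelevant 𝒜).toIdeal at ha
  show a ∈ w.asHomogeneousIdeal.toIdeal
  rw [← DirectSum.sum_support_decompose 𝒜 a]
  refine Ideal.sum_mem _ fun i _ => ?_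
  by_cases hi : i = 0
  · subst hi
    have h0 : (DirectSum.decompose 𝒜 a 0 : A) = 0 := (HomogeneousIdeal.mem_irrelevant_iff 𝒜 a).mp ha
    rw [h0]
    exact Ideal.zero_mem _
  · have := hcon i (Nat.pos_of_ne_zero hi) _ (SetLike.coe_mem (DirectSum.decompose 𝒜 a i))
    rw [Proj.mem_basicOpen] at this
    by_contra hmem
    exact this hmem

end Abs

end Groth.Agent.ConeRetr
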