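import Mathlib
import Groth.Agent.Lib.ConeImm1_helper5

/-!
# Tools for gluing the morphism `Proj(u)` on `G(u)`  (helper5)
-/

set_option autoImplicit false
universe u
open AlgebraicGeometry CategoryTheory CategoryTheory.Limits HomogeneousLocalization

namespace Groth.Agent.ProjQ

open Groth.Agent.ConeImm

/-- Gluing morphisms given on a family of open immersions which is stable under "common refinement at
every point". -/
theorem glue_of_refine {G P : Scheme.{u}} {J : Type u} (C : J → Scheme.{u}) (c : ∀ j, C j ⟶ G)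
    [∀ j, IsOpenImmersion (c j)] (m : ∀ j, C j ⟶ P)
    (hcov : ∀ x : G, ∃ j, x ∈ Set.range (c j).base)
    (href : ∀ (j₁ j₂ : J) (x : G), x ∈ Set.range (c j₁).base → x ∈ Set.range (c j₂).base →
      ∃ (j₃ : J) (τ₁ : C j₃ ⟶ C j₁) (τ₂ : C j₃ ⟶ C j₂), x ∈ Set.range (c j₃).base ∧
        τ₁ ≫ c j₁ = c j₃ ∧ τ₂ ≫ c j₂ = c j₃ ∧ τ₁ ≫ m j₁ = m j₃ ∧ τ₂ ≫ m j₂ = m j₃) :
    ∃ v : G ⟶ P, ∀ j, c j ≫ v = m j := by
  let 𝒰 : G.OpenCover :=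
    { I₀ := J, X := C, f := c,
      mem₀ := by
        rw [Scheme.presieve₀_mem_precoverage_iff]
        exact ⟨fun x => hcov x, inferInstance⟩ }
  have hcompat : ∀ j₁ j₂ : J, pullback.fst (c j₁) (c j₂) ≫ m j₁ = pullback.snd (c j₁) (c j₂) ≫ m j₂ := by
    intro j₁ j₂
    refine Groth.Agent.RelProjTN.hom_ext_of_charts _ _ (fun w => ?_)
    have hx₁ : (pullback.fst (c j₁) (c j₂) ≫ c j₁).base w ∈ Set.range (c j₁).base :=
      ⟨(pullback.fst (c j₁) (c j₂)).base w, rfl⟩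
    have hx₂ : (pullback.fst (c j₁) (c j₂) ≫ c j₁).base w ∈ Set.range (c j₂).base := by
      rw [pullback.condition]
      exact ⟨(pullback.snd (c j₁) (c j₂)).base w, rfl⟩
    obtain ⟨j₃, τ₁, τ₂, ⟨t, ht⟩, h₁, h₂, hm₁, hm₂⟩ := href j₁ j₂ _ hx₁ hx₂
    let γ : C j₃ ⟶ pullback (c j₁) (c j₂) := pullback.lift τ₁ τ₂ (by rw [h₁, h₂])
    have hγ₁ : γ ≫ pullback.fst (c j₁) (c j₂) = τ₁ := pullback.lift_fst _ _ _
    have hγ₂ : γ ≫ pullback.snd (c j₁) (c j₂) = τ₂ := pullback.lift_snd _ _ _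
    haveI : IsOpenImmersion τ₁ := by
      haveI : IsOpenImmersion (τ₁ ≫ c j₁) := by rw [h₁]; infer_instance
      exact IsOpenImmersion.of_comp τ₁ (c j₁)
    haveI : IsOpenImmersion γ := by
      haveI : IsOpenImmersion (γ ≫ pullback.fst (c j₁) (c j₂)) := by rw [hγ₁]; infer_instance
      exact IsOpenImmersion.of_comp γ (pullback.fst (c j₁) (c j₂))
    refine ⟨C j₃, γ, inferInstance, ⟨t, ?_⟩, ?_⟩
    · apply (pullback.fst (c j₁) (c j₂) ≫ c j₁).isOpenEmbedding.injective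
      rw [← ht]
      have : γ ≫ pullback.fst (c j₁) (c j₂) ≫ c j₁ = c j₃ := by rw [← Category.assoc, hγ₁, h₁]
      exact congrArg (fun q => q.base t) this
    · rw [← Category.assoc, ← Category.assoc, hγ₁, hγ₂, hm₁, hm₂]
  exact ⟨𝒰.glueMorphisms m hcompat, fun j => 𝒰.ι_glueMorphisms m hcompat j⟩

/-- A common basic open inside two affine opens and a given open neighbourhood. -/
theorem exists_common_basic {X : Scheme.{u}} {U₁ U₂ : X.Opens} (h₁ : IsAffineOpen U₁)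
    (h₂ : IsAffineOpen U₂) (O : X.Opens) (x : X) (hx₁ : x ∈ U₁) (hx₂ : x ∈ U₂) (hxO : x ∈ O) :
    ∃ (a₁ : Γ(X, U₁)) (a₂ : Γ(X, U₂)), X.basicOpen a₁ = X.basicOpen a₂ ∧ x ∈ X.basicOpen a₁ ∧
      X.basicOpen a₁ ≤ O := by
  obtain ⟨f, hf₁, hf₂⟩ := h₁.exists_basicOpen_le (V := U₂ ⊓ O) ⟨x, hx₂, hxO⟩ hx₁
  obtain ⟨g, hg₁, hg₂⟩ := h₂.exists_basicOpen_le (V := X.basicOpen f) ⟨x, hf₂⟩ hx₂
  obtain ⟨f', hf'⟩ := h₁.basicOpen_basicOpen_is_basicOpen f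
    (X.presheaf.map (homOfLE (hf₁.trans inf_le_left) : _ ⟶ U₂).op g)
  replace hf' := (hf'.trans (RingedSpace.basicOpen_res _ _ _)).trans (inf_eq_right.mpr hg₁)
  exact ⟨f', g, hf', hf'.symm ▸ hg₂, hf'.le.trans (hg₁.trans (hf₁.trans inf_le_right))⟩

section Alg
variable {A B A₁ B₁ σ τ σ₁ τ₁ : Type u} [CommRing A] [SetLike σ A] [AddSubgroupClass σ A]
  [CommRing B] [SetLike τ B] [AddSubgroupClass τ B]
  [CommRing A₁] [SetLike σ₁ A₁] [AddSubgroupClass σ₁ A₁]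
  [CommRing B₁] [SetLike τ₁ B₁] [AddSubgroupClass τ₁ B₁]
  {𝒜 : ℕ → σ} [GradedRing 𝒜] {ℬ : ℕ → τ} [GradedRing ℬ]
  {𝒜₁ : ℕ → σ₁} [GradedRing 𝒜₁] {ℬ₁ : ℕ → τ₁} [GradedRing ℬ₁]

/-- Compatibility of `Away.map` with multiplication of the denominator. -/
theorem awayMap_comp_map (ψ : 𝒜 →+*ᵍ ℬ) {d e : ℕ} {f k h : A} (hf : f ∈ 𝒜 d) (hk : k ∈ 𝒜 e)
    (hh : h = f * k) (hx : ψ h = ψ f * ψ k) :
    (awayMap ℬ (ψ.map_mem hk) hx).comp (Away.map ψ f) =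
      (Away.map ψ h).comp (awayMap 𝒜 hk hh) := by
  ext x
  obtain ⟨n, a, ha, rfl⟩ := Away.mk_surjective 𝒜 hf x
  simp only [RingHom.comp_apply]
  rw [Away.map_mk, awayMap_mk, awayMap_mk, Away.map_mk]
  simp only [map_mul, map_pow]
  rfl

/-- Compatibility of `Away.map` with a commutative square of graded homomorphisms. -/
theorem awayMapTo_comp_map (ψ : 𝒜 →+*ᵍ ℬ) (ρ : 𝒜 →+*ᵍ 𝒜₁) (s : ℬ →+*ᵍ ℬ₁) (ψ₁ : 𝒜₁ →+*ᵍ ℬ₁)
    (hsq : ∀ a, ψ₁ (ρ a) = s (ψ a)) {d : ℕ} {f : A} (hf : f ∈ 𝒜 d) (f₁ : A₁) (hf₁ : ρ f = f₁)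
    (h : s (ψ f) = ψ₁ f₁) :
    (awayMapTo s (ψ f) (ψ₁ f₁) h).comp (Away.map ψ f) =
      (Away.map ψ₁ f₁).comp (awayMapTo ρ f f₁ hf₁) := by
  subst hf₁
  ext x
  obtain ⟨n, a, ha, rfl⟩ := Away.mk_surjective 𝒜 hf x
  simp only [RingHom.comp_apply]
  rw [Away.map_mk, awayMapTo_mk s (ψ f) (ψ₁ (ρ f)) h (ψ.map_mem hf) (ψ₁.map_mem (ρ.map_mem hf)),
    awayMapTo_mk ρ f (ρ f) rfl hf (ρ.map_mem hf), Away.map_mk]
  simp only [hsq]

end Alg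

end Groth.Agent.ProjQ
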