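import Mathlib
import Groth.Prelude.Def_RelProj4
import Groth.Agent.Lib.ProjQ1_helper5
import Groth.Agent.Lib.RelProjTN4_helper5

/-!
# Refinement of the standard charts of `G(u)`  (helper5)
-/

set_option autoImplicit false
universe u
open AlgebraicGeometry CategoryTheory CategoryTheory.Limits HomogeneousLocalization Opposite TopologicalSpace
open scoped HomogeneousIdeal

noncomputable section

namespace Groth.Agent.ProjQ

open Groth.Agent.ConeImm RelProj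

section
variable {Y Y' P P' : Scheme.{u}} {g : Y' ⟶ Y} {𝒮 : RelProj.QCGrAlg Y} {𝒮' : RelProj.QCGrAlg Y'}
  (u : RelProj.QGrHom g 𝒮 𝒮')
  (p : P ⟶ Y)
  (chart : ∀ (U : Y.Opens) (hU : IsAffineOpen U), (((p ⁻¹ᵁ U : P.Opens) : Scheme.{u}) ≅ Proj (𝒮.deg U hU)))
  (p' : P' ⟶ Y')
  (chart' : ∀ (U : Y'.Opens) (hU : IsAffineOpen U),
    (((p' ⁻¹ᵁ U : P'.Opens) : Scheme.{u}) ≅ Proj (𝒮'.deg U hU)))

/-- The chart map `Spec 𝒮'(U')_(u f) ⟶ Spec 𝒮(U)_(f) ⟶ Proj 𝒮(U) ⟶ P`. -/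
def chartMap (U : Y.Opens) (hU : IsAffineOpen U) (U' : Y'.Opens) (hU' : IsAffineOpen U')
    (hle : U' ≤ g ⁻¹ᵁ U) {d : ℕ} (hd : 0 < d) (f : 𝒮.presheaf.obj (op U)) (hf : f ∈ 𝒮.deg U hU d) :
    Spec (CommRingCat.of (Away (𝒮'.deg U' hU') (u.gradedAt U hU U' hU' hle f))) ⟶ P :=
  Spec.map (CommRingCat.ofHom (Away.map (u.gradedAt U hU U' hU' hle) f)) ≫
    Proj.awayι (𝒮.deg U hU) f hf hd ≫ RelProj.emb p chart U hU

variable {p chart p' chart'}

/-- The square of restrictions and `u` commutes. -/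
theorem gradedAt_res {U V : Y.Opens} (hU : IsAffineOpen U) (hV : IsAffineOpen V) (hVU : V ≤ U)
    {U' V' : Y'.Opens} (hU' : IsAffineOpen U') (hV' : IsAffineOpen V') (hVU' : V' ≤ U')
    (hle : U' ≤ g ⁻¹ᵁ U) (hleV : V' ≤ g ⁻¹ᵁ V) (a : 𝒮.presheaf.obj (op U)) :
    u.gradedAt V hV V' hV' hleV (𝒮.res hU hV hVU a) =
      𝒮'.res hU' hV' hVU' (u.gradedAt U hU U' hU' hle a) := by
  have h1 := congrArg (fun m => m.hom a) (u.toQHom.map_appLE hVU hleV)
  have h2 := congrArg (fun m => m.hom a) (u.toQHom.appLE_map hle hVU')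
  simp only [CommRingCat.hom_comp, RingHom.comp_apply] at h1 h2
  exact h1.trans h2.symm

section mult
variable (U : Y.Opens) (hU : IsAffineOpen U) (U' : Y'.Opens) (hU' : IsAffineOpen U')
  (hle : U' ≤ g ⁻¹ᵁ U) {d e : ℕ} (hd : 0 < d) {f k : 𝒮.presheaf.obj (op U)}
  (hf : f ∈ 𝒮.deg U hU d) (hk : k ∈ 𝒮.deg U hU e)

/-- The transition map for multiplying the denominator by `k`. -/
def tauMul : Spec (CommRingCat.of (Away (𝒮'.deg U' hU') (u.gradedAt U hU U' hU' hle (f * k)))) ⟶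
    Spec (CommRingCat.of (Away (𝒮'.deg U' hU') (u.gradedAt U hU U' hU' hle f))) :=
  Spec.map (CommRingCat.ofHom (awayMap (𝒮'.deg U' hU') ((u.gradedAt U hU U' hU' hle).map_mem hk)
    (map_mul (u.gradedAt U hU U' hU' hle) f k)))

theorem tauMul_awayEmb :
    tauMul u U hU U' hU' hle hk ≫ RelProj.awayEmb u p' chart' U hU U' hU' hle hd f hf =
      RelProj.awayEmb u p' chart' U hU U' hU' hle (Nat.add_pos_left hd e) (f * k)
        (SetLike.mul_mem_graded hf hk) := by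
  unfold tauMul RelProj.awayEmb
  rw [← Category.assoc, Proj.SpecMap_awayMap_awayι]

theorem tauMul_chartMap :
    tauMul u U hU U' hU' hle hk ≫ chartMap u p chart U hU U' hU' hle hd f hf =
      chartMap u p chart U hU U' hU' hle (Nat.add_pos_left hd e) (f * k)
        (SetLike.mul_mem_graded hf hk) := by
  unfold tauMul chartMap
  rw [← Proj.SpecMap_awayMap_awayι (𝒜 := 𝒮.deg U hU) hf hd hk rfl]
  simp only [Category.assoc]
  rw [← Spec.map_comp_assoc, ← Spec.map_comp_assoc, ← CommRingCat.ofHom_comp, ← CommRingCat.ofHom_comp,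
    awayMap_comp_map (u.gradedAt U hU U' hU' hle) hf hk rfl]

end mult

section base
variable {U V : Y.Opens} (hU : IsAffineOpen U) (hV : IsAffineOpen V) (hVU : V ≤ U)
  {U' V' : Y'.Opens} (hU' : IsAffineOpen U') (hV' : IsAffineOpen V') (hVU' : V' ≤ U')
  (hle : U' ≤ g ⁻¹ᵁ U) (hleV : V' ≤ g ⁻¹ᵁ V) {d : ℕ} (hd : 0 < d) {f : 𝒮.presheaf.obj (op U)}
  (hf : f ∈ 𝒮.deg U hU d)

/-- The transition map for shrinking the affine pair. -/
def tauRes : Spec (CommRingCat.of (Away (𝒮'.deg V' hV')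
      (u.gradedAt V hV V' hV' hleV (𝒮.res hU hV hVU f)))) ⟶
    Spec (CommRingCat.of (Away (𝒮'.deg U' hU') (u.gradedAt U hU U' hU' hle f))) :=
  Spec.map (CommRingCat.ofHom (awayMapTo (𝒮'.res hU' hV' hVU') (u.gradedAt U hU U' hU' hle f)
    (u.gradedAt V hV V' hV' hleV (𝒮.res hU hV hVU f))
    (gradedAt_res u hU hV hVU hU' hV' hVU' hle hleV f).symm))

/-- Chart immersions are compatible with restriction to a basic open. -/
theorem map_res_emb' {P : Scheme.{u}} {𝒯 : RelProj.QCGrAlg Y} {p : P ⟶ Y}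
    {chart : ∀ (U : Y.Opens) (hU : IsAffineOpen U), (((p ⁻¹ᵁ U : P.Opens) : Scheme.{u}) ≅ Proj (𝒯.deg U hU))}
    (hP : RelProj.IsRelProj 𝒯 p chart) {U V : Y.Opens} (hU : IsAffineOpen U) (hV : IsAffineOpen V)
    (hVU : V ≤ U) (hbas : ∃ r : Γ(Y, U), V = Y.basicOpen r)
    (hirr : (𝒯.deg V hV)₊ ≤ ((𝒯.deg U hU)₊).map (𝒯.res hU hV hVU)) :
    Proj.map (𝒯.res hU hV hVU) hirr ≫ RelProj.emb p chart U hU = RelProj.emb p chart V hV := by
  obtain ⟨r, rfl⟩ := hbas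
  exact RelProj.map_res_emb hP U hU r

theorem irrelevant_le_map' (𝒯 : RelProj.QCGrAlg Y) {U V : Y.Opens} (hU : IsAffineOpen U)
    (hV : IsAffineOpen V) (hVU : V ≤ U) (hbas : ∃ r : Γ(Y, U), V = Y.basicOpen r) :
    (𝒯.deg V hV)₊ ≤ ((𝒯.deg U hU)₊).map (𝒯.res hU hV hVU) := by
  obtain ⟨r, rfl⟩ := hbas
  exact 𝒯.irrelevant_le_map U hU r

theorem tauRes_awayEmb (hP' : RelProj.IsRelProj 𝒮' p' chart')
    (hbas' : ∃ r : Γ(Y', U'), V' = Y'.basicOpen r) :
    tauRes u hU hV hVU hU' hV' hVU' hle hleV ≫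
        RelProj.awayEmb u p' chart' U hU U' hU' hle hd f hf =
      RelProj.awayEmb u p' chart' V hV V' hV' hleV hd (𝒮.res hU hV hVU f)
        ((𝒮.res hU hV hVU).map_mem hf) := by
  unfold tauRes RelProj.awayEmb
  rw [← map_res_emb' hP' hU' hV' hVU' hbas' (irrelevant_le_map' 𝒮' hU' hV' hVU' hbas'),
    ← Category.assoc, ← Category.assoc]
  congr 1
  exact (awayι_comp_map_to (𝒮'.res hU' hV' hVU') (irrelevant_le_map' 𝒮' hU' hV' hVU' hbas')
    (u.gradedAt U hU U' hU' hle f) (u.gradedAt V hV V' hV' hleV (𝒮.res hU hV hVU f))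
    (gradedAt_res u hU hV hVU hU' hV' hVU' hle hleV f).symm hd
    ((u.gradedAt U hU U' hU' hle).map_mem hf)
    ((u.gradedAt V hV V' hV' hleV).map_mem ((𝒮.res hU hV hVU).map_mem hf))).symm

theorem tauRes_chartMap (hP : RelProj.IsRelProj 𝒮 p chart)
    (hbas : ∃ r : Γ(Y, U), V = Y.basicOpen r) :
    tauRes u hU hV hVU hU' hV' hVU' hle hleV ≫ chartMap u p chart U hU U' hU' hle hd f hf =
      chartMap u p chart V hV V' hV' hleV hd (𝒮.res hU hV hVU f)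
        ((𝒮.res hU hV hVU).map_mem hf) := by
  unfold tauRes chartMap
  rw [← map_res_emb' hP hU hV hVU hbas (irrelevant_le_map' 𝒮 hU hV hVU hbas),
    awayι_comp_map_to_assoc (𝒮.res hU hV hVU) (irrelevant_le_map' 𝒮 hU hV hVU hbas) f
      (𝒮.res hU hV hVU f) rfl hd hf ((𝒮.res hU hV hVU).map_mem hf),
    ← Spec.map_comp_assoc, ← Spec.map_comp_assoc, ← CommRingCat.ofHom_comp, ← CommRingCat.ofHom_comp,
    awayMapTo_comp_map (u.gradedAt U hU U' hU' hle) (𝒮.res hU hV hVU) (𝒮'.res hU' hV' hVU')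
      (u.gradedAt V hV V' hV' hleV) (gradedAt_res u hU hV hVU hU' hV' hVU' hle hleV) hf
      (𝒮.res hU hV hVU f) rfl]

end base

end

end Groth.Agent.ProjQ
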