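import Mathlib
import Groth.Prelude.Def_RelProj4
import Groth.Agent.Lib.ProjQ2_helper5
import Groth.Agent.Lib.ProjMap_helper3

/-!
# Existence and uniqueness of `Proj(u) : G(u) ⟶ Proj(𝒮)` for a graded `g`-morphism `u`  (helper5)
-/

set_option autoImplicit false
universe u
open AlgebraicGeometry CategoryTheory CategoryTheory.Limits HomogeneousLocalization Opposite TopologicalSpace
open scoped HomogeneousIdeal

noncomputable section

namespace Groth.Agent.ProjQ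

open Groth.Agent.ConeImm Groth.Agent.RelProjTN RelProj

section
variable {Y Y' P P' : Scheme.{u}} {g : Y' ⟶ Y} {𝒮 : RelProj.QCGrAlg Y} {𝒮' : RelProj.QCGrAlg Y'}
  (u : RelProj.QGrHom g 𝒮 𝒮')
  (p : P ⟶ Y)
  (chart : ∀ (U : Y.Opens) (hU : IsAffineOpen U), (((p ⁻¹ᵁ U : P.Opens) : Scheme.{u}) ≅ Proj (𝒮.deg U hU)))
  (p' : P' ⟶ Y')
  (chart' : ∀ (U : Y'.Opens) (hU : IsAffineOpen U),
    (((p' ⁻¹ᵁ U : P'.Opens) : Scheme.{u}) ≅ Proj (𝒮'.deg U hU)))

/-- Generalised transition maps for multiplication, with a prescribed product. -/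
def tauMul' (U : Y.Opens) (hU : IsAffineOpen U) (U' : Y'.Opens) (hU' : IsAffineOpen U')
    (hle : U' ≤ g ⁻¹ᵁ U) {e : ℕ} {f k : 𝒮.presheaf.obj (op U)} (hk : k ∈ 𝒮.deg U hU e)
    (h : 𝒮.presheaf.obj (op U)) (hh : h = f * k) :
    Spec (CommRingCat.of (Away (𝒮'.deg U' hU') (u.gradedAt U hU U' hU' hle h))) ⟶
      Spec (CommRingCat.of (Away (𝒮'.deg U' hU') (u.gradedAt U hU U' hU' hle f))) :=
  Spec.map (CommRingCat.ofHom (awayMap (𝒮'.deg U' hU') ((u.gradedAt U hU U' hU' hle).map_mem hk)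
    (by rw [hh]; exact map_mul _ f k)))

variable {p chart p' chart'}

theorem tauMul'_awayEmb (U : Y.Opens) (hU : IsAffineOpen U) (U' : Y'.Opens) (hU' : IsAffineOpen U')
    (hle : U' ≤ g ⁻¹ᵁ U) {d e : ℕ} (hd : 0 < d) {f k : 𝒮.presheaf.obj (op U)}
    (hf : f ∈ 𝒮.deg U hU d) (hk : k ∈ 𝒮.deg U hU e) (h : 𝒮.presheaf.obj (op U)) (hh : h = f * k)
    {n : ℕ} (hn_eq : n = d + e) (hn : 0 < n) (hhm : h ∈ 𝒮.deg U hU n) :
    tauMul' u U hU U' hU' hle hk h hh ≫ RelProj.awayEmb u p' chart' U hU U' hU' hle hd f hf =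
      RelProj.awayEmb u p' chart' U hU U' hU' hle hn h hhm := by
  subst hh hn_eq
  exact tauMul_awayEmb u U hU U' hU' hle hd hf hk

theorem tauMul'_chartMap (U : Y.Opens) (hU : IsAffineOpen U) (U' : Y'.Opens) (hU' : IsAffineOpen U')
    (hle : U' ≤ g ⁻¹ᵁ U) {d e : ℕ} (hd : 0 < d) {f k : 𝒮.presheaf.obj (op U)}
    (hf : f ∈ 𝒮.deg U hU d) (hk : k ∈ 𝒮.deg U hU e) (h : 𝒮.presheaf.obj (op U)) (hh : h = f * k)
    {n : ℕ} (hn_eq : n = d + e) (hn : 0 < n) (hhm : h ∈ 𝒮.deg U hU n) :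
    tauMul' u U hU U' hU' hle hk h hh ≫ chartMap u p chart U hU U' hU' hle hd f hf =
      chartMap u p chart U hU U' hU' hle hn h hhm := by
  subst hh hn_eq
  exact tauMul_chartMap u U hU U' hU' hle hd hf hk

variable (g 𝒮) in
/-- The index type of the standard charts of `G(u)`. -/
structure Idx : Type u where
  U : Y.Opens
  hU : IsAffineOpen U
  U' : Y'.Opens
  hU' : IsAffineOpen U'
  hle : U' ≤ g ⁻¹ᵁ U
  d : ℕ
  hd : 0 < d
  f : 𝒮.presheaf.obj (op U)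
  hf : f ∈ 𝒮.deg U hU d

variable (p chart p' chart')

/-- The source of a standard chart. -/
abbrev C (j : Idx g 𝒮) : Scheme.{u} :=
  Spec (CommRingCat.of (Away (𝒮'.deg j.U' j.hU') (u.gradedAt j.U j.hU j.U' j.hU' j.hle j.f)))

/-- The standard chart, into `P'`. -/
abbrev cP (j : Idx g 𝒮) : C u j ⟶ P' :=
  RelProj.awayEmb u p' chart' j.U j.hU j.U' j.hU' j.hle j.hd j.f j.hf

/-- The standard chart, into `G(u)`. -/
def c (j : Idx g 𝒮) : C u j ⟶ ((RelProj.domQ u p' chart' : P'.Opens) : Scheme.{u}) :=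
  IsOpenImmersion.lift (RelProj.domQ u p' chart').ι (cP u p' chart' j)
    (RelProj.range_awayEmb_subset_domQ u p' chart' j.U j.hU j.U' j.hU' j.hle j.hd j.f j.hf)

theorem c_ι (j : Idx g 𝒮) : c u p' chart' j ≫ (RelProj.domQ u p' chart').ι = cP u p' chart' j :=
  IsOpenImmersion.lift_fac _ _ _

instance (j : Idx g 𝒮) : IsOpenImmersion (cP u p' chart' j) := by
  unfold cP RelProj.awayEmb RelProj.emb
  infer_instance

instance (j : Idx g 𝒮) : IsOpenImmersion (c u p' chart' j) := by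
  haveI : IsOpenImmersion (c u p' chart' j ≫ (RelProj.domQ u p' chart').ι) := by
    rw [c_ι]; infer_instance
  exact IsOpenImmersion.of_comp _ (RelProj.domQ u p' chart').ι

/-- The chart map on a standard chart. -/
abbrev m (j : Idx g 𝒮) : C u j ⟶ P :=
  chartMap u p chart j.U j.hU j.U' j.hU' j.hle j.hd j.f j.hf

variable {p chart p' chart'}

theorem c_apply (j : Idx g 𝒮) (y : C u j) :
    ((c u p' chart' j).base y).1 = (cP u p' chart' j).base y :=
  congrArg (fun q => q.base y) (c_ι u p' chart' j)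

theorem cP_apply (j : Idx g 𝒮) (y : C u j) :
    (cP u p' chart' j).base y = (RelProj.emb p' chart' j.U' j.hU').base
      ((Proj.awayι (𝒮'.deg j.U' j.hU') (u.gradedAt j.U j.hU j.U' j.hU' j.hle j.f)
        ((u.gradedAt j.U j.hU j.U' j.hU' j.hle).map_mem j.hf) j.hd).base y) := by
  unfold cP RelProj.awayEmb
  rw [Scheme.Hom.comp_base, TopCat.coe_comp, Function.comp_apply]

/-- A point in the range of a standard chart, in terms of the chart over `U'`. -/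
theorem mem_range_cP_iff (j : Idx g 𝒮) (x : P') (hx : x ∈ p' ⁻¹ᵁ j.U') :
    x ∈ Set.range (cP u p' chart' j).base ↔
      zpt p' chart' j.U' j.hU' x hx ∈
        Proj.basicOpen (𝒮'.deg j.U' j.hU') (u.gradedAt j.U j.hU j.U' j.hU' j.hle j.f) := by
  have key := Proj.opensRange_awayι (𝒮'.deg j.U' j.hU') _
    ((u.gradedAt j.U j.hU j.U' j.hU' j.hle).map_mem j.hf) j.hd
  refine Iff.trans ?_ (Eq.to_iff (congrArg (fun O => zpt p' chart' j.U' j.hU' x hx ∈ O) key))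
  constructor
  · rintro ⟨y, hy⟩
    refine ⟨y, ?_⟩
    apply (RelProj.emb p' chart' j.U' j.hU').isOpenEmbedding.injective
    rw [emb_zpt, ← hy, cP_apply]
    rfl
  · rintro ⟨y, hy⟩
    refine ⟨y, ?_⟩
    rw [cP_apply]
    refine (congrArg (RelProj.emb p' chart' j.U' j.hU').base hy).trans ?_
    exact emb_zpt j.U' j.hU' x hx

theorem range_cP_subset (j : Idx g 𝒮) (x : P') (hx : x ∈ Set.range (cP u p' chart' j).base) :
    x ∈ p' ⁻¹ᵁ j.U' := by
  obtain ⟨y, hy⟩ := hx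
  have h1 := cP_apply u (p' := p') (chart' := chart') j y
  rw [hy] at h1
  rw [h1]
  exact mem_of_emb j.U' j.hU' _

/-- The standard charts cover `G(u)`. -/
theorem c_cover (x : ((RelProj.domQ u p' chart' : P'.Opens) : Scheme.{u})) :
    ∃ j : Idx g 𝒮, x ∈ Set.range (c u p' chart' j).base := by
  obtain ⟨V, t, ht, htx⟩ := Opens.mem_iSup.mp x.2
  obtain ⟨d, hd, f, hf, htf⟩ := exists_homogeneous_of_mem_domOpen
    (u.gradedAt V.1.1.1 V.1.1.2 V.1.2.1 V.1.2.2 V.2) t ht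
  have key := Proj.opensRange_awayι (𝒮'.deg V.1.2.1 V.1.2.2) _
    ((u.gradedAt V.1.1.1 V.1.1.2 V.1.2.1 V.1.2.2 V.2).map_mem hf) hd
  have ht' : t ∈ (Proj.awayι (𝒮'.deg V.1.2.1 V.1.2.2) (u.gradedAt V.1.1.1 V.1.1.2 V.1.2.1 V.1.2.2 V.2 f)
      ((u.gradedAt V.1.1.1 V.1.1.2 V.1.2.1 V.1.2.2 V.2).map_mem hf) hd).opensRange :=
    key.ge htf
  obtain ⟨y, hy⟩ := ht'
  let j : Idx g 𝒮 := ⟨V.1.1.1, V.1.1.2, V.1.2.1, V.1.2.2, V.2, d, hd, f, hf⟩
  refine ⟨j, y, ?_⟩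
  apply (RelProj.domQ u p' chart').ι.isOpenEmbedding.injective
  refine (c_apply u j y).trans ?_
  refine (cP_apply u j y).trans ?_
  refine (congrArg (RelProj.emb p' chart' V.1.2.1 V.1.2.2).base hy).trans ?_
  exact htx

end

end Groth.Agent.ProjQ
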