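import Mathlib
import Groth.Prelude.Def_RelProj4
import Groth.Agent.Lib.ProjQ3_helper5

/-!
# Existence and uniqueness of `Proj(u) : G(u) ⟶ Proj(𝒮)`, continued  (helper5)
-/

set_option autoImplicit false
universe u
open AlgebraicGeometry CategoryTheory CategoryTheory.Limits HomogeneousLocalization Opposite TopologicalSpace
open scoped HomogeneousIdeal

noncomputable section

namespace Groth.Agent.ProjQ

open Groth.Agent.ConeImm Groth.Agent.RelProjTN RelProj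

section
variable {Y Y' P P' : Scheme.{u}} {g : Y' ⟶ Y} {𝒮 : RelProj.QCGrAlg Y} {𝒮' : RelProj.QCGrAlg Y'}
  (u : RelProj.QGrHom g 𝒮 𝒮')
  {p : P ⟶ Y}
  {chart : ∀ (U : Y.Opens) (hU : IsAffineOpen U), (((p ⁻¹ᵁ U : P.Opens) : Scheme.{u}) ≅ Proj (𝒮.deg U hU))}
  {p' : P' ⟶ Y'}
  {chart' : ∀ (U : Y'.Opens) (hU : IsAffineOpen U),
    (((p' ⁻¹ᵁ U : P'.Opens) : Scheme.{u}) ≅ Proj (𝒮'.deg U hU))}

theorem mem_range_c_of_cP (j : Idx g 𝒮) (x : ((RelProj.domQ u p' chart' : P'.Opens) : Scheme.{u}))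
    (hx : x.1 ∈ Set.range (cP u p' chart' j).base) : x ∈ Set.range (c u p' chart' j).base := by
  obtain ⟨y, hy⟩ := hx
  refine ⟨y, ?_⟩
  apply (RelProj.domQ u p' chart').ι.isOpenEmbedding.injective
  exact (c_apply u j y).trans hy

theorem mem_range_cP_of_c (j : Idx g 𝒮) (x : ((RelProj.domQ u p' chart' : P'.Opens) : Scheme.{u}))
    (hx : x ∈ Set.range (c u p' chart' j).base) : x.1 ∈ Set.range (cP u p' chart' j).base := by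
  obtain ⟨y, hy⟩ := hx
  exact ⟨y, (c_apply u j y).symm.trans (congrArg Subtype.val hy)⟩

theorem comp_c_eq (j j₃ : Idx g 𝒮) (τ : C u j₃ ⟶ C u j)
    (h : τ ≫ cP u p' chart' j = cP u p' chart' j₃) : τ ≫ c u p' chart' j = c u p' chart' j₃ := by
  rw [← cancel_mono (RelProj.domQ u p' chart').ι, Category.assoc, c_ι, c_ι, h]

/-- Two standard charts through a point have a common refinement through that point. -/
theorem c_refine (hP : RelProj.IsRelProj 𝒮 p chart) (hP' : RelProj.IsRelProj 𝒮' p' chart')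
    (j₁ j₂ : Idx g 𝒮) (x : ((RelProj.domQ u p' chart' : P'.Opens) : Scheme.{u}))
    (hx₁ : x ∈ Set.range (c u p' chart' j₁).base) (hx₂ : x ∈ Set.range (c u p' chart' j₂).base) :
    ∃ (j₃ : Idx g 𝒮) (τ₁ : C u j₃ ⟶ C u j₁) (τ₂ : C u j₃ ⟶ C u j₂),
      x ∈ Set.range (c u p' chart' j₃).base ∧
      τ₁ ≫ c u p' chart' j₁ = c u p' chart' j₃ ∧ τ₂ ≫ c u p' chart' j₂ = c u p' chart' j₃ ∧
      τ₁ ≫ m u p chart j₁ = m u p chart j₃ ∧ τ₂ ≫ m u p chart j₂ = m u p chart j₃ := by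
  have hx₁P := mem_range_cP_of_c u j₁ x hx₁
  have hx₂P := mem_range_cP_of_c u j₂ x hx₂
  have hxU₁' : x.1 ∈ p' ⁻¹ᵁ j₁.U' := range_cP_subset u j₁ x.1 hx₁P
  have hxU₂' : x.1 ∈ p' ⁻¹ᵁ j₂.U' := range_cP_subset u j₂ x.1 hx₂P
  have hy₁ : g.base (p'.base x.1) ∈ j₁.U := j₁.hle hxU₁'
  have hy₂ : g.base (p'.base x.1) ∈ j₂.U := j₂.hle hxU₂'
  obtain ⟨a₁, a₂, hW, hyW, -⟩ :=
    exists_common_basic j₁.hU j₂.hU ⊤ (g.base (p'.base x.1)) hy₁ hy₂ trivial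
  obtain ⟨b₁, b₂, hW', hyW', hW'le⟩ :=
    exists_common_basic j₁.hU' j₂.hU' (g ⁻¹ᵁ (Y.basicOpen a₁)) (p'.base x.1) hxU₁' hxU₂' hyW
  obtain ⟨W, hW₁, hW₂⟩ : ∃ W : Y.Opens, W = Y.basicOpen a₁ ∧ W = Y.basicOpen a₂ := ⟨_, rfl, hW⟩
  obtain ⟨W', hW'₁, hW'₂⟩ : ∃ W' : Y'.Opens, W' = Y'.basicOpen b₁ ∧ W' = Y'.basicOpen b₂ :=
    ⟨_, rfl, hW'⟩
  have hWaff : IsAffineOpen W := hW₁ ▸ j₁.hU.basicOpen a₁
  have hW'aff : IsAffineOpen W' := hW'₁ ▸ j₁.hU'.basicOpen b₁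
  have hWU₁ : W ≤ j₁.U := hW₁ ▸ Y.basicOpen_le a₁
  have hWU₂ : W ≤ j₂.U := hW₂ ▸ Y.basicOpen_le a₂
  have hW'U₁ : W' ≤ j₁.U' := hW'₁ ▸ Y'.basicOpen_le b₁
  have hW'U₂ : W' ≤ j₂.U' := hW'₂ ▸ Y'.basicOpen_le b₂
  have hleW : W' ≤ g ⁻¹ᵁ W := by rw [hW'₁, hW₁]; exact hW'le
  have hxW' : x.1 ∈ p' ⁻¹ᵁ W' := by rw [hW'₁]; exact hyW'
  have hF₁ : 𝒮.res j₁.hU hWaff hWU₁ j₁.f ∈ 𝒮.deg W hWaff j₁.d := (𝒮.res j₁.hU hWaff hWU₁).map_mem j₁.hf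
  have hF₂ : 𝒮.res j₂.hU hWaff hWU₂ j₂.f ∈ 𝒮.deg W hWaff j₂.d := (𝒮.res j₂.hU hWaff hWU₂).map_mem j₂.hf
  let j₃ : Idx g 𝒮 := ⟨W, hWaff, W', hW'aff, hleW, j₁.d + j₂.d, Nat.add_pos_left j₁.hd _,
    𝒮.res j₁.hU hWaff hWU₁ j₁.f * 𝒮.res j₂.hU hWaff hWU₂ j₂.f, SetLike.mul_mem_graded hF₁ hF₂⟩
  let τ₁ : C u j₃ ⟶ C u j₁ :=
    tauMul' u W hWaff W' hW'aff hleW hF₂ (𝒮.res j₁.hU hWaff hWU₁ j₁.f * 𝒮.res j₂.hU hWaff hWU₂ j₂.f) rfl ≫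
      tauRes u j₁.hU hWaff hWU₁ j₁.hU' hW'aff hW'U₁ j₁.hle hleW
  let τ₂ : C u j₃ ⟶ C u j₂ :=
    tauMul' u W hWaff W' hW'aff hleW hF₁ (𝒮.res j₁.hU hWaff hWU₁ j₁.f * 𝒮.res j₂.hU hWaff hWU₂ j₂.f)
        (mul_comm _ _) ≫
      tauRes u j₂.hU hWaff hWU₂ j₂.hU' hW'aff hW'U₂ j₂.hle hleW
  have e₁ : τ₁ ≫ cP u p' chart' j₁ = cP u p' chart' j₃ := by
    simp only [τ₁, Category.assoc]
    rw [tauRes_awayEmb u j₁.hU hWaff hWU₁ j₁.hU' hW'aff hW'U₁ j₁.hle hleW j₁.hd j₁.hf hP' ⟨b₁, hW'₁⟩]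
    exact tauMul'_awayEmb u W hWaff W' hW'aff hleW j₁.hd hF₁ hF₂ _ rfl rfl _ _
  have e₂ : τ₂ ≫ cP u p' chart' j₂ = cP u p' chart' j₃ := by
    simp only [τ₂, Category.assoc]
    rw [tauRes_awayEmb u j₂.hU hWaff hWU₂ j₂.hU' hW'aff hW'U₂ j₂.hle hleW j₂.hd j₂.hf hP' ⟨b₂, hW'₂⟩]
    exact tauMul'_awayEmb u W hWaff W' hW'aff hleW j₂.hd hF₂ hF₁ _ (mul_comm _ _) (add_comm _ _) _ _
  have f₁ : τ₁ ≫ m u p chart j₁ = m u p chart j₃ := by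
    simp only [τ₁, Category.assoc]
    rw [tauRes_chartMap u j₁.hU hWaff hWU₁ j₁.hU' hW'aff hW'U₁ j₁.hle hleW j₁.hd j₁.hf hP ⟨a₁, hW₁⟩]
    exact tauMul'_chartMap u W hWaff W' hW'aff hleW j₁.hd hF₁ hF₂ _ rfl rfl _ _
  have f₂ : τ₂ ≫ m u p chart j₂ = m u p chart j₃ := by
    simp only [τ₂, Category.assoc]
    rw [tauRes_chartMap u j₂.hU hWaff hWU₂ j₂.hU' hW'aff hW'U₂ j₂.hle hleW j₂.hd j₂.hf hP ⟨a₂, hW₂⟩]
    exact tauMul'_chartMap u W hWaff W' hW'aff hleW j₂.hd hF₂ hF₁ _ (mul_comm _ _) (add_comm _ _) _ _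
  refine ⟨j₃, τ₁, τ₂, ?_, comp_c_eq u j₁ j₃ τ₁ e₁, comp_c_eq u j₂ j₃ τ₂ e₂, f₁, f₂⟩
  apply mem_range_c_of_cP
  rw [mem_range_cP_iff u j₃ x.1 hxW']
  have hmul : u.gradedAt W hWaff W' hW'aff hleW
      (𝒮.res j₁.hU hWaff hWU₁ j₁.f * 𝒮.res j₂.hU hWaff hWU₂ j₂.f) =
      𝒮'.res j₁.hU' hW'aff hW'U₁ (u.gradedAt j₁.U j₁.hU j₁.U' j₁.hU' j₁.hle j₁.f) *
        𝒮'.res j₂.hU' hW'aff hW'U₂ (u.gradedAt j₂.U j₂.hU j₂.U' j₂.hU' j₂.hle j₂.f) := by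
    rw [map_mul, gradedAt_res u j₁.hU hWaff hWU₁ j₁.hU' hW'aff hW'U₁ j₁.hle hleW,
      gradedAt_res u j₂.hU hWaff hWU₂ j₂.hU' hW'aff hW'U₂ j₂.hle hleW]
  show zpt p' chart' W' hW'aff x.1 hxW' ∈ Proj.basicOpen (𝒮'.deg W' hW'aff)
    (u.gradedAt W hWaff W' hW'aff hleW
      (𝒮.res j₁.hU hWaff hWU₁ j₁.f * 𝒮.res j₂.hU hWaff hWU₂ j₂.f))
  rw [hmul, Proj.basicOpen_mul]
  refine ⟨?_, ?_⟩
  · exact (mem_zpt_res' hP' j₁.U' j₁.hU' W' hW'aff hW'U₁ ⟨b₁, hW'₁⟩ x.1 hxW' _).mp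
      ((mem_range_cP_iff u j₁ x.1 hxU₁').mp hx₁P)
  · exact (mem_zpt_res' hP' j₂.U' j₂.hU' W' hW'aff hW'U₂ ⟨b₂, hW'₂⟩ x.1 hxW' _).mp
      ((mem_range_cP_iff u j₂ x.1 hxU₂').mp hx₂P)

/-- **Existence** of `Proj(u)` on `G(u)`. -/
theorem exists_projQMapOn (hP : RelProj.IsRelProj 𝒮 p chart) (hP' : RelProj.IsRelProj 𝒮' p' chart') :
    ∃ v : ((RelProj.domQ u p' chart' : P'.Opens) : Scheme.{u}) ⟶ P,
      RelProj.IsProjQMapOn u p chart p' chart' (RelProj.domQ u p' chart') v := by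
  obtain ⟨v, hv⟩ := glue_of_refine (C u) (c u p' chart') (m u p chart) (c_cover u)
    (c_refine u hP hP')
  refine ⟨v, ?_⟩
  intro U hU U' hU' hle d hd f hf hW
  exact hv ⟨U, hU, U', hU', hle, d, hd, f, hf⟩

/-- The chart equations, indexed by `Idx`. -/
theorem c_comp_of_isProjQMapOn (v : ((RelProj.domQ u p' chart' : P'.Opens) : Scheme.{u}) ⟶ P)
    (hv : RelProj.IsProjQMapOn u p chart p' chart' (RelProj.domQ u p' chart') v) (j : Idx g 𝒮) :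
    c u p' chart' j ≫ v = m u p chart j :=
  hv j.U j.hU j.U' j.hU' j.hle j.d j.hd j.f j.hf
    (RelProj.range_awayEmb_subset_domQ u p' chart' j.U j.hU j.U' j.hU' j.hle j.hd j.f j.hf)

/-- **Uniqueness** of `Proj(u)` on `G(u)`. -/
theorem projQMapOn_unique (v v' : ((RelProj.domQ u p' chart' : P'.Opens) : Scheme.{u}) ⟶ P)
    (hv : RelProj.IsProjQMapOn u p chart p' chart' (RelProj.domQ u p' chart') v)
    (hv' : RelProj.IsProjQMapOn u p chart p' chart' (RelProj.domQ u p' chart') v') : v = v' := by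
  refine hom_ext_of_charts _ _ (fun x => ?_)
  obtain ⟨j, hj⟩ := c_cover u x
  exact ⟨C u j, c u p' chart' j, inferInstance, hj,
    (c_comp_of_isProjQMapOn u v hv j).trans (c_comp_of_isProjQMapOn u v' hv' j).symm⟩

theorem strZero_gradedAt (U : Y.Opens) (hU : IsAffineOpen U) (U' : Y'.Opens) (hU' : IsAffineOpen U')
    (hle : U' ≤ g ⁻¹ᵁ U) :
    𝒮.strZero U hU ≫ CommRingCat.ofHom (u.gradedAt U hU U' hU' hle).gradedZeroRingHom =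
      g.appLE U U' hle ≫ 𝒮'.strZero U' hU' := by
  ext r
  have := congrArg (fun q => q.hom r) (u.toQHom.str_appLE U U' hle)
  simp only [CommRingCat.hom_comp, RingHom.comp_apply] at this
  exact this

/-- Both sides of the chart equations lie over the same morphism to `Y`. -/
theorem chartMap_comp_p (hP : RelProj.IsRelProj 𝒮 p chart) (hP' : RelProj.IsRelProj 𝒮' p' chart')
    (j : Idx g 𝒮) : m u p chart j ≫ p = cP u p' chart' j ≫ p' ≫ g := by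
  unfold m chartMap cP RelProj.awayEmb
  simp only [Category.assoc]
  have h' : RelProj.emb p' chart' j.U' j.hU' ≫ p' ≫ g =
      Proj.toSpecZero (𝒮'.deg j.U' j.hU') ≫ Spec.map (𝒮'.strZero j.U' j.hU') ≫ j.hU'.fromSpec ≫ g := by
    rw [← Category.assoc, emb_comp hP']
    simp only [Category.assoc]
  rw [emb_comp hP, Proj.awayι_toSpecZero_assoc, h', Proj.awayι_toSpecZero_assoc,
    ← IsAffineOpen.SpecMap_appLE_fromSpec g j.hU j.hU' j.hle]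
  simp only [← Spec.map_comp_assoc, ← CommRingCat.ofHom_comp, Category.assoc]
  rw [Groth.Agent.Lib.ProjMap_helper3.away_map_comp_fromZero, CommRingCat.ofHom_comp,
    ← Category.assoc (𝒮.strZero j.U j.hU), strZero_gradedAt u j.U j.hU j.U' j.hU' j.hle, Category.assoc]

/-- `Proj(u)` lies over `g`. -/
theorem projQMapOn_comp_p (hP : RelProj.IsRelProj 𝒮 p chart) (hP' : RelProj.IsRelProj 𝒮' p' chart')
    (v : ((RelProj.domQ u p' chart' : P'.Opens) : Scheme.{u}) ⟶ P)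
    (hv : RelProj.IsProjQMapOn u p chart p' chart' (RelProj.domQ u p' chart') v) :
    v ≫ p = (RelProj.domQ u p' chart').ι ≫ p' ≫ g := by
  refine hom_ext_of_charts _ _ (fun x => ?_)
  obtain ⟨j, hj⟩ := c_cover u x
  refine ⟨C u j, c u p' chart' j, inferInstance, hj, ?_⟩
  rw [← Category.assoc, c_comp_of_isProjQMapOn u v hv j, chartMap_comp_p u hP hP' j,
    ← c_ι u p' chart' j, Category.assoc]

end

end Groth.Agent.ProjQ
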