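import Mathlib
import Groth.Prelude.Def_RelProj4
import Groth.Agent.Lib.ProjQ4_helper5
import Groth.Agent.Lib.ConeRetr1_helper5

/-!
# Pointwise description of `Proj(u)` on `G(u)` for a graded `g`-morphism `u`  (helper5)

* `key_q`: chart comparison for `G(u)` (general base morphism);
* `exists_idx_at`: a point of `G(u)` lies in a standard chart over any prescribed affine pair;
* `projQ_mem_preimage`, `projQ_mem_basicOpen_iff`: pointwise formula for `Proj(u)`.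
-/

set_option autoImplicit false
universe u
open AlgebraicGeometry CategoryTheory CategoryTheory.Limits HomogeneousLocalization Opposite TopologicalSpace
open scoped HomogeneousIdeal

noncomputable section

namespace Groth.Agent.ProjQ

open Groth.Agent.ConeImm Groth.Agent.RelProjTN RelProj

section
variable {Y Y' P P' : Scheme.{u}} {g : Y' ⟶ Y} {𝒮 : RelProj.QCGrAlg Y} {𝒮' : RelProj.QCGrAlg Y'}
  (u : RelProj.QGrHom g 𝒮 𝒮')
  {p : P ⟶ Y}
  {chart : ∀ (U : Y.Opens) (hU : IsAffineOpen U), (((p ⁻¹ᵁ U : P.Opens) : Scheme.{u}) ≅ Proj (𝒮.deg U hU))}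
  {p' : P' ⟶ Y'}
  {chart' : ∀ (U : Y'.Opens) (hU : IsAffineOpen U),
    (((p' ⁻¹ᵁ U : P'.Opens) : Scheme.{u}) ≅ Proj (𝒮'.deg U hU))}

/-- **Chart comparison** for `G(u)`: if `x` lies in `G(u)` as seen from the affine pair `(V, V')`, it
does as seen from any affine pair `(U, U')` with `x` over `U'`. -/
theorem key_q (hP' : RelProj.IsRelProj 𝒮' p' chart')
    (V : Y.Opens) (hV : IsAffineOpen V) (V' : Y'.Opens) (hV' : IsAffineOpen V') (hleV : V' ≤ g ⁻¹ᵁ V)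
    (U : Y.Opens) (hU : IsAffineOpen U) (U' : Y'.Opens) (hU' : IsAffineOpen U') (hle : U' ≤ g ⁻¹ᵁ U)
    (x : P') (hxV' : x ∈ p' ⁻¹ᵁ V') (hxU' : x ∈ p' ⁻¹ᵁ U')
    (hz : zpt p' chart' V' hV' x hxV' ∈ RelCone.domOpen (u.gradedAt V hV V' hV' hleV)) :
    zpt p' chart' U' hU' x hxU' ∈ RelCone.domOpen (u.gradedAt U hU U' hU' hle) := by
  classical
  obtain ⟨d, hd, f, hf, hzf⟩ := exists_homogeneous_of_mem_domOpen _ _ hz
  have hyU : g.base (p'.base x) ∈ U := hle hxU'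
  have hyV : g.base (p'.base x) ∈ V := hleV hxV'
  obtain ⟨a₁, a₂, hW, hyW, -⟩ :=
    exists_common_basic hU hV ⊤ (g.base (p'.base x)) hyU hyV trivial
  obtain ⟨b₁, b₂, hW', hyW', hW'le⟩ :=
    exists_common_basic hU' hV' (g ⁻¹ᵁ (Y.basicOpen a₁)) (p'.base x) hxU' hxV' hyW
  obtain ⟨W', hW'₁, hW'₂⟩ : ∃ W' : Y'.Opens, W' = Y'.basicOpen b₁ ∧ W' = Y'.basicOpen b₂ :=
    ⟨_, rfl, hW'⟩
  have hWaff : IsAffineOpen (Y.basicOpen a₁) := hU.basicOpen a₁
  have hW'aff : IsAffineOpen W' := hW'₁ ▸ hU'.basicOpen b₁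
  have hWU : Y.basicOpen a₁ ≤ U := Y.basicOpen_le a₁
  have hWV : Y.basicOpen a₁ ≤ V := hW ▸ Y.basicOpen_le a₂
  have hW'U : W' ≤ U' := hW'₁ ▸ Y'.basicOpen_le b₁
  have hW'V : W' ≤ V' := hW'₂ ▸ Y'.basicOpen_le b₂
  have hleW : W' ≤ g ⁻¹ᵁ (Y.basicOpen a₁) := by rw [hW'₁]; exact hW'le
  have hxW' : x ∈ p' ⁻¹ᵁ W' := by rw [hW'₁]; exact hyW'
  -- transport to `W'`
  have h3 := (mem_zpt_res' hP' V' hV' W' hW'aff hW'V ⟨b₂, hW'₂⟩ x hxW' _).mp hzf
  set fW := 𝒮.res hV hWaff hWV f with hfWdef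
  have hfW : fW ∈ 𝒮.deg (Y.basicOpen a₁) hWaff d := (𝒮.res hV hWaff hWV).map_mem hf
  have h3' : (𝒮'.presheaf.map (homOfLE hW'V).op).hom (u.gradedAt V hV V' hV' hleV f) =
      u.gradedAt (Y.basicOpen a₁) hWaff W' hW'aff hleW fW :=
    (gradedAt_res u hV hWaff hWV hV' hW'aff hW'V hleV hleW f).symm
  rw [h3'] at h3
  -- localization
  let ρ := 𝒮.res hU hWaff hWU
  let _inst := (𝒮.presheaf.map (homOfLE (Y.basicOpen_le a₁)).op).hom.toAlgebra
  let c := (𝒮.str.app (op U)).hom a₁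
  have hloc : IsLocalization.Away c (𝒮.presheaf.obj (op (Y.basicOpen a₁))) := 𝒮.isQC U hU a₁
  obtain ⟨⟨a, s, hs⟩, has⟩ := IsLocalization.surj (Submonoid.powers c) fW
  obtain ⟨k, rfl⟩ := (Submonoid.mem_powers_iff _ _).mp hs
  change fW * ρ (c ^ k) = ρ a at has
  have hc0 : ρ (c ^ k) ∈ 𝒮.deg (Y.basicOpen a₁) hWaff 0 := by
    rw [map_pow]
    exact SetLike.pow_mem_graded _ (ρ.map_mem (𝒮.str_mem U hU a₁))
  have hbi : fW * ρ (c ^ k) ∈ 𝒮.deg (Y.basicOpen a₁) hWaff d := by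
    simpa only [add_zero] using
      SetLike.mul_mem_graded (A := 𝒮.deg (Y.basicOpen a₁) hWaff) hfW hc0
  have hxi : ρ (DirectSum.decompose (𝒮.deg U hU) a d : 𝒮.presheaf.obj (op U)) =
      fW * ρ (c ^ k) := by
    rw [GradedRingHom.map_directSumDecompose, ← has, DirectSum.decompose_of_mem_same _ hbi]
  set ad : 𝒮.presheaf.obj (op U) := (DirectSum.decompose (𝒮.deg U hU) a d : 𝒮.presheaf.obj (op U))
    with hadef
  have had : ad ∈ 𝒮.deg U hU d := SetLike.coe_mem _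
  -- the unit
  have hu0 : IsUnit (ρ c) :=
    IsLocalization.map_units (M := Submonoid.powers c)
      (𝒮.presheaf.obj (op (Y.basicOpen a₁))) ⟨_, 1, pow_one _⟩
  have hu : IsUnit (u.gradedAt (Y.basicOpen a₁) hWaff W' hW'aff hleW (ρ c)) :=
    hu0.map (u.gradedAt (Y.basicOpen a₁) hWaff W' hW'aff hleW)
  have hφρ : u.gradedAt (Y.basicOpen a₁) hWaff W' hW'aff hleW (ρ ad) =
      u.gradedAt (Y.basicOpen a₁) hWaff W' hW'aff hleW fW *
        (u.gradedAt (Y.basicOpen a₁) hWaff W' hW'aff hleW (ρ c)) ^ k := by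
    rw [hxi, map_mul, map_pow, map_pow]
  have h5 : zpt p' chart' W' hW'aff x hxW' ∈
      Proj.basicOpen (𝒮'.deg W' hW'aff) (u.gradedAt (Y.basicOpen a₁) hWaff W' hW'aff hleW (ρ ad)) := by
    rw [hφρ]
    show _ ∉ (zpt p' chart' W' hW'aff x hxW').asHomogeneousIdeal
    intro hmem
    apply h3
    show _ ∈ (zpt p' chart' W' hW'aff x hxW').asHomogeneousIdeal
    obtain ⟨w, hw⟩ := (hu.pow k).exists_right_inv
    have := Ideal.mul_mem_right w _ hmem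
    rwa [mul_assoc, hw, mul_one] at this
  have h6 : u.gradedAt (Y.basicOpen a₁) hWaff W' hW'aff hleW (ρ ad) =
      (𝒮'.presheaf.map (homOfLE hW'U).op).hom (u.gradedAt U hU U' hU' hle ad) :=
    gradedAt_res u hU hWaff hWU hU' hW'aff hW'U hle hleW ad
  rw [h6] at h5
  have h7 := (mem_zpt_res' hP' U' hU' W' hW'aff hW'U ⟨b₁, hW'₁⟩ x hxW' _).mpr h5
  exact mem_domOpen_of_mem_basicOpen _ hd had _ h7

/-- A point of `G(u)` lies in `G(u_{U,U'})` for every affine pair `(U, U')` with the point over `U'`. -/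
theorem mem_domOpen_of_mem_domQ (hP' : RelProj.IsRelProj 𝒮' p' chart') (x : P')
    (hx : x ∈ RelProj.domQ u p' chart')
    (U : Y.Opens) (hU : IsAffineOpen U) (U' : Y'.Opens) (hU' : IsAffineOpen U') (hle : U' ≤ g ⁻¹ᵁ U)
    (hxU' : x ∈ p' ⁻¹ᵁ U') :
    zpt p' chart' U' hU' x hxU' ∈ RelCone.domOpen (u.gradedAt U hU U' hU' hle) := by
  obtain ⟨V, t, ht, htx⟩ := Opens.mem_iSup.mp hx
  have hxV' : x ∈ p' ⁻¹ᵁ V.1.2.1 := by
    rw [← htx]; exact mem_of_emb V.1.2.1 V.1.2.2 t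
  have hz : zpt p' chart' V.1.2.1 V.1.2.2 x hxV' ∈
      RelCone.domOpen (u.gradedAt V.1.1.1 V.1.1.2 V.1.2.1 V.1.2.2 V.2) := by
    have : zpt p' chart' V.1.2.1 V.1.2.2 x hxV' = t := by
      apply (RelProj.emb p' chart' V.1.2.1 V.1.2.2).isOpenEmbedding.injective
      rw [emb_zpt]; exact htx.symm
    rw [this]; exact ht
  exact key_q u hP' V.1.1.1 V.1.1.2 V.1.2.1 V.1.2.2 V.2 U hU U' hU' hle x hxV' hxU' hz

/-- The converse: membership in `G(u)` can be tested on any affine pair. -/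
theorem mem_domQ_of_mem_domOpen (x : P')
    (U : Y.Opens) (hU : IsAffineOpen U) (U' : Y'.Opens) (hU' : IsAffineOpen U') (hle : U' ≤ g ⁻¹ᵁ U)
    (hxU' : x ∈ p' ⁻¹ᵁ U')
    (h : zpt p' chart' U' hU' x hxU' ∈ RelCone.domOpen (u.gradedAt U hU U' hU' hle)) :
    x ∈ RelProj.domQ u p' chart' :=
  Opens.mem_iSup.mpr ⟨⟨(⟨U, hU⟩, ⟨U', hU'⟩), hle⟩, ⟨_, h, emb_zpt U' hU' x hxU'⟩⟩

/-- A point of `G(u)` lies in a standard chart over any prescribed affine pair. -/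
theorem exists_idx_at (hP' : RelProj.IsRelProj 𝒮' p' chart') (x : P')
    (hx : x ∈ RelProj.domQ u p' chart')
    (U : Y.Opens) (hU : IsAffineOpen U) (U' : Y'.Opens) (hU' : IsAffineOpen U') (hle : U' ≤ g ⁻¹ᵁ U)
    (hxU' : x ∈ p' ⁻¹ᵁ U') :
    ∃ (d : ℕ) (hd : 0 < d) (f : 𝒮.presheaf.obj (op U)) (hf : f ∈ 𝒮.deg U hU d),
      x ∈ Set.range (cP u p' chart' ⟨U, hU, U', hU', hle, d, hd, f, hf⟩).base := by
  obtain ⟨d, hd, f, hf, hzf⟩ := exists_homogeneous_of_mem_domOpen _ _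
    (mem_domOpen_of_mem_domQ u hP' x hx U hU U' hU' hle hxU')
  exact ⟨d, hd, f, hf,
    (mem_range_cP_iff u ⟨U, hU, U', hU', hle, d, hd, f, hf⟩ x hxU').mpr hzf⟩

end

section pointwise
variable {Y Y' P P' : Scheme.{u}} {g : Y' ⟶ Y} {𝒮 : RelProj.QCGrAlg Y} {𝒮' : RelProj.QCGrAlg Y'}
  (u : RelProj.QGrHom g 𝒮 𝒮')
  {p : P ⟶ Y}
  {chart : ∀ (U : Y.Opens) (hU : IsAffineOpen U), (((p ⁻¹ᵁ U : P.Opens) : Scheme.{u}) ≅ Proj (𝒮.deg U hU))}
  {p' : P' ⟶ Y'}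
  {chart' : ∀ (U : Y'.Opens) (hU : IsAffineOpen U),
    (((p' ⁻¹ᵁ U : P'.Opens) : Scheme.{u}) ≅ Proj (𝒮'.deg U hU))}

/-- `Proj(u)` maps the part of `G(u)` over `U'` into the part over `U`. -/
theorem projQ_mem_preimage (hP : RelProj.IsRelProj 𝒮 p chart) (hP' : RelProj.IsRelProj 𝒮' p' chart')
    (W : P'.Opens) (hW : W = RelProj.domQ u p' chart') (v : (W : Scheme.{u}) ⟶ P)
    (hv : RelProj.IsProjQMapOn u p chart p' chart' W v) (x : (W : Scheme.{u}))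
    (U : Y.Opens) (U' : Y'.Opens) (hle : U' ≤ g ⁻¹ᵁ U) (hxU' : x.1 ∈ p' ⁻¹ᵁ U') :
    v.base x ∈ p ⁻¹ᵁ U := by
  subst hW
  have h := congrArg (fun q => q.base x) (projQMapOn_comp_p u hP hP' v hv)
  have h' : p.base (v.base x) = g.base (p'.base x.1) := h
  show p.base (v.base x) ∈ U
  rw [h']
  exact hle hxU'

/-- The chart point of the image of a point of a standard chart. -/
theorem projQ_zpt (v : ((RelProj.domQ u p' chart' : P'.Opens) : Scheme.{u}) ⟶ P)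
    (hv : RelProj.IsProjQMapOn u p chart p' chart' (RelProj.domQ u p' chart') v)
    (j : Idx g 𝒮) (y : C u j) (hvx : v.base ((c u p' chart' j).base y) ∈ p ⁻¹ᵁ j.U) :
    zpt p chart j.U j.hU (v.base ((c u p' chart' j).base y)) hvx =
      (Proj.awayι (𝒮.deg j.U j.hU) j.f j.hf j.hd).base
        ((Spec.map (CommRingCat.ofHom (Away.map (u.gradedAt j.U j.hU j.U' j.hU' j.hle) j.f))).base y) := by
  apply (RelProj.emb p chart j.U j.hU).isOpenEmbedding.injective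
  rw [emb_zpt]
  exact congrArg (fun q => q.base y) (c_comp_of_isProjQMapOn u v hv j)

/-- **Pointwise formula** for `Proj(u)`: `Proj(u)(x) ∈ D_+(h)` iff `x ∈ D_+(u h)`, in the charts over an
affine pair. -/
theorem projQ_mem_basicOpen_iff (hP' : RelProj.IsRelProj 𝒮' p' chart')
    (W : P'.Opens) (hW : W = RelProj.domQ u p' chart') (v : (W : Scheme.{u}) ⟶ P)
    (hv : RelProj.IsProjQMapOn u p chart p' chart' W v) (x : (W : Scheme.{u}))
    (U : Y.Opens) (hU : IsAffineOpen U) (U' : Y'.Opens) (hU' : IsAffineOpen U') (hle : U' ≤ g ⁻¹ᵁ U)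
    (hxU' : x.1 ∈ p' ⁻¹ᵁ U') (hvx : v.base x ∈ p ⁻¹ᵁ U) {e : ℕ} (he : 0 < e)
    {h : 𝒮.presheaf.obj (op U)} (hh : h ∈ 𝒮.deg U hU e) :
    zpt p chart U hU (v.base x) hvx ∈ Proj.basicOpen (𝒮.deg U hU) h ↔
      zpt p' chart' U' hU' x.1 hxU' ∈
        Proj.basicOpen (𝒮'.deg U' hU') (u.gradedAt U hU U' hU' hle h) := by
  subst hW
  obtain ⟨d, hd, f, hf, y, hy⟩ := exists_idx_at u hP' x.1 x.2 U hU U' hU' hle hxU'
  have hcx : (c u p' chart' ⟨U, hU, U', hU', hle, d, hd, f, hf⟩).base y = x := by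
    apply (RelProj.domQ u p' chart').ι.isOpenEmbedding.injective
    exact (c_apply u _ y).trans hy
  subst hcx
  rw [projQ_zpt u v hv ⟨U, hU, U', hU', hle, d, hd, f, hf⟩ y hvx]
  refine (Groth.Agent.ConeRetr.awayι_map_mem_basicOpen_iff (u.gradedAt U hU U' hU' hle) hd hf he hh y).trans ?_
  have hz : zpt p' chart' U' hU'
      ((c u p' chart' ⟨U, hU, U', hU', hle, d, hd, f, hf⟩).base y).1 hxU' =
      (Proj.awayι (𝒮'.deg U' hU') (u.gradedAt U hU U' hU' hle f)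
        ((u.gradedAt U hU U' hU' hle).map_mem hf) hd).base y := by
    apply (RelProj.emb p' chart' U' hU').isOpenEmbedding.injective
    rw [emb_zpt]
    exact (c_apply u _ y).trans (cP_apply u _ y)
  rw [hz]

end pointwise

end Groth.Agent.ProjQ
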