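import Mathlib
import Groth.Prelude.Def_RelProj4
import Groth.Agent.Lib.ProjQ5_helper5
import Groth.Agent.Lib.ConeImm8_helper5

/-!
# Functoriality of projective cones for graded `q`-morphisms: pointed cones  (helper5)
-/

set_option autoImplicit false
universe u
open AlgebraicGeometry CategoryTheory CategoryTheory.Limits HomogeneousLocalization Opposite TopologicalSpace
open scoped HomogeneousIdeal

noncomputable section

namespace Groth.Agent.ConeFun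

open Groth.Agent.ConeImm Groth.Agent.RelProjTN Groth.Agent.ProjQ RelProj

section single
variable {Y PC : Scheme.{u}} {𝒮 𝒮h : RelProj.QCGrAlg Y}
  {ι : 𝒮.toQCAlg ⟶ 𝒮h.toQCAlg} {z : 𝒮h.presheaf.obj (op ⊤)} (hz : RelCone.IsPolyOver 𝒮 𝒮h ι z)
  {pC : PC ⟶ Y}
  {chartC : ∀ (U : Y.Opens) (hU : IsAffineOpen U),
    (((pC ⁻¹ᵁ U : PC.Opens) : Scheme.{u}) ≅ Proj (𝒮h.deg U hU))}

/-- Membership in the pointed projective cone, in the chart over an affine open. -/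
theorem mem_pointedProjCone_iff (hPC : RelProj.IsRelProj 𝒮h pC chartC) (U : Y.Opens)
    (hU : IsAffineOpen U) (x : PC) (hxU : x ∈ pC ⁻¹ᵁ U) :
    x ∈ RelCone.pointedProjCone 𝒮 hz pC chartC ↔
      zpt pC chartC U hU x hxU ∈ RelCone.domOpen (RelProj.gradedHomAt ι hz.graded U hU) := by
  constructor
  · intro hx
    have hmem : x ∈ RelCone.pointedProjCone 𝒮 hz pC chartC ⊓ pC ⁻¹ᵁ U := ⟨hx, hxU⟩
    rw [pointedProjCone_inf hz hPC U hU] at hmem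
    obtain ⟨w, hw, hwx⟩ := hmem
    have : zpt pC chartC U hU x hxU = w := by
      apply (RelProj.emb pC chartC U hU).isOpenEmbedding.injective
      rw [emb_zpt]; exact hwx.symm
    rw [this]; exact hw
  · intro h
    exact Opens.mem_iSup.mpr ⟨⟨U, hU⟩, ⟨_, h, emb_zpt U hU x hxU⟩⟩

end single

section
variable {Y Y' PC PC' : Scheme.{u}} {q : Y' ⟶ Y}
  {𝒮 : RelProj.QCGrAlg Y} {𝒮' : RelProj.QCGrAlg Y'} (u : RelProj.QGrHom q 𝒮 𝒮')
  {𝒮h : RelProj.QCGrAlg Y} {ι : 𝒮.toQCAlg ⟶ 𝒮h.toQCAlg} {z : 𝒮h.presheaf.obj (op ⊤)}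
  (hz : RelCone.IsPolyOver 𝒮 𝒮h ι z)
  {pC : PC ⟶ Y}
  {chartC : ∀ (U : Y.Opens) (hU : IsAffineOpen U),
    (((pC ⁻¹ᵁ U : PC.Opens) : Scheme.{u}) ≅ Proj (𝒮h.deg U hU))}
  {𝒮h' : RelProj.QCGrAlg Y'} {ι' : 𝒮'.toQCAlg ⟶ 𝒮h'.toQCAlg} {z' : 𝒮h'.presheaf.obj (op ⊤)}
  (hz' : RelCone.IsPolyOver 𝒮' 𝒮h' ι' z')
  {pC' : PC' ⟶ Y'}
  {chartC' : ∀ (U : Y'.Opens) (hU : IsAffineOpen U),
    (((pC' ⁻¹ᵁ U : PC'.Opens) : Scheme.{u}) ≅ Proj (𝒮h'.deg U hU))}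
  (uh : RelProj.QGrHom q 𝒮h 𝒮h')
  (huh : ∀ U : Y.Opens, ι.hom.app (op U) ≫ uh.app U = u.app U ≫ ι'.hom.app (op (q ⁻¹ᵁ U)))
  (huhz : (uh.app ⊤).hom z = RelCone.restrictTop 𝒮h' z' (q ⁻¹ᵁ ⊤))

include huh in
/-- `φ̂ ∘ ι = ι' ∘ φ` over affine pairs. -/
theorem uh_iota (U : Y.Opens) (hU : IsAffineOpen U) (U' : Y'.Opens) (hU' : IsAffineOpen U')
    (hle : U' ≤ q ⁻¹ᵁ U) (a : 𝒮.presheaf.obj (op U)) :
    uh.gradedAt U hU U' hU' hle ((ι.hom.app (op U)).hom a) =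
      (ι'.hom.app (op U')).hom (u.gradedAt U hU U' hU' hle a) := by
  rw [RelProj.QGrHom.gradedAt_apply, RelProj.QGrHom.gradedAt_apply, RelSpec.QHom.appLE_eq,
    RelSpec.QHom.appLE_eq]
  have h1 := congrArg (fun m => m.hom a) (huh U)
  simp only [CommRingCat.hom_comp, RingHom.comp_apply] at h1 ⊢
  rw [h1]
  have h2 := congrArg (fun m => m.hom ((u.app U).hom a)) (ι'.hom.naturality (homOfLE hle).op)
  simp only [CommRingCat.hom_comp, RingHom.comp_apply] at h2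
  exact h2.symm

include huhz in
/-- `φ̂(z) = z'` over affine pairs. -/
theorem uh_z (U : Y.Opens) (hU : IsAffineOpen U) (U' : Y'.Opens) (hU' : IsAffineOpen U')
    (hle : U' ≤ q ⁻¹ᵁ U) :
    uh.gradedAt U hU U' hU' hle (zU 𝒮h z U) = zU 𝒮h' z' U' := by
  rw [RelProj.QGrHom.gradedAt_apply]
  have h1 := congrArg (fun m => m.hom z)
    (uh.toQHom.map_appLE (U := ⊤) (V := U) (U' := U') le_top hle)
  simp only [CommRingCat.hom_comp, RingHom.comp_apply] at h1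
  refine h1.trans ?_
  rw [RelSpec.QHom.appLE_eq]
  simp only [CommRingCat.hom_comp, RingHom.comp_apply]
  rw [huhz]
  exact res_res 𝒮h' _ _ z'

variable {P' : Scheme.{u}} {p' : P' ⟶ Y'}
  {chart' : ∀ (U : Y'.Opens) (hU : IsAffineOpen U),
    (((p' ⁻¹ᵁ U : P'.Opens) : Scheme.{u}) ≅ Proj (𝒮'.deg U hU))}

/-- An affine pair around a point. -/
theorem exists_pair (y' : Y') :
    ∃ (U : Y.Opens) (_ : IsAffineOpen U) (U' : Y'.Opens) (_ : IsAffineOpen U') (_ : U' ≤ q ⁻¹ᵁ U),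
      y' ∈ U' := by
  obtain ⟨U, hU, hgx, -⟩ := Opens.isBasis_iff_nbhd.mp Y.isBasis_affineOpens
    (Opens.mem_top (q.base y'))
  obtain ⟨U', hU', hx, hle⟩ := Opens.isBasis_iff_nbhd.mp Y'.isBasis_affineOpens
    (show y' ∈ q ⁻¹ᵁ U from hgx)
  exact ⟨U, hU, U', hU', hle, hx⟩

include huh in
/-- **(1)** `Φ̂⁻¹(Ê) ⊆ Ê'`. -/
theorem preimage_le (hPC : RelProj.IsRelProj 𝒮h pC chartC) (hPC' : RelProj.IsRelProj 𝒮h' pC' chartC')
    (Φh : ((RelProj.domQ uh pC' chartC' : PC'.Opens) : Scheme.{u}) ⟶ PC)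
    (hΦh : RelProj.IsProjQMapOn uh pC chartC pC' chartC' (RelProj.domQ uh pC' chartC') Φh) :
    (RelProj.domQ uh pC' chartC').ι ''ᵁ (Φh ⁻¹ᵁ RelCone.pointedProjCone 𝒮 hz pC chartC) ≤
      RelCone.pointedProjCone 𝒮' hz' pC' chartC' := by
  rintro _ ⟨x, hx, rfl⟩
  obtain ⟨U, hU, U', hU', hle, hxU'⟩ := exists_pair (q := q) (pC'.base x.1)
  have hxU'' : x.1 ∈ pC' ⁻¹ᵁ U' := hxU'
  have hvx : Φh.base x ∈ pC ⁻¹ᵁ U :=
    projQ_mem_preimage uh hPC hPC' _ rfl Φh hΦh x U U' hle hxU''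
  have hx' : Φh.base x ∈ RelCone.pointedProjCone 𝒮 hz pC chartC := hx
  obtain ⟨d, hd, f, hf, hfz⟩ := exists_homogeneous_of_mem_domOpen _ _
    ((mem_pointedProjCone_iff hz hPC U hU _ hvx).mp hx')
  have hfz' : zpt pC chartC U hU (Φh.base x) hvx ∈
      Proj.basicOpen (𝒮h.deg U hU) ((ι.hom.app (op U)).hom f) := hfz
  have h1 := (projQ_mem_basicOpen_iff uh hPC' _ rfl Φh hΦh x U hU U' hU' hle hxU'' hvx hd
    (hz.graded U hU d f hf)).mp hfz'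
  rw [uh_iota u uh huh U hU U' hU' hle f] at h1
  refine (mem_pointedProjCone_iff hz' hPC' U' hU' x.1 hxU'').mpr ?_
  exact mem_domOpen_of_mem_basicOpen (RelProj.gradedHomAt ι' hz'.graded U' hU') hd
    ((u.gradedAt U hU U' hU' hle).map_mem hf) _ h1

/-- If `Proj(φ)` is everywhere defined, every point of `Ê'` lies in some `D_+(ι'(φ f))`. -/
theorem core (hPC' : RelProj.IsRelProj 𝒮h' pC' chartC') (hP' : RelProj.IsRelProj 𝒮' p' chart')
    (hG : RelProj.domQ u p' chart' = ⊤) (x : PC')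
    (hx : x ∈ RelCone.pointedProjCone 𝒮' hz' pC' chartC')
    (U : Y.Opens) (hU : IsAffineOpen U) (U' : Y'.Opens) (hU' : IsAffineOpen U') (hle : U' ≤ q ⁻¹ᵁ U)
    (hxU' : x ∈ pC' ⁻¹ᵁ U') :
    ∃ (d : ℕ) (_ : 0 < d) (f : 𝒮.presheaf.obj (op U)) (_ : f ∈ 𝒮.deg U hU d),
      zpt pC' chartC' U' hU' x hxU' ∈ Proj.basicOpen (𝒮h'.deg U' hU')
        ((ι'.hom.app (op U')).hom (u.gradedAt U hU U' hU' hle f)) := by
  have hx2 : x ∈ RelProj.domQ (RelProj.QGrHom.ofHom ι' hz'.graded) pC' chartC' := by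
    rw [← pointedProjCone_eq_domQ hz' hPC']; exact hx
  obtain ⟨v, hv⟩ := exists_projQMapOn (RelProj.QGrHom.ofHom ι' hz'.graded) hP' hPC'
  let e : ((RelProj.domQ (RelProj.QGrHom.ofHom ι' hz'.graded) pC' chartC' : PC'.Opens) : Scheme.{u}) :=
    ⟨x, hx2⟩
  have hve : v.base e ∈ p' ⁻¹ᵁ U' :=
    projQ_mem_preimage (RelProj.QGrHom.ofHom ι' hz'.graded) hP' hPC' _ rfl v hv e U' U'
      (Groth.Agent.RelProjTN.hle U') hxU'
  have hGe : v.base e ∈ RelProj.domQ u p' chart' := by rw [hG]; trivial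
  obtain ⟨d, hd, f, hf, hfr⟩ := exists_idx_at u hP' (v.base e) hGe U hU U' hU' hle hve
  have hfr' := (mem_range_cP_iff u ⟨U, hU, U', hU', hle, d, hd, f, hf⟩ (v.base e) hve).mp hfr
  have h1 := (projQ_mem_basicOpen_iff (RelProj.QGrHom.ofHom ι' hz'.graded) hPC' _ rfl v hv e U' hU' U' hU'
    (Groth.Agent.RelProjTN.hle U') hxU' hve hd ((u.gradedAt U hU U' hU' hle).map_mem hf)).mp hfr'
  have e1 : (RelProj.QGrHom.ofHom ι' hz'.graded).gradedAt U' hU' U' hU' (Groth.Agent.RelProjTN.hle U')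
      (u.gradedAt U hU U' hU' hle f) = (ι'.hom.app (op U')).hom (u.gradedAt U hU U' hU' hle f) :=
    psi_apply ι' hz'.graded U' hU' _
  exact ⟨d, hd, f, hf, (congrArg (fun t => zpt pC' chartC' U' hU' x hxU' ∈
    Proj.basicOpen (𝒮h'.deg U' hU') t) e1).mp h1⟩

include hz hz' huh huhz in
/-- **(2a)** If `Proj(φ)` is everywhere defined, so is `Proj(φ̂)`. -/
theorem domQ_uh_eq_top (hPC' : RelProj.IsRelProj 𝒮h' pC' chartC') (hP' : RelProj.IsRelProj 𝒮' p' chart')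
    (hG : RelProj.domQ u p' chart' = ⊤) : RelProj.domQ uh pC' chartC' = ⊤ := by
  rw [eq_top_iff]
  intro x _
  obtain ⟨U, hU, U', hU', hle, hxU'⟩ := exists_pair (q := q) (pC'.base x)
  have hxU'' : x ∈ pC' ⁻¹ᵁ U' := hxU'
  refine mem_domQ_of_mem_domOpen uh x U hU U' hU' hle hxU'' ?_
  by_cases hw : zpt pC' chartC' U' hU' x hxU'' ∈
      RelCone.domOpen (RelProj.gradedHomAt ι' hz'.graded U' hU')
  · have hx : x ∈ RelCone.pointedProjCone 𝒮' hz' pC' chartC' :=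
      (mem_pointedProjCone_iff hz' hPC' U' hU' x hxU'').mpr hw
    obtain ⟨d, hd, f, hf, h1⟩ := core u hz' hPC' hP' hG x hx U hU U' hU' hle hxU''
    rw [← uh_iota u uh huh U hU U' hU' hle f] at h1
    exact mem_domOpen_of_mem_basicOpen _ hd (hz.graded U hU d f hf) _ h1
  · have h1 := mem_basicOpen_z_of_not_mem_domOpen hz' U' hU' _ hw
    rw [← uh_z uh huhz U hU U' hU' hle] at h1
    exact mem_domOpen_of_mem_basicOpen _ one_pos (hz.deg_z U hU) _ h1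

include huh in
/-- **(2b)** If `Proj(φ)` is everywhere defined, `Ê' ⊆ Φ̂⁻¹(Ê)`. -/
theorem le_preimage (hPC : RelProj.IsRelProj 𝒮h pC chartC) (hPC' : RelProj.IsRelProj 𝒮h' pC' chartC')
    (hP' : RelProj.IsRelProj 𝒮' p' chart') (hG : RelProj.domQ u p' chart' = ⊤)
    (hGh : RelProj.domQ uh pC' chartC' = ⊤)
    (Φh : ((RelProj.domQ uh pC' chartC' : PC'.Opens) : Scheme.{u}) ⟶ PC)
    (hΦh : RelProj.IsProjQMapOn uh pC chartC pC' chartC' (RelProj.domQ uh pC' chartC') Φh) :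
    RelCone.pointedProjCone 𝒮' hz' pC' chartC' ≤
      (RelProj.domQ uh pC' chartC').ι ''ᵁ (Φh ⁻¹ᵁ RelCone.pointedProjCone 𝒮 hz pC chartC) := by
  intro x hx
  have hxG : x ∈ RelProj.domQ uh pC' chartC' := by rw [hGh]; trivial
  obtain ⟨U, hU, U', hU', hle, hxU'⟩ := exists_pair (q := q) (pC'.base x)
  have hxU'' : x ∈ pC' ⁻¹ᵁ U' := hxU'
  let e : ((RelProj.domQ uh pC' chartC' : PC'.Opens) : Scheme.{u}) := ⟨x, hxG⟩
  refine ⟨e, ?_, rfl⟩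
  have hvx : Φh.base e ∈ pC ⁻¹ᵁ U :=
    projQ_mem_preimage uh hPC hPC' _ rfl Φh hΦh e U U' hle hxU''
  obtain ⟨d, hd, f, hf, h1⟩ := core u hz' hPC' hP' hG x hx U hU U' hU' hle hxU''
  rw [← uh_iota u uh huh U hU U' hU' hle f] at h1
  have h2 := (projQ_mem_basicOpen_iff uh hPC' _ rfl Φh hΦh e U hU U' hU' hle hxU'' hvx hd
    (hz.graded U hU d f hf)).mpr h1
  show Φh.base e ∈ RelCone.pointedProjCone 𝒮 hz pC chartC
  refine (mem_pointedProjCone_iff hz hPC U hU _ hvx).mpr ?_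
  exact mem_domOpen_of_mem_basicOpen (RelProj.gradedHomAt ι hz.graded U hU) hd hf _ h2

end

end Groth.Agent.ConeFun
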