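import Mathlib
import Groth.Prelude.Def_RelProj4
import Groth.Agent.Lib.ProjQ5_helper5

/-!
# Composition of the morphisms `Proj(u)` for graded morphisms over morphisms of bases  (helper5)

`comp_general`: for `u₁ : 𝒮₁ → 𝒮₂` over `g₁`, `u₂ : 𝒮₂ → 𝒮₃` over `g₂` and `u₁₂ : 𝒮₁ → 𝒮₃` over
`g₁₂ = g₂ ≫ g₁` with `u₂ ∘ u₁ = u₁₂` on affine triples: `Proj(u₂)⁻¹(G(u₁)) ⊆ G(u₁₂)` and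
`Proj(u₁) ∘ Proj(u₂) = Proj(u₁₂)` there (on `T`-valued points).
-/

set_option autoImplicit false
universe u
open AlgebraicGeometry CategoryTheory CategoryTheory.Limits HomogeneousLocalization Opposite TopologicalSpace
open scoped HomogeneousIdeal

noncomputable section

namespace Groth.Agent.ProjQ

open Groth.Agent.ConeImm Groth.Agent.RelProjTN RelProj

section Alg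
variable {A B C σ τ υ : Type u} [CommRing A] [SetLike σ A] [AddSubgroupClass σ A]
  [CommRing B] [SetLike τ B] [AddSubgroupClass τ B] [CommRing C] [SetLike υ C] [AddSubgroupClass υ C]
  {𝒜 : ℕ → σ} [GradedRing 𝒜] {ℬ : ℕ → τ} [GradedRing ℬ] {𝒞 : ℕ → υ} [GradedRing 𝒞]

theorem specMap_awayMap_comp (ψ₁ : 𝒜 →+*ᵍ ℬ) (ψ₂ : ℬ →+*ᵍ 𝒞) (f : A) :
    Spec.map (CommRingCat.ofHom (Away.map (ψ₂.comp ψ₁) f)) =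
      Spec.map (CommRingCat.ofHom (Away.map ψ₂ (ψ₁ f))) ≫
        Spec.map (CommRingCat.ofHom (Away.map ψ₁ f)) :=
  (congrArg (fun r => Spec.map (CommRingCat.ofHom r)) (Away.map_comp ψ₁ ψ₂ f)).trans
    (Spec.map_comp (CommRingCat.ofHom (Away.map ψ₁ f)) (CommRingCat.ofHom (Away.map ψ₂ (ψ₁ f))))

end Alg

section transport
variable {Y Y' P P' : Scheme.{u}} {g : Y' ⟶ Y} {𝒮 : RelProj.QCGrAlg Y} {𝒮' : RelProj.QCGrAlg Y'}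
  (u : RelProj.QGrHom g 𝒮 𝒮')
  {p : P ⟶ Y}
  {chart : ∀ (U : Y.Opens) (hU : IsAffineOpen U), (((p ⁻¹ᵁ U : P.Opens) : Scheme.{u}) ≅ Proj (𝒮.deg U hU))}
  {p' : P' ⟶ Y'}
  {chart' : ∀ (U : Y'.Opens) (hU : IsAffineOpen U),
    (((p' ⁻¹ᵁ U : P'.Opens) : Scheme.{u}) ≅ Proj (𝒮'.deg U hU))}

/-- The chart equation of `Proj(u)`, for a graded homomorphism propositionally equal to `u_{U,U'}`,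
on `T`-valued points of a standard chart. -/
theorem chart_transport (v : ((RelProj.domQ u p' chart' : P'.Opens) : Scheme.{u}) ⟶ P)
    (hv : RelProj.IsProjQMapOn u p chart p' chart' (RelProj.domQ u p' chart') v)
    (U : Y.Opens) (hU : IsAffineOpen U) (U' : Y'.Opens) (hU' : IsAffineOpen U') (hle : U' ≤ g ⁻¹ᵁ U)
    {d : ℕ} (hd : 0 < d) (f : 𝒮.presheaf.obj (op U)) (hf : f ∈ 𝒮.deg U hU d)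
    (ψ : 𝒮.deg U hU →+*ᵍ 𝒮'.deg U' hU') (hψ : ψ = u.gradedAt U hU U' hU' hle)
    {T₀ : Scheme.{u}} (a₀ : T₀ ⟶ Spec (CommRingCat.of (Away (𝒮'.deg U' hU') (ψ f))))
    (γ₀ : T₀ ⟶ ((RelProj.domQ u p' chart' : P'.Opens) : Scheme.{u}))
    (h : γ₀ ≫ (RelProj.domQ u p' chart').ι =
      a₀ ≫ Proj.awayι (𝒮'.deg U' hU') (ψ f) (ψ.map_mem hf) hd ≫ RelProj.emb p' chart' U' hU') :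
    γ₀ ≫ v = a₀ ≫ Spec.map (CommRingCat.ofHom (Away.map ψ f)) ≫
      Proj.awayι (𝒮.deg U hU) f hf hd ≫ RelProj.emb p chart U hU := by
  subst hψ
  have h1 : γ₀ = a₀ ≫ c u p' chart' ⟨U, hU, U', hU', hle, d, hd, f, hf⟩ := by
    rw [← cancel_mono (RelProj.domQ u p' chart').ι, Category.assoc, c_ι]
    exact h
  rw [h1, Category.assoc, c_comp_of_isProjQMapOn u v hv ⟨U, hU, U', hU', hle, d, hd, f, hf⟩]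
  rfl

end transport

section comp
variable {Y₁ Y₂ Y₃ P₁ P₂ P₃ : Scheme.{u}} {g₁ : Y₂ ⟶ Y₁} {g₂ : Y₃ ⟶ Y₂}
  {𝒮₁ : RelProj.QCGrAlg Y₁} {𝒮₂ : RelProj.QCGrAlg Y₂} {𝒮₃ : RelProj.QCGrAlg Y₃}
  (u₁ : RelProj.QGrHom g₁ 𝒮₁ 𝒮₂) (u₂ : RelProj.QGrHom g₂ 𝒮₂ 𝒮₃)
  {p₁ : P₁ ⟶ Y₁}
  {chart₁ : ∀ (U : Y₁.Opens) (hU : IsAffineOpen U), (((p₁ ⁻¹ᵁ U : P₁.Opens) : Scheme.{u}) ≅ Proj (𝒮₁.deg U hU))}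
  {p₂ : P₂ ⟶ Y₂}
  {chart₂ : ∀ (U : Y₂.Opens) (hU : IsAffineOpen U), (((p₂ ⁻¹ᵁ U : P₂.Opens) : Scheme.{u}) ≅ Proj (𝒮₂.deg U hU))}
  {p₃ : P₃ ⟶ Y₃}
  {chart₃ : ∀ (U : Y₃.Opens) (hU : IsAffineOpen U), (((p₃ ⁻¹ᵁ U : P₃.Opens) : Scheme.{u}) ≅ Proj (𝒮₃.deg U hU))}

/-- An affine triple around a point. -/
theorem exists_triple (y₃ : Y₃) :
    ∃ (U₁ : Y₁.Opens) (_ : IsAffineOpen U₁) (U₂ : Y₂.Opens) (_ : IsAffineOpen U₂) (_ : U₂ ≤ g₁ ⁻¹ᵁ U₁)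
      (U₃ : Y₃.Opens) (_ : IsAffineOpen U₃) (_ : U₃ ≤ g₂ ⁻¹ᵁ U₂), y₃ ∈ U₃ := by
  obtain ⟨U₁, hU₁, h1, -⟩ := Opens.isBasis_iff_nbhd.mp Y₁.isBasis_affineOpens
    (Opens.mem_top (g₁.base (g₂.base y₃)))
  obtain ⟨U₂, hU₂, h2, hle₁⟩ := Opens.isBasis_iff_nbhd.mp Y₂.isBasis_affineOpens
    (show g₂.base y₃ ∈ g₁ ⁻¹ᵁ U₁ from h1)
  obtain ⟨U₃, hU₃, h3, hle₂⟩ := Opens.isBasis_iff_nbhd.mp Y₃.isBasis_affineOpens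
    (show y₃ ∈ g₂ ⁻¹ᵁ U₂ from h2)
  exact ⟨U₁, hU₁, U₂, hU₂, hle₁, U₃, hU₃, hle₂, h3⟩

/-- A point of `G(u₂)` whose image lies in `G(u₁)` lies in a standard chart `D_+(u₂ (u₁ f))`. -/
theorem comp_pt (hP₂ : RelProj.IsRelProj 𝒮₂ p₂ chart₂) (hP₃ : RelProj.IsRelProj 𝒮₃ p₃ chart₃)
    (v₂ : ((RelProj.domQ u₂ p₃ chart₃ : P₃.Opens) : Scheme.{u}) ⟶ P₂)
    (hv₂ : RelProj.IsProjQMapOn u₂ p₂ chart₂ p₃ chart₃ (RelProj.domQ u₂ p₃ chart₃) v₂)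
    (x₃ : ((RelProj.domQ u₂ p₃ chart₃ : P₃.Opens) : Scheme.{u}))
    (hx₂ : v₂.base x₃ ∈ RelProj.domQ u₁ p₂ chart₂) :
    ∃ (U₁ : Y₁.Opens) (hU₁ : IsAffineOpen U₁) (U₂ : Y₂.Opens) (hU₂ : IsAffineOpen U₂)
      (hle₁ : U₂ ≤ g₁ ⁻¹ᵁ U₁) (U₃ : Y₃.Opens) (hU₃ : IsAffineOpen U₃) (hle₂ : U₃ ≤ g₂ ⁻¹ᵁ U₂)
      (d : ℕ) (hd : 0 < d) (f : 𝒮₁.presheaf.obj (op U₁)) (hf : f ∈ 𝒮₁.deg U₁ hU₁ d),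
      x₃ ∈ Set.range (c u₂ p₃ chart₃ ⟨U₂, hU₂, U₃, hU₃, hle₂, d, hd,
        u₁.gradedAt U₁ hU₁ U₂ hU₂ hle₁ f, (u₁.gradedAt U₁ hU₁ U₂ hU₂ hle₁).map_mem hf⟩).base := by
  obtain ⟨U₁, hU₁, U₂, hU₂, hle₁, U₃, hU₃, hle₂, hy₃⟩ :=
    exists_triple (g₁ := g₁) (g₂ := g₂) (p₃.base x₃.1)
  have hxU₃ : x₃.1 ∈ p₃ ⁻¹ᵁ U₃ := hy₃
  have hvx : v₂.base x₃ ∈ p₂ ⁻¹ᵁ U₂ :=
    projQ_mem_preimage u₂ hP₂ hP₃ _ rfl v₂ hv₂ x₃ U₂ U₃ hle₂ hxU₃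
  obtain ⟨d, hd, f, hf, hfr⟩ := exists_idx_at u₁ hP₂ (v₂.base x₃) hx₂ U₁ hU₁ U₂ hU₂ hle₁ hvx
  have hfr' := (mem_range_cP_iff u₁ ⟨U₁, hU₁, U₂, hU₂, hle₁, d, hd, f, hf⟩ (v₂.base x₃) hvx).mp hfr
  have h1 := (projQ_mem_basicOpen_iff u₂ hP₃ _ rfl v₂ hv₂ x₃ U₂ hU₂ U₃ hU₃ hle₂ hxU₃ hvx hd
    ((u₁.gradedAt U₁ hU₁ U₂ hU₂ hle₁).map_mem hf)).mp hfr'
  refine ⟨U₁, hU₁, U₂, hU₂, hle₁, U₃, hU₃, hle₂, d, hd, f, hf, ?_⟩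
  apply mem_range_c_of_cP
  exact (mem_range_cP_iff u₂ ⟨U₂, hU₂, U₃, hU₃, hle₂, d, hd,
    u₁.gradedAt U₁ hU₁ U₂ hU₂ hle₁ f, (u₁.gradedAt U₁ hU₁ U₂ hU₂ hle₁).map_mem hf⟩ x₃.1 hxU₃).mpr h1

variable (u₁₂ : RelProj.QGrHom (g₂ ≫ g₁) 𝒮₁ 𝒮₃)

theorem comp_aux
    (hcomp : ∀ (U₁ : Y₁.Opens) (hU₁ : IsAffineOpen U₁) (U₂ : Y₂.Opens) (hU₂ : IsAffineOpen U₂)
      (hle₁ : U₂ ≤ g₁ ⁻¹ᵁ U₁) (U₃ : Y₃.Opens) (hU₃ : IsAffineOpen U₃) (hle₂ : U₃ ≤ g₂ ⁻¹ᵁ U₂)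
      (hle₁₂ : U₃ ≤ (g₂ ≫ g₁) ⁻¹ᵁ U₁) (a : 𝒮₁.presheaf.obj (op U₁)),
      u₂.gradedAt U₂ hU₂ U₃ hU₃ hle₂ (u₁.gradedAt U₁ hU₁ U₂ hU₂ hle₁ a) =
        u₁₂.gradedAt U₁ hU₁ U₃ hU₃ hle₁₂ a)
    (hP₂ : RelProj.IsRelProj 𝒮₂ p₂ chart₂) (hP₃ : RelProj.IsRelProj 𝒮₃ p₃ chart₃)
    (v₁ : ((RelProj.domQ u₁ p₂ chart₂ : P₂.Opens) : Scheme.{u}) ⟶ P₁)
    (hv₁ : RelProj.IsProjQMapOn u₁ p₁ chart₁ p₂ chart₂ (RelProj.domQ u₁ p₂ chart₂) v₁)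
    (v₂ : ((RelProj.domQ u₂ p₃ chart₃ : P₃.Opens) : Scheme.{u}) ⟶ P₂)
    (hv₂ : RelProj.IsProjQMapOn u₂ p₂ chart₂ p₃ chart₃ (RelProj.domQ u₂ p₃ chart₃) v₂)
    (v₁₂ : ((RelProj.domQ u₁₂ p₃ chart₃ : P₃.Opens) : Scheme.{u}) ⟶ P₁)
    (hv₁₂ : RelProj.IsProjQMapOn u₁₂ p₁ chart₁ p₃ chart₃ (RelProj.domQ u₁₂ p₃ chart₃) v₁₂)
    {T : Scheme.{u}} (α : T ⟶ ((RelProj.domQ u₂ p₃ chart₃ : P₃.Opens) : Scheme.{u}))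
    (β : T ⟶ ((RelProj.domQ u₁ p₂ chart₂ : P₂.Opens) : Scheme.{u}))
    (hαβ : α ≫ v₂ = β ≫ (RelProj.domQ u₁ p₂ chart₂).ι) :
    Set.range (α ≫ (RelProj.domQ u₂ p₃ chart₃).ι).base ⊆
        ((RelProj.domQ u₁₂ p₃ chart₃ : P₃.Opens) : Set P₃) ∧
      ∀ γ : T ⟶ ((RelProj.domQ u₁₂ p₃ chart₃ : P₃.Opens) : Scheme.{u}),
        γ ≫ (RelProj.domQ u₁₂ p₃ chart₃).ι = α ≫ (RelProj.domQ u₂ p₃ chart₃).ι →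
          γ ≫ v₁₂ = β ≫ v₁ := by
  have key : ∀ t : T, ∃ (U₁ : Y₁.Opens) (hU₁ : IsAffineOpen U₁) (U₂ : Y₂.Opens) (hU₂ : IsAffineOpen U₂)
      (hle₁ : U₂ ≤ g₁ ⁻¹ᵁ U₁) (U₃ : Y₃.Opens) (hU₃ : IsAffineOpen U₃) (hle₂ : U₃ ≤ g₂ ⁻¹ᵁ U₂)
      (d : ℕ) (hd : 0 < d) (f : 𝒮₁.presheaf.obj (op U₁)) (hf : f ∈ 𝒮₁.deg U₁ hU₁ d),
      α.base t ∈ Set.range (c u₂ p₃ chart₃ ⟨U₂, hU₂, U₃, hU₃, hle₂, d, hd,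
        u₁.gradedAt U₁ hU₁ U₂ hU₂ hle₁ f, (u₁.gradedAt U₁ hU₁ U₂ hU₂ hle₁).map_mem hf⟩).base := by
    intro t
    refine comp_pt u₁ u₂ hP₂ hP₃ v₂ hv₂ (α.base t) ?_
    have h := congrArg (fun m => m.base t) hαβ
    have h' : v₂.base (α.base t) = (β.base t).1 := h
    rw [h']
    exact (β.base t).2
  have hle₁₂ : ∀ (U₁ : Y₁.Opens) (U₂ : Y₂.Opens) (U₃ : Y₃.Opens), U₂ ≤ g₁ ⁻¹ᵁ U₁ → U₃ ≤ g₂ ⁻¹ᵁ U₂ →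
      U₃ ≤ (g₂ ≫ g₁) ⁻¹ᵁ U₁ := by
    intro U₁ U₂ U₃ h1 h2
    rw [Scheme.Hom.comp_preimage]
    exact h2.trans (g₂.preimage_mono h1)
  constructor
  · rintro _ ⟨t, rfl⟩
    obtain ⟨U₁, hU₁, U₂, hU₂, hle₁, U₃, hU₃, hle₂, d, hd, f, hf, hr⟩ := key t
    have hr' := mem_range_cP_of_c u₂ _ _ hr
    have hxU₃ : (α.base t).1 ∈ p₃ ⁻¹ᵁ U₃ := range_cP_subset u₂ _ _ hr'
    have h1 := (mem_range_cP_iff u₂ ⟨U₂, hU₂, U₃, hU₃, hle₂, d, hd,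
      u₁.gradedAt U₁ hU₁ U₂ hU₂ hle₁ f, (u₁.gradedAt U₁ hU₁ U₂ hU₂ hle₁).map_mem hf⟩ (α.base t).1 hxU₃).mp hr'
    have h2 : zpt p₃ chart₃ U₃ hU₃ (α.base t).1 hxU₃ ∈ Proj.basicOpen (𝒮₃.deg U₃ hU₃)
        (u₂.gradedAt U₂ hU₂ U₃ hU₃ hle₂ (u₁.gradedAt U₁ hU₁ U₂ hU₂ hle₁ f)) := h1
    rw [hcomp U₁ hU₁ U₂ hU₂ hle₁ U₃ hU₃ hle₂ (hle₁₂ U₁ U₂ U₃ hle₁ hle₂) f] at h2
    have h3 := (mem_range_cP_iff u₁₂ ⟨U₁, hU₁, U₃, hU₃, hle₁₂ U₁ U₂ U₃ hle₁ hle₂, d, hd, f, hf⟩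
      (α.base t).1 hxU₃).mpr h2
    have h4 := RelProj.range_awayEmb_subset_domQ u₁₂ p₃ chart₃ U₁ hU₁ U₃ hU₃
      (hle₁₂ U₁ U₂ U₃ hle₁ hle₂) hd f hf h3
    rw [Scheme.Opens.range_ι] at h4
    exact h4
  · intro γ hγ
    refine hom_ext_of_charts _ _ (fun t => ?_)
    obtain ⟨U₁, hU₁, U₂, hU₂, hle₁, U₃, hU₃, hle₂, d, hd, f, hf, hr⟩ := key t
    let j₂ : Idx g₂ 𝒮₂ := ⟨U₂, hU₂, U₃, hU₃, hle₂, d, hd,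
      u₁.gradedAt U₁ hU₁ U₂ hU₂ hle₁ f, (u₁.gradedAt U₁ hU₁ U₂ hU₂ hle₁).map_mem hf⟩
    let j₁ : Idx g₁ 𝒮₁ := ⟨U₁, hU₁, U₂, hU₂, hle₁, d, hd, f, hf⟩
    let T₀ : T.Opens := α ⁻¹ᵁ (c u₂ p₃ chart₃ j₂).opensRange
    have htT₀ : t ∈ T₀ := hr
    have hrange : Set.range (T₀.ι ≫ α).base ⊆ Set.range (c u₂ p₃ chart₃ j₂).base := by
      rintro _ ⟨s, rfl⟩
      exact s.2
    have ha₀ : IsOpenImmersion.lift (c u₂ p₃ chart₃ j₂) (T₀.ι ≫ α) hrange ≫ c u₂ p₃ chart₃ j₂ =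
        T₀.ι ≫ α := IsOpenImmersion.lift_fac _ _ _
    generalize IsOpenImmersion.lift (c u₂ p₃ chart₃ j₂) (T₀.ι ≫ α) hrange = a₀ at ha₀
    refine ⟨T₀, T₀.ι, inferInstance, by rw [Scheme.Opens.range_ι]; exact htT₀, ?_⟩
    have hm : m u₂ p₂ chart₂ j₂ =
        Spec.map (CommRingCat.ofHom (Away.map (u₂.gradedAt U₂ hU₂ U₃ hU₃ hle₂)
          (u₁.gradedAt U₁ hU₁ U₂ hU₂ hle₁ f))) ≫ c u₁ p₂ chart₂ j₁ ≫ (RelProj.domQ u₁ p₂ chart₂).ι := by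
      rw [c_ι]
      rfl
    have h1 : T₀.ι ≫ β = a₀ ≫ Spec.map (CommRingCat.ofHom (Away.map (u₂.gradedAt U₂ hU₂ U₃ hU₃ hle₂)
        (u₁.gradedAt U₁ hU₁ U₂ hU₂ hle₁ f))) ≫ c u₁ p₂ chart₂ j₁ := by
      rw [← cancel_mono (RelProj.domQ u₁ p₂ chart₂).ι]
      simp only [Category.assoc]
      rw [← hαβ, ← Category.assoc, ← ha₀, Category.assoc, c_comp_of_isProjQMapOn u₂ v₂ hv₂ j₂, hm]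
    have h2 : T₀.ι ≫ β ≫ v₁ = a₀ ≫ Spec.map (CommRingCat.ofHom (Away.map (u₂.gradedAt U₂ hU₂ U₃ hU₃ hle₂)
        (u₁.gradedAt U₁ hU₁ U₂ hU₂ hle₁ f))) ≫ m u₁ p₁ chart₁ j₁ := by
      rw [← Category.assoc, h1]
      simp only [Category.assoc]
      rw [c_comp_of_isProjQMapOn u₁ v₁ hv₁ j₁]
    have hψ : (u₂.gradedAt U₂ hU₂ U₃ hU₃ hle₂).comp (u₁.gradedAt U₁ hU₁ U₂ hU₂ hle₁) =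
        u₁₂.gradedAt U₁ hU₁ U₃ hU₃ (hle₁₂ U₁ U₂ U₃ hle₁ hle₂) := by
      apply DFunLike.ext
      intro a
      exact hcomp U₁ hU₁ U₂ hU₂ hle₁ U₃ hU₃ hle₂ (hle₁₂ U₁ U₂ U₃ hle₁ hle₂) a
    have h3 := chart_transport u₁₂ v₁₂ hv₁₂ U₁ hU₁ U₃ hU₃ (hle₁₂ U₁ U₂ U₃ hle₁ hle₂) hd f hf
      ((u₂.gradedAt U₂ hU₂ U₃ hU₃ hle₂).comp (u₁.gradedAt U₁ hU₁ U₂ hU₂ hle₁)) hψ a₀ (T₀.ι ≫ γ) (by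
        rw [Category.assoc, hγ, ← Category.assoc, ← ha₀, Category.assoc, c_ι]
        rfl)
    rw [h2, ← Category.assoc, h3]
    exact congrArg (fun k => a₀ ≫ k)
      ((congrArg (fun r => r ≫ (Proj.awayι (𝒮₁.deg U₁ hU₁) f hf hd ≫ RelProj.emb p₁ chart₁ U₁ hU₁))
        (specMap_awayMap_comp (u₁.gradedAt U₁ hU₁ U₂ hU₂ hle₁) (u₂.gradedAt U₂ hU₂ U₃ hU₃ hle₂) f)).trans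
        (Category.assoc _ _ _))

end comp

section general
variable {Y₁ Y₂ Y₃ P₁ P₂ P₃ : Scheme.{u}} {g₁ : Y₂ ⟶ Y₁} {g₂ : Y₃ ⟶ Y₂} {g₁₂ : Y₃ ⟶ Y₁}
  {𝒮₁ : RelProj.QCGrAlg Y₁} {𝒮₂ : RelProj.QCGrAlg Y₂} {𝒮₃ : RelProj.QCGrAlg Y₃}
  (u₁ : RelProj.QGrHom g₁ 𝒮₁ 𝒮₂) (u₂ : RelProj.QGrHom g₂ 𝒮₂ 𝒮₃) (u₁₂ : RelProj.QGrHom g₁₂ 𝒮₁ 𝒮₃)
  {p₁ : P₁ ⟶ Y₁}
  {chart₁ : ∀ (U : Y₁.Opens) (hU : IsAffineOpen U), (((p₁ ⁻¹ᵁ U : P₁.Opens) : Scheme.{u}) ≅ Proj (𝒮₁.deg U hU))}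
  {p₂ : P₂ ⟶ Y₂}
  {chart₂ : ∀ (U : Y₂.Opens) (hU : IsAffineOpen U), (((p₂ ⁻¹ᵁ U : P₂.Opens) : Scheme.{u}) ≅ Proj (𝒮₂.deg U hU))}
  {p₃ : P₃ ⟶ Y₃}
  {chart₃ : ∀ (U : Y₃.Opens) (hU : IsAffineOpen U), (((p₃ ⁻¹ᵁ U : P₃.Opens) : Scheme.{u}) ≅ Proj (𝒮₃.deg U hU))}

/-- **Composition**: `Proj(u₁) ∘ Proj(u₂) = Proj(u₁₂)` on `Proj(u₂)⁻¹(G(u₁)) ⊆ G(u₁₂)`, for `T`-valued
points; the opens are given up to (propositional) equality. -/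
theorem comp_general (hg : g₂ ≫ g₁ = g₁₂)
    (hcomp : ∀ (U₁ : Y₁.Opens) (hU₁ : IsAffineOpen U₁) (U₂ : Y₂.Opens) (hU₂ : IsAffineOpen U₂)
      (hle₁ : U₂ ≤ g₁ ⁻¹ᵁ U₁) (U₃ : Y₃.Opens) (hU₃ : IsAffineOpen U₃) (hle₂ : U₃ ≤ g₂ ⁻¹ᵁ U₂)
      (hle₁₂ : U₃ ≤ g₁₂ ⁻¹ᵁ U₁) (a : 𝒮₁.presheaf.obj (op U₁)),
      u₂.gradedAt U₂ hU₂ U₃ hU₃ hle₂ (u₁.gradedAt U₁ hU₁ U₂ hU₂ hle₁ a) =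
        u₁₂.gradedAt U₁ hU₁ U₃ hU₃ hle₁₂ a)
    (hP₂ : RelProj.IsRelProj 𝒮₂ p₂ chart₂) (hP₃ : RelProj.IsRelProj 𝒮₃ p₃ chart₃)
    (W₁ : P₂.Opens) (hW₁ : W₁ = RelProj.domQ u₁ p₂ chart₂) (v₁ : (W₁ : Scheme.{u}) ⟶ P₁)
    (hv₁ : RelProj.IsProjQMapOn u₁ p₁ chart₁ p₂ chart₂ W₁ v₁)
    (W₂ : P₃.Opens) (hW₂ : W₂ = RelProj.domQ u₂ p₃ chart₃) (v₂ : (W₂ : Scheme.{u}) ⟶ P₂)
    (hv₂ : RelProj.IsProjQMapOn u₂ p₂ chart₂ p₃ chart₃ W₂ v₂)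
    (W₁₂ : P₃.Opens) (hW₁₂ : W₁₂ = RelProj.domQ u₁₂ p₃ chart₃) (v₁₂ : (W₁₂ : Scheme.{u}) ⟶ P₁)
    (hv₁₂ : RelProj.IsProjQMapOn u₁₂ p₁ chart₁ p₃ chart₃ W₁₂ v₁₂)
    {T : Scheme.{u}} (α : T ⟶ (W₂ : Scheme.{u})) (β : T ⟶ (W₁ : Scheme.{u}))
    (hαβ : α ≫ v₂ = β ≫ W₁.ι) :
    Set.range (α ≫ W₂.ι).base ⊆ (W₁₂ : Set P₃) ∧
      ∀ γ : T ⟶ (W₁₂ : Scheme.{u}), γ ≫ W₁₂.ι = α ≫ W₂.ι → γ ≫ v₁₂ = β ≫ v₁ := by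
  subst hg hW₁ hW₂ hW₁₂
  exact comp_aux u₁ u₂ u₁₂ hcomp hP₂ hP₃ v₁ hv₁ v₂ hv₂ v₁₂ hv₁₂ α β hαβ

end general

end Groth.Agent.ProjQ
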