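import Mathlib
import Groth.Prelude.Def_RelProj4
import Groth.Agent.Lib.ProjQ6_helper5
import Groth.Agent.Lib.ConeFun1_helper5

/-!
# Functoriality of projective cones for graded `q`-morphisms: retractions  (helper5)
-/

set_option autoImplicit false
universe u
open AlgebraicGeometry CategoryTheory CategoryTheory.Limits HomogeneousLocalization Opposite TopologicalSpace
open scoped HomogeneousIdeal

noncomputable section

namespace Groth.Agent.ConeFun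

open Groth.Agent.ConeImm Groth.Agent.RelProjTN Groth.Agent.ProjQ RelProj

section preComp
variable {Y Y' : Scheme.{u}} {q : Y' ⟶ Y} {𝒯 𝒮 : RelProj.QCGrAlg Y} {𝒮' : RelProj.QCGrAlg Y'}

/-- A graded homomorphism `φ : 𝒯 → 𝒮` on `Y` followed by a graded `q`-morphism `u : 𝒮 → 𝒮'`. -/
def preComp (φ : 𝒯.toQCAlg ⟶ 𝒮.toQCAlg) (hφ : RelProj.IsGradedHom φ) (u : RelProj.QGrHom q 𝒮 𝒮') :
    RelProj.QGrHom q 𝒯 𝒮' where
  toQHom :=
    { app := fun U => φ.hom.app (op U) ≫ u.app U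
      naturality := by
        intro U V i
        rw [Category.assoc, u.naturality i, ← Category.assoc, ← Category.assoc]
        congr 1
        exact (φ.hom.naturality (homOfLE i).op).symm
      str_app := by
        intro U
        rw [← Category.assoc, ← u.str_app U]
        congr 1
        have h0 := NatTrans.congr_app φ.comm (op U)
        rw [NatTrans.comp_app] at h0
        exact h0 }
  map_mem := by
    intro U hU U' hU' hle d x hx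
    exact u.map_mem U hU U' hU' hle (hφ U hU d x hx)

theorem preComp_app (φ : 𝒯.toQCAlg ⟶ 𝒮.toQCAlg) (hφ : RelProj.IsGradedHom φ)
    (u : RelProj.QGrHom q 𝒮 𝒮') (U : Y.Opens) :
    (preComp φ hφ u).app U = φ.hom.app (op U) ≫ u.app U := rfl

/-- Compatibility on affine triples: `u ∘ φ`. -/
theorem hcomp_B (φ : 𝒯.toQCAlg ⟶ 𝒮.toQCAlg) (hφ : RelProj.IsGradedHom φ)
    (u : RelProj.QGrHom q 𝒮 𝒮')
    (U₁ : Y.Opens) (hU₁ : IsAffineOpen U₁) (U₂ : Y.Opens) (hU₂ : IsAffineOpen U₂)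
    (hle₁ : U₂ ≤ (𝟙 Y : Y ⟶ Y) ⁻¹ᵁ U₁) (U₃ : Y'.Opens) (hU₃ : IsAffineOpen U₃) (hle₂ : U₃ ≤ q ⁻¹ᵁ U₂)
    (hle₁₂ : U₃ ≤ q ⁻¹ᵁ U₁) (a : 𝒯.presheaf.obj (op U₁)) :
    u.gradedAt U₂ hU₂ U₃ hU₃ hle₂ ((RelProj.QGrHom.ofHom φ hφ).gradedAt U₁ hU₁ U₂ hU₂ hle₁ a) =
      (preComp φ hφ u).gradedAt U₁ hU₁ U₃ hU₃ hle₁₂ a := by
  rw [gradedAt_apply' φ hφ U₁ hU₁ U₂ hU₂ hle₁ a, RelProj.QGrHom.gradedAt_apply,
    RelProj.QGrHom.gradedAt_apply]
  have h1 := congrArg (fun m => m.hom ((φ.hom.app (op U₁)).hom a))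
    (u.toQHom.map_appLE (show U₂ ≤ U₁ from hle₁) hle₂)
  simp only [CommRingCat.hom_comp, RingHom.comp_apply] at h1
  exact h1

/-- Compatibility on affine triples: `φ' ∘ u`, for `w` given by `w(U) = φ'(q⁻¹U) ∘ u(U)`. -/
theorem hcomp_A {𝒯' : RelProj.QCGrAlg Y'} (u : RelProj.QGrHom q 𝒮 𝒮')
    (φ' : 𝒮'.toQCAlg ⟶ 𝒯'.toQCAlg) (hφ' : RelProj.IsGradedHom φ') (w : RelProj.QGrHom q 𝒮 𝒯')
    (hw : ∀ U : Y.Opens, w.app U = u.app U ≫ φ'.hom.app (op (q ⁻¹ᵁ U)))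
    (U₁ : Y.Opens) (hU₁ : IsAffineOpen U₁) (U₂ : Y'.Opens) (hU₂ : IsAffineOpen U₂)
    (hle₁ : U₂ ≤ q ⁻¹ᵁ U₁) (U₃ : Y'.Opens) (hU₃ : IsAffineOpen U₃)
    (hle₂ : U₃ ≤ (𝟙 Y' : Y' ⟶ Y') ⁻¹ᵁ U₂) (hle₁₂ : U₃ ≤ q ⁻¹ᵁ U₁) (a : 𝒮.presheaf.obj (op U₁)) :
    (RelProj.QGrHom.ofHom φ' hφ').gradedAt U₂ hU₂ U₃ hU₃ hle₂ (u.gradedAt U₁ hU₁ U₂ hU₂ hle₁ a) =
      w.gradedAt U₁ hU₁ U₃ hU₃ hle₁₂ a := by
  rw [gradedAt_apply' φ' hφ' U₂ hU₂ U₃ hU₃ hle₂, RelProj.QGrHom.gradedAt_apply,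
    RelProj.QGrHom.gradedAt_apply, RelSpec.QHom.appLE_eq, RelSpec.QHom.appLE_eq, hw U₁]
  simp only [CommRingCat.hom_comp, RingHom.comp_apply]
  rw [phi_res φ' hle₁, res_res]

end preComp

section main
variable {Y Y' PC PC' P P' : Scheme.{u}} {q : Y' ⟶ Y}
  {𝒮 : RelProj.QCGrAlg Y} {𝒮' : RelProj.QCGrAlg Y'} (u : RelProj.QGrHom q 𝒮 𝒮')
  {𝒮h : RelProj.QCGrAlg Y} {ι : 𝒮.toQCAlg ⟶ 𝒮h.toQCAlg} {z : 𝒮h.presheaf.obj (op ⊤)}
  (hz : RelCone.IsPolyOver 𝒮 𝒮h ι z)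
  {pC : PC ⟶ Y}
  {chartC : ∀ (U : Y.Opens) (hU : IsAffineOpen U),
    (((pC ⁻¹ᵁ U : PC.Opens) : Scheme.{u}) ≅ Proj (𝒮h.deg U hU))}
  {𝒮h' : RelProj.QCGrAlg Y'} {ι' : 𝒮'.toQCAlg ⟶ 𝒮h'.toQCAlg} {z' : 𝒮h'.presheaf.obj (op ⊤)}
  (hz' : RelCone.IsPolyOver 𝒮' 𝒮h' ι' z')
  {pC' : PC' ⟶ Y'}
  {chartC' : ∀ (U : Y'.Opens) (hU : IsAffineOpen U),
    (((pC' ⁻¹ᵁ U : PC'.Opens) : Scheme.{u}) ≅ Proj (𝒮h'.deg U hU))}
  (uh : RelProj.QGrHom q 𝒮h 𝒮h')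
  (huh : ∀ U : Y.Opens, ι.hom.app (op U) ≫ uh.app U = u.app U ≫ ι'.hom.app (op (q ⁻¹ᵁ U)))
  {p : P ⟶ Y}
  {chart : ∀ (U : Y.Opens) (hU : IsAffineOpen U), (((p ⁻¹ᵁ U : P.Opens) : Scheme.{u}) ≅ Proj (𝒮.deg U hU))}
  {p' : P' ⟶ Y'}
  {chart' : ∀ (U : Y'.Opens) (hU : IsAffineOpen U),
    (((p' ⁻¹ᵁ U : P'.Opens) : Scheme.{u}) ≅ Proj (𝒮'.deg U hU))}

include huh in
/-- `p̂'(Φ̂⁻¹(Ê)) ⊆ G(φ)`, pointwise. -/
theorem retraction_mem_domQ (hC : RelProj.IsRelProj 𝒮h pC chartC) (hC' : RelProj.IsRelProj 𝒮h' pC' chartC')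
    (hP' : RelProj.IsRelProj 𝒮' p' chart')
    (Φh : ((RelProj.domQ uh pC' chartC' : PC'.Opens) : Scheme.{u}) ⟶ PC)
    (hΦh : RelProj.IsProjQMapOn uh pC chartC pC' chartC' (RelProj.domQ uh pC' chartC') Φh)
    (r' : ((RelCone.pointedProjCone 𝒮' hz' pC' chartC' : PC'.Opens) : Scheme.{u}) ⟶ P')
    (hr' : RelProj.IsProjQMapOn (RelProj.QGrHom.ofHom ι' hz'.graded) p' chart' pC' chartC'
      (RelCone.pointedProjCone 𝒮' hz' pC' chartC') r')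
    (x : ((RelCone.pointedProjCone 𝒮' hz' pC' chartC' : PC'.Opens) : Scheme.{u}))
    (xb : ((RelProj.domQ uh pC' chartC' : PC'.Opens) : Scheme.{u})) (hxb : xb.1 = x.1)
    (hx : Φh.base xb ∈ RelCone.pointedProjCone 𝒮 hz pC chartC) :
    r'.base x ∈ RelProj.domQ u p' chart' := by
  obtain ⟨U, hU, U', hU', hle, hxU'⟩ := exists_pair (q := q) (pC'.base x.1)
  have hxU'' : x.1 ∈ pC' ⁻¹ᵁ U' := hxU'
  have hxbU' : xb.1 ∈ pC' ⁻¹ᵁ U' := by rw [hxb]; exact hxU''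
  have hvx : Φh.base xb ∈ pC ⁻¹ᵁ U :=
    projQ_mem_preimage uh hC hC' _ rfl Φh hΦh xb U U' hle hxbU'
  obtain ⟨d, hd, f, hf, hfz⟩ := exists_homogeneous_of_mem_domOpen _ _
    ((mem_pointedProjCone_iff hz hC U hU _ hvx).mp hx)
  have hfz' : zpt pC chartC U hU (Φh.base xb) hvx ∈
      Proj.basicOpen (𝒮h.deg U hU) ((ι.hom.app (op U)).hom f) := hfz
  have h1 := (projQ_mem_basicOpen_iff uh hC' _ rfl Φh hΦh xb U hU U' hU' hle hxbU' hvx hd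
    (hz.graded U hU d f hf)).mp hfz'
  rw [uh_iota u uh huh U hU U' hU' hle f] at h1
  have h1' : zpt pC' chartC' U' hU' x.1 hxU'' ∈ Proj.basicOpen (𝒮h'.deg U' hU')
      ((ι'.hom.app (op U')).hom (u.gradedAt U hU U' hU' hle f)) := by
    have : ∀ (y : PC') (hy : y ∈ pC' ⁻¹ᵁ U'), y = x.1 → zpt pC' chartC' U' hU' y hy ∈
        Proj.basicOpen (𝒮h'.deg U' hU') ((ι'.hom.app (op U')).hom (u.gradedAt U hU U' hU' hle f)) →
        zpt pC' chartC' U' hU' x.1 hxU'' ∈ Proj.basicOpen (𝒮h'.deg U' hU')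
          ((ι'.hom.app (op U')).hom (u.gradedAt U hU U' hU' hle f)) := by
      intro y hy hyx h
      subst hyx
      exact h
    exact this xb.1 hxbU' hxb h1
  have hW := pointedProjCone_eq_domQ hz' hC'
  have hrx : r'.base x ∈ p' ⁻¹ᵁ U' :=
    projQ_mem_preimage (RelProj.QGrHom.ofHom ι' hz'.graded) hP' hC' _ hW r' hr' x U' U'
      (Groth.Agent.RelProjTN.hle U') hxU''
  have e1 : (RelProj.QGrHom.ofHom ι' hz'.graded).gradedAt U' hU' U' hU' (Groth.Agent.RelProjTN.hle U')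
      (u.gradedAt U hU U' hU' hle f) = (ι'.hom.app (op U')).hom (u.gradedAt U hU U' hU' hle f) :=
    psi_apply ι' hz'.graded U' hU' _
  have h2 := (projQ_mem_basicOpen_iff (RelProj.QGrHom.ofHom ι' hz'.graded) hC' _ hW r' hr' x U' hU' U' hU'
    (Groth.Agent.RelProjTN.hle U') hxU'' hrx hd ((u.gradedAt U hU U' hU' hle).map_mem hf)).mpr
    ((congrArg (fun t => zpt pC' chartC' U' hU' x.1 hxU'' ∈
      Proj.basicOpen (𝒮h'.deg U' hU') t) e1).mpr h1')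
  exact mem_domQ_of_mem_domOpen u (r'.base x) U hU U' hU' hle hrx
    (mem_domOpen_of_mem_basicOpen _ hd hf _ h2)

include huh in
/-- **Compatibility of the retractions with `Φ̂` and `Proj(φ)`**, on `T`-valued points. -/
theorem retraction_compat (hC : RelProj.IsRelProj 𝒮h pC chartC) (hC' : RelProj.IsRelProj 𝒮h' pC' chartC')
    (hP : RelProj.IsRelProj 𝒮 p chart) (hP' : RelProj.IsRelProj 𝒮' p' chart')
    (Φh : ((RelProj.domQ uh pC' chartC' : PC'.Opens) : Scheme.{u}) ⟶ PC)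
    (hΦh : RelProj.IsProjQMapOn uh pC chartC pC' chartC' (RelProj.domQ uh pC' chartC') Φh)
    (Φ : ((RelProj.domQ u p' chart' : P'.Opens) : Scheme.{u}) ⟶ P)
    (hΦ : RelProj.IsProjQMapOn u p chart p' chart' (RelProj.domQ u p' chart') Φ)
    (r : ((RelCone.pointedProjCone 𝒮 hz pC chartC : PC.Opens) : Scheme.{u}) ⟶ P)
    (hr : RelProj.IsProjQMapOn (RelProj.QGrHom.ofHom ι hz.graded) p chart pC chartC
      (RelCone.pointedProjCone 𝒮 hz pC chartC) r)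
    (r' : ((RelCone.pointedProjCone 𝒮' hz' pC' chartC' : PC'.Opens) : Scheme.{u}) ⟶ P')
    (hr' : RelProj.IsProjQMapOn (RelProj.QGrHom.ofHom ι' hz'.graded) p' chart' pC' chartC'
      (RelCone.pointedProjCone 𝒮' hz' pC' chartC') r')
    (T : Scheme.{u}) (a : T ⟶ ((RelCone.pointedProjCone 𝒮' hz' pC' chartC' : PC'.Opens) : Scheme.{u}))
    (b : T ⟶ ((RelProj.domQ uh pC' chartC' : PC'.Opens) : Scheme.{u}))
    (c : T ⟶ ((RelCone.pointedProjCone 𝒮 hz pC chartC : PC.Opens) : Scheme.{u}))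
    (hab : a ≫ (RelCone.pointedProjCone 𝒮' hz' pC' chartC').ι = b ≫ (RelProj.domQ uh pC' chartC').ι)
    (hbc : b ≫ Φh = c ≫ (RelCone.pointedProjCone 𝒮 hz pC chartC).ι)
    (d : T ⟶ ((RelProj.domQ u p' chart' : P'.Opens) : Scheme.{u}))
    (had : a ≫ r' = d ≫ (RelProj.domQ u p' chart').ι) : c ≫ r = d ≫ Φ := by
  obtain ⟨vw, hvw⟩ := exists_projQMapOn (preComp ι hz.graded uh) hP hC'
  have hB := comp_general (RelProj.QGrHom.ofHom ι hz.graded) uh (preComp ι hz.graded uh)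
    (Category.comp_id q) (hcomp_B ι hz.graded uh) hC hC'
    _ (pointedProjCone_eq_domQ hz hC) r hr _ rfl Φh hΦh _ rfl vw hvw b c hbc
  have hA := comp_general u (RelProj.QGrHom.ofHom ι' hz'.graded) (preComp ι hz.graded uh)
    (Category.id_comp q) (hcomp_A u ι' hz'.graded (preComp ι hz.graded uh) huh) hP' hC'
    _ rfl Φ hΦ _ (pointedProjCone_eq_domQ hz' hC') r' hr' _ rfl vw hvw a d had
  have hrange : Set.range (b ≫ (RelProj.domQ uh pC' chartC').ι).base ⊆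
      Set.range (RelProj.domQ (preComp ι hz.graded uh) pC' chartC').ι.base := by
    rw [Scheme.Opens.range_ι]; exact hB.1
  have hγ : IsOpenImmersion.lift (RelProj.domQ (preComp ι hz.graded uh) pC' chartC').ι
      (b ≫ (RelProj.domQ uh pC' chartC').ι) hrange ≫
      (RelProj.domQ (preComp ι hz.graded uh) pC' chartC').ι = b ≫ (RelProj.domQ uh pC' chartC').ι :=
    IsOpenImmersion.lift_fac _ _ _
  generalize IsOpenImmersion.lift (RelProj.domQ (preComp ι hz.graded uh) pC' chartC').ι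
      (b ≫ (RelProj.domQ uh pC' chartC').ι) hrange = γ at hγ
  exact (hB.2 γ hγ).symm.trans (hA.2 γ (hγ.trans hab.symm))

end main

end Groth.Agent.ConeFun
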