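import Mathlib
import Groth.Prelude.Def_RelProj4
import Groth.Agent.Lib.ProjQ6_helper5
import Groth.Agent.Lib.ConeFun2_helper5
import Groth.Agent.Lib.RelProjTN5_helper5

/-!
# `Proj(u ∘ v) = Proj(v) ∘ Proj(u)` for a graded homomorphism `v : 𝒯 → 𝒮` on the base and a graded
`q`-morphism `u : 𝒮 → 𝒮L`  (helper5)

`G(u ∘ v) = r⁻¹(G(v)) ⊆ G(u)` and `r' = Φ ∘ ρ`, `ρ = r|G(u ∘ v) : G(u ∘ v) → G(v)`.
-/

set_option autoImplicit false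
universe u
open AlgebraicGeometry CategoryTheory CategoryTheory.Limits HomogeneousLocalization Opposite TopologicalSpace
open scoped HomogeneousIdeal

noncomputable section

namespace Groth.Agent.ProjQComp

open Groth.Agent.RelProjTN Groth.Agent.ProjQ Groth.Agent.ConeFun RelProj

section comp
variable {Y₁ Y₂ Y₃ P₂ P₃ : Scheme.{u}} {g₁ : Y₂ ⟶ Y₁} {g₂ : Y₃ ⟶ Y₂} {g₁₂ : Y₃ ⟶ Y₁}
  {𝒮₁ : RelProj.QCGrAlg Y₁} {𝒮₂ : RelProj.QCGrAlg Y₂} {𝒮₃ : RelProj.QCGrAlg Y₃}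
  (u₁ : RelProj.QGrHom g₁ 𝒮₁ 𝒮₂) (u₂ : RelProj.QGrHom g₂ 𝒮₂ 𝒮₃) (u₁₂ : RelProj.QGrHom g₁₂ 𝒮₁ 𝒮₃)
  {p₂ : P₂ ⟶ Y₂}
  {chart₂ : ∀ (U : Y₂.Opens) (hU : IsAffineOpen U), (((p₂ ⁻¹ᵁ U : P₂.Opens) : Scheme.{u}) ≅ Proj (𝒮₂.deg U hU))}
  {p₃ : P₃ ⟶ Y₃}
  {chart₃ : ∀ (U : Y₃.Opens) (hU : IsAffineOpen U), (((p₃ ⁻¹ᵁ U : P₃.Opens) : Scheme.{u}) ≅ Proj (𝒮₃.deg U hU))}

/-- A point of `G(u₁₂)` lies in `G(u₂)` and is mapped by `Proj(u₂)` into `G(u₁)`. -/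
theorem mem_domQ_comp (hg : g₂ ≫ g₁ = g₁₂)
    (hcomp : ∀ (U₁ : Y₁.Opens) (hU₁ : IsAffineOpen U₁) (U₂ : Y₂.Opens) (hU₂ : IsAffineOpen U₂)
      (hle₁ : U₂ ≤ g₁ ⁻¹ᵁ U₁) (U₃ : Y₃.Opens) (hU₃ : IsAffineOpen U₃) (hle₂ : U₃ ≤ g₂ ⁻¹ᵁ U₂)
      (hle₁₂ : U₃ ≤ g₁₂ ⁻¹ᵁ U₁) (a : 𝒮₁.presheaf.obj (op U₁)),
      u₂.gradedAt U₂ hU₂ U₃ hU₃ hle₂ (u₁.gradedAt U₁ hU₁ U₂ hU₂ hle₁ a) =
        u₁₂.gradedAt U₁ hU₁ U₃ hU₃ hle₁₂ a)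
    (hP₂ : RelProj.IsRelProj 𝒮₂ p₂ chart₂) (hP₃ : RelProj.IsRelProj 𝒮₃ p₃ chart₃)
    (v₂ : ((RelProj.domQ u₂ p₃ chart₃ : P₃.Opens) : Scheme.{u}) ⟶ P₂)
    (hv₂ : RelProj.IsProjQMapOn u₂ p₂ chart₂ p₃ chart₃ (RelProj.domQ u₂ p₃ chart₃) v₂)
    (x : P₃) (hx : x ∈ RelProj.domQ u₁₂ p₃ chart₃) :
    ∃ hx₂ : x ∈ RelProj.domQ u₂ p₃ chart₃, v₂.base ⟨x, hx₂⟩ ∈ RelProj.domQ u₁ p₂ chart₂ := by
  subst hg
  obtain ⟨U₁, hU₁, U₂, hU₂, hle₁, U₃, hU₃, hle₂, hy₃⟩ :=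
    exists_triple (g₁ := g₁) (g₂ := g₂) (p₃.base x)
  have hle₁₂ : U₃ ≤ (g₂ ≫ g₁) ⁻¹ᵁ U₁ := by
    rw [Scheme.Hom.comp_preimage]
    exact hle₂.trans (g₂.preimage_mono hle₁)
  have hxU₃ : x ∈ p₃ ⁻¹ᵁ U₃ := hy₃
  obtain ⟨d, hd, f, hf, hfr⟩ := exists_idx_at u₁₂ hP₃ x hx U₁ hU₁ U₃ hU₃ hle₁₂ hxU₃
  have h1 : zpt p₃ chart₃ U₃ hU₃ x hxU₃ ∈ Proj.basicOpen (𝒮₃.deg U₃ hU₃)
      (u₁₂.gradedAt U₁ hU₁ U₃ hU₃ hle₁₂ f) :=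
    (mem_range_cP_iff u₁₂ ⟨U₁, hU₁, U₃, hU₃, hle₁₂, d, hd, f, hf⟩ x hxU₃).mp hfr
  rw [← hcomp U₁ hU₁ U₂ hU₂ hle₁ U₃ hU₃ hle₂ hle₁₂ f] at h1
  have hx₂ : x ∈ RelProj.domQ u₂ p₃ chart₃ :=
    mem_domQ_of_mem_domOpen u₂ x U₂ hU₂ U₃ hU₃ hle₂ hxU₃
      (mem_domOpen_of_mem_basicOpen _ hd ((u₁.gradedAt U₁ hU₁ U₂ hU₂ hle₁).map_mem hf) _ h1)
  refine ⟨hx₂, ?_⟩
  have hvx : v₂.base ⟨x, hx₂⟩ ∈ p₂ ⁻¹ᵁ U₂ :=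
    projQ_mem_preimage u₂ hP₂ hP₃ _ rfl v₂ hv₂ ⟨x, hx₂⟩ U₂ U₃ hle₂ hxU₃
  have h2 := (projQ_mem_basicOpen_iff u₂ hP₃ _ rfl v₂ hv₂ ⟨x, hx₂⟩ U₂ hU₂ U₃ hU₃ hle₂ hxU₃ hvx hd
    ((u₁.gradedAt U₁ hU₁ U₂ hU₂ hle₁).map_mem hf)).mpr h1
  exact mem_domQ_of_mem_domOpen u₁ _ U₁ hU₁ U₂ hU₂ hle₁ hvx
    (mem_domOpen_of_mem_basicOpen _ hd hf _ h2)

/-- A point of `G(u₂)` mapped by `Proj(u₂)` into `G(u₁)` lies in `G(u₁₂)`. -/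
theorem mem_domQ_of_comp (hg : g₂ ≫ g₁ = g₁₂)
    (hcomp : ∀ (U₁ : Y₁.Opens) (hU₁ : IsAffineOpen U₁) (U₂ : Y₂.Opens) (hU₂ : IsAffineOpen U₂)
      (hle₁ : U₂ ≤ g₁ ⁻¹ᵁ U₁) (U₃ : Y₃.Opens) (hU₃ : IsAffineOpen U₃) (hle₂ : U₃ ≤ g₂ ⁻¹ᵁ U₂)
      (hle₁₂ : U₃ ≤ g₁₂ ⁻¹ᵁ U₁) (a : 𝒮₁.presheaf.obj (op U₁)),
      u₂.gradedAt U₂ hU₂ U₃ hU₃ hle₂ (u₁.gradedAt U₁ hU₁ U₂ hU₂ hle₁ a) =
        u₁₂.gradedAt U₁ hU₁ U₃ hU₃ hle₁₂ a)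
    (hP₂ : RelProj.IsRelProj 𝒮₂ p₂ chart₂) (hP₃ : RelProj.IsRelProj 𝒮₃ p₃ chart₃)
    (v₂ : ((RelProj.domQ u₂ p₃ chart₃ : P₃.Opens) : Scheme.{u}) ⟶ P₂)
    (hv₂ : RelProj.IsProjQMapOn u₂ p₂ chart₂ p₃ chart₃ (RelProj.domQ u₂ p₃ chart₃) v₂)
    (x₃ : ((RelProj.domQ u₂ p₃ chart₃ : P₃.Opens) : Scheme.{u}))
    (hx₂ : v₂.base x₃ ∈ RelProj.domQ u₁ p₂ chart₂) : x₃.1 ∈ RelProj.domQ u₁₂ p₃ chart₃ := by
  subst hg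
  obtain ⟨U₁, hU₁, U₂, hU₂, hle₁, U₃, hU₃, hle₂, d, hd, f, hf, hr⟩ :=
    comp_pt u₁ u₂ hP₂ hP₃ v₂ hv₂ x₃ hx₂
  have hle₁₂ : U₃ ≤ (g₂ ≫ g₁) ⁻¹ᵁ U₁ := by
    rw [Scheme.Hom.comp_preimage]
    exact hle₂.trans (g₂.preimage_mono hle₁)
  have hr' := mem_range_cP_of_c u₂ _ _ hr
  have hxU₃ : x₃.1 ∈ p₃ ⁻¹ᵁ U₃ := range_cP_subset u₂ _ _ hr'
  have h1 := (mem_range_cP_iff u₂ ⟨U₂, hU₂, U₃, hU₃, hle₂, d, hd,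
    u₁.gradedAt U₁ hU₁ U₂ hU₂ hle₁ f, (u₁.gradedAt U₁ hU₁ U₂ hU₂ hle₁).map_mem hf⟩ x₃.1 hxU₃).mp hr'
  have h2 : zpt p₃ chart₃ U₃ hU₃ x₃.1 hxU₃ ∈ Proj.basicOpen (𝒮₃.deg U₃ hU₃)
      (u₂.gradedAt U₂ hU₂ U₃ hU₃ hle₂ (u₁.gradedAt U₁ hU₁ U₂ hU₂ hle₁ f)) := h1
  rw [hcomp U₁ hU₁ U₂ hU₂ hle₁ U₃ hU₃ hle₂ hle₁₂ f] at h2
  have h3 := (mem_range_cP_iff u₁₂ ⟨U₁, hU₁, U₃, hU₃, hle₁₂, d, hd, f, hf⟩ x₃.1 hxU₃).mpr h2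
  have h4 := RelProj.range_awayEmb_subset_domQ u₁₂ p₃ chart₃ U₁ hU₁ U₃ hU₃ hle₁₂ hd f hf h3
  rw [Scheme.Opens.range_ι] at h4
  exact h4

end comp

section same
variable {Y X P PL P' : Scheme.{u}} {q : X ⟶ Y} {𝒮 𝒯 : RelProj.QCGrAlg Y} {𝒮L : RelProj.QCGrAlg X}
  (u : RelProj.QGrHom q 𝒮 𝒮L) (v : 𝒯.toQCAlg ⟶ 𝒮.toQCAlg) (hv : RelProj.IsGradedHom v)
  (u' : RelProj.QGrHom q 𝒯 𝒮L)
  {p : P ⟶ Y}
  {chart : ∀ (U : Y.Opens) (hU : IsAffineOpen U), (((p ⁻¹ᵁ U : P.Opens) : Scheme.{u}) ≅ Proj (𝒮.deg U hU))}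
  {pL : PL ⟶ X}
  {chartL : ∀ (U : X.Opens) (hU : IsAffineOpen U), (((pL ⁻¹ᵁ U : PL.Opens) : Scheme.{u}) ≅ Proj (𝒮L.deg U hU))}
  {p' : P' ⟶ Y}
  {chart' : ∀ (U : Y.Opens) (hU : IsAffineOpen U), (((p' ⁻¹ᵁ U : P'.Opens) : Scheme.{u}) ≅ Proj (𝒯.deg U hU))}

theorem eq_preComp (hu' : ∀ U : Y.Opens, u'.app U = v.hom.app (op U) ≫ u.app U) :
    u' = preComp v hv u := by
  obtain ⟨⟨app, nat, str⟩, mm⟩ := u'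
  have : app = fun U => v.hom.app (op U) ≫ u.app U := funext hu'
  subst this
  rfl

theorem hcomp (hu' : ∀ U : Y.Opens, u'.app U = v.hom.app (op U) ≫ u.app U)
    (U₁ : Y.Opens) (hU₁ : IsAffineOpen U₁) (U₂ : Y.Opens) (hU₂ : IsAffineOpen U₂)
    (hle₁ : U₂ ≤ (𝟙 Y : Y ⟶ Y) ⁻¹ᵁ U₁) (U₃ : X.Opens) (hU₃ : IsAffineOpen U₃) (hle₂ : U₃ ≤ q ⁻¹ᵁ U₂)
    (hle₁₂ : U₃ ≤ q ⁻¹ᵁ U₁) (a : 𝒯.presheaf.obj (op U₁)) :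
    u.gradedAt U₂ hU₂ U₃ hU₃ hle₂ ((RelProj.QGrHom.ofHom v hv).gradedAt U₁ hU₁ U₂ hU₂ hle₁ a) =
      u'.gradedAt U₁ hU₁ U₃ hU₃ hle₁₂ a := by
  rw [eq_preComp u v hv u' hu']
  exact hcomp_B v hv u U₁ hU₁ U₂ hU₂ hle₁ U₃ hU₃ hle₂ hle₁₂ a

/-- **Factorization**: `G(u') ⊆ G(u)`, `r` maps `G(u')` into `G(v)` by `ρ`, `r' = Φ ∘ ρ`, and
`G(u') = r⁻¹(G(v))`. -/
theorem exists_factor (hu' : ∀ U : Y.Opens, u'.app U = v.hom.app (op U) ≫ u.app U)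
    (hP : RelProj.IsRelProj 𝒮 p chart) (hPL : RelProj.IsRelProj 𝒮L pL chartL)
    (r : ((RelProj.domQ u pL chartL : PL.Opens) : Scheme.{u}) ⟶ P)
    (hr : RelProj.IsProjQMapOn u p chart pL chartL (RelProj.domQ u pL chartL) r)
    (Φ : ((RelProj.domQ (RelProj.QGrHom.ofHom v hv) p chart : P.Opens) : Scheme.{u}) ⟶ P')
    (hΦ : RelProj.IsProjQMapOn (RelProj.QGrHom.ofHom v hv) p' chart' p chart
      (RelProj.domQ (RelProj.QGrHom.ofHom v hv) p chart) Φ)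
    (r' : ((RelProj.domQ u' pL chartL : PL.Opens) : Scheme.{u}) ⟶ P')
    (hr' : RelProj.IsProjQMapOn u' p' chart' pL chartL (RelProj.domQ u' pL chartL) r') :
    ∃ (hle : RelProj.domQ u' pL chartL ≤ RelProj.domQ u pL chartL)
      (ρ : ((RelProj.domQ u' pL chartL : PL.Opens) : Scheme.{u}) ⟶
        ((RelProj.domQ (RelProj.QGrHom.ofHom v hv) p chart : P.Opens) : Scheme.{u})),
      ρ ≫ (RelProj.domQ (RelProj.QGrHom.ofHom v hv) p chart).ι = PL.homOfLE hle ≫ r ∧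
      r' = ρ ≫ Φ ∧
      ∀ x : ((RelProj.domQ u pL chartL : PL.Opens) : Scheme.{u}),
        r.base x ∈ RelProj.domQ (RelProj.QGrHom.ofHom v hv) p chart →
          x.1 ∈ RelProj.domQ u' pL chartL := by
  have hg : q ≫ 𝟙 Y = q := Category.comp_id q
  have hc := hcomp u v hv u' hu'
  have hle : RelProj.domQ u' pL chartL ≤ RelProj.domQ u pL chartL := fun x hx =>
    (mem_domQ_comp (RelProj.QGrHom.ofHom v hv) u u' hg hc hP hPL r hr x hx).1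
  have hmem : ∀ t : ((RelProj.domQ u' pL chartL : PL.Opens) : Scheme.{u}),
      r.base ((PL.homOfLE hle).base t) ∈ RelProj.domQ (RelProj.QGrHom.ofHom v hv) p chart := by
    intro t
    obtain ⟨h1, h2⟩ := mem_domQ_comp (RelProj.QGrHom.ofHom v hv) u u' hg hc hP hPL r hr t.1 t.2
    have e : (PL.homOfLE hle).base t = ⟨t.1, h1⟩ := by
      apply (RelProj.domQ u pL chartL).ι.isOpenEmbedding.injective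
      exact congrArg (fun m => m.base t) (PL.homOfLE_ι hle)
    rw [e]
    exact h2
  have hrange : Set.range (PL.homOfLE hle ≫ r).base ⊆
      Set.range (RelProj.domQ (RelProj.QGrHom.ofHom v hv) p chart).ι.base := by
    rw [Scheme.Opens.range_ι]
    rintro _ ⟨t, rfl⟩
    exact hmem t
  refine ⟨hle, IsOpenImmersion.lift (RelProj.domQ (RelProj.QGrHom.ofHom v hv) p chart).ι
    (PL.homOfLE hle ≫ r) hrange, IsOpenImmersion.lift_fac _ _ _, ?_, ?_⟩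
  · have hB := comp_general (RelProj.QGrHom.ofHom v hv) u u' hg hc hP hPL
      _ rfl Φ hΦ _ rfl r hr _ rfl r' hr' (PL.homOfLE hle)
      (IsOpenImmersion.lift (RelProj.domQ (RelProj.QGrHom.ofHom v hv) p chart).ι
        (PL.homOfLE hle ≫ r) hrange) (IsOpenImmersion.lift_fac _ _ _).symm
    have := hB.2 (𝟙 _) (by rw [Category.id_comp, PL.homOfLE_ι hle])
    rw [Category.id_comp] at this
    exact this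
  · intro x hx
    exact mem_domQ_of_comp (RelProj.QGrHom.ofHom v hv) u u' hg hc hP hPL r hr x hx

end same

/-- If `f ≫ g` is an open immersion and `g` is a monomorphism, then `f` is an open immersion. -/
theorem isOpenImmersion_of_comp_mono {X Y Z : Scheme.{u}} (f : X ⟶ Y) (g : Y ⟶ Z) [Mono g]
    [IsOpenImmersion (f ≫ g)] : IsOpenImmersion f := by
  -- `pullback.snd (f ≫ g) g : X ×_Z Y ⟶ Y` is an open immersion, `pullback.fst` is a split epi mono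
  have hfst : IsIso (pullback.fst (f ≫ g) g) := by
    have hw : 𝟙 X ≫ f ≫ g = f ≫ g := Category.id_comp _
    refine ⟨pullback.lift (𝟙 X) f hw, ?_, ?_⟩
    · apply pullback.hom_ext
      · rw [Category.assoc, pullback.lift_fst, Category.comp_id, Category.id_comp]
      · rw [← cancel_mono g]
        simp only [Category.assoc, pullback.lift_snd, Category.id_comp]
        rw [← pullback.condition]
    · exact pullback.lift_fst _ _ _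
  have : f = inv (pullback.fst (f ≫ g) g) ≫ pullback.snd (f ≫ g) g := by
    rw [IsIso.eq_inv_comp]
    rw [← cancel_mono g, Category.assoc, pullback.condition]
  rw [this]
  infer_instance

theorem isIso_homOfLE {X : Scheme.{u}} {U V : X.Opens} (h : U ≤ V) (h' : V ≤ U) :
    IsIso (X.homOfLE h) :=
  ⟨X.homOfLE h', by simp, by simp⟩

/-- Dense range passes to the restriction over an open, for `ρ = r|r⁻¹(W) : A → W`. -/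
theorem denseRange_restrict {A B P : Scheme.{u}} (W : P.Opens) (ρ : A ⟶ (W : Scheme.{u}))
    (ι' : A ⟶ B) (r : B ⟶ P) (h1 : ρ ≫ W.ι = ι' ≫ r)
    (h3 : ∀ x : B, r.base x ∈ W → ∃ t : A, ι'.base t = x) (hr : DenseRange r.base) :
    DenseRange ρ.base := by
  rw [DenseRange, dense_iff_inter_open]
  intro N hN hne
  obtain ⟨n, hn⟩ := hne
  have hopen : IsOpen (W.ι.base '' N) := W.ι.isOpenEmbedding.isOpenMap N hN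
  obtain ⟨_, ⟨n', hn', rfl⟩, ⟨x, hx⟩⟩ := hr.inter_open_nonempty _ hopen ⟨_, ⟨n, hn, rfl⟩⟩
  have hxW : r.base x ∈ W := by
    rw [hx]; exact n'.2
  obtain ⟨t, rfl⟩ := h3 x hxW
  refine ⟨n', hn', t, ?_⟩
  apply W.ι.isOpenEmbedding.injective
  rw [← hx]
  exact congrArg (fun m => m.base t) h1

/-- If `Φ ∘ ρ` has dense range and `Φ` is a closed embedding, then `ρ` has dense range. -/
theorem denseRange_of_comp_closedEmbedding {A B C : Type*} [TopologicalSpace A] [TopologicalSpace B]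
    [TopologicalSpace C] (ρ : A → B) (Φ : B → C) (hΦ : Topology.IsClosedEmbedding Φ)
    (h : DenseRange (Φ ∘ ρ)) : DenseRange ρ := by
  intro y
  have h1 : Φ y ∈ closure (Set.range (Φ ∘ ρ)) := h (Φ y)
  rw [Set.range_comp, hΦ.closure_image_eq] at h1
  obtain ⟨y', hy', e⟩ := h1
  rw [← hΦ.injective e]
  exact hy'

end Groth.Agent.ProjQComp
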