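import Mathlib

/-!
# Base change of degree-zero homogeneous localizations  (helper5)

For a pushout square of rings `A → A'`, `A → S`, `A' → S'`, `S → S'` with `S`, `S'` graded (structure
maps landing in degree `0`) and `ψ : S → S'` graded, the square `A → A'`, `A → S_(f)`, `A' → S'_(ψ f)`,
`S_(f) → S'_(ψ f)` is again a pushout.  Part 1: projections and the maps `G n`.
-/

set_option autoImplicit false
universe u
open HomogeneousLocalization

namespace Groth.Agent.AwayBC

section proj
variable {S : Type u} [CommRing S] {𝒜 : ℕ → AddSubgroup S} [GradedRing 𝒜] {d : ℕ} {f : S}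
  (hf : f ∈ 𝒜 d)

/-- `s ↦ s_{nd} / f^n`. -/
noncomputable def prM (n : ℕ) (s : S) : Away 𝒜 f :=
  Away.mk 𝒜 hf n (DirectSum.decompose 𝒜 s (n • d) : S) (SetLike.coe_mem _)

theorem prM_val (n : ℕ) (s : S) :
    (prM hf n s).val = Localization.mk (DirectSum.decompose 𝒜 s (n • d) : S)
      ⟨f ^ n, by use n⟩ := rfl

theorem prM_add (n : ℕ) (s t : S) : prM hf n (s + t) = prM hf n s + prM hf n t := by
  apply HomogeneousLocalization.val_injective
  rw [val_add, prM_val, prM_val, prM_val, DirectSum.decompose_add, DirectSum.add_apply,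
    AddSubgroup.coe_add, Localization.add_mk_self]

theorem prM_of_mem (n : ℕ) (s : S) (hs : s ∈ 𝒜 (n • d)) : prM hf n s = Away.mk 𝒜 hf n s hs := by
  apply HomogeneousLocalization.val_injective
  rw [prM_val, Away.val_mk, DirectSum.decompose_of_mem_same 𝒜 hs]

theorem prM_zero_mul (n : ℕ) (a s : S) (ha : a ∈ 𝒜 0) :
    prM hf n (a * s) = fromZeroRingHom 𝒜 (Submonoid.powers f) ⟨a, ha⟩ * prM hf n s := by
  apply HomogeneousLocalization.val_injective
  rw [val_mul, prM_val, prM_val, DirectSum.coe_decompose_mul_of_left_mem_zero 𝒜 ha]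
  show _ = Localization.mk a 1 * _
  rw [Localization.mk_mul, one_mul]

theorem prM_succ_mul (n : ℕ) (s : S) : prM hf (n + 1) (f * s) = prM hf n s := by
  apply HomogeneousLocalization.val_injective
  rw [prM_val, prM_val]
  have h1 : (n + 1) • d = d + n • d := by rw [add_smul, one_smul, add_comm]
  have h2 : (DirectSum.decompose 𝒜 (f * s) ((n + 1) • d) : S) =
      f * (DirectSum.decompose 𝒜 s (n • d) : S) := by
    rw [h1]; exact DirectSum.coe_decompose_mul_add_of_left_mem 𝒜 hf
  rw [h2, Localization.mk_eq_mk_iff, Localization.r_iff_exists]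
  refine ⟨1, ?_⟩
  simp only [OneMemClass.coe_one, one_mul]
  ring

theorem prM_add_mul (n k : ℕ) (s : S) : prM hf (n + k) (f ^ k * s) = prM hf n s := by
  induction k with
  | zero => simp
  | succ k ih =>
    rw [← add_assoc, pow_succ', mul_assoc, prM_succ_mul, ih]

end proj

end Groth.Agent.AwayBC
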