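import Mathlib
import Groth.Agent.Lib.AwayBC1_helper5

/-!
# Base change of degree-zero homogeneous localizations, part 2: the lift  (helper5)
-/

set_option autoImplicit false
universe u
open HomogeneousLocalization

namespace Groth.Agent.AwayBC

section mk
variable {S : Type u} [CommRing S] {𝒜 : ℕ → AddSubgroup S} [GradedRing 𝒜] {d : ℕ} {f : S}
  (hf : f ∈ 𝒜 d)

theorem mk_add_num (n : ℕ) (s t : S) (hs : s ∈ 𝒜 (n • d)) (ht : t ∈ 𝒜 (n • d)) :
    Away.mk 𝒜 hf n (s + t) (add_mem hs ht) = Away.mk 𝒜 hf n s hs + Away.mk 𝒜 hf n t ht := by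
  apply HomogeneousLocalization.val_injective
  rw [val_add, Away.val_mk, Away.val_mk, Away.val_mk, Localization.add_mk_self]

include hf in
theorem pow_mul_mem (n k : ℕ) (s : S) (hs : s ∈ 𝒜 (n • d)) : f ^ k * s ∈ 𝒜 ((n + k) • d) := by
  have h1 : f ^ k ∈ 𝒜 (k • d) := SetLike.pow_mem_graded k hf
  have h2 : (n + k) • d = k • d + n • d := by rw [add_smul, add_comm]
  rw [h2]
  exact SetLike.mul_mem_graded h1 hs

theorem mk_shift (n k : ℕ) (s : S) (hs : s ∈ 𝒜 (n • d)) :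
    Away.mk 𝒜 hf n s hs = Away.mk 𝒜 hf (n + k) (f ^ k * s) (pow_mul_mem hf n k s hs) := by
  apply HomogeneousLocalization.val_injective
  rw [Away.val_mk, Away.val_mk, Localization.mk_eq_mk_iff, Localization.r_iff_exists]
  refine ⟨1, ?_⟩
  simp only [OneMemClass.coe_one, one_mul]
  ring

theorem mk_congr (n n' : ℕ) (e : n = n') (s : S) (hs : s ∈ 𝒜 (n • d)) (hs' : s ∈ 𝒜 (n' • d)) :
    Away.mk 𝒜 hf n s hs = Away.mk 𝒜 hf n' s hs' := by
  subst e; rfl

theorem zero_mul_mk (n : ℕ) (a s : S) (ha : a ∈ 𝒜 0) (hs : s ∈ 𝒜 (n • d)) :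
    fromZeroRingHom 𝒜 (Submonoid.powers f) ⟨a, ha⟩ * Away.mk 𝒜 hf n s hs =
      Away.mk 𝒜 hf n (a * s) (by
        have := SetLike.mul_mem_graded ha hs
        rwa [zero_add] at this) := by
  apply HomogeneousLocalization.val_injective
  rw [val_mul, Away.val_mk, Away.val_mk]
  show Localization.mk a 1 * _ = _
  rw [Localization.mk_mul, one_mul]

end mk

section lift
variable {A A' S S' : Type u} [CommRing A] [CommRing A'] [CommRing S] [CommRing S']
  [Algebra A A'] [Algebra A S] [Algebra A' S'] [Algebra S S'] [Algebra A S']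
  [IsScalarTower A A' S'] [IsScalarTower A S S']
  {𝒜 : ℕ → AddSubgroup S} [GradedRing 𝒜] {ℬ : ℕ → AddSubgroup S'} [GradedRing ℬ]
  (ψ : 𝒜 →+*ᵍ ℬ) (hψ : ∀ s, ψ s = algebraMap S S' s)
  (h0 : ∀ a : A, algebraMap A S a ∈ 𝒜 0) (h0' : ∀ a' : A', algebraMap A' S' a' ∈ ℬ 0)
  (hP : Algebra.IsPushout A A' S S') {d : ℕ} {f : S} (hf : f ∈ 𝒜 d)
  {Q : Type u} [AddCommMonoid Q] [Module A Q] [Module A' Q] [IsScalarTower A A' Q]
  (g : Away 𝒜 f →+ Q)
  (hg : ∀ (a : A) (m : Away 𝒜 f),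
    g (fromZeroRingHom 𝒜 (Submonoid.powers f) ⟨algebraMap A S a, h0 a⟩ * m) = a • g m)

/-- `s ↦ g (s_{nd} / f^n)`, an `A`-linear map. -/
noncomputable def gn (n : ℕ) : S →ₗ[A] Q where
  toFun s := g (prM hf n s)
  map_add' s t := by rw [prM_add, map_add]
  map_smul' a s := by
    rw [Algebra.smul_def, prM_zero_mul hf n _ s (h0 a), hg]
    rfl

/-- The `A'`-linear extension of `gn n` to `S'`. -/
noncomputable def G (n : ℕ) : S' →ₗ[A'] Q := hP.out.lift (gn h0 hf g hg n)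

theorem G_alg (n : ℕ) (s : S) : G h0 hP hf g hg n (algebraMap S S' s) = g (prM hf n s) :=
  hP.out.lift_eq (gn h0 hf g hg n) s

include hψ in
theorem G_succ (n : ℕ) (y : S') : G h0 hP hf g hg (n + 1) (ψ f * y) = G h0 hP hf g hg n y := by
  have key : (G h0 hP hf g hg (n + 1)).comp (LinearMap.mulLeft A' (ψ f)) = G h0 hP hf g hg n := by
    refine hP.out.algHom_ext _ _ (fun s => ?_)
    show G h0 hP hf g hg (n + 1) (ψ f * algebraMap S S' s) = G h0 hP hf g hg n (algebraMap S S' s)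
    rw [hψ f, ← map_mul, G_alg, G_alg, prM_succ_mul]
  exact LinearMap.congr_fun key y

include hψ in
theorem G_add_mul (n k : ℕ) (y : S') :
    G h0 hP hf g hg (n + k) (ψ f ^ k * y) = G h0 hP hf g hg n y := by
  induction k with
  | zero => simp
  | succ k ih =>
    rw [← add_assoc, pow_succ', mul_assoc, G_succ ψ hψ, ih]

include hψ in
/-- Independence of the representation of a fraction. -/
theorem G_indep (n n' : ℕ) (b b' : S') (hb : b ∈ ℬ (n • d)) (hb' : b' ∈ ℬ (n' • d))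
    (h : Away.mk ℬ (ψ.map_mem hf) n b hb = Away.mk ℬ (ψ.map_mem hf) n' b' hb') :
    G h0 hP hf g hg n b = G h0 hP hf g hg n' b' := by
  have hv := congrArg HomogeneousLocalization.val h
  rw [Away.val_mk, Away.val_mk, Localization.mk_eq_mk_iff, Localization.r_iff_exists] at hv
  obtain ⟨⟨c, m, rfl⟩, hc⟩ := hv
  simp only at hc
  have e : n + (n' + m) = n' + (n + m) := by omega
  have hnum : ψ f ^ (n' + m) * b = ψ f ^ (n + m) * b' := by
    rw [pow_add, pow_add]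
    linear_combination hc
  calc G h0 hP hf g hg n b = G h0 hP hf g hg (n + (n' + m)) (ψ f ^ (n' + m) * b) :=
        (G_add_mul ψ hψ h0 hP hf g hg n (n' + m) b).symm
    _ = G h0 hP hf g hg (n' + (n + m)) (ψ f ^ (n + m) * b') := by rw [e, hnum]
    _ = G h0 hP hf g hg n' b' := G_add_mul ψ hψ h0 hP hf g hg n' (n + m) b'

/-- The lift of `g` to `S'_(ψ f)`, as a function. -/
noncomputable def liftFun (x : Away ℬ (ψ f)) : Q :=
  G h0 hP hf g hg (Classical.choose (Away.mk_surjective ℬ (ψ.map_mem hf) x))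
    (Classical.choose (Classical.choose_spec (Away.mk_surjective ℬ (ψ.map_mem hf) x)))

include hψ in
theorem liftFun_mk (n : ℕ) (b : S') (hb : b ∈ ℬ (n • d)) :
    liftFun ψ h0 hP hf g hg (Away.mk ℬ (ψ.map_mem hf) n b hb) = G h0 hP hf g hg n b := by
  obtain ⟨hb₀, hx⟩ := Classical.choose_spec (Classical.choose_spec
    (Away.mk_surjective ℬ (ψ.map_mem hf) (Away.mk ℬ (ψ.map_mem hf) n b hb)))
  exact G_indep ψ hψ h0 hP hf g hg _ _ _ _ hb₀ hb hx

include hψ in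
theorem liftFun_add (x y : Away ℬ (ψ f)) :
    liftFun ψ h0 hP hf g hg (x + y) = liftFun ψ h0 hP hf g hg x + liftFun ψ h0 hP hf g hg y := by
  obtain ⟨n, b, hb, rfl⟩ := Away.mk_surjective ℬ (ψ.map_mem hf) x
  obtain ⟨n', b', hb', rfl⟩ := Away.mk_surjective ℬ (ψ.map_mem hf) y
  have e : n' + n = n + n' := by omega
  have h1 : Away.mk ℬ (ψ.map_mem hf) n b hb =
      Away.mk ℬ (ψ.map_mem hf) (n + n') (ψ f ^ n' * b) (pow_mul_mem (ψ.map_mem hf) n n' b hb) :=
    mk_shift (ψ.map_mem hf) n n' b hb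
  have hb'' : ψ f ^ n * b' ∈ ℬ ((n + n') • d) := by
    have := pow_mul_mem (ψ.map_mem hf) n' n b' hb'
    rwa [e] at this
  have h2 : Away.mk ℬ (ψ.map_mem hf) n' b' hb' =
      Away.mk ℬ (ψ.map_mem hf) (n + n') (ψ f ^ n * b') hb'' :=
    (mk_shift (ψ.map_mem hf) n' n b' hb').trans (mk_congr (ψ.map_mem hf) _ _ e _ _ _)
  rw [liftFun_mk ψ hψ, liftFun_mk ψ hψ, h1, h2, ← mk_add_num, liftFun_mk ψ hψ, map_add,
    G_add_mul ψ hψ]
  congr 1
  have := G_add_mul ψ hψ h0 hP hf g hg n' n b'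
  rw [e] at this
  exact this

include hψ in
theorem liftFun_smul (a' : A') (x : Away ℬ (ψ f)) :
    liftFun ψ h0 hP hf g hg
      (fromZeroRingHom ℬ (Submonoid.powers (ψ f)) ⟨algebraMap A' S' a', h0' a'⟩ * x) =
      a' • liftFun ψ h0 hP hf g hg x := by
  obtain ⟨n, b, hb, rfl⟩ := Away.mk_surjective ℬ (ψ.map_mem hf) x
  refine (congrArg (liftFun ψ h0 hP hf g hg)
    (zero_mul_mk (ψ.map_mem hf) n _ b (h0' a') hb)).trans ?_
  rw [liftFun_mk ψ hψ, liftFun_mk ψ hψ, ← Algebra.smul_def, map_smul]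

include hψ in
theorem liftFun_map (m : Away 𝒜 f) : liftFun ψ h0 hP hf g hg (Away.map ψ f m) = g m := by
  obtain ⟨n, a, ha, rfl⟩ := Away.mk_surjective 𝒜 hf m
  rw [Away.map_mk, liftFun_mk ψ hψ, hψ a, G_alg, prM_of_mem hf n a ha]

end lift

end Groth.Agent.AwayBC
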