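import Mathlib
import Groth.Agent.Lib.AwayBC2_helper5

/-!
# Base change of degree-zero homogeneous localizations, part 3: the pushout square  (helper5)
-/

set_option autoImplicit false
universe u
open HomogeneousLocalization CategoryTheory

namespace Groth.Agent.AwayBC

section homs
variable {A S : Type u} [CommRing A] [CommRing S] {𝒜 : ℕ → AddSubgroup S} [GradedRing 𝒜]

/-- Corestriction of a ring homomorphism landing in degree zero. -/
def zeroHom (s : A →+* S) (hs : ∀ x, s x ∈ 𝒜 0) : A →+* 𝒜 0 where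
  toFun r := ⟨s r, hs r⟩
  map_one' := Subtype.ext (map_one _)
  map_mul' a b := Subtype.ext (map_mul _ a b)
  map_zero' := Subtype.ext (map_zero _)
  map_add' a b := Subtype.ext (map_add _ a b)

/-- The structure map `A → S_(f)`. -/
def toAwayHom (s : A →+* S) (hs : ∀ x, s x ∈ 𝒜 0) (f : S) : A →+* Away 𝒜 f :=
  (fromZeroRingHom 𝒜 (Submonoid.powers f)).comp (zeroHom s hs)

theorem toAwayHom_apply (s : A →+* S) (hs : ∀ x, s x ∈ 𝒜 0) (f : S) (a : A) :
    toAwayHom s hs f a = fromZeroRingHom 𝒜 (Submonoid.powers f) ⟨s a, hs a⟩ := rfl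

end homs

section unique
variable {A A' S S' : Type u} [CommRing A] [CommRing A'] [CommRing S] [CommRing S']
  [Algebra A A'] [Algebra A S] [Algebra A' S'] [Algebra S S'] [Algebra A S']
  [IsScalarTower A A' S'] [IsScalarTower A S S']
  {𝒜 : ℕ → AddSubgroup S} [GradedRing 𝒜] {ℬ : ℕ → AddSubgroup S'} [GradedRing ℬ]
  (ψ : 𝒜 →+*ᵍ ℬ) (hψ : ∀ s, ψ s = algebraMap S S' s)
  (h0 : ∀ a : A, algebraMap A S a ∈ 𝒜 0) (h0' : ∀ a' : A', algebraMap A' S' a' ∈ ℬ 0)
  (hP : Algebra.IsPushout A A' S S') {d : ℕ} {f : S} (hf : f ∈ 𝒜 d)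
  {Q : Type u} [AddCommMonoid Q] [Module A Q] [Module A' Q] [IsScalarTower A A' Q]
  (g : Away 𝒜 f →+ Q)
  (hg : ∀ (a : A) (m : Away 𝒜 f),
    g (fromZeroRingHom 𝒜 (Submonoid.powers f) ⟨algebraMap A S a, h0 a⟩ * m) = a • g m)

theorem prM_map (n : ℕ) (s : S) :
    prM (ψ.map_mem hf) n (ψ s) = Away.map ψ f (prM hf n s) := by
  unfold prM
  rw [Away.map_mk]
  apply HomogeneousLocalization.val_injective
  rw [Away.val_mk, Away.val_mk, GradedRingHom.map_directSumDecompose]
  rfl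

include hψ in
theorem liftFun_unique (g'' : Away ℬ (ψ f) →+ Q)
    (hg'' : ∀ (a' : A') (x : Away ℬ (ψ f)),
      g'' (fromZeroRingHom ℬ (Submonoid.powers (ψ f)) ⟨algebraMap A' S' a', h0' a'⟩ * x) = a' • g'' x)
    (hext : ∀ m, g'' (Away.map ψ f m) = g m) (x : Away ℬ (ψ f)) :
    g'' x = liftFun ψ h0 hP hf g hg x := by
  obtain ⟨n, b, hb, rfl⟩ := Away.mk_surjective ℬ (ψ.map_mem hf) x
  rw [liftFun_mk ψ hψ]
  have key : gn h0' (ψ.map_mem hf) g'' hg'' n = G h0 hP hf g hg n := by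
    refine hP.out.algHom_ext _ _ (fun s => ?_)
    show g'' (prM (ψ.map_mem hf) n (algebraMap S S' s)) = G h0 hP hf g hg n (algebraMap S S' s)
    rw [G_alg, ← hψ s, prM_map, hext]
  rw [← key]
  show _ = g'' (prM (ψ.map_mem hf) n b)
  rw [prM_of_mem (ψ.map_mem hf) n b hb]

end unique

section pushout
variable {A A' S S' : Type u} [CommRing A] [CommRing A'] [CommRing S] [CommRing S']
  [Algebra A A'] [Algebra A S] [Algebra A' S'] [Algebra S S'] [Algebra A S']
  [IsScalarTower A A' S'] [IsScalarTower A S S']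
  {𝒜 : ℕ → AddSubgroup S} [GradedRing 𝒜] {ℬ : ℕ → AddSubgroup S'} [GradedRing ℬ]
  (ψ : 𝒜 →+*ᵍ ℬ) (hψ : ∀ s, ψ s = algebraMap S S' s)
  (h0 : ∀ a : A, algebraMap A S a ∈ 𝒜 0) (h0' : ∀ a' : A', algebraMap A' S' a' ∈ ℬ 0)
  (hP : Algebra.IsPushout A A' S S') {d : ℕ} {f : S} (hf : f ∈ 𝒜 d)

theorem fromZero_eq_mk {T : Type u} [CommRing T] {𝒯 : ℕ → AddSubgroup T} [GradedRing 𝒯] {e : ℕ} {t : T}
    (ht : t ∈ 𝒯 e) (x : T) (hx : x ∈ 𝒯 0) :
    fromZeroRingHom 𝒯 (Submonoid.powers t) ⟨x, hx⟩ =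
      Away.mk 𝒯 ht 0 x (by rw [zero_smul]; exact hx) := by
  apply HomogeneousLocalization.val_injective
  rw [Away.val_mk]
  show Localization.mk x 1 = _
  congr 1
  exact Subtype.ext (pow_zero t).symm

include hψ hf in
theorem map_toAwayHom (a : A) :
    Away.map ψ f (toAwayHom (algebraMap A S) h0 f a) =
      toAwayHom (algebraMap A' S') h0' (ψ f) (algebraMap A A' a) := by
  have h2 : ψ (algebraMap A S a) = algebraMap A' S' (algebraMap A A' a) := by
    rw [hψ, ← IsScalarTower.algebraMap_apply, ← IsScalarTower.algebraMap_apply]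
  rw [toAwayHom_apply, toAwayHom_apply, fromZero_eq_mk hf, Away.map_mk]
  refine Eq.trans ?_ (fromZero_eq_mk (ψ.map_mem hf) _ (h0' _)).symm
  apply HomogeneousLocalization.val_injective
  rw [Away.val_mk, Away.val_mk, h2]
  rfl

include hψ hP hf in
/-- **Base change of `S_(f)`**: the square `A → A'`, `A → S_(f)`, `A' → S'_(ψ f)`, `S_(f) → S'_(ψ f)`
is a pushout of commutative rings. -/
theorem isPushout_away :
    IsPushout (CommRingCat.ofHom (algebraMap A A'))
      (CommRingCat.ofHom (toAwayHom (algebraMap A S) h0 f))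
      (CommRingCat.ofHom (toAwayHom (algebraMap A' S') h0' (ψ f)))
      (CommRingCat.ofHom (Away.map ψ f)) := by
  letI : Algebra A (Away 𝒜 f) := (toAwayHom (algebraMap A S) h0 f).toAlgebra
  letI : Algebra A' (Away ℬ (ψ f)) := (toAwayHom (algebraMap A' S') h0' (ψ f)).toAlgebra
  letI : Algebra (Away 𝒜 f) (Away ℬ (ψ f)) := (Away.map ψ f).toAlgebra
  letI : Algebra A (Away ℬ (ψ f)) :=
    ((Away.map ψ f).comp (toAwayHom (algebraMap A S) h0 f)).toAlgebra
  haveI : IsScalarTower A (Away 𝒜 f) (Away ℬ (ψ f)) := IsScalarTower.of_algebraMap_eq' rfl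
  haveI : IsScalarTower A A' (Away ℬ (ψ f)) := IsScalarTower.of_algebraMap_eq' (by
    refine RingHom.ext (fun a => ?_)
    exact map_toAwayHom ψ hψ h0 h0' hf a)
  refine CommRingCat.isPushout_iff_isPushout.mpr ⟨?_⟩
  refine IsBaseChange.of_lift_unique _ (fun Q _ _ _ _ g => ?_)
  have hg : ∀ (a : A) (m : Away 𝒜 f),
      g.toAddMonoidHom (fromZeroRingHom 𝒜 (Submonoid.powers f) ⟨algebraMap A S a, h0 a⟩ * m) =
        a • g.toAddMonoidHom m := by
    intro a m
    have := g.map_smul a m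
    rw [Algebra.smul_def] at this
    exact this
  refine ⟨{ toFun := liftFun ψ h0 hP hf g.toAddMonoidHom hg
            map_add' := liftFun_add ψ hψ h0 hP hf g.toAddMonoidHom hg
            map_smul' := fun a' x => by
              rw [Algebra.smul_def]
              exact liftFun_smul ψ hψ h0 h0' hP hf g.toAddMonoidHom hg a' x }, ?_, ?_⟩
  · ext m
    exact liftFun_map ψ hψ h0 hP hf g.toAddMonoidHom hg m
  · intro g'' hg''
    ext x
    refine liftFun_unique ψ hψ h0 h0' hP hf g.toAddMonoidHom hg g''.toAddMonoidHom ?_ ?_ x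
    · intro a' y
      have := g''.map_smul a' y
      rw [Algebra.smul_def] at this
      exact this
    · intro m
      exact LinearMap.congr_fun hg'' m

end pushout

end Groth.Agent.AwayBC

namespace Groth.Agent.AwayBC

section cat
variable {A A' S S' : CommRingCat.{u}} {𝒜 : ℕ → AddSubgroup S} [GradedRing 𝒜]
  {ℬ : ℕ → AddSubgroup S'} [GradedRing ℬ]

/-- **Base change of `S_(f)`**, for a pushout square in `CommRingCat`. -/
theorem isPushout_away_cat (a : A ⟶ A') (s : A ⟶ S) (s' : A' ⟶ S') (t : S ⟶ S') (ψ : 𝒜 →+*ᵍ ℬ)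
    (ht : ∀ x, ψ x = t.hom x) (hs : ∀ x, s.hom x ∈ 𝒜 0) (hs' : ∀ x, s'.hom x ∈ ℬ 0)
    (hpo : IsPushout a s s' t) {d : ℕ} {f : S} (hf : f ∈ 𝒜 d) :
    IsPushout a (CommRingCat.ofHom (toAwayHom s.hom hs f))
      (CommRingCat.ofHom (toAwayHom s'.hom hs' (ψ f))) (CommRingCat.ofHom (Away.map ψ f)) := by
  letI : Algebra A A' := a.hom.toAlgebra
  letI : Algebra A S := s.hom.toAlgebra
  letI : Algebra A' S' := s'.hom.toAlgebra
  letI : Algebra S S' := t.hom.toAlgebra
  letI : Algebra A S' := (t.hom.comp s.hom).toAlgebra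
  haveI : IsScalarTower A S S' := IsScalarTower.of_algebraMap_eq' rfl
  haveI : IsScalarTower A A' S' := IsScalarTower.of_algebraMap_eq' (by
    have h := congrArg CommRingCat.Hom.hom hpo.w
    simp only [CommRingCat.hom_comp] at h
    exact h.symm)
  have hP : Algebra.IsPushout A A' S S' := CommRingCat.isPushout_iff_isPushout.mp hpo
  exact isPushout_away ψ ht hs hs' hP hf

end cat

end Groth.Agent.AwayBC
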