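import Mathlib
import Groth.Agent.Lib.SpecChart_helper5
import Groth.Agent.Lib.PullbackLocal_helper5

/-!
# A cartesian-square criterion over an affine base, by affine charts  (helper5)
-/

set_option autoImplicit false
universe u

namespace Groth.Agent.RelProjEx

open CategoryTheory Limits AlgebraicGeometry TopologicalSpace Opposite
open Groth.Agent.PullbackLocal Groth.Agent.SpecChart

/-- Global functions of an affine base, read on an affine chart. -/
theorem appLE_top_gam {X : Scheme.{u}} {A R : CommRingCat.{u}} (j : Spec R ⟶ X) [IsOpenImmersion j]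
    (q : X ⟶ Spec A) (κ : A ⟶ R) (hj : j ≫ q = Spec.map κ) (hT : j.opensRange ≤ q ⁻¹ᵁ ⊤) :
    q.appLE ⊤ j.opensRange hT ≫ gam j = (Scheme.ΓSpecIso A).hom ≫ κ := by
  unfold gam
  rw [← Category.assoc, Scheme.Hom.appLE_comp_appLE,
    appLE_congr hj _ _ _ (show (⊤ : (Spec R).Opens) ≤ (Spec.map κ) ⁻¹ᵁ ⊤ from le_top)]
  exact Scheme.ΓSpecIso_naturality _

/-- A commutative square over `Spec A' ⟶ Spec A` is cartesian if it is so on matching affine charts. -/
theorem isPullback_of_charts {T U₁ : Scheme.{u}} {A A' : CommRingCat.{u}} (α : A ⟶ A')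
    (k : T ⟶ Spec A) (a₁ : U₁ ⟶ T) (u : U₁ ⟶ Spec A') (hc : a₁ ≫ k = u ≫ Spec.map α)
    (H : ∀ t : T, ∃ (R R' : CommRingCat.{u}) (j : Spec R ⟶ T) (j' : Spec R' ⟶ U₁)
      (_ : IsOpenImmersion j) (_ : IsOpenImmersion j') (κ : A ⟶ R) (κ' : A' ⟶ R') (ρ : R ⟶ R'),
      t ∈ j.opensRange ∧ j'.opensRange = a₁ ⁻¹ᵁ j.opensRange ∧ j ≫ k = Spec.map κ ∧
        j' ≫ u = Spec.map κ' ∧ j' ≫ a₁ = Spec.map ρ ≫ j ∧ IsPushout α κ κ' ρ) :
    IsPullback a₁ u k (Spec.map α) := by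
  refine isPullback_of_local k (Spec.map α) a₁ u hc (fun t x _ => ?_)
  obtain ⟨R, R', j, j', hj, hj', κ, κ', ρ, ht, hr, e1, e2, e3, hpo⟩ := H t
  have eU : j'.opensRange = a₁ ⁻¹ᵁ j.opensRange ⊓ u ⁻¹ᵁ ⊤ := by
    rw [hr]
    exact (inf_of_le_left le_top).symm
  refine ⟨⊤, j.opensRange, ⊤, j'.opensRange, le_top, le_top, eU, ht, trivial, isAffineOpen_top _,
    isAffineOpen_opensRange _, isAffineOpen_top _, isAffineOpen_opensRange _, ?_⟩
  have c1 := appLE_top_gam j k κ e1 le_top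
  have c2 := appLE_top_gam j' u κ' e2 le_top
  have c3 := appLE_gam_gam j j' a₁ ρ e3 (eU.le.trans inf_le_left)
  refine IsPushout.of_iso hpo.flip (Scheme.ΓSpecIso A).symm (asIso (gam j)).symm
    (Scheme.ΓSpecIso A').symm (asIso (gam j')).symm ?_ ?_ ?_ ?_
  · rw [Iso.symm_hom, asIso_inv, Iso.symm_hom, IsIso.comp_inv_eq, Category.assoc, Iso.eq_inv_comp]
    exact c1.symm
  · rw [Iso.symm_hom, Iso.symm_hom, Iso.comp_inv_eq, Category.assoc, Iso.eq_inv_comp]
    exact (Scheme.ΓSpecIso_naturality α).symm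
  · rw [Iso.symm_hom, asIso_inv, Iso.symm_hom, asIso_inv, IsIso.comp_inv_eq, Category.assoc,
      IsIso.eq_inv_comp]
    exact c3.symm
  · rw [Iso.symm_hom, asIso_inv, Iso.symm_hom, IsIso.comp_inv_eq, Category.assoc, Iso.eq_inv_comp]
    exact c2.symm

end Groth.Agent.RelProjEx
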