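import Mathlib
import Groth.Prelude.Def_RelProj4
import Groth.Agent.Lib.RelProjEx1_helper5
import Groth.Agent.Lib.AwayBC3_helper5
import Groth.Agent.Lib.ProjQ2_helper5
import Groth.Agent.Lib.ProjMap_helper3
import Groth.Agent.Lib.ConeRetr1_helper5

/-!
# Restriction to a basic open: `Proj 𝒮(D(r)) = Proj 𝒮(V) ×_V D(r)`  (helper5)
-/

set_option autoImplicit false
universe u
open AlgebraicGeometry CategoryTheory CategoryTheory.Limits HomogeneousLocalization Opposite TopologicalSpace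
open scoped HomogeneousIdeal

noncomputable section

namespace Groth.Agent.RelProjEx

open Groth.Agent.AwayBC Groth.Agent.ProjQ Groth.Agent.SpecChart

variable {Y : Scheme.{u}} (𝒮 : RelProj.QCGrAlg Y)

/-- The structure morphism `Proj 𝒮(V) ⟶ Spec O(V)`. -/
def kk (V : Y.Opens) (hV : IsAffineOpen V) : Proj (𝒮.deg V hV) ⟶ Spec Γ(Y, V) :=
  Proj.toSpecZero (𝒮.deg V hV) ≫ Spec.map (𝒮.strZero V hV)

/-- The structure morphism `Proj 𝒮(V) ⟶ V`. -/
def aa (V : Y.Opens) (hV : IsAffineOpen V) : Proj (𝒮.deg V hV) ⟶ (V : Scheme.{u}) :=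
  kk 𝒮 V hV ≫ hV.isoSpec.inv

section
variable {V U : Y.Opens} (hV : IsAffineOpen V) (hU : IsAffineOpen U) (hUV : U ≤ V)
  (hbas : ∃ r : Γ(Y, V), U = Y.basicOpen r)

include hV hU hbas in
theorem isPushout_res :
    IsPushout (Y.presheaf.map (homOfLE hUV).op) (𝒮.str.app (op V)) (𝒮.str.app (op U))
      (𝒮.presheaf.map (homOfLE hUV).op) := by
  obtain ⟨r, rfl⟩ := hbas
  exact 𝒮.toQCAlg.coequifibered
    (homOfLE (Scheme.AffineZariskiSite.basicOpen_le (⟨V, hV⟩ : Y.AffineZariskiSite) r)).op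

theorem strZero_res :
    𝒮.strZero V hV ≫ CommRingCat.ofHom (𝒮.res hV hU hUV).gradedZeroRingHom =
      Y.presheaf.map (homOfLE hUV).op ≫ 𝒮.strZero U hU := by
  ext r
  have := congrArg (fun q => q.hom r) (𝒮.str.naturality (homOfLE hUV).op)
  simp only [CommRingCat.hom_comp, RingHom.comp_apply] at this
  exact this.symm

theorem map_kk :
    Proj.map (𝒮.res hV hU hUV) (irrelevant_le_map' 𝒮 hV hU hUV hbas) ≫ kk 𝒮 V hV =
      kk 𝒮 U hU ≫ Spec.map (Y.presheaf.map (homOfLE hUV).op) := by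
  unfold kk
  rw [← Category.assoc, Groth.Agent.Lib.ProjMap_helper3.map_toSpecZero, Category.assoc,
    Category.assoc, ← Spec.map_comp, ← Spec.map_comp, strZero_res]

theorem awayι_kk (V : Y.Opens) (hV : IsAffineOpen V) {d : ℕ} (hd : 0 < d)
    (f : 𝒮.presheaf.obj (op V)) (hf : f ∈ 𝒮.deg V hV d) :
    Proj.awayι (𝒮.deg V hV) f hf hd ≫ kk 𝒮 V hV =
      Spec.map (CommRingCat.ofHom (toAwayHom (𝒮.str.app (op V)).hom (𝒮.str_mem V hV) f)) := by
  unfold kk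
  rw [← Category.assoc, Proj.awayι_toSpecZero, ← Spec.map_comp]
  rfl

/-- `Proj 𝒮(D(r)) = Proj 𝒮(V) ×_{Spec O(V)} Spec O(D(r))`. -/
theorem isPullback_kk :
    IsPullback (Proj.map (𝒮.res hV hU hUV) (irrelevant_le_map' 𝒮 hV hU hUV hbas)) (kk 𝒮 U hU)
      (kk 𝒮 V hV) (Spec.map (Y.presheaf.map (homOfLE hUV).op)) := by
  refine isPullback_of_charts _ _ _ _ (map_kk 𝒮 hV hU hUV hbas) (fun t => ?_)
  obtain ⟨d, hd, f, hf, htf⟩ := Groth.Agent.ConeRetr.exists_homogeneous_not_mem t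
  have hψf : 𝒮.res hV hU hUV f ∈ 𝒮.deg U hU d := (𝒮.res hV hU hUV).map_mem hf
  refine ⟨_, _, Proj.awayι (𝒮.deg V hV) f hf hd,
    Proj.awayι (𝒮.deg U hU) (𝒮.res hV hU hUV f) hψf hd, inferInstance, inferInstance,
    CommRingCat.ofHom (toAwayHom (𝒮.str.app (op V)).hom (𝒮.str_mem V hV) f),
    CommRingCat.ofHom (toAwayHom (𝒮.str.app (op U)).hom (𝒮.str_mem U hU) (𝒮.res hV hU hUV f)),
    CommRingCat.ofHom (Away.map (𝒮.res hV hU hUV) f), ?_, ?_, awayι_kk 𝒮 V hV hd f hf,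
    awayι_kk 𝒮 U hU hd _ hψf, Proj.awayι_comp_map _ _ hd f hf, ?_⟩
  · rw [Proj.opensRange_awayι]
    exact htf
  · rw [Proj.opensRange_awayι, Proj.opensRange_awayι, Proj.map_preimage_basicOpen]
  · exact isPushout_away_cat (Y.presheaf.map (homOfLE hUV).op) (𝒮.str.app (op V))
      (𝒮.str.app (op U)) (𝒮.presheaf.map (homOfLE hUV).op) (𝒮.res hV hU hUV) (fun _ => rfl)
      (𝒮.str_mem V hV) (𝒮.str_mem U hU) (isPushout_res 𝒮 hV hU hUV hbas) hf

theorem specMap_isoSpec_inv :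
    Spec.map (Y.presheaf.map (homOfLE hUV).op) ≫ hV.isoSpec.inv = hU.isoSpec.inv ≫ Y.homOfLE hUV := by
  rw [← cancel_mono V.ι, Category.assoc, Category.assoc, IsAffineOpen.isoSpec_inv_ι,
    Scheme.homOfLE_ι, IsAffineOpen.isoSpec_inv_ι]
  exact hV.map_fromSpec hU (homOfLE hUV).op

/-- `Proj 𝒮(D(r)) = Proj 𝒮(V) ×_V D(r)`. -/
theorem isPullback_aa :
    IsPullback (Proj.map (𝒮.res hV hU hUV) (irrelevant_le_map' 𝒮 hV hU hUV hbas)) (aa 𝒮 U hU)
      (aa 𝒮 V hV) (Y.homOfLE hUV) := by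
  unfold aa
  exact (isPullback_kk 𝒮 hV hU hUV hbas).paste_vert
    (IsPullback.of_vert_isIso ⟨specMap_isoSpec_inv hV hU hUV⟩)

end

end Groth.Agent.RelProjEx
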