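import Mathlib
import Groth.Prelude.Def_RelProj4
import Groth.Agent.Lib.RelProjEx2_helper5
import Groth.Agent.Lib.RelProjTN4_helper5

/-!
# The relative gluing datum of the `Proj 𝒮(U)`  (helper5)
-/

set_option autoImplicit false
universe u
open AlgebraicGeometry CategoryTheory CategoryTheory.Limits HomogeneousLocalization Opposite TopologicalSpace
open scoped HomogeneousIdeal

noncomputable section

namespace Groth.Agent.RelProjEx

open Groth.Agent.AwayBC Groth.Agent.ProjQ Groth.Agent.SpecChart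

section abs
variable {A B σ τ : Type u} [CommRing A] [SetLike σ A] [AddSubgroupClass σ A]
  [CommRing B] [SetLike τ B] [AddSubgroupClass τ B]
  {𝒜 : ℕ → σ} [GradedRing 𝒜] {ℬ : ℕ → τ} [GradedRing ℬ]

theorem projMap_congr {ψ ψ' : 𝒜 →+*ᵍ ℬ} (e : ψ = ψ')
    (h : (HomogeneousIdeal.irrelevant ℬ) ≤ (HomogeneousIdeal.irrelevant 𝒜).map ψ)
    (h' : (HomogeneousIdeal.irrelevant ℬ) ≤ (HomogeneousIdeal.irrelevant 𝒜).map ψ') :
    Proj.map ψ h = Proj.map ψ' h' := by
  subst e; rfl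

end abs

variable {Y : Scheme.{u}} (𝒮 : RelProj.QCGrAlg Y)

theorem hbas_of_hom {U V : Y.AffineZariskiSite} (f : U ⟶ V) :
    ∃ r : Γ(Y, V.1), U.1 = Y.basicOpen r := by
  obtain ⟨r, hr⟩ := f.le
  exact ⟨r, hr.symm⟩

theorem le_of_hom' {U V : Y.AffineZariskiSite} (f : U ⟶ V) : U.1 ≤ V.1 :=
  Scheme.AffineZariskiSite.toOpens_mono f.le

/-- The transition morphism `Proj 𝒮(U) ⟶ Proj 𝒮(V)` for `U` basic in `V`. -/
def tr {U V : Y.AffineZariskiSite} (f : U ⟶ V) : Proj (𝒮.deg U.1 U.2) ⟶ Proj (𝒮.deg V.1 V.2) :=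
  Proj.map (𝒮.res V.2 U.2 (le_of_hom' f)) (irrelevant_le_map' 𝒮 V.2 U.2 (le_of_hom' f) (hbas_of_hom f))

theorem res_self {U : Y.Opens} (hU : IsAffineOpen U) (i : U ≤ U) :
    𝒮.res hU hU i = GradedRingHom.id (𝒮.deg U hU) := by
  apply DFunLike.ext
  intro x
  show (𝒮.presheaf.map (homOfLE i).op).hom x = x
  have : (homOfLE i).op = 𝟙 (op U) := Subsingleton.elim _ _
  rw [this, CategoryTheory.Functor.map_id]
  rfl

theorem res_comp {U V W : Y.Opens} (hU : IsAffineOpen U) (hV : IsAffineOpen V) (hW : IsAffineOpen W)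
    (i : V ≤ U) (j : W ≤ V) :
    𝒮.res hU hW (j.trans i) = (𝒮.res hV hW j).comp (𝒮.res hU hV i) := by
  apply DFunLike.ext
  intro x
  exact (Groth.Agent.RelProjTN.res_res 𝒮 i j x).symm

/-- The functor `U ↦ Proj 𝒮(U)` on the affine opens (with basic-open inclusions). -/
def projFunctor : Y.AffineZariskiSite ⥤ Scheme.{u} where
  obj U := Proj (𝒮.deg U.1 U.2)
  map f := tr 𝒮 f
  map_id U := by
    unfold tr
    rw [projMap_congr (res_self 𝒮 U.2 _) _ (by simp)]
    exact Proj.map_id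
  map_comp {U V W} f g := by
    unfold tr
    rw [projMap_congr (res_comp 𝒮 W.2 V.2 U.2 (le_of_hom' g) (le_of_hom' f)) _
      (HomogeneousIdeal.irrelevant_le_map_comp (irrelevant_le_map' 𝒮 W.2 V.2 (le_of_hom' g) (hbas_of_hom g))
        (irrelevant_le_map' 𝒮 V.2 U.2 (le_of_hom' f) (hbas_of_hom f)))]
    exact Proj.map_comp _ _ _ _

/-- The structure morphisms `Proj 𝒮(U) ⟶ U`. -/
def projNatTrans :
    projFunctor 𝒮 ⟶ (Scheme.AffineZariskiSite.directedCover Y).functorOfLocallyDirected where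
  app U := aa 𝒮 U.1 U.2
  naturality {U V} f := (isPullback_aa 𝒮 V.2 U.2 (le_of_hom' f) (hbas_of_hom f)).w

/-- The relative gluing datum of the `Proj 𝒮(U)`. -/
def projGlueData : (Scheme.AffineZariskiSite.directedCover Y).RelativeGluingData where
  functor := projFunctor 𝒮
  natTrans := projNatTrans 𝒮
  equifibered {U V} f := isPullback_aa 𝒮 V.2 U.2 (le_of_hom' f) (hbas_of_hom f)

end Groth.Agent.RelProjEx
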