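import Mathlib
import Groth.Prelude.Def_RelProj4
import Groth.Agent.Lib.RelProjEx3_helper5

/-!
# Existence of the relative homogeneous spectrum  (helper5)
-/

set_option autoImplicit false
universe u
open AlgebraicGeometry CategoryTheory CategoryTheory.Limits HomogeneousLocalization Opposite TopologicalSpace
open scoped HomogeneousIdeal

noncomputable section

namespace Groth.Agent.RelProjEx

open Groth.Agent.AwayBC Groth.Agent.ProjQ Groth.Agent.SpecChart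

variable {Y : Scheme.{u}} (𝒮 : RelProj.QCGrAlg Y)

instance : ((projGlueData 𝒮).functor ⋙ Scheme.forget).IsLocallyDirected :=
  Scheme.Cover.RelativeGluingData.instIsLocallyDirectedI₀CompFunctorForgetOfIsThin ..

/-- The relative homogeneous spectrum, glued from the `Proj 𝒮(U)`. -/
def PP : Scheme.{u} := (projGlueData 𝒮).glued

/-- The structure morphism. -/
def pp : PP 𝒮 ⟶ Y := (projGlueData 𝒮).toBase

/-- The chart immersion. -/
def ιι (U : Y.Opens) (hU : IsAffineOpen U) : Proj (𝒮.deg U hU) ⟶ PP 𝒮 :=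
  (projGlueData 𝒮).cover.f ⟨U, hU⟩

variable (U : Y.Opens) (hU : IsAffineOpen U)

instance : IsOpenImmersion (ιι 𝒮 U hU) := (projGlueData 𝒮).cover.map_prop _

theorem ιι_pp : ιι 𝒮 U hU ≫ pp 𝒮 = aa 𝒮 U hU ≫ U.ι :=
  colimit.ι_desc _ _

theorem pp_preimage : pp 𝒮 ⁻¹ᵁ U = (ιι 𝒮 U hU).opensRange := by
  simpa using! (projGlueData 𝒮).toBase_preimage_eq_opensRange_ι ⟨U, hU⟩

theorem ιι_res {U V : Y.AffineZariskiSite} (f : U ⟶ V) :
    tr 𝒮 f ≫ ιι 𝒮 V.1 V.2 = ιι 𝒮 U.1 U.2 :=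
  colimit.w (projGlueData 𝒮).functor f

/-- The chart over an affine open. -/
def chartP : ((pp 𝒮 ⁻¹ᵁ U : (PP 𝒮).Opens) : Scheme.{u}) ≅ Proj (𝒮.deg U hU) :=
  (PP 𝒮).isoOfEq (pp_preimage 𝒮 U hU) ≪≫ (ιι 𝒮 U hU).isoOpensRange.symm

theorem chartP_inv_ι : (chartP 𝒮 U hU).inv ≫ (pp 𝒮 ⁻¹ᵁ U).ι = ιι 𝒮 U hU := by
  unfold chartP
  rw [Iso.trans_inv, Iso.symm_inv, Category.assoc, Scheme.isoOfEq_inv_ι,
    Scheme.Hom.isoOpensRange_hom_ι]

theorem isRelProj : RelProj.IsRelProj 𝒮 (pp 𝒮) (chartP 𝒮) where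
  chart_over U hU := by
    rw [← cancel_epi (chartP 𝒮 U hU).inv, Iso.inv_hom_id_assoc]
    have h : (chartP 𝒮 U hU).inv ≫ (pp 𝒮 ⁻¹ᵁ U).ι ≫ pp 𝒮 = aa 𝒮 U hU ≫ U.ι := by
      rw [← Category.assoc, chartP_inv_ι, ιι_pp]
    rw [h]
    unfold aa kk
    simp only [Category.assoc]
    rfl
  chart_res U hU r := by
    rw [← cancel_epi (chartP 𝒮 (Y.basicOpen r) (hU.basicOpen r)).inv, Iso.inv_hom_id_assoc,
      ← cancel_mono (chartP 𝒮 U hU).inv, ← cancel_mono (pp 𝒮 ⁻¹ᵁ U).ι]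
    simp only [Category.assoc]
    rw [Iso.hom_inv_id_assoc, Scheme.homOfLE_ι, chartP_inv_ι, chartP_inv_ι]
    exact (ιι_res 𝒮 (homOfLE (Scheme.AffineZariskiSite.basicOpen_le
      (⟨U, hU⟩ : Y.AffineZariskiSite) r))).symm

/-- **Existence of the relative homogeneous spectrum.** -/
theorem exists_relProj :
    ∃ (P : Scheme.{u}) (p : P ⟶ Y)
      (chart : ∀ (U : Y.Opens) (hU : IsAffineOpen U),
        (((p ⁻¹ᵁ U : P.Opens) : Scheme.{u}) ≅ Proj (𝒮.deg U hU))),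
      RelProj.IsRelProj 𝒮 p chart :=
  ⟨PP 𝒮, pp 𝒮, chartP 𝒮, isRelProj 𝒮⟩

end Groth.Agent.RelProjEx
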