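import Mathlib

/-!
# The graded ring `R[T]` (`R` in degree `0`, `T` in degree `1`)  (helper5)

`S` graded, `ι : R →+* S` landing in degree `0`, `z ∈ S_1`, with `R[X] → S`, `X ↦ z`, bijective.
Then `S_k = ι(R) z^k`, `D_+(z) = Proj S` and `S_(z) ≅ R`.
-/

set_option autoImplicit false
universe u
open HomogeneousLocalization

namespace Groth.Agent.ConeImm

section
variable {R S : Type u} [CommRing R] [CommRing S] (𝒮 : ℕ → AddSubgroup S) [GradedRing 𝒮]
  (ι : R →+* S) (z : S)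

theorem mem_deg_term (hι : ∀ a, ι a ∈ 𝒮 0) (hz : z ∈ 𝒮 1) (a : R) (j : ℕ) : ι a * z ^ j ∈ 𝒮 j := by
  have h := SetLike.mul_mem_graded (hι a) (SetLike.pow_mem_graded j hz)
  simpa using h

theorem exists_of_mem_deg (hι : ∀ a, ι a ∈ 𝒮 0) (hz : z ∈ 𝒮 1)
    (hpoly : Function.Bijective (Polynomial.eval₂RingHom ι z)) (k : ℕ) (s : S) (hs : s ∈ 𝒮 k) :
    ∃ a : R, s = ι a * z ^ k := by
  classical
  obtain ⟨P, rfl⟩ := hpoly.2 s
  refine ⟨P.coeff k, ?_⟩
  have hsum : Polynomial.eval₂RingHom ι z P =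
      ∑ j ∈ Finset.range (P.natDegree + 1), ι (P.coeff j) * z ^ j := by
    rw [Polynomial.coe_eval₂RingHom, Polynomial.eval₂_eq_sum_range]
  have h1 : ((DirectSum.decompose 𝒮 (Polynomial.eval₂RingHom ι z P) k : 𝒮 k) : S) =
      Polynomial.eval₂RingHom ι z P := DirectSum.decompose_of_mem_same 𝒮 hs
  rw [← h1, hsum, DirectSum.decompose_sum, DFinsupp.finsetSum_apply,
    AddSubmonoidClass.coe_finsetSum]
  have h2 : ∀ j ∈ Finset.range (P.natDegree + 1),
      ((DirectSum.decompose 𝒮 (ι (P.coeff j) * z ^ j) k : 𝒮 k) : S) =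
        if j = k then ι (P.coeff k) * z ^ k else 0 := by
    intro j _
    split_ifs with hjk
    · subst hjk
      exact DirectSum.decompose_of_mem_same 𝒮 (mem_deg_term 𝒮 ι z hι hz _ _)
    · exact DirectSum.decompose_of_mem_ne 𝒮 (mem_deg_term 𝒮 ι z hι hz _ _) hjk
  rw [Finset.sum_congr rfl h2, Finset.sum_ite_eq']
  split_ifs with hk
  · rfl
  · have : P.coeff k = 0 := by
      apply Polynomial.coeff_eq_zero_of_natDegree_lt
      simp only [Finset.mem_range, not_lt] at hk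
      omega
    rw [this, map_zero, zero_mul]

theorem injective_of_poly (hpoly : Function.Bijective (Polynomial.eval₂RingHom ι z)) (k : ℕ)
    (a a' : R) (h : ι a * z ^ k = ι a' * z ^ k) : a = a' := by
  have h1 : Polynomial.eval₂RingHom ι z (Polynomial.C a * Polynomial.X ^ k) =
      Polynomial.eval₂RingHom ι z (Polynomial.C a' * Polynomial.X ^ k) := by
    simp only [Polynomial.coe_eval₂RingHom, Polynomial.eval₂_mul, Polynomial.eval₂_C,
      Polynomial.eval₂_pow, Polynomial.eval₂_X]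
    exact h
  have h2 := hpoly.1 h1
  have h3 := congrArg (fun P => Polynomial.coeff P k) h2
  simpa using h3

/-- `D_+(z)` is all of `Proj S`. -/
theorem basicOpen_eq_top (hι : ∀ a, ι a ∈ 𝒮 0) (hz : z ∈ 𝒮 1)
    (hpoly : Function.Bijective (Polynomial.eval₂RingHom ι z)) :
    AlgebraicGeometry.Proj.basicOpen 𝒮 z = ⊤ := by
  rw [eq_top_iff]
  intro x _
  rw [AlgebraicGeometry.Proj.mem_basicOpen]
  intro hzx
  apply x.not_irrelevant_le
  rw [HomogeneousIdeal.irrelevant_le]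
  intro i hi b hb
  obtain ⟨a, rfl⟩ := exists_of_mem_deg 𝒮 ι z hι hz hpoly i b hb
  have hzi : z ^ i ∈ x.asHomogeneousIdeal.toIdeal :=
    Ideal.pow_mem_of_mem _ hzx i hi
  exact Ideal.mul_mem_left _ _ hzi

/-- Every element of `S_(z)` is `ι(a) z^k / z^k`. -/
theorem exists_val_eq (hι : ∀ a, ι a ∈ 𝒮 0) (hz : z ∈ 𝒮 1)
    (hpoly : Function.Bijective (Polynomial.eval₂RingHom ι z)) (q : Away 𝒮 z) :
    ∃ (k : ℕ) (a : R), q.val = Localization.mk (ι a * z ^ k)
      ⟨z ^ k, pow_mem (Submonoid.mem_powers z) k⟩ := by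
  obtain ⟨n, s, hs, rfl⟩ := Away.mk_surjective 𝒮 hz q
  obtain ⟨a, rfl⟩ := exists_of_mem_deg 𝒮 ι z hι hz hpoly _ s hs
  refine ⟨n, a, ?_⟩
  rw [Away.val_mk]
  simp only [smul_eq_mul, mul_one]

theorem val_eq_of (k : ℕ) (a : R) :
    (Localization.mk (ι a * z ^ k) ⟨z ^ k, pow_mem (Submonoid.mem_powers z) k⟩ :
      Localization (Submonoid.powers z)) = Localization.mk (ι a) 1 := by
  rw [Localization.mk_eq_mk_iff, Localization.r_iff_exists]
  refine ⟨1, ?_⟩
  simp only [OneMemClass.coe_one, one_mul]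
  ring

variable {T : Type u} [CommRing T]

/-- A ring homomorphism `θ : S_(z) → R` sending `ι(a) z^k / z^k` to `a` is bijective. -/
theorem theta_bijective (hι : ∀ a, ι a ∈ 𝒮 0) (hz : z ∈ 𝒮 1)
    (hpoly : Function.Bijective (Polynomial.eval₂RingHom ι z)) (θ : Away 𝒮 z →+* R)
    (hθ : ∀ (q : Away 𝒮 z) (k : ℕ) (a : R), q.val = Localization.mk (ι a * z ^ k)
      ⟨z ^ k, pow_mem (Submonoid.mem_powers z) k⟩ → θ q = a) : Function.Bijective θ := by
  constructor
  · intro q q' h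
    obtain ⟨k, a, hq⟩ := exists_val_eq 𝒮 ι z hι hz hpoly q
    obtain ⟨k', a', hq'⟩ := exists_val_eq 𝒮 ι z hι hz hpoly q'
    rw [hθ q k a hq, hθ q' k' a' hq'] at h
    subst h
    rw [HomogeneousLocalization.ext_iff_val, hq, hq', val_eq_of, val_eq_of]
  · intro a
    have h0 : ι a * z ^ 0 ∈ 𝒮 (0 • 1) := by simpa using hι a
    refine ⟨Away.mk 𝒮 hz 0 (ι a * z ^ 0) h0, ?_⟩
    apply hθ _ 0 a
    rw [Away.val_mk]

end

end Groth.Agent.ConeImm
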