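import Mathlib
import Groth.Agent.Lib.ConeImm2_helper5

/-!
# `Sym(M)` for `M` free of rank one, and `Proj R[T] ≅ Spec R`  (helper5)
-/

set_option autoImplicit false
universe u
open AlgebraicGeometry CategoryTheory HomogeneousLocalization

noncomputable section

namespace Groth.Agent.SymInv

section alg
variable {R M : Type u} [CommRing R] [AddCommGroup M] [Module R M]

/-- The basis of a module generated by one torsion-free element. -/
def basisOfGen (e : M) (hsp : ∀ m : M, ∃ c : R, m = c • e) (hli : ∀ c : R, c • e = 0 → c = 0) :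
    Module.Basis PUnit.{1} R M :=
  Module.Basis.mk (v := fun _ : PUnit.{1} => e)
    (by
      rw [Fintype.linearIndependent_iff]
      intro g hg i
      rw [Finset.univ_unique, Finset.sum_singleton] at hg
      exact hli _ hg)
    (by
      intro m _
      obtain ⟨c, rfl⟩ := hsp m
      exact Submodule.smul_mem _ _ (Submodule.subset_span ⟨PUnit.unit, rfl⟩))

theorem basisOfGen_apply (e : M) (hsp : ∀ m : M, ∃ c : R, m = c • e)
    (hli : ∀ c : R, c • e = 0 → c = 0) (i : PUnit.{1}) : basisOfGen e hsp hli i = e := by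
  unfold basisOfGen
  rw [Module.Basis.mk_apply]

/-- `R[X] → Sym(M)`, `X ↦ e`, is bijective for `M` free on `e`. -/
theorem bijective_eval₂_of_gen (e : M) (hsp : ∀ m : M, ∃ c : R, m = c • e)
    (hli : ∀ c : R, c • e = 0 → c = 0) :
    Function.Bijective (Polynomial.eval₂RingHom (algebraMap R (SymmetricAlgebra R M))
      (SymmetricAlgebra.ι R M e)) := by
  let b := basisOfGen e hsp hli
  let E : SymmetricAlgebra R M ≃ₐ[R] Polynomial R :=
    (SymmetricAlgebra.equivMvPolynomial b).trans (MvPolynomial.uniqueAlgEquiv R PUnit.{1})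
  have hE : E (SymmetricAlgebra.ι R M e) = Polynomial.X := by
    have h1 : SymmetricAlgebra.equivMvPolynomial b (SymmetricAlgebra.ι R M e) =
        MvPolynomial.X PUnit.unit := by
      have := SymmetricAlgebra.equivMvPolynomial_ι_apply b PUnit.unit
      rwa [basisOfGen_apply] at this
    show MvPolynomial.uniqueAlgEquiv R PUnit.{1} (SymmetricAlgebra.equivMvPolynomial b
      (SymmetricAlgebra.ι R M e)) = Polynomial.X
    rw [h1]
    simp
  have heq : Polynomial.eval₂RingHom (algebraMap R (SymmetricAlgebra R M))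
      (SymmetricAlgebra.ι R M e) = (E.symm : Polynomial R →+* SymmetricAlgebra R M) := by
    refine Polynomial.ringHom_ext (fun r => ?_) ?_
    · rw [Polynomial.coe_eval₂RingHom, Polynomial.eval₂_C]
      exact (E.symm.commutes r).symm
    · rw [Polynomial.coe_eval₂RingHom, Polynomial.eval₂_X]
      show _ = E.symm Polynomial.X
      rw [← hE, AlgEquiv.symm_apply_apply]
  rw [heq]
  exact E.symm.bijective

end alg

section proj
variable {R S : Type u} [CommRing R] [CommRing S] (𝒮 : ℕ → AddSubgroup S) [GradedRing 𝒮]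
  (ι : R →+* S) (z : S)

/-- For `S = R[z]` graded with `R` in degree `0` and `z` in degree `1`, `Proj S ⟶ Spec R` is an
isomorphism. -/
theorem isIso_toSpecZero_of_poly (hι : ∀ a, ι a ∈ 𝒮 0) (hz : z ∈ 𝒮 1)
    (hpoly : Function.Bijective (Polynomial.eval₂RingHom ι z)) (ι₀ : R →+* 𝒮 0)
    (hι₀ : ∀ a, ((ι₀ a : 𝒮 0) : S) = ι a) :
    IsIso (Proj.toSpecZero 𝒮 ≫ Spec.map (CommRingCat.ofHom ι₀)) := by
  have htop : (Proj.awayι 𝒮 z hz one_pos).opensRange = ⊤ := by
    rw [Proj.opensRange_awayι]
    exact Groth.Agent.ConeImm.basicOpen_eq_top 𝒮 ι z hι hz hpoly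
  haveI : IsIso (Proj.awayι 𝒮 z hz one_pos) :=
    isIso_of_isOpenImmersion_of_opensRange_eq_top _ htop
  have hbij : Function.Bijective ((fromZeroRingHom 𝒮 (Submonoid.powers z)).comp ι₀) := by
    have hval : ∀ a : R, ((fromZeroRingHom 𝒮 (Submonoid.powers z)) (ι₀ a)).val =
        Localization.mk (ι a) 1 := by
      intro a
      show Localization.mk ((ι₀ a : 𝒮 0) : S) 1 = _
      rw [hι₀]
    constructor
    · intro a a' h
      have h1 : (Localization.mk (ι a) 1 : Localization (Submonoid.powers z)) =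
          Localization.mk (ι a') 1 := by
        rw [← hval, ← hval]
        exact congrArg HomogeneousLocalization.val h
      rw [Localization.mk_eq_mk_iff, Localization.r_iff_exists] at h1
      obtain ⟨⟨_, n, rfl⟩, hn⟩ := h1
      simp only [OneMemClass.coe_one, one_mul] at hn
      refine Groth.Agent.ConeImm.injective_of_poly ι z hpoly n a a' ?_
      rw [mul_comm (ι a), mul_comm (ι a')]
      exact hn
    · intro q
      obtain ⟨k, a, hq⟩ := Groth.Agent.ConeImm.exists_val_eq 𝒮 ι z hι hz hpoly q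
      refine ⟨a, ?_⟩
      rw [HomogeneousLocalization.ext_iff_val, hq, Groth.Agent.ConeImm.val_eq_of]
      exact hval a
  have hiso : IsIso (Spec.map (CommRingCat.ofHom
      ((fromZeroRingHom 𝒮 (Submonoid.powers z)).comp ι₀))) := by
    haveI : IsIso (CommRingCat.ofHom ((fromZeroRingHom 𝒮 (Submonoid.powers z)).comp ι₀)) :=
      (ConcreteCategory.isIso_iff_bijective _).mpr hbij
    infer_instance
  have hcomp : Proj.awayι 𝒮 z hz one_pos ≫ (Proj.toSpecZero 𝒮 ≫ Spec.map (CommRingCat.ofHom ι₀)) =
      Spec.map (CommRingCat.ofHom ((fromZeroRingHom 𝒮 (Submonoid.powers z)).comp ι₀)) := by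
    rw [← Category.assoc, Proj.awayι_toSpecZero, ← Spec.map_comp]
    rfl
  have : Proj.toSpecZero 𝒮 ≫ Spec.map (CommRingCat.ofHom ι₀) =
      inv (Proj.awayι 𝒮 z hz one_pos) ≫
        Spec.map (CommRingCat.ofHom ((fromZeroRingHom 𝒮 (Submonoid.powers z)).comp ι₀)) := by
    rw [IsIso.eq_inv_comp]; exact hcomp
  rw [this]
  infer_instance

end proj

end Groth.Agent.SymInv
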