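import Mathlib
import Groth.Prelude.Def_RelProj4
import Groth.Prelude.Def_Pic
import Groth.Agent.Lib.SymInv1_helper5
import Groth.Agent.Lib.SymAlg6_helper5
import Groth.Agent.Lib.GenLoc_helper8
import Groth.Agent.Lib.RelProjTN2_helper5

/-!
# `Proj(⊕ L^{⊗n}) ≅ X` for an invertible module `L`  (helper5)
-/

set_option autoImplicit false
universe u
open AlgebraicGeometry CategoryTheory CategoryTheory.Limits Opposite TopologicalSpace

noncomputable section

namespace Groth.Agent.SymInv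

open QcqsLoc RelSpec Groth.Agent.SymAlg

variable {X PL : Scheme.{u}} (L : X.Modules) (𝒮L : RelProj.QCGrAlg X) (j : L ⟶ 𝒮L.toModule)

/-- Over an affine open where `L` is free on `e`, `Sym(L)(V) = O(V)[j e]`. -/
theorem bijective_poly [L.IsQuasicoherent] (hj : RelSpec.IsSymAlg L 𝒮L.toQCAlg j)
    (V : X.Opens) (hV : IsAffineOpen V) (e : Γ(L, V))
    (hsp : ∀ l : Γ(L, V), ∃ c : Γ(X, V), l = c • e) (hli : ∀ c : Γ(X, V), c • e = 0 → c = 0) :
    Function.Bijective (Polynomial.eval₂RingHom (𝒮L.str.app (op V)).hom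
      (j.app V e : 𝒮L.presheaf.obj (op V))) := by
  have hloc := isSymOnAffines_of_isSymAlg L 𝒮L.toQCAlg j hj V hV
  have heq : Polynomial.eval₂RingHom (𝒮L.str.app (op V)).hom (j.app V e : 𝒮L.presheaf.obj (op V)) =
      (symToA L 𝒮L.toQCAlg j V).comp (Polynomial.eval₂RingHom
        (algebraMap Γ(X, V) (SymmetricAlgebra Γ(X, V) Γ(L, V)))
        (SymmetricAlgebra.ι Γ(X, V) Γ(L, V) e)) := by
    refine Polynomial.ringHom_ext (fun r => ?_) ?_
    · rw [RingHom.comp_apply, Polynomial.coe_eval₂RingHom, Polynomial.coe_eval₂RingHom,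
        Polynomial.eval₂_C, Polynomial.eval₂_C]
      exact (symToA_algebraMap L 𝒮L.toQCAlg j V r).symm
    · rw [RingHom.comp_apply, Polynomial.coe_eval₂RingHom, Polynomial.coe_eval₂RingHom,
        Polynomial.eval₂_X, Polynomial.eval₂_X]
      exact (symToA_ι L 𝒮L.toQCAlg j V e).symm
  rw [heq]
  exact hloc.comp (bijective_eval₂_of_gen e hsp hli)

variable {pL : PL ⟶ X}
  {chartL : ∀ (U : X.Opens) (hU : IsAffineOpen U),
    (((pL ⁻¹ᵁ U : PL.Opens) : Scheme.{u}) ≅ Proj (𝒮L.deg U hU))}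

/-- **`Proj(Sym L) ⟶ X` is an isomorphism for `L` invertible.** -/
theorem isIso_pL [L.IsQuasicoherent] (hL : PicF.IsInvertible L) (hj : RelProj.IsGrSymAlg L 𝒮L j)
    (hPL : RelProj.IsRelProj 𝒮L pL chartL) : IsIso pL := by
  let ι := {V : X.affineOpens // ∃ e : Γ(L, V.1), GenLocH8.IsGen L V.1 e}
  have hcov : (⨆ i : ι, ((i.1 : X.affineOpens) : X.Opens)) = ⊤ := by
    rw [eq_top_iff]
    intro x _
    obtain ⟨W, hW, hxW, e, he⟩ := GenLocH8.exists_isGen hL x
    exact Opens.mem_iSup.mpr ⟨⟨⟨W, hW⟩, e, he⟩, hxW⟩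
  refine Groth.Agent.Lib.RelProj_helper3.of_isPullback_cover (MorphismProperty.isomorphisms Scheme) pL
    (fun i : ι => ((i.1 : X.affineOpens) : X.Opens)) hcov
    (fun i => Proj (𝒮L.deg i.1.1 i.1.2))
    (fun i => Proj.toSpecZero (𝒮L.deg i.1.1 i.1.2) ≫ Spec.map (𝒮L.strZero i.1.1 i.1.2) ≫
      i.1.2.isoSpec.inv)
    (fun i => RelProj.emb pL chartL i.1.1 i.1.2) (fun i => ?_) (fun i => ?_)
  · refine IsOpenImmersion.isPullback _ _ _ _ ?_ ?_
    · rw [Groth.Agent.RelProjTN.emb_comp hPL, Category.assoc, Category.assoc,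
        IsAffineOpen.isoSpec_inv_ι]
    · rw [Scheme.Opens.opensRange_ι, Groth.Agent.RelProjTN.opensRange_emb]
  · obtain ⟨⟨V, hV⟩, e, he⟩ := i
    show IsIso (Proj.toSpecZero (𝒮L.deg V hV) ≫ Spec.map (𝒮L.strZero V hV) ≫ hV.isoSpec.inv)
    have h1 := he V le_rfl
    have hres : rF L (le_refl V) e = e := by
      show (L.presheaf.map (homOfLE (le_refl V)).op).hom e = e
      have e' : (homOfLE (le_refl V)).op = 𝟙 (op V) := Subsingleton.elim _ _
      rw [e', L.presheaf.map_id]; rfl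
    rw [hres] at h1
    have hpoly := bijective_poly L 𝒮L j hj.1 V hV e h1.1 h1.2
    have hiso := isIso_toSpecZero_of_poly (𝒮L.deg V hV) (𝒮L.str.app (op V)).hom
      (j.app V e : 𝒮L.presheaf.obj (op V)) (fun a => 𝒮L.str_mem V hV a) (hj.2 V hV e) hpoly
      (𝒮L.strZero V hV).hom (fun a => rfl)
    rw [← Category.assoc]
    haveI : IsIso (Proj.toSpecZero (𝒮L.deg V hV) ≫ Spec.map (𝒮L.strZero V hV)) := hiso
    infer_instance

end Groth.Agent.SymInv
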