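import Mathlib
import Groth.Prelude.Def_RelProj4
import Groth.Prelude.Def_Pic
import Groth.Agent.Lib.ProjQComp1_helper5
import Groth.Agent.Lib.RelProjEx4_helper5
import Groth.Agent.Lib.SymInv2_helper5

/-!
# `G(ψ)` for a filtered colimit `𝒮 = colim 𝒮^i`  (helper5)
-/

set_option autoImplicit false
universe u
open AlgebraicGeometry CategoryTheory CategoryTheory.Limits HomogeneousLocalization Opposite TopologicalSpace
open scoped HomogeneousIdeal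

noncomputable section

namespace Groth.Agent.ProjQLim

open Groth.Agent.RelProjTN Groth.Agent.ProjQ Groth.Agent.ConeFun RelProj Groth.Agent.ProjQComp

section mono
variable {Y X P PL : Scheme.{u}} {q : X ⟶ Y} {𝒮 𝒯 : RelProj.QCGrAlg Y} {𝒮L : RelProj.QCGrAlg X}
  (u : RelProj.QGrHom q 𝒮 𝒮L) (v : 𝒯.toQCAlg ⟶ 𝒮.toQCAlg) (hv : RelProj.IsGradedHom v)
  (u' : RelProj.QGrHom q 𝒯 𝒮L)
  {pL : PL ⟶ X}
  {chartL : ∀ (U : X.Opens) (hU : IsAffineOpen U), (((pL ⁻¹ᵁ U : PL.Opens) : Scheme.{u}) ≅ Proj (𝒮L.deg U hU))}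

theorem gradedAt_comp (hu' : ∀ U : Y.Opens, u'.app U = v.hom.app (op U) ≫ u.app U)
    (U : Y.Opens) (hU : IsAffineOpen U) (V : X.Opens) (hV : IsAffineOpen V) (hle : V ≤ q ⁻¹ᵁ U)
    (y : 𝒯.presheaf.obj (op U)) :
    u'.gradedAt U hU V hV hle y = u.gradedAt U hU V hV hle ((v.hom.app (op U)).hom y) := by
  show (𝒮L.presheaf.map (homOfLE hle).op).hom ((u'.app U).hom y) =
    (𝒮L.presheaf.map (homOfLE hle).op).hom ((u.app U).hom ((v.hom.app (op U)).hom y))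
  rw [hu' U]
  rfl

include hv in
/-- `G(u ∘ v) ⊆ G(u)`. -/
theorem domQ_le_of_comp (hu' : ∀ U : Y.Opens, u'.app U = v.hom.app (op U) ≫ u.app U)
    (hPL : RelProj.IsRelProj 𝒮L pL chartL) :
    RelProj.domQ u' pL chartL ≤ RelProj.domQ u pL chartL := by
  intro x hx
  obtain ⟨U, hU, hqx, -⟩ := Opens.isBasis_iff_nbhd.mp Y.isBasis_affineOpens
    (Opens.mem_top (q (pL x)))
  obtain ⟨V, hV, hxV, hle⟩ := Opens.isBasis_iff_nbhd.mp X.isBasis_affineOpens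
    (show pL x ∈ q ⁻¹ᵁ U from hqx)
  have hxV' : x ∈ pL ⁻¹ᵁ V := hxV
  obtain ⟨d, hd, f, hf, hfr⟩ := exists_idx_at u' hPL x hx U hU V hV hle hxV'
  have h1 := (mem_range_cP_iff u' ⟨U, hU, V, hV, hle, d, hd, f, hf⟩ x hxV').mp hfr
  have h2 : zpt pL chartL V hV x hxV' ∈ Proj.basicOpen (𝒮L.deg V hV)
      (u'.gradedAt U hU V hV hle f) := h1
  rw [gradedAt_comp u v u' hu' U hU V hV hle f] at h2
  exact mem_domQ_of_mem_domOpen u x U hU V hV hle hxV'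
    (mem_domOpen_of_mem_basicOpen _ hd (hv U hU d f hf) _ h2)

end mono

section lim
variable {Y X PL : Scheme.{u}} (q : X ⟶ Y)
  (𝒮 : RelProj.QCGrAlg Y) (𝒮L : RelProj.QCGrAlg X) (u : RelProj.QGrHom q 𝒮 𝒮L)
  (pL : PL ⟶ X)
  (chartL : ∀ (U : X.Opens) (hU : IsAffineOpen U), (((pL ⁻¹ᵁ U : PL.Opens) : Scheme.{u}) ≅ Proj (𝒮L.deg U hU)))
  (hPL : RelProj.IsRelProj 𝒮L pL chartL)
  (Λ : Type u) [Preorder Λ]
  (𝒮i : Λ → RelProj.QCGrAlg Y) (φ : ∀ i, (𝒮i i).toQCAlg ⟶ 𝒮.toQCAlg)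
  (hφ : ∀ i, RelProj.IsGradedHom (φ i))
  (t : ∀ i j, i ≤ j → ((𝒮i i).toQCAlg ⟶ (𝒮i j).toQCAlg))
  (ht : ∀ i j (h : i ≤ j), RelProj.IsGradedHom (t i j h))
  (hφt : ∀ i j (h : i ≤ j), t i j h ≫ φ j = φ i)
  (hsurj : ∀ (U : Y.Opens), IsAffineOpen U → ∀ x : 𝒮.presheaf.obj (op U),
    ∃ (i : Λ) (y : (𝒮i i).presheaf.obj (op U)), ((φ i).hom.app (op U)).hom y = x)
  (ui : ∀ i, RelProj.QGrHom q (𝒮i i) 𝒮L)
  (hui : ∀ i (U : Y.Opens), (ui i).app U = (φ i).hom.app (op U) ≫ u.app U)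

include hφ hui hPL in
theorem domQ_ui_le (i : Λ) : RelProj.domQ (ui i) pL chartL ≤ RelProj.domQ u pL chartL :=
  domQ_le_of_comp u (φ i) (hφ i) (ui i) (hui i) hPL

include ht hφt hui hPL in
theorem domQ_ui_mono (i j : Λ) (h : i ≤ j) :
    RelProj.domQ (ui i) pL chartL ≤ RelProj.domQ (ui j) pL chartL := by
  refine domQ_le_of_comp (ui j) (t i j h) (ht i j h) (ui i) (fun U => ?_) hPL
  rw [hui i U, hui j U, ← Category.assoc]
  congr 1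
  exact congrArg (fun ψ => ψ.hom.app (op U)) (hφt i j h).symm

include hφ hsurj hui hPL in
/-- `G(u) = ⋃ G(u_i)`. -/
theorem exists_mem_domQ_ui (x : PL) (hx : x ∈ RelProj.domQ u pL chartL) :
    ∃ i, x ∈ RelProj.domQ (ui i) pL chartL := by
  classical
  obtain ⟨U, hU, hqx, -⟩ := Opens.isBasis_iff_nbhd.mp Y.isBasis_affineOpens
    (Opens.mem_top (q (pL x)))
  obtain ⟨V, hV, hxV, hle⟩ := Opens.isBasis_iff_nbhd.mp X.isBasis_affineOpens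
    (show pL x ∈ q ⁻¹ᵁ U from hqx)
  have hxV' : x ∈ pL ⁻¹ᵁ V := hxV
  obtain ⟨d, hd, f, hf, hfr⟩ := exists_idx_at u hPL x hx U hU V hV hle hxV'
  have h1 := (mem_range_cP_iff u ⟨U, hU, V, hV, hle, d, hd, f, hf⟩ x hxV').mp hfr
  have h2 : zpt pL chartL V hV x hxV' ∈ Proj.basicOpen (𝒮L.deg V hV)
      (u.gradedAt U hU V hV hle f) := h1
  obtain ⟨i, y, hy⟩ := hsurj U hU f
  refine ⟨i, ?_⟩
  let yd : (𝒮i i).presheaf.obj (op U) :=
    (DirectSum.decompose ((𝒮i i).deg U hU) y d : (𝒮i i).presheaf.obj (op U))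
  have hyd : yd ∈ (𝒮i i).deg U hU d := SetLike.coe_mem _
  have hφyd : ((φ i).hom.app (op U)).hom yd = f := by
    have h3 := GradedRingHom.map_directSumDecompose ((𝒮i i).deg U hU) (𝒮.deg U hU)
      (RelProj.gradedHomAt (φ i) (hφ i) U hU) (x := y) (i := d)
    have h4 : RelProj.gradedHomAt (φ i) (hφ i) U hU y = f := hy
    rw [h4, DirectSum.decompose_of_mem_same _ hf] at h3
    exact h3
  rw [← hφyd, ← gradedAt_comp u (φ i) (ui i) (hui i) U hU V hV hle yd] at h2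
  exact mem_domQ_of_mem_domOpen (ui i) x U hU V hV hle hxV'
    (mem_domOpen_of_mem_basicOpen _ hd hyd _ h2)

include hφ ht hφt hsurj hui hPL in
theorem main [IsDirected Λ (· ≤ ·)] [Nonempty Λ] [CompactSpace PL] :
    (RelProj.domQ u pL chartL = ⊤ ↔ ∃ i, RelProj.domQ (ui i) pL chartL = ⊤) ∧
      ∀ i, RelProj.domQ (ui i) pL chartL = ⊤ → ∀ j, i ≤ j → RelProj.domQ (ui j) pL chartL = ⊤ := by
  refine ⟨⟨fun h => ?_, fun ⟨i, hi⟩ => ?_⟩, fun i hi j hij => ?_⟩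
  · have hcov : (Set.univ : Set PL) ⊆ ⋃ i, (RelProj.domQ (ui i) pL chartL : Set PL) := by
      intro x _
      obtain ⟨i, hi⟩ := exists_mem_domQ_ui q 𝒮 𝒮L u pL chartL hPL Λ 𝒮i φ hφ hsurj ui hui x
        (h ▸ Opens.mem_top x)
      exact Set.mem_iUnion.mpr ⟨i, hi⟩
    have hdir : Directed (· ⊆ ·) (fun i => (RelProj.domQ (ui i) pL chartL : Set PL)) := by
      intro i j
      obtain ⟨k, hik, hjk⟩ := directed_of (· ≤ ·) i j
      exact ⟨k, domQ_ui_mono q 𝒮 𝒮L u pL chartL hPL Λ 𝒮i φ t ht hφt ui hui i k hik,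
        domQ_ui_mono q 𝒮 𝒮L u pL chartL hPL Λ 𝒮i φ t ht hφt ui hui j k hjk⟩
    obtain ⟨i, hi⟩ := isCompact_univ.elim_directed_cover
      (fun i => (RelProj.domQ (ui i) pL chartL : Set PL))
      (fun i => (RelProj.domQ (ui i) pL chartL).isOpen) hcov hdir
    exact ⟨i, eq_top_iff.mpr fun x _ => hi (Set.mem_univ x)⟩
  · exact eq_top_iff.mpr (hi ▸ domQ_ui_le q 𝒮 𝒮L u pL chartL hPL Λ 𝒮i φ hφ ui hui i)
  · exact eq_top_iff.mpr (hi ▸ domQ_ui_mono q 𝒮 𝒮L u pL chartL hPL Λ 𝒮i φ t ht hφt ui hui i j hij)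

end lim

end Groth.Agent.ProjQLim
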