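import Mathlib
import Groth.Prelude.Def_RelProj4
import Groth.Prelude.Def_Pic
import Groth.Agent.Lib.ProjQLim1_helper5
import Groth.Agent.Lib.ProjQComp2_helper5
import Groth.Agent.Lib.ProjNull_helper3

/-!
# Dominance of `r_{L,ψ}` for a filtered colimit `𝒮 = colim 𝒮^i`  (helper5)
-/

set_option autoImplicit false
universe u
open AlgebraicGeometry CategoryTheory CategoryTheory.Limits HomogeneousLocalization Opposite TopologicalSpace
open scoped HomogeneousIdeal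

noncomputable section

namespace Groth.Agent.ProjQLim

open Groth.Agent.RelProjTN Groth.Agent.ProjQ Groth.Agent.ConeFun RelProj Groth.Agent.ProjQComp

section basis
variable {A σ : Type u} [CommRing A] [SetLike σ A] [AddSubgroupClass σ A] (𝒜 : ℕ → σ) [GradedRing 𝒜]

/-- The opens `D_+(f)`, `f` homogeneous of positive degree, form a basis of `Proj`. -/
theorem exists_homogeneous_basicOpen (z : Proj 𝒜) (O : (Proj 𝒜).Opens) (hz : z ∈ O) :
    ∃ (d : ℕ) (_ : 0 < d) (f : A) (_ : f ∈ 𝒜 d),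
      z ∈ Proj.basicOpen 𝒜 f ∧ Proj.basicOpen 𝒜 f ≤ O := by
  classical
  obtain ⟨f, hf, hzf, hfO⟩ :=
    Groth.Agent.Lib.ProjNull_helper3.exists_basicOpen_irrelevant 𝒜 z O hz
  have hex : ∃ k, (DirectSum.decompose 𝒜 f k : A) ∉ z.asHomogeneousIdeal := by
    by_contra hcon
    push Not at hcon
    apply (ProjectiveSpectrum.mem_basicOpen _ _ _).mp hzf
    rw [← DirectSum.sum_support_decompose 𝒜 f]
    exact Ideal.sum_mem _ fun i _ => hcon i
  obtain ⟨k, hk⟩ := hex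
  have hk0 : 0 < k := by
    rcases Nat.eq_zero_or_pos k with rfl | h
    · exfalso
      apply hk
      have h0 : (DirectSum.decompose 𝒜 f 0 : A) = 0 :=
        (HomogeneousIdeal.mem_irrelevant_iff 𝒜 f).mp hf
      rw [h0]
      exact zero_mem _
    · exact h
  refine ⟨k, hk0, _, SetLike.coe_mem (DirectSum.decompose 𝒜 f k),
    (ProjectiveSpectrum.mem_basicOpen _ _ _).mpr hk, fun y hy => hfO ?_⟩
  refine (ProjectiveSpectrum.mem_basicOpen _ _ _).mpr fun hfy => ?_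
  exact (ProjectiveSpectrum.mem_basicOpen _ _ _).mp hy (y.asHomogeneousIdeal.isHomogeneous k hfy)

end basis

section dom
variable {Y X P PL : Scheme.{u}} (q : X ⟶ Y)
  (𝒮 : RelProj.QCGrAlg Y) (𝒮L : RelProj.QCGrAlg X) (u : RelProj.QGrHom q 𝒮 𝒮L)
  (p : P ⟶ Y)
  (chart : ∀ (U : Y.Opens) (hU : IsAffineOpen U), (((p ⁻¹ᵁ U : P.Opens) : Scheme.{u}) ≅ Proj (𝒮.deg U hU)))
  (hP : RelProj.IsRelProj 𝒮 p chart)
  (pL : PL ⟶ X)
  (chartL : ∀ (U : X.Opens) (hU : IsAffineOpen U), (((pL ⁻¹ᵁ U : PL.Opens) : Scheme.{u}) ≅ Proj (𝒮L.deg U hU)))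
  (hPL : RelProj.IsRelProj 𝒮L pL chartL)
  (r : ((RelProj.domQ u pL chartL : PL.Opens) : Scheme.{u}) ⟶ P)
  (hr : RelProj.IsProjQMapOn u p chart pL chartL (RelProj.domQ u pL chartL) r)
  (Λ : Type u)
  (𝒮i : Λ → RelProj.QCGrAlg Y) (φ : ∀ i, (𝒮i i).toQCAlg ⟶ 𝒮.toQCAlg)
  (hφ : ∀ i, RelProj.IsGradedHom (φ i))
  (hsurj : ∀ (U : Y.Opens), IsAffineOpen U → ∀ x : 𝒮.presheaf.obj (op U),
    ∃ (i : Λ) (y : (𝒮i i).presheaf.obj (op U)), ((φ i).hom.app (op U)).hom y = x)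
  (ui : ∀ i, RelProj.QGrHom q (𝒮i i) 𝒮L)
  (hui : ∀ i (U : Y.Opens), (ui i).app U = (φ i).hom.app (op U) ≫ u.app U)
  (Pi : Λ → Scheme.{u}) (pi : ∀ i, Pi i ⟶ Y)
  (charti : ∀ i (U : Y.Opens) (hU : IsAffineOpen U),
    ((((pi i) ⁻¹ᵁ U : (Pi i).Opens) : Scheme.{u}) ≅ Proj ((𝒮i i).deg U hU)))
  (hPi : ∀ i, RelProj.IsRelProj (𝒮i i) (pi i) (charti i))
  (ri : ∀ i, ((RelProj.domQ (ui i) pL chartL : PL.Opens) : Scheme.{u}) ⟶ Pi i)
  (hri : ∀ i, RelProj.IsProjQMapOn (ui i) (pi i) (charti i) pL chartL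
    (RelProj.domQ (ui i) pL chartL) (ri i))

include hP hPL hr hφ hsurj hui hPi hri in
/-- If all the `r_i` are dominant, so is `r`. -/
theorem isDominant_of_forall (hdom : ∀ i, IsDominant (ri i)) : IsDominant r := by
  classical
  refine ⟨?_⟩
  rw [DenseRange, dense_iff_inter_open]
  rintro N hN ⟨w, hw⟩
  obtain ⟨U, hU, hwU, -⟩ := Opens.isBasis_iff_nbhd.mp Y.isBasis_affineOpens
    (Opens.mem_top (p w))
  have hwU' : w ∈ p ⁻¹ᵁ U := hwU
  have hz : zpt p chart U hU w hwU' ∈ (RelProj.emb p chart U hU) ⁻¹ᵁ ⟨N, hN⟩ := by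
    show (RelProj.emb p chart U hU).base (zpt p chart U hU w hwU') ∈ N
    rw [emb_zpt]
    exact hw
  obtain ⟨d, hd, f, hf, hzf, hfO⟩ := exists_homogeneous_basicOpen (𝒮.deg U hU) _ _ hz
  obtain ⟨i, y, hy⟩ := hsurj U hU f
  let yd : (𝒮i i).presheaf.obj (op U) :=
    (DirectSum.decompose ((𝒮i i).deg U hU) y d : (𝒮i i).presheaf.obj (op U))
  have hyd : yd ∈ (𝒮i i).deg U hU d := SetLike.coe_mem _
  have hφyd : ((φ i).hom.app (op U)).hom yd = f := by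
    have h3 := GradedRingHom.map_directSumDecompose ((𝒮i i).deg U hU) (𝒮.deg U hU)
      (RelProj.gradedHomAt (φ i) (hφ i) U hU) (x := y) (i := d)
    have h4 : RelProj.gradedHomAt (φ i) (hφ i) U hU y = f := hy
    rw [h4, DirectSum.decompose_of_mem_same _ hf] at h3
    exact h3
  obtain ⟨Φ, hΦ⟩ := exists_projQMapOn (RelProj.QGrHom.ofHom (φ i) (hφ i)) (hPi i) hP
  have hzf' : zpt p chart U hU w hwU' ∈ Proj.basicOpen (𝒮.deg U hU)
      ((RelProj.QGrHom.ofHom (φ i) (hφ i)).gradedAt U hU U hU (hle U) yd) := by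
    have h5 : (RelProj.QGrHom.ofHom (φ i) (hφ i)).gradedAt U hU U hU (hle U) yd = f :=
      (psi_apply (φ i) (hφ i) U hU yd).trans hφyd
    rw [h5]
    exact hzf
  have hwG : w ∈ RelProj.domQ (RelProj.QGrHom.ofHom (φ i) (hφ i)) p chart :=
    mem_domQ_of_mem_domOpen _ w U hU U hU (hle U) hwU'
      (mem_domOpen_of_mem_basicOpen _ hd hyd _ hzf')
  have hΦw : Φ.base ⟨w, hwG⟩ ∈ (pi i) ⁻¹ᵁ U :=
    projQ_mem_preimage _ (hPi i) hP _ rfl Φ hΦ ⟨w, hwG⟩ U U (hle U) hwU'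
  have h6 : zpt (pi i) (charti i) U hU (Φ.base ⟨w, hwG⟩) hΦw ∈
      Proj.basicOpen ((𝒮i i).deg U hU) yd :=
    (projQ_mem_basicOpen_iff _ hP _ rfl Φ hΦ ⟨w, hwG⟩ U hU U hU (hle U) hwU' hΦw hd hyd).mpr hzf'
  -- the nonempty open `emb_i(D_+(yd))` of `P_i` meets the range of `r_i`
  have hopen : IsOpen ((RelProj.emb (pi i) (charti i) U hU).base ''
      (Proj.basicOpen ((𝒮i i).deg U hU) yd : Set (Proj ((𝒮i i).deg U hU)))) :=
    (RelProj.emb (pi i) (charti i) U hU).isOpenEmbedding.isOpenMap _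
      (Proj.basicOpen ((𝒮i i).deg U hU) yd).isOpen
  obtain ⟨_, ⟨z', hz', rfl⟩, ⟨x, hx⟩⟩ := (hdom i).denseRange.inter_open_nonempty _ hopen
    ⟨_, ⟨_, h6, emb_zpt U hU _ hΦw⟩⟩
  -- `x ∈ G(u_i)`, `r_i x = emb_i z'`, `z' ∈ D_+(yd)`
  have hrix : (ri i).base x ∈ (pi i) ⁻¹ᵁ U := by
    rw [hx]; exact mem_of_emb U hU z'
  have hqx : q (pL x.1) ∈ U := by
    have h7 := congrArg (fun m => m.base x) (projQMapOn_comp_p (ui i) (hPi i) hPL (ri i) (hri i))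
    have h8 : (pi i).base ((ri i).base x) = q.base (pL.base x.1) := h7
    rw [← h8]
    exact hrix
  obtain ⟨V, hV, hxV, hle'⟩ := Opens.isBasis_iff_nbhd.mp X.isBasis_affineOpens
    (show pL x.1 ∈ q ⁻¹ᵁ U from hqx)
  have hxV' : x.1 ∈ pL ⁻¹ᵁ V := hxV
  have hz'' : zpt (pi i) (charti i) U hU ((ri i).base x) hrix = z' := by
    apply (RelProj.emb (pi i) (charti i) U hU).isOpenEmbedding.injective
    rw [emb_zpt]
    exact hx
  have h9 : zpt pL chartL V hV x.1 hxV' ∈ Proj.basicOpen (𝒮L.deg V hV)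
      ((ui i).gradedAt U hU V hV hle' yd) :=
    (projQ_mem_basicOpen_iff (ui i) hPL _ rfl (ri i) (hri i) x U hU V hV hle' hxV' hrix hd
      hyd).mp (hz'' ▸ hz')
  rw [gradedAt_comp u (φ i) (ui i) (hui i) U hU V hV hle' yd, hφyd] at h9
  have hxG : x.1 ∈ RelProj.domQ u pL chartL :=
    mem_domQ_of_mem_domOpen u x.1 U hU V hV hle' hxV'
      (mem_domOpen_of_mem_basicOpen _ hd hf _ h9)
  have hrx : r.base ⟨x.1, hxG⟩ ∈ p ⁻¹ᵁ U :=
    projQ_mem_preimage u hP hPL _ rfl r hr ⟨x.1, hxG⟩ U V hle' hxV'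
  have h10 : zpt p chart U hU (r.base ⟨x.1, hxG⟩) hrx ∈ Proj.basicOpen (𝒮.deg U hU) f :=
    (projQ_mem_basicOpen_iff u hPL _ rfl r hr ⟨x.1, hxG⟩ U hU V hV hle' hxV' hrx hd hf).mpr h9
  refine ⟨r.base ⟨x.1, hxG⟩, ?_, ⟨⟨x.1, hxG⟩, rfl⟩⟩
  have h11 := hfO h10
  have h12 : (RelProj.emb p chart U hU).base (zpt p chart U hU (r.base ⟨x.1, hxG⟩) hrx) ∈ N := h11
  rw [emb_zpt] at h12
  exact h12

include hP hPL hr hφ hui hPi hri in
/-- If the `φ_i` are injective and `r` is dominant, so are the `r_i`. -/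
theorem isDominant_ri
    (hinj : ∀ i (U : Y.Opens), IsAffineOpen U → Function.Injective ((φ i).hom.app (op U)).hom)
    (hdom : IsDominant r) (i : Λ) : IsDominant (ri i) := by
  obtain ⟨Φ, hΦ⟩ := exists_projQMapOn (RelProj.QGrHom.ofHom (φ i) (hφ i)) (hPi i) hP
  obtain ⟨hle, ρ, h1, h2, h3⟩ := exists_factor u (φ i) (hφ i) (ui i) (hui i) hP hPL r hr Φ hΦ
    (ri i) (hri i)
  have hρ : DenseRange ρ.base :=
    denseRange_restrict (RelProj.domQ (RelProj.QGrHom.ofHom (φ i) (hφ i)) p chart) ρ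
      (PL.homOfLE hle) r h1
      (fun x hx => ⟨⟨x.1, h3 x hx⟩, by
        apply (RelProj.domQ u pL chartL).ι.isOpenEmbedding.injective
        exact congrArg (fun m => m.base ⟨x.1, h3 x hx⟩) (PL.homOfLE_ι hle)⟩) hdom.denseRange
  haveI hΦd : IsDominant Φ :=
    isDominant_of_TN_inj (φ i) (hφ i)
      ⟨0, fun k _ U hU x _ hx0 => hinj i U hU (hx0.trans (map_zero _).symm)⟩ (hPi i) hP Φ hΦ
  rw [h2]
  exact ⟨hΦd.denseRange.comp hρ Φ.continuous⟩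

end dom

end Groth.Agent.ProjQLim
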