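import Mathlib
import Groth.Prelude
import Groth.Agent.Lib.ProjKer_helper5
import Groth.Agent.Lib.ProjQLim2_helper5
import Groth.Agent.Lib.ProjUP3_helper5
import Groth.Agent.Lib.GrTwO_helper5
import Groth.Agent.Lib.RelProjTN2_helper5

/-!
# Values of functions pulled back from the base of a relative `Proj`  (helper5)
APPEND-ONLY once landed.

* `CanPhi.valO_toSpecZero` : the pullback along `Proj 𝒜 ⟶ Spec 𝒜₀` of `b ∈ 𝒜₀` has value `b/1`.
* `CanPhi.valO_emb_p` : for `r ∈ Γ(Y, U)`, the function `p^♯ r` read on the chart over `U` has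
  value `str(r)/1` at every point.
-/

set_option autoImplicit false
universe u
open CategoryTheory CategoryTheory.Limits AlgebraicGeometry TopologicalSpace Opposite
open HomogeneousLocalization

noncomputable section

namespace Groth.Agent.CanPhi

open Groth.Agent.GrTw QcqsLoc

section Ring
variable {A σ : Type u} [CommRing A] [SetLike σ A] [AddSubgroupClass σ A] (𝒜 : ℕ → σ) [GradedRing 𝒜]

theorem valO_awayToSection_fromZero {f : A} (b : 𝒜 0) (y : Proj.basicOpen 𝒜 f) :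
    valO 𝒜 ((Proj.awayToSection 𝒜 f).hom (fromZeroRingHom 𝒜 (Submonoid.powers f) b)) y =
      algebraMap A (GrTwist.Loc 𝒜 y.1) b := by
  show Localization.mk (b : A) 1 = _
  exact Localization.mk_one_eq_algebraMap (b : A)

/-- The pullback along `Proj 𝒜 ⟶ Spec 𝒜₀` of `b ∈ 𝒜₀` has value `b/1` at every point. -/
theorem valO_toSpecZero (b : 𝒜 0) (V : (Proj 𝒜).Opens) (y : V) :
    valO 𝒜 (((Proj.toSpecZero 𝒜).appLE ⊤ V le_top).hom
      ((Scheme.ΓSpecIso (CommRingCat.of (𝒜 0))).inv.hom b)) y =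
      algebraMap A (GrTwist.Loc 𝒜 y.1) b := by
  obtain ⟨m, hm, f, hf, hyf, hfV⟩ :=
    Groth.Agent.ProjQLim.exists_homogeneous_basicOpen 𝒜 y.1 V y.2
  have h1 : rX hfV (((Proj.toSpecZero 𝒜).appLE ⊤ V le_top).hom
      ((Scheme.ΓSpecIso (CommRingCat.of (𝒜 0))).inv.hom b)) =
      ((Proj.toSpecZero 𝒜).appLE ⊤ (Proj.basicOpen 𝒜 f) le_top).hom
        ((Scheme.ΓSpecIso (CommRingCat.of (𝒜 0))).inv.hom b) := by
    have := Scheme.Hom.appLE_map (Proj.toSpecZero 𝒜)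
      (show V ≤ Proj.toSpecZero 𝒜 ⁻¹ᵁ ⊤ from le_top) (homOfLE hfV).op
    exact congrArg (fun t => t.hom ((Scheme.ΓSpecIso (CommRingCat.of (𝒜 0))).inv.hom b)) this
  have h2 := valO_rX 𝒜 hfV (((Proj.toSpecZero 𝒜).appLE ⊤ V le_top).hom
      ((Scheme.ΓSpecIso (CommRingCat.of (𝒜 0))).inv.hom b)) ⟨y.1, hyf⟩
  refine h2.symm.trans ?_
  rw [h1]
  have h3 := congrArg (fun t => t.hom b) (Groth.Agent.ProjKer.awayToSection_fromZero 𝒜 hf hm)
  have h4 : ((Proj.toSpecZero 𝒜).appLE ⊤ (Proj.basicOpen 𝒜 f) le_top).hom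
      ((Scheme.ΓSpecIso (CommRingCat.of (𝒜 0))).inv.hom b) =
      (Proj.awayToSection 𝒜 f).hom (fromZeroRingHom 𝒜 (Submonoid.powers f) b) := h3.symm
  rw [h4]
  exact valO_awayToSection_fromZero 𝒜 b ⟨y.1, hyf⟩

end Ring

section Rel
variable {Y P : Scheme.{u}} {𝒮 : RelProj.QCGrAlg Y} {p : P ⟶ Y}
  {chart : ∀ (U : Y.Opens) (hU : IsAffineOpen U),
    (((p ⁻¹ᵁ U : P.Opens) : Scheme.{u}) ≅ Proj (𝒮.deg U hU))}

/-- For `r ∈ Γ(Y, U)`, the function `p^♯ r` read on the chart over `U` has value `str(r)/1`. -/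
theorem valO_emb_p (hP : RelProj.IsRelProj 𝒮 p chart) (U : Y.Opens) (hU : IsAffineOpen U)
    (r : Γ(Y, U)) (y : ((RelProj.emb p chart U hU) ⁻¹ᵁ (p ⁻¹ᵁ U) : (Proj (𝒮.deg U hU)).Opens)) :
    valO (𝒮.deg U hU) (((RelProj.emb p chart U hU).app (p ⁻¹ᵁ U)).hom ((p.app U).hom r)) y =
      algebraMap (𝒮.presheaf.obj (op U)) (GrTwist.Loc (𝒮.deg U hU) y.1)
        ((𝒮.str.app (op U)).hom r) := by
  have hc := Groth.Agent.RelProjTN.emb_comp hP U hU
  have e1 : ((RelProj.emb p chart U hU).app (p ⁻¹ᵁ U)).hom ((p.app U).hom r) =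
      ((RelProj.emb p chart U hU ≫ p).appLE U ((RelProj.emb p chart U hU) ⁻¹ᵁ (p ⁻¹ᵁ U))
        le_rfl).hom r := by
    have h := Scheme.Hom.comp_app (RelProj.emb p chart U hU) p U
    have h' : (RelProj.emb p chart U hU ≫ p).appLE U
        ((RelProj.emb p chart U hU) ⁻¹ᵁ (p ⁻¹ᵁ U)) le_rfl = (RelProj.emb p chart U hU ≫ p).app U :=
      (Scheme.Hom.app_eq_appLE _).symm
    rw [h', h]
    rfl
  rw [e1]
  have hle1 : (⊤ : (Spec Γ(Y, U)).Opens) ≤ hU.fromSpec ⁻¹ᵁ U := by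
    rw [hU.fromSpec_preimage_self]
  have e2 : (RelProj.emb p chart U hU ≫ p).appLE U ((RelProj.emb p chart U hU) ⁻¹ᵁ (p ⁻¹ᵁ U))
      le_rfl = hU.fromSpec.appLE U ⊤ hle1 ≫ (Spec.map (𝒮.strZero U hU)).appLE ⊤ ⊤ le_top ≫
        (Proj.toSpecZero (𝒮.deg U hU)).appLE ⊤ ((RelProj.emb p chart U hU) ⁻¹ᵁ (p ⁻¹ᵁ U))
          le_top := by
    rw [Scheme.Hom.appLE_comp_appLE, Scheme.Hom.appLE_comp_appLE]
    exact Groth.Agent.PullbackLocal.appLE_congr hc _ _ _ _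
  rw [e2, Groth.Agent.ProjUPE.fromSpec_appLE_top]
  have e3 : (Scheme.ΓSpecIso Γ(Y, U)).inv ≫ (Spec.map (𝒮.strZero U hU)).appLE ⊤ ⊤ le_top =
      𝒮.strZero U hU ≫ (Scheme.ΓSpecIso _).inv := by
    have h := Scheme.ΓSpecIso_inv_naturality (𝒮.strZero U hU)
    rw [h]
    congr 1
  rw [← Category.assoc, e3]
  exact valO_toSpecZero (𝒮.deg U hU) ((𝒮.strZero U hU).hom r) _ y

end Rel

end Groth.Agent.CanPhi
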