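import Mathlib
import Groth.Prelude
import Groth.Agent.Lib.CanPhi1_helper5
import Groth.Agent.Lib.VAmpEpi1_helper5
import Groth.Agent.Lib.RelTwEx4_helper5
import Groth.Agent.Lib.ModHomBasis_helper5

/-!
# The canonical map `φ : E ⟶ p_* O_P(1)` of a projective bundle  (helper5)
APPEND-ONLY once landed.

For a graded algebra `𝒮` with relative `Proj` `p : P ⟶ Y`, a module `O1 = O_P(1)` with its chart
identifications, and a module map `j : E ⟶ 𝒮` landing in degree one over affine opens, there is a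
(unique) `φ : E ⟶ p_* O1` such that for `U` affine and `e ∈ E(U)`, the section `φ(e)` read on the
chart over `U` has value `j(e)/1` at every point.
-/

set_option autoImplicit false
universe u
open CategoryTheory CategoryTheory.Limits AlgebraicGeometry TopologicalSpace Opposite
open HomogeneousLocalization

noncomputable section

namespace Groth.Agent.CanPhi

open Groth.Agent.GrTw QcqsLoc QCohExtn Groth.Agent.RelTwEx Groth.Agent.SymSum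

variable {Y P : Scheme.{u}} {𝒮 : RelProj.QCGrAlg Y} {p : P ⟶ Y}
  {chart : ∀ (U : Y.Opens) (hU : IsAffineOpen U),
    (((p ⁻¹ᵁ U : P.Opens) : Scheme.{u}) ≅ Proj (𝒮.deg U hU))}
  (hP : RelProj.IsRelProj 𝒮 p chart)
  {O1 : P.Modules}
  {lam : ∀ (U : Y.Opens) (hU : IsAffineOpen U),
    O1 ⟶ (Scheme.Modules.pushforward (RelProj.emb p chart U hU)).obj
      (GrTwist.twist (𝒮.deg U hU) 1)}
  (hO1 : RelProj.IsRelTwist 𝒮 p chart 1 O1 lam)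
  {E : Y.Modules} (j : E ⟶ 𝒮.toModule)
  (hj1 : ∀ (U : Y.Opens) (hU : IsAffineOpen U) (x : Γ(E, U)),
    jAdd E 𝒮.toQCAlg j U x ∈ 𝒮.deg U hU 1)

include hO1 hj1 in
theorem exists_secOf (U : Y.Opens) (hU : IsAffineOpen U) (e : Γ(E, U)) :
    ∃ s : Γ(O1, p ⁻¹ᵁ U), ∀ y : ((RelProj.emb p chart U hU) ⁻¹ᵁ (p ⁻¹ᵁ U) :
        (Proj (𝒮.deg U hU)).Opens),
      GrTwist.val (V := (RelProj.emb p chart U hU) ⁻¹ᵁ (p ⁻¹ᵁ U))
          ((lam U hU).app (p ⁻¹ᵁ U) s) y =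
        algebraMap (𝒮.presheaf.obj (op U)) (GrTwist.Loc (𝒮.deg U hU) y.1)
          (jAdd E 𝒮.toQCAlg j U e) := by
  obtain ⟨t, ht⟩ := Groth.Agent.VAmpEpi.exists_global (𝒮.deg U hU) 1 (by norm_num) (hj1 U hU e)
  obtain ⟨s, hs⟩ := (hO1.bijective U hU (p ⁻¹ᵁ U) le_rfl).2
    (rF (GrTwist.twist (𝒮.deg U hU) 1)
      (le_top : (RelProj.emb p chart U hU) ⁻¹ᵁ (p ⁻¹ᵁ U) ≤ ⊤) t)
  refine ⟨s, fun y => ?_⟩
  have h2 : (lam U hU).app (p ⁻¹ᵁ U) s = rF (GrTwist.twist (𝒮.deg U hU) 1)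
      (le_top : (RelProj.emb p chart U hU) ⁻¹ᵁ (p ⁻¹ᵁ U) ≤ ⊤) t := hs
  rw [h2]
  exact ht ⟨y.1, trivial⟩

/-- The section `φ(e)` of `O_P(1)` over `p⁻¹ U`, for `U` affine. -/
def secOf (U : Y.Opens) (hU : IsAffineOpen U) (e : Γ(E, U)) : Γ(O1, p ⁻¹ᵁ U) :=
  Classical.choose (exists_secOf hO1 j hj1 U hU e)

theorem val_secOf (U : Y.Opens) (hU : IsAffineOpen U) (e : Γ(E, U))
    (y : ((RelProj.emb p chart U hU) ⁻¹ᵁ (p ⁻¹ᵁ U) : (Proj (𝒮.deg U hU)).Opens)) :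
    GrTwist.val (V := (RelProj.emb p chart U hU) ⁻¹ᵁ (p ⁻¹ᵁ U))
        ((lam U hU).app (p ⁻¹ᵁ U) (secOf hO1 j hj1 U hU e)) y =
      algebraMap (𝒮.presheaf.obj (op U)) (GrTwist.Loc (𝒮.deg U hU) y.1)
        (jAdd E 𝒮.toQCAlg j U e) :=
  Classical.choose_spec (exists_secOf hO1 j hj1 U hU e) y

include hO1 in
theorem eq_of_val (U : Y.Opens) (hU : IsAffineOpen U) (s s' : Γ(O1, p ⁻¹ᵁ U))
    (h : ∀ y : ((RelProj.emb p chart U hU) ⁻¹ᵁ (p ⁻¹ᵁ U) : (Proj (𝒮.deg U hU)).Opens),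
      GrTwist.val (V := (RelProj.emb p chart U hU) ⁻¹ᵁ (p ⁻¹ᵁ U))
          ((lam U hU).app (p ⁻¹ᵁ U) s) y =
        GrTwist.val (V := (RelProj.emb p chart U hU) ⁻¹ᵁ (p ⁻¹ᵁ U))
          ((lam U hU).app (p ⁻¹ᵁ U) s') y) : s = s' :=
  ext_chart_val hO1 U hU le_rfl s s' h

theorem secOf_add (U : Y.Opens) (hU : IsAffineOpen U) (e e' : Γ(E, U)) :
    secOf hO1 j hj1 U hU (e + e') = secOf hO1 j hj1 U hU e + secOf hO1 j hj1 U hU e' := by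
  apply eq_of_val hO1 U hU
  intro y
  rw [val_secOf]
  have h1 : (lam U hU).app (p ⁻¹ᵁ U) (secOf hO1 j hj1 U hU e + secOf hO1 j hj1 U hU e') =
      (lam U hU).app (p ⁻¹ᵁ U) (secOf hO1 j hj1 U hU e) +
        (lam U hU).app (p ⁻¹ᵁ U) (secOf hO1 j hj1 U hU e') :=
    map_add (ap (lam U hU) (p ⁻¹ᵁ U)) _ _
  rw [h1]
  refine Eq.trans ?_ (Groth.Agent.GrTw.val_add (𝒮.deg U hU) _ _ y).symm
  rw [val_secOf, val_secOf, map_add, map_add]

include hP in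
theorem secOf_smul (U : Y.Opens) (hU : IsAffineOpen U) (r : Γ(Y, U)) (e : Γ(E, U)) :
    secOf hO1 j hj1 U hU (r • e) = ((p.app U).hom r) • secOf hO1 j hj1 U hU e := by
  apply eq_of_val hO1 U hU
  intro y
  rw [val_secOf]
  have h1 : (lam U hU).app (p ⁻¹ᵁ U) (((p.app U).hom r) • secOf hO1 j hj1 U hU e) =
      (((RelProj.emb p chart U hU).app (p ⁻¹ᵁ U)).hom ((p.app U).hom r)) •
        (show Γ(GrTwist.twist (𝒮.deg U hU) 1, (RelProj.emb p chart U hU) ⁻¹ᵁ (p ⁻¹ᵁ U)) from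
          (lam U hU).app (p ⁻¹ᵁ U) (secOf hO1 j hj1 U hU e)) :=
    chartSec_smul lam U hU (p ⁻¹ᵁ U) ((p.app U).hom r) (secOf hO1 j hj1 U hU e)
  rw [h1, Groth.Agent.GrTw.val_smul, valO_emb_p hP U hU r y]
  erw [val_secOf hO1 j hj1 U hU e y]
  rw [jAdd_smul, map_mul]

theorem jAdd_res {U V : Y.Opens} (hU : IsAffineOpen U) (hV : IsAffineOpen V) (h : V ≤ U)
    (e : Γ(E, U)) :
    jAdd E 𝒮.toQCAlg j V (rF E h e) = 𝒮.res hU hV h (jAdd E 𝒮.toQCAlg j U e) :=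
  QCohCrit.app_naturality j (homOfLE h) e

include hP in
/-- Naturality of `secOf` for affine opens `V ⊆ U`. -/
theorem secOf_res {U V : Y.Opens} (hU : IsAffineOpen U) (hV : IsAffineOpen V) (h : V ≤ U)
    (e : Γ(E, U)) :
    rF O1 (p.preimage_mono h) (secOf hO1 j hj1 U hU e) = secOf hO1 j hj1 V hV (rF E h e) := by
  apply eq_of_val hO1 V hV
  intro y
  rw [val_secOf]
  set s := secOf hO1 j hj1 U hU e with hs
  have hW : p ⁻¹ᵁ V ≤ p ⁻¹ᵁ U := p.preimage_mono h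
  have hcc := chartCompat_chartSec hO1 (p ⁻¹ᵁ V) (rF O1 hW s)
  have hval := isVal_of_chartCompat (hP := hP) (n := 1) (hU₀ := hU)
    (t₀ := chartSec 𝒮 p chart 1 O1 lam U hU (p ⁻¹ᵁ V) (rF O1 hW s)) hW _ hcc rfl hV y
  have hyU : (RelProj.emb p chart V hV) y.1 ∈ p ⁻¹ᵁ U :=
    hW (mem_preimage_of_emb V hV y.1)
  obtain ⟨y₀, hy₀⟩ := exists_pt (𝒮 := 𝒮) (chart := chart) U hU _ hyU
  have hy₀W : (RelProj.emb p chart U hU) y₀ ∈ p ⁻¹ᵁ V := hy₀ ▸ mem_preimage_of_emb V hV y.1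
  have h1 := hval V hV h le_rfl y.1 y₀ hy₀W hy₀ rfl
  rw [gloc_self] at h1
  refine h1.trans ?_
  have h2 : GrTwist.val (chartSec 𝒮 p chart 1 O1 lam U hU (p ⁻¹ᵁ V) (rF O1 hW s)) ⟨y₀, hy₀W⟩ =
      algebraMap (𝒮.presheaf.obj (op U)) (GrTwist.Loc (𝒮.deg U hU) y₀)
        (jAdd E 𝒮.toQCAlg j U e) := by
    rw [chartSec_rF]
    exact val_secOf hO1 j hj1 U hU e ⟨y₀, hW hy₀W⟩
  rw [h2, jAdd_res j hU hV h e]
  unfold gloc
  exact Localization.localRingHom_to_map _ _ _ _ _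

include hP hO1 hj1 in
/-- **Existence of the canonical map `φ : E ⟶ p_* O_P(1)`.** -/
theorem exists_canPhi :
    ∃ φ : E ⟶ (Scheme.Modules.pushforward p).obj O1,
      ∀ (U : Y.Opens) (hU : IsAffineOpen U) (e : Γ(E, U))
        (y : ((RelProj.emb p chart U hU) ⁻¹ᵁ (p ⁻¹ᵁ U) : (Proj (𝒮.deg U hU)).Opens)),
        GrTwist.val (V := (RelProj.emb p chart U hU) ⁻¹ᵁ (p ⁻¹ᵁ U))
            ((lam U hU).app (p ⁻¹ᵁ U) ((φ.app U) e)) y =
          algebraMap (𝒮.presheaf.obj (op U)) (GrTwist.Loc (𝒮.deg U hU) y.1)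
            ((j.app U) e : 𝒮.presheaf.obj (op U)) := by
  have hB : Opens.IsBasis (Set.range (fun i : Y.affineOpens => (i.1 : Y.Opens))) := by
    rw [Subtype.range_coe]
    exact Y.isBasis_affineOpens
  obtain ⟨φ, hφ⟩ := Groth.Agent.ModHomBasis.exists_hom_of_basis E
    ((Scheme.Modules.pushforward p).obj O1) (fun i : Y.affineOpens => (i.1 : Y.Opens)) hB
    (fun i e => secOf hO1 j hj1 i.1 i.2 e)
    (fun i x y => secOf_add hO1 j hj1 i.1 i.2 x y)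
    (fun i r x => secOf_smul hP hO1 j hj1 i.1 i.2 r x)
    (fun i k h x => (secOf_res hP hO1 j hj1 i.2 k.2 h x).symm)
  refine ⟨φ, fun U hU e y => ?_⟩
  have h1 : (φ.app U) e = secOf hO1 j hj1 U hU e := hφ ⟨U, hU⟩ e
  rw [h1]
  exact val_secOf hO1 j hj1 U hU e y

end Groth.Agent.CanPhi
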