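import Mathlib
import Groth.Prelude
import Groth.Agent.Lib.Tens41_helper8
import Groth.Agent.Lib.EpiLoc_helper9

/-!
# An epimorphism between invertible modules is an isomorphism  (helper5)
APPEND-ONLY once landed.
-/

set_option autoImplicit false
universe u
open CategoryTheory CategoryTheory.Limits AlgebraicGeometry TopologicalSpace Opposite

namespace Groth.Agent.InvEpi

open QcqsLoc QCohExtn GenLocH8 TensH8

variable {X : Scheme.{u}}

/-- **An epimorphism between invertible modules is an isomorphism.** -/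
theorem isIso_of_epi {M M' : X.Modules} (hM : PicF.IsInvertible M) (hM' : PicF.IsInvertible M')
    (φ : M ⟶ M') [Epi φ] : IsIso φ := by
  apply isIso_of_isGen_cover φ
  intro x
  obtain ⟨W₁, -, hx₁, e₁, he₁⟩ := exists_isGen hM x
  obtain ⟨W₂, -, hx₂, e₂, he₂⟩ := exists_isGen hM' x
  have hxW : x ∈ W₁ ⊓ W₂ := ⟨hx₁, hx₂⟩
  obtain ⟨V, hV, hxV, t, ht⟩ := EpiLoc.exists_local_lift φ
    (rF M' (inf_le_right : W₁ ⊓ W₂ ≤ W₂) e₂) hxW
  have hV1 : V ≤ W₁ := hV.trans inf_le_left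
  have hV2 : V ≤ W₂ := hV.trans inf_le_right
  have heV : IsGen M V (rF M hV1 e₁) := he₁.res hV1
  have heV' : IsGen M' V (rF M' hV2 e₂) := he₂.res hV2
  obtain ⟨a, ha⟩ := heV.exists_coef t
  obtain ⟨c, hc⟩ := heV'.exists_coef (ap φ V (rF M hV1 e₁))
  have ht' : ap φ V t = rF M' hV2 e₂ := by
    refine Eq.trans ht ?_
    exact rF_rF M' _ _ e₂
  have h1 : (a * c) • rF M' hV2 e₂ = (1 : Γ(X, V)) • rF M' hV2 e₂ := by
    rw [one_smul, mul_smul, ← hc, ← ap_smul, ← ha, ht']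
  have h2 : a * c = 1 := TensH8.IsGen.coef_ext heV' h1
  have hu : IsUnit c := IsUnit.of_mul_eq_one a (by rw [mul_comm]; exact h2)
  refine ⟨V, hxV, rF M hV1 e₁, heV, ?_⟩
  rw [hc]
  exact isGen_smul_of_isUnit heV' hu

end Groth.Agent.InvEpi
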