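import Mathlib
import Groth.Agent.Lib.SymAlg1_helper5
import Groth.Agent.Lib.SymGr1_helper5

/-!
# The grading of the symmetric algebra by symmetric powers  (helper5)
APPEND-ONLY once landed.

* `SymDeg.deg R M d` : the degree-`d` part `(range ι)^d` of `SymmetricAlgebra R M`.
* `SymDeg.gradedAlgebra` : `SymmetricAlgebra R M = ⊕_d deg d` as a graded algebra.
* `SymDeg.symMap_mem` : the map `Sym_R(M) → Sym_{R'}(M')` of a semilinear pair preserves degrees.
-/

set_option autoImplicit false
universe u v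

namespace Groth.Agent.SymDeg

open scoped DirectSum

variable (R M : Type*) [CommRing R] [AddCommGroup M] [Module R M]

/-- The degree-`d` part of the symmetric algebra. -/
def deg : ℕ → Submodule R (SymmetricAlgebra R M) :=
  fun d => LinearMap.range (SymmetricAlgebra.ι R M) ^ d

instance deg_gradedMonoid : SetLike.GradedMonoid (deg R M) :=
  Submodule.nat_power_gradedMonoid (LinearMap.range (SymmetricAlgebra.ι R M))

theorem ι_mem (m : M) : SymmetricAlgebra.ι R M m ∈ deg R M 1 := by
  show _ ∈ LinearMap.range (SymmetricAlgebra.ι R M) ^ 1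
  rw [pow_one]
  exact LinearMap.mem_range_self _ m

theorem algebraMap_mem (r : R) : algebraMap R (SymmetricAlgebra R M) r ∈ deg R M 0 := by
  show _ ∈ LinearMap.range (SymmetricAlgebra.ι R M) ^ 0
  rw [pow_zero, Submodule.mem_one]
  exact ⟨r, rfl⟩

/-- `ι` into the direct sum of the graded pieces. -/
def gι : M →ₗ[R] ⨁ i : ℕ, ↥(deg R M i) :=
  DirectSum.lof R ℕ (fun i => ↥(deg R M i)) 1 ∘ₗ
    (SymmetricAlgebra.ι R M).codRestrict _ (ι_mem R M)

theorem gι_apply (m : M) :
    gι R M m = DirectSum.of (fun (i : ℕ) => ↥(deg R M i)) 1 ⟨SymmetricAlgebra.ι R M m, ι_mem R M m⟩ :=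
  rfl

theorem lift_gι_eq (i : ℕ) (x : SymmetricAlgebra R M)
    (hx' : x ∈ LinearMap.range (SymmetricAlgebra.ι R M) ^ i) (hx : x ∈ deg R M i) :
    SymmetricAlgebra.lift (gι R M) x = DirectSum.of (fun i => ↥(deg R M i)) i ⟨x, hx⟩ := by
  induction hx' using Submodule.pow_induction_on_left' with
  | algebraMap r =>
    rw [AlgHom.commutes, DirectSum.algebraMap_apply]; rfl
  | add x y i hx₁ hy₁ ihx ihy =>
    rw [map_add, ihx hx₁, ihy hy₁, ← map_add]
    rfl
  | mem_mul m hm i x hx₁ ih =>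
    obtain ⟨m, rfl⟩ := hm
    rw [map_mul, ih hx₁, SymmetricAlgebra.lift_ι_apply, gι_apply R M, DirectSum.of_mul_of]
    exact DirectSum.of_eq_of_gradedMonoid_eq (Sigma.subtype_ext (add_comm _ _) rfl)

instance gradedAlgebra : GradedAlgebra (deg R M) :=
  GradedAlgebra.ofAlgHom (deg R M) (SymmetricAlgebra.lift (gι R M))
    (by
      apply SymmetricAlgebra.algHom_ext
      ext m
      change DirectSum.coeAlgHom (deg R M)
        (SymmetricAlgebra.lift (gι R M) (SymmetricAlgebra.ι R M m)) = SymmetricAlgebra.ι R M m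
      rw [SymmetricAlgebra.lift_ι_apply, gι_apply R M, DirectSum.coeAlgHom_of])
    (fun i x => by
      obtain ⟨x, hx⟩ := x
      dsimp only [Subtype.coe_mk, DirectSum.lof_eq_of]
      exact lift_gι_eq R M i x hx hx)

/-- A ring map out of the symmetric algebra sending scalars to degree `0` and generators to degree
`1` is graded. -/
theorem map_mem_of_gen {A' : Type*} [CommRing A'] {τ : Type*} [SetLike τ A'] [AddSubgroupClass τ A']
    (ℬ : ℕ → τ) [GradedRing ℬ] (f : SymmetricAlgebra R M →+* A')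
    (hf₀ : ∀ r, f (algebraMap R _ r) ∈ ℬ 0) (hf₁ : ∀ m, f (SymmetricAlgebra.ι R M m) ∈ ℬ 1)
    (d : ℕ) (x : SymmetricAlgebra R M) (hx : x ∈ deg R M d) : f x ∈ ℬ d :=
  Groth.Agent.SymGr.map_mem_of_gen (algebraMap R (SymmetricAlgebra R M))
    (SymmetricAlgebra.ι R M).toAddMonoidHom (RingHom.id _) (fun _ => rfl) (fun _ => rfl)
    (deg R M) (algebraMap_mem R M) (ι_mem R M) Function.surjective_id ℬ f hf₀ hf₁ d x hx

end Groth.Agent.SymDeg

namespace Groth.Agent.SymDeg

variable {R R' : Type u} [CommRing R] [CommRing R']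
  {M M' : Type u} [AddCommGroup M] [Module R M] [AddCommGroup M'] [Module R' M']

/-- The map `Sym_R(M) → Sym_{R'}(M')` of a semilinear pair preserves degrees. -/
theorem symMap_mem (ρ : R →+* R') (l : M →+ M') (hl : ∀ (a : R) (m : M), l (a • m) = ρ a • l m)
    (d : ℕ) (x : SymmetricAlgebra R M) (hx : x ∈ deg R M d) :
    Groth.Agent.SymAlg.symMap ρ l hl x ∈ deg R' M' d :=
  map_mem_of_gen R M (deg R' M') (Groth.Agent.SymAlg.symMap ρ l hl)
    (fun r => by rw [Groth.Agent.SymAlg.symMap_algebraMap]; exact algebraMap_mem R' M' _)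
    (fun m => by rw [Groth.Agent.SymAlg.symMap_ι]; exact ι_mem R' M' _) d x hx

end Groth.Agent.SymDeg
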