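import Mathlib
import Groth.Prelude
import Groth.Agent.Lib.SymDeg1_helper5
import Groth.Agent.Lib.SymAlg6_helper5
import Groth.Agent.Lib.QCCons2_helper5

/-!
# Existence of the GRADED symmetric algebra of a quasi-coherent module  (helper5)
APPEND-ONLY once landed.

* `SymDeg.grSym E A j hA : RelProj.QCGrAlg X` : the quasi-coherent algebra `A = Sym(E)` (described
  over affines by `hA : IsSymOnAffines E A j`) with its grading by symmetric powers;
  `(grSym E A j hA).toQCAlg = A` definitionally.
* `SymDeg.isGrSymAlg_grSym`, `SymDeg.exists_grSymAlg`.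
-/

set_option autoImplicit false
universe u
open AlgebraicGeometry CategoryTheory CategoryTheory.Limits Opposite TopologicalSpace

noncomputable section

namespace Groth.Agent.SymDeg

open Groth.Agent.SymAlg RelSpec QcqsLoc

variable {X : Scheme.{u}} (E : X.Modules) (A : QCAlg X) (j : E ⟶ A.toModule)
  (hA : IsSymOnAffines E A j)

/-- `A(U) ≃ Sym(E(U))` for affine `U`. -/
def symEquiv (U : X.Opens) (hU : IsAffineOpen U) : A.presheaf.obj (op U) ≃+* SymSec E U :=
  (RingEquiv.ofBijective (symToA E A j U) (hA U hU)).symm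

theorem symToA_symEquiv (U : X.Opens) (hU : IsAffineOpen U) (x : A.presheaf.obj (op U)) :
    symToA E A j U (symEquiv E A j hA U hU x) = x :=
  (RingEquiv.ofBijective (symToA E A j U) (hA U hU)).apply_symm_apply x

theorem symEquiv_symToA (U : X.Opens) (hU : IsAffineOpen U) (y : SymSec E U) :
    symEquiv E A j hA U hU (symToA E A j U y) = y :=
  (RingEquiv.ofBijective (symToA E A j U) (hA U hU)).symm_apply_apply y

/-- The degree-`d` part of `A(U)`. -/
def degA (U : X.Opens) (hU : IsAffineOpen U) : ℕ → AddSubgroup (A.presheaf.obj (op U)) :=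
  Groth.Agent.QCCons.comapGrading (symEquiv E A j hA U hU) (deg Γ(X, U) Γ(E, U))

theorem mem_degA_iff (U : X.Opens) (hU : IsAffineOpen U) (d : ℕ) (x : A.presheaf.obj (op U)) :
    x ∈ degA E A j hA U hU d ↔ symEquiv E A j hA U hU x ∈ deg Γ(X, U) Γ(E, U) d := Iff.rfl

theorem symToA_mem_degA (U : X.Opens) (hU : IsAffineOpen U) (d : ℕ) (y : SymSec E U)
    (hy : y ∈ deg Γ(X, U) Γ(E, U) d) : symToA E A j U y ∈ degA E A j hA U hU d := by
  rw [mem_degA_iff, symEquiv_symToA]
  exact hy

theorem symToA_res {U V : X.Opens} (i : V ≤ U) (y : SymSec E U) :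
    (A.presheaf.map (homOfLE i).op).hom (symToA E A j U y) = symToA E A j V (symRes E i y) := by
  have h := congrArg (fun t => t.hom y) ((symToAHom E A j).naturality (homOfLE i).op)
  exact h.symm

/-- `Sym(E)` with its grading by symmetric powers. -/
def grSym : RelProj.QCGrAlg X :=
  { A with
    deg := degA E A j hA
    graded := fun U hU =>
      Groth.Agent.QCCons.comapGradedRing (symEquiv E A j hA U hU) (deg Γ(X, U) Γ(E, U))
    map_mem := fun {U V} hU hV i {d} {x} hx => by
      rw [mem_degA_iff] at hx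
      have h1 : x = symToA E A j U (symEquiv E A j hA U hU x) := (symToA_symEquiv E A j hA U hU x).symm
      rw [h1, symToA_res E A j i]
      exact symToA_mem_degA E A j hA V hV d _ (symMap_mem _ _ _ d _ hx)
    str_mem := fun U hU r => by
      rw [← symToA_algebraMap E A j U r]
      exact symToA_mem_degA E A j hA U hU 0 _ (algebraMap_mem _ _ r) }

theorem grSym_toQCAlg : (grSym E A j hA).toQCAlg = A := rfl

theorem j_mem_deg_one (U : X.Opens) (hU : IsAffineOpen U) (x : Γ(E, U)) :
    ((j.app U) x : A.presheaf.obj (op U)) ∈ (grSym E A j hA).deg U hU 1 := by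
  rw [← symToA_ι E A j U x]
  exact symToA_mem_degA E A j hA U hU 1 _ (ι_mem _ _ x)

theorem isGrSymAlg_grSym : RelProj.IsGrSymAlg E (grSym E A j hA) j :=
  ⟨isSymAlg_of_isSymOnAffines E A j hA, fun U hU x => j_mem_deg_one E A j hA U hU x⟩

/-- **Existence of the graded symmetric algebra of a quasi-coherent module.** -/
theorem exists_grSymAlg [E.IsQuasicoherent] :
    ∃ (𝒮 : RelProj.QCGrAlg X) (j : E ⟶ 𝒮.toModule), RelProj.IsGrSymAlg E 𝒮 j :=
  ⟨grSym E (symQ E) (symJ E) (isSymOnAffines_symQ E), symJ E,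
    isGrSymAlg_grSym E (symQ E) (symJ E) (isSymOnAffines_symQ E)⟩

end Groth.Agent.SymDeg
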