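import Mathlib
import Groth.Prelude
import Groth.Agent.Lib.SymDeg2_helper5
import Groth.Agent.Lib.CanPhi2_helper5
import Groth.Agent.Lib.RelProjEx4_helper5
import Groth.Agent.Lib.RelTwEx5_helper5
import Groth.Agent.Lib.InvEpi1_helper5
import Groth.Agent.Lib.SymInv2_helper5
import Groth.Agent.Lib.Tens18_helper8
import Groth.Agent.Lib.Tens12_helper8

/-!
# Existence of the projective bundle `P(E)` with `O(1)` and the canonical map; `L` is very ample
relative to the identity  (helper5).  APPEND-ONLY once landed.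
-/

set_option autoImplicit false
universe u
open CategoryTheory CategoryTheory.Limits AlgebraicGeometry TopologicalSpace Opposite

noncomputable section

namespace Groth.Agent.PBundle

variable {Y : Scheme.{u}}

/-- **Existence of the projective bundle** of a quasi-coherent module, with its fundamental sheaf
`O(1)`, the canonical map `φ : E ⟶ p_* O(1)`, whose adjoint `p^* E ⟶ O(1)` is an epimorphism. -/
theorem exists_projBundle (E : Y.Modules) [E.IsQuasicoherent] :
    ∃ (𝒮 : RelProj.QCGrAlg Y) (j : E ⟶ 𝒮.toModule) (_ : RelProj.IsGrSymAlg E 𝒮 j)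
      (P : Scheme.{u}) (p : P ⟶ Y)
      (chart : ∀ (U : Y.Opens) (hU : IsAffineOpen U),
        (((p ⁻¹ᵁ U : P.Opens) : Scheme.{u}) ≅ Proj (𝒮.deg U hU)))
      (_ : RelProj.IsRelProj 𝒮 p chart) (O1 : P.Modules)
      (lam : ∀ (U : Y.Opens) (hU : IsAffineOpen U),
        O1 ⟶ (Scheme.Modules.pushforward (RelProj.emb p chart U hU)).obj
          (GrTwist.twist (𝒮.deg U hU) 1))
      (_ : RelProj.IsRelTwist 𝒮 p chart 1 O1 lam)
      (φ : E ⟶ (Scheme.Modules.pushforward p).obj O1),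
      (∀ (U : Y.Opens) (hU : IsAffineOpen U) (e : Γ(E, U))
        (y : ↥(RelProj.emb p chart U hU ⁻¹ᵁ (p ⁻¹ᵁ U))),
        GrTwist.val (V := RelProj.emb p chart U hU ⁻¹ᵁ (p ⁻¹ᵁ U))
            ((lam U hU).app (p ⁻¹ᵁ U) ((φ.app U) e)) y =
          algebraMap (𝒮.presheaf.obj (op U)) (GrTwist.Loc (𝒮.deg U hU) y.1)
            ((j.app U) e : 𝒮.presheaf.obj (op U))) ∧
      PicF.IsInvertible O1 ∧
      Epi (((Scheme.Modules.pullbackPushforwardAdjunction p).homEquiv E O1).symm φ) := by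
  obtain ⟨𝒮, j, hj⟩ := Groth.Agent.SymDeg.exists_grSymAlg E
  obtain ⟨P, p, chart, hP⟩ := Groth.Agent.RelProjEx.exists_relProj 𝒮
  have hO1 := Groth.Agent.RelTwEx.isRelTwist_relTwist hP 1
  obtain ⟨φ, hφ⟩ := Groth.Agent.CanPhi.exists_canPhi hP hO1 j hj.2
  exact ⟨𝒮, j, hj, P, p, chart, hP, _, _, hO1, φ, hφ,
    Groth.Agent.VAmpEpi.isInvertible_O1 𝒮 p chart E j hj 1 (by norm_num) _ _ hO1,
    Groth.Agent.PBEpi.epi_adj 𝒮 p chart E j hj 1 (by norm_num) _ _ hO1 φ hφ⟩

/-- **An invertible module is very ample relative to the identity.** -/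
theorem isRelVeryAmple_id (L : Y.Modules) (hL : PicF.IsInvertible L) :
    RelProj.IsRelVeryAmple (𝟙 Y) L := by
  haveI hq : L.IsQuasicoherent := TensH8.isQuasicoherent_of_isInvertible hL
  obtain ⟨𝒮, j, hj, P, p, chart, hP, O1, lam, hO1, φ, hφ, hinv, hepi⟩ := exists_projBundle L
  haveI : IsIso p := Groth.Agent.SymInv.isIso_pL L 𝒮 j hL hj hP
  haveI := hepi
  haveI : IsIso (((Scheme.Modules.pullbackPushforwardAdjunction p).homEquiv L O1).symm φ) :=
    Groth.Agent.InvEpi.isIso_of_epi (TensH8.isInvertible_pullback p hL) hinv _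
  refine ⟨L, hq, 𝒮, j, hj, P, p, chart, hP, O1, lam, hO1, inv p, inferInstance,
    IsIso.inv_hom_id p, ⟨?_⟩⟩
  exact ((Scheme.Modules.pullbackId Y).symm.app L) ≪≫
    ((Scheme.Modules.pullbackCongr (IsIso.inv_hom_id p)).symm.app L) ≪≫
    ((Scheme.Modules.pullbackComp (inv p) p).symm.app L) ≪≫
    (Scheme.Modules.pullback (inv p)).mapIso
      (asIso (((Scheme.Modules.pullbackPushforwardAdjunction p).homEquiv L O1).symm φ))

end Groth.Agent.PBundle
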