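import Mathlib
import Groth.Prelude
import Groth.Agent.Lib.PBEpi1_helper5

/-!
# The standard generators `φ(e)` of `O_{P(E)}(1)` over the opens `D_+(j e)`  (helper5)
APPEND-ONLY once landed.
-/

set_option autoImplicit false
universe u
open CategoryTheory CategoryTheory.Limits AlgebraicGeometry TopologicalSpace Opposite
open scoped HomogeneousIdeal

noncomputable section

namespace Groth.Agent.UPB

open QcqsLoc QCohExtn Groth.Agent.GrTw Groth.Agent.RelProjTN Groth.Agent.SymSum Groth.Agent.SymGr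
  GenLocH8

variable {Y P : Scheme.{u}} (E : Y.Modules) [E.IsQuasicoherent]
  (𝒮 : RelProj.QCGrAlg Y) (j : E ⟶ 𝒮.toModule) (hj : RelProj.IsGrSymAlg E 𝒮 j) (p : P ⟶ Y)
  (chart : ∀ (U : Y.Opens) (hU : IsAffineOpen U),
    (((p ⁻¹ᵁ U : P.Opens) : Scheme.{u}) ≅ Proj (𝒮.deg U hU)))
  (O1 : P.Modules)
  (lam : ∀ (U : Y.Opens) (hU : IsAffineOpen U),
    O1 ⟶ (Scheme.Modules.pushforward (RelProj.emb p chart U hU)).obj
      (GrTwist.twist (𝒮.deg U hU) 1))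
  (hO1 : RelProj.IsRelTwist 𝒮 p chart 1 O1 lam)
  (φ : E ⟶ (Scheme.Modules.pushforward p).obj O1)
  (hφ : ∀ (U : Y.Opens) (hU : IsAffineOpen U) (e : Γ(E, U))
    (y : ↥(RelProj.emb p chart U hU ⁻¹ᵁ (p ⁻¹ᵁ U))),
    GrTwist.val (V := RelProj.emb p chart U hU ⁻¹ᵁ (p ⁻¹ᵁ U))
        ((lam U hU).app (p ⁻¹ᵁ U) ((φ.app U) e)) y =
      algebraMap (𝒮.presheaf.obj (op U)) (GrTwist.Loc (𝒮.deg U hU) y.1)
        ((j.app U) e : 𝒮.presheaf.obj (op U)))

/-- The open `D_+(j e)` of `P`, for `e` a section of `E` over the affine open `U`. -/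
def WW (U : Y.Opens) (hU : IsAffineOpen U) (e : Γ(E, U)) : P.Opens :=
  (RelProj.emb p chart U hU) ''ᵁ (Proj.basicOpen (𝒮.deg U hU) (jAdd E 𝒮.toQCAlg j U e))

theorem WW_le_range (U : Y.Opens) (hU : IsAffineOpen U) (e : Γ(E, U)) :
    WW E 𝒮 j p chart U hU e ≤ (RelProj.emb p chart U hU).opensRange :=
  Scheme.Hom.image_le_opensRange _ _

theorem WW_le (U : Y.Opens) (hU : IsAffineOpen U) (e : Γ(E, U)) :
    WW E 𝒮 j p chart U hU e ≤ p ⁻¹ᵁ U :=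
  (WW_le_range E 𝒮 j p chart U hU e).trans (Groth.Agent.GrTw.opensRange_emb 𝒮 p chart U hU).le

theorem preimage_WW (U : Y.Opens) (hU : IsAffineOpen U) (e : Γ(E, U)) :
    (RelProj.emb p chart U hU) ⁻¹ᵁ (WW E 𝒮 j p chart U hU e) =
      Proj.basicOpen (𝒮.deg U hU) (jAdd E 𝒮.toQCAlg j U e) := by
  unfold WW
  rw [Scheme.Hom.preimage_image_eq]

theorem mem_WW_iff (U : Y.Opens) (hU : IsAffineOpen U) (e : Γ(E, U)) (x : P) (hx : x ∈ p ⁻¹ᵁ U) :
    x ∈ WW E 𝒮 j p chart U hU e ↔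
      jAdd E 𝒮.toQCAlg j U e ∉ (zpt p chart U hU x hx).asHomogeneousIdeal := by
  constructor
  · rintro ⟨z, hz, hzx⟩
    have : zpt p chart U hU x hx = z := by
      apply (RelProj.emb p chart U hU).isOpenEmbedding.injective
      rw [emb_zpt]; exact hzx.symm
    rw [this]
    exact (Proj.mem_basicOpen _ _ _).mp hz
  · intro h
    exact ⟨zpt p chart U hU x hx, (Proj.mem_basicOpen _ _ _).mpr h, emb_zpt U hU x hx⟩

include hO1 hφ hj in
/-- `φ(e)` generates `O_P(1)` over `D_+(j e)`. -/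
theorem isGen_phi (U : Y.Opens) (hU : IsAffineOpen U) (e : Γ(E, U)) :
    IsGen O1 (WW E 𝒮 j p chart U hU e)
      (rF O1 (WW_le E 𝒮 j p chart U hU e) (QCohExtn.ap φ U e)) := by
  have hf : jAdd E 𝒮.toQCAlg j U e ∈ 𝒮.deg U hU 1 := hj.2 U hU e
  refine Groth.Agent.PBEpi.isGen_of_val 𝒮 p chart 1 (by norm_num) O1 lam hO1 U hU hf
    (WW E 𝒮 j p chart U hU e) (WW_le_range E 𝒮 j p chart U hU e)
    (preimage_WW E 𝒮 j p chart U hU e).le _ (fun y => ?_)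
  have h1 : (lam U hU).app (WW E 𝒮 j p chart U hU e)
      (rF O1 (WW_le E 𝒮 j p chart U hU e) (QCohExtn.ap φ U e)) =
      rF ((Scheme.Modules.pushforward (RelProj.emb p chart U hU)).obj
        (GrTwist.twist (𝒮.deg U hU) 1)) (WW_le E 𝒮 j p chart U hU e)
          ((lam U hU).app (p ⁻¹ᵁ U) (QCohExtn.ap φ U e)) :=
    QCohExtn.ap_rF (lam U hU) (WW_le E 𝒮 j p chart U hU e) (QCohExtn.ap φ U e)
  rw [h1]
  exact hφ U hU e ⟨y.1, WW_le E 𝒮 j p chart U hU e y.2⟩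

include hj in
/-- The opens `D_+(j e)` cover `p⁻¹(U)`. -/
theorem exists_mem_WW (U : Y.Opens) (hU : IsAffineOpen U) (x : P) (hx : x ∈ p ⁻¹ᵁ U) :
    ∃ e : Γ(E, U), x ∈ WW E 𝒮 j p chart U hU e := by
  obtain ⟨e, he⟩ : ∃ e : Γ(E, U), jAdd E 𝒮.toQCAlg j U e ∉
      (zpt p chart U hU x hx).asHomogeneousIdeal := by
    by_contra hcon
    push Not at hcon
    apply (zpt p chart U hU x hx).not_irrelevant_le
    show ((𝒮.deg U hU)₊).toIdeal ≤ _
    refine (irrelevant_le_span E 𝒮 j hj U hU).trans ?_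
    rw [Ideal.span_le]
    rintro _ ⟨e, rfl⟩
    exact hcon e
  exact ⟨e, (mem_WW_iff E 𝒮 j p chart U hU e x hx).mpr he⟩

end Groth.Agent.UPB
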