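import Mathlib
import Groth.Prelude
import Groth.Agent.Lib.InvTensP1_helper5
import Groth.Agent.Lib.PBundle1_helper5
import Groth.Agent.Lib.GrTwInv_helper5
import Groth.Agent.Lib.InvTens2_helper8
import Groth.Agent.Lib.TensInv2_helper9
import Groth.Agent.Lib.UPB4_helper5

/-!
# Every invertible module has a tensor inverse  (helper5).  APPEND-ONLY once landed.

The inverse is `s^* O_{P(K)}(-1)`, `s` the inverse of the isomorphism `P(K) ⟶ Y`.
-/

set_option autoImplicit false
universe u
open CategoryTheory AlgebraicGeometry TopologicalSpace Opposite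

noncomputable section

namespace Groth.Agent.InvTensP

open QcqsLoc QCohExtn GenLocH8 TensH8 PBH8 Groth.Agent.TensInv

/-- **Every invertible module has a tensor inverse.** -/
theorem exists_inverse {Y : Scheme.{u}} (K : Y.Modules) (hK : PicF.IsInvertible K) :
    ∃ K' : Y.Modules, PicF.IsInvertible K' ∧
      Nonempty (CohB1.tensorMod K K' ≅ Coh.structureModule Y) := by
  haveI hq : K.IsQuasicoherent := TensH8.isQuasicoherent_of_isInvertible hK
  obtain ⟨𝒮, j, hj, P, p, chart, hP, O1, lam, hO1, φ, hφ, hinv, hepi⟩ :=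
    Groth.Agent.PBundle.exists_projBundle K
  haveI : IsIso p := Groth.Agent.SymInv.isIso_pL K 𝒮 j hK hj hP
  haveI := hepi
  haveI : IsIso (((Scheme.Modules.pullbackPushforwardAdjunction p).homEquiv K O1).symm φ) :=
    Groth.Agent.InvEpi.isIso_of_epi (TensH8.isInvertible_pullback p hK) hinv _
  have eK : K ≅ (Scheme.Modules.pullback (inv p)).obj O1 :=
    ((Scheme.Modules.pullbackId Y).symm.app K) ≪≫
    ((Scheme.Modules.pullbackCongr (IsIso.inv_hom_id p)).symm.app K) ≪≫
    ((Scheme.Modules.pullbackComp (inv p) p).symm.app K) ≪≫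
    (Scheme.Modules.pullback (inv p)).mapIso
      (asIso (((Scheme.Modules.pullbackPushforwardAdjunction p).homEquiv K O1).symm φ))
  have hOm := Groth.Agent.RelTwEx.isRelTwist_relTwist hP (-1)
  have hO := Groth.Agent.GrTw.isRelTwist_lamO hP (1 + -1) (by norm_num)
  haveI hiso : IsIso (Groth.Agent.GrTw.mulBilinRel hO1 hOm hO hP).toHom := by
    apply Groth.Agent.GrTw.isIso_mulHomRel_of_cover hO1 hOm hO hP
    intro x
    obtain ⟨_, ⟨V, hV : IsAffineOpen V, rfl⟩, hxV, -⟩ :=
      (Y.isBasis_affineOpens).exists_subset_of_mem_open (Set.mem_univ (p x)) isOpen_univ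
    obtain ⟨e, he⟩ := Groth.Agent.UPB.exists_mem_WW K 𝒮 j hj p chart V hV x hxV
    exact ⟨V, hV, 1, Groth.Agent.SymSum.jAdd K 𝒮.toQCAlg j V e, hj.2 V hV e, 1, -1, by norm_num,
      by norm_num, he⟩
  have e1 : CohB1.tensorMod O1 (Groth.Agent.RelTwEx.relTwist hP (-1)) ≅ Coh.structureModule P :=
    asIso (Groth.Agent.GrTw.mulBilinRel hO1 hOm hO hP).toHom
  have hOmi : PicF.IsInvertible (Groth.Agent.RelTwEx.relTwist hP (-1)) :=
    InvTensH8.isInvertible_of_tensor_iso (comm _ _ ≪≫ e1)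
  refine ⟨(Scheme.Modules.pullback (inv p)).obj (Groth.Agent.RelTwEx.relTwist hP (-1)),
    TensH8.isInvertible_pullback (inv p) hOmi, ⟨?_⟩⟩
  exact mapR eK _ ≪≫ pullbackTensorIso (inv p) hinv hOmi ≪≫
    (Scheme.Modules.pullback (inv p)).mapIso e1 ≪≫ PBH8.pullbackUnitIso (inv p)

end Groth.Agent.InvTensP
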