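import Mathlib
import Groth.Prelude
import Groth.Agent.Lib.KRRReg3_helper9

/-!
# Tensor powers: additivity, multiplicativity, restriction and pullback (helper9)
APPEND-ONLY once landed.
-/

set_option autoImplicit false
universe u
open CategoryTheory CategoryTheory.Limits AlgebraicGeometry TopologicalSpace Opposite

namespace TensPowH9

open Groth.Agent.TensInv CohB1

section Basic

variable {X : Scheme.{u}}

theorem tensorPow_congr {L L' : X.Modules} (e : L ≅ L') (n : ℕ) :
    Nonempty (tensorPow L n ≅ tensorPow L' n) := by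
  induction n with
  | zero => exact ⟨Iso.refl _⟩
  | succ n ih =>
    obtain ⟨e'⟩ := ih
    exact ⟨mapR e' L ≪≫ mapL _ e⟩

theorem tensorPow_add (L : X.Modules) (a b : ℕ) :
    Nonempty (tensorPow L (a + b) ≅ tensorMod (tensorPow L a) (tensorPow L b)) := by
  induction b with
  | zero => exact ⟨(rightUnit _).symm⟩
  | succ b ih =>
    obtain ⟨e⟩ := ih
    exact ⟨mapR e L ≪≫ assoc _ _ _⟩

theorem tensorPow_mul (L : X.Modules) (m t : ℕ) :
    Nonempty (tensorPow (tensorPow L m) t ≅ tensorPow L (m * t)) := by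
  induction t with
  | zero => exact ⟨Iso.refl _⟩
  | succ t ih =>
    obtain ⟨e⟩ := ih
    obtain ⟨e'⟩ := tensorPow_add L (m * t) m
    exact ⟨mapR e _ ≪≫ e'.symm⟩

/-- `M ⊗ L^{r + m t} ≅ (M ⊗ L^r) ⊗ (L^m)^t` -/
theorem tensorMod_tensorPow_divMod (M L : X.Modules) (m t r : ℕ) :
    Nonempty (tensorMod M (tensorPow L (r + m * t)) ≅
      tensorMod (tensorMod M (tensorPow L r)) (tensorPow (tensorPow L m) t)) := by
  obtain ⟨e₁⟩ := tensorPow_add L r (m * t)
  obtain ⟨e₂⟩ := tensorPow_mul L m t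
  exact ⟨mapL M (e₁ ≪≫ mapL _ e₂.symm) ≪≫ (assoc _ _ _).symm⟩

end Basic

section Restrict

variable {U X : Scheme.{u}} (σ : U ⟶ X) [IsOpenImmersion σ]

theorem restrict_tensorPow {L : X.Modules} (hL : PicF.IsInvertible L) (n : ℕ) :
    Nonempty ((tensorPow L n).restrict σ ≅ tensorPow (L.restrict σ) n) := by
  induction n with
  | zero => exact ⟨Scheme.Modules.restrictUnitIso σ⟩
  | succ n ih =>
    obtain ⟨e⟩ := ih
    exact ⟨ResTensH9.resTensIso σ (tensorPow L n) hL ≪≫ mapR e _⟩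

theorem restrict_tensorMod_tensorPow (M : X.Modules) {L : X.Modules} (hL : PicF.IsInvertible L)
    (n : ℕ) :
    Nonempty ((tensorMod M (tensorPow L n)).restrict σ ≅
      tensorMod (M.restrict σ) (tensorPow (L.restrict σ) n)) := by
  obtain ⟨e⟩ := restrict_tensorPow σ hL n
  exact ⟨ResTensH9.resTensIso σ M (TensH8.isInvertible_tensorPow hL n) ≪≫ mapL _ e⟩

end Restrict

section Pull

variable (N : ℕ) (T : Scheme.{u}) {Y : Scheme.{u}} (i : Y ⟶ KRR.PY N T)

theorem pullback_twistOver_pow (t : ℕ) :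
    Nonempty (tensorPow ((Scheme.Modules.pullback i).obj (Twist.twistOver N T 1)) t ≅
      (Scheme.Modules.pullback i).obj (Twist.twistOver N T (t : ℤ))) := by
  induction t with
  | zero =>
    obtain ⟨e⟩ := KRRRegH9.twistOver_zero N T
    exact ⟨(PBH8.pullbackUnitIso i).symm ≪≫ (Scheme.Modules.pullback i).mapIso e.symm⟩
  | succ t ih =>
    obtain ⟨e⟩ := ih
    obtain ⟨e'⟩ := KRRRegH9.twistOver_add N T (t : ℤ) 1
    have e'' : Twist.twistOver N T ((t : ℤ) + 1) ≅ Twist.twistOver N T ((t + 1 : ℕ) : ℤ) :=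
      eqToIso (by push_cast; rfl)
    exact ⟨mapR e _ ≪≫
      (PullTensH9.pullTensIso i (KRRRegH9.isInvertible_twistOver N T t)
        (KRRRegH9.isInvertible_twistOver N T 1)).symm ≪≫
      (Scheme.Modules.pullback i).mapIso (e' ≪≫ e'')⟩

end Pull

end TensPowH9
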