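import Mathlib
import Groth.Prelude
import Groth.Agent.Lib.TensPowApi_helper9
import Groth.Agent.Lib.ProperFin9_helper9
import Groth.Agent.Lib.OpenImmCoh_helper9
import Groth.Agent.S2330

/-!
# Serre vanishing for (relatively) ample invertible modules on proper schemes (helper9)
APPEND-ONLY once landed.
-/

set_option autoImplicit false
universe u
open CategoryTheory CategoryTheory.Limits AlgebraicGeometry TopologicalSpace Opposite

namespace RelAmpleVanH9

open RpushVanish (fr)
open Groth.Agent.TensInv CohB1 ProperFinH9 TensPowH9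

theorem isCoh_tensorMod {X : Scheme.{u}} {F G : X.Modules} (hF : Coh.IsCoh F) (hG : Coh.IsCoh G) :
    Coh.IsCoh (tensorMod F G) := by
  haveI : F.IsQuasicoherent := hF.1
  haveI : G.IsQuasicoherent := hG.1
  exact ⟨TensQCH8.isQuasicoherent_tensorMod F G, TensQCH8.isFiniteType_tensorMod F G hF.2 hG.2⟩

/-- vanishing of `Ext(ℤ_W, M)` for `W = ⊤` is vanishing of cohomology -/
theorem subsingleton_HH_of_ext_top {P : Scheme.{u}} (M : P.Modules) (p : ℕ) (W : P.Opens)
    (hW : W = ⊤) (h : ∀ ξ : Abelian.Ext (fr (Y := P.carrier) W) (Coh.toAb M) p, ξ = 0) :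
    Subsingleton (Coh.HH P M p) := by
  have hW' : (𝟙 P : P ⟶ P).opensRange = W := by
    rw [hW]
    exact Scheme.Hom.opensRange_of_isIso _
  subst hW'
  have h1 := (OpenImmCohH9.ext_vanish_iff_restrict (𝟙 P) M p).mp h
  exact Groth.Agent.HHVan.subsingleton_of_iso (Scheme.Modules.restrictFunctorId.app M) p h1

section Affine

variable {W : Scheme.{u}} [IsAffine W] [IsNoetherian W]

/-- cohomology of twists of a coherent module on `P^N_W`, `W` affine Noetherian, vanishes -/
theorem serre_vanishing_over_affine (N : ℕ) (E : (KRR.PY N W).Modules) (hE : Coh.IsCoh E) :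
    ∃ m₀ : ℤ, ∀ m : ℤ, m₀ ≤ m → ∀ p : ℕ, 1 ≤ p →
      Subsingleton (Coh.HH (KRR.PY N W) (KRR.twF N W m E) p) := by
  obtain ⟨m₀, hm₀⟩ := relative_serre_vanishing N W E hE
  refine ⟨m₀, fun m hm p hp => ?_⟩
  haveI := (KRRRegH9.qcqs_pr N W).1
  haveI := (KRRRegH9.qcqs_pr N W).2
  haveI := KRRRegH9.isQuasicoherent_twF N W E hE.1 m
  exact subsingleton_HH_of_ext_top _ p (KRR.pr N W ⁻¹ᵁ ⊤) rfl
    (KRRRegH9.ext_eq_zero_of_isZero_Rpush (KRR.pr N W) (KRR.twF N W m E) p (hm₀ m hm p hp) ⊤
      (isAffineOpen_top W))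

/-- **Serre vanishing for an ample invertible module on a scheme proper over an affine
Noetherian scheme.** -/
theorem serre_vanishing_ample {Y : Scheme.{u}} (q : Y ⟶ W) [IsProper q]
    (L : Y.Modules) (hL : PicF.IsInvertible L) (hamp : CohB1.IsAmple L)
    (M : Y.Modules) (hM : Coh.IsCoh M) :
    ∃ n₀ : ℕ, ∀ n : ℕ, n₀ ≤ n → ∀ p : ℕ, 0 < p →
      Subsingleton (Coh.HH Y (tensorMod M (tensorPow L n)) p) := by
  obtain ⟨m, hm, N, i, hi, hiq, ⟨eL⟩⟩ := (Groth.Agent.S2330.result q L hL).1.1 hamp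
  -- `i` is a closed immersion
  have hb := Groth.Agent.Lib.ProjSpaceProperH4.isProper_toBase N W
  haveI : IsProper (i ≫ ProjSpaceOver.toBase N W) := by
    have : i ≫ ProjSpaceOver.toBase N W = q := hiq
    rw [this]
    infer_instance
  haveI : IsProper i := IsProper.of_comp i (ProjSpaceOver.toBase N W)
  haveI hic : IsClosedImmersion i :=
    IsClosedImmersion.of_isPreimmersion i i.isClosedMap.isClosed_range
  -- the modules `G_r = M ⊗ L^r`
  have hG : ∀ r : ℕ, Coh.IsCoh (tensorMod M (tensorPow L r)) := fun r =>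
    isCoh_tensorMod hM (isCoh_of_isInvertible (TensH8.isInvertible_tensorPow hL r))
  have hE : ∀ r : ℕ, Coh.IsCoh ((Scheme.Modules.pushforward i).obj (tensorMod M (tensorPow L r))) :=
    fun r => CohDevH8.isCoh_pushforward_of_isFinite i (hG r)
  have hvan := fun r : ℕ => serre_vanishing_over_affine N _ (hE r)
  choose t₀ ht₀ using hvan
  let T : ℕ := (∑ r ∈ Finset.range m, |t₀ r|).toNat
  have hT : ∀ r, r < m → ∀ t : ℕ, T ≤ t → t₀ r ≤ (t : ℤ) := by
    intro r hr t ht
    have h1 : |t₀ r| ≤ ∑ r ∈ Finset.range m, |t₀ r| :=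
      Finset.single_le_sum (f := fun r => |t₀ r|) (fun _ _ => abs_nonneg _)
        (Finset.mem_range.mpr hr)
    have h2 : (0 : ℤ) ≤ ∑ r ∈ Finset.range m, |t₀ r| :=
      Finset.sum_nonneg (fun _ _ => abs_nonneg _)
    have h3 : ((T : ℕ) : ℤ) = ∑ r ∈ Finset.range m, |t₀ r| := Int.toNat_of_nonneg h2
    have h4 : (T : ℤ) ≤ (t : ℤ) := by exact_mod_cast ht
    have h5 := le_abs_self (t₀ r)
    omega
  -- the key vanishing for `n = r + m t`
  have key : ∀ r, r < m → ∀ t : ℕ, T ≤ t → ∀ p : ℕ, 0 < p →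
      Subsingleton (Coh.HH Y (tensorMod M (tensorPow L (r + m * t))) p) := by
    intro r hr t ht p hp
    have h1 := ht₀ r (t : ℤ) (hT r hr t ht) p hp
    -- projection formula
    have e1 := (PFormH9.projIso i (Twist.twistOver N W (t : ℤ))
      (KRRRegH9.isFinLocFree_twistOver N W (t : ℤ))).app (tensorMod M (tensorPow L r))
    have h2 : Subsingleton (Coh.HH (KRR.PY N W) ((Scheme.Modules.pushforward i).obj
        (tensorMod ((Scheme.Modules.pullback i).obj (Twist.twistOver N W (t : ℤ)))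
          (tensorMod M (tensorPow L r)))) p) :=
      Groth.Agent.HHVan.subsingleton_of_iso e1 p h1
    -- cohomology along the closed immersion
    haveI hq1 : ((Scheme.Modules.pullback i).obj (Twist.twistOver N W (t : ℤ))).IsQuasicoherent :=
      (isCoh_of_isInvertible (TensH8.isInvertible_pullback i
        (KRRRegH9.isInvertible_twistOver N W (t : ℤ)))).1
    haveI hq2 : (tensorMod M (tensorPow L r)).IsQuasicoherent := (hG r).1
    haveI hq3 : (tensorMod ((Scheme.Modules.pullback i).obj (Twist.twistOver N W (t : ℤ)))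
        (tensorMod M (tensorPow L r))).IsQuasicoherent :=
      TensQCH8.isQuasicoherent_tensorMod _ _
    have hbij := Groth.Agent.Lib.PushEdge2_helper7.pushEdge_bijective_of_isAffineHom i
      (tensorMod ((Scheme.Modules.pullback i).obj (Twist.twistOver N W (t : ℤ)))
        (tensorMod M (tensorPow L r))) p
    have h3 : Subsingleton (Coh.HH Y
        (tensorMod ((Scheme.Modules.pullback i).obj (Twist.twistOver N W (t : ℤ)))
          (tensorMod M (tensorPow L r))) p) := by
      refine ⟨fun x y => ?_⟩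
      obtain ⟨x', rfl⟩ := hbij.2 x
      obtain ⟨y', rfl⟩ := hbij.2 y
      rw [Subsingleton.elim x' y']
    -- identify the module
    obtain ⟨e2⟩ := pullback_twistOver_pow N W i t
    obtain ⟨e3⟩ := tensorPow_congr eL t
    obtain ⟨e4⟩ := tensorMod_tensorPow_divMod M L m t r
    have e5 : tensorMod ((Scheme.Modules.pullback i).obj (Twist.twistOver N W (t : ℤ)))
          (tensorMod M (tensorPow L r)) ≅ tensorMod M (tensorPow L (r + m * t)) :=
      comm _ _ ≪≫ mapL _ (e2.symm ≪≫ e3.symm) ≪≫ e4.symm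
    exact Groth.Agent.HHVan.subsingleton_of_iso e5 p h3
  refine ⟨m * T, fun n hn p hp => ?_⟩
  have hdm : n % m + m * (n / m) = n := Nat.mod_add_div n m
  have hT' : T ≤ n / m := by
    rw [Nat.le_div_iff_mul_le hm, mul_comm]
    exact hn
  have := key (n % m) (Nat.mod_lt n hm) (n / m) hT' p hp
  rwa [hdm] at this

end Affine

section Relative

variable {X S : Scheme.{u}} (f : X ⟶ S) [IsProper f] [IsNoetherian S]

/-- **Relatively ample invertible modules kill higher direct images** (statement of S0055). -/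
theorem relative_vanishing (L : X.Modules) (hL : PicF.IsInvertible L)
    (ha : ∀ W : S.Opens, IsAffineOpen W → CohB1.IsAmple (L.restrict (f ⁻¹ᵁ W).ι))
    (M : X.Modules) (hM : Coh.IsCoh M) :
    ∃ n₀ : ℕ, ∀ n : ℕ, n₀ ≤ n → ∀ p : ℕ, 0 < p →
      IsZero ((Coh.RpushAb f p).obj (Coh.toAb (tensorMod M (tensorPow L n)))) := by
  obtain ⟨s, hs⟩ := exists_finite_affine_cover S
  have hloc : ∀ V : S.affineOpens, ∃ n₀ : ℕ, ∀ n : ℕ, n₀ ≤ n → ∀ p : ℕ, 0 < p →
      Subsingleton (Coh.HH ((f ⁻¹ᵁ (V : S.Opens) : X.Opens) : Scheme.{u})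
        (tensorMod (M.restrict (f ⁻¹ᵁ (V : S.Opens)).ι)
          (tensorPow (L.restrict (f ⁻¹ᵁ (V : S.Opens)).ι) n)) p) := by
    intro V
    haveI : IsAffine ((V : S.Opens) : Scheme.{u}) := V.2
    haveI : IsNoetherian ((V : S.Opens) : Scheme.{u}) :=
      { toIsLocallyNoetherian := inferInstance
        toCompactSpace := inferInstance }
    haveI : M.IsQuasicoherent := hM.1
    exact serre_vanishing_ample (f ∣_ (V : S.Opens)) _
      (TensH8.isInvertible_restrict _ hL) (ha V V.2) _
      ⟨inferInstance, CohOpenH8.isFiniteType_restrict _ M hM.2⟩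
  choose n₁ hn₁ using hloc
  refine ⟨∑ V ∈ s, n₁ V, fun n hn p hp => ?_⟩
  obtain ⟨p', rfl⟩ : ∃ p', p = p' + 1 := ⟨p - 1, by omega⟩
  haveI : M.IsQuasicoherent := hM.1
  haveI : (tensorPow L n).IsQuasicoherent :=
    (isCoh_of_isInvertible (TensH8.isInvertible_tensorPow hL n)).1
  haveI : (tensorMod M (tensorPow L n)).IsQuasicoherent :=
    TensQCH8.isQuasicoherent_tensorMod _ _
  refine isZero_Rpush_succ_of_affine_cover f (tensorMod M (tensorPow L n)) p'
    (fun V : s => ((V : S.affineOpens) : S.Opens)) (fun V => V.1.2)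
    (fun y => by
      obtain ⟨V, hVs, hy⟩ := hs y
      exact ⟨⟨V, hVs⟩, hy⟩) ?_
  rintro ⟨V, hVs⟩
  have key : ∀ W : X.Opens, (f ⁻¹ᵁ (V : S.Opens)).ι.opensRange = W →
      ∀ ξ : Abelian.Ext (fr (Y := X.carrier) W)
        (Coh.toAb (tensorMod M (tensorPow L n))) (p' + 1), ξ = 0 := by
    rintro W rfl
    rw [OpenImmCohH9.ext_vanish_iff_restrict]
    obtain ⟨e⟩ := restrict_tensorMod_tensorPow (f ⁻¹ᵁ (V : S.Opens)).ι M hL n
    refine Groth.Agent.HHVan.subsingleton_of_iso e.symm (p' + 1) ?_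
    refine hn₁ V n (le_trans ?_ hn) (p' + 1) hp
    exact Finset.single_le_sum (f := fun V => n₁ V) (fun _ _ => Nat.zero_le _) hVs
  exact key _ (Scheme.Opens.opensRange_ι _)

end Relative

end RelAmpleVanH9

namespace RelAmpleVanH9

open Groth.Agent.TensInv CohB1 ProperFinH9 TensPowH9

section Criterion

/-- a quasi-coherent ideal (subobject of the structure module) on a locally Noetherian scheme is
coherent -/
theorem isCoh_of_mono_structureModule {X : Scheme.{u}} [IsLocallyNoetherian X] (I : X.Modules)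
    (i : I ⟶ Coh.structureModule X) [Mono i] (hI : Coh.IsQCoh I) : Coh.IsCoh I := by
  haveI : I.IsQuasicoherent := hI
  have hO := CohDevH8.isCoh_structureModule X
  haveI : (Coh.structureModule X).IsQuasicoherent := hO.1
  haveI hq : (cokernel i).IsQuasicoherent := FComplH8.isQuasicoherent_cokernel i
  have hQ : Coh.IsCoh (cokernel i) := ⟨hq, SerreFT.isFT_of_epi (cokernel.π i) hO.2⟩
  have hK := CohKerH8.isCoh_kernel hO hQ (cokernel.π i)
  have e : I ≅ kernel (cokernel.π i) :=
    IsLimit.conePointUniqueUpToIso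
      (Abelian.monoIsKernelOfCokernel _ (colimit.isColimit (parallelPair i 0)))
      (limit.isLimit (parallelPair (cokernel.π i) 0))
  exact CohDevH8.isCoh_of_iso e hK

/-- **Cohomological criterion of ampleness** on a scheme proper over a Noetherian ring
(statement of S0051). -/
theorem ample_iff_serre_vanishing (R : Type u) [CommRing R] [IsNoetherianRing R]
    (X : Scheme.{u}) (f : X ⟶ Spec (CommRingCat.of R)) [IsProper f] (L : X.Modules)
    (hL : PicF.IsInvertible L) :
    CohB1.IsAmple L ↔ ∀ (M : X.Modules), Coh.IsCoh M → ∃ n₀ : ℕ, ∀ n : ℕ, n₀ ≤ n → ∀ p : ℕ,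
      0 < p → Subsingleton (Coh.HH X (CohB1.tensorMod M (CohB1.tensorPow L n)) p) := by
  constructor
  · intro hamp M hM
    exact serre_vanishing_ample f L hL hamp M hM
  · intro h
    haveI : CompactSpace X := QuasiCompact.compactSpace_of_compactSpace f
    haveI : IsLocallyNoetherian X := LocallyOfFiniteType.isLocallyNoetherian f
    refine TensH8.isAmple_of_H1 hL (fun I i hi hI => ?_)
    haveI := hi
    obtain ⟨n₀, hn₀⟩ := h I (isCoh_of_mono_structureModule I i hI)
    exact ⟨n₀, hn₀ (n₀ + 1) (by omega) 1 (by omega)⟩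

end Criterion

end RelAmpleVanH9
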