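import Mathlib
import Groth.Prelude
import Groth.Agent.Lib.ChevE_helper8
import Groth.Agent.Lib.RelAmpleVan_helper9
import Groth.Agent.Lib.InvTensP2_helper5
import Groth.Agent.Lib.Tens18_helper8
import Groth.Agent.Lib.Tens45_helper8
import Groth.Agent.S0012

/-!
# Ampleness descends along finite surjective morphisms (helper2)

`X`, `Y` proper over a Noetherian ring, `f : Y → X` finite surjective, `L` invertible on `X`:
`L` ample iff `f^* L` ample.  Proof: cohomological criterion (helper9) + dévissage (helper8,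
exactly as in Chevalley's theorem `ChevEH8`).
APPEND-ONLY once landed.
-/

set_option autoImplicit false
universe u
open CategoryTheory CategoryTheory.Limits AlgebraicGeometry TopologicalSpace Opposite

namespace Groth.Agent.Lib.AmpleFinH2

open Groth.Agent.TensInv CohB1 CohDevH8 QcqsLoc QCohExtn IsLocalRing

variable {X : Scheme.{u}}

/-- Serre vanishing property for `F` with respect to `L`. -/
def PV (L F : X.Modules) : Prop :=
  ∃ n₀ : ℕ, ∀ n : ℕ, n₀ ≤ n → ∀ p : ℕ, 0 < p →
    Subsingleton (Coh.HH X (CohB1.tensorMod F (CohB1.tensorPow L n)) p)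

theorem PV_of_iso (L : X.Modules) {M N : X.Modules} (e : Nonempty (M ≅ N)) (h : PV L M) :
    PV L N := by
  obtain ⟨n₀, hn₀⟩ := h
  exact ⟨n₀, fun n hn p hp =>
    Groth.Agent.HHVan.subsingleton_of_iso (mapR e.some _) p (hn₀ n hn p hp)⟩

theorem subsingleton_HH_of_isZero (M : X.Modules) (h : IsZero M) (p : ℕ) :
    Subsingleton (Coh.HH X M p) := by
  refine ⟨fun x y => ?_⟩
  have hx : ∀ z : Coh.HH X M p, z = 0 := fun z => by
    have hz : IsZero (Coh.toAb M) := Functor.map_isZero (SerreCrit.TT X) h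
    have h1 := Abelian.Ext.comp_mk₀_id (show Abelian.Ext _ (Coh.toAb M) p from z)
    rw [hz.eq_of_src (𝟙 _) 0, Abelian.Ext.mk₀_zero, Abelian.Ext.comp_zero] at h1
    exact h1.symm
  rw [hx x, hx y]

theorem PV_of_isZero (L M : X.Modules) (h : IsZero M) : PV L M :=
  ⟨0, fun n _ p _ => subsingleton_HH_of_isZero _
    (Functor.map_isZero (tR (CohB1.tensorPow L n)) h) p⟩

theorem PV_mid {L : X.Modules} (hL : PicF.IsInvertible L) (S : ShortComplex X.Modules)
    (hS : S.ShortExact) (h1 : PV L S.X₁) (h3 : PV L S.X₃) : PV L S.X₂ := by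
  obtain ⟨n₁, hn₁⟩ := h1
  obtain ⟨n₃, hn₃⟩ := h3
  refine ⟨max n₁ n₃, fun n hn p hp => ?_⟩
  obtain ⟨K', -, hK'⟩ := Groth.Agent.InvTensP.exists_inverse (CohB1.tensorPow L n)
    (TensH8.isInvertible_tensorPow hL n)
  have hS' := shortExact_tR hK' S hS
  exact Groth.Agent.HHVan.subsingleton_mid (S.map (tR (CohB1.tensorPow L n))) hS' p
    (hn₁ n (le_trans (le_max_left _ _) hn) p hp) (hn₃ n (le_trans (le_max_right _ _) hn) p hp)

theorem subsingleton_HH_of_retract {A B : X.Modules} (s : A ⟶ B) (r : B ⟶ A)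
    (h : s ≫ r = 𝟙 A) (p : ℕ) (hB : Subsingleton (Coh.HH X B p)) :
    Subsingleton (Coh.HH X A p) := by
  refine ⟨fun x y => ?_⟩
  have hx : ∀ z : Coh.HH X A p, z = 0 := fun z => by
    have h1 : Groth.Agent.HHVan.hmap r p (Groth.Agent.HHVan.hmap s p z) = z := by
      rw [← Groth.Agent.HHVan.hmap_comp, h, Groth.Agent.HHVan.hmap_id]
    rw [← h1, Subsingleton.elim (h := hB) (Groth.Agent.HHVan.hmap s p z) 0, map_zero]
  exact (hx x).trans (hx y).symm

theorem PV_of_retract (L : X.Modules) {M N : X.Modules} (s : M ⟶ N) (r : N ⟶ M)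
    (h : s ≫ r = 𝟙 M) (hN : PV L N) : PV L M := by
  obtain ⟨n₀, hn₀⟩ := hN
  refine ⟨n₀, fun n hn p hp => ?_⟩
  have hN' := hn₀ n hn p hp
  exact subsingleton_HH_of_retract ((tR (CohB1.tensorPow L n)).map s)
    ((tR (CohB1.tensorPow L n)).map r)
    (by rw [← CategoryTheory.Functor.map_comp, h, CategoryTheory.Functor.map_id]) p hN'

theorem PV_of_sigma (L F : X.Modules) (r : ℕ) (hr : 1 ≤ r) (h : PV L (∐ fun _ : Fin r => F)) :
    PV L F :=
  PV_of_retract L (Sigma.ι (fun _ : Fin r => F) ⟨0, hr⟩) (Sigma.desc (fun _ => 𝟙 F))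
    (by simp) h

/-- pullback commutes with tensor powers of invertible modules -/
theorem pullback_tensorPow {Y : Scheme.{u}} (f : Y ⟶ X) {L : X.Modules} (hL : PicF.IsInvertible L)
    (n : ℕ) :
    Nonempty (tensorPow ((Scheme.Modules.pullback f).obj L) n ≅
      (Scheme.Modules.pullback f).obj (tensorPow L n)) := by
  induction n with
  | zero => exact ⟨(PBH8.pullbackUnitIso f).symm⟩
  | succ n ih =>
    obtain ⟨e⟩ := ih
    exact ⟨mapR e _ ≪≫
      (PullTensH9.pullTensIso f (TensH8.isInvertible_tensorPow hL n) hL).symm⟩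

/-- Serre vanishing for direct images along an affine morphism from a scheme proper over an
affine Noetherian base on which the pullback of `L` is ample. -/
theorem PV_push {Y W : Scheme.{u}} [IsAffine W] [IsNoetherian W] (q : Y ⟶ W) [IsProper q]
    (f : Y ⟶ X) [IsAffineHom f] {L : X.Modules} (hL : PicF.IsInvertible L)
    (hamp : CohB1.IsAmple ((Scheme.Modules.pullback f).obj L)) (N : Y.Modules)
    (hN : Coh.IsCoh N) : PV L ((Scheme.Modules.pushforward f).obj N) := by
  have hL' := TensH8.isInvertible_pullback f hL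
  obtain ⟨n₀, hn₀⟩ := RelAmpleVanH9.serre_vanishing_ample q _ hL' hamp N hN
  refine ⟨n₀, fun n hn p hp => ?_⟩
  have h1 := hn₀ n hn p hp
  haveI : N.IsQuasicoherent := hN.1
  haveI : (tensorPow ((Scheme.Modules.pullback f).obj L) n).IsQuasicoherent :=
    (ProperFinH9.isCoh_of_isInvertible (TensH8.isInvertible_tensorPow hL' n)).1
  haveI hq : (tensorMod N (tensorPow ((Scheme.Modules.pullback f).obj L) n)).IsQuasicoherent :=
    TensQCH8.isQuasicoherent_tensorMod _ _
  obtain ⟨eq⟩ := Groth.Agent.S0012.result f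
    (tensorMod N (tensorPow ((Scheme.Modules.pullback f).obj L) n)) p
  have h2 : Subsingleton (Coh.HH X ((Scheme.Modules.pushforward f).obj
      (tensorMod N (tensorPow ((Scheme.Modules.pullback f).obj L) n))) p) :=
    eq.symm.toEquiv.subsingleton
  obtain ⟨ep⟩ := pullback_tensorPow f hL n
  have e1 := (PFormH9.projIso f (tensorPow L n) (TensH8.isFinLocFree_of_isInvertible
    (TensH8.isInvertible_tensorPow hL n))).app N
  have e : tensorMod ((Scheme.Modules.pushforward f).obj N) (tensorPow L n) ≅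
      (Scheme.Modules.pushforward f).obj
        (tensorMod N (tensorPow ((Scheme.Modules.pullback f).obj L) n)) :=
    comm _ _ ≪≫ e1 ≪≫ (Scheme.Modules.pushforward f).mapIso (mapR ep.symm N ≪≫ comm _ _)
  exact Groth.Agent.HHVan.subsingleton_of_iso e.symm p h2

section Main

variable {Y W : Scheme.{u}} [IsAffine W] [IsNoetherian W] (q : Y ⟶ W) [IsProper q]
  (f : Y ⟶ X) [IsFinite f] [Surjective f] [IsNoetherian X]
  {L : X.Modules} (hL : PicF.IsInvertible L)
  (hamp : CohB1.IsAmple ((Scheme.Modules.pullback f).obj L))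

include q f hL hamp in
theorem PV_of_support_subset (Z₀ : Closeds X) :
    IsIrreducible (Z₀ : Set X) → ∀ F : X.Modules, Coh.IsCoh F →
      CohB1.support F ⊆ (Z₀ : Set X) → PV L F := by
  induction Z₀ using WellFoundedLT.induction with
  | ind Z₀ IH =>
    intro hirr F hF hsupp
    haveI : IsLocallyNoetherian Y := LocallyOfFiniteType.isLocallyNoetherian f
    have hξcl : closure {hirr.genericPoint} = (Z₀ : Set X) :=
      hirr.closure_genericPoint Z₀.isClosed
    have hξmem : hirr.genericPoint ∈ (Z₀ : Set X) :=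
      hξcl.subset (subset_closure (Set.mem_singleton _))
    refine Groth.Agent.S9522.result X (Z₀ : Set X) Z₀.isClosed hirr hirr.genericPoint
      ⟨hξmem, hξcl⟩ (PV L) (fun M N e h => PV_of_iso L e h) (PV_of_isZero L)
      (fun S hS _ _ _ h1 h3 => PV_mid hL S hS h1 h3) (fun F r _ hr h => PV_of_sigma L F r hr h)
      ?_ ?_ F hF hsupp
    · intro Z i hi hZ hsub hne I ι hι hq
      haveI := hi
      haveI := hZ
      haveI := hι
      obtain ⟨hcoh, hs⟩ := ChevEH8.isCoh_push_ideal i I ι hq
      refine IH ⟨Set.range ⇑i, i.isClosedEmbedding.isClosed_range⟩ ?_ ?_ _ hcoh hs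
      · refine lt_of_le_of_ne (fun x hx => hsub hx) (fun h => hne ?_)
        exact congrArg (fun W : Closeds X => (W : Set X)) h
      · have h1 := (IrreducibleSpace.isIrreducible_univ Z).image i i.continuous.continuousOn
        rwa [Set.image_univ] at h1
    · obtain ⟨F₀, hF₀, hs₀, hk₀⟩ :=
        ChevCH8.exists_generator f (Z₀ : Set X) Z₀.isClosed hirr.genericPoint hξcl
      haveI := hF₀.1
      haveI := hF₀.2
      haveI hGq : ((Scheme.Modules.pushforward f).obj F₀).IsQuasicoherent :=
        QCohCrit.isQuasicoherent_pushforward f F₀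
      haveI hGf : SheafOfModules.IsFiniteType (R := X.ringCatSheaf)
          ((Scheme.Modules.pushforward f).obj F₀) := QCohCrit.isFiniteType_pushforward f F₀
      refine ⟨(Scheme.Modules.pushforward f).obj F₀, ⟨hGq, hGf⟩, hs₀, hk₀, fun J hJ => ?_⟩
      obtain ⟨e, he⟩ := ChevBH8.exists_idealMul_pushforward_iso f F₀ J
      have hKF : Coh.IsCoh ((Dual3.idealMul (J.comap f)).obj F₀) := isCoh_idealMul _ F₀ hF₀
      haveI := hKF.1
      haveI hG'q : ((Scheme.Modules.pushforward f).obj
          ((Dual3.idealMul (J.comap f)).obj F₀)).IsQuasicoherent :=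
        QCohCrit.isQuasicoherent_pushforward f _
      have hcomp : e.inv ≫ Dual3.idealMulι J ((Scheme.Modules.pushforward f).obj F₀) =
          (Scheme.Modules.pushforward f).map (Dual3.idealMulι (J.comap f) F₀) := by
        rw [← he, Iso.inv_hom_id_assoc]
      refine ⟨_, e.inv, inferInstance, hG'q, ?_, ?_⟩
      · rw [hcomp]
        obtain ⟨V, hV, hξV, hJV⟩ := exists_affine_ideal_eq_top J hJ
        refine ChevDH8.isIso_stalkFunctor_map_of_app_bijective _ hV hξV ?_
        have hKV : (J.comap f).ideal ⟨f ⁻¹ᵁ V, hV.preimage f⟩ = ⊤ := by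
          rw [ChevAH8.ideal_comap_eq_map_ideal f J ⟨V, hV⟩ ⟨f ⁻¹ᵁ V, hV.preimage f⟩ le_rfl, hJV,
            Ideal.map_top]
        exact idealMulι_app_bijective (J.comap f) F₀ (hV.preimage f) hKV
      · exact PV_push q f hL hamp _ hKF

include q f hL hamp in
theorem PV_all [Nonempty X] (M : X.Modules) (hM : Coh.IsCoh M) : PV L M := by
  refine Groth.Agent.S0027.result X (PV L) (fun M N e h => PV_of_iso L e h)
    (fun S hS _ _ _ h1 h3 => PV_mid hL S hS h1 h3) ?_ M hM
  intro Z i hi hZ I ι hι hq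
  haveI := hi
  haveI := hZ
  haveI := hι
  obtain ⟨hcoh, hs⟩ := ChevEH8.isCoh_push_ideal i I ι hq
  refine PV_of_support_subset q f hL hamp
    ⟨Set.range ⇑i, i.isClosedEmbedding.isClosed_range⟩ ?_ _ hcoh hs
  have h1 := (IrreducibleSpace.isIrreducible_univ Z).image i i.continuous.continuousOn
  rwa [Set.image_univ] at h1

end Main

/-- **Ampleness and finite surjective morphisms** (statement of S0052). -/
theorem main0052 (R : Type u) [CommRing R] [IsNoetherianRing R]
    {X Y : Scheme.{u}} (gX : X ⟶ Spec (CommRingCat.of R)) (gY : Y ⟶ Spec (CommRingCat.of R))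
    [IsProper gX] [IsProper gY] (f : Y ⟶ X) (hf : f ≫ gX = gY) [IsFinite f] [Surjective f]
    (L : X.Modules) (hL : PicF.IsInvertible L) :
    CohB1.IsAmple L ↔ CohB1.IsAmple ((Scheme.Modules.pullback f).obj L) := by
  haveI : CompactSpace X := QuasiCompact.compactSpace_of_compactSpace gX
  haveI : CompactSpace Y := QuasiCompact.compactSpace_of_compactSpace gY
  constructor
  · intro h
    exact TensH8.isAmple_pullback_of_isAffineHom f h
  · intro hamp
    by_cases hne : Nonempty X
    · rw [RelAmpleVanH9.ample_iff_serre_vanishing R X gX L hL]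
      haveI : IsLocallyNoetherian X := LocallyOfFiniteType.isLocallyNoetherian gX
      haveI : IsNoetherian X := {}
      intro M hM
      exact PV_all gY f hL hamp M hM
    · haveI : IsEmpty X := not_nonempty_iff.mp hne
      exact ⟨hL, inferInstance, fun x => isEmptyElim x⟩

end Groth.Agent.Lib.AmpleFinH2
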