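import Mathlib
import Groth.Prelude
import Groth.Agent.Lib.ModHomBasis_helper5
import Groth.Agent.Lib.GenLoc_helper8
import Groth.Agent.Lib.QCohExtn_helper9
import Groth.Agent.Lib.SubExt_helper9

/-!
# A morphism of modules out of a module with local generators, from its values on them  (helper5)
APPEND-ONLY once landed.
-/

set_option autoImplicit false
universe u
open CategoryTheory CategoryTheory.Limits AlgebraicGeometry TopologicalSpace Opposite

namespace Groth.Agent.UPB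

open QcqsLoc GenLocH8 QCohExtn

variable {P : Scheme.{u}} {M N : P.Modules}

/-- **Gluing a morphism from local generators**: if `M` has local generators `σ i` over a cover
`W i`, sections `t i` of `N` over the `W i` transforming like the `σ i` determine a morphism
`M ⟶ N` with `σ i ↦ t i`. -/
theorem exists_hom_of_gens {I : Type*} (W : I → P.Opens) (σ : ∀ i, Γ(M, W i))
    (t : ∀ i, Γ(N, W i)) (hcov : ∀ x : P, ∃ i, x ∈ W i)
    (hgen : ∀ i, IsGen M (W i) (σ i))
    (hcompat : ∀ (i j : I) (O : P.Opens) (hi : O ≤ W i) (hj : O ≤ W j) (c : Γ(P, O)),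
      rF M hi (σ i) = c • rF M hj (σ j) → rF N hi (t i) = c • rF N hj (t j)) :
    ∃ ν : M ⟶ N, ∀ i, ap ν (W i) (σ i) = t i := by
  classical
  let ι := {q : P.Opens × I // q.1 ≤ W q.2}
  let B : ι → P.Opens := fun q => q.1.1
  have hB : Opens.IsBasis (Set.range B) := by
    rw [Opens.isBasis_iff_nbhd]
    intro U x hx
    obtain ⟨i, hi⟩ := hcov x
    exact ⟨U ⊓ W i, ⟨⟨(U ⊓ W i, i), inf_le_right⟩, rfl⟩, ⟨hx, hi⟩, inf_le_left⟩
  have hco : ∀ (q : ι) (l : Γ(M, B q)), ∃ c : Γ(P, B q), l = c • rF M q.2 (σ q.1.2) :=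
    fun q l => (hgen q.1.2 (B q) q.2).1 l
  choose co hco using hco
  have huniq : ∀ (q : ι) (a b : Γ(P, B q)),
      a • rF M q.2 (σ q.1.2) = b • rF M q.2 (σ q.1.2) → a = b := by
    intro q a b h
    have h1 : (a - b) • rF M q.2 (σ q.1.2) = 0 := by rw [sub_smul, h, sub_self]
    exact sub_eq_zero.1 ((hgen q.1.2 (B q) q.2).2 _ h1)
  let α : ∀ q : ι, Γ(M, B q) → Γ(N, B q) := fun q l => co q l • rF N q.2 (t q.1.2)
  have hadd : ∀ q x y, α q (x + y) = α q x + α q y := by
    intro q x y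
    show co q (x + y) • _ = co q x • _ + co q y • _
    rw [← add_smul]
    congr 1
    apply huniq q
    rw [add_smul, ← hco q x, ← hco q y, ← hco q (x + y)]
  have hsmul : ∀ q (r : Γ(P, B q)) x, α q (r • x) = r • α q x := by
    intro q r x
    show co q (r • x) • _ = r • (co q x • _)
    rw [← mul_smul]
    congr 1
    apply huniq q
    rw [mul_smul, ← hco q x, ← hco q (r • x)]
  have hnat : ∀ q q' (h : B q' ≤ B q) x, α q' (rF M h x) = rF N h (α q x) := by
    intro q q' h x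
    show co q' (rF M h x) • rF N q'.2 (t q'.1.2) = rF N h (co q x • rF N q.2 (t q.1.2))
    rw [rF_smul, rF_rF]
    have hd := hco q' (rF M (h.trans q.2) (σ q.1.2))
    have ht := hcompat q.1.2 q'.1.2 (B q') (h.trans q.2) q'.2 _ hd
    have h1 : rF M h x = (rX h (co q x) * co q' (rF M (h.trans q.2) (σ q.1.2))) •
        rF M q'.2 (σ q'.1.2) := by
      conv_lhs => rw [hco q x, rF_smul, rF_rF, hd]
      rw [mul_smul]
    have h2 : co q' (rF M h x) = rX h (co q x) * co q' (rF M (h.trans q.2) (σ q.1.2)) := by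
      apply huniq q'
      rw [← hco q' (rF M h x)]
      exact h1
    rw [h2, mul_smul, ← ht]
  obtain ⟨ν, hν⟩ := ModHomBasis.exists_hom_of_basis M N B hB α hadd hsmul hnat
  refine ⟨ν, fun i => ?_⟩
  have h1 := hν ⟨(W i, i), le_rfl⟩ (σ i)
  refine h1.trans ?_
  show co ⟨(W i, i), le_rfl⟩ (σ i) • rF N le_rfl (t i) = t i
  have h2 : co ⟨(W i, i), le_rfl⟩ (σ i) = 1 := by
    apply huniq ⟨(W i, i), le_rfl⟩
    rw [← hco ⟨(W i, i), le_rfl⟩ (σ i), one_smul]
    exact (SubExt.rF_self M le_rfl (σ i)).symm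
  rw [h2, one_smul]
  exact SubExt.rF_self N le_rfl (t i)

/-- The morphism of `exists_hom_of_gens` on sections transforming like the generators. -/
theorem ap_eq_of_gens {I : Type*} (W : I → P.Opens) (σ : ∀ i, Γ(M, W i))
    (t : ∀ i, Γ(N, W i)) (hcov : ∀ x : P, ∃ i, x ∈ W i)
    (hgen : ∀ i, IsGen M (W i) (σ i)) (ν : M ⟶ N) (hν : ∀ i, ap ν (W i) (σ i) = t i)
    {O : P.Opens} (m : Γ(M, O)) (n : Γ(N, O))
    (h : ∀ (i : I) (O' : P.Opens) (hO : O' ≤ O) (hi : O' ≤ W i) (c : Γ(P, O')),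
      rF M hO m = c • rF M hi (σ i) → rF N hO n = c • rF N hi (t i)) :
    ap ν O m = n := by
  apply eq_of_cover
  intro x hx
  obtain ⟨i, hi⟩ := hcov x
  refine ⟨O ⊓ W i, inf_le_left, ⟨hx, hi⟩, ?_⟩
  obtain ⟨c, hc⟩ := (hgen i (O ⊓ W i) inf_le_right).1 (rF M inf_le_left m)
  rw [← ap_rF, hc, ap_smul, ap_rF, hν i]
  exact (h i (O ⊓ W i) inf_le_left inf_le_right c hc).symm

/-- Two morphisms agreeing on local generators are equal. -/
theorem hom_ext_of_gens {I : Type*} (W : I → P.Opens) (σ : ∀ i, Γ(M, W i))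
    (hcov : ∀ x : P, ∃ i, x ∈ W i) (hgen : ∀ i, IsGen M (W i) (σ i)) (ν ν' : M ⟶ N)
    (h : ∀ i, ap ν (W i) (σ i) = ap ν' (W i) (σ i)) : ν = ν' := by
  apply Scheme.Modules.hom_ext
  intro O
  apply ConcreteCategory.hom_ext
  intro m
  show ap ν O m = ap ν' O m
  refine ap_eq_of_gens W σ (fun i => ap ν' (W i) (σ i)) hcov hgen ν h m _ ?_
  intro i O' hO hi c hc
  rw [← ap_rF, hc, ap_smul, ap_rF]

end Groth.Agent.UPB
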