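import Mathlib
import Groth.Prelude
import Groth.Agent.Lib.UPB1_helper5
import Groth.Agent.Lib.UPB4_helper5
import Groth.Agent.Lib.Tens17_helper8

/-!
# The morphism `O_{P(E)}(1) ⟶ r_* L` attached to `r : X ⟶ P(E)` and `s : g^*E ⟶ L`  (helper5)
APPEND-ONLY once landed.
-/

set_option autoImplicit false
universe u
open CategoryTheory CategoryTheory.Limits AlgebraicGeometry TopologicalSpace Opposite
open scoped HomogeneousIdeal

noncomputable section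

namespace Groth.Agent.UPB

open QcqsLoc QCohExtn Groth.Agent.GrTw Groth.Agent.RelProjTN Groth.Agent.SymSum Groth.Agent.SymGr
  GenLocH8

section sb
variable {Y X : Scheme.{u}} (g : X ⟶ Y) (E : Y.Modules) (L : X.Modules)
  (s : (Scheme.Modules.pullback g).obj E ⟶ L)

/-- The section `s♭(e)` of `L` over `g⁻¹(U)`. -/
def sb (U : Y.Opens) (e : Γ(E, U)) : Γ(L, g ⁻¹ᵁ U) :=
  QCohExtn.ap s (g ⁻¹ᵁ U) (PBH8.cUV g E le_rfl e)

theorem sb_res {U U' : Y.Opens} (h : U' ≤ U) (e : Γ(E, U)) :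
    rF L (g.preimage_mono h) (sb g E L s U e) = sb g E L s U' (rF E h e) := by
  unfold sb
  rw [← ap_rF, TensH8.rF_cUV, TensH8.cUV_resV]

theorem sb_add (U : Y.Opens) (e e' : Γ(E, U)) :
    sb g E L s U (e + e') = sb g E L s U e + sb g E L s U e' := by
  unfold sb
  rw [PBH8.cUV_add, map_add]

theorem sb_smul (U : Y.Opens) (a : Γ(Y, U)) (e : Γ(E, U)) :
    sb g E L s U (a • e) = (g.app U).hom a • sb g E L s U e := by
  unfold sb
  rw [PBH8.cUV_smul, ap_smul]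
  congr 1
  exact congrArg (fun t => t.hom a) (Scheme.Hom.appLE_eq_app g)

/-- `s♭(e)` restricted to `V ≤ g⁻¹U`. -/
theorem rF_sb {U : Y.Opens} {V : X.Opens} (hle : V ≤ g ⁻¹ᵁ U) (e : Γ(E, U)) :
    rF L hle (sb g E L s U e) = QCohExtn.ap s V (PBH8.cUV g E hle e) := by
  unfold sb
  rw [← ap_rF, TensH8.rF_cUV]

end sb

variable {Y P : Scheme.{u}} (E : Y.Modules) [E.IsQuasicoherent]
  (𝒮 : RelProj.QCGrAlg Y) (j : E ⟶ 𝒮.toModule) (hj : RelProj.IsGrSymAlg E 𝒮 j) (p : P ⟶ Y)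
  (chart : ∀ (U : Y.Opens) (hU : IsAffineOpen U),
    (((p ⁻¹ᵁ U : P.Opens) : Scheme.{u}) ≅ Proj (𝒮.deg U hU)))
  (O1 : P.Modules)
  (lam : ∀ (U : Y.Opens) (hU : IsAffineOpen U),
    O1 ⟶ (Scheme.Modules.pushforward (RelProj.emb p chart U hU)).obj
      (GrTwist.twist (𝒮.deg U hU) 1))
  (hO1 : RelProj.IsRelTwist 𝒮 p chart 1 O1 lam)
  (φ : E ⟶ (Scheme.Modules.pushforward p).obj O1)
  (hφ : ∀ (U : Y.Opens) (hU : IsAffineOpen U) (e : Γ(E, U))
    (y : ↥(RelProj.emb p chart U hU ⁻¹ᵁ (p ⁻¹ᵁ U))),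
    GrTwist.val (V := RelProj.emb p chart U hU ⁻¹ᵁ (p ⁻¹ᵁ U))
        ((lam U hU).app (p ⁻¹ᵁ U) ((φ.app U) e)) y =
      algebraMap (𝒮.presheaf.obj (op U)) (GrTwist.Loc (𝒮.deg U hU) y.1)
        ((j.app U) e : 𝒮.presheaf.obj (op U)))
  {X : Scheme.{u}} (g : X ⟶ Y) (L : X.Modules) (s : (Scheme.Modules.pullback g).obj E ⟶ L)
  (r : X ⟶ P) (hr : r ≫ p = g)

include hr in
theorem le_g {U : Y.Opens} {W : P.Opens} (hW : W ≤ p ⁻¹ᵁ U) : r ⁻¹ᵁ W ≤ g ⁻¹ᵁ U := by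
  subst hr
  exact fun x hx => hW hx

/-- The value of `φ(e)` as a section of `O1` over `p⁻¹(U)`. -/
abbrev phiSec (U : Y.Opens) (e : Γ(E, U)) : Γ(O1, p ⁻¹ᵁ U) := QCohExtn.ap φ U e

theorem phiSec_res {U U' : Y.Opens} (h : U' ≤ U) (e : Γ(E, U)) :
    rF O1 (p.preimage_mono h) (phiSec E p O1 φ U e) = phiSec E p O1 φ U' (rF E h e) :=
  (ap_rF φ h e).symm

/-- The compatibility between `r` and `s`: relations between the `φ(e)` over opens of `P` pull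
back to relations between the `s♭(e)`. -/
def HCompat : Prop :=
  ∀ (U : Y.Opens) (_ : IsAffineOpen U) (e e' : Γ(E, U)) (W : P.Opens) (hW : W ≤ p ⁻¹ᵁ U)
    (c : Γ(P, W)), rF O1 hW (phiSec E p O1 φ U e) = c • rF O1 hW (phiSec E p O1 φ U e') →
    rF L (le_g p g r hr hW) (sb g E L s U e) =
      (r.app W).hom c • rF L (le_g p g r hr hW) (sb g E L s U e')

include hr in
/-- `HCompat` for sections over two different affine opens. -/
theorem hcompat_two (H : HCompat E p O1 φ g L s r hr)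
    (U : Y.Opens) (_ : IsAffineOpen U) (e : Γ(E, U)) (U' : Y.Opens) (_ : IsAffineOpen U')
    (e' : Γ(E, U')) (O : P.Opens) (h : O ≤ p ⁻¹ᵁ U) (h' : O ≤ p ⁻¹ᵁ U') (c : Γ(P, O))
    (hc : rF O1 h (phiSec E p O1 φ U e) = c • rF O1 h' (phiSec E p O1 φ U' e')) :
    rF L (le_g p g r hr h) (sb g E L s U e) =
      (r.app O).hom c • rF L (le_g p g r hr h') (sb g E L s U' e') := by
  apply eq_of_cover
  intro x hx
  have hy : r x ∈ O := hx
  have hpy : p (r x) ∈ U ⊓ U' := ⟨h hy, h' hy⟩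
  obtain ⟨U'', hU'', hxU'', hU''le⟩ := Opens.isBasis_iff_nbhd.mp Y.isBasis_affineOpens hpy
  have hU''a : IsAffineOpen U'' := hU''
  have hUU : U'' ≤ U := hU''le.trans inf_le_left
  have hUU' : U'' ≤ U' := hU''le.trans inf_le_right
  have hO'' : O ⊓ p ⁻¹ᵁ U'' ≤ p ⁻¹ᵁ U'' := inf_le_right
  have hOO : O ⊓ p ⁻¹ᵁ U'' ≤ O := inf_le_left
  have hc'' : rF O1 hO'' (phiSec E p O1 φ U'' (rF E hUU e)) =
      rX hOO c • rF O1 hO'' (phiSec E p O1 φ U'' (rF E hUU' e')) := by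
    rw [← phiSec_res E p O1 φ hUU e, ← phiSec_res E p O1 φ hUU' e', rF_rF, rF_rF]
    have h1 := congrArg (rF O1 hOO) hc
    rw [rF_smul, rF_rF, rF_rF] at h1
    exact h1
  have h2 := H U'' hU''a (rF E hUU e) (rF E hUU' e') (O ⊓ p ⁻¹ᵁ U'') hO'' (rX hOO c) hc''
  rw [← sb_res g E L s hUU e, ← sb_res g E L s hUU' e', rF_rF, rF_rF] at h2
  refine ⟨r ⁻¹ᵁ (O ⊓ p ⁻¹ᵁ U''), r.preimage_mono hOO, ⟨hy, hxU''⟩, ?_⟩
  rw [rF_rF, rF_smul, rF_rF]
  refine h2.trans ?_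
  congr 1
  exact congrArg (fun t => t.hom c) (r.naturality (homOfLE hOO).op)

include hO1 hφ hj hr in
/-- **The morphism `ν : O_P(1) ⟶ r_* L` with `ν(φ(e)) = s♭(e)`.** -/
theorem exists_nu (H : HCompat E p O1 φ g L s r hr) :
    ∃ ν : O1 ⟶ (Scheme.Modules.pushforward r).obj L,
      ∀ (U : Y.Opens) (_ : IsAffineOpen U) (e : Γ(E, U)),
        QCohExtn.ap ν (p ⁻¹ᵁ U) (phiSec E p O1 φ U e) =
          (show Γ((Scheme.Modules.pushforward r).obj L, p ⁻¹ᵁ U) from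
            rF L (le_g p g r hr le_rfl) (sb g E L s U e)) := by
  let I := Σ U : Y.affineOpens, Γ(E, U.1)
  let W : I → P.Opens := fun i => WW E 𝒮 j p chart i.1.1 i.1.2 i.2
  have hWle : ∀ i : I, W i ≤ p ⁻¹ᵁ i.1.1 := fun i => WW_le E 𝒮 j p chart i.1.1 i.1.2 i.2
  let σ : ∀ i : I, Γ(O1, W i) := fun i => rF O1 (hWle i) (phiSec E p O1 φ i.1.1 i.2)
  let t : ∀ i : I, Γ((Scheme.Modules.pushforward r).obj L, W i) := fun i =>
    rF L (le_g p g r hr (hWle i)) (sb g E L s i.1.1 i.2)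
  have hcov : ∀ x : P, ∃ i : I, x ∈ W i := by
    intro x
    obtain ⟨U, hU, hxU, -⟩ := Opens.isBasis_iff_nbhd.mp Y.isBasis_affineOpens
      (Opens.mem_top (p x))
    obtain ⟨e, he⟩ := exists_mem_WW E 𝒮 j hj p chart U hU x hxU
    exact ⟨⟨⟨U, hU⟩, e⟩, he⟩
  have hgen : ∀ i : I, IsGen O1 (W i) (σ i) := fun i =>
    isGen_phi E 𝒮 j hj p chart O1 lam hO1 φ hφ i.1.1 i.1.2 i.2
  have hcompat : ∀ (i i' : I) (O : P.Opens) (hi : O ≤ W i) (hi' : O ≤ W i') (c : Γ(P, O)),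
      rF O1 hi (σ i) = c • rF O1 hi' (σ i') →
      rF ((Scheme.Modules.pushforward r).obj L) hi (t i) =
        c • rF ((Scheme.Modules.pushforward r).obj L) hi' (t i') := by
    intro i i' O hi hi' c hc
    have hc' : rF O1 (hi.trans (hWle i)) (phiSec E p O1 φ i.1.1 i.2) =
        c • rF O1 (hi'.trans (hWle i')) (phiSec E p O1 φ i'.1.1 i'.2) := by
      rw [← rF_rF O1 hi (hWle i), ← rF_rF O1 hi' (hWle i')]
      exact hc
    have h1 := hcompat_two E p O1 φ g L s r hr H i.1.1 i.1.2 i.2 i'.1.1 i'.1.2 i'.2 O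
      (hi.trans (hWle i)) (hi'.trans (hWle i')) c hc'
    show rF L (r.preimage_mono hi) (rF L _ (sb g E L s i.1.1 i.2)) =
      (r.app O).hom c • rF L (r.preimage_mono hi') (rF L _ (sb g E L s i'.1.1 i'.2))
    rw [rF_rF, rF_rF]
    exact h1
  obtain ⟨ν, hν⟩ := exists_hom_of_gens W σ t hcov hgen hcompat
  refine ⟨ν, fun U hU e => ?_⟩
  refine ap_eq_of_gens W σ t hcov hgen ν hν _ _ ?_
  intro i O' hO hi c hc
  have hc' : rF O1 hO (phiSec E p O1 φ U e) =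
      c • rF O1 (hi.trans (hWle i)) (phiSec E p O1 φ i.1.1 i.2) := by
    rw [← rF_rF O1 hi (hWle i)]
    exact hc
  have h1 := hcompat_two E p O1 φ g L s r hr H U hU e i.1.1 i.1.2 i.2 O' hO
    (hi.trans (hWle i)) c hc'
  show rF L (r.preimage_mono hO) (rF L _ (sb g E L s U e)) =
    (r.app O').hom c • rF L (r.preimage_mono hi) (rF L _ (sb g E L s i.1.1 i.2))
  rw [rF_rF, rF_rF]
  exact h1

end Groth.Agent.UPB
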