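import Mathlib
import Groth.Prelude
import Groth.Agent.Lib.UPB5_helper5
import Groth.Agent.Lib.BCComp_helper7
import Groth.Agent.Lib.VAmpEpi1_helper5
import Groth.Agent.Lib.InvEpi1_helper5
import Groth.Agent.Lib.Tens18_helper8

/-!
# From `ν : O_{P(E)}(1) ⟶ r_* L` to `τ : r^* O(1) ≅ L` and back  (helper5)
APPEND-ONLY once landed.
-/

set_option autoImplicit false
universe u
open CategoryTheory AlgebraicGeometry TopologicalSpace Opposite

noncomputable section

namespace Groth.Agent.UPB

open QcqsLoc QCohExtn GenLocH8 Scheme.Modules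

/-- Morphisms of modules agreeing on sections over affine opens are equal. -/
theorem hom_ext_affine {Y : Scheme.{u}} {F G : Y.Modules} (α β : F ⟶ G)
    (h : ∀ (U : Y.Opens) (_ : IsAffineOpen U) (x : Γ(F, U)), ap α U x = ap β U x) : α = β := by
  apply Scheme.Modules.hom_ext
  intro O
  apply ConcreteCategory.hom_ext
  intro m
  show ap α O m = ap β O m
  apply eq_of_cover
  intro x hx
  obtain ⟨V, hV, hxV, hVO⟩ := Opens.isBasis_iff_nbhd.mp Y.isBasis_affineOpens hx
  exact ⟨V, hVO, hxV, by rw [← ap_rF, ← ap_rF, h V hV]⟩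

section Adj
variable {Y P X : Scheme.{u}} (p : P ⟶ Y) (r : X ⟶ P) (E : Y.Modules) (O1 : P.Modules)
  (L : X.Modules) (φ : E ⟶ (pushforward p).obj O1) (ν : O1 ⟶ (pushforward r).obj L)
  (s : (pullback (r ≫ p)).obj E ⟶ L)

/-- The compatibility of `τ = ν♯` with `s`, transposed through the adjunctions. -/
theorem compat_iff_aux :
    (pullbackComp r p).inv.app E ≫
        (pullback r).map (((pullbackPushforwardAdjunction p).homEquiv E O1).symm φ) ≫
          ((pullbackPushforwardAdjunction r).homEquiv O1 L).symm ν = s ↔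
      φ ≫ (pushforward p).map ν ≫ (pushforwardComp r p).hom.app L =
        (pullbackPushforwardAdjunction (r ≫ p)).homEquiv E L s := by
  set a := ((pullbackPushforwardAdjunction p).homEquiv E O1).symm φ with ha
  set τ := ((pullbackPushforwardAdjunction r).homEquiv O1 L).symm ν with hτ
  have F1 : φ = (pullbackPushforwardAdjunction p).unit.app E ≫ (pushforward p).map a := by
    rw [ha]
    exact (Equiv.apply_symm_apply _ φ).symm.trans (Adjunction.homEquiv_unit _ _ _ _)
  have F2 : ν = (pullbackPushforwardAdjunction r).unit.app O1 ≫ (pushforward r).map τ := by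
    rw [hτ]
    exact (Equiv.apply_symm_apply _ ν).symm.trans (Adjunction.homEquiv_unit _ _ _ _)
  have F3 := Groth.Agent.Lib.BCComp_helper7.Hp_concrete r p E
  have F4 : ∀ {A B : X.Modules} (f : A ⟶ B),
      (pushforward p).map ((pushforward r).map f) ≫ (pushforwardComp r p).hom.app B =
        (pushforwardComp r p).hom.app A ≫ (pushforward (r ≫ p)).map f :=
    fun f => (pushforwardComp r p).hom.naturality f
  have F5 : a ≫ (pullbackPushforwardAdjunction r).unit.app O1 =
      (pullbackPushforwardAdjunction r).unit.app ((pullback p).obj E) ≫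
        (pushforward r).map ((pullback r).map a) :=
    (pullbackPushforwardAdjunction r).unit.naturality a
  have key : (pullbackPushforwardAdjunction (r ≫ p)).homEquiv E L
      ((pullbackComp r p).inv.app E ≫ (pullback r).map a ≫ τ) =
      φ ≫ (pushforward p).map ν ≫ (pushforwardComp r p).hom.app L := by
    rw [Adjunction.homEquiv_unit, Functor.map_comp, ← Category.assoc, ← F3]
    simp only [Category.assoc]
    rw [← F4, F1, F2]
    simp only [Functor.map_comp, Category.assoc]
    rw [← (pushforward p).map_comp_assoc a, F5]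
    simp only [Functor.map_comp, Category.assoc]
  constructor
  · intro h
    rw [← key, h]
  · intro h
    apply ((pullbackPushforwardAdjunction (r ≫ p)).homEquiv E L).injective
    rw [key, h]

end Adj

section Main
variable {Y P : Scheme.{u}} (E : Y.Modules) [E.IsQuasicoherent]
  (𝒮 : RelProj.QCGrAlg Y) (j : E ⟶ 𝒮.toModule) (hj : RelProj.IsGrSymAlg E 𝒮 j) (p : P ⟶ Y)
  (chart : ∀ (U : Y.Opens) (hU : IsAffineOpen U),
    (((p ⁻¹ᵁ U : P.Opens) : Scheme.{u}) ≅ Proj (𝒮.deg U hU)))
  (O1 : P.Modules)
  (lam : ∀ (U : Y.Opens) (hU : IsAffineOpen U),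
    O1 ⟶ (Scheme.Modules.pushforward (RelProj.emb p chart U hU)).obj
      (GrTwist.twist (𝒮.deg U hU) 1))
  (hO1 : RelProj.IsRelTwist 𝒮 p chart 1 O1 lam)
  (φ : E ⟶ (Scheme.Modules.pushforward p).obj O1)
  {X : Scheme.{u}} (g : X ⟶ Y) (L : X.Modules) (s : (Scheme.Modules.pullback g).obj E ⟶ L)
  (r : X ⟶ P) (hr : r ≫ p = g)

/-- The compatibility of `τ = ν♯` with `s` in terms of sections: `ν(φ(e)) = s♭(e)`. -/
theorem compat_iff (ν : O1 ⟶ (pushforward r).obj L) :
    (pullbackCongr hr).inv.app E ≫ (pullbackComp r p).inv.app E ≫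
        (pullback r).map (((pullbackPushforwardAdjunction p).homEquiv E O1).symm φ) ≫
          ((pullbackPushforwardAdjunction r).homEquiv O1 L).symm ν = s ↔
      ∀ (U : Y.Opens) (_ : IsAffineOpen U) (e : Γ(E, U)),
        QCohExtn.ap ν (p ⁻¹ᵁ U) (phiSec E p O1 φ U e) =
          (show Γ((Scheme.Modules.pushforward r).obj L, p ⁻¹ᵁ U) from
            rF L (le_g p g r hr le_rfl) (sb g E L s U e)) := by
  subst hr
  have e0 : (pullbackCongr (rfl : r ≫ p = r ≫ p)).inv.app E = 𝟙 _ := by
    simp [pullbackCongr]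
  rw [e0, Category.id_comp, compat_iff_aux]
  have hsb : ∀ (U : Y.Opens) (e : Γ(E, U)),
      QCohExtn.ap ((pullbackPushforwardAdjunction (r ≫ p)).homEquiv E L s) U e =
        sb (r ≫ p) E L s U e := by
    intro U e
    have h1 := Groth.Agent.GrTw.adj_symm_cUV (r ≫ p)
      ((pullbackPushforwardAdjunction (r ≫ p)).homEquiv E L s) U e
    rw [Equiv.symm_apply_apply] at h1
    exact h1.symm
  constructor
  · intro h U hU e
    have h1 := congrArg (fun t => QCohExtn.ap t U e) h
    refine Eq.trans ?_ ((h1.trans (hsb U e)).trans ?_)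
    · rfl
    · exact (SubExt.rF_self L _ _).symm
  · intro h
    apply hom_ext_affine
    intro U hU e
    refine Eq.trans ?_ ((h U hU e).trans ?_)
    · rfl
    · exact (SubExt.rF_self L _ _).trans (hsb U e).symm

include hj hO1 in
/-- **From `ν` to `τ`.** -/
theorem exists_tau_of_nu (hL : PicF.IsInvertible L) [Epi s]
    (ν : O1 ⟶ (pushforward r).obj L)
    (hν : ∀ (U : Y.Opens) (_ : IsAffineOpen U) (e : Γ(E, U)),
      QCohExtn.ap ν (p ⁻¹ᵁ U) (phiSec E p O1 φ U e) =
        (show Γ((Scheme.Modules.pushforward r).obj L, p ⁻¹ᵁ U) from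
          rF L (le_g p g r hr le_rfl) (sb g E L s U e))) :
    ∃ τ : (pullback r).obj O1 ≅ L,
      (pullbackCongr hr).inv.app E ≫ (pullbackComp r p).inv.app E ≫
        (pullback r).map (((pullbackPushforwardAdjunction p).homEquiv E O1).symm φ) ≫ τ.hom = s := by
  have hc := (compat_iff E p O1 φ g L s r hr ν).mpr hν
  have hO1inv : PicF.IsInvertible O1 :=
    Groth.Agent.VAmpEpi.isInvertible_O1 𝒮 p chart E j hj 1 (by norm_num) O1 lam hO1
  haveI : Epi (((pullbackPushforwardAdjunction r).homEquiv O1 L).symm ν) := by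
    have h1 : Epi (((pullbackCongr hr).inv.app E ≫ (pullbackComp r p).inv.app E ≫
        (pullback r).map (((pullbackPushforwardAdjunction p).homEquiv E O1).symm φ)) ≫
          ((pullbackPushforwardAdjunction r).homEquiv O1 L).symm ν) := by
      simp only [Category.assoc]
      rw [hc]
      infer_instance
    exact epi_of_epi ((pullbackCongr hr).inv.app E ≫ (pullbackComp r p).inv.app E ≫
        (pullback r).map (((pullbackPushforwardAdjunction p).homEquiv E O1).symm φ)) _
  haveI : IsIso (((pullbackPushforwardAdjunction r).homEquiv O1 L).symm ν) :=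
    Groth.Agent.InvEpi.isIso_of_epi (TensH8.isInvertible_pullback r hO1inv) hL _
  exact ⟨asIso (((pullbackPushforwardAdjunction r).homEquiv O1 L).symm ν), hc⟩

/-- **From `τ` to `ν`.** -/
theorem nu_of_tau (τ : (pullback r).obj O1 ⟶ L)
    (hτ : (pullbackCongr hr).inv.app E ≫ (pullbackComp r p).inv.app E ≫
      (pullback r).map (((pullbackPushforwardAdjunction p).homEquiv E O1).symm φ) ≫ τ = s)
    (U : Y.Opens) (hU : IsAffineOpen U) (e : Γ(E, U)) :
    QCohExtn.ap ((pullbackPushforwardAdjunction r).homEquiv O1 L τ) (p ⁻¹ᵁ U)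
        (phiSec E p O1 φ U e) =
      (show Γ((Scheme.Modules.pushforward r).obj L, p ⁻¹ᵁ U) from
        rF L (le_g p g r hr le_rfl) (sb g E L s U e)) := by
  refine (compat_iff E p O1 φ g L s r hr _).mp ?_ U hU e
  rw [Equiv.symm_apply_apply]
  exact hτ

end Main

end Groth.Agent.UPB
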