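import Mathlib
import Groth.Prelude
import Groth.Agent.Lib.AmpleFin1_helper2
import Groth.Agent.Lib.ClPush1_helper8
import Groth.Agent.Lib.CohDev10_helper8
import Groth.Agent.Lib.UPB6_helper5

/-!
# Ampleness from ampleness on closed subschemes covering `X` (helper2)

`X` proper over a Noetherian ring, `L` invertible.  If `L` is ample on `V(I)` and `V(J)` and
`I J = 0`, then `L` is ample; `L` is ample iff it is ample on the irreducible components.
APPEND-ONLY once landed.
-/

set_option autoImplicit false
universe u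
open CategoryTheory CategoryTheory.Limits AlgebraicGeometry TopologicalSpace Opposite

namespace Groth.Agent.Lib.AmpleFinH2

open Groth.Agent.TensInv CohB1 CohDevH8 QcqsLoc QCohExtn IsLocalRing

variable {X : Scheme.{u}}

/-- all coherent modules killed by `I` satisfy Serre vanishing for `L` -/
def PVK (L : X.Modules) (I : X.IdealSheafData) : Prop :=
  ∀ F : X.Modules, Coh.IsCoh F → ClSub.KilledByIdeal I F → PV L F

theorem PVK_mono (L : X.Modules) {I I' : X.IdealSheafData} (h : I ≤ I') (hI : PVK L I) :
    PVK L I' :=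
  fun F hF hk => hI F hF (fun U a ha m => hk U a (h U ha) m)

theorem isZero_of_killed_top (F : X.Modules) (hk : ClSub.KilledByIdeal ⊤ F) : IsZero F := by
  rw [IsZero.iff_id_eq_zero]
  apply Groth.Agent.UPB.hom_ext_affine
  intro U hU x
  have h1 : (1 : Γ(X, U)) • x = 0 := hk ⟨U, hU⟩ 1 (by
    rw [Scheme.IdealSheafData.ideal_top]
    trivial) x
  rw [one_smul] at h1
  rw [h1, map_zero, map_zero]

theorem PVK_top (L : X.Modules) : PVK L ⊤ :=
  fun F _ hk => PV_of_isZero L F (isZero_of_killed_top F hk)

theorem killed_idealMul (I J : X.IdealSheafData) (F : X.Modules) [F.IsQuasicoherent]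
    (hk : ClSub.KilledByIdeal (I * J) F) :
    ClSub.KilledByIdeal I ((Dual3.idealMul J).obj F) := by
  intro U a ha s
  have hinj := QCohExact.app_injective_of_mono (Dual3.idealMulι J F) U.1
  apply hinj
  have h1 : ap (Dual3.idealMulι J F) U.1 (a • s) = a • ap (Dual3.idealMulι J F) U.1 s :=
    ap_smul _ a s
  have h0 : ap (Dual3.idealMulι J F) U.1 0 = 0 := map_zero _
  refine h1.trans (Eq.trans ?_ h0.symm)
  have hmem := idealMulι_app_mem J F U.2 s
  refine Submodule.smul_induction_on hmem ?_ ?_
  · intro r hr x _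
    rw [← mul_smul]
    refine hk U (a * r) ?_ x
    rw [Scheme.IdealSheafData.ideal_mul]
    exact Ideal.mul_mem_mul ha hr
  · intro x y hx hy
    rw [smul_add, hx, hy, add_zero]

theorem PVK_mul [IsLocallyNoetherian X] {L : X.Modules} (hL : PicF.IsInvertible L)
    {I J : X.IdealSheafData} (hI : PVK L I) (hJ : PVK L J) : PVK L (I * J) := by
  intro M hM hk
  haveI := hM.1
  let S : ShortComplex X.Modules :=
    ShortComplex.mk (kernel.ι (quotJπ J M)) (quotJπ J M) (kernel.condition _)
  haveI : Epi (quotJπ J M) := epi_quotJπ J M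
  have hS : S.ShortExact := ShortComplex.ShortExact.mk' (ShortComplex.exact_kernel _)
    (inferInstanceAs (Mono (kernel.ι (quotJπ J M)))) (inferInstanceAs (Epi (quotJπ J M)))
  have h1 : PV L S.X₁ :=
    hI ((Dual3.idealMul J).obj M) (isCoh_idealMul J M hM) (killed_idealMul I J M hk)
  have h3 : PV L S.X₃ := hJ (quotJ J M) (isCoh_quotJ J M hM) (killed_quotJ J M)
  exact PV_mid hL S hS h1 h3

theorem PVK_pow [IsLocallyNoetherian X] {L : X.Modules} (hL : PicF.IsInvertible L)
    {I : X.IdealSheafData} (hI : PVK L I) (n : ℕ) : PVK L (I ^ n) := by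
  induction n with
  | zero =>
    rw [pow_zero]
    exact PVK_top L
  | succ n ih =>
    rw [pow_succ]
    exact PVK_mul hL ih hI

theorem PVK_prod [IsLocallyNoetherian X] {L : X.Modules} (hL : PicF.IsInvertible L)
    {ι : Type*} (s : Finset ι) (I : ι → X.IdealSheafData) (hI : ∀ k ∈ s, PVK L (I k)) :
    PVK L (∏ k ∈ s, I k) :=
  Finset.prod_induction I (PVK L) (fun _ _ ha hb => PVK_mul hL ha hb) (PVK_top L) hI

/-- Serre vanishing for modules killed by `I` from ampleness on `V(I)`. -/
theorem PVK_of_ample {W : Scheme.{u}} [IsAffine W] [IsNoetherian W] (I : X.IdealSheafData)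
    (q : I.subscheme ⟶ W) [IsProper q] {L : X.Modules} (hL : PicF.IsInvertible L)
    (hamp : CohB1.IsAmple ((Scheme.Modules.pullback I.subschemeι).obj L)) : PVK L I := by
  intro F hF hk
  haveI := hF.1
  have hk' : ClSub.KilledByIdeal I.subschemeι.ker F := by
    rw [Scheme.IdealSheafData.ker_subschemeι]
    exact hk
  obtain ⟨G, hGq, hGft, ⟨e⟩⟩ := ClPushH8.exists_pushforward_iso I.subschemeι F hk'
  exact PV_of_iso L ⟨e⟩ (PV_push q I.subschemeι hL hamp G ⟨hGq, hGft hF.2⟩)

theorem killed_bot (F : X.Modules) : ClSub.KilledByIdeal ⊥ F := by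
  intro U a ha m
  rw [Scheme.IdealSheafData.ideal_bot] at ha
  have ha0 : a = 0 := ha
  rw [ha0, zero_smul]

/-- **S11562**. -/
theorem main11562 (A : Type u) [CommRing A] [IsNoetherianRing A] (X : Scheme.{u})
    [X.Over (Spec (CommRingCat.of A))] [IsProper (X ↘ (Spec (CommRingCat.of A)))]
    (L : X.Modules) (hL : PicF.IsInvertible L) (I J : X.IdealSheafData) (hIJ : I * J = ⊥)
    (hI : CohB1.IsAmple ((Scheme.Modules.pullback I.subschemeι).obj L))
    (hJ : CohB1.IsAmple ((Scheme.Modules.pullback J.subschemeι).obj L)) :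
    CohB1.IsAmple L := by
  haveI : IsLocallyNoetherian X :=
    LocallyOfFiniteType.isLocallyNoetherian (X ↘ Spec (CommRingCat.of A))
  rw [RelAmpleVanH9.ample_iff_serre_vanishing A X (X ↘ Spec (CommRingCat.of A)) L hL]
  intro M hM
  have h1 : PVK L I := PVK_of_ample I (I.subschemeι ≫ (X ↘ Spec (CommRingCat.of A))) hL hI
  have h2 : PVK L J := PVK_of_ample J (J.subschemeι ≫ (X ↘ Spec (CommRingCat.of A))) hL hJ
  have h3 := PVK_mul hL h1 h2
  rw [hIJ] at h3
  exact h3 M hM (killed_bot M)

/-- **S11559**. -/
theorem main11559 (A : Type u) [CommRing A] [IsNoetherianRing A] (X : Scheme.{u})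
    [X.Over (Spec (CommRingCat.of A))] [IsProper (X ↘ (Spec (CommRingCat.of A)))]
    (L : X.Modules) (hL : PicF.IsInvertible L) :
    CohB1.IsAmple L ↔
      ∀ Z : Closeds ↥X, (Z : Set ↥X) ∈ irreducibleComponents ↥X →
        CohB1.IsAmple ((Scheme.Modules.pullback
          (Scheme.IdealSheafData.vanishingIdeal Z).subschemeι).obj L) := by
  haveI : IsLocallyNoetherian X :=
    LocallyOfFiniteType.isLocallyNoetherian (X ↘ Spec (CommRingCat.of A))
  haveI : CompactSpace X :=
    QuasiCompact.compactSpace_of_compactSpace (X ↘ Spec (CommRingCat.of A))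
  haveI : IsNoetherian X := {}
  constructor
  · intro h Z _
    haveI : CompactSpace ↥(Scheme.IdealSheafData.vanishingIdeal Z).subscheme :=
      QuasiCompact.compactSpace_of_compactSpace
        (Scheme.IdealSheafData.vanishingIdeal Z).subschemeι
    exact TensH8.isAmple_pullback_of_isAffineHom _ h
  · intro h
    classical
    rw [RelAmpleVanH9.ample_iff_serre_vanishing A X (X ↘ Spec (CommRingCat.of A)) L hL]
    intro M hM
    have hfin : (irreducibleComponents ↥X).Finite :=
      TopologicalSpace.NoetherianSpace.finite_irreducibleComponents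
    let ι := {Z : Set ↥X // Z ∈ irreducibleComponents ↥X}
    haveI : Fintype ι := hfin.fintype
    let C : ι → Closeds ↥X := fun Z => ⟨Z.1, isClosed_of_mem_irreducibleComponents Z.1 Z.2⟩
    let I : ι → X.IdealSheafData := fun Z => Scheme.IdealSheafData.vanishingIdeal (C Z)
    have hI : ∀ k ∈ (Finset.univ : Finset ι), PVK L (I k) := fun k _ =>
      PVK_of_ample (I k) ((I k).subschemeι ≫ (X ↘ Spec (CommRingCat.of A))) hL (h (C k) k.2)
    have hprod := PVK_prod hL Finset.univ I hI
    set N : X.IdealSheafData := ∏ k ∈ (Finset.univ : Finset ι), I k with hN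
    -- `N` is contained in the nilradical
    have hsupp : (⊤ : Closeds ↥X) ≤ N.support := by
      intro x _
      have hx : x ∈ irreducibleComponent x := mem_irreducibleComponent
      let k : ι := ⟨irreducibleComponent x, irreducibleComponent_mem_irreducibleComponents x⟩
      have hle : N ≤ I k := by
        obtain ⟨c, hc⟩ := Finset.dvd_prod_of_mem I (Finset.mem_univ k)
        rw [hN, hc]
        intro U
        show (I k).ideal U * c.ideal U ≤ (I k).ideal U
        exact Ideal.mul_le_left
      have h2 : (I k).support ≤ N.support := Scheme.IdealSheafData.support_antitone hle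
      apply h2
      show x ∈ ((Scheme.IdealSheafData.vanishingIdeal (C k)).support : Set X)
      rw [Scheme.IdealSheafData.coe_support_vanishingIdeal]
      exact hx
    have hnil : N ≤ (⊥ : X.IdealSheafData).radical := by
      rw [← Scheme.IdealSheafData.vanishingIdeal_support (I := (⊥ : X.IdealSheafData)),
        Scheme.IdealSheafData.support_bot]
      exact Scheme.IdealSheafData.le_support_iff_le_vanishingIdeal.mp hsupp
    obtain ⟨n, hn⟩ := exists_radical_pow_le X (⊥ : X.IdealSheafData)
    have hNn : N ^ n ≤ ⊥ := by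
      refine le_trans ?_ hn
      intro U
      rw [Scheme.IdealSheafData.ideal_pow, Scheme.IdealSheafData.ideal_pow]
      exact Ideal.pow_right_mono (hnil U) n
    exact PVK_mono L hNn (PVK_pow hL hprod n) M hM (killed_bot M)

end Groth.Agent.Lib.AmpleFinH2
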