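import Mathlib
import Groth.Prelude
import Groth.Agent.Lib.FormalFn3_helper2
import Groth.Agent.Lib.AmpleFin2_helper2

/-!
# Graded modules `⊕ Q n` with shift maps and Serre vanishing for their pieces (helper2)

Generic version of the construction of `FormalFn3`: for a family `Q n` of quasi-coherent modules
on `X` (over `Spec A`) with commuting "multiplication" maps `μ i n : Q n ⟶ Q (n+1)` (`i : σ`)
whose sum is an epimorphism, the module `Gt` on `X ×_A Spec A[σ]` attached to `⊕ Q n` is of finite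
type as soon as `Q 0` is; Serre vanishing for `Gt` (with respect to the pullback of `L`) gives
uniform vanishing for all the `Q n ⊗ L^d`.
APPEND-ONLY once landed.
-/

set_option autoImplicit false
universe u
open CategoryTheory CategoryTheory.Limits AlgebraicGeometry TopologicalSpace Opposite

namespace Groth.Agent.Lib.FibAmpH2

open Formal Groth.Agent.Lib.FormalModPowH4 Groth.Agent.HHVan Groth.Agent.Lib.FormalFnH2
  Groth.Agent.Lib.AmpleFinH2 Groth.Agent.TensInv CohB1

section Push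

/-- cohomology of `f_* N ⊗ L^n` from that of `N ⊗ (f^*L)^n`, `f` affine -/
theorem subsingleton_push_tensor {X Y : Scheme.{u}} (f : Y ⟶ X) [IsAffineHom f] {L : X.Modules}
    (hL : PicF.IsInvertible L) (N : Y.Modules) [N.IsQuasicoherent] (n p : ℕ)
    (h1 : Subsingleton
      (Coh.HH Y (tensorMod N (tensorPow ((Scheme.Modules.pullback f).obj L) n)) p)) :
    Subsingleton
      (Coh.HH X (tensorMod ((Scheme.Modules.pushforward f).obj N) (tensorPow L n)) p) := by
  have hL' := TensH8.isInvertible_pullback f hL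
  haveI : (tensorPow ((Scheme.Modules.pullback f).obj L) n).IsQuasicoherent :=
    (ProperFinH9.isCoh_of_isInvertible (TensH8.isInvertible_tensorPow hL' n)).1
  haveI hq : (tensorMod N (tensorPow ((Scheme.Modules.pullback f).obj L) n)).IsQuasicoherent :=
    TensQCH8.isQuasicoherent_tensorMod _ _
  obtain ⟨eq⟩ := Groth.Agent.S0012.result f
    (tensorMod N (tensorPow ((Scheme.Modules.pullback f).obj L) n)) p
  have h2 : Subsingleton (Coh.HH X ((Scheme.Modules.pushforward f).obj
      (tensorMod N (tensorPow ((Scheme.Modules.pullback f).obj L) n))) p) :=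
    eq.symm.toEquiv.subsingleton
  obtain ⟨ep⟩ := pullback_tensorPow f hL n
  have e1 := (PFormH9.projIso f (tensorPow L n) (TensH8.isFinLocFree_of_isInvertible
    (TensH8.isInvertible_tensorPow hL n))).app N
  have e : tensorMod ((Scheme.Modules.pushforward f).obj N) (tensorPow L n) ≅
      (Scheme.Modules.pushforward f).obj
        (tensorMod N (tensorPow ((Scheme.Modules.pullback f).obj L) n)) :=
    comm _ _ ≪≫ e1 ≪≫ (Scheme.Modules.pushforward f).mapIso (mapR ep.symm N ≪≫ comm _ _)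
  exact Groth.Agent.HHVan.subsingleton_of_iso e.symm p h2

/-- Serre vanishing for modules killed by the ideal of a closed subscheme on which `L` is
ample. -/
theorem PV_of_killed_closedImmersion {X Z W : Scheme.{u}} [IsAffine W] [IsNoetherian W]
    (i : Z ⟶ X) [IsClosedImmersion i] (q : Z ⟶ W) [IsProper q] {L : X.Modules}
    (hL : PicF.IsInvertible L)
    (hamp : CohB1.IsAmple ((Scheme.Modules.pullback i).obj L)) (F : X.Modules)
    (hF : Coh.IsCoh F) (hk : ClSub.KilledByIdeal i.ker F) : PV L F := by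
  haveI := hF.1
  obtain ⟨G, hGq, hGft, ⟨e⟩⟩ := ClPushH8.exists_pushforward_iso i F hk
  exact PV_of_iso L ⟨e⟩ (PV_push q i hL hamp G ⟨hGq, hGft hF.2⟩)

end Push

section Gr

variable {X : Scheme.{u}} {σ : Type u} (Q : ℕ → X.Modules) (μ : σ → ∀ n, Q n ⟶ Q (n + 1))

/-- the graded module `⊕ Q n` -/
noncomputable def GGq : X.Modules := ∐ fun n : ULift.{u} ℕ => Q n.down

/-- the inclusion of the degree `n` part -/
noncomputable def jjq (n : ℕ) : Q n ⟶ GGq Q :=
  Sigma.ι (fun n : ULift.{u} ℕ => Q n.down) (ULift.up n)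

/-- the projection to the degree `n` part -/
noncomputable def prrq (n : ℕ) : GGq Q ⟶ Q n :=
  Sigma.π (fun n : ULift.{u} ℕ => Q n.down) (ULift.up n)

theorem jjq_prrq (n : ℕ) : jjq Q n ≫ prrq Q n = 𝟙 _ := Sigma.ι_π_eq_id _ _

theorem GGq_hom_ext {Z : X.Modules} (g g' : GGq Q ⟶ Z)
    (h : ∀ n, jjq Q n ≫ g = jjq Q n ≫ g') : g = g' :=
  Sigma.hom_ext _ _ (fun n => h n.down)

instance isQuasicoherent_GGq [∀ n, (Q n).IsQuasicoherent] : (GGq Q).IsQuasicoherent :=
  Groth.Agent.Lib.BModH6.isQuasicoherent_sigma _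

/-- the shift endomorphisms of `⊕ Q n` -/
noncomputable def TTq (i : σ) : GGq Q ⟶ GGq Q :=
  Sigma.desc (fun n : ULift.{u} ℕ => μ i n.down ≫ jjq Q (n.down + 1))

theorem jjq_TTq (i : σ) (n : ℕ) : jjq Q n ≫ TTq Q μ i = μ i n ≫ jjq Q (n + 1) :=
  Sigma.ι_desc _ _

theorem TTq_comm (hμ : ∀ i j n, μ i n ≫ μ j (n + 1) = μ j n ≫ μ i (n + 1)) (i j : σ) :
    TTq Q μ i ≫ TTq Q μ j = TTq Q μ j ≫ TTq Q μ i := by
  apply GGq_hom_ext
  intro n
  have h1 : ∀ i j, jjq Q n ≫ TTq Q μ i ≫ TTq Q μ j =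
      (μ i n ≫ μ j (n + 1)) ≫ jjq Q (n + 1 + 1) := by
    intro i j
    rw [← Category.assoc, jjq_TTq, Category.assoc, jjq_TTq, Category.assoc]
  rw [h1, h1, hμ]

/-- the sum of the multiplication maps -/
noncomputable def muSum (n : ℕ) : (∐ fun _ : σ => Q n) ⟶ Q (n + 1) :=
  Sigma.desc (fun i => μ i n)

theorem ι_muSum (n : ℕ) (i : σ) :
    Sigma.ι (fun _ : σ => Q n) i ≫ muSum Q μ n = μ i n := Sigma.ι_desc _ _

variable (A : Type u) [CommRing A] [X.Over (Spec (CommRingCat.of A))] [Fintype σ]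

theorem pullback_jjq_comp_eq_zero (hepi : ∀ n, Epi (muSum Q μ n)) {Z : (XP A X σ).Modules}
    (g : Gt A σ (GGq Q) (TTq Q μ) ⟶ Z)
    (hg : (Scheme.Modules.pullback (rho A X σ)).map (jjq Q 0) ≫
      Gtπ A σ (GGq Q) (TTq Q μ) ≫ g = 0) (n : ℕ) :
    (Scheme.Modules.pullback (rho A X σ)).map (jjq Q n) ≫
      Gtπ A σ (GGq Q) (TTq Q μ) ≫ g = 0 := by
  induction n with
  | zero => exact hg
  | succ n ih =>
    apply eq_zero_of_adjct (rho A X σ)
    haveI := hepi n
    rw [← cancel_epi (muSum Q μ n), comp_zero]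
    apply Sigma.hom_ext
    intro i
    rw [comp_zero, ← Category.assoc, ι_muSum, comp_adjct]
    have e1 : (Scheme.Modules.pullback (rho A X σ)).map (μ i n) ≫
        (Scheme.Modules.pullback (rho A X σ)).map (jjq Q (n + 1)) =
        (Scheme.Modules.pullback (rho A X σ)).map (jjq Q n) ≫
          (Scheme.Modules.pullback (rho A X σ)).map (TTq Q μ i) := by
      rw [← Functor.map_comp, ← Functor.map_comp, jjq_TTq]
    have e2 : (Scheme.Modules.pullback (rho A X σ)).map (TTq Q μ i) ≫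
        Gtπ A σ (GGq Q) (TTq Q μ) ≫ g =
        (Gtπ A σ (GGq Q) (TTq Q μ) ≫ g) ≫
          Formal.smulMod (MvPolynomial σ A) Z (MvPolynomial.X i) := by
      rw [← Category.assoc, Gtπ_rel', Category.assoc, smulMod_naturality]
    have h1 : (Scheme.Modules.pullback (rho A X σ)).map (μ i n) ≫
        (Scheme.Modules.pullback (rho A X σ)).map (jjq Q (n + 1)) ≫
          Gtπ A σ (GGq Q) (TTq Q μ) ≫ g = 0 := by
      rw [← Category.assoc, e1, Category.assoc, e2, ← Category.assoc, ih, zero_comp]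
    rw [h1, adjct_zero]

theorem epi_pullback_jjq_zero (hepi : ∀ n, Epi (muSum Q μ n)) :
    Epi ((Scheme.Modules.pullback (rho A X σ)).map (jjq Q 0) ≫
      Gtπ A σ (GGq Q) (TTq Q μ)) := by
  refine Preadditive.epi_of_cancel_zero _ (fun {Z} g hg => ?_)
  rw [Category.assoc] at hg
  have h1 := pullback_jjq_comp_eq_zero Q μ A hepi g hg
  rw [← cancel_epi (Gtπ A σ (GGq Q) (TTq Q μ)), comp_zero]
  apply eq_zero_of_adjct (rho A X σ)
  apply GGq_hom_ext
  intro n
  rw [comp_zero, comp_adjct, h1 n, adjct_zero]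

theorem isCoh_Gtq (hepi : ∀ n, Epi (muSum Q μ n)) [∀ n, (Q n).IsQuasicoherent]
    (h0 : SheafOfModules.IsFiniteType (R := X.ringCatSheaf) (Q 0)) :
    Coh.IsCoh (Gt A σ (GGq Q) (TTq Q μ)) := by
  haveI := h0
  haveI : SheafOfModules.IsFiniteType (R := (XP A X σ).ringCatSheaf)
      ((Scheme.Modules.pullback (rho A X σ)).obj (Q 0)) :=
    FpqcH8.isFiniteType_pullback (rho A X σ) (Q 0)
  haveI := epi_pullback_jjq_zero Q μ A hepi
  exact ⟨inferInstance, isFiniteType_of_epi
    ((Scheme.Modules.pullback (rho A X σ)).map (jjq Q 0) ≫ Gtπ A σ (GGq Q) (TTq Q μ))⟩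

/-- every element of `a ∈ A` killing all `Q n` kills `Gt` (as `C a`) -/
theorem smulMod_Gtq_eq_zero (a : A) (ha : ∀ n, Formal.smulMod A (Q n) a = 0) :
    Formal.smulMod (MvPolynomial σ A) (Gt A σ (GGq Q) (TTq Q μ)) (MvPolynomial.C a) = 0 := by
  have h0 : Formal.smulMod A (GGq Q) a = 0 := by
    apply GGq_hom_ext
    intro n
    rw [comp_zero, ← smulMod_naturality, ha n, zero_comp]
  rw [← cancel_epi (Gtπ A σ (GGq Q) (TTq Q μ)), comp_zero, ← smulMod_naturality]
  apply eq_zero_of_adjct (rho A X σ)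
  unfold adjct
  have h2 : (Scheme.Modules.pullbackPushforwardAdjunction (rho A X σ)).unit.app (GGq Q) ≫
      Formal.smulMod A ((Scheme.Modules.pushforward (rho A X σ)).obj
        ((Scheme.Modules.pullback (rho A X σ)).obj (GGq Q))) a =
      Formal.smulMod A (GGq Q) a ≫
        (Scheme.Modules.pullbackPushforwardAdjunction (rho A X σ)).unit.app (GGq Q) :=
    (smulMod_naturality _ a).symm
  rw [Functor.map_comp, push_smulMod, ← Category.assoc, h2, h0, zero_comp, zero_comp]

/-- vanishing for all the graded pieces from vanishing for `Gt` -/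
theorem subsingleton_HH_piece (hμ : ∀ i j n, μ i n ≫ μ j (n + 1) = μ j n ≫ μ i (n + 1))
    [∀ n, (Q n).IsQuasicoherent] {L : X.Modules} (hL : PicF.IsInvertible L) (d p : ℕ)
    (h : Subsingleton (Coh.HH (XP A X σ) (tensorMod (Gt A σ (GGq Q) (TTq Q μ))
      (tensorPow ((Scheme.Modules.pullback (rho A X σ)).obj L) d)) p)) (n : ℕ) :
    Subsingleton (Coh.HH X (tensorMod (Q n) (tensorPow L d)) p) := by
  have h1 := subsingleton_push_tensor (rho A X σ) hL (Gt A σ (GGq Q) (TTq Q μ)) d p h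
  haveI : IsIso (uu A σ (GGq Q) (TTq Q μ)) :=
    isIso_uu A σ (GGq Q) (TTq Q μ) (TTq_comm Q μ hμ)
  have h2 : Subsingleton (Coh.HH X (tensorMod (GGq Q) (tensorPow L d)) p) :=
    Groth.Agent.HHVan.subsingleton_of_iso
      (mapR (asIso (uu A σ (GGq Q) (TTq Q μ))).symm (tensorPow L d)) p h1
  exact subsingleton_HH_of_retract ((tR (tensorPow L d)).map (jjq Q n))
    ((tR (tensorPow L d)).map (prrq Q n))
    (by rw [← CategoryTheory.Functor.map_comp, jjq_prrq, CategoryTheory.Functor.map_id]) p h2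

end Gr

end Groth.Agent.Lib.FibAmpH2
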