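import Mathlib
import Groth.Prelude
import Groth.Agent.Lib.FibAmp1_helper2
import Groth.Agent.Lib.FormalFn4_helper2
import Groth.Agent.Lib.ChevA_helper8

/-!
# The graded pieces `I^n F / I^(n+1) F` and uniform Serre vanishing for them (helper2)

`X` proper over a Noetherian ring `A`, `φ : A → K` surjective with kernel `I`, `L` invertible on
`X` and ample on `X ×_A Spec K`: there is `d₀` with `H^p(X, gr_n(M) ⊗ L^d) = 0` for all `n`,
`d ≥ d₀`, `p > 0`.
APPEND-ONLY once landed.
-/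

set_option autoImplicit false
universe u
open CategoryTheory CategoryTheory.Limits AlgebraicGeometry TopologicalSpace Opposite

namespace Groth.Agent.Lib.FibAmpH2

open Formal Groth.Agent.Lib.FormalModPowH4 Groth.Agent.HHVan Groth.Agent.Lib.FormalFnH2
  Groth.Agent.Lib.AmpleFinH2 Groth.Agent.TensInv CohB1

section GrPw

variable {A : Type u} [CommRing A] {X : Scheme.{u}} [X.Over (Spec (CommRingCat.of A))]
  (I : Ideal A) (F : X.Modules)

instance mono_pwInc {n k : ℕ} (h : n ≤ k) : Mono (pwInc I F h) :=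
  mono_of_mono_fac (pwInc_ι I F h)

/-- `I^n F / I^(n+1) F` -/
noncomputable def gr (n : ℕ) : X.Modules := cokernel (pwInc I F (Nat.le_succ n))

/-- the projection `I^n F ⟶ gr_n F` -/
noncomputable def grπ (n : ℕ) : pw I F n ⟶ gr I F n := cokernel.π _

instance epi_grπ (n : ℕ) : Epi (grπ I F n) :=
  inferInstanceAs (Epi (cokernel.π (pwInc I F (Nat.le_succ n))))

theorem pwInc_grπ (n : ℕ) : pwInc I F (Nat.le_succ n) ≫ grπ I F n = 0 := cokernel.condition _

/-- `0 → I^(n+1)F → I^n F → gr_n F → 0` -/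
noncomputable abbrev grSC (n : ℕ) : ShortComplex X.Modules :=
  ShortComplex.mk (pwInc I F (Nat.le_succ n)) (grπ I F n) (pwInc_grπ I F n)

theorem grSC_shortExact (n : ℕ) : (grSC I F n).ShortExact :=
  { exact := ShortComplex.exact_cokernel (pwInc I F (Nat.le_succ n))
    mono_f := mono_pwInc I F (Nat.le_succ n)
    epi_g := epi_grπ I F n }

theorem pwInc_pwMul (a : A) (ha : a ∈ I) (n : ℕ) :
    pwInc I F (Nat.le_succ n) ≫ pwMul I F a ha n =
      pwMul I F a ha (n + 1) ≫ pwInc I F (Nat.le_succ (n + 1)) := by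
  rw [pwMul_inc, ← cancel_mono (pwι I F (n + 1)), Category.assoc, pwMul_ι, ← Category.assoc,
    pwInc_ι, smulMod_naturality]

/-- multiplication by `a ∈ I` on the graded pieces -/
noncomputable def grMul (a : A) (ha : a ∈ I) (n : ℕ) : gr I F n ⟶ gr I F (n + 1) :=
  cokernel.map _ _ (pwMul I F a ha (n + 1)) (pwMul I F a ha n) (pwInc_pwMul I F a ha n)

theorem grπ_grMul (a : A) (ha : a ∈ I) (n : ℕ) :
    grπ I F n ≫ grMul I F a ha n = pwMul I F a ha n ≫ grπ I F (n + 1) :=
  cokernel.π_desc _ _ _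

theorem grMul_comm (a b : A) (ha : a ∈ I) (hb : b ∈ I) (n : ℕ) :
    grMul I F a ha n ≫ grMul I F b hb (n + 1) = grMul I F b hb n ≫ grMul I F a ha (n + 1) := by
  have h : ∀ (a b : A) (ha : a ∈ I) (hb : b ∈ I),
      grπ I F n ≫ grMul I F a ha n ≫ grMul I F b hb (n + 1) =
        (pwMul I F a ha n ≫ pwMul I F b hb (n + 1)) ≫ grπ I F (n + 1 + 1) := by
    intro a b ha hb
    rw [← Category.assoc, grπ_grMul, Category.assoc, grπ_grMul, Category.assoc]
  rw [← cancel_epi (grπ I F n), h, h, pwMul_comm]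

theorem smulMod_gr (a : A) (ha : a ∈ I) (n : ℕ) : Formal.smulMod A (gr I F n) a = 0 := by
  rw [← cancel_epi (grπ I F n), comp_zero, ← smulMod_naturality, ← pwMul_inc I F a ha n,
    Category.assoc, pwInc_grπ, comp_zero]

variable {σ : Type u} [Fintype σ] (a : σ → A) (ha : ∀ i, a i ∈ I)

include ha in
theorem epi_grMulSum (hspan : Ideal.span (Set.range a) = I) (n : ℕ) :
    Epi (muSum (gr I F) (fun i n => grMul I F (a i) (ha i) n) n) := by
  haveI := epi_pwMulSum I F a ha hspan n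
  have h : Limits.Sigma.map (fun _ : σ => grπ I F n) ≫
      muSum (gr I F) (fun i n => grMul I F (a i) (ha i) n) n =
      pwMulSum I F a ha n ≫ grπ I F (n + 1) := by
    apply Sigma.hom_ext
    intro i
    rw [← Category.assoc, Sigma.ι_map, Category.assoc, ι_muSum, ← Category.assoc, ι_pwMulSum,
      grπ_grMul]
  exact epi_of_epi_fac h

theorem isCoh_gr [IsLocallyNoetherian X] (hF : Coh.IsCoh F) (n : ℕ) : Coh.IsCoh (gr I F n) := by
  haveI : F.IsQuasicoherent := hF.1
  exact isCoh_cokernel' (isCoh_pw I F hF n) (pwInc I F (Nat.le_succ n))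

end GrPw

section StageA

variable (A K : Type u) [CommRing A] [CommRing K] (φ : A →+* K) (X : Scheme.{u})
  [X.Over (Spec (CommRingCat.of A))] (σ : Type u)

/-- `Spec K ⟶ Spec A` -/
noncomputable abbrev rr : Spec (CommRingCat.of K) ⟶ Spec (CommRingCat.of A) :=
  Spec.map (CommRingCat.ofHom φ)

/-- `X ×_A Spec A[σ] ⟶ Spec A` -/
noncomputable abbrev hP : XP A X σ ⟶ Spec (CommRingCat.of A) :=
  rho A X σ ≫ (X ↘ Spec (CommRingCat.of A))

/-- the inclusion of the fibre over `Spec K` into `X ×_A Spec A[σ]` -/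
noncomputable abbrev iP : pullback (hP A X σ) (rr A K φ) ⟶ XP A X σ := pullback.fst _ _

/-- the inclusion of the fibre over `Spec K` into `X` -/
noncomputable abbrev i0 : pullback (X ↘ Spec (CommRingCat.of A)) (rr A K φ) ⟶ X :=
  pullback.fst _ _

/-- the projection between the fibres -/
noncomputable def rho0 : pullback (hP A X σ) (rr A K φ) ⟶
    pullback (X ↘ Spec (CommRingCat.of A)) (rr A K φ) :=
  pullback.map _ _ _ _ (rho A X σ) (𝟙 _) (𝟙 _) (by simp) (by simp)

theorem rho0_i0 : rho0 A K φ X σ ≫ i0 A K φ X = iP A K φ X σ ≫ rho A X σ :=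
  pullback.lift_fst _ _ _

theorem appLE_hP (a : A) (U : (XP A X σ).Opens) (e : U ≤ (hP A X σ) ⁻¹ᵁ ⊤) :
    ((hP A X σ).appLE ⊤ U e).hom ((Scheme.ΓSpecIso (CommRingCat.of A)).inv.hom a) =
      rU (MvPolynomial.C a : MvPolynomial σ A) U := by
  have h1 : (hP A X σ).appTop.hom ((Scheme.ΓSpecIso (CommRingCat.of A)).inv.hom a) =
      Coh.toGlobal (sndP A X σ) (MvPolynomial.C a : MvPolynomial σ A) := by
    rw [← rho_appTop_toGlobal]
    show ((rho A X σ ≫ (X ↘ Spec (CommRingCat.of A))).appTop).hom _ = _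
    rw [Scheme.Hom.comp_appTop]
    rfl
  show ((XP A X σ).presheaf.map (homOfLE e).op).hom
    ((hP A X σ).appTop.hom ((Scheme.ΓSpecIso (CommRingCat.of A)).inv.hom a)) = _
  rw [h1]
  rfl

theorem killedByIdeal_iP (hφ : Function.Surjective φ) (N : (XP A X σ).Modules)
    (hN : ∀ a ∈ RingHom.ker φ,
      Formal.smulMod (MvPolynomial σ A) N (MvPolynomial.C a) = 0) :
    ClSub.KilledByIdeal (iP A K φ X σ).ker N := by
  haveI : IsClosedImmersion (rr A K φ) := IsClosedImmersion.spec_of_surjective _ hφ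
  have hker : (iP A K φ X σ).ker = (rr A K φ).ker.comap (hP A X σ) :=
    Scheme.IdealSheafData.ker_fst_of_isClosedImmersion (rr A K φ) (hP A X σ)
  intro U s hs m
  have hle : U.1 ≤ (hP A X σ) ⁻¹ᵁ (⊤ : (Spec (CommRingCat.of A)).Opens) := fun _ _ => trivial
  rw [hker, ChevAH8.ideal_comap_eq_map_ideal (hP A X σ) (rr A K φ).ker
    ⟨⊤, isAffineOpen_top _⟩ U hle, Scheme.Hom.ker_apply] at hs
  have key : Ideal.map ((hP A X σ).appLE ⊤ U.1 hle).hom
      (RingHom.ker ((rr A K φ).app ⊤).hom) ≤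
      Module.annihilator Γ(XP A X σ, U.1) (N.val.obj (op U.1)) := by
    rw [Ideal.map_le_iff_le_comap]
    intro t ht
    rw [Ideal.mem_comap, Module.mem_annihilator]
    intro m'
    obtain ⟨a, rfl⟩ : ∃ a : A, (Scheme.ΓSpecIso (CommRingCat.of A)).inv.hom a = t :=
      ⟨(Scheme.ΓSpecIso (CommRingCat.of A)).hom.hom t, by simp⟩
    have ha : a ∈ RingHom.ker φ := by
      rw [RingHom.mem_ker] at ht ⊢
      have h2 := congrArg (fun ψ => ψ.hom a)
        (Scheme.ΓSpecIso_inv_naturality (CommRingCat.ofHom φ))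
      have h3 : (Scheme.ΓSpecIso (CommRingCat.of K)).inv.hom (φ a) = 0 := h2.trans ht
      have h4 := congrArg (Scheme.ΓSpecIso (CommRingCat.of K)).hom.hom h3
      simpa using h4
    rw [appLE_hP]
    have h5 := congrArg (fun θ => θ.app U.1 m') (hN a ha)
    exact h5
  exact Module.mem_annihilator.mp (key hs) m

theorem isAmple_iP [IsProper (X ↘ Spec (CommRingCat.of A))] (hφ : Function.Surjective φ)
    {L : X.Modules}
    (hamp : CohB1.IsAmple ((Scheme.Modules.pullback (i0 A K φ X)).obj L)) :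
    CohB1.IsAmple ((Scheme.Modules.pullback (iP A K φ X σ)).obj
      ((Scheme.Modules.pullback (rho A X σ)).obj L)) := by
  haveI : IsClosedImmersion (rr A K φ) := IsClosedImmersion.spec_of_surjective _ hφ
  haveI : IsClosedImmersion (i0 A K φ X) :=
    inferInstanceAs (IsClosedImmersion (pullback.fst _ (rr A K φ)))
  haveI : IsClosedImmersion (iP A K φ X σ) :=
    inferInstanceAs (IsClosedImmersion (pullback.fst _ (rr A K φ)))
  haveI : IsAffineHom (rho0 A K φ X σ ≫ i0 A K φ X) := by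
    rw [rho0_i0]
    infer_instance
  haveI : IsAffineHom (rho0 A K φ X σ) := IsAffineHom.of_comp (rho0 A K φ X σ) (i0 A K φ X)
  haveI : IsProper (sndP A X σ) :=
    inferInstanceAs (IsProper (XP A X σ ↘ Spec (CommRingCat.of (MvPolynomial σ A))))
  haveI : CompactSpace (XP A X σ) := QuasiCompact.compactSpace_of_compactSpace (sndP A X σ)
  haveI : CompactSpace ↥(pullback (hP A X σ) (rr A K φ)) :=
    QuasiCompact.compactSpace_of_compactSpace (iP A K φ X σ)
  have h1 := TensH8.isAmple_pullback_of_isAffineHom (rho0 A K φ X σ) hamp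
  refine (TensH8.isAmple_congr ?_).mp h1
  exact (Scheme.Modules.pullbackComp (rho0 A K φ X σ) (i0 A K φ X)).app L ≪≫
    (Scheme.Modules.pullbackCongr (rho0_i0 A K φ X σ)).app L ≪≫
    ((Scheme.Modules.pullbackComp (iP A K φ X σ) (rho A X σ)).app L).symm

variable {σ}

theorem stageA [IsNoetherianRing A] [IsProper (X ↘ Spec (CommRingCat.of A))]
    (hφ : Function.Surjective φ) [Fintype σ] (Q : ℕ → X.Modules)
    (μ : σ → ∀ n, Q n ⟶ Q (n + 1))
    (hμ : ∀ i j n, μ i n ≫ μ j (n + 1) = μ j n ≫ μ i (n + 1)) [∀ n, (Q n).IsQuasicoherent]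
    (h0 : SheafOfModules.IsFiniteType (R := X.ringCatSheaf) (Q 0))
    (hepi : ∀ n, Epi (muSum Q μ n))
    (hkill : ∀ a ∈ RingHom.ker φ, ∀ n, Formal.smulMod A (Q n) a = 0) {L : X.Modules}
    (hL : PicF.IsInvertible L)
    (hamp : CohB1.IsAmple ((Scheme.Modules.pullback (i0 A K φ X)).obj L)) :
    ∃ d₀ : ℕ, ∀ n d : ℕ, d₀ ≤ d → ∀ p : ℕ, 0 < p →
      Subsingleton (Coh.HH X (tensorMod (Q n) (tensorPow L d)) p) := by
  have hGt := isCoh_Gtq Q μ A hepi h0
  have hk := killedByIdeal_iP A K φ X σ hφ (Gt A σ (GGq Q) (TTq Q μ))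
    (fun a ha => smulMod_Gtq_eq_zero Q μ A a (fun n => hkill a ha n))
  have hampP := isAmple_iP A K φ X σ hφ hamp
  have hLP := TensH8.isInvertible_pullback (rho A X σ) hL
  haveI : IsClosedImmersion (rr A K φ) := IsClosedImmersion.spec_of_surjective _ hφ
  haveI : IsClosedImmersion (iP A K φ X σ) :=
    inferInstanceAs (IsClosedImmersion (pullback.fst _ (rr A K φ)))
  haveI : IsProper (sndP A X σ) :=
    inferInstanceAs (IsProper (XP A X σ ↘ Spec (CommRingCat.of (MvPolynomial σ A))))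
  obtain ⟨d₀, hd₀⟩ := PV_of_killed_closedImmersion (iP A K φ X σ)
    (iP A K φ X σ ≫ sndP A X σ) hLP hampP _ hGt hk
  exact ⟨d₀, fun n d hd p hp => subsingleton_HH_piece Q μ A hμ hL d p (hd₀ d hd p hp) n⟩

theorem stageA_gr [IsNoetherianRing A] [IsProper (X ↘ Spec (CommRingCat.of A))]
    (hφ : Function.Surjective φ) (M : X.Modules) (hM : Coh.IsCoh M) {L : X.Modules}
    (hL : PicF.IsInvertible L)
    (hamp : CohB1.IsAmple ((Scheme.Modules.pullback (i0 A K φ X)).obj L)) :
    ∃ d₀ : ℕ, ∀ n d : ℕ, d₀ ≤ d → ∀ p : ℕ, 0 < p →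
      Subsingleton (Coh.HH X (tensorMod (gr (RingHom.ker φ) M n) (tensorPow L d)) p) := by
  obtain ⟨σ, _, a, ha, hspan⟩ := exists_generators A (RingHom.ker φ)
  haveI : IsLocallyNoetherian X :=
    LocallyOfFiniteType.isLocallyNoetherian (X ↘ Spec (CommRingCat.of A))
  have hcoh : ∀ n, Coh.IsCoh (gr (RingHom.ker φ) M n) := fun n => isCoh_gr _ M hM n
  haveI : ∀ n, (gr (RingHom.ker φ) M n).IsQuasicoherent := fun n => (hcoh n).1
  exact stageA A K φ X hφ (gr (RingHom.ker φ) M)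
    (fun i n => grMul (RingHom.ker φ) M (a i) (ha i) n)
    (fun i j n => grMul_comm (RingHom.ker φ) M (a i) (a j) (ha i) (ha j) n) (hcoh 0).2
    (fun n => epi_grMulSum (RingHom.ker φ) M a ha hspan n)
    (fun b hb n => smulMod_gr (RingHom.ker φ) M b hb n) hL hamp

end StageA

end Groth.Agent.Lib.FibAmpH2
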