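import Mathlib
import Groth.Prelude
import Groth.Agent.Lib.FibAmp2_helper2

/-!
# Functoriality of `I^n F` and of the graded pieces in `F` (helper2)

* `pwMap φ n : I^n F ⟶ I^n F'`, `grMap φ n : gr_n F ⟶ gr_n F'` for `φ : F ⟶ F'`, compatible with
  inclusions and with multiplication by elements of `I`;
* `0 → I^m F → I^j F → I^j (F/I^m F) → 0` is exact (`j ≤ m`);
* `gr_j F ⟶ gr_j (F / I^m F)` is an isomorphism for `j + 1 ≤ m`.
APPEND-ONLY once landed.
-/

set_option autoImplicit false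
universe u
open CategoryTheory CategoryTheory.Limits AlgebraicGeometry TopologicalSpace Opposite

namespace Groth.Agent.Lib.FibAmpH2

open Formal Groth.Agent.Lib.FormalModPowH4 Groth.Agent.Lib.FormalFnH2

section Funct

variable {A : Type u} [CommRing A] {X : Scheme.{u}} [X.Over (Spec (CommRingCat.of A))]
  (I : Ideal A) {F F' F'' : X.Modules} (φ : F ⟶ F') (ψ : F' ⟶ F'')

theorem pwι_comp_modPowπ (n : ℕ) : (pwι I F n ≫ φ) ≫ Formal.modPowπ I n F' = 0 := by
  rw [Category.assoc]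
  apply pwι_comp_eq_zero
  intro b hb
  rw [← Category.assoc, smulMod_naturality, Category.assoc, smulMod_modPowπ F' I n hb, comp_zero]

/-- the map `I^n F ⟶ I^n F'` induced by `φ : F ⟶ F'` -/
noncomputable def pwMap (n : ℕ) : pw I F n ⟶ pw I F' n :=
  kernel.lift _ (pwι I F n ≫ φ) (pwι_comp_modPowπ I φ n)

theorem pwMap_ι (n : ℕ) : pwMap I φ n ≫ pwι I F' n = pwι I F n ≫ φ := kernel.lift_ι _ _ _

theorem pwMap_id (n : ℕ) : pwMap I (𝟙 F) n = 𝟙 _ := by
  rw [← cancel_mono (pwι I F n), pwMap_ι, Category.comp_id, Category.id_comp]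

theorem pwMap_comp (n : ℕ) : pwMap I (φ ≫ ψ) n = pwMap I φ n ≫ pwMap I ψ n := by
  rw [← cancel_mono (pwι I F'' n), pwMap_ι]
  have h : (pwMap I φ n ≫ pwMap I ψ n) ≫ pwι I F'' n = (pwMap I φ n ≫ pwι I F' n) ≫ ψ := by
    rw [Category.assoc, pwMap_ι, Category.assoc]
  rw [h, pwMap_ι, Category.assoc]

theorem pwInc_pwMap {n k : ℕ} (h : n ≤ k) :
    pwInc I F h ≫ pwMap I φ n = pwMap I φ k ≫ pwInc I F' h := by
  rw [← cancel_mono (pwι I F' n), Category.assoc, pwMap_ι, ← Category.assoc, pwInc_ι,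
    Category.assoc, pwInc_ι, pwMap_ι]

theorem pwMap_pwMul (a : A) (ha : a ∈ I) (n : ℕ) :
    pwMap I φ n ≫ pwMul I F' a ha n = pwMul I F a ha n ≫ pwMap I φ (n + 1) := by
  rw [← cancel_mono (pwι I F' (n + 1))]
  have h1 : (pwMap I φ n ≫ pwMul I F' a ha n) ≫ pwι I F' (n + 1) =
      (pwMap I φ n ≫ pwι I F' n) ≫ Formal.smulMod A F' a := by
    rw [Category.assoc, pwMul_ι, Category.assoc]
  have h2 : (pwMul I F a ha n ≫ pwMap I φ (n + 1)) ≫ pwι I F' (n + 1) =
      (pwMul I F a ha n ≫ pwι I F (n + 1)) ≫ φ := by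
    rw [Category.assoc, pwMap_ι, Category.assoc]
  rw [h1, h2, pwMap_ι, pwMul_ι, Category.assoc, Category.assoc, smulMod_naturality]

theorem epi_pwMap [Epi φ] (n : ℕ) : Epi (pwMap I φ n) := by
  have h : pwE I F n ≫ pwMap I φ n =
      Limits.Sigma.map (fun _ : (I ^ n : Ideal A) => φ) ≫ pwE I F' n := by
    rw [← cancel_mono (pwι I F' n), Category.assoc, pwMap_ι, ← Category.assoc, pwE_ι,
      Category.assoc, pwE_ι]
    apply Sigma.hom_ext
    intro b
    rw [← Category.assoc, ι_smulFamily, ← Category.assoc, Sigma.ι_map, Category.assoc,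
      ι_smulFamily, smulMod_naturality]
  haveI : Epi (pwE I F n ≫ pwMap I φ n) := by
    rw [h]
    infer_instance
  exact epi_of_epi (pwE I F n) (pwMap I φ n)

/-- the map `gr_n F ⟶ gr_n F'` induced by `φ` -/
noncomputable def grMap (n : ℕ) : gr I F n ⟶ gr I F' n :=
  cokernel.map _ _ (pwMap I φ (n + 1)) (pwMap I φ n) (pwInc_pwMap I φ (Nat.le_succ n))

theorem grπ_grMap (n : ℕ) : grπ I F n ≫ grMap I φ n = pwMap I φ n ≫ grπ I F' n :=
  cokernel.π_desc _ _ _

theorem grMap_id (n : ℕ) : grMap I (𝟙 F) n = 𝟙 _ := by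
  rw [← cancel_epi (grπ I F n), grπ_grMap, pwMap_id, Category.id_comp, Category.comp_id]

theorem grMap_comp (n : ℕ) : grMap I (φ ≫ ψ) n = grMap I φ n ≫ grMap I ψ n := by
  rw [← cancel_epi (grπ I F n), grπ_grMap, ← Category.assoc, grπ_grMap, Category.assoc,
    grπ_grMap, pwMap_comp, Category.assoc]

theorem grMap_grMul (a : A) (ha : a ∈ I) (n : ℕ) :
    grMap I φ n ≫ grMul I F' a ha n = grMul I F a ha n ≫ grMap I φ (n + 1) := by
  rw [← cancel_epi (grπ I F n), ← Category.assoc, grπ_grMap, Category.assoc, grπ_grMul,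
    ← Category.assoc, pwMap_pwMul, ← Category.assoc (grπ I F n), grπ_grMul, Category.assoc,
    Category.assoc, grπ_grMap]

theorem isIso_grMap [IsIso φ] (n : ℕ) : IsIso (grMap I φ n) :=
  ⟨grMap I (inv φ) n, by rw [← grMap_comp, IsIso.hom_inv_id, grMap_id],
    by rw [← grMap_comp, IsIso.inv_hom_id, grMap_id]⟩

end Funct

section Quot

variable {A : Type u} [CommRing A] {X : Scheme.{u}} [X.Over (Spec (CommRingCat.of A))]
  (I : Ideal A) (F : X.Modules)

theorem pwInc_pwMap_modPowπ {j m : ℕ} (h : j ≤ m) :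
    pwInc I F h ≫ pwMap I (Formal.modPowπ I m F) j = 0 := by
  rw [← cancel_mono (pwι I (Formal.modPow I m F) j), Category.assoc, pwMap_ι, ← Category.assoc,
    pwInc_ι, pwι_π, zero_comp]

/-- `0 → I^m F → I^j F → I^j (F / I^m F) → 0` -/
noncomputable abbrev quotSC {j m : ℕ} (h : j ≤ m) : ShortComplex X.Modules :=
  ShortComplex.mk (pwInc I F h) (pwMap I (Formal.modPowπ I m F) j) (pwInc_pwMap_modPowπ I F h)

theorem quotSC_shortExact {j m : ℕ} (h : j ≤ m) : (quotSC I F h).ShortExact := by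
  haveI : Mono (quotSC I F h).f := mono_pwInc I F h
  haveI : Epi (quotSC I F h).g := epi_pwMap I (Formal.modPowπ I m F) j
  refine ShortComplex.ShortExact.mk' ?_ inferInstance inferInstance
  refine ShortComplex.exact_of_f_is_kernel _ ?_
  refine KernelFork.IsLimit.ofι _ _
    (fun {T} z hz => kernel.lift (Formal.modPowπ I m F) (z ≫ pwι I F j) ?_) ?_ ?_
  · have hz' : z ≫ pwMap I (Formal.modPowπ I m F) j = 0 := hz
    rw [Category.assoc, ← pwMap_ι, ← Category.assoc, hz', zero_comp]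
  · intro T z hz
    rw [← cancel_mono (pwι I F j), Category.assoc]
    show kernel.lift (Formal.modPowπ I m F) (z ≫ pwι I F j) _ ≫ pwInc I F h ≫ pwι I F j = _
    rw [pwInc_ι]
    exact kernel.lift_ι _ _ _
  · intro T z hz l hl
    haveI : Mono (pwInc I F h) := mono_pwInc I F h
    rw [← cancel_mono (pwInc I F h), ← cancel_mono (pwι I F j), Category.assoc, Category.assoc,
      pwInc_ι]
    have hl' : l ≫ pwInc I F h = z := hl
    refine Eq.trans ?_ (kernel.lift_ι _ _ _).symm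
    rw [← hl', Category.assoc, pwInc_ι]

/-- `gr_j F ⟶ gr_j (F / I^m F)` is an isomorphism for `j + 1 ≤ m` -/
theorem isIso_grMap_modPowπ {j m : ℕ} (h : j + 1 ≤ m) :
    IsIso (grMap I (Formal.modPowπ I m F) j) := by
  have hj : j ≤ m := (Nat.le_succ j).trans h
  have hS := quotSC_shortExact I F hj
  haveI : Epi (pwMap I (Formal.modPowπ I m F) j) := epi_pwMap I _ j
  haveI : Epi (pwMap I (Formal.modPowπ I m F) (j + 1)) := epi_pwMap I _ (j + 1)
  have w₀ : pwInc I F hj ≫ grπ I F j = 0 := by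
    rw [← pwInc_trans I F (Nat.le_succ j) h, Category.assoc, pwInc_grπ, comp_zero]
  obtain ⟨ψ₀, hψ₀⟩ := CokernelCofork.IsColimit.desc' hS.gIsCokernel (grπ I F j) w₀
  have hψ₀' : pwMap I (Formal.modPowπ I m F) j ≫ ψ₀ = grπ I F j := hψ₀
  have w₁ : pwInc I (Formal.modPow I m F) (Nat.le_succ j) ≫ ψ₀ = 0 := by
    rw [← cancel_epi (pwMap I (Formal.modPowπ I m F) (j + 1)), comp_zero, ← Category.assoc,
      ← pwInc_pwMap, Category.assoc, hψ₀', pwInc_grπ]
  refine ⟨cokernel.desc _ ψ₀ w₁, ?_, ?_⟩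
  · rw [← cancel_epi (grπ I F j), ← Category.assoc, grπ_grMap, Category.assoc]
    have h1 : grπ I (Formal.modPow I m F) j ≫ cokernel.desc _ ψ₀ w₁ = ψ₀ :=
      cokernel.π_desc _ _ _
    rw [h1, hψ₀', Category.comp_id]
  · rw [← cancel_epi (grπ I (Formal.modPow I m F) j),
      ← cancel_epi (pwMap I (Formal.modPowπ I m F) j)]
    have h1 : grπ I (Formal.modPow I m F) j ≫ cokernel.desc _ ψ₀ w₁ = ψ₀ :=
      cokernel.π_desc _ _ _
    rw [← Category.assoc (grπ I (Formal.modPow I m F) j), h1, ← Category.assoc, hψ₀',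
      grπ_grMap, Category.comp_id]

end Quot

end Groth.Agent.Lib.FibAmpH2
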