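import Mathlib
import Groth.Prelude
import Groth.Agent.Lib.FormalKer1_helper2

/-!
# Uniform vanishing for the kernels of a coherent formal module (helper2)

`X` proper over Noetherian `A`, `L` ample, `(G_n)` a coherent formal module for `I`: there is
`d₀` with `H^p(X, Ker(G_{n+1} → G_n) ⊗ L^d) = 0` for all `n`, `d ≥ d₀`, `p > 0`.
The kernels are the graded pieces `gr_{n+1}(G_{n+1})`, which form a graded module generated in
degree `0` over the polynomial ring on generators of `I`.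
APPEND-ONLY once landed.
-/

set_option autoImplicit false
universe u
open CategoryTheory CategoryTheory.Limits AlgebraicGeometry TopologicalSpace Opposite

namespace Groth.Agent.Lib.FibAmpH2

open Formal Groth.Agent.Lib.FormalModPowH4 Groth.Agent.HHVan Groth.Agent.Lib.FormalFnH2
  Groth.Agent.Lib.AmpleFinH2 Groth.Agent.TensInv CohB1

section StageAmple

/-- uniform Serre vanishing for the pieces of a graded module generated in degree `0`, `L` ample
on `X` -/
theorem stageA_ample (A : Type u) [CommRing A] [IsNoetherianRing A] (X : Scheme.{u})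
    [X.Over (Spec (CommRingCat.of A))] [IsProper (X ↘ Spec (CommRingCat.of A))]
    {σ : Type u} [Fintype σ] (Q : ℕ → X.Modules) (μ : σ → ∀ n, Q n ⟶ Q (n + 1))
    (hμ : ∀ i j n, μ i n ≫ μ j (n + 1) = μ j n ≫ μ i (n + 1)) [∀ n, (Q n).IsQuasicoherent]
    (h0 : SheafOfModules.IsFiniteType (R := X.ringCatSheaf) (Q 0))
    (hepi : ∀ n, Epi (muSum Q μ n)) {L : X.Modules} (hL : CohB1.IsAmple L) :
    ∃ d₀ : ℕ, ∀ n d : ℕ, d₀ ≤ d → ∀ p : ℕ, 0 < p →
      Subsingleton (Coh.HH X (tensorMod (Q n) (tensorPow L d)) p) := by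
  have hGt := isCoh_Gtq Q μ A hepi h0
  haveI : IsProper (sndP A X σ) :=
    inferInstanceAs (IsProper (XP A X σ ↘ Spec (CommRingCat.of (MvPolynomial σ A))))
  haveI : CompactSpace (XP A X σ) := QuasiCompact.compactSpace_of_compactSpace (sndP A X σ)
  have hampP := TensH8.isAmple_pullback_of_isAffineHom (rho A X σ) hL
  have hLP := TensH8.isInvertible_pullback (rho A X σ) hL.1
  obtain ⟨d₀, hd₀⟩ := RelAmpleVanH9.serre_vanishing_ample (sndP A X σ) _ hLP hampP _ hGt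
  exact ⟨d₀, fun n d hd p hp => subsingleton_HH_piece Q μ A hμ hL.1 d p (hd₀ d hd p hp) n⟩

end StageAmple

section FormalMod

variable {A : Type u} [CommRing A] {X : Scheme.{u}} [X.Over (Spec (CommRingCat.of A))]
  (I : Ideal A) (G : ℕᵒᵖ ⥤ X.Modules)

/-- the `n`-th term -/
abbrev Gn (n : ℕ) : X.Modules := G.obj (op n)

/-- the transition map -/
abbrev tG (n : ℕ) : Gn G (n + 1) ⟶ Gn G n := G.map (homOfLE (Nat.le_succ n)).op

variable {I G} (hG : Formal.IsCohFormal I G)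

include hG in
theorem exists_c (n : ℕ) : ∃ c : Formal.modPow I (n + 1) (Gn G (n + 1)) ≅ Gn G n,
    Formal.modPowπ I (n + 1) (Gn G (n + 1)) ≫ c.hom = tG G n := by
  obtain ⟨h, hiso⟩ := hG.2.2 n
  exact ⟨@asIso _ _ _ _ _ hiso, cokernel.π_desc _ _ _⟩

include hG in
theorem isIso_grMap_tG {j m : ℕ} (h : j ≤ m) : IsIso (grMap I (tG G m) j) := by
  obtain ⟨c, hc⟩ := exists_c hG m
  rw [← hc, grMap_comp]
  haveI := isIso_grMap_modPowπ I (Gn G (m + 1)) (Nat.succ_le_succ h)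
  haveI := isIso_grMap I c.hom j
  infer_instance

theorem pwι_eq_zero_of_killed (F : X.Modules) (k : ℕ) (hk : Formal.KilledBy (I ^ k) F) :
    pwι I F k = 0 := by
  have h := pwι_comp_eq_zero I F k (𝟙 F) (fun b hb => by rw [hk b hb, zero_comp])
  rwa [Category.comp_id] at h

include hG in
theorem nonempty_kernel_iso (n : ℕ) :
    Nonempty (kernel (tG G n) ≅ gr I (Gn G (n + 1)) (n + 1)) := by
  obtain ⟨c, hc⟩ := exists_c hG n
  have e1 : kernel (tG G n) ≅
      kernel (Formal.modPowπ I (n + 1) (Gn G (n + 1)) ≫ c.hom) := kernelIsoOfEq hc.symm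
  have e2 : kernel (Formal.modPowπ I (n + 1) (Gn G (n + 1)) ≫ c.hom) ≅
      pw I (Gn G (n + 1)) (n + 1) := kernelCompMono _ _
  have h0 : pwInc I (Gn G (n + 1)) (Nat.le_succ (n + 1)) = 0 := by
    rw [← cancel_mono (pwι I (Gn G (n + 1)) (n + 1)), pwInc_ι, zero_comp]
    exact pwι_eq_zero_of_killed _ _ (hG.2.1 (n + 1))
  have e3 : pw I (Gn G (n + 1)) (n + 1) ≅ gr I (Gn G (n + 1)) (n + 1) :=
    { hom := grπ I (Gn G (n + 1)) (n + 1)
      inv := cokernel.desc _ (𝟙 _) (by rw [h0, zero_comp])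
      hom_inv_id := cokernel.π_desc _ _ _
      inv_hom_id := by
        rw [← cancel_epi (grπ I (Gn G (n + 1)) (n + 1)), ← Category.assoc]
        have h1 : grπ I (Gn G (n + 1)) (n + 1) ≫ cokernel.desc _ (𝟙 _)
            (by rw [h0, zero_comp]) = 𝟙 _ := cokernel.π_desc _ _ _
        rw [h1, Category.id_comp, Category.comp_id] }
  exact ⟨e1 ≪≫ e2 ≪≫ e3⟩

/-- the graded pieces -/
noncomputable abbrev QG (I : Ideal A) (G : ℕᵒᵖ ⥤ X.Modules) (n : ℕ) : X.Modules :=
  gr I (Gn G (n + 1)) (n + 1)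

/-- the comparison isomorphism `gr_j(G_{m+1}) ≅ gr_j(G_m)`, `j ≤ m` -/
noncomputable def grIsoG {j m : ℕ} (h : j ≤ m) : gr I (Gn G (m + 1)) j ≅ gr I (Gn G m) j :=
  @asIso _ _ _ _ (grMap I (tG G m) j) (isIso_grMap_tG hG h)

theorem grIsoG_hom {j m : ℕ} (h : j ≤ m) : (grIsoG hG h).hom = grMap I (tG G m) j := rfl

/-- the multiplication maps on the graded pieces -/
noncomputable def μG (a : A) (ha : a ∈ I) (n : ℕ) : QG I G n ⟶ QG I G (n + 1) :=
  (grIsoG hG (le_refl (n + 1))).inv ≫ grMul I (Gn G (n + 1 + 1)) a ha (n + 1)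

theorem μG_comp (a b : A) (ha : a ∈ I) (hb : b ∈ I) (n : ℕ) :
    μG hG a ha n ≫ μG hG b hb (n + 1) =
      ((grIsoG hG (le_refl (n + 1))).inv ≫ (grIsoG hG (Nat.le_succ (n + 1))).inv) ≫
        grMul I (Gn G (n + 1 + 1 + 1)) a ha (n + 1) ≫
          grMul I (Gn G (n + 1 + 1 + 1)) b hb (n + 1 + 1) := by
  have h1 : grMul I (Gn G (n + 1 + 1)) a ha (n + 1) ≫ (grIsoG hG (le_refl (n + 1 + 1))).inv =
      (grIsoG hG (Nat.le_succ (n + 1))).inv ≫ grMul I (Gn G (n + 1 + 1 + 1)) a ha (n + 1) := by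
    have h0 := grMap_grMul I (tG G (n + 1 + 1)) a ha (n + 1)
    have h0' : (grIsoG hG (Nat.le_succ (n + 1))).hom ≫ grMul I (Gn G (n + 1 + 1)) a ha (n + 1) =
        grMul I (Gn G (n + 1 + 1 + 1)) a ha (n + 1) ≫ (grIsoG hG (le_refl (n + 1 + 1))).hom := h0
    refine (Iso.comp_inv_eq _).mpr ?_
    refine Eq.trans ?_ (Category.assoc _ _ _).symm
    exact (Iso.eq_inv_comp _).mpr h0'
  show ((grIsoG hG (le_refl (n + 1))).inv ≫ grMul I (Gn G (n + 1 + 1)) a ha (n + 1)) ≫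
      ((grIsoG hG (le_refl (n + 1 + 1))).inv ≫
        grMul I (Gn G (n + 1 + 1 + 1)) b hb (n + 1 + 1)) = _
  rw [Category.assoc, ← Category.assoc (grMul I (Gn G (n + 1 + 1)) a ha (n + 1)), h1]
  simp only [Category.assoc]

theorem μG_comm (a b : A) (ha : a ∈ I) (hb : b ∈ I) (n : ℕ) :
    μG hG a ha n ≫ μG hG b hb (n + 1) = μG hG b hb n ≫ μG hG a ha (n + 1) := by
  rw [μG_comp hG a b ha hb n, μG_comp hG b a hb ha n, grMul_comm]

variable {σ : Type u} [Fintype σ] (a : σ → A) (ha : ∀ i, a i ∈ I)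

theorem epi_muSum_G (hspan : Ideal.span (Set.range a) = I) (n : ℕ) :
    Epi (muSum (QG I G) (fun i n => μG hG (a i) (ha i) n) n) := by
  haveI := epi_grMulSum I (Gn G (n + 1 + 1)) a ha hspan (n + 1)
  refine Preadditive.epi_of_cancel_zero _ (fun {Z} g hg => ?_)
  rw [← cancel_epi (muSum (gr I (Gn G (n + 1 + 1)))
    (fun i k => grMul I (Gn G (n + 1 + 1)) (a i) (ha i) k) (n + 1)), comp_zero]
  apply Sigma.hom_ext
  intro i
  have h1 : Sigma.ι (fun _ : σ => QG I G n) i ≫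
      muSum (QG I G) (fun i n => μG hG (a i) (ha i) n) n = μG hG (a i) (ha i) n :=
    ι_muSum (QG I G) (fun i n => μG hG (a i) (ha i) n) n i
  have h2 : Sigma.ι (fun _ : σ => gr I (Gn G (n + 1 + 1)) (n + 1)) i ≫
      muSum (gr I (Gn G (n + 1 + 1)))
        (fun i k => grMul I (Gn G (n + 1 + 1)) (a i) (ha i) k) (n + 1) =
      grMul I (Gn G (n + 1 + 1)) (a i) (ha i) (n + 1) :=
    ι_muSum (gr I (Gn G (n + 1 + 1)))
      (fun i k => grMul I (Gn G (n + 1 + 1)) (a i) (ha i) k) (n + 1) i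
  have h3 : μG hG (a i) (ha i) n ≫ g = 0 := by
    rw [← h1, Category.assoc, hg, comp_zero]
  have h4 : (grIsoG hG (le_refl (n + 1))).inv ≫
      grMul I (Gn G (n + 1 + 1)) (a i) (ha i) (n + 1) ≫ g = 0 := by
    rw [← Category.assoc]
    exact h3
  rw [comp_zero, ← Category.assoc, h2]
  have h5 := congrArg (fun t => (grIsoG hG (le_refl (n + 1))).hom ≫ t) h4
  simpa using h5

end FormalMod

section Main

variable (A : Type u) [CommRing A] [IsNoetherianRing A] (I : Ideal A) (X : Scheme.{u})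
  [X.Over (Spec (CommRingCat.of A))] [IsProper (X ↘ Spec (CommRingCat.of A))]

/-- uniform vanishing for the kernels of a coherent formal module, all positive degrees -/
theorem kernels_vanish (L : X.Modules) (hL : CohB1.IsAmple L) (G : ℕᵒᵖ ⥤ X.Modules)
    (hG : Formal.IsCohFormal I G) :
    ∃ d₀ : ℕ, ∀ n d : ℕ, d₀ ≤ d → ∀ p : ℕ, 0 < p →
      Subsingleton (Coh.HH X (CohB1.tensorMod (kernel (G.map (homOfLE (Nat.le_succ n)).op))
        (CohB1.tensorPow L d)) p) := by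
  obtain ⟨σ, _, a, ha, hspan⟩ := exists_generators A I
  haveI : IsLocallyNoetherian X :=
    LocallyOfFiniteType.isLocallyNoetherian (X ↘ Spec (CommRingCat.of A))
  have hcoh : ∀ n, Coh.IsCoh (QG I G n) := fun n => isCoh_gr I _ (hG.1 (n + 1)) (n + 1)
  haveI : ∀ n, (QG I G n).IsQuasicoherent := fun n => (hcoh n).1
  obtain ⟨d₀, hd₀⟩ := stageA_ample A X (QG I G) (fun i n => μG hG (a i) (ha i) n)
    (fun i j n => μG_comm hG (a i) (a j) (ha i) (ha j) n) (hcoh 0).2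
    (fun n => epi_muSum_G hG a ha hspan n) hL
  refine ⟨d₀, fun n d hd p hp => ?_⟩
  obtain ⟨e⟩ := nonempty_kernel_iso hG n
  exact Groth.Agent.HHVan.subsingleton_of_iso (mapR e.symm (tensorPow L d)) p (hd₀ n d hd p hp)

/-- **S0848**. -/
theorem main0848 (L : X.Modules) (hL : CohB1.IsAmple L) (G : ℕᵒᵖ ⥤ X.Modules)
    (hG : Formal.IsCohFormal I G) :
    ∃ d₀ : ℕ, ∀ (n d : ℕ), d₀ ≤ d →
      Subsingleton (Coh.HH X (CohB1.tensorMod (kernel (G.map (homOfLE (Nat.le_succ n)).op))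
        (CohB1.tensorPow L d)) 1) := by
  obtain ⟨d₀, hd₀⟩ := kernels_vanish A I X L hL G hG
  exact ⟨d₀, fun n d hd => hd₀ n d hd 1 one_pos⟩

end Main

end Groth.Agent.Lib.FibAmpH2
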