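import Mathlib
import Groth.Prelude
import Groth.Agent.Lib.FormalKer2_helper2

/-!
# Quotients `M / J M` by their universal property; torsion formal modules algebraize (helper2)

* `IsQuot J t` : `t : M ⟶ N` identifies `N` with `M / J M` (stated by the universal property);
  stability under composition, uniqueness, comparison with the cokernel condition of
  `Formal.IsCohFormal`.
* for a coherent formal module `G`: every transition map `G_m ⟶ G_n` is a quotient by `I^(n+1)`.
* `main0832`: a coherent formal module killed by a fixed power of `I` is the completion of a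
  coherent module.
APPEND-ONLY once landed.
-/

set_option autoImplicit false
universe u
open CategoryTheory CategoryTheory.Limits AlgebraicGeometry TopologicalSpace Opposite

namespace Groth.Agent.Lib.FormalQuotH2

open Formal Groth.Agent.Lib.FormalModPowH4 Groth.Agent.Lib.FormalFnH2 Groth.Agent.Lib.FibAmpH2

section Quot

variable {A : Type u} [CommRing A] {X : Scheme.{u}} [X.Over (Spec (CommRingCat.of A))]

/-- `t : M ⟶ N` identifies `N` with `M / J M` -/
def IsQuot (J : Ideal A) {M N : X.Modules} (t : M ⟶ N) : Prop :=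
  (∀ a ∈ J, Formal.smulMod A M a ≫ t = 0) ∧ Epi t ∧
    ∀ (Z : X.Modules) (g : M ⟶ Z), (∀ a ∈ J, Formal.smulMod A M a ≫ g = 0) →
      ∃ g' : N ⟶ Z, t ≫ g' = g

theorem killedBy_mono {J J' : Ideal A} (h : J' ≤ J) {M : X.Modules} (hM : Formal.KilledBy J M) :
    Formal.KilledBy J' M := fun a ha => hM a (h ha)

theorem smulFamily_comp_eq_zero (J : Ideal A) {M Z : X.Modules} (g : M ⟶ Z)
    (h : ∀ a ∈ J, Formal.smulMod A M a ≫ g = 0) : Formal.smulFamily J M ≫ g = 0 := by
  apply Sigma.hom_ext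
  intro a
  rw [comp_zero, ← Category.assoc, ι_smulFamily]
  exact h a.1 a.2

theorem smulMod_comp_of_smulFamily (J : Ideal A) {M Z : X.Modules} (g : M ⟶ Z)
    (h : Formal.smulFamily J M ≫ g = 0) {a : A} (ha : a ∈ J) :
    Formal.smulMod A M a ≫ g = 0 := by
  rw [← ι_smulFamily M J ⟨a, ha⟩, Category.assoc, h, comp_zero]

theorem isQuot_cokernel_π (J : Ideal A) (M : X.Modules) :
    IsQuot J (cokernel.π (Formal.smulFamily J M)) :=
  ⟨fun _ ha => smulMod_π_of_mem M J ha, inferInstance, fun _ g hg =>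
    ⟨cokernel.desc _ g (smulFamily_comp_eq_zero J g hg), cokernel.π_desc _ _ _⟩⟩

theorem isQuot_modPowπ (I : Ideal A) (n : ℕ) (M : X.Modules) :
    IsQuot (I ^ n) (Formal.modPowπ I n M) := isQuot_cokernel_π (I ^ n) M

theorem IsQuot.comp_iso {J : Ideal A} {M N N' : X.Modules} {t : M ⟶ N} (ht : IsQuot J t)
    (e : N ⟶ N') [IsIso e] : IsQuot J (t ≫ e) := by
  obtain ⟨h1, h2, h3⟩ := ht
  refine ⟨fun a ha => by rw [← Category.assoc, h1 a ha, zero_comp], epi_comp t e,
    fun Z g hg => ?_⟩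
  obtain ⟨g', hg'⟩ := h3 Z g hg
  exact ⟨inv e ≫ g', by rw [Category.assoc, IsIso.hom_inv_id_assoc, hg']⟩

theorem IsQuot.iso_comp {J : Ideal A} {M' M N : X.Modules} (e : M' ⟶ M) [IsIso e] {t : M ⟶ N}
    (ht : IsQuot J t) : IsQuot J (e ≫ t) := by
  obtain ⟨h1, h2, h3⟩ := ht
  refine ⟨fun a ha => ?_, epi_comp e t, fun Z g hg => ?_⟩
  · rw [← Category.assoc, smulMod_naturality, Category.assoc, h1 a ha, comp_zero]
  · obtain ⟨g', hg'⟩ := h3 Z (inv e ≫ g) (fun a ha => by
      rw [← Category.assoc, smulMod_naturality, Category.assoc, hg a ha, comp_zero])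
    exact ⟨g', by rw [Category.assoc, hg', IsIso.hom_inv_id_assoc]⟩

theorem IsQuot.of_cond {J : Ideal A} {M N : X.Modules} (t : M ⟶ N)
    (h : Formal.smulFamily J M ≫ t = 0) (hiso : IsIso (cokernel.desc _ t h)) : IsQuot J t := by
  have e : t = cokernel.π (Formal.smulFamily J M) ≫ cokernel.desc _ t h :=
    (cokernel.π_desc _ _ _).symm
  rw [e]
  exact (isQuot_cokernel_π J M).comp_iso _

theorem IsQuot.exists_iso {J : Ideal A} {M N N' : X.Modules} {t : M ⟶ N} {t' : M ⟶ N'}
    (ht : IsQuot J t) (ht' : IsQuot J t') : ∃ e : N ≅ N', t ≫ e.hom = t' := by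
  obtain ⟨u, hu⟩ := ht.2.2 N' t' ht'.1
  obtain ⟨v, hv⟩ := ht'.2.2 N t ht.1
  haveI := ht.2.1
  haveI := ht'.2.1
  refine ⟨⟨u, v, ?_, ?_⟩, hu⟩
  · rw [← cancel_epi t, ← Category.assoc, hu, hv, Category.comp_id]
  · rw [← cancel_epi t', ← Category.assoc, hv, hu, Category.comp_id]

theorem IsQuot.cond {J : Ideal A} {M N : X.Modules} {t : M ⟶ N} (ht : IsQuot J t) :
    ∃ h : Formal.smulFamily J M ≫ t = 0, IsIso (cokernel.desc _ t h) := by
  have h : Formal.smulFamily J M ≫ t = 0 := smulFamily_comp_eq_zero J t ht.1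
  refine ⟨h, ?_⟩
  obtain ⟨e, he⟩ := (isQuot_cokernel_π J M).exists_iso ht
  have : cokernel.desc _ t h = e.hom := by
    rw [← cancel_epi (cokernel.π (Formal.smulFamily J M)), cokernel.π_desc, he]
  rw [this]
  infer_instance

theorem IsQuot.comp {J J' : Ideal A} (hJ : J' ≤ J) {M N P : X.Modules} {t : M ⟶ N} {s : N ⟶ P}
    (ht : IsQuot J' t) (hs : IsQuot J s) : IsQuot J (t ≫ s) := by
  haveI := ht.2.1
  haveI := hs.2.1
  refine ⟨fun a ha => ?_, epi_comp t s, fun Z g hg => ?_⟩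
  · rw [← Category.assoc, smulMod_naturality, Category.assoc, hs.1 a ha, comp_zero]
  · obtain ⟨g', hg'⟩ := ht.2.2 Z g (fun a ha => hg a (hJ ha))
    obtain ⟨g'', hg''⟩ := hs.2.2 Z g' (fun a ha => by
      rw [← cancel_epi t, comp_zero, ← Category.assoc, ← smulMod_naturality, Category.assoc, hg',
        hg a ha])
    exact ⟨g'', by rw [Category.assoc, hg'', hg']⟩

theorem isQuot_id_of_killed {J : Ideal A} {M : X.Modules} (h : Formal.KilledBy J M) :
    IsQuot J (𝟙 M) :=
  ⟨fun a ha => by rw [h a ha, zero_comp], inferInstance, fun _ g _ => ⟨g, Category.id_comp g⟩⟩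

theorem IsQuot.isIso_of_killed {J : Ideal A} {M N : X.Modules} {t : M ⟶ N} (ht : IsQuot J t)
    (h : Formal.KilledBy J M) : IsIso t := by
  obtain ⟨e, he⟩ := (isQuot_id_of_killed h).exists_iso ht
  rw [Category.id_comp] at he
  rw [← he]
  infer_instance

theorem isQuot_of_isIso_of_killed {J : Ideal A} {M N : X.Modules} (t : M ⟶ N) [IsIso t]
    (h : Formal.KilledBy J M) : IsQuot J t := by
  have := (isQuot_id_of_killed h).comp_iso t
  rwa [Category.id_comp] at this

end Quot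

section CohFormal

variable {A : Type u} [CommRing A] {X : Scheme.{u}} [X.Over (Spec (CommRingCat.of A))]
  {I : Ideal A} {G : ℕᵒᵖ ⥤ X.Modules}

/-- the transition maps of an inverse system -/
abbrev gm (G : ℕᵒᵖ ⥤ X.Modules) {n m : ℕ} (h : n ≤ m) : Gn G m ⟶ Gn G n :=
  G.map (homOfLE h).op

theorem gm_refl (n : ℕ) : gm G (le_refl n) = 𝟙 _ := by
  show G.map (homOfLE (le_refl n)).op = 𝟙 _
  have h : (homOfLE (le_refl n)).op = 𝟙 (op n) := rfl
  rw [h, G.map_id]

theorem gm_trans {n m k : ℕ} (h1 : n ≤ m) (h2 : m ≤ k) :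
    gm G h2 ≫ gm G h1 = gm G (h1.trans h2) := by
  show G.map _ ≫ G.map _ = G.map _
  rw [← G.map_comp]
  rfl

theorem isQuot_tG (hG : Formal.IsCohFormal I G) (n : ℕ) : IsQuot (I ^ (n + 1)) (tG G n) := by
  obtain ⟨h, hiso⟩ := hG.2.2 n
  exact IsQuot.of_cond _ h hiso

theorem isQuot_gm (hG : Formal.IsCohFormal I G) {n m : ℕ} (h : n ≤ m) :
    IsQuot (I ^ (n + 1)) (gm G h) := by
  induction m, h using Nat.le_induction with
  | base =>
    rw [gm_refl]
    exact isQuot_id_of_killed (hG.2.1 n)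
  | succ m h ih =>
    have e : gm G (h.trans (Nat.le_succ m)) = tG G m ≫ gm G h :=
      (gm_trans h (Nat.le_succ m)).symm
    rw [e]
    exact IsQuot.comp (Ideal.pow_le_pow_right (Nat.succ_le_succ h)) (isQuot_tG hG m) ih

theorem isIso_gm_of_le (hG : Formal.IsCohFormal I G) (c : ℕ)
    (hc : ∀ n, Formal.KilledBy (I ^ (c + 1)) (Gn G n)) {n m : ℕ} (hn : c ≤ n) (h : n ≤ m) :
    IsIso (gm G h) :=
  (isQuot_gm hG h).isIso_of_killed
    (killedBy_mono (Ideal.pow_le_pow_right (Nat.succ_le_succ hn)) (hc m))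

theorem exists_tau (hG : Formal.IsCohFormal I G) (c : ℕ)
    (hc : ∀ n, Formal.KilledBy (I ^ (c + 1)) (Gn G n)) (n : ℕ) :
    ∃ τ : Gn G c ⟶ Gn G n, IsQuot (I ^ (n + 1)) τ ∧
      ∀ (N : ℕ) (hN : c ≤ N) (hn : n ≤ N), gm G hN ≫ τ = gm G hn := by
  haveI := isIso_gm_of_le hG c hc (le_refl c) (le_max_right n c)
  refine ⟨inv (gm G (le_max_right n c)) ≫ gm G (le_max_left n c),
    IsQuot.iso_comp _ (isQuot_gm hG _), fun N hN hn => ?_⟩
  have hm : max n c ≤ N := max_le hn hN
  rw [← gm_trans (le_max_right n c) hm, Category.assoc, IsIso.hom_inv_id_assoc, gm_trans]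

end CohFormal

section Main

/-- **S0832**. -/
theorem main0832 (A : Type u) [CommRing A] (I : Ideal A) (X : Scheme.{u})
    [X.Over (Spec (CommRingCat.of A))] (F : ℕᵒᵖ ⥤ X.Modules)
    (hF : Formal.IsCohFormal I F)
    (hc : ∃ c : ℕ, ∀ n : ℕ, Formal.KilledBy (I ^ c) (F.obj (op n))) :
    ∃ M : X.Modules, Coh.IsCoh M ∧ Nonempty (Formal.completion I M ≅ F) := by
  obtain ⟨c, hc0⟩ := hc
  have hc : ∀ n, Formal.KilledBy (I ^ (c + 1)) (Gn F n) := fun n =>
    killedBy_mono (Ideal.pow_le_pow_right (Nat.le_succ c)) (hc0 n)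
  choose τ hτq hτ using exists_tau hF c hc
  refine ⟨Gn F c, hF.1 c, ?_⟩
  have he : ∀ n, ∃ e : Formal.modPow I (n + 1) (Gn F c) ≅ Gn F n,
      Formal.modPowπ I (n + 1) (Gn F c) ≫ e.hom = τ n := fun n =>
    (isQuot_modPowπ I (n + 1) (Gn F c)).exists_iso (hτq n)
  choose e he using he
  have hcomp : ∀ n, τ (n + 1) ≫ tG F n = τ n := by
    intro n
    haveI := isIso_gm_of_le hF c hc (le_refl c) (le_max_right (n + 1) c)
    rw [← cancel_epi (gm F (le_max_right (n + 1) c)), ← Category.assoc,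
      hτ (n + 1) _ (le_max_right (n + 1) c) (le_max_left (n + 1) c),
      hτ n _ (le_max_right (n + 1) c) ((Nat.le_succ n).trans (le_max_left (n + 1) c))]
    exact gm_trans (Nat.le_succ n) (le_max_left (n + 1) c)
  have hmap : ∀ n, (Formal.completion I (Gn F c)).map (homOfLE (Nat.le_add_right n 1)).op =
      Formal.modPowTrans I (n + 1) (Gn F c) := by
    intro n
    unfold Formal.completion
    exact Functor.ofOpSequence_map_homOfLE_succ _ n
  have hnat : ∀ n, Formal.modPowTrans I (n + 1) (Gn F c) ≫ (e n).hom =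
      (e (n + 1)).hom ≫ tG F n := by
    intro n
    rw [← cancel_epi (Formal.modPowπ I (n + 1 + 1) (Gn F c)), ← Category.assoc,
      Formal.modPowπ_trans, he n, ← Category.assoc, he (n + 1)]
    exact (hcomp n).symm
  let α : Formal.completion I (Gn F c) ⟶ F :=
    NatTrans.ofOpSequence (fun n => (e n).hom) (fun n => by
      rw [hmap n]
      exact hnat n)
  haveI : ∀ n, IsIso (α.app n) := fun n => by
    show IsIso (e n.unop).hom
    infer_instance
  haveI : IsIso α := NatIso.isIso_of_isIso_app α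
  exact ⟨asIso α⟩

end Main

end Groth.Agent.Lib.FormalQuotH2
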