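import Mathlib
import Groth.Prelude.Def_Dual3
import Groth.Agent.Lib.ModSite1_helper8
import Groth.Agent.Lib.ModSite3_helper8
set_option autoImplicit false
open CategoryTheory CategoryTheory.Limits TopologicalSpace Opposite TopCat AlgebraicGeometry
universe u
namespace ClAdjH8


noncomputable abbrev stk (Y : TopCat.{u}) (y : Y) : TopCat.Sheaf AddCommGrpCat.{u} Y ⥤ AddCommGrpCat.{u} :=
  TopCat.Sheaf.forget AddCommGrpCat.{u} Y ⋙ TopCat.Presheaf.stalkFunctor AddCommGrpCat.{u} y

/-- A functor to sheaves of abelian groups preserves a colimit as soon as its composites with all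
stalk functors do. -/
theorem preservesColimit_of_stalks {C : Type*} [Category C] {Y : TopCat.{u}} {K : Type u}
    [SmallCategory K] (G : C ⥤ TopCat.Sheaf AddCommGrpCat.{u} Y) (D : K ⥤ C) [HasColimit D]
    (h : ∀ y : Y, PreservesColimit D (G ⋙ stk Y y)) : PreservesColimit D G := by
  haveI : IsIso (colimit.post D G) := by
    haveI : ∀ y : Y, IsIso ((TopCat.Presheaf.stalkFunctor AddCommGrpCat.{u} y).map
        (colimit.post D G).1) := by
      intro y
      haveI := h y
      have h1 : colimit.post (D ⋙ G) (stk Y y) ≫ (stk Y y).map (colimit.post D G) =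
          colimit.post D (G ⋙ stk Y y) := colimit.post_post D G (stk Y y)
      haveI : IsIso (colimit.post (D ⋙ G) (stk Y y)) := inferInstance
      haveI : IsIso (colimit.post D (G ⋙ stk Y y)) := inferInstance
      have h2 : IsIso ((stk Y y).map (colimit.post D G)) :=
        IsIso.of_isIso_fac_left h1
      exact h2
    exact TopCat.Presheaf.isIso_of_stalkFunctor_map_iso (colimit.post D G)
  exact preservesColimit_of_isIso_post G D

/-- A functor all of whose values are zero objects preserves colimits. -/
theorem preservesColimit_of_isZero {C D : Type*} [Category C] [Category D] {K : Type*} [Category K]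
    (G : C ⥤ D) (h : ∀ X, IsZero (G.obj X)) (F : K ⥤ C) : PreservesColimit F G := by
  constructor
  intro c hc
  exact ⟨{ desc := fun s => (h c.pt).to_ s.pt
           fac := fun s j => (h (F.obj j)).eq_of_src _ _
           uniq := fun s m _ => (h c.pt).eq_of_src _ _ }⟩

variable {Z X : TopCat.{u}} (i : Z ⟶ X)

/-- The stalk of a pushforward at a point in the image, naturally. -/
noncomputable def stalkPushNatTrans (z : Z) :
    TopCat.Sheaf.pushforward AddCommGrpCat.{u} i ⋙ stk X (i z) ⟶ stk Z z where
  app F := TopCat.Presheaf.stalkPushforward AddCommGrpCat.{u} i F.1 z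
  naturality F G φ := by
    refine TopCat.Presheaf.stalk_hom_ext _ (fun U hU => ?_)
    show ((TopCat.Presheaf.pushforward AddCommGrpCat.{u} i).obj F.1).germ U (i z) hU ≫ (TopCat.Presheaf.stalkFunctor _ (i z)).map
        ((TopCat.Presheaf.pushforward _ i).map φ.1) ≫
        TopCat.Presheaf.stalkPushforward _ i G.1 z =
      ((TopCat.Presheaf.pushforward AddCommGrpCat.{u} i).obj F.1).germ U (i z) hU ≫ TopCat.Presheaf.stalkPushforward _ i F.1 z ≫
        (TopCat.Presheaf.stalkFunctor _ z).map φ.1
    rw [TopCat.Presheaf.stalkFunctor_map_germ_assoc]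
    have e1 := TopCat.Presheaf.stalkPushforward_germ AddCommGrpCat.{u} i G.1 U z hU
    have e2 := TopCat.Presheaf.stalkPushforward_germ AddCommGrpCat.{u} i F.1 U z hU
    have e3 := TopCat.Presheaf.stalkFunctor_map_germ ((Opens.map i).obj U) z hU φ.1
    refine (congrArg (((TopCat.Presheaf.pushforward AddCommGrpCat.{u} i).map φ.1).app (op U) ≫ ·) e1).trans ?_
    refine Eq.trans ?_ (Category.assoc _ _ _)
    refine Eq.trans ?_ (congrArg (· ≫ (TopCat.Presheaf.stalkFunctor AddCommGrpCat.{u} z).map φ.1) e2.symm)
    exact e3.symm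


/-- Off the (closed) range of `i` the stalks of a pushforward vanish. -/
theorem isZero_stalk_pushforward (hcl : IsClosed (Set.range i)) (x : X) (hx : x ∉ Set.range i)
    (F : TopCat.Sheaf AddCommGrpCat.{u} Z) :
    IsZero ((TopCat.Sheaf.pushforward AddCommGrpCat.{u} i ⋙ stk X x).obj F) := by
  let V : Opens X := ⟨(Set.range i)ᶜ, hcl.isOpen_compl⟩
  have hxV : x ∈ V := hx
  have hsub : ∀ W : Opens X, W ≤ V →
      Subsingleton (((TopCat.Sheaf.pushforward AddCommGrpCat.{u} i).obj F).1.obj (op W)) := by
    intro W hWV
    have hW : (Opens.map i).obj W = ⊥ := by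
      ext z
      simp only [Opens.map_coe, Set.mem_preimage, SetLike.mem_coe, Opens.coe_bot,
        Set.mem_empty_iff_false, iff_false]
      intro hz
      exact hWV hz ⟨z, rfl⟩
    have hterm : IsTerminal (((TopCat.Sheaf.pushforward AddCommGrpCat.{u} i).obj F).1.obj (op W)) := by
      show IsTerminal (F.1.obj (op ((Opens.map i).obj W)))
      rw [hW]
      exact TopCat.Sheaf.isTerminalOfEmpty F
    exact AddCommGrpCat.subsingleton_of_isZero
      ((IsZero.iff_id_eq_zero _).mpr (hterm.hom_ext _ _))
  haveI : Subsingleton ↑((TopCat.Sheaf.pushforward AddCommGrpCat.{u} i ⋙ stk X x).obj F) := by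
    refine ⟨fun a b => ?_⟩
    have key : ∀ t : ↑((TopCat.Sheaf.pushforward AddCommGrpCat.{u} i ⋙ stk X x).obj F), t = 0 := by
      intro t
      obtain ⟨U, hxU, s, rfl⟩ := TopCat.Presheaf.exists_germ_eq
        (((TopCat.Sheaf.pushforward AddCommGrpCat.{u} i).obj F).1) (x := x) t
      have h1 := TopCat.Presheaf.germ_res_apply
        (((TopCat.Sheaf.pushforward AddCommGrpCat.{u} i).obj F).1)
        (homOfLE (inf_le_left : U ⊓ V ≤ U)) x ⟨hxU, hxV⟩ s
      haveI := hsub (U ⊓ V) inf_le_right
      refine h1.symm.trans ?_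
      rw [Subsingleton.elim ((ConcreteCategory.hom
        ((((TopCat.Sheaf.pushforward AddCommGrpCat.{u} i).obj F).1).map
          (homOfLE (inf_le_left : U ⊓ V ≤ U)).op)) s) 0, map_zero]
      rfl
    rw [key a, key b]
  exact AddCommGrpCat.isZero_of_subsingleton _


/-- Direct image of abelian sheaves along a closed embedding preserves colimits. -/
theorem preservesColimits_pushforward (hi : Topology.IsClosedEmbedding i) :
    PreservesColimitsOfSize.{u, u} (TopCat.Sheaf.pushforward AddCommGrpCat.{u} i) := by
  constructor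
  intro K _
  constructor
  intro D
  apply preservesColimit_of_stalks
  intro x
  by_cases hx : x ∈ Set.range i
  · obtain ⟨z, rfl⟩ := hx
    haveI : IsIso (stalkPushNatTrans i z) := by
      haveI : ∀ F, IsIso ((stalkPushNatTrans i z).app F) := fun F =>
        TopCat.Presheaf.stalkPushforward.stalkPushforward_iso_of_isInducing _ hi.isInducing F.1 z
      exact NatIso.isIso_of_isIso_app _
    haveI : PreservesColimit D (stk Z z) := inferInstance
    exact preservesColimit_of_natIso D (asIso (stalkPushNatTrans i z)).symm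
  · exact preservesColimit_of_isZero _ (isZero_stalk_pushforward i hi.isClosed_range x hx) D


open Groth.Agent.Lib.ModSiteH8 in
/-- Direct image of modules along a closed immersion preserves colimits. -/
theorem preservesColimits_modules_pushforward {Z X : Scheme.{u}} (i : Z ⟶ X) [IsClosedImmersion i] :
    PreservesColimitsOfSize.{u, u} (Scheme.Modules.pushforward i) := by
  haveI h0 : PreservesColimitsOfSize.{u, u} (SheafOfModules.toSheaf.{u} X.ringCatSheaf) :=
    toSheaf_preservesColimitsOfSize X.ringCatSheaf
  haveI h1 : PreservesColimitsOfSize.{u, u} (SheafOfModules.toSheaf.{u} Z.ringCatSheaf) :=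
    toSheaf_preservesColimitsOfSize Z.ringCatSheaf
  haveI h3 : ReflectsColimitsOfSize.{u, u} (SheafOfModules.toSheaf.{u} X.ringCatSheaf) :=
    reflectsColimits_of_reflectsIsomorphisms
  haveI h4 : PreservesColimitsOfSize.{u, u}
      ((Opens.map i.base).sheafPushforwardContinuous AddCommGrpCat.{u}
        (Opens.grothendieckTopology X) (Opens.grothendieckTopology Z)) :=
    preservesColimits_pushforward i.base i.isClosedEmbedding
  haveI h2 : PreservesColimitsOfSize.{u, u}
      (Scheme.Modules.pushforward i ⋙ SheafOfModules.toSheaf.{u} X.ringCatSheaf) :=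
    inferInstanceAs (PreservesColimitsOfSize.{u, u}
      (SheafOfModules.toSheaf.{u} Z.ringCatSheaf ⋙
        (Opens.map i.base).sheafPushforwardContinuous AddCommGrpCat.{u}
        (Opens.grothendieckTopology X) (Opens.grothendieckTopology Z)))
  exact @preservesColimits_of_reflects_of_preserves Z.Modules _ X.Modules _ _ _
    (Scheme.Modules.pushforward i) (SheafOfModules.toSheaf.{u} X.ringCatSheaf) h2 h3

open Groth.Agent.Lib.ModSiteH8 in
theorem hasHomO {Z X : Scheme.{u}} (i : Z ⟶ X) [IsClosedImmersion i] : Dual3.HasHomO i := by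
  have h := preservesColimits_modules_pushforward i
  exact @isLeftAdjoint_of_preservesColimits _ _ _ Z.ringCatSheaf X.Modules _
    (Scheme.Modules.pushforward i) h

end ClAdjH8
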