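import Mathlib
import Groth.Prelude
import Groth.Agent.Lib.FormalKer2_helper2
import Groth.Agent.Lib.ClAdj1_helper8

/-!
# Closed immersions of schemes over `Spec A` and the `I`-adic filtration (helper2)

For a closed immersion `i : Z ⟶ X` of schemes over `Spec A`:
* `i_*` and `i^*` commute with multiplication by `a : A`;
* the counit `i^* i_* N ⟶ N` is an isomorphism for quasi-coherent `N`;
* `i_*` commutes with `I^n N`, `gr_n N` and with the multiplication maps;
* if the ideal of `i` is "generated by `I'`", then `M / I' M ≅ i_* i^* M`.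
APPEND-ONLY once landed.
-/

set_option autoImplicit false
universe u
open CategoryTheory CategoryTheory.Limits AlgebraicGeometry TopologicalSpace Opposite

namespace Groth.Agent.Lib.ThickH2

open Formal Groth.Agent.Lib.FormalModPowH4 Groth.Agent.HHVan Groth.Agent.Lib.FormalFnH2
  Groth.Agent.Lib.AmpleFinH2 Groth.Agent.TensInv CohB1 Groth.Agent.Lib.FibAmpH2

section Smul

variable {A : Type u} [CommRing A] {X Z : Scheme.{u}} [X.Over (Spec (CommRingCat.of A))]
  [Z.Over (Spec (CommRingCat.of A))] (f : Z ⟶ X)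
  (hf : f ≫ (X ↘ Spec (CommRingCat.of A)) = (Z ↘ Spec (CommRingCat.of A)))

include hf in
theorem appTop_toGlobal (a : A) :
    f.appTop.hom (Coh.toGlobal (X ↘ Spec (CommRingCat.of A)) a) =
      Coh.toGlobal (Z ↘ Spec (CommRingCat.of A)) a := by
  unfold Coh.toGlobal
  rw [← hf, Scheme.Hom.comp_appTop]
  rfl

include hf in
theorem app_rU (a : A) (V : X.Opens) : (f.app V).hom (rU a V) = rU a (f ⁻¹ᵁ V) := by
  have h1 := f.naturality (homOfLE (le_top : V ≤ ⊤)).op
  have h2 := congrArg (fun φ => φ.hom (Coh.toGlobal (X ↘ Spec (CommRingCat.of A)) a)) h1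
  refine h2.trans ?_
  show (Z.presheaf.map _).hom
    (f.appTop.hom (Coh.toGlobal (X ↘ Spec (CommRingCat.of A)) a)) = _
  rw [appTop_toGlobal f hf]
  rfl

include hf in
theorem push_smulMod' (N : Z.Modules) (a : A) :
    (Scheme.Modules.pushforward f).map (Formal.smulMod A N a) =
      Formal.smulMod A ((Scheme.Modules.pushforward f).obj N) a := by
  refine Scheme.Modules.hom_ext _ _ (fun V => ?_)
  ext x
  show (Formal.smulMod A N a).app (f ⁻¹ᵁ V) x =
    (Formal.smulMod A ((Scheme.Modules.pushforward f).obj N) a).app V x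
  rw [smulMod_app, smulMod_app, ← app_rU f hf]
  rfl

include hf in
theorem pull_smulMod' (M : X.Modules) (a : A) :
    (Scheme.Modules.pullback f).map (Formal.smulMod A M a) =
      Formal.smulMod A ((Scheme.Modules.pullback f).obj M) a := by
  apply ((Scheme.Modules.pullbackPushforwardAdjunction f).homEquiv M _).injective
  rw [Adjunction.homEquiv_unit, Adjunction.homEquiv_unit, push_smulMod' f hf]
  have h1 : Formal.smulMod A M a ≫ (Scheme.Modules.pullbackPushforwardAdjunction f).unit.app M =
      (Scheme.Modules.pullbackPushforwardAdjunction f).unit.app M ≫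
        Formal.smulMod A ((Scheme.Modules.pushforward f).obj
          ((Scheme.Modules.pullback f).obj M)) a :=
    smulMod_naturality _ a
  rw [← h1]
  exact ((Scheme.Modules.pullbackPushforwardAdjunction f).unit.naturality
    (Formal.smulMod A M a)).symm

include hf in
theorem killedBy_pullback (I' : Ideal A) (M : X.Modules) (h : Formal.KilledBy I' M) :
    Formal.KilledBy I' ((Scheme.Modules.pullback f).obj M) := by
  intro a ha
  rw [← pull_smulMod' f hf, h a ha, Functor.map_zero]

include hf in
theorem killedBy_pushforward (I' : Ideal A) (N : Z.Modules) (h : Formal.KilledBy I' N) :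
    Formal.KilledBy I' ((Scheme.Modules.pushforward f).obj N) := by
  intro a ha
  rw [← push_smulMod' f hf, h a ha, Functor.map_zero]

end Smul

section CI

variable {X Z : Scheme.{u}} (i : Z ⟶ X) [IsClosedImmersion i]

theorem killedByIdeal_pushforward (N : Z.Modules) :
    ClSub.KilledByIdeal i.ker ((Scheme.Modules.pushforward i).obj N) := by
  intro U a ha m
  rw [Scheme.Hom.ker_apply, RingHom.mem_ker] at ha
  change (i.app U.1).hom a • (show Γ(N, i ⁻¹ᵁ U.1) from m) = 0
  rw [ha, zero_smul]

instance isQuasicoherent_pushforward (N : Z.Modules) [N.IsQuasicoherent] :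
    ((Scheme.Modules.pushforward i).obj N).IsQuasicoherent :=
  QCohCrit.isQuasicoherent_pushforward i N

theorem isIso_unit_pushforward (N : Z.Modules) [N.IsQuasicoherent] :
    IsIso ((Scheme.Modules.pullbackPushforwardAdjunction i).unit.app
      ((Scheme.Modules.pushforward i).obj N)) :=
  ClPushH8.isIso_unit i _ (killedByIdeal_pushforward i N)

/-- pushforward along a closed immersion reflects isomorphisms -/
theorem isIso_of_isIso_pushforward {N N' : Z.Modules} (g : N ⟶ N')
    (h : IsIso ((Scheme.Modules.pushforward i).map g)) : IsIso g := by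
  rw [Scheme.Modules.Hom.isIso_iff_isIso_app]
  intro V
  obtain ⟨t, ht, htV⟩ := i.isClosedEmbedding.isInducing.isOpen_iff.mp V.2
  obtain rfl : i ⁻¹ᵁ (⟨t, ht⟩ : X.Opens) = V := Opens.ext htV
  exact inferInstanceAs (IsIso (((Scheme.Modules.pushforward i).map g).app ⟨t, ht⟩))

/-- the counit `i^* i_* N ⟶ N` is an isomorphism, `i` a closed immersion, `N` quasi-coherent -/
theorem isIso_counit (N : Z.Modules) [N.IsQuasicoherent] :
    IsIso ((Scheme.Modules.pullbackPushforwardAdjunction i).counit.app N) := by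
  apply isIso_of_isIso_pushforward i
  haveI := isIso_unit_pushforward i N
  have tri := (Scheme.Modules.pullbackPushforwardAdjunction i).right_triangle_components N
  exact IsIso.of_isIso_fac_left tri

end CI

section PushGr

variable {A : Type u} [CommRing A] {X Z : Scheme.{u}} [X.Over (Spec (CommRingCat.of A))]
  [Z.Over (Spec (CommRingCat.of A))] (i : Z ⟶ X) [IsClosedImmersion i]
  (hi : i ≫ (X ↘ Spec (CommRingCat.of A)) = (Z ↘ Spec (CommRingCat.of A)))
  (I : Ideal A) (N : Z.Modules)

attribute [local instance] strongEpi_of_epi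

instance preservesFiniteColimits_push : PreservesFiniteColimits (Scheme.Modules.pushforward i) := by
  have := ClAdjH8.preservesColimits_modules_pushforward i
  infer_instance

instance isQuasicoherent_gr {Y : Scheme.{u}} [Y.Over (Spec (CommRingCat.of A))]
    (F : Y.Modules) [F.IsQuasicoherent] (n : ℕ) : (gr I F n).IsQuasicoherent :=
  Groth.Agent.Lib.BModH6.isQuasicoherent_cokernel (pwInc I F (Nat.le_succ n))

include hi in
theorem sigmaComparison_smulFamily (J' : Ideal A) :
    sigmaComparison (Scheme.Modules.pushforward i) (fun _ : J' => N) ≫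
        (Scheme.Modules.pushforward i).map (Formal.smulFamily J' N) =
      Formal.smulFamily J' ((Scheme.Modules.pushforward i).obj N) := by
  apply Sigma.hom_ext
  intro a
  rw [← Category.assoc, ι_comp_sigmaComparison, ← Functor.map_comp, ι_smulFamily,
    push_smulMod' i hi, ι_smulFamily]

include hi in
theorem pushPw_comm (n : ℕ) :
    (sigmaComparison (Scheme.Modules.pushforward i) (fun _ : (I ^ n : Ideal A) => N) ≫
        (Scheme.Modules.pushforward i).map (pwE I N n)) ≫
      (Scheme.Modules.pushforward i).map (pwι I N n) =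
      Formal.smulFamily (I ^ n) ((Scheme.Modules.pushforward i).obj N) := by
  rw [Category.assoc, ← Functor.map_comp, pwE_ι, sigmaComparison_smulFamily i hi]

/-- `i_* (I^n N) ≅ I^n (i_* N)` -/
noncomputable def pushPw (n : ℕ) :
    (Scheme.Modules.pushforward i).obj (pw I N n) ≅ pw I ((Scheme.Modules.pushforward i).obj N) n :=
  haveI := ClAdjH8.preservesColimits_modules_pushforward i
  image.isoStrongEpiMono _ _ (pushPw_comm i hi I N n) ≪≫
    (image.isoStrongEpiMono (pwE I ((Scheme.Modules.pushforward i).obj N) n)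
      (pwι I ((Scheme.Modules.pushforward i).obj N) n) (pwE_ι I _ n)).symm

theorem pushPw_hom_ι (n : ℕ) :
    (pushPw i hi I N n).hom ≫ pwι I ((Scheme.Modules.pushforward i).obj N) n =
      (Scheme.Modules.pushforward i).map (pwι I N n) := by
  haveI := ClAdjH8.preservesColimits_modules_pushforward i
  have h1 := image.isoStrongEpiMono_hom_comp_ι
    (pwE I ((Scheme.Modules.pushforward i).obj N) n)
    (pwι I ((Scheme.Modules.pushforward i).obj N) n) (pwE_ι I _ n)
  have h2 := image.isoStrongEpiMono_hom_comp_ι _ _ (pushPw_comm i hi I N n)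
  have h1' : (image.isoStrongEpiMono (pwE I ((Scheme.Modules.pushforward i).obj N) n)
      (pwι I ((Scheme.Modules.pushforward i).obj N) n) (pwE_ι I _ n)).inv ≫
      pwι I ((Scheme.Modules.pushforward i).obj N) n = image.ι _ := by
    rw [Iso.inv_comp_eq]
    exact h1.symm
  unfold pushPw
  rw [Iso.trans_hom, Iso.symm_hom, Category.assoc, h1', h2]

theorem pushPw_inc {n k : ℕ} (h : n ≤ k) :
    (Scheme.Modules.pushforward i).map (pwInc I N h) ≫ (pushPw i hi I N n).hom =
      (pushPw i hi I N k).hom ≫ pwInc I ((Scheme.Modules.pushforward i).obj N) h := by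
  rw [← cancel_mono (pwι I ((Scheme.Modules.pushforward i).obj N) n), Category.assoc,
    pushPw_hom_ι, ← Functor.map_comp, pwInc_ι, Category.assoc, pwInc_ι, pushPw_hom_ι]

theorem pushPw_mul (a : A) (ha : a ∈ I) (n : ℕ) :
    (Scheme.Modules.pushforward i).map (pwMul I N a ha n) ≫ (pushPw i hi I N (n + 1)).hom =
      (pushPw i hi I N n).hom ≫ pwMul I ((Scheme.Modules.pushforward i).obj N) a ha n := by
  rw [← cancel_mono (pwι I ((Scheme.Modules.pushforward i).obj N) (n + 1)), Category.assoc,
    pushPw_hom_ι, ← Functor.map_comp, pwMul_ι, Category.assoc, pwMul_ι, ← Category.assoc,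
    pushPw_hom_ι, Functor.map_comp, push_smulMod' i hi]

theorem pushGr_w₁ (n : ℕ) :
    pwInc I ((Scheme.Modules.pushforward i).obj N) (Nat.le_succ n) ≫
      (pushPw i hi I N n).inv ≫ (Scheme.Modules.pushforward i).map (grπ I N n) = 0 := by
  have h := pushPw_inc i hi I N (Nat.le_succ n)
  have h' : pwInc I ((Scheme.Modules.pushforward i).obj N) (Nat.le_succ n) ≫
      (pushPw i hi I N n).inv =
      (pushPw i hi I N (n + 1)).inv ≫
        (Scheme.Modules.pushforward i).map (pwInc I N (Nat.le_succ n)) := by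
    rw [Iso.comp_inv_eq, Category.assoc, h, Iso.inv_hom_id_assoc]
  rw [← Category.assoc, h', Category.assoc, ← Functor.map_comp, pwInc_grπ, Functor.map_zero,
    comp_zero]

/-- `gr_n (i_* N) ⟶ i_* (gr_n N)` -/
noncomputable def pushGrHom (n : ℕ) :
    gr I ((Scheme.Modules.pushforward i).obj N) n ⟶
      (Scheme.Modules.pushforward i).obj (gr I N n) :=
  cokernel.desc _ ((pushPw i hi I N n).inv ≫ (Scheme.Modules.pushforward i).map (grπ I N n))
    (pushGr_w₁ i hi I N n)

theorem grπ_pushGrHom (n : ℕ) :
    grπ I ((Scheme.Modules.pushforward i).obj N) n ≫ pushGrHom i hi I N n =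
      (pushPw i hi I N n).inv ≫ (Scheme.Modules.pushforward i).map (grπ I N n) :=
  cokernel.π_desc _ _ _

instance isIso_pushGrHom (n : ℕ) : IsIso (pushGrHom i hi I N n) := by
  have hS := (grSC_shortExact I N n).map_of_exact (Scheme.Modules.pushforward i)
  have w : (Scheme.Modules.pushforward i).map (pwInc I N (Nat.le_succ n)) ≫
      (pushPw i hi I N n).hom ≫ grπ I ((Scheme.Modules.pushforward i).obj N) n = 0 := by
    rw [← Category.assoc, pushPw_inc, Category.assoc, pwInc_grπ, comp_zero]
  obtain ⟨l, hl⟩ := CokernelCofork.IsColimit.desc' hS.gIsCokernel _ w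
  have hl' : (Scheme.Modules.pushforward i).map (grπ I N n) ≫ l =
      (pushPw i hi I N n).hom ≫ grπ I ((Scheme.Modules.pushforward i).obj N) n := hl
  haveI : Epi ((Scheme.Modules.pushforward i).map (grπ I N n)) := inferInstance
  refine ⟨l, ?_, ?_⟩
  · rw [← cancel_epi (grπ I ((Scheme.Modules.pushforward i).obj N) n), ← Category.assoc,
      grπ_pushGrHom, Category.assoc, hl', Iso.inv_hom_id_assoc, Category.comp_id]
  · rw [← cancel_epi ((Scheme.Modules.pushforward i).map (grπ I N n)), ← Category.assoc, hl',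
      Category.assoc, grπ_pushGrHom, Iso.hom_inv_id_assoc, Category.comp_id]

theorem pushGrHom_mul (a : A) (ha : a ∈ I) (n : ℕ) :
    pushGrHom i hi I N n ≫ (Scheme.Modules.pushforward i).map (grMul I N a ha n) =
      grMul I ((Scheme.Modules.pushforward i).obj N) a ha n ≫ pushGrHom i hi I N (n + 1) := by
  have h := pushPw_mul i hi I N a ha n
  have h' : (pushPw i hi I N n).inv ≫ (Scheme.Modules.pushforward i).map (pwMul I N a ha n) =
      pwMul I ((Scheme.Modules.pushforward i).obj N) a ha n ≫ (pushPw i hi I N (n + 1)).inv := by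
    rw [Iso.inv_comp_eq, ← Category.assoc, ← h, Category.assoc, Iso.hom_inv_id, Category.comp_id]
  rw [← cancel_epi (grπ I ((Scheme.Modules.pushforward i).obj N) n), ← Category.assoc,
    grπ_pushGrHom, Category.assoc, ← Functor.map_comp, grπ_grMul, Functor.map_comp,
    ← Category.assoc, h', ← Category.assoc, grπ_grMul, Category.assoc, Category.assoc,
    grπ_pushGrHom]

end PushGr

section Unit

variable {A : Type u} [CommRing A] {X Z : Scheme.{u}} [X.Over (Spec (CommRingCat.of A))]
  [Z.Over (Spec (CommRingCat.of A))] (i : Z ⟶ X) [IsClosedImmersion i]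
  (hi : i ≫ (X ↘ Spec (CommRingCat.of A)) = (Z ↘ Spec (CommRingCat.of A)))
  (I : Ideal A) (n : ℕ)
  (hker : ∀ N : X.Modules, Formal.KilledBy (I ^ n) N → ClSub.KilledByIdeal i.ker N)
  (hZ : ∀ N' : Z.Modules, Formal.KilledBy (I ^ n) N')
  (M : X.Modules)

include hi hZ in
theorem isIso_pullback_modPowπ :
    IsIso ((Scheme.Modules.pullback i).map (Formal.modPowπ I n M)) := by
  have hc := CokernelCofork.mapIsColimit _ (cokernelIsCokernel (Formal.smulFamily (I ^ n) M))
    (Scheme.Modules.pullback i)
  have h0 : (Scheme.Modules.pullback i).map (Formal.smulFamily (I ^ n) M) = 0 := by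
    rw [← cancel_epi (sigmaComparison (Scheme.Modules.pullback i)
      (fun _ : (I ^ n : Ideal A) => M)), comp_zero]
    apply Sigma.hom_ext
    intro a
    rw [comp_zero, ← Category.assoc, ι_comp_sigmaComparison, ← Functor.map_comp, ι_smulFamily,
      pull_smulMod' i hi, hZ _ a a.2]
  exact CokernelCofork.IsColimit.isIso_π _ hc h0

include hi hZ hker in
/-- `M / I^n M ≅ i_* i^* M` when the ideal of `i` is generated by `I^n` -/
theorem exists_modPow_iso [M.IsQuasicoherent] :
    ∃ c : Formal.modPow I n M ≅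
        (Scheme.Modules.pushforward i).obj ((Scheme.Modules.pullback i).obj M),
      Formal.modPowπ I n M ≫ c.hom =
        (Scheme.Modules.pullbackPushforwardAdjunction i).unit.app M := by
  haveI := isIso_pullback_modPowπ i hi I n hZ M
  have hk : ClSub.KilledByIdeal i.ker (Formal.modPow I n M) :=
    hker _ (fun a ha => smulMod_modPow_eq_zero M I n ha)
  haveI := ClPushH8.isIso_unit i (Formal.modPow I n M) hk
  refine ⟨asIso ((Scheme.Modules.pullbackPushforwardAdjunction i).unit.app (Formal.modPow I n M)) ≪≫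
    (asIso ((Scheme.Modules.pushforward i).map
      ((Scheme.Modules.pullback i).map (Formal.modPowπ I n M)))).symm, ?_⟩
  rw [Iso.trans_hom, Iso.symm_hom, asIso_hom, asIso_inv, ← Category.assoc, IsIso.comp_inv_eq]
  exact ((Scheme.Modules.pullbackPushforwardAdjunction i).unit.naturality
    (Formal.modPowπ I n M))

end Unit

section Square

variable {A : Type u} [CommRing A]

theorem toGlobal_of_comp {B : Type u} [CommRing B] (φ : A →+* B) {Z : Scheme.{u}}
    (q : Z ⟶ Spec (CommRingCat.of B)) (a : A) :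
    Coh.toGlobal (q ≫ Spec.map (CommRingCat.ofHom φ)) a = Coh.toGlobal q (φ a) := by
  unfold Coh.toGlobal
  rw [Scheme.Hom.comp_appTop]
  have h := congrArg (fun ψ => ψ.hom a) (Scheme.ΓSpecIso_inv_naturality (CommRingCat.ofHom φ))
  show q.appTop.hom ((Spec.map (CommRingCat.ofHom φ)).appTop.hom
    ((Scheme.ΓSpecIso (CommRingCat.of A)).inv.hom a)) = _
  have h' : (Spec.map (CommRingCat.ofHom φ)).appTop.hom
      ((Scheme.ΓSpecIso (CommRingCat.of A)).inv.hom a) =
      (Scheme.ΓSpecIso (CommRingCat.of B)).inv.hom (φ a) := h.symm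
  rw [h']
  rfl

theorem smulMod_eq_zero_of_toGlobal {X : Scheme.{u}} [X.Over (Spec (CommRingCat.of A))]
    (N : X.Modules) (a : A)
    (h : Coh.toGlobal (X ↘ Spec (CommRingCat.of A)) a = 0) : Formal.smulMod A N a = 0 := by
  refine Scheme.Modules.hom_ext _ _ (fun U => ?_)
  ext x
  show (Formal.smulMod A N a).app U x = 0
  rw [smulMod_app]
  have h0 : rU (X := X) a U = 0 := by
    unfold rU
    rw [h, map_zero]
    rfl
  rw [h0]
  exact zero_smul _ x

variable {K K' : Ideal A} (hK : K ≤ K')
  {X Z : Scheme.{u}} [X.Over (Spec (CommRingCat.of A))] [Z.Over (Spec (CommRingCat.of A))]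
  (pX : X ⟶ Spec (CommRingCat.of (A ⧸ K))) (pZ : Z ⟶ Spec (CommRingCat.of (A ⧸ K')))
  (hX : (X ↘ Spec (CommRingCat.of A)) = pX ≫ Spec.map (CommRingCat.ofHom (Ideal.Quotient.mk K)))
  (hZ : (Z ↘ Spec (CommRingCat.of A)) = pZ ≫ Spec.map (CommRingCat.ofHom (Ideal.Quotient.mk K')))
  (i : Z ⟶ X)
  (hsq : IsPullback i pZ pX (Spec.map (CommRingCat.ofHom (Ideal.Quotient.factor hK))))

include hsq in
theorem isClosedImmersion_of_sq : IsClosedImmersion i := by
  haveI : IsClosedImmersion (Spec.map (CommRingCat.ofHom (Ideal.Quotient.factor hK))) :=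
    IsClosedImmersion.spec_of_surjective _ (Ideal.Quotient.factor_surjective hK)
  exact MorphismProperty.of_isPullback hsq.flip inferInstance

include hsq hX hZ in
theorem over_of_sq :
    i ≫ (X ↘ Spec (CommRingCat.of A)) = (Z ↘ Spec (CommRingCat.of A)) := by
  rw [hX, hZ, ← Category.assoc, hsq.w, Category.assoc, ← Spec.map_comp, ← CommRingCat.ofHom_comp,
    Ideal.Quotient.factor_comp_mk]

include hZ in
theorem killedBy_of_sq (N' : Z.Modules) : Formal.KilledBy K' N' := by
  intro a ha
  apply smulMod_eq_zero_of_toGlobal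
  rw [hZ, toGlobal_of_comp, Ideal.Quotient.eq_zero_iff_mem.mpr ha, map_zero]

include hsq hX in
theorem killedByIdeal_of_sq (N : X.Modules) (hN : Formal.KilledBy K' N) :
    ClSub.KilledByIdeal i.ker N := by
  haveI : IsClosedImmersion (Spec.map (CommRingCat.ofHom (Ideal.Quotient.factor hK))) :=
    IsClosedImmersion.spec_of_surjective _ (Ideal.Quotient.factor_surjective hK)
  have hker : i.ker = (Spec.map (CommRingCat.ofHom (Ideal.Quotient.factor hK))).ker.comap pX := by
    have e : i = hsq.isoPullback.hom ≫ pullback.fst pX _ := (hsq.isoPullback_hom_fst).symm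
    rw [e, Scheme.Hom.ker_comp_of_isIso]
    exact Scheme.IdealSheafData.ker_fst_of_isClosedImmersion _ pX
  intro U s hs m
  have hle : U.1 ≤ pX ⁻¹ᵁ (⊤ : (Spec (CommRingCat.of (A ⧸ K))).Opens) := fun _ _ => trivial
  rw [hker, ChevAH8.ideal_comap_eq_map_ideal pX _ ⟨⊤, isAffineOpen_top _⟩ U hle,
    Scheme.Hom.ker_apply] at hs
  have key : Ideal.map (pX.appLE ⊤ U.1 hle).hom
      (RingHom.ker ((Spec.map (CommRingCat.ofHom (Ideal.Quotient.factor hK))).app ⊤).hom) ≤
      Module.annihilator Γ(X, U.1) (N.val.obj (op U.1)) := by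
    rw [Ideal.map_le_iff_le_comap]
    intro t ht
    rw [Ideal.mem_comap, Module.mem_annihilator]
    intro m'
    obtain ⟨b, rfl⟩ : ∃ b : A ⧸ K, (Scheme.ΓSpecIso (CommRingCat.of (A ⧸ K))).inv.hom b = t :=
      ⟨(Scheme.ΓSpecIso (CommRingCat.of (A ⧸ K))).hom.hom t, by simp⟩
    obtain ⟨a, rfl⟩ := Ideal.Quotient.mk_surjective b
    have ha : a ∈ K' := by
      rw [RingHom.mem_ker] at ht
      have h2 := congrArg (fun ψ => ψ.hom (Ideal.Quotient.mk K a))
        (Scheme.ΓSpecIso_inv_naturality (CommRingCat.ofHom (Ideal.Quotient.factor hK)))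
      have h3 : (Scheme.ΓSpecIso (CommRingCat.of (A ⧸ K'))).inv.hom
          (Ideal.Quotient.factor hK (Ideal.Quotient.mk K a)) = 0 := h2.trans ht
      have h4 := congrArg (Scheme.ΓSpecIso (CommRingCat.of (A ⧸ K'))).hom.hom h3
      rw [Ideal.Quotient.factor_mk] at h4
      have h5 : Ideal.Quotient.mk K' a = 0 := by simpa using h4
      exact Ideal.Quotient.eq_zero_iff_mem.mp h5
    have hr : (pX.appLE ⊤ U.1 hle).hom
        ((Scheme.ΓSpecIso (CommRingCat.of (A ⧸ K))).inv.hom (Ideal.Quotient.mk K a)) =
        rU a U.1 := by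
      have h1 : Coh.toGlobal (X ↘ Spec (CommRingCat.of A)) a =
          Coh.toGlobal pX (Ideal.Quotient.mk K a) := by
        rw [hX, toGlobal_of_comp]
      unfold rU
      rw [h1]
      rfl
    rw [hr]
    have h5 := congrArg (fun θ => θ.app U.1 m') (hN a ha)
    exact h5
  exact Module.mem_annihilator.mp (key hs) m

end Square

end Groth.Agent.Lib.ThickH2
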