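import Mathlib
import Groth.Prelude
import Groth.Agent.Lib.FormalQuot1_helper2
import Groth.Agent.Lib.ThickSq1_helper2
import Groth.Agent.Lib.ConsMod1_helper2

/-!
# Pullback of coherent formal modules (helper2)

* `IsQuot.pullback`: `f^*` preserves quotients `M / J M` (for `f` a morphism over `Spec A`);
* `main0835`: the componentwise pullback of a coherent formal module is a coherent formal module.
APPEND-ONLY once landed.
-/

set_option autoImplicit false
universe u
open CategoryTheory CategoryTheory.Limits AlgebraicGeometry TopologicalSpace Opposite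

namespace Groth.Agent.Lib.FormalQuotH2

open Formal Groth.Agent.Lib.FormalModPowH4 Groth.Agent.Lib.FormalFnH2 Groth.Agent.Lib.FibAmpH2
  Groth.Agent.Lib.ThickH2

section Pull

variable {A : Type u} [CommRing A] {X Z : Scheme.{u}} [X.Over (Spec (CommRingCat.of A))]
  [Z.Over (Spec (CommRingCat.of A))] (f : Z ⟶ X)
  (hf : f ≫ (X ↘ Spec (CommRingCat.of A)) = (Z ↘ Spec (CommRingCat.of A)))

include hf in
theorem IsQuot.pullback {J : Ideal A} {M N : X.Modules} {t : M ⟶ N} (ht : IsQuot J t) :
    IsQuot J ((Scheme.Modules.pullback f).map t) := by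
  haveI := ht.2.1
  haveI : (Scheme.Modules.pullback f).PreservesEpimorphisms :=
    Functor.preservesEpimorphisms_of_adjunction (Scheme.Modules.pullbackPushforwardAdjunction f)
  refine ⟨fun a ha => ?_, inferInstance, fun Z' g hg => ?_⟩
  · rw [← pull_smulMod' f hf, ← Functor.map_comp, ht.1 a ha, Functor.map_zero]
  · have h1 : ∀ a ∈ J, Formal.smulMod A M a ≫
        (Scheme.Modules.pullbackPushforwardAdjunction f).homEquiv M Z' g = 0 := by
      intro a ha
      rw [← Adjunction.homEquiv_naturality_left, pull_smulMod' f hf, hg a ha]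
      rw [Adjunction.homEquiv_unit, Functor.map_zero, comp_zero]
    obtain ⟨g', hg'⟩ := ht.2.2 _ _ h1
    refine ⟨((Scheme.Modules.pullbackPushforwardAdjunction f).homEquiv N Z').symm g', ?_⟩
    rw [← Adjunction.homEquiv_naturality_left_symm, hg', Equiv.symm_apply_apply]

end Pull

section Main

/-- **S0835**. -/
theorem main0835 (A : Type u) [CommRing A] (I : Ideal A) (X Y : Scheme.{u})
    [X.Over (Spec (CommRingCat.of A))] [Y.Over (Spec (CommRingCat.of A))]
    (f : X ⟶ Y) (hf : f ≫ (Y ↘ Spec (CommRingCat.of A)) = X ↘ Spec (CommRingCat.of A))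
    (G : ℕᵒᵖ ⥤ Y.Modules) (hG : Formal.IsCohFormal I G) :
    Formal.IsCohFormal I (G ⋙ Scheme.Modules.pullback f) := by
  refine ⟨fun n => Groth.Agent.Lib.ConsModH2.isCoh_pullback f _ (hG.1 n),
    fun n => killedBy_pullback f hf _ _ (hG.2.1 n), fun n => ?_⟩
  exact ((isQuot_tG hG n).pullback f hf).cond

end Main

end Groth.Agent.Lib.FormalQuotH2
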