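import Mathlib

/-!
# Torsion elements and the adic filtration (helper2)

`B` Noetherian, `J` an ideal, `N` a finite `B`-module, `c : ℕ`.
* `exists_tors_inf_eq_bot`: a `J^c`-torsion element lying in `J^n N`, `n ≫ 0`, vanishes;
* `exists_colon_le`: `(J^(n+k) N : J^c) ⊆ N[J^c] + J^n N`;
* `existsUnique_tors_lim`: a `J`-adically compatible family of elements which are `J^c`-torsion
  modulo `J^(n+1) N` comes from a unique `J^c`-torsion element.
APPEND-ONLY once landed.
-/

set_option autoImplicit false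

namespace Groth.Agent.Lib.TorsLimH2

section

variable {B : Type*} [CommRing B] [IsNoetherianRing B] (J : Ideal B)
  {N : Type*} [AddCommGroup N] [Module B N] [Module.Finite B N] (c : ℕ)

theorem exists_tors_inf_eq_bot :
    ∃ n0 : ℕ, ∀ z : N, (∀ a ∈ J ^ c, a • z = 0) → z ∈ J ^ n0 • (⊤ : Submodule B N) → z = 0 := by
  set H : Submodule B N := Submodule.torsionBySet B N (↑(J ^ c) : Set B) with hH
  obtain ⟨k, hk⟩ := Ideal.exists_pow_inf_eq_pow_smul J H
  refine ⟨k + c, fun z hz hz' => ?_⟩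
  have hzH : z ∈ H := (Submodule.mem_torsionBySet_iff _ _).mpr (fun a => hz a.1 a.2)
  have h1 : z ∈ J ^ (k + c) • (⊤ : Submodule B N) ⊓ H := ⟨hz', hzH⟩
  rw [hk (k + c) (Nat.le_add_right k c), Nat.add_sub_cancel_left] at h1
  have h2 : J ^ c • (J ^ k • (⊤ : Submodule B N) ⊓ H) ≤ ⊥ := by
    rw [Submodule.smul_le]
    intro a ha y hy
    have := (Submodule.mem_torsionBySet_iff _ _).mp hy.2 ⟨a, ha⟩
    simpa using this
  exact (Submodule.mem_bot B).mp (h2 h1)

omit [IsNoetherianRing B] [Module.Finite B N] in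
theorem pi_mem_smul_top {ι : Type*} [Fintype ι] [DecidableEq ι] (K : Ideal B) (v : ι → N)
    (hv : ∀ i, v i ∈ K • (⊤ : Submodule B N)) : v ∈ K • (⊤ : Submodule B (ι → N)) := by
  have h0 : v = ∑ i, LinearMap.single B (fun _ => N) i (v i) := by
    simp only [LinearMap.coe_single]
    exact (Finset.univ_sum_single v).symm
  rw [h0]
  refine Submodule.sum_mem _ (fun i _ => ?_)
  have h1 : Submodule.map (LinearMap.single B (fun _ => N) i) (K • ⊤) ≤ K • ⊤ := by
    rw [Submodule.map_smul'']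
    exact Submodule.smul_mono le_rfl le_top
  exact h1 (Submodule.mem_map_of_mem (hv i))

theorem exists_colon_le :
    ∃ k : ℕ, ∀ (n : ℕ) (y : N), (∀ a ∈ J ^ c, a • y ∈ J ^ (n + k) • (⊤ : Submodule B N)) →
      ∃ h : N, (∀ a ∈ J ^ c, a • h = 0) ∧ y - h ∈ J ^ n • (⊤ : Submodule B N) := by
  classical
  obtain ⟨s, hs⟩ : (J ^ c).FG := IsNoetherian.noetherian (J ^ c)
  let α : N →ₗ[B] (s → N) := LinearMap.pi (fun a : s => (a : B) • LinearMap.id)
  have hα : ∀ (y : N) (a : s), α y a = (a : B) • y := fun y a => rfl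
  obtain ⟨k, hk⟩ := Ideal.exists_pow_inf_eq_pow_smul J (LinearMap.range α)
  refine ⟨k, fun n y hy => ?_⟩
  have hmem : ∀ a : s, (a : B) ∈ J ^ c := fun a => by
    rw [← hs]
    exact Ideal.subset_span a.2
  have h1 : α y ∈ J ^ (n + k) • (⊤ : Submodule B (s → N)) :=
    pi_mem_smul_top _ _ (fun a => hy a.1 (hmem a))
  have h2 : α y ∈ J ^ (n + k) • (⊤ : Submodule B (s → N)) ⊓ LinearMap.range α :=
    ⟨h1, LinearMap.mem_range_self α y⟩
  rw [hk (n + k) (Nat.le_add_left k n), Nat.add_sub_cancel] at h2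
  have h3 : J ^ n • (J ^ k • (⊤ : Submodule B (s → N)) ⊓ LinearMap.range α) ≤
      Submodule.map α (J ^ n • ⊤) := by
    rw [Submodule.map_smul'', Submodule.map_top]
    exact Submodule.smul_mono le_rfl inf_le_right
  obtain ⟨z, hz, hzy⟩ := h3 h2
  refine ⟨y - z, fun a ha => ?_, by simpa using hz⟩
  have h4 : ∀ a : s, (a : B) • (y - z) = 0 := fun a => by
    have h5 := congrFun hzy a
    rw [hα, hα] at h5
    rw [smul_sub, h5, sub_self]
  rw [← hs] at ha
  refine Submodule.span_induction (p := fun a _ => a • (y - z) = 0) ?_ ?_ ?_ ?_ ha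
  · intro a has
    exact h4 ⟨a, has⟩
  · exact zero_smul _ _
  · intro a b _ _ h5 h6
    rw [add_smul, h5, h6, add_zero]
  · intro r a _ h5
    rw [smul_eq_mul, mul_smul, h5, smul_zero]

theorem existsUnique_tors_lim (y : ℕ → N)
    (hy1 : ∀ n, y (n + 1) - y n ∈ J ^ (n + 1) • (⊤ : Submodule B N))
    (hy2 : ∀ n, ∀ a ∈ J ^ c, a • y n ∈ J ^ (n + 1) • (⊤ : Submodule B N)) :
    ∃! h : N, (∀ a ∈ J ^ c, a • h = 0) ∧ ∀ n, y n - h ∈ J ^ (n + 1) • (⊤ : Submodule B N) := by
  obtain ⟨n0, hn0⟩ := exists_tors_inf_eq_bot J (N := N) c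
  obtain ⟨k, hk⟩ := exists_colon_le J (N := N) c
  have hanti : ∀ {n m : ℕ}, n ≤ m → J ^ m • (⊤ : Submodule B N) ≤ J ^ n • ⊤ := fun h =>
    Submodule.smul_mono_left (Ideal.pow_le_pow_right h)
  have htel : ∀ n m, y (n + m) - y n ∈ J ^ (n + 1) • (⊤ : Submodule B N) := by
    intro n m
    induction m with
    | zero => simp
    | succ m ih =>
      have h1 : y (n + (m + 1)) - y n = (y (n + m + 1) - y (n + m)) + (y (n + m) - y n) := by
        rw [show n + (m + 1) = n + m + 1 from rfl]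
        abel
      rw [h1]
      exact Submodule.add_mem _ (hanti (by omega) (hy1 (n + m))) ih
  have hex : ∀ n, ∃ h : N, (∀ a ∈ J ^ c, a • h = 0) ∧
      y n - h ∈ J ^ (n + 1) • (⊤ : Submodule B N) := by
    intro n
    obtain ⟨h, hh1, hh2⟩ := hk (n + 1) (y (n + k)) (fun a ha => by
      have h1 := hy2 (n + k) a ha
      rwa [show n + k + 1 = n + 1 + k by omega] at h1)
    refine ⟨h, hh1, ?_⟩
    have h1 : y n - h = (y (n + k) - h) - (y (n + k) - y n) := by abel
    rw [h1]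
    exact Submodule.sub_mem _ hh2 (htel n k)
  choose hh hh1 hh2 using hex
  have huniq : ∀ h h' : N, (∀ a ∈ J ^ c, a • h = 0) → (∀ a ∈ J ^ c, a • h' = 0) → ∀ n,
      n0 ≤ n → h - h' ∈ J ^ n • (⊤ : Submodule B N) → h = h' := by
    intro h h' h1 h1' n hn h2
    rw [← sub_eq_zero]
    exact hn0 _ (fun a ha => by rw [smul_sub, h1 a ha, h1' a ha, sub_self]) (hanti hn h2)
  refine ⟨hh n0, ⟨hh1 n0, fun n => ?_⟩, ?_⟩
  · by_cases hn : n0 ≤ n
    · have e : hh n0 = hh n := by
        refine huniq _ _ (hh1 n0) (hh1 n) (n0 + 1) (Nat.le_succ n0) ?_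
        obtain ⟨m, rfl⟩ := Nat.exists_eq_add_of_le hn
        have h1 : hh n0 - hh (n0 + m) =
            (y (n0 + m) - hh (n0 + m)) - (y n0 - hh n0) - (y (n0 + m) - y n0) := by abel
        rw [h1]
        exact Submodule.sub_mem _ (Submodule.sub_mem _ (hanti (by omega) (hh2 (n0 + m)))
          (hh2 n0)) (htel n0 m)
      rw [e]
      exact hh2 n
    · obtain ⟨m, hm⟩ := Nat.exists_eq_add_of_le (Nat.le_of_not_le hn)
      have h1 : y n - hh n0 = (y n0 - hh n0) - (y n0 - y n) := by abel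
      rw [h1]
      refine Submodule.sub_mem _ (hanti (by omega) (hh2 n0)) ?_
      rw [hm]
      exact htel n m
  · rintro h' ⟨h'1, h'2⟩
    refine huniq _ _ h'1 (hh1 n0) (n0 + 1) (Nat.le_succ n0) ?_
    have h1 : h' - hh n0 = (y n0 - hh n0) - (y n0 - h') := by abel
    rw [h1]
    exact Submodule.sub_mem _ (hh2 n0) (h'2 n0)

end

end Groth.Agent.Lib.TorsLimH2
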