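import Mathlib
import Groth.Prelude
import Groth.Agent.Lib.FormalQuot2_helper2
import Groth.Agent.Lib.FibVan2_helper2
import Groth.Agent.Lib.ModHomBasis_helper5
import Groth.Agent.Lib.QCohFT_helper9
import Groth.Agent.Lib.TorsLim_helper2

/-!
# Sections of `F / I^n F` over affine opens, arbitrary base ring, Noetherian scheme (helper2)

`X` a Noetherian scheme over `Spec A` (`A` arbitrary), `I` an ideal of `A`:
* `exists_fg_le`: there is a finitely generated `I₀ ≤ I` such that a morphism killing `I₀^n` kills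
  `I^n`;
* `modPowπ_app_eq_zero_iff`: for quasi-coherent `F` and affine `U`, the kernel of
  `Γ(U, F) → Γ(U, F/I^nF)` is `(I Γ(U, O_X))^n Γ(U, F)`.
APPEND-ONLY once landed.
-/

set_option autoImplicit false
universe u
open CategoryTheory CategoryTheory.Limits AlgebraicGeometry TopologicalSpace Opposite

namespace Groth.Agent.Lib.FormalQuotH2

open Formal Groth.Agent.Lib.FormalModPowH4 Groth.Agent.Lib.FormalFnH2 Groth.Agent.Lib.FibAmpH2
  Groth.Agent.Lib.FlatBCH2 Groth.Agent.Lib.FibVanH2 QcqsLoc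

section Nat

variable {X : Scheme.{u}}

theorem app_rF {M N : X.Modules} (φ : M ⟶ N) {V W : X.Opens} (h : V ≤ W) (x : Γ(M, W)) :
    φ.app V (rF M h x) = rF N h (φ.app W x) :=
  ConcreteCategory.congr_hom (φ.mapPresheaf.naturality (homOfLE h).op) x

theorem isBasis_affine : Opens.IsBasis (Set.range (fun V : X.affineOpens => V.1)) := by
  rw [Subtype.range_coe_subtype]
  exact X.isBasis_affineOpens

/-- morphisms of modules agreeing on sections over affine opens are equal -/
theorem hom_ext_affine {M N : X.Modules} (φ ψ : M ⟶ N)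
    (h : ∀ (U : X.Opens), IsAffineOpen U → ∀ x : Γ(M, U), φ.app U x = ψ.app U x) : φ = ψ := by
  refine Scheme.Modules.hom_ext _ _ (fun U => ?_)
  ext x
  refine Groth.Agent.ModHomBasis.eq_of_forall_basis N (fun V : X.affineOpens => V.1)
    isBasis_affine _ _ (fun V hV => ?_)
  show rF N hV (φ.app U x) = rF N hV (ψ.app U x)
  rw [← app_rF, ← app_rF]
  exact h V.1 V.2 _

end Nat

section FG

variable (A : Type u) [CommRing A] (I : Ideal A)

theorem exists_finset_map_eq {B : Type*} [CommRing B] [IsNoetherianRing B] (ρ : A →+* B) :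
    ∃ T : Finset A, (↑T : Set A) ⊆ I ∧ Ideal.map ρ I = Ideal.span (ρ '' ↑T) := by
  classical
  have hfg : (Submodule.span B (ρ '' (I : Set A))).FG :=
    (IsNoetherian.noetherian (Ideal.map ρ I) : (Ideal.map ρ I).FG)
  obtain ⟨s', hs', hspan⟩ :=
    (Submodule.fg_span_iff_fg_span_finset_subset (R := B) (ρ '' (I : Set A))).mp hfg
  obtain ⟨T, hT, rfl⟩ := Finset.subset_set_image_iff.mp hs'
  refine ⟨T, hT, ?_⟩
  rw [Finset.coe_image] at hspan
  exact hspan

theorem exists_generators_of_fg {J : Ideal A} (hJ : J.FG) :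
    ∃ (σ : Type u) (_ : Fintype σ) (a : σ → A), (∀ i, a i ∈ J) ∧ Ideal.span (Set.range a) = J := by
  obtain ⟨s, hs⟩ := hJ
  refine ⟨{x // x ∈ s}, inferInstance, Subtype.val, fun i => ?_, ?_⟩
  · rw [← hs]
    exact Ideal.subset_span i.2
  · rw [Subtype.range_coe_subtype]
    exact hs

variable (X : Scheme.{u}) [X.Over (Spec (CommRingCat.of A))]

/-- on a Noetherian scheme, `I O_X` is generated by a finitely generated subideal of `I` -/
theorem exists_fg_le [IsNoetherian X] :
    ∃ I₀ : Ideal A, I₀ ≤ I ∧ I₀.FG ∧ ∀ (n : ℕ) {M Z : X.Modules} (g : M ⟶ Z),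
      (∀ a ∈ I₀ ^ n, Formal.smulMod A M a ≫ g = 0) →
        ∀ a ∈ I ^ n, Formal.smulMod A M a ≫ g = 0 := by
  classical
  obtain ⟨s, hsfin, hs⟩ := (isCompact_iff_finite_and_eq_biUnion_affineOpens
    (X := X) (U := ⊤)).mp (by simpa using isCompact_univ)
  have hT : ∀ U : X.affineOpens, ∃ T : Finset A, (↑T : Set A) ⊆ I ∧
      Ideal.map (rUHom (A := A) U.1) I = Ideal.span (rUHom (A := A) U.1 '' ↑T) := fun U => by
    haveI : IsNoetherianRing Γ(X, U.1) := IsLocallyNoetherian.component_noetherian U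
    exact exists_finset_map_eq A I _
  choose T hTI hTspan using hT
  let S : Set A := ⋃ U ∈ s, (↑(T U) : Set A)
  have hSfin : S.Finite := hsfin.biUnion (fun U _ => (T U).finite_toSet)
  have hSI : S ⊆ I := Set.iUnion₂_subset fun U _ => hTI U
  refine ⟨Ideal.span S, Ideal.span_le.mpr hSI, ⟨hSfin.toFinset, by simp⟩, ?_⟩
  intro n M Z g hg a ha
  have hkey : ∀ U ∈ s, rUHom (A := A) U.1 a ∈
      Ideal.map (rUHom (A := A) U.1) (Ideal.span S ^ n) := by
    intro U hU
    have h1 : Ideal.map (rUHom (A := A) U.1) I ≤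
        Ideal.map (rUHom (A := A) U.1) (Ideal.span S) := by
      rw [hTspan U, Ideal.span_le]
      rintro _ ⟨t, ht, rfl⟩
      exact Ideal.mem_map_of_mem _ (Ideal.subset_span (Set.mem_biUnion hU ht))
    have h2 : rUHom (A := A) U.1 a ∈ Ideal.map (rUHom (A := A) U.1) (I ^ n) :=
      Ideal.mem_map_of_mem _ ha
    rw [Ideal.map_pow] at h2 ⊢
    exact Ideal.pow_right_mono h1 n h2
  refine Scheme.Modules.hom_ext _ _ (fun V => ?_)
  ext x
  show g.app V ((Formal.smulMod A M a).app V x) = (0 : M ⟶ Z).app V x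
  rw [smulMod_app, zero_app']
  refine eq_zero_of_cover Z _ (fun p hp => ?_)
  obtain ⟨U, hUs, hpU⟩ : ∃ U ∈ s, p ∈ U.1 := by
    have h1 : p ∈ (⊤ : X.Opens) := trivial
    rw [hs] at h1
    simpa using h1
  refine ⟨V ⊓ U.1, inf_le_left, ⟨hp, hpU⟩, ?_⟩
  rw [← app_rF, rF_smul]
  have h3 : rX (inf_le_left : V ⊓ U.1 ≤ V) (rU a V) =
      rX (inf_le_right : V ⊓ U.1 ≤ U.1) (rUHom (A := A) U.1 a) := by
    rw [← rUHom_apply, rX_rUHom, rX_rUHom]
  rw [h3]
  let K : Ideal Γ(X, U.1) :=
    { carrier := {b | ∀ y : Γ(M, V ⊓ U.1),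
        g.app (V ⊓ U.1) (rX (inf_le_right : V ⊓ U.1 ≤ U.1) b • y) = 0}
      add_mem' := fun {b b'} hb hb' y => by
        rw [map_add, add_smul, app_add', hb y, hb' y, add_zero]
      zero_mem' := fun y => by rw [map_zero, zero_smul, app_zero']
      smul_mem' := fun r b hb y => by
        rw [smul_eq_mul, map_mul, mul_comm, mul_smul]
        exact hb _ }
  have hK : Ideal.map (rUHom (A := A) U.1) (Ideal.span S ^ n) ≤ K := by
    rw [Ideal.map_le_iff_le_comap]
    intro a' ha' y
    show g.app (V ⊓ U.1) (rX (inf_le_right : V ⊓ U.1 ≤ U.1) (rUHom (A := A) U.1 a') • y) = 0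
    rw [rX_rUHom, rUHom_apply, ← smulMod_app, ← comp_app', hg a' ha', zero_app']
  exact hK (hkey U hUs) _

end FG

section Sections

variable (A : Type u) [CommRing A] (I : Ideal A) {X : Scheme.{u}}
  [X.Over (Spec (CommRingCat.of A))] (F : X.Modules) [F.IsQuasicoherent] (n : ℕ)

/-- the kernel of `Γ(U, F) → Γ(U, F/I^nF)` is `I^n Γ(U, F)`, `U` affine, `I^n` finitely
generated -/
theorem mem_smul_top_of_modPowπ_app_eq_zero_of_fg (hfg : (I ^ n).FG) {U : X.Opens}
    (hU : IsAffineOpen U) (x : Γ(F, U)) (hx : (Formal.modPowπ I n F).app U x = 0) :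
    letI := secMod A F U
    x ∈ (I ^ n) • (⊤ : Submodule A Γ(F, U)) := by
  classical
  letI := secMod A F U
  obtain ⟨σ, _, b, hb, hspan⟩ := exists_generators_of_fg A hfg
  haveI : Mono (pwSC I F n).f := (pwSC_shortExact I F n).mono_f
  obtain ⟨y, hy⟩ := QCohExact.app_exact (pwSC I F n) (pwSC_shortExact I F n).exact U x hx
  haveI : (∐ fun _ : σ => F).IsQuasicoherent :=
    Groth.Agent.Lib.BModH6.isQuasicoherent_sigma _
  haveI := epi_sumIn A I F n b hb hspan
  obtain ⟨z, hz⟩ := QCohExact.app_surjective_of_epi (sumIn A I F n b hb) hU y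
  have h6 : x = ∑ j, rU (b j) U • (Sigma.π (fun _ : σ => F) j).app U z := by
    have hy' : (pwι I F n).app U y = x := hy
    rw [← hy', ← hz]
    conv_lhs => rw [sigma_decomp (fun _ : σ => F) U z]
    rw [app_sum', app_sum']
    refine Finset.sum_congr rfl (fun j _ => ?_)
    have h8 : (Sigma.ι (fun _ : σ => F) j ≫ sumIn A I F n b hb ≫ pwι I F n).app U
        ((Sigma.π (fun _ : σ => F) j).app U z) =
        (Formal.smulMod A F (b j)).app U ((Sigma.π (fun _ : σ => F) j).app U z) := by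
      rw [← Category.assoc, ι_sumIn, pwIn_ι]
    exact h8
  rw [h6]
  refine Submodule.sum_mem _ (fun j _ => ?_)
  have h7 : rU (b j) U • (Sigma.π (fun _ : σ => F) j).app U z =
      (b j) • ((Sigma.π (fun _ : σ => F) j).app U z : Γ(F, U)) := rfl
  rw [h7]
  exact Submodule.smul_mem_smul (hb j) Submodule.mem_top

/-- the ideal of `Γ(X, U)` generated by `I` -/
noncomputable abbrev JU (U : X.Opens) : Ideal Γ(X, U) := Ideal.map (rUHom (A := A) U) I

omit [F.IsQuasicoherent] in
theorem mem_JU_smul_top (U : X.Opens) (x : Γ(F, U))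
    (hx : letI := secMod A F U; x ∈ (I ^ n) • (⊤ : Submodule A Γ(F, U))) :
    x ∈ (JU A I U) ^ n • (⊤ : Submodule Γ(X, U) Γ(F, U)) := by
  letI := secMod A F U
  refine Submodule.smul_induction_on hx (fun r hr y _ => ?_) (fun y z hy hz => ?_)
  · have h1 : r • y = rUHom (A := A) U r • y := rfl
    rw [h1]
    refine Submodule.smul_mem_smul ?_ Submodule.mem_top
    show rUHom (A := A) U r ∈ (Ideal.map (rUHom (A := A) U) I) ^ n
    rw [← Ideal.map_pow]
    exact Ideal.mem_map_of_mem _ hr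
  · exact Submodule.add_mem _ hy hz

omit [F.IsQuasicoherent] in
/-- an element of `Γ(X, U)` in the ideal generated by `J` kills every section killed by `J` -/
theorem smul_eq_zero_of_mem_JU (J : Ideal A) (U : X.Opens) (h : Γ(F, U))
    (hh : ∀ a ∈ J, rU a U • h = 0) (b : Γ(X, U)) (hb : b ∈ Ideal.map (rUHom (A := A) U) J) :
    b • h = 0 := by
  have h1 : Ideal.map (rUHom (A := A) U) J ≤ (Submodule.span Γ(X, U) {h}).annihilator := by
    rw [Ideal.map_le_iff_le_comap]
    intro a ha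
    show rUHom (A := A) U a ∈ (Submodule.span Γ(X, U) {h}).annihilator
    rw [Submodule.mem_annihilator_span_singleton]
    exact hh a ha
  exact (Submodule.mem_annihilator_span_singleton _ _).mp (h1 hb)

omit [F.IsQuasicoherent] in
theorem modPowπ_app_eq_zero_of_mem_JU (U : X.Opens) (x : Γ(F, U))
    (hx : x ∈ (JU A I U) ^ n • (⊤ : Submodule Γ(X, U) Γ(F, U))) :
    (Formal.modPowπ I n F).app U x = 0 := by
  refine Submodule.smul_induction_on hx (fun b hb y _ => ?_) (fun y z hy hz => ?_)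
  · rw [Scheme.Modules.Hom.app_smul]
    refine smul_eq_zero_of_mem_JU A (Formal.modPow I n F) (I ^ n) U _ (fun a ha => ?_) b ?_
    · rw [← smulMod_app, smulMod_modPow_eq_zero F I n ha, zero_app']
    · have hb' : b ∈ (Ideal.map (rUHom (A := A) U) I) ^ n := hb
      rwa [← Ideal.map_pow] at hb'
  · rw [app_add', hy, hz, add_zero]

theorem modPowπ_app_eq_zero_iff [IsNoetherian X] {U : X.Opens} (hU : IsAffineOpen U)
    (x : Γ(F, U)) :
    (Formal.modPowπ I n F).app U x = 0 ↔
      x ∈ (JU A I U) ^ n • (⊤ : Submodule Γ(X, U) Γ(F, U)) := by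
  refine ⟨fun hx => ?_, modPowπ_app_eq_zero_of_mem_JU A I F n U x⟩
  obtain ⟨I₀, hle, hfg, hT⟩ := exists_fg_le A I X
  have h1 : ∀ a ∈ I ^ n, Formal.smulMod A F a ≫ Formal.modPowπ I₀ n F = 0 :=
    hT n _ (fun a ha => smulMod_modPowπ F I₀ n ha)
  let d : Formal.modPow I n F ⟶ Formal.modPow I₀ n F :=
    cokernel.desc (Formal.smulFamily (I ^ n) F) (Formal.modPowπ I₀ n F)
      (smulFamily_comp_eq_zero _ _ h1)
  have hd : Formal.modPowπ I n F ≫ d = Formal.modPowπ I₀ n F := cokernel.π_desc _ _ _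
  have h2 : (Formal.modPowπ I₀ n F).app U x = 0 := by
    rw [← hd, comp_app', hx, app_zero']
  have h3 := mem_smul_top_of_modPowπ_app_eq_zero_of_fg A I₀ F n (Ideal.FG.pow hfg) hU x h2
  have h4 := mem_JU_smul_top A I₀ F n U x h3
  exact Submodule.smul_mono_left (Ideal.pow_right_mono (Ideal.map_mono hle) n) h4

end Sections

end Groth.Agent.Lib.FormalQuotH2
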