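import Mathlib
import Groth.Prelude
import Groth.Agent.Lib.FormalQuot3_helper2

/-!
# Lifting compatible families `F ⟶ G / I^(n+1) G` when `F` or `G` is `I`-power torsion (helper2)

* `existsUnique_lift_of_killed_left`: `X` Noetherian, `G` coherent, `I^c F = 0`;
* `existsUnique_lift_of_killed_right`: `I^c G = 0`;
* `main0833`.
APPEND-ONLY once landed.
-/

set_option autoImplicit false
universe u
open CategoryTheory CategoryTheory.Limits AlgebraicGeometry TopologicalSpace Opposite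

namespace Groth.Agent.Lib.FormalQuotH2

open Formal Groth.Agent.Lib.FormalModPowH4 Groth.Agent.Lib.FormalFnH2 Groth.Agent.Lib.FibAmpH2
  Groth.Agent.Lib.FlatBCH2 Groth.Agent.Lib.FibVanH2 QcqsLoc

section Lift

variable {A : Type u} [CommRing A] (I : Ideal A) {X : Scheme.{u}}
  [X.Over (Spec (CommRingCat.of A))] (F G : X.Modules) (c : ℕ)
  (φ : ∀ n, F ⟶ Formal.modPow I (n + 1) G)

/-- the local characterisation of the lift -/
def LocP (U : X.Opens) (m : Γ(F, U)) (h : Γ(G, U)) : Prop :=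
  (∀ a ∈ I ^ c, rU a U • h = 0) ∧
    ∀ n, (Formal.modPowπ I (n + 1) G).app U h = (φ n).app U m

variable {I F G c φ}

theorem LocP.res {U V : X.Opens} {m : Γ(F, U)} {h : Γ(G, U)} (hP : LocP I F G c φ U m h)
    (e : V ≤ U) : LocP I F G c φ V (rF F e m) (rF G e h) := by
  refine ⟨fun a ha => ?_, fun n => ?_⟩
  · have h1 : rU a V = rX e (rU a U) := by
      rw [← rUHom_apply, ← rUHom_apply, rX_rUHom]
    rw [h1, ← rF_smul, hP.1 a ha, map_zero]
  · rw [app_rF, app_rF, hP.2 n]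

theorem LocP.add {U : X.Opens} {m m' : Γ(F, U)} {h h' : Γ(G, U)} (hP : LocP I F G c φ U m h)
    (hP' : LocP I F G c φ U m' h') : LocP I F G c φ U (m + m') (h + h') := by
  refine ⟨fun a ha => ?_, fun n => ?_⟩
  · rw [smul_add, hP.1 a ha, hP'.1 a ha, add_zero]
  · rw [app_add', app_add', hP.2 n, hP'.2 n]

theorem LocP.smul {U : X.Opens} {m : Γ(F, U)} {h : Γ(G, U)} (hP : LocP I F G c φ U m h)
    (r : Γ(X, U)) : LocP I F G c φ U (r • m) (r • h) := by
  refine ⟨fun a ha => ?_, fun n => ?_⟩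
  · rw [smul_comm, hP.1 a ha, smul_zero]
  · rw [Scheme.Modules.Hom.app_smul, Scheme.Modules.Hom.app_smul, hP.2 n]

variable (I F G c φ)

theorem locP_existsUnique [IsNoetherian X] (hG : Coh.IsCoh G)
    (hc : Formal.KilledBy (I ^ c) F)
    (hφ : ∀ n, φ (n + 1) ≫ Formal.modPowTrans I (n + 1) G = φ n) {U : X.Opens}
    (hU : IsAffineOpen U) (m : Γ(F, U)) :
    ∃ h : Γ(G, U), LocP I F G c φ U m h ∧ ∀ h', LocP I F G c φ U m h' → h' = h := by
  haveI : G.IsQuasicoherent := hG.1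
  haveI : SheafOfModules.IsFiniteType (R := X.ringCatSheaf) G := hG.2
  haveI : IsNoetherianRing Γ(X, U) := IsLocallyNoetherian.component_noetherian ⟨U, hU⟩
  haveI : Module.Finite Γ(X, U) Γ(G, U) := QCohFT.finite_of_isFiniteType G hU
  have hsurj : ∀ n, ∃ y, (Formal.modPowπ I (n + 1) G).app U y = (φ n).app U m := fun n =>
    QCohExact.app_surjective_of_epi (Formal.modPowπ I (n + 1) G) hU _
  choose y hy using hsurj
  have hmemJ : ∀ a ∈ I ^ c, rU a U ∈ (JU A I U) ^ c := fun a ha => by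
    show rUHom (A := A) U a ∈ (Ideal.map (rUHom (A := A) U) I) ^ c
    rw [← Ideal.map_pow]
    exact Ideal.mem_map_of_mem _ ha
  have hJmem : ∀ b ∈ (JU A I U) ^ c, b ∈ Ideal.map (rUHom (A := A) U) (I ^ c) := fun b hb => by
    have hb' : b ∈ (Ideal.map (rUHom (A := A) U) I) ^ c := hb
    rwa [← Ideal.map_pow] at hb'
  have hy1 : ∀ n, y (n + 1) - y n ∈
      (JU A I U) ^ (n + 1) • (⊤ : Submodule Γ(X, U) Γ(G, U)) := fun n => by
    rw [← modPowπ_app_eq_zero_iff A I G (n + 1) hU, app_sub', hy n]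
    have h1 : (Formal.modPowπ I (n + 1) G).app U (y (n + 1)) = (φ n).app U m := by
      rw [← Formal.modPowπ_trans I (n + 1) G, comp_app', hy (n + 1), ← comp_app', hφ n]
    rw [h1, sub_self]
  have hy2 : ∀ n, ∀ b ∈ (JU A I U) ^ c, b • y n ∈
      (JU A I U) ^ (n + 1) • (⊤ : Submodule Γ(X, U) Γ(G, U)) := fun n b hb => by
    rw [← modPowπ_app_eq_zero_iff A I G (n + 1) hU, Scheme.Modules.Hom.app_smul, hy n,
      ← Scheme.Modules.Hom.app_smul]
    have h1 : b • m = 0 := smul_eq_zero_of_mem_JU A F (I ^ c) U m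
      (fun a ha => by rw [← smulMod_app, hc a ha, zero_app']) b (hJmem b hb)
    rw [h1, app_zero']
  obtain ⟨h, ⟨hh1, hh2⟩, huniq⟩ :=
    Groth.Agent.Lib.TorsLimH2.existsUnique_tors_lim (JU A I U) c y hy1 hy2
  refine ⟨h, ⟨fun a ha => hh1 _ (hmemJ a ha), fun n => ?_⟩, ?_⟩
  · have h1 := (modPowπ_app_eq_zero_iff A I G (n + 1) hU _).mpr (hh2 n)
    rw [app_sub', sub_eq_zero] at h1
    rw [← h1, hy n]
  · rintro h' ⟨h'1, h'2⟩
    apply huniq
    refine ⟨fun b hb => smul_eq_zero_of_mem_JU A G (I ^ c) U h' h'1 b (hJmem b hb), fun n => ?_⟩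
    rw [← modPowπ_app_eq_zero_iff A I G (n + 1) hU, app_sub', hy n, h'2 n, sub_self]

theorem existsUnique_lift_of_killed_left [IsNoetherian X] (hG : Coh.IsCoh G)
    (hc : Formal.KilledBy (I ^ c) F)
    (hφ : ∀ n, φ (n + 1) ≫ Formal.modPowTrans I (n + 1) G = φ n) :
    ∃! ψ : F ⟶ G, ∀ n, ψ ≫ Formal.modPowπ I (n + 1) G = φ n := by
  have hex : ∀ (V : X.affineOpens) (m : Γ(F, V.1)), ∃ h : Γ(G, V.1),
      LocP I F G c φ V.1 m h ∧ ∀ h', LocP I F G c φ V.1 m h' → h' = h := fun V m =>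
    locP_existsUnique I F G c φ hG hc hφ V.2 m
  choose α hα huniqα using hex
  obtain ⟨ψ, hψ⟩ := Groth.Agent.ModHomBasis.exists_hom_of_basis F G
    (fun V : X.affineOpens => V.1) isBasis_affine α
    (fun V x y => (huniqα V (x + y) _ ((hα V x).add (hα V y))).symm)
    (fun V r x => (huniqα V (r • x) _ ((hα V x).smul r)).symm)
    (fun V W e x => (huniqα W _ _ ((hα V x).res e)).symm)
  refine ⟨ψ, fun n => ?_, fun ψ' hψ' => ?_⟩
  · apply hom_ext_affine
    intro U hU x
    rw [comp_app', hψ ⟨U, hU⟩ x]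
    exact (hα ⟨U, hU⟩ x).2 n
  · apply hom_ext_affine
    intro U hU x
    rw [hψ ⟨U, hU⟩ x]
    apply huniqα ⟨U, hU⟩ x
    refine ⟨fun a ha => ?_, fun n => ?_⟩
    · rw [← Scheme.Modules.Hom.app_smul, ← smulMod_app, hc a ha, zero_app', app_zero']
    · rw [← comp_app', hψ' n]

theorem existsUnique_lift_of_killed_right (hc : Formal.KilledBy (I ^ c) G)
    (hφ : ∀ n, φ (n + 1) ≫ Formal.modPowTrans I (n + 1) G = φ n) :
    ∃! ψ : F ⟶ G, ∀ n, ψ ≫ Formal.modPowπ I (n + 1) G = φ n := by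
  have hiso : ∀ n, c ≤ n + 1 → IsIso (Formal.modPowπ I (n + 1) G) := fun n hn =>
    (isQuot_modPowπ I (n + 1) G).isIso_of_killed (killedBy_mono (Ideal.pow_le_pow_right hn) hc)
  haveI := hiso c (Nat.le_succ c)
  have hQc : (φ c ≫ inv (Formal.modPowπ I (c + 1) G)) ≫ Formal.modPowπ I (c + 1) G = φ c := by
    rw [Category.assoc, IsIso.inv_hom_id, Category.comp_id]
  generalize φ c ≫ inv (Formal.modPowπ I (c + 1) G) = ψ at hQc
  have hdown : ∀ n, ψ ≫ Formal.modPowπ I (n + 1 + 1) G = φ (n + 1) →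
      ψ ≫ Formal.modPowπ I (n + 1) G = φ n := fun n h => by
    rw [← Formal.modPowπ_trans I (n + 1) G, ← Category.assoc, h, hφ n]
  have hup : ∀ n, c ≤ n → ψ ≫ Formal.modPowπ I (n + 1) G = φ n →
      ψ ≫ Formal.modPowπ I (n + 1 + 1) G = φ (n + 1) := fun n hn h => by
    haveI := hiso n (hn.trans (Nat.le_succ n))
    haveI := hiso (n + 1) (by omega)
    haveI : IsIso (Formal.modPowTrans I (n + 1) G) := by
      have e : Formal.modPowTrans I (n + 1) G =
          inv (Formal.modPowπ I (n + 1 + 1) G) ≫ Formal.modPowπ I (n + 1) G := by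
        rw [IsIso.eq_inv_comp, Formal.modPowπ_trans]
      rw [e]
      infer_instance
    rw [← cancel_mono (Formal.modPowTrans I (n + 1) G), Category.assoc, Formal.modPowπ_trans, h,
      hφ n]
  have hdn : ∀ d n, n + d = c → ψ ≫ Formal.modPowπ I (n + 1) G = φ n := by
    intro d
    induction d with
    | zero =>
      intro n hn
      obtain rfl : n = c := by omega
      exact hQc
    | succ d ih =>
      intro n hn
      exact hdown n (ih (n + 1) (by omega))
  have hall : ∀ n, ψ ≫ Formal.modPowπ I (n + 1) G = φ n := by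
    intro n
    by_cases hn : c ≤ n
    · induction n, hn using Nat.le_induction with
      | base => exact hQc
      | succ n hn ih => exact hup n hn ih
    · exact hdn (c - n) n (by omega)
  refine ⟨ψ, hall, fun ψ' h' => ?_⟩
  rw [← cancel_mono (Formal.modPowπ I (c + 1) G), h' c, hQc]

end Lift

section Main

theorem completion_map_succ {A : Type u} [CommRing A] (I : Ideal A) {X : Scheme.{u}}
    [X.Over (Spec (CommRingCat.of A))] (M : X.Modules) (n : ℕ) :
    (Formal.completion I M).map (homOfLE (Nat.le_add_right n 1)).op =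
      Formal.modPowTrans I (n + 1) M := by
  unfold Formal.completion
  exact Functor.ofOpSequence_map_homOfLE_succ _ n

/-- **S0833**. -/
theorem main0833 (A : Type u) [CommRing A] (I : Ideal A) (X : Scheme.{u})
    [X.Over (Spec (CommRingCat.of A))] [IsNoetherian X] (F G : X.Modules)
    (hG : Coh.IsCoh G)
    (hc : ∃ c : ℕ, Formal.KilledBy (I ^ c) F ∨ Formal.KilledBy (I ^ c) G)
    (ψ : Formal.completion I F ⟶ Formal.completion I G) :
    ∃! φ : F ⟶ G, ∀ n : ℕ,
      Formal.modPowπ I (n + 1) F ≫ ψ.app (op n) = φ ≫ Formal.modPowπ I (n + 1) G := by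
  obtain ⟨c, hc⟩ := hc
  let ψn : ∀ n, Formal.modPow I (n + 1) F ⟶ Formal.modPow I (n + 1) G := fun n => ψ.app (op n)
  have hnat : ∀ n, Formal.modPowTrans I (n + 1) F ≫ ψn n =
      ψn (n + 1) ≫ Formal.modPowTrans I (n + 1) G := by
    intro n
    have h1 := ψ.naturality (homOfLE (Nat.le_add_right n 1)).op
    rw [completion_map_succ, completion_map_succ] at h1
    exact h1
  let φn : ∀ n, F ⟶ Formal.modPow I (n + 1) G := fun n => Formal.modPowπ I (n + 1) F ≫ ψn n
  have hφn : ∀ n, φn (n + 1) ≫ Formal.modPowTrans I (n + 1) G = φn n := by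
    intro n
    show (Formal.modPowπ I (n + 1 + 1) F ≫ ψn (n + 1)) ≫ Formal.modPowTrans I (n + 1) G =
      Formal.modPowπ I (n + 1) F ≫ ψn n
    rw [Category.assoc, ← hnat n, ← Category.assoc, Formal.modPowπ_trans]
  have key : ∃! φ : F ⟶ G, ∀ n, φ ≫ Formal.modPowπ I (n + 1) G = φn n := by
    rcases hc with hc | hc
    · exact existsUnique_lift_of_killed_left I F G c φn hG hc hφn
    · exact existsUnique_lift_of_killed_right I F G c φn hc hφn
  obtain ⟨φ, h1, h2⟩ := key
  exact ⟨φ, fun n => (h1 n).symm, fun φ' h' => h2 φ' (fun n => (h' n).symm)⟩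

end Main

end Groth.Agent.Lib.FormalQuotH2
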