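import Mathlib
import Groth.Prelude
import Groth.Agent.Lib.FormalQuot4_helper2

/-!
# Grothendieck existence, projective case: categorical preliminaries (helper2)

* `IsQuot.of_comp` (cancellation), `IsQuot.map_of_adjunction`, `IsQuot.kernel_ι_smulMod`;
* Nakayama for modules killed by a power of `I`: `isZero_of_epi_smulFamily`,
  `epi_of_epi_comp_isQuot`;
* `exists_fac_of_epi`.
APPEND-ONLY once landed.
-/

set_option autoImplicit false
universe u
open CategoryTheory CategoryTheory.Limits AlgebraicGeometry TopologicalSpace Opposite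

namespace Groth.Agent.Lib.FormalQuotH2

open Formal Groth.Agent.Lib.FormalModPowH4 Groth.Agent.Lib.FormalFnH2 Groth.Agent.Lib.FibAmpH2

section Cat

variable {A : Type u} [CommRing A] {X : Scheme.{u}} [X.Over (Spec (CommRingCat.of A))]

/-- factorization through an epimorphism of a map killing its kernel -/
theorem exists_fac_of_epi {B B' Z : X.Modules} (f : B ⟶ B') [Epi f] (g : B ⟶ Z)
    (h : kernel.ι f ≫ g = 0) : ∃ g' : B' ⟶ Z, f ≫ g' = g := by
  have hc := Abelian.epiIsCokernelOfKernel _ (kernelIsKernel f)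
  exact ⟨hc.desc (CokernelCofork.ofπ g h), hc.fac (CokernelCofork.ofπ g h) WalkingParallelPair.one⟩

/-- cancellation -/
theorem IsQuot.of_comp {J J' : Ideal A} {M N P : X.Modules} {t : M ⟶ N} {s : N ⟶ P}
    (ht : IsQuot J' t) (hts : IsQuot J (t ≫ s)) : IsQuot J s := by
  haveI := ht.2.1
  haveI := hts.2.1
  refine ⟨fun a ha => ?_, epi_of_epi t s, fun Z g hg => ?_⟩
  · rw [← cancel_epi t, comp_zero, ← Category.assoc, ← smulMod_naturality, Category.assoc,
      hts.1 a ha]
  · obtain ⟨g', hg'⟩ := hts.2.2 Z (t ≫ g) (fun a ha => by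
      rw [← Category.assoc, smulMod_naturality, Category.assoc, hg a ha, comp_zero])
    exact ⟨g', by rw [← cancel_epi t, ← Category.assoc, hg']⟩

/-- a left adjoint commuting with multiplication by scalars preserves quotients -/
theorem IsQuot.map_of_adjunction {Φ Ψ : X.Modules ⥤ X.Modules} (adj : Φ ⊣ Ψ)
    (hΦ : ∀ (M : X.Modules) (a : A),
      Φ.map (Formal.smulMod A M a) = Formal.smulMod A (Φ.obj M) a)
    {J : Ideal A} {M N : X.Modules} {t : M ⟶ N} (ht : IsQuot J t) : IsQuot J (Φ.map t) := by
  haveI := ht.2.1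
  haveI : Φ.PreservesEpimorphisms := Functor.preservesEpimorphisms_of_adjunction adj
  haveI : Φ.IsLeftAdjoint := adj.isLeftAdjoint
  haveI : Φ.PreservesZeroMorphisms := Functor.preservesZeroMorphisms_of_isLeftAdjoint Φ
  haveI : Ψ.IsRightAdjoint := adj.isRightAdjoint
  haveI : Ψ.PreservesZeroMorphisms := Functor.preservesZeroMorphisms_of_isRightAdjoint Ψ
  refine ⟨fun a ha => ?_, inferInstance, fun Z' g hg => ?_⟩
  · rw [← hΦ, ← Functor.map_comp, ht.1 a ha, Functor.map_zero]
  · have h1 : ∀ a ∈ J, Formal.smulMod A M a ≫ adj.homEquiv M Z' g = 0 := by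
      intro a ha
      rw [← Adjunction.homEquiv_naturality_left, hΦ, hg a ha]
      rw [Adjunction.homEquiv_unit, Functor.map_zero, comp_zero]
    obtain ⟨g', hg'⟩ := ht.2.2 _ _ h1
    refine ⟨(adj.homEquiv N Z').symm g', ?_⟩
    rw [← Adjunction.homEquiv_naturality_left_symm, hg', Equiv.symm_apply_apply]

/-- multiplication by `a` vanishes on the kernel of a quotient by `J` when `a J` kills the
module -/
theorem IsQuot.kernel_ι_smulMod {J : Ideal A} {B B' : X.Modules} {t : B ⟶ B'} (ht : IsQuot J t)
    {a : A} (ha : ∀ b ∈ J, Formal.smulMod A B (a * b) = 0) :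
    kernel.ι t ≫ Formal.smulMod A B a = 0 := by
  obtain ⟨g', hg'⟩ := ht.2.2 B (Formal.smulMod A B a) (fun b hb => by
    rw [← smulMod_mul, ha b hb])
  rw [← hg', ← Category.assoc, kernel.condition, zero_comp]

/-- **Nakayama**: a module killed by a power of `I` with `M = I M` vanishes. -/
theorem isZero_of_epi_smulFamily (I : Ideal A) (M : X.Modules) (m : ℕ)
    (hk : Formal.KilledBy (I ^ m) M) (h : Epi (Formal.smulFamily I M)) : IsZero M := by
  have key : ∀ k : ℕ, ∀ (Z : X.Modules) (g : M ⟶ Z),
      (∀ a ∈ I ^ k, Formal.smulMod A M a ≫ g = 0) → g = 0 := by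
    intro k
    induction k with
    | zero =>
      intro Z g hg
      have h1 := hg 1 (by simp)
      rwa [smulMod_one, Category.id_comp] at h1
    | succ k ih =>
      intro Z g hg
      apply ih
      intro b hb
      have h2 : Formal.smulFamily I M ≫ (Formal.smulMod A M b ≫ g) = 0 := by
        apply smulFamily_comp_eq_zero
        intro a ha
        rw [← Category.assoc, ← smulMod_mul]
        exact hg _ (by rw [pow_succ]; exact Ideal.mul_mem_mul hb ha)
      exact (cancel_epi (Formal.smulFamily I M)).mp (h2.trans comp_zero.symm)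
  have h1 := key m M (𝟙 M) (fun a ha => by rw [hk a ha, zero_comp])
  exact (IsZero.iff_id_eq_zero M).mpr h1

/-- **Nakayama**: `f` is an epimorphism as soon as it is so modulo `J ≤ I`, on a module killed
by a power of `I`. -/
theorem epi_of_epi_comp_isQuot (I : Ideal A) {J : Ideal A} (hJ : J ≤ I) {E B B' : X.Modules}
    (f : E ⟶ B) {t : B ⟶ B'} (ht : IsQuot J t) (m : ℕ) (hk : Formal.KilledBy (I ^ m) B)
    (h : Epi (f ≫ t)) : Epi f := by
  have hkC : Formal.KilledBy (I ^ m) (cokernel f) := by
    intro a ha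
    rw [← cancel_epi (cokernel.π f), comp_zero, ← smulMod_naturality, hk a ha, zero_comp]
  have hepi : Epi (Formal.smulFamily I (cokernel f)) := by
    refine Preadditive.epi_of_cancel_zero _ (fun {Z} g hg => ?_)
    have hg' : ∀ a ∈ I, Formal.smulMod A (cokernel f) a ≫ g = 0 := fun a ha =>
      smulMod_comp_of_smulFamily I g hg ha
    obtain ⟨g', hg''⟩ := ht.2.2 Z (cokernel.π f ≫ g) (fun a ha => by
      rw [← Category.assoc, smulMod_naturality, Category.assoc, hg' a (hJ ha), comp_zero])
    have h0 : (f ≫ t) ≫ g' = 0 := by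
      rw [Category.assoc, hg'', ← Category.assoc, cokernel.condition, zero_comp]
    have h1 : g' = 0 := (cancel_epi (f ≫ t)).mp (h0.trans comp_zero.symm)
    rw [h1, comp_zero] at hg''
    exact (cancel_epi (cokernel.π f)).mp (hg''.symm.trans comp_zero.symm)
  have hz := isZero_of_epi_smulFamily I (cokernel f) m hkC hepi
  exact Preadditive.epi_of_isZero_cokernel f hz

end Cat

end Groth.Agent.Lib.FormalQuotH2
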