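import Mathlib
import Groth.Prelude
import Groth.Agent.Lib.Exist1_helper2
import Groth.Agent.Lib.SerreCrit3_helper9
import Groth.Agent.Lib.RetrEq_helper8
import Groth.Agent.Lib.FormalFn4_helper2
import Groth.Agent.Lib.FlatBC2_helper2

/-!
# Grothendieck existence, projective case: lifting maps out of free modules (helper2)

* `exists_lift_freeMod`: maps from a free module lift along an epimorphism whose kernel has no `H¹`;
* `exists_section_of_compatible`: formal functions in degree `0`: compatible global sections of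
  `N/I^{n+1}N` come from a global section of `N` (`X` proper over complete `A`);
* `exists_hom_free_of_compatible`, `exists_hom_free_of_isQuot`: the same for maps out of a free
  module.
APPEND-ONLY once landed.
-/

set_option autoImplicit false
universe u
open CategoryTheory CategoryTheory.Limits AlgebraicGeometry TopologicalSpace Opposite

namespace Groth.Agent.Lib.FormalQuotH2

open Formal Groth.Agent.Lib.FormalModPowH4 Groth.Agent.Lib.FormalFnH2 Groth.Agent.Lib.FibAmpH2
  Groth.Agent.Lib.FlatBCH2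

section Lift

variable {X : Scheme.{u}}

theorem exists_lift_freeMod (S : ShortComplex X.Modules) (hS : S.ShortExact)
    (h1 : Subsingleton (Coh.HH X S.X₁ 1)) (k : ℕ) (s : FlatMod.freeMod X k ⟶ S.X₃) :
    ∃ s' : FlatMod.freeMod X k ⟶ S.X₂, s' ≫ S.g = s := by
  have hb : ∀ j : Fin k, ∃ b : Γ(S.X₂, ⊤),
      QCohExtn.ap S.g ⊤ b = QCohExtn.ap s ⊤ (FLFH8.stdSec k ⊤ j) :=
    fun j => SerreCrit.surj_of_H1 S hS (fun x => Subsingleton.elim _ _) _
  choose b hb using hb
  exact ⟨SDivGenH8.freeHom S.X₂ b, (FLFH8.freeHom_comp b S.g).trans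
    ((congrArg (SDivGenH8.freeHom S.X₃) (funext hb)).trans (FLFH8.hom_eq_freeHom s).symm)⟩

end Lift

section FF

variable (A : Type u) [CommRing A] [IsNoetherianRing A] (I : Ideal A) [IsAdicComplete I A]
  (X : Scheme.{u}) [X.Over (Spec (CommRingCat.of A))] [IsProper (X ↘ Spec (CommRingCat.of A))]
  (N : X.Modules) (hN : Coh.IsCoh N)

include hN in
/-- formal functions in degree `0` -/
theorem exists_section_of_compatible (z : ∀ n : ℕ, Γ(Formal.modPow I (n + 1) N, ⊤))
    (hz : ∀ n, (Formal.modPowTrans I (n + 1) N).app ⊤ (z (n + 1)) = z n) :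
    ∃ w : Γ(N, ⊤), ∀ n, (Formal.modPowπ I (n + 1) N).app ⊤ w = z n := by
  let x : ∀ n, Formal.HHmodPow I N 0 n := fun n => (h0Add (Formal.modPow I (n + 1) N)).symm (z n)
  have hx : ∀ n, Formal.HHmodPowTrans I N 0 n (x (n + 1)) = x n := by
    intro n
    show Groth.Agent.HHVan.hmap (Formal.modPowTrans I (n + 1) N) 0
      ((h0Add (Formal.modPow I (n + 1 + 1) N)).symm (z (n + 1))) =
        (h0Add (Formal.modPow I (n + 1) N)).symm (z n)
    rw [h0Add_symm_hmap, hz]
  obtain ⟨w, hw⟩ := (main0003 A I X N hN 0).2 (⟨x, hx⟩ : Formal.HHlim I N 0)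
  refine ⟨h0Add N w, fun n => ?_⟩
  have h1 : Groth.Agent.HHVan.hmap (Formal.modPowπ I (n + 1) N) 0 w = x n :=
    congrArg (fun y : Formal.HHlim I N 0 => y.1 n) hw
  rw [← h0Add_hmap, h1]
  exact (h0Add _).apply_symm_apply _

include hN in
theorem exists_hom_free_of_compatible (k : ℕ)
    (y : ∀ n : ℕ, FlatMod.freeMod X k ⟶ Formal.modPow I (n + 1) N)
    (hy : ∀ n, y (n + 1) ≫ Formal.modPowTrans I (n + 1) N = y n) :
    ∃ w : FlatMod.freeMod X k ⟶ N, ∀ n, w ≫ Formal.modPowπ I (n + 1) N = y n := by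
  have h : ∀ j : Fin k, ∃ w : Γ(N, ⊤), ∀ n,
      (Formal.modPowπ I (n + 1) N).app ⊤ w = (y n).app ⊤ (FLFH8.stdSec k ⊤ j) := by
    intro j
    refine exists_section_of_compatible A I X N hN
      (fun n => (y n).app ⊤ (FLFH8.stdSec k ⊤ j)) (fun n => ?_)
    show (Formal.modPowTrans I (n + 1) N).app ⊤ ((y (n + 1)).app ⊤ (FLFH8.stdSec k ⊤ j)) =
      (y n).app ⊤ (FLFH8.stdSec k ⊤ j)
    rw [← hy n]
    rfl
  choose w hw using h
  refine ⟨SDivGenH8.freeHom N w, fun n => ?_⟩
  refine (FLFH8.freeHom_comp w _).trans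
    ((congrArg (SDivGenH8.freeHom _) (funext fun j => ?_)).trans
      (FLFH8.hom_eq_freeHom (y n)).symm)
  exact hw j n

include hN in
theorem exists_hom_free_of_isQuot (k : ℕ) (Q : ℕ → X.Modules) (q : ∀ n, N ⟶ Q n)
    (hq : ∀ n, IsQuot (I ^ (n + 1)) (q n)) (t : ∀ n, Q (n + 1) ⟶ Q n)
    (hqt : ∀ n, q (n + 1) ≫ t n = q n)
    (s : ∀ n, FlatMod.freeMod X k ⟶ Q n) (hs : ∀ n, s (n + 1) ≫ t n = s n) :
    ∃ w : FlatMod.freeMod X k ⟶ N, ∀ n, w ≫ q n = s n := by
  have hc : ∀ n, ∃ c : Formal.modPow I (n + 1) N ≅ Q n,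
      Formal.modPowπ I (n + 1) N ≫ c.hom = q n :=
    fun n => (isQuot_modPowπ I (n + 1) N).exists_iso (hq n)
  choose c hc using hc
  have hct : ∀ n, (c (n + 1)).hom ≫ t n = Formal.modPowTrans I (n + 1) N ≫ (c n).hom := by
    intro n
    rw [← cancel_epi (Formal.modPowπ I (n + 1 + 1) N), ← Category.assoc, hc, hqt,
      ← Category.assoc, Formal.modPowπ_trans, hc]
  have hct' : ∀ n, (c (n + 1)).inv ≫ Formal.modPowTrans I (n + 1) N = t n ≫ (c n).inv := by
    intro n
    rw [Iso.inv_comp_eq, ← Category.assoc, Iso.eq_comp_inv, hct]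
  obtain ⟨w, hw⟩ := exists_hom_free_of_compatible A I X N hN k (fun n => s n ≫ (c n).inv)
    (fun n => by rw [Category.assoc, hct', ← Category.assoc, hs])
  refine ⟨w, fun n => ?_⟩
  rw [← hc n, ← Category.assoc, hw n, Category.assoc, Iso.inv_hom_id, Category.comp_id]

end FF

end Groth.Agent.Lib.FormalQuotH2
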