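import Mathlib
import Groth.Prelude
import Groth.Agent.Lib.CMReg3_helper9
import Groth.Agent.Lib.ProjTwAmple2_helper5
import Groth.Agent.Lib.Tens38_helper8
import Groth.Agent.Lib.Tens4_helper8
import Groth.Agent.Lib.Tens15_helper8
import Groth.Agent.Lib.Tens29_helper8
import Groth.Agent.Lib.QCohCrit_helper9
import Groth.Agent.Lib.Tens39_helper8

/-!
# Regular quasi-coherent modules on `P^n_R` are globally generated, `R` arbitrary (helper9)
APPEND-ONLY once landed.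
-/

set_option autoImplicit false
universe u
open AlgebraicGeometry CategoryTheory CategoryTheory.Limits Opposite MonoidalCategory TopologicalSpace

namespace RegGGH9

open Groth.Agent.TensInv QcqsLoc QCohExtn GenLocH8

section General

variable {X : Scheme.{u}}

theorem tR_map_tmul (L : X.Modules) {K N : X.Modules} (g : K ⟶ N) (U : X.Opens)
    (k : K.val.obj (op U)) (l : L.val.obj (op U)) :
    ((((tR L).map g)).val.app (op U)).hom (SecTwist.tmul K L U k l) =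
      SecTwist.tmul N L U ((g.val.app (op U)).hom k) l := by
  let adj := PresheafOfModules.sheafificationAdjunction (𝟙 X.ringCatSheaf.obj)
  let w : (CohB1.tensorPre K L : X.PresheafOfModules) ⟶ (CohB1.tensorPre N L : X.PresheafOfModules) :=
    (show CohB1.toPMod K ⟶ CohB1.toPMod N from g.val) ▷ (CohB1.toPMod L)
  have h1 := adj.unit.naturality w
  have h2 := congrArg (fun φ : (CohB1.tensorPre K L : X.PresheafOfModules) ⟶
      (PresheafOfModules.restrictScalars (𝟙 X.ringCatSheaf.obj)).obj (CohB1.tensorMod N L).val =>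
    (PresheafOfModules.Hom.app φ (op U)).hom (k ⊗ₜ l)) h1
  exact h2.symm

theorem tR_map_tmul' (L : X.Modules) {K N : X.Modules} (g : K ⟶ N) (U : X.Opens)
    (k : Γ(K, U)) (l : Γ(L, U)) :
    ap ((tR L).map g) U (SecTwist.tmul K L U k l) = SecTwist.tmul N L U (ap g U k) l :=
  tR_map_tmul L g U k l

theorem hom_eq_zero_of_ap {M N : X.Modules} (φ : M ⟶ N)
    (h : ∀ (W : X.Opens) (z : Γ(M, W)), ap φ W z = 0) : φ = 0 := by
  apply SheafOfModules.hom_ext
  apply PresheafOfModules.hom_ext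
  intro U
  ext z
  exact h U.unop z

/-- evaluation of `homOfSec σ ≫ ψ` -/
theorem ap_of_homOfSec_comp_eq_zero {M N : X.Modules} (σ : Γ(M, ⊤)) (ψ : M ⟶ N)
    (h : TensH8.homOfSec M σ ≫ ψ = 0) : ap ψ ⊤ σ = 0 := by
  have h1 : SecTwist.val (TensH8.homOfSec M σ) ⊤ = σ := by
    rw [TensH8.val_homOfSec]
    exact SubExt.rF_self M _ σ
  have h2 : ap (TensH8.homOfSec M σ ≫ ψ) ⊤ (1 : Γ(X, ⊤)) =
      ap ψ ⊤ (SecTwist.val (TensH8.homOfSec M σ) ⊤) := rfl
  rw [h1] at h2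
  rw [← h2, h]
  rfl

end General

end RegGGH9

namespace RegGGH9

open Groth.Agent.TensInv QcqsLoc QCohExtn GenLocH8

section Proj

variable {R A : Type u} [CommRing R] [CommRing A] [Algebra R A] (𝒜 : ℕ → Submodule R A)
  [GradedAlgebra 𝒜]

open Groth.Agent.ProjTw

theorem genLocus_secHom1_inf' {f g : A} (hf : f ∈ 𝒜 1) (hg : g ∈ 𝒜 1) :
    CohB1.genLocus (Twist.twist 𝒜 1) (secHom1 𝒜 hg) ⊓ Proj.basicOpen 𝒜 f =
      Proj.basicOpen 𝒜 f ⊓ Proj.basicOpen 𝒜 g := by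
  have he := isGen_genSecK 𝒜 one_pos hf 1 1 (by simp)
  rw [TensH8.genLocus_inf_eq _ he _ (val_secHom1 𝒜 hf hg)]
  ext y
  constructor
  · intro hy
    have hyf : y ∈ Proj.basicOpen 𝒜 f := (Proj 𝒜).basicOpen_le _ hy
    refine ⟨hyf, ?_⟩
    have h2 := (Groth.Agent.ProjQC.mem_basicOpen_iff 𝒜 _ _ y hyf).mp hy
    exact (Groth.Agent.ProjQC.isUnit_iff_of_val 𝒜 y _ g (f ^ 1)
      (fun h => hyf (y.isPrime.mem_of_pow_mem _ h)) (ratio_val 𝒜 hf hg ⟨y, hyf⟩)).mp h2
  · rintro ⟨hyf, hyg⟩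
    apply (Groth.Agent.ProjQC.mem_basicOpen_iff 𝒜 _ _ y hyf).mpr
    exact (Groth.Agent.ProjQC.isUnit_iff_of_val 𝒜 y _ g (f ^ 1)
      (fun h => hyf (y.isPrime.mem_of_pow_mem _ h)) (ratio_val 𝒜 hf hg ⟨y, hyf⟩)).mpr hyg

theorem genLocus_secHom1' (hcov : ∀ x : Proj 𝒜, ∃ f ∈ 𝒜 1, x ∈ Proj.basicOpen 𝒜 f) {g : A}
    (hg : g ∈ 𝒜 1) :
    CohB1.genLocus (Twist.twist 𝒜 1) (secHom1 𝒜 hg) = Proj.basicOpen 𝒜 g := by
  ext y
  obtain ⟨f, hf, hy⟩ := hcov y
  have h := genLocus_secHom1_inf' 𝒜 hf hg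
  constructor
  · intro hy'
    have : y ∈ CohB1.genLocus (Twist.twist 𝒜 1) (secHom1 𝒜 hg) ⊓ Proj.basicOpen 𝒜 f := ⟨hy', hy⟩
    rw [h] at this
    exact this.2
  · intro hy'
    have : y ∈ Proj.basicOpen 𝒜 f ⊓ Proj.basicOpen 𝒜 g := ⟨hy, hy'⟩
    rw [← h] at this
    exact this.1

end Proj

end RegGGH9

namespace RegGGH9

open MvPolynomial

open Groth.Agent.TensInv QcqsLoc QCohExtn GenLocH8
open Groth.Agent.ProjTens Groth.Agent.CMReg Groth.Agent.ProjCech Groth.Agent.ProjFin Groth.Agent.ProjTw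

section Pn

variable (n : ℕ) (R : Type u) [CommRing R]

theorem quasiSeparatedSpace_Pn : QuasiSeparatedSpace (CohB1.ProjSpace n R) := by
  unfold CohB1.ProjSpace
  infer_instance

theorem compactSpace_Pn : CompactSpace (CohB1.ProjSpace n R) :=
  (isAmple_twist_one (𝒜 n R) _ (hs1_X n R) (hcov_X n R)).2.1

theorem hX (i : Fin (n + 1)) : (X i : MvPolynomial (Fin (n + 1)) R) ∈ 𝒜 n R 1 :=
  (mem_homogeneousSubmodule _ _).mpr (isHomogeneous_X R i)

/-- abstract: if `g` kills maps from `O(-N)`, `g ⊗ L'` kills global sections, for `L'` inverse to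
`O(-N)` -/
theorem comp_tR_map_eq_zero {F T' : (CohB1.ProjSpace n R).Modules} (g : F ⟶ T') (N : ℤ)
    (hg : Kills n R (-N) g) (L' : (CohB1.ProjSpace n R).Modules)
    (e₁ : CohB1.tensorMod (OO n R (-N)) L' ≅ Coh.structureModule (CohB1.ProjSpace n R))
    (τ : Coh.structureModule (CohB1.ProjSpace n R) ⟶ CohB1.tensorMod F L') :
    τ ≫ (tR L').map g = 0 := by
  haveI : (tR L').IsEquivalence := isEquivalence_tR (L := L') (L' := OO n R (-N)) (swap ⟨e₁⟩)
  let τ' : (tR L').obj (OO n R (-N)) ⟶ (tR L').obj F := e₁.hom ≫ τ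
  let φ : OO n R (-N) ⟶ F := (tR L').preimage τ'
  have h1 : (tR L').map φ = τ' := Functor.map_preimage _ _
  have h3 : τ' ≫ (tR L').map g = 0 := by
    rw [← h1, ← Functor.map_comp, hg φ, Functor.map_zero]
  have h4 : e₁.hom ≫ (τ ≫ (tR L').map g) = 0 := (Category.assoc _ _ _).symm.trans h3
  exact (cancel_epi e₁.hom).mp (h4.trans comp_zero.symm)

/-- `O(1)` -/
noncomputable abbrev L1 : (CohB1.ProjSpace n R).Modules := Twist.twist (𝒜 n R) 1

/-- `X_i` as a section of `O(1)` -/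
noncomputable abbrev sX (i : Fin (n + 1)) :
    Coh.structureModule (CohB1.ProjSpace n R) ⟶ L1 n R := secHom1 (𝒜 n R) (hX n R i)

/-- the chart `D_+(X_i)`, as the locus where `X_i` generates `O(1)` -/
noncomputable abbrev UU (i : Fin (n + 1)) : (CohB1.ProjSpace n R).Opens :=
  CohB1.genLocus (L1 n R) (sX n R i)

theorem UU_eq (i : Fin (n + 1)) : UU n R i = Proj.basicOpen (𝒜 n R) (X i) :=
  genLocus_secHom1' (𝒜 n R) (hcov' n R) (hX n R i)

theorem isAffineOpen_UU (i : Fin (n + 1)) : IsAffineOpen (UU n R i) := by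
  rw [UU_eq]
  exact Proj.isAffineOpen_basicOpen (𝒜 n R) (X i) (hX n R i) one_pos

theorem exists_mem_UU (x : CohB1.ProjSpace n R) : ∃ i, x ∈ UU n R i := by
  classical
  obtain ⟨f, hf, hx⟩ := hcov_X n R x
  obtain ⟨i, -, rfl⟩ := Finset.mem_image.mp hf
  exact ⟨i, by rw [UU_eq]; exact hx⟩

theorem nonempty_inv_iso (N : ℕ) :
    Nonempty (CohB1.tensorMod (OO n R (-(N : ℤ))) (CohB1.tensorPow (L1 n R) N) ≅
      Coh.structureModule (CohB1.ProjSpace n R)) := by
  obtain ⟨α⟩ := tensorPow_iso (𝒜 n R) (hcov' n R) N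
  obtain ⟨e⟩ := twist_inv n R (-(N : ℤ)) N (by omega)
  exact ⟨mapL (OO n R (-(N : ℤ))) α ≪≫ e⟩

theorem ap_eq_zero_of_kills {F T' : (CohB1.ProjSpace n R).Modules} [F.IsQuasicoherent]
    (g : F ⟶ T') (N₀ : ℕ) (hg : ∀ N : ℕ, N₀ ≤ N → Kills n R (-(N : ℤ)) g) (i : Fin (n + 1))
    (t : Γ(F, UU n R i)) : ap g (UU n R i) t = 0 := by
  haveI := compactSpace_Pn n R
  haveI : QuasiSeparatedSpace (CohB1.ProjSpace n R) := by
    unfold CohB1.ProjSpace
    infer_instance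
  have hL : PicF.IsInvertible (L1 n R) := isInvertible_twist (𝒜 n R) (hcov' n R) 1
  obtain ⟨n0, h⟩ := TensH8.exists_twist_extends hL (sX n R i) F t
  obtain ⟨t', ht'⟩ := h (max n0 N₀) (le_max_left _ _)
  obtain ⟨e₁⟩ := nonempty_inv_iso n R (max n0 N₀)
  let ψ : CohB1.tensorMod F (CohB1.tensorPow (L1 n R) (max n0 N₀)) ⟶
      CohB1.tensorMod T' (CohB1.tensorPow (L1 n R) (max n0 N₀)) :=
    (tR (CohB1.tensorPow (L1 n R) (max n0 N₀))).map g
  have hz : TensH8.homOfSec _ t' ≫ ψ = 0 :=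
    comp_tR_map_eq_zero n R g ((max n0 N₀ : ℕ) : ℤ) (hg _ (le_max_right _ _))
      (CohB1.tensorPow (L1 n R) (max n0 N₀)) e₁ (TensH8.homOfSec _ t')
  have h1 : ap ψ ⊤ t' = 0 := ap_of_homOfSec_comp_eq_zero t' ψ hz
  have h2 : ap ψ (UU n R i) (rF _ le_top t') = 0 :=
    (ap_rF ψ le_top t').trans ((congrArg (rF _ le_top) h1).trans (map_zero _))
  rw [ht'] at h2
  have h3 : SecTwist.tmul T' (CohB1.tensorPow (L1 n R) (max n0 N₀)) (UU n R i)
      (ap g (UU n R i) t) (SecTwist.pow (sX n R i) (max n0 N₀) (UU n R i)) = 0 :=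
    (tR_map_tmul' _ g _ t _).symm.trans h2
  have he : IsGen (CohB1.tensorPow (L1 n R) (max n0 N₀)) (UU n R i)
      (SecTwist.pow (sX n R i) (max n0 N₀) (UU n R i)) := by
    rw [← CycCov.lpow_val]
    exact TensH8.isGen_lpow (TensH8.isGen_val_of_le_genLocus (sX n R i) le_rfl) _
  refine TensH8.tmulGen_injective T' _ he le_rfl (ap g (UU n R i) t) 0 ?_
  have hr : rF (CohB1.tensorPow (L1 n R) (max n0 N₀)) (le_refl (UU n R i))
      (SecTwist.pow (sX n R i) (max n0 N₀) (UU n R i)) =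
      SecTwist.pow (sX n R i) (max n0 N₀) (UU n R i) := SubExt.rF_self _ _ _
  exact (congrArg (fun q => SecTwist.tmul T' (CohB1.tensorPow (L1 n R) (max n0 N₀)) (UU n R i)
      (ap g (UU n R i) t) q) hr).trans (h3.trans
    ((TensH8.tmul_zero_left T' (CohB1.tensorPow (L1 n R) (max n0 N₀)) (UU n R i) _).symm.trans
      (congrArg (fun q => SecTwist.tmul T' (CohB1.tensorPow (L1 n R) (max n0 N₀)) (UU n R i)
        (0 : Γ(T', UU n R i)) q) hr.symm)))

/-- a morphism out of a quasi-coherent module on `P^n_R` which kills all maps from `O(-N)`,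
`N ≥ N₀`, is zero (`R` arbitrary) -/
theorem eq_zero_of_kills_qcoh {F T' : (CohB1.ProjSpace n R).Modules} [F.IsQuasicoherent]
    (g : F ⟶ T') (N₀ : ℕ) (hg : ∀ N : ℕ, N₀ ≤ N → Kills n R (-(N : ℤ)) g) : g = 0 := by
  apply hom_eq_zero_of_ap
  intro W z
  apply eq_zero_of_cover T' (ap g W z)
  intro x hx
  obtain ⟨i, hxi⟩ := exists_mem_UU n R x
  have hU := isAffineOpen_UU n R i
  obtain ⟨a, haW, hxa⟩ := hU.exists_basicOpen_le (V := W ⊓ UU n R i) ⟨x, ⟨hx, hxi⟩⟩ hxi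
  have hDW : (CohB1.ProjSpace n R).basicOpen a ≤ W := haW.trans inf_le_left
  have hD : (CohB1.ProjSpace n R).basicOpen a ≤ UU n R i := (CohB1.ProjSpace n R).basicOpen_le a
  refine ⟨(CohB1.ProjSpace n R).basicOpen a, hDW, hxa, ?_⟩
  have L := QCohCrit.locOnU_of_isQuasicoherent F hU a
  obtain ⟨k, t₀, hk⟩ := L.surj (rF F hDW z)
  have hk' : rX hD a ^ k • rF F hDW z = rF F hD t₀ := hk
  have h1 := congrArg (ap g ((CohB1.ProjSpace n R).basicOpen a)) hk'
  rw [ap_smul, ap_rF, ap_rF, ap_eq_zero_of_kills n R g N₀ hg i t₀, map_zero] at h1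
  have hu : IsUnit (rX hD a ^ k) :=
    (RingedSpace.isUnit_res_basicOpen (CohB1.ProjSpace n R).toRingedSpace a).pow k
  exact (IsUnit.smul_eq_zero hu).mp h1

/-- a morphism out of an `m`-regular quasi-coherent module which kills all maps from `O(-m)` is
zero (`R` arbitrary) -/
theorem eq_zero_of_kills_reg {F T' : (CohB1.ProjSpace n R).Modules} [F.IsQuasicoherent] (m : ℤ)
    (h : ∀ q : ℕ, 1 ≤ q →
      Subsingleton (Coh.HH (CohB1.ProjSpace n R) (CohB1.tensorMod F (OO n R (m - q))) q))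
    (g : F ⟶ T') (hg : Kills n R (-m) g) : g = 0 := by
  haveI := hasExt_modules (CohB1.ProjSpace n R)
  apply eq_zero_of_kills_qcoh n R g m.toNat
  intro N hN
  obtain ⟨r, hr⟩ : ∃ r : ℕ, (N : ℤ) = m + r := ⟨((N : ℤ) - m).toNat, by omega⟩
  exact (kills_all n R m h g hg r).cast (by rw [hr])

/-- an `m`-regular quasi-coherent module is a quotient of a sum of copies of `O(-m)` -/
theorem epi_sigma_desc_qcoh {F : (CohB1.ProjSpace n R).Modules} [F.IsQuasicoherent] (m : ℤ)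
    (h : ∀ q : ℕ, 1 ≤ q →
      Subsingleton (Coh.HH (CohB1.ProjSpace n R) (CohB1.tensorMod F (OO n R (m - q))) q)) :
    Epi (Sigma.desc (fun φ : OO n R (-m) ⟶ F => φ)) := by
  apply Preadditive.epi_of_cancel_zero
  intro T g hg
  apply eq_zero_of_kills_reg n R m h g
  intro φ
  have h1 : Sigma.ι (fun _ : OO n R (-m) ⟶ F => OO n R (-m)) φ ≫
      Sigma.desc (fun φ : OO n R (-m) ⟶ F => φ) = φ := Sigma.ι_desc _ _
  rw [← h1, Category.assoc, hg, comp_zero]

/-- **an `m`-regular quasi-coherent module `F` on `P^n_R` has `F(m)` generated by global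
sections**, for an arbitrary ring `R` -/
theorem isGloballyGenerated_twist_qcoh {F : (CohB1.ProjSpace n R).Modules} [F.IsQuasicoherent]
    (m : ℤ)
    (h : ∀ q : ℕ, 1 ≤ q →
      Subsingleton (Coh.HH (CohB1.ProjSpace n R) (CohB1.tensorMod F (OO n R (m - q))) q)) :
    Curv2.IsGloballyGenerated (CohB1.tensorMod F (OO n R m)) := by
  haveI := isEquivalence_tR_twist n R m
  haveI : Epi (Sigma.desc (fun φ : OO n R (-m) ⟶ F => φ)) := epi_sigma_desc_qcoh n R m h
  obtain ⟨e₁⟩ := twist_inv n R (-m) m (by omega)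
  have e := (PreservesCoproduct.iso (tR (OO n R m))
    (fun _ : OO n R (-m) ⟶ F => OO n R (-m))).symm
  have e' : (SheafOfModules.free (OO n R (-m) ⟶ F) : (CohB1.ProjSpace n R).Modules) ≅
      ∐ fun _ : OO n R (-m) ⟶ F => (tR (OO n R m)).obj (OO n R (-m)) :=
    Sigma.mapIso (fun _ => e₁.symm)
  haveI h1 : Epi ((tR (OO n R m)).map (Sigma.desc (fun φ : OO n R (-m) ⟶ F => φ))) :=
    Functor.map_epi _ _
  have h2 : Epi (e.hom ≫ (tR (OO n R m)).map (Sigma.desc (fun φ : OO n R (-m) ⟶ F => φ))) :=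
    epi_comp' inferInstance h1
  exact ⟨OO n R (-m) ⟶ F, e'.hom ≫ e.hom ≫
    (tR (OO n R m)).map (Sigma.desc (fun φ : OO n R (-m) ⟶ F => φ)),
    epi_comp' inferInstance h2⟩

theorem isGloballyGenerated_of_iso {X : Scheme.{u}} {M M' : X.Modules} (e : M ≅ M')
    (h : Curv2.IsGloballyGenerated M) : Curv2.IsGloballyGenerated M' := by
  obtain ⟨I, p, hp⟩ := h
  have h2 : Epi e.hom := IsIso.epi_of_iso e.hom
  exact ⟨I, p ≫ e.hom, epi_comp' hp h2⟩

/-- **a `0`-regular quasi-coherent module on `P^n_R` is generated by global sections** -/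
theorem isGloballyGenerated_of_regular {F : (CohB1.ProjSpace n R).Modules} [F.IsQuasicoherent]
    (h : ∀ q : ℕ, 1 ≤ q →
      Subsingleton (Coh.HH (CohB1.ProjSpace n R) (CohB1.tensorMod F (OO n R (0 - q))) q)) :
    Curv2.IsGloballyGenerated F := by
  obtain ⟨e0⟩ := twist_zero n R
  exact isGloballyGenerated_of_iso (mapL F e0 ≪≫ SecTwist.unitorR F)
    (isGloballyGenerated_twist_qcoh n R 0 h)

end Pn
end RegGGH9

namespace RegGGH9

open QcqsLoc QCohExtn

/-- a globally generated restriction along an open immersion yields local spanning by sections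
over its range -/
theorem exists_span_of_isGloballyGenerated_restrict' {X P : Scheme.{u}} (σ : P ⟶ X)
    [IsOpenImmersion σ] (F : X.Modules) (hgg : Curv2.IsGloballyGenerated (F.restrict σ))
    (V : X.Opens) (hV : σ.opensRange = V) (W : X.Opens) (hW : W ≤ V) (z : Γ(F, W)) (x : X)
    (hx : x ∈ W) :
    ∃ (W' : X.Opens) (h' : W' ≤ W), x ∈ W' ∧ rF F h' z ∈ Submodule.span Γ(X, W')
      (Set.range fun y : Γ(F, V) => rF F (h'.trans hW) y) := by
  subst hV
  obtain ⟨ι, g, hg⟩ := GGH8.exists_locSpan hgg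
  have htop : σ ''ᵁ ⊤ = σ.opensRange := σ.image_top_eq_opensRange
  have hW' : W ≤ σ ''ᵁ ⊤ := hW.trans (le_of_eq htop.symm)
  obtain ⟨W0, -, rfl⟩ := TensH8.exists_eq_image σ hW'
  obtain ⟨x', hx', rfl⟩ := hx
  obtain ⟨W1, h1, hx1, hmem⟩ := hg W0 z x' hx'
  have h1' : σ ''ᵁ W1 ≤ σ ''ᵁ W0 := (σ.image_le_image_iff _ _).mpr h1
  refine ⟨σ ''ᵁ W1, h1', ⟨x', hx1, rfl⟩, ?_⟩
  have h3 := TensH8.span_of_span_restrict σ F _ hmem
  refine Submodule.span_mono ?_ h3
  rintro _ ⟨i, rfl⟩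
  refine ⟨rF F (le_of_eq htop.symm : σ.opensRange ≤ σ ''ᵁ ⊤) (g i), ?_⟩
  show rF F _ (rF F _ (g i)) = rF (F.restrict σ) _ (g i)
  rw [TensH8.rF_restrict, rF_rF]

end RegGGH9
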