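import Mathlib
import Groth.Prelude
import Groth.Agent.Lib.FibAmp2_helper2
import Groth.Agent.Lib.RegGG_helper9
import Groth.Agent.S0002

/-!
# Vanishing of `H^p(X, M ⊗ L^d)` over a local base from ampleness on the closed fibre (helper2)

* tensoring with an invertible module commutes with `I^n (-)` and with the graded pieces;
* if `H^p(X, gr_n F) = 0` for all `n` and `I` is in the Jacobson radical then `H^p(X, F) = 0`
  (formal functions in the form `main0057` + Nakayama);
* `core_local`: `X` proper over Noetherian `A`, `I = ker (A → K)` in the Jacobson radical,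
  `L` ample on `X ×_A Spec K`: `H^p(X, M ⊗ L^d) = 0` for `d ≥ d₀`, `p > 0`.
APPEND-ONLY once landed.
-/

set_option autoImplicit false
universe u
open CategoryTheory CategoryTheory.Limits AlgebraicGeometry TopologicalSpace Opposite

namespace Groth.Agent.Lib.FibAmpH2

open Formal Groth.Agent.Lib.FormalModPowH4 Groth.Agent.HHVan Groth.Agent.Lib.FormalFnH2
  Groth.Agent.Lib.AmpleFinH2 Groth.Agent.TensInv CohB1

section C1

variable {A : Type u} [CommRing A] {X : Scheme.{u}} [X.Over (Spec (CommRingCat.of A))]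

theorem tR_map_smulMod (K M : X.Modules) (a : A) :
    (tR K).map (Formal.smulMod A M a) = Formal.smulMod A ((tR K).obj M) a := by
  apply PFormH9.hom_ext_tmul
  intro U m k
  refine (RegGGH9.tR_map_tmul K (Formal.smulMod A M a) U m k).trans ?_
  exact TensH8.tmul_smul_left M K U (rU a U) m k

variable (K : X.Modules) [(tR K).IsEquivalence] (I : Ideal A) (M : X.Modules)

theorem map_pwι_comp_eq_zero (n : ℕ) {T : X.Modules} (g : (tR K).obj M ⟶ T)
    (h : ∀ b ∈ I ^ n, Formal.smulMod A ((tR K).obj M) b ≫ g = 0) :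
    (tR K).map (pwι I M n) ≫ g = 0 := by
  obtain ⟨e⟩ : Nonempty ((tR K).obj ((tR K).objPreimage T) ≅ T) :=
    ⟨(tR K).objObjPreimageIso T⟩
  obtain ⟨g', hg'⟩ : ∃ g' : M ⟶ (tR K).objPreimage T, (tR K).map g' = g ≫ e.inv :=
    ⟨(tR K).preimage (g ≫ e.inv), (tR K).map_preimage _⟩
  have h1 : pwι I M n ≫ g' = 0 := by
    apply pwι_comp_eq_zero
    intro b hb
    apply (tR K).map_injective
    rw [Functor.map_comp, hg', tR_map_smulMod, Functor.map_zero, ← Category.assoc, h b hb,
      zero_comp]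
  have h2 : (tR K).map (pwι I M n) ≫ g ≫ e.inv = 0 := by
    rw [← hg', ← Functor.map_comp, h1, Functor.map_zero]
  rw [← cancel_mono e.inv, Category.assoc, h2, zero_comp]

variable {K} in
theorem exists_pw_iso {K' : X.Modules}
    (h : Nonempty (CohB1.tensorMod K K' ≅ Coh.structureModule X)) (n : ℕ) :
    ∃ θ : (tR K).obj (pw I M n) ≅ pw I ((tR K).obj M) n,
      θ.hom ≫ pwι I ((tR K).obj M) n = (tR K).map (pwι I M n) := by
  have hS' := shortExact_tR h _ (pwSC_shortExact I M n)
  haveI : Mono ((tR K).map (pwι I M n)) := hS'.mono_f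
  have w1 : (tR K).map (pwι I M n) ≫ Formal.modPowπ I n ((tR K).obj M) = 0 :=
    map_pwι_comp_eq_zero K I M n _ (fun b hb => smulMod_modPowπ ((tR K).obj M) I n hb)
  have w2 : pwι I ((tR K).obj M) n ≫ (tR K).map (Formal.modPowπ I n M) = 0 := by
    apply pwι_comp_eq_zero
    intro b hb
    rw [← tR_map_smulMod, ← Functor.map_comp, smulMod_modPowπ M I n hb, Functor.map_zero]
  obtain ⟨u, hu⟩ : ∃ u : (tR K).obj (pw I M n) ⟶ pw I ((tR K).obj M) n,
      u ≫ pwι I ((tR K).obj M) n = (tR K).map (pwι I M n) :=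
    ⟨kernel.lift _ _ w1, kernel.lift_ι _ _ _⟩
  obtain ⟨v, hv⟩ : ∃ v : pw I ((tR K).obj M) n ⟶ (tR K).obj (pw I M n),
      v ≫ (tR K).map (pwι I M n) = pwι I ((tR K).obj M) n :=
    ⟨(KernelFork.IsLimit.lift' hS'.fIsKernel (pwι I ((tR K).obj M) n) w2).1,
      (KernelFork.IsLimit.lift' hS'.fIsKernel (pwι I ((tR K).obj M) n) w2).2⟩
  refine ⟨⟨u, v, ?_, ?_⟩, hu⟩
  · rw [← cancel_mono ((tR K).map (pwι I M n)), Category.assoc, hv, hu, Category.id_comp]
  · rw [← cancel_mono (pwι I ((tR K).obj M) n), Category.assoc, hu, hv, Category.id_comp]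

variable {K} in
theorem nonempty_gr_iso {K' : X.Modules}
    (h : Nonempty (CohB1.tensorMod K K' ≅ Coh.structureModule X)) (n : ℕ) :
    Nonempty ((tR K).obj (gr I M n) ≅ gr I ((tR K).obj M) n) := by
  obtain ⟨θ₀, hθ₀⟩ := exists_pw_iso I M h n
  obtain ⟨θ₁, hθ₁⟩ := exists_pw_iso I M h (n + 1)
  have hsq : (tR K).map (pwInc I M (Nat.le_succ n)) ≫ θ₀.hom =
      θ₁.hom ≫ pwInc I ((tR K).obj M) (Nat.le_succ n) := by
    rw [← cancel_mono (pwι I ((tR K).obj M) n), Category.assoc, hθ₀, Category.assoc, pwInc_ι,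
      hθ₁, ← Functor.map_comp, pwInc_ι]
  have hS' := shortExact_tR h _ (grSC_shortExact I M n)
  have e1 := IsColimit.coconePointUniqueUpToIso hS'.gIsCokernel
      (cokernelIsCokernel ((tR K).map (pwInc I M (Nat.le_succ n))))
  have e2 : cokernel ((tR K).map (pwInc I M (Nat.le_succ n))) ≅ gr I ((tR K).obj M) n :=
    cokernel.mapIso _ _ θ₁ θ₀ hsq
  exact ⟨e1 ≪≫ e2⟩

end C1

section StageB

variable (A : Type u) [CommRing A] [IsNoetherianRing A] (I : Ideal A) (X : Scheme.{u})
  [X.Over (Spec (CommRingCat.of A))] [IsProper (X ↘ Spec (CommRingCat.of A))]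

theorem subsingleton_HH_of_gr (hI : I ≤ Ideal.jacobson ⊥) (F : X.Modules) (hF : Coh.IsCoh F)
    (p : ℕ) (hgr : ∀ n, Subsingleton (Coh.HH X (gr I F n) p)) :
    Subsingleton (Coh.HH X F p) := by
  have hsurj : ∀ n, ∀ x : Coh.HH X F p, ∃ y : Coh.HH X (pw I F n) p,
      Canon.HHlin A (pwι I F n) p y = x := by
    intro n
    induction n with
    | zero =>
      intro x
      refine ⟨Canon.HHlin A (pwIn I F 0 1 (by simp)) p x, ?_⟩
      rw [HHlin_comp, pwIn_ι, HHlin_smulMod, one_smul]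
    | succ n ih =>
      intro x
      obtain ⟨y, hy⟩ := ih x
      have hr := Groth.Agent.LESLin.range_HHlin_f A (grSC I F n) (grSC_shortExact I F n) p
      have hy' : y ∈ LinearMap.range (Canon.HHlin A (pwInc I F (Nat.le_succ n)) p) := by
        have h1 : y ∈ LinearMap.ker (Canon.HHlin A (grπ I F n) p) := by
          rw [LinearMap.mem_ker]
          exact Subsingleton.elim (h := hgr n) _ _
        exact hr ▸ h1
      obtain ⟨y', rfl⟩ := hy'
      exact ⟨y', by rw [← hy, ι_inc]⟩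
  obtain ⟨c, hc⟩ := main0057 A I X F hF p
  haveI : Module.Finite A (Coh.HH X F p) := Groth.Agent.S0002.result A X F hF p
  have htop : (⊤ : Submodule A (Coh.HH X F p)) ≤ I • ⊤ := by
    intro x _
    have h0 : Formal.toHHmodPow I F p (c + 1) x = 0 :=
      (toHHmodPow_eq_zero_iff A I F p (c + 1) x).mpr (by
        obtain ⟨y, hy⟩ := hsurj (c + 1 + 1) x
        exact ⟨y, hy⟩)
    have h1 := hc (c + 1) (Nat.le_succ c) (AddMonoidHom.mem_ker.mpr h0)
    have h2 : c + 1 - c = 1 := by omega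
    rw [h2, pow_one] at h1
    exact h1
  have hbot := Submodule.eq_bot_of_le_smul_of_le_jacobson_bot I ⊤ Module.Finite.fg_top htop hI
  exact subsingleton_of_forall_eq 0
    (fun x => (Submodule.eq_bot_iff _).mp hbot x Submodule.mem_top)

end StageB

section Core

variable (A K : Type u) [CommRing A] [CommRing K] [IsNoetherianRing A] (φ : A →+* K)
  (X : Scheme.{u}) [X.Over (Spec (CommRingCat.of A))]
  [IsProper (X ↘ Spec (CommRingCat.of A))]

/-- **Vanishing over a local base from ampleness on the closed fibre.** -/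
theorem core_local (hφ : Function.Surjective φ) (hjac : RingHom.ker φ ≤ Ideal.jacobson ⊥)
    (M : X.Modules) (hM : Coh.IsCoh M) {L : X.Modules} (hL : PicF.IsInvertible L)
    (hamp : CohB1.IsAmple ((Scheme.Modules.pullback (i0 A K φ X)).obj L)) :
    ∃ d₀ : ℕ, ∀ d : ℕ, d₀ ≤ d → ∀ p : ℕ, 0 < p →
      Subsingleton (Coh.HH X (tensorMod M (tensorPow L d)) p) := by
  obtain ⟨d₀, hd₀⟩ := stageA_gr A K φ X hφ M hM hL hamp
  refine ⟨d₀, fun d hd p hp => ?_⟩
  obtain ⟨K', -, hK'⟩ := Groth.Agent.InvTensP.exists_inverse (tensorPow L d)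
    (TensH8.isInvertible_tensorPow hL d)
  have hcoh : Coh.IsCoh (tensorMod M (tensorPow L d)) :=
    RelAmpleVanH9.isCoh_tensorMod hM
      (ProperFinH9.isCoh_of_isInvertible (TensH8.isInvertible_tensorPow hL d))
  haveI := isEquivalence_tR hK'
  refine subsingleton_HH_of_gr A (RingHom.ker φ) X hjac _ hcoh p (fun n => ?_)
  obtain ⟨e⟩ := nonempty_gr_iso (RingHom.ker φ) M hK' n
  exact Groth.Agent.HHVan.subsingleton_of_iso e p (hd₀ n d hd p hp)

end Core

end Groth.Agent.Lib.FibAmpH2
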