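import Mathlib
import Groth.Prelude
import Groth.Agent.Lib.BCAlg3_helper2

/-!
# From cochain complexes to chain complexes: `H_i((L|_{n ↦ -n}) ⊗ M) ≅ H^{-i}(L ⊗ M)`, naturally
-/

set_option autoImplicit false
universe u
open CategoryTheory CategoryTheory.Limits MonoidalCategory ComplexShape

namespace Groth.Agent.Lib.BCAlgH2

section Nat

variable {ι ι' : Type*} {c : ComplexShape ι} {c' : ComplexShape ι'}
  {V : Type*} [Category V] [Abelian V]
  {K K' : HomologicalComplex V c'} (φ : K ⟶ K') (e : c.Embedding c') [e.IsRelIff]
  (i j k : ι) (hi : c.prev j = i) (hk : c.next j = k)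
  {i' j' k' : ι'} (hi' : e.f i = i') (hj' : e.f j = j') (hk' : e.f k = k')
  (hi'' : c'.prev j' = i') (hk'' : c'.next j' = k')

lemma restrictionXIso_hom_naturality :
    (HomologicalComplex.restrictionMap φ e).f j ≫ (K'.restrictionXIso e hj').hom =
      (K.restrictionXIso e hj').hom ≫ φ.f j' := by
  subst hj'
  simp only [HomologicalComplex.restrictionXIso, HomologicalComplex.XIsoOfEq,
    HomologicalComplex.restrictionMap_f, eqToIso.hom]
  exact (Category.comp_id _).trans (Category.id_comp _).symm

lemma restrictionCyclesIso_hom_naturality :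
    HomologicalComplex.cyclesMap (HomologicalComplex.restrictionMap φ e) j ≫
        (K'.restrictionCyclesIso e j k hk hj' hk' hk'').hom =
      (K.restrictionCyclesIso e j k hk hj' hk' hk'').hom ≫ HomologicalComplex.cyclesMap φ j' := by
  rw [← cancel_mono (K'.iCycles j')]
  simp only [Category.assoc, HomologicalComplex.restrictionCyclesIso_hom_iCycles,
    HomologicalComplex.cyclesMap_i, HomologicalComplex.cyclesMap_i_assoc,
    HomologicalComplex.restrictionCyclesIso_hom_iCycles_assoc]
  rw [restrictionXIso_hom_naturality φ e j hj']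

lemma restrictionHomologyIso_hom_naturality :
    HomologicalComplex.homologyMap (HomologicalComplex.restrictionMap φ e) j ≫
        (K'.restrictionHomologyIso e i j k hi hk hi' hj' hk' hi'' hk'').hom =
      (K.restrictionHomologyIso e i j k hi hk hi' hj' hk' hi'' hk'').hom ≫
        HomologicalComplex.homologyMap φ j' := by
  rw [← cancel_epi ((K.restriction e).homologyπ j)]
  rw [HomologicalComplex.homologyπ_naturality_assoc,
    HomologicalComplex.homologyπ_restrictionHomologyIso_hom,
    HomologicalComplex.homologyπ_restrictionHomologyIso_hom_assoc,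
    HomologicalComplex.homologyπ_naturality,
    ← Category.assoc, ← Category.assoc,
    restrictionCyclesIso_hom_naturality φ e j k hk hj' hk' hk'']

end Nat

variable {A : Type u} [CommRing A]

/-- the chain complex `i ↦ L^{-i}` -/
noncomputable abbrev toChain (L : Cx A) : ChainComplex (ModuleCat.{u} A) ℤ :=
  L.restriction embeddingDownIntUpInt

lemma toChain_X (L : Cx A) (i : ℤ) : (toChain L).X i = L.X (-i) := rfl

/-- the homology comparison -/
noncomputable def TRestrIso (L : Cx A) (i : ℤ) (M : ModuleCat.{u} A) :
    CohIII.T (toChain L) i M ≅ CohIII.T L (-i) M :=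
  (CohIII.tensorObj L M).restrictionHomologyIso embeddingDownIntUpInt (i + 1) i (i - 1)
    (by simp) (by simp)
    (i' := -i - 1) (j' := -i) (k' := -i + 1) (by simp; ring) rfl (by simp; ring)
    (by simp) (by simp)

/-- **the dictionary**: `H_i((L|_{n ↦ -n}) ⊗ -) ≅ H^{-i}(L ⊗ -)` -/
noncomputable def TFunRestr (L : Cx A) (i : ℤ) :
    CohIII.TFun (toChain L) i ≅ CohIII.TFun L (-i) :=
  NatIso.ofComponents (fun M => TRestrIso L i M) (fun {M M'} g => by
    exact restrictionHomologyIso_hom_naturality (CohIII.tensorMap L g) embeddingDownIntUpInt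
      (i + 1) i (i - 1) (by simp) (by simp)
      (i' := -i - 1) (j' := -i) (k' := -i + 1) (by simp; ring) rfl (by simp; ring)
      (by simp) (by simp))

end Groth.Agent.Lib.BCAlgH2
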