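import Mathlib
import Groth.Prelude
import Groth.Agent.Lib.BCAlg4_helper2

/-!
# Universally quasi-isomorphic maps stay quasi-isomorphisms after base change (helper2)
APPEND-ONLY once landed.
-/

set_option autoImplicit false
universe u
open CategoryTheory CategoryTheory.Limits MonoidalCategory ComplexShape TensorProduct

namespace Groth.Agent.Lib.BCAlgH2

variable {A A' : Type u} [CommRing A] [CommRing A'] (φ : A →+* A')

/-- `A'` as an `A`-module -/
noncomputable abbrev NA' : ModuleCat.{u} A :=
  (ModuleCat.restrictScalars φ).obj (ModuleCat.of A' A')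

/-- the underlying `A`-module of `A' ⊗_A M` is the tensor product of `A`-modules -/
noncomputable def erEquiv (M : ModuleCat.{u} A) :
    ↑((ModuleCat.restrictScalars φ).obj ((ModuleCat.extendScalars φ).obj M)) ≃ₗ[A]
      TensorProduct A (NA' φ) M where
  toFun z := z
  invFun z := z
  map_add' _ _ := rfl
  map_smul' _ _ := rfl
  left_inv _ := rfl
  right_inv _ := rfl

/-- the components of `erIso` -/
noncomputable def erIsoApp (M : ModuleCat.{u} A) :
    (ModuleCat.restrictScalars φ).obj ((ModuleCat.extendScalars φ).obj M) ≅
      (tensorRight (NA' φ)).obj M :=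
  (erEquiv φ M).toModuleIso ≪≫ β_ (NA' φ) M

/-- extension followed by restriction of scalars is the tensor product with `A'` -/
noncomputable def erIso :
    ModuleCat.extendScalars φ ⋙ ModuleCat.restrictScalars φ ≅ tensorRight (NA' φ) :=
  NatIso.ofComponents (erIsoApp φ) (fun {M M'} f => by
    refine ModuleCat.hom_ext (LinearMap.ext fun z => ?_)
    refine TensorProduct.induction_on (motive := fun z =>
      ((( ModuleCat.extendScalars φ ⋙ ModuleCat.restrictScalars φ).map f ≫
        (erIsoApp φ M').hom).hom z) =
      (((erIsoApp φ M).hom ≫ (tensorRight (NA' φ)).map f).hom z)) z ?_ ?_ ?_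
    · exact (map_zero _).trans (map_zero _).symm
    · intro n m
      rfl
    · intro z w hz hw
      exact (map_add _ z w).trans ((congrArg₂ (· + ·) hz hw).trans (map_add _ z w).symm))

instance : (ModuleCat.restrictScalars.{u} φ).PreservesHomology :=
  Functor.preservesHomologyOfExact _

/-- **base change of a universally quasi-isomorphic map** -/
theorem quasiIso_bcCx {L C : Cx A} (u : L ⟶ C) (hu : QuasiIso ((TR (NA' φ)).map u)) :
    QuasiIso (((ModuleCat.extendScalars φ).mapHomologicalComplex (ComplexShape.up ℤ)).map u) := by
  rw [← HomologicalComplex.quasiIso_map_iff_of_preservesHomology _ (ModuleCat.restrictScalars.{u} φ)]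
  let e := NatIso.mapHomologicalComplex (erIso φ) (ComplexShape.up ℤ)
  have hn := e.hom.naturality u
  have hi : Arrow.mk ((TR (NA' φ)).map u) ≅
      Arrow.mk (((ModuleCat.extendScalars φ ⋙ ModuleCat.restrictScalars φ).mapHomologicalComplex
        (ComplexShape.up ℤ)).map u) :=
    Arrow.isoMk (e.symm.app L) (e.symm.app C) (by
      show (e.inv.app L) ≫ _ = (TR (NA' φ)).map u ≫ (e.inv.app C)
      exact (e.inv.naturality u).symm)
  haveI := hu
  exact quasiIso_of_arrow_mk_iso _ _ hi

/-- restriction from cochain to chain complexes, on homology -/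
noncomputable def homologyRestrIso (K : Cx A) (i j : ℤ) (hj : -i = j) :
    (toChain K).homology i ≅ K.homology j :=
  K.restrictionHomologyIso embeddingDownIntUpInt (i + 1) i (i - 1)
    (by simp) (by simp)
    (i' := j - 1) (j' := j) (k' := j + 1) (by subst hj; simp; ring) hj (by subst hj; simp; ring)
    (by simp) (by simp)

end Groth.Agent.Lib.BCAlgH2
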