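import Mathlib.Algebra.Category.ModuleCat.ChangeOfRings
import Mathlib.LinearAlgebra.TensorProduct.Tower
import Mathlib.RingTheory.TensorProduct.Basic

/-!
# Helper library (helper2): `ModuleCat.extendScalars (algebraMap A S)` vs `S ⊗[A] M`

`extendScalarsEquivTensor M : (extendScalars (algebraMap A S)).obj M ≃ₗ[S] S ⊗[A] M`.
-/

set_option autoImplicit false
universe u v

namespace Groth.Agent.ExtendScalarsLib

open CategoryTheory TensorProduct ChangeOfRings

lemma smul_compat_of_closure {S X Y : Type*} [Semiring S] [AddCommGroup X] [Module S X]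
    [AddCommGroup Y] [Module S Y] (e : X →+ Y) (gen : Set X)
    (hgen : AddSubgroup.closure gen = ⊤) (h : ∀ (s : S), ∀ x ∈ gen, e (s • x) = s • e x)
    (s : S) (x : X) : e (s • x) = s • e x := by
  have hx : x ∈ AddSubgroup.closure gen := by rw [hgen]; trivial
  induction hx using AddSubgroup.closure_induction with
  | mem x hx => exact h s x hx
  | zero => simp
  | add x y _ _ hx hy => rw [smul_add, map_add, hx, hy, map_add, smul_add]
  | neg x _ hx => rw [smul_neg, map_neg, hx, map_neg, smul_neg]

variable {A : Type u} [CommRing A] {S : Type u} [CommRing S] [Algebra A S] (M : ModuleCat.{v} A)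

/-- `S` with the `A`-module structure through `algebraMap` is `S`. -/
noncomputable def eS :
    ((ModuleCat.restrictScalars (algebraMap A S)).obj (ModuleCat.of S S)) ≃ₗ[A] S where
  toFun := fun s => s
  invFun := fun s => s
  map_add' := fun _ _ => rfl
  map_smul' := fun r s => by
    change (algebraMap A S r) * (show S from s) = r • (show S from s)
    rw [Algebra.smul_def]
  left_inv := fun _ => rfl
  right_inv := fun _ => rfl

noncomputable def e₀ :
    (TensorProduct A ((ModuleCat.restrictScalars (algebraMap A S)).obj (ModuleCat.of S S)) M)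
      ≃ₗ[A] S ⊗[A] M :=
  TensorProduct.congr eS (LinearEquiv.refl A M)

noncomputable def e₀' : ↑((ModuleCat.extendScalars (algebraMap A S)).obj M) ≃+ S ⊗[A] M :=
  (e₀ M).toAddEquiv

lemma e₀'_tmul (a : S) (m : M) : e₀' (S := S) M (a ⊗ₜ[A,algebraMap A S] m) = a ⊗ₜ[A] m := rfl

lemma e₀_smul (s : S) (x : ↑((ModuleCat.extendScalars (algebraMap A S)).obj M)) :
    e₀' M (s • x) = s • e₀' M x := by
  refine smul_compat_of_closure (S := S)
    (X := ↑((ModuleCat.extendScalars (algebraMap A S)).obj M)) (Y := S ⊗[A] M)
    (e₀' M).toAddMonoidHom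
    {x | ∃ (a : S) (m : M), x = a ⊗ₜ[A,algebraMap A S] m} ?_ ?_ s x
  · rw [eq_top_iff]
    intro x _
    refine TensorProduct.induction_on
      (motive := fun x => x ∈ AddSubgroup.closure
        {x : ↑((ModuleCat.extendScalars (algebraMap A S)).obj M) |
          ∃ (a : S) (m : M), x = a ⊗ₜ[A,algebraMap A S] m}) x ?_ ?_ ?_
    · exact zero_mem _
    · intro a m
      exact AddSubgroup.subset_closure ⟨a, m, rfl⟩
    · intro x y hx hy
      exact add_mem hx hy
  · rintro s x ⟨a, m, rfl⟩
    rfl

/-- The `S`-linear identification of `(extendScalars (algebraMap A S)).obj M` with `S ⊗[A] M`. -/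
noncomputable def extendScalarsEquivTensor :
    ((ModuleCat.extendScalars (algebraMap A S)).obj M) ≃ₗ[S] S ⊗[A] M where
  toFun := e₀' M
  invFun := (e₀' M).symm
  map_add' := (e₀' M).map_add
  map_smul' := fun s x => e₀_smul M s x
  left_inv := (e₀' M).left_inv
  right_inv := (e₀' M).right_inv

lemma extendScalarsEquivTensor_tmul (a : S) (m : M) :
    extendScalarsEquivTensor (S := S) M (a ⊗ₜ[A,algebraMap A S] m) = a ⊗ₜ[A] m := rfl

end Groth.Agent.ExtendScalarsLib
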