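import Mathlib
import Groth.Prelude
import Groth.Agent.Lib.BCCx4_helper2
import Groth.Agent.Lib.BCMain1_helper2
import Groth.Agent.Lib.FlatBC2_helper2
import Groth.Agent.Lib.LimHomGlue_helper2
import Groth.Agent.Lib.ExtendScalars_helper2

/-!
# Base change of the Čech complex (helper2)

For `X' = X ×_{Spec A} Spec A'`, a finite affine cover `𝒰` of `X` with affine intersections and `F`
quasi-coherent on `X`: the Čech complex of `g'^* F` for the preimage cover is the base change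
`A' ⊗_A Č(𝒰, F)` of the Čech complex of `F`.
APPEND-ONLY once landed.
-/

set_option autoImplicit false
universe u
open CategoryTheory Limits AlgebraicGeometry TopologicalSpace Opposite TensorProduct ChangeOfRings

namespace Groth.Agent.Lib.BCBaseH2

open Groth.Agent.Lib.CechSite Groth.Agent.Lib.BCCechH2 Groth.Agent.Lib.BCSecH2
  Groth.Agent.Lib.BCExtH2 Groth.Agent.Lib.BCCxH2 QcqsLoc Groth.Agent.Lib.FormalFnH2
  Groth.Agent.Lib.FlatBCH2 Groth.Agent.ExtendScalarsLib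

section Pre

variable {X X' : Scheme.{u}} (g' : X' ⟶ X) {ι : Type u} (𝒰 : ι → X.Opens)

/-- the preimage family -/
def pre : ι → X'.Opens := fun i => g' ⁻¹ᵁ 𝒰 i

/-- the pulled back module -/
noncomputable abbrev PB (F : X.Modules) : X'.Modules := (Scheme.Modules.pullback g').obj F

lemma preimage_iInf_fin {κ : Type*} [Finite κ] (W : κ → X.Opens) :
    g' ⁻¹ᵁ (⨅ k, W k) = ⨅ k, g' ⁻¹ᵁ W k := by
  apply Opens.ext
  rw [Opens.coe_iInf]
  show g' ⁻¹' (((⨅ k, W k : X.Opens)) : Set X) = _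
  rw [Opens.coe_iInf, Set.preimage_iInter]
  rfl

lemma preimage_biInf [Finite ι] (s : Finset ι) :
    g' ⁻¹ᵁ (⨅ i ∈ s, 𝒰 i) = ⨅ i ∈ s, pre g' 𝒰 i := by
  rw [preimage_iInf_fin]
  refine iInf_congr fun i => ?_
  by_cases hi : i ∈ s
  · rw [iInf_pos hi, iInf_pos hi]
    rfl
  · rw [iInf_neg hi, iInf_neg hi]
    rfl

lemma VV_pre {n : ℕ} (σ : Fin n → ι) : VV (pre g' 𝒰) σ = g' ⁻¹ᵁ VV 𝒰 σ := by
  show (T (Yt (X := X'.toTopCat) (pre g' 𝒰)) σ).left = g' ⁻¹ᵁ (T (Yt (X := X.toTopCat) 𝒰) σ).left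
  rw [T_left_eq, T_left_eq, preimage_iInf_fin]
  rfl

lemma hcov_pre (hcov : ⨆ i, 𝒰 i = ⊤) : ⨆ i, pre g' 𝒰 i = ⊤ := by
  have h := Scheme.Hom.preimage_iSup g' 𝒰
  rw [hcov] at h
  exact h.symm.trans rfl

end Pre

section Geo

variable {A A' : Type u} [CommRing A] [CommRing A'] [Algebra A A']
  {X X' : Scheme.{u}} [X.Over (Spec (CommRingCat.of A))] [X'.Over (Spec (CommRingCat.of A'))]
  {g' : X' ⟶ X}
  (hsq : IsPullback g' (X' ↘ Spec (CommRingCat.of A')) (X ↘ Spec (CommRingCat.of A))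
    (Spec.map (CommRingCat.ofHom (algebraMap A A'))))

include hsq in
lemma hU_pre {ι : Type u} [Finite ι] (𝒰 : ι → X.Opens)
    (hU : ∀ s : Finset ι, s.Nonempty → IsAffineOpen (⨅ i ∈ s, 𝒰 i)) :
    ∀ s : Finset ι, s.Nonempty → IsAffineOpen (⨅ i ∈ s, pre g' 𝒰 i) := by
  intro s hs
  rw [← preimage_biInf]
  exact (isPushout_ring' hsq (hU s hs)).1

variable (F : X.Modules) [F.IsQuasicoherent]

include hsq in
theorem exists_bcEquiv {V : X.Opens} (hV : IsAffineOpen V) {V' : X'.Opens}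
    (hV' : V' = g' ⁻¹ᵁ V) :
    ∃ e : A' ⊗[A] SecA A F V ≃ₗ[A'] SecA A' (PB g' F) V',
      ∀ (a' : A') (x : SecA A F V), e (a' ⊗ₜ[A] x) =
        a' • (show SecA A' (PB g' F) V' from
          PBH8.cUV g' F (le_of_eq hV') (show Γ(F, V) from x)) := by
  subst hV'
  obtain ⟨-, hpo⟩ := isPushout_ring' hsq hV
  have hcomm0 := congrArg CommRingCat.Hom.hom hpo.w
  have hcomm : ∀ a : A, (g'.appLE V (g' ⁻¹ᵁ V) (le_refl _)).hom (rUHom (A := A) V a) =
      rUHom (A := A') (g' ⁻¹ᵁ V) (algebraMap A A' a) := fun a => RingHom.congr_fun hcomm0 a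
  letI m1 := secMod A F V
  letI m2 := secMod A' (PB g' F) (g' ⁻¹ᵁ V)
  letI m3 := secModA A A' (PB g' F) (g' ⁻¹ᵁ V)
  haveI t := secTower A A' (PB g' F) (g' ⁻¹ᵁ V)
  let c : Γ(F, V) →ₗ[A] Γ(PB g' F, g' ⁻¹ᵁ V) :=
    { toFun := fun x => PBH8.cUV g' F (le_refl _) x
      map_add' := fun x y => PBH8.cUV_add g' F _ x y
      map_smul' := fun a x => by
        show PBH8.cUV g' F (le_refl _) (rUHom (A := A) V a • x) =
          rUHom (A := A') (g' ⁻¹ᵁ V) (algebraMap A A' a) • PBH8.cUV g' F (le_refl _) x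
        rw [PBH8.cUV_smul, ← hcomm] }
  have hbc := isBaseChange_cUV_affine hsq F hV c (fun m => rfl)
  exact ⟨hbc.equiv, fun a' x => hbc.equiv_tmul a' x⟩

/-- sections over the preimage of an affine open are the base change of the sections -/
noncomputable def bcEquiv {V : X.Opens} (hV : IsAffineOpen V) {V' : X'.Opens}
    (hV' : V' = g' ⁻¹ᵁ V) : A' ⊗[A] SecA A F V ≃ₗ[A'] SecA A' (PB g' F) V' :=
  Classical.choose (exists_bcEquiv hsq F hV hV')

lemma bcEquiv_tmul {V : X.Opens} (hV : IsAffineOpen V) {V' : X'.Opens}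
    (hV' : V' = g' ⁻¹ᵁ V) (a' : A') (x : SecA A F V) :
    bcEquiv hsq F hV hV' (a' ⊗ₜ[A] x) =
      a' • (show SecA A' (PB g' F) V' from
        PBH8.cUV g' F (le_of_eq hV') (show Γ(F, V) from x)) :=
  Classical.choose_spec (exists_bcEquiv hsq F hV hV') a' x

end Geo

section Cx

variable {A A' : Type u} [CommRing A] [CommRing A'] [Algebra A A']
  {X X' : Scheme.{u}} [X.Over (Spec (CommRingCat.of A))] [X'.Over (Spec (CommRingCat.of A'))]
  {g' : X' ⟶ X}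
  (hsq : IsPullback g' (X' ↘ Spec (CommRingCat.of A')) (X ↘ Spec (CommRingCat.of A))
    (Spec.map (CommRingCat.ofHom (algebraMap A A'))))
  {ι : Type u} [Fintype ι] [DecidableEq ι] (𝒰 : ι → X.Opens)
  (hU : ∀ s : Finset ι, s.Nonempty → IsAffineOpen (⨅ i ∈ s, 𝒰 i))
  (F : X.Modules) [F.IsQuasicoherent]

variable (A A') in
/-- the comparison map on sections over an intersection -/
noncomputable def cS {n : ℕ} (σ : Fin n → ι) :
    SecA A F (VV 𝒰 σ) →+ SecA A' (PB g' F) (VV (pre g' 𝒰) σ) :=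
  AddMonoidHom.mk' (fun x => (show SecA A' (PB g' F) (VV (pre g' 𝒰) σ) from
      PBH8.cUV g' F (le_of_eq (VV_pre g' 𝒰 σ)) (show Γ(F, VV 𝒰 σ) from x)))
    (fun x y => PBH8.cUV_add g' F _ x y)

lemma cS_apply {n : ℕ} (σ : Fin n → ι) (x : SecA A F (VV 𝒰 σ)) :
    cS A A' 𝒰 F σ x = (show SecA A' (PB g' F) (VV (pre g' 𝒰) σ) from
      PBH8.cUV g' F (le_of_eq (VV_pre g' 𝒰 σ)) (show Γ(F, VV 𝒰 σ) from x)) := rfl

lemma cS_res {n : ℕ} (σ : Fin (n + 2) → ι) (k : Fin (n + 2))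
    (y : SecA A F (VV 𝒰 (σ ∘ k.succAbove))) :
    cS A A' (g' := g') 𝒰 F σ (resA A F (face_le 𝒰 σ k) y) =
      resA A' (PB g' F) (face_le (pre g' 𝒰) σ k) (cS A A' 𝒰 F (σ ∘ k.succAbove) y) :=
  Groth.Agent.Lib.LimMod.cUV_res_base g' F (le_of_eq (VV_pre g' 𝒰 (σ ∘ k.succAbove)))
    (le_of_eq (VV_pre g' 𝒰 σ)) (face_le (pre g' 𝒰) σ k) (face_le 𝒰 σ k) y

variable (A A') in
/-- the comparison map on cochains -/
noncomputable def cC (n : ℕ) : Cn A 𝒰 F n →+ Cn A' (pre g' 𝒰) (PB g' F) n :=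
  AddMonoidHom.mk' (fun β σ => cS A A' 𝒰 F σ (β σ))
    (fun β β' => funext fun σ => map_add (cS A A' 𝒰 F σ) (β σ) (β' σ))

lemma cC_apply (n : ℕ) (β : Cn A 𝒰 F n) (σ : Fin (n + 1) → ι) :
    cC A A' (g' := g') 𝒰 F n β σ = cS A A' 𝒰 F σ (β σ) := rfl

lemma cC_dA (n : ℕ) (β : Cn A 𝒰 F n) :
    cC A A' (g' := g') 𝒰 F (n + 1) (dA A 𝒰 F n β) =
      dA A' (pre g' 𝒰) (PB g' F) n (cC A A' 𝒰 F n β) := by
  funext σ
  rw [cC_apply, dA_apply, dA_apply, map_sum]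
  refine Finset.sum_congr rfl fun k _ => ?_
  rw [map_zsmul, cS_res]
  rfl

/-- the base change of the module of cochains is the module of cochains of the pullback -/
noncomputable def EB (n : ℕ) :
    ↑((ModuleCat.extendScalars (algebraMap A A')).obj (ModuleCat.of A (Cn A 𝒰 F n))) ≃ₗ[A']
      Cn A' (pre g' 𝒰) (PB g' F) n :=
  (extendScalarsEquivTensor (S := A') (ModuleCat.of A (Cn A 𝒰 F n))).trans
    ((TensorProduct.piRight A A' A' (fun σ : Fin (n + 1) → ι => SecA A F (VV 𝒰 σ))).trans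
      (LinearEquiv.piCongrRight fun σ =>
        bcEquiv hsq F (isAffineOpen_T_left 𝒰 hU σ) (VV_pre g' 𝒰 σ)))

lemma EB_tmul (n : ℕ) (a' : A') (β : Cn A 𝒰 F n) :
    EB hsq 𝒰 hU F n (a' ⊗ₜ[A, algebraMap A A'] (show ↑(ModuleCat.of A (Cn A 𝒰 F n)) from β)) =
      a' • cC A A' 𝒰 F n β := by
  funext σ
  show bcEquiv hsq F (isAffineOpen_T_left 𝒰 hU σ) (VV_pre g' 𝒰 σ)
    ((TensorProduct.piRight A A' A' (fun σ : Fin (n + 1) → ι => SecA A F (VV 𝒰 σ)))
      (a' ⊗ₜ[A] β) σ) = a' • cS A A' 𝒰 F σ (β σ)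
  rw [TensorProduct.piRight_apply, TensorProduct.piRightHom_tmul]
  exact bcEquiv_tmul hsq F _ _ a' (β σ)

/-- the components of the isomorphism of complexes -/
noncomputable def bcIsoX : ∀ i : ℤ,
    (CohIII.bcCx (algebraMap A A') (CC A 𝒰 F)).X i ≅ (CC A' (pre g' 𝒰) (PB g' F)).X i
  | Int.ofNat n => (EB hsq 𝒰 hU F n).toModuleIso
  | Int.negSucc n => IsZero.iso
      ((ModuleCat.extendScalars (algebraMap A A')).map_isZero (isZero_CC_negSucc A 𝒰 F n))
      (isZero_CC_negSucc A' (pre g' 𝒰) (PB g' F) n)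

/-- **base change of the Čech complex** -/
noncomputable def bcIso :
    CohIII.bcCx (algebraMap A A') (CC A 𝒰 F) ≅ CC A' (pre g' 𝒰) (PB g' F) :=
  HomologicalComplex.Hom.isoOfComponents (bcIsoX hsq 𝒰 hU F) (by
    intro i j hij
    have hj : i + 1 = j := hij
    subst hj
    cases i with
    | ofNat n =>
      show (EB hsq 𝒰 hU F n).toModuleIso.hom ≫
          (CC A' (pre g' 𝒰) (PB g' F)).d (Int.ofNat n) (Int.ofNat (n + 1)) =
        (ModuleCat.extendScalars (algebraMap A A')).map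
          ((CC A 𝒰 F).d (Int.ofNat n) (Int.ofNat (n + 1))) ≫
          (EB hsq 𝒰 hU F (n + 1)).toModuleIso.hom
      rw [CC_d, CC_d]
      refine ModuleCat.ExtendScalars.hom_ext (fun β => ?_)
      show dA A' (pre g' 𝒰) (PB g' F) n (EB hsq 𝒰 hU F n ((1 : A') ⊗ₜ[A, algebraMap A A'] β)) =
        EB hsq 𝒰 hU F (n + 1)
          ((ModuleCat.extendScalars (algebraMap A A')).map (ModuleCat.ofHom (dA A 𝒰 F n))
            ((1 : A') ⊗ₜ[A, algebraMap A A'] β))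
      rw [ModuleCat.ExtendScalars.map_tmul]
      have h1 := EB_tmul hsq 𝒰 hU F n (1 : A') β
      have h2 := EB_tmul hsq 𝒰 hU F (n + 1) (1 : A') (dA A 𝒰 F n β)
      rw [one_smul] at h1 h2
      refine (congrArg (dA A' (pre g' 𝒰) (PB g' F) n) h1).trans ?_
      refine Eq.trans ?_ h2.symm
      exact (cC_dA 𝒰 F n β).symm
    | negSucc n =>
      exact IsZero.eq_of_src ((ModuleCat.extendScalars (algebraMap A A')).map_isZero
        (isZero_CC_negSucc A 𝒰 F n)) _ _)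

end Cx

end Groth.Agent.Lib.BCBaseH2
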