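import Mathlib
import Groth.Prelude
import Groth.Agent.Lib.BCMain1_helper2
import Groth.Agent.Lib.BCAlg4_helper2

/-!
# Cohomology and base change: chain-complex form and transport lemmas
-/

set_option autoImplicit false
universe u
open CategoryTheory Limits AlgebraicGeometry TopologicalSpace Opposite TensorProduct

namespace Groth.Agent.Lib.BCMainH2

open Groth.Agent.Lib.BCAlgH2

/-- **The Grothendieck complex, chain-complex form.** -/
theorem mainChain (A : Type u) [CommRing A] [IsNoetherianRing A] (X : Scheme.{u})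
    [X.Over (Spec (CommRingCat.of A))] [IsProper (X ↘ Spec (CommRingCat.of A))]
    (F : X.Modules) (hF : Coh.IsCoh F)
    (hfl : FlatMod.IsFlatOver (X ↘ Spec (CommRingCat.of A)) F) :
    ∃ P : ChainComplex (ModuleCat.{u} A) ℤ,
      (∀ i, Module.Finite A (P.X i) ∧ Module.Free A (P.X i)) ∧
      (∃ b : ℤ, ∀ i, i < b → IsZero (P.X i)) ∧
      ∀ p : ℕ, Nonempty (CohIII.tensorAFunctor A F ⋙ CohIII.HAb X p ≅
        CohIII.TFun P (-(p : ℤ)) ⋙ forget₂ (ModuleCat.{u} A) AddCommGrpCat.{u}) := by
  obtain ⟨L, hL, ⟨b, hb⟩, hiso⟩ := main A X F hF hfl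
  refine ⟨toChain L, fun i => hL (-i), ⟨-b, fun i hi => hb (-i) (by omega)⟩, fun p => ?_⟩
  obtain ⟨e⟩ := hiso p
  have h : -(-(p : ℤ)) = (p : ℤ) := neg_neg _
  exact ⟨e ≪≫ Functor.isoWhiskerRight
    ((TFunRestr L (-(p : ℤ)) ≪≫ eqToIso (congrArg (CohIII.TFun L) h)).symm) _⟩

section Transport

variable {A : Type u} [CommRing A]

instance : (forget₂ (ModuleCat.{u} A) AddCommGrpCat.{u}).PreservesEpimorphisms where
  preserves f hf := by
    rw [AddCommGrpCat.epi_iff_surjective]
    exact (ModuleCat.epi_iff_surjective f).1 hf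

instance : (forget₂ (ModuleCat.{u} A) AddCommGrpCat.{u}).PreservesMonomorphisms where
  preserves f hf := by
    rw [AddCommGrpCat.mono_iff_injective]
    exact (ModuleCat.mono_iff_injective f).1 hf

variable {G : ModuleCat.{u} A ⥤ AddCommGrpCat.{u}} {T : ModuleCat.{u} A ⥤ ModuleCat.{u} A}
  (e : G ≅ T ⋙ forget₂ (ModuleCat.{u} A) AddCommGrpCat.{u})

include e in
lemma presEpi_iff : G.PreservesEpimorphisms ↔ T.PreservesEpimorphisms := by
  constructor
  · intro h
    haveI : (T ⋙ forget₂ (ModuleCat.{u} A) AddCommGrpCat.{u}).PreservesEpimorphisms :=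
      Functor.PreservesEpimorphisms.of_iso e
    exact Functor.preservesEpimorphisms_of_preserves_of_reflects T
      (forget₂ (ModuleCat.{u} A) AddCommGrpCat.{u})
  · intro h
    haveI : (T ⋙ forget₂ (ModuleCat.{u} A) AddCommGrpCat.{u}).PreservesEpimorphisms :=
      inferInstance
    exact Functor.PreservesEpimorphisms.of_iso e.symm

include e in
lemma presMono_iff : G.PreservesMonomorphisms ↔ T.PreservesMonomorphisms := by
  constructor
  · intro h
    haveI : (T ⋙ forget₂ (ModuleCat.{u} A) AddCommGrpCat.{u}).PreservesMonomorphisms :=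
      Functor.PreservesMonomorphisms.of_iso e
    exact Functor.preservesMonomorphisms_of_preserves_of_reflects T
      (forget₂ (ModuleCat.{u} A) AddCommGrpCat.{u})
  · intro h
    haveI : (T ⋙ forget₂ (ModuleCat.{u} A) AddCommGrpCat.{u}).PreservesMonomorphisms :=
      inferInstance
    exact Functor.PreservesMonomorphisms.of_iso e.symm

include e in
lemma surj_iff {M N : ModuleCat.{u} A} (f : M ⟶ N) :
    Function.Surjective (G.map f).hom ↔ Function.Surjective (T.map f).hom := by
  have hn := e.hom.naturality f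
  have h1 : Function.Bijective (e.hom.app M).hom :=
    ConcreteCategory.bijective_of_isIso (e.hom.app M)
  have h2 : Function.Bijective (e.hom.app N).hom :=
    ConcreteCategory.bijective_of_isIso (e.hom.app N)
  have hn' : ∀ x, (e.hom.app N).hom ((G.map f).hom x) = (T.map f).hom ((e.hom.app M).hom x) :=
    fun x => congrArg (fun φ => φ.hom x) hn
  constructor
  · intro hs y
    obtain ⟨z, hz⟩ := h2.2 y
    obtain ⟨x, hx⟩ := hs z
    exact ⟨(e.hom.app M).hom x, by rw [← hn', hx, hz]⟩
  · intro hs z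
    obtain ⟨x', hx'⟩ := hs ((e.hom.app N).hom z)
    obtain ⟨x, hx⟩ := h1.2 x'
    refine ⟨x, h2.1 ?_⟩
    rw [hn', hx, hx']

end Transport

end Groth.Agent.Lib.BCMainH2
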