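import Groth.Prelude.Def_ega3
import Mathlib.CategoryTheory.Monoidal.Closed.Braided
import Mathlib.Algebra.Category.ModuleCat.Monoidal.Closed
import Mathlib.RingTheory.Flat.Basic

/-!
# Helper library (helper2): complexes of flat modules, `CohIII.TFun`

* `opcyclesTensorIso P p M : (tensorObj P M).opcycles p ≅ P.opcycles p ⊗ M`, natural in `M`;
* `mono_opcyclesMap_iff`, `TFun_preservesMono_iff_flat_opcycles`.
-/

set_option autoImplicit false
universe u

namespace Groth.Agent.FlatCxLib

open CategoryTheory MonoidalCategory Limits CohIII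

variable {A : Type u} [CommRing A] {ι : Type} {c : ComplexShape ι}

/-- `P.pOpcycles p ▷ M` is a cokernel of `P.d (c.prev p) p ▷ M`. -/
noncomputable def whiskerOpcyclesIsCokernel (P : HomologicalComplex (ModuleCat.{u} A) c) (p : ι)
    (M : ModuleCat.{u} A) :
    IsColimit (CokernelCofork.ofπ (f := P.d (c.prev p) p ▷ M) (P.pOpcycles p ▷ M)
      (by rw [← comp_whiskerRight, P.d_pOpcycles]; exact (tensorRight M).map_zero _ _)) :=
  CokernelCofork.mapIsColimit _ (P.opcyclesIsCokernel (c.prev p) p rfl) (tensorRight M)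

/-- `opcycles (P ⊗ M) ≅ opcycles P ⊗ M`. -/
noncomputable def opcyclesTensorIso (P : HomologicalComplex (ModuleCat.{u} A) c) (p : ι)
    (M : ModuleCat.{u} A) : (tensorObj P M).opcycles p ≅ P.opcycles p ⊗ M :=
  IsColimit.coconePointUniqueUpToIso ((tensorObj P M).opcyclesIsCokernel (c.prev p) p rfl)
    (whiskerOpcyclesIsCokernel P p M)

@[reassoc (attr := simp)]
lemma pOpcycles_opcyclesTensorIso_hom (P : HomologicalComplex (ModuleCat.{u} A) c) (p : ι)
    (M : ModuleCat.{u} A) :
    (tensorObj P M).pOpcycles p ≫ (opcyclesTensorIso P p M).hom = P.pOpcycles p ▷ M :=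
  IsColimit.comp_coconePointUniqueUpToIso_hom
    ((tensorObj P M).opcyclesIsCokernel (c.prev p) p rfl)
    (whiskerOpcyclesIsCokernel P p M) WalkingParallelPair.one

lemma tensorMap_f (P : HomologicalComplex (ModuleCat.{u} A) c) {M N : ModuleCat.{u} A}
    (g : M ⟶ N) (i : ι) : (tensorMap P g).f i = P.X i ◁ g := rfl

@[reassoc]
lemma opcyclesTensorIso_hom_naturality (P : HomologicalComplex (ModuleCat.{u} A) c) (p : ι)
    {M N : ModuleCat.{u} A} (g : M ⟶ N) :
    HomologicalComplex.opcyclesMap (tensorMap P g) p ≫ (opcyclesTensorIso P p N).hom =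
      (opcyclesTensorIso P p M).hom ≫ (P.opcycles p ◁ g) := by
  rw [← cancel_epi ((tensorObj P M).pOpcycles p), HomologicalComplex.p_opcyclesMap_assoc,
    pOpcycles_opcyclesTensorIso_hom, pOpcycles_opcyclesTensorIso_hom_assoc, tensorMap_f]
  exact whisker_exchange _ _

lemma mono_opcyclesMap_iff (P : HomologicalComplex (ModuleCat.{u} A) c) (p : ι)
    {M N : ModuleCat.{u} A} (g : M ⟶ N) :
    Mono (HomologicalComplex.opcyclesMap (tensorMap P g) p) ↔ Mono (P.opcycles p ◁ g) := by
  constructor
  · intro h
    have : P.opcycles p ◁ g = (opcyclesTensorIso P p M).inv ≫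
        HomologicalComplex.opcyclesMap (tensorMap P g) p ≫ (opcyclesTensorIso P p N).hom := by
      rw [opcyclesTensorIso_hom_naturality, Iso.inv_hom_id_assoc]
    rw [this]
    infer_instance
  · intro h
    have : HomologicalComplex.opcyclesMap (tensorMap P g) p = (opcyclesTensorIso P p M).hom ≫
        (P.opcycles p ◁ g) ≫ (opcyclesTensorIso P p N).inv := by
      rw [← opcyclesTensorIso_hom_naturality_assoc, Iso.hom_inv_id, Category.comp_id]
    rw [this]
    infer_instance

/-- Flatness of `Q` in terms of whiskering in `ModuleCat`. -/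
lemma flat_iff_mono_whiskerLeft (Q : ModuleCat.{u} A) :
    Module.Flat A Q ↔ ∀ {M N : ModuleCat.{u} A} (g : M ⟶ N), Mono g → Mono (Q ◁ g) := by
  rw [Module.Flat.iff_lTensor_preserves_injective_linearMap]
  constructor
  · intro h M N g hg
    rw [ModuleCat.mono_iff_injective] at hg ⊢
    exact h g.hom hg
  · intro h M N _ _ _ _ f hf
    have := h (ModuleCat.ofHom f) ((ModuleCat.mono_iff_injective _).mpr hf)
    rw [ModuleCat.mono_iff_injective] at this
    exact this

@[reassoc]
lemma opcyclesMap_fromOpcycles {C : Type*} [Category C] [Abelian C]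
    {K L : HomologicalComplex C c} (φ : K ⟶ L) (p q : ι) :
    HomologicalComplex.opcyclesMap φ p ≫ L.fromOpcycles p q = K.fromOpcycles p q ≫ φ.f q := by
  rw [← cancel_epi (K.pOpcycles p), HomologicalComplex.p_opcyclesMap_assoc,
    HomologicalComplex.p_fromOpcycles, HomologicalComplex.p_fromOpcycles_assoc,
    HomologicalComplex.Hom.comm]

/-- If `φ : K ⟶ L` has `H_p(φ)` mono and `φ_{next p}` mono then `opcyclesMap φ p` is mono. -/
lemma mono_opcyclesMap_of_mono_homologyMap {C : Type*} [Category C] [Abelian C]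
    {K L : HomologicalComplex C c} (φ : K ⟶ L) (p : ι)
    [Mono (HomologicalComplex.homologyMap φ p)] [Mono (φ.f (c.next p))] :
    Mono (HomologicalComplex.opcyclesMap φ p) := by
  refine Preadditive.mono_of_cancel_zero _ fun {Z} k hk => ?_
  have h1 : k ≫ K.fromOpcycles p (c.next p) = 0 := by
    rw [← cancel_mono (φ.f (c.next p)), Category.assoc, ← opcyclesMap_fromOpcycles,
      reassoc_of% hk, zero_comp, zero_comp]
  obtain ⟨l, hl⟩ := KernelFork.IsLimit.lift' (K.homologyIsKernel p (c.next p) rfl) k h1
  dsimp at hl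
  have h2 : l ≫ HomologicalComplex.homologyMap φ p = 0 := by
    rw [← cancel_mono (L.homologyι p), Category.assoc, HomologicalComplex.homologyι_naturality,
      reassoc_of% hl, hk, zero_comp]
  have h3 : l = 0 := by
    rw [← cancel_mono (HomologicalComplex.homologyMap φ p), h2, zero_comp]
  rw [← hl, h3, zero_comp]

/-- If `opcyclesMap φ p` is mono then so is `H_p(φ)`. -/
lemma mono_homologyMap_of_mono_opcyclesMap {C : Type*} [Category C] [Abelian C]
    {K L : HomologicalComplex C c} (φ : K ⟶ L) (p : ι)
    [Mono (HomologicalComplex.opcyclesMap φ p)] :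
    Mono (HomologicalComplex.homologyMap φ p) := by
  have : Mono (HomologicalComplex.homologyMap φ p ≫ L.homologyι p) := by
    rw [HomologicalComplex.homologyι_naturality]
    infer_instance
  exact mono_of_mono _ (L.homologyι p)

/-- `T_p = H_p(P ⊗ -)` preserves monomorphisms iff `opcycles P p` is flat, for `P` a complex with
`P.X (next p)` flat. -/
theorem TFun_preservesMono_iff_flat_opcycles (P : HomologicalComplex (ModuleCat.{u} A) c) (p : ι)
    (hP : Module.Flat A (P.X (c.next p))) :
    (TFun P p).PreservesMonomorphisms ↔ Module.Flat A (P.opcycles p) := by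
  rw [flat_iff_mono_whiskerLeft]
  constructor
  · intro h M N g hg
    rw [← mono_opcyclesMap_iff]
    have : Mono (HomologicalComplex.homologyMap (tensorMap P g) p) :=
      h.preserves g
    have : Mono ((tensorMap P g).f (c.next p)) := by
      rw [tensorMap_f]
      exact (flat_iff_mono_whiskerLeft _).mp hP g hg
    exact mono_opcyclesMap_of_mono_homologyMap _ _
  · intro h
    refine ⟨fun {M N} g hg => ?_⟩
    have : Mono (HomologicalComplex.opcyclesMap (tensorMap P g) p) :=
      (mono_opcyclesMap_iff P p g).mpr (h g hg)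
    exact mono_homologyMap_of_mono_opcyclesMap (tensorMap P g) p

end Groth.Agent.FlatCxLib
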