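import Mathlib
import Groth.Prelude.Def_ega3
import Groth.Agent.Lib.FlatCx_helper2
import Groth.Agent.Lib.ExtendScalars_helper2
import Groth.Agent.Lib.TFunLES_helper7

/-!
# Base change of the functors `T_p(M) = H_p(P ⊗ M)` (helper5)

`opcycles` commutes with extension of scalars, so left exactness of `T_p` for the base-changed complex
is flatness of `B ⊗ opcycles`.
-/

set_option autoImplicit false

open CategoryTheory CategoryTheory.Limits MonoidalCategory

universe u

namespace Groth.Agent.TFunBC5

variable {A : Type u} [CommRing A] {B : Type u} [CommRing B] [Algebra A B]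
  {ι : Type} {c : ComplexShape ι} (P : HomologicalComplex (ModuleCat.{u} A) c)

/-- `extendScalars` preserves the cokernel defining `opcycles`. -/
noncomputable def bcOpcyclesIsCokernel (p : ι) :
    IsColimit (CokernelCofork.ofπ
      (f := (ModuleCat.extendScalars (algebraMap A B)).map (P.d (c.prev p) p))
      ((ModuleCat.extendScalars (algebraMap A B)).map (P.pOpcycles p))
      (by rw [← Functor.map_comp, P.d_pOpcycles, Functor.map_zero])) :=
  haveI := (ModuleCat.extendRestrictScalarsAdj (algebraMap A B)).leftAdjoint_preservesColimits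
  CokernelCofork.mapIsColimit _ (P.opcyclesIsCokernel (c.prev p) p rfl)
    (ModuleCat.extendScalars (algebraMap A B))

/-- `opcycles (P_B) ≅ extendScalars (opcycles P)`. -/
noncomputable def opcyclesBcIso (p : ι) :
    (CohIII.bcCx (algebraMap A B) P).opcycles p ≅
      (ModuleCat.extendScalars (algebraMap A B)).obj (P.opcycles p) :=
  IsColimit.coconePointUniqueUpToIso
    ((CohIII.bcCx (algebraMap A B) P).opcyclesIsCokernel (c.prev p) p rfl)
    (bcOpcyclesIsCokernel P p)

lemma flat_opcycles_bc_iff (p : ι) :
    Module.Flat B ((CohIII.bcCx (algebraMap A B) P).opcycles p) ↔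
      Module.Flat B (TensorProduct A B (P.opcycles p)) :=
  Module.Flat.equiv_iff ((opcyclesBcIso (B := B) P p).toLinearEquiv ≪≫ₗ
    Groth.Agent.ExtendScalarsLib.extendScalarsEquivTensor (P.opcycles p))

lemma flat_bc_X (hP : ∀ i, Module.Flat A (P.X i)) (i : ι) :
    Module.Flat B ((CohIII.bcCx (algebraMap A B) P).X i) := by
  haveI := hP i
  exact (Module.Flat.equiv_iff
    (Groth.Agent.ExtendScalarsLib.extendScalarsEquivTensor (S := B) (P.X i))).mpr inferInstance

theorem mono_bc_iff (hP : ∀ i, Module.Flat A (P.X i)) (p : ι) :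
    (CohIII.TFun (CohIII.bcCx (algebraMap A B) P) p).PreservesMonomorphisms ↔
      Module.Flat B (TensorProduct A B (P.opcycles p)) := by
  rw [Groth.Agent.FlatCxLib.TFun_preservesMono_iff_flat_opcycles _ p (flat_bc_X P hP _),
    flat_opcycles_bc_iff]

theorem mono_bc_of_mono (hP : ∀ i, Module.Flat A (P.X i)) (p : ι)
    (h : (CohIII.TFun P p).PreservesMonomorphisms) :
    (CohIII.TFun (CohIII.bcCx (algebraMap A B) P) p).PreservesMonomorphisms := by
  rw [mono_bc_iff P hP p]
  haveI := (Groth.Agent.FlatCxLib.TFun_preservesMono_iff_flat_opcycles P p (hP _)).mp h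
  infer_instance

theorem mono_bc_iff_mono [Module.FaithfullyFlat A B] (hP : ∀ i, Module.Flat A (P.X i)) (p : ι) :
    (CohIII.TFun (CohIII.bcCx (algebraMap A B) P) p).PreservesMonomorphisms ↔
      (CohIII.TFun P p).PreservesMonomorphisms := by
  rw [mono_bc_iff P hP p, Groth.Agent.FlatCxLib.TFun_preservesMono_iff_flat_opcycles P p (hP _)]
  exact Module.Flat.iff_flat_tensorProduct A _ B

theorem mono_loc_iff [IsNoetherianRing A]
    (hP : ∀ i, Module.Finite A (P.X i) ∧ Module.Flat A (P.X i)) (i : ι) (y : PrimeSpectrum A) :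
    (CohIII.TFun (CohIII.bcCx (algebraMap A (Localization.AtPrime y.asIdeal)) P)
      i).PreservesMonomorphisms ↔ y ∈ Module.freeLocus A (P.opcycles i) := by
  rw [mono_bc_iff P (fun i => (hP i).2) i,
    Module.mem_freeLocus_iff_tensor y (Localization.AtPrime y.asIdeal)]
  haveI := (hP i).1
  haveI : Module.Finite A (P.opcycles i) := Module.Finite.of_surjective (P.pOpcycles i).hom
    ((ModuleCat.epi_iff_surjective _).mp inferInstance)
  constructor
  · intro h
    exact Module.free_of_flat_of_isLocalRing
  · intro h
    exact Module.Flat.of_free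

section chain

variable (P : ChainComplex (ModuleCat.{u} A) ℤ)

theorem s12120 (hP : ∀ i, Module.Flat A (P.X i)) (B : Type u) [CommRing B] [Algebra A B] (p : ℤ) :
    ((CohIII.TFun P p).PreservesEpimorphisms →
        (CohIII.TFun (CohIII.bcCx (algebraMap A B) P) p).PreservesEpimorphisms) ∧
      ((CohIII.TFun P p).PreservesMonomorphisms →
        (CohIII.TFun (CohIII.bcCx (algebraMap A B) P) p).PreservesMonomorphisms) := by
  refine ⟨fun h => ?_, mono_bc_of_mono P hP p⟩
  have hrel : (ComplexShape.down ℤ).Rel p (p - 1) := by simp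
  rw [Groth.Agent.Lib.TFunLESH7.main _ (flat_bc_X P hP) p (p - 1) hrel]
  exact mono_bc_of_mono P hP _ ((Groth.Agent.Lib.TFunLESH7.main P hP p (p - 1) hrel).mp h)

theorem s2377 (hP : ∀ i, Module.Flat A (P.X i)) (B : Type u) [CommRing B] [Algebra A B]
    [Module.FaithfullyFlat A B] (p : ℤ) :
    ((CohIII.TFun (CohIII.bcCx (algebraMap A B) P) p).PreservesEpimorphisms ↔
        (CohIII.TFun P p).PreservesEpimorphisms) ∧
      ((CohIII.TFun (CohIII.bcCx (algebraMap A B) P) p).PreservesMonomorphisms ↔
        (CohIII.TFun P p).PreservesMonomorphisms) := by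
  refine ⟨?_, mono_bc_iff_mono P hP p⟩
  have hrel : (ComplexShape.down ℤ).Rel p (p - 1) := by simp
  rw [Groth.Agent.Lib.TFunLESH7.main _ (flat_bc_X P hP) p (p - 1) hrel,
    Groth.Agent.Lib.TFunLESH7.main P hP p (p - 1) hrel]
  exact mono_bc_iff_mono P hP _

theorem epi_loc_iff [IsNoetherianRing A]
    (hP : ∀ i, Module.Finite A (P.X i) ∧ Module.Flat A (P.X i)) (p : ℤ) (y : PrimeSpectrum A) :
    (CohIII.TFun (CohIII.bcCx (algebraMap A (Localization.AtPrime y.asIdeal)) P)
      p).PreservesEpimorphisms ↔ y ∈ Module.freeLocus A (P.opcycles (p - 1)) := by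
  have hrel : (ComplexShape.down ℤ).Rel p (p - 1) := by simp
  rw [Groth.Agent.Lib.TFunLESH7.main _ (flat_bc_X P (fun i => (hP i).2)) p (p - 1) hrel,
    mono_loc_iff P hP]

lemma finitePresentation_opcycles [IsNoetherianRing A]
    (hP : ∀ i, Module.Finite A (P.X i) ∧ Module.Flat A (P.X i)) (i : ℤ) :
    Module.FinitePresentation A (P.opcycles i) := by
  haveI := (hP i).1
  haveI : Module.Finite A (P.opcycles i) := Module.Finite.of_surjective (P.pOpcycles i).hom
    ((ModuleCat.epi_iff_surjective _).mp inferInstance)
  exact Module.finitePresentation_of_finite A _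

theorem s2418 [IsNoetherianRing A]
    (hP : ∀ i, Module.Finite A (P.X i) ∧ Module.Flat A (P.X i)) (p : ℤ) :
    IsOpen {y : PrimeSpectrum A |
      (CohIII.TFun (CohIII.bcCx (algebraMap A (Localization.AtPrime y.asIdeal)) P)
        p).PreservesEpimorphisms} := by
  have : {y : PrimeSpectrum A |
      (CohIII.TFun (CohIII.bcCx (algebraMap A (Localization.AtPrime y.asIdeal)) P)
        p).PreservesEpimorphisms} = Module.freeLocus A (P.opcycles (p - 1)) := by
    ext y
    exact epi_loc_iff P hP p y
  rw [this]
  haveI := finitePresentation_opcycles P hP (p - 1)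
  exact Module.isOpen_freeLocus

lemma generic_mem_freeLocus [IsDomain A] (W : Type u) [AddCommGroup W] [Module A W] :
    (⟨⊥, Ideal.isPrime_bot⟩ : PrimeSpectrum A) ∈ Module.freeLocus A W := by
  haveI : IsLocalization.AtPrime (FractionRing A) (⊥ : Ideal A) := by
    show IsLocalization (⊥ : Ideal A).primeCompl (FractionRing A)
    rw [Ideal.primeCompl_bot]
    infer_instance
  rw [Module.mem_freeLocus_iff_tensor _ (FractionRing A)]
  exact Module.Free.of_divisionRing _ _

theorem s4501 [IsNoetherianRing A] [IsDomain A]
    (hP : ∀ i, Module.Finite A (P.X i) ∧ Module.Flat A (P.X i)) (p : ℤ) :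
    IsOpen {y : PrimeSpectrum A |
        (CohIII.TFun (CohIII.bcCx (algebraMap A (Localization.AtPrime y.asIdeal)) P)
          p).PreservesMonomorphisms ∧
        (CohIII.TFun (CohIII.bcCx (algebraMap A (Localization.AtPrime y.asIdeal)) P)
          p).PreservesEpimorphisms} ∧
      {y : PrimeSpectrum A |
        (CohIII.TFun (CohIII.bcCx (algebraMap A (Localization.AtPrime y.asIdeal)) P)
          p).PreservesMonomorphisms ∧
        (CohIII.TFun (CohIII.bcCx (algebraMap A (Localization.AtPrime y.asIdeal)) P)
          p).PreservesEpimorphisms}.Nonempty := by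
  have : {y : PrimeSpectrum A |
        (CohIII.TFun (CohIII.bcCx (algebraMap A (Localization.AtPrime y.asIdeal)) P)
          p).PreservesMonomorphisms ∧
        (CohIII.TFun (CohIII.bcCx (algebraMap A (Localization.AtPrime y.asIdeal)) P)
          p).PreservesEpimorphisms} =
      Module.freeLocus A (P.opcycles p) ∩ Module.freeLocus A (P.opcycles (p - 1)) := by
    ext y
    exact and_congr (mono_loc_iff P hP p y) (epi_loc_iff P hP p y)
  rw [this]
  haveI := finitePresentation_opcycles P hP (p - 1)
  haveI := finitePresentation_opcycles P hP p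
  exact ⟨Module.isOpen_freeLocus.inter Module.isOpen_freeLocus,
    ⟨_, generic_mem_freeLocus _, generic_mem_freeLocus _⟩⟩

/-- Over a Dedekind domain, `opcycles` is flat iff the homology is. -/
theorem flat_opcycles_iff_flat_homology [IsDedekindDomain A]
    (hP : ∀ i, Module.Flat A (P.X i)) (p : ℤ) :
    Module.Flat A (P.opcycles p) ↔ Module.Flat A (P.homology p) := by
  have hinj : Function.Injective (P.homologyι p).hom :=
    (ModuleCat.mono_iff_injective _).mp inferInstance
  constructor
  · intro h
    haveI : Module.IsTorsionFree A (P.opcycles p) := inferInstance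
    haveI : Module.IsTorsionFree A (P.homology p) :=
      Function.Injective.moduleIsTorsionFree (P.homologyι p).hom hinj
        (fun r m => map_smul _ r m)
    infer_instance
  · intro h
    haveI : Module.IsTorsionFree A (P.homology p) := inferInstance
    haveI := hP ((ComplexShape.down ℤ).next p)
    haveI : Module.IsTorsionFree A (P.X ((ComplexShape.down ℤ).next p)) := inferInstance
    have hS : (ShortComplex.mk (P.homologyι p) (P.fromOpcycles p ((ComplexShape.down ℤ).next p))
        (P.homologyι_comp_fromOpcycles p _)).Exact :=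
      ShortComplex.exact_of_f_is_kernel _ (P.homologyIsKernel p _ rfl)
    haveI : Module.IsTorsionFree A (P.opcycles p) := by
      rw [Module.isTorsionFree_iff_smul_eq_zero]
      intro r w hrw
      by_cases hr : r = 0
      · exact Or.inl hr
      right
      have h1 : (P.fromOpcycles p ((ComplexShape.down ℤ).next p)).hom w = 0 := by
        have h0 : r • (P.fromOpcycles p ((ComplexShape.down ℤ).next p)).hom w = 0 := by
          rw [← map_smul, hrw, map_zero]
        exact (smul_eq_zero.mp h0).resolve_left hr
      obtain ⟨h, rfl⟩ := (ShortComplex.moduleCat_exact_iff _).mp hS w h1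
      have h2 : (P.homologyι p).hom (r • h) = (P.homologyι p).hom 0 := by
        rw [map_smul, map_zero]
        exact hrw
      have h3 : r • h = 0 := hinj h2
      have h4 : h = 0 := (smul_eq_zero.mp h3).resolve_left hr
      show (P.homologyι p).hom h = 0
      rw [h4, map_zero]
    infer_instance

theorem s4489 [IsDedekindDomain A] (hP : ∀ i, Module.Flat A (P.X i)) (p q : ℤ)
    (hpq : q + 1 = p) :
    ((CohIII.TFun P p).PreservesMonomorphisms ↔ Module.Flat A (P.homology p)) ∧
      (((CohIII.TFun P p).PreservesMonomorphisms ∧ (CohIII.TFun P p).PreservesEpimorphisms) ↔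
        (Module.Flat A (P.homology p) ∧ Module.Flat A (P.homology q))) := by
  have key : ∀ i, (CohIII.TFun P i).PreservesMonomorphisms ↔ Module.Flat A (P.homology i) :=
    fun i => by
      rw [Groth.Agent.FlatCxLib.TFun_preservesMono_iff_flat_opcycles P i (hP _),
        flat_opcycles_iff_flat_homology P hP i]
  refine ⟨key p, ?_⟩
  rw [Groth.Agent.Lib.TFunLESH7.main P hP p q hpq, key p, key q]

end chain

end Groth.Agent.TFunBC5
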