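import Mathlib
import Groth.Prelude
import Groth.Agent.Lib.BCBase1_helper2
import Groth.Agent.Lib.BCMain3_helper2
import Groth.Agent.Lib.TFunBC_helper5

/-!
# Base change of the exchange properties (helper2)
APPEND-ONLY once landed.
-/

set_option autoImplicit false
universe u
open CategoryTheory Limits AlgebraicGeometry TopologicalSpace Opposite TensorProduct ChangeOfRings

namespace Groth.Agent.Lib.BCBaseH2

open Groth.Agent.Lib.CechSite Groth.Agent.Lib.BCCechH2 Groth.Agent.Lib.BCSecH2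
  Groth.Agent.Lib.BCExtH2 Groth.Agent.Lib.BCCxH2 QcqsLoc Groth.Agent.Lib.FormalFnH2
  Groth.Agent.Lib.FlatBCH2 Groth.Agent.ExtendScalarsLib Groth.Agent.Lib.BCAlgH2
  Groth.Agent.Lib.BCMainH2

/-- isomorphic complexes have isomorphic `T`-functors -/
noncomputable def TFunCongr {A : Type u} [CommRing A] {L C : Cx A} (e : L ≅ C) (p : ℤ) :
    CohIII.TFun L p ≅ CohIII.TFun C p :=
  TFunIso e.hom (fun M => by
    haveI : IsIso ((TR M).map e.hom) := Functor.map_isIso (TR M) e.hom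
    exact quasiIso_of_isIso _) p

section Cx

variable {A A' : Type u} [CommRing A] [CommRing A'] [Algebra A A']
  {X X' : Scheme.{u}} [X.Over (Spec (CommRingCat.of A))] [X'.Over (Spec (CommRingCat.of A'))]
  {g' : X' ⟶ X}
  (hsq : IsPullback g' (X' ↘ Spec (CommRingCat.of A')) (X ↘ Spec (CommRingCat.of A))
    (Spec.map (CommRingCat.ofHom (algebraMap A A'))))
  {ι : Type u} [Fintype ι] [DecidableEq ι] (𝒰 : ι → X.Opens)
  (hU : ∀ s : Finset ι, s.Nonempty → IsAffineOpen (⨅ i ∈ s, 𝒰 i))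
  (F : X.Modules) [F.IsQuasicoherent] (hcov : ⨆ i, 𝒰 i = ⊤)

/-- `H^p(X', f'^*(M'~) ⊗ g'^*F) ≅ H^p((A' ⊗_A Č(F)) ⊗_{A'} M')`, naturally in `M'` -/
noncomputable def natIsoBC (p : ℕ) :
    CohIII.tensorAFunctor A' (PB g' F) ⋙ CohIII.HAb X' p ≅
      CohIII.TFun (CohIII.bcCx (algebraMap A A') (CC A 𝒰 F)) (Int.ofNat p) ⋙
        forget₂ (ModuleCat.{u} A') AddCommGrpCat.{u} :=
  (natIso A' (pre g' 𝒰) (hU_pre hsq 𝒰 hU) (PB g' F) (hcov_pre g' 𝒰 hcov) p).symm ≪≫
    Functor.isoWhiskerRight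
      (TFunCongr (bcIso hsq 𝒰 hU F).symm (Int.ofNat p)) _

lemma toChain_bcCx (C : Cx A) :
    toChain (CohIII.bcCx (algebraMap A A') C) = CohIII.bcCx (algebraMap A A') (toChain C) := rfl

/-- chain-complex form of `natIsoBC` -/
noncomputable def natIsoBCChain (p : ℕ) :
    CohIII.tensorAFunctor A' (PB g' F) ⋙ CohIII.HAb X' p ≅
      CohIII.TFun (CohIII.bcCx (algebraMap A A') (toChain (CC A 𝒰 F))) (-(p : ℤ)) ⋙
        forget₂ (ModuleCat.{u} A') AddCommGrpCat.{u} :=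
  natIsoBC hsq 𝒰 hU F hcov p ≪≫ Functor.isoWhiskerRight
    ((TFunRestr (CohIII.bcCx (algebraMap A A') (CC A 𝒰 F)) (-(p : ℤ)) ≪≫
      eqToIso (congrArg (CohIII.TFun (CohIII.bcCx (algebraMap A A') (CC A 𝒰 F)))
        (neg_neg (p : ℤ)))).symm) _

/-- chain-complex form of `natIso` -/
noncomputable def natIsoChain (p : ℕ) :
    CohIII.tensorAFunctor A F ⋙ CohIII.HAb X p ≅
      CohIII.TFun (toChain (CC A 𝒰 F)) (-(p : ℤ)) ⋙
        forget₂ (ModuleCat.{u} A) AddCommGrpCat.{u} :=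
  (natIso A 𝒰 hU F hcov p).symm ≪≫ Functor.isoWhiskerRight
    ((TFunRestr (CC A 𝒰 F) (-(p : ℤ)) ≪≫
      eqToIso (congrArg (CohIII.TFun (CC A 𝒰 F)) (neg_neg (p : ℤ)))).symm) _

end Cx

/-- **S12138** -/
theorem main12138 (A A' : Type u) [CommRing A] [IsNoetherianRing A]
    [CommRing A'] [Algebra A A'] (X X' : Scheme.{u}) [X.Over (Spec (CommRingCat.of A))]
    [X'.Over (Spec (CommRingCat.of A'))] [IsProper (X ↘ Spec (CommRingCat.of A))] (g' : X' ⟶ X)
    (hsq : IsPullback g' (X' ↘ Spec (CommRingCat.of A')) (X ↘ Spec (CommRingCat.of A))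
      (Spec.map (CommRingCat.ofHom (algebraMap A A'))))
    (F : X.Modules) (hF : Coh.IsCoh F)
    (hfl : FlatMod.IsFlatOver (X ↘ Spec (CommRingCat.of A)) F) (p : ℕ) :
    ((CohIII.tensorAFunctor A F ⋙ CohIII.HAb X p).PreservesEpimorphisms →
        (CohIII.tensorAFunctor A' ((Scheme.Modules.pullback g').obj F) ⋙
          CohIII.HAb X' p).PreservesEpimorphisms) ∧
      ((CohIII.tensorAFunctor A F ⋙ CohIII.HAb X p).PreservesMonomorphisms →
        (CohIII.tensorAFunctor A' ((Scheme.Modules.pullback g').obj F) ⋙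
          CohIII.HAb X' p).PreservesMonomorphisms) := by
  classical
  haveI : F.IsQuasicoherent := hF.1
  haveI : CompactSpace X :=
    QuasiCompact.compactSpace_of_compactSpace (X ↘ Spec (CommRingCat.of A))
  obtain ⟨t, U', hU', hcov'⟩ := exists_affine_cover X
  have hd : ∀ V W : X.Opens, IsAffineOpen V → IsAffineOpen W → IsAffineOpen (V ⊓ W) :=
    inf_affine_of_separated (X ↘ Spec (CommRingCat.of A))
  let 𝒰 : ULift.{u} (Fin t) → X.Opens := fun i => U' i.down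
  have hcov : ⨆ i, 𝒰 i = ⊤ := by
    rw [eq_top_iff, ← hcov']
    exact iSup_le fun i => le_iSup 𝒰 ⟨i⟩
  have hU := isAffineOpen_biInf hd 𝒰 (fun i => hU' i.down)
  have hP : ∀ i, Module.Flat A ((toChain (CC A 𝒰 F)).X i) := fun i =>
    flat_CC A 𝒰 hU F hfl (-i)
  have key := Groth.Agent.TFunBC5.s12120 (toChain (CC A 𝒰 F)) hP A' (-(p : ℤ))
  have e1 := natIsoChain (A := A) 𝒰 hU F hcov p
  have e2 := natIsoBCChain hsq 𝒰 hU F hcov p
  exact ⟨fun h1 => (presEpi_iff e2).2 (key.1 ((presEpi_iff e1).1 h1)),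
    fun h1 => (presMono_iff e2).2 (key.2 ((presMono_iff e1).1 h1))⟩

end Groth.Agent.Lib.BCBaseH2
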