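import Mathlib
import Groth.Prelude
import Groth.Agent.Lib.BCMain3_helper2
import Groth.Agent.Lib.LimModDict_helper2
import Groth.Agent.Lib.FormalModPow_helper4

/-!
# The `A`-module structure on `H^p(X, f^*(M~) ⊗ F)` is the functorial one; natural isomorphisms are
`A`-linear
-/

set_option autoImplicit false
universe u
open CategoryTheory Limits AlgebraicGeometry TopologicalSpace Opposite TensorProduct

namespace Groth.Agent.Lib.BCMainH2

open Groth.Agent.Lib.BCSecH2 Groth.Agent.Lib.BCCxH2 Groth.Agent.Lib.FormalFnH2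
  Groth.Agent.Lib.FlatBCH2

section

variable (A : Type u) [CommRing A] {X : Scheme.{u}} [X.Over (Spec (CommRingCat.of A))]
  (F : X.Modules) [F.IsQuasicoherent]

/-- `f^*(a~) ⊗ F` is multiplication by `a` -/
theorem map_smul_eq (M : ModuleCat.{u} A) (a : A) :
    (CohIII.tensorAFunctor A F).map (a • 𝟙 M) = Formal.smulMod A (GM A F M) a := by
  refine Groth.Agent.Lib.LimMod.hom_eq_of_affine_cover (F := GM A F M) (G := GM A F M) _ _
    (fun x => ?_)
  obtain ⟨_, ⟨V, hV, rfl⟩, hxV, -⟩ :=
    X.isBasis_affineOpens.exists_subset_of_mem_open (Set.mem_univ x) isOpen_univ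
  refine ⟨V, hV, hxV, fun s => ?_⟩
  obtain ⟨t, rfl⟩ := (theta_bijective A F hV M).2 s
  have h1 := LinearMap.congr_fun (theta_natural A F V (a • 𝟙 M)) t
  have h2 : LinearMap.lTensor (SecA A F V) (a • 𝟙 M : M ⟶ M).hom t = a • t := by
    have : (a • 𝟙 M : M ⟶ M).hom = a • LinearMap.id := rfl
    rw [this, LinearMap.lTensor_smul, LinearMap.lTensor_id]
    rfl
  have h3 : (theta A F V M ∘ₗ LinearMap.lTensor (SecA A F V) (a • 𝟙 M : M ⟶ M).hom) t =
      a • theta A F V M t := by
    show theta A F V M (LinearMap.lTensor (SecA A F V) (a • 𝟙 M : M ⟶ M).hom t) = _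
    rw [h2, map_smul]
  exact h1.trans h3

/-- the `A`-action on `H^p(X, f^*(M~) ⊗ F)` is induced by functoriality in `M` -/
theorem HH_smul_eq_map (M : ModuleCat.{u} A) (p : ℕ) (a : A)
    (x : Coh.HH X (GM A F M) p) :
    a • x = ((CohIII.tensorAFunctor A F ⋙ CohIII.HAb X p).map (a • 𝟙 M)).hom x := by
  show Sheaf.H.map (Coh.smulAb (GM A F M) (Coh.toGlobal (X ↘ Spec (CommRingCat.of A)) a)) p x =
    Sheaf.H.map ((SheafOfModules.toSheaf X.ringCatSheaf).map
      ((CohIII.tensorAFunctor A F).map (a • 𝟙 M))) p x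
  rw [map_smul_eq]
  rfl

end

section

variable {A : Type u} [CommRing A] {ι : Type} {c : ComplexShape ι}

omit [CommRing A] in
lemma homologyMap_smul_id' {R : Type u} [CommRing R] (K : HomologicalComplex (ModuleCat.{u} R) c)
    (a : R) (i : ι) :
    HomologicalComplex.homologyMap (a • 𝟙 K) i = a • 𝟙 _ := by
  have h1 : (HomologicalComplex.shortComplexFunctor (ModuleCat.{u} R) c i).map (a • 𝟙 K) =
      a • 𝟙 _ := by
    ext <;> rfl
  have h3 : HomologicalComplex.homologyMap (a • 𝟙 K) i =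
      ShortComplex.homologyMap
        ((HomologicalComplex.shortComplexFunctor (ModuleCat.{u} R) c i).map (a • 𝟙 K)) := rfl
  rw [h3, h1, ShortComplex.homologyMap_smul, ShortComplex.homologyMap_id]
  rfl

lemma tensorMap_smul_id (P : HomologicalComplex (ModuleCat.{u} A) c) (M : ModuleCat.{u} A)
    (a : A) : CohIII.tensorMap P (a • 𝟙 M) = a • 𝟙 (CohIII.tensorObj P M) := by
  apply HomologicalComplex.hom_ext
  intro i
  have h : (CohIII.tensorMap P (a • 𝟙 M)).f i = MonoidalCategory.whiskerLeft (P.X i) (a • 𝟙 M) :=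
    rfl
  rw [h]
  apply ModuleCat.hom_ext
  have h2 : (MonoidalCategory.whiskerLeft (P.X i) (a • 𝟙 M)).hom =
      LinearMap.lTensor (P.X i) (a • LinearMap.id) := rfl
  rw [h2, LinearMap.lTensor_smul, LinearMap.lTensor_id]
  rfl

/-- the functor `M ↦ H_q(P ⊗ M)` is `A`-linear -/
theorem TFun_map_smul (P : HomologicalComplex (ModuleCat.{u} A) c) (q : ι) (M : ModuleCat.{u} A)
    (a : A) (y : CohIII.T P q M) : ((CohIII.TFun P q).map (a • 𝟙 M)).hom y = a • y := by
  have h : (CohIII.TFun P q).map (a • 𝟙 M) =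
      HomologicalComplex.homologyMap (CohIII.tensorMap P (a • 𝟙 M)) q := rfl
  rw [h, tensorMap_smul_id, homologyMap_smul_id']
  rfl

end

section

variable (A : Type u) [CommRing A] {X : Scheme.{u}} [X.Over (Spec (CommRingCat.of A))]
  (F : X.Modules) [F.IsQuasicoherent] {ι : Type} {c : ComplexShape ι}
  {P : HomologicalComplex (ModuleCat.{u} A) c} {q : ι} {p : ℕ}
  (e : CohIII.tensorAFunctor A F ⋙ CohIII.HAb X p ≅
    CohIII.TFun P q ⋙ forget₂ (ModuleCat.{u} A) AddCommGrpCat.{u})

/-- **natural isomorphisms are `A`-linear** -/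
noncomputable def linEquivOfIso (M : ModuleCat.{u} A) :
    Coh.HH X ((CohIII.tensorAFunctor A F).obj M) p ≃ₗ[A] CohIII.T P q M :=
  { Iso.addCommGroupIsoToAddEquiv (e.app M) with
    map_smul' := fun a x => by
      show (e.hom.app M).hom (a • x) = a • (show CohIII.T P q M from (e.hom.app M).hom x)
      have h := HH_smul_eq_map A F M p a x
      refine (congrArg (e.hom.app M).hom h).trans ?_
      have hn := e.hom.naturality (a • 𝟙 M)
      have hn' := congrArg (fun φ => φ.hom x) hn
      refine hn'.trans ?_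
      exact TFun_map_smul P q M a _ }

lemma linEquivOfIso_apply (M : ModuleCat.{u} A)
    (x : Coh.HH X ((CohIII.tensorAFunctor A F).obj M) p) :
    linEquivOfIso A F e M x = (e.hom.app M).hom x := rfl

end

end Groth.Agent.Lib.BCMainH2
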