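import Mathlib
import Groth.Prelude
import Groth.Agent.Lib.BCLin1_helper2

/-!
# Cohomology and base change: the Grothendieck complex, with vanishing in negative degrees
-/

set_option autoImplicit false
universe u
open CategoryTheory Limits AlgebraicGeometry TopologicalSpace Opposite TensorProduct

namespace Groth.Agent.Lib.BCMainH2

open Groth.Agent.Lib.CechSite Groth.Agent.Lib.BCCechH2 Groth.Agent.Lib.BCSecH2
  Groth.Agent.Lib.BCExtH2 Groth.Agent.Lib.BCCxH2 Groth.Agent.Lib.BCAlgH2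

/-- `main`, together with the vanishing of `H^i(L ⊗ M)` for `i < 0`. -/
theorem main_neg (A : Type u) [CommRing A] [IsNoetherianRing A] (X : Scheme.{u})
    [X.Over (Spec (CommRingCat.of A))] [IsProper (X ↘ Spec (CommRingCat.of A))]
    (F : X.Modules) (hF : Coh.IsCoh F)
    (hfl : FlatMod.IsFlatOver (X ↘ Spec (CommRingCat.of A)) F) :
    ∃ L : CochainComplex (ModuleCat.{u} A) ℤ,
      (∀ i, Module.Finite A (L.X i) ∧ Module.Free A (L.X i)) ∧
      (∃ b : ℤ, ∀ i, b < i → IsZero (L.X i)) ∧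
      (∀ i : ℤ, i < 0 → ∀ M : ModuleCat.{u} A, IsZero ((CohIII.TFun L i).obj M)) ∧
      ∀ p : ℕ, Nonempty (CohIII.tensorAFunctor A F ⋙ CohIII.HAb X p ≅
        CohIII.TFun L (p : ℤ) ⋙ forget₂ (ModuleCat.{u} A) AddCommGrpCat.{u}) := by
  classical
  haveI : F.IsQuasicoherent := hF.1
  haveI : CompactSpace X :=
    QuasiCompact.compactSpace_of_compactSpace (X ↘ Spec (CommRingCat.of A))
  obtain ⟨t, U', hU', hcov'⟩ := exists_affine_cover X
  have hd : ∀ V W : X.Opens, IsAffineOpen V → IsAffineOpen W → IsAffineOpen (V ⊓ W) :=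
    inf_affine_of_separated (X ↘ Spec (CommRingCat.of A))
  let 𝒰 : ULift.{u} (Fin t) → X.Opens := fun i => U' i.down
  have hcov : ⨆ i, 𝒰 i = ⊤ := by
    rw [eq_top_iff, ← hcov']
    exact iSup_le fun i => le_iSup 𝒰 ⟨i⟩
  have hU := isAffineOpen_biInf hd 𝒰 (fun i => hU' i.down)
  have hvan : ∀ (G : X.Modules) [G.IsQuasicoherent] (p : ℕ), t ≤ p →
      Subsingleton (Coh.HH X G p) := fun G _ p hp =>
    AffVanish.HH_subsingleton_of_cover X t U' hU' hcov' hd G p hp
  obtain ⟨L, u, hL, hLz, hu⟩ := exists_L (CC A 𝒰 F) (flat_CC A 𝒰 hU F hfl)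
    (finite_homology_CC A 𝒰 hU F hcov hF) (t : ℤ)
    (fun M i hi => isZero_homology_tensor A 𝒰 hU F hcov t hvan M i hi)
  refine ⟨L, hL, ⟨t, hLz⟩, fun i hi M => ?_, fun p => ⟨(natIso A 𝒰 hU F hcov p).symm ≪≫
    (Functor.isoWhiskerRight (TFunIso u hu (Int.ofNat p)) _).symm⟩⟩
  have hz : IsZero ((CohIII.TFun (CC A 𝒰 F) i).obj M) := by
    cases i with
    | ofNat n =>
      exfalso
      have : (0 : ℤ) ≤ Int.ofNat n := Int.natCast_nonneg n
      omega
    | negSucc n =>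
      exact isZero_homology_of_isZero_X _ _
        ((MonoidalCategory.tensorRight M).map_isZero (isZero_CC_negSucc A 𝒰 F n))
  exact IsZero.of_iso hz ((TFunIso u hu i).app M)

/-- chain-complex form -/
theorem mainChain_neg (A : Type u) [CommRing A] [IsNoetherianRing A] (X : Scheme.{u})
    [X.Over (Spec (CommRingCat.of A))] [IsProper (X ↘ Spec (CommRingCat.of A))]
    (F : X.Modules) (hF : Coh.IsCoh F)
    (hfl : FlatMod.IsFlatOver (X ↘ Spec (CommRingCat.of A)) F) :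
    ∃ P : ChainComplex (ModuleCat.{u} A) ℤ,
      (∀ i, Module.Finite A (P.X i) ∧ Module.Flat A (P.X i)) ∧
      (∀ i : ℤ, 0 < i → ∀ M : ModuleCat.{u} A, IsZero ((CohIII.TFun P i).obj M)) ∧
      ∀ p : ℕ, Nonempty (CohIII.tensorAFunctor A F ⋙ CohIII.HAb X p ≅
        CohIII.TFun P (-(p : ℤ)) ⋙ forget₂ (ModuleCat.{u} A) AddCommGrpCat.{u}) := by
  obtain ⟨L, hL, -, hneg, hiso⟩ := main_neg A X F hF hfl
  have hflat : ∀ j : ℤ, Module.Flat A (L.X j) := fun j => by
    haveI := (hL j).2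
    infer_instance
  refine ⟨toChain L, fun i => ⟨(hL (-i)).1, hflat (-i)⟩,
    fun i hi M => ?_, fun p => ?_⟩
  · exact IsZero.of_iso (hneg (-i) (by omega) M) ((TFunRestr L i).app M)
  · obtain ⟨e⟩ := hiso p
    have h : -(-(p : ℤ)) = (p : ℤ) := neg_neg _
    exact ⟨e ≪≫ Functor.isoWhiskerRight
      ((TFunRestr L (-(p : ℤ)) ≪≫ eqToIso (congrArg (CohIII.TFun L) h)).symm) _⟩

end Groth.Agent.Lib.BCMainH2
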