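import Mathlib
import Groth.Prelude
import Groth.Agent.Lib.FibVan2_helper2

/-!
# The graded pieces `m^k F / m^(k+1) F` of a flat module (helper2)

For `X` over `Spec A`, `m` a maximal ideal of the Noetherian ring `A` and `F` quasi-coherent and
flat over `A`: `m^kF/m^(k+1)F` (the kernel of `F/m^(k+1)F ⟶ F/m^kF`) is a finite direct sum of
copies of `F/mF`.  Consequences for cohomology.

APPEND-ONLY once landed.
-/

set_option autoImplicit false
universe u

open CategoryTheory CategoryTheory.Limits AlgebraicGeometry TopologicalSpace Opposite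

namespace Groth.Agent.Lib.FibVanH2

open Formal Groth.Agent.Lib.FormalModPowH4 Groth.Agent.Lib.FormalFnH2 Groth.Agent.Lib.FlatBCH2
  Groth.Agent.HHVan Groth.Agent.ProjFin

section Gr

variable (A : Type u) [CommRing A] (m : Ideal A) {X : Scheme.{u}}
  [X.Over (Spec (CommRingCat.of A))] (F : X.Modules) (k : ℕ)

/-- `m^k F / m^(k+1) F` -/
noncomputable abbrev grK : X.Modules := kernel (Formal.modPowTrans m k F)

noncomputable abbrev grι : grK A m F k ⟶ Formal.modPow m (k + 1) F :=
  kernel.ι (Formal.modPowTrans m k F)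

/-- `0 → m^kF/m^(k+1)F → F/m^(k+1)F → F/m^kF → 0` -/
noncomputable abbrev grSC : ShortComplex X.Modules :=
  ShortComplex.mk (grι A m F k) (Formal.modPowTrans m k F) (kernel.condition _)

theorem grSC_shortExact : (grSC A m F k).ShortExact :=
  { exact := ShortComplex.exact_kernel (Formal.modPowTrans m k F)
    mono_f := inferInstanceAs (Mono (kernel.ι (Formal.modPowTrans m k F)))
    epi_g := by
      haveI : Epi (Formal.modPowπ m (k + 1) F ≫ Formal.modPowTrans m k F) := by
        rw [Formal.modPowπ_trans]; infer_instance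
      exact epi_of_epi (Formal.modPowπ m (k + 1) F) (Formal.modPowTrans m k F) }

/-- multiplication by `c ∈ m^k`, as a map `F ⟶ m^kF/m^(k+1)F` -/
noncomputable def grPsi (c : A) (hc : c ∈ m ^ k) : F ⟶ grK A m F k :=
  kernel.lift _ (Formal.smulMod A F c ≫ Formal.modPowπ m (k + 1) F) (by
    rw [Category.assoc, Formal.modPowπ_trans, smulMod_modPowπ F m k hc])

theorem grPsi_ι (c : A) (hc : c ∈ m ^ k) :
    grPsi A m F k c hc ≫ grι A m F k = Formal.smulMod A F c ≫ Formal.modPowπ m (k + 1) F :=
  kernel.lift_ι _ _ _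

theorem smulFamily_grPsi (c : A) (hc : c ∈ m ^ k) :
    Formal.smulFamily (m ^ 1) F ≫ grPsi A m F k c hc = 0 := by
  apply Sigma.hom_ext
  intro d
  rw [comp_zero, ← Category.assoc, ι_smulFamily,
    ← cancel_mono (grι A m F k), zero_comp, Category.assoc, grPsi_ι, ← Category.assoc,
    ← smulMod_mul]
  apply smulMod_modPowπ
  rw [pow_succ]
  exact Ideal.mul_mem_mul hc (by simpa using d.2)

/-- multiplication by `c ∈ m^k`, as a map `F/mF ⟶ m^kF/m^(k+1)F` -/
noncomputable def grPhi (c : A) (hc : c ∈ m ^ k) : Formal.modPow m 1 F ⟶ grK A m F k :=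
  cokernel.desc (Formal.smulFamily (m ^ 1) F) (grPsi A m F k c hc) (smulFamily_grPsi A m F k c hc)

theorem π_grPhi (c : A) (hc : c ∈ m ^ k) :
    Formal.modPowπ m 1 F ≫ grPhi A m F k c hc = grPsi A m F k c hc :=
  cokernel.π_desc _ _ _

variable {σ : Type u} [Fintype σ] (a : σ → A) (ha : ∀ i, a i ∈ m ^ k)

noncomputable def grSum : (∐ fun _ : σ => Formal.modPow m 1 F) ⟶ grK A m F k :=
  Sigma.desc (fun i => grPhi A m F k (a i) (ha i))

theorem ι_grSum (i : σ) :
    Sigma.ι (fun _ : σ => Formal.modPow m 1 F) i ≫ grSum A m F k a ha =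
      grPhi A m F k (a i) (ha i) :=
  Sigma.ι_desc _ _

theorem key_comp (i : σ) :
    Formal.modPowπ m 1 F ≫ Sigma.ι (fun _ : σ => Formal.modPow m 1 F) i ≫
        grSum A m F k a ha ≫ grι A m F k =
      Formal.smulMod A F (a i) ≫ Formal.modPowπ m (k + 1) F := by
  rw [← Category.assoc (Sigma.ι _ i), ι_grSum, ← Category.assoc, π_grPhi, grPsi_ι]

variable [IsNoetherianRing A] [F.IsQuasicoherent]

theorem grSum_app_bijective
    (hfl : FlatMod.IsFlatOver (X ↘ Spec (CommRingCat.of A)) F)
    (hind : ∀ c : σ → A, ∑ i, c i * a i ∈ m ^ (k + 1) → ∀ i, c i ∈ m)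
    (hgen : ∀ w ∈ m ^ k, ∃ c : σ → A, w - ∑ i, c i * a i ∈ m ^ (k + 1))
    {U : X.Opens} (hU : IsAffineOpen U) :
    Function.Bijective ((grSum A m F k a ha).app U) := by
  classical
  letI := secMod A F U
  haveI := flat_sections A F hfl hU
  have hkey : ∀ (i : σ) (x : Γ(F, U)),
      (grι A m F k).app U ((grSum A m F k a ha).app U
        ((Sigma.ι (fun _ : σ => Formal.modPow m 1 F) i).app U
          ((Formal.modPowπ m 1 F).app U x))) =
      (Formal.modPowπ m (k + 1) F).app U (rU (a i) U • x) := by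
    intro i x
    have h := congrArg (fun φ => φ.app U x) (key_comp A m F k a ha i)
    exact h
  have hιinj : Function.Injective ((grι A m F k).app U) :=
    QCohExact.app_injective_of_mono (grι A m F k) U
  constructor
  · have hinj0 : ∀ y, (grSum A m F k a ha).app U y = 0 → y = 0 := by
      intro y hy
      choose x hx using fun i => modPowπ_app_surjective A m F 1 hU
        ((Sigma.π (fun _ : σ => Formal.modPow m 1 F) i).app U y)
      have hy' : y = ∑ i, (Sigma.ι (fun _ : σ => Formal.modPow m 1 F) i).app U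
          ((Formal.modPowπ m 1 F).app U (x i)) := by
        conv_lhs => rw [sigma_decomp (fun _ : σ => Formal.modPow m 1 F) U y]
        exact Finset.sum_congr rfl (fun i _ => by rw [hx i])
      have h1 : (Formal.modPowπ m (k + 1) F).app U (∑ i, rU (a i) U • x i) = 0 := by
        rw [app_sum']
        have h2 : (grι A m F k).app U ((grSum A m F k a ha).app U y) = 0 := by
          rw [hy, app_zero']
        rw [hy', app_sum', app_sum'] at h2
        rw [← h2]
        exact Finset.sum_congr rfl (fun i _ => (hkey i (x i)).symm)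
      have h3 := mem_smul_top_of_modPowπ_app_eq_zero A m F (k + 1) hU _ h1
      have h4 : ∑ i, rU (a i) U • x i = ∑ i, a i • x i := rfl
      rw [h4] at h3
      have h5 := mem_smul_of_flat m (m ^ (k + 1)) a hind x h3
      rw [hy']
      refine Finset.sum_eq_zero (fun i _ => ?_)
      have h6 : (Formal.modPowπ m 1 F).app U (x i) = 0 :=
        modPowπ_app_eq_zero_of_mem A m F 1 (x i) (by rw [pow_one]; exact h5 i)
      rw [h6, app_zero']
    intro y y' hyy'
    have := hinj0 (y - y') (by rw [app_sub', hyy', sub_self])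
    exact sub_eq_zero.mp this
  · intro z
    obtain ⟨w, hw⟩ := modPowπ_app_surjective A m F (k + 1) hU ((grι A m F k).app U z)
    have h1 : (Formal.modPowπ m k F).app U w = 0 := by
      have h2 : (Formal.modPowπ m k F).app U w =
          (Formal.modPowTrans m k F).app U ((Formal.modPowπ m (k + 1) F).app U w) := by
        rw [← comp_app', Formal.modPowπ_trans]
      rw [h2, hw, ← comp_app', kernel.condition, zero_app']
    have h3 := mem_smul_top_of_modPowπ_app_eq_zero A m F k hU w h1
    have h4 : ∃ x : σ → Γ(F, U),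
        w - ∑ i, a i • x i ∈ (m ^ (k + 1)) • (⊤ : Submodule A Γ(F, U)) := by
      refine Submodule.smul_induction_on h3 ?_ ?_
      · intro r hr t _
        obtain ⟨c, hc⟩ := hgen r hr
        refine ⟨fun i => c i • t, ?_⟩
        have : r • t - ∑ i, a i • c i • t = (r - ∑ i, c i * a i) • t := by
          rw [sub_smul, Finset.sum_smul]
          congr 1
          exact Finset.sum_congr rfl (fun i _ => by rw [smul_smul, mul_comm])
        rw [this]
        exact Submodule.smul_mem_smul hc Submodule.mem_top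
      · rintro t t' ⟨x, hx⟩ ⟨x', hx'⟩
        refine ⟨fun i => x i + x' i, ?_⟩
        have : t + t' - ∑ i, a i • (x i + x' i) =
            (t - ∑ i, a i • x i) + (t' - ∑ i, a i • x' i) := by
          simp only [smul_add, Finset.sum_add_distrib]
          abel
        rw [this]
        exact add_mem hx hx'
    obtain ⟨x, hx⟩ := h4
    refine ⟨∑ i, (Sigma.ι (fun _ : σ => Formal.modPow m 1 F) i).app U
      ((Formal.modPowπ m 1 F).app U (x i)), ?_⟩
    apply hιinj
    rw [← hw, app_sum', app_sum']
    have h5 : (Formal.modPowπ m (k + 1) F).app U w =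
        (Formal.modPowπ m (k + 1) F).app U (∑ i, a i • x i) := by
      have h6 := modPowπ_app_eq_zero_of_mem A m F (k + 1) _ hx
      rw [app_sub', sub_eq_zero] at h6
      exact h6
    rw [h5, app_sum']
    exact Finset.sum_congr rfl (fun i _ => hkey i (x i))

theorem isIso_grSum
    (hfl : FlatMod.IsFlatOver (X ↘ Spec (CommRingCat.of A)) F)
    (hind : ∀ c : σ → A, ∑ i, c i * a i ∈ m ^ (k + 1) → ∀ i, c i ∈ m)
    (hgen : ∀ w ∈ m ^ k, ∃ c : σ → A, w - ∑ i, c i * a i ∈ m ^ (k + 1)) :
    IsIso (grSum A m F k a ha) := by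
  haveI : (∐ fun _ : σ => Formal.modPow m 1 F).IsQuasicoherent :=
    Groth.Agent.Lib.BModH6.isQuasicoherent_sigma _
  haveI : (grK A m F k).IsQuasicoherent := SubExt.isQuasicoherent_kernel _
  refine Groth.Agent.Lib.LimMod.isIso_of_affine_cover _ (fun x => ?_)
  obtain ⟨_, ⟨U, hU : IsAffineOpen U, rfl⟩, hxU, -⟩ :=
    (X.isBasis_affineOpens).exists_subset_of_mem_open (Set.mem_univ x) isOpen_univ
  exact ⟨U, hU, hxU, grSum_app_bijective A m F k a ha hfl hind hgen hU⟩

end Gr

section Van

variable (A : Type u) [CommRing A] [IsNoetherianRing A] (m : Ideal A) {X : Scheme.{u}}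
  [X.Over (Spec (CommRingCat.of A))] (F : X.Modules) [F.IsQuasicoherent]
  (hm : m.IsMaximal) (hfl : FlatMod.IsFlatOver (X ↘ Spec (CommRingCat.of A)) F)

include hm hfl

/-- **vanishing of the cohomology of the graded pieces** -/
theorem subsingleton_HH_grK (k q : ℕ)
    (hvan : Subsingleton (Coh.HH X (Formal.modPow m 1 F) q)) :
    Subsingleton (Coh.HH X (grK A m F k) q) := by
  haveI := hm
  obtain ⟨σ, _, a, ha, hind, hgen⟩ := exists_lift_basis m k
  haveI := isIso_grSum A m F k a ha hfl hind hgen
  exact subsingleton_of_iso (asIso (grSum A m F k a ha)) q (subsingleton_HH_sigma _ q hvan)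

/-- if `H^(n+1)(X, F/mF) = 0` then the transition maps `H^n(X, F/m^(k+1)F) → H^n(X, F/m^kF)`
are surjective -/
theorem surjective_HHlin_modPowTrans (n : ℕ)
    (hvan : Subsingleton (Coh.HH X (Formal.modPow m 1 F) (n + 1))) (k : ℕ) :
    Function.Surjective (Canon.HHlin A (Formal.modPowTrans m k F) n) :=
  surjective_HHlin_g_of_subsingleton A (grSC A m F k) (grSC_shortExact A m F k) n
    (subsingleton_HH_grK A m F hm hfl k (n + 1) hvan)

/-- if `H^n(X, F/mF) = 0` then `H^n(X, F/m^(k+1)F) = 0` for all `k` -/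
theorem subsingleton_HH_modPow_succ (n : ℕ)
    (hvan : Subsingleton (Coh.HH X (Formal.modPow m 1 F) n)) :
    ∀ k, Subsingleton (Coh.HH X (Formal.modPow m (k + 1) F) n)
  | 0 => hvan
  | k + 1 =>
    subsingleton_HH_X₂ A (grSC A m F (k + 1)) (grSC_shortExact A m F (k + 1)) n
      (subsingleton_HH_grK A m F hm hfl (k + 1) n hvan)
      (subsingleton_HH_modPow_succ n hvan k)

omit hm hfl [IsNoetherianRing A] [F.IsQuasicoherent] in
theorem surjective_HHlin_modPowLE (n : ℕ)
    (hT : ∀ k, Function.Surjective (Canon.HHlin A (Formal.modPowTrans m k F) n))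
    {j k : ℕ} (h : j ≤ k) :
    Function.Surjective (Canon.HHlin A (Formal2.modPowLE m h F) n) := by
  induction k, h using Nat.le_induction with
  | base =>
    rw [modPowLE_refl]
    intro y
    exact ⟨y, HHlin_id A n y⟩
  | succ k hk ih =>
    have h1 := modPowTrans_modPowLE A m F hk
    intro y
    obtain ⟨z, rfl⟩ := ih y
    obtain ⟨w, rfl⟩ := hT k z
    exact ⟨w, by rw [← h1, HHlin_comp]⟩

/-- **surjectivity onto the cohomology of the thickenings** (EGA III 7.5.x / 4.x): `X` proper
over the Noetherian ring `A`, `m` maximal, `F` coherent and flat over `A` with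
`H^(n+1)(X, F/mF) = 0`: `H^n(X, F) → H^n(X, F/m^(p+1)F)` is surjective for all `p`. -/
theorem surjective_toHHmodPow [IsProper (X ↘ Spec (CommRingCat.of A))]
    (hF : Coh.IsCoh F) (n : ℕ)
    (hvan : Subsingleton (Coh.HH X (Formal.modPow m 1 F) (n + 1))) (p : ℕ) :
    Function.Surjective (Formal.toHHmodPow m F n p) := by
  obtain ⟨σ, _, a, ha, hspan⟩ := exists_generators A m
  obtain ⟨c, hc⟩ := exists_range_le A m X F hF σ a ha hspan n
  intro y
  have hT := surjective_HHlin_modPowTrans A m F hm hfl n hvan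
  obtain ⟨z, hz⟩ := surjective_HHlin_modPowLE A m F n hT
    (Nat.succ_le_succ (Nat.le_add_right p c)) y
  obtain ⟨x, hx⟩ := hc p (p + c) (Nat.le_add_right p c) le_rfl z
  exact ⟨x, hx.trans hz⟩

end Van

end Groth.Agent.Lib.FibVanH2
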