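import Groth.Prelude.Def_W4stkschemesremainderFib
import Mathlib

set_option autoImplicit false
universe u
open CategoryTheory CategoryTheory.Limits AlgebraicGeometry TensorProduct

namespace Groth.Agent.Lib.BddFib_helper6

open BddFib

/-- The structure ring hom `K → Γ(T,⊤)`. -/
noncomputable def strHom (K : CommRingCat.{u}) {T : Scheme.{u}} (p : T ⟶ Spec K) : K ⟶ Γ(T, ⊤) :=
  (Scheme.ΓSpecIso K).inv ≫ p.appTop

/-- finite of rank ≤ n for a ring hom -/
def RkLE {K A : Type u} [CommRing K] [CommRing A] (a : K →+* A) (n : ℕ) : Prop :=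
  letI := a.toAlgebra
  Module.Finite K A ∧ Module.finrank K A ≤ n

theorem finiteOfDegLE_iff (K : CommRingCat.{u}) {T : Scheme.{u}} (p : T ⟶ Spec K) (n : ℕ) :
    FiniteOfDegLE K p n ↔ IsAffine T ∧ RkLE (strHom K p).hom n := Iff.rfl

theorem RkLE.of_equiv {K A A' : Type u} [CommRing K] [CommRing A] [CommRing A'] {a : K →+* A}
    {a' : K →+* A'} (e : A ≃+* A') (h : ∀ k, e (a k) = a' k) {n : ℕ} (H : RkLE a n) :
    RkLE a' n := by
  letI := a.toAlgebra
  letI := a'.toAlgebra
  let l : A ≃ₗ[K] A' :=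
    { e.toAddEquiv with
      map_smul' := fun k x => by
        show e (a k * x) = a' k * e x
        rw [map_mul, h] }
  obtain ⟨h1, h2⟩ := H
  exact ⟨Module.Finite.equiv l, l.finrank_eq ▸ h2⟩

theorem RkLE.mono {K A : Type u} [CommRing K] [CommRing A] {a : K →+* A} {n m : ℕ}
    (H : RkLE a n) (h : n ≤ m) : RkLE a m := ⟨H.1, H.2.trans h⟩

theorem finiteOfDegLE_of_iso {K : CommRingCat.{u}} {T T' : Scheme.{u}} (p : T ⟶ Spec K)
    (p' : T' ⟶ Spec K) (e : T ≅ T') (he : e.hom ≫ p' = p) {n : ℕ}
    (H : FiniteOfDegLE K p' n) : FiniteOfDegLE K p n := by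
  rw [finiteOfDegLE_iff] at H ⊢
  obtain ⟨hA, hR⟩ := H
  refine ⟨IsAffine.of_isIso e.hom, ?_⟩
  refine RkLE.of_equiv (e := (Scheme.Γ.mapIso e.op).commRingCatIsoToRingEquiv) ?_ hR
  intro k
  subst he
  show (e.hom.appTop.hom) ((strHom K p').hom k) = (strHom K (e.hom ≫ p')).hom k
  rw [strHom, strHom, Scheme.Hom.comp_appTop]
  rfl

theorem strHom_SpecMap {K A : CommRingCat.{u}} (a : K ⟶ A) :
    strHom K (Spec.map a) = a ≫ (Scheme.ΓSpecIso A).inv := by
  rw [strHom, Scheme.ΓSpecIso_inv_naturality]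

theorem finiteOfDegLE_SpecMap {K A : CommRingCat.{u}} (a : K ⟶ A) (n : ℕ) :
    FiniteOfDegLE K (Spec.map a) n ↔ RkLE a.hom n := by
  rw [finiteOfDegLE_iff]
  constructor
  · rintro ⟨_, H⟩
    refine RkLE.of_equiv (Scheme.ΓSpecIso A).commRingCatIsoToRingEquiv ?_ H
    intro k
    rw [strHom_SpecMap]
    show ((Scheme.ΓSpecIso A).inv ≫ (Scheme.ΓSpecIso A).hom).hom (a.hom k) = a.hom k
    rw [Iso.inv_hom_id]
    rfl
  · intro H
    refine ⟨inferInstance,
      RkLE.of_equiv (Scheme.ΓSpecIso A).symm.commRingCatIsoToRingEquiv ?_ H⟩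
    intro k
    rw [strHom_SpecMap]
    rfl

/-- pure algebra: base change along a field extension, via a pushout square of rings. -/
theorem alg_core {K L A B : Type u} [Field K] [Field L] [CommRing A] [CommRing B]
    (a : K →+* A) (φ : K →+* L) (b : L →+* B) (ψ : A →+* B)
    (h : IsPushout (CommRingCat.ofHom φ) (CommRingCat.ofHom a) (CommRingCat.ofHom b)
      (CommRingCat.ofHom ψ)) (n : ℕ) :
    RkLE b n ↔ RkLE a n := by
  letI : Algebra K L := φ.toAlgebra
  letI : Algebra K A := a.toAlgebra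
  letI : Algebra L B := b.toAlgebra
  letI : Algebra A B := ψ.toAlgebra
  letI : Algebra K B := (ψ.comp a).toAlgebra
  haveI : IsScalarTower K A B := IsScalarTower.of_algebraMap_eq (fun _ => rfl)
  haveI : IsScalarTower K L B := IsScalarTower.of_algebraMap_eq (fun x => by
    have := congrArg (fun f => f.hom x) h.w
    exact this.symm)
  have hpo : Algebra.IsPushout K L A B := CommRingCat.isPushout_iff_isPushout.mp h
  let e : L ⊗[K] A ≃ₗ[L] B := hpo.out.equiv
  have hrank : Module.rank L B = Module.rank K A := by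
    rw [← e.rank_eq, Module.rank_baseChange, Cardinal.lift_id]
  have hfin : Module.Finite L B ↔ Module.Finite K A := by
    rw [← Module.rank_lt_aleph0_iff, ← Module.rank_lt_aleph0_iff, hrank]
  have hfr : Module.finrank L B = Module.finrank K A := by
    simp only [Module.finrank, hrank]
  show (Module.Finite L B ∧ Module.finrank L B ≤ n) ↔ (Module.Finite K A ∧ Module.finrank K A ≤ n)
  rw [hfin, hfr]

theorem finite_discrete_of_rkLE {L B : Type u} [Field L] [CommRing B] (b : L →+* B) (n : ℕ)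
    (h : RkLE b n) : Finite (PrimeSpectrum B) ∧ DiscreteTopology (PrimeSpectrum B) := by
  letI := b.toAlgebra
  haveI := h.1
  haveI : IsArtinianRing B := IsArtinianRing.of_finite L B
  exact ⟨inferInstance, inferInstance⟩

theorem card_primeSpectrum_le_finrank (k B : Type u) [Field k] [CommRing B] [Algebra k B]
    [Module.Finite k B] : Nat.card (PrimeSpectrum B) ≤ Module.finrank k B := by
  classical
  haveI : IsArtinianRing B := IsArtinianRing.of_finite k B
  haveI : Finite (PrimeSpectrum B) := inferInstance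
  letI := Fintype.ofFinite (PrimeSpectrum B)
  let I : PrimeSpectrum B → Ideal B := fun p => p.asIdeal
  have hcop : Pairwise (Function.onFun IsCoprime I) := by
    intro p q hpq
    haveI := p.isPrime
    haveI := q.isPrime
    exact Ideal.isCoprime_iff_sup_eq.mpr (Ideal.IsMaximal.coprime_of_ne
      (IsArtinianRing.isMaximal_of_isPrime p.asIdeal)
      (IsArtinianRing.isMaximal_of_isPrime q.asIdeal) (fun h => hpq (PrimeSpectrum.ext h)))
  have hsurj := Ideal.quotientInfToPiQuotient_surj hcop
  let F : B →ₗ[k] (∀ p, B ⧸ I p) :=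
    LinearMap.pi (fun p => (Ideal.Quotient.mkₐ k (I p)).toLinearMap)
  have hF : Function.Surjective F := by
    intro y
    obtain ⟨x, hx⟩ := hsurj y
    obtain ⟨b, rfl⟩ := Ideal.Quotient.mk_surjective x
    refine ⟨b, ?_⟩
    rw [← hx]
    rfl
  have h1 : Module.finrank k (∀ p, B ⧸ I p) ≤ Module.finrank k B :=
    LinearMap.finrank_le_finrank_of_surjective hF
  rw [Module.finrank_pi_fintype] at h1
  calc Nat.card (PrimeSpectrum B) = ∑ _p : PrimeSpectrum B, 1 := by
        simp [Nat.card_eq_fintype_card]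
    _ ≤ ∑ p, Module.finrank k (B ⧸ I p) := Finset.sum_le_sum (fun p _ => by
        haveI := p.isPrime
        haveI : Nontrivial (B ⧸ I p) := Ideal.Quotient.nontrivial_iff.mpr p.isPrime.ne_top
        exact Module.finrank_pos)
    _ ≤ _ := h1

theorem card_le_of_rkLE {k B : Type u} [Field k] [CommRing B] (b : k →+* B) (n : ℕ)
    (h : RkLE b n) : Finite (PrimeSpectrum B) ∧ Nat.card (PrimeSpectrum B) ≤ n := by
  letI := b.toAlgebra
  haveI := h.1
  exact ⟨(finite_discrete_of_rkLE b n h).1, (card_primeSpectrum_le_finrank k B).trans h.2⟩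

theorem rkLE_one_of_surjective {k B : Type u} [Field k] [CommRing B] (b : k →+* B)
    (hb : Function.Surjective b) : RkLE b 1 := by
  letI := b.toAlgebra
  have hl : Function.Surjective (Algebra.linearMap k B) := hb
  refine ⟨Module.Finite.of_surjective _ hl, ?_⟩
  calc Module.finrank k B ≤ Module.finrank k k :=
        LinearMap.finrank_le_finrank_of_surjective hl
    _ = 1 := Module.finrank_self k

section Geometric

variable {K L : CommRingCat.{u}}

theorem isPushout_strHom (φ : K ⟶ L) {T T' : Scheme.{u}} [IsAffine T]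
    (p : T ⟶ Spec K) (p' : T' ⟶ Spec L) (q : T' ⟶ T)
    (h : IsPullback q p' p (Spec.map φ)) :
    IsPushout φ (strHom K p) (strHom L p') q.appTop := by
  have po := (isPushout_appTop_of_isPullback h).flip
  refine po.of_iso (Scheme.ΓSpecIso K) (Scheme.ΓSpecIso L) (Iso.refl _) (Iso.refl _) ?_ ?_ ?_ ?_
  · exact Scheme.ΓSpecIso_naturality φ
  · simp [strHom]
  · simp [strHom]
  · simp

theorem rkLE_iff_of_isPullback (hK : IsField K) (hL : IsField L) (φ : K ⟶ L)
    {T T' : Scheme.{u}} [IsAffine T] (p : T ⟶ Spec K) (p' : T' ⟶ Spec L) (q : T' ⟶ T)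
    (h : IsPullback q p' p (Spec.map φ)) (n : ℕ) :
    RkLE (strHom L p').hom n ↔ RkLE (strHom K p).hom n := by
  letI := hK.toField
  letI := hL.toField
  exact alg_core (K := K) (L := L) (strHom K p).hom φ.hom (strHom L p').hom q.appTop.hom
    (isPushout_strHom φ p p' q h) n

theorem surjective_SpecMap_of_isField (hK : IsField K) (hL : IsField L) (φ : K ⟶ L) :
    Surjective (Spec.map φ) := by
  letI := hK.toField
  letI := hL.toField
  refine ⟨fun x => ?_⟩
  haveI : Subsingleton (PrimeSpectrum K) := inferInstance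
  haveI : Nonempty (PrimeSpectrum L) := inferInstance
  obtain ⟨y⟩ := (inferInstance : Nonempty (PrimeSpectrum L))
  exact ⟨y, Subsingleton.elim (α := PrimeSpectrum K) _ _⟩

theorem flat_SpecMap_of_isField (hK : IsField K) (φ : K ⟶ L) :
    Flat (Spec.map φ) := by
  letI := hK.toField
  rw [Flat.SpecMap_iff]
  letI := φ.hom.toAlgebra
  show Module.Flat K L
  infer_instance

theorem isAffine_of_isPullback_of_rkLE (hK : IsField K) (hL : IsField L) (φ : K ⟶ L)
    {T T' : Scheme.{u}} (p : T ⟶ Spec K) (p' : T' ⟶ Spec L) (q : T' ⟶ T)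
    (h : IsPullback q p' p (Spec.map φ)) [IsAffine T'] {n : ℕ}
    (hfin : RkLE (strHom L p').hom n) : IsAffine T := by
  letI := hL.toField
  obtain ⟨h1, h2⟩ := finite_discrete_of_rkLE (L := L) (strHom L p').hom n hfin
  have hemb := T'.isoSpec.hom.isOpenEmbedding
  haveI : Finite (Spec Γ(T', ⊤)) := h1
  haveI : DiscreteTopology (Spec Γ(T', ⊤)) := h2
  haveI : Finite T' := Finite.of_injective _ hemb.injective
  haveI : DiscreteTopology T' := hemb.isEmbedding.discreteTopology
  haveI : Surjective (Spec.map φ) := surjective_SpecMap_of_isField hK hL φ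
  haveI : Flat (Spec.map φ) := flat_SpecMap_of_isField hK φ
  haveI : Surjective q := MorphismProperty.of_isPullback (P := @Surjective) h.flip inferInstance
  haveI : Flat q := MorphismProperty.of_isPullback (P := @Flat) h.flip inferInstance
  haveI : QuasiCompact q :=
    MorphismProperty.of_isPullback (P := @QuasiCompact) h.flip inferInstance
  have hq := Flat.isQuotientMap_of_surjective q
  haveI : Finite T := Finite.of_surjective _ q.surjective
  haveI : DiscreteTopology T :=
    discreteTopology_iff_isOpen_singleton.mpr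
      (fun x => hq.isOpen_preimage.mp (isOpen_discrete _))
  infer_instance

theorem finiteOfDegLE_iff_of_isPullback (hK : IsField K) (hL : IsField L) (φ : K ⟶ L)
    {T T' : Scheme.{u}} (p : T ⟶ Spec K) (p' : T' ⟶ Spec L) (q : T' ⟶ T)
    (h : IsPullback q p' p (Spec.map φ)) (n : ℕ) :
    FiniteOfDegLE L p' n ↔ FiniteOfDegLE K p n := by
  rw [finiteOfDegLE_iff, finiteOfDegLE_iff]
  constructor
  · rintro ⟨hA, hR⟩
    haveI : IsAffine T := isAffine_of_isPullback_of_rkLE hK hL φ p p' q h hR
    exact ⟨inferInstance, (rkLE_iff_of_isPullback hK hL φ p p' q h n).mp hR⟩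
  · rintro ⟨hA, hR⟩
    exact ⟨IsAffine.of_isPullback h, (rkLE_iff_of_isPullback hK hL φ p p' q h n).mpr hR⟩

/-- the comparison square for a field point composed with a field extension -/
theorem isPullback_snd_comp {X Y : Scheme.{u}} (f : X ⟶ Y) (φ : K ⟶ L) (a : Spec K ⟶ Y) :
    IsPullback
      (pullback.lift (pullback.fst f (Spec.map φ ≫ a))
        (pullback.snd f (Spec.map φ ≫ a) ≫ Spec.map φ)
        (by rw [Category.assoc, pullback.condition]) : pullback f (Spec.map φ ≫ a) ⟶ pullback f a)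
      (pullback.snd f (Spec.map φ ≫ a)) (pullback.snd f a) (Spec.map φ) := by
  refine IsPullback.flip ?_
  refine IsPullback.of_bot (v₂₁ := pullback.fst f a) (v₂₂ := a) (h₃₁ := f) ?_ ?_ ?_
  · rw [pullback.lift_fst]
    exact (IsPullback.of_hasPullback f (Spec.map φ ≫ a)).flip
  · rw [pullback.lift_snd]
  · exact (IsPullback.of_hasPullback f a).flip

theorem finiteOfDegLE_snd_comp_iff {X Y : Scheme.{u}} (f : X ⟶ Y) (hK : IsField K)
    (hL : IsField L) (φ : K ⟶ L) (a : Spec K ⟶ Y) (n : ℕ) :
    FiniteOfDegLE L (pullback.snd f (Spec.map φ ≫ a)) n ↔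
      FiniteOfDegLE K (pullback.snd f a) n :=
  finiteOfDegLE_iff_of_isPullback hK hL φ _ _ _ (isPullback_snd_comp f φ a) n

/-- a variant where the composite is only propositionally equal -/
theorem finiteOfDegLE_snd_iff_of_eq {X Y : Scheme.{u}} (f : X ⟶ Y) (hK : IsField K)
    (hL : IsField L) (φ : K ⟶ L) (a : Spec K ⟶ Y) (b : Spec L ⟶ Y) (hb : b = Spec.map φ ≫ a)
    (n : ℕ) :
    FiniteOfDegLE L (pullback.snd f b) n ↔ FiniteOfDegLE K (pullback.snd f a) n := by
  subst hb
  exact finiteOfDegLE_snd_comp_iff f hK hL φ a n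

theorem isField_residueField {Y : Scheme.{u}} (y : Y) : IsField (Y.residueField y) :=
  Field.toIsField _

theorem isField_of (k : Type u) [Field k] : IsField (CommRingCat.of k) :=
  Field.toIsField k

theorem fibreDegLE_iff {X Y : Scheme.{u}} (f : X ⟶ Y) (n : ℕ) :
    FibreDegLE f n ↔ ∀ y : Y,
      FiniteOfDegLE (Y.residueField y) (pullback.snd f (Y.fromSpecResidueField y)) n :=
  Iff.rfl

/-- S7433 in `IsField` form. -/
theorem fibreDegLE_iff_forall_isField {X Y : Scheme.{u}} (f : X ⟶ Y) (n : ℕ) :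
    FibreDegLE f n ↔ ∀ (L : CommRingCat.{u}) (_ : IsField L) (g : Spec L ⟶ Y),
      FiniteOfDegLE L (pullback.snd f g) n := by
  constructor
  · intro hf L hL g
    letI := hL.toField
    have hg := Scheme.descResidueField_stalkClosedPointTo_fromSpecResidueField L Y g
    exact (finiteOfDegLE_snd_iff_of_eq f (isField_residueField _) hL _ _ g hg.symm n).mpr
      (hf _)
  · intro h y
    exact h _ (isField_residueField y) _

theorem finite_card_le_of_finiteOfDegLE (hK : IsField K) {T : Scheme.{u}} (p : T ⟶ Spec K)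
    (n : ℕ) (H : FiniteOfDegLE K p n) : Finite T ∧ Nat.card T ≤ n := by
  rw [finiteOfDegLE_iff] at H
  obtain ⟨hA, hR⟩ := H
  letI := hK.toField
  obtain ⟨h1, h2⟩ := card_le_of_rkLE (k := K) (strHom K p).hom n hR
  let e : T ≃ PrimeSpectrum Γ(T, ⊤) := T.isoSpec.hom.homeomorph.toEquiv
  haveI := h1
  exact ⟨Finite.of_equiv _ e.symm, (Nat.card_congr e).trans_le h2⟩

theorem finiteOfDegLE_snd_of_isPullback {X Y X' Y' : Scheme.{u}} {f : X ⟶ Y} {g : Y' ⟶ Y}
    {f' : X' ⟶ Y'} {g' : X' ⟶ X} (h : IsPullback g' f' f g) (c : Spec L ⟶ Y') (n : ℕ) :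
    FiniteOfDegLE L (pullback.snd f' c) n ↔ FiniteOfDegLE L (pullback.snd f (c ≫ g)) n := by
  have hp : IsPullback (pullback.fst f' c ≫ g') (pullback.snd f' c) f (c ≫ g) :=
    (IsPullback.of_hasPullback f' c).paste_horiz h
  constructor
  · intro H
    exact finiteOfDegLE_of_iso _ _ hp.isoPullback.symm (by simp) H
  · intro H
    exact finiteOfDegLE_of_iso _ _ hp.isoPullback (by simp) H

theorem finiteOfDegLE_one_of_isImmersion (hK : IsField K) {T : Scheme.{u}} (p : T ⟶ Spec K)
    [IsImmersion p] : FiniteOfDegLE K p 1 := by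
  letI := hK.toField
  haveI : Subsingleton (Spec K) := (inferInstance : Subsingleton (PrimeSpectrum K))
  haveI : IsClosedImmersion p := IsClosedImmersion.of_isPreimmersion p (isClosed_discrete _)
  obtain ⟨hA, hs⟩ := IsClosedImmersion.isAffine_surjective_of_isAffine p
  rw [finiteOfDegLE_iff]
  refine ⟨hA, ?_⟩
  have hsurj : Function.Surjective (strHom K p).hom := by
    show Function.Surjective ((Scheme.ΓSpecIso K).inv ≫ p.appTop).hom
    rw [CommRingCat.hom_comp]
    exact hs.comp (ConcreteCategory.bijective_of_isIso (Scheme.ΓSpecIso K).inv).2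
  exact rkLE_one_of_surjective (k := K) _ hsurj

end Geometric

end Groth.Agent.Lib.BddFib_helper6
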