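import Mathlib
import Groth.Agent.Lib.BddFib_helper6
set_option autoImplicit false
universe u

namespace Groth.Agent.Lib.BddFib_helper6

open CategoryTheory CategoryTheory.Limits AlgebraicGeometry TensorProduct

section Nakayama

variable {C M : Type*} [CommRing C] [AddCommGroup M] [Module C M]

theorem sup_smul_top_mul (N : Submodule C M) (I I' : Ideal C)
    (h : N ⊔ I • (⊤ : Submodule C M) = ⊤) (h' : N ⊔ I' • (⊤ : Submodule C M) = ⊤) :
    N ⊔ (I * I') • (⊤ : Submodule C M) = ⊤ := by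
  rw [eq_top_iff]
  calc (⊤ : Submodule C M) = N ⊔ I • (⊤ : Submodule C M) := h.symm
    _ = N ⊔ I • (N ⊔ I' • (⊤ : Submodule C M)) := by rw [h']
    _ = N ⊔ (I • N ⊔ I • I' • (⊤ : Submodule C M)) := by rw [Submodule.smul_sup]
    _ ≤ N ⊔ (I * I') • (⊤ : Submodule C M) := by
        rw [Submodule.mul_smul]
        exact sup_le le_sup_left
          (sup_le (le_sup_of_le_left Submodule.smul_le_right) le_sup_right)

theorem sup_smul_top_pow (N : Submodule C M) (I : Ideal C)
    (h : N ⊔ I • (⊤ : Submodule C M) = ⊤) (k : ℕ) :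
    N ⊔ (I ^ (k + 1)) • (⊤ : Submodule C M) = ⊤ := by
  induction k with
  | zero => simpa using h
  | succ k ih =>
    rw [pow_succ]
    exact sup_smul_top_mul N _ _ ih h

theorem sup_smul_top_prod {ι : Type*} (N : Submodule C M) (f : ι → Ideal C) (s : Finset ι)
    (h : ∀ i ∈ s, N ⊔ f i • (⊤ : Submodule C M) = ⊤) :
    N ⊔ (∏ i ∈ s, f i) • (⊤ : Submodule C M) = ⊤ := by
  classical
  induction s using Finset.induction_on with
  | empty =>
    rw [Finset.prod_empty, Ideal.one_eq_top, Submodule.top_smul]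
    exact sup_top_eq _
  | insert a s ha ih =>
    rw [Finset.prod_insert ha]
    exact sup_smul_top_mul N _ _ (h a (Finset.mem_insert_self a s))
      (ih fun i hi => h i (Finset.mem_insert_of_mem hi))

end Nakayama

theorem exists_crt_elems {C : Type*} [CommRing C] {ι : Type*} [Finite ι] [DecidableEq ι]
    (I : ι → Ideal C) (hI : Pairwise (Function.onFun IsCoprime I)) :
    ∃ e : ι → C, (∀ i, e i - 1 ∈ I i) ∧ ∀ i j, j ≠ i → e i ∈ I j := by
  choose e he using fun i : ι => Ideal.exists_forall_sub_mem_ideal hI (Pi.single i (1 : C))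
  refine ⟨e, fun i => ?_, fun i j hji => ?_⟩
  · have := he i i
    rwa [Pi.single_eq_same] at this
  · have := he i j
    rwa [Pi.single_eq_of_ne hji, sub_zero] at this

theorem pairwise_coprime_maximalSpectrum (C : Type*) [CommRing C] :
    Pairwise (Function.onFun IsCoprime fun i : MaximalSpectrum C => i.asIdeal) := by
  intro i j hij
  exact Ideal.isCoprime_iff_sup_eq.mpr (Ideal.IsMaximal.coprime_of_ne i.isMaximal j.isMaximal
    (fun h => hij (MaximalSpectrum.ext h)))

theorem prod_maximal_pow_eq_bot (C : Type*) [CommRing C] [IsArtinianRing C]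
    [Fintype (MaximalSpectrum C)] :
    ∃ k : ℕ, (∏ i : MaximalSpectrum C, i.asIdeal) ^ (k + 1) = ⊥ := by
  have hJjac : (∏ i : MaximalSpectrum C, i.asIdeal) ≤ Ideal.jacobson (⊥ : Ideal C) := by
    rw [Ideal.jacobson]
    refine le_sInf ?_
    rintro 𝔪 ⟨-, h𝔪⟩
    exact Ideal.prod_le_inf.trans
      (Finset.inf_le (f := fun i : MaximalSpectrum C => i.asIdeal)
        (Finset.mem_univ (⟨𝔪, h𝔪⟩ : MaximalSpectrum C)))
  obtain ⟨k, hk⟩ := IsArtinianRing.isNilpotent_jacobson_bot (R := C)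
  refine ⟨k, ?_⟩
  rw [eq_bot_iff]
  calc (∏ i : MaximalSpectrum C, i.asIdeal) ^ (k + 1)
      ≤ (Ideal.jacobson (⊥ : Ideal C)) ^ (k + 1) := Ideal.pow_right_mono hJjac _
    _ = ⊥ := by rw [pow_succ, hk]; simp

theorem span_eq_top_of_forall_maximal {C M : Type u} [CommRing C] [IsArtinianRing C]
    [AddCommGroup M] [Module C M] (n : ℕ)
    (h : ∀ 𝔮 : Ideal C, 𝔮.IsMaximal → ∃ s : Fin n → M,
      Submodule.span C (Set.range s) ⊔ 𝔮 • (⊤ : Submodule C M) = ⊤) :
    ∃ s : Fin n → M, Submodule.span C (Set.range s) = ⊤ := by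
  classical
  haveI : Finite (MaximalSpectrum C) := inferInstance
  letI := Fintype.ofFinite (MaximalSpectrum C)
  choose sq hsq using (fun 𝔮 : MaximalSpectrum C => h 𝔮.asIdeal 𝔮.isMaximal)
  obtain ⟨e, he1, he0⟩ := exists_crt_elems (fun i : MaximalSpectrum C => i.asIdeal)
    (pairwise_coprime_maximalSpectrum C)
  obtain ⟨x, hx⟩ : ∃ x : Fin n → M, x = fun j => ∑ i, e i • sq i j := ⟨_, rfl⟩
  refine ⟨x, ?_⟩
  obtain ⟨N, hN⟩ : ∃ N : Submodule C M, N = Submodule.span C (Set.range x) := ⟨_, rfl⟩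
  rw [← hN]
  have hNq : ∀ i : MaximalSpectrum C, N ⊔ i.asIdeal • (⊤ : Submodule C M) = ⊤ := by
    intro i
    rw [eq_top_iff]
    refine (hsq i).ge.trans ?_
    refine sup_le (Submodule.span_le.mpr ?_) le_sup_right
    rintro _ ⟨j, rfl⟩
    have hxj : x j = e i • sq i j + ∑ i' ∈ Finset.univ.erase i, e i' • sq i' j := by
      rw [hx]
      exact (Finset.add_sum_erase Finset.univ (fun i' => e i' • sq i' j)
        (Finset.mem_univ i)).symm
    have hdecomp : sq i j = x j - ((e i - 1) • sq i j +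
        ∑ i' ∈ Finset.univ.erase i, e i' • sq i' j) := by
      rw [hxj, sub_smul, one_smul]
      abel
    rw [hdecomp]
    refine Submodule.sub_mem _ (Submodule.mem_sup_left ?_) (Submodule.mem_sup_right ?_)
    · rw [hN]; exact Submodule.subset_span ⟨j, rfl⟩
    · refine Submodule.add_mem _ (Submodule.smul_mem_smul (he1 i) Submodule.mem_top) ?_
      refine Submodule.sum_mem _ fun i' hi' => ?_
      exact Submodule.smul_mem_smul (he0 i' i (Finset.ne_of_mem_erase hi').symm)
        Submodule.mem_top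
  have hprod := sup_smul_top_prod N (fun i : MaximalSpectrum C => i.asIdeal) Finset.univ
    (fun i _ => hNq i)
  obtain ⟨k, hk⟩ := prod_maximal_pow_eq_bot C
  have := sup_smul_top_pow N _ hprod k
  rw [hk, Submodule.bot_smul, sup_bot_eq] at this
  exact this

theorem finrank_le_mul_of_span {L C M : Type u} [Field L] [CommRing C] [Algebra L C]
    [Module.Finite L C] [AddCommGroup M] [Module C M] [Module L M] [IsScalarTower L C M] (n : ℕ)
    (s : Fin n → M) (hs : Submodule.span C (Set.range s) = ⊤) :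
    Module.Finite L M ∧ Module.finrank L M ≤ n * Module.finrank L C := by
  have hsurj : Function.Surjective ((Fintype.linearCombination C s).restrictScalars L) := by
    have : Function.Surjective (Fintype.linearCombination C s) := by
      rw [← LinearMap.range_eq_top, Fintype.range_linearCombination, hs]
    exact this
  haveI : Module.Finite L M := Module.Finite.of_surjective _ hsurj
  refine ⟨inferInstance, ?_⟩
  calc Module.finrank L M ≤ Module.finrank L (Fin n → C) :=
        LinearMap.finrank_le_finrank_of_surjective hsurj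
    _ = n * Module.finrank L C := by
        rw [Module.finrank_pi_fintype]
        simp

theorem exists_span_of_pushout {C A B : Type u} [CommRing C] [CommRing A] [CommRing B]
    (𝔮 : Ideal C) [h𝔮 : 𝔮.IsMaximal] (a : C →+* A) (b : (C ⧸ 𝔮) →+* B) (ψ : A →+* B)
    (h : IsPushout (CommRingCat.ofHom (Ideal.Quotient.mk 𝔮)) (CommRingCat.ofHom a)
      (CommRingCat.ofHom b) (CommRingCat.ofHom ψ)) (n : ℕ) (hB : RkLE b n) :
    letI := a.toAlgebra
    ∃ s : Fin n → A, Submodule.span C (Set.range s) ⊔ 𝔮 • (⊤ : Submodule C A) = ⊤ := by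
  classical
  letI : Field (C ⧸ 𝔮) := Ideal.Quotient.field 𝔮
  letI : Algebra C A := a.toAlgebra
  letI : Algebra (C ⧸ 𝔮) B := b.toAlgebra
  letI : Algebra A B := ψ.toAlgebra
  letI : Algebra C B := (ψ.comp a).toAlgebra
  haveI : IsScalarTower C A B := IsScalarTower.of_algebraMap_eq (fun _ => rfl)
  haveI : IsScalarTower C (C ⧸ 𝔮) B := IsScalarTower.of_algebraMap_eq (fun x => by
    have := congrArg (fun f => f.hom x) h.w
    exact this.symm)
  have hpo : Algebra.IsPushout C (C ⧸ 𝔮) A B := CommRingCat.isPushout_iff_isPushout.mp h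
  let e : (C ⧸ 𝔮) ⊗[C] A ≃ₗ[C ⧸ 𝔮] B := hpo.out.equiv
  have he : ∀ (x : C ⧸ 𝔮) (y : A), e (x ⊗ₜ y) = x • ψ y := fun x y =>
    IsBaseChange.equiv_tmul hpo.out x y
  -- every tensor is `1 ⊗ a`
  have hone : ∀ z : (C ⧸ 𝔮) ⊗[C] A, ∃ y : A, z = (1 : C ⧸ 𝔮) ⊗ₜ[C] y := by
    intro z
    induction z using TensorProduct.induction_on with
    | zero => exact ⟨0, (TensorProduct.tmul_zero _ _).symm⟩
    | tmul x y =>
      obtain ⟨c, rfl⟩ := Ideal.Quotient.mk_surjective x
      refine ⟨c • y, ?_⟩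
      rw [← TensorProduct.smul_tmul]
      congr 1
      rw [Algebra.smul_def, mul_one]
      rfl
    | add z z' hz hz' =>
      obtain ⟨y, rfl⟩ := hz
      obtain ⟨y', rfl⟩ := hz'
      exact ⟨y + y', (TensorProduct.tmul_add _ _ _).symm⟩
  have hψsurj : Function.Surjective ψ := by
    intro b'
    obtain ⟨y, hy⟩ := hone (e.symm b')
    refine ⟨y, ?_⟩
    have := congrArg e hy
    rw [LinearEquiv.apply_symm_apply, he, one_smul] at this
    exact this.symm
  have hker : ∀ y : A, ψ y = 0 → y ∈ 𝔮 • (⊤ : Submodule C A) := by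
    intro y hy
    have h1 : (1 : C ⧸ 𝔮) ⊗ₜ[C] y = 0 := by
      apply e.injective
      rw [he, one_smul, hy, map_zero]
    have h2 := congrArg (TensorProduct.quotTensorEquivQuotSMul A 𝔮) h1
    rw [map_zero] at h2
    have h3 : (TensorProduct.quotTensorEquivQuotSMul A 𝔮) ((1 : C ⧸ 𝔮) ⊗ₜ[C] y) =
        Submodule.Quotient.mk y := by
      have := TensorProduct.quotTensorEquivQuotSMul_mk_tmul (M := A) 𝔮 (1 : C) y
      rwa [one_smul, map_one] at this
    rw [h3, Submodule.Quotient.mk_eq_zero] at h2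
    exact h2
  -- spanning family of `B`
  haveI : Module.Finite (C ⧸ 𝔮) B := hB.1
  obtain ⟨r, hr⟩ : ∃ r, r = Module.finrank (C ⧸ 𝔮) B := ⟨_, rfl⟩
  have hrn : r ≤ n := hr ▸ hB.2
  let bas : Module.Basis (Fin r) (C ⧸ 𝔮) B := hr ▸ Module.finBasis (C ⧸ 𝔮) B
  let t : Fin n → B := fun j => if hj : (j : ℕ) < r then bas ⟨j, hj⟩ else 0
  have ht : Submodule.span (C ⧸ 𝔮) (Set.range t) = ⊤ := by
    rw [eq_top_iff, ← bas.span_eq]
    refine Submodule.span_mono ?_
    rintro _ ⟨i, rfl⟩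
    refine ⟨⟨i, lt_of_lt_of_le i.2 hrn⟩, ?_⟩
    simp [t]
  choose s hs using fun j => hψsurj (t j)
  refine ⟨s, ?_⟩
  rw [eq_top_iff]
  rintro y -
  -- write `ψ y` as a combination
  have hy : ψ y ∈ Submodule.span (C ⧸ 𝔮) (Set.range t) := ht ▸ Submodule.mem_top
  obtain ⟨cbar, hc⟩ := (Submodule.mem_span_range_iff_exists_fun _).mp hy
  choose cc hcc using fun j => Ideal.Quotient.mk_surjective (cbar j)
  have hψ : ψ (∑ j, cc j • s j) = ψ y := by
    rw [map_sum, ← hc]
    refine Finset.sum_congr rfl fun j _ => ?_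
    rw [Algebra.smul_def, map_mul, hs, ← hcc, Algebra.smul_def]
    congr 1
    exact (IsScalarTower.algebraMap_apply C (C ⧸ 𝔮) B (cc j)).symm.trans
      (IsScalarTower.algebraMap_apply C A B (cc j)) |>.symm
  have hdiff : y - ∑ j, cc j • s j ∈ 𝔮 • (⊤ : Submodule C A) := by
    apply hker
    rw [map_sub, hψ, sub_self]
  have : y = ∑ j, cc j • s j + (y - ∑ j, cc j • s j) := by abel
  rw [this]
  refine Submodule.add_mem _ (Submodule.mem_sup_left ?_) (Submodule.mem_sup_right hdiff)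
  exact Submodule.sum_mem _ fun j _ =>
    Submodule.smul_mem _ _ (Submodule.subset_span ⟨j, rfl⟩)

theorem rkLE_comp_of_fibres {L C A : Type u} [Field L] [CommRing C] [CommRing A] (c : L →+* C)
    (a : C →+* A) (m n : ℕ) (hC : RkLE c m)
    (hfib : ∀ (𝔮 : Ideal C) [𝔮.IsMaximal], ∃ (B : Type u) (_ : CommRing B)
      (b : (C ⧸ 𝔮) →+* B) (ψ : A →+* B),
      IsPushout (CommRingCat.ofHom (Ideal.Quotient.mk 𝔮)) (CommRingCat.ofHom a)
        (CommRingCat.ofHom b) (CommRingCat.ofHom ψ) ∧ RkLE b n) :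
    RkLE (a.comp c) (n * m) := by
  letI : Algebra L C := c.toAlgebra
  letI : Algebra C A := a.toAlgebra
  letI : Algebra L A := (a.comp c).toAlgebra
  haveI : IsScalarTower L C A := IsScalarTower.of_algebraMap_eq (fun _ => rfl)
  haveI : Module.Finite L C := hC.1
  haveI : IsArtinianRing C := IsArtinianRing.of_finite L C
  obtain ⟨s, hs⟩ := span_eq_top_of_forall_maximal (C := C) (M := A) n (fun 𝔮 h𝔮 => by
    haveI := h𝔮
    obtain ⟨B, _, b, ψ, hpo, hB⟩ := hfib 𝔮
    exact exists_span_of_pushout 𝔮 a b ψ hpo n hB)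
  obtain ⟨h1, h2⟩ := finrank_le_mul_of_span (L := L) n s hs
  exact ⟨h1, h2.trans (Nat.mul_le_mul_left n hC.2)⟩

open BddFib

theorem fibreDegLE_of_isPullback {X Y X' Y' : Scheme.{u}} (f : X ⟶ Y) (g : Y' ⟶ Y) (f' : X' ⟶ Y')
    (g' : X' ⟶ X) (h : IsPullback g' f' f g) (n : ℕ) (hf : FibreDegLE f n) : FibreDegLE f' n := by
  rw [fibreDegLE_iff_forall_isField] at hf ⊢
  intro L hL c
  exact (finiteOfDegLE_snd_of_isPullback h c n).mpr (hf L hL (c ≫ g))

theorem finite_discrete_of_fibreDegLE {T S : Scheme.{u}} (q : T ⟶ S) (n : ℕ)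
    (hq : FibreDegLE q n) [Finite S] [DiscreteTopology S] : Finite T ∧ DiscreteTopology T := by
  have hfib : ∀ s : S, Finite (q ⁻¹' {s} : Set T) ∧ DiscreteTopology (q ⁻¹' {s} : Set T) := by
    intro s
    obtain ⟨hA, hR⟩ := (finiteOfDegLE_iff _ _ _).mp (hq s)
    obtain ⟨h1, h2⟩ := finite_discrete_of_rkLE (L := S.residueField s)
      (strHom _ (q.fiberToSpecResidueField s)).hom n hR
    have hemb := (q.fiber s).isoSpec.hom.isOpenEmbedding
    haveI : Finite (Spec Γ(q.fiber s, ⊤)) := h1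
    haveI : DiscreteTopology (Spec Γ(q.fiber s, ⊤)) := h2
    haveI : Finite (q.fiber s) := Finite.of_injective _ hemb.injective
    haveI : DiscreteTopology (q.fiber s) := hemb.isEmbedding.discreteTopology
    exact ⟨Finite.of_equiv _ (q.fiberHomeo s).toEquiv,
      (q.fiberHomeo s).symm.isEmbedding.discreteTopology⟩
  haveI : ∀ s : S, Finite (q ⁻¹' {s} : Set T) := fun s => (hfib s).1
  have hfin : Finite T :=
    Finite.of_injective (fun x : T => (⟨q x, ⟨x, rfl⟩⟩ : Σ s : S, (q ⁻¹' {s} : Set T)))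
      (fun x y h => by
        have := congrArg (fun z : Σ s : S, (q ⁻¹' {s} : Set T) => (z.2 : T)) h
        exact this)
  refine ⟨hfin, ?_⟩
  rw [discreteTopology_iff_isOpen_singleton]
  intro x
  have hU : IsOpen (q ⁻¹' {q x} : Set T) := (isOpen_discrete {q x}).preimage q.continuous
  haveI := (hfib (q x)).2
  have := hU.isOpenEmbedding_subtypeVal.isOpenMap _
    (isOpen_discrete {(⟨x, rfl⟩ : (q ⁻¹' {q x} : Set T))})
  rwa [Set.image_singleton] at this

theorem isPushout_quot {T S : Scheme.{u}} [IsAffine T] [IsAffine S] (q : T ⟶ S)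
    {K : CommRingCat.{u}} (φ : Γ(S, ⊤) ⟶ K) :
    IsPushout φ q.appTop (strHom K (pullback.snd q (Spec.map φ ≫ S.isoSpec.inv)))
      (pullback.fst q (Spec.map φ ≫ S.isoSpec.inv)).appTop := by
  have hS : S.isoSpec.inv.appTop ≫ (Scheme.ΓSpecIso Γ(S, ⊤)).hom = 𝟙 _ := by
    rw [← Scheme.toSpecΓ_appTop, ← Scheme.Hom.comp_appTop, Scheme.toSpecΓ_isoSpec_inv]
    rfl
  have po := (isPushout_appTop_of_isPullback
    (IsPullback.of_hasPullback q (Spec.map φ ≫ S.isoSpec.inv))).flip
  refine po.of_iso (Iso.refl _) (Scheme.ΓSpecIso K) (Iso.refl _) (Iso.refl _) ?_ ?_ ?_ ?_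
  · rw [Scheme.Hom.comp_appTop, Category.assoc, Scheme.ΓSpecIso_naturality, reassoc_of% hS]
    simp
  · simp
  · simp [strHom]
  · simp

theorem finiteOfDegLE_comp {L : CommRingCat.{u}} (hL : IsField L) {T S : Scheme.{u}} (q : T ⟶ S)
    (p : S ⟶ Spec L) (m n : ℕ) (hp : FiniteOfDegLE L p m) (hq : FibreDegLE q n) :
    FiniteOfDegLE L (q ≫ p) (n * m) := by
  rw [finiteOfDegLE_iff] at hp ⊢
  obtain ⟨hS, hRp⟩ := hp
  letI := hL.toField
  obtain ⟨h1, h2⟩ := finite_discrete_of_rkLE (L := L) (strHom L p).hom m hRp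
  have hemb := S.isoSpec.hom.isOpenEmbedding
  haveI : Finite (Spec Γ(S, ⊤)) := h1
  haveI : DiscreteTopology (Spec Γ(S, ⊤)) := h2
  haveI : Finite S := Finite.of_injective _ hemb.injective
  haveI : DiscreteTopology S := hemb.isEmbedding.discreteTopology
  obtain ⟨hT1, hT2⟩ := finite_discrete_of_fibreDegLE q n hq
  haveI := hT1
  haveI := hT2
  haveI : IsAffine T := inferInstance
  refine ⟨inferInstance, ?_⟩
  have hstr : (strHom L (q ≫ p)).hom = q.appTop.hom.comp (strHom L p).hom := by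
    rw [strHom, strHom, Scheme.Hom.comp_appTop]
    rfl
  rw [hstr]
  refine rkLE_comp_of_fibres (strHom L p).hom q.appTop.hom m n hRp ?_
  intro 𝔮 h𝔮
  have hK : IsField (CommRingCat.of (Γ(S, ⊤) ⧸ 𝔮)) :=
    (Ideal.Quotient.maximal_ideal_iff_isField_quotient 𝔮).mp h𝔮
  obtain ⟨hA, hR⟩ := (finiteOfDegLE_iff _ _ _).mp
    ((fibreDegLE_iff_forall_isField q n).mp hq _ hK
      (Spec.map (CommRingCat.ofHom (Ideal.Quotient.mk 𝔮)) ≫ S.isoSpec.inv))
  exact ⟨Γ(pullback q (Spec.map (CommRingCat.ofHom (Ideal.Quotient.mk 𝔮)) ≫ S.isoSpec.inv), ⊤),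
    inferInstance, _, _, isPushout_quot q (CommRingCat.ofHom (Ideal.Quotient.mk 𝔮)), hR⟩

theorem fibreDegLE_comp_mul {X Y Z : Scheme.{u}} (f : X ⟶ Y) (g : Y ⟶ Z) (n m : ℕ)
    (hf : FibreDegLE f n) (hg : FibreDegLE g m) : FibreDegLE (f ≫ g) (n * m) := by
  rw [fibreDegLE_iff_forall_isField]
  intro L hL c
  have hp : FiniteOfDegLE L (pullback.snd g c) m :=
    (fibreDegLE_iff_forall_isField g m).mp hg L hL c
  have hq : FibreDegLE (pullback.snd f (pullback.fst g c)) n :=
    fibreDegLE_of_isPullback f (pullback.fst g c) _ _ (IsPullback.of_hasPullback _ _) n hf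
  have hcomp := finiteOfDegLE_comp hL _ _ m n hp hq
  have hbig : IsPullback (pullback.fst f (pullback.fst g c))
      (pullback.snd f (pullback.fst g c) ≫ pullback.snd g c) (f ≫ g) c :=
    (IsPullback.of_hasPullback f (pullback.fst g c)).paste_vert (IsPullback.of_hasPullback g c)
  exact finiteOfDegLE_of_iso _ _ hbig.isoPullback.symm (by simp) hcomp

end Groth.Agent.Lib.BddFib_helper6
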