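import Mathlib
import Groth.Prelude.Def_MoreMor
import Groth.Agent.Lib.BddFib4_helper6
set_option autoImplicit false
universe u

namespace Groth.Agent.Lib.NilThick_helper6

open CategoryTheory CategoryTheory.Limits AlgebraicGeometry TensorProduct

section Alg

theorem mem_smul_top_of_one_tmul_eq_zero {R S M : Type*} [CommRing R] [CommRing S] [Algebra R S]
    [AddCommGroup M] [Module R M] (hsurj : Function.Surjective (algebraMap R S)) (m : M)
    (h : (1 : S) ⊗ₜ[R] m = 0) :
    m ∈ (RingHom.ker (algebraMap R S)) • (⊤ : Submodule R M) := by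
  obtain ⟨I, hI⟩ : ∃ I : Ideal R, I = RingHom.ker (algebraMap R S) := ⟨_, rfl⟩
  rw [← hI]
  have hex : Function.Exact (I.subtype : I →ₗ[R] R) (Algebra.linearMap R S) := by
    subst hI
    intro x
    constructor
    · intro hx
      have hx' : algebraMap R S x = 0 := hx
      exact ⟨⟨x, RingHom.mem_ker.mpr hx'⟩, rfl⟩
    · rintro ⟨y, rfl⟩
      have : algebraMap R S y.1 = 0 := RingHom.mem_ker.mp y.2
      exact this
  have hex' := rTensor_exact M hex hsurj
  have h1 : (LinearMap.rTensor M (Algebra.linearMap R S)) ((1 : R) ⊗ₜ[R] m) = 0 := by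
    rw [LinearMap.rTensor_tmul, Algebra.linearMap_apply, map_one]
    exact h
  obtain ⟨t, ht⟩ := (hex' _).mp h1
  have key : ∀ t : I ⊗[R] M,
      TensorProduct.lid R M (LinearMap.rTensor M I.subtype t) ∈ I • (⊤ : Submodule R M) := by
    intro t
    induction t using TensorProduct.induction_on with
    | zero => simp
    | tmul i y =>
      rw [LinearMap.rTensor_tmul, TensorProduct.lid_tmul]
      exact Submodule.smul_mem_smul i.2 Submodule.mem_top
    | add x y hx hy =>
      rw [map_add, map_add]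
      exact Submodule.add_mem _ hx hy
  have := key t
  rw [ht, TensorProduct.lid_tmul, one_smul] at this
  exact this

variable {C D A B : Type u} [CommRing C] [CommRing D] [CommRing A] [CommRing B]

theorem pushout_surjective_ker (π : C →+* D) (hπ : Function.Surjective π) (a : C →+* A)
    (b : D →+* B) (ψ : A →+* B)
    (h : IsPushout (CommRingCat.ofHom π) (CommRingCat.ofHom a) (CommRingCat.ofHom b)
      (CommRingCat.ofHom ψ)) :
    Function.Surjective ψ ∧ RingHom.ker ψ ≤ (RingHom.ker π).map a := by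
  letI : Algebra C A := a.toAlgebra
  letI : Algebra C D := π.toAlgebra
  letI : Algebra D B := b.toAlgebra
  letI : Algebra A B := ψ.toAlgebra
  letI : Algebra C B := (ψ.comp a).toAlgebra
  haveI : IsScalarTower C A B := IsScalarTower.of_algebraMap_eq (fun _ => rfl)
  haveI : IsScalarTower C D B := IsScalarTower.of_algebraMap_eq (fun x => by
    have := congrArg (fun f => f.hom x) h.w
    exact this.symm)
  have hpo : Algebra.IsPushout C D A B := CommRingCat.isPushout_iff_isPushout.mp h
  let e : D ⊗[C] A ≃ₗ[D] B := hpo.out.equiv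
  have he : ∀ (x : D) (y : A), e (x ⊗ₜ y) = x • ψ y := fun x y =>
    IsBaseChange.equiv_tmul hpo.out x y
  have hone : ∀ z : D ⊗[C] A, ∃ y : A, z = (1 : D) ⊗ₜ[C] y := by
    intro z
    induction z using TensorProduct.induction_on with
    | zero => exact ⟨0, (TensorProduct.tmul_zero _ _).symm⟩
    | tmul x y =>
      obtain ⟨c, rfl⟩ := hπ x
      refine ⟨c • y, ?_⟩
      rw [← TensorProduct.smul_tmul]
      congr 1
      rw [Algebra.smul_def, mul_one]
      rfl
    | add z z' hz hz' =>
      obtain ⟨y, rfl⟩ := hz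
      obtain ⟨y', rfl⟩ := hz'
      exact ⟨y + y', (TensorProduct.tmul_add _ _ _).symm⟩
  have hψsurj : Function.Surjective ψ := by
    intro b'
    obtain ⟨y, hy⟩ := hone (e.symm b')
    refine ⟨y, ?_⟩
    have := congrArg e hy
    rw [LinearEquiv.apply_symm_apply, he, one_smul] at this
    exact this.symm
  refine ⟨hψsurj, ?_⟩
  intro y hy
  have h1 : (1 : D) ⊗ₜ[C] y = 0 := by
    apply e.injective
    rw [he, one_smul, RingHom.mem_ker.mp hy, map_zero]
  have := mem_smul_top_of_one_tmul_eq_zero (R := C) (S := D) (M := A) hπ y h1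
  rw [Ideal.smul_top_eq_map] at this
  exact this

theorem finiteType_of_comp_surjective_of_ker_le_map {R B C : Type u} [CommRing R] [CommRing B]
    [CommRing C] (φ : R →+* B) (π : B →+* C) (hπ : Function.Surjective π) (I : Ideal R)
    (hI : IsNilpotent I) (hker : RingHom.ker π ≤ I.map φ) (h : (π.comp φ).FiniteType) :
    φ.FiniteType := by
  classical
  letI : Algebra R B := φ.toAlgebra
  letI : Algebra R C := (π.comp φ).toAlgebra
  let πa : B →ₐ[R] C := { π with commutes' := fun r => rfl }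
  obtain ⟨n, f, hf⟩ := Algebra.FiniteType.iff_quotient_mvPolynomial''.mp h
  choose b hb using fun i : Fin n => hπ (f (MvPolynomial.X i))
  let Φ : MvPolynomial (Fin n) R →ₐ[R] B := MvPolynomial.aeval b
  have hcomp : πa.comp Φ = f := by
    refine MvPolynomial.algHom_ext fun i => ?_
    simp only [AlgHom.comp_apply, Φ, MvPolynomial.aeval_X]
    exact hb i
  have hA : Φ.range.toSubmodule ⊔ I • (⊤ : Submodule R B) = ⊤ := by
    rw [eq_top_iff]
    rintro x -
    obtain ⟨p, hp⟩ := hf (π x)
    have hx : x = Φ p + (x - Φ p) := by abel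
    rw [hx]
    refine Submodule.add_mem _
      (Submodule.mem_sup_left ((Subalgebra.mem_toSubmodule _).mpr (AlgHom.mem_range_self Φ _)))
      (Submodule.mem_sup_right ?_)
    have h1 : π (Φ p) = f p := DFunLike.congr_fun hcomp p
    have h2 : x - Φ p ∈ RingHom.ker π := by
      rw [RingHom.mem_ker, map_sub, h1, hp, sub_self]
    have h3 := hker h2
    rw [Ideal.smul_top_eq_map]
    exact h3
  obtain ⟨k, hk⟩ := hI
  have hk' : I ^ (k + 1) = ⊥ := by
    rw [pow_succ, hk]
    simp
  have htop := Groth.Agent.Lib.BddFib_helper6.sup_smul_top_pow Φ.range.toSubmodule I hA k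
  rw [hk', Submodule.bot_smul, sup_bot_eq] at htop
  have hsurj : Function.Surjective Φ := by
    intro x
    have : x ∈ Φ.range.toSubmodule := htop ▸ Submodule.mem_top
    exact this
  exact Algebra.FiniteType.of_surjective Φ hsurj

theorem finiteType_of_pushout_nilpotent (π : C →+* D) (hπ : Function.Surjective π)
    (hnil : IsNilpotent (RingHom.ker π)) (a : C →+* A) (b : D →+* B) (ψ : A →+* B)
    (h : IsPushout (CommRingCat.ofHom π) (CommRingCat.ofHom a) (CommRingCat.ofHom b)
      (CommRingCat.ofHom ψ)) (hb : b.FiniteType) : a.FiniteType := by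
  obtain ⟨hψ, hker⟩ := pushout_surjective_ker π hπ a b ψ h
  have hcomp : (ψ.comp a).FiniteType := by
    have hw : ψ.comp a = b.comp π := by
      have := congrArg (fun f => f.hom) h.w
      exact this.symm
    rw [hw]
    exact hb.comp (RingHom.FiniteType.of_surjective π hπ)
  exact finiteType_of_comp_surjective_of_ker_le_map a ψ hψ (RingHom.ker π) hnil hker hcomp

theorem kaehler_mem_smul_top_of_pushout (π : C →+* D) (hπ : Function.Surjective π)
    (a : C →+* A) (b : D →+* B) (ψ : A →+* B)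
    (h : IsPushout (CommRingCat.ofHom π) (CommRingCat.ofHom a) (CommRingCat.ofHom b)
      (CommRingCat.ofHom ψ)) (hb : b.FormallyUnramified) :
    letI := a.toAlgebra
    ∀ m : Ω[A⁄C], m ∈ (RingHom.ker π) • (⊤ : Submodule C Ω[A⁄C]) := by
  letI : Algebra C A := a.toAlgebra
  letI : Algebra C D := π.toAlgebra
  letI : Algebra D B := b.toAlgebra
  letI : Algebra A B := ψ.toAlgebra
  letI : Algebra C B := (ψ.comp a).toAlgebra
  haveI : IsScalarTower C A B := IsScalarTower.of_algebraMap_eq (fun _ => rfl)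
  haveI : IsScalarTower C D B := IsScalarTower.of_algebraMap_eq (fun x => by
    have := congrArg (fun f => f.hom x) h.w
    exact this.symm)
  haveI hpo : Algebra.IsPushout C D A B := CommRingCat.isPushout_iff_isPushout.mp h
  haveI : Algebra.FormallyUnramified D B := hb
  haveI : Subsingleton (D ⊗[C] Ω[A⁄C]) :=
    (KaehlerDifferential.tensorKaehlerEquivBase C D A B).toEquiv.subsingleton
  intro m
  exact mem_smul_top_of_one_tmul_eq_zero (R := C) (S := D) hπ m (Subsingleton.elim _ _)

theorem formallyUnramified_of_pushout_nilpotent (π : C →+* D) (hπ : Function.Surjective π)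
    (hnil : IsNilpotent (RingHom.ker π)) (a : C →+* A) (b : D →+* B) (ψ : A →+* B)
    (h : IsPushout (CommRingCat.ofHom π) (CommRingCat.ofHom a) (CommRingCat.ofHom b)
      (CommRingCat.ofHom ψ)) (hb : b.FormallyUnramified) : a.FormallyUnramified := by
  have hmem := kaehler_mem_smul_top_of_pushout π hπ a b ψ h hb
  letI : Algebra C A := a.toAlgebra
  show Algebra.FormallyUnramified C A
  rw [Algebra.formallyUnramified_iff]
  have htop : (⊥ : Submodule C Ω[A⁄C]) ⊔ (RingHom.ker π) • (⊤ : Submodule C Ω[A⁄C]) = ⊤ := by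
    rw [bot_sup_eq, eq_top_iff]
    intro m _
    exact hmem m
  obtain ⟨k, hk⟩ := hnil
  have hk' : (RingHom.ker π) ^ (k + 1) = ⊥ := by
    rw [pow_succ, hk]
    simp
  have := Groth.Agent.Lib.BddFib_helper6.sup_smul_top_pow ⊥ (RingHom.ker π) htop k
  rw [hk', Submodule.bot_smul, sup_bot_eq] at this
  refine ⟨fun x y => ?_⟩
  have hx : x ∈ (⊥ : Submodule C Ω[A⁄C]) := this ▸ Submodule.mem_top
  have hy : y ∈ (⊥ : Submodule C Ω[A⁄C]) := this ▸ Submodule.mem_top
  rw [(Submodule.mem_bot C).mp hx, (Submodule.mem_bot C).mp hy]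

theorem formallyUnramified_of_pushout_nil_finiteType (π : C →+* D) (hπ : Function.Surjective π)
    (hnil : RingHom.ker π ≤ nilradical C) (a : C →+* A) (b : D →+* B) (ψ : A →+* B)
    (h : IsPushout (CommRingCat.ofHom π) (CommRingCat.ofHom a) (CommRingCat.ofHom b)
      (CommRingCat.ofHom ψ)) (ha : a.FiniteType) (hb : b.FormallyUnramified) :
    a.FormallyUnramified := by
  have hmem := kaehler_mem_smul_top_of_pushout π hπ a b ψ h hb
  letI : Algebra C A := a.toAlgebra
  haveI : Algebra.FiniteType C A := ha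
  haveI : Module.Finite A Ω[A⁄C] := inferInstance
  show Algebra.FormallyUnramified C A
  rw [Algebra.formallyUnramified_iff]
  obtain ⟨J, hJdef⟩ : ∃ J : Ideal A, J = (RingHom.ker π).map a := ⟨_, rfl⟩
  have hJ : J ≤ Ideal.jacobson ⊥ := by
    refine le_trans ?_ (Ideal.radical_le_jacobson (I := (⊥ : Ideal A)))
    rw [hJdef]
    refine Ideal.map_le_iff_le_comap.mpr fun x hx => ?_
    have hx' : IsNilpotent x := mem_nilradical.mp (hnil hx)
    exact mem_nilradical.mpr (hx'.map a)
  have hle : (⊤ : Submodule A Ω[A⁄C]) ≤ J • ⊤ := by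
    intro m _
    have := hmem m
    refine Submodule.smul_induction_on this (fun i hi y _ => ?_)
      (fun x y hx hy => Submodule.add_mem _ hx hy)
    rw [← algebraMap_smul A i y]
    refine Submodule.smul_mem_smul ?_ Submodule.mem_top
    rw [hJdef]
    exact Ideal.mem_map_of_mem _ hi
  have hbot := Submodule.eq_bot_of_le_smul_of_le_jacobson_bot J ⊤ Module.Finite.fg_top hle hJ
  refine ⟨fun x y => ?_⟩
  have hx : x ∈ (⊥ : Submodule A Ω[A⁄C]) := hbot ▸ Submodule.mem_top
  have hy : y ∈ (⊥ : Submodule A Ω[A⁄C]) := hbot ▸ Submodule.mem_top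
  rw [(Submodule.mem_bot A).mp hx, (Submodule.mem_bot A).mp hy]

end Alg

section Sch

theorem resLE_appTop_topIso {X Y : Scheme.{u}} (f : X ⟶ Y) (U : Y.Opens) (V : X.Opens)
    (e : V ≤ f ⁻¹ᵁ U) :
    (f.resLE U V e).appTop ≫ V.topIso.hom = U.topIso.hom ≫ f.appLE U V e := by
  exact (Arrow.w (arrowResLEAppIso f U V e).hom).symm

theorem isPushout_appLE_of_isPullback {X Y S T : Scheme.{u}} {f : T ⟶ S} {g : Y ⟶ X} {iX : X ⟶ S}
    {iY : Y ⟶ T} (H : IsPullback g iY iX f) {US : S.Opens} {UT : T.Opens} {UX : X.Opens}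
    (hUS : IsAffineOpen US) (hUT : IsAffineOpen UT) (hUX : IsAffineOpen UX)
    (hUST : UT ≤ f ⁻¹ᵁ US) (hUSX : UX ≤ iX ⁻¹ᵁ US) :
    IsAffineOpen (g ⁻¹ᵁ UX ⊓ iY ⁻¹ᵁ UT) ∧
    IsPushout (iX.appLE US UX hUSX) (f.appLE US UT hUST)
      (g.appLE UX (g ⁻¹ᵁ UX ⊓ iY ⁻¹ᵁ UT) inf_le_left)
      (iY.appLE UT (g ⁻¹ᵁ UX ⊓ iY ⁻¹ᵁ UT) inf_le_right) := by
  haveI : IsAffine US.toScheme := hUS
  haveI : IsAffine UT.toScheme := hUT
  haveI : IsAffine UX.toScheme := hUX
  have hpb := Scheme.Hom.isPullback_resLE H hUST hUSX (UY := g ⁻¹ᵁ UX ⊓ iY ⁻¹ᵁ UT) rfl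
  refine ⟨IsAffine.of_isPullback hpb, ?_⟩
  have po := isPushout_appTop_of_isPullback hpb
  refine po.of_iso US.topIso UX.topIso UT.topIso (Scheme.Opens.topIso _) ?_ ?_ ?_ ?_
  all_goals exact resLE_appTop_topIso _ _ _ _

theorem of_isPullback_affineHom {P : MorphismProperty Scheme.{u}}
    {Q : ∀ {R S : Type u} [CommRing R] [CommRing S], (R →+* S) → Prop} [HasRingHomProperty P Q]
    {X X' S S' : Scheme.{u}} (iX : X ⟶ X') (iS : S ⟶ S') (f : X ⟶ S) (f' : X' ⟶ S')
    [IsAffineHom iS] (hc : IsPullback iX f f' iS)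
    (hQ : ∀ (U' : S'.affineOpens) (V' : X'.affineOpens) (e : V'.1 ≤ f' ⁻¹ᵁ U'.1)
      (B : CommRingCat.{u}) (b : Γ(S, iS ⁻¹ᵁ U'.1) ⟶ B) (ψ : Γ(X', V'.1) ⟶ B),
      IsPushout (iS.app U'.1) (f'.appLE U'.1 V'.1 e) b ψ → Q b.hom →
        Q (f'.appLE U'.1 V'.1 e).hom)
    (hf : P f) : P f' := by
  rw [HasRingHomProperty.iff_appLE (P := P)]
  intro U' V' e
  have hUT : IsAffineOpen (iS ⁻¹ᵁ U'.1) := U'.2.preimage iS
  obtain ⟨haff, po⟩ := isPushout_appLE_of_isPullback hc U'.2 hUT V'.2 le_rfl e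
  rw [Scheme.Hom.appLE_eq_app] at po
  refine hQ U' V' e _ _ _ po.flip ?_
  exact HasRingHomProperty.appLE (P := P) f hf ⟨_, hUT⟩ ⟨_, haff⟩ inf_le_right

theorem isNilpotent_ker_app {S S' : Scheme.{u}} (iS : S ⟶ S') [QuasiCompact iS]
    (h : IsNilpotent iS.ker) (U : S'.affineOpens) :
    IsNilpotent (RingHom.ker (iS.app U.1).hom) := by
  obtain ⟨n, hn⟩ := h
  refine ⟨n, ?_⟩
  rw [← Scheme.Hom.ker_apply]
  have := congrArg (fun I => I.ideal U) hn
  simpa using this

theorem ker_app_le_nilradical {S S' : Scheme.{u}} (iS : S ⟶ S') [Surjective iS]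
    (U : S'.affineOpens) :
    RingHom.ker (iS.app U.1).hom ≤ nilradical Γ(S', U.1) := by
  intro s hs
  rw [mem_nilradical, Scheme.isNilpotent_iff_basicOpen_eq_bot_of_isCompact U.2.isCompact,
    eq_bot_iff]
  intro y hy
  obtain ⟨x, rfl⟩ := iS.surjective y
  have hx : x ∈ iS ⁻¹ᵁ (S'.basicOpen s) := hy
  rw [Scheme.preimage_basicOpen] at hx
  have h0 : (iS.app U.1).hom s = 0 := RingHom.mem_ker.mp hs
  have h1 : S.basicOpen ((iS.app U.1).hom s) = ⊥ := by rw [h0]; exact Scheme.basicOpen_zero _ _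
  have : x ∈ (⊥ : S.Opens) := h1 ▸ hx
  exact this.elim

theorem finiteOrderThickening_locallyOfFiniteType_iff {X X' S S' : Scheme.{u}} (iX : X ⟶ X')
    (iS : S ⟶ S') (f : X ⟶ S) (f' : X' ⟶ S') (hS : MoreMor.IsFiniteOrderThickening iS)
    (hc : IsPullback iX f f' iS) : LocallyOfFiniteType f ↔ LocallyOfFiniteType f' := by
  haveI := hS.1.1
  constructor
  · intro hf
    refine of_isPullback_affineHom (P := @LocallyOfFiniteType) iX iS f f' hc ?_ hf
    intro U' V' e B b ψ po hb
    exact finiteType_of_pushout_nilpotent (iS.app U'.1).hom (iS.app_surjective U'.1 U'.2)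
      (isNilpotent_ker_app iS hS.2 U') _ b.hom ψ.hom po hb
  · intro hf'
    exact MorphismProperty.of_isPullback hc hf'

theorem finiteOrderThickening_formallyUnramified_iff {X X' S S' : Scheme.{u}} (iX : X ⟶ X')
    (iS : S ⟶ S') (f : X ⟶ S) (f' : X' ⟶ S') (hS : MoreMor.IsFiniteOrderThickening iS)
    (hc : IsPullback iX f f' iS) : FormallyUnramified f ↔ FormallyUnramified f' := by
  haveI := hS.1.1
  constructor
  · intro hf
    refine of_isPullback_affineHom (P := @FormallyUnramified) iX iS f f' hc ?_ hf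
    intro U' V' e B b ψ po hb
    exact formallyUnramified_of_pushout_nilpotent (iS.app U'.1).hom
      (iS.app_surjective U'.1 U'.2) (isNilpotent_ker_app iS hS.2 U') _ b.hom ψ.hom po hb
  · intro hf'
    exact MorphismProperty.of_isPullback hc hf'

theorem thickening_lft_formallyUnramified_iff {X X' Y Y' : Scheme.{u}} (iX : X ⟶ X')
    (iY : Y ⟶ Y') (f : X ⟶ Y) (f' : X' ⟶ Y') (hY : MoreMor.IsThickening iY)
    (hc : IsPullback iX f f' iY) [LocallyOfFiniteType f'] :
    FormallyUnramified f ↔ FormallyUnramified f' := by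
  haveI := hY.1
  haveI := hY.2
  constructor
  · intro hf
    refine of_isPullback_affineHom (P := @FormallyUnramified) iX iY f f' hc ?_ hf
    intro U' V' e B b ψ po hb
    exact formallyUnramified_of_pushout_nil_finiteType (iY.app U'.1).hom
      (iY.app_surjective U'.1 U'.2) (ker_app_le_nilradical iY U') _ b.hom ψ.hom po
      (HasRingHomProperty.appLE (P := @LocallyOfFiniteType) f' inferInstance U' V' e) hb
  · intro hf'
    exact MorphismProperty.of_isPullback hc hf'

end Sch

end Groth.Agent.Lib.NilThick_helper6
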