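import Mathlib
import Groth.Prelude
import Groth.Agent.Lib.FibVan3_helper2
import Groth.Agent.Lib.ClPush1_helper8
import Groth.Agent.Lib.NilThick2_helper6
import Groth.Agent.Lib.FormalFnLeray_helper2
import Groth.Agent.Lib.RpushVanish_helper9

/-!
# Cohomology of the closed fibre and of `F/mF` (helper2)

`X` over `Spec A`, `A → κ` surjective with kernel `m`, `Z = X ×_A Spec κ` with `ι : Z ⟶ X`:
`F/mF ≅ ι_* ι^* (F/mF)` and `ι^*(F/mF) ≅ ι^* F`, hence `H^q(Z, ι^*F) = 0 ⇒ H^q(X, F/mF) = 0`.

APPEND-ONLY once landed.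
-/

set_option autoImplicit false
universe u

open CategoryTheory CategoryTheory.Limits AlgebraicGeometry TopologicalSpace Opposite

namespace Groth.Agent.Lib.FibVanH2

open Formal Groth.Agent.Lib.FormalModPowH4 Groth.Agent.Lib.FormalFnH2 Groth.Agent.Lib.FlatBCH2
  Groth.Agent.HHVan Groth.Agent.ProjFin

section Fib

variable (A κ : Type u) [CommRing A] [CommRing κ] [Algebra A κ] (m : Ideal A)
  {X Z : Scheme.{u}} [X.Over (Spec (CommRingCat.of A))] [Z.Over (Spec (CommRingCat.of κ))]
  (ι : Z ⟶ X)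
  (hsq : IsPullback ι (Z ↘ Spec (CommRingCat.of κ)) (X ↘ Spec (CommRingCat.of A))
    (Spec.map (CommRingCat.ofHom (algebraMap A κ))))

include hsq in
theorem ι_comm :
    (Scheme.ΓSpecIso (CommRingCat.of A)).inv ≫ (X ↘ Spec (CommRingCat.of A)).appTop ≫
        ι.appTop =
      CommRingCat.ofHom (algebraMap A κ) ≫
        (Scheme.ΓSpecIso (CommRingCat.of κ)).inv ≫ (Z ↘ Spec (CommRingCat.of κ)).appTop := by
  have h1 : (X ↘ Spec (CommRingCat.of A)).appTop ≫ ι.appTop =
      (Spec.map (CommRingCat.ofHom (algebraMap A κ))).appTop ≫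
        (Z ↘ Spec (CommRingCat.of κ)).appTop := by
    rw [← Scheme.Hom.comp_appTop, ← Scheme.Hom.comp_appTop]
    exact congrArg Scheme.Hom.appTop hsq.w
  have h2 : (Scheme.ΓSpecIso (CommRingCat.of A)).inv ≫
      (Spec.map (CommRingCat.ofHom (algebraMap A κ))).appTop =
      CommRingCat.ofHom (algebraMap A κ) ≫ (Scheme.ΓSpecIso (CommRingCat.of κ)).inv :=
    (Scheme.ΓSpecIso_inv_naturality (CommRingCat.ofHom (algebraMap A κ))).symm
  rw [h1, ← Category.assoc, h2, Category.assoc]

include hsq in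
theorem ι_appTop_toGlobal (c : A) :
    ι.appTop.hom (Coh.toGlobal (X ↘ Spec (CommRingCat.of A)) c) =
      Coh.toGlobal (Z ↘ Spec (CommRingCat.of κ)) (algebraMap A κ c) :=
  congrArg (fun φ => φ.hom c) (ι_comm A κ ι hsq)

include hsq in
theorem ι_app_rU (c : A) (V : X.Opens) :
    (ι.app V).hom (rU c V) = rU (algebraMap A κ c) (ι ⁻¹ᵁ V) := by
  have h1 := ι.naturality (homOfLE (le_top : V ≤ ⊤)).op
  have h2 := congrArg (fun φ => φ.hom (Coh.toGlobal (X ↘ Spec (CommRingCat.of A)) c)) h1
  refine h2.trans ?_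
  show (Z.presheaf.map _).hom
    (ι.appTop.hom (Coh.toGlobal (X ↘ Spec (CommRingCat.of A)) c)) = _
  rw [ι_appTop_toGlobal A κ ι hsq]
  rfl

include hsq in
theorem smulMod_push_eq_zero (N : Z.Modules) (c : A) (hc : algebraMap A κ c = 0) :
    Formal.smulMod A ((Scheme.Modules.pushforward ι).obj N) c = 0 := by
  refine Scheme.Modules.hom_ext _ _ (fun V => ?_)
  ext x
  show (Formal.smulMod A ((Scheme.Modules.pushforward ι).obj N) c).app V x =
    (0 : (Scheme.Modules.pushforward ι).obj N ⟶ (Scheme.Modules.pushforward ι).obj N).app V x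
  rw [smulMod_app, zero_app']
  have h1 : rU c V • x = (ι.app V).hom (rU c V) • (show Γ(N, ι ⁻¹ᵁ V) from x) := rfl
  rw [h1, ι_app_rU A κ ι hsq, hc, rU_zero, zero_smul]
  rfl

include hsq in
theorem smulFamily_unit (F : X.Modules) (J : Ideal A) (hJ : ∀ c ∈ J, algebraMap A κ c = 0) :
    Formal.smulFamily J F ≫ (Scheme.Modules.pullbackPushforwardAdjunction ι).unit.app F = 0 := by
  apply Sigma.hom_ext
  intro c
  rw [comp_zero, ← Category.assoc, ι_smulFamily]
  have h1 : Formal.smulMod A F (c : A) ≫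
      (Scheme.Modules.pullbackPushforwardAdjunction ι).unit.app F =
      (Scheme.Modules.pullbackPushforwardAdjunction ι).unit.app F ≫
        Formal.smulMod A ((Scheme.Modules.pushforward ι).obj
          ((Scheme.Modules.pullback ι).obj F)) (c : A) :=
    smulMod_naturality _ _
  rw [h1, smulMod_push_eq_zero A κ ι hsq _ _ (hJ c c.2), comp_zero]

include hsq in
theorem isIso_pullback_map_modPowπ (F : X.Modules) (hm : ∀ c ∈ m, algebraMap A κ c = 0) :
    IsIso ((Scheme.Modules.pullback ι).map (Formal.modPowπ m 1 F)) := by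
  have h0 : Formal.smulFamily (m ^ 1) F ≫
      (Scheme.Modules.pullbackPushforwardAdjunction ι).unit.app F = 0 :=
    smulFamily_unit A κ ι hsq F (m ^ 1) (fun c hc => hm c (by simpa using hc))
  let r' : Formal.modPow m 1 F ⟶
      (Scheme.Modules.pushforward ι).obj ((Scheme.Modules.pullback ι).obj F) :=
    cokernel.desc (Formal.smulFamily (m ^ 1) F)
      ((Scheme.Modules.pullbackPushforwardAdjunction ι).unit.app F) h0
  have hr' : Formal.modPowπ m 1 F ≫ r' =
      (Scheme.Modules.pullbackPushforwardAdjunction ι).unit.app F := cokernel.π_desc _ _ _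
  let r := ((Scheme.Modules.pullbackPushforwardAdjunction ι).homEquiv _ _).symm r'
  have hsplit : (Scheme.Modules.pullback ι).map (Formal.modPowπ m 1 F) ≫ r = 𝟙 _ := by
    apply ((Scheme.Modules.pullbackPushforwardAdjunction ι).homEquiv _ _).injective
    rw [Adjunction.homEquiv_naturality_left, Equiv.apply_symm_apply, hr',
      Adjunction.homEquiv_id]
  haveI : IsSplitMono ((Scheme.Modules.pullback ι).map (Formal.modPowπ m 1 F)) :=
    IsSplitMono.mk' ⟨r, hsplit⟩
  haveI : (Scheme.Modules.pullback ι).PreservesEpimorphisms :=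
    Functor.preservesEpimorphisms_of_adjunction (Scheme.Modules.pullbackPushforwardAdjunction ι)
  haveI : Epi ((Scheme.Modules.pullback ι).map (Formal.modPowπ m 1 F)) :=
    (Scheme.Modules.pullback ι).map_epi _
  exact isIso_of_epi_of_isSplitMono _

include hsq in
theorem isClosedImmersion_ι (hsurj : Function.Surjective (algebraMap A κ)) :
    IsClosedImmersion ι := by
  haveI : IsClosedImmersion (Spec.map (CommRingCat.ofHom (algebraMap A κ))) :=
    IsClosedImmersion.spec_of_surjective _ hsurj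
  exact MorphismProperty.of_isPullback hsq.flip inferInstance

include hsq in
theorem killedByIdeal_modPow_one (hsurj : Function.Surjective (algebraMap A κ))
    (hker : RingHom.ker (algebraMap A κ) = m) (F : X.Modules) :
    ClSub.KilledByIdeal ι.ker (Formal.modPow m 1 F) := by
  haveI := isClosedImmersion_ι A κ ι hsq hsurj
  intro U a ha g
  have h1 : (ι.app U.1).hom a = 0 := by
    rw [Scheme.Hom.ker_apply, RingHom.mem_ker] at ha
    exact ha
  obtain ⟨hV', hpo⟩ := isPushout_ring' hsq U.2
  have h2 := Groth.Agent.Lib.NilThick_helper6.pushout_surjective_ker (algebraMap A κ) hsurj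
    (rUHom (A := A) U.1) (rUHom (A := κ) (ι ⁻¹ᵁ U.1))
    (ι.appLE U.1 (ι ⁻¹ᵁ U.1) (le_refl _)).hom hpo.flip
  have h3 : a ∈ (RingHom.ker (algebraMap A κ)).map (rUHom (A := A) U.1) := by
    apply h2.2
    rw [RingHom.mem_ker, Scheme.Hom.appLE_eq_app]
    exact h1
  rw [hker] at h3
  have h4 : m.map (rUHom (A := A) U.1) ≤
      Module.annihilator Γ(X, U.1) Γ(Formal.modPow m 1 F, U.1) := by
    rw [Ideal.map_le_iff_le_comap]
    intro c hc
    rw [Ideal.mem_comap, Module.mem_annihilator]
    intro g'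
    show rU c U.1 • g' = 0
    rw [← smulMod_app, smulMod_modPow_eq_zero _ m 1 (by simpa using hc), zero_app']
  exact Module.mem_annihilator.mp (h4 h3) g

include hsq in
/-- **Vanishing on the fibre gives vanishing for `F/mF`.** -/
theorem subsingleton_HH_modPow_one_of_fibre (hsurj : Function.Surjective (algebraMap A κ))
    (hker : RingHom.ker (algebraMap A κ) = m) (F : X.Modules) [F.IsQuasicoherent] (q : ℕ)
    (h : Subsingleton (Coh.HH Z ((Scheme.Modules.pullback ι).obj F) q)) :
    Subsingleton (Coh.HH X (Formal.modPow m 1 F) q) := by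
  haveI : IsClosedImmersion ι := isClosedImmersion_ι A κ ι hsq hsurj
  have hk := killedByIdeal_modPow_one A κ m ι hsq hsurj hker F
  haveI := ClPushH8.isIso_unit ι (Formal.modPow m 1 F) hk
  have hm : ∀ c ∈ m, algebraMap A κ c = 0 := fun c hc => by
    rw [← hker] at hc
    exact hc
  haveI := isIso_pullback_map_modPowπ A κ m ι hsq F hm
  have h1 : Subsingleton (Coh.HH Z ((Scheme.Modules.pullback ι).obj (Formal.modPow m 1 F)) q) :=
    subsingleton_of_iso (asIso ((Scheme.Modules.pullback ι).map (Formal.modPowπ m 1 F))) q h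
  obtain ⟨e, -⟩ : ∃ e : Coh.HH Z ((Scheme.Modules.pullback ι).obj (Formal.modPow m 1 F)) q ≃+
      Coh.HH X ((Scheme.Modules.pushforward ι).obj
        ((Scheme.Modules.pullback ι).obj (Formal.modPow m 1 F))) q, True := by
    obtain ⟨e, -⟩ := exists_H_addEquiv_push_nat ι.base
      (Coh.toAb ((Scheme.Modules.pullback ι).obj (Formal.modPow m 1 F)))
      (fun q' => RpushVanish.isZero_RpushAb_of_isAffineHom ι
        ((Scheme.Modules.pullback ι).obj (Formal.modPow m 1 F)) q') q
    exact ⟨e, trivial⟩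
  have h2 : Subsingleton (Coh.HH X ((Scheme.Modules.pushforward ι).obj
      ((Scheme.Modules.pullback ι).obj (Formal.modPow m 1 F))) q) :=
    e.symm.toEquiv.subsingleton
  exact subsingleton_of_iso
    (asIso ((Scheme.Modules.pullbackPushforwardAdjunction ι).unit.app
      (Formal.modPow m 1 F))).symm q h2

end Fib

end Groth.Agent.Lib.FibVanH2
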