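import Mathlib
import Groth.Prelude
import Groth.Agent.Lib.FibVan4_helper2

/-!
# S4462: surjectivity onto the cohomology of thickenings under vanishing on the closed fibre
(helper2)

APPEND-ONLY once landed.
-/

set_option autoImplicit false
universe u

open CategoryTheory CategoryTheory.Limits AlgebraicGeometry TopologicalSpace Opposite

namespace Groth.Agent.Lib.FibVanH2

open Formal Groth.Agent.Lib.FormalModPowH4 Groth.Agent.Lib.FormalFnH2 Groth.Agent.Lib.FlatBCH2
  Groth.Agent.HHVan Groth.Agent.ProjFin

section SpecFibre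

variable (A : Type u) [CommRing A] {X : Scheme.{u}} [X.Over (Spec (CommRingCat.of A))]
  (y : PrimeSpectrum A) [hy : y.asIdeal.IsMaximal]

/-- the fibre of `X ⟶ Spec A` at a point `y`, as a scheme over the residue field of the prime -/
@[reducible] noncomputable def fibreOver :
    ((X ↘ Spec (CommRingCat.of A)).fiber y).Over (Spec (CommRingCat.of y.asIdeal.ResidueField)) :=
  ⟨(X ↘ Spec (CommRingCat.of A)).fiberToSpecResidueField y ≫
    Spec.map (Scheme.Spec.residueFieldIso (CommRingCat.of A) y).inv⟩

theorem isPullback_fibre :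
    letI := fibreOver A (X := X) y
    IsPullback ((X ↘ Spec (CommRingCat.of A)).fiberι y)
      (((X ↘ Spec (CommRingCat.of A)).fiber y) ↘ Spec (CommRingCat.of y.asIdeal.ResidueField))
      (X ↘ Spec (CommRingCat.of A))
      (Spec.map (CommRingCat.ofHom (algebraMap A y.asIdeal.ResidueField))) := by
  letI := fibreOver A (X := X) y
  have h0 : IsPullback ((X ↘ Spec (CommRingCat.of A)).fiberι y)
      ((X ↘ Spec (CommRingCat.of A)).fiberToSpecResidueField y) (X ↘ Spec (CommRingCat.of A))
      (Spec.map (Scheme.Spec.residueFieldIso (CommRingCat.of A) y).inv ≫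
        Spec.map (CommRingCat.ofHom (algebraMap A y.asIdeal.ResidueField))) := by
    rw [Scheme.Spec.map_residueFieldIso_inv_eq_fromSpecResidueField]
    exact IsPullback.of_hasPullback _ _
  refine h0.of_iso (Iso.refl _) (Iso.refl _)
    (asIso (Spec.map (Scheme.Spec.residueFieldIso (CommRingCat.of A) y).inv)) (Iso.refl _)
    ?_ ?_ ?_ ?_
  · rw [Iso.refl_hom, Iso.refl_hom, Category.comp_id, Category.id_comp]
  · rw [Iso.refl_hom, Category.id_comp, asIso_hom]
    rfl
  · rw [Iso.refl_hom, Iso.refl_hom, Category.comp_id, Category.id_comp]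
  · rw [Iso.refl_hom, Category.comp_id, asIso_hom]

variable [IsNoetherianRing A]

/-- vanishing on the fibre at a closed point gives vanishing for `F/mF` -/
theorem subsingleton_HH_modPow_one_of_fiberH (F : X.Modules) [F.IsQuasicoherent] (q : ℕ)
    (hvan : Subsingleton (CohIII.fiberH (X ↘ Spec (CommRingCat.of A)) F y q)) :
    Subsingleton (Coh.HH X (Formal.modPow y.asIdeal 1 F) q) := by
  letI := fibreOver A (X := X) y
  exact subsingleton_HH_modPow_one_of_fibre A y.asIdeal.ResidueField y.asIdeal
    ((X ↘ Spec (CommRingCat.of A)).fiberι y) (isPullback_fibre A y)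
    (Ideal.algebraMap_residueField_surjective y.asIdeal)
    (Ideal.ker_algebraMap_residueField y.asIdeal) F q hvan

end SpecFibre

section Main

theorem main4462 (A : Type u) [CommRing A] [IsNoetherianRing A]
    [IsLocalRing A] (X : Scheme.{u}) [X.Over (Spec (CommRingCat.of A))]
    [IsProper (X ↘ Spec (CommRingCat.of A))] (F : X.Modules) (hF : Coh.IsCoh F)
    (hfl : FlatMod.IsFlatOver (X ↘ Spec (CommRingCat.of A)) F) (n : ℕ)
    (hvan : Subsingleton (CohIII.fiberH (X ↘ Spec (CommRingCat.of A)) F
      (IsLocalRing.closedPoint A) (n + 1)))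
    (p : ℕ) :
    Function.Surjective (Formal.toHHmodPow (IsLocalRing.maximalIdeal A) F n p) := by
  haveI : F.IsQuasicoherent := hF.1
  haveI hmax : (IsLocalRing.closedPoint A).asIdeal.IsMaximal :=
    IsLocalRing.maximalIdeal.isMaximal A
  have h1 : Subsingleton (Coh.HH X (Formal.modPow (IsLocalRing.maximalIdeal A) 1 F) (n + 1)) :=
    subsingleton_HH_modPow_one_of_fiberH A (IsLocalRing.closedPoint A) F (n + 1) hvan
  exact surjective_toHHmodPow A (IsLocalRing.maximalIdeal A) F
    (IsLocalRing.maximalIdeal.isMaximal A) hfl hF n h1 p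

end Main

end Groth.Agent.Lib.FibVanH2
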