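import Mathlib
import Groth.Prelude
import Groth.Agent.Lib.BCBase2_helper2
import Groth.Agent.Lib.BCAlg5_helper2
import Groth.Agent.Lib.FibVan5_helper2
import Groth.Agent.Lib.BCMain4_helper2

/-!
# Cohomology and base change: the Grothendieck complex computes the cohomology of every base change,
in particular of the fibres (helper2)
APPEND-ONLY once landed.
-/

set_option autoImplicit false
universe u
open CategoryTheory Limits AlgebraicGeometry TopologicalSpace Opposite TensorProduct ChangeOfRings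

namespace Groth.Agent.Lib.BCFibH2

open Groth.Agent.Lib.CechSite Groth.Agent.Lib.BCCechH2 Groth.Agent.Lib.BCSecH2
  Groth.Agent.Lib.BCExtH2 Groth.Agent.Lib.BCCxH2 QcqsLoc Groth.Agent.Lib.FormalFnH2
  Groth.Agent.Lib.FlatBCH2 Groth.Agent.ExtendScalarsLib Groth.Agent.Lib.BCAlgH2
  Groth.Agent.Lib.BCMainH2 Groth.Agent.Lib.BCBaseH2 Groth.Agent.Lib.FibVanH2

section Cx

variable {A A' : Type u} [CommRing A] [CommRing A'] [Algebra A A']
  {X X' : Scheme.{u}} [X.Over (Spec (CommRingCat.of A))] [X'.Over (Spec (CommRingCat.of A'))]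
  {g' : X' ⟶ X}
  (hsq : IsPullback g' (X' ↘ Spec (CommRingCat.of A')) (X ↘ Spec (CommRingCat.of A))
    (Spec.map (CommRingCat.ofHom (algebraMap A A'))))
  {ι : Type u} [Fintype ι] [DecidableEq ι] (𝒰 : ι → X.Opens)
  (hU : ∀ s : Finset ι, s.Nonempty → IsAffineOpen (⨅ i ∈ s, 𝒰 i))
  (F : X.Modules) [F.IsQuasicoherent] (hcov : ⨆ i, 𝒰 i = ⊤)

/-- the cohomology of the base change is the cohomology of the base-changed Čech complex,
`A'`-linearly -/
noncomputable def hhLinBC (p : ℕ) :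
    (CohIII.bcCx (algebraMap A A') (CC A 𝒰 F)).homology (Int.ofNat p) ≃ₗ[A']
      Coh.HH X' (PB g' F) p :=
  ((HomologicalComplex.homologyFunctor (ModuleCat.{u} A') (ComplexShape.up ℤ)
      (Int.ofNat p)).mapIso (bcIso hsq 𝒰 hU F)).toLinearEquiv ≪≫ₗ
    toHHLin A' (pre g' 𝒰) (hU_pre hsq 𝒰 hU) (hcov_pre g' 𝒰 hcov) (PB g' F) p

/-- the same for a universally quasi-isomorphic replacement of the Čech complex -/
noncomputable def hhLinBCL {L : Cx A} (u : L ⟶ CC A 𝒰 F)
    (hu : ∀ M : ModuleCat.{u} A, QuasiIso ((TR M).map u)) (p : ℕ) :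
    (CohIII.bcCx (algebraMap A A') L).homology (Int.ofNat p) ≃ₗ[A'] Coh.HH X' (PB g' F) p :=
  (@asIso _ _ _ _ (HomologicalComplex.homologyMap
      (((ModuleCat.extendScalars (algebraMap A A')).mapHomologicalComplex
        (ComplexShape.up ℤ)).map u) (Int.ofNat p))
      ((quasiIsoAt_iff_isIso_homologyMap _ _).1
        ((quasiIso_iff _).1 (quasiIso_bcCx (algebraMap A A') u (hu _)) (Int.ofNat p)))).toLinearEquiv
    ≪≫ₗ hhLinBC hsq 𝒰 hU F hcov p

end Cx

/-- **Cohomology and base change.** The Grothendieck complex `L` of `F` computes the cohomology of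
all base changes. -/
theorem mainBC (A : Type u) [CommRing A] [IsNoetherianRing A] (X : Scheme.{u})
    [X.Over (Spec (CommRingCat.of A))] [IsProper (X ↘ Spec (CommRingCat.of A))]
    (F : X.Modules) (hF : Coh.IsCoh F)
    (hfl : FlatMod.IsFlatOver (X ↘ Spec (CommRingCat.of A)) F) :
    ∃ L : CochainComplex (ModuleCat.{u} A) ℤ,
      (∀ i, Module.Finite A (L.X i) ∧ Module.Free A (L.X i)) ∧
      (∃ b : ℤ, ∀ i, b < i → IsZero (L.X i)) ∧
      (∀ i : ℤ, i < 0 → ∀ M : ModuleCat.{u} A, IsZero ((CohIII.TFun L i).obj M)) ∧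
      (∀ p : ℕ, Nonempty (CohIII.tensorAFunctor A F ⋙ CohIII.HAb X p ≅
        CohIII.TFun L (p : ℤ) ⋙ forget₂ (ModuleCat.{u} A) AddCommGrpCat.{u})) ∧
      ∀ (A' : Type u) [CommRing A'] [Algebra A A'] (X' : Scheme.{u})
        [X'.Over (Spec (CommRingCat.of A'))] (g' : X' ⟶ X)
        (_ : IsPullback g' (X' ↘ Spec (CommRingCat.of A')) (X ↘ Spec (CommRingCat.of A))
          (Spec.map (CommRingCat.ofHom (algebraMap A A')))) (p : ℕ),
        Nonempty ((CohIII.bcCx (algebraMap A A') L).homology (p : ℤ) ≃ₗ[A']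
          Coh.HH X' ((Scheme.Modules.pullback g').obj F) p) := by
  classical
  haveI : F.IsQuasicoherent := hF.1
  haveI : CompactSpace X :=
    QuasiCompact.compactSpace_of_compactSpace (X ↘ Spec (CommRingCat.of A))
  obtain ⟨t, U', hU', hcov'⟩ := exists_affine_cover X
  have hd : ∀ V W : X.Opens, IsAffineOpen V → IsAffineOpen W → IsAffineOpen (V ⊓ W) :=
    inf_affine_of_separated (X ↘ Spec (CommRingCat.of A))
  let 𝒰 : ULift.{u} (Fin t) → X.Opens := fun i => U' i.down
  have hcov : ⨆ i, 𝒰 i = ⊤ := by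
    rw [eq_top_iff, ← hcov']
    exact iSup_le fun i => le_iSup 𝒰 ⟨i⟩
  have hU := isAffineOpen_biInf hd 𝒰 (fun i => hU' i.down)
  have hvan : ∀ (G : X.Modules) [G.IsQuasicoherent] (p : ℕ), t ≤ p →
      Subsingleton (Coh.HH X G p) := fun G _ p hp =>
    AffVanish.HH_subsingleton_of_cover X t U' hU' hcov' hd G p hp
  obtain ⟨L, u, hL, hLz, hu⟩ := exists_L (CC A 𝒰 F) (flat_CC A 𝒰 hU F hfl)
    (finite_homology_CC A 𝒰 hU F hcov hF) (t : ℤ)
    (fun M i hi => isZero_homology_tensor A 𝒰 hU F hcov t hvan M i hi)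
  refine ⟨L, hL, ⟨t, hLz⟩, fun i hi M => ?_, fun p => ⟨(natIso A 𝒰 hU F hcov p).symm ≪≫
    (Functor.isoWhiskerRight (TFunIso u hu (Int.ofNat p)) _).symm⟩, ?_⟩
  · have hz : IsZero ((CohIII.TFun (CC A 𝒰 F) i).obj M) := by
      cases i with
      | ofNat n =>
        exfalso
        have : (0 : ℤ) ≤ Int.ofNat n := Int.natCast_nonneg n
        omega
      | negSucc n =>
        exact isZero_homology_of_isZero_X _ _
          ((MonoidalCategory.tensorRight M).map_isZero (isZero_CC_negSucc A 𝒰 F n))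
    exact IsZero.of_iso hz ((TFunIso u hu i).app M)
  · intro A' _ _ X' _ g' hsq p
    exact ⟨hhLinBCL hsq 𝒰 hU F hcov u hu p⟩

section Fibre

variable (A : Type u) [CommRing A] {X : Scheme.{u}} [X.Over (Spec (CommRingCat.of A))]
  (y : PrimeSpectrum A)

theorem isPullback_fibre' :
    letI := fibreOver A (X := X) y
    IsPullback ((X ↘ Spec (CommRingCat.of A)).fiberι y)
      (((X ↘ Spec (CommRingCat.of A)).fiber y) ↘ Spec (CommRingCat.of y.asIdeal.ResidueField))
      (X ↘ Spec (CommRingCat.of A))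
      (Spec.map (CommRingCat.ofHom (algebraMap A y.asIdeal.ResidueField))) := by
  letI := fibreOver A (X := X) y
  have h0 : IsPullback ((X ↘ Spec (CommRingCat.of A)).fiberι y)
      ((X ↘ Spec (CommRingCat.of A)).fiberToSpecResidueField y) (X ↘ Spec (CommRingCat.of A))
      (Spec.map (Scheme.Spec.residueFieldIso (CommRingCat.of A) y).inv ≫
        Spec.map (CommRingCat.ofHom (algebraMap A y.asIdeal.ResidueField))) := by
    rw [Scheme.Spec.map_residueFieldIso_inv_eq_fromSpecResidueField]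
    exact IsPullback.of_hasPullback _ _
  refine h0.of_iso (Iso.refl _) (Iso.refl _)
    (asIso (Spec.map (Scheme.Spec.residueFieldIso (CommRingCat.of A) y).inv)) (Iso.refl _)
    ?_ ?_ ?_ ?_
  · rw [Iso.refl_hom, Iso.refl_hom, Category.comp_id, Category.id_comp]
  · rw [Iso.refl_hom, Category.id_comp, asIso_hom]
    rfl
  · rw [Iso.refl_hom, Iso.refl_hom, Category.comp_id, Category.id_comp]
  · rw [Iso.refl_hom, Category.comp_id, asIso_hom]

lemma toGlobal_comp_SpecMap {Z : Scheme.{u}} {R S : Type u} [CommRing R] [CommRing S]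
    (g : Z ⟶ Spec (CommRingCat.of S)) (ψ : R →+* S) (r : R) :
    Coh.toGlobal (g ≫ Spec.map (CommRingCat.ofHom ψ)) r = Coh.toGlobal g (ψ r) := by
  have h1 := Scheme.Hom.comp_appTop g (Spec.map (CommRingCat.ofHom ψ))
  have h2 := Scheme.ΓSpecIso_inv_naturality (CommRingCat.ofHom ψ)
  have h3 : (Scheme.ΓSpecIso (CommRingCat.of S)).inv.hom (ψ r) =
      (Spec.map (CommRingCat.ofHom ψ)).appTop.hom
        ((Scheme.ΓSpecIso (CommRingCat.of R)).inv.hom r) :=
    congrArg (fun χ => χ.hom r) h2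
  show (g ≫ Spec.map (CommRingCat.ofHom ψ)).appTop.hom
      ((Scheme.ΓSpecIso (CommRingCat.of R)).inv.hom r) =
    g.appTop.hom ((Scheme.ΓSpecIso (CommRingCat.of S)).inv.hom (ψ r))
  rw [h1, h3]
  rfl

/-- the fibre rank, in terms of the residue field of the prime -/
theorem fiberRank_eq (F : X.Modules) (p : ℕ) :
    letI := fibreOver A (X := X) y
    CohIII.fiberRank (X ↘ Spec (CommRingCat.of A)) F p y =
      Module.finrank y.asIdeal.ResidueField
        (Coh.HH ((X ↘ Spec (CommRingCat.of A)).fiber y)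
          (CohIII.fiberMod (X ↘ Spec (CommRingCat.of A)) F y) p) := by
  letI := fibreOver A (X := X) y
  have h := rank_eq_of_equiv_equiv
    (R := ↑((Spec (CommRingCat.of A)).residueField y)) (R' := y.asIdeal.ResidueField)
    (M := CohIII.fiberH (X ↘ Spec (CommRingCat.of A)) F y p)
    (M₁ := Coh.HH ((X ↘ Spec (CommRingCat.of A)).fiber y)
      (CohIII.fiberMod (X ↘ Spec (CommRingCat.of A)) F y) p)
    (Scheme.Spec.residueFieldIso (CommRingCat.of A) y).hom.hom (AddEquiv.refl _)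
    (ConcreteCategory.bijective_of_isIso (Scheme.Spec.residueFieldIso (CommRingCat.of A) y).hom)
    (fun c x => by
      have h1 := toGlobal_comp_SpecMap
        ((X ↘ Spec (CommRingCat.of A)).fiberToSpecResidueField y)
        (Scheme.Spec.residueFieldIso (CommRingCat.of A) y).inv.hom
        ((Scheme.Spec.residueFieldIso (CommRingCat.of A) y).hom.hom c)
      have h2 : (Scheme.Spec.residueFieldIso (CommRingCat.of A) y).inv.hom
          ((Scheme.Spec.residueFieldIso (CommRingCat.of A) y).hom.hom c) = c :=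
        congrArg (fun χ => χ.hom c) (Scheme.Spec.residueFieldIso (CommRingCat.of A) y).hom_inv_id
      have h1' := h1.trans (congrArg
        (Coh.toGlobal ((X ↘ Spec (CommRingCat.of A)).fiberToSpecResidueField y)) h2)
      show Coh.toGlobal ((X ↘ Spec (CommRingCat.of A)).fiberToSpecResidueField y) c • x =
        Coh.toGlobal (((X ↘ Spec (CommRingCat.of A)).fiber y) ↘
          Spec (CommRingCat.of y.asIdeal.ResidueField))
          ((Scheme.Spec.residueFieldIso (CommRingCat.of A) y).hom.hom c) • x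
      exact congrArg (· • x) h1'.symm)
  exact congrArg Cardinal.toNat h

end Fibre

/-- **The Grothendieck complex, chain-complex form, with the fibre ranks.** -/
theorem mainFibChain (A : Type u) [CommRing A] [IsNoetherianRing A] (X : Scheme.{u})
    [X.Over (Spec (CommRingCat.of A))] [IsProper (X ↘ Spec (CommRingCat.of A))]
    (F : X.Modules) (hF : Coh.IsCoh F)
    (hfl : FlatMod.IsFlatOver (X ↘ Spec (CommRingCat.of A)) F) :
    ∃ P : ChainComplex (ModuleCat.{u} A) ℤ,
      (∀ i, Module.Finite A (P.X i) ∧ Module.Free A (P.X i)) ∧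
      (∃ b : ℤ, ∀ i, i < b → IsZero (P.X i)) ∧
      (∀ i : ℤ, 0 < i → ∀ M : ModuleCat.{u} A, IsZero ((CohIII.TFun P i).obj M)) ∧
      (∀ p : ℕ, Nonempty (CohIII.tensorAFunctor A F ⋙ CohIII.HAb X p ≅
        CohIII.TFun P (-(p : ℤ)) ⋙ forget₂ (ModuleCat.{u} A) AddCommGrpCat.{u})) ∧
      (∀ (p : ℕ) (y : PrimeSpectrum A),
        CohIII.fiberRank (X ↘ Spec (CommRingCat.of A)) F p y = CohIII.dRank P (-(p : ℤ)) y) := by
  obtain ⟨L, hL, ⟨b, hb⟩, hneg, hiso, hbc⟩ := mainBC A X F hF hfl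
  refine ⟨toChain L, fun i => hL (-i), ⟨-b, fun i hi => hb (-i) (by omega)⟩,
    fun i hi M => ?_, fun p => ?_, fun p y => ?_⟩
  · exact IsZero.of_iso (hneg (-i) (by omega) M) ((TFunRestr L i).app M)
  · obtain ⟨e⟩ := hiso p
    have h : -(-(p : ℤ)) = (p : ℤ) := neg_neg _
    exact ⟨e ≪≫ Functor.isoWhiskerRight
      ((TFunRestr L (-(p : ℤ)) ≪≫ eqToIso (congrArg (CohIII.TFun L) h)).symm) _⟩
  · letI := fibreOver A (X := X) y
    obtain ⟨e⟩ := hbc y.asIdeal.ResidueField ((X ↘ Spec (CommRingCat.of A)).fiber y)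
      ((X ↘ Spec (CommRingCat.of A)).fiberι y) (isPullback_fibre' A y) p
    rw [fiberRank_eq A y F p]
    unfold CohIII.dRank
    have e2 := (homologyRestrIso (CohIII.bcCx (algebraMap A y.asIdeal.ResidueField) L)
      (-(p : ℤ)) (p : ℤ) (neg_neg _)).toLinearEquiv
    exact (e2.trans e).finrank_eq.symm

end Groth.Agent.Lib.BCFibH2
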