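import Mathlib.Algebra.Homology.HomologicalComplex
import Mathlib.Algebra.Homology.ShortComplex.HomologicalComplex
import Mathlib.Algebra.Homology.ShortComplex.ModuleCat
import Mathlib.Algebra.Category.ModuleCat.Abelian
import Mathlib.RingTheory.Length
import Mathlib.Algebra.Ring.NegOnePow
import Mathlib.Algebra.BigOperators.Group.Finset.Basic

/-!
# Helper library (helper2): Euler characteristic of a bounded complex of finite-length modules

`euler_char_chain` / `euler_char_cochain`: the alternating sum of the lengths of the terms equals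
the alternating sum of the lengths of the homology.
-/

set_option autoImplicit false
universe u v

namespace Groth.Agent.EulerCharLib

open CategoryTheory CategoryTheory.Limits

variable {A : Type u} [Ring A] {ι : Type*} {c : ComplexShape ι}

/-- Length of the image of `d i j`. -/
noncomputable def dLen (M : HomologicalComplex (ModuleCat.{v} A) c) (i j : ι) : ℕ∞ :=
  Module.length A (LinearMap.range (M.d i j).hom)

lemma length_X_eq_cycles_add (M : HomologicalComplex (ModuleCat.{v} A) c) (j k : ι)
    (hk : c.next j = k) :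
    Module.length A (M.X j) = Module.length A (M.cycles j) + dLen M j k := by
  have hex : (ShortComplex.mk (M.iCycles j) (M.d j k) (M.iCycles_d j k)).Exact :=
    ShortComplex.exact_of_f_is_kernel _ (M.cyclesIsKernel j k hk)
  rw [ShortComplex.moduleCat_exact_iff_range_eq_ker] at hex
  dsimp at hex
  have hinj : Function.Injective (M.iCycles j).hom :=
    (ModuleCat.mono_iff_injective _).mp inferInstance
  unfold dLen
  rw [Module.length_eq_add_of_exact (M.iCycles j).hom ((M.d j k).hom.rangeRestrict) hinj
    (LinearMap.surjective_rangeRestrict _)]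
  rw [LinearMap.exact_iff, LinearMap.ker_rangeRestrict, hex]

lemma length_cycles_eq (M : HomologicalComplex (ModuleCat.{v} A) c) (i j : ι)
    (hi : c.prev j = i) :
    Module.length A (M.cycles j) = dLen M i j + Module.length A (M.homology j) := by
  have hex : (ShortComplex.mk (M.toCycles i j) (M.homologyπ j) (by simp)).Exact :=
    ShortComplex.exact_of_g_is_cokernel _ (M.homologyIsCokernel i j hi)
  rw [ShortComplex.moduleCat_exact_iff_range_eq_ker] at hex
  dsimp at hex
  have hsurj : Function.Surjective (M.homologyπ j).hom :=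
    (ModuleCat.epi_iff_surjective _).mp inferInstance
  have hinj : Function.Injective (M.iCycles j).hom :=
    (ModuleCat.mono_iff_injective _).mp inferInstance
  rw [Module.length_eq_add_of_exact (LinearMap.range (M.toCycles i j).hom).subtype
    (M.homologyπ j).hom (Submodule.subtype_injective _) hsurj
    (by rw [LinearMap.exact_iff, Submodule.range_subtype, hex])]
  congr 1
  unfold dLen
  have h1 : LinearMap.range (M.d i j).hom =
      (LinearMap.range (M.toCycles i j).hom).map (M.iCycles j).hom := by
    rw [← LinearMap.range_comp, ← ModuleCat.hom_comp, M.toCycles_i]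
  rw [h1]
  exact (Submodule.equivMapOfInjective _ hinj _).length_eq

lemma length_X_eq (M : HomologicalComplex (ModuleCat.{v} A) c) (i j k : ι)
    (hi : c.prev j = i) (hk : c.next j = k) :
    Module.length A (M.X j) = dLen M i j + Module.length A (M.homology j) + dLen M j k := by
  rw [length_X_eq_cycles_add M j k hk, length_cycles_eq M i j hi]

lemma dLen_le (M : HomologicalComplex (ModuleCat.{v} A) c) (i j : ι) :
    dLen M i j ≤ Module.length A (M.X j) :=
  Module.length_le_of_injective (Submodule.subtype _) (Submodule.subtype_injective _)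

lemma dLen_eq_zero_of_isZero (M : HomologicalComplex (ModuleCat.{v} A) c) (i j : ι)
    (h : IsZero (M.X j)) : dLen M i j = 0 := by
  have h1 := dLen_le M i j
  have : Subsingleton (M.X j) := ModuleCat.subsingleton_of_isZero h
  rw [Module.length_eq_zero] at h1
  exact le_antisymm h1 bot_le

lemma dLen_eq_zero_of_isZero' (M : HomologicalComplex (ModuleCat.{v} A) c) (i j : ι)
    (h : IsZero (M.X i)) : dLen M i j = 0 := by
  unfold dLen
  rw [Module.length_eq_zero_iff]
  have h0 : M.d i j = 0 := h.eq_of_src _ _
  rw [h0]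
  simp only [ModuleCat.hom_zero, LinearMap.range_zero]
  infer_instance

/-- Shifting a finite sum over `ℤ`. -/
lemma sum_shift_eq (s : Finset ℤ) (e : ℤ) (g : ℤ → ℤ) (hg1 : ∀ j, j ∉ s → g j = 0)
    (hg2 : ∀ j, j - e ∉ s → g j = 0) :
    s.sum (fun i => g (i + e)) = s.sum g := by
  classical
  let s' : Finset ℤ := s.image (fun i => i + e)
  have hsum1 : s.sum g = (s ∪ s').sum g :=
    Finset.sum_subset Finset.subset_union_left (fun j _ hj => hg1 j hj)
  have hsum2 : s'.sum g = (s ∪ s').sum g :=
    Finset.sum_subset Finset.subset_union_right (fun j _ hj => hg2 j (by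
      intro h
      apply hj
      simp only [s', Finset.mem_image]
      exact ⟨j - e, h, by ring⟩))
  have hsum3 : s'.sum g = s.sum (fun i => g (i + e)) :=
    Finset.sum_image (fun a _ b _ h => by simpa using h)
  rw [← hsum3, hsum2, ← hsum1]

/-- Abstract telescoping: if `x i = b i + h i + b (i + e)` with `e` odd and `b` vanishing
appropriately, then the alternating sums of `x` and `h` agree. -/
lemma alt_sum_eq (s : Finset ℤ) (e : ℤ) (he : (e.negOnePow : ℤˣ) = -1) (x h b : ℤ → ℤ)
    (hx : ∀ i, x i = b i + h i + b (i + e))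
    (hb1 : ∀ j, j ∉ s → b j = 0) (hb2 : ∀ j, j - e ∉ s → b j = 0) :
    (s.sum fun i => ((i.negOnePow : ℤˣ) : ℤ) * x i) =
      s.sum fun i => ((i.negOnePow : ℤˣ) : ℤ) * h i := by
  let g : ℤ → ℤ := fun j => ((j.negOnePow : ℤˣ) : ℤ) * b j
  have h1 : ∀ i ∈ s, ((i.negOnePow : ℤˣ) : ℤ) * x i =
      g i + ((i.negOnePow : ℤˣ) : ℤ) * h i - g (i + e) := by
    intro i _
    simp only [g]
    rw [hx i, Int.negOnePow_add, he]
    push_cast
    ring
  rw [Finset.sum_congr rfl h1, Finset.sum_sub_distrib, Finset.sum_add_distrib,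
    sum_shift_eq s e g (fun j hj => by simp [g, hb1 j hj]) (fun j hj => by simp [g, hb2 j hj])]
  ring

section Main

variable (M : HomologicalComplex (ModuleCat.{v} A) c)

lemma toNat_length_X_eq (hfl : ∀ i, IsFiniteLength A (M.X i)) (i j k : ι)
    (hi : c.prev j = i) (hk : c.next j = k) :
    ((Module.length A (M.X j)).toNat : ℤ) =
      ((dLen M i j).toNat : ℤ) + ((Module.length A (M.homology j)).toNat : ℤ) +
        ((dLen M j k).toNat : ℤ) := by
  have hX : ∀ i, Module.length A (M.X i) ≠ ⊤ := fun i =>
    Module.length_ne_top_iff.mpr (hfl i)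
  have hb : ∀ i j, dLen M i j ≠ ⊤ := fun i j => ne_top_of_le_ne_top (hX j) (dLen_le M i j)
  have hH : Module.length A (M.homology j) ≠ ⊤ := by
    intro h
    have := length_X_eq M i j k hi hk
    rw [h] at this
    simp only [add_top, top_add] at this
    exact hX j this
  rw [length_X_eq M i j k hi hk, ENat.toNat_add (by simp [hb i j, hH]) (hb j k),
    ENat.toNat_add (hb i j) hH]
  push_cast
  rfl

end Main

/-- Euler characteristic for cochain complexes indexed by `ℤ`. -/
theorem euler_char_cochain (M : CochainComplex (ModuleCat.{v} A) ℤ) (s : Finset ℤ)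
    (hs : ∀ i, i ∉ s → IsZero (M.X i)) (hfl : ∀ i, IsFiniteLength A (M.X i)) :
    (s.sum fun i => ((i.negOnePow : ℤˣ) : ℤ) * ((Module.length A (M.X i)).toNat : ℤ)) =
      s.sum fun i => ((i.negOnePow : ℤˣ) : ℤ) * ((Module.length A (M.homology i)).toNat : ℤ) := by
  refine alt_sum_eq s 1 Int.negOnePow_one _ _ (fun j => ((dLen M (j - 1) j).toNat : ℤ)) ?_ ?_ ?_
  · intro j
    have := toNat_length_X_eq M hfl (j - 1) j (j + 1) (by simp) (by simp)
    rw [this]
    have e : j + 1 - 1 = j := by ring
    rw [e]
  · intro j hj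
    rw [dLen_eq_zero_of_isZero M _ _ (hs j hj)]
    rfl
  · intro j hj
    rw [dLen_eq_zero_of_isZero' M _ _ (hs _ hj)]
    rfl

/-- Euler characteristic for chain complexes indexed by `ℤ`. -/
theorem euler_char_chain (M : ChainComplex (ModuleCat.{v} A) ℤ) (s : Finset ℤ)
    (hs : ∀ i, i ∉ s → IsZero (M.X i)) (hfl : ∀ i, IsFiniteLength A (M.X i)) :
    (s.sum fun i => ((i.negOnePow : ℤˣ) : ℤ) * ((Module.length A (M.X i)).toNat : ℤ)) =
      s.sum fun i => ((i.negOnePow : ℤˣ) : ℤ) * ((Module.length A (M.homology i)).toNat : ℤ) := by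
  refine alt_sum_eq s (-1) (by rw [Int.negOnePow_neg, Int.negOnePow_one]) _ _
    (fun j => ((dLen M (j + 1) j).toNat : ℤ)) ?_ ?_ ?_
  · intro j
    have := toNat_length_X_eq M hfl (j + 1) j (j - 1) (by simp) (by simp)
    rw [this]
    have e : j + -1 + 1 = j := by ring
    have e' : j + -1 = j - 1 := by ring
    rw [e, e']
  · intro j hj
    rw [dLen_eq_zero_of_isZero M _ _ (hs j hj)]
    rfl
  · intro j hj
    have e : j - -1 = j + 1 := by ring
    rw [e] at hj
    rw [dLen_eq_zero_of_isZero' M _ _ (hs _ hj)]
    rfl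

end Groth.Agent.EulerCharLib
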