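import Mathlib
import Groth.Prelude.Def_ega3
import Groth.Agent.Lib.ExtendScalars_helper2
import Groth.Agent.Lib.EulerChar_helper2

/-!
# Fibre ranks of finite modules and of complexes (helper9)

* `FiberRank9.finrank_range_baseChange_add`: rank of `f ⊗ κ` plus fibre rank of `coker f` equals the fibre rank
  of the target.
* `FiberRank9.eventually_fiber_le`: upper semicontinuity of the fibre rank of a finite module.
* `FiberRank9.homology_finrank_add`: the homology rank of `P ⊗ κ` in terms of fibre ranks of cokernels.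
* `FiberRank9.dRank_usc`: upper semicontinuity of `CohIII.dRank`.
-/

set_option autoImplicit false
universe u v
open TensorProduct

namespace FiberRank9

section Alg

variable {A : Type*} [CommRing A]

/-- rank of base change of a map + fibre rank of cokernel = fibre rank of target -/
theorem finrank_range_baseChange_add (κ : Type*) [Field κ] [Algebra A κ]
    {M N : Type*} [AddCommGroup M] [Module A M] [AddCommGroup N] [Module A N] [Module.Finite A N]
    (f : M →ₗ[A] N) :
    Module.finrank κ (LinearMap.range (f.baseChange κ)) +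
      Module.finrank κ (κ ⊗[A] (N ⧸ LinearMap.range f)) = Module.finrank κ (κ ⊗[A] N) := by
  have h0 : Function.Exact f (LinearMap.range f).mkQ := LinearMap.exact_map_mkQ_range f
  have hs : Function.Surjective (LinearMap.range f).mkQ := Submodule.mkQ_surjective _
  have hex : Function.Exact (f.baseChange κ) ((LinearMap.range f).mkQ.baseChange κ) := by
    rw [LinearMap.baseChange_eq_ltensor, LinearMap.baseChange_eq_ltensor]
    exact _root_.lTensor_exact κ h0 hs
  have hsurj : Function.Surjective ((LinearMap.range f).mkQ.baseChange κ) := by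
    rw [LinearMap.baseChange_eq_ltensor]
    exact LinearMap.lTensor_surjective κ hs
  have h1 := LinearMap.finrank_range_add_finrank_ker ((LinearMap.range f).mkQ.baseChange κ)
  rw [LinearMap.range_eq_top.mpr hsurj, finrank_top, hex.linearMap_ker_eq] at h1
  omega

theorem span_one_tmul (κ : Type*) [Field κ] [Algebra A κ] (M : Type*) [AddCommGroup M] [Module A M] :
    Submodule.span κ (Set.range fun m : M => (1 : κ) ⊗ₜ[A] m) = ⊤ := by
  rw [eq_top_iff]
  intro z hz
  clear hz
  induction z using TensorProduct.induction_on with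
  | zero => exact zero_mem _
  | tmul a m =>
    have : a ⊗ₜ[A] m = a • ((1 : κ) ⊗ₜ[A] m) := by
      rw [TensorProduct.smul_tmul', smul_eq_mul, mul_one]
    rw [this]
    exact Submodule.smul_mem _ _ (Submodule.subset_span ⟨m, rfl⟩)
  | add x y hx hy => exact add_mem hx hy

theorem exists_fin_span (κ : Type*) [Field κ] [Algebra A κ] (M : Type*) [AddCommGroup M] [Module A M]
    [Module.Finite A M] :
    ∃ (n : ℕ) (m : Fin n → M), n = Module.finrank κ (κ ⊗[A] M) ∧
      Submodule.span κ (Set.range fun i => (1 : κ) ⊗ₜ[A] m i) = ⊤ := by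
  have hspan := span_one_tmul (A := A) κ M
  obtain ⟨b, hb_mem, hb_span, -⟩ := Submodule.exists_fun_fin_finrank_span_eq κ
    (Set.range fun m : M => (1 : κ) ⊗ₜ[A] m)
  choose m hm using hb_mem
  refine ⟨_, m, by rw [hspan, finrank_top], ?_⟩
  have : (fun i => (1 : κ) ⊗ₜ[A] m i) = b := funext hm
  rw [this, hb_span, hspan]

/-- upper semicontinuity of the fibre rank of a finite module -/
theorem eventually_fiber_le (M : Type*) [AddCommGroup M] [Module A M] [Module.Finite A M]
    (x : PrimeSpectrum A) :
    ∀ᶠ y in nhds x, Module.finrank y.asIdeal.ResidueField (y.asIdeal.ResidueField ⊗[A] M) ≤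
      Module.finrank x.asIdeal.ResidueField (x.asIdeal.ResidueField ⊗[A] M) := by
  classical
  obtain ⟨n, m, hn, hm⟩ := exists_fin_span (A := A) x.asIdeal.ResidueField M
  let g : (Fin n → A) →ₗ[A] M := Fintype.linearCombination A m
  have hg : ∀ i, g (Pi.single i 1) = m i := fun i => by
    simp [g, Fintype.linearCombination_apply_single]
  have hx_top : LinearMap.range (g.baseChange x.asIdeal.ResidueField) = ⊤ := by
    rw [eq_top_iff, ← hm, Submodule.span_le]
    rintro _ ⟨i, rfl⟩
    exact ⟨(1 : x.asIdeal.ResidueField) ⊗ₜ[A] Pi.single i 1, by rw [LinearMap.baseChange_tmul, hg]⟩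
  have hA := finrank_range_baseChange_add x.asIdeal.ResidueField g
  rw [hx_top, finrank_top] at hA
  have hQ0 : Module.finrank x.asIdeal.ResidueField
      (x.asIdeal.ResidueField ⊗[A] (M ⧸ LinearMap.range g)) = 0 := by omega
  have hsub : Subsingleton (x.asIdeal.ResidueField ⊗[A] (M ⧸ LinearMap.range g)) :=
    Module.finrank_zero_iff.mp hQ0
  have hxs : x ∉ Module.support A (M ⧸ LinearMap.range g) := by
    rw [Module.mem_support_iff_nontrivial_residueField_tensorProduct]
    exact not_nontrivial_iff_subsingleton.mpr hsub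
  have hopen : IsOpen (Module.support A (M ⧸ LinearMap.range g))ᶜ :=
    Module.isClosed_support.isOpen_compl
  filter_upwards [hopen.mem_nhds hxs] with y hy
  have hys : Subsingleton (y.asIdeal.ResidueField ⊗[A] (M ⧸ LinearMap.range g)) := by
    rw [Set.mem_compl_iff, Module.mem_support_iff_nontrivial_residueField_tensorProduct] at hy
    exact not_nontrivial_iff_subsingleton.mp hy
  have hB := finrank_range_baseChange_add y.asIdeal.ResidueField g
  have h0 : Module.finrank y.asIdeal.ResidueField
      (y.asIdeal.ResidueField ⊗[A] (M ⧸ LinearMap.range g)) = 0 := Module.finrank_zero_of_subsingleton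
  have h1 : Module.finrank y.asIdeal.ResidueField
      (LinearMap.range (g.baseChange y.asIdeal.ResidueField)) ≤
      Module.finrank y.asIdeal.ResidueField (y.asIdeal.ResidueField ⊗[A] (Fin n → A)) :=
    LinearMap.finrank_range_le _
  have h2 : Module.finrank y.asIdeal.ResidueField (y.asIdeal.ResidueField ⊗[A] (Fin n → A)) = n := by
    haveI : Nontrivial A := (algebraMap A y.asIdeal.ResidueField).domain_nontrivial
    rw [Module.finrank_baseChange]; simp
  omega

theorem toNat_length_eq_finrank (κ : Type*) [Field κ] (V : Type*) [AddCommGroup V] [Module κ V] :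
    (Module.length κ V).toNat = Module.finrank κ V := by
  rw [Module.length_eq_rank, Cardinal.toNat_toENat]
  rfl

end Alg

section Cx

open CategoryTheory Groth.Agent.ExtendScalarsLib Groth.Agent.EulerCharLib

variable {A : Type u} [CommRing A]

theorem e_comm (κ : Type u) [Field κ] [Algebra A κ] {M N : ModuleCat.{u} A} (f : M ⟶ N)
    (z : ((ModuleCat.extendScalars (algebraMap A κ)).obj M)) :
    extendScalarsEquivTensor (S := κ) N (((ModuleCat.extendScalars (algebraMap A κ)).map f).hom z) =
      (f.hom.baseChange κ) (extendScalarsEquivTensor (S := κ) M z) := by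
  let L : ↑((ModuleCat.extendScalars (algebraMap A κ)).obj M) →ₗ[κ] κ ⊗[A] N :=
    ((extendScalarsEquivTensor (S := κ) N : _ ≃ₗ[κ] _) : _ →ₗ[κ] _) ∘ₗ
      ((ModuleCat.extendScalars (algebraMap A κ)).map f).hom
  let R : ↑((ModuleCat.extendScalars (algebraMap A κ)).obj M) →ₗ[κ] κ ⊗[A] N :=
    (f.hom.baseChange κ) ∘ₗ ((extendScalarsEquivTensor (S := κ) M : _ ≃ₗ[κ] _) : _ →ₗ[κ] _)
  show L z = R z
  refine TensorProduct.induction_on (motive := fun z => L z = R z) z ?_ ?_ ?_
  · exact (map_zero L).trans (map_zero R).symm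
  · intro a m
    rfl
  · intro z w hz hw
    exact (map_add L z w).trans ((congrArg₂ (· + ·) hz hw).trans (map_add R z w).symm)

variable (κ : Type u) [Field κ] [Algebra A κ] (P : ChainComplex (ModuleCat.{u} A) ℤ)

/-- the identification of the terms of the base-changed complex -/
noncomputable def eX (i : ℤ) : ((CohIII.bcCx (algebraMap A κ) P).X i) ≃ₗ[κ] κ ⊗[A] P.X i :=
  extendScalarsEquivTensor (S := κ) (P.X i)

theorem eX_d (i j : ℤ) (z : (CohIII.bcCx (algebraMap A κ) P).X i) :
    eX κ P j (((CohIII.bcCx (algebraMap A κ) P).d i j).hom z) =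
      ((P.d i j).hom.baseChange κ) (eX κ P i z) :=
  e_comm κ (P.d i j) z

theorem finrank_bcX (i : ℤ) :
    Module.finrank κ ((CohIII.bcCx (algebraMap A κ) P).X i) = Module.finrank κ (κ ⊗[A] P.X i) :=
  (eX κ P i).finrank_eq

theorem finrank_range_bcd (i j : ℤ) :
    Module.finrank κ (LinearMap.range ((CohIII.bcCx (algebraMap A κ) P).d i j).hom) =
      Module.finrank κ (LinearMap.range ((P.d i j).hom.baseChange κ)) := by
  have hmap : (LinearMap.range ((CohIII.bcCx (algebraMap A κ) P).d i j).hom).map
      ((eX κ P j : _ ≃ₗ[κ] _) : _ →ₗ[κ] _) =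
      LinearMap.range ((P.d i j).hom.baseChange κ) := by
    ext w
    constructor
    · rintro ⟨_, ⟨z, rfl⟩, rfl⟩
      exact ⟨eX κ P i z, (eX_d κ P i j z).symm⟩
    · rintro ⟨z, rfl⟩
      refine ⟨_, ⟨(eX κ P i).symm z, rfl⟩, ?_⟩
      have := eX_d κ P i j ((eX κ P i).symm z)
      rw [LinearEquiv.apply_symm_apply] at this
      exact this
  rw [← hmap]
  exact (LinearEquiv.finrank_map_eq _ _).symm

theorem homology_finrank_add (hP : ∀ i, Module.Finite A (P.X i)) (p : ℤ) :
    Module.finrank κ ((CohIII.bcCx (algebraMap A κ) P).homology p) +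
        Module.finrank κ (κ ⊗[A] P.X (p - 1)) =
      Module.finrank κ (κ ⊗[A] (P.X p ⧸ LinearMap.range (P.d (p + 1) p).hom)) +
      Module.finrank κ (κ ⊗[A] (P.X (p - 1) ⧸ LinearMap.range (P.d p (p - 1)).hom)) := by
  have hfin : ∀ i, Module.Finite κ ((CohIII.bcCx (algebraMap A κ) P).X i) := fun i => by
    have := hP i
    exact Module.Finite.equiv (eX κ P i).symm
  have hfl : ∀ i, IsFiniteLength κ ((CohIII.bcCx (algebraMap A κ) P).X i) := fun i => by
    have := hfin i
    rw [← Module.length_ne_top_iff]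
    exact Module.length_ne_top
  have h := toNat_length_X_eq (CohIII.bcCx (algebraMap A κ) P) hfl (p + 1) p (p - 1)
    (ChainComplex.prev ℤ p) (ChainComplex.next ℤ p)
  unfold dLen at h
  rw [toNat_length_eq_finrank, toNat_length_eq_finrank, toNat_length_eq_finrank,
    toNat_length_eq_finrank] at h
  have hX := finrank_bcX κ P p
  have hr1 := finrank_range_bcd κ P (p + 1) p
  have hr2 := finrank_range_bcd κ P p (p - 1)
  have := hP p
  have := hP (p - 1)
  have hA1 := finrank_range_baseChange_add κ (P.d (p + 1) p).hom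
  have hA2 := finrank_range_baseChange_add κ (P.d p (p - 1)).hom
  omega

/-- upper semicontinuity of the homology rank of a complex of finite flat modules -/
theorem dRank_usc [IsNoetherianRing A]
    (hP : ∀ i, Module.Finite A (P.X i) ∧ Module.Flat A (P.X i)) (p : ℤ) :
    UpperSemicontinuous (CohIII.dRank P p) := by
  intro x b hb
  have hfinP : ∀ i, Module.Finite A (P.X i) := fun i => (hP i).1
  have := hfinP p
  have := hfinP (p - 1)
  have h1 := eventually_fiber_le (A := A) (P.X p ⧸ LinearMap.range (P.d (p + 1) p).hom) x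
  have h2 := eventually_fiber_le (A := A) (P.X (p - 1) ⧸ LinearMap.range (P.d p (p - 1)).hom) x
  have hflat := (hP (p - 1)).2
  haveI : Module.FinitePresentation A (P.X (p - 1)) := Module.finitePresentation_of_finite A _
  have hlc : IsLocallyConstant (Module.rankAtStalk (R := A) (P.X (p - 1))) :=
    Module.isLocallyConstant_rankAtStalk
  have h3 := hlc.eventually_eq x
  filter_upwards [h1, h2, h3] with y hy1 hy2 hy3
  have ex := homology_finrank_add x.asIdeal.ResidueField P hfinP p
  have ey := homology_finrank_add y.asIdeal.ResidueField P hfinP p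
  rw [Module.rankAtStalk_eq, Module.rankAtStalk_eq] at hy3
  have dx : CohIII.dRank P p x = Module.finrank x.asIdeal.ResidueField
      ((CohIII.bcCx (algebraMap A x.asIdeal.ResidueField) P).homology p) := rfl
  have dy : CohIII.dRank P p y = Module.finrank y.asIdeal.ResidueField
      ((CohIII.bcCx (algebraMap A y.asIdeal.ResidueField) P).homology p) := rfl
  have hb' : CohIII.dRank P p x < b := hb
  show CohIII.dRank P p y < b
  unfold Ideal.Fiber at hy3
  omega

end Cx

end FiberRank9

namespace FiberRank9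

section More

open CategoryTheory

variable {A : Type u} [CommRing A] (P : ChainComplex (ModuleCat.{u} A) ℤ)

/-- fibre rank of the cokernel of `d i j` -/
noncomputable def cR (i j : ℤ) (y : PrimeSpectrum A) : ℕ :=
  Module.finrank y.asIdeal.ResidueField
    (y.asIdeal.ResidueField ⊗[A] (P.X j ⧸ LinearMap.range (P.d i j).hom))

/-- fibre rank of the term `P.X j` -/
noncomputable def tR (j : ℤ) (y : PrimeSpectrum A) : ℕ :=
  Module.finrank y.asIdeal.ResidueField (y.asIdeal.ResidueField ⊗[A] P.X j)

theorem dRank_add_tR (hP : ∀ i, Module.Finite A (P.X i)) (p i k : ℤ) (hi : i = p + 1) (hk : k = p - 1)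
    (y : PrimeSpectrum A) :
    CohIII.dRank P p y + tR P k y = cR P i p y + cR P p k y := by
  subst hi hk
  exact homology_finrank_add y.asIdeal.ResidueField P hP p

theorem cR_eventually_le (hP : ∀ i, Module.Finite A (P.X i)) (i j : ℤ) (x : PrimeSpectrum A) :
    ∀ᶠ y in nhds x, cR P i j y ≤ cR P i j x := by
  have := hP j
  exact eventually_fiber_le (A := A) (P.X j ⧸ LinearMap.range (P.d i j).hom) x

theorem tR_eventually_eq [IsNoetherianRing A]
    (hP : ∀ i, Module.Finite A (P.X i) ∧ Module.Flat A (P.X i)) (j : ℤ) (x : PrimeSpectrum A) :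
    ∀ᶠ y in nhds x, tR P j y = tR P j x := by
  have := (hP j).1
  have := (hP j).2
  haveI : Module.FinitePresentation A (P.X j) := Module.finitePresentation_of_finite A _
  have hlc : IsLocallyConstant (Module.rankAtStalk (R := A) (P.X j)) :=
    Module.isLocallyConstant_rankAtStalk
  filter_upwards [hlc.eventually_eq x] with y hy
  rw [Module.rankAtStalk_eq, Module.rankAtStalk_eq] at hy
  exact hy

theorem dRank_eventually_const [IsNoetherianRing A]
    (hP : ∀ i, Module.Finite A (P.X i) ∧ Module.Flat A (P.X i)) (p : ℤ) (z : PrimeSpectrum A)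
    (hlo : ∀ᶠ x in nhds z, CohIII.dRank P (p - 1) x = CohIII.dRank P (p - 1) z)
    (hhi : ∀ᶠ x in nhds z, CohIII.dRank P (p + 1) x = CohIII.dRank P (p + 1) z) :
    ∀ᶠ x in nhds z, CohIII.dRank P p x = CohIII.dRank P p z := by
  have hf : ∀ i, Module.Finite A (P.X i) := fun i => (hP i).1
  filter_upwards [hlo, hhi, cR_eventually_le P hf (p + 2) (p + 1) z, cR_eventually_le P hf (p + 1) p z,
    cR_eventually_le P hf p (p - 1) z, cR_eventually_le P hf (p - 1) (p - 2) z,
    tR_eventually_eq P hP p z, tR_eventually_eq P hP (p - 1) z, tR_eventually_eq P hP (p - 2) z]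
    with y h1 h2 c1 c2 c3 c4 t1 t2 t3
  have e0y := dRank_add_tR P hf p (p + 1) (p - 1) rfl rfl y
  have e0z := dRank_add_tR P hf p (p + 1) (p - 1) rfl rfl z
  have e1y := dRank_add_tR P hf (p + 1) (p + 2) p (by ring) (by ring) y
  have e1z := dRank_add_tR P hf (p + 1) (p + 2) p (by ring) (by ring) z
  have e2y := dRank_add_tR P hf (p - 1) p (p - 2) (by ring) (by ring) y
  have e2z := dRank_add_tR P hf (p - 1) p (p - 2) (by ring) (by ring) z
  omega

theorem cR_le_of_fin (hP : ∀ i, Module.Finite A (P.X i)) (i j : ℤ) :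
    ∃ N : ℕ, ∀ y : PrimeSpectrum A, cR P i j y ≤ N := by
  have := hP j
  obtain ⟨n, f, hf⟩ := Module.Finite.exists_fin' A (P.X j)
  refine ⟨n, fun y => ?_⟩
  have hg : Function.Surjective ((LinearMap.range (P.d i j).hom).mkQ ∘ₗ f) :=
    (Submodule.mkQ_surjective _).comp hf
  have hgs : Function.Surjective
      (((LinearMap.range (P.d i j).hom).mkQ ∘ₗ f).baseChange y.asIdeal.ResidueField) := by
    rw [LinearMap.baseChange_eq_ltensor]
    exact LinearMap.lTensor_surjective _ hg
  have h1 := LinearMap.finrank_le_finrank_of_surjective hgs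
  have h2 : Module.finrank y.asIdeal.ResidueField (y.asIdeal.ResidueField ⊗[A] (Fin n → A)) = n := by
    haveI : Nontrivial A := (algebraMap A y.asIdeal.ResidueField).domain_nontrivial
    rw [Module.finrank_baseChange]; simp
  unfold cR
  omega

theorem dRank_bdd (hP : ∀ i, Module.Finite A (P.X i)) (p : ℤ) :
    ∃ N : ℕ, ∀ y : PrimeSpectrum A, CohIII.dRank P p y ≤ N := by
  obtain ⟨N1, h1⟩ := cR_le_of_fin P hP (p + 1) p
  obtain ⟨N2, h2⟩ := cR_le_of_fin P hP p (p - 1)
  refine ⟨N1 + N2, fun y => ?_⟩
  have := dRank_add_tR P hP p (p + 1) (p - 1) rfl rfl y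
  have := h1 y
  have := h2 y
  omega

theorem dRank_constructible [IsNoetherianRing A]
    (hP : ∀ i, Module.Finite A (P.X i) ∧ Module.Flat A (P.X i)) (p : ℤ) :
    (Set.range (CohIII.dRank P p)).Finite ∧
      ∀ n : ℕ, Topology.IsConstructible {x : PrimeSpectrum A | CohIII.dRank P p x = n} := by
  have hf : ∀ i, Module.Finite A (P.X i) := fun i => (hP i).1
  constructor
  · obtain ⟨N, hN⟩ := dRank_bdd P hf p
    refine (Set.finite_Iic N).subset ?_
    rintro _ ⟨y, rfl⟩
    exact hN y
  · intro n
    have husc := dRank_usc P hP p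
    have hretro : ∀ U : Set (PrimeSpectrum A), IsRetrocompact U :=
      fun U V _ _ => TopologicalSpace.NoetherianSpace.isCompact _
    have hopen : ∀ b : ℕ,
        Topology.IsConstructible {x : PrimeSpectrum A | CohIII.dRank P p x < b} := fun b =>
      IsRetrocompact.isConstructible (husc.isOpen_preimage b) (hretro _)
    have : {x : PrimeSpectrum A | CohIII.dRank P p x = n} =
        {x | CohIII.dRank P p x < n + 1} ∩ {x | CohIII.dRank P p x < n}ᶜ := by
      ext x
      simp only [Set.mem_setOf_eq, Set.mem_inter_iff, Set.mem_compl_iff]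
      omega
    rw [this]
    exact (hopen (n + 1)).inter (hopen n).compl

end More

end FiberRank9

namespace FiberRank9

section BaseChange

open CategoryTheory CategoryTheory.Limits Groth.Agent.ExtendScalarsLib

variable {A A' k L : Type u} [CommRing A] [CommRing A'] [Field k] [Field L]

/-- the homology rank of a complex over a residue field is insensitive to a field extension -/
theorem finrank_homology_bc (φ₁ : A →+* A') (φ₂ : A' →+* L) (ψ₁ : A →+* k) (ψ₂ : k →+* L)
    (hcomp : φ₂.comp φ₁ = ψ₂.comp ψ₁) (P : ChainComplex (ModuleCat.{u} A) ℤ) (p : ℤ) :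
    Module.finrank L ((CohIII.bcCx φ₂ (CohIII.bcCx φ₁ P)).homology p) =
      Module.finrank k ((CohIII.bcCx ψ₁ P).homology p) := by
  let iso1 : ModuleCat.extendScalars.{u, u, u} φ₁ ⋙ ModuleCat.extendScalars.{u, u, u} φ₂ ≅
      ModuleCat.extendScalars.{u, u, u} ψ₁ ⋙ ModuleCat.extendScalars.{u, u, u} ψ₂ :=
    (ModuleCat.extendScalarsComp φ₁ φ₂).symm ≪≫ eqToIso (by rw [hcomp]) ≪≫
      ModuleCat.extendScalarsComp ψ₁ ψ₂
  let isoCx : CohIII.bcCx φ₂ (CohIII.bcCx φ₁ P) ≅ CohIII.bcCx ψ₂ (CohIII.bcCx ψ₁ P) :=
    HomologicalComplex.Hom.isoOfComponents (fun i => iso1.app (P.X i))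
      (fun i j _ => (iso1.hom.naturality (P.d i j)).symm)
  let isoH := (HomologicalComplex.homologyFunctor (ModuleCat.{u} L) (ComplexShape.down ℤ) p).mapIso
    isoCx
  have h1 : Module.finrank L ((CohIII.bcCx φ₂ (CohIII.bcCx φ₁ P)).homology p) =
      Module.finrank L ((CohIII.bcCx ψ₂ (CohIII.bcCx ψ₁ P)).homology p) :=
    isoH.toLinearEquiv.finrank_eq
  rw [h1]
  letI : Algebra k L := ψ₂.toAlgebra
  haveI : PreservesFiniteLimits (ModuleCat.extendScalars.{u, u, u} ψ₂) :=
    ModuleCat.preservesFiniteLimits_extendScalars_of_flat (f := ψ₂)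
      (show Module.Flat k L from inferInstance)
  haveI : (ModuleCat.extendScalars.{u, u, u} ψ₂).PreservesHomology :=
    Functor.preservesHomologyOfExact _
  let isoM : (CohIII.bcCx ψ₂ (CohIII.bcCx ψ₁ P)).homology p ≅
      (ModuleCat.extendScalars.{u, u, u} ψ₂).obj ((CohIII.bcCx ψ₁ P).homology p) :=
    ((CohIII.bcCx ψ₁ P).sc p).mapHomologyIso (ModuleCat.extendScalars.{u, u, u} ψ₂)
  have h2 : Module.finrank L ((CohIII.bcCx ψ₂ (CohIII.bcCx ψ₁ P)).homology p) =
      Module.finrank L ((ModuleCat.extendScalars.{u, u, u} ψ₂).obj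
        ((CohIII.bcCx ψ₁ P).homology p)) :=
    isoM.toLinearEquiv.finrank_eq
  rw [h2]
  have h3 : Module.finrank L ((ModuleCat.extendScalars.{u, u, u} (algebraMap k L)).obj
        ((CohIII.bcCx ψ₁ P).homology p)) =
      Module.finrank L (L ⊗[k] ((CohIII.bcCx ψ₁ P).homology p)) :=
    (extendScalarsEquivTensor (S := L) ((CohIII.bcCx ψ₁ P).homology p)).finrank_eq
  exact h3.trans Module.finrank_baseChange

theorem dRank_baseChange [Algebra A A'] (P : ChainComplex (ModuleCat.{u} A) ℤ) (p : ℤ)
    (x' : PrimeSpectrum A') :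
    CohIII.dRank (CohIII.bcCx (algebraMap A A') P) p x' =
      CohIII.dRank P p (PrimeSpectrum.comap (algebraMap A A') x') := by
  unfold CohIII.dRank
  exact finrank_homology_bc (algebraMap A A') (algebraMap A' x'.asIdeal.ResidueField)
    (algebraMap A (PrimeSpectrum.comap (algebraMap A A') x').asIdeal.ResidueField)
    (Ideal.ResidueField.map _ _ (algebraMap A A') rfl) (by
      ext a
      simp only [RingHom.comp_apply]
      exact (Ideal.ResidueField.map_algebraMap _ _ (algebraMap A A') rfl a).symm) P p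

end BaseChange

end FiberRank9
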