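import Groth.Agent.Lib.FlatBC2_helper8
import Groth.Agent.Lib.FlatSec_helper8
import Groth.Agent.Lib.PB10_helper8
import Mathlib
set_option autoImplicit false
open CategoryTheory AlgebraicGeometry Opposite TopologicalSpace TensorProduct
open AlgebraicGeometry.Scheme.Modules
universe u
namespace FlatBC2H8

section Geom
variable {X S X' S' : Scheme.{u}} {f : X ⟶ S} {f' : X' ⟶ S'} {g' : X' ⟶ X} {g : S' ⟶ S}
  (hc : IsPullback g' f' f g)

include hc in
/-- The affine open `g'⁻¹U ∩ f'⁻¹W'` of a fibre product and the pushout property of its ring of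
sections. -/
theorem affine_pushout {W : S.Opens} {U : X.Opens} {W' : S'.Opens} (hW : IsAffineOpen W)
    (hU : IsAffineOpen U) (hW' : IsAffineOpen W') (hUW : U ≤ f ⁻¹ᵁ W) (hW'W : W' ≤ g ⁻¹ᵁ W) :
    IsAffineOpen (g' ⁻¹ᵁ U ⊓ f' ⁻¹ᵁ W') ∧
    IsPushout (f.appLE W U hUW) (g.appLE W W' hW'W)
      (g'.appLE U (g' ⁻¹ᵁ U ⊓ f' ⁻¹ᵁ W') inf_le_left)
      (f'.appLE W' (g' ⁻¹ᵁ U ⊓ f' ⁻¹ᵁ W') inf_le_right) := by
  have : IsAffine _ := hW
  have : IsAffine _ := hW'
  have : IsAffine _ := hU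
  refine ⟨.of_isIso (Scheme.Hom.isPullback_resLE hc hW'W hUW rfl).isoPullback.hom, ?_⟩
  have := isIso_pushoutSection_of_isAffineOpen hc hW'W hUW rfl hW hW' hU
  exact (isIso_pushoutSection_iff hc hW'W hUW rfl).mp this

include hc in
/-- **Flatness over the base at a point is preserved by base change.** -/
theorem isFlatOverAt_pullback (F : X.Modules) [F.IsQuasicoherent] (x' : X')
    (h : FlatMod.IsFlatOverAt f F (g' x')) :
    FlatMod.IsFlatOverAt f' ((Scheme.Modules.pullback g').obj F) x' := by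
  obtain ⟨_, ⟨W, hW : IsAffineOpen W, rfl⟩, hsW, -⟩ :=
    (S.isBasis_affineOpens).exists_subset_of_mem_open (Set.mem_univ (f (g' x'))) isOpen_univ
  obtain ⟨_, ⟨U, hU : IsAffineOpen U, rfl⟩, hxU, hUW⟩ :=
    (X.isBasis_affineOpens).exists_subset_of_mem_open (show g' x' ∈ f ⁻¹ᵁ W from hsW)
      (f ⁻¹ᵁ W).isOpen
  have hs' : g (f' x') ∈ W := by
    have : g (f' x') = f (g' x') := by
      rw [← Scheme.Hom.comp_apply, ← Scheme.Hom.comp_apply, hc.w]
    rw [this]; exact hsW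
  obtain ⟨_, ⟨W', hW' : IsAffineOpen W', rfl⟩, hs'W', hW'W⟩ :=
    (S'.isBasis_affineOpens).exists_subset_of_mem_open (show f' x' ∈ g ⁻¹ᵁ W from hs')
      (g ⁻¹ᵁ W).isOpen
  obtain ⟨hU', hpo⟩ := affine_pushout hc hW hU hW' hUW hW'W
  set U' : X'.Opens := g' ⁻¹ᵁ U ⊓ f' ⁻¹ᵁ W' with hU'def
  have hx'U' : x' ∈ U' := ⟨hxU, hs'W'⟩
  have hU'U : U' ≤ g' ⁻¹ᵁ U := inf_le_left
  have hU'W' : U' ≤ f' ⁻¹ᵁ W' := inf_le_right
  rw [FlatSecH8.isFlatOverAt_iff_flat_stalk f F hW hUW hxU] at h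
  rw [FlatSecH8.isFlatOverAt_iff_flat_stalk f' _ hW' hU'W' hx'U']
  -- algebra instances
  letI algAB : Algebra Γ(S, W) Γ(X, U) := (f.appLE W U hUW).hom.toAlgebra
  letI algAA' : Algebra Γ(S, W) Γ(S', W') := (g.appLE W W' hW'W).hom.toAlgebra
  letI algBB' : Algebra Γ(X, U) Γ(X', U') := (g'.appLE U U' hU'U).hom.toAlgebra
  letI algA'B' : Algebra Γ(S', W') Γ(X', U') := (f'.appLE W' U' hU'W').hom.toAlgebra
  letI algAB' : Algebra Γ(S, W) Γ(X', U') :=
    ((g'.appLE U U' hU'U).hom.comp (f.appLE W U hUW).hom).toAlgebra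
  haveI : IsScalarTower Γ(S, W) Γ(X, U) Γ(X', U') := IsScalarTower.of_algebraMap_eq' rfl
  haveI : IsScalarTower Γ(S, W) Γ(S', W') Γ(X', U') := by
    refine IsScalarTower.of_algebraMap_eq' ?_
    change (g'.appLE U U' hU'U).hom.comp (f.appLE W U hUW).hom =
      (f'.appLE W' U' hU'W').hom.comp (g.appLE W W' hW'W).hom
    rw [← CommRingCat.hom_comp, ← CommRingCat.hom_comp]
    congr 1
    exact hpo.w
  haveI : Algebra.IsPushout Γ(S, W) Γ(S', W') Γ(X, U) Γ(X', U') := by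
    apply Algebra.IsPushout.symm
    exact CommRingCat.isPushout_iff_isPushout.mp hpo
  -- modules
  set F' := (Scheme.Modules.pullback g').obj F with hF'
  letI mBL : Module Γ(X, U) (F.presheaf.stalk (g' x')) := StalkLocH8.modSec F hxU
  letI mAL : Module Γ(S, W) (F.presheaf.stalk (g' x')) :=
    Module.compHom _ ((X.presheaf.germ U (g' x') hxU).hom.comp (f.appLE W U hUW).hom)
  haveI : IsScalarTower Γ(S, W) Γ(X, U) (F.presheaf.stalk (g' x')) :=
    IsScalarTower.of_algebraMap_smul fun _ _ => rfl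
  letI mB'L' : Module Γ(X', U') (F'.presheaf.stalk x') := StalkLocH8.modSec F' hx'U'
  letI mA'L' : Module Γ(S', W') (F'.presheaf.stalk x') :=
    Module.compHom _ ((X'.presheaf.germ U' x' hx'U').hom.comp (f'.appLE W' U' hU'W').hom)
  haveI : IsScalarTower Γ(S', W') Γ(X', U') (F'.presheaf.stalk x') :=
    IsScalarTower.of_algebraMap_smul fun _ _ => rfl
  letI mBM' : Module Γ(X, U) Γ(F', U') := Module.compHom _ (g'.appLE U U' hU'U).hom
  haveI : IsScalarTower Γ(X, U) Γ(X', U') Γ(F', U') :=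
    IsScalarTower.of_algebraMap_smul fun _ _ => rfl
  have bc := PBH8.isBaseChange_cUV g' F hU'U hU' hU
  haveI := StalkLocH8.isLocalizedModule_germLin F hU hxU
  haveI := StalkLocH8.isLocalizedModule_germLin F' hU' hx'U'
  haveI : Module.Flat Γ(S, W) (F.presheaf.stalk (g' x')) := h
  have hSS' : Algebra.algebraMapSubmonoid Γ(X', U')
      (hU.primeIdealOf ⟨g' x', hxU⟩).asIdeal.primeCompl ≤
      (hU'.primeIdealOf ⟨x', hx'U'⟩).asIdeal.primeCompl := by
    rintro _ ⟨b, hb, rfl⟩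
    have hcm := IsAffineOpen.comap_primeIdealOf_appLE (f := g') U hU U' hU' hU'U hx'U'
    intro hmem
    apply hb
    rw [← hcm]
    exact hmem
  exact flat_of_flat_localized (A := Γ(S, W)) (A' := Γ(S', W')) (B := Γ(X, U)) (B' := Γ(X', U'))
    (hU.primeIdealOf ⟨g' x', hxU⟩).asIdeal.primeCompl
    (hU'.primeIdealOf ⟨x', hx'U'⟩).asIdeal.primeCompl hSS' (PBH8.cUVLin g' F hU'U) bc
    (StalkLocH8.germLin F hxU) (StalkLocH8.germLin F' hx'U')

end Geom
end FlatBC2H8
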