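import Mathlib
import Groth.Agent.Lib.RpushQC3_helper9
import Groth.Agent.Lib.ProperFin9_helper9

/-!
# Coherence of higher direct images along proper morphisms (helper9)
APPEND-ONLY once landed.
-/

set_option autoImplicit false
universe u
open CategoryTheory CategoryTheory.Limits AlgebraicGeometry Opposite TopologicalSpace

namespace RpushQC

variable {X S : Scheme.{u}} (f : X ⟶ S) (M : X.Modules) (q : ℕ)

/-- `extTopEquiv` is natural in the sheaf -/
theorem extTopEquiv_post {F G : CohTop.Ab X.toTopCat} (ψ : F ⟶ G) (q : ℕ)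
    (x : Abelian.Ext (BasicLoc.frX (⊤ : X.Opens)) F q) :
    Groth.Agent.Lib.Cech.extTopEquiv G q (ExtPre.post _ ψ q x) =
      Sheaf.H.map ψ q (Groth.Agent.Lib.Cech.extTopEquiv F q x) := by
  change (Abelian.Ext.mk₀ _).comp (x.comp (Abelian.Ext.mk₀ ψ) (add_zero q)) (zero_add q) =
    ((Abelian.Ext.mk₀ _).comp x (zero_add q)).comp (Abelian.Ext.mk₀ ψ) (add_zero q)
  rw [Abelian.Ext.comp_assoc_of_third_deg_zero]

section Affine

variable [IsAffine S] [QuasiCompact f] [QuasiSeparated f] [M.IsQuasicoherent]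
  [HasInjectiveResolutions X.Modules]

/-- over an affine base, the global sections of `R^q f_* M` are `H^q(X, M)`, compatibly with
multiplication by functions on the base -/
theorem exists_sections_equiv :
    ∃ e : Coh.HH X M q ≃+ Γ((Coh.Rpush f q).obj M, ⊤),
      ∀ (a : Γ(S, ⊤)) (x : Coh.HH X M q),
        e (Sheaf.H.map (Coh.smulAb M (f.appTop.hom a)) q x) = a • e x := by
  haveI : CompactSpace X := QuasiCompact.compactSpace_of_compactSpace f
  haveI : QuasiSeparatedSpace X := quasiSeparatedSpace_of_quasiSeparated f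
  obtain ⟨ε, hε⟩ := exists_equivariant_iso f M q
  have hb := RpushAffine.app_top_bijective (RpushAffine.data f M q)
  let e1 : Abelian.Ext (BasicLoc.frX (⊤ : X.Opens)) (Coh.toAb M) q ≃+ Coh.HH X M q :=
    Groth.Agent.Lib.Cech.extTopEquiv (Coh.toAb M) q
  let e2 : Abelian.Ext (BasicLoc.frX (⊤ : X.Opens)) (Coh.toAb M) q ≃+
      ((RpushAffine.shP (RpushAffine.PP f M q)).obj.obj (op ⊤) : Type u) :=
    AddEquiv.ofBijective ((RpushAffine.phi (RpushAffine.PP f M q)).app (op ⊤)).hom hb
  let e3 : ((RpushAffine.shP (RpushAffine.PP f M q)).obj.obj (op ⊤) : Type u) ≃+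
      ((Coh.toAb ((Coh.Rpush f q).obj M)).obj.obj (op ⊤) : Type u) :=
    (((sheafSections (Opens.grothendieckTopology S.toTopCat) AddCommGrpCat.{u}).obj
      (op ⊤)).mapIso ε.symm).addCommGroupIsoToAddEquiv
  refine ⟨e1.symm.trans (e2.trans e3), fun a x => ?_⟩
  obtain ⟨y, rfl⟩ := e1.surjective x
  have h1 : e1.symm (Sheaf.H.map (Coh.smulAb M (f.appTop.hom a)) q (e1 y)) =
      ExtPre.post _ (Coh.smulAb M (f.appTop.hom a)) q y := by
    rw [AddEquiv.symm_apply_eq]
    exact (extTopEquiv_post (Coh.smulAb M (f.appTop.hom a)) q y).symm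
  have h2 : e2 (ExtPre.post _ (Coh.smulAb M (f.appTop.hom a)) q y) =
      ((presheafToSheaf (Opens.grothendieckTopology S.toTopCat) AddCommGrpCat.{u}).map
        (πa f M q a)).hom.app (op ⊤) (e2 y) := by
    have h := toSheafify_naturality (Opens.grothendieckTopology S.toTopCat) (πa f M q a)
    exact congrArg (fun κ => κ.app (op ⊤) y) h
  have h3 : ∀ z, e3 (((presheafToSheaf (Opens.grothendieckTopology S.toTopCat)
      AddCommGrpCat.{u}).map (πa f M q a)).hom.app (op ⊤) z) =
      (Coh.smulAb ((Coh.Rpush f q).obj M) a).hom.app (op ⊤) (e3 z) := by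
    intro z
    have h : (presheafToSheaf (Opens.grothendieckTopology S.toTopCat) AddCommGrpCat.{u}).map
        (πa f M q a) ≫ ε.inv = ε.inv ≫ Coh.smulAb ((Coh.Rpush f q).obj M) a := by
      rw [Iso.eq_inv_comp, ← Category.assoc, ← hε a, Category.assoc, Iso.hom_inv_id,
        Category.comp_id]
    exact congrArg (fun κ : RpushAffine.shP (RpushAffine.PP f M q) ⟶
      Coh.toAb ((Coh.Rpush f q).obj M) => κ.hom.app (op ⊤) z) h
  have h4 : ∀ m : ((Coh.toAb ((Coh.Rpush f q).obj M)).obj.obj (op ⊤) : Type u),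
      (Coh.smulAb ((Coh.Rpush f q).obj M) a).hom.app (op ⊤) m =
        a • (show Γ((Coh.Rpush f q).obj M, ⊤) from m) := by
    intro m
    have h := iterate_smulAb ((Coh.Rpush f q).obj M) a ⊤ 1 m
    rw [Function.iterate_one, pow_one] at h
    have h1 : Coh.resTop S (op ⊤) a = a := by
      change (S.ringCatSheaf.obj.map (𝟙 (op ⊤))).hom a = a
      rw [S.ringCatSheaf.obj.map_id]
      rfl
    rw [h1] at h
    exact h
  change e3 (e2 (e1.symm (Sheaf.H.map (Coh.smulAb M (f.appTop.hom a)) q (e1 y)))) =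
    a • (show Γ((Coh.Rpush f q).obj M, ⊤) from e3 (e2 (e1.symm (e1 y))))
  rw [h1, h2, h3, h4, AddEquiv.symm_apply_apply]

/-- Stage 1: over an affine locally Noetherian base, the global sections of `R^q f_* M` are a
finite module, for `f` proper and `M` coherent -/
theorem finite_sections_top [IsLocallyNoetherian S] [IsProper f] (hM : Coh.IsCoh M) :
    Module.Finite Γ(S, ⊤) Γ((Coh.Rpush f q).obj M, ⊤) := by
  haveI : IsNoetherianRing Γ(S, ⊤) :=
    IsLocallyNoetherian.component_noetherian ⟨⊤, isAffineOpen_top S⟩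
  letI : X.Over (Spec (CommRingCat.of Γ(S, ⊤))) := ⟨f ≫ S.toSpecΓ⟩
  haveI : IsProper (X ↘ Spec (CommRingCat.of Γ(S, ⊤))) :=
    inferInstanceAs (IsProper (f ≫ S.toSpecΓ))
  haveI := ProperFinH9.finite_HH_of_proper Γ(S, ⊤) X M hM q
  obtain ⟨e, he⟩ := exists_sections_equiv f M q
  have hg : ∀ a : Γ(S, ⊤), Coh.toGlobal (X ↘ Spec (CommRingCat.of Γ(S, ⊤))) a =
      f.appTop.hom a := by
    intro a
    change f.appTop.hom (S.toSpecΓ.appTop.hom ((Scheme.ΓSpecIso (CommRingCat.of Γ(S, ⊤))).inv.hom a))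
      = f.appTop.hom a
    congr 1
    rw [Scheme.toSpecΓ_appTop]
    exact Iso.inv_hom_id_apply (C := CommRingCat) _ _
  let eL : Coh.HH X M q ≃ₗ[Γ(S, ⊤)] Γ((Coh.Rpush f q).obj M, ⊤) :=
    { e with
      map_smul' := fun a x => by
        change e (Sheaf.H.map (Coh.smulAb M (Coh.toGlobal (X ↘ Spec (CommRingCat.of Γ(S, ⊤))) a))
          q x) = a • e x
        rw [hg a]
        exact he a x }
  exact Module.Finite.equiv eL

end Affine

section Global

theorem finite_sections_congr (F : S.Modules) {W V : S.Opens} (h : W = V)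
    (H : Module.Finite Γ(S, W) Γ(F, W)) : Module.Finite Γ(S, V) Γ(F, V) := by
  subst h
  exact H

/-- transport of finiteness of sections from the restriction to an open -/
theorem finite_sections_of_restrict (F : S.Modules) (V : S.Opens)
    (h : Module.Finite Γ((V : Scheme.{u}), ⊤) Γ(F.restrict V.ι, ⊤)) :
    Module.Finite Γ(S, V) Γ(F, V) := by
  refine finite_sections_congr F V.ι_image_top ?_
  haveI := h
  exact QCohCrit.finite_of_ringHom_finite (A := Γ(S, V.ι ''ᵁ ⊤)) (B := Γ((V : Scheme.{u}), ⊤))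
    (N := Γ(F, V.ι ''ᵁ ⊤)) (M := Γ(F.restrict V.ι, ⊤))
    (RingHom.id _) (RingHom.Finite.id _) (AddEquiv.refl _)
    (fun a n => (restrict_smul_eq F V ⊤ a n).symm)

variable [IsLocallyNoetherian S] [IsProper f] [HasInjectiveResolutions X.Modules]

/-- Stage 2: the sections of `R^q f_* M` over any affine open form a finite module -/
theorem finite_sections_affineOpen (hM : Coh.IsCoh M) (V : S.affineOpens) :
    Module.Finite Γ(S, (V : S.Opens)) Γ((Coh.Rpush f q).obj M, (V : S.Opens)) := by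
  apply finite_sections_of_restrict
  haveI : HasInjectiveResolutions ((f ⁻¹ᵁ (V : S.Opens) : X.Opens) : Scheme.{u}).Modules :=
    haveI := enoughInjectives_modules ((f ⁻¹ᵁ (V : S.Opens) : X.Opens) : Scheme.{u})
    inferInstance
  obtain ⟨e⟩ := nonempty_restrict_Rpush_iso f (V : S.Opens) M q
  haveI : IsAffine ((V : S.Opens) : Scheme.{u}) := V.2
  haveI : M.IsQuasicoherent := hM.1
  have hM' : Coh.IsCoh (M.restrict (f ⁻¹ᵁ (V : S.Opens)).ι) :=
    ⟨inferInstance, CohOpenH8.isFiniteType_restrict _ M hM.2⟩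
  haveI : (M.restrict (f ⁻¹ᵁ (V : S.Opens)).ι).IsQuasicoherent := hM'.1
  haveI := finite_sections_top (f ∣_ (V : S.Opens)) (M.restrict (f ⁻¹ᵁ (V : S.Opens)).ι) q hM'
  let eL : Γ(((Coh.Rpush f q).obj M).restrict (V : S.Opens).ι, ⊤) ≃ₗ[Γ(((V : S.Opens) :
      Scheme.{u}), ⊤)] Γ((Coh.Rpush (f ∣_ (V : S.Opens)) q).obj
        (M.restrict (f ⁻¹ᵁ (V : S.Opens)).ι), ⊤) :=
    { (asIso (e.hom.app ⊤)).addCommGroupIsoToAddEquiv with
      map_smul' := fun r x => Scheme.Modules.Hom.app_smul e.hom r x }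
  exact Module.Finite.equiv eL.symm

/-- **Higher direct images of coherent modules along proper morphisms to locally Noetherian
schemes are coherent.** -/
theorem isCoh_Rpush (hM : Coh.IsCoh M) : Coh.IsCoh ((Coh.Rpush f q).obj M) := by
  haveI : M.IsQuasicoherent := hM.1
  haveI : ((Coh.Rpush f q).obj M).IsQuasicoherent := isQuasicoherent_Rpush f M q
  refine ⟨inferInstance, ?_⟩
  refine QCohCrit.isFiniteType_of_sections_cover _ (fun V : S.affineOpens => (V : S.Opens))
    (fun V => V.2) ?_ (fun V => finite_sections_affineOpen f M q hM V)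
  exact iSup_affineOpens_eq_top S

end Global

end RpushQC
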