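import Mathlib
import Groth.Prelude
import Groth.Agent.Lib.FlatBC4_helper2
import Groth.Agent.Lib.RpushCoh1_helper9
import Groth.Agent.Lib.RpushQC3_helper9
import Groth.Agent.Lib.StalkLoc_helper8

/-!
# The stalk of a higher direct image as cohomology over the local ring (helper2)

`f : X ⟶ Y` quasi-compact separated, `F` quasi-coherent, `y ∈ Y`, `X₁ = X ×_Y Spec O_{Y,y}`:
`(R^p f_* F)_y ≃ H^p(X₁, g^* F)` as `O_{Y,y}`-modules (flat base change along the localisation).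
APPEND-ONLY once landed.
-/

set_option autoImplicit false
universe u

open CategoryTheory CategoryTheory.Limits AlgebraicGeometry TopologicalSpace Opposite TensorProduct

namespace Groth.Agent.Lib.StalkFFH2

open Groth.Agent.Lib.FlatBCH2 Groth.Agent.HHVan

section Geo

variable {X Y : Scheme.{u}} (f : X ⟶ Y) (y : Y) (V : Y.Opens) (hy : y ∈ V)
  (X₁ : Scheme.{u}) [X₁.Over (Spec (CommRingCat.of (Y.presheaf.stalk y)))] (g : X₁ ⟶ X)
  (hsq : IsPullback g (X₁ ↘ Spec (CommRingCat.of (Y.presheaf.stalk y))) f (Y.fromSpecStalk y))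

theorem isPullback_restrict : IsPullback (f ⁻¹ᵁ V).ι (f ∣_ V) f V.ι :=
  (isPullback_morphismRestrict f V).flip

include hsq in
theorem hsq' : IsPullback g (X₁ ↘ Spec (CommRingCat.of (Y.presheaf.stalk y))) f
    (V.fromSpecStalkOfMem y hy ≫ V.ι) := by
  rw [Scheme.Opens.fromSpecStalkOfMem_ι]
  exact hsq

/-- the factorisation of `g` through `f⁻¹ V` -/
noncomputable def gV : X₁ ⟶ ((f ⁻¹ᵁ V : X.Opens) : Scheme.{u}) :=
  (isPullback_restrict f V).lift g
    ((X₁ ↘ Spec (CommRingCat.of (Y.presheaf.stalk y))) ≫ V.fromSpecStalkOfMem y hy)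
    (by rw [(hsq' f y V hy X₁ g hsq).w, Category.assoc])

theorem gV_ι : gV f y V hy X₁ g hsq ≫ (f ⁻¹ᵁ V).ι = g :=
  (isPullback_restrict f V).lift_fst _ _ _

theorem isPullback_gV :
    IsPullback (gV f y V hy X₁ g hsq) (X₁ ↘ Spec (CommRingCat.of (Y.presheaf.stalk y)))
      (f ∣_ V) (V.fromSpecStalkOfMem y hy) :=
  IsPullback.of_right' (hsq' f y V hy X₁ g hsq) (isPullback_restrict f V)

/-- the base change square over the affine open `V` -/
theorem isPullback_gV_spec (hV : IsAffineOpen V) :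
    IsPullback (gV f y V hy X₁ g hsq) (X₁ ↘ Spec (CommRingCat.of (Y.presheaf.stalk y)))
      ((f ∣_ V) ≫ V.toSpecΓ) (Spec.map (Y.presheaf.germ V y hy)) := by
  refine IsPullback.of_iso (isPullback_gV f y V hy X₁ g hsq) (Iso.refl _) (Iso.refl _)
    (Iso.refl _) hV.isoSpec ?_ ?_ ?_ ?_
  · simp only [Iso.refl_hom, Category.comp_id, Category.id_comp]
  · simp only [Iso.refl_hom, Category.comp_id, Category.id_comp]
  · simp only [Iso.refl_hom, Category.id_comp, IsAffineOpen.isoSpec_hom]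
  · simp only [Iso.refl_hom, Category.id_comp, IsAffineOpen.isoSpec_hom,
      Scheme.Opens.fromSpecStalkOfMem_toSpecΓ]

end Geo

section Sec

variable {X Y : Scheme.{u}} (f : X ⟶ Y) (V : Y.Opens)

/-- `f⁻¹ V` over `Spec Γ(Y, V)` -/
@[reducible] noncomputable def overV :
    ((f ⁻¹ᵁ V : X.Opens) : Scheme.{u}).Over (Spec (CommRingCat.of Γ(Y, V))) :=
  ⟨(f ∣_ V) ≫ V.toSpecΓ⟩

theorem toGlobal_overV (r : Γ(Y, V)) :
    letI := overV f V
    Coh.toGlobal (((f ⁻¹ᵁ V : X.Opens) : Scheme.{u}) ↘ Spec (CommRingCat.of Γ(Y, V))) r =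
      (f ∣_ V).appTop.hom (V.topIso.inv.hom r) := by
  letI := overV f V
  change ((f ∣_ V) ≫ V.toSpecΓ).appTop.hom
    ((Scheme.ΓSpecIso (CommRingCat.of Γ(Y, V))).inv.hom r) = _
  rw [Scheme.Hom.comp_appTop, Scheme.Opens.toSpecΓ_appTop]
  change (f ∣_ V).appTop.hom (V.topIso.inv.hom ((Scheme.ΓSpecIso Γ(Y, V)).hom.hom
    ((Scheme.ΓSpecIso (CommRingCat.of Γ(Y, V))).inv.hom r))) = _
  congr 2
  exact Iso.inv_hom_id_apply (C := CommRingCat) _ _

variable [QuasiCompact f] [QuasiSeparated f] [HasInjectiveResolutions X.Modules]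
  (F : X.Modules) [F.IsQuasicoherent] (p : ℕ)

/-- the sections of `R^p f_* F` over an affine open `V` are `H^p(f⁻¹ V, F)`, linearly over
`Γ(Y, V)` -/
theorem exists_sections_equiv_affineOpen (hV : IsAffineOpen V) :
    letI := overV f V
    ∃ e : Γ((Coh.Rpush f p).obj F, V) ≃+
        Coh.HH ((f ⁻¹ᵁ V : X.Opens) : Scheme.{u}) (F.restrict (f ⁻¹ᵁ V).ι) p,
      ∀ (r : Γ(Y, V)) (z : Γ((Coh.Rpush f p).obj F, V)), e (r • z) = r • e z := by
  letI := overV f V
  haveI : IsAffine ((V : Y.Opens) : Scheme.{u}) := hV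
  haveI : HasInjectiveResolutions ((f ⁻¹ᵁ V : X.Opens) : Scheme.{u}).Modules :=
    haveI := RpushQC.enoughInjectives_modules ((f ⁻¹ᵁ V : X.Opens) : Scheme.{u})
    inferInstance
  obtain ⟨eres⟩ := RpushQC.nonempty_restrict_Rpush_iso f V F p
  obtain ⟨e9, he9⟩ := RpushQC.exists_sections_equiv (f ∣_ V) (F.restrict (f ⁻¹ᵁ V).ι) p
  set N := (Coh.Rpush f p).obj F with hN
  have hle : V.ι ''ᵁ ⊤ ≤ V := V.ι_image_top.le
  have hge : V ≤ V.ι ''ᵁ ⊤ := V.ι_image_top.ge
  let τ : Γ(N, V) ≃+ Γ(N.restrict V.ι, ⊤) :=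
    { toFun := fun z => QcqsLoc.rF N hle z
      invFun := fun w => QcqsLoc.rF N hge w
      left_inv := fun z => by
        show QcqsLoc.rF N hge (QcqsLoc.rF N hle z) = z
        rw [QcqsLoc.rF_rF]
        exact congrArg (fun φ => φ.hom z) (N.presheaf.map_id _)
      right_inv := fun w => by
        show QcqsLoc.rF N hle (QcqsLoc.rF N hge w) = w
        rw [QcqsLoc.rF_rF]
        exact congrArg (fun φ => φ.hom w) (N.presheaf.map_id _)
      map_add' := fun z w => map_add (QcqsLoc.rF N hle) z w }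
  let ρ : Γ(N.restrict V.ι, ⊤) ≃+ Γ((Coh.Rpush (f ∣_ V) p).obj (F.restrict (f ⁻¹ᵁ V).ι), ⊤) :=
    (asIso (eres.hom.app ⊤)).addCommGroupIsoToAddEquiv
  refine ⟨τ.trans (ρ.trans e9.symm), fun r z => ?_⟩
  show e9.symm (ρ (τ (r • z))) = r • e9.symm (ρ (τ z))
  have h1 : τ (r • z) = (V.topIso.inv.hom r) • τ z := by
    show QcqsLoc.rF N hle (r • z) = _
    rw [QcqsLoc.rF_smul, RpushQC.restrict_smul_eq N V ⊤ (V.topIso.inv.hom r) (τ z)]
    rfl
  have h2 : ρ ((V.topIso.inv.hom r) • τ z) = (V.topIso.inv.hom r) • ρ (τ z) :=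
    Scheme.Modules.Hom.app_smul eres.hom (V.topIso.inv.hom r) (τ z)
  rw [h1, h2, AddEquiv.symm_apply_eq]
  have h3 : r • e9.symm (ρ (τ z)) =
      Sheaf.H.map (Coh.smulAb (F.restrict (f ⁻¹ᵁ V).ι)
        ((f ∣_ V).appTop.hom (V.topIso.inv.hom r))) p (e9.symm (ρ (τ z))) := by
    show Sheaf.H.map (Coh.smulAb (F.restrict (f ⁻¹ᵁ V).ι)
      (Coh.toGlobal (((f ⁻¹ᵁ V : X.Opens) : Scheme.{u}) ↘ Spec (CommRingCat.of Γ(Y, V))) r)) p
        (e9.symm (ρ (τ z))) = _
    rw [toGlobal_overV]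
  rw [h3, he9, AddEquiv.apply_symm_apply]

end Sec

section Iso

/-- the linear equivalence on cohomology induced by an isomorphism of modules -/
noncomputable def HHlinEquiv (B : Type u) [CommRing B] {X' : Scheme.{u}}
    [X'.Over (Spec (CommRingCat.of B))] {M N : X'.Modules} (θ : M ≅ N) (p : ℕ) :
    Coh.HH X' M p ≃ₗ[B] Coh.HH X' N p :=
  LinearEquiv.ofLinear (Canon.HHlin B θ.hom p) (Canon.HHlin B θ.inv p)
    (by
      apply LinearMap.ext
      intro x
      show hmap θ.hom p (hmap θ.inv p x) = x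
      rw [← hmap_comp, θ.inv_hom_id, hmap_id])
    (by
      apply LinearMap.ext
      intro x
      show hmap θ.inv p (hmap θ.hom p x) = x
      rw [← hmap_comp, θ.hom_inv_id, hmap_id])

end Iso

section Main

variable {X Y : Scheme.{u}} (f : X ⟶ Y) [QuasiCompact f] [IsSeparated f]
  [HasInjectiveResolutions X.Modules] (F : X.Modules) [F.IsQuasicoherent] (y : Y) (p : ℕ)
  (X₁ : Scheme.{u}) [X₁.Over (Spec (CommRingCat.of (Y.presheaf.stalk y)))] (g : X₁ ⟶ X)
  (hsq : IsPullback g (X₁ ↘ Spec (CommRingCat.of (Y.presheaf.stalk y))) f (Y.fromSpecStalk y))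

include hsq in
/-- **The stalk of a higher direct image** is the cohomology of the base change to the local
ring. -/
theorem nonempty_stalk_linearEquiv :
    Nonempty (((Coh.Rpush f p).obj F).presheaf.stalk y ≃ₗ[Y.presheaf.stalk y]
      Coh.HH X₁ ((Scheme.Modules.pullback g).obj F) p) := by
  obtain ⟨V, hV, hyV⟩ : ∃ V : Y.Opens, IsAffineOpen V ∧ y ∈ V := by
    obtain ⟨V, hV, hyV, -⟩ := (Opens.isBasis_iff_nbhd.mp Y.isBasis_affineOpens)
      (show y ∈ (⊤ : Y.Opens) from trivial)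
    exact ⟨V, hV, hyV⟩
  set N := (Coh.Rpush f p).obj F with hN
  haveI : N.IsQuasicoherent := RpushQC.isQuasicoherent_Rpush f F p
  -- the rings
  letI algRO := TopCat.Presheaf.algebra_section_stalk Y.presheaf (⟨y, hyV⟩ : V)
  haveI hloc : IsLocalization.AtPrime (Y.presheaf.stalk y) (hV.primeIdealOf ⟨y, hyV⟩).asIdeal :=
    hV.isLocalization_stalk ⟨y, hyV⟩
  haveI : Module.Flat Γ(Y, V) (Y.presheaf.stalk y) :=
    IsLocalization.flat _ (hV.primeIdealOf ⟨y, hyV⟩).asIdeal.primeCompl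
  -- the stalk as a base change
  letI modR : Module Γ(Y, V) (N.presheaf.stalk y) := StalkLocH8.modSec N hyV
  haveI : IsScalarTower Γ(Y, V) (Y.presheaf.stalk y) (N.presheaf.stalk y) :=
    IsScalarTower.of_algebraMap_smul fun _ _ => rfl
  haveI hlm := StalkLocH8.isLocalizedModule_germLin N hV hyV
  have hbc1 : IsBaseChange (Y.presheaf.stalk y) (StalkLocH8.germLin N hyV) :=
    IsLocalizedModule.isBaseChange (hV.primeIdealOf ⟨y, hyV⟩).asIdeal.primeCompl
      (Y.presheaf.stalk y) (StalkLocH8.germLin N hyV)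
  -- the sections as cohomology
  letI ov := overV f V
  obtain ⟨e, he⟩ := exists_sections_equiv_affineOpen f V F p hV
  let eL : Γ(N, V) ≃ₗ[Γ(Y, V)]
      Coh.HH ((f ⁻¹ᵁ V : X.Opens) : Scheme.{u}) (F.restrict (f ⁻¹ᵁ V).ι) p :=
    { e with map_smul' := fun r z => he r z }
  -- flat base change
  have hsqV := isPullback_gV_spec f y V hyV X₁ g hsq hV
  haveI : CompactSpace ((f ⁻¹ᵁ V : X.Opens) : Scheme.{u}) :=
    isCompact_iff_compactSpace.mp
      (QuasiCompact.isCompact_preimage (f := f) (V : Set Y) V.2 hV.isCompact)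
  haveI : IsSeparated (f ∣_ V) :=
    MorphismProperty.of_isPullback (P := @IsSeparated) (isPullback_restrict f V) inferInstance
  haveI : IsIso V.toSpecΓ := by
    rw [← IsAffineOpen.isoSpec_hom hV]
    infer_instance
  haveI : IsSeparated (((f ⁻¹ᵁ V : X.Opens) : Scheme.{u}) ↘ Spec (CommRingCat.of Γ(Y, V))) :=
    inferInstanceAs (IsSeparated ((f ∣_ V) ≫ V.toSpecΓ))
  obtain ⟨t, ht⟩ := exists_isBC_of_isSeparated (A := Γ(Y, V)) (B := Y.presheaf.stalk y)
    (gV f y V hyV X₁ g hsq) hsqV p (F.restrict (f ⁻¹ᵁ V).ι)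
  -- the comparison of the pullbacks
  let θ : (Scheme.Modules.pullback (gV f y V hyV X₁ g hsq)).obj (F.restrict (f ⁻¹ᵁ V).ι) ≅
      (Scheme.Modules.pullback g).obj F :=
    (Scheme.Modules.pullback (gV f y V hyV X₁ g hsq)).mapIso
        ((Scheme.Modules.restrictFunctorIsoPullback (f ⁻¹ᵁ V).ι).app F) ≪≫
      (Scheme.Modules.pullbackComp (gV f y V hyV X₁ g hsq) (f ⁻¹ᵁ V).ι).app F ≪≫
      (Scheme.Modules.pullbackCongr (gV_ι f y V hyV X₁ g hsq)).app F
  obtain ⟨e₁⟩ := (IsBC.of_isBaseChange (StalkLocH8.germLin N hyV) hbc1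
    (StalkLocH8.germLin N hyV).toAddMonoidHom (fun x => rfl)).nonempty
  obtain ⟨e₂⟩ := ht.nonempty
  exact ⟨e₁.symm ≪≫ₗ
    (TensorProduct.AlgebraTensorModule.congr (LinearEquiv.refl (Y.presheaf.stalk y) _) eL) ≪≫ₗ
    e₂ ≪≫ₗ HHlinEquiv (Y.presheaf.stalk y) θ p⟩

end Main

end Groth.Agent.Lib.StalkFFH2
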