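import Mathlib
import Groth.Prelude
import Groth.Agent.Lib.BCFib1_helper2
import Groth.Agent.Lib.FlatBC3_helper8
import Groth.Agent.Lib.ConsMod1_helper2
import Groth.Agent.Lib.StalkFF1_helper2
import Groth.Agent.Lib.FiberRank_helper9

/-!
# Restriction of a proper morphism to an affine open of the base (helper2)

For `f : X ⟶ Y`, `V` an affine open of `Y`: `f⁻¹V` as a scheme over `Spec Γ(V, ⊤)`, the base change
square, flatness, and the fibres of `f` at points of `V` as base changes of `f⁻¹V`.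
APPEND-ONLY once landed.
-/

set_option autoImplicit false
universe u
open CategoryTheory Limits AlgebraicGeometry TopologicalSpace Opposite TensorProduct

namespace Groth.Agent.Lib.BCLocH2

section Alg

/-- the homology rank of the base change to a field is the rank function at the kernel -/
theorem dRank_ker {A K : Type u} [CommRing A] [Field K] (ψ : A →+* K)
    (P : ChainComplex (ModuleCat.{u} A) ℤ) (p : ℤ) :
    CohIII.dRank P p ⟨RingHom.ker ψ, RingHom.ker_isPrime ψ⟩ =
      Module.finrank K ((CohIII.bcCx ψ P).homology p) := by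
  haveI : (RingHom.ker ψ).IsPrime := RingHom.ker_isPrime ψ
  have hu : (RingHom.ker ψ).primeCompl ≤ (IsUnit.submonoid K).comap ψ := fun x hx => by
    have hx' : ψ x ≠ 0 := fun h => hx ((RingHom.mem_ker).2 h)
    exact isUnit_iff_ne_zero.2 hx'
  let χ : (RingHom.ker ψ).ResidueField →+* K :=
    Ideal.ResidueField.lift (RingHom.ker ψ) ψ le_rfl hu
  have hχ : χ.comp (algebraMap A (RingHom.ker ψ).ResidueField) = ψ :=
    RingHom.ext fun r => Ideal.ResidueField.lift_algebraMap (RingHom.ker ψ) ψ le_rfl hu r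
  have h1 := FiberRank9.finrank_homology_bc (algebraMap A (RingHom.ker ψ).ResidueField) χ
    (algebraMap A (RingHom.ker ψ).ResidueField) χ rfl P p
  have h2 := FiberRank9.finrank_homology_bc (algebraMap A (RingHom.ker ψ).ResidueField) χ
    ψ (RingHom.id K) (by rw [hχ]; rfl) P p
  exact h1.symm.trans h2

end Alg

section Setup

variable {X Y : Scheme.{u}} (f : X ⟶ Y) (V : Y.Opens)

/-- `f⁻¹ V` as a scheme over `Spec Γ(V, ⊤)` -/
@[reducible] noncomputable def overV :
    ((f ⁻¹ᵁ V : X.Opens) : Scheme.{u}).Over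
      (Spec (CommRingCat.of Γ((V : Scheme.{u}), ⊤))) :=
  ⟨(f ∣_ V) ≫ (V : Scheme.{u}).toSpecΓ⟩

variable [IsAffine (V : Scheme.{u})]

/-- the open immersion `Spec Γ(V, ⊤) ⟶ Y` -/
noncomputable def cV : Spec (CommRingCat.of Γ((V : Scheme.{u}), ⊤)) ⟶ Y :=
  (V : Scheme.{u}).isoSpec.inv ≫ V.ι

lemma toSpecΓ_cV : (V : Scheme.{u}).toSpecΓ ≫ cV V = V.ι := by
  unfold cV
  rw [← Category.assoc]
  have h : (V : Scheme.{u}).toSpecΓ ≫ (V : Scheme.{u}).isoSpec.inv = 𝟙 _ :=
    Scheme.toSpecΓ_isoSpec_inv _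
  rw [h, Category.id_comp]

instance : Mono (cV V) := by
  unfold cV
  infer_instance

/-- the base change square -/
theorem isPullback_V :
    letI := overV f V
    IsPullback (f ⁻¹ᵁ V).ι
      (((f ⁻¹ᵁ V : X.Opens) : Scheme.{u}) ↘ Spec (CommRingCat.of Γ((V : Scheme.{u}), ⊤)))
      f (cV V) := by
  letI := overV f V
  have h0 : IsPullback (f ⁻¹ᵁ V).ι (f ∣_ V) f V.ι := (isPullback_morphismRestrict f V).flip
  refine h0.of_iso (Iso.refl _) (Iso.refl _) (V : Scheme.{u}).isoSpec (Iso.refl _) ?_ ?_ ?_ ?_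
  · rw [Iso.refl_hom, Iso.refl_hom, Category.comp_id, Category.id_comp]
  · rw [Iso.refl_hom, Category.id_comp]
    rfl
  · rw [Iso.refl_hom, Iso.refl_hom, Category.comp_id, Category.id_comp]
  · rw [Iso.refl_hom, Category.comp_id]
    exact (toSpecΓ_cV V).symm

/-- flatness of the pulled back module over `Spec Γ(V, ⊤)` -/
theorem isFlatOver_V (F : X.Modules) [F.IsQuasicoherent] (hfl : FlatMod.IsFlatOver f F) :
    letI := overV f V
    FlatMod.IsFlatOver
      (((f ⁻¹ᵁ V : X.Opens) : Scheme.{u}) ↘ Spec (CommRingCat.of Γ((V : Scheme.{u}), ⊤)))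
      ((Scheme.Modules.pullback (f ⁻¹ᵁ V).ι).obj F) := by
  letI := overV f V
  intro x'
  exact FlatBC2H8.isFlatOverAt_pullback (isPullback_V f V) F x' (hfl _)

section Fibre

variable (y : Y) (hy : y ∈ V)

include hy in
lemma range_fiberι_subset :
    Set.range (f.fiberι y) ⊆ Set.range (f ⁻¹ᵁ V).ι := by
  rw [Scheme.Hom.range_fiberι, Scheme.Opens.range_ι]
  intro x hx
  have hx' : f x = y := hx
  show f x ∈ V
  rw [hx']
  exact hy

include hy in
lemma range_fromSpecResidueField_subset :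
    Set.range (Y.fromSpecResidueField y) ⊆ Set.range V.ι := by
  rw [Scheme.Opens.range_ι]
  rintro _ ⟨s, rfl⟩
  rw [Scheme.fromSpecResidueField_apply]
  exact hy

/-- the fibre maps to `f⁻¹ V` -/
noncomputable def gy : f.fiber y ⟶ ((f ⁻¹ᵁ V : X.Opens) : Scheme.{u}) :=
  IsOpenImmersion.lift (f ⁻¹ᵁ V).ι (f.fiberι y) (range_fiberι_subset f V y hy)

lemma gy_ι : gy f V y hy ≫ (f ⁻¹ᵁ V).ι = f.fiberι y := IsOpenImmersion.lift_fac _ _ _

/-- the point of `V` -/
noncomputable def ιy : Spec (Y.residueField y) ⟶ (V : Scheme.{u}) :=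
  IsOpenImmersion.lift V.ι (Y.fromSpecResidueField y) (range_fromSpecResidueField_subset V y hy)

lemma ιy_ι : ιy V y hy ≫ V.ι = Y.fromSpecResidueField y := IsOpenImmersion.lift_fac _ _ _

/-- the point of `Spec Γ(V, ⊤)` -/
noncomputable def bY : Spec (Y.residueField y) ⟶ Spec (CommRingCat.of Γ((V : Scheme.{u}), ⊤)) :=
  ιy V y hy ≫ (V : Scheme.{u}).toSpecΓ

lemma bY_cV : bY V y hy ≫ cV V = Y.fromSpecResidueField y := by
  unfold bY
  rw [Category.assoc, toSpecΓ_cV, ιy_ι]

/-- the ring map `Γ(V, ⊤) → κ(y)` -/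
noncomputable def ψy : Γ((V : Scheme.{u}), ⊤) →+* Y.residueField y :=
  (Spec.preimage (bY V y hy)).hom

lemma SpecMap_ψy : Spec.map (CommRingCat.ofHom (ψy V y hy)) = bY V y hy :=
  Spec.map_preimage (bY V y hy)

/-- `κ(y)` as an algebra over `Γ(V, ⊤)` -/
@[reducible] noncomputable def algY : Algebra Γ((V : Scheme.{u}), ⊤) (Y.residueField y) :=
  (ψy V y hy).toAlgebra

/-- the fibre as a scheme over the residue field -/
@[reducible] noncomputable def overFib :
    (f.fiber y).Over (Spec (CommRingCat.of (Y.residueField y))) :=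
  ⟨f.fiberToSpecResidueField y⟩

/-- the fibre of `f` at `y ∈ V` is the base change of `f⁻¹ V` -/
theorem isPullback_fib :
    letI := overV f V
    letI := algY V y hy
    letI := overFib f y
    IsPullback (gy f V y hy)
      ((f.fiber y) ↘ Spec (CommRingCat.of (Y.residueField y)))
      (((f ⁻¹ᵁ V : X.Opens) : Scheme.{u}) ↘ Spec (CommRingCat.of Γ((V : Scheme.{u}), ⊤)))
      (Spec.map (CommRingCat.ofHom
        (algebraMap Γ((V : Scheme.{u}), ⊤) (Y.residueField y)))) := by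
  letI := overV f V
  letI := algY V y hy
  letI := overFib f y
  refine (congrArg (IsPullback (gy f V y hy) (f.fiberToSpecResidueField y)
    ((f ∣_ V) ≫ (V : Scheme.{u}).toSpecΓ)) (SpecMap_ψy V y hy)).mpr ?_
  have hbig : IsPullback (gy f V y hy ≫ (f ⁻¹ᵁ V).ι) (f.fiberToSpecResidueField y) f
      (bY V y hy ≫ cV V) := by
    rw [gy_ι, bY_cV]
    exact IsPullback.of_hasPullback f (Y.fromSpecResidueField y)
  refine IsPullback.of_right hbig ?_ (isPullback_V f V)
  rw [← cancel_mono (cV V)]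
  have h1 : ((f ∣_ V) ≫ (V : Scheme.{u}).toSpecΓ) ≫ cV V = (f ⁻¹ᵁ V).ι ≫ f := by
    rw [Category.assoc, toSpecΓ_cV]
    exact (isPullback_morphismRestrict f V).w
  calc (gy f V y hy ≫ ((f ∣_ V) ≫ (V : Scheme.{u}).toSpecΓ)) ≫ cV V
      = gy f V y hy ≫ (((f ∣_ V) ≫ (V : Scheme.{u}).toSpecΓ) ≫ cV V) := Category.assoc _ _ _
    _ = gy f V y hy ≫ ((f ⁻¹ᵁ V).ι ≫ f) := by rw [h1]
    _ = (gy f V y hy ≫ (f ⁻¹ᵁ V).ι) ≫ f := (Category.assoc _ _ _).symm
    _ = f.fiberι y ≫ f := by rw [gy_ι]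
    _ = f.fiberToSpecResidueField y ≫ Y.fromSpecResidueField y := f.fiber_fac y
    _ = f.fiberToSpecResidueField y ≫ (bY V y hy ≫ cV V) := by rw [bY_cV]
    _ = (f.fiberToSpecResidueField y ≫ bY V y hy) ≫ cV V := (Category.assoc _ _ _).symm

/-- the pulled back module on the fibre -/
noncomputable def fibModIso (F : X.Modules) :
    (Scheme.Modules.pullback (gy f V y hy)).obj
      ((Scheme.Modules.pullback (f ⁻¹ᵁ V).ι).obj F) ≅ CohIII.fiberMod f F y :=
  (Scheme.Modules.pullbackComp (gy f V y hy) (f ⁻¹ᵁ V).ι).app F ≪≫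
    (Scheme.Modules.pullbackCongr (gy_ι f V y hy)).app F

/-- the point of the spectrum is the kernel of `ψy` -/
theorem toSpecΓ_apply :
    ((V : Scheme.{u}).toSpecΓ ⟨y, hy⟩ : PrimeSpectrum Γ((V : Scheme.{u}), ⊤)) =
      ⟨RingHom.ker (ψy V y hy), RingHom.ker_isPrime _⟩ := by
  have hne : Nonempty (Spec (Y.residueField y)) := inferInstance
  obtain ⟨s⟩ := hne
  have h1 : (ιy V y hy) s = ⟨y, hy⟩ := by
    apply Subtype.ext
    have h2 : V.ι ((ιy V y hy) s) = (Y.fromSpecResidueField y) s := by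
      rw [← Scheme.Hom.comp_apply, ιy_ι]
    rw [Scheme.fromSpecResidueField_apply] at h2
    exact h2
  have h3 : (bY V y hy) s = (V : Scheme.{u}).toSpecΓ ⟨y, hy⟩ := by
    unfold bY
    rw [Scheme.Hom.comp_apply, h1]
  rw [← h3, ← SpecMap_ψy]
  apply PrimeSpectrum.ext
  show Ideal.comap (ψy V y hy) s.asIdeal = RingHom.ker (ψy V y hy)
  have hs : s.asIdeal = ⊥ := by
    haveI := s.2
    exact ((Ideal.eq_bot_or_top s.asIdeal).resolve_right s.2.ne_top)
  rw [hs]
  rfl

end Fibre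

end Setup

end Groth.Agent.Lib.BCLocH2
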