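import Mathlib
import Groth.Prelude
import Groth.Agent.Lib.BCLoc1_helper2
import Groth.Agent.Lib.RpushCoh1_helper9

/-!
# The Grothendieck complex over an affine open of a locally Noetherian base (helper2)
APPEND-ONLY once landed.
-/

set_option autoImplicit false
universe u
open CategoryTheory Limits AlgebraicGeometry TopologicalSpace Opposite TensorProduct MonoidalCategory

namespace Groth.Agent.Lib.BCLocH2

open Groth.Agent.Lib.CechSite Groth.Agent.Lib.BCCechH2 Groth.Agent.Lib.BCSecH2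
  Groth.Agent.Lib.BCExtH2 Groth.Agent.Lib.BCCxH2 QcqsLoc Groth.Agent.Lib.FormalFnH2
  Groth.Agent.Lib.FlatBCH2 Groth.Agent.Lib.BCAlgH2
  Groth.Agent.Lib.BCMainH2 Groth.Agent.Lib.BCBaseH2 Groth.Agent.Lib.BCFibH2

section Alg

variable {A : Type u} [CommRing A]

lemma quasiIso_of_TR_unit {L C : Cx A} (u : L ⟶ C)
    (hu : QuasiIso ((TR (𝟙_ (ModuleCat.{u} A))).map u)) : QuasiIso u := by
  have hi : Arrow.mk ((TR (𝟙_ (ModuleCat.{u} A))).map u) ≅ Arrow.mk u :=
    Arrow.isoMk (TRunitIso L) (TRunitIso C) (by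
      apply HomologicalComplex.hom_ext
      intro i
      show (ρ_ (L.X i)).hom ≫ u.f i = (u.f i ▷ 𝟙_ (ModuleCat.{u} A)) ≫ (ρ_ (C.X i)).hom
      exact (rightUnitor_naturality (u.f i)).symm)
  haveI := hu
  exact quasiIso_of_arrow_mk_iso _ _ hi

end Alg

/-- **Cohomology and base change**, with the cohomology of `F` itself. -/
theorem mainBC2 (A : Type u) [CommRing A] [IsNoetherianRing A] (X : Scheme.{u})
    [X.Over (Spec (CommRingCat.of A))] [IsProper (X ↘ Spec (CommRingCat.of A))]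
    (F : X.Modules) (hF : Coh.IsCoh F)
    (hfl : FlatMod.IsFlatOver (X ↘ Spec (CommRingCat.of A)) F) :
    ∃ L : CochainComplex (ModuleCat.{u} A) ℤ,
      (∀ i, Module.Finite A (L.X i) ∧ Module.Free A (L.X i)) ∧
      (∃ b : ℤ, ∀ i, b < i → IsZero (L.X i)) ∧
      (∀ i : ℤ, i < 0 → ∀ M : ModuleCat.{u} A, IsZero ((CohIII.TFun L i).obj M)) ∧
      (∀ p : ℕ, Nonempty (CohIII.tensorAFunctor A F ⋙ CohIII.HAb X p ≅
        CohIII.TFun L (p : ℤ) ⋙ forget₂ (ModuleCat.{u} A) AddCommGrpCat.{u})) ∧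
      (∀ p : ℕ, Nonempty (L.homology (p : ℤ) ≃ₗ[A] Coh.HH X F p)) ∧
      ∀ (A' : Type u) [CommRing A'] [Algebra A A'] (X' : Scheme.{u})
        [X'.Over (Spec (CommRingCat.of A'))] (g' : X' ⟶ X)
        (_ : IsPullback g' (X' ↘ Spec (CommRingCat.of A')) (X ↘ Spec (CommRingCat.of A))
          (Spec.map (CommRingCat.ofHom (algebraMap A A')))) (p : ℕ),
        Nonempty ((CohIII.bcCx (algebraMap A A') L).homology (p : ℤ) ≃ₗ[A']
          Coh.HH X' ((Scheme.Modules.pullback g').obj F) p) := by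
  classical
  haveI : F.IsQuasicoherent := hF.1
  haveI : CompactSpace X :=
    QuasiCompact.compactSpace_of_compactSpace (X ↘ Spec (CommRingCat.of A))
  obtain ⟨t, U', hU', hcov'⟩ := exists_affine_cover X
  have hd : ∀ V W : X.Opens, IsAffineOpen V → IsAffineOpen W → IsAffineOpen (V ⊓ W) :=
    inf_affine_of_separated (X ↘ Spec (CommRingCat.of A))
  let 𝒰 : ULift.{u} (Fin t) → X.Opens := fun i => U' i.down
  have hcov : ⨆ i, 𝒰 i = ⊤ := by
    rw [eq_top_iff, ← hcov']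
    exact iSup_le fun i => le_iSup 𝒰 ⟨i⟩
  have hU := isAffineOpen_biInf hd 𝒰 (fun i => hU' i.down)
  have hvan : ∀ (G : X.Modules) [G.IsQuasicoherent] (p : ℕ), t ≤ p →
      Subsingleton (Coh.HH X G p) := fun G _ p hp =>
    AffVanish.HH_subsingleton_of_cover X t U' hU' hcov' hd G p hp
  obtain ⟨L, u, hL, hLz, hu⟩ := exists_L (CC A 𝒰 F) (flat_CC A 𝒰 hU F hfl)
    (finite_homology_CC A 𝒰 hU F hcov hF) (t : ℤ)
    (fun M i hi => isZero_homology_tensor A 𝒰 hU F hcov t hvan M i hi)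
  refine ⟨L, hL, ⟨t, hLz⟩, fun i hi M => ?_, fun p => ⟨(natIso A 𝒰 hU F hcov p).symm ≪≫
    (Functor.isoWhiskerRight (TFunIso u hu (Int.ofNat p)) _).symm⟩, fun p => ?_, ?_⟩
  · have hz : IsZero ((CohIII.TFun (CC A 𝒰 F) i).obj M) := by
      cases i with
      | ofNat n =>
        exfalso
        have : (0 : ℤ) ≤ Int.ofNat n := Int.natCast_nonneg n
        omega
      | negSucc n =>
        exact isZero_homology_of_isZero_X _ _
          ((MonoidalCategory.tensorRight M).map_isZero (isZero_CC_negSucc A 𝒰 F n))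
    exact IsZero.of_iso hz ((TFunIso u hu i).app M)
  · haveI hq : QuasiIso u := quasiIso_of_TR_unit u (hu _)
    exact ⟨(@asIso _ _ _ _ (HomologicalComplex.homologyMap u (Int.ofNat p))
      ((quasiIsoAt_iff_isIso_homologyMap _ _).1
        ((quasiIso_iff _).1 hq (Int.ofNat p)))).toLinearEquiv ≪≫ₗ
      toHHLin A 𝒰 hU hcov F p⟩
  · intro A' _ _ X' _ g' hsq p
    exact ⟨hhLinBCL hsq 𝒰 hU F hcov u hu p⟩

section Sections

variable {X S : Scheme.{u}} (f : X ⟶ S) (M : X.Modules) (q : ℕ)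
  [IsAffine S] [QuasiCompact f] [QuasiSeparated f] [M.IsQuasicoherent]
  [HasInjectiveResolutions X.Modules]

/-- over an affine base, the global sections of `R^q f_* M` are `H^q(X, M)`, linearly over the
functions on the base -/
theorem sections_linearEquiv :
    letI : X.Over (Spec (CommRingCat.of Γ(S, ⊤))) := ⟨f ≫ S.toSpecΓ⟩
    Nonempty (Coh.HH X M q ≃ₗ[Γ(S, ⊤)] Γ((Coh.Rpush f q).obj M, ⊤)) := by
  letI : X.Over (Spec (CommRingCat.of Γ(S, ⊤))) := ⟨f ≫ S.toSpecΓ⟩
  obtain ⟨e, he⟩ := RpushQC.exists_sections_equiv f M q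
  have hg : ∀ a : Γ(S, ⊤), Coh.toGlobal (X ↘ Spec (CommRingCat.of Γ(S, ⊤))) a =
      f.appTop.hom a := by
    intro a
    change f.appTop.hom (S.toSpecΓ.appTop.hom
      ((Scheme.ΓSpecIso (CommRingCat.of Γ(S, ⊤))).inv.hom a)) = f.appTop.hom a
    congr 1
    rw [Scheme.toSpecΓ_appTop]
    exact Iso.inv_hom_id_apply (C := CommRingCat) _ _
  exact ⟨{ e with
    map_smul' := fun a x => by
      change e (Sheaf.H.map (Coh.smulAb M (Coh.toGlobal
        (X ↘ Spec (CommRingCat.of Γ(S, ⊤))) a)) q x) = a • e x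
      rw [hg a]
      exact he a x }⟩

end Sections

end Groth.Agent.Lib.BCLocH2
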