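import Mathlib
import Groth.Agent.Lib.TFunCoprod_helper7
import Groth.Agent.Lib.EW_helper7
import Groth.Agent.Lib.FlatCx_helper2

set_option autoImplicit false
universe u
open CategoryTheory CategoryTheory.Limits MonoidalCategory
open scoped TensorProduct

namespace Groth.Agent.Lib.TFunEWH7

open Groth.Agent.Lib.TFunCoprodH7

variable {A : Type u} [CommRing A] {ι : Type} {c : ComplexShape ι}
  (P : HomologicalComplex (ModuleCat.{u} A) c) (hP : ∀ i, Module.Flat A (P.X i)) (p : ι)

include hP in
lemma halfExact (S : ShortComplex (ModuleCat.{u} A)) (hS : S.ShortExact) :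
    (S.map (CohIII.TFun P p)).Exact :=
  (Groth.Agent.Lib.TFunLESH7.tensorSC_shortExact P hP S hS).homology_exact₂ p

include hP in
lemma pfc_of_epi (h : (CohIII.TFun P p).PreservesEpimorphisms) :
    PreservesFiniteColimits (CohIII.TFun P p) := by
  rw [Functor.preservesFiniteColimits_iff_forall_exact_map_and_epi]
  intro S hS
  haveI := hS.epi_g
  exact ⟨halfExact P hP p S hS, h.preserves S.g⟩

include hP in
/-- `T_p ≅ T_p(A) ⊗ -` when `T_p` preserves epimorphisms. -/
lemma iso_of_epi (h : (CohIII.TFun P p).PreservesEpimorphisms) :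
    Nonempty (tensorLeft ((CohIII.TFun P p).obj (ModuleCat.of A A)) ≅ CohIII.TFun P p) := by
  haveI := pfc_of_epi P hP p h
  exact ⟨Groth.Agent.Lib.EWH7.natIsoOfBij (CohIII.TFun P p)
    ((Groth.Agent.Lib.EWH7.s4504 (CohIII.TFun P p)).1.mp inferInstance)⟩

lemma preservesMono_tensorLeft_of_flat (N : ModuleCat.{u} A) (hN : Module.Flat A N) :
    (tensorLeft N).PreservesMonomorphisms :=
  ⟨fun g hg => (Groth.Agent.FlatCxLib.flat_iff_mono_whiskerLeft N).mp hN g hg⟩

lemma preservesEpi_tensorLeft (N : ModuleCat.{u} A) : (tensorLeft N).PreservesEpimorphisms :=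
  ⟨fun g hg => by
    show Epi (N ◁ g)
    rw [ModuleCat.epi_iff_surjective]
    exact LinearMap.lTensor_surjective N ((ModuleCat.epi_iff_surjective g).mp hg)⟩

lemma flat_of_preservesMono_tensorLeft (N : ModuleCat.{u} A)
    (h : (tensorLeft N).PreservesMonomorphisms) : Module.Flat A N :=
  (Groth.Agent.FlatCxLib.flat_iff_mono_whiskerLeft N).mpr (fun g hg => h.preserves g)

include hP in
theorem s2407 :
    (CohIII.TFun P p).PreservesEpimorphisms ↔
      ∃ N : ModuleCat.{u} A, Nonempty (CohIII.TFun P p ≅ tensorLeft N) := by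
  constructor
  · intro h
    obtain ⟨e⟩ := iso_of_epi P hP p h
    exact ⟨_, ⟨e.symm⟩⟩
  · rintro ⟨N, ⟨e⟩⟩
    haveI := preservesEpi_tensorLeft N
    exact Functor.PreservesEpimorphisms.of_iso e.symm

include hP in
theorem s4496 :
    ((CohIII.TFun P p).PreservesMonomorphisms ∧ (CohIII.TFun P p).PreservesEpimorphisms) ↔
      ∃ N : ModuleCat.{u} A, Module.Flat A N ∧ Nonempty (CohIII.TFun P p ≅ tensorLeft N) := by
  constructor
  · rintro ⟨hm, he⟩
    obtain ⟨e⟩ := iso_of_epi P hP p he
    refine ⟨_, ?_, ⟨e.symm⟩⟩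
    apply flat_of_preservesMono_tensorLeft
    exact Functor.PreservesMonomorphisms.of_iso e.symm
  · rintro ⟨N, hN, ⟨e⟩⟩
    haveI := preservesMono_tensorLeft_of_flat N hN
    haveI := preservesEpi_tensorLeft N
    exact ⟨Functor.PreservesMonomorphisms.of_iso e.symm,
      Functor.PreservesEpimorphisms.of_iso e.symm⟩

include hP in
lemma flat_TA_of_mono_epi (hm : (CohIII.TFun P p).PreservesMonomorphisms)
    (he : (CohIII.TFun P p).PreservesEpimorphisms) :
    Module.Flat A ((CohIII.TFun P p).obj (ModuleCat.of A A)) := by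
  obtain ⟨e⟩ := iso_of_epi P hP p he
  apply flat_of_preservesMono_tensorLeft
  exact Functor.PreservesMonomorphisms.of_iso e.symm

include hP in
lemma mono_of_epi_of_flat_TA (he : (CohIII.TFun P p).PreservesEpimorphisms)
    (hfl : Module.Flat A ((CohIII.TFun P p).obj (ModuleCat.of A A))) :
    (CohIII.TFun P p).PreservesMonomorphisms := by
  obtain ⟨e⟩ := iso_of_epi P hP p he
  haveI := preservesMono_tensorLeft_of_flat _ hfl
  exact Functor.PreservesMonomorphisms.of_iso e

lemma finite_homology [IsNoetherianRing A] (K : HomologicalComplex (ModuleCat.{u} A) c) (i : ι)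
    [Module.Finite A (K.X i)] : Module.Finite A (K.homology i) := by
  haveI : IsNoetherian A (K.X i) := isNoetherian_of_isNoetherianRing_of_finite A _
  haveI : Module.Finite A (K.cycles i) := Module.Finite.of_injective (K.iCycles i).hom
    ((ModuleCat.mono_iff_injective _).mp inferInstance)
  exact Module.Finite.of_surjective (K.homologyπ i).hom
    ((ModuleCat.epi_iff_surjective _).mp inferInstance)

theorem s2410 [IsNoetherianRing A] [IsLocalRing A]
    (hP' : ∀ i, Module.Finite A (P.X i) ∧ Module.Flat A (P.X i)) :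
    ((CohIII.TFun P p).PreservesMonomorphisms ∧ (CohIII.TFun P p).PreservesEpimorphisms) ↔
      ((CohIII.TFun P p).PreservesEpimorphisms ∧
        Module.Free A ((CohIII.TFun P p).obj (ModuleCat.of A A))) := by
  have hP : ∀ i, Module.Flat A (P.X i) := fun i => (hP' i).2
  constructor
  · rintro ⟨hm, he⟩
    refine ⟨he, ?_⟩
    haveI := flat_TA_of_mono_epi P hP p hm he
    haveI : Module.Finite A (P.X p) := (hP' p).1
    haveI : Module.Finite A ((CohIII.tensorObj P (ModuleCat.of A A)).X p) := by
      show Module.Finite A (P.X p ⊗[A] A)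
      infer_instance
    haveI : Module.Finite A ((CohIII.TFun P p).obj (ModuleCat.of A A)) :=
      finite_homology (CohIII.tensorObj P (ModuleCat.of A A)) p
    exact Module.free_of_flat_of_isLocalRing
  · rintro ⟨he, hfree⟩
    exact ⟨mono_of_epi_of_flat_TA P hP p he inferInstance, he⟩

end Groth.Agent.Lib.TFunEWH7
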