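import Mathlib
import Groth.Prelude
import Groth.Agent.Lib.BCLoc2_helper2
import Groth.Agent.Lib.TFunEW_helper7

/-!
# The local package: Grothendieck complex, fibre ranks and higher direct images over an affine
open of the base (helper2)
APPEND-ONLY once landed.
-/

set_option autoImplicit false
universe u
open CategoryTheory Limits AlgebraicGeometry TopologicalSpace Opposite TensorProduct MonoidalCategory

namespace Groth.Agent.Lib.BCLocH2

open Groth.Agent.Lib.BCAlgH2 Groth.Agent.Lib.BCMainH2 Groth.Agent.Lib.BCBaseH2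
  Groth.Agent.Lib.BCFibH2

/-- **The local package.** -/
theorem locPackage {X Y : Scheme.{u}} (f : X ⟶ Y) [IsProper f] [IsLocallyNoetherian Y]
    (F : X.Modules) (hF : Coh.IsCoh F) (hfl : FlatMod.IsFlatOver f F)
    (V : Y.Opens) (hV : IsAffineOpen V) :
    ∃ P : ChainComplex (ModuleCat.{u} Γ((V : Scheme.{u}), ⊤)) ℤ,
      (∀ i, Module.Finite Γ((V : Scheme.{u}), ⊤) (P.X i) ∧
        Module.Free Γ((V : Scheme.{u}), ⊤) (P.X i)) ∧
      (∃ b : ℤ, ∀ i, i < b → IsZero (P.X i)) ∧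
      (∀ i : ℤ, 0 < i → ∀ M : ModuleCat.{u} Γ((V : Scheme.{u}), ⊤),
        IsZero ((CohIII.TFun P i).obj M)) ∧
      (∀ (p : ℕ) (y : Y) (hy : y ∈ V), CohIII.fiberRank f F p y =
        CohIII.dRank P (-(p : ℤ)) ((V : Scheme.{u}).toSpecΓ ⟨y, hy⟩)) ∧
      (∀ (p : ℕ) (y : Y) (_ : y ∈ V), Module.Finite (Y.residueField y) (CohIII.fiberH f F y p)) ∧
      (∀ [HasInjectiveResolutions X.Modules] (p : ℕ),
        Nonempty (Γ(((Coh.Rpush f p).obj F).restrict V.ι, ⊤) ≃ₗ[Γ((V : Scheme.{u}), ⊤)]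
          P.homology (-(p : ℤ)))) := by
  haveI : IsAffine (V : Scheme.{u}) := hV
  haveI : IsNoetherianRing Γ((V : Scheme.{u}), ⊤) :=
    IsLocallyNoetherian.component_noetherian ⟨⊤, isAffineOpen_top _⟩
  letI := overV f V
  haveI : IsProper (((f ⁻¹ᵁ V : X.Opens) : Scheme.{u}) ↘
      Spec (CommRingCat.of Γ((V : Scheme.{u}), ⊤))) :=
    inferInstanceAs (IsProper ((f ∣_ V) ≫ (V : Scheme.{u}).toSpecΓ))
  haveI : F.IsQuasicoherent := hF.1
  have hG := Groth.Agent.Lib.ConsModH2.isCoh_pullback (f ⁻¹ᵁ V).ι F hF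
  haveI : ((Scheme.Modules.pullback (f ⁻¹ᵁ V).ι).obj F).IsQuasicoherent := hG.1
  have hflG := isFlatOver_V f V F hfl
  obtain ⟨L, hL, ⟨b, hb⟩, hneg, hiso, hsec, hbc⟩ := mainBC2 Γ((V : Scheme.{u}), ⊤)
    ((f ⁻¹ᵁ V : X.Opens) : Scheme.{u}) ((Scheme.Modules.pullback (f ⁻¹ᵁ V).ι).obj F) hG hflG
  refine ⟨toChain L, fun i => hL (-i), ⟨-b, fun i hi => hb (-i) (by omega)⟩,
    fun i hi M => IsZero.of_iso (hneg (-i) (by omega) M) ((TFunRestr L i).app M), ?_, ?_, ?_⟩
  · intro p y hy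
    letI := algY V y hy
    letI := overFib f y
    obtain ⟨e⟩ := hbc (Y.residueField y) (f.fiber y) (gy f V y hy) (isPullback_fib f V y hy) p
    have e3 := Groth.Agent.Lib.StalkFFH2.HHlinEquiv (Y.residueField y) (fibModIso f V y hy F) p
    have e2 := (homologyRestrIso (CohIII.bcCx (ψy V y hy) L) (-(p : ℤ)) (p : ℤ)
      (neg_neg _)).toLinearEquiv
    have h1 : CohIII.fiberRank f F p y = Module.finrank (Y.residueField y)
        ((CohIII.bcCx (ψy V y hy) (toChain L)).homology (-(p : ℤ))) :=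
      ((e2.trans e).trans e3).finrank_eq.symm
    rw [h1, toSpecΓ_apply V y hy]
    exact (dRank_ker (ψy V y hy) (toChain L) (-(p : ℤ))).symm
  · intro p y hy
    letI := algY V y hy
    letI := overFib f y
    obtain ⟨e⟩ := hbc (Y.residueField y) (f.fiber y) (gy f V y hy) (isPullback_fib f V y hy) p
    have e3 := Groth.Agent.Lib.StalkFFH2.HHlinEquiv (Y.residueField y) (fibModIso f V y hy F) p
    haveI := (hL (p : ℤ)).1
    haveI : Module.Finite (Y.residueField y)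
        ((CohIII.bcCx (algebraMap Γ((V : Scheme.{u}), ⊤) (Y.residueField y)) L).X (p : ℤ)) :=
      Module.Finite.equiv (Groth.Agent.ExtendScalarsLib.extendScalarsEquivTensor
        (S := Y.residueField y) (L.X (p : ℤ))).symm
    haveI : Module.Finite (Y.residueField y)
        ((CohIII.bcCx (algebraMap Γ((V : Scheme.{u}), ⊤) (Y.residueField y)) L).homology
          (p : ℤ)) :=
      Groth.Agent.Lib.TFunEWH7.finite_homology _ _
    exact Module.Finite.equiv (e.trans e3)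
  · intro _ p
    haveI : HasInjectiveResolutions ((f ⁻¹ᵁ V : X.Opens) : Scheme.{u}).Modules :=
      haveI := RpushQC.enoughInjectives_modules ((f ⁻¹ᵁ V : X.Opens) : Scheme.{u})
      inferInstance
    obtain ⟨e1⟩ := RpushQC.nonempty_restrict_Rpush_iso f V F p
    let e2 : F.restrict (f ⁻¹ᵁ V).ι ≅ (Scheme.Modules.pullback (f ⁻¹ᵁ V).ι).obj F :=
      (Scheme.Modules.restrictFunctorIsoPullback (f ⁻¹ᵁ V).ι).app F
    let e := e1 ≪≫ (Coh.Rpush (f ∣_ V) p).mapIso e2
    let eL : Γ(((Coh.Rpush f p).obj F).restrict V.ι, ⊤) ≃ₗ[Γ((V : Scheme.{u}), ⊤)]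
        Γ((Coh.Rpush (f ∣_ V) p).obj ((Scheme.Modules.pullback (f ⁻¹ᵁ V).ι).obj F), ⊤) :=
      { (asIso (e.hom.app ⊤)).addCommGroupIsoToAddEquiv with
        map_smul' := fun r x => Scheme.Modules.Hom.app_smul e.hom r x }
    obtain ⟨e3⟩ := sections_linearEquiv (f ∣_ V)
      ((Scheme.Modules.pullback (f ⁻¹ᵁ V).ι).obj F) p
    obtain ⟨e4⟩ := hsec p
    have e5 := (homologyRestrIso L (-(p : ℤ)) (p : ℤ) (neg_neg _)).toLinearEquiv
    exact ⟨eL.trans (e3.symm.trans (e4.symm.trans e5.symm))⟩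

end Groth.Agent.Lib.BCLocH2
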