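import Mathlib
import Groth.Prelude
import Groth.Agent.Lib.FLF3_helper8
import Groth.Agent.Lib.RpushQC3_helper9

/-!
# Local freeness of a quasi-coherent module from projectivity of its sections over an affine open,
with control of the rank (helper2)
APPEND-ONLY once landed.
-/

set_option autoImplicit false
universe u
open CategoryTheory Limits AlgebraicGeometry TopologicalSpace Opposite TensorProduct

namespace Groth.Agent.Lib.BCLocH2

open SDivGenH8 SDivFreeH8 FLFH8

section Affine

variable {S : Scheme.{u}} [IsAffine S] (N : S.Modules) [N.IsQuasicoherent]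

/-- over an affine scheme, finite projective global sections have a basis over a basic open
neighbourhood of any point, of cardinality the rank at the corresponding prime -/
theorem exists_basis_basicOpen_of_projective
    [Module.Finite Γ(S, ⊤) Γ(N, ⊤)] [Module.Projective Γ(S, ⊤) Γ(N, ⊤)] (y : S) :
    ∃ s : Γ(S, ⊤), y ∈ S.basicOpen s ∧
      ∃ g : Fin (Module.rankAtStalk (R := Γ(S, ⊤)) Γ(N, ⊤) (S.toSpecΓ y)) → Γ(N, S.basicOpen s),
        Submodule.span Γ(S, S.basicOpen s) (Set.range g) = ⊤ ∧
        LinearIndependent Γ(S, S.basicOpen s) g := by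
  classical
  haveI : Module.FinitePresentation Γ(S, ⊤) Γ(N, ⊤) :=
    Module.finitePresentation_of_projective _ _
  set q : PrimeSpectrum Γ(S, ⊤) := S.toSpecΓ y with hq
  have hfree : Module.Free (Localization.AtPrime q.asIdeal)
      (LocalizedModule q.asIdeal.primeCompl Γ(N, ⊤)) := by
    have h : q ∈ Module.freeLocus Γ(S, ⊤) Γ(N, ⊤) := by
      rw [Module.freeLocus_eq_univ]
      trivial
    exact Module.mem_freeLocus.mp h
  let b : Module.Basis (Fin (Module.rankAtStalk (R := Γ(S, ⊤)) Γ(N, ⊤) q))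
      (Localization.AtPrime q.asIdeal) (LocalizedModule q.asIdeal.primeCompl Γ(N, ⊤)) :=
    Module.finBasis _ _
  obtain ⟨s, hs, b', -⟩ := Module.FinitePresentation.exists_basis_localizedModule_powers
    q.asIdeal.primeCompl (LocalizedModule.mkLinearMap q.asIdeal.primeCompl Γ(N, ⊤))
    (Localization.AtPrime q.asIdeal) b
  have hys : y ∈ S.basicOpen s := by
    rw [← Scheme.toSpecΓ_preimage_basicOpen]
    exact hs
  have hld : RelFPKit.LocData (S.presheaf.map (homOfLE (S.basicOpen_le s)).op).hom s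
      (N.presheaf.map (homOfLE (S.basicOpen_le s)).op).hom :=
    RelFPAff.locData (F := N) (isAffineOpen_top S) s _ rfl
  obtain ⟨b2⟩ := basis_of_locData hld b'
  exact ⟨s, hys, ⇑b2, b2.span_eq, b2.linearIndependent⟩

end Affine

section Transfer

variable {Y : Scheme.{u}} (M : Y.Modules) [M.IsQuasicoherent] (V : Y.Opens)

/-- a basis of the sections of the restriction over an affine open of `V` trivializes the module
over its image in `Y` -/
theorem iso_of_basis_restrict {W : (V : Scheme.{u}).Opens} (hW : IsAffineOpen W) {r : ℕ}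
    (g : Fin r → Γ(M.restrict V.ι, W))
    (hg : Submodule.span Γ((V : Scheme.{u}), W) (Set.range g) = ⊤)
    (hli : LinearIndependent Γ((V : Scheme.{u}), W) g) :
    Nonempty (M.restrict (V.ι ''ᵁ W).ι ≅ FlatMod.freeMod (↑(V.ι ''ᵁ W)) r) := by
  have hW' : IsAffineOpen (V.ι ''ᵁ W) := hW.image_of_isOpenImmersion V.ι
  let g' : Fin r → Γ(M, V.ι ''ᵁ W) := g
  have hsm : ∀ (c : Γ(Y, V.ι ''ᵁ W)) (z : Γ(M, V.ι ''ᵁ W)),
      c • z = (show Γ(M, V.ι ''ᵁ W) from
        ((show Γ((V : Scheme.{u}), W) from c) • (show Γ(M.restrict V.ι, W) from z))) :=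
    fun c z => (RpushQC.restrict_smul_eq M V W c z).symm
  have hg' : Submodule.span Γ(Y, V.ι ''ᵁ W) (Set.range g') = ⊤ :=
    @span_top_of_smul_eq Γ((V : Scheme.{u}), W) Γ(Y, V.ι ''ᵁ W) Γ(M, V.ι ''ᵁ W) _ _ _
      (inferInstance : Module Γ((V : Scheme.{u}), W) Γ(M.restrict V.ι, W))
      inferInstance (RingHom.id _) Function.surjective_id hsm _ hg
  have hli' : LinearIndependent Γ(Y, V.ι ''ᵁ W) g' :=
    @li_of_smul_eq Γ((V : Scheme.{u}), W) Γ(Y, V.ι ''ᵁ W) Γ(M, V.ι ''ᵁ W) _ _ _
      (inferInstance : Module Γ((V : Scheme.{u}), W) Γ(M.restrict V.ι, W))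
      inferInstance (RingHom.id _) Function.injective_id hsm _ g' hli
  exact iso_of_basis M hW' g' hg' hli'

end Transfer

end Groth.Agent.Lib.BCLocH2
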