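import Mathlib
import Groth.Agent.Lib.TFunEW_helper7

set_option autoImplicit false
universe u
open CategoryTheory CategoryTheory.Limits MonoidalCategory
open scoped TensorProduct

namespace Groth.Agent.Lib.TFunEWH7

variable {A : Type u} [CommRing A]

theorem s2446 (P : ChainComplex (ModuleCat.{u} A) ℤ) (hP : ∀ i, Module.Flat A (P.X i)) (i₀ : ℤ)
    (hb : ∀ i < i₀, IsZero (P.X i)) (p : ℤ) :
    (∀ q ≤ p, (CohIII.TFun P q).PreservesMonomorphisms ∧ (CohIII.TFun P q).PreservesEpimorphisms) ↔
      ∀ q ≤ p, Module.Flat A ((CohIII.TFun P q).obj (ModuleCat.of A A)) := by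
  constructor
  · intro h q hq
    exact flat_TA_of_mono_epi P hP q (h q hq).1 (h q hq).2
  · intro h
    have base : ∀ q < i₀, (CohIII.TFun P q).PreservesMonomorphisms ∧
        (CohIII.TFun P q).PreservesEpimorphisms := by
      intro q hq
      have hz : ∀ M : ModuleCat.{u} A, IsZero ((CohIII.TFun P q).obj M) := by
        intro M
        have h1 : IsZero ((CohIII.tensorObj P M).X q) :=
          Functor.map_isZero (tensorRight M) (hb q hq)
        exact ((CohIII.tensorObj P M).sc q).isZero_homology_of_isZero_X₂ h1
      exact ⟨⟨fun g _ => (hz _).mono _⟩, ⟨fun g _ => (hz _).epi _⟩⟩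
    have key : ∀ n : ℕ, ∀ q : ℤ, q < i₀ + n → q ≤ p →
        (CohIII.TFun P q).PreservesMonomorphisms ∧ (CohIII.TFun P q).PreservesEpimorphisms := by
      intro n
      induction n with
      | zero =>
        intro q hq _
        exact base q (by simpa using hq)
      | succ n ih =>
        intro q hq hqp
        by_cases hlt : q < i₀ + n
        · exact ih q hlt hqp
        · have hprev := ih (q - 1) (by push_cast at hq; lia) (by lia)
          have he : (CohIII.TFun P q).PreservesEpimorphisms :=
            (Groth.Agent.Lib.TFunLESH7.main P hP q (q - 1)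
              (by show (q - 1) + 1 = q; ring)).mpr hprev.1
          exact ⟨mono_of_epi_of_flat_TA P hP q he (h q hqp), he⟩
    intro q hq
    exact key (q - i₀ + 1).toNat q (by lia) hq

end Groth.Agent.Lib.TFunEWH7
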