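import Mathlib
import Groth.Prelude.Def_ega3
import Groth.Agent.Lib.FlatCx_helper2
import Groth.Agent.Lib.TFunLES_helper7
import Groth.Agent.Lib.TFunEW_helper7
import Groth.Agent.Lib.HomologyColim_helper5

/-!
# The functors `T_p(M) = H_p(P ⊗ M)` over a Noetherian local ring (helper5)

Key result: for a complex `P` of finitely generated flat modules over a local ring `A` with residue
field `k`, if `T_p(A) → T_p(k)` is surjective then the cokernel of `d : P_p → P_{p'}` is free, hence
`T_{p'}` is left exact and `T_p` is right exact.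
-/

set_option autoImplicit false

open CategoryTheory CategoryTheory.Limits MonoidalCategory

universe u

namespace Groth.Agent.TFunLocal5

open Groth.Agent.HomologyColim

variable {A : Type u} [CommRing A]

section linalg

open TensorProduct

variable [IsLocalRing A] {X₁ X₂ X₃ M : Type u} [AddCommGroup X₁] [Module A X₁]
  [AddCommGroup X₂] [Module A X₂] [AddCommGroup X₃] [Module A X₃] [AddCommGroup M] [Module A M]

/-- The diagram chase. -/
theorem chase (d₁ : X₁ →ₗ[A] X₂) (D : X₂ →ₗ[A] X₃) (hD : D ∘ₗ d₁ = 0)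
    (π : M →ₗ[A] IsLocalRing.ResidueField A)
    (hyp : ∀ y : X₂, D.rTensor (IsLocalRing.ResidueField A) (y ⊗ₜ[A] 1) = 0 →
      ∃ (v : X₂ ⊗[A] M) (w : X₁ ⊗[A] IsLocalRing.ResidueField A), D.rTensor M v = 0 ∧
        d₁.rTensor (IsLocalRing.ResidueField A) w = y ⊗ₜ[A] 1 - π.lTensor X₂ v)
    (hstar : ∀ v : X₂ ⊗[A] M, D.rTensor M v = 0 →
      π.lTensor (LinearMap.range D) (D.rangeRestrict.rTensor M v) = 0) :
    Function.Injective ((LinearMap.range D).subtype.lTensor (IsLocalRing.ResidueField A)) := by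
  rw [injective_iff_map_eq_zero]
  intro t ht
  obtain ⟨s, rfl⟩ := LinearMap.lTensor_surjective (IsLocalRing.ResidueField A)
    (LinearMap.surjective_rangeRestrict D) t
  obtain ⟨y, rfl⟩ := TensorProduct.mk_surjective A X₂ (IsLocalRing.ResidueField A)
    Ideal.Quotient.mk_surjective s
  have h1 : (1 : IsLocalRing.ResidueField A) ⊗ₜ[A] D y = 0 := by
    rw [← LinearMap.comp_apply, ← LinearMap.lTensor_comp,
      LinearMap.subtype_comp_codRestrict] at ht
    exact ht
  have h2 : D.rTensor (IsLocalRing.ResidueField A) (y ⊗ₜ[A] 1) = 0 := by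
    rw [LinearMap.rTensor_tmul]
    have := congrArg (TensorProduct.comm A _ _) h1
    rwa [TensorProduct.comm_tmul, map_zero] at this
  obtain ⟨v, w, hv, hw⟩ := hyp y h2
  have h3 := hstar v hv
  have h4 : D.rangeRestrict.rTensor (IsLocalRing.ResidueField A)
      (d₁.rTensor (IsLocalRing.ResidueField A) w) = 0 := by
    rw [← LinearMap.comp_apply, ← LinearMap.rTensor_comp]
    have h0 : D.rangeRestrict ∘ₗ d₁ = 0 := by
      ext x
      exact LinearMap.congr_fun hD x
    rw [h0, LinearMap.rTensor_zero]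
    rfl
  rw [hw, map_sub, LinearMap.rTensor_tmul] at h4
  have h5 : D.rangeRestrict.rTensor (IsLocalRing.ResidueField A) (π.lTensor X₂ v) =
      π.lTensor _ (D.rangeRestrict.rTensor M v) := by
    rw [← LinearMap.comp_apply, ← LinearMap.comp_apply, LinearMap.rTensor_comp_lTensor,
      LinearMap.lTensor_comp_rTensor]
  rw [h5, h3, sub_zero] at h4
  have h6 := congrArg (TensorProduct.comm A _ _) h4
  rw [TensorProduct.comm_tmul, map_zero] at h6
  rw [TensorProduct.mk_apply, LinearMap.lTensor_tmul]
  exact h6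

omit [IsLocalRing A] in
lemma hstar_self {K' : Type u} [AddCommGroup K'] [Module A K'] (D : X₂ →ₗ[A] X₃)
    (π : A →ₗ[A] K') (v : X₂ ⊗[A] A) (hv : D.rTensor A v = 0) :
    π.lTensor (LinearMap.range D) (D.rangeRestrict.rTensor A v) = 0 := by
  have hinj : Function.Injective ((LinearMap.range D).subtype.rTensor A) :=
    Module.Flat.rTensor_preserves_injective_linearMap _ Subtype.val_injective
  have h0 : D.rangeRestrict.rTensor A v = 0 := by
    apply hinj
    rw [map_zero, ← LinearMap.comp_apply, ← LinearMap.rTensor_comp,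
      LinearMap.subtype_comp_codRestrict]
    exact hv
  rw [h0, map_zero]

lemma hstar_quot (D : X₂ →ₗ[A] X₃) (J : Ideal A)
    (hJ : J • (⊤ : Submodule A X₃) ⊓ LinearMap.range D ≤
      IsLocalRing.maximalIdeal A • LinearMap.range D)
    (π : (A ⧸ J) →ₗ[A] IsLocalRing.ResidueField A) (hπ : π 1 = 1)
    (v : X₂ ⊗[A] (A ⧸ J)) (hv : D.rTensor (A ⧸ J) v = 0) :
    π.lTensor (LinearMap.range D) (D.rangeRestrict.rTensor (A ⧸ J) v) = 0 := by
  obtain ⟨z, hz⟩ := TensorProduct.mk_surjective A X₂ (A ⧸ J) Ideal.Quotient.mk_surjective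
    (TensorProduct.comm A _ _ v)
  have hvz : v = z ⊗ₜ[A] (1 : A ⧸ J) := by
    rw [← (TensorProduct.comm A X₂ (A ⧸ J)).symm_apply_apply v, ← hz]
    rfl
  subst hvz
  rw [LinearMap.rTensor_tmul] at hv
  have h1 : (TensorProduct.mk A (A ⧸ J) X₃ 1) (D z) = 0 := by
    have := congrArg (TensorProduct.comm A X₃ (A ⧸ J)) hv
    rwa [TensorProduct.comm_tmul, map_zero] at this
  have h2 : D z ∈ J • (⊤ : Submodule A X₃) := by
    rw [← LinearMap.ker_tensorProductMk]
    exact h1
  have h3 : D z ∈ IsLocalRing.maximalIdeal A • LinearMap.range D :=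
    hJ ⟨h2, LinearMap.mem_range_self D z⟩
  have h4 : D.rangeRestrict z ∈
      IsLocalRing.maximalIdeal A • (⊤ : Submodule A (LinearMap.range D)) :=
    (Submodule.mem_smul_top_iff _ _ _).mpr h3
  have h5 : (TensorProduct.mk A (A ⧸ IsLocalRing.maximalIdeal A) (LinearMap.range D) 1)
      (D.rangeRestrict z) = 0 := by
    have : D.rangeRestrict z ∈ LinearMap.ker
        (TensorProduct.mk A (A ⧸ IsLocalRing.maximalIdeal A) (LinearMap.range D) 1) := by
      rw [LinearMap.ker_tensorProductMk]
      exact h4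
    exact this
  rw [LinearMap.rTensor_tmul, LinearMap.lTensor_tmul, hπ]
  have h6 := congrArg (TensorProduct.comm A (A ⧸ IsLocalRing.maximalIdeal A)
    (LinearMap.range D)) h5
  rw [map_zero] at h6
  exact h6

end linalg

variable {ι : Type} {c : ComplexShape ι}

section general

lemma exists_of_homologyMap_surjective {L L' : HomologicalComplex (ModuleCat.{u} A) c}
    (φ : L ⟶ L') (p : ι)
    (hsurj : Function.Surjective (HomologicalComplex.homologyMap φ p))
    (y : L'.X p) (hy : L'.d p (c.next p) y = 0) :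
    ∃ (v : L.X p) (w : L'.X (c.prev p)), L.d p (c.next p) v = 0 ∧
      L'.d (c.prev p) p w = y - φ.f p v := by
  obtain ⟨zk, hzk⟩ := exists_iCycles_eq L' p y hy
  obtain ⟨ξ, hξ⟩ := hsurj (L'.homologyπ p zk)
  obtain ⟨ζ, rfl⟩ := exists_homologyπ_eq L p ξ
  rw [homologyMap_homologyπ] at hξ
  have h1 : L'.homologyπ p (zk - HomologicalComplex.cyclesMap φ p ζ) = 0 := by
    rw [map_sub, hξ, sub_self]
  obtain ⟨w, hw⟩ := (homologyπ_eq_zero_iff L' p _).mp h1
  refine ⟨L.iCycles p ζ, w, ?_, ?_⟩
  · exact congrArg (fun f => f.hom ζ) (L.iCycles_d p (c.next p))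
  · rw [← iCycles_toCycles, hw, map_sub, hzk, iCycles_cyclesMap]

variable (P : HomologicalComplex (ModuleCat.{u} A) c)

lemma ker_pOpcycles (p p' : ι) (hrel : c.Rel p p') :
    LinearMap.ker (P.pOpcycles p').hom = LinearMap.range (P.d p p').hom := by
  have hS : (ShortComplex.mk (P.d p p') (P.pOpcycles p') (P.d_pOpcycles p p')).Exact :=
    ShortComplex.exact_of_g_is_cokernel _ (P.opcyclesIsCokernel p p' (c.prev_eq' hrel))
  exact hS.moduleCat_range_eq_ker.symm

variable [IsLocalRing A]

theorem lTensor_subtype_injective (p p' : ι) (hrel : c.Rel p p')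
    (M : ModuleCat.{u} A) (π : M ⟶ ModuleCat.of A (IsLocalRing.ResidueField A))
    (hsurj : Function.Surjective ((CohIII.TFun P p).map π).hom)
    (hstar : ∀ v : TensorProduct A (P.X p) M,
      (LinearMap.rTensor M (P.d p p').hom) v = 0 →
      (LinearMap.lTensor (LinearMap.range (P.d p p').hom) π.hom)
        ((LinearMap.rTensor M (P.d p p').hom.rangeRestrict) v) = 0) :
    Function.Injective (LinearMap.lTensor (IsLocalRing.ResidueField A)
      (LinearMap.range (P.d p p').hom).subtype) := by
  obtain rfl : c.next p = p' := c.next_eq' hrel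
  refine chase (P.d (c.prev p) p).hom (P.d p (c.next p)).hom ?_ π.hom ?_ hstar
  · rw [← ModuleCat.hom_comp, P.d_comp_d]
    rfl
  · intro y hy
    obtain ⟨v, w, hv, hw⟩ := exists_of_homologyMap_surjective (CohIII.tensorMap P π) p hsurj
      (TensorProduct.tmul A y (1 : IsLocalRing.ResidueField A)) hy
    exact ⟨v, w, hv, hw⟩

theorem epi_of_injective (hP : ∀ i, Module.Finite A (P.X i) ∧ Module.Flat A (P.X i))
    (p p' : ι) (hrel : c.Rel p p')
    (h : Function.Injective (LinearMap.lTensor (IsLocalRing.ResidueField A)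
      (LinearMap.range (P.d p p').hom).subtype)) :
    (CohIII.TFun P p).PreservesEpimorphisms := by
  haveI := (hP p).1
  haveI := (hP p').1
  haveI := (hP p').2
  haveI : Module.Free A (P.X p') := Module.free_of_flat_of_isLocalRing
  have hfree : Module.Free A (P.opcycles p') :=
    Module.free_of_lTensor_residueField_injective (LinearMap.range (P.d p p').hom).subtype
      (P.pOpcycles p').hom
      ((ModuleCat.epi_iff_surjective _).mp inferInstance)
      (LinearMap.exact_iff.mpr (by rw [Submodule.range_subtype]; exact ker_pOpcycles P p p' hrel))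
      h
  have hflat : Module.Flat A (P.opcycles p') := inferInstance
  have hmono := (Groth.Agent.FlatCxLib.TFun_preservesMono_iff_flat_opcycles P p'
    (hP _).2).mpr hflat
  exact (Groth.Agent.Lib.TFunLESH7.main P (fun i => (hP i).2) p p' hrel).mpr hmono

end general

section chain

variable [IsLocalRing A] (P : ChainComplex (ModuleCat.{u} A) ℤ)
  (hP : ∀ i, Module.Finite A (P.X i) ∧ Module.Flat A (P.X i))

include hP

theorem epi_iff_surjective (p : ℤ) :
    (CohIII.TFun P p).PreservesEpimorphisms ↔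
      Function.Surjective ((CohIII.TFun P p).map
        (ModuleCat.ofHom (Algebra.linearMap A (IsLocalRing.ResidueField A)))).hom := by
  constructor
  · intro h
    haveI hepi : Epi (ModuleCat.ofHom (Algebra.linearMap A (IsLocalRing.ResidueField A))) := by
      rw [ModuleCat.epi_iff_surjective]
      intro x
      obtain ⟨a, rfl⟩ := Ideal.Quotient.mk_surjective x
      exact ⟨a, rfl⟩
    exact (ModuleCat.epi_iff_surjective _).mp (h.preserves _)
  · intro h
    have hrel : (ComplexShape.down ℤ).Rel p (p - 1) := by simp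
    apply epi_of_injective P hP p (p - 1) hrel
    apply lTensor_subtype_injective P p (p - 1) hrel _ _ h
    intro v hv
    exact hstar_self _ _ v hv

theorem isZero_of_isZero_residue [IsNoetherianRing A] (p : ℤ)
    (hk : IsZero ((CohIII.TFun P p).obj (ModuleCat.of A (IsLocalRing.ResidueField A))))
    (M : ModuleCat.{u} A) : IsZero ((CohIII.TFun P p).obj M) := by
  have hPf : ∀ i, Module.Flat A (P.X i) := fun i => (hP i).2
  haveI : Subsingleton ((CohIII.TFun P p).obj (ModuleCat.of A (IsLocalRing.ResidueField A))) :=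
    ModuleCat.subsingleton_of_isZero hk
  have hsurj : Function.Surjective ((CohIII.TFun P p).map
      (ModuleCat.ofHom (Algebra.linearMap A (IsLocalRing.ResidueField A)))).hom :=
    fun b => ⟨0, Subsingleton.elim _ _⟩
  have hepi := (epi_iff_surjective P hP p).mpr hsurj
  obtain ⟨e⟩ := Groth.Agent.Lib.TFunEWH7.iso_of_epi P hPf p hepi
  haveI : Module.Finite A ((CohIII.tensorObj P (ModuleCat.of A A)).X p) := by
    haveI := (hP p).1
    show Module.Finite A (TensorProduct A (P.X p) A)
    infer_instance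
  haveI hfin : Module.Finite A ((CohIII.TFun P p).obj (ModuleCat.of A A)) :=
    Groth.Agent.Lib.TFunEWH7.finite_homology _ p
  have h1 : Subsingleton (TensorProduct A ((CohIII.TFun P p).obj (ModuleCat.of A A))
      (IsLocalRing.ResidueField A)) := by
    have : IsZero ((tensorLeft ((CohIII.TFun P p).obj (ModuleCat.of A A))).obj
        (ModuleCat.of A (IsLocalRing.ResidueField A))) :=
      IsZero.of_iso hk (e.app _)
    exact ModuleCat.subsingleton_of_isZero this
  have h2 : Subsingleton (TensorProduct A (IsLocalRing.ResidueField A)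
      ((CohIII.TFun P p).obj (ModuleCat.of A A))) :=
    (TensorProduct.comm A _ _).toEquiv.subsingleton
  have h3 : Subsingleton ((CohIII.TFun P p).obj (ModuleCat.of A A)) :=
    IsLocalRing.subsingleton_tensorProduct.mp h2
  have h4 : Subsingleton (TensorProduct A ((CohIII.TFun P p).obj (ModuleCat.of A A)) M) :=
    inferInstance
  have h5 : IsZero ((tensorLeft ((CohIII.TFun P p).obj (ModuleCat.of A A))).obj M) := by
    haveI : Subsingleton ((tensorLeft ((CohIII.TFun P p).obj (ModuleCat.of A A))).obj M) := h4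
    exact ModuleCat.isZero_of_subsingleton _
  exact IsZero.of_iso h5 (e.app M).symm

theorem s2411 [IsNoetherianRing A] (p q r : ℤ) (hqp : q + 1 = p) (hpr : p + 1 = r)
    (hq : IsZero ((CohIII.TFun P q).obj (ModuleCat.of A (IsLocalRing.ResidueField A))))
    (hr : IsZero ((CohIII.TFun P r).obj (ModuleCat.of A (IsLocalRing.ResidueField A)))) :
    ((CohIII.TFun P p).PreservesMonomorphisms ∧ (CohIII.TFun P p).PreservesEpimorphisms) ∧
      Module.Free A ((CohIII.TFun P p).obj (ModuleCat.of A A)) := by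
  have hPf : ∀ i, Module.Flat A (P.X i) := fun i => (hP i).2
  have hq0 := isZero_of_isZero_residue P hP q hq
  have hr0 := isZero_of_isZero_residue P hP r hr
  have hmq : (CohIII.TFun P q).PreservesMonomorphisms :=
    ⟨fun {X Y} f _ => ⟨fun a b _ => (hq0 X).eq_of_tgt a b⟩⟩
  have her : (CohIII.TFun P r).PreservesEpimorphisms :=
    ⟨fun {X Y} f _ => ⟨fun a b _ => (hr0 Y).eq_of_src a b⟩⟩
  have hep : (CohIII.TFun P p).PreservesEpimorphisms :=
    (Groth.Agent.Lib.TFunLESH7.main P hPf p q hqp).mpr hmq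
  have hmp : (CohIII.TFun P p).PreservesMonomorphisms :=
    (Groth.Agent.Lib.TFunLESH7.main P hPf r p hpr).mp her
  exact ⟨⟨hmp, hep⟩, ((Groth.Agent.Lib.TFunEWH7.s2410 P p hP).mp ⟨hmp, hep⟩).2⟩

theorem s2409 (p q : ℤ) (hpq : p + 1 = q) :
    ((CohIII.TFun P p).PreservesMonomorphisms ∧ (CohIII.TFun P p).PreservesEpimorphisms) ↔
      Function.Surjective ((CohIII.TFun P q).map
        (ModuleCat.ofHom (Algebra.linearMap A (IsLocalRing.ResidueField A)))).hom ∧
      Function.Surjective ((CohIII.TFun P p).map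
        (ModuleCat.ofHom (Algebra.linearMap A (IsLocalRing.ResidueField A)))).hom := by
  have hPf : ∀ i, Module.Flat A (P.X i) := fun i => (hP i).2
  rw [← epi_iff_surjective P hP q, ← epi_iff_surjective P hP p,
    Groth.Agent.Lib.TFunLESH7.main P hPf q p hpq]

theorem s4490_part2 [IsNoetherianRing A] (p : ℤ) :
    (CohIII.TFun P p).PreservesEpimorphisms ↔
      ∃ n₀ : ℕ, ∀ n : ℕ, n₀ ≤ n → Function.Surjective ((CohIII.TFun P p).map (ModuleCat.ofHom
        (Ideal.Quotient.factorₐ A (Ideal.pow_le_self (I := IsLocalRing.maximalIdeal A)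
          (Nat.succ_ne_zero n))).toLinearMap :
        ModuleCat.of A (A ⧸ IsLocalRing.maximalIdeal A ^ (n + 1)) ⟶
          ModuleCat.of A (A ⧸ IsLocalRing.maximalIdeal A))).hom := by
  constructor
  · intro h
    refine ⟨0, fun n _ => ?_⟩
    haveI : Epi (ModuleCat.ofHom
        (Ideal.Quotient.factorₐ A (Ideal.pow_le_self (I := IsLocalRing.maximalIdeal A)
          (Nat.succ_ne_zero n))).toLinearMap :
        ModuleCat.of A (A ⧸ IsLocalRing.maximalIdeal A ^ (n + 1)) ⟶
          ModuleCat.of A (A ⧸ IsLocalRing.maximalIdeal A)) := by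
      rw [ModuleCat.epi_iff_surjective]
      intro x
      obtain ⟨a, rfl⟩ := Ideal.Quotient.mk_surjective x
      exact ⟨Ideal.Quotient.mk _ a, rfl⟩
    exact (ModuleCat.epi_iff_surjective _).mp (h.preserves _)
  · rintro ⟨n₀, hn₀⟩
    have hrel : (ComplexShape.down ℤ).Rel p (p - 1) := by simp
    haveI := (hP (p - 1)).1
    obtain ⟨k, hk⟩ := Ideal.exists_pow_inf_eq_pow_smul (IsLocalRing.maximalIdeal A)
      (LinearMap.range (P.d p (p - 1)).hom)
    have hJ : (IsLocalRing.maximalIdeal A ^ (max n₀ k + 1)) • (⊤ : Submodule A (P.X (p - 1))) ⊓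
        LinearMap.range (P.d p (p - 1)).hom ≤
        IsLocalRing.maximalIdeal A • LinearMap.range (P.d p (p - 1)).hom := by
      rw [hk (max n₀ k + 1) (by omega)]
      have h1 : max n₀ k + 1 - k = (max n₀ k - k) + 1 := by omega
      rw [h1, pow_succ', Submodule.mul_smul]
      exact Submodule.smul_mono le_rfl (Submodule.smul_le_right.trans inf_le_right)
    apply epi_of_injective P hP p (p - 1) hrel
    apply lTensor_subtype_injective P p (p - 1) hrel _ _ (hn₀ (max n₀ k) (le_max_left _ _))
    intro v hv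
    exact hstar_quot _ _ hJ _ (map_one (Ideal.Quotient.factorₐ A
      (Ideal.pow_le_self (I := IsLocalRing.maximalIdeal A) (Nat.succ_ne_zero (max n₀ k))))) v hv

end chain

end Groth.Agent.TFunLocal5
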