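import Mathlib
import Groth.Prelude.Def_ega3
import Groth.Agent.Lib.FiberRank_helper9
import Groth.Agent.Lib.TFunBC_helper5
import Groth.Agent.Lib.TFunLocal_helper5

/-!
# Rank criteria for exactness of `T_p(M) = H_p(P ⊗ M)` over reduced rings (helper5)
-/

set_option autoImplicit false

open CategoryTheory CategoryTheory.Limits MonoidalCategory TensorProduct

universe u

namespace Groth.Agent.TFunRank5

section Alg

variable {A : Type u} [CommRing A]

/-- In a local ring, a property holding near the closed point holds everywhere. -/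
lemma forall_of_eventually_closedPoint [IsLocalRing A] {p : PrimeSpectrum A → Prop}
    (h : ∀ᶠ y in nhds (IsLocalRing.closedPoint A), p y) : ∀ y, p y := by
  obtain ⟨U, hU, hopen, hx⟩ := eventually_nhds_iff.mp h
  intro y
  apply hU
  have hle : y ≤ IsLocalRing.closedPoint A := IsLocalRing.le_maximalIdeal y.2.ne_top
  exact ((PrimeSpectrum.le_iff_specializes y _).mp hle).mem_open hopen hx

/-- Fibre ranks of a finite module over a local ring are bounded by the rank at the closed point. -/
lemma fiber_le_closedPoint [IsLocalRing A] (M : Type u) [AddCommGroup M] [Module A M]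
    [Module.Finite A M] (y : PrimeSpectrum A) :
    Module.finrank y.asIdeal.ResidueField (y.asIdeal.ResidueField ⊗[A] M) ≤
      Module.finrank (IsLocalRing.closedPoint A).asIdeal.ResidueField
        ((IsLocalRing.closedPoint A).asIdeal.ResidueField ⊗[A] M) :=
  forall_of_eventually_closedPoint (FiberRank9.eventually_fiber_le M _) y

/-- A finite module over a reduced local ring whose fibre rank at every minimal prime equals the
fibre rank at the closed point is free. -/
theorem free_of_rank_eq [IsLocalRing A] [IsReduced A] (M : Type u) [AddCommGroup M] [Module A M]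
    [Module.Finite A M]
    (h : ∀ q : PrimeSpectrum A, q.asIdeal ∈ minimalPrimes A →
      Module.finrank q.asIdeal.ResidueField (q.asIdeal.ResidueField ⊗[A] M) =
        Module.finrank (IsLocalRing.closedPoint A).asIdeal.ResidueField
          ((IsLocalRing.closedPoint A).asIdeal.ResidueField ⊗[A] M)) :
    Module.Free A M := by
  classical
  obtain ⟨n, m, hn, hm⟩ := FiberRank9.exists_fin_span (A := A)
    (IsLocalRing.closedPoint A).asIdeal.ResidueField M
  let g : (Fin n → A) →ₗ[A] M := Fintype.linearCombination A m
  have hg : ∀ i, g (Pi.single i 1) = m i := fun i => by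
    simp [g, Fintype.linearCombination_apply_single]
  -- surjectivity
  have hx_top : LinearMap.range
      (g.baseChange (IsLocalRing.closedPoint A).asIdeal.ResidueField) = ⊤ := by
    rw [eq_top_iff, ← hm, Submodule.span_le]
    rintro _ ⟨i, rfl⟩
    exact ⟨(1 : (IsLocalRing.closedPoint A).asIdeal.ResidueField) ⊗ₜ[A] Pi.single i 1,
      by rw [LinearMap.baseChange_tmul, hg]⟩
  have hA := FiberRank9.finrank_range_baseChange_add
    (IsLocalRing.closedPoint A).asIdeal.ResidueField g
  rw [hx_top, finrank_top] at hA
  have hQ0 : Module.finrank (IsLocalRing.closedPoint A).asIdeal.ResidueField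
      ((IsLocalRing.closedPoint A).asIdeal.ResidueField ⊗[A] (M ⧸ LinearMap.range g)) = 0 := by
    omega
  have hsub : Subsingleton ((IsLocalRing.closedPoint A).asIdeal.ResidueField ⊗[A]
      (M ⧸ LinearMap.range g)) := Module.finrank_zero_iff.mp hQ0
  have hxs : IsLocalRing.closedPoint A ∉ Module.support A (M ⧸ LinearMap.range g) := by
    rw [Module.mem_support_iff_nontrivial_residueField_tensorProduct]
    exact not_nontrivial_iff_subsingleton.mpr hsub
  have hsubQ : Subsingleton (M ⧸ LinearMap.range g) := by
    by_contra hne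
    rw [not_subsingleton_iff_nontrivial] at hne
    obtain ⟨y, hy⟩ := Module.nonempty_support_of_nontrivial (R := A) (M := M ⧸ LinearMap.range g)
    have hle : y ≤ IsLocalRing.closedPoint A := IsLocalRing.le_maximalIdeal y.2.ne_top
    exact hxs (Module.mem_support_mono hle hy)
  have hgsurj : Function.Surjective g :=
    LinearMap.range_eq_top.mp (Submodule.Quotient.subsingleton_iff.mp hsubQ)
  -- injectivity
  have hginj : Function.Injective g := by
    rw [injective_iff_map_eq_zero]
    intro a ha
    have hmem : ∀ i, a i ∈ sInf (minimalPrimes A) := by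
      intro i
      rw [Ideal.mem_sInf]
      intro q hq
      haveI hqp : q.IsPrime := Ideal.IsMinimalPrime.isPrime hq
      let Q : PrimeSpectrum A := ⟨q, hqp⟩
      have hrank := h Q hq
      -- the images of the `m i` span `κ(q) ⊗ M`
      have hspan : ⊤ ≤ Submodule.span q.ResidueField
          (Set.range fun i => (1 : q.ResidueField) ⊗ₜ[A] m i) := by
        intro z hz
        clear hz
        have hbs : Function.Surjective (g.baseChange q.ResidueField) := by
          rw [LinearMap.baseChange_eq_ltensor]
          exact LinearMap.lTensor_surjective _ hgsurj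
        obtain ⟨w, rfl⟩ := hbs z
        induction w using TensorProduct.induction_on with
        | zero => simp
        | tmul c b =>
          have hb : b = ∑ i, b i • Pi.single i (1 : A) := by
            ext j
            simp [Finset.sum_apply, Pi.single_apply]
          rw [LinearMap.baseChange_tmul, hb, map_sum, TensorProduct.tmul_sum]
          refine Submodule.sum_mem _ fun i _ => ?_
          rw [map_smul, hg, TensorProduct.tmul_smul]
          have : b i • c ⊗ₜ[A] m i = (algebraMap A q.ResidueField (b i) * c) •
              ((1 : q.ResidueField) ⊗ₜ[A] m i) := by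
            rw [TensorProduct.smul_tmul', TensorProduct.smul_tmul', smul_eq_mul, mul_one,
              Algebra.smul_def]
          rw [this]
          exact Submodule.smul_mem _ _ (Submodule.subset_span ⟨i, rfl⟩)
        | add w₁ w₂ h₁ h₂ =>
          rw [map_add]
          exact Submodule.add_mem _ h₁ h₂
      have hli : LinearIndependent q.ResidueField
          (fun i => (1 : q.ResidueField) ⊗ₜ[A] m i) :=
        linearIndependent_of_top_le_span_of_card_eq_finrank hspan (by
          rw [Fintype.card_fin, hn]
          exact hrank.symm)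
      have hsum : ∑ i, algebraMap A q.ResidueField (a i) •
          ((1 : q.ResidueField) ⊗ₜ[A] m i) = 0 := by
        have h0 : (1 : q.ResidueField) ⊗ₜ[A] g a = 0 := by rw [ha, TensorProduct.tmul_zero]
        rw [← h0]
        show _ = (1 : q.ResidueField) ⊗ₜ[A] (Fintype.linearCombination A m a)
        rw [Fintype.linearCombination_apply, TensorProduct.tmul_sum]
        refine Finset.sum_congr rfl fun i _ => ?_
        rw [TensorProduct.tmul_smul, TensorProduct.smul_tmul', TensorProduct.smul_tmul',
          smul_eq_mul, mul_one, Algebra.smul_def, mul_one]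
      have := Fintype.linearIndependent_iff.mp hli _ hsum i
      exact Ideal.algebraMap_residueField_eq_zero.mp this
    have hbot : sInf (minimalPrimes A) = ⊥ := by
      show sInf (⊥ : Ideal A).minimalPrimes = ⊥
      rw [Ideal.sInf_minimalPrimes]
      exact nilradical_eq_zero A
    ext i
    have := hmem i
    rw [hbot] at this
    exact this
  exact Module.Free.of_equiv (LinearEquiv.ofBijective g ⟨hginj, hgsurj⟩)

end Alg

section Cx

variable {A : Type u} [CommRing A] (P : ChainComplex (ModuleCat.{u} A) ℤ)

/-- `opcycles j` as the quotient of `P.X j` by the image of `d`. -/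
noncomputable def opcyclesEquivQuot (i j : ℤ) (hij : (ComplexShape.down ℤ).Rel i j) :
    (P.X j ⧸ LinearMap.range (P.d i j).hom) ≃ₗ[A] P.opcycles j :=
  (Submodule.quotEquivOfEq _ _ (Groth.Agent.TFunLocal5.ker_pOpcycles P i j hij).symm).trans
    ((P.pOpcycles j).hom.quotKerEquivOfSurjective
      ((ModuleCat.epi_iff_surjective _).mp inferInstance))

lemma flat_quot_iff (i j : ℤ) (hij : (ComplexShape.down ℤ).Rel i j) :
    Module.Flat A (P.X j ⧸ LinearMap.range (P.d i j).hom) ↔ Module.Flat A (P.opcycles j) :=
  Module.Flat.equiv_iff (opcyclesEquivQuot P i j hij)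

lemma mono_iff_flat_quot (hP : ∀ i, Module.Flat A (P.X i)) (i j : ℤ)
    (hij : (ComplexShape.down ℤ).Rel i j) :
    (CohIII.TFun P j).PreservesMonomorphisms ↔
      Module.Flat A (P.X j ⧸ LinearMap.range (P.d i j).hom) := by
  rw [flat_quot_iff P i j hij,
    Groth.Agent.FlatCxLib.TFun_preservesMono_iff_flat_opcycles P j (hP _)]

lemma exact_iff_flat_quot (hP : ∀ i, Module.Flat A (P.X i)) (p : ℤ) :
    ((CohIII.TFun P p).PreservesMonomorphisms ∧ (CohIII.TFun P p).PreservesEpimorphisms) ↔
      (Module.Flat A (P.X p ⧸ LinearMap.range (P.d (p + 1) p).hom) ∧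
        Module.Flat A (P.X (p - 1) ⧸ LinearMap.range (P.d p (p - 1)).hom)) := by
  have h1 : (ComplexShape.down ℤ).Rel (p + 1) p := by simp
  have h2 : (ComplexShape.down ℤ).Rel p (p - 1) := by simp
  rw [Groth.Agent.Lib.TFunLESH7.main P hP p (p - 1) h2, mono_iff_flat_quot P hP (p + 1) p h1,
    mono_iff_flat_quot P hP p (p - 1) h2]

lemma cR_eq_of_free [IsLocalRing A] (i j : ℤ) [Module.Finite A (P.X j)]
    [Module.Free A (P.X j ⧸ LinearMap.range (P.d i j).hom)] (y z : PrimeSpectrum A) :
    FiberRank9.cR P i j y = FiberRank9.cR P i j z := by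
  unfold FiberRank9.cR
  rw [Module.finrank_baseChange, Module.finrank_baseChange]

lemma tR_eq_of_free [IsLocalRing A] (j : ℤ) [Module.Finite A (P.X j)] [Module.Free A (P.X j)]
    (y z : PrimeSpectrum A) : FiberRank9.tR P j y = FiberRank9.tR P j z := by
  unfold FiberRank9.tR
  rw [Module.finrank_baseChange, Module.finrank_baseChange]

theorem s2382 [IsNoetherianRing A] [IsLocalRing A] [IsReduced A]
    (hP : ∀ i, Module.Finite A (P.X i) ∧ Module.Flat A (P.X i)) (p : ℤ) :
    ((CohIII.TFun P p).PreservesMonomorphisms ∧ (CohIII.TFun P p).PreservesEpimorphisms) ↔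
      ∀ q : PrimeSpectrum A, q.asIdeal ∈ minimalPrimes A →
        CohIII.dRank P p q = CohIII.dRank P p (IsLocalRing.closedPoint A) := by
  have hPf : ∀ i, Module.Flat A (P.X i) := fun i => (hP i).2
  have hPfin : ∀ i, Module.Finite A (P.X i) := fun i => (hP i).1
  haveI := hPfin p
  haveI := hPfin (p - 1)
  haveI := hPf (p - 1)
  haveI : Module.Free A (P.X (p - 1)) := Module.free_of_flat_of_isLocalRing
  rw [exact_iff_flat_quot P hPf p]
  have hform := fun y => FiberRank9.dRank_add_tR P hPfin p (p + 1) (p - 1) rfl rfl y
  constructor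
  · rintro ⟨h1, h2⟩ q _
    haveI := h1
    haveI := h2
    haveI : Module.Free A (P.X p ⧸ LinearMap.range (P.d (p + 1) p).hom) :=
      Module.free_of_flat_of_isLocalRing
    haveI : Module.Free A (P.X (p - 1) ⧸ LinearMap.range (P.d p (p - 1)).hom) :=
      Module.free_of_flat_of_isLocalRing
    have e1 := cR_eq_of_free P (p + 1) p q (IsLocalRing.closedPoint A)
    have e2 := cR_eq_of_free P p (p - 1) q (IsLocalRing.closedPoint A)
    have e3 := tR_eq_of_free P (p - 1) q (IsLocalRing.closedPoint A)
    have f1 := hform q
    have f2 := hform (IsLocalRing.closedPoint A)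
    omega
  · intro h
    have key : ∀ q : PrimeSpectrum A, q.asIdeal ∈ minimalPrimes A →
        FiberRank9.cR P (p + 1) p q = FiberRank9.cR P (p + 1) p (IsLocalRing.closedPoint A) ∧
        FiberRank9.cR P p (p - 1) q = FiberRank9.cR P p (p - 1) (IsLocalRing.closedPoint A) := by
      intro q hq
      have e3 := tR_eq_of_free P (p - 1) q (IsLocalRing.closedPoint A)
      have f1 := hform q
      have f2 := hform (IsLocalRing.closedPoint A)
      have l1 : FiberRank9.cR P (p + 1) p q ≤
          FiberRank9.cR P (p + 1) p (IsLocalRing.closedPoint A) :=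
        fiber_le_closedPoint (P.X p ⧸ LinearMap.range (P.d (p + 1) p).hom) q
      have l2 : FiberRank9.cR P p (p - 1) q ≤
          FiberRank9.cR P p (p - 1) (IsLocalRing.closedPoint A) :=
        fiber_le_closedPoint (P.X (p - 1) ⧸ LinearMap.range (P.d p (p - 1)).hom) q
      have := h q hq
      omega
    haveI : Module.Free A (P.X p ⧸ LinearMap.range (P.d (p + 1) p).hom) :=
      free_of_rank_eq _ (fun q hq => (key q hq).1)
    haveI : Module.Free A (P.X (p - 1) ⧸ LinearMap.range (P.d p (p - 1)).hom) :=
      free_of_rank_eq _ (fun q hq => (key q hq).2)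
    exact ⟨inferInstance, inferInstance⟩

end Cx

section S2381

variable {A : Type u} [CommRing A] [IsNoetherianRing A] (P : ChainComplex (ModuleCat.{u} A) ℤ)
  (hP : ∀ i, Module.Finite A (P.X i) ∧ Module.Flat A (P.X i))

include hP in
lemma cR_eventually_eq (i j : ℤ)
    (hfl : Module.Flat A (P.X j ⧸ LinearMap.range (P.d i j).hom)) (x : PrimeSpectrum A) :
    ∀ᶠ y in nhds x, FiberRank9.cR P i j y = FiberRank9.cR P i j x := by
  haveI := (hP j).1
  haveI := hfl
  haveI : Module.FinitePresentation A (P.X j ⧸ LinearMap.range (P.d i j).hom) :=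
    Module.finitePresentation_of_finite A _
  have hlc : IsLocallyConstant
      (Module.rankAtStalk (R := A) (P.X j ⧸ LinearMap.range (P.d i j).hom)) :=
    Module.isLocallyConstant_rankAtStalk
  filter_upwards [hlc.eventually_eq x] with y hy
  rw [Module.rankAtStalk_eq, Module.rankAtStalk_eq] at hy
  exact hy

include hP in
theorem s2381_1 (p : ℤ)
    (h : (CohIII.TFun P p).PreservesMonomorphisms ∧ (CohIII.TFun P p).PreservesEpimorphisms) :
    IsLocallyConstant (CohIII.dRank P p) := by
  have hPf : ∀ i, Module.Flat A (P.X i) := fun i => (hP i).2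
  have hPfin : ∀ i, Module.Finite A (P.X i) := fun i => (hP i).1
  rw [IsLocallyConstant.iff_eventually_eq]
  intro x
  obtain ⟨h1, h2⟩ := (exact_iff_flat_quot P hPf p).mp h
  filter_upwards [cR_eventually_eq P hP (p + 1) p h1 x, cR_eventually_eq P hP p (p - 1) h2 x,
    FiberRank9.tR_eventually_eq P hP (p - 1) x] with y e1 e2 e3
  have f1 := FiberRank9.dRank_add_tR P hPfin p (p + 1) (p - 1) rfl rfl y
  have f2 := FiberRank9.dRank_add_tR P hPfin p (p + 1) (p - 1) rfl rfl x
  omega

include hP in
theorem s2381_2 [IsReduced A] (p : ℤ) (hlc : IsLocallyConstant (CohIII.dRank P p)) :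
    (CohIII.TFun P p).PreservesMonomorphisms ∧ (CohIII.TFun P p).PreservesEpimorphisms := by
  have hPf : ∀ i, Module.Flat A (P.X i) := fun i => (hP i).2
  have hloc : ∀ x : PrimeSpectrum A,
      (CohIII.TFun (CohIII.bcCx (algebraMap A (Localization.AtPrime x.asIdeal)) P)
        p).PreservesMonomorphisms ∧
      (CohIII.TFun (CohIII.bcCx (algebraMap A (Localization.AtPrime x.asIdeal)) P)
        p).PreservesEpimorphisms := by
    intro x
    have hPx : ∀ i, Module.Finite (Localization.AtPrime x.asIdeal)
        ((CohIII.bcCx (algebraMap A (Localization.AtPrime x.asIdeal)) P).X i) ∧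
        Module.Flat (Localization.AtPrime x.asIdeal)
        ((CohIII.bcCx (algebraMap A (Localization.AtPrime x.asIdeal)) P).X i) := fun i => by
      haveI := (hP i).1
      exact ⟨Module.Finite.equiv (Groth.Agent.ExtendScalarsLib.extendScalarsEquivTensor
        (S := Localization.AtPrime x.asIdeal) (P.X i)).symm,
        Groth.Agent.TFunBC5.flat_bc_X P hPf i⟩
    rw [s2382 (CohIII.bcCx (algebraMap A (Localization.AtPrime x.asIdeal)) P) hPx p]
    intro q' _
    rw [FiberRank9.dRank_baseChange, FiberRank9.dRank_baseChange]
    have hopen : IsOpen {z | CohIII.dRank P p z = CohIII.dRank P p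
        (PrimeSpectrum.comap (algebraMap A (Localization.AtPrime x.asIdeal))
          (IsLocalRing.closedPoint (Localization.AtPrime x.asIdeal)))} := hlc.isOpen_fiber _
    have hq'le : q'.asIdeal ≤ (IsLocalRing.closedPoint (Localization.AtPrime x.asIdeal)).asIdeal :=
      IsLocalRing.le_maximalIdeal q'.2.ne_top
    have hle : PrimeSpectrum.comap (algebraMap A (Localization.AtPrime x.asIdeal)) q' ≤
        PrimeSpectrum.comap (algebraMap A (Localization.AtPrime x.asIdeal))
          (IsLocalRing.closedPoint (Localization.AtPrime x.asIdeal)) :=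
      Ideal.comap_mono hq'le
    exact ((PrimeSpectrum.le_iff_specializes _ _).mp hle).mem_open hopen rfl
  have hfree1 : Module.freeLocus A (P.opcycles p) = Set.univ :=
    Set.eq_univ_of_forall fun x => (Groth.Agent.TFunBC5.mono_loc_iff P hP p x).mp (hloc x).1
  have hfree2 : Module.freeLocus A (P.opcycles (p - 1)) = Set.univ :=
    Set.eq_univ_of_forall fun x => (Groth.Agent.TFunBC5.epi_loc_iff P hP p x).mp (hloc x).2
  haveI := Groth.Agent.TFunBC5.finitePresentation_opcycles P hP p
  haveI := Groth.Agent.TFunBC5.finitePresentation_opcycles P hP (p - 1)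
  haveI hproj1 : Module.Projective A (P.opcycles p) := Module.freeLocus_eq_univ_iff.mp hfree1
  haveI hproj2 : Module.Projective A (P.opcycles (p - 1)) :=
    Module.freeLocus_eq_univ_iff.mp hfree2
  have hrel : (ComplexShape.down ℤ).Rel p (p - 1) := by simp
  refine ⟨(Groth.Agent.FlatCxLib.TFun_preservesMono_iff_flat_opcycles P p (hPf _)).mpr
    inferInstance, ?_⟩
  rw [Groth.Agent.Lib.TFunLESH7.main P hPf p (p - 1) hrel]
  exact (Groth.Agent.FlatCxLib.TFun_preservesMono_iff_flat_opcycles P (p - 1) (hPf _)).mpr
    inferInstance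

end S2381

end Groth.Agent.TFunRank5
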