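import Mathlib
import Groth.Prelude.Def_ega3
import Groth.Agent.Lib.ExtendScalars_helper2
import Groth.Agent.Lib.FiberRank_helper9
import Groth.Agent.Lib.TFunRank_helper5
import Groth.Agent.Lib.TFunEW2_helper7

/-!
# Base change of the homology of a flat complex when the next cokernel is flat (helper5)

If `P` is a complex of flat `A`-modules and `coker (d : P_p → P_{p-1})` is flat (equivalently `T_p` is
right exact), then `H_p(P ⊗ κ) ≅ κ ⊗ H_p(P)` for every field `κ` over `A`.
-/

set_option autoImplicit false

open CategoryTheory CategoryTheory.Limits MonoidalCategory TensorProduct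

universe u

namespace Groth.Agent.TFunBCH5

section linalg

variable {A : Type u} [CommRing A]

/-- Tor-vanishing: tensoring an injection with flat cokernel stays injective. -/
theorem lTensor_injective_of_flat_coker {N₁ N₂ N₃ : Type u} [AddCommGroup N₁] [Module A N₁]
    [AddCommGroup N₂] [Module A N₂] [AddCommGroup N₃] [Module A N₃]
    (K : Type u) [AddCommGroup K] [Module A K]
    (g₁ : N₁ →ₗ[A] N₂) (g₂ : N₂ →ₗ[A] N₃) (hg₁ : Function.Injective g₁)
    (hex : Function.Exact g₁ g₂) (hsurj : Function.Surjective g₂) [Module.Flat A N₃] :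
    Function.Injective (g₁.lTensor K) := by
  let π : (K →₀ A) →ₗ[A] K := Finsupp.linearCombination A id
  have hπ : Function.Surjective π := Finsupp.linearCombination_id_surjective A K
  have hexπ : Function.Exact (LinearMap.ker π).subtype π := LinearMap.exact_subtype_ker_map π
  refine @lTensor_injective_of_exact_of_exact_of_rTensor_injective A _ (LinearMap.ker π)
    (K →₀ A) K N₁ N₂ N₃ _ _ _ _ _ _ _ _ _ _ _ _ (LinearMap.ker π).subtype π g₁ g₂ hexπ hπ hex
    hsurj ?_ ?_
  · exact Module.Flat.rTensor_preserves_injective_linearMap (LinearMap.ker π).subtype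
      (Submodule.subtype_injective _)
  · exact Module.Flat.lTensor_preserves_injective_linearMap g₁ hg₁

/-- A submodule of a flat module with flat quotient is flat. -/
theorem flat_of_flat_of_flat_coker {N₁ N₂ N₃ : Type u} [AddCommGroup N₁] [Module A N₁]
    [AddCommGroup N₂] [Module A N₂] [AddCommGroup N₃] [Module A N₃]
    (g₁ : N₁ →ₗ[A] N₂) (g₂ : N₂ →ₗ[A] N₃) (hg₁ : Function.Injective g₁)
    (hex : Function.Exact g₁ g₂) (hsurj : Function.Surjective g₂) [Module.Flat A N₂]
    [Module.Flat A N₃] : Module.Flat A N₁ := by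
  rw [Module.Flat.iff_rTensor_preserves_injective_linearMap]
  intro K' K _ _ _ _ f hf
  have h1 : Function.Injective (g₁.lTensor K') :=
    lTensor_injective_of_flat_coker K' g₁ g₂ hg₁ hex hsurj
  have h2 : Function.Injective (f.rTensor N₂) :=
    Module.Flat.rTensor_preserves_injective_linearMap f hf
  have h3 : (g₁.lTensor K) ∘ₗ (f.rTensor N₁) = (f.rTensor N₂) ∘ₗ (g₁.lTensor K') := by
    rw [LinearMap.lTensor_comp_rTensor, LinearMap.rTensor_comp_lTensor]
  have h4 : Function.Injective ((g₁.lTensor K) ∘ₗ (f.rTensor N₁)) := by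
    rw [h3]
    exact h2.comp h1
  exact Function.Injective.of_comp h4

theorem lTensor_kernel_facts {H W X₃ : Type u} [AddCommGroup H] [Module A H]
    [AddCommGroup W] [Module A W] [AddCommGroup X₃] [Module A X₃]
    (κ : Type u) [AddCommGroup κ] [Module A κ]
    (ι : H →ₗ[A] W) (l : W →ₗ[A] X₃) (hι : Function.Injective ι) (hex : Function.Exact ι l)
    [Module.Flat A X₃] [Module.Flat A (X₃ ⧸ LinearMap.range l)] :
    Function.Injective (ι.lTensor κ) ∧ Function.Exact (ι.lTensor κ) (l.lTensor κ) := by
  have hex' : Function.Exact ι l.rangeRestrict := by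
    intro w
    rw [← hex w]
    constructor
    · intro h
      exact congrArg Subtype.val h
    · intro h
      exact Subtype.ext h
  have hsurj' := LinearMap.surjective_rangeRestrict l
  haveI : Module.Flat A (LinearMap.range l) :=
    flat_of_flat_of_flat_coker (LinearMap.range l).subtype (LinearMap.range l).mkQ
      (Submodule.subtype_injective _) (LinearMap.exact_subtype_mkQ _) (Submodule.mkQ_surjective _)
  have hT1 : Function.Injective ((LinearMap.range l).subtype.lTensor κ) :=
    lTensor_injective_of_flat_coker κ _ (LinearMap.range l).mkQ (Submodule.subtype_injective _)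
      (LinearMap.exact_subtype_mkQ _) (Submodule.mkQ_surjective _)
  refine ⟨lTensor_injective_of_flat_coker κ ι l.rangeRestrict hι hex' hsurj', ?_⟩
  have h1 : Function.Exact (ι.lTensor κ) (l.rangeRestrict.lTensor κ) :=
    lTensor_exact κ hex' hsurj'
  have h2 : l.lTensor κ =
      (LinearMap.range l).subtype.lTensor κ ∘ₗ l.rangeRestrict.lTensor κ := by
    rw [← LinearMap.lTensor_comp, LinearMap.subtype_comp_codRestrict]
  rw [h2]
  exact (Function.Injective.comp_exact_iff_exact hT1).mpr h1

end linalg

section ext

open Groth.Agent.ExtendScalarsLib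

variable {A : Type u} [CommRing A] (κ : Type u) [Field κ] [Algebra A κ]

lemma map_injective_of {M N : ModuleCat.{u} A} (f : M ⟶ N)
    (h : Function.Injective (f.hom.lTensor κ)) :
    Function.Injective ((ModuleCat.extendScalars (algebraMap A κ)).map f).hom := by
  have h' : Function.Injective (f.hom.baseChange κ) := by
    rw [LinearMap.baseChange_eq_ltensor]
    exact h
  intro z w hzw
  have h1 := congrArg (extendScalarsEquivTensor (S := κ) N) hzw
  rw [FiberRank9.e_comm, FiberRank9.e_comm] at h1
  exact (extendScalarsEquivTensor (S := κ) M).injective (h' h1)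

lemma map_exact_of {L M N : ModuleCat.{u} A} (f : L ⟶ M) (g : M ⟶ N)
    (h : Function.Exact (f.hom.lTensor κ) (g.hom.lTensor κ)) :
    Function.Exact ((ModuleCat.extendScalars (algebraMap A κ)).map f).hom
      ((ModuleCat.extendScalars (algebraMap A κ)).map g).hom := by
  have h' : Function.Exact (f.hom.baseChange κ) (g.hom.baseChange κ) := by
    rw [LinearMap.baseChange_eq_ltensor, LinearMap.baseChange_eq_ltensor]
    exact h
  intro z
  constructor
  · intro hz
    have h1 : (g.hom.baseChange κ) (extendScalarsEquivTensor (S := κ) M z) = 0 := by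
      rw [← FiberRank9.e_comm, hz, map_zero]
    obtain ⟨y, hy⟩ := (h' _).mp h1
    refine ⟨(extendScalarsEquivTensor (S := κ) L).symm y, ?_⟩
    apply (extendScalarsEquivTensor (S := κ) M).injective
    rw [FiberRank9.e_comm, LinearEquiv.apply_symm_apply]
    exact hy
  · rintro ⟨y, rfl⟩
    apply (extendScalarsEquivTensor (S := κ) N).injective
    rw [FiberRank9.e_comm, FiberRank9.e_comm, map_zero]
    exact (h' _).mpr ⟨_, rfl⟩

/-- Extension of scalars to a field commutes with the homology of a short complex whose last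
term is flat with flat cokernel. -/
theorem homology_map_iso (S : ShortComplex (ModuleCat.{u} A)) [Module.Flat A S.X₃]
    (hflat : Module.Flat A (S.X₃ ⧸ LinearMap.range S.g.hom)) :
    Nonempty ((S.map (ModuleCat.extendScalars (algebraMap A κ))).homology ≅
      (ModuleCat.extendScalars (algebraMap A κ)).obj S.homology) := by
  let h := S.rightHomologyData
  have hιinj : Function.Injective h.ι.hom := (ModuleCat.mono_iff_injective _).mp inferInstance
  have hex : Function.Exact h.ι.hom h.g'.hom := by
    have hS : (ShortComplex.mk h.ι h.g' h.ι_g').Exact :=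
      ShortComplex.exact_of_f_is_kernel _ h.hι'
    exact (ShortComplex.ShortExact.moduleCat_exact_iff_function_exact _).mp hS
  have hrange : LinearMap.range h.g'.hom = LinearMap.range S.g.hom := by
    have hp : Function.Surjective h.p.hom := (ModuleCat.epi_iff_surjective _).mp inferInstance
    rw [← h.p_g', ModuleCat.hom_comp, LinearMap.range_comp, LinearMap.range_eq_top.mpr hp,
      Submodule.map_top]
  haveI : Module.Flat A (S.X₃ ⧸ LinearMap.range h.g'.hom) := hrange ▸ hflat
  obtain ⟨h1, h2⟩ := lTensor_kernel_facts κ h.ι.hom h.g'.hom hιinj hex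
  haveI hmono : Mono ((ModuleCat.extendScalars (algebraMap A κ)).map h.ι) :=
    (ModuleCat.mono_iff_injective _).mpr (map_injective_of κ h.ι h1)
  have hexF : (ShortComplex.mk ((ModuleCat.extendScalars (algebraMap A κ)).map h.ι)
      ((ModuleCat.extendScalars (algebraMap A κ)).map h.g')
      (by rw [← Functor.map_comp, h.ι_g', Functor.map_zero])).Exact :=
    (ShortComplex.ShortExact.moduleCat_exact_iff_function_exact _).mpr
      (map_exact_of κ h.ι h.g' h2)
  have hlim := hexF.fIsKernel
  haveI := (ModuleCat.extendRestrictScalarsAdj (algebraMap A κ)).leftAdjoint_preservesColimits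
  haveI : PreservesLimit (parallelPair h.g' 0) (ModuleCat.extendScalars (algebraMap A κ)) :=
    preservesLimit_of_preserves_limit_cone h.hι'
      ((KernelFork.isLimitMapConeEquiv _ (ModuleCat.extendScalars (algebraMap A κ))).symm hlim)
  haveI : h.IsPreservedBy (ModuleCat.extendScalars (algebraMap A κ)) :=
    ⟨inferInstance, inferInstance⟩
  exact ⟨(h.map (ModuleCat.extendScalars (algebraMap A κ))).homologyIso ≪≫
    (ModuleCat.extendScalars (algebraMap A κ)).mapIso h.homologyIso.symm⟩

end ext

section cx

open Groth.Agent.ExtendScalarsLib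

variable {A : Type u} [CommRing A] (P : ChainComplex (ModuleCat.{u} A) ℤ)
  (hP : ∀ i, Module.Flat A (P.X i))

include hP in
theorem finrank_homology_bc_eq (κ : Type u) [Field κ] [Algebra A κ] (p : ℤ)
    (hepi : (CohIII.TFun P p).PreservesEpimorphisms) :
    Module.finrank κ ((CohIII.bcCx (algebraMap A κ) P).homology p) =
      Module.finrank κ (κ ⊗[A] (P.homology p)) := by
  have hrel : (ComplexShape.down ℤ).Rel p ((ComplexShape.down ℤ).next p) := by
    rw [ChainComplex.next]
    simp
  haveI : Module.Flat A (P.sc p).X₃ := hP _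
  have hflat : Module.Flat A ((P.sc p).X₃ ⧸ LinearMap.range (P.sc p).g.hom) :=
    (Groth.Agent.TFunRank5.mono_iff_flat_quot P hP p _ hrel).mp
      ((Groth.Agent.Lib.TFunLESH7.main P hP p _ hrel).mp hepi)
  obtain ⟨e⟩ := homology_map_iso κ (P.sc p) hflat
  exact (e.toLinearEquiv ≪≫ₗ extendScalarsEquivTensor (S := κ) (P.sc p).homology).finrank_eq

include hP in
theorem dRank_eq (p : ℤ) (hepi : (CohIII.TFun P p).PreservesEpimorphisms)
    (x : PrimeSpectrum A) :
    CohIII.dRank P p x =
      Module.finrank x.asIdeal.ResidueField (x.asIdeal.ResidueField ⊗[A] (P.homology p)) :=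
  finrank_homology_bc_eq P hP x.asIdeal.ResidueField p hepi

/-- `H_p(P) ≅ T_p(A)`. -/
noncomputable def homologyEquivTA (p : ℤ) :
    P.homology p ≃ₗ[A] (CohIII.TFun P p).obj (ModuleCat.of A A) :=
  ((HomologicalComplex.homologyFunctor _ _ p).mapIso
    (HomologicalComplex.Hom.isoOfComponents (fun i => (ρ_ (P.X i)).symm)
      (fun i j _ => (rightUnitor_inv_naturality (P.d i j)).symm) :
      P ≅ CohIII.tensorObj P (ModuleCat.of A A))).toLinearEquiv

include hP in
theorem s4485 (p : ℤ)
    (hex : (CohIII.TFun P p).PreservesMonomorphisms ∧ (CohIII.TFun P p).PreservesEpimorphisms)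
    (hfp : Module.FinitePresentation A (CohIII.T P p (ModuleCat.of A A))) :
    IsLocallyConstant (CohIII.dRank P p) := by
  haveI : Module.Flat A ((CohIII.TFun P p).obj (ModuleCat.of A A)) :=
    Groth.Agent.Lib.TFunEWH7.flat_TA_of_mono_epi P hP p hex.1 hex.2
  haveI : Module.Flat A (P.homology p) :=
    (Module.Flat.equiv_iff (homologyEquivTA P p)).mpr inferInstance
  haveI : Module.FinitePresentation A ((CohIII.TFun P p).obj (ModuleCat.of A A)) := hfp
  haveI : Module.FinitePresentation A (P.homology p) :=
    Module.FinitePresentation.of_equiv (homologyEquivTA P p).symm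
  have hlc : IsLocallyConstant (Module.rankAtStalk (R := A) (P.homology p)) :=
    Module.isLocallyConstant_rankAtStalk
  have heq : CohIII.dRank P p = Module.rankAtStalk (R := A) (P.homology p) := by
    funext x
    rw [Module.rankAtStalk_eq]
    exact dRank_eq P hP p hex.2 x
  rw [heq]
  exact hlc

end cx

section s4488

variable {A : Type u} [CommRing A] [IsLocalRing A] (P : ChainComplex (ModuleCat.{u} A) ℤ)
  (hP : ∀ i, Module.Flat A (P.X i)) (i₀ : ℤ) (hb : ∀ i < i₀, IsZero (P.X i))
  (hfp : ∀ n : ℤ, Module.FinitePresentation A (CohIII.T P n (ModuleCat.of A A)))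

include hP hfp in
theorem s4488_1 (p : ℤ)
    (h : ∀ q ≤ p, (CohIII.TFun P q).PreservesMonomorphisms ∧
      (CohIII.TFun P q).PreservesEpimorphisms) (x : PrimeSpectrum A) (q : ℤ) (hq : q ≤ p) :
    CohIII.dRank P q x = CohIII.dRank P q (IsLocalRing.closedPoint A) := by
  obtain ⟨hm, he⟩ := h q hq
  rw [dRank_eq P hP q he x, dRank_eq P hP q he (IsLocalRing.closedPoint A)]
  haveI : Module.Flat A ((CohIII.TFun P q).obj (ModuleCat.of A A)) :=
    Groth.Agent.Lib.TFunEWH7.flat_TA_of_mono_epi P hP q hm he
  haveI : Module.Flat A (P.homology q) :=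
    (Module.Flat.equiv_iff (homologyEquivTA P q)).mpr inferInstance
  haveI : Module.FinitePresentation A ((CohIII.TFun P q).obj (ModuleCat.of A A)) := hfp q
  haveI : Module.FinitePresentation A (P.homology q) :=
    Module.FinitePresentation.of_equiv (homologyEquivTA P q).symm
  haveI : Module.Free A (P.homology q) := Module.free_of_flat_of_isLocalRing
  rw [Module.finrank_baseChange, Module.finrank_baseChange]

include hP hb hfp in
theorem s4488_2 [IsReduced A] (p : ℤ)
    (h : ∀ x : PrimeSpectrum A, x.asIdeal ∈ minimalPrimes A →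
      ∀ q ≤ p, CohIII.dRank P q x = CohIII.dRank P q (IsLocalRing.closedPoint A)) :
    ∀ q ≤ p, (CohIII.TFun P q).PreservesMonomorphisms ∧
      (CohIII.TFun P q).PreservesEpimorphisms := by
  rw [Groth.Agent.Lib.TFunEWH7.s2446 P hP i₀ hb p]
  have key : ∀ n : ℕ, ∀ q : ℤ, q < i₀ + n → q ≤ p →
      Module.Flat A ((CohIII.TFun P q).obj (ModuleCat.of A A)) := by
    intro n
    induction n with
    | zero =>
      intro q hq _
      have hz : IsZero ((CohIII.TFun P q).obj (ModuleCat.of A A)) := by
        have h1 : IsZero ((CohIII.tensorObj P (ModuleCat.of A A)).X q) :=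
          Functor.map_isZero (tensorRight _) (hb q (by simpa using hq))
        exact ((CohIII.tensorObj P (ModuleCat.of A A)).sc q).isZero_homology_of_isZero_X₂ h1
      haveI := ModuleCat.subsingleton_of_isZero hz
      haveI : Module.Free A ((CohIII.TFun P q).obj (ModuleCat.of A A)) :=
        Module.Free.of_subsingleton A _
      infer_instance
    | succ n ih =>
      intro q hq hqp
      by_cases hlt : q < i₀ + n
      · exact ih q hlt hqp
      have hprev : ∀ q' ≤ q - 1, Module.Flat A ((CohIII.TFun P q').obj (ModuleCat.of A A)) :=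
        fun q' hq' => ih q' (by push_cast at hq; omega) (by omega)
      have hexact := (Groth.Agent.Lib.TFunEWH7.s2446 P hP i₀ hb (q - 1)).mpr hprev
      have hrel : (ComplexShape.down ℤ).Rel q (q - 1) := by simp
      have hepi : (CohIII.TFun P q).PreservesEpimorphisms :=
        (Groth.Agent.Lib.TFunLESH7.main P hP q (q - 1) hrel).mpr (hexact (q - 1) le_rfl).1
      haveI : Module.FinitePresentation A ((CohIII.TFun P q).obj (ModuleCat.of A A)) := hfp q
      haveI : Module.Finite A (P.homology q) := Module.Finite.equiv (homologyEquivTA P q).symm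
      haveI : Module.Free A (P.homology q) :=
        Groth.Agent.TFunRank5.free_of_rank_eq _ (fun y hy => by
          rw [← dRank_eq P hP q hepi y, ← dRank_eq P hP q hepi (IsLocalRing.closedPoint A)]
          exact h y hy q hqp)
      exact (Module.Flat.equiv_iff (homologyEquivTA P q)).mp inferInstance
  intro q hq
  obtain ⟨n, hn⟩ : ∃ n : ℕ, q < i₀ + n := ⟨(q - i₀ + 1).toNat, by omega⟩
  exact key n q hn hq

end s4488

end Groth.Agent.TFunBCH5
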