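import Mathlib
import Groth.Prelude
import Groth.Agent.Lib.BCLoc3_helper2
import Groth.Agent.Lib.BCLoc4_helper2
import Groth.Agent.Lib.TFunRank_helper5
import Groth.Agent.Lib.TFunBCH_helper5
import Groth.Agent.Lib.TFunEW_helper7

/-!
# Local freeness of higher direct images from exactness of the `T`-functor (helper2)
APPEND-ONLY once landed.
-/

set_option autoImplicit false
universe u
open CategoryTheory Limits AlgebraicGeometry TopologicalSpace Opposite TensorProduct MonoidalCategory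

namespace Groth.Agent.Lib.BCLocH2

section AlgExact

variable {A : Type u} [CommRing A] [IsNoetherianRing A] (P : ChainComplex (ModuleCat.{u} A) ℤ)
  (hP : ∀ i, Module.Finite A (P.X i) ∧ Module.Flat A (P.X i)) (p : ℤ)

include hP in
/-- if `T_p` is exact then `H_p(P)` is finite projective, of rank the rank function of `P` -/
theorem homology_facts_of_exact
    (hex : (CohIII.TFun P p).PreservesMonomorphisms ∧ (CohIII.TFun P p).PreservesEpimorphisms) :
    Module.Finite A (P.homology p) ∧ Module.Projective A (P.homology p) ∧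
      ∀ x : PrimeSpectrum A, Module.rankAtStalk (P.homology p) x = CohIII.dRank P p x := by
  have hPf : ∀ i, Module.Flat A (P.X i) := fun i => (hP i).2
  haveI := (hP p).1
  haveI hfin : Module.Finite A (P.homology p) := Groth.Agent.Lib.TFunEWH7.finite_homology P p
  obtain ⟨e⟩ := Groth.Agent.Lib.TFunEWH7.iso_of_epi P hPf p hex.2
  haveI := hex.1
  have hflTA : Module.Flat A ((CohIII.TFun P p).obj (ModuleCat.of A A)) :=
    Groth.Agent.Lib.TFunEWH7.flat_of_preservesMono_tensorLeft _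
      (Functor.PreservesMonomorphisms.of_iso e.symm)
  haveI hfl : Module.Flat A (P.homology p) :=
    Module.Flat.of_linearEquiv (Groth.Agent.TFunBCH5.homologyEquivTA P p)
  haveI : Module.FinitePresentation A (P.homology p) := Module.finitePresentation_of_finite A _
  refine ⟨hfin, Module.Flat.projective_of_finitePresentation, fun x => ?_⟩
  rw [Module.rankAtStalk_eq, Groth.Agent.TFunBCH5.dRank_eq P hPf p hex.2 x]

end AlgExact

section Free

variable {Y : Scheme.{u}} (M : Y.Modules) [M.IsQuasicoherent] (V : Y.Opens)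

/-- a quasi-coherent module whose sections over an affine open `V` are finite projective is free
near every point of `V`, of rank the rank of the sections at the corresponding prime -/
theorem exists_free_nhd_of_sections (hV : IsAffineOpen V) {y : Y} (hy : y ∈ V)
    (H : Type u) [AddCommGroup H] [Module Γ((V : Scheme.{u}), ⊤) H]
    [Module.Finite Γ((V : Scheme.{u}), ⊤) H] [Module.Projective Γ((V : Scheme.{u}), ⊤) H]
    (e : Γ(M.restrict V.ι, ⊤) ≃ₗ[Γ((V : Scheme.{u}), ⊤)] H) :
    ∃ U : Y.Opens, y ∈ U ∧ Nonempty (M.restrict U.ι ≅ FlatMod.freeMod (↑U)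
      (Module.rankAtStalk (R := Γ((V : Scheme.{u}), ⊤)) H ((V : Scheme.{u}).toSpecΓ ⟨y, hy⟩))) := by
  haveI : IsAffine (V : Scheme.{u}) := hV
  haveI : Module.Finite Γ((V : Scheme.{u}), ⊤) Γ(M.restrict V.ι, ⊤) := Module.Finite.equiv e.symm
  haveI : Module.Projective Γ((V : Scheme.{u}), ⊤) Γ(M.restrict V.ι, ⊤) :=
    Module.Projective.of_equiv e.symm
  have hn : Module.rankAtStalk (R := Γ((V : Scheme.{u}), ⊤)) Γ(M.restrict V.ι, ⊤)
      ((V : Scheme.{u}).toSpecΓ ⟨y, hy⟩) =
      Module.rankAtStalk (R := Γ((V : Scheme.{u}), ⊤)) H ((V : Scheme.{u}).toSpecΓ ⟨y, hy⟩) :=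
    congrFun (Module.rankAtStalk_eq_of_equiv e) _
  rw [← hn]
  obtain ⟨s, hys, g, hg, hli⟩ := exists_basis_basicOpen_of_projective (M.restrict V.ι) ⟨y, hy⟩
  refine ⟨V.ι ''ᵁ ((V : Scheme.{u}).basicOpen s), ⟨⟨y, hy⟩, hys, rfl⟩, ?_⟩
  exact iso_of_basis_restrict M V ((isAffineOpen_top (V : Scheme.{u})).basicOpen s) g hg hli

end Free

/-- transfer of local constancy of the fibre rank to the rank function of the complex -/
theorem isLocallyConstant_dRank_of_fiberRank {X Y : Scheme.{u}} (f : X ⟶ Y) (F : X.Modules)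
    (V : Y.Opens) [IsAffine (V : Scheme.{u})] (p : ℕ)
    (P : ChainComplex (ModuleCat.{u} Γ((V : Scheme.{u}), ⊤)) ℤ) (j : ℤ)
    (hrk : ∀ (y : Y) (hy : y ∈ V), CohIII.fiberRank f F p y =
      CohIII.dRank P j ((V : Scheme.{u}).toSpecΓ ⟨y, hy⟩))
    (hconst : IsLocallyConstant (CohIII.fiberRank f F p)) :
    IsLocallyConstant (CohIII.dRank P j) := by
  let h := Scheme.Hom.homeomorph (V : Scheme.{u}).toSpecΓ
  have h1 : IsLocallyConstant (fun y' : (V : Scheme.{u}) => CohIII.fiberRank f F p (V.ι y')) :=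
    hconst.comp_continuous V.ι.continuous
  have h2 : CohIII.dRank P j =
      (fun y' : (V : Scheme.{u}) => CohIII.fiberRank f F p (V.ι y')) ∘ h.symm := by
    funext q
    obtain ⟨y', rfl⟩ := h.surjective q
    show CohIII.dRank P j (h y') = CohIII.fiberRank f F p (V.ι (h.symm (h y')))
    rw [h.symm_apply_apply]
    exact (hrk y'.1 y'.2).symm
  rw [h2]
  exact h1.comp_continuous h.symm.continuous

/-- the local statement of S2391 over an affine open -/
theorem free_nhd_2391 {X Y : Scheme.{u}} (f : X ⟶ Y) [IsProper f] [IsLocallyNoetherian Y]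
    (F : X.Modules) (hF : Coh.IsCoh F) (hfl : FlatMod.IsFlatOver f F) [IsReduced Y]
    [HasInjectiveResolutions X.Modules] (p : ℕ)
    (hconst : IsLocallyConstant (CohIII.fiberRank f F p))
    (V : Y.Opens) (hV : IsAffineOpen V) (y : Y) (hy : y ∈ V) :
    ∃ U : Y.Opens, y ∈ U ∧
      Nonempty (((Coh.Rpush f p).obj F).restrict U.ι ≅
        FlatMod.freeMod (↑U) (CohIII.fiberRank f F p y)) := by
  haveI : IsAffine (V : Scheme.{u}) := hV
  haveI : IsNoetherianRing Γ((V : Scheme.{u}), ⊤) :=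
    IsLocallyNoetherian.component_noetherian ⟨⊤, isAffineOpen_top _⟩
  haveI : _root_.IsReduced Γ((V : Scheme.{u}), ⊤) := inferInstance
  obtain ⟨P, hP, -, -, hrk, -, hsec⟩ := locPackage f F hF hfl V hV
  have hP' : ∀ i, Module.Finite Γ((V : Scheme.{u}), ⊤) (P.X i) ∧
      Module.Flat Γ((V : Scheme.{u}), ⊤) (P.X i) := fun i =>
    ⟨(hP i).1, haveI := (hP i).2; inferInstance⟩
  have hlc : IsLocallyConstant (CohIII.dRank P (-(p : ℤ))) :=
    isLocallyConstant_dRank_of_fiberRank f F V p P _ (hrk p) hconst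
  have hex := Groth.Agent.TFunRank5.s2381_2 P hP' (-(p : ℤ)) hlc
  obtain ⟨hfin, hproj, hrank⟩ := homology_facts_of_exact P hP' (-(p : ℤ)) hex
  haveI := hfin
  haveI := hproj
  haveI : ((Coh.Rpush f p).obj F).IsQuasicoherent :=
    haveI : F.IsQuasicoherent := hF.1
    RpushQC.isQuasicoherent_Rpush f F p
  obtain ⟨e⟩ := hsec p
  obtain ⟨U, hyU, hU⟩ := exists_free_nhd_of_sections ((Coh.Rpush f p).obj F) V hV hy
    (P.homology (-(p : ℤ))) e
  rw [hrank, ← hrk p y hy] at hU
  exact ⟨U, hyU, hU⟩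

/-- **S2391** -/
theorem main2391 {X Y : Scheme.{u}} (f : X ⟶ Y) [IsProper f] [IsLocallyNoetherian Y]
    (F : X.Modules) (hF : Coh.IsCoh F) (hfl : FlatMod.IsFlatOver f F) [IsReduced Y]
    [HasInjectiveResolutions X.Modules] (p : ℕ)
    (hconst : IsLocallyConstant (CohIII.fiberRank f F p)) :
    FlatMod.IsFinLocFree ((Coh.Rpush f p).obj F) ∧
      ∀ y : Y, ∃ U : Y.Opens, y ∈ U ∧
        Nonempty (((Coh.Rpush f p).obj F).restrict U.ι ≅
          FlatMod.freeMod (↑U) (CohIII.fiberRank f F p y)) := by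
  have h2 : ∀ y : Y, ∃ U : Y.Opens, y ∈ U ∧
      Nonempty (((Coh.Rpush f p).obj F).restrict U.ι ≅
        FlatMod.freeMod (↑U) (CohIII.fiberRank f F p y)) := by
    intro y
    obtain ⟨_, ⟨V, hV : IsAffineOpen V, rfl⟩, hyV, -⟩ :=
      (Y.isBasis_affineOpens).exists_subset_of_mem_open (Set.mem_univ y) isOpen_univ
    exact free_nhd_2391 f F hF hfl p hconst V hV y hyV
  exact ⟨fun y => let ⟨U, hy, h⟩ := h2 y; ⟨U, _, hy, h⟩, h2⟩

end Groth.Agent.Lib.BCLocH2
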