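import Mathlib
import Groth.Prelude
import Groth.Agent.Lib.BCLoc5_helper2

/-!
# Vanishing of the higher direct images: S2390 (helper2)
APPEND-ONLY once landed.
-/

set_option autoImplicit false
universe u
open CategoryTheory Limits AlgebraicGeometry TopologicalSpace Opposite TensorProduct MonoidalCategory

namespace Groth.Agent.Lib.BCLocH2

section AlgZero

variable {A : Type u} [CommRing A] (P : ChainComplex (ModuleCat.{u} A) ℤ)

lemma subsingleton_tensor_of_left (X N : Type u) [AddCommGroup X] [Module A X] [AddCommGroup N]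
    [Module A N] [Subsingleton X] : Subsingleton (X ⊗[A] N) := by
  refine ⟨fun a b => ?_⟩
  have h : ∀ z : X ⊗[A] N, z = 0 := fun z => by
    induction z using TensorProduct.induction_on with
    | zero => rfl
    | tmul x n => rw [Subsingleton.elim x 0, TensorProduct.zero_tmul]
    | add x y hx hy => rw [hx, hy, add_zero]
  rw [h a, h b]

lemma presMono_of_isZero {T : ModuleCat.{u} A ⥤ ModuleCat.{u} A}
    (h : ∀ M, IsZero (T.obj M)) : T.PreservesMonomorphisms :=
  ⟨fun {M N} g _ => ⟨fun a b _ => (h M).eq_of_tgt a b⟩⟩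

lemma presEpi_of_isZero {T : ModuleCat.{u} A ⥤ ModuleCat.{u} A}
    (h : ∀ M, IsZero (T.obj M)) : T.PreservesEpimorphisms :=
  ⟨fun {M N} g _ => ⟨fun a b _ => (h N).eq_of_src a b⟩⟩

/-- `T_n = 0` when the `n`-th term of the complex vanishes -/
lemma isZero_T_of_isZero_X (n : ℤ) (h : IsZero (P.X n)) (M : ModuleCat.{u} A) :
    IsZero ((CohIII.TFun P n).obj M) :=
  Groth.Agent.Lib.BCAlgH2.isZero_homology_of_isZero_X _ _
    ((MonoidalCategory.tensorRight M).map_isZero h)

/-- if `T_n` preserves epimorphisms and `H_n(P) = 0` then `T_n = 0` -/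
lemma isZero_T_of_epi_of_homology (hP : ∀ i, Module.Flat A (P.X i)) (n : ℤ)
    (he : (CohIII.TFun P n).PreservesEpimorphisms) (h0 : Subsingleton (P.homology n))
    (M : ModuleCat.{u} A) : IsZero ((CohIII.TFun P n).obj M) := by
  obtain ⟨e⟩ := Groth.Agent.Lib.TFunEWH7.iso_of_epi P hP n he
  haveI : Subsingleton ((CohIII.TFun P n).obj (ModuleCat.of A A)) :=
    (Groth.Agent.TFunBCH5.homologyEquivTA P n).symm.toEquiv.subsingleton
  have hz : IsZero ((CohIII.TFun P n).obj (ModuleCat.of A A)) :=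
    ModuleCat.isZero_of_subsingleton _
  have hz2 : IsZero ((tensorLeft ((CohIII.TFun P n).obj (ModuleCat.of A A))).obj M) := by
    haveI : Subsingleton ↑((tensorLeft ((CohIII.TFun P n).obj (ModuleCat.of A A))).obj M) :=
      subsingleton_tensor_of_left (A := A) ((CohIII.TFun P n).obj (ModuleCat.of A A)) M
    exact ModuleCat.isZero_of_subsingleton _
  exact IsZero.of_iso hz2 (e.app M).symm

/-- descending induction: if the homology of `P` vanishes in all negative degrees and `P` is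
bounded below then `T_n = 0` for all `n < 0` -/
theorem isZero_T_neg (hP : ∀ i, Module.Flat A (P.X i)) (b : ℤ) (hb : ∀ i, i < b → IsZero (P.X i))
    (h0 : ∀ n : ℤ, n < 0 → Subsingleton (P.homology n)) :
    ∀ n : ℤ, n < 0 → ∀ M : ModuleCat.{u} A, IsZero ((CohIII.TFun P n).obj M) := by
  have key : ∀ k : ℕ, ∀ n : ℤ, n < b + k → n < 0 →
      ∀ M : ModuleCat.{u} A, IsZero ((CohIII.TFun P n).obj M) := by
    intro k
    induction k with
    | zero =>
      intro n hn _ M
      exact isZero_T_of_isZero_X P n (hb n (by simpa using hn)) M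
    | succ k ih =>
      intro n hn hn0 M
      by_cases hlt : n < b + k
      · exact ih n hlt hn0 M
      · have hprev : ∀ M, IsZero ((CohIII.TFun P (n - 1)).obj M) := fun M =>
          ih (n - 1) (by push_cast at hn; omega) (by omega) M
        have hrel : (ComplexShape.down ℤ).Rel n (n - 1) := by simp
        have he : (CohIII.TFun P n).PreservesEpimorphisms :=
          (Groth.Agent.Lib.TFunLESH7.main P hP n (n - 1) hrel).2 (presMono_of_isZero hprev)
        exact isZero_T_of_epi_of_homology P hP n he (h0 n hn0) M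
  intro n hn M
  by_cases hnb : n < b
  · exact isZero_T_of_isZero_X P n (hb n hnb) M
  · exact key (n - b).toNat.succ n (by push_cast; omega) hn M

end AlgZero

section Geo

lemma subsingleton_sections_of_isZero {S : Scheme.{u}} (N : S.Modules) (h : IsZero N)
    (U : S.Opens) : Subsingleton Γ(N, U) := by
  refine ⟨fun a b => ?_⟩
  have h0 : (𝟙 N : N ⟶ N) = 0 := h.eq_of_src _ _
  have ha : ∀ x : Γ(N, U), x = 0 := fun x => by
    have h1 := congrArg (fun φ : N ⟶ N => (φ.app U).hom x) h0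
    exact h1
  rw [ha a, ha b]

/-- the local statement of S2390 -/
theorem local_2390 {X Y : Scheme.{u}} (f : X ⟶ Y) [IsProper f] [IsLocallyNoetherian Y]
    (F : X.Modules) (hF : Coh.IsCoh F) (hfl : FlatMod.IsFlatOver f F)
    [HasInjectiveResolutions X.Modules]
    (hR : ∀ i : ℕ, 0 < i → IsZero ((Coh.Rpush f i).obj F))
    (V : Y.Opens) (hV : IsAffineOpen V) (y : Y) (hy : y ∈ V) :
    (∀ i : ℕ, 0 < i → Subsingleton (CohIII.fiberH f F y i)) ∧
      ∃ U : Y.Opens, y ∈ U ∧ Nonempty (((Coh.push f).obj F).restrict U.ι ≅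
        FlatMod.freeMod (↑U) (CohIII.fiberRank f F 0 y)) := by
  haveI : IsAffine (V : Scheme.{u}) := hV
  haveI : IsNoetherianRing Γ((V : Scheme.{u}), ⊤) :=
    IsLocallyNoetherian.component_noetherian ⟨⊤, isAffineOpen_top _⟩
  obtain ⟨P, hP, ⟨b, hb⟩, hpos, hrk, hfinfib, hsec⟩ := locPackage f F hF hfl V hV
  have hP' : ∀ i, Module.Finite Γ((V : Scheme.{u}), ⊤) (P.X i) ∧
      Module.Flat Γ((V : Scheme.{u}), ⊤) (P.X i) := fun i =>
    ⟨(hP i).1, haveI := (hP i).2; inferInstance⟩
  have hPf : ∀ i, Module.Flat Γ((V : Scheme.{u}), ⊤) (P.X i) := fun i => (hP' i).2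
  -- vanishing of the homology in negative degrees
  have h0 : ∀ n : ℤ, n < 0 → Subsingleton (P.homology n) := by
    intro n hn
    obtain ⟨i, rfl⟩ : ∃ i : ℕ, n = -(i : ℤ) := ⟨(-n).toNat, by omega⟩
    have hi : 0 < i := by omega
    obtain ⟨e⟩ := hsec i
    haveI : Subsingleton Γ(((Coh.Rpush f i).obj F).restrict V.ι, ⊤) :=
      subsingleton_sections_of_isZero _
        ((Scheme.Modules.restrictFunctor V.ι).map_isZero (hR i hi)) ⊤
    exact e.symm.toEquiv.subsingleton
  have hneg := isZero_T_neg P hPf b hb h0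
  refine ⟨fun i hi => ?_, ?_⟩
  · -- the fibres
    have hepi : (CohIII.TFun P (-(i : ℤ))).PreservesEpimorphisms :=
      presEpi_of_isZero (hneg _ (by omega))
    have h1 := Groth.Agent.TFunBCH5.dRank_eq P hPf (-(i : ℤ)) hepi
      ((V : Scheme.{u}).toSpecΓ ⟨y, hy⟩)
    haveI := h0 (-(i : ℤ)) (by omega)
    haveI : Subsingleton (((V : Scheme.{u}).toSpecΓ ⟨y, hy⟩ :
        PrimeSpectrum Γ((V : Scheme.{u}), ⊤)).asIdeal.ResidueField ⊗[Γ((V : Scheme.{u}), ⊤)]
        (P.homology (-(i : ℤ)))) :=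
      ⟨fun a b => by
        have h : ∀ z : ((V : Scheme.{u}).toSpecΓ ⟨y, hy⟩ :
            PrimeSpectrum Γ((V : Scheme.{u}), ⊤)).asIdeal.ResidueField ⊗[Γ((V : Scheme.{u}), ⊤)]
            (P.homology (-(i : ℤ))), z = 0 := fun z => by
          induction z using TensorProduct.induction_on with
          | zero => rfl
          | tmul x n => rw [Subsingleton.elim n 0, TensorProduct.tmul_zero]
          | add x y hx hy => rw [hx, hy, add_zero]
        rw [h a, h b]⟩
    rw [Module.finrank_zero_of_subsingleton] at h1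
    have h2 : CohIII.fiberRank f F i y = 0 := (hrk i y hy).trans h1
    haveI hfin' : @Module.Finite (Y.residueField y) (CohIII.fiberH f F y i) _ _
        (CohIII.moduleFiberH f F y i) := hfinfib i y hy
    unfold CohIII.fiberRank at h2
    exact Module.finrank_zero_iff.mp h2
  · -- local freeness
    have hrel1 : (ComplexShape.down ℤ).Rel (-((0 : ℕ) : ℤ)) (-((0 : ℕ) : ℤ) - 1) := by simp
    have hrel2 : (ComplexShape.down ℤ).Rel 1 (-((0 : ℕ) : ℤ)) := by simp
    have hex : (CohIII.TFun P (-((0 : ℕ) : ℤ))).PreservesMonomorphisms ∧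
        (CohIII.TFun P (-((0 : ℕ) : ℤ))).PreservesEpimorphisms :=
      ⟨(Groth.Agent.Lib.TFunLESH7.main P hPf 1 _ hrel2).1
          (presEpi_of_isZero (hpos 1 (by norm_num))),
        (Groth.Agent.Lib.TFunLESH7.main P hPf _ _ hrel1).2
          (presMono_of_isZero (hneg _ (by simp)))⟩
    obtain ⟨hfin, hproj, hrank⟩ := homology_facts_of_exact P hP' (-((0 : ℕ) : ℤ)) hex
    haveI := hfin
    haveI := hproj
    haveI : ((Coh.Rpush f 0).obj F).IsQuasicoherent :=
      haveI : F.IsQuasicoherent := hF.1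
      RpushQC.isQuasicoherent_Rpush f F 0
    obtain ⟨e⟩ := hsec 0
    obtain ⟨U, hyU, ⟨hU⟩⟩ := exists_free_nhd_of_sections ((Coh.Rpush f 0).obj F) V hV hy
      (P.homology (-((0 : ℕ) : ℤ))) e
    rw [hrank, ← hrk 0 y hy] at hU
    have e0 : (Coh.Rpush f 0).obj F ≅ (Coh.push f).obj F :=
      (Functor.rightDerivedZeroIsoSelf (Scheme.Modules.pushforward f)).app F
    exact ⟨U, hyU, ⟨((Scheme.Modules.restrictFunctor U.ι).mapIso e0).symm ≪≫ hU⟩⟩

/-- **S2390** -/
theorem main2390 {X Y : Scheme.{u}} (f : X ⟶ Y) [IsProper f] [IsLocallyNoetherian Y]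
    (F : X.Modules) (hF : Coh.IsCoh F) (hfl : FlatMod.IsFlatOver f F)
    [HasInjectiveResolutions X.Modules]
    (hR : ∀ i : ℕ, 0 < i → IsZero ((Coh.Rpush f i).obj F)) :
    (∀ y : Y, ∀ i : ℕ, 0 < i → Subsingleton (CohIII.fiberH f F y i)) ∧
      ∀ y : Y, ∃ U : Y.Opens, y ∈ U ∧
        Nonempty (((Coh.push f).obj F).restrict U.ι ≅
          FlatMod.freeMod (↑U) (CohIII.fiberRank f F 0 y)) := by
  have h : ∀ y : Y, (∀ i : ℕ, 0 < i → Subsingleton (CohIII.fiberH f F y i)) ∧
      ∃ U : Y.Opens, y ∈ U ∧ Nonempty (((Coh.push f).obj F).restrict U.ι ≅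
        FlatMod.freeMod (↑U) (CohIII.fiberRank f F 0 y)) := by
    intro y
    obtain ⟨_, ⟨V, hV : IsAffineOpen V, rfl⟩, hyV, -⟩ :=
      (Y.isBasis_affineOpens).exists_subset_of_mem_open (Set.mem_univ y) isOpen_univ
    exact local_2390 f F hF hfl hR V hV y hyV
  exact ⟨fun y => (h y).1, fun y => (h y).2⟩

end Geo

end Groth.Agent.Lib.BCLocH2
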