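import Mathlib
import Groth.Prelude.Def_ega3
import Groth.Agent.Lib.ExtendScalars_helper2

/-!
# `H_p(P ⊗_A B)` as an `A`-module is `T_p(B)` (helper5)

For a ring map `A → B` and a complex `P` of `A`-modules, the homology of the base-changed complex
`CohIII.bcCx (algebraMap A B) P` (a `B`-module), with scalars restricted to `A`, is
`CohIII.T P p (ModuleCat.of A B) = H_p(P ⊗_A B)`.
-/

set_option autoImplicit false

open CategoryTheory CategoryTheory.Limits MonoidalCategory TensorProduct

universe u

namespace Groth.Agent.TFunCmp5

open Groth.Agent.ExtendScalarsLib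

variable {A : Type u} [CommRing A] (B : Type u) [CommRing B] [Algebra A B]

theorem e_comm {M N : ModuleCat.{u} A} (f : M ⟶ N)
    (z : ((ModuleCat.extendScalars (algebraMap A B)).obj M)) :
    extendScalarsEquivTensor (S := B) N (((ModuleCat.extendScalars (algebraMap A B)).map f).hom z) =
      (f.hom.baseChange B) (extendScalarsEquivTensor (S := B) M z) := by
  let L : ↑((ModuleCat.extendScalars (algebraMap A B)).obj M) →ₗ[B] B ⊗[A] N :=
    ((extendScalarsEquivTensor (S := B) N : _ ≃ₗ[B] _) : _ →ₗ[B] _) ∘ₗ
      ((ModuleCat.extendScalars (algebraMap A B)).map f).hom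
  let R : ↑((ModuleCat.extendScalars (algebraMap A B)).obj M) →ₗ[B] B ⊗[A] N :=
    (f.hom.baseChange B) ∘ₗ ((extendScalarsEquivTensor (S := B) M : _ ≃ₗ[B] _) : _ →ₗ[B] _)
  show L z = R z
  refine TensorProduct.induction_on (motive := fun z => L z = R z) z ?_ ?_ ?_
  · exact (map_zero L).trans (map_zero R).symm
  · intro a m
    rfl
  · intro z w hz hw
    exact (map_add L z w).trans ((congrArg₂ (· + ·) hz hw).trans (map_add R z w).symm)

lemma comm_baseChange {M N : Type u} [AddCommGroup M] [Module A M] [AddCommGroup N] [Module A N]
    (f : M →ₗ[A] N) (w : B ⊗[A] M) :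
    TensorProduct.comm A B N ((f.baseChange B) w) = (f.rTensor B) (TensorProduct.comm A B M w) := by
  induction w using TensorProduct.induction_on with
  | zero => simp
  | tmul b m => simp
  | add x y hx hy => rw [map_add, map_add, hx, hy, map_add, map_add]

/-- `res (ext M) ≃ M ⊗ B`, `A`-linearly. -/
noncomputable def cmpEquiv (M : ModuleCat.{u} A) :
    ↑((ModuleCat.restrictScalars (algebraMap A B)).obj
      ((ModuleCat.extendScalars (algebraMap A B)).obj M)) ≃ₗ[A] (M ⊗[A] B) where
  toFun z := TensorProduct.comm A B M (extendScalarsEquivTensor (S := B) M z)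
  invFun w := (extendScalarsEquivTensor (S := B) M).symm ((TensorProduct.comm A B M).symm w)
  map_add' z w := by
    have h : ∀ (z w : ↑((ModuleCat.extendScalars (algebraMap A B)).obj M)),
        TensorProduct.comm A B M (extendScalarsEquivTensor (S := B) M (z + w)) =
          TensorProduct.comm A B M (extendScalarsEquivTensor (S := B) M z) +
            TensorProduct.comm A B M (extendScalarsEquivTensor (S := B) M w) :=
      fun z w => by rw [map_add, map_add]
    exact h z w
  map_smul' a z := by
    have h : ∀ (z : ↑((ModuleCat.extendScalars (algebraMap A B)).obj M)),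
        TensorProduct.comm A B M (extendScalarsEquivTensor (S := B) M ((algebraMap A B a) • z)) =
          a • TensorProduct.comm A B M (extendScalarsEquivTensor (S := B) M z) :=
      fun z => by rw [map_smul, algebraMap_smul, map_smul]
    exact h z
  left_inv z := by
    show (extendScalarsEquivTensor (S := B) M).symm ((TensorProduct.comm A B M).symm
      (TensorProduct.comm A B M (extendScalarsEquivTensor (S := B) M z))) = z
    rw [LinearEquiv.symm_apply_apply, LinearEquiv.symm_apply_apply]
  right_inv w := by
    show TensorProduct.comm A B M (extendScalarsEquivTensor (S := B) M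
      ((extendScalarsEquivTensor (S := B) M).symm ((TensorProduct.comm A B M).symm w))) = w
    rw [LinearEquiv.apply_symm_apply, LinearEquiv.apply_symm_apply]

/-- `res (ext M) ≅ M ⊗ B` in `ModuleCat A`. -/
noncomputable def cmpIso (M : ModuleCat.{u} A) :
    (ModuleCat.restrictScalars (algebraMap A B)).obj
      ((ModuleCat.extendScalars (algebraMap A B)).obj M) ≅ M ⊗ ModuleCat.of A B :=
  (cmpEquiv B M).toModuleIso

lemma cmpIso_naturality {M N : ModuleCat.{u} A} (f : M ⟶ N) :
    (ModuleCat.restrictScalars (algebraMap A B)).map
      ((ModuleCat.extendScalars (algebraMap A B)).map f) ≫ (cmpIso B N).hom =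
      (cmpIso B M).hom ≫ (f ▷ ModuleCat.of A B) := by
  apply ModuleCat.hom_ext
  apply LinearMap.ext
  intro z
  show TensorProduct.comm A B N (extendScalarsEquivTensor (S := B) N
      (((ModuleCat.extendScalars (algebraMap A B)).map f).hom z)) =
    (f.hom.rTensor B) (TensorProduct.comm A B M (extendScalarsEquivTensor (S := B) M z))
  rw [e_comm, comm_baseChange]

variable {ι : Type} {c : ComplexShape ι} (P : HomologicalComplex (ModuleCat.{u} A) c)

/-- The complex `P ⊗_A B` over `B`, restricted to `A`, is `CohIII.tensorObj P B`. -/
noncomputable def cxIso :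
    ((ModuleCat.restrictScalars (algebraMap A B)).mapHomologicalComplex c).obj
      (CohIII.bcCx (algebraMap A B) P) ≅ CohIII.tensorObj P (ModuleCat.of A B) :=
  HomologicalComplex.Hom.isoOfComponents (fun i => cmpIso B (P.X i))
    (fun i j _ => (cmpIso_naturality B (P.d i j)).symm)

/-- Restriction of scalars commutes with homology. -/
noncomputable def homologyResIso (p : ι) :
    (((ModuleCat.restrictScalars (algebraMap A B)).mapHomologicalComplex c).obj
      (CohIII.bcCx (algebraMap A B) P)).homology p ≅
      (ModuleCat.restrictScalars (algebraMap A B)).obj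
        ((CohIII.bcCx (algebraMap A B) P).homology p) :=
  haveI : (ModuleCat.restrictScalars.{u, u, u} (algebraMap A B)).PreservesHomology :=
    Functor.preservesHomologyOfExact _
  ((CohIII.bcCx (algebraMap A B) P).sc p).mapHomologyIso
    (ModuleCat.restrictScalars.{u, u, u} (algebraMap A B))

/-- `H_p(P ⊗_A B)`, restricted to `A`, is `T_p(B)`. -/
noncomputable def TBIso (p : ι) :
    (ModuleCat.restrictScalars (algebraMap A B)).obj
      ((CohIII.bcCx (algebraMap A B) P).homology p) ≅ CohIII.T P p (ModuleCat.of A B) :=
  (homologyResIso B P p).symm ≪≫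
    (HomologicalComplex.homologyFunctor _ _ p).mapIso (cxIso B P)

/-- underlying additive equivalence -/
noncomputable def TBEquiv (p : ι) :
    ((CohIII.bcCx (algebraMap A B) P).homology p) ≃+ CohIII.T P p (ModuleCat.of A B) :=
  (TBIso B P p).toLinearEquiv.toAddEquiv

lemma isZero_bc_iff (p : ι) :
    IsZero ((CohIII.bcCx (algebraMap A B) P).homology p) ↔
      IsZero (CohIII.T P p (ModuleCat.of A B)) := by
  rw [ModuleCat.isZero_iff_subsingleton, ModuleCat.isZero_iff_subsingleton]
  exact (TBEquiv B P p).toEquiv.subsingleton_congr

lemma finite_bc_of_finite (p : ι) (h : Module.Finite A (CohIII.T P p (ModuleCat.of A B))) :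
    Module.Finite B ((CohIII.bcCx (algebraMap A B) P).homology p) := by
  letI : Module A ((CohIII.bcCx (algebraMap A B) P).homology p) :=
    Module.compHom _ (algebraMap A B)
  haveI : IsScalarTower A B ((CohIII.bcCx (algebraMap A B) P).homology p) :=
    IsScalarTower.of_algebraMap_smul (fun r x => rfl)
  haveI : Module.Finite A ((CohIII.bcCx (algebraMap A B) P).homology p) :=
    Module.Finite.equiv (TBIso B P p).toLinearEquiv.symm
  exact Module.Finite.of_restrictScalars_finite A B _

end Groth.Agent.TFunCmp5
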