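import Mathlib
import Groth.Prelude
import Groth.Agent.Lib.BCLoc6_helper2
import Groth.Agent.Lib.TFunLocal_helper5
import Groth.Agent.Lib.TFunCmp_helper5
import Groth.Agent.Lib.TFunBC_helper5
import Groth.Agent.Lib.FiberRank_helper9

/-!
# Fibre cohomology concentrated in one degree: S2389 (helper2)
APPEND-ONLY once landed.
-/

set_option autoImplicit false
universe u
open CategoryTheory Limits AlgebraicGeometry TopologicalSpace Opposite TensorProduct MonoidalCategory

namespace Groth.Agent.Lib.BCLocH2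

section AlgConc

variable {A : Type u} [CommRing A] [IsNoetherianRing A] (P : ChainComplex (ModuleCat.{u} A) ℤ)
  (hP : ∀ i, Module.Finite A (P.X i) ∧ Module.Flat A (P.X i))

include hP in
/-- the localized complex is again finite flat -/
theorem finite_flat_bcLoc (x : PrimeSpectrum A) (i : ℤ) :
    Module.Finite (Localization.AtPrime x.asIdeal)
        ((CohIII.bcCx (algebraMap A (Localization.AtPrime x.asIdeal)) P).X i) ∧
      Module.Flat (Localization.AtPrime x.asIdeal)
        ((CohIII.bcCx (algebraMap A (Localization.AtPrime x.asIdeal)) P).X i) := by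
  haveI := (hP i).1
  exact ⟨Module.Finite.equiv (Groth.Agent.ExtendScalarsLib.extendScalarsEquivTensor
    (S := Localization.AtPrime x.asIdeal) (P.X i)).symm,
    Groth.Agent.TFunBC5.flat_bc_X P (fun i => (hP i).2) i⟩

include hP in
/-- global exactness of `T_p` from exactness over all localizations -/
theorem exact_of_forall_loc (p : ℤ)
    (hloc : ∀ x : PrimeSpectrum A,
      (CohIII.TFun (CohIII.bcCx (algebraMap A (Localization.AtPrime x.asIdeal)) P)
        p).PreservesMonomorphisms ∧
      (CohIII.TFun (CohIII.bcCx (algebraMap A (Localization.AtPrime x.asIdeal)) P)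
        p).PreservesEpimorphisms) :
    (CohIII.TFun P p).PreservesMonomorphisms ∧ (CohIII.TFun P p).PreservesEpimorphisms := by
  have hPf : ∀ i, Module.Flat A (P.X i) := fun i => (hP i).2
  have hfree1 : Module.freeLocus A (P.opcycles p) = Set.univ :=
    Set.eq_univ_of_forall fun x => (Groth.Agent.TFunBC5.mono_loc_iff P hP p x).mp (hloc x).1
  have hfree2 : Module.freeLocus A (P.opcycles (p - 1)) = Set.univ :=
    Set.eq_univ_of_forall fun x => (Groth.Agent.TFunBC5.epi_loc_iff P hP p x).mp (hloc x).2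
  haveI := Groth.Agent.TFunBC5.finitePresentation_opcycles P hP p
  haveI := Groth.Agent.TFunBC5.finitePresentation_opcycles P hP (p - 1)
  haveI hproj1 : Module.Projective A (P.opcycles p) := Module.freeLocus_eq_univ_iff.mp hfree1
  haveI hproj2 : Module.Projective A (P.opcycles (p - 1)) :=
    Module.freeLocus_eq_univ_iff.mp hfree2
  have hrel : (ComplexShape.down ℤ).Rel p (p - 1) := by simp
  refine ⟨(Groth.Agent.FlatCxLib.TFun_preservesMono_iff_flat_opcycles P p (hPf _)).mpr
    inferInstance, ?_⟩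
  rw [Groth.Agent.Lib.TFunLESH7.main P hPf p (p - 1) hrel]
  exact (Groth.Agent.FlatCxLib.TFun_preservesMono_iff_flat_opcycles P (p - 1) (hPf _)).mpr
    inferInstance

include hP in
/-- vanishing of the rank function at `x` gives the vanishing of `T_q` of the localized complex at
the residue field -/
theorem isZero_T_residue_of_dRank (q : ℤ) (x : PrimeSpectrum A) (h : CohIII.dRank P q x = 0) :
    IsZero ((CohIII.TFun (CohIII.bcCx (algebraMap A (Localization.AtPrime x.asIdeal)) P) q).obj
      (ModuleCat.of (Localization.AtPrime x.asIdeal)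
        (IsLocalRing.ResidueField (Localization.AtPrime x.asIdeal)))) := by
  have hcomp : (algebraMap (Localization.AtPrime x.asIdeal) x.asIdeal.ResidueField).comp
      (algebraMap A (Localization.AtPrime x.asIdeal)) =
      (RingHom.id x.asIdeal.ResidueField).comp (algebraMap A x.asIdeal.ResidueField) := by
    ext a
    rfl
  have hfr : Module.finrank x.asIdeal.ResidueField
      ((CohIII.bcCx (algebraMap (Localization.AtPrime x.asIdeal) x.asIdeal.ResidueField)
        (CohIII.bcCx (algebraMap A (Localization.AtPrime x.asIdeal)) P)).homology q) = 0 := by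
    rw [FiberRank9.finrank_homology_bc (algebraMap A (Localization.AtPrime x.asIdeal))
      (algebraMap (Localization.AtPrime x.asIdeal) x.asIdeal.ResidueField)
      (algebraMap A x.asIdeal.ResidueField) (RingHom.id _) hcomp P q]
    exact h
  haveI := (finite_flat_bcLoc P hP x q).1
  haveI hfinX : Module.Finite x.asIdeal.ResidueField
      ((CohIII.bcCx (algebraMap (Localization.AtPrime x.asIdeal) x.asIdeal.ResidueField)
        (CohIII.bcCx (algebraMap A (Localization.AtPrime x.asIdeal)) P)).X q) :=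
    Module.Finite.equiv (Groth.Agent.ExtendScalarsLib.extendScalarsEquivTensor
      (S := x.asIdeal.ResidueField)
      ((CohIII.bcCx (algebraMap A (Localization.AtPrime x.asIdeal)) P).X q)).symm
  haveI : Module.Finite x.asIdeal.ResidueField
      ((CohIII.bcCx (algebraMap (Localization.AtPrime x.asIdeal) x.asIdeal.ResidueField)
        (CohIII.bcCx (algebraMap A (Localization.AtPrime x.asIdeal)) P)).homology q) :=
    Groth.Agent.Lib.TFunEWH7.finite_homology _ q
  haveI hsub : Subsingleton
      ((CohIII.bcCx (algebraMap (Localization.AtPrime x.asIdeal) x.asIdeal.ResidueField)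
        (CohIII.bcCx (algebraMap A (Localization.AtPrime x.asIdeal)) P)).homology q) :=
    Module.finrank_zero_iff.mp hfr
  exact (Groth.Agent.TFunCmp5.isZero_bc_iff x.asIdeal.ResidueField
    (CohIII.bcCx (algebraMap A (Localization.AtPrime x.asIdeal)) P) q).mp
    (ModuleCat.isZero_of_subsingleton _)

include hP in
/-- if the rank functions in the two neighbouring degrees vanish identically then `T_p` is exact -/
theorem exact_of_dRank_zero (p q r : ℤ) (hqp : q + 1 = p) (hpr : p + 1 = r)
    (hq : ∀ x : PrimeSpectrum A, CohIII.dRank P q x = 0)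
    (hr : ∀ x : PrimeSpectrum A, CohIII.dRank P r x = 0) :
    (CohIII.TFun P p).PreservesMonomorphisms ∧ (CohIII.TFun P p).PreservesEpimorphisms := by
  apply exact_of_forall_loc P hP p
  intro x
  exact (Groth.Agent.TFunLocal5.s2411
    (CohIII.bcCx (algebraMap A (Localization.AtPrime x.asIdeal)) P)
    (finite_flat_bcLoc P hP x) p q r hqp hpr
    (isZero_T_residue_of_dRank P hP q x (hq x))
    (isZero_T_residue_of_dRank P hP r x (hr x))).1

end AlgConc

section Geo

/-- the local statement of S2389 over an affine open -/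
theorem free_nhd_2389 {X Y : Scheme.{u}} (f : X ⟶ Y) [IsProper f] [IsLocallyNoetherian Y]
    (F : X.Modules) (hF : Coh.IsCoh F) (hfl : FlatMod.IsFlatOver f F)
    [HasInjectiveResolutions X.Modules] (i0 : ℕ)
    (hconc : ∀ y : Y, ∀ i : ℕ, i ≠ i0 → Subsingleton (CohIII.fiberH f F y i))
    (V : Y.Opens) (hV : IsAffineOpen V) (y : Y) (hy : y ∈ V) :
    ∃ U : Y.Opens, y ∈ U ∧
      Nonempty (((Coh.Rpush f i0).obj F).restrict U.ι ≅
        FlatMod.freeMod (↑U) (CohIII.fiberRank f F i0 y)) := by
  haveI : IsAffine (V : Scheme.{u}) := hV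
  haveI : IsNoetherianRing Γ((V : Scheme.{u}), ⊤) :=
    IsLocallyNoetherian.component_noetherian ⟨⊤, isAffineOpen_top _⟩
  obtain ⟨P, hP, -, hpos, hrk, -, hsec⟩ := locPackage f F hF hfl V hV
  have hP' : ∀ i, Module.Finite Γ((V : Scheme.{u}), ⊤) (P.X i) ∧
      Module.Flat Γ((V : Scheme.{u}), ⊤) (P.X i) := fun i =>
    ⟨(hP i).1, haveI := (hP i).2; inferInstance⟩
  let h := Scheme.Hom.homeomorph (V : Scheme.{u}).toSpecΓ
  have hd : ∀ i : ℕ, i ≠ i0 → ∀ x : PrimeSpectrum Γ((V : Scheme.{u}), ⊤),
      CohIII.dRank P (-(i : ℤ)) x = 0 := by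
    intro i hi x
    obtain ⟨y', rfl⟩ := h.surjective x
    have h1 : CohIII.fiberRank f F i y'.1 = CohIII.dRank P (-(i : ℤ)) (h y') := hrk i y'.1 y'.2
    haveI := hconc y'.1 i hi
    have h2 : CohIII.fiberRank f F i y'.1 = 0 := by
      unfold CohIII.fiberRank
      exact Module.finrank_zero_of_subsingleton
    exact h1.symm.trans h2
  have hd1 : ∀ x : PrimeSpectrum Γ((V : Scheme.{u}), ⊤), CohIII.dRank P 1 x = 0 := by
    intro x
    have hz : IsZero ((CohIII.bcCx (algebraMap Γ((V : Scheme.{u}), ⊤) x.asIdeal.ResidueField)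
        P).homology 1) :=
      (Groth.Agent.TFunCmp5.isZero_bc_iff x.asIdeal.ResidueField P 1).mpr
        (hpos 1 (by norm_num) _)
    haveI := ModuleCat.subsingleton_of_isZero hz
    unfold CohIII.dRank
    exact Module.finrank_zero_of_subsingleton
  have hex : (CohIII.TFun P (-(i0 : ℤ))).PreservesMonomorphisms ∧
      (CohIII.TFun P (-(i0 : ℤ))).PreservesEpimorphisms := by
    rcases Nat.eq_zero_or_pos i0 with h0 | hpos0
    · subst h0
      exact exact_of_dRank_zero P hP' (-((0 : ℕ) : ℤ)) (-((0 + 1 : ℕ) : ℤ)) 1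
        (by norm_num) (by norm_num) (hd (0 + 1) (by omega)) hd1
    · obtain ⟨j, rfl⟩ : ∃ j : ℕ, i0 = j + 1 := ⟨i0 - 1, by omega⟩
      exact exact_of_dRank_zero P hP' (-((j + 1 : ℕ) : ℤ)) (-((j + 1 + 1 : ℕ) : ℤ)) (-(j : ℤ))
        (by push_cast; ring) (by push_cast; ring) (hd (j + 1 + 1) (by omega)) (hd j (by omega))
  obtain ⟨hfin, hproj, hrank⟩ := homology_facts_of_exact P hP' (-(i0 : ℤ)) hex
  haveI := hfin
  haveI := hproj
  haveI : ((Coh.Rpush f i0).obj F).IsQuasicoherent :=
    haveI : F.IsQuasicoherent := hF.1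
    RpushQC.isQuasicoherent_Rpush f F i0
  obtain ⟨e⟩ := hsec i0
  obtain ⟨U, hyU, hU⟩ := exists_free_nhd_of_sections ((Coh.Rpush f i0).obj F) V hV hy
    (P.homology (-(i0 : ℤ))) e
  rw [hrank, ← hrk i0 y hy] at hU
  exact ⟨U, hyU, hU⟩

/-- **S2389** -/
theorem main2389 {X Y : Scheme.{u}} (f : X ⟶ Y) [IsProper f] [IsLocallyNoetherian Y]
    (F : X.Modules) (hF : Coh.IsCoh F) (hfl : FlatMod.IsFlatOver f F)
    [HasInjectiveResolutions X.Modules] (i0 : ℕ)
    (hconc : ∀ y : Y, ∀ i : ℕ, i ≠ i0 → Subsingleton (CohIII.fiberH f F y i)) :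
    FlatMod.IsFinLocFree ((Coh.Rpush f i0).obj F) ∧
      ∀ y : Y, ∃ U : Y.Opens, y ∈ U ∧
        Nonempty (((Coh.Rpush f i0).obj F).restrict U.ι ≅
          FlatMod.freeMod (↑U) (CohIII.fiberRank f F i0 y)) := by
  have h2 : ∀ y : Y, ∃ U : Y.Opens, y ∈ U ∧
      Nonempty (((Coh.Rpush f i0).obj F).restrict U.ι ≅
        FlatMod.freeMod (↑U) (CohIII.fiberRank f F i0 y)) := by
    intro y
    obtain ⟨_, ⟨V, hV : IsAffineOpen V, rfl⟩, hyV, -⟩ :=
      (Y.isBasis_affineOpens).exists_subset_of_mem_open (Set.mem_univ y) isOpen_univ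
    exact free_nhd_2389 f F hF hfl i0 hconc V hV y hyV
  exact ⟨fun y => let ⟨U, hy, h⟩ := h2 y; ⟨U, _, hy, h⟩, h2⟩

end Geo

end Groth.Agent.Lib.BCLocH2
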