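import Mathlib
import Groth.Prelude
import Groth.Agent.Lib.BCLoc8_helper2
import Groth.Agent.Lib.BCFib1_helper2

/-!
# Canonical truncations of the Grothendieck complex (helper2)
APPEND-ONLY once landed.
-/

set_option autoImplicit false
universe u
open CategoryTheory Limits AlgebraicGeometry TopologicalSpace Opposite TensorProduct MonoidalCategory

namespace Groth.Agent.Lib.BCTruncH2

open Groth.Agent.Lib.BCAlgH2 Groth.Agent.Lib.BCLocH2

section General

variable {A : Type u} [CommRing A] {ι : Type} {c : ComplexShape ι}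
  (P : HomologicalComplex (ModuleCat.{u} A) c)

/-- `H_p(P) ≅ T_p(A)` for arbitrary complexes -/
noncomputable def homologyEquivTA' (p : ι) :
    P.homology p ≃ₗ[A] (CohIII.TFun P p).obj (ModuleCat.of A A) :=
  ((HomologicalComplex.homologyFunctor _ _ p).mapIso
    (HomologicalComplex.Hom.isoOfComponents (fun i => (ρ_ (P.X i)).symm)
      (fun i j _ => (rightUnitor_inv_naturality (P.d i j)).symm) :
      P ≅ CohIII.tensorObj P (ModuleCat.of A A))).toLinearEquiv

lemma isZero_T_of_isZero_X' (n : ι) (h : IsZero (P.X n)) (M : ModuleCat.{u} A) :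
    IsZero ((CohIII.TFun P n).obj M) :=
  isZero_homology_of_isZero_X _ _ ((MonoidalCategory.tensorRight M).map_isZero h)

lemma isZero_T_of_epi_of_homology' (hP : ∀ i, Module.Flat A (P.X i)) (n : ι)
    (he : (CohIII.TFun P n).PreservesEpimorphisms) (h0 : IsZero (P.homology n))
    (M : ModuleCat.{u} A) : IsZero ((CohIII.TFun P n).obj M) := by
  obtain ⟨e⟩ := Groth.Agent.Lib.TFunEWH7.iso_of_epi P hP n he
  haveI : Subsingleton (P.homology n) := ModuleCat.subsingleton_of_isZero h0
  haveI : Subsingleton ((CohIII.TFun P n).obj (ModuleCat.of A A)) :=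
    (homologyEquivTA' P n).symm.toEquiv.subsingleton
  have hz2 : IsZero ((tensorLeft ((CohIII.TFun P n).obj (ModuleCat.of A A))).obj M) := by
    haveI : Subsingleton ↑((tensorLeft ((CohIII.TFun P n).obj (ModuleCat.of A A))).obj M) :=
      subsingleton_tensor_of_left (A := A) ((CohIII.TFun P n).obj (ModuleCat.of A A)) M
    exact ModuleCat.isZero_of_subsingleton _
  exact IsZero.of_iso hz2 (e.app M).symm

lemma range_iCycles (i j : ι) (hij : c.Rel i j) :
    LinearMap.range (P.iCycles i).hom = LinearMap.ker (P.d i j).hom := by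
  have hS : (ShortComplex.mk (P.iCycles i) (P.d i j) (P.iCycles_d i j)).Exact :=
    ShortComplex.exact_of_f_is_kernel _ (P.cyclesIsKernel i j (c.next_eq' hij))
  exact hS.moduleCat_range_eq_ker

/-- the cycles as a concrete kernel -/
noncomputable def cyclesEquivKer (i j : ι) (hij : c.Rel i j) :
    P.cycles i ≃ₗ[A] LinearMap.ker (P.d i j).hom :=
  (LinearEquiv.ofInjective (P.iCycles i).hom
    ((ModuleCat.mono_iff_injective _).mp inferInstance)).trans
    (LinearEquiv.ofEq _ _ (range_iCycles P i j hij))

/-- the opcycles as a concrete quotient -/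
noncomputable def quotEquivOpcycles (i j : ι) (hij : c.Rel i j) :
    (P.X j ⧸ LinearMap.range (P.d i j).hom) ≃ₗ[A] P.opcycles j :=
  (Submodule.quotEquivOfEq _ _ (Groth.Agent.TFunLocal5.ker_pOpcycles P i j hij).symm).trans
    ((P.pOpcycles j).hom.quotKerEquivOfSurjective
      ((ModuleCat.epi_iff_surjective _).mp inferInstance))

/-- if the cokernel of `d : P_i → P_j` is flat (and `P_i`, `P_j` are) then so is its kernel -/
theorem flat_cycles_of_flat_opcycles (i j : ι) (hij : c.Rel i j) (hi : Module.Flat A (P.X i))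
    (hj : Module.Flat A (P.X j)) (hop : Module.Flat A (P.opcycles j)) :
    Module.Flat A (P.cycles i) := by
  set g : P.X i →ₗ[A] P.X j := (P.d i j).hom with hg
  haveI h1 : Module.Flat A (P.X j ⧸ LinearMap.range g) :=
    (Module.Flat.equiv_iff (quotEquivOpcycles P i j hij)).mpr hop
  haveI h2 : Module.Flat A (LinearMap.range g) :=
    Groth.Agent.TFunBCH5.flat_of_flat_of_flat_coker (LinearMap.range g).subtype
      (LinearMap.range g).mkQ (Submodule.subtype_injective _) (LinearMap.exact_subtype_mkQ _)
      (Submodule.mkQ_surjective _)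
  have hex : Function.Exact (LinearMap.ker g).subtype g.rangeRestrict := by
    intro x
    constructor
    · intro h
      exact ⟨⟨x, LinearMap.mem_ker.mpr (by simpa using congrArg Subtype.val h)⟩, rfl⟩
    · rintro ⟨y, rfl⟩
      exact Subtype.ext (LinearMap.mem_ker.mp y.2)
  haveI h3 : Module.Flat A (LinearMap.ker g) :=
    Groth.Agent.TFunBCH5.flat_of_flat_of_flat_coker (LinearMap.ker g).subtype g.rangeRestrict
      (Submodule.subtype_injective _) hex (LinearMap.surjective_rangeRestrict g)
  exact Module.Flat.of_linearEquiv (cyclesEquivKer P i j hij)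

end General

section Cochain

variable {A : Type u} [CommRing A] (L : Cx A)

/-- descending induction: a bounded above flat complex which is exact above `d` has `T^n = 0` for
all `n > d` -/
theorem isZero_T_above (hL : ∀ i, Module.Flat A (L.X i)) (b : ℤ)
    (hb : ∀ i, b < i → IsZero (L.X i)) (d : ℤ) (h0 : ∀ i, d < i → IsZero (L.homology i)) :
    ∀ n : ℤ, d < n → ∀ M : ModuleCat.{u} A, IsZero ((CohIII.TFun L n).obj M) := by
  have key : ∀ k : ℕ, ∀ n : ℤ, b < n + k → d < n →
      ∀ M : ModuleCat.{u} A, IsZero ((CohIII.TFun L n).obj M) := by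
    intro k
    induction k with
    | zero =>
      intro n hn _ M
      exact isZero_T_of_isZero_X' L n (hb n (by simpa using hn)) M
    | succ k ih =>
      intro n hn hn0 M
      by_cases hlt : b < n + k
      · exact ih n hlt hn0 M
      · have hnext : ∀ M, IsZero ((CohIII.TFun L (n + 1)).obj M) := fun M =>
          ih (n + 1) (by push_cast at hn; omega) (by omega) M
        have hrel : (ComplexShape.up ℤ).Rel n (n + 1) := rfl
        have he : (CohIII.TFun L n).PreservesEpimorphisms :=
          (Groth.Agent.Lib.TFunLESH7.main L hL n (n + 1) hrel).2 (presMono_of_isZero hnext)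
        exact isZero_T_of_epi_of_homology' L hL n he (h0 n hn0) M
  intro n hn M
  by_cases hnb : b < n
  · exact isZero_T_of_isZero_X' L n (hb n hnb) M
  · exact key (b - n).toNat.succ n (by push_cast; omega) hn M

/-- **top truncation** -/
theorem topTrunc [IsNoetherianRing A]
    (hL : ∀ i, Module.Finite A (L.X i) ∧ Module.Flat A (L.X i))
    (b : ℤ) (hb : ∀ i, b < i → IsZero (L.X i)) (d : ℤ)
    (h0 : ∀ i, d < i → IsZero (L.homology i)) :
    ∃ (L1 : Cx A) (u : L1 ⟶ L),
      (∀ i, Module.Finite A (L1.X i) ∧ Module.Flat A (L1.X i)) ∧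
      (∀ i, d < i → IsZero (L1.X i)) ∧ (∀ i, IsZero (L.X i) → IsZero (L1.X i)) ∧
      ∀ M : ModuleCat.{u} A, QuasiIso ((TR M).map u) := by
  have hLf : ∀ i, Module.Flat A (L.X i) := fun i => (hL i).2
  have hT := isZero_T_above L hLf b hb d h0
  have hop : Module.Flat A (L.opcycles (d + 1)) :=
    (Groth.Agent.FlatCxLib.TFun_preservesMono_iff_flat_opcycles L (d + 1) (hLf _)).mp
      (presMono_of_isZero (hT (d + 1) (by omega)))
  have hcyc : Module.Flat A (L.cycles d) :=
    flat_cycles_of_flat_opcycles L d (d + 1) rfl (hLf _) (hLf _) hop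
  have hterms : ∀ i, Module.Finite A ((L.truncLE d).X i) ∧
      Module.Flat A ((L.truncLE d).X i) := by
    intro i
    rcases lt_trichotomy i d with hi | hi | hi
    · haveI := (hL i).1
      haveI := (hL i).2
      exact ⟨Module.Finite.equiv (L.truncLEXIso d i hi).symm.toLinearEquiv,
        Module.Flat.of_linearEquiv (L.truncLEXIso d i hi).toLinearEquiv⟩
    · subst hi
      haveI := (hL i).1
      haveI : IsNoetherian A (L.X i) := isNoetherian_of_isNoetherianRing_of_finite A _
      haveI : Module.Finite A (L.cycles i) := Module.Finite.of_injective (L.iCycles i).hom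
        ((ModuleCat.mono_iff_injective _).mp inferInstance)
      haveI := hcyc
      exact ⟨Module.Finite.equiv (L.truncLEXIsoCycles i).symm.toLinearEquiv,
        Module.Flat.of_linearEquiv (L.truncLEXIsoCycles i).toLinearEquiv⟩
    · haveI : Subsingleton ((L.truncLE d).X i) :=
        ModuleCat.subsingleton_of_isZero ((L.truncLE d).isZero_of_isStrictlyLE d i hi)
      exact ⟨inferInstance, inferInstance⟩
  have hzero : ∀ i, IsZero (L.X i) → IsZero ((L.truncLE d).X i) := by
    intro i hz
    rcases lt_trichotomy i d with hi | hi | hi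
    · exact IsZero.of_iso hz (L.truncLEXIso d i hi)
    · subst hi
      exact IsZero.of_iso (IsZero.of_mono (L.iCycles i) hz) (L.truncLEXIsoCycles i)
    · exact (L.truncLE d).isZero_of_isStrictlyLE d i hi
  haveI hLE : L.IsLE d := (L.isLE_iff d).mpr (fun i hi =>
    (HomologicalComplex.exactAt_iff_isZero_homology _ _).mpr (h0 i hi))
  haveI : QuasiIso (L.ιTruncLE d) := inferInstance
  refine ⟨L.truncLE d, L.ιTruncLE d, hterms,
    fun i hi => (L.truncLE d).isZero_of_isStrictlyLE d i hi, hzero, fun M => ?_⟩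
  refine quasiIso_tensor_of_bound (L.ιTruncLE d) (fun i => (hterms i).2) hLf (max b d)
    (fun N i hi => ?_) M
  have h1 : IsZero (((TR N).obj (L.truncLE d)).homology i) :=
    isZero_homology_of_isZero_X _ i ((tensorRight N).map_isZero
      ((L.truncLE d).isZero_of_isStrictlyLE d i (lt_of_le_of_lt (le_max_right _ _) hi)))
  have h2 : IsZero (((TR N).obj L).homology i) :=
    isZero_homology_of_isZero_X _ i ((tensorRight N).map_isZero
      (hb i (lt_of_le_of_lt (le_max_left _ _) hi)))
  exact ⟨⟨0, h1.eq_of_src _ _, h2.eq_of_src _ _⟩⟩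

/-- **bottom truncation** -/
theorem botTrunc [IsNoetherianRing A]
    (hL : ∀ i, Module.Finite A (L.X i) ∧ Module.Flat A (L.X i))
    (b : ℤ) (hb : ∀ i, b < i → IsZero (L.X i)) (d' : ℤ)
    (h0 : ∀ i, i < d' → IsZero (L.homology i))
    (hm : (CohIII.TFun L d').PreservesMonomorphisms) :
    ∃ (L2 : Cx A) (π : L ⟶ L2),
      (∀ i, Module.Finite A (L2.X i) ∧ Module.Flat A (L2.X i)) ∧
      (∀ i, i < d' → IsZero (L2.X i)) ∧ (∀ i, IsZero (L.X i) → IsZero (L2.X i)) ∧
      ∀ M : ModuleCat.{u} A, QuasiIso ((TR M).map π) := by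
  have hLf : ∀ i, Module.Flat A (L.X i) := fun i => (hL i).2
  have hop : Module.Flat A (L.opcycles d') :=
    (Groth.Agent.FlatCxLib.TFun_preservesMono_iff_flat_opcycles L d' (hLf _)).mp hm
  have hterms : ∀ i, Module.Finite A ((L.truncGE d').X i) ∧
      Module.Flat A ((L.truncGE d').X i) := by
    intro i
    rcases lt_trichotomy i d' with hi | hi | hi
    · haveI : Subsingleton ((L.truncGE d').X i) :=
        ModuleCat.subsingleton_of_isZero ((L.truncGE d').isZero_of_isStrictlyGE d' i hi)
      exact ⟨inferInstance, inferInstance⟩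
    · subst hi
      haveI := (hL i).1
      haveI : Module.Finite A (L.opcycles i) := Module.Finite.of_surjective (L.pOpcycles i).hom
        ((ModuleCat.epi_iff_surjective _).mp inferInstance)
      haveI := hop
      exact ⟨Module.Finite.equiv (L.truncGEXIsoOpcycles i).symm.toLinearEquiv,
        Module.Flat.of_linearEquiv (L.truncGEXIsoOpcycles i).toLinearEquiv⟩
    · haveI := (hL i).1
      haveI := (hL i).2
      exact ⟨Module.Finite.equiv (L.truncGEXIso d' i hi).symm.toLinearEquiv,
        Module.Flat.of_linearEquiv (L.truncGEXIso d' i hi).toLinearEquiv⟩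
  have hzero : ∀ i, IsZero (L.X i) → IsZero ((L.truncGE d').X i) := by
    intro i hz
    rcases lt_trichotomy i d' with hi | hi | hi
    · exact (L.truncGE d').isZero_of_isStrictlyGE d' i hi
    · subst hi
      exact IsZero.of_iso (IsZero.of_epi (L.pOpcycles i) hz) (L.truncGEXIsoOpcycles i)
    · exact IsZero.of_iso hz (L.truncGEXIso d' i hi)
  haveI hGE : L.IsGE d' := (L.isGE_iff d').mpr (fun i hi =>
    (HomologicalComplex.exactAt_iff_isZero_homology _ _).mpr (h0 i hi))
  haveI : QuasiIso (L.πTruncGE d') := inferInstance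
  refine ⟨L.truncGE d', L.πTruncGE d', hterms,
    fun i hi => (L.truncGE d').isZero_of_isStrictlyGE d' i hi, hzero, fun M => ?_⟩
  refine quasiIso_tensor_of_bound (L.πTruncGE d') hLf (fun i => (hterms i).2) b
    (fun N i hi => ?_) M
  have h1 : IsZero (((TR N).obj L).homology i) :=
    isZero_homology_of_isZero_X _ i ((tensorRight N).map_isZero (hb i hi))
  have h2 : IsZero (((TR N).obj (L.truncGE d')).homology i) :=
    isZero_homology_of_isZero_X _ i ((tensorRight N).map_isZero (hzero i (hb i hi)))
  exact ⟨⟨0, h1.eq_of_src _ _, h2.eq_of_src _ _⟩⟩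

/-- **two-sided truncation of the Grothendieck complex** -/
theorem exists_trunc [IsNoetherianRing A]
    (hL : ∀ i, Module.Finite A (L.X i) ∧ Module.Flat A (L.X i))
    (b : ℤ) (hb : ∀ i, b < i → IsZero (L.X i)) (d' d : ℤ)
    (hTop : ∀ i, d < i → IsZero (L.homology i))
    (hBot : ∀ i, i < d' → ∀ M : ModuleCat.{u} A, IsZero ((CohIII.TFun L i).obj M)) :
    ∃ L' : Cx A, (∀ i, Module.Finite A (L'.X i) ∧ Module.Projective A (L'.X i)) ∧
      (∀ i, i < d' ∨ d < i → IsZero (L'.X i)) ∧
      ∀ p : ℤ, Nonempty (CohIII.TFun L p ≅ CohIII.TFun L' p) := by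
  have hLf : ∀ i, Module.Flat A (L.X i) := fun i => (hL i).2
  obtain ⟨L1, u, hL1, hL1top, hL1z, hu⟩ := topTrunc L hL b hb d hTop
  have e1 : ∀ p : ℤ, CohIII.TFun L1 p ≅ CohIII.TFun L p := fun p => TFunIso u hu p
  have h0' : ∀ i, i < d' → IsZero (L1.homology i) := by
    intro i hi
    have hz : IsZero ((CohIII.TFun L1 i).obj (ModuleCat.of A A)) :=
      IsZero.of_iso (hBot i hi (ModuleCat.of A A)) ((e1 i).app _)
    haveI : Subsingleton ((CohIII.TFun L1 i).obj (ModuleCat.of A A)) :=
      ModuleCat.subsingleton_of_isZero hz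
    haveI : Subsingleton (L1.homology i) := (homologyEquivTA' L1 i).toEquiv.subsingleton
    exact ModuleCat.isZero_of_subsingleton _
  have hrel : (ComplexShape.up ℤ).Rel (d' - 1) d' := by
    show d' - 1 + 1 = d'
    omega
  have hmL : (CohIII.TFun L d').PreservesMonomorphisms :=
    (Groth.Agent.Lib.TFunLESH7.main L hLf (d' - 1) d' hrel).1
      (presEpi_of_isZero (hBot (d' - 1) (by omega)))
  have hm1 : (CohIII.TFun L1 d').PreservesMonomorphisms :=
    haveI := hmL
    Functor.PreservesMonomorphisms.of_iso (e1 d').symm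
  obtain ⟨L2, π, hL2, hL2bot, hL2z, hπ⟩ := botTrunc L1 hL1 b
    (fun i hi => hL1z i (hb i hi)) d' h0' hm1
  refine ⟨L2, fun i => ?_, fun i hi => ?_, fun p => ⟨(e1 p).symm ≪≫ TFunIso π hπ p⟩⟩
  · haveI := (hL2 i).1
    haveI := (hL2 i).2
    haveI : Module.FinitePresentation A (L2.X i) := Module.finitePresentation_of_finite A _
    exact ⟨inferInstance, Module.Flat.projective_of_finitePresentation⟩
  · rcases hi with hi | hi
    · exact hL2bot i hi
    · exact hL2z i (hL1top i hi)

end Cochain

end Groth.Agent.Lib.BCTruncH2
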