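import Mathlib
import Groth.Prelude
import Groth.Agent.Lib.BCTrunc1_helper2

/-!
# A finite projective complex of bounded amplitude computing base-change cohomology: S14619
(helper2)  APPEND-ONLY once landed.
-/

set_option autoImplicit false
universe u
open CategoryTheory Limits AlgebraicGeometry TopologicalSpace Opposite TensorProduct MonoidalCategory

namespace Groth.Agent.Lib.BCTruncH2

open Groth.Agent.Lib.BCAlgH2 Groth.Agent.Lib.BCLocH2 Groth.Agent.Lib.BCFibH2 Groth.Agent.Lib.FibVanH2
  Groth.Agent.Lib.BCMainH2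

section AlgVanish

variable {A : Type u} [CommRing A] [IsNoetherianRing A] (P : ChainComplex (ModuleCat.{u} A) ℤ)
  (hP : ∀ i, Module.Finite A (P.X i) ∧ Module.Flat A (P.X i))

include hP in
/-- if the rank function `d_q` vanishes identically then `T_q = 0` -/
theorem isZero_T_of_dRank_zero (q : ℤ) (h : ∀ x : PrimeSpectrum A, CohIII.dRank P q x = 0)
    (M : ModuleCat.{u} A) : IsZero ((CohIII.TFun P q).obj M) := by
  have hPf : ∀ i, Module.Flat A (P.X i) := fun i => (hP i).2
  have hloc : ∀ x : PrimeSpectrum A,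
      (CohIII.TFun (CohIII.bcCx (algebraMap A (Localization.AtPrime x.asIdeal)) P)
        q).PreservesMonomorphisms ∧
      (CohIII.TFun (CohIII.bcCx (algebraMap A (Localization.AtPrime x.asIdeal)) P)
        q).PreservesEpimorphisms := by
    intro x
    have hz := Groth.Agent.TFunLocal5.isZero_of_isZero_residue
      (CohIII.bcCx (algebraMap A (Localization.AtPrime x.asIdeal)) P)
      (finite_flat_bcLoc P hP x) q (isZero_T_residue_of_dRank P hP q x (h x))
    exact ⟨presMono_of_isZero hz, presEpi_of_isZero hz⟩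
  have hex := exact_of_forall_loc P hP q hloc
  obtain ⟨hfin, hproj, hrank⟩ := homology_facts_of_exact P hP q hex
  haveI := hfin
  haveI := hproj
  have hr0 : Module.rankAtStalk (R := A) (P.homology q) = 0 := by
    funext x
    rw [hrank x, h x]
    rfl
  haveI hsub : Subsingleton (P.homology q) :=
    Module.rankAtStalk_eq_zero_iff_subsingleton.mp hr0
  exact isZero_T_of_epi_of_homology P hPf q hex.2 hsub M

end AlgVanish

/-- **S14619** -/
theorem main14619 (A : Type u) [CommRing A] [IsNoetherianRing A] (X : Scheme.{u})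
    [X.Over (Spec (CommRingCat.of A))]
    [IsProper (X ↘ Spec (CommRingCat.of A))] (F : X.Modules) (hF : Coh.IsCoh F)
    (hfl : FlatMod.IsFlatOver (X ↘ Spec (CommRingCat.of A)) F) (d' d : ℕ)
    (hd : ∀ p : ℕ, d < p → Subsingleton (Coh.HH X F p))
    (hd' : ∀ (y : ↑(Spec (CommRingCat.of A))) (p : ℕ), p < d' →
      Subsingleton (CohIII.fiberH (X ↘ Spec (CommRingCat.of A)) F y p)) :
    ∃ L : CochainComplex (ModuleCat.{u} A) ℤ,
      (∀ i, Module.Finite A (L.X i) ∧ Module.Projective A (L.X i)) ∧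
      (∀ i : ℤ, i < (d' : ℤ) ∨ (d : ℤ) < i → IsZero (L.X i)) ∧
      ((∀ p : ℕ, Subsingleton (Coh.HH X F p)) → ∀ i, IsZero (L.X i)) ∧
      ∀ (B : Type u) [CommRing B] [Algebra A B] (p : ℕ),
        Nonempty (Coh.HH (pullback (X ↘ Spec (CommRingCat.of A))
              (Spec.map (CommRingCat.ofHom (algebraMap A B))))
            ((Scheme.Modules.pullback (pullback.fst (X ↘ Spec (CommRingCat.of A))
              (Spec.map (CommRingCat.ofHom (algebraMap A B))))).obj F) p ≃+
          CohIII.T L (p : ℤ) (ModuleCat.of A B)) := by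
  obtain ⟨L, hL, ⟨b, hb⟩, hneg, -, hH, hbc⟩ := mainBC2 A X F hF hfl
  have hL' : ∀ i, Module.Finite A (L.X i) ∧ Module.Flat A (L.X i) := fun i =>
    ⟨(hL i).1, haveI := (hL i).2; inferInstance⟩
  have hPc : ∀ i, Module.Finite A ((toChain L).X i) ∧ Module.Flat A ((toChain L).X i) :=
    fun i => hL' (-i)
  -- vanishing below `d'`
  have hBot : ∀ i : ℤ, i < (d' : ℤ) → ∀ M : ModuleCat.{u} A,
      IsZero ((CohIII.TFun L i).obj M) := by
    intro i hi M
    by_cases hi0 : i < 0
    · exact hneg i hi0 M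
    · obtain ⟨p, rfl⟩ : ∃ p : ℕ, i = (p : ℤ) := ⟨i.toNat, by omega⟩
      have hp : p < d' := by exact_mod_cast hi
      have hdr : ∀ y : PrimeSpectrum A, CohIII.dRank (toChain L) (-(p : ℤ)) y = 0 := by
        intro y
        letI := fibreOver A (X := X) y
        obtain ⟨e⟩ := hbc y.asIdeal.ResidueField ((X ↘ Spec (CommRingCat.of A)).fiber y)
          ((X ↘ Spec (CommRingCat.of A)).fiberι y) (isPullback_fibre' A y) p
        have e2 := (homologyRestrIso (CohIII.bcCx (algebraMap A y.asIdeal.ResidueField) L)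
          (-(p : ℤ)) (p : ℤ) (neg_neg _)).toLinearEquiv
        haveI : Subsingleton
            ((CohIII.bcCx (algebraMap A y.asIdeal.ResidueField) (toChain L)).homology
              (-(p : ℤ))) :=
          @Equiv.subsingleton _ _ (e2.trans e).toEquiv (hd' y p hp)
        unfold CohIII.dRank
        exact Module.finrank_zero_of_subsingleton
      have hz := isZero_T_of_dRank_zero (toChain L) hPc (-(p : ℤ)) hdr M
      have h : -(-(p : ℤ)) = (p : ℤ) := neg_neg _
      exact IsZero.of_iso hz
        ((TFunRestr L (-(p : ℤ)) ≪≫ eqToIso (congrArg (CohIII.TFun L) h)).app M).symm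
  -- vanishing of the homology above a bound
  have hTopGen : ∀ D : ℤ, (∀ p : ℕ, D < (p : ℤ) → Subsingleton (Coh.HH X F p)) → -1 ≤ D →
      ∀ i : ℤ, D < i → IsZero (L.homology i) := by
    intro D hD hD1 i hi
    obtain ⟨p, rfl⟩ : ∃ p : ℕ, i = (p : ℤ) := ⟨i.toNat, by omega⟩
    obtain ⟨e⟩ := hH p
    haveI := hD p hi
    haveI : Subsingleton (L.homology (p : ℤ)) := e.toEquiv.subsingleton
    exact ModuleCat.isZero_of_subsingleton _
  -- the base change statement for any complex with the same `T`-functors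
  have fin : ∀ L' : Cx A, (∀ p : ℤ, Nonempty (CohIII.TFun L p ≅ CohIII.TFun L' p)) →
      ∀ (B : Type u) [CommRing B] [Algebra A B] (p : ℕ),
        Nonempty (Coh.HH (pullback (X ↘ Spec (CommRingCat.of A))
              (Spec.map (CommRingCat.ofHom (algebraMap A B))))
            ((Scheme.Modules.pullback (pullback.fst (X ↘ Spec (CommRingCat.of A))
              (Spec.map (CommRingCat.ofHom (algebraMap A B))))).obj F) p ≃+
          CohIII.T L' (p : ℤ) (ModuleCat.of A B)) := by
    intro L' hT B _ _ p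
    letI : (pullback (X ↘ Spec (CommRingCat.of A))
        (Spec.map (CommRingCat.ofHom (algebraMap A B)))).Over (Spec (CommRingCat.of B)) :=
      ⟨pullback.snd _ _⟩
    obtain ⟨e⟩ := hbc B (pullback (X ↘ Spec (CommRingCat.of A))
        (Spec.map (CommRingCat.ofHom (algebraMap A B))))
      (pullback.fst _ _) (IsPullback.of_hasPullback _ _) p
    obtain ⟨ε⟩ := hT p
    exact ⟨e.symm.toAddEquiv.trans ((Groth.Agent.TFunCmp5.TBEquiv B L (p : ℤ)).trans
      (ε.app (ModuleCat.of A B)).toLinearEquiv.toAddEquiv)⟩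
  by_cases hall : ∀ p : ℕ, Subsingleton (Coh.HH X F p)
  · obtain ⟨L', h1, h2, h3⟩ := exists_trunc L hL' b hb 0 (-1)
      (hTopGen (-1) (fun p _ => hall p) le_rfl) (fun i hi => hneg i hi)
    have hz : ∀ i, IsZero (L'.X i) := fun i => h2 i (by omega)
    exact ⟨L', h1, fun i _ => hz i, fun _ i => hz i, fin L' h3⟩
  · obtain ⟨L', h1, h2, h3⟩ := exists_trunc L hL' b hb (d' : ℤ) (d : ℤ)
      (hTopGen (d : ℤ) (fun p hp => hd p (by exact_mod_cast hp)) (by omega)) hBot
    exact ⟨L', h1, h2, fun h => absurd h hall, fin L' h3⟩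

end Groth.Agent.Lib.BCTruncH2
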