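import Mathlib
import Groth.Prelude
import Groth.Agent.Lib.BCTrunc2_helper2
import Groth.Agent.Lib.ProjSpaceProper_helper4
import Groth.Agent.Lib.ProperFin9_helper9

/-!
# Cohomology and base change over a discrete valuation ring: S11560 (helper2)
APPEND-ONLY once landed.
-/

set_option autoImplicit false
universe u
open CategoryTheory Limits AlgebraicGeometry TopologicalSpace Opposite TensorProduct MonoidalCategory

namespace Groth.Agent.Lib.BCDvrH2

open Groth.Agent.Lib.BCAlgH2 Groth.Agent.Lib.BCLocH2 Groth.Agent.Lib.BCFibH2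
  Groth.Agent.Lib.BCMainH2 Groth.Agent.Lib.BCTruncH2 Groth.Agent.Lib.FibVanH2

/-- **The Grothendieck complex with all its properties.** -/
theorem mainBC3 (A : Type u) [CommRing A] [IsNoetherianRing A] (X : Scheme.{u})
    [X.Over (Spec (CommRingCat.of A))] [IsProper (X ↘ Spec (CommRingCat.of A))]
    (F : X.Modules) (hF : Coh.IsCoh F)
    (hfl : FlatMod.IsFlatOver (X ↘ Spec (CommRingCat.of A)) F) :
    ∃ L : CochainComplex (ModuleCat.{u} A) ℤ,
      (∀ i, Module.Finite A (L.X i) ∧ Module.Free A (L.X i)) ∧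
      (∃ b : ℤ, ∀ i, b < i → IsZero (L.X i)) ∧
      (∀ i : ℤ, i < 0 → ∀ M : ModuleCat.{u} A, IsZero ((CohIII.TFun L i).obj M)) ∧
      (∀ p : ℕ, Nonempty (CohIII.tensorAFunctor A F ⋙ CohIII.HAb X p ≅
        CohIII.TFun L (p : ℤ) ⋙ forget₂ (ModuleCat.{u} A) AddCommGrpCat.{u})) ∧
      (∀ p : ℕ, Nonempty (L.homology (p : ℤ) ≃ₗ[A] Coh.HH X F p)) ∧
      (∀ (p : ℕ) (y : PrimeSpectrum A),
        CohIII.fiberRank (X ↘ Spec (CommRingCat.of A)) F p y =
          CohIII.dRank (toChain L) (-(p : ℤ)) y) ∧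
      ∀ (A' : Type u) [CommRing A'] [Algebra A A'] (X' : Scheme.{u})
        [X'.Over (Spec (CommRingCat.of A'))] (g' : X' ⟶ X)
        (_ : IsPullback g' (X' ↘ Spec (CommRingCat.of A')) (X ↘ Spec (CommRingCat.of A))
          (Spec.map (CommRingCat.ofHom (algebraMap A A')))) (p : ℕ),
        Nonempty ((CohIII.bcCx (algebraMap A A') L).homology (p : ℤ) ≃ₗ[A']
          Coh.HH X' ((Scheme.Modules.pullback g').obj F) p) := by
  obtain ⟨L, hL, hb, hneg, hiso, hH, hbc⟩ := mainBC2 A X F hF hfl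
  refine ⟨L, hL, hb, hneg, hiso, hH, fun p y => ?_, hbc⟩
  letI := fibreOver A (X := X) y
  obtain ⟨e⟩ := hbc y.asIdeal.ResidueField ((X ↘ Spec (CommRingCat.of A)).fiber y)
    ((X ↘ Spec (CommRingCat.of A)).fiberι y) (isPullback_fibre' A y) p
  rw [fiberRank_eq A y F p]
  unfold CohIII.dRank
  have e2 := (homologyRestrIso (CohIII.bcCx (algebraMap A y.asIdeal.ResidueField) L)
    (-(p : ℤ)) (p : ℤ) (neg_neg _)).toLinearEquiv
  exact (e2.trans e).finrank_eq.symm

/-- **S11560** -/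
theorem main11560 (R : Type u) [CommRing R] [IsDomain R]
    [IsDiscreteValuationRing R] (X : Scheme.{u}) [X.Over (Spec (CommRingCat.of R))] (n : ℕ)
    (ι : X ⟶ CohB1.ProjSpaceOver n (Spec (CommRingCat.of R))) [IsClosedImmersion ι]
    (hι : ι ≫ CohB1.ProjSpaceOver.toBase n (Spec (CommRingCat.of R)) =
      X ↘ Spec (CommRingCat.of R))
    (F : X.Modules) (hF : Coh.IsCoh F)
    (hfl : FlatMod.IsFlatOver (X ↘ Spec (CommRingCat.of R)) F)
    (p : ℕ) (s : ↥(Spec (CommRingCat.of R)))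
    (hs : s ≠ genericPoint ↥(Spec (CommRingCat.of R))) :
    PerfAux.betti (X ↘ Spec (CommRingCat.of R)) F s p =
        PerfAux.betti (X ↘ Spec (CommRingCat.of R)) F
          (genericPoint ↥(Spec (CommRingCat.of R))) p ↔
      Module.Free R (Coh.HH X F p) ∧ Module.Free R (Coh.HH X F (p + 1)) := by
  haveI : IsProper (X ↘ Spec (CommRingCat.of R)) := by
    rw [← hι]
    haveI := Groth.Agent.Lib.ProjSpaceProperH4.isProper_toBase n (Spec (CommRingCat.of R))
    infer_instance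
  obtain ⟨L, hL, -, -, -, hH, hrk, -⟩ := mainBC3 R X F hF hfl
  have hL' : ∀ i, Module.Finite R (L.X i) ∧ Module.Flat R (L.X i) := fun i =>
    ⟨(hL i).1, haveI := (hL i).2; inferInstance⟩
  have hP : ∀ i, Module.Finite R ((toChain L).X i) ∧ Module.Flat R ((toChain L).X i) :=
    fun i => hL' (-i)
  have hPf : ∀ i, Module.Flat R ((toChain L).X i) := fun i => (hP i).2
  have hη : genericPoint ↥(Spec (CommRingCat.of R)) = (⊥ : PrimeSpectrum R) :=
    genericPoint_eq_bot_of_affine (CommRingCat.of R)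
  have hs' : s = IsLocalRing.closedPoint R := by
    have h1 : s.asIdeal ≠ ⊥ := by
      intro h
      apply hs
      rw [hη]
      exact PrimeSpectrum.ext h
    have h2 : s.asIdeal.IsMaximal := Ring.DimensionLEOne.maximalOfPrime h1 s.2
    exact PrimeSpectrum.ext (IsLocalRing.eq_maximalIdeal h2)
  have hb : ∀ y : PrimeSpectrum R, PerfAux.betti (X ↘ Spec (CommRingCat.of R)) F y p =
      CohIII.dRank (toChain L) (-(p : ℤ)) y := fun y => hrk p y
  rw [hb, hb, hη, hs']
  have h2382 := Groth.Agent.TFunRank5.s2382 (toChain L) hP (-(p : ℤ))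
  have hmin : ∀ q : PrimeSpectrum R, q.asIdeal ∈ minimalPrimes R → q = ⊥ := by
    intro q hq
    have h1 : minimalPrimes R = {⊥} := by
      show (⊥ : Ideal R).minimalPrimes = {⊥}
      exact Ideal.minimalPrimes_eq_subsingleton_self
    rw [h1] at hq
    exact PrimeSpectrum.ext hq
  have h4489 := (Groth.Agent.TFunBC5.s4489 (toChain L) hPf (-(p : ℤ)) (-(p : ℤ) - 1)
    (by ring)).2
  obtain ⟨e0⟩ := hH p
  obtain ⟨e1⟩ := hH (p + 1)
  have ep : (toChain L).homology (-(p : ℤ)) ≃ₗ[R] Coh.HH X F p :=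
    (homologyRestrIso L (-(p : ℤ)) (p : ℤ) (neg_neg _)).toLinearEquiv ≪≫ₗ e0
  have ep1 : (toChain L).homology (-(p : ℤ) - 1) ≃ₗ[R] Coh.HH X F (p + 1) :=
    (homologyRestrIso L (-(p : ℤ) - 1) ((p + 1 : ℕ) : ℤ)
      (by push_cast; ring)).toLinearEquiv ≪≫ₗ e1
  haveI := ProperFinH9.finite_HH_of_proper R X F hF p
  haveI := ProperFinH9.finite_HH_of_proper R X F hF (p + 1)
  constructor
  · intro h
    have hex := h2382.mpr (fun q hq => by rw [hmin q hq]; exact h.symm)
    obtain ⟨hf1, hf2⟩ := h4489.mp hex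
    haveI : Module.Flat R (Coh.HH X F p) := Module.Flat.of_linearEquiv ep.symm
    haveI : Module.Flat R (Coh.HH X F (p + 1)) := Module.Flat.of_linearEquiv ep1.symm
    exact ⟨Module.free_of_flat_of_isLocalRing, Module.free_of_flat_of_isLocalRing⟩
  · rintro ⟨hf1, hf2⟩
    haveI hfl1 : Module.Flat R (Coh.HH X F p) := @Module.Flat.of_free R _ _ _ _ hf1
    haveI hfl2 : Module.Flat R (Coh.HH X F (p + 1)) := @Module.Flat.of_free R _ _ _ _ hf2
    have hex := h4489.mpr ⟨Module.Flat.of_linearEquiv ep, Module.Flat.of_linearEquiv ep1⟩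
    have hbot : (⊥ : PrimeSpectrum R).asIdeal ∈ minimalPrimes R := by
      have h1 : minimalPrimes R = {⊥} := by
        show (⊥ : Ideal R).minimalPrimes = {⊥}
        exact Ideal.minimalPrimes_eq_subsingleton_self
      rw [h1]
      rfl
    exact (h2382.mp hex ⊥ hbot).symm

end Groth.Agent.Lib.BCDvrH2
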