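import Mathlib
import Groth.Prelude
import Groth.Agent.Lib.TFunLocal_helper5

/-!
# Lifting zero-cocycles along a base change when `T^0` is right exact (helper2)

* `exists_smul_eq_one_tmul`: if every element of `K` is a fraction of images of elements of `A` with
  invertible denominator, every element of `K ⊗_A N` becomes a pure tensor `1 ⊗ x` after
  multiplication by an invertible image.
* `exists_cocycle_lift`: for a cochain complex `C` of `A`-modules which vanishes in degree `-1`, with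
  `C^1` flat and `T^0 = H^0(C ⊗ -)` preserving epimorphisms: a cochain `x ∈ C^0` whose image in
  `C^0 ⊗ K` is a cocycle can be replaced by a cocycle `z ∈ C^0` with the same image.
APPEND-ONLY once landed.
-/

set_option autoImplicit false
universe u
open CategoryTheory Limits TensorProduct MonoidalCategory

namespace Groth.Agent.Lib.H0LiftH2

variable {A : Type u} [CommRing A]

/-- clearing denominators in a tensor product -/
theorem exists_smul_eq_one_tmul {K : Type u} [CommRing K] [Algebra A K]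
    (hK : ∀ c : K, ∃ a b : A, IsUnit (algebraMap A K b) ∧ c * algebraMap A K b = algebraMap A K a)
    {N : Type u} [AddCommGroup N] [Module A N] (w : K ⊗[A] N) :
    ∃ (b : A) (x : N), IsUnit (algebraMap A K b) ∧
      algebraMap A K b • w = (1 : K) ⊗ₜ[A] x := by
  have key : ∀ (b : A) (x : N),
      algebraMap A K b • ((1 : K) ⊗ₜ[A] x) = (1 : K) ⊗ₜ[A] (b • x) := by
    intro b x
    rw [TensorProduct.smul_tmul', smul_eq_mul, mul_one, Algebra.algebraMap_eq_smul_one,
      TensorProduct.smul_tmul]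
  induction w using TensorProduct.induction_on with
  | zero =>
    exact ⟨1, 0, by rw [map_one]; exact isUnit_one, by rw [smul_zero, TensorProduct.tmul_zero]⟩
  | tmul c n =>
    obtain ⟨a, b, hb, hab⟩ := hK c
    refine ⟨b, a • n, hb, ?_⟩
    rw [TensorProduct.smul_tmul', smul_eq_mul, mul_comm, hab, Algebra.algebraMap_eq_smul_one,
      TensorProduct.smul_tmul]
  | add w₁ w₂ h₁ h₂ =>
    obtain ⟨b₁, x₁, hb₁, e₁⟩ := h₁
    obtain ⟨b₂, x₂, hb₂, e₂⟩ := h₂
    refine ⟨b₁ * b₂, b₂ • x₁ + b₁ • x₂, by rw [map_mul]; exact hb₁.mul hb₂, ?_⟩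
    have h1 : algebraMap A K (b₁ * b₂) • w₁ = (1 : K) ⊗ₜ[A] (b₂ • x₁) := by
      rw [← key, ← e₁, smul_smul, map_mul, mul_comm]
    have h2 : algebraMap A K (b₁ * b₂) • w₂ = (1 : K) ⊗ₜ[A] (b₁ • x₂) := by
      rw [← key, ← e₂, smul_smul, map_mul]
    rw [smul_add, TensorProduct.tmul_add, h1, h2]

/-- lifting cocycles -/
theorem exists_cocycle_lift (C : CochainComplex (ModuleCat.{u} A) ℤ)
    (hflat : Module.Flat A (C.X 1)) (hneg : IsZero (C.X (-1)))
    (hepi : (CohIII.TFun C 0).PreservesEpimorphisms)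
    (K : Type u) [CommRing K] [Algebra A K] (x : C.X 0)
    (hx : ((C.d 0 1).hom x) ⊗ₜ[A] (1 : K) = 0) :
    ∃ z : C.X 0, (C.d 0 1).hom z = 0 ∧ z ⊗ₜ[A] (1 : K) = x ⊗ₜ[A] (1 : K) := by
  let Mm : Submodule A K := LinearMap.range (Algebra.linearMap A K)
  let π : A →ₗ[A] Mm := (Algebra.linearMap A K).rangeRestrict
  have hπ : Function.Surjective π := LinearMap.surjective_rangeRestrict _
  let j : Mm →ₗ[A] K := Mm.subtype
  have hj : Function.Injective j := Subtype.val_injective
  let oneM : Mm := π 1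
  have hj1 : j oneM = 1 := by
    show algebraMap A K 1 = 1
    exact map_one _
  -- step 1
  have h1 : ((C.d 0 1).hom x) ⊗ₜ[A] oneM = 0 := by
    apply Module.Flat.lTensor_preserves_injective_linearMap (M := C.X 1) j hj
    rw [LinearMap.lTensor_tmul, map_zero, hj1]
    exact hx
  -- step 2
  let y : (CohIII.tensorObj C (ModuleCat.of A Mm)).X 0 := x ⊗ₜ[A] oneM
  have hn : (ComplexShape.up ℤ).next 0 = 1 := by simp
  have hp : (ComplexShape.up ℤ).prev 0 = -1 := by simp
  have hy : ((CohIII.tensorObj C (ModuleCat.of A Mm)).d 0 ((ComplexShape.up ℤ).next 0)) y = 0 := by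
    rw [hn]
    exact h1
  haveI : Epi (ModuleCat.ofHom π) := (ModuleCat.epi_iff_surjective _).mpr hπ
  haveI : Epi ((CohIII.TFun C 0).map (ModuleCat.ofHom π)) := hepi.preserves _
  have hsurj : Function.Surjective
      (HomologicalComplex.homologyMap (CohIII.tensorMap C (ModuleCat.ofHom π)) 0) :=
    (ModuleCat.epi_iff_surjective ((CohIII.TFun C 0).map (ModuleCat.ofHom π))).mp inferInstance
  obtain ⟨v, w, hv, hw⟩ := Groth.Agent.TFunLocal5.exists_of_homologyMap_surjective
    (CohIII.tensorMap C (ModuleCat.ofHom π)) 0 hsurj y hy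
  have hz : IsZero ((CohIII.tensorObj C (ModuleCat.of A Mm)).X ((ComplexShape.up ℤ).prev 0)) := by
    rw [hp]
    exact (tensorRight (ModuleCat.of A Mm)).map_isZero hneg
  have hw0 : ((CohIII.tensorObj C (ModuleCat.of A Mm)).d ((ComplexShape.up ℤ).prev 0) 0) w = 0 := by
    rw [hz.eq_of_src ((CohIII.tensorObj C (ModuleCat.of A Mm)).d ((ComplexShape.up ℤ).prev 0) 0) 0]
    rfl
  have hyv : y = ((CohIII.tensorMap C (ModuleCat.ofHom π)).f 0) v :=
    sub_eq_zero.mp (hw.symm.trans hw0)
  -- step 4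
  let z : C.X 0 := TensorProduct.rid A (C.X 0) v
  have hvz : v = z ⊗ₜ[A] (1 : A) := by
    have := (TensorProduct.rid A (C.X 0)).symm_apply_apply v
    rw [TensorProduct.rid_symm_apply] at this
    exact this.symm
  have hv' : ((CohIII.tensorObj C (ModuleCat.of A A)).d 0 1) v = 0 := by
    rw [hn] at hv
    exact hv
  have hdz : (C.d 0 1).hom z = 0 := by
    have h2 : ((C.d 0 1).hom z) ⊗ₜ[A] (1 : A) = 0 := by
      have h3 : ((CohIII.tensorObj C (ModuleCat.of A A)).d 0 1) v =
          LinearMap.rTensor A (C.d 0 1).hom v := rfl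
      rw [h3, hvz, LinearMap.rTensor_tmul] at hv'
      exact hv'
    have h4 := congrArg (TensorProduct.rid A (C.X 1)) h2
    rw [TensorProduct.rid_tmul, one_smul, map_zero] at h4
    exact h4
  refine ⟨z, hdz, ?_⟩
  have h5 : ((CohIII.tensorMap C (ModuleCat.ofHom π)).f 0) v = z ⊗ₜ[A] oneM := by
    have h6 : ((CohIII.tensorMap C (ModuleCat.ofHom π)).f 0) v =
        LinearMap.lTensor (C.X 0) π v := rfl
    rw [h6, hvz, LinearMap.lTensor_tmul]
  have h7 : (x ⊗ₜ[A] oneM : C.X 0 ⊗[A] Mm) = z ⊗ₜ[A] oneM := hyv.trans h5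
  have h8 := congrArg (LinearMap.lTensor (C.X 0) j) h7
  rw [LinearMap.lTensor_tmul, LinearMap.lTensor_tmul, hj1] at h8
  exact h8.symm

end Groth.Agent.Lib.H0LiftH2
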