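import Mathlib
import Groth.Prelude
import Groth.Agent.Lib.H0Lift1_helper2
import Groth.Agent.Lib.BCBase2_helper2
import Groth.Agent.Lib.Tens17_helper8

/-!
# Lifting sections from a base change (helper2)

For `X` over `Spec A`, a finite affine cover `𝒰` with affine intersections, `F` quasi-coherent and flat
over `A` with `T^0 = H^0(Č(𝒰, F) ⊗ -)` right exact, and a base change `X' = X ×_A Spec A'` where every
element of `A'` is a fraction of images of elements of `A`: every global section of `g'^* F` is, up to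
an invertible scalar from `A`, the pullback of a global section of `F`.
APPEND-ONLY once landed.
-/

set_option autoImplicit false
universe u
open CategoryTheory Limits AlgebraicGeometry TopologicalSpace Opposite TensorProduct ChangeOfRings

namespace Groth.Agent.Lib.H0LiftH2

open Groth.Agent.Lib.CechSite Groth.Agent.Lib.BCCechH2 Groth.Agent.Lib.BCSecH2
  Groth.Agent.Lib.BCExtH2 Groth.Agent.Lib.BCCxH2 QcqsLoc Groth.Agent.Lib.FormalFnH2
  Groth.Agent.Lib.FlatBCH2 Groth.Agent.ExtendScalarsLib Groth.Agent.Lib.BCBaseH2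

section Glue

variable (A : Type u) [CommRing A] {X : Scheme.{u}} [X.Over (Spec (CommRingCat.of A))]
  {ι : Type u} (𝒰 : ι → X.Opens) (F : X.Modules)

/-- the constant index -/
def cst (i : ι) : Fin 1 → ι := fun _ => i

lemma VV_cst_le (i : ι) : VV 𝒰 (cst i) ≤ 𝒰 i := T_left_le (X := X.toTopCat) 𝒰 (cst i) 0

lemma le_VV_cst (i : ι) : 𝒰 i ≤ VV 𝒰 (cst i) :=
  le_T_left (X := X.toTopCat) 𝒰 (cst i) _ (fun _ => le_rfl)

lemma eq_cst (σ : Fin 1 → ι) : σ = cst (σ 0) := by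
  funext k
  rw [Subsingleton.elim k 0]
  rfl

lemma res_congr (β : Cn A 𝒰 F 0) {σ₁ σ₂ : Fin 1 → ι} (e : σ₁ = σ₂) {W : X.Opens}
    (h₁ : W ≤ VV 𝒰 σ₁) (h₂ : W ≤ VV 𝒰 σ₂) :
    rF F h₁ (show Γ(F, VV 𝒰 σ₁) from β σ₁) = rF F h₂ (show Γ(F, VV 𝒰 σ₂) from β σ₂) := by
  subst e
  rfl

/-- a zero-cocycle glues to a global section -/
theorem exists_glue (hcov : ⨆ i, 𝒰 i = ⊤) (β : Cn A 𝒰 F 0) (hβ : dA A 𝒰 F 0 β = 0) :
    ∃ s : Γ(F, ⊤), ∀ σ : Fin 1 → ι,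
      (show Γ(F, VV 𝒰 σ) from β σ) = rF F (le_top : VV 𝒰 σ ≤ ⊤) s := by
  have hcomp : ∀ i j : ι,
      rF F ((inf_le_left : 𝒰 i ⊓ 𝒰 j ≤ 𝒰 i).trans (le_VV_cst 𝒰 i))
          (show Γ(F, VV 𝒰 (cst i)) from β (cst i)) =
        rF F ((inf_le_right : 𝒰 i ⊓ 𝒰 j ≤ 𝒰 j).trans (le_VV_cst 𝒰 j))
          (show Γ(F, VV 𝒰 (cst j)) from β (cst j)) := by
    intro i j
    let τ : Fin 2 → ι := ![j, i]
    have e0 : τ ∘ (0 : Fin 2).succAbove = cst i := by
      funext k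
      rw [Subsingleton.elim k 0]
      rfl
    have e1 : τ ∘ (1 : Fin 2).succAbove = cst j := by
      funext k
      rw [Subsingleton.elim k 0]
      rfl
    have hW : 𝒰 i ⊓ 𝒰 j ≤ VV 𝒰 τ := by
      refine le_T_left (X := X.toTopCat) 𝒰 τ _ (fun k => ?_)
      fin_cases k
      · exact inf_le_right
      · exact inf_le_left
    have h1 := congrFun hβ τ
    rw [dA_apply, Fin.sum_univ_two] at h1
    have h2 : resA A F (face_le 𝒰 τ 0) (β (τ ∘ (0 : Fin 2).succAbove)) =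
        resA A F (face_le 𝒰 τ 1) (β (τ ∘ (1 : Fin 2).succAbove)) := by
      have h3 : resA A F (face_le 𝒰 τ 0) (β (τ ∘ (0 : Fin 2).succAbove)) +
          -(resA A F (face_le 𝒰 τ 1) (β (τ ∘ (1 : Fin 2).succAbove))) = 0 := by
        simpa using h1
      exact add_neg_eq_zero.mp h3
    have h4 := congrArg (rF F hW) h2
    rw [resA_apply, resA_apply] at h4
    have h5 : rF F hW (rF F (face_le 𝒰 τ 0)
        (show Γ(F, VV 𝒰 (τ ∘ (0 : Fin 2).succAbove)) from β (τ ∘ (0 : Fin 2).succAbove))) =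
        rF F hW (rF F (face_le 𝒰 τ 1)
        (show Γ(F, VV 𝒰 (τ ∘ (1 : Fin 2).succAbove)) from β (τ ∘ (1 : Fin 2).succAbove))) := h4
    rw [rF_rF, rF_rF] at h5
    refine (res_congr A 𝒰 F β e0.symm _ _).trans (h5.trans ?_)
    exact res_congr A 𝒰 F β e1 _ _
  obtain ⟨t, ht⟩ := TensH8.glue F 𝒰 ⊤ (fun _ => le_top) (by rw [hcov])
    (fun i => rF F (le_VV_cst 𝒰 i) (show Γ(F, VV 𝒰 (cst i)) from β (cst i)))
    (fun i j => by
      rw [rF_rF, rF_rF]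
      exact hcomp i j)
  refine ⟨t, fun σ => ?_⟩
  have h1 : rF F (le_top : VV 𝒰 σ ≤ ⊤) t =
      rF F ((T_left_le (X := X.toTopCat) 𝒰 σ 0 : VV 𝒰 σ ≤ 𝒰 (σ 0))) (rF F le_top t) :=
    (rF_rF F _ _ t).symm
  rw [h1, ht (σ 0), rF_rF]
  refine Eq.trans ?_ (res_congr A 𝒰 F β (eq_cst σ) (le_refl _) _)
  exact (SubExt.rF_self F (le_refl _) _).symm

end Glue

section Cx

variable {A A' : Type u} [CommRing A] [CommRing A'] [Algebra A A']
  {X X' : Scheme.{u}} [X.Over (Spec (CommRingCat.of A))] [X'.Over (Spec (CommRingCat.of A'))]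
  {g' : X' ⟶ X}
  (hsq : IsPullback g' (X' ↘ Spec (CommRingCat.of A')) (X ↘ Spec (CommRingCat.of A))
    (Spec.map (CommRingCat.ofHom (algebraMap A A'))))
  {ι : Type u} [Fintype ι] [DecidableEq ι] (𝒰 : ι → X.Opens)
  (hU : ∀ s : Finset ι, s.Nonempty → IsAffineOpen (⨅ i ∈ s, 𝒰 i))
  (F : X.Modules) [F.IsQuasicoherent]

/-- the base change of the module of cochains is the module of cochains of the pullback
(plain tensor product form) -/
noncomputable def EB' (n : ℕ) :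
    A' ⊗[A] Cn A 𝒰 F n ≃ₗ[A'] Cn A' (pre g' 𝒰) (PB g' F) n :=
  (TensorProduct.piRight A A' A' (fun σ : Fin (n + 1) → ι => SecA A F (VV 𝒰 σ))).trans
    (LinearEquiv.piCongrRight fun σ =>
      bcEquiv hsq F (isAffineOpen_T_left 𝒰 hU σ) (VV_pre g' 𝒰 σ))

lemma EB'_tmul (n : ℕ) (a' : A') (β : Cn A 𝒰 F n) :
    EB' hsq 𝒰 hU F n (a' ⊗ₜ[A] β) = a' • cC A A' 𝒰 F n β := by
  funext σ
  show bcEquiv hsq F (isAffineOpen_T_left 𝒰 hU σ) (VV_pre g' 𝒰 σ)
    ((TensorProduct.piRight A A' A' (fun σ : Fin (n + 1) → ι => SecA A F (VV 𝒰 σ)))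
      (a' ⊗ₜ[A] β) σ) = a' • cS A A' 𝒰 F σ (β σ)
  rw [TensorProduct.piRight_apply, TensorProduct.piRightHom_tmul]
  exact bcEquiv_tmul hsq F _ _ a' (β σ)

include hsq hU in
/-- **lifting global sections** -/
theorem exists_section_lift (hcov : ⨆ i, 𝒰 i = ⊤)
    (hfl : Module.Flat A ((CC A 𝒰 F).X 1))
    (hepi : (CohIII.TFun (CC A 𝒰 F) 0).PreservesEpimorphisms)
    (hK : ∀ c : A', ∃ a b : A, IsUnit (algebraMap A A' b) ∧
      c * algebraMap A A' b = algebraMap A A' a)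
    (σ : Γ(PB g' F, ⊤)) :
    ∃ (s : Γ(F, ⊤)) (b : A), IsUnit (algebraMap A A' b) ∧
      ∀ h : (⊤ : X'.Opens) ≤ g' ⁻¹ᵁ ⊤, PBH8.cUV g' F h s =
        rUHom (A := A') (⊤ : X'.Opens) (algebraMap A A' b) • σ := by
  classical
  let β' : Cn A' (pre g' 𝒰) (PB g' F) 0 := fun τ =>
    (show SecA A' (PB g' F) (VV (pre g' 𝒰) τ) from rF (PB g' F) le_top σ)
  have hβ' : dA A' (pre g' 𝒰) (PB g' F) 0 β' = 0 := by
    funext τ
    rw [dA_apply, Fin.sum_univ_two]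
    have e : ∀ k : Fin 2, resA A' (PB g' F) (face_le (pre g' 𝒰) τ k) (β' (τ ∘ k.succAbove)) =
        (show SecA A' (PB g' F) (VV (pre g' 𝒰) τ) from rF (PB g' F) le_top σ) :=
      fun k => rF_rF (PB g' F) _ _ σ
    rw [e, e]
    simp
  let w := (EB' hsq 𝒰 hU F 0).symm β'
  obtain ⟨b, x, hb, hbx⟩ := exists_smul_eq_one_tmul hK w
  have h3 : cC A A' 𝒰 F 0 x = algebraMap A A' b • β' := by
    have h := EB'_tmul hsq 𝒰 hU F 0 (1 : A') x
    rw [one_smul] at h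
    rw [← h, ← hbx, map_smul, LinearEquiv.apply_symm_apply]
  have h4 : cC A A' (g' := g') 𝒰 F 1 (dA A 𝒰 F 0 x) = 0 := by
    rw [cC_dA, h3, map_smul, hβ', smul_zero]
  have h5 : (1 : A') ⊗ₜ[A] (dA A 𝒰 F 0 x) = 0 := by
    apply (EB' hsq 𝒰 hU F 1).injective
    rw [EB'_tmul, one_smul, h4, map_zero]
  have h6 : (dA A 𝒰 F 0 x) ⊗ₜ[A] (1 : A') = 0 := by
    have h := congrArg (TensorProduct.comm A A' _) h5
    rwa [TensorProduct.comm_tmul, map_zero] at h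
  have hd : ∀ t : Cn A 𝒰 F 0, ((CC A 𝒰 F).d 0 1).hom t = dA A 𝒰 F 0 t := by
    intro t
    exact congrArg (fun φ => φ.hom t) (CC_d A 𝒰 F 0)
  obtain ⟨z, hz0, hz1⟩ := exists_cocycle_lift (CC A 𝒰 F) hfl (isZero_CC_negSucc A 𝒰 F 0) hepi A'
    (show ↑((CC A 𝒰 F).X 0) from x) (by
      have := hd x
      rw [this]
      exact h6)
  let z' : Cn A 𝒰 F 0 := z
  have hz0' : dA A 𝒰 F 0 z' = 0 := (hd z').symm.trans hz0
  have h7 : (1 : A') ⊗ₜ[A] z' = (1 : A') ⊗ₜ[A] x := by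
    have h := congrArg (TensorProduct.comm A _ A') hz1
    rwa [TensorProduct.comm_tmul, TensorProduct.comm_tmul] at h
  have h8 : cC A A' 𝒰 F 0 z' = algebraMap A A' b • β' := by
    have ha := EB'_tmul hsq 𝒰 hU F 0 (1 : A') z'
    have hb' := EB'_tmul hsq 𝒰 hU F 0 (1 : A') x
    rw [one_smul] at ha hb'
    rw [← ha, h7, hb', h3]
  obtain ⟨s, hs⟩ := exists_glue A 𝒰 F hcov z' hz0'
  refine ⟨s, b, hb, fun h => ?_⟩
  apply QcqsLoc.eq_of_cover (PB g' F)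
  intro p _
  obtain ⟨i, hi⟩ : ∃ i, p ∈ pre g' 𝒰 i := by
    have hp : p ∈ ⨆ i, pre g' 𝒰 i := by
      rw [hcov_pre g' 𝒰 hcov]
      trivial
    exact Opens.mem_iSup.mp hp
  refine ⟨VV (pre g' 𝒰) (cst i), le_top, le_VV_cst (pre g' 𝒰) i hi, ?_⟩
  have e1 := congrFun h8 (cst i)
  -- left side
  have e2 : cC A A' (g' := g') 𝒰 F 0 z' (cst i) =
      rF (PB g' F) (le_top : VV (pre g' 𝒰) (cst i) ≤ ⊤) (PBH8.cUV g' F h s) := by
    rw [TensH8.rF_cUV, cC_apply, cS_apply]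
    have h9 : (show Γ(F, VV 𝒰 (cst i)) from z' (cst i)) =
        rF F (le_top : VV 𝒰 (cst i) ≤ ⊤) s := hs (cst i)
    show PBH8.cUV g' F (le_of_eq (VV_pre g' 𝒰 (cst i)))
      (show Γ(F, VV 𝒰 (cst i)) from z' (cst i)) = _
    rw [h9, TensH8.cUV_resV]
  -- right side
  have e3 : (algebraMap A A' b • β') (cst i) =
      rF (PB g' F) (le_top : VV (pre g' 𝒰) (cst i) ≤ ⊤)
        (rUHom (A := A') (⊤ : X'.Opens) (algebraMap A A' b) • σ) := by
    rw [rF_smul, rX_rUHom]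
    rfl
  exact e2.symm.trans (e1.trans e3)

end Cx

end Groth.Agent.Lib.H0LiftH2
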