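import Mathlib
import Groth.Prelude
import Groth.Agent.Lib.H0Lift2_helper2
import Groth.Agent.Lib.BCDvr1_helper2
import Groth.Agent.Lib.FiberRank_helper9

/-!
# Lifting sections from a fibre of a proper flat family with vanishing `H^1` (helper2)

* `lift_aux`: over a Noetherian affine base, if the rank function of the Grothendieck complex in
  degree one vanishes identically then sections lift along residue-field-like base changes.
* `exists_affine_nhd_fibre_vanishing`: vanishing of `H^p` of a fibre spreads to an affine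
  neighbourhood of the point.
* `lift_over_V`: over an affine open `V` of the base on which all fibres have `H^1 = 0`, every global
  section of the restriction of `F` to the fibre at `y ∈ V` lifts, up to a unit, to a section over
  `f⁻¹ V`.
APPEND-ONLY once landed.
-/

set_option autoImplicit false
universe u
open CategoryTheory Limits AlgebraicGeometry TopologicalSpace Opposite TensorProduct MonoidalCategory

namespace Groth.Agent.Lib.H0LiftH2

open Groth.Agent.Lib.BCAlgH2 Groth.Agent.Lib.BCLocH2 Groth.Agent.Lib.BCFibH2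
  Groth.Agent.Lib.BCMainH2 Groth.Agent.Lib.BCTruncH2 Groth.Agent.Lib.BCDvrH2
  Groth.Agent.Lib.BCBaseH2 Groth.Agent.Lib.BCCxH2 Groth.Agent.Lib.FormalFnH2

/-- lifting sections, from the vanishing of the rank function in degree one -/
theorem lift_aux (A : Type u) [CommRing A] [IsNoetherianRing A] (X : Scheme.{u})
    [X.Over (Spec (CommRingCat.of A))] [IsProper (X ↘ Spec (CommRingCat.of A))]
    (F : X.Modules) (hF : Coh.IsCoh F)
    (hfl : FlatMod.IsFlatOver (X ↘ Spec (CommRingCat.of A)) F)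
    (L : CochainComplex (ModuleCat.{u} A) ℤ)
    (hL : ∀ i, Module.Finite A (L.X i) ∧ Module.Free A (L.X i))
    (hiso : Nonempty (CohIII.tensorAFunctor A F ⋙ CohIII.HAb X 1 ≅
      CohIII.TFun L ((1 : ℕ) : ℤ) ⋙ forget₂ (ModuleCat.{u} A) AddCommGrpCat.{u}))
    (hd : ∀ x : PrimeSpectrum A, CohIII.dRank (toChain L) (-(1 : ℤ)) x = 0)
    (A' : Type u) [CommRing A'] [Algebra A A'] (X' : Scheme.{u})
    [X'.Over (Spec (CommRingCat.of A'))] (g' : X' ⟶ X)
    (hsq : IsPullback g' (X' ↘ Spec (CommRingCat.of A')) (X ↘ Spec (CommRingCat.of A))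
      (Spec.map (CommRingCat.ofHom (algebraMap A A'))))
    (hK : ∀ c : A', ∃ a b : A, IsUnit (algebraMap A A' b) ∧
      c * algebraMap A A' b = algebraMap A A' a)
    (σ : Γ((Scheme.Modules.pullback g').obj F, ⊤)) :
    ∃ (s : Γ(F, ⊤)) (b : A), IsUnit (algebraMap A A' b) ∧
      ∀ h : (⊤ : X'.Opens) ≤ g' ⁻¹ᵁ ⊤, PBH8.cUV g' F h s =
        rUHom (A := A') (⊤ : X'.Opens) (algebraMap A A' b) • σ := by
  classical
  haveI : F.IsQuasicoherent := hF.1
  haveI : CompactSpace X :=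
    QuasiCompact.compactSpace_of_compactSpace (X ↘ Spec (CommRingCat.of A))
  obtain ⟨t, U', hU', hcov'⟩ := exists_affine_cover X
  have hdd : ∀ V W : X.Opens, IsAffineOpen V → IsAffineOpen W → IsAffineOpen (V ⊓ W) :=
    inf_affine_of_separated (X ↘ Spec (CommRingCat.of A))
  let 𝒰 : ULift.{u} (Fin t) → X.Opens := fun i => U' i.down
  have hcov : ⨆ i, 𝒰 i = ⊤ := by
    rw [eq_top_iff, ← hcov']
    exact iSup_le fun i => le_iSup 𝒰 ⟨i⟩
  have hU := isAffineOpen_biInf hdd 𝒰 (fun i => hU' i.down)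
  have hL' : ∀ i, Module.Finite A (L.X i) ∧ Module.Flat A (L.X i) := fun i =>
    ⟨(hL i).1, haveI := (hL i).2; inferInstance⟩
  have hP : ∀ i, Module.Finite A ((toChain L).X i) ∧ Module.Flat A ((toChain L).X i) :=
    fun i => hL' (-i)
  have hz1 : ∀ M : ModuleCat.{u} A, IsZero ((CohIII.TFun (toChain L) (-(1 : ℤ))).obj M) :=
    fun M => isZero_T_of_dRank_zero (toChain L) hP (-(1 : ℤ)) hd M
  have e1 : CohIII.TFun (toChain L) (-(1 : ℤ)) ≅ CohIII.TFun L ((1 : ℕ) : ℤ) :=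
    TFunRestr L (-(1 : ℤ)) ≪≫ eqToIso (congrArg (CohIII.TFun L) (neg_neg (1 : ℤ)))
  have hz2 : ∀ M : ModuleCat.{u} A, IsZero ((CohIII.TFun L ((1 : ℕ) : ℤ)).obj M) :=
    fun M => IsZero.of_iso (hz1 M) (e1.app M).symm
  have hmL : (CohIII.TFun L ((1 : ℕ) : ℤ)).PreservesMonomorphisms := presMono_of_isZero hz2
  obtain ⟨e2⟩ := hiso
  have hmG : (CohIII.tensorAFunctor A F ⋙ CohIII.HAb X 1).PreservesMonomorphisms :=
    (presMono_iff e2).2 hmL
  have hmC : (CohIII.TFun (CC A 𝒰 F) (Int.ofNat 1)).PreservesMonomorphisms :=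
    (presMono_iff (natIso A 𝒰 hU F hcov 1).symm).1 hmG
  have hrel : (ComplexShape.up ℤ).Rel 0 (Int.ofNat 1) := by
    show (0 : ℤ) + 1 = 1
    norm_num
  have hepi : (CohIII.TFun (CC A 𝒰 F) 0).PreservesEpimorphisms :=
    (Groth.Agent.Lib.TFunLESH7.main (CC A 𝒰 F) (flat_CC A 𝒰 hU F hfl) 0 (Int.ofNat 1) hrel).mpr hmC
  exact exists_section_lift hsq 𝒰 hU F hcov (flat_CC A 𝒰 hU F hfl 1) hepi hK σ

section Nhd

variable {X Y : Scheme.{u}} (f : X ⟶ Y) [IsProper f] [IsLocallyNoetherian Y]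
  (F : X.Modules) (hF : Coh.IsCoh F) (hfl : FlatMod.IsFlatOver f F)

include hF hfl in
theorem nhd_aux (y : Y) (p : ℕ) (h : Subsingleton (CohIII.fiberH f F y p))
    (V : Y.Opens) (hV : IsAffineOpen V) (hy : y ∈ V) :
    ∃ W : Y.Opens, y ∈ W ∧ ∀ y' ∈ W, Subsingleton (CohIII.fiberH f F y' p) := by
  haveI : IsAffine (V : Scheme.{u}) := hV
  haveI : IsNoetherianRing Γ((V : Scheme.{u}), ⊤) :=
    IsLocallyNoetherian.component_noetherian ⟨⊤, isAffineOpen_top _⟩
  obtain ⟨P, hP, -, -, hrk, hfinfib, -⟩ := locPackage f F hF hfl V hV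
  have hP' : ∀ i, Module.Finite Γ((V : Scheme.{u}), ⊤) (P.X i) ∧
      Module.Flat Γ((V : Scheme.{u}), ⊤) (P.X i) := fun i =>
    ⟨(hP i).1, haveI := (hP i).2; inferInstance⟩
  have husc := FiberRank9.dRank_usc P hP' (-(p : ℤ))
  have hopen : IsOpen {x : PrimeSpectrum Γ((V : Scheme.{u}), ⊤) |
      CohIII.dRank P (-(p : ℤ)) x < 1} :=
    (upperSemicontinuous_iff_isOpen_preimage.mp husc) 1
  let O : (Spec (CommRingCat.of Γ((V : Scheme.{u}), ⊤))).Opens := ⟨_, hopen⟩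
  refine ⟨V.ι ''ᵁ ((V : Scheme.{u}).toSpecΓ ⁻¹ᵁ O), ⟨⟨y, hy⟩, ?_, rfl⟩, ?_⟩
  · show CohIII.dRank P (-(p : ℤ)) ((V : Scheme.{u}).toSpecΓ ⟨y, hy⟩) < 1
    rw [← hrk p y hy]
    unfold CohIII.fiberRank
    rw [Module.finrank_zero_of_subsingleton]
    exact Nat.zero_lt_one
  · rintro _ ⟨v, hv, rfl⟩
    obtain ⟨y', hy'⟩ := v
    show Subsingleton (CohIII.fiberH f F y' p)
    have h1 : CohIII.dRank P (-(p : ℤ)) ((V : Scheme.{u}).toSpecΓ ⟨y', hy'⟩) < 1 := hv
    have h2 : CohIII.fiberRank f F p y' = 0 := by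
      rw [hrk p y' hy']
      omega
    haveI hfin' : @Module.Finite (Y.residueField y') (CohIII.fiberH f F y' p) _ _
        (CohIII.moduleFiberH f F y' p) := hfinfib p y' hy'
    unfold CohIII.fiberRank at h2
    exact Module.finrank_zero_iff.mp h2

omit [IsProper f] [IsLocallyNoetherian Y] in
theorem exists_affine_nhd (y : Y) : ∃ V : Y.Opens, IsAffineOpen V ∧ y ∈ V := by
  obtain ⟨_, ⟨V, hV, rfl⟩, hyV, -⟩ :=
    (Y.isBasis_affineOpens).exists_subset_of_mem_open (Set.mem_univ y) isOpen_univ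
  exact ⟨V, hV, hyV⟩

omit [IsProper f] [IsLocallyNoetherian Y] in
theorem nhd_aux2 (y : Y) (p : ℕ) (W : Y.Opens) (hyW : y ∈ W)
    (hW : ∀ y' ∈ W, Subsingleton (CohIII.fiberH f F y' p)) :
    ∃ V : Y.Opens, IsAffineOpen V ∧ y ∈ V ∧
      ∀ y' ∈ V, Subsingleton (CohIII.fiberH f F y' p) := by
  obtain ⟨_, ⟨V', hV', rfl⟩, hyV', hle⟩ :=
    (Y.isBasis_affineOpens).exists_subset_of_mem_open hyW W.2
  exact ⟨V', hV', hyV', fun y' h => hW y' (hle h)⟩

include hF hfl in
/-- vanishing of the cohomology of a fibre spreads to an affine neighbourhood -/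
theorem exists_affine_nhd_fibre_vanishing (y : Y) (p : ℕ)
    (h : Subsingleton (CohIII.fiberH f F y p)) :
    ∃ V : Y.Opens, IsAffineOpen V ∧ y ∈ V ∧
      ∀ y' ∈ V, Subsingleton (CohIII.fiberH f F y' p) := by
  obtain ⟨V₀, hV₀, hyV₀⟩ := exists_affine_nhd y
  obtain ⟨W, hyW, hW⟩ := nhd_aux f F hF hfl y p h V₀ hV₀ hyV₀
  exact nhd_aux2 f F y p W hyW hW

end Nhd

section OverV

variable {X Y : Scheme.{u}} (f : X ⟶ Y) [IsProper f] [IsLocallyNoetherian Y]
  (F : X.Modules) (hF : Coh.IsCoh F) (hfl : FlatMod.IsFlatOver f F)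
  (V : Y.Opens) [IsAffine (V : Scheme.{u})]

/-- every element of the residue field at `y ∈ V` is a fraction of values of functions on `V` -/
theorem fraction_residueField {Y : Scheme.{u}} (V : Y.Opens) [IsAffine (V : Scheme.{u})]
    (y : Y) (hy : y ∈ V) :
    ∀ c : Y.residueField y, ∃ a b : Γ((V : Scheme.{u}), ⊤), IsUnit (ψy V y hy b) ∧
      c * ψy V y hy b = ψy V y hy a := by
  haveI : IsOpenImmersion (cV V) := by
    unfold cV
    infer_instance
  haveI : IsPreimmersion (bY V y hy ≫ cV V) := by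
    rw [bY_cV]
    infer_instance
  have hpre : IsPreimmersion (bY V y hy) := IsPreimmersion.of_comp (bY V y hy) (cV V)
  rw [← SpecMap_ψy] at hpre
  have hss : (ψy V y hy).SurjectiveOnStalks := ((IsPreimmersion.SpecMap_iff _).1 hpre).2
  have h0 := (RingHom.surjective_localRingHom_iff (f := ψy V y hy)
    (⊥ : Ideal (Y.residueField y))).1 (hss ⊥ Ideal.bot_prime)
  intro c
  obtain ⟨a, b, d, hd, hb, heq⟩ := h0 c
  have hd' : d ≠ 0 := fun h => hd (by rw [h]; exact Submodule.zero_mem _)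
  have hb' : ψy V y hy b ≠ 0 := fun h => hb (by rw [h]; exact Submodule.zero_mem _)
  refine ⟨a, b, isUnit_iff_ne_zero.2 hb', ?_⟩
  have h1 : d * (c * ψy V y hy b) = d * ψy V y hy a := by
    rw [← heq]
    ring
  exact mul_left_cancel₀ hd' h1

include hF hfl in
/-- **lifting sections from a fibre**: over an affine open `V` of the base all of whose fibres have
`H^1 = 0`, every global section of the restriction of `F` to the fibre at `y ∈ V` is, up to a unit,
the pullback of a section over `f⁻¹ V` -/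
theorem lift_over_V (hvan : ∀ y' ∈ V, Subsingleton (CohIII.fiberH f F y' 1)) (y : Y) (hy : y ∈ V)
    (σ : Γ((Scheme.Modules.pullback (gy f V y hy)).obj
      ((Scheme.Modules.pullback (f ⁻¹ᵁ V).ι).obj F), ⊤)) :
    ∃ (s : Γ((Scheme.Modules.pullback (f ⁻¹ᵁ V).ι).obj F, ⊤)) (u : Γ(f.fiber y, ⊤)), IsUnit u ∧
      ∀ h : (⊤ : (f.fiber y).Opens) ≤ (gy f V y hy) ⁻¹ᵁ ⊤,
        PBH8.cUV (gy f V y hy) ((Scheme.Modules.pullback (f ⁻¹ᵁ V).ι).obj F) h s = u • σ := by
  haveI : IsNoetherianRing Γ((V : Scheme.{u}), ⊤) :=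
    IsLocallyNoetherian.component_noetherian ⟨⊤, isAffineOpen_top _⟩
  letI := overV f V
  haveI : IsProper (((f ⁻¹ᵁ V : X.Opens) : Scheme.{u}) ↘
      Spec (CommRingCat.of Γ((V : Scheme.{u}), ⊤))) :=
    inferInstanceAs (IsProper ((f ∣_ V) ≫ (V : Scheme.{u}).toSpecΓ))
  haveI : F.IsQuasicoherent := hF.1
  have hG := Groth.Agent.Lib.ConsModH2.isCoh_pullback (f ⁻¹ᵁ V).ι F hF
  haveI : ((Scheme.Modules.pullback (f ⁻¹ᵁ V).ι).obj F).IsQuasicoherent := hG.1
  have hflG := isFlatOver_V f V F hfl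
  obtain ⟨L, hL, -, -, hiso, -, -, hbc⟩ := mainBC3 Γ((V : Scheme.{u}), ⊤)
    ((f ⁻¹ᵁ V : X.Opens) : Scheme.{u}) ((Scheme.Modules.pullback (f ⁻¹ᵁ V).ι).obj F) hG hflG
  have hd : ∀ x : PrimeSpectrum Γ((V : Scheme.{u}), ⊤),
      CohIII.dRank (toChain L) (-(1 : ℤ)) x = 0 := by
    intro x
    obtain ⟨v, hv⟩ := ((V : Scheme.{u}).toSpecΓ.homeomorph).surjective x
    obtain ⟨y', hy'⟩ := v
    have hv' : ((V : Scheme.{u}).toSpecΓ ⟨y', hy'⟩ : PrimeSpectrum Γ((V : Scheme.{u}), ⊤)) = x :=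
      hv
    letI := algY V y' hy'
    letI := overFib f y'
    obtain ⟨e⟩ := hbc (Y.residueField y') (f.fiber y') (gy f V y' hy')
      (isPullback_fib f V y' hy') 1
    have e3 := Groth.Agent.Lib.StalkFFH2.HHlinEquiv (Y.residueField y')
      (fibModIso f V y' hy' F) 1
    have e2 := (homologyRestrIso (CohIII.bcCx (ψy V y' hy') L) (-(1 : ℤ)) ((1 : ℕ) : ℤ)
      (by simp)).toLinearEquiv
    haveI : Subsingleton (CohIII.fiberH f F y' 1) := hvan y' hy'
    haveI : Subsingleton ((CohIII.bcCx (ψy V y' hy') (toChain L)).homology (-(1 : ℤ))) :=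
      ((e2.trans e).trans e3).toEquiv.subsingleton
    rw [← hv', toSpecΓ_apply V y' hy', dRank_ker (ψy V y' hy') (toChain L) (-(1 : ℤ))]
    exact Module.finrank_zero_of_subsingleton
  letI := algY V y hy
  letI := overFib f y
  have hK : ∀ c : Y.residueField y, ∃ a b : Γ((V : Scheme.{u}), ⊤),
      IsUnit (algebraMap Γ((V : Scheme.{u}), ⊤) (Y.residueField y) b) ∧
      c * algebraMap Γ((V : Scheme.{u}), ⊤) (Y.residueField y) b =
        algebraMap Γ((V : Scheme.{u}), ⊤) (Y.residueField y) a :=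
    fraction_residueField V y hy
  obtain ⟨s, b, hb, hs⟩ := lift_aux Γ((V : Scheme.{u}), ⊤) ((f ⁻¹ᵁ V : X.Opens) : Scheme.{u})
    ((Scheme.Modules.pullback (f ⁻¹ᵁ V).ι).obj F) hG hflG L hL (hiso 1) hd
    (Y.residueField y) (f.fiber y) (gy f V y hy) (isPullback_fib f V y hy) hK σ
  exact ⟨s, rUHom (A := Y.residueField y) (⊤ : (f.fiber y).Opens)
    (algebraMap Γ((V : Scheme.{u}), ⊤) (Y.residueField y) b), hb.map _, hs⟩

end OverV

end Groth.Agent.Lib.H0LiftH2
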