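import Mathlib
import Groth.Prelude
import Groth.Agent.Lib.H0Lift3_helper2
import Groth.Agent.Lib.GenLoc2_helper8
import Groth.Agent.Lib.Tens15_helper8
import Groth.Agent.Lib.Tens18_helper8
import Groth.Agent.Lib.GrTwXf_helper5
import Groth.Agent.Lib.FLF6_helper8
import Groth.Agent.Lib.FinCov3_helper8

/-!
# An invertible module which is trivial on a fibre with `H^1 = 0` is trivial near the fibre (helper2)

For `f : X ⟶ Y` proper over a locally Noetherian base, `N` invertible on `X` and flat over `Y`, and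
`y ∈ Y` with `H^1(X_y, N_y) = 0` and `N_y ≅ O_{X_y}`: there is an open neighbourhood `U` of `y`
with `N|_{f⁻¹ U} ≅ O`.
APPEND-ONLY once landed.
-/

set_option autoImplicit false
universe u
open CategoryTheory Limits AlgebraicGeometry TopologicalSpace Opposite

namespace Groth.Agent.Lib.H0LiftH2

open Groth.Agent.Lib.BCLocH2 QcqsLoc QCohExtn GenLocH8 FLFH8 TensH8

section Basics

variable {X : Scheme.{u}}

/-- the morphism named by a global section sends `1` to the section -/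
lemma ap_unitHom_one (M : X.Modules) (m : Γ(M, ⊤)) :
    ap (SDivGenH8.unitHom M m) ⊤ (toM (1 : Γ(X, ⊤))) = m := by
  have h := SDivGenH8.unitHom_app_one M m ⊤
  refine h.trans ?_
  exact SubExt.rF_self M le_top m

/-- invertible modules are coherent -/
theorem isCoh_of_isInvertible {N : X.Modules} (hN : PicF.IsInvertible N) : Coh.IsCoh N := by
  have hF : FlatMod.IsFinLocFree N :=
    IsFinLocFreeOfRank.isFinLocFree N (finLocFreeOfRank_one_of_isInvertible hN)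
  haveI := isQuasicoherent_of_finLocFree N hF
  haveI := isFinitePresentation_of_finLocFree N hF
  exact ⟨inferInstance, inferInstance⟩

/-- invertible modules on the source of a flat morphism are flat over the base -/
theorem isFlatOver_of_isInvertible {S : Scheme.{u}} (f : X ⟶ S) [Flat f] {N : X.Modules}
    (hN : PicF.IsInvertible N) : FlatMod.IsFlatOver f N := by
  intro x
  unfold FlatMod.IsFlatOverAt
  letI := FlatMod.moduleStalkOver f N x
  letI : Algebra (S.presheaf.stalk (f.base x)) (X.presheaf.stalk x) :=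
    (f.stalkMap x).hom.toAlgebra
  haveI : Module.Flat (S.presheaf.stalk (f.base x)) (X.presheaf.stalk x) := Flat.stalkMap f x
  haveI : Module.Free (X.presheaf.stalk x) (N.presheaf.stalk x) :=
    (free_stalk_of_finLocFreeOfRank N (finLocFreeOfRank_one_of_isInvertible hN) x).1
  haveI : IsScalarTower (S.presheaf.stalk (f.base x)) (X.presheaf.stalk x)
      (N.presheaf.stalk x) := IsScalarTower.of_algebraMap_smul (fun r m => rfl)
  exact Module.Flat.trans (S.presheaf.stalk (f.base x)) (X.presheaf.stalk x)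
    (N.presheaf.stalk x)

end Basics

section Main

variable {X Y : Scheme.{u}} (f : X ⟶ Y) [IsProper f] [IsLocallyNoetherian Y]

/-- the pulled back section generates everywhere on the fibre -/
theorem preimage_genLocus_eq_top {Z S : Scheme.{u}} (g : Z ⟶ S) {N : S.Modules}
    (hN : PicF.IsInvertible N) (s : Γ(N, ⊤))
    (σ : Γ((Scheme.Modules.pullback g).obj N, ⊤))
    (hσ : IsGen ((Scheme.Modules.pullback g).obj N) ⊤ σ)
    (u : Γ(Z, ⊤)) (hu : IsUnit u)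
    (hs : ∀ h : (⊤ : Z.Opens) ≤ g ⁻¹ᵁ ⊤, PBH8.cUV g N h s = u • σ) :
    g ⁻¹ᵁ CohB1.genLocus N (SDivGenH8.unitHom N s) = ⊤ := by
  let e : Coh.structureModule Z ≅ (Scheme.Modules.pullback g).obj (Coh.structureModule S) :=
    (PBH8.pullbackUnitIso g).symm
  rw [← genLocus_pullback g N hN (SDivGenH8.unitHom N s) e]
  set φ : Coh.structureModule Z ⟶ (Scheme.Modules.pullback g).obj N :=
    e.hom ≫ (Scheme.Modules.pullback g).map (SDivGenH8.unitHom N s) with hφ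
  obtain ⟨t, ht⟩ := (hσ ⊤ le_rfl).1 (ap φ ⊤ (toM (1 : Γ(Z, ⊤))))
  have ht' : ap φ ⊤ (toM (1 : Γ(Z, ⊤))) = t • σ := by
    rw [ht, SubExt.rF_self]
  have hgl := genLocus_inf_eq_basicOpen φ σ hσ t ht'
  rw [inf_top_eq] at hgl
  rw [hgl]
  have htop : (⊤ : Z.Opens) ≤ g ⁻¹ᵁ ⊤ := fun _ _ => trivial
  -- the unit
  let one' : Γ((Scheme.Modules.pullback g).obj (Coh.structureModule S), ⊤) :=
    PBH8.cUV g (Coh.structureModule S) htop (toM (1 : Γ(S, ⊤)))
  let wM : Γ(Coh.structureModule Z, ⊤) := ap e.inv ⊤ one'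
  have h1 : ap e.hom ⊤ wM = one' := by
    have h2 : ap (e.inv ≫ e.hom) ⊤ one' = ap e.hom ⊤ (ap e.inv ⊤ one') := rfl
    rw [e.inv_hom_id] at h2
    exact h2.symm
  have h3 : ap φ ⊤ wM = u • σ := by
    have h4 : ap φ ⊤ wM = ap ((Scheme.Modules.pullback g).map (SDivGenH8.unitHom N s)) ⊤
        (ap e.hom ⊤ wM) := rfl
    rw [h4, h1]
    have h5 := PBH8.cUV_naturality g (SDivGenH8.unitHom N s) htop (toM (1 : Γ(S, ⊤)))
    refine h5.trans ?_
    have h6 : ((SDivGenH8.unitHom N s).app ⊤) (toM (1 : Γ(S, ⊤))) = s := ap_unitHom_one N s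
    rw [h6]
    exact hs htop
  have h7 : ap φ ⊤ wM = (ofM wM * t) • σ := by
    have h8 : wM = ofM wM • toM (1 : Γ(Z, ⊤)) := (mul_one (ofM wM)).symm
    calc ap φ ⊤ wM = ap φ ⊤ (ofM wM • toM (1 : Γ(Z, ⊤))) := congrArg _ h8
      _ = ofM wM • ap φ ⊤ (toM (1 : Γ(Z, ⊤))) := ap_smul φ _ _
      _ = ofM wM • (t • σ) := by rw [ht']
      _ = (ofM wM * t) • σ := (mul_smul _ _ _).symm
  have h9 : (ofM wM * t - u) • rF ((Scheme.Modules.pullback g).obj N) (le_refl ⊤) σ = 0 := by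
    rw [SubExt.rF_self, sub_smul, ← h7, h3, sub_self]
  have h10 : ofM wM * t = u := sub_eq_zero.mp ((hσ ⊤ le_rfl).2 _ h9)
  have htu : IsUnit t := isUnit_of_mul_isUnit_right (h10 ▸ hu)
  exact Scheme.basicOpen_of_isUnit Z htu

end Main

section Near

variable {X Y : Scheme.{u}} (f : X ⟶ Y) [IsProper f] [IsLocallyNoetherian Y]

theorem triv_aux (y : Y) (N : X.Modules) (hN : PicF.IsInvertible N)
    (hfl : FlatMod.IsFlatOver f N) (V : Y.Opens) [IsAffine (V : Scheme.{u})] (hy : y ∈ V)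
    (hvan : ∀ y' ∈ V, Subsingleton (CohIII.fiberH f N y' 1))
    (htriv : Nonempty (CohIII.fiberMod f N y ≅ Coh.structureModule (f.fiber y))) :
    ∃ U : Y.Opens, y ∈ U ∧
      Nonempty (N.restrict (f ⁻¹ᵁ U).ι ≅
        Coh.structureModule ((f ⁻¹ᵁ U : X.Opens) : Scheme.{u})) := by
  have hF := isCoh_of_isInvertible hN
  have hNV : PicF.IsInvertible ((Scheme.Modules.pullback (f ⁻¹ᵁ V).ι).obj N) :=
    isInvertible_pullback (f ⁻¹ᵁ V).ι hN
  let θ : (Scheme.Modules.pullback (gy f V y hy)).obj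
      ((Scheme.Modules.pullback (f ⁻¹ᵁ V).ι).obj N) ≅ Coh.structureModule (f.fiber y) :=
    fibModIso f V y hy N ≪≫ htriv.some
  let σ : Γ((Scheme.Modules.pullback (gy f V y hy)).obj
      ((Scheme.Modules.pullback (f ⁻¹ᵁ V).ι).obj N), ⊤) :=
    ap θ.inv ⊤ (toM (1 : Γ(f.fiber y, ⊤)))
  have hσ : IsGen ((Scheme.Modules.pullback (gy f V y hy)).obj
      ((Scheme.Modules.pullback (f ⁻¹ᵁ V).ι).obj N)) ⊤ σ := isGen_of_iso θ.symm (isGen_one ⊤)
  obtain ⟨s, u, hu, hs⟩ := lift_over_V f N hF hfl V hvan y hy σ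
  have hG := preimage_genLocus_eq_top (gy f V y hy) hNV s σ hσ u hu hs
  set G := CohB1.genLocus ((Scheme.Modules.pullback (f ⁻¹ᵁ V).ι).obj N)
    (SDivGenH8.unitHom ((Scheme.Modules.pullback (f ⁻¹ᵁ V).ι).obj N) s) with hGdef
  have hres : ∀ x' : ((f ⁻¹ᵁ V : X.Opens) : Scheme.{u}), V.ι ((f ∣_ V) x') = f ((f ⁻¹ᵁ V).ι x') := fun x' => by
    rw [← Scheme.Hom.comp_apply, ← Scheme.Hom.comp_apply, morphismRestrict_ι]
  -- the closed image
  have hclosed : IsClosed ((f ∣_ V) '' ((SetLike.coe G)ᶜ)) :=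
    (f ∣_ V).isClosedMap _ G.isOpen.isClosed_compl
  let U₀ : (V : Scheme.{u}).Opens :=
    ⟨((f ∣_ V) '' ((SetLike.coe G)ᶜ))ᶜ, hclosed.isOpen_compl⟩
  have hyU₀ : (⟨y, hy⟩ : ↥V) ∈ U₀ := by
    rintro ⟨x', hx'G, hx'⟩
    have h1 : f ((f ⁻¹ᵁ V).ι x') = y := by
      rw [← hres x', hx']
      rfl
    have h2 : (f ⁻¹ᵁ V).ι x' ∈ Set.range (f.fiberι y) := by
      rw [Scheme.Hom.range_fiberι]
      exact h1
    obtain ⟨z, hz⟩ := h2
    have h3 : (gy f V y hy) z = x' := by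
      apply (f ⁻¹ᵁ V).ι.isOpenEmbedding.injective
      rw [← Scheme.Hom.comp_apply, gy_ι]
      exact hz
    have h4 : z ∈ (gy f V y hy) ⁻¹ᵁ G := by
      rw [hG]
      trivial
    exact hx'G (h3 ▸ h4)
  refine ⟨V.ι ''ᵁ U₀, ⟨⟨y, hy⟩, hyU₀, rfl⟩, ?_⟩
  -- the generator
  have hW'G : (f ⁻¹ᵁ V).ι ⁻¹ᵁ (f ⁻¹ᵁ (V.ι ''ᵁ U₀)) ≤ G := by
    intro x' hx'
    by_contra hcon
    obtain ⟨v, hv, hvx⟩ := hx'
    have hv' : v = (f ∣_ V) x' := by
      apply V.ι.isOpenEmbedding.injective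
      rw [hres x']
      exact hvx
    exact hv (hv' ▸ ⟨x', hcon, rfl⟩)
  have he' := isGen_val_of_le_genLocus
    (SDivGenH8.unitHom ((Scheme.Modules.pullback (f ⁻¹ᵁ V).ι).obj N) s) hW'G
  let α : (Scheme.Modules.pullback (f ⁻¹ᵁ V).ι).obj N ≅ N.restrict (f ⁻¹ᵁ V).ι :=
    ((Scheme.Modules.restrictFunctorIsoPullback (f ⁻¹ᵁ V).ι).app N).symm
  have he'' := isGen_of_iso α he'
  have he3 := isGen_of_restrict (f ⁻¹ᵁ V).ι N _ he''
  have heq : (f ⁻¹ᵁ V).ι ''ᵁ ((f ⁻¹ᵁ V).ι ⁻¹ᵁ (f ⁻¹ᵁ (V.ι ''ᵁ U₀))) = f ⁻¹ᵁ (V.ι ''ᵁ U₀) := by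
    rw [Scheme.Hom.image_preimage_eq_opensRange_inf, Scheme.Opens.opensRange_ι]
    refine inf_eq_right.mpr (fun x hx => ?_)
    obtain ⟨v, -, hvx⟩ := hx
    show f x ∈ V
    rw [← hvx]
    exact v.2
  obtain ⟨e, he⟩ : ∃ e : Γ(N, f ⁻¹ᵁ (V.ι ''ᵁ U₀)), IsGen N (f ⁻¹ᵁ (V.ι ''ᵁ U₀)) e := by
    rw [← heq]
    exact ⟨_, he3⟩
  exact Groth.Agent.GrTw.iso_of_isGen_open N _ e he

/-- **an invertible module which is trivial on a fibre with `H^1 = 0` is trivial near the fibre** -/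
theorem exists_trivial_near_fibre (y : Y) (N : X.Modules) (hN : PicF.IsInvertible N)
    (hfl : FlatMod.IsFlatOver f N) (h1 : Subsingleton (CohIII.fiberH f N y 1))
    (htriv : Nonempty (CohIII.fiberMod f N y ≅ Coh.structureModule (f.fiber y))) :
    ∃ U : Y.Opens, y ∈ U ∧
      Nonempty (N.restrict (f ⁻¹ᵁ U).ι ≅
        Coh.structureModule ((f ⁻¹ᵁ U : X.Opens) : Scheme.{u})) := by
  obtain ⟨V, hV, hyV, hvan⟩ :=
    exists_affine_nhd_fibre_vanishing f N (isCoh_of_isInvertible hN) hfl y 1 h1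
  haveI : IsAffine (V : Scheme.{u}) := hV
  exact triv_aux f y N hN hfl V hyV hvan htriv

end Near

end Groth.Agent.Lib.H0LiftH2
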