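import Mathlib
import Groth.Prelude.Def_RelProj4
import Groth.Agent.Lib.AwayBC3_helper5

/-!
# Base change: the irrelevant ideal of `S ⊗_A A'` is generated by that of `S`  (helper5)
-/

set_option autoImplicit false
universe u
open HomogeneousLocalization CategoryTheory CategoryTheory.Limits AlgebraicGeometry

namespace Groth.Agent.AwayBC

section irr
variable {A A' S S' : Type u} [CommRing A] [CommRing A'] [CommRing S] [CommRing S']
  [Algebra A A'] [Algebra A S] [Algebra A' S'] [Algebra S S'] [Algebra A S']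
  [IsScalarTower A A' S'] [IsScalarTower A S S']
  {𝒜 : ℕ → AddSubgroup S} [GradedRing 𝒜] {ℬ : ℕ → AddSubgroup S'} [GradedRing ℬ]
  (ψ : 𝒜 →+*ᵍ ℬ) (hψ : ∀ s, ψ s = algebraMap S S' s)
  (h0' : ∀ a' : A', algebraMap A' S' a' ∈ ℬ 0)
  (hP : Algebra.IsPushout A A' S S')

include hψ h0' hP in
theorem decompose_mem_map (y : S') (n : ℕ) (hn : 0 < n) :
    (DirectSum.decompose ℬ y n : S') ∈ Ideal.map ψ (HomogeneousIdeal.irrelevant 𝒜).toIdeal := by
  refine hP.out.inductionOn y
    (fun y => (DirectSum.decompose ℬ y n : S') ∈ Ideal.map ψ (HomogeneousIdeal.irrelevant 𝒜).toIdeal)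
    ?_ ?_ ?_ ?_
  · simp
  · intro s
    show (DirectSum.decompose ℬ (algebraMap S S' s) n : S') ∈ _
    rw [← hψ, ← GradedRingHom.map_directSumDecompose]
    exact Ideal.mem_map_of_mem _ (HomogeneousIdeal.mem_irrelevant_of_mem _ hn (SetLike.coe_mem _))
  · intro a' y ih
    show (DirectSum.decompose ℬ (a' • y) n : S') ∈ _
    rw [Algebra.smul_def, DirectSum.coe_decompose_mul_of_left_mem_zero ℬ (h0' a')]
    exact Ideal.mul_mem_left _ _ ih
  · intro y₁ y₂ h₁ h₂
    show (DirectSum.decompose ℬ (y₁ + y₂) n : S') ∈ _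
    rw [DirectSum.decompose_add, DirectSum.add_apply, AddSubgroup.coe_add]
    exact add_mem h₁ h₂

include hψ h0' hP in
theorem irrelevant_le_map :
    (HomogeneousIdeal.irrelevant ℬ).toIdeal ≤ Ideal.map ψ (HomogeneousIdeal.irrelevant 𝒜).toIdeal := by
  classical
  intro b hb
  rw [← DirectSum.sum_support_decompose ℬ b]
  refine Ideal.sum_mem _ (fun i _ => ?_)
  rcases Nat.eq_zero_or_pos i with rfl | hi0
  · have h0 : (DirectSum.decompose ℬ b 0 : S') = 0 := hb
    rw [h0]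
    exact zero_mem _
  · exact decompose_mem_map ψ hψ h0' hP b i hi0

end irr

section cat
variable {A A' S S' : CommRingCat.{u}} {𝒜 : ℕ → AddSubgroup S} [GradedRing 𝒜]
  {ℬ : ℕ → AddSubgroup S'} [GradedRing ℬ]

theorem irrelevant_le_map_cat (a : A ⟶ A') (s : A ⟶ S) (s' : A' ⟶ S') (t : S ⟶ S') (ψ : 𝒜 →+*ᵍ ℬ)
    (ht : ∀ x, ψ x = t.hom x) (hs' : ∀ x, s'.hom x ∈ ℬ 0)
    (hpo : IsPushout a s s' t) :
    (HomogeneousIdeal.irrelevant ℬ).toIdeal ≤ Ideal.map ψ (HomogeneousIdeal.irrelevant 𝒜).toIdeal := by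
  letI : Algebra A A' := a.hom.toAlgebra
  letI : Algebra A S := s.hom.toAlgebra
  letI : Algebra A' S' := s'.hom.toAlgebra
  letI : Algebra S S' := t.hom.toAlgebra
  letI : Algebra A S' := (t.hom.comp s.hom).toAlgebra
  haveI : IsScalarTower A S S' := IsScalarTower.of_algebraMap_eq' rfl
  haveI : IsScalarTower A A' S' := IsScalarTower.of_algebraMap_eq' (by
    have h := congrArg CommRingCat.Hom.hom hpo.w
    simp only [CommRingCat.hom_comp] at h
    exact h.symm)
  have hP : Algebra.IsPushout A A' S S' := CommRingCat.isPushout_iff_isPushout.mp hpo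
  exact irrelevant_le_map ψ ht hs' hP

end cat

section dom
variable {S S' : Type u} [CommRing S] [CommRing S'] {𝒜 : ℕ → AddSubgroup S} [GradedRing 𝒜]
  {ℬ : ℕ → AddSubgroup S'} [GradedRing ℬ]

theorem domOpen_eq_top (ψ : 𝒜 →+*ᵍ ℬ)
    (h : (HomogeneousIdeal.irrelevant ℬ).toIdeal ≤ Ideal.map ψ (HomogeneousIdeal.irrelevant 𝒜).toIdeal) :
    RelCone.domOpen ψ = ⊤ := by
  rw [eq_top_iff]
  intro x _
  rw [RelCone.mem_domOpen]
  by_contra hne
  push Not at hne
  apply x.not_irrelevant_le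
  intro b hb
  have h1 : Ideal.map ψ (HomogeneousIdeal.irrelevant 𝒜).toIdeal ≤ x.asHomogeneousIdeal.toIdeal :=
    Ideal.map_le_iff_le_comap.mpr (fun f hf => hne f hf)
  exact h1 (h hb)

end dom

end Groth.Agent.AwayBC
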