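import Mathlib
import Groth.Prelude.Def_RelSpec2
import Groth.Agent.Lib.ConeImm8_helper5

/-!
# `i(C) = Ĉ − j(X)`: the affine cone is the complement of the locus at infinity  (helper5)
-/

set_option autoImplicit false
universe u
open AlgebraicGeometry CategoryTheory CategoryTheory.Limits HomogeneousLocalization Opposite TopologicalSpace
open scoped HomogeneousIdeal

namespace Groth.Agent.ConeImm

section
variable {Y PC P : Scheme.{u}} {𝒮 𝒮h : RelProj.QCGrAlg Y}
  {ι : 𝒮.toQCAlg ⟶ 𝒮h.toQCAlg} {z : 𝒮h.presheaf.obj (op ⊤)} (hz : RelCone.IsPolyOver 𝒮 𝒮h ι z)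
  {pC : PC ⟶ Y}
  {chartC : ∀ (U : Y.Opens) (hU : IsAffineOpen U),
    (((pC ⁻¹ᵁ U : PC.Opens) : Scheme.{u}) ≅ Proj (𝒮h.deg U hU))}

/-- Membership in the image of `i`, read in the chart over `U`. -/
theorem mem_range_i_iff (hPC : RelProj.IsRelProj 𝒮h pC chartC) (i : 𝒮.toQCAlg.spec ⟶ PC)
    (hi : RelCone.IsConeImm 𝒮 hz pC chartC i) (U : Y.Opens) (hU : IsAffineOpen U) (x : PC)
    (hx : x ∈ pC ⁻¹ᵁ U) :
    x ∈ Set.range i.base ↔
      Groth.Agent.RelProjTN.zpt pC chartC U hU x hx ∈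
        Proj.basicOpen (𝒮h.deg U hU) (zU 𝒮h z U) := by
  have hS := strC_cone 𝒮 𝒮h ι z (thz hz) (thz_spec hz)
  have hip := comp_p hPC hS i (chartMor_of_isConeImm hz i hi)
  have hembd : (RelProj.emb pC chartC U hU).base (Groth.Agent.RelProjTN.zpt pC chartC U hU x hx) = x :=
    Groth.Agent.RelProjTN.emb_zpt U hU x hx
  constructor
  · rintro ⟨c, hc⟩
    have hcU : c ∈ 𝒮.toQCAlg.π ⁻¹ᵁ U := by
      rw [← hip]
      show pC.base (i.base c) ∈ U
      rw [hc]; exact hx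
    rw [𝒮.toQCAlg.π_preimage U hU] at hcU
    obtain ⟨c', rfl⟩ := hcU
    rw [i_ι_apply hz i hi U hU] at hc
    have : Groth.Agent.RelProjTN.zpt pC chartC U hU x hx = ptOf hz U hU c' := by
      apply (RelProj.emb pC chartC U hU).isOpenEmbedding.injective
      rw [hembd, hc]
    rw [this]
    exact ptOf_mem_basicOpen_z hz U hU c'
  · intro hy
    obtain ⟨c, hc⟩ := exists_ptOf hz U hU _ hy
    refine ⟨(𝒮.toQCAlg.ι U hU).base c, ?_⟩
    rw [i_ι_apply hz i hi U hU, hc, hembd]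

variable (θt : 𝒮h.toQCAlg ⟶ 𝒮.toQCAlg) (hθt : RelProj.IsGradedHom θt) (hιθ : ι ≫ θt = 𝟙 _)
  (hθz : (θt.hom.app (op ⊤)).hom z = 0)

include hθz in
theorem theta_zU (U : Y.Opens) : (θt.hom.app (op U)).hom (zU 𝒮h z U) = 0 := by
  have := congrArg (fun m => m.hom z) (θt.hom.naturality (homOfLE (le_top : U ≤ ⊤)).op)
  simp only [CommRingCat.hom_comp, RingHom.comp_apply] at this
  rw [hθz, map_zero] at this
  exact this

include hιθ in
theorem theta_ι (U : Y.Opens) (a : 𝒮.presheaf.obj (op U)) :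
    (θt.hom.app (op U)).hom ((ι.hom.app (op U)).hom a) = a := by
  have := congrArg (fun m => (m.hom.app (op U)).hom a) hιθ
  exact this

include hz hιθ hθz in
theorem exists_mul_z_of_theta_eq_zero (U : Y.Opens) (hU : IsAffineOpen U)
    (a : 𝒮h.presheaf.obj (op U)) (ha : (θt.hom.app (op U)).hom a = 0) :
    ∃ b, a = b * zU 𝒮h z U := by
  obtain ⟨P, rfl⟩ := (hz.bij U hU).2 a
  refine ⟨Polynomial.eval₂RingHom (ι.hom.app (op U)).hom (zU 𝒮h z U) P.divX, ?_⟩
  have hP : P = P.divX * Polynomial.X + Polynomial.C (P.coeff 0) := (Polynomial.divX_mul_X_add P).symm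
  have h1 : Polynomial.eval₂RingHom (ι.hom.app (op U)).hom (zU 𝒮h z U) P =
      Polynomial.eval₂RingHom (ι.hom.app (op U)).hom (zU 𝒮h z U) P.divX * zU 𝒮h z U +
        (ι.hom.app (op U)).hom (P.coeff 0) := by
    conv_lhs => rw [hP]
    rw [map_add, map_mul]
    simp only [Polynomial.coe_eval₂RingHom, Polynomial.eval₂_X, Polynomial.eval₂_C]
  rw [h1] at ha ⊢
  rw [map_add, map_mul, theta_zU θt hθz U, mul_zero, zero_add, theta_ι θt hιθ U] at ha
  rw [ha, map_zero, add_zero]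

variable (hirr : ∀ (U : Y.Opens) (hU : IsAffineOpen U),
      (𝒮.deg U hU)₊ ≤ ((𝒮h.deg U hU)₊).map (RelProj.gradedHomAt θt hθt U hU))
  {p : P ⟶ Y}
  {chart : ∀ (U : Y.Opens) (hU : IsAffineOpen U),
    (((p ⁻¹ᵁ U : P.Opens) : Scheme.{u}) ≅ Proj (𝒮.deg U hU))}

include hz hιθ hθz in
theorem range_map_theta (U : Y.Opens) (hU : IsAffineOpen U) (y : Proj (𝒮h.deg U hU)) :
    y ∈ Set.range (Proj.map (RelProj.gradedHomAt θt hθt U hU) (hirr U hU)).base ↔
      zU 𝒮h z U ∈ y.asHomogeneousIdeal := by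
  have hsurj : Function.Surjective (RelProj.gradedHomAt θt hθt U hU) := fun a =>
    ⟨(ι.hom.app (op U)).hom a, theta_ι θt hιθ U a⟩
  rw [Groth.Agent.Lib.ProjMap_helper3.range_map_of_surjective _ _ _ hsurj (hirr U hU)]
  constructor
  · intro h
    exact h _ (theta_zU θt hθz U)
  · intro h a ha
    obtain ⟨b, rfl⟩ := exists_mul_z_of_theta_eq_zero hz θt hιθ hθz U hU a ha
    exact Ideal.mul_mem_left _ _ h

include hz hιθ hθz in
/-- Membership in the image of `j`, read in the chart over `U`. -/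
theorem mem_range_j_iff (hPC : RelProj.IsRelProj 𝒮h pC chartC) (hP : RelProj.IsRelProj 𝒮 p chart)
    (j : P ⟶ PC) (hj : RelProj.IsRelProjMap θt hθt hirr chartC chart j)
    (U : Y.Opens) (hU : IsAffineOpen U) (x : PC) (hx : x ∈ pC ⁻¹ᵁ U) :
    x ∈ Set.range j.base ↔
      zU 𝒮h z U ∈ (Groth.Agent.RelProjTN.zpt pC chartC U hU x hx).asHomogeneousIdeal := by
  rw [← range_map_theta hz θt hθt hιθ hθz hirr U hU]
  have hembd : (RelProj.emb pC chartC U hU).base (Groth.Agent.RelProjTN.zpt pC chartC U hU x hx) = x :=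
    Groth.Agent.RelProjTN.emb_zpt U hU x hx
  have hjp := Groth.Agent.Lib.RelProj_helper3.relProjMap_comp θt hθt hirr hPC hP j hj
  have hjU := hj U hU
  constructor
  · rintro ⟨w, hw⟩
    have hwU : w ∈ p ⁻¹ᵁ U := by
      rw [← hjp]
      show pC.base (j.base w) ∈ U
      rw [hw]; exact hx
    have h1 := congrArg (fun m => m.base ⟨w, hwU⟩) hjU
    have h2 : j.base w = (RelProj.emb pC chartC U hU).base
        ((Proj.map (RelProj.gradedHomAt θt hθt U hU) (hirr U hU)).base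
          ((chart U hU).hom.base ⟨w, hwU⟩)) := h1
    refine ⟨(chart U hU).hom.base ⟨w, hwU⟩, ?_⟩
    apply (RelProj.emb pC chartC U hU).isOpenEmbedding.injective
    rw [hembd, ← hw, h2]
  · rintro ⟨v, hv⟩
    refine ⟨(p ⁻¹ᵁ U).ι.base ((chart U hU).inv.base v), ?_⟩
    have h1 := congrArg (fun m => m.base ((chart U hU).inv.base v)) hjU
    have h2 : j.base ((p ⁻¹ᵁ U).ι.base ((chart U hU).inv.base v)) =
        (RelProj.emb pC chartC U hU).base
          ((Proj.map (RelProj.gradedHomAt θt hθt U hU) (hirr U hU)).base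
            ((chart U hU).hom.base ((chart U hU).inv.base v))) := h1
    have h3 : (chart U hU).hom.base ((chart U hU).inv.base v) = v := by
      change ((chart U hU).inv ≫ (chart U hU).hom).base v = v
      rw [Iso.inv_hom_id]; rfl
    rw [h2, h3, hv, hembd]

include hιθ hθz in
theorem range_i_eq_compl (hPC : RelProj.IsRelProj 𝒮h pC chartC) (hP : RelProj.IsRelProj 𝒮 p chart)
    (i : 𝒮.toQCAlg.spec ⟶ PC) (hi : RelCone.IsConeImm 𝒮 hz pC chartC i)
    (j : P ⟶ PC) (hj : RelProj.IsRelProjMap θt hθt hirr chartC chart j) :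
    Set.range i.base = (Set.range j.base)ᶜ := by
  ext x
  obtain ⟨_, ⟨U, hU : IsAffineOpen U, rfl⟩, hxU, -⟩ :=
    (Y.isBasis_affineOpens).exists_subset_of_mem_open (Set.mem_univ (pC.base x)) isOpen_univ
  have hx : x ∈ pC ⁻¹ᵁ U := hxU
  rw [Set.mem_compl_iff, mem_range_i_iff hz hPC i hi U hU x hx,
    mem_range_j_iff hz θt hθt hιθ hθz hirr hPC hP j hj U hU x hx, Proj.mem_basicOpen]

end

end Groth.Agent.ConeImm
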