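import Mathlib
import Groth.Prelude.Def_RelProj4
import Groth.Agent.Lib.ConeFun2_helper5
import Groth.Agent.Lib.ConeImm10_helper5

/-!
# Functoriality of projective cones for graded `q`-morphisms: the parts at infinity  (helper5)
-/

set_option autoImplicit false
universe u
open AlgebraicGeometry CategoryTheory CategoryTheory.Limits HomogeneousLocalization Opposite TopologicalSpace
open scoped HomogeneousIdeal

noncomputable section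

namespace Groth.Agent.ConeFun

open Groth.Agent.ConeImm Groth.Agent.RelProjTN Groth.Agent.ProjQ RelProj

section gen
variable {Y Y' P P' : Scheme.{u}} {g : Y' ⟶ Y} {𝒮 : RelProj.QCGrAlg Y} {𝒮' : RelProj.QCGrAlg Y'}
  (u : RelProj.QGrHom g 𝒮 𝒮')
  {p : P ⟶ Y}
  {chart : ∀ (U : Y.Opens) (hU : IsAffineOpen U), (((p ⁻¹ᵁ U : P.Opens) : Scheme.{u}) ≅ Proj (𝒮.deg U hU))}
  {p' : P' ⟶ Y'}
  {chart' : ∀ (U : Y'.Opens) (hU : IsAffineOpen U),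
    (((p' ⁻¹ᵁ U : P'.Opens) : Scheme.{u}) ≅ Proj (𝒮'.deg U hU))}

/-- An everywhere defined `Proj(u)` restricts to `Proj(u)` on any open. -/
theorem isProjQMapOn_of_isProjQMap (h : P' ⟶ P) (hh : RelProj.IsProjQMap u p chart p' chart' h)
    (W : P'.Opens) : RelProj.IsProjQMapOn u p chart p' chart' W (W.ι ≫ h) := by
  intro U hU U' hU' hle d hd f hf hW
  rw [← Category.assoc, IsOpenImmersion.lift_fac]
  exact hh.2 U hU U' hU' hle d hd f hf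

end gen

section preComp
variable {Y Y' : Scheme.{u}} {q : Y' ⟶ Y} {𝒯 𝒮 : RelProj.QCGrAlg Y} {𝒮' : RelProj.QCGrAlg Y'}

theorem preComp_gradedAt (φ : 𝒯.toQCAlg ⟶ 𝒮.toQCAlg) (hφ : RelProj.IsGradedHom φ)
    (u : RelProj.QGrHom q 𝒮 𝒮') (U : Y.Opens) (hU : IsAffineOpen U) (U' : Y'.Opens)
    (hU' : IsAffineOpen U') (hle : U' ≤ q ⁻¹ᵁ U) (s : 𝒯.presheaf.obj (op U)) :
    (preComp φ hφ u).gradedAt U hU U' hU' hle s =
      u.gradedAt U hU U' hU' hle ((φ.hom.app (op U)).hom s) := rfl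

end preComp

section main
variable {Y Y' PC PC' P P' : Scheme.{u}} {q : Y' ⟶ Y}
  {𝒮 : RelProj.QCGrAlg Y} {𝒮' : RelProj.QCGrAlg Y'} (u : RelProj.QGrHom q 𝒮 𝒮')
  {𝒮h : RelProj.QCGrAlg Y} {ι : 𝒮.toQCAlg ⟶ 𝒮h.toQCAlg} {z : 𝒮h.presheaf.obj (op ⊤)}
  (hz : RelCone.IsPolyOver 𝒮 𝒮h ι z)
  {pC : PC ⟶ Y}
  {chartC : ∀ (U : Y.Opens) (hU : IsAffineOpen U),
    (((pC ⁻¹ᵁ U : PC.Opens) : Scheme.{u}) ≅ Proj (𝒮h.deg U hU))}
  {𝒮h' : RelProj.QCGrAlg Y'} {ι' : 𝒮'.toQCAlg ⟶ 𝒮h'.toQCAlg} {z' : 𝒮h'.presheaf.obj (op ⊤)}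
  (hz' : RelCone.IsPolyOver 𝒮' 𝒮h' ι' z')
  {pC' : PC' ⟶ Y'}
  {chartC' : ∀ (U : Y'.Opens) (hU : IsAffineOpen U),
    (((pC' ⁻¹ᵁ U : PC'.Opens) : Scheme.{u}) ≅ Proj (𝒮h'.deg U hU))}
  (uh : RelProj.QGrHom q 𝒮h 𝒮h')
  (huh : ∀ U : Y.Opens, ι.hom.app (op U) ≫ uh.app U = u.app U ≫ ι'.hom.app (op (q ⁻¹ᵁ U)))
  (huhz : (uh.app ⊤).hom z = RelCone.restrictTop 𝒮h' z' (q ⁻¹ᵁ ⊤))
  {p : P ⟶ Y}
  {chart : ∀ (U : Y.Opens) (hU : IsAffineOpen U), (((p ⁻¹ᵁ U : P.Opens) : Scheme.{u}) ≅ Proj (𝒮.deg U hU))}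
  {p' : P' ⟶ Y'}
  {chart' : ∀ (U : Y'.Opens) (hU : IsAffineOpen U),
    (((p' ⁻¹ᵁ U : P'.Opens) : Scheme.{u}) ≅ Proj (𝒮'.deg U hU))}
  (θ : 𝒮h.toQCAlg ⟶ 𝒮.toQCAlg) (hθ : RelProj.IsGradedHom θ) (hθι : ι ≫ θ = 𝟙 _)
  (hθz : (θ.hom.app (op ⊤)).hom z = 0)
  (θ' : 𝒮h'.toQCAlg ⟶ 𝒮'.toQCAlg) (hθ' : RelProj.IsGradedHom θ') (hθι' : ι' ≫ θ' = 𝟙 _)
  (hθz' : (θ'.hom.app (op ⊤)).hom z' = 0)

include hz huh huhz hθι hθz hθι' hθz' in
/-- `θ' ∘ φ̂ = φ ∘ θ` over affine pairs. -/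
theorem theta_compat (U : Y.Opens) (hU : IsAffineOpen U) (U' : Y'.Opens) (hU' : IsAffineOpen U')
    (hle : U' ≤ q ⁻¹ᵁ U) (s : 𝒮h.presheaf.obj (op U)) :
    (θ'.hom.app (op U')).hom (uh.gradedAt U hU U' hU' hle s) =
      u.gradedAt U hU U' hU' hle ((θ.hom.app (op U)).hom s) := by
  have key : ((θ'.hom.app (op U')).hom.comp (uh.gradedAt U hU U' hU' hle).toRingHom).comp
        (Polynomial.eval₂RingHom (ι.hom.app (op U)).hom (RelCone.restrictTop 𝒮h z U)) =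
      ((u.gradedAt U hU U' hU' hle).toRingHom.comp (θ.hom.app (op U)).hom).comp
        (Polynomial.eval₂RingHom (ι.hom.app (op U)).hom (RelCone.restrictTop 𝒮h z U)) := by
    apply Polynomial.ringHom_ext
    · intro a
      simp only [RingHom.comp_apply, Polynomial.coe_eval₂RingHom, Polynomial.eval₂_C]
      show (θ'.hom.app (op U')).hom (uh.gradedAt U hU U' hU' hle ((ι.hom.app (op U)).hom a)) =
        u.gradedAt U hU U' hU' hle ((θ.hom.app (op U)).hom ((ι.hom.app (op U)).hom a))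
      rw [uh_iota u uh huh U hU U' hU' hle a, theta_ι θ' hθι' U', theta_ι θ hθι U]
    · simp only [RingHom.comp_apply, Polynomial.coe_eval₂RingHom, Polynomial.eval₂_X]
      show (θ'.hom.app (op U')).hom (uh.gradedAt U hU U' hU' hle (zU 𝒮h z U)) =
        u.gradedAt U hU U' hU' hle ((θ.hom.app (op U)).hom (zU 𝒮h z U))
      rw [uh_z uh huhz U hU U' hU' hle, theta_zU θ' hθz' U', theta_zU θ hθz U, map_zero]
  obtain ⟨Q, rfl⟩ := (hz.bij U hU).2 s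
  exact RingHom.congr_fun key Q

include hz huh huhz hθι hθz hθι' hθz' in
/-- Compatibility on affine triples: `θ' ∘ φ̂ = φ ∘ θ`. -/
theorem hcomp_A' (U₁ : Y.Opens) (hU₁ : IsAffineOpen U₁) (U₂ : Y'.Opens) (hU₂ : IsAffineOpen U₂)
    (hle₁ : U₂ ≤ q ⁻¹ᵁ U₁) (U₃ : Y'.Opens) (hU₃ : IsAffineOpen U₃)
    (hle₂ : U₃ ≤ (𝟙 Y' : Y' ⟶ Y') ⁻¹ᵁ U₂) (hle₁₂ : U₃ ≤ q ⁻¹ᵁ U₁) (s : 𝒮h.presheaf.obj (op U₁)) :
    (RelProj.QGrHom.ofHom θ' hθ').gradedAt U₂ hU₂ U₃ hU₃ hle₂ (uh.gradedAt U₁ hU₁ U₂ hU₂ hle₁ s) =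
      (preComp θ hθ u).gradedAt U₁ hU₁ U₃ hU₃ hle₁₂ s := by
  rw [gradedAt_apply' θ' hθ' U₂ hU₂ U₃ hU₃ hle₂, preComp_gradedAt,
    ← theta_compat u hz uh huh huhz θ hθι hθz θ' hθι' hθz' U₁ hU₁ U₃ hU₃ hle₁₂ s,
    ← phi_res θ' (show U₃ ≤ U₂ from hle₂)]
  congr 1
  have h1 := congrArg (fun m => m.hom s) (uh.toQHom.appLE_map hle₁ (show U₃ ≤ U₂ from hle₂))
  simp only [CommRingCat.hom_comp, RingHom.comp_apply] at h1
  exact h1

include hz huh hθι' in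
/-- **(1)** `j'(G(φ)) ⊆ G(φ̂)`. -/
theorem infinity_mem_domQ (hC' : RelProj.IsRelProj 𝒮h' pC' chartC') (hP' : RelProj.IsRelProj 𝒮' p' chart')
    (jX' : P' ⟶ PC')
    (hjX' : RelProj.IsProjQMap (RelProj.QGrHom.ofHom θ' hθ') pC' chartC' p' chart' jX')
    (x : P') (hx : x ∈ RelProj.domQ u p' chart') : jX'.base x ∈ RelProj.domQ uh pC' chartC' := by
  obtain ⟨U, hU, U', hU', hle, hxU'⟩ := exists_pair (q := q) (p'.base x)
  have hxU'' : x ∈ p' ⁻¹ᵁ U' := hxU'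
  obtain ⟨d, hd, f, hf, hfr⟩ := exists_idx_at u hP' x hx U hU U' hU' hle hxU''
  have hfr' := (mem_range_cP_iff u ⟨U, hU, U', hU', hle, d, hd, f, hf⟩ x hxU'').mp hfr
  have hfr'' : zpt p' chart' U' hU' x hxU'' ∈ Proj.basicOpen (𝒮'.deg U' hU')
      (u.gradedAt U hU U' hU' hle f) := hfr'
  have hx₂ : x ∈ RelProj.domQ (RelProj.QGrHom.ofHom θ' hθ') p' chart' := by rw [hjX'.1]; trivial
  let x₂ : ((RelProj.domQ (RelProj.QGrHom.ofHom θ' hθ') p' chart' : P'.Opens) : Scheme.{u}) := ⟨x, hx₂⟩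
  have hv₂ := isProjQMapOn_of_isProjQMap (RelProj.QGrHom.ofHom θ' hθ') jX' hjX'
    (RelProj.domQ (RelProj.QGrHom.ofHom θ' hθ') p' chart')
  have hvx : ((RelProj.domQ (RelProj.QGrHom.ofHom θ' hθ') p' chart').ι ≫ jX').base x₂ ∈ pC' ⁻¹ᵁ U' :=
    projQ_mem_preimage (RelProj.QGrHom.ofHom θ' hθ') hC' hP' _ rfl _ hv₂ x₂ U' U'
      (Groth.Agent.RelProjTN.hle U') hxU''
  have hh : uh.gradedAt U hU U' hU' hle ((ι.hom.app (op U)).hom f) ∈ 𝒮h'.deg U' hU' d :=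
    (uh.gradedAt U hU U' hU' hle).map_mem (hz.graded U hU d f hf)
  have e1 : (RelProj.QGrHom.ofHom θ' hθ').gradedAt U' hU' U' hU' (Groth.Agent.RelProjTN.hle U')
      (uh.gradedAt U hU U' hU' hle ((ι.hom.app (op U)).hom f)) = u.gradedAt U hU U' hU' hle f := by
    refine (psi_apply θ' hθ' U' hU' _).trans ?_
    rw [uh_iota u uh huh U hU U' hU' hle f, theta_ι θ' hθι' U']
  have h2 := (projQ_mem_basicOpen_iff (RelProj.QGrHom.ofHom θ' hθ') hP' _ rfl _ hv₂ x₂ U' hU' U' hU'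
    (Groth.Agent.RelProjTN.hle U') hxU'' hvx hd hh).mpr
    ((congrArg (fun t => zpt p' chart' U' hU' x hxU'' ∈ Proj.basicOpen (𝒮'.deg U' hU') t) e1).mpr hfr'')
  exact mem_domQ_of_mem_domOpen uh (jX'.base x) U hU U' hU' hle hvx
    (mem_domOpen_of_mem_basicOpen _ hd (hz.graded U hU d f hf) _ h2)

include hz huh huhz hθι hθz hθι' hθz' in
/-- **(2)** `Φ̂ ∘ j' = j ∘ Proj(φ)` on `G(φ)`, for `T`-valued points. -/
theorem infinity_compat (hC : RelProj.IsRelProj 𝒮h pC chartC) (hC' : RelProj.IsRelProj 𝒮h' pC' chartC')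
    (hP : RelProj.IsRelProj 𝒮 p chart) (hP' : RelProj.IsRelProj 𝒮' p' chart')
    (Φh : ((RelProj.domQ uh pC' chartC' : PC'.Opens) : Scheme.{u}) ⟶ PC)
    (hΦh : RelProj.IsProjQMapOn uh pC chartC pC' chartC' (RelProj.domQ uh pC' chartC') Φh)
    (Φ : ((RelProj.domQ u p' chart' : P'.Opens) : Scheme.{u}) ⟶ P)
    (hΦ : RelProj.IsProjQMapOn u p chart p' chart' (RelProj.domQ u p' chart') Φ)
    (jX : P ⟶ PC) (hjX : RelProj.IsProjQMap (RelProj.QGrHom.ofHom θ hθ) pC chartC p chart jX)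
    (jX' : P' ⟶ PC')
    (hjX' : RelProj.IsProjQMap (RelProj.QGrHom.ofHom θ' hθ') pC' chartC' p' chart' jX')
    (T : Scheme.{u}) (d : T ⟶ ((RelProj.domQ u p' chart' : P'.Opens) : Scheme.{u}))
    (e : T ⟶ ((RelProj.domQ uh pC' chartC' : PC'.Opens) : Scheme.{u}))
    (hde : d ≫ (RelProj.domQ u p' chart').ι ≫ jX' = e ≫ (RelProj.domQ uh pC' chartC').ι) :
    e ≫ Φh = d ≫ Φ ≫ jX := by
  obtain ⟨vw, hvw⟩ := exists_projQMapOn (preComp θ hθ u) hC hP'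
  -- the open `G(θ) = ⊤ ⊆ P`
  have hβr : Set.range (d ≫ Φ).base ⊆
      Set.range (RelProj.domQ (RelProj.QGrHom.ofHom θ hθ) p chart).ι.base := by
    rw [Scheme.Opens.range_ι, hjX.1]; exact fun _ _ => trivial
  have hβ : IsOpenImmersion.lift (RelProj.domQ (RelProj.QGrHom.ofHom θ hθ) p chart).ι (d ≫ Φ) hβr ≫
      (RelProj.domQ (RelProj.QGrHom.ofHom θ hθ) p chart).ι = d ≫ Φ := IsOpenImmersion.lift_fac _ _ _
  generalize IsOpenImmersion.lift (RelProj.domQ (RelProj.QGrHom.ofHom θ hθ) p chart).ι (d ≫ Φ) hβr = β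
    at hβ
  have hB := comp_general (RelProj.QGrHom.ofHom θ hθ) u (preComp θ hθ u)
    (Category.comp_id q) (hcomp_B θ hθ u) hP hP'
    _ rfl _ (isProjQMapOn_of_isProjQMap (RelProj.QGrHom.ofHom θ hθ) jX hjX _) _ rfl Φ hΦ _ rfl vw hvw
    d β hβ.symm
  -- the open `G(θ') = ⊤ ⊆ P'`
  have hαr : Set.range (d ≫ (RelProj.domQ u p' chart').ι).base ⊆
      Set.range (RelProj.domQ (RelProj.QGrHom.ofHom θ' hθ') p' chart').ι.base := by
    rw [Scheme.Opens.range_ι, hjX'.1]; exact fun _ _ => trivial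
  have hα : IsOpenImmersion.lift (RelProj.domQ (RelProj.QGrHom.ofHom θ' hθ') p' chart').ι
      (d ≫ (RelProj.domQ u p' chart').ι) hαr ≫
      (RelProj.domQ (RelProj.QGrHom.ofHom θ' hθ') p' chart').ι = d ≫ (RelProj.domQ u p' chart').ι :=
    IsOpenImmersion.lift_fac _ _ _
  generalize IsOpenImmersion.lift (RelProj.domQ (RelProj.QGrHom.ofHom θ' hθ') p' chart').ι
    (d ≫ (RelProj.domQ u p' chart').ι) hαr = α at hα
  have hA := comp_general uh (RelProj.QGrHom.ofHom θ' hθ') (preComp θ hθ u)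
    (Category.id_comp q) (hcomp_A' u hz uh huh huhz θ hθ hθι hθz θ' hθ' hθι' hθz') hC' hP'
    _ rfl Φh hΦh _ rfl _ (isProjQMapOn_of_isProjQMap (RelProj.QGrHom.ofHom θ' hθ') jX' hjX' _)
    _ rfl vw hvw α e (by rw [← Category.assoc, hα, Category.assoc]; exact hde)
  have hrange : Set.range (d ≫ (RelProj.domQ u p' chart').ι).base ⊆
      Set.range (RelProj.domQ (preComp θ hθ u) p' chart').ι.base := by
    rw [Scheme.Opens.range_ι]; exact hB.1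
  have hγ : IsOpenImmersion.lift (RelProj.domQ (preComp θ hθ u) p' chart').ι
      (d ≫ (RelProj.domQ u p' chart').ι) hrange ≫
      (RelProj.domQ (preComp θ hθ u) p' chart').ι = d ≫ (RelProj.domQ u p' chart').ι :=
    IsOpenImmersion.lift_fac _ _ _
  generalize IsOpenImmersion.lift (RelProj.domQ (preComp θ hθ u) p' chart').ι
      (d ≫ (RelProj.domQ u p' chart').ι) hrange = γ at hγ
  have h1 := hB.2 γ hγ
  have h2 := hA.2 γ (hγ.trans hα.symm)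
  rw [← h2, h1, ← Category.assoc, hβ, Category.assoc]

end main

end Groth.Agent.ConeFun
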