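import Mathlib
import Groth.Prelude.Def_RelProj4
import Groth.Agent.Lib.ProjQ5_helper5
import Groth.Agent.Lib.ConeFun1_helper5
import Groth.Agent.Lib.ConeFun3_helper5
import Groth.Agent.Lib.AwayBC4_helper5
import Groth.Agent.Lib.SpecChart_helper5
import Groth.Agent.Lib.PullbackLocal_helper5

/-!
# `Proj` commutes with base change  (helper5)

For a graded `g`-morphism `u : 𝒮 → 𝒮'` which is a base change (`RelSpec.IsQBaseChange`):
`G(u) = Proj(𝒮')`, `Proj(u)` exists, and the square `Proj(𝒮') → Proj(𝒮)`, `Y' → Y` is cartesian.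
-/

set_option autoImplicit false
universe u
open AlgebraicGeometry CategoryTheory CategoryTheory.Limits HomogeneousLocalization Opposite TopologicalSpace
open scoped HomogeneousIdeal

noncomputable section

namespace Groth.Agent.ProjQBC

open Groth.Agent.ConeImm Groth.Agent.RelProjTN RelProj Groth.Agent.ProjQ Groth.Agent.AwayBC
open Groth.Agent.SpecChart Groth.Agent.PullbackLocal

section
variable {Y Y' P P' : Scheme.{u}} {g : Y' ⟶ Y} {𝒮 : RelProj.QCGrAlg Y} {𝒮' : RelProj.QCGrAlg Y'}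
  (u : RelProj.QGrHom g 𝒮 𝒮')
  {p : P ⟶ Y}
  {chart : ∀ (U : Y.Opens) (hU : IsAffineOpen U), (((p ⁻¹ᵁ U : P.Opens) : Scheme.{u}) ≅ Proj (𝒮.deg U hU))}
  {p' : P' ⟶ Y'}
  {chart' : ∀ (U : Y'.Opens) (hU : IsAffineOpen U),
    (((p' ⁻¹ᵁ U : P'.Opens) : Scheme.{u}) ≅ Proj (𝒮'.deg U hU))}

/-- Over an affine pair of a base change, `G(u_{U,U'})` is everything. -/
theorem domOpen_eq_top_of_isQBaseChange (hu : RelSpec.IsQBaseChange u.toQHom)
    (U : Y.Opens) (hU : IsAffineOpen U) (U' : Y'.Opens) (hU' : IsAffineOpen U') (hle : U' ≤ g ⁻¹ᵁ U) :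
    RelCone.domOpen (u.gradedAt U hU U' hU' hle) = ⊤ :=
  domOpen_eq_top _ (irrelevant_le_map_cat (g.appLE U U' hle) (𝒮.str.app (op U)) (𝒮'.str.app (op U'))
    (u.appLE U U' hle) (u.gradedAt U hU U' hU' hle) (fun _ => rfl) (𝒮'.str_mem U' hU')
    (hu U hU U' hU' hle))

/-- **`Proj(u)` is everywhere defined** for a base change. -/
theorem domQ_eq_top (hu : RelSpec.IsQBaseChange u.toQHom) : RelProj.domQ u p' chart' = ⊤ := by
  rw [eq_top_iff]
  intro x _
  obtain ⟨U, hU, U', hU', hle, hxU'⟩ := Groth.Agent.ConeFun.exists_pair (q := g) (p'.base x)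
  have hxU'' : x ∈ p' ⁻¹ᵁ U' := hxU'
  refine mem_domQ_of_mem_domOpen u x U hU U' hU' hle hxU'' ?_
  rw [domOpen_eq_top_of_isQBaseChange u hu U hU U' hU' hle]
  trivial

/-- **Existence** of an everywhere defined `Proj(u)` when `G(u)` is everything. -/
theorem exists_isProjQMap (hP : RelProj.IsRelProj 𝒮 p chart) (hP' : RelProj.IsRelProj 𝒮' p' chart')
    (hdom : RelProj.domQ u p' chart' = ⊤) :
    ∃ h : P' ⟶ P, RelProj.IsProjQMap u p chart p' chart' h := by
  obtain ⟨v, hv⟩ := exists_projQMapOn u hP hP'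
  haveI : IsIso (RelProj.domQ u p' chart').ι := isIso_ι_of_eq_top _ hdom
  refine ⟨inv (RelProj.domQ u p' chart').ι ≫ v, hdom, ?_⟩
  intro U hU U' hU' hle d hd f hf
  have h1 := c_comp_of_isProjQMapOn u v hv ⟨U, hU, U', hU', hle, d, hd, f, hf⟩
  have h2 := c_ι u p' chart' ⟨U, hU, U', hU', hle, d, hd, f, hf⟩
  have h3 : RelProj.awayEmb u p' chart' U hU U' hU' hle hd f hf =
      c u p' chart' ⟨U, hU, U', hU', hle, d, hd, f, hf⟩ ≫ (RelProj.domQ u p' chart').ι := h2.symm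
  rw [h3, Category.assoc, IsIso.hom_inv_id_assoc]
  exact h1

/-- `Proj(u)` lies over `g`. -/
theorem isProjQMap_comm (hP : RelProj.IsRelProj 𝒮 p chart) (hP' : RelProj.IsRelProj 𝒮' p' chart')
    (h : P' ⟶ P) (hh : RelProj.IsProjQMap u p chart p' chart' h) : h ≫ p = p' ≫ g := by
  haveI : IsIso (RelProj.domQ u p' chart').ι := isIso_ι_of_eq_top _ hh.1
  have h1 := projQMapOn_comp_p u hP hP' _
    (Groth.Agent.ConeFun.isProjQMapOn_of_isProjQMap u h hh (RelProj.domQ u p' chart'))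
  rw [Category.assoc] at h1
  exact (cancel_epi (RelProj.domQ u p' chart').ι).mp h1

end

end Groth.Agent.ProjQBC
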