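import Mathlib
import Groth.Prelude.Def_RelProj4
import Groth.Agent.Lib.ProjQBC1_helper5

/-!
# `Proj` commutes with base change, part 2: the cartesian square  (helper5)
-/

set_option autoImplicit false
universe u
open AlgebraicGeometry CategoryTheory CategoryTheory.Limits HomogeneousLocalization Opposite TopologicalSpace
open scoped HomogeneousIdeal

noncomputable section

namespace Groth.Agent.ProjQBC

open Groth.Agent.ConeImm Groth.Agent.RelProjTN RelProj Groth.Agent.ProjQ Groth.Agent.AwayBC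
open Groth.Agent.SpecChart Groth.Agent.PullbackLocal

section
variable {Y P : Scheme.{u}} {𝒮 : RelProj.QCGrAlg Y}
  (p : P ⟶ Y)
  (chart : ∀ (U : Y.Opens) (hU : IsAffineOpen U), (((p ⁻¹ᵁ U : P.Opens) : Scheme.{u}) ≅ Proj (𝒮.deg U hU)))

/-- The standard chart of `Proj(𝒮)` at a homogeneous `f` over an affine open. -/
def jP (U : Y.Opens) (hU : IsAffineOpen U) {d : ℕ} (hd : 0 < d) (f : 𝒮.presheaf.obj (op U))
    (hf : f ∈ 𝒮.deg U hU d) : Spec (CommRingCat.of (Away (𝒮.deg U hU) f)) ⟶ P :=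
  Proj.awayι (𝒮.deg U hU) f hf hd ≫ RelProj.emb p chart U hU

instance (U : Y.Opens) (hU : IsAffineOpen U) {d : ℕ} (hd : 0 < d) (f : 𝒮.presheaf.obj (op U))
    (hf : f ∈ 𝒮.deg U hU d) : IsOpenImmersion (jP p chart U hU hd f hf) := by
  unfold jP RelProj.emb
  infer_instance

variable {p chart}

theorem jP_apply (U : Y.Opens) (hU : IsAffineOpen U) {d : ℕ} (hd : 0 < d) (f : 𝒮.presheaf.obj (op U))
    (hf : f ∈ 𝒮.deg U hU d) (y : Spec (CommRingCat.of (Away (𝒮.deg U hU) f))) :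
    (jP p chart U hU hd f hf).base y =
      (RelProj.emb p chart U hU).base ((Proj.awayι (𝒮.deg U hU) f hf hd).base y) := by
  unfold jP
  rw [Scheme.Hom.comp_base, TopCat.coe_comp, Function.comp_apply]

theorem mem_range_jP_iff (U : Y.Opens) (hU : IsAffineOpen U) {d : ℕ} (hd : 0 < d)
    (f : 𝒮.presheaf.obj (op U)) (hf : f ∈ 𝒮.deg U hU d) (t : P) (ht : t ∈ p ⁻¹ᵁ U) :
    t ∈ Set.range (jP p chart U hU hd f hf).base ↔
      zpt p chart U hU t ht ∈ Proj.basicOpen (𝒮.deg U hU) f := by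
  have key := Proj.opensRange_awayι (𝒮.deg U hU) f hf hd
  refine Iff.trans ?_ (Eq.to_iff (congrArg (fun O => zpt p chart U hU t ht ∈ O) key))
  constructor
  · rintro ⟨y, hy⟩
    refine ⟨y, ?_⟩
    apply (RelProj.emb p chart U hU).isOpenEmbedding.injective
    rw [emb_zpt, ← hy, jP_apply]
  · rintro ⟨y, hy⟩
    refine ⟨y, ?_⟩
    rw [jP_apply]
    refine (congrArg (RelProj.emb p chart U hU).base hy).trans ?_
    exact emb_zpt U hU t ht

theorem range_jP_subset (U : Y.Opens) (hU : IsAffineOpen U) {d : ℕ} (hd : 0 < d)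
    (f : 𝒮.presheaf.obj (op U)) (hf : f ∈ 𝒮.deg U hU d) (t : P)
    (ht : t ∈ Set.range (jP p chart U hU hd f hf).base) : t ∈ p ⁻¹ᵁ U := by
  obtain ⟨y, hy⟩ := ht
  rw [← hy, jP_apply]
  exact mem_of_emb U hU _

/-- The standard chart lies over `Spec` of the structure map `O(U) → 𝒮(U)_(f)`. -/
theorem jP_comp (hP : RelProj.IsRelProj 𝒮 p chart) (U : Y.Opens) (hU : IsAffineOpen U) {d : ℕ}
    (hd : 0 < d) (f : 𝒮.presheaf.obj (op U)) (hf : f ∈ 𝒮.deg U hU d) :
    jP p chart U hU hd f hf ≫ p =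
      Spec.map (CommRingCat.ofHom (toAwayHom (𝒮.str.app (op U)).hom (𝒮.str_mem U hU) f)) ≫
        hU.fromSpec := by
  unfold jP
  rw [Category.assoc, emb_comp hP, ← Category.assoc, Proj.awayι_toSpecZero, ← Category.assoc,
    ← Spec.map_comp]
  rfl

end

section
variable {Y Y' P P' : Scheme.{u}} {g : Y' ⟶ Y} {𝒮 : RelProj.QCGrAlg Y} {𝒮' : RelProj.QCGrAlg Y'}
  (u : RelProj.QGrHom g 𝒮 𝒮')
  {p : P ⟶ Y}
  {chart : ∀ (U : Y.Opens) (hU : IsAffineOpen U), (((p ⁻¹ᵁ U : P.Opens) : Scheme.{u}) ≅ Proj (𝒮.deg U hU))}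
  {p' : P' ⟶ Y'}
  {chart' : ∀ (U : Y'.Opens) (hU : IsAffineOpen U),
    (((p' ⁻¹ᵁ U : P'.Opens) : Scheme.{u}) ≅ Proj (𝒮'.deg U hU))}

instance awayEmb_isOpenImmersion (U : Y.Opens) (hU : IsAffineOpen U) (U' : Y'.Opens)
    (hU' : IsAffineOpen U') (hle : U' ≤ g ⁻¹ᵁ U) {d : ℕ} (hd : 0 < d) (f : 𝒮.presheaf.obj (op U))
    (hf : f ∈ 𝒮.deg U hU d) :
    IsOpenImmersion (RelProj.awayEmb u p' chart' U hU U' hU' hle hd f hf) := by
  unfold RelProj.awayEmb RelProj.emb
  infer_instance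

/-- The preimage of a standard chart of `P` under `Proj(u)`, over `U'`, is the standard chart. -/
theorem opensRange_awayEmb_eq (hP : RelProj.IsRelProj 𝒮 p chart) (hP' : RelProj.IsRelProj 𝒮' p' chart')
    (h : P' ⟶ P) (hh : RelProj.IsProjQMap u p chart p' chart' h)
    (U : Y.Opens) (hU : IsAffineOpen U) (U' : Y'.Opens)
    (hU' : IsAffineOpen U') (hle : U' ≤ g ⁻¹ᵁ U) {d : ℕ} (hd : 0 < d) (f : 𝒮.presheaf.obj (op U))
    (hf : f ∈ 𝒮.deg U hU d) :
    (RelProj.awayEmb u p' chart' U hU U' hU' hle hd f hf).opensRange =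
      h ⁻¹ᵁ (jP p chart U hU hd f hf).opensRange ⊓ p' ⁻¹ᵁ U' := by
  let j : Idx g 𝒮 := ⟨U, hU, U', hU', hle, d, hd, f, hf⟩
  apply le_antisymm
  · rintro x ⟨y, rfl⟩
    refine ⟨?_, range_cP_subset u j _ ⟨y, rfl⟩⟩
    have e := congrArg (fun q => q.base y) (hh.2 U hU U' hU' hle d hd f hf)
    refine ⟨(Spec.map (CommRingCat.ofHom (Away.map (u.gradedAt U hU U' hU' hle) f))).base y,
      ?_⟩
    exact e.symm
  · rintro x ⟨hx1, hx2⟩
    have hx2' : x ∈ p' ⁻¹ᵁ U' := hx2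
    have hx1' : h.base x ∈ Set.range (jP p chart U hU hd f hf).base := hx1
    have hxd : x ∈ RelProj.domQ u p' chart' := by rw [hh.1]; trivial
    have hv := Groth.Agent.ConeFun.isProjQMapOn_of_isProjQMap u h hh (RelProj.domQ u p' chart')
    have hvx : ((RelProj.domQ u p' chart').ι ≫ h).base ⟨x, hxd⟩ ∈ p ⁻¹ᵁ U :=
      range_jP_subset U hU hd f hf _ hx1'
    have key := projQ_mem_basicOpen_iff u hP' _ rfl _ hv ⟨x, hxd⟩ U hU U' hU' hle hx2' hvx
      hd hf
    have h1 := (mem_range_jP_iff U hU hd f hf (h.base x) hvx).mp hx1'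
    exact (mem_range_cP_iff u j x hx2').mpr (key.mp h1)

/-- **`Proj` commutes with base change.** -/
theorem isPullback_of_isProjQMap (hu : RelSpec.IsQBaseChange u.toQHom)
    (hP : RelProj.IsRelProj 𝒮 p chart) (hP' : RelProj.IsRelProj 𝒮' p' chart')
    (h : P' ⟶ P) (hh : RelProj.IsProjQMap u p chart p' chart' h) : IsPullback h p' p g := by
  have hc := isProjQMap_comm u hP hP' h hh
  refine isPullback_of_local p g h p' hc (fun t x htx => ?_)
  obtain ⟨U, hU, U', hU', hle, hxU'⟩ := Groth.Agent.ConeFun.exists_pair (q := g) x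
  have htU : t ∈ p ⁻¹ᵁ U := by
    show p.base t ∈ U
    rw [htx]
    exact hle hxU'
  obtain ⟨d, hd, f, hf, hzf⟩ := Groth.Agent.ConeRetr.exists_homogeneous_not_mem (zpt p chart U hU t htU)
  have hT : (jP p chart U hU hd f hf).opensRange ≤ p ⁻¹ᵁ U :=
    fun t' ht' => range_jP_subset U hU hd f hf t' ht'
  have eU := opensRange_awayEmb_eq u hP hP' h hh U hU U' hU' hle hd f hf
  refine ⟨U, (jP p chart U hU hd f hf).opensRange, U',
    (RelProj.awayEmb u p' chart' U hU U' hU' hle hd f hf).opensRange, hT, hle, eU,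
    (mem_range_jP_iff U hU hd f hf t htU).mpr hzf, hxU', hU, isAffineOpen_opensRange _, hU',
    isAffineOpen_opensRange _, ?_⟩
  have H := isPushout_away_cat (g.appLE U U' hle) (𝒮.str.app (op U)) (𝒮'.str.app (op U'))
    (u.appLE U U' hle) (u.gradedAt U hU U' hU' hle) (fun _ => rfl) (𝒮.str_mem U hU)
    (𝒮'.str_mem U' hU') (hu U hU U' hU' hle) hf
  have c1 := appLE_gam (jP p chart U hU hd f hf) p U hU _ (jP_comp hP U hU hd f hf) hT
  have c2 := appLE_gam (RelProj.awayEmb u p' chart' U hU U' hU' hle hd f hf) p' U' hU' _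
    (jP_comp hP' U' hU' hd _ ((u.gradedAt U hU U' hU' hle).map_mem hf))
    (eU.le.trans inf_le_right)
  have c3 := appLE_gam_gam (jP p chart U hU hd f hf)
    (RelProj.awayEmb u p' chart' U hU U' hU' hle hd f hf) h _
    (hh.2 U hU U' hU' hle d hd f hf) (eU.le.trans inf_le_left)
  refine IsPushout.of_iso H.flip (Iso.refl _) (asIso (gam (jP p chart U hU hd f hf))).symm
    (Iso.refl _) (asIso (gam (RelProj.awayEmb u p' chart' U hU U' hU' hle hd f hf))).symm ?_ ?_ ?_ ?_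
  · rw [Iso.refl_hom, Category.id_comp, Iso.symm_hom, asIso_inv, IsIso.comp_inv_eq]
    exact c1.symm
  · exact (Category.comp_id _).trans (Category.id_comp _).symm
  · rw [Iso.symm_hom, asIso_inv, Iso.symm_hom, asIso_inv, IsIso.comp_inv_eq, Category.assoc,
      IsIso.eq_inv_comp]
    exact c3.symm
  · rw [Iso.refl_hom, Category.id_comp, Iso.symm_hom, asIso_inv, IsIso.comp_inv_eq]
    exact c2.symm

end

end Groth.Agent.ProjQBC
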