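import Mathlib
import Groth.Prelude.Def_RelProj4
import Groth.Prelude.Def_Coh
import Groth.Agent.Lib.SymSum1_helper5
import Groth.Agent.Lib.PB8_helper8
import Groth.Agent.Lib.RelSpecBC_helper5

/-!
# The vector bundle commutes with base change: `V(g^*E) = V(E) ×_S S'`  (helper5)
-/

set_option autoImplicit false
universe u

noncomputable section

namespace Groth.Agent.SymBC

open CategoryTheory Limits AlgebraicGeometry TopologicalSpace Opposite RelSpec
open Groth.Agent.SymAlg Groth.Agent.SymSum

section lift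
variable {X Y : Scheme.{u}} (f : X ⟶ Y) (F : Y.Modules) [F.IsQuasicoherent]
  {U : X.Opens} {V : Y.Opens} (hU : IsAffineOpen U) (hV : IsAffineOpen V) (h : U ≤ f ⁻¹ᵁ V)

include hU hV in
/-- Semilinear maps out of the sections of the pullback over an affine pair. -/
theorem exists_lift_cUV {C : Type u} [CommRing C] (α : Γ(X, U) →+* C) (l₀ : Γ(F, V) →+ C)
    (hl₀ : ∀ (a : Γ(Y, V)) (x : Γ(F, V)), l₀ (a • x) = α (f.appLE V U h a) * l₀ x) :
    ∃ l : Γ((Scheme.Modules.pullback f).obj F, U) →+ C,
      (∀ (r : Γ(X, U)) (n : Γ((Scheme.Modules.pullback f).obj F, U)), l (r • n) = α r * l n) ∧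
        ∀ x, l (PBH8.cUV f F h x) = l₀ x := by
  letI := (f.appLE V U h).hom.toAlgebra
  letI : Module Γ(Y, V) Γ((Scheme.Modules.pullback f).obj F, U) :=
    Module.compHom _ (f.appLE V U h).hom
  haveI : IsScalarTower Γ(Y, V) Γ(X, U) Γ((Scheme.Modules.pullback f).obj F, U) :=
    IsScalarTower.of_algebraMap_smul fun _ _ => rfl
  have hbc := PBH8.isBaseChange_cUV f F h hU hV
  letI : Module Γ(X, U) C := Module.compHom C α
  letI : Module Γ(Y, V) C := Module.compHom C (α.comp (f.appLE V U h).hom)
  haveI : IsScalarTower Γ(Y, V) Γ(X, U) C := IsScalarTower.of_algebraMap_smul fun _ _ => rfl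
  let g₀ : Γ(F, V) →ₗ[Γ(Y, V)] C :=
    { toFun := l₀
      map_add' := map_add l₀
      map_smul' := fun a x => hl₀ a x }
  refine ⟨(hbc.lift g₀).toAddMonoidHom, fun r n => ?_, fun x => ?_⟩
  · exact map_smul (hbc.lift g₀) r n
  · exact hbc.lift_eq g₀ x

include hU hV in
/-- Additive maps out of the sections of the pullback over an affine pair are determined on the image of
the sections of `F`, when semilinear. -/
theorem ext_cUV {C : Type u} [CommRing C] (α : Γ(X, U) →+* C)
    (l₁ l₂ : Γ((Scheme.Modules.pullback f).obj F, U) →+ C)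
    (h₁ : ∀ (r : Γ(X, U)) (n : Γ((Scheme.Modules.pullback f).obj F, U)), l₁ (r • n) = α r * l₁ n)
    (h₂ : ∀ (r : Γ(X, U)) (n : Γ((Scheme.Modules.pullback f).obj F, U)), l₂ (r • n) = α r * l₂ n)
    (he : ∀ x, l₁ (PBH8.cUV f F h x) = l₂ (PBH8.cUV f F h x)) : l₁ = l₂ := by
  refine AddMonoidHom.ext fun n => ?_
  have hn : n ∈ Submodule.span Γ(X, U) (Set.range (PBH8.cUV f F h)) := by
    rw [PBH8.span_cUV f F hU hV h]; trivial
  induction hn using Submodule.span_induction with
  | mem x hx =>
    obtain ⟨e, rfl⟩ := hx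
    exact he e
  | zero => rw [map_zero, map_zero]
  | add x y _ _ hx hy => rw [map_add, map_add, hx, hy]
  | smul r x _ hx => rw [h₁, h₂, hx]

end lift

section main
variable {S S' : Scheme.{u}} (g : S' ⟶ S) (E : S.Modules) [E.IsQuasicoherent]
  (A : QCAlg S) (j : E ⟶ A.toModule) (B : QCAlg S')
  (j' : (Scheme.Modules.pullback g).obj E ⟶ B.toModule) (u : QHom g A B)
  (hu : ∀ (U : S.Opens) (x : Γ(E, U)),
    (u.app U).hom ((j.app U) x) =
      (j'.app (g ⁻¹ᵁ U)) (((Scheme.Modules.pullbackPushforwardAdjunction g).unit.app E).app U x))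

include hu in
theorem appLE_j (U : S.Opens) (U' : S'.Opens) (hle : U' ≤ g ⁻¹ᵁ U) (e : Γ(E, U)) :
    (u.appLE U U' hle).hom (jAdd E A j U e) =
      jAdd ((Scheme.Modules.pullback g).obj E) B j' U' (PBH8.cUV g E hle e) := by
  have h1 := QCohCrit.app_naturality j' (homOfLE hle)
    (((Scheme.Modules.pullbackPushforwardAdjunction g).unit.app E).app U e)
  have h2 := hu U e
  show (B.presheaf.map (homOfLE hle).op).hom ((u.app U).hom (j.app U e)) = _
  rw [h2]
  exact h1.symm

include hu in
/-- `Sym(g^*E)` is the inverse image algebra of `Sym(E)`. -/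
theorem isQBaseChange_sym (hA : IsSymOnAffines E A j)
    (hB : IsSymOnAffines ((Scheme.Modules.pullback g).obj E) B j') : IsQBaseChange u := by
  intro U hU U' hU' hle
  have hσA := hA U hU
  have hσB := hB U' hU'
  have hstr : ∀ r, (u.appLE U U' hle).hom ((A.str.app (op U)).hom r) =
      (B.str.app (op U')).hom ((g.appLE U U' hle).hom r) :=
    fun r => congrArg (fun t => t.hom r) (u.str_appLE U U' hle)
  have hw : g.appLE U U' hle ≫ B.str.app (op U') = A.str.app (op U) ≫ u.appLE U U' hle :=
    (u.str_appLE U U' hle).symm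
  -- uniqueness
  have huniq : ∀ (C : CommRingCat.{u}) (γ₁ γ₂ : B.presheaf.obj (op U') ⟶ C),
      B.str.app (op U') ≫ γ₁ = B.str.app (op U') ≫ γ₂ →
      u.appLE U U' hle ≫ γ₁ = u.appLE U U' hle ≫ γ₂ → γ₁ = γ₂ := by
    intro C γ₁ γ₂ e1 e2
    have e1' : ∀ r, γ₁.hom ((B.str.app (op U')).hom r) = γ₂.hom ((B.str.app (op U')).hom r) :=
      fun r => congrArg (fun t => t.hom r) e1
    have e2' : ∀ a, γ₁.hom ((u.appLE U U' hle).hom a) = γ₂.hom ((u.appLE U U' hle).hom a) :=
      fun a => congrArg (fun t => t.hom a) e2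
    refine CommRingCat.hom_ext ?_
    have h3 : γ₁.hom.comp (symToA ((Scheme.Modules.pullback g).obj E) B j' U') =
        γ₂.hom.comp (symToA ((Scheme.Modules.pullback g).obj E) B j' U') := by
      refine ringHom_ext _ _ (fun r => ?_) (fun n => ?_)
      · rw [RingHom.comp_apply, RingHom.comp_apply, symToA_algebraMap]
        exact e1' r
      · rw [RingHom.comp_apply, RingHom.comp_apply, symToA_ι]
        have h4 := ext_cUV g E hU' hU hle ((γ₁.hom).comp (B.str.app (op U')).hom)
          (γ₁.hom.toAddMonoidHom.comp (jAdd ((Scheme.Modules.pullback g).obj E) B j' U'))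
          (γ₂.hom.toAddMonoidHom.comp (jAdd ((Scheme.Modules.pullback g).obj E) B j' U'))
          (fun r n => by
            show γ₁.hom (jAdd _ B j' U' (r • n)) = γ₁.hom ((B.str.app (op U')).hom r) *
              γ₁.hom (jAdd _ B j' U' n)
            rw [jAdd_smul, map_mul])
          (fun r n => by
            show γ₂.hom (jAdd _ B j' U' (r • n)) = γ₁.hom ((B.str.app (op U')).hom r) *
              γ₂.hom (jAdd _ B j' U' n)
            rw [jAdd_smul, map_mul, e1'])
          (fun e => by
            show γ₁.hom (jAdd _ B j' U' (PBH8.cUV g E hle e)) =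
              γ₂.hom (jAdd _ B j' U' (PBH8.cUV g E hle e))
            rw [← appLE_j g E A j B j' u hu U U' hle e]
            exact e2' _)
        exact congrArg (fun t => t n) h4
    exact (RingHom.cancel_right hσB.2).mp h3
  -- existence
  have hex : ∀ (C : CommRingCat.{u}) (α : Γ(S', U') ⟶ C) (β : A.presheaf.obj (op U) ⟶ C),
      g.appLE U U' hle ≫ α = A.str.app (op U) ≫ β →
      ∃ γ : B.presheaf.obj (op U') ⟶ C, B.str.app (op U') ≫ γ = α ∧
        u.appLE U U' hle ≫ γ = β := by
    intro C α β hαβ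
    have hαβ' : ∀ r, α.hom ((g.appLE U U' hle).hom r) = β.hom ((A.str.app (op U)).hom r) :=
      fun r => congrArg (fun t => t.hom r) hαβ
    obtain ⟨l, hl, hl0⟩ := exists_lift_cUV g E hU' hU hle α.hom
      (β.hom.toAddMonoidHom.comp (jAdd E A j U))
      (fun a x => by
        show β.hom (jAdd E A j U (a • x)) = α.hom ((g.appLE U U' hle).hom a) *
          β.hom (jAdd E A j U x)
        rw [jAdd_smul, map_mul, hαβ'])
    let γ' : SymSec ((Scheme.Modules.pullback g).obj E) U' →+* C := symLift α.hom l hl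
    let σ : SymSec ((Scheme.Modules.pullback g).obj E) U' ≃+* B.presheaf.obj (op U') :=
      RingEquiv.ofBijective _ hσB
    have hσ_apply : ∀ x, σ x = symToA ((Scheme.Modules.pullback g).obj E) B j' U' x :=
      fun x => rfl
    let γ : B.presheaf.obj (op U') →+* C := γ'.comp σ.symm.toRingHom
    have hγ : ∀ x, γ (symToA ((Scheme.Modules.pullback g).obj E) B j' U' x) = γ' x := by
      intro x
      show γ' (σ.symm (symToA _ B j' U' x)) = γ' x
      rw [← hσ_apply, RingEquiv.symm_apply_apply]
    refine ⟨CommRingCat.ofHom γ, CommRingCat.hom_ext (RingHom.ext fun r => ?_),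
      CommRingCat.hom_ext ?_⟩
    · show γ ((B.str.app (op U')).hom r) = α.hom r
      rw [← symToA_algebraMap ((Scheme.Modules.pullback g).obj E) B j' U' r, hγ]
      exact symLift_algebraMap α.hom l hl r
    · refine (RingHom.cancel_right hσA.2).mp (ringHom_ext _ _ (fun r => ?_) (fun e => ?_))
      · rw [RingHom.comp_apply, RingHom.comp_apply, symToA_algebraMap]
        show γ ((u.appLE U U' hle).hom ((A.str.app (op U)).hom r)) = _
        rw [hstr r, ← symToA_algebraMap ((Scheme.Modules.pullback g).obj E) B j' U', hγ]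
        refine (symLift_algebraMap α.hom l hl _).trans ?_
        exact hαβ' r
      · rw [RingHom.comp_apply, RingHom.comp_apply, symToA_ι]
        show γ ((u.appLE U U' hle).hom (jAdd E A j U e)) = _
        rw [appLE_j g E A j B j' u hu U U' hle e, jAdd_apply,
          ← symToA_ι ((Scheme.Modules.pullback g).obj E) B j' U', hγ]
        refine (symLift_ι α.hom l hl _).trans ?_
        exact hl0 e
  refine ⟨⟨hw⟩, ⟨PushoutCocone.IsColimit.mk hw
    (fun s => (hex s.pt s.inl s.inr s.condition).choose)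
    (fun s => (hex s.pt s.inl s.inr s.condition).choose_spec.1)
    (fun s => (hex s.pt s.inl s.inr s.condition).choose_spec.2)
    (fun s m h1 h2 => huniq _ _ _
      (h1.trans (hex s.pt s.inl s.inr s.condition).choose_spec.1.symm)
      (h2.trans (hex s.pt s.inl s.inr s.condition).choose_spec.2.symm))⟩⟩

include hu in
/-- `V(g^*E) = V(E) ×_S S'`. -/
theorem isPullback_vb (hA : RelSpec.IsSymAlg E A j)
    (hB : RelSpec.IsSymAlg ((Scheme.Modules.pullback g).obj E) B j')
    (h : B.spec ⟶ A.spec) (hh : RelSpec.IsSpecQMap u h) : IsPullback h B.π A.π g := by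
  haveI : ((Scheme.Modules.pullback g).obj E).IsQuasicoherent := PBH8.isQuasicoherent_pullback g E
  exact RelSpecBC.isPullback_spec g A B u h hh
    (isQBaseChange_sym g E A j B j' u hu (isSymOnAffines_of_isSymAlg E A j hA)
      (isSymOnAffines_of_isSymAlg _ B j' hB))

end main

end Groth.Agent.SymBC
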