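import Mathlib
import Groth.Prelude.Def_RelProj4
import Groth.Prelude.Def_Coh
import Groth.Agent.Lib.SymBC1_helper5
import Groth.Agent.Lib.SymGr2_helper5

/-!
# The canonical `g`-morphism `Sym(E) ⟶ g_* Sym(g^*E)`  (helper5)
-/

set_option autoImplicit false
universe u
open AlgebraicGeometry CategoryTheory CategoryTheory.Limits Opposite TopologicalSpace

noncomputable section

namespace Groth.Agent.SymQHom

open Groth.Agent.SymAlg Groth.Agent.SymSum RelSpec QcqsLoc

variable {S S' : Scheme.{u}} (g : S' ⟶ S) (E : S.Modules)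
  (A : QCAlg S) (j : E ⟶ A.toModule)
  (B : QCAlg S') (j' : (Scheme.Modules.pullback g).obj E ⟶ B.toModule)

/-- A map of presheaves into a sheaf is determined on affine opens. -/
theorem hom_ext_affine' {F : TopCat.Presheaf CommRingCat.{u} S.carrier}
    (G : TopCat.Sheaf CommRingCat.{u} S.carrier) (α β : F ⟶ G.1)
    (h : ∀ (U : S.Opens), IsAffineOpen U → α.app (op U) = β.app (op U)) : α = β := by
  apply (Functor.IsCoverDense.restrictHomEquivHom (G := Scheme.AffineZariskiSite.toOpensFunctor S)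
    (K := Opens.grothendieckTopology S) (ℱ := F) (ℱ' := G)).symm.injective
  refine NatTrans.ext (funext fun U => ?_)
  exact h U.unop.1 U.unop.2

/-- The pushforward of `B` as a sheaf of rings on `S`. -/
def pushB : TopCat.Sheaf CommRingCat.{u} S.carrier :=
  ⟨g.base _* B.presheaf, TopCat.Sheaf.pushforward_sheaf_of_sheaf g.base B.isSheaf⟩

/-- `θ_V : O(V) ⟶ B(g⁻¹V)`. -/
def θ (V : S.Opens) : Γ(S, V) →+* B.presheaf.obj (op (g ⁻¹ᵁ V)) :=
  (g.app V ≫ B.str.app (op (g ⁻¹ᵁ V))).hom

/-- `l_V : E(V) ⟶ B(g⁻¹V)`. -/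
def ll (V : S.Opens) : Γ(E, V) →+ B.presheaf.obj (op (g ⁻¹ᵁ V)) :=
  (jAdd ((Scheme.Modules.pullback g).obj E) B j' (g ⁻¹ᵁ V)).comp
    (AddMonoidHom.mk' (PBH8.cUV g E (le_refl (g ⁻¹ᵁ V))) (PBH8.cUV_add g E _))

theorem ll_apply (V : S.Opens) (m : Γ(E, V)) :
    ll g E B j' V m = jAdd ((Scheme.Modules.pullback g).obj E) B j' (g ⁻¹ᵁ V)
      (PBH8.cUV g E (le_refl (g ⁻¹ᵁ V)) m) := rfl

theorem ll_smul (V : S.Opens) (r : Γ(S, V)) (m : Γ(E, V)) :
    ll g E B j' V (r • m) = θ g B V r * ll g E B j' V m := by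
  rw [ll_apply, PBH8.cUV_smul, jAdd_smul, ll_apply]
  have h : (g.appLE V (g ⁻¹ᵁ V) (le_refl _)).hom r = (g.app V).hom r :=
    congrArg (fun t => t.hom r) (Scheme.Hom.appLE_eq_app g)
  rw [h]
  rfl

theorem θ_res {V V' : S.Opens} (i : V' ≤ V) (r : Γ(S, V)) :
    (B.presheaf.map (homOfLE (g.preimage_mono i)).op).hom (θ g B V r) = θ g B V' (rX i r) := by
  unfold θ
  rw [CommRingCat.hom_comp, RingHom.comp_apply, CommRingCat.hom_comp, RingHom.comp_apply,
    QCAlgMod.str_res B (g.preimage_mono i)]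
  congr 1
  exact (congrArg (fun t => t.hom r) (g.naturality (homOfLE i).op)).symm

theorem cUV_src {V V' : S.Opens} (i : V' ≤ V) {U : S'.Opens} (h : U ≤ g ⁻¹ᵁ V') (m : Γ(E, V)) :
    PBH8.cUV g E h (rF E i m) = PBH8.cUV g E (h.trans (g.preimage_mono i)) m := by
  unfold PBH8.cUV
  have h2 := QCohCrit.app_naturality ((Scheme.Modules.pullbackPushforwardAdjunction g).unit.app E)
    (homOfLE i) m
  have h3 : ((Scheme.Modules.pullbackPushforwardAdjunction g).unit.app E).app V' (rF E i m) =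
      ((Scheme.Modules.pullback g).obj E).presheaf.map (homOfLE (g.preimage_mono i)).op
        (((Scheme.Modules.pullbackPushforwardAdjunction g).unit.app E).app V m) := h2
  rw [h3]
  exact (congrArg (fun ψ => ψ (((Scheme.Modules.pullbackPushforwardAdjunction g).unit.app E).app V m))
    (((Scheme.Modules.pullback g).obj E).presheaf.map_comp (homOfLE (g.preimage_mono i)).op
      (homOfLE h).op)).symm

theorem ll_res {V V' : S.Opens} (i : V' ≤ V) (m : Γ(E, V)) :
    (B.presheaf.map (homOfLE (g.preimage_mono i)).op).hom (ll g E B j' V m) =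
      ll g E B j' V' (rF E i m) := by
  rw [ll_apply, ll_apply]
  have h1 := QCohCrit.app_naturality j' (homOfLE (g.preimage_mono i))
    (PBH8.cUV g E (le_refl (g ⁻¹ᵁ V)) m)
  refine h1.symm.trans ?_
  congr 1
  rw [cUV_src g E i]
  exact PBH8.cUV_res g E _ _ m

/-- `σ_V : Sym(E(V)) ⟶ B(g⁻¹V)`. -/
def σσ (V : S.Opens) : SymSec E V →+* B.presheaf.obj (op (g ⁻¹ᵁ V)) :=
  symLift (θ g B V) (ll g E B j' V) (ll_smul g E B j' V)

/-- The map of presheaves `Sym(E(-)) ⟶ g_* B`. -/
def σHom : symPre E ⟶ (pushB g B).1 where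
  app V := CommRingCat.ofHom (σσ g E B j' V.unop)
  naturality V V' i := by
    refine CommRingCat.hom_ext (ringHom_ext _ _ (fun r => ?_) (fun m => ?_))
    · show σσ g E B j' V'.unop (symRes E i.unop.le (algebraMap _ _ r)) =
        (B.presheaf.map (homOfLE (g.preimage_mono i.unop.le)).op).hom
          (σσ g E B j' V.unop (algebraMap _ _ r))
      rw [symRes_algebraMap]
      unfold σσ
      rw [symLift_algebraMap, symLift_algebraMap, θ_res]
    · show σσ g E B j' V'.unop (symRes E i.unop.le (SymmetricAlgebra.ι _ _ m)) =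
        (B.presheaf.map (homOfLE (g.preimage_mono i.unop.le)).op).hom
          (σσ g E B j' V.unop (SymmetricAlgebra.ι _ _ m))
      rw [symRes_ι]
      unfold σσ
      rw [symLift_ι, symLift_ι, ll_res]

end Groth.Agent.SymQHom
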