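import Mathlib
import Groth.Prelude.Def_RelProj4
import Groth.Prelude.Def_Coh
import Groth.Agent.Lib.SymQHom1_helper5

/-!
# The canonical graded `g`-morphism `Sym(E) ⟶ g_* Sym(g^*E)`, continued  (helper5)
-/

set_option autoImplicit false
universe u
open AlgebraicGeometry CategoryTheory CategoryTheory.Limits Opposite TopologicalSpace

noncomputable section

namespace Groth.Agent.SymQHom

open Groth.Agent.SymAlg Groth.Agent.SymSum RelSpec QcqsLoc

variable {S S' : Scheme.{u}} (g : S' ⟶ S) (E : S.Modules)
  (A : QCAlg S) (j : E ⟶ A.toModule) (hA : IsSymOnAffines E A j)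
  (B : QCAlg S') (j' : (Scheme.Modules.pullback g).obj E ⟶ B.toModule)

/-- The induced map over an affine open. -/
def liftApp (U : S.Opens) (hU : IsAffineOpen U) :
    A.presheaf.obj (op U) ⟶ (pushB g B).1.obj (op U) :=
  haveI := isIso_symToAHom_app E A j hA U hU
  inv ((symToAHom E A j).app (op U)) ≫ (σHom g E B j').app (op U)

theorem symToAHom_liftApp (U : S.Opens) (hU : IsAffineOpen U) :
    (symToAHom E A j).app (op U) ≫ liftApp g E A j hA B j' U hU = (σHom g E B j').app (op U) := by
  haveI := isIso_symToAHom_app E A j hA U hU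
  rw [liftApp, IsIso.hom_inv_id_assoc]

theorem liftApp_naturality {U V : S.Opens} (hU : IsAffineOpen U) (hV : IsAffineOpen V)
    (i : op U ⟶ op V) :
    A.presheaf.map i ≫ liftApp g E A j hA B j' V hV =
      liftApp g E A j hA B j' U hU ≫ (pushB g B).1.map i := by
  haveI := isIso_symToAHom_app E A j hA U hU
  rw [← cancel_epi ((symToAHom E A j).app (op U)), ← Category.assoc,
    ← (symToAHom E A j).naturality i, Category.assoc, symToAHom_liftApp, ← Category.assoc,
    symToAHom_liftApp, (σHom g E B j').naturality i]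

/-- The induced maps over the affine opens, as a natural transformation. -/
def liftRestrict : (Scheme.AffineZariskiSite.toOpensFunctor S).op ⋙ A.presheaf ⟶
    (Scheme.AffineZariskiSite.toOpensFunctor S).op ⋙ (pushB g B).1 where
  app U := liftApp g E A j hA B j' U.unop.1 U.unop.2
  naturality U V i := liftApp_naturality g E A j hA B j' U.unop.2 V.unop.2 _

/-- The induced map of presheaves `A ⟶ g_* B`. -/
def Φ : A.presheaf ⟶ (pushB g B).1 :=
  Functor.IsCoverDense.restrictHomEquivHom (G := Scheme.AffineZariskiSite.toOpensFunctor S)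
    (K := Opens.grothendieckTopology S) (ℱ := A.presheaf) (ℱ' := pushB g B)
    (liftRestrict g E A j hA B j')

theorem Φ_restrict :
    (Scheme.AffineZariskiSite.toOpensFunctor S).op.whiskerLeft (Φ g E A j hA B j') =
      liftRestrict g E A j hA B j' :=
  (Functor.IsCoverDense.restrictHomEquivHom (G := Scheme.AffineZariskiSite.toOpensFunctor S)
    (K := Opens.grothendieckTopology S) (ℱ := A.presheaf) (ℱ' := pushB g B)).symm_apply_apply _

theorem Φ_app (U : S.Opens) (hU : IsAffineOpen U) :
    (Φ g E A j hA B j').app (op U) = liftApp g E A j hA B j' U hU :=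
  NatTrans.congr_app (Φ_restrict g E A j hA B j') (op ⟨U, hU⟩)

theorem symToAHom_Φ : symToAHom E A j ≫ Φ g E A j hA B j' = σHom g E B j' := by
  refine hom_ext_affine' (pushB g B) _ _ (fun U hU => ?_)
  rw [NatTrans.comp_app, Φ_app g E A j hA B j' U hU, symToAHom_liftApp]

/-- **The canonical `g`-morphism `Sym(E) ⟶ g_* Sym(g^*E)`.** -/
def uQ : QHom g A B where
  app U := (Φ g E A j hA B j').app (op U)
  naturality i := ((Φ g E A j hA B j').naturality (homOfLE i).op).symm
  str_app U := by
    have h0 : A.str.app (op U) = (symStr E).app (op U) ≫ (symToAHom E A j).app (op U) := by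
      rw [← NatTrans.comp_app, symStr_symToAHom]
    have h1 : (symToAHom E A j).app (op U) ≫ (Φ g E A j hA B j').app (op U) =
        (σHom g E B j').app (op U) := by
      rw [← NatTrans.comp_app, symToAHom_Φ]
    rw [h0, Category.assoc]
    refine (congrArg (fun t => (symStr E).app (op U) ≫ t) h1).trans ?_
    refine CommRingCat.hom_ext (RingHom.ext fun r => ?_)
    show σσ g E B j' U (algebraMap _ _ r) = _
    unfold σσ
    rw [symLift_algebraMap]
    rfl

theorem uQ_app (U : S.Opens) : (uQ g E A j hA B j').app U = (Φ g E A j hA B j').app (op U) := rfl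

/-- Compatibility of `uQ` with `j`, `j'` and the unit of the adjunction. -/
theorem uQ_j (U : S.Opens) (x : Γ(E, U)) :
    ((uQ g E A j hA B j').app U).hom ((j.app U) x) =
      (j'.app (g ⁻¹ᵁ U))
        (((Scheme.Modules.pullbackPushforwardAdjunction g).unit.app E).app U x) := by
  have h1 := congrArg (fun t => (t.app (op U)).hom (SymmetricAlgebra.ι _ _ x))
    (symToAHom_Φ g E A j hA B j')
  have h2 : ((Φ g E A j hA B j').app (op U)).hom (symToA E A j U (SymmetricAlgebra.ι _ _ x)) =
      σσ g E B j' U (SymmetricAlgebra.ι _ _ x) := h1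
  rw [symToA_ι] at h2
  unfold σσ at h2
  rw [symLift_ι, ll_apply] at h2
  refine h2.trans ?_
  show (j'.app (g ⁻¹ᵁ U)) (PBH8.cUV g E (le_refl (g ⁻¹ᵁ U)) x) = _
  congr 1
  unfold PBH8.cUV
  have e' : (homOfLE (le_refl (g ⁻¹ᵁ U))).op = 𝟙 (op (g ⁻¹ᵁ U)) := Subsingleton.elim _ _
  rw [e', ((Scheme.Modules.pullback g).obj E).presheaf.map_id]
  rfl

end Groth.Agent.SymQHom
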