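import Mathlib
import Groth.Prelude.Def_RelProj4
import Groth.Prelude.Def_Coh
import Groth.Agent.Lib.SymQHom2_helper5

/-!
# The canonical graded `g`-morphism `Sym(E) ⟶ g_* Sym(g^*E)` is graded and a base change  (helper5)
-/

set_option autoImplicit false
universe u
open AlgebraicGeometry CategoryTheory CategoryTheory.Limits Opposite TopologicalSpace

noncomputable section

namespace Groth.Agent.SymQHom

open Groth.Agent.SymAlg Groth.Agent.SymSum RelSpec QcqsLoc Groth.Agent.SymGr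

variable {Y Y' : Scheme.{u}} (ψ : Y' ⟶ Y) (E : Y.Modules) [E.IsQuasicoherent]
  (𝒮 : RelProj.QCGrAlg Y) (j : E ⟶ 𝒮.toModule) (hj : RelProj.IsGrSymAlg E 𝒮 j)
  (𝒮' : RelProj.QCGrAlg Y') (j' : (Scheme.Modules.pullback ψ).obj E ⟶ 𝒮'.toModule)
  (hj' : RelProj.IsGrSymAlg ((Scheme.Modules.pullback ψ).obj E) 𝒮' j')

/-- The canonical graded `ψ`-morphism `Sym(E) ⟶ ψ_* Sym(ψ^*E)`. -/
def uGr : RelProj.QGrHom ψ 𝒮 𝒮' where
  toQHom := uQ ψ E 𝒮.toQCAlg j (isSymOnAffines_of_isSymAlg E 𝒮.toQCAlg j hj.1) 𝒮'.toQCAlg j'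
  map_mem U hU U' hU' hle d x hx := by
    have hA := isSymOnAffines_of_isSymAlg E 𝒮.toQCAlg j hj.1
    refine map_mem_of_gen_sch E 𝒮 j hj U hU (𝒮'.deg U' hU')
      ((uQ ψ E 𝒮.toQCAlg j hA 𝒮'.toQCAlg j').appLE U U' hle).hom (fun a => ?_) (fun m => ?_) d x hx
    · have h1 := congrArg (fun t => t.hom a)
        ((uQ ψ E 𝒮.toQCAlg j hA 𝒮'.toQCAlg j').str_appLE U U' hle)
      simp only [CommRingCat.hom_comp, RingHom.comp_apply] at h1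
      rw [h1]
      exact 𝒮'.str_mem U' hU' _
    · rw [Groth.Agent.SymBC.appLE_j ψ E 𝒮.toQCAlg j 𝒮'.toQCAlg j'
        (uQ ψ E 𝒮.toQCAlg j hA 𝒮'.toQCAlg j') (uQ_j ψ E 𝒮.toQCAlg j hA 𝒮'.toQCAlg j') U U' hle m]
      exact hj'.2 U' hU' _

include hj' in
theorem isQBaseChange_uGr [((Scheme.Modules.pullback ψ).obj E).IsQuasicoherent] :
    RelSpec.IsQBaseChange (uGr ψ E 𝒮 j hj 𝒮' j' hj').toQHom :=
  Groth.Agent.SymBC.isQBaseChange_sym ψ E 𝒮.toQCAlg j 𝒮'.toQCAlg j' _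
    (uQ_j ψ E 𝒮.toQCAlg j (isSymOnAffines_of_isSymAlg E 𝒮.toQCAlg j hj.1) 𝒮'.toQCAlg j')
    (isSymOnAffines_of_isSymAlg E 𝒮.toQCAlg j hj.1)
    (isSymOnAffines_of_isSymAlg _ 𝒮'.toQCAlg j' hj'.1)

end Groth.Agent.SymQHom
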