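import Mathlib
import Groth.Prelude
import Groth.Agent.Lib.SymQHom3_helper5
import Groth.Agent.Lib.PB8_helper8
import Groth.Agent.Lib.QCohExact_helper9
import Groth.Agent.Lib.AwayBC4_helper5

/-!
# The graded `g`-morphism `Sym(E) ⟶ g_* Sym(L)` of a quotient `g^*E ↠ L`  (helper5)
APPEND-ONLY once landed.
-/

set_option autoImplicit false
universe u
open CategoryTheory CategoryTheory.Limits AlgebraicGeometry TopologicalSpace Opposite
open scoped HomogeneousIdeal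

noncomputable section

namespace Groth.Agent.UPB

open Groth.Agent.SymAlg Groth.Agent.SymSum RelSpec QcqsLoc Groth.Agent.SymGr Groth.Agent.SymQHom

variable {Y X : Scheme.{u}} (g : X ⟶ Y) (E : Y.Modules) [E.IsQuasicoherent]
  (𝒮 : RelProj.QCGrAlg Y) (j : E ⟶ 𝒮.toModule) (hj : RelProj.IsGrSymAlg E 𝒮 j)
  (𝒮L : RelProj.QCGrAlg X) (j' : (Scheme.Modules.pullback g).obj E ⟶ 𝒮L.toModule)
  (hj' : ∀ (V : X.Opens) (hV : IsAffineOpen V) (m : Γ((Scheme.Modules.pullback g).obj E, V)),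
    jAdd ((Scheme.Modules.pullback g).obj E) 𝒮L.toQCAlg j' V m ∈ 𝒮L.deg V hV 1)

/-- The graded `g`-morphism `Sym(E) ⟶ g_* 𝒮L` induced by a map `g^*E ⟶ 𝒮L` into degree one. -/
def uGrOf : RelProj.QGrHom g 𝒮 𝒮L where
  toQHom := uQ g E 𝒮.toQCAlg j (isSymOnAffines_of_isSymAlg E 𝒮.toQCAlg j hj.1) 𝒮L.toQCAlg j'
  map_mem U hU U' hU' hle d x hx := by
    have hA := isSymOnAffines_of_isSymAlg E 𝒮.toQCAlg j hj.1
    refine map_mem_of_gen_sch E 𝒮 j hj U hU (𝒮L.deg U' hU')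
      ((uQ g E 𝒮.toQCAlg j hA 𝒮L.toQCAlg j').appLE U U' hle).hom (fun a => ?_) (fun m => ?_) d x hx
    · have h1 := congrArg (fun t => t.hom a)
        ((uQ g E 𝒮.toQCAlg j hA 𝒮L.toQCAlg j').str_appLE U U' hle)
      simp only [CommRingCat.hom_comp, RingHom.comp_apply] at h1
      rw [h1]
      exact 𝒮L.str_mem U' hU' _
    · rw [Groth.Agent.SymBC.appLE_j g E 𝒮.toQCAlg j 𝒮L.toQCAlg j'
        (uQ g E 𝒮.toQCAlg j hA 𝒮L.toQCAlg j') (uQ_j g E 𝒮.toQCAlg j hA 𝒮L.toQCAlg j') U U' hle m]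
      exact hj' U' hU' _

theorem uGrOf_j (U : Y.Opens) (U' : X.Opens) (hle : U' ≤ g ⁻¹ᵁ U) (e : Γ(E, U)) :
    ((uGrOf g E 𝒮 j hj 𝒮L j' hj').appLE U U' hle).hom (jAdd E 𝒮.toQCAlg j U e) =
      jAdd ((Scheme.Modules.pullback g).obj E) 𝒮L.toQCAlg j' U' (PBH8.cUV g E hle e) :=
  Groth.Agent.SymBC.appLE_j g E 𝒮.toQCAlg j 𝒮L.toQCAlg j' _
    (uQ_j g E 𝒮.toQCAlg j (isSymOnAffines_of_isSymAlg E 𝒮.toQCAlg j hj.1) 𝒮L.toQCAlg j') U U' hle e

theorem uGrOf_str (U : Y.Opens) (U' : X.Opens) (hle : U' ≤ g ⁻¹ᵁ U) (a : Γ(Y, U)) :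
    ((uGrOf g E 𝒮 j hj 𝒮L j' hj').appLE U U' hle).hom ((𝒮.str.app (op U)).hom a) =
      (𝒮L.str.app (op U')).hom ((g.appLE U U' hle).hom a) := by
  have h1 := congrArg (fun t => t.hom a)
    ((uGrOf g E 𝒮 j hj 𝒮L j' hj').toQHom.str_appLE U U' hle)
  simp only [CommRingCat.hom_comp, RingHom.comp_apply] at h1
  exact h1

section Epi
variable (L : X.Modules) [L.IsQuasicoherent] (jL : L ⟶ 𝒮L.toModule)
  (hjL : RelProj.IsGrSymAlg L 𝒮L jL) (s : (Scheme.Modules.pullback g).obj E ⟶ L)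

include hjL in
theorem comp_mem_deg_one (V : X.Opens) (hV : IsAffineOpen V)
    (m : Γ((Scheme.Modules.pullback g).obj E, V)) :
    jAdd ((Scheme.Modules.pullback g).obj E) 𝒮L.toQCAlg (s ≫ jL) V m ∈ 𝒮L.deg V hV 1 :=
  hjL.2 V hV (s.app V m)

/-- The graded `g`-morphism `Sym(E) ⟶ g_* Sym(L)` of `s : g^*E ⟶ L`. -/
abbrev uOf : RelProj.QGrHom g 𝒮 𝒮L :=
  uGrOf g E 𝒮 j hj 𝒮L (s ≫ jL) (comp_mem_deg_one g E 𝒮L L jL hjL s)

theorem uOf_j (U : Y.Opens) (U' : X.Opens) (hle : U' ≤ g ⁻¹ᵁ U) (e : Γ(E, U)) :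
    ((uOf g E 𝒮 j hj 𝒮L L jL hjL s).appLE U U' hle).hom (jAdd E 𝒮.toQCAlg j U e) =
      jAdd L 𝒮L.toQCAlg jL U' (QCohExtn.ap s U' (PBH8.cUV g E hle e)) :=
  uGrOf_j g E 𝒮 j hj 𝒮L (s ≫ jL) _ U U' hle e

/-- **If `s` is an epimorphism, the irrelevant ideal of `Sym(L)(V)` is generated by the image of
the irrelevant ideal of `Sym(E)(U)`**, for every affine pair. -/
theorem irrelevant_le_map_of_epi [Epi s] (U : Y.Opens) (hU : IsAffineOpen U) (V : X.Opens)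
    (hV : IsAffineOpen V) (hle : V ≤ g ⁻¹ᵁ U) :
    (𝒮L.deg V hV)₊ ≤ ((𝒮.deg U hU)₊).map
      ((uOf g E 𝒮 j hj 𝒮L L jL hjL s).gradedAt U hU V hV hle) := by
  haveI : ((Scheme.Modules.pullback g).obj E).IsQuasicoherent := PBH8.isQuasicoherent_pullback g E
  show ((𝒮L.deg V hV)₊).toIdeal ≤ Ideal.map _ ((𝒮.deg U hU)₊).toIdeal
  refine (irrelevant_le_span L 𝒮L jL hjL V hV).trans ?_
  rw [Ideal.span_le]
  rintro _ ⟨t, rfl⟩
  obtain ⟨m, rfl⟩ := QCohExact.app_surjective_of_epi s hV t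
  have hm : m ∈ Submodule.span Γ(X, V) (Set.range (PBH8.cUV g E hle)) := by
    rw [PBH8.span_cUV g E hV hU hle]; trivial
  induction hm using Submodule.span_induction with
  | mem x hx =>
    obtain ⟨e, rfl⟩ := hx
    have h1 := uOf_j g E 𝒮 j hj 𝒮L L jL hjL s U V hle e
    have h2 : jAdd L 𝒮L.toQCAlg jL V (s.app V (PBH8.cUV g E hle e)) =
        (uOf g E 𝒮 j hj 𝒮L L jL hjL s).gradedAt U hU V hV hle (jAdd E 𝒮.toQCAlg j U e) := h1.symm
    show jAdd L 𝒮L.toQCAlg jL V (s.app V (PBH8.cUV g E hle e)) ∈ _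
    rw [h2]
    exact Ideal.mem_map_of_mem _
      (HomogeneousIdeal.mem_irrelevant_of_mem _ one_pos (hj.2 U hU e))
  | zero =>
    show jAdd L 𝒮L.toQCAlg jL V (s.app V 0) ∈ _
    rw [map_zero, map_zero]
    exact zero_mem _
  | add x y _ _ hx hy =>
    show jAdd L 𝒮L.toQCAlg jL V (s.app V (x + y)) ∈ _
    have : s.app V (x + y) = s.app V x + s.app V y := map_add (QCohExtn.ap s V) x y
    rw [this, map_add]
    exact add_mem hx hy
  | smul a x _ hx =>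
    show jAdd L 𝒮L.toQCAlg jL V (s.app V (a • x)) ∈ _
    have : s.app V (a • x) = a • s.app V x := QCohExtn.ap_smul s a x
    rw [this, jAdd_smul]
    exact Ideal.mul_mem_left _ _ hx

end Epi

end Groth.Agent.UPB
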