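import Mathlib
import Groth.Prelude.Def_RelProj4
import Groth.Agent.Lib.ProjQBC2_helper5

/-!
# `Proj` commutes with base change, part 3: the form with raw data and `Proj.map`  (helper5)
-/

set_option autoImplicit false
universe u
open AlgebraicGeometry CategoryTheory CategoryTheory.Limits HomogeneousLocalization Opposite TopologicalSpace
open scoped HomogeneousIdeal

noncomputable section

namespace Groth.Agent.ProjQBC

open Groth.Agent.ConeImm Groth.Agent.RelProjTN RelProj Groth.Agent.ProjQ Groth.Agent.AwayBC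
open Groth.Agent.SpecChart Groth.Agent.PullbackLocal

section raw
variable {Y Y' : Scheme.{u}} (ψ : Y' ⟶ Y) (𝒮 : RelProj.QCGrAlg Y) (𝒮' : RelProj.QCGrAlg Y')
  (u : 𝒮.presheaf ⟶ ψ.base _* 𝒮'.presheaf)
  (hu : 𝒮.str ≫ u = ψ.c ≫ (TopCat.Presheaf.pushforward CommRingCat.{u} ψ.base).map 𝒮'.str)

/-- A homomorphism `𝒮 → ψ_* 𝒮'` of algebras, as a `ψ`-morphism. -/
def mkQHom : RelSpec.QHom ψ 𝒮.toQCAlg 𝒮'.toQCAlg where
  app U := u.app (op U)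
  naturality i := (u.naturality (homOfLE i).op).symm
  str_app U := congrArg (fun t => t.app (op U)) hu

/-- A degree-preserving homomorphism `𝒮 → ψ_* 𝒮'` of algebras, as a graded `ψ`-morphism. -/
def mkQGrHom (hmem : ∀ (U : Y.Opens) (hU : IsAffineOpen U) (U' : Y'.Opens) (hU' : IsAffineOpen U')
    (hle : U' ≤ ψ ⁻¹ᵁ U) {d : ℕ} {x : 𝒮.presheaf.obj (op U)}, x ∈ 𝒮.deg U hU d →
      (𝒮'.presheaf.map (homOfLE hle).op).hom
        ((u.app (op U) : 𝒮.presheaf.obj (op U) ⟶ 𝒮'.presheaf.obj (op (ψ ⁻¹ᵁ U))).hom x) ∈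
          𝒮'.deg U' hU' d) : RelProj.QGrHom ψ 𝒮 𝒮' where
  toQHom := mkQHom ψ 𝒮 𝒮' u hu
  map_mem := hmem

end raw

section
variable {Y Y' P P' : Scheme.{u}} {g : Y' ⟶ Y} {𝒮 : RelProj.QCGrAlg Y} {𝒮' : RelProj.QCGrAlg Y'}
  (u : RelProj.QGrHom g 𝒮 𝒮')
  {p : P ⟶ Y}
  {chart : ∀ (U : Y.Opens) (hU : IsAffineOpen U), (((p ⁻¹ᵁ U : P.Opens) : Scheme.{u}) ≅ Proj (𝒮.deg U hU))}
  {p' : P' ⟶ Y'}
  {chart' : ∀ (U : Y'.Opens) (hU : IsAffineOpen U),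
    (((p' ⁻¹ᵁ U : P'.Opens) : Scheme.{u}) ≅ Proj (𝒮'.deg U hU))}

/-- A morphism which is chartwise `Proj.map` of `u_{U,U'}` is `Proj(u)`. -/
theorem isProjQMap_of_projMap (hdom : RelProj.domQ u p' chart' = ⊤)
    (hirr : ∀ (U : Y.Opens) (hU : IsAffineOpen U) (U' : Y'.Opens) (hU' : IsAffineOpen U')
      (hle : U' ≤ g ⁻¹ᵁ U), (𝒮'.deg U' hU')₊ ≤ ((𝒮.deg U hU)₊).map (u.gradedAt U hU U' hU' hle))
    (h : P' ⟶ P)
    (hh : ∀ (U : Y.Opens) (hU : IsAffineOpen U) (U' : Y'.Opens) (hU' : IsAffineOpen U')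
      (hle : U' ≤ g ⁻¹ᵁ U), (p' ⁻¹ᵁ U').ι ≫ h =
        (chart' U' hU').hom ≫ Proj.map (u.gradedAt U hU U' hU' hle) (hirr U hU U' hU' hle) ≫
          RelProj.emb p chart U hU) :
    RelProj.IsProjQMap u p chart p' chart' h := by
  refine ⟨hdom, ?_⟩
  intro U hU U' hU' hle d hd f hf
  have h1 : RelProj.emb p' chart' U' hU' ≫ h =
      Proj.map (u.gradedAt U hU U' hU' hle) (hirr U hU U' hU' hle) ≫ RelProj.emb p chart U hU := by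
    have e : RelProj.emb p' chart' U' hU' = (chart' U' hU').inv ≫ (p' ⁻¹ᵁ U').ι := rfl
    rw [e, Category.assoc, hh U hU U' hU' hle, Iso.inv_hom_id_assoc]
  unfold RelProj.awayEmb
  rw [Category.assoc, h1, Proj.awayι_comp_map_assoc]

end

/-- **`Proj` commutes with base change**, raw form. -/
theorem isPullback_raw {Y Y' P P' : Scheme.{u}} (ψ : Y' ⟶ Y) (𝒮 : RelProj.QCGrAlg Y)
    (𝒮' : RelProj.QCGrAlg Y') (u : 𝒮.presheaf ⟶ ψ.base _* 𝒮'.presheaf)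
    (hu : 𝒮.str ≫ u = ψ.c ≫ (TopCat.Presheaf.pushforward CommRingCat.{u} ψ.base).map 𝒮'.str)
    (φ : ∀ (U : Y.Opens) (hU : IsAffineOpen U) (U' : Y'.Opens) (hU' : IsAffineOpen U') (_ : U' ≤ ψ ⁻¹ᵁ U),
      𝒮.deg U hU →+*ᵍ 𝒮'.deg U' hU')
    (hφ : ∀ (U : Y.Opens) (hU : IsAffineOpen U) (U' : Y'.Opens) (hU' : IsAffineOpen U') (hle : U' ≤ ψ ⁻¹ᵁ U),
      (φ U hU U' hU' hle).toRingHom =
        ((u.app (op U) : 𝒮.presheaf.obj (op U) ⟶ 𝒮'.presheaf.obj (op (ψ ⁻¹ᵁ U))) ≫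
          𝒮'.presheaf.map (homOfLE hle).op).hom)
    (hpo : ∀ (U : Y.Opens) (hU : IsAffineOpen U) (U' : Y'.Opens) (hU' : IsAffineOpen U') (hle : U' ≤ ψ ⁻¹ᵁ U),
      IsPushout (ψ.appLE U U' hle) (𝒮.str.app (op U)) (𝒮'.str.app (op U'))
        ((u.app (op U) : 𝒮.presheaf.obj (op U) ⟶ 𝒮'.presheaf.obj (op (ψ ⁻¹ᵁ U))) ≫
          𝒮'.presheaf.map (homOfLE hle).op))
    (hirr : ∀ (U : Y.Opens) (hU : IsAffineOpen U) (U' : Y'.Opens) (hU' : IsAffineOpen U') (hle : U' ≤ ψ ⁻¹ᵁ U),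
      (𝒮'.deg U' hU')₊ ≤ ((𝒮.deg U hU)₊).map (φ U hU U' hU' hle))
    (p : P ⟶ Y)
    (chart : ∀ (U : Y.Opens) (hU : IsAffineOpen U), (((p ⁻¹ᵁ U : P.Opens) : Scheme.{u}) ≅ Proj (𝒮.deg U hU)))
    (hP : RelProj.IsRelProj 𝒮 p chart) (p' : P' ⟶ Y')
    (chart' : ∀ (U' : Y'.Opens) (hU' : IsAffineOpen U'), (((p' ⁻¹ᵁ U' : P'.Opens) : Scheme.{u}) ≅ Proj (𝒮'.deg U' hU')))
    (hP' : RelProj.IsRelProj 𝒮' p' chart') (g : P' ⟶ P)
    (hg : ∀ (U : Y.Opens) (hU : IsAffineOpen U) (U' : Y'.Opens) (hU' : IsAffineOpen U') (hle : U' ≤ ψ ⁻¹ᵁ U),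
      (p' ⁻¹ᵁ U').ι ≫ g =
        (chart' U' hU').hom ≫ Proj.map (φ U hU U' hU' hle) (hirr U hU U' hU' hle) ≫ RelProj.emb p chart U hU) :
    IsPullback g p' p ψ := by
  have hmem : ∀ (U : Y.Opens) (hU : IsAffineOpen U) (U' : Y'.Opens) (hU' : IsAffineOpen U')
      (hle : U' ≤ ψ ⁻¹ᵁ U) {d : ℕ} {x : 𝒮.presheaf.obj (op U)}, x ∈ 𝒮.deg U hU d →
      (𝒮'.presheaf.map (homOfLE hle).op).hom
        ((u.app (op U) : 𝒮.presheaf.obj (op U) ⟶ 𝒮'.presheaf.obj (op (ψ ⁻¹ᵁ U))).hom x) ∈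
          𝒮'.deg U' hU' d := by
    intro U hU U' hU' hle d x hx
    have h1 := (φ U hU U' hU' hle).map_mem hx
    have h2 : (φ U hU U' hU' hle) x = _ := congrArg (fun r => r x) (hφ U hU U' hU' hle)
    exact (congrArg (fun t => t ∈ 𝒮'.deg U' hU' d) h2).mp h1
  obtain ⟨uQ, huQ⟩ : ∃ uQ : RelProj.QGrHom ψ 𝒮 𝒮', ∀ U, uQ.app U = u.app (op U) :=
    ⟨mkQGrHom ψ 𝒮 𝒮' u hu hmem, fun _ => rfl⟩
  have hφ' : φ = fun U hU U' hU' hle => uQ.gradedAt U hU U' hU' hle := by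
    funext U hU U' hU' hle
    apply DFunLike.ext
    intro x
    have h2 : (φ U hU U' hU' hle) x = _ := congrArg (fun r => r x) (hφ U hU U' hU' hle)
    refine h2.trans ?_
    show _ = (uQ.appLE U U' hle).hom x
    rw [RelSpec.QHom.appLE_eq, huQ]
  subst hφ'
  have hu' : RelSpec.IsQBaseChange uQ.toQHom := by
    intro U hU U' hU' hle
    rw [RelSpec.QHom.appLE_eq, huQ]
    exact hpo U hU U' hU' hle
  exact isPullback_of_isProjQMap uQ hu' hP hP' g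
    (isProjQMap_of_projMap uQ (domQ_eq_top uQ hu') hirr g hg)

end Groth.Agent.ProjQBC
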