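import Mathlib
import Groth.Prelude
import Groth.Agent.Lib.ProjQBC3_helper5
import Groth.Agent.Lib.GrTwFun_helper5
import Groth.Agent.Lib.RelProjTN4_helper5

/-!
# `Proj(u)` for a graded `g`-morphism with the irrelevant-ideal condition: chartwise `Proj.map`,
and values of pulled back functions  (helper5).  APPEND-ONLY once landed.
-/

set_option autoImplicit false
universe u
open CategoryTheory CategoryTheory.Limits AlgebraicGeometry TopologicalSpace Opposite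
open HomogeneousLocalization
open scoped HomogeneousIdeal

noncomputable section

namespace Groth.Agent.UPB

open Groth.Agent.RelProjTN RelProj Groth.Agent.AwayBC Groth.Agent.GrTw Groth.Agent.ProjQ

variable {Y Y' P P' : Scheme.{u}} {g : Y' ⟶ Y} {𝒮 : RelProj.QCGrAlg Y} {𝒮' : RelProj.QCGrAlg Y'}
  (u : RelProj.QGrHom g 𝒮 𝒮')
  {p : P ⟶ Y}
  {chart : ∀ (U : Y.Opens) (hU : IsAffineOpen U), (((p ⁻¹ᵁ U : P.Opens) : Scheme.{u}) ≅ Proj (𝒮.deg U hU))}
  {p' : P' ⟶ Y'}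
  {chart' : ∀ (U : Y'.Opens) (hU : IsAffineOpen U),
    (((p' ⁻¹ᵁ U : P'.Opens) : Scheme.{u}) ≅ Proj (𝒮'.deg U hU))}
  (hirr : ∀ (U : Y.Opens) (hU : IsAffineOpen U) (U' : Y'.Opens) (hU' : IsAffineOpen U')
    (hle : U' ≤ g ⁻¹ᵁ U), (𝒮'.deg U' hU')₊ ≤ ((𝒮.deg U hU)₊).map (u.gradedAt U hU U' hU' hle))
  (h : P' ⟶ P) (hh : RelProj.IsProjQMap u p chart p' chart' h)

include hirr in
theorem domQ_eq_top_of_hirr : RelProj.domQ u p' chart' = ⊤ := by
  rw [eq_top_iff]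
  intro x _
  obtain ⟨U, hU, U', hU', hle, hxU'⟩ := Groth.Agent.ConeFun.exists_pair (q := g) (p'.base x)
  have hxU'' : x ∈ p' ⁻¹ᵁ U' := hxU'
  refine mem_domQ_of_mem_domOpen u x U hU U' hU' hle hxU'' ?_
  rw [domOpen_eq_top _ (hirr U hU U' hU' hle)]
  trivial

include hh in
/-- `Proj(u)` is chartwise `Proj.map`. -/
theorem emb_comp_of_isProjQMap (U : Y.Opens) (hU : IsAffineOpen U) (U' : Y'.Opens)
    (hU' : IsAffineOpen U') (hle : U' ≤ g ⁻¹ᵁ U) :
    RelProj.emb p' chart' U' hU' ≫ h =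
      Proj.map (u.gradedAt U hU U' hU' hle) (hirr U hU U' hU' hle) ≫ RelProj.emb p chart U hU := by
  apply hom_ext_of_charts
  intro x
  have hx : x ∈ RelCone.domOpen (u.gradedAt U hU U' hU' hle) := by
    rw [domOpen_eq_top _ (hirr U hU U' hU' hle)]; trivial
  obtain ⟨d, hd, f, hf, hfx⟩ := exists_homogeneous_of_mem_domOpen _ x hx
  refine ⟨_, Proj.awayι (𝒮'.deg U' hU') (u.gradedAt U hU U' hU' hle f)
    ((u.gradedAt U hU U' hU' hle).map_mem hf) hd, inferInstance, ?_, ?_⟩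
  · have h1 := Proj.opensRange_awayι (𝒮'.deg U' hU') _ ((u.gradedAt U hU U' hU' hle).map_mem hf) hd
    have h2 : x ∈ (Proj.awayι (𝒮'.deg U' hU') (u.gradedAt U hU U' hU' hle f)
      ((u.gradedAt U hU U' hU' hle).map_mem hf) hd).opensRange := h1.ge hfx
    exact h2
  · have h1 := hh.2 U hU U' hU' hle d hd f hf
    unfold RelProj.awayEmb at h1
    rw [Category.assoc] at h1
    rw [h1, Proj.awayι_comp_map_assoc]

include hh in
theorem emb_comap_of_isProjQMap (U : Y.Opens) (hU : IsAffineOpen U) (U' : Y'.Opens)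
    (hU' : IsAffineOpen U') (hle : U' ≤ g ⁻¹ᵁ U) (y : Proj (𝒮'.deg U' hU')) :
    (RelProj.emb p chart U hU) (ProjectiveSpectrum.comap (u.gradedAt U hU U' hU' hle)
      (hirr U hU U' hU' hle) y) = h ((RelProj.emb p' chart' U' hU') y) := by
  have h2 := congrArg (fun ψ : Proj (𝒮'.deg U' hU') ⟶ P => ψ y)
    (emb_comp_of_isProjQMap u hirr h hh U hU U' hU' hle)
  exact h2.symm

include hh in
/-- Values of a function pulled back along `Proj(u)`, read in the charts. -/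
theorem valO_projQ (U : Y.Opens) (hU : IsAffineOpen U) (U' : Y'.Opens)
    (hU' : IsAffineOpen U') (hle : U' ≤ g ⁻¹ᵁ U) (W : P.Opens) (c : Γ(P, W))
    (y : (RelProj.emb p' chart' U' hU') ⁻¹ᵁ (h ⁻¹ᵁ W))
    (hy' : (RelProj.emb p chart U hU) (ProjectiveSpectrum.comap
      (u.gradedAt U hU U' hU' hle) (hirr U hU U' hU' hle) y.1) ∈ W) :
    valO (𝒮'.deg U' hU') (((RelProj.emb p' chart' U' hU').app (h ⁻¹ᵁ W)).hom ((h.app W).hom c)) y =
      GrTwist.locMap (u.gradedAt U hU U' hU' hle) (hirr U hU U' hU' hle) y.1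
        (valO (𝒮.deg U hU) (((RelProj.emb p chart U hU).app W).hom c) ⟨_, hy'⟩) := by
  have h0 := emb_comp_of_isProjQMap u hirr h hh U hU U' hU' hle
  have h1 := Scheme.Hom.congr_app h0 W
  rw [Scheme.Hom.comp_app, Scheme.Hom.comp_app] at h1
  have h2 := ConcreteCategory.congr_hom h1 c
  have h3 := valO_map_app (u.gradedAt U hU U' hU' hle) (hirr U hU U' hU' hle)
    ((RelProj.emb p chart U hU) ⁻¹ᵁ W) (((RelProj.emb p chart U hU).app W).hom c) ⟨y.1, hy'⟩
  refine Eq.trans ?_ h3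
  have h4 : ((RelProj.emb p' chart' U' hU').app (h ⁻¹ᵁ W)).hom ((h.app W).hom c) = _ := h2
  rw [h4]
  rfl

end Groth.Agent.UPB
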