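import Mathlib
import Groth.Prelude
import Groth.Agent.Lib.UPB14_helper5

/-!
# The pulled back `O(1)` along `Proj(u)`  (helper5).  APPEND-ONLY once landed.

For `u = uGrOf g E 𝒮 j hj 𝒮' j' hj'` and `h = Proj(u) : P' ⟶ P(E)`: `h^* O_{P(E)}(1) ≅ O_{P'}(1)`,
compatibly with the canonical maps.
-/

set_option autoImplicit false
universe u
open CategoryTheory AlgebraicGeometry TopologicalSpace Opposite
open scoped HomogeneousIdeal

noncomputable section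

namespace Groth.Agent.UPB

open QcqsLoc QCohExtn Groth.Agent.GrTw Groth.Agent.RelProjTN Groth.Agent.SymSum Groth.Agent.SymGr
  GenLocH8 Scheme.Modules

section sh
variable {Y X PL : Scheme.{u}} (g : X ⟶ Y) (pL : PL ⟶ X) (E : Y.Modules) (O1L : PL.Modules)
  (φL : (Scheme.Modules.pullback g).obj E ⟶ (Scheme.Modules.pushforward pL).obj O1L)

/-- The map `(p_L ≫ g)^* E ⟶ O_{P_L}(1)` deduced from `φ_L : g^*E ⟶ p_{L*} O(1)`. -/
def sh : (Scheme.Modules.pullback (pL ≫ g)).obj E ⟶ O1L :=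
  (pullbackComp pL g).inv.app E ≫ ((pullbackPushforwardAdjunction pL).homEquiv _ O1L).symm φL

instance epi_sh [Epi (((pullbackPushforwardAdjunction pL).homEquiv _ O1L).symm φL)] :
    Epi (sh g pL E O1L φL) := by
  unfold sh; infer_instance

theorem adj_sh :
    (pullbackPushforwardAdjunction (pL ≫ g)).homEquiv E O1L (sh g pL E O1L φL) =
      (pullbackPushforwardAdjunction g).unit.app E ≫ (pushforward g).map φL ≫
        (pushforwardComp pL g).hom.app O1L := by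
  refine ((compat_iff_aux g pL E _ O1L ((pullbackPushforwardAdjunction g).unit.app E) φL
    (sh g pL E O1L φL)).mp ?_).symm
  have h1 : ((pullbackPushforwardAdjunction g).homEquiv E _).symm
      ((pullbackPushforwardAdjunction g).unit.app E) = 𝟙 _ := by
    rw [Equiv.symm_apply_eq, Adjunction.homEquiv_unit, CategoryTheory.Functor.map_id]
    exact (Category.comp_id _).symm
  rw [h1, CategoryTheory.Functor.map_id]
  exact congrArg (fun t => (pullbackComp pL g).inv.app E ≫ t) (Category.id_comp _)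

theorem sb_sh (U : Y.Opens) (e : Γ(E, U)) :
    sb (pL ≫ g) E O1L (sh g pL E O1L φL) U e =
      (show Γ(O1L, (pL ≫ g) ⁻¹ᵁ U) from QCohExtn.ap φL (g ⁻¹ᵁ U) (PBH8.cUV g E le_rfl e)) := by
  have h1 := Groth.Agent.GrTw.adj_symm_cUV (pL ≫ g)
    ((pullbackPushforwardAdjunction (pL ≫ g)).homEquiv E O1L (sh g pL E O1L φL)) U e
  rw [Equiv.symm_apply_apply] at h1
  refine h1.trans ?_
  rw [adj_sh]
  have h2 : PBH8.cUV g E (le_rfl : g ⁻¹ᵁ U ≤ g ⁻¹ᵁ U) e =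
      ((Scheme.Modules.pullbackPushforwardAdjunction g).unit.app E).app U e := by
    unfold PBH8.cUV
    exact SubExt.rF_self _ _ _
  rw [h2]
  rfl

end sh

variable {Y P : Scheme.{u}} (E : Y.Modules) [E.IsQuasicoherent]
  (𝒮 : RelProj.QCGrAlg Y) (j : E ⟶ 𝒮.toModule) (hj : RelProj.IsGrSymAlg E 𝒮 j) (p : P ⟶ Y)
  (chart : ∀ (U : Y.Opens) (hU : IsAffineOpen U),
    (((p ⁻¹ᵁ U : P.Opens) : Scheme.{u}) ≅ Proj (𝒮.deg U hU)))
  (O1 : P.Modules)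
  (lam : ∀ (U : Y.Opens) (hU : IsAffineOpen U),
    O1 ⟶ (Scheme.Modules.pushforward (RelProj.emb p chart U hU)).obj
      (GrTwist.twist (𝒮.deg U hU) 1))
  (hO1 : RelProj.IsRelTwist 𝒮 p chart 1 O1 lam)
  (φ : E ⟶ (Scheme.Modules.pushforward p).obj O1)
  (hφ : ∀ (U : Y.Opens) (hU : IsAffineOpen U) (e : Γ(E, U))
    (y : ↥(RelProj.emb p chart U hU ⁻¹ᵁ (p ⁻¹ᵁ U))),
    GrTwist.val (V := RelProj.emb p chart U hU ⁻¹ᵁ (p ⁻¹ᵁ U))
        ((lam U hU).app (p ⁻¹ᵁ U) ((φ.app U) e)) y =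
      algebraMap (𝒮.presheaf.obj (op U)) (GrTwist.Loc (𝒮.deg U hU) y.1)
        ((j.app U) e : 𝒮.presheaf.obj (op U)))
  {X PL : Scheme.{u}} (g : X ⟶ Y)
  (𝒮L : RelProj.QCGrAlg X) (j' : (Scheme.Modules.pullback g).obj E ⟶ 𝒮L.toModule)
  (hj' : ∀ (V : X.Opens) (hV : IsAffineOpen V) (m : Γ((Scheme.Modules.pullback g).obj E, V)),
    jAdd ((Scheme.Modules.pullback g).obj E) 𝒮L.toQCAlg j' V m ∈ 𝒮L.deg V hV 1)
  (pL : PL ⟶ X)
  (chartL : ∀ (V : X.Opens) (hV : IsAffineOpen V),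
    (((pL ⁻¹ᵁ V : PL.Opens) : Scheme.{u}) ≅ Proj (𝒮L.deg V hV)))
  (O1L : PL.Modules)
  (lamL : ∀ (V : X.Opens) (hV : IsAffineOpen V),
    O1L ⟶ (Scheme.Modules.pushforward (RelProj.emb pL chartL V hV)).obj
      (GrTwist.twist (𝒮L.deg V hV) 1))
  (hO1L : RelProj.IsRelTwist 𝒮L pL chartL 1 O1L lamL)
  (φL : (Scheme.Modules.pullback g).obj E ⟶ (Scheme.Modules.pushforward pL).obj O1L)
  (hφL : ∀ (V : X.Opens) (hV : IsAffineOpen V) (t : Γ((Scheme.Modules.pullback g).obj E, V))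
    (y : ↥(RelProj.emb pL chartL V hV ⁻¹ᵁ (pL ⁻¹ᵁ V))),
    GrTwist.val (V := RelProj.emb pL chartL V hV ⁻¹ᵁ (pL ⁻¹ᵁ V))
        ((lamL V hV).app (pL ⁻¹ᵁ V) ((φL.app V) t)) y =
      algebraMap (𝒮L.presheaf.obj (op V)) (GrTwist.Loc (𝒮L.deg V hV) y.1)
        ((j'.app V) t : 𝒮L.presheaf.obj (op V)))
  (hirr : ∀ (U : Y.Opens) (hU : IsAffineOpen U) (V : X.Opens) (hV : IsAffineOpen V)
    (hle : V ≤ g ⁻¹ᵁ U), (𝒮L.deg V hV)₊ ≤ ((𝒮.deg U hU)₊).map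
      ((uGrOf g E 𝒮 j hj 𝒮L j' hj').gradedAt U hU V hV hle))
  (r₀ : PL ⟶ P) (hrp : r₀ ≫ p = pL ≫ g)
  (hr₀ : RelProj.IsProjQMap (uGrOf g E 𝒮 j hj 𝒮L j' hj') p chart pL chartL r₀)

include hφ hφL hO1L hr₀ hirr in
/-- **`HCompat` holds for `Proj(u)`**, with respect to `sh`. -/
theorem hcompat_gen : HCompat E p O1 φ (pL ≫ g) O1L (sh g pL E O1L φL) r₀ hrp := by
  intro U hU e e' W hW c hc
  apply eq_of_cover
  intro x hx
  have hxg : pL x ∈ g ⁻¹ᵁ U := le_g p (pL ≫ g) r₀ hrp hW hx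
  obtain ⟨V, hV, hxV, hVle⟩ := Opens.isBasis_iff_nbhd.mp X.isBasis_affineOpens hxg
  have hVa : IsAffineOpen V := hV
  have hxV' : x ∈ pL ⁻¹ᵁ V := hxV
  refine ⟨r₀ ⁻¹ᵁ W ⊓ pL ⁻¹ᵁ V, inf_le_left, ⟨hx, hxV'⟩, ?_⟩
  have e1 : ∀ e₁ : Γ(E, U), rF O1L (inf_le_left : r₀ ⁻¹ᵁ W ⊓ pL ⁻¹ᵁ V ≤ r₀ ⁻¹ᵁ W)
      (rF O1L (le_g p (pL ≫ g) r₀ hrp hW) (sb (pL ≫ g) E O1L (sh g pL E O1L φL) U e₁)) =
      rF O1L (inf_le_right : r₀ ⁻¹ᵁ W ⊓ pL ⁻¹ᵁ V ≤ pL ⁻¹ᵁ V)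
        (phiLg E g pL O1L φL U V hVle e₁) := by
    intro e₁
    rw [rF_rF, sb_sh]
    have h1 : phiLg E g pL O1L φL U V hVle e₁ =
        rF O1L (pL.preimage_mono hVle) (QCohExtn.ap φL (g ⁻¹ᵁ U) (PBH8.cUV g E le_rfl e₁)) := by
      show QCohExtn.ap φL V (PBH8.cUV g E hVle e₁) = _
      rw [← TensH8.rF_cUV g E (le_rfl : g ⁻¹ᵁ U ≤ g ⁻¹ᵁ U) hVle e₁, ap_rF]
      rfl
    rw [h1, rF_rF]
    rfl
  have h3 := hcompat_loc_gen E 𝒮 j hj p chart O1 lam φ hφ g 𝒮L j' hj' pL chartL O1L lamL hO1L φL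
    hφL hirr r₀ hr₀ U hU e e' V hVa hVle W hW c hc
  rw [e1 e, rF_smul, e1 e']
  exact h3

include hj hO1 hφ hφL hO1L hr₀ hirr in
/-- **The inverse image of `O_{P(E)}(1)` along `Proj(u)` is `O_{P'}(1)`**, compatibly with the
canonical maps. -/
theorem exists_tau_of_isProjQMap (hinv : PicF.IsInvertible O1L)
    [Epi (((pullbackPushforwardAdjunction pL).homEquiv _ O1L).symm φL)] :
    ∃ τ : (pullback r₀).obj O1 ≅ O1L,
      (pullbackCongr hrp).inv.app E ≫ (pullbackComp r₀ p).inv.app E ≫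
        (pullback r₀).map (((pullbackPushforwardAdjunction p).homEquiv E O1).symm φ) ≫ τ.hom =
          sh g pL E O1L φL := by
  obtain ⟨ν, hν⟩ := exists_nu E 𝒮 j hj p chart O1 lam hO1 φ hφ (pL ≫ g) O1L (sh g pL E O1L φL) r₀ hrp
    (hcompat_gen E 𝒮 j hj p chart O1 lam φ hφ g 𝒮L j' hj' pL chartL O1L lamL hO1L φL hφL hirr r₀
      hrp hr₀)
  exact exists_tau_of_nu E 𝒮 j hj p chart O1 lam hO1 φ (pL ≫ g) O1L (sh g pL E O1L φL) r₀ hrp hinv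
    ν hν

end Groth.Agent.UPB
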