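import Mathlib
import Groth.Prelude
import Groth.Agent.Lib.UPB15_helper5
import Groth.Agent.Lib.ProjQBC2_helper5
import Groth.Agent.Lib.PBEpi1_helper5

/-!
# Base change of the projective bundle with its `O(1)`  (helper5).  APPEND-ONLY once landed.

`P(ψ^*E) = P(E) ×_Y Y'`, and the projection `h : P(ψ^*E) ⟶ P(E)` pulls `O_{P(E)}(1)` back to
`O_{P(ψ^*E)}(1)`, compatibly with the canonical maps (EGA II 4.1.3).
-/

set_option autoImplicit false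
universe u
open CategoryTheory AlgebraicGeometry TopologicalSpace Opposite
open scoped HomogeneousIdeal

noncomputable section

namespace Groth.Agent.PBBC

open Scheme.Modules Groth.Agent.UPB Groth.Agent.SymGr

/-- **Base change of `P(E)` with `O(1)`.** -/
theorem exists_bc {Y Y' P P' : Scheme.{u}} (ψ : Y' ⟶ Y) (E : Y.Modules) [E.IsQuasicoherent]
    (𝒮 : RelProj.QCGrAlg Y) (j : E ⟶ 𝒮.toModule) (hj : RelProj.IsGrSymAlg E 𝒮 j) (p : P ⟶ Y)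
    (chart : ∀ (U : Y.Opens) (hU : IsAffineOpen U),
      ((p ⁻¹ᵁ U : P.Opens) : Scheme.{u}) ≅ Proj (𝒮.deg U hU))
    (hP : RelProj.IsRelProj 𝒮 p chart) (O1 : P.Modules)
    (lam : ∀ (U : Y.Opens) (hU : IsAffineOpen U),
      O1 ⟶ (Scheme.Modules.pushforward (RelProj.emb p chart U hU)).obj
        (GrTwist.twist (𝒮.deg U hU) 1))
    (hO1 : RelProj.IsRelTwist 𝒮 p chart 1 O1 lam)
    (φ : E ⟶ (Scheme.Modules.pushforward p).obj O1)
    (hφ : ∀ (U : Y.Opens) (hU : IsAffineOpen U) (e : Γ(E, U))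
      (y : ↥(RelProj.emb p chart U hU ⁻¹ᵁ (p ⁻¹ᵁ U))),
      GrTwist.val (V := RelProj.emb p chart U hU ⁻¹ᵁ (p ⁻¹ᵁ U))
          ((lam U hU).app (p ⁻¹ᵁ U) ((φ.app U) e)) y =
        algebraMap (𝒮.presheaf.obj (op U)) (GrTwist.Loc (𝒮.deg U hU) y.1)
          ((j.app U) e : 𝒮.presheaf.obj (op U)))
    (𝒮' : RelProj.QCGrAlg Y') (j' : (Scheme.Modules.pullback ψ).obj E ⟶ 𝒮'.toModule)
    (hj' : RelProj.IsGrSymAlg ((Scheme.Modules.pullback ψ).obj E) 𝒮' j') (p' : P' ⟶ Y')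
    (chart' : ∀ (U' : Y'.Opens) (hU' : IsAffineOpen U'),
      ((p' ⁻¹ᵁ U' : P'.Opens) : Scheme.{u}) ≅ Proj (𝒮'.deg U' hU'))
    (hP' : RelProj.IsRelProj 𝒮' p' chart') (O1' : P'.Modules)
    (lam' : ∀ (U : Y'.Opens) (hU : IsAffineOpen U),
      O1' ⟶ (Scheme.Modules.pushforward (RelProj.emb p' chart' U hU)).obj
        (GrTwist.twist (𝒮'.deg U hU) 1))
    (hO1' : RelProj.IsRelTwist 𝒮' p' chart' 1 O1' lam')
    (φ' : (Scheme.Modules.pullback ψ).obj E ⟶ (Scheme.Modules.pushforward p').obj O1')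
    (hφ' : ∀ (U : Y'.Opens) (hU : IsAffineOpen U) (e : Γ((Scheme.Modules.pullback ψ).obj E, U))
      (y : ↥(RelProj.emb p' chart' U hU ⁻¹ᵁ (p' ⁻¹ᵁ U))),
      GrTwist.val (V := RelProj.emb p' chart' U hU ⁻¹ᵁ (p' ⁻¹ᵁ U))
          ((lam' U hU).app (p' ⁻¹ᵁ U) ((φ'.app U) e)) y =
        algebraMap (𝒮'.presheaf.obj (op U)) (GrTwist.Loc (𝒮'.deg U hU) y.1)
          ((j'.app U) e : 𝒮'.presheaf.obj (op U))) :
    ∃ (h : P' ⟶ P) (hh : h ≫ p = p' ≫ ψ) (τ : (Scheme.Modules.pullback h).obj O1 ≅ O1'),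
      IsPullback h p' p ψ ∧
      (pullbackCongr hh).inv.app E ≫ (pullbackComp h p).inv.app E ≫
        (Scheme.Modules.pullback h).map
          (((pullbackPushforwardAdjunction p).homEquiv E O1).symm φ) ≫ τ.hom =
        sh ψ p' E O1' φ' := by
  haveI : ((Scheme.Modules.pullback ψ).obj E).IsQuasicoherent := PBH8.isQuasicoherent_pullback ψ E
  have hu := Groth.Agent.SymQHom.isQBaseChange_uGr ψ E 𝒮 j hj 𝒮' j' hj'
  have hueq : Groth.Agent.SymQHom.uGr ψ E 𝒮 j hj 𝒮' j' hj' = uGrOf ψ E 𝒮 j hj 𝒮' j' hj'.2 := rfl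
  obtain ⟨h, hh⟩ := Groth.Agent.ProjQBC.exists_isProjQMap
    (Groth.Agent.SymQHom.uGr ψ E 𝒮 j hj 𝒮' j' hj') hP hP'
    (Groth.Agent.ProjQBC.domQ_eq_top _ hu)
  have hpb := Groth.Agent.ProjQBC.isPullback_of_isProjQMap _ hu hP hP' h hh
  rw [hueq] at hh hu
  have hirr : ∀ (U : Y.Opens) (hU : IsAffineOpen U) (V : Y'.Opens) (hV : IsAffineOpen V)
      (hle : V ≤ ψ ⁻¹ᵁ U), (𝒮'.deg V hV)₊ ≤ ((𝒮.deg U hU)₊).map
        ((uGrOf ψ E 𝒮 j hj 𝒮' j' hj'.2).gradedAt U hU V hV hle) := fun U hU V hV hle =>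
    Groth.Agent.AwayBC.irrelevant_le_map_cat (ψ.appLE U V hle) (𝒮.str.app (op U))
      (𝒮'.str.app (op V)) ((uGrOf ψ E 𝒮 j hj 𝒮' j' hj'.2).appLE U V hle)
      ((uGrOf ψ E 𝒮 j hj 𝒮' j' hj'.2).gradedAt U hU V hV hle) (fun _ => rfl) (𝒮'.str_mem V hV)
      (hu U hU V hV hle)
  have hinv : PicF.IsInvertible O1' :=
    Groth.Agent.VAmpEpi.isInvertible_O1 𝒮' p' chart' _ j' hj' 1 (by norm_num) O1' lam' hO1'
  haveI : Epi (((pullbackPushforwardAdjunction p').homEquiv _ O1').symm φ') :=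
    Groth.Agent.PBEpi.epi_adj 𝒮' p' chart' _ j' hj' 1 (by norm_num) O1' lam' hO1' φ' hφ'
  obtain ⟨τ, hτ⟩ := exists_tau_of_isProjQMap E 𝒮 j hj p chart O1 lam hO1 φ hφ ψ 𝒮' j' hj'.2 p'
    chart' O1' lam' hO1' φ' hφ' hirr h hpb.w hh hinv
  exact ⟨h, hpb.w, τ, hpb, hτ⟩

end Groth.Agent.PBBC
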