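import Mathlib
import Groth.Agent.Lib.SymGr1_helper5

/-!
# Ring maps out of `A_(f)`, `f` of degree one, for `A` generated in degrees `0` and `1`  (helper5)
APPEND-ONLY once landed.
-/

set_option autoImplicit false
universe u v

namespace Groth.Agent.UPB

open HomogeneousLocalization

variable {A σ' : Type*} [CommRing A] [SetLike σ' A] [AddSubgroupClass σ' A] (𝒜 : ℕ → σ')
  [GradedRing 𝒜] {f : A} (hf : f ∈ 𝒜 1)

/-- The fraction `z / f^n`, `z` of degree `n`, `f` of degree one. -/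
def mkn (n : ℕ) (z : A) (hz : z ∈ 𝒜 n) : Away 𝒜 f :=
  Away.mk 𝒜 hf n z (by rw [smul_eq_mul, mul_one]; exact hz)

theorem val_mkn (n : ℕ) (z : A) (hz : z ∈ 𝒜 n) :
    (mkn 𝒜 hf n z hz).val = Localization.mk z ⟨f ^ n, (Submonoid.mem_powers_iff _ _).mpr ⟨n, rfl⟩⟩ := rfl

theorem mkn_congr {n n' : ℕ} {z z' : A} (hn : n = n') (h : z = z') (hz : z ∈ 𝒜 n)
    (hz' : z' ∈ 𝒜 n') : mkn 𝒜 hf n z hz = mkn 𝒜 hf n' z' hz' := by
  subst hn; subst h; rfl

theorem mkn_add (n : ℕ) (z z' : A) (hz : z ∈ 𝒜 n) (hz' : z' ∈ 𝒜 n) :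
    mkn 𝒜 hf n (z + z') (add_mem hz hz') = mkn 𝒜 hf n z hz + mkn 𝒜 hf n z' hz' := by
  apply HomogeneousLocalization.val_injective
  rw [HomogeneousLocalization.val_add, val_mkn, val_mkn, val_mkn, ← Localization.add_mk_self]

theorem mkn_zero (n : ℕ) : mkn 𝒜 hf n 0 (zero_mem _) = 0 := by
  apply HomogeneousLocalization.val_injective
  rw [val_mkn, HomogeneousLocalization.val_zero, Localization.mk_zero]

theorem mkn_neg (n : ℕ) (z : A) (hz : z ∈ 𝒜 n) :
    mkn 𝒜 hf n (-z) (neg_mem hz) = -mkn 𝒜 hf n z hz := by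
  apply HomogeneousLocalization.val_injective
  rw [HomogeneousLocalization.val_neg, val_mkn, val_mkn, Localization.neg_mk]

theorem mkn_mul (n n' : ℕ) (z z' : A) (hz : z ∈ 𝒜 n) (hz' : z' ∈ 𝒜 n') :
    mkn 𝒜 hf (n + n') (z * z') (SetLike.mul_mem_graded hz hz') =
      mkn 𝒜 hf n z hz * mkn 𝒜 hf n' z' hz' := by
  apply HomogeneousLocalization.val_injective
  rw [HomogeneousLocalization.val_mul, val_mkn, val_mkn, val_mkn, Localization.mk_mul]
  congr 1
  apply Subtype.ext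
  exact pow_add f n n'

theorem mkn_one : mkn 𝒜 hf 0 1 (SetLike.GradedOne.one_mem) = 1 := by
  apply HomogeneousLocalization.val_injective
  rw [val_mkn, HomogeneousLocalization.val_one]
  have : (⟨f ^ 0, (Submonoid.mem_powers_iff _ _).mpr ⟨0, rfl⟩⟩ : Submonoid.powers f) = 1 := Subtype.ext (pow_zero f)
  rw [this, Localization.mk_one]

theorem mkn_surjective (x : Away 𝒜 f) : ∃ (n : ℕ) (z : A) (hz : z ∈ 𝒜 n), mkn 𝒜 hf n z hz = x := by
  obtain ⟨n, a, ha, rfl⟩ := Away.mk_surjective 𝒜 hf x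
  have ha' : a ∈ 𝒜 n := by rw [smul_eq_mul, mul_one] at ha; exact ha
  exact ⟨n, a, ha', rfl⟩

variable {R M : Type*} [CommRing R] [AddCommGroup M] [Module R M] (ι : R →+* A) (j : M →+ A)
  (hι : ∀ a, ι a ∈ 𝒜 0) (hj : ∀ m, j m ∈ 𝒜 1)

include hι hj in
/-- **Two ring maps out of `A_(f)` agree if they agree on the `ι a / 1` and the `j m / f`.** -/
theorem away_hom_ext
    (hgen : ∀ (d : ℕ) (x : A), x ∈ 𝒜 d → x ∈ AddSubgroup.closure (SymGr.Mon ι j d))
    {B : Type*} [CommRing B] (θ θ' : Away 𝒜 f →+* B)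
    (h0 : ∀ a : R, θ (mkn 𝒜 hf 0 (ι a) (hι a)) = θ' (mkn 𝒜 hf 0 (ι a) (hι a)))
    (h1 : ∀ m : M, θ (mkn 𝒜 hf 1 (j m) (hj m)) = θ' (mkn 𝒜 hf 1 (j m) (hj m))) : θ = θ' := by
  -- products of the `j m`
  have hl : ∀ l : List M, ∃ hm : (l.map j).prod ∈ 𝒜 l.length,
      θ (mkn 𝒜 hf l.length (l.map j).prod hm) = θ' (mkn 𝒜 hf l.length (l.map j).prod hm) := by
    intro l
    induction l with
    | nil =>
      refine ⟨by simpa using SetLike.GradedOne.one_mem (A := 𝒜), ?_⟩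
      have e : mkn 𝒜 hf ([] : List M).length (([] : List M).map j).prod
          (by simpa using SetLike.GradedOne.one_mem (A := 𝒜)) = 1 :=
        (mkn_congr 𝒜 hf rfl (by simp) _ _).trans (mkn_one 𝒜 hf)
      rw [e, map_one, map_one]
    | cons m l ih =>
      obtain ⟨hm, ih⟩ := ih
      have hm' : ((m :: l).map j).prod ∈ 𝒜 (m :: l).length := by
        rw [List.map_cons, List.prod_cons, List.length_cons, add_comm]
        exact SetLike.mul_mem_graded (hj m) hm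
      refine ⟨hm', ?_⟩
      have e : mkn 𝒜 hf (m :: l).length ((m :: l).map j).prod hm' =
          mkn 𝒜 hf 1 (j m) (hj m) * mkn 𝒜 hf l.length (l.map j).prod hm :=
        (mkn_congr 𝒜 hf (by rw [List.length_cons, add_comm]) (by simp) _ _).trans
          (mkn_mul 𝒜 hf 1 l.length (j m) (l.map j).prod (hj m) hm)
      rw [e, map_mul, map_mul, h1, ih]
  apply RingHom.ext
  intro x
  obtain ⟨n, z, hz, rfl⟩ := mkn_surjective 𝒜 hf x
  have hcl := hgen n z hz
  have key : ∀ z ∈ AddSubgroup.closure (SymGr.Mon ι j n), ∃ hz : z ∈ 𝒜 n,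
      θ (mkn 𝒜 hf n z hz) = θ' (mkn 𝒜 hf n z hz) := by
    intro z hz
    induction hz using AddSubgroup.closure_induction with
    | mem z hz =>
      obtain ⟨a, l, hln, rfl⟩ := hz
      obtain ⟨hm, hlm⟩ := hl l
      have hm' : ι a * (l.map j).prod ∈ 𝒜 n := by
        have := SetLike.mul_mem_graded (hι a) hm
        rwa [zero_add, hln] at this
      refine ⟨hm', ?_⟩
      have e : mkn 𝒜 hf n (ι a * (l.map j).prod) hm' =
          mkn 𝒜 hf 0 (ι a) (hι a) * mkn 𝒜 hf l.length (l.map j).prod hm :=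
        (mkn_congr 𝒜 hf (by rw [zero_add, hln]) rfl _ _).trans
          (mkn_mul 𝒜 hf 0 l.length (ι a) (l.map j).prod (hι a) hm)
      rw [e, map_mul, map_mul, h0, hlm]
    | zero => exact ⟨zero_mem _, by rw [mkn_zero, map_zero, map_zero]⟩
    | add a b _ _ ha hb =>
      obtain ⟨ha', ha⟩ := ha
      obtain ⟨hb', hb⟩ := hb
      exact ⟨add_mem ha' hb', by rw [mkn_add 𝒜 hf n a b ha' hb', map_add, map_add, ha, hb]⟩
    | neg a _ ha =>
      obtain ⟨ha', ha⟩ := ha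
      exact ⟨neg_mem ha', by rw [mkn_neg 𝒜 hf n a ha', map_neg, map_neg, ha]⟩
  obtain ⟨_, h⟩ := key z hcl
  exact h

end Groth.Agent.UPB
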