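import Mathlib
import Groth.Prelude
import Groth.Agent.Lib.UPB4_helper5
import Groth.Agent.Lib.UPB5_helper5
import Groth.Agent.Lib.UPB10_helper5
import Groth.Agent.Lib.CanPhi1_helper5
import Groth.Agent.Lib.GrTwMul_helper5

/-!
# Functions on `D_+(j e) ⊆ P(E)` as the degree-zero localisation `Sym(E)(U)_(j e)`  (helper5)
APPEND-ONLY once landed.
-/

set_option autoImplicit false
universe u
open CategoryTheory CategoryTheory.Limits AlgebraicGeometry TopologicalSpace Opposite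
open HomogeneousLocalization
open scoped HomogeneousIdeal

noncomputable section

namespace Groth.Agent.UPB

open QcqsLoc QCohExtn Groth.Agent.GrTw Groth.Agent.RelProjTN Groth.Agent.SymSum Groth.Agent.SymGr
  GenLocH8

variable {Y P : Scheme.{u}} (E : Y.Modules) [E.IsQuasicoherent]
  (𝒮 : RelProj.QCGrAlg Y) (j : E ⟶ 𝒮.toModule) (hj : RelProj.IsGrSymAlg E 𝒮 j) (p : P ⟶ Y)
  (chart : ∀ (U : Y.Opens) (hU : IsAffineOpen U),
    (((p ⁻¹ᵁ U : P.Opens) : Scheme.{u}) ≅ Proj (𝒮.deg U hU)))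
  (hP : RelProj.IsRelProj 𝒮 p chart)
  (O1 : P.Modules)
  (lam : ∀ (U : Y.Opens) (hU : IsAffineOpen U),
    O1 ⟶ (Scheme.Modules.pushforward (RelProj.emb p chart U hU)).obj
      (GrTwist.twist (𝒮.deg U hU) 1))
  (hO1 : RelProj.IsRelTwist 𝒮 p chart 1 O1 lam)
  (φ : E ⟶ (Scheme.Modules.pushforward p).obj O1)
  (hφ : ∀ (U : Y.Opens) (hU : IsAffineOpen U) (e : Γ(E, U))
    (y : ↥(RelProj.emb p chart U hU ⁻¹ᵁ (p ⁻¹ᵁ U))),
    GrTwist.val (V := RelProj.emb p chart U hU ⁻¹ᵁ (p ⁻¹ᵁ U))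
        ((lam U hU).app (p ⁻¹ᵁ U) ((φ.app U) e)) y =
      algebraMap (𝒮.presheaf.obj (op U)) (GrTwist.Loc (𝒮.deg U hU) y.1)
        ((j.app U) e : 𝒮.presheaf.obj (op U)))
  (U : Y.Opens) (hU : IsAffineOpen U) (e : Γ(E, U))

theorem rX_self'' {X : Scheme.{u}} {W : X.Opens} (h : W ≤ W) (c : Γ(X, W)) : rX h c = c := by
  have h1 : (homOfLE h).op = 𝟙 (op W) := Subsingleton.elim _ _
  show (X.presheaf.map (homOfLE h).op).hom c = c
  rw [h1, X.presheaf.map_id]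
  rfl

theorem bijective_emb_app :
    Function.Bijective ((RelProj.emb p chart U hU).app (WW E 𝒮 j p chart U hU e)).hom := by
  haveI : IsIso ((RelProj.emb p chart U hU).app (WW E 𝒮 j p chart U hU e)) :=
    Scheme.Hom.isIso_app (RelProj.emb p chart U hU) _ (WW_le_range E 𝒮 j p chart U hU e)
  exact ConcreteCategory.bijective_of_isIso ((RelProj.emb p chart U hU).app _)

/-- Functions on `D_+(j e) ⊆ P` and on its preimage in the chart. -/
def embEquiv : Γ(P, WW E 𝒮 j p chart U hU e) ≃+*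
    Γ(Proj (𝒮.deg U hU), (RelProj.emb p chart U hU) ⁻¹ᵁ (WW E 𝒮 j p chart U hU e)) :=
  RingEquiv.ofBijective _ (bijective_emb_app E 𝒮 j p chart U hU e)

/-- The ring homomorphism `Sym(E)(U)_(j e) ⟶ Γ(P, D_+(j e))`. -/
def TT : Away (𝒮.deg U hU) (jAdd E 𝒮.toQCAlg j U e) →+* Γ(P, WW E 𝒮 j p chart U hU e) :=
  (embEquiv E 𝒮 j p chart U hU e).symm.toRingHom.comp
    ((rX (preimage_WW E 𝒮 j p chart U hU e).le).comp
      (Proj.awayToSection (𝒮.deg U hU) (jAdd E 𝒮.toQCAlg j U e)).hom)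

theorem emb_app_TT (x : Away (𝒮.deg U hU) (jAdd E 𝒮.toQCAlg j U e)) :
    ((RelProj.emb p chart U hU).app (WW E 𝒮 j p chart U hU e)).hom (TT E 𝒮 j p chart U hU e x) =
      rX (preimage_WW E 𝒮 j p chart U hU e).le
        ((Proj.awayToSection (𝒮.deg U hU) (jAdd E 𝒮.toQCAlg j U e)).hom x) :=
  (embEquiv E 𝒮 j p chart U hU e).apply_symm_apply _

include hj in
theorem TT_surjective : Function.Surjective (TT E 𝒮 j p chart U hU e) := by
  intro c
  have hiso : IsIso (Proj.awayToSection (𝒮.deg U hU) (jAdd E 𝒮.toQCAlg j U e)) :=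
    (Proj.basicOpenIsoAway (𝒮.deg U hU) (jAdd E 𝒮.toQCAlg j U e) (hj.2 U hU e) one_pos).isIso_hom
  have hbij := ConcreteCategory.bijective_of_isIso
    (Proj.awayToSection (𝒮.deg U hU) (jAdd E 𝒮.toQCAlg j U e))
  obtain ⟨x, hx⟩ := hbij.2 (rX (preimage_WW E 𝒮 j p chart U hU e).ge
    (((RelProj.emb p chart U hU).app (WW E 𝒮 j p chart U hU e)).hom c))
  refine ⟨x, ?_⟩
  apply (bijective_emb_app E 𝒮 j p chart U hU e).1
  rw [emb_app_TT]
  have h2 : (Proj.awayToSection (𝒮.deg U hU) (jAdd E 𝒮.toQCAlg j U e)).hom x = _ := hx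
  rw [h2, rX_rX]
  exact rX_self'' _ _

theorem pow_mem_primeCompl (n : ℕ)
    (y : ((RelProj.emb p chart U hU) ⁻¹ᵁ (WW E 𝒮 j p chart U hU e) : (Proj (𝒮.deg U hU)).Opens)) :
    jAdd E 𝒮.toQCAlg j U e ^ n ∈ y.1.asHomogeneousIdeal.toIdeal.primeCompl := by
  have hy : y.1 ∈ Proj.basicOpen (𝒮.deg U hU) (jAdd E 𝒮.toQCAlg j U e) :=
    (preimage_WW E 𝒮 j p chart U hU e).le y.2
  exact fun h => hy (y.1.isPrime.mem_of_pow_mem _ h)

include hj in
/-- The values of the function `z / (j e)^n` on `D_+(j e)`. -/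
theorem valO_TT_mkn (n : ℕ) (z : 𝒮.presheaf.obj (op U)) (hz : z ∈ 𝒮.deg U hU n)
    (y : ((RelProj.emb p chart U hU) ⁻¹ᵁ (WW E 𝒮 j p chart U hU e) : (Proj (𝒮.deg U hU)).Opens)) :
    valO (𝒮.deg U hU) (((RelProj.emb p chart U hU).app (WW E 𝒮 j p chart U hU e)).hom
      (TT E 𝒮 j p chart U hU e (mkn (𝒮.deg U hU) (hj.2 U hU e) n z hz))) y =
      Localization.mk z ⟨jAdd E 𝒮.toQCAlg j U e ^ n, pow_mem_primeCompl E 𝒮 j p chart U hU e n y⟩ := by
  rw [emb_app_TT, valO_rX]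
  rfl

/-- Functions on `D_+(j e) ⊆ P` are determined by their values in the chart. -/
theorem ext_valO (c c' : Γ(P, WW E 𝒮 j p chart U hU e))
    (h : ∀ y : ((RelProj.emb p chart U hU) ⁻¹ᵁ (WW E 𝒮 j p chart U hU e) :
        (Proj (𝒮.deg U hU)).Opens),
      valO (𝒮.deg U hU) (((RelProj.emb p chart U hU).app (WW E 𝒮 j p chart U hU e)).hom c) y =
        valO (𝒮.deg U hU) (((RelProj.emb p chart U hU).app (WW E 𝒮 j p chart U hU e)).hom c') y) :
    c = c' := by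
  apply (bijective_emb_app E 𝒮 j p chart U hU e).1
  apply Subtype.ext
  funext y
  apply HomogeneousLocalization.val_injective
  exact h y

include hj hP in
/-- The function `str(b) / 1` on `D_+(j e)` is the pullback of `b` from the base. -/
theorem TT_str (b : Γ(Y, U)) :
    TT E 𝒮 j p chart U hU e (mkn (𝒮.deg U hU) (hj.2 U hU e) 0 ((𝒮.str.app (op U)).hom b)
      (𝒮.str_mem U hU b)) = rX (WW_le E 𝒮 j p chart U hU e) ((p.app U).hom b) := by
  apply ext_valO E 𝒮 j p chart U hU e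
  intro y
  rw [valO_TT_mkn E 𝒮 j hj p chart U hU e]
  have h1 : ((RelProj.emb p chart U hU).app (WW E 𝒮 j p chart U hU e)).hom
      (rX (WW_le E 𝒮 j p chart U hU e) ((p.app U).hom b)) =
      rX ((RelProj.emb p chart U hU).preimage_mono (WW_le E 𝒮 j p chart U hU e))
        (((RelProj.emb p chart U hU).app (p ⁻¹ᵁ U)).hom ((p.app U).hom b)) :=
    congrArg (fun t => t.hom ((p.app U).hom b))
      ((RelProj.emb p chart U hU).naturality (homOfLE (WW_le E 𝒮 j p chart U hU e)).op)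
  rw [h1, valO_rX, Groth.Agent.CanPhi.valO_emb_p hP, ← Localization.mk_one_eq_algebraMap,
    Localization.mk_eq_mk_iff, Localization.r_iff_exists]
  exact ⟨1, by simp⟩

include hj hO1 hφ in
/-- `(j e' / j e) • φ(e) = φ(e')` on `D_+(j e)`. -/
theorem TT_j_smul (e' : Γ(E, U)) :
    TT E 𝒮 j p chart U hU e (mkn (𝒮.deg U hU) (hj.2 U hU e) 1 (jAdd E 𝒮.toQCAlg j U e')
        (hj.2 U hU e')) • rF O1 (WW_le E 𝒮 j p chart U hU e) (phiSec E p O1 φ U e) =
      rF O1 (WW_le E 𝒮 j p chart U hU e) (phiSec E p O1 φ U e') := by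
  apply ext_chart_val hO1 U hU (WW_le E 𝒮 j p chart U hU e)
  intro y
  have hyU : (y.1 : Proj (𝒮.deg U hU)) ∈ (RelProj.emb p chart U hU) ⁻¹ᵁ (p ⁻¹ᵁ U) :=
    (RelProj.emb p chart U hU).preimage_mono (WW_le E 𝒮 j p chart U hU e) y.2
  have hval : ∀ e₁ : Γ(E, U), GrTwist.val (chartSec 𝒮 p chart 1 O1 lam U hU _
      (rF O1 (WW_le E 𝒮 j p chart U hU e) (phiSec E p O1 φ U e₁))) y =
      algebraMap _ (GrTwist.Loc (𝒮.deg U hU) y.1) (jAdd E 𝒮.toQCAlg j U e₁) := by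
    intro e₁
    rw [chartSec_rF, val_rF]
    exact hφ U hU e₁ ⟨y.1, hyU⟩
  rw [chartSec_smul, Groth.Agent.GrTw.val_smul, valO_TT_mkn E 𝒮 j hj p chart U hU e, hval e, hval e',
    ← Localization.mk_one_eq_algebraMap, ← Localization.mk_one_eq_algebraMap, Localization.mk_mul,
    Localization.mk_eq_mk_iff, Localization.r_iff_exists]
  refine ⟨1, ?_⟩
  simp only [OneMemClass.coe_one, one_mul, pow_one, mul_one]
  exact mul_comm _ _

include hj in
/-- The non-vanishing locus of `j e' / j e` lies in `D_+(j e')`. -/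
theorem basicOpen_TT_j_le (e' : Γ(E, U)) :
    P.basicOpen (TT E 𝒮 j p chart U hU e (mkn (𝒮.deg U hU) (hj.2 U hU e) 1
      (jAdd E 𝒮.toQCAlg j U e') (hj.2 U hU e'))) ≤ WW E 𝒮 j p chart U hU e' := by
  intro x hx
  have hxW : x ∈ WW E 𝒮 j p chart U hU e := P.basicOpen_le _ hx
  have hxU : x ∈ p ⁻¹ᵁ U := WW_le E 𝒮 j p chart U hU e hxW
  rw [mem_WW_iff E 𝒮 j p chart U hU e' x hxU]
  have hz : (RelProj.emb p chart U hU) (zpt p chart U hU x hxU) = x := emb_zpt U hU x hxU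
  have hzW : zpt p chart U hU x hxU ∈ (RelProj.emb p chart U hU) ⁻¹ᵁ (WW E 𝒮 j p chart U hU e) := by
    show (RelProj.emb p chart U hU) (zpt p chart U hU x hxU) ∈ WW E 𝒮 j p chart U hU e
    rw [hz]; exact hxW
  have h1 : zpt p chart U hU x hxU ∈ (RelProj.emb p chart U hU) ⁻¹ᵁ (P.basicOpen
      (TT E 𝒮 j p chart U hU e (mkn (𝒮.deg U hU) (hj.2 U hU e) 1
        (jAdd E 𝒮.toQCAlg j U e') (hj.2 U hU e')))) := by
    show (RelProj.emb p chart U hU) (zpt p chart U hU x hxU) ∈ P.basicOpen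
      (TT E 𝒮 j p chart U hU e (mkn (𝒮.deg U hU) (hj.2 U hU e) 1
        (jAdd E 𝒮.toQCAlg j U e') (hj.2 U hU e')))
    rw [hz]; exact hx
  rw [Scheme.preimage_basicOpen] at h1
  have h2 := (Groth.Agent.GrTw.mem_basicOpen_iff (𝒮.deg U hU) _ _ _ hzW).mp h1
  have ht : jAdd E 𝒮.toQCAlg j U e ^ 1 ∉ (zpt p chart U hU x hxU).asHomogeneousIdeal :=
    pow_mem_primeCompl E 𝒮 j p chart U hU e 1 ⟨_, hzW⟩
  exact (isUnit_iff_of_val (𝒮.deg U hU) (zpt p chart U hU x hxU) _ (jAdd E 𝒮.toQCAlg j U e')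
    (jAdd E 𝒮.toQCAlg j U e ^ 1) ht
    (valO_TT_mkn E 𝒮 j hj p chart U hU e 1 _ (hj.2 U hU e') ⟨_, hzW⟩)).mp h2

end Groth.Agent.UPB
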