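import Mathlib
import Groth.Prelude
import Groth.Agent.Lib.UPB6_helper5
import Groth.Agent.Lib.UPB11_helper5
import Groth.Agent.Lib.Tens14_helper8
import Groth.Agent.Lib.Tens17_helper8
import Groth.Agent.Lib.PullbackLocal_helper5

/-!
# Uniqueness part of the universal property of `P(E)`  (helper5).  APPEND-ONLY once landed.
-/

set_option autoImplicit false
universe u
open CategoryTheory CategoryTheory.Limits AlgebraicGeometry TopologicalSpace Opposite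
open HomogeneousLocalization
open scoped HomogeneousIdeal

noncomputable section

namespace Groth.Agent.UPB

open QcqsLoc QCohExtn Groth.Agent.GrTw Groth.Agent.RelProjTN Groth.Agent.SymSum Groth.Agent.SymGr
  GenLocH8

/-- Two morphisms agreeing on the functions of an affine open of the target agree on an open
mapped into it. -/
theorem ι_comp_eq_of_appLE {Z P : Scheme.{u}} (h₁ h₂ : Z ⟶ P) (W : P.Opens)
    (hW : IsAffineOpen W) (O : Z.Opens) (e₁ : O ≤ h₁ ⁻¹ᵁ W) (e₂ : O ≤ h₂ ⁻¹ᵁ W)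
    (H : ∀ c : Γ(P, W), (h₁.appLE W O e₁).hom c = (h₂.appLE W O e₂).hom c) :
    O.ι ≫ h₁ = O.ι ≫ h₂ := by
  have key : h₁.appLE W O e₁ = h₂.appLE W O e₂ := by
    ext c
    exact H c
  have e1 : h₁.resLE W O e₁ = h₂.resLE W O e₂ := by
    haveI : IsAffine W.toScheme := hW
    apply ext_of_isAffine
    have h1 : (h₁.resLE W O e₁).appTop = W.topIso.hom ≫ h₁.appLE W O e₁ ≫ O.topIso.inv :=
      Scheme.Hom.resLE_app_top h₁ e₁
    have h2 : (h₂.resLE W O e₂).appTop = W.topIso.hom ≫ h₂.appLE W O e₂ ≫ O.topIso.inv :=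
      Scheme.Hom.resLE_app_top h₂ e₂
    rw [h1, h2, key]
  rw [← Scheme.Hom.resLE_comp_ι h₁ e₁, ← Scheme.Hom.resLE_comp_ι h₂ e₂, e1]

variable {Y P : Scheme.{u}} (E : Y.Modules) [E.IsQuasicoherent]
  (𝒮 : RelProj.QCGrAlg Y) (j : E ⟶ 𝒮.toModule) (hj : RelProj.IsGrSymAlg E 𝒮 j) (p : P ⟶ Y)
  (chart : ∀ (U : Y.Opens) (hU : IsAffineOpen U),
    (((p ⁻¹ᵁ U : P.Opens) : Scheme.{u}) ≅ Proj (𝒮.deg U hU)))
  (hP : RelProj.IsRelProj 𝒮 p chart)
  (O1 : P.Modules)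
  (lam : ∀ (U : Y.Opens) (hU : IsAffineOpen U),
    O1 ⟶ (Scheme.Modules.pushforward (RelProj.emb p chart U hU)).obj
      (GrTwist.twist (𝒮.deg U hU) 1))
  (hO1 : RelProj.IsRelTwist 𝒮 p chart 1 O1 lam)
  (φ : E ⟶ (Scheme.Modules.pushforward p).obj O1)
  (hφ : ∀ (U : Y.Opens) (hU : IsAffineOpen U) (e : Γ(E, U))
    (y : ↥(RelProj.emb p chart U hU ⁻¹ᵁ (p ⁻¹ᵁ U))),
    GrTwist.val (V := RelProj.emb p chart U hU ⁻¹ᵁ (p ⁻¹ᵁ U))
        ((lam U hU).app (p ⁻¹ᵁ U) ((φ.app U) e)) y =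
      algebraMap (𝒮.presheaf.obj (op U)) (GrTwist.Loc (𝒮.deg U hU) y.1)
        ((j.app U) e : 𝒮.presheaf.obj (op U)))
  {X : Scheme.{u}} (g : X ⟶ Y) (L : X.Modules) (s : (Scheme.Modules.pullback g).obj E ⟶ L)

include hj in
theorem isAffineOpen_WW (U : Y.Opens) (hU : IsAffineOpen U) (e : Γ(E, U)) :
    IsAffineOpen (WW E 𝒮 j p chart U hU e) :=
  (Proj.isAffineOpen_basicOpen (𝒮.deg U hU) (jAdd E 𝒮.toQCAlg j U e) (hj.2 U hU e)
    one_pos).image_of_isOpenImmersion (RelProj.emb p chart U hU)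

section One
variable (r : X ⟶ P) (hr : r ≫ p = g) (ν : O1 ⟶ (Scheme.Modules.pushforward r).obj L)
  (hν : ∀ (U : Y.Opens) (_ : IsAffineOpen U) (e : Γ(E, U)),
    QCohExtn.ap ν (p ⁻¹ᵁ U) (phiSec E p O1 φ U e) =
      (show Γ((Scheme.Modules.pushforward r).obj L, p ⁻¹ᵁ U) from
        rF L (le_g p g r hr le_rfl) (sb g E L s U e)))

include hν in
/-- `ν` on the restriction of `φ(e)` to an open `W ≤ p⁻¹U`. -/
theorem nu_res (U : Y.Opens) (hU : IsAffineOpen U) (e : Γ(E, U)) (W : P.Opens)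
    (hW : W ≤ p ⁻¹ᵁ U) :
    QCohExtn.ap ν W (rF O1 hW (phiSec E p O1 φ U e)) =
      (show Γ((Scheme.Modules.pushforward r).obj L, W) from
        rF L (le_g p g r hr hW) (sb g E L s U e)) := by
  rw [ap_rF, hν U hU e]
  show rF L (r.preimage_mono hW) (rF L _ (sb g E L s U e)) = _
  rw [rF_rF]

include hν in
/-- A relation `φ(e) = c • φ(e')` over `W` gives `s♭(e) = r^♯(c) • s♭(e')` over `r⁻¹W`. -/
theorem rel_of_nu (U : Y.Opens) (hU : IsAffineOpen U) (e e' : Γ(E, U)) (W : P.Opens)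
    (hW : W ≤ p ⁻¹ᵁ U) (c : Γ(P, W))
    (hc : rF O1 hW (phiSec E p O1 φ U e) = c • rF O1 hW (phiSec E p O1 φ U e')) :
    rF L (le_g p g r hr hW) (sb g E L s U e) =
      (r.app W).hom c • rF L (le_g p g r hr hW) (sb g E L s U e') := by
  have h1 := congrArg (QCohExtn.ap ν W) hc
  rw [ap_smul, nu_res E p O1 φ g L s r hr ν hν U hU e W hW,
    nu_res E p O1 φ g L s r hr ν hν U hU e' W hW] at h1
  exact h1

include hj hO1 hφ hν in
/-- `s♭(e)` generates `L` over `r⁻¹(D_+(j e))`. -/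
theorem isGen_sb (hO1inv : PicF.IsInvertible O1)
    [IsIso (((Scheme.Modules.pullbackPushforwardAdjunction r).homEquiv O1 L).symm ν)]
    (U : Y.Opens) (hU : IsAffineOpen U) (e : Γ(E, U)) :
    IsGen L (r ⁻¹ᵁ (WW E 𝒮 j p chart U hU e))
      (rF L (le_g p g r hr (WW_le E 𝒮 j p chart U hU e)) (sb g E L s U e)) := by
  have h1 := TensH8.isGen_cUV r hO1inv (isAffineOpen_WW E 𝒮 j hj p chart U hU e)
    (isGen_phi E 𝒮 j hj p chart O1 lam hO1 φ hφ U hU e)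
  have h2 := TensH8.isGen_of_iso
    (asIso (((Scheme.Modules.pullbackPushforwardAdjunction r).homEquiv O1 L).symm ν)) h1
  have h3 : QCohExtn.ap (asIso (((Scheme.Modules.pullbackPushforwardAdjunction r).homEquiv
      O1 L).symm ν)).hom (r ⁻¹ᵁ (WW E 𝒮 j p chart U hU e))
      (PBH8.cUV r O1 le_rfl (rF O1 (WW_le E 𝒮 j p chart U hU e) (phiSec E p O1 φ U e))) =
      rF L (le_g p g r hr (WW_le E 𝒮 j p chart U hU e)) (sb g E L s U e) := by
    refine (adj_symm_cUV r ν _ _).trans ?_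
    exact nu_res E p O1 φ g L s r hr ν hν U hU e _ (WW_le E 𝒮 j p chart U hU e)
  rw [h3] at h2
  exact h2

include hj hO1 hφ hν in
/-- If `s♭(e)` generates `L` near `x`, then `r(x) ∈ D_+(j e)`. -/
theorem mem_WW_of_isGen (hO1inv : PicF.IsInvertible O1)
    [IsIso (((Scheme.Modules.pullbackPushforwardAdjunction r).homEquiv O1 L).symm ν)]
    (U : Y.Opens) (hU : IsAffineOpen U) (e : Γ(E, U)) (x : X) (O : X.Opens) (hxO : x ∈ O)
    (hO : O ≤ g ⁻¹ᵁ U) (hgen : IsGen L O (rF L hO (sb g E L s U e))) :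
    r x ∈ WW E 𝒮 j p chart U hU e := by
  have hxU : r x ∈ p ⁻¹ᵁ U := by
    have h1 : g x ∈ U := hO hxO
    rw [← hr] at h1
    exact h1
  obtain ⟨e'', he''⟩ := exists_mem_WW E 𝒮 j hj p chart U hU (r x) hxU
  have hrel := rel_of_nu E p O1 φ g L s r hr ν hν U hU e e'' _ (WW_le E 𝒮 j p chart U hU e'')
    (TT E 𝒮 j p chart U hU e'' (mkn (𝒮.deg U hU) (hj.2 U hU e'') 1 (jAdd E 𝒮.toQCAlg j U e)
      (hj.2 U hU e))) (TT_j_smul E 𝒮 j hj p chart O1 lam hO1 φ hφ U hU e'' e).symm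
  have hgen'' := isGen_sb E 𝒮 j hj p chart O1 lam hO1 φ hφ g L s r hr ν hν hO1inv U hU e''
  -- restrict to `O' = O ⊓ r⁻¹ W''`
  have hO'1 : O ⊓ r ⁻¹ᵁ (WW E 𝒮 j p chart U hU e'') ≤ O := inf_le_left
  have hO'2 : O ⊓ r ⁻¹ᵁ (WW E 𝒮 j p chart U hU e'') ≤ r ⁻¹ᵁ (WW E 𝒮 j p chart U hU e'') :=
    inf_le_right
  have hxO' : x ∈ O ⊓ r ⁻¹ᵁ (WW E 𝒮 j p chart U hU e'') := ⟨hxO, he''⟩
  have g1 := hgen.res hO'1
  have g2 := hgen''.res hO'2
  rw [rF_rF] at g1 g2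
  have hrel' := congrArg (rF L hO'2) hrel
  rw [rF_rF, rF_smul, rF_rF] at hrel'
  obtain ⟨b, hb⟩ := g1.exists_coef (rF L (hO'2.trans (le_g p g r hr (WW_le E 𝒮 j p chart U hU e'')))
    (sb g E L s U e''))
  have h5 : rF L (hO'1.trans hO) (sb g E L s U e) =
      rF L (hO'2.trans (le_g p g r hr (WW_le E 𝒮 j p chart U hU e''))) (sb g E L s U e) := rfl
  rw [← h5] at hrel'
  have h6 : (1 : Γ(X, O ⊓ r ⁻¹ᵁ (WW E 𝒮 j p chart U hU e''))) •
      rF L (hO'1.trans hO) (sb g E L s U e) =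
      (rX hO'2 ((r.app (WW E 𝒮 j p chart U hU e'')).hom (TT E 𝒮 j p chart U hU e''
        (mkn (𝒮.deg U hU) (hj.2 U hU e'') 1 (jAdd E 𝒮.toQCAlg j U e) (hj.2 U hU e)))) * b) •
        rF L (hO'1.trans hO) (sb g E L s U e) := by
    rw [one_smul, mul_smul, ← hb]
    exact hrel'
  have h7 := TensH8.IsGen.coef_ext g1 h6
  have hu : IsUnit (rX hO'2 ((r.app (WW E 𝒮 j p chart U hU e'')).hom (TT E 𝒮 j p chart U hU e''
      (mkn (𝒮.deg U hU) (hj.2 U hU e'') 1 (jAdd E 𝒮.toQCAlg j U e) (hj.2 U hU e))))) :=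
    IsUnit.of_mul_eq_one _ h7.symm
  have h8 := Scheme.basicOpen_of_isUnit X hu
  have h9 : x ∈ X.basicOpen (rX hO'2 ((r.app (WW E 𝒮 j p chart U hU e'')).hom
      (TT E 𝒮 j p chart U hU e'' (mkn (𝒮.deg U hU) (hj.2 U hU e'') 1 (jAdd E 𝒮.toQCAlg j U e)
        (hj.2 U hU e))))) := by
    rw [h8]; exact hxO'
  have h10 : x ∈ X.basicOpen ((r.app (WW E 𝒮 j p chart U hU e'')).hom
      (TT E 𝒮 j p chart U hU e'' (mkn (𝒮.deg U hU) (hj.2 U hU e'') 1 (jAdd E 𝒮.toQCAlg j U e)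
        (hj.2 U hU e)))) := by
    have := Scheme.basicOpen_res X ((r.app (WW E 𝒮 j p chart U hU e'')).hom
      (TT E 𝒮 j p chart U hU e'' (mkn (𝒮.deg U hU) (hj.2 U hU e'') 1 (jAdd E 𝒮.toQCAlg j U e)
        (hj.2 U hU e)))) (homOfLE hO'2).op
    have h11 : x ∈ (O ⊓ r ⁻¹ᵁ (WW E 𝒮 j p chart U hU e'')) ⊓ X.basicOpen
        ((r.app (WW E 𝒮 j p chart U hU e'')).hom (TT E 𝒮 j p chart U hU e''
          (mkn (𝒮.deg U hU) (hj.2 U hU e'') 1 (jAdd E 𝒮.toQCAlg j U e) (hj.2 U hU e)))) := by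
      rw [← this]; exact h9
    exact h11.2
  rw [← Scheme.preimage_basicOpen] at h10
  exact basicOpen_TT_j_le E 𝒮 j hj p chart U hU e'' e h10

end One

end Groth.Agent.UPB
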