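import Mathlib
import Groth.Prelude
import Groth.Agent.Lib.UPB12_helper5

/-!
# Uniqueness part of the universal property of `P(E)`, continued  (helper5)
APPEND-ONLY once landed.
-/

set_option autoImplicit false
universe u
open CategoryTheory CategoryTheory.Limits AlgebraicGeometry TopologicalSpace Opposite
open HomogeneousLocalization
open scoped HomogeneousIdeal

noncomputable section

namespace Groth.Agent.UPB

open QcqsLoc QCohExtn Groth.Agent.GrTw Groth.Agent.RelProjTN Groth.Agent.SymSum Groth.Agent.SymGr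
  GenLocH8 Groth.Agent.SymAlg

variable {Y P : Scheme.{u}} (E : Y.Modules) [E.IsQuasicoherent]
  (𝒮 : RelProj.QCGrAlg Y) (j : E ⟶ 𝒮.toModule) (hj : RelProj.IsGrSymAlg E 𝒮 j) (p : P ⟶ Y)
  (chart : ∀ (U : Y.Opens) (hU : IsAffineOpen U),
    (((p ⁻¹ᵁ U : P.Opens) : Scheme.{u}) ≅ Proj (𝒮.deg U hU)))
  (hP : RelProj.IsRelProj 𝒮 p chart)
  (O1 : P.Modules)
  (lam : ∀ (U : Y.Opens) (hU : IsAffineOpen U),
    O1 ⟶ (Scheme.Modules.pushforward (RelProj.emb p chart U hU)).obj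
      (GrTwist.twist (𝒮.deg U hU) 1))
  (hO1 : RelProj.IsRelTwist 𝒮 p chart 1 O1 lam)
  (φ : E ⟶ (Scheme.Modules.pushforward p).obj O1)
  (hφ : ∀ (U : Y.Opens) (hU : IsAffineOpen U) (e : Γ(E, U))
    (y : ↥(RelProj.emb p chart U hU ⁻¹ᵁ (p ⁻¹ᵁ U))),
    GrTwist.val (V := RelProj.emb p chart U hU ⁻¹ᵁ (p ⁻¹ᵁ U))
        ((lam U hU).app (p ⁻¹ᵁ U) ((φ.app U) e)) y =
      algebraMap (𝒮.presheaf.obj (op U)) (GrTwist.Loc (𝒮.deg U hU) y.1)
        ((j.app U) e : 𝒮.presheaf.obj (op U)))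
  {X : Scheme.{u}} (g : X ⟶ Y) (L : X.Modules) (s : (Scheme.Modules.pullback g).obj E ⟶ L)
  (r r' : X ⟶ P) (hr : r ≫ p = g) (hr' : r' ≫ p = g)
  (ν : O1 ⟶ (Scheme.Modules.pushforward r).obj L)
  (hν : ∀ (U : Y.Opens) (_ : IsAffineOpen U) (e : Γ(E, U)),
    QCohExtn.ap ν (p ⁻¹ᵁ U) (phiSec E p O1 φ U e) =
      (show Γ((Scheme.Modules.pushforward r).obj L, p ⁻¹ᵁ U) from
        rF L (le_g p g r hr le_rfl) (sb g E L s U e)))
  (ν' : O1 ⟶ (Scheme.Modules.pushforward r').obj L)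
  (hν' : ∀ (U : Y.Opens) (_ : IsAffineOpen U) (e : Γ(E, U)),
    QCohExtn.ap ν' (p ⁻¹ᵁ U) (phiSec E p O1 φ U e) =
      (show Γ((Scheme.Modules.pushforward r').obj L, p ⁻¹ᵁ U) from
        rF L (le_g p g r' hr' le_rfl) (sb g E L s U e)))

include hj hP hO1 hφ hν hν' in
/-- The two morphisms induce the same map on the functions of `D_+(j e)`. -/
theorem appLE_eq_of_nu (U : Y.Opens) (hU : IsAffineOpen U) (e : Γ(E, U)) (O : X.Opens)
    (h : O ≤ r ⁻¹ᵁ (WW E 𝒮 j p chart U hU e)) (h' : O ≤ r' ⁻¹ᵁ (WW E 𝒮 j p chart U hU e))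
    (hgen : IsGen L O (rF L (h.trans (le_g p g r hr (WW_le E 𝒮 j p chart U hU e)))
      (sb g E L s U e)))
    (c : Γ(P, WW E 𝒮 j p chart U hU e)) :
    (r.appLE (WW E 𝒮 j p chart U hU e) O h).hom c =
      (r'.appLE (WW E 𝒮 j p chart U hU e) O h').hom c := by
  obtain ⟨x, rfl⟩ := TT_surjective E 𝒮 j hj p chart U hU e c
  have hgen' : ∀ (d : ℕ) (x : 𝒮.presheaf.obj (op U)), x ∈ 𝒮.deg U hU d →
      x ∈ AddSubgroup.closure (SymGr.Mon (𝒮.str.app (op U)).hom (jAdd E 𝒮.toQCAlg j U) d) :=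
    fun d x hx => deg_le_closure_mon (𝒮.str.app (op U)).hom (jAdd E 𝒮.toQCAlg j U)
      (symToA E 𝒮.toQCAlg j U) (symToA_algebraMap E 𝒮.toQCAlg j U) (symToA_ι E 𝒮.toQCAlg j U)
      (𝒮.deg U hU) (fun a => 𝒮.str_mem U hU a) (fun m => hj.2 U hU m)
      (symToA_bijective E 𝒮 j hj U hU).2 d x hx
  have key := away_hom_ext (f := jAdd E 𝒮.toQCAlg j U e) (𝒮.deg U hU) (hj.2 U hU e)
    (𝒮.str.app (op U)).hom
    (jAdd E 𝒮.toQCAlg j U) (fun a => 𝒮.str_mem U hU a) (fun m => hj.2 U hU m) hgen'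
    ((r.appLE (WW E 𝒮 j p chart U hU e) O h).hom.comp (TT E 𝒮 j p chart U hU e))
    ((r'.appLE (WW E 𝒮 j p chart U hU e) O h').hom.comp (TT E 𝒮 j p chart U hU e)) ?_ ?_
  · exact RingHom.congr_fun key x
  · -- functions from the base
    intro b
    simp only [RingHom.comp_apply]
    rw [TT_str E 𝒮 j hj p chart hP U hU e b]
    have h1 : ∀ (ρ : X ⟶ P) (hρ : ρ ≫ p = g) (hO : O ≤ ρ ⁻¹ᵁ (WW E 𝒮 j p chart U hU e)),
        (ρ.appLE (WW E 𝒮 j p chart U hU e) O hO).hom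
          (rX (WW_le E 𝒮 j p chart U hU e) ((p.app U).hom b)) =
        (g.appLE U O (hO.trans (le_g p g ρ hρ (WW_le E 𝒮 j p chart U hU e)))).hom b := by
      intro ρ hρ hO
      have h2 := Scheme.Hom.appLE_comp_appLE ρ p U (WW E 𝒮 j p chart U hU e) O
        (WW_le E 𝒮 j p chart U hU e) hO
      have h3 := congrArg (fun t => t.hom b) h2
      simp only [CommRingCat.hom_comp, RingHom.comp_apply] at h3
      refine Eq.trans ?_ (h3.trans ?_)
      · rfl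
      · exact congrArg (fun t => t.hom b) (Groth.Agent.PullbackLocal.appLE_congr hρ U O _ _)
    rw [h1 r hr h, h1 r' hr' h']
  · -- the ratios `j e' / j e`
    intro e'
    simp only [RingHom.comp_apply]
    have hc := (TT_j_smul E 𝒮 j hj p chart O1 lam hO1 φ hφ U hU e e').symm
    have h1 := rel_of_nu E p O1 φ g L s r hr ν hν U hU e' e _ (WW_le E 𝒮 j p chart U hU e) _ hc
    have h2 := rel_of_nu E p O1 φ g L s r' hr' ν' hν' U hU e' e _ (WW_le E 𝒮 j p chart U hU e) _ hc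
    have h1' := congrArg (rF L h) h1
    have h2' := congrArg (rF L h') h2
    rw [rF_rF, rF_smul, rF_rF] at h1' h2'
    have h3 : (r.appLE (WW E 𝒮 j p chart U hU e) O h).hom (TT E 𝒮 j p chart U hU e
        (mkn (𝒮.deg U hU) (hj.2 U hU e) 1 (jAdd E 𝒮.toQCAlg j U e') (hj.2 U hU e'))) •
        rF L (h.trans (le_g p g r hr (WW_le E 𝒮 j p chart U hU e))) (sb g E L s U e) =
      (r'.appLE (WW E 𝒮 j p chart U hU e) O h').hom (TT E 𝒮 j p chart U hU e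
        (mkn (𝒮.deg U hU) (hj.2 U hU e) 1 (jAdd E 𝒮.toQCAlg j U e') (hj.2 U hU e'))) •
        rF L (h.trans (le_g p g r hr (WW_le E 𝒮 j p chart U hU e))) (sb g E L s U e) :=
      h1'.symm.trans h2'
    exact TensH8.IsGen.coef_ext hgen h3

include hj hP hO1 hφ hν hν' in
/-- **Uniqueness**: two morphisms to `P(E)` over `Y` carrying compatible `ν`'s with invertible
adjoints coincide. -/
theorem eq_of_nu (hO1inv : PicF.IsInvertible O1)
    [IsIso (((Scheme.Modules.pullbackPushforwardAdjunction r).homEquiv O1 L).symm ν)]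
    [IsIso (((Scheme.Modules.pullbackPushforwardAdjunction r').homEquiv O1 L).symm ν')] :
    r = r' := by
  apply Scheme.hom_ext_of_forall
  intro x
  obtain ⟨U, hU, hxU, -⟩ := Opens.isBasis_iff_nbhd.mp Y.isBasis_affineOpens
    (Opens.mem_top (g x))
  have hUa : IsAffineOpen U := hU
  have hrx : r x ∈ p ⁻¹ᵁ U := by
    have h1 : g x ∈ U := hxU
    rw [← hr] at h1
    exact h1
  obtain ⟨e, he⟩ := exists_mem_WW E 𝒮 j hj p chart U hUa (r x) hrx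
  have g1 := isGen_sb E 𝒮 j hj p chart O1 lam hO1 φ hφ g L s r hr ν hν hO1inv U hUa e
  have h2 : r' x ∈ WW E 𝒮 j p chart U hUa e :=
    mem_WW_of_isGen E 𝒮 j hj p chart O1 lam hO1 φ hφ g L s r' hr' ν' hν' hO1inv U hUa e x
      (r ⁻¹ᵁ (WW E 𝒮 j p chart U hUa e)) he (le_g p g r hr (WW_le E 𝒮 j p chart U hUa e)) g1
  refine ⟨r ⁻¹ᵁ (WW E 𝒮 j p chart U hUa e) ⊓ r' ⁻¹ᵁ (WW E 𝒮 j p chart U hUa e), ⟨he, h2⟩, ?_⟩
  refine ι_comp_eq_of_appLE r r' (WW E 𝒮 j p chart U hUa e)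
    (isAffineOpen_WW E 𝒮 j hj p chart U hUa e) _ inf_le_left inf_le_right (fun c => ?_)
  have g2 := g1.res (inf_le_left : r ⁻¹ᵁ (WW E 𝒮 j p chart U hUa e) ⊓
    r' ⁻¹ᵁ (WW E 𝒮 j p chart U hUa e) ≤ r ⁻¹ᵁ (WW E 𝒮 j p chart U hUa e))
  rw [rF_rF] at g2
  exact appLE_eq_of_nu E 𝒮 j hj p chart hP O1 lam hO1 φ hφ g L s r r' hr hr' ν hν ν' hν' U hUa e _
    inf_le_left inf_le_right g2 c

end Groth.Agent.UPB
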