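import Mathlib
import Groth.Prelude.Def_OmegaPn

/-!
# Basic facts on sheaves of principal parts (helper6)
-/

set_option autoImplicit false
universe u
open CategoryTheory CategoryTheory.Limits AlgebraicGeometry TopologicalSpace Opposite

namespace Groth.Agent.Lib.PrinPart1H6

open Scheme.Modules

/-- Pushforward of modules along an isomorphism of schemes is an equivalence. -/
noncomputable def pushforwardEquiv {X Y : Scheme.{u}} (h : X ⟶ Y) [IsIso h] :
    X.Modules ≌ Y.Modules :=
  CategoryTheory.Equivalence.mk (pushforward h) (pushforward (inv h))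
    ((pushforwardId X).symm ≪≫ pushforwardCongr (IsIso.hom_inv_id h).symm ≪≫
      (pushforwardComp h (inv h)).symm)
    (pushforwardComp (inv h) h ≪≫ pushforwardCongr (IsIso.inv_hom_id h) ≪≫ pushforwardId Y)

instance {X Y : Scheme.{u}} (h : X ⟶ Y) [IsIso h] : (pushforward h).IsEquivalence :=
  inferInstanceAs ((pushforwardEquiv h).functor.IsEquivalence)

theorem isIso_unit_app {X Y : Scheme.{u}} (h : X ⟶ Y) [IsIso h] (M : Y.Modules) :
    IsIso ((pullbackPushforwardAdjunction h).unit.app M) := inferInstance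

theorem pullSect_bijective {X Y : Scheme.{u}} (h : X ⟶ Y) [IsIso h] (M : Y.Modules)
    (U : Y.Opens) : Function.Bijective (OmegaSh.pullSect h M U) := by
  haveI := isIso_unit_app h M
  have : IsIso (OmegaSh.pullSect h M U) :=
    Scheme.Modules.Hom.isIso_iff_isIso_app.mp (isIso_unit_app h M) U
  exact ConcreteCategory.bijective_of_isIso _

theorem isIso_inclusion_of_eq {X : Scheme.{u}} {I J : X.IdealSheafData} (h : I ≤ J) (h' : J ≤ I) :
    IsIso (Scheme.IdealSheafData.inclusion h) :=
  ⟨⟨Scheme.IdealSheafData.inclusion h', by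
    rw [Scheme.IdealSheafData.inclusion_comp, Scheme.IdealSheafData.inclusion_id], by
    rw [Scheme.IdealSheafData.inclusion_comp, Scheme.IdealSheafData.inclusion_id]⟩⟩

theorem isIso_toInfNbhd_zero {X Y : Scheme.{u}} (i : Y ⟶ X) [IsClosedImmersion i] :
    IsIso (PrinPart.toInfNbhd i 0) := by
  unfold PrinPart.toInfNbhd
  haveI : IsIso (Scheme.IdealSheafData.inclusion (PrinPart.ker_pow_succ_le i 0)) :=
    isIso_inclusion_of_eq _ (by rw [zero_add, pow_one])
  infer_instance

variable {X S : Scheme.{u}} (f : X ⟶ S)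

theorem isIso_toNbhd_zero : IsIso (PrinPart.toNbhd f 0) :=
  isIso_toInfNbhd_zero (PrinPart.diagCl f)

theorem pr2_zero_eq : PrinPart.pr2 f 0 = @inv _ _ _ _ (PrinPart.toNbhd f 0) (isIso_toNbhd_zero f) := by
  haveI := isIso_toNbhd_zero f
  rw [← cancel_epi (PrinPart.toNbhd f 0), PrinPart.toNbhd_pr2, IsIso.hom_inv_id]

theorem pr1_zero_eq : PrinPart.pr1 f 0 = @inv _ _ _ _ (PrinPart.toNbhd f 0) (isIso_toNbhd_zero f) := by
  haveI := isIso_toNbhd_zero f
  rw [← cancel_epi (PrinPart.toNbhd f 0), PrinPart.toNbhd_pr1, IsIso.hom_inv_id]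

theorem pr1_zero_eq_pr2_zero : PrinPart.pr1 f 0 = PrinPart.pr2 f 0 := by
  rw [pr1_zero_eq, pr2_zero_eq]

theorem isIso_pr2_zero : IsIso (PrinPart.pr2 f 0) := by
  haveI := isIso_toNbhd_zero f
  rw [pr2_zero_eq]
  infer_instance

/-- `d^0` is bijective on sections. -/
theorem dP_zero_bijective (F : X.Modules) (U : X.Opens) :
    Function.Bijective (PrinPart.dP f 0 F U) := by
  haveI := isIso_pr2_zero f
  have h1 := pullSect_bijective (PrinPart.pr2 f 0) F U
  have h2 : Function.Bijective (((Scheme.Modules.pullback (PrinPart.pr2 f 0)).obj F).presheaf.map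
      (homOfLE (PrinPart.preimage_pr1 f 0 U).le).op) := by
    haveI : IsIso (homOfLE (PrinPart.preimage_pr1 f 0 U).le) :=
      ⟨⟨homOfLE (PrinPart.preimage_pr1 f 0 U).ge, rfl, rfl⟩⟩
    exact ConcreteCategory.bijective_of_isIso _
  exact h2.comp h1

end Groth.Agent.Lib.PrinPart1H6
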