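import Mathlib
import Groth.Prelude
import Groth.Agent.Lib.UPB7_helper5
import Groth.Agent.Lib.QCohExact_helper9

/-!
# `HCompat` for `r` with `p_L ≫ r = Proj(u)`  (helper5).  APPEND-ONLY once landed.
-/

set_option autoImplicit false
universe u
open CategoryTheory CategoryTheory.Limits AlgebraicGeometry TopologicalSpace Opposite
open scoped HomogeneousIdeal

noncomputable section

namespace Groth.Agent.UPB

open QcqsLoc QCohExtn Groth.Agent.GrTw Groth.Agent.RelProjTN Groth.Agent.SymSum Groth.Agent.SymGr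
  GenLocH8

variable {Y P : Scheme.{u}} (E : Y.Modules) [E.IsQuasicoherent]
  (𝒮 : RelProj.QCGrAlg Y) (j : E ⟶ 𝒮.toModule) (hj : RelProj.IsGrSymAlg E 𝒮 j) (p : P ⟶ Y)
  (chart : ∀ (U : Y.Opens) (hU : IsAffineOpen U),
    (((p ⁻¹ᵁ U : P.Opens) : Scheme.{u}) ≅ Proj (𝒮.deg U hU)))
  (O1 : P.Modules)
  (lam : ∀ (U : Y.Opens) (hU : IsAffineOpen U),
    O1 ⟶ (Scheme.Modules.pushforward (RelProj.emb p chart U hU)).obj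
      (GrTwist.twist (𝒮.deg U hU) 1))
  (φ : E ⟶ (Scheme.Modules.pushforward p).obj O1)
  (hφ : ∀ (U : Y.Opens) (hU : IsAffineOpen U) (e : Γ(E, U))
    (y : ↥(RelProj.emb p chart U hU ⁻¹ᵁ (p ⁻¹ᵁ U))),
    GrTwist.val (V := RelProj.emb p chart U hU ⁻¹ᵁ (p ⁻¹ᵁ U))
        ((lam U hU).app (p ⁻¹ᵁ U) ((φ.app U) e)) y =
      algebraMap (𝒮.presheaf.obj (op U)) (GrTwist.Loc (𝒮.deg U hU) y.1)
        ((j.app U) e : 𝒮.presheaf.obj (op U)))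
  {X PL : Scheme.{u}} (g : X ⟶ Y) (L : X.Modules) [L.IsQuasicoherent]
  (s : (Scheme.Modules.pullback g).obj E ⟶ L) [Epi s]
  (𝒮L : RelProj.QCGrAlg X) (jL : L ⟶ 𝒮L.toModule) (hjL : RelProj.IsGrSymAlg L 𝒮L jL)
  (pL : PL ⟶ X)
  (chartL : ∀ (V : X.Opens) (hV : IsAffineOpen V),
    (((pL ⁻¹ᵁ V : PL.Opens) : Scheme.{u}) ≅ Proj (𝒮L.deg V hV)))
  (O1L : PL.Modules)
  (lamL : ∀ (V : X.Opens) (hV : IsAffineOpen V),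
    O1L ⟶ (Scheme.Modules.pushforward (RelProj.emb pL chartL V hV)).obj
      (GrTwist.twist (𝒮L.deg V hV) 1))
  (hO1L : RelProj.IsRelTwist 𝒮L pL chartL 1 O1L lamL)
  (φL : L ⟶ (Scheme.Modules.pushforward pL).obj O1L)
  (hφL : ∀ (V : X.Opens) (hV : IsAffineOpen V) (t : Γ(L, V))
    (y : ↥(RelProj.emb pL chartL V hV ⁻¹ᵁ (pL ⁻¹ᵁ V))),
    GrTwist.val (V := RelProj.emb pL chartL V hV ⁻¹ᵁ (pL ⁻¹ᵁ V))
        ((lamL V hV).app (pL ⁻¹ᵁ V) ((φL.app V) t)) y =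
      algebraMap (𝒮L.presheaf.obj (op V)) (GrTwist.Loc (𝒮L.deg V hV) y.1)
        ((jL.app V) t : 𝒮L.presheaf.obj (op V)))
  (r : X ⟶ P) (hr : r ≫ p = g)
  (hr₀ : RelProj.IsProjQMap (uOf g E 𝒮 j hj 𝒮L L jL hjL s) p chart pL chartL (pL ≫ r))

include hφ hφL hO1L hr₀ in
/-- **`HCompat` holds for `r` as soon as `p_L ≫ r` is `Proj(u)`** (and `φ_L` is injective). -/
theorem hcompat_of_isProjQMap [Mono φL] : HCompat E p O1 φ g L s r hr := by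
  intro U hU e e' W hW c hc
  apply eq_of_cover
  intro x hx
  have hxg : x ∈ g ⁻¹ᵁ U := le_g p g r hr hW hx
  obtain ⟨V, hV, hxV, hVle⟩ := Opens.isBasis_iff_nbhd.mp X.isBasis_affineOpens hxg
  have hVa : IsAffineOpen V := hV
  refine ⟨r ⁻¹ᵁ W ⊓ V, inf_le_left, ⟨hx, hxV⟩, ?_⟩
  apply QCohExact.app_injective_of_mono φL (r ⁻¹ᵁ W ⊓ V)
  have e1 : ∀ e₁ : Γ(E, U), rF L (inf_le_left : r ⁻¹ᵁ W ⊓ V ≤ r ⁻¹ᵁ W)
      (rF L (le_g p g r hr hW) (sb g E L s U e₁)) =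
      rF L (inf_le_right : r ⁻¹ᵁ W ⊓ V ≤ V) (QCohExtn.ap s V (PBH8.cUV g E hVle e₁)) := by
    intro e₁
    rw [rF_rF, ← rF_sb g E L s hVle, rF_rF]
  have hW'' : pL ⁻¹ᵁ (r ⁻¹ᵁ W ⊓ V) ≤ (pL ≫ r) ⁻¹ᵁ W ⊓ pL ⁻¹ᵁ V := fun z hz => ⟨hz.1, hz.2⟩
  have e2 : ∀ e₁ : Γ(E, U), QCohExtn.ap φL (r ⁻¹ᵁ W ⊓ V)
      (rF L (inf_le_right : r ⁻¹ᵁ W ⊓ V ≤ V) (QCohExtn.ap s V (PBH8.cUV g E hVle e₁))) =
      (show Γ((Scheme.Modules.pushforward pL).obj O1L, r ⁻¹ᵁ W ⊓ V) from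
        rF O1L hW'' (rF O1L (inf_le_right : (pL ≫ r) ⁻¹ᵁ W ⊓ pL ⁻¹ᵁ V ≤ pL ⁻¹ᵁ V)
          (phiLs E g L s pL O1L φL U V hVle e₁))) := by
    intro e₁
    rw [ap_rF]
    show rF O1L (pL.preimage_mono (inf_le_right : r ⁻¹ᵁ W ⊓ V ≤ V)) _ = _
    rw [rF_rF]
  have h3 := hcompat_loc E 𝒮 j hj p chart O1 lam φ hφ g L s 𝒮L jL hjL pL chartL O1L lamL hO1L φL
    hφL (pL ≫ r) hr₀ U hU e e' V hVa hVle W hW c hc
  have h4 := congrArg (rF O1L hW'') h3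
  rw [rF_smul, rX_rX] at h4
  show QCohExtn.ap φL (r ⁻¹ᵁ W ⊓ V) _ = QCohExtn.ap φL (r ⁻¹ᵁ W ⊓ V) _
  rw [e1 e, e2 e, rF_smul, e1 e', ap_smul, e2 e']
  refine h4.trans ?_
  change rX _ (((pL ≫ r).app W).hom c) • rF O1L hW'' _ =
    (pL.app (r ⁻¹ᵁ W ⊓ V)).hom (rX _ ((r.app W).hom c)) • rF O1L hW'' _
  congr 1
  have h5 : ((pL ≫ r).app W).hom c = (pL.app (r ⁻¹ᵁ W)).hom ((r.app W).hom c) := by
    rw [Scheme.Hom.comp_app]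
    rfl
  rw [h5]
  exact (congrArg (fun t => t.hom ((r.app W).hom c))
    (pL.naturality (homOfLE (inf_le_left : r ⁻¹ᵁ W ⊓ V ≤ r ⁻¹ᵁ W)).op)).symm

end Groth.Agent.UPB
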