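import Mathlib
import Groth.Prelude
import Groth.Agent.Lib.UPB6_helper5
import Groth.Agent.Lib.UPB8_helper5
import Groth.Agent.Lib.PBundle1_helper5
import Groth.Agent.Lib.PrinPart1_helper6
import Groth.Agent.Lib.ProjQBC1_helper5

/-!
# Existence part of the universal property of `P(E)`  (helper5).  APPEND-ONLY once landed.
-/

set_option autoImplicit false
universe u
open CategoryTheory AlgebraicGeometry TopologicalSpace Opposite
open scoped HomogeneousIdeal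

noncomputable section

namespace Groth.Agent.UPB

open QcqsLoc QCohExtn GenLocH8 Scheme.Modules

variable {Y P : Scheme.{u}} (E : Y.Modules) [E.IsQuasicoherent]
  (𝒮 : RelProj.QCGrAlg Y) (j : E ⟶ 𝒮.toModule) (hj : RelProj.IsGrSymAlg E 𝒮 j) (p : P ⟶ Y)
  (chart : ∀ (U : Y.Opens) (hU : IsAffineOpen U),
    (((p ⁻¹ᵁ U : P.Opens) : Scheme.{u}) ≅ Proj (𝒮.deg U hU)))
  (hP : RelProj.IsRelProj 𝒮 p chart)
  (O1 : P.Modules)
  (lam : ∀ (U : Y.Opens) (hU : IsAffineOpen U),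
    O1 ⟶ (Scheme.Modules.pushforward (RelProj.emb p chart U hU)).obj
      (GrTwist.twist (𝒮.deg U hU) 1))
  (hO1 : RelProj.IsRelTwist 𝒮 p chart 1 O1 lam)
  (φ : E ⟶ (Scheme.Modules.pushforward p).obj O1)
  (hφ : ∀ (U : Y.Opens) (hU : IsAffineOpen U) (e : Γ(E, U))
    (y : ↥(RelProj.emb p chart U hU ⁻¹ᵁ (p ⁻¹ᵁ U))),
    GrTwist.val (V := RelProj.emb p chart U hU ⁻¹ᵁ (p ⁻¹ᵁ U))
        ((lam U hU).app (p ⁻¹ᵁ U) ((φ.app U) e)) y =
      algebraMap (𝒮.presheaf.obj (op U)) (GrTwist.Loc (𝒮.deg U hU) y.1)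
        ((j.app U) e : 𝒮.presheaf.obj (op U)))
  {X : Scheme.{u}} (g : X ⟶ Y) (L : X.Modules) (hL : PicF.IsInvertible L)
  (s : (Scheme.Modules.pullback g).obj E ⟶ L)

include hj hP hO1 hφ hL in
/-- **Existence** in the universal property of `P(E)`. -/
theorem exists_r_tau [Epi s] :
    ∃ (r : X ⟶ P) (hr : r ≫ p = g) (τ : (pullback r).obj O1 ≅ L),
      (pullbackCongr hr).inv.app E ≫ (pullbackComp r p).inv.app E ≫
        (pullback r).map (((pullbackPushforwardAdjunction p).homEquiv E O1).symm φ) ≫ τ.hom = s := by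
  haveI hq : L.IsQuasicoherent := TensH8.isQuasicoherent_of_isInvertible hL
  obtain ⟨𝒮L, jL, hjL, PL, pL, chartL, hPL, O1L, lamL, hO1L, φL, hφL, hinvL, hepiL⟩ :=
    Groth.Agent.PBundle.exists_projBundle L
  haveI : IsIso pL := Groth.Agent.SymInv.isIso_pL L 𝒮L jL hL hjL hPL
  haveI := hepiL
  haveI hisoa : IsIso (((pullbackPushforwardAdjunction pL).homEquiv L O1L).symm φL) :=
    Groth.Agent.InvEpi.isIso_of_epi (TensH8.isInvertible_pullback pL hL) hinvL _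
  haveI : IsIso φL := by
    have h1 : φL = (pullbackPushforwardAdjunction pL).unit.app L ≫
        (pushforward pL).map (((pullbackPushforwardAdjunction pL).homEquiv L O1L).symm φL) :=
      (Equiv.apply_symm_apply _ φL).symm.trans (Adjunction.homEquiv_unit _ _ _ _)
    haveI := Groth.Agent.Lib.PrinPart1H6.isIso_unit_app pL L
    rw [h1]
    infer_instance
  have hirr := fun U hU V hV hle =>
    irrelevant_le_map_of_epi g E 𝒮 j hj 𝒮L L jL hjL s U hU V hV hle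
  have hdom := domQ_eq_top_of_hirr (p' := pL) (chart' := chartL)
    (uOf g E 𝒮 j hj 𝒮L L jL hjL s) hirr
  obtain ⟨r₀, hr₀⟩ := Groth.Agent.ProjQBC.exists_isProjQMap
    (uOf g E 𝒮 j hj 𝒮L L jL hjL s) hP hPL hdom
  have h0 : pL ≫ (inv pL ≫ r₀) = r₀ := IsIso.hom_inv_id_assoc pL r₀
  have hr₀' : RelProj.IsProjQMap (uOf g E 𝒮 j hj 𝒮L L jL hjL s) p chart pL chartL
      (pL ≫ (inv pL ≫ r₀)) := h0.symm ▸ hr₀
  have hr : (inv pL ≫ r₀) ≫ p = g := by
    have h1 := Groth.Agent.ProjQBC.isProjQMap_comm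
      (uOf g E 𝒮 j hj 𝒮L L jL hjL s) hP hPL r₀ hr₀
    rw [Category.assoc, h1, IsIso.inv_hom_id_assoc]
  have H := hcompat_of_isProjQMap E 𝒮 j hj p chart O1 lam φ hφ g L s 𝒮L jL hjL pL chartL O1L lamL
    hO1L φL hφL (inv pL ≫ r₀) hr hr₀'
  obtain ⟨ν, hν⟩ := exists_nu E 𝒮 j hj p chart O1 lam hO1 φ hφ g L s (inv pL ≫ r₀) hr H
  obtain ⟨τ, hτ⟩ := exists_tau_of_nu E 𝒮 j hj p chart O1 lam hO1 φ g L s (inv pL ≫ r₀) hr hL ν hν
  exact ⟨inv pL ≫ r₀, hr, τ, hτ⟩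

end Groth.Agent.UPB
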