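import Mathlib
import Groth.Prelude
import Groth.Agent.Lib.UPB9_helper5
import Groth.Agent.Lib.UPB13_helper5

/-!
# Uniqueness wrapper for the universal property of `P(E)`, and: any compatible `r : X ⟶ P(E)` is
`Proj` of the graded morphism `Sym(E) ⟶ g_* Sym(L)`  (helper5).  APPEND-ONLY once landed.
-/

set_option autoImplicit false
universe u
open CategoryTheory AlgebraicGeometry TopologicalSpace Opposite
open scoped HomogeneousIdeal

noncomputable section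

namespace Groth.Agent.UPB

open QcqsLoc QCohExtn GenLocH8 Scheme.Modules

variable {Y P : Scheme.{u}} (E : Y.Modules) [E.IsQuasicoherent]
  (𝒮 : RelProj.QCGrAlg Y) (j : E ⟶ 𝒮.toModule) (hj : RelProj.IsGrSymAlg E 𝒮 j) (p : P ⟶ Y)
  (chart : ∀ (U : Y.Opens) (hU : IsAffineOpen U),
    (((p ⁻¹ᵁ U : P.Opens) : Scheme.{u}) ≅ Proj (𝒮.deg U hU)))
  (hP : RelProj.IsRelProj 𝒮 p chart)
  (O1 : P.Modules)
  (lam : ∀ (U : Y.Opens) (hU : IsAffineOpen U),
    O1 ⟶ (Scheme.Modules.pushforward (RelProj.emb p chart U hU)).obj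
      (GrTwist.twist (𝒮.deg U hU) 1))
  (hO1 : RelProj.IsRelTwist 𝒮 p chart 1 O1 lam)
  (φ : E ⟶ (Scheme.Modules.pushforward p).obj O1)
  (hφ : ∀ (U : Y.Opens) (hU : IsAffineOpen U) (e : Γ(E, U))
    (y : ↥(RelProj.emb p chart U hU ⁻¹ᵁ (p ⁻¹ᵁ U))),
    GrTwist.val (V := RelProj.emb p chart U hU ⁻¹ᵁ (p ⁻¹ᵁ U))
        ((lam U hU).app (p ⁻¹ᵁ U) ((φ.app U) e)) y =
      algebraMap (𝒮.presheaf.obj (op U)) (GrTwist.Loc (𝒮.deg U hU) y.1)
        ((j.app U) e : 𝒮.presheaf.obj (op U)))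
  {X : Scheme.{u}} (g : X ⟶ Y) (L : X.Modules)
  (s : (Scheme.Modules.pullback g).obj E ⟶ L)

include hj hP hO1 hφ in
/-- **Uniqueness** in the universal property of `P(E)`. -/
theorem eq_of_compat (r r' : X ⟶ P) (hr : r ≫ p = g) (hr' : r' ≫ p = g)
    (τ : (pullback r).obj O1 ≅ L)
    (hτ : (pullbackCongr hr).inv.app E ≫ (pullbackComp r p).inv.app E ≫
      (pullback r).map (((pullbackPushforwardAdjunction p).homEquiv E O1).symm φ) ≫ τ.hom = s)
    (τ' : (pullback r').obj O1 ≅ L)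
    (hτ' : (pullbackCongr hr').inv.app E ≫ (pullbackComp r' p).inv.app E ≫
      (pullback r').map (((pullbackPushforwardAdjunction p).homEquiv E O1).symm φ) ≫ τ'.hom = s) :
    r = r' := by
  have hO1inv : PicF.IsInvertible O1 :=
    Groth.Agent.VAmpEpi.isInvertible_O1 𝒮 p chart E j hj 1 (by norm_num) O1 lam hO1
  have hν := nu_of_tau E p O1 φ g L s r hr τ.hom hτ
  have hν' := nu_of_tau E p O1 φ g L s r' hr' τ'.hom hτ'
  haveI : IsIso (((pullbackPushforwardAdjunction r).homEquiv O1 L).symm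
      ((pullbackPushforwardAdjunction r).homEquiv O1 L τ.hom)) := by
    rw [Equiv.symm_apply_apply]; infer_instance
  haveI : IsIso (((pullbackPushforwardAdjunction r').homEquiv O1 L).symm
      ((pullbackPushforwardAdjunction r').homEquiv O1 L τ'.hom)) := by
    rw [Equiv.symm_apply_apply]; infer_instance
  exact eq_of_nu E 𝒮 j hj p chart hP O1 lam hO1 φ hφ g L s r r' hr hr' _ hν _ hν' hO1inv

variable (hL : PicF.IsInvertible L) [L.IsQuasicoherent] {PL : Scheme.{u}}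
  (𝒮L : RelProj.QCGrAlg X) (jL : L ⟶ 𝒮L.toModule) (hjL : RelProj.IsGrSymAlg L 𝒮L jL)
  (pL : PL ⟶ X)
  (chartL : ∀ (V : X.Opens) (hV : IsAffineOpen V),
    (((pL ⁻¹ᵁ V : PL.Opens) : Scheme.{u}) ≅ Proj (𝒮L.deg V hV)))
  (hPL : RelProj.IsRelProj 𝒮L pL chartL)

include hj hP hO1 hφ hL hPL in
/-- **A compatible `r : X ⟶ P(E)` is `Proj` of `Sym(E) ⟶ g_* Sym(L)`**, read on `P(L) ≅ X`. -/
theorem isProjQMap_of_compat [Epi s] (r : X ⟶ P) (hr : r ≫ p = g)
    (τ : (pullback r).obj O1 ≅ L)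
    (hτ : (pullbackCongr hr).inv.app E ≫ (pullbackComp r p).inv.app E ≫
      (pullback r).map (((pullbackPushforwardAdjunction p).homEquiv E O1).symm φ) ≫ τ.hom = s) :
    RelProj.IsProjQMap (uOf g E 𝒮 j hj 𝒮L L jL hjL s) p chart pL chartL (pL ≫ r) := by
  have hO1L := Groth.Agent.RelTwEx.isRelTwist_relTwist hPL 1
  obtain ⟨φL, hφL⟩ := Groth.Agent.CanPhi.exists_canPhi hPL hO1L jL hjL.2
  have hinvL : PicF.IsInvertible (Groth.Agent.RelTwEx.relTwist hPL 1) :=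
    Groth.Agent.VAmpEpi.isInvertible_O1 𝒮L pL chartL L jL hjL 1 (by norm_num) _ _ hO1L
  haveI hepiL : Epi (((pullbackPushforwardAdjunction pL).homEquiv L _).symm φL) :=
    Groth.Agent.PBEpi.epi_adj 𝒮L pL chartL L jL hjL 1 (by norm_num) _ _ hO1L φL hφL
  haveI : IsIso pL := Groth.Agent.SymInv.isIso_pL L 𝒮L jL hL hjL hPL
  haveI hisoa : IsIso (((pullbackPushforwardAdjunction pL).homEquiv L _).symm φL) :=
    Groth.Agent.InvEpi.isIso_of_epi (TensH8.isInvertible_pullback pL hL) hinvL _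
  haveI : IsIso φL := by
    have h1 : φL = (pullbackPushforwardAdjunction pL).unit.app L ≫
        (pushforward pL).map (((pullbackPushforwardAdjunction pL).homEquiv L _).symm φL) :=
      (Equiv.apply_symm_apply _ φL).symm.trans (Adjunction.homEquiv_unit _ _ _ _)
    haveI := Groth.Agent.Lib.PrinPart1H6.isIso_unit_app pL L
    rw [h1]
    infer_instance
  have hirr := fun U hU V hV hle =>
    irrelevant_le_map_of_epi g E 𝒮 j hj 𝒮L L jL hjL s U hU V hV hle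
  have hdom := domQ_eq_top_of_hirr (p' := pL) (chart' := chartL)
    (uOf g E 𝒮 j hj 𝒮L L jL hjL s) hirr
  obtain ⟨r₀, hr₀⟩ := Groth.Agent.ProjQBC.exists_isProjQMap
    (uOf g E 𝒮 j hj 𝒮L L jL hjL s) hP hPL hdom
  have h0 : pL ≫ (inv pL ≫ r₀) = r₀ := IsIso.hom_inv_id_assoc pL r₀
  have hr₀' : RelProj.IsProjQMap (uOf g E 𝒮 j hj 𝒮L L jL hjL s) p chart pL chartL
      (pL ≫ (inv pL ≫ r₀)) := h0.symm ▸ hr₀
  have hr1 : (inv pL ≫ r₀) ≫ p = g := by
    have h1 := Groth.Agent.ProjQBC.isProjQMap_comm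
      (uOf g E 𝒮 j hj 𝒮L L jL hjL s) hP hPL r₀ hr₀
    rw [Category.assoc, h1, IsIso.inv_hom_id_assoc]
  have H := hcompat_of_isProjQMap E 𝒮 j hj p chart O1 lam φ hφ g L s 𝒮L jL hjL pL chartL _ _
    hO1L φL hφL (inv pL ≫ r₀) hr1 hr₀'
  obtain ⟨ν, hν⟩ := exists_nu E 𝒮 j hj p chart O1 lam hO1 φ hφ g L s (inv pL ≫ r₀) hr1 H
  obtain ⟨τ₁, hτ₁⟩ := exists_tau_of_nu E 𝒮 j hj p chart O1 lam hO1 φ g L s (inv pL ≫ r₀) hr1 hL ν hν
  have heq : r = inv pL ≫ r₀ :=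
    eq_of_compat E 𝒮 j hj p chart hP O1 lam hO1 φ hφ g L s r (inv pL ≫ r₀) hr hr1 τ hτ τ₁ hτ₁
  rw [heq]
  exact hr₀'

end Groth.Agent.UPB
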