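import Mathlib
import Groth.Prelude
import Groth.Agent.Lib.GrTwPull_helper5
import Groth.Agent.Lib.QcqsLoc_helper9
import Groth.Agent.Lib.QCohExtn_helper9
import Groth.Agent.Lib.SubExt_helper9

/-!
# Very ample is local on the base, part 1: restriction of a direct image to an open of the base
(helper5).  APPEND-ONLY once landed.

For `q : X ⟶ Y`, `V ⊆ Y` open, `ψ = V.ι`, `b = (q⁻¹V).ι`, `q_V = q ∣_ V`, `L` an `O_X`-module,
`E = q_* L`, `L_V = L|_{q⁻¹V}`: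

* `kap : E ⟶ ψ_* (q_V)_* L_V`, the restriction of sections;
* `lam : ψ^* E ≅ (q_V)_* L_V` with `lam (ψ^♯ e) = e |`.
-/

set_option autoImplicit false
universe u
open CategoryTheory AlgebraicGeometry TopologicalSpace Opposite

noncomputable section

namespace Groth.Agent.VALoc

open QcqsLoc QCohExtn Scheme.Modules

/-- A morphism of modules which is bijective on the sections over every open is an isomorphism. -/
theorem isIso_of_app_bijective {X : Scheme.{u}} {F G : X.Modules} (α : F ⟶ G)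
    (h : ∀ U : X.Opens, Function.Bijective (ap α U)) : IsIso α := by
  haveI : ∀ U : (X.Opens)ᵒᵖ, IsIso (α.mapPresheaf.app U) := fun U =>
    (ConcreteCategory.isIso_iff_bijective _).2 (h U.unop)
  haveI : IsIso α.mapPresheaf := NatIso.isIso_of_isIso_app _
  have h1 : IsIso ((Scheme.Modules.toPresheaf X).map α) := ‹IsIso α.mapPresheaf›
  rw [← isIso_iff_of_reflects_iso _ (Scheme.Modules.toPresheaf X)]
  exact h1

section Kap
variable {X Y : Scheme.{u}} (q : X ⟶ Y) (V : Y.Opens) (L : X.Modules)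

/-- `b''(q_V⁻¹(ψ⁻¹ U)) ≤ q⁻¹ U`. -/
theorem image_le (U : Y.Opens) :
    (q ⁻¹ᵁ V).ι ''ᵁ ((q ∣_ V) ⁻¹ᵁ (V.ι ⁻¹ᵁ U)) ≤ q ⁻¹ᵁ U := by
  rintro _ ⟨x, hx, rfl⟩
  have h1 : (V.ι.base ((q ∣_ V).base x)) ∈ U := hx
  have h2 : V.ι.base ((q ∣_ V).base x) = q.base ((q ⁻¹ᵁ V).ι.base x) := by
    have := congrArg (fun f => f.base x) (morphismRestrict_ι q V)
    simpa using this
  rw [h2] at h1
  exact h1

/-- The restriction of sections `q_* L ⟶ ψ_* (q_V)_* (L|_{q⁻¹V})`. -/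
def kap : (pushforward q).obj L ⟶
    (pushforward V.ι).obj ((pushforward (q ∣_ V)).obj (L.restrict (q ⁻¹ᵁ V).ι)) :=
  (pushforward q).map ((restrictAdjunction (q ⁻¹ᵁ V).ι).unit.app L) ≫
    (pushforwardComp (q ⁻¹ᵁ V).ι q).hom.app (L.restrict (q ⁻¹ᵁ V).ι) ≫
    (pushforwardCongr (morphismRestrict_ι q V).symm).hom.app (L.restrict (q ⁻¹ᵁ V).ι) ≫
    (pushforwardComp (q ∣_ V) V.ι).inv.app (L.restrict (q ⁻¹ᵁ V).ι)

theorem kap_app (U : Y.Opens) (e : Γ(L, q ⁻¹ᵁ U)) :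
    ap (kap q V L) U e = rF L (image_le q V U) e := by
  exact Groth.Agent.Lib.QCohLoc_helper4.map_map_eq L
    (homOfLE ((q ⁻¹ᵁ V).ι.image_preimage_le (q ⁻¹ᵁ U))).op _ (homOfLE (image_le q V U)).op e

/-- `b''(q_V⁻¹ W) ≤ q⁻¹(ψ'' W)` (an equality). -/
theorem image_le' (W : V.toScheme.Opens) :
    (q ⁻¹ᵁ V).ι ''ᵁ ((q ∣_ V) ⁻¹ᵁ W) ≤ q ⁻¹ᵁ (V.ι ''ᵁ W) :=
  (image_morphismRestrict_preimage q V W).le

/-- The comparison `(q_* L)|_V ⟶ (q_V)_* (L|_{q⁻¹V})`. -/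
def lam' : ((pushforward q).obj L).restrict V.ι ⟶
    (pushforward (q ∣_ V)).obj (L.restrict (q ⁻¹ᵁ V).ι) :=
  (restrictFunctor V.ι).map (kap q V L) ≫ (restrictAdjunction V.ι).counit.app _

theorem hmid (W : V.toScheme.Opens) : (q ⁻¹ᵁ V).ι ''ᵁ ((q ∣_ V) ⁻¹ᵁ W) ≤
    (q ⁻¹ᵁ V).ι ''ᵁ ((q ∣_ V) ⁻¹ᵁ (V.ι ⁻¹ᵁ (V.ι ''ᵁ W))) := by
  rw [V.ι.preimage_image_eq W]

theorem lam'_app (W : V.toScheme.Opens) (x : Γ(L, q ⁻¹ᵁ (V.ι ''ᵁ W))) :
    ap (lam' q V L) W x = rF L (image_le' q V W) x := by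
  have h1 : ap (lam' q V L) W x = ap ((restrictAdjunction V.ι).counit.app _) W
      (ap ((restrictFunctor V.ι).map (kap q V L)) W x) := rfl
  have h2 : ap ((restrictFunctor V.ι).map (kap q V L)) W x = ap (kap q V L) (V.ι ''ᵁ W) x := rfl
  rw [h1, h2, kap_app]
  have h3 : ∀ y, ap ((restrictAdjunction V.ι).counit.app
      ((pushforward (q ∣_ V)).obj (L.restrict (q ⁻¹ᵁ V).ι))) W y = rF L (hmid q V W) y := by
    intro y
    rfl
  rw [h3, rF_rF]

instance isIso_lam' : IsIso (lam' q V L) := by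
  apply isIso_of_app_bijective
  intro W
  have h : ⇑(ap (lam' q V L) W) = ⇑(rF L (image_le' q V W)) := funext (lam'_app q V L W)
  rw [h]
  exact SubExt.rF_bijective_of_eq L _ (image_morphismRestrict_preimage q V W)

/-- **The base change isomorphism** `ψ^* q_* L ≅ (q_V)_* (L|_{q⁻¹V})` for the open immersion
`ψ = V.ι`. -/
def lam : (pullback V.ι).obj ((pushforward q).obj L) ≅
    (pushforward (q ∣_ V)).obj (L.restrict (q ⁻¹ᵁ V).ι) :=
  (restrictFunctorIsoPullback V.ι).symm.app ((pushforward q).obj L) ≪≫ asIso (lam' q V L)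

/-- `lam` sends the pulled back section of `e` to the restriction of `e`. -/
theorem lam_cUV (U : Y.Opens) (e : Γ(L, q ⁻¹ᵁ U)) :
    ap (lam q V L).hom (V.ι ⁻¹ᵁ U) (PBH8.cUV V.ι ((pushforward q).obj L) le_rfl e) =
      rF L (image_le q V U) e := by
  have h0 : PBH8.cUV V.ι ((pushforward q).obj L) (le_rfl : V.ι ⁻¹ᵁ U ≤ V.ι ⁻¹ᵁ U) e =
      ((pullbackPushforwardAdjunction V.ι).unit.app ((pushforward q).obj L)).app U e := by
    unfold PBH8.cUV
    exact SubExt.rF_self _ _ _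
  have h1 := Adjunction.unit_leftAdjointUniq_hom_app (restrictAdjunction V.ι)
    (pullbackPushforwardAdjunction V.ι) ((pushforward q).obj L)
  have h2 : ((pullbackPushforwardAdjunction V.ι).unit.app ((pushforward q).obj L)).app U e =
      ap ((restrictFunctorIsoPullback V.ι).hom.app ((pushforward q).obj L)) (V.ι ⁻¹ᵁ U)
        (ap ((restrictAdjunction V.ι).unit.app ((pushforward q).obj L)) U e) := by
    rw [← h1]
    rfl
  rw [h0, h2]
  have h3 : ∀ z, ap (lam q V L).hom (V.ι ⁻¹ᵁ U)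
      (ap ((restrictFunctorIsoPullback V.ι).hom.app ((pushforward q).obj L)) (V.ι ⁻¹ᵁ U) z) =
      ap (lam' q V L) (V.ι ⁻¹ᵁ U) z := by
    intro z
    have h4 : (restrictFunctorIsoPullback V.ι).hom.app ((pushforward q).obj L) ≫ (lam q V L).hom =
        lam' q V L := by
      simp [lam]
    rw [← h4]
    rfl
  rw [h3, lam'_app]
  have h5 : ap ((restrictAdjunction V.ι).unit.app ((pushforward q).obj L)) U e =
      rF L ((q.preimage_mono (V.ι.image_preimage_le U)) :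
        q ⁻¹ᵁ (V.ι ''ᵁ (V.ι ⁻¹ᵁ U)) ≤ q ⁻¹ᵁ U) e := rfl
  rw [h5, rF_rF]

end Kap

end Groth.Agent.VALoc
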