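import Mathlib
import Groth.Prelude
import Groth.Agent.Lib.UPB17_helper5
import Groth.Agent.S12153

/-!
# Very ample ⟹ `r_{L,σ} : X ⟶ P(q_* L)` is everywhere defined and an immersion (EGA II 4.4.4, a ⟹ b)
(helper5).  APPEND-ONLY once landed.
-/

set_option autoImplicit false
universe u
open CategoryTheory AlgebraicGeometry TopologicalSpace Opposite
open scoped HomogeneousIdeal

noncomputable section

namespace Groth.Agent.VA44

open QcqsLoc QCohExtn GenLocH8 Scheme.Modules Groth.Agent.SymAlg Groth.Agent.SymSum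
  Groth.Agent.SymGr Groth.Agent.UPB Groth.Agent.SymQHom

section Ext
variable {Y : Scheme.{u}} (E : Y.Modules) [E.IsQuasicoherent]
  (𝒮 : RelProj.QCGrAlg Y) (j : E ⟶ 𝒮.toModule) (hj : RelProj.IsGrSymAlg E 𝒮 j)

include hj in
/-- Ring maps out of `Sym(E)(U)`, `U` affine, are determined by their values on the functions and
on `j(E(U))`. -/
theorem ringHom_ext_of_gen (U : Y.Opens) (hU : IsAffineOpen U) {R : Type*} [CommRing R]
    (f₁ f₂ : 𝒮.presheaf.obj (op U) →+* R)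
    (h₀ : ∀ a, f₁ ((𝒮.str.app (op U)).hom a) = f₂ ((𝒮.str.app (op U)).hom a))
    (h₁ : ∀ m : Γ(E, U), f₁ (jAdd E 𝒮.toQCAlg j U m) = f₂ (jAdd E 𝒮.toQCAlg j U m)) : f₁ = f₂ := by
  ext x
  obtain ⟨y, rfl⟩ := (symToA_bijective E 𝒮 j hj U hU).2 x
  induction y using SymmetricAlgebra.induction with
  | algebraMap r => rw [symToA_algebraMap]; exact h₀ r
  | ι m => rw [symToA_ι]; exact h₁ m
  | mul a b ha hb => rw [map_mul, map_mul, map_mul, ha, hb]
  | add a b ha hb => rw [map_add, map_add, map_add, ha, hb]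

variable {X : Scheme.{u}} (g : X ⟶ Y) (B : RelSpec.QCAlg X)

/-- Two families of maps `A(U) ⟶ B(g⁻¹U)`, natural in `U`, which agree on affine opens agree. -/
theorem app_ext_of_affine (A : RelSpec.QCAlg Y)
    (α β : ∀ U : Y.Opens, A.presheaf.obj (op U) ⟶ B.presheaf.obj (op (g ⁻¹ᵁ U)))
    (hα : ∀ {U V : Y.Opens} (i : V ≤ U),
      α U ≫ B.presheaf.map (homOfLE (g.preimage_mono i)).op = A.presheaf.map (homOfLE i).op ≫ α V)
    (hβ : ∀ {U V : Y.Opens} (i : V ≤ U),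
      β U ≫ B.presheaf.map (homOfLE (g.preimage_mono i)).op = A.presheaf.map (homOfLE i).op ≫ β V)
    (h : ∀ U : Y.Opens, IsAffineOpen U → α U = β U) (U : Y.Opens) : α U = β U := by
  let αN : A.presheaf ⟶ (pushB g B).1 :=
    { app := fun V => α V.unop
      naturality := fun V W i => (hα i.unop.le).symm }
  let βN : A.presheaf ⟶ (pushB g B).1 :=
    { app := fun V => β V.unop
      naturality := fun V W i => (hβ i.unop.le).symm }
  have h1 : αN = βN := hom_ext_affine' (pushB g B) αN βN (fun U hU => h U hU)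
  exact NatTrans.congr_app h1 (op U)

end Ext


section Main
variable {X Y P' PL P : Scheme.{u}} (q : X ⟶ Y) (L : X.Modules) (hL : PicF.IsInvertible L)
  [L.IsQuasicoherent]
  (E : Y.Modules) [E.IsQuasicoherent]
  (𝒮 : RelProj.QCGrAlg Y) (j : E ⟶ 𝒮.toModule) (hj : RelProj.IsGrSymAlg E 𝒮 j) (p' : P' ⟶ Y)
  (chart' : ∀ (U : Y.Opens) (hU : IsAffineOpen U),
    (((p' ⁻¹ᵁ U : P'.Opens) : Scheme.{u}) ≅ Proj (𝒮.deg U hU)))
  (hP' : RelProj.IsRelProj 𝒮 p' chart')
  (O1' : P'.Modules)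
  (lam' : ∀ (U : Y.Opens) (hU : IsAffineOpen U),
    O1' ⟶ (Scheme.Modules.pushforward (RelProj.emb p' chart' U hU)).obj
      (GrTwist.twist (𝒮.deg U hU) 1))
  (hO1' : RelProj.IsRelTwist 𝒮 p' chart' 1 O1' lam')
  (i : X ⟶ P') [IsImmersion i] (hip : i ≫ p' = q) (eL : L ≅ (pullback i).obj O1')
  (𝒮L : RelProj.QCGrAlg X) (jL : L ⟶ 𝒮L.toModule) (hjL : RelProj.IsGrSymAlg L 𝒮L jL)
  (pL : PL ⟶ X)
  (chartL : ∀ (V : X.Opens) (hV : IsAffineOpen V),
    (((pL ⁻¹ᵁ V : PL.Opens) : Scheme.{u}) ≅ Proj (𝒮L.deg V hV)))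
  (hPL : RelProj.IsRelProj 𝒮L pL chartL)
  (𝒜 : RelProj.QCGrAlg Y) (jE : (Scheme.Modules.pushforward q).obj L ⟶ 𝒜.toModule)
  (h𝒜 : RelProj.IsGrSymAlg ((Scheme.Modules.pushforward q).obj L) 𝒜 jE)
  (u : RelProj.QGrHom q 𝒜 𝒮L)
  (hu : ∀ (U : Y.Opens) (x : Γ((Scheme.Modules.pushforward q).obj L, U)),
    (u.app U).hom ((jE.app U) x) = (jL.app (q ⁻¹ᵁ U)) x)
  (p : P ⟶ Y) (chart : ∀ (U : Y.Opens) (hU : IsAffineOpen U),
    (((p ⁻¹ᵁ U : P.Opens) : Scheme.{u}) ≅ Proj (𝒜.deg U hU)))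
  (hP : RelProj.IsRelProj 𝒜 p chart)
  (r : ((RelProj.domQ u pL chartL : PL.Opens) : Scheme.{u}) ⟶ P)
  (hr : RelProj.IsProjQMapOn u p chart pL chartL (RelProj.domQ u pL chartL) r)

include hL hj hP' hO1' hip eL hjL hPL h𝒜 hu hP hr in
/-- **EGA II 4.4.4 (a ⟹ b)**: if `L ≅ i^* O(1)` for an immersion `i : X ⟶ P(E)` over `Y`, then
`r_{L,σ} : X ⟶ P(q_* L)` is everywhere defined and an immersion. -/
theorem domQ_eq_top_and_isImmersion : RelProj.domQ u pL chartL = ⊤ ∧ IsImmersion r := by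
  obtain ⟨φ', hφ'⟩ := Groth.Agent.CanPhi.exists_canPhi hP' hO1' j hj.2
  haveI hepi : Epi (((pullbackPushforwardAdjunction p').homEquiv E O1').symm φ') :=
    Groth.Agent.PBEpi.epi_adj 𝒮 p' chart' E j hj 1 (by norm_num) O1' lam' hO1' φ' hφ'
  haveI : Epi ((Scheme.Modules.pullback i).map
      (((pullbackPushforwardAdjunction p').homEquiv E O1').symm φ')) := inferInstance
  let s : (Scheme.Modules.pullback q).obj E ⟶ L :=
    (pullbackCongr hip).inv.app E ≫ (pullbackComp i p').inv.app E ≫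
      (Scheme.Modules.pullback i).map
        (((pullbackPushforwardAdjunction p').homEquiv E O1').symm φ') ≫ eL.inv
  haveI : Epi s := by
    show Epi ((pullbackCongr hip).inv.app E ≫ (pullbackComp i p').inv.app E ≫
      (Scheme.Modules.pullback i).map
        (((pullbackPushforwardAdjunction p').homEquiv E O1').symm φ') ≫ eL.inv)
    infer_instance
  have hA := isProjQMap_of_compat E 𝒮 j hj p' chart' hP' O1' lam' hO1' φ' hφ' q L s hL 𝒮L jL hjL pL
    chartL hPL i hip eL.symm rfl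
  -- the map `t : E ⟶ q_* L` and `v = Sym(t)`
  let t : E ⟶ (Scheme.Modules.pushforward q).obj L :=
    (pullbackPushforwardAdjunction q).homEquiv E L s
  have ht : ∀ (U : Y.Opens) (m : Γ(E, U)), QCohExtn.ap t U m = sb q E L s U m := by
    intro U m
    have h1 := Groth.Agent.GrTw.adj_symm_cUV q t U m
    rw [Equiv.symm_apply_apply] at h1
    exact h1.symm
  obtain ⟨v, hv, -⟩ := hj.1 𝒜.toQCAlg (t ≫ jE)
  have hvj : ∀ (U : Y.Opens) (m : Γ(E, U)),
      (v.hom.app (op U)).hom (jAdd E 𝒮.toQCAlg j U m) =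
        jAdd _ 𝒜.toQCAlg jE U (QCohExtn.ap t U m) := fun U m =>
    congrArg (fun f : E ⟶ 𝒜.toModule => jAdd E 𝒜.toQCAlg f U m) hv
  have hvstr : ∀ (U : Y.Opens) (a : Γ(Y, U)),
      (v.hom.app (op U)).hom ((𝒮.str.app (op U)).hom a) = (𝒜.str.app (op U)).hom a := by
    intro U a
    have h0 := NatTrans.congr_app v.comm (op U)
    rw [NatTrans.comp_app] at h0
    exact congrArg (fun ψ => ψ.hom a) h0
  have hvgr : RelProj.IsGradedHom v := by
    intro U hU d x hx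
    refine map_mem_of_gen_sch E 𝒮 j hj U hU (𝒜.deg U hU) (v.hom.app (op U)).hom
      (fun a => ?_) (fun m => ?_) d x hx
    · rw [hvstr]; exact 𝒜.str_mem U hU a
    · rw [hvj]; exact h𝒜.2 U hU _
  -- the composite
  have hu' : ∀ U : Y.Opens, (uOf q E 𝒮 j hj 𝒮L L jL hjL s).app U =
      v.hom.app (op U) ≫ u.app U := by
    refine app_ext_of_affine q 𝒮L.toQCAlg 𝒮.toQCAlg
      (fun U => (uOf q E 𝒮 j hj 𝒮L L jL hjL s).app U) (fun U => v.hom.app (op U) ≫ u.app U)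
      (fun i => (uOf q E 𝒮 j hj 𝒮L L jL hjL s).naturality i) (fun {U V} i => ?_) (fun U hU => ?_)
    · rw [Category.assoc, u.naturality i, ← Category.assoc, ← Category.assoc]
      congr 1
      exact (v.hom.naturality (homOfLE i).op).symm
    · refine CommRingCat.hom_ext (ringHom_ext_of_gen E 𝒮 j hj U hU _ _ (fun a => ?_) (fun m => ?_))
      · have h1 := congrArg (fun f => f.hom a)
          ((uOf q E 𝒮 j hj 𝒮L L jL hjL s).toQHom.str_app U)
        have h2 := congrArg (fun f => f.hom a) (u.toQHom.str_app U)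
        simp only [CommRingCat.hom_comp, RingHom.comp_apply] at h1 h2
        rw [CommRingCat.hom_comp, RingHom.comp_apply, hvstr]
        exact h1.trans h2.symm
      · have h1 := uOf_j q E 𝒮 j hj 𝒮L L jL hjL s U (q ⁻¹ᵁ U) le_rfl m
        have h1' : ((uOf q E 𝒮 j hj 𝒮L L jL hjL s).app U).hom (jAdd E 𝒮.toQCAlg j U m) =
            jAdd L 𝒮L.toQCAlg jL (q ⁻¹ᵁ U) (QCohExtn.ap s (q ⁻¹ᵁ U) (PBH8.cUV q E le_rfl m)) := by
          refine Eq.trans ?_ h1
          show _ = (𝒮L.presheaf.map (homOfLE (le_refl (q ⁻¹ᵁ U))).op).hom _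
          have : (homOfLE (le_refl (q ⁻¹ᵁ U))).op = 𝟙 (op (q ⁻¹ᵁ U)) := rfl
          rw [this, CategoryTheory.Functor.map_id]
          rfl
        rw [CommRingCat.hom_comp, RingHom.comp_apply, hvj U m]
        refine h1'.trans ?_
        have h2 := hu U (QCohExtn.ap t U m)
        refine Eq.trans ?_ h2.symm
        rw [ht U m]
        rfl
  have hr' := Groth.Agent.ConeFun.isProjQMapOn_of_isProjQMap
    (uOf q E 𝒮 j hj 𝒮L L jL hjL s) (pL ≫ i) hA
    (RelProj.domQ (uOf q E 𝒮 j hj 𝒮L L jL hjL s) pL chartL)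
  haveI : IsIso pL := Groth.Agent.SymInv.isIso_pL L 𝒮L jL hL hjL hPL
  have himm : IsImmersion ((RelProj.domQ (uOf q E 𝒮 j hj 𝒮L L jL hjL s) pL chartL).ι ≫ pL ≫ i) :=
    inferInstance
  exact Groth.Agent.S12153.result q L hL ‹L.IsQuasicoherent› 𝒜 𝒮L jL hjL u p chart hP pL chartL hPL
    r hr 𝒮 v hvgr (uOf q E 𝒮 j hj 𝒮L L jL hjL s) hu' p' chart' hP' _ hr' hA.1 himm

end Main

end Groth.Agent.VA44
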