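import Mathlib
import Groth.Prelude
import Groth.Agent.Lib.VA44_helper5
import Groth.Agent.Lib.QcqsLoc_helper9

/-!
# Very ample ⟹ an immersion `X ⟶ P(q_* L)` over `Y`  (helper5).  APPEND-ONLY once landed.
-/

set_option autoImplicit false
universe u
open CategoryTheory AlgebraicGeometry TopologicalSpace Opposite
open scoped HomogeneousIdeal

noncomputable section

namespace Groth.Agent.VA44

open QcqsLoc QCohExtn GenLocH8 Scheme.Modules Groth.Agent.SymAlg Groth.Agent.SymSum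
  Groth.Agent.SymGr Groth.Agent.UPB Groth.Agent.SymQHom

/-- **EGA II 4.4.4 (a ⟹ b), packaged**: if `L` is very ample relative to `q` and `q_* L` is
quasi-coherent, then `X` immerses over `Y` into (any model of) the projective bundle `P(q_* L)`. -/
theorem exists_immersion_pushforward {X Y P : Scheme.{u}} (q : X ⟶ Y) (L : X.Modules)
    (hL : PicF.IsInvertible L) (h : RelProj.IsRelVeryAmple q L)
    [((Scheme.Modules.pushforward q).obj L).IsQuasicoherent]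
    (𝒜 : RelProj.QCGrAlg Y) (jE : (Scheme.Modules.pushforward q).obj L ⟶ 𝒜.toModule)
    (h𝒜 : RelProj.IsGrSymAlg ((Scheme.Modules.pushforward q).obj L) 𝒜 jE)
    (p : P ⟶ Y) (chart : ∀ (U : Y.Opens) (hU : IsAffineOpen U),
      (((p ⁻¹ᵁ U : P.Opens) : Scheme.{u}) ≅ Proj (𝒜.deg U hU)))
    (hP : RelProj.IsRelProj 𝒜 p chart) :
    ∃ iF : X ⟶ P, IsImmersion iF ∧ iF ≫ p = q := by
  haveI hq : L.IsQuasicoherent := TensH8.isQuasicoherent_of_isInvertible hL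
  obtain ⟨E, hE, 𝒮, j, hj, P', p', chart', hP', O1', lam', hO1', i, hi, hip, ⟨eL⟩⟩ := h
  haveI : E.IsQuasicoherent := hE
  haveI := hi
  obtain ⟨𝒮L, jL, hjL, PL, pL, chartL, hPL, -, -, -, -, -, -, -⟩ :=
    Groth.Agent.PBundle.exists_projBundle L
  haveI : IsIso pL := Groth.Agent.SymInv.isIso_pL L 𝒮L jL hL hjL hPL
  -- the counit, as the adjoint of the identity
  let σ : (Scheme.Modules.pullback q).obj ((Scheme.Modules.pushforward q).obj L) ⟶ L :=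
    ((pullbackPushforwardAdjunction q).homEquiv _ L).symm (𝟙 _)
  have hu : ∀ (U : Y.Opens) (x : Γ((Scheme.Modules.pushforward q).obj L, U)),
      ((uOf q _ 𝒜 jE h𝒜 𝒮L L jL hjL σ).app U).hom ((jE.app U) x) = (jL.app (q ⁻¹ᵁ U)) x := by
    intro U x
    have h1 := uOf_j q _ 𝒜 jE h𝒜 𝒮L L jL hjL σ U (q ⁻¹ᵁ U) le_rfl x
    have h2 : QCohExtn.ap σ (q ⁻¹ᵁ U) (PBH8.cUV q _ le_rfl x) = x :=
      Groth.Agent.GrTw.adj_symm_cUV q (𝟙 ((Scheme.Modules.pushforward q).obj L)) U x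
    rw [h2] at h1
    refine Eq.trans ?_ h1
    show _ = (𝒮L.presheaf.map (homOfLE (le_refl (q ⁻¹ᵁ U))).op).hom _
    have : (homOfLE (le_refl (q ⁻¹ᵁ U))).op = 𝟙 (op (q ⁻¹ᵁ U)) := rfl
    rw [this, CategoryTheory.Functor.map_id]
    rfl
  obtain ⟨r, hr⟩ := Groth.Agent.ProjQ.exists_projQMapOn (uOf q _ 𝒜 jE h𝒜 𝒮L L jL hjL σ) hP hPL
  obtain ⟨hdom, himm⟩ := domQ_eq_top_and_isImmersion q L hL E 𝒮 j hj p' chart' hP' O1' lam' hO1' i
    hip eL 𝒮L jL hjL pL chartL hPL 𝒜 jE h𝒜 _ hu p chart hP r hr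
  haveI := himm
  haveI : IsIso (RelProj.domQ (uOf q _ 𝒜 jE h𝒜 𝒮L L jL hjL σ) pL chartL).ι :=
    Groth.Agent.SpecChart.isIso_ι_of_eq_top _ hdom
  refine ⟨inv pL ≫ inv (RelProj.domQ (uOf q _ 𝒜 jE h𝒜 𝒮L L jL hjL σ) pL chartL).ι ≫ r,
    inferInstance, ?_⟩
  have h3 := Groth.Agent.ProjQ.projQMapOn_comp_p (uOf q _ 𝒜 jE h𝒜 𝒮L L jL hjL σ) hP hPL r hr
  rw [Category.assoc, Category.assoc, h3, IsIso.inv_hom_id_assoc, IsIso.inv_hom_id_assoc]

end Groth.Agent.VA44
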