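import Mathlib
import Groth.Prelude
import Groth.Agent.Lib.VA44b_helper5
import Groth.Agent.Lib.UPB9_helper5
import Groth.Agent.Lib.ProjQ4_helper5
import Groth.Agent.Lib.ConeFun3_helper5

/-!
# Very ample is local on the base, part 2: EGA II 4.4.4 (a ⟹ b) in classifying form  (helper5)
APPEND-ONLY once landed.

* `isGrSymAlg_of_iso`, transport of the structure of symmetric algebra along an isomorphism of
  modules;
* `exists_classifying_immersion`: if `L` is very ample relative to `q` and `q_* L` is quasi-coherent,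
  the counit `σ : q^* q_* L ⟶ L` is an epimorphism and the morphism `X ⟶ P(q_* L)` classifying `σ` is
  an immersion;
* `exists_classifying_immersion_iso`: the same for a module `E₀ ≅ q_* L`.
-/

set_option autoImplicit false
universe u
open CategoryTheory AlgebraicGeometry TopologicalSpace Opposite
open scoped HomogeneousIdeal

noncomputable section

namespace Groth.Agent.VALoc

open QcqsLoc QCohExtn GenLocH8 Scheme.Modules Groth.Agent.UPB

section Transport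
variable {Y : Scheme.{u}} {E₁ E₂ : Y.Modules} (θ : E₁ ≅ E₂)
  (𝒮 : RelProj.QCGrAlg Y) (j : E₂ ⟶ 𝒮.toModule)

/-- The structure of graded symmetric algebra transported along an isomorphism of modules. -/
theorem isGrSymAlg_of_iso (hj : RelProj.IsGrSymAlg E₂ 𝒮 j) :
    RelProj.IsGrSymAlg E₁ 𝒮 (θ.hom ≫ j) := by
  refine ⟨fun B φ => ?_, fun U hU x => hj.2 U hU ((θ.hom.app U) x)⟩
  obtain ⟨ψ, hψ, huniq⟩ := hj.1 B (θ.inv ≫ φ)
  refine ⟨ψ, ?_, fun ψ' hψ' => huniq ψ' ?_⟩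
  · show (θ.hom ≫ j) ≫ _ = φ
    rw [Category.assoc, hψ, Iso.hom_inv_id_assoc]
  · have h1 : (θ.hom ≫ j) ≫ RelSpec.QCAlg.Hom.toModuleMap ψ' = φ := hψ'
    rw [← h1, Category.assoc, Iso.inv_hom_id_assoc]

end Transport

section Classify
variable {X Y P : Scheme.{u}} (q : X ⟶ Y) (L : X.Modules)

/-- The counit `q^* q_* L ⟶ L`. -/
def sig : (pullback q).obj ((pushforward q).obj L) ⟶ L :=
  ((pullbackPushforwardAdjunction q).homEquiv _ L).symm (𝟙 _)

/-- Every `s : q^* E ⟶ L` factors through the counit. -/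
theorem eq_map_comp_sig {E : Y.Modules} (s : (pullback q).obj E ⟶ L) :
    s = (pullback q).map ((pullbackPushforwardAdjunction q).homEquiv E L s) ≫ sig q L := by
  have h1 : ((pullbackPushforwardAdjunction q).homEquiv E L).symm
      ((pullbackPushforwardAdjunction q).homEquiv E L s) = s := Equiv.symm_apply_apply _ _
  rw [Adjunction.homEquiv_counit] at h1
  have h2 : sig q L = (pullbackPushforwardAdjunction q).counit.app L := by
    unfold sig
    rw [Adjunction.homEquiv_counit, CategoryTheory.Functor.map_id, Category.id_comp]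
  rw [h2]
  exact h1.symm

variable (hL : PicF.IsInvertible L) (h : RelProj.IsRelVeryAmple q L)
  [((pushforward q).obj L).IsQuasicoherent]
  (𝒜 : RelProj.QCGrAlg Y) (jE : (pushforward q).obj L ⟶ 𝒜.toModule)
  (h𝒜 : RelProj.IsGrSymAlg ((pushforward q).obj L) 𝒜 jE)
  (p : P ⟶ Y) (chart : ∀ (U : Y.Opens) (hU : IsAffineOpen U),
    (((p ⁻¹ᵁ U : P.Opens) : Scheme.{u}) ≅ Proj (𝒜.deg U hU)))
  (hP : RelProj.IsRelProj 𝒜 p chart)
  (O1 : P.Modules)
  (lam : ∀ (U : Y.Opens) (hU : IsAffineOpen U),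
    O1 ⟶ (Scheme.Modules.pushforward (RelProj.emb p chart U hU)).obj
      (GrTwist.twist (𝒜.deg U hU) 1))
  (hO1 : RelProj.IsRelTwist 𝒜 p chart 1 O1 lam)
  (φ : (pushforward q).obj L ⟶ (Scheme.Modules.pushforward p).obj O1)
  (hφ : ∀ (U : Y.Opens) (hU : IsAffineOpen U) (e : Γ((pushforward q).obj L, U))
    (y : ↥(RelProj.emb p chart U hU ⁻¹ᵁ (p ⁻¹ᵁ U))),
    GrTwist.val (V := RelProj.emb p chart U hU ⁻¹ᵁ (p ⁻¹ᵁ U))
        ((lam U hU).app (p ⁻¹ᵁ U) ((φ.app U) e)) y =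
      algebraMap (𝒜.presheaf.obj (op U)) (GrTwist.Loc (𝒜.deg U hU) y.1)
        ((jE.app U) e : 𝒜.presheaf.obj (op U)))

include hL h h𝒜 hP hO1 hφ in
/-- **EGA II 4.4.4 (a ⟹ b), classifying form.**  If `L` is very ample relative to `q` and `q_* L` is
quasi-coherent, then the counit `σ : q^* q_* L ⟶ L` is an epimorphism and the morphism
`X ⟶ P(q_* L)` classifying `σ` is an immersion. -/
theorem exists_classifying_immersion :
    Epi (sig q L) ∧ ∃ (r : X ⟶ P) (hr : r ≫ p = q) (τ : (pullback r).obj O1 ≅ L), IsImmersion r ∧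
      (pullbackCongr hr).inv.app _ ≫ (pullbackComp r p).inv.app _ ≫
        (pullback r).map (((pullbackPushforwardAdjunction p).homEquiv _ O1).symm φ) ≫ τ.hom =
          sig q L := by
  haveI hq : L.IsQuasicoherent := TensH8.isQuasicoherent_of_isInvertible hL
  obtain ⟨E, hE, 𝒮, j, hj, P', p', chart', hP', O1', lam', hO1', i, hi, hip, ⟨eL⟩⟩ := h
  haveI : E.IsQuasicoherent := hE
  haveI := hi
  -- the counit is an epimorphism
  obtain ⟨φ', hφ'⟩ := Groth.Agent.CanPhi.exists_canPhi hP' hO1' j hj.2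
  haveI hepi : Epi (((pullbackPushforwardAdjunction p').homEquiv E O1').symm φ') :=
    Groth.Agent.PBEpi.epi_adj 𝒮 p' chart' E j hj 1 (by norm_num) O1' lam' hO1' φ' hφ'
  haveI : Epi ((Scheme.Modules.pullback i).map
      (((pullbackPushforwardAdjunction p').homEquiv E O1').symm φ')) := inferInstance
  let s : (Scheme.Modules.pullback q).obj E ⟶ L :=
    (pullbackCongr hip).inv.app E ≫ (pullbackComp i p').inv.app E ≫
      (Scheme.Modules.pullback i).map
        (((pullbackPushforwardAdjunction p').homEquiv E O1').symm φ') ≫ eL.inv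
  haveI : Epi s := by
    show Epi ((pullbackCongr hip).inv.app E ≫ (pullbackComp i p').inv.app E ≫
      (Scheme.Modules.pullback i).map
        (((pullbackPushforwardAdjunction p').homEquiv E O1').symm φ') ≫ eL.inv)
    infer_instance
  haveI hσ : Epi (sig q L) := by
    have h1 : Epi ((pullback q).map ((pullbackPushforwardAdjunction q).homEquiv E L s) ≫
        sig q L) := by
      rw [← eq_map_comp_sig q L s]
      infer_instance
    exact epi_of_epi ((pullback q).map ((pullbackPushforwardAdjunction q).homEquiv E L s)) _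
  -- the data for `L`
  obtain ⟨𝒮L, jL, hjL, PL, pL, chartL, hPL, -, -, -, -, -, -, -⟩ :=
    Groth.Agent.PBundle.exists_projBundle L
  haveI : IsIso pL := Groth.Agent.SymInv.isIso_pL L 𝒮L jL hL hjL hPL
  have hu : ∀ (U : Y.Opens) (x : Γ((Scheme.Modules.pushforward q).obj L, U)),
      ((uOf q _ 𝒜 jE h𝒜 𝒮L L jL hjL (sig q L)).app U).hom ((jE.app U) x) =
        (jL.app (q ⁻¹ᵁ U)) x := by
    intro U x
    have h1 := uOf_j q _ 𝒜 jE h𝒜 𝒮L L jL hjL (sig q L) U (q ⁻¹ᵁ U) le_rfl x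
    have h2 : QCohExtn.ap (sig q L) (q ⁻¹ᵁ U) (PBH8.cUV q _ le_rfl x) = x :=
      Groth.Agent.GrTw.adj_symm_cUV q (𝟙 ((Scheme.Modules.pushforward q).obj L)) U x
    rw [h2] at h1
    refine Eq.trans ?_ h1
    show _ = (𝒮L.presheaf.map (homOfLE (le_refl (q ⁻¹ᵁ U))).op).hom _
    have : (homOfLE (le_refl (q ⁻¹ᵁ U))).op = 𝟙 (op (q ⁻¹ᵁ U)) := rfl
    rw [this, CategoryTheory.Functor.map_id]
    rfl
  obtain ⟨r', hr'⟩ := Groth.Agent.ProjQ.exists_projQMapOn
    (uOf q _ 𝒜 jE h𝒜 𝒮L L jL hjL (sig q L)) hP hPL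
  obtain ⟨hdom, himm⟩ := Groth.Agent.VA44.domQ_eq_top_and_isImmersion q L hL E 𝒮 j hj p' chart' hP'
    O1' lam' hO1' i hip eL 𝒮L jL hjL pL chartL hPL 𝒜 jE h𝒜 _ hu p chart hP r' hr'
  obtain ⟨r, hr, τ, hτ⟩ := exists_r_tau _ 𝒜 jE h𝒜 p chart hP O1 lam hO1 φ hφ q L hL (sig q L)
  have hA := isProjQMap_of_compat _ 𝒜 jE h𝒜 p chart hP O1 lam hO1 φ hφ q L (sig q L) hL 𝒮L jL hjL
    pL chartL hPL r hr τ hτ
  have hB := Groth.Agent.ConeFun.isProjQMapOn_of_isProjQMap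
    (uOf q _ 𝒜 jE h𝒜 𝒮L L jL hjL (sig q L)) (pL ≫ r) hA
    (RelProj.domQ (uOf q _ 𝒜 jE h𝒜 𝒮L L jL hjL (sig q L)) pL chartL)
  have heq : r' = (RelProj.domQ (uOf q _ 𝒜 jE h𝒜 𝒮L L jL hjL (sig q L)) pL chartL).ι ≫ pL ≫ r :=
    Groth.Agent.ProjQ.projQMapOn_unique _ r' _ hr' hB
  haveI : IsIso (RelProj.domQ (uOf q _ 𝒜 jE h𝒜 𝒮L L jL hjL (sig q L)) pL chartL).ι :=
    Groth.Agent.SpecChart.isIso_ι_of_eq_top _ hdom
  have hr2 : r = inv pL ≫
      inv (RelProj.domQ (uOf q _ 𝒜 jE h𝒜 𝒮L L jL hjL (sig q L)) pL chartL).ι ≫ r' := by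
    rw [heq, IsIso.inv_hom_id_assoc, IsIso.inv_hom_id_assoc]
  haveI := himm
  refine ⟨hσ, r, hr, τ, ?_, hτ⟩
  rw [hr2]
  infer_instance

end Classify

section ClassifyIso
variable {X Y P : Scheme.{u}} (q : X ⟶ Y) (L : X.Modules) (hL : PicF.IsInvertible L)
  (h : RelProj.IsRelVeryAmple q L)
  (E₀ : Y.Modules) [E₀.IsQuasicoherent] (Λ : E₀ ≅ (pushforward q).obj L)
  (𝒜 : RelProj.QCGrAlg Y) (j₀ : E₀ ⟶ 𝒜.toModule) (h𝒜 : RelProj.IsGrSymAlg E₀ 𝒜 j₀)
  (p : P ⟶ Y) (chart : ∀ (U : Y.Opens) (hU : IsAffineOpen U),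
    (((p ⁻¹ᵁ U : P.Opens) : Scheme.{u}) ≅ Proj (𝒜.deg U hU)))
  (hP : RelProj.IsRelProj 𝒜 p chart)
  (O1 : P.Modules)
  (lam : ∀ (U : Y.Opens) (hU : IsAffineOpen U),
    O1 ⟶ (Scheme.Modules.pushforward (RelProj.emb p chart U hU)).obj
      (GrTwist.twist (𝒜.deg U hU) 1))
  (hO1 : RelProj.IsRelTwist 𝒜 p chart 1 O1 lam)
  (φ₀ : E₀ ⟶ (Scheme.Modules.pushforward p).obj O1)
  (hφ₀ : ∀ (U : Y.Opens) (hU : IsAffineOpen U) (e : Γ(E₀, U))
    (y : ↥(RelProj.emb p chart U hU ⁻¹ᵁ (p ⁻¹ᵁ U))),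
    GrTwist.val (V := RelProj.emb p chart U hU ⁻¹ᵁ (p ⁻¹ᵁ U))
        ((lam U hU).app (p ⁻¹ᵁ U) ((φ₀.app U) e)) y =
      algebraMap (𝒜.presheaf.obj (op U)) (GrTwist.Loc (𝒜.deg U hU) y.1)
        ((j₀.app U) e : 𝒜.presheaf.obj (op U)))

include hL h h𝒜 hP hO1 hφ₀ in
/-- **EGA II 4.4.4 (a ⟹ b), classifying form, for a module `E₀ ≅ q_* L`.** -/
theorem exists_classifying_immersion_iso :
    Epi (((pullbackPushforwardAdjunction q).homEquiv E₀ L).symm Λ.hom) ∧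
    ∃ (r : X ⟶ P) (hr : r ≫ p = q) (τ : (pullback r).obj O1 ≅ L), IsImmersion r ∧
      (pullbackCongr hr).inv.app E₀ ≫ (pullbackComp r p).inv.app E₀ ≫
        (pullback r).map (((pullbackPushforwardAdjunction p).homEquiv E₀ O1).symm φ₀) ≫ τ.hom =
          ((pullbackPushforwardAdjunction q).homEquiv E₀ L).symm Λ.hom := by
  haveI : ((pushforward q).obj L).IsQuasicoherent :=
    (SheafOfModules.isQuasicoherent Y.ringCatSheaf).prop_of_iso Λ inferInstance
  have h𝒜' : RelProj.IsGrSymAlg ((pushforward q).obj L) 𝒜 (Λ.inv ≫ j₀) :=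
    isGrSymAlg_of_iso Λ.symm 𝒜 j₀ h𝒜
  have hφ' : ∀ (U : Y.Opens) (hU : IsAffineOpen U) (e : Γ((pushforward q).obj L, U))
      (y : ↥(RelProj.emb p chart U hU ⁻¹ᵁ (p ⁻¹ᵁ U))),
      GrTwist.val (V := RelProj.emb p chart U hU ⁻¹ᵁ (p ⁻¹ᵁ U))
          ((lam U hU).app (p ⁻¹ᵁ U) (((Λ.inv ≫ φ₀).app U) e)) y =
        algebraMap (𝒜.presheaf.obj (op U)) (GrTwist.Loc (𝒜.deg U hU) y.1)
          (((Λ.inv ≫ j₀).app U) e : 𝒜.presheaf.obj (op U)) :=
    fun U hU e y => hφ₀ U hU ((Λ.inv.app U) e) y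
  obtain ⟨hσ, r, hr, τ, himm, hτ⟩ := exists_classifying_immersion q L hL h 𝒜 (Λ.inv ≫ j₀) h𝒜' p
    chart hP O1 lam hO1 (Λ.inv ≫ φ₀) hφ'
  have hs : ((pullbackPushforwardAdjunction q).homEquiv E₀ L).symm Λ.hom =
      (pullback q).map Λ.hom ≫ sig q L := by
    have h1 := eq_map_comp_sig q L (((pullbackPushforwardAdjunction q).homEquiv E₀ L).symm Λ.hom)
    rw [Equiv.apply_symm_apply] at h1
    exact h1
  haveI := hσ
  refine ⟨by rw [hs]; infer_instance, r, hr, τ, himm, ?_⟩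
  rw [hs, ← hτ]
  have h2 : ((pullbackPushforwardAdjunction p).homEquiv _ O1).symm (Λ.inv ≫ φ₀) =
      (pullback p).map Λ.inv ≫ ((pullbackPushforwardAdjunction p).homEquiv E₀ O1).symm φ₀ :=
    Adjunction.homEquiv_naturality_left_symm _ _ _
  rw [h2, CategoryTheory.Functor.map_comp]
  have n1 := (pullbackCongr hr).inv.naturality Λ.hom
  have n2 := (pullbackComp r p).inv.naturality Λ.hom
  simp only [Functor.comp_map] at n2
  rw [← Category.assoc ((pullback q).map Λ.hom), n1, Category.assoc,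
    ← Category.assoc ((pullback (r ≫ p)).map Λ.hom), n2]
  simp only [Category.assoc]
  congr 2
  rw [← Category.assoc ((pullback r).map ((pullback p).map Λ.hom)),
    ← CategoryTheory.Functor.map_comp, ← CategoryTheory.Functor.map_comp, Iso.hom_inv_id,
    CategoryTheory.Functor.map_id, CategoryTheory.Functor.map_id, Category.id_comp]

end ClassifyIso

end Groth.Agent.VALoc
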