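import Mathlib
import Groth.Prelude
import Groth.Agent.Lib.VALoc1_helper5
import Groth.Agent.Lib.VALoc2_helper5
import Groth.Agent.Lib.UPB17_helper5
import Groth.Agent.Lib.PBBC1_helper5
import Groth.Agent.Lib.Tens45_helper8

/-!
# Very ample is local on the base, part 3: the classifying morphism restricted to an open of the
base  (helper5).  APPEND-ONLY once landed.

`E = q_* L`, `r : X ⟶ P(E)` classifying the counit; `V ⊆ Y` open, `r_V : q⁻¹V ⟶ P(ψ^*E)`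
classifying `s_V : q_V^* ψ^* E ⟶ L|`, `h : P(ψ^*E) ⟶ P(E)` the base change projection.  Then
`(q⁻¹V).ι ≫ r = r_V ≫ h`.
-/

set_option autoImplicit false
universe u
open CategoryTheory AlgebraicGeometry TopologicalSpace Opposite
open scoped HomogeneousIdeal

noncomputable section

namespace Groth.Agent.VALoc

open QcqsLoc QCohExtn GenLocH8 Scheme.Modules Groth.Agent.UPB

section NuOpen
variable {Y P X : Scheme.{u}} (E : Y.Modules) (p : P ⟶ Y) (O1 : P.Modules)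
  (φ : E ⟶ (Scheme.Modules.pushforward p).obj O1)
  (g : X ⟶ Y) (L : X.Modules) (s : (Scheme.Modules.pullback g).obj E ⟶ L)
  (r : X ⟶ P) (hr : r ≫ p = g)

/-- `nu_of_tau` over arbitrary opens of the base. -/
theorem nu_open (τ : (pullback r).obj O1 ⟶ L)
    (hτ : (pullbackCongr hr).inv.app E ≫ (pullbackComp r p).inv.app E ≫
      (pullback r).map (((pullbackPushforwardAdjunction p).homEquiv E O1).symm φ) ≫ τ = s)
    (U : Y.Opens) (e : Γ(E, U)) :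
    QCohExtn.ap ((pullbackPushforwardAdjunction r).homEquiv O1 L τ) (p ⁻¹ᵁ U)
        (phiSec E p O1 φ U e) =
      (show Γ((Scheme.Modules.pushforward r).obj L, p ⁻¹ᵁ U) from
        rF L (le_g p g r hr le_rfl) (sb g E L s U e)) := by
  subst hr
  have e0 : (pullbackCongr (rfl : r ≫ p = r ≫ p)).inv.app E = 𝟙 _ := by
    simp [pullbackCongr]
  rw [e0, Category.id_comp] at hτ
  have h := (compat_iff_aux p r E O1 L φ ((pullbackPushforwardAdjunction r).homEquiv O1 L τ) s).mp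
    (by rw [Equiv.symm_apply_apply]; exact hτ)
  have hsb : QCohExtn.ap ((pullbackPushforwardAdjunction (r ≫ p)).homEquiv E L s) U e =
      sb (r ≫ p) E L s U e := by
    have h1 := Groth.Agent.GrTw.adj_symm_cUV (r ≫ p)
      ((pullbackPushforwardAdjunction (r ≫ p)).homEquiv E L s) U e
    rw [Equiv.symm_apply_apply] at h1
    exact h1.symm
  have h1 := congrArg (fun t => QCohExtn.ap t U e) h
  refine Eq.trans ?_ ((h1.trans hsb).trans ?_)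
  · rfl
  · exact (SubExt.rF_self L _ _).symm

end NuOpen

section NU
variable {X Y P PV : Scheme.{u}} (q : X ⟶ Y) (L : X.Modules)
  (p : P ⟶ Y) (O1 : P.Modules)
  (φ : (pushforward q).obj L ⟶ (Scheme.Modules.pushforward p).obj O1)
  (V : Y.Opens)
  (s' : (pullback (q ∣_ V ≫ V.ι)).obj ((pushforward q).obj L) ⟶ L.restrict (q ⁻¹ᵁ V).ι)
  (hsb : ∀ (U : Y.Opens) (e : Γ((pushforward q).obj L, U)),
    sb (q ∣_ V ≫ V.ι) ((pushforward q).obj L) (L.restrict (q ⁻¹ᵁ V).ι) s' U e =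
      rF L (image_le q V U) e)

include hsb in
/-- The `ν` of `(q⁻¹V).ι ≫ r`. -/
theorem exists_nu1 (r : X ⟶ P) (hr : r ≫ p = q) (τ : (pullback r).obj O1 ⟶ L)
    (hτ : (pullbackCongr hr).inv.app _ ≫ (pullbackComp r p).inv.app _ ≫
      (pullback r).map (((pullbackPushforwardAdjunction p).homEquiv _ O1).symm φ) ≫ τ = sig q L)
    (hr₁ : ((q ⁻¹ᵁ V).ι ≫ r) ≫ p = q ∣_ V ≫ V.ι) :
    ∃ ν₁ : O1 ⟶ (pushforward ((q ⁻¹ᵁ V).ι ≫ r)).obj (L.restrict (q ⁻¹ᵁ V).ι),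
      ∀ (U : Y.Opens) (_ : IsAffineOpen U) (e : Γ((pushforward q).obj L, U)),
        QCohExtn.ap ν₁ (p ⁻¹ᵁ U) (phiSec _ p O1 φ U e) =
        (show Γ((pushforward ((q ⁻¹ᵁ V).ι ≫ r)).obj (L.restrict (q ⁻¹ᵁ V).ι), p ⁻¹ᵁ U) from
          rF (L.restrict (q ⁻¹ᵁ V).ι) (le_g p (q ∣_ V ≫ V.ι) ((q ⁻¹ᵁ V).ι ≫ r) hr₁ le_rfl)
            (sb (q ∣_ V ≫ V.ι) _ (L.restrict (q ⁻¹ᵁ V).ι) s' U e)) := by
  have hν := nu_open ((pushforward q).obj L) p O1 φ q L (sig q L) r hr τ hτ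
  have hσ : ∀ (U : Y.Opens) (e : Γ((pushforward q).obj L, U)),
      sb q ((pushforward q).obj L) L (sig q L) U e = e := fun U e =>
    Groth.Agent.GrTw.adj_symm_cUV q (𝟙 ((pushforward q).obj L)) U e
  refine ⟨(pullbackPushforwardAdjunction r).homEquiv O1 L τ ≫
      (pushforward r).map ((restrictAdjunction (q ⁻¹ᵁ V).ι).unit.app L) ≫
      (pushforwardComp (q ⁻¹ᵁ V).ι r).hom.app (L.restrict (q ⁻¹ᵁ V).ι), ?_⟩
  intro U _ e
  rw [hsb]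
  have h1 : QCohExtn.ap ((pullbackPushforwardAdjunction r).homEquiv O1 L τ ≫
      (pushforward r).map ((restrictAdjunction (q ⁻¹ᵁ V).ι).unit.app L) ≫
      (pushforwardComp (q ⁻¹ᵁ V).ι r).hom.app (L.restrict (q ⁻¹ᵁ V).ι)) (p ⁻¹ᵁ U)
        (phiSec _ p O1 φ U e) =
      rF L ((q ⁻¹ᵁ V).ι.image_preimage_le (r ⁻¹ᵁ p ⁻¹ᵁ U))
        (QCohExtn.ap ((pullbackPushforwardAdjunction r).homEquiv O1 L τ) (p ⁻¹ᵁ U)
          (phiSec _ p O1 φ U e)) := rfl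
  rw [h1, hν, hσ]
  have e1 : ∀ {W₁ W₂ : (q ⁻¹ᵁ V).toScheme.Opens} (hW : W₂ ≤ W₁)
      (z : Γ(L, (q ⁻¹ᵁ V).ι ''ᵁ W₁)),
      rF (L.restrict (q ⁻¹ᵁ V).ι) hW z = rF L (Scheme.Hom.image_mono (q ⁻¹ᵁ V).ι hW) z :=
    fun _ _ => rfl
  show rF L ((q ⁻¹ᵁ V).ι.image_preimage_le (r ⁻¹ᵁ p ⁻¹ᵁ U)) (rF L (le_g p q r hr le_rfl) e) =
    rF (L.restrict (q ⁻¹ᵁ V).ι) (le_g p (q ∣_ V ≫ V.ι) ((q ⁻¹ᵁ V).ι ≫ r) hr₁ le_rfl)
      (rF L (image_le q V U) e)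
  rw [e1, rF_rF]
  exact (rF_rF L _ _ _).symm

include hsb in
/-- The `ν` of `rV ≫ h`. -/
theorem exists_nu2 (pV : PV ⟶ V.toScheme) (O1V : PV.Modules)
    (φV : (pullback V.ι).obj ((pushforward q).obj L) ⟶ (pushforward pV).obj O1V)
    (rV : (q ⁻¹ᵁ V).toScheme ⟶ PV) (hrV : rV ≫ pV = q ∣_ V)
    (τV : (pullback rV).obj O1V ⟶ L.restrict (q ⁻¹ᵁ V).ι)
    (hτV : (pullbackCongr hrV).inv.app _ ≫ (pullbackComp rV pV).inv.app _ ≫
      (pullback rV).map (((pullbackPushforwardAdjunction pV).homEquiv _ O1V).symm φV) ≫ τV =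
        ((pullbackPushforwardAdjunction (q ∣_ V)).homEquiv _ _).symm (VALoc.lam q V L).hom)
    (h : PV ⟶ P) (hh : h ≫ p = pV ≫ V.ι) (τh : (pullback h).obj O1 ⟶ O1V)
    (hτh : (pullbackCongr hh).inv.app _ ≫ (pullbackComp h p).inv.app _ ≫
      (pullback h).map (((pullbackPushforwardAdjunction p).homEquiv _ O1).symm φ) ≫ τh =
        sh V.ι pV ((pushforward q).obj L) O1V φV)
    (hr₂ : (rV ≫ h) ≫ p = q ∣_ V ≫ V.ι) :
    ∃ ν₂ : O1 ⟶ (pushforward (rV ≫ h)).obj (L.restrict (q ⁻¹ᵁ V).ι),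
      ∀ (U : Y.Opens) (_ : IsAffineOpen U) (e : Γ((pushforward q).obj L, U)),
        QCohExtn.ap ν₂ (p ⁻¹ᵁ U) (phiSec _ p O1 φ U e) =
        (show Γ((pushforward (rV ≫ h)).obj (L.restrict (q ⁻¹ᵁ V).ι), p ⁻¹ᵁ U) from
          rF (L.restrict (q ⁻¹ᵁ V).ι) (le_g p (q ∣_ V ≫ V.ι) (rV ≫ h) hr₂ le_rfl)
            (sb (q ∣_ V ≫ V.ι) _ (L.restrict (q ⁻¹ᵁ V).ι) s' U e)) := by
  have hνh := nu_open ((pushforward q).obj L) p O1 φ (pV ≫ V.ι) O1V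
    (sh V.ι pV ((pushforward q).obj L) O1V φV) h hh τh hτh
  have hsbh := sb_sh V.ι pV ((pushforward q).obj L) O1V φV
  have hνV := nu_open ((pullback V.ι).obj ((pushforward q).obj L)) pV O1V φV (q ∣_ V)
    (L.restrict (q ⁻¹ᵁ V).ι) _ rV hrV τV hτV
  have hsbV : ∀ (W : V.toScheme.Opens) (y : Γ((pullback V.ι).obj ((pushforward q).obj L), W)),
      sb (q ∣_ V) ((pullback V.ι).obj ((pushforward q).obj L)) (L.restrict (q ⁻¹ᵁ V).ι)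
        (((pullbackPushforwardAdjunction (q ∣_ V)).homEquiv _ _).symm (VALoc.lam q V L).hom) W y =
      QCohExtn.ap (VALoc.lam q V L).hom W y := fun W y =>
    Groth.Agent.GrTw.adj_symm_cUV (q ∣_ V) (VALoc.lam q V L).hom W y
  refine ⟨(pullbackPushforwardAdjunction h).homEquiv O1 O1V τh ≫
      (pushforward h).map ((pullbackPushforwardAdjunction rV).homEquiv O1V _ τV) ≫
      (pushforwardComp rV h).hom.app (L.restrict (q ⁻¹ᵁ V).ι), ?_⟩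
  intro U _ e
  rw [hsb]
  have h1 : QCohExtn.ap ((pullbackPushforwardAdjunction h).homEquiv O1 O1V τh ≫
      (pushforward h).map ((pullbackPushforwardAdjunction rV).homEquiv O1V _ τV) ≫
      (pushforwardComp rV h).hom.app (L.restrict (q ⁻¹ᵁ V).ι)) (p ⁻¹ᵁ U)
        (phiSec _ p O1 φ U e) =
      QCohExtn.ap ((pullbackPushforwardAdjunction rV).homEquiv O1V _ τV) (h ⁻¹ᵁ p ⁻¹ᵁ U)
        (QCohExtn.ap ((pullbackPushforwardAdjunction h).homEquiv O1 O1V τh) (p ⁻¹ᵁ U)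
          (phiSec _ p O1 φ U e)) := rfl
  rw [h1, hνh, hsbh]
  have hle : h ⁻¹ᵁ p ⁻¹ᵁ U ≤ pV ⁻¹ᵁ (V.ι ⁻¹ᵁ U) := le_g p (pV ≫ V.ι) h hh le_rfl
  have h2 := ap_rF ((pullbackPushforwardAdjunction rV).homEquiv O1V _ τV) hle
    (phiSec ((pullback V.ι).obj ((pushforward q).obj L)) pV O1V φV (V.ι ⁻¹ᵁ U)
      (PBH8.cUV V.ι ((pushforward q).obj L) le_rfl e))
  refine h2.trans ?_
  rw [hνV, hsbV, lam_cUV]
  have e1 : ∀ {W₁ W₂ : (q ⁻¹ᵁ V).toScheme.Opens} (hW : W₂ ≤ W₁)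
      (z : Γ(L, (q ⁻¹ᵁ V).ι ''ᵁ W₁)),
      rF (L.restrict (q ⁻¹ᵁ V).ι) hW z = rF L (Scheme.Hom.image_mono (q ⁻¹ᵁ V).ι hW) z :=
    fun _ _ => rfl
  have e2 : ∀ {O₁ O₂ : PV.Opens} (hO : O₂ ≤ O₁)
      (z : Γ(L.restrict (q ⁻¹ᵁ V).ι, rV ⁻¹ᵁ O₁)),
      rF ((pushforward rV).obj (L.restrict (q ⁻¹ᵁ V).ι)) hO z =
        rF (L.restrict (q ⁻¹ᵁ V).ι) (rV.preimage_mono hO) z :=
    fun _ _ => rfl
  show rF ((pushforward rV).obj (L.restrict (q ⁻¹ᵁ V).ι)) hle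
      (rF (L.restrict (q ⁻¹ᵁ V).ι) _ (rF L (image_le q V U) e)) =
    rF (L.restrict (q ⁻¹ᵁ V).ι) _ (rF L (image_le q V U) e)
  rw [e2, e1, e1, e1, rF_rF, rF_rF]

end NU

section EQ
variable {X Y P PV : Scheme.{u}} (q : X ⟶ Y) (L : X.Modules) (hL : PicF.IsInvertible L)
  [((pushforward q).obj L).IsQuasicoherent]
  (𝒮 : RelProj.QCGrAlg Y) (j : (pushforward q).obj L ⟶ 𝒮.toModule)
  (hj : RelProj.IsGrSymAlg ((pushforward q).obj L) 𝒮 j) (p : P ⟶ Y)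
  (chart : ∀ (U : Y.Opens) (hU : IsAffineOpen U),
    (((p ⁻¹ᵁ U : P.Opens) : Scheme.{u}) ≅ Proj (𝒮.deg U hU)))
  (hP : RelProj.IsRelProj 𝒮 p chart)
  (O1 : P.Modules)
  (lam : ∀ (U : Y.Opens) (hU : IsAffineOpen U),
    O1 ⟶ (Scheme.Modules.pushforward (RelProj.emb p chart U hU)).obj
      (GrTwist.twist (𝒮.deg U hU) 1))
  (hO1 : RelProj.IsRelTwist 𝒮 p chart 1 O1 lam)
  (φ : (pushforward q).obj L ⟶ (Scheme.Modules.pushforward p).obj O1)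
  (hφ : ∀ (U : Y.Opens) (hU : IsAffineOpen U) (e : Γ((pushforward q).obj L, U))
    (y : ↥(RelProj.emb p chart U hU ⁻¹ᵁ (p ⁻¹ᵁ U))),
    GrTwist.val (V := RelProj.emb p chart U hU ⁻¹ᵁ (p ⁻¹ᵁ U))
        ((lam U hU).app (p ⁻¹ᵁ U) ((φ.app U) e)) y =
      algebraMap (𝒮.presheaf.obj (op U)) (GrTwist.Loc (𝒮.deg U hU) y.1)
        ((j.app U) e : 𝒮.presheaf.obj (op U)))
  (r : X ⟶ P) (hr : r ≫ p = q) (τ : (pullback r).obj O1 ≅ L)
  (hτ : (pullbackCongr hr).inv.app _ ≫ (pullbackComp r p).inv.app _ ≫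
    (pullback r).map (((pullbackPushforwardAdjunction p).homEquiv _ O1).symm φ) ≫ τ.hom = sig q L)
  (V : Y.Opens) (pV : PV ⟶ V.toScheme) (O1V : PV.Modules)
  (φV : (pullback V.ι).obj ((pushforward q).obj L) ⟶ (pushforward pV).obj O1V)
  (rV : (q ⁻¹ᵁ V).toScheme ⟶ PV) (hrV : rV ≫ pV = q ∣_ V)
  (τV : (pullback rV).obj O1V ≅ L.restrict (q ⁻¹ᵁ V).ι)
  (hτV : (pullbackCongr hrV).inv.app _ ≫ (pullbackComp rV pV).inv.app _ ≫
    (pullback rV).map (((pullbackPushforwardAdjunction pV).homEquiv _ O1V).symm φV) ≫ τV.hom =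
      ((pullbackPushforwardAdjunction (q ∣_ V)).homEquiv _ _).symm (VALoc.lam q V L).hom)
  [Epi (((pullbackPushforwardAdjunction (q ∣_ V)).homEquiv _ (L.restrict (q ⁻¹ᵁ V).ι)).symm
    (VALoc.lam q V L).hom)]
  (h : PV ⟶ P) (hh : h ≫ p = pV ≫ V.ι) (τh : (pullback h).obj O1 ≅ O1V)
  (hτh : (pullbackCongr hh).inv.app _ ≫ (pullbackComp h p).inv.app _ ≫
    (pullback h).map (((pullbackPushforwardAdjunction p).homEquiv _ O1).symm φ) ≫ τh.hom =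
      sh V.ι pV ((pushforward q).obj L) O1V φV)

include hL hj hP hO1 hφ hτ hτV hτh in
/-- **The classifying morphism of the counit restricts, over an open `V` of the base, to the
classifying morphism of the restricted counit followed by the base change projection.** -/
theorem restrict_classifying : (q ⁻¹ᵁ V).ι ≫ r = rV ≫ h := by
  have hLV : PicF.IsInvertible (L.restrict (q ⁻¹ᵁ V).ι) :=
    TensH8.isInvertible_of_iso' ((restrictFunctorIsoPullback (q ⁻¹ᵁ V).ι).app L).symm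
      (TensH8.isInvertible_pullback (q ⁻¹ᵁ V).ι hL)
  have hr₁ : ((q ⁻¹ᵁ V).ι ≫ r) ≫ p = q ∣_ V ≫ V.ι := by
    rw [Category.assoc, hr]
    exact (morphismRestrict_ι q V).symm
  have hr₂ : (rV ≫ h) ≫ p = q ∣_ V ≫ V.ι := by
    rw [Category.assoc, hh, ← Category.assoc, hrV]
  obtain ⟨s', hs', hsb⟩ : ∃ s' : (pullback (q ∣_ V ≫ V.ι)).obj ((pushforward q).obj L) ⟶
      L.restrict (q ⁻¹ᵁ V).ι, Epi s' ∧ ∀ (U : Y.Opens) (e : Γ((pushforward q).obj L, U)),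
      sb (q ∣_ V ≫ V.ι) ((pushforward q).obj L) (L.restrict (q ⁻¹ᵁ V).ι) s' U e =
        rF L (image_le q V U) e :=
    ⟨sh V.ι (q ∣_ V) ((pushforward q).obj L) (L.restrict (q ⁻¹ᵁ V).ι) (VALoc.lam q V L).hom,
      inferInstance, fun U e =>
      (sb_sh V.ι (q ∣_ V) ((pushforward q).obj L) (L.restrict (q ⁻¹ᵁ V).ι)
        (VALoc.lam q V L).hom U e).trans (lam_cUV q V L U e)⟩
  obtain ⟨ν₁, hν₁⟩ := exists_nu1 q L p O1 φ V s' hsb r hr τ.hom hτ hr₁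
  obtain ⟨ν₂, hν₂⟩ := exists_nu2 q L p O1 φ V s' hsb pV O1V φV rV hrV τV.hom hτV h hh τh.hom hτh hr₂
  obtain ⟨τ₁, hτ₁⟩ := exists_tau_of_nu ((pushforward q).obj L) 𝒮 j hj p chart O1 lam hO1 φ
    (q ∣_ V ≫ V.ι) (L.restrict (q ⁻¹ᵁ V).ι) s' ((q ⁻¹ᵁ V).ι ≫ r) hr₁ hLV ν₁ hν₁
  obtain ⟨τ₂, hτ₂⟩ := exists_tau_of_nu ((pushforward q).obj L) 𝒮 j hj p chart O1 lam hO1 φ
    (q ∣_ V ≫ V.ι) (L.restrict (q ⁻¹ᵁ V).ι) s' (rV ≫ h) hr₂ hLV ν₂ hν₂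
  exact eq_of_compat ((pushforward q).obj L) 𝒮 j hj p chart hP O1 lam hO1 φ hφ (q ∣_ V ≫ V.ι)
    (L.restrict (q ⁻¹ᵁ V).ι) s' ((q ⁻¹ᵁ V).ι ≫ r) (rV ≫ h) hr₁ hr₂ τ₁ hτ₁ τ₂ hτ₂

end EQ

end Groth.Agent.VALoc
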