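import Mathlib
import Groth.Prelude
import Groth.Agent.Lib.VALoc3_helper5
import Groth.Agent.Lib.Tens7_helper8
import Groth.Agent.Lib.Tens29_helper8

/-!
# Very ample is local on the base, part 4: the counit is an epimorphism, and the main theorem
(helper5).  APPEND-ONLY once landed.
-/

set_option autoImplicit false
universe u
open CategoryTheory AlgebraicGeometry TopologicalSpace Opposite
open scoped HomogeneousIdeal

noncomputable section

namespace Groth.Agent.VALoc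

open QcqsLoc QCohExtn GenLocH8 Scheme.Modules Groth.Agent.UPB

section Gen
variable {Y P : Scheme.{u}} (E : Y.Modules) [E.IsQuasicoherent]
  (𝒮 : RelProj.QCGrAlg Y) (j : E ⟶ 𝒮.toModule) (hj : RelProj.IsGrSymAlg E 𝒮 j) (p : P ⟶ Y)
  (chart : ∀ (U : Y.Opens) (hU : IsAffineOpen U),
    (((p ⁻¹ᵁ U : P.Opens) : Scheme.{u}) ≅ Proj (𝒮.deg U hU)))
  (hP : RelProj.IsRelProj 𝒮 p chart)
  (O1 : P.Modules)
  (lam : ∀ (U : Y.Opens) (hU : IsAffineOpen U),
    O1 ⟶ (Scheme.Modules.pushforward (RelProj.emb p chart U hU)).obj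
      (GrTwist.twist (𝒮.deg U hU) 1))
  (hO1 : RelProj.IsRelTwist 𝒮 p chart 1 O1 lam)
  (φ : E ⟶ (Scheme.Modules.pushforward p).obj O1)
  (hφ : ∀ (U : Y.Opens) (hU : IsAffineOpen U) (e : Γ(E, U))
    (y : ↥(RelProj.emb p chart U hU ⁻¹ᵁ (p ⁻¹ᵁ U))),
    GrTwist.val (V := RelProj.emb p chart U hU ⁻¹ᵁ (p ⁻¹ᵁ U))
        ((lam U hU).app (p ⁻¹ᵁ U) ((φ.app U) e)) y =
      algebraMap (𝒮.presheaf.obj (op U)) (GrTwist.Loc (𝒮.deg U hU) y.1)
        ((j.app U) e : 𝒮.presheaf.obj (op U)))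
  {X : Scheme.{u}} (g : X ⟶ Y) (L : X.Modules) (s : (Scheme.Modules.pullback g).obj E ⟶ L)
  (r : X ⟶ P) (hr : r ≫ p = g) (τ : (pullback r).obj O1 ≅ L)
  (hτ : (pullbackCongr hr).inv.app E ≫ (pullbackComp r p).inv.app E ≫
    (pullback r).map (((pullbackPushforwardAdjunction p).homEquiv E O1).symm φ) ≫ τ.hom = s)

include hj hO1 hφ hτ in
/-- Around every point, `L` is generated by the image of a section of `E` over an affine open of the
base. -/
theorem exists_gen_of_classifying (x : X) :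
    ∃ (W : Y.Opens) (_ : IsAffineOpen W) (y : Γ(E, W)) (O : X.Opens) (hO : O ≤ g ⁻¹ᵁ W),
      x ∈ O ∧ IsGen L O (rF L hO (sb g E L s W y)) := by
  have hO1inv : PicF.IsInvertible O1 :=
    Groth.Agent.VAmpEpi.isInvertible_O1 𝒮 p chart E j hj 1 (by norm_num) O1 lam hO1
  obtain ⟨W, hW, hxW, -⟩ := Opens.isBasis_iff_nbhd.mp Y.isBasis_affineOpens
    (Opens.mem_top (g x))
  have hWa : IsAffineOpen W := hW
  have hrx : r x ∈ p ⁻¹ᵁ W := by
    have h1 : g x ∈ W := hxW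
    rw [← hr] at h1
    exact h1
  obtain ⟨y, hy⟩ := exists_mem_WW E 𝒮 j hj p chart W hWa (r x) hrx
  have hν := nu_of_tau E p O1 φ g L s r hr τ.hom hτ
  haveI : IsIso (((pullbackPushforwardAdjunction r).homEquiv O1 L).symm
      ((pullbackPushforwardAdjunction r).homEquiv O1 L τ.hom)) := by
    rw [Equiv.symm_apply_apply]; infer_instance
  exact ⟨W, hWa, y, r ⁻¹ᵁ (WW E 𝒮 j p chart W hWa y),
    le_g p g r hr (WW_le E 𝒮 j p chart W hWa y), hy,
    isGen_sb E 𝒮 j hj p chart O1 lam hO1 φ hφ g L s r hr _ hν hO1inv W hWa y⟩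

end Gen

section EpiSig
variable {X Y : Scheme.{u}} (q : X ⟶ Y) (L : X.Modules)

/-- If `L` is locally generated by sections over preimages of opens of the base, the counit
`q^* q_* L ⟶ L` is an epimorphism. -/
theorem epi_sig_of_gen
    (h : ∀ x : X, ∃ (U₀ : Y.Opens) (e : Γ(L, q ⁻¹ᵁ U₀)) (O : X.Opens) (hO : O ≤ q ⁻¹ᵁ U₀),
      x ∈ O ∧ IsGen L O (rF L hO e)) : Epi (sig q L) := by
  apply TensH8.epi_of_locally_surjective
  intro O₀ m x hx
  obtain ⟨U₀, e, O, hO, hxO, hgen⟩ := h x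
  obtain ⟨c, hc⟩ := (hgen (O ⊓ O₀) inf_le_left).1 (rF L inf_le_right m)
  refine ⟨O ⊓ O₀, inf_le_right, ⟨hxO, hx⟩,
    c • PBH8.cUV q ((pushforward q).obj L) (inf_le_left.trans hO) e, ?_⟩
  rw [ap_smul, hc, rF_rF]
  congr 1
  have h1 : QCohExtn.ap (sig q L) (q ⁻¹ᵁ U₀) (PBH8.cUV q _ le_rfl e) = e :=
    Groth.Agent.GrTw.adj_symm_cUV q (𝟙 ((Scheme.Modules.pushforward q).obj L)) U₀ e
  rw [← TensH8.rF_cUV q ((pushforward q).obj L) (le_rfl : q ⁻¹ᵁ U₀ ≤ q ⁻¹ᵁ U₀)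
    (inf_le_left.trans hO) e, ap_rF, h1]

end EpiSig

end Groth.Agent.VALoc
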