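import Mathlib
import Groth.Prelude
import Groth.Agent.Lib.VALoc4_helper5
import Groth.Agent.Lib.VAmpPn2_helper5
import Groth.Agent.Lib.FLF5_helper8
import Groth.Agent.Lib.SDivGen_helper8
import Groth.Agent.Lib.SecOrd1_helper8
import Groth.Agent.S3572
import Groth.Agent.S3573

/-!
# Very ample in the projective-space sense implies very ample  (helper5).  APPEND-ONLY once landed.

Given an immersion `i : X ⟶ P^N_Y` over `Y` and `M ≅ i^* O(1)`, we take `E = O_Y^{N+1}`, the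
epimorphism `q^* E ⟶ M` given by the pulled back coordinates, the classifying morphism
`r : X ⟶ P(E)`, and the morphism `i' : P(E) ⟶ P^N_Y` classified by the sections `φ(e_k)` of
`O_{P(E)}(1)`; then `r ≫ i' = i` by uniqueness, so `r` is an immersion.
-/

set_option autoImplicit false
universe u
open CategoryTheory AlgebraicGeometry TopologicalSpace Opposite
open scoped HomogeneousIdeal

noncomputable section

namespace Groth.Agent.PnVA

open QcqsLoc QCohExtn GenLocH8 Scheme.Modules Groth.Agent.UPB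

section Generic
variable {X Y : Scheme.{u}}

/-- If `L` is locally generated by images of sections of `E`, then `s : q^* E ⟶ L` is an
epimorphism. -/
theorem epi_of_gen (q : X ⟶ Y) (E : Y.Modules) (L : X.Modules) (s : (pullback q).obj E ⟶ L)
    (h : ∀ x : X, ∃ (U₀ : Y.Opens) (e : Γ(E, U₀)) (O : X.Opens) (hO : O ≤ q ⁻¹ᵁ U₀),
      x ∈ O ∧ IsGen L O (rF L hO (sb q E L s U₀ e))) : Epi s := by
  apply TensH8.epi_of_locally_surjective
  intro O₀ m x hx
  obtain ⟨U₀, e, O, hO, hxO, hgen⟩ := h x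
  obtain ⟨c, hc⟩ := (hgen (O ⊓ O₀) inf_le_left).1 (rF L inf_le_right m)
  refine ⟨O ⊓ O₀, inf_le_right, ⟨hxO, hx⟩,
    c • PBH8.cUV q E (inf_le_left.trans hO) e, ?_⟩
  rw [ap_smul, hc, rF_rF]
  congr 1
  rw [← TensH8.rF_cUV q E (le_rfl : q ⁻¹ᵁ U₀ ≤ q ⁻¹ᵁ U₀) (inf_le_left.trans hO) e, ap_rF]
  rfl

/-- Global sections which locally restrict to generators generate the module stalkwise. -/
theorem generatedBy_of_isGen (L : X.Modules) {ι : Type*} (s : ι → ProjUP.Γm L)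
    (h : ∀ x : X, ∃ (i : ι) (O : X.Opens), x ∈ O ∧ IsGen L O (rF L (le_top : O ≤ ⊤) (s i))) :
    ProjUP.GeneratedBy L s := by
  intro x
  obtain ⟨i, O, hxO, he⟩ := h x
  obtain ⟨h1, -⟩ := SecOrdH8.stalk_gen he hxO
  rw [eq_top_iff]
  intro z _
  obtain ⟨a, rfl⟩ := h1 z
  apply Submodule.smul_mem
  apply Submodule.subset_span
  refine ⟨i, ?_⟩
  exact (SecOrdH8.germ_rF L (le_top : O ≤ ⊤) x hxO (s i)).symm

/-- The value of a morphism `θ : f^* N ⟶ M` on a pulled back global section is the value of its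
adjoint. -/
theorem app_pullSec {Z : Scheme.{u}} (f : X ⟶ Z) (N : Z.Modules) (M : X.Modules)
    (θ : (pullback f).obj N ⟶ M) (s : ProjUP.Γm N) :
    θ.app ⊤ (ProjUP.pullSec f N s) =
      (show Γ(M, ⊤) from ((pullbackPushforwardAdjunction f).homEquiv N M θ).app ⊤ s) := by
  rw [Adjunction.homEquiv_unit]
  rfl

end Generic

section Setup
variable {X Y : Scheme.{u}} (q : X ⟶ Y) (M : X.Modules) (N : ℕ)
  (ρ₀ : X ⟶ Proj (CohB1.polyGrading N (ULift.{u} ℤ)))
  (τ₀ : (pullback ρ₀).obj (Twist.twist (CohB1.polyGrading N (ULift.{u} ℤ)) 1) ≅ M)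

open Groth.Agent.ProjUPU Groth.Agent.VAmpPn

/-- The pulled back coordinates, as global sections of `M` (read as sections of `q_* M`). -/
def msec (k : Fin (N + 1)) : Γ((pushforward q).obj M, ⊤) :=
  τ₀.hom.app ⊤ (ProjUP.pullSec ρ₀ (Twist.twist (CohB1.polyGrading N (ULift.{u} ℤ)) 1)
    (sig (CohB1.polyGrading N (ULift.{u} ℤ)) (hX N k)))

/-- `O_Y^{N+1} ⟶ q_* M` given by the pulled back coordinates. -/
def aHom : FlatMod.freeMod Y (N + 1) ⟶ (pushforward q).obj M :=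
  SDivGenH8.freeHom ((pushforward q).obj M) (msec q M N ρ₀ τ₀)

/-- `q^* O_Y^{N+1} ⟶ M` given by the pulled back coordinates. -/
def sHom : (pullback q).obj (FlatMod.freeMod Y (N + 1)) ⟶ M :=
  ((pullbackPushforwardAdjunction q).homEquiv _ _).symm (aHom q M N ρ₀ τ₀)

theorem sb_sHom (U : Y.Opens) (k : Fin (N + 1)) :
    sb q (FlatMod.freeMod Y (N + 1)) M (sHom q M N ρ₀ τ₀) U (FLFH8.stdSec (N + 1) U k) =
      rF M (le_top : q ⁻¹ᵁ U ≤ ⊤) (show Γ(M, ⊤) from msec q M N ρ₀ τ₀ k) := by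
  refine (Groth.Agent.GrTw.adj_symm_cUV q (aHom q M N ρ₀ τ₀) U (FLFH8.stdSec (N + 1) U k)).trans ?_
  unfold FLFH8.stdSec aHom
  refine Eq.trans ?_ (SDivGenH8.unitHom_app_one ((pushforward q).obj M) (msec q M N ρ₀ τ₀ k) U)
  rw [← SDivGenH8.ι_freeHom ((pushforward q).obj M) (msec q M N ρ₀ τ₀) k]
  rfl

theorem isGen_msec (k : Fin (N + 1)) :
    IsGen M (ρ₀ ⁻¹ᵁ Proj.basicOpen (CohB1.polyGrading N (ULift.{u} ℤ)) (MvPolynomial.X k))
      (rF M le_top (show Γ(M, ⊤) from msec q M N ρ₀ τ₀ k)) := by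
  have h1 := TensH8.isGen_of_iso τ₀ (isGen_psec
    (CohB1.polyGrading N (ULift.{u} ℤ)) ρ₀ (hcov N) (hX N k) le_rfl)
  unfold psec at h1
  rw [ap_rF] at h1
  exact h1

instance epi_sHom : Epi (sHom q M N ρ₀ τ₀) := by
  refine epi_of_gen q _ M _ fun x => ?_
  obtain ⟨k, hk⟩ := hcovX N (ρ₀ x)
  refine ⟨⊤, FLFH8.stdSec (N + 1) ⊤ k,
    ρ₀ ⁻¹ᵁ Proj.basicOpen (CohB1.polyGrading N (ULift.{u} ℤ)) (MvPolynomial.X k),
    fun _ _ => trivial, hk, ?_⟩
  rw [sb_sHom, rF_rF]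
  exact isGen_msec q M N ρ₀ τ₀ k

end Setup

end Groth.Agent.PnVA
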