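import Mathlib
import Groth.Prelude
import Groth.Agent.Lib.UPB12_helper5
import Groth.Agent.Lib.VAmpPn2_helper5
import Groth.Agent.Lib.VAmpEpi1_helper5
import Groth.Agent.Lib.CanPhi2_helper5
import Groth.Agent.Lib.QCohFT_helper9

/-!
# The projective bundle `P(E)` of a finite type module over an affine base embeds in `P^n`  (helper5)
APPEND-ONLY once landed.

* `secHom M m : O_X ⟶ M` for a global section `m`, with `val_secHom`;
* `away_mem_subring`: `A_(f)` (`f` of degree one, `A` generated in degrees `0`, `1`) is generated as a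
  ring by the `ι a / 1` and the `j m / f`;
* `isRelVeryAmplePn_projBundle`: for `Y` affine and `E` quasi-coherent of finite type,
  `O_{P(E)}(1)` is very ample relative to `P(E) ⟶ Y` in the projective-space sense.
-/

set_option autoImplicit false
universe u
open CategoryTheory CategoryTheory.Limits AlgebraicGeometry TopologicalSpace Opposite
open HomogeneousLocalization
open scoped HomogeneousIdeal

noncomputable section

namespace Groth.Agent.VAPn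

open QcqsLoc QCohExtn Groth.Agent.GrTw Groth.Agent.RelProjTN Groth.Agent.SymSum Groth.Agent.SymGr
  GenLocH8 Groth.Agent.UPB Groth.Agent.SymAlg

section SecHom
variable {X : Scheme.{u}} (M : X.Modules)

/-- The morphism `O_X ⟶ M` attached to a global section of `M`. -/
def secHom (m : Γ(M, ⊤)) : Coh.structureModule X ⟶ M :=
  (SheafOfModules.unitHomEquiv M).symm
    (PresheafOfModules.sectionsMk (fun U => rF M (le_top : U.unop ≤ ⊤) m) (by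
      intro U V f
      exact rF_rF M (f.unop.le) le_top m))

theorem val_secHom (m : Γ(M, ⊤)) (U : X.Opens) :
    SecTwist.val (secHom M m) U = rF M (le_top : U ≤ ⊤) m := by
  have h := SheafOfModules.unitHomEquiv_apply_coe M (secHom M m) (op U)
  unfold secHom at h
  rw [Equiv.apply_symm_apply] at h
  exact h.symm

end SecHom

section Away
variable {A σ' : Type*} [CommRing A] [SetLike σ' A] [AddSubgroupClass σ' A] (𝒜 : ℕ → σ')
  [GradedRing 𝒜] {f : A} (hf : f ∈ 𝒜 1)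
variable {R M : Type*} [CommRing R] [AddCommGroup M] [Module R M] (ι : R →+* A) (j : M →+ A)
  (hι : ∀ a, ι a ∈ 𝒜 0) (hj : ∀ m, j m ∈ 𝒜 1)

include hι hj in
/-- **`A_(f)` is generated as a ring by the `ι a / 1` and the `j m / f`.** -/
theorem away_mem_subring
    (hgen : ∀ (d : ℕ) (x : A), x ∈ 𝒜 d → x ∈ AddSubgroup.closure (SymGr.Mon ι j d))
    (C : Subring (Away 𝒜 f))
    (h0 : ∀ a : R, mkn 𝒜 hf 0 (ι a) (hι a) ∈ C)
    (h1 : ∀ m : M, mkn 𝒜 hf 1 (j m) (hj m) ∈ C) (x : Away 𝒜 f) : x ∈ C := by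
  have hl : ∀ l : List M, ∃ hm : (l.map j).prod ∈ 𝒜 l.length,
      mkn 𝒜 hf l.length (l.map j).prod hm ∈ C := by
    intro l
    induction l with
    | nil =>
      refine ⟨by simpa using SetLike.GradedOne.one_mem (A := 𝒜), ?_⟩
      have e : mkn 𝒜 hf ([] : List M).length (([] : List M).map j).prod
          (by simpa using SetLike.GradedOne.one_mem (A := 𝒜)) = 1 :=
        (mkn_congr 𝒜 hf rfl (by simp) _ _).trans (mkn_one 𝒜 hf)
      rw [e]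
      exact C.one_mem
    | cons m l ih =>
      obtain ⟨hm, ih⟩ := ih
      have hm' : ((m :: l).map j).prod ∈ 𝒜 (m :: l).length := by
        rw [List.map_cons, List.prod_cons, List.length_cons, add_comm]
        exact SetLike.mul_mem_graded (hj m) hm
      refine ⟨hm', ?_⟩
      have e : mkn 𝒜 hf (m :: l).length ((m :: l).map j).prod hm' =
          mkn 𝒜 hf 1 (j m) (hj m) * mkn 𝒜 hf l.length (l.map j).prod hm :=
        (mkn_congr 𝒜 hf (by rw [List.length_cons, add_comm]) (by simp) _ _).trans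
          (mkn_mul 𝒜 hf 1 l.length (j m) (l.map j).prod (hj m) hm)
      rw [e]
      exact C.mul_mem (h1 m) ih
  obtain ⟨n, z, hz, rfl⟩ := mkn_surjective 𝒜 hf x
  have hcl := hgen n z hz
  have key : ∀ z ∈ AddSubgroup.closure (SymGr.Mon ι j n), ∃ hz : z ∈ 𝒜 n,
      mkn 𝒜 hf n z hz ∈ C := by
    intro z hz
    induction hz using AddSubgroup.closure_induction with
    | mem z hz =>
      obtain ⟨a, l, hln, rfl⟩ := hz
      obtain ⟨hm, hlm⟩ := hl l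
      have hm' : ι a * (l.map j).prod ∈ 𝒜 n := by
        have := SetLike.mul_mem_graded (hι a) hm
        rwa [zero_add, hln] at this
      refine ⟨hm', ?_⟩
      have e : mkn 𝒜 hf n (ι a * (l.map j).prod) hm' =
          mkn 𝒜 hf 0 (ι a) (hι a) * mkn 𝒜 hf l.length (l.map j).prod hm :=
        (mkn_congr 𝒜 hf (by rw [zero_add, hln]) rfl _ _).trans
          (mkn_mul 𝒜 hf 0 l.length (ι a) (l.map j).prod (hι a) hm)
      rw [e]
      exact C.mul_mem (h0 a) hlm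
    | zero => exact ⟨zero_mem _, by rw [mkn_zero]; exact C.zero_mem⟩
    | add a b _ _ ha hb =>
      obtain ⟨ha', ha⟩ := ha
      obtain ⟨hb', hb⟩ := hb
      exact ⟨add_mem ha' hb', by rw [mkn_add 𝒜 hf n a b ha' hb']; exact C.add_mem ha hb⟩
    | neg a _ ha =>
      obtain ⟨ha', ha⟩ := ha
      exact ⟨neg_mem ha', by rw [mkn_neg 𝒜 hf n a ha']; exact C.neg_mem ha⟩
  obtain ⟨_, h⟩ := key z hcl
  exact h

end Away

section Main
variable {Y P : Scheme.{u}} (E : Y.Modules) [E.IsQuasicoherent]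
  (𝒮 : RelProj.QCGrAlg Y) (j : E ⟶ 𝒮.toModule) (hj : RelProj.IsGrSymAlg E 𝒮 j) (p : P ⟶ Y)
  (chart : ∀ (U : Y.Opens) (hU : IsAffineOpen U),
    (((p ⁻¹ᵁ U : P.Opens) : Scheme.{u}) ≅ Proj (𝒮.deg U hU)))
  (hP : RelProj.IsRelProj 𝒮 p chart)
  (O1 : P.Modules)
  (lam : ∀ (U : Y.Opens) (hU : IsAffineOpen U),
    O1 ⟶ (Scheme.Modules.pushforward (RelProj.emb p chart U hU)).obj
      (GrTwist.twist (𝒮.deg U hU) 1))
  (hO1 : RelProj.IsRelTwist 𝒮 p chart 1 O1 lam)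
  (φ : E ⟶ (Scheme.Modules.pushforward p).obj O1)
  (hφ : ∀ (U : Y.Opens) (hU : IsAffineOpen U) (e : Γ(E, U))
    (y : ↥(RelProj.emb p chart U hU ⁻¹ᵁ (p ⁻¹ᵁ U))),
    GrTwist.val (V := RelProj.emb p chart U hU ⁻¹ᵁ (p ⁻¹ᵁ U))
        ((lam U hU).app (p ⁻¹ᵁ U) ((φ.app U) e)) y =
      algebraMap (𝒮.presheaf.obj (op U)) (GrTwist.Loc (𝒮.deg U hU) y.1)
        ((j.app U) e : 𝒮.presheaf.obj (op U)))
  (hY : IsAffineOpen (⊤ : Y.Opens))

/-- The global section `φ(e)` of `O_P(1)` attached to a global section `e` of `E`, as a morphism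
`O_P ⟶ O_P(1)`. -/
def tSec (e : Γ(E, ⊤)) : Coh.structureModule P ⟶ O1 :=
  secHom O1 (rF O1 (fun _ _ => trivial : (⊤ : P.Opens) ≤ p ⁻¹ᵁ ⊤) (phiSec E p O1 φ ⊤ e))

theorem val_tSec (e : Γ(E, ⊤)) (W : P.Opens) (hW : W ≤ p ⁻¹ᵁ ⊤) :
    SecTwist.val (tSec E p O1 φ e) W = rF O1 hW (phiSec E p O1 φ ⊤ e) := by
  unfold tSec
  rw [val_secHom, rF_rF]

include hj hO1 hφ in
/-- The locus where `φ(e)` generates `O_P(1)` is `D_+(j e)`. -/
theorem genLocus_tSec (e : Γ(E, ⊤)) :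
    CohB1.genLocus O1 (tSec E p O1 φ e) = WW E 𝒮 j p chart ⊤ hY e := by
  apply le_antisymm
  · intro x hx
    have hxU : x ∈ p ⁻¹ᵁ (⊤ : Y.Opens) := trivial
    obtain ⟨e'', he''⟩ := exists_mem_WW E 𝒮 j hj p chart ⊤ hY x hxU
    have hgen := isGen_phi E 𝒮 j hj p chart O1 lam hO1 φ hφ ⊤ hY e''
    have hrel := TT_j_smul E 𝒮 j hj p chart O1 lam hO1 φ hφ ⊤ hY e'' e
    have h1 := TensH8.genLocus_inf_eq (tSec E p O1 φ e) hgen
      (TT E 𝒮 j p chart ⊤ hY e'' (mkn (𝒮.deg ⊤ hY) (hj.2 ⊤ hY e'') 1 (jAdd E 𝒮.toQCAlg j ⊤ e)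
        (hj.2 ⊤ hY e)))
      (by rw [val_tSec E p O1 φ e _ (WW_le E 𝒮 j p chart ⊤ hY e'')]; exact hrel.symm)
    have h2 : x ∈ CohB1.genLocus O1 (tSec E p O1 φ e) ⊓ WW E 𝒮 j p chart ⊤ hY e'' := ⟨hx, he''⟩
    rw [h1] at h2
    exact basicOpen_TT_j_le E 𝒮 j hj p chart ⊤ hY e'' e h2
  · have hgen := isGen_phi E 𝒮 j hj p chart O1 lam hO1 φ hφ ⊤ hY e
    have h1 := TensH8.genLocus_inf_eq (tSec E p O1 φ e) hgen 1
      (by rw [val_tSec E p O1 φ e _ (WW_le E 𝒮 j p chart ⊤ hY e), one_smul])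
    intro x hx
    have h2 : x ∈ P.basicOpen (1 : Γ(P, WW E 𝒮 j p chart ⊤ hY e)) := by
      rw [Scheme.basicOpen_of_isUnit _ isUnit_one]
      exact hx
    rw [← h1] at h2
    exact h2.1

include hj hP hO1 hφ in
/-- Functions on `D_+(j e)` are generated by the functions from the base and the ratios
`φ(e')/φ(e)`, `e'` running through a generating set of `Γ(Y, E)`. -/
theorem mem_closure (G : Finset Γ(E, ⊤))
    (hG : Submodule.span Γ(Y, ⊤) (G : Set Γ(E, ⊤)) = ⊤) (e : Γ(E, ⊤))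
    (b : Γ(P, WW E 𝒮 j p chart ⊤ hY e)) :
    b ∈ Subring.closure
      (Set.range (p.appLE ⊤ (WW E 𝒮 j p chart ⊤ hY e) (WW_le E 𝒮 j p chart ⊤ hY e)).hom ∪
        {c | ∃ e' ∈ G, rF O1 (WW_le E 𝒮 j p chart ⊤ hY e) (phiSec E p O1 φ ⊤ e') =
          c • rF O1 (WW_le E 𝒮 j p chart ⊤ hY e) (phiSec E p O1 φ ⊤ e)}) := by
  obtain ⟨x, rfl⟩ := TT_surjective E 𝒮 j hj p chart ⊤ hY e b
  have hgen' : ∀ (d : ℕ) (x : 𝒮.presheaf.obj (op ⊤)), x ∈ 𝒮.deg ⊤ hY d →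
      x ∈ AddSubgroup.closure (SymGr.Mon (𝒮.str.app (op ⊤)).hom (jAdd E 𝒮.toQCAlg j ⊤) d) :=
    fun d x hx => deg_le_closure_mon (𝒮.str.app (op ⊤)).hom (jAdd E 𝒮.toQCAlg j ⊤)
      (symToA E 𝒮.toQCAlg j ⊤) (symToA_algebraMap E 𝒮.toQCAlg j ⊤) (symToA_ι E 𝒮.toQCAlg j ⊤)
      (𝒮.deg ⊤ hY) (fun a => 𝒮.str_mem ⊤ hY a) (fun m => hj.2 ⊤ hY m)
      (symToA_bijective E 𝒮 j hj ⊤ hY).2 d x hx
  have h0 : ∀ a : Γ(Y, ⊤), TT E 𝒮 j p chart ⊤ hY e (mkn (𝒮.deg ⊤ hY) (hj.2 ⊤ hY e) 0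
      ((𝒮.str.app (op ⊤)).hom a) (𝒮.str_mem ⊤ hY a)) ∈ Subring.closure
      (Set.range (p.appLE ⊤ (WW E 𝒮 j p chart ⊤ hY e) (WW_le E 𝒮 j p chart ⊤ hY e)).hom ∪
        {c | ∃ e' ∈ G, rF O1 (WW_le E 𝒮 j p chart ⊤ hY e) (phiSec E p O1 φ ⊤ e') =
          c • rF O1 (WW_le E 𝒮 j p chart ⊤ hY e) (phiSec E p O1 φ ⊤ e)}) := by
    intro a
    rw [TT_str E 𝒮 j hj p chart hP ⊤ hY e a]
    apply Subring.subset_closure
    left
    exact ⟨a, rfl⟩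
  have h1 : ∀ m : Γ(E, ⊤), TT E 𝒮 j p chart ⊤ hY e (mkn (𝒮.deg ⊤ hY) (hj.2 ⊤ hY e) 1
      (jAdd E 𝒮.toQCAlg j ⊤ m) (hj.2 ⊤ hY m)) ∈ Subring.closure
      (Set.range (p.appLE ⊤ (WW E 𝒮 j p chart ⊤ hY e) (WW_le E 𝒮 j p chart ⊤ hY e)).hom ∪
        {c | ∃ e' ∈ G, rF O1 (WW_le E 𝒮 j p chart ⊤ hY e) (phiSec E p O1 φ ⊤ e') =
          c • rF O1 (WW_le E 𝒮 j p chart ⊤ hY e) (phiSec E p O1 φ ⊤ e)}) := by
    intro m
    have hm : m ∈ Submodule.span Γ(Y, ⊤) (G : Set Γ(E, ⊤)) := by rw [hG]; trivial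
    induction hm using Submodule.span_induction with
    | mem m hm =>
      apply Subring.subset_closure
      right
      exact ⟨m, hm, (TT_j_smul E 𝒮 j hj p chart O1 lam hO1 φ hφ ⊤ hY e m).symm⟩
    | zero =>
      have e1 : mkn (f := jAdd E 𝒮.toQCAlg j ⊤ e) (𝒮.deg ⊤ hY) (hj.2 ⊤ hY e) 1 (jAdd E 𝒮.toQCAlg j ⊤ 0) (hj.2 ⊤ hY 0) =
          mkn (f := jAdd E 𝒮.toQCAlg j ⊤ e) (𝒮.deg ⊤ hY) (hj.2 ⊤ hY e) 1 0 (zero_mem _) :=
        mkn_congr (f := jAdd E 𝒮.toQCAlg j ⊤ e) (𝒮.deg ⊤ hY) (hj.2 ⊤ hY e) rfl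
          (map_zero (jAdd E 𝒮.toQCAlg j ⊤)) _ _
      rw [e1, mkn_zero, map_zero]
      exact Subring.zero_mem _
    | add a b _ _ ha hb =>
      have e1 : mkn (f := jAdd E 𝒮.toQCAlg j ⊤ e) (𝒮.deg ⊤ hY) (hj.2 ⊤ hY e) 1 (jAdd E 𝒮.toQCAlg j ⊤ (a + b))
          (hj.2 ⊤ hY (a + b)) =
          mkn (f := jAdd E 𝒮.toQCAlg j ⊤ e) (𝒮.deg ⊤ hY) (hj.2 ⊤ hY e) 1 (jAdd E 𝒮.toQCAlg j ⊤ a + jAdd E 𝒮.toQCAlg j ⊤ b)
            (add_mem (hj.2 ⊤ hY a) (hj.2 ⊤ hY b)) :=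
        mkn_congr (f := jAdd E 𝒮.toQCAlg j ⊤ e) (𝒮.deg ⊤ hY) (hj.2 ⊤ hY e) rfl
          (map_add (jAdd E 𝒮.toQCAlg j ⊤) a b) _ _
      rw [e1, mkn_add (f := jAdd E 𝒮.toQCAlg j ⊤ e) (𝒮.deg ⊤ hY) (hj.2 ⊤ hY e) 1
        (jAdd E 𝒮.toQCAlg j ⊤ a) (jAdd E 𝒮.toQCAlg j ⊤ b)
        (hj.2 ⊤ hY a) (hj.2 ⊤ hY b), map_add]
      exact Subring.add_mem _ ha hb
    | smul r m _ hm =>
      have e1 : mkn (f := jAdd E 𝒮.toQCAlg j ⊤ e) (𝒮.deg ⊤ hY) (hj.2 ⊤ hY e) 1 (jAdd E 𝒮.toQCAlg j ⊤ (r • m))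
          (hj.2 ⊤ hY (r • m)) =
          mkn (f := jAdd E 𝒮.toQCAlg j ⊤ e) (𝒮.deg ⊤ hY) (hj.2 ⊤ hY e) 0 ((𝒮.str.app (op ⊤)).hom r) (𝒮.str_mem ⊤ hY r) *
            mkn (f := jAdd E 𝒮.toQCAlg j ⊤ e) (𝒮.deg ⊤ hY) (hj.2 ⊤ hY e) 1 (jAdd E 𝒮.toQCAlg j ⊤ m) (hj.2 ⊤ hY m) :=
        (mkn_congr (f := jAdd E 𝒮.toQCAlg j ⊤ e) (𝒮.deg ⊤ hY) (hj.2 ⊤ hY e) (zero_add 1).symm
          (jAdd_smul E 𝒮.toQCAlg j ⊤ r m) _ _).trans
          (mkn_mul (f := jAdd E 𝒮.toQCAlg j ⊤ e) (𝒮.deg ⊤ hY) (hj.2 ⊤ hY e) 0 1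
            ((𝒮.str.app (op ⊤)).hom r) (jAdd E 𝒮.toQCAlg j ⊤ m) (𝒮.str_mem ⊤ hY r)
            (hj.2 ⊤ hY m))
      rw [e1, map_mul]
      exact Subring.mul_mem _ (h0 r) hm
  exact away_mem_subring (f := jAdd E 𝒮.toQCAlg j ⊤ e) (𝒮.deg ⊤ hY) (hj.2 ⊤ hY e)
    (𝒮.str.app (op ⊤)).hom
    (jAdd E 𝒮.toQCAlg j ⊤) (fun a => 𝒮.str_mem ⊤ hY a) (fun m => hj.2 ⊤ hY m) hgen'
    ((Subring.closure
      (Set.range (p.appLE ⊤ (WW E 𝒮 j p chart ⊤ hY e) (WW_le E 𝒮 j p chart ⊤ hY e)).hom ∪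
        {c | ∃ e' ∈ G, rF O1 (WW_le E 𝒮 j p chart ⊤ hY e) (phiSec E p O1 φ ⊤ e') =
          c • rF O1 (WW_le E 𝒮 j p chart ⊤ hY e) (phiSec E p O1 φ ⊤ e)})).comap
      (TT E 𝒮 j p chart ⊤ hY e)) h0 h1 x

include hj hP hO1 hφ hY in
/-- **`O_{P(E)}(1)` is very ample (projective-space form) over an affine base, `E` generated by
finitely many global sections.** -/
theorem isRelVeryAmplePn_of_span (G : Finset Γ(E, ⊤))
    (hG : Submodule.span Γ(Y, ⊤) (G : Set Γ(E, ⊤)) = ⊤) : RelAmple.IsRelVeryAmplePn p O1 := by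
  classical
  have hinv : PicF.IsInvertible O1 :=
    Groth.Agent.VAmpEpi.isInvertible_O1 𝒮 p chart E j hj 1 (by norm_num) O1 lam hO1
  refine Groth.Agent.VAmpPn.isRelVeryAmplePn_of_sections p O1 hinv (G.image (tSec E p O1 φ)) ?_
  intro x
  have hxU : x ∈ p ⁻¹ᵁ (⊤ : Y.Opens) := trivial
  obtain ⟨e, heG, hxe⟩ : ∃ e ∈ G, x ∈ WW E 𝒮 j p chart ⊤ hY e := by
    by_contra hcon
    push Not at hcon
    have hall : ∀ m : Γ(E, ⊤), jAdd E 𝒮.toQCAlg j ⊤ m ∈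
        (zpt p chart ⊤ hY x hxU).asHomogeneousIdeal := by
      intro m
      have hm : m ∈ Submodule.span Γ(Y, ⊤) (G : Set Γ(E, ⊤)) := by rw [hG]; trivial
      induction hm using Submodule.span_induction with
      | mem m hm =>
        by_contra h
        exact hcon m hm ((mem_WW_iff E 𝒮 j p chart ⊤ hY m x hxU).mpr h)
      | zero => rw [map_zero]; exact zero_mem _
      | add a b _ _ ha hb => rw [map_add]; exact add_mem ha hb
      | smul r m _ hm =>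
        rw [jAdd_smul]
        exact Ideal.mul_mem_left _ _ hm
    obtain ⟨e'', he''⟩ := exists_mem_WW E 𝒮 j hj p chart ⊤ hY x hxU
    exact (mem_WW_iff E 𝒮 j p chart ⊤ hY e'' x hxU).mp he'' (hall e'')
  refine ⟨tSec E p O1 φ e, Finset.mem_image_of_mem _ heG, WW E 𝒮 j p chart ⊤ hY e,
    genLocus_tSec E 𝒮 j hj p chart O1 lam hO1 φ hφ hY e, hxe,
    isAffineOpen_WW E 𝒮 j hj p chart ⊤ hY e, ⊤, hY, WW_le E 𝒮 j p chart ⊤ hY e, ?_⟩
  intro b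
  have h := mem_closure E 𝒮 j hj p chart hP O1 lam hO1 φ hφ hY G hG e b
  refine Subring.closure_mono ?_ h
  rintro c (hc | ⟨e', he', hc⟩)
  · exact Or.inl hc
  · refine Or.inr ⟨tSec E p O1 φ e', Finset.mem_image_of_mem _ he', ?_⟩
    rw [val_tSec E p O1 φ e' _ (WW_le E 𝒮 j p chart ⊤ hY e),
      val_tSec E p O1 φ e _ (WW_le E 𝒮 j p chart ⊤ hY e)]
    exact hc

end Main

section Final
variable {Y P : Scheme.{u}} [IsAffine Y] (E : Y.Modules) [E.IsQuasicoherent]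
  (𝒮 : RelProj.QCGrAlg Y) (j : E ⟶ 𝒮.toModule) (hj : RelProj.IsGrSymAlg E 𝒮 j) (p : P ⟶ Y)
  (chart : ∀ (U : Y.Opens) (hU : IsAffineOpen U),
    (((p ⁻¹ᵁ U : P.Opens) : Scheme.{u}) ≅ Proj (𝒮.deg U hU)))
  (hP : RelProj.IsRelProj 𝒮 p chart)
  (O1 : P.Modules)
  (lam : ∀ (U : Y.Opens) (hU : IsAffineOpen U),
    O1 ⟶ (Scheme.Modules.pushforward (RelProj.emb p chart U hU)).obj
      (GrTwist.twist (𝒮.deg U hU) 1))
  (hO1 : RelProj.IsRelTwist 𝒮 p chart 1 O1 lam)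

include hj hP hO1 in
/-- **For `Y` affine and `E` quasi-coherent of finite type, `O_{P(E)}(1)` is very ample relative
to `P(E) ⟶ Y` in the projective-space sense.** -/
theorem isRelVeryAmplePn_projBundle (hEft : CohB1.IsFT E) : RelAmple.IsRelVeryAmplePn p O1 := by
  obtain ⟨φ, hφ⟩ := Groth.Agent.CanPhi.exists_canPhi hP hO1 j hj.2
  haveI := hEft
  haveI : Module.Finite Γ(Y, ⊤) Γ(E, ⊤) := QCohFT.finite_of_isFiniteType E (isAffineOpen_top Y)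
  obtain ⟨G, hG⟩ := Module.finite_def.mp (inferInstance : Module.Finite Γ(Y, ⊤) Γ(E, ⊤))
  exact isRelVeryAmplePn_of_span E 𝒮 j hj p chart hP O1 lam hO1 φ hφ (isAffineOpen_top Y) G hG

end Final

end Groth.Agent.VAPn
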