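import Mathlib
import Groth.Prelude
import Groth.Agent.Lib.PnVA1_helper5
import Groth.Agent.Lib.VAPn1_helper5

/-!
# Very ample in the projective-space sense implies very ample, part 2  (helper5).
APPEND-ONLY once landed.
-/

set_option autoImplicit false
universe u
open CategoryTheory AlgebraicGeometry TopologicalSpace Opposite
open scoped HomogeneousIdeal

noncomputable section

namespace Groth.Agent.PnVA

open QcqsLoc QCohExtn GenLocH8 Scheme.Modules Groth.Agent.UPB Groth.Agent.GrTw Groth.Agent.RelProjTN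
  Groth.Agent.SymSum Groth.Agent.SymGr Groth.Agent.SymAlg Groth.Agent.ProjUPU Groth.Agent.VAmpPn

section Bundle
variable {Y P : Scheme.{u}} (N : ℕ)
  (𝒮 : RelProj.QCGrAlg Y) (j : FlatMod.freeMod Y (N + 1) ⟶ 𝒮.toModule)
  (hj : RelProj.IsGrSymAlg (FlatMod.freeMod Y (N + 1)) 𝒮 j) (p : P ⟶ Y)
  (chart : ∀ (U : Y.Opens) (hU : IsAffineOpen U),
    (((p ⁻¹ᵁ U : P.Opens) : Scheme.{u}) ≅ Proj (𝒮.deg U hU)))
  (O1 : P.Modules)
  (lam : ∀ (U : Y.Opens) (hU : IsAffineOpen U),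
    O1 ⟶ (Scheme.Modules.pushforward (RelProj.emb p chart U hU)).obj
      (GrTwist.twist (𝒮.deg U hU) 1))
  (hO1 : RelProj.IsRelTwist 𝒮 p chart 1 O1 lam)
  (φ : FlatMod.freeMod Y (N + 1) ⟶ (Scheme.Modules.pushforward p).obj O1)
  (hφ : ∀ (U : Y.Opens) (hU : IsAffineOpen U) (e : Γ(FlatMod.freeMod Y (N + 1), U))
    (y : ↥(RelProj.emb p chart U hU ⁻¹ᵁ (p ⁻¹ᵁ U))),
    GrTwist.val (V := RelProj.emb p chart U hU ⁻¹ᵁ (p ⁻¹ᵁ U))
        ((lam U hU).app (p ⁻¹ᵁ U) ((φ.app U) e)) y =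
      algebraMap (𝒮.presheaf.obj (op U)) (GrTwist.Loc (𝒮.deg U hU) y.1)
        ((j.app U) e : 𝒮.presheaf.obj (op U)))

/-- The global sections `φ(e_k)` of `O_P(1)`. -/
def tsec (k : Fin (N + 1)) : ProjUP.Γm O1 :=
  phiSec (FlatMod.freeMod Y (N + 1)) p O1 φ ⊤ (FLFH8.stdSec (N + 1) ⊤ k)

include hj hO1 hφ in
theorem generatedBy_tsec : ProjUP.GeneratedBy O1 (tsec N p O1 φ) := by
  haveI : (FlatMod.freeMod Y (N + 1)).IsQuasicoherent := SDivGenH8.isQuasicoherent_freeMod (N + 1)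
  apply generatedBy_of_isGen
  intro z
  obtain ⟨U, hU, hzU, -⟩ := Opens.isBasis_iff_nbhd.mp Y.isBasis_affineOpens
    (Opens.mem_top (p z))
  have hUa : IsAffineOpen U := hU
  have hz : z ∈ p ⁻¹ᵁ U := hzU
  obtain ⟨e, he⟩ := exists_mem_WW _ 𝒮 j hj p chart U hUa z hz
  obtain ⟨k, hk⟩ : ∃ k, z ∈ WW _ 𝒮 j p chart U hUa (FLFH8.stdSec (N + 1) U k) := by
    by_contra hcon
    push Not at hcon
    have hall : ∀ k, jAdd _ 𝒮.toQCAlg j U (FLFH8.stdSec (N + 1) U k) ∈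
        (zpt p chart U hUa z hz).asHomogeneousIdeal := fun k => by
      by_contra h
      exact hcon k ((mem_WW_iff _ 𝒮 j p chart U hUa _ z hz).mpr h)
    apply (mem_WW_iff _ 𝒮 j p chart U hUa e z hz).mp he
    rw [FLFH8.section_eq_sum_stdSec (N + 1) U e, map_sum]
    refine Ideal.sum_mem _ fun k _ => ?_
    rw [jAdd_smul]
    exact Ideal.mul_mem_left _ _ (hall k)
  refine ⟨k, WW _ 𝒮 j p chart U hUa (FLFH8.stdSec (N + 1) U k), hk, ?_⟩
  have h1 := isGen_phi _ 𝒮 j hj p chart O1 lam hO1 φ hφ U hUa (FLFH8.stdSec (N + 1) U k)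
  have h2 : QCohExtn.ap φ U (FLFH8.stdSec (N + 1) U k) =
      rF O1 (p.preimage_mono (le_top : U ≤ ⊤)) (tsec N p O1 φ k) := by
    rw [← FLFH8.rF_stdSec (N + 1) (le_top : U ≤ ⊤) k]
    exact ap_rF φ (le_top : U ≤ ⊤) (FLFH8.stdSec (N + 1) ⊤ k)
  rw [h2, rF_rF] at h1
  exact h1

end Bundle

section Match
variable {X Y P : Scheme.{u}} (q : X ⟶ Y) (M : X.Modules) (N : ℕ)
  (ρ₀ : X ⟶ Proj (CohB1.polyGrading N (ULift.{u} ℤ)))
  (τ₀ : (pullback ρ₀).obj (Twist.twist (CohB1.polyGrading N (ULift.{u} ℤ)) 1) ≅ M)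
  (p : P ⟶ Y) (O1 : P.Modules)
  (φ : FlatMod.freeMod Y (N + 1) ⟶ (Scheme.Modules.pushforward p).obj O1)
  (r : X ⟶ P) (hr : r ≫ p = q) (τ : (pullback r).obj O1 ⟶ M)
  (hτ : (pullbackCongr hr).inv.app _ ≫ (pullbackComp r p).inv.app _ ≫
    (pullback r).map (((pullbackPushforwardAdjunction p).homEquiv _ O1).symm φ) ≫ τ =
      sHom q M N ρ₀ τ₀)
  (ρ : P ⟶ Proj (CohB1.polyGrading N (ULift.{u} ℤ)))
  (τρ : (pullback ρ).obj (Twist.twist (CohB1.polyGrading N (ULift.{u} ℤ)) 1) ⟶ O1)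
  (hτρ : ∀ k, τρ.app ⊤ (ProjUP.pullSec ρ (Twist.twist (CohB1.polyGrading N (ULift.{u} ℤ)) 1)
    (sig (CohB1.polyGrading N (ULift.{u} ℤ)) (hX N k))) = tsec N p O1 φ k)

include hτ hτρ in
/-- The composite `(r ≫ ρ)^* O(1) ≅ r^* ρ^* O(1) ⟶ r^* O_P(1) ⟶ M` carries the pulled back
coordinates to the sections `m_k`. -/
theorem comp_app_pullSec (k : Fin (N + 1)) :
    ((pullbackComp r ρ).inv.app (Twist.twist (CohB1.polyGrading N (ULift.{u} ℤ)) 1) ≫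
        (pullback r).map τρ ≫ τ).app ⊤
      (ProjUP.pullSec (r ≫ ρ) (Twist.twist (CohB1.polyGrading N (ULift.{u} ℤ)) 1)
        (sig (CohB1.polyGrading N (ULift.{u} ℤ)) (hX N k))) =
      (show Γ(M, ⊤) from msec q M N ρ₀ τ₀ k) := by
  rw [app_pullSec]
  have hc := (compat_iff_aux ρ r (Twist.twist (CohB1.polyGrading N (ULift.{u} ℤ)) 1) O1 M
    ((pullbackPushforwardAdjunction ρ).homEquiv _ O1 τρ)
    ((pullbackPushforwardAdjunction r).homEquiv O1 M τ)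
    ((pullbackComp r ρ).inv.app (Twist.twist (CohB1.polyGrading N (ULift.{u} ℤ)) 1) ≫
        (pullback r).map τρ ≫ τ)).mp
    (by rw [Equiv.symm_apply_apply, Equiv.symm_apply_apply])
  rw [← hc]
  have h1 : QCohExtn.ap ((pullbackPushforwardAdjunction ρ).homEquiv _ O1 τρ) ⊤
      (sig (CohB1.polyGrading N (ULift.{u} ℤ)) (hX N k)) = tsec N p O1 φ k :=
    (app_pullSec ρ _ O1 τρ _).symm.trans (hτρ k)
  have h2 := Groth.Agent.VALoc.nu_open (FlatMod.freeMod Y (N + 1)) p O1 φ q M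
    (sHom q M N ρ₀ τ₀) r hr τ hτ ⊤ (FLFH8.stdSec (N + 1) ⊤ k)
  rw [sb_sHom, rF_rF] at h2
  show QCohExtn.ap ((pullbackPushforwardAdjunction r).homEquiv O1 M τ) (ρ ⁻¹ᵁ ⊤)
    (QCohExtn.ap ((pullbackPushforwardAdjunction ρ).homEquiv _ O1 τρ) ⊤
      (sig (CohB1.polyGrading N (ULift.{u} ℤ)) (hX N k))) = _
  rw [h1]
  refine h2.trans ?_
  exact SubExt.rF_self M _ _

end Match

section Main

/-- **Very ample in the projective-space sense implies very ample** (EGA II 4.4.2 remark): an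
immersion into `P^N_Y` pulling `O(1)` back to `M` gives an immersion into `P(O_Y^{N+1})` pulling
`O(1)` back to `M`. -/
theorem isRelVeryAmple_of_isRelVeryAmplePn {X Y : Scheme.{u}} (q : X ⟶ Y) (M : X.Modules)
    (hM : PicF.IsInvertible M) (h : RelAmple.IsRelVeryAmplePn q M) :
    RelProj.IsRelVeryAmple q M := by
  obtain ⟨N, i, hi, hiq, ⟨eM⟩⟩ := h
  obtain ⟨ρ₀, hρ₀, ⟨τ₀⟩⟩ : ∃ ρ₀ : X ⟶ Proj (CohB1.polyGrading N (ULift.{u} ℤ)),
      i ≫ pr1 N Y = ρ₀ ∧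
      Nonempty ((pullback ρ₀).obj (Twist.twist (CohB1.polyGrading N (ULift.{u} ℤ)) 1) ≅ M) :=
    ⟨i ≫ pr1 N Y, rfl,
      ⟨((pullbackComp i (pr1 N Y)).symm.app
        (Twist.twist (CohB1.polyGrading N (ULift.{u} ℤ)) 1)) ≪≫ eM.symm⟩⟩
  haveI hqc : (FlatMod.freeMod Y (N + 1)).IsQuasicoherent :=
    SDivGenH8.isQuasicoherent_freeMod (N + 1)
  obtain ⟨𝒮, j, hj, P, p, chart, hP, O1, lam, hO1, φ, hφ, hO1inv, -⟩ :=
    Groth.Agent.PBundle.exists_projBundle (FlatMod.freeMod Y (N + 1))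
  obtain ⟨r, hr, τ, hτ⟩ := exists_r_tau _ 𝒮 j hj p chart hP O1 lam hO1 φ hφ q M hM
    (sHom q M N ρ₀ τ₀)
  have hgen := generatedBy_tsec N 𝒮 j hj p chart O1 lam hO1 φ hφ
  obtain ⟨ρ, -, τρ, hτρ⟩ := Groth.Agent.S3572.result (R := ULift.{u} ℤ) N
    (specULiftZIsTerminal.from P) O1 hO1inv (tsec N p O1 φ) hgen
  have key : r ≫ ρ = ρ₀ := by
    refine Groth.Agent.S3573.result N (r ≫ ρ) ρ₀ (specULiftZIsTerminal.hom_ext _ _)
      ((((pullbackComp r ρ).symm.app (Twist.twist (CohB1.polyGrading N (ULift.{u} ℤ)) 1)) ≪≫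
        (pullback r).mapIso τρ ≪≫ τ) ≪≫ τ₀.symm) fun k => ?_
    have h1 := comp_app_pullSec q M N ρ₀ τ₀ p O1 φ r hr τ.hom hτ ρ τρ.hom hτρ k
    refine (congrArg (fun z => τ₀.inv.app ⊤ z) h1).trans ?_
    show (τ₀.hom ≫ τ₀.inv).app ⊤ _ = _
    rw [Iso.hom_inv_id]
    rfl
  obtain ⟨i', hi'1, hi'2⟩ : ∃ i' : P ⟶ CohB1.ProjSpaceOver N Y,
      i' ≫ pr1 N Y = ρ ∧ i' ≫ pr2 N Y = p :=
    ⟨Limits.pullback.lift ρ p (specULiftZIsTerminal.hom_ext _ _),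
      Limits.pullback.lift_fst _ _ _, Limits.pullback.lift_snd _ _ _⟩
  have hri : r ≫ i' = i := by
    apply Limits.pullback.hom_ext
    · have h1 : (r ≫ i') ≫ pr1 N Y = i ≫ pr1 N Y := by
        rw [Category.assoc, hi'1]
        exact key.trans hρ₀.symm
      exact h1
    · have h2 : (r ≫ i') ≫ pr2 N Y = i ≫ pr2 N Y := by
        rw [Category.assoc, hi'2, hr]
        exact hiq.symm
      exact h2
  haveI : IsImmersion (r ≫ i') := by
    rw [hri]; exact hi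
  haveI : IsImmersion r := IsImmersion.of_comp r i'
  exact ⟨_, hqc, 𝒮, j, hj, P, p, chart, hP, O1, lam, hO1, r, inferInstance, hr, ⟨τ.symm⟩⟩

end Main

end Groth.Agent.PnVA
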