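import Mathlib
import Groth.Prelude
import Groth.Agent.Lib.ProjUP1_helper5

/-!
# Pull-back of the twisting sheaves along the morphism induced by a graded ring map (helper5)

Restriction of modules to open subschemes and generators, the transition functions of `O(n)`,
the sections of `Proj.awayι`, and the chart computation of `Φ^♯`.  APPEND-ONLY once landed.
-/

set_option autoImplicit false
universe u
open CategoryTheory CategoryTheory.Limits AlgebraicGeometry TopologicalSpace Opposite DirectSum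
open HomogeneousLocalization QcqsLoc GenLocH8 TensH8 PBH8

namespace Groth.Agent.ProjPB

open Groth.Agent.GrTw Groth.Agent.GStar

section Restrict
variable {X Y : Scheme.{u}} (ι : X ⟶ Y) [IsOpenImmersion ι] (M : Y.Modules)

theorem restrict_smul (U : X.Opens) (c : Γ(X, U)) (s : Γ(M.restrict ι, U)) :
    c • s = (show Γ(M.restrict ι, U) from
      ((ι.appIso U).inv c) • (show Γ(M, ι ''ᵁ U) from s)) := rfl

theorem restrict_rF {U U' : X.Opens} (h : U' ≤ U) (s : Γ(M.restrict ι, U)) :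
    rF (M.restrict ι) h s = (show Γ(M.restrict ι, U') from
      rF M (ι.image_mono h) (show Γ(M, ι ''ᵁ U) from s)) := rfl

theorem isGen_restrict {U : X.Opens} {e : Γ(M, ι ''ᵁ U)} (he : IsGen M (ι ''ᵁ U) e) :
    IsGen (M.restrict ι) U (show Γ(M.restrict ι, U) from e) := by
  intro O hO
  obtain ⟨h1, h2⟩ := he (ι ''ᵁ O) (ι.image_mono hO)
  constructor
  · intro l
    obtain ⟨c', hc'⟩ := h1 (show Γ(M, ι ''ᵁ O) from l)
    refine ⟨(ι.appIso O).hom c', ?_⟩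
    rw [restrict_smul, restrict_rF]
    show (show Γ(M, ι ''ᵁ O) from l) = ((ι.appIso O).inv ((ι.appIso O).hom c')) • _
    rw [Iso.hom_inv_id_apply]
    exact hc'
  · intro c hc
    rw [restrict_smul, restrict_rF] at hc
    have h3 := h2 ((ι.appIso O).inv c) hc
    have h4 := congrArg (ι.appIso O).hom h3
    rwa [Iso.inv_hom_id_apply, map_zero] at h4

end Restrict


section OpenImm
variable {X Y : Scheme.{u}} (c : X ⟶ Y) [IsOpenImmersion c]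

theorem isIso_appLE_top (U : Y.Opens) (h : (⊤ : X.Opens) ≤ c ⁻¹ᵁ U) (hU : U ≤ c.opensRange) :
    IsIso (c.appLE U ⊤ h) := by
  have h1 : IsIso (c.app U) := c.isIso_app U hU
  have h2 : IsIso (X.presheaf.map (homOfLE h).op) := by
    have e : c ⁻¹ᵁ U = ⊤ := le_antisymm le_top h
    have : (homOfLE h).op = eqToHom (by rw [e]) := Subsingleton.elim _ _
    rw [this]
    infer_instance
  unfold Scheme.Hom.appLE
  infer_instance

theorem appLE_of_eq {q q' : X ⟶ Y} (hq : q = q') (U : Y.Opens) (V : X.Opens)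
    (e : V ≤ q ⁻¹ᵁ U) : q.appLE U V e = q'.appLE U V (hq ▸ e) := by
  subst hq; rfl

theorem appLE_top_top {q : X ⟶ Y} (e : (⊤ : X.Opens) ≤ q ⁻¹ᵁ ⊤) : q.appLE ⊤ ⊤ e = q.appTop := by
  rw [Scheme.Hom.appLE]
  exact (congrArg (fun z => q.app ⊤ ≫ z) (X.presheaf.map_id _)).trans (Category.comp_id _)

end OpenImm


section Away
variable {R A : Type u} [CommRing R] [CommRing A] [Algebra R A] (𝒜 : ℕ → Submodule R A)
  [GradedAlgebra 𝒜]

theorem top_le_awayι {d : ℕ} {f : A} (hf : f ∈ 𝒜 d) (hd : 0 < d) :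
    (⊤ : (Spec (CommRingCat.of (Away 𝒜 f))).Opens) ≤
      (Proj.awayι 𝒜 f hf hd) ⁻¹ᵁ (Proj.basicOpen 𝒜 f) := by
  intro y _
  have h : (Proj.awayι 𝒜 f hf hd) y ∈ (Proj.awayι 𝒜 f hf hd).opensRange := ⟨y, rfl⟩
  rw [Proj.opensRange_awayι] at h
  exact h

theorem awayToSection_appLE {d : ℕ} {f : A} (hf : f ∈ 𝒜 d) (hd : 0 < d) :
    Proj.awayToSection 𝒜 f ≫
      (Proj.awayι 𝒜 f hf hd).appLE (Proj.basicOpen 𝒜 f) ⊤ (top_le_awayι 𝒜 hf hd) =
      (Scheme.ΓSpecIso _).inv := by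
  have h1 : (Proj.awayι 𝒜 f hf hd).appLE (Proj.basicOpen 𝒜 f) ⊤ (top_le_awayι 𝒜 hf hd) =
      (Proj.basicOpen 𝒜 f).topIso.inv ≫ (Proj.basicOpenIsoSpec 𝒜 f hf hd).inv.appTop := by
    have e1 : (⊤ : (Proj.basicOpen 𝒜 f).toScheme.Opens) ≤
        (Proj.basicOpen 𝒜 f).ι ⁻¹ᵁ (Proj.basicOpen 𝒜 f) := by
      intro y _; exact y.2
    have e2 : (⊤ : (Spec (CommRingCat.of (Away 𝒜 f))).Opens) ≤
        (Proj.basicOpenIsoSpec 𝒜 f hf hd).inv ⁻¹ᵁ ⊤ := le_top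
    have h := Scheme.Hom.appLE_comp_appLE (Proj.basicOpenIsoSpec 𝒜 f hf hd).inv
      (Proj.basicOpen 𝒜 f).ι (Proj.basicOpen 𝒜 f) ⊤ ⊤ e1 e2
    have h' : (Proj.awayι 𝒜 f hf hd).appLE (Proj.basicOpen 𝒜 f) ⊤ (top_le_awayι 𝒜 hf hd) =
        ((Proj.basicOpenIsoSpec 𝒜 f hf hd).inv ≫ (Proj.basicOpen 𝒜 f).ι).appLE
          (Proj.basicOpen 𝒜 f) ⊤ (top_le_awayι 𝒜 hf hd) := rfl
    rw [h', ← h, Scheme.Opens.ι_appLE]
    congr 1
  have h2 := Proj.basicOpenToSpec_app_top 𝒜 f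
  have h3 : Proj.awayToSection 𝒜 f ≫ (Proj.basicOpen 𝒜 f).topIso.inv =
      (Scheme.ΓSpecIso _).inv ≫ (Proj.basicOpenIsoSpec 𝒜 f hf hd).hom.appTop := by
    rw [Proj.basicOpenIsoSpec_hom]
    show _ = _ ≫ (Proj.basicOpenToSpec 𝒜 f).app ⊤
    rw [h2]
    exact (Iso.inv_hom_id_assoc _ _).symm
  rw [h1, ← Category.assoc, h3, Category.assoc, ← Scheme.Hom.comp_appTop, Iso.inv_hom_id]
  simp

end Away



section Trans
variable {R A : Type u} [CommRing R] [CommRing A] [Algebra R A] (𝒜 : ℕ → Submodule R A)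
  [GradedAlgebra 𝒜]

theorem valO_rX {V W : (Proj 𝒜).Opens} (h : W ≤ V) (c : Γ(Proj 𝒜, V)) (y : W) :
    valO 𝒜 (rX h c) y = valO 𝒜 c ⟨y.1, h y.2⟩ := rfl

theorem valO_pow {V : (Proj 𝒜).Opens} (c : Γ(Proj 𝒜, V)) (k : ℕ) (y : V) :
    valO 𝒜 (c ^ k) y = valO 𝒜 c y ^ k := by
  induction k with
  | zero => rw [pow_zero, pow_zero]; exact valO_one 𝒜 y
  | succ k ih => rw [pow_succ, pow_succ, valO_mul, ih]

/-- The transition function `(f/f')^n` on `W ⊆ D_+(f) ∩ D_+(f')`. -/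
noncomputable def trans {f f' : A} (hf : f ∈ 𝒜 1) (hf' : f' ∈ 𝒜 1) (n : ℤ) {W : (Proj 𝒜).Opens}
    (hW : W ≤ Proj.basicOpen 𝒜 f) (hW' : W ≤ Proj.basicOpen 𝒜 f') : Γ(Proj 𝒜, W) :=
  (rX hW' (ProjTw.ratio 𝒜 hf' hf)) ^ n.toNat * (rX hW (ProjTw.ratio 𝒜 hf hf')) ^ (-n).toNat

theorem rF_genSecK_eq {f f' : A} (hf : f ∈ 𝒜 1) (hf' : f' ∈ 𝒜 1) (n : ℤ) {W : (Proj 𝒜).Opens}
    (hW : W ≤ Proj.basicOpen 𝒜 f) (hW' : W ≤ Proj.basicOpen 𝒜 f') :
    rF (Twist.twist 𝒜 n) hW (ProjTw.genSecK 𝒜 hf n n (by simp)) =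
      trans 𝒜 hf hf' n hW hW' •
        rF (Twist.twist 𝒜 n) hW' (ProjTw.genSecK 𝒜 hf' n n (by simp)) := by
  apply Subtype.ext
  funext y
  apply Subtype.ext
  refine Eq.trans ?_ (ProjTw.smul_valN 𝒜 n (op W) (trans 𝒜 hf hf' n hW hW')
    (rF (Twist.twist 𝒜 n) hW' (ProjTw.genSecK 𝒜 hf' n n (by simp))) y).symm
  have hv : valO 𝒜 (trans 𝒜 hf hf' n hW hW') y =
      (Localization.mk f ⟨f' ^ 1, show f' ^ 1 ∈ y.1.asHomogeneousIdeal.toIdeal.primeCompl from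
        fun h => hW' y.2 (y.1.isPrime.mem_of_pow_mem _ h)⟩ : GrTwist.Loc 𝒜 y.1) ^ n.toNat *
      (Localization.mk f' ⟨f ^ 1, show f ^ 1 ∈ y.1.asHomogeneousIdeal.toIdeal.primeCompl from
        fun h => hW y.2 (y.1.isPrime.mem_of_pow_mem _ h)⟩ : GrTwist.Loc 𝒜 y.1) ^ (-n).toNat := by
    unfold trans
    rw [valO_mul, valO_pow, valO_pow, valO_rX, valO_rX]
    rfl
  have hv' : ((show Twist.O (𝒜 := 𝒜) (op W) from trans 𝒜 hf hf' n hW hW').1 y).val =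
      valO 𝒜 (trans 𝒜 hf hf' n hW hW') y := rfl
  rw [hv', hv]
  show Localization.mk _ _ = _ * Localization.mk _ _
  rw [Localization.mk_pow, Localization.mk_pow, Localization.mk_mul, Localization.mk_mul,
    Localization.mk_eq_mk_iff, Localization.r_iff_exists]
  refine ⟨1, ?_⟩
  simp only [Submonoid.coe_mul, Submonoid.coe_one, one_mul, SubmonoidClass.coe_pow]
  ring

end Trans


section Charts
variable {R A B : Type u} [CommRing R] [CommRing A] [Algebra R A] {𝒜 : ℕ → Submodule R A}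
  [GradedAlgebra 𝒜] [CommRing B] [Algebra R B] {ℬ : ℕ → Submodule R B} [GradedAlgebra ℬ]
  (φ : 𝒜 →+*ᵍ ℬ)

/-- The open `D_+(φ f) ∩ G(φ)` of `G(φ)`. -/
noncomputable abbrev Of (f : A) : (PCone.dom φ).toScheme.Opens :=
  (PCone.dom φ).ι ⁻¹ᵁ Proj.basicOpen ℬ (φ f)

theorem chart_ι {d : ℕ} {f : A} (hf : f ∈ 𝒜 d) (hd : 0 < d) :
    PCone.chart φ hf hd ≫ (PCone.dom φ).ι = Proj.awayι ℬ (φ f) (φ.2 hf) hd :=
  IsOpenImmersion.lift_fac _ _ _

instance {d : ℕ} {f : A} (hf : f ∈ 𝒜 d) (hd : 0 < d) : IsOpenImmersion (PCone.chart φ hf hd) := by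
  haveI : IsOpenImmersion (PCone.chart φ hf hd ≫ (PCone.dom φ).ι) := by
    rw [chart_ι]; infer_instance
  exact IsOpenImmersion.of_comp _ (PCone.dom φ).ι

theorem opensRange_chart {d : ℕ} {f : A} (hf : f ∈ 𝒜 d) (hd : 0 < d) :
    (PCone.chart φ hf hd).opensRange = Of φ f := by
  ext x
  constructor
  · rintro ⟨y, rfl⟩
    show (PCone.dom φ).ι (PCone.chart φ hf hd y) ∈ Proj.basicOpen ℬ (φ f)
    have h1 : (PCone.dom φ).ι (PCone.chart φ hf hd y) =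
        (PCone.chart φ hf hd ≫ (PCone.dom φ).ι) y := rfl
    rw [h1, chart_ι, ← Proj.opensRange_awayι ℬ (φ f) (φ.2 hf) hd]
    exact ⟨y, rfl⟩
  · intro hx
    have hx' : (PCone.dom φ).ι x ∈ Proj.basicOpen ℬ (φ f) := hx
    rw [← Proj.opensRange_awayι ℬ (φ f) (φ.2 hf) hd] at hx'
    obtain ⟨y, hy⟩ := hx'
    refine ⟨y, ?_⟩
    apply (PCone.dom φ).ι.isOpenEmbedding.injective
    have h1 : (PCone.dom φ).ι (PCone.chart φ hf hd y) =
        (PCone.chart φ hf hd ≫ (PCone.dom φ).ι) y := rfl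
    rw [h1, chart_ι]
    exact hy

variable (p : (PCone.dom φ : Scheme.{u}) ⟶ Proj 𝒜)

/-- The chart condition for one `f`. -/
def HP {d : ℕ} {f : A} (hf : f ∈ 𝒜 d) (hd : 0 < d) : Prop :=
  PCone.chart φ hf hd ≫ p =
    Spec.map (CommRingCat.ofHom (HomogeneousLocalization.Away.map φ f)) ≫ Proj.awayι 𝒜 f hf hd

variable {φ p}

theorem Of_le {d : ℕ} {f : A} {hf : f ∈ 𝒜 d} {hd : 0 < d} (hp : HP φ p hf hd) :
    Of φ f ≤ p ⁻¹ᵁ Proj.basicOpen 𝒜 f := by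
  intro x hx
  rw [← opensRange_chart φ hf hd] at hx
  obtain ⟨y, rfl⟩ := hx
  show p (PCone.chart φ hf hd y) ∈ Proj.basicOpen 𝒜 f
  have h1 : p (PCone.chart φ hf hd y) = (PCone.chart φ hf hd ≫ p) y := rfl
  rw [h1, hp, ← Proj.opensRange_awayι 𝒜 f hf hd]
  exact ⟨_, rfl⟩

end Charts

end Groth.Agent.ProjPB
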