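import Mathlib
import Groth.Prelude.Def_RelProj4
import Groth.Agent.Lib.ProjQ5_helper5
import Groth.Agent.Lib.GrTwO_helper5
import Groth.Agent.Lib.ProjKer_helper5
import Groth.Agent.Lib.ProjPB1_helper5

/-!
# Functions pulled back along `Proj(u) : G(u) ⟶ Proj(𝒮)`: the fraction `β / α` goes to the
function `c` with `u(β) = c · u(α)` (helper5).
APPEND-ONLY once landed.
-/

set_option autoImplicit false
universe u
open AlgebraicGeometry CategoryTheory CategoryTheory.Limits HomogeneousLocalization Opposite TopologicalSpace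
open scoped HomogeneousIdeal

noncomputable section

namespace Groth.Agent.ProjQ

open Groth.Agent.ConeImm Groth.Agent.RelProjTN RelProj Groth.Agent.GrTw

section Alg
variable {A B σ τ : Type u} [CommRing A] [SetLike σ A] [AddSubgroupClass σ A] [CommRing B]
  [SetLike τ B] [AddSubgroupClass τ B] {𝒜 : ℕ → σ} [GradedRing 𝒜] {ℬ : ℕ → τ} [GradedRing ℬ]

theorem away_map_mk_eq_fromZero (ψ : 𝒜 →+*ᵍ ℬ) {m : ℕ} {α β : A} (hα : α ∈ 𝒜 m)
    (hβ : β ∈ 𝒜 (1 • m)) (b₀ : ℬ 0) (h : ψ β = (b₀ : B) * ψ α) :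
    Away.map ψ α (Away.mk 𝒜 hα 1 β hβ) =
      fromZeroRingHom ℬ (Submonoid.powers (ψ α)) b₀ := by
  rw [Away.map_mk]
  apply HomogeneousLocalization.val_injective
  rw [Away.val_mk]
  show _ = Localization.mk (b₀ : B) 1
  rw [Localization.mk_eq_mk_iff, Localization.r_iff_exists]
  refine ⟨1, ?_⟩
  simp only [OneMemClass.coe_one, one_mul, pow_one]
  rw [h, mul_comm]

end Alg

section Sch

theorem fromSpec_appLE_top {X : Scheme.{u}} {U : X.Opens} (hU : IsAffineOpen U) (Ω : X.Opens)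
    (h : U ≤ Ω) (e : (⊤ : (Spec Γ(X, U)).Opens) ≤ hU.fromSpec ⁻¹ᵁ Ω) :
    hU.fromSpec.appLE Ω ⊤ e =
      X.presheaf.map (homOfLE h).op ≫ (Scheme.ΓSpecIso Γ(X, U)).inv := by
  rw [Scheme.Hom.appLE, hU.fromSpec_app_of_le Ω h, Category.assoc, Category.assoc,
    ← Functor.map_comp]
  have : (homOfLE (le_top : hU.fromSpec ⁻¹ᵁ Ω ≤ ⊤)).op ≫ (homOfLE e).op = 𝟙 _ :=
    Subsingleton.elim _ _
  rw [this, CategoryTheory.Functor.map_id, Category.comp_id]

theorem specMap_appLE_top {R S : CommRingCat.{u}} (φ : R ⟶ S)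
    (e : (⊤ : (Spec S).Opens) ≤ Spec.map φ ⁻¹ᵁ ⊤) :
    (Spec.map φ).appLE ⊤ ⊤ e = (Spec.map φ).appTop := by
  rw [Scheme.Hom.appLE]
  simp

theorem specMap_fromSpec_appLE {X : Scheme.{u}} {U : X.Opens} (hU : IsAffineOpen U)
    {R : CommRingCat.{u}} (φ : Γ(X, U) ⟶ R) (Ω : X.Opens) (h : U ≤ Ω)
    (e : (⊤ : (Spec R).Opens) ≤ (Spec.map φ ≫ hU.fromSpec) ⁻¹ᵁ Ω) :
    (Spec.map φ ≫ hU.fromSpec).appLE Ω ⊤ e =
      X.presheaf.map (homOfLE h).op ≫ φ ≫ (Scheme.ΓSpecIso R).inv := by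
  have e1 : (⊤ : (Spec Γ(X, U)).Opens) ≤ hU.fromSpec ⁻¹ᵁ Ω := by
    intro z _
    have hz : hU.fromSpec.base z ∈ hU.fromSpec.opensRange := ⟨z, rfl⟩
    rw [hU.opensRange_fromSpec] at hz
    exact h hz
  rw [← Scheme.Hom.appLE_comp_appLE _ _ Ω ⊤ ⊤ e1 le_top, fromSpec_appLE_top hU Ω h e1,
    specMap_appLE_top, Category.assoc, ← Scheme.ΓSpecIso_inv_naturality]

end Sch

section Main
variable {Y Y' P P' : Scheme.{u}} {g : Y' ⟶ Y} {𝒮 : RelProj.QCGrAlg Y} {𝒮' : RelProj.QCGrAlg Y'}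
  (u : RelProj.QGrHom g 𝒮 𝒮')
  {p : P ⟶ Y}
  {chart : ∀ (U : Y.Opens) (hU : IsAffineOpen U), (((p ⁻¹ᵁ U : P.Opens) : Scheme.{u}) ≅ Proj (𝒮.deg U hU))}
  {p' : P' ⟶ Y'}
  {chart' : ∀ (U : Y'.Opens) (hU : IsAffineOpen U),
    (((p' ⁻¹ᵁ U : P'.Opens) : Scheme.{u}) ≅ Proj (𝒮'.deg U hU))}

/-- The standard chart followed by the projection to `Y'`. -/
theorem cP_comp_p' (hP' : RelProj.IsRelProj 𝒮' p' chart') (j : Idx g 𝒮) :
    cP u p' chart' j ≫ p' =
      Spec.map (𝒮'.strZero j.U' j.hU' ≫ CommRingCat.ofHom (fromZeroRingHom (𝒮'.deg j.U' j.hU')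
        (Submonoid.powers (u.gradedAt j.U j.hU j.U' j.hU' j.hle j.f)))) ≫ j.hU'.fromSpec := by
  unfold cP RelProj.awayEmb
  rw [Category.assoc, emb_comp hP', Proj.awayι_toSpecZero_assoc, Spec.map_comp, Category.assoc]

/-- **Functions along `Proj(u)`**: if `u(β) = c · u(α)` then the pullback of the fraction `β / α`
is `c`; stated through values. -/
theorem valO_projQMapOn (hP' : RelProj.IsRelProj 𝒮' p' chart')
    (v : ((RelProj.domQ u p' chart' : P'.Opens) : Scheme.{u}) ⟶ P) [IsOpenImmersion v]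
    (hv : RelProj.IsProjQMapOn u p chart p' chart' (RelProj.domQ u p' chart') v)
    (U : Y.Opens) (hU : IsAffineOpen U) {m : ℕ} (hm : 0 < m)
    (α β : 𝒮.presheaf.obj (op U)) (hα : α ∈ 𝒮.deg U hU m) (hβ : β ∈ 𝒮.deg U hU m)
    (Q : ((RelProj.domQ u p' chart' : P'.Opens) : Scheme.{u}).Opens)
    (ΩP : P.Opens) (ΩY : Y'.Opens) (hQP : Q ≤ v ⁻¹ᵁ ΩP)
    (hQY : Q ≤ ((RelProj.domQ u p' chart').ι ≫ p') ⁻¹ᵁ ΩY)
    (hQY' : ((RelProj.domQ u p' chart').ι ≫ p') ⁻¹ᵁ ΩY ≤ Q)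
    (cP' : Γ(P, ΩP)) (cY : Γ(Y', ΩY))
    (hc : (v.appLE ΩP Q hQP).hom cP' =
      (((RelProj.domQ u p' chart').ι ≫ p').appLE ΩY Q hQY).hom cY)
    (hΩ : ΩY ≤ g ⁻¹ᵁ U)
    (hrel : (u.appLE U ΩY hΩ).hom β =
      (𝒮'.str.app (op ΩY)).hom cY * (u.appLE U ΩY hΩ).hom α)
    (y : ((RelProj.domQ u p' chart' : P'.Opens) : Scheme.{u})) (hy : y ∈ Q)
    (x : ProjectiveSpectrum (𝒮.deg U hU))
    (hx : (RelProj.emb p chart U hU).base x = v.base y) (hαx : α ∉ x.asHomogeneousIdeal)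
    (hxΩ : (RelProj.emb p chart U hU).base x ∈ ΩP) :
    valO (𝒮.deg U hU) (((RelProj.emb p chart U hU).app ΩP).hom cP')
        ⟨x, hxΩ⟩ = Localization.mk β ⟨α, hαx⟩ := by
  have hξ : p'.base y.1 ∈ ΩY := hQY hy
  obtain ⟨U', hU'aff, hξU', hU'Ω⟩ := Opens.isBasis_iff_nbhd.mp Y'.isBasis_affineOpens hξ
  have hU' : IsAffineOpen U' := hU'aff
  have hle : U' ≤ g ⁻¹ᵁ U := hU'Ω.trans hΩ
  let jx : Idx g 𝒮 := ⟨U, hU, U', hU', hle, m, hm, α, hα⟩
  have hyU' : y.1 ∈ p' ⁻¹ᵁ U' := hξU'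
  have hvy : v.base y ∈ p ⁻¹ᵁ U := by
    rw [← hx]; exact mem_of_emb U hU x
  have hz : zpt p chart U hU (v.base y) hvy = x := by
    apply (RelProj.emb p chart U hU).isOpenEmbedding.injective
    rw [emb_zpt]; exact hx.symm
  have h1 : zpt p chart U hU (v.base y) hvy ∈ Proj.basicOpen (𝒮.deg U hU) α := by
    rw [hz, Proj.mem_basicOpen]; exact hαx
  have h2 := (projQ_mem_basicOpen_iff u hP' _ rfl v hv y U hU U' hU' hle hyU' hvy hm hα).mp h1
  obtain ⟨w, hw⟩ := mem_range_c_of_cP u jx y ((mem_range_cP_iff u jx y.1 hyU').mpr h2)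
  -- the chart map into `Proj 𝒮(U)`
  let ψ' : CommRingCat.of (Away (𝒮.deg U hU) α) ⟶
      CommRingCat.of (Away (𝒮'.deg U' hU') (u.gradedAt U hU U' hU' hle α)) :=
    CommRingCat.ofHom (Away.map (u.gradedAt U hU U' hU' hle) α)
  let κ : C u jx ⟶ Proj (𝒮.deg U hU) := Spec.map ψ' ≫ Proj.awayι (𝒮.deg U hU) α hα hm
  have hκ : c u p' chart' jx ≫ v = κ ≫ RelProj.emb p chart U hU := by
    rw [c_comp_of_isProjQMapOn u v hv jx]
    show chartMap u p chart U hU U' hU' hle hm α hα = _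
    unfold chartMap
    rw [Category.assoc]
  haveI : IsOpenImmersion (κ ≫ RelProj.emb p chart U hU) := by
    rw [← hκ]; infer_instance
  haveI : IsOpenImmersion κ := IsOpenImmersion.of_comp κ (RelProj.emb p chart U hU)
  have hκpt : ∀ w' : C u jx, (RelProj.emb p chart U hU).base (κ.base w') =
      v.base ((c u p' chart' jx).base w') := fun w' =>
    (congrArg (fun q => q.base w') hκ).symm
  have hκw : κ.base w = x := by
    apply (RelProj.emb p chart U hU).isOpenEmbedding.injective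
    rw [hκpt w, hw]; exact hx.symm
  have hβ' : β ∈ 𝒮.deg U hU (1 • m) := by rw [one_smul]; exact hβ
  have hOD : κ.opensRange ≤ Proj.basicOpen (𝒮.deg U hU) α := by
    rintro _ ⟨w', rfl⟩
    have h3 : (Proj.awayι (𝒮.deg U hU) α hα hm).base ((Spec.map ψ').base w') ∈
        (Proj.awayι (𝒮.deg U hU) α hα hm).opensRange := ⟨_, rfl⟩
    rw [Proj.opensRange_awayι] at h3
    exact h3
  have hcQ : (⊤ : (C u jx).Opens) ≤ (c u p' chart' jx) ⁻¹ᵁ Q := by
    intro w' _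
    apply hQY'
    show p'.base ((c u p' chart' jx).base w').1 ∈ ΩY
    apply hU'Ω
    exact range_cP_subset u jx _ (mem_range_cP_of_c u jx _ ⟨w', rfl⟩)
  have hOE : κ.opensRange ≤ (RelProj.emb p chart U hU) ⁻¹ᵁ ΩP := by
    rintro _ ⟨w', rfl⟩
    show (RelProj.emb p chart U hU).base (κ.base w') ∈ ΩP
    rw [hκpt w']
    exact hQP (hcQ (Opens.mem_top w'))
  have htop : (⊤ : (C u jx).Opens) ≤ κ ⁻¹ᵁ κ.opensRange :=
    (Scheme.Hom.preimage_opensRange κ).ge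
  haveI := Groth.Agent.ProjPB.isIso_appLE_top κ κ.opensRange htop le_rfl
  have hinj : Function.Injective (κ.appLE κ.opensRange ⊤ htop).hom :=
    (ConcreteCategory.bijective_of_isIso (κ.appLE κ.opensRange ⊤ htop)).1
  have hxO : x ∈ κ.opensRange := ⟨w, hκw⟩
  -- the two sections agree on the range of the chart
  have key : (QcqsLoc.rX hOE (((RelProj.emb p chart U hU).app ΩP).hom cP')) =
      QcqsLoc.rX hOD (fracO (𝒮.deg U hU) hα 1 β hβ') := by
    apply hinj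
    -- left side
    have eA : (⊤ : (C u jx).Opens) ≤ (κ ≫ RelProj.emb p chart U hU) ⁻¹ᵁ ΩP := by
      intro w' _
      show (RelProj.emb p chart U hU).base (κ.base w') ∈ ΩP
      rw [hκpt w']
      exact hQP (hcQ (Opens.mem_top w'))
    have eA' : (⊤ : (C u jx).Opens) ≤ κ ⁻¹ᵁ ((RelProj.emb p chart U hU) ⁻¹ᵁ ΩP) := eA
    have L1 : (κ.appLE κ.opensRange ⊤ htop).hom
        (QcqsLoc.rX hOE (((RelProj.emb p chart U hU).app ΩP).hom cP')) =
        ((κ ≫ RelProj.emb p chart U hU).appLE ΩP ⊤ eA).hom cP' := by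
      have h3 := Scheme.Hom.map_appLE κ htop (homOfLE hOE).op
      have h4 := Scheme.Hom.comp_appLE κ (RelProj.emb p chart U hU) ΩP ⊤ eA
      rw [h4]
      have h5 := congrArg (fun q => q.hom (((RelProj.emb p chart U hU).app ΩP).hom cP')) h3
      exact h5
    have eB : (⊤ : (C u jx).Opens) ≤ (c u p' chart' jx ≫ v) ⁻¹ᵁ ΩP := by
      rw [hκ]; exact eA
    have L2 : ((κ ≫ RelProj.emb p chart U hU).appLE ΩP ⊤ eA).hom cP' =
        ((c u p' chart' jx).appLE Q ⊤ hcQ).hom ((v.appLE ΩP Q hQP).hom cP') := by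
      have h3 := Groth.Agent.PullbackLocal.appLE_congr hκ.symm ΩP ⊤ eA eB
      rw [h3, ← Scheme.Hom.appLE_comp_appLE (c u p' chart' jx) v ΩP Q ⊤ hQP hcQ]
      rfl
    have hcomp : c u p' chart' jx ≫ (RelProj.domQ u p' chart').ι ≫ p' =
        Spec.map (𝒮'.strZero U' hU' ≫ CommRingCat.ofHom (fromZeroRingHom (𝒮'.deg U' hU')
          (Submonoid.powers (u.gradedAt U hU U' hU' hle α)))) ≫ hU'.fromSpec := by
      rw [← Category.assoc, c_ι]
      exact cP_comp_p' u hP' jx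
    have eC : (⊤ : (C u jx).Opens) ≤
        (c u p' chart' jx ≫ (RelProj.domQ u p' chart').ι ≫ p') ⁻¹ᵁ ΩY := by
      intro w' _
      exact hQY (hcQ (Opens.mem_top w'))
    have eC' : (⊤ : (C u jx).Opens) ≤
        (Spec.map (𝒮'.strZero U' hU' ≫ CommRingCat.ofHom (fromZeroRingHom (𝒮'.deg U' hU')
          (Submonoid.powers (u.gradedAt U hU U' hU' hle α)))) ≫ hU'.fromSpec) ⁻¹ᵁ ΩY := by
      rw [← hcomp]; exact eC
    have L3 : ((c u p' chart' jx).appLE Q ⊤ hcQ).hom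
        ((((RelProj.domQ u p' chart').ι ≫ p').appLE ΩY Q hQY).hom cY) =
        (Scheme.ΓSpecIso _).inv.hom ((𝒮'.strZero U' hU' ≫ CommRingCat.ofHom
          (fromZeroRingHom (𝒮'.deg U' hU') (Submonoid.powers (u.gradedAt U hU U' hU' hle α)))).hom
            ((Y'.presheaf.map (homOfLE hU'Ω).op).hom cY)) := by
      have h3 := Scheme.Hom.appLE_comp_appLE (c u p' chart' jx)
        ((RelProj.domQ u p' chart').ι ≫ p') ΩY Q ⊤ hQY hcQ
      have h4 := Groth.Agent.PullbackLocal.appLE_congr hcomp ΩY ⊤ eC eC'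
      have h5 := specMap_fromSpec_appLE hU' (𝒮'.strZero U' hU' ≫ CommRingCat.ofHom
          (fromZeroRingHom (𝒮'.deg U' hU') (Submonoid.powers (u.gradedAt U hU U' hU' hle α))))
        ΩY hU'Ω eC'
      have h6 := congrArg (fun q => q.hom cY) (h3.trans (h4.trans h5))
      exact h6
    -- right side
    have eD : (⊤ : (C u jx).Opens) ≤ κ ⁻¹ᵁ Proj.basicOpen (𝒮.deg U hU) α :=
      htop.trans (κ.preimage_mono hOD)
    have R1 : (κ.appLE κ.opensRange ⊤ htop).hom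
        (QcqsLoc.rX hOD (fracO (𝒮.deg U hU) hα 1 β hβ')) =
        (Scheme.ΓSpecIso _).inv.hom (ψ'.hom (Away.mk (𝒮.deg U hU) hα 1 β hβ')) := by
      have h3 := Scheme.Hom.map_appLE κ htop (homOfLE hOD).op
      have h4 := Scheme.Hom.appLE_comp_appLE (Spec.map ψ') (Proj.awayι (𝒮.deg U hU) α hα hm)
        (Proj.basicOpen (𝒮.deg U hU) α) ⊤ ⊤ (Groth.Agent.ProjKer.top_le_preimage_awayι _ hα hm)
        le_top
      have h5 := Groth.Agent.ProjKer.awayToSection_awayι_appLE (𝒮.deg U hU) hα hm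
      have h6 := Scheme.ΓSpecIso_inv_naturality ψ'
      have h7 : Proj.awayToSection (𝒮.deg U hU) α ≫ κ.appLE (Proj.basicOpen (𝒮.deg U hU) α) ⊤ eD =
          ψ' ≫ (Scheme.ΓSpecIso _).inv := by
        rw [h6, ← h5, Category.assoc]
        congr 1
      have h8 := congrArg (fun q => q.hom (Away.mk (𝒮.deg U hU) hα 1 β hβ')) h7
      have h9 := congrArg (fun q => q.hom (fracO (𝒮.deg U hU) hα 1 β hβ')) h3
      exact h9.trans h8
    rw [L1, L2, hc, L3, R1]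
    congr 1
    symm
    have hb : (u.gradedAt U hU U' hU' hle) β =
        (((𝒮'.strZero U' hU').hom ((Y'.presheaf.map (homOfLE hU'Ω).op).hom cY) :
          𝒮'.deg U' hU' 0) : 𝒮'.presheaf.obj (op U')) * (u.gradedAt U hU U' hU' hle) α := by
      have h3 := congrArg (𝒮'.presheaf.map (homOfLE hU'Ω).op).hom hrel
      rw [map_mul] at h3
      have h4 : ∀ t : 𝒮.presheaf.obj (op U), (𝒮'.presheaf.map (homOfLE hU'Ω).op).hom
          ((u.appLE U ΩY hΩ).hom t) = (u.gradedAt U hU U' hU' hle) t := fun t =>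
        congrArg (fun q => q.hom t) (u.toQHom.appLE_map hΩ hU'Ω)
      rw [h4, h4] at h3
      rw [h3, RelProj.QCGrAlg.strZero_apply_coe]
      congr 1
      exact congrArg (fun q => q.hom cY) (𝒮'.str.naturality (homOfLE hU'Ω).op).symm
    exact away_map_mk_eq_fromZero (u.gradedAt U hU U' hU' hle) hα hβ' _ hb
  have e1 := valO_rX (𝒮.deg U hU) hOE (((RelProj.emb p chart U hU).app ΩP).hom cP') ⟨x, hxO⟩
  have e2 := valO_rX (𝒮.deg U hU) hOD (fracO (𝒮.deg U hU) hα 1 β hβ') ⟨x, hxO⟩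
  rw [key] at e1
  refine e1.symm.trans (e2.trans ?_)
  rw [valO_fracO]
  apply Localization.mk_eq_mk_iff.mpr
  apply Localization.r_iff_exists.mpr
  refine ⟨1, ?_⟩
  simp only [OneMemClass.coe_one, one_mul, pow_one]

end Main

end Groth.Agent.ProjQ
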