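import Mathlib
import Groth.Prelude
import Groth.Agent.Lib.UPB12_helper5
import Groth.Agent.Lib.ProjQFun_helper5

/-!
# A local criterion for immersions: factor the restriction through a known immersion  (helper5)
APPEND-ONLY once landed.
-/

set_option autoImplicit false
universe u
open CategoryTheory AlgebraicGeometry TopologicalSpace Opposite

noncomputable section

namespace Groth.Agent.VATens

/-- Two morphisms into an affine open agreeing on its functions coincide. -/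
theorem eq_of_appLE_top {Z P : Scheme.{u}} (h₁ h₂ : Z ⟶ P) (W : P.Opens) (hW : IsAffineOpen W)
    (e₁ : (⊤ : Z.Opens) ≤ h₁ ⁻¹ᵁ W) (e₂ : (⊤ : Z.Opens) ≤ h₂ ⁻¹ᵁ W)
    (H : ∀ c : Γ(P, W), (h₁.appLE W ⊤ e₁).hom c = (h₂.appLE W ⊤ e₂).hom c) : h₁ = h₂ := by
  have h := Groth.Agent.UPB.ι_comp_eq_of_appLE h₁ h₂ W hW ⊤ e₁ e₂ H
  haveI : IsIso (⊤ : Z.Opens).ι := (Scheme.topIso Z).isIso_hom
  exact (cancel_epi _).mp h

/-- **Local factorisation criterion**: if over the affine open `W ⊆ Q` the morphism `r : X ⟶ Q`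
becomes, after a morphism `W ⟶ W_P ⊆ P` of affine schemes, the immersion `i : X ⟶ P`, then
`r ∣_ W` is an immersion. -/
theorem isImmersion_morphismRestrict {X P Q : Scheme.{u}} (r : X ⟶ Q) (i : X ⟶ P) [IsImmersion i]
    (W : Q.Opens) (hW : IsAffineOpen W) (WP : P.Opens) (hWP : IsAffineOpen WP)
    (hO : r ⁻¹ᵁ W ≤ i ⁻¹ᵁ WP) (Θ : Γ(P, WP) →+* Γ(Q, W))
    (H : ∀ c : Γ(P, WP), (r.appLE W (r ⁻¹ᵁ W) le_rfl).hom (Θ c) =
      (i.appLE WP (r ⁻¹ᵁ W) hO).hom c) :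
    IsImmersion (r ∣_ W) := by
  have e0 : (⊤ : (Spec Γ(Q, W)).Opens) ≤
      (Spec.map (CommRingCat.ofHom Θ) ≫ hWP.fromSpec) ⁻¹ᵁ WP := by
    intro z _
    have hz : hWP.fromSpec.base ((Spec.map (CommRingCat.ofHom Θ)).base z) ∈
        hWP.fromSpec.opensRange := ⟨_, rfl⟩
    rw [hWP.opensRange_fromSpec] at hz
    exact hz
  have hπ : (r ∣_ W) ≫ (hW.isoSpec.hom ≫ Spec.map (CommRingCat.ofHom Θ) ≫ hWP.fromSpec) =
      (r ⁻¹ᵁ W).ι ≫ i := by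
    have e1 : (⊤ : (r ⁻¹ᵁ W).toScheme.Opens) ≤
        ((r ∣_ W) ≫ (hW.isoSpec.hom ≫ Spec.map (CommRingCat.ofHom Θ) ≫ hWP.fromSpec)) ⁻¹ᵁ WP := by
      intro z _
      exact e0 (Opens.mem_top _)
    have e2 : (⊤ : (r ⁻¹ᵁ W).toScheme.Opens) ≤ ((r ⁻¹ᵁ W).ι ≫ i) ⁻¹ᵁ WP := by
      intro z _
      exact hO z.2
    refine eq_of_appLE_top _ _ WP hWP e1 e2 (fun c => ?_)
    -- the right-hand side
    have hR : ((r ⁻¹ᵁ W).ι ≫ i).appLE WP ⊤ e2 =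
        i.appLE WP (r ⁻¹ᵁ W) hO ≫ (r ⁻¹ᵁ W).ι.appLE (r ⁻¹ᵁ W) ⊤ (fun z _ => z.2) :=
      (Scheme.Hom.appLE_comp_appLE _ _ _ _ _ _ _).symm
    -- the left-hand side
    have e3 : (⊤ : (r ⁻¹ᵁ W).toScheme.Opens) ≤ (r ∣_ W) ⁻¹ᵁ ⊤ := le_rfl
    have e4 : (⊤ : W.toScheme.Opens) ≤ hW.isoSpec.hom ⁻¹ᵁ ⊤ := le_rfl
    have e5 : (⊤ : W.toScheme.Opens) ≤
        (hW.isoSpec.hom ≫ Spec.map (CommRingCat.ofHom Θ) ≫ hWP.fromSpec) ⁻¹ᵁ WP := by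
      intro z _
      exact e0 (Opens.mem_top _)
    have hL1 : ((r ∣_ W) ≫ (hW.isoSpec.hom ≫ Spec.map (CommRingCat.ofHom Θ) ≫
        hWP.fromSpec)).appLE WP ⊤ e1 =
        (hW.isoSpec.hom ≫ Spec.map (CommRingCat.ofHom Θ) ≫ hWP.fromSpec).appLE WP ⊤ e5 ≫
          (r ∣_ W).appLE ⊤ ⊤ e3 :=
      (Scheme.Hom.appLE_comp_appLE _ _ _ _ _ _ _).symm
    have hL2 : (hW.isoSpec.hom ≫ Spec.map (CommRingCat.ofHom Θ) ≫ hWP.fromSpec).appLE WP ⊤ e5 =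
        (Spec.map (CommRingCat.ofHom Θ) ≫ hWP.fromSpec).appLE WP ⊤ e0 ≫
          hW.isoSpec.hom.appLE ⊤ ⊤ e4 :=
      (Scheme.Hom.appLE_comp_appLE _ _ _ _ _ _ _).symm
    have hL3 := Groth.Agent.ProjQ.specMap_fromSpec_appLE hWP (CommRingCat.ofHom Θ) WP le_rfl e0
    have hL4 : hW.isoSpec.hom.appLE ⊤ ⊤ e4 = (Scheme.ΓSpecIso Γ(Q, W)).hom ≫ W.topIso.inv := by
      rw [← hW.isoSpec_hom_appTop]
      simp [Scheme.Hom.appLE]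
      exact Category.comp_id _
    have hL5 := morphismRestrict_appLE r W ⊤ ⊤ e3
    have hle : (r ⁻¹ᵁ W).ι ''ᵁ ⊤ ≤ r ⁻¹ᵁ W := by
      rintro _ ⟨z, -, rfl⟩
      exact z.2
    have hLHS : ((r ∣_ W) ≫ (hW.isoSpec.hom ≫ Spec.map (CommRingCat.ofHom Θ) ≫
        hWP.fromSpec)).appLE WP ⊤ e1 =
        CommRingCat.ofHom Θ ≫ r.appLE W ((r ⁻¹ᵁ W).ι ''ᵁ ⊤) hle := by
      rw [hL1, hL2, hL3, hL4, hL5]
      have a1 : P.presheaf.map (homOfLE (le_refl WP)).op = 𝟙 _ := by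
        rw [show (homOfLE (le_refl WP)).op = 𝟙 (op WP) from Subsingleton.elim _ _,
          P.presheaf.map_id]
      have a2 : W.topIso.inv ≫ r.appLE (W.ι ''ᵁ ⊤) ((r ⁻¹ᵁ W).ι ''ᵁ ⊤)
          ((Set.image_mono e3).trans (image_morphismRestrict_preimage r W ⊤).le) =
          r.appLE W ((r ⁻¹ᵁ W).ι ''ᵁ ⊤) hle :=
        Scheme.Hom.map_appLE r _ _
      simp only [Category.assoc, a1, Category.id_comp]
      congr 1
      exact (Iso.inv_hom_id_assoc (Scheme.ΓSpecIso Γ(Q, W)) _).trans a2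
    have hRHS : ((r ⁻¹ᵁ W).ι ≫ i).appLE WP ⊤ e2 =
        i.appLE WP ((r ⁻¹ᵁ W).ι ''ᵁ ⊤) (hle.trans hO) := by
      rw [hR, Scheme.Opens.ι_appLE]
      exact Scheme.Hom.appLE_map i hO _
    rw [hLHS, hRHS]
    have h1 := congrArg (X.presheaf.map (homOfLE hle).op).hom (H c)
    have h2 : r.appLE W (r ⁻¹ᵁ W) le_rfl ≫ X.presheaf.map (homOfLE hle).op =
        r.appLE W ((r ⁻¹ᵁ W).ι ''ᵁ ⊤) hle := Scheme.Hom.appLE_map r _ _
    have h3 : i.appLE WP (r ⁻¹ᵁ W) hO ≫ X.presheaf.map (homOfLE hle).op =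
        i.appLE WP ((r ⁻¹ᵁ W).ι ''ᵁ ⊤) (hle.trans hO) := Scheme.Hom.appLE_map i _ _
    rw [← h2, ← h3]
    exact h1
  haveI : IsImmersion ((r ∣_ W) ≫ (hW.isoSpec.hom ≫ Spec.map (CommRingCat.ofHom Θ) ≫
      hWP.fromSpec)) := by
    rw [hπ]; infer_instance
  exact IsImmersion.of_comp (r ∣_ W) (hW.isoSpec.hom ≫ Spec.map (CommRingCat.ofHom Θ) ≫ hWP.fromSpec)

end Groth.Agent.VATens
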