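import Mathlib
import Groth.Prelude
import Groth.Agent.Lib.VATens5_helper5

/-!
# Morphisms from an affine open to a scheme defined by ring maps  (helper5).
APPEND-ONLY once landed.
-/

set_option autoImplicit false
universe u
open CategoryTheory AlgebraicGeometry TopologicalSpace Opposite

noncomputable section

namespace Groth.Agent.VATens

/-- The morphism `W ⟶ P` from an affine open `W ⊆ Q` landing in the affine open `W_P ⊆ P`,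
defined by a ring map `Γ(P, W_P) ⟶ Γ(Q, W)`. -/
def piOf {P Q : Scheme.{u}} {W : Q.Opens} (hW : IsAffineOpen W) {WP : P.Opens}
    (hWP : IsAffineOpen WP) (Θ : Γ(P, WP) →+* Γ(Q, W)) : (W : Scheme.{u}) ⟶ P :=
  hW.isoSpec.hom ≫ Spec.map (CommRingCat.ofHom Θ) ≫ hWP.fromSpec

section piOf
variable {P Q : Scheme.{u}} {W : Q.Opens} (hW : IsAffineOpen W) {WP : P.Opens}
  (hWP : IsAffineOpen WP) (Θ : Γ(P, WP) →+* Γ(Q, W))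

theorem top_le_piOf_preimage (Ω : P.Opens) (h : WP ≤ Ω) :
    (⊤ : W.toScheme.Opens) ≤ (piOf hW hWP Θ) ⁻¹ᵁ Ω := by
  intro z _
  have hz : hWP.fromSpec.base ((Spec.map (CommRingCat.ofHom Θ)).base (hW.isoSpec.hom.base z)) ∈
      hWP.fromSpec.opensRange := ⟨_, rfl⟩
  rw [hWP.opensRange_fromSpec] at hz
  exact h hz

/-- The functions of an open `Ω ⊇ W_P` pulled back along `piOf`. -/
theorem piOf_appLE (Ω : P.Opens) (h : WP ≤ Ω) :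
    (piOf hW hWP Θ).appLE Ω ⊤ (top_le_piOf_preimage hW hWP Θ Ω h) =
      P.presheaf.map (homOfLE h).op ≫ CommRingCat.ofHom Θ ≫ W.topIso.inv := by
  have e0 : (⊤ : (Spec Γ(Q, W)).Opens) ≤
      (Spec.map (CommRingCat.ofHom Θ) ≫ hWP.fromSpec) ⁻¹ᵁ Ω := by
    intro z _
    have hz : hWP.fromSpec.base ((Spec.map (CommRingCat.ofHom Θ)).base z) ∈
        hWP.fromSpec.opensRange := ⟨_, rfl⟩
    rw [hWP.opensRange_fromSpec] at hz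
    exact h hz
  have e4 : (⊤ : W.toScheme.Opens) ≤ hW.isoSpec.hom ⁻¹ᵁ ⊤ := le_rfl
  have hL2 : (piOf hW hWP Θ).appLE Ω ⊤ (top_le_piOf_preimage hW hWP Θ Ω h) =
      (Spec.map (CommRingCat.ofHom Θ) ≫ hWP.fromSpec).appLE Ω ⊤ e0 ≫
        hW.isoSpec.hom.appLE ⊤ ⊤ e4 :=
    (Scheme.Hom.appLE_comp_appLE _ _ _ _ _ _ _).symm
  have hL3 := Groth.Agent.ProjQ.specMap_fromSpec_appLE hWP (CommRingCat.ofHom Θ) Ω h e0
  have hL4 : hW.isoSpec.hom.appLE ⊤ ⊤ e4 = (Scheme.ΓSpecIso Γ(Q, W)).hom ≫ W.topIso.inv := by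
    rw [← hW.isoSpec_hom_appTop]
    simp [Scheme.Hom.appLE]
    exact Category.comp_id _
  rw [hL2, hL3, hL4]
  simp only [Category.assoc]
  congr 2
  exact Iso.inv_hom_id_assoc (Scheme.ΓSpecIso Γ(Q, W)) _

/-- **`r ∣_ W` followed by `piOf Θ` is `i`**, when `r^♯ ∘ Θ = i^♯`. -/
theorem restrict_comp_piOf {X : Scheme.{u}} (r : X ⟶ Q) (i : X ⟶ P)
    (hO : r ⁻¹ᵁ W ≤ i ⁻¹ᵁ WP)
    (H : ∀ c : Γ(P, WP), (r.appLE W (r ⁻¹ᵁ W) le_rfl).hom (Θ c) =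
      (i.appLE WP (r ⁻¹ᵁ W) hO).hom c) :
    (r ∣_ W) ≫ piOf hW hWP Θ = (r ⁻¹ᵁ W).ι ≫ i := by
  have e1 : (⊤ : (r ⁻¹ᵁ W).toScheme.Opens) ≤ ((r ∣_ W) ≫ piOf hW hWP Θ) ⁻¹ᵁ WP := by
    intro z _
    exact top_le_piOf_preimage hW hWP Θ WP le_rfl (Opens.mem_top _)
  have e2 : (⊤ : (r ⁻¹ᵁ W).toScheme.Opens) ≤ ((r ⁻¹ᵁ W).ι ≫ i) ⁻¹ᵁ WP := by
    intro z _
    exact hO z.2
  refine eq_of_appLE_top _ _ WP hWP e1 e2 (fun c => ?_)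
  have hR : ((r ⁻¹ᵁ W).ι ≫ i).appLE WP ⊤ e2 =
      i.appLE WP (r ⁻¹ᵁ W) hO ≫ (r ⁻¹ᵁ W).ι.appLE (r ⁻¹ᵁ W) ⊤ (fun z _ => z.2) :=
    (Scheme.Hom.appLE_comp_appLE _ _ _ _ _ _ _).symm
  have e3 : (⊤ : (r ⁻¹ᵁ W).toScheme.Opens) ≤ (r ∣_ W) ⁻¹ᵁ ⊤ := le_rfl
  have hL1 : ((r ∣_ W) ≫ piOf hW hWP Θ).appLE WP ⊤ e1 =
      (piOf hW hWP Θ).appLE WP ⊤ (top_le_piOf_preimage hW hWP Θ WP le_rfl) ≫
        (r ∣_ W).appLE ⊤ ⊤ e3 :=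
    (Scheme.Hom.appLE_comp_appLE _ _ _ _ _ _ _).symm
  have hL5 := morphismRestrict_appLE r W ⊤ ⊤ e3
  have hle : (r ⁻¹ᵁ W).ι ''ᵁ ⊤ ≤ r ⁻¹ᵁ W := by
    rintro _ ⟨z, -, rfl⟩
    exact z.2
  have hLHS : ((r ∣_ W) ≫ piOf hW hWP Θ).appLE WP ⊤ e1 =
      CommRingCat.ofHom Θ ≫ r.appLE W ((r ⁻¹ᵁ W).ι ''ᵁ ⊤) hle := by
    rw [hL1, piOf_appLE hW hWP Θ WP le_rfl, hL5]
    have a1 : P.presheaf.map (homOfLE (le_refl WP)).op = 𝟙 _ := by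
      rw [show (homOfLE (le_refl WP)).op = 𝟙 (op WP) from Subsingleton.elim _ _,
        P.presheaf.map_id]
    have a2 : W.topIso.inv ≫ r.appLE (W.ι ''ᵁ ⊤) ((r ⁻¹ᵁ W).ι ''ᵁ ⊤)
        ((Set.image_mono e3).trans (image_morphismRestrict_preimage r W ⊤).le) =
        r.appLE W ((r ⁻¹ᵁ W).ι ''ᵁ ⊤) hle :=
      Scheme.Hom.map_appLE r _ _
    simp only [Category.assoc, a1, Category.id_comp]
    congr 1
  have hRHS : ((r ⁻¹ᵁ W).ι ≫ i).appLE WP ⊤ e2 =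
      i.appLE WP ((r ⁻¹ᵁ W).ι ''ᵁ ⊤) (hle.trans hO) := by
    rw [hR, Scheme.Opens.ι_appLE]
    exact Scheme.Hom.appLE_map i hO _
  rw [hLHS, hRHS]
  have h1 := congrArg (X.presheaf.map (homOfLE hle).op).hom (H c)
  have h2 : r.appLE W (r ⁻¹ᵁ W) le_rfl ≫ X.presheaf.map (homOfLE hle).op =
      r.appLE W ((r ⁻¹ᵁ W).ι ''ᵁ ⊤) hle := Scheme.Hom.appLE_map r _ _
  have h3 : i.appLE WP (r ⁻¹ᵁ W) hO ≫ X.presheaf.map (homOfLE hle).op =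
      i.appLE WP ((r ⁻¹ᵁ W).ι ''ᵁ ⊤) (hle.trans hO) := Scheme.Hom.appLE_map i _ _
  rw [← h2, ← h3]
  exact h1

/-- **`piOf Θ` is a morphism over the base**, when `Θ` is compatible with the functions pulled
back from an affine open `U` of the base. -/
theorem piOf_comp_p {Y : Scheme.{u}} (pP : P ⟶ Y) (pQ : Q ⟶ Y) (U : Y.Opens)
    (hU : IsAffineOpen U) (hWPU : WP ≤ pP ⁻¹ᵁ U) (hWU : W ≤ pQ ⁻¹ᵁ U)
    (H : ∀ b : Γ(Y, U), Θ ((pP.appLE U WP hWPU).hom b) = (pQ.appLE U W hWU).hom b) :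
    piOf hW hWP Θ ≫ pP = W.ι ≫ pQ := by
  have e1 : (⊤ : W.toScheme.Opens) ≤ (piOf hW hWP Θ ≫ pP) ⁻¹ᵁ U := by
    intro z _
    exact top_le_piOf_preimage hW hWP Θ (pP ⁻¹ᵁ U) hWPU (Opens.mem_top z)
  have e2 : (⊤ : W.toScheme.Opens) ≤ (W.ι ≫ pQ) ⁻¹ᵁ U := by
    intro z _
    exact hWU z.2
  refine eq_of_appLE_top _ _ U hU e1 e2 (fun b => ?_)
  have hL : (piOf hW hWP Θ ≫ pP).appLE U ⊤ e1 =
      pP.appLE U (pP ⁻¹ᵁ U) le_rfl ≫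
        (piOf hW hWP Θ).appLE (pP ⁻¹ᵁ U) ⊤ (top_le_piOf_preimage hW hWP Θ _ hWPU) :=
    (Scheme.Hom.appLE_comp_appLE _ _ _ _ _ _ _).symm
  have hR : (W.ι ≫ pQ).appLE U ⊤ e2 =
      pQ.appLE U W hWU ≫ W.ι.appLE W ⊤ (fun z _ => z.2) :=
    (Scheme.Hom.appLE_comp_appLE _ _ _ _ _ _ _).symm
  rw [hL, hR, piOf_appLE hW hWP Θ _ hWPU, Scheme.Opens.ι_appLE]
  simp only [CommRingCat.hom_comp, RingHom.comp_apply, CommRingCat.hom_ofHom]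
  have h1 : (P.presheaf.map (homOfLE hWPU).op).hom ((pP.appLE U (pP ⁻¹ᵁ U) le_rfl).hom b) =
      (pP.appLE U WP hWPU).hom b := by
    have := congrArg (fun t => t.hom b) (Scheme.Hom.appLE_map pP (le_refl (pP ⁻¹ᵁ U))
      (homOfLE hWPU).op)
    exact this
  rw [h1, H b]
  rfl

end piOf

end Groth.Agent.VATens
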