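import Mathlib
import Groth.Prelude
import Groth.Agent.Lib.UPB17_helper5
import Groth.Agent.Lib.Tens29_helper8

/-!
# The tensor product of two quotients `q^*E ⟶ L`, `q^*E' ⟶ L'` as a map
`q^*(E ⊗ E') ⟶ L ⊗ L'`  (helper5).  APPEND-ONLY once landed.
-/

set_option autoImplicit false
universe u
open CategoryTheory AlgebraicGeometry TopologicalSpace Opposite
open scoped HomogeneousIdeal

noncomputable section

namespace Groth.Agent.VATens

open QcqsLoc QCohExtn GenLocH8 TensH8 Scheme.Modules Groth.Agent.UPB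

variable {X Y : Scheme.{u}} (q : X ⟶ Y) (E E' : Y.Modules) (L L' : X.Modules)
  (σ : (Scheme.Modules.pullback q).obj E ⟶ L) (σ' : (Scheme.Modules.pullback q).obj E' ⟶ L')

/-- The bilinear pairing `(e, e') ↦ σ♭(e) ⊗ σ'♭(e')`. -/
def bil : FLFH8.BilinData E E' ((Scheme.Modules.pushforward q).obj (CohB1.tensorMod L L')) where
  β U e e' := SecTwist.tmul L L' (q ⁻¹ᵁ U) (sb q E L σ U e) (sb q E' L' σ' U e')
  add_left U m m' n := by
    rw [sb_add]
    exact tmul_add_left L L' _ _ _ _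
  smul_left U r m n := by
    rw [sb_smul]
    exact tmul_smul_left L L' _ _ _ _
  add_right U m n n' := by
    rw [sb_add]
    exact tmul_add_right L L' _ _ _ _
  smul_right U r m n := by
    rw [sb_smul]
    exact tmul_smul_right L L' _ _ _ _
  natural {U V} h m n := by
    rw [← sb_res q E L σ h m, ← sb_res q E' L' σ' h n]
    exact rF_tmul L L' (q.preimage_mono h) _ _

/-- The map `E ⊗ E' ⟶ q_*(L ⊗ L')`. -/
def sFlat : CohB1.tensorMod E E' ⟶ (Scheme.Modules.pushforward q).obj (CohB1.tensorMod L L') :=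
  (bil q E E' L L' σ σ').toHom

theorem sFlat_tmul (U : Y.Opens) (e : Γ(E, U)) (e' : Γ(E', U)) :
    QCohExtn.ap (sFlat q E E' L L' σ σ') U (SecTwist.tmul E E' U e e') =
      (show Γ((Scheme.Modules.pushforward q).obj (CohB1.tensorMod L L'), U) from
        SecTwist.tmul L L' (q ⁻¹ᵁ U) (sb q E L σ U e) (sb q E' L' σ' U e')) :=
  (bil q E E' L L' σ σ').toHom_tmul U e e'

/-- The map `q^*(E ⊗ E') ⟶ L ⊗ L'`. -/
def sTens : (Scheme.Modules.pullback q).obj (CohB1.tensorMod E E') ⟶ CohB1.tensorMod L L' :=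
  ((Scheme.Modules.pullbackPushforwardAdjunction q).homEquiv _ _).symm (sFlat q E E' L L' σ σ')

theorem sb_sTens (U : Y.Opens) (e : Γ(E, U)) (e' : Γ(E', U)) :
    sb q (CohB1.tensorMod E E') (CohB1.tensorMod L L') (sTens q E E' L L' σ σ') U
        (SecTwist.tmul E E' U e e') =
      SecTwist.tmul L L' (q ⁻¹ᵁ U) (sb q E L σ U e) (sb q E' L' σ' U e') :=
  (Groth.Agent.GrTw.adj_symm_cUV q (sFlat q E E' L L' σ σ') U _).trans
    (sFlat_tmul q E E' L L' σ σ' U e e')


section Gen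
variable {q E L}

/-- **Local generation by the `σ♭(e)`**: for an epimorphism `σ : q^*E ⟶ L` onto an invertible
module, near every point of `q⁻¹U` (`U` affine) some `σ♭(e)`, `e ∈ Γ(E, U)`, generates `L`. -/
theorem exists_isGen_sb [E.IsQuasicoherent] (hL : PicF.IsInvertible L) [Epi σ] (U : Y.Opens)
    (hU : IsAffineOpen U) (x : X) (hx : x ∈ q ⁻¹ᵁ U) :
    ∃ (e : Γ(E, U)) (W : X.Opens) (hW : W ≤ q ⁻¹ᵁ U), x ∈ W ∧
      IsGen L W (rF L hW (sb q E L σ U e)) := by
  haveI : L.IsQuasicoherent := isQuasicoherent_of_isInvertible hL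
  obtain ⟨W₀, hW₀, hxW₀, hle, l, hl⟩ := exists_isGen_le hL x (q ⁻¹ᵁ U) hx
  -- the coefficient of `σ♭(e)` with respect to `l`
  have hc : ∀ e : Γ(E, U), ∃ c : Γ(X, W₀), rF L hle (sb q E L σ U e) = c • l :=
    fun e => hl.exists_coef _
  choose c hc using hc
  -- the coefficients generate the unit ideal
  have hone : (1 : Γ(X, W₀)) ∈ Ideal.span (Set.range c) := by
    obtain ⟨m, hm⟩ := QCohExact.app_surjective_of_epi σ hW₀ l
    have hmem : m ∈ Submodule.span Γ(X, W₀) (Set.range (PBH8.cUV q E hle)) := by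
      rw [PBH8.span_cUV q E hW₀ hU hle]; trivial
    have key : ∀ m ∈ Submodule.span Γ(X, W₀) (Set.range (PBH8.cUV q E hle)),
        ∃ a ∈ Ideal.span (Set.range c), QCohExtn.ap σ W₀ m = a • l := by
      intro m hm
      induction hm using Submodule.span_induction with
      | mem y hy =>
        obtain ⟨e, rfl⟩ := hy
        refine ⟨c e, Ideal.subset_span ⟨e, rfl⟩, ?_⟩
        rw [← hc e, rF_sb]
      | zero => exact ⟨0, zero_mem _, by rw [map_zero, zero_smul]⟩
      | add y z _ _ hy hz =>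
        obtain ⟨a, ha, hya⟩ := hy
        obtain ⟨b, hb, hzb⟩ := hz
        exact ⟨a + b, add_mem ha hb, by rw [map_add, hya, hzb, add_smul]⟩
      | smul t y _ hy =>
        obtain ⟨a, ha, hya⟩ := hy
        refine ⟨t * a, Ideal.mul_mem_left _ _ ha, ?_⟩
        rw [QCohExtn.ap_smul, hya, mul_smul]
    obtain ⟨a, ha, hma⟩ := key m hmem
    have h1 : a • l = (1 : Γ(X, W₀)) • l := by
      rw [one_smul, ← hma]; exact hm
    rw [← TensH8.IsGen.coef_ext hl h1]
    exact ha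
  -- some coefficient does not vanish at `x`
  obtain ⟨e, he⟩ : ∃ e : Γ(E, U), c e ∉ (hW₀.primeIdealOf ⟨x, hxW₀⟩).asIdeal := by
    by_contra hcon
    push Not at hcon
    have hle' : Ideal.span (Set.range c) ≤ (hW₀.primeIdealOf ⟨x, hxW₀⟩).asIdeal := by
      rw [Ideal.span_le]
      rintro _ ⟨e, rfl⟩
      exact hcon e
    exact (hW₀.primeIdealOf ⟨x, hxW₀⟩).isPrime.ne_top
      ((Ideal.eq_top_iff_one _).mpr (hle' hone))
  have hxe : x ∈ X.basicOpen (c e) := FLFH8.mem_basicOpen_of_notMem_prime hW₀ hxW₀ he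
  refine ⟨e, X.basicOpen (c e), (X.basicOpen_le (c e)).trans hle, hxe, ?_⟩
  have h2 : rF L ((X.basicOpen_le (c e)).trans hle) (sb q E L σ U e) =
      rX (X.basicOpen_le (c e)) (c e) • rF L (X.basicOpen_le (c e)) l := by
    rw [← rF_smul, ← hc e, rF_rF]
  rw [h2]
  exact isGen_smul_of_isUnit (hl.res _) (X.toRingedSpace.isUnit_res_basicOpen (c e))

end Gen


/-- **The tensor product of two invertible quotients is an epimorphism.** -/
theorem epi_sTens [E.IsQuasicoherent] [E'.IsQuasicoherent] (hL : PicF.IsInvertible L)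
    (hL' : PicF.IsInvertible L') [Epi σ] [Epi σ'] : Epi (sTens q E E' L L' σ σ') := by
  apply epi_of_locally_surjective
  intro U' m x hx
  obtain ⟨U, hU, hxU, -⟩ := Opens.isBasis_iff_nbhd.mp Y.isBasis_affineOpens
    (Opens.mem_top (q.base x))
  have hUa : IsAffineOpen U := hU
  obtain ⟨e, W, hW, hxW, hg⟩ := exists_isGen_sb σ hL U hUa x hxU
  obtain ⟨e', W', hW', hxW', hg'⟩ := exists_isGen_sb σ' hL' U hUa x hxU
  have hOU' : W ⊓ W' ⊓ U' ≤ U' := inf_le_right
  have hOW : W ⊓ W' ⊓ U' ≤ W := inf_le_left.trans inf_le_left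
  have hOW' : W ⊓ W' ⊓ U' ≤ W' := inf_le_left.trans inf_le_right
  have hOq : W ⊓ W' ⊓ U' ≤ q ⁻¹ᵁ U := hOW.trans hW
  have hgen : IsGen (CohB1.tensorMod L L') (W ⊓ W' ⊓ U')
      (SecTwist.tmul L L' (W ⊓ W' ⊓ U') (rF L hOq (sb q E L σ U e))
        (rF L' hOq (sb q E' L' σ' U e'))) := by
    refine isGen_tmul ?_ ?_
    · have := hg.res hOW
      rwa [rF_rF] at this
    · have := hg'.res hOW'
      rwa [rF_rF] at this
  obtain ⟨c, hc⟩ := hgen.exists_coef (rF (CohB1.tensorMod L L') hOU' m)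
  refine ⟨W ⊓ W' ⊓ U', hOU', ⟨⟨hxW, hxW'⟩, hx⟩,
    c • PBH8.cUV q (CohB1.tensorMod E E') hOq (SecTwist.tmul E E' U e e'), ?_⟩
  rw [QCohExtn.ap_smul, ← rF_sb, sb_sTens, rF_tmul, hc]

end Groth.Agent.VATens
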