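import Mathlib
import Groth.Prelude
import Groth.Agent.Lib.VATens1_helper5

/-!
# Bundled projective bundle data; the opens `D_+(e ⊗ e')` of `P(E ⊗ E')`  (helper5)
APPEND-ONLY once landed.
-/

set_option autoImplicit false
universe u
open CategoryTheory AlgebraicGeometry TopologicalSpace Opposite
open scoped HomogeneousIdeal

noncomputable section

namespace Groth.Agent.VATens

open QcqsLoc QCohExtn GenLocH8 TensH8 Scheme.Modules Groth.Agent.UPB Groth.Agent.SymSum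
  Groth.Agent.RelProjTN HomogeneousLocalization

/-- A projective bundle `P(E)` with its fundamental sheaf and canonical map `φ : E ⟶ p_* O(1)`. -/
structure PB {Y : Scheme.{u}} (E : Y.Modules) where
  𝒮 : RelProj.QCGrAlg Y
  j : E ⟶ 𝒮.toModule
  hj : RelProj.IsGrSymAlg E 𝒮 j
  P : Scheme.{u}
  p : P ⟶ Y
  chart : ∀ (U : Y.Opens) (hU : IsAffineOpen U),
    (((p ⁻¹ᵁ U : P.Opens) : Scheme.{u}) ≅ Proj (𝒮.deg U hU))
  hP : RelProj.IsRelProj 𝒮 p chart
  O1 : P.Modules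
  lam : ∀ (U : Y.Opens) (hU : IsAffineOpen U),
    O1 ⟶ (Scheme.Modules.pushforward (RelProj.emb p chart U hU)).obj
      (GrTwist.twist (𝒮.deg U hU) 1)
  hO1 : RelProj.IsRelTwist 𝒮 p chart 1 O1 lam
  φ : E ⟶ (Scheme.Modules.pushforward p).obj O1
  hφ : ∀ (U : Y.Opens) (hU : IsAffineOpen U) (e : Γ(E, U))
    (y : ↥(RelProj.emb p chart U hU ⁻¹ᵁ (p ⁻¹ᵁ U))),
    GrTwist.val (V := RelProj.emb p chart U hU ⁻¹ᵁ (p ⁻¹ᵁ U))
        ((lam U hU).app (p ⁻¹ᵁ U) ((φ.app U) e)) y =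
      algebraMap (𝒮.presheaf.obj (op U)) (GrTwist.Loc (𝒮.deg U hU) y.1)
        ((j.app U) e : 𝒮.presheaf.obj (op U))

/-- A morphism to `P(E)` over `Y` with its compatible `ν : O(1) ⟶ r_* L`. -/
structure PBMap {Y X : Scheme.{u}} {E : Y.Modules} (B : PB E) (q : X ⟶ Y) (L : X.Modules)
    (s : (Scheme.Modules.pullback q).obj E ⟶ L) where
  r : X ⟶ B.P
  hr : r ≫ B.p = q
  ν : B.O1 ⟶ (Scheme.Modules.pushforward r).obj L
  hν : ∀ (U : Y.Opens) (_ : IsAffineOpen U) (e : Γ(E, U)),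
    QCohExtn.ap ν (B.p ⁻¹ᵁ U) (phiSec E B.p B.O1 B.φ U e) =
      (show Γ((Scheme.Modules.pushforward r).obj L, B.p ⁻¹ᵁ U) from
        rF L (le_g B.p q r hr le_rfl) (sb q E L s U e))
  iso : IsIso (((Scheme.Modules.pullbackPushforwardAdjunction r).homEquiv B.O1 L).symm ν)

section basic
variable {Y X : Scheme.{u}} {E : Y.Modules} [E.IsQuasicoherent] (B : PB E)

/-- The open `D_+(j e)`. -/
abbrev PB.WW (U : Y.Opens) (hU : IsAffineOpen U) (e : Γ(E, U)) : B.P.Opens :=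
  UPB.WW E B.𝒮 B.j B.p B.chart U hU e

theorem PB.isInvertible_O1 : PicF.IsInvertible B.O1 :=
  Groth.Agent.VAmpEpi.isInvertible_O1 B.𝒮 B.p B.chart E B.j B.hj 1 (by norm_num) B.O1 B.lam B.hO1

variable {B} {q : X ⟶ Y} {L : X.Modules} {s : (Scheme.Modules.pullback q).obj E ⟶ L}
  (ρ : PBMap B q L s)

theorem PBMap.le_g {U : Y.Opens} {W : B.P.Opens} (hW : W ≤ B.p ⁻¹ᵁ U) : ρ.r ⁻¹ᵁ W ≤ q ⁻¹ᵁ U :=
  UPB.le_g B.p q ρ.r ρ.hr hW

/-- `s♭(e)` generates `L` over `r⁻¹(D_+(j e))`. -/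
theorem PBMap.isGen_sb (U : Y.Opens) (hU : IsAffineOpen U) (e : Γ(E, U)) :
    IsGen L (ρ.r ⁻¹ᵁ (B.WW U hU e))
      (rF L (ρ.le_g (WW_le E B.𝒮 B.j B.p B.chart U hU e)) (sb q E L s U e)) := by
  haveI := ρ.iso
  exact UPB.isGen_sb E B.𝒮 B.j B.hj B.p B.chart B.O1 B.lam B.hO1 B.φ B.hφ q L s ρ.r ρ.hr ρ.ν ρ.hν
    B.isInvertible_O1 U hU e

/-- If `s♭(e)` generates `L` near `x`, then `r(x) ∈ D_+(j e)`. -/
theorem PBMap.mem_WW_of_isGen (U : Y.Opens) (hU : IsAffineOpen U) (e : Γ(E, U)) (x : X)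
    (O : X.Opens) (hxO : x ∈ O) (hO : O ≤ q ⁻¹ᵁ U) (hgen : IsGen L O (rF L hO (sb q E L s U e))) :
    ρ.r x ∈ B.WW U hU e := by
  haveI := ρ.iso
  exact UPB.mem_WW_of_isGen E B.𝒮 B.j B.hj B.p B.chart B.O1 B.lam B.hO1 B.φ B.hφ q L s ρ.r ρ.hr
    ρ.ν ρ.hν B.isInvertible_O1 U hU e x O hxO hO hgen

end basic


section tensor
variable {Y X : Scheme.{u}} {E E' : Y.Modules} [E.IsQuasicoherent] [E'.IsQuasicoherent]

instance isQuasicoherent_tensorMod' : (CohB1.tensorMod E E').IsQuasicoherent :=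
  TensQCH8.isQuasicoherent_tensorMod E E'

/-- **The opens `D_+(e ⊗ e')` cover `P(E ⊗ E')`.** -/
theorem exists_mem_WW_tmul (B : PB (CohB1.tensorMod E E')) (U : Y.Opens) (hU : IsAffineOpen U)
    (z : B.P) (hz : z ∈ B.p ⁻¹ᵁ U) :
    ∃ (e : Γ(E, U)) (e' : Γ(E', U)), z ∈ B.WW U hU (SecTwist.tmul E E' U e e') := by
  obtain ⟨t, ht⟩ := exists_mem_WW (CohB1.tensorMod E E') B.𝒮 B.j B.hj B.p B.chart U hU z hz
  rw [mem_WW_iff (CohB1.tensorMod E E') B.𝒮 B.j B.p B.chart U hU t z hz] at ht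
  obtain ⟨w, rfl⟩ := (TensQCH8.eta_bijective E E' hU).2 t
  have key : ∀ w : TensQCH8.PU E E' U,
      jAdd (CohB1.tensorMod E E') B.𝒮.toQCAlg B.j U (eta E E' U w) ∉
        (zpt B.p B.chart U hU z hz).asHomogeneousIdeal →
      ∃ (e : Γ(E, U)) (e' : Γ(E', U)),
        jAdd (CohB1.tensorMod E E') B.𝒮.toQCAlg B.j U (SecTwist.tmul E E' U e e') ∉
          (zpt B.p B.chart U hU z hz).asHomogeneousIdeal := by
    intro w
    refine TensorProduct.induction_on w ?_ ?_ ?_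
    · intro h
      refine absurd ?_ h
      have e0 : jAdd (CohB1.tensorMod E E') B.𝒮.toQCAlg B.j U (eta E E' U 0) = 0 :=
        (congrArg _ (eta E E' U).map_zero).trans
          (jAdd (CohB1.tensorMod E E') B.𝒮.toQCAlg B.j U).map_zero
      exact (congrArg (· ∈ (zpt B.p B.chart U hU z hz).asHomogeneousIdeal) e0).mpr (zero_mem _)
    · intro e e' h
      exact ⟨e, e', h⟩
    · intro a b ha hb h
      have e1 : jAdd (CohB1.tensorMod E E') B.𝒮.toQCAlg B.j U (eta E E' U (a + b)) =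
          jAdd (CohB1.tensorMod E E') B.𝒮.toQCAlg B.j U (eta E E' U a) +
            jAdd (CohB1.tensorMod E E') B.𝒮.toQCAlg B.j U (eta E E' U b) :=
        (congrArg _ ((eta E E' U).map_add a b)).trans
          ((jAdd (CohB1.tensorMod E E') B.𝒮.toQCAlg B.j U).map_add _ _)
      replace h := (congrArg (· ∈ (zpt B.p B.chart U hU z hz).asHomogeneousIdeal) e1).mpr.mt h
      by_cases h1 : jAdd (CohB1.tensorMod E E') B.𝒮.toQCAlg B.j U (eta E E' U a) ∈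
          (zpt B.p B.chart U hU z hz).asHomogeneousIdeal
      · exact hb (fun h2 => h (add_mem h1 h2))
      · exact ha h1
  obtain ⟨e, e', h⟩ := key w ht
  exact ⟨e, e', (mem_WW_iff (CohB1.tensorMod E E') B.𝒮 B.j B.p B.chart U hU _ z hz).mpr h⟩

end tensor


section genTensor
variable {X : Scheme.{u}} {L L' : X.Modules}

/-- If `a ⊗ b` generates `L ⊗ L'` (both invertible), then `a` generates `L`. -/
theorem isGen_left_of_isGen_tmul (hL : PicF.IsInvertible L) (hL' : PicF.IsInvertible L')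
    {O : X.Opens} (a : Γ(L, O)) (b : Γ(L', O))
    (h : IsGen (CohB1.tensorMod L L') O (SecTwist.tmul L L' O a b)) : IsGen L O a := by
  apply isGen_of_cover
  intro x hx
  obtain ⟨W, -, hxW, hWO, l, hl⟩ := exists_isGen_le hL x O hx
  obtain ⟨W', -, hxW', hW'W, l', hl'⟩ := exists_isGen_le hL' x W hxW
  have hW'O : W' ≤ O := hW'W.trans hWO
  obtain ⟨c, hc⟩ := (hl.res hW'W).exists_coef (rF L hW'O a)
  obtain ⟨c', hc'⟩ := hl'.exists_coef (rF L' hW'O b)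
  have h1 := h.res hW'O
  rw [rF_tmul, hc, hc', tmul_smul_left, tmul_smul_right, ← mul_smul] at h1
  have hu : IsUnit (c * c') := isUnit_of_isGen_smul (isGen_tmul (hl.res hW'W) hl') h1
  have hcu : IsUnit c := isUnit_of_mul_isUnit_left hu
  refine ⟨W', hW'O, hxW', ?_⟩
  rw [hc]
  exact isGen_smul_of_isUnit (hl.res hW'W) hcu

end genTensor

end Groth.Agent.VATens
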