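import Mathlib
import Groth.Prelude
import Groth.Agent.Lib.VATens2_helper5

/-!
# The local factorisation `D_+(e ⊗ e') ⟶ D_+(e)` from `P(E ⊗ E')` to `P(E)`  (helper5)
APPEND-ONLY once landed.
-/

set_option autoImplicit false
universe u
open CategoryTheory AlgebraicGeometry TopologicalSpace Opposite
open scoped HomogeneousIdeal

noncomputable section

namespace Groth.Agent.VATens

open QcqsLoc QCohExtn GenLocH8 TensH8 Scheme.Modules Groth.Agent.UPB Groth.Agent.SymSum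
  Groth.Agent.RelProjTN HomogeneousLocalization Groth.Agent.SymAlg Groth.Agent.SymDeg
  Groth.Agent.SymGr

section algebra
variable {A B σA σB : Type*} [CommRing A] [SetLike σA A] [AddSubgroupClass σA A] (𝒜 : ℕ → σA)
  [GradedRing 𝒜] [CommRing B] [SetLike σB B] [AddSubgroupClass σB B] (ℬ : ℕ → σB) [GradedRing ℬ]

/-- The map `A_(f) ⟶ B_(f')` induced by a graded ring homomorphism `ψ` with `ψ f = f'`. -/
def awayMap (ψ : 𝒜 →+*ᵍ ℬ) {f : A} {f' : B} (h : ψ f = f') : Away 𝒜 f →+* Away ℬ f' :=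
  HomogeneousLocalization.map ψ (by
    rintro _ ⟨n, rfl⟩
    exact ⟨n, by rw [map_pow, h]⟩)

theorem awayMap_mkn (ψ : 𝒜 →+*ᵍ ℬ) {f : A} {f' : B} (h : ψ f = f') (hf : f ∈ 𝒜 1)
    (hf' : f' ∈ ℬ 1) (n : ℕ) (z : A) (hz : z ∈ 𝒜 n) :
    awayMap 𝒜 ℬ ψ h (mkn 𝒜 hf n z hz) = mkn ℬ hf' n (ψ z) (GradedFunLike.map_mem ψ hz) := by
  apply HomogeneousLocalization.val_injective
  rw [val_mkn]
  show Localization.mk (ψ z) ⟨ψ (f ^ n), _⟩ = _
  congr 1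
  apply Subtype.ext
  show ψ (f ^ n) = f' ^ n
  rw [map_pow, h]

end algebra


section psi
variable {Y : Scheme.{u}} {E E' : Y.Modules} [E.IsQuasicoherent] [E'.IsQuasicoherent]
  (BP : PB E) (BQ : PB (CohB1.tensorMod E E')) (U : Y.Opens) (hU : IsAffineOpen U)
  (e' : Γ(E', U))

/-- `x ↦ j_Q(x ⊗ e')`. -/
def lin : Γ(E, U) →+ BQ.𝒮.presheaf.obj (op U) :=
  (jAdd (CohB1.tensorMod E E') BQ.𝒮.toQCAlg BQ.j U).comp
    (AddMonoidHom.mk' (fun x => SecTwist.tmul E E' U x e')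
      (fun x y => tmul_add_left E E' U x y e'))

theorem lin_apply (x : Γ(E, U)) :
    lin BQ U e' x = jAdd (CohB1.tensorMod E E') BQ.𝒮.toQCAlg BQ.j U (SecTwist.tmul E E' U x e') :=
  rfl

theorem lin_smul (b : Γ(Y, U)) (x : Γ(E, U)) :
    lin BQ U e' (b • x) = (BQ.𝒮.str.app (op U)).hom b * lin BQ U e' x := by
  rw [lin_apply, lin_apply, tmul_smul_left]
  exact jAdd_smul (CohB1.tensorMod E E') BQ.𝒮.toQCAlg BQ.j U b _

/-- The ring map `Sym(E)(U) ⟶ Sym(E ⊗ E')(U)`, `x ↦ x ⊗ e'`. -/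
def psi0 : BP.𝒮.presheaf.obj (op U) →+* BQ.𝒮.presheaf.obj (op U) :=
  (symLift (BQ.𝒮.str.app (op U)).hom (lin BQ U e') (lin_smul BQ U e')).comp
    (symEquiv E BP.𝒮.toQCAlg BP.j (isSymOnAffines_of_isSymAlg E _ _ BP.hj.1) U hU).toRingHom

theorem psi0_str (b : Γ(Y, U)) :
    psi0 BP BQ U hU e' ((BP.𝒮.str.app (op U)).hom b) = (BQ.𝒮.str.app (op U)).hom b := by
  rw [← symToA_algebraMap E BP.𝒮.toQCAlg BP.j U b]
  show symLift _ _ _ (symEquiv E BP.𝒮.toQCAlg BP.j _ U hU (symToA E BP.𝒮.toQCAlg BP.j U _)) = _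
  rw [symEquiv_symToA, symLift_algebraMap]

theorem psi0_j (x : Γ(E, U)) :
    psi0 BP BQ U hU e' (jAdd E BP.𝒮.toQCAlg BP.j U x) =
      jAdd (CohB1.tensorMod E E') BQ.𝒮.toQCAlg BQ.j U (SecTwist.tmul E E' U x e') := by
  rw [jAdd_apply, ← symToA_ι E BP.𝒮.toQCAlg BP.j U x]
  show symLift _ _ _ (symEquiv E BP.𝒮.toQCAlg BP.j _ U hU (symToA E BP.𝒮.toQCAlg BP.j U _)) = _
  rw [symEquiv_symToA, symLift_ι]
  rfl

/-- `psi0` as a graded ring homomorphism. -/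
def psi : BP.𝒮.deg U hU →+*ᵍ BQ.𝒮.deg U hU :=
  { psi0 BP BQ U hU e' with
    map_mem := fun {d x} hx => map_mem_of_gen_sch E BP.𝒮 BP.j BP.hj U hU (BQ.𝒮.deg U hU)
      (psi0 BP BQ U hU e')
      (fun a => by rw [psi0_str]; exact BQ.𝒮.str_mem U hU a)
      (fun m => by rw [psi0_j]; exact BQ.hj.2 U hU _) d x hx }

theorem psi_apply (x : BP.𝒮.presheaf.obj (op U)) :
    psi BP BQ U hU e' x = psi0 BP BQ U hU e' x := rfl

theorem PB.j_mem {G : Y.Modules} (B : PB G) (U : Y.Opens) (hU : IsAffineOpen U) (x : Γ(G, U)) :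
    jAdd G B.𝒮.toQCAlg B.j U x ∈ B.𝒮.deg U hU 1 := B.hj.2 U hU x

/-- The induced map `Sym(E)(U)_(e) ⟶ Sym(E ⊗ E')(U)_(e ⊗ e')`. -/
def thetaA (e : Γ(E, U)) :
    Away (BP.𝒮.deg U hU) (jAdd E BP.𝒮.toQCAlg BP.j U e) →+*
      Away (BQ.𝒮.deg U hU)
        (jAdd (CohB1.tensorMod E E') BQ.𝒮.toQCAlg BQ.j U (SecTwist.tmul E E' U e e')) :=
  awayMap (BP.𝒮.deg U hU) (BQ.𝒮.deg U hU) (psi BP BQ U hU e') (psi0_j BP BQ U hU e' e)

theorem thetaA_mkn (e : Γ(E, U)) (n : ℕ) (z : BP.𝒮.presheaf.obj (op U))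
    (hz : z ∈ BP.𝒮.deg U hU n) :
    thetaA BP BQ U hU e' e (mkn (BP.𝒮.deg U hU) (BP.j_mem U hU e) n z hz) =
      mkn (BQ.𝒮.deg U hU) (BQ.j_mem U hU (SecTwist.tmul E E' U e e')) n (psi0 BP BQ U hU e' z)
        (GradedFunLike.map_mem (psi BP BQ U hU e') hz) :=
  awayMap_mkn (BP.𝒮.deg U hU) (BQ.𝒮.deg U hU) (psi BP BQ U hU e') (psi0_j BP BQ U hU e' e)
    (BP.j_mem U hU e) (BQ.j_mem U hU _) n z hz

end psi

section TTinj
variable {Y P : Scheme.{u}} (E : Y.Modules) [E.IsQuasicoherent]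
  (𝒮 : RelProj.QCGrAlg Y) (j : E ⟶ 𝒮.toModule) (hj : RelProj.IsGrSymAlg E 𝒮 j) (p : P ⟶ Y)
  (chart : ∀ (U : Y.Opens) (hU : IsAffineOpen U),
    (((p ⁻¹ᵁ U : P.Opens) : Scheme.{u}) ≅ Proj (𝒮.deg U hU)))
  (U : Y.Opens) (hU : IsAffineOpen U) (e : Γ(E, U))

include hj in
theorem TT_injective : Function.Injective (TT E 𝒮 j p chart U hU e) := by
  intro x y hxy
  have hiso : IsIso (Proj.awayToSection (𝒮.deg U hU) (jAdd E 𝒮.toQCAlg j U e)) :=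
    (Proj.basicOpenIsoAway (𝒮.deg U hU) (jAdd E 𝒮.toQCAlg j U e) (hj.2 U hU e) one_pos).isIso_hom
  have hbij := ConcreteCategory.bijective_of_isIso
    (Proj.awayToSection (𝒮.deg U hU) (jAdd E 𝒮.toQCAlg j U e))
  apply hbij.1
  have h1 := congrArg ((RelProj.emb p chart U hU).app (WW E 𝒮 j p chart U hU e)).hom hxy
  rw [emb_app_TT, emb_app_TT] at h1
  have h2 := congrArg (rX (preimage_WW E 𝒮 j p chart U hU e).ge) h1
  rw [rX_rX, rX_rX, rX_self'', rX_self''] at h2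
  exact h2

end TTinj

section Theta
variable {Y : Scheme.{u}} {E E' : Y.Modules} [E.IsQuasicoherent] [E'.IsQuasicoherent]
  (BP : PB E) (BQ : PB (CohB1.tensorMod E E')) (U : Y.Opens) (hU : IsAffineOpen U)
  (e' : Γ(E', U)) (e : Γ(E, U))

/-- `Sym(E)(U)_(j e) ≃ Γ(P, D_+(j e))`. -/
def PB.TTEquiv {G : Y.Modules} [G.IsQuasicoherent] (B : PB G) (U : Y.Opens) (hU : IsAffineOpen U)
    (x : Γ(G, U)) :
    Away (B.𝒮.deg U hU) (jAdd G B.𝒮.toQCAlg B.j U x) ≃+* Γ(B.P, B.WW U hU x) :=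
  RingEquiv.ofBijective (TT G B.𝒮 B.j B.p B.chart U hU x)
    ⟨TT_injective G B.𝒮 B.j B.hj B.p B.chart U hU x,
      TT_surjective G B.𝒮 B.j B.hj B.p B.chart U hU x⟩

/-- The ring map `Γ(P(E), D_+(e)) ⟶ Γ(P(E ⊗ E'), D_+(e ⊗ e'))`. -/
def Theta : Γ(BP.P, BP.WW U hU e) →+* Γ(BQ.P, BQ.WW U hU (SecTwist.tmul E E' U e e')) :=
  (TT (CohB1.tensorMod E E') BQ.𝒮 BQ.j BQ.p BQ.chart U hU (SecTwist.tmul E E' U e e')).comp
    ((thetaA BP BQ U hU e' e).comp (BP.TTEquiv U hU e).symm.toRingHom)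

theorem Theta_TT (a : Away (BP.𝒮.deg U hU) (jAdd E BP.𝒮.toQCAlg BP.j U e)) :
    Theta BP BQ U hU e' e (TT E BP.𝒮 BP.j BP.p BP.chart U hU e a) =
      TT (CohB1.tensorMod E E') BQ.𝒮 BQ.j BQ.p BQ.chart U hU (SecTwist.tmul E E' U e e')
        (thetaA BP BQ U hU e' e a) := by
  show TT _ _ _ _ _ _ _ _ (thetaA BP BQ U hU e' e ((BP.TTEquiv U hU e).symm
    (TT E BP.𝒮 BP.j BP.p BP.chart U hU e a))) = _
  have : (BP.TTEquiv U hU e).symm (TT E BP.𝒮 BP.j BP.p BP.chart U hU e a) = a :=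
    (BP.TTEquiv U hU e).symm_apply_apply a
  rw [this]

end Theta

end Groth.Agent.VATens
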