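import Mathlib
import Groth.Prelude
import Groth.Agent.Lib.VATens3_helper5

/-!
# Compatibility of the local factorisation with the classifying maps  (helper5)
APPEND-ONLY once landed.
-/

set_option autoImplicit false
universe u
open CategoryTheory AlgebraicGeometry TopologicalSpace Opposite
open scoped HomogeneousIdeal

noncomputable section

namespace Groth.Agent.VATens

open QcqsLoc QCohExtn GenLocH8 TensH8 Scheme.Modules Groth.Agent.UPB Groth.Agent.SymSum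
  Groth.Agent.RelProjTN HomogeneousLocalization Groth.Agent.SymAlg Groth.Agent.SymDeg
  Groth.Agent.SymGr

section one
variable {Y X : Scheme.{u}} {E : Y.Modules} [E.IsQuasicoherent] {B : PB E}
  {q : X ⟶ Y} {L : X.Modules} {s : (Scheme.Modules.pullback q).obj E ⟶ L}
  (ρ : PBMap B q L s) (U : Y.Opens) (hU : IsAffineOpen U) (e : Γ(E, U))
  (O : X.Opens) (hO : O ≤ ρ.r ⁻¹ᵁ (B.WW U hU e))

include hO in
theorem PBMap.le_q : O ≤ q ⁻¹ᵁ U :=
  hO.trans (ρ.le_g (WW_le E B.𝒮 B.j B.p B.chart U hU e))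

/-- Functions from the base pull back along `r` as along `q`. -/
theorem PBMap.appLE_TT_str (b : Γ(Y, U)) :
    (ρ.r.appLE (B.WW U hU e) O hO).hom (TT E B.𝒮 B.j B.p B.chart U hU e
      (mkn (B.𝒮.deg U hU) (B.j_mem U hU e) 0 ((B.𝒮.str.app (op U)).hom b)
        (B.𝒮.str_mem U hU b))) = (q.appLE U O (ρ.le_q U hU e O hO)).hom b := by
  rw [TT_str E B.𝒮 B.j B.hj B.p B.chart B.hP U hU e b]
  have h2 := Scheme.Hom.appLE_comp_appLE ρ.r B.p U (B.WW U hU e) O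
    (WW_le E B.𝒮 B.j B.p B.chart U hU e) hO
  have h3 := congrArg (fun t => t.hom b) h2
  simp only [CommRingCat.hom_comp, RingHom.comp_apply] at h3
  refine Eq.trans ?_ (h3.trans ?_)
  · rfl
  · exact congrArg (fun t => t.hom b) (Groth.Agent.PullbackLocal.appLE_congr ρ.hr U O _ _)

/-- `s♭(e₁) = r^♯(j e₁ / j e) • s♭(e)` over `O ≤ r⁻¹ D_+(j e)`. -/
theorem PBMap.rel_TT (e₁ : Γ(E, U)) :
    rF L (ρ.le_q U hU e O hO) (sb q E L s U e₁) =
      (ρ.r.appLE (B.WW U hU e) O hO).hom (TT E B.𝒮 B.j B.p B.chart U hU e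
        (mkn (B.𝒮.deg U hU) (B.j_mem U hU e) 1 (jAdd E B.𝒮.toQCAlg B.j U e₁)
          (B.j_mem U hU e₁))) • rF L (ρ.le_q U hU e O hO) (sb q E L s U e) := by
  have hc := (TT_j_smul E B.𝒮 B.j B.hj B.p B.chart B.O1 B.lam B.hO1 B.φ B.hφ U hU e e₁).symm
  have h1 := rel_of_nu E B.p B.O1 B.φ q L s ρ.r ρ.hr ρ.ν ρ.hν U hU e₁ e _
    (WW_le E B.𝒮 B.j B.p B.chart U hU e) _ hc
  have h1' := congrArg (rF L hO) h1
  rw [rF_rF, rF_smul, rF_rF] at h1'
  exact h1'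

end one

section two
variable {Y X : Scheme.{u}} {E E' : Y.Modules} [E.IsQuasicoherent] [E'.IsQuasicoherent]
  {BP : PB E} {BQ : PB (CohB1.tensorMod E E')} {q : X ⟶ Y} {L L' : X.Modules}
  (hL : PicF.IsInvertible L) (hL' : PicF.IsInvertible L')
  {σ : (Scheme.Modules.pullback q).obj E ⟶ L} {σ' : (Scheme.Modules.pullback q).obj E' ⟶ L'}
  (ρi : PBMap BP q L σ) (ρr : PBMap BQ q (CohB1.tensorMod L L') (sTens q E E' L L' σ σ'))
  (U : Y.Opens) (hU : IsAffineOpen U) (e : Γ(E, U)) (e' : Γ(E', U))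

/-- The generator `σ♭(e) ⊗ σ'♭(e')` of `L ⊗ L'` over `r⁻¹ D_+(e ⊗ e')`. -/
theorem isGen_tmul_sb :
    IsGen (CohB1.tensorMod L L') (ρr.r ⁻¹ᵁ (BQ.WW U hU (SecTwist.tmul E E' U e e')))
      (SecTwist.tmul L L' _
        (rF L (ρr.le_q U hU (SecTwist.tmul E E' U e e') _ le_rfl) (sb q E L σ U e))
        (rF L' (ρr.le_q U hU (SecTwist.tmul E E' U e e') _ le_rfl) (sb q E' L' σ' U e'))) := by
  have h1 := ρr.isGen_sb U hU (SecTwist.tmul E E' U e e')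
  rw [sb_sTens, rF_tmul] at h1
  exact h1

include hL hL' in
/-- **Claim B**: `r⁻¹ D_+(e ⊗ e') ⊆ i⁻¹ D_+(e)`. -/
theorem le_preimage :
    ρr.r ⁻¹ᵁ (BQ.WW U hU (SecTwist.tmul E E' U e e')) ≤ ρi.r ⁻¹ᵁ (BP.WW U hU e) := by
  intro x hx
  exact ρi.mem_WW_of_isGen U hU e x _ hx _
    (isGen_left_of_isGen_tmul hL hL' _ _ (isGen_tmul_sb ρr U hU e e'))

/-- **The key identity**: `r^♯ ∘ Θ = i^♯` on the functions of `D_+(e)`. -/
theorem appLE_Theta (c : Γ(BP.P, BP.WW U hU e)) :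
    (ρr.r.appLE (BQ.WW U hU (SecTwist.tmul E E' U e e'))
        (ρr.r ⁻¹ᵁ (BQ.WW U hU (SecTwist.tmul E E' U e e'))) le_rfl).hom
      (Theta BP BQ U hU e' e c) =
    (ρi.r.appLE (BP.WW U hU e) (ρr.r ⁻¹ᵁ (BQ.WW U hU (SecTwist.tmul E E' U e e')))
      (le_preimage hL hL' ρi ρr U hU e e')).hom c := by
  obtain ⟨a, rfl⟩ := TT_surjective E BP.𝒮 BP.j BP.hj BP.p BP.chart U hU e c
  rw [Theta_TT]
  have hgen' : ∀ (d : ℕ) (x : BP.𝒮.presheaf.obj (op U)), x ∈ BP.𝒮.deg U hU d →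
      x ∈ AddSubgroup.closure (SymGr.Mon (BP.𝒮.str.app (op U)).hom
        (jAdd E BP.𝒮.toQCAlg BP.j U) d) :=
    fun d x hx => deg_le_closure_mon (BP.𝒮.str.app (op U)).hom (jAdd E BP.𝒮.toQCAlg BP.j U)
      (symToA E BP.𝒮.toQCAlg BP.j U) (symToA_algebraMap E BP.𝒮.toQCAlg BP.j U)
      (symToA_ι E BP.𝒮.toQCAlg BP.j U)
      (BP.𝒮.deg U hU) (fun a => BP.𝒮.str_mem U hU a) (fun m => BP.hj.2 U hU m)
      (symToA_bijective E BP.𝒮 BP.j BP.hj U hU).2 d x hx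
  have key := away_hom_ext (f := jAdd E BP.𝒮.toQCAlg BP.j U e) (BP.𝒮.deg U hU) (BP.j_mem U hU e)
    (BP.𝒮.str.app (op U)).hom
    (jAdd E BP.𝒮.toQCAlg BP.j U) (fun a => BP.𝒮.str_mem U hU a) (fun m => BP.hj.2 U hU m) hgen'
    ((ρr.r.appLE (BQ.WW U hU (SecTwist.tmul E E' U e e'))
        (ρr.r ⁻¹ᵁ (BQ.WW U hU (SecTwist.tmul E E' U e e'))) le_rfl).hom.comp
      ((TT (CohB1.tensorMod E E') BQ.𝒮 BQ.j BQ.p BQ.chart U hU (SecTwist.tmul E E' U e e')).comp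
        (thetaA BP BQ U hU e' e)))
    ((ρi.r.appLE (BP.WW U hU e) (ρr.r ⁻¹ᵁ (BQ.WW U hU (SecTwist.tmul E E' U e e')))
      (le_preimage hL hL' ρi ρr U hU e e')).hom.comp (TT E BP.𝒮 BP.j BP.p BP.chart U hU e)) ?_ ?_
  · exact RingHom.congr_fun key a
  · -- functions from the base
    intro b
    simp only [RingHom.comp_apply]
    have e1 : thetaA BP BQ U hU e' e (mkn (BP.𝒮.deg U hU) (BP.j_mem U hU e) 0
        ((BP.𝒮.str.app (op U)).hom b) (BP.𝒮.str_mem U hU b)) =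
        mkn (BQ.𝒮.deg U hU) (BQ.j_mem U hU (SecTwist.tmul E E' U e e')) 0
          ((BQ.𝒮.str.app (op U)).hom b) (BQ.𝒮.str_mem U hU b) :=
      (thetaA_mkn BP BQ U hU e' e 0 _ _).trans
        (mkn_congr _ _ rfl (psi0_str BP BQ U hU e' b) _ _)
    rw [e1]
    exact (ρr.appLE_TT_str U hU _ _ le_rfl b).trans
      (ρi.appLE_TT_str U hU e _ (le_preimage hL hL' ρi ρr U hU e e') b).symm
  · -- the ratios
    intro e₁
    simp only [RingHom.comp_apply]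
    have e1 : thetaA BP BQ U hU e' e (mkn (BP.𝒮.deg U hU) (BP.j_mem U hU e) 1
        (jAdd E BP.𝒮.toQCAlg BP.j U e₁) (BP.j_mem U hU e₁)) =
        mkn (BQ.𝒮.deg U hU) (BQ.j_mem U hU (SecTwist.tmul E E' U e e')) 1
          (jAdd (CohB1.tensorMod E E') BQ.𝒮.toQCAlg BQ.j U (SecTwist.tmul E E' U e₁ e'))
          (BQ.j_mem U hU _) :=
      (thetaA_mkn BP BQ U hU e' e 1 _ _).trans
        (mkn_congr _ _ rfl (psi0_j BP BQ U hU e' e₁) _ _)
    rw [e1]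
    have hr := ρr.rel_TT U hU (SecTwist.tmul E E' U e e') _ le_rfl (SecTwist.tmul E E' U e₁ e')
    rw [sb_sTens, sb_sTens, rF_tmul, rF_tmul] at hr
    have hi := ρi.rel_TT U hU e _ (le_preimage hL hL' ρi ρr U hU e e') e₁
    have hi' : SecTwist.tmul L L' (ρr.r ⁻¹ᵁ (BQ.WW U hU (SecTwist.tmul E E' U e e')))
        (rF L (ρr.le_q U hU (SecTwist.tmul E E' U e e') _ le_rfl) (sb q E L σ U e₁))
        (rF L' (ρr.le_q U hU (SecTwist.tmul E E' U e e') _ le_rfl) (sb q E' L' σ' U e')) =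
        (ρi.r.appLE (BP.WW U hU e) (ρr.r ⁻¹ᵁ (BQ.WW U hU (SecTwist.tmul E E' U e e')))
          (le_preimage hL hL' ρi ρr U hU e e')).hom (TT E BP.𝒮 BP.j BP.p BP.chart U hU e
          (mkn (BP.𝒮.deg U hU) (BP.j_mem U hU e) 1 (jAdd E BP.𝒮.toQCAlg BP.j U e₁)
            (BP.j_mem U hU e₁))) •
        (show Γ(CohB1.tensorMod L L', _) from SecTwist.tmul L L' _
          (rF L (ρr.le_q U hU (SecTwist.tmul E E' U e e') _ le_rfl) (sb q E L σ U e))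
          (rF L' (ρr.le_q U hU (SecTwist.tmul E E' U e e') _ le_rfl) (sb q E' L' σ' U e'))) := by
      rw [← tmul_smul_left]
      exact congrArg (fun t => SecTwist.tmul L L' _ t _) hi
    exact TensH8.IsGen.coef_ext (isGen_tmul_sb ρr U hU e e') (hr.symm.trans hi')

end two

end Groth.Agent.VATens
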