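import Mathlib
import Groth.Prelude
import Groth.Agent.Lib.VATens4_helper5
import Groth.Agent.Lib.VATens5_helper5
import Groth.Agent.Lib.PBundle1_helper5

/-!
# Very ample ⊗ (invertible quotient of a pulled-back quasi-coherent module) is very ample
(helper5).  APPEND-ONLY once landed.
-/

set_option autoImplicit false
universe u
open CategoryTheory AlgebraicGeometry TopologicalSpace Opposite
open scoped HomogeneousIdeal

noncomputable section

namespace Groth.Agent.VATens

open QcqsLoc QCohExtn GenLocH8 TensH8 Scheme.Modules Groth.Agent.UPB Groth.Agent.SymSum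
  Groth.Agent.RelProjTN HomogeneousLocalization Groth.Agent.SymAlg Groth.Agent.SymDeg
  Groth.Agent.SymGr

section unpack
variable {X Y : Scheme.{u}} (q : X ⟶ Y) (L : X.Modules)

/-- Very-ample data, repackaged: a projective bundle, an epimorphism `σ : q^*E ⟶ L` and its
classifying morphism, which is an immersion. -/
theorem exists_PB_of_veryAmple (hva : RelProj.IsRelVeryAmple q L) :
    ∃ (E : Y.Modules) (_ : E.IsQuasicoherent) (B : PB E)
      (σ : (Scheme.Modules.pullback q).obj E ⟶ L) (_ : Epi σ) (ρ : PBMap B q L σ),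
      IsImmersion ρ.r := by
  obtain ⟨E, hE, 𝒮, j, hj, P, p, chart, hP, O1, lam, hO1, i, himm, hip, ⟨ι₀⟩⟩ := hva
  haveI : E.IsQuasicoherent := hE
  obtain ⟨φ, hφ⟩ := Groth.Agent.CanPhi.exists_canPhi hP hO1 j hj.2
  haveI hepi : Epi (((pullbackPushforwardAdjunction p).homEquiv E O1).symm φ) :=
    Groth.Agent.PBEpi.epi_adj 𝒮 p chart E j hj 1 (by norm_num) O1 lam hO1 φ hφ
  haveI : (Scheme.Modules.pullback i).PreservesEpimorphisms :=
    Functor.preservesEpimorphisms_of_adjunction (pullbackPushforwardAdjunction i)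
  haveI : Epi ((pullback i).map (((pullbackPushforwardAdjunction p).homEquiv E O1).symm φ)) :=
    (Scheme.Modules.pullback i).map_epi _
  refine ⟨E, hE, ⟨𝒮, j, hj, P, p, chart, hP, O1, lam, hO1, φ, hφ⟩,
    (pullbackCongr hip).inv.app E ≫ (pullbackComp i p).inv.app E ≫
      (pullback i).map (((pullbackPushforwardAdjunction p).homEquiv E O1).symm φ) ≫ ι₀.inv,
    inferInstance,
    ⟨i, hip, (pullbackPushforwardAdjunction i).homEquiv O1 L ι₀.inv,
      nu_of_tau E p O1 φ q L _ i hip ι₀.inv rfl, ?_⟩, himm⟩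
  rw [Equiv.symm_apply_apply]
  infer_instance

end unpack

section imm
variable {Y X : Scheme.{u}} {E E' : Y.Modules} [E.IsQuasicoherent] [E'.IsQuasicoherent]
  {BP : PB E} {BQ : PB (CohB1.tensorMod E E')} {q : X ⟶ Y} {L L' : X.Modules}
  (hL : PicF.IsInvertible L) (hL' : PicF.IsInvertible L')
  {σ : (Scheme.Modules.pullback q).obj E ⟶ L} {σ' : (Scheme.Modules.pullback q).obj E' ⟶ L'}
  (ρi : PBMap BP q L σ) (ρr : PBMap BQ q (CohB1.tensorMod L L') (sTens q E E' L L' σ σ'))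

include hL hL' ρi in
/-- **The classifying morphism of `σ ⊗ σ'` is an immersion when that of `σ` is.** -/
theorem isImmersion_r [IsImmersion ρi.r] : IsImmersion ρr.r := by
  apply IsZariskiLocalAtTarget.of_forall_exists_morphismRestrict (P := @IsImmersion)
  intro z
  obtain ⟨U, hU, hzU, -⟩ := Opens.isBasis_iff_nbhd.mp Y.isBasis_affineOpens
    (Opens.mem_top (BQ.p z))
  have hUa : IsAffineOpen U := hU
  obtain ⟨e, e', hz⟩ := exists_mem_WW_tmul BQ U hUa z hzU
  refine ⟨BQ.WW U hUa (SecTwist.tmul E E' U e e'), hz, ?_⟩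
  exact isImmersion_morphismRestrict ρr.r ρi.r _
    (isAffineOpen_WW (CohB1.tensorMod E E') BQ.𝒮 BQ.j BQ.hj BQ.p BQ.chart U hUa _)
    (BP.WW U hUa e) (isAffineOpen_WW E BP.𝒮 BP.j BP.hj BP.p BP.chart U hUa e)
    (le_preimage hL hL' ρi ρr U hUa e e') (Theta BP BQ U hUa e' e)
    (appLE_Theta hL hL' ρi ρr U hUa e e')

end imm

section main
variable {X Y : Scheme.{u}} (q : X ⟶ Y) (L L' : X.Modules)

/-- **EGA II 4.4.8**: `L` very ample for `q`, `L'` an invertible quotient of `q^*E'` with `E'`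
quasi-coherent: then `L ⊗ L'` is very ample for `q`. -/
theorem isRelVeryAmple_tensor (hL : PicF.IsInvertible L) (hva : RelProj.IsRelVeryAmple q L)
    (hL' : PicF.IsInvertible L') (E' : Y.Modules) [E'.IsQuasicoherent]
    (σ' : (Scheme.Modules.pullback q).obj E' ⟶ L') [Epi σ'] :
    RelProj.IsRelVeryAmple q (CohB1.tensorMod L L') := by
  obtain ⟨E, hE, BP, σ, hσ, ρi, himm⟩ := exists_PB_of_veryAmple q L hva
  haveI := hE
  haveI := hσ
  haveI := himm
  obtain ⟨𝒯, k, hk, Q, pQ, chartQ, hQ, O1Q, lamQ, hO1Q, φQ, hφQ, -, -⟩ :=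
    Groth.Agent.PBundle.exists_projBundle (CohB1.tensorMod E E')
  have hLL' : PicF.IsInvertible (CohB1.tensorMod L L') := isInvertible_tensorMod hL hL'
  haveI : Epi (sTens q E E' L L' σ σ') := epi_sTens q E E' L L' σ σ' hL hL'
  obtain ⟨r, hr, τ, hτ⟩ := exists_r_tau (CohB1.tensorMod E E') 𝒯 k hk pQ chartQ hQ O1Q lamQ hO1Q
    φQ hφQ q (CohB1.tensorMod L L') hLL' (sTens q E E' L L' σ σ')
  let BQ : PB (CohB1.tensorMod E E') := ⟨𝒯, k, hk, Q, pQ, chartQ, hQ, O1Q, lamQ, hO1Q, φQ, hφQ⟩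
  let ρr : PBMap BQ q (CohB1.tensorMod L L') (sTens q E E' L L' σ σ') :=
    ⟨r, hr, (pullbackPushforwardAdjunction r).homEquiv O1Q _ τ.hom,
      nu_of_tau (CohB1.tensorMod E E') pQ O1Q φQ q _ _ r hr τ.hom hτ, by
        rw [Equiv.symm_apply_apply]; infer_instance⟩
  have himm_r : IsImmersion r := isImmersion_r hL hL' ρi ρr
  exact ⟨CohB1.tensorMod E E', inferInstance, 𝒯, k, hk, Q, pQ, chartQ, hQ, O1Q, lamQ, hO1Q, r,
    himm_r, hr, ⟨τ.symm⟩⟩

end main

end Groth.Agent.VATens
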