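import Mathlib
import Groth.Prelude
import Groth.Agent.Lib.VATens4_helper5

/-!
# The local factorisation `D_+(ℓ e) ⟶ D_+(e)` from `P(F)` to `P(E)` for a linear map
`ℓ : E(U) ⟶ F(U)` on sections  (helper5).  APPEND-ONLY once landed.
-/

set_option autoImplicit false
universe u
open CategoryTheory AlgebraicGeometry TopologicalSpace Opposite
open scoped HomogeneousIdeal

noncomputable section

namespace Groth.Agent.VATens.Gen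

open QcqsLoc QCohExtn GenLocH8 TensH8 Scheme.Modules Groth.Agent.UPB Groth.Agent.SymSum
  Groth.Agent.RelProjTN HomogeneousLocalization Groth.Agent.SymAlg Groth.Agent.SymDeg
  Groth.Agent.SymGr Groth.Agent.VATens

section psi
variable {Y : Scheme.{u}} {E F : Y.Modules} [E.IsQuasicoherent] [F.IsQuasicoherent]
  (BP : PB E) (BQ : PB F) (U : Y.Opens) (hU : IsAffineOpen U)
  (ℓ : Γ(E, U) →+ Γ(F, U)) (hℓ : ∀ (b : Γ(Y, U)) (x : Γ(E, U)), ℓ (b • x) = b • ℓ x)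

/-- `x ↦ j_Q(ℓ x)`. -/
def lin : Γ(E, U) →+ BQ.𝒮.presheaf.obj (op U) :=
  (jAdd F BQ.𝒮.toQCAlg BQ.j U).comp ℓ

theorem lin_apply (x : Γ(E, U)) :
    lin BQ U ℓ x = jAdd F BQ.𝒮.toQCAlg BQ.j U (ℓ x) := rfl

include hℓ in
theorem lin_smul (b : Γ(Y, U)) (x : Γ(E, U)) :
    lin BQ U ℓ (b • x) = (BQ.𝒮.str.app (op U)).hom b * lin BQ U ℓ x := by
  rw [lin_apply, lin_apply, hℓ]
  exact jAdd_smul F BQ.𝒮.toQCAlg BQ.j U b _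

/-- The ring map `Sym(E)(U) ⟶ Sym(F)(U)` induced by `ℓ`. -/
def psi0 : BP.𝒮.presheaf.obj (op U) →+* BQ.𝒮.presheaf.obj (op U) :=
  (symLift (BQ.𝒮.str.app (op U)).hom (lin BQ U ℓ) (lin_smul BQ U ℓ hℓ)).comp
    (symEquiv E BP.𝒮.toQCAlg BP.j (isSymOnAffines_of_isSymAlg E _ _ BP.hj.1) U hU).toRingHom

theorem psi0_str (b : Γ(Y, U)) :
    psi0 BP BQ U hU ℓ hℓ ((BP.𝒮.str.app (op U)).hom b) = (BQ.𝒮.str.app (op U)).hom b := by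
  rw [← symToA_algebraMap E BP.𝒮.toQCAlg BP.j U b]
  show symLift _ _ _ (symEquiv E BP.𝒮.toQCAlg BP.j _ U hU (symToA E BP.𝒮.toQCAlg BP.j U _)) = _
  rw [symEquiv_symToA, symLift_algebraMap]

theorem psi0_j (x : Γ(E, U)) :
    psi0 BP BQ U hU ℓ hℓ (jAdd E BP.𝒮.toQCAlg BP.j U x) =
      jAdd F BQ.𝒮.toQCAlg BQ.j U (ℓ x) := by
  rw [jAdd_apply, ← symToA_ι E BP.𝒮.toQCAlg BP.j U x]
  show symLift _ _ _ (symEquiv E BP.𝒮.toQCAlg BP.j _ U hU (symToA E BP.𝒮.toQCAlg BP.j U _)) = _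
  rw [symEquiv_symToA, symLift_ι]
  rfl

/-- `psi0` as a graded ring homomorphism. -/
def psi : BP.𝒮.deg U hU →+*ᵍ BQ.𝒮.deg U hU :=
  { psi0 BP BQ U hU ℓ hℓ with
    map_mem := fun {d x} hx => map_mem_of_gen_sch E BP.𝒮 BP.j BP.hj U hU (BQ.𝒮.deg U hU)
      (psi0 BP BQ U hU ℓ hℓ)
      (fun a => by rw [psi0_str]; exact BQ.𝒮.str_mem U hU a)
      (fun m => by rw [psi0_j]; exact BQ.hj.2 U hU _) d x hx }

/-- The induced map `Sym(E)(U)_(e) ⟶ Sym(F)(U)_(ℓ e)`. -/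
def thetaA (e : Γ(E, U)) :
    Away (BP.𝒮.deg U hU) (jAdd E BP.𝒮.toQCAlg BP.j U e) →+*
      Away (BQ.𝒮.deg U hU) (jAdd F BQ.𝒮.toQCAlg BQ.j U (ℓ e)) :=
  awayMap (BP.𝒮.deg U hU) (BQ.𝒮.deg U hU) (psi BP BQ U hU ℓ hℓ) (psi0_j BP BQ U hU ℓ hℓ e)

theorem thetaA_mkn (e : Γ(E, U)) (n : ℕ) (z : BP.𝒮.presheaf.obj (op U))
    (hz : z ∈ BP.𝒮.deg U hU n) :
    thetaA BP BQ U hU ℓ hℓ e (mkn (BP.𝒮.deg U hU) (BP.j_mem U hU e) n z hz) =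
      mkn (BQ.𝒮.deg U hU) (BQ.j_mem U hU (ℓ e)) n (psi0 BP BQ U hU ℓ hℓ z)
        (GradedFunLike.map_mem (psi BP BQ U hU ℓ hℓ) hz) :=
  awayMap_mkn (BP.𝒮.deg U hU) (BQ.𝒮.deg U hU) (psi BP BQ U hU ℓ hℓ) (psi0_j BP BQ U hU ℓ hℓ e)
    (BP.j_mem U hU e) (BQ.j_mem U hU _) n z hz

/-- The ring map `Γ(P(E), D_+(e)) ⟶ Γ(P(F), D_+(ℓ e))`. -/
def Theta (e : Γ(E, U)) : Γ(BP.P, BP.WW U hU e) →+* Γ(BQ.P, BQ.WW U hU (ℓ e)) :=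
  (TT F BQ.𝒮 BQ.j BQ.p BQ.chart U hU (ℓ e)).comp
    ((thetaA BP BQ U hU ℓ hℓ e).comp (BP.TTEquiv U hU e).symm.toRingHom)

theorem Theta_TT (e : Γ(E, U)) (a : Away (BP.𝒮.deg U hU) (jAdd E BP.𝒮.toQCAlg BP.j U e)) :
    Theta BP BQ U hU ℓ hℓ e (TT E BP.𝒮 BP.j BP.p BP.chart U hU e a) =
      TT F BQ.𝒮 BQ.j BQ.p BQ.chart U hU (ℓ e) (thetaA BP BQ U hU ℓ hℓ e a) := by
  show TT _ _ _ _ _ _ _ _ (thetaA BP BQ U hU ℓ hℓ e ((BP.TTEquiv U hU e).symm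
    (TT E BP.𝒮 BP.j BP.p BP.chart U hU e a))) = _
  have : (BP.TTEquiv U hU e).symm (TT E BP.𝒮 BP.j BP.p BP.chart U hU e a) = a :=
    (BP.TTEquiv U hU e).symm_apply_apply a
  rw [this]

/-- `Θ` is compatible with the functions pulled back from the base. -/
theorem Theta_str (e : Γ(E, U)) (b : Γ(Y, U)) :
    Theta BP BQ U hU ℓ hℓ e (rX (WW_le E BP.𝒮 BP.j BP.p BP.chart U hU e) ((BP.p.app U).hom b)) =
      rX (WW_le F BQ.𝒮 BQ.j BQ.p BQ.chart U hU (ℓ e)) ((BQ.p.app U).hom b) := by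
  rw [← TT_str E BP.𝒮 BP.j BP.hj BP.p BP.chart BP.hP U hU e b, Theta_TT,
    ← TT_str F BQ.𝒮 BQ.j BQ.hj BQ.p BQ.chart BQ.hP U hU (ℓ e) b]
  congr 1
  exact (thetaA_mkn BP BQ U hU ℓ hℓ e 0 _ _).trans
    (mkn_congr _ _ rfl (psi0_str BP BQ U hU ℓ hℓ b) _ _)

end psi

end Groth.Agent.VATens.Gen
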