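import Mathlib
import Groth.Prelude
import Groth.Agent.Lib.VATens8_helper5

/-!
# Compatibility of the general local factorisation with classifying maps  (helper5).
APPEND-ONLY once landed.
-/

set_option autoImplicit false
universe u
open CategoryTheory AlgebraicGeometry TopologicalSpace Opposite
open scoped HomogeneousIdeal

noncomputable section

namespace Groth.Agent.VATens.Gen

open QcqsLoc QCohExtn GenLocH8 TensH8 Scheme.Modules Groth.Agent.UPB Groth.Agent.SymSum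
  Groth.Agent.RelProjTN HomogeneousLocalization Groth.Agent.SymAlg Groth.Agent.SymDeg
  Groth.Agent.SymGr Groth.Agent.VATens

section two
variable {Y X : Scheme.{u}} {E F : Y.Modules} [E.IsQuasicoherent] [F.IsQuasicoherent]
  {BP : PB E} {BQ : PB F} {q : X ⟶ Y} {L M : X.Modules}
  {σ : (Scheme.Modules.pullback q).obj E ⟶ L} {s : (Scheme.Modules.pullback q).obj F ⟶ M}
  (ρi : PBMap BP q L σ) (ρr : PBMap BQ q M s)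
  (U : Y.Opens) (hU : IsAffineOpen U)
  (ℓ : Γ(E, U) →+ Γ(F, U)) (hℓ : ∀ (b : Γ(Y, U)) (x : Γ(E, U)), ℓ (b • x) = b • ℓ x)
  (e : Γ(E, U))
  (T : Γ(L, ρr.r ⁻¹ᵁ (BQ.WW U hU (ℓ e))) → Γ(M, ρr.r ⁻¹ᵁ (BQ.WW U hU (ℓ e))))
  (T_smul : ∀ (c : Γ(X, ρr.r ⁻¹ᵁ (BQ.WW U hU (ℓ e)))) (a : Γ(L, ρr.r ⁻¹ᵁ (BQ.WW U hU (ℓ e)))),
    T (c • a) = c • T a)
  (T_gen : ∀ a : Γ(L, ρr.r ⁻¹ᵁ (BQ.WW U hU (ℓ e))),
    IsGen M (ρr.r ⁻¹ᵁ (BQ.WW U hU (ℓ e))) (T a) → IsGen L (ρr.r ⁻¹ᵁ (BQ.WW U hU (ℓ e))) a)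
  (H1 : ∀ x : Γ(E, U), rF M (ρr.le_q U hU (ℓ e) _ le_rfl) (sb q F M s U (ℓ x)) =
    T (rF L (ρr.le_q U hU (ℓ e) _ le_rfl) (sb q E L σ U x)))

include H1 in
theorem isGen_T :
    IsGen M (ρr.r ⁻¹ᵁ (BQ.WW U hU (ℓ e)))
      (T (rF L (ρr.le_q U hU (ℓ e) _ le_rfl) (sb q E L σ U e))) := by
  rw [← H1 e]
  exact ρr.isGen_sb U hU (ℓ e)

include T_gen H1 in
/-- `r⁻¹ D_+(ℓ e) ⊆ i⁻¹ D_+(e)`. -/
theorem le_preimage : ρr.r ⁻¹ᵁ (BQ.WW U hU (ℓ e)) ≤ ρi.r ⁻¹ᵁ (BP.WW U hU e) := by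
  intro x hx
  exact ρi.mem_WW_of_isGen U hU e x _ hx _ (T_gen _ (isGen_T ρr U hU ℓ e T H1))

include T_smul in
/-- **The key identity**: `r^♯ ∘ Θ = i^♯` on the functions of `D_+(e)`. -/
theorem appLE_Theta (c : Γ(BP.P, BP.WW U hU e)) :
    (ρr.r.appLE (BQ.WW U hU (ℓ e)) (ρr.r ⁻¹ᵁ (BQ.WW U hU (ℓ e))) le_rfl).hom
      (Theta BP BQ U hU ℓ hℓ e c) =
    (ρi.r.appLE (BP.WW U hU e) (ρr.r ⁻¹ᵁ (BQ.WW U hU (ℓ e)))
      (le_preimage ρi ρr U hU ℓ e T T_gen H1)).hom c := by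
  obtain ⟨a, rfl⟩ := TT_surjective E BP.𝒮 BP.j BP.hj BP.p BP.chart U hU e c
  rw [Theta_TT]
  have hgen' : ∀ (d : ℕ) (x : BP.𝒮.presheaf.obj (op U)), x ∈ BP.𝒮.deg U hU d →
      x ∈ AddSubgroup.closure (SymGr.Mon (BP.𝒮.str.app (op U)).hom
        (jAdd E BP.𝒮.toQCAlg BP.j U) d) :=
    fun d x hx => deg_le_closure_mon (BP.𝒮.str.app (op U)).hom (jAdd E BP.𝒮.toQCAlg BP.j U)
      (symToA E BP.𝒮.toQCAlg BP.j U) (symToA_algebraMap E BP.𝒮.toQCAlg BP.j U)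
      (symToA_ι E BP.𝒮.toQCAlg BP.j U)
      (BP.𝒮.deg U hU) (fun a => BP.𝒮.str_mem U hU a) (fun m => BP.hj.2 U hU m)
      (symToA_bijective E BP.𝒮 BP.j BP.hj U hU).2 d x hx
  have key := away_hom_ext (f := jAdd E BP.𝒮.toQCAlg BP.j U e) (BP.𝒮.deg U hU) (BP.j_mem U hU e)
    (BP.𝒮.str.app (op U)).hom
    (jAdd E BP.𝒮.toQCAlg BP.j U) (fun a => BP.𝒮.str_mem U hU a) (fun m => BP.hj.2 U hU m) hgen'
    ((ρr.r.appLE (BQ.WW U hU (ℓ e)) (ρr.r ⁻¹ᵁ (BQ.WW U hU (ℓ e))) le_rfl).hom.comp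
      ((TT F BQ.𝒮 BQ.j BQ.p BQ.chart U hU (ℓ e)).comp (thetaA BP BQ U hU ℓ hℓ e)))
    ((ρi.r.appLE (BP.WW U hU e) (ρr.r ⁻¹ᵁ (BQ.WW U hU (ℓ e)))
      (le_preimage ρi ρr U hU ℓ e T T_gen H1)).hom.comp
        (TT E BP.𝒮 BP.j BP.p BP.chart U hU e)) ?_ ?_
  · exact RingHom.congr_fun key a
  · -- functions from the base
    intro b
    simp only [RingHom.comp_apply]
    have e1 : thetaA BP BQ U hU ℓ hℓ e (mkn (BP.𝒮.deg U hU) (BP.j_mem U hU e) 0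
        ((BP.𝒮.str.app (op U)).hom b) (BP.𝒮.str_mem U hU b)) =
        mkn (BQ.𝒮.deg U hU) (BQ.j_mem U hU (ℓ e)) 0
          ((BQ.𝒮.str.app (op U)).hom b) (BQ.𝒮.str_mem U hU b) :=
      (thetaA_mkn BP BQ U hU ℓ hℓ e 0 _ _).trans
        (mkn_congr _ _ rfl (psi0_str BP BQ U hU ℓ hℓ b) _ _)
    rw [e1]
    exact (ρr.appLE_TT_str U hU _ _ le_rfl b).trans
      (ρi.appLE_TT_str U hU e _ (le_preimage ρi ρr U hU ℓ e T T_gen H1) b).symm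
  · -- the ratios
    intro e₁
    simp only [RingHom.comp_apply]
    have e1 : thetaA BP BQ U hU ℓ hℓ e (mkn (BP.𝒮.deg U hU) (BP.j_mem U hU e) 1
        (jAdd E BP.𝒮.toQCAlg BP.j U e₁) (BP.j_mem U hU e₁)) =
        mkn (BQ.𝒮.deg U hU) (BQ.j_mem U hU (ℓ e)) 1
          (jAdd F BQ.𝒮.toQCAlg BQ.j U (ℓ e₁)) (BQ.j_mem U hU _) :=
      (thetaA_mkn BP BQ U hU ℓ hℓ e 1 _ _).trans
        (mkn_congr _ _ rfl (psi0_j BP BQ U hU ℓ hℓ e₁) _ _)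
    rw [e1]
    have hr := ρr.rel_TT U hU (ℓ e) _ le_rfl (ℓ e₁)
    rw [H1 e₁, H1 e] at hr
    have hi := ρi.rel_TT U hU e _ (le_preimage ρi ρr U hU ℓ e T T_gen H1) e₁
    have hi' := congrArg T hi
    rw [T_smul] at hi'
    exact TensH8.IsGen.coef_ext (isGen_T ρr U hU ℓ e T H1) (hr.symm.trans hi')

end two

end Groth.Agent.VATens.Gen
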