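import Mathlib
import Groth.Prelude
import Groth.Agent.Lib.VATens9_helper5
import Groth.Agent.Lib.VATens10_helper5
import Groth.Agent.Lib.VATens6_helper5

/-!
# The classifying map of `σ₁ ⊗ σ₂` is an immersion when the pair of classifying maps is
(a Segre-free form of the Segre embedding)  (helper5).  APPEND-ONLY once landed.
-/

set_option autoImplicit false
universe u
open CategoryTheory CategoryTheory.Limits AlgebraicGeometry TopologicalSpace Opposite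
open scoped HomogeneousIdeal

noncomputable section

namespace Groth.Agent.VATens

open QcqsLoc QCohExtn GenLocH8 TensH8 Scheme.Modules Groth.Agent.UPB Groth.Agent.SymSum
  Groth.Agent.RelProjTN HomogeneousLocalization Groth.Agent.SymAlg Groth.Agent.SymDeg
  Groth.Agent.SymGr

section genTensor
variable {X : Scheme.{u}} {L L' : X.Modules}

/-- If `a ⊗ b` generates `L ⊗ L'` (both invertible), then `b` generates `L'`. -/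
theorem isGen_right_of_isGen_tmul (hL : PicF.IsInvertible L) (hL' : PicF.IsInvertible L')
    {O : X.Opens} (a : Γ(L, O)) (b : Γ(L', O))
    (h : IsGen (CohB1.tensorMod L L') O (SecTwist.tmul L L' O a b)) : IsGen L' O b := by
  apply isGen_of_cover
  intro x hx
  obtain ⟨W, -, hxW, hWO, l, hl⟩ := exists_isGen_le hL x O hx
  obtain ⟨W', -, hxW', hW'W, l', hl'⟩ := exists_isGen_le hL' x W hxW
  have hW'O : W' ≤ O := hW'W.trans hWO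
  obtain ⟨c, hc⟩ := (hl.res hW'W).exists_coef (rF L hW'O a)
  obtain ⟨c', hc'⟩ := hl'.exists_coef (rF L' hW'O b)
  have h1 := h.res hW'O
  rw [rF_tmul, hc, hc', tmul_smul_left, tmul_smul_right, ← mul_smul] at h1
  have hu : IsUnit (c * c') := isUnit_of_isGen_smul (isGen_tmul (hl.res hW'W) hl') h1
  have hcu : IsUnit c' := isUnit_of_mul_isUnit_right hu
  refine ⟨W', hW'O, hxW', ?_⟩
  rw [hc']
  exact isGen_smul_of_isUnit hl' hcu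

end genTensor

section lr
variable {Y : Scheme.{u}} (E₁ E₂ : Y.Modules) (U : Y.Opens)

/-- `x ↦ x ⊗ e₂`. -/
def ellL (e₂ : Γ(E₂, U)) : Γ(E₁, U) →+ Γ(CohB1.tensorMod E₁ E₂, U) :=
  AddMonoidHom.mk' (fun x => SecTwist.tmul E₁ E₂ U x e₂) (fun x y => tmul_add_left E₁ E₂ U x y e₂)

/-- `x ↦ e₁ ⊗ x`. -/
def ellR (e₁ : Γ(E₁, U)) : Γ(E₂, U) →+ Γ(CohB1.tensorMod E₁ E₂, U) :=
  AddMonoidHom.mk' (fun x => SecTwist.tmul E₁ E₂ U e₁ x) (fun x y => tmul_add_right E₁ E₂ U e₁ x y)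

theorem ellL_smul (e₂ : Γ(E₂, U)) (b : Γ(Y, U)) (x : Γ(E₁, U)) :
    ellL E₁ E₂ U e₂ (b • x) = b • ellL E₁ E₂ U e₂ x := tmul_smul_left E₁ E₂ U b x e₂

theorem ellR_smul (e₁ : Γ(E₁, U)) (b : Γ(Y, U)) (x : Γ(E₂, U)) :
    ellR E₁ E₂ U e₁ (b • x) = b • ellR E₁ E₂ U e₁ x := tmul_smul_right E₁ E₂ U b e₁ x

end lr

section joint
variable {Y X : Scheme.{u}} {E₁ E₂ : Y.Modules} [E₁.IsQuasicoherent] [E₂.IsQuasicoherent]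
  {B₁ : PB E₁} {B₂ : PB E₂} {BQ : PB (CohB1.tensorMod E₁ E₂)} {q : X ⟶ Y} {L₁ L₂ : X.Modules}
  (hL₁ : PicF.IsInvertible L₁) (hL₂ : PicF.IsInvertible L₂)
  {σ₁ : (Scheme.Modules.pullback q).obj E₁ ⟶ L₁} {σ₂ : (Scheme.Modules.pullback q).obj E₂ ⟶ L₂}
  (ρ₁ : PBMap B₁ q L₁ σ₁) (ρ₂ : PBMap B₂ q L₂ σ₂)
  (ρr : PBMap BQ q (CohB1.tensorMod L₁ L₂) (sTens q E₁ E₂ L₁ L₂ σ₁ σ₂))
  (U : Y.Opens) (hU : IsAffineOpen U) (e₁ : Γ(E₁, U)) (e₂ : Γ(E₂, U))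

/-- The ring map `Γ(P(E₁), D_+(e₁)) ⟶ Γ(P(E₁ ⊗ E₂), D_+(e₁ ⊗ e₂))`. -/
def ThetaL : Γ(B₁.P, B₁.WW U hU e₁) →+* Γ(BQ.P, BQ.WW U hU (SecTwist.tmul E₁ E₂ U e₁ e₂)) :=
  Gen.Theta B₁ BQ U hU (ellL E₁ E₂ U e₂) (ellL_smul E₁ E₂ U e₂) e₁

/-- The ring map `Γ(P(E₂), D_+(e₂)) ⟶ Γ(P(E₁ ⊗ E₂), D_+(e₁ ⊗ e₂))`. -/
def ThetaR : Γ(B₂.P, B₂.WW U hU e₂) →+* Γ(BQ.P, BQ.WW U hU (SecTwist.tmul E₁ E₂ U e₁ e₂)) :=
  Gen.Theta B₂ BQ U hU (ellR E₁ E₂ U e₁) (ellR_smul E₁ E₂ U e₁) e₂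

include hL₁ hL₂ in
theorem le_preimageL :
    ρr.r ⁻¹ᵁ (BQ.WW U hU (SecTwist.tmul E₁ E₂ U e₁ e₂)) ≤ ρ₁.r ⁻¹ᵁ (B₁.WW U hU e₁) :=
  Gen.le_preimage ρ₁ ρr U hU (ellL E₁ E₂ U e₂) e₁
    (fun a => SecTwist.tmul L₁ L₂ _ a
      (rF L₂ (ρr.le_q U hU (SecTwist.tmul E₁ E₂ U e₁ e₂) _ le_rfl) (sb q E₂ L₂ σ₂ U e₂)))
    (fun a h => isGen_left_of_isGen_tmul hL₁ hL₂ a _ h)
    (fun x => by
      show rF _ _ (sb q (CohB1.tensorMod E₁ E₂) _ _ U (SecTwist.tmul E₁ E₂ U x e₂)) = _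
      rw [sb_sTens, rF_tmul]
      rfl)

include hL₁ hL₂ in
theorem le_preimageR :
    ρr.r ⁻¹ᵁ (BQ.WW U hU (SecTwist.tmul E₁ E₂ U e₁ e₂)) ≤ ρ₂.r ⁻¹ᵁ (B₂.WW U hU e₂) :=
  Gen.le_preimage ρ₂ ρr U hU (ellR E₁ E₂ U e₁) e₂
    (fun a => SecTwist.tmul L₁ L₂ _
      (rF L₁ (ρr.le_q U hU (SecTwist.tmul E₁ E₂ U e₁ e₂) _ le_rfl) (sb q E₁ L₁ σ₁ U e₁)) a)
    (fun a h => isGen_right_of_isGen_tmul hL₁ hL₂ _ a h)
    (fun x => by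
      show rF _ _ (sb q (CohB1.tensorMod E₁ E₂) _ _ U (SecTwist.tmul E₁ E₂ U e₁ x)) = _
      rw [sb_sTens, rF_tmul]
      rfl)

theorem appLE_ThetaL (c : Γ(B₁.P, B₁.WW U hU e₁)) :
    (ρr.r.appLE (BQ.WW U hU (SecTwist.tmul E₁ E₂ U e₁ e₂))
        (ρr.r ⁻¹ᵁ (BQ.WW U hU (SecTwist.tmul E₁ E₂ U e₁ e₂))) le_rfl).hom
      (ThetaL (BQ := BQ) U hU e₁ e₂ c) =
    (ρ₁.r.appLE (B₁.WW U hU e₁) (ρr.r ⁻¹ᵁ (BQ.WW U hU (SecTwist.tmul E₁ E₂ U e₁ e₂)))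
      (le_preimageL hL₁ hL₂ ρ₁ ρr U hU e₁ e₂)).hom c :=
  Gen.appLE_Theta ρ₁ ρr U hU (ellL E₁ E₂ U e₂) (ellL_smul E₁ E₂ U e₂) e₁
    (fun a => SecTwist.tmul L₁ L₂ _ a
      (rF L₂ (ρr.le_q U hU (SecTwist.tmul E₁ E₂ U e₁ e₂) _ le_rfl) (sb q E₂ L₂ σ₂ U e₂)))
    (fun c a => tmul_smul_left L₁ L₂ _ c a _)
    (fun a h => isGen_left_of_isGen_tmul hL₁ hL₂ a _ h)
    (fun x => by
      show rF _ _ (sb q (CohB1.tensorMod E₁ E₂) _ _ U (SecTwist.tmul E₁ E₂ U x e₂)) = _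
      rw [sb_sTens, rF_tmul]
      rfl) c

theorem appLE_ThetaR (c : Γ(B₂.P, B₂.WW U hU e₂)) :
    (ρr.r.appLE (BQ.WW U hU (SecTwist.tmul E₁ E₂ U e₁ e₂))
        (ρr.r ⁻¹ᵁ (BQ.WW U hU (SecTwist.tmul E₁ E₂ U e₁ e₂))) le_rfl).hom
      (ThetaR (BQ := BQ) U hU e₁ e₂ c) =
    (ρ₂.r.appLE (B₂.WW U hU e₂) (ρr.r ⁻¹ᵁ (BQ.WW U hU (SecTwist.tmul E₁ E₂ U e₁ e₂)))
      (le_preimageR hL₁ hL₂ ρ₂ ρr U hU e₁ e₂)).hom c :=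
  Gen.appLE_Theta ρ₂ ρr U hU (ellR E₁ E₂ U e₁) (ellR_smul E₁ E₂ U e₁) e₂
    (fun a => SecTwist.tmul L₁ L₂ _
      (rF L₁ (ρr.le_q U hU (SecTwist.tmul E₁ E₂ U e₁ e₂) _ le_rfl) (sb q E₁ L₁ σ₁ U e₁)) a)
    (fun c a => tmul_smul_right L₁ L₂ _ c _ a)
    (fun a h => isGen_right_of_isGen_tmul hL₁ hL₂ _ a h)
    (fun x => by
      show rF _ _ (sb q (CohB1.tensorMod E₁ E₂) _ _ U (SecTwist.tmul E₁ E₂ U e₁ x)) = _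
      rw [sb_sTens, rF_tmul]
      rfl) c

include hL₁ hL₂ in
/-- **Segre-free Segre**: the classifying morphism of `σ₁ ⊗ σ₂` is an immersion as soon as the
pair of classifying morphisms `X ⟶ P(E₁) ×_Y P(E₂)` is. -/
theorem isImmersion_r_of_joint
    (hjoint : IsImmersion (pullback.lift ρ₁.r ρ₂.r (ρ₁.hr.trans ρ₂.hr.symm))) :
    IsImmersion ρr.r := by
  apply IsZariskiLocalAtTarget.of_forall_exists_morphismRestrict (P := @IsImmersion)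
  intro z
  obtain ⟨U, hU, hzU, -⟩ := Opens.isBasis_iff_nbhd.mp Y.isBasis_affineOpens
    (Opens.mem_top (BQ.p z))
  have hUa : IsAffineOpen U := hU
  obtain ⟨e₁, e₂, hz⟩ := exists_mem_WW_tmul BQ U hUa z hzU
  refine ⟨BQ.WW U hUa (SecTwist.tmul E₁ E₂ U e₁ e₂), hz, ?_⟩
  have hW : IsAffineOpen (BQ.WW U hUa (SecTwist.tmul E₁ E₂ U e₁ e₂)) :=
    isAffineOpen_WW (CohB1.tensorMod E₁ E₂) BQ.𝒮 BQ.j BQ.hj BQ.p BQ.chart U hUa _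
  have hW₁ : IsAffineOpen (B₁.WW U hUa e₁) :=
    isAffineOpen_WW E₁ B₁.𝒮 B₁.j B₁.hj B₁.p B₁.chart U hUa e₁
  have hW₂ : IsAffineOpen (B₂.WW U hUa e₂) :=
    isAffineOpen_WW E₂ B₂.𝒮 B₂.j B₂.hj B₂.p B₂.chart U hUa e₂
  -- the two projections `W ⟶ P(E_a)`
  have hc₁ : piOf hW hW₁ (ThetaL (BQ := BQ) U hUa e₁ e₂) ≫ B₁.p =
      (BQ.WW U hUa (SecTwist.tmul E₁ E₂ U e₁ e₂)).ι ≫ BQ.p :=
    piOf_comp_p hW hW₁ _ B₁.p BQ.p U hUa (WW_le E₁ B₁.𝒮 B₁.j B₁.p B₁.chart U hUa e₁)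
      (WW_le (CohB1.tensorMod E₁ E₂) BQ.𝒮 BQ.j BQ.p BQ.chart U hUa _)
      (fun b => Gen.Theta_str B₁ BQ U hUa (ellL E₁ E₂ U e₂) (ellL_smul E₁ E₂ U e₂) e₁ b)
  have hc₂ : piOf hW hW₂ (ThetaR (BQ := BQ) U hUa e₁ e₂) ≫ B₂.p =
      (BQ.WW U hUa (SecTwist.tmul E₁ E₂ U e₁ e₂)).ι ≫ BQ.p :=
    piOf_comp_p hW hW₂ _ B₂.p BQ.p U hUa (WW_le E₂ B₂.𝒮 B₂.j B₂.p B₂.chart U hUa e₂)
      (WW_le (CohB1.tensorMod E₁ E₂) BQ.𝒮 BQ.j BQ.p BQ.chart U hUa _)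
      (fun b => Gen.Theta_str B₂ BQ U hUa (ellR E₁ E₂ U e₁) (ellR_smul E₁ E₂ U e₁) e₂ b)
  have h₁ := restrict_comp_piOf hW hW₁ (ThetaL (BQ := BQ) U hUa e₁ e₂) ρr.r ρ₁.r
    (le_preimageL hL₁ hL₂ ρ₁ ρr U hUa e₁ e₂) (appLE_ThetaL hL₁ hL₂ ρ₁ ρr U hUa e₁ e₂)
  have h₂ := restrict_comp_piOf hW hW₂ (ThetaR (BQ := BQ) U hUa e₁ e₂) ρr.r ρ₂.r
    (le_preimageR hL₁ hL₂ ρ₂ ρr U hUa e₁ e₂) (appLE_ThetaR hL₁ hL₂ ρ₂ ρr U hUa e₁ e₂)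
  have hπ : (ρr.r ∣_ BQ.WW U hUa (SecTwist.tmul E₁ E₂ U e₁ e₂)) ≫
      pullback.lift (piOf hW hW₁ (ThetaL (BQ := BQ) U hUa e₁ e₂))
        (piOf hW hW₂ (ThetaR (BQ := BQ) U hUa e₁ e₂)) (hc₁.trans hc₂.symm) =
      (ρr.r ⁻¹ᵁ BQ.WW U hUa (SecTwist.tmul E₁ E₂ U e₁ e₂)).ι ≫
        pullback.lift ρ₁.r ρ₂.r (ρ₁.hr.trans ρ₂.hr.symm) := by
    apply pullback.hom_ext
    · rw [Category.assoc, Category.assoc, pullback.lift_fst, pullback.lift_fst, h₁]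
    · rw [Category.assoc, Category.assoc, pullback.lift_snd, pullback.lift_snd, h₂]
  haveI := hjoint
  haveI : IsImmersion ((ρr.r ∣_ BQ.WW U hUa (SecTwist.tmul E₁ E₂ U e₁ e₂)) ≫
      pullback.lift (piOf hW hW₁ (ThetaL (BQ := BQ) U hUa e₁ e₂))
        (piOf hW hW₂ (ThetaR (BQ := BQ) U hUa e₁ e₂)) (hc₁.trans hc₂.symm)) := by
    rw [hπ]; infer_instance
  exact IsImmersion.of_comp (ρr.r ∣_ BQ.WW U hUa (SecTwist.tmul E₁ E₂ U e₁ e₂))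
    (pullback.lift (piOf hW hW₁ (ThetaL (BQ := BQ) U hUa e₁ e₂))
      (piOf hW hW₂ (ThetaR (BQ := BQ) U hUa e₁ e₂)) (hc₁.trans hc₂.symm))

end joint

section ofIso
variable {Y X : Scheme.{u}} {E : Y.Modules} [E.IsQuasicoherent] (B : PB E) {q : X ⟶ Y}
  {L : X.Modules} (i : X ⟶ B.P) (hi : i ≫ B.p = q)
  (ι₀ : L ≅ (Scheme.Modules.pullback i).obj B.O1)

/-- The quotient `q^*E ⟶ L` defined by a morphism to `P(E)` and an isomorphism `L ≅ i^*O(1)`. -/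
def sigOf : (Scheme.Modules.pullback q).obj E ⟶ L :=
  (pullbackCongr hi).inv.app E ≫ (pullbackComp i B.p).inv.app E ≫
    (Scheme.Modules.pullback i).map
      (((pullbackPushforwardAdjunction B.p).homEquiv E B.O1).symm B.φ) ≫ ι₀.inv

instance epi_sigOf : Epi (sigOf B i hi ι₀) := by
  haveI hepi : Epi (((pullbackPushforwardAdjunction B.p).homEquiv E B.O1).symm B.φ) :=
    Groth.Agent.PBEpi.epi_adj B.𝒮 B.p B.chart E B.j B.hj 1 (by norm_num) B.O1 B.lam B.hO1 B.φ B.hφ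
  haveI : (Scheme.Modules.pullback i).PreservesEpimorphisms :=
    Functor.preservesEpimorphisms_of_adjunction (pullbackPushforwardAdjunction i)
  haveI : Epi ((Scheme.Modules.pullback i).map
      (((pullbackPushforwardAdjunction B.p).homEquiv E B.O1).symm B.φ)) :=
    (Scheme.Modules.pullback i).map_epi _
  unfold sigOf
  infer_instance

/-- The classifying data of `sigOf`. -/
def PBMap.ofIso : PBMap B q L (sigOf B i hi ι₀) where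
  r := i
  hr := hi
  ν := (pullbackPushforwardAdjunction i).homEquiv B.O1 L ι₀.inv
  hν := nu_of_tau E B.p B.O1 B.φ q L _ i hi ι₀.inv rfl
  iso := by
    rw [Equiv.symm_apply_apply]
    infer_instance

end ofIso

section mainJoint
variable {X Y : Scheme.{u}} (q : X ⟶ Y) {L₁ L₂ : X.Modules} {E₁ E₂ : Y.Modules}
  [E₁.IsQuasicoherent] [E₂.IsQuasicoherent]

/-- **Very ampleness of a tensor product from a joint immersion** into `P(E₁) ×_Y P(E₂)`. -/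
theorem isRelVeryAmple_tensor_joint (hL₁ : PicF.IsInvertible L₁) (hL₂ : PicF.IsInvertible L₂)
    (B₁ : PB E₁) (B₂ : PB E₂) (i₁ : X ⟶ B₁.P) (h₁ : i₁ ≫ B₁.p = q)
    (ι₁ : L₁ ≅ (Scheme.Modules.pullback i₁).obj B₁.O1)
    (i₂ : X ⟶ B₂.P) (h₂ : i₂ ≫ B₂.p = q)
    (ι₂ : L₂ ≅ (Scheme.Modules.pullback i₂).obj B₂.O1)
    (hjoint : IsImmersion (pullback.lift i₁ i₂ (h₁.trans h₂.symm))) :
    RelProj.IsRelVeryAmple q (CohB1.tensorMod L₁ L₂) := by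
  obtain ⟨𝒯, k, hk, Q, pQ, chartQ, hQ, O1Q, lamQ, hO1Q, φQ, hφQ, -, -⟩ :=
    Groth.Agent.PBundle.exists_projBundle (CohB1.tensorMod E₁ E₂)
  have hLL' : PicF.IsInvertible (CohB1.tensorMod L₁ L₂) := isInvertible_tensorMod hL₁ hL₂
  haveI : Epi (sTens q E₁ E₂ L₁ L₂ (sigOf B₁ i₁ h₁ ι₁) (sigOf B₂ i₂ h₂ ι₂)) :=
    epi_sTens q E₁ E₂ L₁ L₂ _ _ hL₁ hL₂
  obtain ⟨r, hr, τ, hτ⟩ := exists_r_tau (CohB1.tensorMod E₁ E₂) 𝒯 k hk pQ chartQ hQ O1Q lamQ hO1Q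
    φQ hφQ q (CohB1.tensorMod L₁ L₂) hLL'
    (sTens q E₁ E₂ L₁ L₂ (sigOf B₁ i₁ h₁ ι₁) (sigOf B₂ i₂ h₂ ι₂))
  let BQ : PB (CohB1.tensorMod E₁ E₂) := ⟨𝒯, k, hk, Q, pQ, chartQ, hQ, O1Q, lamQ, hO1Q, φQ, hφQ⟩
  let ρr : PBMap BQ q (CohB1.tensorMod L₁ L₂)
      (sTens q E₁ E₂ L₁ L₂ (sigOf B₁ i₁ h₁ ι₁) (sigOf B₂ i₂ h₂ ι₂)) :=
    ⟨r, hr, (pullbackPushforwardAdjunction r).homEquiv O1Q _ τ.hom,
      nu_of_tau (CohB1.tensorMod E₁ E₂) pQ O1Q φQ q _ _ r hr τ.hom hτ, by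
        rw [Equiv.symm_apply_apply]; infer_instance⟩
  have himm_r : IsImmersion r :=
    isImmersion_r_of_joint hL₁ hL₂ (PBMap.ofIso B₁ i₁ h₁ ι₁) (PBMap.ofIso B₂ i₂ h₂ ι₂) ρr hjoint
  exact ⟨CohB1.tensorMod E₁ E₂, inferInstance, 𝒯, k, hk, Q, pQ, chartQ, hQ, O1Q, lamQ, hO1Q, r,
    himm_r, hr, ⟨τ.symm⟩⟩

end mainJoint

end Groth.Agent.VATens
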