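import Mathlib
import Groth.Prelude
import Groth.Agent.Lib.PnVA2_helper5
import Groth.Agent.Lib.VATens11_helper5
import Groth.Agent.Lib.VATens6_helper5
import Groth.Agent.Lib.VAPn1_helper5
import Groth.Agent.Lib.ProjUP4_helper5
import Groth.Agent.Lib.TensQC3_helper8
import Groth.Agent.Lib.QCohCrit_helper9

/-!
# Tensor products of modules very ample in the projective-space sense over an affine base
(helper5).  APPEND-ONLY once landed.
-/

set_option autoImplicit false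
universe u
open CategoryTheory AlgebraicGeometry TopologicalSpace Opposite
open scoped HomogeneousIdeal

noncomputable section

namespace Groth.Agent.PnVA

open QcqsLoc QCohExtn GenLocH8 Scheme.Modules Groth.Agent.UPB Groth.Agent.GrTw Groth.Agent.RelProjTN
  Groth.Agent.SymSum Groth.Agent.SymGr Groth.Agent.SymAlg Groth.Agent.ProjUPU Groth.Agent.VAmpPn
  Groth.Agent.VATens TensH8 FLFH8 PBH8 Groth.Agent.ProjUPE Groth.Agent.Lib.QCohLoc_helper4

/-- A free module of finite rank is of finite type. -/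
theorem isFiniteType_freeMod (Y : Scheme.{u}) (n : ℕ) : CohB1.IsFT (FlatMod.freeMod Y n) := by
  haveI := SDivGenH8.isQuasicoherent_freeMod (Y := Y) n
  refine QCohCrit.isFiniteType_of_sections_cover _ (fun U : Y.affineOpens => (U : Y.Opens))
    (fun U => U.2) (iSup_affineOpens_eq_top Y) (fun U => ?_)
  classical
  refine ⟨⟨Finset.univ.image (FLFH8.stdSec (Y := Y) n U.1), ?_⟩⟩
  rw [Finset.coe_image, Finset.coe_univ, Set.image_univ]
  exact FLFH8.stdSec_span n U.1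

/-- **Very ample in the projective-space sense**: explicit data, with the bundle `P(O_Y^{N+1})`
packaged as a `PB`. -/
theorem exists_PB_free_of_isRelVeryAmplePn {X Y : Scheme.{u}} (q : X ⟶ Y) (M : X.Modules)
    (hM : PicF.IsInvertible M) (h : RelAmple.IsRelVeryAmplePn q M) :
    ∃ (N : ℕ) (B : PB (FlatMod.freeMod Y (N + 1))) (r : X ⟶ B.P) (_ : r ≫ B.p = q)
      (_ : IsImmersion r), Nonempty (M ≅ (Scheme.Modules.pullback r).obj B.O1) := by
  obtain ⟨N, i, hi, hiq, ⟨eM⟩⟩ := h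
  obtain ⟨ρ₀, hρ₀, ⟨τ₀⟩⟩ : ∃ ρ₀ : X ⟶ Proj (CohB1.polyGrading N (ULift.{u} ℤ)),
      i ≫ pr1 N Y = ρ₀ ∧
      Nonempty ((pullback ρ₀).obj (Twist.twist (CohB1.polyGrading N (ULift.{u} ℤ)) 1) ≅ M) :=
    ⟨i ≫ pr1 N Y, rfl,
      ⟨((pullbackComp i (pr1 N Y)).symm.app
        (Twist.twist (CohB1.polyGrading N (ULift.{u} ℤ)) 1)) ≪≫ eM.symm⟩⟩
  haveI hqc : (FlatMod.freeMod Y (N + 1)).IsQuasicoherent :=
    SDivGenH8.isQuasicoherent_freeMod (N + 1)
  obtain ⟨𝒮, j, hj, P, p, chart, hP, O1, lam, hO1, φ, hφ, hO1inv, -⟩ :=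
    Groth.Agent.PBundle.exists_projBundle (FlatMod.freeMod Y (N + 1))
  obtain ⟨r, hr, τ, hτ⟩ := exists_r_tau _ 𝒮 j hj p chart hP O1 lam hO1 φ hφ q M hM
    (sHom q M N ρ₀ τ₀)
  have hgen := generatedBy_tsec N 𝒮 j hj p chart O1 lam hO1 φ hφ
  obtain ⟨ρ, -, τρ, hτρ⟩ := Groth.Agent.S3572.result (R := ULift.{u} ℤ) N
    (specULiftZIsTerminal.from P) O1 hO1inv (tsec N p O1 φ) hgen
  have key : r ≫ ρ = ρ₀ := by
    refine Groth.Agent.S3573.result N (r ≫ ρ) ρ₀ (specULiftZIsTerminal.hom_ext _ _)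
      ((((pullbackComp r ρ).symm.app (Twist.twist (CohB1.polyGrading N (ULift.{u} ℤ)) 1)) ≪≫
        (pullback r).mapIso τρ ≪≫ τ) ≪≫ τ₀.symm) fun k => ?_
    have h1 := comp_app_pullSec q M N ρ₀ τ₀ p O1 φ r hr τ.hom hτ ρ τρ.hom hτρ k
    refine (congrArg (fun z => τ₀.inv.app ⊤ z) h1).trans ?_
    show (τ₀.hom ≫ τ₀.inv).app ⊤ _ = _
    rw [Iso.hom_inv_id]
    rfl
  obtain ⟨i', hi'1, hi'2⟩ : ∃ i' : P ⟶ CohB1.ProjSpaceOver N Y,
      i' ≫ pr1 N Y = ρ ∧ i' ≫ pr2 N Y = p :=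
    ⟨Limits.pullback.lift ρ p (specULiftZIsTerminal.hom_ext _ _),
      Limits.pullback.lift_fst _ _ _, Limits.pullback.lift_snd _ _ _⟩
  have hri : r ≫ i' = i := by
    apply Limits.pullback.hom_ext
    · have h1 : (r ≫ i') ≫ pr1 N Y = i ≫ pr1 N Y := by
        rw [Category.assoc, hi'1]
        exact key.trans hρ₀.symm
      exact h1
    · have h2 : (r ≫ i') ≫ pr2 N Y = i ≫ pr2 N Y := by
        rw [Category.assoc, hi'2, hr]
        exact hiq.symm
      exact h2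
  haveI : IsImmersion (r ≫ i') := by
    rw [hri]; exact hi
  haveI : IsImmersion r := IsImmersion.of_comp r i'
  exact ⟨N, ⟨𝒮, j, hj, P, p, chart, hP, O1, lam, hO1, φ, hφ⟩, r, hr, inferInstance, ⟨τ.symm⟩⟩

section FreeQuot
variable {X Y : Scheme.{u}} (q : X ⟶ Y) (M : X.Modules) {m : ℕ}
  (t : Fin m → Γ((pushforward q).obj M, ⊤))

/-- `q^* O_Y^m ⟶ M` given by `m` global sections of `M`. -/
def secQuot : (pullback q).obj (FlatMod.freeMod Y m) ⟶ M :=
  ((pullbackPushforwardAdjunction q).homEquiv _ _).symm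
    (SDivGenH8.freeHom ((pushforward q).obj M) t)

theorem sb_secQuot (U : Y.Opens) (k : Fin m) :
    sb q (FlatMod.freeMod Y m) M (secQuot q M t) U (FLFH8.stdSec m U k) =
      rF M (le_top : q ⁻¹ᵁ U ≤ ⊤) (show Γ(M, ⊤) from t k) := by
  refine (Groth.Agent.GrTw.adj_symm_cUV q (SDivGenH8.freeHom ((pushforward q).obj M) t) U
    (FLFH8.stdSec m U k)).trans ?_
  unfold FLFH8.stdSec
  refine Eq.trans ?_ (SDivGenH8.unitHom_app_one ((pushforward q).obj M) (t k) U)
  rw [← SDivGenH8.ι_freeHom ((pushforward q).obj M) t k]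
  rfl

/-- Around every point one of a generating family of global sections generates. -/
theorem exists_isGen_of_generatedBy {X : Scheme.{u}} (L : X.Modules) (hL : PicF.IsInvertible L)
    {ι : Type*} (v : ι → ProjUP.Γm L) (hgen : ProjUP.GeneratedBy L v) (x : X) :
    ∃ (k : ι) (U : X.Opens), x ∈ U ∧ IsGen L U (rF L (le_top : U ≤ ⊤) (v k)) := by
  obtain ⟨W, -, hxW, e, he⟩ := exists_isGen hL x
  obtain ⟨-, h2⟩ := SecOrdH8.stalk_gen he hxW
  have hc : ∀ m, ∃ c : Γ(X, W), rF L le_top (v m) = c • e := fun m => he.exists_coef _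
  choose c hc using hc
  have hgerm : ∀ m, L.presheaf.germ ⊤ x trivial (v m) =
      X.presheaf.germ W x hxW (c m) • L.presheaf.germ W x hxW e := by
    intro m
    rw [← SecOrdH8.germ_rF L le_top x hxW (v m), hc m, germ_smul]
  have hex : ∃ m, IsUnit (X.presheaf.germ W x hxW (c m)) := by
    by_contra hcon
    push Not at hcon
    let N : Submodule (X.presheaf.stalk x) (L.presheaf.stalk x) :=
      { carrier := {z | ∃ a ∈ IsLocalRing.maximalIdeal (X.presheaf.stalk x),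
          z = a • L.presheaf.germ W x hxW e}
        add_mem' := by
          rintro _ _ ⟨a, ha, rfl⟩ ⟨b, hb, rfl⟩
          exact ⟨a + b, add_mem ha hb, (add_smul _ _ _).symm⟩
        zero_mem' := ⟨0, zero_mem _, (zero_smul _ _).symm⟩
        smul_mem' := by
          rintro b _ ⟨a, ha, rfl⟩
          exact ⟨b * a, Ideal.mul_mem_left _ b ha, (mul_smul _ _ _).symm⟩ }
    have hle : Submodule.span (X.presheaf.stalk x)
        (Set.range fun m => (L.presheaf.germ ⊤ x trivial).hom (v m)) ≤ N := by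
      rw [Submodule.span_le]
      rintro _ ⟨m, rfl⟩
      exact ⟨_, (IsLocalRing.mem_maximalIdeal _).mpr (hcon m), hgerm m⟩
    rw [hgen x] at hle
    obtain ⟨a, ha, hat⟩ := hle (Submodule.mem_top : L.presheaf.germ W x hxW e ∈ ⊤)
    have h3 : (1 - a) • L.presheaf.germ W x hxW e = 0 := by
      rw [sub_smul, one_smul, ← hat, sub_self]
    have h4 := h2 _ h3
    have h5 : a = 1 := (sub_eq_zero.mp h4).symm
    rw [h5] at ha
    exact (IsLocalRing.maximalIdeal.isMaximal _).ne_top ((Ideal.eq_top_iff_one _).mpr ha)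
  obtain ⟨m, hm⟩ := hex
  have hxb : x ∈ X.basicOpen (c m) := (Scheme.mem_basicOpen _ _ _ hxW).mpr hm
  have hle : X.basicOpen (c m) ≤ W := X.basicOpen_le _
  refine ⟨m, X.basicOpen (c m), hxb, ?_⟩
  have h6 : rF L (le_top : X.basicOpen (c m) ≤ ⊤) (v m) = rX hle (c m) • rF L hle e := by
    rw [← rF_rF L hle (le_top : W ≤ ⊤), hc m, rF_smul]
  rw [h6]
  exact isGen_smul_of_isUnit (he.res hle) (X.toRingedSpace.isUnit_res_basicOpen (c m))

/-- If the sections generate `M`, the map `q^* O_Y^m ⟶ M` is an epimorphism. -/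
theorem epi_secQuot (hM : PicF.IsInvertible M) (s : Fin m → ProjUP.Γm M)
    (hs : ProjUP.GeneratedBy M s) :
    Epi (secQuot q M (fun k => (s k : Γ((pushforward q).obj M, ⊤)))) := by
  refine epi_of_gen q _ M _ fun x => ?_
  obtain ⟨k, U, hxU, hk⟩ := exists_isGen_of_generatedBy M hM s hs x
  refine ⟨⊤, FLFH8.stdSec m ⊤ k, U, fun _ _ => trivial, hxU, ?_⟩
  rw [sb_secQuot, rF_rF]
  exact hk

end FreeQuot

/-- The explicit form of EGA II 4.4.8: the immersion into `P(E ⊗ E')`. -/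
theorem exists_PB_tensor {X Y : Scheme.{u}} (q : X ⟶ Y) {E E' : Y.Modules} [E.IsQuasicoherent]
    [E'.IsQuasicoherent] {L L' : X.Modules} (hL : PicF.IsInvertible L)
    (hL' : PicF.IsInvertible L') (B : PB E) (i : X ⟶ B.P) (hi : i ≫ B.p = q) [IsImmersion i]
    (ι₀ : L ≅ (Scheme.Modules.pullback i).obj B.O1)
    (σ' : (Scheme.Modules.pullback q).obj E' ⟶ L') [Epi σ'] :
    ∃ (BQ : PB (CohB1.tensorMod E E')) (r : X ⟶ BQ.P), r ≫ BQ.p = q ∧ IsImmersion r ∧
      Nonempty (CohB1.tensorMod L L' ≅ (Scheme.Modules.pullback r).obj BQ.O1) := by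
  obtain ⟨𝒯, k, hk, Q, pQ, chartQ, hQ, O1Q, lamQ, hO1Q, φQ, hφQ, -, -⟩ :=
    Groth.Agent.PBundle.exists_projBundle (CohB1.tensorMod E E')
  have hLL' : PicF.IsInvertible (CohB1.tensorMod L L') := TensH8.isInvertible_tensorMod hL hL'
  haveI : Epi (sTens q E E' L L' (sigOf B i hi ι₀) σ') := epi_sTens q E E' L L' _ σ' hL hL'
  obtain ⟨r, hr, τ, hτ⟩ := exists_r_tau (CohB1.tensorMod E E') 𝒯 k hk pQ chartQ hQ O1Q lamQ hO1Q
    φQ hφQ q (CohB1.tensorMod L L') hLL' (sTens q E E' L L' (sigOf B i hi ι₀) σ')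
  let BQ : PB (CohB1.tensorMod E E') := ⟨𝒯, k, hk, Q, pQ, chartQ, hQ, O1Q, lamQ, hO1Q, φQ, hφQ⟩
  let ρr : PBMap BQ q (CohB1.tensorMod L L') (sTens q E E' L L' (sigOf B i hi ι₀) σ') :=
    ⟨r, hr, (pullbackPushforwardAdjunction r).homEquiv O1Q _ τ.hom,
      nu_of_tau (CohB1.tensorMod E E') pQ O1Q φQ q _ _ r hr τ.hom hτ, by
        rw [Equiv.symm_apply_apply]; infer_instance⟩
  haveI : IsImmersion (PBMap.ofIso B i hi ι₀).r := ‹IsImmersion i›
  have himm_r : IsImmersion ρr.r := isImmersion_r hL hL' (PBMap.ofIso B i hi ι₀) ρr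
  exact ⟨BQ, r, hr, himm_r, ⟨τ.symm⟩⟩

/-- **EGA II 4.4.8 in the projective-space form over an affine base**: `L` very ample relative
to some `P^n_S` and `L'` generated by finitely many global sections. -/
theorem isRelVeryAmplePn_tensor {X S : Scheme.{u}} [IsAffine S] (q : X ⟶ S) (L L' : X.Modules)
    (hL : PicF.IsInvertible L) (hva : RelAmple.IsRelVeryAmplePn q L) (hL' : PicF.IsInvertible L')
    {m : ℕ} (s : Fin m → ProjUP.Γm L') (hs : ProjUP.GeneratedBy L' s) :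
    RelAmple.IsRelVeryAmplePn q (CohB1.tensorMod L L') := by
  obtain ⟨N, B, i, hi, himm, ⟨ι₀⟩⟩ := exists_PB_free_of_isRelVeryAmplePn q L hL hva
  haveI := himm
  haveI : (FlatMod.freeMod S (N + 1)).IsQuasicoherent := SDivGenH8.isQuasicoherent_freeMod (N + 1)
  haveI : (FlatMod.freeMod S m).IsQuasicoherent := SDivGenH8.isQuasicoherent_freeMod m
  haveI := epi_secQuot q L' hL' s hs
  obtain ⟨BQ, r, hr, himm_r, ⟨τ⟩⟩ := exists_PB_tensor q hL hL' B i hi ι₀
    (secQuot q L' (fun k => (s k : Γ((pushforward q).obj L', ⊤))))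
  have hft : CohB1.IsFT (CohB1.tensorMod (FlatMod.freeMod S (N + 1)) (FlatMod.freeMod S m)) :=
    TensQCH8.isFiniteType_tensorMod _ _ (isFiniteType_freeMod S (N + 1))
      (isFiniteType_freeMod S m)
  obtain ⟨n, c, hc, hcp, ⟨eO⟩⟩ :=
    Groth.Agent.VAPn.isRelVeryAmplePn_projBundle _ BQ.𝒮 BQ.j BQ.hj BQ.p BQ.chart BQ.hP BQ.O1
      BQ.lam BQ.hO1 hft
  haveI := himm_r
  haveI := hc
  refine ⟨n, r ≫ c, inferInstance, ?_, ⟨?_⟩⟩
  · rw [Category.assoc, hcp, hr]
  · exact τ ≪≫ (Scheme.Modules.pullback r).mapIso eO ≪≫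
      ((Scheme.Modules.pullbackComp r c).app _)

end Groth.Agent.PnVA
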