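import Mathlib
import Groth.Prelude
import Groth.Agent.Lib.Exist2_helper2
import Groth.Agent.Lib.FormalKer2_helper2
import Groth.Agent.Lib.FinGG_helper5
import Groth.Agent.Lib.InvTensP2_helper5
import Groth.Agent.Lib.Tens29_helper8
import Groth.Agent.Lib.TensInv2_helper9
import Groth.Agent.Lib.RelAmpleVan_helper9
import Groth.Agent.Lib.H0Lift4_helper2
import Groth.Agent.Lib.VAPnTens1_helper5
import Groth.Agent.Lib.FibAmp3_helper2

/-!
# Grothendieck existence, projective case: Step 1 (helper2)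

`X` proper over Noetherian `A` with an ample `L`, `(G_n)` a coherent formal module: there are an
invertible `T'` (a negative power of `L`), `k`, and compatible epimorphisms
`u_n : O^k ⊗ T' ⟶ G_n` (`exists_cover`).  If moreover `A` is `I`-adically complete then compatible
maps `O^k ⊗ T' ⟶ N/I^{n+1}N` (`N` coherent) come from a map `O^k ⊗ T' ⟶ N`
(`exists_lift_special`).
APPEND-ONLY once landed.
-/

set_option autoImplicit false
universe u
open CategoryTheory CategoryTheory.Limits AlgebraicGeometry TopologicalSpace Opposite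

namespace Groth.Agent.Lib.FormalQuotH2

open Formal Groth.Agent.Lib.FormalModPowH4 Groth.Agent.Lib.FormalFnH2 Groth.Agent.Lib.FibAmpH2
  Groth.Agent.Lib.FlatBCH2 Groth.Agent.TensInv

section Gen

theorem shortExact_kernel {C : Type*} [Category C] [Abelian C] {M N : C} (g : M ⟶ N) [Epi g] :
    (ShortComplex.mk (kernel.ι g) g (kernel.condition g)).ShortExact :=
  { exact := ShortComplex.exact_of_f_is_kernel _ (kernelIsKernel g)
    mono_f := inferInstanceAs (Mono (kernel.ι g))
    epi_g := ‹Epi g› }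

theorem epi_homEquiv_symm {C D : Type*} [Category C] [Category D] {F : C ⥤ D} {G : D ⥤ C}
    (adj : F ⊣ G) [G.Faithful] {X : C} {Y : D} (p : X ⟶ G.obj Y) [Epi p] :
    Epi ((adj.homEquiv X Y).symm p) := by
  constructor
  intro Z g h hgh
  have h1 := congrArg (adj.homEquiv X Z) hgh
  rw [Adjunction.homEquiv_naturality_right, Adjunction.homEquiv_naturality_right,
    Equiv.apply_symm_apply] at h1
  exact G.map_injective ((cancel_epi p).mp h1)

end Gen

section Adj

variable {X : Scheme.{u}} (T T' : X.Modules) (e : CohB1.tensorMod T T' ≅ Coh.structureModule X)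

/-- the equivalence `- ⊗ T` -/
noncomputable def eqvT : X.Modules ≌ X.Modules :=
  Groth.Agent.TensInv.tensorRightEquiv X.sheaf T T' e

/-- adjunction `- ⊗ T' ⊣ - ⊗ T` -/
noncomputable def adjT : tR T' ⊣ tR T := (eqvT T T' e).symm.toAdjunction

/-- adjunction `- ⊗ T ⊣ - ⊗ T'` -/
noncomputable def adjT' : tR T ⊣ tR T' := (eqvT T T' e).toAdjunction

end Adj

section Special

variable (A : Type u) [CommRing A] [IsNoetherianRing A] (I : Ideal A) [IsAdicComplete I A]
  (X : Scheme.{u}) [X.Over (Spec (CommRingCat.of A))] [IsProper (X ↘ Spec (CommRingCat.of A))]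

theorem exists_lift_special (T T' : X.Modules) (hT : PicF.IsInvertible T)
    (e : CohB1.tensorMod T T' ≅ Coh.structureModule X) (k : ℕ) (N : X.Modules)
    (hN : Coh.IsCoh N)
    (y : ∀ n : ℕ, (tR T').obj (FlatMod.freeMod X k) ⟶ Formal.modPow I (n + 1) N)
    (hy : ∀ n, y (n + 1) ≫ Formal.modPowTrans I (n + 1) N = y n) :
    ∃ w : (tR T').obj (FlatMod.freeMod X k) ⟶ N,
      ∀ n, w ≫ Formal.modPowπ I (n + 1) N = y n := by
  have hNT : Coh.IsCoh ((tR T).obj N) :=
    RelAmpleVanH9.isCoh_tensorMod hN (H0LiftH2.isCoh_of_isInvertible hT)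
  have hq : ∀ n, IsQuot (I ^ (n + 1)) ((tR T).map (Formal.modPowπ I (n + 1) N)) :=
    fun n => (isQuot_modPowπ I (n + 1) N).map_of_adjunction (adjT' T T' e)
      (fun M a => tR_map_smulMod T M a)
  obtain ⟨w, hw⟩ := exists_hom_free_of_isQuot A I X ((tR T).obj N) hNT k
    (fun n => (tR T).obj (Formal.modPow I (n + 1) N))
    (fun n => (tR T).map (Formal.modPowπ I (n + 1) N)) hq
    (fun n => (tR T).map (Formal.modPowTrans I (n + 1) N))
    (fun n => by rw [← Functor.map_comp, Formal.modPowπ_trans])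
    (fun n => (adjT T T' e).homEquiv _ _ (y n))
    (fun n => by rw [← Adjunction.homEquiv_naturality_right, hy])
  refine ⟨((adjT T T' e).homEquiv _ _).symm w, fun n => ?_⟩
  rw [← Adjunction.homEquiv_naturality_right_symm, hw, Equiv.symm_apply_apply]

end Special

section Cover

variable (A : Type u) [CommRing A] [IsNoetherianRing A] (I : Ideal A)
  (X : Scheme.{u}) [X.Over (Spec (CommRingCat.of A))] [IsProper (X ↘ Spec (CommRingCat.of A))]

theorem isCoh_freeMod (Y : Scheme.{u}) (k : ℕ) : Coh.IsCoh (FlatMod.freeMod Y k) :=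
  ⟨SDivGenH8.isQuasicoherent_freeMod k, Groth.Agent.PnVA.isFiniteType_freeMod Y k⟩

/-- **Step 1** -/
theorem exists_cover (L : X.Modules) (hL : CohB1.IsAmple L) (G : ℕᵒᵖ ⥤ X.Modules)
    (hG : Formal.IsCohFormal I G) :
    ∃ (T T' : X.Modules) (_ : PicF.IsInvertible T) (_ : PicF.IsInvertible T')
      (_ : CohB1.tensorMod T T' ≅ Coh.structureModule X) (k : ℕ)
      (u : ∀ n, (tR T').obj (FlatMod.freeMod X k) ⟶ Gn G n),
      (∀ n, u (n + 1) ≫ tG G n = u n) ∧ ∀ n, Epi (u n) := by
  haveI : IsLocallyNoetherian X :=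
    LocallyOfFiniteType.isLocallyNoetherian (X ↘ Spec (CommRingCat.of A))
  haveI : CompactSpace X :=
    QuasiCompact.compactSpace_of_compactSpace (X ↘ Spec (CommRingCat.of A))
  obtain ⟨d₁, hd₁⟩ := main0848 A I X L hL G hG
  obtain ⟨d₂, hd₂⟩ := TensH8.exists_isGloballyGenerated_twist hL (Gn G 0) (hG.1 0)
  have hT : PicF.IsInvertible (CohB1.tensorPow L (max d₁ d₂)) :=
    TensH8.isInvertible_tensorPow hL.1 _
  obtain ⟨T', hT', ⟨e⟩⟩ := Groth.Agent.InvTensP.exists_inverse _ hT
  have hcoh0 : Coh.IsCoh (CohB1.tensorMod (Gn G 0) (CohB1.tensorPow L (max d₁ d₂))) :=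
    RelAmpleVanH9.isCoh_tensorMod (hG.1 0) (H0LiftH2.isCoh_of_isInvertible hT)
  haveI := hcoh0.1
  haveI := hcoh0.2
  obtain ⟨k, p₀, hp₀⟩ := Groth.Agent.FinGG.exists_epi_freeMod
    (CohB1.tensorMod (Gn G 0) (CohB1.tensorPow L (max d₁ d₂))) (hd₂ _ (le_max_right _ _))
  -- abbreviations
  generalize hTdef : CohB1.tensorPow L (max d₁ d₂) = T at hT e hcoh0 p₀ hp₀
  have hvan : ∀ n, Subsingleton (Coh.HH X ((tR T).obj (kernel (tG G n))) 1) := by
    intro n
    rw [← hTdef]
    exact hd₁ n _ (le_max_left _ _)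
  have hlift : ∀ n (sn : FlatMod.freeMod X k ⟶ (tR T).obj (Gn G n)),
      ∃ s' : FlatMod.freeMod X k ⟶ (tR T).obj (Gn G (n + 1)), s' ≫ (tR T).map (tG G n) = sn := by
    intro n sn
    haveI : Epi (tG G n) := (isQuot_tG hG n).2.1
    have hS := shortExact_tR ⟨e⟩ _ (shortExact_kernel (tG G n))
    exact exists_lift_freeMod _ hS (hvan n) k sn
  let s : ∀ n, FlatMod.freeMod X k ⟶ (tR T).obj (Gn G n) := fun n =>
    Nat.rec (motive := fun n => FlatMod.freeMod X k ⟶ (tR T).obj (Gn G n)) p₀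
      (fun n sn => Classical.choose (hlift n sn)) n
  have hs : ∀ n, s (n + 1) ≫ (tR T).map (tG G n) = s n :=
    fun n => Classical.choose_spec (hlift n (s n))
  let u : ∀ n, (tR T').obj (FlatMod.freeMod X k) ⟶ Gn G n :=
    fun n => ((adjT T T' e).homEquiv _ _).symm (s n)
  have hu : ∀ n, u (n + 1) ≫ tG G n = u n := by
    intro n
    show ((adjT T T' e).homEquiv _ _).symm (s (n + 1)) ≫ tG G n = _
    rw [← Adjunction.homEquiv_naturality_right_symm, hs]
  haveI : (tR T).IsEquivalence := isEquivalence_tR ⟨e⟩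
  have hepi : ∀ n, Epi (u n) := by
    intro n
    induction n with
    | zero =>
      haveI : Epi (s 0) := hp₀
      exact epi_homEquiv_symm (adjT T T' e) (s 0)
    | succ n ih =>
      have h1 : Epi (u (n + 1) ≫ tG G n) := by rw [hu]; exact ih
      exact epi_of_epi_comp_isQuot I
        (Ideal.pow_le_self (Nat.succ_ne_zero n)) (u (n + 1)) (isQuot_tG hG n) (n + 1 + 1)
        (hG.2.1 (n + 1)) h1
  exact ⟨T, T', hT, hT', e, k, u, hu, hepi⟩

end Cover

end Groth.Agent.Lib.FormalQuotH2
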