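import Mathlib
import Groth.Prelude
import Groth.Agent.Lib.Exist1_helper2
import Groth.Agent.Lib.QCohLoc_helper4
import Groth.Agent.Lib.QCohExact_helper9
import Groth.Agent.Lib.Tens29_helper8

/-!
# Grothendieck existence, projective case: Artin–Rees and sections over affine opens (helper2)

* `artinRees_aux`: the uniform Artin–Rees estimate for the kernels of a surjective system;
* `hom_eq_zero_of_affine_cover`: a morphism out of a quasi-coherent module vanishing on sections
  over the members of an affine cover is zero;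
* `epi_of_app_surjective_affine`;
* `sl φ U` (the linear map on sections), `IsQuot.app_eq_zero_iff`, `eq_zero_of_mem_smul_top_of_killed`,
  `smul_top_eq_map_of_surjective`.
APPEND-ONLY once landed.
-/

set_option autoImplicit false
universe u
open CategoryTheory CategoryTheory.Limits AlgebraicGeometry TopologicalSpace Opposite

namespace Groth.Agent.Lib.FormalQuotH2

open Formal Groth.Agent.Lib.FormalModPowH4 Groth.Agent.Lib.FormalFnH2 Groth.Agent.Lib.FibAmpH2
  Groth.Agent.Lib.FlatBCH2 Groth.Agent.Lib.FibVanH2 QcqsLoc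

section Alg

variable {B : Type*} [CommRing B] [IsNoetherianRing B] (J : Ideal B) {M : Type*} [AddCommGroup M]
  [Module B M] [Module.Finite B M]

theorem artinRees_aux (F : ℕ → Submodule B M) (f1 : ∀ m, F (m + 1) ≤ F m)
    (f2 : ∀ m, J • F m ≤ F (m + 1))
    (f4 : ∀ m, F m ≤ F (m + 1) ⊔ J ^ (m + 1) • (⊤ : Submodule B M)) :
    ∃ N : ℕ, ∀ n m : ℕ, n + N ≤ m →
      F (m + 1) ⊓ J ^ (m + 1) • (⊤ : Submodule B M) ≤
        J ^ (n + 1) • F (m + 1) ⊔ J ^ (m + 2) • (⊤ : Submodule B M) := by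
  have f4' : ∀ a d, F a ≤ F (a + d) ⊔ J ^ (a + 1) • (⊤ : Submodule B M) := by
    intro a d
    induction d with
    | zero => exact le_sup_left
    | succ d ih =>
      refine ih.trans (sup_le ((f4 (a + d)).trans (sup_le le_sup_left ?_)) le_sup_right)
      exact (Submodule.smul_mono_left (Ideal.pow_le_pow_right (by omega))).trans le_sup_right
  let 𝒩 : J.Filtration M :=
    { N := fun k => F k ⊓ J ^ k • ⊤
      mono := fun k => inf_le_inf (f1 k)
        (Submodule.smul_mono_left (Ideal.pow_le_pow_right (Nat.le_succ k)))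
      smul_le := fun k => le_inf ((Submodule.smul_mono le_rfl inf_le_left).trans (f2 k))
        ((Submodule.smul_mono le_rfl inf_le_right).trans (by
          rw [← mul_smul, ← pow_succ'])) }
  have hle : 𝒩 ≤ J.stableFiltration ⊤ := fun k => inf_le_right
  have hst : 𝒩.Stable := (J.stableFiltration_stable ⊤).of_le hle
  obtain ⟨n₀, hn₀⟩ := hst.exists_pow_smul_eq
  refine ⟨n₀, fun n m h => ?_⟩
  obtain ⟨j, rfl⟩ := Nat.exists_eq_add_of_le h
  have e1 : n + n₀ + j + 1 = n₀ + (n + 1 + j) := by omega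
  have h1 : 𝒩.N (n + n₀ + j + 1) = J ^ (n + 1) • 𝒩.N (n₀ + j) := by
    rw [e1, hn₀, hn₀, pow_add, mul_smul]
  have h2 : 𝒩.N (n₀ + j) ≤ F (n + n₀ + j + 1) ⊔ J ^ (n₀ + j + 1) • (⊤ : Submodule B M) := by
    have h3 := f4' (n₀ + j) (n + 1)
    have e2 : n₀ + j + (n + 1) = n + n₀ + j + 1 := by omega
    rw [e2] at h3
    exact inf_le_left.trans h3
  show 𝒩.N (n + n₀ + j + 1) ≤ _
  rw [h1]
  refine (Submodule.smul_mono le_rfl h2).trans ?_
  rw [Submodule.smul_sup]
  refine sup_le_sup le_rfl ?_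
  rw [← mul_smul, ← pow_add]
  have e3 : n + 1 + (n₀ + j + 1) = n + n₀ + j + 2 := by omega
  rw [e3]

end Alg

section Cover

variable {X : Scheme.{u}}

open Groth.Agent.Lib.QCohLoc_helper4 in
/-- a morphism out of a quasi-coherent module vanishing on sections over the members of an affine
cover is zero -/
theorem hom_eq_zero_of_affine_cover {M Z : X.Modules} [M.IsQuasicoherent] (φ : M ⟶ Z)
    (S : Set X.Opens) (hS : ∀ U ∈ S, IsAffineOpen U) (hcov : ∀ x : X, ∃ U ∈ S, x ∈ U)
    (h : ∀ U ∈ S, ∀ y : Γ(M, U), φ.app U y = 0) : φ = 0 := by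
  refine Scheme.Modules.hom_ext _ _ (fun W => ?_)
  ext x
  show φ.app W x = (0 : M ⟶ Z).app W x
  rw [zero_app']
  refine eq_zero_of_cover Z _ (fun p hp => ?_)
  obtain ⟨U, hUS, hpU⟩ := hcov p
  have hU := hS U hUS
  obtain ⟨f, hfV, hpf⟩ := hU.exists_basicOpen_le (V := W ⊓ U) ⟨p, ⟨hp, hpU⟩⟩ hpU
  have hVW : X.basicOpen f ≤ W := hfV.trans inf_le_left
  refine ⟨X.basicOpen f, hVW, hpf, ?_⟩
  rw [← app_rF]
  obtain ⟨k, t, ht⟩ := (locOn_of_isQuasicoherent M hU).ex f (rF M hVW x)
  have ht' : rX (X.basicOpen_le f) f ^ k • rF M hVW x = rF M (X.basicOpen_le f) t := ht.symm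
  have h1 : rX (X.basicOpen_le f) f ^ k • φ.app (X.basicOpen f) (rF M hVW x) = 0 := by
    rw [← Scheme.Modules.Hom.app_smul, ht', app_rF, h U hUS t, map_zero]
  have hunit : IsUnit (rX (X.basicOpen_le f) f ^ k) :=
    (X.toRingedSpace.isUnit_res_basicOpen f).pow k
  exact hunit.smul_eq_zero.mp h1

/-- surjectivity on sections over affine opens implies epi -/
theorem epi_of_app_surjective_affine {M N : X.Modules} (φ : M ⟶ N)
    (h : ∀ U : X.Opens, IsAffineOpen U → Function.Surjective (φ.app U)) : Epi φ := by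
  refine TensH8.epi_of_locally_surjective φ (fun U m x hx => ?_)
  obtain ⟨_, ⟨V, rfl⟩, hxV, hVU⟩ := Opens.isBasis_iff_nbhd.mp (isBasis_affine (X := X)) hx
  obtain ⟨z, hz⟩ := h V.1 V.2 (rF N hVU m)
  exact ⟨V.1, hVU, hxV, z, hz⟩

/-- the linear map on sections -/
noncomputable def sl {M N : X.Modules} (φ : M ⟶ N) (U : X.Opens) :
    Γ(M, U) →ₗ[Γ(X, U)] Γ(N, U) where
  toFun m := φ.app U m
  map_add' a b := map_add _ a b
  map_smul' r m := Scheme.Modules.Hom.app_smul φ r m

@[simp]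
theorem sl_apply {M N : X.Modules} (φ : M ⟶ N) (U : X.Opens) (m : Γ(M, U)) :
    sl φ U m = φ.app U m := rfl

theorem sl_comp {M N P : X.Modules} (φ : M ⟶ N) (ψ : N ⟶ P) (U : X.Opens) :
    sl (φ ≫ ψ) U = (sl ψ U).comp (sl φ U) := by
  ext m
  show (φ ≫ ψ).app U m = ψ.app U (φ.app U m)
  rw [comp_app']

theorem sl_comp_apply {M N P : X.Modules} (φ : M ⟶ N) (ψ : N ⟶ P) (U : X.Opens) (m : Γ(M, U)) :
    sl ψ U (sl φ U m) = sl (φ ≫ ψ) U m := by
  rw [sl_comp]
  rfl

theorem sl_zero {M N : X.Modules} (U : X.Opens) : sl (0 : M ⟶ N) U = 0 := by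
  ext m
  show (0 : M ⟶ N).app U m = 0
  rw [zero_app']

theorem sl_injective_of_mono {M N : X.Modules} (φ : M ⟶ N) [Mono φ] (U : X.Opens) :
    Function.Injective (sl φ U) := QCohExact.app_injective_of_mono φ U

theorem sl_surjective_of_epi {M N : X.Modules} [M.IsQuasicoherent] [N.IsQuasicoherent]
    (φ : M ⟶ N) [Epi φ] {U : X.Opens} (hU : IsAffineOpen U) : Function.Surjective (sl φ U) :=
  QCohExact.app_surjective_of_epi φ hU

/-- left exactness of sections -/
theorem sl_range_kernel_ι {M N : X.Modules} (φ : M ⟶ N) (U : X.Opens) :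
    LinearMap.range (sl (kernel.ι φ) U) = LinearMap.ker (sl φ U) := by
  apply le_antisymm
  · rintro _ ⟨y, rfl⟩
    rw [LinearMap.mem_ker, sl_comp_apply, kernel.condition, sl_zero]
    rfl
  · intro x hx
    have hE : (ShortComplex.mk (kernel.ι φ) φ (kernel.condition φ)).Exact :=
      ShortComplex.exact_of_f_is_kernel _ (kernelIsKernel φ)
    haveI : Mono (ShortComplex.mk (kernel.ι φ) φ (kernel.condition φ)).f :=
      inferInstanceAs (Mono (kernel.ι φ))
    have hx'' : sl φ U x = 0 := hx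
    have hx' : φ.app U x = 0 := hx''
    obtain ⟨y, hy⟩ := QCohExact.app_exact _ hE U x hx'
    exact ⟨y, hy⟩

end Cover

section Sec

variable (A : Type u) [CommRing A] (I : Ideal A) {X : Scheme.{u}}
  [X.Over (Spec (CommRingCat.of A))]

/-- sections of a module killed by `I^k` are killed by `(I Γ(U, O))^k` -/
theorem eq_zero_of_mem_smul_top_of_killed {M : X.Modules} {k : ℕ}
    (hM : Formal.KilledBy (I ^ k) M) (U : X.Opens) (x : Γ(M, U))
    (hx : x ∈ (JU A I U) ^ k • (⊤ : Submodule Γ(X, U) Γ(M, U))) : x = 0 := by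
  refine Submodule.smul_induction_on hx (fun b hb y _ => ?_) (fun y z hy hz => ?_)
  · refine smul_eq_zero_of_mem_JU A M (I ^ k) U y (fun a ha => ?_) b ?_
    · rw [← smulMod_app, hM a ha, zero_app']
    · have hb' : b ∈ (Ideal.map (rUHom (A := A) U) I) ^ k := hb
      rwa [← Ideal.map_pow] at hb'
  · rw [hy, hz, add_zero]

/-- a morphism killing `I^k` vanishes on `(I Γ(U, O))^k Γ(U, M)` -/
theorem app_eq_zero_of_mem_smul_top {M Z : X.Modules} {k : ℕ} (g : M ⟶ Z)
    (hg : ∀ a ∈ I ^ k, Formal.smulMod A M a ≫ g = 0) (U : X.Opens) (x : Γ(M, U))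
    (hx : x ∈ (JU A I U) ^ k • (⊤ : Submodule Γ(X, U) Γ(M, U))) : g.app U x = 0 := by
  refine Submodule.smul_induction_on hx (fun b hb y _ => ?_) (fun y z hy hz => ?_)
  · rw [Scheme.Modules.Hom.app_smul]
    refine smul_eq_zero_of_mem_JU A Z (I ^ k) U _ (fun a ha => ?_) b ?_
    · rw [← Scheme.Modules.Hom.app_smul, ← smulMod_app, ← comp_app', hg a ha, zero_app']
    · have hb' : b ∈ (Ideal.map (rUHom (A := A) U) I) ^ k := hb
      rwa [← Ideal.map_pow] at hb'
  · rw [app_add', hy, hz, add_zero]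

variable [AlgebraicGeometry.IsNoetherian X]

/-- the kernel on affine sections of a quotient by `I^n` -/
theorem IsQuot.app_eq_zero_iff {M N : X.Modules} [M.IsQuasicoherent] {n : ℕ} {t : M ⟶ N}
    (ht : IsQuot (I ^ n) t) {U : X.Opens} (hU : IsAffineOpen U) (x : Γ(M, U)) :
    t.app U x = 0 ↔ x ∈ (JU A I U) ^ n • (⊤ : Submodule Γ(X, U) Γ(M, U)) := by
  obtain ⟨c, hc⟩ := (isQuot_modPowπ I n M).exists_iso ht
  rw [← modPowπ_app_eq_zero_iff A I M n hU x, ← hc, comp_app']
  constructor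
  · intro h
    apply QCohExact.app_injective_of_mono c.hom U
    rw [h, app_zero']
  · intro h
    rw [h, app_zero']

theorem IsQuot.ker_sl {M N : X.Modules} [M.IsQuasicoherent] {n : ℕ} {t : M ⟶ N}
    (ht : IsQuot (I ^ n) t) {U : X.Opens} (hU : IsAffineOpen U) :
    LinearMap.ker (sl t U) = (JU A I U) ^ n • (⊤ : Submodule Γ(X, U) Γ(M, U)) := by
  ext x
  rw [LinearMap.mem_ker]
  exact ht.app_eq_zero_iff A I hU x

omit [AlgebraicGeometry.IsNoetherian X] in
/-- a surjection on sections maps `J^k • ⊤` onto `J^k • ⊤` -/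
theorem smul_top_eq_map_of_surjective {M N : X.Modules} (φ : M ⟶ N) (U : X.Opens)
    (h : Function.Surjective (sl φ U)) (K : Ideal Γ(X, U)) :
    K • (⊤ : Submodule Γ(X, U) Γ(N, U)) =
      Submodule.map (sl φ U) (K • (⊤ : Submodule Γ(X, U) Γ(M, U))) := by
  rw [Submodule.map_smul'', Submodule.map_top, LinearMap.range_eq_top.mpr h]

end Sec

end Groth.Agent.Lib.FormalQuotH2
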