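import Mathlib
import Groth.Prelude
import Groth.Agent.Lib.Exist4_helper2
import Groth.Agent.Lib.SubExt_helper9
import Groth.Agent.Lib.CohKer_helper8

/-!
# Grothendieck existence, projective case: the kernel system (helper2)

`(G_n)` a coherent formal module, `u_n : E ⟶ G_n` compatible epimorphisms from a coherent `E`.
`uBar n : E/I^{n+1}E ⟶ G_n`, `Hb n = Ker (uBar n)`, `qH : Hb m ⟶ Hb n` (`n ≤ m`) are epimorphisms
(`epi_qH`), and the Artin–Rees estimate `exists_KL`.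
APPEND-ONLY once landed.
-/

set_option autoImplicit false
universe u
open CategoryTheory CategoryTheory.Limits AlgebraicGeometry TopologicalSpace Opposite

namespace Groth.Agent.Lib.FormalQuotH2

open Formal Groth.Agent.Lib.FormalModPowH4 Groth.Agent.Lib.FormalFnH2 Groth.Agent.Lib.FibAmpH2
  Groth.Agent.Lib.FlatBCH2 Groth.Agent.Lib.FibVanH2 QcqsLoc

section LE

variable {A : Type u} [CommRing A] (I : Ideal A) {X : Scheme.{u}}
  [X.Over (Spec (CommRingCat.of A))] (M : X.Modules)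

theorem modPowLE_trans {n m k : ℕ} (h1 : n ≤ m) (h2 : m ≤ k) :
    Formal2.modPowLE I h2 M ≫ Formal2.modPowLE I h1 M = Formal2.modPowLE I (h1.trans h2) M := by
  rw [← cancel_epi (Formal.modPowπ I k M), ← Category.assoc, Formal2.modPowπ_modPowLE,
    Formal2.modPowπ_modPowLE, Formal2.modPowπ_modPowLE]

theorem modPowTrans_eq_modPowLE (n : ℕ) :
    Formal.modPowTrans I n M = Formal2.modPowLE I (Nat.le_succ n) M := by
  rw [← cancel_epi (Formal.modPowπ I (n + 1) M), Formal.modPowπ_trans, Formal2.modPowπ_modPowLE]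

end LE

section Sys

variable {A : Type u} [CommRing A] {I : Ideal A} {X : Scheme.{u}}
  [X.Over (Spec (CommRingCat.of A))] {G : ℕᵒᵖ ⥤ X.Modules} (hG : Formal.IsCohFormal I G)
  {E : X.Modules} (u : ∀ n, E ⟶ Gn G n)

include hG in
theorem smulFamily_u (n : ℕ) : Formal.smulFamily (I ^ (n + 1)) E ≫ u n = 0 :=
  smulFamily_comp_eq_zero _ _ (fun a ha => by
    rw [smulMod_naturality, hG.2.1 n a ha, comp_zero])

/-- `E/I^{n+1}E ⟶ G_n` -/
noncomputable def uBar (n : ℕ) : Formal.modPow I (n + 1) E ⟶ Gn G n :=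
  cokernel.desc _ (u n) (smulFamily_u hG u n)

theorem π_uBar (n : ℕ) : Formal.modPowπ I (n + 1) E ≫ uBar hG u n = u n :=
  cokernel.π_desc _ _ _

theorem epi_uBar (n : ℕ) [Epi (u n)] : Epi (uBar hG u n) := by
  have h : Epi (Formal.modPowπ I (n + 1) E ≫ uBar hG u n) := by
    rw [π_uBar]
    infer_instance
  exact epi_of_epi (Formal.modPowπ I (n + 1) E) (uBar hG u n)

/-- the kernel of `E/I^{n+1}E ⟶ G_n` -/
noncomputable abbrev Hb (n : ℕ) : X.Modules := kernel (uBar hG u n)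

/-- the inclusion of the kernel -/
noncomputable abbrev ιH (n : ℕ) : Hb hG u n ⟶ Formal.modPow I (n + 1) E := kernel.ι (uBar hG u n)

variable (hu : ∀ n, u (n + 1) ≫ tG G n = u n)

include hu in
theorem u_gm {n m : ℕ} (h : n ≤ m) : u m ≫ gm G h = u n := by
  induction m, h using Nat.le_induction with
  | base => rw [gm_refl, Category.comp_id]
  | succ m h ih =>
    have h1 : u (m + 1) ≫ gm G (Nat.le_succ m) = u m := hu m
    rw [← gm_trans h (Nat.le_succ m), ← Category.assoc, h1, ih]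

include hu in
theorem le_uBar {n m : ℕ} (h : n ≤ m) :
    Formal2.modPowLE I (Nat.succ_le_succ h) E ≫ uBar hG u n = uBar hG u m ≫ gm G h := by
  rw [← cancel_epi (Formal.modPowπ I (m + 1) E), ← Category.assoc, Formal2.modPowπ_modPowLE,
    π_uBar, ← Category.assoc, π_uBar, u_gm u hu h]

/-- transition maps of the kernels -/
noncomputable def qH {n m : ℕ} (h : n ≤ m) : Hb hG u m ⟶ Hb hG u n :=
  kernel.lift (uBar hG u n) (ιH hG u m ≫ Formal2.modPowLE I (Nat.succ_le_succ h) E) (by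
    rw [Category.assoc, le_uBar hG u hu h, ← Category.assoc, kernel.condition, zero_comp])

theorem qH_ι {n m : ℕ} (h : n ≤ m) :
    qH hG u hu h ≫ ιH hG u n = ιH hG u m ≫ Formal2.modPowLE I (Nat.succ_le_succ h) E :=
  kernel.lift_ι _ _ _

theorem qH_trans {n m k : ℕ} (h1 : n ≤ m) (h2 : m ≤ k) :
    qH hG u hu h2 ≫ qH hG u hu h1 = qH hG u hu (h1.trans h2) := by
  rw [← cancel_mono (ιH hG u n), Category.assoc, qH_ι, ← Category.assoc, qH_ι, Category.assoc,
    modPowLE_trans, qH_ι]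

end Sys

section Sec

variable (A : Type u) [CommRing A] (I : Ideal A) {X : Scheme.{u}}
  [X.Over (Spec (CommRingCat.of A))] [AlgebraicGeometry.IsNoetherian X]
  {G : ℕᵒᵖ ⥤ X.Modules} (hG : Formal.IsCohFormal I G)
  {E : X.Modules} (hE : Coh.IsCoh E) (u : ∀ n, E ⟶ Gn G n)
  (hu : ∀ n, u (n + 1) ≫ tG G n = u n) (hepi : ∀ n, Epi (u n))

/-- sections of the kernel of `u_m` over `U` -/
noncomputable def FU (U : X.Opens) (m : ℕ) : Submodule Γ(X, U) Γ(E, U) :=
  LinearMap.ker (sl (u m) U)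

omit [AlgebraicGeometry.IsNoetherian X] in
include hu in
theorem FU_succ_le (U : X.Opens) (m : ℕ) : FU u U (m + 1) ≤ FU u U m := by
  intro x hx
  have hx' : sl (u (m + 1)) U x = 0 := hx
  show sl (u m) U x = 0
  rw [← hu m, sl_comp, LinearMap.comp_apply, hx', map_zero]

include hG hu in
theorem smul_FU_le {U : X.Opens} (hU : IsAffineOpen U) (m : ℕ) :
    JU A I U • FU u U m ≤ FU u U (m + 1) := by
  haveI : (Gn G (m + 1)).IsQuasicoherent := (hG.1 (m + 1)).1
  rw [Submodule.smul_le]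
  intro b hb f hf
  have hf' : sl (u m) U f = 0 := hf
  show sl (u (m + 1)) U (b • f) = 0
  rw [map_smul]
  have hg : sl (u (m + 1)) U f ∈
      (JU A I U) ^ (m + 1) • (⊤ : Submodule Γ(X, U) Γ(Gn G (m + 1), U)) := by
    rw [← (isQuot_tG hG m).ker_sl A I hU, LinearMap.mem_ker, sl_comp_apply, hu m, hf']
  refine eq_zero_of_mem_smul_top_of_killed A I (hG.2.1 (m + 1)) U _ ?_
  rw [pow_succ', mul_smul]
  exact Submodule.smul_mem_smul hb hg

include hG hE hu hepi in
theorem FU_le_sup {U : X.Opens} (hU : IsAffineOpen U) {n m : ℕ} (h : n ≤ m) :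
    FU u U n ≤ FU u U m ⊔ (JU A I U) ^ (n + 1) • (⊤ : Submodule Γ(X, U) Γ(E, U)) := by
  haveI : (Gn G m).IsQuasicoherent := (hG.1 m).1
  haveI : E.IsQuasicoherent := hE.1
  haveI := hepi m
  intro f hf
  have hf' : sl (u n) U f = 0 := hf
  have hg : sl (u m) U f ∈
      (JU A I U) ^ (n + 1) • (⊤ : Submodule Γ(X, U) Γ(Gn G m, U)) := by
    rw [← (isQuot_gm hG h).ker_sl A I hU, LinearMap.mem_ker, sl_comp_apply, u_gm u hu h, hf']
  rw [smul_top_eq_map_of_surjective (u m) U (sl_surjective_of_epi (u m) hU)] at hg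
  obtain ⟨e₂, he₂, he₂g⟩ := hg
  refine Submodule.mem_sup.mpr ⟨f - e₂, ?_, e₂, he₂, sub_add_cancel _ _⟩
  show sl (u m) U (f - e₂) = 0
  rw [map_sub, he₂g, sub_self]

include hE hepi in
theorem map_π_FU {U : X.Opens} (hU : IsAffineOpen U) (m : ℕ) :
    Submodule.map (sl (Formal.modPowπ I (m + 1) E) U) (FU u U m) =
      LinearMap.range (sl (ιH hG u m) U) := by
  haveI : E.IsQuasicoherent := hE.1
  rw [sl_range_kernel_ι]
  apply le_antisymm
  · rintro _ ⟨f, hf, rfl⟩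
    have hf' : sl (u m) U f = 0 := hf
    rw [LinearMap.mem_ker, sl_comp_apply, π_uBar, hf']
  · intro y hy
    obtain ⟨e, rfl⟩ := sl_surjective_of_epi (Formal.modPowπ I (m + 1) E) hU y
    refine ⟨e, ?_, rfl⟩
    have hy' : sl (uBar hG u m) U (sl (Formal.modPowπ I (m + 1) E) U e) = 0 := hy
    rw [sl_comp_apply, π_uBar] at hy'
    exact hy'

include hE hepi in
/-- the transition maps of the kernels are epimorphisms -/
theorem epi_qH {n m : ℕ} (h : n ≤ m) : Epi (qH hG u hu h) := by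
  haveI : E.IsQuasicoherent := hE.1
  refine epi_of_app_surjective_affine _ (fun U hU x => ?_)
  have h1 : sl (ιH hG u n) U x ∈ LinearMap.range (sl (ιH hG u n) U) := ⟨x, rfl⟩
  rw [← map_π_FU A I hG hE u hepi hU n] at h1
  obtain ⟨e, he, hex⟩ := h1
  obtain ⟨e₁, he₁, e₂, he₂, rfl⟩ := Submodule.mem_sup.mp (FU_le_sup A I hG hE u hu hepi hU h he)
  have h2 : sl (Formal.modPowπ I (m + 1) E) U e₁ ∈
      Submodule.map (sl (Formal.modPowπ I (m + 1) E) U) (FU u U m) := ⟨e₁, he₁, rfl⟩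
  rw [map_π_FU A I hG hE u hepi hU m] at h2
  obtain ⟨y, hy⟩ := h2
  refine ⟨y, ?_⟩
  apply sl_injective_of_mono (ιH hG u n) U
  show sl (ιH hG u n) U (sl (qH hG u hu h) U y) = sl (ιH hG u n) U x
  rw [sl_comp_apply, qH_ι, ← sl_comp_apply, hy, sl_comp_apply, Formal2.modPowπ_modPowLE, ← hex,
    map_add]
  have h3 : sl (Formal.modPowπ I (n + 1) E) U e₂ = 0 :=
    modPowπ_app_eq_zero_of_mem_JU A I E (n + 1) U e₂ he₂
  rw [h3, add_zero]

include hE hu hepi in
/-- Artin–Rees on an affine open -/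
theorem exists_KL_affine {U : X.Opens} (hU : IsAffineOpen U) :
    ∃ N : ℕ, ∀ n m : ℕ, n + N ≤ m → ∀ x : Γ(Hb hG u (m + 1), U),
      (qH hG u hu (Nat.le_succ m)).app U x = 0 →
        x ∈ (JU A I U) ^ (n + 1) • (⊤ : Submodule Γ(X, U) Γ(Hb hG u (m + 1), U)) := by
  haveI : E.IsQuasicoherent := hE.1
  haveI : SheafOfModules.IsFiniteType (R := X.ringCatSheaf) E := hE.2
  haveI : IsNoetherianRing Γ(X, U) := IsLocallyNoetherian.component_noetherian ⟨U, hU⟩
  haveI : Module.Finite Γ(X, U) Γ(E, U) := QCohFT.finite_of_isFiniteType E hU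
  obtain ⟨N, hN⟩ := artinRees_aux (JU A I U) (FU u U) (FU_succ_le u hu U)
    (smul_FU_le A I hG u hu hU) (fun m => FU_le_sup A I hG hE u hu hepi hU (Nat.le_succ m))
  refine ⟨N, fun n m h x hx => ?_⟩
  have h1 : sl (ιH hG u (m + 1)) U x ∈ LinearMap.range (sl (ιH hG u (m + 1)) U) := ⟨x, rfl⟩
  rw [← map_π_FU A I hG hE u hepi hU (m + 1)] at h1
  obtain ⟨e, heF, hex⟩ := h1
  have he2 : e ∈ (JU A I U) ^ (m + 1) • (⊤ : Submodule Γ(X, U) Γ(E, U)) := by
    rw [← modPowπ_app_eq_zero_iff A I E (m + 1) hU e]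
    show sl (Formal.modPowπ I (m + 1) E) U e = 0
    rw [← Formal2.modPowπ_modPowLE I (Nat.succ_le_succ (Nat.le_succ m)) E, ← sl_comp_apply, hex,
      sl_comp_apply, ← qH_ι hG u hu (Nat.le_succ m), ← sl_comp_apply]
    have hx' : sl (qH hG u hu (Nat.le_succ m)) U x = 0 := hx
    rw [hx', map_zero]
  have he3 := hN n m h ⟨heF, he2⟩
  obtain ⟨e₁, he₁, e₂, he₂, rfl⟩ := Submodule.mem_sup.mp he3
  have hπe₂ : sl (Formal.modPowπ I (m + 1 + 1) E) U e₂ = 0 :=
    modPowπ_app_eq_zero_of_mem_JU A I E (m + 1 + 1) U e₂ he₂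
  have h4 : sl (Formal.modPowπ I (m + 1 + 1) E) U e₁ ∈
      Submodule.map (sl (Formal.modPowπ I (m + 1 + 1) E) U)
        ((JU A I U) ^ (n + 1) • FU u U (m + 1)) := ⟨e₁, he₁, rfl⟩
  rw [Submodule.map_smul'', map_π_FU A I hG hE u hepi hU (m + 1), ← Submodule.map_top,
    ← Submodule.map_smul''] at h4
  obtain ⟨x₁, hx₁, hx₁e⟩ := h4
  have hxx : x = x₁ := by
    apply sl_injective_of_mono (ιH hG u (m + 1)) U
    rw [hx₁e, ← hex, map_add, hπe₂, add_zero]
  rw [hxx]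
  exact hx₁

include hE hu hepi in
/-- **Artin–Rees** for the kernel system -/
theorem exists_KL : ∃ N : ℕ, ∀ n m : ℕ, n + N ≤ m → ∀ (Z : X.Modules)
    (g : Hb hG u (m + 1) ⟶ Z),
    (∀ a ∈ I ^ (n + 1), Formal.smulMod A (Hb hG u (m + 1)) a ≫ g = 0) →
      kernel.ι (qH hG u hu (Nat.le_succ m)) ≫ g = 0 := by
  classical
  haveI : E.IsQuasicoherent := hE.1
  haveI : ∀ k, (Gn G k).IsQuasicoherent := fun k => (hG.1 k).1
  haveI : ∀ k, (Hb hG u k).IsQuasicoherent := fun k => SubExt.isQuasicoherent_kernel _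
  obtain ⟨s, hsfin, hs⟩ := (isCompact_iff_finite_and_eq_biUnion_affineOpens
    (X := X) (U := ⊤)).mp (by simpa using isCompact_univ)
  have hN : ∀ V : X.affineOpens, ∃ N : ℕ, ∀ n m : ℕ, n + N ≤ m →
      ∀ x : Γ(Hb hG u (m + 1), V.1), (qH hG u hu (Nat.le_succ m)).app V.1 x = 0 →
        x ∈ (JU A I V.1) ^ (n + 1) • (⊤ : Submodule Γ(X, V.1) Γ(Hb hG u (m + 1), V.1)) :=
    fun V => exists_KL_affine A I hG hE u hu hepi V.2
  choose Nf hNf using hN
  refine ⟨hsfin.toFinset.sup Nf, fun n m h Z g hg => ?_⟩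
  haveI : (kernel (qH hG u hu (Nat.le_succ m))).IsQuasicoherent :=
    SubExt.isQuasicoherent_kernel _
  refine hom_eq_zero_of_affine_cover _ ((fun V : X.affineOpens => V.1) '' s) ?_ ?_ ?_
  · rintro _ ⟨V, _, rfl⟩
    exact V.2
  · intro x
    have hx : x ∈ (⊤ : X.Opens) := trivial
    rw [hs] at hx
    simp only [Opens.mem_iSup] at hx
    obtain ⟨V, hV, hxV⟩ := hx
    exact ⟨V.1, ⟨V, hV, rfl⟩, hxV⟩
  · rintro _ ⟨V, hV, rfl⟩ y
    rw [comp_app']
    refine app_eq_zero_of_mem_smul_top A I g hg V.1 _ ?_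
    have hle : Nf V ≤ hsfin.toFinset.sup Nf := Finset.le_sup (hsfin.mem_toFinset.mpr hV)
    refine hNf V n m (le_trans (Nat.add_le_add_left hle n) h) _ ?_
    rw [← comp_app', kernel.condition, zero_app']

end Sec

end Groth.Agent.Lib.FormalQuotH2
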