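import Mathlib
import Groth.Prelude
import Groth.Agent.Lib.Exist5_helper2

/-!
# Grothendieck existence, projective case: the formal kernel (helper2)

With the notation of `Exist5`: `Kn n = Hb (N + n) / I^{n+1}`, transition maps `rK`, the functor
`KF`, which is a coherent formal module when `N` is an Artin–Rees constant (`isCohFormal_KF`), and
the maps `jK n : Kn n ⟶ E/I^{n+1}E` whose cokernel is `uBar n`.
Also `nonempty_completion_iso_of_isQuot`.
APPEND-ONLY once landed.
-/

set_option autoImplicit false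
universe u
open CategoryTheory CategoryTheory.Limits AlgebraicGeometry TopologicalSpace Opposite

namespace Groth.Agent.Lib.FormalQuotH2

open Formal Groth.Agent.Lib.FormalModPowH4 Groth.Agent.Lib.FormalFnH2 Groth.Agent.Lib.FibAmpH2
  Groth.Agent.Lib.FlatBCH2 Groth.Agent.Lib.FibVanH2 QcqsLoc

section Gen

variable {A : Type u} [CommRing A] {X : Scheme.{u}} [X.Over (Spec (CommRingCat.of A))]

theorem smulFamily_comp_eq_zero_of_killed {J : Ideal A} {M N : X.Modules} (f : M ⟶ N)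
    (hN : Formal.KilledBy J N) : Formal.smulFamily J M ≫ f = 0 :=
  smulFamily_comp_eq_zero J f (fun a ha => by rw [smulMod_naturality, hN a ha, comp_zero])

/-- precomposing a quotient with an epimorphism whose kernel is killed by every map killing `J` -/
theorem IsQuot.epi_comp {J : Ideal A} {M' M N : X.Modules} (f : M' ⟶ M) [Epi f]
    (hker : ∀ (Z : X.Modules) (g : M' ⟶ Z), (∀ a ∈ J, Formal.smulMod A M' a ≫ g = 0) →
      kernel.ι f ≫ g = 0) {t : M ⟶ N} (ht : IsQuot J t) : IsQuot J (f ≫ t) := by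
  haveI := ht.2.1
  refine ⟨fun a ha => ?_, CategoryTheory.epi_comp f t, fun Z g hg => ?_⟩
  · rw [← Category.assoc, smulMod_naturality, Category.assoc, ht.1 a ha, comp_zero]
  · obtain ⟨g', hg'⟩ := exists_fac_of_epi f g (hker Z g hg)
    obtain ⟨g'', hg''⟩ := ht.2.2 Z g' (fun a ha => by
      rw [← cancel_epi f, comp_zero, ← Category.assoc, ← smulMod_naturality, Category.assoc, hg',
        hg a ha])
    exact ⟨g'', by rw [Category.assoc, hg'', hg']⟩

theorem isCoh_modPow (I : Ideal A) {M : X.Modules} (hM : Coh.IsCoh M) (n : ℕ) :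
    Coh.IsCoh (Formal.modPow I n M) := by
  haveI := hM.1
  haveI : (∐ fun _ : (I ^ n : Ideal A) => M).IsQuasicoherent :=
    Groth.Agent.Lib.BModH6.isQuasicoherent_sigma _
  exact isCoh_cokernel' hM (Formal.smulFamily (I ^ n) M)

/-- a compatible family of quotient maps `M ⟶ G_n` identifies `G` with the completion of `M` -/
theorem nonempty_completion_iso_of_isQuot (I : Ideal A) (M : X.Modules) (G : ℕᵒᵖ ⥤ X.Modules)
    (τ : ∀ n, M ⟶ Gn G n) (hτq : ∀ n, IsQuot (I ^ (n + 1)) (τ n))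
    (hcomp : ∀ n, τ (n + 1) ≫ tG G n = τ n) : Nonempty (Formal.completion I M ≅ G) := by
  have he : ∀ n, ∃ e : Formal.modPow I (n + 1) M ≅ Gn G n,
      Formal.modPowπ I (n + 1) M ≫ e.hom = τ n := fun n =>
    (isQuot_modPowπ I (n + 1) M).exists_iso (hτq n)
  choose e he using he
  have hmap : ∀ n, (Formal.completion I M).map (homOfLE (Nat.le_add_right n 1)).op =
      Formal.modPowTrans I (n + 1) M := by
    intro n
    unfold Formal.completion
    exact Functor.ofOpSequence_map_homOfLE_succ _ n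
  have hnat : ∀ n, Formal.modPowTrans I (n + 1) M ≫ (e n).hom =
      (e (n + 1)).hom ≫ tG G n := by
    intro n
    rw [← cancel_epi (Formal.modPowπ I (n + 1 + 1) M), ← Category.assoc,
      Formal.modPowπ_trans, he n, ← Category.assoc, he (n + 1)]
    exact (hcomp n).symm
  let α : Formal.completion I M ⟶ G :=
    NatTrans.ofOpSequence (fun n => (e n).hom) (fun n => by
      rw [hmap n]
      exact hnat n)
  haveI : ∀ n, IsIso (α.app n) := fun n => by
    show IsIso (e n.unop).hom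
    infer_instance
  haveI : IsIso α := NatIso.isIso_of_isIso_app α
  exact ⟨asIso α⟩

end Gen

section K

variable {A : Type u} [CommRing A] {I : Ideal A} {X : Scheme.{u}}
  [X.Over (Spec (CommRingCat.of A))] {G : ℕᵒᵖ ⥤ X.Modules} (hG : Formal.IsCohFormal I G)
  {E : X.Modules} (u : ∀ n, E ⟶ Gn G n) (hu : ∀ n, u (n + 1) ≫ tG G n = u n) (N : ℕ)

/-- the terms of the formal kernel -/
noncomputable abbrev Kn (n : ℕ) : X.Modules := Formal.modPow I (n + 1) (Hb hG u (N + n))

/-- the transition `Hb (N + (n + 1)) ⟶ Hb (N + n)` -/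
noncomputable abbrev qS (n : ℕ) : Hb hG u (N + (n + 1)) ⟶ Hb hG u (N + n) :=
  qH hG u hu (Nat.le_succ (N + n))

theorem smulFamily_qS (n : ℕ) :
    Formal.smulFamily (I ^ (n + 1 + 1)) (Hb hG u (N + (n + 1))) ≫
      (qS hG u hu N n ≫ Formal.modPowπ I (n + 1) (Hb hG u (N + n))) = 0 :=
  smulFamily_comp_eq_zero_of_killed _ (fun a ha =>
    smulMod_modPow_eq_zero _ I (n + 1) (Ideal.pow_le_pow_right (Nat.le_succ (n + 1)) ha))

/-- transition maps of the formal kernel -/
noncomputable def rK (n : ℕ) : Kn hG u N (n + 1) ⟶ Kn hG u N n :=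
  cokernel.desc _ (qS hG u hu N n ≫ Formal.modPowπ I (n + 1) (Hb hG u (N + n)))
    (smulFamily_qS hG u hu N n)

theorem π_rK (n : ℕ) :
    Formal.modPowπ I (n + 1 + 1) (Hb hG u (N + (n + 1))) ≫ rK hG u hu N n =
      qS hG u hu N n ≫ Formal.modPowπ I (n + 1) (Hb hG u (N + n)) :=
  cokernel.π_desc _ _ _

/-- the formal kernel -/
noncomputable def KF : ℕᵒᵖ ⥤ X.Modules :=
  Functor.ofOpSequence (X := fun n => Kn hG u N n) (fun n => rK hG u hu N n)

theorem KF_map (n : ℕ) : (KF hG u hu N).map (homOfLE (Nat.le_succ n)).op = rK hG u hu N n :=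
  Functor.ofOpSequence_map_homOfLE_succ _ n

/-- `Hb (N + n) ⟶ Hb n` -/
noncomputable abbrev qN (n : ℕ) : Hb hG u (N + n) ⟶ Hb hG u n :=
  qH hG u hu (Nat.le_add_left n N)

theorem smulFamily_qN (n : ℕ) :
    Formal.smulFamily (I ^ (n + 1)) (Hb hG u (N + n)) ≫ (qN hG u hu N n ≫ ιH hG u n) = 0 :=
  smulFamily_comp_eq_zero_of_killed _ (fun a ha => smulMod_modPow_eq_zero _ I (n + 1) ha)

/-- `K_n ⟶ E/I^{n+1}E` -/
noncomputable def jK (n : ℕ) : Kn hG u N n ⟶ Formal.modPow I (n + 1) E :=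
  cokernel.desc _ (qN hG u hu N n ≫ ιH hG u n) (smulFamily_qN hG u hu N n)

theorem π_jK (n : ℕ) :
    Formal.modPowπ I (n + 1) (Hb hG u (N + n)) ≫ jK hG u hu N n = qN hG u hu N n ≫ ιH hG u n :=
  cokernel.π_desc _ _ _

theorem jK_uBar (n : ℕ) : jK hG u hu N n ≫ uBar hG u n = 0 := by
  rw [← cancel_epi (Formal.modPowπ I (n + 1) (Hb hG u (N + n))), ← Category.assoc, π_jK,
    Category.assoc, kernel.condition, comp_zero, comp_zero]

theorem jK_trans (n : ℕ) :
    jK hG u hu N (n + 1) ≫ Formal.modPowTrans I (n + 1) E = rK hG u hu N n ≫ jK hG u hu N n := by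
  have hL : Formal.modPowπ I (n + 1 + 1) (Hb hG u (N + (n + 1))) ≫
      (jK hG u hu N (n + 1) ≫ Formal.modPowTrans I (n + 1) E) =
      ιH hG u (N + (n + 1)) ≫ Formal2.modPowLE I
        (Nat.succ_le_succ ((Nat.le_add_left n N).trans (Nat.le_succ (N + n)))) E := by
    rw [← Category.assoc, π_jK, Category.assoc, modPowTrans_eq_modPowLE, ← Category.assoc, qH_ι,
      Category.assoc, modPowLE_trans]
  have hR : Formal.modPowπ I (n + 1 + 1) (Hb hG u (N + (n + 1))) ≫
      (rK hG u hu N n ≫ jK hG u hu N n) =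
      ιH hG u (N + (n + 1)) ≫ Formal2.modPowLE I
        (Nat.succ_le_succ ((Nat.le_add_left n N).trans (Nat.le_succ (N + n)))) E := by
    rw [← Category.assoc, π_rK, Category.assoc, π_jK, ← Category.assoc, qH_trans, qH_ι]
  rw [← cancel_epi (Formal.modPowπ I (n + 1 + 1) (Hb hG u (N + (n + 1)))), hL, hR]

end K

section K2

variable (A : Type u) [CommRing A] (I : Ideal A) {X : Scheme.{u}}
  [X.Over (Spec (CommRingCat.of A))] [AlgebraicGeometry.IsNoetherian X]
  {G : ℕᵒᵖ ⥤ X.Modules} (hG : Formal.IsCohFormal I G)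
  {E : X.Modules} (hE : Coh.IsCoh E) (u : ∀ n, E ⟶ Gn G n)
  (hu : ∀ n, u (n + 1) ≫ tG G n = u n) (hepi : ∀ n, Epi (u n)) (N : ℕ)
  (hKL : ∀ n m : ℕ, n + N ≤ m → ∀ (Z : X.Modules) (g : Hb hG u (m + 1) ⟶ Z),
    (∀ a ∈ I ^ (n + 1), Formal.smulMod A (Hb hG u (m + 1)) a ≫ g = 0) →
      kernel.ι (qH hG u hu (Nat.le_succ m)) ≫ g = 0)

include hE hepi hKL in
theorem isQuot_rK (n : ℕ) : IsQuot (I ^ (n + 1)) (rK hG u hu N n) := by
  haveI := epi_qH A I hG hE u hu hepi (Nat.le_succ (N + n))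
  have h1 : IsQuot (I ^ (n + 1))
      (qS hG u hu N n ≫ Formal.modPowπ I (n + 1) (Hb hG u (N + n))) :=
    IsQuot.epi_comp (qS hG u hu N n)
      (fun Z g hg => hKL n (N + n) (le_of_eq (Nat.add_comm n N)) Z g hg)
      (isQuot_modPowπ I (n + 1) (Hb hG u (N + n)))
  rw [← π_rK] at h1
  exact IsQuot.of_comp (isQuot_modPowπ I (n + 1 + 1) (Hb hG u (N + (n + 1)))) h1

include hE in
theorem isCoh_Hb (n : ℕ) : Coh.IsCoh (Hb hG u n) :=
  CohKerH8.isCoh_kernel (isCoh_modPow I hE (n + 1)) (hG.1 n) (uBar hG u n)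

include hE hepi hKL in
theorem isCohFormal_KF : Formal.IsCohFormal I (KF hG u hu N) := by
  refine ⟨fun n => isCoh_modPow I (isCoh_Hb A I hG hE u (N + n)) (n + 1),
    fun n a ha => smulMod_modPow_eq_zero _ I (n + 1) ha, fun n => ?_⟩
  have hq : IsQuot (I ^ (n + 1)) ((KF hG u hu N).map (homOfLE (Nat.le_succ n)).op) := by
    rw [KF_map]
    exact isQuot_rK A I hG hE u hu hepi N hKL n
  exact hq.cond

include hE hepi in
/-- `uBar n` is the cokernel of `jK n` -/
theorem exists_fac_jK (n : ℕ) (Z : X.Modules) (g : Formal.modPow I (n + 1) E ⟶ Z)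
    (hg : jK hG u hu N n ≫ g = 0) : ∃ g' : Gn G n ⟶ Z, uBar hG u n ≫ g' = g := by
  haveI := epi_qH A I hG hE u hu hepi (Nat.le_add_left n N)
  haveI := hepi n
  haveI := epi_uBar hG u n
  refine exists_fac_of_epi (uBar hG u n) g ?_
  have h1 : qN hG u hu N n ≫ (ιH hG u n ≫ g) = 0 := by
    rw [← Category.assoc, ← π_jK, Category.assoc, hg, comp_zero]
  exact (cancel_epi (qN hG u hu N n)).mp (h1.trans comp_zero.symm)

end K2

end Groth.Agent.Lib.FormalQuotH2
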