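import Mathlib
import Groth.Prelude
import Groth.Agent.Lib.Exist6_helper2
import Groth.Agent.Lib.Exist3_helper2
import Groth.Agent.Lib.ProjSpaceProper_helper4
import Groth.Agent.Lib.ProjTwAmple_helper5
import Groth.Agent.Lib.VAmpPn1_helper5
import Groth.Agent.Lib.Tens18_helper8

/-!
# Grothendieck existence, projective case (helper2)

* `exists_algebraization`: `X` proper over a Noetherian `I`-adically complete ring `A`, with an
  ample invertible module: every coherent formal module is the completion of a coherent module.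
* `main0061`: closed subschemes of `P^n_A`.
APPEND-ONLY once landed.
-/

set_option autoImplicit false
universe u
open CategoryTheory CategoryTheory.Limits AlgebraicGeometry TopologicalSpace Opposite

namespace Groth.Agent.Lib.FormalQuotH2

open Formal Groth.Agent.Lib.FormalModPowH4 Groth.Agent.Lib.FormalFnH2 Groth.Agent.Lib.FibAmpH2
  Groth.Agent.Lib.FlatBCH2 Groth.Agent.TensInv

section Core

variable (A : Type u) [CommRing A] [IsNoetherianRing A] (I : Ideal A) [IsAdicComplete I A]
  (X : Scheme.{u}) [X.Over (Spec (CommRingCat.of A))] [IsProper (X ↘ Spec (CommRingCat.of A))]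

/-- **Grothendieck existence** for `X` proper over complete `A` carrying an ample invertible
module -/
theorem exists_algebraization (L : X.Modules) (hL : CohB1.IsAmple L) (G : ℕᵒᵖ ⥤ X.Modules)
    (hG : Formal.IsCohFormal I G) :
    ∃ M : X.Modules, Coh.IsCoh M ∧ Nonempty (Formal.completion I M ≅ G) := by
  haveI : IsLocallyNoetherian X :=
    LocallyOfFiniteType.isLocallyNoetherian (X ↘ Spec (CommRingCat.of A))
  haveI : CompactSpace X :=
    QuasiCompact.compactSpace_of_compactSpace (X ↘ Spec (CommRingCat.of A))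
  haveI : AlgebraicGeometry.IsNoetherian X := {}
  obtain ⟨T, T', hT, hT', e, k, u, hu, hepi⟩ := exists_cover A I X L hL G hG
  have hE : Coh.IsCoh ((tR T').obj (FlatMod.freeMod X k)) :=
    RelAmpleVanH9.isCoh_tensorMod (isCoh_freeMod X k) (H0LiftH2.isCoh_of_isInvertible hT')
  obtain ⟨N, hKL⟩ := exists_KL A I hG hE u hu hepi
  have hK := isCohFormal_KF A I hG hE u hu hepi N hKL
  obtain ⟨T₁, T₁', hT₁, hT₁', e₁, k₁, w, hw', hwepi⟩ :
      ∃ (T₁ T₁' : X.Modules) (_ : PicF.IsInvertible T₁) (_ : PicF.IsInvertible T₁')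
        (_ : CohB1.tensorMod T₁ T₁' ≅ Coh.structureModule X) (k₁ : ℕ)
        (w : ∀ n, (tR T₁').obj (FlatMod.freeMod X k₁) ⟶ Kn hG u N n),
        (∀ n, w (n + 1) ≫ rK hG u hu N n = w n) ∧ ∀ n, Epi (w n) := by
    obtain ⟨T₁, T₁', hT₁, hT₁', e₁, k₁, w, hw, hwepi⟩ := exists_cover A I X L hL _ hK
    exact ⟨T₁, T₁', hT₁, hT₁', e₁, k₁, w, fun n => by rw [← KF_map]; exact hw n, hwepi⟩
  have hE₁ : Coh.IsCoh ((tR T₁').obj (FlatMod.freeMod X k₁)) :=
    RelAmpleVanH9.isCoh_tensorMod (isCoh_freeMod X k₁) (H0LiftH2.isCoh_of_isInvertible hT₁')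
  obtain ⟨v, hv⟩ := exists_lift_special A I X T₁ T₁' hT₁ e₁ k₁ _ hE
    (fun n => w n ≫ jK hG u hu N n)
    (fun n => by rw [Category.assoc, jK_trans, ← Category.assoc, hw'])
  haveI := hE₁.1
  refine ⟨cokernel v, isCoh_cokernel' hE v, ?_⟩
  have hvu : ∀ n, v ≫ u n = 0 := by
    intro n
    rw [← π_uBar hG u n, ← Category.assoc, hv n, Category.assoc, jK_uBar, comp_zero]
  let τ : ∀ n, cokernel v ⟶ Gn G n := fun n => cokernel.desc v (u n) (hvu n)
  have hτ : ∀ n, cokernel.π v ≫ τ n = u n := fun n => cokernel.π_desc _ _ _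
  refine nonempty_completion_iso_of_isQuot I (cokernel v) G τ (fun n => ?_) (fun n => ?_)
  · haveI := hepi n
    haveI : Epi (τ n) := by
      have h1 : Epi (cokernel.π v ≫ τ n) := by
        rw [hτ]
        infer_instance
      exact epi_of_epi (cokernel.π v) (τ n)
    refine ⟨fun a ha => by rw [smulMod_naturality, hG.2.1 n a ha, comp_zero], inferInstance,
      fun Z g hg => ?_⟩
    obtain ⟨g₂, hg₂⟩ := (isQuot_modPowπ I (n + 1) _).2.2 Z (cokernel.π v ≫ g) (fun a ha => by
      rw [← Category.assoc, smulMod_naturality, Category.assoc, hg a ha, comp_zero])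
    have hj : jK hG u hu N n ≫ g₂ = 0 := by
      haveI := hwepi n
      rw [← cancel_epi (w n), comp_zero, ← Category.assoc, ← hv n, Category.assoc, hg₂,
        ← Category.assoc, cokernel.condition, zero_comp]
    obtain ⟨g₃, hg₃⟩ := exists_fac_jK A I hG hE u hu hepi N n Z g₂ hj
    refine ⟨g₃, ?_⟩
    rw [← cancel_epi (cokernel.π v), ← Category.assoc, hτ, ← π_uBar hG u n, Category.assoc, hg₃,
      hg₂]
  · rw [← cancel_epi (cokernel.π v), ← Category.assoc, hτ, hτ, hu]

end Core

section Proj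

/-- `O(1)` on `P^n_A` is ample -/
theorem isAmple_twist_projSpace (n : ℕ) (A : Type u) [CommRing A] :
    CohB1.IsAmple (X := CohB1.ProjSpace n A) (Twist.twist (CohB1.polyGrading n A) 1) := by
  classical
  refine Groth.Agent.ProjTw.isAmple_twist_one (CohB1.polyGrading n A)
    (Finset.univ.image (fun i : Fin (n + 1) =>
      (MvPolynomial.X i : MvPolynomial (Fin (n + 1)) A))) ?_ ?_
  · intro f hf
    obtain ⟨i, -, rfl⟩ := Finset.mem_image.mp hf
    exact Groth.Agent.VAmpPn.hX n i
  · intro x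
    obtain ⟨i, hi⟩ := Groth.Agent.VAmpPn.hcovX n x
    exact ⟨_, Finset.mem_image_of_mem _ (Finset.mem_univ i), hi⟩

/-- **S0061** -/
theorem main0061 (A : Type u) [CommRing A] [IsNoetherianRing A]
    (I : Ideal A) [IsAdicComplete I A] (n : ℕ) (X : Scheme.{u}) [X.Over (Spec (CommRingCat.of A))]
    (i : X ⟶ CohB1.ProjSpace n A) [IsClosedImmersion i]
    (hi : i ≫ CohB1.ProjSpace.toSpec n A = X ↘ Spec (CommRingCat.of A))
    (G : ℕᵒᵖ ⥤ X.Modules) (hG : Formal.IsCohFormal I G) :
    ∃ M : X.Modules, Coh.IsCoh M ∧ Nonempty (Formal.completion I M ≅ G) := by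
  haveI : IsProper (CohB1.ProjSpace.toSpec n A) :=
    Groth.Agent.Lib.ProjSpaceProperH4.isProper_toSpec n A
  haveI : IsProper (X ↘ Spec (CommRingCat.of A)) := by
    rw [← hi]
    infer_instance
  have hL₀ := isAmple_twist_projSpace n A
  haveI : CompactSpace (CohB1.ProjSpace n A) := hL₀.2.1
  haveI : CompactSpace X := QuasiCompact.compactSpace_of_compactSpace i
  have hL := TensH8.isAmple_pullback_of_isEmbedding i i.isEmbedding hL₀
  exact exists_algebraization A I X _ hL G hG

end Proj

end Groth.Agent.Lib.FormalQuotH2
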