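import Mathlib
import Groth.Prelude
import Groth.Agent.Lib.Exist7_helper2
import Groth.Agent.Lib.AdicSys1_helper2
import Groth.Agent.Lib.EpiLoc_helper9
import Groth.Agent.Lib.QCohExact_helper9

/-!
# The limit of a quasi-coherent formal system (helper2)

`X` a scheme over `Spec A`, `I` a finitely generated ideal, `(G_n)` a system of quasi-coherent
modules with `G_n` killed by `I^{n+1}` and `G_n = G_{n+1}/I^{n+1}G_{n+1}`; `F = lim G_n` in the
category of `O_X`-modules.  Then `F/I^{n+1}F = G_n`.

* `secObj`, `secLin`, `secFun` : sections over an open as `A`-modules;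
* `limit_sec_existsUnique` : sections of a limit of a tower are compatible families of sections;
* `mono_of_app_injective'`;
* `main0852` (S0852).
APPEND-ONLY once landed.
-/

set_option autoImplicit false
set_option backward.isDefEq.respectTransparency false
universe u
open CategoryTheory CategoryTheory.Limits AlgebraicGeometry TopologicalSpace Opposite

namespace Groth.Agent.Lib.LimTruncH2

open Formal Groth.Agent.Lib.FormalModPowH4 Groth.Agent.Lib.FormalFnH2 Groth.Agent.Lib.FibAmpH2
  Groth.Agent.Lib.FlatBCH2 Groth.Agent.Lib.FibVanH2 Groth.Agent.Lib.FormalQuotH2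
  Groth.Agent.Lib.AdicSysH2 QcqsLoc

section Sec

variable (A : Type u) [CommRing A] {X : Scheme.{u}} [X.Over (Spec (CommRingCat.of A))]

/-- sections over `U`, as an `A`-module -/
noncomputable def secObj (M : X.Modules) (U : X.Opens) : ModuleCat.{u} A :=
  @ModuleCat.of A _ Γ(M, U) _ (secMod A M U)

/-- the `A`-linear map on sections -/
noncomputable def secLin {M N : X.Modules} (φ : M ⟶ N) (U : X.Opens) :
    secObj A M U →ₗ[A] secObj A N U :=
  { toFun := fun x => φ.app U x
    map_add' := fun x y => app_add' φ U x y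
    map_smul' := fun a x => Scheme.Modules.Hom.app_smul φ (rUHom (A := A) U a) x }

/-- the morphism of `A`-modules on sections -/
noncomputable def secMap {M N : X.Modules} (φ : M ⟶ N) (U : X.Opens) :
    secObj A M U ⟶ secObj A N U :=
  letI := secMod A M U
  letI := secMod A N U
  ModuleCat.ofHom (secLin A φ U)

/-- the functor of sections over `U`, with values in `A`-modules -/
noncomputable def secFun (U : X.Opens) : X.Modules ⥤ ModuleCat.{u} A where
  obj M := secObj A M U
  map φ := secMap A φ U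
  map_id M := by
    apply ModuleCat.hom_ext
    apply LinearMap.ext
    intro x
    rfl
  map_comp φ ψ := by
    apply ModuleCat.hom_ext
    apply LinearMap.ext
    intro x
    exact comp_app' φ ψ U x

end Sec

section Lim

variable {X : Scheme.{u}}

/-- A morphism injective on all sections is a monomorphism. -/
theorem mono_of_app_injective' {M N : X.Modules} (f : M ⟶ N)
    (h : ∀ W : X.Opens, Function.Injective (f.app W)) : Mono f := by
  haveI : Mono ((Scheme.Modules.toPresheaf X).map f) := by
    haveI : ∀ W, Mono (((Scheme.Modules.toPresheaf X).map f).app W) := fun W =>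
      (AddCommGrpCat.mono_iff_injective _).2 (h W.unop)
    exact NatTrans.mono_of_mono_app _
  exact (Scheme.Modules.toPresheaf X).mono_of_mono_map this

variable (G : ℕᵒᵖ ⥤ X.Modules)

theorem gm_app_compat (U : X.Opens) (y : ∀ k : ℕ, Γ(G.obj (op k), U))
    (hy : ∀ k, (G.map (homOfLE (Nat.le_succ k)).op).app U (y (k + 1)) = y k) :
    ∀ (n m : ℕ) (h : n ≤ m), (G.map (homOfLE h).op).app U (y m) = y n := by
  intro n m h
  induction m, h using Nat.le_induction with
  | base =>
    have e : ∀ p : n ≤ n, (homOfLE p).op = 𝟙 (op n) := fun p => Subsingleton.elim _ _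
    rw [e, G.map_id]
    rfl
  | succ m h ih =>
    have e : ∀ p : n ≤ m + 1, (homOfLE p).op =
        (homOfLE (Nat.le_succ m)).op ≫ (homOfLE h).op := fun p => Subsingleton.elim _ _
    rw [e, G.map_comp, comp_app', hy m, ih]

/-- the sections functor to types -/
noncomputable abbrev secT (X : Scheme.{u}) (U : X.Opens) : X.Modules ⥤ Type u :=
  QCohExact.sec X U ⋙ forget Ab

/-- sections of the limit of a tower are the compatible families of sections -/
theorem limit_sec_existsUnique (U : X.Opens) (y : ∀ k : ℕ, Γ(G.obj (op k), U))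
    (hy : ∀ k, (G.map (homOfLE (Nat.le_succ k)).op).app U (y (k + 1)) = y k) :
    ∃! s : Γ(limit G, U), ∀ k : ℕ, (limit.π G (op k)).app U s = y k := by
  haveI : PreservesLimitsOfSize.{0, 0} (QCohExact.sec X U) :=
    preservesSmallestLimits_of_preservesLimits _
  haveI : PreservesLimitsOfSize.{0, 0} (forget Ab.{u}) :=
    preservesSmallestLimits_of_preservesLimits _
  have hT : IsLimit ((secT X U).mapCone (limit.cone G)) :=
    isLimitOfPreserves (secT X U) (limit.isLimit G)
  have hsec : (fun j : ℕᵒᵖ => (y j.unop : (G ⋙ secT X U).obj j)) ∈ (G ⋙ secT X U).sections := by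
    intro j j' f
    obtain ⟨m⟩ := j
    obtain ⟨n⟩ := j'
    have hnm : n ≤ m := leOfHom f.unop
    have hf : f = (homOfLE hnm).op := Subsingleton.elim _ _
    rw [hf]
    exact gm_app_compat G U y hy n m hnm
  obtain ⟨s, hs, huniq⟩ := (Types.isLimit_iff _).mp ⟨hT⟩ _ hsec
  refine ⟨s, fun k => hs (op k), fun s' hs' => huniq s' (fun j => ?_)⟩
  obtain ⟨k⟩ := j
  exact hs' k

end Lim

section Main

variable (A : Type u) [CommRing A] (I : Ideal A) {X : Scheme.{u}}
  [X.Over (Spec (CommRingCat.of A))] (G : ℕᵒᵖ ⥤ X.Modules)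

theorem isQuot_succ (hG : Formal2.IsQCohFormal I G) (k : ℕ) :
    IsQuot (I ^ (k + 1)) (G.map (homOfLE (Nat.le_succ k)).op) := by
  obtain ⟨h, hiso⟩ := hG.2.2 k
  exact IsQuot.of_cond _ h hiso

/-- the system of sections over `U` -/
noncomputable abbrev secSys (U : X.Opens) : ARSys.PS (ModuleCat.{u} A) := G ⋙ secFun A U

theorem T_secSys (U : X.Opens) {n k : ℕ} (h : n ≤ k) (x : Γ(G.obj (op k), U)) :
    T (secSys A G U) h x = (G.map (homOfLE h).op).app U x := rfl

theorem secSys_surj (hG : Formal2.IsQCohFormal I G) {U : X.Opens} (hU : IsAffineOpen U) (k : ℕ) :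
    Function.Surjective (T (secSys A G U) (Nat.le_succ k)) := by
  haveI : (G.obj (op (k + 1))).IsQuasicoherent := hG.1 (k + 1)
  haveI : (G.obj (op k)).IsQuasicoherent := hG.1 k
  haveI : Epi (G.map (homOfLE (Nat.le_succ k)).op) := (isQuot_succ A I G hG k).2.1
  intro y
  obtain ⟨x, hx⟩ :=
    QCohExact.app_surjective_of_epi (G.map (homOfLE (Nat.le_succ k)).op) hU y
  exact ⟨x, hx⟩

theorem secSys_ker (hI : I.FG) (hG : Formal2.IsQCohFormal I G) {U : X.Opens}
    (hU : IsAffineOpen U) (k : ℕ) :
    LinearMap.ker (T (secSys A G U) (Nat.le_succ k)) ≤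
      I ^ (k + 1) • (⊤ : Submodule A ((secSys A G U).obj (op k.succ))) := by
  intro x hx
  have hx' : (G.map (homOfLE (Nat.le_succ k)).op).app U x = 0 := hx
  haveI : (G.obj (op (k + 1))).IsQuasicoherent := hG.1 (k + 1)
  obtain ⟨c, hc⟩ := (isQuot_modPowπ I (k + 1) (G.obj (op (k + 1)))).exists_iso
    (isQuot_succ A I G hG k)
  have h2 : (Formal.modPowπ I (k + 1) (G.obj (op (k + 1)))).app U x = 0 := by
    apply QCohExact.app_injective_of_mono c.hom U
    rw [← comp_app', hc, hx', app_zero']
  exact mem_smul_top_of_modPowπ_app_eq_zero_of_fg A I (G.obj (op (k + 1))) (k + 1)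
    (Ideal.FG.pow hI) hU x h2

theorem secSys_zero (hG : Formal2.IsQCohFormal I G) (U : X.Opens) (k : ℕ) :
    I ^ (k + 1) • (⊤ : Submodule A ((secSys A G U).obj (op k))) = ⊥ := by
  rw [eq_bot_iff]
  intro x hx
  refine Submodule.smul_induction_on hx (fun a ha y _ => ?_) (fun y z hy hz => ?_)
  · rw [Submodule.mem_bot]
    have h1 : a • y = (Formal.smulMod A (G.obj (op k)) a).app U y := rfl
    have h2 : (Formal.smulMod A (G.obj (op k)) a).app U y = 0 := by
      rw [hG.2.1 k a ha, zero_app']
    exact h1.trans h2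
  · exact Submodule.add_mem _ hy hz

/-- a section of the limit over an affine open dying in `G_n` dies in `F/I^{n+1}F` -/
theorem modPowπ_app_eq_zero_of_π_eq_zero (hI : I.FG) (hG : Formal2.IsQCohFormal I G) (n : ℕ)
    {U : X.Opens} (hU : IsAffineOpen U) (s : Γ(limit G, U))
    (hs : (limit.π G (op n)).app U s = 0) :
    (Formal.modPowπ I (n + 1) (limit G)).app U s = 0 := by
  classical
  have hcomp : ∀ (s : Γ(limit G, U)) (n' k : ℕ) (h' : n' ≤ k),
      T (secSys A G U) h' ((limit.π G (op k)).app U s) = (limit.π G (op n')).app U s := by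
    intro s n' k h'
    show (G.map (homOfLE h').op).app U ((limit.π G (op k)).app U s) = _
    rw [← comp_app', limit.w]
  let z : Lsub (secSys A G U) :=
    ⟨fun k => (limit.π G (op k)).app U s, fun n' k h' => hcomp s n' k h'⟩
  have hz : πL (secSys A G U) n z = 0 := hs
  have hmem := mem_smul_top_of_apply_eq_zero (secSys A G U) (secSys_surj A I G hG hU) I
    (secSys_ker A I G hI hG hU) (secSys_zero A I G hG U) hI n z hz
  have P : ∀ w : Lsub (secSys A G U), w ∈ I ^ (n + 1) • (⊤ : Submodule A (Lsub (secSys A G U))) →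
      ∀ s : Γ(limit G, U), (∀ k, (limit.π G (op k)).app U s = w.1 k) →
        (Formal.modPowπ I (n + 1) (limit G)).app U s = 0 := by
    intro w hw
    refine Submodule.smul_induction_on hw (fun r hr w₀ _ s hs => ?_)
      (fun w₁ w₂ h₁ h₂ s hs => ?_)
    · obtain ⟨s₀, hs₀, -⟩ := limit_sec_existsUnique G U (fun k => w₀.1 k)
        (fun k => w₀.2 k (k + 1) (Nat.le_succ k))
      have e : s = rU r U • s₀ := by
        obtain ⟨s₂, _, huniq⟩ := limit_sec_existsUnique G U (fun k => (r • w₀).1 k)
          (fun k => (r • w₀).2 k (k + 1) (Nat.le_succ k))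
        rw [huniq s hs, huniq (rU r U • s₀) (fun k => ?_)]
        rw [Scheme.Modules.Hom.app_smul, hs₀ k]
        rfl
      rw [e, Scheme.Modules.Hom.app_smul, ← smulMod_app, smulMod_modPow_eq_zero _ I (n + 1) hr,
        zero_app']
    · obtain ⟨s₁, hs₁, -⟩ := limit_sec_existsUnique G U (fun k => w₁.1 k)
        (fun k => w₁.2 k (k + 1) (Nat.le_succ k))
      have h3 := h₂ (s - s₁) (fun k => by
        have e1 : (w₁ + w₂).1 k = w₁.1 k + w₂.1 k := rfl
        rw [app_sub', hs k, hs₁ k, e1, add_sub_cancel_left])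
      have h4 := h₁ s₁ hs₁
      have e2 : s = (s - s₁) + s₁ := (sub_add_cancel s s₁).symm
      rw [e2, app_add', h3, h4, add_zero]
  exact P z hmem s (fun k => rfl)

theorem main0852 (hI : I.FG) (hG : Formal2.IsQCohFormal I G) (n : ℕ) :
    ∃ h : Formal.smulFamily (I ^ (n + 1)) (limit G) ≫ limit.π G (op n) = 0,
      IsIso (cokernel.desc _ _ h) := by
  have h : Formal.smulFamily (I ^ (n + 1)) (limit G) ≫ limit.π G (op n) = 0 :=
    smulFamily_comp_eq_zero _ _ (fun a ha => by
      rw [smulMod_naturality, hG.2.1 n a ha, comp_zero])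
  refine ⟨h, ?_⟩
  haveI hepi : Epi (limit.π G (op n)) := by
    refine epi_of_app_surjective_affine _ (fun U hU y => ?_)
    obtain ⟨z, hz⟩ := πL_surjective (secSys A G U) (secSys_surj A I G hG hU) n y
    obtain ⟨s, hs, -⟩ := limit_sec_existsUnique G U (fun k => z.1 k)
      (fun k => z.2 k (k + 1) (Nat.le_succ k))
    exact ⟨s, (hs n).trans hz⟩
  obtain ⟨d, hd⟩ : ∃ d : Formal.modPow I (n + 1) (limit G) ⟶ G.obj (op n),
      d = cokernel.desc (Formal.smulFamily (I ^ (n + 1)) (limit G)) (limit.π G (op n)) h :=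
    ⟨_, rfl⟩
  rw [← hd]
  have hfac : Formal.modPowπ I (n + 1) (limit G) ≫ d = limit.π G (op n) := by
    rw [hd]
    exact cokernel.π_desc _ _ _
  haveI : Epi d := epi_of_epi_fac hfac
  have key : ∀ (W : X.Opens) (t : Γ(Formal.modPow I (n + 1) (limit G), W)),
      d.app W t = 0 → t = 0 := by
    intro W t ht
    refine eq_zero_of_cover _ t (fun p hp => ?_)
    obtain ⟨V, hV, hpV, s, hs⟩ :=
      EpiLoc.exists_local_lift (Formal.modPowπ I (n + 1) (limit G)) t hp
    obtain ⟨_, ⟨V', rfl⟩, hpV', hV'V⟩ :=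
      Opens.isBasis_iff_nbhd.mp (isBasis_affine (X := X)) hpV
    refine ⟨V'.1, hV'V.trans hV, hpV', ?_⟩
    have hs2 : (Formal.modPowπ I (n + 1) (limit G)).app V s =
        rF (Formal.modPow I (n + 1) (limit G)) hV t := hs
    have hqs' : (Formal.modPowπ I (n + 1) (limit G)).app V'.1 (rF (limit G) hV'V s) =
        rF _ (hV'V.trans hV) t := by
      rw [app_rF, hs2, rF_rF]
    have hπs' : (limit.π G (op n)).app V'.1 (rF (limit G) hV'V s) = 0 := by
      have e1 : (limit.π G (op n)).app V'.1 (rF (limit G) hV'V s) =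
          d.app V'.1 ((Formal.modPowπ I (n + 1) (limit G)).app V'.1 (rF (limit G) hV'V s)) := by
        rw [← comp_app', hfac]
      have e2 := app_rF d (hV'V.trans hV) t
      rw [e1, hqs', e2, ht, map_zero]
    rw [← hqs']
    exact modPowπ_app_eq_zero_of_π_eq_zero A I G hI hG n V'.2 _ hπs'
  haveI : Mono d := by
    refine mono_of_app_injective' _ (fun W t t' htt => ?_)
    have h1 := key W (t - t') (by rw [app_sub', htt, sub_self])
    exact sub_eq_zero.mp h1
  exact isIso_of_mono_of_epi _

end Main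

end Groth.Agent.Lib.LimTruncH2
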