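import Mathlib
import Groth.Prelude
import Groth.Agent.Lib.FlatBC4_helper2
import Groth.Agent.Lib.PullFn5_helper2
import Groth.Agent.Lib.GenBC1_helper2
import Groth.Agent.Lib.LimTrunc1_helper2

/-!
# The acyclic embedding stays exact after ANY pullback (helper2)

`0 → N → ∐ j_* j^* N → Q → 0` is split on each member `U k` of the cover, hence remains short
exact after pullback along an arbitrary morphism of schemes.
APPEND-ONLY once landed.
-/

set_option autoImplicit false
set_option backward.isDefEq.respectTransparency false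
set_option linter.style.haveILetI false
set_option linter.unusedSectionVars false
universe u

open CategoryTheory CategoryTheory.Limits AlgebraicGeometry AlgebraicGeometry.Scheme.Modules
  TopologicalSpace Opposite

namespace Groth.Agent.Lib.CBCH2

open Groth.Agent.Lib.FlatBCH2 Groth.Agent.Lib.PullFnH2 Groth.Agent.Lib.GenBCH2

/-- a morphism of modules which is a monomorphism on each member of an open cover is a
monomorphism -/
theorem mono_of_restrict_cover {X : Scheme.{u}} {P Q : X.Modules} (ψ : P ⟶ Q) {ι : Type*}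
    (W : ι → X.Opens) (hW : ⨆ i, W i = ⊤)
    (h : ∀ i, Mono ((restrictFunctor (W i).ι).map ψ)) : Mono ψ := by
  refine Groth.Agent.Lib.LimTruncH2.mono_of_app_injective' ψ (fun O => ?_)
  rw [injective_iff_map_eq_zero]
  intro s hs
  refine section_ext_cover P s 0 (fun x hx => ?_)
  have hx' : x ∈ ⨆ i, W i := by rw [hW]; trivial
  obtain ⟨i, hi⟩ := Opens.mem_iSup.mp hx'
  have hle : (W i).ι ''ᵁ ((W i).ι ⁻¹ᵁ O) ≤ O := (W i).ι.image_preimage_le O
  refine ⟨(W i).ι ''ᵁ ((W i).ι ⁻¹ᵁ O), hle, ⟨⟨x, hi⟩, hx, rfl⟩, ?_⟩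
  haveI := h i
  have hinj := QCohExact.app_injective_of_mono ((restrictFunctor (W i).ι).map ψ)
    ((W i).ι ⁻¹ᵁ O)
  rw [map_zero]
  apply hinj
  show ψ.app ((W i).ι ''ᵁ ((W i).ι ⁻¹ᵁ O)) (P.presheaf.map (homOfLE hle).op s) = _
  rw [Groth.Agent.Lib.SectCmp1.app_map ψ hle s, hs, map_zero, map_zero]

section PullExact

variable {X X' : Scheme.{u}} (g' : X' ⟶ X) {ι : Type u} [Fintype ι] [DecidableEq ι]
  (U : ι → X.Opens)

/-- the retraction of the restriction of `ηc` to `U k` -/
noncomputable def ρk (N : X.Modules) (k : ι) :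
    (GGc U N).restrict (U k).ι ⟶ N.restrict (U k).ι :=
  (restrictFunctor (U k).ι).map (Sigma.π (fun i => Gi U N i) k) ≫
    (restrictAdjunction (U k).ι).counit.app (N.restrict (U k).ι)

theorem η_ρk (N : X.Modules) (k : ι) :
    (restrictFunctor (U k).ι).map (ηc U N) ≫ ρk U N k = 𝟙 _ := by
  unfold ρk
  rw [← Category.assoc, ← Functor.map_comp, ηc_π]
  exact (restrictAdjunction (U k).ι).left_triangle_components N

theorem mono_pullback_ηc (hcov : ⨆ i, U i = ⊤) (N : X.Modules) :
    Mono ((Scheme.Modules.pullback g').map (ηc U N)) := by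
  refine mono_of_restrict_cover _ (fun i => g' ⁻¹ᵁ (U i)) ?_ (fun k => ?_)
  · rw [eq_top_iff]
    intro x _
    have hx : g' x ∈ ⨆ i, U i := by rw [hcov]; trivial
    obtain ⟨i, hi⟩ := Opens.mem_iSup.mp hx
    exact Opens.mem_iSup.mpr ⟨i, hi⟩
  · have hnat := pullOnIso_natural g' (U k) (g' ⁻¹ᵁ U k) le_rfl (ηc U N)
    have hψ : (restrictFunctor (g' ⁻¹ᵁ U k).ι).map ((Scheme.Modules.pullback g').map (ηc U N)) =
        (CohPull.pullOnIso g' (U k) (g' ⁻¹ᵁ U k) le_rfl N).inv ≫
          (Scheme.Modules.pullback (g'.resLE (U k) (g' ⁻¹ᵁ U k) le_rfl)).map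
            ((restrictFunctor (U k).ι).map (ηc U N)) ≫
          (CohPull.pullOnIso g' (U k) (g' ⁻¹ᵁ U k) le_rfl (GGc U N)).hom := by
      rw [hnat, Iso.inv_hom_id_assoc]
    rw [hψ]
    refine (SplitMono.mk ((CohPull.pullOnIso g' (U k) (g' ⁻¹ᵁ U k) le_rfl (GGc U N)).inv ≫
      (Scheme.Modules.pullback (g'.resLE (U k) (g' ⁻¹ᵁ U k) le_rfl)).map (ρk U N k) ≫
      (CohPull.pullOnIso g' (U k) (g' ⁻¹ᵁ U k) le_rfl N).hom) ?_).mono
    simp only [Category.assoc, Iso.hom_inv_id_assoc]
    rw [← Functor.map_comp_assoc, η_ρk, CategoryTheory.Functor.map_id, Category.id_comp, Iso.inv_hom_id]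

/-- **the acyclic embedding sequence stays short exact after any pullback** -/
theorem SS_pullback_shortExact (hcov : ⨆ i, U i = ⊤) (N : X.Modules) :
    ((SS U N).map (Scheme.Modules.pullback g')).ShortExact := by
  have hm : Mono ((Scheme.Modules.pullback g').map (SS U N).f) := mono_pullback_ηc g' U hcov N
  have hS := SS_shortExact U hcov N
  haveI := hS.epi_g
  have he : Epi ((Scheme.Modules.pullback g').map (SS U N).g) := inferInstance
  exact ShortComplex.ShortExact.mk'
    (hS.exact.map_of_epi_of_preservesCokernel (Scheme.Modules.pullback g') hS.epi_g inferInstance)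
    hm he

end PullExact

end Groth.Agent.Lib.CBCH2
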