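import Mathlib

/-!
# Derived category toolkit (helper6), part 40: flat modules and short exact sequences
(diagram chases with tensor products, no `Tor`).
-/

set_option autoImplicit false
universe u

namespace Groth.Agent.Lib.DMod_helper6

open TensorProduct

section FlatChase

variable {R : Type u} [CommRing R]

/-- If `0 → M' → M → M'' → 0` is exact with `M''` flat, then `M' ⊗ X → M ⊗ X` is injective for
every `X`. -/
theorem rTensor_injective_of_flat_coker {M' M M'' : Type u} [AddCommGroup M'] [AddCommGroup M]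
    [AddCommGroup M''] [Module R M'] [Module R M] [Module R M'']
    (f : M' →ₗ[R] M) (g : M →ₗ[R] M'') (hf : Function.Injective f) (hfg : Function.Exact f g)
    (hg : Function.Surjective g) [Module.Flat R M'']
    (X : Type u) [AddCommGroup X] [Module R X] : Function.Injective (f.rTensor X) := by
  let F := X →₀ R
  let π : F →ₗ[R] X := Finsupp.linearCombination R id
  have hπ : Function.Surjective π := Finsupp.linearCombination_id_surjective R X
  let K := LinearMap.ker π
  let ι : K →ₗ[R] F := K.subtype
  have hιπ : Function.Exact ι π := LinearMap.exact_subtype_ker_map π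
  rw [injective_iff_map_eq_zero]
  intro t ht
  obtain ⟨u, rfl⟩ := LinearMap.lTensor_surjective M' hπ t
  have h2 : (π.lTensor M) ((f.rTensor F) u) = 0 := by
    have : (π.lTensor M) ((f.rTensor F) u) = (f.rTensor X) ((π.lTensor M') u) := by
      rw [← LinearMap.comp_apply, ← LinearMap.comp_apply, LinearMap.lTensor_comp_rTensor,
        LinearMap.rTensor_comp_lTensor]
    rw [this, ht]
  obtain ⟨v, hv⟩ := (@lTensor_exact R K F X _ _ _ _ _ _ _ ι π M _ _ hιπ hπ ((f.rTensor F) u)).1 h2
  have h3 : (ι.lTensor M'') ((g.rTensor K) v) = 0 := by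
    have e1 : (ι.lTensor M'') ((g.rTensor K) v) = (g.rTensor F) ((ι.lTensor M) v) := by
      rw [← LinearMap.comp_apply, ← LinearMap.comp_apply, LinearMap.lTensor_comp_rTensor,
        LinearMap.rTensor_comp_lTensor]
    rw [e1, hv, ← LinearMap.comp_apply, ← LinearMap.rTensor_comp, hfg.linearMap_comp_eq_zero,
      LinearMap.rTensor_zero, LinearMap.zero_apply]
  have h3' : (g.rTensor K) v = 0 := by
    have hinj := Module.Flat.lTensor_preserves_injective_linearMap (M := M'') ι
      K.injective_subtype
    exact hinj (by rw [h3, map_zero])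
  obtain ⟨v', hv'⟩ := (rTensor_exact K hfg hg v).1 h3'
  have h5 : (f.rTensor F) ((ι.lTensor M') v') = (f.rTensor F) u := by
    have e1 : (f.rTensor F) ((ι.lTensor M') v') = (ι.lTensor M) ((f.rTensor K) v') := by
      rw [← LinearMap.comp_apply, ← LinearMap.comp_apply, LinearMap.lTensor_comp_rTensor,
        LinearMap.rTensor_comp_lTensor]
    rw [e1, hv', hv]
  have hinjF := Module.Flat.rTensor_preserves_injective_linearMap (M := F) f hf
  have h6 : (ι.lTensor M') v' = u := hinjF h5
  rw [← h6, ← LinearMap.comp_apply, ← LinearMap.lTensor_comp, hιπ.linearMap_comp_eq_zero,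
    LinearMap.lTensor_zero, LinearMap.zero_apply]

/-- The kernel of a surjection between flat modules is flat. -/
theorem flat_of_flat_of_flat_coker {M' M M'' : Type u} [AddCommGroup M'] [AddCommGroup M]
    [AddCommGroup M''] [Module R M'] [Module R M] [Module R M'']
    (f : M' →ₗ[R] M) (g : M →ₗ[R] M'') (hf : Function.Injective f) (hfg : Function.Exact f g)
    (hg : Function.Surjective g) [Module.Flat R M] [Module.Flat R M''] : Module.Flat R M' := by
  rw [Module.Flat.iff_lTensor_preserves_injective_linearMap]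
  intro N N' _ _ _ _ L hL
  have h1 : Function.Injective ((L.lTensor M).comp (f.rTensor N)) :=
    (Module.Flat.lTensor_preserves_injective_linearMap L hL).comp
      (rTensor_injective_of_flat_coker f g hf hfg hg N)
  have h2 : (L.lTensor M).comp (f.rTensor N) = (f.rTensor N').comp (L.lTensor M') := by
    rw [LinearMap.lTensor_comp_rTensor, LinearMap.rTensor_comp_lTensor]
  rw [h2] at h1
  exact Function.Injective.of_comp h1

/-- If `C₀ → C₁ → C₂` stays exact at `C₁` after tensoring with any module and `C₂` is flat, then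
`C₂ / im(C₁)` is flat. -/
theorem flat_coker_of_forall_exact {C₀ C₁ C₂ : Type u} [AddCommGroup C₀] [AddCommGroup C₁]
    [AddCommGroup C₂] [Module R C₀] [Module R C₁] [Module R C₂]
    (d₀ : C₀ →ₗ[R] C₁) (d₁ : C₁ →ₗ[R] C₂) (hd : d₁.comp d₀ = 0) [Module.Flat R C₂]
    (hex : ∀ (N : Type u) [AddCommGroup N] [Module R N],
      Function.Exact (d₀.rTensor N) (d₁.rTensor N)) :
    Module.Flat R (C₂ ⧸ LinearMap.range d₁) := by
  let q : C₂ →ₗ[R] (C₂ ⧸ LinearMap.range d₁) := (LinearMap.range d₁).mkQ
  have hq : Function.Surjective q := Submodule.mkQ_surjective _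
  have hdq : Function.Exact d₁ q := LinearMap.exact_map_mkQ_range d₁
  rw [Module.Flat.iff_lTensor_preserves_injective_linearMap]
  intro N' N _ _ _ _ L hL
  let p : N →ₗ[R] (N ⧸ LinearMap.range L) := (LinearMap.range L).mkQ
  have hp : Function.Surjective p := Submodule.mkQ_surjective _
  have hLp : Function.Exact L p := LinearMap.exact_map_mkQ_range L
  rw [injective_iff_map_eq_zero]
  intro t ht
  obtain ⟨x, rfl⟩ := LinearMap.rTensor_surjective N' hq t
  -- step 2
  have h2 : (q.rTensor N) ((L.lTensor C₂) x) = 0 := by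
    have : (q.rTensor N) ((L.lTensor C₂) x) = (L.lTensor _) ((q.rTensor N') x) := by
      rw [← LinearMap.comp_apply, ← LinearMap.comp_apply, LinearMap.lTensor_comp_rTensor,
        LinearMap.rTensor_comp_lTensor]
    rw [this, ht]
  obtain ⟨y, hy⟩ := (rTensor_exact N hdq hq ((L.lTensor C₂) x)).1 h2
  -- step 3
  have h3 : (d₁.rTensor _) ((p.lTensor C₁) y) = 0 := by
    have e1 : (d₁.rTensor _) ((p.lTensor C₁) y) = (p.lTensor C₂) ((d₁.rTensor N) y) := by
      rw [← LinearMap.comp_apply, ← LinearMap.comp_apply, LinearMap.lTensor_comp_rTensor,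
        LinearMap.rTensor_comp_lTensor]
    rw [e1, hy, ← LinearMap.comp_apply, ← LinearMap.lTensor_comp, hLp.linearMap_comp_eq_zero,
      LinearMap.lTensor_zero, LinearMap.zero_apply]
  obtain ⟨wbar, hwbar⟩ := (hex (N ⧸ LinearMap.range L) ((p.lTensor C₁) y)).1 h3
  obtain ⟨w, rfl⟩ := LinearMap.lTensor_surjective C₀ hp wbar
  -- step 5
  have h5 : (p.lTensor C₁) (y - (d₀.rTensor N) w) = 0 := by
    have e1 : (p.lTensor C₁) ((d₀.rTensor N) w) = (d₀.rTensor _) ((p.lTensor C₀) w) := by
      rw [← LinearMap.comp_apply, ← LinearMap.comp_apply, LinearMap.lTensor_comp_rTensor,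
        LinearMap.rTensor_comp_lTensor]
    rw [map_sub, e1, hwbar, sub_self]
  obtain ⟨y', hy'⟩ := (lTensor_exact C₁ hLp hp (y - (d₀.rTensor N) w)).1 h5
  -- step 6
  have h6 : (L.lTensor C₂) ((d₁.rTensor N') y') = (L.lTensor C₂) x := by
    have e1 : (L.lTensor C₂) ((d₁.rTensor N') y') = (d₁.rTensor N) ((L.lTensor C₁) y') := by
      rw [← LinearMap.comp_apply, ← LinearMap.comp_apply, LinearMap.lTensor_comp_rTensor,
        LinearMap.rTensor_comp_lTensor]
    have e2 : (d₁.rTensor N) ((d₀.rTensor N) w) = 0 := by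
      rw [← LinearMap.comp_apply, ← LinearMap.rTensor_comp, hd, LinearMap.rTensor_zero,
        LinearMap.zero_apply]
    rw [e1, hy', map_sub, e2, sub_zero, hy]
  have hinj := Module.Flat.lTensor_preserves_injective_linearMap (M := C₂) L hL
  have h7 : (d₁.rTensor N') y' = x := hinj h6
  rw [← h7, ← LinearMap.comp_apply, ← LinearMap.rTensor_comp, hdq.linearMap_comp_eq_zero,
    LinearMap.rTensor_zero, LinearMap.zero_apply]

/-- If `W₀ → W₁ → W₂` is exact and `W₂ / im(W₁)` is flat, then the sequence stays exact after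
tensoring with any module. -/
theorem exact_rTensor_of_flat_coker {W₀ W₁ W₂ : Type u} [AddCommGroup W₀] [AddCommGroup W₁]
    [AddCommGroup W₂] [Module R W₀] [Module R W₁] [Module R W₂]
    (d₀ : W₀ →ₗ[R] W₁) (d₁ : W₁ →ₗ[R] W₂) (hex : Function.Exact d₀ d₁)
    [Module.Flat R (W₂ ⧸ LinearMap.range d₁)]
    (N : Type u) [AddCommGroup N] [Module R N] :
    Function.Exact (d₀.rTensor N) (d₁.rTensor N) := by
  let Z := LinearMap.range d₁
  let d₁' : W₁ →ₗ[R] Z := d₁.rangeRestrict
  let ι : Z →ₗ[R] W₂ := Z.subtype
  have hd₁ : d₁ = ι.comp d₁' := rfl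
  have hd₁' : Function.Surjective d₁' := LinearMap.surjective_rangeRestrict d₁
  have hex' : Function.Exact d₀ d₁' := by
    intro y
    rw [← hex y]
    exact ⟨fun h => congrArg Subtype.val h, fun h => Subtype.ext h⟩
  have hι : Function.Injective (ι.rTensor N) :=
    rTensor_injective_of_flat_coker ι Z.mkQ Z.injective_subtype
      (LinearMap.exact_subtype_mkQ Z) (Submodule.mkQ_surjective _) N
  have h1 := rTensor_exact N hex' hd₁'
  intro y
  rw [← h1 y, hd₁, LinearMap.rTensor_comp, LinearMap.comp_apply]
  constructor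
  · intro h
    exact hι (by rw [h, map_zero])
  · intro h
    rw [h, map_zero]

/-- An extension of flat modules is flat. -/
theorem flat_of_extension {M' M M'' : Type u} [AddCommGroup M'] [AddCommGroup M]
    [AddCommGroup M''] [Module R M'] [Module R M] [Module R M'']
    (f : M' →ₗ[R] M) (g : M →ₗ[R] M'') (hf : Function.Injective f) (hfg : Function.Exact f g)
    (hg : Function.Surjective g) [Module.Flat R M'] [Module.Flat R M''] : Module.Flat R M := by
  rw [Module.Flat.iff_lTensor_preserves_injective_linearMap]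
  intro X Y _ _ _ _ L hL
  rw [injective_iff_map_eq_zero]
  intro t ht
  have h1 : (L.lTensor M'') ((g.rTensor X) t) = 0 := by
    have e1 : (L.lTensor M'') ((g.rTensor X) t) = (g.rTensor Y) ((L.lTensor M) t) := by
      rw [← LinearMap.comp_apply, ← LinearMap.comp_apply, LinearMap.lTensor_comp_rTensor,
        LinearMap.rTensor_comp_lTensor]
    rw [e1, ht, map_zero]
  have h1' : (g.rTensor X) t = 0 :=
    Module.Flat.lTensor_preserves_injective_linearMap (M := M'') L hL (by rw [h1, map_zero])
  obtain ⟨s, rfl⟩ := (rTensor_exact X hfg hg t).1 h1'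
  have h2 : (f.rTensor Y) ((L.lTensor M') s) = 0 := by
    have e1 : (f.rTensor Y) ((L.lTensor M') s) = (L.lTensor M) ((f.rTensor X) s) := by
      rw [← LinearMap.comp_apply, ← LinearMap.comp_apply, LinearMap.lTensor_comp_rTensor,
        LinearMap.rTensor_comp_lTensor]
    rw [e1, ht]
  have h2' : (L.lTensor M') s = 0 :=
    rTensor_injective_of_flat_coker f g hf hfg hg Y (by rw [h2, map_zero])
  have h3 : s = 0 :=
    Module.Flat.lTensor_preserves_injective_linearMap (M := M') L hL (by rw [h2', map_zero])
  rw [h3, map_zero]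

/-- A product of two flat modules is flat. -/
theorem flat_prod {M N : Type u} [AddCommGroup M] [AddCommGroup N] [Module R M] [Module R N]
    [Module.Flat R M] [Module.Flat R N] : Module.Flat R (M × N) := by
  refine flat_of_extension (LinearMap.inl R M N) (LinearMap.snd R M N) LinearMap.inl_injective
    ?_ LinearMap.snd_surjective
  intro x
  constructor
  · intro hx
    exact ⟨x.1, Prod.ext rfl hx.symm⟩
  · rintro ⟨a, rfl⟩
    rfl

end FlatChase

end Groth.Agent.Lib.DMod_helper6
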