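import Mathlib
import Groth.Agent.Lib.FlatBC1_helper2
import Groth.Agent.Lib.DMod40_helper6

/-!
# Cohomology and base change with flat cohomology: algebra (helper2)

Algebraic lemmas around `FlatBCH2.IsBC` (uniqueness of the comparison map, cokernels and kernels
of base change maps, finite retract-sums) and two flatness criteria (four term exact sequences,
injectivity modulo every ideal).
APPEND-ONLY once landed.
-/

set_option autoImplicit false
set_option linter.style.haveILetI false
universe u

open TensorProduct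

namespace Groth.Agent.Lib.CBCH2

open Groth.Agent.Lib.FlatBCH2 Groth.Agent.Lib.DMod_helper6

section Uniq

variable {A B : Type*} [CommRing A] [CommRing B] [Algebra A B]
variable {P P₁ P₂ : Type*} [AddCommGroup P] [AddCommGroup P₁] [AddCommGroup P₂]
  [Module A P] [Module B P₁] [Module B P₂]

theorem isBC_of_eq {t s : P →+ P₁} (h : IsBC A B t) (hs : ∀ x, s x = t x) : IsBC A B s := by
  obtain ⟨e, he⟩ := h
  exact ⟨e, fun x => by rw [he, hs]⟩

/-- a semilinear comparison between two base changes of the same module is bijective -/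
theorem isBC_bijective_of_comp {t₁ : P →+ P₁} {t₂ : P →+ P₂} (h₁ : IsBC A B t₁)
    (h₂ : IsBC A B t₂) (L : P₁ →+ P₂) (hL : ∀ (b : B) (z : P₁), L (b • z) = b • L z)
    (hc : ∀ x, L (t₁ x) = t₂ x) : Function.Bijective L := by
  obtain ⟨e₁, he₁⟩ := h₁
  obtain ⟨e₂, he₂⟩ := h₂
  have key : ∀ w : B ⊗[A] P, L (e₁ w) = e₂ w := by
    intro w
    induction w using TensorProduct.induction_on with
    | zero => rw [map_zero, map_zero, map_zero]
    | tmul b x => rw [IsBC.apply_tmul e₁ he₁, IsBC.apply_tmul e₂ he₂, hL, hc]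
    | add z w hz hw => rw [map_add, map_add, map_add, hz, hw]
  have hL' : ∀ z, L z = e₂ (e₁.symm z) := fun z => by
    rw [← key, LinearEquiv.apply_symm_apply]
  constructor
  · intro z z' h
    rw [hL', hL'] at h
    exact e₁.symm.injective (e₂.injective h)
  · intro y
    refine ⟨e₁ (e₂.symm y), ?_⟩
    rw [key, LinearEquiv.apply_symm_apply]

end Uniq

section Coker

variable {A B : Type*} [CommRing A] [CommRing B] [Algebra A B]

/-- the cokernel statement for a given third map -/
theorem isBC_coker_given {P₁ P₂ P₃ P₁' P₂' P₃' : Type*}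
    [AddCommGroup P₁] [AddCommGroup P₂] [AddCommGroup P₃]
    [AddCommGroup P₁'] [AddCommGroup P₂'] [AddCommGroup P₃']
    [Module A P₁] [Module A P₂] [Module A P₃] [Module B P₁'] [Module B P₂'] [Module B P₃']
    (a : P₁ →ₗ[A] P₂) (b : P₂ →ₗ[A] P₃) (a' : P₁' →ₗ[B] P₂') (b' : P₂' →ₗ[B] P₃')
    (hab : LinearMap.range a = LinearMap.ker b) (hb : Function.Surjective b)
    (hab' : LinearMap.range a' = LinearMap.ker b') (hb' : Function.Surjective b')
    (t₁ : P₁ →+ P₁') (t₂ : P₂ →+ P₂') (t₃ : P₃ →+ P₃') (h₁ : IsBC A B t₁) (h₂ : IsBC A B t₂)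
    (hcomm : ∀ x, t₂ (a x) = a' (t₁ x)) (hcomm' : ∀ x, t₃ (b x) = b' (t₂ x)) : IsBC A B t₃ := by
  obtain ⟨s, hs, hs'⟩ := IsBC.coker a b a' b' hab hb hab' hb' t₁ t₂ h₁ h₂ hcomm
  refine isBC_of_eq hs (fun y => ?_)
  obtain ⟨x, rfl⟩ := hb y
  rw [hcomm', hs']

/-- transport along bijective linear maps -/
theorem isBC_of_bijective {P₂ P₃ P₂' P₃' : Type*}
    [AddCommGroup P₂] [AddCommGroup P₃] [AddCommGroup P₂'] [AddCommGroup P₃']
    [Module A P₂] [Module A P₃] [Module B P₂'] [Module B P₃']
    (b : P₂ →ₗ[A] P₃) (b' : P₂' →ₗ[B] P₃') (hb : Function.Bijective b)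
    (hb' : Function.Bijective b') (t₂ : P₂ →+ P₂') (t₃ : P₃ →+ P₃') (h₂ : IsBC A B t₂)
    (hcomm' : ∀ x, t₃ (b x) = b' (t₂ x)) : IsBC A B t₃ := by
  refine IsBC.comp_equiv h₂ (LinearEquiv.ofBijective b hb).symm (LinearEquiv.ofBijective b' hb')
    t₃ (fun q => ?_)
  obtain ⟨x, rfl⟩ := hb.2 q
  rw [hcomm']
  have : (LinearEquiv.ofBijective b hb).symm (b x) = x :=
    (LinearEquiv.ofBijective b hb).symm_apply_apply x
  rw [this]
  rfl

/-- the kernel statement -/
theorem isBC_ker_given {Z C G Z' C' G' : Type*}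
    [AddCommGroup Z] [AddCommGroup C] [AddCommGroup G]
    [AddCommGroup Z'] [AddCommGroup C'] [AddCommGroup G']
    [Module A Z] [Module A C] [Module A G] [Module B Z'] [Module B C'] [Module B G']
    (i : Z →ₗ[A] C) (d : C →ₗ[A] G) (i' : Z' →ₗ[B] C') (d' : C' →ₗ[B] G')
    (hi' : Function.Injective i') (hid' : LinearMap.range i' = LinearMap.ker d')
    (hdi : ∀ z, d (i z) = 0)
    (hinj : Function.Injective (i.baseChange B))
    (hex : ∀ w : B ⊗[A] C, (d.baseChange B) w = 0 → ∃ v, (i.baseChange B) v = w)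
    (tZ : Z →+ Z') (tC : C →+ C') (tG : G →+ G') (hC : IsBC A B tC) (hG : IsBC A B tG)
    (h1 : ∀ z, tC (i z) = i' (tZ z)) (h2 : ∀ c, tG (d c) = d' (tC c)) : IsBC A B tZ := by
  obtain ⟨eC, heC⟩ := hC
  obtain ⟨eG, heG⟩ := hG
  have hd : ∀ w : B ⊗[A] C, eG ((d.baseChange B) w) = d' (eC w) := by
    intro w
    induction w using TensorProduct.induction_on with
    | zero => rw [map_zero, map_zero, map_zero, map_zero]
    | tmul b c =>
      rw [LinearMap.baseChange_tmul, IsBC.apply_tmul eG heG, IsBC.apply_tmul eC heC, map_smul, h2]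
    | add z w hz hw => rw [map_add, map_add, map_add, map_add, hz, hw]
  have hdi' : ∀ w : B ⊗[A] Z, (d.baseChange B) ((i.baseChange B) w) = 0 := by
    intro w
    induction w using TensorProduct.induction_on with
    | zero => rw [map_zero, map_zero]
    | tmul b z => rw [LinearMap.baseChange_tmul, LinearMap.baseChange_tmul, hdi, tmul_zero]
    | add z w hz hw => rw [map_add, map_add, hz, hw, add_zero]
  let ψ : B ⊗[A] Z →ₗ[B] C' := eC.toLinearMap ∘ₗ (i.baseChange B)
  have hψ : ∀ w, ψ w ∈ LinearMap.range i' := by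
    intro w
    rw [hid', LinearMap.mem_ker]
    show d' (eC ((i.baseChange B) w)) = 0
    rw [← hd, hdi', map_zero]
  let E₀ : B ⊗[A] Z →ₗ[B] LinearMap.range i' := LinearMap.codRestrict _ ψ hψ
  let J : Z' ≃ₗ[B] LinearMap.range i' := LinearEquiv.ofInjective i' hi'
  let E : B ⊗[A] Z →ₗ[B] Z' := J.symm.toLinearMap ∘ₗ E₀
  have hE : ∀ w, i' (E w) = ψ w := by
    intro w
    have h3 : J (E w) = E₀ w := J.apply_symm_apply _
    exact congrArg Subtype.val h3
  have hbij : Function.Bijective E := by
    constructor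
    · rw [injective_iff_map_eq_zero]
      intro w hw
      have h3 : ψ w = 0 := by rw [← hE, hw, map_zero]
      have h4 : (i.baseChange B) w = 0 := eC.injective (by rw [map_zero]; exact h3)
      exact hinj (by rw [h4, map_zero])
    · intro z'
      obtain ⟨c, hc⟩ := eC.surjective (i' z')
      have h5 : (d.baseChange B) c = 0 := by
        apply eG.injective
        rw [hd, hc, map_zero]
        have : i' z' ∈ LinearMap.ker d' := by rw [← hid']; exact ⟨z', rfl⟩
        exact this
      obtain ⟨v, hv⟩ := hex c h5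
      refine ⟨v, hi' ?_⟩
      rw [hE]
      show eC ((i.baseChange B) v) = i' z'
      rw [hv, hc]
  refine ⟨LinearEquiv.ofBijective E hbij, fun z => hi' ?_⟩
  rw [LinearEquiv.ofBijective_apply, hE]
  show eC ((i.baseChange B) (1 ⊗ₜ z)) = i' (tZ z)
  rw [LinearMap.baseChange_tmul, heC, h1]

end Coker

section Total

variable {A B : Type*} [CommRing A] [CommRing B] [Algebra A B]

/-- finite retract-sums of base change maps -/
theorem isBC_of_total {ι : Type*} [Fintype ι] {P P' : Type*} {Q Q' : ι → Type*}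
    [AddCommGroup P] [AddCommGroup P'] [∀ i, AddCommGroup (Q i)] [∀ i, AddCommGroup (Q' i)]
    [Module A P] [Module B P'] [∀ i, Module A (Q i)] [∀ i, Module B (Q' i)]
    (p : ∀ i, P →ₗ[A] Q i) (q : ∀ i, Q i →ₗ[A] P) (hpq : ∀ x, ∑ i, q i (p i x) = x)
    (p' : ∀ i, P' →ₗ[B] Q' i) (q' : ∀ i, Q' i →ₗ[B] P') (hpq' : ∀ y, ∑ i, q' i (p' i y) = y)
    (t : P →+ P') (ti : ∀ i, Q i →+ Q' i) (hti : ∀ i, IsBC A B (ti i))
    (hp : ∀ i x, ti i (p i x) = p' i (t x)) (hq : ∀ i x, t (q i x) = q' i (ti i x)) :
    IsBC A B t := by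
  choose e he using hti
  let E : B ⊗[A] P →ₗ[B] P' :=
    ∑ i, (q' i) ∘ₗ (e i).toLinearMap ∘ₗ ((p i).baseChange B)
  have hE1 : ∀ x, E (1 ⊗ₜ x) = t x := by
    intro x
    show (∑ i, (q' i) ∘ₗ (e i).toLinearMap ∘ₗ ((p i).baseChange B)) (1 ⊗ₜ x) = t x
    rw [LinearMap.sum_apply]
    have h1 : ∀ i, ((q' i) ∘ₗ (e i).toLinearMap ∘ₗ ((p i).baseChange B)) (1 ⊗ₜ[A] x) =
        q' i (p' i (t x)) := by
      intro i
      show q' i (e i (((p i).baseChange B) (1 ⊗ₜ[A] x))) = _
      rw [LinearMap.baseChange_tmul, he, hp]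
    rw [Finset.sum_congr rfl (fun i _ => h1 i), hpq']
  have hE : ∀ (b : B) x, E (b ⊗ₜ x) = b • t x := by
    intro b x
    rw [FlatBCH2.tmul_eq_smul_one_tmul, map_smul, hE1]
  have hpE : ∀ j (w : B ⊗[A] P), p' j (E w) = e j (((p j).baseChange B) w) := by
    intro j w
    induction w using TensorProduct.induction_on with
    | zero => rw [map_zero, map_zero, map_zero, map_zero]
    | tmul b x =>
      rw [hE, map_smul, ← hp, LinearMap.baseChange_tmul, IsBC.apply_tmul (e j) (he j)]
    | add z w hz hw => rw [map_add, map_add, map_add, map_add, hz, hw]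
  have hEq : ∀ j (w : B ⊗[A] Q j), E (((q j).baseChange B) w) = q' j (e j w) := by
    intro j w
    induction w using TensorProduct.induction_on with
    | zero => rw [map_zero, map_zero, map_zero, map_zero]
    | tmul b x =>
      rw [LinearMap.baseChange_tmul, hE, hq, IsBC.apply_tmul (e j) (he j), map_smul]
    | add z w hz hw => rw [map_add, map_add, map_add, map_add, hz, hw]
  have hsum : ∀ w : B ⊗[A] P, ∑ j, ((q j).baseChange B) (((p j).baseChange B) w) = w := by
    intro w
    induction w using TensorProduct.induction_on with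
    | zero => simp only [map_zero, Finset.sum_const_zero]
    | tmul b x =>
      simp only [LinearMap.baseChange_tmul]
      rw [← tmul_sum, hpq]
    | add z w hz hw =>
      simp only [map_add, Finset.sum_add_distrib]
      rw [hz, hw]
  have hbij : Function.Bijective E := by
    constructor
    · rw [injective_iff_map_eq_zero]
      intro w hw
      rw [← hsum w]
      refine Finset.sum_eq_zero (fun j _ => ?_)
      have h1 : e j (((p j).baseChange B) w) = 0 := by rw [← hpE, hw, map_zero]
      have h2 : ((p j).baseChange B) w = 0 := (e j).injective (by rw [h1, map_zero])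
      rw [h2, map_zero]
    · intro y
      refine ⟨∑ j, ((q j).baseChange B) ((e j).symm (p' j y)), ?_⟩
      rw [map_sum]
      have h1 : ∀ j, E (((q j).baseChange B) ((e j).symm (p' j y))) = q' j (p' j y) := by
        intro j
        rw [hEq, LinearEquiv.apply_symm_apply]
      rw [Finset.sum_congr rfl (fun j _ => h1 j), hpq']
  exact ⟨LinearEquiv.ofBijective E hbij, fun x => by
    rw [LinearEquiv.ofBijective_apply, hE1]⟩

/-- a finite retract-sum of flat modules is flat -/
theorem flat_of_total {ι : Type*} [Fintype ι] [DecidableEq ι] {P : Type*} {Q : ι → Type*}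
    [AddCommGroup P] [∀ i, AddCommGroup (Q i)] [Module A P] [∀ i, Module A (Q i)]
    (p : ∀ i, P →ₗ[A] Q i) (q : ∀ i, Q i →ₗ[A] P) (hpq : ∀ x, ∑ i, q i (p i x) = x)
    (hQ : ∀ i, Module.Flat A (Q i)) : Module.Flat A P := by
  haveI : Module.Flat A (Π₀ i, Q i) := inferInstance
  haveI : Module.Flat A (∀ i, Q i) :=
    Module.Flat.of_linearEquiv (DFinsupp.linearEquivFunOnFintype (R := A) (M := Q)).symm
  refine Module.Flat.of_retract (M := ∀ i, Q i) (LinearMap.pi p)
    (∑ i, (q i) ∘ₗ (LinearMap.proj i)) ?_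
  ext x
  rw [LinearMap.comp_apply, LinearMap.sum_apply]
  simp only [LinearMap.comp_apply, LinearMap.proj_apply, LinearMap.pi_apply, LinearMap.id_apply]
  exact hpq x

end Total

section Flat

variable {A : Type u} [CommRing A]

/-- a four term exact sequence `0 → Z → C → G → H → 0` with `C`, `G`, `H` flat: `Z` is flat and
`0 → N ⊗ Z → N ⊗ C → N ⊗ G` is exact for every `N` -/
theorem four_term_flat {Z C G H : Type u} [AddCommGroup Z] [AddCommGroup C] [AddCommGroup G]
    [AddCommGroup H] [Module A Z] [Module A C] [Module A G] [Module A H]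
    (i : Z →ₗ[A] C) (d : C →ₗ[A] G) (q : G →ₗ[A] H)
    (hi : Function.Injective i) (hid : LinearMap.range i = LinearMap.ker d)
    (hdq : LinearMap.range d = LinearMap.ker q) (hq : Function.Surjective q)
    [Module.Flat A C] [Module.Flat A G] [Module.Flat A H] :
    Module.Flat A Z ∧ ∀ (N : Type u) [AddCommGroup N] [Module A N],
      Function.Injective (i.lTensor N) ∧
        ∀ w, (d.lTensor N) w = 0 → ∃ v, (i.lTensor N) v = w := by
  haveI hQ : Module.Flat A (G ⧸ LinearMap.range d) :=
    Module.Flat.of_linearEquiv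
      ((Submodule.quotEquivOfEq _ _ hdq) ≪≫ₗ (q.quotKerEquivOfSurjective hq))
  haveI hR : Module.Flat A (LinearMap.range d) :=
    flat_of_flat_of_flat_coker (LinearMap.range d).subtype (LinearMap.range d).mkQ
      (LinearMap.range d).injective_subtype (LinearMap.exact_subtype_mkQ _)
      (Submodule.mkQ_surjective _)
  have hd₀ : Function.Surjective d.rangeRestrict := LinearMap.surjective_rangeRestrict d
  have hex : Function.Exact i d := by
    rw [LinearMap.exact_iff, hid]
  have hex₀ : Function.Exact i d.rangeRestrict := by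
    intro y
    rw [← hex y]
    exact ⟨fun h => congrArg Subtype.val h, fun h => Subtype.ext h⟩
  refine ⟨flat_of_flat_of_flat_coker i d.rangeRestrict hi hex₀ hd₀, ?_⟩
  intro N _ _
  have h1 : Function.Injective (i.rTensor N) :=
    rTensor_injective_of_flat_coker i d.rangeRestrict hi hex₀ hd₀ N
  have h2 : Function.Exact (i.rTensor N) (d.rTensor N) :=
    exact_rTensor_of_flat_coker i d hex N
  refine ⟨(LinearMap.lTensor_inj_iff_rTensor_inj N i).mpr h1, fun w hw => ?_⟩
  have h3 : (d.rTensor N) (TensorProduct.comm A N C w) = 0 := by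
    have := LinearMap.rTensor_comm (N := N) d w
    rw [this, hw, map_zero]
  obtain ⟨v, hv⟩ := (h2 _).mp h3
  refine ⟨TensorProduct.comm A Z N v, ?_⟩
  have h4 := LinearMap.lTensor_comm (N := N) i v
  rw [h4, hv]
  exact (TensorProduct.comm A N C).symm_apply_apply w

theorem lid_rTensor_lTensor {C G : Type*} [AddCommGroup C] [AddCommGroup G] [Module A C]
    [Module A G] (π : C →ₗ[A] G) (I : Ideal A) (y : I ⊗[A] C) :
    TensorProduct.lid A G ((LinearMap.rTensor G I.subtype) ((LinearMap.lTensor I π) y)) =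
      π (TensorProduct.lid A C ((LinearMap.rTensor C I.subtype) y)) := by
  induction y using TensorProduct.induction_on with
  | zero => simp only [map_zero]
  | tmul a c =>
    rw [LinearMap.lTensor_tmul, LinearMap.rTensor_tmul, LinearMap.rTensor_tmul,
      TensorProduct.lid_tmul, TensorProduct.lid_tmul, map_smul]
  | add x y hx hy => simp only [map_add, hx, hy]

theorem smul_top_of_tensor {C : Type*} [AddCommGroup C] [Module A C] (I : Ideal A)
    (y : I ⊗[A] C) :
    TensorProduct.lid A C ((LinearMap.rTensor C I.subtype) y) ∈ I • (⊤ : Submodule A C) := by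
  induction y using TensorProduct.induction_on with
  | zero => simp only [map_zero, Submodule.zero_mem]
  | tmul a c =>
    rw [LinearMap.rTensor_tmul, TensorProduct.lid_tmul]
    exact Submodule.smul_mem_smul a.2 Submodule.mem_top
  | add x y hx hy =>
    rw [map_add, map_add]
    exact Submodule.add_mem _ hx hy

theorem exists_tensor_of_mem_smul_top {Z : Type*} [AddCommGroup Z] [Module A Z] (I : Ideal A)
    (z : Z) (hz : z ∈ I • (⊤ : Submodule A Z)) :
    ∃ v : I ⊗[A] Z, TensorProduct.lid A Z ((LinearMap.rTensor Z I.subtype) v) = z := by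
  refine Submodule.smul_induction_on hz ?_ ?_
  · intro a ha z _
    exact ⟨(⟨a, ha⟩ : I) ⊗ₜ[A] z, by rw [LinearMap.rTensor_tmul, TensorProduct.lid_tmul]; rfl⟩
  · rintro x y ⟨v, hv⟩ ⟨w, hw⟩
    exact ⟨v + w, by rw [map_add, map_add, hv, hw]⟩

/-- `0 → Z → C → G → 0` exact, `C` flat, and `Z/IZ → C/IC` injective for every ideal `I`: then
`G` is flat -/
theorem flat_of_quot {Z C G : Type u} [AddCommGroup Z] [AddCommGroup C] [AddCommGroup G]
    [Module A Z] [Module A C] [Module A G] (i : Z →ₗ[A] C) (π : C →ₗ[A] G)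
    (hiπ : ∀ c, π c = 0 → ∃ z, i z = c) (hπi : ∀ z, π (i z) = 0) (hπ : Function.Surjective π)
    [Module.Flat A C]
    (h : ∀ (I : Ideal A) (z : Z), i z ∈ I • (⊤ : Submodule A C) → z ∈ I • (⊤ : Submodule A Z)) :
    Module.Flat A G := by
  rw [Module.Flat.iff_rTensor_injective']
  intro I
  rw [injective_iff_map_eq_zero]
  intro x hx
  obtain ⟨y, rfl⟩ := LinearMap.lTensor_surjective I hπ x
  have hπc : π (TensorProduct.lid A C ((LinearMap.rTensor C I.subtype) y)) = 0 := by
    rw [← lid_rTensor_lTensor, hx, map_zero]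
  obtain ⟨z, hz⟩ := hiπ _ hπc
  have hzI : z ∈ I • (⊤ : Submodule A Z) := h I z (by rw [hz]; exact smul_top_of_tensor I y)
  obtain ⟨v, hv⟩ := exists_tensor_of_mem_smul_top I z hzI
  have hy : y = (LinearMap.lTensor I i) v := by
    have hinj : Function.Injective (LinearMap.rTensor C I.subtype) :=
      Module.Flat.rTensor_preserves_injective_linearMap I.subtype Subtype.val_injective
    apply hinj
    apply (TensorProduct.lid A C).injective
    rw [lid_rTensor_lTensor, hv, hz]
  rw [hy, ← LinearMap.comp_apply, ← LinearMap.lTensor_comp]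
  have h0 : π ∘ₗ i = 0 := LinearMap.ext hπi
  rw [h0, LinearMap.lTensor_zero, LinearMap.zero_apply]

end Flat

section Quot

variable {A : Type*} [CommRing A] (I : Ideal A)
variable {P P' : Type*} [AddCommGroup P] [AddCommGroup P'] [Module A P] [Module (A ⧸ I) P']

theorem isBC_quot_mem {t : P →+ P'} (h : IsBC A (A ⧸ I) t) (z : P) (hz : t z = 0) :
    z ∈ I • (⊤ : Submodule A P) := by
  obtain ⟨e, he⟩ := h
  have h1 : (1 : A ⧸ I) ⊗ₜ[A] z = 0 := e.injective (by rw [he, hz, map_zero])
  have h2 := congrArg (TensorProduct.quotTensorEquivQuotSMul P I) h1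
  rw [TensorProduct.quotTensorEquivQuotSMul_mk_one_tmul, map_zero,
    Submodule.Quotient.mk_eq_zero] at h2
  exact h2

theorem isBC_quot_smul_top {t : P →+ P'} (h : IsBC A (A ⧸ I) t) (z : P)
    (hz : z ∈ I • (⊤ : Submodule A P)) : t z = 0 := by
  refine Submodule.smul_induction_on hz ?_ ?_
  · intro a ha x _
    rw [h.semilinear]
    have : algebraMap A (A ⧸ I) a = 0 := Ideal.Quotient.eq_zero_iff_mem.mpr ha
    rw [this, zero_smul]
  · intro x y hx hy
    rw [map_add, hx, hy, add_zero]

end Quot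

end Groth.Agent.Lib.CBCH2
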