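import Mathlib
import Groth.Prelude
import Groth.Agent.Lib.FlatBC4_helper2
import Groth.Agent.Lib.PullFn5_helper2
import Groth.Agent.Lib.CBCAlg_helper2

/-!
# Cohomology and base change with flat cohomology: the induction (helper2)

`X` over `Spec A` with a finite cover by affine opens `U i` with affine inclusions.  For a class
`𝒦` of quasi-coherent modules stable under `N ↦ coker (N → ∐ j_* j^* N)` and such that the
canonical maps on `H^0` of the modules `∐ j_* j^* N` are base change maps (for EVERY base change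
`A → B`), these `H^0` are flat, and the sequences `0 → N → ∐ j_* j^* N → coker → 0` stay exact
after pullback: if all `H^p(X, N)` are flat and the cohomology of `N` vanishes universally in
high degrees, then the canonical maps `H^p(X, N) → H^p(X', g'^* N)` (`CohPull.pullMod`) are base
change maps for every `p` and every base change.
APPEND-ONLY once landed.
-/

set_option autoImplicit false
set_option backward.isDefEq.respectTransparency false
set_option linter.style.haveILetI false
set_option linter.unusedSectionVars false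
universe u

open CategoryTheory CategoryTheory.Limits AlgebraicGeometry TopologicalSpace Opposite TensorProduct

namespace Groth.Agent.Lib.CBCH2

open Groth.Agent.Lib.FlatBCH2 Groth.Agent.Lib.FormalFnH2 Groth.Agent.HHVan Groth.Agent.ProjFin
  Groth.Agent.Lib.PullFnH2 Groth.Agent.LESLin

section Compat

variable {A B : Type u} [CommRing A] [CommRing B] [Algebra A B]
  {X X' : Scheme.{u}} [X.Over (Spec (CommRingCat.of A))] [X'.Over (Spec (CommRingCat.of B))]
  (g' : X' ⟶ X)

theorem isAffineHom_of_hsq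
    (hsq : IsPullback g' (X' ↘ Spec (CommRingCat.of B)) (X ↘ Spec (CommRingCat.of A))
      (Spec.map (CommRingCat.ofHom (algebraMap A B)))) : IsAffineHom g' :=
  MorphismProperty.of_isPullback (P := @IsAffineHom) hsq.flip inferInstance

theorem pullMod_HHlin {M N : X.Modules} (φ : M ⟶ N) (n : ℕ) (x : Coh.HH X M n) :
    CohPull.pullMod g' N n (Canon.HHlin A φ n x) =
      Canon.HHlin B ((Scheme.Modules.pullback g').map φ) n (CohPull.pullMod g' M n x) :=
  pullMod_map g' φ n x

theorem pullMod_δlin (S : ShortComplex X.Modules) (hS : S.ShortExact)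
    (hS' : (S.map (Scheme.Modules.pullback g')).ShortExact) (n : ℕ) (x : Coh.HH X S.X₃ n) :
    CohPull.pullMod g' S.X₁ (n + 1) (δlin A S hS n x) =
      δlin B (S.map (Scheme.Modules.pullback g')) hS' n (CohPull.pullMod g' S.X₃ n x) :=
  pullMod_extδ g' S (SerreCrit.shortExact_toSheaf S hS)
    (SerreCrit.shortExact_toSheaf (S.map (Scheme.Modules.pullback g')) hS') n x

end Compat

section LES

variable (A : Type u) [CommRing A] {X : Scheme.{u}} [X.Over (Spec (CommRingCat.of A))]
  (S : ShortComplex X.Modules) (hS : S.ShortExact)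

theorem δlin_surjective_of (n : ℕ) (h : Subsingleton (Coh.HH X S.X₂ (n + 1))) :
    Function.Surjective (δlin A S hS n) := by
  rw [← LinearMap.range_eq_top, range_δlin A S hS n, LinearMap.ker_eq_top]
  exact LinearMap.ext fun x => Subsingleton.elim (h := h) _ _

theorem δlin_injective_of (n : ℕ) (h : Subsingleton (Coh.HH X S.X₂ n)) :
    Function.Injective (δlin A S hS n) := by
  rw [← LinearMap.ker_eq_bot, ← range_HHlin_g A S hS n, LinearMap.range_eq_bot]
  refine LinearMap.ext fun x => ?_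
  rw [Subsingleton.elim (h := h) x 0, map_zero, map_zero]

include hS in
theorem HHlin_g_surjective_of (n : ℕ) (h : Subsingleton (Coh.HH X S.X₁ (n + 1))) :
    Function.Surjective (Canon.HHlin A S.g n) := by
  rw [← LinearMap.range_eq_top, range_HHlin_g A S hS n, LinearMap.ker_eq_top]
  exact LinearMap.ext fun x => Subsingleton.elim (h := h) _ _

include hS in
theorem HHlin_g_f (n : ℕ) (z : Coh.HH X S.X₁ n) :
    Canon.HHlin A S.g n (Canon.HHlin A S.f n z) = 0 := by
  have : Canon.HHlin A S.f n z ∈ LinearMap.ker (Canon.HHlin A S.g n) := by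
    rw [← range_HHlin_f A S hS n]
    exact ⟨z, rfl⟩
  exact this

end LES

section Defs

variable (A : Type u) [CommRing A] {X : Scheme.{u}} [X.Over (Spec (CommRingCat.of A))]

/-- the canonical map on `H^p` is a base change map, for every base change of `X` -/
def AllBC (N : X.Modules) (p : ℕ) : Prop :=
  ∀ (B : Type u) [CommRing B] [Algebra A B] (X' : Scheme.{u})
    [X'.Over (Spec (CommRingCat.of B))] (g' : X' ⟶ X),
    IsPullback g' (X' ↘ Spec (CommRingCat.of B)) (X ↘ Spec (CommRingCat.of A))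
      (Spec.map (CommRingCat.ofHom (algebraMap A B))) →
    IsBC A B (CohPull.pullMod g' N p)

/-- `H^p` vanishes, also after every base change of `X` -/
def AllVan (N : X.Modules) (p : ℕ) : Prop :=
  Subsingleton (Coh.HH X N p) ∧
  ∀ (B : Type u) [CommRing B] [Algebra A B] (X' : Scheme.{u})
    [X'.Over (Spec (CommRingCat.of B))] (g' : X' ⟶ X),
    IsPullback g' (X' ↘ Spec (CommRingCat.of B)) (X ↘ Spec (CommRingCat.of A))
      (Spec.map (CommRingCat.ofHom (algebraMap A B))) →
    Subsingleton (Coh.HH X' ((Scheme.Modules.pullback g').obj N) p)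

/-- the full conclusion together with flatness of `H^0` -/
def TPlus (N : X.Modules) : Prop :=
  (∀ p, AllBC A N p) ∧ Module.Flat A (Coh.HH X N 0)

variable {ι : Type u} [Fintype ι] [DecidableEq ι]

/-- the data the induction runs on -/
structure GData (U : ι → X.Opens) (𝒦 : X.Modules → Prop) : Prop where
  hcov : ⨆ i, U i = ⊤
  hA : ∀ i, IsAffineOpen (U i)
  hU : ∀ i, IsAffineHom (U i).ι
  qc : ∀ N, 𝒦 N → N.IsQuasicoherent
  Q : ∀ N, 𝒦 N → 𝒦 (cokernel (ηc U N))
  S' : ∀ N, 𝒦 N → ∀ (X' : Scheme.{u}) (g' : X' ⟶ X),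
    ((SS U N).map (Scheme.Modules.pullback g')).ShortExact
  G0 : ∀ N, 𝒦 N → AllBC A (GGc U N) 0
  Gflat : ∀ N, 𝒦 N → Module.Flat A (Coh.HH X (GGc U N) 0)

end Defs

section Ind

variable {A : Type u} [CommRing A] {X : Scheme.{u}} [X.Over (Spec (CommRingCat.of A))]
  {ι : Type u} [Fintype ι] [DecidableEq ι] {U : ι → X.Opens} {𝒦 : X.Modules → Prop}
  (D : GData A U 𝒦)

include D in
theorem allVan_Q (N : X.Modules) (hN : 𝒦 N) (p : ℕ) (h : AllVan A N (p + 1 + 1)) :
    AllVan A (cokernel (ηc U N)) (p + 1) := by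
  haveI := D.qc N hN
  refine ⟨subsingleton_right (SS U N) (SS_shortExact U D.hcov N) (p + 1)
    (subsingleton_HH_GGc U D.hA D.hU N p) h.1, ?_⟩
  intro B _ _ X' _ g' hsq
  haveI := isAffineHom_of_hsq g' hsq
  exact subsingleton_right ((SS U N).map (Scheme.Modules.pullback g')) (D.S' N hN X' g') (p + 1)
    (subsingleton_HH_pullback_GGc g' U D.hA D.hU N p) (h.2 B X' g' hsq)

include D in
theorem allBC_succ_succ (N : X.Modules) (hN : 𝒦 N) (p : ℕ)
    (h : AllBC A (cokernel (ηc U N)) (p + 1)) : AllBC A N (p + 1 + 1) := by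
  haveI := D.qc N hN
  intro B _ _ X' _ g' hsq
  haveI := isAffineHom_of_hsq g' hsq
  have hS := SS_shortExact U D.hcov N
  have hS' := D.S' N hN X' g'
  exact isBC_of_bijective (δlin A (SS U N) hS (p + 1))
    (δlin B ((SS U N).map (Scheme.Modules.pullback g')) hS' (p + 1))
    ⟨δlin_injective_of A (SS U N) hS (p + 1) (subsingleton_HH_GGc U D.hA D.hU N p),
      δlin_surjective_of A (SS U N) hS (p + 1) (subsingleton_HH_GGc U D.hA D.hU N (p + 1))⟩
    ⟨δlin_injective_of B _ hS' (p + 1) (subsingleton_HH_pullback_GGc g' U D.hA D.hU N p),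
      δlin_surjective_of B _ hS' (p + 1)
        (subsingleton_HH_pullback_GGc g' U D.hA D.hU N (p + 1))⟩
    (CohPull.pullMod g' (cokernel (ηc U N)) (p + 1)) (CohPull.pullMod g' N (p + 1 + 1))
    (h B X' g' hsq) (fun x => pullMod_δlin g' (SS U N) hS hS' (p + 1) x)

include D in
theorem allBC_one (N : X.Modules) (hN : 𝒦 N) (h : AllBC A (cokernel (ηc U N)) 0) :
    AllBC A N (0 + 1) := by
  haveI := D.qc N hN
  intro B _ _ X' _ g' hsq
  haveI := isAffineHom_of_hsq g' hsq
  have hS := SS_shortExact U D.hcov N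
  have hS' := D.S' N hN X' g'
  exact isBC_coker_given (Canon.HHlin A (SS U N).g 0) (δlin A (SS U N) hS 0)
    (Canon.HHlin B ((SS U N).map (Scheme.Modules.pullback g')).g 0)
    (δlin B ((SS U N).map (Scheme.Modules.pullback g')) hS' 0)
    (range_HHlin_g A (SS U N) hS 0)
    (δlin_surjective_of A (SS U N) hS 0 (subsingleton_HH_GGc U D.hA D.hU N 0))
    (range_HHlin_g B _ hS' 0)
    (δlin_surjective_of B _ hS' 0 (subsingleton_HH_pullback_GGc g' U D.hA D.hU N 0))
    (CohPull.pullMod g' (GGc U N) 0) (CohPull.pullMod g' (cokernel (ηc U N)) 0)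
    (CohPull.pullMod g' N (0 + 1))
    (D.G0 N hN B X' g' hsq) (h B X' g' hsq)
    (fun x => pullMod_HHlin g' (SS U N).g 0 x)
    (fun x => pullMod_δlin g' (SS U N) hS hS' 0 x)

include D in
theorem allBC_zero_and_flat (N : X.Modules) (hN : 𝒦 N)
    (hH : Module.Flat A (Coh.HH X N (0 + 1)))
    (hQ0 : AllBC A (cokernel (ηc U N)) 0)
    (hQf : Module.Flat A (Coh.HH X (cokernel (ηc U N)) 0)) :
    AllBC A N 0 ∧ Module.Flat A (Coh.HH X N 0) := by
  haveI := D.qc N hN
  have hS := SS_shortExact U D.hcov N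
  haveI := D.Gflat N hN
  haveI := hQf
  haveI := hH
  obtain ⟨hfl, hten⟩ := four_term_flat (Canon.HHlin A (SS U N).f 0)
    (Canon.HHlin A (SS U N).g 0) (δlin A (SS U N) hS 0)
    (injective_HHlin_f_zero A (SS U N) hS) (range_HHlin_f A (SS U N) hS 0)
    (range_HHlin_g A (SS U N) hS 0)
    (δlin_surjective_of A (SS U N) hS 0 (subsingleton_HH_GGc U D.hA D.hU N 0))
  refine ⟨?_, hfl⟩
  intro B _ _ X' _ g' hsq
  have hS' := D.S' N hN X' g'
  obtain ⟨h1, h2⟩ := hten B
  refine isBC_ker_given (Canon.HHlin A (SS U N).f 0) (Canon.HHlin A (SS U N).g 0)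
    (Canon.HHlin B ((SS U N).map (Scheme.Modules.pullback g')).f 0)
    (Canon.HHlin B ((SS U N).map (Scheme.Modules.pullback g')).g 0)
    (injective_HHlin_f_zero B _ hS') (range_HHlin_f B _ hS' 0)
    (fun z => HHlin_g_f A (SS U N) hS 0 z) ?_ ?_
    (CohPull.pullMod g' N 0) (CohPull.pullMod g' (GGc U N) 0)
    (CohPull.pullMod g' (cokernel (ηc U N)) 0)
    (D.G0 N hN B X' g' hsq) (hQ0 B X' g' hsq)
    (fun z => pullMod_HHlin g' (SS U N).f 0 z) (fun c => pullMod_HHlin g' (SS U N).g 0 c)
  · rw [LinearMap.baseChange_eq_ltensor]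
    exact h1
  · intro w hw
    rw [LinearMap.baseChange_eq_ltensor] at hw
    obtain ⟨v, hv⟩ := h2 w hw
    exact ⟨v, by rw [LinearMap.baseChange_eq_ltensor]; exact hv⟩

include D in
theorem allBC_QQ_zero (N : X.Modules) (hN : 𝒦 N) (h1 : AllVan A N (0 + 1))
    (h2 : AllVan A (cokernel (ηc U N)) (0 + 1)) :
    AllBC A (cokernel (ηc U (cokernel (ηc U N)))) 0 := by
  haveI := D.qc N hN
  have hN' := D.Q N hN
  haveI := D.qc _ hN'
  intro B _ _ X' _ g' hsq
  have hS := SS_shortExact U D.hcov N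
  have hS' := D.S' N hN X' g'
  have hT := SS_shortExact U D.hcov (cokernel (ηc U N))
  have hT' := D.S' _ hN' X' g'
  have s1 : Function.Surjective (Canon.HHlin A (SS U N).g 0) :=
    HHlin_g_surjective_of A (SS U N) hS 0 h1.1
  have s1' : Function.Surjective
      (Canon.HHlin B ((SS U N).map (Scheme.Modules.pullback g')).g 0) :=
    HHlin_g_surjective_of B _ hS' 0 (h1.2 B X' g' hsq)
  have s2 : Function.Surjective (Canon.HHlin A (SS U (cokernel (ηc U N))).g 0) :=
    HHlin_g_surjective_of A _ hT 0 h2.1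
  have s2' : Function.Surjective
      (Canon.HHlin B ((SS U (cokernel (ηc U N))).map (Scheme.Modules.pullback g')).g 0) :=
    HHlin_g_surjective_of B _ hT' 0 (h2.2 B X' g' hsq)
  refine isBC_coker_given
    ((Canon.HHlin A (SS U (cokernel (ηc U N))).f 0) ∘ₗ (Canon.HHlin A (SS U N).g 0))
    (Canon.HHlin A (SS U (cokernel (ηc U N))).g 0)
    ((Canon.HHlin B ((SS U (cokernel (ηc U N))).map (Scheme.Modules.pullback g')).f 0) ∘ₗ
      (Canon.HHlin B ((SS U N).map (Scheme.Modules.pullback g')).g 0))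
    (Canon.HHlin B ((SS U (cokernel (ηc U N))).map (Scheme.Modules.pullback g')).g 0)
    ?_ s2 ?_ s2'
    (CohPull.pullMod g' (GGc U N) 0) (CohPull.pullMod g' (GGc U (cokernel (ηc U N))) 0)
    (CohPull.pullMod g' (cokernel (ηc U (cokernel (ηc U N)))) 0)
    (D.G0 N hN B X' g' hsq) (D.G0 _ hN' B X' g' hsq) ?_ ?_
  · rw [LinearMap.range_comp, LinearMap.range_eq_top.mpr s1, Submodule.map_top]
    exact range_HHlin_f A _ hT 0
  · rw [LinearMap.range_comp, LinearMap.range_eq_top.mpr s1', Submodule.map_top]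
    exact range_HHlin_f B _ hT' 0
  · intro x
    exact (pullMod_HHlin (A := A) (B := B) g' (SS U (cokernel (ηc U N))).f 0
      (Canon.HHlin A (SS U N).g 0 x)).trans
      (congrArg (Canon.HHlin B
        ((SS U (cokernel (ηc U N))).map (Scheme.Modules.pullback g')).f 0)
        (pullMod_HHlin (A := A) (B := B) g' (SS U N).g 0 x))
  · intro x
    exact pullMod_HHlin g' (SS U (cokernel (ηc U N))).g 0 x

include D in
theorem flat_Q_zero (N : X.Modules) (hN : 𝒦 N) (h0 : AllBC A N 0) (h1 : AllVan A N (0 + 1)) :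
    Module.Flat A (Coh.HH X (cokernel (ηc U N)) 0) := by
  haveI := D.qc N hN
  haveI := D.Gflat N hN
  have hS := SS_shortExact U D.hcov N
  refine flat_of_quot (Canon.HHlin A (SS U N).f 0) (Canon.HHlin A (SS U N).g 0) ?_
    (fun z => HHlin_g_f A (SS U N) hS 0 z) (HHlin_g_surjective_of A (SS U N) hS 0 h1.1) ?_
  · intro c hc
    have : c ∈ LinearMap.range (Canon.HHlin A (SS U N).f 0) := by
      rw [range_HHlin_f A (SS U N) hS 0]
      exact hc
    exact this
  · intro I z hz
    let X' : Scheme.{u} := pullback (X ↘ Spec (CommRingCat.of A))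
      (Spec.map (CommRingCat.ofHom (algebraMap A (A ⧸ I))))
    letI : X'.Over (Spec (CommRingCat.of (A ⧸ I))) := ⟨pullback.snd _ _⟩
    let g' : X' ⟶ X := pullback.fst _ _
    have hsq : IsPullback g' (X' ↘ Spec (CommRingCat.of (A ⧸ I)))
        (X ↘ Spec (CommRingCat.of A))
        (Spec.map (CommRingCat.ofHom (algebraMap A (A ⧸ I)))) :=
      IsPullback.of_hasPullback _ _
    have hS' := D.S' N hN X' g'
    have b0 := h0 (A ⧸ I) X' g' hsq
    have bG := D.G0 N hN (A ⧸ I) X' g' hsq
    have e1 : CohPull.pullMod g' (GGc U N) 0 (Canon.HHlin A (SS U N).f 0 z) = 0 :=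
      isBC_quot_smul_top I bG _ hz
    have e1' : Canon.HHlin (A ⧸ I) ((SS U N).map (Scheme.Modules.pullback g')).f 0
        (CohPull.pullMod g' N 0 z) = 0 :=
      (pullMod_HHlin g' (SS U N).f 0 z).symm.trans e1
    have e2 : CohPull.pullMod g' N 0 z = 0 :=
      injective_HHlin_f_zero (A ⧸ I) _ hS' (e1'.trans (map_zero _).symm)
    exact isBC_quot_mem I b0 z e2

include D in
theorem flat_succ_Q (N : X.Modules) (hN : 𝒦 N) (p : ℕ)
    (h : Module.Flat A (Coh.HH X N (p + 1 + 1))) :
    Module.Flat A (Coh.HH X (cokernel (ηc U N)) (p + 1)) := by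
  haveI := D.qc N hN
  haveI := h
  have hS := SS_shortExact U D.hcov N
  exact Module.Flat.of_linearEquiv (LinearEquiv.ofBijective (δlin A (SS U N) hS (p + 1))
    ⟨δlin_injective_of A (SS U N) hS (p + 1) (subsingleton_HH_GGc U D.hA D.hU N p),
      δlin_surjective_of A (SS U N) hS (p + 1) (subsingleton_HH_GGc U D.hA D.hU N (p + 1))⟩)

include D in
theorem tplus_descend (N : X.Modules) (hN : 𝒦 N) (hH : Module.Flat A (Coh.HH X N (0 + 1)))
    (h : TPlus A (cokernel (ηc U N))) : TPlus A N := by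
  obtain ⟨h0, hfl⟩ := allBC_zero_and_flat D N hN hH (h.1 0) h.2
  refine ⟨fun p => ?_, hfl⟩
  match p with
  | 0 => exact h0
  | 1 => exact allBC_one D N hN (h.1 0)
  | (p + 2) => exact allBC_succ_succ D N hN p (h.1 (p + 1))

include D in
theorem tplus_base (N : X.Modules) (hN : 𝒦 N) (hv : ∀ p, AllVan A N (p + 1)) :
    TPlus A (cokernel (ηc U (cokernel (ηc U (cokernel (ηc U N)))))) := by
  have hN1 := D.Q N hN
  have hN2 := D.Q _ hN1
  have hv1 : ∀ p, AllVan A (cokernel (ηc U N)) (p + 1) := fun p =>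
    allVan_Q D N hN p (hv (p + 1))
  have hv2 : ∀ p, AllVan A (cokernel (ηc U (cokernel (ηc U N)))) (p + 1) := fun p =>
    allVan_Q D _ hN1 p (hv1 (p + 1))
  have hv3 : ∀ p, AllVan A (cokernel (ηc U (cokernel (ηc U (cokernel (ηc U N)))))) (p + 1) :=
    fun p => allVan_Q D _ hN2 p (hv2 (p + 1))
  have b2 : AllBC A (cokernel (ηc U (cokernel (ηc U N)))) 0 :=
    allBC_QQ_zero D N hN (hv 0) (hv1 0)
  have b3 : AllBC A (cokernel (ηc U (cokernel (ηc U (cokernel (ηc U N)))))) 0 :=
    allBC_QQ_zero D _ hN1 (hv1 0) (hv2 0)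
  have f3 : Module.Flat A (Coh.HH X (cokernel (ηc U (cokernel (ηc U (cokernel (ηc U N)))))) 0) :=
    flat_Q_zero D _ hN2 b2 (hv2 0)
  refine ⟨fun p => ?_, f3⟩
  cases p with
  | zero => exact b3
  | succ p =>
    intro B _ _ X' _ g' hsq
    haveI := (hv3 p).1
    haveI := (hv3 p).2 B X' g' hsq
    exact IsBC.of_subsingleton _

include D in
theorem tplus_main : ∀ (d : ℕ) (N : X.Modules), 𝒦 N →
    (∀ p, Module.Flat A (Coh.HH X N (p + 1))) →
    (∀ p, d ≤ p → AllVan A N (p + 1)) → TPlus A N := by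
  intro d
  induction d with
  | zero =>
    intro N hN hf hv
    have hN1 := D.Q N hN
    have hN2 := D.Q _ hN1
    have hf1 : ∀ p, Module.Flat A (Coh.HH X (cokernel (ηc U N)) (p + 1)) := fun p =>
      flat_succ_Q D N hN p (hf (p + 1))
    have hf2 : ∀ p, Module.Flat A
        (Coh.HH X (cokernel (ηc U (cokernel (ηc U N)))) (p + 1)) := fun p =>
      flat_succ_Q D _ hN1 p (hf1 (p + 1))
    have t3 := tplus_base D N hN (fun p => hv p (Nat.zero_le p))
    have t2 := tplus_descend D _ hN2 (hf2 0) t3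
    have t1 := tplus_descend D _ hN1 (hf1 0) t2
    exact tplus_descend D N hN (hf 0) t1
  | succ d ih =>
    intro N hN hf hv
    have hN1 := D.Q N hN
    have hf1 : ∀ p, Module.Flat A (Coh.HH X (cokernel (ηc U N)) (p + 1)) := fun p =>
      flat_succ_Q D N hN p (hf (p + 1))
    have t1 := ih _ hN1 hf1
      (fun p hp => allVan_Q D N hN p (hv (p + 1) (Nat.succ_le_succ hp)))
    exact tplus_descend D N hN (hf 0) t1

include D in
/-- **Cohomology and base change** for a module with flat cohomology, abstract form. -/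
theorem allBC_of_flat (d : ℕ) (N : X.Modules) (hN : 𝒦 N)
    (hf : ∀ p, Module.Flat A (Coh.HH X N p)) (hv : ∀ p, d ≤ p → AllVan A N (p + 1)) (p : ℕ) :
    AllBC A N p :=
  (tplus_main D d N hN (fun p => hf (p + 1)) hv).1 p

end Ind

end Groth.Agent.Lib.CBCH2
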