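import Mathlib
import Groth.Prelude
import Groth.Agent.Lib.CBCInd_helper2
import Groth.Agent.Lib.CBCGeo1_helper2
import Groth.Agent.Lib.SectCmp2_helper9
import Groth.Agent.Lib.ProjDual1_helper9

/-!
# Degree zero base change for `∐ j_* j^* N`, without flatness (helper2)
APPEND-ONLY once landed.
-/

set_option autoImplicit false
set_option backward.isDefEq.respectTransparency false
set_option linter.style.haveILetI false
set_option linter.unusedSectionVars false
universe u

open CategoryTheory CategoryTheory.Limits AlgebraicGeometry AlgebraicGeometry.Scheme.Modules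
  TopologicalSpace Opposite TensorProduct

namespace Groth.Agent.Lib.CBCH2

open Groth.Agent.Lib.FlatBCH2 Groth.Agent.Lib.FormalFnH2 Groth.Agent.Lib.FormalModPowH4
  Groth.Agent.HHVan Groth.Agent.ProjFin Groth.Agent.Lib.PullFnH2

section AppRU

variable {A B : Type u} [CommRing A] [CommRing B] [Algebra A B]
  {X X' : Scheme.{u}} [X.Over (Spec (CommRingCat.of A))] [X'.Over (Spec (CommRingCat.of B))]
  (g' : X' ⟶ X)
  (w : g' ≫ (X ↘ Spec (CommRingCat.of A)) =
    (X' ↘ Spec (CommRingCat.of B)) ≫ Spec.map (CommRingCat.ofHom (algebraMap A B)))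

include w in
theorem comm_ring :
    (Scheme.ΓSpecIso (CommRingCat.of A)).inv ≫ (X ↘ Spec (CommRingCat.of A)).appTop ≫
        g'.appTop =
      CommRingCat.ofHom (algebraMap A B) ≫
        (Scheme.ΓSpecIso (CommRingCat.of B)).inv ≫ (X' ↘ Spec (CommRingCat.of B)).appTop := by
  have h1 : (X ↘ Spec (CommRingCat.of A)).appTop ≫ g'.appTop =
      (Spec.map (CommRingCat.ofHom (algebraMap A B))).appTop ≫
        (X' ↘ Spec (CommRingCat.of B)).appTop := by
    rw [← Scheme.Hom.comp_appTop, ← Scheme.Hom.comp_appTop]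
    exact congrArg Scheme.Hom.appTop w
  have h2 : (Scheme.ΓSpecIso (CommRingCat.of A)).inv ≫
      (Spec.map (CommRingCat.ofHom (algebraMap A B))).appTop =
      CommRingCat.ofHom (algebraMap A B) ≫ (Scheme.ΓSpecIso (CommRingCat.of B)).inv :=
    (Scheme.ΓSpecIso_inv_naturality (CommRingCat.ofHom (algebraMap A B))).symm
  rw [h1, ← Category.assoc, h2, Category.assoc]

include w in
theorem appTop_toGlobal_of_comm (a : A) :
    g'.appTop.hom (Coh.toGlobal (X ↘ Spec (CommRingCat.of A)) a) =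
      Coh.toGlobal (X' ↘ Spec (CommRingCat.of B)) (algebraMap A B a) :=
  congrArg (fun φ => φ.hom a) (comm_ring g' w)

include w in
theorem app_rUHom_of_comm (V : X.Opens) (a : A) :
    (g'.app V).hom (rUHom (A := A) V a) = rUHom (A := B) (g' ⁻¹ᵁ V) (algebraMap A B a) := by
  have h1 := g'.naturality (homOfLE (le_top : V ≤ ⊤)).op
  have h2 := congrArg (fun φ => φ.hom (Coh.toGlobal (X ↘ Spec (CommRingCat.of A)) a)) h1
  refine h2.trans ?_
  show (X'.presheaf.map _).hom
    (g'.appTop.hom (Coh.toGlobal (X ↘ Spec (CommRingCat.of A)) a)) = _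
  rw [appTop_toGlobal_of_comm g' w]
  rfl

end AppRU

section Transport

variable {A B : Type*} [CommRing A] [CommRing B] [Algebra A B]

/-- transport of `IsBC` along additive equivalences compatible with the scalar actions -/
theorem isBC_transport {P Q P' Q' : Type*} [AddCommGroup P] [AddCommGroup Q] [AddCommGroup P']
    [AddCommGroup Q'] [Module A P] [Module A Q] [Module B P'] [Module B Q']
    (e₁ : Q ≃+ P) (he₁ : ∀ (a : A) (q : Q), e₁ (a • q) = a • e₁ q)
    (e₂ : P' ≃+ Q') (he₂ : ∀ (b : B) (p : P'), e₂ (b • p) = b • e₂ p)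
    {t : P →+ P'} (h : IsBC A B t) (s : Q →+ Q') (hs : ∀ q, s q = e₂ (t (e₁ q))) :
    IsBC A B s :=
  IsBC.comp_equiv h
    ({ e₁ with map_smul' := he₁ } : Q ≃ₗ[A] P) ({ e₂ with map_smul' := he₂ } : P' ≃ₗ[B] Q')
    s hs

end Transport

section Push

variable {A B : Type u} [CommRing A] [CommRing B] [Algebra A B]
  {X X' : Scheme.{u}} [X.Over (Spec (CommRingCat.of A))] [X'.Over (Spec (CommRingCat.of B))]
  (g' : X' ⟶ X)
  (hsq : IsPullback g' (X' ↘ Spec (CommRingCat.of B)) (X ↘ Spec (CommRingCat.of A))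
    (Spec.map (CommRingCat.ofHom (algebraMap A B))))
  (W : X.Opens) (hW : IsAffineOpen W) [IsAffineHom W.ι] (N : X.Modules) [N.IsQuasicoherent]

/-- an open subscheme of a scheme over `Spec A`, as a scheme over `Spec A` -/
@[reducible] noncomputable def overOpen (W : X.Opens) :
    W.toScheme.Over (Spec (CommRingCat.of A)) :=
  ⟨W.ι ≫ (X ↘ Spec (CommRingCat.of A))⟩

theorem ι_comm (W : X.Opens) :
    letI := overOpen (A := A) W
    W.ι ≫ (X ↘ Spec (CommRingCat.of A)) =
      (W.toScheme ↘ Spec (CommRingCat.of A)) ≫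
        Spec.map (CommRingCat.ofHom (algebraMap A A)) := by
  letI := overOpen (A := A) W
  have h : Spec.map (CommRingCat.ofHom (algebraMap A A)) = 𝟙 _ := by
    rw [Algebra.algebraMap_self]
    exact Spec.map_id _
  rw [h, Category.comp_id]
  rfl

theorem ι_app_rUHom (W : X.Opens) (V : X.Opens) (a : A) :
    letI := overOpen (A := A) W
    (W.ι.app V).hom (rUHom (A := A) (X := X) V a) =
      rUHom (A := A) (X := W.toScheme) (W.ι ⁻¹ᵁ V) a := by
  letI := overOpen (A := A) W
  exact app_rUHom_of_comm (A := A) (B := A) W.ι (ι_comm W) V a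

include hsq hW in
set_option maxHeartbeats 1000000 in
theorem isBC_cTopHom_push :
    letI := secMod A ((pushforward W.ι).obj (N.restrict W.ι)) ⊤
    letI := secMod B ((Scheme.Modules.pullback g').obj
      ((pushforward W.ι).obj (N.restrict W.ι))) ⊤
    IsBC A B (cTopHom g' ((pushforward W.ι).obj (N.restrict W.ι))) := by
  letI oV : W.toScheme.Over (Spec (CommRingCat.of A)) := overOpen (A := A) W
  letI oV' : (g' ⁻¹ᵁ W).toScheme.Over (Spec (CommRingCat.of B)) := overOpen (A := B) (g' ⁻¹ᵁ W)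
  have hc : IsPullback (g' ∣_ W) (g' ⁻¹ᵁ W).ι W.ι g' := isPullback_morphismRestrict g' W
  have hsqV : IsPullback (g' ∣_ W) ((g' ⁻¹ᵁ W).toScheme ↘ Spec (CommRingCat.of B))
      (W.toScheme ↘ Spec (CommRingCat.of A))
      (Spec.map (CommRingCat.ofHom (algebraMap A B))) := hc.paste_vert hsq
  haveI : IsAffine W.toScheme := hW
  haveI : IsIso (AffBCH8.bc hc (N.restrict W.ι)) := AffBCH8.bc_isIso hc _
  -- base change on the affine scheme `W`
  letI m1 := secMod A (N.restrict W.ι) ⊤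
  letI n1 := secMod B ((Scheme.Modules.pullback (g' ∣_ W)).obj (N.restrict W.ι)) ⊤
  letI n1A := secModA A B ((Scheme.Modules.pullback (g' ∣_ W)).obj (N.restrict W.ι)) ⊤
  haveI t1 := secTower A B ((Scheme.Modules.pullback (g' ∣_ W)).obj (N.restrict W.ι)) ⊤
  let c : Γ(N.restrict W.ι, ⊤) →ₗ[A]
      Γ((Scheme.Modules.pullback (g' ∣_ W)).obj (N.restrict W.ι), ⊤) :=
    { toFun := fun x => PBH8.cUV (g' ∣_ W) (N.restrict W.ι) (topLe (g' ∣_ W)) x
      map_add' := fun x y => PBH8.cUV_add (g' ∣_ W) (N.restrict W.ι) _ x y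
      map_smul' := fun a x => by
        show PBH8.cUV (g' ∣_ W) (N.restrict W.ι) (topLe (g' ∣_ W))
            (rUHom (A := A) (X := W.toScheme) ⊤ a • x) =
          rUHom (A := B) (X := (g' ⁻¹ᵁ W).toScheme) ⊤ (algebraMap A B a) •
            PBH8.cUV (g' ∣_ W) (N.restrict W.ι) (topLe (g' ∣_ W)) x
        rw [PBH8.cUV_smul]
        congr 1
        exact appLE_rUHom (g' ∣_ W) hsqV ⊤ a }
  have hbc : IsBaseChange B c :=
    isBaseChange_cUV_affine hsqV (N.restrict W.ι) (isAffineOpen_top _) c (fun m => rfl)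
  have h1 : IsBC A B (cTopHom (g' ∣_ W) (N.restrict W.ι)) :=
    IsBC.of_isBaseChange c hbc _ (fun x => rfl)
  -- transport
  letI mP := secMod A ((pushforward W.ι).obj (N.restrict W.ι)) ⊤
  letI mP' := secMod B ((Scheme.Modules.pullback g').obj
    ((pushforward W.ι).obj (N.restrict W.ι))) ⊤
  let e₁ : Γ((pushforward W.ι).obj (N.restrict W.ι), ⊤) ≃+ Γ(N.restrict W.ι, ⊤) :=
    AddEquiv.refl _
  let e₂ : Γ((Scheme.Modules.pullback (g' ∣_ W)).obj (N.restrict W.ι), ⊤) ≃+
      Γ((Scheme.Modules.pullback g').obj ((pushforward W.ι).obj (N.restrict W.ι)), ⊤) :=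
    { toFun := fun t => (inv (AffBCH8.bc hc (N.restrict W.ι))).app ⊤ t
      invFun := fun s => (AffBCH8.bc hc (N.restrict W.ι)).app ⊤ s
      left_inv := fun t =>
        Groth.Agent.Lib.SectCmp2.app_inv_app (AffBCH8.bc hc (N.restrict W.ι)) ⊤ t
      right_inv := fun s =>
        Groth.Agent.Lib.SectCmp2.inv_app_app (AffBCH8.bc hc (N.restrict W.ι)) ⊤ s
      map_add' := fun x y => map_add _ x y }
  refine isBC_transport e₁ ?_ e₂ ?_ h1 _ ?_
  · intro a q
    show (show Γ(W.toScheme, ⊤) from (W.ι.app ⊤).hom (rUHom (A := A) (X := X) ⊤ a)) •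
        (show Γ(N.restrict W.ι, ⊤) from q) =
      rUHom (A := A) (X := W.toScheme) ⊤ a • (show Γ(N.restrict W.ι, ⊤) from q)
    rw [ι_app_rUHom W ⊤ a]
    rfl
  · intro b p
    show (inv (AffBCH8.bc hc (N.restrict W.ι))).app ⊤
        (rUHom (A := B) (X := (g' ⁻¹ᵁ W).toScheme) ⊤ b • p) =
      rUHom (A := B) (X := X') ⊤ b • (inv (AffBCH8.bc hc (N.restrict W.ι))).app ⊤ p
    rw [← Scheme.Modules.Hom.app_smul]
    congr 1
    show rUHom (A := B) (X := (g' ⁻¹ᵁ W).toScheme) ⊤ b • p =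
      (show Γ((g' ⁻¹ᵁ W).toScheme, ⊤) from
        ((g' ⁻¹ᵁ W).ι.app ⊤).hom (rUHom (A := B) (X := X') ⊤ b)) • p
    rw [ι_app_rUHom (g' ⁻¹ᵁ W) ⊤ b]
    rfl
  · intro q
    have hk := AffBCH8.bc_cUV hc (N.restrict W.ι) (W := ⊤) (W' := ⊤)
      (le_top : (⊤ : X'.Opens) ≤ g' ⁻¹ᵁ ⊤) q (topLe (g' ∣_ W))
    show PBH8.cUV g' ((pushforward W.ι).obj (N.restrict W.ι)) (topLe g') q =
      (inv (AffBCH8.bc hc (N.restrict W.ι))).app ⊤
        (PBH8.cUV (g' ∣_ W) (N.restrict W.ι) (topLe (g' ∣_ W)) q)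
    rw [← hk]
    exact (Groth.Agent.Lib.SectCmp2.inv_app_app _ ⊤ _).symm

include hsq hW in
theorem isBC_t0_push :
    IsBC A B (t0 g' ((pushforward W.ι).obj (N.restrict W.ι))) := by
  letI m1 := secMod A ((pushforward W.ι).obj (N.restrict W.ι)) ⊤
  letI n1 := secMod B ((Scheme.Modules.pullback g').obj
    ((pushforward W.ι).obj (N.restrict W.ι))) ⊤
  have h1 := isBC_cTopHom_push g' hsq W hW N
  exact IsBC.comp_equiv h1 (h0Equiv A _) (h0Equiv B _).symm (t0 g' _) (fun q => rfl)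

theorem pullMod_zero_eq_t0 (M : X.Modules) (x : Coh.HH X M 0) :
    CohPull.pullMod g' M 0 x = t0 g' M x := by
  rw [t0_apply]
  exact (h0Add ((Scheme.Modules.pullback g').obj M)).eq_symm_apply.mpr
    (equiv₀_pullMod_cUV g' M x)

include hsq hW in
theorem isBC_pullMod_zero_push :
    IsBC A B (CohPull.pullMod g' ((pushforward W.ι).obj (N.restrict W.ι)) 0) :=
  isBC_of_eq (isBC_t0_push g' hsq W hW N) (fun x => pullMod_zero_eq_t0 g' _ x)

end Push

section Total

variable (A : Type u) [CommRing A] {X : Scheme.{u}} [X.Over (Spec (CommRingCat.of A))]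

theorem HHlin_total {ι : Type*} [Fintype ι] (Z : X.Modules) (G : ι → X.Modules)
    (p : ∀ i, Z ⟶ G i) (q : ∀ i, G i ⟶ Z) (hpq : ∑ i, p i ≫ q i = 𝟙 Z) (n : ℕ)
    (x : Coh.HH X Z n) :
    ∑ i, Canon.HHlin A (q i) n (Canon.HHlin A (p i) n x) = x := by
  have h1 : x = ∑ i, hmap (p i ≫ q i) n x := by
    rw [← Groth.Agent.ProjDual.hmap_sum, hpq, hmap_id]
  refine Eq.trans ?_ h1.symm
  refine Finset.sum_congr rfl (fun i _ => ?_)
  show hmap (q i) n (hmap (p i) n x) = hmap (p i ≫ q i) n x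
  rw [hmap_comp]

end Total

section GG

variable {A : Type u} [CommRing A] {X : Scheme.{u}} [X.Over (Spec (CommRingCat.of A))]
  {ι : Type u} [Fintype ι] [DecidableEq ι] (U : ι → X.Opens)

/-- **the canonical map on `H^0` of `∐ j_* j^* N` is a base change map, for every base change** -/
theorem allBC_GGc_zero (hA : ∀ i, IsAffineOpen (U i)) (hU : ∀ i, IsAffineHom (U i).ι)
    (N : X.Modules) [N.IsQuasicoherent] : AllBC A (GGc U N) 0 := by
  intro B _ _ X' _ g' hsq
  refine isBC_of_total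
    (fun i => Canon.HHlin A (Sigma.π (fun i => Gi U N i) i) 0)
    (fun i => Canon.HHlin A (Sigma.ι (fun i => Gi U N i) i) 0)
    (fun x => HHlin_total A (GGc U N) (fun i => Gi U N i) _ _ (sigma_total _) 0 x)
    (fun i => Canon.HHlin B
      ((Scheme.Modules.pullback g').map (Sigma.π (fun i => Gi U N i) i)) 0)
    (fun i => Canon.HHlin B
      ((Scheme.Modules.pullback g').map (Sigma.ι (fun i => Gi U N i) i)) 0)
    (fun y => HHlin_total B _ (fun i => (Scheme.Modules.pullback g').obj (Gi U N i)) _ _ ?_ 0 y)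
    (CohPull.pullMod g' (GGc U N) 0) (fun i => CohPull.pullMod g' (Gi U N i) 0)
    (fun i => ?_)
    (fun i x => (pullMod_HHlin g' (Sigma.π (fun i => Gi U N i) i) 0 x))
    (fun i x => (pullMod_HHlin g' (Sigma.ι (fun i => Gi U N i) i) 0 x))
  · simp_rw [← Functor.map_comp]
    rw [← Functor.map_sum, sigma_total]
    exact CategoryTheory.Functor.map_id _ _
  · haveI := hU i
    exact isBC_pullMod_zero_push g' hsq (U i) (hA i) N

end GG

end Groth.Agent.Lib.CBCH2
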