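import Mathlib
import Groth.Prelude
import Groth.Agent.Lib.CBCGeo2_helper2
import Groth.Agent.Lib.BCMain1_helper2

/-!
# Cohomology and base change with flat cohomology: flatness of the sections of the acyclic
# embedding, and the theorem for separated quasi-compact schemes over an affine base (helper2)
APPEND-ONLY once landed.
-/

set_option autoImplicit false
set_option backward.isDefEq.respectTransparency false
set_option linter.style.haveILetI false
set_option linter.unusedSectionVars false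
universe u

open CategoryTheory CategoryTheory.Limits AlgebraicGeometry AlgebraicGeometry.Scheme.Modules
  TopologicalSpace Opposite TensorProduct

namespace Groth.Agent.Lib.CBCH2

open Groth.Agent.Lib.FlatBCH2 Groth.Agent.Lib.FormalFnH2 Groth.Agent.Lib.FormalModPowH4
  Groth.Agent.HHVan Groth.Agent.ProjFin Groth.Agent.Lib.PullFnH2 Groth.Agent.Lib.BCSecH2

section Flat

variable (A : Type u) [CommRing A] {X : Scheme.{u}} [X.Over (Spec (CommRingCat.of A))]
  {ι : Type u} [Fintype ι] [DecidableEq ι] (U : ι → X.Opens)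

/-- sections over affine opens inside the members of the cover are flat over `A` -/
def FlSec (N : X.Modules) : Prop :=
  ∀ (j : ι) (W : (U j).toScheme.Opens), IsAffineOpen W →
    Module.Flat A (SecA A N ((U j).ι ''ᵁ W))

theorem smul_Gi (N : X.Modules) (i : ι) (O : X.Opens) (a : A)
    (x : Γ(N, (U i).ι ''ᵁ ((U i).ι ⁻¹ᵁ O))) :
    (show Γ(N, (U i).ι ''ᵁ ((U i).ι ⁻¹ᵁ O)) from
      (rUHom (A := A) O a • (show Γ(Gi U N i, O) from x))) =
      rUHom (A := A) ((U i).ι ''ᵁ ((U i).ι ⁻¹ᵁ O)) a • x := by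
  show (((U i).ι.appIso ((U i).ι ⁻¹ᵁ O)).inv.hom (((U i).ι.app O).hom (rUHom (A := A) O a))) • x =
    rUHom (A := A) ((U i).ι ''ᵁ ((U i).ι ⁻¹ᵁ O)) a • x
  congr 1
  have h := Scheme.Hom.app_appIso_inv (U i).ι O
  have h2 := congrArg (fun φ => φ.hom (rUHom (A := A) O a)) h
  exact h2.trans (rX_rUHom A ((U i).ι.image_preimage_le O) a)

theorem flat_Gi_sections (N : X.Modules) (hN : FlSec A U N) (i : ι) (O : X.Opens)
    (hW : IsAffineOpen ((U i).ι ⁻¹ᵁ O)) : Module.Flat A (SecA A (Gi U N i) O) := by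
  haveI : Module.Flat A (SecA A N ((U i).ι ''ᵁ ((U i).ι ⁻¹ᵁ O))) := hN i _ hW
  let e : SecA A (Gi U N i) O ≃ₗ[A] SecA A N ((U i).ι ''ᵁ ((U i).ι ⁻¹ᵁ O)) :=
    { (AddEquiv.refl (SecA A N ((U i).ι ''ᵁ ((U i).ι ⁻¹ᵁ O))) :
        SecA A (Gi U N i) O ≃+ SecA A N ((U i).ι ''ᵁ ((U i).ι ⁻¹ᵁ O))) with
      map_smul' := fun a x => smul_Gi A U N i O a x }
  exact Module.Flat.of_linearEquiv e

theorem flat_GGc_sections (N : X.Modules) (hN : FlSec A U N) (O : X.Opens)
    (hW : ∀ i, IsAffineOpen ((U i).ι ⁻¹ᵁ O)) : Module.Flat A (SecA A (GGc U N) O) := by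
  refine flat_of_total (fun i => mapA A (Sigma.π (fun i => Gi U N i) i) O)
    (fun i => mapA A (Sigma.ι (fun i => Gi U N i) i) O) (fun x => ?_)
    (fun i => flat_Gi_sections A U N hN i O (hW i))
  exact (Groth.Agent.Lib.FibVanH2.sigma_decomp (fun i => Gi U N i) O x).symm

theorem flSec_GGc (hU : ∀ i, IsAffineHom (U i).ι) (N : X.Modules) (hN : FlSec A U N) :
    FlSec A U (GGc U N) := by
  intro j W hW
  refine flat_GGc_sections A U N hN _ (fun i => ?_)
  haveI := hU i
  exact (hW.image_of_isOpenImmersion (U j).ι).preimage (U i).ι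

theorem flat_HH_GGc_zero (hA : ∀ i, IsAffineOpen (U i)) (N : X.Modules) (hN : FlSec A U N) :
    Module.Flat A (Coh.HH X (GGc U N) 0) := by
  haveI : Module.Flat A (SecA A (GGc U N) ⊤) := by
    refine flat_GGc_sections A U N hN ⊤ (fun i => ?_)
    haveI : IsAffine (U i).toScheme := hA i
    exact isAffineOpen_top _
  letI := secMod A (GGc U N) ⊤
  have e : Coh.HH X (GGc U N) 0 ≃ₗ[A] SecA A (GGc U N) ⊤ := h0Equiv A (GGc U N)
  exact Module.Flat.of_linearEquiv e

theorem smul_restrict (M : X.Modules) (j : ι) (W : (U j).toScheme.Opens) (a : A)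
    (x : Γ(M, (U j).ι ''ᵁ W)) :
    rUHom (A := A) ((U j).ι ''ᵁ W) a • x =
      (show Γ(M, (U j).ι ''ᵁ W) from
        (((U j).ι.appIso W).hom.hom (rUHom (A := A) ((U j).ι ''ᵁ W) a)) •
          (show Γ(M.restrict (U j).ι, W) from x)) := by
  show rUHom (A := A) ((U j).ι ''ᵁ W) a • x =
    (((U j).ι.appIso W).inv.hom
      (((U j).ι.appIso W).hom.hom (rUHom (A := A) ((U j).ι ''ᵁ W) a))) • x
  congr 1
  have h : ((U j).ι.appIso W).hom ≫ ((U j).ι.appIso W).inv = 𝟙 _ := Iso.hom_inv_id _
  exact (congrArg (fun φ => φ.hom (rUHom (A := A) ((U j).ι ''ᵁ W) a)) h).symm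

/-- sections over an open of `U j` of a morphism of modules on `U j`, `A`-linearly -/
noncomputable def appRes {M M' : X.Modules} (j : ι) (φ : M.restrict (U j).ι ⟶ M'.restrict (U j).ι)
    (W : (U j).toScheme.Opens) :
    SecA A M ((U j).ι ''ᵁ W) →ₗ[A] SecA A M' ((U j).ι ''ᵁ W) where
  toFun x := (φ.app W).hom (show Γ(M.restrict (U j).ι, W) from x)
  map_add' x y := map_add (φ.app W).hom _ _
  map_smul' a x := by
    show (φ.app W).hom (show Γ(M.restrict (U j).ι, W) from
        (rUHom (A := A) ((U j).ι ''ᵁ W) a • (show Γ(M, (U j).ι ''ᵁ W) from x))) =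
      (show Γ(M'.restrict (U j).ι, W) from (rUHom (A := A) ((U j).ι ''ᵁ W) a •
        (show Γ(M', (U j).ι ''ᵁ W) from
          (φ.app W).hom (show Γ(M.restrict (U j).ι, W) from x))))
    rw [smul_restrict A U M j W a x, smul_restrict A U M' j W a]
    exact Scheme.Modules.Hom.app_smul φ _ _

theorem appRes_apply {M M' : X.Modules} (j : ι)
    (φ : M.restrict (U j).ι ⟶ M'.restrict (U j).ι) (W : (U j).toScheme.Opens)
    (x : SecA A M ((U j).ι ''ᵁ W)) :
    appRes A U j φ W x = (φ.app W).hom (show Γ(M.restrict (U j).ι, W) from x) := rfl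

end Flat

section Section

variable {X : Scheme.{u}} {ι : Type u} [Fintype ι] [DecidableEq ι] (U : ι → X.Opens)

/-- the restriction to `U k` of the cokernel projection is a cokernel -/
noncomputable def isColimitRestrictCokernel (N : X.Modules) (k : ι) :
    IsColimit (CokernelCofork.map
      (CokernelCofork.ofπ (cokernel.π (ηc U N)) (cokernel.condition (ηc U N)))
      (restrictFunctor (U k).ι)) :=
  CokernelCofork.mapIsColimit _ (cokernelIsCokernel (ηc U N)) (restrictFunctor (U k).ι)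

theorem η_idem (N : X.Modules) (k : ι) :
    (restrictFunctor (U k).ι).map (ηc U N) ≫
      (𝟙 _ - ρk U N k ≫ (restrictFunctor (U k).ι).map (ηc U N)) = 0 := by
  rw [Preadditive.comp_sub, Category.comp_id, ← Category.assoc, η_ρk, Category.id_comp, sub_self]

/-- the section of the cokernel projection over `U k` -/
noncomputable def σk (N : X.Modules) (k : ι) :
    (cokernel (ηc U N)).restrict (U k).ι ⟶ (GGc U N).restrict (U k).ι :=
  (isColimitRestrictCokernel U N k).desc (CokernelCofork.ofπ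
    (𝟙 _ - ρk U N k ≫ (restrictFunctor (U k).ι).map (ηc U N)) (η_idem U N k))

theorem π_σk (N : X.Modules) (k : ι) :
    (restrictFunctor (U k).ι).map (cokernel.π (ηc U N)) ≫ σk U N k =
      𝟙 _ - ρk U N k ≫ (restrictFunctor (U k).ι).map (ηc U N) :=
  Cofork.IsColimit.π_desc (isColimitRestrictCokernel U N k)

theorem σk_π (N : X.Modules) (k : ι) :
    σk U N k ≫ (restrictFunctor (U k).ι).map (cokernel.π (ηc U N)) = 𝟙 _ := by
  haveI : Epi ((restrictFunctor (U k).ι).map (cokernel.π (ηc U N))) := inferInstance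
  rw [← cancel_epi ((restrictFunctor (U k).ι).map (cokernel.π (ηc U N))), ← Category.assoc,
    π_σk, Preadditive.sub_comp, Category.id_comp, Category.comp_id, Category.assoc,
    ← Functor.map_comp, cokernel.condition, Functor.map_zero, comp_zero, sub_zero]

end Section

section Data

variable (A : Type u) [CommRing A] {X : Scheme.{u}} [X.Over (Spec (CommRingCat.of A))]
  {ι : Type u} [Fintype ι] [DecidableEq ι] (U : ι → X.Opens)

theorem flSec_Q (hU : ∀ i, IsAffineHom (U i).ι) (N : X.Modules) (hN : FlSec A U N) :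
    FlSec A U (cokernel (ηc U N)) := by
  intro j W hW
  haveI : Module.Flat A (SecA A (GGc U N) ((U j).ι ''ᵁ W)) := flSec_GGc A U hU N hN j W hW
  refine Module.Flat.of_retract (appRes A U j (σk U N j) W)
    (appRes A U j ((restrictFunctor (U j).ι).map (cokernel.π (ηc U N))) W) ?_
  ext x
  rw [LinearMap.comp_apply, appRes_apply, appRes_apply, LinearMap.id_apply]
  have h := σk_π U N j
  exact congrArg (fun φ => (φ.app W).hom (show Γ((cokernel (ηc U N)).restrict (U j).ι, W) from x)) h

/-- **the data for the induction** -/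
theorem gdata (hcov : ⨆ i, U i = ⊤) (hA : ∀ i, IsAffineOpen (U i))
    (hU : ∀ i, IsAffineHom (U i).ι) :
    GData A U (fun N => N.IsQuasicoherent ∧ FlSec A U N) where
  hcov := hcov
  hA := hA
  hU := hU
  qc := fun N h => h.1
  Q := fun N h => ⟨haveI := h.1; isQuasicoherent_Q U hU N, flSec_Q A U hU N h.2⟩
  S' := fun N _ X' g' => SS_pullback_shortExact g' U hcov N
  G0 := fun N h => haveI := h.1; allBC_GGc_zero U hA hU N
  Gflat := fun N h => flat_HH_GGc_zero A U hA N h.2

/-- cohomology and base change for a cover -/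
theorem allBC_of_cover (hcov : ⨆ i, U i = ⊤) (hA : ∀ i, IsAffineOpen (U i))
    (hU : ∀ i, IsAffineHom (U i).ι) (d : ℕ) (N : X.Modules) [N.IsQuasicoherent]
    (hfl : FlSec A U N) (hf : ∀ p, Module.Flat A (Coh.HH X N p))
    (hv : ∀ p, d ≤ p → AllVan A N (p + 1)) (p : ℕ) : AllBC A N p :=
  allBC_of_flat (gdata A U hcov hA hU) d N ⟨inferInstance, hfl⟩ hf hv p

end Data

section Sep

variable (A : Type u) [CommRing A] {X : Scheme.{u}} [X.Over (Spec (CommRingCat.of A))]
  [CompactSpace X] [IsSeparated (X ↘ Spec (CommRingCat.of A))]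

/-- **Cohomology and base change** (canonical form): `X` quasi-compact and separated over
`Spec A`, `N` quasi-coherent with `A`-flat sections over affine opens and `A`-flat cohomology
modules.  Then for every base change `X' = X ×_A B` the canonical maps
`H^p(X, N) → H^p(X', g'^* N)` are base change maps. -/
theorem allBC_of_separated (N : X.Modules) [N.IsQuasicoherent]
    (hfl : ∀ W : X.Opens, IsAffineOpen W → Module.Flat A (SecA A N W))
    (hf : ∀ p, Module.Flat A (Coh.HH X N p)) (p : ℕ) : AllBC A N p := by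
  classical
  obtain ⟨t, U', hU', hcov'⟩ := Groth.Agent.Lib.BCMainH2.exists_affine_cover X
  have hd : ∀ V W : X.Opens, IsAffineOpen V → IsAffineOpen W → IsAffineOpen (V ⊓ W) :=
    Groth.Agent.Lib.BCMainH2.inf_affine_of_separated (X ↘ Spec (CommRingCat.of A))
  let 𝒰 : ULift.{u} (Fin t) → X.Opens := fun i => U' i.down
  have hcov : ⨆ i, 𝒰 i = ⊤ := by
    rw [eq_top_iff, ← hcov']
    exact iSup_le fun i => le_iSup 𝒰 ⟨i⟩
  have hA : ∀ i, IsAffineOpen (𝒰 i) := fun i => hU' i.down
  have hU : ∀ i, IsAffineHom (𝒰 i).ι := by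
    intro i
    haveI : IsAffine ((𝒰 i : X.Opens) : Scheme.{u}) := hA i
    haveI : IsAffineHom ((𝒰 i).ι ≫ (X ↘ Spec (CommRingCat.of A))) := inferInstance
    exact IsAffineHom.of_comp (f := (𝒰 i).ι) (g := X ↘ Spec (CommRingCat.of A))
  have hfl' : FlSec A 𝒰 N := fun j W hW => hfl _ (hW.image_of_isOpenImmersion (𝒰 j).ι)
  refine allBC_of_cover A 𝒰 hcov hA hU t N hfl' hf (fun q hq => ⟨?_, ?_⟩) p
  · exact AffVanish.HH_subsingleton_of_cover X t U' hU' hcov' hd N (q + 1) (by omega)
  · intro B _ _ X' _ g' hsq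
    haveI := isAffineHom_of_hsq g' hsq
    haveI : IsSeparated (X' ↘ Spec (CommRingCat.of B)) :=
      MorphismProperty.of_isPullback (P := @IsSeparated) hsq inferInstance
    haveI : ((Scheme.Modules.pullback g').obj N).IsQuasicoherent :=
      PBH8.isQuasicoherent_pullback g' N
    have hd' : ∀ V W : X'.Opens, IsAffineOpen V → IsAffineOpen W → IsAffineOpen (V ⊓ W) :=
      Groth.Agent.Lib.BCMainH2.inf_affine_of_separated (X' ↘ Spec (CommRingCat.of B))
    refine AffVanish.HH_subsingleton_of_cover X' t (fun i => g' ⁻¹ᵁ (U' i))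
      (fun i => (hU' i).preimage g') ?_ hd' _ (q + 1) (by omega)
    rw [eq_top_iff]
    intro x _
    have hx : g' x ∈ ⨆ i, U' i := by rw [hcov']; trivial
    obtain ⟨i, hi⟩ := Opens.mem_iSup.mp hx
    exact Opens.mem_iSup.mpr ⟨i, hi⟩

end Sep

end Groth.Agent.Lib.CBCH2
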