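import Mathlib
import Groth.Prelude.Def_CohCmp
import Groth.Agent.Lib.SectCmp3_helper2
import Groth.Agent.Lib.RpushQC3_helper9

/-!
# The comparison `H^q(f⁻¹V, F) → Γ(V, R^q f_* F)` is bijective over affine opens (helper2)

Port of helper9's `SectCmp2.bijective_top` from the whole (affine) base to an arbitrary open `V`
of the base over which all higher direct images are acyclic.
APPEND-ONLY once landed.
-/

set_option autoImplicit false
set_option backward.isDefEq.respectTransparency false
set_option linter.style.haveILetI false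
set_option linter.unusedSectionVars false
universe u

namespace Groth.Agent.Lib.SectCmp4H2

open CategoryTheory CategoryTheory.Limits AlgebraicGeometry AlgebraicGeometry.Scheme.Modules
  TopologicalSpace Opposite
open Groth.Agent.Lib.SectCmp1 Groth.Agent.Lib.SectCmp2

variable {X Y : Scheme.{u}}

section Restrict

variable (V : Y.Opens)

theorem exact_restrict (S : ShortComplex Y.Modules) (hS : S.Exact) :
    (S.map (restrictFunctor V.ι)).Exact := by
  haveI hl1 : PreservesFiniteLimits (restrictFunctor V.ι) :=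
    RpushQC.preservesFiniteLimits_restrictFunctor (U := V)
  haveI hc1 : PreservesFiniteColimits (restrictFunctor V.ι) := inferInstance
  exact hS.map (restrictFunctor V.ι)

theorem mono_restrict {A B : Y.Modules} (a : A ⟶ B) [Mono a] :
    Mono ((restrictFunctor V.ι).map a) := by
  haveI hl1 : PreservesFiniteLimits (restrictFunctor V.ι) :=
    RpushQC.preservesFiniteLimits_restrictFunctor (U := V)
  infer_instance

theorem transport_top {P : Y.Opens → Prop} (h : P (V.ι ''ᵁ ⊤)) : P V :=
  V.ι_image_top ▸ h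

end Restrict

section FourTerm

variable (V : Y.Opens) {A B C D : Y.Modules} (a : A ⟶ B) (b : B ⟶ C) (d : C ⟶ D)
  (hab : a ≫ b = 0) (hbd : b ≫ d = 0)

include hab in
theorem restrict_zero₁ :
    (restrictFunctor V.ι).map a ≫ (restrictFunctor V.ι).map b = 0 := by
  rw [← Functor.map_comp, hab, Functor.map_zero]

variable [Mono a] [Epi d] (h1 : (ShortComplex.mk a b hab).Exact)
  (h2 : (ShortComplex.mk b d hbd).Exact)

include h1 h2 in
theorem HH_C_subsingleton_on (p : ℕ)
    (hB : Subsingleton (Coh.HHon Y B V (p + 1))) (hA : Subsingleton (Coh.HHon Y A V (p + 2)))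
    (hD : Subsingleton (Coh.HHon Y D V (p + 1))) :
    Subsingleton (Coh.HHon Y C V (p + 1)) := by
  haveI := mono_restrict V a
  haveI : Epi ((restrictFunctor V.ι).map d) := inferInstance
  exact HH_C_subsingleton ((restrictFunctor V.ι).map a) ((restrictFunctor V.ι).map b)
    ((restrictFunctor V.ι).map d) (restrict_zero₁ V a b hab) (restrict_zero₁ V b d hbd)
    (exact_restrict V _ h1) (exact_restrict V _ h2) p hB hA hD

include h1 h2 in
theorem surj_d_on (hB : Subsingleton (Coh.HHon Y B V 1)) (hA : Subsingleton (Coh.HHon Y A V 2))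
    (t : Γ(D, V)) : ∃ c : Γ(C, V), d.app V c = t := by
  haveI := mono_restrict V a
  haveI : Epi ((restrictFunctor V.ι).map d) := inferInstance
  have key : ∀ t : Γ(D, V.ι ''ᵁ ⊤), ∃ c : Γ(C, V.ι ''ᵁ ⊤), d.app (V.ι ''ᵁ ⊤) c = t := fun t =>
    surj_d ((restrictFunctor V.ι).map a) ((restrictFunctor V.ι).map b)
      ((restrictFunctor V.ι).map d) (restrict_zero₁ V a b hab) (restrict_zero₁ V b d hbd)
      (exact_restrict V _ h1) (exact_restrict V _ h2) hB hA t
  exact transport_top V (P := fun O => ∀ t : Γ(D, O), ∃ c : Γ(C, O), d.app O c = t) key t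

include h1 h2 in
theorem exists_of_d_eq_zero_on (hA : Subsingleton (Coh.HHon Y A V 1))
    (c : Γ(C, V)) (hc : d.app V c = 0) : ∃ b' : Γ(B, V), b.app V b' = c := by
  haveI := mono_restrict V a
  haveI : Epi ((restrictFunctor V.ι).map d) := inferInstance
  have key : ∀ c : Γ(C, V.ι ''ᵁ ⊤), d.app (V.ι ''ᵁ ⊤) c = 0 →
      ∃ b' : Γ(B, V.ι ''ᵁ ⊤), b.app (V.ι ''ᵁ ⊤) b' = c := fun c hc =>
    exists_of_d_eq_zero ((restrictFunctor V.ι).map a) ((restrictFunctor V.ι).map b)
      ((restrictFunctor V.ι).map d) (restrict_zero₁ V a b hab) (restrict_zero₁ V b d hbd)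
      (exact_restrict V _ h1) (exact_restrict V _ h2) hA c hc
  exact transport_top V
    (P := fun O => ∀ c : Γ(C, O), d.app O c = 0 → ∃ b' : Γ(B, O), b.app O b' = c) key c hc

end FourTerm

section Main

variable (f : X ⟶ Y) [HasInjectiveResolutions X.Modules] (V : Y.Opens)

/-- all higher direct images of `F` are acyclic on `V` -/
def GoodOn (F : X.Modules) : Prop :=
  ∀ j p : ℕ, Subsingleton (Coh.HHon Y ((Coh.Rpush f j).obj F) V (p + 1))

theorem goodOn_of_isQuasicoherent [QuasiCompact f] [QuasiSeparated f] (hV : IsAffineOpen V)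
    (F : X.Modules) [F.IsQuasicoherent] : GoodOn f V F := by
  intro j p
  haveI := RpushQC.isQuasicoherent_Rpush f F j
  haveI : IsAffine V.toScheme := hV
  exact AffVanish.HH_subsingleton_of_isAffine V.toScheme _ p

/-- the direct image of an injective module restricted to an open is flasque -/
theorem isFlasque_restrict_push (I : X.Modules) [Injective I] :
    TopCat.Sheaf.IsFlasque (X := (V : Scheme.{u}).carrier)
      (Coh.toAb (((pushforward f).obj I).restrict V.ι)) := by
  have hI : Injective (C := SheafOfModules X.ringCatSheaf) I := ‹Injective I›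
  constructor
  intro W W' i
  rw [AddCommGrpCat.epi_iff_surjective]
  have hle : W'.unop ≤ W.unop := leOfHom i.unop
  have hle' : f ⁻¹ᵁ (V.ι ''ᵁ W'.unop) ≤ f ⁻¹ᵁ (V.ι ''ᵁ W.unop) :=
    f.preimage_mono (V.ι.image_mono hle)
  have h := @Groth.Agent.Lib.ModFree.surjective_map_of_mono _ _ _ X.ringCatSheaf I hI
    (f ⁻¹ᵁ (V.ι ''ᵁ W.unop)) (f ⁻¹ᵁ (V.ι ''ᵁ W'.unop)) (homOfLE hle') inferInstance
  exact h

theorem HHon_R0_injective_subsingleton (I : X.Modules) [Injective I] (p : ℕ) :
    Subsingleton (Coh.HHon Y ((Coh.Rpush f 0).obj I) V (p + 1)) := by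
  haveI : IsIso ((pushforward f).toRightDerivedZero.app I) := inferInstance
  haveI := isFlasque_restrict_push f V I
  have h0 := Groth.Agent.Lib.FlasqueAcyclic.H_eq_zero_of_isFlasque
    (X := (V : Scheme.{u}).carrier) (Coh.toAb (((pushforward f).obj I).restrict V.ι)) p
  have h1 : Subsingleton (Coh.HHon Y ((pushforward f).obj I) V (p + 1)) :=
    ⟨fun a b => (h0 a).trans (h0 b).symm⟩
  exact Groth.Agent.HHVan.subsingleton_of_iso
    ((restrictFunctor V.ι).mapIso (asIso ((pushforward f).toRightDerivedZero.app I))) (p + 1) h1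

variable (Δ : RDer.DerivedLES (pushforward f))

include Δ in
theorem goodOn_sesInj_X₃ (F : X.Modules) (hF : GoodOn f V F) : GoodOn f V (sesInj F).X₃ := by
  intro j p
  cases j with
  | zero =>
    haveI := mono_R0_map f (sesInj F).f
    haveI := epi_δ f (Δ := Δ) F 0
    exact HH_C_subsingleton_on V ((Coh.Rpush f 0).map (sesInj F).f)
      ((Coh.Rpush f 0).map (sesInj F).g)
      (Δ.δ (sesInj F) (sesInj_shortExact F) 0 1 rfl) (R0_zero f F)
      (Δ.comp_δ (sesInj F) (sesInj_shortExact F) 0 1 rfl)
      (Δ.exact₂ (sesInj F) (sesInj_shortExact F) 0)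
      (Δ.exact₃ (sesInj F) (sesInj_shortExact F) 0 1 rfl) p
      (HHon_R0_injective_subsingleton f V (sesInj F).X₂ p) (hF 0 (p + 1)) (hF 1 p)
  | succ j =>
    haveI := isIso_δ_succ f Δ F j
    exact Groth.Agent.HHVan.subsingleton_of_iso
      ((restrictFunctor V.ι).mapIso
        (asIso (Δ.δ (sesInj F) (sesInj_shortExact F) (j + 1) (j + 2) rfl)).symm) (p + 1)
      (hF (j + 2) p)

variable {Δ}

/-- **The comparison map over `V` is bijective on modules all of whose higher direct images are
acyclic on `V`.** -/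
theorem bijective_on (E : CohCmp.SectCmp f Δ) :
    ∀ (q : ℕ) (F : X.Modules), GoodOn f V F → Function.Bijective (E.ε V F q) := by
  intro q
  induction q with
  | zero =>
    intro F _
    exact bijective_zero f E V F
  | succ q ih =>
    intro F hF
    have hQ := goodOn_sesInj_X₃ f V Δ F hF
    have hS := sesInj_shortExact F
    have hA := shortExact_toAbOn (f ⁻¹ᵁ V) (sesInj F) hS
    have K1 : ∀ x : Coh.HHon X (sesInj F).X₁ (f ⁻¹ᵁ V) (q + 1),
        ∃ y, CohCmp.extδ hA q y = x :=
      fun x => exists_extδ (f ⁻¹ᵁ V) (sesInj F) hS q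
        (HHon_eq_zero_of_injective (sesInj F).X₂ _ q) x
    have K23 : (∀ t : Γ((Coh.Rpush f (q + 1)).obj (sesInj F).X₁, V),
          ∃ c : Γ((Coh.Rpush f q).obj (sesInj F).X₃, V),
            (Δ.δ (sesInj F) hS q (q + 1) rfl).app V c = t) ∧
        (∀ y : Coh.HHon X (sesInj F).X₃ (f ⁻¹ᵁ V) q,
          (Δ.δ (sesInj F) hS q (q + 1) rfl).app V (E.ε V (sesInj F).X₃ q y) = 0 →
            CohCmp.extδ hA q y = 0) := by
      cases q with
      | zero =>
        haveI := mono_R0_map f (sesInj F).f
        haveI := epi_δ f (Δ := Δ) F 0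
        constructor
        · intro t
          exact surj_d_on V ((Coh.Rpush f 0).map (sesInj F).f)
            ((Coh.Rpush f 0).map (sesInj F).g)
            (Δ.δ (sesInj F) hS 0 1 rfl) (R0_zero f F)
            (Δ.comp_δ (sesInj F) hS 0 1 rfl) (Δ.exact₂ (sesInj F) hS 0)
            (Δ.exact₃ (sesInj F) hS 0 1 rfl)
            (HHon_R0_injective_subsingleton f V (sesInj F).X₂ 0) (hF 0 1) t
        · intro y hy
          obtain ⟨b', hb'⟩ := exists_of_d_eq_zero_on V ((Coh.Rpush f 0).map (sesInj F).f)
            ((Coh.Rpush f 0).map (sesInj F).g)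
            (Δ.δ (sesInj F) hS 0 1 rfl) (R0_zero f F)
            (Δ.comp_δ (sesInj F) hS 0 1 rfl) (Δ.exact₂ (sesInj F) hS 0)
            (Δ.exact₃ (sesInj F) hS 0 1 rfl) (hF 0 0) (E.ε V (sesInj F).X₃ 0 y) hy
          obtain ⟨z, hz⟩ := (bijective_zero f E V (sesInj F).X₂).2 b'
          have hn := E.natural V (sesInj F).g 0 z
          rw [hz] at hn
          have hyz : CohPull.mapH ((restrictFunctor (f ⁻¹ᵁ V).ι).map (sesInj F).g) 0 z = y :=
            (bijective_zero f E V (sesInj F).X₃).1 (hn.trans hb')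
          rw [← hyz]
          exact extδ_mapH (f ⁻¹ᵁ V) (sesInj F) hS 0 z
      | succ q' =>
        haveI := isIso_δ_succ f Δ F q'
        constructor
        · intro t
          exact ⟨(inv (Δ.δ (sesInj F) hS (q' + 1) (q' + 2) rfl)).app V t, app_inv_app _ _ _⟩
        · intro y hy
          have h := congrArg ((inv (Δ.δ (sesInj F) hS (q' + 1) (q' + 2) rfl)).app V) hy
          rw [inv_app_app, map_zero] at h
          have hy0 : y = 0 := (ih (sesInj F).X₃ hQ).1 (h.trans (map_zero _).symm)
          rw [hy0]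
          exact map_zero (CohCmp.extδ hA (q' + 1))
    obtain ⟨K2, K3⟩ := K23
    constructor
    · rw [injective_iff_map_eq_zero]
      intro x hx
      obtain ⟨y, rfl⟩ := K1 x
      rw [E.delta V (sesInj F) hS hA q y] at hx
      exact K3 y hx
    · intro t
      obtain ⟨c, hc⟩ := K2 t
      obtain ⟨y, hy⟩ := (ih (sesInj F).X₃ hQ).2 c
      refine ⟨CohCmp.extδ hA q y, ?_⟩
      rw [E.delta V (sesInj F) hS hA q y, hy, hc]

/-- the comparison maps are bijective over affine opens of the base, for quasi-coherent modules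
and quasi-compact quasi-separated morphisms -/
theorem bijective_of_isAffineOpen [QuasiCompact f] [QuasiSeparated f] (hV : IsAffineOpen V)
    (E : CohCmp.SectCmp f Δ) (F : X.Modules) [F.IsQuasicoherent] (q : ℕ) :
    Function.Bijective (E.ε V F q) :=
  bijective_on f V E q F (goodOn_of_isQuasicoherent f V hV F)

end Main

end Groth.Agent.Lib.SectCmp4H2
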