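import Mathlib
import Groth.Prelude.Def_CohCmp
import Groth.Agent.Lib.SectCmp4_helper2
import Groth.Agent.Lib.LerayNat_helper9
import Groth.Agent.Lib.PullFn3_helper2

/-!
# The comparison `H^q(f⁻¹V, F) → Γ(V, R^q f_* F)` is linear over `Γ(Y, V)` (helper2)
APPEND-ONLY once landed.
-/

set_option autoImplicit false
set_option backward.isDefEq.respectTransparency false
set_option linter.style.haveILetI false
set_option linter.unusedSectionVars false
universe u

namespace Groth.Agent.Lib.SectCmp5H2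

open CategoryTheory CategoryTheory.Limits AlgebraicGeometry AlgebraicGeometry.Scheme.Modules
  TopologicalSpace Opposite
open Groth.Agent.Lib.SectCmp1 Groth.Agent.Lib.SectCmp2

variable {X Y : Scheme.{u}}

/-- the ring isomorphism `Γ(X, U) → Γ(U, ⊤)`, landing in `Coh.Γtop` -/
noncomputable def topOf (U : X.Opens) : Γ(X, U) →+* Coh.Γtop (U : Scheme.{u}) :=
  U.topIso.inv.hom

/-- multiplication by a function on `U`, as an endomorphism of the restricted short complex of
abelian sheaves -/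
noncomputable def smulSCOn (S : ShortComplex X.Modules) (U : X.Opens)
    (r : Coh.Γtop (U : Scheme.{u})) :
    S.map (CohCmp.toAbOn X U) ⟶ S.map (CohCmp.toAbOn X U) where
  τ₁ := Coh.smulAb (S.X₁.restrict U.ι) r
  τ₂ := Coh.smulAb (S.X₂.restrict U.ι) r
  τ₃ := Coh.smulAb (S.X₃.restrict U.ι) r
  comm₁₂ := (Canon.toSheaf_map_comp_smulAb ((restrictFunctor U.ι).map S.f) r).symm
  comm₂₃ := (Canon.toSheaf_map_comp_smulAb ((restrictFunctor U.ι).map S.g) r).symm

/-- the connecting homomorphisms over `U` commute with multiplication by functions on `U` -/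
theorem extδ_smul (S : ShortComplex X.Modules) (U : X.Opens) (r : Coh.Γtop (U : Scheme.{u}))
    (hA : (S.map (CohCmp.toAbOn X U)).ShortExact) (p : ℕ) (z : Coh.HHon X S.X₃ U p) :
    CohCmp.extδ hA p (Sheaf.H.map (Coh.smulAb (S.X₃.restrict U.ι) r) p z) =
      Sheaf.H.map (Coh.smulAb (S.X₁.restrict U.ι) r) (p + 1) (CohCmp.extδ hA p z) :=
  Groth.Agent.LerayNat.comp_comp_extClass hA (smulSCOn S U r) _ rfl

/-- classes of sections and multiplication by functions -/
theorem sectH0_smul (F : X.Modules) (U : X.Opens) (c : Γ(X, U)) (s : Γ(F, U)) :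
    Sheaf.H.map (Coh.smulAb (F.restrict U.ι) (topOf U c)) 0 (CohPull.sectH0 F U s) =
      CohPull.sectH0 F U (c • s) := by
  apply (Sheaf.H.equiv₀ (Coh.toAb (F.restrict U.ι))
    (isTerminalTop : IsTerminal (⊤ : U.toScheme.Opens))).injective
  rw [Groth.Agent.Lib.PullFnH2.equiv₀_sectH0]
  have h1 := (Sheaf.H.equiv₀_naturality (hT := (isTerminalTop : IsTerminal (⊤ : U.toScheme.Opens)))
    (Coh.smulAb (F.restrict U.ι) (topOf U c)) (CohPull.sectH0 F U s)).symm
  refine h1.trans ?_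
  rw [Groth.Agent.Lib.PullFnH2.equiv₀_sectH0]
  have h2 := Scheme.Modules.map_smul F (eqToHom U.ι_image_top) c s
  refine Eq.trans ?_ h2.symm
  refine (Coh.smulAb_app (F.restrict U.ι) (topOf U c) (op ⊤) _).trans ?_
  have h3 : Coh.resTop (U : Scheme.{u}) (op ⊤) (topOf U c) =
      (X.presheaf.map (eqToHom U.ι_image_top).op).hom c := by
    show ((U : Scheme.{u}).ringCatSheaf.obj.map
      (homOfLE (le_top : (⊤ : (U : Scheme.{u}).Opens) ≤ ⊤)).op).hom (topOf U c) = _
    have h4 : (homOfLE (le_top : (⊤ : (U : Scheme.{u}).Opens) ≤ ⊤)).op = 𝟙 _ := rfl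
    rw [h4, CategoryTheory.Functor.map_id]
    rfl
  rw [h3]
  show ((U.ι.appIso ⊤).inv.hom ((X.presheaf.map (eqToHom U.ι_image_top).op).hom c)) •
      (show Γ(F, U.ι ''ᵁ ⊤) from (F.presheaf.map (eqToHom U.ι_image_top).op).hom s) = _
  rw [Scheme.Opens.ι_appIso]
  rfl

variable (f : X ⟶ Y) [HasInjectiveResolutions X.Modules] {Δ : RDer.DerivedLES (pushforward f)}
  (E : CohCmp.SectCmp f Δ)

/-- **the comparison maps are linear over the functions on the base** -/
theorem ε_smul (V : Y.Opens) (c : Γ(Y, V)) : ∀ (p : ℕ) (F : X.Modules)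
    (x : Coh.HHon X F (f ⁻¹ᵁ V) p),
    E.ε V F p (Sheaf.H.map (Coh.smulAb (F.restrict (f ⁻¹ᵁ V).ι)
        (topOf (f ⁻¹ᵁ V) ((f.app V).hom c))) p x) = c • E.ε V F p x := by
  intro p
  induction p with
  | zero =>
    intro F x
    obtain ⟨s, rfl⟩ := (CohPull.sectH0 F (f ⁻¹ᵁ V)).surjective x
    rw [sectH0_smul, E.zero, E.zero]
    exact Scheme.Modules.Hom.app_smul ((pushforward f).toRightDerivedZero.app F) c s
  | succ p ih =>
    intro F x
    have hS := sesInj_shortExact F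
    have hA := shortExact_toAbOn (f ⁻¹ᵁ V) (sesInj F) hS
    obtain ⟨z, rfl⟩ := exists_extδ (f ⁻¹ᵁ V) (sesInj F) hS p
      (HHon_eq_zero_of_injective (sesInj F).X₂ (f ⁻¹ᵁ V) p) x
    have h0 := extδ_smul (sesInj F) (f ⁻¹ᵁ V) (topOf (f ⁻¹ᵁ V) ((f.app V).hom c)) hA p z
    have h1 := E.delta V (sesInj F) hS hA p
      (Sheaf.H.map (Coh.smulAb ((sesInj F).X₃.restrict (f ⁻¹ᵁ V).ι)
        (topOf (f ⁻¹ᵁ V) ((f.app V).hom c))) p z)
    have h2 := E.delta V (sesInj F) hS hA p z
    have h3 := Scheme.Modules.Hom.app_smul (Δ.δ (sesInj F) hS p (p + 1) rfl) c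
      (E.ε V (sesInj F).X₃ p z)
    refine (congrArg (E.ε V (sesInj F).X₁ (p + 1)) h0.symm).trans ?_
    refine h1.trans ?_
    rw [ih]
    refine h3.trans ?_
    exact congrArg (fun t => c • t) h2.symm

end Groth.Agent.Lib.SectCmp5H2
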