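import Mathlib
import Groth.Prelude
import Groth.Agent.Lib.CBCGeo3_helper2
import Groth.Agent.Lib.SectCmp5_helper2
import Groth.Agent.Lib.FlatSec_helper8

/-!
# Open subschemes over affine opens of the base: module structures, flatness, pullback squares
(helper2).  APPEND-ONLY once landed.
-/

set_option autoImplicit false
set_option backward.isDefEq.respectTransparency false
set_option linter.style.haveILetI false
set_option linter.unusedSectionVars false
universe u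

open CategoryTheory CategoryTheory.Limits AlgebraicGeometry AlgebraicGeometry.Scheme.Modules
  TopologicalSpace Opposite TensorProduct

namespace Groth.Agent.Lib.CBCH2

open Groth.Agent.Lib.FlatBCH2 Groth.Agent.Lib.FormalFnH2 Groth.Agent.Lib.FormalModPowH4
  Groth.Agent.HHVan Groth.Agent.ProjFin Groth.Agent.Lib.PullFnH2 Groth.Agent.Lib.BCSecH2
  Groth.Agent.Lib.SectCmp5H2

section OverRes

variable {X S : Scheme.{u}} (h : X ⟶ S) (T : S.Opens) (U : X.Opens) (e : U ≤ h ⁻¹ᵁ T)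

/-- an open `U ⊆ h⁻¹ T` as a scheme over `Spec Γ(S, T)` -/
@[reducible] noncomputable def overRes :
    (U : Scheme.{u}).Over (Spec (CommRingCat.of Γ(S, T))) :=
  ⟨h.resLE T U e ≫ T.toSpecΓ⟩

theorem toGlobal_overRes (a : Γ(S, T)) :
    letI := overRes h T U e
    Coh.toGlobal ((U : Scheme.{u}) ↘ Spec (CommRingCat.of Γ(S, T))) a =
      topOf U ((h.appLE T U e).hom a) := by
  letI := overRes h T U e
  have key : (Scheme.ΓSpecIso Γ(S, T)).inv ≫ (h.resLE T U e ≫ T.toSpecΓ).appTop =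
      h.appLE T U e ≫ U.topIso.inv := by
    rw [Scheme.Hom.comp_appTop, Scheme.Opens.toSpecΓ_appTop]
    have h1 : (h.resLE T U e).appTop = T.topIso.hom ≫ h.appLE T U e ≫ U.topIso.inv :=
      Scheme.Hom.resLE_app_top h e
    rw [h1]
    simp only [Category.assoc, Iso.inv_hom_id_assoc]
  exact congrArg (fun φ => φ.hom a) key

theorem rUHom_overRes (W : (U : Scheme.{u}).Opens) (a : Γ(S, T)) :
    letI := overRes h T U e
    rUHom (A := Γ(S, T)) (X := (U : Scheme.{u})) W a =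
      (h.appLE T (U.ι ''ᵁ W) ((U.ι_image_le W).trans e)).hom a := by
  letI := overRes h T U e
  show Coh.resTop (U : Scheme.{u}) (op W)
    (Coh.toGlobal ((U : Scheme.{u}) ↘ Spec (CommRingCat.of Γ(S, T))) a) = _
  rw [toGlobal_overRes]
  have h1 : ∀ c : Γ(X, U), Coh.resTop (U : Scheme.{u}) (op W) (topOf U c) =
      (X.presheaf.map (homOfLE (U.ι_image_le W)).op).hom c := by
    intro c
    show (X.presheaf.map _).hom ((X.presheaf.map _).hom c) = _
    rw [← CommRingCat.comp_apply, ← Functor.map_comp]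
    rfl
  rw [h1]
  exact congrArg (fun φ => φ.hom a) (Scheme.Hom.appLE_map h e (homOfLE (U.ι_image_le W)).op)

theorem smul_HH_overRes (M : (U : Scheme.{u}).Modules) (p : ℕ) (a : Γ(S, T))
    (x : Coh.HH (U : Scheme.{u}) M p) :
    letI := overRes h T U e
    a • x = Sheaf.H.map (Coh.smulAb M (topOf U ((h.appLE T U e).hom a))) p x := by
  letI := overRes h T U e
  show Sheaf.H.map (Coh.smulAb M
    (Coh.toGlobal ((U : Scheme.{u}) ↘ Spec (CommRingCat.of Γ(S, T))) a)) p x = _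
  rw [toGlobal_overRes]

end OverRes

section Lin

variable {X Y S : Scheme.{u}} (f : X ⟶ Y) (b : Y ⟶ S) (T : S.Opens) (V : Y.Opens)
  (hVT : V ≤ b ⁻¹ᵁ T)

include hVT in
theorem pre_le : f ⁻¹ᵁ V ≤ (f ≫ b) ⁻¹ᵁ T := by
  rw [Scheme.Hom.comp_preimage]
  exact f.preimage_mono hVT

variable [HasInjectiveResolutions X.Modules] {Δ : RDer.DerivedLES (pushforward f)}
  (E : CohCmp.SectCmp f Δ)

/-- the comparison maps are linear over the sections of the base -/
theorem ε_linear (F : X.Modules) (p : ℕ) (a : Γ(S, T)) (x : Coh.HHon X F (f ⁻¹ᵁ V) p) :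
    letI := overRes (f ≫ b) T (f ⁻¹ᵁ V) (pre_le f b T V hVT)
    E.ε V F p (a • x) = (b.appLE T V hVT).hom a • E.ε V F p x := by
  letI := overRes (f ≫ b) T (f ⁻¹ᵁ V) (pre_le f b T V hVT)
  rw [smul_HH_overRes (f ≫ b) T (f ⁻¹ᵁ V) (pre_le f b T V hVT)]
  have h1 : ((f ≫ b).appLE T (f ⁻¹ᵁ V) (pre_le f b T V hVT)).hom a =
      (f.app V).hom ((b.appLE T V hVT).hom a) := by
    have h2 : b.appLE T V hVT ≫ f.appLE V (f ⁻¹ᵁ V) le_rfl =
        (f ≫ b).appLE T (f ⁻¹ᵁ V) (pre_le f b T V hVT) :=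
      Scheme.Hom.appLE_comp_appLE f b T V (f ⁻¹ᵁ V) hVT le_rfl
    rw [Scheme.Hom.appLE_eq_app] at h2
    exact (congrArg (fun φ => φ.hom a) h2).symm
  rw [h1]
  exact ε_smul f E V ((b.appLE T V hVT).hom a) p F x

end Lin

section Square

variable {X S X' S' : Scheme.{u}} {h : X ⟶ S} {g : S' ⟶ S} {gX : X' ⟶ X} {h' : X' ⟶ S'}
  (H : IsPullback gX h' h g) {T : S.Opens} {T' : S'.Opens} {U : X.Opens} {U' : X'.Opens}

include H in
/-- the base change square of open subschemes over affine opens of the bases -/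
theorem isPullback_overRes (hT : IsAffineOpen T) (hT' : IsAffineOpen T') (hT'T : T' ≤ g ⁻¹ᵁ T)
    (e : U ≤ h ⁻¹ᵁ T) (hU' : U' = gX ⁻¹ᵁ U ⊓ h' ⁻¹ᵁ T') (e1 : U' ≤ gX ⁻¹ᵁ U)
    (e2 : U' ≤ h' ⁻¹ᵁ T') :
    letI := overRes h T U e
    letI := overRes h' T' U' e2
    letI : Algebra Γ(S, T) Γ(S', T') := (g.appLE T T' hT'T).hom.toAlgebra
    IsPullback (gX.resLE U U' e1) ((U' : Scheme.{u}) ↘ Spec (CommRingCat.of Γ(S', T')))
      ((U : Scheme.{u}) ↘ Spec (CommRingCat.of Γ(S, T)))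
      (Spec.map (CommRingCat.ofHom (algebraMap Γ(S, T) Γ(S', T')))) := by
  letI := overRes h T U e
  letI := overRes h' T' U' e2
  letI : Algebra Γ(S, T) Γ(S', T') := (g.appLE T T' hT'T).hom.toAlgebra
  have h0 := Scheme.Hom.isPullback_resLE H hT'T e hU'
  refine h0.of_iso (Iso.refl _) (Iso.refl _) hT'.isoSpec hT.isoSpec ?_ ?_ ?_ ?_
  · rw [Iso.refl_hom, Iso.refl_hom, Category.comp_id, Category.id_comp]
  · rw [Iso.refl_hom, Category.id_comp]
    rfl
  · rw [Iso.refl_hom, Category.id_comp]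
    rfl
  · exact (Scheme.Opens.toSpecΓ_SpecMap_appLE g T T' hT'T).symm

end Square

section Flat

variable {X S : Scheme.{u}} (h : X ⟶ S) (T : S.Opens) (hT : IsAffineOpen T)

include hT in
/-- sections over affine opens of a quasi-coherent module flat over the base are flat over the
sections of the base -/
theorem flat_sections_base (R : X.Modules) [R.IsQuasicoherent] (hR : FlatMod.IsFlatOver h R)
    (V : X.Opens) (hV : IsAffineOpen V) (hVT : V ≤ h ⁻¹ᵁ T) :
    @Module.Flat Γ(S, T) Γ(R, V) _ _ (Module.compHom Γ(R, V) (h.appLE T V hVT).hom) :=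
  FlatSecH8.flat_sections_of_flat_stalks h R hV hVT (fun x hx =>
    (FlatSecH8.isFlatOverAt_iff_flat_stalk h R hT hVT hx).mp (hR x))

include hT in
theorem flat_sections_overRes (U : X.Opens) (e : U ≤ h ⁻¹ᵁ T) (F : X.Modules)
    [F.IsQuasicoherent] (hF : FlatMod.IsFlatOver h F) (W : (U : Scheme.{u}).Opens)
    (hW : IsAffineOpen W) :
    letI := overRes h T U e
    Module.Flat Γ(S, T) (SecA Γ(S, T) (F.restrict U.ι) W) := by
  letI := overRes h T U e
  have hW' : IsAffineOpen (U.ι ''ᵁ W) := hW.image_of_isOpenImmersion U.ι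
  have e₁ : U.ι ''ᵁ W ≤ h ⁻¹ᵁ T := (U.ι_image_le W).trans e
  letI m1 : Module Γ(S, T) Γ(F, U.ι ''ᵁ W) :=
    Module.compHom Γ(F, U.ι ''ᵁ W) (h.appLE T (U.ι ''ᵁ W) e₁).hom
  haveI hfl : Module.Flat Γ(S, T) Γ(F, U.ι ''ᵁ W) :=
    flat_sections_base h T hT F hF (U.ι ''ᵁ W) hW' e₁
  let ee : SecA Γ(S, T) (F.restrict U.ι) W ≃ₗ[Γ(S, T)] Γ(F, U.ι ''ᵁ W) :=
    { (AddEquiv.refl Γ(F, U.ι ''ᵁ W) : SecA Γ(S, T) (F.restrict U.ι) W ≃+ Γ(F, U.ι ''ᵁ W)) with
      map_smul' := fun a x => by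
        show (show Γ(F, U.ι ''ᵁ W) from
          (rUHom (A := Γ(S, T)) (X := (U : Scheme.{u})) W a •
            (show Γ(F.restrict U.ι, W) from x))) =
          (h.appLE T (U.ι ''ᵁ W) e₁).hom a • (show Γ(F, U.ι ''ᵁ W) from x)
        rw [rUHom_overRes h T U e W a]
        show ((U.ι.appIso W).inv.hom ((h.appLE T (U.ι ''ᵁ W) e₁).hom a)) •
          (show Γ(F, U.ι ''ᵁ W) from x) = _
        rw [Scheme.Opens.ι_appIso]
        rfl }
  exact Module.Flat.of_linearEquiv ee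

end Flat

end Groth.Agent.Lib.CBCH2
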