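import Mathlib
set_option autoImplicit false
open TensorProduct
namespace QBCH8

section Alg
variable {R : Type*} [CommRing R] (R' : Type*) [CommRing R'] [Algebra R R'] [Module.Flat R R']
  {I J : Type*} [Finite I] [Finite J] (s t : J → I)
  {M₁ N₁ : Type*} {M₂ N₂ : I → Type*} {M₃ N₃ : J → Type*}
  [AddCommGroup M₁] [AddCommGroup N₁] [∀ i, AddCommGroup (M₂ i)] [∀ i, AddCommGroup (N₂ i)]
  [∀ j, AddCommGroup (M₃ j)] [∀ j, AddCommGroup (N₃ j)]
  [Module R M₁] [Module R N₁] [Module R' N₁] [IsScalarTower R R' N₁]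
  [∀ i, Module R (M₂ i)] [∀ i, Module R (N₂ i)] [∀ i, Module R' (N₂ i)]
  [∀ i, IsScalarTower R R' (N₂ i)]
  [∀ j, Module R (M₃ j)] [∀ j, Module R (N₃ j)] [∀ j, Module R' (N₃ j)]
  [∀ j, IsScalarTower R R' (N₃ j)]

/-- Flat base change commutes with the "sheaf condition" equaliser of a finite cover. -/
theorem isBaseChange_of_cover
    (h₁ : M₁ →ₗ[R] N₁) (h₂ : ∀ i, M₂ i →ₗ[R] N₂ i) (h₃ : ∀ j, M₃ j →ₗ[R] N₃ j)
    (ρ : ∀ i, M₁ →ₗ[R] M₂ i) (σ : ∀ j, M₂ (s j) →ₗ[R] M₃ j) (τ : ∀ j, M₂ (t j) →ₗ[R] M₃ j)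
    (ρ' : ∀ i, N₁ →ₗ[R'] N₂ i) (σ' : ∀ j, N₂ (s j) →ₗ[R'] N₃ j)
    (τ' : ∀ j, N₂ (t j) →ₗ[R'] N₃ j)
    (c₁ : ∀ i x, h₂ i (ρ i x) = ρ' i (h₁ x))
    (c₂ : ∀ j y, h₃ j (σ j y) = σ' j (h₂ _ y)) (c₃ : ∀ j y, h₃ j (τ j y) = τ' j (h₂ _ y))
    (inj : ∀ x, (∀ i, ρ i x = 0) → x = 0)
    (cmp : ∀ j x, σ j (ρ _ x) = τ j (ρ _ x))
    (ex : ∀ y : ∀ i, M₂ i, (∀ j, σ j (y (s j)) = τ j (y (t j))) → ∃ x, ∀ i, ρ i x = y i)
    (inj' : ∀ x, (∀ i, ρ' i x = 0) → x = 0)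
    (cmp' : ∀ j x, σ' j (ρ' _ x) = τ' j (ρ' _ x))
    (ex' : ∀ y : ∀ i, N₂ i, (∀ j, σ' j (y (s j)) = τ' j (y (t j))) → ∃ x, ∀ i, ρ' i x = y i)
    (b₂ : ∀ i, IsBaseChange R' (h₂ i)) (b₃ : ∀ j, IsBaseChange R' (h₃ j)) :
    IsBaseChange R' h₁ := by
  let F : M₁ →ₗ[R] (∀ i, M₂ i) := LinearMap.pi ρ
  let G : (∀ i, M₂ i) →ₗ[R] (∀ j, M₃ j) :=
    LinearMap.pi fun j => (σ j).comp (LinearMap.proj (s j)) - (τ j).comp (LinearMap.proj (t j))
  let F' : N₁ →ₗ[R'] (∀ i, N₂ i) := LinearMap.pi ρ'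
  let G' : (∀ i, N₂ i) →ₗ[R'] (∀ j, N₃ j) :=
    LinearMap.pi fun j => (σ' j).comp (LinearMap.proj (s j)) - (τ' j).comp (LinearMap.proj (t j))
  let H₂ : (∀ i, M₂ i) →ₗ[R] (∀ i, N₂ i) := LinearMap.pi fun i => h₂ i ∘ₗ LinearMap.proj i
  let H₃ : (∀ j, M₃ j) →ₗ[R] (∀ j, N₃ j) := LinearMap.pi fun j => h₃ j ∘ₗ LinearMap.proj j
  have comm₁ : H₂.comp F = (F'.restrictScalars R).comp h₁ := by
    ext x i
    exact c₁ i x
  have comm₂ : H₃.comp G = (G'.restrictScalars R).comp H₂ := by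
    ext y j
    show h₃ j (σ j (y (s j)) - τ j (y (t j))) = σ' j (h₂ _ (y (s j))) - τ' j (h₂ _ (y (t j)))
    rw [map_sub, c₂, c₃]
  have exact₁ : Function.Exact F G := by
    intro y
    constructor
    · intro hy
      have hy' : ∀ j, σ j (y (s j)) = τ j (y (t j)) := fun j =>
        sub_eq_zero.mp (congrFun hy j)
      obtain ⟨x, hx⟩ := ex y hy'
      exact ⟨x, funext hx⟩
    · rintro ⟨x, rfl⟩
      funext j
      exact sub_eq_zero.mpr (cmp j x)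
  have exact₂ : Function.Exact F' G' := by
    intro y
    constructor
    · intro hy
      have hy' : ∀ j, σ' j (y (s j)) = τ' j (y (t j)) := fun j =>
        sub_eq_zero.mp (congrFun hy j)
      obtain ⟨x, hx⟩ := ex' y hy'
      exact ⟨x, funext hx⟩
    · rintro ⟨x, rfl⟩
      funext j
      exact sub_eq_zero.mpr (cmp' j x)
  have inj₁ : Function.Injective F := by
    rw [injective_iff_map_eq_zero]
    intro x hx
    exact inj x fun i => congrFun hx i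
  have inj₂ : Function.Injective F' := by
    rw [injective_iff_map_eq_zero]
    intro x hx
    exact inj' x fun i => congrFun hx i
  exact IsBaseChange.of_left_exact R' h₁ H₂ H₃ (f := F) (g := G) (f' := F') (g' := G')
    comm₁ comm₂ (IsBaseChange.pi _ b₂) (IsBaseChange.pi _ b₃) exact₁ inj₁ exact₂ inj₂

end Alg

section Push
variable (R S A B : Type*) [CommRing R] [CommRing S] [CommRing A] [CommRing B]
  [Algebra R S] [Algebra R A] [Algebra R B] [Algebra A B] [Algebra S B]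
  [IsScalarTower R A B] [IsScalarTower R S B] [Algebra.IsPushout R S A B]
  {M N : Type*} [AddCommGroup M] [AddCommGroup N] [Module R M] [Module A M] [IsScalarTower R A M]
  [Module R N] [Module A N] [Module B N] [Module S N] [IsScalarTower A B N]
  [IsScalarTower R S N] [IsScalarTower S B N] [IsScalarTower R A N]

/-- If `B = S ⊗[R] A` and `N = B ⊗[A] M` then `N = S ⊗[R] M`. -/
theorem isBaseChange_of_isPushout (c : M →ₗ[A] N) (hc : IsBaseChange B c) :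
    IsBaseChange S (c.restrictScalars R) := by
  let e : S ⊗[R] M ≃ₗ[S] N :=
    (Algebra.IsPushout.cancelBaseChange R S A B M).symm ≪≫ₗ (hc.equiv.restrictScalars S)
  refine IsBaseChange.of_equiv e ?_
  intro m
  show hc.equiv ((Algebra.IsPushout.cancelBaseChange R S A B M).symm (1 ⊗ₜ m)) = c m
  rw [Algebra.IsPushout.cancelBaseChange_symm_tmul, map_one, hc.equiv_tmul, one_smul]

end Push

end QBCH8
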