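import Mathlib
import Groth.Agent.Lib.Tens1_helper8
import Groth.Agent.Lib.QcqsLoc_helper9
set_option autoImplicit false
open CategoryTheory AlgebraicGeometry Opposite TopologicalSpace
open QcqsLoc
universe u
namespace QBCH8

section Sheaf
variable {X : Scheme.{u}} (F : X.Modules) {I J : Type*} (s t : J → I)
  (U : I → X.Opens) (V : X.Opens) (T : J → X.Opens)
  (hle : ∀ i, U i ≤ V) (hcov : V ≤ ⨆ i, U i)
  (hTs : ∀ j, T j ≤ U (s j)) (hTt : ∀ j, T j ≤ U (t j))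
  (hTcov : ∀ i i' (x : X), x ∈ U i → x ∈ U i' → ∃ j, s j = i ∧ t j = i' ∧ x ∈ T j)

include hcov in
theorem sheaf_inj (x : Γ(F, V)) (hx : ∀ i, rF F (hle i) x = 0) : x = 0 := by
  apply eq_zero_of_cover
  intro p hp
  obtain ⟨i, hi⟩ := Opens.mem_iSup.mp (hcov hp)
  exact ⟨U i, hle i, hi, hx i⟩

theorem sheaf_cmp (j : J) (x : Γ(F, V)) :
    rF F (hTs j) (rF F (hle (s j)) x) = rF F (hTt j) (rF F (hle (t j)) x) := by
  rw [rF_rF, rF_rF]

include hcov hTcov in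
theorem sheaf_glue (y : ∀ i, Γ(F, U i))
    (hy : ∀ j, rF F (hTs j) (y (s j)) = rF F (hTt j) (y (t j))) :
    ∃ x : Γ(F, V), ∀ i, rF F (hle i) x = y i := by
  refine TensH8.glue F U V hle hcov y ?_
  intro i i'
  apply eq_of_cover
  intro p hp
  obtain ⟨j, rfl, rfl, hpj⟩ := hTcov i i' p hp.1 hp.2
  refine ⟨T j, le_inf (hTs j) (hTt j), hpj, ?_⟩
  rw [rF_rF, rF_rF]
  exact hy j

end Sheaf
end QBCH8
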