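import Mathlib
set_option autoImplicit false
open CategoryTheory AlgebraicGeometry Opposite TopologicalSpace
universe u
namespace QBCH8

theorem exists_finite_affine_cover {X : Scheme.{u}} (V : X.Opens) (hc : IsCompact (V : Set X)) :
    ∃ (S : Set X.affineOpens), S.Finite ∧ (∀ W ∈ S, (W : X.Opens) ≤ V) ∧
      ∀ x ∈ V, ∃ W ∈ S, x ∈ (W : X.Opens) := by
  obtain ⟨S, hS, hcov⟩ := isCompact_iff_finite_and_eq_biUnion_affineOpens.mp hc
  have hcov' : V = ⨆ i ∈ S, (i : X.Opens) := by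
    apply Opens.ext
    rw [hcov]
  refine ⟨S, hS, ?_, ?_⟩
  · intro W hW
    rw [hcov']
    exact le_iSup₂ (f := fun (i : X.affineOpens) (_ : i ∈ S) => (i : X.Opens)) W hW
  · intro x hx
    rw [hcov'] at hx
    simp only [Opens.mem_iSup] at hx
    obtain ⟨W, hW, hxW⟩ := hx
    exact ⟨W, hW, hxW⟩

theorem exists_cover_data {X : Scheme.{u}} (V : X.Opens) (hc : IsCompact (V : Set X))
    (hqs : IsQuasiSeparated (V : Set X)) :
    ∃ (I J : Type u) (_ : Finite I) (_ : Finite J) (s t : J → I) (U : I → X.Opens)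
      (T : J → X.Opens),
      (∀ i, IsAffineOpen (U i)) ∧ (∀ j, IsAffineOpen (T j)) ∧ (∀ i, U i ≤ V) ∧ V ≤ ⨆ i, U i ∧
      (∀ j, T j ≤ U (s j)) ∧ (∀ j, T j ≤ U (t j)) ∧
      (∀ i i' x, x ∈ U i → x ∈ U i' → ∃ j, s j = i ∧ t j = i' ∧ x ∈ T j) := by
  obtain ⟨S, hS, hSle, hScov⟩ := exists_finite_affine_cover V hc
  haveI : Finite S := hS.to_subtype
  have hcpt : ∀ p : S × S, IsCompact (((p.1.1 : X.Opens) ⊓ (p.2.1 : X.Opens) : X.Opens) : Set X) := by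
    intro p
    exact hqs ((p.1.1 : X.Opens) : Set X) ((p.2.1 : X.Opens) : Set X)
      (SetLike.coe_subset_coe.mpr (hSle _ p.1.2)) (p.1.1 : X.Opens).2 p.1.1.2.isCompact
      (SetLike.coe_subset_coe.mpr (hSle _ p.2.2)) (p.2.1 : X.Opens).2 p.2.1.2.isCompact
  choose S₂ hS₂fin hS₂le hS₂cov using fun p : S × S =>
    exists_finite_affine_cover ((p.1.1 : X.Opens) ⊓ (p.2.1 : X.Opens)) (hcpt p)
  haveI : ∀ p, Finite (S₂ p) := fun p => (hS₂fin p).to_subtype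
  refine ⟨S, Σ p : S × S, S₂ p, inferInstance, inferInstance, fun j => j.1.1, fun j => j.1.2,
    fun i => (i.1 : X.Opens), fun j => (j.2.1 : X.Opens), fun i => i.1.2, fun j => j.2.1.2,
    fun i => hSle _ i.2, ?_, ?_, ?_, ?_⟩
  · intro x hx
    obtain ⟨W, hW, hxW⟩ := hScov x hx
    exact Opens.mem_iSup.mpr ⟨⟨W, hW⟩, hxW⟩
  · intro j
    exact (hS₂le j.1 j.2.1 j.2.2).trans inf_le_left
  · intro j
    exact (hS₂le j.1 j.2.1 j.2.2).trans inf_le_right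
  · intro i i' x hx hx'
    obtain ⟨W, hW, hxW⟩ := hS₂cov (i, i') x ⟨hx, hx'⟩
    exact ⟨⟨(i, i'), ⟨W, hW⟩⟩, rfl, rfl, hxW⟩

end QBCH8
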