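import Groth.Agent.Lib.AffBC2_helper8
import Groth.Agent.Lib.QBC1_helper8
import Groth.Agent.Lib.QBC2_helper8
import Groth.Agent.Lib.QBC3_helper8
import Groth.Agent.Lib.QcqsLoc_helper9
import Groth.Agent.Lib.Tens17_helper8
import Mathlib
set_option autoImplicit false
open CategoryTheory AlgebraicGeometry Opposite TopologicalSpace TensorProduct
open AlgebraicGeometry.Scheme.Modules
universe u
namespace QBCH8

section Push'
variable (R S A B : Type*) [CommRing R] [CommRing S] [CommRing A] [CommRing B]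
  [Algebra R S] [Algebra R A] [Algebra R B] [Algebra A B] [Algebra S B]
  [IsScalarTower R A B] [IsScalarTower R S B] [Algebra.IsPushout R S A B]
  {M N : Type*} [AddCommGroup M] [AddCommGroup N] [Module R M] [Module A M] [IsScalarTower R A M]
  [Module R N] [Module A N] [Module B N] [Module S N] [IsScalarTower A B N]
  [IsScalarTower R S N] [IsScalarTower S B N]

/-- If `B = S ⊗[R] A` and `N = B ⊗[A] M` then `N = S ⊗[R] M`. -/
theorem isBaseChange_of_isPushout' (c : M →ₗ[A] N) (hc : IsBaseChange B c)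
    (c' : M →ₗ[R] N) (hcc : ∀ m, c' m = c m) :
    IsBaseChange S c' := by
  let e : S ⊗[R] M ≃ₗ[S] N :=
    (Algebra.IsPushout.cancelBaseChange R S A B M).symm ≪≫ₗ (hc.equiv.restrictScalars S)
  refine IsBaseChange.of_equiv e ?_
  intro m
  show hc.equiv ((Algebra.IsPushout.cancelBaseChange R S A B M).symm (1 ⊗ₜ m)) = c' m
  rw [Algebra.IsPushout.cancelBaseChange_symm_tmul, map_one, hc.equiv_tmul, one_smul, hcc]

end Push'

section
variable {X S X' S' : Scheme.{u}} {f : X ⟶ S} {g : S' ⟶ S} {g' : X' ⟶ X} {f' : X' ⟶ S'}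
  (hc : IsPullback g' f' f g)

include hc in
lemma appLE_comm {W : S.Opens} {W' : S'.Opens} {U : X.Opens} {U' : X'.Opens}
    (hUW : U ≤ f ⁻¹ᵁ W) (hW'W : W' ≤ g ⁻¹ᵁ W) (h1 : U' ≤ g' ⁻¹ᵁ U) (h2 : U' ≤ f' ⁻¹ᵁ W') :
    f.appLE W U hUW ≫ g'.appLE U U' h1 = g.appLE W W' hW'W ≫ f'.appLE W' U' h2 := by
  rw [Scheme.Hom.appLE_comp_appLE, Scheme.Hom.appLE_comp_appLE]
  have : ∀ (φ ψ : X' ⟶ S) (_ : φ = ψ) (h : U' ≤ φ ⁻¹ᵁ W) (h' : U' ≤ ψ ⁻¹ᵁ W),
      φ.appLE W U' h = ψ.appLE W U' h' := by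
    intro φ ψ e h h'; subst e; rfl
  exact this _ _ hc.w _ _

include hc in
lemma appLE_comm_apply {W : S.Opens} {W' : S'.Opens} {U : X.Opens} {U' : X'.Opens}
    (hUW : U ≤ f ⁻¹ᵁ W) (hW'W : W' ≤ g ⁻¹ᵁ W) (h1 : U' ≤ g' ⁻¹ᵁ U) (h2 : U' ≤ f' ⁻¹ᵁ W')
    (a : Γ(S, W)) :
    (g'.appLE U U' h1).hom ((f.appLE W U hUW).hom a) =
      (f'.appLE W' U' h2).hom ((g.appLE W W' hW'W).hom a) :=
  congrArg (fun φ => φ.hom a) (appLE_comm hc hUW hW'W h1 h2)

lemma appLE_res {W : S.Opens} {U T : X.Opens} (hUW : U ≤ f ⁻¹ᵁ W) (hTU : T ≤ U) (a : Γ(S, W)) :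
    QcqsLoc.rX hTU ((f.appLE W U hUW).hom a) = (f.appLE W T (hTU.trans hUW)).hom a :=
  congrArg (fun φ => φ.hom a) (Scheme.Hom.appLE_map f hUW (homOfLE hTU).op)


variable (M : X.Modules) [M.IsQuasicoherent]

include hc in
/-- Affine piece: for affine `U ≤ f⁻¹W`, sections of `g'^*M` over `g'⁻¹U ∩ f'⁻¹W'` are the base
change of `Γ(M, U)` along `Γ(S, W) → Γ(S', W')`. -/
theorem isBaseChange_affine {W : S.Opens} {W' : S'.Opens} (hW : IsAffineOpen W)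
    (hW' : IsAffineOpen W') (hW'W : W' ≤ g ⁻¹ᵁ W) {U : X.Opens} (hU : IsAffineOpen U)
    (hUW : U ≤ f ⁻¹ᵁ W) :
    letI := (g.appLE W W' hW'W).hom.toAlgebra
    letI : Module Γ(S, W) Γ(M, U) := Module.compHom _ (f.appLE W U hUW).hom
    letI : Module Γ(S', W') Γ((Scheme.Modules.pullback g').obj M, g' ⁻¹ᵁ U ⊓ f' ⁻¹ᵁ W') :=
      Module.compHom _ (f'.appLE W' (g' ⁻¹ᵁ U ⊓ f' ⁻¹ᵁ W') inf_le_right).hom
    letI : Module Γ(S, W) Γ((Scheme.Modules.pullback g').obj M, g' ⁻¹ᵁ U ⊓ f' ⁻¹ᵁ W') :=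
      Module.compHom _ (g.appLE W W' hW'W).hom
    haveI : IsScalarTower Γ(S, W) Γ(S', W')
        Γ((Scheme.Modules.pullback g').obj M, g' ⁻¹ᵁ U ⊓ f' ⁻¹ᵁ W') :=
      IsScalarTower.of_algebraMap_smul fun _ _ => rfl
    ∀ (c : Γ(M, U) →ₗ[Γ(S, W)] Γ((Scheme.Modules.pullback g').obj M, g' ⁻¹ᵁ U ⊓ f' ⁻¹ᵁ W')),
      (∀ m, c m = PBH8.cUV g' M inf_le_left m) → IsBaseChange Γ(S', W') c := by
  obtain ⟨hU', hpo⟩ := FlatBC2H8.affine_pushout hc hW hU hW' hUW hW'W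
  set U' : X'.Opens := g' ⁻¹ᵁ U ⊓ f' ⁻¹ᵁ W' with hU'def
  have hU'U : U' ≤ g' ⁻¹ᵁ U := inf_le_left
  have hU'W' : U' ≤ f' ⁻¹ᵁ W' := inf_le_right
  letI algAA' : Algebra Γ(S, W) Γ(S', W') := (g.appLE W W' hW'W).hom.toAlgebra
  letI algAB : Algebra Γ(S, W) Γ(X, U) := (f.appLE W U hUW).hom.toAlgebra
  letI algBB' : Algebra Γ(X, U) Γ(X', U') := (g'.appLE U U' hU'U).hom.toAlgebra
  letI algA'B' : Algebra Γ(S', W') Γ(X', U') := (f'.appLE W' U' hU'W').hom.toAlgebra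
  letI algAB' : Algebra Γ(S, W) Γ(X', U') :=
    ((g'.appLE U U' hU'U).hom.comp (f.appLE W U hUW).hom).toAlgebra
  haveI : IsScalarTower Γ(S, W) Γ(X, U) Γ(X', U') := IsScalarTower.of_algebraMap_eq' rfl
  haveI : IsScalarTower Γ(S, W) Γ(S', W') Γ(X', U') := by
    refine IsScalarTower.of_algebraMap_eq' ?_
    change (g'.appLE U U' hU'U).hom.comp (f.appLE W U hUW).hom =
      (f'.appLE W' U' hU'W').hom.comp (g.appLE W W' hW'W).hom
    rw [← CommRingCat.hom_comp, ← CommRingCat.hom_comp]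
    congr 1
    exact hpo.w
  haveI : Algebra.IsPushout Γ(S, W) Γ(S', W') Γ(X, U) Γ(X', U') := by
    apply Algebra.IsPushout.symm
    exact CommRingCat.isPushout_iff_isPushout.mp hpo
  letI mAM : Module Γ(S, W) Γ(M, U) := Module.compHom _ (f.appLE W U hUW).hom
  haveI : IsScalarTower Γ(S, W) Γ(X, U) Γ(M, U) := IsScalarTower.of_algebraMap_smul fun _ _ => rfl
  letI mA'P : Module Γ(S', W') Γ((Scheme.Modules.pullback g').obj M, U') :=
    Module.compHom _ (f'.appLE W' U' hU'W').hom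
  letI mAP : Module Γ(S, W) Γ((Scheme.Modules.pullback g').obj M, U') :=
    Module.compHom _ (g.appLE W W' hW'W).hom
  haveI : IsScalarTower Γ(S, W) Γ(S', W') Γ((Scheme.Modules.pullback g').obj M, U') :=
    IsScalarTower.of_algebraMap_smul fun _ _ => rfl
  haveI : IsScalarTower Γ(S', W') Γ(X', U') Γ((Scheme.Modules.pullback g').obj M, U') :=
    IsScalarTower.of_algebraMap_smul fun _ _ => rfl
  letI mBP : Module Γ(X, U) Γ((Scheme.Modules.pullback g').obj M, U') :=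
    Module.compHom _ (g'.appLE U U' hU'U).hom
  haveI : IsScalarTower Γ(X, U) Γ(X', U') Γ((Scheme.Modules.pullback g').obj M, U') :=
    IsScalarTower.of_algebraMap_smul fun _ _ => rfl
  have bc₂ := PBH8.isBaseChange_cUV g' M hU'U hU' hU
  intro c hcc
  exact isBaseChange_of_isPushout' Γ(S, W) Γ(S', W') Γ(X, U) Γ(X', U')
    (PBH8.cUVLin g' M hU'U) bc₂ c hcc

end
end QBCH8
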