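import Mathlib
import Groth.Prelude
import Groth.Agent.Lib.CBCAsm1_helper2
import Groth.Agent.Lib.PullFn5_helper2
import Groth.Agent.Lib.SectCmp3_helper2
import Groth.Agent.Lib.StalkFF1_helper2
import Groth.Agent.Lib.AffBC2_helper8
import Groth.Agent.Lib.QBC4_helper8
import Groth.Agent.Lib.QCohCrit2_helper9

/-!
# Restriction of pulled back classes; the base change map on canonical sections (helper2)
APPEND-ONLY once landed.
-/

set_option autoImplicit false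
set_option backward.isDefEq.respectTransparency false
set_option linter.style.haveILetI false
set_option linter.unusedSectionVars false
universe u

open CategoryTheory CategoryTheory.Limits AlgebraicGeometry AlgebraicGeometry.Scheme.Modules
  TopologicalSpace Opposite TensorProduct

namespace Groth.Agent.Lib.CBCH2

open Groth.Agent.Lib.PullFnH2

section ResPullOn

variable {X Y : Scheme.{u}} (g : X ⟶ Y)

set_option maxRecDepth 8000 in
set_option maxHeartbeats 1000000 in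
/-- restricting a pulled back class to a smaller open is pulling back to the smaller open -/
theorem resLE_pullOn (U : Y.Opens) (U₂ U₁ : X.Opens) (h₂ : U₂ ≤ g ⁻¹ᵁ U) (h₁₂ : U₁ ≤ U₂)
    (F : Y.Modules) (p : ℕ) (x : Coh.HHon Y F U p) :
    CohPull.resLE ((Scheme.Modules.pullback g).obj F) h₁₂ p (CohPull.pullOn g U U₂ h₂ F p x) =
      CohPull.pullOn g U U₁ (h₁₂.trans h₂) F p x := by
  have hid : U₁ ≤ (𝟙 X) ⁻¹ᵁ U₂ := by rwa [Scheme.Hom.id_preimage]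
  have h₁ : U₁ ≤ g ⁻¹ᵁ U := h₁₂.trans h₂
  rw [resLE_apply, pullOn_eq g U U₂ h₂, pullOn_eq (𝟙 X) U₂ U₁ hid, mapH_pullCoMod, pullCoMod_comp,
    pullOn_eq g U U₁ h₁]
  have e : Scheme.Hom.resLE (𝟙 X) U₂ U₁ hid ≫ g.resLE U U₂ h₂ = g.resLE U U₁ h₁ := by
    simp [← cancel_mono U.ι]
  refine pullCoMod_congr e _ _ ?_ p x
  intro O s
  have hle1 := image_resLE_preimage_le g U U₂ h₂ O
  have k1 := cOn_app g U U₂ h₂ F O s
  have hle2 := image_resLE_preimage_le (𝟙 X) U₂ U₁ hid ((g.resLE U U₂ h₂) ⁻¹ᵁ O)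
  have k2 := cOn_app (𝟙 X) U₂ U₁ hid ((Scheme.Modules.pullback g).obj F)
    ((g.resLE U U₂ h₂) ⁻¹ᵁ O) (PBH8.cUV g F hle1 s)
  have k3 := pullbackId_hom_cUV ((Scheme.Modules.pullback g).obj F) hle2 (PBH8.cUV g F hle1 s)
  have hle2' : U₁.ι ''ᵁ ((Scheme.Hom.resLE (𝟙 X) U₂ U₁ hid) ⁻¹ᵁ ((g.resLE U U₂ h₂) ⁻¹ᵁ O)) ≤
      U₂.ι ''ᵁ ((g.resLE U U₂ h₂) ⁻¹ᵁ O) := hle2
  have k4 := cUV_map g hle1 (homOfLE hle2') s
  have k5 := cOn_app g U U₁ h₁ F O s
  have hA : U₁.ι ''ᵁ ((Scheme.Hom.resLE (𝟙 X) U₂ U₁ hid ≫ g.resLE U U₂ h₂) ⁻¹ᵁ O) ≤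
      g ⁻¹ᵁ (U.ι ''ᵁ O) := hle2'.trans hle1
  have k6 := restrict_map_cUV g F U₁
    (eqToHom (show (g.resLE U U₁ h₁) ⁻¹ᵁ O =
      (Scheme.Hom.resLE (𝟙 X) U₂ U₁ hid ≫ g.resLE U U₂ h₂) ⁻¹ᵁ O by rw [e])) hA
    (image_resLE_preimage_le g U U₁ h₁ O) s
  refine Eq.trans ?_ k5.symm
  refine Eq.trans ?_ k6
  refine congrArg (fun z => (((Scheme.Modules.pullback g).obj F).restrict U₁.ι).presheaf.map
    (eqToHom (show (g.resLE U U₁ h₁) ⁻¹ᵁ O =
      (Scheme.Hom.resLE (𝟙 X) U₂ U₁ hid ≫ g.resLE U U₂ h₂) ⁻¹ᵁ O by rw [e])).op z) ?_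
  refine Eq.trans ?_ (k3.trans k4)
  refine congrArg (fun z => ((Scheme.Modules.pullbackId X).hom.app
    ((Scheme.Modules.pullback g).obj F)).app
      (U₁.ι ''ᵁ ((Scheme.Hom.resLE (𝟙 X) U₂ U₁ hid) ⁻¹ᵁ ((g.resLE U U₂ h₂) ⁻¹ᵁ O))) z) ?_
  refine Eq.trans ?_ k2
  exact congrArg (fun z => (cOn (𝟙 X) U₂ U₁ hid ((Scheme.Modules.pullback g).obj F)).app
    ((g.resLE U U₂ h₂) ⁻¹ᵁ O) z) k1

end ResPullOn


section BcCUV

variable {X S X' S' : Scheme.{u}} {f : X ⟶ S} {g : S' ⟶ S} {f' : X' ⟶ S'} {g' : X' ⟶ X}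
  {w : g' ≫ f = f' ≫ g} [HasInjectiveResolutions X.Modules] [HasInjectiveResolutions X'.Modules]
  {Δ : RDer.DerivedLES (pushforward f)} {Δ' : RDer.DerivedLES (pushforward f')}
  {E : CohCmp.SectCmp f Δ} {E' : CohCmp.SectCmp f' Δ'} (B : CohCmp.GenBC f g f' g' w E E')

theorem unit_bc_gen (p : ℕ) (F : X.Modules) :
    (pullbackPushforwardAdjunction g).unit.app _ ≫ (pushforward g).map (B.bc p F) = B.φ p F := by
  have h1 := (pullbackPushforwardAdjunction g).homEquiv_unit (f := B.bc p F)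
  rw [← h1]
  exact Equiv.apply_symm_apply _ _

theorem bc_cUV_gen (p : ℕ) (F : X.Modules) {V : S.Opens} {W : S'.Opens} (hW : W ≤ g ⁻¹ᵁ V)
    (t : Γ((Coh.Rpush f p).obj F, V)) :
    (B.bc p F).app W (PBH8.cUV g ((Coh.Rpush f p).obj F) hW t) =
      ((Coh.Rpush f' p).obj ((Scheme.Modules.pullback g').obj F)).presheaf.map (homOfLE hW).op
        ((B.φ p F).app V t) := by
  unfold PBH8.cUV
  rw [QCohCrit.app_naturality (B.bc p F) (homOfLE hW)]
  have h1 : (B.bc p F).app (g ⁻¹ᵁ V) (((pullbackPushforwardAdjunction g).unit.app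
      ((Coh.Rpush f p).obj F)).app V t) = (B.φ p F).app V t :=
    congrArg (fun ψ => (Scheme.Modules.Hom.app ψ V) t) (unit_bc_gen B p F)
  rw [h1]

/-- the base change map on the canonical sections coming from cohomology classes -/
theorem bc_cUV_ε (p : ℕ) (F : X.Modules) {V : S.Opens} {W : S'.Opens} (hW : W ≤ g ⁻¹ᵁ V)
    (x : Coh.HHon X F (f ⁻¹ᵁ V) p) :
    (B.bc p F).app W (PBH8.cUV g ((Coh.Rpush f p).obj F) hW (E.ε V F p x)) =
      E'.ε W ((Scheme.Modules.pullback g').obj F) p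
        (CohPull.pullOn g' (f ⁻¹ᵁ V) (f' ⁻¹ᵁ W)
          ((f'.preimage_mono hW).trans (CohCmp.sqLE f g f' g' w V)) F p x) := by
  rw [bc_cUV_gen, B.compat,
    ← Groth.Agent.Lib.SectCmp3H2.ε_resLE f' E' p ((Scheme.Modules.pullback g').obj F) hW,
    resLE_pullOn]

end BcCUV

end Groth.Agent.Lib.CBCH2
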