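import Mathlib
import Groth.Prelude
import Groth.Agent.Lib.CBCAsm2_helper2

/-!
# Cohomology and base change for separated quasi-compact morphisms with flat higher direct images:
the local statement and the isomorphism (helper2).  APPEND-ONLY once landed.
-/

set_option autoImplicit false
set_option backward.isDefEq.respectTransparency false
set_option linter.style.haveILetI false
set_option linter.unusedSectionVars false
universe u

open CategoryTheory CategoryTheory.Limits AlgebraicGeometry AlgebraicGeometry.Scheme.Modules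
  TopologicalSpace Opposite TensorProduct

namespace Groth.Agent.Lib.CBCH2

open Groth.Agent.Lib.FlatBCH2 Groth.Agent.Lib.FormalFnH2 Groth.Agent.Lib.PullFnH2
  Groth.Agent.Lib.BCSecH2 Groth.Agent.Lib.SectCmp5H2

section Local

variable {X Y S X' Y' S' : Scheme.{u}} (b : Y ⟶ S) (f : X ⟶ Y) [IsSeparated f] [QuasiCompact f]
  (g : S' ⟶ S) (gY : Y' ⟶ Y) (b' : Y' ⟶ S') (hY : IsPullback gY b' b g)
  (gX : X' ⟶ X) (f' : X' ⟶ Y') (hX : IsPullback gX f' f gY)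
  [HasInjectiveResolutions X.Modules] [HasInjectiveResolutions X'.Modules]
  (F : X.Modules) [F.IsQuasicoherent] (hF : FlatMod.IsFlatOver (f ≫ b) F)
  (hR : ∀ n : ℕ, FlatMod.IsFlatOver b ((Coh.Rpush f n).obj F))
  {Δ : RDer.DerivedLES (pushforward f)} {Δ' : RDer.DerivedLES (pushforward f')}
  (E : CohCmp.SectCmp f Δ) (E' : CohCmp.SectCmp f' Δ') (B : CohCmp.GenBC f gY f' gX hX.w E E')

include hY hF hR in
set_option maxHeartbeats 1600000 in
theorem bc_app_bijective_local (n : ℕ) {T : S.Opens} {T' : S'.Opens} {V : Y.Opens} {W : Y'.Opens}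
    (hT : IsAffineOpen T) (hT' : IsAffineOpen T') (hV : IsAffineOpen V)
    (hT'T : T' ≤ g ⁻¹ᵁ T) (hVT : V ≤ b ⁻¹ᵁ T) (hW : W = gY ⁻¹ᵁ V ⊓ b' ⁻¹ᵁ T') :
    Function.Bijective ((B.bc n F).app W) := by
  have hWV : W ≤ gY ⁻¹ᵁ V := hW ▸ inf_le_left
  have hWT' : W ≤ b' ⁻¹ᵁ T' := hW ▸ inf_le_right
  obtain ⟨hWaff, hpo⟩ := AffBCH8.affine_pushout' hY hT hV hT' hVT hT'T hWV hWT' hW
  -- the morphism `f'`
  haveI : IsSeparated f' := MorphismProperty.of_isPullback (P := @IsSeparated) hX inferInstance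
  haveI : QuasiCompact f' := MorphismProperty.of_isPullback (P := @QuasiCompact) hX inferInstance
  -- the opens upstairs
  have eU : f ⁻¹ᵁ V ≤ (f ≫ b) ⁻¹ᵁ T := pre_le f b T V hVT
  have eU'2 : f' ⁻¹ᵁ W ≤ (f' ≫ b') ⁻¹ᵁ T' := pre_le f' b' T' W hWT'
  have eU'1 : f' ⁻¹ᵁ W ≤ gX ⁻¹ᵁ (f ⁻¹ᵁ V) :=
    (f'.preimage_mono hWV).trans (CohCmp.sqLE f gY f' gX hX.w V)
  have hU' : f' ⁻¹ᵁ W = gX ⁻¹ᵁ (f ⁻¹ᵁ V) ⊓ (f' ≫ b') ⁻¹ᵁ T' := by
    rw [hW, ← Scheme.Hom.comp_preimage gX f, hX.w, Scheme.Hom.comp_preimage,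
      Scheme.Hom.comp_preimage]
    rfl
  have H : IsPullback gX (f' ≫ b') (f ≫ b) g := hX.paste_vert hY
  letI oU := overRes (f ≫ b) T (f ⁻¹ᵁ V) eU
  letI oU' := overRes (f' ≫ b') T' (f' ⁻¹ᵁ W) eU'2
  letI alg : Algebra Γ(S, T) Γ(S', T') := (g.appLE T T' hT'T).hom.toAlgebra
  have hsq := isPullback_overRes H hT hT' hT'T eU hU' eU'1 eU'2
  -- the restricted module
  haveI : (F.restrict (f ⁻¹ᵁ V).ι).IsQuasicoherent :=
    Scheme.Modules.isQuasicoherent_restrictFunctor (f ⁻¹ᵁ V).ι F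
  haveI : CompactSpace ((f ⁻¹ᵁ V : X.Opens) : Scheme.{u}) :=
    isCompact_iff_compactSpace.mp
      (QuasiCompact.isCompact_preimage (f := f) _ V.isOpen hV.isCompact)
  haveI : IsSeparated (((f ⁻¹ᵁ V : X.Opens) : Scheme.{u}) ↘ Spec (CommRingCat.of Γ(S, T))) := by
    show IsSeparated ((f ≫ b).resLE T (f ⁻¹ᵁ V) eU ≫ T.toSpecΓ)
    have h1 : (f ≫ b).resLE T (f ⁻¹ᵁ V) eU = f.resLE V (f ⁻¹ᵁ V) le_rfl ≫ b.resLE T V hVT :=
      (Scheme.Hom.resLE_comp_resLE f le_rfl b hVT).symm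
    rw [h1, Category.assoc]
    haveI : IsAffine (V : Scheme.{u}) := hV
    haveI : IsAffineHom (b.resLE T V hVT ≫ T.toSpecΓ) := isAffineHom_of_isAffine _
    infer_instance
  -- quasi-coherence of the higher direct images
  haveI hqR : ∀ p, ((Coh.Rpush f p).obj F).IsQuasicoherent :=
    fun p => RpushQC.isQuasicoherent_Rpush f F p
  haveI hqR' : ∀ p, ((Coh.Rpush f' p).obj ((Scheme.Modules.pullback gX).obj F)).IsQuasicoherent :=
    fun p => RpushQC.isQuasicoherent_Rpush f' _ p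
  -- the comparison over `V`, linearly
  letI mR : ∀ p, Module Γ(S, T) Γ((Coh.Rpush f p).obj F, V) :=
    fun p => Module.compHom _ (b.appLE T V hVT).hom
  let eε : ∀ p, Coh.HH ((f ⁻¹ᵁ V : X.Opens) : Scheme.{u}) (F.restrict (f ⁻¹ᵁ V).ι) p ≃ₗ[Γ(S, T)]
      Γ((Coh.Rpush f p).obj F, V) := fun p =>
    { AddEquiv.ofBijective (E.ε V F p)
        (Groth.Agent.Lib.SectCmp4H2.bijective_of_isAffineOpen f V hV E F p) with
      map_smul' := fun a x => ε_linear f b T V hVT E F p a x }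
  -- flatness
  have hfl : ∀ W₁ : ((f ⁻¹ᵁ V : X.Opens) : Scheme.{u}).Opens, IsAffineOpen W₁ →
      Module.Flat Γ(S, T) (SecA Γ(S, T) (F.restrict (f ⁻¹ᵁ V).ι) W₁) :=
    fun W₁ hW₁ => flat_sections_overRes (f ≫ b) T hT (f ⁻¹ᵁ V) eU F hF W₁ hW₁
  have hfH : ∀ p, Module.Flat Γ(S, T)
      (Coh.HH ((f ⁻¹ᵁ V : X.Opens) : Scheme.{u}) (F.restrict (f ⁻¹ᵁ V).ι) p) := by
    intro p
    haveI : Module.Flat Γ(S, T) Γ((Coh.Rpush f p).obj F, V) :=
      flat_sections_base b T hT ((Coh.Rpush f p).obj F) (hR p) V hV hVT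
    exact Module.Flat.of_linearEquiv (eε p)
  -- cohomology and base change over the affine base
  have hBC := allBC_of_separated Γ(S, T) (F.restrict (f ⁻¹ᵁ V).ι) hfl hfH n Γ(S', T')
    ((f' ⁻¹ᵁ W : X'.Opens) : Scheme.{u}) (gX.resLE (f ⁻¹ᵁ V) (f' ⁻¹ᵁ W) eU'1) hsq
  -- the comparison over `W`, linearly
  letI mR' : Module Γ(S', T') Γ((Coh.Rpush f' n).obj ((Scheme.Modules.pullback gX).obj F), W) :=
    Module.compHom _ (b'.appLE T' W hWT').hom
  let eε' : Coh.HH ((f' ⁻¹ᵁ W : X'.Opens) : Scheme.{u})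
      (((Scheme.Modules.pullback gX).obj F).restrict (f' ⁻¹ᵁ W).ι) n ≃ₗ[Γ(S', T')]
      Γ((Coh.Rpush f' n).obj ((Scheme.Modules.pullback gX).obj F), W) :=
    { AddEquiv.ofBijective (E'.ε W ((Scheme.Modules.pullback gX).obj F) n)
        (Groth.Agent.Lib.SectCmp4H2.bijective_of_isAffineOpen f' W hWaff E' _ n) with
      map_smul' := fun a x => ε_linear f' b' T' W hWT' E' _ n a x }
  let eiso := Groth.Agent.Lib.StalkFFH2.HHlinEquiv Γ(S', T')
    (CohPull.pullOnIso gX (f ⁻¹ᵁ V) (f' ⁻¹ᵁ W) eU'1 F) n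
  -- the second base change
  let t₂ : Coh.HH ((f ⁻¹ᵁ V : X.Opens) : Scheme.{u}) (F.restrict (f ⁻¹ᵁ V).ι) n →+
      Γ((Coh.Rpush f' n).obj ((Scheme.Modules.pullback gX).obj F), W) :=
    (E'.ε W ((Scheme.Modules.pullback gX).obj F) n).comp
      (CohPull.pullOn gX (f ⁻¹ᵁ V) (f' ⁻¹ᵁ W) eU'1 F n)
  have h₂ : IsBC Γ(S, T) Γ(S', T') t₂ :=
    IsBC.comp_equiv hBC (LinearEquiv.refl Γ(S, T) _) (eiso.trans eε') t₂ (fun q => rfl)
  -- the first base change
  letI algAC : Algebra Γ(S, T) Γ(Y, V) := (b.appLE T V hVT).hom.toAlgebra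
  letI algA'C' : Algebra Γ(S', T') Γ(Y', W) := (b'.appLE T' W hWT').hom.toAlgebra
  letI algCC' : Algebra Γ(Y, V) Γ(Y', W) := (gY.appLE V W hWV).hom.toAlgebra
  letI algAC' : Algebra Γ(S, T) Γ(Y', W) :=
    ((gY.appLE V W hWV).hom.comp (b.appLE T V hVT).hom).toAlgebra
  haveI : IsScalarTower Γ(S, T) Γ(Y, V) Γ(Y', W) := IsScalarTower.of_algebraMap_eq' rfl
  haveI : IsScalarTower Γ(S, T) Γ(S', T') Γ(Y', W) := by
    refine IsScalarTower.of_algebraMap_eq' ?_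
    change (gY.appLE V W hWV).hom.comp (b.appLE T V hVT).hom =
      (b'.appLE T' W hWT').hom.comp (g.appLE T T' hT'T).hom
    rw [← CommRingCat.hom_comp, ← CommRingCat.hom_comp]
    congr 1
    exact hpo.w
  haveI : Algebra.IsPushout Γ(S, T) Γ(S', T') Γ(Y, V) Γ(Y', W) := by
    apply Algebra.IsPushout.symm
    exact CommRingCat.isPushout_iff_isPushout.mp hpo
  haveI : IsScalarTower Γ(S, T) Γ(Y, V) Γ((Coh.Rpush f n).obj F, V) :=
    IsScalarTower.of_algebraMap_smul fun _ _ => rfl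
  letI mCN : Module Γ(Y, V) Γ((Scheme.Modules.pullback gY).obj ((Coh.Rpush f n).obj F), W) :=
    Module.compHom _ (gY.appLE V W hWV).hom
  haveI : IsScalarTower Γ(Y, V) Γ(Y', W)
      Γ((Scheme.Modules.pullback gY).obj ((Coh.Rpush f n).obj F), W) :=
    IsScalarTower.of_algebraMap_smul fun _ _ => rfl
  letI mA'N : Module Γ(S', T') Γ((Scheme.Modules.pullback gY).obj ((Coh.Rpush f n).obj F), W) :=
    Module.compHom _ (b'.appLE T' W hWT').hom
  haveI : IsScalarTower Γ(S', T') Γ(Y', W)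
      Γ((Scheme.Modules.pullback gY).obj ((Coh.Rpush f n).obj F), W) :=
    IsScalarTower.of_algebraMap_smul fun _ _ => rfl
  letI mAN : Module Γ(S, T) Γ((Scheme.Modules.pullback gY).obj ((Coh.Rpush f n).obj F), W) :=
    Module.compHom _ (algebraMap Γ(S, T) Γ(Y', W))
  haveI : IsScalarTower Γ(S, T) Γ(S', T')
      Γ((Scheme.Modules.pullback gY).obj ((Coh.Rpush f n).obj F), W) := by
    refine IsScalarTower.of_algebraMap_smul fun a z => ?_
    show (algebraMap Γ(S', T') Γ(Y', W) (algebraMap Γ(S, T) Γ(S', T') a)) • z =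
      (algebraMap Γ(S, T) Γ(Y', W) a) • z
    rw [← IsScalarTower.algebraMap_apply Γ(S, T) Γ(S', T') Γ(Y', W)]
  have bc₁ := PBH8.isBaseChange_cUV gY ((Coh.Rpush f n).obj F) hWV hWaff hV
  let c' : Γ((Coh.Rpush f n).obj F, V) →ₗ[Γ(S, T)]
      Γ((Scheme.Modules.pullback gY).obj ((Coh.Rpush f n).obj F), W) :=
    { toFun := PBH8.cUV gY ((Coh.Rpush f n).obj F) hWV
      map_add' := PBH8.cUV_add gY _ hWV
      map_smul' := fun a x => PBH8.cUV_smul gY _ hWV ((b.appLE T V hVT).hom a) x }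
  have bc₂ : IsBaseChange Γ(S', T') c' :=
    QBCH8.isBaseChange_of_isPushout' Γ(S, T) Γ(S', T') Γ(Y, V) Γ(Y', W)
      (PBH8.cUVLin gY ((Coh.Rpush f n).obj F) hWV) bc₁ c' (fun m => rfl)
  have h1 : IsBC Γ(S, T) Γ(S', T') c'.toAddMonoidHom :=
    IsBC.of_isBaseChange c' bc₂ _ (fun x => rfl)
  let t₁ : Coh.HH ((f ⁻¹ᵁ V : X.Opens) : Scheme.{u}) (F.restrict (f ⁻¹ᵁ V).ι) n →+
      Γ((Scheme.Modules.pullback gY).obj ((Coh.Rpush f n).obj F), W) :=
    c'.toAddMonoidHom.comp (E.ε V F n)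
  have h₁ : IsBC Γ(S, T) Γ(S', T') t₁ :=
    IsBC.comp_equiv h1 (eε n) (LinearEquiv.refl Γ(S', T') _) t₁ (fun q => rfl)
  -- conclusion
  let L : Γ((Scheme.Modules.pullback gY).obj ((Coh.Rpush f n).obj F), W) →+
      Γ((Coh.Rpush f' n).obj ((Scheme.Modules.pullback gX).obj F), W) :=
    AddMonoidHom.mk' (fun z => (B.bc n F).app W z) (fun z z' => map_add _ z z')
  have hLb : Function.Bijective L :=
    isBC_bijective_of_comp h₁ h₂ L
      (fun b₀ z => Scheme.Modules.Hom.app_smul (B.bc n F) ((b'.appLE T' W hWT').hom b₀) z)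
      (fun x => bc_cUV_ε B n F hWV x)
  exact hLb

include hY hF hR in
/-- **Cohomology and base change**: for `f` separated quasi-compact, `F` quasi-coherent and flat
over the base `S`, with all `R^n f_* F` flat over `S`, the base change maps of the higher direct
images along an arbitrary base change `S' ⟶ S` are isomorphisms. -/
theorem isIso_bc (n : ℕ) : IsIso (B.bc n F) := by
  haveI : IsSeparated f' := MorphismProperty.of_isPullback (P := @IsSeparated) hX inferInstance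
  haveI : QuasiCompact f' := MorphismProperty.of_isPullback (P := @QuasiCompact) hX inferInstance
  haveI : ((Coh.Rpush f n).obj F).IsQuasicoherent := RpushQC.isQuasicoherent_Rpush f F n
  haveI : ((Coh.Rpush f' n).obj ((Scheme.Modules.pullback gX).obj F)).IsQuasicoherent :=
    RpushQC.isQuasicoherent_Rpush f' _ n
  let ι := {W : Y'.Opens // ∃ (T : S.Opens) (T' : S'.Opens) (V : Y.Opens), IsAffineOpen T ∧
    IsAffineOpen T' ∧ IsAffineOpen V ∧ T' ≤ g ⁻¹ᵁ T ∧ V ≤ b ⁻¹ᵁ T ∧ W = gY ⁻¹ᵁ V ⊓ b' ⁻¹ᵁ T'}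
  have hcover : ⨆ i : ι, (i.1 : Y'.Opens) = ⊤ := by
    rw [eq_top_iff]
    intro y' _
    obtain ⟨_, ⟨T, hT : IsAffineOpen T, rfl⟩, hyT, -⟩ :=
      (S.isBasis_affineOpens).exists_subset_of_mem_open (Set.mem_univ (b (gY y'))) isOpen_univ
    have h1 : b' y' ∈ g ⁻¹ᵁ T := by
      show g (b' y') ∈ T
      have : g (b' y') = b (gY y') := by
        rw [← Scheme.Hom.comp_apply, ← Scheme.Hom.comp_apply, hY.w]
      rw [this]
      exact hyT
    obtain ⟨_, ⟨T', hT' : IsAffineOpen T', rfl⟩, hyT', hT'T⟩ :=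
      (S'.isBasis_affineOpens).exists_subset_of_mem_open h1 (g ⁻¹ᵁ T).isOpen
    obtain ⟨_, ⟨V, hV : IsAffineOpen V, rfl⟩, hyV, hVT⟩ :=
      (Y.isBasis_affineOpens).exists_subset_of_mem_open (show gY y' ∈ b ⁻¹ᵁ T from hyT)
        (b ⁻¹ᵁ T).isOpen
    exact Opens.mem_iSup.mpr ⟨⟨gY ⁻¹ᵁ V ⊓ b' ⁻¹ᵁ T', T, T', V, hT, hT', hV, hT'T, hVT, rfl⟩,
      ⟨hyV, hyT'⟩⟩
  refine QCohCrit.isIso_of_bijective_on_cover (B.bc n F) (fun i : ι => (i.1 : Y'.Opens))
    (fun i => ?_) hcover ?_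
  · obtain ⟨W, T, T', V, hT, hT', hV, hT'T, hVT, hW⟩ := i
    exact (AffBCH8.affine_pushout' hY hT hV hT' hVT hT'T (hW ▸ inf_le_left)
      (hW ▸ inf_le_right) hW).1
  · rintro ⟨W, T, T', V, hT, hT', hV, hT'T, hVT, hW⟩
    exact bc_app_bijective_local b f g gY b' hY gX f' hX F hF hR E E' B n hT hT' hV hT'T hVT hW

end Local

end Groth.Agent.Lib.CBCH2
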