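import Mathlib
import Groth.Prelude
import Groth.Agent.Lib.CBCAsm3_helper2

/-!
# Cohomology and base change, local form with an abstract base change hypothesis (helper2)

APPEND-ONLY once landed.
-/

set_option autoImplicit false
set_option backward.isDefEq.respectTransparency false
set_option linter.style.haveILetI false
set_option linter.unusedSectionVars false
universe u

open CategoryTheory CategoryTheory.Limits AlgebraicGeometry AlgebraicGeometry.Scheme.Modules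
  TopologicalSpace Opposite TensorProduct

namespace Groth.Agent.Lib.CBCH2

open Groth.Agent.Lib.FlatBCH2 Groth.Agent.Lib.FormalFnH2 Groth.Agent.Lib.PullFnH2
  Groth.Agent.Lib.BCSecH2 Groth.Agent.Lib.SectCmp5H2

section SpanAlg

variable {A B : Type*} [CommRing A] [CommRing B] [Algebra A B]
  {P P₁ P₂ : Type*} [AddCommGroup P] [Module A P] [AddCommGroup P₁] [Module B P₁]
  [AddCommGroup P₂] [Module B P₂]

theorem IsBC.span_eq_top {t : P →+ P₁} (h : IsBC A B t) :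
    Submodule.span B (Set.range t) = ⊤ := by
  obtain ⟨e, he⟩ := h
  rw [eq_top_iff]
  rintro y -
  obtain ⟨w, rfl⟩ := e.surjective y
  induction w using TensorProduct.induction_on with
  | zero => rw [map_zero]; exact Submodule.zero_mem _
  | tmul b x =>
    rw [IsBC.apply_tmul e he]
    exact Submodule.smul_mem _ _ (Submodule.subset_span ⟨x, rfl⟩)
  | add z w hz hw => rw [map_add]; exact Submodule.add_mem _ hz hw

theorem span_range_of_surjective (t₁ : P →+ P₁) (t₂ : P →+ P₂) (L : P₁ →+ P₂)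
    (hL : ∀ (b : B) (z : P₁), L (b • z) = b • L z) (hc : ∀ x, L (t₁ x) = t₂ x)
    (hs : Function.Surjective L) (h₁ : Submodule.span B (Set.range t₁) = ⊤) :
    Submodule.span B (Set.range t₂) = ⊤ := by
  rw [eq_top_iff]
  rintro y -
  obtain ⟨z, rfl⟩ := hs y
  have hz : z ∈ Submodule.span B (Set.range t₁) := by rw [h₁]; trivial
  induction hz using Submodule.span_induction with
  | mem v hv =>
    obtain ⟨x, rfl⟩ := hv
    rw [hc]
    exact Submodule.subset_span ⟨x, rfl⟩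
  | zero => rw [map_zero]; exact Submodule.zero_mem _
  | add v v' _ _ hv hv' => rw [map_add]; exact Submodule.add_mem _ hv hv'
  | smul b v _ hv => rw [hL]; exact Submodule.smul_mem _ _ hv

end SpanAlg

section AllBCAway

variable {X S : Scheme.{u}}

/-- base change holds in degree `n` for the open `U` of `X` over the affine open `T` of `S`, for
all algebras over `Γ(S, T)` in which `g₀` becomes invertible -/
def AllBCAway (h : X ⟶ S) (T : S.Opens) (U : X.Opens) (e : U ≤ h ⁻¹ᵁ T) (F : X.Modules) (n : ℕ)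
    (g₀ : Γ(S, T)) : Prop :=
  letI := overRes h T U e
  ∀ (A' : Type u) [CommRing A'] [Algebra Γ(S, T) A'], IsUnit (algebraMap Γ(S, T) A' g₀) →
    ∀ (X' : Scheme.{u}) [X'.Over (Spec (CommRingCat.of A'))] (g' : X' ⟶ (U : Scheme.{u})),
      IsPullback g' (X' ↘ Spec (CommRingCat.of A'))
        ((U : Scheme.{u}) ↘ Spec (CommRingCat.of Γ(S, T)))
        (Spec.map (CommRingCat.ofHom (algebraMap Γ(S, T) A'))) →
      IsBC Γ(S, T) A' (CohPull.pullMod g' (F.restrict U.ι) n)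

theorem AllBCAway.congr {h h' : X ⟶ S} (hh : h = h') {T : S.Opens} {U : X.Opens}
    (e : U ≤ h ⁻¹ᵁ T) (e' : U ≤ h' ⁻¹ᵁ T) {F : X.Modules} {n : ℕ} {g₀ : Γ(S, T)}
    (H : AllBCAway h T U e F n g₀) : AllBCAway h' T U e' F n g₀ := by
  subst hh
  exact H

end AllBCAway

section Local

variable {X Y S X' Y' S' : Scheme.{u}} (b : Y ⟶ S) (f : X ⟶ Y) [IsSeparated f] [QuasiCompact f]
  (g : S' ⟶ S) (gY : Y' ⟶ Y) (b' : Y' ⟶ S') (hY : IsPullback gY b' b g)
  (gX : X' ⟶ X) (f' : X' ⟶ Y') (hX : IsPullback gX f' f gY)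
  [HasInjectiveResolutions X.Modules] [HasInjectiveResolutions X'.Modules]
  (F : X.Modules) [F.IsQuasicoherent]
  {Δ : RDer.DerivedLES (pushforward f)} {Δ' : RDer.DerivedLES (pushforward f')}
  (E : CohCmp.SectCmp f Δ) (E' : CohCmp.SectCmp f' Δ') (B : CohCmp.GenBC f gY f' gX hX.w E E')

include hY in
set_option maxHeartbeats 1600000 in
/-- the local form of cohomology and base change: over affine opens, the base change map of the
higher direct images is bijective as soon as the pullback of cohomology classes is a base change,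
and if it is surjective then the pulled back classes span -/
theorem bc_app_local_main (n : ℕ) {T : S.Opens} {T' : S'.Opens} {V : Y.Opens} {W : Y'.Opens}
    (hT : IsAffineOpen T) (hT' : IsAffineOpen T') (hV : IsAffineOpen V)
    (hT'T : T' ≤ g ⁻¹ᵁ T) (hVT : V ≤ b ⁻¹ᵁ T) (hW : W = gY ⁻¹ᵁ V ⊓ b' ⁻¹ᵁ T') :
    letI := overRes (f ≫ b) T (f ⁻¹ᵁ V) (pre_le f b T V hVT)
    letI := overRes (f' ≫ b') T' (f' ⁻¹ᵁ W) (pre_le f' b' T' W (hW ▸ inf_le_right))
    letI : Algebra Γ(S, T) Γ(S', T') := (g.appLE T T' hT'T).hom.toAlgebra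
    (IsBC Γ(S, T) Γ(S', T') (CohPull.pullMod (gX.resLE (f ⁻¹ᵁ V) (f' ⁻¹ᵁ W)
        ((f'.preimage_mono (hW ▸ inf_le_left)).trans (CohCmp.sqLE f gY f' gX hX.w V)))
        (F.restrict (f ⁻¹ᵁ V).ι) n) →
      Function.Bijective ((B.bc n F).app W)) ∧
    (Function.Surjective ((B.bc n F).app W) →
      Submodule.span Γ(S', T') (Set.range (CohPull.pullMod (gX.resLE (f ⁻¹ᵁ V) (f' ⁻¹ᵁ W)
        ((f'.preimage_mono (hW ▸ inf_le_left)).trans (CohCmp.sqLE f gY f' gX hX.w V)))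
        (F.restrict (f ⁻¹ᵁ V).ι) n)) = ⊤) := by
  have hWV : W ≤ gY ⁻¹ᵁ V := hW ▸ inf_le_left
  have hWT' : W ≤ b' ⁻¹ᵁ T' := hW ▸ inf_le_right
  obtain ⟨hWaff, hpo⟩ := AffBCH8.affine_pushout' hY hT hV hT' hVT hT'T hWV hWT' hW
  -- the morphism `f'`
  haveI : IsSeparated f' := MorphismProperty.of_isPullback (P := @IsSeparated) hX inferInstance
  haveI : QuasiCompact f' := MorphismProperty.of_isPullback (P := @QuasiCompact) hX inferInstance
  -- the opens upstairs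
  have eU : f ⁻¹ᵁ V ≤ (f ≫ b) ⁻¹ᵁ T := pre_le f b T V hVT
  have eU'2 : f' ⁻¹ᵁ W ≤ (f' ≫ b') ⁻¹ᵁ T' := pre_le f' b' T' W hWT'
  have eU'1 : f' ⁻¹ᵁ W ≤ gX ⁻¹ᵁ (f ⁻¹ᵁ V) :=
    (f'.preimage_mono hWV).trans (CohCmp.sqLE f gY f' gX hX.w V)
  have hU' : f' ⁻¹ᵁ W = gX ⁻¹ᵁ (f ⁻¹ᵁ V) ⊓ (f' ≫ b') ⁻¹ᵁ T' := by
    rw [hW, ← Scheme.Hom.comp_preimage gX f, hX.w, Scheme.Hom.comp_preimage,
      Scheme.Hom.comp_preimage]
    rfl
  have H : IsPullback gX (f' ≫ b') (f ≫ b) g := hX.paste_vert hY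
  letI oU := overRes (f ≫ b) T (f ⁻¹ᵁ V) eU
  letI oU' := overRes (f' ≫ b') T' (f' ⁻¹ᵁ W) eU'2
  letI alg : Algebra Γ(S, T) Γ(S', T') := (g.appLE T T' hT'T).hom.toAlgebra
  have hsq := isPullback_overRes H hT hT' hT'T eU hU' eU'1 eU'2
  -- the restricted module
  haveI : (F.restrict (f ⁻¹ᵁ V).ι).IsQuasicoherent :=
    Scheme.Modules.isQuasicoherent_restrictFunctor (f ⁻¹ᵁ V).ι F
  haveI : CompactSpace ((f ⁻¹ᵁ V : X.Opens) : Scheme.{u}) :=
    isCompact_iff_compactSpace.mp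
      (QuasiCompact.isCompact_preimage (f := f) _ V.isOpen hV.isCompact)
  haveI : IsSeparated (((f ⁻¹ᵁ V : X.Opens) : Scheme.{u}) ↘ Spec (CommRingCat.of Γ(S, T))) := by
    show IsSeparated ((f ≫ b).resLE T (f ⁻¹ᵁ V) eU ≫ T.toSpecΓ)
    have h1 : (f ≫ b).resLE T (f ⁻¹ᵁ V) eU = f.resLE V (f ⁻¹ᵁ V) le_rfl ≫ b.resLE T V hVT :=
      (Scheme.Hom.resLE_comp_resLE f le_rfl b hVT).symm
    rw [h1, Category.assoc]
    haveI : IsAffine (V : Scheme.{u}) := hV
    haveI : IsAffineHom (b.resLE T V hVT ≫ T.toSpecΓ) := isAffineHom_of_isAffine _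
    infer_instance
  -- quasi-coherence of the higher direct images
  haveI hqR : ∀ p, ((Coh.Rpush f p).obj F).IsQuasicoherent :=
    fun p => RpushQC.isQuasicoherent_Rpush f F p
  haveI hqR' : ∀ p, ((Coh.Rpush f' p).obj ((Scheme.Modules.pullback gX).obj F)).IsQuasicoherent :=
    fun p => RpushQC.isQuasicoherent_Rpush f' _ p
  -- the comparison over `V`, linearly
  letI mR : ∀ p, Module Γ(S, T) Γ((Coh.Rpush f p).obj F, V) :=
    fun p => Module.compHom _ (b.appLE T V hVT).hom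
  let eε : ∀ p, Coh.HH ((f ⁻¹ᵁ V : X.Opens) : Scheme.{u}) (F.restrict (f ⁻¹ᵁ V).ι) p ≃ₗ[Γ(S, T)]
      Γ((Coh.Rpush f p).obj F, V) := fun p =>
    { AddEquiv.ofBijective (E.ε V F p)
        (Groth.Agent.Lib.SectCmp4H2.bijective_of_isAffineOpen f V hV E F p) with
      map_smul' := fun a x => ε_linear f b T V hVT E F p a x }
  -- the comparison over `W`, linearly
  letI mR' : Module Γ(S', T') Γ((Coh.Rpush f' n).obj ((Scheme.Modules.pullback gX).obj F), W) :=
    Module.compHom _ (b'.appLE T' W hWT').hom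
  let eε' : Coh.HH ((f' ⁻¹ᵁ W : X'.Opens) : Scheme.{u})
      (((Scheme.Modules.pullback gX).obj F).restrict (f' ⁻¹ᵁ W).ι) n ≃ₗ[Γ(S', T')]
      Γ((Coh.Rpush f' n).obj ((Scheme.Modules.pullback gX).obj F), W) :=
    { AddEquiv.ofBijective (E'.ε W ((Scheme.Modules.pullback gX).obj F) n)
        (Groth.Agent.Lib.SectCmp4H2.bijective_of_isAffineOpen f' W hWaff E' _ n) with
      map_smul' := fun a x => ε_linear f' b' T' W hWT' E' _ n a x }
  let eiso := Groth.Agent.Lib.StalkFFH2.HHlinEquiv Γ(S', T')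
    (CohPull.pullOnIso gX (f ⁻¹ᵁ V) (f' ⁻¹ᵁ W) eU'1 F) n
  -- the second map
  let t₂ : Coh.HH ((f ⁻¹ᵁ V : X.Opens) : Scheme.{u}) (F.restrict (f ⁻¹ᵁ V).ι) n →+
      Γ((Coh.Rpush f' n).obj ((Scheme.Modules.pullback gX).obj F), W) :=
    (E'.ε W ((Scheme.Modules.pullback gX).obj F) n).comp
      (CohPull.pullOn gX (f ⁻¹ᵁ V) (f' ⁻¹ᵁ W) eU'1 F n)
  -- the first base change
  letI algAC : Algebra Γ(S, T) Γ(Y, V) := (b.appLE T V hVT).hom.toAlgebra
  letI algA'C' : Algebra Γ(S', T') Γ(Y', W) := (b'.appLE T' W hWT').hom.toAlgebra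
  letI algCC' : Algebra Γ(Y, V) Γ(Y', W) := (gY.appLE V W hWV).hom.toAlgebra
  letI algAC' : Algebra Γ(S, T) Γ(Y', W) :=
    ((gY.appLE V W hWV).hom.comp (b.appLE T V hVT).hom).toAlgebra
  haveI : IsScalarTower Γ(S, T) Γ(Y, V) Γ(Y', W) := IsScalarTower.of_algebraMap_eq' rfl
  haveI : IsScalarTower Γ(S, T) Γ(S', T') Γ(Y', W) := by
    refine IsScalarTower.of_algebraMap_eq' ?_
    change (gY.appLE V W hWV).hom.comp (b.appLE T V hVT).hom =
      (b'.appLE T' W hWT').hom.comp (g.appLE T T' hT'T).hom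
    rw [← CommRingCat.hom_comp, ← CommRingCat.hom_comp]
    congr 1
    exact hpo.w
  haveI : Algebra.IsPushout Γ(S, T) Γ(S', T') Γ(Y, V) Γ(Y', W) := by
    apply Algebra.IsPushout.symm
    exact CommRingCat.isPushout_iff_isPushout.mp hpo
  haveI : IsScalarTower Γ(S, T) Γ(Y, V) Γ((Coh.Rpush f n).obj F, V) :=
    IsScalarTower.of_algebraMap_smul fun _ _ => rfl
  letI mCN : Module Γ(Y, V) Γ((Scheme.Modules.pullback gY).obj ((Coh.Rpush f n).obj F), W) :=
    Module.compHom _ (gY.appLE V W hWV).hom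
  haveI : IsScalarTower Γ(Y, V) Γ(Y', W)
      Γ((Scheme.Modules.pullback gY).obj ((Coh.Rpush f n).obj F), W) :=
    IsScalarTower.of_algebraMap_smul fun _ _ => rfl
  letI mA'N : Module Γ(S', T') Γ((Scheme.Modules.pullback gY).obj ((Coh.Rpush f n).obj F), W) :=
    Module.compHom _ (b'.appLE T' W hWT').hom
  haveI : IsScalarTower Γ(S', T') Γ(Y', W)
      Γ((Scheme.Modules.pullback gY).obj ((Coh.Rpush f n).obj F), W) :=
    IsScalarTower.of_algebraMap_smul fun _ _ => rfl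
  letI mAN : Module Γ(S, T) Γ((Scheme.Modules.pullback gY).obj ((Coh.Rpush f n).obj F), W) :=
    Module.compHom _ (algebraMap Γ(S, T) Γ(Y', W))
  haveI : IsScalarTower Γ(S, T) Γ(S', T')
      Γ((Scheme.Modules.pullback gY).obj ((Coh.Rpush f n).obj F), W) := by
    refine IsScalarTower.of_algebraMap_smul fun a z => ?_
    show (algebraMap Γ(S', T') Γ(Y', W) (algebraMap Γ(S, T) Γ(S', T') a)) • z =
      (algebraMap Γ(S, T) Γ(Y', W) a) • z
    rw [← IsScalarTower.algebraMap_apply Γ(S, T) Γ(S', T') Γ(Y', W)]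
  have bc₁ := PBH8.isBaseChange_cUV gY ((Coh.Rpush f n).obj F) hWV hWaff hV
  let c' : Γ((Coh.Rpush f n).obj F, V) →ₗ[Γ(S, T)]
      Γ((Scheme.Modules.pullback gY).obj ((Coh.Rpush f n).obj F), W) :=
    { toFun := PBH8.cUV gY ((Coh.Rpush f n).obj F) hWV
      map_add' := PBH8.cUV_add gY _ hWV
      map_smul' := fun a x => PBH8.cUV_smul gY _ hWV ((b.appLE T V hVT).hom a) x }
  have bc₂ : IsBaseChange Γ(S', T') c' :=
    QBCH8.isBaseChange_of_isPushout' Γ(S, T) Γ(S', T') Γ(Y, V) Γ(Y', W)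
      (PBH8.cUVLin gY ((Coh.Rpush f n).obj F) hWV) bc₁ c' (fun m => rfl)
  have h1 : IsBC Γ(S, T) Γ(S', T') c'.toAddMonoidHom :=
    IsBC.of_isBaseChange c' bc₂ _ (fun x => rfl)
  let t₁ : Coh.HH ((f ⁻¹ᵁ V : X.Opens) : Scheme.{u}) (F.restrict (f ⁻¹ᵁ V).ι) n →+
      Γ((Scheme.Modules.pullback gY).obj ((Coh.Rpush f n).obj F), W) :=
    c'.toAddMonoidHom.comp (E.ε V F n)
  have h₁ : IsBC Γ(S, T) Γ(S', T') t₁ :=
    IsBC.comp_equiv h1 (eε n) (LinearEquiv.refl Γ(S', T') _) t₁ (fun q => rfl)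
  -- conclusion
  let L : Γ((Scheme.Modules.pullback gY).obj ((Coh.Rpush f n).obj F), W) →+
      Γ((Coh.Rpush f' n).obj ((Scheme.Modules.pullback gX).obj F), W) :=
    AddMonoidHom.mk' (fun z => (B.bc n F).app W z) (fun z z' => map_add _ z z')
  have hLlin : ∀ (b₀ : Γ(S', T'))
      (z : Γ((Scheme.Modules.pullback gY).obj ((Coh.Rpush f n).obj F), W)),
      L (b₀ • z) = b₀ • L z :=
    fun b₀ z => Scheme.Modules.Hom.app_smul (B.bc n F) ((b'.appLE T' W hWT').hom b₀) z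
  have hLc : ∀ x, L (t₁ x) = t₂ x := fun x => bc_cUV_ε B n F hWV x
  refine ⟨fun hBC => ?_, fun hsurj => ?_⟩
  · have h₂ : IsBC Γ(S, T) Γ(S', T') t₂ :=
      IsBC.comp_equiv hBC (LinearEquiv.refl Γ(S, T) _) (eiso.trans eε') t₂ (fun q => rfl)
    have hLb : Function.Bijective L := isBC_bijective_of_comp h₁ h₂ L hLlin hLc
    exact hLb
  · have hsurjL : Function.Surjective L := hsurj
    have hspan₂ : Submodule.span Γ(S', T') (Set.range t₂) = ⊤ :=
      span_range_of_surjective t₁ t₂ L hLlin hLc hsurjL (IsBC.span_eq_top h₁)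
    let Linv : Γ((Coh.Rpush f' n).obj ((Scheme.Modules.pullback gX).obj F), W) →+
        Coh.HH ((f' ⁻¹ᵁ W : X'.Opens) : Scheme.{u})
          ((Scheme.Modules.pullback (gX.resLE (f ⁻¹ᵁ V) (f' ⁻¹ᵁ W) eU'1)).obj
            (F.restrict (f ⁻¹ᵁ V).ι)) n :=
      ((eiso.trans eε').symm : _ ≃ₗ[Γ(S', T')] _).toLinearMap.toAddMonoidHom
    exact span_range_of_surjective t₂
      (CohPull.pullMod (gX.resLE (f ⁻¹ᵁ V) (f' ⁻¹ᵁ W) eU'1) (F.restrict (f ⁻¹ᵁ V).ι) n) Linv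
      (fun b₀ z => map_smul ((eiso.trans eε').symm : _ ≃ₗ[Γ(S', T')] _) b₀ z)
      (fun x => (eiso.trans eε').symm_apply_apply _)
      ((eiso.trans eε').symm.surjective) hspan₂

end Local

end Groth.Agent.Lib.CBCH2
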