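import Mathlib
import Groth.Prelude
import Groth.Agent.Lib.BCLoc8_helper2

/-!
# The functors `T_p` of a complex of finite projective modules over an arbitrary ring (helper2)

General ring versions (no Noetherian hypothesis) of the local criteria for the functors
`T_p(M) = H_p(P ⊗ M)` of a complex `P` of finite projective modules.
APPEND-ONLY once landed.
-/

set_option autoImplicit false
set_option linter.style.haveILetI false
set_option linter.unusedSectionVars false
universe u
open CategoryTheory Limits TensorProduct MonoidalCategory

namespace Groth.Agent.Lib.PBCH2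

section LinAlg

variable {A : Type u} [CommRing A] {M N : Type u} [AddCommGroup M] [Module A M]
  [AddCommGroup N] [Module A N]

/-- if `N` and the cokernel of `d : M → N` are projective then so is the image of `d` -/
theorem range_projective_of_quot (d : M →ₗ[A] N) [Module.Projective A N]
    [Module.Projective A (N ⧸ LinearMap.range d)] : Module.Projective A (LinearMap.range d) := by
  obtain ⟨s, hs⟩ := Module.projective_lifting_property (LinearMap.range d).mkQ LinearMap.id
    (Submodule.mkQ_surjective _)
  have hs' : ∀ q, (LinearMap.range d).mkQ (s q) = q := fun q => LinearMap.congr_fun hs q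
  have hr : ∀ n : N, ((LinearMap.id : N →ₗ[A] N) - s ∘ₗ (LinearMap.range d).mkQ) n ∈ LinearMap.range d := by
    intro n
    have h1 : (LinearMap.range d).mkQ (n - s ((LinearMap.range d).mkQ n)) = 0 := by
      rw [map_sub, hs', sub_self]
    exact (Submodule.Quotient.mk_eq_zero _).mp h1
  refine Module.Projective.of_split (LinearMap.range d).subtype
    (LinearMap.codRestrict _ ((LinearMap.id : N →ₗ[A] N) - s ∘ₗ (LinearMap.range d).mkQ) hr) ?_
  refine LinearMap.ext fun x => Subtype.ext ?_
  show (x : N) - s ((LinearMap.range d).mkQ (x : N)) = x
  have h0 : (LinearMap.range d).mkQ (x : N) = 0 := (Submodule.Quotient.mk_eq_zero _).mpr x.2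
  rw [h0, map_zero, sub_zero]

/-- if `N` and the cokernel of `d : M → N` are projective then the kernel of `d` is a retract -/
theorem exists_retraction_ker_of_quot (d : M →ₗ[A] N) [Module.Projective A N]
    [Module.Projective A (N ⧸ LinearMap.range d)] :
    ∃ π : M →ₗ[A] LinearMap.ker d, π ∘ₗ (LinearMap.ker d).subtype = LinearMap.id := by
  haveI := range_projective_of_quot d
  obtain ⟨t, ht⟩ := Module.projective_lifting_property d.rangeRestrict LinearMap.id
    d.surjective_rangeRestrict
  have ht' : ∀ q, d.rangeRestrict (t q) = q := fun q => LinearMap.congr_fun ht q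
  have hπ : ∀ m : M, ((LinearMap.id : M →ₗ[A] M) - t ∘ₗ d.rangeRestrict) m ∈ LinearMap.ker d := by
    intro m
    rw [LinearMap.mem_ker]
    show d (m - t (d.rangeRestrict m)) = 0
    rw [map_sub, sub_eq_zero]
    exact (congrArg Subtype.val (ht' (d.rangeRestrict m))).symm
  refine ⟨LinearMap.codRestrict _ ((LinearMap.id : M →ₗ[A] M) - t ∘ₗ d.rangeRestrict) hπ, ?_⟩
  refine LinearMap.ext fun x => Subtype.ext ?_
  show (x : M) - t (d.rangeRestrict (x : M)) = x
  have h0 : d.rangeRestrict (x : M) = 0 := Subtype.ext (LinearMap.mem_ker.mp x.2)
  rw [h0, map_zero, sub_zero]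

theorem finite_ker_of_quot (d : M →ₗ[A] N) [Module.Finite A M] [Module.Projective A N]
    [Module.Projective A (N ⧸ LinearMap.range d)] : Module.Finite A (LinearMap.ker d) := by
  obtain ⟨π, hπ⟩ := exists_retraction_ker_of_quot d
  exact Module.Finite.of_surjective π
    (Function.HasRightInverse.surjective ⟨_, LinearMap.congr_fun hπ⟩)

theorem projective_ker_of_quot (d : M →ₗ[A] N) [Module.Projective A M] [Module.Projective A N]
    [Module.Projective A (N ⧸ LinearMap.range d)] : Module.Projective A (LinearMap.ker d) := by
  obtain ⟨π, hπ⟩ := exists_retraction_ker_of_quot d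
  exact Module.Projective.of_split (LinearMap.ker d).subtype π hπ

/-- the cokernel of a map from a finite module to a finite projective module is finitely
presented -/
theorem finitePresentation_quot_range (d : M →ₗ[A] N) [Module.Finite A M] [Module.Finite A N]
    [Module.Projective A N] : Module.FinitePresentation A (N ⧸ LinearMap.range d) := by
  haveI : Module.FinitePresentation A N := Module.finitePresentation_of_projective A N
  refine Module.finitePresentation_of_surjective (LinearMap.range d).mkQ
    (Submodule.mkQ_surjective _) ?_
  rw [Submodule.ker_mkQ, LinearMap.range_eq_map]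
  exact (Module.Finite.fg_top).map d

end LinAlg

section Chain

variable {A : Type u} [CommRing A] (P : ChainComplex (ModuleCat.{u} A) ℤ)

lemma range_iCycles (p : ℤ) :
    LinearMap.range (P.iCycles p).hom = LinearMap.ker (P.d p (p - 1)).hom := by
  have hrel : (ComplexShape.down ℤ).Rel p (p - 1) := by simp
  have hn : (ComplexShape.down ℤ).next p = p - 1 := (ComplexShape.down ℤ).next_eq' hrel
  apply le_antisymm
  · rintro _ ⟨z, rfl⟩
    rw [LinearMap.mem_ker]
    exact congrArg (fun f => f.hom z) (P.iCycles_d p (p - 1))
  · intro y hy
    have hy' : P.d p ((ComplexShape.down ℤ).next p) y = 0 := by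
      rw [hn]
      exact LinearMap.mem_ker.mp hy
    obtain ⟨zk, hzk⟩ := Groth.Agent.HomologyColim.exists_iCycles_eq P p y hy'
    exact ⟨zk, hzk⟩

/-- cycles as the kernel of the differential -/
noncomputable def cyclesEquivKer (p : ℤ) :
    P.cycles p ≃ₗ[A] LinearMap.ker (P.d p (p - 1)).hom :=
  (LinearEquiv.ofInjective (P.iCycles p).hom
    ((ModuleCat.mono_iff_injective _).mp inferInstance)).trans
    (LinearEquiv.ofEq _ _ (range_iCycles P p))

variable (hP : ∀ i, Module.Finite A (P.X i) ∧ Module.Projective A (P.X i))

include hP in
lemma flat_of_hP (i : ℤ) : Module.Flat A (P.X i) :=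
  haveI := (hP i).2
  inferInstance

include hP in
/-- right exactness of `T_p` makes the cokernel of `d : P_p → P_{p-1}` projective -/
theorem projective_quot_of_epi (p : ℤ) (he : (CohIII.TFun P p).PreservesEpimorphisms) :
    Module.Projective A (P.X (p - 1) ⧸ LinearMap.range (P.d p (p - 1)).hom) := by
  have hrel : (ComplexShape.down ℤ).Rel p (p - 1) := by simp
  haveI := (hP p).1
  haveI := (hP (p - 1)).1
  haveI := (hP (p - 1)).2
  haveI : Module.Flat A (P.X (p - 1) ⧸ LinearMap.range (P.d p (p - 1)).hom) :=
    (Groth.Agent.TFunRank5.mono_iff_flat_quot P (flat_of_hP P hP) p (p - 1) hrel).mp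
      ((Groth.Agent.Lib.TFunLESH7.main P (flat_of_hP P hP) p (p - 1) hrel).mp he)
  haveI := finitePresentation_quot_range (P.d p (p - 1)).hom
  exact Module.Flat.projective_of_finitePresentation

include hP in
/-- **finiteness of the homology** when `T_p` is right exact -/
theorem finite_homology_of_epi (p : ℤ) (he : (CohIII.TFun P p).PreservesEpimorphisms) :
    Module.Finite A (P.homology p) := by
  haveI := (hP p).1
  haveI := (hP (p - 1)).2
  haveI := projective_quot_of_epi P hP p he
  haveI := finite_ker_of_quot (P.d p (p - 1)).hom
  haveI : Module.Finite A (P.cycles p) := Module.Finite.equiv (cyclesEquivKer P p).symm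
  exact Module.Finite.of_surjective (P.homologyπ p).hom
    ((ModuleCat.epi_iff_surjective _).mp inferInstance)

include hP in
/-- finite presentation of the homology when `T_p` is right exact -/
theorem finitePresentation_homology_of_epi (p : ℤ)
    (he : (CohIII.TFun P p).PreservesEpimorphisms) :
    Module.FinitePresentation A (P.homology p) := by
  haveI := (hP p).1
  haveI := (hP p).2
  haveI := (hP (p + 1)).1
  haveI := (hP (p - 1)).2
  haveI := projective_quot_of_epi P hP p he
  haveI := finite_ker_of_quot (P.d p (p - 1)).hom
  haveI := projective_ker_of_quot (P.d p (p - 1)).hom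
  haveI : Module.FinitePresentation A (LinearMap.ker (P.d p (p - 1)).hom) :=
    Module.finitePresentation_of_projective A _
  haveI : Module.FinitePresentation A (P.cycles p) :=
    Module.FinitePresentation.of_equiv (cyclesEquivKer P p).symm
  refine Module.finitePresentation_of_surjective (P.homologyπ p).hom
    ((ModuleCat.epi_iff_surjective _).mp inferInstance) ?_
  have hprev : (ComplexShape.down ℤ).prev p = p + 1 := by simp
  have hk : LinearMap.ker (P.homologyπ p).hom =
      LinearMap.range (P.toCycles ((ComplexShape.down ℤ).prev p) p).hom := by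
    ext z
    rw [LinearMap.mem_ker, LinearMap.mem_range]
    exact Groth.Agent.HomologyColim.homologyπ_eq_zero_iff P p z
  rw [hk, LinearMap.range_eq_map]
  haveI : Module.Finite A (P.X ((ComplexShape.down ℤ).prev p)) := by
    rw [hprev]; infer_instance
  exact (Module.Finite.fg_top).map _

end Chain

end Groth.Agent.Lib.PBCH2
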