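import Mathlib
import Groth.Prelude
import Groth.Agent.Lib.PBCAlg1_helper2

/-!
# Local criteria for the functors `T_p` of a complex of finite projective modules over an arbitrary
ring (helper2).  APPEND-ONLY once landed.
-/

set_option autoImplicit false
set_option linter.style.haveILetI false
set_option linter.unusedSectionVars false
universe u
open CategoryTheory Limits TensorProduct MonoidalCategory

namespace Groth.Agent.Lib.PBCH2

section Local

variable {A : Type u} [CommRing A] (P : ChainComplex (ModuleCat.{u} A) ℤ)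
  (hP : ∀ i, Module.Finite A (P.X i) ∧ Module.Projective A (P.X i))

include hP in
lemma hP_flat : ∀ i, Module.Finite A (P.X i) ∧ Module.Flat A (P.X i) :=
  fun i => ⟨(hP i).1, flat_of_hP P hP i⟩

include hP in
lemma finite_TA_of_epi (p : ℤ) (he : (CohIII.TFun P p).PreservesEpimorphisms) :
    Module.Finite A ((CohIII.TFun P p).obj (ModuleCat.of A A)) :=
  haveI := finite_homology_of_epi P hP p he
  Module.Finite.equiv (Groth.Agent.TFunBCH5.homologyEquivTA P p)

variable [IsLocalRing A]

include hP in
theorem isZero_of_isZero_residue' (p : ℤ)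
    (hk : IsZero ((CohIII.TFun P p).obj (ModuleCat.of A (IsLocalRing.ResidueField A))))
    (M : ModuleCat.{u} A) : IsZero ((CohIII.TFun P p).obj M) := by
  have hPf : ∀ i, Module.Flat A (P.X i) := flat_of_hP P hP
  haveI : Subsingleton ((CohIII.TFun P p).obj (ModuleCat.of A (IsLocalRing.ResidueField A))) :=
    ModuleCat.subsingleton_of_isZero hk
  have hsurj : Function.Surjective ((CohIII.TFun P p).map
      (ModuleCat.ofHom (Algebra.linearMap A (IsLocalRing.ResidueField A)))).hom :=
    fun b => ⟨0, Subsingleton.elim _ _⟩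
  have hepi := (Groth.Agent.TFunLocal5.epi_iff_surjective P (hP_flat P hP) p).mpr hsurj
  obtain ⟨e⟩ := Groth.Agent.Lib.TFunEWH7.iso_of_epi P hPf p hepi
  haveI hfin : Module.Finite A ((CohIII.TFun P p).obj (ModuleCat.of A A)) :=
    finite_TA_of_epi P hP p hepi
  have h1 : Subsingleton (TensorProduct A ((CohIII.TFun P p).obj (ModuleCat.of A A))
      (IsLocalRing.ResidueField A)) := by
    have : IsZero ((tensorLeft ((CohIII.TFun P p).obj (ModuleCat.of A A))).obj
        (ModuleCat.of A (IsLocalRing.ResidueField A))) :=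
      IsZero.of_iso hk (e.app _)
    exact ModuleCat.subsingleton_of_isZero this
  have h2 : Subsingleton (TensorProduct A (IsLocalRing.ResidueField A)
      ((CohIII.TFun P p).obj (ModuleCat.of A A))) :=
    (TensorProduct.comm A _ _).toEquiv.subsingleton
  have h3 : Subsingleton ((CohIII.TFun P p).obj (ModuleCat.of A A)) :=
    IsLocalRing.subsingleton_tensorProduct.mp h2
  have h4 : Subsingleton (TensorProduct A ((CohIII.TFun P p).obj (ModuleCat.of A A)) M) :=
    inferInstance
  have h5 : IsZero ((tensorLeft ((CohIII.TFun P p).obj (ModuleCat.of A A))).obj M) := by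
    haveI : Subsingleton ((tensorLeft ((CohIII.TFun P p).obj (ModuleCat.of A A))).obj M) := h4
    exact ModuleCat.isZero_of_subsingleton _
  exact IsZero.of_iso h5 (e.app M).symm

include hP in
theorem s2410' (p : ℤ) :
    ((CohIII.TFun P p).PreservesMonomorphisms ∧ (CohIII.TFun P p).PreservesEpimorphisms) ↔
      ((CohIII.TFun P p).PreservesEpimorphisms ∧
        Module.Free A ((CohIII.TFun P p).obj (ModuleCat.of A A))) := by
  have hPf : ∀ i, Module.Flat A (P.X i) := flat_of_hP P hP
  constructor
  · rintro ⟨hm, he⟩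
    refine ⟨he, ?_⟩
    haveI := Groth.Agent.Lib.TFunEWH7.flat_TA_of_mono_epi P hPf p hm he
    haveI := finite_TA_of_epi P hP p he
    exact Module.free_of_flat_of_isLocalRing
  · rintro ⟨he, hfree⟩
    exact ⟨Groth.Agent.Lib.TFunEWH7.mono_of_epi_of_flat_TA P hPf p he inferInstance, he⟩

include hP in
theorem s2411' (p q r : ℤ) (hqp : q + 1 = p) (hpr : p + 1 = r)
    (hq : IsZero ((CohIII.TFun P q).obj (ModuleCat.of A (IsLocalRing.ResidueField A))))
    (hr : IsZero ((CohIII.TFun P r).obj (ModuleCat.of A (IsLocalRing.ResidueField A)))) :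
    ((CohIII.TFun P p).PreservesMonomorphisms ∧ (CohIII.TFun P p).PreservesEpimorphisms) ∧
      Module.Free A ((CohIII.TFun P p).obj (ModuleCat.of A A)) := by
  have hPf : ∀ i, Module.Flat A (P.X i) := flat_of_hP P hP
  have hq0 := isZero_of_isZero_residue' P hP q hq
  have hr0 := isZero_of_isZero_residue' P hP r hr
  have hmq : (CohIII.TFun P q).PreservesMonomorphisms :=
    ⟨fun {X Y} f _ => ⟨fun a b _ => (hq0 X).eq_of_tgt a b⟩⟩
  have her : (CohIII.TFun P r).PreservesEpimorphisms :=
    ⟨fun {X Y} f _ => ⟨fun a b _ => (hr0 Y).eq_of_src a b⟩⟩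
  have hep : (CohIII.TFun P p).PreservesEpimorphisms :=
    (Groth.Agent.Lib.TFunLESH7.main P hPf p q hqp).mpr hmq
  have hmp : (CohIII.TFun P p).PreservesMonomorphisms :=
    (Groth.Agent.Lib.TFunLESH7.main P hPf r p hpr).mp her
  exact ⟨⟨hmp, hep⟩, ((s2410' P hP p).mp ⟨hmp, hep⟩).2⟩

end Local

section Loc

variable {A : Type u} [CommRing A] (P : ChainComplex (ModuleCat.{u} A) ℤ)
  (hP : ∀ i, Module.Finite A (P.X i) ∧ Module.Projective A (P.X i))

include hP in
/-- base change keeps the terms finite projective -/
theorem finite_proj_bc (B : Type u) [CommRing B] [Algebra A B] (i : ℤ) :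
    Module.Finite B ((CohIII.bcCx (algebraMap A B) P).X i) ∧
      Module.Projective B ((CohIII.bcCx (algebraMap A B) P).X i) := by
  haveI := (hP i).1
  haveI := (hP i).2
  exact ⟨Module.Finite.equiv (Groth.Agent.ExtendScalarsLib.extendScalarsEquivTensor
    (S := B) (P.X i)).symm,
    Module.Projective.of_equiv (Groth.Agent.ExtendScalarsLib.extendScalarsEquivTensor
      (S := B) (P.X i)).symm⟩

include hP in
lemma finitePresentation_opcycles' (i : ℤ) : Module.FinitePresentation A (P.opcycles i) := by
  haveI := (hP i).1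
  haveI := (hP i).2
  haveI := (hP (i + 1)).1
  have hrel : (ComplexShape.down ℤ).Rel (i + 1) i := by simp
  haveI := finitePresentation_quot_range (P.d (i + 1) i).hom
  exact Module.FinitePresentation.of_equiv (Groth.Agent.TFunRank5.opcyclesEquivQuot P (i + 1) i hrel)

include hP in
theorem mono_loc_iff' (i : ℤ) (y : PrimeSpectrum A) :
    (CohIII.TFun (CohIII.bcCx (algebraMap A (Localization.AtPrime y.asIdeal)) P)
      i).PreservesMonomorphisms ↔ y ∈ Module.freeLocus A (P.opcycles i) := by
  rw [Groth.Agent.TFunBC5.mono_bc_iff P (flat_of_hP P hP) i,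
    Module.mem_freeLocus_iff_tensor y (Localization.AtPrime y.asIdeal)]
  haveI := (hP i).1
  haveI : Module.Finite A (P.opcycles i) := Module.Finite.of_surjective (P.pOpcycles i).hom
    ((ModuleCat.epi_iff_surjective _).mp inferInstance)
  constructor
  · intro h
    exact Module.free_of_flat_of_isLocalRing
  · intro h
    exact Module.Flat.of_free

include hP in
theorem epi_loc_iff' (p : ℤ) (y : PrimeSpectrum A) :
    (CohIII.TFun (CohIII.bcCx (algebraMap A (Localization.AtPrime y.asIdeal)) P)
      p).PreservesEpimorphisms ↔ y ∈ Module.freeLocus A (P.opcycles (p - 1)) := by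
  have hrel : (ComplexShape.down ℤ).Rel p (p - 1) := by simp
  rw [Groth.Agent.Lib.TFunLESH7.main _
    (Groth.Agent.TFunBC5.flat_bc_X P (flat_of_hP P hP)) p (p - 1) hrel, mono_loc_iff' P hP]

include hP in
/-- global exactness of `T_p` from exactness over all localizations -/
theorem exact_of_forall_loc' (p : ℤ)
    (hloc : ∀ x : PrimeSpectrum A,
      (CohIII.TFun (CohIII.bcCx (algebraMap A (Localization.AtPrime x.asIdeal)) P)
        p).PreservesMonomorphisms ∧
      (CohIII.TFun (CohIII.bcCx (algebraMap A (Localization.AtPrime x.asIdeal)) P)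
        p).PreservesEpimorphisms) :
    (CohIII.TFun P p).PreservesMonomorphisms ∧ (CohIII.TFun P p).PreservesEpimorphisms := by
  have hPf : ∀ i, Module.Flat A (P.X i) := flat_of_hP P hP
  have hfree1 : Module.freeLocus A (P.opcycles p) = Set.univ :=
    Set.eq_univ_of_forall fun x => (mono_loc_iff' P hP p x).mp (hloc x).1
  have hfree2 : Module.freeLocus A (P.opcycles (p - 1)) = Set.univ :=
    Set.eq_univ_of_forall fun x => (epi_loc_iff' P hP p x).mp (hloc x).2
  haveI := finitePresentation_opcycles' P hP p
  haveI := finitePresentation_opcycles' P hP (p - 1)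
  haveI hproj1 : Module.Projective A (P.opcycles p) := Module.freeLocus_eq_univ_iff.mp hfree1
  haveI hproj2 : Module.Projective A (P.opcycles (p - 1)) :=
    Module.freeLocus_eq_univ_iff.mp hfree2
  have hrel : (ComplexShape.down ℤ).Rel p (p - 1) := by simp
  refine ⟨(Groth.Agent.FlatCxLib.TFun_preservesMono_iff_flat_opcycles P p (hPf _)).mpr
    inferInstance, ?_⟩
  rw [Groth.Agent.Lib.TFunLESH7.main P hPf p (p - 1) hrel]
  exact (Groth.Agent.FlatCxLib.TFun_preservesMono_iff_flat_opcycles P (p - 1) (hPf _)).mpr
    inferInstance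

include hP in
/-- vanishing of the rank function at `x` gives the vanishing of `T_q` of the localized complex at
the residue field -/
theorem isZero_T_residue_of_dRank' (q : ℤ) (x : PrimeSpectrum A) (h : CohIII.dRank P q x = 0) :
    IsZero ((CohIII.TFun (CohIII.bcCx (algebraMap A (Localization.AtPrime x.asIdeal)) P) q).obj
      (ModuleCat.of (Localization.AtPrime x.asIdeal)
        (IsLocalRing.ResidueField (Localization.AtPrime x.asIdeal)))) := by
  have hcomp : (algebraMap (Localization.AtPrime x.asIdeal) x.asIdeal.ResidueField).comp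
      (algebraMap A (Localization.AtPrime x.asIdeal)) =
      (RingHom.id x.asIdeal.ResidueField).comp (algebraMap A x.asIdeal.ResidueField) := by
    ext a
    rfl
  have hfr : Module.finrank x.asIdeal.ResidueField
      ((CohIII.bcCx (algebraMap (Localization.AtPrime x.asIdeal) x.asIdeal.ResidueField)
        (CohIII.bcCx (algebraMap A (Localization.AtPrime x.asIdeal)) P)).homology q) = 0 := by
    rw [FiberRank9.finrank_homology_bc (algebraMap A (Localization.AtPrime x.asIdeal))
      (algebraMap (Localization.AtPrime x.asIdeal) x.asIdeal.ResidueField)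
      (algebraMap A x.asIdeal.ResidueField) (RingHom.id _) hcomp P q]
    exact h
  haveI := (finite_proj_bc P hP (Localization.AtPrime x.asIdeal) q).1
  haveI hfinX : Module.Finite x.asIdeal.ResidueField
      ((CohIII.bcCx (algebraMap (Localization.AtPrime x.asIdeal) x.asIdeal.ResidueField)
        (CohIII.bcCx (algebraMap A (Localization.AtPrime x.asIdeal)) P)).X q) :=
    Module.Finite.equiv (Groth.Agent.ExtendScalarsLib.extendScalarsEquivTensor
      (S := x.asIdeal.ResidueField)
      ((CohIII.bcCx (algebraMap A (Localization.AtPrime x.asIdeal)) P).X q)).symm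
  haveI : Module.Finite x.asIdeal.ResidueField
      ((CohIII.bcCx (algebraMap (Localization.AtPrime x.asIdeal) x.asIdeal.ResidueField)
        (CohIII.bcCx (algebraMap A (Localization.AtPrime x.asIdeal)) P)).homology q) :=
    Groth.Agent.Lib.TFunEWH7.finite_homology _ q
  haveI hsub : Subsingleton
      ((CohIII.bcCx (algebraMap (Localization.AtPrime x.asIdeal) x.asIdeal.ResidueField)
        (CohIII.bcCx (algebraMap A (Localization.AtPrime x.asIdeal)) P)).homology q) :=
    Module.finrank_zero_iff.mp hfr
  exact (Groth.Agent.TFunCmp5.isZero_bc_iff x.asIdeal.ResidueField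
    (CohIII.bcCx (algebraMap A (Localization.AtPrime x.asIdeal)) P) q).mp
    (ModuleCat.isZero_of_subsingleton _)

include hP in
/-- if the rank function vanishes at `x` then `T_q` of the localized complex vanishes -/
theorem isZero_T_loc_of_dRank (q : ℤ) (x : PrimeSpectrum A) (h : CohIII.dRank P q x = 0)
    (M : ModuleCat.{u} (Localization.AtPrime x.asIdeal)) :
    IsZero ((CohIII.TFun (CohIII.bcCx (algebraMap A (Localization.AtPrime x.asIdeal)) P) q).obj
      M) :=
  isZero_of_isZero_residue' _ (finite_proj_bc P hP (Localization.AtPrime x.asIdeal)) q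
    (isZero_T_residue_of_dRank' P hP q x h) M

include hP in
/-- if the rank functions in the two neighbouring degrees vanish identically then `T_p` is exact -/
theorem exact_of_dRank_zero' (p q r : ℤ) (hqp : q + 1 = p) (hpr : p + 1 = r)
    (hq : ∀ x : PrimeSpectrum A, CohIII.dRank P q x = 0)
    (hr : ∀ x : PrimeSpectrum A, CohIII.dRank P r x = 0) :
    (CohIII.TFun P p).PreservesMonomorphisms ∧ (CohIII.TFun P p).PreservesEpimorphisms := by
  apply exact_of_forall_loc' P hP p
  intro x
  exact (s2411' (CohIII.bcCx (algebraMap A (Localization.AtPrime x.asIdeal)) P)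
    (finite_proj_bc P hP (Localization.AtPrime x.asIdeal)) p q r hqp hpr
    (isZero_T_residue_of_dRank' P hP q x (hq x))
    (isZero_T_residue_of_dRank' P hP r x (hr x))).1

include hP in
/-- if the rank function in degree `q` vanishes identically then `T_q` is exact -/
theorem exact_of_dRank_self_zero (q : ℤ) (hq : ∀ x : PrimeSpectrum A, CohIII.dRank P q x = 0) :
    (CohIII.TFun P q).PreservesMonomorphisms ∧ (CohIII.TFun P q).PreservesEpimorphisms := by
  apply exact_of_forall_loc' P hP q
  intro x
  have h0 := isZero_T_loc_of_dRank P hP q x (hq x)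
  exact ⟨⟨fun {X Y} f _ => ⟨fun a b _ => (h0 X).eq_of_tgt a b⟩⟩,
    ⟨fun {X Y} f _ => ⟨fun a b _ => (h0 Y).eq_of_src a b⟩⟩⟩

include hP in
/-- if `T_p` is exact then `H_p(P)` is finite projective, of rank the rank function of `P` -/
theorem homology_facts_of_exact' (p : ℤ)
    (hex : (CohIII.TFun P p).PreservesMonomorphisms ∧ (CohIII.TFun P p).PreservesEpimorphisms) :
    Module.Finite A (P.homology p) ∧ Module.Projective A (P.homology p) ∧
      ∀ x : PrimeSpectrum A, Module.rankAtStalk (P.homology p) x = CohIII.dRank P p x := by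
  have hPf : ∀ i, Module.Flat A (P.X i) := flat_of_hP P hP
  haveI hfin : Module.Finite A (P.homology p) := finite_homology_of_epi P hP p hex.2
  obtain ⟨e⟩ := Groth.Agent.Lib.TFunEWH7.iso_of_epi P hPf p hex.2
  haveI := hex.1
  have hflTA : Module.Flat A ((CohIII.TFun P p).obj (ModuleCat.of A A)) :=
    Groth.Agent.Lib.TFunEWH7.flat_of_preservesMono_tensorLeft _
      (Functor.PreservesMonomorphisms.of_iso e.symm)
  haveI hfl : Module.Flat A (P.homology p) :=
    Module.Flat.of_linearEquiv (Groth.Agent.TFunBCH5.homologyEquivTA P p)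
  haveI : Module.FinitePresentation A (P.homology p) :=
    finitePresentation_homology_of_epi P hP p hex.2
  refine ⟨hfin, Module.Flat.projective_of_finitePresentation, fun x => ?_⟩
  rw [Module.rankAtStalk_eq, Groth.Agent.TFunBCH5.dRank_eq P hPf p hex.2 x]

include hP in
/-- if the rank function in degree `q` vanishes identically then `T_q = 0` -/
theorem isZero_T_of_dRank_zero (q : ℤ) (hq : ∀ x : PrimeSpectrum A, CohIII.dRank P q x = 0) :
    Subsingleton (P.homology q) ∧ ∀ M : ModuleCat.{u} A, IsZero ((CohIII.TFun P q).obj M) := by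
  have hex := exact_of_dRank_self_zero P hP q hq
  obtain ⟨hfin, hproj, hrank⟩ := homology_facts_of_exact' P hP q hex
  haveI := hfin
  haveI := hproj
  have h0 : Module.rankAtStalk (R := A) (P.homology q) = 0 := by
    funext x
    rw [hrank x, hq x]
    rfl
  have hsub : Subsingleton (P.homology q) := Module.rankAtStalk_eq_zero_iff_subsingleton.mp h0
  exact ⟨hsub, fun M => Groth.Agent.Lib.BCLocH2.isZero_T_of_epi_of_homology P
    (flat_of_hP P hP) q hex.2 hsub M⟩

end Loc

end Groth.Agent.Lib.PBCH2
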