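import Mathlib
import Groth.Prelude
import Groth.Agent.Lib.BCBase1_helper2
import Groth.Agent.Lib.PushEdgeNat_helper9
import Groth.Agent.Lib.PullFn2_helper2
import Groth.Agent.Lib.TFunLES_helper7

/-!
# Naturality of cohomology and base change, I: the Čech complex of `g'_* g'^* F` (helper2)

For `X' = X ×_{Spec A} Spec A'` with projection `g' : X' ⟶ X`, a finite affine cover `𝒰` of `X` with
affine intersections and `F` quasi-coherent on `X`: the complex `Č(𝒰, F) ⊗_A A'` is the Čech complex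
of `g'_* g'^* F` for the cover `𝒰` itself, compatibly with `c ↦ c ⊗ 1` / the unit `F ⟶ g'_* g'^* F`
and with multiplication by elements of `A'`.
APPEND-ONLY once landed.
-/

set_option autoImplicit false
set_option linter.style.haveILetI false
set_option linter.unusedSectionVars false
universe u
open CategoryTheory Limits AlgebraicGeometry TopologicalSpace Opposite TensorProduct

namespace Groth.Agent.Lib.PBCH2

open Groth.Agent.Lib.CechSite Groth.Agent.Lib.BCCechH2 Groth.Agent.Lib.BCSecH2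
  Groth.Agent.Lib.BCExtH2 Groth.Agent.Lib.BCCxH2 QcqsLoc Groth.Agent.Lib.FormalFnH2
  Groth.Agent.Lib.FlatBCH2 Groth.Agent.ExtendScalarsLib Groth.Agent.Lib.BCBaseH2

section Incl

variable {A : Type u} [CommRing A] {κ : Type} {c : ComplexShape κ}
  (P : HomologicalComplex (ModuleCat.{u} A) c)

/-- `x ↦ x ⊗ n` as a chain map `P ⟶ P ⊗ N` -/
noncomputable def inclT (N : ModuleCat.{u} A) (n : N) : P ⟶ CohIII.tensorObj P N where
  f i := ModuleCat.ofHom ((TensorProduct.mk A (P.X i) N).flip n)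
  comm' i j _ := ModuleCat.hom_ext (LinearMap.ext fun _ => rfl)

lemma inclT_f_apply (N : ModuleCat.{u} A) (n : N) (i : κ) (x : P.X i) :
    ((inclT P N n).f i).hom x = x ⊗ₜ[A] n := rfl

lemma inclT_tensorMap {N N' : ModuleCat.{u} A} (g : N ⟶ N') (n : N) :
    inclT P N n ≫ CohIII.tensorMap P g = inclT P N' (g.hom n) := by
  apply HomologicalComplex.hom_ext
  intro i
  exact ModuleCat.hom_ext (LinearMap.ext fun _ => rfl)

lemma inclT_add (N : ModuleCat.{u} A) (n n' : N) :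
    inclT P N (n + n') = inclT P N n + inclT P N n' := by
  apply HomologicalComplex.hom_ext
  intro i
  exact ModuleCat.hom_ext (LinearMap.ext fun x => TensorProduct.tmul_add x n n')

lemma inclT_smul (N : ModuleCat.{u} A) (a : A) (n : N) :
    inclT P N (a • n) = a • inclT P N n := by
  apply HomologicalComplex.hom_ext
  intro i
  exact ModuleCat.hom_ext (LinearMap.ext fun x => TensorProduct.tmul_smul a x n)

end Incl

section Cx

variable {A A' : Type u} [CommRing A] [CommRing A'] [Algebra A A']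
  {X X' : Scheme.{u}} [X.Over (Spec (CommRingCat.of A))] [X'.Over (Spec (CommRingCat.of A'))]
  {g' : X' ⟶ X}
  (hsq : IsPullback g' (X' ↘ Spec (CommRingCat.of A')) (X ↘ Spec (CommRingCat.of A))
    (Spec.map (CommRingCat.ofHom (algebraMap A A'))))
  {ι : Type u} [Fintype ι] [DecidableEq ι] (𝒰 : ι → X.Opens)
  (hU : ∀ s : Finset ι, s.Nonempty → IsAffineOpen (⨅ i ∈ s, 𝒰 i))
  (F : X.Modules) [F.IsQuasicoherent]

/-- `g'_* g'^* F` -/
noncomputable abbrev NN (g' : X' ⟶ X) (F : X.Modules) : X.Modules :=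
  (Scheme.Modules.pushforward g').obj (PB g' F)

/-- the unit `F ⟶ g'_* g'^* F` -/
noncomputable abbrev unitF (g' : X' ⟶ X) (F : X.Modules) : F ⟶ NN g' F :=
  (Scheme.Modules.pullbackPushforwardAdjunction g').unit.app F

variable (A') in
/-- the pullback of sections over an open, into the sections of `g'^* F` over its preimage -/
noncomputable def cP (V : X.Opens) : SecA A F V →+ SecA A' (PB g' F) (g' ⁻¹ᵁ V) :=
  AddMonoidHom.mk' (fun x => (show SecA A' (PB g' F) (g' ⁻¹ᵁ V) from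
      PBH8.cUV g' F (le_refl _) (show Γ(F, V) from x)))
    (fun x y => PBH8.cUV_add g' F _ x y)

lemma cP_apply (V : X.Opens) (x : SecA A F V) :
    cP A' (g' := g') F V x = (show SecA A' (PB g' F) (g' ⁻¹ᵁ V) from
      PBH8.cUV g' F (le_refl _) (show Γ(F, V) from x)) := rfl

lemma cP_res {V V' : X.Opens} (h : V' ≤ V) (y : SecA A F V) :
    cP A' (g' := g') F V' (resA A F h y) =
      resA A' (PB g' F) (g'.preimage_mono h) (cP A' F V y) :=
  Groth.Agent.Lib.LimMod.cUV_res_base g' F (le_refl _) (le_refl _) (g'.preimage_mono h) h y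

/-- the identification of the sections of `g'_* g'^* F` with those of `g'^* F` over the preimage -/
noncomputable def toNN (V : X.Opens) : SecA A' (PB g' F) (g' ⁻¹ᵁ V) ≃+ SecA A (NN g' F) V :=
  AddEquiv.refl Γ(PB g' F, g' ⁻¹ᵁ V)

lemma toNN_res {V V' : X.Opens} (h : V' ≤ V) (y : SecA A' (PB g' F) (g' ⁻¹ᵁ V)) :
    resA A (NN g' F) h (toNN (A := A) (A' := A') F V y) =
      toNN (A := A) (A' := A') F V' (resA A' (PB g' F) (g'.preimage_mono h) y) := rfl

/-- base change of the cochains, with values in the sections over the preimages -/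
noncomputable def EP (n : ℕ) : A' ⊗[A] (Cn A 𝒰 F n) ≃ₗ[A']
    (∀ σ : Fin (n + 1) → ι, SecA A' (PB g' F) (g' ⁻¹ᵁ VV 𝒰 σ)) :=
  (TensorProduct.piRight A A' A' (fun σ : Fin (n + 1) → ι => SecA A F (VV 𝒰 σ))).trans
    (LinearEquiv.piCongrRight fun σ => bcEquiv hsq F (isAffineOpen_T_left 𝒰 hU σ) rfl)

lemma EP_tmul (n : ℕ) (a' : A') (β : Cn A 𝒰 F n) (σ : Fin (n + 1) → ι) :
    EP hsq 𝒰 hU F n (a' ⊗ₜ[A] β) σ = a' • cP A' F (VV 𝒰 σ) (β σ) := by
  show bcEquiv hsq F (isAffineOpen_T_left 𝒰 hU σ) rfl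
    ((TensorProduct.piRight A A' A' (fun σ : Fin (n + 1) → ι => SecA A F (VV 𝒰 σ)))
      (a' ⊗ₜ[A] β) σ) = a' • cP A' F (VV 𝒰 σ) (β σ)
  rw [TensorProduct.piRight_apply, TensorProduct.piRightHom_tmul]
  exact bcEquiv_tmul hsq F _ _ a' (β σ)

/-- `Č^n(F) ⊗_A A' ≃ Č^n(g'_* g'^* F)` -/
noncomputable def ThetaBC (n : ℕ) : (Cn A 𝒰 F n) ⊗[A] A' ≃+ Cn A 𝒰 (NN g' F) n :=
  (TensorProduct.comm A (Cn A 𝒰 F n) A').toAddEquiv.trans
    ((EP hsq 𝒰 hU F n).toAddEquiv.trans
      (AddEquiv.piCongrRight fun σ => toNN (A := A) (A' := A') F (VV 𝒰 σ)))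

lemma ThetaBC_tmul (n : ℕ) (β : Cn A 𝒰 F n) (a' : A') (σ : Fin (n + 1) → ι) :
    ThetaBC hsq 𝒰 hU F n (β ⊗ₜ[A] a') σ =
      toNN (A := A) (A' := A') F (VV 𝒰 σ) (a' • cP A' F (VV 𝒰 σ) (β σ)) := by
  show toNN (A := A) (A' := A') F (VV 𝒰 σ) (EP hsq 𝒰 hU F n (a' ⊗ₜ[A] β) σ) = _
  rw [EP_tmul]

theorem ThetaBC_d (n : ℕ) (x : (Cn A 𝒰 F n) ⊗[A] A') :
    ThetaBC hsq 𝒰 hU F (n + 1) (LinearMap.rTensor A' (dA A 𝒰 F n) x) =
      dA A 𝒰 (NN g' F) n (ThetaBC hsq 𝒰 hU F n x) := by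
  induction x using TensorProduct.induction_on with
  | zero => rw [map_zero, map_zero, map_zero, map_zero]
  | add x y hx hy => rw [map_add, map_add, map_add, map_add, hx, hy]
  | tmul β a' =>
    funext σ
    rw [LinearMap.rTensor_tmul, ThetaBC_tmul, dA_apply, dA_apply, map_sum, Finset.smul_sum,
      map_sum]
    refine Finset.sum_congr rfl fun k _ => ?_
    rw [ThetaBC_tmul, toNN_res, map_zsmul, cP_res, smul_comm a', map_zsmul]
    congr 2
    exact ((resA A' (PB g' F) (g'.preimage_mono (face_le 𝒰 σ k))).map_smul a' _).symm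

end Cx

end Groth.Agent.Lib.PBCH2
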