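import Mathlib
import Groth.Prelude
import Groth.Agent.Lib.PBCNat1_helper2
import Groth.Agent.Lib.PBCAlg2_helper2
import Groth.Agent.Lib.TFunSmul_helper7
import Groth.Agent.Lib.HomologyColim_helper5

/-!
# The canonical map `H_p(P) ⊗ N → H_p(P ⊗ N)` and splittings up to an element (helper2)

APPEND-ONLY once landed.
-/

set_option autoImplicit false
set_option linter.style.haveILetI false
set_option linter.unusedSectionVars false
universe u
open CategoryTheory Limits TensorProduct MonoidalCategory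

namespace Groth.Agent.Lib.PBCH2

open Groth.Agent.HomologyColim

section Beta

variable {A : Type u} [CommRing A] {κ : Type} {c : ComplexShape κ}
  (P : HomologicalComplex (ModuleCat.{u} A) c) (p : κ)

/-- the canonical map `H_p(P) ⊗ N → H_p(P ⊗ N)` -/
noncomputable def betaT (N : ModuleCat.{u} A) :
    P.homology p ⊗[A] N →ₗ[A] (CohIII.TFun P p).obj N :=
  TensorProduct.lift (LinearMap.mk₂ A
    (fun (x : P.homology p) (n : N) =>
      ((HomologicalComplex.homologyMap (inclT P N n) p).hom x : (CohIII.TFun P p).obj N))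
    (fun x x' n => map_add _ x x')
    (fun a x n => map_smul _ a x)
    (fun x n n' => by
      rw [inclT_add, HomologicalComplex.homologyMap_add]
      rfl)
    (fun a x n => by
      rw [inclT_smul, Groth.Agent.Lib.TFunSmulH7.homologyMap_smul]
      rfl))

lemma betaT_tmul (N : ModuleCat.{u} A) (x : P.homology p) (n : N) :
    betaT P p N (x ⊗ₜ[A] n) = (HomologicalComplex.homologyMap (inclT P N n) p).hom x := rfl

/-- multiplication by `g` is bijective on `H ⊗ N` if it is on `N` -/
lemma smul_bijective_tensor (H : Type u) [AddCommGroup H] [Module A H] (N : Type u)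
    [AddCommGroup N] [Module A N] (g : A) (hN : Function.Bijective (fun n : N => g • n)) :
    Function.Bijective (fun ξ : H ⊗[A] N => g • ξ) := by
  let e : N ≃ₗ[A] N := LinearEquiv.ofBijective (g • LinearMap.id) hN
  have h : (fun ξ : H ⊗[A] N => g • ξ) = ⇑(e.lTensor H) := by
    funext ξ
    induction ξ using TensorProduct.induction_on with
    | zero => simp
    | tmul x n =>
      show g • (x ⊗ₜ[A] n) = x ⊗ₜ[A] (g • n)
      rw [TensorProduct.tmul_smul]
    | add x y hx hy =>
      simp only [smul_add, map_add] at hx hy ⊢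
      rw [hx, hy]
  rw [h]
  exact (e.lTensor H).bijective

/-- multiplication by `g` is bijective on `T_p(N)` if it is on `N` -/
lemma smul_bijective_T (N : ModuleCat.{u} A) (g : A)
    (hN : Function.Bijective (fun n : N => g • n)) :
    Function.Bijective (fun w : (CohIII.TFun P p).obj N => g • w) := by
  have hh : ∀ n : N, (g • 𝟙 N : N ⟶ N).hom n = g • n := by
    intro n
    rw [ModuleCat.hom_smul, ModuleCat.hom_id]
    rfl
  haveI : IsIso (g • 𝟙 N : N ⟶ N) := by
    rw [ConcreteCategory.isIso_iff_bijective]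
    have : ⇑(ConcreteCategory.hom (g • 𝟙 N : N ⟶ N)) = fun n : N => g • n := funext hh
    rw [this]
    exact hN
  have h1 : IsIso ((CohIII.TFun P p).map (g • 𝟙 N)) := inferInstance
  rw [Groth.Agent.Lib.TFunSmulH7.TFun_map_smul] at h1
  have h2 := (ConcreteCategory.isIso_iff_bijective _).mp h1
  have h3 : ⇑(ConcreteCategory.hom (g • 𝟙 ((CohIII.TFun P p).obj N) :
      (CohIII.TFun P p).obj N ⟶ (CohIII.TFun P p).obj N)) =
      fun w : (CohIII.TFun P p).obj N => g • w := by
    funext w
    show (g • 𝟙 ((CohIII.TFun P p).obj N) : (CohIII.TFun P p).obj N ⟶ _).hom w = g • w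
    rw [ModuleCat.hom_smul, ModuleCat.hom_id]
    rfl
  rw [h3] at h2
  exact h2

/-- the comparison of cycles `Z_p(P) ⊗ N ⟶ Z_p(P ⊗ N)` -/
noncomputable def cycT (N : ModuleCat.{u} A) :
    P.cycles p ⊗ N ⟶ (CohIII.tensorObj P N).cycles p :=
  (CohIII.tensorObj P N).liftCycles (P.iCycles p ▷ N) (c.next p) rfl (by
    show P.iCycles p ▷ N ≫ P.d p (c.next p) ▷ N = 0
    rw [← comp_whiskerRight, P.iCycles_d, MonoidalPreadditive.zero_whiskerRight])

lemma cycT_i (N : ModuleCat.{u} A) :
    cycT P p N ≫ (CohIII.tensorObj P N).iCycles p = P.iCycles p ▷ N :=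
  (CohIII.tensorObj P N).liftCycles_i _ _ _ _

lemma cycT_tmul (N : ModuleCat.{u} A) (z : P.cycles p) (n : N) :
    (cycT P p N).hom (z ⊗ₜ[A] n) = (HomologicalComplex.cyclesMap (inclT P N n) p).hom z := by
  apply iCycles_injective (CohIII.tensorObj P N) p
  have h1 := congrArg (fun φ => φ.hom (z ⊗ₜ[A] n)) (cycT_i P p N)
  have h2 := iCycles_cyclesMap (inclT P N n) p z
  exact h1.trans h2.symm

/-- the key square relating `betaT` with the cycles -/
lemma betaT_homologyπ (N : ModuleCat.{u} A) (ζ : (P.cycles p ⊗ N : ModuleCat.{u} A)) :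
    betaT P p N ((P.homologyπ p ▷ N).hom ζ) =
      ((CohIII.tensorObj P N).homologyπ p).hom ((cycT P p N).hom ζ) := by
  induction ζ using TensorProduct.induction_on with
  | zero =>
    rw [map_zero, map_zero, map_zero, map_zero]
    rfl
  | tmul z n =>
    rw [cycT_tmul]
    show betaT P p N ((P.homologyπ p).hom z ⊗ₜ[A] n) = _
    rw [betaT_tmul]
    exact homologyMap_homologyπ (inclT P N n) p z
  | add x y hx hy =>
    rw [map_add, map_add, map_add, map_add, hx, hy]
    rfl

end Beta

section GSplit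

variable {A : Type u} [CommRing A]

lemma wr_comp {L M Q : ModuleCat.{u} A} (f : L ⟶ M) (g : M ⟶ Q) (N : ModuleCat.{u} A)
    (x : (L ⊗ N : ModuleCat.{u} A)) :
    ((f ≫ g) ▷ N).hom x = (g ▷ N).hom ((f ▷ N).hom x) := by
  rw [comp_whiskerRight]
  rfl

lemma wr_smul {L M : ModuleCat.{u} A} (a : A) (f : L ⟶ M) (N : ModuleCat.{u} A)
    (x : (L ⊗ N : ModuleCat.{u} A)) :
    ((a • f) ▷ N).hom x = a • (f ▷ N).hom x := by
  rw [MonoidalLinear.smul_whiskerRight]
  rfl

lemma wr_add {L M : ModuleCat.{u} A} (f f' : L ⟶ M) (N : ModuleCat.{u} A)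
    (x : (L ⊗ N : ModuleCat.{u} A)) :
    ((f + f') ▷ N).hom x = (f ▷ N).hom x + (f' ▷ N).hom x := by
  rw [MonoidalPreadditive.add_whiskerRight]
  rfl

lemma wr_id (L N : ModuleCat.{u} A) (x : (L ⊗ N : ModuleCat.{u} A)) :
    ((𝟙 L) ▷ N).hom x = x := by
  rw [id_whiskerRight]
  rfl

lemma wr_zero (L M N : ModuleCat.{u} A) (x : (L ⊗ N : ModuleCat.{u} A)) :
    ((0 : L ⟶ M) ▷ N).hom x = 0 := by
  rw [MonoidalPreadditive.zero_whiskerRight]
  rfl

variable {κ : Type} {c : ComplexShape κ}
  (P : HomologicalComplex (ModuleCat.{u} A) c) (p : κ)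

/-- a splitting up to the element `g` of the complex `P` in degree `p` -/
def HasGSplit (g : A) : Prop :=
  ∃ (ρ : P.X p ⟶ P.cycles p) (r : P.X (c.next p) ⟶ P.X p),
    P.iCycles p ≫ ρ = g • 𝟙 _ ∧ ρ ≫ P.iCycles p + P.d p (c.next p) ≫ r = g • 𝟙 _

lemma HasGSplit.mul {g : A} (h : HasGSplit P p g) (g' : A) : HasGSplit P p (g' * g) := by
  obtain ⟨ρ, r, h1, h2⟩ := h
  refine ⟨g' • ρ, g' • r, ?_, ?_⟩
  · rw [Linear.comp_smul, h1, smul_smul]
  · rw [Linear.smul_comp, Linear.comp_smul, ← smul_add, h2, smul_smul]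

set_option maxHeartbeats 1600000 in
/-- **base change for a complex split up to `g`**: if `g` acts bijectively on `N` then
`H_p(P) ⊗ N → H_p(P ⊗ N)` is bijective -/
theorem betaT_bijective_of_hasGSplit (g : A) (hs : HasGSplit P p g) (N : ModuleCat.{u} A)
    (hN : Function.Bijective (fun n : N => g • n)) : Function.Bijective (betaT P p N) := by
  obtain ⟨ρ, r, h1, h2⟩ := hs
  constructor
  · -- injective
    rw [injective_iff_map_eq_zero]
    intro ξ hξ
    have hsurj : Function.Surjective (P.homologyπ p ▷ N).hom := by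
      show Function.Surjective ((P.homologyπ p).hom.rTensor N)
      exact LinearMap.rTensor_surjective N ((ModuleCat.epi_iff_surjective _).mp inferInstance)
    obtain ⟨ζ, rfl⟩ := hsurj ξ
    rw [betaT_homologyπ] at hξ
    obtain ⟨θ, hθ⟩ := (homologyπ_eq_zero_iff (CohIII.tensorObj P N) p _).mp hξ
    have h3 : (P.d (c.prev p) p ▷ N).hom θ = (P.iCycles p ▷ N).hom ζ := by
      have e1 := iCycles_toCycles (CohIII.tensorObj P N) p θ
      have e2 := congrArg (fun φ => φ.hom ζ) (cycT_i P p N)
      have e3 := congrArg (fun z => ((CohIII.tensorObj P N).iCycles p).hom z) hθ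
      exact e1.symm.trans (e3.trans e2)
    have e2 : P.d (c.prev p) p ≫ ρ = g • P.toCycles (c.prev p) p := by
      rw [← P.toCycles_i (c.prev p) p, Category.assoc, h1, Linear.comp_smul, Category.comp_id]
    have e3 : (ρ ▷ N).hom ((P.d (c.prev p) p ▷ N).hom θ) =
        g • (P.toCycles (c.prev p) p ▷ N).hom θ := by
      rw [← wr_comp, e2, wr_smul]
    have e4 : (ρ ▷ N).hom ((P.iCycles p ▷ N).hom ζ) = g • ζ := by
      rw [← wr_comp, h1, wr_smul, wr_id]
    have h4 : g • ζ = g • (P.toCycles (c.prev p) p ▷ N).hom θ := by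
      rw [← e4, ← e3, h3]
    have e5 : (P.homologyπ p ▷ N).hom ((P.toCycles (c.prev p) p ▷ N).hom θ) = 0 := by
      rw [← wr_comp, P.toCycles_comp_homologyπ, wr_zero]
    have h5 : g • (P.homologyπ p ▷ N).hom ζ = g • (0 : P.homology p ⊗[A] N) := by
      rw [← map_smul, h4, map_smul, e5]
    exact (smul_bijective_tensor (P.homology p) N g hN).1 h5
  · -- surjective
    intro w
    obtain ⟨w', hw'⟩ := (smul_bijective_T P p N g hN).2 w
    obtain ⟨z', hz'⟩ := exists_homologyπ_eq (CohIII.tensorObj P N) p w'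
    have hc₀ : (P.d p (c.next p) ▷ N).hom (((CohIII.tensorObj P N).iCycles p).hom z') = 0 :=
      congrArg (fun φ => φ.hom z') ((CohIII.tensorObj P N).iCycles_d p (c.next p))
    refine ⟨(P.homologyπ p ▷ N).hom
      ((ρ ▷ N).hom (((CohIII.tensorObj P N).iCycles p).hom z')), ?_⟩
    rw [betaT_homologyπ]
    have hcyc : (cycT P p N).hom ((ρ ▷ N).hom (((CohIII.tensorObj P N).iCycles p).hom z')) =
        g • z' := by
      apply iCycles_injective (CohIII.tensorObj P N) p
      have e1 := congrArg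
        (fun φ => φ.hom ((ρ ▷ N).hom (((CohIII.tensorObj P N).iCycles p).hom z')))
        (cycT_i P p N)
      have e2 : ((ρ ≫ P.iCycles p + P.d p (c.next p) ≫ r) ▷ N).hom
          (((CohIII.tensorObj P N).iCycles p).hom z') =
          ((g • 𝟙 (P.X p)) ▷ N).hom (((CohIII.tensorObj P N).iCycles p).hom z') := by
        rw [h2]
      rw [wr_add, wr_comp, wr_comp, wr_smul, wr_id, hc₀, map_zero, add_zero] at e2
      have e3 : ((CohIII.tensorObj P N).iCycles p).hom (g • z') =
          g • ((CohIII.tensorObj P N).iCycles p).hom z' := map_smul _ _ _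
      exact e1.trans (e2.trans e3.symm)
    rw [hcyc, map_smul]
    show g • ((CohIII.tensorObj P N).homologyπ p).hom z' = w
    have hz'' : ((CohIII.tensorObj P N).homologyπ p).hom z' = w' := hz'
    rw [hz'']
    exact hw'

end GSplit

end Groth.Agent.Lib.PBCH2
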