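import Mathlib
import Groth.Prelude
import Groth.Agent.Lib.PBCAlg3_helper2

/-!
# Free loci of cokernels and splittings up to an element (helper2)

APPEND-ONLY once landed.
-/

set_option autoImplicit false
set_option linter.style.haveILetI false
set_option linter.unusedSectionVars false
universe u
open CategoryTheory Limits TensorProduct MonoidalCategory

namespace Groth.Agent.Lib.PBCH2

section ModuleLevel

variable {A : Type u} [CommRing A]

/-- a surjection onto a finitely presented module which is free at `y` has a section up to an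
element outside `y` -/
theorem exists_smul_section_of_mem_freeLocus {X W : Type u} [AddCommGroup X] [Module A X]
    [AddCommGroup W] [Module A W] [Module.FinitePresentation A W] (π : X →ₗ[A] W)
    (hπ : Function.Surjective π) (y : PrimeSpectrum A) (hy : y ∈ Module.freeLocus A W) :
    ∃ (h : W →ₗ[A] X) (g : A), g ∉ y.asIdeal ∧ π ∘ₗ h = g • LinearMap.id := by
  let S := y.asIdeal.primeCompl
  haveI : Module.Free (Localization.AtPrime y.asIdeal) (LocalizedModule S W) :=
    Module.mem_freeLocus.mp hy
  obtain ⟨σ, hσ⟩ := Module.projective_lifting_property (LocalizedModule.map S π) LinearMap.id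
    (LocalizedModule.map_surjective S π hπ)
  obtain ⟨⟨h, s⟩, hhs⟩ := IsLocalizedModule.surj S (LocalizedModule.map S (M := W) (N := X)) σ
  have hcmp : LocalizedModule.map S (π ∘ₗ h) =
      LocalizedModule.map S ((s : A) • (LinearMap.id : W →ₗ[A] W)) := by
    apply LinearMap.ext
    intro x
    induction x using LocalizedModule.induction_on with
    | h w t =>
      rw [LocalizedModule.map_mk, LocalizedModule.map_mk]
      have e1 : (s • σ) (LocalizedModule.mk w t) = LocalizedModule.mk (h w) t := by
        have := congrArg (fun φ => φ (LocalizedModule.mk w t)) hhs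
        simpa using this
      have e2 : LocalizedModule.map S π (σ (LocalizedModule.mk w t)) = LocalizedModule.mk w t :=
        congrArg (fun φ => φ (LocalizedModule.mk w t)) hσ
      have e3 : LocalizedModule.map S π (LocalizedModule.mk (h w) t) =
          LocalizedModule.mk (π (h w)) t := LocalizedModule.map_mk S π (h w) t
      show LocalizedModule.mk (π (h w)) t = LocalizedModule.mk ((s : A) • w) t
      rw [← e3, ← e1]
      show LocalizedModule.map S π ((s : A) • σ (LocalizedModule.mk w t)) = _
      rw [LinearMap.map_smul_of_tower, e2, LocalizedModule.smul'_mk]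
  obtain ⟨t, ht⟩ := IsLocalizedModule.exists_of_eq (S := S)
    (f := LocalizedModule.map S (M := W) (N := W)) hcmp
  refine ⟨(t : A) • h, (t : A) * (s : A), ?_, ?_⟩
  · exact S.mul_mem t.2 s.2
  · rw [LinearMap.comp_smul, mul_smul]
    exact ht

end ModuleLevel

section Sections

variable {A : Type u} [CommRing A] {κ : Type} {c : ComplexShape κ}
  (P : HomologicalComplex (ModuleCat.{u} A) c)

/-- a section up to `g` of `P_q → coker(d : P_p → P_q)` gives a splitting of `P` up to `g` in
degree `p` -/
theorem hasGSplit_of_section (p q : κ) (hrel : c.Rel p q) [Module.Projective A (P.X q)]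
    (g : A) (s : P.opcycles q ⟶ P.X q) (hs : s ≫ P.pOpcycles q = g • 𝟙 _) :
    HasGSplit P p g := by
  obtain rfl : c.next p = q := c.next_eq' hrel
  haveI : Projective (P.X (c.next p)) := by
    have h : Projective (ModuleCat.of A (P.X (c.next p))) :=
      (IsProjective.iff_projective (R := A) (P := P.X (c.next p))).mp inferInstance
    exact h
  let e : P.X (c.next p) ⟶ P.X (c.next p) := g • 𝟙 _ - P.pOpcycles (c.next p) ≫ s
  have he : e ≫ P.pOpcycles (c.next p) = 0 := by
    show (g • 𝟙 _ - P.pOpcycles (c.next p) ≫ s) ≫ P.pOpcycles (c.next p) = 0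
    rw [Preadditive.sub_comp, Linear.smul_comp, Category.id_comp, Category.assoc, hs,
      Linear.comp_smul, Category.comp_id, sub_self]
  let S : ShortComplex (ModuleCat.{u} A) :=
    ShortComplex.mk (P.d p (c.next p)) (P.pOpcycles (c.next p)) (P.d_pOpcycles p (c.next p))
  have hS : S.Exact :=
    ShortComplex.exact_of_g_is_cokernel _ (P.opcyclesIsCokernel p (c.next p) (c.prev_eq' hrel))
  haveI : Epi S.g := inferInstanceAs (Epi (P.pOpcycles (c.next p)))
  let r : P.X (c.next p) ⟶ P.X p := hS.liftFromProjective e he
  have hr : r ≫ P.d p (c.next p) = e := hS.liftFromProjective_comp e he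
  let τ : P.X p ⟶ P.X p := g • 𝟙 _ - P.d p (c.next p) ≫ r
  have hτ : τ ≫ P.d p (c.next p) = 0 := by
    show (g • 𝟙 _ - P.d p (c.next p) ≫ r) ≫ P.d p (c.next p) = 0
    rw [Preadditive.sub_comp, Linear.smul_comp, Category.id_comp, Category.assoc, hr]
    show g • P.d p (c.next p) - P.d p (c.next p) ≫ (g • 𝟙 _ - P.pOpcycles (c.next p) ≫ s) = 0
    rw [Preadditive.comp_sub, Linear.comp_smul, Category.comp_id, ← Category.assoc,
      P.d_pOpcycles, zero_comp, sub_zero, sub_self]
  refine ⟨P.liftCycles τ (c.next p) rfl hτ, r, ?_, ?_⟩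
  · rw [← cancel_mono (P.iCycles p), Category.assoc, P.liftCycles_i]
    show P.iCycles p ≫ (g • 𝟙 _ - P.d p (c.next p) ≫ r) = _
    rw [Preadditive.comp_sub, Linear.comp_smul, Category.comp_id, ← Category.assoc,
      P.iCycles_d, zero_comp, sub_zero, Linear.smul_comp, Category.id_comp]
  · rw [P.liftCycles_i]
    show (g • 𝟙 _ - P.d p (c.next p) ≫ r) + P.d p (c.next p) ≫ r = _
    rw [sub_add_cancel]

end Sections

section Chain

variable {A : Type u} [CommRing A] (P : ChainComplex (ModuleCat.{u} A) ℤ)
  (hP : ∀ i, Module.Finite A (P.X i) ∧ Module.Projective A (P.X i))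

include hP in
/-- if `T_p` is right exact then `P` is split in degree `p` -/
theorem hasGSplit_one_of_epi (p : ℤ) (he : (CohIII.TFun P p).PreservesEpimorphisms) :
    HasGSplit P p 1 := by
  have hPf : ∀ i, Module.Flat A (P.X i) := flat_of_hP P hP
  have hrel : (ComplexShape.down ℤ).Rel p (p - 1) := by simp
  have hm := (Groth.Agent.Lib.TFunLESH7.main P hPf p (p - 1) hrel).mp he
  haveI hfl : Module.Flat A (P.opcycles (p - 1)) :=
    (Groth.Agent.FlatCxLib.TFun_preservesMono_iff_flat_opcycles P (p - 1) (hPf _)).mp hm
  haveI := finitePresentation_opcycles' P hP (p - 1)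
  haveI : Module.Projective A (P.opcycles (p - 1)) := Module.Flat.projective_of_finitePresentation
  haveI := (hP (p - 1)).2
  obtain ⟨h, hh⟩ := Module.projective_lifting_property (P.pOpcycles (p - 1)).hom LinearMap.id
    ((ModuleCat.epi_iff_surjective _).mp inferInstance)
  refine hasGSplit_of_section P p (p - 1) hrel 1 (ModuleCat.ofHom h) ?_
  rw [one_smul]
  apply ModuleCat.hom_ext
  exact hh

include hP in
/-- if the cokernel of `d : P_p → P_{p-1}` is free at `y` then `P` is split in degree `p` up to an
element outside `y` -/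
theorem exists_hasGSplit_of_mem_freeLocus (p : ℤ) (y : PrimeSpectrum A)
    (hy : y ∈ Module.freeLocus A (P.opcycles (p - 1))) :
    ∃ g : A, g ∉ y.asIdeal ∧ HasGSplit P p g := by
  have hrel : (ComplexShape.down ℤ).Rel p (p - 1) := by simp
  haveI := finitePresentation_opcycles' P hP (p - 1)
  haveI := (hP (p - 1)).2
  obtain ⟨h, g, hg, hh⟩ := exists_smul_section_of_mem_freeLocus (P.pOpcycles (p - 1)).hom
    ((ModuleCat.epi_iff_surjective _).mp inferInstance) y hy
  refine ⟨g, hg, hasGSplit_of_section P p (p - 1) hrel g (ModuleCat.ofHom h) ?_⟩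
  apply ModuleCat.hom_ext
  have e : (g • 𝟙 (P.opcycles (p - 1)) : P.opcycles (p - 1) ⟶ P.opcycles (p - 1)).hom =
      g • LinearMap.id := by
    rw [ModuleCat.hom_smul, ModuleCat.hom_id]
  rw [e]
  exact hh

end Chain

section FreeLocus

variable {A : Type u} [CommRing A]

/-- injectivity of `K' ⊗ ι` implies that of `k ⊗ ι` when `k` is a retract of `K'` -/
lemma lTensor_injective_of_retract {k K' M N : Type*} [AddCommGroup k] [Module A k]
    [AddCommGroup K'] [Module A K'] [AddCommGroup M] [Module A M] [AddCommGroup N] [Module A N]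
    (i : k →ₗ[A] K') (r : K' →ₗ[A] k) (hri : r ∘ₗ i = LinearMap.id) (ι : M →ₗ[A] N)
    (h : Function.Injective (ι.lTensor K')) : Function.Injective (ι.lTensor k) := by
  intro x x' hx
  have e : ∀ z, (ι.lTensor K') ((i.rTensor M) z) = (i.rTensor N) ((ι.lTensor k) z) := by
    intro z
    rw [← LinearMap.comp_apply, ← LinearMap.comp_apply, LinearMap.lTensor_comp_rTensor,
      LinearMap.rTensor_comp_lTensor]
  have h1 : (ι.lTensor K') ((i.rTensor M) x) = (ι.lTensor K') ((i.rTensor M) x') := by
    rw [e, e, hx]
  have h2 := h h1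
  have h3 : ∀ z, (r.rTensor M) ((i.rTensor M) z) = z := by
    intro z
    rw [← LinearMap.comp_apply, ← LinearMap.rTensor_comp, hri, LinearMap.rTensor_id]
    rfl
  rw [← h3 x, ← h3 x', h2]

set_option maxHeartbeats 1600000 in
/-- **free locus of a cokernel**: if `K' ⊗ im(l) → K' ⊗ N` is injective for a field `K'` over `A`,
then `coker l` is free at the kernel of `A → K'` -/
theorem mem_freeLocus_quot_of_injective {M N : Type u} [AddCommGroup M] [Module A M]
    [AddCommGroup N] [Module A N] [Module.Finite A M] [Module.Finite A N] [Module.Free A N]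
    (l : M →ₗ[A] N) (K' : Type u) [Field K'] [Algebra A K']
    (hinj : Function.Injective ((LinearMap.range l).subtype.lTensor K'))
    (y : PrimeSpectrum A) (hker : RingHom.ker (algebraMap A K') = y.asIdeal) :
    y ∈ Module.freeLocus A (N ⧸ LinearMap.range l) := by
  -- the residue field is a retract of `K'`
  let φ : y.asIdeal.ResidueField →+* K' :=
    Ideal.ResidueField.lift y.asIdeal (algebraMap A K') (le_of_eq hker.symm) (by
      intro a ha
      show IsUnit (algebraMap A K' a)
      exact IsUnit.mk0 _ (fun h0 => ha (hker ▸ RingHom.mem_ker.mpr h0)))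
  letI : Algebra y.asIdeal.ResidueField K' := φ.toAlgebra
  haveI : IsScalarTower A y.asIdeal.ResidueField K' :=
    IsScalarTower.of_algebraMap_eq (fun a =>
      (Ideal.ResidueField.lift_algebraMap y.asIdeal (algebraMap A K') _ _ a).symm)
  let i : y.asIdeal.ResidueField →ₗ[y.asIdeal.ResidueField] K' := Algebra.linearMap _ _
  have hi : LinearMap.ker i = ⊥ := LinearMap.ker_eq_bot.mpr φ.injective
  obtain ⟨r, hr⟩ := LinearMap.exists_leftInverse_of_injective i hi
  have hk : Function.Injective
      ((LinearMap.range l).subtype.lTensor y.asIdeal.ResidueField) :=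
    lTensor_injective_of_retract (i.restrictScalars A) (r.restrictScalars A)
      (LinearMap.ext fun z => LinearMap.congr_fun hr z) _ hinj
  -- freeness over the local ring
  rw [Module.mem_freeLocus_iff_tensor y (Localization.AtPrime y.asIdeal)]
  let f : Localization.AtPrime y.asIdeal ⊗[A] (LinearMap.range l) →ₗ[Localization.AtPrime y.asIdeal]
      Localization.AtPrime y.asIdeal ⊗[A] N :=
    (LinearMap.range l).subtype.baseChange (Localization.AtPrime y.asIdeal)
  let g : Localization.AtPrime y.asIdeal ⊗[A] N →ₗ[Localization.AtPrime y.asIdeal]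
      Localization.AtPrime y.asIdeal ⊗[A] (N ⧸ LinearMap.range l) :=
    (LinearMap.range l).mkQ.baseChange (Localization.AtPrime y.asIdeal)
  have hg : Function.Surjective g := by
    show Function.Surjective ⇑((LinearMap.range l).mkQ.baseChange (Localization.AtPrime y.asIdeal))
    rw [LinearMap.baseChange_eq_ltensor]
    exact LinearMap.lTensor_surjective _ (Submodule.mkQ_surjective _)
  have hfg : Function.Exact f g := by
    show Function.Exact
      ⇑((LinearMap.range l).subtype.baseChange (Localization.AtPrime y.asIdeal))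
      ⇑((LinearMap.range l).mkQ.baseChange (Localization.AtPrime y.asIdeal))
    rw [LinearMap.baseChange_eq_ltensor, LinearMap.baseChange_eq_ltensor]
    exact lTensor_exact _ (LinearMap.exact_subtype_mkQ _) (Submodule.mkQ_surjective _)
  refine Module.free_of_lTensor_residueField_injective f g hg hfg ?_
  -- the comparison with `k ⊗_A -`
  have key : ∀ z : y.asIdeal.ResidueField ⊗[Localization.AtPrime y.asIdeal]
      (Localization.AtPrime y.asIdeal ⊗[A] (LinearMap.range l)),
      TensorProduct.AlgebraTensorModule.cancelBaseChange A (Localization.AtPrime y.asIdeal)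
        (Localization.AtPrime y.asIdeal) y.asIdeal.ResidueField N
        ((f.lTensor y.asIdeal.ResidueField) z) =
      ((LinearMap.range l).subtype.lTensor y.asIdeal.ResidueField)
        (TensorProduct.AlgebraTensorModule.cancelBaseChange A (Localization.AtPrime y.asIdeal)
          (Localization.AtPrime y.asIdeal) y.asIdeal.ResidueField (LinearMap.range l) z) := by
    intro z
    induction z using TensorProduct.induction_on with
    | zero => simp
    | tmul q w =>
      induction w using TensorProduct.induction_on with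
      | zero => simp
      | tmul s m => rfl
      | add w w' hw hw' =>
        rw [TensorProduct.tmul_add, map_add, map_add, map_add, map_add, hw, hw']
    | add z z' hz hz' =>
      rw [map_add, map_add, map_add, map_add, hz, hz']
  intro z z' hzz
  have h1 := congrArg (TensorProduct.AlgebraTensorModule.cancelBaseChange A
    (Localization.AtPrime y.asIdeal) (Localization.AtPrime y.asIdeal)
    y.asIdeal.ResidueField N) hzz
  rw [key, key] at h1
  exact (TensorProduct.AlgebraTensorModule.cancelBaseChange A (Localization.AtPrime y.asIdeal)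
    (Localization.AtPrime y.asIdeal) y.asIdeal.ResidueField (LinearMap.range l)).injective
    (hk h1)

end FreeLocus

section Span

open Groth.Agent.HomologyColim

variable {A : Type u} [CommRing A] {κ : Type} {c : ComplexShape κ}
  (P : HomologicalComplex (ModuleCat.{u} A) c)

set_option maxHeartbeats 1600000 in
/-- if `H_p(P) ⊗ K' → H_p(P ⊗ K')` is surjective for a field `K'` over `A` then the cokernel of
`d : P_p → P_q` is free at the kernel of `A → K'` -/
theorem mem_freeLocus_of_betaT_surjective (p q : κ) (hrel : c.Rel p q)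
    [Module.Finite A (P.X p)] [Module.Finite A (P.X q)] [Module.Free A (P.X q)]
    (K' : Type u) [Field K'] [Algebra A K']
    (hsurj : Function.Surjective (betaT P p (ModuleCat.of A K')))
    (y : PrimeSpectrum A) (hker : RingHom.ker (algebraMap A K') = y.asIdeal) :
    y ∈ Module.freeLocus A (P.opcycles q) := by
  have e : (P.X q ⧸ LinearMap.range (P.d p q).hom) ≃ₗ[A] P.opcycles q :=
    (Submodule.quotEquivOfEq _ _ (Groth.Agent.TFunLocal5.ker_pOpcycles P p q hrel).symm).trans
      ((P.pOpcycles q).hom.quotKerEquivOfSurjective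
        ((ModuleCat.epi_iff_surjective _).mp inferInstance))
  rw [← Module.freeLocus_congr e]
  refine mem_freeLocus_quot_of_injective (P.d p q).hom K' ?_ y hker
  rw [LinearMap.lTensor_inj_iff_rTensor_inj]
  obtain rfl : c.next p = q := c.next_eq' hrel
  rw [injective_iff_map_eq_zero]
  intro ξ hξ
  obtain ⟨η, rfl⟩ := LinearMap.rTensor_surjective K'
    (LinearMap.surjective_rangeRestrict (P.d p (c.next p)).hom) ξ
  have hη : ((P.d p (c.next p)).hom.rTensor K') η = 0 := by
    have h1 : (P.d p (c.next p)).hom =
        (LinearMap.range (P.d p (c.next p)).hom).subtype ∘ₗ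
          (P.d p (c.next p)).hom.rangeRestrict :=
      LinearMap.ext fun _ => rfl
    rw [h1, LinearMap.rTensor_comp]
    exact hξ
  obtain ⟨zt, hzt⟩ := exists_iCycles_eq (CohIII.tensorObj P (ModuleCat.of A K')) p η hη
  obtain ⟨ξ', hξ'⟩ := hsurj (((CohIII.tensorObj P (ModuleCat.of A K')).homologyπ p).hom zt)
  have hsurjπ : Function.Surjective (P.homologyπ p ▷ (ModuleCat.of A K')).hom := by
    show Function.Surjective ((P.homologyπ p).hom.rTensor K')
    exact LinearMap.rTensor_surjective K' ((ModuleCat.epi_iff_surjective _).mp inferInstance)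
  obtain ⟨ζ, rfl⟩ := hsurjπ ξ'
  rw [betaT_homologyπ] at hξ'
  have h0 : ((CohIII.tensorObj P (ModuleCat.of A K')).homologyπ p).hom
      (zt - (cycT P p (ModuleCat.of A K')).hom ζ) = 0 := by
    rw [map_sub, hξ', sub_self]
  obtain ⟨θ, hθ⟩ := (homologyπ_eq_zero_iff (CohIII.tensorObj P (ModuleCat.of A K')) p _).mp h0
  have h3 : η = ((P.iCycles p).hom.rTensor K') ζ + ((P.d (c.prev p) p).hom.rTensor K') θ := by
    have e1 := iCycles_toCycles (CohIII.tensorObj P (ModuleCat.of A K')) p θ
    have e2 := congrArg (fun φ => φ.hom ζ) (cycT_i P p (ModuleCat.of A K'))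
    have e3 := congrArg (fun z => ((CohIII.tensorObj P (ModuleCat.of A K')).iCycles p).hom z) hθ
    have e4 : ((CohIII.tensorObj P (ModuleCat.of A K')).iCycles p).hom
        (zt - (cycT P p (ModuleCat.of A K')).hom ζ) =
        η - ((P.iCycles p).hom.rTensor K') ζ := by
      rw [map_sub]
      exact congrArg₂ (· - ·) hzt e2
    have e5 : ((P.d (c.prev p) p).hom.rTensor K') θ = η - ((P.iCycles p).hom.rTensor K') ζ :=
      e1.symm.trans (e3.trans e4)
    rw [e5]
    abel
  have hz1 : (P.d p (c.next p)).hom.rangeRestrict ∘ₗ (P.iCycles p).hom = 0 := by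
    apply LinearMap.ext
    intro z
    apply Subtype.ext
    exact congrArg (fun φ => φ.hom z) (P.iCycles_d p (c.next p))
  have hz2 : (P.d p (c.next p)).hom.rangeRestrict ∘ₗ (P.d (c.prev p) p).hom = 0 := by
    apply LinearMap.ext
    intro z
    apply Subtype.ext
    exact congrArg (fun φ => φ.hom z) (P.d_comp_d (c.prev p) p (c.next p))
  have a1 : ((P.d p (c.next p)).hom.rangeRestrict.rTensor K')
      (((P.iCycles p).hom.rTensor K') ζ) = 0 := by
    rw [← LinearMap.comp_apply, ← LinearMap.rTensor_comp, hz1, LinearMap.rTensor_zero]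
    rfl
  have a2 : ((P.d p (c.next p)).hom.rangeRestrict.rTensor K')
      (((P.d (c.prev p) p).hom.rTensor K') θ) = 0 := by
    rw [← LinearMap.comp_apply, ← LinearMap.rTensor_comp, hz2, LinearMap.rTensor_zero]
    rfl
  rw [h3, map_add, a1, a2, add_zero]

end Span

end Groth.Agent.Lib.PBCH2
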