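import Mathlib

/-!
# Finite type quasi-coherent ideal sheaves on quasi-compact quasi-separated schemes (helper7)

Every quasi-coherent ideal sheaf on a qcqs scheme is the (directed) supremum of its sub ideal
sheaves of finite type (Stacks 01PG for ideals), via the extension lemma `ext_step`.

* `FTloc I U`: every point of `U` has an affine neighbourhood on which `I` is finitely generated.
* `ext_step`: extend a finite type ideal from a quasi-compact open `U` over an affine open `V`.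
* `exists_ft_le`, `sSup_ft_eq`: the approximation theorem.
* `isLimitSSupCone`: the closed subscheme of a supremum is the limit of the closed subschemes.
-/

set_option autoImplicit false
set_option linter.style.haveILetI false
universe u
open CategoryTheory CategoryTheory.Limits AlgebraicGeometry Opposite

namespace Groth.Agent.Lib.IdealFTH7

section Algebra

lemma iso_inv_hom_apply {R S : CommRingCat.{u}} (e : R ≅ S) (a : R) :
    e.inv.hom (e.hom.hom a) = a :=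
  congrArg (fun φ : R ⟶ R => φ.hom a) e.hom_inv_id

lemma iso_hom_inv_apply {R S : CommRingCat.{u}} (e : R ≅ S) (b : S) :
    e.hom.hom (e.inv.hom b) = b :=
  congrArg (fun φ : S ⟶ S => φ.hom b) e.inv_hom_id

lemma comap_inv_eq_map_hom {R S : CommRingCat.{u}} (e : R ≅ S) (𝔞 : Ideal R) :
    𝔞.comap e.inv.hom = 𝔞.map e.hom.hom := by
  apply le_antisymm
  · intro z hz
    have hz' : e.inv.hom z ∈ 𝔞 := hz
    rw [← iso_hom_inv_apply e z]
    exact Ideal.mem_map_of_mem _ hz'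
  · rw [Ideal.map_le_iff_le_comap]
    intro a ha
    show e.inv.hom (e.hom.hom a) ∈ 𝔞
    rw [iso_inv_hom_apply]
    exact ha

lemma fg_comap_inv {R S : CommRingCat.{u}} (e : R ≅ S) {𝔞 : Ideal R} (h : 𝔞.FG) :
    (𝔞.comap e.inv.hom).FG := by
  rw [comap_inv_eq_map_hom]
  exact h.map _

lemma fg_of_fg_comap_inv {R S : CommRingCat.{u}} (e : R ≅ S) {𝔞 : Ideal R}
    (h : (𝔞.comap e.inv.hom).FG) : 𝔞.FG := by
  have hsurj : Function.Surjective e.inv.hom := fun a => ⟨e.hom.hom a, iso_inv_hom_apply e a⟩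
  rw [← Ideal.map_comap_of_surjective _ hsurj 𝔞]
  exact h.map _

lemma exists_finset_of_fg_map {R S : Type*} [CommRing R] [CommRing S] (φ : R →+* S) (M : Ideal R)
    (h : (M.map φ).FG) :
    ∃ T : Finset R, (∀ a ∈ T, a ∈ M) ∧ M.map φ ≤ (Ideal.span (T : Set R)).map φ := by
  classical
  have h' : (Submodule.span S (φ '' (M : Set R))).FG := h
  obtain ⟨s', hs's, hs'⟩ := (Submodule.fg_span_iff_fg_span_finset_subset _).mp h'
  obtain ⟨T, hT, rfl⟩ := Finset.subset_set_image_iff.mp hs's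
  refine ⟨T, fun a ha => hT ha, ?_⟩
  rw [Ideal.map_span]
  show Submodule.span S (φ '' (M : Set R)) ≤ _
  rw [hs', Finset.coe_image]

end Algebra

section Sheaf

variable {X Y : Scheme.{u}}

lemma ker_eq_comap_of_isPullback {X Y U V : Scheme.{u}} (f : X ⟶ Y) (f' : U ⟶ V) (iU : U ⟶ X)
    (iV : V ⟶ Y) [IsOpenImmersion iV] [QuasiCompact f] (H : IsPullback f' iU iV f) :
    f'.ker = f.ker.comap iV := by
  refine Scheme.IdealSheafData.ext (funext fun W => ?_)
  rw [Scheme.ker_ideal_of_isPullback_of_isOpenImmersion f f' iU iV H W,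
    Scheme.IdealSheafData.ideal_comap_of_isOpenImmersion]

lemma comap_inf_of_isOpenImmersion (I K : X.IdealSheafData) (f : Y ⟶ X) [IsOpenImmersion f] :
    (I ⊓ K).comap f = I.comap f ⊓ K.comap f := by
  refine Scheme.IdealSheafData.ext (funext fun W => ?_)
  show ((I ⊓ K).comap f).ideal W = (I.comap f).ideal W ⊓ (K.comap f).ideal W
  rw [Scheme.IdealSheafData.ideal_comap_of_isOpenImmersion,
    Scheme.IdealSheafData.ideal_comap_of_isOpenImmersion,
    Scheme.IdealSheafData.ideal_comap_of_isOpenImmersion]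
  rfl

lemma isPullback_comap_subschemeι (N : X.IdealSheafData) (f : Y ⟶ X) :
    IsPullback (N.comap f).subschemeι ((N.comapIso f).hom ≫ pullback.snd f N.subschemeι) f
      N.subschemeι := by
  refine IsPullback.of_iso (IsPullback.of_hasPullback f N.subschemeι) (N.comapIso f).symm
    (Iso.refl _) (Iso.refl _) (Iso.refl _) ?_ ?_ ?_ ?_
  · simp
  · rw [Iso.refl_hom, Category.comp_id, Iso.symm_hom, Iso.inv_hom_id_assoc]
  · simp
  · simp

lemma comap_map_of_isOpenImmersion (N : Y.IdealSheafData) (f : Y ⟶ X) [IsOpenImmersion f]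
    [QuasiCompact f] : (N.map f).comap f = N := by
  have H : IsPullback N.subschemeι (𝟙 _) f (N.subschemeι ≫ f) := by
    refine ⟨⟨by simp⟩, ⟨PullbackCone.IsLimit.mk _ (fun s => s.snd) ?_ ?_ ?_⟩⟩
    · intro s
      rw [← cancel_mono f, Category.assoc, s.condition]
    · intro s
      simp
    · intro s m _ h2
      simpa using h2
  have h := ker_eq_comap_of_isPullback (N.subschemeι ≫ f) N.subschemeι (𝟙 _) f H
  rw [Scheme.IdealSheafData.ker_subschemeι] at h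
  exact h.symm

lemma map_comap_baseChange {X Y V' O' : Scheme.{u}} (f : Y ⟶ X) [QuasiCompact f] (iV : V' ⟶ X)
    [IsOpenImmersion iV] (r : O' ⟶ V') (o : O' ⟶ Y) (H : IsPullback r o iV f)
    (N : Y.IdealSheafData) : (N.map f).comap iV = (N.comap o).map r :=
  (ker_eq_comap_of_isPullback (N.subschemeι ≫ f) ((N.comap o).subschemeι ≫ r) _ iV
    ((isPullback_comap_subschemeι N o).paste_horiz H)).symm

end Sheaf

section FT

variable {X : Scheme.{u}}

/-- every point of `U` has an affine neighbourhood on which `I` is finitely generated -/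
def FTloc (I : X.IdealSheafData) (U : X.Opens) : Prop :=
  ∀ x ∈ U, ∃ W : X.affineOpens, x ∈ W.1 ∧ (I.ideal W).FG

lemma FTloc.sup {I : X.IdealSheafData} {U V : X.Opens} (h1 : FTloc I U) (h2 : FTloc I V) :
    FTloc I (U ⊔ V) := by
  intro x hx
  have hx' : x ∈ (U : Set X) ∪ (V : Set X) := by
    rw [← TopologicalSpace.Opens.coe_sup]
    exact hx
  rcases hx' with h | h
  · exact h1 x h
  · exact h2 x h

lemma fp_stableSource :
    RingHom.StableUnderCompositionWithLocalizationAwaySource @RingHom.FinitePresentation := by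
  intro R S T _ _ _ _ r _ f hf
  exact hf.comp (RingHom.finitePresentation_holdsForLocalizationAway S r)

theorem lfp_of_ftloc (J : X.IdealSheafData) (h : FTloc J ⊤) :
    LocallyOfFinitePresentation J.subschemeι := by
  rw [HasRingHomProperty.iff_exists_appLE (P := @LocallyOfFinitePresentation) fp_stableSource]
  intro x
  obtain ⟨⟨U, hU⟩, hxU, hfg⟩ := h (J.subschemeι x) trivial
  have hU' : IsAffineOpen U := hU
  refine ⟨⟨U, hU⟩, ⟨J.subschemeι ⁻¹ᵁ U, hU'.preimage J.subschemeι⟩, hxU, le_rfl, ?_⟩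
  have h1 : J.subschemeι.appLE U (J.subschemeι ⁻¹ᵁ U) le_rfl = J.subschemeι.app U :=
    (Scheme.Hom.app_eq_appLE _).symm
  show RingHom.FinitePresentation (J.subschemeι.appLE U (J.subschemeι ⁻¹ᵁ U) le_rfl).hom
  rw [h1]
  refine RingHom.FinitePresentation.of_surjective _ (J.subschemeι_app_surjective ⟨U, hU⟩) ?_
  rw [J.ker_subschemeι_app ⟨U, hU⟩]
  exact hfg

theorem ideal_fg_of_lfp (J : X.IdealSheafData)
    [LocallyOfFinitePresentation J.subschemeι] (U : X.affineOpens) : (J.ideal U).FG := by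
  have hfp : (J.subschemeι.app U).hom.FinitePresentation := by
    have h := J.subschemeι.finitePresentation_appLE U.2 (U.2.preimage J.subschemeι) le_rfl
    rwa [← Scheme.Hom.app_eq_appLE] at h
  rw [← J.ker_subschemeι_app U]
  letI := (J.subschemeι.app U).hom.toAlgebra
  haveI : Algebra.FinitePresentation Γ(X, U) Γ(J.subscheme, J.subschemeι ⁻¹ᵁ U) := hfp
  have h := Algebra.FinitePresentation.ker_fG_of_surjective
    (Algebra.ofId Γ(X, U) Γ(J.subscheme, J.subschemeι ⁻¹ᵁ U))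
    (J.subschemeι_app_surjective U)
  exact h

theorem ft_of_ftloc (J : X.IdealSheafData) (h : FTloc J ⊤) (U : X.affineOpens) :
    (J.ideal U).FG := by
  haveI := lfp_of_ftloc J h
  exact ideal_fg_of_lfp J U

lemma ftloc_of_comap_eq {I J : X.IdealSheafData} {U : X.Opens}
    (h : J.comap U.ι = I.comap U.ι) (hI : FTloc I U) : FTloc J U := by
  intro x hx
  obtain ⟨W, hxW, hfg⟩ := hI x hx
  obtain ⟨_, ⟨W'', hW'', rfl⟩, hxW'', hle⟩ := X.isBasis_affineOpens.exists_subset_of_mem_open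
    (show x ∈ ((W.1 ⊓ U : X.Opens) : Set X) from ⟨hxW, hx⟩) (W.1 ⊓ U).2
  have hW''U : W'' ≤ U := fun z hz => (hle hz).2
  have hW''W : W'' ≤ W.1 := fun z hz => (hle hz).1
  have hD : IsAffineOpen (U.ι ⁻¹ᵁ W'') :=
    IsAffineOpen.preimage_of_isOpenImmersion hW'' U.ι (by rw [Scheme.Opens.opensRange_ι]; exact hW''U)
  have hFW : (⟨U.ι ''ᵁ (U.ι ⁻¹ᵁ W''), hD.image_of_isOpenImmersion U.ι⟩ : X.affineOpens) ≤ W :=
    (U.ι.image_preimage_le W'').trans hW''W
  have hIF : (I.ideal ⟨U.ι ''ᵁ (U.ι ⁻¹ᵁ W''), hD.image_of_isOpenImmersion U.ι⟩).FG := by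
    rw [← I.map_ideal hFW]
    exact hfg.map _
  have h1 : ((I.comap U.ι).ideal ⟨U.ι ⁻¹ᵁ W'', hD⟩).FG := by
    rw [Scheme.IdealSheafData.ideal_comap_of_isOpenImmersion]
    exact fg_comap_inv _ hIF
  rw [← h, Scheme.IdealSheafData.ideal_comap_of_isOpenImmersion] at h1
  exact ⟨⟨U.ι ''ᵁ (U.ι ⁻¹ᵁ W''), hD.image_of_isOpenImmersion U.ι⟩, ⟨⟨x, hx⟩, hxW'', rfl⟩,
    fg_of_fg_comap_inv _ h1⟩

lemma ftloc_of_fg_top {J : X.IdealSheafData} {V : X.Opens} [IsAffine (V : Scheme.{u})]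
    (h : ((J.comap V.ι).ideal ⟨⊤, isAffineOpen_top _⟩).FG) : FTloc J V := by
  intro x hx
  rw [Scheme.IdealSheafData.ideal_comap_of_isOpenImmersion] at h
  exact ⟨⟨V.ι ''ᵁ ⊤, (isAffineOpen_top _).image_of_isOpenImmersion V.ι⟩, ⟨⟨x, hx⟩, trivial, rfl⟩,
    fg_of_fg_comap_inv _ h⟩

end FT

section Ext

variable {X : Scheme.{u}}

/-- **The extension step**: `I` of finite type on the quasi-compact open `U`; then there is
`J ≤ I` agreeing with `I` on `U` and of finite type on the affine open `V` (containing a given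
finite set of sections of `I` over `V`). -/
theorem ext_step [QuasiSeparatedSpace X] (U : X.Opens) (hUc : IsCompact (U : Set X))
    (V : X.Opens) [hVa : IsAffine (V : Scheme.{u})] (I : X.IdealSheafData) (hI : FTloc I U)
    (T₀ : Finset Γ(V, ⊤))
    (hT₀ : ∀ a ∈ T₀, a ∈ (I.comap V.ι).ideal ⟨⊤, isAffineOpen_top _⟩) :
    ∃ J : X.IdealSheafData, J ≤ I ∧ J.comap U.ι = I.comap U.ι ∧
      ((J.comap V.ι).ideal ⟨⊤, isAffineOpen_top _⟩).FG ∧
      ∀ a ∈ T₀, a ∈ (J.comap V.ι).ideal ⟨⊤, isAffineOpen_top _⟩ := by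
  classical
  have hV : IsAffineOpen V := hVa
  haveI : QuasiCompact V.ι := inferInstance
  obtain ⟨IV, hIV⟩ : ∃ IV : (V : Scheme.{u}).IdealSheafData, IV = I.comap V.ι := ⟨_, rfl⟩
  rw [← hIV] at hT₀
  -- compactness of `O = V ∩ U` inside `V`
  have hOc : IsCompact ((V.ι ⁻¹ᵁ U : (V : Scheme.{u}).Opens) : Set (V : Scheme.{u})) := by
    have h1 : IsCompact ((U : Set X) ∩ (V : Set X)) :=
      QuasiSeparatedSpace.inter_isCompact _ _ U.2 hUc V.2 hV.isCompact
    have h2 : ((V.ι ⁻¹ᵁ U : (V : Scheme.{u}).Opens) : Set (V : Scheme.{u})) =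
        V.ι ⁻¹' ((U : Set X) ∩ (V : Set X)) := by
      ext y
      constructor
      · intro h
        refine ⟨h, ?_⟩
        have : V.ι y ∈ Set.range V.ι := ⟨y, rfl⟩
        rw [Scheme.Opens.range_ι] at this
        exact this
      · intro h
        exact h.1
    rw [h2]
    refine (V.ι.isOpenEmbedding.isInducing.isCompact_preimage_iff ?_).mpr h1
    rw [Scheme.Opens.range_ι]
    exact Set.inter_subset_right
  -- Step A: a finite cover of `O` by affine opens of `V` on which `IV` is finitely generated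
  have hloc : ∀ y : ↥((V.ι ⁻¹ᵁ U : (V : Scheme.{u}).Opens) : Set (V : Scheme.{u})),
      ∃ D : (V : Scheme.{u}).affineOpens, y.1 ∈ D.1 ∧ D.1 ≤ V.ι ⁻¹ᵁ U ∧ (IV.ideal D).FG := by
    rintro ⟨y, hy⟩
    have hxU : V.ι y ∈ U := hy
    have hxV : V.ι y ∈ V := by
      have : V.ι y ∈ Set.range V.ι := ⟨y, rfl⟩
      rw [Scheme.Opens.range_ι] at this
      exact this
    obtain ⟨W, hxW, hfg⟩ := hI _ hxU
    obtain ⟨_, ⟨W'', hW'', rfl⟩, hxW'', hle⟩ := X.isBasis_affineOpens.exists_subset_of_mem_open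
      (show V.ι y ∈ ((W.1 ⊓ U ⊓ V : X.Opens) : Set X) from ⟨⟨hxW, hxU⟩, hxV⟩) (W.1 ⊓ U ⊓ V).2
    have hW''V : W'' ≤ V := fun z hz => (hle hz).2
    have hW''U : W'' ≤ U := fun z hz => (hle hz).1.2
    have hW''W : W'' ≤ W.1 := fun z hz => (hle hz).1.1
    have hD : IsAffineOpen (V.ι ⁻¹ᵁ W'') :=
      IsAffineOpen.preimage_of_isOpenImmersion hW'' V.ι
        (by rw [Scheme.Opens.opensRange_ι]; exact hW''V)
    refine ⟨⟨V.ι ⁻¹ᵁ W'', hD⟩, hxW'', V.ι.preimage_mono hW''U, ?_⟩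
    rw [hIV, Scheme.IdealSheafData.ideal_comap_of_isOpenImmersion]
    refine fg_comap_inv _ ?_
    have hFW : (⟨V.ι ''ᵁ (V.ι ⁻¹ᵁ W''), hD.image_of_isOpenImmersion V.ι⟩ : X.affineOpens) ≤ W :=
      (V.ι.image_preimage_le W'').trans hW''W
    rw [← I.map_ideal hFW]
    exact hfg.map _
  choose D hyD hDO hDfg using hloc
  obtain ⟨t, ht⟩ := hOc.elim_finite_subcover (fun y => ((D y).1 : Set (V : Scheme.{u})))
    (fun y => (D y).1.2) (fun y hy => Set.mem_iUnion.mpr ⟨⟨y, hy⟩, hyD ⟨y, hy⟩⟩)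
  -- Step B: generators
  have hgen : ∀ y, ∃ T : Finset Γ(V, ⊤), (∀ a ∈ T, a ∈ IV.ideal ⟨⊤, isAffineOpen_top _⟩) ∧
      IV.ideal (D y) ≤ (Ideal.span (T : Set Γ(V, ⊤))).map
        ((V : Scheme.{u}).presheaf.map (homOfLE (le_top : (D y).1 ≤ ⊤)).op).hom := by
    intro y
    have hm := IV.map_ideal (U := D y) (V := ⟨⊤, isAffineOpen_top _⟩) (le_top (a := (D y).1))
    have hfg' := hDfg y
    rw [← hm] at hfg' ⊢
    exact exists_finset_of_fg_map _ _ hfg'
  choose Ty hTyM hTy using hgen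
  obtain ⟨Tall, hTall⟩ : ∃ Tall : Finset Γ(V, ⊤), Tall = T₀ ∪ t.biUnion Ty := ⟨_, rfl⟩
  obtain ⟨N', hN'⟩ : ∃ N' : Ideal Γ(V, ⊤), N' = Ideal.span (Tall : Set Γ(V, ⊤)) := ⟨_, rfl⟩
  have hN'fg : N'.FG := ⟨Tall, hN'.symm⟩
  have hTallM : ∀ a ∈ Tall, a ∈ IV.ideal ⟨⊤, isAffineOpen_top _⟩ := by
    intro a ha
    rw [hTall, Finset.mem_union, Finset.mem_biUnion] at ha
    rcases ha with ha | ⟨y, _, ha⟩
    · exact hT₀ a ha
    · exact hTyM y a ha
  have hN'M : N' ≤ IV.ideal ⟨⊤, isAffineOpen_top _⟩ := by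
    rw [hN']
    exact Ideal.span_le.mpr hTallM
  have hsub : ∀ y ∈ t, (Ty y : Set Γ(V, ⊤)) ⊆ Tall := fun y hy a ha => by
    rw [hTall]
    exact Finset.mem_coe.mpr (Finset.mem_union_right _ (Finset.mem_biUnion.mpr ⟨y, hy, ha⟩))
  -- the finite type ideal sheaf on `V`
  obtain ⟨N, hN⟩ : ∃ N : (V : Scheme.{u}).IdealSheafData,
      N = Scheme.IdealSheafData.ofIdealTop N' := ⟨_, rfl⟩
  have hNtop : N.ideal ⟨⊤, isAffineOpen_top _⟩ = N' := by
    rw [hN]
    simp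
    exact Ideal.map_id N'
  have hNle : N ≤ IV := Scheme.IdealSheafData.le_of_isAffine (by rw [hNtop]; exact hN'M)
  have hKV : (N.map V.ι).comap V.ι = N := comap_map_of_isOpenImmersion N V.ι
  have hNy : ∀ y ∈ t, IV.ideal (D y) ≤ N.ideal (D y) := by
    intro y hy
    rw [← N.map_ideal (U := D y) (V := ⟨⊤, isAffineOpen_top _⟩) (le_top (a := (D y).1)), hNtop, hN']
    exact (hTy y).trans (Ideal.map_mono (Ideal.span_mono (hsub y hy)))
  -- the key comparison on `U`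
  have hb : I.comap U.ι ≤ (N.map V.ι).comap U.ι := by
    rw [map_comap_baseChange V.ι U.ι (V.ι ∣_ U) (V.ι ⁻¹ᵁ U).ι (isPullback_morphismRestrict V.ι U) N,
      Scheme.IdealSheafData.le_map_iff_comap_le, ← Scheme.IdealSheafData.comap_comp,
      morphismRestrict_ι, Scheme.IdealSheafData.comap_comp, ← hIV]
    have hEaff : ∀ y : {y // y ∈ t}, IsAffineOpen ((V.ι ⁻¹ᵁ U).ι ⁻¹ᵁ (D y.1).1) := fun y =>
      IsAffineOpen.preimage_of_isOpenImmersion (D y.1).2 (V.ι ⁻¹ᵁ U).ι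
        (by rw [Scheme.Opens.opensRange_ι]; exact hDO y.1)
    refine Scheme.IdealSheafData.le_of_iSup_eq_top
      (fun y : {y // y ∈ t} => (⟨(V.ι ⁻¹ᵁ U).ι ⁻¹ᵁ (D y.1).1, hEaff y⟩ :
        ((V.ι ⁻¹ᵁ U : (V : Scheme.{u}).Opens) : Scheme.{u}).affineOpens)) ?_ ?_
    · refine eq_top_iff.mpr (fun z _ => ?_)
      have hz : (V.ι ⁻¹ᵁ U).ι z ∈ ((V.ι ⁻¹ᵁ U : (V : Scheme.{u}).Opens) : Set (V : Scheme.{u})) := by
        have : (V.ι ⁻¹ᵁ U).ι z ∈ Set.range (V.ι ⁻¹ᵁ U).ι := ⟨z, rfl⟩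
        rw [Scheme.Opens.range_ι] at this
        exact this
      obtain ⟨y, hy⟩ := Set.mem_iUnion.mp (ht hz)
      obtain ⟨hyt, hy'⟩ := Set.mem_iUnion.mp hy
      exact TopologicalSpace.Opens.mem_iSup.mpr ⟨⟨y, hyt⟩, hy'⟩
    · intro y
      rw [Scheme.IdealSheafData.ideal_comap_of_isOpenImmersion,
        Scheme.IdealSheafData.ideal_comap_of_isOpenImmersion]
      refine Ideal.comap_mono ?_
      have hF : (⟨(V.ι ⁻¹ᵁ U).ι ''ᵁ ((V.ι ⁻¹ᵁ U).ι ⁻¹ᵁ (D y.1).1),
          (hEaff y).image_of_isOpenImmersion (V.ι ⁻¹ᵁ U).ι⟩ : (V : Scheme.{u}).affineOpens) ≤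
          D y.1 := (V.ι ⁻¹ᵁ U).ι.image_preimage_le _
      rw [← IV.map_ideal hF, ← N.map_ideal hF]
      exact Ideal.map_mono (hNy y.1 y.2)
  refine ⟨I ⊓ N.map V.ι, inf_le_left, ?_, ?_, ?_⟩
  · rw [comap_inf_of_isOpenImmersion]
    exact inf_eq_left.mpr hb
  · rw [comap_inf_of_isOpenImmersion, hKV, ← hIV, inf_eq_right.mpr hNle, hNtop]
    exact hN'fg
  · intro a ha
    rw [comap_inf_of_isOpenImmersion, hKV, ← hIV, inf_eq_right.mpr hNle, hNtop, hN']
    refine Ideal.subset_span ?_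
    rw [hTall]
    exact Finset.mem_coe.mpr (Finset.mem_union_left _ ha)

/-- Extending over finitely many affine opens. -/
theorem exists_ft_extension [QuasiSeparatedSpace X] (s : Finset X.affineOpens) :
    ∀ (U : X.Opens) (_ : IsCompact (U : Set X)) (I : X.IdealSheafData) (_ : FTloc I U),
      ∃ J : X.IdealSheafData, J ≤ I ∧ J.comap U.ι = I.comap U.ι ∧
        FTloc J (U ⊔ ⨆ V ∈ s, (V : X.Opens)) := by
  classical
  induction s using Finset.induction_on with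
  | empty =>
    intro U _ I hI
    refine ⟨I, le_rfl, rfl, ?_⟩
    simpa using hI
  | insert V s hVs ih =>
    intro U hUc I hI
    obtain ⟨J₁, hJ₁I, hJ₁U, hJ₁ft⟩ := ih U hUc I hI
    have hU₁c : IsCompact ((U ⊔ ⨆ V ∈ s, (V : X.Opens) : X.Opens) : Set X) := by
      have e : ((U ⊔ ⨆ V ∈ s, (V : X.Opens) : X.Opens) : Set X) =
          (U : Set X) ∪ ⋃ V ∈ s, ((V : X.Opens) : Set X) := by
        simp [TopologicalSpace.Opens.coe_sup]
      rw [e]
      exact hUc.union (s.isCompact_biUnion fun V _ => V.2.isCompact)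
    haveI : IsAffine (V.1 : Scheme.{u}) := V.2
    obtain ⟨J₂, hJ₂J₁, hJ₂U₁, hJ₂fg, -⟩ :=
      ext_step (U ⊔ ⨆ V ∈ s, (V : X.Opens)) hU₁c V.1 J₁ hJ₁ft ∅ (by simp)
    refine ⟨J₂, hJ₂J₁.trans hJ₁I, ?_, ?_⟩
    · have hle : U ≤ U ⊔ ⨆ V ∈ s, (V : X.Opens) := le_sup_left
      have h := congrArg (fun K => K.comap (X.homOfLE hle)) hJ₂U₁
      simp only [← Scheme.IdealSheafData.comap_comp, Scheme.homOfLE_ι] at h
      rw [h, hJ₁U]
    · have h1 : FTloc J₂ (U ⊔ ⨆ V ∈ s, (V : X.Opens)) := ftloc_of_comap_eq hJ₂U₁ hJ₁ft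
      have h2 : FTloc J₂ V.1 := ftloc_of_fg_top hJ₂fg
      have e : U ⊔ ⨆ V' ∈ insert V s, (V' : X.Opens) =
          (U ⊔ ⨆ V' ∈ s, (V' : X.Opens)) ⊔ V.1 := by
        rw [Finset.iSup_insert]
        ac_rfl
      rw [e]
      exact h1.sup h2

/-- **Finite type approximation**: on a qcqs scheme, every section of an ideal sheaf over an
affine open lies in a sub ideal sheaf of finite type. -/
theorem exists_ft_le [CompactSpace X] [QuasiSeparatedSpace X] (I : X.IdealSheafData)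
    (V₀ : X.Opens) [hV₀a : IsAffine (V₀ : Scheme.{u})] (a : Γ(V₀, ⊤))
    (ha : a ∈ (I.comap V₀.ι).ideal ⟨⊤, isAffineOpen_top _⟩) :
    ∃ J : X.IdealSheafData, J ≤ I ∧ (∀ W : X.affineOpens, (J.ideal W).FG) ∧
      a ∈ (J.comap V₀.ι).ideal ⟨⊤, isAffineOpen_top _⟩ := by
  classical
  have hV₀ : IsAffineOpen V₀ := hV₀a
  obtain ⟨J₀, hJ₀I, -, hJ₀fg, hJ₀a⟩ := ext_step (⊥ : X.Opens) (by simp) V₀ I
    (fun x hx => absurd hx (by simp)) {a} (by simpa using ha)
  have h0 : FTloc J₀ V₀ := ftloc_of_fg_top hJ₀fg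
  obtain ⟨s, hs⟩ := isCompact_univ.elim_finite_subcover
    (fun V : X.affineOpens => ((V : X.Opens) : Set X)) (fun V => V.1.2) (by
      intro x _
      obtain ⟨_, ⟨W, hW, rfl⟩, hxW, -⟩ := X.isBasis_affineOpens.exists_subset_of_mem_open
        (Set.mem_univ x) isOpen_univ
      exact Set.mem_iUnion.mpr ⟨⟨W, hW⟩, hxW⟩)
  obtain ⟨J, hJJ₀, hJV₀, hJft⟩ := exists_ft_extension s V₀ hV₀.isCompact J₀ h0
  refine ⟨J, hJJ₀.trans hJ₀I, ft_of_ftloc J (fun x _ => hJft x ?_), ?_⟩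
  · have hx : x ∈ ((⨆ V ∈ s, (V : X.Opens) : X.Opens) : Set X) := by
      simp only [TopologicalSpace.Opens.coe_iSup]
      exact hs (Set.mem_univ x)
    exact (le_sup_right : (⨆ V ∈ s, (V : X.Opens)) ≤ V₀ ⊔ ⨆ V ∈ s, (V : X.Opens)) hx
  · rw [hJV₀]
    exact hJ₀a a (Finset.mem_singleton_self a)

/-- On a qcqs scheme every ideal sheaf is the supremum of its sub ideal sheaves of finite type. -/
theorem sSup_ft_eq [CompactSpace X] [QuasiSeparatedSpace X] (I : X.IdealSheafData) :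
    sSup {J : X.IdealSheafData | J ≤ I ∧ ∀ W : X.affineOpens, (J.ideal W).FG} = I := by
  apply le_antisymm (sSup_le fun J hJ => hJ.1)
  refine Scheme.IdealSheafData.le_of_iSup_eq_top
    (fun V₀ : X.affineOpens => (⟨V₀.1.ι ''ᵁ ⊤,
      (isAffineOpen_top (V₀.1 : Scheme.{u})).image_of_isOpenImmersion V₀.1.ι⟩ : X.affineOpens))
    ?_ ?_
  · simp only [Scheme.Opens.ι_image_top]
    exact iSup_affineOpens_eq_top X
  · intro V₀ b hb
    haveI : IsAffine (V₀.1 : Scheme.{u}) := V₀.2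
    have hmem : (V₀.1.ι.appIso ⊤).hom.hom b ∈
        (I.comap V₀.1.ι).ideal ⟨⊤, isAffineOpen_top _⟩ := by
      rw [Scheme.IdealSheafData.ideal_comap_of_isOpenImmersion]
      show (V₀.1.ι.appIso ⊤).inv.hom ((V₀.1.ι.appIso ⊤).hom.hom b) ∈
        I.ideal ⟨V₀.1.ι ''ᵁ ⊤,
          (isAffineOpen_top (V₀.1 : Scheme.{u})).image_of_isOpenImmersion V₀.1.ι⟩
      rw [iso_inv_hom_apply]
      exact hb
    obtain ⟨J, hJI, hJft, hJa⟩ := exists_ft_le I V₀.1 _ hmem
    have hJS : J ≤ sSup {J : X.IdealSheafData | J ≤ I ∧ ∀ W : X.affineOpens, (J.ideal W).FG} :=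
      le_sSup ⟨hJI, hJft⟩
    apply hJS
    rw [Scheme.IdealSheafData.ideal_comap_of_isOpenImmersion] at hJa
    have hJa' : (V₀.1.ι.appIso ⊤).inv.hom ((V₀.1.ι.appIso ⊤).hom.hom b) ∈
        J.ideal ⟨V₀.1.ι ''ᵁ ⊤,
          (isAffineOpen_top (V₀.1 : Scheme.{u})).image_of_isOpenImmersion V₀.1.ι⟩ := hJa
    rw [iso_inv_hom_apply] at hJa'
    exact hJa'

theorem ft_sup {I J : X.IdealSheafData} (hI : ∀ W : X.affineOpens, (I.ideal W).FG)
    (hJ : ∀ W : X.affineOpens, (J.ideal W).FG) (W : X.affineOpens) : ((I ⊔ J).ideal W).FG :=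
  Submodule.FG.sup (hI W) (hJ W)

theorem ft_bot (W : X.affineOpens) : ((⊥ : X.IdealSheafData).ideal W).FG :=
  Submodule.fg_bot

end Ext

end Groth.Agent.Lib.IdealFTH7
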