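import Mathlib
import Groth.Agent.Lib.IdealFT_helper7

/-!
# Applications of finite type approximation of ideal sheaves (helper7)

* `isLimitSSupCone`: `V(sSup c)` is the limit (in `Over Y`) of the `V(J)`, `J ∈ c`.
* `main7379`: a closed subscheme of a qcqs scheme is a directed limit of closed subschemes of finite
  presentation.
-/

set_option autoImplicit false
set_option linter.style.haveILetI false
universe u
open CategoryTheory CategoryTheory.Limits AlgebraicGeometry Opposite

namespace Groth.Agent.Lib.IdealFTH7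

section Limit

lemma over_hom_ext_of_mono {T : Scheme.{u}} {A B : Over T} [Mono B.hom] (f g : A ⟶ B) : f = g := by
  apply Over.OverMorphism.ext
  rw [← cancel_mono B.hom, Over.w f, Over.w g]

variable {Y : Scheme.{u}} (c : Set Y.IdealSheafData)

/-- the diagram of closed subschemes `V(J)`, `J ∈ c` -/
noncomputable def subFunctor : (↥c)ᵒᵖ ⥤ Over Y :=
  (Monotone.functor (f := fun x : ↥c => (x : Y.IdealSheafData)) (fun _ _ h => h)).op ⋙
    Scheme.IdealSheafData.subschemeFunctor Y

lemma subFunctor_obj_hom (K : (↥c)ᵒᵖ) : ((subFunctor c).obj K).hom = K.unop.1.subschemeι := rfl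

instance (K : (↥c)ᵒᵖ) : Mono ((subFunctor c).obj K).hom :=
  show Mono (K.unop.1.subschemeι) from inferInstance

/-- the cone with vertex `V(sSup c)` -/
noncomputable def sSupCone : Cone (subFunctor c) where
  pt := Over.mk (sSup c).subschemeι
  π :=
    { app := fun K => Over.homMk (Scheme.IdealSheafData.inclusion (le_sSup K.unop.2))
        (Scheme.IdealSheafData.inclusion_subschemeι _)
      naturality := fun K L f => over_hom_ext_of_mono _ _ }

lemma le_ker_of_cone (s : Cone (subFunctor c)) : (sSup c).subschemeι.ker ≤ s.pt.hom.ker := by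
  rw [Scheme.IdealSheafData.ker_subschemeι]
  refine sSup_le (fun J hJ => ?_)
  have hw : (s.π.app (op ⟨J, hJ⟩)).left ≫ J.subschemeι = s.pt.hom :=
    Over.w (s.π.app (op ⟨J, hJ⟩))
  rw [← hw]
  calc J = J.subschemeι.ker := (Scheme.IdealSheafData.ker_subschemeι J).symm
    _ ≤ _ := Scheme.Hom.le_ker_comp _ _

/-- it is a limit cone -/
noncomputable def isLimitSSupCone : IsLimit (sSupCone c) := by
  haveI : Mono (sSupCone c).pt.hom := show Mono ((sSup c).subschemeι) from inferInstance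
  haveI hci : IsClosedImmersion (sSup c).subschemeι := inferInstance
  exact
    { lift := fun s => Over.homMk
        (@IsClosedImmersion.lift _ _ Y (sSup c).subschemeι s.pt.hom hci (le_ker_of_cone c s))
        (@IsClosedImmersion.lift_fac _ _ Y (sSup c).subschemeι s.pt.hom hci
          (le_ker_of_cone c s))
      fac := fun s K => over_hom_ext_of_mono _ _
      uniq := fun s m hm => over_hom_ext_of_mono _ _ }

end Limit

theorem lfp_of_ft {X : Scheme.{u}} (J : X.IdealSheafData)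
    (h : ∀ W : X.affineOpens, (J.ideal W).FG) : LocallyOfFinitePresentation J.subschemeι := by
  refine lfp_of_ftloc J (fun x _ => ?_)
  obtain ⟨_, ⟨W, hW, rfl⟩, hxW, -⟩ := X.isBasis_affineOpens.exists_subset_of_mem_open
    (Set.mem_univ x) isOpen_univ
  exact ⟨⟨W, hW⟩, hxW, h ⟨W, hW⟩⟩

/-- **S7379** -/
theorem main7379 {X Y : Scheme.{u}} (ι : X ⟶ Y)
    [IsClosedImmersion ι] [CompactSpace Y] [QuasiSeparatedSpace Y] :
    ∃ (I : Type u) (_ : Preorder I) (_ : IsDirected I (fun a b => a ≤ b)) (_ : Nonempty I)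
      (D : Iᵒᵖ ⥤ Over Y) (c : Limits.Cone D) (_ : Limits.IsLimit c),
      (∀ i, IsClosedImmersion (D.obj i).hom ∧ LocallyOfFinitePresentation (D.obj i).hom) ∧
      Nonempty (c.pt ≅ Over.mk ι) := by
  obtain ⟨c, hc⟩ : ∃ c : Set Y.IdealSheafData,
      c = {J | J ≤ ι.ker ∧ ∀ W : Y.affineOpens, (J.ideal W).FG} := ⟨_, rfl⟩
  have hmem : ∀ J : ↥c, J.1 ≤ ι.ker ∧ ∀ W : Y.affineOpens, (J.1.ideal W).FG := by
    intro J
    have h : (J.1 : Y.IdealSheafData) ∈ c := J.2
    have h' : J.1 ∈ {J : Y.IdealSheafData | J ≤ ι.ker ∧ ∀ W : Y.affineOpens, (J.ideal W).FG} := by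
      rw [← hc]
      exact h
    exact h'
  have hbot : (⊥ : Y.IdealSheafData) ∈ c := by
    rw [hc]
    exact ⟨bot_le, ft_bot⟩
  refine ⟨↥c, inferInstance, ?_, ⟨⟨⊥, hbot⟩⟩, subFunctor c, sSupCone c, isLimitSSupCone c, ?_, ?_⟩
  · have hmem' : ∀ K : Y.IdealSheafData,
        (K ≤ ι.ker ∧ ∀ W : Y.affineOpens, (K.ideal W).FG) → K ∈ c := by
      intro K hK
      rw [hc]
      exact hK
    have hsup : ∀ a b : ↥c, a.1 ⊔ b.1 ∈ c := fun a b =>
      hmem' _ ⟨sup_le (hmem a).1 (hmem b).1, ft_sup (hmem a).2 (hmem b).2⟩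
    exact ⟨fun a b => ⟨⟨a.1 ⊔ b.1, hsup a b⟩, show a.1 ≤ a.1 ⊔ b.1 from le_sup_left,
      show b.1 ≤ a.1 ⊔ b.1 from le_sup_right⟩⟩
  · intro i
    exact ⟨show IsClosedImmersion i.unop.1.subschemeι from inferInstance,
      lfp_of_ft i.unop.1 (hmem i.unop).2⟩
  · have hS : sSup c = ι.ker := by
      rw [hc]
      exact sSup_ft_eq ι.ker
    have key : ∀ K : Y.IdealSheafData, K = ι.ker →
        Nonempty (Over.mk K.subschemeι ≅ Over.mk ι) := by
      rintro _ rfl
      refine ⟨Over.isoMk (asIso ι.toImage).symm ?_⟩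
      show inv ι.toImage ≫ ι = ι.ker.subschemeι
      rw [IsIso.inv_comp_eq]
      exact ι.toImage_imageι.symm
    exact key _ hS

theorem isCompact_compl_support_of_ft {X : Scheme.{u}} [CompactSpace X] (I : X.IdealSheafData)
    (hI : ∀ V : X.affineOpens, (I.ideal V).FG) : IsCompact ((I.support : Set X)ᶜ) := by
  classical
  obtain ⟨s, hs⟩ := isCompact_univ.elim_finite_subcover
    (fun V : X.affineOpens => ((V : X.Opens) : Set X)) (fun V => V.1.2) (by
      intro x _
      obtain ⟨_, ⟨W, hW, rfl⟩, hxW, -⟩ := X.isBasis_affineOpens.exists_subset_of_mem_open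
        (Set.mem_univ x) isOpen_univ
      exact Set.mem_iUnion.mpr ⟨⟨W, hW⟩, hxW⟩)
  have hcov : (I.support : Set X)ᶜ =
      ⋃ V ∈ s, ((I.support : Set X)ᶜ ∩ ((V : X.Opens) : Set X)) := by
    ext x
    constructor
    · intro hx
      obtain ⟨V, hV⟩ := Set.mem_iUnion.mp (hs (Set.mem_univ x))
      obtain ⟨hVs, hxV⟩ := Set.mem_iUnion.mp hV
      exact Set.mem_iUnion₂.mpr ⟨V, hVs, hx, hxV⟩
    · intro hx
      obtain ⟨V, _, hx', _⟩ := Set.mem_iUnion₂.mp hx
      exact hx'
  rw [hcov]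
  refine s.isCompact_biUnion (fun V _ => ?_)
  obtain ⟨S, hS⟩ := hI V
  have h1 : (I.support : Set X)ᶜ ∩ ((V : X.Opens) : Set X) =
      ⋃ f ∈ S, ((X.basicOpen f : X.Opens) : Set X) := by
    ext x
    constructor
    · rintro ⟨hx, hxV⟩
      have hx' : x ∉ X.zeroLocus (U := V.1) (I.ideal V : Set Γ(X, V.1)) := fun h =>
        hx ((Scheme.IdealSheafData.mem_support_iff_of_mem hxV).mpr h)
      rw [← hS, Scheme.zeroLocus_span, Scheme.mem_zeroLocus_iff] at hx'
      simp only [not_forall] at hx'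
      obtain ⟨f, hf, hxf⟩ := hx'
      exact Set.mem_iUnion₂.mpr ⟨f, Finset.mem_coe.mp hf, not_not.mp hxf⟩
    · intro hx
      obtain ⟨f, hf, hxf⟩ := Set.mem_iUnion₂.mp hx
      have hxV : x ∈ V.1 := X.basicOpen_le f hxf
      refine ⟨fun h => ?_, hxV⟩
      have h' := (Scheme.IdealSheafData.mem_support_iff_of_mem hxV).mp h
      rw [← hS, Scheme.zeroLocus_span, Scheme.mem_zeroLocus_iff] at h'
      exact h' f (Finset.mem_coe.mpr hf) hxf
  rw [h1]
  exact S.isCompact_biUnion (fun f _ => (V.2.basicOpen f).isCompact)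

/-- **S9823** -/
theorem main9823 (X : Scheme.{u}) [CompactSpace X] [QuasiSeparatedSpace X] (U : X.Opens) :
    IsCompact (U : Set X) ↔
      ∃ I : X.IdealSheafData, (∀ V : X.affineOpens, (I.ideal V).FG) ∧
        (I.support : Set X) = (U : Set X)ᶜ := by
  classical
  constructor
  · intro hUc
    obtain ⟨Z, hZ⟩ : ∃ Z : TopologicalSpace.Closeds X, (Z : Set X) = (U : Set X)ᶜ :=
      ⟨⟨(U : Set X)ᶜ, U.2.isClosed_compl⟩, rfl⟩
    obtain ⟨c, hc⟩ : ∃ c : Set X.IdealSheafData,
        c = {J | J ≤ Scheme.IdealSheafData.vanishingIdeal Z ∧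
          ∀ W : X.affineOpens, (J.ideal W).FG} := ⟨_, rfl⟩
    have hmemc : ∀ J : ↥c, J.1 ≤ Scheme.IdealSheafData.vanishingIdeal Z ∧
        ∀ W : X.affineOpens, (J.1.ideal W).FG := by
      intro J
      have h : (J.1 : X.IdealSheafData) ∈ c := J.2
      have h' : J.1 ∈ {J : X.IdealSheafData | J ≤ Scheme.IdealSheafData.vanishingIdeal Z ∧
          ∀ W : X.affineOpens, (J.ideal W).FG} := by
        rw [← hc]
        exact h
      exact h'
    have hS : sSup c = Scheme.IdealSheafData.vanishingIdeal Z := by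
      rw [hc]
      exact sSup_ft_eq _
    have hsupp : ((sSup c).support : Set X) = (U : Set X)ᶜ := by
      rw [hS, Scheme.IdealSheafData.coe_support_vanishingIdeal, hZ]
    rw [Scheme.IdealSheafData.support_sSup] at hsupp
    have hcov : (U : Set X) ⊆ ⋃ J : ↥c, ((J.1.support : Set X))ᶜ := by
      intro x hx
      by_contra hcon
      have hmem : x ∈ ((⨅ i ∈ c, i.support : TopologicalSpace.Closeds X) : Set X) := by
        simp only [TopologicalSpace.Closeds.coe_iInf, Set.mem_iInter]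
        intro J hJ
        by_contra hxJ
        exact hcon (Set.mem_iUnion.mpr ⟨⟨J, hJ⟩, hxJ⟩)
      rw [hsupp] at hmem
      exact hmem hx
    obtain ⟨t, ht⟩ := hUc.elim_finite_subcover (fun J : ↥c => ((J.1.support : Set X))ᶜ)
      (fun J => J.1.support.isClosed.isOpen_compl) hcov
    have hJt : t.sup (fun J : ↥c => J.1) ≤ Scheme.IdealSheafData.vanishingIdeal Z ∧
        ∀ W : X.affineOpens, ((t.sup (fun J : ↥c => J.1)).ideal W).FG :=
      Finset.sup_induction (p := fun K : X.IdealSheafData =>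
        K ≤ Scheme.IdealSheafData.vanishingIdeal Z ∧ ∀ W : X.affineOpens, (K.ideal W).FG)
        ⟨bot_le, ft_bot⟩ (fun a ha b hb => ⟨sup_le ha.1 hb.1, ft_sup ha.2 hb.2⟩)
        (fun J _ => hmemc J)
    refine ⟨t.sup (fun J : ↥c => J.1), hJt.2, ?_⟩
    apply Set.Subset.antisymm
    · intro x hx hxU
      obtain ⟨J, hJ⟩ := Set.mem_iUnion.mp (ht hxU)
      obtain ⟨hJt', hxJ⟩ := Set.mem_iUnion.mp hJ
      apply hxJ
      exact SetLike.coe_subset_coe.2 (Scheme.IdealSheafData.support_antitone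
        (Finset.le_sup (f := fun J : ↥c => J.1) hJt')) hx
    · rw [← hZ, ← Scheme.IdealSheafData.coe_support_vanishingIdeal Z]
      exact SetLike.coe_subset_coe.2 (Scheme.IdealSheafData.support_antitone hJt.1)
  · rintro ⟨I, hI, hsupp⟩
    have h := isCompact_compl_support_of_ft I hI
    rw [hsupp, compl_compl] at h
    exact h

end Groth.Agent.Lib.IdealFTH7
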