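import Mathlib
import Groth.Prelude
import Groth.Agent.Lib.LimCI_helper7

set_option autoImplicit false
set_option backward.isDefEq.respectTransparency false
universe u
open CategoryTheory CategoryTheory.Limits AlgebraicGeometry

namespace Groth.Agent.Lib.LimSepH7

open Groth.Agent.Lib.LimCIH7

/-! ### Part 1: sections of a fibre product of affines -/

theorem range_eq_sup {E W A B T : Scheme.{u}} [IsAffine A] [IsAffine B] [IsAffine T]
    {fa : A ⟶ T} {fb : B ⟶ T} {pa : E ⟶ A} {pb : E ⟶ B} (hE : IsPullback pa pb fa fb)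
    (δ : W ⟶ E) :
    δ.appTop.hom.range = (δ ≫ pa).appTop.hom.range ⊔ (δ ≫ pb).appTop.hom.range := by
  have hpo := isPushout_appTop_of_isPullback hE
  have hgen := range_sup_range_eq_top hpo
  rw [RingHom.range_eq_map, ← hgen, Subring.map_sup, RingHom.map_range, RingHom.map_range]
  simp only [Scheme.Hom.comp_appTop, CommRingCat.hom_comp]

/-! ### Part 2: the local criterion -/

theorem qci_mapDesc_iff {X T : Scheme.{u}} [IsAffine T] (f : X ⟶ T) (U V : X.Opens)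
    (hU : IsAffineOpen U) (hV : IsAffineOpen V) :
    (IsAffine (pullback U.ι V.ι) ∧ Function.Surjective (pullback.mapDesc U.ι V.ι f).appTop) ↔
    (IsAffineOpen (U ⊓ V) ∧
      (X.homOfLE (inf_le_left : U ⊓ V ≤ U)).appTop.hom.range ⊔
        (X.homOfLE (inf_le_right : U ⊓ V ≤ V)).appTop.hom.range = ⊤) := by
  haveI : IsAffine (U : Scheme.{u}) := hU
  haveI : IsAffine (V : Scheme.{u}) := hV
  have hpb := isPullback_opens_inf U V
  let e := hpb.isoPullback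
  have he1 : e.hom ≫ pullback.fst U.ι V.ι = X.homOfLE inf_le_left := hpb.isoPullback_hom_fst
  have he2 : e.hom ≫ pullback.snd U.ι V.ι = X.homOfLE inf_le_right := hpb.isoPullback_hom_snd
  let δ := e.hom ≫ pullback.mapDesc U.ι V.ι f
  have hE := IsPullback.of_hasPullback (U.ι ≫ f) (V.ι ≫ f)
  have hδ1 : δ ≫ pullback.fst (U.ι ≫ f) (V.ι ≫ f) = X.homOfLE inf_le_left := by
    simp only [δ, Category.assoc, pullback.mapDesc, pullback.map, pullback.lift_fst,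
      Category.comp_id]
    exact he1
  have hδ2 : δ ≫ pullback.snd (U.ι ≫ f) (V.ι ≫ f) = X.homOfLE inf_le_right := by
    simp only [δ, Category.assoc, pullback.mapDesc, pullback.map, pullback.lift_snd,
      Category.comp_id]
    exact he2
  have hr := range_eq_sup hE δ
  rw [hδ1, hδ2] at hr
  have hbij : Function.Bijective e.hom.appTop :=
    ConcreteCategory.bijective_of_isIso e.hom.appTop
  have hδapp : ∀ x, δ.appTop x = e.hom.appTop ((pullback.mapDesc U.ι V.ι f).appTop x) :=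
    fun x => appTop_comp_apply _ _ x
  have hsurj : Function.Surjective (pullback.mapDesc U.ι V.ι f).appTop ↔
      Function.Surjective δ.appTop := by
    constructor
    · intro h y
      obtain ⟨y', rfl⟩ := hbij.2 y
      obtain ⟨x, rfl⟩ := h y'
      exact ⟨x, hδapp x⟩
    · intro h y
      obtain ⟨x, hx⟩ := h (e.hom.appTop y)
      exact ⟨x, hbij.1 ((hδapp x).symm.trans hx)⟩
  have hrange : Function.Surjective δ.appTop ↔ δ.appTop.hom.range = ⊤ :=
    (RingHom.range_eq_top (f := δ.appTop.hom)).symm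
  rw [hsurj, hrange, hr]
  refine and_congr ⟨fun h => ?_, fun h => ?_⟩ Iff.rfl
  · exact IsAffine.of_isIso e.hom
  · haveI : IsAffine ((U ⊓ V : X.Opens) : Scheme.{u}) := h
    exact IsAffine.of_isIso e.inv

theorem of_isSeparated {X T : Scheme.{u}} [IsAffine T] (f : X ⟶ T) [IsSeparated f]
    (U V : X.Opens) (hU : IsAffineOpen U) (hV : IsAffineOpen V) :
    IsAffineOpen (U ⊓ V) ∧
      (X.homOfLE (inf_le_left : U ⊓ V ≤ U)).appTop.hom.range ⊔
        (X.homOfLE (inf_le_right : U ⊓ V ≤ V)).appTop.hom.range = ⊤ := by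
  have h1 : MorphismProperty.diagonal @IsClosedImmersion f :=
    IsSeparated.diagonal_isClosedImmersion
  have h2 := (HasAffineProperty.diagonal_iff @IsClosedImmersion).mpr h1
  haveI : IsAffine (U : Scheme.{u}) := hU
  haveI : IsAffine (V : Scheme.{u}) := hV
  have h3 := h2 U.ι V.ι
  exact (qci_mapDesc_iff f U V hU hV).mp h3

theorem isSeparated_of_cover {X T : Scheme.{u}} [IsAffine T] (g : X ⟶ T) {ι : Type u}
    (U : ι → X.Opens) (hU : iSup U = ⊤) (hUaff : ∀ a, IsAffineOpen (U a))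
    (h : ∀ a b, IsAffineOpen (U a ⊓ U b) ∧
      (X.homOfLE (inf_le_left : U a ⊓ U b ≤ U a)).appTop.hom.range ⊔
        (X.homOfLE (inf_le_right : U a ⊓ U b ≤ U b)).appTop.hom.range = ⊤) :
    IsSeparated g := by
  let 𝒰 := X.openCoverOfIsOpenCover U hU
  haveI : ∀ a, IsAffine (𝒰.X a) := hUaff
  letI := HasAffineProperty.isLocal_affineProperty @IsClosedImmersion
  have h1 := AffineTargetMorphismProperty.diagonal_of_openCover_source
    (Q := fun X _ f _ ↦ IsAffine X ∧ Function.Surjective (f.appTop)) g 𝒰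
    (fun a b => (qci_mapDesc_iff g (U a) (U b) (hUaff a) (hUaff b)).mpr (h a b))
  exact ⟨(HasAffineProperty.diagonal_iff @IsClosedImmersion).mp h1⟩

/-! ### Part 3: the ring-level colimit argument -/

section RL

variable {K : Type u} [SmallCategory K] [IsCofiltered K]
  (𝒜 ℬ 𝒲 : K ⥤ Scheme.{u}) (a : 𝒲 ⟶ 𝒜) (b : 𝒲 ⟶ ℬ)

/-- The subring of `Γ(𝒲_k)` generated by the images of `Γ(𝒜_k)` and `Γ(ℬ_k)`. -/
def supR (k : K) : Subring Γ(𝒲.obj k, ⊤) :=
  (a.app k).appTop.hom.range ⊔ (b.app k).appTop.hom.range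

theorem mem_of_eq {R : Type*} [Ring R] {S : Subring R} {x y : R} (h : x = y) (hy : y ∈ S) :
    x ∈ S := h ▸ hy

theorem map_comp_apply {k'' k' k : K} (χ : k'' ⟶ k') (ψ : k' ⟶ k) (σ : Γ(𝒲.obj k, ⊤)) :
    (𝒲.map (χ ≫ ψ)).appTop σ = (𝒲.map χ).appTop ((𝒲.map ψ).appTop σ) :=
  (appTop_congr (𝒲.map_comp χ ψ) σ).trans (appTop_comp_apply _ _ σ)

theorem persist {k' k : K} (χ : k' ⟶ k) {w : Γ(𝒲.obj k, ⊤)} (hw : w ∈ supR 𝒜 ℬ 𝒲 a b k) :
    (𝒲.map χ).appTop w ∈ supR 𝒜 ℬ 𝒲 a b k' := by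
  have hle : supR 𝒜 ℬ 𝒲 a b k ≤ (supR 𝒜 ℬ 𝒲 a b k').comap (𝒲.map χ).appTop.hom := by
    refine sup_le ?_ ?_
    · rintro _ ⟨x, rfl⟩
      refine Subring.mem_comap.mpr
        ((le_sup_left : _ ≤ supR 𝒜 ℬ 𝒲 a b k') ⟨(𝒜.map χ).appTop x, ?_⟩)
      calc (a.app k').appTop ((𝒜.map χ).appTop x)
          = (a.app k' ≫ 𝒜.map χ).appTop x := (appTop_comp_apply _ _ x).symm
        _ = (𝒲.map χ ≫ a.app k).appTop x := appTop_congr (a.naturality χ).symm x
        _ = (𝒲.map χ).appTop ((a.app k).appTop x) := appTop_comp_apply _ _ x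
    · rintro _ ⟨x, rfl⟩
      refine Subring.mem_comap.mpr
        ((le_sup_right : _ ≤ supR 𝒜 ℬ 𝒲 a b k') ⟨(ℬ.map χ).appTop x, ?_⟩)
      calc (b.app k').appTop ((ℬ.map χ).appTop x)
          = (b.app k' ≫ ℬ.map χ).appTop x := (appTop_comp_apply _ _ x).symm
        _ = (𝒲.map χ ≫ b.app k).appTop x := appTop_congr (b.naturality χ).symm x
        _ = (𝒲.map χ).appTop ((b.app k).appTop x) := appTop_comp_apply _ _ x
  exact hle hw

variable (cA : Cone 𝒜) (cB : Cone ℬ) (cW : Cone 𝒲)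

theorem push_eq {k' k : K} (χ : k' ⟶ k) (w : Γ(𝒲.obj k, ⊤)) :
    (cW.π.app k').appTop ((𝒲.map χ).appTop w) = (cW.π.app k).appTop w :=
  (appTop_comp_apply _ _ w).symm.trans (appTop_congr (cW.w χ) w)

/-- Sections of the limit which come from the sup at some stage. -/
def Qsub : Subring Γ(cW.pt, ⊤) where
  carrier := {z | ∃ (k : K) (w : Γ(𝒲.obj k, ⊤)), w ∈ supR 𝒜 ℬ 𝒲 a b k ∧
    (cW.π.app k).appTop w = z}
  mul_mem' := by
    rintro _ _ ⟨k, w, hw, rfl⟩ ⟨k', w', hw', rfl⟩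
    refine ⟨IsCofiltered.min k k',
      (𝒲.map (IsCofiltered.minToLeft k k')).appTop w *
        (𝒲.map (IsCofiltered.minToRight k k')).appTop w',
      Subring.mul_mem _ (persist 𝒜 ℬ 𝒲 a b _ hw) (persist 𝒜 ℬ 𝒲 a b _ hw'), ?_⟩
    rw [map_mul]
    exact congrArg₂ (· * ·) (push_eq 𝒲 cW _ w) (push_eq 𝒲 cW _ w')
  one_mem' := ⟨IsCofiltered.nonempty.some, 1, Subring.one_mem _, map_one _⟩
  add_mem' := by
    rintro _ _ ⟨k, w, hw, rfl⟩ ⟨k', w', hw', rfl⟩
    refine ⟨IsCofiltered.min k k',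
      (𝒲.map (IsCofiltered.minToLeft k k')).appTop w +
        (𝒲.map (IsCofiltered.minToRight k k')).appTop w',
      Subring.add_mem _ (persist 𝒜 ℬ 𝒲 a b _ hw) (persist 𝒜 ℬ 𝒲 a b _ hw'), ?_⟩
    rw [map_add]
    exact congrArg₂ (· + ·) (push_eq 𝒲 cW _ w) (push_eq 𝒲 cW _ w')
  zero_mem' := ⟨IsCofiltered.nonempty.some, 0, Subring.zero_mem _, map_zero _⟩
  neg_mem' := by
    rintro _ ⟨k, w, hw, rfl⟩
    exact ⟨k, -w, Subring.neg_mem _ hw, map_neg _ _⟩

variable {𝒜 ℬ 𝒲 a b cA cB cW}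

theorem exists_supR_eq_top (hA : IsLimit cA) (hB : IsLimit cB) (hW : IsLimit cW)
    [∀ k, IsAffine (𝒜.obj k)] [∀ k, IsAffine (ℬ.obj k)] [∀ k, IsAffine (𝒲.obj k)]
    (ainf : cW.pt ⟶ cA.pt) (binf : cW.pt ⟶ cB.pt)
    (ha : ∀ k, ainf ≫ cA.π.app k = cW.π.app k ≫ a.app k)
    (hb : ∀ k, binf ≫ cB.π.app k = cW.π.app k ≫ b.app k)
    (hpb : ∀ {k' k : K} (χ : k' ⟶ k), IsPullback (𝒲.map χ) (a.app k') (a.app k) (𝒜.map χ))
    (hsup : ainf.appTop.hom.range ⊔ binf.appTop.hom.range = ⊤)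
    (k₁ : K) [LocallyOfFiniteType (a.app k₁)] :
    ∃ (k : K) (_ : k ⟶ k₁), ∀ (k' : K) (_ : k' ⟶ k), supR 𝒜 ℬ 𝒲 a b k' = ⊤ := by
  classical
  have hQ : ∀ z : Γ(cW.pt, ⊤), z ∈ Qsub 𝒜 ℬ 𝒲 a b cW := by
    have hle : ainf.appTop.hom.range ⊔ binf.appTop.hom.range ≤ Qsub 𝒜 ℬ 𝒲 a b cW := by
      refine sup_le ?_ ?_
      · rintro _ ⟨y, rfl⟩
        obtain ⟨k, y', hy'⟩ := exists_appTop_π_eq_of_isAffine_of_isLimit 𝒜 cA hA y
        refine ⟨k, (a.app k).appTop y',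
          (le_sup_left : _ ≤ supR 𝒜 ℬ 𝒲 a b k) ⟨y', rfl⟩, ?_⟩
        calc (cW.π.app k).appTop ((a.app k).appTop y')
            = (cW.π.app k ≫ a.app k).appTop y' := (appTop_comp_apply _ _ y').symm
          _ = (ainf ≫ cA.π.app k).appTop y' := appTop_congr (ha k).symm y'
          _ = ainf.appTop ((cA.π.app k).appTop y') := appTop_comp_apply _ _ y'
          _ = ainf.appTop y := by rw [hy']
      · rintro _ ⟨y, rfl⟩
        obtain ⟨k, y', hy'⟩ := exists_appTop_π_eq_of_isAffine_of_isLimit ℬ cB hB y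
        refine ⟨k, (b.app k).appTop y',
          (le_sup_right : _ ≤ supR 𝒜 ℬ 𝒲 a b k) ⟨y', rfl⟩, ?_⟩
        calc (cW.π.app k).appTop ((b.app k).appTop y')
            = (cW.π.app k ≫ b.app k).appTop y' := (appTop_comp_apply _ _ y').symm
          _ = (binf ≫ cB.π.app k).appTop y' := appTop_congr (hb k).symm y'
          _ = binf.appTop ((cB.π.app k).appTop y') := appTop_comp_apply _ _ y'
          _ = binf.appTop y := by rw [hy']
    intro z
    refine hle ?_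
    rw [hsup]
    trivial
  have hft : RingHom.FiniteType (a.app k₁).appTop.hom :=
    HasRingHomProperty.appTop (P := @LocallyOfFiniteType) _ inferInstance
  letI : Algebra Γ(𝒜.obj k₁, ⊤) Γ(𝒲.obj k₁, ⊤) := (a.app k₁).appTop.hom.toAlgebra
  obtain ⟨s, hs⟩ := (show Algebra.FiniteType Γ(𝒜.obj k₁, ⊤) Γ(𝒲.obj k₁, ⊤) from hft).out
  have stepA : ∀ (σ : Γ(𝒲.obj k₁, ⊤)) {k : K} (ψ : k ⟶ k₁), ∃ (k' : K) (χ : k' ⟶ k),
      (𝒲.map (χ ≫ ψ)).appTop σ ∈ supR 𝒜 ℬ 𝒲 a b k' := by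
    intro σ k ψ
    obtain ⟨k₂, w₂, hw₂, heq⟩ := hQ ((cW.π.app k₁).appTop σ)
    let k₃ := IsCofiltered.min k k₂
    let χ₁ : k₃ ⟶ k := IsCofiltered.minToLeft k k₂
    let χ₂ : k₃ ⟶ k₂ := IsCofiltered.minToRight k k₂
    let d : Γ(𝒲.obj k₃, ⊤) := (𝒲.map χ₂).appTop w₂ - (𝒲.map (χ₁ ≫ ψ)).appTop σ
    have hd : (cW.π.app k₃).appTop d = 0 := by
      have e1 : (cW.π.app k₃).appTop ((𝒲.map χ₂).appTop w₂) = (cW.π.app k₂).appTop w₂ :=
        push_eq 𝒲 cW χ₂ w₂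
      have e2 : (cW.π.app k₃).appTop ((𝒲.map (χ₁ ≫ ψ)).appTop σ) = (cW.π.app k₁).appTop σ :=
        push_eq 𝒲 cW (χ₁ ≫ ψ) σ
      show (cW.π.app k₃).appTop ((𝒲.map χ₂).appTop w₂ - (𝒲.map (χ₁ ≫ ψ)).appTop σ) = 0
      rw [map_sub, e1, e2, heq, sub_self]
    obtain ⟨k₄, χ₄, h0⟩ := exists_appTop_map_eq_zero_of_isAffine_of_isLimit 𝒲 cW hW k₃ d hd
    refine ⟨k₄, χ₄ ≫ χ₁, ?_⟩
    have h1 : (𝒲.map χ₄).appTop ((𝒲.map χ₂).appTop w₂) =
        (𝒲.map χ₄).appTop ((𝒲.map (χ₁ ≫ ψ)).appTop σ) := by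
      have h0' : (𝒲.map χ₄).appTop ((𝒲.map χ₂).appTop w₂ - (𝒲.map (χ₁ ≫ ψ)).appTop σ) = 0 := h0
      rw [map_sub, sub_eq_zero] at h0'
      exact h0'
    have h2 : (𝒲.map ((χ₄ ≫ χ₁) ≫ ψ)).appTop σ =
        (𝒲.map χ₄).appTop ((𝒲.map (χ₁ ≫ ψ)).appTop σ) :=
      (appTop_congr (by rw [← Functor.map_comp, Category.assoc]) σ).trans
        (appTop_comp_apply _ _ σ)
    exact mem_of_eq (h2.trans h1.symm)
      (persist 𝒜 ℬ 𝒲 a b χ₄ (persist 𝒜 ℬ 𝒲 a b χ₂ hw₂))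
  have stepB : ∀ t : Finset Γ(𝒲.obj k₁, ⊤), ∃ (k : K) (ψ : k ⟶ k₁), ∀ σ ∈ t,
      (𝒲.map ψ).appTop σ ∈ supR 𝒜 ℬ 𝒲 a b k := by
    intro t
    induction t using Finset.induction_on with
    | empty => exact ⟨k₁, 𝟙 k₁, fun σ hσ => absurd hσ (Finset.notMem_empty σ)⟩
    | insert σ t hσt ih =>
      obtain ⟨k, ψ, hk⟩ := ih
      obtain ⟨k', χ, hk'⟩ := stepA σ ψ
      refine ⟨k', χ ≫ ψ, fun σ' hσ' => ?_⟩
      rcases Finset.mem_insert.mp hσ' with rfl | hσ'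
      · exact hk'
      · exact mem_of_eq (map_comp_apply 𝒲 χ ψ σ') (persist 𝒜 ℬ 𝒲 a b χ (hk σ' hσ'))
  obtain ⟨k, ψ, hk⟩ := stepB s
  refine ⟨k, ψ, fun k' χ => ?_⟩
  have hle : (𝒲.map (χ ≫ ψ)).appTop.hom.range ≤ supR 𝒜 ℬ 𝒲 a b k' := by
    rintro _ ⟨x, rfl⟩
    have hx : x ∈ Algebra.adjoin Γ(𝒜.obj k₁, ⊤) (s : Set Γ(𝒲.obj k₁, ⊤)) := by
      rw [hs]; trivial
    induction hx using Algebra.adjoin_induction with
    | mem x hx =>
      exact mem_of_eq (map_comp_apply 𝒲 χ ψ x)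
        (persist 𝒜 ℬ 𝒲 a b χ (hk x (Finset.mem_coe.mp hx)))
    | algebraMap r =>
      refine (le_sup_left : _ ≤ supR 𝒜 ℬ 𝒲 a b k') ⟨(𝒜.map (χ ≫ ψ)).appTop r, ?_⟩
      calc (a.app k').appTop ((𝒜.map (χ ≫ ψ)).appTop r)
          = (a.app k' ≫ 𝒜.map (χ ≫ ψ)).appTop r := (appTop_comp_apply _ _ r).symm
        _ = (𝒲.map (χ ≫ ψ) ≫ a.app k₁).appTop r :=
            appTop_congr (a.naturality (χ ≫ ψ)).symm r
        _ = (𝒲.map (χ ≫ ψ)).appTop ((a.app k₁).appTop r) := appTop_comp_apply _ _ r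
    | add x y _ _ hx hy =>
      rw [map_add]
      exact Subring.add_mem _ hx hy
    | mul x y _ _ hx hy =>
      rw [map_mul]
      exact Subring.mul_mem _ hx hy
  have hpo := isPushout_appTop_of_isPullback (hpb (χ ≫ ψ))
  have hgen := range_sup_range_eq_top hpo
  rw [eq_top_iff, ← hgen]
  exact sup_le hle le_sup_left

end RL

/-! ### Part 4: limits of schemes -/

section Pair

variable {I : Type u} [SmallCategory I] [IsCofiltered I] (D : I ⥤ Scheme.{u}) (c : Cone D)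
  (hc : IsLimit c) [∀ (i j : I) (f : i ⟶ j), IsAffineHom (D.map f)]

/-- The transformation between the diagrams of preimages induced by `U ≤ V`. -/
noncomputable def opensDiagramHomOfLE (i : I) {U V : (D.obj i).Opens} (h : U ≤ V) :
    opensDiagram D i U ⟶ opensDiagram D i V where
  app k := (D.obj k.left).homOfLE ((D.map k.hom).preimage_mono h)
  naturality k' k χ := by
    rw [← cancel_mono (Scheme.Opens.ι _)]
    simp [Scheme.Hom.resLE_comp_ι]

instance (i : I) {U V : (D.obj i).Opens} (h : U ≤ V) (k : Over i) :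
    IsOpenImmersion ((opensDiagramHomOfLE D i h).app k) := by
  dsimp [opensDiagramHomOfLE]; infer_instance

theorem isPullback_opensDiagram (i : I) {W U : (D.obj i).Opens} (h : W ≤ U) {k' k : Over i}
    (χ : k' ⟶ k) :
    IsPullback ((opensDiagram D i W).map χ) ((opensDiagramHomOfLE D i h).app k')
      ((opensDiagramHomOfLE D i h).app k) ((opensDiagram D i U).map χ) := by
  refine IsOpenImmersion.isPullback _ _ _ _ ((opensDiagramHomOfLE D i h).naturality χ).symm ?_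
  dsimp only [opensDiagramHomOfLE, opensDiagram_map, opensDiagram_obj]
  simp only [Scheme.opensRange_homOfLE, ← Scheme.Hom.comp_preimage]
  have e : (opensDiagram D i U).map χ ≫ (D.map k.hom ⁻¹ᵁ U).ι ≫ D.map k.hom =
      (D.map k'.hom ⁻¹ᵁ U).ι ≫ D.map k'.hom := by
    rw [opensDiagram_map, Scheme.Hom.resLE_comp_ι_assoc, ← D.map_comp, Over.w χ]
  rw [e]

include hc in
theorem pair_stage (i₁ : I) (U V : (D.obj i₁).Opens) (hU : IsAffineOpen U) (hV : IsAffineOpen V)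
    (hUV : IsAffineOpen (U ⊓ V))
    (hsup : (c.pt.homOfLE ((c.π.app i₁).preimage_mono (inf_le_left : U ⊓ V ≤ U))).appTop.hom.range ⊔
      (c.pt.homOfLE ((c.π.app i₁).preimage_mono (inf_le_right : U ⊓ V ≤ V))).appTop.hom.range = ⊤) :
    ∃ k : Over i₁, ∀ (k' : Over i₁) (_ : k' ⟶ k),
      ((D.obj k'.left).homOfLE
          ((D.map k'.hom).preimage_mono (inf_le_left : U ⊓ V ≤ U))).appTop.hom.range ⊔
        ((D.obj k'.left).homOfLE
          ((D.map k'.hom).preimage_mono (inf_le_right : U ⊓ V ≤ V))).appTop.hom.range = ⊤ := by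
  haveI : ∀ k, IsAffine ((opensDiagram D i₁ U).obj k) := fun k => hU.preimage (D.map k.hom)
  haveI : ∀ k, IsAffine ((opensDiagram D i₁ V).obj k) := fun k => hV.preimage (D.map k.hom)
  haveI : ∀ k, IsAffine ((opensDiagram D i₁ (U ⊓ V)).obj k) := fun k =>
    hUV.preimage (D.map k.hom)
  obtain ⟨k, _, hk⟩ := exists_supR_eq_top
    (a := opensDiagramHomOfLE D i₁ (inf_le_left : U ⊓ V ≤ U))
    (b := opensDiagramHomOfLE D i₁ (inf_le_right : U ⊓ V ≤ V))
    (isLimitOpensCone D c hc i₁ U) (isLimitOpensCone D c hc i₁ V)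
    (isLimitOpensCone D c hc i₁ (U ⊓ V))
    (c.pt.homOfLE ((c.π.app i₁).preimage_mono inf_le_left))
    (c.pt.homOfLE ((c.π.app i₁).preimage_mono inf_le_right))
    (fun k => by
      rw [← cancel_mono (Scheme.Opens.ι _)]
      simp [opensDiagramHomOfLE, Scheme.Hom.resLE_comp_ι])
    (fun k => by
      rw [← cancel_mono (Scheme.Opens.ι _)]
      simp [opensDiagramHomOfLE, Scheme.Hom.resLE_comp_ι])
    (fun χ => isPullback_opensDiagram D i₁ inf_le_left χ) hsup (Over.mk (𝟙 i₁))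
  exact ⟨k, fun k' χ => hk k' χ⟩

include hc in
/-- If the limit is separated over an affine scheme, then so are all stages beyond some index. -/
theorem core [∀ i, CompactSpace (D.obj i)] [∀ i, QuasiSeparatedSpace (D.obj i)]
    {T : Scheme.{u}} [IsAffine T] (f : c.pt ⟶ T) [IsSeparated f] :
    ∃ i₁ : I, ∀ (i : I) (_ : i ⟶ i₁) {T' : Scheme.{u}} [IsAffine T'] (g : D.obj i ⟶ T'),
      IsSeparated g := by
  classical
  obtain ⟨i₀⟩ := IsCofiltered.nonempty (C := I)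
  have hcov : ∀ x : D.obj i₀, ∃ V : (D.obj i₀).Opens, IsAffineOpen V ∧ x ∈ V := fun x => by
    obtain ⟨_, ⟨(V : (D.obj i₀).Opens), hV, rfl⟩, hxV, -⟩ :=
      (D.obj i₀).isBasis_affineOpens.exists_subset_of_mem_open (Set.mem_univ x) isOpen_univ
    exact ⟨V, hV, hxV⟩
  choose V₀ hV₀aff hxV₀ using hcov
  obtain ⟨t, ht⟩ := isCompact_univ.elim_finite_subcover (fun x => (V₀ x : Set (D.obj i₀)))
    (fun x => (V₀ x).isOpen) (fun x _ => Set.mem_iUnion.mpr ⟨x, hxV₀ x⟩)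
  let V : t → (D.obj i₀).Opens := fun k => V₀ k.1
  have hVtop : iSup V = ⊤ := by
    rw [eq_top_iff]
    intro x _
    obtain ⟨y, hy⟩ := Set.mem_iUnion.mp (ht (Set.mem_univ x))
    obtain ⟨hyt, hxy⟩ := Set.mem_iUnion.mp hy
    exact TopologicalSpace.Opens.mem_iSup.mpr ⟨⟨y, hyt⟩, hxy⟩
  have hVaff : ∀ a, IsAffineOpen (V a) := fun a => hV₀aff a.1
  haveI : ∀ i, IsAffineHom (c.π.app i) := fun i => isAffineHom_π_app D c hc i
  -- Step 1: the pairwise intersections become affine at some stage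
  have step1 : ∀ p : t × t, ∃ j : Over i₀,
      IsAffineOpen (D.map j.hom ⁻¹ᵁ (V p.1 ⊓ V p.2)) := by
    intro p
    have hlim := (of_isSeparated f (c.π.app i₀ ⁻¹ᵁ V p.1) (c.π.app i₀ ⁻¹ᵁ V p.2)
      ((hVaff p.1).preimage _) ((hVaff p.2).preimage _)).1
    have hWc : IsCompact ((V p.1 ⊓ V p.2 : (D.obj i₀).Opens) : Set (D.obj i₀)) :=
      QuasiSeparatedSpace.inter_isCompact _ _ (V p.1).isOpen (hVaff p.1).isCompact
        (V p.2).isOpen (hVaff p.2).isCompact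
    haveI : ∀ j, CompactSpace ((opensDiagram D i₀ (V p.1 ⊓ V p.2)).obj j) := fun j =>
      isCompact_iff_compactSpace.mp
        (QuasiCompact.isCompact_preimage (f := D.map j.hom) _ (V p.1 ⊓ V p.2).2 hWc)
    haveI : ∀ j, QuasiSeparatedSpace ((opensDiagram D i₀ (V p.1 ⊓ V p.2)).obj j) := fun j =>
      quasiSeparatedSpace_of_quasiSeparated (D.map j.hom ⁻¹ᵁ (V p.1 ⊓ V p.2)).ι
    haveI : IsAffine (opensCone D c i₀ (V p.1 ⊓ V p.2)).pt := hlim
    obtain ⟨j, hj⟩ := Scheme.exists_isAffine_of_isLimit (opensDiagram D i₀ (V p.1 ⊓ V p.2))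
      (opensCone D c i₀ _) (isLimitOpensCone D c hc i₀ _)
    exact ⟨j, hj⟩
  choose j hj using step1
  obtain ⟨k, hk⟩ := IsCofiltered.inf_objs_exists (Finset.univ.image j)
  have hk' : ∀ p, Nonempty (k ⟶ j p) := fun p =>
    hk (Finset.mem_image_of_mem j (Finset.mem_univ p))
  -- re-base at `k`
  let V' : t → (D.obj k.left).Opens := fun a => D.map k.hom ⁻¹ᵁ V a
  have hV'aff : ∀ a, IsAffineOpen (V' a) := fun a => (hVaff a).preimage (D.map k.hom)
  have hV'top : iSup V' = ⊤ := (D.map k.hom).iSup_preimage_eq_top hVtop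
  have hV'inter : ∀ a b, IsAffineOpen (V' a ⊓ V' b) := by
    intro a b
    obtain ⟨m⟩ := hk' (a, b)
    have h := (hj (a, b)).preimage (D.map m.left)
    have e : D.map m.left ⁻¹ᵁ (D.map (j (a, b)).hom ⁻¹ᵁ (V a ⊓ V b)) = V' a ⊓ V' b := by
      rw [← Scheme.Hom.comp_preimage, ← D.map_comp, Over.w m]
      rfl
    rwa [e] at h
  -- Step 2: surjectivity at some stage
  have step2 : ∀ p : t × t, ∃ kp : Over k.left, ∀ (k' : Over k.left) (_ : k' ⟶ kp),
      ((D.obj k'.left).homOfLE ((D.map k'.hom).preimage_mono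
          (inf_le_left : V' p.1 ⊓ V' p.2 ≤ V' p.1))).appTop.hom.range ⊔
        ((D.obj k'.left).homOfLE ((D.map k'.hom).preimage_mono
          (inf_le_right : V' p.1 ⊓ V' p.2 ≤ V' p.2))).appTop.hom.range = ⊤ := by
    intro p
    have hlim := (of_isSeparated f (c.π.app k.left ⁻¹ᵁ V' p.1) (c.π.app k.left ⁻¹ᵁ V' p.2)
      ((hV'aff p.1).preimage _) ((hV'aff p.2).preimage _)).2
    exact pair_stage D c hc k.left (V' p.1) (V' p.2) (hV'aff _) (hV'aff _) (hV'inter _ _) hlim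
  choose kk hkk using step2
  obtain ⟨k₂, hk₂⟩ := IsCofiltered.inf_objs_exists (Finset.univ.image kk)
  have hk₂' : ∀ p, Nonempty (k₂ ⟶ kk p) := fun p =>
    hk₂ (Finset.mem_image_of_mem kk (Finset.mem_univ p))
  refine ⟨k₂.left, fun i φ T' _ g => ?_⟩
  let k' : Over k.left := Over.mk (φ ≫ k₂.hom)
  refine isSeparated_of_cover g (fun a => D.map k'.hom ⁻¹ᵁ V' a)
    ((D.map k'.hom).iSup_preimage_eq_top hV'top) (fun a => (hV'aff a).preimage _)
    (fun a b => ⟨(hV'inter a b).preimage (D.map k'.hom), ?_⟩)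
  obtain ⟨m⟩ := hk₂' (a, b)
  let χ : k' ⟶ kk (a, b) := Over.homMk (φ ≫ m.left) (by simp [k', Over.w m])
  exact hkk (a, b) k' χ

end Pair

end Groth.Agent.Lib.LimSepH7
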