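import Mathlib
import Groth.Prelude
import Groth.Agent.Lib.LimSep_helper7

set_option autoImplicit false
set_option backward.isDefEq.respectTransparency false
universe u
open CategoryTheory CategoryTheory.Limits AlgebraicGeometry

namespace Groth.Agent.Lib.LimSep2H7

open Groth.Agent.Lib.LimSepH7

/-- Relative version: a cofiltered limit of qcqs schemes over a quasi-separated base which is
separated over the base has separated stages beyond some index. -/
theorem relative {I : Type u} [SmallCategory I] [IsCofiltered I] (S : Scheme.{u})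
    [QuasiSeparatedSpace S] (D : I ⥤ Scheme.{u}) (ti : ∀ i, D.obj i ⟶ S)
    (hti : ∀ {i j : I} (φ : i ⟶ j), D.map φ ≫ ti j = ti i) (c : Cone D) (hc : IsLimit c)
    [∀ (i j : I) (a : i ⟶ j), IsAffineHom (D.map a)]
    [∀ i, CompactSpace (D.obj i)] [∀ i, QuasiSeparatedSpace (D.obj i)] (i₀ : I)
    [IsSeparated (c.π.app i₀ ≫ ti i₀)] :
    ∃ i₁ : I, ∀ (i : I) (_ : i ⟶ i₁), IsSeparated (ti i) := by
  classical
  have hcov : ∀ x : D.obj i₀, ∃ W : S.Opens, IsAffineOpen W ∧ (ti i₀) x ∈ W := fun x => by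
    obtain ⟨_, ⟨(W : S.Opens), hW, rfl⟩, hxW, -⟩ :=
      S.isBasis_affineOpens.exists_subset_of_mem_open (Set.mem_univ ((ti i₀) x)) isOpen_univ
    exact ⟨W, hW, hxW⟩
  choose W₀ hW₀aff hxW₀ using hcov
  obtain ⟨s, hs⟩ := isCompact_univ.elim_finite_subcover
    (fun x => (((ti i₀) ⁻¹ᵁ W₀ x : (D.obj i₀).Opens) : Set (D.obj i₀)))
    (fun x => ((ti i₀) ⁻¹ᵁ W₀ x).isOpen) (fun x _ => Set.mem_iUnion.mpr ⟨x, hxW₀ x⟩)
  let W : s → S.Opens := fun l => W₀ l.1
  have hWaff : ∀ l, IsAffineOpen (W l) := fun l => hW₀aff l.1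
  let U : s → (D.obj i₀).Opens := fun l => (ti i₀) ⁻¹ᵁ W l
  have hUtop : iSup U = ⊤ := by
    rw [eq_top_iff]
    intro x _
    obtain ⟨y, hy⟩ := Set.mem_iUnion.mp (hs (Set.mem_univ x))
    obtain ⟨hys, hxy⟩ := Set.mem_iUnion.mp hy
    exact TopologicalSpace.Opens.mem_iSup.mpr ⟨⟨y, hys⟩, hxy⟩
  have step : ∀ l : s, ∃ j : Over i₀, ∀ (j' : Over i₀) (_ : j' ⟶ j) {T' : Scheme.{u}}
      [IsAffine T'] (g : ((D.map j'.hom ⁻¹ᵁ U l : (D.obj j'.left).Opens) : Scheme.{u}) ⟶ T'),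
      IsSeparated g := by
    intro l
    have hUc : IsCompact ((U l : (D.obj i₀).Opens) : Set (D.obj i₀)) :=
      QuasiCompact.isCompact_preimage (f := ti i₀) _ (W l).2 (hWaff l).isCompact
    haveI : ∀ j, CompactSpace ((opensDiagram D i₀ (U l)).obj j) := fun j =>
      isCompact_iff_compactSpace.mp
        (QuasiCompact.isCompact_preimage (f := D.map j.hom) _ (U l).2 hUc)
    haveI : ∀ j, QuasiSeparatedSpace ((opensDiagram D i₀ (U l)).obj j) := fun j =>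
      quasiSeparatedSpace_of_quasiSeparated (D.map j.hom ⁻¹ᵁ U l).ι
    haveI : IsAffine ((W l : S.Opens) : Scheme.{u}) := hWaff l
    let fl : (opensCone D c i₀ (U l)).pt ⟶ ((W l : S.Opens) : Scheme.{u}) :=
      (c.π.app i₀ ≫ ti i₀) ∣_ W l
    haveI : IsSeparated fl := by dsimp only [fl]; infer_instance
    obtain ⟨j, hj⟩ := core (opensDiagram D i₀ (U l)) (opensCone D c i₀ (U l))
      (isLimitOpensCone D c hc i₀ (U l)) fl
    exact ⟨j, fun j' χ T' _ g => hj j' χ g⟩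
  choose jj hjj using step
  obtain ⟨k, hk⟩ := IsCofiltered.inf_objs_exists (Finset.univ.image jj)
  have hk' : ∀ l, Nonempty (k ⟶ jj l) := fun l =>
    hk (Finset.mem_image_of_mem jj (Finset.mem_univ l))
  refine ⟨k.left, fun i φ => ?_⟩
  let j' : Over i₀ := Over.mk (φ ≫ k.hom)
  have hti' : ti i = D.map j'.hom ≫ ti i₀ := (hti j'.hom).symm
  let S' : S.Opens := ⨆ l, W l
  have hrange : Set.range (ti i) ⊆ Set.range S'.ι := by
    rw [Scheme.Opens.range_ι]
    rintro _ ⟨x, rfl⟩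
    have hx : D.map j'.hom x ∈ (⊤ : (D.obj i₀).Opens) := trivial
    rw [← hUtop] at hx
    obtain ⟨l, hl⟩ := TopologicalSpace.Opens.mem_iSup.mp hx
    refine TopologicalSpace.Opens.mem_iSup.mpr ⟨l, ?_⟩
    have : ti i x = ti i₀ (D.map j'.hom x) :=
      (congrArg (fun (f : D.obj i ⟶ S) => f x) hti').trans (Scheme.Hom.comp_apply _ _ x)
    rw [this]
    exact hl
  let t' : D.obj i ⟶ (S' : Scheme.{u}) := IsOpenImmersion.lift S'.ι (ti i) hrange
  have ht' : t' ≫ S'.ι = ti i := IsOpenImmersion.lift_fac _ _ _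
  suffices h : IsSeparated t' by
    rw [← ht']
    infer_instance
  let Vl : s → (S' : Scheme.{u}).Opens := fun l => S'.ι ⁻¹ᵁ W l
  have hVtop : iSup Vl = ⊤ := by
    rw [← Scheme.Hom.preimage_iSup]
    exact S'.ι_preimage_self
  refine IsZariskiLocalAtTarget.of_iSup_eq_top (P := @IsSeparated) Vl hVtop (fun l => ?_)
  have hVaff : IsAffineOpen (Vl l) :=
    (hWaff l).preimage_of_isOpenImmersion S'.ι (by
      rw [Scheme.Opens.opensRange_ι]
      exact le_iSup W l)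
  haveI : IsAffine ((Vl l : (S' : Scheme.{u}).Opens) : Scheme.{u}) := hVaff
  have heq : t' ⁻¹ᵁ Vl l = D.map j'.hom ⁻¹ᵁ U l := by
    show t' ⁻¹ᵁ (S'.ι ⁻¹ᵁ W l) = D.map j'.hom ⁻¹ᵁ (ti i₀ ⁻¹ᵁ W l)
    rw [← Scheme.Hom.comp_preimage, ← Scheme.Hom.comp_preimage, ht', hti']
  obtain ⟨m⟩ := hk' l
  let χ : j' ⟶ jj l := Over.homMk (φ ≫ m.left) (by simp [j', Over.w m])
  have hg : IsSeparated (((D.obj i).isoOfEq heq).inv ≫ (t' ∣_ Vl l)) :=
    hjj l j' χ (((D.obj i).isoOfEq heq).inv ≫ (t' ∣_ Vl l))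
  have e : t' ∣_ Vl l =
      ((D.obj i).isoOfEq heq).hom ≫ (((D.obj i).isoOfEq heq).inv ≫ (t' ∣_ Vl l)) := by simp
  rw [e]
  infer_instance

end Groth.Agent.Lib.LimSep2H7
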