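import Mathlib
import Groth.Agent.Lib.SchFT_helper8

/-! Schemes of finite type over `ℤ`: closed points have finite residue fields, and there are
finitely many points with residue field inside a given finite field. -/

universe u

open AlgebraicGeometry CategoryTheory

namespace Groth.Agent.FTIntH8

theorem int_isJacobsonRing : IsJacobsonRing ℤ := by
  rw [isJacobsonRing_iff_prime_eq]
  intro P hP
  by_cases hbot : P = ⊥
  · subst hbot
    rw [eq_bot_iff]
    intro x hx
    rw [Ideal.mem_jacobson_bot] at hx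
    have h := hx x
    rw [Int.isUnit_iff] at h
    rw [Ideal.mem_bot]
    rcases h with h | h
    · have : x * x = 0 := by linarith
      exact mul_self_eq_zero.mp this
    · nlinarith [mul_self_nonneg x]
  · have : P.IsMaximal := hP.isMaximal hbot
    exact Ideal.jacobson_eq_self_of_isMaximal

/-- A field of finite type over `ℤ` is finite. -/
theorem finite_of_field_finiteType_int (K : Type*) [CommRing K] [Algebra.FiniteType ℤ K]
    (hK : IsField K) : Finite K := by
  letI := hK.toField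
  haveI := int_isJacobsonRing
  haveI hfin : Module.Finite ℤ K := finite_of_finite_type_of_isJacobsonRing ℤ K
  obtain ⟨p, hp⟩ := CharP.exists K
  rcases CharP.char_is_prime_or_zero K p with hpp | hp0
  · haveI : Fact p.Prime := ⟨hpp⟩
    letI := ZMod.algebra K p
    haveI : Module.Finite (ZMod p) K := Module.Finite.of_restrictScalars_finite ℤ (ZMod p) K
    exact Module.finite_of_finite (ZMod p)
  · exfalso
    subst hp0
    haveI : CharZero K := CharP.charP_to_charZero K
    haveI : Algebra.IsIntegral ℤ K := Algebra.IsIntegral.of_finite ℤ K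
    have h1 : IsIntegral ℤ (algebraMap ℚ K (1 / 2)) := Algebra.IsIntegral.isIntegral _
    have h2 : IsIntegral ℤ (1 / 2 : ℚ) :=
      (isIntegral_algebraMap_iff (algebraMap ℚ K).injective).mp h1
    obtain ⟨y, hy⟩ := IsIntegrallyClosed.isIntegral_iff.mp h2
    have h3 : (2 : ℚ) * (y : ℚ) = 1 := by
      have : ((y : ℤ) : ℚ) = 1 / 2 := by simpa using hy
      rw [this]; norm_num
    have h4 : (2 : ℤ) * y = 1 := by exact_mod_cast h3
    omega

/-- Ring homs from a finite type `ℤ`-algebra to a finite ring form a finite set. -/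
theorem finite_ringHom (R F : Type*) [CommRing R] [Algebra.FiniteType ℤ R] [CommRing F] [Finite F] :
    Finite (R →+* F) := by
  obtain ⟨s, hs⟩ := (Algebra.FiniteType.out : (⊤ : Subalgebra ℤ R).FG)
  let Φ : (R →+* F) → (s → F) := fun φ x => φ x.1
  refine Finite.of_injective Φ ?_
  intro φ ψ h
  have h' : ∀ x ∈ (s : Set R), φ x = ψ x := fun x hx => congrFun h ⟨x, hx⟩
  have := AlgHom.ext_of_adjoin_eq_top (φ₁ := φ.toIntAlgHom) (φ₂ := ψ.toIntAlgHom) hs
    (fun x hx => h' x hx)
  ext x
  exact congrArg (fun f : R →ₐ[ℤ] F => f x) this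

variable {Y : Scheme.{u}} (g : Y ⟶ Spec (CommRingCat.of (ULift.{u} ℤ))) [LocallyOfFiniteType g]

include g in
theorem finiteType_int_sec (U : Y.Opens) (hU : IsAffineOpen U) : Algebra.FiniteType ℤ Γ(Y, U) := by
  have h1 : (g.appLE ⊤ U le_top).hom.FiniteType :=
    HasRingHomProperty.appLE (P := @LocallyOfFiniteType) _ inferInstance
      ⟨⊤, isAffineOpen_top _⟩ ⟨U, hU⟩ le_top
  let ψ : ℤ →+* Γ(Spec (CommRingCat.of (ULift.{u} ℤ)), ⊤) :=
    (Scheme.ΓSpecIso (CommRingCat.of (ULift.{u} ℤ))).inv.hom.comp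
      ((ULift.ringEquiv (R := ℤ)).symm : ℤ →+* ULift.{u} ℤ)
  have hψ : Function.Surjective ψ := by
    intro w
    obtain ⟨a, ha⟩ := (ConcreteCategory.bijective_of_isIso
      (Scheme.ΓSpecIso (CommRingCat.of (ULift.{u} ℤ))).inv).2 w
    refine ⟨a.down, ?_⟩
    rw [← ha]
    rfl
  have h3 : ((g.appLE ⊤ U le_top).hom.comp ψ).FiniteType :=
    h1.comp (RingHom.FiniteType.of_surjective _ hψ)
  have h4 : ((g.appLE ⊤ U le_top).hom.comp ψ).toAlgebra = (inferInstance : Algebra ℤ Γ(Y, U)) :=
    Subsingleton.elim _ _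
  unfold RingHom.FiniteType at h3
  rw [h4] at h3
  exact h3

include g in
theorem jacobsonSpace : JacobsonSpace Y := by
  haveI : IsJacobsonRing (ULift.{u} ℤ) :=
    (isJacobsonRing_iso (ULift.ringEquiv (R := ℤ))).mpr int_isJacobsonRing
  exact LocallyOfFiniteType.jacobsonSpace g

/-- injection `Γ(U)/P_y → κ(y)`. -/
theorem exists_injective_quotient_to_residueField {U : Y.Opens} (hU : IsAffineOpen U) (y : Y)
    (hy : y ∈ U) :
    ∃ ψ : (Γ(Y, U) ⧸ (hU.primeIdealOf ⟨y, hy⟩).asIdeal) →+* Y.residueField y,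
      Function.Injective ψ ∧
      (((hU.primeIdealOf ⟨y, hy⟩).asIdeal).IsMaximal → Function.Surjective ψ) := by
  set p := (hU.primeIdealOf ⟨y, hy⟩).asIdeal with hp
  have hker : RingHom.ker (Groth.Agent.SchFTH8.toRes U y hy) = p :=
    Groth.Agent.SchFTH8.ker_toRes hU y hy
  let ψ : Γ(Y, U) ⧸ p →+* Y.residueField y :=
    Ideal.Quotient.lift p (Groth.Agent.SchFTH8.toRes U y hy) (fun a ha => by
      rw [← RingHom.mem_ker, hker]; exact ha)
  have hψ : ∀ a, ψ (Ideal.Quotient.mk p a) = Groth.Agent.SchFTH8.toRes U y hy a :=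
    fun a => Ideal.Quotient.lift_mk _ _ _
  have hψinj : Function.Injective ψ := by
    rw [injective_iff_map_eq_zero]
    intro a ha
    obtain ⟨a, rfl⟩ := Ideal.Quotient.mk_surjective a
    rw [hψ, ← RingHom.mem_ker, hker] at ha
    exact Ideal.Quotient.eq_zero_iff_mem.mpr ha
  refine ⟨ψ, hψinj, fun hmax => ?_⟩
  intro z
  obtain ⟨s, rfl⟩ := Y.residue_surjective y z
  letI : Algebra Γ(Y, U) (Y.presheaf.stalk y) :=
    TopCat.Presheaf.algebra_section_stalk Y.presheaf (⟨y, hy⟩ : U)
  haveI : IsLocalization.AtPrime (Y.presheaf.stalk y) p := hU.isLocalization_stalk ⟨y, hy⟩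
  obtain ⟨⟨a, t⟩, h⟩ := IsLocalization.surj p.primeCompl s
  have h' : s * (Y.presheaf.germ U y hy).hom t.1 = (Y.presheaf.germ U y hy).hom a := h
  have h2 : (Y.residue y).hom s * Groth.Agent.SchFTH8.toRes U y hy t.1 =
      Groth.Agent.SchFTH8.toRes U y hy a := by
    have := congrArg (Y.residue y).hom h'
    rw [map_mul] at this
    exact this
  have ht : Ideal.Quotient.mk p t.1 ≠ 0 := by
    rw [Ne, Ideal.Quotient.eq_zero_iff_mem]
    exact t.2
  letI := Ideal.Quotient.field p
  refine ⟨Ideal.Quotient.mk p a * (Ideal.Quotient.mk p t.1)⁻¹, ?_⟩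
  have hne : ψ (Ideal.Quotient.mk p t.1) ≠ 0 := by
    intro h0
    exact ht (hψinj (by rw [h0, map_zero]))
  rw [map_mul, hψ, ← h2, ← hψ, mul_assoc, ← map_mul, mul_inv_cancel₀ ht, map_one, mul_one]

include g in
theorem isClosed_iff_finite (y : Y) : IsClosed ({y} : Set Y) ↔ Finite ↑(Y.residueField y) := by
  haveI := jacobsonSpace g
  obtain ⟨_, ⟨U, hU, rfl⟩, hyU, -⟩ :=
    Y.isBasis_affineOpens.exists_subset_of_mem_open (Set.mem_univ y) isOpen_univ
  have hU' : IsAffineOpen U := hU
  haveI := finiteType_int_sec g U hU'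
  set p := (hU'.primeIdealOf ⟨y, hyU⟩).asIdeal with hp
  haveI hpp : p.IsPrime := (hU'.primeIdealOf ⟨y, hyU⟩).2
  obtain ⟨ψ, hinj, hsurj⟩ := exists_injective_quotient_to_residueField hU' y hyU
  -- closedness of `y` in `U` is maximality of `p`
  have hhomeo : IsHomeomorph (hU'.isoSpec.hom : U → Spec Γ(Y, U)) :=
    (TopCat.isIso_iff_isHomeomorph _).mp inferInstance
  have hcl : IsClosed ({(⟨y, hyU⟩ : U)} : Set U) ↔ p.IsMaximal := by
    rw [← PrimeSpectrum.isClosed_singleton_iff_isMaximal]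
    let e := hhomeo.homeomorph
    have : ({hU'.primeIdealOf ⟨y, hyU⟩} : Set (PrimeSpectrum Γ(Y, U))) =
        e '' {(⟨y, hyU⟩ : U)} := Set.image_singleton.symm
    rw [this]
    exact (e.isClosed_image).symm
  constructor
  · intro hy
    have h1 : IsClosed ({(⟨y, hyU⟩ : U)} : Set U) := by
      have : ({(⟨y, hyU⟩ : U)} : Set U) = Subtype.val ⁻¹' ({y} : Set Y) :=
        Set.ext fun z => ⟨fun hz => (congrArg Subtype.val (hz : z = ⟨y, hyU⟩) : z.1 = y),
          fun hz => Subtype.ext (hz : z.1 = y)⟩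
      rw [this]
      exact hy.preimage continuous_subtype_val
    have hmax : p.IsMaximal := hcl.mp h1
    haveI : Algebra.FiniteType ℤ (Γ(Y, U) ⧸ p) :=
      Algebra.FiniteType.of_surjective (Ideal.Quotient.mk p).toIntAlgHom
        Ideal.Quotient.mk_surjective
    haveI : Finite (Γ(Y, U) ⧸ p) :=
      @finite_of_field_finiteType_int (Γ(Y, U) ⧸ p) _ this
        ((Ideal.Quotient.maximal_ideal_iff_isField_quotient p).mp hmax)
    exact Finite.of_surjective ψ (hsurj hmax)
  · intro hfin
    haveI : Finite (Γ(Y, U) ⧸ p) := Finite.of_injective ψ hinj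
    have hfield : IsField (Γ(Y, U) ⧸ p) := Finite.isField_of_domain _
    have hmax : p.IsMaximal := Ideal.Quotient.maximal_of_isField p hfield
    have h1 : IsClosed ({(⟨y, hyU⟩ : U)} : Set U) := hcl.mpr hmax
    apply isClosed_singleton_of_isLocallyClosed_singleton
    have hemb : Topology.IsOpenEmbedding (Subtype.val : U → Y) := U.2.isOpenEmbedding_subtypeVal
    have : ({y} : Set Y) = Subtype.val '' ({(⟨y, hyU⟩ : U)} : Set U) :=
      Set.ext fun z => ⟨fun hz => ⟨⟨y, hyU⟩, rfl, (hz : z = y).symm⟩,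
        fun ⟨w, hw, hwz⟩ => (hwz.symm.trans (congrArg Subtype.val (hw : w = ⟨y, hyU⟩)) : z = y)⟩
    rw [this]
    exact h1.isLocallyClosed.image hemb.isInducing hemb.isOpen_range.isLocallyClosed

include g in
theorem finite_setOf_hom (F : Type*) [Field F] [Finite F] [CompactSpace Y] :
    {y : Y | Nonempty (↑(Y.residueField y) →+* F)}.Finite := by
  classical
  -- on one affine open
  have key : ∀ (U : Y.Opens), IsAffineOpen U →
      {y : Y | y ∈ U ∧ Nonempty (↑(Y.residueField y) →+* F)}.Finite := by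
    intro U hU
    haveI := finiteType_int_sec g U hU
    haveI : Finite (Γ(Y, U) →+* F) := finite_ringHom _ _
    let S := {y : Y | y ∈ U ∧ Nonempty (↑(Y.residueField y) →+* F)}
    let Φ : S → (Γ(Y, U) →+* F) := fun y =>
      (Classical.choice y.2.2).comp (Groth.Agent.SchFTH8.toRes U y.1 y.2.1)
    have hΦ : Function.Injective Φ := by
      intro a b hab
      have hka : RingHom.ker (Φ a) = (hU.primeIdealOf ⟨a.1, a.2.1⟩).asIdeal := by
        rw [← Groth.Agent.SchFTH8.ker_toRes hU a.1 a.2.1]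
        ext x
        simp only [RingHom.mem_ker]
        change (Classical.choice a.2.2) (Groth.Agent.SchFTH8.toRes U a.1 a.2.1 x) = 0 ↔ _
        rw [map_eq_zero_iff _ (Classical.choice a.2.2).injective]
      have hkb : RingHom.ker (Φ b) = (hU.primeIdealOf ⟨b.1, b.2.1⟩).asIdeal := by
        rw [← Groth.Agent.SchFTH8.ker_toRes hU b.1 b.2.1]
        ext x
        simp only [RingHom.mem_ker]
        change (Classical.choice b.2.2) (Groth.Agent.SchFTH8.toRes U b.1 b.2.1 x) = 0 ↔ _
        rw [map_eq_zero_iff _ (Classical.choice b.2.2).injective]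
      have heq : hU.primeIdealOf ⟨a.1, a.2.1⟩ = hU.primeIdealOf ⟨b.1, b.2.1⟩ := by
        apply PrimeSpectrum.ext
        rw [← hka, ← hkb, hab]
      have := congrArg hU.fromSpec heq
      rw [hU.fromSpec_primeIdealOf, hU.fromSpec_primeIdealOf] at this
      exact Subtype.ext this
    exact Set.finite_coe_iff.mp (Finite.of_injective Φ hΦ)
  -- finite affine cover
  have hcov : ∀ y : Y, ∃ U : Y.Opens, IsAffineOpen U ∧ y ∈ U := by
    intro y
    obtain ⟨_, ⟨U, hU, rfl⟩, hyU, -⟩ :=
      Y.isBasis_affineOpens.exists_subset_of_mem_open (Set.mem_univ y) isOpen_univ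
    exact ⟨U, hU, hyU⟩
  choose V hV hyV using hcov
  obtain ⟨t, ht⟩ := isCompact_univ.elim_finite_subcover (fun y : Y => (V y : Set Y))
    (fun y => (V y).2) (fun y _ => Set.mem_iUnion.mpr ⟨y, hyV y⟩)
  refine Set.Finite.subset (Set.Finite.biUnion t.finite_toSet (fun y _ => key (V y) (hV y))) ?_
  intro z hz
  have hz' := ht (Set.mem_univ z)
  simp only [Set.mem_iUnion] at hz' ⊢
  obtain ⟨y, hyt, hzy⟩ := hz'
  exact ⟨y, hyt, hzy, hz⟩

end Groth.Agent.FTIntH8
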