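import Mathlib

/-!
# Noetherian approximation, module A: ring lemmas (helper7)

* `IsAway φ f`: the ring map `φ` is a localization away from `f` (instance-free form).
* `fib s t`: the fibre product ring `R ×_B B'`, and `isAway_fib`: localizing the fibre product.
* `IsAway.restrict`: passing to a large enough subalgebra.
* `exists_finset_of_finiteType`: a finite set of elements forcing a subalgebra to be large enough.
* `isColimitOfSurjInj`: recognition of filtered colimits of commutative rings.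
-/

set_option autoImplicit false
universe u v w

namespace Groth.Agent.Lib.NApxA_helper7

/-- `φ` exhibits `S` as the localization of `R` away from `f`. -/
structure IsAway {R : Type u} {S : Type v} [CommRing R] [CommRing S] (φ : R →+* S) (f : R) :
    Prop where
  unit : IsUnit (φ f)
  surj : ∀ z : S, ∃ (n : ℕ) (a : R), z * φ f ^ n = φ a
  inj : ∀ a b : R, φ a = φ b → ∃ n : ℕ, f ^ n * a = f ^ n * b

theorem isAway_of_isLocalization {R : Type u} {S : Type v} [CommRing R] [CommRing S]
    [Algebra R S] (f : R) [IsLocalization.Away f S] : IsAway (algebraMap R S) f :=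
  ⟨IsLocalization.Away.algebraMap_isUnit f, fun z => IsLocalization.Away.surj f z,
    fun _ _ h => IsLocalization.Away.exists_of_eq f h⟩

theorem IsAway.bijective_of_comp {R : Type u} {S : Type v} {S' : Type w} [CommRing R]
    [CommRing S] [CommRing S'] {φ : R →+* S} {φ' : R →+* S'} {f : R}
    (h : IsAway φ f) (h' : IsAway φ' f) (g : S →+* S') (hg : ∀ x, g (φ x) = φ' x) :
    Function.Bijective g := by
  constructor
  · rw [injective_iff_map_eq_zero]
    intro z hz
    obtain ⟨n, a, ha⟩ := h.surj z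
    have h1 : φ' a = φ' 0 := by
      rw [← hg, ← ha, map_mul, hz, zero_mul, map_zero]
    obtain ⟨m, hm⟩ := h'.inj a 0 h1
    rw [mul_zero] at hm
    have h2 : φ f ^ m * φ a = 0 := by rw [← map_pow, ← map_mul, hm, map_zero]
    have h3 : φ a = 0 := ((h.unit.pow m).mul_right_eq_zero).mp h2
    rw [h3] at ha
    exact ((h.unit.pow n).mul_left_eq_zero).mp ha
  · intro z'
    obtain ⟨n, a, ha⟩ := h'.surj z'
    obtain ⟨u, hu⟩ := h.unit.pow n
    refine ⟨φ a * ↑u⁻¹, ?_⟩
    have hgu : g ↑u = φ' f ^ n := by rw [hu, map_pow, hg]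
    have h1 : g (↑u⁻¹) * φ' f ^ n = 1 := by rw [← hgu, ← map_mul, Units.inv_mul, map_one]
    rw [map_mul, hg, ← ha, mul_assoc, mul_comm (φ' f ^ n), h1, mul_one]

section Fib

variable {R : Type u} {B : Type v} {B' : Type w} [CommRing R] [CommRing B] [CommRing B']
  (s : R →+* B) (t : B' →+* B)

/-- the fibre product ring `R ×_B B'` as a subring of `R × B'` -/
def fib : Subring (R × B') :=
  RingHom.eqLocus (s.comp (RingHom.fst R B')) (t.comp (RingHom.snd R B'))

theorem mem_fib {x : R × B'} : x ∈ fib s t ↔ s x.1 = t x.2 := Iff.rfl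

/-- first projection of the fibre product -/
def fibFst : fib s t →+* R := (RingHom.fst R B').comp (fib s t).subtype

/-- second projection of the fibre product -/
def fibSnd : fib s t →+* B' := (RingHom.snd R B').comp (fib s t).subtype

theorem fib_condition (x : fib s t) : s (fibFst s t x) = t (fibSnd s t x) := x.2

/-- constructor for elements of the fibre product -/
def fibMk (r : R) (b : B') (h : s r = t b) : fib s t := ⟨(r, b), h⟩

@[simp] theorem fibFst_fibMk (r : R) (b : B') (h : s r = t b) : fibFst s t (fibMk s t r b h) = r :=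
  rfl

@[simp] theorem fibSnd_fibMk (r : R) (b : B') (h : s r = t b) : fibSnd s t (fibMk s t r b h) = b :=
  rfl

theorem fib_ext {x y : fib s t} (h1 : fibFst s t x = fibFst s t y)
    (h2 : fibSnd s t x = fibSnd s t y) : x = y :=
  Subtype.ext (Prod.ext h1 h2)

theorem isAway_fib {C : Type*} [CommRing C] (φC : B' →+* C) (r : R) (b' : B') (h : s r = t b')
    (hC : IsAway φC b')
    (H2 : ∀ β : B, ∃ (m : ℕ) (r'' : R), s r ^ m * β = s r'')
    (H3 : ∀ r' : R, s r' = 0 → ∃ m : ℕ, r ^ m * r' = 0) :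
    IsAway (φC.comp (fibSnd s t)) (fibMk s t r b' h) := by
  refine ⟨?_, ?_, ?_⟩
  · show IsUnit (φC b')
    exact hC.unit
  · intro z
    obtain ⟨n, b'', hb''⟩ := hC.surj z
    obtain ⟨m, r'', hr''⟩ := H2 (t b'')
    refine ⟨n + m, fibMk s t r'' (b' ^ m * b'') ?_, ?_⟩
    · rw [map_mul, map_pow, ← h, hr'']
    · show z * φC b' ^ (n + m) = φC (b' ^ m * b'')
      rw [pow_add, ← mul_assoc, hb'', map_mul, map_pow, mul_comm]
  · intro x y hab
    have hab' : φC (fibSnd s t x) = φC (fibSnd s t y) := hab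
    obtain ⟨n, hn⟩ := hC.inj _ _ hab'
    have h3 : s (r ^ n * (fibFst s t x - fibFst s t y)) = 0 := by
      rw [map_mul, map_pow, map_sub, fib_condition, fib_condition, h, ← map_sub, ← map_pow,
        ← map_mul, mul_sub, hn, sub_self, map_zero]
    obtain ⟨m, hm⟩ := H3 _ h3
    refine ⟨n + m, ?_⟩
    apply fib_ext
    · rw [map_mul, map_mul, map_pow, fibFst_fibMk]
      have h4 : r ^ (n + m) * (fibFst s t x - fibFst s t y) = 0 := by
        rw [pow_add, mul_comm (r ^ n), mul_assoc]
        exact hm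
      rw [mul_sub, sub_eq_zero] at h4
      exact h4
    · rw [map_mul, map_mul, map_pow, fibSnd_fibMk, pow_add, mul_comm (b' ^ n), mul_assoc, hn,
        mul_assoc]

end Fib

theorem IsAway.restrict {R' : Type u} {C : Type v} [CommRing R'] [CommRing C] {φ : R' →+* C}
    {f : R'} (hφ : IsAway φ f) (A : Subalgebra ℤ R') (hf : f ∈ A)
    (hA : ∀ y : R', ∃ n : ℕ, f ^ n * y ∈ A) :
    IsAway (φ.comp A.val.toRingHom) ⟨f, hf⟩ := by
  refine ⟨?_, ?_, ?_⟩
  · show IsUnit (φ f)
    exact hφ.unit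
  · intro z
    obtain ⟨n, y, hy⟩ := hφ.surj z
    obtain ⟨m, hm⟩ := hA y
    refine ⟨n + m, ⟨f ^ m * y, hm⟩, ?_⟩
    show z * φ f ^ (n + m) = φ (f ^ m * y)
    rw [pow_add, ← mul_assoc, hy, map_mul, map_pow, mul_comm]
  · intro a b hab
    have hab' : φ (a : R') = φ (b : R') := hab
    obtain ⟨n, hn⟩ := hφ.inj _ _ hab'
    refine ⟨n, Subtype.ext ?_⟩
    show f ^ n * (a : R') = f ^ n * (b : R')
    exact hn

theorem exists_finset_of_finiteType {R' : Type u} {C : Type v} [CommRing R'] [CommRing C]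
    {φ : R' →+* C} {f : R'} (hφ : IsAway φ f) [Algebra.FiniteType ℤ C] :
    ∃ G : Finset R', ∀ A : Subalgebra ℤ R', (↑G : Set R') ⊆ A → f ∈ A →
      ∀ y : R', ∃ n : ℕ, f ^ n * y ∈ A := by
  classical
  obtain ⟨T, hT⟩ := (Algebra.FiniteType.out : (⊤ : Subalgebra ℤ C).FG)
  choose n y hy using fun c : C => hφ.surj c
  refine ⟨T.image y, fun A hGA hfA => ?_⟩
  have key : ∀ c : C, ∃ (k : ℕ) (a : R'), a ∈ A ∧ c * φ f ^ k = φ a := by
    intro c
    have hc : c ∈ Algebra.adjoin ℤ (T : Set C) := by rw [hT]; trivial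
    induction hc using Algebra.adjoin_induction with
    | mem c hc =>
      exact ⟨n c, y c, hGA (Finset.mem_coe.mpr (Finset.mem_image_of_mem y hc)), hy c⟩
    | algebraMap z =>
      exact ⟨0, algebraMap ℤ R' z, A.algebraMap_mem z, by simp⟩
    | add c1 c2 _ _ h1 h2 =>
      obtain ⟨k1, a1, ha1, e1⟩ := h1
      obtain ⟨k2, a2, ha2, e2⟩ := h2
      refine ⟨k1 + k2, a1 * f ^ k2 + a2 * f ^ k1,
        A.add_mem (A.mul_mem ha1 (A.pow_mem hfA _)) (A.mul_mem ha2 (A.pow_mem hfA _)), ?_⟩
      rw [map_add, map_mul, map_mul, map_pow, map_pow, ← e1, ← e2, pow_add]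
      ring
    | mul c1 c2 _ _ h1 h2 =>
      obtain ⟨k1, a1, ha1, e1⟩ := h1
      obtain ⟨k2, a2, ha2, e2⟩ := h2
      refine ⟨k1 + k2, a1 * a2, A.mul_mem ha1 ha2, ?_⟩
      rw [map_mul, ← e1, ← e2, pow_add]
      ring
  intro y0
  obtain ⟨k, a, haA, hka⟩ := key (φ y0)
  have h1 : φ (f ^ k * y0) = φ a := by
    rw [map_mul, map_pow, mul_comm]
    exact hka
  obtain ⟨m, hm⟩ := hφ.inj _ _ h1
  refine ⟨m + k, ?_⟩
  rw [pow_add, mul_assoc, hm]
  exact A.mul_mem (A.pow_mem hfA m) haA

open CategoryTheory CategoryTheory.Limits in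
/-- Recognition of filtered colimits of commutative rings. -/
noncomputable def isColimitOfSurjInj {J : Type u} [SmallCategory J] [IsFiltered J]
    (D : J ⥤ CommRingCat.{u}) (c : Cocone D)
    (hsurj : ∀ x : c.pt, ∃ j, ∃ y : D.obj j, (c.ι.app j).hom y = x)
    (hinj : ∀ j (y : D.obj j), (c.ι.app j).hom y = 0 →
      ∃ k, ∃ f : j ⟶ k, (D.map f).hom y = 0) :
    IsColimit c := by
  have : ReflectsFilteredColimits (forget CommRingCat.{u}) :=
    ⟨fun _ ↦ reflectsColimitsOfShape_of_reflectsIsomorphisms⟩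
  refine (ReflectsColimit.reflects (F := forget CommRingCat.{u})
    (Types.FilteredColimit.isColimitOf' _ _ ?_ ?_)).some
  · intro x
    obtain ⟨j, y, hy⟩ := hsurj x
    exact ⟨j, y, hy.symm⟩
  · intro j (x : D.obj j) (y : D.obj j) hxy
    obtain ⟨k, f, hf⟩ := hinj j (x - y) (by
      have h1 : (c.ι.app j).hom x = (c.ι.app j).hom y := hxy
      rw [map_sub, h1, sub_self])
    refine ⟨k, f, ?_⟩
    rw [map_sub, sub_eq_zero] at hf
    exact hf

end Groth.Agent.Lib.NApxA_helper7
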