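import Mathlib
import Groth.Agent.Lib.NApxA_helper7

/-!
# Noetherian approximation, module B: open immersions into `Spec A` (helper7)

For a scheme `X`, a ring `A` and a ring map `χ : A → Γ(X, ⊤)`, the induced morphism
`toSpec : X ⟶ Spec A` is an open immersion as soon as `X` is covered by affine basic opens
`D(χ f)` such that `A → Γ(X, D(χ f))` is the localization of `A` away from `f`.
-/

set_option autoImplicit false
set_option linter.style.haveILetI false
universe u
open CategoryTheory CategoryTheory.Limits AlgebraicGeometry TopologicalSpace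

namespace Groth.Agent.Lib.NApxB_helper7
open Groth.Agent.Lib.NApxA_helper7

variable (X : Scheme.{u}) (A : CommRingCat.{u}) (χ : A ⟶ Γ(X, ⊤))

/-- the comparison map `X ⟶ Spec A` -/
noncomputable def toSpec : X ⟶ Spec A := X.toSpecΓ ≫ Spec.map χ

/-- basic open of `Spec A` as an open of the scheme -/
def bo (f : A) : (Spec A).Opens := PrimeSpectrum.basicOpen f

theorem toSpec_preimage_basicOpen (f : A) :
    toSpec X A χ ⁻¹ᵁ bo A f = X.basicOpen (χ f) := by
  rw [toSpec, Scheme.Hom.comp_preimage, bo, SpecMap_preimage_basicOpen,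
    Scheme.toSpecΓ_preimage_basicOpen]

/-- the restriction ring map `A → Γ(X, D(χ f))` -/
noncomputable def resMap (f : A) : A →+* Γ(X, X.basicOpen (χ f)) :=
  (X.presheaf.map (homOfLE (le_top : X.basicOpen (χ f) ≤ ⊤)).op).hom.comp χ.hom

theorem piece (f : A) (hf : IsAffineOpen (X.basicOpen (χ f))) (hA : IsAway (resMap X A χ f) f) :
    IsOpenImmersion ((X.basicOpen (χ f)).ι ≫ toSpec X A χ) ∧
    Set.range ((X.basicOpen (χ f)).ι ≫ toSpec X A χ) =
      (bo A f : Set (Spec A)) := by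
  letI := (resMap X A χ f).toAlgebra
  haveI : IsLocalization.Away f Γ(X, X.basicOpen (χ f)) :=
    IsLocalization.Away.mk f hA.unit hA.surj hA.inj
  have e : (X.basicOpen (χ f)).ι ≫ toSpec X A χ = hf.isoSpec.hom ≫
      Spec.map (CommRingCat.ofHom (algebraMap A Γ(X, X.basicOpen (χ f)))) := by
    rw [toSpec, ← Scheme.Opens.toSpecΓ_SpecMap_presheaf_map_top_assoc, ← Spec.map_comp,
      IsAffineOpen.isoSpec_hom]
    rfl
  haveI : IsOpenImmersion (Spec.map (CommRingCat.ofHom
      (algebraMap A Γ(X, X.basicOpen (χ f))))) := IsOpenImmersion.of_isLocalization f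
  constructor
  · rw [e]
    infer_instance
  · rw [e]
    have h1 : Set.range (hf.isoSpec.hom ≫ Spec.map (CommRingCat.ofHom
        (algebraMap A Γ(X, X.basicOpen (χ f))))) = Set.range (Spec.map (CommRingCat.ofHom
        (algebraMap A Γ(X, X.basicOpen (χ f))))) := by
      apply Set.Subset.antisymm
      · rintro _ ⟨y, rfl⟩
        exact ⟨hf.isoSpec.hom y, (Scheme.Hom.comp_apply _ _ _).symm⟩
      · rintro _ ⟨z, rfl⟩
        refine ⟨hf.isoSpec.inv z, ?_⟩
        rw [Scheme.Hom.comp_apply, ← Scheme.Hom.comp_apply hf.isoSpec.inv, Iso.inv_hom_id]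
        rfl
    rw [h1]
    exact PrimeSpectrum.localization_away_comap_range _ f

theorem isOpenImmersion_toSpec
    (H : ∀ x : X, ∃ f : A, IsAffineOpen (X.basicOpen (χ f)) ∧ x ∈ X.basicOpen (χ f) ∧
      IsAway (resMap X A χ f) f) :
    IsOpenImmersion (toSpec X A χ) := by
  refine IsZariskiLocalAtTarget.of_forall_source_exists_preimage _ fun x ↦ ?_
  obtain ⟨f, hf, hxf, hA⟩ := H x
  refine ⟨bo A f, (toSpec_preimage_basicOpen X A χ f).ge hxf, ?_⟩
  have h1 := (piece X A χ f hf hA).1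
  rw [toSpec_preimage_basicOpen]
  exact h1

theorem range_toSpec {K : Type*} (f : K → A)
    (hf : ∀ k, IsAffineOpen (X.basicOpen (χ (f k))))
    (hA : ∀ k, IsAway (resMap X A χ (f k)) (f k))
    (hcov : ∀ x : X, ∃ k, x ∈ X.basicOpen (χ (f k))) :
    Set.range (toSpec X A χ) =
      ⋃ k, (bo A (f k) : Set (Spec A)) := by
  apply Set.Subset.antisymm
  · rintro _ ⟨x, rfl⟩
    obtain ⟨k, hk⟩ := hcov x
    refine Set.mem_iUnion.mpr ⟨k, ?_⟩
    have h1 : x ∈ toSpec X A χ ⁻¹ᵁ bo A (f k) :=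
      (toSpec_preimage_basicOpen X A χ (f k)).ge hk
    exact h1
  · intro p hp
    obtain ⟨k, hk⟩ := Set.mem_iUnion.mp hp
    rw [← (piece X A χ (f k) (hf k) (hA k)).2] at hk
    obtain ⟨y, rfl⟩ := hk
    exact ⟨(X.basicOpen (χ (f k))).ι y, (Scheme.Hom.comp_apply _ _ _).symm⟩

theorem isOpenImmersion_toSpec_of_family {K : Type*} (f : K → A)
    (hf : ∀ k, IsAffineOpen (X.basicOpen (χ (f k))))
    (hA : ∀ k, IsAway (resMap X A χ (f k)) (f k))
    (hcov : ∀ x : X, ∃ k, x ∈ X.basicOpen (χ (f k))) :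
    IsOpenImmersion (toSpec X A χ) :=
  isOpenImmersion_toSpec X A χ fun x => by
    obtain ⟨k, hk⟩ := hcov x
    exact ⟨f k, hf k, hk, hA k⟩

end Groth.Agent.Lib.NApxB_helper7
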