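import Mathlib
import Groth.Agent.Lib.GlueOpenPushout_helper7

/-!
# Noetherian approximation, module C: gluing inverse systems along open subschemes (helper7)

* `pmap`, `isPullback_inl`, `isPullback_inr`: functoriality of pushouts of open immersions
  with respect to cartesian morphisms of spans.
* `isLimitOfPieces`: a cone over a diagram with a terminal index is a limit cone if it is so on
  an equifibered family of open pieces.
* `glueFunctor`, `gluedCone`, `isLimitGluedCone`: pointwise pushout of an equifibered span of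
  diagrams of schemes, and its limit.
-/

set_option autoImplicit false
set_option linter.style.haveILetI false
universe u
open CategoryTheory CategoryTheory.Limits AlgebraicGeometry

namespace Groth.Agent.Lib.NApxC_helper7
open Groth.Agent.Lib.GlueOpenPushoutH7

section Sq
variable {O Z₁ Z₂ O' Z₁' Z₂' : Scheme.{u}} (o₁ : O ⟶ Z₁) (o₂ : O ⟶ Z₂) (o₁' : O' ⟶ Z₁')
  (o₂' : O' ⟶ Z₂') [IsOpenImmersion o₁] [IsOpenImmersion o₂] [IsOpenImmersion o₁']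
  [IsOpenImmersion o₂'] (g₀ : O ⟶ O') (g₁ : Z₁ ⟶ Z₁') (g₂ : Z₂ ⟶ Z₂')
  (e₁ : o₁ ≫ g₁ = g₀ ≫ o₁') (e₂ : o₂ ≫ g₂ = g₀ ≫ o₂')

/-- induced map on pushouts of open immersions -/
noncomputable def pmap : pushout o₁ o₂ ⟶ pushout o₁' o₂' :=
  pushout.desc (g₁ ≫ pushout.inl o₁' o₂') (g₂ ≫ pushout.inr o₁' o₂')
    (by rw [← Category.assoc, e₁, ← Category.assoc, e₂, Category.assoc, Category.assoc,
      pushout.condition])

@[reassoc]
theorem inl_pmap : pushout.inl o₁ o₂ ≫ pmap o₁ o₂ o₁' o₂' g₀ g₁ g₂ e₁ e₂ =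
    g₁ ≫ pushout.inl o₁' o₂' := pushout.inl_desc _ _ _

@[reassoc]
theorem inr_pmap : pushout.inr o₁ o₂ ≫ pmap o₁ o₂ o₁' o₂' g₀ g₁ g₂ e₁ e₂ =
    g₂ ≫ pushout.inr o₁' o₂' := pushout.inr_desc _ _ _

theorem pmap_comp {O'' Z₁'' Z₂'' : Scheme.{u}} (o₁'' : O'' ⟶ Z₁'') (o₂'' : O'' ⟶ Z₂'')
    [IsOpenImmersion o₁''] [IsOpenImmersion o₂''] (g₀' : O' ⟶ O'') (g₁' : Z₁' ⟶ Z₁'')
    (g₂' : Z₂' ⟶ Z₂'') (e₁' : o₁' ≫ g₁' = g₀' ≫ o₁'') (e₂' : o₂' ≫ g₂' = g₀' ≫ o₂'')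
    (h₀ : O ⟶ O'') (h₁ : Z₁ ⟶ Z₁'') (h₂ : Z₂ ⟶ Z₂'') (e₁'' : o₁ ≫ h₁ = h₀ ≫ o₁'')
    (e₂'' : o₂ ≫ h₂ = h₀ ≫ o₂'') (hh₁ : g₁ ≫ g₁' = h₁) (hh₂ : g₂ ≫ g₂' = h₂) :
    pmap o₁ o₂ o₁' o₂' g₀ g₁ g₂ e₁ e₂ ≫ pmap o₁' o₂' o₁'' o₂'' g₀' g₁' g₂' e₁' e₂' =
      pmap o₁ o₂ o₁'' o₂'' h₀ h₁ h₂ e₁'' e₂'' := by
  apply pushout.hom_ext
  · rw [inl_pmap_assoc, inl_pmap, inl_pmap, ← Category.assoc, hh₁]
  · rw [inr_pmap_assoc, inr_pmap, inr_pmap, ← Category.assoc, hh₂]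

theorem isPullback_inl (H2 : IsPullback g₀ o₂ o₂' g₂) :
    IsPullback g₁ (pushout.inl o₁ o₂) (pushout.inl o₁' o₂')
      (pmap o₁ o₂ o₁' o₂' g₀ g₁ g₂ e₁ e₂) := by
  refine IsOpenImmersion.isPullback _ _ _ _ (inl_pmap o₁ o₂ o₁' o₂' g₀ g₁ g₂ e₁ e₂)
    (le_antisymm ?_ ?_)
  · intro x hx
    obtain ⟨z₁', hz₁'⟩ := hx
    rcases inl_inr_jointly_surjective o₁ o₂ x with ⟨z₁, rfl⟩ | ⟨z₂, rfl⟩
    · exact ⟨z₁, rfl⟩
    · have h1 : pushout.inl o₁' o₂' z₁' = pushout.inr o₁' o₂' (g₂ z₂) := by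
        rw [hz₁', ← Scheme.Hom.comp_apply, inr_pmap, Scheme.Hom.comp_apply]
      obtain ⟨w', -, hw2⟩ := exists_of_inl_eq_inr o₁' o₂' h1
      obtain ⟨w, -, hw⟩ := Scheme.exists_preimage_of_isPullback H2 w' z₂ hw2
      refine ⟨o₁ w, ?_⟩
      rw [← hw, ← Scheme.Hom.comp_apply, ← Scheme.Hom.comp_apply, pushout.condition]
  · rintro _ ⟨z₁, rfl⟩
    exact ⟨g₁ z₁, by
      rw [← Scheme.Hom.comp_apply, ← Scheme.Hom.comp_apply, inl_pmap]⟩

theorem isPullback_inr (H1 : IsPullback g₀ o₁ o₁' g₁) :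
    IsPullback g₂ (pushout.inr o₁ o₂) (pushout.inr o₁' o₂')
      (pmap o₁ o₂ o₁' o₂' g₀ g₁ g₂ e₁ e₂) := by
  refine IsOpenImmersion.isPullback _ _ _ _ (inr_pmap o₁ o₂ o₁' o₂' g₀ g₁ g₂ e₁ e₂)
    (le_antisymm ?_ ?_)
  · intro x hx
    obtain ⟨z₂', hz₂'⟩ := hx
    rcases inl_inr_jointly_surjective o₁ o₂ x with ⟨z₁, rfl⟩ | ⟨z₂, rfl⟩
    · have h1 : pushout.inl o₁' o₂' (g₁ z₁) = pushout.inr o₁' o₂' z₂' := by
        rw [hz₂', ← Scheme.Hom.comp_apply, ← Scheme.Hom.comp_apply, inl_pmap]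
      obtain ⟨w', hw1, -⟩ := exists_of_inl_eq_inr o₁' o₂' h1
      obtain ⟨w, -, hw⟩ := Scheme.exists_preimage_of_isPullback H1 w' z₁ hw1
      refine ⟨o₂ w, ?_⟩
      rw [← hw, ← Scheme.Hom.comp_apply, ← Scheme.Hom.comp_apply, pushout.condition]
    · exact ⟨z₂, rfl⟩
  · rintro _ ⟨z₂, rfl⟩
    exact ⟨g₂ z₂, by
      rw [← Scheme.Hom.comp_apply, ← Scheme.Hom.comp_apply, inr_pmap]⟩

end Sq

section LocLim

/-- A cone over a diagram (with terminal index `j0`) is a limit cone as soon as it is so on a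
family of equifibered open pieces covering `D.obj j0`. -/
noncomputable def isLimitOfPieces {J : Type u} [Category.{u} J] {j0 : J} (hj0 : IsTerminal j0)
    (D : J ⥤ Scheme.{u}) (c : Cone D)
    {K : Type*} (E : K → (J ⥤ Scheme.{u})) (ι : ∀ k, E k ⟶ D)
    (hopen : ∀ k j, IsOpenImmersion ((ι k).app j))
    (hι : ∀ k {i j : J} (f : i ⟶ j),
      IsPullback ((E k).map f) ((ι k).app i) ((ι k).app j) (D.map f))
    (ck : ∀ k, Cone (E k)) (hck : ∀ k, IsLimit (ck k))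
    (m : ∀ k, (ck k).pt ⟶ c.pt)
    (hm : ∀ k j, IsPullback ((ck k).π.app j) (m k) ((ι k).app j) (c.π.app j))
    (hcov : ∀ x : D.obj j0, ∃ k, x ∈ Set.range ((ι k).app j0)) :
    IsLimit c := by
  haveI : ∀ k j, IsOpenImmersion ((ι k).app j) := hopen
  refine IsLimit.ofExistsUnique fun t => ?_
  obtain ⟨T, p, q, hT⟩ : ∃ (T : K → Scheme.{u}) (p : ∀ k, T k ⟶ t.pt)
      (q : ∀ k, T k ⟶ (E k).obj j0),
      ∀ k, IsPullback (p k) (q k) (t.π.app j0) ((ι k).app j0) :=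
    ⟨_, _, _, fun k => IsPullback.of_hasPullback _ _⟩
  haveI hp : ∀ k, IsOpenImmersion (p k) := fun k =>
    MorphismProperty.of_isPullback (P := @IsOpenImmersion) (hT k).flip (hopen k j0)
  have hτ : ∀ k j, ∃ π : T k ⟶ (E k).obj j, π ≫ (E k).map (hj0.from j) = q k ∧
      π ≫ (ι k).app j = p k ≫ t.π.app j := by
    intro k j
    have w : q k ≫ (ι k).app j0 = (p k ≫ t.π.app j) ≫ D.map (hj0.from j) := by
      rw [Category.assoc, t.w, (hT k).w]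
    exact ⟨(hι k (hj0.from j)).lift (q k) (p k ≫ t.π.app j) w,
      (hι k (hj0.from j)).lift_fst _ _ w, (hι k (hj0.from j)).lift_snd _ _ w⟩
  choose τ hτ1 hτ2 using hτ
  let tk : ∀ k, Cone (E k) := fun k =>
    { pt := T k
      π :=
        { app := fun j => τ k j
          naturality := fun j j' g => by
            dsimp
            rw [Category.id_comp]
            apply (hι k (hj0.from j')).hom_ext
            · rw [hτ1, Category.assoc, ← CategoryTheory.Functor.map_comp,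
                hj0.hom_ext (g ≫ hj0.from j')
                (hj0.from j), hτ1]
            · rw [hτ2, Category.assoc, (ι k).naturality, ← Category.assoc, hτ2, Category.assoc,
                t.w] } }
  let l : ∀ k, T k ⟶ (ck k).pt := fun k => (hck k).lift (tk k)
  have hl : ∀ k j, l k ≫ (ck k).π.app j = τ k j := fun k j => (hck k).fac (tk k) j
  have Lk : ∀ k j, l k ≫ m k ≫ c.π.app j = p k ≫ t.π.app j := by
    intro k j
    rw [← (hm k j).w, ← Category.assoc, hl, hτ2]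
  have hcovT : ∀ x : t.pt, ∃ k, ∃ y : T k, p k y = x := by
    intro x
    obtain ⟨k, z, hz⟩ := hcov (t.π.app j0 x)
    obtain ⟨y, hy, -⟩ := Scheme.exists_preimage_of_isPullback (hT k) x z hz.symm
    exact ⟨k, y, hy⟩
  let 𝒰 : t.pt.OpenCover := Scheme.Cover.mkOfCovers K T p hcovT (fun k => hp k)
  -- uniqueness of maps into `c.pt` landing in a piece
  have huniq : ∀ (k : K) {Z : Scheme.{u}} (x₁ x₂ : Z ⟶ c.pt) (y₁ : Z ⟶ (ck k).pt)
      (_ : y₁ ≫ m k = x₁) (_ : ∀ j, x₁ ≫ c.π.app j = x₂ ≫ c.π.app j), x₁ = x₂ := by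
    intro k Z x₁ x₂ y₁ hy₁ hx
    have w : (y₁ ≫ (ck k).π.app j0) ≫ (ι k).app j0 = x₂ ≫ c.π.app j0 := by
      rw [Category.assoc, (hm k j0).w, ← Category.assoc, hy₁, hx]
    let y₂ := (hm k j0).lift (y₁ ≫ (ck k).π.app j0) x₂ w
    have hy₂ : y₂ ≫ m k = x₂ := (hm k j0).lift_snd _ _ w
    have : y₁ = y₂ := by
      apply (hck k).hom_ext
      intro j
      rw [← cancel_mono ((ι k).app j), Category.assoc, Category.assoc, (hm k j).w,
        ← Category.assoc, ← Category.assoc, hy₁, hy₂, hx]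
    rw [← hy₁, ← hy₂, this]
  have hcompat : ∀ k k' : K, pullback.fst (p k) (p k') ≫ (l k ≫ m k) =
      pullback.snd (p k) (p k') ≫ (l k' ≫ m k') := by
    intro k k'
    refine huniq k _ _ (pullback.fst (p k) (p k') ≫ l k) (by rw [Category.assoc]) ?_
    intro j
    rw [Category.assoc, Category.assoc, Lk, Category.assoc, Category.assoc, Lk,
      ← Category.assoc, pullback.condition, Category.assoc]
  refine ⟨𝒰.glueMorphisms (fun k => l k ≫ m k) hcompat, ?_, ?_⟩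
  · intro j
    apply 𝒰.hom_ext
    intro k
    rw [← Category.assoc, 𝒰.ι_glueMorphisms]
    show (l k ≫ m k) ≫ c.π.app j = p k ≫ t.π.app j
    rw [Category.assoc, Lk]
  · intro l' hl'
    apply 𝒰.hom_ext
    intro k
    rw [𝒰.ι_glueMorphisms]
    show p k ≫ l' = l k ≫ m k
    symm
    refine huniq k _ _ (l k) rfl ?_
    intro j
    rw [Category.assoc, Lk, Category.assoc, hl']

end LocLim

section Glue

variable {J : Type u} [Category.{u} J] (𝒱 𝒲 𝒜 : J ⥤ Scheme.{u}) (o₁ : 𝒲 ⟶ 𝒱) (o₂ : 𝒲 ⟶ 𝒜)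
  [∀ j, IsOpenImmersion (o₁.app j)] [∀ j, IsOpenImmersion (o₂.app j)]

/-- pointwise pushout of a span of diagrams of schemes along open immersions -/
noncomputable def glueFunctor : J ⥤ Scheme.{u} where
  obj j := pushout (o₁.app j) (o₂.app j)
  map {i j} f := pmap (o₁.app i) (o₂.app i) (o₁.app j) (o₂.app j) (𝒲.map f) (𝒱.map f) (𝒜.map f)
    (o₁.naturality f).symm (o₂.naturality f).symm
  map_id i := by
    apply pushout.hom_ext
    · rw [inl_pmap, CategoryTheory.Functor.map_id, Category.id_comp, Category.comp_id]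
    · rw [inr_pmap, CategoryTheory.Functor.map_id, Category.id_comp, Category.comp_id]
  map_comp f g := by
    apply pushout.hom_ext
    · rw [inl_pmap, inl_pmap_assoc, inl_pmap, CategoryTheory.Functor.map_comp, Category.assoc]
    · rw [inr_pmap, inr_pmap_assoc, inr_pmap, CategoryTheory.Functor.map_comp, Category.assoc]

theorem glueFunctor_map {i j : J} (f : i ⟶ j) : (glueFunctor 𝒱 𝒲 𝒜 o₁ o₂).map f =
    pmap (o₁.app i) (o₂.app i) (o₁.app j) (o₂.app j) (𝒲.map f) (𝒱.map f) (𝒜.map f)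
      (o₁.naturality f).symm (o₂.naturality f).symm := rfl

/-- the first piece of the glued diagram -/
noncomputable def inlNat : 𝒱 ⟶ glueFunctor 𝒱 𝒲 𝒜 o₁ o₂ where
  app j := pushout.inl (o₁.app j) (o₂.app j)
  naturality i j f := (inl_pmap (o₁.app i) (o₂.app i) (o₁.app j) (o₂.app j) (𝒲.map f)
    (𝒱.map f) (𝒜.map f) (o₁.naturality f).symm (o₂.naturality f).symm).symm

/-- the second piece of the glued diagram -/
noncomputable def inrNat : 𝒜 ⟶ glueFunctor 𝒱 𝒲 𝒜 o₁ o₂ where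
  app j := pushout.inr (o₁.app j) (o₂.app j)
  naturality i j f := (inr_pmap (o₁.app i) (o₂.app i) (o₁.app j) (o₂.app j) (𝒲.map f)
    (𝒱.map f) (𝒜.map f) (o₁.naturality f).symm (o₂.naturality f).symm).symm

instance (j : J) : IsOpenImmersion ((inlNat 𝒱 𝒲 𝒜 o₁ o₂).app j) :=
  inferInstanceAs (IsOpenImmersion (pushout.inl (o₁.app j) (o₂.app j)))

instance (j : J) : IsOpenImmersion ((inrNat 𝒱 𝒲 𝒜 o₁ o₂).app j) :=
  inferInstanceAs (IsOpenImmersion (pushout.inr (o₁.app j) (o₂.app j)))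

variable (ho₁ : ∀ {i j : J} (f : i ⟶ j), IsPullback (𝒲.map f) (o₁.app i) (o₁.app j) (𝒱.map f))
  (ho₂ : ∀ {i j : J} (f : i ⟶ j), IsPullback (𝒲.map f) (o₂.app i) (o₂.app j) (𝒜.map f))

include ho₂ in
theorem inlNat_equifibered {i j : J} (f : i ⟶ j) :
    IsPullback (𝒱.map f) ((inlNat 𝒱 𝒲 𝒜 o₁ o₂).app i) ((inlNat 𝒱 𝒲 𝒜 o₁ o₂).app j)
      ((glueFunctor 𝒱 𝒲 𝒜 o₁ o₂).map f) :=
  isPullback_inl (o₁.app i) (o₂.app i) (o₁.app j) (o₂.app j) (𝒲.map f) (𝒱.map f) (𝒜.map f)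
    (o₁.naturality f).symm (o₂.naturality f).symm (ho₂ f)

include ho₁ in
theorem inrNat_equifibered {i j : J} (f : i ⟶ j) :
    IsPullback (𝒜.map f) ((inrNat 𝒱 𝒲 𝒜 o₁ o₂).app i) ((inrNat 𝒱 𝒲 𝒜 o₁ o₂).app j)
      ((glueFunctor 𝒱 𝒲 𝒜 o₁ o₂).map f) :=
  isPullback_inr (o₁.app i) (o₂.app i) (o₁.app j) (o₂.app j) (𝒲.map f) (𝒱.map f) (𝒜.map f)
    (o₁.naturality f).symm (o₂.naturality f).symm (ho₁ f)

include ho₁ ho₂ in
theorem isAffineHom_glueFunctor_map (h𝒱 : ∀ {i j : J} (f : i ⟶ j), IsAffineHom (𝒱.map f))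
    (h𝒜 : ∀ {i j : J} (f : i ⟶ j), IsAffineHom (𝒜.map f)) {i j : J} (f : i ⟶ j) :
    IsAffineHom ((glueFunctor 𝒱 𝒲 𝒜 o₁ o₂).map f) := by
  refine (IsZariskiLocalAtTarget.iff_of_openCover (P := @IsAffineHom)
    (pushoutCover (o₁.app j) (o₂.app j))).mpr ?_
  rintro (_ | _)
  · show IsAffineHom (pullback.snd ((glueFunctor 𝒱 𝒲 𝒜 o₁ o₂).map f)
      ((inlNat 𝒱 𝒲 𝒜 o₁ o₂).app j))
    have H := (inlNat_equifibered 𝒱 𝒲 𝒜 o₁ o₂ ho₂ f).flip
    have e : H.isoPullback.hom ≫ pullback.snd ((glueFunctor 𝒱 𝒲 𝒜 o₁ o₂).map f)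
        ((inlNat 𝒱 𝒲 𝒜 o₁ o₂).app j) = 𝒱.map f := H.isoPullback_hom_snd
    rw [← MorphismProperty.cancel_left_of_respectsIso @IsAffineHom H.isoPullback.hom, e]
    exact h𝒱 f
  · show IsAffineHom (pullback.snd ((glueFunctor 𝒱 𝒲 𝒜 o₁ o₂).map f)
      ((inrNat 𝒱 𝒲 𝒜 o₁ o₂).app j))
    have H := (inrNat_equifibered 𝒱 𝒲 𝒜 o₁ o₂ ho₁ f).flip
    have e : H.isoPullback.hom ≫ pullback.snd ((glueFunctor 𝒱 𝒲 𝒜 o₁ o₂).map f)
        ((inrNat 𝒱 𝒲 𝒜 o₁ o₂).app j) = 𝒜.map f := H.isoPullback_hom_snd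
    rw [← MorphismProperty.cancel_left_of_respectsIso @IsAffineHom H.isoPullback.hom, e]
    exact h𝒜 f

theorem compactSpace_glueFunctor_obj (j : J) [CompactSpace (𝒱.obj j)] [CompactSpace (𝒜.obj j)] :
    CompactSpace ((glueFunctor 𝒱 𝒲 𝒜 o₁ o₂).obj j) :=
  compactSpace_pushout (o₁.app j) (o₂.app j)

theorem locallyOfFiniteType_glueFunctor_obj {B : Scheme.{u}} (hB : IsTerminal B) (j : J)
    [LocallyOfFiniteType (hB.from (𝒱.obj j))] [LocallyOfFiniteType (hB.from (𝒜.obj j))] :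
    LocallyOfFiniteType (hB.from ((glueFunctor 𝒱 𝒲 𝒜 o₁ o₂).obj j)) := by
  refine IsZariskiLocalAtSource.of_openCover (P := @LocallyOfFiniteType)
    (pushoutCover (o₁.app j) (o₂.app j)) ?_
  rintro (_ | _)
  · show LocallyOfFiniteType (pushout.inl (o₁.app j) (o₂.app j) ≫ hB.from _)
    rw [hB.hom_ext (pushout.inl (o₁.app j) (o₂.app j) ≫ hB.from _) (hB.from (𝒱.obj j))]
    infer_instance
  · show LocallyOfFiniteType (pushout.inr (o₁.app j) (o₂.app j) ≫ hB.from _)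
    rw [hB.hom_ext (pushout.inr (o₁.app j) (o₂.app j) ≫ hB.from _) (hB.from (𝒜.obj j))]
    infer_instance

variable (cV : Cone 𝒱) (cA : Cone 𝒜) (cW : Cone 𝒲) (a : cW.pt ⟶ cV.pt) (b : cW.pt ⟶ cA.pt)
  [IsOpenImmersion a] [IsOpenImmersion b]
  (ha : ∀ j, a ≫ cV.π.app j = cW.π.app j ≫ o₁.app j)
  (hb : ∀ j, b ≫ cA.π.app j = cW.π.app j ≫ o₂.app j)

/-- the glued cone with vertex the pushout of the vertices -/
noncomputable def gluedCone : Cone (glueFunctor 𝒱 𝒲 𝒜 o₁ o₂) where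
  pt := pushout a b
  π :=
    { app := fun j => pmap a b (o₁.app j) (o₂.app j) (cW.π.app j) (cV.π.app j) (cA.π.app j)
        (ha j) (hb j)
      naturality := fun i j f => by
        dsimp
        rw [Category.id_comp]
        exact (pmap_comp a b (o₁.app i) (o₂.app i) (cW.π.app i) (cV.π.app i) (cA.π.app i)
          (ha i) (hb i) (o₁.app j) (o₂.app j) (𝒲.map f) (𝒱.map f) (𝒜.map f)
          (o₁.naturality f).symm (o₂.naturality f).symm (cW.π.app j) (cV.π.app j) (cA.π.app j)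
          (ha j) (hb j) (cV.w f) (cA.w f)).symm }

theorem gluedCone_isPullback_inl (j : J)
    (Hb : IsPullback (cW.π.app j) b (o₂.app j) (cA.π.app j)) :
    IsPullback (cV.π.app j) (pushout.inl a b) ((inlNat 𝒱 𝒲 𝒜 o₁ o₂).app j)
      ((gluedCone 𝒱 𝒲 𝒜 o₁ o₂ cV cA cW a b ha hb).π.app j) :=
  isPullback_inl a b (o₁.app j) (o₂.app j) (cW.π.app j) (cV.π.app j) (cA.π.app j) (ha j) (hb j) Hb

theorem gluedCone_isPullback_inr (j : J)
    (Ha : IsPullback (cW.π.app j) a (o₁.app j) (cV.π.app j)) :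
    IsPullback (cA.π.app j) (pushout.inr a b) ((inrNat 𝒱 𝒲 𝒜 o₁ o₂).app j)
      ((gluedCone 𝒱 𝒲 𝒜 o₁ o₂ cV cA cW a b ha hb).π.app j) :=
  isPullback_inr a b (o₁.app j) (o₂.app j) (cW.π.app j) (cV.π.app j) (cA.π.app j) (ha j) (hb j) Ha

end Glue

section Limit

variable {J : Type u} [SmallCategory J] (𝒱 𝒲 𝒜 : J ⥤ Scheme.{u}) (o₁ : 𝒲 ⟶ 𝒱) (o₂ : 𝒲 ⟶ 𝒜)
  [∀ j, IsOpenImmersion (o₁.app j)] [∀ j, IsOpenImmersion (o₂.app j)]
  (cV : Cone 𝒱) (cA : Cone 𝒜)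

/-- the two pieces of the glued diagram as a family -/
noncomputable def pieceE (j0 : J) : Bool → (Over j0 ⥤ Scheme.{u})
  | true => Over.forget j0 ⋙ 𝒱
  | false => Over.forget j0 ⋙ 𝒜

/-- the inclusions of the two pieces -/
noncomputable def pieceι (j0 : J) :
    ∀ k, pieceE 𝒱 𝒜 j0 k ⟶ Over.forget j0 ⋙ glueFunctor 𝒱 𝒲 𝒜 o₁ o₂
  | true => Functor.whiskerLeft (Over.forget j0) (inlNat 𝒱 𝒲 𝒜 o₁ o₂)
  | false => Functor.whiskerLeft (Over.forget j0) (inrNat 𝒱 𝒲 𝒜 o₁ o₂)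

/-- the cones of the two pieces -/
noncomputable def pieceCone (j0 : J) : ∀ k, Cone (pieceE 𝒱 𝒜 j0 k)
  | true => cV.whisker (Over.forget j0)
  | false => cA.whisker (Over.forget j0)

variable (cW : Cone 𝒲) (a : cW.pt ⟶ cV.pt) (b : cW.pt ⟶ cA.pt)
  [IsOpenImmersion a] [IsOpenImmersion b]

/-- the inclusions of the vertices -/
noncomputable def pieceM (j0 : J) : ∀ k, (pieceCone 𝒱 𝒜 cV cA j0 k).pt ⟶ pushout a b
  | true => pushout.inl a b
  | false => pushout.inr a b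

variable [IsCofiltered J]
  (ho₁ : ∀ {i j : J} (f : i ⟶ j), IsPullback (𝒲.map f) (o₁.app i) (o₁.app j) (𝒱.map f))
  (ho₂ : ∀ {i j : J} (f : i ⟶ j), IsPullback (𝒲.map f) (o₂.app i) (o₂.app j) (𝒜.map f))
  (ha : ∀ j, a ≫ cV.π.app j = cW.π.app j ≫ o₁.app j)
  (hb : ∀ j, b ≫ cA.π.app j = cW.π.app j ≫ o₂.app j)
  (hcV : IsLimit cV) (hcA : IsLimit cA)
  (Ha : ∀ j, IsPullback (cW.π.app j) a (o₁.app j) (cV.π.app j))
  (Hb : ∀ j, IsPullback (cW.π.app j) b (o₂.app j) (cA.π.app j))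

/-- **Gluing limits.** The pushout of the vertices is the limit of the pointwise pushouts. -/
noncomputable def isLimitGluedCone :
    IsLimit (gluedCone 𝒱 𝒲 𝒜 o₁ o₂ cV cA cW a b ha hb) := by
  have j0 : J := IsCofiltered.nonempty.some
  refine (Functor.Initial.isLimitWhiskerEquiv (Over.forget j0) _) ?_
  refine isLimitOfPieces (Over.mkIdTerminal (X := j0)) _ _ (pieceE 𝒱 𝒜 j0)
    (pieceι 𝒱 𝒲 𝒜 o₁ o₂ j0) ?_ ?_ (pieceCone 𝒱 𝒜 cV cA j0) ?_ (pieceM 𝒱 𝒲 𝒜 cV cA cW a b j0) ?_ ?_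
  · intro k j
    cases k with
    | false => exact inferInstanceAs (IsOpenImmersion ((inrNat 𝒱 𝒲 𝒜 o₁ o₂).app j.left))
    | true => exact inferInstanceAs (IsOpenImmersion ((inlNat 𝒱 𝒲 𝒜 o₁ o₂).app j.left))
  · intro k i j f
    cases k with
    | false => exact inrNat_equifibered 𝒱 𝒲 𝒜 o₁ o₂ ho₁ f.left
    | true => exact inlNat_equifibered 𝒱 𝒲 𝒜 o₁ o₂ ho₂ f.left
  · intro k
    cases k with
    | false => exact (Functor.Initial.isLimitWhiskerEquiv (Over.forget j0) cA).symm hcA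
    | true => exact (Functor.Initial.isLimitWhiskerEquiv (Over.forget j0) cV).symm hcV
  · intro k j
    cases k with
    | false => exact gluedCone_isPullback_inr 𝒱 𝒲 𝒜 o₁ o₂ cV cA cW a b ha hb j.left (Ha j.left)
    | true => exact gluedCone_isPullback_inl 𝒱 𝒲 𝒜 o₁ o₂ cV cA cW a b ha hb j.left (Hb j.left)
  · intro x
    rcases inl_inr_jointly_surjective (o₁.app j0) (o₂.app j0) x with h | h
    · exact ⟨true, h⟩
    · exact ⟨false, h⟩

end Limit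

end Groth.Agent.Lib.NApxC_helper7
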