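import Mathlib
import Groth.Agent.Lib.NApxA_helper7

/-!
# Noetherian approximation, module D1: localizing fibre products of section rings (helper7)
-/

set_option autoImplicit false
set_option linter.style.haveILetI false
universe u
open CategoryTheory CategoryTheory.Limits AlgebraicGeometry TopologicalSpace

namespace Groth.Agent.Lib.NApxD1_helper7
open Groth.Agent.Lib.NApxA_helper7

section Ring
variable {R B Rr Bs : Type*} [CommRing R] [CommRing B] [CommRing Rr] [CommRing Bs]
  (s : R →+* B) (r : R) (φR : R →+* Rr) (φB : B →+* Bs) (σ : Rr →+* Bs)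

theorem h2_of_isAway (hR : IsAway φR r) (hB : IsAway φB (s r)) (hσ : Function.Surjective σ)
    (hc : ∀ x, σ (φR x) = φB (s x)) (β : B) : ∃ (m : ℕ) (r'' : R), s r ^ m * β = s r'' := by
  obtain ⟨γ, hγ⟩ := hσ (φB β)
  obtain ⟨m, r'', hr''⟩ := hR.surj γ
  have h1 : φB (β * s r ^ m) = φB (s r'') := by
    calc φB (β * s r ^ m) = σ γ * σ (φR r) ^ m := by rw [map_mul, map_pow, hγ, hc]
      _ = σ (γ * φR r ^ m) := by rw [map_mul, map_pow]
      _ = φB (s r'') := by rw [hr'', hc]
  obtain ⟨m', hm'⟩ := hB.inj _ _ h1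
  refine ⟨m' + m, r ^ m' * r'', ?_⟩
  rw [map_mul, map_pow, ← hm', pow_add]
  ring

theorem h3_of_isAway (hR : IsAway φR r) (hσ : Function.Injective σ)
    (hc : ∀ x, σ (φR x) = φB (s x)) (r' : R) (h : s r' = 0) : ∃ m : ℕ, r ^ m * r' = 0 := by
  have h1 : φR r' = φR 0 := by
    apply hσ
    rw [hc, hc, h, map_zero s]
  obtain ⟨m, hm⟩ := hR.inj _ _ h1
  exact ⟨m, by rw [hm, mul_zero]⟩

variable {B' B'' : Type*} [CommRing B'] [CommRing B'']

/-- functoriality of the fibre product ring in the second factor -/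
def fibMap (t : B' →+* B) (t' : B'' →+* B) (g : B' →+* B'') (hg : ∀ x, t' (g x) = t x) :
    fib s t →+* fib s t' where
  toFun x := fibMk s t' (fibFst s t x) (g (fibSnd s t x)) (by
    rw [hg]
    exact fib_condition s t x)
  map_one' := by apply fib_ext <;> simp
  map_mul' x y := by apply fib_ext <;> simp
  map_zero' := by apply fib_ext <;> simp
  map_add' x y := by apply fib_ext <;> simp

@[simp] theorem fibFst_fibMap (t : B' →+* B) (t' : B'' →+* B) (g : B' →+* B'')
    (hg : ∀ x, t' (g x) = t x) (x : fib s t) :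
    fibFst s t' (fibMap s t t' g hg x) = fibFst s t x := rfl

@[simp] theorem fibSnd_fibMap (t : B' →+* B) (t' : B'' →+* B) (g : B' →+* B'')
    (hg : ∀ x, t' (g x) = t x) (x : fib s t) :
    fibSnd s t' (fibMap s t t' g hg x) = g (fibSnd s t x) := rfl

end Ring

theorem isNoetherian_of_ftz (X : Scheme.{u}) [CompactSpace X]
    (h : LocallyOfFiniteType (specULiftZIsTerminal.from X)) : IsNoetherian X := by
  haveI : IsNoetherianRing (ULift.{u} ℤ) :=
    isNoetherianRing_of_ringEquiv ℤ (ULift.ringEquiv (R := ℤ)).symm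
  haveI : IsLocallyNoetherian X :=
    LocallyOfFiniteType.isLocallyNoetherian (specULiftZIsTerminal.from X)
  exact {}

/-- restriction to a basic open is a localization (qcqs lemma), instance-free form -/
theorem isAway_res {X : Scheme.{u}} [CompactSpace X] [QuasiSeparatedSpace X] (f : Γ(X, ⊤))
    (O : X.Opens) (hO : O = X.basicOpen f) :
    IsAway (X.presheaf.map (homOfLE (le_top : O ≤ ⊤)).op).hom f := by
  subst hO
  haveI := isLocalization_basicOpen_of_qcqs (X := X) (U := ⊤) isCompact_univ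
    isQuasiSeparated_univ f
  exact isAway_of_isLocalization (R := Γ(X, ⊤)) (S := Γ(X, X.basicOpen f)) f

section Geo
variable {W U : Scheme.{u}} (b : W ⟶ U) [IsOpenImmersion b] [IsAffine U] [CompactSpace W]
  [QuasiSeparatedSpace W] (r : Γ(U, ⊤)) (hr : U.basicOpen r ≤ b.opensRange)

omit [IsOpenImmersion b] [IsAffine U] [CompactSpace W] [QuasiSeparatedSpace W] in
theorem geo_comm (x : Γ(U, ⊤)) :
    (b.app (U.basicOpen r)).hom ((U.presheaf.map (homOfLE
      (le_top : U.basicOpen r ≤ ⊤)).op).hom x) =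
    (W.presheaf.map (homOfLE (le_top : b ⁻¹ᵁ U.basicOpen r ≤ ⊤)).op).hom (b.appTop.hom x) := by
  have h1 := ConcreteCategory.congr_hom
    (b.naturality (homOfLE (le_top : U.basicOpen r ≤ ⊤)).op) x
  exact h1

include hr in
theorem geo_h2 (β : Γ(W, ⊤)) :
    ∃ (m : ℕ) (r'' : Γ(U, ⊤)), b.appTop.hom r ^ m * β = b.appTop.hom r'' := by
  haveI : IsIso (b.app (U.basicOpen r)) := Scheme.Hom.isIso_app b _ hr
  exact h2_of_isAway b.appTop.hom r _ _ (b.app (U.basicOpen r)).hom
    (isAway_res r _ rfl) (isAway_res (b.appTop.hom r) _ (Scheme.preimage_basicOpen_top b r))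
    (ConcreteCategory.bijective_of_isIso (b.app (U.basicOpen r))).2 (geo_comm b r) β

include hr in
theorem geo_h3 (r' : Γ(U, ⊤)) (h : b.appTop.hom r' = 0) : ∃ m : ℕ, r ^ m * r' = 0 := by
  haveI : IsIso (b.app (U.basicOpen r)) := Scheme.Hom.isIso_app b _ hr
  exact h3_of_isAway b.appTop.hom r _
    (W.presheaf.map (homOfLE (le_top : b ⁻¹ᵁ U.basicOpen r ≤ ⊤)).op).hom
    (b.app (U.basicOpen r)).hom (isAway_res r _ rfl)
    (ConcreteCategory.bijective_of_isIso (b.app (U.basicOpen r))).1 (geo_comm b r) r' h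

include hr in
/-- **Localizing the fibre product of section rings.** -/
theorem isAway_fib_geo {Wi : Scheme.{u}} [CompactSpace Wi] [QuasiSeparatedSpace Wi] (π : W ⟶ Wi)
    (β : Γ(Wi, ⊤)) (h : b.appTop.hom r = π.appTop.hom β) :
    IsAway ((Wi.presheaf.map (homOfLE (le_top : Wi.basicOpen β ≤ ⊤)).op).hom.comp
        (fibSnd b.appTop.hom π.appTop.hom))
      (fibMk b.appTop.hom π.appTop.hom r β h) :=
  isAway_fib _ _ _ r β h (isAway_res β _ rfl) (geo_h2 b r hr) (geo_h3 b r hr)

end Geo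

end Groth.Agent.Lib.NApxD1_helper7
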