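import Mathlib
import Groth.Agent.Lib.NApxD1_helper7

/-!
# Noetherian approximation, module D2: the good family of basic opens (helper7)

Let `W = lim 𝒲 i` (thin cofiltered diagram of qcqs schemes, affine transition maps) and let
`b : W ⟶ U` be an open immersion into an affine scheme.  Then at some stage `i` there are finitely
many global sections `β k` of `𝒲 i`, whose pullbacks to `W` extend to functions `r k` on `U`
with `D(r k) ⊆ b(W)`, such that the basic opens `D(β k)` are affine and cover `𝒲 i`.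
-/

set_option autoImplicit false
set_option linter.style.haveILetI false
universe u
open CategoryTheory CategoryTheory.Limits AlgebraicGeometry TopologicalSpace

namespace Groth.Agent.Lib.NApxD2_helper7

variable {I : Type u} [SmallCategory I] [IsCofiltered I] [Quiver.IsThin I]
  (𝒲 : I ⥤ Scheme.{u}) [∀ {i j : I} (f : i ⟶ j), IsAffineHom (𝒲.map f)]
  [∀ i, CompactSpace (𝒲.obj i)] [∀ i, QuasiSeparatedSpace (𝒲.obj i)]
  (cW : Cone 𝒲) (hcW : IsLimit cW)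

omit [Quiver.IsThin I] [∀ i, CompactSpace (𝒲.obj i)] in
include hcW in
theorem exists_isAffineOpen_preimage {i : I} (O : (𝒲.obj i).Opens)
    (hO : IsCompact (O : Set (𝒲.obj i))) (h : IsAffineOpen (cW.π.app i ⁻¹ᵁ O)) :
    ∃ (j : I) (f : j ⟶ i), IsAffineOpen (𝒲.map f ⁻¹ᵁ O) := by
  have (j : Over i) : CompactSpace ((opensDiagram 𝒲 i O).obj j) :=
    isCompact_iff_compactSpace.mp (QuasiCompact.isCompact_preimage _ O.2 hO)
  have (j : Over i) : QuasiSeparatedSpace ((opensDiagram 𝒲 i O).obj j) :=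
    (isQuasiSeparated_iff_quasiSeparatedSpace _ (𝒲.map _ ⁻¹ᵁ _).2).mp
      (.of_quasiSeparatedSpace _)
  have : IsAffine (opensCone 𝒲 cW i O).pt := h
  obtain ⟨j, hj⟩ := Scheme.exists_isAffine_of_isLimit _ _ (isLimitOpensCone 𝒲 cW hcW i O)
  exact ⟨j.left, j.hom, hj⟩

omit [IsCofiltered I] [Quiver.IsThin I] [∀ {i j : I} (f : i ⟶ j), IsAffineHom (𝒲.map f)]
  [∀ i, CompactSpace (𝒲.obj i)] [∀ i, QuasiSeparatedSpace (𝒲.obj i)] in
theorem appTop_map {i j : I} (g : j ⟶ i) (β : Γ(𝒲.obj i, ⊤)) :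
    (cW.π.app j).appTop.hom ((𝒲.map g).appTop.hom β) = (cW.π.app i).appTop.hom β := by
  have h1 : (cW.π.app j ≫ 𝒲.map g).appTop = (cW.π.app i).appTop := by rw [cW.w]
  rw [Scheme.Hom.comp_appTop] at h1
  exact ConcreteCategory.congr_hom h1 β

variable {U : Scheme.{u}} [IsAffine U] (b : cW.pt ⟶ U) [IsOpenImmersion b]

include hcW in
theorem exists_good_family :
    ∃ (i : I) (K : Type u) (_ : Finite K) (r : K → Γ(U, ⊤)) (β : K → Γ(𝒲.obj i, ⊤)),
      (∀ k, b.appTop.hom (r k) = (cW.π.app i).appTop.hom (β k)) ∧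
      (∀ k, U.basicOpen (r k) ≤ b.opensRange) ∧
      (∀ k, IsAffineOpen ((𝒲.obj i).basicOpen (β k))) ∧
      (∀ x : 𝒲.obj i, ∃ k, x ∈ (𝒲.obj i).basicOpen (β k)) := by
  classical
  haveI : CompactSpace cW.pt := Scheme.compactSpace_of_isLimit 𝒲 cW hcW
  have hcomp : IsCompact (b.opensRange : Set U) := isCompact_range b.continuous
  obtain ⟨Us, hUs, hfin, hsup⟩ := (isBasis_basicOpen U).exists_finite_of_isCompact hcomp
  haveI : Finite Us := hfin
  cases nonempty_fintype Us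
  choose r hr using fun k : Us => hUs k.2
  have hle : ∀ k : Us, U.basicOpen (r k) ≤ b.opensRange := fun k => by
    rw [hr k, hsup]
    exact le_sSup k.2
  have hcovU : ∀ y : U, y ∈ b.opensRange → ∃ k : Us, y ∈ U.basicOpen (r k) := by
    intro y hy
    rw [hsup] at hy
    obtain ⟨O, hO, hyO⟩ := Opens.mem_sSup.mp hy
    exact ⟨⟨O, hO⟩, by rw [hr ⟨O, hO⟩]; exact hyO⟩
  -- sections come from a stage
  have h2 : ∀ k : Us, ∃ (i : I) (t : Γ(𝒲.obj i, ⊤)),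
      b.appTop.hom (r k) = (cW.π.app i).appTop.hom t :=
    fun k => exists_appTop_π_eq_of_isLimit 𝒲 cW hcW (b.appTop.hom (r k))
  choose i₀ t₀ ht₀ using h2
  obtain ⟨i₁, hi₁⟩ := IsCofiltered.inf_objs_exists (Finset.univ.image i₀)
  have f₁ : ∀ k, i₁ ⟶ i₀ k := fun k => (hi₁ (Finset.mem_image_of_mem i₀ (Finset.mem_univ k))).some
  -- affine stages
  have h3 : ∀ k : Us, ∃ (j : I) (g : j ⟶ i₁), IsAffineOpen
      (𝒲.map g ⁻¹ᵁ (𝒲.obj i₁).basicOpen ((𝒲.map (f₁ k)).appTop.hom (t₀ k))) := by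
    intro k
    refine exists_isAffineOpen_preimage 𝒲 cW hcW _
      (isCompact_basicOpen _ isCompact_univ _) ?_
    have e1 : (cW.π.app i₁).appTop.hom ((𝒲.map (f₁ k)).appTop.hom (t₀ k)) =
        b.appTop.hom (r k) := by rw [appTop_map, ht₀]
    have e2 : cW.π.app i₁ ⁻¹ᵁ (𝒲.obj i₁).basicOpen ((𝒲.map (f₁ k)).appTop.hom (t₀ k)) =
        b ⁻¹ᵁ U.basicOpen (r k) :=
      (Scheme.preimage_basicOpen_top _ _).trans ((congrArg cW.pt.basicOpen e1).trans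
        (Scheme.preimage_basicOpen_top b (r k)).symm)
    rw [e2]
    exact ((isAffineOpen_top U).basicOpen (r k)).preimage_of_isOpenImmersion b (hle k)
  choose j₂ g₂ hg₂ using h3
  obtain ⟨i₂, hi₂⟩ := IsCofiltered.inf_objs_exists (insert i₁ (Finset.univ.image j₂))
  have e₂ : i₂ ⟶ i₁ := (hi₂ (Finset.mem_insert_self _ _)).some
  have h₂ : ∀ k, i₂ ⟶ j₂ k := fun k => (hi₂ (Finset.mem_insert_of_mem
    (Finset.mem_image_of_mem j₂ (Finset.mem_univ k)))).some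
  -- covering stage
  have h4 : cW.π.app i₂ ⁻¹ᵁ (⨆ k : Us, (𝒲.obj i₂).basicOpen
      ((𝒲.map e₂).appTop.hom ((𝒲.map (f₁ k)).appTop.hom (t₀ k)))) = ⊤ := by
    rw [eq_top_iff]
    intro x _
    obtain ⟨k, hk⟩ := hcovU (b x) ⟨x, rfl⟩
    have hx : x ∈ b ⁻¹ᵁ U.basicOpen (r k) := hk
    rw [Scheme.Hom.preimage_iSup]
    refine Opens.mem_iSup.mpr ⟨k, ?_⟩
    have e1 : (cW.π.app i₂).appTop.hom ((𝒲.map e₂).appTop.hom
        ((𝒲.map (f₁ k)).appTop.hom (t₀ k))) = b.appTop.hom (r k) := by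
      rw [appTop_map, appTop_map, ht₀]
    have e3 : cW.π.app i₂ ⁻¹ᵁ (𝒲.obj i₂).basicOpen ((𝒲.map e₂).appTop.hom
        ((𝒲.map (f₁ k)).appTop.hom (t₀ k))) = b ⁻¹ᵁ U.basicOpen (r k) :=
      (Scheme.preimage_basicOpen_top _ _).trans ((congrArg cW.pt.basicOpen e1).trans
        (Scheme.preimage_basicOpen_top b (r k)).symm)
    rw [e3]
    exact hx
  obtain ⟨i₃, e₃, he₃⟩ := exists_map_eq_top 𝒲 cW hcW _ h4
  refine ⟨i₃, Us, inferInstance, r, fun k => (𝒲.map e₃).appTop.hom ((𝒲.map e₂).appTop.hom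
    ((𝒲.map (f₁ k)).appTop.hom (t₀ k))), ?_, hle, ?_, ?_⟩
  · intro k
    rw [appTop_map, appTop_map, appTop_map, ht₀]
  · intro k
    have e1 : (𝒲.obj i₃).basicOpen ((𝒲.map e₃).appTop.hom ((𝒲.map e₂).appTop.hom
        ((𝒲.map (f₁ k)).appTop.hom (t₀ k)))) =
        𝒲.map (e₃ ≫ h₂ k) ⁻¹ᵁ (𝒲.map (g₂ k) ⁻¹ᵁ (𝒲.obj i₁).basicOpen
          ((𝒲.map (f₁ k)).appTop.hom (t₀ k))) := by
      rw [← Scheme.Hom.comp_preimage, ← 𝒲.map_comp,
        Subsingleton.elim ((e₃ ≫ h₂ k) ≫ g₂ k) (e₃ ≫ e₂), 𝒲.map_comp,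
        Scheme.Hom.comp_preimage, Scheme.preimage_basicOpen_top, Scheme.preimage_basicOpen_top]
    rw [e1]
    exact (hg₂ k).preimage _
  · intro x
    have hx : x ∈ 𝒲.map e₃ ⁻¹ᵁ (⨆ k : Us, (𝒲.obj i₂).basicOpen
        ((𝒲.map e₂).appTop.hom ((𝒲.map (f₁ k)).appTop.hom (t₀ k)))) := by
      rw [he₃]
      trivial
    obtain ⟨k, hk⟩ := Opens.mem_iSup.mp hx
    refine ⟨k, ?_⟩
    have hk' : x ∈ 𝒲.map e₃ ⁻¹ᵁ (𝒲.obj i₂).basicOpen
        ((𝒲.map e₂).appTop.hom ((𝒲.map (f₁ k)).appTop.hom (t₀ k))) := hk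
    rw [Scheme.preimage_basicOpen_top] at hk'
    exact hk'

end Groth.Agent.Lib.NApxD2_helper7
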