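import Mathlib

/-!
# Noetherian approximation, module E0: extension of presentations (helper7)

* `HasExt DV cV v`: the presentation `(DV, cV)` of `cV.pt` (inverse system of schemes of finite
  type over `ℤ`) extends along the open immersion `v : cV.pt ⟶ S` to a presentation of `S`.
* `ExtHom v`: every presentation of the source of `v` extends along `v`.
* stability under isomorphisms, reindexing and composition.
-/

set_option autoImplicit false
set_option linter.style.haveILetI false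
universe u
open CategoryTheory CategoryTheory.Limits AlgebraicGeometry Opposite

namespace Groth.Agent.Lib.NApxE0_helper7

/-- The presentation `(DV, cV)` of `cV.pt` extends along `v : cV.pt ⟶ S`. -/
def HasExt {I : Type u} [Preorder I] (DV : Iᵒᵖ ⥤ Scheme.{u}) (cV : Cone DV) {S : Scheme.{u}}
    (v : cV.pt ⟶ S) : Prop :=
  ∃ (J : Type u) (_ : Preorder J) (_ : IsDirected J (fun a b => a ≤ b)) (_ : Nonempty J)
    (DS : Jᵒᵖ ⥤ Scheme.{u}) (cS : Cone DS) (_ : IsLimit cS) (eS : cS.pt ≅ S)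
    (α : J →o I) (ι : ∀ j : J, DV.obj (op (α j)) ⟶ DS.obj (op j)),
    (∀ j, IsOpenImmersion (ι j)) ∧
    (∀ (j j' : Jᵒᵖ) (f : j ⟶ j'), IsAffineHom (DS.map f)) ∧
    (∀ j, CompactSpace (DS.obj j) ∧
      LocallyOfFiniteType (specULiftZIsTerminal.from (DS.obj j))) ∧
    (∀ (j j' : J) (h : j' ≤ j), IsPullback (DV.map (homOfLE (α.mono h)).op) (ι j) (ι j')
      (DS.map (homOfLE h).op)) ∧
    (∀ j, IsPullback (cV.π.app (op (α j))) (v ≫ eS.inv) (ι j) (cS.π.app (op j)))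

/-- Every presentation of the source of `v` extends along `v`. -/
def ExtHom {V S : Scheme.{u}} (v : V ⟶ S) : Prop :=
  ∀ (I : Type u) [Preorder I] [IsDirected I (fun a b => a ≤ b)] [Nonempty I]
    (DV : Iᵒᵖ ⥤ Scheme.{u})
    (_ : ∀ (i i' : Iᵒᵖ) (a : i ⟶ i'), IsAffineHom (DV.map a))
    (_ : ∀ i, CompactSpace (DV.obj i) ∧
      LocallyOfFiniteType (specULiftZIsTerminal.from (DV.obj i)))
    (cV : Cone DV) (_ : IsLimit cV) (e : cV.pt ≅ V), HasExt DV cV (e.hom ≫ v)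

theorem HasExt.of_iso {I : Type u} [Preorder I] {DV : Iᵒᵖ ⥤ Scheme.{u}} {cV : Cone DV}
    {S S' : Scheme.{u}} {v : cV.pt ⟶ S} (H : HasExt DV cV v) (w : S ≅ S') (v' : cV.pt ⟶ S')
    (hv' : v' = v ≫ w.hom) : HasExt DV cV v' := by
  obtain ⟨J, iP, iD, iN, DS, cS, hcS, eS, α, ι, h1, h2, h3, h4, h5⟩ := H
  refine ⟨J, iP, iD, iN, DS, cS, hcS, eS ≪≫ w, α, ι, h1, h2, h3, h4, fun j => ?_⟩
  have e : v' ≫ (eS ≪≫ w).inv = v ≫ eS.inv := by
    rw [hv', Iso.trans_inv, Category.assoc, Iso.hom_inv_id_assoc]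
  rw [e]
  exact h5 j

theorem HasExt.reindex {I I₂ : Type u} [Preorder I] [Preorder I₂] (G : I₂ᵒᵖ ⥤ Iᵒᵖ)
    {DV : Iᵒᵖ ⥤ Scheme.{u}} {cV : Cone DV} {S : Scheme.{u}} {v : cV.pt ⟶ S}
    (H : HasExt (G ⋙ DV) (cV.whisker G) v) : HasExt DV cV v := by
  obtain ⟨J, iP, iD, iN, DS, cS, hcS, eS, α, ι, h1, h2, h3, h4, h5⟩ := H
  let α' : J →o I := ⟨fun j => (G.obj (op (α j))).unop,
    fun j j' h => leOfHom (G.map (homOfLE (α.mono h)).op).unop⟩
  refine ⟨J, iP, iD, iN, DS, cS, hcS, eS, α', ι, h1, h2, h3, fun j j' h => ?_, fun j => h5 j⟩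
  have e : (homOfLE (α'.mono h)).op = G.map (homOfLE (α.mono h)).op :=
    Quiver.Hom.unop_inj (Subsingleton.elim _ _)
  rw [e]
  exact h4 j j' h

theorem HasExt.comp {I : Type u} [Preorder I] {DV : Iᵒᵖ ⥤ Scheme.{u}} {cV : Cone DV}
    {T S : Scheme.{u}} {v : cV.pt ⟶ T} (H : HasExt DV cV v) (t : T ⟶ S) (ht : ExtHom t) :
    HasExt DV cV (v ≫ t) := by
  obtain ⟨J, iP, iD, iN, DT, cT, hcT, eT, α, ι, h1, h2, h3, h4, h5⟩ := H
  obtain ⟨K, kP, kD, kN, DS, cS, hcS, eS, β, κ, g1, g2, g3, g4, g5⟩ :=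
    @ht J iP iD iN DT h2 h3 cT hcT eT
  refine ⟨K, kP, kD, kN, DS, cS, hcS, eS, α.comp β, fun k => ι (β k) ≫ κ k, fun k => ?_, g2, g3,
    fun k k' h => ?_, fun k => ?_⟩
  · haveI := h1 (β k)
    haveI := g1 k
    show IsOpenImmersion (ι (β k) ≫ κ k)
    infer_instance
  · exact (h4 (β k) (β k') (β.mono h)).paste_vert (g4 k k' h)
  · have := (h5 (β k)).paste_vert (g5 k)
    have e : (v ≫ eT.inv) ≫ (eT.hom ≫ t) ≫ eS.inv = (v ≫ t) ≫ eS.inv := by
      simp only [Category.assoc, Iso.inv_hom_id_assoc]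
    rw [e] at this
    exact this

theorem ExtHom.of_iso {V V' S S' : Scheme.{u}} {v : V ⟶ S} (H : ExtHom v) (eV : V' ≅ V)
    (eS : S ≅ S') (v' : V' ⟶ S') (hv' : v' = eV.hom ≫ v ≫ eS.hom) : ExtHom v' := by
  intro I _ _ _ DV haff hft cV hcV e
  have h1 := H I DV haff hft cV hcV (e ≪≫ eV)
  refine h1.of_iso eS _ ?_
  rw [hv', Iso.trans_hom, Category.assoc, Category.assoc]

theorem ExtHom.comp {V T S : Scheme.{u}} {v : V ⟶ T} {t : T ⟶ S} (hv : ExtHom v)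
    (ht : ExtHom t) : ExtHom (v ≫ t) := by
  intro I _ _ _ DV haff hft cV hcV e
  have h1 := (hv I DV haff hft cV hcV e).comp t ht
  rw [Category.assoc] at h1
  exact h1

theorem ExtHom.of_isIso {V S : Scheme.{u}} (v : V ⟶ S) [IsIso v] : ExtHom v := by
  intro I _ _ _ DV haff hft cV hcV e
  refine ⟨I, inferInstance, inferInstance, inferInstance, DV, cV, hcV, e ≪≫ asIso v, OrderHom.id,
    fun j => 𝟙 _, fun j => ?_, haff, hft, fun j j' h => ?_, fun j => ?_⟩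
  · show IsOpenImmersion (𝟙 (DV.obj (op j)))
    infer_instance
  · show IsPullback (DV.map (homOfLE h).op) (𝟙 (DV.obj (op j))) (𝟙 (DV.obj (op j')))
      (DV.map (homOfLE h).op)
    exact IsPullback.id_vert _
  · have e1 : (e.hom ≫ v) ≫ (e ≪≫ asIso v).inv = 𝟙 _ := by simp
    rw [e1]
    exact IsPullback.id_vert (cV.π.app (op j))

end Groth.Agent.Lib.NApxE0_helper7
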