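import Mathlib
import Groth.Agent.Lib.NApxB_helper7
import Groth.Agent.Lib.NApxC_helper7
import Groth.Agent.Lib.NApxD2_helper7
import Groth.Agent.Lib.NApxE0_helper7
import Groth.Agent.Lib.FTInt_helper8

/-!
# Noetherian approximation, module D3: the key gluing step (helper7)

Given an inverse system `𝒱` of schemes of finite type over `ℤ` with limit `V`, an equifibered
system of opens `𝒲 ⊆ 𝒱` with limit `W ⊆ V`, and an open immersion `b : W ⟶ U` into an affine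
scheme, the glued scheme `V ∪_W U` is the limit of an inverse system of schemes of finite type
over `ℤ` which extends (a reindexing of) `𝒱`.
-/

set_option autoImplicit false
set_option linter.style.haveILetI false
set_option linter.unusedSectionVars false
universe u
open CategoryTheory CategoryTheory.Limits AlgebraicGeometry TopologicalSpace Opposite

namespace Groth.Agent.Lib.NApxD3_helper7
open Groth.Agent.Lib.NApxA_helper7 Groth.Agent.Lib.NApxB_helper7 Groth.Agent.Lib.NApxC_helper7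
  Groth.Agent.Lib.NApxD1_helper7 Groth.Agent.Lib.NApxD2_helper7 Groth.Agent.Lib.NApxE0_helper7

theorem IsAway.congr {R S : Type*} [CommRing R] [CommRing S] {φ φ' : R →+* S} {f : R}
    (h : IsAway φ f) (hφ : ∀ x, φ x = φ' x) : IsAway φ' f := by
  have : φ = φ' := RingHom.ext hφ
  subst this
  exact h

theorem lft_spec_of_finiteType (A : Type u) [CommRing A] [alg : Algebra ℤ A]
    [Algebra.FiniteType ℤ A] :
    LocallyOfFiniteType (specULiftZIsTerminal.from (Spec (CommRingCat.of A))) := by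
  let φ : ULift.{u} ℤ →+* A := (algebraMap ℤ A).comp (ULift.ringEquiv (R := ℤ)).toRingHom
  have e : specULiftZIsTerminal.from (Spec (CommRingCat.of A)) =
      Spec.map (CommRingCat.ofHom φ) := specULiftZIsTerminal.hom_ext _ _
  rw [e, HasRingHomProperty.Spec_iff (P := @LocallyOfFiniteType)]
  have h1 : (algebraMap ℤ A).FiniteType := by
    unfold RingHom.FiniteType
    have h4 : (algebraMap ℤ A).toAlgebra = alg := Subsingleton.elim _ _
    rw [h4]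
    infer_instance
  exact h1.comp (RingHom.FiniteType.of_surjective _ (ULift.ringEquiv (R := ℤ)).surjective)

theorem SpecMap_preimage_bo {A B : CommRingCat.{u}} (φ : A ⟶ B) (f : A) :
    Spec.map φ ⁻¹ᵁ bo A f = bo B (φ f) := by
  unfold bo
  exact SpecMap_preimage_basicOpen φ f

theorem opensRange_toSpec (X : Scheme.{u}) (A : CommRingCat.{u}) (χ : A ⟶ Γ(X, ⊤))
    [IsOpenImmersion (toSpec X A χ)] {K : Type*} (f : K → A)
    (hf : ∀ k, IsAffineOpen (X.basicOpen (χ (f k))))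
    (hA : ∀ k, IsAway (resMap X A χ (f k)) (f k))
    (hcov : ∀ x : X, ∃ k, x ∈ X.basicOpen (χ (f k))) :
    (toSpec X A χ).opensRange = ⨆ k, bo A (f k) := by
  apply SetLike.coe_injective
  rw [Scheme.Hom.coe_opensRange, Opens.coe_iSup]
  exact range_toSpec X A χ f hf hA hcov

/-- The data of the key gluing step. -/
structure Setup where
  /-- index preorder -/
  I : Type u
  [pre : Preorder I]
  [dir : IsDirected I (fun a b => a ≤ b)]
  [ne : Nonempty I]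
  /-- the system of opens -/
  𝒲 : Iᵒᵖ ⥤ Scheme.{u}
  [affW : ∀ {i j : Iᵒᵖ} (f : i ⟶ j), IsAffineHom (𝒲.map f)]
  [cptW : ∀ i, CompactSpace (𝒲.obj i)]
  [qsW : ∀ i, QuasiSeparatedSpace (𝒲.obj i)]
  [ftW : ∀ i, LocallyOfFiniteType (specULiftZIsTerminal.from (𝒲.obj i))]
  /-- its limit cone -/
  cW : Cone 𝒲
  /-- it is a limit -/
  hcW : IsLimit cW
  [cptWpt : CompactSpace cW.pt]
  [qsWpt : QuasiSeparatedSpace cW.pt]
  /-- the affine scheme -/
  U : Scheme.{u}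
  [affU : IsAffine U]
  /-- the open immersion -/
  b : cW.pt ⟶ U
  [oib : IsOpenImmersion b]
  /-- the stage of the good family -/
  i₃ : I
  /-- index of the good family -/
  K : Type u
  [finK : Finite K]
  /-- functions on `U` -/
  r : K → Γ(U, ⊤)
  /-- functions on the stage -/
  β : K → Γ(𝒲.obj (op i₃), ⊤)
  hcompat : ∀ k, b.appTop.hom (r k) = (cW.π.app (op i₃)).appTop.hom (β k)
  hle : ∀ k, U.basicOpen (r k) ≤ b.opensRange
  haff3 : ∀ k, IsAffineOpen ((𝒲.obj (op i₃)).basicOpen (β k))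
  hcov3 : ∀ x : 𝒲.obj (op i₃), ∃ k, x ∈ (𝒲.obj (op i₃)).basicOpen (β k)

attribute [instance] Setup.pre Setup.dir Setup.ne Setup.affW Setup.cptW Setup.qsW Setup.ftW
  Setup.cptWpt Setup.qsWpt Setup.affU Setup.oib Setup.finK

namespace Setup
variable (D : Setup.{u})

/-- transition maps on global sections -/
noncomputable def gS {i i' : D.I} (h : i ≤ i') :
    Γ(D.𝒲.obj (op i), ⊤) →+* Γ(D.𝒲.obj (op i'), ⊤) :=
  (D.𝒲.map (homOfLE h).op).appTop.hom

theorem gS_refl (i : D.I) (x : Γ(D.𝒲.obj (op i), ⊤)) : D.gS (le_refl i) x = x := by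
  unfold gS
  have e : (homOfLE (le_refl i)).op = 𝟙 (op i) := Quiver.Hom.unop_inj (Subsingleton.elim _ _)
  rw [e, CategoryTheory.Functor.map_id, Scheme.Hom.id_appTop]
  rfl

theorem gS_trans {i i' i'' : D.I} (h : i ≤ i') (h' : i' ≤ i'') (x : Γ(D.𝒲.obj (op i), ⊤)) :
    D.gS h' (D.gS h x) = D.gS (h.trans h') x := by
  unfold gS
  have e : (homOfLE (h.trans h')).op = (homOfLE h').op ≫ (homOfLE h).op :=
    Quiver.Hom.unop_inj (Subsingleton.elim _ _)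
  rw [e, CategoryTheory.Functor.map_comp, Scheme.Hom.comp_appTop]
  rfl

theorem tS_gS {i i' : D.I} (h : i ≤ i') (x : Γ(D.𝒲.obj (op i), ⊤)) :
    (D.cW.π.app (op i')).appTop.hom (D.gS h x) = (D.cW.π.app (op i)).appTop.hom x :=
  appTop_map D.𝒲 D.cW (homOfLE h).op x

/-- the fibre product ring `Γ(U) ×_{Γ(W)} Γ(𝒲 i)` -/
abbrev Rp (i : D.I) : Subring (Γ(D.U, ⊤) × Γ(D.𝒲.obj (op i), ⊤)) :=
  fib D.b.appTop.hom (D.cW.π.app (op i)).appTop.hom

/-- transition maps of the fibre product rings -/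
noncomputable def ρ {i i' : D.I} (h : i ≤ i') : D.Rp i →+* D.Rp i' :=
  fibMap D.b.appTop.hom (D.cW.π.app (op i)).appTop.hom (D.cW.π.app (op i')).appTop.hom
    (D.gS h) (D.tS_gS h)

theorem ρ_refl (i : D.I) (z : D.Rp i) : D.ρ (le_refl i) z = z :=
  fib_ext _ _ rfl (D.gS_refl i _)

theorem ρ_trans {i i' i'' : D.I} (h : i ≤ i') (h' : i' ≤ i'') (z : D.Rp i) :
    D.ρ h' (D.ρ h z) = D.ρ (h.trans h') z :=
  fib_ext _ _ rfl (D.gS_trans h h' _)

/-- the good family at stage `i` -/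
noncomputable def fam {i : D.I} (hi : D.i₃ ≤ i) (k : D.K) : D.Rp i :=
  fibMk _ _ (D.r k) (D.gS hi (D.β k)) ((D.hcompat k).trans (D.tS_gS hi (D.β k)).symm)

theorem ρ_fam {i i' : D.I} (hi : D.i₃ ≤ i) (h : i ≤ i') (k : D.K) :
    D.ρ h (D.fam hi k) = D.fam (hi.trans h) k :=
  fib_ext _ _ rfl (D.gS_trans hi h _)

theorem basicOpen_gS {i : D.I} (hi : D.i₃ ≤ i) (k : D.K) :
    (D.𝒲.obj (op i)).basicOpen (D.gS hi (D.β k)) =
      D.𝒲.map (homOfLE hi).op ⁻¹ᵁ (D.𝒲.obj (op D.i₃)).basicOpen (D.β k) :=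
  (Scheme.preimage_basicOpen_top _ _).symm

theorem affine_stage {i : D.I} (hi : D.i₃ ≤ i) (k : D.K) :
    IsAffineOpen ((D.𝒲.obj (op i)).basicOpen (D.gS hi (D.β k))) := by
  rw [basicOpen_gS]
  exact (D.haff3 k).preimage _

theorem cover_stage {i : D.I} (hi : D.i₃ ≤ i) (x : D.𝒲.obj (op i)) :
    ∃ k, x ∈ (D.𝒲.obj (op i)).basicOpen (D.gS hi (D.β k)) := by
  obtain ⟨k, hk⟩ := D.hcov3 (D.𝒲.map (homOfLE hi).op x)
  refine ⟨k, ?_⟩
  rw [basicOpen_gS]
  exact hk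

theorem isAway_stage {i : D.I} (hi : D.i₃ ≤ i) (k : D.K) :
    IsAway (((D.𝒲.obj (op i)).presheaf.map (homOfLE
        (le_top : (D.𝒲.obj (op i)).basicOpen (D.gS hi (D.β k)) ≤ ⊤)).op).hom.comp
        (fibSnd D.b.appTop.hom (D.cW.π.app (op i)).appTop.hom))
      (D.fam hi k) :=
  isAway_fib_geo D.b (D.r k) (D.hle k) (D.cW.π.app (op i)) (D.gS hi (D.β k))
    ((D.hcompat k).trans (D.tS_gS hi (D.β k)).symm)

theorem exists_G {i : D.I} (hi : D.i₃ ≤ i) (k : D.K) :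
    ∃ G : Finset (D.Rp i), ∀ A : Subalgebra ℤ (D.Rp i), (↑G : Set (D.Rp i)) ⊆ A →
      D.fam hi k ∈ A → ∀ y : D.Rp i, ∃ n : ℕ, D.fam hi k ^ n * y ∈ A := by
  haveI : Algebra.FiniteType ℤ
      Γ(D.𝒲.obj (op i), (D.𝒲.obj (op i)).basicOpen (D.gS hi (D.β k))) :=
    Groth.Agent.FTIntH8.finiteType_int_sec (specULiftZIsTerminal.from (D.𝒲.obj (op i))) _
      (D.affine_stage hi k)
  exact exists_finset_of_finiteType (D.isAway_stage hi k)

/-- the standard generators at stage `i` -/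
noncomputable def stdSet {i : D.I} (hi : D.i₃ ≤ i) : Set (D.Rp i) :=
  (⋃ k, (↑(D.exists_G hi k).choose : Set (D.Rp i))) ∪ Set.range (D.fam hi)

theorem finite_stdSet {i : D.I} (hi : D.i₃ ≤ i) : (D.stdSet hi).Finite :=
  (Set.finite_iUnion fun _ => Finset.finite_toSet _).union (Set.finite_range _)

/-- the index set of the approximating system -/
structure Idx where
  /-- stage -/
  i : D.I
  hi : D.i₃ ≤ i
  /-- finitely generated subalgebra -/
  A : Subalgebra ℤ (D.Rp i)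
  fg : A.FG
  mem : ∀ k, D.fam hi k ∈ A
  big : ∀ (k : D.K) (y : D.Rp i), ∃ n : ℕ, D.fam hi k ^ n * y ∈ A

instance : Preorder D.Idx where
  le x y := ∃ h : x.i ≤ y.i, ∀ z ∈ x.A, D.ρ h z ∈ y.A
  le_refl x := ⟨le_refl _, fun z hz => by rw [ρ_refl]; exact hz⟩
  le_trans x y z hxy hyz := by
    obtain ⟨h1, h1'⟩ := hxy
    obtain ⟨h2, h2'⟩ := hyz
    exact ⟨h1.trans h2, fun w hw => by rw [← D.ρ_trans h1 h2]; exact h2' _ (h1' _ hw)⟩

variable {D}

theorem le_fst {x y : D.Idx} (h : x ≤ y) : x.i ≤ y.i := by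
  obtain ⟨h1, -⟩ := h
  exact h1

theorem le_snd {x y : D.Idx} (h : x ≤ y) (z : D.Rp x.i) (hz : z ∈ x.A) :
    D.ρ (le_fst h) z ∈ y.A := by
  obtain ⟨h1, h2⟩ := h
  exact h2 z hz

variable (D)

/-- construct an index from a stage and a finite set -/
noncomputable def mkIdx {i : D.I} (hi : D.i₃ ≤ i) (G : Set (D.Rp i)) (hG : G.Finite) : D.Idx where
  i := i
  hi := hi
  A := Algebra.adjoin ℤ (G ∪ D.stdSet hi)
  fg := Subalgebra.fg_def.mpr ⟨_, hG.union (D.finite_stdSet hi), rfl⟩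
  mem k := Algebra.subset_adjoin (Or.inr (Or.inr ⟨k, rfl⟩))
  big k y := (D.exists_G hi k).choose_spec _
    (fun g hg => Algebra.subset_adjoin (Or.inr (Or.inl (Set.mem_iUnion.mpr ⟨k, hg⟩))))
    (Algebra.subset_adjoin (Or.inr (Or.inr ⟨k, rfl⟩))) y

theorem mem_mkIdx {i : D.I} (hi : D.i₃ ≤ i) (G : Set (D.Rp i)) (hG : G.Finite) (g : D.Rp i)
    (hg : g ∈ G) : g ∈ (D.mkIdx hi G hG).A := by
  show g ∈ Algebra.adjoin ℤ (G ∪ D.stdSet hi)
  exact Algebra.subset_adjoin (Or.inl hg)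

theorem le_mkIdx (x : D.Idx) {i : D.I} (h : x.i ≤ i) (Gx : Finset (D.Rp x.i))
    (hGx : Algebra.adjoin ℤ (↑Gx : Set (D.Rp x.i)) = x.A) (G : Set (D.Rp i)) (hG : G.Finite)
    (hsub : ∀ g ∈ Gx, D.ρ h g ∈ G) : x ≤ D.mkIdx (x.hi.trans h) G hG := by
  refine ⟨h, fun z hz => ?_⟩
  have key : x.A ≤ (Algebra.adjoin ℤ (G ∪ D.stdSet (x.hi.trans h))).comap
      (D.ρ h).toIntAlgHom := by
    rw [← hGx]
    refine Algebra.adjoin_le fun g hg => ?_
    exact Algebra.subset_adjoin (Or.inl (hsub g (Finset.mem_coe.mp hg)))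
  exact key hz

instance : IsDirected D.Idx (fun a b => a ≤ b) := ⟨fun x y => by
  obtain ⟨i, hxi, hyi⟩ := exists_ge_ge x.i y.i
  obtain ⟨Gx, hGx⟩ := x.fg
  obtain ⟨Gy, hGy⟩ := y.fg
  refine ⟨D.mkIdx (x.hi.trans hxi) (D.ρ hxi '' ↑Gx ∪ D.ρ hyi '' ↑Gy)
    ((Gx.finite_toSet.image _).union (Gy.finite_toSet.image _)), ?_, ?_⟩
  · exact D.le_mkIdx x hxi Gx hGx _ _ (fun g hg => Or.inl ⟨g, hg, rfl⟩)
  · exact D.le_mkIdx y hyi Gy hGy _ _ (fun g hg => Or.inr ⟨g, hg, rfl⟩)⟩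

instance : Nonempty D.Idx := ⟨D.mkIdx (le_refl D.i₃) ∅ Set.finite_empty⟩

variable {D}

/-- transition maps of the subalgebras -/
noncomputable def ρA {x y : D.Idx} (h : x ≤ y) : x.A →+* y.A :=
  ((D.ρ (le_fst h)).comp x.A.val.toRingHom).codRestrict y.A (fun z => le_snd h z.1 z.2)

/-- transition maps of the subalgebras, as morphisms of commutative rings -/
noncomputable def ρC {x y : D.Idx} (h : x ≤ y) : CommRingCat.of x.A ⟶ CommRingCat.of y.A :=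
  CommRingCat.ofHom (ρA h)

variable (D)

/-- the system of finitely generated rings -/
noncomputable def AJ : D.Idx ⥤ CommRingCat.{u} where
  obj x := CommRingCat.of x.A
  map {x y} f := ρC (leOfHom f)
  map_id x := by
    apply CommRingCat.hom_ext
    apply RingHom.ext
    intro z
    apply Subtype.ext
    exact D.ρ_refl x.i z.1
  map_comp {x y w} f g := by
    apply CommRingCat.hom_ext
    apply RingHom.ext
    intro z
    apply Subtype.ext
    exact (D.ρ_trans (le_fst (leOfHom f)) (le_fst (leOfHom g)) z.1).symm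

variable {D}

/-- the map to functions on `U` -/
noncomputable def χU (x : D.Idx) : CommRingCat.of x.A ⟶ Γ(D.U, ⊤) :=
  CommRingCat.ofHom ((fibFst D.b.appTop.hom (D.cW.π.app (op x.i)).appTop.hom).comp
    x.A.val.toRingHom)

/-- the map to functions on the stage -/
noncomputable def χW (x : D.Idx) : CommRingCat.of x.A ⟶ Γ(D.𝒲.obj (op x.i), ⊤) :=
  CommRingCat.ofHom ((fibSnd D.b.appTop.hom (D.cW.π.app (op x.i)).appTop.hom).comp
    x.A.val.toRingHom)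

theorem χU_nat {x y : D.Idx} (h : x ≤ y) : ρC h ≫ χU y = χU x := by
  apply CommRingCat.hom_ext
  apply RingHom.ext
  intro z
  rfl

theorem χW_nat {x y : D.Idx} (h : x ≤ y) :
    ρC h ≫ χW y = χW x ≫ (D.𝒲.map (homOfLE (le_fst h)).op).appTop := by
  apply CommRingCat.hom_ext
  apply RingHom.ext
  intro z
  rfl

theorem χ_cond (x : D.Idx) : χU x ≫ D.b.appTop = χW x ≫ (D.cW.π.app (op x.i)).appTop := by
  apply CommRingCat.hom_ext
  apply RingHom.ext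
  intro z
  exact fib_condition D.b.appTop.hom (D.cW.π.app (op x.i)).appTop.hom z.1

variable (D)

/-- the cocone of rings with vertex `Γ(U, ⊤)` -/
noncomputable def cc : Cocone D.AJ where
  pt := Γ(D.U, ⊤)
  ι :=
    { app := fun x => χU x
      naturality := fun x y f => by
        apply CommRingCat.hom_ext
        apply RingHom.ext
        intro z
        rfl }

/-- `Γ(U, ⊤)` is the colimit of the finitely generated rings. -/
noncomputable def ccIsColimit : IsColimit D.cc := by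
  refine isColimitOfSurjInj D.AJ D.cc ?_ ?_
  · intro r₀
    obtain ⟨i₁, t, ht⟩ := exists_appTop_π_eq_of_isLimit D.𝒲 D.cW D.hcW (D.b.appTop.hom r₀)
    obtain ⟨i, h1, hi⟩ := exists_ge_ge i₁.unop D.i₃
    let z : D.Rp i := fibMk _ _ r₀ ((D.𝒲.map (homOfLE h1).op).appTop.hom t)
      (ht.trans (appTop_map D.𝒲 D.cW (homOfLE h1).op t).symm)
    exact ⟨D.mkIdx hi {z} (Set.finite_singleton z),
      (⟨z, D.mem_mkIdx hi {z} (Set.finite_singleton z) z rfl⟩ :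
        (D.mkIdx hi {z} (Set.finite_singleton z)).A), rfl⟩
  · intro x (y : x.A) hy
    have hy' : fibFst D.b.appTop.hom (D.cW.π.app (op x.i)).appTop.hom y.1 = 0 := hy
    have h0 : (D.cW.π.app (op x.i)).appTop
        (fibSnd D.b.appTop.hom (D.cW.π.app (op x.i)).appTop.hom y.1) = 0 := by
      have h1 := fib_condition D.b.appTop.hom (D.cW.π.app (op x.i)).appTop.hom y.1
      rw [hy', map_zero] at h1
      exact h1.symm
    obtain ⟨j', f, hf⟩ := exists_appTop_map_eq_zero_of_isLimit D.𝒲 D.cW D.hcW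
      (fibSnd D.b.appTop.hom (D.cW.π.app (op x.i)).appTop.hom y.1) h0
    have h : x.i ≤ j'.unop := leOfHom f.unop
    obtain ⟨Gx, hGx⟩ := x.fg
    have hxz := D.le_mkIdx x h Gx hGx (D.ρ h '' ↑Gx) (Gx.finite_toSet.image _)
      (fun g hg => ⟨g, hg, rfl⟩)
    refine ⟨_, homOfLE hxz, ?_⟩
    apply Subtype.ext
    apply fib_ext
    · exact hy'
    · show D.gS h (fibSnd D.b.appTop.hom (D.cW.π.app (op x.i)).appTop.hom y.1) = 0
      have e : (homOfLE h).op = f := Quiver.Hom.unop_inj (Subsingleton.elim _ _)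
      unfold gS
      rw [e]
      exact hf

/-- the system of affine schemes of finite type -/
noncomputable def 𝒜 : D.Idxᵒᵖ ⥤ Scheme.{u} := D.AJ.op ⋙ Scheme.Spec

variable {D}

theorem toSpecU_nat {x y : D.Idx} (h : x ≤ y) :
    toSpec D.U _ (χU y) ≫ Spec.map (ρC h) = toSpec D.U _ (χU x) := by
  have e := χU_nat h
  show (D.U.toSpecΓ ≫ Spec.map (χU y)) ≫ Spec.map (ρC h) = D.U.toSpecΓ ≫ Spec.map (χU x)
  rw [Category.assoc, ← Spec.map_comp, e]

variable (D)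

/-- the cone over the affine system with vertex `U` -/
noncomputable def cA : Cone D.𝒜 where
  pt := D.U
  π :=
    { app := fun x => toSpec D.U (CommRingCat.of x.unop.A) (χU x.unop)
      naturality := fun x y f =>
        (Category.id_comp _).trans (toSpecU_nat (leOfHom f.unop)).symm }

/-- `U` is the limit of the affine system. -/
noncomputable def isLimitCA : IsLimit D.cA := by
  haveI : PreservesLimitsOfSize.{u, u} Scheme.Spec.{u} :=
    ΓSpec.adjunction.rightAdjoint_preservesLimits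
  have h1 : IsLimit (Scheme.Spec.mapCone D.cc.op) :=
    isLimitOfPreserves Scheme.Spec D.ccIsColimit.op
  refine IsLimit.ofIsoLimit h1 (Cones.ext D.U.isoSpec.symm (fun x => ?_))
  show Spec.map (χU x.unop) = D.U.isoSpec.inv ≫ D.U.toSpecΓ ≫ Spec.map (χU x.unop)
  have h2 : D.U.isoSpec.inv ≫ D.U.toSpecΓ = 𝟙 _ := D.U.isoSpec.inv_hom_id
  rw [← Category.assoc, h2, Category.id_comp]

variable {D}

/-- the comparison map from the stage to the affine scheme -/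
noncomputable def ψ (x : D.Idx) : D.𝒲.obj (op x.i) ⟶ Spec (CommRingCat.of x.A) :=
  toSpec _ _ (χW x)

/-- the family of elements of the subalgebra -/
noncomputable def famA (x : D.Idx) (k : D.K) : CommRingCat.of x.A := ⟨D.fam x.hi k, x.mem k⟩

theorem isAway_ψ (x : D.Idx) (k : D.K) :
    IsAway (resMap (D.𝒲.obj (op x.i)) (CommRingCat.of x.A) (χW x) (famA x k)) (famA x k) :=
  IsAway.congr ((D.isAway_stage x.hi k).restrict x.A (x.mem k) (x.big k)) (fun _ => rfl)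

theorem affine_ψ (x : D.Idx) (k : D.K) :
    IsAffineOpen ((D.𝒲.obj (op x.i)).basicOpen (χW x (famA x k))) :=
  D.affine_stage x.hi k

theorem cover_ψ (x : D.Idx) (w : D.𝒲.obj (op x.i)) :
    ∃ k, w ∈ (D.𝒲.obj (op x.i)).basicOpen (χW x (famA x k)) :=
  D.cover_stage x.hi w

instance ψ_isOpenImmersion (x : D.Idx) : IsOpenImmersion (ψ x) :=
  isOpenImmersion_toSpec_of_family _ _ _ (famA x) (affine_ψ x) (isAway_ψ x) (cover_ψ x)

theorem opensRange_ψ (x : D.Idx) :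
    (ψ x).opensRange = ⨆ k, bo (CommRingCat.of x.A) (famA x k) := by
  haveI : IsOpenImmersion (toSpec (D.𝒲.obj (op x.i)) (CommRingCat.of x.A) (χW x)) :=
    ψ_isOpenImmersion x
  exact opensRange_toSpec _ _ _ (famA x) (affine_ψ x) (isAway_ψ x) (cover_ψ x)

theorem ρA_famA {x y : D.Idx} (h : x ≤ y) (k : D.K) :
    (ρC h) (famA x k) = famA y k :=
  Subtype.ext (D.ρ_fam x.hi (le_fst h) k)

theorem ψ_nat {x y : D.Idx} (h : y ≤ x) :
    D.𝒲.map (homOfLE (le_fst h)).op ≫ ψ y = ψ x ≫ Spec.map (ρC h) := by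
  unfold ψ toSpec
  rw [← Category.assoc, Scheme.toSpecΓ_naturality, Category.assoc, Category.assoc,
    ← Spec.map_comp, ← Spec.map_comp, χW_nat]

theorem ψ_isPullback {x y : D.Idx} (h : y ≤ x) :
    IsPullback (D.𝒲.map (homOfLE (le_fst h)).op) (ψ x) (ψ y)
      (Spec.map (ρC h)) := by
  refine IsOpenImmersion.isPullback _ _ _ _ (ψ_nat h).symm ?_
  rw [opensRange_ψ, opensRange_ψ, Scheme.Hom.preimage_iSup]
  congr 1
  funext k
  rw [SpecMap_preimage_bo, ρA_famA]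

theorem opensRange_b_le : D.b.opensRange ≤ ⨆ k, D.U.basicOpen (D.r k) := by
  rintro _ ⟨w, rfl⟩
  obtain ⟨k, hk⟩ := D.hcov3 (D.cW.π.app (op D.i₃) w)
  have h1 : w ∈ D.cW.π.app (op D.i₃) ⁻¹ᵁ (D.𝒲.obj (op D.i₃)).basicOpen (D.β k) := hk
  have e2 : D.cW.π.app (op D.i₃) ⁻¹ᵁ (D.𝒲.obj (op D.i₃)).basicOpen (D.β k) =
      D.b ⁻¹ᵁ D.U.basicOpen (D.r k) :=
    (Scheme.preimage_basicOpen_top _ _).trans ((congrArg D.cW.pt.basicOpen
      (D.hcompat k).symm).trans (Scheme.preimage_basicOpen_top D.b (D.r k)).symm)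
  rw [e2] at h1
  exact Opens.mem_iSup.mpr ⟨k, h1⟩

theorem cA_isPullback (x : D.Idx) :
    IsPullback (D.cW.π.app (op x.i)) D.b (ψ x) (toSpec D.U (CommRingCat.of x.A) (χU x)) := by
  refine IsOpenImmersion.isPullback _ _ _ _ ?_ ?_
  · unfold ψ toSpec
    rw [← Category.assoc, Scheme.toSpecΓ_naturality, Category.assoc, ← Spec.map_comp,
      ← Category.assoc, Scheme.toSpecΓ_naturality, Category.assoc, ← Spec.map_comp, χ_cond]
  · rw [opensRange_ψ, Scheme.Hom.preimage_iSup]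
    have e : ∀ k, toSpec D.U (CommRingCat.of x.A) (χU x) ⁻¹ᵁ bo (CommRingCat.of x.A) (famA x k) =
        D.U.basicOpen (D.r k) := fun k => toSpec_preimage_basicOpen _ _ _ _
    simp_rw [e]
    exact le_antisymm (iSup_le D.hle) opensRange_b_le

variable (D)

/-- the projection to the original index set -/
noncomputable def prJ : D.Idx ⥤ D.I :=
  Monotone.functor (f := Idx.i) (fun _ _ h => le_fst h)

instance prJ_final : D.prJ.Final := by
  refine Functor.final_of_exists_of_isFiltered D.prJ (fun i => ?_)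
    (fun {i x} s s' => ⟨x, 𝟙 x, Subsingleton.elim _ _⟩)
  obtain ⟨i', h1, h2⟩ := exists_ge_ge i D.i₃
  exact ⟨D.mkIdx h2 ∅ Set.finite_empty, ⟨homOfLE h1⟩⟩

/-- the comparison of the system of opens with the affine system -/
noncomputable def o₂ : D.prJ.op ⋙ D.𝒲 ⟶ D.𝒜 where
  app x := ψ x.unop
  naturality _ _ f := ψ_nat (leOfHom f.unop)

instance (x : D.Idxᵒᵖ) : IsOpenImmersion (D.o₂.app x) :=
  inferInstanceAs (IsOpenImmersion (ψ x.unop))

theorem isAffineHom_𝒜_map {x y : D.Idxᵒᵖ} (f : x ⟶ y) : IsAffineHom (D.𝒜.map f) := by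
  show IsAffineHom (Spec.map (ρC (leOfHom f.unop)))
  infer_instance

theorem lft_𝒜 (x : D.Idxᵒᵖ) :
    LocallyOfFiniteType (specULiftZIsTerminal.from (D.𝒜.obj x)) := by
  haveI : Algebra.FiniteType ℤ x.unop.A := (Subalgebra.fg_iff_finiteType _).mp x.unop.fg
  exact lft_spec_of_finiteType x.unop.A

instance (x : D.Idxᵒᵖ) : CompactSpace (D.𝒜.obj x) :=
  inferInstanceAs (CompactSpace (Spec (CommRingCat.of x.unop.A)))

theorem main_aux (𝒱 : D.Iᵒᵖ ⥤ Scheme.{u}) (o₁ : D.𝒲 ⟶ 𝒱) [∀ i, IsOpenImmersion (o₁.app i)]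
    (ho₁ : ∀ {i j : D.Iᵒᵖ} (f : i ⟶ j),
      IsPullback (D.𝒲.map f) (o₁.app i) (o₁.app j) (𝒱.map f))
    (h𝒱aff : ∀ {i j : D.Iᵒᵖ} (f : i ⟶ j), IsAffineHom (𝒱.map f))
    (h𝒱 : ∀ i, CompactSpace (𝒱.obj i) ∧
      LocallyOfFiniteType (specULiftZIsTerminal.from (𝒱.obj i)))
    (cV : Cone 𝒱) (hcV : IsLimit cV) (a : D.cW.pt ⟶ cV.pt) [IsOpenImmersion a]
    (ha : ∀ i, a ≫ cV.π.app i = D.cW.π.app i ≫ o₁.app i)
    (Ha : ∀ i, IsPullback (D.cW.π.app i) a (o₁.app i) (cV.π.app i)) :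
    HasExt 𝒱 cV (pushout.inl a D.b) := by
  let o₁J : D.prJ.op ⋙ D.𝒲 ⟶ D.prJ.op ⋙ 𝒱 := Functor.whiskerLeft D.prJ.op o₁
  haveI : ∀ j, IsOpenImmersion (o₁J.app j) := fun j =>
    inferInstanceAs (IsOpenImmersion (o₁.app (D.prJ.op.obj j)))
  have ho₁J : ∀ {i j : D.Idxᵒᵖ} (f : i ⟶ j), IsPullback ((D.prJ.op ⋙ D.𝒲).map f) (o₁J.app i)
      (o₁J.app j) ((D.prJ.op ⋙ 𝒱).map f) := fun f => ho₁ (D.prJ.op.map f)
  have ho₂ : ∀ {i j : D.Idxᵒᵖ} (f : i ⟶ j), IsPullback ((D.prJ.op ⋙ D.𝒲).map f) (D.o₂.app i)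
      (D.o₂.app j) (D.𝒜.map f) := fun f => ψ_isPullback (leOfHom f.unop)
  let cVJ : Cone (D.prJ.op ⋙ 𝒱) := cV.whisker D.prJ.op
  let cWJ : Cone (D.prJ.op ⋙ D.𝒲) := D.cW.whisker D.prJ.op
  have haJ : ∀ j, a ≫ cVJ.π.app j = cWJ.π.app j ≫ o₁J.app j := fun j => ha _
  have hbJ : ∀ j, D.b ≫ D.cA.π.app j = cWJ.π.app j ≫ D.o₂.app j :=
    fun j => (cA_isPullback j.unop).w.symm
  have hcVJ : IsLimit cVJ := (Functor.Initial.isLimitWhiskerEquiv D.prJ.op cV).symm hcV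
  have HaJ : ∀ j, IsPullback (cWJ.π.app j) a (o₁J.app j) (cVJ.π.app j) := fun j => Ha _
  have HbJ : ∀ j, IsPullback (cWJ.π.app j) D.b (D.o₂.app j) (D.cA.π.app j) :=
    fun j => cA_isPullback j.unop
  haveI : @IsOpenImmersion cWJ.pt D.cA.pt D.b := D.oib
  haveI : @IsOpenImmersion cWJ.pt cVJ.pt a := ‹IsOpenImmersion a›
  have hlim := isLimitGluedCone (D.prJ.op ⋙ 𝒱) (D.prJ.op ⋙ D.𝒲) D.𝒜 o₁J D.o₂ cVJ D.cA cWJ a D.b
    ho₁J ho₂ haJ hbJ hcVJ D.isLimitCA HaJ HbJ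
  refine ⟨D.Idx, inferInstance, inferInstance, inferInstance,
    glueFunctor (D.prJ.op ⋙ 𝒱) (D.prJ.op ⋙ D.𝒲) D.𝒜 o₁J D.o₂,
    gluedCone (D.prJ.op ⋙ 𝒱) (D.prJ.op ⋙ D.𝒲) D.𝒜 o₁J D.o₂ cVJ D.cA cWJ a D.b haJ hbJ, hlim,
    Iso.refl (pushout a D.b), ⟨Idx.i, fun _ _ h => le_fst h⟩,
    fun j => (inlNat (D.prJ.op ⋙ 𝒱) (D.prJ.op ⋙ D.𝒲) D.𝒜 o₁J D.o₂).app (op j),
    fun j => ?_, ?_, ?_, ?_, ?_⟩
  · show IsOpenImmersion ((inlNat (D.prJ.op ⋙ 𝒱) (D.prJ.op ⋙ D.𝒲) D.𝒜 o₁J D.o₂).app (op j))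
    infer_instance
  · intro j j' f
    exact isAffineHom_glueFunctor_map (D.prJ.op ⋙ 𝒱) (D.prJ.op ⋙ D.𝒲) D.𝒜 o₁J D.o₂ ho₁J ho₂
      (fun g => h𝒱aff _) (fun g => D.isAffineHom_𝒜_map g) f
  · intro j
    haveI : CompactSpace ((D.prJ.op ⋙ 𝒱).obj j) := (h𝒱 _).1
    haveI : LocallyOfFiniteType (specULiftZIsTerminal.from ((D.prJ.op ⋙ 𝒱).obj j)) := (h𝒱 _).2
    haveI : LocallyOfFiniteType (specULiftZIsTerminal.from (D.𝒜.obj j)) := D.lft_𝒜 j
    exact ⟨compactSpace_glueFunctor_obj (D.prJ.op ⋙ 𝒱) (D.prJ.op ⋙ D.𝒲) D.𝒜 o₁J D.o₂ j,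
      locallyOfFiniteType_glueFunctor_obj (D.prJ.op ⋙ 𝒱) (D.prJ.op ⋙ D.𝒲) D.𝒜 o₁J D.o₂
        specULiftZIsTerminal j⟩
  · intro j j' h
    exact inlNat_equifibered (D.prJ.op ⋙ 𝒱) (D.prJ.op ⋙ D.𝒲) D.𝒜 o₁J D.o₂ ho₂ (homOfLE h).op
  · intro j
    show IsPullback _ (pushout.inl a D.b ≫ 𝟙 _) _ _
    rw [Category.comp_id]
    exact gluedCone_isPullback_inl (D.prJ.op ⋙ 𝒱) (D.prJ.op ⋙ D.𝒲) D.𝒜 o₁J D.o₂ cVJ D.cA cWJ a
      D.b haJ hbJ (op j) (HbJ (op j))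

end Setup

/-- **The key gluing step.** -/
theorem main {I : Type u} [Preorder I] [IsDirected I (fun a b => a ≤ b)] [Nonempty I]
    (𝒱 𝒲 : Iᵒᵖ ⥤ Scheme.{u}) (o₁ : 𝒲 ⟶ 𝒱) [∀ i, IsOpenImmersion (o₁.app i)]
    (ho₁ : ∀ {i j : Iᵒᵖ} (f : i ⟶ j), IsPullback (𝒲.map f) (o₁.app i) (o₁.app j) (𝒱.map f))
    (h𝒱aff : ∀ {i j : Iᵒᵖ} (f : i ⟶ j), IsAffineHom (𝒱.map f))
    (h𝒱 : ∀ i, CompactSpace (𝒱.obj i) ∧
      LocallyOfFiniteType (specULiftZIsTerminal.from (𝒱.obj i)))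
    [∀ {i j : Iᵒᵖ} (f : i ⟶ j), IsAffineHom (𝒲.map f)]
    [∀ i, CompactSpace (𝒲.obj i)] [∀ i, QuasiSeparatedSpace (𝒲.obj i)]
    [∀ i, LocallyOfFiniteType (specULiftZIsTerminal.from (𝒲.obj i))]
    (cV : Cone 𝒱) (cW : Cone 𝒲) (hcV : IsLimit cV) (hcW : IsLimit cW)
    (a : cW.pt ⟶ cV.pt) [IsOpenImmersion a]
    (ha : ∀ i, a ≫ cV.π.app i = cW.π.app i ≫ o₁.app i)
    (Ha : ∀ i, IsPullback (cW.π.app i) a (o₁.app i) (cV.π.app i))
    {U : Scheme.{u}} [IsAffine U] (b : cW.pt ⟶ U) [IsOpenImmersion b] :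
    HasExt 𝒱 cV (pushout.inl a b) := by
  haveI : CompactSpace cW.pt := Scheme.compactSpace_of_isLimit 𝒲 cW hcW
  haveI : QuasiSeparatedSpace cW.pt := b.isOpenEmbedding.quasiSeparatedSpace
  obtain ⟨⟨i₃⟩, K, hK, r, β, hcompat, hle, haff3, hcov3⟩ := exists_good_family 𝒲 cW hcW b
  let D : Setup.{u} :=
    { I := I, 𝒲 := 𝒲, cW := cW, hcW := hcW, U := U, b := b, i₃ := i₃, K := K, r := r, β := β,
      hcompat := hcompat, hle := hle, haff3 := haff3, hcov3 := hcov3 }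
  exact D.main_aux 𝒱 o₁ ho₁ h𝒱aff h𝒱 cV hcV a ha Ha

end Groth.Agent.Lib.NApxD3_helper7
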