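import Mathlib
import Groth.Agent.Lib.NApxD3_helper7

/-!
# Noetherian approximation, module D0: the key step for two opens (helper7)

If `S = V ∪ U` with `U` affine and `S` quasi-separated, every presentation of `V` (as a limit of
schemes of finite type over `ℤ` with affine transition maps) extends to a presentation of `S`.
-/

set_option autoImplicit false
set_option linter.style.haveILetI false
set_option linter.unusedSectionVars false
universe u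
open CategoryTheory CategoryTheory.Limits AlgebraicGeometry TopologicalSpace Opposite

namespace Groth.Agent.Lib.NApxD0_helper7
open Groth.Agent.Lib.GlueOpenPushoutH7 Groth.Agent.Lib.NApxD1_helper7
  Groth.Agent.Lib.NApxE0_helper7

/-- A scheme covered by two opens is the pushout of the two opens along their intersection. -/
theorem isPushout_of_isPullback_of_cover {X' X₁ X₂ X₁₂ : Scheme.{u}} (j₁ : X₁ ⟶ X')
    (j₂ : X₂ ⟶ X') [IsOpenImmersion j₁] [IsOpenImmersion j₂]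
    (hcov : ∀ x : X', x ∈ Set.range j₁ ∨ x ∈ Set.range j₂)
    (q₁ : X₁₂ ⟶ X₁) (q₂ : X₁₂ ⟶ X₂) (hq : IsPullback q₁ q₂ j₁ j₂) : IsPushout q₁ q₂ j₁ j₂ := by
  refine ⟨⟨hq.w⟩, ⟨PushoutCocone.IsColimit.mk _
    (fun s => (exists_glue j₁ j₂ hcov q₁ q₂ hq s.inl s.inr s.condition).choose)
    (fun s => (exists_glue j₁ j₂ hcov q₁ q₂ hq s.inl s.inr s.condition).choose_spec.1)
    (fun s => (exists_glue j₁ j₂ hcov q₁ q₂ hq s.inl s.inr s.condition).choose_spec.2) ?_⟩⟩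
  intro s m h1 h2
  apply (twoCover j₁ j₂ hcov).hom_ext
  rintro (_ | _)
  · show j₁ ≫ m = j₁ ≫ _
    rw [h1, (exists_glue j₁ j₂ hcov q₁ q₂ hq s.inl s.inr s.condition).choose_spec.1]
  · show j₂ ≫ m = j₂ ≫ _
    rw [h2, (exists_glue j₁ j₂ hcov q₁ q₂ hq s.inl s.inr s.condition).choose_spec.2]

section Bridge

variable {I : Type u} [Preorder I] (i₀ : I)

/-- the indices above `i₀` -/
abbrev Ige : Type u := {i : I // i₀ ≤ i}

instance [IsDirected I (fun a b => a ≤ b)] : IsDirected (Ige i₀) (fun a b => a ≤ b) :=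
  ⟨fun x y => by
    obtain ⟨c, hxc, hyc⟩ := exists_ge_ge x.1 y.1
    exact ⟨⟨c, x.2.trans hxc⟩, hxc, hyc⟩⟩

instance : Nonempty (Ige i₀) := ⟨⟨i₀, le_refl _⟩⟩

/-- the comparison functor to the over category -/
def Fov : (Ige i₀)ᵒᵖ ⥤ Over (op i₀) where
  obj x := Over.mk (homOfLE x.unop.2).op
  map {x y} f := Over.homMk (homOfLE (show y.unop.1 ≤ x.unop.1 from leOfHom f.unop)).op
    (Quiver.Hom.unop_inj (Subsingleton.elim _ _))
  map_id x := by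
    apply Over.OverMorphism.ext
    exact Quiver.Hom.unop_inj (Subsingleton.elim _ _)
  map_comp f g := by
    apply Over.OverMorphism.ext
    exact Quiver.Hom.unop_inj (Subsingleton.elim _ _)

instance [IsDirected I (fun a b => a ≤ b)] : (Fov i₀).Initial := by
  refine Functor.initial_of_exists_of_isCofiltered (Fov i₀) (fun d => ?_)
    (fun {d c} s s' => ⟨c, 𝟙 c, ?_⟩)
  · refine ⟨op ⟨d.left.unop, leOfHom d.hom.unop⟩, ⟨Over.homMk (𝟙 _) ?_⟩⟩
    exact Quiver.Hom.unop_inj (Subsingleton.elim _ _)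
  · apply Over.OverMorphism.ext
    exact Quiver.Hom.unop_inj (Subsingleton.elim _ _)

variable [IsDirected I (fun a b => a ≤ b)] [Nonempty I]
  (DV : Iᵒᵖ ⥤ Scheme.{u}) [∀ {i j : Iᵒᵖ} (f : i ⟶ j), IsAffineHom (DV.map f)]
  (Ω0 : (DV.obj (op i₀)).Opens)

/-- reindexing functor -/
def G : (Ige i₀)ᵒᵖ ⥤ Iᵒᵖ := Fov i₀ ⋙ Over.forget (op i₀)

instance : (G i₀).Initial := by
  unfold G
  infer_instance

/-- the restricted system -/
def 𝒱 : (Ige i₀)ᵒᵖ ⥤ Scheme.{u} := G i₀ ⋙ DV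

/-- the system of opens -/
noncomputable def 𝒲 : (Ige i₀)ᵒᵖ ⥤ Scheme.{u} := Fov i₀ ⋙ opensDiagram DV (op i₀) Ω0

/-- the inclusion of the system of opens -/
noncomputable def o₁ : 𝒲 i₀ DV Ω0 ⟶ 𝒱 i₀ DV where
  app x := (opensDiagramι DV (op i₀) Ω0).app ((Fov i₀).obj x)
  naturality _ _ f := (opensDiagramι DV (op i₀) Ω0).naturality ((Fov i₀).map f)

instance (x : (Ige i₀)ᵒᵖ) : IsOpenImmersion ((o₁ i₀ DV Ω0).app x) :=
  inferInstanceAs (IsOpenImmersion ((opensDiagramι DV (op i₀) Ω0).app ((Fov i₀).obj x)))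

instance {x y : (Ige i₀)ᵒᵖ} (f : x ⟶ y) : IsAffineHom ((𝒲 i₀ DV Ω0).map f) :=
  inferInstanceAs (IsAffineHom ((opensDiagram DV (op i₀) Ω0).map ((Fov i₀).map f)))

theorem ho₁ {x y : (Ige i₀)ᵒᵖ} (f : x ⟶ y) :
    IsPullback ((𝒲 i₀ DV Ω0).map f) ((o₁ i₀ DV Ω0).app x) ((o₁ i₀ DV Ω0).app y)
      ((𝒱 i₀ DV).map f) := by
  refine IsOpenImmersion.isPullback _ _ _ _ ((o₁ i₀ DV Ω0).naturality f).symm ?_
  show DV.map ((Fov i₀).map f).left ⁻¹ᵁ
      (DV.map ((Fov i₀).obj y).hom ⁻¹ᵁ Ω0).ι.opensRange =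
    (DV.map ((Fov i₀).obj x).hom ⁻¹ᵁ Ω0).ι.opensRange
  rw [Scheme.Opens.opensRange_ι, Scheme.Opens.opensRange_ι, ← Scheme.Hom.comp_preimage,
    ← DV.map_comp, Over.w]

variable (cV : Cone DV)

/-- the restricted cone -/
def cV₂ : Cone (𝒱 i₀ DV) := cV.whisker (G i₀)

/-- the cone of opens -/
noncomputable def cW : Cone (𝒲 i₀ DV Ω0) := (opensCone DV cV (op i₀) Ω0).whisker (Fov i₀)

/-- the inclusion of the limit of opens -/
noncomputable def a : (cW i₀ DV Ω0 cV).pt ⟶ (cV₂ i₀ DV cV).pt :=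
  (cV.π.app (op i₀) ⁻¹ᵁ Ω0).ι

instance : IsOpenImmersion (a i₀ DV Ω0 cV) :=
  inferInstanceAs (IsOpenImmersion (cV.π.app (op i₀) ⁻¹ᵁ Ω0).ι)

theorem ha (x : (Ige i₀)ᵒᵖ) :
    a i₀ DV Ω0 cV ≫ (cV₂ i₀ DV cV).π.app x =
      (cW i₀ DV Ω0 cV).π.app x ≫ (o₁ i₀ DV Ω0).app x :=
  (Scheme.Hom.resLE_comp_ι _ _).symm

theorem Ha (x : (Ige i₀)ᵒᵖ) :
    IsPullback ((cW i₀ DV Ω0 cV).π.app x) (a i₀ DV Ω0 cV) ((o₁ i₀ DV Ω0).app x)
      ((cV₂ i₀ DV cV).π.app x) := by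
  refine IsOpenImmersion.isPullback _ _ _ _ (ha i₀ DV Ω0 cV x) ?_
  show cV.π.app ((Fov i₀).obj x).left ⁻¹ᵁ (DV.map ((Fov i₀).obj x).hom ⁻¹ᵁ Ω0).ι.opensRange =
    (cV.π.app (op i₀) ⁻¹ᵁ Ω0).ι.opensRange
  rw [Scheme.Opens.opensRange_ι, Scheme.Opens.opensRange_ι, ← Scheme.Hom.comp_preimage, cV.w]

end Bridge

/-- **Key step**: extension of a presentation across an affine open. -/
theorem key' {I : Type u} [Preorder I] [IsDirected I (fun a b => a ≤ b)] [Nonempty I]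
    (DV : Iᵒᵖ ⥤ Scheme.{u}) (haff : ∀ (i i' : Iᵒᵖ) (a : i ⟶ i'), IsAffineHom (DV.map a))
    (hft : ∀ i, CompactSpace (DV.obj i) ∧
      LocallyOfFiniteType (specULiftZIsTerminal.from (DV.obj i)))
    (cV : Cone DV) (hcV : IsLimit cV) {S U : Scheme.{u}} (v : cV.pt ⟶ S) (u : U ⟶ S)
    [IsOpenImmersion v] [IsOpenImmersion u] [IsAffine U] [QuasiSeparatedSpace S]
    (hcov : ∀ x : S, x ∈ Set.range v ∨ x ∈ Set.range u) : HasExt DV cV v := by
  haveI : ∀ {i j : Iᵒᵖ} (f : i ⟶ j), IsAffineHom (DV.map f) := fun f => haff _ _ f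
  haveI : ∀ i, CompactSpace (DV.obj i) := fun i => (hft i).1
  haveI : ∀ i, LocallyOfFiniteType (specULiftZIsTerminal.from (DV.obj i)) := fun i => (hft i).2
  haveI : CompactSpace cV.pt := Scheme.compactSpace_of_isLimit DV cV hcV
  have hΩ : IsCompact ((v ⁻¹ᵁ u.opensRange : cV.pt.Opens) : Set cV.pt) := by
    rw [v.isOpenEmbedding.isInducing.isCompact_iff]
    have e : v '' ((v ⁻¹ᵁ u.opensRange : cV.pt.Opens) : Set cV.pt) =
        Set.range u ∩ Set.range v := by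
      show v '' (v ⁻¹' Set.range u) = _
      rw [Set.image_preimage_eq_inter_range]
    rw [e]
    exact QuasiSeparatedSpace.inter_isCompact _ _ u.isOpenEmbedding.isOpen_range
      (isCompact_range u.continuous) v.isOpenEmbedding.isOpen_range
      (isCompact_range v.continuous)
  obtain ⟨⟨i₀⟩, Ω0, hΩ0c, hΩ0⟩ := exists_preimage_eq DV cV hcV _ hΩ
  -- instances for the system of opens
  haveI hW1 : ∀ x, CompactSpace ((𝒲 i₀ DV Ω0).obj x) := fun x =>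
    isCompact_iff_compactSpace.mp (QuasiCompact.isCompact_preimage
      (f := DV.map ((Fov i₀).obj x).hom) _ Ω0.2 hΩ0c)
  haveI hW2 : ∀ x, LocallyOfFiniteType (specULiftZIsTerminal.from ((𝒲 i₀ DV Ω0).obj x)) :=
    fun x => by
      rw [specULiftZIsTerminal.hom_ext (specULiftZIsTerminal.from ((𝒲 i₀ DV Ω0).obj x))
        ((o₁ i₀ DV Ω0).app x ≫ specULiftZIsTerminal.from _)]
      haveI : LocallyOfFiniteType (specULiftZIsTerminal.from ((𝒱 i₀ DV).obj x)) :=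
        (hft _).2
      infer_instance
  haveI hW3 : ∀ x, QuasiSeparatedSpace ((𝒲 i₀ DV Ω0).obj x) := fun x => by
    haveI := isNoetherian_of_ftz ((𝒲 i₀ DV Ω0).obj x) (hW2 x)
    infer_instance
  have hcV₂ : IsLimit (cV₂ i₀ DV cV) :=
    (Functor.Initial.isLimitWhiskerEquiv (G i₀) cV).symm hcV
  have hcW : IsLimit (cW i₀ DV Ω0 cV) :=
    (Functor.Initial.isLimitWhiskerEquiv (Fov i₀) _).symm
      (isLimitOpensCone DV cV hcV (op i₀) Ω0)
  -- the map to `U`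
  have hsub : Set.range (a i₀ DV Ω0 cV ≫ v) ⊆ Set.range u := by
    rintro _ ⟨w, rfl⟩
    have hw : (a i₀ DV Ω0 cV) w ∈ cV.π.app (op i₀) ⁻¹ᵁ Ω0 := w.2
    rw [hΩ0] at hw
    rw [Scheme.Hom.comp_apply]
    exact hw
  let b : (cW i₀ DV Ω0 cV).pt ⟶ U := IsOpenImmersion.lift u (a i₀ DV Ω0 cV ≫ v) hsub
  have hb : b ≫ u = a i₀ DV Ω0 cV ≫ v := IsOpenImmersion.lift_fac _ _ _
  haveI hv' : @IsOpenImmersion (cV₂ i₀ DV cV).pt S v := ‹IsOpenImmersion v›
  haveI : IsOpenImmersion (b ≫ u) := by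
    rw [hb]
    exact @IsOpenImmersion.comp _ _ _ (a i₀ DV Ω0 cV) v inferInstance hv'
  haveI : IsOpenImmersion b := IsOpenImmersion.of_comp b u
  have hpb : IsPullback (a i₀ DV Ω0 cV) b v u := by
    refine (IsOpenImmersion.isPullback b (a i₀ DV Ω0 cV) u v hb.symm ?_).flip
    show v ⁻¹ᵁ u.opensRange = (cV.π.app (op i₀) ⁻¹ᵁ Ω0).ι.opensRange
    rw [Scheme.Opens.opensRange_ι, hΩ0]
  have hP : IsPushout (a i₀ DV Ω0 cV) b v u :=
    isPushout_of_isPullback_of_cover v u hcov _ _ hpb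
  have h1 : HasExt (𝒱 i₀ DV) (cV₂ i₀ DV cV) (pushout.inl (a i₀ DV Ω0 cV) b) :=
    Groth.Agent.Lib.NApxD3_helper7.main (𝒱 i₀ DV) (𝒲 i₀ DV Ω0) (o₁ i₀ DV Ω0)
      (fun f => ho₁ i₀ DV Ω0 f) (fun f => haff _ _ _) (fun x => hft _) (cV₂ i₀ DV cV)
      (cW i₀ DV Ω0 cV) hcV₂ hcW (a i₀ DV Ω0 cV) (ha i₀ DV Ω0 cV) (Ha i₀ DV Ω0 cV) b
  have h2 : HasExt (𝒱 i₀ DV) (cV₂ i₀ DV cV) v :=
    h1.of_iso hP.isoPushout.symm v (hP.inl_isoPushout_inv).symm
  exact HasExt.reindex (G i₀) h2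

/-- **Key step**, morphism form. -/
theorem key {V S U : Scheme.{u}} (v : V ⟶ S) (u : U ⟶ S) [IsOpenImmersion v]
    [IsOpenImmersion u] [IsAffine U] [QuasiSeparatedSpace S]
    (hcov : ∀ x : S, x ∈ Set.range v ∨ x ∈ Set.range u) : ExtHom v := by
  intro I _ _ _ DV haff hft cV hcV e
  refine key' DV haff hft cV hcV (e.hom ≫ v) u ?_
  intro x
  rcases hcov x with ⟨y, hy⟩ | h
  · left
    refine ⟨e.inv y, ?_⟩
    rw [Scheme.Hom.comp_apply, ← Scheme.Hom.comp_apply e.inv, Iso.inv_hom_id]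
    exact hy
  · exact Or.inr h

end Groth.Agent.Lib.NApxD0_helper7
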