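import Mathlib
import Groth.Agent.Lib.NApxD0_helper7

/-!
# Noetherian approximation, module E: the approximation theorems (helper7)

* `extHom_ι`: for a quasi-compact quasi-separated scheme `S` and an open `V ⊆ S`, every
  presentation of `V` as a limit of schemes of finite type over `ℤ` extends to `S`.
* `approx_rel`: approximation relative to a quasi-compact open.
* `approx_abs`: every qcqs scheme is a limit of schemes of finite type over `ℤ`.
-/

set_option autoImplicit false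
set_option linter.style.haveILetI false
universe u
open CategoryTheory CategoryTheory.Limits AlgebraicGeometry TopologicalSpace Opposite

namespace Groth.Agent.Lib.NApxE_helper7
open Groth.Agent.Lib.NApxE0_helper7 Groth.Agent.Lib.NApxD0_helper7

theorem isIso_homOfLE {S : Scheme.{u}} {V V' : S.Opens} (h : V = V') :
    IsIso (S.homOfLE h.le) := by
  subst h
  rw [Scheme.homOfLE_rfl]
  infer_instance

theorem mem_range_homOfLE {S : Scheme.{u}} {V V' : S.Opens} (h : V ≤ V') (x : V'.toScheme)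
    (hx : x.1 ∈ V) : x ∈ Set.range (S.homOfLE h) :=
  ⟨⟨x.1, hx⟩, Scheme.homOfLE_apply' h x.1 hx⟩

theorem extHom_homOfLE (S : Scheme.{u}) [QuasiSeparatedSpace S] (V T : S.Opens)
    (hT : IsCompact (T : Set S)) :
    ∀ (T' : S.Opens) (h : V ≤ T'), T' = V ⊔ T → ExtHom (S.homOfLE h) := by
  refine compact_open_induction_on
    (P := fun T => ∀ (T' : S.Opens) (h : V ≤ T'), T' = V ⊔ T → ExtHom (S.homOfLE h)) T hT ?_ ?_
  · intro T' h hT'
    haveI : IsIso (S.homOfLE h) := isIso_homOfLE (hT'.trans (sup_bot_eq V)).symm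
    exact ExtHom.of_isIso _
  · intro T _ U ih T' h hT'
    subst hT'
    have h1 : V ⊔ T ≤ V ⊔ (T ⊔ U.1) := sup_le_sup_left le_sup_left V
    have h2 : (U.1 : S.Opens) ≤ V ⊔ (T ⊔ U.1) := le_sup_of_le_right le_sup_right
    have e : S.homOfLE h = S.homOfLE (le_sup_left : V ≤ V ⊔ T) ≫ S.homOfLE h1 :=
      (S.homOfLE_homOfLE _ _).symm
    rw [e]
    refine (ih _ _ rfl).comp ?_
    haveI : IsAffine (U.1 : S.Opens).toScheme := U.2
    haveI : QuasiSeparatedSpace ((V ⊔ (T ⊔ U.1) : S.Opens) : Scheme.{u}) :=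
      (V ⊔ (T ⊔ U.1)).ι.isOpenEmbedding.quasiSeparatedSpace
    refine key (S.homOfLE h1) (S.homOfLE h2) ?_
    intro x
    rcases (x.2 : x.1 ∈ (V : Set S) ∪ ((T : Set S) ∪ (U.1 : Set S))) with hV | hT | hU
    · exact Or.inl (mem_range_homOfLE h1 x (Or.inl hV))
    · exact Or.inl (mem_range_homOfLE h1 x (Or.inr hT))
    · exact Or.inr (mem_range_homOfLE h2 x hU)

/-- Every presentation of an open of a qcqs scheme extends to the whole scheme. -/
theorem extHom_ι (S : Scheme.{u}) [CompactSpace S] [QuasiSeparatedSpace S] (V : S.Opens) :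
    ExtHom V.ι := by
  have H := extHom_homOfLE S V ⊤ isCompact_univ ⊤ le_top (sup_top_eq V).symm
  refine H.of_iso (Iso.refl _) S.topIso V.ι ?_
  rw [Iso.refl_hom, Category.id_comp, Scheme.topIso_hom, Scheme.homOfLE_ι]

theorem opensRange_eq_of_isPullback {P X Y Z : Scheme.{u}} {fst : P ⟶ X} {snd : P ⟶ Y}
    {f : X ⟶ Z} {g : Y ⟶ Z} [IsOpenImmersion f] [IsOpenImmersion snd]
    (h : IsPullback fst snd f g) : g ⁻¹ᵁ f.opensRange = snd.opensRange := by
  apply SetLike.coe_injective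
  ext y
  constructor
  · rintro ⟨x, hx⟩
    obtain ⟨z, -, hz⟩ := Scheme.exists_preimage_of_isPullback h x y hx
    exact ⟨z, hz⟩
  · rintro ⟨z, rfl⟩
    exact ⟨fst z, by rw [← Scheme.Hom.comp_apply, h.w, Scheme.Hom.comp_apply]⟩

/-- **Noetherian approximation relative to a quasi-compact open.** -/
theorem approx_rel (S : Scheme.{u}) [CompactSpace S] [QuasiSeparatedSpace S]
    (V : S.Opens) (I : Type u) [Preorder I]
    [IsDirected I (fun a b => a ≤ b)] [Nonempty I]
    (DV : Iᵒᵖ ⥤ Scheme.{u}) (haff : ∀ (i i' : Iᵒᵖ) (a : i ⟶ i'), IsAffineHom (DV.map a))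
    (hft : ∀ i, CompactSpace (DV.obj i) ∧
      LocallyOfFiniteType (Limits.IsTerminal.from specULiftZIsTerminal (DV.obj i)))
    (cV : Limits.Cone DV) (hcV : Limits.IsLimit cV) (eV : cV.pt ≅ (V : Scheme.{u})) :
    ∃ (J : Type u) (_ : Preorder J) (_ : IsDirected J (fun a b => a ≤ b)) (_ : Nonempty J)
      (DS : Jᵒᵖ ⥤ Scheme.{u}) (cS : Limits.Cone DS) (_ : Limits.IsLimit cS) (eS : cS.pt ≅ S)
      (α : J →o I) (V' : ∀ j : J, (DS.obj (op j)).Opens)
      (φ : ∀ j : J, (V' j : Scheme.{u}) ≅ DV.obj (op (α j))),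
      (∀ (j j' : Jᵒᵖ) (a : j ⟶ j'), IsAffineHom (DS.map a)) ∧
      (∀ j, CompactSpace (DS.obj j) ∧
        LocallyOfFiniteType (Limits.IsTerminal.from specULiftZIsTerminal (DS.obj j))) ∧
      (∀ (j j' : J) (h : j' ≤ j), (DS.map (homOfLE h).op) ⁻¹ᵁ (V' j') = V' j) ∧
      (∀ j : J, (eS.inv ≫ cS.π.app (op j)) ⁻¹ᵁ (V' j) = V) ∧
      (∀ j : J, ∃ ρ : (V : Scheme.{u}) ⟶ (V' j : Scheme.{u}),
        ρ ≫ (V' j).ι = V.ι ≫ eS.inv ≫ cS.π.app (op j) ∧
        ρ ≫ (φ j).hom = eV.inv ≫ cV.π.app (op (α j))) ∧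
      (∀ (j j' : J) (h : j' ≤ j), ∃ τ : (V' j : Scheme.{u}) ⟶ (V' j' : Scheme.{u}),
        τ ≫ (V' j').ι = (V' j).ι ≫ DS.map (homOfLE h).op ∧
        (φ j).hom ≫ DV.map (homOfLE (α.mono h)).op = τ ≫ (φ j').hom) := by
  obtain ⟨J, iP, iD, iN, DS, cS, hcS, eS, α, ι, h1, h2, h3, h4, h5⟩ :=
    extHom_ι S V I DV haff hft cV hcV eV
  haveI := h1
  refine ⟨J, iP, iD, iN, DS, cS, hcS, eS, α, fun j => (ι j).opensRange,
    fun j => (ι j).isoOpensRange.symm, h2, h3, ?_, ?_, ?_, ?_⟩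
  · intro j j' h
    exact opensRange_eq_of_isPullback (h4 j j' h)
  · intro j
    apply SetLike.coe_injective
    ext x
    constructor
    · rintro ⟨y, hy⟩
      obtain ⟨z, -, hz⟩ := Scheme.exists_preimage_of_isPullback (h5 j) y (eS.inv x)
        (by rw [hy, Scheme.Hom.comp_apply])
      have hz' : x = V.ι (eV.hom z) := by
        have h6 := congrArg (fun t => eS.hom t) hz
        simp only [Scheme.Hom.comp_apply] at h6
        rw [← Scheme.Hom.comp_apply eS.inv, ← Scheme.Hom.comp_apply eS.inv, Iso.inv_hom_id] at h6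
        exact h6.symm
      rw [hz']
      exact (eV.hom z).2
    · intro hx
      refine ⟨cV.π.app (op (α j)) (eV.inv ⟨x, hx⟩), ?_⟩
      rw [← Scheme.Hom.comp_apply, (h5 j).w]
      simp only [Scheme.Hom.comp_apply]
      rw [← Scheme.Hom.comp_apply eV.inv, Iso.inv_hom_id]
      rfl
  · intro j
    refine ⟨eV.inv ≫ cV.π.app (op (α j)) ≫ (ι j).isoOpensRange.hom, ?_, ?_⟩
    · rw [Category.assoc, Category.assoc, Scheme.Hom.isoOpensRange_hom_ι, (h5 j).w]
      simp only [Category.assoc, Iso.inv_hom_id_assoc]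
    · rw [Iso.symm_hom, Category.assoc, Category.assoc, Iso.hom_inv_id, Category.comp_id]
  · intro j j' h
    refine ⟨(ι j).isoOpensRange.inv ≫ DV.map (homOfLE (α.mono h)).op ≫
      (ι j').isoOpensRange.hom, ?_, ?_⟩
    · rw [Category.assoc, Category.assoc, Scheme.Hom.isoOpensRange_hom_ι, (h4 j j' h).w,
        ← Category.assoc, Scheme.Hom.isoOpensRange_inv_comp]
    · rw [Iso.symm_hom, Iso.symm_hom, Category.assoc, Category.assoc, Iso.hom_inv_id,
        Category.comp_id]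

/-- the constant cone on the one-point index set -/
def punitCone (X : Scheme.{u}) : Cone ((Functor.const (PUnit.{u + 1})ᵒᵖ).obj X) where
  pt := X
  π := 𝟙 _

/-- it is a limit cone -/
def punitConeIsLimit (X : Scheme.{u}) : IsLimit (punitCone X) where
  lift s := s.π.app (op PUnit.unit)
  fac s j := by
    obtain ⟨⟨⟩⟩ := j
    exact Category.comp_id _
  uniq s m hm := by
    rw [← hm (op PUnit.unit)]
    exact (Category.comp_id _).symm

/-- **Absolute Noetherian approximation.** -/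
theorem approx_abs (S : Scheme.{u}) [CompactSpace S] [QuasiSeparatedSpace S] :
    ∃ (I : Type u) (_ : Preorder I) (_ : IsDirected I (fun a b => a ≤ b)) (_ : Nonempty I)
      (D : Iᵒᵖ ⥤ Scheme.{u}) (c : Limits.Cone D) (_ : Limits.IsLimit c),
      (∀ (i j : Iᵒᵖ) (f : i ⟶ j), IsAffineHom (D.map f)) ∧
      (∀ i, CompactSpace (D.obj i) ∧
        LocallyOfFiniteType (Limits.IsTerminal.from specULiftZIsTerminal (D.obj i))) ∧
      Nonempty (c.pt ≅ S) := by
  let X₀ : Scheme.{u} := ((⊥ : S.Opens) : Scheme.{u})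
  haveI : IsEmpty X₀ := ⟨fun x => x.2⟩
  obtain ⟨J, iP, iD, iN, DS, cS, hcS, eS, α, ι, h1, h2, h3, h4, h5⟩ :=
    extHom_ι S ⊥ PUnit.{u + 1} ((Functor.const _).obj X₀)
      (fun i i' a => by
        show IsAffineHom (𝟙 X₀)
        infer_instance)
      (fun i => ⟨by
        show CompactSpace X₀
        infer_instance, by
        show LocallyOfFiniteType (specULiftZIsTerminal.from X₀)
        infer_instance⟩)
      (punitCone X₀) (punitConeIsLimit X₀) (Iso.refl _)
  exact ⟨J, iP, iD, iN, DS, cS, hcS, h2, h3, ⟨eS⟩⟩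

end Groth.Agent.Lib.NApxE_helper7
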