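import Mathlib
import Groth.Agent.Lib.NApxE_helper7
import Groth.Agent.Lib.LimSep_helper7

/-!
# Noetherian approximation, module F: immersions into `X_i × S` (helper7)

Let `X = lim X_k` (cofiltered, affine transitions, qcqs objects) and `f : X ⟶ S` locally of finite
type.  Then for a large enough index `k` the morphism `X ⟶ X_k ×_T S` is, locally on finitely many
quasi-compact opens covering the image, a closed immersion.
-/

set_option autoImplicit false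
set_option linter.style.haveILetI false
universe u
open CategoryTheory CategoryTheory.Limits AlgebraicGeometry TopologicalSpace Opposite

namespace Groth.Agent.Lib.NApxF_helper7

section A1

variable {K : Type u} [SmallCategory K] [IsCofiltered K] (D : K ⥤ Scheme.{u})
  [∀ {i j : K} (f : i ⟶ j), IsAffineHom (D.map f)] (c : Cone D) (hc : IsLimit c)
  {S : Scheme.{u}} (f : c.pt ⟶ S) [LocallyOfFiniteType f]

include hc in
theorem exists_generation (k₀ : K) (U₀ : (D.obj k₀).Opens) (hU₀ : IsAffineOpen U₀)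
    (V : S.Opens) (hV : IsAffineOpen V) (hUV : c.π.app k₀ ⁻¹ᵁ U₀ ≤ f ⁻¹ᵁ V) :
    ∃ j₁ : Over k₀, ∀ (j : Over k₀) (_ : j ⟶ j₁),
      ((opensCone D c k₀ U₀).π.app j).appTop.hom.range ⊔
        (f.resLE V (c.π.app k₀ ⁻¹ᵁ U₀) hUV).appTop.hom.range = ⊤ := by
  classical
  haveI hEaff : ∀ j, IsAffine ((opensDiagram D k₀ U₀).obj j) := fun j =>
    hU₀.preimage (D.map j.hom)
  have hcE := isLimitOpensCone D c hc k₀ U₀
  haveI := isAffineHom_π_app D c hc k₀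
  have hΩ : IsAffineOpen (c.π.app k₀ ⁻¹ᵁ U₀) := hU₀.preimage _
  haveI : IsAffine ((c.π.app k₀ ⁻¹ᵁ U₀ : c.pt.Opens) : Scheme.{u}) := hΩ
  haveI : IsAffine (V : Scheme.{u}) := hV
  have hft : (f.resLE V (c.π.app k₀ ⁻¹ᵁ U₀) hUV).appTop.hom.FiniteType :=
    (HasRingHomProperty.iff_of_isAffine (P := @LocallyOfFiniteType)).mp inferInstance
  letI := (f.resLE V (c.π.app k₀ ⁻¹ᵁ U₀) hUV).appTop.hom.toAlgebra
  obtain ⟨s, hs⟩ := (show Algebra.FiniteType Γ((V : Scheme.{u}), ⊤)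
    Γ(((c.π.app k₀ ⁻¹ᵁ U₀ : c.pt.Opens) : Scheme.{u}), ⊤) from hft).out
  have h2 : ∀ t : Γ(((c.π.app k₀ ⁻¹ᵁ U₀ : c.pt.Opens) : Scheme.{u}), ⊤),
      ∃ (j : Over k₀) (w : Γ((opensDiagram D k₀ U₀).obj j, ⊤)),
        t = ((opensCone D c k₀ U₀).π.app j).appTop w := fun t =>
    exists_appTop_π_eq_of_isLimit (opensDiagram D k₀ U₀) (opensCone D c k₀ U₀) hcE t
  choose jt wt hwt using h2
  obtain ⟨j₁, hj₁⟩ := IsCofiltered.inf_objs_exists (s.image jt)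
  refine ⟨j₁, fun j g => ?_⟩
  rw [eq_top_iff]
  -- the subalgebra with carrier the sup of the ranges
  let A' : Subalgebra Γ((V : Scheme.{u}), ⊤)
      Γ(((c.π.app k₀ ⁻¹ᵁ U₀ : c.pt.Opens) : Scheme.{u}), ⊤) :=
    { (((opensCone D c k₀ U₀).π.app j).appTop.hom.range ⊔
        (f.resLE V (c.π.app k₀ ⁻¹ᵁ U₀) hUV).appTop.hom.range).toSubsemiring with
      algebraMap_mem' := fun r => (le_sup_right : _ ≤ ((opensCone D c k₀ U₀).π.app j).appTop.hom.range ⊔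
        (f.resLE V (c.π.app k₀ ⁻¹ᵁ U₀) hUV).appTop.hom.range) ⟨r, rfl⟩ }
  have hle : Algebra.adjoin Γ((V : Scheme.{u}), ⊤) (↑s : Set
      Γ(((c.π.app k₀ ⁻¹ᵁ U₀ : c.pt.Opens) : Scheme.{u}), ⊤)) ≤ A' := by
    refine Algebra.adjoin_le fun t ht => ?_
    have g' : j ⟶ jt t := g ≫ (hj₁ (Finset.mem_image_of_mem jt (Finset.mem_coe.mp ht))).some
    refine (le_sup_left : ((opensCone D c k₀ U₀).π.app j).appTop.hom.range ≤ _)
      ⟨((opensDiagram D k₀ U₀).map g').appTop.hom (wt t), ?_⟩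
    refine Eq.trans ?_ (hwt t).symm
    have h3 : ((opensCone D c k₀ U₀).π.app j ≫ (opensDiagram D k₀ U₀).map g').appTop =
        ((opensCone D c k₀ U₀).π.app (jt t)).appTop := by rw [(opensCone D c k₀ U₀).w]
    rw [Scheme.Hom.comp_appTop] at h3
    exact ConcreteCategory.congr_hom h3 (wt t)
  intro x _
  have hx : x ∈ A' := hle (by rw [hs]; trivial)
  exact hx

end A1

section A2

open Groth.Agent.Lib.LimSepH7

theorem closedImm_restrict_of_factor {X P E : Scheme.{u}} (j : X ⟶ P) (ε : E ⟶ P)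
    [IsOpenImmersion ε] (Ω : X.Opens) (δ : (Ω : Scheme.{u}) ⟶ E) [IsClosedImmersion δ]
    (hδε : δ ≫ ε = Ω.ι ≫ j) (hpre : j ⁻¹ᵁ ε.opensRange = Ω) :
    IsClosedImmersion (j ∣_ ε.opensRange) := by
  have hcomm : (X.isoOfEq hpre).hom ≫ δ = (j ∣_ ε.opensRange) ≫ ε.isoOpensRange.symm.hom := by
    rw [← cancel_mono ε, Category.assoc, Category.assoc, Iso.symm_hom,
      Scheme.Hom.isoOpensRange_inv_comp, morphismRestrict_ι, hδε, ← Category.assoc,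
      Scheme.isoOfEq_hom_ι]
  exact (MorphismProperty.arrow_mk_iso_iff @IsClosedImmersion
    (Arrow.isoMk (X.isoOfEq hpre) ε.isoOpensRange.symm hcomm)).mpr ‹IsClosedImmersion δ›

variable {Xk S T X : Scheme.{u}} [IsAffine T] (tD : Xk ⟶ T) (tS : S ⟶ T) (π : X ⟶ Xk) (f : X ⟶ S)
  (h : π ≫ tD = f ≫ tS) (U : Xk.Opens) (hU : IsAffineOpen U) (V : S.Opens) (hV : IsAffineOpen V)
  (Ω : X.Opens) (hΩ : IsAffineOpen Ω) (e₁ : Ω ≤ π ⁻¹ᵁ U) (e₁' : π ⁻¹ᵁ U ≤ Ω) (e₂ : Ω ≤ f ⁻¹ᵁ V)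
  (hgen : (π.resLE U Ω e₁).appTop.hom.range ⊔ (f.resLE V Ω e₂).appTop.hom.range = ⊤)

include hU hV hΩ e₁' hgen in
theorem piece : ∃ O : (pullback tD tS).Opens, pullback.lift π f h ⁻¹ᵁ O = Ω ∧
    IsClosedImmersion (pullback.lift π f h ∣_ O) ∧ IsCompact (O : Set ↥(pullback tD tS)) := by
  haveI : IsAffine (U : Scheme.{u}) := hU
  haveI : IsAffine (V : Scheme.{u}) := hV
  haveI : IsAffine (Ω : Scheme.{u}) := hΩ
  let ε : pullback (U.ι ≫ tD) (V.ι ≫ tS) ⟶ pullback tD tS :=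
    pullback.map (U.ι ≫ tD) (V.ι ≫ tS) tD tS U.ι V.ι (𝟙 T) (by rw [Category.comp_id])
      (by rw [Category.comp_id])
  have hw : π.resLE U Ω e₁ ≫ U.ι ≫ tD = f.resLE V Ω e₂ ≫ V.ι ≫ tS := by
    rw [← Category.assoc, Scheme.Hom.resLE_comp_ι, ← Category.assoc, Scheme.Hom.resLE_comp_ι,
      Category.assoc, Category.assoc, h]
  let δ : (Ω : Scheme.{u}) ⟶ pullback (U.ι ≫ tD) (V.ι ≫ tS) :=
    pullback.lift (π.resLE U Ω e₁) (f.resLE V Ω e₂) hw
  have hδε : δ ≫ ε = Ω.ι ≫ pullback.lift π f h := by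
    apply pullback.hom_ext
    · rw [Category.assoc, pullback.lift_fst, ← Category.assoc, pullback.lift_fst,
        Scheme.Hom.resLE_comp_ι, Category.assoc, pullback.lift_fst]
    · rw [Category.assoc, pullback.lift_snd, ← Category.assoc, pullback.lift_snd,
        Scheme.Hom.resLE_comp_ι, Category.assoc, pullback.lift_snd]
  have hsurj : Function.Surjective δ.appTop := by
    have h1 := range_eq_sup (IsPullback.of_hasPullback (U.ι ≫ tD) (V.ι ≫ tS)) δ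
    rw [pullback.lift_fst, pullback.lift_snd, hgen] at h1
    exact RingHom.range_eq_top.mp h1
  haveI : IsClosedImmersion δ := IsClosedImmersion.of_surjective_of_isAffine δ hsurj
  have hpre : pullback.lift π f h ⁻¹ᵁ ε.opensRange = Ω := by
    apply SetLike.coe_injective
    ext x
    show pullback.lift π f h x ∈ Set.range ε ↔ x ∈ Ω
    rw [Scheme.Pullback.range_map]
    simp only [Set.mem_inter_iff, Set.mem_preimage, ← Scheme.Hom.comp_apply, pullback.lift_fst,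
      pullback.lift_snd]
    rw [Scheme.Opens.range_ι, Scheme.Opens.range_ι]
    exact ⟨fun hx => e₁' hx.1, fun hx => ⟨e₁ hx, e₂ hx⟩⟩
  refine ⟨ε.opensRange, hpre, ?_, ?_⟩
  · exact closedImm_restrict_of_factor (pullback.lift π f h) ε Ω δ hδε hpre
  · rw [Scheme.Hom.coe_opensRange]
    exact isCompact_range ε.continuous

end A2

section Assembly

variable {K : Type u} [SmallCategory K] [IsCofiltered K] (D : K ⥤ Scheme.{u})
  [∀ {i j : K} (f : i ⟶ j), IsAffineHom (D.map f)] [∀ k, CompactSpace (D.obj k)]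
  [∀ k, QuasiSeparatedSpace (D.obj k)] (c : Cone D) (hc : IsLimit c)
  {S : Scheme.{u}} (f : c.pt ⟶ S) [LocallyOfFiniteType f] {T : Scheme.{u}} [IsAffine T]
  (tD : ∀ k, D.obj k ⟶ T) (tS : S ⟶ T) (h : ∀ k, c.π.app k ≫ tD k = f ≫ tS)

include hc in
theorem exists_pieces :
    ∃ (k : K) (ι : Type u) (_ : Finite ι) (O : ι → (pullback (tD k) tS).Opens),
      (∀ a, IsCompact (O a : Set ↥(pullback (tD k) tS))) ∧
      (∀ a, IsClosedImmersion (pullback.lift (c.π.app k) f (h k) ∣_ O a)) ∧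
      (∀ x : c.pt, ∃ a, pullback.lift (c.π.app k) f (h k) x ∈ O a) := by
  classical
  haveI : CompactSpace c.pt := Scheme.compactSpace_of_isLimit D c hc
  -- local data
  have hloc : ∀ x : c.pt, ∃ (V : S.Opens) (k₀ : K) (U₀ : (D.obj k₀).Opens),
      IsAffineOpen V ∧ IsAffineOpen U₀ ∧ x ∈ c.π.app k₀ ⁻¹ᵁ U₀ ∧
      c.π.app k₀ ⁻¹ᵁ U₀ ≤ f ⁻¹ᵁ V := by
    intro x
    obtain ⟨_, ⟨(V : S.Opens), hV, rfl⟩, hxV, -⟩ :=
      S.isBasis_affineOpens.exists_subset_of_mem_open (Set.mem_univ (f x)) isOpen_univ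
    obtain ⟨_, ⟨(Ω : c.pt.Opens), hΩ, rfl⟩, hxΩ, hΩV⟩ :=
      c.pt.isBasis_affineOpens.exists_subset_of_mem_open (show x ∈ ((f ⁻¹ᵁ V : c.pt.Opens) :
        Set c.pt) from hxV) (f ⁻¹ᵁ V).2
    obtain ⟨k₀, U₀, hU₀, hU₀Ω⟩ := exists_isAffineOpen_preimage_eq D c hc Ω hΩ
    exact ⟨V, k₀, U₀, hV, hU₀, hU₀Ω ▸ hxΩ, hU₀Ω ▸ hΩV⟩
  choose V k₀ U₀ hV hU₀ hx hUV using hloc
  have hgen := fun x => exists_generation D c hc f (k₀ x) (U₀ x) (hU₀ x) (V x) (hV x) (hUV x)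
  choose j₁ hj₁ using hgen
  let Ωx : c.pt → c.pt.Opens := fun x => c.π.app (k₀ x) ⁻¹ᵁ U₀ x
  have hxΩ : ∀ x, x ∈ Ωx x := hx
  obtain ⟨t, ht⟩ := CompactSpace.elim_nhds_subcover (X := ↥c.pt)
    (fun x => ((Ωx x : c.pt.Opens) : Set c.pt))
    (fun x => (Ωx x).2.mem_nhds (hxΩ x))
  obtain ⟨k, hk⟩ := IsCofiltered.inf_objs_exists (t.image fun x => (j₁ x).left)
  have g : ∀ x : {x // x ∈ t}, k ⟶ (j₁ x.1).left := fun x =>
    (hk (Finset.mem_image_of_mem (fun x => (j₁ x).left) x.2)).some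
  haveI := isAffineHom_π_app D c hc k
  have hp : ∀ x : {x // x ∈ t}, ∃ O : (pullback (tD k) tS).Opens,
      pullback.lift (c.π.app k) f (h k) ⁻¹ᵁ O = c.π.app (k₀ x.1) ⁻¹ᵁ U₀ x.1 ∧
      IsClosedImmersion (pullback.lift (c.π.app k) f (h k) ∣_ O) ∧
      IsCompact (O : Set ↥(pullback (tD k) tS)) := by
    intro x
    have e : c.π.app (k₀ x.1) ⁻¹ᵁ U₀ x.1 =
        c.π.app k ⁻¹ᵁ (D.map (g x ≫ (j₁ x.1).hom) ⁻¹ᵁ U₀ x.1) := by
      rw [← Scheme.Hom.comp_preimage, c.w]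
    refine piece (tD k) tS (c.π.app k) f (h k) (D.map (g x ≫ (j₁ x.1).hom) ⁻¹ᵁ U₀ x.1)
      ((hU₀ x.1).preimage _) (V x.1) (hV x.1) (c.π.app (k₀ x.1) ⁻¹ᵁ U₀ x.1)
      (haveI := isAffineHom_π_app D c hc (k₀ x.1); (hU₀ x.1).preimage _) e.le e.ge (hUV x.1) ?_
    exact hj₁ x.1 (Over.mk (g x ≫ (j₁ x.1).hom)) (Over.homMk (g x) rfl)
  choose O hO1 hO2 hO3 using hp
  refine ⟨k, {x // x ∈ t}, inferInstance, O, hO3, hO2, fun x => ?_⟩
  have hxt : x ∈ ⋃ y ∈ t, ((Ωx y : c.pt.Opens) : Set c.pt) := by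
    rw [ht]
    trivial
  obtain ⟨y, hy, hxy⟩ := Set.mem_iUnion₂.mp hxt
  refine ⟨⟨y, hy⟩, ?_⟩
  have : x ∈ pullback.lift (c.π.app k) f (h k) ⁻¹ᵁ O ⟨y, hy⟩ := by
    rw [hO1]
    exact hxy
  exact this

end Assembly

end Groth.Agent.Lib.NApxF_helper7
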