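import Mathlib
import Groth.Agent.Lib.NApxF_helper7
import Groth.Agent.Lib.IdealFT2_helper7
import Groth.Agent.Lib.LimSep2_helper7

/-!
# Noetherian approximation, module G: embedding into finitely presented schemes (helper7)

* `immersion_fp`: `X` qcqs, `f : X ⟶ S` locally of finite type: `X` immerses into a scheme of
  finite presentation over `S`.
* `closedImmersion_fp`: if moreover `S` is quasi-separated, the immersion can be taken closed.
* `closedImmersion_fp_separated`: `S` qcqs, `f` separated of finite type: the ambient scheme can be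
  taken separated over `S`.
-/

set_option autoImplicit false
set_option linter.style.haveILetI false
universe u
open CategoryTheory CategoryTheory.Limits AlgebraicGeometry TopologicalSpace Opposite

namespace Groth.Agent.Lib.NApxG_helper7
open Groth.Agent.Lib.NApxE_helper7 Groth.Agent.Lib.NApxF_helper7 Groth.Agent.Lib.NApxD1_helper7

instance : IsNoetherianRing (ULift.{u} ℤ) :=
  isNoetherianRing_of_ringEquiv ℤ (ULift.ringEquiv (R := ℤ)).symm

instance : MorphismProperty.RespectsRight @IsImmersion @IsOpenImmersion where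
  postcomp i hi f hf := by
    haveI := hi
    haveI := hf
    exact inferInstanceAs (IsImmersion (f ≫ i))

instance : MorphismProperty.HasOfPostcompProperty @IsImmersion @IsOpenImmersion where
  of_postcomp f g _ hfg := by
    haveI := hfg
    exact IsImmersion.of_comp f g

theorem lfp_of_ftz (X : Scheme.{u})
    [LocallyOfFiniteType (specULiftZIsTerminal.from X)] :
    LocallyOfFinitePresentation (specULiftZIsTerminal.from X) :=
  inferInstance

/-- Common set-up: the pieces. -/
theorem exists_setup {X S : Scheme.{u}} (f : X ⟶ S) [LocallyOfFiniteType f]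
    [CompactSpace X] [QuasiSeparatedSpace X] :
    ∃ (Xk : Scheme.{u}) (_ : CompactSpace Xk) (_ : QuasiSeparatedSpace Xk)
      (_ : LocallyOfFiniteType (specULiftZIsTerminal.from Xk))
      (j₀ : X ⟶ pullback (specULiftZIsTerminal.from Xk) (specULiftZIsTerminal.from S))
      (ι : Type u) (_ : Finite ι)
      (O : ι → (pullback (specULiftZIsTerminal.from Xk) (specULiftZIsTerminal.from S)).Opens),
      j₀ ≫ pullback.snd _ _ = f ∧
      (∀ a, IsCompact (O a : Set ↥(pullback (specULiftZIsTerminal.from Xk)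
        (specULiftZIsTerminal.from S)))) ∧
      (∀ a, IsClosedImmersion (j₀ ∣_ O a)) ∧ (∀ x : X, ∃ a, j₀ x ∈ O a) := by
  obtain ⟨I, iP, iD, iN, D, c, hc, haff, hft, ⟨e⟩⟩ := approx_abs X
  haveI : ∀ {i j : Iᵒᵖ} (g : i ⟶ j), IsAffineHom (D.map g) := fun g => haff _ _ g
  haveI : ∀ k, CompactSpace (D.obj k) := fun k => (hft k).1
  haveI : ∀ k, LocallyOfFiniteType (specULiftZIsTerminal.from (D.obj k)) := fun k => (hft k).2
  haveI : ∀ k, QuasiSeparatedSpace (D.obj k) := fun k => by
    haveI := isNoetherian_of_ftz (D.obj k) (hft k).2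
    infer_instance
  haveI : LocallyOfFiniteType (e.hom ≫ f) := inferInstance
  obtain ⟨k, ι, hι, O, hOc, hOci, hOcov⟩ := exists_pieces D c hc (e.hom ≫ f)
    (fun k => specULiftZIsTerminal.from (D.obj k)) (specULiftZIsTerminal.from S)
    (fun k => specULiftZIsTerminal.hom_ext _ _)
  refine ⟨D.obj k, inferInstance, inferInstance, inferInstance,
    e.inv ≫ pullback.lift (c.π.app k) (e.hom ≫ f) (specULiftZIsTerminal.hom_ext _ _), ι, hι, O,
    ?_, hOc, fun a => ?_, fun x => ?_⟩
  · rw [Category.assoc, pullback.lift_snd, Iso.inv_hom_id_assoc]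
  · rw [morphismRestrict_comp]
    exact (MorphismProperty.cancel_left_of_respectsIso @IsClosedImmersion
      (e.inv ∣_ pullback.lift (c.π.app k) (e.hom ≫ f) (specULiftZIsTerminal.hom_ext _ _) ⁻¹ᵁ O a)
      (pullback.lift (c.π.app k) (e.hom ≫ f) (specULiftZIsTerminal.hom_ext _ _) ∣_ O a)).mpr
      (hOci a)
  · obtain ⟨a, ha⟩ := hOcov (e.inv x)
    exact ⟨a, by rw [Scheme.Hom.comp_apply]; exact ha⟩

/-- **Immersion into a scheme of finite presentation.** -/
theorem immersion_fp {X S : Scheme.{u}} (f : X ⟶ S) [LocallyOfFiniteType f]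
    [CompactSpace X] [QuasiSeparatedSpace X] :
    ∃ (X' : Scheme.{u}) (f' : X' ⟶ S) (j : X ⟶ X'), LocallyOfFinitePresentation f' ∧
      QuasiCompact f' ∧ QuasiSeparated f' ∧ IsImmersion j ∧ j ≫ f' = f := by
  obtain ⟨Xk, _, _, _, j₀, ι, hι, O, hj₀, hOc, hOci, hOcov⟩ := exists_setup f
  haveI := lfp_of_ftz Xk
  refine ⟨_, pullback.snd (specULiftZIsTerminal.from Xk) (specULiftZIsTerminal.from S), j₀,
    inferInstance, inferInstance, inferInstance, ?_, hj₀⟩
  refine IsZariskiLocalAtTarget.of_forall_source_exists_preimage j₀ fun x => ?_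
  obtain ⟨a, ha⟩ := hOcov x
  refine ⟨O a, ha, ?_⟩
  haveI := hOci a
  rw [← morphismRestrict_ι]
  infer_instance

/-- **Closed immersion into a scheme of finite presentation.** -/
theorem closedImmersion_fp {X S : Scheme.{u}} (f : X ⟶ S) [LocallyOfFiniteType f]
    [CompactSpace X] [QuasiSeparatedSpace X] [QuasiSeparatedSpace S] :
    ∃ (X' : Scheme.{u}) (f' : X' ⟶ S) (j : X ⟶ X'), LocallyOfFinitePresentation f' ∧
      QuasiCompact f' ∧ QuasiSeparated f' ∧ IsClosedImmersion j ∧ j ≫ f' = f ∧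
      CompactSpace X' ∧ QuasiSeparatedSpace X' := by
  obtain ⟨Xk, _, _, _, j₀, ι, hι, O, hj₀, hOc, hOci, hOcov⟩ := exists_setup f
  haveI := lfp_of_ftz Xk
  let W : (pullback (specULiftZIsTerminal.from Xk) (specULiftZIsTerminal.from S)).Opens :=
    ⨆ a, O a
  have hW : IsCompact (W : Set ↥(pullback (specULiftZIsTerminal.from Xk)
      (specULiftZIsTerminal.from S))) := by
    rw [Opens.coe_iSup]
    exact isCompact_iUnion hOc
  have hsub : Set.range j₀ ⊆ Set.range W.ι := by
    rintro _ ⟨x, rfl⟩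
    rw [Scheme.Opens.range_ι]
    obtain ⟨a, ha⟩ := hOcov x
    exact Opens.mem_iSup.mpr ⟨a, ha⟩
  have hj₁ : IsOpenImmersion.lift W.ι j₀ hsub ≫ W.ι = j₀ := IsOpenImmersion.lift_fac _ _ _
  have hci : IsClosedImmersion (IsOpenImmersion.lift W.ι j₀ hsub) := by
    refine IsZariskiLocalAtTarget.of_iSup_eq_top (fun a => W.ι ⁻¹ᵁ O a) ?_ fun a => ?_
    · rw [← Scheme.Hom.preimage_iSup]
      exact W.ι_preimage_self
    · have h1 : IsClosedImmersion ((IsOpenImmersion.lift W.ι j₀ hsub ≫ W.ι) ∣_ O a) := by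
        rw [hj₁]
        exact hOci a
      rw [morphismRestrict_comp] at h1
      exact @IsClosedImmersion.of_comp _ _ _ (IsOpenImmersion.lift W.ι j₀ hsub ∣_ W.ι ⁻¹ᵁ O a)
        (W.ι ∣_ O a) h1 inferInstance
  haveI : CompactSpace (W : Scheme.{u}) := isCompact_iff_compactSpace.mp hW
  have hqs : QuasiSeparated (W.ι ≫ pullback.snd (specULiftZIsTerminal.from Xk)
      (specULiftZIsTerminal.from S)) := inferInstance
  refine ⟨W, W.ι ≫ pullback.snd (specULiftZIsTerminal.from Xk) (specULiftZIsTerminal.from S),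
    IsOpenImmersion.lift W.ι j₀ hsub, inferInstance, inferInstance, hqs, hci, ?_, inferInstance,
    ?_⟩
  · rw [← Category.assoc, hj₁, hj₀]
  · exact quasiSeparatedSpace_of_quasiSeparated (W.ι ≫ pullback.snd
      (specULiftZIsTerminal.from Xk) (specULiftZIsTerminal.from S))

attribute [local instance] IsCofiltered.isConnected in
/-- **Closed immersion into a separated scheme of finite presentation.** -/
theorem closedImmersion_fp_separated {X S : Scheme.{u}} (f : X ⟶ S) [IsSeparated f]
    [LocallyOfFiniteType f] [QuasiCompact f] [CompactSpace S] [QuasiSeparatedSpace S] :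
    ∃ (X' : Scheme.{u}) (f' : X' ⟶ S) (j : X ⟶ X'), IsSeparated f' ∧
      LocallyOfFinitePresentation f' ∧ QuasiCompact f' ∧ IsClosedImmersion j ∧ j ≫ f' = f := by
  haveI : CompactSpace X := QuasiCompact.compactSpace_of_compactSpace f
  haveI : QuasiSeparatedSpace X := quasiSeparatedSpace_of_quasiSeparated f
  obtain ⟨Y, g, ι, hg1, hg2, hg3, hι, hιg, hY1, hY2⟩ := closedImmersion_fp f
  obtain ⟨I, iP, iD, iN, D, c, hc, hD, ⟨e⟩⟩ := Groth.Agent.Lib.IdealFTH7.main7379 ι
  haveI hDci : ∀ i, IsClosedImmersion (D.obj i).hom := fun i => (hD i).1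
  haveI hDfp : ∀ i, LocallyOfFinitePresentation (D.obj i).hom := fun i => (hD i).2
  have hc' : IsLimit ((Over.forget Y).mapCone c) := isLimitOfPreserves (Over.forget Y) hc
  have hsep : ∀ i, IsSeparated (D.obj i).hom := fun i => by
    haveI := hDci i
    infer_instance
  have htrans : ∀ {i j : Iᵒᵖ} (a : i ⟶ j), IsClosedImmersion (D.map a).left := by
    intro i j a
    have h1 : (D.map a).left ≫ (D.obj j).hom = (D.obj i).hom := Over.w (D.map a)
    have h2 : IsClosedImmersion ((D.map a).left ≫ (D.obj j).hom) := by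
      rw [h1]
      exact hDci i
    exact @IsClosedImmersion.of_comp _ _ _ (D.map a).left (D.obj j).hom h2 (hsep j)
  haveI : ∀ (i j : Iᵒᵖ) (a : i ⟶ j), IsAffineHom ((D ⋙ Over.forget Y).map a) := fun i j a => by
    haveI := htrans a
    show IsAffineHom (D.map a).left
    infer_instance
  haveI : ∀ i, CompactSpace ((D ⋙ Over.forget Y).obj i) := fun i => by
    haveI := hDci i
    have hqc : QuasiCompact (D.obj i).hom := inferInstance
    exact @QuasiCompact.compactSpace_of_compactSpace _ _ (D.obj i).hom hqc hY1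
  haveI : ∀ i, QuasiSeparatedSpace ((D ⋙ Over.forget Y).obj i) := fun i => by
    haveI := hDci i
    have hqs : QuasiSeparated (D.obj i).hom := inferInstance
    exact @quasiSeparatedSpace_of_quasiSeparated _ _ (D.obj i).hom hY2 hqs
  obtain ⟨i₀⟩ : Nonempty Iᵒᵖ := ⟨op (Classical.arbitrary I)⟩
  have hpt : (c.π.app i₀).left ≫ (D.obj i₀).hom ≫ g = e.hom.left ≫ f := by
    have h1 : (c.π.app i₀).left ≫ (D.obj i₀).hom = c.pt.hom := Over.w (c.π.app i₀)
    have h2 : e.hom.left ≫ ι = c.pt.hom := Over.w e.hom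
    calc (c.π.app i₀).left ≫ (D.obj i₀).hom ≫ g
        = ((c.π.app i₀).left ≫ (D.obj i₀).hom) ≫ g := (Category.assoc _ _ _).symm
      _ = c.pt.hom ≫ g := by rw [h1]
      _ = (e.hom.left ≫ ι) ≫ g := by rw [h2]
      _ = e.hom.left ≫ f := by rw [Category.assoc, hιg]
  haveI : IsSeparated (((Over.forget Y).mapCone c).π.app i₀ ≫ (D.obj i₀).hom ≫ g) := by
    show IsSeparated ((c.π.app i₀).left ≫ (D.obj i₀).hom ≫ g)
    rw [hpt]
    haveI : IsIso e.hom.left := inferInstance
    exact (MorphismProperty.cancel_left_of_respectsIso @IsSeparated e.hom.left f).mpr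
      inferInstance
  obtain ⟨i₁, hi₁⟩ := Groth.Agent.Lib.LimSep2H7.relative S (D ⋙ Over.forget Y)
    (fun i => (D.obj i).hom ≫ g)
    (fun {i j} φ => by
      have h1 : (D.map φ).left ≫ (D.obj j).hom = (D.obj i).hom := Over.w (D.map φ)
      show (D.map φ).left ≫ (D.obj j).hom ≫ g = (D.obj i).hom ≫ g
      rw [← Category.assoc, h1])
    ((Over.forget Y).mapCone c) hc' i₀
  have hj : (e.inv ≫ c.π.app i₁).left ≫ (D.obj i₁).hom = ι := Over.w (e.inv ≫ c.π.app i₁)
  haveI := hDci i₁
  haveI := hDfp i₁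
  refine ⟨(D.obj i₁).left, (D.obj i₁).hom ≫ g, (e.inv ≫ c.π.app i₁).left, hi₁ i₁ (𝟙 _),
    inferInstance, inferInstance, ?_, ?_⟩
  · have h2 : IsClosedImmersion ((e.inv ≫ c.π.app i₁).left ≫ (D.obj i₁).hom) := by
      rw [hj]
      exact hι
    exact @IsClosedImmersion.of_comp _ _ _ (e.inv ≫ c.π.app i₁).left (D.obj i₁).hom h2 (hsep i₁)
  · calc (e.inv ≫ c.π.app i₁).left ≫ (D.obj i₁).hom ≫ g
        = ((e.inv ≫ c.π.app i₁).left ≫ (D.obj i₁).hom) ≫ g := (Category.assoc _ _ _).symm
      _ = ι ≫ g := by rw [hj]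
      _ = f := hιg

end Groth.Agent.Lib.NApxG_helper7
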