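import Mathlib
import Groth.Agent.Lib.NApxG_helper7
import Groth.Agent.Lib.LimDescFP2_helper7
import Groth.Agent.Lib.LimBaseChange_helper7
import Groth.Agent.Lib.HProj5_helper5
import Groth.Agent.S0025

/-!
# Noetherian approximation, module H: Chow's lemma over a qcqs base (helper7)

* `chow_baseChange`: Chow data are stable under base change.
* `chow_closedImmersion`: Chow data restrict along closed immersions.
* `chow_fp`: Chow's lemma for separated morphisms of finite presentation over a qcqs base, by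
  descent to a Noetherian stage.
* `chow_qcqs`: Chow's lemma for separated morphisms of finite type over a qcqs base.
-/

set_option autoImplicit false
set_option linter.style.haveILetI false
universe u
open CategoryTheory CategoryTheory.Limits AlgebraicGeometry TopologicalSpace Opposite

namespace Groth.Agent.Lib.NApxH_helper7
open Groth.Agent.Lib.NApxE_helper7 Groth.Agent.Lib.NApxG_helper7 Groth.Agent.Lib.NApxD1_helper7
open Groth.Agent.Lib.LimBaseChangeH7 Groth.Agent.HProj

/-- Chow data are stable under base change. -/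
theorem chow_baseChange {Y S Y₁ S₁ : Scheme.{u}} {g : Y ⟶ S} {g₁ : Y₁ ⟶ S₁} {β : Y ⟶ Y₁}
    {σ : S ⟶ S₁} (sq : IsPullback β g g₁ σ) {n : ℕ} {Y₁' : Scheme.{u}} (π₁ : Y₁' ⟶ Y₁)
    (j₁ : Y₁' ⟶ CohB1.ProjSpaceOver n S₁) [IsImmersion j₁]
    (h : j₁ ≫ CohB1.ProjSpaceOver.toBase n S₁ = π₁ ≫ g₁) [IsProper π₁] [Surjective π₁] :
    ∃ (Y' : Scheme.{u}) (π : Y' ⟶ Y) (j : Y' ⟶ CohB1.ProjSpaceOver n S),
      IsImmersion j ∧ j ≫ CohB1.ProjSpaceOver.toBase n S = π ≫ g ∧ IsProper π ∧
        Surjective π := by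
  have w : (pullback.fst π₁ β ≫ j₁) ≫ CohB1.ProjSpaceOver.toBase n S₁ =
      (pullback.snd π₁ β ≫ g) ≫ σ := by
    rw [Category.assoc, h, ← Category.assoc, pullback.condition, Category.assoc, sq.w,
      Category.assoc]
  have hbig : IsPullback (pullback.fst π₁ β) (pullback.snd π₁ β ≫ g) (π₁ ≫ g₁) σ :=
    (IsPullback.of_hasPullback π₁ β).paste_vert sq
  have hsq : IsPullback (pullback.fst π₁ β) ((isPullback_overMap n σ).lift _ _ w) j₁
      (overMap n σ) := by
    refine IsPullback.of_bot ?_ ((isPullback_overMap n σ).lift_fst _ _ w).symm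
      (isPullback_overMap n σ)
    rw [(isPullback_overMap n σ).lift_snd _ _ w, h]
    exact hbig
  have hsurj : Surjective (pullback.snd π₁ β) :=
    MorphismProperty.pullback_snd (P := @Surjective) _ _ inferInstance
  exact ⟨pullback π₁ β, pullback.snd π₁ β, (isPullback_overMap n σ).lift _ _ w,
    MorphismProperty.of_isPullback hsq inferInstance, (isPullback_overMap n σ).lift_snd _ _ w,
    inferInstance, hsurj⟩

/-- Chow data restrict along closed immersions. -/
theorem chow_closedImmersion {X Y S : Scheme.{u}} {g : Y ⟶ S} (ι : X ⟶ Y) [IsClosedImmersion ι]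
    {n : ℕ} {Y' : Scheme.{u}} (π : Y' ⟶ Y) (j : Y' ⟶ CohB1.ProjSpaceOver n S) [IsImmersion j]
    (h : j ≫ CohB1.ProjSpaceOver.toBase n S = π ≫ g) [IsProper π] [Surjective π] :
    ∃ (X' : Scheme.{u}) (π' : X' ⟶ X) (j' : X' ⟶ CohB1.ProjSpaceOver n S),
      IsImmersion j' ∧ j' ≫ CohB1.ProjSpaceOver.toBase n S = π' ≫ (ι ≫ g) ∧ IsProper π' ∧
        Surjective π' := by
  have hsurj : Surjective (pullback.snd π ι) :=
    MorphismProperty.pullback_snd (P := @Surjective) _ _ inferInstance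
  haveI : IsClosedImmersion (pullback.fst π ι) := inferInstance
  refine ⟨pullback π ι, pullback.snd π ι, pullback.fst π ι ≫ j, inferInstance, ?_,
    inferInstance, hsurj⟩
  rw [Category.assoc, h, ← Category.assoc, pullback.condition, Category.assoc]

/-- **Chow's lemma, finitely presented case over a qcqs base.** -/
theorem chow_fp {Y S : Scheme.{u}} (g : Y ⟶ S) [CompactSpace S] [QuasiSeparatedSpace S]
    [IsSeparated g] [LocallyOfFinitePresentation g] [QuasiCompact g] :
    ∃ (n : ℕ) (Y' : Scheme.{u}) (π : Y' ⟶ Y) (j : Y' ⟶ CohB1.ProjSpaceOver n S),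
      IsImmersion j ∧ j ≫ CohB1.ProjSpaceOver.toBase n S = π ≫ g ∧ IsProper π ∧
        Surjective π := by
  obtain ⟨I, iP, iD, iN, D, c, hc, haff, hft, ⟨e⟩⟩ := approx_abs S
  haveI hA : ∀ (i j : Iᵒᵖ) (a : i ⟶ j), IsAffineHom (D.map a) := haff
  haveI hA' : ∀ {i j : Iᵒᵖ} (a : i ⟶ j), IsAffineHom (D.map a) := fun a => haff _ _ a
  haveI : ∀ k, CompactSpace (D.obj k) := fun k => (hft k).1
  haveI hN : ∀ k, IsNoetherian (D.obj k) := fun k => isNoetherian_of_ftz (D.obj k) (hft k).2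
  haveI : ∀ k, QuasiSeparatedSpace (D.obj k) := fun k => inferInstance
  haveI : LocallyOfFinitePresentation (g ≫ e.inv) := inferInstance
  haveI : QuasiCompact (g ≫ e.inv) := inferInstance
  haveI : QuasiSeparated (g ≫ e.inv) := inferInstance
  obtain ⟨i, Yi, gi, γ, hgi1, hgi2, hgi3, hpb⟩ :=
    Groth.Agent.Lib.LimDescFPH7.main591 hc Y (g ≫ e.inv)
  haveI : CompactSpace Yi := QuasiCompact.compactSpace_of_compactSpace gi
  haveI : QuasiSeparatedSpace Yi := quasiSeparatedSpace_of_quasiSeparated gi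
  have hlim : IsLimit (bcCone c hpb) := isLimitBcCone c hpb hc
  haveI : IsAffineHom (c.π.app i) := isAffineHom_π_app D c hc i
  have hsepγ : IsSeparated (γ ≫ gi) := by
    rw [hpb.w]
    infer_instance
  haveI hsep0 : IsSeparated ((bcCone c hpb).π.app (Over.mk (𝟙 i)) ≫
      (pullback.fst gi (D.map (Over.mk (𝟙 i)).hom) ≫ gi)) := by
    rw [bcCone_π_fst_assoc]
    exact hsepγ
  obtain ⟨j₁, hj₁⟩ := Groth.Agent.Lib.LimSep2H7.relative (D.obj i) (bcDiagram D i gi)
    (fun j => pullback.fst gi (D.map j.hom) ≫ gi)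
    (fun {j k} φ => by rw [bcDiagram_map_fst_assoc])
    (bcCone c hpb) hlim (Over.mk (𝟙 i))
  have hsep₁ : IsSeparated (pullback.fst gi (D.map j₁.hom) ≫ gi) := hj₁ j₁ (𝟙 _)
  haveI hsnd : IsSeparated (pullback.snd gi (D.map j₁.hom)) := by
    haveI : IsSeparated (pullback.snd gi (D.map j₁.hom) ≫ D.map j₁.hom) := by
      rw [← pullback.condition]
      exact hsep₁
    exact IsSeparated.of_comp _ (D.map j₁.hom)
  haveI : LocallyOfFiniteType (pullback.snd gi (D.map j₁.hom)) := inferInstance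
  haveI : QuasiCompact (pullback.snd gi (D.map j₁.hom)) := inferInstance
  obtain ⟨n, Y₁', π₁, j', hj'1, hj'2, hπ1, hπ2, -⟩ :=
    Groth.Agent.S0025.result (pullback.snd gi (D.map j₁.hom))
  haveI := hj'1
  haveI := hπ1
  haveI := hπ2
  have sq0 := isPullback_bcCone_π c hpb j₁
  have sq : IsPullback ((bcCone c hpb).π.app j₁) g (pullback.snd gi (D.map j₁.hom))
      (e.inv ≫ c.π.app j₁.left) :=
    sq0.of_iso (Iso.refl _) (Iso.refl _) e (Iso.refl _) (by simp) (by simp) (by simp) (by simp)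
  exact ⟨n, @chow_baseChange Y S (pullback gi (D.map j₁.hom)) (D.obj j₁.left) g
    (pullback.snd gi (D.map j₁.hom)) ((bcCone c hpb).π.app j₁) (e.inv ≫ c.π.app j₁.left) sq n Y₁'
    π₁ j' hj'1 hj'2 hπ1 hπ2⟩

/-- **Chow's lemma over a qcqs base.** -/
theorem chow_qcqs {X S : Scheme.{u}} (f : X ⟶ S) [CompactSpace S] [QuasiSeparatedSpace S]
    [IsSeparated f] [LocallyOfFiniteType f] [QuasiCompact f] :
    ∃ (n : ℕ) (X' : Scheme.{u}) (π : X' ⟶ X) (j : X' ⟶ CohB1.ProjSpaceOver n S),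
      IsImmersion j ∧ j ≫ CohB1.ProjSpaceOver.toBase n S = π ≫ f ∧ IsProper π ∧
        Surjective π := by
  obtain ⟨Y, g, ι, hg1, hg2, hg3, hι, hιg⟩ := closedImmersion_fp_separated f
  haveI := hg1
  haveI := hg2
  haveI := hg3
  haveI := hι
  obtain ⟨n, Y', π, j, hj, hjπ, hπ1, hπ2⟩ := chow_fp g
  haveI := hj
  haveI := hπ1
  haveI := hπ2
  subst hιg
  exact ⟨n, chow_closedImmersion ι π j hjπ⟩

end Groth.Agent.Lib.NApxH_helper7
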