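import Mathlib
import Groth.Agent.Lib.NApxH_helper7
import Groth.Agent.Lib.LimDescend_helper7
import Groth.Agent.Lib.LimCI_helper7
import Groth.Agent.Lib.ProjSpaceProper_helper4
import Groth.Agent.S9190

/-!
# Noetherian approximation, module O: properness descends along limits (helper7)
-/

set_option autoImplicit false
set_option linter.style.haveILetI false
universe u
open CategoryTheory CategoryTheory.Limits AlgebraicGeometry TopologicalSpace Opposite

namespace Groth.Agent.Lib.NApxO_helper7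
open Groth.Agent.Lib.NApxH_helper7 Groth.Agent.HProj Groth.Agent.Lib.ProjSpaceProperH4

lemma lft_of_isImmersion {X Y : Scheme.{u}} (f : X ⟶ Y) [IsImmersion f] :
    LocallyOfFiniteType f := by
  rw [← f.liftCoborder_ι]
  infer_instance

lemma isClosedImmersion_of_isImmersion_of_universallyClosed {X Y : Scheme.{u}} (f : X ⟶ Y)
    [IsImmersion f] [UniversallyClosed f] : IsClosedImmersion f :=
  IsClosedImmersion.of_isPreimmersion f f.isClosedMap.isClosed_range

/-- Chow data are stable under base change, with the pullback square. -/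
theorem chow_baseChange_sq {Y S Y₁ S₁ : Scheme.{u}} {g : Y ⟶ S} {g₁ : Y₁ ⟶ S₁} {β : Y ⟶ Y₁}
    {σ : S ⟶ S₁} (sq : IsPullback β g g₁ σ) {n : ℕ} {Y₁' : Scheme.{u}} (π₁ : Y₁' ⟶ Y₁)
    (j₁ : Y₁' ⟶ CohB1.ProjSpaceOver n S₁)
    (h : j₁ ≫ CohB1.ProjSpaceOver.toBase n S₁ = π₁ ≫ g₁) :
    ∃ j : pullback π₁ β ⟶ CohB1.ProjSpaceOver n S,
      IsPullback (pullback.fst π₁ β) j j₁ (overMap n σ) ∧
      j ≫ CohB1.ProjSpaceOver.toBase n S = pullback.snd π₁ β ≫ g := by
  have w : (pullback.fst π₁ β ≫ j₁) ≫ CohB1.ProjSpaceOver.toBase n S₁ =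
      (pullback.snd π₁ β ≫ g) ≫ σ := by
    rw [Category.assoc, h, ← Category.assoc, pullback.condition, Category.assoc, sq.w,
      Category.assoc]
  have hbig : IsPullback (pullback.fst π₁ β) (pullback.snd π₁ β ≫ g) (π₁ ≫ g₁) σ :=
    (IsPullback.of_hasPullback π₁ β).paste_vert sq
  have hsq : IsPullback (pullback.fst π₁ β) ((isPullback_overMap n σ).lift _ _ w) j₁
      (overMap n σ) := by
    refine IsPullback.of_bot ?_ ((isPullback_overMap n σ).lift_fst _ _ w).symm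
      (isPullback_overMap n σ)
    rw [(isPullback_overMap n σ).lift_snd _ _ w, h]
    exact hbig
  exact ⟨_, hsq, (isPullback_overMap n σ).lift_snd _ _ w⟩

/-- **S2074**: properness descends to a finite stage. -/
theorem main2074 {I : Type u} [SmallCategory I] [IsCofiltered I]
    (D : I ⥤ Scheme.{u}) (c : Limits.Cone D) (hc : Limits.IsLimit c)
    [∀ (i j : I) (f : i ⟶ j), IsAffineHom (D.map f)] (i₀ : I) [CompactSpace (D.obj i₀)]
    [QuasiSeparatedSpace (D.obj i₀)] {X₀ Y₀ : Scheme.{u}} (f₀ : X₀ ⟶ Y₀) (g₀ : Y₀ ⟶ D.obj i₀)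
    [CompactSpace X₀] [QuasiSeparatedSpace X₀] [CompactSpace Y₀] [QuasiSeparatedSpace Y₀]
    {X Y : Scheme.{u}} (f : X ⟶ Y) (g : Y ⟶ c.pt) (qY : Y ⟶ Y₀) (qX : X ⟶ X₀)
    (hY : IsPullback qY g g₀ (c.π.app i₀)) (hX : IsPullback qX f f₀ qY)
    [LocallyOfFiniteType f₀] [IsProper f] :
    ∃ (i : I) (φ : i ⟶ i₀) (Xi Yi : Scheme.{u}) (fi : Xi ⟶ Yi) (gi : Yi ⟶ D.obj i) (pY : Yi ⟶ Y₀)
      (pX : Xi ⟶ X₀), IsPullback pY gi g₀ (D.map φ) ∧ IsPullback pX fi f₀ pY ∧ IsProper fi := by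
  -- Step A: separatedness
  obtain ⟨i₁, φ₁, X₁, Y₁, f₁, g₁, pY₁, pX₁, h1, h2, hsep⟩ :=
    Groth.Agent.S9190.result D c hc i₀ f₀ g₀ f g qY qX hY hX
  haveI := hsep
  haveI hpY₁ : IsAffineHom pY₁ :=
    MorphismProperty.of_isPullback (P := @IsAffineHom) h1.flip inferInstance
  haveI : CompactSpace Y₁ := QuasiCompact.compactSpace_of_compactSpace pY₁
  haveI : QuasiSeparatedSpace Y₁ := quasiSeparatedSpace_of_quasiSeparated pY₁
  haveI hpX₁ : IsAffineHom pX₁ :=
    MorphismProperty.of_isPullback (P := @IsAffineHom) h2.flip hpY₁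
  haveI : CompactSpace X₁ := QuasiCompact.compactSpace_of_compactSpace pX₁
  haveI : LocallyOfFiniteType f₁ :=
    MorphismProperty.of_isPullback (P := @LocallyOfFiniteType) h2 inferInstance
  haveI : QuasiCompact f₁ := inferInstance
  -- maps from the limit to stage 1
  obtain ⟨a, ha1, ha2⟩ : ∃ a : Y ⟶ Y₁, a ≫ pY₁ = qY ∧ a ≫ g₁ = g ≫ c.π.app i₁ :=
    ⟨h1.lift qY (g ≫ c.π.app i₁) (by rw [hY.w, Category.assoc, c.w]), h1.lift_fst _ _ _,
      h1.lift_snd _ _ _⟩
  have hYa : IsPullback a g g₁ (c.π.app i₁) := by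
    refine IsPullback.of_right ?_ ha2 h1
    rw [ha1, c.w]
    exact hY
  obtain ⟨b, hb1, hb2⟩ : ∃ b : X ⟶ X₁, b ≫ pX₁ = qX ∧ b ≫ f₁ = f ≫ a :=
    ⟨h2.lift qX (f ≫ a) (by rw [hX.w, Category.assoc, ha1]), h2.lift_fst _ _ _,
      h2.lift_snd _ _ _⟩
  have hXb : IsPullback b f f₁ a := by
    refine IsPullback.of_right ?_ hb2 h2
    rw [hb1, ha1]
    exact hX
  -- Step C: Chow's lemma at stage 1
  obtain ⟨n, X'₁, π₁, j₁, hj₁, hjπ, hπ1, hπ2⟩ := chow_qcqs f₁
  haveI := hj₁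
  haveI := hπ1
  haveI := hπ2
  -- Step D: base change to the limit
  obtain ⟨j', hsq, hj'⟩ := chow_baseChange_sq hXb π₁ j₁ hjπ
  haveI : IsProper (CohB1.ProjSpaceOver.toBase n Y) := isProper_toBase n Y
  haveI : IsProper (CohB1.ProjSpaceOver.toBase n Y₁) := isProper_toBase n Y₁
  haveI : IsImmersion j' := MorphismProperty.of_isPullback hsq hj₁
  haveI : IsProper (j' ≫ CohB1.ProjSpaceOver.toBase n Y) := by
    rw [hj']
    infer_instance
  haveI : IsProper j' := IsProper.of_comp j' (CohB1.ProjSpaceOver.toBase n Y)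
  have hci : IsClosedImmersion j' := isClosedImmersion_of_isImmersion_of_universallyClosed j'
  -- Step E: the closed immersion descends
  haveI : CompactSpace (CohB1.ProjSpaceOver n Y₁) :=
    QuasiCompact.compactSpace_of_compactSpace (CohB1.ProjSpaceOver.toBase n Y₁)
  haveI : QuasiSeparatedSpace (CohB1.ProjSpaceOver n Y₁) :=
    quasiSeparatedSpace_of_quasiSeparated (CohB1.ProjSpaceOver.toBase n Y₁)
  haveI : CompactSpace X'₁ := QuasiCompact.compactSpace_of_compactSpace π₁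
  haveI : LocallyOfFiniteType j₁ := lft_of_isImmersion j₁
  have hY' : IsPullback (overMap n a) (CohB1.ProjSpaceOver.toBase n Y ≫ g)
      (CohB1.ProjSpaceOver.toBase n Y₁ ≫ g₁) (c.π.app i₁) :=
    (isPullback_overMap n a).paste_vert hYa
  obtain ⟨i₂, φ₂, Xi, Yi, fi, gi, pY, pX, k1, k2, hfi⟩ :=
    Groth.Agent.Lib.LimDescendH7.exists_descend (P := @IsClosedImmersion)
      (H := fun f => LocallyOfFiniteType f ∧ QuasiCompact f ∧ QuasiSeparated f)
      Groth.Agent.Lib.LimCIH7.affineStage_isClosedImmersion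
      (fun f g h => by
        obtain ⟨h1, h2, h3⟩ := h
        exact ⟨inferInstance, inferInstance, inferInstance⟩)
      D c hc i₁ j₁ (CohB1.ProjSpaceOver.toBase n Y₁ ≫ g₁)
      ⟨inferInstance, inferInstance, inferInstance⟩ j' (CohB1.ProjSpaceOver.toBase n Y ≫ g)
      (overMap n a) (pullback.fst π₁ b) hY' hsq hci
  haveI := hfi
  -- Step F: properness at stage 2
  have hY₂ := IsPullback.of_hasPullback g₁ (D.map φ₂)
  have hX₂ := IsPullback.of_hasPullback f₁ (pullback.fst g₁ (D.map φ₂))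
  obtain ⟨r, hr1, hr2⟩ : ∃ r : Yi ⟶ pullback g₁ (D.map φ₂),
      r ≫ pullback.fst g₁ (D.map φ₂) = pY ≫ CohB1.ProjSpaceOver.toBase n Y₁ ∧
      r ≫ pullback.snd g₁ (D.map φ₂) = gi :=
    ⟨pullback.lift (pY ≫ CohB1.ProjSpaceOver.toBase n Y₁) gi (by
      rw [Category.assoc]
      exact k1.w), pullback.lift_fst _ _ _, pullback.lift_snd _ _ _⟩
  have hr : IsPullback pY r (CohB1.ProjSpaceOver.toBase n Y₁) (pullback.fst g₁ (D.map φ₂)) := by
    refine IsPullback.of_bot ?_ hr1.symm hY₂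
    rw [hr2]
    exact k1
  haveI : IsProper r := MorphismProperty.of_isPullback (P := @IsProper) hr inferInstance
  have hcomp : (pX ≫ π₁) ≫ f₁ = (fi ≫ r) ≫ pullback.fst g₁ (D.map φ₂) := by
    rw [Category.assoc, ← hjπ, ← Category.assoc, k2.w, Category.assoc, Category.assoc, hr1]
  obtain ⟨q, hq1, hq2⟩ : ∃ q : Xi ⟶ pullback f₁ (pullback.fst g₁ (D.map φ₂)),
      q ≫ pullback.fst f₁ (pullback.fst g₁ (D.map φ₂)) = pX ≫ π₁ ∧
      q ≫ pullback.snd f₁ (pullback.fst g₁ (D.map φ₂)) = fi ≫ r :=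
    ⟨pullback.lift _ _ hcomp, pullback.lift_fst _ _ _, pullback.lift_snd _ _ _⟩
  have hq : IsPullback pX q π₁ (pullback.fst f₁ (pullback.fst g₁ (D.map φ₂))) := by
    refine IsPullback.of_bot ?_ hq1.symm hX₂
    rw [hq2, ← hjπ]
    exact k2.paste_vert hr
  haveI : Surjective q := MorphismProperty.of_isPullback (P := @Surjective) hq hπ2
  have hproper : IsProper (pullback.snd f₁ (pullback.fst g₁ (D.map φ₂))) := by
    haveI : IsProper (q ≫ pullback.snd f₁ (pullback.fst g₁ (D.map φ₂))) := by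
      rw [hq2]
      infer_instance
    haveI : UniversallyClosed (pullback.snd f₁ (pullback.fst g₁ (D.map φ₂))) :=
      UniversallyClosed.of_comp_surjective q _
    exact { }
  -- Step G: assemble
  refine ⟨i₂, φ₂ ≫ φ₁, _, _, pullback.snd f₁ (pullback.fst g₁ (D.map φ₂)),
    pullback.snd g₁ (D.map φ₂), pullback.fst g₁ (D.map φ₂) ≫ pY₁,
    pullback.fst f₁ (pullback.fst g₁ (D.map φ₂)) ≫ pX₁, ?_, ?_, hproper⟩
  · rw [D.map_comp]
    exact hY₂.paste_horiz h1
  · exact hX₂.paste_horiz h2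

end Groth.Agent.Lib.NApxO_helper7
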