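import Groth.Agent.Lib.PBCModel0_helper2
import Groth.Agent.Lib.NApxO_helper7

/-!
# Noetherian models of proper flat families (helper2)

For `f : X ⟶ Spec A` proper of finite presentation and `F` quasi-coherent of finite presentation,
flat over `A`: there are a finitely generated subring `A₀ ⊆ A`, a proper `X₀ ⟶ Spec A₀` and a
coherent `F₀` on `X₀`, flat over `A₀`, with `X = X₀ ×_{A₀} A` and `F` the pullback of `F₀`.
APPEND-ONLY once landed.
-/

set_option autoImplicit false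
set_option maxHeartbeats 1000000
set_option linter.style.haveILetI false
set_option linter.unusedSectionVars false
set_option linter.unusedVariables false
universe u

open CategoryTheory CategoryTheory.Limits AlgebraicGeometry TopologicalSpace Opposite TensorProduct

namespace Groth.Agent.Lib.PBCH2

open Groth.Agent.Lib.LimBaseChangeH7 Groth.Agent.Lib.LimDescFPH7 Groth.Agent.Lib.LimMod
  Groth.Agent.Lib.NoethFlatModel

/-- properness passes to later stages -/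
theorem isProper_of_later {S₁ S₂ S₃ X₁ X₂ X₃ : Scheme.{u}} (u₃ : X₃ ⟶ S₃) (a : S₁ ⟶ S₂) (b : S₂ ⟶ S₃)
    (p₂ : X₂ ⟶ X₃) (u₂ : X₂ ⟶ S₂) (h₂ : IsPullback p₂ u₂ u₃ b) [IsProper u₂]
    (p₁ : X₁ ⟶ X₃) (u₁ : X₁ ⟶ S₁) (h₁ : IsPullback p₁ u₁ u₃ (a ≫ b)) : IsProper u₁ := by
  have hw : p₁ ≫ u₃ = (u₁ ≫ a) ≫ b := by rw [Category.assoc]; exact h₁.w
  have hl : IsPullback (h₂.lift p₁ (u₁ ≫ a) hw) u₁ u₂ a := by
    refine IsPullback.of_right ?_ (h₂.lift_snd _ _ _) h₂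
    rw [h₂.lift_fst]
    exact h₁
  exact MorphismProperty.of_isPullback (P := @IsProper) hl inferInstance

/-- **Noetherian models of proper flat families.** -/
theorem exists_noeth_proper_flat_model {A : Type u} [CommRing A] {X : Scheme.{u}}
    (f : X ⟶ Spec (CommRingCat.of A)) [LocallyOfFinitePresentation f] [IsProper f]
    (F : X.Modules) [Coh.IsQCoh F] (hF : CohB1.IsFP F) (hfl : FlatMod.IsFlatOver f F) :
    ∃ (A₀ : Subalgebra ℤ A) (_ : A₀.FG) (X₀ : Scheme.{u})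
      (f₀ : X₀ ⟶ Spec (CommRingCat.of ↥A₀)) (_ : IsProper f₀) (F₀ : X₀.Modules)
      (_ : Coh.IsCoh F₀) (q : X ⟶ X₀)
      (_ : IsPullback q f f₀ (Spec.map (CommRingCat.ofHom A₀.val.toRingHom)))
      (_ : (Scheme.Modules.pullback q).obj F₀ ≅ F),
      FlatMod.IsFlatOver f₀ F₀ := by
  letI : Algebra (ULift.{u} ℤ) A := ULift.algebra' ℤ A
  haveI : ∀ i, CompactSpace ((DS (ULift.{u} ℤ) A).obj i) := fun i => inferInstance
  haveI : ∀ i, QuasiSeparatedSpace ((DS (ULift.{u} ℤ) A).obj i) := fun i => inferInstance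
  let f' : X ⟶ (coneS (ULift.{u} ℤ) A).pt := f
  haveI : LocallyOfFinitePresentation f' := ‹LocallyOfFinitePresentation f›
  haveI : IsProper f' := ‹IsProper f›
  obtain ⟨i, Xi, ui, q, Fi, h1, h2, h3, h4, h5, h6, ⟨ε⟩⟩ :=
    Groth.Agent.Lib.ConsModH2.exists_descend_mod (DS (ULift.{u} ℤ) A) (coneS (ULift.{u} ℤ) A)
      (isLimitConeS (ULift.{u} ℤ) A) f' F hF
  haveI := h1
  haveI := h2
  haveI := h3
  haveI : Fi.IsQuasicoherent := h5
  haveI : SheafOfModules.IsFinitePresentation (R := Xi.ringCatSheaf) Fi := h6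
  haveI : CompactSpace Xi := QuasiCompact.compactSpace_of_compactSpace ui
  haveI : QuasiSeparatedSpace Xi := quasiSeparatedSpace_of_quasiSeparated ui
  -- the proper stage
  obtain ⟨i', φ, Xi', Yi', fi, gi, pY, pX, hpY, hpX, hprop⟩ :=
    Groth.Agent.Lib.NApxO_helper7.main2074 (DS (ULift.{u} ℤ) A) (coneS (ULift.{u} ℤ) A)
      (isLimitConeS (ULift.{u} ℤ) A) i ui (𝟙 _) f' (𝟙 _)
      ((coneS (ULift.{u} ℤ) A).π.app i) q (IsPullback.of_vert_isIso ⟨by simp⟩) h4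
  haveI := hprop
  haveI : IsIso gi := hpY.isIso_snd_of_isIso
  have hbig : IsPullback pX (fi ≫ gi) ui ((DS (ULift.{u} ℤ) A).map φ) := by
    have := hpX.paste_vert hpY
    rwa [Category.comp_id] at this
  -- the flat stage
  have hfl' : FlatMod.IsFlatOver f' ((Scheme.Modules.pullback q).obj Fi) :=
    fun y => DescH8.isFlatOverAt_of_iso f ε.symm y (hfl y)
  obtain ⟨k, hk⟩ := exists_stage_flatOver (DS (ULift.{u} ℤ) A) (coneS (ULift.{u} ℤ) A)
    (isLimitConeS (ULift.{u} ℤ) A) i ui Fi q f' h4 hfl'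
  -- a common refinement
  let κ : Over i := IsCofiltered.min k (Over.mk φ)
  have hk1 := hk κ (IsCofiltered.minToLeft k (Over.mk φ)) (pullback.fst _ _) (pullback.snd _ _)
    (IsPullback.of_hasPullback ui ((DS (ULift.{u} ℤ) A).map κ.hom))
  have hκφ : κ.hom = (IsCofiltered.minToRight k (Over.mk φ)).left ≫ φ :=
    (Over.w (IsCofiltered.minToRight k (Over.mk φ))).symm
  obtain ⟨fκ, hfκ⟩ : ∃ fκ : pullback ui ((DS (ULift.{u} ℤ) A).map κ.hom) ⟶
      Spec ((DR (ULift.{u} ℤ) A).obj κ.left.unop),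
      fκ = pullback.snd ui ((DS (ULift.{u} ℤ) A).map κ.hom) := ⟨_, rfl⟩
  haveI : IsProper fκ := by
    rw [hfκ]
    refine isProper_of_later ui ((DS (ULift.{u} ℤ) A).map
      (IsCofiltered.minToRight k (Over.mk φ)).left) ((DS (ULift.{u} ℤ) A).map φ) pX (fi ≫ gi) hbig
      (pullback.fst _ _) _ ?_
    rw [← Functor.map_comp, ← hκφ]
    exact IsPullback.of_hasPullback ui ((DS (ULift.{u} ℤ) A).map κ.hom)
  obtain ⟨qκ, hqκ⟩ : ∃ qκ : X ⟶ pullback ui ((DS (ULift.{u} ℤ) A).map κ.hom),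
      qκ = (bcCone (coneS (ULift.{u} ℤ) A) h4).π.app κ := ⟨_, rfl⟩
  have hpbκ : IsPullback qκ f fκ (Spec.map (((Under.forget _).mapCocone
      (AlgColim2H7.cocone (R := ULift.{u} ℤ) (A := A))).ι.app κ.left.unop)) := by
    rw [hqκ, hfκ]
    exact isPullback_bcCone_π (coneS (ULift.{u} ℤ) A) h4 κ
  haveI : LocallyOfFinitePresentation fκ := by
    rw [hfκ]; exact MorphismProperty.of_isPullback (P := @LocallyOfFinitePresentation) (IsPullback.of_hasPullback _ _) inferInstance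
  obtain ⟨Fκ, hFκ⟩ : ∃ Fκ : (pullback ui ((DS (ULift.{u} ℤ) A).map κ.hom)).Modules,
      Fκ = (Scheme.Modules.pullback
        (pullback.fst ui ((DS (ULift.{u} ℤ) A).map κ.hom))).obj Fi := ⟨_, rfl⟩
  haveI : Fκ.IsQuasicoherent := by rw [hFκ]; exact PBH8.isQuasicoherent_pullback _ Fi
  haveI : SheafOfModules.IsFinitePresentation
      (R := (pullback ui ((DS (ULift.{u} ℤ) A).map κ.hom)).ringCatSheaf) Fκ := by
    rw [hFκ]; exact FpqcH8.isFP_pullback _ Fi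
  obtain ⟨A₀, hA₀, X₀, f₀, hprop₀, F₀, hcoh, q₀, hpb₀, ε₀, r, hr, hflat⟩ :=
    model_of_stage_mod_proper A _ _ (finiteType_stage A κ.left) f fκ qκ hpbκ Fκ
  have hqκfst : qκ ≫ pullback.fst ui ((DS (ULift.{u} ℤ) A).map κ.hom) = q := by
    rw [hqκ]; exact bcCone_π_fst (coneS (ULift.{u} ℤ) A) h4 κ
  obtain ⟨ε₁⟩ : Nonempty ((Scheme.Modules.pullback qκ).obj Fκ ≅
      (Scheme.Modules.pullback q).obj Fi) := by
    rw [hFκ]
    exact ⟨(DescH8.pbIso qκ _ q hqκfst).app Fi⟩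
  refine ⟨A₀, hA₀, X₀, f₀, hprop₀, F₀, hcoh, q₀, hpb₀, ε₀ ≪≫ ε₁ ≪≫ ε, fun x₀ => hflat x₀ ?_⟩
  rw [hfκ, hFκ]
  exact hk1 (r x₀)

end Groth.Agent.Lib.PBCH2
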