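import Mathlib
import Groth.Prelude
import Groth.Agent.Lib.PBCNat1_helper2
import Groth.Agent.Lib.BCMain1_helper2

/-!
# Naturality of cohomology and base change, II: the comparison with the cohomology of the base
change (helper2)

With the notation of part I: an additive bijection `H^p(Č(𝒰, F) ⊗_A A') ≃ H^p(X', g'^* F)` (through
the edge map of the affine morphism `g'`), semilinear for the multiplications by elements of `A'`
and compatible with `c ↦ c ⊗ 1` / the pullback of cohomology classes along `g'`.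
APPEND-ONLY once landed.
-/

set_option autoImplicit false
set_option linter.style.haveILetI false
set_option linter.unusedSectionVars false
universe u
open CategoryTheory Limits AlgebraicGeometry TopologicalSpace Opposite TensorProduct

namespace Groth.Agent.Lib.PBCH2

open Groth.Agent.Lib.CechSite Groth.Agent.Lib.BCCechH2 Groth.Agent.Lib.BCSecH2
  Groth.Agent.Lib.BCExtH2 Groth.Agent.Lib.BCCxH2 QcqsLoc Groth.Agent.Lib.FormalFnH2
  Groth.Agent.Lib.FlatBCH2 Groth.Agent.ExtendScalarsLib Groth.Agent.Lib.BCBaseH2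
  Groth.Agent.Lib.BCMainH2

section Edge

variable {X X' : Scheme.{u}} (g' : X' ⟶ X) (F : X.Modules)

set_option backward.isDefEq.respectTransparency false in
/-- the pullback of cohomology classes is the unit followed by the edge map -/
theorem pushEdge_unit (p : ℕ) (z : Coh.HH X F p) :
    CohPull.pushEdge g' (PB g' F) p (CohPull.mapH (unitF g' F) p z) =
      CohPull.pullMod g' F p z := by
  show CohPull.mapH ((Scheme.Modules.pullbackPushforwardAdjunction g').counit.app (PB g' F)) p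
    (CohPull.pullMod g' (NN g' F) p (CohPull.mapH (unitF g' F) p z)) = _
  rw [Groth.Agent.Lib.PullFnH2.pullMod_map]
  show Sheaf.H.map _ p (Sheaf.H.map _ p (CohPull.pullMod g' F p z)) = _
  rw [← Sheaf.H.map_comp_apply, ← Functor.map_comp]
  have h : (Scheme.Modules.pullback g').map (unitF g' F) ≫
      (Scheme.Modules.pullbackPushforwardAdjunction g').counit.app (PB g' F) = 𝟙 _ :=
    (Scheme.Modules.pullbackPushforwardAdjunction g').left_triangle_components F
  rw [h, CategoryTheory.Functor.map_id]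
  exact Sheaf.H.map_id_apply _

end Edge

section Cmp

variable {A A' : Type u} [CommRing A] [CommRing A'] [Algebra A A']
  {X X' : Scheme.{u}} [X.Over (Spec (CommRingCat.of A))] [X'.Over (Spec (CommRingCat.of A'))]
  {g' : X' ⟶ X}
  (hsq : IsPullback g' (X' ↘ Spec (CommRingCat.of A')) (X ↘ Spec (CommRingCat.of A))
    (Spec.map (CommRingCat.ofHom (algebraMap A A'))))
  {ι : Type u} [Fintype ι] [DecidableEq ι] (𝒰 : ι → X.Opens)
  (hU : ∀ s : Finset ι, s.Nonempty → IsAffineOpen (⨅ i ∈ s, 𝒰 i))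
  (F : X.Modules) [F.IsQuasicoherent]

/-- comparison of `Č(F) ⊗_A A'` with the Čech complex of `g'_* g'^* F` -/
noncomputable def cxCmpBC :
    CxCmp (CechEdge.cx (Coh.toAb (NN g' F)).obj (YY 𝒰))
      (CohIII.tensorObj (CC A 𝒰 F) (ModuleCat.of A A')) where
  a n := (ThetaBC hsq 𝒰 hU F n).trans ((cxCmp A 𝒰 (NN g' F)).a n)
  comm n x := by
    have h := (cxCmp A 𝒰 (NN g' F)).comm n (ThetaBC hsq 𝒰 hU F n x)
    rw [CC_d] at h
    refine Eq.trans ?_ h
    show (cxCmp A 𝒰 (NN g' F)).a (n + 1) (ThetaBC hsq 𝒰 hU F (n + 1) _) =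
      (cxCmp A 𝒰 (NN g' F)).a (n + 1) _
    congr 1
    rw [tensorObj_d_apply]
    exact ThetaBC_d hsq 𝒰 hU F n x
  neg n := (MonoidalCategory.tensorRight (ModuleCat.of A A')).map_isZero
    (isZero_CC_negSucc A 𝒰 F n)

lemma cxCmpBC_a_apply (n : ℕ)
    (x : (CohIII.tensorObj (CC A 𝒰 F) (ModuleCat.of A A')).X (Int.ofNat n)) :
    (cxCmpBC hsq 𝒰 hU F).a n x = (cxCmp A 𝒰 (NN g' F)).a n (ThetaBC hsq 𝒰 hU F n x) := rfl

/-- the unit on Čech cochains is `c ↦ c ⊗ 1` -/
lemma ThetaBC_one (n : ℕ) (β : Cn A 𝒰 F n) :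
    ThetaBC hsq 𝒰 hU F n (β ⊗ₜ[A] (1 : A')) = mapCn A 𝒰 (unitF g' F) n β := by
  funext σ
  rw [ThetaBC_tmul, one_smul, mapCn_apply, mapA_apply, cP_apply]
  exact cUV_self' g' F (VV 𝒰 σ) (β σ)

/-- compatibility of the comparison with the unit `F ⟶ g'_* g'^* F` -/
theorem cxCmpBC_unit (p : ℕ) :
    (F₂ A).map (HomologicalComplex.homologyMap
        (inclT (CC A 𝒰 F) (ModuleCat.of A A') (1 : A')) (Int.ofNat p)) ≫
        ((cxCmpBC hsq 𝒰 hU F).H p).hom =
      ((cxCmp A 𝒰 F).H p).hom ≫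
        HomologicalComplex.homologyMap ((CechEdge.cxFunctor (YY 𝒰)).map
          ((SheafOfModules.toSheaf X.ringCatSheaf).map (unitF g' F)).hom) p := by
  refine H_natural (cxCmp A 𝒰 F) (cxCmpBC hsq 𝒰 hU F) _ _ (fun n x => ?_) p
  rw [cxCmpBC_a_apply]
  have h1 : ((inclT (CC A 𝒰 F) (ModuleCat.of A A') (1 : A')).f (Int.ofNat n)).hom x =
      (show Cn A 𝒰 F n from x) ⊗ₜ[A] (1 : A') := rfl
  rw [h1, ThetaBC_one, mapCn_eq_mapC]
  exact cxCmp_a_mapC A 𝒰 ((SheafOfModules.toSheaf X.ringCatSheaf).map (unitF g' F)).hom n x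

/-- multiplication by `a'` on the sections of `g'_* g'^* F`, as an endomorphism of the underlying
abelian sheaf -/
noncomputable def smulNN (a' : A') : Coh.toAb (NN g' F) ⟶ Coh.toAb (NN g' F) :=
  (CohTop.push g'.base).map
    (Coh.smulAb (PB g' F) (Coh.toGlobal (X' ↘ Spec (CommRingCat.of A')) a'))

/-- multiplication by `a'` on `A'`, as an `A`-linear map -/
noncomputable def mulA' (a' : A') : ModuleCat.of A A' ⟶ ModuleCat.of A A' :=
  ModuleCat.ofHom (LinearMap.mulLeft A a')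

lemma ThetaBC_mul (n : ℕ) (a' : A') (x : (Cn A 𝒰 F n) ⊗[A] A') :
    ThetaBC hsq 𝒰 hU F n (LinearMap.lTensor (Cn A 𝒰 F n) (LinearMap.mulLeft A a') x) =
      mapC (QQw (smulNN (A' := A') F a').hom) (YY 𝒰) n (ThetaBC hsq 𝒰 hU F n x) := by
  let L : (Cn A 𝒰 F n) ⊗[A] A' →+ Coch (QQ (NN g' F)) (YY 𝒰) n :=
    (ThetaBC hsq 𝒰 hU F n).toAddMonoidHom.comp
      (LinearMap.lTensor (Cn A 𝒰 F n) (LinearMap.mulLeft A a')).toAddMonoidHom
  let R : (Cn A 𝒰 F n) ⊗[A] A' →+ Coch (QQ (NN g' F)) (YY 𝒰) n :=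
    (mapC (QQw (smulNN (A' := A') F a').hom) (YY 𝒰) n).comp
      (ThetaBC hsq 𝒰 hU F n).toAddMonoidHom
  show L x = R x
  refine TensorProduct.induction_on (motive := fun z => L z = R z) x ?_ ?_ ?_
  · exact (map_zero L).trans (map_zero R).symm
  · intro β b'
    funext σ
    show ThetaBC hsq 𝒰 hU F n (β ⊗ₜ[A] (a' * b')) σ =
      mapC (QQw (smulNN (A' := A') F a').hom) (YY 𝒰) n (ThetaBC hsq 𝒰 hU F n (β ⊗ₜ[A] b')) σ
    rw [ThetaBC_tmul, mapC_apply, ThetaBC_tmul, mul_smul]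
    rfl
  · intro z w hz hw
    exact (map_add L z w).trans ((congrArg₂ (· + ·) hz hw).trans (map_add R z w).symm)

/-- compatibility of the comparison with the multiplications by elements of `A'` -/
theorem cxCmpBC_mul (a' : A') (p : ℕ) :
    (F₂ A).map (HomologicalComplex.homologyMap
        (CohIII.tensorMap (CC A 𝒰 F) (mulA' (A := A) a')) (Int.ofNat p)) ≫
        ((cxCmpBC hsq 𝒰 hU F).H p).hom =
      ((cxCmpBC hsq 𝒰 hU F).H p).hom ≫
        HomologicalComplex.homologyMap ((CechEdge.cxFunctor (YY 𝒰)).map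
          (smulNN (A' := A') F a').hom) p := by
  refine H_natural (cxCmpBC hsq 𝒰 hU F) (cxCmpBC hsq 𝒰 hU F) _ _ (fun n x => ?_) p
  rw [cxCmpBC_a_apply, cxCmpBC_a_apply]
  have h1 : ((CohIII.tensorMap (CC A 𝒰 F) (mulA' (A := A) a')).f (Int.ofNat n)).hom x =
      LinearMap.lTensor (Cn A 𝒰 F n) (LinearMap.mulLeft A a') x := rfl
  rw [h1, ThetaBC_mul]
  exact cxCmp_a_mapC A 𝒰 (smulNN (A' := A') F a').hom n (ThetaBC hsq 𝒰 hU F n x)

end Cmp

end Groth.Agent.Lib.PBCH2
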