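import Mathlib
import Groth.Prelude
import Groth.Agent.Lib.PBCNat2_helper2
import Groth.Agent.Lib.BCAlg3_helper2

/-!
# Naturality of cohomology and base change, III: the comparison maps (helper2)
APPEND-ONLY once landed.
-/

set_option autoImplicit false
set_option linter.style.haveILetI false
set_option linter.unusedSectionVars false
universe u
open CategoryTheory Limits AlgebraicGeometry TopologicalSpace Opposite TensorProduct

namespace Groth.Agent.Lib.PBCH2

open Groth.Agent.Lib.CechSite Groth.Agent.Lib.BCCechH2 Groth.Agent.Lib.BCSecH2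
  Groth.Agent.Lib.BCExtH2 Groth.Agent.Lib.BCCxH2 QcqsLoc Groth.Agent.Lib.FormalFnH2
  Groth.Agent.Lib.FlatBCH2 Groth.Agent.ExtendScalarsLib Groth.Agent.Lib.BCBaseH2
  Groth.Agent.Lib.BCMainH2 Groth.Agent.Lib.BCAlgH2

section Psi

variable {A A' : Type u} [CommRing A] [CommRing A'] [Algebra A A']
  {X X' : Scheme.{u}} [X.Over (Spec (CommRingCat.of A))] [X'.Over (Spec (CommRingCat.of A'))]
  {g' : X' ⟶ X}
  (hsq : IsPullback g' (X' ↘ Spec (CommRingCat.of A')) (X ↘ Spec (CommRingCat.of A))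
    (Spec.map (CommRingCat.ofHom (algebraMap A A'))))
  {ι : Type u} [Fintype ι] [DecidableEq ι] (𝒰 : ι → X.Opens)
  (hU : ∀ s : Finset ι, s.Nonempty → IsAffineOpen (⨅ i ∈ s, 𝒰 i))
  (F : X.Modules) [F.IsQuasicoherent] (hcov : ⨆ i, 𝒰 i = ⊤)

/-- the comparison map `H^p(Č(F) ⊗_A A') → H^p(X', g'^* F)` -/
noncomputable def PsiT (p : ℕ) :
    (CohIII.TFun (CC A 𝒰 F) (Int.ofNat p)).obj (ModuleCat.of A A') →+ Coh.HH X' (PB g' F) p :=
  (CohPull.pushEdge g' (PB g' F) p).comp
    ((cechToH (X := X.toTopCat) 𝒰 hcov (Coh.toAb (NN g' F)) p).comp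
      ((cxCmpBC hsq 𝒰 hU F).H p).hom.hom)

lemma PsiT_apply (p : ℕ)
    (y : (CohIII.TFun (CC A 𝒰 F) (Int.ofNat p)).obj (ModuleCat.of A A')) :
    PsiT hsq 𝒰 hU F hcov p y = CohPull.pushEdge g' (PB g' F) p
      (cechToH (X := X.toTopCat) 𝒰 hcov (Coh.toAb (NN g' F)) p
        (((cxCmpBC hsq 𝒰 hU F).H p).hom.hom y)) := rfl

include hsq in
lemma isAffineHom_of_sq : IsAffineHom g' :=
  MorphismProperty.of_isPullback (P := @IsAffineHom) hsq.flip inferInstance

theorem PsiT_bijective (p : ℕ) : Function.Bijective (PsiT hsq 𝒰 hU F hcov p) := by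
  haveI : IsAffineHom g' := isAffineHom_of_sq hsq
  haveI : (PB g' F).IsQuasicoherent := PBH8.isQuasicoherent_pullback g' F
  haveI : (NN g' F).IsQuasicoherent := QCohCrit.isQuasicoherent_pushforward g' (PB g' F)
  exact (Groth.Agent.Lib.PushEdge2_helper7.pushEdge_bijective_of_isAffineHom g' (PB g' F) p).comp
    ((cechToH_bijective (X := X.toTopCat) 𝒰 hcov (Coh.toAb (NN g' F))
      (acyc_toAb 𝒰 hU (NN g' F)) p).comp
      (ConcreteCategory.bijective_of_isIso ((cxCmpBC hsq 𝒰 hU F).H p).hom))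

/-- semilinearity for the multiplications by elements of `A'` -/
theorem PsiT_mul (a' : A') (p : ℕ)
    (y : (CohIII.TFun (CC A 𝒰 F) (Int.ofNat p)).obj (ModuleCat.of A A')) :
    PsiT hsq 𝒰 hU F hcov p
        (((CohIII.TFun (CC A 𝒰 F) (Int.ofNat p)).map (mulA' (A := A) a')).hom y) =
      a' • PsiT hsq 𝒰 hU F hcov p y := by
  have hn := cxCmpBC_mul hsq 𝒰 hU F a' p
  have hn2 := congrArg (fun f => f.hom y) hn
  rw [PsiT_apply, PsiT_apply]
  refine Eq.trans (congrArg (fun t => CohPull.pushEdge g' (PB g' F) p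
    (cechToH (X := X.toTopCat) 𝒰 hcov (Coh.toAb (NN g' F)) p t)) hn2) ?_
  refine Eq.trans (congrArg (CohPull.pushEdge g' (PB g' F) p)
    (cechToH_natural (X := X.toTopCat) 𝒰 hcov (smulNN (A' := A') F a') p _)) ?_
  exact Groth.Agent.PushEdgeNat.pushEdge_nat g'
    (Coh.smulAb (PB g' F) (Coh.toGlobal (X' ↘ Spec (CommRingCat.of A')) a')) p _

/-- compatibility with the pullback of cohomology classes -/
theorem PsiT_incl (p : ℕ) (x : (CC A 𝒰 F).homology (Int.ofNat p)) :
    PsiT hsq 𝒰 hU F hcov p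
        ((HomologicalComplex.homologyMap
          (inclT (CC A 𝒰 F) (ModuleCat.of A A') (1 : A')) (Int.ofNat p)).hom x) =
      CohPull.pullMod g' F p (toHH A 𝒰 hcov F p x) := by
  have hn := cxCmpBC_unit hsq 𝒰 hU F p
  have hn2 := congrArg (fun f => f.hom x) hn
  rw [← pushEdge_unit, toHH_apply, PsiT_apply]
  refine Eq.trans (congrArg (fun t => CohPull.pushEdge g' (PB g' F) p
    (cechToH (X := X.toTopCat) 𝒰 hcov (Coh.toAb (NN g' F)) p t)) hn2) ?_
  exact congrArg (CohPull.pushEdge g' (PB g' F) p)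
    (cechToH_natural (X := X.toTopCat) 𝒰 hcov
      ((SheafOfModules.toSheaf X.ringCatSheaf).map (unitF g' F)) p _)

end Psi

section PsiL

variable {A A' : Type u} [CommRing A] [CommRing A'] [Algebra A A']
  {X X' : Scheme.{u}} [X.Over (Spec (CommRingCat.of A))] [X'.Over (Spec (CommRingCat.of A'))]
  {g' : X' ⟶ X}
  (hsq : IsPullback g' (X' ↘ Spec (CommRingCat.of A')) (X ↘ Spec (CommRingCat.of A))
    (Spec.map (CommRingCat.ofHom (algebraMap A A'))))
  {ι : Type u} [Fintype ι] [DecidableEq ι] (𝒰 : ι → X.Opens)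
  (hU : ∀ s : Finset ι, s.Nonempty → IsAffineOpen (⨅ i ∈ s, 𝒰 i))
  (F : X.Modules) [F.IsQuasicoherent] (hcov : ⨆ i, 𝒰 i = ⊤)
  {L : Cx A} (u : L ⟶ CC A 𝒰 F) (hu : ∀ M : ModuleCat.{u} A, QuasiIso ((TR M).map u))

/-- the comparison map for a universally quasi-isomorphic replacement of the Čech complex -/
noncomputable def PsiL (p : ℕ) :
    (CohIII.TFun L (Int.ofNat p)).obj (ModuleCat.of A A') →+ Coh.HH X' (PB g' F) p :=
  (PsiT hsq 𝒰 hU F hcov p).comp
    ((TFunIso u hu (Int.ofNat p)).hom.app (ModuleCat.of A A')).hom.toAddMonoidHom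

theorem PsiL_bijective (p : ℕ) : Function.Bijective (PsiL hsq 𝒰 hU F hcov u hu p) :=
  (PsiT_bijective hsq 𝒰 hU F hcov p).comp
    (ConcreteCategory.bijective_of_isIso
      ((TFunIso u hu (Int.ofNat p)).hom.app (ModuleCat.of A A')))

theorem PsiL_mul (a' : A') (p : ℕ)
    (y : (CohIII.TFun L (Int.ofNat p)).obj (ModuleCat.of A A')) :
    PsiL hsq 𝒰 hU F hcov u hu p
        (((CohIII.TFun L (Int.ofNat p)).map (mulA' (A := A) a')).hom y) =
      a' • PsiL hsq 𝒰 hU F hcov u hu p y := by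
  have hnat := (TFunIso u hu (Int.ofNat p)).hom.naturality (mulA' (A := A) (A' := A') a')
  have h2 := congrArg (fun f => f.hom y) hnat
  show PsiT hsq 𝒰 hU F hcov p (((TFunIso u hu (Int.ofNat p)).hom.app _).hom
    (((CohIII.TFun L (Int.ofNat p)).map (mulA' (A := A) a')).hom y)) = _
  refine Eq.trans (congrArg (PsiT hsq 𝒰 hU F hcov p) h2) ?_
  exact PsiT_mul hsq 𝒰 hU F hcov a' p _

theorem PsiL_incl (p : ℕ) (x : L.homology (Int.ofNat p)) :
    PsiL hsq 𝒰 hU F hcov u hu p
        ((HomologicalComplex.homologyMap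
          (inclT L (ModuleCat.of A A') (1 : A')) (Int.ofNat p)).hom x) =
      CohPull.pullMod g' F p
        (toHH A 𝒰 hcov F p ((HomologicalComplex.homologyMap u (Int.ofNat p)).hom x)) := by
  have hc : inclT L (ModuleCat.of A A') (1 : A') ≫ (TR (ModuleCat.of A A')).map u =
      u ≫ inclT (CC A 𝒰 F) (ModuleCat.of A A') (1 : A') := by
    apply HomologicalComplex.hom_ext
    intro i
    exact ModuleCat.hom_ext (LinearMap.ext fun _ => rfl)
  have h1 : HomologicalComplex.homologyMap (inclT L (ModuleCat.of A A') (1 : A')) (Int.ofNat p) ≫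
      HomologicalComplex.homologyMap ((TR (ModuleCat.of A A')).map u) (Int.ofNat p) =
      HomologicalComplex.homologyMap u (Int.ofNat p) ≫
        HomologicalComplex.homologyMap (inclT (CC A 𝒰 F) (ModuleCat.of A A') (1 : A'))
          (Int.ofNat p) := by
    rw [← HomologicalComplex.homologyMap_comp, ← HomologicalComplex.homologyMap_comp, hc]
  have h2 := congrArg (fun f => f.hom x) h1
  rw [← PsiT_incl hsq 𝒰 hU F hcov p]
  exact congrArg (PsiT hsq 𝒰 hU F hcov p) h2

end PsiL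

end Groth.Agent.Lib.PBCH2
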