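import Mathlib
import Groth.Prelude
import Groth.Agent.Lib.PBCNat3_helper2
import Groth.Agent.Lib.BCFib1_helper2
import Groth.Agent.Lib.BCLoc2_helper2
import Groth.Agent.Lib.PBCModel_helper2

/-!
# Naturality of cohomology and base change, IV: the natural package over an arbitrary affine base
(helper2)

For `X` proper of finite presentation over an arbitrary ring `A` and `F` of finite presentation,
flat over `A`: a bounded above complex `L` of finite free `A`-modules with `H^p(L) ≃ H^p(X, F)` and,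
for every `A`-algebra `A'`, a bijection `H^p(L ⊗_A A') ≃ H^p(X', g'^* F)` which is semilinear for the
multiplications by the elements of `A'` and compatible with the pullback of cohomology classes.
APPEND-ONLY once landed.
-/

set_option autoImplicit false
set_option linter.style.haveILetI false
set_option linter.unusedSectionVars false
universe u
open CategoryTheory Limits AlgebraicGeometry TopologicalSpace Opposite TensorProduct

namespace Groth.Agent.Lib.PBCH2

open Groth.Agent.Lib.CechSite Groth.Agent.Lib.BCCechH2 Groth.Agent.Lib.BCSecH2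
  Groth.Agent.Lib.BCExtH2 Groth.Agent.Lib.BCCxH2 QcqsLoc Groth.Agent.Lib.FormalFnH2
  Groth.Agent.Lib.FlatBCH2 Groth.Agent.ExtendScalarsLib Groth.Agent.Lib.BCBaseH2
  Groth.Agent.Lib.BCMainH2 Groth.Agent.Lib.BCAlgH2 Groth.Agent.Lib.BCLocH2

theorem isFlatOver_of_iso' {Y S : Scheme.{u}} (g : Y ⟶ S) {M N : Y.Modules} (e : M ≅ N)
    (h : FlatMod.IsFlatOver g M) : FlatMod.IsFlatOver g N := by
  intro y
  have h1 : Module.Flat (S.presheaf.stalk (g.base y)) ((DerSch.stalkOver g y).obj M) := h y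
  show Module.Flat (S.presheaf.stalk (g.base y)) ((DerSch.stalkOver g y).obj N)
  exact Module.Flat.of_linearEquiv ((DerSch.stalkOver g y).mapIso e).symm.toLinearEquiv

/-- **The Čech model over a Noetherian ring**: a finite affine cover and a finite free complex
universally quasi-isomorphic to the Čech complex. -/
theorem exists_cech_model (A : Type u) [CommRing A] [IsNoetherianRing A] (X : Scheme.{u})
    [X.Over (Spec (CommRingCat.of A))] [IsProper (X ↘ Spec (CommRingCat.of A))]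
    (F : X.Modules) (hF : Coh.IsCoh F)
    (hfl : FlatMod.IsFlatOver (X ↘ Spec (CommRingCat.of A)) F) :
    ∃ (t : ℕ) (𝒰 : ULift.{u} (Fin t) → X.Opens)
      (_ : ∀ s : Finset (ULift.{u} (Fin t)), s.Nonempty → IsAffineOpen (⨅ i ∈ s, 𝒰 i))
      (_ : ⨆ i, 𝒰 i = ⊤) (L : Cx A) (u : L ⟶ CC A 𝒰 F),
      (∀ i, Module.Finite A (L.X i) ∧ Module.Free A (L.X i)) ∧
      (∀ i, (t : ℤ) < i → IsZero (L.X i)) ∧ ∀ M : ModuleCat.{u} A, QuasiIso ((TR M).map u) := by
  classical
  haveI : F.IsQuasicoherent := hF.1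
  haveI : CompactSpace X :=
    QuasiCompact.compactSpace_of_compactSpace (X ↘ Spec (CommRingCat.of A))
  obtain ⟨t, U', hU', hcov'⟩ := exists_affine_cover X
  have hd : ∀ V W : X.Opens, IsAffineOpen V → IsAffineOpen W → IsAffineOpen (V ⊓ W) :=
    inf_affine_of_separated (X ↘ Spec (CommRingCat.of A))
  let 𝒰 : ULift.{u} (Fin t) → X.Opens := fun i => U' i.down
  have hcov : ⨆ i, 𝒰 i = ⊤ := by
    rw [eq_top_iff, ← hcov']
    exact iSup_le fun i => le_iSup 𝒰 ⟨i⟩
  have hU := isAffineOpen_biInf hd 𝒰 (fun i => hU' i.down)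
  have hvan : ∀ (G : X.Modules) [G.IsQuasicoherent] (p : ℕ), t ≤ p →
      Subsingleton (Coh.HH X G p) := fun G _ p hp =>
    AffVanish.HH_subsingleton_of_cover X t U' hU' hcov' hd G p hp
  obtain ⟨L, u, hL, hLz, hu⟩ := exists_L (CC A 𝒰 F) (flat_CC A 𝒰 hU F hfl)
    (finite_homology_CC A 𝒰 hU F hcov hF) (t : ℤ)
    (fun M i hi => isZero_homology_tensor A 𝒰 hU F hcov t hvan M i hi)
  exact ⟨t, 𝒰, hU, hcov, L, u, hL, hLz, hu⟩

/-- multiplication by `a'` on `A'`, as an `A`-linear endomorphism (restated for the package) -/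
noncomputable abbrev mulA'' (A : Type u) [CommRing A] {A' : Type u} [CommRing A'] [Algebra A A']
    (a' : A') : ModuleCat.of A A' ⟶ ModuleCat.of A A' := mulA' (A := A) a'

set_option maxHeartbeats 1600000 in
/-- **The natural package** over an arbitrary ring. -/
theorem natPackage (A : Type u) [CommRing A] (X : Scheme.{u})
    [X.Over (Spec (CommRingCat.of A))] [IsProper (X ↘ Spec (CommRingCat.of A))]
    [LocallyOfFinitePresentation (X ↘ Spec (CommRingCat.of A))]
    (F : X.Modules) [Coh.IsQCoh F] (hfp : CohB1.IsFP F)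
    (hfl : FlatMod.IsFlatOver (X ↘ Spec (CommRingCat.of A)) F) :
    ∃ L : Cx A,
      (∀ i, Module.Finite A (L.X i) ∧ Module.Free A (L.X i)) ∧
      (∃ b : ℤ, ∀ i, b < i → IsZero (L.X i)) ∧
      (∀ i : ℤ, i < 0 → ∀ M : ModuleCat.{u} A, IsZero ((CohIII.TFun L i).obj M)) ∧
      ∀ p : ℕ, ∃ Ψ : L.homology (Int.ofNat p) ≃ₗ[A] Coh.HH X F p,
        ∀ (A' : Type u) [CommRing A'] [Algebra A A'] (X' : Scheme.{u})
          [X'.Over (Spec (CommRingCat.of A'))] (g' : X' ⟶ X)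
          (_ : IsPullback g' (X' ↘ Spec (CommRingCat.of A')) (X ↘ Spec (CommRingCat.of A))
            (Spec.map (CommRingCat.ofHom (algebraMap A A')))),
          ∃ Ψ' : (CohIII.TFun L (Int.ofNat p)).obj (ModuleCat.of A A') ≃+
              Coh.HH X' ((Scheme.Modules.pullback g').obj F) p,
            (∀ (a' : A') (y : (CohIII.TFun L (Int.ofNat p)).obj (ModuleCat.of A A')),
              Ψ' (((CohIII.TFun L (Int.ofNat p)).map (mulA'' A a')).hom y) = a' • Ψ' y) ∧
            (∀ x : L.homology (Int.ofNat p),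
              Ψ' ((HomologicalComplex.homologyMap
                (inclT L (ModuleCat.of A A') (1 : A')) (Int.ofNat p)).hom x) =
                CohPull.pullMod g' F p (Ψ x)) := by
  haveI : F.IsQuasicoherent := ‹Coh.IsQCoh F›
  obtain ⟨A₀, hA₀, X₀, f₀, hprop₀, F₀, hcoh₀, q, hq, ε, hfl₀⟩ :=
    exists_noeth_proper_flat_model (X ↘ Spec (CommRingCat.of A)) F hfp hfl
  haveI : Algebra.FiniteType ℤ ↥A₀ := (Subalgebra.fg_iff_finiteType A₀).mp hA₀
  haveI : IsNoetherianRing ↥A₀ := Algebra.FiniteType.isNoetherianRing ℤ ↥A₀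
  letI oX₀ : X₀.Over (Spec (CommRingCat.of ↥A₀)) := ⟨f₀⟩
  haveI : IsProper (X₀ ↘ Spec (CommRingCat.of ↥A₀)) := hprop₀
  haveI : F₀.IsQuasicoherent := hcoh₀.1
  obtain ⟨t, 𝒰₀, hU₀, hcov₀, L₀, u₀, hL₀, hLz₀, hu₀⟩ := exists_cech_model ↥A₀ X₀ F₀ hcoh₀ hfl₀
  have hq' : IsPullback q (X ↘ Spec (CommRingCat.of A)) (X₀ ↘ Spec (CommRingCat.of ↥A₀))
      (Spec.map (CommRingCat.ofHom (algebraMap ↥A₀ A))) := hq
  -- the data over `A`
  let 𝒰 : ULift.{u} (Fin t) → X.Opens := pre q 𝒰₀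
  have hU : ∀ s : Finset (ULift.{u} (Fin t)), s.Nonempty → IsAffineOpen (⨅ i ∈ s, 𝒰 i) :=
    hU_pre hq' 𝒰₀ hU₀
  have hcov : ⨆ i, 𝒰 i = ⊤ := hcov_pre q 𝒰₀ hcov₀
  haveI hF'q : (PB q F₀).IsQuasicoherent := PBH8.isQuasicoherent_pullback q F₀
  have hfl' : FlatMod.IsFlatOver (X ↘ Spec (CommRingCat.of A)) (PB q F₀) :=
    isFlatOver_of_iso' _ ε.symm hfl
  let L : Cx A := CohIII.bcCx (algebraMap ↥A₀ A) L₀
  let u : L ⟶ CC A 𝒰 (PB q F₀) :=
    ((ModuleCat.extendScalars (algebraMap ↥A₀ A)).mapHomologicalComplex (ComplexShape.up ℤ)).map u₀ ≫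
      (bcIso hq' 𝒰₀ hU₀ F₀).hom
  have hLff : ∀ i, Module.Finite A (L.X i) ∧ Module.Free A (L.X i) := fun i => by
    haveI := (hL₀ i).1
    haveI := (hL₀ i).2
    exact ⟨Module.Finite.equiv (extendScalarsEquivTensor (S := A) (L₀.X i)).symm,
      Module.Free.of_equiv (extendScalarsEquivTensor (S := A) (L₀.X i)).symm⟩
  have hLz : ∀ i, (t : ℤ) < i → IsZero (L.X i) := fun i hi =>
    (ModuleCat.extendScalars (algebraMap ↥A₀ A)).map_isZero (hLz₀ i hi)
  haveI hqi : QuasiIso u := by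
    haveI := quasiIso_bcCx (algebraMap ↥A₀ A) u₀ (hu₀ _)
    infer_instance
  haveI : CompactSpace X :=
    QuasiCompact.compactSpace_of_compactSpace (X ↘ Spec (CommRingCat.of A))
  have hd : ∀ V W : X.Opens, IsAffineOpen V → IsAffineOpen W → IsAffineOpen (V ⊓ W) :=
    inf_affine_of_separated (X ↘ Spec (CommRingCat.of A))
  have hUi : ∀ i : Fin t, IsAffineOpen (𝒰 ⟨i⟩) := fun i => by
    have := hU {⟨i⟩} (Finset.singleton_nonempty _)
    rwa [Finset.iInf_singleton] at this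
  have hcov' : ⨆ i : Fin t, 𝒰 ⟨i⟩ = ⊤ := by
    rw [eq_top_iff, ← hcov]
    exact iSup_le fun i => le_iSup (fun i : Fin t => 𝒰 ⟨i⟩) i.down
  have hvan : ∀ (G : X.Modules) [G.IsQuasicoherent] (p : ℕ), t ≤ p →
      Subsingleton (Coh.HH X G p) := fun G _ p hp =>
    AffVanish.HH_subsingleton_of_cover X t (fun i : Fin t => 𝒰 ⟨i⟩) hUi hcov' hd G p hp
  have hu : ∀ M : ModuleCat.{u} A, QuasiIso ((TR M).map u) := by
    intro M
    refine quasiIso_tensor_of_bound u (fun i => ?_) (flat_CC A 𝒰 hU (PB q F₀) hfl') (t : ℤ)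
      (fun N i hi => ?_) M
    · haveI := (hLff i).1
      haveI := (hLff i).2
      infer_instance
    · have h1 : IsZero (((TR N).obj L).homology i) :=
        isZero_homology_of_isZero_X _ i ((MonoidalCategory.tensorRight N).map_isZero (hLz i hi))
      have h2 := isZero_homology_tensor A 𝒰 hU (PB q F₀) hcov t hvan N i hi
      exact ⟨⟨0, h1.eq_of_src _ _, h2.eq_of_src _ _⟩⟩
  refine ⟨L, hLff, ⟨t, hLz⟩, fun i hi M => ?_, fun p => ?_⟩
  · have hz : IsZero ((CohIII.TFun (CC A 𝒰 (PB q F₀)) i).obj M) := by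
      cases i with
      | ofNat n =>
        exfalso
        have : (0 : ℤ) ≤ Int.ofNat n := Int.natCast_nonneg n
        omega
      | negSucc n =>
        exact isZero_homology_of_isZero_X _ _
          ((MonoidalCategory.tensorRight M).map_isZero (isZero_CC_negSucc A 𝒰 (PB q F₀) n))
    exact IsZero.of_iso hz ((TFunIso u hu i).app M)
  · let Ψ₀ : L.homology (Int.ofNat p) ≃ₗ[A] Coh.HH X (PB q F₀) p :=
      (@asIso _ _ _ _ (HomologicalComplex.homologyMap u (Int.ofNat p))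
        ((quasiIsoAt_iff_isIso_homologyMap _ _).1
          ((quasiIso_iff _).1 hqi (Int.ofNat p)))).toLinearEquiv ≪≫ₗ
        toHHLin A 𝒰 hU hcov (PB q F₀) p
    have hΨ₀ : ∀ x, Ψ₀ x = toHH A 𝒰 hcov (PB q F₀) p
        ((HomologicalComplex.homologyMap u (Int.ofNat p)).hom x) := fun x => rfl
    refine ⟨Ψ₀ ≪≫ₗ Groth.Agent.Lib.StalkFFH2.HHlinEquiv A ε p, ?_⟩
    intro A' _ _ X' _ g' hsq
    let Ψ'₀ : (CohIII.TFun L (Int.ofNat p)).obj (ModuleCat.of A A') ≃+
        Coh.HH X' (PB g' (PB q F₀)) p :=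
      AddEquiv.ofBijective (PsiL hsq 𝒰 hU (PB q F₀) hcov u hu p)
        (PsiL_bijective hsq 𝒰 hU (PB q F₀) hcov u hu p)
    let E' := Groth.Agent.Lib.StalkFFH2.HHlinEquiv A' ((Scheme.Modules.pullback g').mapIso ε) p
    refine ⟨Ψ'₀.trans E'.toAddEquiv, fun a' y => ?_, fun x => ?_⟩
    · show E' (PsiL hsq 𝒰 hU (PB q F₀) hcov u hu p _) = a' • E' (PsiL hsq 𝒰 hU (PB q F₀) hcov u hu p y)
      rw [← map_smul]
      exact congrArg E' (PsiL_mul hsq 𝒰 hU (PB q F₀) hcov u hu a' p y)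
    · show E' (PsiL hsq 𝒰 hU (PB q F₀) hcov u hu p _) = _
      rw [PsiL_incl hsq 𝒰 hU (PB q F₀) hcov u hu p x, ← hΨ₀]
      exact (Groth.Agent.Lib.PullFnH2.pullMod_map g' ε.hom p (Ψ₀ x)).symm

end Groth.Agent.Lib.PBCH2
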