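import Mathlib
import Groth.Prelude
import Groth.Agent.Lib.PBCNat4_helper2
import Groth.Agent.Lib.BCAlg5_helper2

/-!
# Naturality of cohomology and base change, V: the natural package in chain complex form (helper2)
APPEND-ONLY once landed.
-/

set_option autoImplicit false
set_option linter.style.haveILetI false
set_option linter.unusedSectionVars false
universe u
open CategoryTheory Limits AlgebraicGeometry TopologicalSpace Opposite TensorProduct ComplexShape

namespace Groth.Agent.Lib.PBCH2

open Groth.Agent.Lib.BCAlgH2 Groth.Agent.Lib.BCBaseH2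

section Restr

variable {A : Type u} [CommRing A]

/-- **the dictionary** `H_i((L|_{n ↦ -n}) ⊗ -) ≅ H^j(L ⊗ -)` for `-i = j` -/
noncomputable def TFunRestr' (L : Cx A) (i j : ℤ) (hj : -i = j) :
    CohIII.TFun (toChain L) i ≅ CohIII.TFun L j :=
  NatIso.ofComponents (fun M => homologyRestrIso (CohIII.tensorObj L M) i j hj)
    (fun {M M'} g => by
      exact restrictionHomologyIso_hom_naturality (CohIII.tensorMap L g) embeddingDownIntUpInt
        (i + 1) i (i - 1) (by simp) (by simp)
        (i' := j - 1) (j' := j) (k' := j + 1) (by subst hj; simp; ring) hj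
        (by subst hj; simp; ring) (by simp) (by simp))

lemma TFunRestr'_app (L : Cx A) (i j : ℤ) (hj : -i = j) (M : ModuleCat.{u} A) :
    (TFunRestr' L i j hj).app M = homologyRestrIso (CohIII.tensorObj L M) i j hj := rfl

/-- naturality of the homology dictionary -/
lemma homologyRestrIso_naturality {K K' : Cx A} (φ : K ⟶ K') (i j : ℤ) (hj : -i = j) :
    HomologicalComplex.homologyMap
        (HomologicalComplex.restrictionMap φ embeddingDownIntUpInt) i ≫
        (homologyRestrIso K' i j hj).hom =
      (homologyRestrIso K i j hj).hom ≫ HomologicalComplex.homologyMap φ j :=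
  restrictionHomologyIso_hom_naturality φ embeddingDownIntUpInt
    (i + 1) i (i - 1) (by simp) (by simp)
    (i' := j - 1) (j' := j) (k' := j + 1) (by subst hj; simp; ring) hj
    (by subst hj; simp; ring) (by simp) (by simp)

lemma restrictionMap_inclT (L : Cx A) (N : ModuleCat.{u} A) (n : N) :
    HomologicalComplex.restrictionMap (inclT L N n) embeddingDownIntUpInt =
      inclT (toChain L) N n := rfl

end Restr

set_option maxHeartbeats 1600000 in
/-- **The natural package**, chain complex form. -/
theorem natPackageChain (A : Type u) [CommRing A] (X : Scheme.{u})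
    [X.Over (Spec (CommRingCat.of A))] [IsProper (X ↘ Spec (CommRingCat.of A))]
    [LocallyOfFinitePresentation (X ↘ Spec (CommRingCat.of A))]
    (F : X.Modules) [Coh.IsQCoh F] (hfp : CohB1.IsFP F)
    (hfl : FlatMod.IsFlatOver (X ↘ Spec (CommRingCat.of A)) F) :
    ∃ P : ChainComplex (ModuleCat.{u} A) ℤ,
      (∀ i, Module.Finite A (P.X i) ∧ Module.Free A (P.X i)) ∧
      (∃ b : ℤ, ∀ i, i < b → IsZero (P.X i)) ∧
      (∀ i : ℤ, 0 < i → ∀ M : ModuleCat.{u} A, IsZero ((CohIII.TFun P i).obj M)) ∧
      ∀ p : ℕ, ∃ Ψ : P.homology (-(p : ℤ)) ≃ₗ[A] Coh.HH X F p,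
        ∀ (A' : Type u) [CommRing A'] [Algebra A A'] (X' : Scheme.{u})
          [X'.Over (Spec (CommRingCat.of A'))] (g' : X' ⟶ X)
          (_ : IsPullback g' (X' ↘ Spec (CommRingCat.of A')) (X ↘ Spec (CommRingCat.of A))
            (Spec.map (CommRingCat.ofHom (algebraMap A A')))),
          ∃ Ψ' : (CohIII.TFun P (-(p : ℤ))).obj (ModuleCat.of A A') ≃+
              Coh.HH X' ((Scheme.Modules.pullback g').obj F) p,
            (∀ (a' : A') (y : (CohIII.TFun P (-(p : ℤ))).obj (ModuleCat.of A A')),
              Ψ' (((CohIII.TFun P (-(p : ℤ))).map (mulA'' A a')).hom y) = a' • Ψ' y) ∧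
            (∀ x : P.homology (-(p : ℤ)),
              Ψ' ((HomologicalComplex.homologyMap
                (inclT P (ModuleCat.of A A') (1 : A')) (-(p : ℤ))).hom x) =
                CohPull.pullMod g' F p (Ψ x)) := by
  obtain ⟨L, hL, ⟨b, hb⟩, hneg, hpk⟩ := natPackage A X F hfp hfl
  refine ⟨toChain L, fun i => hL (-i), ⟨-b, fun i hi => hb (-i) (by omega)⟩,
    fun i hi M => ?_, fun p => ?_⟩
  · exact IsZero.of_iso (hneg (-i) (by omega) M) ((TFunRestr L i).app M)
  · obtain ⟨Ψ, hΨ⟩ := hpk p
    have hj : -(-(p : ℤ)) = Int.ofNat p := neg_neg _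
    refine ⟨(homologyRestrIso L (-(p : ℤ)) (Int.ofNat p) hj).toLinearEquiv ≪≫ₗ Ψ, ?_⟩
    intro A' _ _ X' _ g' hsq
    obtain ⟨Ψ', h1, h2⟩ := hΨ A' X' g' hsq
    let θ := TFunRestr' L (-(p : ℤ)) (Int.ofNat p) hj
    refine ⟨(θ.app (ModuleCat.of A A')).toLinearEquiv.toAddEquiv.trans Ψ',
      fun a' y => ?_, fun x => ?_⟩
    · have hnat := θ.hom.naturality (mulA'' A (A' := A') a')
      have hn2 := congrArg (fun f => f.hom y) hnat
      show Ψ' ((θ.hom.app (ModuleCat.of A A')).hom
        (((CohIII.TFun (toChain L) (-(p : ℤ))).map (mulA'' A a')).hom y)) = _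
      refine Eq.trans (congrArg Ψ' hn2) ?_
      exact h1 a' _
    · have hnat := homologyRestrIso_naturality (inclT L (ModuleCat.of A A') (1 : A'))
        (-(p : ℤ)) (Int.ofNat p) hj
      rw [restrictionMap_inclT] at hnat
      have hn2 := congrArg (fun f => f.hom x) hnat
      show Ψ' ((θ.hom.app (ModuleCat.of A A')).hom
        ((HomologicalComplex.homologyMap (inclT (toChain L) (ModuleCat.of A A') (1 : A'))
          (-(p : ℤ))).hom x)) = _
      refine Eq.trans (congrArg Ψ' hn2) ?_
      exact h2 _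

end Groth.Agent.Lib.PBCH2
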