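import Mathlib
import Groth.Prelude
import Groth.Agent.Lib.PBCAlg4_helper2
import Groth.Agent.Lib.PBCNat5_helper2

/-!
# Cohomology and base change: the algebra of the natural package (helper2)

APPEND-ONLY once landed.
-/

set_option autoImplicit false
set_option linter.style.haveILetI false
set_option linter.unusedSectionVars false
universe u
open CategoryTheory Limits TensorProduct MonoidalCategory

namespace Groth.Agent.Lib.PBCH2

open Groth.Agent.Lib.FlatBCH2

section Retract

variable {A : Type u} [CommRing A]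

/-- the residue field at the kernel of `A → K'` is an `A`-linear retract of the field `K'` -/
theorem exists_retract_residueField (K' : Type u) [Field K'] [Algebra A K']
    (y : PrimeSpectrum A) (hker : RingHom.ker (algebraMap A K') = y.asIdeal) :
    ∃ (i : y.asIdeal.ResidueField →ₗ[A] K') (r : K' →ₗ[A] y.asIdeal.ResidueField),
      r ∘ₗ i = LinearMap.id := by
  let φ : y.asIdeal.ResidueField →+* K' :=
    Ideal.ResidueField.lift y.asIdeal (algebraMap A K') (le_of_eq hker.symm) (by
      intro a ha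
      show IsUnit (algebraMap A K' a)
      exact IsUnit.mk0 _ (fun h0 => ha (hker ▸ RingHom.mem_ker.mpr h0)))
  letI : Algebra y.asIdeal.ResidueField K' := φ.toAlgebra
  haveI : IsScalarTower A y.asIdeal.ResidueField K' :=
    IsScalarTower.of_algebraMap_eq (fun a =>
      (Ideal.ResidueField.lift_algebraMap y.asIdeal (algebraMap A K') _ _ a).symm)
  let i : y.asIdeal.ResidueField →ₗ[y.asIdeal.ResidueField] K' := Algebra.linearMap _ _
  have hi : LinearMap.ker i = ⊥ := LinearMap.ker_eq_bot.mpr φ.injective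
  obtain ⟨r, hr⟩ := LinearMap.exists_leftInverse_of_injective i hi
  exact ⟨i.restrictScalars A, r.restrictScalars A,
    LinearMap.ext fun z => LinearMap.congr_fun hr z⟩

variable (P : ChainComplex (ModuleCat.{u} A) ℤ)

/-- if `T_p(K')` vanishes then the rank function of `P` vanishes at the kernel of `A → K'` -/
theorem dRank_eq_zero_of_subsingleton_T (p : ℤ) (K' : Type u) [Field K'] [Algebra A K']
    (hK : Subsingleton ((CohIII.TFun P p).obj (ModuleCat.of A K')))
    (y : PrimeSpectrum A) (hker : RingHom.ker (algebraMap A K') = y.asIdeal) :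
    CohIII.dRank P p y = 0 := by
  obtain ⟨i, r, hri⟩ := exists_retract_residueField K' y hker
  have h1 : (CohIII.TFun P p).map (ModuleCat.ofHom i) ≫ (CohIII.TFun P p).map (ModuleCat.ofHom r) =
      𝟙 _ := by
    rw [← Functor.map_comp, ← ModuleCat.ofHom_comp, hri]
    exact (CohIII.TFun P p).map_id _
  have hk : Subsingleton ((CohIII.TFun P p).obj (ModuleCat.of A y.asIdeal.ResidueField)) := by
    refine ⟨fun a b => ?_⟩
    have e : ∀ z : (CohIII.TFun P p).obj (ModuleCat.of A y.asIdeal.ResidueField),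
        ((CohIII.TFun P p).map (ModuleCat.ofHom r)).hom
          (((CohIII.TFun P p).map (ModuleCat.ofHom i)).hom z) = z :=
      fun z => congrArg (fun φ => φ.hom z) h1
    rw [← e a, ← e b]
    exact congrArg _ (Subsingleton.elim _ _)
  haveI : Subsingleton ↑(CohIII.T P p (ModuleCat.of A y.asIdeal.ResidueField)) := hk
  have hz : IsZero ((CohIII.bcCx (algebraMap A y.asIdeal.ResidueField) P).homology p) :=
    (Groth.Agent.TFunCmp5.isZero_bc_iff y.asIdeal.ResidueField P p).mpr
      (ModuleCat.isZero_of_subsingleton _)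
  haveI := ModuleCat.subsingleton_of_isZero hz
  unfold CohIII.dRank
  exact Module.finrank_zero_of_subsingleton

end Retract

section Main

variable {A : Type u} [CommRing A] (P : ChainComplex (ModuleCat.{u} A) ℤ)
  (hP : ∀ i, Module.Finite A (P.X i) ∧ Module.Free A (P.X i))

include hP in
lemma hP_proj : ∀ i, Module.Finite A (P.X i) ∧ Module.Projective A (P.X i) :=
  fun i => ⟨(hP i).1, haveI := (hP i).2; inferInstance⟩

include hP in
/-- **vanishing at a point**: if `T_p(K') = 0` for a field `K'` over `A` then `P` splits in degrees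
`p` and `p + 1` up to an element which is nonzero in `K'` -/
theorem algVan (p : ℤ) (K' : Type u) [Field K'] [Algebra A K']
    (hK : Subsingleton ((CohIII.TFun P p).obj (ModuleCat.of A K'))) :
    ∃ g : A, algebraMap A K' g ≠ 0 ∧ HasGSplit P p g ∧ HasGSplit P (p + 1) g := by
  let y : PrimeSpectrum A := ⟨RingHom.ker (algebraMap A K'), RingHom.ker_isPrime _⟩
  haveI : y.asIdeal.IsPrime := y.isPrime
  have hd := dRank_eq_zero_of_subsingleton_T P p K' hK y rfl
  have hP' := hP_proj P hP
  have h0 := isZero_T_loc_of_dRank P hP' p y hd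
  have hm : (CohIII.TFun (CohIII.bcCx (algebraMap A (Localization.AtPrime y.asIdeal)) P)
      p).PreservesMonomorphisms :=
    ⟨fun {X Y} f _ => ⟨fun a b _ => (h0 X).eq_of_tgt a b⟩⟩
  have he : (CohIII.TFun (CohIII.bcCx (algebraMap A (Localization.AtPrime y.asIdeal)) P)
      p).PreservesEpimorphisms :=
    ⟨fun {X Y} f _ => ⟨fun a b _ => (h0 Y).eq_of_src a b⟩⟩
  have hy1 := (epi_loc_iff' P hP' p y).mp he
  have hy2 : y ∈ Module.freeLocus A (P.opcycles (p + 1 - 1)) := by
    have e : p + 1 - 1 = p := by ring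
    rw [e]
    exact (mono_loc_iff' P hP' p y).mp hm
  obtain ⟨g₁, hg₁, hs₁⟩ := exists_hasGSplit_of_mem_freeLocus P hP' p y hy1
  obtain ⟨g₂, hg₂, hs₂⟩ := exists_hasGSplit_of_mem_freeLocus P hP' (p + 1) y hy2
  refine ⟨g₂ * g₁, ?_, hs₁.mul P p g₂, ?_⟩
  · intro h
    have : g₂ * g₁ ∈ y.asIdeal := RingHom.mem_ker.mpr h
    rcases (y.isPrime.mem_or_mem this) with h' | h'
    · exact hg₂ h'
    · exact hg₁ h'
  · rw [mul_comm]
    exact hs₂.mul P (p + 1) g₁

include hP in
/-- **surjectivity at a point**: if `H_p(P) ⊗ K' → H_p(P ⊗ K')` is surjective for a field `K'` over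
`A` then `P` splits in degree `p` up to an element which is nonzero in `K'` -/
theorem algEpi (p : ℤ) (K' : Type u) [Field K'] [Algebra A K']
    (hsurj : Function.Surjective (betaT P p (ModuleCat.of A K'))) :
    ∃ g : A, algebraMap A K' g ≠ 0 ∧ HasGSplit P p g := by
  let y : PrimeSpectrum A := ⟨RingHom.ker (algebraMap A K'), RingHom.ker_isPrime _⟩
  have hrel : (ComplexShape.down ℤ).Rel p (p - 1) := by simp
  haveI := (hP p).1
  haveI := (hP (p - 1)).1
  haveI := (hP (p - 1)).2
  have hy := mem_freeLocus_of_betaT_surjective P p (p - 1) hrel K' hsurj y rfl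
  obtain ⟨g, hg, hs⟩ := exists_hasGSplit_of_mem_freeLocus P (hP_proj P hP) p y hy
  exact ⟨g, fun h => hg (RingHom.mem_ker.mpr h), hs⟩

end Main

section Consumer

variable {A A' : Type u} [CommRing A] [CommRing A'] [Algebra A A']
  (P : ChainComplex (ModuleCat.{u} A) ℤ) (q : ℤ)
  {H H' : Type u} [AddCommGroup H] [Module A H] [AddCommGroup H'] [Module A' H']
  (Ψ : P.homology q ≃ₗ[A] H) (Ψ' : (CohIII.TFun P q).obj (ModuleCat.of A A') ≃+ H') (t : H →+ H')
  (hmul : ∀ (a' : A') (y : (CohIII.TFun P q).obj (ModuleCat.of A A')),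
    Ψ' (((CohIII.TFun P q).map (mulA'' A a')).hom y) = a' • Ψ' y)
  (hincl : ∀ x : P.homology q,
    Ψ' ((HomologicalComplex.homologyMap (inclT P (ModuleCat.of A A') (1 : A')) q).hom x) =
      t (Ψ x))

include hmul hincl in
lemma Psi'_betaT_tmul (x : P.homology q) (a' : A') :
    Ψ' (betaT P q (ModuleCat.of A A') (x ⊗ₜ[A] a')) = a' • t (Ψ x) := by
  rw [betaT_tmul]
  have h1 : inclT P (ModuleCat.of A A') a' =
      inclT P (ModuleCat.of A A') (1 : A') ≫ CohIII.tensorMap P (mulA'' A a') := by
    rw [inclT_tensorMap]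
    congr 1
    exact (mul_one a').symm
  rw [h1, HomologicalComplex.homologyMap_comp]
  show Ψ' (((CohIII.TFun P q).map (mulA'' A a')).hom
    ((HomologicalComplex.homologyMap (inclT P (ModuleCat.of A A') (1 : A')) q).hom x)) = _
  rw [hmul, hincl]

include hmul hincl in
/-- if `H_q(P) ⊗ A' → H_q(P ⊗ A')` is bijective then the comparison map `t` is a base change -/
theorem isBC_of_betaT_bijective (hβ : Function.Bijective (betaT P q (ModuleCat.of A A'))) :
    IsBC A A' t := by
  let e₀ : A' ⊗[A] H ≃+ H' :=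
    ((TensorProduct.comm A A' H).toAddEquiv.trans
      ((TensorProduct.congr Ψ.symm (LinearEquiv.refl A A')).toAddEquiv)).trans
      ((AddEquiv.ofBijective (betaT P q (ModuleCat.of A A')).toAddMonoidHom hβ).trans Ψ')
  have hform : ∀ (a' : A') (x : H), e₀ (a' ⊗ₜ[A] x) = a' • t x := by
    intro a' x
    show Ψ' (betaT P q (ModuleCat.of A A') ((Ψ.symm x) ⊗ₜ[A] a')) = _
    rw [Psi'_betaT_tmul P q Ψ Ψ' t hmul hincl, LinearEquiv.apply_symm_apply]
  have hsmul : ∀ (b : A') (z : A' ⊗[A] H), e₀ (b • z) = b • e₀ z := by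
    intro b z
    induction z using TensorProduct.induction_on with
    | zero => rw [smul_zero, map_zero, smul_zero]
    | tmul a' x => rw [TensorProduct.smul_tmul', hform, hform, smul_eq_mul, mul_smul]
    | add z z' hz hz' => rw [smul_add, map_add, map_add, hz, hz', smul_add]
  refine ⟨{ e₀ with map_smul' := hsmul }, fun x => ?_⟩
  show e₀ (1 ⊗ₜ[A] x) = t x
  rw [hform, one_smul]

include hmul hincl in
/-- if `P` splits in degree `q` up to an element invertible in `A'` then `t` is a base change -/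
theorem isBC_of_hasGSplit (g : A) (hs : HasGSplit P q g) (hg : IsUnit (algebraMap A A' g)) :
    IsBC A A' t := by
  refine isBC_of_betaT_bijective P q Ψ Ψ' t hmul hincl
    (betaT_bijective_of_hasGSplit P q g hs (ModuleCat.of A A') ?_)
  have h : (fun n : (ModuleCat.of A A') => g • n) = fun n : A' => algebraMap A A' g * n := by
    funext n
    exact Algebra.smul_def g n
  rw [h]
  exact IsUnit.isUnit_iff_mulLeft_bijective.mp hg

include hmul hincl in
/-- if the image of `t` spans then `H_q(P) ⊗ A' → H_q(P ⊗ A')` is surjective -/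
theorem betaT_surjective_of_span (hspan : Submodule.span A' (Set.range t) = ⊤) :
    Function.Surjective (betaT P q (ModuleCat.of A A')) := by
  have hmulb : ∀ (b : A') (ξ : P.homology q ⊗[A] A'),
      Ψ' (betaT P q (ModuleCat.of A A')
        ((LinearMap.lTensor (P.homology q) (LinearMap.mulLeft A b)) ξ)) =
      b • Ψ' (betaT P q (ModuleCat.of A A') ξ) := by
    intro b ξ
    induction ξ using TensorProduct.induction_on with
    | zero => rw [map_zero, map_zero, map_zero, smul_zero]
    | tmul x a' =>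
      show Ψ' (betaT P q (ModuleCat.of A A') (x ⊗ₜ[A] (b * a'))) = _
      rw [Psi'_betaT_tmul P q Ψ Ψ' t hmul hincl, Psi'_betaT_tmul P q Ψ Ψ' t hmul hincl, mul_smul]
    | add z z' hz hz' => rw [map_add, map_add, map_add, map_add, map_add, hz, hz', smul_add]
  have key : ∀ v ∈ Submodule.span A' (Set.range t),
      ∃ ξ : P.homology q ⊗[A] A', Ψ' (betaT P q (ModuleCat.of A A') ξ) = v := by
    intro v hv
    induction hv using Submodule.span_induction with
    | mem v hv =>
      obtain ⟨x, rfl⟩ := hv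
      refine ⟨(Ψ.symm x) ⊗ₜ[A] (1 : A'), ?_⟩
      rw [Psi'_betaT_tmul P q Ψ Ψ' t hmul hincl, one_smul, LinearEquiv.apply_symm_apply]
    | zero => exact ⟨0, by rw [map_zero, map_zero]⟩
    | add v v' _ _ hv hv' =>
      obtain ⟨ξ, rfl⟩ := hv
      obtain ⟨ξ', rfl⟩ := hv'
      exact ⟨ξ + ξ', by rw [map_add, map_add]⟩
    | smul b v _ hv =>
      obtain ⟨ξ, rfl⟩ := hv
      exact ⟨_, hmulb b ξ⟩
  intro w
  obtain ⟨ξ, hξ⟩ := key (Ψ' w) (by rw [hspan]; trivial)
  exact ⟨ξ, Ψ'.injective hξ⟩

end Consumer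

end Groth.Agent.Lib.PBCH2
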