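import Mathlib
import Groth.Prelude
import Groth.Agent.Lib.HomLin3_helper8

set_option autoImplicit false
universe u

open CategoryTheory AlgebraicGeometry TopologicalSpace Opposite
open QcqsLoc GenLocH8 SecOrdH8 FLFH8 QCohExtn RefHullH8 RefBasisH8

/-! Coherence of the sheaf Hom of coherent modules on a locally Noetherian scheme. -/

namespace HomLinH8

variable {X : Scheme.{u}}

theorem rF_self (F : X.Modules) {U : X.Opens} (h : U ≤ U) (s : Γ(F, U)) : rF F h s = s := by
  change F.presheaf.map (homOfLE h).op s = s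
  have : (homOfLE h).op = 𝟙 (op U) := rfl
  rw [this, F.presheaf.map_id]
  rfl

theorem finite_sections_homSh [IsLocallyNoetherian X] (F G : X.Modules) [F.IsQuasicoherent]
    [G.IsQuasicoherent] [SheafOfModules.IsFiniteType (R := X.ringCatSheaf) F]
    [SheafOfModules.IsFiniteType (R := X.ringCatSheaf) G] {U : X.Opens} (hU : IsAffineOpen U) :
    Module.Finite Γ(X, U) Γ(RefHull.homSh F G, U) := by
  haveI : IsNoetherianRing Γ(X, U) := IsLocallyNoetherian.component_noetherian ⟨U, hU⟩
  haveI : Module.Finite Γ(X, U) Γ(F, U) := QCohFT.finite_of_isFiniteType F hU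
  haveI : Module.Finite Γ(X, U) Γ(G, U) := QCohFT.finite_of_isFiniteType G hU
  obtain ⟨k, m, hm⟩ := Module.Finite.exists_fin (R := Γ(X, U)) (M := Γ(F, U))
  let Φ : Γ(RefHull.homSh F G, U) →ₗ[Γ(X, U)] (Fin k → Γ(G, U)) :=
    { toFun := fun l i => evSec l (m i)
      map_add' := fun l l' => funext (fun i => evSec_add_left l l' (m i))
      map_smul' := fun a l => funext (fun i => evSec_smul_left a l (m i)) }
  have hinj : Function.Injective Φ := by
    rw [← LinearMap.ker_eq_bot, LinearMap.ker_eq_bot']
    intro l hl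
    apply homSh_eq_zero_of_evSec F G hU m hm le_rfl
    intro i
    rw [rF_self]
    exact congrFun hl i
  exact Module.Finite.of_injective Φ hinj

/-- The sheaf Hom of two coherent modules on a locally Noetherian scheme is coherent. -/
theorem isCoh_homSh [IsLocallyNoetherian X] (F G : X.Modules) (hF : Coh.IsCoh F)
    (hG : Coh.IsCoh G) : Coh.IsCoh (RefHull.homSh F G) := by
  haveI : F.IsQuasicoherent := hF.1
  haveI : SheafOfModules.IsFiniteType (R := X.ringCatSheaf) F := hF.2
  haveI : G.IsQuasicoherent := hG.1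
  haveI : SheafOfModules.IsFiniteType (R := X.ringCatSheaf) G := hG.2
  haveI := isFinitePresentation_of_isCoh F
  haveI : (RefHull.homSh F G).IsQuasicoherent := isQuasicoherent_homSh F G
  refine ⟨inferInstance, ?_⟩
  exact QCohCrit.isFiniteType_of_sections_cover (RefHull.homSh F G)
    (fun W : X.affineOpens => W.1) (fun W => W.2) (iSup_affineOpens_eq_top X)
    (fun W => finite_sections_homSh F G W.2)

theorem isCoh_dual [IsLocallyNoetherian X] (F : X.Modules) (hF : Coh.IsCoh F) :
    Coh.IsCoh (RefHull.dual F) :=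
  isCoh_homSh F _ hF (CohDevH8.isCoh_structureModule X)

theorem isCoh_ddual [IsLocallyNoetherian X] (F : X.Modules) (hF : Coh.IsCoh F) :
    Coh.IsCoh (RefHull.ddual F) :=
  isCoh_dual _ (isCoh_dual F hF)

end HomLinH8
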