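import Mathlib
import Groth.Prelude
import Groth.Agent.Lib.HomLin4_helper8

set_option autoImplicit false
universe u

open CategoryTheory AlgebraicGeometry TopologicalSpace Opposite
open QcqsLoc GenLocH8 SecOrdH8 FLFH8 QCohExtn RefHullH8 RefBasisH8

/-! Reflexivity of a stalk and bijectivity of the stalk of the biduality map. -/

namespace HomLinH8

variable {X : Scheme.{u}}

theorem evalStalk_stalkMap_bidual (F : X.Modules) (x : X) (v : F.presheaf.stalk x) :
    RefHull.evalStalk (RefHull.dual F) (Coh.structureModule X) x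
      (RefHull.stalkMapₗ (RefHull.bidualMap F) x v) = RefHull.bidualAt F x v := by
  obtain ⟨U, hxU, s, rfl⟩ := TopCat.Presheaf.exists_germ_eq F.presheaf v
  rw [← germ_app (RefHull.bidualMap F) x hxU s, RefHull.evalStalk_germ,
    RefHull.bidualMap_app_apply]

/-- For a coherent module on a locally Noetherian scheme, the stalk at `x` is reflexive exactly
when the biduality map is bijective on the stalks at `x`. -/
theorem isReflexiveAt_iff [IsLocallyNoetherian X] (F : X.Modules) (hF : Coh.IsCoh F) (x : X) :
    RefHull.IsReflexiveAt F x ↔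
      Function.Bijective (RefHull.stalkMapₗ (RefHull.bidualMap F) x) := by
  haveI : F.IsQuasicoherent := hF.1
  haveI : SheafOfModules.IsFiniteType (R := X.ringCatSheaf) F := hF.2
  have hFP : CohB1.IsFP F := isFinitePresentation_of_isCoh F
  have hD := isCoh_dual F hF
  haveI : (RefHull.dual F).IsQuasicoherent := hD.1
  haveI : SheafOfModules.IsFiniteType (R := X.ringCatSheaf) (RefHull.dual F) := hD.2
  have hDFP : CohB1.IsFP (RefHull.dual F) := isFinitePresentation_of_isCoh (RefHull.dual F)
  set ε := CycLenH8.stalkStructureEquiv x with hε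
  set E₁ := LinearEquiv.ofBijective (RefHull.evalStalk F (Coh.structureModule X) x)
    (evalStalk_bijective F _ hFP x) with hE₁
  set E₂ := LinearEquiv.ofBijective (RefHull.evalStalk (RefHull.dual F) (Coh.structureModule X) x)
    (evalStalk_bijective (RefHull.dual F) _ hDFP x) with hE₂
  set D₁ : (RefHull.dual F).presheaf.stalk x ≃ₗ[X.presheaf.stalk x]
      Module.Dual (X.presheaf.stalk x) (F.presheaf.stalk x) :=
    E₁ ≪≫ₗ LinearEquiv.congrRight ε.symm with hD₁
  set Φ : (RefHull.ddual F).presheaf.stalk x ≃ₗ[X.presheaf.stalk x]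
      Module.Dual (X.presheaf.stalk x) (Module.Dual (X.presheaf.stalk x) (F.presheaf.stalk x)) :=
    E₂ ≪≫ₗ LinearEquiv.arrowCongr D₁ ε.symm with hΦ
  have key : ∀ v, Φ (RefHull.stalkMapₗ (RefHull.bidualMap F) x v) =
      Module.Dual.eval (X.presheaf.stalk x) (F.presheaf.stalk x) v := by
    intro v
    apply LinearMap.ext
    intro lam
    rw [hΦ, LinearEquiv.trans_apply, LinearEquiv.arrowCongr_apply, hE₂,
      LinearEquiv.ofBijective_apply, evalStalk_stalkMap_bidual, RefHull.bidualAt_apply,
      Module.Dual.eval_apply]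
    have h1 : RefHull.evalStalk F (Coh.structureModule X) x (D₁.symm lam) = ε.toLinearMap.comp lam := by
      have h2 : D₁ (D₁.symm lam) = lam := D₁.apply_symm_apply lam
      rw [hD₁, LinearEquiv.trans_apply] at h2
      have h3 : E₁ (D₁.symm lam) = RefHull.evalStalk F (Coh.structureModule X) x (D₁.symm lam) :=
        rfl
      rw [← h3]
      have h4 := congrArg (LinearEquiv.congrRight ε.symm).symm h2
      rw [LinearEquiv.symm_apply_apply] at h4
      rw [h4]
      rfl
    rw [h1, LinearMap.comp_apply, LinearEquiv.coe_coe, LinearEquiv.symm_apply_apply]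
  have hcomp : (Module.Dual.eval (X.presheaf.stalk x) (F.presheaf.stalk x) : _ → _) =
      Φ ∘ RefHull.stalkMapₗ (RefHull.bidualMap F) x := funext (fun v => (key v).symm)
  constructor
  · intro h
    have hb : Function.Bijective (Module.Dual.eval (X.presheaf.stalk x) (F.presheaf.stalk x)) :=
      h.bijective_dual_eval'
    rw [hcomp] at hb
    exact (Φ.bijective.of_comp_iff' _).mp hb
  · intro h
    refine ⟨?_⟩
    rw [hcomp]
    exact Φ.bijective.comp h

end HomLinH8
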