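import Mathlib

namespace GDomH8

/-- A Noetherian domain in which every nonzero prime contains a fixed nonzero element `y` has all
primes of height at most one. -/
theorem height_le_one_of_forall_mem {D : Type*} [CommRing D] [IsDomain D] [IsNoetherianRing D]
    (y : D) (hy : y ≠ 0) (h : ∀ P : Ideal D, P.IsPrime → P ≠ ⊥ → y ∈ P) (P : Ideal D)
    [hPp : P.IsPrime] : P.height ≤ 1 := by
  classical
  by_cases hP : P = ⊥
  · subst hP
    rw [Ideal.height_eq_zero_iff_eq_bot.mpr rfl]
    exact zero_le_one
  by_contra hlt
  rw [not_le] at hlt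
  have hyP : y ∈ P := h P hPp hP
  have hMfin : ((Ideal.span {y}).minimalPrimes).Finite :=
    Ideal.finite_minimalPrimes_of_isNoetherianRing D _
  have hMht : ∀ Q ∈ (Ideal.span {y}).minimalPrimes, Q.height ≤ 1 := fun Q hQ =>
    Ideal.height_le_one_of_isPrincipal_of_mem_minimalPrimes _ Q hQ
  have hnot : ¬ ((P : Set D) ⊆ ⋃ Q ∈ (hMfin.toFinset : Set (Ideal D)), ((fun Q => Q) Q : Set D)) := by
    rw [Ideal.subset_union_prime (f := fun Q : Ideal D => Q) ⊥ ⊥
      (fun Q hQ _ _ => (hMfin.mem_toFinset.mp hQ).1.1)]
    rintro ⟨Q, hQ, hPQ⟩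
    have h1 := Ideal.height_mono hPQ
    exact absurd (h1.trans (hMht Q (hMfin.mem_toFinset.mp hQ))) (not_le.mpr hlt)
  obtain ⟨x, hxP, hxM⟩ := Set.not_subset.mp hnot
  have hxM' : ∀ Q ∈ (Ideal.span {y}).minimalPrimes, x ∉ Q := by
    intro Q hQ hxQ
    apply hxM
    simp only [Set.mem_iUnion]
    exact ⟨Q, by simpa using hQ, hxQ⟩
  have hspanx : Ideal.span {x} ≤ P := (Ideal.span_singleton_le_iff_mem _).mpr hxP
  obtain ⟨Q', hQ'min, hQ'P⟩ := Ideal.exists_minimalPrimes_le hspanx
  have hQ'prime : Q'.IsPrime := hQ'min.1.1
  have hxQ' : x ∈ Q' := hQ'min.1.2 (Ideal.mem_span_singleton_self x)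
  have hspany : Ideal.span {y} ≤ P := (Ideal.span_singleton_le_iff_mem _).mpr hyP
  have hQ'ne : Q' ≠ ⊥ := by
    rintro rfl
    have hx0 : x = 0 := by simpa using hxQ'
    obtain ⟨Q, hQmin, -⟩ := Ideal.exists_minimalPrimes_le hspany
    exact hxM' Q hQmin (hx0 ▸ Q.zero_mem)
  have hyQ' : y ∈ Q' := h Q' hQ'prime hQ'ne
  have hspany' : Ideal.span {y} ≤ Q' := (Ideal.span_singleton_le_iff_mem _).mpr hyQ'
  obtain ⟨Q, hQmin, hQQ'⟩ := Ideal.exists_minimalPrimes_le hspany'
  have hQ'ht : Q'.height ≤ 1 :=
    Ideal.height_le_one_of_isPrincipal_of_mem_minimalPrimes _ Q' hQ'min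
  haveI hQprime : Q.IsPrime := hQmin.1.1
  have hQne : Q ≠ ⊥ := by
    rintro rfl
    have := hQmin.1.2 (Ideal.mem_span_singleton_self y)
    exact hy (by simpa using this)
  have hQeq : Q = Q' := by
    by_contra hne
    have hlt' : Q < Q' := lt_of_le_of_ne hQQ' hne
    have h1 := Ideal.height_strict_mono_of_isPrime hlt'
    have h2 : Q.height < 1 := lt_of_lt_of_le h1 hQ'ht
    have h3 : Q.height = 0 := Order.lt_one_iff.mp h2
    exact hQne (Ideal.height_eq_zero_iff_eq_bot.mp h3)
  exact hxM' Q hQmin (hQeq ▸ hxQ')

/-- If a field `L` is a finitely generated algebra over a domain `D ⊆ L`, then there is a nonzero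
`y ∈ D` contained in every nonzero prime of `D`. -/
theorem exists_ne_zero_forall_mem {D L : Type*} [CommRing D] [IsDomain D] [Field L] [Algebra D L]
    [hft : Algebra.FiniteType D L] (hinj : Function.Injective (algebraMap D L)) :
    ∃ y : D, y ≠ 0 ∧ ∀ P : Ideal D, P.IsPrime → P ≠ ⊥ → y ∈ P := by
  classical
  -- L is algebraic over D
  let K := FractionRing D
  letI algKL : Algebra K L := (IsFractionRing.lift (K := K) hinj).toAlgebra
  haveI : IsScalarTower D K L := IsScalarTower.of_algebraMap_eq fun a => by
    show algebraMap D L a = (IsFractionRing.lift (K := K) hinj) (algebraMap D K a)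
    rw [IsFractionRing.lift_algebraMap]
  haveI : Algebra.FiniteType K L := Algebra.FiniteType.of_restrictScalars_finiteType D K L
  haveI : Module.Finite K L := finite_of_finite_type_of_isJacobsonRing K L
  haveI : Algebra.IsAlgebraic K L := Algebra.IsAlgebraic.of_finite K L
  haveI : Algebra.IsAlgebraic D L := IsFractionRing.comap_isAlgebraic_iff.mpr
    (inferInstance : Algebra.IsAlgebraic K L)
  · obtain ⟨s, hs⟩ := hft.out
    obtain ⟨y, hy, hint⟩ := Algebra.IsAlgebraic.exists_integral_multiples D s
    refine ⟨y, hy, ?_⟩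
    intro P hPp hPne
    by_contra hyP
    -- the localization away from y
    let R' := Localization.Away y
    have hyL : IsUnit (algebraMap D L y) :=
      IsUnit.mk0 _ (fun h0 => hy (hinj (by rw [h0, map_zero])))
    letI algR'L : Algebra R' L := (IsLocalization.Away.lift y hyL).toAlgebra
    haveI : IsScalarTower D R' L := IsScalarTower.of_algebraMap_eq fun a => by
      show algebraMap D L a = (IsLocalization.Away.lift y hyL) (algebraMap D R' a)
      rw [IsLocalization.Away.lift_eq]
    -- L is integral over R'
    have hsint : ∀ z ∈ s, IsIntegral R' z := by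
      intro z hz
      have h1 : IsIntegral R' (y • z) := (hint z hz).tower_top
      have hyR' : IsUnit (algebraMap D R' y) := IsLocalization.Away.algebraMap_isUnit y
      obtain ⟨u, hu⟩ := hyR'
      have h2 : z = (↑u⁻¹ : R') • (y • z) := by
        rw [← algebraMap_smul R' y z, hu.symm, smul_smul]
        simp
      rw [h2]
      exact h1.smul _
    have hall : ∀ l : L, IsIntegral R' l := by
      have hle : Algebra.adjoin D (s : Set L) ≤ (integralClosure R' L).restrictScalars D := by
        apply Algebra.adjoin_le
        intro z hz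
        exact hsint z hz
      intro l
      have : l ∈ Algebra.adjoin D (s : Set L) := by rw [hs]; trivial
      exact hle this
    haveI : Algebra.IsIntegral R' L := ⟨hall⟩
    have hinjR' : Function.Injective (algebraMap R' L) := by
      rw [IsLocalization.injective_iff_map_algebraMap_eq (Submonoid.powers y)]
      intro a b
      rw [← IsScalarTower.algebraMap_apply, ← IsScalarTower.algebraMap_apply]
      exact ⟨fun h => by
        have := congrArg (algebraMap R' L) h
        rwa [← IsScalarTower.algebraMap_apply, ← IsScalarTower.algebraMap_apply] at this,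
        fun h => by rw [hinj h]⟩
    have hfield : IsField R' := isField_of_isIntegral_of_isField hinjR' (Field.toIsField L)
    letI := hfield.toField
    have hdisj : Disjoint (Submonoid.powers y : Set D) (P : Set D) := by
      rw [Set.disjoint_left]
      rintro _ ⟨n, rfl⟩ hn
      exact hyP (hPp.mem_of_pow_mem n hn)
    have hcm : Ideal.comap (algebraMap D R') (Ideal.map (algebraMap D R') P) = P :=
      IsLocalization.under_map_of_isPrime_disjoint (Submonoid.powers y) R' hPp hdisj
    rcases Ideal.eq_bot_or_top (Ideal.map (algebraMap D R') P) with h0 | h1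
    · apply hPne
      rw [← hcm, h0]
      ext a
      simp only [Ideal.mem_comap, Ideal.mem_bot]
      constructor
      · intro ha
        apply hinj
        rw [map_zero, IsScalarTower.algebraMap_apply D R' L, ha, map_zero]
      · intro ha
        rw [ha, map_zero]
    · rw [h1, Ideal.comap_top] at hcm
      exact hPp.ne_top hcm.symm

/-- **Goldman domains**: if a field is a finitely generated algebra over a Noetherian subdomain
`D`, then `dim D ≤ 1`. -/
theorem ringKrullDim_le_one {D L : Type*} [CommRing D] [IsDomain D] [IsNoetherianRing D] [Field L]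
    [Algebra D L] [Algebra.FiniteType D L] (hinj : Function.Injective (algebraMap D L)) :
    ringKrullDim D ≤ 1 := by
  obtain ⟨y, hy, h⟩ := exists_ne_zero_forall_mem (D := D) (L := L) hinj
  rw [ringKrullDim_le_iff_height_le]
  intro P hP
  have := height_le_one_of_forall_mem y hy h P
  exact_mod_cast this

/-- In the same situation the field is algebraic over `D`. -/
theorem isAlgebraic_of_finiteType {D L : Type*} [CommRing D] [IsDomain D] [Field L]
    [Algebra D L] [Algebra.FiniteType D L] (hinj : Function.Injective (algebraMap D L)) :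
    Algebra.IsAlgebraic D L := by
  let K := FractionRing D
  letI algKL : Algebra K L := (IsFractionRing.lift (K := K) hinj).toAlgebra
  haveI : IsScalarTower D K L := IsScalarTower.of_algebraMap_eq fun a => by
    show algebraMap D L a = (IsFractionRing.lift (K := K) hinj) (algebraMap D K a)
    rw [IsFractionRing.lift_algebraMap]
  haveI : Algebra.FiniteType K L := Algebra.FiniteType.of_restrictScalars_finiteType D K L
  haveI : Module.Finite K L := finite_of_finite_type_of_isJacobsonRing K L
  haveI : Algebra.IsAlgebraic K L := Algebra.IsAlgebraic.of_finite K L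
  exact IsFractionRing.comap_isAlgebraic_iff.mpr (inferInstance : Algebra.IsAlgebraic K L)

end GDomH8
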