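import Mathlib
import Groth.Agent.Lib.GDomOld_helper8
import Groth.Agent.Lib.DimFT3_helper8
import Groth.Agent.Lib.SchFT_helper8
import Groth.Agent.Lib.ClosHt_helper8

universe u
open AlgebraicGeometry CategoryTheory

namespace LocClosedPtH8

/-- A prime `q` of a Noetherian ring which is an open point of `V(q)` has `dim B/q ≤ 1`. -/
theorem coheight_le_one_of_isOpen {B : Type*} [CommRing B] [IsNoetherianRing B]
    (q : PrimeSpectrum B) (O : Set (PrimeSpectrum B)) (hO : IsOpen O) (hq : q ∈ O)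
    (h : ∀ P : PrimeSpectrum B, q < P → P ∉ O) : Order.coheight q ≤ 1 := by
  obtain ⟨s, hs⟩ := (PrimeSpectrum.isOpen_iff O).mp hO
  have hqs : q ∉ PrimeSpectrum.zeroLocus s := by
    rw [← hs]; exact fun hc => hc hq
  rw [PrimeSpectrum.mem_zeroLocus, Set.not_subset] at hqs
  obtain ⟨b, hbs, hbq⟩ := hqs
  have hbP : ∀ P : PrimeSpectrum B, q < P → b ∈ P.asIdeal := by
    intro P hP
    have : P ∈ Oᶜ := h P hP
    rw [hs, PrimeSpectrum.mem_zeroLocus] at this
    exact this hbs
  haveI := q.2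
  have hdim : ringKrullDim (B ⧸ q.asIdeal) ≤ 1 := by
    rw [ringKrullDim_le_iff_height_le]
    intro P' hP'
    have hg : Ideal.Quotient.mk q.asIdeal b ≠ 0 := by
      rw [Ne, Ideal.Quotient.eq_zero_iff_mem]; exact hbq
    have := GDomH8.height_le_one_of_forall_mem (Ideal.Quotient.mk q.asIdeal b) hg (fun Q hQ hQne => by
      set P : PrimeSpectrum B := ⟨Q.comap (Ideal.Quotient.mk q.asIdeal), Ideal.comap_isPrime _ _⟩
        with hPdef
      have hle : q ≤ P := by
        intro a ha
        show Ideal.Quotient.mk q.asIdeal a ∈ Q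
        rw [Ideal.Quotient.eq_zero_iff_mem.mpr ha]
        exact Q.zero_mem
      have hne : q ≠ P := by
        intro heq
        apply hQne
        rw [eq_bot_iff]
        intro a' ha'
        obtain ⟨a, rfl⟩ := Ideal.Quotient.mk_surjective a'
        have : a ∈ P.asIdeal := ha'
        rw [← heq] at this
        rw [Ideal.mem_bot, Ideal.Quotient.eq_zero_iff_mem]
        exact this
      exact hbP P (lt_of_le_of_ne hle hne)) P'
    exact_mod_cast this
  rw [Groth.Agent.DimFT3H8.ringKrullDim_quotient_eq_coheight q.asIdeal] at hdim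
  exact_mod_cast hdim

/-- No chain of length two starts at a locally closed point of a locally Noetherian scheme. -/
theorem no_chain {X : Scheme.{u}} [IsLocallyNoetherian X] (x : X) (U : Set X) (hU : IsOpen U)
    (hxU : x ∈ U) (hUx : ∀ z ∈ U, x ⤳ z → z = x) (y y' : X) (hxy : x ⤳ y) (hyy' : y ⤳ y')
    (hne : x ≠ y) (hne' : y ≠ y') : False := by
  obtain ⟨_, ⟨W, hW, rfl⟩, hy'W, -⟩ :=
    X.isBasis_affineOpens.exists_subset_of_mem_open (Set.mem_univ y') isOpen_univ
  have hyW : y ∈ W := hyy'.mem_open W.2 hy'W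
  have hxW : x ∈ W := hxy.mem_open W.2 hyW
  haveI : IsNoetherianRing Γ(X, W) := IsLocallyNoetherian.component_noetherian ⟨W, hW⟩
  set qx := hW.primeIdealOf ⟨x, hxW⟩ with hqx
  set qy := hW.primeIdealOf ⟨y, hyW⟩ with hqy
  set qy' := hW.primeIdealOf ⟨y', hy'W⟩ with hqy'
  have hinj : ∀ a b : X, ∀ (ha : a ∈ W) (hb : b ∈ W),
      hW.primeIdealOf ⟨a, ha⟩ = hW.primeIdealOf ⟨b, hb⟩ → a = b := by
    intro a b ha hb hab
    have h1 := hW.fromSpec_primeIdealOf ⟨a, ha⟩
    have h2 := hW.fromSpec_primeIdealOf ⟨b, hb⟩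
    rw [hab] at h1
    exact h1.symm.trans h2
  have h1 : qx < qy := lt_of_le_of_ne
    ((Groth.Agent.SchFTH8.specializes_iff_primeIdealOf_le hW x y hxW hyW).mp hxy)
    (fun h => hne (hinj x y hxW hyW h))
  have h2 : qy < qy' := lt_of_le_of_ne
    ((Groth.Agent.SchFTH8.specializes_iff_primeIdealOf_le hW y y' hyW hy'W).mp hyy')
    (fun h => hne' (hinj y y' hyW hy'W h))
  have hco : Order.coheight qx ≤ 1 := by
    refine coheight_le_one_of_isOpen qx (hW.fromSpec ⁻¹' U) (hU.preimage hW.fromSpec.continuous)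
      ?_ ?_
    · show hW.fromSpec qx ∈ U
      rw [hqx, hW.fromSpec_primeIdealOf]
      exact hxU
    · intro P hP hPU
      have hz : hW.fromSpec P ∈ U := hPU
      have hzW : hW.fromSpec P ∈ W := Groth.Agent.SchFTH8.fromSpec_mem hW P
      have hPeq : hW.primeIdealOf ⟨hW.fromSpec P, hzW⟩ = P :=
        Groth.Agent.SchFTH8.primeIdealOf_fromSpec hW P hzW
      have hsp : x ⤳ hW.fromSpec P := by
        rw [Groth.Agent.SchFTH8.specializes_iff_primeIdealOf_le hW x _ hxW hzW, hPeq]
        exact hP.le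
      have := hUx _ hz hsp
      have h3 : P = qx := by
        rw [← hPeq, hqx]
        congr 1
        exact Subtype.ext this
      exact (ne_of_gt hP) h3
  have h3 := Order.coheight_add_one_le h1
  have h4 := Order.coheight_add_one_le h2
  have h5 : (2 : ℕ∞) ≤ Order.coheight qx := by
    calc (2 : ℕ∞) = 0 + 1 + 1 := by norm_num
      _ ≤ Order.coheight qy' + 1 + 1 := by gcongr; exact bot_le
      _ ≤ Order.coheight qy + 1 := by gcongr
      _ ≤ Order.coheight qx := h3
  have h6 := h5.trans hco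
  norm_num at h6

end LocClosedPtH8
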