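import Mathlib
import Groth.Prelude
import Groth.Agent.Lib.HomLin5_helper8
import Groth.Agent.Lib.Desc1_helper8
import Groth.Agent.S4712

set_option autoImplicit false
universe u

open CategoryTheory AlgebraicGeometry TopologicalSpace Opposite
open QcqsLoc GenLocH8 SecOrdH8 FLFH8 QCohExtn RefHullH8 RefBasisH8

/-! Closed points of locally Noetherian schemes; generization of bijectivity on stalks. -/

namespace HomLinH8

variable {X : Scheme.{u}}

/-- Every point of a locally Noetherian scheme specializes to a closed point. -/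
theorem exists_isClosed_specializes [IsLocallyNoetherian X] (y : X) :
    ∃ x : X, y ⤳ x ∧ IsClosed ({x} : Set X) := by
  obtain ⟨_, ⟨U, hU : IsAffineOpen U, rfl⟩, hyU, -⟩ :=
    (X.isBasis_affineOpens).exists_subset_of_mem_open (Set.mem_univ y) isOpen_univ
  have hy : y ∈ U := hyU
  obtain ⟨𝔪, h𝔪, hle⟩ := Ideal.exists_le_maximal (hU.primeIdealOf ⟨y, hy⟩).asIdeal
    (hU.primeIdealOf ⟨y, hy⟩).isPrime.ne_top
  set q : PrimeSpectrum Γ(X, U) := ⟨𝔪, h𝔪.isPrime⟩ with hq
  set x₀ := hU.fromSpec q with hx₀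
  have hx₀U : x₀ ∈ U := Groth.Agent.SchFTH8.fromSpec_mem hU q
  have hpx₀ : hU.primeIdealOf ⟨x₀, hx₀U⟩ = q := Groth.Agent.SchFTH8.primeIdealOf_fromSpec hU q hx₀U
  have hyx₀ : y ⤳ x₀ := by
    rw [Groth.Agent.SchFTH8.specializes_iff_primeIdealOf_le hU y x₀ hy hx₀U, hpx₀]
    exact hle
  have hcl : ∀ z ∈ U, x₀ ⤳ z → z = x₀ := by
    intro z hz hsp
    rw [Groth.Agent.SchFTH8.specializes_iff_primeIdealOf_le hU x₀ z hx₀U hz, hpx₀] at hsp
    have h1 : 𝔪 ≤ (hU.primeIdealOf ⟨z, hz⟩).asIdeal := hsp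
    have h2 : 𝔪 = (hU.primeIdealOf ⟨z, hz⟩).asIdeal :=
      h𝔪.eq_of_le (hU.primeIdealOf ⟨z, hz⟩).isPrime.ne_top h1
    have h3 : hU.primeIdealOf ⟨z, hz⟩ = hU.primeIdealOf ⟨x₀, hx₀U⟩ := by
      rw [hpx₀]
      exact PrimeSpectrum.ext h2.symm
    have h4 := hU.fromSpec_primeIdealOf ⟨z, hz⟩
    have h5 := hU.fromSpec_primeIdealOf ⟨x₀, hx₀U⟩
    rw [h3] at h4
    exact h4.symm.trans h5
  have hlc : IsLocallyClosed ({x₀} : Set X) := by
    refine ⟨U, closure {x₀}, U.isOpen, isClosed_closure, ?_⟩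
    apply Set.Subset.antisymm
    · rintro _ rfl
      exact ⟨hx₀U, subset_closure rfl⟩
    · rintro z ⟨hzU, hzcl⟩
      exact hcl z hzU (specializes_iff_mem_closure.mpr hzcl)
  obtain ⟨-, h2⟩ := Groth.Agent.S4712.result X x₀ hlc
  by_cases hx₀cl : IsClosed ({x₀} : Set X)
  · exact ⟨x₀, hyx₀, hx₀cl⟩
  · have : ∃ z ∈ closure ({x₀} : Set X), z ≠ x₀ := by
      by_contra hcon
      push Not at hcon
      apply hx₀cl
      have : closure ({x₀} : Set X) = {x₀} := by
        apply Set.Subset.antisymm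
        · intro z hz
          exact hcon z hz
        · exact subset_closure
      rw [← this]
      exact isClosed_closure
    obtain ⟨z, hz, hne⟩ := this
    exact ⟨z, hyx₀.trans (specializes_iff_mem_closure.mpr hz), h2 z hz hne⟩


theorem isUnit_germ_of_primeCompl {U : X.Opens} (hU : IsAffineOpen U) {y : X} (hy : y ∈ U)
    (t : (hU.primeIdealOf ⟨y, hy⟩).asIdeal.primeCompl) :
    IsUnit (X.presheaf.germ U y hy (t : Γ(X, U))) :=
  (Scheme.mem_basicOpen _ _ _ hy).mp (mem_basicOpen_of_notMem_prime hU hy t.2)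

/-- Elements of the stalk at a generization are fractions of elements of the stalk. -/
theorem exists_smul_eq_stalkSpecializes (F : X.Modules) [F.IsQuasicoherent] {x y : X} (h : y ⤳ x)
    (z : F.presheaf.stalk y) :
    ∃ (a : F.presheaf.stalk x) (s : X.presheaf.stalk x),
      IsUnit (X.presheaf.stalkSpecializes h s) ∧
        X.presheaf.stalkSpecializes h s • z = F.presheaf.stalkSpecializes h a := by
  obtain ⟨_, ⟨U, hU : IsAffineOpen U, rfl⟩, hxU, -⟩ :=
    (X.isBasis_affineOpens).exists_subset_of_mem_open (Set.mem_univ x) isOpen_univ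
  have hx : x ∈ U := hxU
  have hy : y ∈ U := h.mem_open U.isOpen hx
  letI := StalkLocH8.modSec F hy
  haveI := StalkLocH8.isLocalizedModule_germLin F hU hy
  obtain ⟨⟨m, t⟩, ht⟩ := IsLocalizedModule.surj (hU.primeIdealOf ⟨y, hy⟩).asIdeal.primeCompl
    (StalkLocH8.germLin F hy) z
  have ht' : X.presheaf.germ U y hy (t : Γ(X, U)) • z = F.presheaf.germ U y hy m := ht
  refine ⟨F.presheaf.germ U x hx m, X.presheaf.germ U x hx (t : Γ(X, U)), ?_, ?_⟩
  · rw [stalkSpecializes_germX]
    exact isUnit_germ_of_primeCompl hU hy t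
  · rw [stalkSpecializes_germX, stalkSpecializes_germ]
    exact ht'

/-- Elements of the stalk dying at a generization are killed by a function not vanishing
there. -/
theorem exists_smul_eq_zero_of_stalkSpecializes (F : X.Modules) [F.IsQuasicoherent] {x y : X}
    (h : y ⤳ x) (a : F.presheaf.stalk x) (ha : F.presheaf.stalkSpecializes h a = 0) :
    ∃ s : X.presheaf.stalk x, IsUnit (X.presheaf.stalkSpecializes h s) ∧ s • a = 0 := by
  obtain ⟨_, ⟨U, hU : IsAffineOpen U, rfl⟩, hxU, -⟩ :=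
    (X.isBasis_affineOpens).exists_subset_of_mem_open (Set.mem_univ x) isOpen_univ
  have hx : x ∈ U := hxU
  have hy : y ∈ U := h.mem_open U.isOpen hx
  obtain ⟨m, u, hu⟩ : ∃ (m : Γ(F, U)) (u : (hU.primeIdealOf ⟨x, hx⟩).asIdeal.primeCompl),
      X.presheaf.germ U x hx (u : Γ(X, U)) • a = F.presheaf.germ U x hx m := by
    letI := StalkLocH8.modSec F hx
    haveI := StalkLocH8.isLocalizedModule_germLin F hU hx
    obtain ⟨⟨m, u⟩, hu⟩ := IsLocalizedModule.surj (hU.primeIdealOf ⟨x, hx⟩).asIdeal.primeCompl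
      (StalkLocH8.germLin F hx) a
    exact ⟨m, u, hu⟩
  have h1 : F.presheaf.germ U y hy m = 0 := by
    have := congrArg (F.presheaf.stalkSpecializes h) hu
    rw [stalkSpecializes_smul, ha, smul_zero, stalkSpecializes_germ] at this
    exact this.symm
  obtain ⟨t, ht⟩ : ∃ t : (hU.primeIdealOf ⟨y, hy⟩).asIdeal.primeCompl,
      (t : Γ(X, U)) • m = 0 := by
    letI := StalkLocH8.modSec F hy
    haveI := StalkLocH8.isLocalizedModule_germLin F hU hy
    obtain ⟨t, ht⟩ := (IsLocalizedModule.eq_zero_iff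
      (hU.primeIdealOf ⟨y, hy⟩).asIdeal.primeCompl (StalkLocH8.germLin F hy)).mp h1
    exact ⟨t, ht⟩
  refine ⟨X.presheaf.germ U x hx (t : Γ(X, U)) * X.presheaf.germ U x hx (u : Γ(X, U)), ?_, ?_⟩
  · rw [map_mul, stalkSpecializes_germX, stalkSpecializes_germX]
    refine (isUnit_germ_of_primeCompl hU hy t).mul ?_
    rw [← stalkSpecializes_germX h U hx]
    exact (isUnit_germ_of_primeCompl hU hx u).map (X.presheaf.stalkSpecializes h).hom
  · rw [mul_smul, hu, ← Mero.germ_smul, ht, map_zero]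

/-- Bijectivity of the stalk maps of a morphism of quasi-coherent modules generizes. -/
theorem stalkMap_bijective_of_specializes {A B : X.Modules} [A.IsQuasicoherent]
    [B.IsQuasicoherent] (φ : A ⟶ B) {x y : X} (h : y ⤳ x)
    (hx : Function.Bijective (RefHull.stalkMapₗ φ x)) :
    Function.Bijective (RefHull.stalkMapₗ φ y) := by
  constructor
  · rw [injective_iff_map_eq_zero]
    intro z hz
    obtain ⟨a, s, hs, hsa⟩ := exists_smul_eq_stalkSpecializes A h z
    have h1 : B.presheaf.stalkSpecializes h (RefHull.stalkMapₗ φ x a) = 0 := by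
      rw [stalkSpecializes_stalkMap, ← hsa, map_smul, hz, smul_zero]
    obtain ⟨s', hs', hs'a⟩ := exists_smul_eq_zero_of_stalkSpecializes B h _ h1
    rw [← map_smul] at hs'a
    have h2 : s' • a = 0 := hx.1 (hs'a.trans (map_zero _).symm)
    have h3 := congrArg (A.presheaf.stalkSpecializes h) h2
    rw [stalkSpecializes_smul, map_zero] at h3
    have h4 : A.presheaf.stalkSpecializes h a = 0 := by
      obtain ⟨u, hu⟩ := hs'
      rw [← hu] at h3
      have := congrArg (fun w => (↑u⁻¹ : X.presheaf.stalk y) • w) h3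
      simpa [smul_smul] using this
    rw [h4] at hsa
    obtain ⟨u, hu⟩ := hs
    rw [← hu] at hsa
    have := congrArg (fun w => (↑u⁻¹ : X.presheaf.stalk y) • w) hsa
    simpa [smul_smul] using this
  · intro w
    obtain ⟨b, s, hs, hsb⟩ := exists_smul_eq_stalkSpecializes B h w
    obtain ⟨a, rfl⟩ := hx.2 b
    rw [stalkSpecializes_stalkMap] at hsb
    obtain ⟨u, hu⟩ := hs
    refine ⟨(↑u⁻¹ : X.presheaf.stalk y) • A.presheaf.stalkSpecializes h a, ?_⟩
    rw [map_smul, ← hsb, ← hu, smul_smul, Units.inv_mul, one_smul]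

end HomLinH8

namespace HomLinH8

variable {X : Scheme.{u}}

/-- Reflexivity of a coherent module on a locally Noetherian scheme is a stalkwise property, and
it suffices to test it at the closed points. -/
theorem isReflexive_tfae [IsLocallyNoetherian X] (F : X.Modules) (hF : Coh.IsCoh F) :
    [RefHull.IsReflexive F, ∀ x : X, RefHull.IsReflexiveAt F x,
      ∀ x : X, IsClosed ({x} : Set X) → RefHull.IsReflexiveAt F x].TFAE := by
  tfae_have 1 → 2 := by
    intro h x
    haveI : IsIso (RefHull.bidualMap F) := h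
    exact (isReflexiveAt_iff F hF x).mpr (stalkMap_bijective_of_isIso _ x)
  tfae_have 2 → 3 := fun h x _ => h x
  tfae_have 3 → 1 := by
    intro h
    haveI : F.IsQuasicoherent := hF.1
    haveI : (RefHull.ddual F).IsQuasicoherent := (isCoh_ddual F hF).1
    apply DescH8.isIso_of_stk_bijective
    intro y
    obtain ⟨x, hyx, hx⟩ := exists_isClosed_specializes y
    exact stalkMap_bijective_of_specializes _ hyx ((isReflexiveAt_iff F hF x).mp (h x hx))
  tfae_finish

end HomLinH8
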