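import Mathlib
import Groth.Prelude.Def_CAlg
import Groth.Agent.Lib.Depth_helper5
import Groth.Agent.Lib.DepthRingChange_helper5
import Groth.Agent.Lib.Regular_helper5
import Groth.Agent.Lib.Regular5_helper5

/-!
# Maximal Cohen–Macaulay modules over regular local rings are free (helper5)
-/

set_option autoImplicit false
universe u

namespace Groth.Agent.MCMFree

open IsLocalRing

theorem free_aux : ∀ (n : ℕ) (R : Type u) [CommRing R] [IsRegularLocalRing R] (M : Type u)
    [AddCommGroup M] [Module R M] [Module.Finite R M],
    (maximalIdeal R).spanFinrank = n → LocCoh.depth R M = (n : ℕ∞) → Module.Free R M := by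
  intro n
  induction n with
  | zero =>
    intro R _ _ M _ _ _ hn _
    have hbot : maximalIdeal R = ⊥ :=
      (Submodule.spanFinrank_eq_zero_iff_eq_bot (IsNoetherian.noetherian _)).mp hn
    have hfield : IsField R := IsLocalRing.isField_iff_maximalIdeal_eq.mpr hbot
    letI := hfield.toField
    exact Module.Free.of_divisionRing R M
  | succ n ih =>
    intro R _ _ M _ _ _ hn hdepth
    classical
    have hm : maximalIdeal R ≠ ⊥ := by
      intro h
      rw [h, Submodule.spanFinrank_bot] at hn
      omega
    have h1 : 1 ≤ LocCoh.idealDepth (maximalIdeal R) M := by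
      change 1 ≤ LocCoh.depth R M
      rw [hdepth]
      exact_mod_cast Nat.succ_le_succ (Nat.zero_le n)
    obtain ⟨x, hxm, hx2, hxS⟩ := Groth.Agent.RegularLib.exists_mem_not_mem_sq_of_finite R hm
      (associatedPrimes R M) (associatedPrimes.finite R M)
      (fun p hp => hp.isPrime) (fun p hp hpm => by
        exact Groth.Agent.DepthLib.not_one_le_idealDepth_of_le_associatedPrime
          (maximalIdeal R) M p hp hpm.ge h1)
    have hreg : IsSMulRegular M x := by
      by_contra hnot
      have : x ∈ ({ r | IsSMulRegular M r }ᶜ : Set R) := hnot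
      rw [← biUnion_associatedPrimes_eq_compl_regular R M] at this
      obtain ⟨p, hp, hxp⟩ := Set.mem_iUnion₂.mp this
      exact hxS p hp hxp
    obtain ⟨hregq, hcard⟩ := Groth.Agent.RegularLib.quotient_of_not_mem_sq R x hxm hx2
    haveI : IsLocalHom (algebraMap R (R ⧸ Ideal.span {x})) :=
      IsLocalHom.of_surjective _ Ideal.Quotient.mk_surjective
    have hd1 := Groth.Agent.DepthLib.idealDepth_quotSMulTop_add_one (maximalIdeal R) M hxm hreg
    have hd2 : LocCoh.depth R (QuotSMulTop x M) = (n : ℕ∞) := by
      change LocCoh.idealDepth (maximalIdeal R) (QuotSMulTop x M) = _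
      change _ + 1 = LocCoh.depth R M at hd1
      rw [hdepth] at hd1
      have h3 : LocCoh.idealDepth (maximalIdeal R) (QuotSMulTop x M) + 1 = (n : ℕ∞) + 1 := by
        rw [hd1]; push_cast; rfl
      exact (ENat.add_left_injective_of_ne_top (by simp)) h3
    have hd3 := Groth.Agent.DepthLib.depth_eq_of_isLocalHom R (R ⧸ Ideal.span {x})
      (QuotSMulTop x M)
    haveI : Module.Finite (R ⧸ Ideal.span {x}) (QuotSMulTop x M) :=
      Module.Finite.of_restrictScalars_finite R _ _
    have hfree : Module.Free (R ⧸ Ideal.span {x}) (QuotSMulTop x M) :=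
      ih (R ⧸ Ideal.span {x}) (QuotSMulTop x M) (by omega) (by rw [← hd3, hd2])
    have hjac : x ∈ (⊥ : Ideal R).jacobson := by
      rw [IsLocalRing.jacobson_eq_maximalIdeal ⊥ bot_ne_top]
      exact hxm
    haveI : Module.FinitePresentation R M := Module.finitePresentation_of_finite R M
    exact (Module.free_quotSMulTop_iff_free R M hjac hreg).mp hfree

theorem free_of_depth_eq_dim (R : Type u) [CommRing R]
    [IsRegularLocalRing R] (M : Type u) [AddCommGroup M] [Module R M] [Module.Finite R M]
    (h : ((LocCoh.depth R M : ℕ∞) : WithBot ℕ∞) = ringKrullDim R) : Module.Free R M := by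
  refine free_aux _ R M rfl ?_
  have hA : ((maximalIdeal R).spanFinrank : WithBot ℕ∞) = ringKrullDim R :=
    IsRegularLocalRing.spanFinrank_maximalIdeal
  rw [← hA] at h
  exact_mod_cast h

end Groth.Agent.MCMFree
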