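import Mathlib
import Groth.Prelude
import Groth.Agent.Lib.HomLin6_helper8
import Groth.Agent.Lib.ExtTop_helper5
import Groth.Agent.Lib.DepthLoc_helper5
import Groth.Agent.Lib.MCMFree_helper5
import Groth.Agent.Lib.DepthRefl_helper5
import Groth.Agent.Lib.GlDim_helper5

set_option autoImplicit false
universe u

open CategoryTheory AlgebraicGeometry TopologicalSpace Opposite IsLocalRing

/-! Reflexive modules over regular local rings of dimension at most two are free. -/

namespace ReflFreeH8

theorem free_of_reflexive_of_dim_le_two (R : Type u) [CommRing R] [IsRegularLocalRing R]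
    (M : Type u) [AddCommGroup M] [Module R M] [Module.Finite R M] [Module.IsReflexive R M]
    (hd : ringKrullDim R ≤ 2) : Module.Free R M := by
  by_cases hM : Subsingleton M
  · exact Module.Free.of_subsingleton R M
  haveI : Nontrivial M := not_subsingleton_iff_nontrivial.mp hM
  obtain ⟨d, hdR⟩ := Groth.Agent.GlDim.exists_dim R
  have hd2 : d ≤ 2 := by
    rw [hdR] at hd
    exact_mod_cast hd
  apply Groth.Agent.MCMFree.free_of_depth_eq_dim
  apply le_antisymm
  · exact (Groth.Agent.DepthLib.depth_le_supportDim R M).trans
      (Module.supportDim_le_ringKrullDim R M)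
  · rw [hdR]
    have h1 := Groth.Agent.DepthLib.reflexive_min_depth (maximalIdeal R) M
    rw [Groth.Agent.ExtTop.regular_depth R d hdR] at h1
    have h2 : min (2 : ℕ∞) (d : ℕ∞) = d := min_eq_right (by exact_mod_cast hd2)
    rw [h2] at h1
    unfold LocCoh.depth
    exact_mod_cast h1

end ReflFreeH8
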