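import Mathlib
import Groth.Prelude
import Groth.Agent.Lib.ReflFree1_helper8

set_option autoImplicit false
universe u

open CategoryTheory AlgebraicGeometry TopologicalSpace Opposite IsLocalRing

/-! Duals and Homs into reflexive modules over Noetherian domains are reflexive. -/

namespace ReflHomH8

variable (R : Type u) [CommRing R] [IsDomain R] [IsNoetherianRing R]

/-- The dual of a finite module over a Noetherian domain is reflexive. -/
theorem isReflexive_dual (P : Type u) [AddCommGroup P] [Module R P] [Module.Finite R P] :
    Module.IsReflexive R (Module.Dual R P) := by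
  haveI : Module.FinitePresentation R P := Module.finitePresentation_of_finite R P
  haveI : Module.Finite R (Module.Dual R P) := Groth.Agent.DepthLib.finite_hom P R
  haveI : Module.FinitePresentation R (Module.Dual R P) := Module.finitePresentation_of_finite R _
  set e := Module.Dual.eval R P with he
  set e' := Module.Dual.eval R (Module.Dual R P) with he'
  have hleft : ∀ θ, e.dualMap (e' θ) = θ := fun θ => by
    apply LinearMap.ext
    intro p
    rfl
  haveI : Module.Finite (FractionRing R) (LocalizedModule (nonZeroDivisors R) P) :=
    Module.Finite.of_isLocalizedModule (nonZeroDivisors R) (Rₚ := FractionRing R)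
      (LocalizedModule.mkLinearMap (nonZeroDivisors R) P)
  have hsurjK : Function.Surjective (Module.Dual.eval (FractionRing R)
      (LocalizedModule (nonZeroDivisors R) P)) :=
    (Module.bijective_dual_eval (FractionRing R) (LocalizedModule (nonZeroDivisors R) P)).2
  refine ⟨⟨Function.LeftInverse.injective (g := e.dualMap) hleft, ?_⟩⟩
  intro Θ
  refine ⟨e.dualMap Θ, ?_⟩
  apply LinearMap.ext
  intro φ
  obtain ⟨s, hs, p, hp⟩ := Groth.Agent.ReflexiveLoc.exists_smul_mem_range_eval
    (nonZeroDivisors R) (FractionRing R)
    (LocalizedModule.mkLinearMap (nonZeroDivisors R) P) hsurjK φ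
  have hs0 : s ≠ 0 := nonZeroDivisors.ne_zero hs
  have h1 : s • (e' (e.dualMap Θ) φ) = s • Θ φ := by
    rw [← map_smul (e' (e.dualMap Θ)), ← map_smul Θ, ← hp]
    rfl
  exact mul_left_cancel₀ hs0 h1

/-- Over a Noetherian domain, the module of homomorphisms from a finite module to a finite
reflexive module is reflexive. -/
theorem isReflexive_hom (M N : Type u) [AddCommGroup M] [Module R M] [Module.Finite R M]
    [AddCommGroup N] [Module R N] [Module.Finite R N] [Module.IsReflexive R N] :
    Module.IsReflexive R (M →ₗ[R] N) := by
  haveI : Module.Finite R (Module.Dual R N) := Groth.Agent.DepthLib.finite_hom N R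
  haveI := isReflexive_dual R (TensorProduct R M (Module.Dual R N))
  let e1 : (M →ₗ[R] N) ≃ₗ[R] (M →ₗ[R] Module.Dual R (Module.Dual R N)) :=
    LinearEquiv.congrRight (Module.evalEquiv R N)
  let e2 : (M →ₗ[R] Module.Dual R N →ₗ[R] R) ≃ₗ[R]
      Module.Dual R (TensorProduct R M (Module.Dual R N)) :=
    TensorProduct.lift.equiv (RingHom.id R) M (Module.Dual R N) R
  exact Module.equiv (e1.trans e2).symm

end ReflHomH8
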