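import Mathlib
import Groth.Prelude
import Groth.Agent.Lib.ReflHom1_helper8

set_option autoImplicit false
universe u

open CategoryTheory AlgebraicGeometry TopologicalSpace Opposite IsLocalRing
open QcqsLoc GenLocH8 SecOrdH8 FLFH8 QCohExtn RefHullH8 RefBasisH8 HomLinH8

/-! Surjectivity of the evaluation map over principal ideal domains and of the biduality map at
points of codimension one. -/

namespace ReflHomH8

/-- Over a principal ideal domain, the evaluation map of a finite module into its bidual is
surjective. -/
theorem eval_surjective_of_pid (R : Type u) [CommRing R] [IsDomain R] [IsPrincipalIdealRing R]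
    (M : Type u) [AddCommGroup M] [Module R M] [Module.Finite R M] :
    Function.Surjective (Module.Dual.eval R M) := by
  set T := Submodule.torsion R M with hT
  set π : M →ₗ[R] M ⧸ T := T.mkQ with hπ
  haveI : Module.Free R (M ⧸ T) := Module.free_of_finite_type_torsion_free'
  have hL := Module.bijective_dual_eval R (M ⧸ T)
  have h1 : Function.Surjective π.dualMap := by
    intro φ
    have hk : T ≤ LinearMap.ker φ := by
      intro t ht
      obtain ⟨a, ha⟩ := (Submodule.mem_torsion_iff t).mp ht
      have ha' : (a : R) • t = 0 := ha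
      have h0 : (a : R) • φ t = 0 := by rw [← map_smul, ha', map_zero]
      exact (smul_eq_zero.mp h0).resolve_left (nonZeroDivisors.coe_ne_zero a)
    refine ⟨T.liftQ φ hk, ?_⟩
    apply LinearMap.ext
    intro m
    rfl
  have h2 : Function.Injective π.dualMap.dualMap := LinearMap.dualMap_injective_of_surjective h1
  intro Θ
  obtain ⟨l, hl⟩ := hL.2 (π.dualMap.dualMap Θ)
  obtain ⟨m, rfl⟩ := T.mkQ_surjective l
  refine ⟨m, h2 ?_⟩
  rw [← hl]
  apply LinearMap.ext
  intro ψ
  rfl

variable {X : Scheme.{u}}

/-- The stalk of the reflexive hull of a coherent module is the bidual of the stalk. -/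
theorem exists_equiv_bidual [IsLocallyNoetherian X] (F : X.Modules) (hF : Coh.IsCoh F) (x : X) :
    ∃ Φ : (RefHull.ddual F).presheaf.stalk x ≃ₗ[X.presheaf.stalk x]
      Module.Dual (X.presheaf.stalk x) (Module.Dual (X.presheaf.stalk x) (F.presheaf.stalk x)),
      ∀ v, Φ (RefHull.stalkMapₗ (RefHull.bidualMap F) x v) =
        Module.Dual.eval (X.presheaf.stalk x) (F.presheaf.stalk x) v := by
  haveI : F.IsQuasicoherent := hF.1
  haveI : SheafOfModules.IsFiniteType (R := X.ringCatSheaf) F := hF.2
  have hFP : CohB1.IsFP F := isFinitePresentation_of_isCoh F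
  have hD := isCoh_dual F hF
  haveI : (RefHull.dual F).IsQuasicoherent := hD.1
  haveI : SheafOfModules.IsFiniteType (R := X.ringCatSheaf) (RefHull.dual F) := hD.2
  have hDFP : CohB1.IsFP (RefHull.dual F) := isFinitePresentation_of_isCoh (RefHull.dual F)
  set ε := CycLenH8.stalkStructureEquiv x with hε
  set E₁ := LinearEquiv.ofBijective (RefHull.evalStalk F (Coh.structureModule X) x)
    (evalStalk_bijective F _ hFP x) with hE₁
  set E₂ := LinearEquiv.ofBijective (RefHull.evalStalk (RefHull.dual F) (Coh.structureModule X) x)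
    (evalStalk_bijective (RefHull.dual F) _ hDFP x) with hE₂
  set D₁ : (RefHull.dual F).presheaf.stalk x ≃ₗ[X.presheaf.stalk x]
      Module.Dual (X.presheaf.stalk x) (F.presheaf.stalk x) :=
    E₁ ≪≫ₗ LinearEquiv.congrRight ε.symm with hD₁
  set Φ : (RefHull.ddual F).presheaf.stalk x ≃ₗ[X.presheaf.stalk x]
      Module.Dual (X.presheaf.stalk x) (Module.Dual (X.presheaf.stalk x) (F.presheaf.stalk x)) :=
    E₂ ≪≫ₗ LinearEquiv.arrowCongr D₁ ε.symm with hΦ
  refine ⟨Φ, ?_⟩
  intro v
  apply LinearMap.ext
  intro lam
  rw [hΦ, LinearEquiv.trans_apply, LinearEquiv.arrowCongr_apply, hE₂,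
    LinearEquiv.ofBijective_apply, evalStalk_stalkMap_bidual, RefHull.bidualAt_apply,
    Module.Dual.eval_apply]
  have h1 : RefHull.evalStalk F (Coh.structureModule X) x (D₁.symm lam) = ε.toLinearMap.comp lam := by
    have h2 : D₁ (D₁.symm lam) = lam := D₁.apply_symm_apply lam
    rw [hD₁, LinearEquiv.trans_apply] at h2
    have h3 : E₁ (D₁.symm lam) = RefHull.evalStalk F (Coh.structureModule X) x (D₁.symm lam) :=
      rfl
    rw [← h3]
    have h4 := congrArg (LinearEquiv.congrRight ε.symm).symm h2
    rw [LinearEquiv.symm_apply_apply] at h4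
    rw [h4]
    rfl
  rw [h1, LinearMap.comp_apply, LinearEquiv.coe_coe, LinearEquiv.symm_apply_apply]

/-- On a normal scheme, the biduality map of a coherent module is surjective on the stalks at the
points of codimension at most one. -/
theorem stalkMap_bidual_surjective [IsIntegral X] [IsLocallyNoetherian X]
    (hX : Pi1.IsNormalScheme X) (F : X.Modules) (hF : Coh.IsCoh F) (x : X)
    (hx : Order.coheight x ≤ 1) :
    Function.Surjective (RefHull.stalkMapₗ (RefHull.bidualMap F) x) := by
  haveI := isPrincipalIdealRing_stalk hX x hx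
  haveI : Module.Finite (X.presheaf.stalk x) (F.presheaf.stalk x) := finite_stalk hF.2 x
  obtain ⟨Φ, hΦ⟩ := exists_equiv_bidual F hF x
  intro w
  obtain ⟨v, hv⟩ := eval_surjective_of_pid (X.presheaf.stalk x) (F.presheaf.stalk x) (Φ w)
  refine ⟨v, Φ.injective ?_⟩
  rw [hΦ, hv]

/-- The biduality map of a coherent module on an integral scheme is bijective on the generic
stalk. -/
theorem stalkMap_bidual_generic_bijective [IsIntegral X] [IsLocallyNoetherian X]
    (F : X.Modules) (hF : Coh.IsCoh F) :
    Function.Bijective (RefHull.stalkMapₗ (RefHull.bidualMap F) (genericPoint X)) := by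
  letI : Field (X.presheaf.stalk (genericPoint X)) :=
    inferInstanceAs (Field X.functionField)
  haveI : Module.Finite (X.presheaf.stalk (genericPoint X))
      (F.presheaf.stalk (genericPoint X)) := finite_stalk hF.2 _
  obtain ⟨W, hxW, r, e, he⟩ := exists_isBasisOn_of_free F hF (genericPoint X)
    (Module.Free.of_divisionRing _ _)
  exact stalkMap_bidual_bijective he hxW

end ReflHomH8
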