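import Mathlib
import Groth.Prelude
import Groth.Agent.Lib.ReflHom2_helper8
import Groth.Agent.Lib.FLF7_helper8
import Groth.Agent.Lib.TFFree_helper8

set_option autoImplicit false
universe u

open CategoryTheory AlgebraicGeometry TopologicalSpace Opposite IsLocalRing
open QcqsLoc GenLocH8 SecOrdH8 FLFH8 QCohExtn RefHullH8 RefBasisH8 HomLinH8 SDivGenH8 SDivFreeH8

/-! The locus where a coherent module is free. -/

namespace FreeLocH8

variable {X : Scheme.{u}}

/-- A trivialization over an open restricts to the opens of another open lying inside it. -/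
theorem iso_restrict_restrict (F : X.Modules) {W : X.Opens} {n : ℕ}
    (α : F.restrict W.ι ≅ FlatMod.freeMod (↑W) n) (U : X.Opens) (V : (U : Scheme.{u}).Opens)
    (hV : U.ι ''ᵁ V ≤ W) :
    Nonempty ((F.restrict U.ι).restrict V.ι ≅ FlatMod.freeMod (↑V) n) := by
  obtain ⟨t, ht⟩ := exists_sections_of_iso F α
  have hle : U.ι ''ᵁ (V.ι ''ᵁ ⊤) ≤ W.ι ''ᵁ ⊤ := by
    rw [Scheme.Opens.ι_image_top, Scheme.Opens.ι_image_top]
    exact hV
  let t' : Fin n → Γ(F.restrict U.ι, V.ι ''ᵁ ⊤) := fun j => rF F hle (t j)
  have ht' : ∀ (O : (U : Scheme.{u}).Opens) (hO : O ≤ V.ι ''ᵁ ⊤),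
      BasisOn (F.restrict U.ι) t' O hO := by
    intro O hO
    obtain ⟨hspan, hli⟩ := ht (U.ι ''ᵁ O) ((U.ι.image_mono hO).trans hle)
    have e : (fun j => rF (F.restrict U.ι) hO (t' j)) =
        fun j => rF F ((U.ι.image_mono hO).trans hle) (t j) := by
      funext j
      exact rF_rF F (U.ι.image_mono hO) hle (t j)
    unfold BasisOn
    rw [e]
    constructor
    · exact @span_top_of_smul_eq Γ(X, U.ι ''ᵁ O) Γ((U : Scheme.{u}), O) Γ(F.restrict U.ι, O) _ _ _
        (inferInstance : Module Γ(X, U.ι ''ᵁ O) Γ(F, U.ι ''ᵁ O)) inferInstance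
        (U.ι.appIso O).inv.hom (appIso_inv_surjective U O) (fun _ _ => rfl) _ hspan
    · exact @li_of_smul_eq Γ(X, U.ι ''ᵁ O) Γ((U : Scheme.{u}), O) Γ(F.restrict U.ι, O) _ _ _
        (inferInstance : Module Γ(X, U.ι ''ᵁ O) Γ(F, U.ι ''ᵁ O)) inferInstance
        (U.ι.appIso O).inv.hom (appIso_inv_injective U O) (fun _ _ => rfl) _ _ hli
  haveI := isIso_freeHom_restrict (F.restrict U.ι) t' ht'
  exact ⟨(asIso (freeHom ((F.restrict U.ι).restrict V.ι)
    (t' : Fin n → Γ((F.restrict U.ι).restrict V.ι, ⊤)))).symm⟩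

/-- The stalks of a module trivialized over an open are free at the points of the open. -/
theorem free_stalk_of_iso (F : X.Modules) [F.IsQuasicoherent] {W : X.Opens} {n : ℕ}
    (α : F.restrict W.ι ≅ FlatMod.freeMod (↑W) n) {y : X} (hy : y ∈ W) :
    Module.Free (X.presheaf.stalk y) (F.presheaf.stalk y) :=
  free_stalk_of_restrict_finLocFree F hy (isFinLocFree_of_iso_free α)

/-- The restriction of a finitely presented quasi-coherent module to an open at whose points the
stalks are free is finite locally free. -/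
theorem isFinLocFree_restrict_of_free (F : X.Modules) [F.IsQuasicoherent]
    [SheafOfModules.IsFinitePresentation (R := X.ringCatSheaf) F] (U : X.Opens)
    (h : ∀ x : X, x ∈ U → Module.Free (X.presheaf.stalk x) (F.presheaf.stalk x)) :
    FlatMod.IsFinLocFree (F.restrict U.ι) := by
  intro x
  obtain ⟨W, n, hxW, ⟨α⟩⟩ := exists_free_nhd F x.1 (h x.1 x.2)
  refine ⟨U.ι ⁻¹ᵁ W, n, hxW, ?_⟩
  refine iso_restrict_restrict F α U (U.ι ⁻¹ᵁ W) ?_
  rw [Scheme.Hom.image_preimage_eq_opensRange_inf]
  exact inf_le_right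

/-- The free locus of a finitely presented quasi-coherent module is open. -/
theorem isOpen_setOf_free (F : X.Modules) [F.IsQuasicoherent]
    [SheafOfModules.IsFinitePresentation (R := X.ringCatSheaf) F] :
    IsOpen {x : X | Module.Free (X.presheaf.stalk x) (F.presheaf.stalk x)} := by
  rw [isOpen_iff_forall_mem_open]
  intro x hx
  obtain ⟨W, n, hxW, ⟨α⟩⟩ := exists_free_nhd F x hx
  exact ⟨W, fun y hy => free_stalk_of_iso F α hy, W.isOpen, hxW⟩

/-- The free locus, as an open. -/
def freeOpen (F : X.Modules) [F.IsQuasicoherent]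
    [SheafOfModules.IsFinitePresentation (R := X.ringCatSheaf) F] : X.Opens :=
  ⟨{x : X | Module.Free (X.presheaf.stalk x) (F.presheaf.stalk x)}, isOpen_setOf_free F⟩

theorem mem_freeOpen (F : X.Modules) [F.IsQuasicoherent]
    [SheafOfModules.IsFinitePresentation (R := X.ringCatSheaf) F] (x : X) :
    x ∈ freeOpen F ↔ Module.Free (X.presheaf.stalk x) (F.presheaf.stalk x) := Iff.rfl

theorem isFinLocFree_restrict_freeOpen (F : X.Modules) [F.IsQuasicoherent]
    [SheafOfModules.IsFinitePresentation (R := X.ringCatSheaf) F] :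
    FlatMod.IsFinLocFree (F.restrict (freeOpen F).ι) :=
  isFinLocFree_restrict_of_free F (freeOpen F) (fun _ hx => hx)

/-- A reflexive module over a domain is torsion-free. -/
theorem isTorsionFree_of_isReflexive (R M : Type u) [CommRing R] [IsDomain R] [AddCommGroup M]
    [Module R M] [Module.IsReflexive R M] : Module.IsTorsionFree R M := by
  refine Module.IsTorsionFree.of_smul_eq_zero (fun r m hrm => ?_)
  by_cases hr : r = 0
  · exact Or.inl hr
  · right
    apply (Module.bijective_dual_eval R M).1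
    rw [map_zero]
    ext f
    have h1 : f (r • m) = 0 := by rw [hrm, map_zero]
    rw [map_smul, smul_eq_mul] at h1
    simpa [Module.Dual.eval_apply] using (mul_eq_zero.1 h1).resolve_left hr

/-- On a normal scheme, a coherent module is free at the points of codimension at most one at
which it is torsion-free. -/
theorem free_stalk_of_coheight_le_one [IsIntegral X] [IsLocallyNoetherian X]
    (hX : Pi1.IsNormalScheme X) (F : X.Modules) (hF : Coh.IsCoh F) (x : X)
    (hx : Order.coheight x ≤ 1)
    (htf : Module.IsTorsionFree (X.presheaf.stalk x) (F.presheaf.stalk x)) :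
    Module.Free (X.presheaf.stalk x) (F.presheaf.stalk x) := by
  haveI := isPrincipalIdealRing_stalk hX x hx
  haveI : Module.Finite (X.presheaf.stalk x) (F.presheaf.stalk x) := finite_stalk hF.2 x
  exact Module.free_of_finite_type_torsion_free'

/-- A point whose local ring has dimension less than two has codimension at most one. -/
theorem coheight_le_one_of_not_two_le [IsLocallyNoetherian X] (x : X)
    (h : ¬ (2 : WithBot ℕ∞) ≤ ringKrullDim (X.presheaf.stalk x)) : Order.coheight x ≤ 1 := by
  rw [AlgebraicGeometry.ringKrullDim_stalk_eq_coheight] at h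
  have h1 : ¬ (2 : ℕ∞) ≤ Order.coheight x := fun h2 => h (by
    have h3 : ((2 : ℕ∞) : WithBot ℕ∞) ≤ ↑(Order.coheight x) := WithBot.coe_le_coe.mpr h2
    exact h3)
  rw [not_le] at h1
  exact Order.le_of_lt_add_one (by rwa [one_add_one_eq_two])

end FreeLocH8
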