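import Mathlib
import Groth.Prelude
import Groth.Agent.Lib.BCLoc8_helper2
import Groth.Agent.Lib.PBCModel_helper2
import Groth.Agent.Lib.PBCAlg2_helper2

/-!
# The local package for proper morphisms of finite presentation over an arbitrary base (helper2)

For `f : X ⟶ Y` proper of finite presentation, `F` quasi-coherent of finite presentation and flat
over `Y`, and an affine open `V` of `Y`: a bounded below chain complex of finite free
`Γ(V)`-modules computing the fibre ranks and the sections of the higher direct images over `V`.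
APPEND-ONLY once landed.
-/

set_option autoImplicit false
set_option linter.style.haveILetI false
set_option linter.unusedSectionVars false
universe u
open CategoryTheory Limits AlgebraicGeometry TopologicalSpace Opposite TensorProduct MonoidalCategory

namespace Groth.Agent.Lib.PBCH2

open Groth.Agent.Lib.BCLocH2 Groth.Agent.Lib.BCAlgH2 Groth.Agent.Lib.BCMainH2
  Groth.Agent.Lib.BCBaseH2 Groth.Agent.Lib.BCFibH2

set_option maxHeartbeats 1600000 in
/-- **The local package** over an arbitrary base. -/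
theorem locPackage' {X Y : Scheme.{u}} (f : X ⟶ Y) [IsProper f] [LocallyOfFinitePresentation f]
    (F : X.Modules) [Coh.IsQCoh F] (hfp : CohB1.IsFP F) (hfl : FlatMod.IsFlatOver f F)
    (V : Y.Opens) (hV : IsAffineOpen V) :
    ∃ P : ChainComplex (ModuleCat.{u} Γ((V : Scheme.{u}), ⊤)) ℤ,
      (∀ i, Module.Finite Γ((V : Scheme.{u}), ⊤) (P.X i) ∧
        Module.Free Γ((V : Scheme.{u}), ⊤) (P.X i)) ∧
      (∃ b : ℤ, ∀ i, i < b → IsZero (P.X i)) ∧
      (∀ i : ℤ, 0 < i → ∀ x : PrimeSpectrum Γ((V : Scheme.{u}), ⊤), CohIII.dRank P i x = 0) ∧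
      (∀ (p : ℕ) (y : Y) (hy : y ∈ V), CohIII.fiberRank f F p y =
        CohIII.dRank P (-(p : ℤ)) ((V : Scheme.{u}).toSpecΓ ⟨y, hy⟩)) ∧
      (∀ (p : ℕ) (y : Y) (_ : y ∈ V), Module.Finite (Y.residueField y) (CohIII.fiberH f F y p)) ∧
      (∀ [HasInjectiveResolutions X.Modules] (p : ℕ),
        Nonempty (Γ(((Coh.Rpush f p).obj F).restrict V.ι, ⊤) ≃ₗ[Γ((V : Scheme.{u}), ⊤)]
          P.homology (-(p : ℤ)))) := by
  haveI : IsAffine (V : Scheme.{u}) := hV
  letI := overV f V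
  haveI : IsProper (((f ⁻¹ᵁ V : X.Opens) : Scheme.{u}) ↘
      Spec (CommRingCat.of Γ((V : Scheme.{u}), ⊤))) :=
    inferInstanceAs (IsProper ((f ∣_ V) ≫ (V : Scheme.{u}).toSpecΓ))
  haveI : LocallyOfFinitePresentation (((f ⁻¹ᵁ V : X.Opens) : Scheme.{u}) ↘
      Spec (CommRingCat.of Γ((V : Scheme.{u}), ⊤))) :=
    inferInstanceAs (LocallyOfFinitePresentation ((f ∣_ V) ≫ (V : Scheme.{u}).toSpecΓ))
  haveI : F.IsQuasicoherent := ‹Coh.IsQCoh F›
  haveI : SheafOfModules.IsFinitePresentation (R := X.ringCatSheaf) F := hfp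
  haveI hGq : Coh.IsQCoh ((Scheme.Modules.pullback (f ⁻¹ᵁ V).ι).obj F) :=
    PBH8.isQuasicoherent_pullback _ F
  have hGfp : CohB1.IsFP ((Scheme.Modules.pullback (f ⁻¹ᵁ V).ι).obj F) :=
    FpqcH8.isFP_pullback (f ⁻¹ᵁ V).ι F
  have hflG := isFlatOver_V f V F hfl
  obtain ⟨A₀, hA₀, X₀, f₀, hprop₀, F₀, hcoh₀, q, hq, ε, hfl₀⟩ :=
    exists_noeth_proper_flat_model
      (((f ⁻¹ᵁ V : X.Opens) : Scheme.{u}) ↘ Spec (CommRingCat.of Γ((V : Scheme.{u}), ⊤)))
      ((Scheme.Modules.pullback (f ⁻¹ᵁ V).ι).obj F) hGfp hflG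
  haveI : Algebra.FiniteType ℤ ↥A₀ := (Subalgebra.fg_iff_finiteType A₀).mp hA₀
  haveI : IsNoetherianRing ↥A₀ := Algebra.FiniteType.isNoetherianRing ℤ ↥A₀
  letI oX₀ : X₀.Over (Spec (CommRingCat.of ↥A₀)) := ⟨f₀⟩
  haveI : IsProper (X₀ ↘ Spec (CommRingCat.of ↥A₀)) := hprop₀
  haveI : F₀.IsQuasicoherent := hcoh₀.1
  obtain ⟨L, hL, ⟨b, hb⟩, hneg, -, -, hbc⟩ := mainBC2 ↥A₀ X₀ F₀ hcoh₀ hfl₀
  have hpos : ∀ i : ℤ, 0 < i → ∀ M : ModuleCat.{u} ↥A₀,
      IsZero ((CohIII.TFun (toChain L) i).obj M) := fun i hi M =>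
    IsZero.of_iso (hneg (-i) (by omega) M) ((TFunRestr L i).app M)
  refine ⟨toChain (CohIII.bcCx (algebraMap ↥A₀ Γ((V : Scheme.{u}), ⊤)) L), fun i => ?_,
    ⟨-b, fun i hi => ?_⟩, fun i hi x => ?_, ?_, ?_, ?_⟩
  · -- finite free
    haveI := (hL (-i)).1
    haveI := (hL (-i)).2
    exact ⟨Module.Finite.equiv (Groth.Agent.ExtendScalarsLib.extendScalarsEquivTensor
      (S := Γ((V : Scheme.{u}), ⊤)) (L.X (-i))).symm,
      Module.Free.of_equiv (Groth.Agent.ExtendScalarsLib.extendScalarsEquivTensor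
        (S := Γ((V : Scheme.{u}), ⊤)) (L.X (-i))).symm⟩
  · -- bounded
    exact (ModuleCat.extendScalars (algebraMap ↥A₀ Γ((V : Scheme.{u}), ⊤))).map_isZero
      (hb (-i) (by omega))
  · -- vanishing of the rank functions in positive degrees
    show CohIII.dRank (CohIII.bcCx (algebraMap ↥A₀ Γ((V : Scheme.{u}), ⊤)) (toChain L)) i x = 0
    rw [FiberRank9.dRank_baseChange]
    have hz : IsZero ((CohIII.bcCx (algebraMap ↥A₀
        (PrimeSpectrum.comap (algebraMap ↥A₀ Γ((V : Scheme.{u}), ⊤)) x).asIdeal.ResidueField)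
        (toChain L)).homology i) :=
      (Groth.Agent.TFunCmp5.isZero_bc_iff _ (toChain L) i).mpr (hpos i hi _)
    haveI := ModuleCat.subsingleton_of_isZero hz
    unfold CohIII.dRank
    exact Module.finrank_zero_of_subsingleton
  · -- the fibre ranks
    intro p y hy
    letI := algY V y hy
    letI := overFib f y
    letI alg₀ : Algebra ↥A₀ (Y.residueField y) :=
      ((algebraMap Γ((V : Scheme.{u}), ⊤) (Y.residueField y)).comp
        (algebraMap ↥A₀ Γ((V : Scheme.{u}), ⊤))).toAlgebra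
    have hsq : IsPullback (gy f V y hy ≫ q)
        ((f.fiber y) ↘ Spec (CommRingCat.of (Y.residueField y)))
        (X₀ ↘ Spec (CommRingCat.of ↥A₀))
        (Spec.map (CommRingCat.ofHom (algebraMap ↥A₀ (Y.residueField y)))) := by
      have h1 := (isPullback_fib f V y hy).paste_horiz hq
      have h2 : Spec.map (CommRingCat.ofHom (algebraMap ↥A₀ (Y.residueField y))) =
          Spec.map (CommRingCat.ofHom
            (algebraMap Γ((V : Scheme.{u}), ⊤) (Y.residueField y))) ≫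
          Spec.map (CommRingCat.ofHom A₀.val.toRingHom) := by
        rw [← Spec.map_comp]
        rfl
      rw [h2]
      exact h1
    obtain ⟨e⟩ := hbc (Y.residueField y) (f.fiber y) (gy f V y hy ≫ q) hsq p
    let θ : (Scheme.Modules.pullback (gy f V y hy ≫ q)).obj F₀ ≅ CohIII.fiberMod f F y :=
      ((Scheme.Modules.pullbackComp (gy f V y hy) q).app F₀).symm ≪≫
        (Scheme.Modules.pullback (gy f V y hy)).mapIso ε ≪≫ fibModIso f V y hy F
    have e3 := Groth.Agent.Lib.StalkFFH2.HHlinEquiv (Y.residueField y) θ p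
    have e2 := (homologyRestrIso (CohIII.bcCx (algebraMap ↥A₀ (Y.residueField y)) L)
      (-(p : ℤ)) (p : ℤ) (neg_neg _)).toLinearEquiv
    have h1 : CohIII.fiberRank f F p y = Module.finrank (Y.residueField y)
        ((CohIII.bcCx (algebraMap ↥A₀ (Y.residueField y)) (toChain L)).homology (-(p : ℤ))) :=
      ((e2.trans e).trans e3).finrank_eq.symm
    rw [h1, toSpecΓ_apply V y hy, dRank_ker (ψy V y hy)]
    exact (FiberRank9.finrank_homology_bc (algebraMap ↥A₀ Γ((V : Scheme.{u}), ⊤))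
      (ψy V y hy) (algebraMap ↥A₀ (Y.residueField y)) (RingHom.id _) rfl (toChain L)
      (-(p : ℤ))).symm
  · -- finiteness of the fibre cohomology
    intro p y hy
    letI := algY V y hy
    letI := overFib f y
    letI alg₀ : Algebra ↥A₀ (Y.residueField y) :=
      ((algebraMap Γ((V : Scheme.{u}), ⊤) (Y.residueField y)).comp
        (algebraMap ↥A₀ Γ((V : Scheme.{u}), ⊤))).toAlgebra
    have hsq : IsPullback (gy f V y hy ≫ q)
        ((f.fiber y) ↘ Spec (CommRingCat.of (Y.residueField y)))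
        (X₀ ↘ Spec (CommRingCat.of ↥A₀))
        (Spec.map (CommRingCat.ofHom (algebraMap ↥A₀ (Y.residueField y)))) := by
      have h1 := (isPullback_fib f V y hy).paste_horiz hq
      have h2 : Spec.map (CommRingCat.ofHom (algebraMap ↥A₀ (Y.residueField y))) =
          Spec.map (CommRingCat.ofHom
            (algebraMap Γ((V : Scheme.{u}), ⊤) (Y.residueField y))) ≫
          Spec.map (CommRingCat.ofHom A₀.val.toRingHom) := by
        rw [← Spec.map_comp]
        rfl
      rw [h2]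
      exact h1
    obtain ⟨e⟩ := hbc (Y.residueField y) (f.fiber y) (gy f V y hy ≫ q) hsq p
    let θ : (Scheme.Modules.pullback (gy f V y hy ≫ q)).obj F₀ ≅ CohIII.fiberMod f F y :=
      ((Scheme.Modules.pullbackComp (gy f V y hy) q).app F₀).symm ≪≫
        (Scheme.Modules.pullback (gy f V y hy)).mapIso ε ≪≫ fibModIso f V y hy F
    have e3 := Groth.Agent.Lib.StalkFFH2.HHlinEquiv (Y.residueField y) θ p
    haveI := (hL (p : ℤ)).1
    haveI : Module.Finite (Y.residueField y)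
        ((CohIII.bcCx (algebraMap ↥A₀ (Y.residueField y)) L).X (p : ℤ)) :=
      Module.Finite.equiv (Groth.Agent.ExtendScalarsLib.extendScalarsEquivTensor
        (S := Y.residueField y) (L.X (p : ℤ))).symm
    haveI : Module.Finite (Y.residueField y)
        ((CohIII.bcCx (algebraMap ↥A₀ (Y.residueField y)) L).homology (p : ℤ)) :=
      Groth.Agent.Lib.TFunEWH7.finite_homology _ _
    exact Module.Finite.equiv (e.trans e3)
  · -- the sections of the higher direct images
    intro _ p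
    haveI : HasInjectiveResolutions ((f ⁻¹ᵁ V : X.Opens) : Scheme.{u}).Modules :=
      haveI := RpushQC.enoughInjectives_modules ((f ⁻¹ᵁ V : X.Opens) : Scheme.{u})
      inferInstance
    obtain ⟨e1⟩ := RpushQC.nonempty_restrict_Rpush_iso f V F p
    let e2 : F.restrict (f ⁻¹ᵁ V).ι ≅ (Scheme.Modules.pullback (f ⁻¹ᵁ V).ι).obj F :=
      (Scheme.Modules.restrictFunctorIsoPullback (f ⁻¹ᵁ V).ι).app F
    let e := e1 ≪≫ (Coh.Rpush (f ∣_ V) p).mapIso e2
    let eL : Γ(((Coh.Rpush f p).obj F).restrict V.ι, ⊤) ≃ₗ[Γ((V : Scheme.{u}), ⊤)]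
        Γ((Coh.Rpush (f ∣_ V) p).obj ((Scheme.Modules.pullback (f ⁻¹ᵁ V).ι).obj F), ⊤) :=
      { (asIso (e.hom.app ⊤)).addCommGroupIsoToAddEquiv with
        map_smul' := fun r x => Scheme.Modules.Hom.app_smul e.hom r x }
    haveI : ((Scheme.Modules.pullback (f ⁻¹ᵁ V).ι).obj F).IsQuasicoherent := hGq
    obtain ⟨e3⟩ := sections_linearEquiv (f ∣_ V)
      ((Scheme.Modules.pullback (f ⁻¹ᵁ V).ι).obj F) p
    obtain ⟨e4⟩ := hbc Γ((V : Scheme.{u}), ⊤) ((f ⁻¹ᵁ V : X.Opens) : Scheme.{u}) q hq p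
    have e5 := Groth.Agent.Lib.StalkFFH2.HHlinEquiv Γ((V : Scheme.{u}), ⊤) ε p
    have e6 := (homologyRestrIso (CohIII.bcCx (algebraMap ↥A₀ Γ((V : Scheme.{u}), ⊤)) L)
      (-(p : ℤ)) (p : ℤ) (neg_neg _)).toLinearEquiv
    exact ⟨eL.trans (e3.symm.trans (e5.symm.trans (e4.symm.trans e6.symm)))⟩

end Groth.Agent.Lib.PBCH2
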