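import Mathlib
import Groth.Prelude
import Groth.Agent.Lib.PBCLoc1_helper2
import Groth.Agent.Lib.FiberRank_helper9
import Groth.Agent.Lib.FreeLoc1_helper8
import Groth.Agent.Lib.WeakAssSch_helper4

/-!
# Local vanishing and local freeness of higher direct images, arbitrary base (helper2)

For `f : X ⟶ Y` proper of finite presentation and `F` of finite presentation, flat over `Y`:
the locus where a fibre cohomology group vanishes is open, and over an open set where the fibre
cohomology vanishes in degrees `p ± 1` (resp. `p`) the `p`-th higher direct image is finite locally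
free (resp. zero).
APPEND-ONLY once landed.
-/

set_option autoImplicit false
set_option linter.style.haveILetI false
set_option linter.unusedSectionVars false
universe u
open CategoryTheory Limits AlgebraicGeometry TopologicalSpace Opposite TensorProduct MonoidalCategory

namespace Groth.Agent.Lib.PBCH2

open Groth.Agent.Lib.BCLocH2

section Alg

variable {A : Type u} [CommRing A] (P : ChainComplex (ModuleCat.{u} A) ℤ)

/-- upper semicontinuity of the homology rank of a complex of finite projective modules over an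
arbitrary ring -/
theorem dRank_usc' (hP : ∀ i, Module.Finite A (P.X i) ∧ Module.Projective A (P.X i)) (p : ℤ) :
    UpperSemicontinuous (CohIII.dRank P p) := by
  intro x b hb
  have hfinP : ∀ i, Module.Finite A (P.X i) := fun i => (hP i).1
  have := hfinP p
  have := hfinP (p - 1)
  have h1 := FiberRank9.eventually_fiber_le (A := A)
    (P.X p ⧸ LinearMap.range (P.d (p + 1) p).hom) x
  have h2 := FiberRank9.eventually_fiber_le (A := A)
    (P.X (p - 1) ⧸ LinearMap.range (P.d p (p - 1)).hom) x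
  haveI := (hP (p - 1)).2
  haveI : Module.FinitePresentation A (P.X (p - 1)) := Module.finitePresentation_of_projective A _
  have hlc : IsLocallyConstant (Module.rankAtStalk (R := A) (P.X (p - 1))) :=
    Module.isLocallyConstant_rankAtStalk
  have h3 := hlc.eventually_eq x
  filter_upwards [h1, h2, h3] with y hy1 hy2 hy3
  have ex := FiberRank9.homology_finrank_add x.asIdeal.ResidueField P hfinP p
  have ey := FiberRank9.homology_finrank_add y.asIdeal.ResidueField P hfinP p
  rw [Module.rankAtStalk_eq, Module.rankAtStalk_eq] at hy3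
  have dx : CohIII.dRank P p x = Module.finrank x.asIdeal.ResidueField
      ((CohIII.bcCx (algebraMap A x.asIdeal.ResidueField) P).homology p) := rfl
  have dy : CohIII.dRank P p y = Module.finrank y.asIdeal.ResidueField
      ((CohIII.bcCx (algebraMap A y.asIdeal.ResidueField) P).homology p) := rfl
  have hb' : CohIII.dRank P p x < b := hb
  show CohIII.dRank P p y < b
  unfold Ideal.Fiber at hy3
  omega

end Alg

section Geo

variable {X Y : Scheme.{u}} (f : X ⟶ Y) [IsProper f] [LocallyOfFinitePresentation f]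
  (F : X.Modules) [Coh.IsQCoh F] (hfp : CohB1.IsFP F) (hfl : FlatMod.IsFlatOver f F)

include hfp hfl in
/-- the fibre rank vanishes exactly when the fibre cohomology does -/
theorem fiberRank_zero_iff (p : ℕ) (y : Y) :
    CohIII.fiberRank f F p y = 0 ↔ Subsingleton (CohIII.fiberH f F y p) := by
  obtain ⟨_, ⟨V, hV : IsAffineOpen V, rfl⟩, hyV, -⟩ :=
    (Y.isBasis_affineOpens).exists_subset_of_mem_open (Set.mem_univ y) isOpen_univ
  obtain ⟨P, -, -, -, -, hfin, -⟩ := locPackage' f F hfp hfl V hV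
  haveI hfin' : @Module.Finite (Y.residueField y) (CohIII.fiberH f F y p) _ _
      (CohIII.moduleFiberH f F y p) := hfin p y hyV
  unfold CohIII.fiberRank
  exact Module.finrank_zero_iff

include hfp hfl in
/-- the vanishing locus of a fibre cohomology group is open -/
theorem exists_open_fiberRank_zero (p : ℕ) (s : Y) (hs : CohIII.fiberRank f F p s = 0) :
    ∃ U : Y.Opens, s ∈ U ∧ ∀ y ∈ U, CohIII.fiberRank f F p y = 0 := by
  obtain ⟨_, ⟨V, hV : IsAffineOpen V, rfl⟩, hsV, -⟩ :=
    (Y.isBasis_affineOpens).exists_subset_of_mem_open (Set.mem_univ s) isOpen_univ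
  haveI : IsAffine (V : Scheme.{u}) := hV
  obtain ⟨P, hP, -, -, hrk, -, -⟩ := locPackage' f F hfp hfl V hV
  have hP' : ∀ i, Module.Finite Γ((V : Scheme.{u}), ⊤) (P.X i) ∧
      Module.Projective Γ((V : Scheme.{u}), ⊤) (P.X i) := fun i =>
    ⟨(hP i).1, haveI := (hP i).2; inferInstance⟩
  have husc := dRank_usc' P hP' (-(p : ℤ))
  have h0 : CohIII.dRank P (-(p : ℤ)) ((V : Scheme.{u}).toSpecΓ ⟨s, hsV⟩) < 1 := by
    rw [← hrk p s hsV, hs]
    exact Nat.zero_lt_one
  have hev := husc _ 1 h0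
  obtain ⟨O, hO, hOopen, hx₀O⟩ := eventually_nhds_iff.mp hev
  let O' : (Spec (CommRingCat.of Γ((V : Scheme.{u}), ⊤))).Opens := ⟨O, hOopen⟩
  refine ⟨(Scheme.Opens.ι V) ''ᵁ ((V : Scheme.{u}).toSpecΓ ⁻¹ᵁ O'), ⟨⟨s, hsV⟩, hx₀O, rfl⟩, ?_⟩
  rintro _ ⟨y', hy', rfl⟩
  have h1 := hO _ hy'
  exact (hrk p y'.1 y'.2).trans (Nat.lt_one_iff.mp h1)

include hfp hfl in
/-- over an open set on which the `p`-th fibre cohomology vanishes, `R^p f_* F` vanishes -/
theorem isZero_restrict_Rpush_of_fiberRank_zero [HasInjectiveResolutions X.Modules] (p : ℕ)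
    (U : Y.Opens) (hU : ∀ y ∈ U, CohIII.fiberRank f F p y = 0) :
    IsZero (((Coh.Rpush f p).obj F).restrict U.ι) := by
  haveI : F.IsQuasicoherent := ‹Coh.IsQCoh F›
  apply Groth.Agent.Lib.WeakAssSch_helper4.isZero_of_forall_affine
  intro W hW t
  have hV : IsAffineOpen (U.ι ''ᵁ W) := hW.image_of_isOpenImmersion U.ι
  have hVU : U.ι ''ᵁ W ≤ U := Scheme.Opens.ι_image_le U W
  suffices key2 : ∀ (V : Y.Opens), IsAffineOpen V → V ≤ U →
      ∀ t : Γ((Coh.Rpush f p).obj F, V), t = 0 from key2 (U.ι ''ᵁ W) hV hVU t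
  clear hV hVU t
  intro V hV hVU t
  haveI : IsAffine (V : Scheme.{u}) := hV
  obtain ⟨P, hP, -, -, hrk, -, hsec⟩ := locPackage' f F hfp hfl V hV
  obtain ⟨e⟩ := hsec p
  have hP' : ∀ i, Module.Finite Γ((V : Scheme.{u}), ⊤) (P.X i) ∧
      Module.Projective Γ((V : Scheme.{u}), ⊤) (P.X i) := fun i =>
    ⟨(hP i).1, haveI := (hP i).2; inferInstance⟩
  have hd : ∀ x : PrimeSpectrum Γ((V : Scheme.{u}), ⊤),
      CohIII.dRank P (-(p : ℤ)) x = 0 := by
    intro x
    obtain ⟨y', rfl⟩ := (Scheme.Hom.homeomorph (V : Scheme.{u}).toSpecΓ).surjective x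
    exact (hrk p y'.1 y'.2).symm.trans (hU _ (hVU y'.2))
  obtain ⟨hsub, -⟩ := isZero_T_of_dRank_zero P hP' _ hd
  haveI : Subsingleton Γ(((Coh.Rpush f p).obj F).restrict V.ι, ⊤) := e.toEquiv.subsingleton
  have key : ∀ W₂ : Y.Opens, V.ι ''ᵁ ⊤ = W₂ → ∀ t : Γ((Coh.Rpush f p).obj F, W₂), t = 0 := by
    rintro _ rfl t
    exact Subsingleton.elim (α := Γ(((Coh.Rpush f p).obj F).restrict V.ι, ⊤)) t 0
  exact key V (Scheme.Opens.ι_image_top V) t

include hfp hfl in
/-- over an open set on which the fibre cohomology vanishes in degrees `p + 1` and `p - 1`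
(nothing is asked in degree `-1`), `R^p f_* F` is finite locally free -/
theorem isFinLocFree_restrict_Rpush [HasInjectiveResolutions X.Modules] (p : ℕ)
    (U : Y.Opens) (habove : ∀ y ∈ U, CohIII.fiberRank f F (p + 1) y = 0)
    (hbelow : p = 0 ∨ ∀ y ∈ U, CohIII.fiberRank f F (p - 1) y = 0) :
    FlatMod.IsFinLocFree (((Coh.Rpush f p).obj F).restrict U.ι) := by
  haveI : F.IsQuasicoherent := ‹Coh.IsQCoh F›
  intro y
  obtain ⟨_, ⟨V, hV : IsAffineOpen V, rfl⟩, hyV, hVU⟩ :=
    (Y.isBasis_affineOpens).exists_subset_of_mem_open y.2 U.2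
  haveI : IsAffine (V : Scheme.{u}) := hV
  obtain ⟨P, hP, -, hpos, hrk, -, hsec⟩ := locPackage' f F hfp hfl V hV
  have hP' : ∀ i, Module.Finite Γ((V : Scheme.{u}), ⊤) (P.X i) ∧
      Module.Projective Γ((V : Scheme.{u}), ⊤) (P.X i) := fun i =>
    ⟨(hP i).1, haveI := (hP i).2; inferInstance⟩
  have hd : ∀ i : ℕ, (∀ y ∈ U, CohIII.fiberRank f F i y = 0) →
      ∀ x : PrimeSpectrum Γ((V : Scheme.{u}), ⊤), CohIII.dRank P (-(i : ℤ)) x = 0 := by
    intro i hi x
    obtain ⟨y', rfl⟩ := (Scheme.Hom.homeomorph (V : Scheme.{u}).toSpecΓ).surjective x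
    exact (hrk i y'.1 y'.2).symm.trans (hi _ (hVU y'.2))
  have hlow : ∀ x : PrimeSpectrum Γ((V : Scheme.{u}), ⊤),
      CohIII.dRank P (-(p : ℤ) + 1) x = 0 := by
    rcases hbelow with h0 | hb
    · subst h0
      exact hpos _ (by norm_num)
    · by_cases h0 : p = 0
      · subst h0
        exact hpos _ (by norm_num)
      · have e1 : (-(p : ℤ) + 1) = -(((p - 1 : ℕ)) : ℤ) := by
          have : 1 ≤ p := Nat.one_le_iff_ne_zero.mpr h0
          push_cast [Nat.cast_sub this]
          ring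
        rw [e1]
        exact hd (p - 1) hb
  have hex := exact_of_dRank_zero' P hP' (-(p : ℤ)) (-((p + 1 : ℕ) : ℤ)) (-(p : ℤ) + 1)
    (by push_cast; ring) rfl (hd (p + 1) habove) hlow
  obtain ⟨hfin, hproj, -⟩ := homology_facts_of_exact' P hP' _ hex
  haveI := hfin
  haveI := hproj
  haveI : ((Coh.Rpush f p).obj F).IsQuasicoherent := RpushQC.isQuasicoherent_Rpush f F p
  obtain ⟨e⟩ := hsec p
  obtain ⟨U', hyU', ⟨α⟩⟩ := exists_free_nhd_of_sections ((Coh.Rpush f p).obj F) V hV hyV
    (P.homology (-(p : ℤ))) e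
  exact ⟨U.ι ⁻¹ᵁ U', _, hyU', FreeLocH8.iso_restrict_restrict _ α U (U.ι ⁻¹ᵁ U') (by
    rw [Scheme.Hom.image_preimage_eq_opensRange_inf]
    exact inf_le_right)⟩

end Geo

end Groth.Agent.Lib.PBCH2
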