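import Mathlib
import Groth.Prelude
import Groth.Agent.Lib.CBCAsm4_helper2
import Groth.Agent.Lib.PBCAlg5_helper2
import Groth.Agent.Lib.PBCLoc2_helper2

/-!
# Cohomology and base change near a point (helper2)

APPEND-ONLY once landed.
-/

set_option autoImplicit false
set_option backward.isDefEq.respectTransparency false
set_option linter.style.haveILetI false
set_option linter.unusedSectionVars false
universe u

open CategoryTheory CategoryTheory.Limits AlgebraicGeometry AlgebraicGeometry.Scheme.Modules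
  TopologicalSpace Opposite TensorProduct

namespace Groth.Agent.Lib.CBCH2

open Groth.Agent.Lib.FlatBCH2 Groth.Agent.Lib.FormalFnH2 Groth.Agent.Lib.PullFnH2
  Groth.Agent.Lib.BCSecH2 Groth.Agent.Lib.SectCmp5H2 Groth.Agent.Lib.PBCH2

section Units

theorem isUnit_of_basicOpen_eq {X : Scheme.{u}} {U : X.Opens} (x : Γ(X, U))
    (h : X.basicOpen x = U) : IsUnit x := by
  apply X.toLocallyRingedSpace.toRingedSpace.isUnit_of_isUnit_germ U x
  intro z hz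
  have hz' : z ∈ X.basicOpen x := by rw [h]; exact hz
  exact (X.mem_basicOpen x z hz).mp hz'

theorem isUnit_appLE_of_le_basicOpen {S S' : Scheme.{u}} (g : S' ⟶ S) {T : S.Opens}
    {T' : S'.Opens} (hT'T : T' ≤ g ⁻¹ᵁ T) (g₀ : Γ(S, T)) (h : T' ≤ g ⁻¹ᵁ (S.basicOpen g₀)) :
    IsUnit ((g.appLE T T' hT'T).hom g₀) := by
  apply isUnit_of_basicOpen_eq
  rw [Scheme.basicOpen_appLE]
  exact inf_eq_left.mpr h

end Units

section Good

variable {X S : Scheme.{u}} (f : X ⟶ S)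

/-- cohomology and base change holds in degree `n` near the point `s` -/
def GoodAt (F : X.Modules) (n : ℕ) (s : S) : Prop :=
  ∃ (T : S.Opens) (_ : IsAffineOpen T) (g₀ : Γ(S, T)), s ∈ S.basicOpen g₀ ∧
    AllBCAway f T (f ⁻¹ᵁ T) le_rfl F n g₀

theorem isOpen_goodAt (F : X.Modules) (n : ℕ) : IsOpen {s : S | GoodAt f F n s} := by
  rw [isOpen_iff_forall_mem_open]
  rintro s ⟨T, hT, g₀, hs, H⟩
  exact ⟨S.basicOpen g₀, fun s' hs' => ⟨T, hT, g₀, hs', H⟩, (S.basicOpen g₀).isOpen, hs⟩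

variable [IsSeparated f] [QuasiCompact f] {X' S' : Scheme.{u}} (g : S' ⟶ S) (gX : X' ⟶ X)
  (f' : X' ⟶ S') (hX : IsPullback gX f' f g)
  [HasInjectiveResolutions X.Modules] [HasInjectiveResolutions X'.Modules]
  (F : X.Modules) [F.IsQuasicoherent]
  {Δ : RDer.DerivedLES (pushforward f)} {Δ' : RDer.DerivedLES (pushforward f')}
  (E : CohCmp.SectCmp f Δ) (E' : CohCmp.SectCmp f' Δ') (B : CohCmp.GenBC f g f' gX hX.w E E')

set_option maxHeartbeats 1600000 in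
/-- **Cohomology and base change**: if base change holds in degree `n` near every point of the
image of `g : S' ⟶ S`, then the base change map in degree `n` is an isomorphism. -/
theorem isIso_bc_of_goodAt (n : ℕ) (hgood : ∀ z : S', GoodAt f F n (g z)) :
    IsIso (B.bc n F) := by
  haveI : IsSeparated f' := MorphismProperty.of_isPullback (P := @IsSeparated) hX inferInstance
  haveI : QuasiCompact f' := MorphismProperty.of_isPullback (P := @QuasiCompact) hX inferInstance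
  haveI : ((Coh.Rpush f n).obj F).IsQuasicoherent := RpushQC.isQuasicoherent_Rpush f F n
  haveI : ((Coh.Rpush f' n).obj ((Scheme.Modules.pullback gX).obj F)).IsQuasicoherent :=
    RpushQC.isQuasicoherent_Rpush f' _ n
  have hY : IsPullback g (𝟙 S') (𝟙 S) g := IsPullback.id_vert g
  let ι := {W : S'.Opens // ∃ (T : S.Opens) (T' : S'.Opens) (g₀ : Γ(S, T)), IsAffineOpen T ∧
    IsAffineOpen T' ∧ T' ≤ g ⁻¹ᵁ (S.basicOpen g₀) ∧ AllBCAway f T (f ⁻¹ᵁ T) le_rfl F n g₀ ∧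
    W = g ⁻¹ᵁ T ⊓ (𝟙 S') ⁻¹ᵁ T'}
  have hTT : ∀ T : S.Opens, T ≤ (𝟙 S) ⁻¹ᵁ T := fun T => by rw [Scheme.Hom.id_preimage]
  have hcover : ⨆ i : ι, (i.1 : S'.Opens) = ⊤ := by
    rw [eq_top_iff]
    intro z _
    obtain ⟨T, hT, g₀, hz, H⟩ := hgood z
    have h1 : z ∈ g ⁻¹ᵁ (S.basicOpen g₀) := hz
    obtain ⟨_, ⟨T', hT' : IsAffineOpen T', rfl⟩, hzT', hT'T⟩ :=
      (S'.isBasis_affineOpens).exists_subset_of_mem_open h1 (g ⁻¹ᵁ (S.basicOpen g₀)).isOpen
    refine Opens.mem_iSup.mpr ⟨⟨g ⁻¹ᵁ T ⊓ (𝟙 S') ⁻¹ᵁ T', T, T', g₀, hT, hT', hT'T, H, rfl⟩,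
      ⟨?_, ?_⟩⟩
    · exact S.basicOpen_le g₀ hz
    · show z ∈ (𝟙 S') ⁻¹ᵁ T'
      rw [Scheme.Hom.id_preimage]
      exact hzT'
  refine QCohCrit.isIso_of_bijective_on_cover (B.bc n F) (fun i : ι => (i.1 : S'.Opens))
    (fun i => ?_) hcover ?_
  · obtain ⟨W, T, T', g₀, hT, hT', hT'T, H, hW⟩ := i
    have hT'T₁ : T' ≤ g ⁻¹ᵁ T := hT'T.trans (g.preimage_mono (S.basicOpen_le g₀))
    exact (AffBCH8.affine_pushout' hY hT hT hT' (hTT T) hT'T₁ (hW ▸ inf_le_left)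
      (hW ▸ inf_le_right) hW).1
  · rintro ⟨W, T, T', g₀, hT, hT', hT'T, H, hW⟩
    have hT'T₁ : T' ≤ g ⁻¹ᵁ T := hT'T.trans (g.preimage_mono (S.basicOpen_le g₀))
    have hmain := bc_app_local_main (𝟙 S) f g g (𝟙 S') hY gX f' hX F E E' B n hT hT' hT hT'T₁
      (hTT T) hW
    refine hmain.1 ?_
    -- the abstract base change hypothesis
    have hWV : W ≤ g ⁻¹ᵁ T := hW ▸ inf_le_left
    have hWT' : W ≤ (𝟙 S') ⁻¹ᵁ T' := hW ▸ inf_le_right
    have eU : f ⁻¹ᵁ T ≤ (f ≫ 𝟙 S) ⁻¹ᵁ T := pre_le f (𝟙 S) T T (hTT T)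
    have eU'2 : f' ⁻¹ᵁ W ≤ (f' ≫ 𝟙 S') ⁻¹ᵁ T' := pre_le f' (𝟙 S') T' W hWT'
    have eU'1 : f' ⁻¹ᵁ W ≤ gX ⁻¹ᵁ (f ⁻¹ᵁ T) :=
      (f'.preimage_mono hWV).trans (CohCmp.sqLE f g f' gX hX.w T)
    have hU' : f' ⁻¹ᵁ W = gX ⁻¹ᵁ (f ⁻¹ᵁ T) ⊓ (f' ≫ 𝟙 S') ⁻¹ᵁ T' := by
      rw [hW, ← Scheme.Hom.comp_preimage gX f, hX.w, Scheme.Hom.comp_preimage,
        Scheme.Hom.comp_preimage]
      rfl
    have H' : IsPullback gX (f' ≫ 𝟙 S') (f ≫ 𝟙 S) g := hX.paste_vert hY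
    have hall : AllBCAway (f ≫ 𝟙 S) T (f ⁻¹ᵁ T) eU F n g₀ :=
      AllBCAway.congr (Category.comp_id f).symm le_rfl eU H
    letI oU := overRes (f ≫ 𝟙 S) T (f ⁻¹ᵁ T) eU
    letI oU' := overRes (f' ≫ 𝟙 S') T' (f' ⁻¹ᵁ W) eU'2
    letI alg : Algebra Γ(S, T) Γ(S', T') := (g.appLE T T' hT'T₁).hom.toAlgebra
    have hsq := isPullback_overRes H' hT hT' hT'T₁ eU hU' eU'1 eU'2
    exact hall Γ(S', T') (isUnit_appLE_of_le_basicOpen g hT'T₁ g₀ hT'T)
      ((f' ⁻¹ᵁ W : X'.Opens) : Scheme.{u}) (gX.resLE (f ⁻¹ᵁ T) (f' ⁻¹ᵁ W) eU'1) hsq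

end Good

section Chart

variable {X S : Scheme.{u}} (f : X ⟶ S) (T : S.Opens) (hT : IsAffineOpen T)

include hT in
/-- the base change square of `f⁻¹ T` over `Spec Γ(S, T)` -/
theorem isPullback_chart :
    IsPullback (f ⁻¹ᵁ T).ι (f.resLE T (f ⁻¹ᵁ T) le_rfl ≫ T.toSpecΓ) f hT.fromSpec := by
  have h0 : IsPullback (f ⁻¹ᵁ T).ι (f ∣_ T) f T.ι := (isPullback_morphismRestrict f T).flip
  refine h0.of_iso (Iso.refl _) (Iso.refl _) hT.isoSpec (Iso.refl _) ?_ ?_ ?_ ?_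
  · rw [Iso.refl_hom, Iso.refl_hom, Category.comp_id, Category.id_comp]
  · rw [Iso.refl_hom, Category.id_comp, Scheme.Hom.resLE_eq_morphismRestrict]
    rfl
  · rw [Iso.refl_hom, Iso.refl_hom, Category.comp_id, Category.id_comp]
  · rw [Iso.refl_hom, Category.comp_id]
    exact (hT.toSpecΓ_fromSpec).symm

include hT in
theorem isProper_chart [IsProper f] :
    IsProper (f.resLE T (f ⁻¹ᵁ T) le_rfl ≫ T.toSpecΓ) := by
  rw [Scheme.Hom.resLE_eq_morphismRestrict]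
  haveI : IsIso T.toSpecΓ := by
    rw [← hT.isoSpec_hom]
    infer_instance
  infer_instance

include hT in
theorem lfp_chart [LocallyOfFinitePresentation f] :
    LocallyOfFinitePresentation (f.resLE T (f ⁻¹ᵁ T) le_rfl ≫ T.toSpecΓ) := by
  rw [Scheme.Hom.resLE_eq_morphismRestrict]
  haveI : IsIso T.toSpecΓ := by
    rw [← hT.isoSpec_hom]
    infer_instance
  infer_instance

include hT in
theorem isFlatOver_chart (F : X.Modules) [F.IsQuasicoherent] (hfl : FlatMod.IsFlatOver f F) :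
    FlatMod.IsFlatOver (f.resLE T (f ⁻¹ᵁ T) le_rfl ≫ T.toSpecΓ) (F.restrict (f ⁻¹ᵁ T).ι) := by
  have h1 : FlatMod.IsFlatOver (f.resLE T (f ⁻¹ᵁ T) le_rfl ≫ T.toSpecΓ)
      ((Scheme.Modules.pullback (f ⁻¹ᵁ T).ι).obj F) := fun x' =>
    FlatBC2H8.isFlatOverAt_pullback (isPullback_chart f T hT) F x' (hfl _)
  exact isFlatOver_of_iso' _ ((Scheme.Modules.restrictFunctorIsoPullback (f ⁻¹ᵁ T).ι).app F).symm h1

theorem isFP_restrict (F : X.Modules) (hfp : CohB1.IsFP F) (U : X.Opens) :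
    CohB1.IsFP (F.restrict U.ι) := by
  haveI : SheafOfModules.IsFinitePresentation (R := X.ringCatSheaf) F := hfp
  have h1 : CohB1.IsFP ((Scheme.Modules.pullback U.ι).obj F) := FpqcH8.isFP_pullback U.ι F
  haveI : (SheafOfModules.isFinitePresentation.{u, u, u}
      (U : Scheme.{u}).ringCatSheaf).IsClosedUnderIsomorphisms := inferInstance
  exact ObjectProperty.prop_of_iso
    (SheafOfModules.isFinitePresentation.{u, u, u} (U : Scheme.{u}).ringCatSheaf)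
    ((Scheme.Modules.restrictFunctorIsoPullback U.ι).app F).symm h1

include hT in
set_option maxHeartbeats 1600000 in
/-- **the natural package over an affine open of the base** -/
theorem chartPackage [IsProper f] [LocallyOfFinitePresentation f] (F : X.Modules) [Coh.IsQCoh F]
    (hfp : CohB1.IsFP F) (hfl : FlatMod.IsFlatOver f F) :
    letI := overRes f T (f ⁻¹ᵁ T) le_rfl
    ∃ P : ChainComplex (ModuleCat.{u} Γ(S, T)) ℤ,
      (∀ i, Module.Finite Γ(S, T) (P.X i) ∧ Module.Free Γ(S, T) (P.X i)) ∧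
      (∃ b : ℤ, ∀ i, i < b → IsZero (P.X i)) ∧
      (∀ i : ℤ, 0 < i → ∀ M : ModuleCat.{u} Γ(S, T), IsZero ((CohIII.TFun P i).obj M)) ∧
      ∀ p : ℕ, ∃ Ψ : P.homology (-(p : ℤ)) ≃ₗ[Γ(S, T)]
          Coh.HH ((f ⁻¹ᵁ T : X.Opens) : Scheme.{u}) (F.restrict (f ⁻¹ᵁ T).ι) p,
        ∀ (A' : Type u) [CommRing A'] [Algebra Γ(S, T) A'] (X' : Scheme.{u})
          [X'.Over (Spec (CommRingCat.of A'))] (g' : X' ⟶ ((f ⁻¹ᵁ T : X.Opens) : Scheme.{u}))
          (_ : IsPullback g' (X' ↘ Spec (CommRingCat.of A'))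
            (((f ⁻¹ᵁ T : X.Opens) : Scheme.{u}) ↘ Spec (CommRingCat.of Γ(S, T)))
            (Spec.map (CommRingCat.ofHom (algebraMap Γ(S, T) A')))),
          ∃ Ψ' : (CohIII.TFun P (-(p : ℤ))).obj (ModuleCat.of Γ(S, T) A') ≃+
              Coh.HH X' ((Scheme.Modules.pullback g').obj (F.restrict (f ⁻¹ᵁ T).ι)) p,
            (∀ (a' : A') (y : (CohIII.TFun P (-(p : ℤ))).obj (ModuleCat.of Γ(S, T) A')),
              Ψ' (((CohIII.TFun P (-(p : ℤ))).map (mulA'' Γ(S, T) a')).hom y) = a' • Ψ' y) ∧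
            (∀ x : P.homology (-(p : ℤ)),
              Ψ' ((HomologicalComplex.homologyMap
                (inclT P (ModuleCat.of Γ(S, T) A') (1 : A')) (-(p : ℤ))).hom x) =
                CohPull.pullMod g' (F.restrict (f ⁻¹ᵁ T).ι) p (Ψ x)) := by
  letI := overRes f T (f ⁻¹ᵁ T) le_rfl
  haveI : F.IsQuasicoherent := ‹Coh.IsQCoh F›
  haveI : IsProper (((f ⁻¹ᵁ T : X.Opens) : Scheme.{u}) ↘ Spec (CommRingCat.of Γ(S, T))) :=
    isProper_chart f T hT
  haveI : LocallyOfFinitePresentation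
      (((f ⁻¹ᵁ T : X.Opens) : Scheme.{u}) ↘ Spec (CommRingCat.of Γ(S, T))) :=
    lfp_chart f T hT
  haveI : Coh.IsQCoh (F.restrict (f ⁻¹ᵁ T).ι) :=
    Scheme.Modules.isQuasicoherent_restrictFunctor (f ⁻¹ᵁ T).ι F
  exact natPackageChain Γ(S, T) ((f ⁻¹ᵁ T : X.Opens) : Scheme.{u}) (F.restrict (f ⁻¹ᵁ T).ι)
    (isFP_restrict F hfp _) (isFlatOver_chart f T hT F hfl)

end Chart

section Fibre

open Groth.Agent.Lib.BCLocH2

variable {X S : Scheme.{u}} (f : X ⟶ S) (T : S.Opens) (hT : IsAffineOpen T) (s : S) (hs : s ∈ T)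

/-- the ring map `Γ(S, T) → κ(s)` -/
noncomputable def evalRes : Γ(S, T) →+* S.residueField s :=
  (S.presheaf.germ T s hs ≫ S.residue s).hom

/-- `κ(s)` as an algebra over `Γ(S, T)` -/
@[reducible] noncomputable def algRes : Algebra Γ(S, T) (S.residueField s) :=
  (evalRes T s hs).toAlgebra

include hT in
lemma SpecMap_evalRes_fromSpec :
    Spec.map (CommRingCat.ofHom (evalRes T s hs)) ≫ hT.fromSpec = S.fromSpecResidueField s := by
  have h1 : CommRingCat.ofHom (evalRes T s hs) = S.presheaf.germ T s hs ≫ S.residue s := rfl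
  rw [h1, Spec.map_comp, Category.assoc]
  show _ = Spec.map (S.residue s) ≫ S.fromSpecStalk s
  rw [← hT.fromSpecStalk_eq_fromSpecStalk hs]
  rfl

include hT in
/-- the fibre of `f` at `s ∈ T` is the base change of `f⁻¹ T` along `Γ(S, T) → κ(s)` -/
theorem isPullback_fibRes :
    haveI : IsAffine (T : Scheme.{u}) := hT
    letI := overRes f T (f ⁻¹ᵁ T) le_rfl
    letI := algRes T s hs
    letI := overFib f s
    IsPullback (gy f T s hs) ((f.fiber s) ↘ Spec (CommRingCat.of (S.residueField s)))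
      (((f ⁻¹ᵁ T : X.Opens) : Scheme.{u}) ↘ Spec (CommRingCat.of Γ(S, T)))
      (Spec.map (CommRingCat.ofHom (algebraMap Γ(S, T) (S.residueField s)))) := by
  haveI : IsAffine (T : Scheme.{u}) := hT
  letI := overRes f T (f ⁻¹ᵁ T) le_rfl
  letI := algRes T s hs
  letI := overFib f s
  show IsPullback (gy f T s hs) (f.fiberToSpecResidueField s)
    (f.resLE T (f ⁻¹ᵁ T) le_rfl ≫ T.toSpecΓ) (Spec.map (CommRingCat.ofHom (evalRes T s hs)))
  have hbig : IsPullback (gy f T s hs ≫ (f ⁻¹ᵁ T).ι) (f.fiberToSpecResidueField s) f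
      (Spec.map (CommRingCat.ofHom (evalRes T s hs)) ≫ hT.fromSpec) := by
    rw [gy_ι, SpecMap_evalRes_fromSpec T hT s hs]
    exact IsPullback.of_hasPullback f (S.fromSpecResidueField s)
  refine IsPullback.of_right hbig ?_ (isPullback_chart f T hT)
  rw [← cancel_mono hT.fromSpec]
  have h1 : (f.resLE T (f ⁻¹ᵁ T) le_rfl ≫ T.toSpecΓ) ≫ hT.fromSpec = (f ⁻¹ᵁ T).ι ≫ f :=
    (isPullback_chart f T hT).w.symm
  calc (gy f T s hs ≫ (f.resLE T (f ⁻¹ᵁ T) le_rfl ≫ T.toSpecΓ)) ≫ hT.fromSpec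
      = gy f T s hs ≫ ((f.resLE T (f ⁻¹ᵁ T) le_rfl ≫ T.toSpecΓ) ≫ hT.fromSpec) :=
        Category.assoc _ _ _
    _ = gy f T s hs ≫ ((f ⁻¹ᵁ T).ι ≫ f) := by rw [h1]
    _ = (gy f T s hs ≫ (f ⁻¹ᵁ T).ι) ≫ f := (Category.assoc _ _ _).symm
    _ = f.fiberι s ≫ f := by rw [gy_ι]
    _ = f.fiberToSpecResidueField s ≫ S.fromSpecResidueField s := f.fiber_fac s
    _ = f.fiberToSpecResidueField s ≫
        (Spec.map (CommRingCat.ofHom (evalRes T s hs)) ≫ hT.fromSpec) := by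
          rw [SpecMap_evalRes_fromSpec T hT s hs]
    _ = (f.fiberToSpecResidueField s ≫ Spec.map (CommRingCat.ofHom (evalRes T s hs))) ≫
        hT.fromSpec := (Category.assoc _ _ _).symm

/-- the restriction of `F` to `f⁻¹ T`, pulled back to the fibre, is the restriction of `F` to the
fibre -/
noncomputable def fibModIsoRes [IsAffine (T : Scheme.{u})] (F : X.Modules) :
    (Scheme.Modules.pullback (gy f T s hs)).obj (F.restrict (f ⁻¹ᵁ T).ι) ≅
      CohIII.fiberMod f F s :=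
  (Scheme.Modules.pullback (gy f T s hs)).mapIso
    ((Scheme.Modules.restrictFunctorIsoPullback (f ⁻¹ᵁ T).ι).app F) ≪≫ fibModIso f T s hs F

lemma mem_basicOpen_of_evalRes_ne_zero (g₀ : Γ(S, T)) (h : evalRes T s hs g₀ ≠ 0) :
    s ∈ S.basicOpen g₀ := by
  rw [Scheme.mem_basicOpen _ _ _ hs]
  exact (IsLocalRing.residue_ne_zero_iff_isUnit _).mp h

end Fibre

section Vanishing

open Groth.Agent.Lib.BCLocH2

variable {X S : Scheme.{u}} (f : X ⟶ S) [IsProper f] [LocallyOfFinitePresentation f]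
  (F : X.Modules) [Coh.IsQCoh F] (hfp : CohB1.IsFP F) (hfl : FlatMod.IsFlatOver f F)

include hfp hfl in
set_option maxHeartbeats 1600000 in
/-- if `H^i` of the fibre at `s` vanishes then base change holds near `s` in degrees `i` and
`i - 1` -/
theorem goodAt_of_subsingleton_fiberH (i : ℕ) (s : S)
    (hsub : Subsingleton (CohIII.fiberH f F s i)) :
    GoodAt f F i s ∧ ∀ j : ℕ, j + 1 = i → GoodAt f F j s := by
  obtain ⟨_, ⟨T, hT : IsAffineOpen T, rfl⟩, hs, -⟩ :=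
    (S.isBasis_affineOpens).exists_subset_of_mem_open (Set.mem_univ s) isOpen_univ
  haveI : IsAffine (T : Scheme.{u}) := hT
  letI oU := overRes f T (f ⁻¹ᵁ T) le_rfl
  obtain ⟨P, hP, -, -, hpk⟩ := chartPackage f T hT F hfp hfl
  obtain ⟨Ψ, hΨ⟩ := hpk i
  letI aK := algRes T s hs
  letI oF := overFib f s
  obtain ⟨Ψ', -, -⟩ := hΨ (S.residueField s) (f.fiber s) (gy f T s hs)
    (isPullback_fibRes f T hT s hs)
  have e3 := Groth.Agent.Lib.StalkFFH2.HHlinEquiv (S.residueField s) (fibModIsoRes f T s hs F) i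
  have hK : Subsingleton ((CohIII.TFun P (-(i : ℤ))).obj
      (ModuleCat.of Γ(S, T) (S.residueField s))) :=
    (Ψ'.toEquiv.trans e3.toEquiv).subsingleton
  obtain ⟨g₀, hg₀, hs1, hs2⟩ := algVan P hP (-(i : ℤ)) (S.residueField s) hK
  have hmem : s ∈ S.basicOpen g₀ := mem_basicOpen_of_evalRes_ne_zero T s hs g₀ hg₀
  refine ⟨⟨T, hT, g₀, hmem, ?_⟩, fun j hj => ⟨T, hT, g₀, hmem, ?_⟩⟩
  · intro A' _ _ hunit X' _ g' hsq
    obtain ⟨Ψ'', h1, h2⟩ := hΨ A' X' g' hsq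
    exact isBC_of_hasGSplit P (-(i : ℤ)) Ψ Ψ'' _ h1 h2 g₀ hs1 hunit
  · obtain ⟨Ψj, hΨj⟩ := hpk j
    intro A' _ _ hunit X' _ g' hsq
    obtain ⟨Ψ'', h1, h2⟩ := hΨj A' X' g' hsq
    have e : -(i : ℤ) + 1 = -(j : ℤ) := by
      subst hj
      push_cast
      ring
    rw [e] at hs2
    exact isBC_of_hasGSplit P (-(j : ℤ)) Ψj Ψ'' _ h1 h2 g₀ hs2 hunit

end Vanishing

end Groth.Agent.Lib.CBCH2
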