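import Mathlib
import Groth.Prelude
import Groth.Agent.Lib.CBCAsm5_helper2
import Groth.Agent.Lib.QCohExact_helper9

/-!
# Cohomology and base change: the facts over an affine chart of the base (helper2)

APPEND-ONLY once landed.
-/

set_option autoImplicit false
set_option backward.isDefEq.respectTransparency false
set_option linter.style.haveILetI false
set_option linter.unusedSectionVars false
universe u

open CategoryTheory CategoryTheory.Limits AlgebraicGeometry AlgebraicGeometry.Scheme.Modules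
  TopologicalSpace Opposite TensorProduct

namespace Groth.Agent.Lib.CBCH2

open Groth.Agent.Lib.FlatBCH2 Groth.Agent.Lib.FormalFnH2 Groth.Agent.Lib.PullFnH2
  Groth.Agent.Lib.BCSecH2 Groth.Agent.Lib.SectCmp5H2 Groth.Agent.Lib.PBCH2

section BetaNat

variable {A : Type u} [CommRing A] {κ : Type} {c : ComplexShape κ}
  (P : HomologicalComplex (ModuleCat.{u} A) c) (p : κ)

lemma betaT_natural {N N' : ModuleCat.{u} A} (φ : N ⟶ N') (ξ : P.homology p ⊗[A] N) :
    betaT P p N' (LinearMap.lTensor (P.homology p) φ.hom ξ) =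
      ((CohIII.TFun P p).map φ).hom (betaT P p N ξ) := by
  induction ξ using TensorProduct.induction_on with
  | zero => simp only [map_zero]
  | tmul x n =>
    rw [LinearMap.lTensor_tmul, betaT_tmul, betaT_tmul, ← inclT_tensorMap,
      HomologicalComplex.homologyMap_comp]
    rfl
  | add z z' hz hz' => rw [map_add, map_add, map_add, map_add, hz, hz']

theorem betaT_surjective_of_iso {N N' : ModuleCat.{u} A} (e : N ≅ N')
    (h : Function.Surjective (betaT P p N)) : Function.Surjective (betaT P p N') := by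
  intro w
  obtain ⟨ξ, hξ⟩ := h (((CohIII.TFun P p).map e.inv).hom w)
  refine ⟨LinearMap.lTensor (P.homology p) e.hom.hom ξ, ?_⟩
  rw [betaT_natural, hξ]
  show ((CohIII.TFun P p).map e.inv ≫ (CohIII.TFun P p).map e.hom).hom w = w
  rw [← CategoryTheory.Functor.map_comp, e.inv_hom_id, CategoryTheory.Functor.map_id]
  rfl

end BetaNat

section Pt

variable {S : Scheme.{u}} (T : S.Opens) (hT : IsAffineOpen T)

include hT in
/-- the composite `Γ(S, T) → Γ(Spec κ(s), ⊤) ≅ κ(s)` is evaluation at `s` -/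
lemma appLE_fromSpecResidueField (s : S) (hs : s ∈ T)
    (e : (⊤ : (Spec (S.residueField s)).Opens) ≤ (S.fromSpecResidueField s) ⁻¹ᵁ T) :
    (S.fromSpecResidueField s).appLE T ⊤ e ≫ (Scheme.ΓSpecIso (S.residueField s)).hom =
      CommRingCat.ofHom (evalRes T s hs) := by
  apply Spec.map_injective
  rw [← cancel_mono hT.fromSpec, SpecMap_evalRes_fromSpec T hT s hs, Spec.map_comp, Category.assoc,
    IsAffineOpen.SpecMap_appLE_fromSpec _ hT (isAffineOpen_top _) e, IsAffineOpen.fromSpec_top,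
    Scheme.isoSpec_Spec_inv, ← Category.assoc, ← Spec.map_comp, Iso.inv_hom_id, Spec.map_id,
    Category.id_comp]

include hT in
/-- every prime of `Γ(S, T)` is the kernel of the evaluation at a point of `T` -/
theorem exists_ker_evalRes (x : PrimeSpectrum Γ(S, T)) :
    ∃ (s : S) (hs : s ∈ T), RingHom.ker (evalRes T s hs) = x.asIdeal := by
  let y' : T := hT.isoSpec.inv x
  have h1 : hT.primeIdealOf y' = x := by
    show hT.isoSpec.hom (hT.isoSpec.inv x) = x
    rw [← Scheme.Hom.comp_apply, Iso.inv_hom_id]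
    rfl
  refine ⟨y'.1, y'.2, ?_⟩
  rw [← h1, hT.primeIdealOf_eq_map_closedPoint]
  ext a
  rw [RingHom.mem_ker]
  exact IsLocalRing.residue_eq_zero_iff _

end Pt

section SpanCongr

theorem span_congr_over {X' S' : Scheme.{u}} {h' h'' : X' ⟶ S'} (hh : h' = h'') {T' : S'.Opens}
    {U' : X'.Opens} (e' : U' ≤ h' ⁻¹ᵁ T') (e'' : U' ≤ h'' ⁻¹ᵁ T')
    (M : (U' : Scheme.{u}).Modules) (n : ℕ) (R : Set (Coh.HH (U' : Scheme.{u}) M n))
    (H : letI := overRes h' T' U' e'; Submodule.span Γ(S', T') R = ⊤) :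
    letI := overRes h'' T' U' e''; Submodule.span Γ(S', T') R = ⊤ := by
  subst hh
  exact H

variable {X S X' S' : Scheme.{u}} (f : X ⟶ S) [IsSeparated f] [QuasiCompact f]
  (g : S' ⟶ S) (gX : X' ⟶ X) (f' : X' ⟶ S') (hX : IsPullback gX f' f g)
  [HasInjectiveResolutions X.Modules] [HasInjectiveResolutions X'.Modules]
  (F : X.Modules) [F.IsQuasicoherent]
  {Δ : RDer.DerivedLES (pushforward f)} {Δ' : RDer.DerivedLES (pushforward f')}
  (E : CohCmp.SectCmp f Δ) (E' : CohCmp.SectCmp f' Δ') (B : CohCmp.GenBC f g f' gX hX.w E E')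

set_option maxHeartbeats 1600000 in
/-- if the base change map is surjective on the sections over an affine open `T'` lying over the
affine open `T`, then the pulled back cohomology classes span -/
theorem span_of_surjective_app (n : ℕ) {T : S.Opens} {T' : S'.Opens} (hT : IsAffineOpen T)
    (hT' : IsAffineOpen T') (hT'T : T' ≤ g ⁻¹ᵁ T)
    (hsurj : Function.Surjective ((B.bc n F).app T')) :
    letI := overRes f' T' (f' ⁻¹ᵁ T') le_rfl
    Submodule.span Γ(S', T') (Set.range (CohPull.pullMod (gX.resLE (f ⁻¹ᵁ T) (f' ⁻¹ᵁ T')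
      ((f'.preimage_mono hT'T).trans (CohCmp.sqLE f g f' gX hX.w T)))
      (F.restrict (f ⁻¹ᵁ T).ι) n)) = ⊤ := by
  have hW : T' = g ⁻¹ᵁ T ⊓ (𝟙 S') ⁻¹ᵁ T' := by
    rw [Scheme.Hom.id_preimage]
    exact (inf_eq_right.mpr hT'T).symm
  have hY : IsPullback g (𝟙 S') (𝟙 S) g := IsPullback.id_vert g
  have hTT : T ≤ (𝟙 S) ⁻¹ᵁ T := by rw [Scheme.Hom.id_preimage]
  have hmain := (bc_app_local_main (𝟙 S) f g g (𝟙 S') hY gX f' hX F E E' B n hT hT' hT hT'T
    hTT hW).2 hsurj
  exact span_congr_over (Category.comp_id f') _ le_rfl _ n _ hmain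

end SpanCongr

section Facts

open Groth.Agent.Lib.BCLocH2

variable {X S : Scheme.{u}} (f : X ⟶ S) [IsProper f] [LocallyOfFinitePresentation f]
  (F : X.Modules) [Coh.IsQCoh F] (hfp : CohB1.IsFP F) (hfl : FlatMod.IsFlatOver f F)
  [HasInjectiveResolutions X.Modules] {Δ : RDer.DerivedLES (pushforward f)}
  (E : CohCmp.SectCmp f Δ)

/-- the comparison maps are linear over the sections of the base (over-structure from `f`) -/
theorem ε_linear' (T : S.Opens) (n : ℕ) (a : Γ(S, T)) (x : Coh.HHon X F (f ⁻¹ᵁ T) n) :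
    letI := overRes f T (f ⁻¹ᵁ T) le_rfl
    E.ε T F n (a • x) = a • E.ε T F n x := by
  letI := overRes f T (f ⁻¹ᵁ T) le_rfl
  rw [smul_HH_overRes f T (f ⁻¹ᵁ T) le_rfl]
  have h1 : (f.appLE T (f ⁻¹ᵁ T) le_rfl).hom a = (f.app T).hom a := by
    rw [Scheme.Hom.appLE_eq_app]
  rw [h1]
  exact ε_smul f E T a n F x

include hfp hfl in
set_option maxHeartbeats 3200000 in
/-- **the facts over an affine chart** -/
theorem chartFacts (T : S.Opens) (hT : IsAffineOpen T) :
    ∃ P : ChainComplex (ModuleCat.{u} Γ(S, T)) ℤ,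
      (∀ i, Module.Finite Γ(S, T) (P.X i) ∧ Module.Free Γ(S, T) (P.X i)) ∧
      (∃ b : ℤ, ∀ i, i < b → IsZero (P.X i)) ∧
      (∀ i : ℤ, 0 < i → ∀ M : ModuleCat.{u} Γ(S, T), IsZero ((CohIII.TFun P i).obj M)) ∧
      (∀ (n : ℕ) (s : S) (hs : s ∈ T), Subsingleton (CohIII.fiberH f F s n) →
        letI := algRes T s hs
        Subsingleton ((CohIII.TFun P (-(n : ℤ))).obj
          (ModuleCat.of Γ(S, T) (S.residueField s)))) ∧
      (∀ (n : ℕ) (s : S) (hs : s ∈ T) [HasInjectiveResolutions (f.fiber s).Modules]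
        {Δs : RDer.DerivedLES (pushforward (f.fiberToSpecResidueField s))}
        (Es : CohCmp.SectCmp (f.fiberToSpecResidueField s) Δs)
        (Bs : CohCmp.GenBC f (S.fromSpecResidueField s) (f.fiberToSpecResidueField s)
          (f.fiberι s) (f.fiber_fac s) E Es),
        Epi (Bs.bc n F) →
        letI := algRes T s hs
        Function.Surjective (betaT P (-(n : ℤ)) (ModuleCat.of Γ(S, T) (S.residueField s)))) ∧
      (∀ (n : ℕ) (g₀ : Γ(S, T)), HasGSplit P (-(n : ℤ)) g₀ →
        AllBCAway f T (f ⁻¹ᵁ T) le_rfl F n g₀) ∧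
      (∀ n : ℕ, Nonempty (P.homology (-(n : ℤ)) ≃ₗ[Γ(S, T)] Γ((Coh.Rpush f n).obj F, T))) := by
  haveI : IsAffine (T : Scheme.{u}) := hT
  haveI : F.IsQuasicoherent := ‹Coh.IsQCoh F›
  letI oU := overRes f T (f ⁻¹ᵁ T) le_rfl
  obtain ⟨P, hP, hb, hpos, hpk⟩ := chartPackage f T hT F hfp hfl
  refine ⟨P, hP, hb, hpos, ?_, ?_, ?_, ?_⟩
  · -- vanishing
    intro n s hs hsub
    haveI := hsub
    letI aK := algRes T s hs
    letI oF := overFib f s
    obtain ⟨Ψ, hΨ⟩ := hpk n
    obtain ⟨Ψ', -, -⟩ := hΨ (S.residueField s) (f.fiber s) (gy f T s hs)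
      (isPullback_fibRes f T hT s hs)
    have e3 := Groth.Agent.Lib.StalkFFH2.HHlinEquiv (S.residueField s) (fibModIsoRes f T s hs F) n
    exact (Ψ'.toEquiv.trans e3.toEquiv).subsingleton
  · -- surjectivity
    intro n s hs _ Δs Es Bs hepi
    letI aK := algRes T s hs
    obtain ⟨Ψ, hΨ⟩ := hpk n
    have hX : IsPullback (f.fiberι s) (f.fiberToSpecResidueField s) f
        (S.fromSpecResidueField s) := IsPullback.of_hasPullback f (S.fromSpecResidueField s)
    haveI : IsSeparated (f.fiberToSpecResidueField s) :=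
      MorphismProperty.of_isPullback (P := @IsSeparated) hX inferInstance
    haveI : QuasiCompact (f.fiberToSpecResidueField s) :=
      MorphismProperty.of_isPullback (P := @QuasiCompact) hX inferInstance
    have hT' : IsAffineOpen (⊤ : (Spec (S.residueField s)).Opens) := isAffineOpen_top _
    have hT'T : (⊤ : (Spec (S.residueField s)).Opens) ≤ (S.fromSpecResidueField s) ⁻¹ᵁ T := by
      intro z _
      show (S.fromSpecResidueField s) z ∈ T
      rw [Scheme.fromSpecResidueField_apply]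
      exact hs
    haveI : ((Coh.Rpush f n).obj F).IsQuasicoherent := RpushQC.isQuasicoherent_Rpush f F n
    haveI : ((Coh.Rpush (f.fiberToSpecResidueField s) n).obj
        ((Scheme.Modules.pullback (f.fiberι s)).obj F)).IsQuasicoherent :=
      RpushQC.isQuasicoherent_Rpush (f.fiberToSpecResidueField s) _ n
    haveI := hepi
    have hsurj : Function.Surjective ((Bs.bc n F).app ⊤) :=
      QCohExact.app_surjective_of_epi (Bs.bc n F) hT'
    have hspan := span_of_surjective_app f (S.fromSpecResidueField s) (f.fiberι s)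
      (f.fiberToSpecResidueField s) hX F E Es Bs n hT hT' hT'T hsurj
    have e1 : (f.fiberToSpecResidueField s) ⁻¹ᵁ ⊤ ≤ (f.fiberι s) ⁻¹ᵁ (f ⁻¹ᵁ T) :=
      ((f.fiberToSpecResidueField s).preimage_mono hT'T).trans
        (CohCmp.sqLE f (S.fromSpecResidueField s) (f.fiberToSpecResidueField s) (f.fiberι s)
          hX.w T)
    have hU' : (f.fiberToSpecResidueField s) ⁻¹ᵁ ⊤ =
        (f.fiberι s) ⁻¹ᵁ (f ⁻¹ᵁ T) ⊓ (f.fiberToSpecResidueField s) ⁻¹ᵁ ⊤ :=
      (inf_eq_right.mpr e1).symm
    letI oU' := overRes (f.fiberToSpecResidueField s) ⊤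
      ((f.fiberToSpecResidueField s) ⁻¹ᵁ ⊤) le_rfl
    letI alg : Algebra Γ(S, T) Γ(Spec (S.residueField s), ⊤) :=
      ((S.fromSpecResidueField s).appLE T ⊤ hT'T).hom.toAlgebra
    have hsq := isPullback_overRes hX hT hT' hT'T le_rfl hU' e1 le_rfl
    obtain ⟨Ψ', h1, h2⟩ := hΨ Γ(Spec (S.residueField s), ⊤)
      ((((f.fiberToSpecResidueField s) ⁻¹ᵁ ⊤ : (f.fiber s).Opens)) : Scheme.{u})
      ((f.fiberι s).resLE (f ⁻¹ᵁ T) ((f.fiberToSpecResidueField s) ⁻¹ᵁ ⊤) e1) hsq
    have hβ := betaT_surjective_of_span P (-(n : ℤ)) Ψ Ψ' _ h1 h2 hspan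
    -- transport to the residue field
    let eR : Γ(Spec (S.residueField s), ⊤) ≃+* S.residueField s :=
      (Scheme.ΓSpecIso (S.residueField s)).commRingCatIsoToRingEquiv
    have hcomp : ∀ a : Γ(S, T), eR (((S.fromSpecResidueField s).appLE T ⊤ hT'T).hom a) =
        evalRes T s hs a := fun a =>
      congrArg (fun φ => φ.hom a) (appLE_fromSpecResidueField T hT s hs hT'T)
    let eL : Γ(Spec (S.residueField s), ⊤) ≃ₗ[Γ(S, T)] S.residueField s :=
      { eR.toAddEquiv with
        map_smul' := fun a x => by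
          show eR (((S.fromSpecResidueField s).appLE T ⊤ hT'T).hom a * x) =
            evalRes T s hs a * eR x
          rw [map_mul, hcomp] }
    exact betaT_surjective_of_iso P (-(n : ℤ)) eL.toModuleIso hβ
  · -- base change away from `g₀`
    intro n g₀ hs1 A' _ _ hunit X' _ g' hsq
    obtain ⟨Ψ, hΨ⟩ := hpk n
    obtain ⟨Ψ'', h1, h2⟩ := hΨ A' X' g' hsq
    exact isBC_of_hasGSplit P (-(n : ℤ)) Ψ Ψ'' _ h1 h2 g₀ hs1 hunit
  · -- sections
    intro n
    obtain ⟨Ψ, -⟩ := hpk n
    let eε : Coh.HH ((f ⁻¹ᵁ T : X.Opens) : Scheme.{u}) (F.restrict (f ⁻¹ᵁ T).ι) n ≃ₗ[Γ(S, T)]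
        Γ((Coh.Rpush f n).obj F, T) :=
      { AddEquiv.ofBijective (E.ε T F n)
          (Groth.Agent.Lib.SectCmp4H2.bijective_of_isAffineOpen f T hT E F n) with
        map_smul' := fun a x => ε_linear' f F E T n a x }
    exact ⟨Ψ.trans eε⟩

include hfp hfl in
/-- **surjectivity of the base change map of the fibre at `s` gives base change near `s`** -/
theorem goodAt_of_epi (n : ℕ) (s : S) [HasInjectiveResolutions (f.fiber s).Modules]
    {Δs : RDer.DerivedLES (pushforward (f.fiberToSpecResidueField s))}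
    (Es : CohCmp.SectCmp (f.fiberToSpecResidueField s) Δs)
    (Bs : CohCmp.GenBC f (S.fromSpecResidueField s) (f.fiberToSpecResidueField s)
      (f.fiberι s) (f.fiber_fac s) E Es)
    (hepi : Epi (Bs.bc n F)) : GoodAt f F n s := by
  obtain ⟨_, ⟨T, hT : IsAffineOpen T, rfl⟩, hs, -⟩ :=
    (S.isBasis_affineOpens).exists_subset_of_mem_open (Set.mem_univ s) isOpen_univ
  obtain ⟨P, hP, -, -, -, hB, hC, -⟩ := chartFacts f F hfp hfl E T hT
  letI := algRes T s hs
  obtain ⟨g₀, hg₀, hs1⟩ := algEpi P hP (-(n : ℤ)) (S.residueField s) (hB n s hs Es Bs hepi)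
  exact ⟨T, hT, g₀, mem_basicOpen_of_evalRes_ne_zero T s hs g₀ hg₀, hC n g₀ hs1⟩

/-- base change near `s` makes the base change map of the fibre at `s` an isomorphism -/
theorem isIso_bc_fiber_of_goodAt (n : ℕ) (s : S) [HasInjectiveResolutions (f.fiber s).Modules]
    {Δs : RDer.DerivedLES (pushforward (f.fiberToSpecResidueField s))}
    (Es : CohCmp.SectCmp (f.fiberToSpecResidueField s) Δs)
    (Bs : CohCmp.GenBC f (S.fromSpecResidueField s) (f.fiberToSpecResidueField s)
      (f.fiberι s) (f.fiber_fac s) E Es)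
    (hgood : GoodAt f F n s) : IsIso (Bs.bc n F) := by
  haveI : F.IsQuasicoherent := ‹Coh.IsQCoh F›
  have hX : IsPullback (f.fiberι s) (f.fiberToSpecResidueField s) f
      (S.fromSpecResidueField s) := IsPullback.of_hasPullback f (S.fromSpecResidueField s)
  refine isIso_bc_of_goodAt f (S.fromSpecResidueField s) (f.fiberι s)
    (f.fiberToSpecResidueField s) hX F E Es Bs n (fun z => ?_)
  rw [Scheme.fromSpecResidueField_apply]
  exact hgood

end Facts

end Groth.Agent.Lib.CBCH2
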