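import Mathlib

set_option autoImplicit false
universe u
open TensorProduct

namespace Groth.Agent.Lib.BettiProj_helper6

variable {R : Type u} [CommRing R]

/-- fibre rank of a module at a prime -/
noncomputable def fr (M : Type u) [AddCommGroup M] [Module R M] (p : PrimeSpectrum R) : ℕ :=
  Module.finrank p.asIdeal.ResidueField (p.asIdeal.ResidueField ⊗[R] M)

lemma nontrivial_of_prime (p : PrimeSpectrum R) : Nontrivial R :=
  ⟨⟨0, 1, fun h => p.isPrime.ne_top ((Ideal.eq_top_iff_one _).2 (h ▸ p.asIdeal.zero_mem))⟩⟩

/-- generators at a prime -/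
theorem exists_gen (M : Type u) [AddCommGroup M] [Module R M] [Module.Finite R M]
    (p : PrimeSpectrum R) :
    ∃ u : (Fin (fr M p) → R) →ₗ[R] M, p ∉ Module.support R (M ⧸ LinearMap.range u) := by
  classical
  let s : Set (p.asIdeal.ResidueField ⊗[R] M) :=
    Set.range fun m : M => (1 : p.asIdeal.ResidueField) ⊗ₜ[R] m
  have hs : Submodule.span p.asIdeal.ResidueField s = ⊤ := by
    rw [eq_top_iff]
    rintro x -
    induction x using TensorProduct.induction_on with
    | zero => exact Submodule.zero_mem _
    | tmul a m =>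
      have : a ⊗ₜ[R] m = a • ((1 : p.asIdeal.ResidueField) ⊗ₜ[R] m) := by
        rw [TensorProduct.smul_tmul', smul_eq_mul, mul_one]
      rw [this]
      exact Submodule.smul_mem _ _ (Submodule.subset_span ⟨m, rfl⟩)
    | add x y hx hy => exact Submodule.add_mem _ hx hy
  obtain ⟨b, hb, hspan, -⟩ := Submodule.exists_fun_fin_finrank_span_eq p.asIdeal.ResidueField s
  have hr : Module.finrank p.asIdeal.ResidueField (Submodule.span p.asIdeal.ResidueField s) =
      fr M p := by
    rw [hs]
    exact finrank_top _ _
  obtain ⟨n, hn, b, hb, hspan⟩ : ∃ n, n = fr M p ∧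
      ∃ b : Fin n → p.asIdeal.ResidueField ⊗[R] M, (∀ i, b i ∈ s) ∧
        Submodule.span p.asIdeal.ResidueField (Set.range b) = ⊤ :=
    ⟨_, hr, b, hb, hspan.trans hs⟩
  subst hn
  choose m hm using hb
  let u : (Fin (fr M p) → R) →ₗ[R] M := Fintype.linearCombination R m
  refine ⟨u, ?_⟩
  rw [Module.mem_support_iff_nontrivial_residueField_tensorProduct,
    not_nontrivial_iff_subsingleton]
  have hπ : Function.Surjective
      ((LinearMap.range u).mkQ.baseChange p.asIdeal.ResidueField) := by
    rw [LinearMap.baseChange_eq_ltensor]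
    exact LinearMap.lTensor_surjective _ (Submodule.mkQ_surjective _)
  have hzero : (LinearMap.range u).mkQ.baseChange p.asIdeal.ResidueField = 0 := by
    refine LinearMap.ext_on_range hspan fun i => ?_
    rw [← hm i, LinearMap.baseChange_tmul, LinearMap.zero_apply]
    have : (LinearMap.range u).mkQ (m i) = 0 := by
      rw [Submodule.mkQ_apply, Submodule.Quotient.mk_eq_zero]
      exact ⟨Pi.single i 1, by simp [u, Fintype.linearCombination_apply_single]⟩
    rw [this, TensorProduct.tmul_zero]
  refine subsingleton_of_forall_eq 0 fun y => ?_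
  obtain ⟨x, rfl⟩ := hπ y
  rw [hzero, LinearMap.zero_apply]

theorem baseChange_surjective_of_notMem_support {n : ℕ} (M : Type u) [AddCommGroup M]
    [Module R M] [Module.Finite R M] (u : (Fin n → R) →ₗ[R] M) (q : PrimeSpectrum R)
    (hq : q ∉ Module.support R (M ⧸ LinearMap.range u)) :
    Function.Surjective (u.baseChange q.asIdeal.ResidueField) := by
  have hsub : Subsingleton (q.asIdeal.ResidueField ⊗[R] (M ⧸ LinearMap.range u)) := by
    rw [← not_nontrivial_iff_subsingleton,
      ← Module.mem_support_iff_nontrivial_residueField_tensorProduct]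
    exact hq
  have hex : Function.Exact (u.lTensor q.asIdeal.ResidueField)
      ((LinearMap.range u).mkQ.lTensor q.asIdeal.ResidueField) :=
    lTensor_exact _ (LinearMap.exact_map_mkQ_range u) (Submodule.mkQ_surjective _)
  intro y
  obtain ⟨x, hx⟩ := (hex y).1 (Subsingleton.elim _ _)
  refine ⟨x, ?_⟩
  rw [LinearMap.baseChange_eq_ltensor]
  exact hx

lemma finrank_baseChange_fin (n : ℕ) (q : PrimeSpectrum R) :
    Module.finrank q.asIdeal.ResidueField (q.asIdeal.ResidueField ⊗[R] (Fin n → R)) = n := by
  haveI := nontrivial_of_prime q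
  rw [Module.finrank_baseChange, Module.finrank_fin_fun]

/-- upper semicontinuity of the fibre rank -/
theorem exists_open_fr_le (M : Type u) [AddCommGroup M] [Module R M] [Module.Finite R M]
    (p : PrimeSpectrum R) :
    ∃ U : Set (PrimeSpectrum R), IsOpen U ∧ p ∈ U ∧ ∀ q ∈ U, fr M q ≤ fr M p := by
  obtain ⟨u, hu⟩ := exists_gen M p
  refine ⟨(Module.support R (M ⧸ LinearMap.range u))ᶜ, Module.isClosed_support.isOpen_compl, hu,
    fun q hq => ?_⟩
  have hsurj := baseChange_surjective_of_notMem_support M u q hq
  have h1 := LinearMap.finrank_range_le (u.baseChange q.asIdeal.ResidueField)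
  rw [LinearMap.range_eq_top.2 hsurj, finrank_top, finrank_baseChange_fin] at h1
  exact h1

/-- the coordinates of a relation lie in every prime of the good locus -/
theorem coord_mem_of_smul_eq_zero {n : ℕ} (M : Type u) [AddCommGroup M]
    [Module R M] [Module.Finite R M] (u : (Fin n → R) →ₗ[R] M) (q : PrimeSpectrum R)
    (hq : q ∉ Module.support R (M ⧸ LinearMap.range u)) (hn : fr M q = n)
    (v : Fin n → R) (t : R) (ht : t ∉ q.asIdeal) (htv : t • u v = 0) (k : Fin n) :
    v k ∈ q.asIdeal := by
  have hsurj := baseChange_surjective_of_notMem_support M u q hq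
  have hfin : Module.finrank q.asIdeal.ResidueField (q.asIdeal.ResidueField ⊗[R] (Fin n → R)) =
      Module.finrank q.asIdeal.ResidueField (q.asIdeal.ResidueField ⊗[R] M) := by
    rw [finrank_baseChange_fin]
    exact hn.symm
  have hinj : Function.Injective (u.baseChange q.asIdeal.ResidueField) :=
    (LinearMap.injective_iff_surjective_of_finrank_eq_finrank hfin).2 hsurj
  have h1 : (algebraMap R q.asIdeal.ResidueField t) •
      ((1 : q.asIdeal.ResidueField) ⊗ₜ[R] u v) = 0 := by
    rw [TensorProduct.smul_tmul', smul_eq_mul, mul_one, Algebra.algebraMap_eq_smul_one,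
      TensorProduct.smul_tmul, htv, TensorProduct.tmul_zero]
  have h2 : (1 : q.asIdeal.ResidueField) ⊗ₜ[R] u v = 0 := by
    rcases smul_eq_zero.1 h1 with h | h
    · exact absurd (Ideal.algebraMap_residueField_eq_zero.1 h) ht
    · exact h
  have h3 : (1 : q.asIdeal.ResidueField) ⊗ₜ[R] v = 0 := by
    apply hinj
    rw [LinearMap.baseChange_tmul, h2, map_zero]
  have h4 := congrArg ((TensorProduct.rid R q.asIdeal.ResidueField).toLinearMap ∘ₗ
    (LinearMap.proj k : (Fin n → R) →ₗ[R] R).lTensor q.asIdeal.ResidueField) h3
  simp only [LinearMap.comp_apply, LinearMap.lTensor_tmul, LinearMap.proj_apply,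
    LinearEquiv.coe_coe, TensorProduct.rid_tmul, map_zero] at h4
  rw [← Algebra.algebraMap_eq_smul_one] at h4
  exact Ideal.algebraMap_residueField_eq_zero.1 h4

/-- constant fibre rank near `p` over a reduced ring implies freeness at `p` -/
theorem free_localization_of_fr_const [IsReduced R] (M : Type u) [AddCommGroup M] [Module R M]
    [Module.Finite R M] (p : PrimeSpectrum R) (U : Set (PrimeSpectrum R)) (hU : IsOpen U)
    (hpU : p ∈ U) (hc : ∀ q ∈ U, fr M q = fr M p) :
    Module.Free (Localization.AtPrime p.asIdeal) (LocalizedModule p.asIdeal.primeCompl M) := by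
  classical
  obtain ⟨u, hu⟩ := exists_gen M p
  have hopen : IsOpen (U ∩ (Module.support R (M ⧸ LinearMap.range u))ᶜ) :=
    hU.inter Module.isClosed_support.isOpen_compl
  have hsurj : Function.Surjective (LocalizedModule.map p.asIdeal.primeCompl u) := by
    intro y
    induction y using LocalizedModule.induction_on with
    | h m s =>
      have hsub : Subsingleton (LocalizedModule p.asIdeal.primeCompl (M ⧸ LinearMap.range u)) :=
        Module.notMem_support_iff.1 hu
      obtain ⟨t, ht, htm⟩ := LocalizedModule.subsingleton_iff.1 hsub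
        ((LinearMap.range u).mkQ m)
      rw [← map_smul, Submodule.mkQ_apply, Submodule.Quotient.mk_eq_zero] at htm
      obtain ⟨v, hv⟩ := htm
      refine ⟨LocalizedModule.mk v (⟨t, ht⟩ * s), ?_⟩
      rw [LocalizedModule.map_mk, hv]
      exact LocalizedModule.mk_cancel_common_left ⟨t, ht⟩ s m
  have hinj : Function.Injective (LocalizedModule.map p.asIdeal.primeCompl u) := by
    rw [injective_iff_map_eq_zero]
    intro x hx
    induction x using LocalizedModule.induction_on with
    | h v s =>
      rw [LocalizedModule.map_mk, ← LocalizedModule.zero_mk 1, LocalizedModule.mk_eq] at hx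
      obtain ⟨t, ht⟩ := hx
      rw [one_smul, smul_zero, smul_zero] at ht
      have hcoord : ∀ k, ∃ c : p.asIdeal.primeCompl, (c : R) * v k = 0 := by
        intro k
        rw [← IsLocalization.map_eq_zero_iff p.asIdeal.primeCompl
          (Localization.AtPrime p.asIdeal)]
        have hnil : IsNilpotent (algebraMap R (Localization.AtPrime p.asIdeal) (v k)) := by
          rw [nilpotent_iff_mem_prime]
          intro J hJ
          let q : PrimeSpectrum R :=
            ⟨J.comap (algebraMap R (Localization.AtPrime p.asIdeal)), inferInstance⟩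
          have hqp : q ≤ p := by
            intro x hx
            by_contra hxp
            have hunit : IsUnit (algebraMap R (Localization.AtPrime p.asIdeal) x) :=
              IsLocalization.map_units _ (⟨x, hxp⟩ : p.asIdeal.primeCompl)
            exact hJ.ne_top (Ideal.eq_top_of_isUnit_mem _ hx hunit)
          have hq : q ∈ U ∩ (Module.support R (M ⧸ LinearMap.range u))ᶜ :=
            ((PrimeSpectrum.le_iff_specializes q p).1 hqp).mem_open hopen ⟨hpU, hu⟩
          have htq : (t : R) ∉ q.asIdeal := fun h => t.2 (hqp h)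
          exact coord_mem_of_smul_eq_zero M u q hq.2 (hc q hq.1) v t htq ht k
        exact hnil.eq_zero
      choose c hc' using hcoord
      rw [← LocalizedModule.zero_mk 1, LocalizedModule.mk_eq]
      refine ⟨∏ k, c k, ?_⟩
      rw [one_smul, smul_zero, smul_zero]
      funext k
      change ((∏ j, c j : p.asIdeal.primeCompl) : R) * v k = 0
      rw [Submonoid.coe_finset_prod, ← Finset.mul_prod_erase Finset.univ _ (Finset.mem_univ k),
        mul_right_comm, hc' k, zero_mul]
  haveI : Module.Free (Localization.AtPrime p.asIdeal)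
      (LocalizedModule p.asIdeal.primeCompl (Fin (fr M p) → R)) :=
    Module.free_of_isLocalizedModule p.asIdeal.primeCompl
      (LocalizedModule.mkLinearMap p.asIdeal.primeCompl (Fin (fr M p) → R))
  exact Module.Free.of_equiv
    (LinearEquiv.ofBijective (LocalizedModule.map p.asIdeal.primeCompl u) ⟨hinj, hsurj⟩)

end Groth.Agent.Lib.BettiProj_helper6
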