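import Mathlib
import Groth.Prelude
import Groth.Agent.Lib.PBCLoc2_helper2

/-!
# Local constancy of the Euler characteristic of a bounded-below complex of finite projective
modules whose homology ranks vanish in positive degrees (helper2)
APPEND-ONLY once landed.
-/

set_option autoImplicit false
set_option linter.style.haveILetI false
set_option linter.unusedSectionVars false
universe u
open CategoryTheory Limits TensorProduct

namespace Groth.Agent.Lib.PBCH2

theorem tele (H C T : ℕ → ℤ) (hrel : ∀ i, H i + T i = C i + C (i + 1)) (N : ℕ) :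
    ∑ i ∈ Finset.range N, (-1 : ℤ) ^ i * H i =
      C 0 - (-1) ^ N * C N - ∑ i ∈ Finset.range N, (-1 : ℤ) ^ i * T i := by
  induction N with
  | zero => simp
  | succ N ih =>
    rw [Finset.sum_range_succ, Finset.sum_range_succ, ih, pow_succ]
    linear_combination ((-1 : ℤ)) ^ N * hrel N

section Alg

variable {A : Type u} [CommRing A] (P : ChainComplex (ModuleCat.{u} A) ℤ)

theorem subsingleton_tensor_of_subsingleton (K M : Type*) [CommRing K] [Algebra A K]
    [AddCommGroup M] [Module A M] [Subsingleton M] : Subsingleton (K ⊗[A] M) := by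
  refine subsingleton_of_forall_eq 0 (fun z => ?_)
  induction z using TensorProduct.induction_on with
  | zero => rfl
  | tmul a m => rw [Subsingleton.elim m 0, TensorProduct.tmul_zero]
  | add a b ha hb => rw [ha, hb, add_zero]

theorem cR_eq_zero_of_isZero (i j : ℤ) (h : IsZero (P.X j)) (y : PrimeSpectrum A) :
    FiberRank9.cR P i j y = 0 := by
  haveI : Subsingleton (P.X j) := ModuleCat.subsingleton_of_isZero h
  haveI : Subsingleton (P.X j ⧸ LinearMap.range (P.d i j).hom) :=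
    (Submodule.Quotient.mk_surjective _).subsingleton
  haveI := subsingleton_tensor_of_subsingleton (A := A) y.asIdeal.ResidueField
    (P.X j ⧸ LinearMap.range (P.d i j).hom)
  unfold FiberRank9.cR
  exact Module.finrank_zero_of_subsingleton

theorem tR_eq_zero_of_isZero (j : ℤ) (h : IsZero (P.X j)) (y : PrimeSpectrum A) :
    FiberRank9.tR P j y = 0 := by
  haveI : Subsingleton (P.X j) := ModuleCat.subsingleton_of_isZero h
  haveI := subsingleton_tensor_of_subsingleton (A := A) y.asIdeal.ResidueField (P.X j)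
  unfold FiberRank9.tR
  exact Module.finrank_zero_of_subsingleton

theorem dRank_eq_zero_of_isZero (hfin : ∀ i, Module.Finite A (P.X i)) (p : ℤ)
    (h1 : IsZero (P.X p)) (h2 : IsZero (P.X (p - 1))) (y : PrimeSpectrum A) :
    CohIII.dRank P p y = 0 := by
  have h := FiberRank9.dRank_add_tR P hfin p (p + 1) (p - 1) rfl rfl y
  rw [cR_eq_zero_of_isZero P _ _ h1, cR_eq_zero_of_isZero P _ _ h2] at h
  omega

theorem chi_formula (hfin : ∀ i, Module.Finite A (P.X i)) (N : ℕ)
    (hN : ∀ i : ℕ, N ≤ i → IsZero (P.X (-(i : ℤ)))) (y : PrimeSpectrum A) :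
    ∑ᶠ i : ℕ, (-1 : ℤ) ^ i * (CohIII.dRank P (-(i : ℤ)) y : ℤ) =
      (FiberRank9.cR P 1 0 y : ℤ) -
        ∑ i ∈ Finset.range N, (-1 : ℤ) ^ i * (FiberRank9.tR P (-(i : ℤ) - 1) y : ℤ) := by
  have hsupp : (Function.support fun i : ℕ => (-1 : ℤ) ^ i * (CohIII.dRank P (-(i : ℤ)) y : ℤ)) ⊆
      ((Finset.range N : Finset ℕ) : Set ℕ) := by
    intro i hi
    by_contra hcon
    have hNi : N ≤ i := by
      simpa using hcon
    have e1 : -(((i + 1 : ℕ)) : ℤ) = -(i : ℤ) - 1 := by push_cast; ring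
    have h2 : IsZero (P.X (-(i : ℤ) - 1)) := by
      rw [← e1]
      exact hN (i + 1) (by omega)
    have := dRank_eq_zero_of_isZero P hfin (-(i : ℤ)) (hN i hNi) h2 y
    apply hi
    show (-1 : ℤ) ^ i * (CohIII.dRank P (-(i : ℤ)) y : ℤ) = 0
    rw [this]
    simp
  rw [finsum_eq_sum_of_support_subset _ hsupp]
  have hrel : ∀ i : ℕ, (CohIII.dRank P (-(i : ℤ)) y : ℤ) + (FiberRank9.tR P (-(i : ℤ) - 1) y : ℤ) =
      (FiberRank9.cR P (-(i : ℤ) + 1) (-(i : ℤ)) y : ℤ) +
        (FiberRank9.cR P (-((i + 1 : ℕ) : ℤ) + 1) (-((i + 1 : ℕ) : ℤ)) y : ℤ) := by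
    intro i
    have h := FiberRank9.dRank_add_tR P hfin (-(i : ℤ)) (-(i : ℤ) + 1) (-(i : ℤ) - 1) rfl rfl y
    have e1 : -(((i + 1 : ℕ)) : ℤ) = -(i : ℤ) - 1 := by push_cast; ring
    rw [e1, show -(i : ℤ) - 1 + 1 = -(i : ℤ) by ring]
    exact_mod_cast h
  have ht := tele (fun i : ℕ => (CohIII.dRank P (-(i : ℤ)) y : ℤ))
    (fun i : ℕ => (FiberRank9.cR P (-(i : ℤ) + 1) (-(i : ℤ)) y : ℤ))
    (fun i : ℕ => (FiberRank9.tR P (-(i : ℤ) - 1) y : ℤ)) hrel N
  rw [ht]
  have hCN : (FiberRank9.cR P (-(N : ℤ) + 1) (-(N : ℤ)) y : ℤ) = 0 := by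
    rw [cR_eq_zero_of_isZero P _ _ (hN N le_rfl)]
    rfl
  simp only [hCN, mul_zero, sub_zero, Nat.cast_zero, neg_zero, zero_add]

theorem tR_eventually_eq' (hP : ∀ i, Module.Finite A (P.X i) ∧ Module.Projective A (P.X i))
    (j : ℤ) (x : PrimeSpectrum A) :
    ∀ᶠ y in nhds x, FiberRank9.tR P j y = FiberRank9.tR P j x := by
  haveI := (hP j).1
  haveI := (hP j).2
  haveI : Module.FinitePresentation A (P.X j) := Module.finitePresentation_of_projective A _
  have hlc : IsLocallyConstant (Module.rankAtStalk (R := A) (P.X j)) :=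
    Module.isLocallyConstant_rankAtStalk
  filter_upwards [hlc.eventually_eq x] with y hy
  rw [Module.rankAtStalk_eq, Module.rankAtStalk_eq] at hy
  unfold Ideal.Fiber at hy
  exact hy

theorem chi_eventually_eq (hP : ∀ i, Module.Finite A (P.X i) ∧ Module.Projective A (P.X i))
    (N : ℕ) (hN : ∀ i : ℕ, N ≤ i → IsZero (P.X (-(i : ℤ))))
    (hpos1 : ∀ y : PrimeSpectrum A, CohIII.dRank P 1 y = 0) (x : PrimeSpectrum A) :
    ∀ᶠ y in nhds x, ∑ᶠ i : ℕ, (-1 : ℤ) ^ i * (CohIII.dRank P (-(i : ℤ)) y : ℤ) =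
      ∑ᶠ i : ℕ, (-1 : ℤ) ^ i * (CohIII.dRank P (-(i : ℤ)) x : ℤ) := by
  have hfin : ∀ i, Module.Finite A (P.X i) := fun i => (hP i).1
  have h1 := FiberRank9.cR_eventually_le P hfin 1 0 x
  have h2 := FiberRank9.cR_eventually_le P hfin 2 1 x
  have h3 := tR_eventually_eq' P hP 0 x
  have h4 : ∀ᶠ y in nhds x, ∀ i ∈ Finset.range N,
      FiberRank9.tR P (-(i : ℤ) - 1) y = FiberRank9.tR P (-(i : ℤ) - 1) x := by
    rw [Filter.eventually_all_finset]
    intro i _
    exact tR_eventually_eq' P hP _ x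
  filter_upwards [h1, h2, h3, h4] with y hy1 hy2 hy3 hy4
  rw [chi_formula P hfin N hN y, chi_formula P hfin N hN x]
  have ey := FiberRank9.dRank_add_tR P hfin 1 2 0 rfl rfl y
  have ex := FiberRank9.dRank_add_tR P hfin 1 2 0 rfl rfl x
  rw [hpos1 y] at ey
  rw [hpos1 x] at ex
  have hc : FiberRank9.cR P 1 0 y = FiberRank9.cR P 1 0 x := by omega
  rw [hc]
  congr 1
  refine Finset.sum_congr rfl (fun i hi => ?_)
  rw [hy4 i hi]

end Alg

end Groth.Agent.Lib.PBCH2
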