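import Mathlib
import Groth.Prelude
import Groth.Agent.Lib.PBCAlg5_helper2

/-!
# Free loci of the cokernels of a complex and projectivity of its homology (helper2)

APPEND-ONLY once landed.
-/

set_option autoImplicit false
set_option linter.style.haveILetI false
set_option linter.unusedSectionVars false
universe u
open CategoryTheory Limits TensorProduct MonoidalCategory

namespace Groth.Agent.Lib.PBCH2

section LinAlg

variable {A : Type u} [CommRing A]

/-- in an exact sequence `0 → H → W → X → Q → 0` with `H`, `X`, `Q` projective, `W` is projective -/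
theorem projective_of_exact_four {H W X Q : Type u} [AddCommGroup H] [Module A H] [AddCommGroup W]
    [Module A W] [AddCommGroup X] [Module A X] [AddCommGroup Q] [Module A Q]
    (ι : H →ₗ[A] W) (φ : W →ₗ[A] X) (π : X →ₗ[A] Q)
    (hι : Function.Injective ι) (h1 : Function.Exact ι φ) (h2 : Function.Exact φ π)
    (hπ : Function.Surjective π)
    [Module.Projective A H] [Module.Projective A X] [Module.Projective A Q] :
    Module.Projective A W := by
  obtain ⟨σ, hσ⟩ := Module.projective_lifting_property π LinearMap.id hπ
  have hσ' : ∀ q, π (σ q) = q := fun q => LinearMap.congr_fun hσ q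
  let r : X →ₗ[A] LinearMap.ker π :=
    LinearMap.codRestrict (LinearMap.ker π) (LinearMap.id - σ ∘ₗ π) (fun x => by
      rw [LinearMap.mem_ker]
      show π (x - σ (π x)) = 0
      rw [map_sub, hσ', sub_self])
  have hr : r ∘ₗ (LinearMap.ker π).subtype = LinearMap.id := by
    ext ⟨b, hb⟩
    show b - σ (π b) = b
    rw [LinearMap.mem_ker.mp hb, map_zero, sub_zero]
  haveI : Module.Projective A (LinearMap.ker π) :=
    Module.Projective.of_split (LinearMap.ker π).subtype r hr
  let φ' : W →ₗ[A] LinearMap.ker π :=
    LinearMap.codRestrict (LinearMap.ker π) φ (fun w => by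
      rw [LinearMap.mem_ker]
      exact h2.apply_apply_eq_zero w)
  have hφ' : Function.Surjective φ' := by
    rintro ⟨b, hb⟩
    obtain ⟨w, hw⟩ := (h2 b).mp (LinearMap.mem_ker.mp hb)
    exact ⟨w, Subtype.ext hw⟩
  have hex : Function.Exact ι φ' := by
    intro w
    rw [← h1 w]
    constructor
    · intro h
      exact congrArg Subtype.val h
    · intro h
      exact Subtype.ext h
  obtain ⟨l, hl⟩ := Module.projective_lifting_property φ' LinearMap.id hφ'
  let e := (hex.splitSurjectiveEquiv hι ⟨l, hl⟩).1
  exact Module.Projective.of_equiv e.symm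

end LinAlg

section Cx

variable {A : Type u} [CommRing A] (P : ChainComplex (ModuleCat.{u} A) ℤ)

/-- if `H_p(P)`, `P_{p-1}` and the cokernel of `d_p` are projective then so is the cokernel of
`d_{p+1}` -/
theorem projective_opcycles_step (p : ℤ) [Module.Projective A (P.X (p - 1))]
    [Module.Projective A (P.homology p)] [Module.Projective A (P.opcycles (p - 1))] :
    Module.Projective A (P.opcycles p) := by
  have hrel : (ComplexShape.down ℤ).Rel p (p - 1) := by simp
  have hnext : (ComplexShape.down ℤ).next p = p - 1 := (ComplexShape.down ℤ).next_eq' hrel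
  have hι : Function.Injective (P.homologyι p).hom :=
    (ModuleCat.mono_iff_injective _).mp inferInstance
  have hπ : Function.Surjective (P.pOpcycles (p - 1)).hom :=
    (ModuleCat.epi_iff_surjective _).mp inferInstance
  have hp : Function.Surjective (P.pOpcycles p).hom :=
    (ModuleCat.epi_iff_surjective _).mp inferInstance
  have hS : (ShortComplex.mk (P.homologyι p) (P.fromOpcycles p (p - 1))
      (P.homologyι_comp_fromOpcycles p (p - 1))).Exact :=
    ShortComplex.exact_of_f_is_kernel _ (P.homologyIsKernel p (p - 1) hnext)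
  have h1 : Function.Exact (P.homologyι p).hom (P.fromOpcycles p (p - 1)).hom := by
    rw [LinearMap.exact_iff]
    exact hS.moduleCat_range_eq_ker.symm
  have hrange : LinearMap.range (P.fromOpcycles p (p - 1)).hom =
      LinearMap.range (P.d p (p - 1)).hom := by
    have hd : P.d p (p - 1) = P.pOpcycles p ≫ P.fromOpcycles p (p - 1) :=
      (P.p_fromOpcycles p (p - 1)).symm
    apply le_antisymm
    · rintro _ ⟨w, rfl⟩
      obtain ⟨x, rfl⟩ := hp w
      exact ⟨x, by rw [hd]; rfl⟩
    · rintro _ ⟨x, rfl⟩
      exact ⟨(P.pOpcycles p).hom x, by rw [hd]; rfl⟩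
  have h2 : Function.Exact (P.fromOpcycles p (p - 1)).hom (P.pOpcycles (p - 1)).hom := by
    rw [LinearMap.exact_iff, hrange]
    exact Groth.Agent.TFunLocal5.ker_pOpcycles P p (p - 1) hrel
  exact projective_of_exact_four (P.homologyι p).hom (P.fromOpcycles p (p - 1)).hom
    (P.pOpcycles (p - 1)).hom hι h1 h2 hπ

theorem projective_opcycles_of_isZero (j : ℤ) (h : IsZero (P.X j)) :
    Module.Projective A (P.opcycles j) := by
  haveI : Subsingleton (P.X j) := ModuleCat.subsingleton_of_isZero h
  have hp : Function.Surjective (P.pOpcycles j).hom :=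
    (ModuleCat.epi_iff_surjective _).mp inferInstance
  haveI : Subsingleton (P.opcycles j) := hp.subsingleton
  infer_instance

variable (hP : ∀ i, Module.Finite A (P.X i) ∧ Module.Free A (P.X i))

include hP in
/-- if `T_p(K')` vanishes for a field `K'` then the cokernels of `d_{p+1}` and `d_p` are free at the
kernel of `A → K'` -/
theorem mem_freeLocus_of_subsingleton_T (p : ℤ) (K' : Type u) [Field K'] [Algebra A K']
    (hK : Subsingleton ((CohIII.TFun P p).obj (ModuleCat.of A K'))) (y : PrimeSpectrum A)
    (hker : RingHom.ker (algebraMap A K') = y.asIdeal) :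
    y ∈ Module.freeLocus A (P.opcycles p) ∧ y ∈ Module.freeLocus A (P.opcycles (p - 1)) := by
  have hd := dRank_eq_zero_of_subsingleton_T P p K' hK y hker
  have hP' := hP_proj P hP
  have h0 := isZero_T_loc_of_dRank P hP' p y hd
  have hm : (CohIII.TFun (CohIII.bcCx (algebraMap A (Localization.AtPrime y.asIdeal)) P)
      p).PreservesMonomorphisms :=
    ⟨fun {X Y} f _ => ⟨fun a b _ => (h0 X).eq_of_tgt a b⟩⟩
  have he : (CohIII.TFun (CohIII.bcCx (algebraMap A (Localization.AtPrime y.asIdeal)) P)
      p).PreservesEpimorphisms :=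
    ⟨fun {X Y} f _ => ⟨fun a b _ => (h0 Y).eq_of_src a b⟩⟩
  exact ⟨(mono_loc_iff' P hP' p y).mp hm, (epi_loc_iff' P hP' p y).mp he⟩

include hP in
theorem mem_freeLocus_of_betaT_surjective' (p : ℤ) (K' : Type u) [Field K'] [Algebra A K']
    (hsurj : Function.Surjective (betaT P p (ModuleCat.of A K'))) (y : PrimeSpectrum A)
    (hker : RingHom.ker (algebraMap A K') = y.asIdeal) :
    y ∈ Module.freeLocus A (P.opcycles (p - 1)) := by
  have hrel : (ComplexShape.down ℤ).Rel p (p - 1) := by simp
  haveI := (hP p).1
  haveI := (hP (p - 1)).1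
  haveI := (hP (p - 1)).2
  exact mem_freeLocus_of_betaT_surjective P p (p - 1) hrel K' hsurj y hker

include hP in
/-- if the cokernels of `d_{p+1}` and `d_p` are free at every prime, `H_p(P)` is finite projective -/
theorem finite_projective_homology_of_freeLocus (p : ℤ)
    (h1 : ∀ y : PrimeSpectrum A, y ∈ Module.freeLocus A (P.opcycles p))
    (h2 : ∀ y : PrimeSpectrum A, y ∈ Module.freeLocus A (P.opcycles (p - 1))) :
    Module.Finite A (P.homology p) ∧ Module.Projective A (P.homology p) := by
  have hP' := hP_proj P hP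
  have hex := exact_of_forall_loc' P hP' p (fun x =>
    ⟨(mono_loc_iff' P hP' p x).mpr (h1 x), (epi_loc_iff' P hP' p x).mpr (h2 x)⟩)
  obtain ⟨hfin, hproj, -⟩ := homology_facts_of_exact' P hP' p hex
  exact ⟨hfin, hproj⟩

include hP in
theorem mem_freeLocus_of_projective_opcycles (j : ℤ) [Module.Projective A (P.opcycles j)]
    (y : PrimeSpectrum A) : y ∈ Module.freeLocus A (P.opcycles j) := by
  haveI := finitePresentation_opcycles' P (hP_proj P hP) j
  have := (Module.freeLocus_eq_univ_iff (R := A) (M := P.opcycles j)).mpr inferInstance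
  rw [this]
  trivial

end Cx

end Groth.Agent.Lib.PBCH2
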