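import Mathlib
import Groth.Prelude
import Groth.Agent.Lib.PBCAlg6_helper2
import Groth.Agent.Lib.EulerLoc_helper2
import Groth.Agent.Lib.BettiProj_helper6

/-!
# Retracts from splittings, local freeness criteria and local constancy of ranks (helper2)

APPEND-ONLY once landed.
-/

set_option autoImplicit false
set_option linter.style.haveILetI false
set_option linter.unusedSectionVars false
universe u
open CategoryTheory Limits TensorProduct MonoidalCategory

namespace Groth.Agent.Lib.PBCH2

section Retract

variable {A : Type u} [CommRing A] {κ : Type} {c : ComplexShape κ}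
  (P : HomologicalComplex (ModuleCat.{u} A) c)

set_option maxHeartbeats 1600000 in
/-- splittings up to `g₁` in degree `p` and up to `g₂` in the previous degree `q` make `H_p(P)` a
retract of `P_p` up to `g₂ g₁` -/
theorem retract_of_hasGSplit (p q : κ) (hrel : c.Rel q p) (g₁ g₂ : A)
    (h₁ : HasGSplit P p g₁) (h₂ : HasGSplit P q g₂) :
    ∃ (ψ : P.homology p ⟶ P.X p) (φ : P.X p ⟶ P.homology p), ψ ≫ φ = (g₂ * g₁) • 𝟙 _ := by
  obtain ⟨ρ, r, hS1, hS2⟩ := h₁
  obtain ⟨ρ', r', hS1', hS2'⟩ := h₂
  have hnext : c.next q = p := c.next_eq' hrel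
  have hprev : c.prev p = q := c.prev_eq' hrel
  let r'' : P.X p ⟶ P.X q := (P.XIsoOfEq hnext).inv ≫ r'
  have hS2'' : ρ' ≫ P.iCycles q + P.d q p ≫ r'' = g₂ • 𝟙 _ := by
    have h : P.d q p ≫ r'' = P.d q (c.next q) ≫ r' := by
      show P.d q p ≫ (P.XIsoOfEq hnext).inv ≫ r' = _
      rw [← Category.assoc, P.d_comp_XIsoOfEq_inv]
    rw [h]
    exact hS2'
  have hdrd : P.d q p ≫ r'' ≫ P.d q p = g₂ • P.d q p := by
    have h := congrArg (fun φ => φ ≫ P.d q p) hS2''
    simp only [Preadditive.add_comp, Category.assoc, P.iCycles_d, comp_zero, zero_add,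
      Linear.smul_comp, Category.id_comp] at h
    exact h
  let ψt : P.cycles p ⟶ P.X p := g₂ • P.iCycles p - P.iCycles p ≫ r'' ≫ P.d q p
  have h0 : P.toCycles q p ≫ ψt = 0 := by
    show P.toCycles q p ≫ (g₂ • P.iCycles p - P.iCycles p ≫ r'' ≫ P.d q p) = 0
    rw [Preadditive.comp_sub, Linear.comp_smul, ← Category.assoc (P.toCycles q p),
      P.toCycles_i, hdrd, sub_self]
  let ψ : P.homology p ⟶ P.X p :=
    (P.homologyIsCokernel q p hprev).desc (CokernelCofork.ofπ ψt h0)
  have hψ : P.homologyπ p ≫ ψ = ψt :=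
    (P.homologyIsCokernel q p hprev).fac (CokernelCofork.ofπ ψt h0) WalkingParallelPair.one
  refine ⟨ψ, ρ ≫ P.homologyπ p, ?_⟩
  rw [← cancel_epi (P.homologyπ p), ← Category.assoc, hψ]
  have e2 : P.d q p ≫ ρ = g₁ • P.toCycles q p := by
    rw [← P.toCycles_i q p, Category.assoc, hS1, Linear.comp_smul, Category.comp_id]
  show (g₂ • P.iCycles p - P.iCycles p ≫ r'' ≫ P.d q p) ≫ ρ ≫ P.homologyπ p =
    P.homologyπ p ≫ ((g₂ * g₁) • 𝟙 _)
  have e3 : (P.iCycles p ≫ r'' ≫ P.d q p) ≫ ρ ≫ P.homologyπ p = 0 := by
    rw [Category.assoc, Category.assoc, ← Category.assoc (P.d q p) ρ, e2, Linear.smul_comp,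
      P.toCycles_comp_homologyπ, smul_zero, comp_zero, comp_zero]
  have e4 : (g₂ • P.iCycles p) ≫ ρ ≫ P.homologyπ p = (g₂ * g₁) • P.homologyπ p := by
    rw [Linear.smul_comp, ← Category.assoc, hS1, Linear.smul_comp, Category.id_comp, smul_smul]
  rw [Preadditive.sub_comp, e3, e4, sub_zero, Linear.comp_smul, Category.comp_id]

end Retract

section BaseChange

variable {A : Type u} [CommRing A]

/-- a base change of a retract (up to an element which becomes invertible) of a finite projective
module is finite projective -/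
theorem finite_projective_of_isBaseChange_retract {H X₀ : Type u} [AddCommGroup H] [Module A H]
    [AddCommGroup X₀] [Module A X₀] [Module.Finite A X₀] [Module.Projective A X₀]
    (ψ : H →ₗ[A] X₀) (φ : X₀ →ₗ[A] H) (c : A) (hc : ∀ h, φ (ψ h) = c • h)
    (B : Type u) [CommRing B] [Algebra A B] (hu : IsUnit (algebraMap A B c))
    {N : Type u} [AddCommGroup N] [Module A N] [Module B N] [IsScalarTower A B N]
    (l : H →ₗ[A] N) (hl : IsBaseChange B l) :
    Module.Finite B N ∧ Module.Projective B N := by
  obtain ⟨u, hu'⟩ := hu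
  let ψB : B ⊗[A] H →ₗ[B] B ⊗[A] X₀ := ψ.baseChange B
  let φB : B ⊗[A] X₀ →ₗ[B] B ⊗[A] H := φ.baseChange B
  let rB : B ⊗[A] X₀ →ₗ[B] B ⊗[A] H := (↑u⁻¹ : B) • φB
  have hr : rB ∘ₗ ψB = LinearMap.id := by
    apply LinearMap.ext
    intro z
    induction z using TensorProduct.induction_on with
    | zero => simp
    | tmul b h =>
      show (↑u⁻¹ : B) • (b ⊗ₜ[A] φ (ψ h)) = b ⊗ₜ[A] h
      rw [hc, TensorProduct.tmul_smul, ← algebraMap_smul B c (b ⊗ₜ[A] h), smul_smul, ← hu',
        Units.inv_mul, one_smul]
    | add z w hz hw => rw [map_add, hz, hw, map_add]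
  haveI : Module.Projective B (B ⊗[A] H) := Module.Projective.of_split ψB rB hr
  haveI : Module.Finite B (B ⊗[A] H) := Module.Finite.of_surjective rB (fun w =>
    ⟨ψB w, LinearMap.congr_fun hr w⟩)
  exact ⟨Module.Finite.equiv hl.equiv, Module.Projective.of_equiv hl.equiv⟩

end BaseChange

section Local

variable {A : Type u} [CommRing A] (P : ChainComplex (ModuleCat.{u} A) ℤ)
  (hP : ∀ i, Module.Finite A (P.X i) ∧ Module.Free A (P.X i))

include hP in
set_option maxHeartbeats 1600000 in
/-- the local form of `projective_opcycles_step` -/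
theorem mem_freeLocus_opcycles_step (p : ℤ) (y : PrimeSpectrum A)
    (h1 : y ∈ Module.freeLocus A (P.homology p))
    (h2 : y ∈ Module.freeLocus A (P.opcycles (p - 1))) :
    y ∈ Module.freeLocus A (P.opcycles p) := by
  have hP' := hP_proj P hP
  have hrel : (ComplexShape.down ℤ).Rel p (p - 1) := by simp
  have hnext : (ComplexShape.down ℤ).next p = p - 1 := (ComplexShape.down ℤ).next_eq' hrel
  have hι : Function.Injective (P.homologyι p).hom :=
    (ModuleCat.mono_iff_injective _).mp inferInstance
  have hπ : Function.Surjective (P.pOpcycles (p - 1)).hom :=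
    (ModuleCat.epi_iff_surjective _).mp inferInstance
  have hp : Function.Surjective (P.pOpcycles p).hom :=
    (ModuleCat.epi_iff_surjective _).mp inferInstance
  have hS : (ShortComplex.mk (P.homologyι p) (P.fromOpcycles p (p - 1))
      (P.homologyι_comp_fromOpcycles p (p - 1))).Exact :=
    ShortComplex.exact_of_f_is_kernel _ (P.homologyIsKernel p (p - 1) hnext)
  have hex1 : Function.Exact (P.homologyι p).hom (P.fromOpcycles p (p - 1)).hom := by
    rw [LinearMap.exact_iff]
    exact hS.moduleCat_range_eq_ker.symm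
  have hrange : LinearMap.range (P.fromOpcycles p (p - 1)).hom =
      LinearMap.range (P.d p (p - 1)).hom := by
    have hd : P.d p (p - 1) = P.pOpcycles p ≫ P.fromOpcycles p (p - 1) :=
      (P.p_fromOpcycles p (p - 1)).symm
    apply le_antisymm
    · rintro _ ⟨w, rfl⟩
      obtain ⟨x, rfl⟩ := hp w
      exact ⟨x, by rw [hd]; rfl⟩
    · rintro _ ⟨x, rfl⟩
      exact ⟨(P.pOpcycles p).hom x, by rw [hd]; rfl⟩
  have hex2 : Function.Exact (P.fromOpcycles p (p - 1)).hom (P.pOpcycles (p - 1)).hom := by
    rw [LinearMap.exact_iff, hrange]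
    exact Groth.Agent.TFunLocal5.ker_pOpcycles P p (p - 1) hrel
  -- localize
  haveI : Module.Free (Localization.AtPrime y.asIdeal)
      (LocalizedModule y.asIdeal.primeCompl (P.homology p)) := h1
  haveI : Module.Free (Localization.AtPrime y.asIdeal)
      (LocalizedModule y.asIdeal.primeCompl (P.opcycles (p - 1))) := h2
  haveI hH : Module.Projective (Localization.AtPrime y.asIdeal)
      (LocalizedModule y.asIdeal.primeCompl (P.homology p)) := Module.Projective.of_free
  haveI hQ : Module.Projective (Localization.AtPrime y.asIdeal)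
      (LocalizedModule y.asIdeal.primeCompl (P.opcycles (p - 1))) := Module.Projective.of_free
  haveI := (hP' (p - 1)).2
  haveI := (hP' p).1
  haveI hX : Module.Projective (Localization.AtPrime y.asIdeal)
      (LocalizedModule y.asIdeal.primeCompl (P.X (p - 1))) :=
    Module.projective_of_isLocalizedModule y.asIdeal.primeCompl
      (LocalizedModule.mkLinearMap y.asIdeal.primeCompl (P.X (p - 1)))
  haveI : Module.Finite A (P.opcycles p) := Module.Finite.of_surjective _ hp
  have hproj : Module.Projective (Localization.AtPrime y.asIdeal)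
      (LocalizedModule y.asIdeal.primeCompl (P.opcycles p)) :=
    @projective_of_exact_four (Localization.AtPrime y.asIdeal) _ _ _ _ _ _ _ _ _ _ _ _ _
      (LocalizedModule.map y.asIdeal.primeCompl (P.homologyι p).hom)
      (LocalizedModule.map y.asIdeal.primeCompl (P.fromOpcycles p (p - 1)).hom)
      (LocalizedModule.map y.asIdeal.primeCompl (P.pOpcycles (p - 1)).hom)
      (LocalizedModule.map_injective _ _ hι)
      (LocalizedModule.map_exact y.asIdeal.primeCompl _ _ hex1)
      (LocalizedModule.map_exact y.asIdeal.primeCompl _ _ hex2)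
      (LocalizedModule.map_surjective _ _ hπ) hH hX hQ
  rw [Module.mem_freeLocus]
  haveI : Module.Finite (Localization.AtPrime y.asIdeal)
      (LocalizedModule y.asIdeal.primeCompl (P.opcycles p)) :=
    Module.Finite.of_isLocalizedModule y.asIdeal.primeCompl
      (LocalizedModule.mkLinearMap y.asIdeal.primeCompl (P.opcycles p))
  haveI : Module.Flat (Localization.AtPrime y.asIdeal)
      (LocalizedModule y.asIdeal.primeCompl (P.opcycles p)) :=
    @Module.Flat.of_projective _ _ _ _ _ hproj
  exact Module.free_of_flat_of_isLocalRing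

end Local

section Rank

variable {A : Type u} [CommRing A]

/-- at a point of the free locus, the rank is the fibre dimension -/
lemma rankAtStalk_eq_of_mem_freeLocus (M : Type u) [AddCommGroup M] [Module A M]
    (p : PrimeSpectrum A) (hp : p ∈ Module.freeLocus A M) :
    Module.rankAtStalk M p =
      Module.finrank p.asIdeal.ResidueField (p.asIdeal.ResidueField ⊗[A] M) := by
  haveI : Module.Free (Localization.AtPrime p.asIdeal)
      (LocalizedModule p.asIdeal.primeCompl M) := hp
  let e0 : LocalizedModule p.asIdeal.primeCompl M ≃ₗ[Localization.AtPrime p.asIdeal]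
      Localization.AtPrime p.asIdeal ⊗[A] M :=
    LocalizedModule.equivTensorProduct p.asIdeal.primeCompl M
  haveI : Module.Free (Localization.AtPrime p.asIdeal)
      (Localization.AtPrime p.asIdeal ⊗[A] M) := Module.Free.of_equiv e0
  let e : p.asIdeal.ResidueField ⊗[Localization.AtPrime p.asIdeal]
      (Localization.AtPrime p.asIdeal ⊗[A] M) ≃ₗ[p.asIdeal.ResidueField]
      p.asIdeal.ResidueField ⊗[A] M :=
    TensorProduct.AlgebraTensorModule.cancelBaseChange _ _ _ _ _
  rw [← e.finrank_eq, Module.finrank_baseChange, Module.rankAtStalk_eq_finrank_tensorProduct]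

/-- the fibre dimension of a finitely presented module is locally constant near a point of the
free locus -/
theorem fr_eventually_eq_of_mem_freeLocus (M : Type u) [AddCommGroup M] [Module A M]
    [Module.FinitePresentation A M] (x : PrimeSpectrum A) (hx : x ∈ Module.freeLocus A M) :
    ∀ᶠ y in nhds x,
      Module.finrank y.asIdeal.ResidueField (y.asIdeal.ResidueField ⊗[A] M) =
        Module.finrank x.asIdeal.ResidueField (x.asIdeal.ResidueField ⊗[A] M) := by
  have hopen : IsOpen (Module.freeLocus A M) := Module.isOpen_freeLocus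
  have hlc := Module.isLocallyConstant_rankAtStalk_freeLocus (R := A) (M := M)
  have h1 : IsOpen {z : Module.freeLocus A M |
      Module.rankAtStalk M z.1 = Module.rankAtStalk M x} :=
    hlc.isOpen_fiber (Module.rankAtStalk M x)
  have h2 : IsOpen (Subtype.val '' {z : Module.freeLocus A M |
      Module.rankAtStalk M z.1 = Module.rankAtStalk M x}) :=
    hopen.isOpenMap_subtype_val _ h1
  have h3 : x ∈ Subtype.val '' {z : Module.freeLocus A M |
      Module.rankAtStalk M z.1 = Module.rankAtStalk M x} := ⟨⟨x, hx⟩, rfl, rfl⟩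
  filter_upwards [h2.mem_nhds h3] with y hy
  obtain ⟨z, hz, rfl⟩ := hy
  rw [← rankAtStalk_eq_of_mem_freeLocus M z.1 z.2, ← rankAtStalk_eq_of_mem_freeLocus M x hx]
  exact hz

variable (P : ChainComplex (ModuleCat.{u} A) ℤ)
  (hP : ∀ i, Module.Finite A (P.X i) ∧ Module.Free A (P.X i))

include hP in
/-- if the cokernels of `d_{p+1}` and `d_p` are free at `x`, the rank function of `P` in degree `p`
is constant near `x` -/
theorem dRank_eventually_eq_of_mem_freeLocus (p : ℤ) (x : PrimeSpectrum A)
    (h1 : x ∈ Module.freeLocus A (P.opcycles p))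
    (h2 : x ∈ Module.freeLocus A (P.opcycles (p - 1))) :
    ∀ᶠ y in nhds x, CohIII.dRank P p y = CohIII.dRank P p x := by
  have hP' := hP_proj P hP
  have hfin : ∀ i, Module.Finite A (P.X i) := fun i => (hP i).1
  have hrel1 : (ComplexShape.down ℤ).Rel (p + 1) p := by simp
  have hrel2 : (ComplexShape.down ℤ).Rel p (p - 1) := by simp
  haveI := hfin (p + 1)
  haveI := hfin p
  haveI := hfin (p - 1)
  haveI := (hP' p).2
  haveI := (hP' (p - 1)).2
  haveI := finitePresentation_quot_range (P.d (p + 1) p).hom
  haveI := finitePresentation_quot_range (P.d p (p - 1)).hom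
  have hx1 : x ∈ Module.freeLocus A (P.X p ⧸ LinearMap.range (P.d (p + 1) p).hom) := by
    rw [Module.freeLocus_congr (Groth.Agent.TFunRank5.opcyclesEquivQuot P (p + 1) p hrel1)]
    exact h1
  have hx2 : x ∈ Module.freeLocus A (P.X (p - 1) ⧸ LinearMap.range (P.d p (p - 1)).hom) := by
    rw [Module.freeLocus_congr (Groth.Agent.TFunRank5.opcyclesEquivQuot P p (p - 1) hrel2)]
    exact h2
  have e1 := fr_eventually_eq_of_mem_freeLocus _ x hx1
  have e2 := fr_eventually_eq_of_mem_freeLocus _ x hx2
  have e3 := tR_eventually_eq' P hP' (p - 1) x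
  filter_upwards [e1, e2, e3] with y hy1 hy2 hy3
  have ey := FiberRank9.dRank_add_tR P hfin p (p + 1) (p - 1) rfl rfl y
  have ex := FiberRank9.dRank_add_tR P hfin p (p + 1) (p - 1) rfl rfl x
  have hy1' : FiberRank9.cR P (p + 1) p y = FiberRank9.cR P (p + 1) p x := hy1
  have hy2' : FiberRank9.cR P p (p - 1) y = FiberRank9.cR P p (p - 1) x := hy2
  omega

include hP in
/-- over a reduced ring, if the rank function of `P` in degree `p` is constant near `x` then the
cokernels of `d_{p+1}` and `d_p` are free at `x` -/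
theorem mem_freeLocus_of_dRank_eventually_eq [IsReduced A] (p : ℤ) (x : PrimeSpectrum A)
    (h : ∀ᶠ y in nhds x, CohIII.dRank P p y = CohIII.dRank P p x) :
    x ∈ Module.freeLocus A (P.opcycles p) ∧ x ∈ Module.freeLocus A (P.opcycles (p - 1)) := by
  have hP' := hP_proj P hP
  have hfin : ∀ i, Module.Finite A (P.X i) := fun i => (hP i).1
  have hrel1 : (ComplexShape.down ℤ).Rel (p + 1) p := by simp
  have hrel2 : (ComplexShape.down ℤ).Rel p (p - 1) := by simp
  haveI := hfin p
  haveI := hfin (p - 1)
  have h1 := FiberRank9.cR_eventually_le P hfin (p + 1) p x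
  have h2 := FiberRank9.cR_eventually_le P hfin p (p - 1) x
  have h3 := tR_eventually_eq' P hP' (p - 1) x
  have hev : ∀ᶠ y in nhds x, FiberRank9.cR P (p + 1) p y = FiberRank9.cR P (p + 1) p x ∧
      FiberRank9.cR P p (p - 1) y = FiberRank9.cR P p (p - 1) x := by
    filter_upwards [h1, h2, h3, h] with y hy1 hy2 hy3 hy4
    have ey := FiberRank9.dRank_add_tR P hfin p (p + 1) (p - 1) rfl rfl y
    have ex := FiberRank9.dRank_add_tR P hfin p (p + 1) (p - 1) rfl rfl x
    omega
  obtain ⟨U, hU, hUo, hxU⟩ := eventually_nhds_iff.mp hev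
  constructor
  · have hf := Groth.Agent.Lib.BettiProj_helper6.free_localization_of_fr_const
      (P.X p ⧸ LinearMap.range (P.d (p + 1) p).hom) x U hUo hxU (fun q hq => (hU q hq).1)
    have hx : x ∈ Module.freeLocus A (P.X p ⧸ LinearMap.range (P.d (p + 1) p).hom) := hf
    rw [Module.freeLocus_congr (Groth.Agent.TFunRank5.opcyclesEquivQuot P (p + 1) p hrel1)] at hx
    exact hx
  · have hf := Groth.Agent.Lib.BettiProj_helper6.free_localization_of_fr_const
      (P.X (p - 1) ⧸ LinearMap.range (P.d p (p - 1)).hom) x U hUo hxU (fun q hq => (hU q hq).2)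
    have hx : x ∈ Module.freeLocus A (P.X (p - 1) ⧸ LinearMap.range (P.d p (p - 1)).hom) := hf
    rw [Module.freeLocus_congr (Groth.Agent.TFunRank5.opcyclesEquivQuot P p (p - 1) hrel2)] at hx
    exact hx

end Rank

end Groth.Agent.Lib.PBCH2
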