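import Mathlib
import Groth.Prelude
import Groth.Agent.Lib.TFunCmp_helper5
import Groth.Agent.Lib.TFunSmul_helper7
import Groth.Agent.Lib.PBCNat4_helper2
import Groth.Agent.Lib.BCLoc1_helper2

/-!
# The comparison `H_p(P ⊗_A B) ≅ T_p(B)` is compatible with multiplication by `B` (helper2)

APPEND-ONLY once landed.
-/

set_option autoImplicit false
set_option linter.style.haveILetI false
set_option linter.unusedSectionVars false
universe u
open CategoryTheory Limits TensorProduct MonoidalCategory

namespace Groth.Agent.Lib.PBCH2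

open Groth.Agent.TFunCmp5 Groth.Agent.ExtendScalarsLib

section Semi

variable {A : Type u} [CommRing A] (B : Type u) [CommRing B] [Algebra A B]

lemma comm_smul' (M : Type u) [AddCommGroup M] [Module A M] (b : B) (w : B ⊗[A] M) :
    TensorProduct.comm A B M (b • w) =
      LinearMap.lTensor M (LinearMap.mulLeft A b) (TensorProduct.comm A B M w) := by
  induction w using TensorProduct.induction_on with
  | zero => simp
  | tmul b' m =>
    rw [TensorProduct.smul_tmul']
    rfl
  | add x y hx hy => rw [smul_add, map_add, map_add, map_add, hx, hy]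

lemma cmpIso_mul (M : ModuleCat.{u} A) (b : B) :
    (ModuleCat.restrictScalars (algebraMap A B)).map
      (b • 𝟙 ((ModuleCat.extendScalars (algebraMap A B)).obj M)) ≫ (cmpIso B M).hom =
      (cmpIso B M).hom ≫ (M ◁ mulA'' A b) := by
  apply ModuleCat.hom_ext
  apply LinearMap.ext
  intro z
  have key : ∀ z' : ↑((ModuleCat.extendScalars (algebraMap A B)).obj M),
      TensorProduct.comm A B M (extendScalarsEquivTensor (S := B) M (b • z')) =
        (LinearMap.lTensor M (LinearMap.mulLeft A b))
          (TensorProduct.comm A B M (extendScalarsEquivTensor (S := B) M z')) := fun z' => by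
    rw [map_smul, comm_smul']
  exact key z

variable {ι : Type} {c : ComplexShape ι} (P : HomologicalComplex (ModuleCat.{u} A) c)

lemma cxIso_mul (b : B) :
    ((ModuleCat.restrictScalars (algebraMap A B)).mapHomologicalComplex c).map
      (b • 𝟙 (CohIII.bcCx (algebraMap A B) P)) ≫ (cxIso B P).hom =
      (cxIso B P).hom ≫ CohIII.tensorMap P (mulA'' A b) := by
  apply HomologicalComplex.hom_ext
  intro i
  exact cmpIso_mul B (P.X i) b

theorem TBIso_mul (p : ι) (b : B) :
    (ModuleCat.restrictScalars (algebraMap A B)).map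
      (b • 𝟙 ((CohIII.bcCx (algebraMap A B) P).homology p)) ≫ (TBIso B P p).hom =
      (TBIso B P p).hom ≫ (CohIII.TFun P p).map (mulA'' A b) := by
  haveI : (ModuleCat.restrictScalars.{u, u, u} (algebraMap A B)).PreservesHomology :=
    Functor.preservesHomologyOfExact _
  have h1 : HomologicalComplex.homologyMap (b • 𝟙 (CohIII.bcCx (algebraMap A B) P)) p =
      b • 𝟙 _ := by
    rw [Groth.Agent.Lib.TFunSmulH7.homologyMap_smul, HomologicalComplex.homologyMap_id]
  have h2 := ShortComplex.mapHomologyIso_inv_naturality
    ((HomologicalComplex.shortComplexFunctor (ModuleCat.{u} B) c p).map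
      (b • 𝟙 (CohIII.bcCx (algebraMap A B) P)))
    (ModuleCat.restrictScalars.{u, u, u} (algebraMap A B))
  have h3 := congrArg (fun φ => HomologicalComplex.homologyMap φ p) (cxIso_mul B P b)
  simp only [HomologicalComplex.homologyMap_comp] at h3
  rw [← h1]
  show (ModuleCat.restrictScalars (algebraMap A B)).map
      (HomologicalComplex.homologyMap (b • 𝟙 (CohIII.bcCx (algebraMap A B) P)) p) ≫
      ((homologyResIso B P p).inv ≫ HomologicalComplex.homologyMap (cxIso B P).hom p) =
    ((homologyResIso B P p).inv ≫ HomologicalComplex.homologyMap (cxIso B P).hom p) ≫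
      HomologicalComplex.homologyMap (CohIII.tensorMap P (mulA'' A b)) p
  rw [Category.assoc, ← h3, ← Category.assoc, ← Category.assoc]
  congr 1

theorem TBEquiv_smul (p : ι) (b : B) (z : (CohIII.bcCx (algebraMap A B) P).homology p) :
    TBEquiv B P p (b • z) = ((CohIII.TFun P p).map (mulA'' A b)).hom (TBEquiv B P p z) :=
  congrArg (fun φ => φ.hom z) (TBIso_mul B P p b)

end Semi

section Rank

variable {A : Type u} [CommRing A] (P : ChainComplex (ModuleCat.{u} A) ℤ)

/-- the rank function of `P` at the kernel of `A → K'` is the dimension of any `K'`-vector space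
identified with `T_p(K')` compatibly with multiplications -/
theorem finrank_eq_dRank_of_semilinear (p : ℤ) (K' : Type u) [Field K'] [Algebra A K']
    {H' : Type u} [AddCommGroup H'] [Module K' H']
    (Ψ' : (CohIII.TFun P p).obj (ModuleCat.of A K') ≃+ H')
    (hmul : ∀ (a' : K') (y : (CohIII.TFun P p).obj (ModuleCat.of A K')),
      Ψ' (((CohIII.TFun P p).map (mulA'' A a')).hom y) = a' • Ψ' y) :
    Module.finrank K' H' =
      CohIII.dRank P p ⟨RingHom.ker (algebraMap A K'), RingHom.ker_isPrime _⟩ := by
  rw [Groth.Agent.Lib.BCLocH2.dRank_ker (algebraMap A K') P p]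
  let j : (CohIII.bcCx (algebraMap A K') P).homology p ≃ₗ[K'] H' :=
    { (TBEquiv K' P p).trans Ψ' with
      map_smul' := fun b z => by
        show Ψ' (TBEquiv K' P p (b • z)) = b • Ψ' (TBEquiv K' P p z)
        rw [TBEquiv_smul, hmul] }
  exact j.finrank_eq.symm

end Rank

end Groth.Agent.Lib.PBCH2
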