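import Mathlib
import Groth.Prelude
import Groth.Agent.Lib.CBCAsm6_helper2
import Groth.Agent.Lib.PBCAlg7_helper2
import Groth.Agent.Lib.TFunSemi_helper2
import Groth.Agent.Lib.FLF8_helper8

/-!
# Cohomology and base change: ranks, local freeness near a point (helper2)

APPEND-ONLY once landed.
-/

set_option autoImplicit false
set_option backward.isDefEq.respectTransparency false
set_option linter.style.haveILetI false
set_option linter.unusedSectionVars false
universe u

open CategoryTheory CategoryTheory.Limits AlgebraicGeometry AlgebraicGeometry.Scheme.Modules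
  TopologicalSpace Opposite TensorProduct

namespace Groth.Agent.Lib.CBCH2

open Groth.Agent.Lib.FlatBCH2 Groth.Agent.Lib.FormalFnH2 Groth.Agent.Lib.PullFnH2
  Groth.Agent.Lib.BCSecH2 Groth.Agent.Lib.SectCmp5H2 Groth.Agent.Lib.PBCH2

section Pt2

variable {S : Scheme.{u}} (T : S.Opens) (hT : IsAffineOpen T)

include hT in
theorem ker_evalRes (s : S) (hs : s ∈ T) :
    RingHom.ker (evalRes T s hs) = (hT.primeIdealOf ⟨s, hs⟩).asIdeal := by
  rw [hT.primeIdealOf_eq_map_closedPoint]
  ext a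
  rw [RingHom.mem_ker]
  exact IsLocalRing.residue_eq_zero_iff _

include hT in
theorem fromSpec_mem (y : PrimeSpectrum Γ(S, T)) : hT.fromSpec y ∈ T := by
  rw [← SetLike.mem_coe, ← hT.range_fromSpec]
  exact Set.mem_range_self y

include hT in
theorem ker_evalRes_fromSpec (y : PrimeSpectrum Γ(S, T)) :
    RingHom.ker (evalRes T (hT.fromSpec y) (fromSpec_mem T hT y)) = y.asIdeal := by
  rw [ker_evalRes T hT]
  have e : (⟨hT.fromSpec y, fromSpec_mem T hT y⟩ : T) = hT.isoSpec.inv y := Subtype.ext rfl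
  rw [e]
  have h1 : hT.primeIdealOf (hT.isoSpec.inv y) = y := by
    show hT.isoSpec.hom (hT.isoSpec.inv y) = y
    rw [← Scheme.Hom.comp_apply, Iso.inv_hom_id]
    rfl
  rw [h1]

end Pt2

section Stalk

variable {S : Scheme.{u}} (M : S.Modules) [M.IsQuasicoherent]

/-- if the stalk of a quasi-coherent module at `s` is free then the sections over an affine open
containing `s` are free at the prime of `s` -/
theorem mem_freeLocus_sections_of_free_stalk {T : S.Opens} (hT : IsAffineOpen T) {s : S}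
    (hs : s ∈ T) (hfree : Module.Free (S.presheaf.stalk s) (M.presheaf.stalk s)) :
    hT.primeIdealOf ⟨s, hs⟩ ∈ Module.freeLocus Γ(S, T) Γ(M, T) := by
  letI := TopCat.Presheaf.algebra_section_stalk S.presheaf (⟨s, hs⟩ : T)
  haveI : IsLocalization.AtPrime (S.presheaf.stalk s) (hT.primeIdealOf ⟨s, hs⟩).asIdeal :=
    hT.isLocalization_stalk ⟨s, hs⟩
  letI modA : Module Γ(S, T) (M.presheaf.stalk s) := StalkLocH8.modSec M hs
  haveI : IsScalarTower Γ(S, T) (S.presheaf.stalk s) (M.presheaf.stalk s) :=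
    IsScalarTower.of_algebraMap_smul (fun _ _ => rfl)
  haveI := StalkLocH8.isLocalizedModule_germLin M hT hs
  exact (Module.mem_freeLocus_of_isLocalization (hT.primeIdealOf ⟨s, hs⟩)
    (S.presheaf.stalk s) (M.presheaf.stalk s) (StalkLocH8.germLin M hs)).mpr hfree

set_option maxHeartbeats 1600000 in
/-- a quasi-coherent module whose sections over an affine open `T` are a retract, up to `c`, of a
finite projective module is finite locally free over the basic open set of `c` -/
theorem isFinLocFree_restrict_basicOpen_of_retract {T : S.Opens} (hT : IsAffineOpen T)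
    {X₀ : Type u} [AddCommGroup X₀] [Module Γ(S, T) X₀] [Module.Finite Γ(S, T) X₀]
    [Module.Projective Γ(S, T) X₀]
    (ψ : Γ(M, T) →ₗ[Γ(S, T)] X₀) (φ : X₀ →ₗ[Γ(S, T)] Γ(M, T)) (c : Γ(S, T))
    (hc : ∀ h, φ (ψ h) = c • h) :
    FlatMod.IsFinLocFree (M.restrict (S.basicOpen c).ι) := by
  haveI : (M.restrict (S.basicOpen c).ι).IsQuasicoherent :=
    Scheme.Modules.isQuasicoherent_restrictFunctor (S.basicOpen c).ι M
  apply FLFH8.finLocFree_of_fp_flat_sections
  rintro ⟨U, hU⟩
  have hle : U ≤ (S.basicOpen c).ι ⁻¹ᵁ T := fun z _ => S.basicOpen_le c z.2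
  have hle' : U ≤ (S.basicOpen c).ι ⁻¹ᵁ (S.basicOpen c) := fun z _ => z.2
  letI alg : Algebra Γ(S, T) Γ(((S.basicOpen c : S.Opens) : Scheme.{u}), U) :=
    ((S.basicOpen c).ι.appLE T U hle).hom.toAlgebra
  letI mod : Module Γ(S, T) Γ((Scheme.Modules.pullback (S.basicOpen c).ι).obj M, U) :=
    Module.compHom _ ((S.basicOpen c).ι.appLE T U hle).hom
  haveI : IsScalarTower Γ(S, T) Γ(((S.basicOpen c : S.Opens) : Scheme.{u}), U)
      Γ((Scheme.Modules.pullback (S.basicOpen c).ι).obj M, U) :=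
    IsScalarTower.of_algebraMap_smul fun _ _ => rfl
  have bc := PBH8.isBaseChange_cUV (S.basicOpen c).ι M hle hU hT
  have hunit : IsUnit (algebraMap Γ(S, T) Γ(((S.basicOpen c : S.Opens) : Scheme.{u}), U) c) :=
    isUnit_appLE_of_le_basicOpen (S.basicOpen c).ι hle c hle'
  obtain ⟨hfin, hproj⟩ := finite_projective_of_isBaseChange_retract ψ φ c hc
    Γ(((S.basicOpen c : S.Opens) : Scheme.{u}), U) hunit
    (PBH8.cUVLin (S.basicOpen c).ι M hle) bc
  let θ := (Scheme.Modules.restrictFunctorIsoPullback (S.basicOpen c).ι).app M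
  let eθ : Γ((Scheme.Modules.pullback (S.basicOpen c).ι).obj M, U)
      ≃ₗ[Γ(((S.basicOpen c : S.Opens) : Scheme.{u}), U)] Γ(M.restrict (S.basicOpen c).ι, U) :=
    { (asIso (θ.inv.app U)).addCommGroupIsoToAddEquiv with
      map_smul' := fun r x => Scheme.Modules.Hom.app_smul θ.inv r x }
  haveI := hfin
  haveI := hproj
  haveI : Module.Finite Γ(((S.basicOpen c : S.Opens) : Scheme.{u}), U)
      Γ(M.restrict (S.basicOpen c).ι, U) := Module.Finite.equiv eθ
  haveI : Module.Projective Γ(((S.basicOpen c : S.Opens) : Scheme.{u}), U)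
      Γ(M.restrict (S.basicOpen c).ι, U) := Module.Projective.of_equiv eθ
  exact ⟨Module.finitePresentation_of_projective _ _, inferInstance⟩

end Stalk

section Facts2

open Groth.Agent.Lib.BCLocH2

variable {X S : Scheme.{u}} (f : X ⟶ S) [IsProper f] [LocallyOfFinitePresentation f]
  (F : X.Modules) [Coh.IsQCoh F] (hfp : CohB1.IsFP F) (hfl : FlatMod.IsFlatOver f F)
  [HasInjectiveResolutions X.Modules] {Δ : RDer.DerivedLES (pushforward f)}
  (E : CohCmp.SectCmp f Δ)

include hfp hfl in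
set_option maxHeartbeats 3200000 in
/-- **the facts over an affine chart**, with the ranks of the fibre cohomology -/
theorem chartFacts2 (T : S.Opens) (hT : IsAffineOpen T) :
    ∃ P : ChainComplex (ModuleCat.{u} Γ(S, T)) ℤ,
      (∀ i, Module.Finite Γ(S, T) (P.X i) ∧ Module.Free Γ(S, T) (P.X i)) ∧
      (∃ b : ℤ, ∀ i, i < b → IsZero (P.X i)) ∧
      (∀ i : ℤ, 0 < i → ∀ M : ModuleCat.{u} Γ(S, T), IsZero ((CohIII.TFun P i).obj M)) ∧
      (∀ (n : ℕ) (s : S) (hs : s ∈ T), Subsingleton (CohIII.fiberH f F s n) →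
        letI := algRes T s hs
        Subsingleton ((CohIII.TFun P (-(n : ℤ))).obj
          (ModuleCat.of Γ(S, T) (S.residueField s)))) ∧
      (∀ (n : ℕ) (s : S) (hs : s ∈ T) [HasInjectiveResolutions (f.fiber s).Modules]
        {Δs : RDer.DerivedLES (pushforward (f.fiberToSpecResidueField s))}
        (Es : CohCmp.SectCmp (f.fiberToSpecResidueField s) Δs)
        (Bs : CohCmp.GenBC f (S.fromSpecResidueField s) (f.fiberToSpecResidueField s)
          (f.fiberι s) (f.fiber_fac s) E Es),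
        Epi (Bs.bc n F) →
        letI := algRes T s hs
        Function.Surjective (betaT P (-(n : ℤ)) (ModuleCat.of Γ(S, T) (S.residueField s)))) ∧
      (∀ (n : ℕ) (g₀ : Γ(S, T)), HasGSplit P (-(n : ℤ)) g₀ →
        AllBCAway f T (f ⁻¹ᵁ T) le_rfl F n g₀) ∧
      (∀ n : ℕ, Nonempty (P.homology (-(n : ℤ)) ≃ₗ[Γ(S, T)] Γ((Coh.Rpush f n).obj F, T))) ∧
      (∀ (n : ℕ) (s : S) (hs : s ∈ T), CohIII.fiberRank f F n s =
        CohIII.dRank P (-(n : ℤ)) ⟨RingHom.ker (evalRes T s hs), RingHom.ker_isPrime _⟩) := by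
  haveI : IsAffine (T : Scheme.{u}) := hT
  haveI : F.IsQuasicoherent := ‹Coh.IsQCoh F›
  letI oU := overRes f T (f ⁻¹ᵁ T) le_rfl
  obtain ⟨P, hP, hb, hpos, hpk⟩ := chartPackage f T hT F hfp hfl
  refine ⟨P, hP, hb, hpos, ?_, ?_, ?_, ?_, ?_⟩
  · -- vanishing
    intro n s hs hsub
    haveI := hsub
    letI aK := algRes T s hs
    letI oF := overFib f s
    obtain ⟨Ψ, hΨ⟩ := hpk n
    obtain ⟨Ψ', -, -⟩ := hΨ (S.residueField s) (f.fiber s) (gy f T s hs)
      (isPullback_fibRes f T hT s hs)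
    have e3 := Groth.Agent.Lib.StalkFFH2.HHlinEquiv (S.residueField s) (fibModIsoRes f T s hs F) n
    exact (Ψ'.toEquiv.trans e3.toEquiv).subsingleton
  · -- surjectivity
    intro n s hs _ Δs Es Bs hepi
    letI aK := algRes T s hs
    obtain ⟨Ψ, hΨ⟩ := hpk n
    have hX : IsPullback (f.fiberι s) (f.fiberToSpecResidueField s) f
        (S.fromSpecResidueField s) := IsPullback.of_hasPullback f (S.fromSpecResidueField s)
    haveI : IsSeparated (f.fiberToSpecResidueField s) :=
      MorphismProperty.of_isPullback (P := @IsSeparated) hX inferInstance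
    haveI : QuasiCompact (f.fiberToSpecResidueField s) :=
      MorphismProperty.of_isPullback (P := @QuasiCompact) hX inferInstance
    have hT' : IsAffineOpen (⊤ : (Spec (S.residueField s)).Opens) := isAffineOpen_top _
    have hT'T : (⊤ : (Spec (S.residueField s)).Opens) ≤ (S.fromSpecResidueField s) ⁻¹ᵁ T := by
      intro z _
      show (S.fromSpecResidueField s) z ∈ T
      rw [Scheme.fromSpecResidueField_apply]
      exact hs
    haveI : ((Coh.Rpush f n).obj F).IsQuasicoherent := RpushQC.isQuasicoherent_Rpush f F n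
    haveI : ((Coh.Rpush (f.fiberToSpecResidueField s) n).obj
        ((Scheme.Modules.pullback (f.fiberι s)).obj F)).IsQuasicoherent :=
      RpushQC.isQuasicoherent_Rpush (f.fiberToSpecResidueField s) _ n
    haveI := hepi
    have hsurj : Function.Surjective ((Bs.bc n F).app ⊤) :=
      QCohExact.app_surjective_of_epi (Bs.bc n F) hT'
    have hspan := span_of_surjective_app f (S.fromSpecResidueField s) (f.fiberι s)
      (f.fiberToSpecResidueField s) hX F E Es Bs n hT hT' hT'T hsurj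
    have e1 : (f.fiberToSpecResidueField s) ⁻¹ᵁ ⊤ ≤ (f.fiberι s) ⁻¹ᵁ (f ⁻¹ᵁ T) :=
      ((f.fiberToSpecResidueField s).preimage_mono hT'T).trans
        (CohCmp.sqLE f (S.fromSpecResidueField s) (f.fiberToSpecResidueField s) (f.fiberι s)
          hX.w T)
    have hU' : (f.fiberToSpecResidueField s) ⁻¹ᵁ ⊤ =
        (f.fiberι s) ⁻¹ᵁ (f ⁻¹ᵁ T) ⊓ (f.fiberToSpecResidueField s) ⁻¹ᵁ ⊤ :=
      (inf_eq_right.mpr e1).symm
    letI oU' := overRes (f.fiberToSpecResidueField s) ⊤
      ((f.fiberToSpecResidueField s) ⁻¹ᵁ ⊤) le_rfl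
    letI alg : Algebra Γ(S, T) Γ(Spec (S.residueField s), ⊤) :=
      ((S.fromSpecResidueField s).appLE T ⊤ hT'T).hom.toAlgebra
    have hsq := isPullback_overRes hX hT hT' hT'T le_rfl hU' e1 le_rfl
    obtain ⟨Ψ', h1, h2⟩ := hΨ Γ(Spec (S.residueField s), ⊤)
      ((((f.fiberToSpecResidueField s) ⁻¹ᵁ ⊤ : (f.fiber s).Opens)) : Scheme.{u})
      ((f.fiberι s).resLE (f ⁻¹ᵁ T) ((f.fiberToSpecResidueField s) ⁻¹ᵁ ⊤) e1) hsq
    have hβ := betaT_surjective_of_span P (-(n : ℤ)) Ψ Ψ' _ h1 h2 hspan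
    let eR : Γ(Spec (S.residueField s), ⊤) ≃+* S.residueField s :=
      (Scheme.ΓSpecIso (S.residueField s)).commRingCatIsoToRingEquiv
    have hcomp : ∀ a : Γ(S, T), eR (((S.fromSpecResidueField s).appLE T ⊤ hT'T).hom a) =
        evalRes T s hs a := fun a =>
      congrArg (fun φ => φ.hom a) (appLE_fromSpecResidueField T hT s hs hT'T)
    let eL : Γ(Spec (S.residueField s), ⊤) ≃ₗ[Γ(S, T)] S.residueField s :=
      { eR.toAddEquiv with
        map_smul' := fun a x => by
          show eR (((S.fromSpecResidueField s).appLE T ⊤ hT'T).hom a * x) =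
            evalRes T s hs a * eR x
          rw [map_mul, hcomp] }
    exact betaT_surjective_of_iso P (-(n : ℤ)) eL.toModuleIso hβ
  · -- base change away from `g₀`
    intro n g₀ hs1 A' _ _ hunit X' _ g' hsq
    obtain ⟨Ψ, hΨ⟩ := hpk n
    obtain ⟨Ψ'', h1, h2⟩ := hΨ A' X' g' hsq
    exact isBC_of_hasGSplit P (-(n : ℤ)) Ψ Ψ'' _ h1 h2 g₀ hs1 hunit
  · -- sections
    intro n
    obtain ⟨Ψ, -⟩ := hpk n
    let eε : Coh.HH ((f ⁻¹ᵁ T : X.Opens) : Scheme.{u}) (F.restrict (f ⁻¹ᵁ T).ι) n ≃ₗ[Γ(S, T)]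
        Γ((Coh.Rpush f n).obj F, T) :=
      { AddEquiv.ofBijective (E.ε T F n)
          (Groth.Agent.Lib.SectCmp4H2.bijective_of_isAffineOpen f T hT E F n) with
        map_smul' := fun a x => ε_linear' f F E T n a x }
    exact ⟨Ψ.trans eε⟩
  · -- ranks
    intro n s hs
    letI aK := algRes T s hs
    letI oF := overFib f s
    obtain ⟨Ψ, hΨ⟩ := hpk n
    obtain ⟨Ψ', h1, -⟩ := hΨ (S.residueField s) (f.fiber s) (gy f T s hs)
      (isPullback_fibRes f T hT s hs)
    have e3 := Groth.Agent.Lib.StalkFFH2.HHlinEquiv (S.residueField s) (fibModIsoRes f T s hs F) n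
    have h := finrank_eq_dRank_of_semilinear P (-(n : ℤ)) (S.residueField s) Ψ' h1
    have h' : CohIII.fiberRank f F n s = Module.finrank (S.residueField s)
        (Coh.HH (f.fiber s) ((Scheme.Modules.pullback (gy f T s hs)).obj
          (F.restrict (f ⁻¹ᵁ T).ι)) n) := e3.finrank_eq.symm
    rw [h']
    exact h

end Facts2

end Groth.Agent.Lib.CBCH2
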