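import Mathlib
import Groth.Prelude
import Groth.Agent.Lib.CBCAsm7_helper2
import Groth.Agent.Lib.QcqsLoc_helper9

/-!
# The degree-zero base change map `g^* f_* F ⟶ f'_* g'^* F` on sections (helper2)

APPEND-ONLY once landed.
-/

set_option autoImplicit false
set_option backward.isDefEq.respectTransparency false
set_option linter.style.haveILetI false
set_option linter.unusedSectionVars false
universe u

open CategoryTheory CategoryTheory.Limits AlgebraicGeometry AlgebraicGeometry.Scheme.Modules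
  TopologicalSpace Opposite TensorProduct

namespace Groth.Agent.Lib.CBCH2

open Groth.Agent.Lib.FlatBCH2 Groth.Agent.Lib.FormalFnH2 Groth.Agent.Lib.PullFnH2
  Groth.Agent.Lib.BCSecH2 Groth.Agent.Lib.SectCmp5H2 Groth.Agent.Lib.PBCH2

section Transpose

variable {X Y : Scheme.{u}} (g : X ⟶ Y)

/-- the transpose of `φ : M ⟶ g_* N` on the canonical sections of `g^* M` -/
theorem transpose_cUV {M : Y.Modules} {N : X.Modules}
    (φ : M ⟶ (Scheme.Modules.pushforward g).obj N) {V : Y.Opens} {W : X.Opens}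
    (hW : W ≤ g ⁻¹ᵁ V) (t : Γ(M, V)) :
    (((Scheme.Modules.pullbackPushforwardAdjunction g).homEquiv M N).symm φ).app W
        (PBH8.cUV g M hW t) =
      N.presheaf.map (homOfLE hW).op (φ.app V t) := by
  unfold PBH8.cUV
  rw [QCohCrit.app_naturality _ (homOfLE hW)]
  have h0 : (Scheme.Modules.pullbackPushforwardAdjunction g).unit.app M ≫
      (Scheme.Modules.pushforward g).map
        (((Scheme.Modules.pullbackPushforwardAdjunction g).homEquiv M N).symm φ) = φ := by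
    have h1 := (Scheme.Modules.pullbackPushforwardAdjunction g).homEquiv_unit
      (f := ((Scheme.Modules.pullbackPushforwardAdjunction g).homEquiv M N).symm φ)
    rw [← h1]
    exact Equiv.apply_symm_apply _ _
  have h1 : (((Scheme.Modules.pullbackPushforwardAdjunction g).homEquiv M N).symm φ).app
      (g ⁻¹ᵁ V) (((Scheme.Modules.pullbackPushforwardAdjunction g).unit.app M).app V t) =
      φ.app V t :=
    congrArg (fun ψ => (Scheme.Modules.Hom.app ψ V) t) h0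
  rw [h1]

end Transpose

section Bc0

variable {X S X' S' : Scheme.{u}} (f : X ⟶ S) (g : S' ⟶ S) (f' : X' ⟶ S') (gX : X' ⟶ X)
  (w : gX ≫ f = f' ≫ g) (F : X.Modules)

/-- the degree-zero base change map in adjoint form, on sections -/
theorem bc0Adj_app (V : S.Opens) (t : Γ((Scheme.Modules.pushforward f).obj F, V)) :
    (CohBC.bc0Adj f g f' gX w F).app V t =
      ((Scheme.Modules.pullback gX).obj F).presheaf.map
        (homOfLE (CohCmp.sqLE f g f' gX w V)).op
        (((Scheme.Modules.pullbackPushforwardAdjunction gX).unit.app F).app (f ⁻¹ᵁ V) t) := by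
  rfl

/-- **the degree-zero base change map on the canonical sections** -/
theorem bc0_cUV {V : S.Opens} {W : S'.Opens} (hW : W ≤ g ⁻¹ᵁ V)
    (t : Γ((Scheme.Modules.pushforward f).obj F, V)) :
    (CohBC.bc0 f g f' gX w F).app W (PBH8.cUV g ((Scheme.Modules.pushforward f).obj F) hW t) =
      PBH8.cUV gX F ((f'.preimage_mono hW).trans (CohCmp.sqLE f g f' gX w V)) t := by
  unfold CohBC.bc0
  rw [transpose_cUV, bc0Adj_app]
  unfold PBH8.cUV
  exact map_map_sec' ((Scheme.Modules.pullback gX).obj F) _ _ _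

end Bc0

section PullSect

variable {X Y : Scheme.{u}}

set_option maxRecDepth 8000 in
set_option maxHeartbeats 1000000 in
/-- in degree zero the pullback of cohomology classes over opens is the pullback of sections -/
theorem equiv₀_pullOn_sectH0 (g : X ⟶ Y) (U : Y.Opens) (U' : X.Opens) (h : U' ≤ g ⁻¹ᵁ U)
    (F : Y.Modules) (s : F.presheaf.obj (op U)) :
    Sheaf.H.equiv₀ (Coh.toAb (((Scheme.Modules.pullback g).obj F).restrict U'.ι))
        (isTerminalTop : IsTerminal (⊤ : U'.toScheme.Opens))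
        (CohPull.pullOn g U U' h F 0 (CohPull.sectH0 F U s)) =
      ((Scheme.Modules.pullback g).obj F).presheaf.map (eqToHom U'.ι_image_top).op
        (PBH8.cUV g F h s) := by
  refine (equiv₀_pullOn g U U' h F _).trans ?_
  refine (congrArg (fun z => (CohPull.pullOnIso g U U' h F).hom.app ⊤
      (PBH8.cUV (Scheme.Hom.resLE g U U' h) (F.restrict U.ι) (U := ⊤) (V := ⊤) le_top z))
    (equiv₀_sectH0 F U s)).trans ?_
  have h₁ : (⊤ : U.toScheme.Opens) ≤ U.ι ⁻¹ᵁ U := fun x _ => x.2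
  have h₂ : (⊤ : U'.toScheme.Opens) ≤ (U'.ι ≫ g) ⁻¹ᵁ U := fun x _ => h x.2
  have h₃ : (⊤ : U'.toScheme.Opens) ≤ U'.ι ⁻¹ᵁ (g ⁻¹ᵁ U) := fun x _ => h x.2
  have h₄ : g ⁻¹ᵁ U ≤ g ⁻¹ᵁ U := le_rfl
  have h₀ : (⊤ : U'.toScheme.Opens) ≤ (Scheme.Hom.resLE g U U' h) ⁻¹ᵁ ⊤ := le_top
  have hb : ((restrictFunctorIsoPullback U.ι).hom.app F).app ⊤
      (show Γ(F.restrict U.ι, ⊤) from F.presheaf.map (eqToHom U.ι_image_top).op s) =
        PBH8.cUV U.ι F h₁ s := by
    rw [cUV_openImm_eq]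
    rfl
  have hc : ((Scheme.Modules.pullback (Scheme.Hom.resLE g U U' h)).map
      ((restrictFunctorIsoPullback U.ι).hom.app F)).app ⊤
      (PBH8.cUV (Scheme.Hom.resLE g U U' h) (F.restrict U.ι) h₀
        (show Γ(F.restrict U.ι, ⊤) from F.presheaf.map (eqToHom U.ι_image_top).op s)) =
      PBH8.cUV (Scheme.Hom.resLE g U U' h) _ h₀ (PBH8.cUV U.ι F h₁ s) := by
    rw [PBH8.cUV_naturality, hb]
  have hde : ((pullbackCongr (Scheme.Hom.resLE_comp_ι g h)).hom.app F).app ⊤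
      (((pullbackComp (Scheme.Hom.resLE g U U' h) U.ι).hom.app F).app ⊤
        (PBH8.cUV (Scheme.Hom.resLE g U U' h) _ h₀ (PBH8.cUV U.ι F h₁ s))) =
      PBH8.cUV (U'.ι ≫ g) F h₂ s := by
    have := Groth.Agent.Lib.LimMod.pbIso_cUV (Scheme.Hom.resLE g U U' h) U.ι (U'.ι ≫ g)
      (Scheme.Hom.resLE_comp_ι g h) F h₀ h₁ h₂ s
    simpa [DescH8.pbIso] using this
  have hf : ((pullbackComp U'.ι g).inv.app F).app ⊤ (PBH8.cUV (U'.ι ≫ g) F h₂ s) =
      PBH8.cUV U'.ι ((Scheme.Modules.pullback g).obj F) h₃ (PBH8.cUV g F h₄ s) := by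
    have := Groth.Agent.Lib.LimMod.pbIso_cUV U'.ι g (U'.ι ≫ g) rfl F h₃ h₄ h₂ s
    have e0 : (DescH8.pbIso U'.ι g (U'.ι ≫ g) rfl).hom.app F =
        (pullbackComp U'.ι g).hom.app F := by
      simp [DescH8.pbIso, pullbackCongr]
    rw [e0] at this
    rw [← this, ← comp_app', Iso.hom_inv_id_app]
    rfl
  have hg := restrictIso_inv_cUV U'.ι ((Scheme.Modules.pullback g).obj F) h₃
    (PBH8.cUV g F h₄ s)
  have hk : U'.ι ''ᵁ ⊤ ≤ g ⁻¹ᵁ U := image_le_of_le_preimage U'.ι h₃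
  calc (CohPull.pullOnIso g U U' h F).hom.app ⊤
          (PBH8.cUV (Scheme.Hom.resLE g U U' h) (F.restrict U.ι) (U := ⊤) (V := ⊤) le_top
            (F.presheaf.map (eqToHom U.ι_image_top).op s))
      = ((restrictFunctorIsoPullback U'.ι).inv.app ((Scheme.Modules.pullback g).obj F)).app ⊤
          (((pullbackComp U'.ι g).inv.app F).app ⊤
            (((pullbackCongr (Scheme.Hom.resLE_comp_ι g h)).hom.app F).app ⊤
              (((pullbackComp (Scheme.Hom.resLE g U U' h) U.ι).hom.app F).app ⊤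
                (((Scheme.Modules.pullback (Scheme.Hom.resLE g U U' h)).map
                  ((restrictFunctorIsoPullback U.ι).hom.app F)).app ⊤
                  (PBH8.cUV (Scheme.Hom.resLE g U U' h) (F.restrict U.ι) h₀
                    (show Γ(F.restrict U.ι, ⊤) from
                      F.presheaf.map (eqToHom U.ι_image_top).op s)))))) := rfl
    _ = ((restrictFunctorIsoPullback U'.ι).inv.app ((Scheme.Modules.pullback g).obj F)).app ⊤
          (PBH8.cUV U'.ι ((Scheme.Modules.pullback g).obj F) h₃ (PBH8.cUV g F h₄ s)) := by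
        rw [hc, hde, hf]
    _ = ((Scheme.Modules.pullback g).obj F).presheaf.map (homOfLE hk).op
          (PBH8.cUV g F h₄ s) := hg
    _ = ((Scheme.Modules.pullback g).obj F).presheaf.map (eqToHom U'.ι_image_top).op
          (PBH8.cUV g F h s) := by
        rw [← PBH8.cUV_res g F h₄ h s, map_map_sec']
        rfl

/-- in degree zero the pullback of cohomology classes over opens is the pullback of sections -/
theorem pullOn_sectH0 (g : X ⟶ Y) (U : Y.Opens) (U' : X.Opens) (h : U' ≤ g ⁻¹ᵁ U)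
    (F : Y.Modules) (s : F.presheaf.obj (op U)) :
    CohPull.pullOn g U U' h F 0 (CohPull.sectH0 F U s) =
      CohPull.sectH0 ((Scheme.Modules.pullback g).obj F) U' (PBH8.cUV g F h s) :=
  (Sheaf.H.equiv₀ (Coh.toAb (((Scheme.Modules.pullback g).obj F).restrict U'.ι))
    (isTerminalTop : IsTerminal (⊤ : U'.toScheme.Opens))).injective
    ((equiv₀_pullOn_sectH0 g U U' h F s).trans (equiv₀_sectH0 _ U' _).symm)

end PullSect

section Sec0

variable {X S : Scheme.{u}} (f : X ⟶ S) (T : S.Opens) (F : X.Modules)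

/-- sections of `f_* F` over `T` as degree-zero cohomology of `f⁻¹ T`, linearly over
`Γ(S, T)` -/
noncomputable def sec0 :
    letI := overRes f T (f ⁻¹ᵁ T) le_rfl
    Γ((Scheme.Modules.pushforward f).obj F, T) ≃ₗ[Γ(S, T)]
      Coh.HH ((f ⁻¹ᵁ T : X.Opens) : Scheme.{u}) (F.restrict (f ⁻¹ᵁ T).ι) 0 :=
  letI := overRes f T (f ⁻¹ᵁ T) le_rfl
  { CohPull.sectH0 F (f ⁻¹ᵁ T) with
    map_smul' := fun a s => by
      have h1 : (f.appLE T (f ⁻¹ᵁ T) le_rfl).hom a = (f.app T).hom a := by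
        rw [Scheme.Hom.appLE_eq_app]
      show CohPull.sectH0 F (f ⁻¹ᵁ T) (a • s) = a • CohPull.sectH0 F (f ⁻¹ᵁ T) s
      rw [smul_HH_overRes f T (f ⁻¹ᵁ T) le_rfl, h1, sectH0_smul]
      rfl }

theorem sec0_apply (s : Γ((Scheme.Modules.pushforward f).obj F, T)) :
    letI := overRes f T (f ⁻¹ᵁ T) le_rfl
    sec0 f T F s = CohPull.sectH0 F (f ⁻¹ᵁ T) s := rfl

end Sec0

section Local0

variable {X S X' S' : Scheme.{u}} (f : X ⟶ S) [QuasiCompact f] [QuasiSeparated f]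
  (g : S' ⟶ S) (gX : X' ⟶ X) (f' : X' ⟶ S') (hX : IsPullback gX f' f g)
  (F : X.Modules) [F.IsQuasicoherent]

set_option maxHeartbeats 1600000 in
/-- the local form of cohomology and base change in degree zero, for the explicit base change
map `g^* f_* F ⟶ f'_* g'^* F` -/
theorem bc0_app_local {T : S.Opens} {T' : S'.Opens} (hT : IsAffineOpen T)
    (hT' : IsAffineOpen T') (hT'T : T' ≤ g ⁻¹ᵁ T) :
    letI := overRes f T (f ⁻¹ᵁ T) le_rfl
    letI := overRes f' T' (f' ⁻¹ᵁ T') le_rfl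
    letI : Algebra Γ(S, T) Γ(S', T') := (g.appLE T T' hT'T).hom.toAlgebra
    (IsBC Γ(S, T) Γ(S', T') (CohPull.pullMod (gX.resLE (f ⁻¹ᵁ T) (f' ⁻¹ᵁ T')
        ((f'.preimage_mono hT'T).trans (CohCmp.sqLE f g f' gX hX.w T)))
        (F.restrict (f ⁻¹ᵁ T).ι) 0) →
      Function.Bijective ((CohBC.bc0 f g f' gX hX.w F).app T')) ∧
    (Function.Surjective ((CohBC.bc0 f g f' gX hX.w F).app T') →
      Submodule.span Γ(S', T') (Set.range (CohPull.pullMod (gX.resLE (f ⁻¹ᵁ T) (f' ⁻¹ᵁ T')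
        ((f'.preimage_mono hT'T).trans (CohCmp.sqLE f g f' gX hX.w T)))
        (F.restrict (f ⁻¹ᵁ T).ι) 0)) = ⊤) := by
  haveI : QuasiCompact f' := MorphismProperty.of_isPullback (P := @QuasiCompact) hX inferInstance
  haveI : QuasiSeparated f' :=
    MorphismProperty.of_isPullback (P := @QuasiSeparated) hX inferInstance
  have eU'1 : f' ⁻¹ᵁ T' ≤ gX ⁻¹ᵁ (f ⁻¹ᵁ T) :=
    (f'.preimage_mono hT'T).trans (CohCmp.sqLE f g f' gX hX.w T)
  letI oU := overRes f T (f ⁻¹ᵁ T) le_rfl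
  letI oU' := overRes f' T' (f' ⁻¹ᵁ T') le_rfl
  letI alg : Algebra Γ(S, T) Γ(S', T') := (g.appLE T T' hT'T).hom.toAlgebra
  haveI hqM : ((Scheme.Modules.pushforward f).obj F).IsQuasicoherent :=
    QcqsLoc.isQuasicoherent_pushforward_qcqs f F
  -- the sections, linearly
  let e0 := sec0 f T F
  let e0' := sec0 f' T' ((Scheme.Modules.pullback gX).obj F)
  let eiso := Groth.Agent.Lib.StalkFFH2.HHlinEquiv Γ(S', T')
    (CohPull.pullOnIso gX (f ⁻¹ᵁ T) (f' ⁻¹ᵁ T') eU'1 F) 0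
  -- the second map
  let t₂ : Coh.HH ((f ⁻¹ᵁ T : X.Opens) : Scheme.{u}) (F.restrict (f ⁻¹ᵁ T).ι) 0 →+
      Γ((Scheme.Modules.pushforward f').obj ((Scheme.Modules.pullback gX).obj F), T') :=
    (e0'.symm.toLinearMap.toAddMonoidHom).comp
      (CohPull.pullOn gX (f ⁻¹ᵁ T) (f' ⁻¹ᵁ T') eU'1 F 0)
  -- the first base change
  letI mN : Module Γ(S, T)
      Γ((Scheme.Modules.pullback g).obj ((Scheme.Modules.pushforward f).obj F), T') :=
    Module.compHom _ (g.appLE T T' hT'T).hom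
  haveI : IsScalarTower Γ(S, T) Γ(S', T')
      Γ((Scheme.Modules.pullback g).obj ((Scheme.Modules.pushforward f).obj F), T') :=
    IsScalarTower.of_algebraMap_smul fun _ _ => rfl
  have bc₁ := PBH8.isBaseChange_cUV g ((Scheme.Modules.pushforward f).obj F) hT'T hT' hT
  have h1 : IsBC Γ(S, T) Γ(S', T')
      (PBH8.cUVLin g ((Scheme.Modules.pushforward f).obj F) hT'T).toAddMonoidHom :=
    IsBC.of_isBaseChange (PBH8.cUVLin g ((Scheme.Modules.pushforward f).obj F) hT'T) bc₁ _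
      (fun x => rfl)
  let t₁ : Coh.HH ((f ⁻¹ᵁ T : X.Opens) : Scheme.{u}) (F.restrict (f ⁻¹ᵁ T).ι) 0 →+
      Γ((Scheme.Modules.pullback g).obj ((Scheme.Modules.pushforward f).obj F), T') :=
    (PBH8.cUVLin g ((Scheme.Modules.pushforward f).obj F) hT'T).toAddMonoidHom.comp
      (e0.symm.toLinearMap.toAddMonoidHom)
  have h₁ : IsBC Γ(S, T) Γ(S', T') t₁ :=
    IsBC.comp_equiv h1 e0.symm (LinearEquiv.refl Γ(S', T') _) t₁ (fun q => rfl)
  -- conclusion
  let L : Γ((Scheme.Modules.pullback g).obj ((Scheme.Modules.pushforward f).obj F), T') →+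
      Γ((Scheme.Modules.pushforward f').obj ((Scheme.Modules.pullback gX).obj F), T') :=
    AddMonoidHom.mk' (fun z => (CohBC.bc0 f g f' gX hX.w F).app T' z)
      (fun z z' => map_add _ z z')
  have hLlin : ∀ (b₀ : Γ(S', T'))
      (z : Γ((Scheme.Modules.pullback g).obj ((Scheme.Modules.pushforward f).obj F), T')),
      L (b₀ • z) = b₀ • L z :=
    fun b₀ z => Scheme.Modules.Hom.app_smul (CohBC.bc0 f g f' gX hX.w F) b₀ z
  have hLc : ∀ x, L (t₁ x) = t₂ x := by
    intro x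
    obtain ⟨s, rfl⟩ := e0.surjective x
    show (CohBC.bc0 f g f' gX hX.w F).app T'
        (PBH8.cUV g ((Scheme.Modules.pushforward f).obj F) hT'T (e0.symm (e0 s))) =
      e0'.symm (CohPull.pullOn gX (f ⁻¹ᵁ T) (f' ⁻¹ᵁ T') eU'1 F 0 (e0 s))
    rw [LinearEquiv.symm_apply_apply, bc0_cUV]
    apply e0'.injective
    rw [LinearEquiv.apply_symm_apply]
    exact (pullOn_sectH0 gX (f ⁻¹ᵁ T) (f' ⁻¹ᵁ T') eU'1 F s).symm
  refine ⟨fun hBC => ?_, fun hsurj => ?_⟩
  · have h₂ : IsBC Γ(S, T) Γ(S', T') t₂ :=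
      IsBC.comp_equiv hBC (LinearEquiv.refl Γ(S, T) _) (eiso.trans e0'.symm) t₂ (fun q => rfl)
    have hLb : Function.Bijective L := isBC_bijective_of_comp h₁ h₂ L hLlin hLc
    exact hLb
  · have hsurjL : Function.Surjective L := hsurj
    have hspan₂ : Submodule.span Γ(S', T') (Set.range t₂) = ⊤ :=
      span_range_of_surjective t₁ t₂ L hLlin hLc hsurjL (IsBC.span_eq_top h₁)
    let Linv : Γ((Scheme.Modules.pushforward f').obj ((Scheme.Modules.pullback gX).obj F), T') →+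
        Coh.HH ((f' ⁻¹ᵁ T' : X'.Opens) : Scheme.{u})
          ((Scheme.Modules.pullback (gX.resLE (f ⁻¹ᵁ T) (f' ⁻¹ᵁ T') eU'1)).obj
            (F.restrict (f ⁻¹ᵁ T).ι)) 0 :=
      ((eiso.trans e0'.symm).symm : _ ≃ₗ[Γ(S', T')] _).toLinearMap.toAddMonoidHom
    exact span_range_of_surjective t₂
      (CohPull.pullMod (gX.resLE (f ⁻¹ᵁ T) (f' ⁻¹ᵁ T') eU'1) (F.restrict (f ⁻¹ᵁ T).ι) 0) Linv
      (fun b₀ z => map_smul ((eiso.trans e0'.symm).symm : _ ≃ₗ[Γ(S', T')] _) b₀ z)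
      (fun x => (eiso.trans e0'.symm).symm_apply_apply _)
      ((eiso.trans e0'.symm).symm.surjective) hspan₂

/-- **Cohomology and base change in degree zero**: if base change holds in degree `0` near every
point of the image of `g : S' ⟶ S`, the base change map `g^* f_* F ⟶ f'_* g'^* F` is an
isomorphism. -/
theorem isIso_bc0_of_goodAt (hgood : ∀ z : S', GoodAt f F 0 (g z)) :
    IsIso (CohBC.bc0 f g f' gX hX.w F) := by
  haveI : QuasiCompact f' := MorphismProperty.of_isPullback (P := @QuasiCompact) hX inferInstance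
  haveI : QuasiSeparated f' :=
    MorphismProperty.of_isPullback (P := @QuasiSeparated) hX inferInstance
  haveI : ((Scheme.Modules.pushforward f).obj F).IsQuasicoherent :=
    QcqsLoc.isQuasicoherent_pushforward_qcqs f F
  haveI : ((Scheme.Modules.pushforward f').obj
      ((Scheme.Modules.pullback gX).obj F)).IsQuasicoherent :=
    QcqsLoc.isQuasicoherent_pushforward_qcqs f' _
  let ι := {W : S'.Opens // ∃ (T : S.Opens) (g₀ : Γ(S, T)), IsAffineOpen T ∧
    IsAffineOpen W ∧ W ≤ g ⁻¹ᵁ (S.basicOpen g₀) ∧ AllBCAway f T (f ⁻¹ᵁ T) le_rfl F 0 g₀}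
  have hcover : ⨆ i : ι, (i.1 : S'.Opens) = ⊤ := by
    rw [eq_top_iff]
    intro z _
    obtain ⟨T, hT, g₀, hz, H⟩ := hgood z
    have h1 : z ∈ g ⁻¹ᵁ (S.basicOpen g₀) := hz
    obtain ⟨_, ⟨T', hT' : IsAffineOpen T', rfl⟩, hzT', hT'T⟩ :=
      (S'.isBasis_affineOpens).exists_subset_of_mem_open h1 (g ⁻¹ᵁ (S.basicOpen g₀)).isOpen
    exact Opens.mem_iSup.mpr ⟨⟨T', T, g₀, hT, hT', hT'T, H⟩, hzT'⟩
  refine QCohCrit.isIso_of_bijective_on_cover (CohBC.bc0 f g f' gX hX.w F)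
    (fun i : ι => (i.1 : S'.Opens)) (fun i => ?_) hcover ?_
  · obtain ⟨W, T, g₀, hT, hW, -, -⟩ := i
    exact hW
  · rintro ⟨T', T, g₀, hT, hT', hT'T, H⟩
    have hT'T₁ : T' ≤ g ⁻¹ᵁ T := hT'T.trans (g.preimage_mono (S.basicOpen_le g₀))
    refine (bc0_app_local f g gX f' hX F hT hT' hT'T₁).1 ?_
    have eU'1 : f' ⁻¹ᵁ T' ≤ gX ⁻¹ᵁ (f ⁻¹ᵁ T) :=
      (f'.preimage_mono hT'T₁).trans (CohCmp.sqLE f g f' gX hX.w T)
    have hU' : f' ⁻¹ᵁ T' = gX ⁻¹ᵁ (f ⁻¹ᵁ T) ⊓ f' ⁻¹ᵁ T' := (inf_eq_right.mpr eU'1).symm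
    letI oU := overRes f T (f ⁻¹ᵁ T) le_rfl
    letI oU' := overRes f' T' (f' ⁻¹ᵁ T') le_rfl
    letI alg : Algebra Γ(S, T) Γ(S', T') := (g.appLE T T' hT'T₁).hom.toAlgebra
    have hsq := isPullback_overRes hX hT hT' hT'T₁ le_rfl hU' eU'1 le_rfl
    exact H Γ(S', T') (isUnit_appLE_of_le_basicOpen g hT'T₁ g₀ hT'T)
      ((f' ⁻¹ᵁ T' : X'.Opens) : Scheme.{u}) (gX.resLE (f ⁻¹ᵁ T) (f' ⁻¹ᵁ T') eU'1) hsq

/-- if the degree-zero base change map is surjective on the sections over an affine open `T'`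
lying over the affine open `T`, then the pulled back sections span -/
theorem span0_of_surjective_app {T : S.Opens} {T' : S'.Opens} (hT : IsAffineOpen T)
    (hT' : IsAffineOpen T') (hT'T : T' ≤ g ⁻¹ᵁ T)
    (hsurj : Function.Surjective ((CohBC.bc0 f g f' gX hX.w F).app T')) :
    letI := overRes f' T' (f' ⁻¹ᵁ T') le_rfl
    Submodule.span Γ(S', T') (Set.range (CohPull.pullMod (gX.resLE (f ⁻¹ᵁ T) (f' ⁻¹ᵁ T')
      ((f'.preimage_mono hT'T).trans (CohCmp.sqLE f g f' gX hX.w T)))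
      (F.restrict (f ⁻¹ᵁ T).ι) 0)) = ⊤ :=
  (bc0_app_local f g gX f' hX F hT hT' hT'T).2 hsurj

end Local0

end Groth.Agent.Lib.CBCH2
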