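import Mathlib
import Groth.Prelude
import Groth.Agent.Lib.BC0Sec_helper2

/-!
# Cohomology and base change in degree zero: the facts over an affine chart, without comparison
data (helper2)

APPEND-ONLY once landed.
-/

set_option autoImplicit false
set_option backward.isDefEq.respectTransparency false
set_option linter.style.haveILetI false
set_option linter.unusedSectionVars false
universe u

open CategoryTheory CategoryTheory.Limits AlgebraicGeometry AlgebraicGeometry.Scheme.Modules
  TopologicalSpace Opposite TensorProduct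

namespace Groth.Agent.Lib.CBCH2

open Groth.Agent.Lib.FlatBCH2 Groth.Agent.Lib.FormalFnH2 Groth.Agent.Lib.PullFnH2
  Groth.Agent.Lib.BCSecH2 Groth.Agent.Lib.SectCmp5H2 Groth.Agent.Lib.PBCH2

section Facts0

open Groth.Agent.Lib.BCLocH2

variable {X S : Scheme.{u}} (f : X ⟶ S) [IsProper f] [LocallyOfFinitePresentation f]
  (F : X.Modules) [Coh.IsQCoh F] (hfp : CohB1.IsFP F) (hfl : FlatMod.IsFlatOver f F)

include hfp hfl in
set_option maxHeartbeats 3200000 in
/-- **the facts over an affine chart**, in degree zero for the explicit base change map and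
without comparison data -/
theorem chartFacts0 (T : S.Opens) (hT : IsAffineOpen T) :
    ∃ P : ChainComplex (ModuleCat.{u} Γ(S, T)) ℤ,
      (∀ i, Module.Finite Γ(S, T) (P.X i) ∧ Module.Free Γ(S, T) (P.X i)) ∧
      (∃ b : ℤ, ∀ i, i < b → IsZero (P.X i)) ∧
      (∀ i : ℤ, 0 < i → ∀ M : ModuleCat.{u} Γ(S, T), IsZero ((CohIII.TFun P i).obj M)) ∧
      (∀ (n : ℕ) (s : S) (hs : s ∈ T),
        letI := algRes T s hs
        (Subsingleton (CohIII.fiberH f F s n) ↔
          Subsingleton ((CohIII.TFun P (-(n : ℤ))).obj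
            (ModuleCat.of Γ(S, T) (S.residueField s))))) ∧
      (∀ (s : S) (hs : s ∈ T),
        Epi (CohBC.bc0 f (S.fromSpecResidueField s) (f.fiberToSpecResidueField s) (f.fiberι s)
          (f.fiber_fac s) F) →
        letI := algRes T s hs
        Function.Surjective (betaT P (-((0 : ℕ) : ℤ))
          (ModuleCat.of Γ(S, T) (S.residueField s)))) ∧
      (∀ (n : ℕ) (g₀ : Γ(S, T)), HasGSplit P (-(n : ℤ)) g₀ →
        AllBCAway f T (f ⁻¹ᵁ T) le_rfl F n g₀) ∧
      Nonempty (P.homology (-((0 : ℕ) : ℤ)) ≃ₗ[Γ(S, T)]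
        Γ((Scheme.Modules.pushforward f).obj F, T)) ∧
      (∀ (n : ℕ) (s : S) (hs : s ∈ T), CohIII.fiberRank f F n s =
        CohIII.dRank P (-(n : ℤ)) ⟨RingHom.ker (evalRes T s hs), RingHom.ker_isPrime _⟩) := by
  haveI : IsAffine (T : Scheme.{u}) := hT
  haveI : F.IsQuasicoherent := ‹Coh.IsQCoh F›
  letI oU := overRes f T (f ⁻¹ᵁ T) le_rfl
  obtain ⟨P, hP, hb, hpos, hpk⟩ := chartPackage f T hT F hfp hfl
  refine ⟨P, hP, hb, hpos, ?_, ?_, ?_, ?_, ?_⟩
  · -- vanishing
    intro n s hs
    letI aK := algRes T s hs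
    letI oF := overFib f s
    obtain ⟨Ψ, hΨ⟩ := hpk n
    obtain ⟨Ψ', -, -⟩ := hΨ (S.residueField s) (f.fiber s) (gy f T s hs)
      (isPullback_fibRes f T hT s hs)
    have e3 := Groth.Agent.Lib.StalkFFH2.HHlinEquiv (S.residueField s) (fibModIsoRes f T s hs F) n
    constructor
    · intro hsub
      haveI := hsub
      exact (Ψ'.toEquiv.trans e3.toEquiv).subsingleton
    · intro hsub
      haveI := hsub
      exact (Ψ'.toEquiv.trans e3.toEquiv).symm.subsingleton
  · -- surjectivity
    intro s hs hepi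
    letI aK := algRes T s hs
    obtain ⟨Ψ, hΨ⟩ := hpk 0
    have hX : IsPullback (f.fiberι s) (f.fiberToSpecResidueField s) f
        (S.fromSpecResidueField s) := IsPullback.of_hasPullback f (S.fromSpecResidueField s)
    haveI : QuasiSeparated (f.fiberToSpecResidueField s) :=
      MorphismProperty.of_isPullback (P := @QuasiSeparated) hX inferInstance
    haveI : QuasiCompact (f.fiberToSpecResidueField s) :=
      MorphismProperty.of_isPullback (P := @QuasiCompact) hX inferInstance
    have hT' : IsAffineOpen (⊤ : (Spec (S.residueField s)).Opens) := isAffineOpen_top _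
    have hT'T : (⊤ : (Spec (S.residueField s)).Opens) ≤ (S.fromSpecResidueField s) ⁻¹ᵁ T := by
      intro z _
      show (S.fromSpecResidueField s) z ∈ T
      rw [Scheme.fromSpecResidueField_apply]
      exact hs
    haveI : ((Scheme.Modules.pushforward f).obj F).IsQuasicoherent :=
      QcqsLoc.isQuasicoherent_pushforward_qcqs f F
    haveI : ((Scheme.Modules.pushforward (f.fiberToSpecResidueField s)).obj
        ((Scheme.Modules.pullback (f.fiberι s)).obj F)).IsQuasicoherent :=
      QcqsLoc.isQuasicoherent_pushforward_qcqs (f.fiberToSpecResidueField s) _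
    haveI := hepi
    have hsurj : Function.Surjective ((CohBC.bc0 f (S.fromSpecResidueField s)
        (f.fiberToSpecResidueField s) (f.fiberι s) (f.fiber_fac s) F).app ⊤) :=
      QCohExact.app_surjective_of_epi _ hT'
    have hspan := span0_of_surjective_app f (S.fromSpecResidueField s) (f.fiberι s)
      (f.fiberToSpecResidueField s) hX F hT hT' hT'T hsurj
    have e1 : (f.fiberToSpecResidueField s) ⁻¹ᵁ ⊤ ≤ (f.fiberι s) ⁻¹ᵁ (f ⁻¹ᵁ T) :=
      ((f.fiberToSpecResidueField s).preimage_mono hT'T).trans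
        (CohCmp.sqLE f (S.fromSpecResidueField s) (f.fiberToSpecResidueField s) (f.fiberι s)
          hX.w T)
    have hU' : (f.fiberToSpecResidueField s) ⁻¹ᵁ ⊤ =
        (f.fiberι s) ⁻¹ᵁ (f ⁻¹ᵁ T) ⊓ (f.fiberToSpecResidueField s) ⁻¹ᵁ ⊤ :=
      (inf_eq_right.mpr e1).symm
    letI oU' := overRes (f.fiberToSpecResidueField s) ⊤
      ((f.fiberToSpecResidueField s) ⁻¹ᵁ ⊤) le_rfl
    letI alg : Algebra Γ(S, T) Γ(Spec (S.residueField s), ⊤) :=
      ((S.fromSpecResidueField s).appLE T ⊤ hT'T).hom.toAlgebra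
    have hsq := isPullback_overRes hX hT hT' hT'T le_rfl hU' e1 le_rfl
    obtain ⟨Ψ', h1, h2⟩ := hΨ Γ(Spec (S.residueField s), ⊤)
      ((((f.fiberToSpecResidueField s) ⁻¹ᵁ ⊤ : (f.fiber s).Opens)) : Scheme.{u})
      ((f.fiberι s).resLE (f ⁻¹ᵁ T) ((f.fiberToSpecResidueField s) ⁻¹ᵁ ⊤) e1) hsq
    have hβ := betaT_surjective_of_span P (-((0 : ℕ) : ℤ)) Ψ Ψ' _ h1 h2 hspan
    let eR : Γ(Spec (S.residueField s), ⊤) ≃+* S.residueField s :=
      (Scheme.ΓSpecIso (S.residueField s)).commRingCatIsoToRingEquiv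
    have hcomp : ∀ a : Γ(S, T), eR (((S.fromSpecResidueField s).appLE T ⊤ hT'T).hom a) =
        evalRes T s hs a := fun a =>
      congrArg (fun φ => φ.hom a) (appLE_fromSpecResidueField T hT s hs hT'T)
    let eL : Γ(Spec (S.residueField s), ⊤) ≃ₗ[Γ(S, T)] S.residueField s :=
      { eR.toAddEquiv with
        map_smul' := fun a x => by
          show eR (((S.fromSpecResidueField s).appLE T ⊤ hT'T).hom a * x) =
            evalRes T s hs a * eR x
          rw [map_mul, hcomp] }
    exact betaT_surjective_of_iso P (-((0 : ℕ) : ℤ)) eL.toModuleIso hβ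
  · -- base change away from `g₀`
    intro n g₀ hs1 A' _ _ hunit X' _ g' hsq
    obtain ⟨Ψ, hΨ⟩ := hpk n
    obtain ⟨Ψ'', h1, h2⟩ := hΨ A' X' g' hsq
    exact isBC_of_hasGSplit P (-(n : ℤ)) Ψ Ψ'' _ h1 h2 g₀ hs1 hunit
  · -- sections
    obtain ⟨Ψ, -⟩ := hpk 0
    exact ⟨Ψ.trans (sec0 f T F).symm⟩
  · -- ranks
    intro n s hs
    letI aK := algRes T s hs
    letI oF := overFib f s
    obtain ⟨Ψ, hΨ⟩ := hpk n
    obtain ⟨Ψ', h1, -⟩ := hΨ (S.residueField s) (f.fiber s) (gy f T s hs)
      (isPullback_fibRes f T hT s hs)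
    have e3 := Groth.Agent.Lib.StalkFFH2.HHlinEquiv (S.residueField s) (fibModIsoRes f T s hs F) n
    have h := finrank_eq_dRank_of_semilinear P (-(n : ℤ)) (S.residueField s) Ψ' h1
    have h' : CohIII.fiberRank f F n s = Module.finrank (S.residueField s)
        (Coh.HH (f.fiber s) ((Scheme.Modules.pullback (gy f T s hs)).obj
          (F.restrict (f ⁻¹ᵁ T).ι)) n) := e3.finrank_eq.symm
    rw [h']
    exact h

end Facts0

end Groth.Agent.Lib.CBCH2
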