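import Mathlib

/-!
# `W ⊗ M ≅ Hom(W^∨, M)` for finitely generated projective `W`, and the kernel of `δ ⊗ M` (helper6)
-/

namespace Groth.Agent.Lib.FlatCxRepH6

open TensorProduct Module

universe u

section lin

variable (A : Type u) [CommRing A] (W : Type u) [AddCommGroup W] [Module A W]
  (N : Type u) [AddCommGroup N] [Module A N]
  (M : Type u) [AddCommGroup M] [Module A M] {M' : Type u} [AddCommGroup M'] [Module A M']

/-- `W ⊗ M → Hom(W^∨, M)`, `w ⊗ m ↦ (l ↦ l w • m)`. -/
noncomputable def theta : W ⊗[A] M →ₗ[A] (Dual A W →ₗ[A] M) :=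
  dualTensorHom A (Dual A W) M ∘ₗ (Dual.eval A W).rTensor M

@[simp]
theorem theta_tmul (w : W) (m : M) (l : Dual A W) :
    theta A W M (w ⊗ₜ[A] m) l = l w • m := by
  simp [theta]

theorem theta_bijective [Module.Finite A W] [Module.Projective A W] :
    Function.Bijective (theta A W M) := by
  have h1 : Function.Bijective (dualTensorHom A (Dual A W) M) := dualTensorHom_bijective ..
  have h2 : Function.Bijective ((Dual.eval A W).rTensor M) := by
    have h3 : (Dual.eval A W).rTensor M = ((evalEquiv A W).rTensor M).toLinearMap := by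
      ext w m
      simp
    rw [h3]
    exact LinearEquiv.bijective _
  exact h1.comp h2

variable {M} in
theorem theta_lTensor (g : M →ₗ[A] M') (x : W ⊗[A] M) :
    theta A W M' (g.lTensor W x) = g ∘ₗ theta A W M x := by
  induction x using TensorProduct.induction_on with
  | zero => simp
  | tmul w m =>
    ext l
    simp
  | add x y hx hy => rw [map_add, map_add, hx, hy, map_add, LinearMap.comp_add]

variable {W N} in
theorem theta_rTensor (δ : W →ₗ[A] N) (x : W ⊗[A] M) :
    theta A N M (δ.rTensor M x) = theta A W M x ∘ₗ δ.dualMap := by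
  induction x using TensorProduct.induction_on with
  | zero => simp
  | tmul w m =>
    ext l
    simp
  | add x y hx hy => rw [map_add, map_add, hx, hy, map_add, LinearMap.add_comp]

variable {W N} in
theorem range_dualMap_le_ker (δ : W →ₗ[A] N) (x : W ⊗[A] M) (hx : δ.rTensor M x = 0) :
    LinearMap.range δ.dualMap ≤ LinearMap.ker (theta A W M x) := by
  rintro _ ⟨l, rfl⟩
  rw [LinearMap.mem_ker]
  have h1 := theta_rTensor A M δ x
  rw [hx, map_zero] at h1
  exact (LinearMap.congr_fun h1 l).symm

variable {W N} in
theorem rTensor_eq_zero_of_le_ker [Module.Finite A N] [Module.Projective A N]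
    (δ : W →ₗ[A] N) (x : W ⊗[A] M)
    (h : LinearMap.range δ.dualMap ≤ LinearMap.ker (theta A W M x)) : δ.rTensor M x = 0 := by
  apply (theta_bijective A N M).1
  rw [theta_rTensor, map_zero]
  ext l
  exact h ⟨l, rfl⟩

end lin

end Groth.Agent.Lib.FlatCxRepH6
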