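import Mathlib
import Groth.Agent.Lib.FlatCx_helper2
import Groth.Agent.Lib.FlatCxRep1_helper6

/-!
# `T_p = H_p(P ⊗ -)` is corepresentable when `opcycles P p` and `P.X (next p)` are finitely
generated projective (helper6)
-/

namespace Groth.Agent.Lib.FlatCxRepH6

open CategoryTheory MonoidalCategory Limits CohIII Opposite TensorProduct Module
open Groth.Agent.FlatCxLib

universe u

variable {A : Type u} [CommRing A] {ι : Type} {c : ComplexShape ι}
  (P : HomologicalComplex (ModuleCat.{u} A) c) (p : ι)

/-- `δ ⊗ M`, as a map `opcycles P p ⊗ M ⟶ (P ⊗ M).X (next p)`. -/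
noncomputable def dM (M : ModuleCat.{u} A) :
    P.opcycles p ⊗ M ⟶ (tensorObj P M).X (c.next p) :=
  P.fromOpcycles p (c.next p) ▷ M

lemma dM_hom (M : ModuleCat.{u} A) :
    (dM P p M).hom = (P.fromOpcycles p (c.next p)).hom.rTensor M := rfl

/-- `j_M : T_p(M) ⟶ opcycles P p ⊗ M`. -/
noncomputable def jmap (M : ModuleCat.{u} A) : (tensorObj P M).homology p ⟶ P.opcycles p ⊗ M :=
  (tensorObj P M).homologyι p ≫ (opcyclesTensorIso P p M).hom

lemma fromOpcycles_tensor (M : ModuleCat.{u} A) :
    (tensorObj P M).fromOpcycles p (c.next p) = (opcyclesTensorIso P p M).hom ≫ dM P p M := by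
  apply (cancel_epi ((tensorObj P M).pOpcycles p)).mp
  have h1 : (tensorObj P M).pOpcycles p ≫ (tensorObj P M).fromOpcycles p (c.next p) =
      (tensorObj P M).d p (c.next p) := HomologicalComplex.p_fromOpcycles _ _ _
  have h2 : (tensorObj P M).pOpcycles p ≫ (opcyclesTensorIso P p M).hom = P.pOpcycles p ▷ M :=
    pOpcycles_opcyclesTensorIso_hom P p M
  have h3 : (P.pOpcycles p ▷ M) ≫ (P.fromOpcycles p (c.next p) ▷ M) = (P.d p (c.next p)) ▷ M := by
    rw [← comp_whiskerRight, HomologicalComplex.p_fromOpcycles]
  have h4 : (tensorObj P M).d p (c.next p) =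
      ((tensorObj P M).pOpcycles p ≫ (opcyclesTensorIso P p M).hom) ≫ dM P p M :=
    h3.symm.trans (congrArg (fun f => f ≫ dM P p M) h2.symm)
  exact h1.trans (h4.trans (Category.assoc _ _ _))

lemma jmap_comp (M : ModuleCat.{u} A) : jmap P p M ≫ dM P p M = 0 := by
  unfold jmap
  rw [Category.assoc, ← fromOpcycles_tensor, HomologicalComplex.homologyι_comp_fromOpcycles]

instance (M : ModuleCat.{u} A) : Mono (jmap P p M) := by
  unfold jmap
  infer_instance

lemma jmap_exact (M : ModuleCat.{u} A) (x : (P.opcycles p ⊗ M : ModuleCat.{u} A))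
    (hx : (dM P p M) x = 0) : ∃ t, jmap P p M t = x := by
  have hex : (ShortComplex.mk ((tensorObj P M).homologyι p)
      ((tensorObj P M).fromOpcycles p (c.next p))
      ((tensorObj P M).homologyι_comp_fromOpcycles p (c.next p))).Exact :=
    ShortComplex.exact_of_f_is_kernel _ ((tensorObj P M).homologyIsKernel p (c.next p) rfl)
  rw [ShortComplex.moduleCat_exact_iff] at hex
  obtain ⟨t, ht⟩ := hex ((opcyclesTensorIso P p M).inv x) (by
    show ((tensorObj P M).fromOpcycles p (c.next p)) ((opcyclesTensorIso P p M).inv x) = 0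
    rw [fromOpcycles_tensor, ModuleCat.comp_apply, Iso.inv_hom_id_apply]
    exact hx)
  refine ⟨t, ?_⟩
  unfold jmap
  have ht' : ((tensorObj P M).homologyι p) t = (opcyclesTensorIso P p M).inv x := ht
  rw [ModuleCat.comp_apply, ht', Iso.inv_hom_id_apply]

lemma jmap_naturality {M M' : ModuleCat.{u} A} (g : M ⟶ M') :
    HomologicalComplex.homologyMap (tensorMap P g) p ≫ jmap P p M' =
      jmap P p M ≫ (P.opcycles p ◁ g) := by
  unfold jmap
  rw [← Category.assoc, HomologicalComplex.homologyι_naturality, Category.assoc,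
    opcyclesTensorIso_hom_naturality, Category.assoc]

end Groth.Agent.Lib.FlatCxRepH6

namespace Groth.Agent.Lib.FlatCxRepH6

open CategoryTheory MonoidalCategory Limits CohIII Opposite TensorProduct Module
open Groth.Agent.FlatCxLib

universe u

variable {A : Type u} [CommRing A] {ι : Type} {c : ComplexShape ι}
  (P : HomologicalComplex (ModuleCat.{u} A) c) (p : ι)

/-- The representing object: the cokernel of the dual of `opcycles P p ⟶ P.X (next p)`. -/
noncomputable def Qobj : ModuleCat.{u} A :=
  ModuleCat.of A (Dual A (P.opcycles p) ⧸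
    LinearMap.range (P.fromOpcycles p (c.next p)).hom.dualMap)

lemma rTensor_jmap (M : ModuleCat.{u} A) (t : (tensorObj P M).homology p) :
    (P.fromOpcycles p (c.next p)).hom.rTensor M (jmap P p M t) = 0 := by
  have h1 : (jmap P p M ≫ dM P p M) t = 0 := by
    rw [jmap_comp]
    rfl
  exact h1

noncomputable def psiFun (M : ModuleCat.{u} A) (t : (tensorObj P M).homology p) :
    Qobj P p ⟶ M :=
  ModuleCat.ofHom (Submodule.liftQ _ (theta A (P.opcycles p) M (jmap P p M t))
    (range_dualMap_le_ker A M _ _ (rTensor_jmap P p M t)))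

lemma psiFun_mk (M : ModuleCat.{u} A) (t : (tensorObj P M).homology p)
    (l : Dual A (P.opcycles p)) :
    (psiFun P p M t).hom (Submodule.Quotient.mk l) =
      theta A (P.opcycles p) M (jmap P p M t) l := rfl

lemma hom_ext_Qobj {M : ModuleCat.{u} A} {f g : Qobj P p ⟶ M}
    (h : ∀ l : Dual A (P.opcycles p), f.hom (Submodule.Quotient.mk l) =
      g.hom (Submodule.Quotient.mk l)) : f = g := by
  apply ModuleCat.hom_ext
  apply Submodule.linearMap_qext
  ext l
  exact h l

noncomputable def psi (M : ModuleCat.{u} A) :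
    (tensorObj P M).homology p →ₗ[A] (Qobj P p ⟶ M) where
  toFun := psiFun P p M
  map_add' t t' := by
    apply hom_ext_Qobj
    intro l
    rw [ModuleCat.hom_add, LinearMap.add_apply, psiFun_mk, psiFun_mk, psiFun_mk, map_add, map_add,
      LinearMap.add_apply]
  map_smul' a t := by
    apply hom_ext_Qobj
    intro l
    rw [RingHom.id_apply, ModuleCat.hom_smul, LinearMap.smul_apply, psiFun_mk, psiFun_mk, map_smul,
      map_smul, LinearMap.smul_apply]

lemma psi_mk (M : ModuleCat.{u} A) (t : (tensorObj P M).homology p)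
    (l : Dual A (P.opcycles p)) :
    (psi P p M t).hom (Submodule.Quotient.mk l) =
      theta A (P.opcycles p) M (jmap P p M t) l := rfl

section rep

variable [Module.Finite A (P.opcycles p)] [Module.Projective A (P.opcycles p)]
  [Module.Finite A (P.X (c.next p))] [Module.Projective A (P.X (c.next p))]

lemma psi_bijective (M : ModuleCat.{u} A) : Function.Bijective (psi P p M) := by
  constructor
  · rw [injective_iff_map_eq_zero]
    intro t ht
    have h1 : theta A (P.opcycles p) M (jmap P p M t) = 0 := by
      ext l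
      rw [← psi_mk, ht]
      rfl
    have h2 : jmap P p M t = 0 := by
      apply (theta_bijective A (P.opcycles p) M).1
      rw [h1, map_zero]
    have hinj : Function.Injective (jmap P p M) :=
      (ModuleCat.mono_iff_injective _).mp inferInstance
    apply hinj
    rw [h2, map_zero]
  · intro φ
    obtain ⟨x, hx⟩ := (theta_bijective A (P.opcycles p) M).2
      (φ.hom ∘ₗ (LinearMap.range (P.fromOpcycles p (c.next p)).hom.dualMap).mkQ)
    have hle : LinearMap.range (P.fromOpcycles p (c.next p)).hom.dualMap ≤
        LinearMap.ker (theta A (P.opcycles p) M x) := by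
      rw [hx]
      intro l hl
      rw [LinearMap.mem_ker, LinearMap.comp_apply]
      have : (LinearMap.range (P.fromOpcycles p (c.next p)).hom.dualMap).mkQ l = 0 :=
        (Submodule.Quotient.mk_eq_zero _).mpr hl
      exact (congrArg φ.hom this).trans (map_zero _)
    have hzero := rTensor_eq_zero_of_le_ker A M (P.fromOpcycles p (c.next p)).hom x hle
    obtain ⟨t, ht⟩ := jmap_exact P p M x hzero
    refine ⟨t, ?_⟩
    apply hom_ext_Qobj
    intro l
    rw [psi_mk, ht, hx]
    rfl

lemma psi_naturality {M M' : ModuleCat.{u} A} (g : M ⟶ M') (t : (tensorObj P M).homology p) :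
    psi P p M' ((HomologicalComplex.homologyMap (tensorMap P g) p) t) = psi P p M t ≫ g := by
  apply hom_ext_Qobj
  intro l
  rw [psi_mk, ModuleCat.hom_comp, LinearMap.comp_apply, psi_mk]
  have h1 : jmap P p M' ((HomologicalComplex.homologyMap (tensorMap P g) p) t) =
      (P.opcycles p ◁ g) (jmap P p M t) := by
    have h2 := congrArg (fun f => f t) (jmap_naturality P p g)
    exact h2
  rw [h1]
  have h3 : (P.opcycles p ◁ g) (jmap P p M t) = g.hom.lTensor (P.opcycles p) (jmap P p M t) := rfl
  rw [h3, theta_lTensor]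
  rfl

/-- `T_p ≅ Hom(Q, -)`. -/
noncomputable def repIso :
    TFun P p ≅ (linearCoyoneda A (ModuleCat.{u} A)).obj (op (Qobj P p)) :=
  NatIso.ofComponents
    (fun M => (LinearEquiv.ofBijective (psi P p M) (psi_bijective P p M)).toModuleIso)
    (by
      intro M M' g
      apply ModuleCat.hom_ext
      apply LinearMap.ext
      intro t
      exact psi_naturality P p g t)

instance : Module.Finite A (Qobj P p) := by
  unfold Qobj
  infer_instance

end rep

end Groth.Agent.Lib.FlatCxRepH6
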