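import Mathlib
import Groth.Agent.Lib.FlatCxRep2_helper6

/-!
# `T_p` preserves monomorphisms iff it is corepresentable (helper6)
-/

namespace Groth.Agent.Lib.FlatCxRepH6

open CategoryTheory MonoidalCategory Limits CohIII Opposite TensorProduct Module
open Groth.Agent.FlatCxLib

universe u

variable {A : Type u} [CommRing A]

instance preservesMono_linearCoyoneda (Q : ModuleCat.{u} A) :
    ((linearCoyoneda A (ModuleCat.{u} A)).obj (op Q)).PreservesMonomorphisms := by
  refine ⟨fun {M M'} g hg => ?_⟩
  rw [ModuleCat.mono_iff_injective]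
  intro f f' hff'
  have h1 : f ≫ g = f' ≫ g := hff'
  exact (cancel_mono g).mp h1

theorem main2376 [IsNoetherianRing A]
    (P : ChainComplex (ModuleCat.{u} A) ℤ)
    (hP : ∀ i, Module.Finite A (P.X i) ∧ Module.Flat A (P.X i)) (p : ℤ) :
    ((CohIII.TFun P p).PreservesMonomorphisms ↔
      ∃ Q : ModuleCat.{u} A,
        Nonempty (CohIII.TFun P p ≅ (linearCoyoneda A (ModuleCat.{u} A)).obj (op Q))) ∧
    ∀ Q : ModuleCat.{u} A,
      Nonempty (CohIII.TFun P p ≅ (linearCoyoneda A (ModuleCat.{u} A)).obj (op Q)) →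
      Module.Finite A Q := by
  have hback : ∀ Q : ModuleCat.{u} A,
      Nonempty (CohIII.TFun P p ≅ (linearCoyoneda A (ModuleCat.{u} A)).obj (op Q)) →
      (CohIII.TFun P p).PreservesMonomorphisms := by
    rintro Q ⟨e⟩
    exact Functor.preservesMonomorphisms.of_iso e.symm
  have hforw : (CohIII.TFun P p).PreservesMonomorphisms →
      ∃ (Q : ModuleCat.{u} A) (_ : Module.Finite A Q),
        Nonempty (CohIII.TFun P p ≅ (linearCoyoneda A (ModuleCat.{u} A)).obj (op Q)) := by
    intro h
    haveI : Module.Finite A (P.X ((ComplexShape.down ℤ).next p)) := (hP _).1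
    haveI : Module.Flat A (P.X ((ComplexShape.down ℤ).next p)) := (hP _).2
    haveI : Module.Finite A (P.X p) := (hP _).1
    haveI hflat : Module.Flat A (P.opcycles p) :=
      (TFun_preservesMono_iff_flat_opcycles P p (hP _).2).mp h
    haveI : Module.Finite A (P.opcycles p) := by
      have hsurj : Function.Surjective (P.pOpcycles p).hom :=
        (ModuleCat.epi_iff_surjective _).mp inferInstance
      exact Module.Finite.of_surjective _ hsurj
    haveI : Module.FinitePresentation A (P.opcycles p) := Module.finitePresentation_of_finite A _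
    haveI : Module.FinitePresentation A (P.X ((ComplexShape.down ℤ).next p)) :=
      Module.finitePresentation_of_finite A _
    haveI : Module.Projective A (P.opcycles p) := Module.Flat.projective_of_finitePresentation
    haveI : Module.Projective A (P.X ((ComplexShape.down ℤ).next p)) :=
      Module.Flat.projective_of_finitePresentation
    exact ⟨Qobj P p, inferInstance, ⟨repIso P p⟩⟩
  refine ⟨⟨fun h => ?_, fun ⟨Q, hQ⟩ => hback Q hQ⟩, fun Q hQ => ?_⟩
  · obtain ⟨Q, -, hQ⟩ := hforw h
    exact ⟨Q, hQ⟩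
  · obtain ⟨Q₀, hfin, ⟨e₀⟩⟩ := hforw (hback Q hQ)
    obtain ⟨e⟩ := hQ
    have e1 : (linearCoyoneda A (ModuleCat.{u} A)).obj (op Q₀) ≅
        (linearCoyoneda A (ModuleCat.{u} A)).obj (op Q) := e₀.symm ≪≫ e
    have e2 : op Q₀ ≅ op Q := (linearCoyoneda A (ModuleCat.{u} A)).preimageIso e1
    have e3 : Q ≅ Q₀ := e2.unop
    exact Module.Finite.equiv e3.toLinearEquiv.symm

end Groth.Agent.Lib.FlatCxRepH6
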