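import Mathlib
import Groth.Prelude
import Groth.Agent.Lib.BCLoc8_helper2
import Groth.Agent.S2376
import Groth.Agent.S2406

/-!
# Functions on the fibre: the algebraic core (helper2)

If `T_0 = Hom(Q, -)` is left exact, `T_0(k)` is one-dimensional and `T_0(A)` contains an element with
zero annihilator, then `T_0(A)` is free of rank one.
APPEND-ONLY once landed.
-/

set_option autoImplicit false
universe u
open CategoryTheory Limits TensorProduct Opposite

namespace Groth.Agent.Lib.BCFunH2

section Alg

variable {R : Type u} [CommRing R] [IsLocalRing R]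

/-- a finite module `Q` over a local ring with `Hom(Q, k)` cyclic and `Hom(Q, R)` faithful is free
of rank one; so is `Hom(Q, R)` -/
theorem hom_cyclic_faithful (Q : Type u) [AddCommGroup Q] [Module R Q] [Module.Finite R Q]
    (hcyc : ∃ t₀ : Q →ₗ[R] IsLocalRing.ResidueField R,
      ∀ t : Q →ₗ[R] IsLocalRing.ResidueField R, ∃ r : R, t = r • t₀)
    (hfaith : ∀ r : R, (∀ t : Q →ₗ[R] R, r • t = 0) → r = 0) :
    Nonempty (R ≃ₗ[R] (Q →ₗ[R] R)) := by
  classical
  obtain ⟨t₀, ht₀⟩ := hcyc
  -- functionals on `k ⊗ Q` are determined by their restriction to `Q`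
  have key : ∀ f : Module.Dual (IsLocalRing.ResidueField R) (IsLocalRing.ResidueField R ⊗[R] Q),
      (∀ q : Q, f ((1 : IsLocalRing.ResidueField R) ⊗ₜ[R] q) = 0) → f = 0 := by
    intro f hf
    apply LinearMap.ext_on_range (FiberRank9.span_one_tmul (IsLocalRing.ResidueField R) Q)
    intro q
    rw [hf q, LinearMap.zero_apply]
  have tf : ∀ f : Module.Dual (IsLocalRing.ResidueField R) (IsLocalRing.ResidueField R ⊗[R] Q),
      ∃ t : Q →ₗ[R] IsLocalRing.ResidueField R,
        ∀ q, t q = f ((1 : IsLocalRing.ResidueField R) ⊗ₜ[R] q) := fun f =>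
    ⟨(f.restrictScalars R) ∘ₗ (TensorProduct.mk R (IsLocalRing.ResidueField R) Q 1),
      fun q => rfl⟩
  have hsmul : ∀ (r : R) (c : IsLocalRing.ResidueField R), r • c = IsLocalRing.residue R r * c :=
    fun r c => Algebra.smul_def r c
  have hq₀ : ∃ q₀ : Q, Submodule.span R {q₀} = ⊤ := by
    by_cases h0 : t₀ = 0
    · have hall : ∀ t : Q →ₗ[R] IsLocalRing.ResidueField R, t = 0 := by
        intro t
        obtain ⟨r, rfl⟩ := ht₀ t
        rw [h0, smul_zero]
      have hsub : Subsingleton (IsLocalRing.ResidueField R ⊗[R] Q) := by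
        refine ⟨fun v w => ?_⟩
        have hz : ∀ v : IsLocalRing.ResidueField R ⊗[R] Q, v = 0 := by
          intro v
          apply (Module.forall_dual_apply_eq_zero_iff (IsLocalRing.ResidueField R) v).mp
          intro f
          obtain ⟨t, ht⟩ := tf f
          have hf0 : f = 0 := key f (fun q => by rw [← ht q, hall t, LinearMap.zero_apply])
          rw [hf0, LinearMap.zero_apply]
        rw [hz v, hz w]
      haveI : Subsingleton Q := (IsLocalRing.subsingleton_tensorProduct (R := R)).mp hsub
      exact ⟨0, Subsingleton.elim _ _⟩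
    · obtain ⟨q₀, hq₀⟩ : ∃ q₀, t₀ q₀ ≠ 0 := by
        by_contra hcon
        push_neg at hcon
        exact h0 (LinearMap.ext fun q => by rw [hcon q, LinearMap.zero_apply])
      refine ⟨q₀, ?_⟩
      have hk : Submodule.span (IsLocalRing.ResidueField R)
          {(1 : IsLocalRing.ResidueField R) ⊗ₜ[R] q₀} = ⊤ := by
        by_contra hne
        obtain ⟨v, hv⟩ : ∃ v, v ∉ Submodule.span (IsLocalRing.ResidueField R)
            {(1 : IsLocalRing.ResidueField R) ⊗ₜ[R] q₀} := by
          by_contra hcon
          push_neg at hcon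
          exact hne (eq_top_iff.mpr fun v _ => hcon v)
        obtain ⟨f, hfv, hfp⟩ := Submodule.exists_dual_map_eq_bot_of_notMem hv inferInstance
        have hf0 : f ((1 : IsLocalRing.ResidueField R) ⊗ₜ[R] q₀) = 0 := by
          have hmem : f ((1 : IsLocalRing.ResidueField R) ⊗ₜ[R] q₀) ∈
              Submodule.map f (Submodule.span (IsLocalRing.ResidueField R)
                {(1 : IsLocalRing.ResidueField R) ⊗ₜ[R] q₀}) :=
            Submodule.mem_map_of_mem (Submodule.mem_span_singleton_self _)
          rw [hfp] at hmem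
          exact (Submodule.mem_bot _).mp hmem
        obtain ⟨t, ht⟩ := tf f
        obtain ⟨r, hr⟩ := ht₀ t
        have h1 : IsLocalRing.residue R r * t₀ q₀ = 0 := by
          rw [← hsmul, ← LinearMap.smul_apply, ← hr, ht q₀, hf0]
        have h2 : IsLocalRing.residue R r = 0 := by
          rcases mul_eq_zero.mp h1 with h | h
          · exact h
          · exact absurd h hq₀
        have h3 : t = 0 := by
          rw [hr]
          ext q
          rw [LinearMap.smul_apply, hsmul, h2, zero_mul, LinearMap.zero_apply]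
        have hff : f = 0 := key f (fun q => by rw [← ht q, h3, LinearMap.zero_apply])
        exact hfv (by rw [hff, LinearMap.zero_apply])
      rw [← IsLocalRing.map_tensorProduct_mk_eq_top, eq_top_iff]
      intro v _
      have hv : v ∈ Submodule.span (IsLocalRing.ResidueField R)
          {(1 : IsLocalRing.ResidueField R) ⊗ₜ[R] q₀} := by rw [hk]; trivial
      obtain ⟨c, rfl⟩ := Submodule.mem_span_singleton.mp hv
      obtain ⟨r, rfl⟩ := IsLocalRing.residue_surjective c
      refine ⟨r • q₀, Submodule.smul_mem _ _ (Submodule.mem_span_singleton_self _), ?_⟩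
      show (1 : IsLocalRing.ResidueField R) ⊗ₜ[R] (r • q₀) = _
      rw [← TensorProduct.smul_tmul, TensorProduct.smul_tmul', hsmul, mul_one, smul_eq_mul,
        mul_one]
  obtain ⟨q₀, hq₀⟩ := hq₀
  have hex : ∀ q : Q, ∃ b : R, b • q₀ = q := fun q =>
    Submodule.mem_span_singleton.mp (by rw [hq₀]; trivial)
  have hbij : Function.Bijective (LinearMap.toSpanSingleton R Q q₀) := by
    constructor
    · rw [← LinearMap.ker_eq_bot, LinearMap.ker_eq_bot']
      intro r hr
      rw [LinearMap.toSpanSingleton_apply] at hr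
      apply hfaith
      intro t
      ext q
      obtain ⟨b, rfl⟩ := hex q
      rw [LinearMap.smul_apply, LinearMap.zero_apply, ← map_smul, smul_comm, hr, smul_zero,
        map_zero]
    · intro q
      obtain ⟨b, hb⟩ := hex q
      exact ⟨b, hb⟩
  let e : R ≃ₗ[R] Q := LinearEquiv.ofBijective _ hbij
  exact ⟨(LinearMap.ringLmapEquivSelf R R R).symm ≪≫ₗ LinearEquiv.congrLeft R R e⟩

end Alg

section Local

variable {R : Type u} [CommRing R] [IsNoetherianRing R] [IsLocalRing R]

/-- **the local core**: over a Noetherian local ring, if `T_0` is left exact, `H_0(P ⊗ k)` is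
one-dimensional and `H_0(P)` is faithful, then `H_0(P)` is free of rank one -/
theorem coreLocal (P : ChainComplex (ModuleCat.{u} R) ℤ)
    (hP : ∀ i, Module.Finite R (P.X i) ∧ Module.Flat R (P.X i))
    (hmono : (CohIII.TFun P 0).PreservesMonomorphisms)
    (hfaith : ∀ r : R, (∀ h : P.homology 0, r • h = 0) → r = 0)
    (hrank : Module.finrank (IsLocalRing.ResidueField R)
      ((CohIII.bcCx (algebraMap R (IsLocalRing.ResidueField R)) P).homology 0) = 1) :
    Nonempty (R ≃ₗ[R] P.homology 0) := by
  obtain ⟨Q, ⟨ε⟩⟩ := (Groth.Agent.S2376.result P hP 0).1.1 hmono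
  haveI : Module.Finite R Q := (Groth.Agent.S2376.result P hP 0).2 Q ⟨ε⟩
  let e1 : P.homology 0 ≃ₗ[R] (CohIII.TFun P 0).obj (ModuleCat.of R R) :=
    Groth.Agent.TFunBCH5.homologyEquivTA P 0
  let e2 : (CohIII.TFun P 0).obj (ModuleCat.of R R) ≃ₗ[R] (Q ⟶ ModuleCat.of R R) :=
    (ε.app (ModuleCat.of R R)).toLinearEquiv
  let e3 : (Q ⟶ ModuleCat.of R R) ≃ₗ[R] (Q →ₗ[R] R) := ModuleCat.homLinearEquiv (S := R)
  let f1 : ((ModuleCat.restrictScalars (algebraMap R (IsLocalRing.ResidueField R))).obj
      ((CohIII.bcCx (algebraMap R (IsLocalRing.ResidueField R)) P).homology 0)) ≃ₗ[R]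
      (CohIII.TFun P 0).obj (ModuleCat.of R (IsLocalRing.ResidueField R)) :=
    (Groth.Agent.TFunCmp5.TBIso (IsLocalRing.ResidueField R) P 0).toLinearEquiv
  let f2 : (CohIII.TFun P 0).obj (ModuleCat.of R (IsLocalRing.ResidueField R)) ≃ₗ[R]
      (Q ⟶ ModuleCat.of R (IsLocalRing.ResidueField R)) :=
    (ε.app (ModuleCat.of R (IsLocalRing.ResidueField R))).toLinearEquiv
  let f3 : (Q ⟶ ModuleCat.of R (IsLocalRing.ResidueField R)) ≃ₗ[R]
      (Q →ₗ[R] IsLocalRing.ResidueField R) := ModuleCat.homLinearEquiv (S := R)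
  haveI : Module.Free (IsLocalRing.ResidueField R)
      ((CohIII.bcCx (algebraMap R (IsLocalRing.ResidueField R)) P).homology 0) :=
    Module.Free.of_divisionRing _ _
  obtain ⟨v₀, -, hv₀⟩ := finrank_eq_one_iff'.mp hrank
  have hcyc : ∃ t₀ : Q →ₗ[R] IsLocalRing.ResidueField R,
      ∀ t : Q →ₗ[R] IsLocalRing.ResidueField R, ∃ r : R, t = r • t₀ := by
    refine ⟨f3 (f2 (f1 v₀)), fun t => ?_⟩
    obtain ⟨c, hc⟩ := hv₀ (f1.symm (f2.symm (f3.symm t)))
    obtain ⟨r, rfl⟩ := IsLocalRing.residue_surjective c
    refine ⟨r, ?_⟩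
    have h1 : (r • (show ((ModuleCat.restrictScalars (algebraMap R
        (IsLocalRing.ResidueField R))).obj ((CohIII.bcCx (algebraMap R
        (IsLocalRing.ResidueField R)) P).homology 0)) from v₀)) =
        f1.symm (f2.symm (f3.symm t)) := hc
    rw [← map_smul, ← map_smul, ← map_smul, h1, LinearEquiv.apply_symm_apply,
      LinearEquiv.apply_symm_apply, LinearEquiv.apply_symm_apply]
  have hfaith' : ∀ r : R, (∀ t : Q →ₗ[R] R, r • t = 0) → r = 0 := by
    intro r hr
    apply hfaith
    intro h
    have h2 := hr (e3 (e2 (e1 h)))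
    rw [← map_smul, ← map_smul, ← map_smul] at h2
    have h3 : e1 (r • h) = 0 := by
      have := e3.map_eq_zero_iff.mp h2
      exact e2.map_eq_zero_iff.mp this
    exact e1.map_eq_zero_iff.mp h3
  obtain ⟨e⟩ := hom_cyclic_faithful (Q : Type u) hcyc hfaith'
  exact ⟨e ≪≫ₗ (e1 ≪≫ₗ e2 ≪≫ₗ e3).symm⟩

end Local

section At

variable {A : Type u} [CommRing A] [IsNoetherianRing A]

/-- **the core at a point**: if `T_0` is left exact, the rank function `d_0` is `1` at `x` and
`H_0(P)` contains an element whose annihilator vanishes at `x`, then `H_0(P)` is free of rank one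
at `x` -/
theorem coreAt (P : ChainComplex (ModuleCat.{u} A) ℤ)
    (hP : ∀ i, Module.Finite A (P.X i) ∧ Module.Flat A (P.X i))
    (hmono : (CohIII.TFun P 0).PreservesMonomorphisms)
    (x : PrimeSpectrum A) (hrank : CohIII.dRank P 0 x = 1)
    (h₀ : P.homology 0)
    (hfaith : ∀ a : A, a • h₀ = 0 → ∃ s : A, s ∉ x.asIdeal ∧ s * a = 0) :
    Nonempty (Localization.AtPrime x.asIdeal ≃ₗ[Localization.AtPrime x.asIdeal]
      (Localization.AtPrime x.asIdeal) ⊗[A] (P.homology 0)) := by
  have hP' := Groth.Agent.Lib.BCLocH2.finite_flat_bcLoc P hP x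
  have hmono' : (CohIII.TFun (CohIII.bcCx (algebraMap A (Localization.AtPrime x.asIdeal)) P)
      0).PreservesMonomorphisms :=
    Groth.Agent.TFunBC5.mono_bc_of_mono (B := Localization.AtPrime x.asIdeal) P
      (fun i => (hP i).2) 0 hmono
  have hcomp : (algebraMap (Localization.AtPrime x.asIdeal) x.asIdeal.ResidueField).comp
      (algebraMap A (Localization.AtPrime x.asIdeal)) =
      (RingHom.id x.asIdeal.ResidueField).comp (algebraMap A x.asIdeal.ResidueField) := by
    ext a
    rfl
  have hrank' : Module.finrank (IsLocalRing.ResidueField (Localization.AtPrime x.asIdeal))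
      ((CohIII.bcCx (algebraMap (Localization.AtPrime x.asIdeal)
        (IsLocalRing.ResidueField (Localization.AtPrime x.asIdeal)))
        (CohIII.bcCx (algebraMap A (Localization.AtPrime x.asIdeal)) P)).homology 0) = 1 := by
    have := FiberRank9.finrank_homology_bc (algebraMap A (Localization.AtPrime x.asIdeal))
      (algebraMap (Localization.AtPrime x.asIdeal) x.asIdeal.ResidueField)
      (algebraMap A x.asIdeal.ResidueField) (RingHom.id _) hcomp P 0
    exact this.trans hrank
  haveI : PreservesFiniteLimits (ModuleCat.extendScalars.{u, u, u}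
      (algebraMap A (Localization.AtPrime x.asIdeal))) :=
    ModuleCat.preservesFiniteLimits_extendScalars_of_flat
      (f := algebraMap A (Localization.AtPrime x.asIdeal))
      (RingHom.flat_algebraMap_iff.mpr inferInstance)
  haveI : (ModuleCat.extendScalars.{u, u, u}
      (algebraMap A (Localization.AtPrime x.asIdeal))).PreservesHomology :=
    Functor.preservesHomologyOfExact _
  let isoM : (CohIII.bcCx (algebraMap A (Localization.AtPrime x.asIdeal)) P).homology 0 ≅
      (ModuleCat.extendScalars.{u, u, u} (algebraMap A (Localization.AtPrime x.asIdeal))).obj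
        (P.homology 0) :=
    (P.sc 0).mapHomologyIso (ModuleCat.extendScalars.{u, u, u}
      (algebraMap A (Localization.AtPrime x.asIdeal)))
  let e4 : (CohIII.bcCx (algebraMap A (Localization.AtPrime x.asIdeal)) P).homology 0
      ≃ₗ[Localization.AtPrime x.asIdeal]
      (Localization.AtPrime x.asIdeal) ⊗[A] (P.homology 0) :=
    isoM.toLinearEquiv ≪≫ₗ Groth.Agent.ExtendScalarsLib.extendScalarsEquivTensor
      (S := Localization.AtPrime x.asIdeal) (P.homology 0)
  have hfaith' : ∀ r : Localization.AtPrime x.asIdeal,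
      (∀ h : (CohIII.bcCx (algebraMap A (Localization.AtPrime x.asIdeal)) P).homology 0,
        r • h = 0) → r = 0 := by
    intro r hr
    obtain ⟨a, s, rfl⟩ := IsLocalization.exists_mk'_eq x.asIdeal.primeCompl r
    have h1 := hr (e4.symm ((1 : Localization.AtPrime x.asIdeal) ⊗ₜ[A] h₀))
    have h2 : (IsLocalization.mk' (Localization.AtPrime x.asIdeal) a s) •
        ((1 : Localization.AtPrime x.asIdeal) ⊗ₜ[A] h₀) = 0 := by
      have := congrArg e4 h1
      rwa [map_smul, LinearEquiv.apply_symm_apply, map_zero] at this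
    have h3 : (1 : Localization.AtPrime x.asIdeal) ⊗ₜ[A] (a • h₀) = 0 := by
      have h4 := congrArg (fun z => algebraMap A (Localization.AtPrime x.asIdeal) (s : A) • z) h2
      simp only [smul_zero] at h4
      rw [← mul_smul, IsLocalization.mk'_spec'_mk] at h4
      calc (1 : Localization.AtPrime x.asIdeal) ⊗ₜ[A] (a • h₀)
          = (a • (1 : Localization.AtPrime x.asIdeal)) ⊗ₜ[A] h₀ :=
            (TensorProduct.smul_tmul a 1 h₀).symm
        _ = (algebraMap A (Localization.AtPrime x.asIdeal) a) ⊗ₜ[A] h₀ := by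
            rw [Algebra.smul_def, mul_one]
        _ = (algebraMap A (Localization.AtPrime x.asIdeal) a) •
              ((1 : Localization.AtPrime x.asIdeal) ⊗ₜ[A] h₀) := by
            rw [TensorProduct.smul_tmul', smul_eq_mul, mul_one]
        _ = 0 := h4
    obtain ⟨s', hs'⟩ := (IsLocalizedModule.eq_zero_iff x.asIdeal.primeCompl
      (TensorProduct.mk A (Localization.AtPrime x.asIdeal) (P.homology 0) 1)).mp h3
    have h5 : ((s' : A) * a) • h₀ = 0 := by
      rw [mul_smul]
      exact hs'
    obtain ⟨s'', hs'', h6⟩ := hfaith _ h5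
    rw [IsLocalization.mk'_eq_zero_iff]
    exact ⟨⟨s'', hs''⟩ * s', by
      show s'' * (s' : A) * a = 0
      rw [mul_assoc]
      exact h6⟩
  obtain ⟨e⟩ := coreLocal (CohIII.bcCx (algebraMap A (Localization.AtPrime x.asIdeal)) P) hP'
    hmono' hfaith' hrank'
  exact ⟨e ≪≫ₗ e4⟩

end At

section LemmaR

variable {A B : Type u} [CommRing A] [CommRing B] [Algebra A B] [IsNoetherianRing A]
  [Module.Finite A B]

/-- a finite algebra which is free of rank one at a prime is trivial near that prime -/
theorem lemmaR (x : PrimeSpectrum A)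
    (e : Nonempty (Localization.AtPrime x.asIdeal ≃ₗ[Localization.AtPrime x.asIdeal]
      (Localization.AtPrime x.asIdeal) ⊗[A] B)) :
    ∃ g : A, g ∉ x.asIdeal ∧ (∀ a : A, algebraMap A B a = 0 → ∃ n : ℕ, g ^ n * a = 0) ∧
      (∀ b : B, ∃ (n : ℕ) (a : A), algebraMap A B g ^ n * b = algebraMap A B a) := by
  obtain ⟨e⟩ := e
  haveI : Module.Free (Localization.AtPrime x.asIdeal)
      ((Localization.AtPrime x.asIdeal) ⊗[A] B) := Module.Free.of_equiv e
  have hfr : Module.finrank (Localization.AtPrime x.asIdeal)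
      ((Localization.AtPrime x.asIdeal) ⊗[A] B) = 1 := by
    rw [← e.finrank_eq, Module.finrank_self]
  have hbij : Function.Bijective (algebraMap (Localization.AtPrime x.asIdeal)
      ((Localization.AtPrime x.asIdeal) ⊗[A] B)) :=
    Algebra.finrank_eq_one_iff_bijective_algebraMap.mp hfr
  have hmap : IsLocalizedModule.map x.asIdeal.primeCompl
      (Algebra.linearMap A (Localization.AtPrime x.asIdeal))
      (TensorProduct.mk A (Localization.AtPrime x.asIdeal) B 1) (Algebra.linearMap A B) =
      (Algebra.linearMap (Localization.AtPrime x.asIdeal)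
        ((Localization.AtPrime x.asIdeal) ⊗[A] B)).restrictScalars A := by
    apply IsLocalizedModule.linearMap_ext x.asIdeal.primeCompl
      (Algebra.linearMap A (Localization.AtPrime x.asIdeal))
      (TensorProduct.mk A (Localization.AtPrime x.asIdeal) B 1)
    refine LinearMap.ext fun a => ?_
    rw [LinearMap.comp_apply, IsLocalizedModule.map_apply, LinearMap.comp_apply]
    show (1 : Localization.AtPrime x.asIdeal) ⊗ₜ[A] (algebraMap A B a) =
      algebraMap (Localization.AtPrime x.asIdeal) ((Localization.AtPrime x.asIdeal) ⊗[A] B)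
        (algebraMap A (Localization.AtPrime x.asIdeal) a)
    rw [Algebra.TensorProduct.algebraMap_apply, Algebra.algebraMap_self, RingHom.id_apply,
      Algebra.algebraMap_eq_smul_one a, ← TensorProduct.smul_tmul,
      ← Algebra.algebraMap_eq_smul_one]
  have hbij' : Function.Bijective (IsLocalizedModule.map x.asIdeal.primeCompl
      (Algebra.linearMap A (Localization.AtPrime x.asIdeal))
      (TensorProduct.mk A (Localization.AtPrime x.asIdeal) B 1) (Algebra.linearMap A B)) := by
    rw [hmap]
    exact hbij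
  haveI : Module.FinitePresentation A B := Module.finitePresentation_of_finite A B
  obtain ⟨g, hg, hgb⟩ := exists_bijective_map_powers x.asIdeal.primeCompl
    (Algebra.linearMap A (Localization.AtPrime x.asIdeal))
    (TensorProduct.mk A (Localization.AtPrime x.asIdeal) B 1) (Algebra.linearMap A B) hbij'
  have hb := hgb g dvd_rfl
  refine ⟨g, hg, fun a ha => ?_, fun b => ?_⟩
  · have h1 : LocalizedModule.map (Submonoid.powers g) (Algebra.linearMap A B)
        (LocalizedModule.mk a 1) = 0 := by
      rw [LocalizedModule.map_mk, Algebra.linearMap_apply, ha, LocalizedModule.zero_mk]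
    have h2 : LocalizedModule.mk a (1 : Submonoid.powers g) = 0 :=
      hb.1 (h1.trans (map_zero _).symm)
    rw [← LocalizedModule.zero_mk (1 : Submonoid.powers g), LocalizedModule.mk_eq] at h2
    obtain ⟨⟨_, n, rfl⟩, hu⟩ := h2
    refine ⟨n, ?_⟩
    have hu2 : g ^ n * ((1 : A) * a) = g ^ n * ((1 : A) * 0) := hu
    rw [mul_zero, mul_zero, one_mul] at hu2
    exact hu2
  · obtain ⟨z, hz⟩ := hb.2 (LocalizedModule.mk b 1)
    induction z using LocalizedModule.induction_on with
    | _ a s =>
      rw [LocalizedModule.map_mk, LocalizedModule.mk_eq] at hz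
      obtain ⟨⟨_, j, rfl⟩, hu⟩ := hz
      obtain ⟨s, m, rfl⟩ := s
      refine ⟨j + m, g ^ j * a, ?_⟩
      have hu' : g ^ j • ((1 : A) • algebraMap A B a) = g ^ j • (g ^ m • b) := hu
      rw [one_smul, Algebra.smul_def, Algebra.smul_def, Algebra.smul_def, map_pow, map_pow] at hu'
      rw [map_mul, map_pow, pow_add, mul_assoc]
      exact hu'.symm

end LemmaR

end Groth.Agent.Lib.BCFunH2
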