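import Mathlib
import Groth.Prelude

/-!
# Functions on the fibre: scheme-theoretic lemmas (helper2)

* `lemmaS`: a morphism to an affine scheme which is an isomorphism on the sections over all basic
  opens is an isomorphism on the sections over all opens;
* `lemmaT`: passing from `f ∣_ U` to `f`;
* `app_basicOpen_bijective`: the localization argument.
APPEND-ONLY once landed.
-/

set_option autoImplicit false
universe u
open CategoryTheory Limits AlgebraicGeometry TopologicalSpace Opposite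

namespace Groth.Agent.Lib.BCFunH2

theorem lemmaS {X Y : Scheme.{u}} (f : X ⟶ Y) [IsAffine Y]
    (hb : ∀ h : Γ(Y, ⊤), IsIso (f.app (Y.basicOpen h))) (W : Y.Opens) : IsIso (f.app W) := by
  let G : TopCat.Sheaf CommRingCat Y := (TopCat.Sheaf.pushforward CommRingCat f.base).obj X.sheaf
  let φ : Y.sheaf ⟶ G := ⟨f.c⟩
  have hφ : IsIso φ := TopCat.Sheaf.isIso_iff_isIso_basis (B := fun h : Γ(Y, ⊤) => Y.basicOpen h)
    (isBasis_basicOpen Y) (fun h => hb h)
  have h2 : IsIso ((TopCat.Sheaf.forget CommRingCat Y).map φ) := inferInstance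
  exact (NatTrans.isIso_iff_isIso_app ((TopCat.Sheaf.forget CommRingCat Y).map φ)).mp h2 (op W)

lemma isIso_of_comp_eqToHom {C : Type*} [Category C] {A B B' : C} (k : A ⟶ B) (p : B = B')
    (h : IsIso (k ≫ eqToHom p)) : IsIso k := by
  subst p
  rw [eqToHom_refl, Category.comp_id] at h
  exact h

lemma isIso_comp_eqToHom {C : Type*} [Category C] {A B B' : C} (k : A ⟶ B) (p : B = B')
    (h : IsIso k) : IsIso (k ≫ eqToHom p) := by
  subst p
  rw [eqToHom_refl, Category.comp_id]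
  exact h

theorem lemmaT {X Y : Scheme.{u}} (f : X ⟶ Y) (U : Y.Opens) (W : Y.Opens) (hW : W ≤ U)
    (h : IsIso ((f ∣_ U).app (U.ι ⁻¹ᵁ W))) :
    IsIso (f.app W) := by
  have h1 : U.ι ''ᵁ (U.ι ⁻¹ᵁ W) = W := by
    rw [Scheme.Hom.image_preimage_eq_opensRange_inf, Scheme.Opens.opensRange_ι]
    exact inf_eq_right.mpr hW
  have h2 := h
  rw [morphismRestrict_app, eqToHom_op, eqToHom_map] at h2
  have h3 : IsIso (f.app (U.ι ''ᵁ (U.ι ⁻¹ᵁ W))) := isIso_of_comp_eqToHom _ _ h2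
  rw [h1] at h3
  exact h3

section Loc

variable {X Y : Scheme.{u}} (f : X ⟶ Y)

lemma nat_res {D : Y.Opens} (a : Γ(Y, ⊤)) :
    (f.app D).hom ((Y.presheaf.map (homOfLE (le_top : D ≤ ⊤)).op).hom a) =
      (X.presheaf.map (homOfLE (le_top : f ⁻¹ᵁ D ≤ ⊤)).op).hom (f.appTop.hom a) := by
  have h := Scheme.Hom.naturality f (homOfLE (le_top : D ≤ ⊤)).op
  exact congrArg (fun k => k.hom a) h

lemma res_zero_of_eq {W : X.Opens} (s : Γ(X, ⊤)) (e : W = X.basicOpen s) [CompactSpace X]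
    [QuasiSeparatedSpace X] (b : Γ(X, ⊤))
    (hb : (X.presheaf.map (homOfLE (le_top : W ≤ ⊤)).op).hom b = 0) : ∃ m : ℕ, s ^ m * b = 0 := by
  subst e
  exact exists_of_res_zero_of_qcqs (U := ⊤) isCompact_univ isQuasiSeparated_univ hb

lemma res_surj_of_eq {W : X.Opens} (s : Γ(X, ⊤)) (e : W = X.basicOpen s) [CompactSpace X]
    [QuasiSeparatedSpace X] (t : Γ(X, W)) :
    ∃ (n : ℕ) (b : Γ(X, ⊤)), (X.presheaf.map (homOfLE (le_top : W ≤ ⊤)).op).hom b =
      ((X.presheaf.map (homOfLE (le_top : W ≤ ⊤)).op).hom s) ^ n * t := by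
  subst e
  exact exists_eq_pow_mul_of_isCompact_of_isQuasiSeparated X ⊤ isCompact_univ
    isQuasiSeparated_univ s t

lemma isUnit_res_of_le (g : Γ(Y, ⊤)) {D : Y.Opens} (hle : D ≤ Y.basicOpen g) :
    IsUnit ((Y.presheaf.map (homOfLE (le_top : D ≤ ⊤)).op).hom g) := by
  have h1 : IsUnit ((Y.presheaf.map (homOfLE (le_top : Y.basicOpen g ≤ ⊤)).op).hom g) :=
    RingedSpace.isUnit_res_basicOpen Y.toRingedSpace g
  have h2 := h1.map (Y.presheaf.map (homOfLE hle).op).hom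
  have h3 : (Y.presheaf.map (homOfLE hle).op).hom
      ((Y.presheaf.map (homOfLE (le_top : Y.basicOpen g ≤ ⊤)).op).hom g) =
      (Y.presheaf.map (homOfLE (le_top : D ≤ ⊤)).op).hom g := by
    rw [← CommRingCat.comp_apply, ← Functor.map_comp]
    rfl
  rw [h3] at h2
  exact h2

theorem app_basicOpen_bijective [IsAffine Y] [CompactSpace X] [QuasiSeparatedSpace X]
    (g h : Γ(Y, ⊤))
    (hi : ∀ a : Γ(Y, ⊤), f.appTop.hom a = 0 → ∃ n : ℕ, g ^ n * a = 0)
    (hii : ∀ b : Γ(X, ⊤), ∃ (n : ℕ) (a : Γ(Y, ⊤)), f.appTop.hom g ^ n * b = f.appTop.hom a)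
    (hle : Y.basicOpen h ≤ Y.basicOpen g) :
    Function.Bijective (f.app (Y.basicOpen h)).hom := by
  have hE : f ⁻¹ᵁ (Y.basicOpen h) = X.basicOpen (f.appTop.hom h) := Scheme.preimage_basicOpen f h
  have hug := isUnit_res_of_le g hle
  have huh := isUnit_res_of_le h le_rfl
  constructor
  · rw [injective_iff_map_eq_zero]
    intro s hs
    obtain ⟨n, a, ha⟩ := res_surj_of_eq (X := Y) h rfl s
    have h1 : (X.presheaf.map (homOfLE (le_top : f ⁻¹ᵁ (Y.basicOpen h) ≤ ⊤)).op).hom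
        (f.appTop.hom a) = 0 := by
      rw [← nat_res, ha, map_mul, hs, mul_zero]
    obtain ⟨m, hm⟩ := res_zero_of_eq (f.appTop.hom h) hE _ h1
    rw [← map_pow, ← map_mul] at hm
    obtain ⟨k, hk⟩ := hi _ hm
    have h2 := congrArg (Y.presheaf.map (homOfLE (le_top : Y.basicOpen h ≤ ⊤)).op).hom hk
    rw [map_mul, map_mul, map_pow, map_pow, map_zero, ha] at h2
    have h3 := (hug.pow k).mul_right_eq_zero.mp h2
    have h4 := (huh.pow m).mul_right_eq_zero.mp h3
    exact (huh.pow n).mul_right_eq_zero.mp h4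
  · intro t
    obtain ⟨n, b, hb⟩ := res_surj_of_eq (f.appTop.hom h) hE t
    obtain ⟨k, a, hka⟩ := hii b
    have h1 := congrArg (X.presheaf.map (homOfLE (le_top : f ⁻¹ᵁ (Y.basicOpen h) ≤ ⊤)).op).hom hka
    rw [map_mul, map_pow, ← nat_res, ← nat_res, hb, ← nat_res] at h1
    obtain ⟨ug, hug'⟩ := hug
    obtain ⟨uh, huh'⟩ := huh
    refine ⟨((ug⁻¹ : (Γ(Y, Y.basicOpen h))ˣ) : Γ(Y, Y.basicOpen h)) ^ k *
      ((uh⁻¹ : (Γ(Y, Y.basicOpen h))ˣ) : Γ(Y, Y.basicOpen h)) ^ n *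
      (Y.presheaf.map (homOfLE (le_top : Y.basicOpen h ≤ ⊤)).op).hom a, ?_⟩
    rw [map_mul, map_mul, map_pow, map_pow, ← h1, ← hug', ← huh']
    have e1 : (f.app (Y.basicOpen h)).hom ((ug⁻¹ : (Γ(Y, Y.basicOpen h))ˣ) : Γ(Y, Y.basicOpen h)) *
        (f.app (Y.basicOpen h)).hom (ug : Γ(Y, Y.basicOpen h)) = 1 := by
      rw [← map_mul, Units.inv_mul, map_one]
    have e2 : (f.app (Y.basicOpen h)).hom ((uh⁻¹ : (Γ(Y, Y.basicOpen h))ˣ) : Γ(Y, Y.basicOpen h)) *
        (f.app (Y.basicOpen h)).hom (uh : Γ(Y, Y.basicOpen h)) = 1 := by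
      rw [← map_mul, Units.inv_mul, map_one]
    calc _ = ((f.app (Y.basicOpen h)).hom ((ug⁻¹ : (Γ(Y, Y.basicOpen h))ˣ) : Γ(Y, Y.basicOpen h)) *
          (f.app (Y.basicOpen h)).hom (ug : Γ(Y, Y.basicOpen h))) ^ k *
        ((f.app (Y.basicOpen h)).hom ((uh⁻¹ : (Γ(Y, Y.basicOpen h))ˣ) : Γ(Y, Y.basicOpen h)) *
          (f.app (Y.basicOpen h)).hom (uh : Γ(Y, Y.basicOpen h))) ^ n * t := by ring
      _ = t := by rw [e1, e2, one_pow, one_pow, one_mul, one_mul]

end Loc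

section Assemble

variable {X Y : Scheme.{u}} (f : X ⟶ Y)

/-- a quasi-compact quasi-separated morphism which is an isomorphism on the sections over an affine
open `U` is an isomorphism on the sections over every open subset of `U` -/
theorem lemmaS' [QuasiCompact f] [QuasiSeparated f] (U : Y.Opens) (hU : IsAffineOpen U)
    (hiso : IsIso (f.app U)) (W : Y.Opens) (hW : W ≤ U) : IsIso (f.app W) := by
  haveI : IsAffine (U : Scheme.{u}) := hU
  haveI : CompactSpace ((f ⁻¹ᵁ U : X.Opens) : Scheme.{u}) :=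
    QuasiCompact.compactSpace_of_compactSpace (f ∣_ U)
  haveI : QuasiSeparatedSpace ((f ⁻¹ᵁ U : X.Opens) : Scheme.{u}) :=
    quasiSeparatedSpace_of_quasiSeparated (f ∣_ U)
  have htop : IsIso ((f ∣_ U).appTop) := by
    show IsIso ((f ∣_ U).app ⊤)
    have h1 : IsIso (f.app (U.ι ''ᵁ ⊤)) := by
      rw [Scheme.Opens.ι_image_top]
      exact hiso
    rw [morphismRestrict_app, eqToHom_op, eqToHom_map]
    exact isIso_comp_eqToHom _ _ h1
  have hbij : Function.Bijective (f ∣_ U).appTop.hom :=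
    (ConcreteCategory.isIso_iff_bijective _).mp htop
  apply lemmaT f U W hW
  apply lemmaS (f ∣_ U)
  intro h
  rw [ConcreteCategory.isIso_iff_bijective]
  refine app_basicOpen_bijective (f ∣_ U) 1 h (fun a ha => ⟨0, ?_⟩) (fun b => ?_) ?_
  · rw [pow_zero, one_mul]
    exact hbij.1 (ha.trans (map_zero _).symm)
  · obtain ⟨a, ha⟩ := hbij.2 b
    exact ⟨0, a, by rw [pow_zero, one_mul, ha]⟩
  · rw [Scheme.basicOpen_of_isUnit _ isUnit_one]
    exact le_top

/-- from the localization data over an affine open `V` to all opens inside a basic open -/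
theorem assemble [QuasiCompact f] [QuasiSeparated f] (V : Y.Opens) (hV : IsAffineOpen V)
    (g : Γ((V : Scheme.{u}), ⊤))
    (hi : ∀ a : Γ((V : Scheme.{u}), ⊤), (f ∣_ V).appTop.hom a = 0 → ∃ n : ℕ, g ^ n * a = 0)
    (hii : ∀ b : Γ(((f ⁻¹ᵁ V : X.Opens) : Scheme.{u}), ⊤), ∃ (n : ℕ) (a : Γ((V : Scheme.{u}), ⊤)),
      (f ∣_ V).appTop.hom g ^ n * b = (f ∣_ V).appTop.hom a)
    (W : Y.Opens) (hW : W ≤ V.ι ''ᵁ ((V : Scheme.{u}).basicOpen g)) : IsIso (f.app W) := by
  haveI : IsAffine (V : Scheme.{u}) := hV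
  haveI : CompactSpace ((f ⁻¹ᵁ V : X.Opens) : Scheme.{u}) :=
    QuasiCompact.compactSpace_of_compactSpace (f ∣_ V)
  haveI : QuasiSeparatedSpace ((f ⁻¹ᵁ V : X.Opens) : Scheme.{u}) :=
    quasiSeparatedSpace_of_quasiSeparated (f ∣_ V)
  have hWV : W ≤ V := hW.trans (Scheme.Opens.ι_image_le V _)
  apply lemmaT f V W hWV
  have hD : IsAffineOpen ((V : Scheme.{u}).basicOpen g) := (isAffineOpen_top _).basicOpen g
  have hb := app_basicOpen_bijective (f ∣_ V) g g hi hii le_rfl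
  have hiso : IsIso ((f ∣_ V).app ((V : Scheme.{u}).basicOpen g)) :=
    (ConcreteCategory.isIso_iff_bijective _).mpr hb
  apply lemmaS' (f ∣_ V) _ hD hiso
  intro z hz
  have h1 : V.ι z ∈ V.ι ''ᵁ ((V : Scheme.{u}).basicOpen g) := hW hz
  obtain ⟨z', hz', hzz⟩ := h1
  have : z' = z := V.ι.isOpenEmbedding.injective hzz
  rw [← this]
  exact hz'

end Assemble

section Faithful

variable {X Y : Scheme.{u}} (f : X ⟶ Y)

/-- for a flat morphism to an affine scheme, a function on the base which vanishes on `X` is killed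
by a function not vanishing at the image of a given point -/
theorem faithful_of_flat [Flat f] [IsAffine Y] (x : X) (a : Γ(Y, ⊤)) (ha : f.appTop.hom a = 0) :
    ∃ s : Γ(Y, ⊤), f x ∈ Y.basicOpen s ∧ s * a = 0 := by
  obtain ⟨_, ⟨W, hW : IsAffineOpen W, rfl⟩, hxW, -⟩ :=
    (X.isBasis_affineOpens).exists_subset_of_mem_open (Set.mem_univ x) isOpen_univ
  have hle : W ≤ f ⁻¹ᵁ ⊤ := le_top
  have hflat : (f.appLE ⊤ W hle).hom.Flat :=
    HasRingHomProperty.appLE @Flat f inferInstance ⟨⊤, isAffineOpen_top Y⟩ ⟨W, hW⟩ hle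
  have hρa : (f.appLE ⊤ W hle).hom a = 0 := by
    show (X.presheaf.map (homOfLE le_top).op).hom (f.appTop.hom a) = 0
    rw [ha, map_zero]
  letI := (f.appLE ⊤ W hle).hom.toAlgebra
  haveI : Module.Flat Γ(Y, ⊤) Γ(X, W) := hflat
  obtain ⟨k, c, y, h1, h2⟩ := Module.Flat.isTrivialRelation_of_sum_smul_eq_zero
    (R := Γ(Y, ⊤)) (M := Γ(X, W)) (ι := Fin 1) (f := fun _ => a)
    (x := fun _ => (1 : Γ(X, W))) (by
      rw [Fin.sum_univ_one]
      show (f.appLE ⊤ W hle).hom a * 1 = 0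
      rw [mul_one]
      exact hρa)
  have h1' : (1 : Γ(X, W)) = ∑ j, (f.appLE ⊤ W hle).hom (c 0 j) * y j :=
    (h1 0).trans (Finset.sum_congr rfl fun j _ => rfl)
  have h2' : ∀ j, a * c 0 j = 0 := fun j => by
    have := h2 j
    rwa [Fin.sum_univ_one] at this
  by_contra hcon
  push_neg at hcon
  have hall : ∀ j, f x ∉ Y.basicOpen (c 0 j) := fun j hj =>
    hcon (c 0 j) hj (by rw [mul_comm]; exact h2' j)
  have hmem : ∀ j, (X.presheaf.germ W x hxW).hom ((f.appLE ⊤ W hle).hom (c 0 j)) ∈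
      IsLocalRing.maximalIdeal (X.presheaf.stalk x) := by
    intro j
    rw [IsLocalRing.mem_maximalIdeal, mem_nonunits_iff, ← Scheme.mem_basicOpen X _ x hxW,
      Scheme.basicOpen_appLE]
    rintro ⟨-, hx2⟩
    exact hall j hx2
  have hone : (1 : X.presheaf.stalk x) ∈ IsLocalRing.maximalIdeal (X.presheaf.stalk x) := by
    have h3 := congrArg (X.presheaf.germ W x hxW).hom h1'
    rw [map_one, map_sum] at h3
    rw [h3]
    refine Ideal.sum_mem _ fun j _ => ?_
    rw [map_mul]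
    exact Ideal.mul_mem_right _ _ (hmem j)
  exact (IsLocalRing.maximalIdeal.isMaximal _).ne_top ((Ideal.eq_top_iff_one _).mpr hone)

end Faithful

end Groth.Agent.Lib.BCFunH2
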