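import Mathlib
import Groth.Prelude
import Groth.Agent.Lib.BCMain4_helper2
import Groth.Agent.S2406
import Groth.Agent.S2376

/-!
# Cohomology and base change: the functor of global sections is corepresentable
-/

set_option autoImplicit false
universe u
open CategoryTheory Limits AlgebraicGeometry TopologicalSpace Opposite TensorProduct

namespace Groth.Agent.Lib.BCMainH2

open Groth.Agent.Lib.BCSecH2 Groth.Agent.Lib.BCCxH2 Groth.Agent.Lib.FormalFnH2
  Groth.Agent.Lib.FlatBCH2

section GS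

variable (A : Type u) [CommRing A] {X : Scheme.{u}} [X.Over (Spec (CommRingCat.of A))]

omit [X.Over (Spec (CommRingCat.of A))] in
lemma resTop_top (r : Coh.Γtop X) : Coh.resTop X (op ⊤) r = r := by
  have h : (homOfLE (le_top : (⊤ : X.Opens) ≤ ⊤)).op = 𝟙 (op (⊤ : X.Opens)) := rfl
  show (X.ringCatSheaf.obj.map (homOfLE (le_top : (⊤ : X.Opens) ≤ ⊤)).op).hom r = r
  rw [h, X.ringCatSheaf.obj.map_id]
  rfl

lemma gs_smul (G : X.Modules) (a : A) (s : (CohIII.globalSectionsA A).obj G) :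
    (show Γ(G, ⊤) from (a • s)) = rUHom (A := A) (X := X) ⊤ a • (show Γ(G, ⊤) from s) := by
  have h2 : rUHom (A := A) (X := X) ⊤ a = Coh.toGlobal (X ↘ Spec (CommRingCat.of A)) a :=
    resTop_top _
  rw [h2]
  rfl

lemma gs_map {G G' : X.Modules} (ψ : G ⟶ G') (s : (CohIII.globalSectionsA A).obj G) :
    (show Γ(G', ⊤) from ((CohIII.globalSectionsA A).map ψ).hom s) =
      (ψ.app ⊤).hom (show Γ(G, ⊤) from s) := rfl

/-- global sections are `H^0`, `A`-linearly -/
noncomputable def gsEquiv (G : X.Modules) :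
    (CohIII.globalSectionsA A).obj G ≃ₗ[A] Coh.HH X G 0 where
  toFun s := (h0Add G).symm (show Γ(G, ⊤) from s)
  invFun x := (show (CohIII.globalSectionsA A).obj G from h0Add G x)
  map_add' s s' := map_add (h0Add G).symm _ _
  map_smul' a s := by
    apply (h0Add G).injective
    show h0Add G ((h0Add G).symm (show Γ(G, ⊤) from (a • s))) =
      h0Add G (a • (h0Add G).symm (show Γ(G, ⊤) from s))
    rw [h0Add_smul, AddEquiv.apply_symm_apply, AddEquiv.apply_symm_apply]
    exact gs_smul A G a s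
  left_inv s := (h0Add G).apply_symm_apply _
  right_inv x := (h0Add G).symm_apply_apply _

lemma gsEquiv_natural {G G' : X.Modules} (ψ : G ⟶ G') (s : (CohIII.globalSectionsA A).obj G) :
    gsEquiv A G' (((CohIII.globalSectionsA A).map ψ).hom s) =
      ((CohIII.HAb X 0).map ψ).hom (gsEquiv A G s) :=
  (h0Add_symm_hmap ψ (show Γ(G, ⊤) from s)).symm

end GS

section

variable (A : Type u) [CommRing A] {X : Scheme.{u}} [X.Over (Spec (CommRingCat.of A))]
  (F : X.Modules) [F.IsQuasicoherent] {ι : Type} {c : ComplexShape ι}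
  {P : HomologicalComplex (ModuleCat.{u} A) c} {q : ι}
  (e : CohIII.tensorAFunctor A F ⋙ CohIII.HAb X 0 ≅
    CohIII.TFun P q ⋙ forget₂ (ModuleCat.{u} A) AddCommGrpCat.{u})

/-- the global sections functor as `M ↦ H_q(P ⊗ M)`, in `A`-modules -/
noncomputable def gsIso :
    CohIII.tensorAFunctor A F ⋙ CohIII.globalSectionsA A ≅ CohIII.TFun P q :=
  NatIso.ofComponents
    (fun M => ((gsEquiv A ((CohIII.tensorAFunctor A F).obj M)).trans
      (linEquivOfIso A F e M)).toModuleIso)
    (fun {M M'} g => by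
      ext s
      show linEquivOfIso A F e M' (gsEquiv A _ (((CohIII.globalSectionsA A).map
          ((CohIII.tensorAFunctor A F).map g)).hom s)) =
        ((CohIII.TFun P q).map g).hom (linEquivOfIso A F e M (gsEquiv A _ s))
      rw [gsEquiv_natural, linEquivOfIso_apply, linEquivOfIso_apply]
      exact congrArg (fun φ => φ.hom (gsEquiv A _ s)) (e.hom.naturality g))

end

section Main

variable (A : Type u) [CommRing A] [IsNoetherianRing A] (X : Scheme.{u})
  [X.Over (Spec (CommRingCat.of A))] [IsProper (X ↘ Spec (CommRingCat.of A))]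
  (F : X.Modules) (hF : Coh.IsCoh F)
  (hfl : FlatMod.IsFlatOver (X ↘ Spec (CommRingCat.of A)) F)

include hF hfl in
theorem main2436 :
    ∃ Q : ModuleCat.{u} A, Module.Finite A Q ∧
      Nonempty (CohIII.tensorAFunctor A F ⋙ CohIII.globalSectionsA A ≅
        (linearCoyoneda A (ModuleCat.{u} A)).obj (op Q)) := by
  haveI : F.IsQuasicoherent := hF.1
  obtain ⟨P, hP, hpos, hiso⟩ := mainChain_neg A X F hF hfl
  obtain ⟨e⟩ := hiso 0
  have e0 : CohIII.tensorAFunctor A F ⋙ CohIII.HAb X 0 ≅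
      CohIII.TFun P 0 ⋙ forget₂ (ModuleCat.{u} A) AddCommGrpCat.{u} :=
    e ≪≫ eqToIso (by norm_num)
  have hepi : (CohIII.TFun P 1).PreservesEpimorphisms :=
    ⟨fun {M N} f _ => ⟨fun {Z} g h _ => (hpos 1 one_pos N).eq_of_src _ _⟩⟩
  have hmono : (CohIII.TFun P 0).PreservesMonomorphisms :=
    (Groth.Agent.S2406.result P (fun i => (hP i).2) 1 0 (by norm_num)).1 hepi
  obtain ⟨Q, ⟨ε⟩⟩ := (Groth.Agent.S2376.result P hP 0).1.1 hmono
  exact ⟨Q, (Groth.Agent.S2376.result P hP 0).2 Q ⟨ε⟩, ⟨gsIso A F e0 ≪≫ ε⟩⟩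

end Main

end Groth.Agent.Lib.BCMainH2
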