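import Mathlib
import Groth.Prelude
import Groth.Agent.Lib.BCFun1_helper2
import Groth.Agent.Lib.BCFun2_helper2
import Groth.Agent.Lib.BCH0_helper2
import Groth.Agent.Lib.CycLen2_helper8
import Groth.Agent.Lib.CohDev8_helper8
import Groth.Agent.Lib.PB9_helper8

/-!
# Functions on the fibre: `f_* O_X = O_Y` near a point with `Γ(X_y, O) = κ(y)` (helper2)
APPEND-ONLY once landed.
-/

set_option autoImplicit false
universe u
open CategoryTheory Limits AlgebraicGeometry TopologicalSpace Opposite TensorProduct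

namespace Groth.Agent.Lib.BCFunH2

open Groth.Agent.Lib.BCAlgH2 Groth.Agent.Lib.BCMainH2 Groth.Agent.Lib.BCBaseH2
  Groth.Agent.Lib.BCFibH2 Groth.Agent.Lib.BCLocH2 Groth.Agent.Lib.FormalFnH2

section Flat

variable {X S : Scheme.{u}} (h : X ⟶ S)

/-- the structure sheaf of the source of a flat morphism is flat over the base -/
theorem isFlatOver_unit [Flat h] : FlatMod.IsFlatOver h (Coh.structureModule X) := by
  intro x
  unfold FlatMod.IsFlatOverAt
  letI := FlatMod.moduleStalkOver h (Coh.structureModule X) x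
  letI : Algebra (S.presheaf.stalk (h.base x)) (X.presheaf.stalk x) :=
    (h.stalkMap x).hom.toAlgebra
  haveI : Module.Flat (S.presheaf.stalk (h.base x)) (X.presheaf.stalk x) := Flat.stalkMap h x
  let e : (X.presheaf.stalk x) ≃ₗ[S.presheaf.stalk (h.base x)]
      ((Coh.structureModule X).presheaf.stalk x) :=
    { (CycLenH8.stalkStructureEquiv x) with
      map_smul' := fun r z => by
        show (CycLenH8.stalkStructureEquiv x) ((h.stalkMap x).hom r * z) =
          (h.stalkMap x).hom r • (CycLenH8.stalkStructureEquiv x) z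
        rw [← smul_eq_mul, map_smul] }
  exact Module.Flat.of_linearEquiv e.symm

end Flat

section GS

variable (A : Type u) [CommRing A] {X : Scheme.{u}} [X.Over (Spec (CommRingCat.of A))]

/-- global sections of the structure module, as an `A`-module, are the global functions -/
noncomputable def gsUnitEquiv :
    letI : Algebra A Γ(X, ⊤) := (Coh.toGlobal (X ↘ Spec (CommRingCat.of A))).toAlgebra
    (CohIII.globalSectionsA A).obj (Coh.structureModule X) ≃ₗ[A] Γ(X, ⊤) :=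
  letI : Algebra A Γ(X, ⊤) := (Coh.toGlobal (X ↘ Spec (CommRingCat.of A))).toAlgebra
  { toFun := fun s => SerreCrit.toFn (show Γ(Coh.structureModule X, ⊤) from s)
    invFun := fun b => (show (CohIII.globalSectionsA A).obj (Coh.structureModule X) from
      (SerreCrit.ofFn b : Γ(Coh.structureModule X, ⊤)))
    map_add' := fun _ _ => rfl
    map_smul' := fun a s => by
      have h := gs_smul A (Coh.structureModule X) a s
      have h2 : rUHom (A := A) (X := X) ⊤ a = Coh.toGlobal (X ↘ Spec (CommRingCat.of A)) a :=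
        resTop_top _
      rw [h2] at h
      exact congrArg SerreCrit.toFn h
    left_inv := fun _ => rfl
    right_inv := fun _ => rfl }

end GS

section Main

lemma mem_basicOpen_iff_toSpecΓ {Z : Scheme.{u}} (s : Γ(Z, ⊤)) (z : Z) :
    z ∈ Z.basicOpen s ↔ s ∉ (Z.toSpecΓ z).asIdeal := by
  rw [← Scheme.toSpecΓ_preimage_basicOpen]
  rfl

/-- **the local statement**: over an affine open `V ∋ y`, the localization data -/
theorem local2393 {X Y : Scheme.{u}} (f : X ⟶ Y) [IsProper f] [Flat f] [IsLocallyNoetherian Y]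
    (y : Y) (hy : Function.Bijective (algebraMap (Y.residueField y) Γ(f.fiber y, ⊤)))
    (V : Y.Opens) (hV : IsAffineOpen V) (hyV : y ∈ V) :
    ∃ g : Γ((V : Scheme.{u}), ⊤), (⟨y, hyV⟩ : (V : Scheme.{u})) ∈ (V : Scheme.{u}).basicOpen g ∧
      (∀ a : Γ((V : Scheme.{u}), ⊤), (f ∣_ V).appTop.hom a = 0 → ∃ n : ℕ, g ^ n * a = 0) ∧
      (∀ b : Γ(((f ⁻¹ᵁ V : X.Opens) : Scheme.{u}), ⊤), ∃ (n : ℕ) (a : Γ((V : Scheme.{u}), ⊤)),
        (f ∣_ V).appTop.hom g ^ n * b = (f ∣_ V).appTop.hom a) := by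
  haveI : IsAffine (V : Scheme.{u}) := hV
  haveI : IsNoetherianRing Γ((V : Scheme.{u}), ⊤) :=
    IsLocallyNoetherian.component_noetherian ⟨⊤, isAffineOpen_top _⟩
  letI := overV f V
  haveI : IsProper (((f ⁻¹ᵁ V : X.Opens) : Scheme.{u}) ↘
      Spec (CommRingCat.of Γ((V : Scheme.{u}), ⊤))) :=
    inferInstanceAs (IsProper ((f ∣_ V) ≫ (V : Scheme.{u}).toSpecΓ))
  haveI : Flat (((f ⁻¹ᵁ V : X.Opens) : Scheme.{u}) ↘
      Spec (CommRingCat.of Γ((V : Scheme.{u}), ⊤))) :=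
    inferInstanceAs (Flat ((f ∣_ V) ≫ (V : Scheme.{u}).toSpecΓ))
  have hcoh := CohDevH8.isCoh_structureModule ((f ⁻¹ᵁ V : X.Opens) : Scheme.{u})
  haveI : (Coh.structureModule ((f ⁻¹ᵁ V : X.Opens) : Scheme.{u})).IsQuasicoherent := hcoh.1
  have hfl := isFlatOver_unit (((f ⁻¹ᵁ V : X.Opens) : Scheme.{u}) ↘
      Spec (CommRingCat.of Γ((V : Scheme.{u}), ⊤)))
  obtain ⟨L, hL, ⟨b, hb⟩, hneg, hiso, hsec, hbc⟩ := mainBC2 Γ((V : Scheme.{u}), ⊤)
    ((f ⁻¹ᵁ V : X.Opens) : Scheme.{u}) (Coh.structureModule _) hcoh hfl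
  -- the chain complex
  have hP : ∀ i, Module.Finite Γ((V : Scheme.{u}), ⊤) ((toChain L).X i) ∧
      Module.Flat Γ((V : Scheme.{u}), ⊤) ((toChain L).X i) := fun i => by
    haveI : Module.Free Γ((V : Scheme.{u}), ⊤) (L.X (-i)) := (hL (-i)).2
    have hfl' : Module.Flat Γ((V : Scheme.{u}), ⊤) (L.X (-i)) := Module.Flat.of_free
    exact ⟨(hL (-i)).1, hfl'⟩
  have hepi : (CohIII.TFun (toChain L) 1).PreservesEpimorphisms :=
    ⟨fun {M N} g _ => ⟨fun {Z} u v _ =>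
      (IsZero.of_iso (hneg (-1) (by norm_num) N) ((TFunRestr L 1).app N)).eq_of_src _ _⟩⟩
  have hmono : (CohIII.TFun (toChain L) 0).PreservesMonomorphisms :=
    (Groth.Agent.S2406.result (toChain L) (fun i => (hP i).2) 1 0 (by norm_num)).1 hepi
  -- the rank at `y`
  have hrank : CohIII.dRank (toChain L) 0 ((V : Scheme.{u}).toSpecΓ ⟨y, hyV⟩) = 1 := by
    letI := algY V y hyV
    letI := overFib f y
    obtain ⟨e⟩ := hbc (Y.residueField y) (f.fiber y) (gy f V y hyV) (isPullback_fib f V y hyV) 0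
    have e3 := Groth.Agent.Lib.StalkFFH2.HHlinEquiv (Y.residueField y)
      (PBH8.pullbackUnitIso (gy f V y hyV)) 0
    have e4 := gsEquiv (Y.residueField y) (Coh.structureModule (f.fiber y))
    have e5 := gsUnitEquiv (Y.residueField y) (X := f.fiber y)
    have e2 := (homologyRestrIso (CohIII.bcCx (ψy V y hyV) L) 0 ((0 : ℕ) : ℤ)
      (by norm_num)).toLinearEquiv
    letI : Algebra (Y.residueField y) Γ(f.fiber y, ⊤) :=
      (Coh.toGlobal ((f.fiber y) ↘ Spec (CommRingCat.of (Y.residueField y)))).toAlgebra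
    have e6 : (Y.residueField y) ≃ₗ[Y.residueField y] Γ(f.fiber y, ⊤) :=
      LinearEquiv.ofBijective (Algebra.linearMap (Y.residueField y) Γ(f.fiber y, ⊤)) hy
    have h0 : Module.finrank (Y.residueField y)
        ((CohIII.bcCx (ψy V y hyV) (toChain L)).homology 0) =
        Module.finrank (Y.residueField y) Γ(f.fiber y, ⊤) :=
      ((((e2.trans e).trans e3).trans e4.symm).trans e5).finrank_eq
    have h1 : Module.finrank (Y.residueField y)
        ((CohIII.bcCx (ψy V y hyV) (toChain L)).homology 0) = 1 := by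
      rw [h0, ← e6.finrank_eq, Module.finrank_self]
    rw [toSpecΓ_apply V y hyV]
    exact (dRank_ker (ψy V y hyV) (toChain L) 0).trans h1
  -- the identification of `H_0` with the functions
  obtain ⟨es⟩ := hsec 0
  have eh := (homologyRestrIso L 0 ((0 : ℕ) : ℤ) (by norm_num)).toLinearEquiv
  have eg := gsEquiv Γ((V : Scheme.{u}), ⊤)
    (Coh.structureModule ((f ⁻¹ᵁ V : X.Opens) : Scheme.{u}))
  letI : Algebra Γ((V : Scheme.{u}), ⊤) Γ(((f ⁻¹ᵁ V : X.Opens) : Scheme.{u}), ⊤) :=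
    (Coh.toGlobal (((f ⁻¹ᵁ V : X.Opens) : Scheme.{u}) ↘
      Spec (CommRingCat.of Γ((V : Scheme.{u}), ⊤)))).toAlgebra
  have eu := gsUnitEquiv Γ((V : Scheme.{u}), ⊤) (X := ((f ⁻¹ᵁ V : X.Opens) : Scheme.{u}))
  let eB : (toChain L).homology 0 ≃ₗ[Γ((V : Scheme.{u}), ⊤)]
      Γ(((f ⁻¹ᵁ V : X.Opens) : Scheme.{u}), ⊤) := ((eh.trans es).trans eg.symm).trans eu
  have hg : ∀ a : Γ((V : Scheme.{u}), ⊤),
      algebraMap Γ((V : Scheme.{u}), ⊤) Γ(((f ⁻¹ᵁ V : X.Opens) : Scheme.{u}), ⊤) a =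
        (f ∣_ V).appTop.hom a := by
    intro a
    change (f ∣_ V).appTop.hom ((V : Scheme.{u}).toSpecΓ.appTop.hom
      ((Scheme.ΓSpecIso (CommRingCat.of Γ((V : Scheme.{u}), ⊤))).inv.hom a)) =
        (f ∣_ V).appTop.hom a
    congr 1
    rw [Scheme.toSpecΓ_appTop]
    exact Iso.inv_hom_id_apply (C := CommRingCat) _ _
  -- a point over `y`
  obtain ⟨x₀, hx₀⟩ : ∃ x₀ : ((f ⁻¹ᵁ V : X.Opens) : Scheme.{u}), (f ∣_ V) x₀ = ⟨y, hyV⟩ := by
    haveI : Nontrivial Γ(f.fiber y, ⊤) := hy.1.nontrivial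
    have hne : Nonempty (f.fiber y) := by
      by_contra hcon
      rw [not_nonempty_iff] at hcon
      exact not_subsingleton Γ(f.fiber y, ⊤) inferInstance
    obtain ⟨z⟩ := hne
    have hz : f (f.fiberι y z) = y := by
      have := (Scheme.Hom.range_fiberι f y).le ⟨z, rfl⟩
      exact this
    have hzV : f.fiberι y z ∈ f ⁻¹ᵁ V := by
      show f (f.fiberι y z) ∈ V
      rw [hz]
      exact hyV
    refine ⟨⟨f.fiberι y z, hzV⟩, ?_⟩
    apply Subtype.ext
    exact (morphismRestrict_base_coe f V ⟨f.fiberι y z, hzV⟩).trans hz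
  have hfaith : ∀ a : Γ((V : Scheme.{u}), ⊤), a • eB.symm 1 = 0 →
      ∃ s : Γ((V : Scheme.{u}), ⊤),
        s ∉ ((V : Scheme.{u}).toSpecΓ ⟨y, hyV⟩).asIdeal ∧ s * a = 0 := by
    intro a ha
    have h1 : algebraMap Γ((V : Scheme.{u}), ⊤)
        Γ(((f ⁻¹ᵁ V : X.Opens) : Scheme.{u}), ⊤) a = 0 := by
      have h2 := congrArg eB ha
      rw [map_smul, LinearEquiv.apply_symm_apply, map_zero, Algebra.smul_def, mul_one] at h2
      exact h2
    obtain ⟨s, hs, hsa⟩ := faithful_of_flat (f ∣_ V) x₀ a ((hg a).symm.trans h1)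
    refine ⟨s, ?_, hsa⟩
    rw [hx₀] at hs
    exact (mem_basicOpen_iff_toSpecΓ s _).mp hs
  obtain ⟨e1⟩ := coreAt (toChain L) hP hmono _ hrank (eB.symm 1) hfaith
  haveI : Module.Finite Γ((V : Scheme.{u}), ⊤) ((toChain L).X 0) := (hP 0).1
  haveI : Module.Finite Γ((V : Scheme.{u}), ⊤) ((toChain L).homology 0) :=
    Groth.Agent.Lib.TFunEWH7.finite_homology _ 0
  haveI : Module.Finite Γ((V : Scheme.{u}), ⊤) Γ(((f ⁻¹ᵁ V : X.Opens) : Scheme.{u}), ⊤) :=
    Module.Finite.equiv eB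
  obtain ⟨g, hg1, hg2, hg3⟩ := lemmaR ((V : Scheme.{u}).toSpecΓ ⟨y, hyV⟩)
    ⟨e1 ≪≫ₗ LinearEquiv.baseChange Γ((V : Scheme.{u}), ⊤)
      (Localization.AtPrime ((V : Scheme.{u}).toSpecΓ ⟨y, hyV⟩).asIdeal) _ _ eB⟩
  refine ⟨g, (mem_basicOpen_iff_toSpecΓ g _).mpr hg1, fun a ha => hg2 a ((hg a).trans ha),
    fun b => ?_⟩
  obtain ⟨n, a, hna⟩ := hg3 b
  exact ⟨n, a, by rw [← hg, ← hg]; exact hna⟩

theorem main2393_aux {X Y : Scheme.{u}} (f : X ⟶ Y) [IsProper f] [Flat f] [IsLocallyNoetherian Y]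
    (y : Y) (hy : Function.Bijective (algebraMap (Y.residueField y) Γ(f.fiber y, ⊤)))
    (V : Y.Opens) (hV : IsAffineOpen V) (hyV : y ∈ V) :
    ∃ U : Y.Opens, y ∈ U ∧ ∀ W : Y.Opens, W ≤ U → IsIso (f.app W) := by
  obtain ⟨g, hyg, hi, hii⟩ := local2393 f y hy V hV hyV
  refine ⟨V.ι ''ᵁ ((V : Scheme.{u}).basicOpen g), ⟨⟨y, hyV⟩, hyg, rfl⟩, fun W hW => ?_⟩
  exact assemble f V hV g hi hii W hW

/-- **S2393** -/
theorem main2393 {X Y : Scheme.{u}} (f : X ⟶ Y) [IsProper f] [Flat f] [IsLocallyNoetherian Y]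
    (y : Y) (hy : Function.Bijective (algebraMap (Y.residueField y) Γ(f.fiber y, ⊤))) :
    ∃ U : Y.Opens, y ∈ U ∧ ∀ V : Y.Opens, V ≤ U → IsIso (f.app V) := by
  obtain ⟨_, ⟨V, hV : IsAffineOpen V, rfl⟩, hyV, -⟩ :=
    (Y.isBasis_affineOpens).exists_subset_of_mem_open (Set.mem_univ y) isOpen_univ
  exact main2393_aux f y hy V hV hyV

end Main

end Groth.Agent.Lib.BCFunH2
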