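import Mathlib
import Groth.Agent.Lib.AffBC2_helper8
import Groth.Agent.Lib.PB9_helper8
import Groth.Agent.Lib.BCComp_helper7

/-! Canonical-section calculus for pullbacks of modules (helper5).
APPEND-ONLY once landed. -/

set_option autoImplicit false
universe u
open CategoryTheory AlgebraicGeometry Opposite TopologicalSpace
open AlgebraicGeometry.Scheme.Modules

namespace Groth.Agent.Lib.FEtLef

section Basic

variable {X Y : Scheme.{u}} (f : X ⟶ Y)

lemma cUV_le_rfl (F : Y.Modules) (V : Y.Opens) (x : Γ(F, V)) :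
    PBH8.cUV f F (le_refl (f ⁻¹ᵁ V)) x =
      ((pullbackPushforwardAdjunction f).unit.app F).app V x := by
  unfold PBH8.cUV
  have : (homOfLE (le_refl (f ⁻¹ᵁ V))).op = 𝟙 (op (f ⁻¹ᵁ V)) := rfl
  rw [this, CategoryTheory.Functor.map_id]
  rfl

/-- Morphisms out of a pullback are determined by their values on canonical sections. -/
theorem hom_ext_cUV {F : Y.Modules} {M : X.Modules}
    (α β : (Scheme.Modules.pullback f).obj F ⟶ M)
    (h : ∀ (V : Y.Opens) (x : Γ(F, V)),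
      α.app (f ⁻¹ᵁ V) (PBH8.cUV f F (le_refl (f ⁻¹ᵁ V)) x) =
        β.app (f ⁻¹ᵁ V) (PBH8.cUV f F (le_refl (f ⁻¹ᵁ V)) x)) : α = β := by
  apply ((pullbackPushforwardAdjunction f).homEquiv F M).injective
  rw [Adjunction.homEquiv_unit, Adjunction.homEquiv_unit]
  apply Scheme.Modules.hom_ext
  intro V
  ext x
  have := h V x
  rw [cUV_le_rfl] at this
  exact this

end Basic


section
variable {X Y Z : Scheme.{u}} (f : X ⟶ Y) (g : Y ⟶ Z)

lemma pullbackUnitIso_unit (V : Y.Opens) (a : Γ(Y, V)) :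
    (PBH8.pullbackUnitIso f).hom.app (f ⁻¹ᵁ V)
      (((pullbackPushforwardAdjunction f).unit.app (SheafOfModules.unit Y.ringCatSheaf)).app V a) =
      (f.app V).hom a := by
  have h1 : (pullbackPushforwardAdjunction f).homEquiv _ _ (PBH8.pullbackUnitIso f).hom =
      SheafOfModules.unitToPushforwardObjUnit f.toRingCatSheafHom :=
    SheafOfModules.pullbackPushforwardAdjunction_homEquiv_pullbackObjUnitToUnit _
  rw [Adjunction.homEquiv_unit] at h1
  have h2 := congrArg (fun ψ => (Scheme.Modules.Hom.app ψ V) a) h1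
  exact h2

/-- The unit isomorphism `f^* O_Y ≅ O_X` on canonical sections. -/
lemma pullbackUnitIso_cUV {U : X.Opens} {V : Y.Opens} (h : U ≤ f ⁻¹ᵁ V) (a : Γ(Y, V)) :
    (PBH8.pullbackUnitIso f).hom.app U
      (PBH8.cUV f (SheafOfModules.unit Y.ringCatSheaf) h a) = (f.appLE V U h).hom a := by
  unfold PBH8.cUV
  rw [QCohCrit.app_naturality (PBH8.pullbackUnitIso f).hom (homOfLE h), pullbackUnitIso_unit]
  rfl

/-- `pullbackComp` on canonical sections. -/
lemma pullbackComp_cUV (F : Z.Modules) (V : Z.Opens) (x : Γ(F, V)) :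
    ((pullbackComp f g).hom.app F).app (f ⁻¹ᵁ (g ⁻¹ᵁ V))
      (PBH8.cUV f ((Scheme.Modules.pullback g).obj F) (le_refl (f ⁻¹ᵁ (g ⁻¹ᵁ V)))
        (PBH8.cUV g F (le_refl (g ⁻¹ᵁ V)) x)) =
      PBH8.cUV (f ≫ g) F (le_refl ((f ≫ g) ⁻¹ᵁ V)) x := by
  rw [cUV_le_rfl, cUV_le_rfl, cUV_le_rfl]
  have h1 := Groth.Agent.Lib.BCComp_helper7.Hp_concrete f g F
  have h2 := congrArg (fun ψ => (Scheme.Modules.Hom.app ψ V) x) h1
  have h3 : ((pullbackPushforwardAdjunction f).unit.app ((Scheme.Modules.pullback g).obj F)).app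
      (g ⁻¹ᵁ V) (((pullbackPushforwardAdjunction g).unit.app F).app V x) =
      ((pullbackComp f g).inv.app F).app ((f ≫ g) ⁻¹ᵁ V)
        (((pullbackPushforwardAdjunction (f ≫ g)).unit.app F).app V x) := h2
  rw [h3]
  have h4 : (pullbackComp f g).inv.app F ≫ (pullbackComp f g).hom.app F = 𝟙 _ :=
    Iso.inv_hom_id_app _ _
  have h5 := congrArg (fun ψ => (Scheme.Modules.Hom.app ψ ((f ≫ g) ⁻¹ᵁ V))
    (((pullbackPushforwardAdjunction (f ≫ g)).unit.app F).app V x)) h4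
  exact h5

end

section
variable {X Z Z' : Scheme.{u}} (a : Z' ⟶ Z) (b : Z ⟶ X) (c : Z' ⟶ X) (h : a ≫ b = c)

/-- `pullbackComp ≪≫ pullbackCongr` on canonical sections (with slack). -/
lemma pbIso_cUV (F : X.Modules) {V : X.Opens} {U : Z'.Opens}
    (hU : U ≤ a ⁻¹ᵁ (b ⁻¹ᵁ V)) (hU' : U ≤ c ⁻¹ᵁ V) (x : Γ(F, V)) :
    ((pullbackComp a b ≪≫ pullbackCongr h).hom.app F).app U
      (PBH8.cUV a ((Scheme.Modules.pullback b).obj F) hU
        (PBH8.cUV b F (le_refl (b ⁻¹ᵁ V)) x)) = PBH8.cUV c F hU' x := by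
  subst h
  have e1 : (pullbackComp a b ≪≫ pullbackCongr (rfl : a ≫ b = a ≫ b)).hom.app F =
      (pullbackComp a b).hom.app F := by
    simp [pullbackCongr]
  rw [e1]
  have e2 := PBH8.cUV_res a ((Scheme.Modules.pullback b).obj F)
    (le_refl (a ⁻¹ᵁ (b ⁻¹ᵁ V))) hU (PBH8.cUV b F (le_refl (b ⁻¹ᵁ V)) x)
  have e3 := QCohCrit.app_naturality ((pullbackComp a b).hom.app F) (homOfLE hU)
    (PBH8.cUV a ((Scheme.Modules.pullback b).obj F) (le_refl (a ⁻¹ᵁ (b ⁻¹ᵁ V)))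
      (PBH8.cUV b F (le_refl (b ⁻¹ᵁ V)) x))
  rw [← e2]
  refine e3.trans ?_
  rw [pullbackComp_cUV]
  exact PBH8.cUV_res (a ≫ b) F (le_refl _) hU x

/-- Morphisms out of a double pullback are determined by their values on canonical sections. -/
theorem hom_ext_cUV2 {F : X.Modules} {M : Z'.Modules}
    (α β : (Scheme.Modules.pullback a).obj ((Scheme.Modules.pullback b).obj F) ⟶ M)
    (H : ∀ (V : X.Opens) (x : Γ(F, V)),
      α.app (a ⁻¹ᵁ (b ⁻¹ᵁ V)) (PBH8.cUV a ((Scheme.Modules.pullback b).obj F)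
        (le_refl (a ⁻¹ᵁ (b ⁻¹ᵁ V))) (PBH8.cUV b F (le_refl (b ⁻¹ᵁ V)) x)) =
      β.app (a ⁻¹ᵁ (b ⁻¹ᵁ V)) (PBH8.cUV a ((Scheme.Modules.pullback b).obj F)
        (le_refl (a ⁻¹ᵁ (b ⁻¹ᵁ V))) (PBH8.cUV b F (le_refl (b ⁻¹ᵁ V)) x))) : α = β := by
  apply ((pullbackPushforwardAdjunction a).homEquiv _ M).injective
  refine hom_ext_cUV b _ _ fun V x => ?_
  rw [Adjunction.homEquiv_unit, Adjunction.homEquiv_unit]
  have := H V x
  rw [cUV_le_rfl a] at this
  exact this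

end

end Groth.Agent.Lib.FEtLef
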