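import Mathlib
import Groth.Prelude.Def_DRing2

/-!
# Derived category toolkit (helper6), part 1

* lifting morphisms of `D(C)` out of K-projective / into K-injective complexes to chain maps;
* a distinguished triangle whose first two vertices are represented by complexes `E`, `F` with
  liftable morphisms has third vertex represented by a mapping cone;
* `rep 𝒦`: objects of `D(C)` represented by a complex in a class `𝒦`; it is a triangulated
  subcategory as soon as `𝒦` is stable under zero, shifts, cones and has liftable morphisms.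
-/

set_option autoImplicit false
universe w v u
open CategoryTheory CategoryTheory.Limits Pretriangulated DerivedCategory

namespace Groth.Agent.Lib.DMod_helper6

section Generic

variable {C : Type u} [Category.{v} C] [Abelian C] [HasDerivedCategory.{w} C]

lemma exists_Q_map_eq_of_isKProjective {E F : CochainComplex C ℤ} [E.IsKProjective]
    (φ : Q.obj E ⟶ Q.obj F) : ∃ f : E ⟶ F, Q.map f = φ := by
  obtain ⟨g, hg⟩ := (CochainComplex.IsKProjective.Qh_map_bijective E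
    ((HomotopyCategory.quotient _ _).obj F)).surjective
    ((quotientCompQhIso C).hom.app E ≫ φ ≫ (quotientCompQhIso C).inv.app F)
  obtain ⟨f, rfl⟩ := (HomotopyCategory.quotient _ _).map_surjective g
  refine ⟨f, ?_⟩
  have h1 := (quotientCompQhIso C).hom.naturality f
  simp only [Functor.comp_map] at h1
  rw [hg] at h1
  simp only [Category.assoc, Iso.inv_hom_id_app, Category.comp_id] at h1
  exact ((cancel_epi _).1 h1).symm

lemma exists_Q_map_eq_of_isKInjective {E F : CochainComplex C ℤ} [F.IsKInjective]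
    (φ : Q.obj E ⟶ Q.obj F) : ∃ f : E ⟶ F, Q.map f = φ := by
  obtain ⟨g, hg⟩ := (CochainComplex.IsKInjective.Qh_map_bijective
    ((HomotopyCategory.quotient _ _).obj E) F).surjective
    ((quotientCompQhIso C).hom.app E ≫ φ ≫ (quotientCompQhIso C).inv.app F)
  obtain ⟨f, rfl⟩ := (HomotopyCategory.quotient _ _).map_surjective g
  refine ⟨f, ?_⟩
  have h1 := (quotientCompQhIso C).hom.naturality f
  simp only [Functor.comp_map] at h1
  rw [hg] at h1
  simp only [Category.assoc, Iso.inv_hom_id_app, Category.comp_id] at h1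
  exact ((cancel_epi _).1 h1).symm

lemma exists_cone_iso {T : Triangle (DerivedCategory C)} (hT : T ∈ distTriang _)
    {E F : CochainComplex C ℤ} (e₁ : Q.obj E ≅ T.obj₁) (e₂ : Q.obj F ≅ T.obj₂)
    (h : ∃ f : E ⟶ F, Q.map f = e₁.hom ≫ T.mor₁ ≫ e₂.inv) :
    ∃ f : E ⟶ F, Nonempty (Q.obj (CochainComplex.mappingCone f) ≅ T.obj₃) := by
  obtain ⟨f, hf⟩ := h
  refine ⟨f, ⟨?_⟩⟩
  have e := isoTriangleOfIso₁₂ _ _ (mappingCone_triangle_distinguished f) hT e₁ e₂ (by
    show Q.map f ≫ e₂.hom = e₁.hom ≫ T.mor₁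
    rw [hf, Category.assoc, Category.assoc, Iso.inv_hom_id, Category.comp_id])
  exact Triangle.π₃.mapIso e

/-- The terms of the mapping cone. -/
noncomputable def coneXIso {E F : CochainComplex C ℤ} (f : E ⟶ F) (i : ℤ) :
    (CochainComplex.mappingCone f).X i ≅ E.X (i + 1) ⊞ F.X i :=
  HomologicalComplex.homotopyCofiber.XIsoBiprod f i (i + 1) rfl

lemma isZero_biprod {X Y : C} (hX : IsZero X) (hY : IsZero Y) : IsZero (X ⊞ Y) := by
  rw [IsZero.iff_id_eq_zero]
  apply biprod.hom_ext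
  · exact hX.eq_of_tgt _ _
  · exact hY.eq_of_tgt _ _

/-- Objects of `D(C)` represented by a complex in the class `𝒦`. -/
def rep (𝒦 : CochainComplex C ℤ → Prop) : ObjectProperty (DerivedCategory C) :=
  fun K => ∃ E : CochainComplex C ℤ, 𝒦 E ∧ Nonempty (Q.obj E ≅ K)

instance (𝒦 : CochainComplex C ℤ → Prop) : (rep 𝒦).IsClosedUnderIsomorphisms where
  of_iso := by
    rintro X Y e ⟨E, hE, ⟨e'⟩⟩
    exact ⟨E, hE, ⟨e' ≪≫ e⟩⟩

theorem rep_isTriangulated (𝒦 : CochainComplex C ℤ → Prop)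
    (hz : ∃ Z : CochainComplex C ℤ, IsZero Z ∧ 𝒦 Z)
    (hs : ∀ (E : CochainComplex C ℤ) (n : ℤ), 𝒦 E → 𝒦 (E⟦n⟧))
    (hc : ∀ (E F : CochainComplex C ℤ) (f : E ⟶ F), 𝒦 E → 𝒦 F → 𝒦 (CochainComplex.mappingCone f))
    (hl : ∀ (E F : CochainComplex C ℤ), 𝒦 E → 𝒦 F → ∀ φ : Q.obj E ⟶ Q.obj F,
      ∃ f : E ⟶ F, Q.map f = φ) :
    (rep 𝒦).IsTriangulated := by
  haveI : (rep 𝒦).ContainsZero := by
    obtain ⟨Z, hZ, hZ'⟩ := hz
    exact ⟨⟨Q.obj Z, Q.map_isZero hZ, Z, hZ', ⟨Iso.refl _⟩⟩⟩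
  haveI : (rep 𝒦).IsStableUnderShift ℤ := by
    refine ⟨fun n => ⟨?_⟩⟩
    rintro K ⟨E, hE, ⟨e⟩⟩
    exact ⟨E⟦n⟧, hs E n hE, ⟨(Q.commShiftIso n).app E ≪≫ (shiftFunctor _ n).mapIso e⟩⟩
  haveI : (rep 𝒦).IsTriangulatedClosed₃ := by
    refine ObjectProperty.IsTriangulatedClosed₃.mk' ?_
    rintro T hT ⟨E, hE, ⟨e₁⟩⟩ ⟨F, hF, ⟨e₂⟩⟩
    obtain ⟨f, ⟨e⟩⟩ := exists_cone_iso hT e₁ e₂ (hl E F hE hF _)
    exact ⟨_, hc E F f hE hF, ⟨e⟩⟩
  haveI : (rep 𝒦).IsTriangulatedClosed₂ :=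
    ObjectProperty.IsTriangulatedClosed₂.of_isTriangulatedClosed₃
  exact {}

end Generic

end Groth.Agent.Lib.DMod_helper6
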