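import Mathlib
import Groth.Prelude.Def_DRing2
import Groth.Agent.Lib.DMod1_helper6

/-!
# Derived category toolkit (helper6), part 2: perfect, pseudo-coherent and finite injective
dimension objects of `D(A)` form triangulated subcategories.
-/

set_option autoImplicit false
universe u
open CategoryTheory CategoryTheory.Limits Pretriangulated DerivedCategory ZeroObject
attribute [local instance] HasDerivedCategory.standard

namespace Groth.Agent.Lib.DMod_helper6

open DRing

variable {A : Type u} [CommRing A]

lemma finite_of_iso {M N : ModuleCat.{u} A} (e : M ≅ N) (h : Module.Finite A M) :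
    Module.Finite A N := Module.Finite.equiv e.toLinearEquiv

lemma free_of_iso {M N : ModuleCat.{u} A} (e : M ≅ N) (h : Module.Free A M) :
    Module.Free A N := Module.Free.of_equiv e.toLinearEquiv

lemma projective_of_iso {M N : ModuleCat.{u} A} (e : M ≅ N) (h : Module.Projective A M) :
    Module.Projective A N := Module.Projective.of_equiv e.toLinearEquiv

lemma flat_of_iso {M N : ModuleCat.{u} A} (e : M ≅ N) (h : Module.Flat A M) :
    Module.Flat A N := Module.Flat.of_linearEquiv e.toLinearEquiv.symm

lemma injective_of_iso {M N : ModuleCat.{u} A} (e : M ≅ N) (h : Module.Injective A M) :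
    Module.Injective A N := by
  haveI : Injective (ModuleCat.of A M) := Module.injective_object_of_injective_module A M
  haveI : Injective (ModuleCat.of A N) := Injective.of_iso e ‹_›
  exact Module.injective_module_of_injective_object A N

lemma finite_biprod {M N : ModuleCat.{u} A} (hM : Module.Finite A M) (hN : Module.Finite A N) :
    Module.Finite A (M ⊞ N : ModuleCat.{u} A) :=
  finite_of_iso (ModuleCat.biprodIsoProd M N).symm
    (inferInstanceAs (Module.Finite A (M × N)))

lemma free_biprod {M N : ModuleCat.{u} A} (hM : Module.Free A M) (hN : Module.Free A N) :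
    Module.Free A (M ⊞ N : ModuleCat.{u} A) :=
  free_of_iso (ModuleCat.biprodIsoProd M N).symm
    (inferInstanceAs (Module.Free A (M × N)))

lemma projective_biprod {M N : ModuleCat.{u} A} (hM : Module.Projective A M)
    (hN : Module.Projective A N) : Module.Projective A (M ⊞ N : ModuleCat.{u} A) :=
  projective_of_iso (ModuleCat.biprodIsoProd M N).symm
    (inferInstanceAs (Module.Projective A (M × N)))

lemma injective_biprod {M N : ModuleCat.{u} A} (hM : Module.Injective A M)
    (hN : Module.Injective A N) : Module.Injective A (M ⊞ N : ModuleCat.{u} A) := by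
  haveI : Injective (ModuleCat.of A M) := Module.injective_object_of_injective_module A M
  haveI : Injective (ModuleCat.of A N) := Module.injective_object_of_injective_module A N
  haveI : Injective (M ⊞ N) := inferInstanceAs (Injective (ModuleCat.of A M ⊞ ModuleCat.of A N))
  exact Module.injective_module_of_injective_object A (M ⊞ N : ModuleCat.{u} A)

lemma isZero_X_of_isZero {Z : Cx A} (hZ : IsZero Z) (i : ℤ) : IsZero (Z.X i) :=
  (HomologicalComplex.eval _ _ i).map_isZero hZ

lemma injective_of_isZero {M : ModuleCat.{u} A} (h : IsZero M) : Module.Injective A M := by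
  haveI : Injective M := ⟨fun {X Y} g f _ => ⟨0, h.eq_of_tgt _ _⟩⟩
  exact Module.injective_module_of_injective_object A M

/-! ### The three classes of complexes -/

/-- Bounded complexes of finite projective modules. -/
def perfCls (E : Cx A) : Prop := ∃ a b : ℤ, VanishesOutside E a b ∧ TermwiseFiniteProjective E

/-- Bounded above complexes of finite free modules. -/
def pcCls (E : Cx A) : Prop := ∃ b : ℤ, VanishesAbove E b ∧ TermwiseFiniteFree E

/-- Bounded complexes of injective modules. -/
def injCls (E : Cx A) : Prop := ∃ a b : ℤ, VanishesOutside E a b ∧ TermwiseInjective E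

lemma isPerfect_iff (K : Dual.D A) : IsPerfect A K ↔ rep perfCls K := by
  constructor
  · rintro ⟨E, a, b, h1, h2, h3⟩; exact ⟨E, ⟨a, b, h1, h2⟩, h3⟩
  · rintro ⟨E, ⟨a, b, h1, h2⟩, h3⟩; exact ⟨E, a, b, h1, h2, h3⟩

lemma isPseudoCoherent'_iff (K : Dual.D A) : IsPseudoCoherent' A K ↔ rep pcCls K := by
  constructor
  · rintro ⟨E, b, h1, h2, h3⟩; exact ⟨E, ⟨b, h1, h2⟩, h3⟩
  · rintro ⟨E, ⟨b, h1, h2⟩, h3⟩; exact ⟨E, b, h1, h2, h3⟩

lemma hasFiniteInjDim_iff (K : Dual.D A) : HasFiniteInjDim A K ↔ rep injCls K := by
  constructor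
  · rintro ⟨a, b, E, h1, h2, h3⟩; exact ⟨E, ⟨a, b, h1, h2⟩, h3⟩
  · rintro ⟨E, ⟨a, b, h1, h2⟩, h3⟩; exact ⟨a, b, E, h1, h2, h3⟩

lemma isKProjective_of_perfCls {E : Cx A} (h : perfCls E) : E.IsKProjective := by
  obtain ⟨a, b, h1, h2⟩ := h
  haveI : E.IsStrictlyLE b :=
    (CochainComplex.isStrictlyLE_iff E b).2 (fun i hi => h1 i (Or.inr hi))
  haveI : ∀ n, Projective (E.X n) := fun n =>
    (IsProjective.iff_projective (E.X n)).1 (h2 n).2
  exact CochainComplex.isKProjective_of_projective E b

lemma isKProjective_of_pcCls {E : Cx A} (h : pcCls E) : E.IsKProjective := by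
  obtain ⟨b, h1, h2⟩ := h
  haveI : E.IsStrictlyLE b :=
    (CochainComplex.isStrictlyLE_iff E b).2 (fun i hi => h1 i hi)
  haveI : ∀ n, Projective (E.X n) := fun n => by
    haveI := (h2 n).2
    exact (IsProjective.iff_projective (E.X n)).1 inferInstance
  exact CochainComplex.isKProjective_of_projective E b

lemma isKInjective_of_injCls {E : Cx A} (h : injCls E) : E.IsKInjective := by
  obtain ⟨a, b, h1, h2⟩ := h
  haveI : E.IsStrictlyGE a :=
    (CochainComplex.isStrictlyGE_iff E a).2 (fun i hi => h1 i (Or.inl hi))
  haveI : ∀ n, Injective (E.X n) := fun n =>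
    haveI := h2 n
    Module.injective_object_of_injective_module A (E.X n)
  exact CochainComplex.isKInjective_of_injective E a

/-! ### zero -/

lemma perfCls_zero : ∃ Z : Cx A, IsZero Z ∧ perfCls Z := by
  refine ⟨0, isZero_zero _, 0, 0, fun i _ => isZero_X_of_isZero (isZero_zero _) i, fun i => ?_⟩
  haveI : Subsingleton ((0 : Cx A).X i) :=
    ModuleCat.subsingleton_of_isZero (isZero_X_of_isZero (isZero_zero _) i)
  exact ⟨inferInstance, inferInstance⟩

lemma pcCls_zero : ∃ Z : Cx A, IsZero Z ∧ pcCls Z := by
  refine ⟨0, isZero_zero _, 0, fun i _ => isZero_X_of_isZero (isZero_zero _) i, fun i => ?_⟩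
  haveI : Subsingleton ((0 : Cx A).X i) :=
    ModuleCat.subsingleton_of_isZero (isZero_X_of_isZero (isZero_zero _) i)
  exact ⟨inferInstance, inferInstance⟩

lemma injCls_zero : ∃ Z : Cx A, IsZero Z ∧ injCls Z := by
  refine ⟨0, isZero_zero _, 0, 0, fun i _ => isZero_X_of_isZero (isZero_zero _) i, fun i => ?_⟩
  exact injective_of_isZero (isZero_X_of_isZero (isZero_zero _) i)

/-! ### shift -/

lemma perfCls_shift (E : Cx A) (n : ℤ) : perfCls E → perfCls (E⟦n⟧) := by
  rintro ⟨a, b, h1, h2⟩
  refine ⟨a - n, b - n, fun i hi => ?_, fun i => ?_⟩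
  · exact h1 (i + n) (by omega)
  · exact h2 (i + n)

lemma pcCls_shift (E : Cx A) (n : ℤ) : pcCls E → pcCls (E⟦n⟧) := by
  rintro ⟨b, h1, h2⟩
  refine ⟨b - n, fun i hi => ?_, fun i => ?_⟩
  · exact h1 (i + n) (by omega)
  · exact h2 (i + n)

lemma injCls_shift (E : Cx A) (n : ℤ) : injCls E → injCls (E⟦n⟧) := by
  rintro ⟨a, b, h1, h2⟩
  refine ⟨a - n, b - n, fun i hi => ?_, fun i => ?_⟩
  · exact h1 (i + n) (by omega)
  · exact h2 (i + n)

/-! ### cones -/

lemma perfCls_cone (E F : Cx A) (f : E ⟶ F) :
    perfCls E → perfCls F → perfCls (CochainComplex.mappingCone f) := by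
  rintro ⟨a, b, h1, h2⟩ ⟨a', b', h1', h2'⟩
  refine ⟨min (a - 1) a', max (b - 1) b', fun i hi => ?_, fun i => ?_⟩
  · refine IsZero.of_iso (isZero_biprod (h1 (i + 1) ?_) (h1' i ?_)) (coneXIso f i)
    · rcases hi with hi | hi
      · left; have := min_le_left (a - 1) a'; omega
      · right; have := le_max_left (b - 1) b'; omega
    · rcases hi with hi | hi
      · left; have := min_le_right (a - 1) a'; omega
      · right; have := le_max_right (b - 1) b'; omega
  · exact ⟨finite_of_iso (coneXIso f i).symm (finite_biprod (h2 (i + 1)).1 (h2' i).1),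
      projective_of_iso (coneXIso f i).symm (projective_biprod (h2 (i + 1)).2 (h2' i).2)⟩

lemma pcCls_cone (E F : Cx A) (f : E ⟶ F) :
    pcCls E → pcCls F → pcCls (CochainComplex.mappingCone f) := by
  rintro ⟨b, h1, h2⟩ ⟨b', h1', h2'⟩
  refine ⟨max (b - 1) b', fun i hi => ?_, fun i => ?_⟩
  · refine IsZero.of_iso (isZero_biprod (h1 (i + 1) ?_) (h1' i ?_)) (coneXIso f i)
    · have := le_max_left (b - 1) b'; omega
    · have := le_max_right (b - 1) b'; omega
  · exact ⟨finite_of_iso (coneXIso f i).symm (finite_biprod (h2 (i + 1)).1 (h2' i).1),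
      free_of_iso (coneXIso f i).symm (free_biprod (h2 (i + 1)).2 (h2' i).2)⟩

lemma injCls_cone (E F : Cx A) (f : E ⟶ F) :
    injCls E → injCls F → injCls (CochainComplex.mappingCone f) := by
  rintro ⟨a, b, h1, h2⟩ ⟨a', b', h1', h2'⟩
  refine ⟨min (a - 1) a', max (b - 1) b', fun i hi => ?_, fun i => ?_⟩
  · refine IsZero.of_iso (isZero_biprod (h1 (i + 1) ?_) (h1' i ?_)) (coneXIso f i)
    · rcases hi with hi | hi
      · left; have := min_le_left (a - 1) a'; omega
      · right; have := le_max_left (b - 1) b'; omega
    · rcases hi with hi | hi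
      · left; have := min_le_right (a - 1) a'; omega
      · right; have := le_max_right (b - 1) b'; omega
  · exact injective_of_iso (coneXIso f i).symm (injective_biprod (h2 (i + 1)) (h2' i))

/-! ### the triangulated subcategories -/

variable (A)

/-- Perfect objects, as an object property. -/
def perfProp : ObjectProperty (Dual.D A) := fun K => IsPerfect A K

/-- Pseudo-coherent objects, as an object property. -/
def pcProp : ObjectProperty (Dual.D A) := fun K => IsPseudoCoherent' A K

/-- Objects of finite injective dimension, as an object property. -/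
def fidProp : ObjectProperty (Dual.D A) := fun K => HasFiniteInjDim A K

lemma perfProp_eq : perfProp A = rep perfCls := by
  ext K; exact isPerfect_iff K

lemma pcProp_eq : pcProp A = rep pcCls := by
  ext K; exact isPseudoCoherent'_iff K

lemma fidProp_eq : fidProp A = rep injCls := by
  ext K; exact hasFiniteInjDim_iff K

instance : (perfProp A).IsClosedUnderIsomorphisms := by
  rw [perfProp_eq]; infer_instance

instance : (pcProp A).IsClosedUnderIsomorphisms := by
  rw [pcProp_eq]; infer_instance

instance : (fidProp A).IsClosedUnderIsomorphisms := by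
  rw [fidProp_eq]; infer_instance

instance perfProp_isTriangulated : (perfProp A).IsTriangulated := by
  rw [perfProp_eq]
  exact rep_isTriangulated _ perfCls_zero perfCls_shift perfCls_cone
    (fun E F hE _ φ => by
      haveI := isKProjective_of_perfCls hE
      exact exists_Q_map_eq_of_isKProjective φ)

instance pcProp_isTriangulated : (pcProp A).IsTriangulated := by
  rw [pcProp_eq]
  exact rep_isTriangulated _ pcCls_zero pcCls_shift pcCls_cone
    (fun E F hE _ φ => by
      haveI := isKProjective_of_pcCls hE
      exact exists_Q_map_eq_of_isKProjective φ)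

instance fidProp_isTriangulated : (fidProp A).IsTriangulated := by
  rw [fidProp_eq]
  exact rep_isTriangulated _ injCls_zero injCls_shift injCls_cone
    (fun E F _ hF φ => by
      haveI := isKInjective_of_injCls hF
      exact exists_Q_map_eq_of_isKInjective φ)

end Groth.Agent.Lib.DMod_helper6
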