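import Mathlib
import Groth.Prelude.Def_DRing2
import Groth.Agent.Lib.DMod2_helper6
import Groth.Agent.Lib.DerivedTrunc_helper2

/-!
# Derived category toolkit (helper6), part 3: dévissage on cohomology and on terms.
-/

set_option autoImplicit false
universe u
open CategoryTheory CategoryTheory.Limits Pretriangulated DerivedCategory ZeroObject
attribute [local instance] HasDerivedCategory.standard

namespace Groth.Agent.Lib.DMod_helper6

open DRing

variable {A : Type u} [CommRing A]

/-- Dévissage on cohomology modules. -/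
theorem devissage_homology (𝒮 : ObjectProperty (Dual.D A)) [𝒮.IsTriangulated]
    [𝒮.IsClosedUnderIsomorphisms] (K : Dual.D A)
    (hb : ∃ a b : ℤ, ∀ i : ℤ, (i < a ∨ b < i) → Subsingleton (Dual.HD A K i))
    (hK : ∀ i : ℤ, 𝒮 (Dual.inD A (Dual.HD A K i))) : 𝒮 K := by
  obtain ⟨a, b, hab⟩ := hb
  let P : ObjectProperty (ModuleCat.{u} A) := fun M => 𝒮 ((singleFunctor _ 0).obj M)
  haveI : P.IsClosedUnderIsomorphisms :=
    ⟨fun {X Y} e h => 𝒮.prop_of_iso ((singleFunctor _ 0).mapIso e) h⟩
  refine Groth.Agent.Lib.DerivedTrunc_helper2.devissage P 𝒮 (fun Y h => h) (b - a).toNat a K ?_ ?_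
  · intro i hi
    haveI : Subsingleton (Dual.HD A K i) := hab i (by omega)
    exact ModuleCat.isZero_of_subsingleton _
  · intro i
    exact hK i

lemma isZero_of_forall_isZero_X {K : Cx A} (h : ∀ i, IsZero (K.X i)) : IsZero K := by
  rw [IsZero.iff_id_eq_zero]
  ext i : 1
  exact (h i).eq_of_src _ _

lemma prop_single (𝒮 : ObjectProperty (Dual.D A)) [𝒮.IsTriangulated]
    [𝒮.IsClosedUnderIsomorphisms] (M : ModuleCat.{u} A) (a : ℤ) (h : 𝒮 (Dual.inD A M)) :
    𝒮 (toD ((HomologicalComplex.single _ (ComplexShape.up ℤ) a).obj M)) := by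
  have h1 : 𝒮 ((shiftFunctor _ (-a)).obj ((singleFunctor _ 0).obj M)) := 𝒮.le_shift (-a) _ h
  have h2 : 𝒮 ((singleFunctor _ a).obj M) :=
    𝒮.prop_of_iso (((singleFunctors _).shiftIso (-a) a 0 (by omega)).app M) h1
  exact 𝒮.prop_of_iso ((singleFunctorIsoCompQ _ a).app M) h2

/-- Dévissage on the terms of a bounded complex. -/
theorem devissage_termwise (𝒮 : ObjectProperty (Dual.D A)) [𝒮.IsTriangulated]
    [𝒮.IsClosedUnderIsomorphisms] (n : ℕ) :
    ∀ (a : ℤ) (K : Cx A), (∀ i : ℤ, (i < a ∨ a + n ≤ i) → IsZero (K.X i)) →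
      (∀ i : ℤ, 𝒮 (Dual.inD A (K.X i))) → 𝒮 (toD K) := by
  induction n with
  | zero =>
    intro a K hK _
    have : IsZero K := isZero_of_forall_isZero_X (fun i => hK i (by omega))
    exact 𝒮.prop_of_isZero (Q.map_isZero this)
  | succ n ih =>
    intro a K hK h𝒮
    let f : K ⟶ (HomologicalComplex.single _ (ComplexShape.up ℤ) a).obj (K.X a) :=
      HomologicalComplex.mkHomToSingle (𝟙 _)
        (fun i hi => (hK i (by simp at hi; omega)).eq_of_src _ _)
    have hfa : IsIso (f.f a) := by
      rw [HomologicalComplex.mkHomToSingle_f]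
      infer_instance
    have htgt : ∀ i, i ≠ a →
        IsZero (((HomologicalComplex.single (ModuleCat.{u} A) (ComplexShape.up ℤ) a).obj (K.X a)).X i) :=
      fun i hi => HomologicalComplex.isZero_single_obj_X _ a _ i hi
    haveI : Epi f := by
      refine HomologicalComplex.epi_of_epi_f f (fun i => ?_)
      by_cases h : i = a
      · subst h; infer_instance
      · exact ⟨fun g h' _ => (htgt i h).eq_of_src g h'⟩
    have hS : (ShortComplex.kernelSequence f).ShortExact :=
      ShortComplex.ShortExact.mk' (ShortComplex.kernelSequence_exact f) inferInstance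
        (by show Epi f; infer_instance)
    let e : ∀ i, (kernel f).X i ≅ kernel (f.f i) := fun i =>
      PreservesKernel.iso (HomologicalComplex.eval _ _ i) f
    have hker_zero : ∀ i, IsZero (K.X i) → IsZero ((kernel f).X i) := fun i hi =>
      IsZero.of_iso (IsZero.of_mono (kernel.ι (f.f i)) hi) (e i)
    have hker_a : IsZero ((kernel f).X a) :=
      IsZero.of_iso (isZero_kernel_of_mono (f.f a)) (e a)
    have hker_iso : ∀ i, i ≠ a → Nonempty ((kernel f).X i ≅ K.X i) := fun i hi => by
      have h0 : f.f i = 0 := (htgt i hi).eq_of_tgt _ _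
      refine ⟨e i ≪≫ ?_⟩
      rw [h0]
      exact asIso (kernel.ι (0 : K.X i ⟶ _))
    have h1 : 𝒮 (toD (kernel f)) := by
      refine ih (a + 1) (kernel f) (fun i hi => ?_) (fun i => ?_)
      · by_cases h : i = a
        · subst h; exact hker_a
        · exact hker_zero i (hK i (by push_cast; omega))
      · by_cases h : i = a
        · subst h
          exact 𝒮.prop_of_isZero ((singleFunctor _ 0).map_isZero hker_a)
        · obtain ⟨e'⟩ := hker_iso i h
          exact 𝒮.prop_of_iso ((singleFunctor _ 0).mapIso e'.symm) (h𝒮 i)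
    have h3 : 𝒮 (toD ((HomologicalComplex.single _ (ComplexShape.up ℤ) a).obj (K.X a))) :=
      prop_single 𝒮 _ a (h𝒮 a)
    exact 𝒮.ext_of_isTriangulatedClosed₂ _ (triangleOfSES_distinguished hS) h1 h3

/-- Dévissage on the terms of a bounded complex, in `VanishesOutside` form. -/
theorem devissage_termwise' (𝒮 : ObjectProperty (Dual.D A)) [𝒮.IsTriangulated]
    [𝒮.IsClosedUnderIsomorphisms] (K : Cx A) (a b : ℤ) (hab : VanishesOutside K a b)
    (h𝒮 : ∀ i : ℤ, 𝒮 (Dual.inD A (K.X i))) : 𝒮 (toD K) := by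
  refine devissage_termwise 𝒮 (b + 1 - a).toNat a K (fun i hi => hab i ?_) h𝒮
  omega

end Groth.Agent.Lib.DMod_helper6
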