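import Mathlib

/-!
# Projective resolutions of bounded length and projective dimension (helper7)
-/

set_option autoImplicit false
set_option backward.isDefEq.respectTransparency false
universe u
open CategoryTheory Limits

namespace Groth.Agent.Lib.ProjResH7

variable {R : Type u} [CommRing R]

section Mk

variable (M : ModuleCat.{u} R) (X : ℕ → ModuleCat.{u} R) (d : ∀ n, X (n + 1) ⟶ X n)
  (sq : ∀ n, d (n + 1) ≫ d n = 0) (π0 : X 0 ⟶ M) (hπ : d 0 ≫ π0 = 0)

/-- the complex -/
noncomputable def cx : ChainComplex (ModuleCat.{u} R) ℕ := ChainComplex.of X d sq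

theorem cx_d_1_0 : (cx X d sq).d 1 0 = d 0 := by
  show ChainComplex.of.d X d (0 + 1) 0 = d 0
  exact ChainComplex.of_d _ _ 0

theorem cx_exactAt_succ (hs : ∀ n, (ShortComplex.mk (d (n + 1)) (d n) (sq n)).Exact) (n : ℕ) :
    (cx X d sq).ExactAt (n + 1) := by
  rw [HomologicalComplex.exactAt_iff' _ (n + 1 + 1) (n + 1) n (by simp) (by simp)]
  have h1 : (cx X d sq).d (n + 1 + 1) (n + 1) = d (n + 1) := ChainComplex.of_d _ _ (n + 1)
  have h2 : (cx X d sq).d (n + 1) n = d n := ChainComplex.of_d _ _ n
  refine (ShortComplex.exact_iff_of_iso ?_).mpr (hs n)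
  exact ShortComplex.isoMk (Iso.refl _) (Iso.refl _) (Iso.refl _)
    (by
      simp only [HomologicalComplex.sc', HomologicalComplex.shortComplexFunctor', h1, Iso.refl_hom]
      exact (Category.id_comp _).trans (Category.comp_id _).symm)
    (by
      simp only [HomologicalComplex.sc', HomologicalComplex.shortComplexFunctor', h2, Iso.refl_hom]
      exact (Category.id_comp _).trans (Category.comp_id _).symm)

/-- a projective resolution from explicit exactness data -/
noncomputable def mkRes (hproj : ∀ n, Projective (X n)) (hsurj : Function.Surjective π0)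
    (h0 : (ShortComplex.mk (d 0) π0 hπ).Exact)
    (hs : ∀ n, (ShortComplex.mk (d (n + 1)) (d n) (sq n)).Exact) : ProjectiveResolution M where
  complex := cx X d sq
  projective := hproj
  π := (ChainComplex.toSingle₀Equiv _ _).symm ⟨(show (cx X d sq).X 0 ⟶ M from π0), by
    rw [cx_d_1_0]
    exact hπ⟩
  quasiIso := ⟨fun n => by
    cases n
    · rw [ChainComplex.quasiIsoAt₀_iff, ShortComplex.quasiIso_iff_of_zeros']
      · dsimp
        haveI : Epi π0 := (ModuleCat.epi_iff_surjective _).mpr hsurj
        refine (ShortComplex.exact_and_epi_g_iff_of_iso ?_).2 ⟨h0, by dsimp; infer_instance⟩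
        exact ShortComplex.isoMk (Iso.refl _) (Iso.refl _) (Iso.refl _)
          (by
            simp only [cx_d_1_0, Iso.refl_hom]
            exact (Category.id_comp _).trans (Category.comp_id _).symm)
          (by
            simp only [Iso.refl_hom]
            exact (Category.id_comp _).trans (Category.comp_id _).symm)
      all_goals rfl
    · rw [quasiIsoAt_iff_exactAt']
      · apply cx_exactAt_succ _ _ _ hs
      · apply ChainComplex.exactAt_succ_single_obj⟩

theorem mkRes_X (hproj : ∀ n, Projective (X n)) (hsurj : Function.Surjective π0)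
    (h0 : (ShortComplex.mk (d 0) π0 hπ).Exact)
    (hs : ∀ n, (ShortComplex.mk (d (n + 1)) (d n) (sq n)).Exact) (n : ℕ) :
    (mkRes M X d sq π0 hπ hproj hsurj h0 hs).complex.X n = X n := rfl

end Mk

section Prepend

variable {M F K : ModuleCat.{u} R} (π : F ⟶ M) (ι : K ⟶ F) (Q : ProjectiveResolution K)

/-- terms of the prepended resolution -/
noncomputable def pX (F : ModuleCat.{u} R) {K : ModuleCat.{u} R} (Q : ProjectiveResolution K) :
    ℕ → ModuleCat.{u} R
  | 0 => F
  | n + 1 => Q.complex.X n

/-- augmentation of `Q` -/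
noncomputable def qπ : Q.complex.X 0 ⟶ K := Q.π.f 0

theorem qπ_surjective : Function.Surjective (qπ Q) := by
  haveI : Epi (qπ Q) := inferInstanceAs (Epi (Q.π.f 0))
  exact (ModuleCat.epi_iff_surjective _).mp inferInstance

theorem d_qπ : Q.complex.d 1 0 ≫ qπ Q = 0 := Q.complex_d_comp_π_f_zero

theorem exact_qπ (x : Q.complex.X 0) (hx : qπ Q x = 0) : ∃ y, Q.complex.d 1 0 y = x :=
  (ShortComplex.moduleCat_exact_iff _).mp Q.exact₀ x hx

theorem exact_q_succ (n : ℕ) (x : Q.complex.X (n + 1)) (hx : Q.complex.d (n + 1) n x = 0) :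
    ∃ y, Q.complex.d (n + 2) (n + 1) y = x :=
  (ShortComplex.moduleCat_exact_iff _).mp (Q.exact_succ n) x hx

/-- differentials of the prepended resolution -/
noncomputable def pd : ∀ n, pX F Q (n + 1) ⟶ pX F Q n
  | 0 => qπ Q ≫ ι
  | n + 1 => Q.complex.d (n + 1) n

theorem pd_sq : ∀ n, pd ι Q (n + 1) ≫ pd ι Q n = 0
  | 0 => by
    show Q.complex.d 1 0 ≫ qπ Q ≫ ι = 0
    rw [← Category.assoc, d_qπ, zero_comp]
  | n + 1 => Q.complex.d_comp_d _ _ _

theorem pd_π (hιπ : ι ≫ π = 0) : pd ι Q 0 ≫ (show pX F Q 0 ⟶ M from π) = 0 := by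
  show (qπ Q ≫ ι) ≫ π = 0
  rw [Category.assoc, hιπ, comp_zero]

/-- prepend a projective cover to a resolution of its kernel -/
noncomputable def prepend [Projective F] (hπ : Function.Surjective π)
    (hι : Function.Injective ι) (hιπ : ι ≫ π = 0)
    (hex : ∀ x : F, π x = 0 → ∃ y : K, ι y = x) : ProjectiveResolution M :=
  mkRes M (pX F Q) (pd ι Q) (pd_sq ι Q) (show pX F Q 0 ⟶ M from π) (pd_π π ι Q hιπ)
    (fun n => by
      cases n with
      | zero => exact (inferInstance : Projective F)
      | succ n => exact (inferInstance : Projective (Q.complex.X n)))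
    hπ
    (by
      rw [ShortComplex.moduleCat_exact_iff]
      intro x hx
      obtain ⟨y, hy⟩ := hex x hx
      obtain ⟨z, hz⟩ := qπ_surjective Q y
      refine ⟨z, ?_⟩
      show ι (qπ Q z) = x
      rw [hz, hy])
    (fun n => by
      rw [ShortComplex.moduleCat_exact_iff]
      cases n with
      | zero =>
        intro x hx
        have h1 : qπ Q x = 0 := by
          apply hι
          rw [map_zero]
          exact hx
        exact exact_qπ Q x h1
      | succ n =>
        intro x hx
        exact exact_q_succ Q n x hx)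

theorem prepend_X_succ [Projective F] (hπ : Function.Surjective π)
    (hι : Function.Injective ι) (hιπ : ι ≫ π = 0)
    (hex : ∀ x : F, π x = 0 → ∃ y : K, ι y = x) (n : ℕ) :
    (prepend π ι Q hπ hι hιπ hex).complex.X (n + 1) = Q.complex.X n := rfl

end Prepend

theorem exists_res (d : ℕ) : ∀ (M : ModuleCat.{u} R), HasProjectiveDimensionLE M d →
    ∃ P : ProjectiveResolution M, ∀ i, d < i → IsZero (P.complex.X i) := by
  induction d with
  | zero =>
    intro M hM
    haveI : Projective M := (projective_iff_hasProjectiveDimensionLE_zero M).mpr hM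
    refine ⟨ProjectiveResolution.self M, fun i hi => ?_⟩
    apply HomologicalComplex.isZero_single_obj_X
    omega
  | succ d ih =>
    intro M hM
    let F : ModuleCat.{u} R := Projective.over M
    let π : F ⟶ M := Projective.π M
    have hπ : Function.Surjective π := (ModuleCat.epi_iff_surjective π).mp inferInstance
    have hS : (LinearMap.shortComplexKer π.hom).ShortExact :=
      LinearMap.shortExact_shortComplexKer hπ
    have h2 : HasProjectiveDimensionLT (LinearMap.shortComplexKer π.hom).X₂ (d + 1) := by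
      haveI : Projective (LinearMap.shortComplexKer π.hom).X₂ :=
        (inferInstance : Projective F)
      exact hasProjectiveDimensionLT_of_ge _ 1 (d + 1) (by omega)
    have h3 : HasProjectiveDimensionLT (LinearMap.shortComplexKer π.hom).X₃ (d + 1 + 1) := hM
    have hK := hS.hasProjectiveDimensionLT_X₁ (d + 1) h2 h3
    obtain ⟨Q, hQ⟩ := ih _ hK
    refine ⟨prepend π (LinearMap.shortComplexKer π.hom).f Q hπ
      (LinearMap.ker π.hom).injective_subtype ?_ ?_, ?_⟩
    · exact (LinearMap.shortComplexKer π.hom).zero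
    · intro x hx
      exact ⟨⟨x, hx⟩, rfl⟩
    · intro i hi
      obtain ⟨j, rfl⟩ : ∃ j, i = j + 1 := ⟨i - 1, by omega⟩
      rw [prepend_X_succ]
      exact hQ j (by omega)

theorem pd_of_res (M : ModuleCat.{u} R) (d : ℕ) (P : ProjectiveResolution M)
    (hP : ∀ i, d < i → IsZero (P.complex.X i)) : HasProjectiveDimensionLE M d := by
  letI := HasExt.standard (ModuleCat.{u} R)
  refine HasProjectiveDimensionLT.mk fun i hi Y e => ?_
  obtain ⟨f, hf, rfl⟩ := P.extMk_surjective e (i + 1) rfl
  have h0 : f = 0 := (hP i (by omega)).eq_of_src _ _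
  subst h0
  exact P.extMk_zero _ _

end Groth.Agent.Lib.ProjResH7
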