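import Mathlib
import Groth.Prelude.Def_DRing2
import Groth.Agent.Lib.DMod3_helper6
import Groth.Agent.Lib.ProjRes_helper7

/-!
# Derived category toolkit (helper6), part 5: resolutions.

* a projective resolution `P` of `M` gives `toD P.cochainComplex ≅ M[0]`;
* finite modules over Noetherian rings have resolutions by finite free modules, hence are
  pseudo-coherent;
* finite projective modules have (periodic) resolutions by finite free modules, hence perfect
  objects are pseudo-coherent.
-/

set_option autoImplicit false
universe u
open CategoryTheory CategoryTheory.Limits Pretriangulated DerivedCategory ZeroObject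
attribute [local instance] HasDerivedCategory.standard

namespace Groth.Agent.Lib.DMod_helper6

open DRing

variable {A : Type u} [CommRing A]

lemma nonempty_iso_of_projectiveResolution {M : ModuleCat.{u} A} (P : ProjectiveResolution M) :
    Nonempty (toD P.cochainComplex ≅ (singleFunctor (ModuleCat.{u} A) 0).obj M) := by
  haveI : IsIso (Q.map P.π') := (isIso_Q_map_iff_quasiIso (φ := P.π')).2 inferInstance
  exact ⟨asIso (Q.map P.π') ≪≫ ((singleFunctorIsoCompQ _ 0).app M).symm⟩

/-- A resolution by finite free modules makes a module pseudo-coherent. -/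
lemma isPseudoCoherent'_of_projectiveResolution {M : ModuleCat.{u} A}
    (P : ProjectiveResolution M)
    (hP : ∀ k : ℕ, Module.Finite A (P.complex.X k) ∧ Module.Free A (P.complex.X k)) :
    IsPseudoCoherent' A ((singleFunctor (ModuleCat.{u} A) 0).obj M) := by
  obtain ⟨e⟩ := nonempty_iso_of_projectiveResolution P
  refine ⟨P.cochainComplex, 0, fun i hi => CochainComplex.isZero_of_isStrictlyLE _ 0 i hi,
    fun n => ?_, ⟨e⟩⟩
  by_cases hn : n ≤ 0
  · obtain ⟨k, rfl⟩ := Int.exists_eq_neg_ofNat hn
    exact ⟨finite_of_iso (P.cochainComplexXIso (-k) k).symm (hP k).1,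
      free_of_iso (P.cochainComplexXIso (-k) k).symm (hP k).2⟩
  · have hz : IsZero (P.cochainComplex.X n) :=
      CochainComplex.isZero_of_isStrictlyLE _ 0 n (by omega)
    haveI := ModuleCat.subsingleton_of_isZero hz
    exact ⟨inferInstance, inferInstance⟩

/-- A finite-length resolution by finite projective modules makes a module perfect. -/
lemma isPerfect_of_projectiveResolution {M : ModuleCat.{u} A}
    (P : ProjectiveResolution M) (d : ℕ) (hd : ∀ k : ℕ, d < k → IsZero (P.complex.X k))
    (hP : ∀ k : ℕ, Module.Finite A (P.complex.X k)) :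
    IsPerfect A ((singleFunctor (ModuleCat.{u} A) 0).obj M) := by
  obtain ⟨e⟩ := nonempty_iso_of_projectiveResolution P
  refine ⟨P.cochainComplex, -d, 0, fun i hi => ?_, fun n => ?_, ⟨e⟩⟩
  · rcases hi with hi | hi
    · obtain ⟨k, rfl⟩ := Int.exists_eq_neg_ofNat (show i ≤ 0 by omega)
      exact IsZero.of_iso (hd k (by omega)) (P.cochainComplexXIso (-k) k)
    · exact CochainComplex.isZero_of_isStrictlyLE _ 0 i hi
  · by_cases hn : n ≤ 0
    · obtain ⟨k, rfl⟩ := Int.exists_eq_neg_ofNat hn
      haveI : Projective (P.complex.X k) := P.projective k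
      exact ⟨finite_of_iso (P.cochainComplexXIso (-k) k).symm (hP k),
        projective_of_iso (P.cochainComplexXIso (-k) k).symm
          ((IsProjective.iff_projective (P.complex.X k)).2 inferInstance)⟩
    · have hz : IsZero (P.cochainComplex.X n) :=
        CochainComplex.isZero_of_isStrictlyLE _ 0 n (by omega)
      haveI := ModuleCat.subsingleton_of_isZero hz
      exact ⟨inferInstance, inferInstance⟩

/-! ### Noetherian rings -/

section Noetherian

variable [IsNoetherianRing A]

/-- finite modules, bundled -/
structure FinMod (A : Type u) [CommRing A] where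
  M : ModuleCat.{u} A
  fin : Module.Finite A M

/-- number of generators -/
noncomputable def FinMod.k (S : FinMod A) : ℕ :=
  haveI := S.fin
  (Module.Finite.exists_fin' A S.M).choose

/-- the chosen surjection from a finite free module -/
noncomputable def FinMod.p (S : FinMod A) : (Fin S.k → A) →ₗ[A] S.M :=
  haveI := S.fin
  (Module.Finite.exists_fin' A S.M).choose_spec.choose

lemma FinMod.p_surjective (S : FinMod A) : Function.Surjective S.p :=
  haveI := S.fin
  (Module.Finite.exists_fin' A S.M).choose_spec.choose_spec

/-- the next stage: the kernel of the chosen surjection -/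
noncomputable def FinMod.next (S : FinMod A) : FinMod A where
  M := ModuleCat.of A (LinearMap.ker S.p)
  fin := by
    show Module.Finite A (LinearMap.ker S.p)
    infer_instance

/-- the stages of the resolution -/
noncomputable def stage (S : FinMod A) : ℕ → FinMod A
  | 0 => S
  | n + 1 => (stage S n).next

/-- the terms of the resolution -/
noncomputable def resX (S : FinMod A) (n : ℕ) : ModuleCat.{u} A :=
  ModuleCat.of A (Fin (stage S n).k → A)

/-- the differentials of the resolution -/
noncomputable def resD (S : FinMod A) (n : ℕ) : resX S (n + 1) ⟶ resX S n :=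
  ModuleCat.ofHom ((LinearMap.ker (stage S n).p).subtype ∘ₗ (stage S (n + 1)).p)

lemma resD_apply (S : FinMod A) (n : ℕ) (x : resX S (n + 1)) :
    (resD S n) x = ((stage S (n + 1)).p x : LinearMap.ker (stage S n).p).1 := rfl

lemma p_resD (S : FinMod A) (n : ℕ) (x : resX S (n + 1)) :
    (stage S n).p ((resD S n) x) = 0 := by
  rw [resD_apply]
  exact ((stage S (n + 1)).p x : LinearMap.ker (stage S n).p).2

lemma exists_resD_eq (S : FinMod A) (n : ℕ) (y : resX S n) (hy : (stage S n).p y = 0) :
    ∃ x : resX S (n + 1), (resD S n) x = y := by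
  obtain ⟨x, hx⟩ := (stage S (n + 1)).p_surjective (⟨y, hy⟩ : LinearMap.ker (stage S n).p)
  refine ⟨x, ?_⟩
  rw [resD_apply, hx]

lemma resD_eq_zero_iff (S : FinMod A) (n : ℕ) (x : resX S (n + 1)) :
    (resD S n) x = 0 ↔ (stage S (n + 1)).p x = 0 := by
  rw [resD_apply]
  constructor
  · intro h
    exact Subtype.ext h
  · intro h
    rw [h]; rfl

lemma resD_sq (S : FinMod A) (n : ℕ) : resD S (n + 1) ≫ resD S n = 0 := by
  ext x
  show (resD S n) ((resD S (n + 1)) x) = 0
  rw [resD_eq_zero_iff]
  exact p_resD S (n + 1) x

/-- Finite modules over a Noetherian ring have resolutions by finite free modules. -/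
theorem exists_finite_free_resolution (M : ModuleCat.{u} A) [Module.Finite A M] :
    ∃ P : ProjectiveResolution M,
      ∀ k : ℕ, Module.Finite A (P.complex.X k) ∧ Module.Free A (P.complex.X k) := by
  let S : FinMod A := ⟨M, inferInstance⟩
  have hπ : resD S 0 ≫ (ModuleCat.ofHom S.p : resX S 0 ⟶ M) = 0 := by
    ext x
    exact p_resD S 0 x
  refine ⟨Groth.Agent.Lib.ProjResH7.mkRes M (resX S) (resD S) (resD_sq S)
    (ModuleCat.ofHom S.p) hπ (fun n => ?_) S.p_surjective ?_ (fun n => ?_), fun k => ?_⟩
  · exact (IsProjective.iff_projective (Fin (stage S n).k → A)).1 inferInstance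
  · rw [ShortComplex.moduleCat_exact_iff]
    intro y hy
    exact exists_resD_eq S 0 y hy
  · rw [ShortComplex.moduleCat_exact_iff]
    intro y hy
    exact exists_resD_eq S (n + 1) y ((resD_eq_zero_iff S n y).1 hy)
  · exact ⟨inferInstanceAs (Module.Finite A (Fin (stage S k).k → A)),
      inferInstanceAs (Module.Free A (Fin (stage S k).k → A))⟩

/-- Finite modules over a Noetherian ring are pseudo-coherent. -/
theorem isPseudoCoherentModule'_of_finite (M : Type u) [AddCommGroup M] [Module A M]
    [Module.Finite A M] : IsPseudoCoherentModule' A M := by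
  obtain ⟨P, hP⟩ := exists_finite_free_resolution (ModuleCat.of A M)
  exact isPseudoCoherent'_of_projectiveResolution P hP

end Noetherian

end Groth.Agent.Lib.DMod_helper6
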