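import Mathlib
import Groth.Prelude.Def_DDual2
import Groth.Agent.Lib.DMod5_helper6

/-!
# Derived category toolkit (helper6), part 6: perfect objects are pseudo-coherent;
restriction of scalars along a flat map.
-/

set_option autoImplicit false
universe u
open CategoryTheory CategoryTheory.Limits Pretriangulated DerivedCategory ZeroObject
attribute [local instance] HasDerivedCategory.standard

namespace Groth.Agent.Lib.DMod_helper6

open DRing

variable {A : Type u} [CommRing A]

section Periodic

variable {n : ℕ} (e : (Fin n → A) →ₗ[A] (Fin n → A))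

/-- the periodic differential -/
noncomputable def perD (k : ℕ) : ModuleCat.of A (Fin n → A) ⟶ ModuleCat.of A (Fin n → A) :=
  ModuleCat.ofHom (if Even k then LinearMap.id - e else e)

lemma perD_even {k : ℕ} (hk : Even k) (x : Fin n → A) : (perD e k) x = x - e x := by
  show (if Even k then LinearMap.id - e else e) x = x - e x
  rw [if_pos hk]; rfl

lemma perD_odd {k : ℕ} (hk : ¬ Even k) (x : Fin n → A) : (perD e k) x = e x := by
  show (if Even k then LinearMap.id - e else e) x = e x
  rw [if_neg hk]

variable (he : ∀ x, e (e x) = e x)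
include he

lemma perD_sq (k : ℕ) : perD e (k + 1) ≫ perD e k = 0 := by
  apply ModuleCat.hom_ext
  apply LinearMap.ext
  intro x
  show (perD e k) ((perD e (k + 1)) x) = 0
  by_cases hk : Even k
  · have hk' : ¬ Even (k + 1) := by rw [Nat.even_add_one]; exact not_not.2 hk
    rw [perD_odd e hk', perD_even e hk, he, sub_self]
  · have hk' : Even (k + 1) := by rw [Nat.even_add_one]; exact hk
    rw [perD_even e hk', perD_odd e hk, map_sub, he, sub_self]

lemma perD_exact (k : ℕ) (y : Fin n → A) (hy : (perD e k) y = 0) :
    ∃ x : Fin n → A, (perD e (k + 1)) x = y := by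
  refine ⟨y, ?_⟩
  by_cases hk : Even k
  · have hk' : ¬ Even (k + 1) := by rw [Nat.even_add_one]; exact not_not.2 hk
    rw [perD_even e hk] at hy
    rw [perD_odd e hk']
    exact (sub_eq_zero.1 hy).symm
  · have hk' : Even (k + 1) := by rw [Nat.even_add_one]; exact hk
    rw [perD_odd e hk] at hy
    rw [perD_even e hk', hy, sub_zero]

end Periodic

/-- Finite projective modules have resolutions by finite free modules. -/
theorem exists_finite_free_resolution_of_projective (M : ModuleCat.{u} A) [Module.Finite A M]
    [Module.Projective A M] :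
    ∃ P : ProjectiveResolution M,
      ∀ k : ℕ, Module.Finite A (P.complex.X k) ∧ Module.Free A (P.complex.X k) := by
  obtain ⟨n, f, hf⟩ := Module.Finite.exists_fin' A M
  obtain ⟨s, hs⟩ := Module.projective_lifting_property f LinearMap.id hf
  have hfs : ∀ m, f (s m) = m := fun m => LinearMap.congr_fun hs m
  let e : (Fin n → A) →ₗ[A] (Fin n → A) := s ∘ₗ f
  have he : ∀ x, e (e x) = e x := fun x => by
    show s (f (s (f x))) = s (f x)
    rw [hfs]
  have hπ : perD e 0 ≫ (ModuleCat.ofHom f : ModuleCat.of A (Fin n → A) ⟶ M) = 0 := by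
    apply ModuleCat.hom_ext
    apply LinearMap.ext
    intro x
    show f ((perD e 0) x) = 0
    rw [perD_even e (by simp), map_sub]
    show f x - f (s (f x)) = 0
    rw [hfs, sub_self]
  refine ⟨Groth.Agent.Lib.ProjResH7.mkRes M (fun _ => ModuleCat.of A (Fin n → A)) (perD e)
    (perD_sq e he) (ModuleCat.ofHom f) hπ (fun k => ?_) hf ?_ (fun k => ?_), fun k => ?_⟩
  · exact (IsProjective.iff_projective (Fin n → A)).1 inferInstance
  · rw [ShortComplex.moduleCat_exact_iff]
    intro y hy
    refine ⟨y, ?_⟩
    have hy' : f y = 0 := hy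
    show (perD e 0) y = y
    rw [perD_even e (by simp)]
    show y - s (f y) = y
    rw [hy', map_zero, sub_zero]
  · rw [ShortComplex.moduleCat_exact_iff]
    intro y hy
    exact perD_exact e he k y hy
  · exact ⟨inferInstanceAs (Module.Finite A (Fin n → A)),
      inferInstanceAs (Module.Free A (Fin n → A))⟩

/-- Perfect objects are pseudo-coherent. -/
theorem isPseudoCoherent'_of_isPerfect (K : Dual.D A) (hK : IsPerfect A K) :
    IsPseudoCoherent' A K := by
  obtain ⟨E, a, b, h1, h2, ⟨e⟩⟩ := hK
  refine (pcProp A).prop_of_iso e (devissage_termwise' (pcProp A) E a b h1 (fun i => ?_))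
  haveI := (h2 i).1
  haveI := (h2 i).2
  obtain ⟨P, hP⟩ := exists_finite_free_resolution_of_projective (E.X i)
  exact isPseudoCoherent'_of_projectiveResolution P hP

/-! ### restriction of scalars -/

section Restrict

variable {R : Type u} [CommRing R] [Algebra R A]

/-- `restrictD` of a complex is the termwise restriction. -/
noncomputable def restrictDIso (E : Cx A) :
    (restrictD (algebraMap R A)).obj (toD E) ≅ toD ((restrictCx (algebraMap R A)).obj E) :=
  ((ModuleCat.restrictScalars.{u} (algebraMap R A)).mapDerivedCategoryFactors).app E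

lemma flat_restrictScalars [Module.Flat R A] (M : ModuleCat.{u} A) (hM : Module.Flat A M) :
    Module.Flat R ((ModuleCat.restrictScalars (algebraMap R A)).obj M) := by
  letI : Module A ((ModuleCat.restrictScalars (algebraMap R A)).obj M) :=
    inferInstanceAs (Module A M)
  haveI : IsScalarTower R A ((ModuleCat.restrictScalars (algebraMap R A)).obj M) :=
    ⟨fun r a m => by
      show ((r • a) • m : M) = (algebraMap R A r) • ((a • m : M))
      rw [Algebra.smul_def, mul_smul]⟩
  haveI : Module.Flat A ((ModuleCat.restrictScalars (algebraMap R A)).obj M) := hM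
  exact Module.Flat.trans R A _

/-- A complex of `A`-flat modules vanishing outside `[a, b]` has tor amplitude in `[a, b]` over
`R` when `A` is flat over `R`. -/
lemma hasTorAmplitudeIn_restrictD [Module.Flat R A] (K : Dual.D A) (a b : ℤ)
    (hK : HasTorAmplitudeIn A a b K) :
    HasTorAmplitudeIn R a b ((restrictD (algebraMap R A)).obj K) := by
  obtain ⟨E, h1, h2, ⟨e⟩⟩ := hK
  refine ⟨(restrictCx (algebraMap R A)).obj E, fun i hi => ?_, fun i => ?_,
    ⟨(restrictDIso E).symm ≪≫ (restrictD (algebraMap R A)).mapIso e⟩⟩
  · exact (ModuleCat.restrictScalars (algebraMap R A)).map_isZero (h1 i hi)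
  · exact flat_restrictScalars (E.X i) (h2 i)

lemma hasTorAmplitudeIn_of_isPerfect (K : Dual.D A) (hK : IsPerfect A K) :
    ∃ a b : ℤ, HasTorAmplitudeIn A a b K := by
  obtain ⟨E, a, b, h1, h2, he⟩ := hK
  refine ⟨a, b, E, h1, fun i => ?_, he⟩
  haveI := (h2 i).2
  infer_instance

end Restrict

end Groth.Agent.Lib.DMod_helper6
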