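import Mathlib
import Groth.Prelude.Def_DDual2
import Groth.Agent.Lib.DMod6_helper6
import Groth.Agent.Lib.ExtendScalars_helper2

/-!
# Derived category toolkit (helper6), part 7: flat base change of modules in `D(A)`.
-/

set_option autoImplicit false
universe u
open CategoryTheory CategoryTheory.Limits Pretriangulated DerivedCategory ZeroObject
open scoped TensorProduct
attribute [local instance] HasDerivedCategory.standard

namespace Groth.Agent.Lib.DMod_helper6

open DRing Groth.Agent.ExtendScalarsLib

variable (A B : Type u) [CommRing A] [CommRing B] [Algebra A B]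

/-- extension of scalars -/
noncomputable abbrev ES : ModuleCat.{u} A ⥤ ModuleCat.{u} B :=
  ModuleCat.extendScalars.{u, u, u} (algebraMap A B)

variable {A B}

lemma finite_ES (N : ModuleCat.{u} A) (h : Module.Finite A N) :
    Module.Finite B ((ES A B).obj N) :=
  Module.Finite.equiv (extendScalarsEquivTensor (S := B) N).symm

lemma free_ES (N : ModuleCat.{u} A) (h : Module.Free A N) :
    Module.Free B ((ES A B).obj N) :=
  Module.Free.of_equiv (extendScalarsEquivTensor (S := B) N).symm

lemma projective_ES (N : ModuleCat.{u} A) (h : Module.Projective A N) :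
    Module.Projective B ((ES A B).obj N) :=
  Module.Projective.of_equiv (extendScalarsEquivTensor (S := B) N).symm

lemma flat_ES (N : ModuleCat.{u} A) (h : Module.Flat A N) :
    Module.Flat B ((ES A B).obj N) :=
  Module.Flat.of_linearEquiv (extendScalarsEquivTensor (S := B) N)

instance : PreservesFiniteColimits (ES A B) := by
  haveI : (ES A B).IsLeftAdjoint := (ModuleCat.extendRestrictScalarsAdj (algebraMap A B)).isLeftAdjoint
  infer_instance

variable [Module.Flat A B]

instance : PreservesFiniteLimits (ES A B) :=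
  ModuleCat.preservesFiniteLimits_extendScalars_of_flat
    (RingHom.flat_algebraMap_iff.2 inferInstance)

variable (A B) in
/-- flat base change on derived categories -/
noncomputable abbrev bcD : Dual.D A ⥤ Dual.D B := (ES A B).mapDerivedCategory

/-- base change of a complex -/
noncomputable def bcDIso (E : Cx A) :
    (bcD A B).obj (toD E) ≅ toD (((ES A B).mapHomologicalComplex (ComplexShape.up ℤ)).obj E) :=
  ((ES A B).mapDerivedCategoryFactors).app E

/-- base change of a module placed in degree zero -/
noncomputable def bcSingleIso (M : Type u) [AddCommGroup M] [Module A M] :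
    (bcD A B).obj (Dual.inD A M) ≅ Dual.inD B (B ⊗[A] M) :=
  ((ES A B).mapDerivedCategorySingleFunctor 0).app (ModuleCat.of A M) ≪≫
    (singleFunctor (ModuleCat.{u} B) 0).mapIso
      (extendScalarsEquivTensor (S := B) (ModuleCat.of A M)).toModuleIso

theorem hasTorAmplitudeIn_baseChange (a b : ℤ) (M : Type u) [AddCommGroup M] [Module A M]
    (h : HasTorAmplitudeIn A a b (Dual.inD A M)) :
    HasTorAmplitudeIn B a b (Dual.inD B (B ⊗[A] M)) := by
  obtain ⟨E, h1, h2, ⟨e⟩⟩ := h
  exact ⟨((ES A B).mapHomologicalComplex _).obj E, fun i hi => (ES A B).map_isZero (h1 i hi),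
    fun i => flat_ES (E.X i) (h2 i),
    ⟨(bcDIso E).symm ≪≫ (bcD A B).mapIso e ≪≫ bcSingleIso M⟩⟩

theorem isPerfectModule_baseChange (M : Type u) [AddCommGroup M] [Module A M]
    (h : IsPerfectModule A M) : IsPerfectModule B (B ⊗[A] M) := by
  obtain ⟨E, a, b, h1, h2, ⟨e⟩⟩ := h
  exact ⟨((ES A B).mapHomologicalComplex _).obj E, a, b,
    fun i hi => (ES A B).map_isZero (h1 i hi),
    fun i => ⟨finite_ES (E.X i) (h2 i).1, projective_ES (E.X i) (h2 i).2⟩,
    ⟨(bcDIso E).symm ≪≫ (bcD A B).mapIso e ≪≫ bcSingleIso M⟩⟩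

theorem isPseudoCoherentModule'_baseChange (M : Type u) [AddCommGroup M] [Module A M]
    (h : IsPseudoCoherentModule' A M) : IsPseudoCoherentModule' B (B ⊗[A] M) := by
  obtain ⟨E, b, h1, h2, ⟨e⟩⟩ := h
  exact ⟨((ES A B).mapHomologicalComplex _).obj E, b,
    fun i hi => (ES A B).map_isZero (h1 i hi),
    fun i => ⟨finite_ES (E.X i) (h2 i).1, free_ES (E.X i) (h2 i).2⟩,
    ⟨(bcDIso E).symm ≪≫ (bcD A B).mapIso e ≪≫ bcSingleIso M⟩⟩

end Groth.Agent.Lib.DMod_helper6
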