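import Mathlib
import Groth.Prelude.Def_DDual2
import Groth.Agent.Lib.DMod7_helper6

/-!
# Derived category toolkit (helper6), part 8: homology maps under exact functors; flat base change
of `m`-pseudo-coherent modules.
-/

set_option autoImplicit false
universe u
open CategoryTheory CategoryTheory.Limits Pretriangulated DerivedCategory ZeroObject
open scoped TensorProduct
attribute [local instance] HasDerivedCategory.standard

namespace Groth.Agent.Lib.DMod_helper6

open DRing Groth.Agent.ExtendScalarsLib

section HomologyMap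

universe v₁ v₂ u₁ u₂

variable {C₁ : Type u₁} [Category.{v₁} C₁] [Abelian C₁] {C₂ : Type u₂} [Category.{v₂} C₂]
  [Abelian C₂] (F : C₁ ⥤ C₂) [F.Additive] [PreservesFiniteLimits F] [PreservesFiniteColimits F]

/-- the arrows `Hⁱ(F g)` and `F(Hⁱ g)` are isomorphic -/
noncomputable def arrowIsoMap {K L : CochainComplex C₁ ℤ} (g : K ⟶ L) (i : ℤ) :
    Arrow.mk (HomologicalComplex.homologyMap
      ((F.mapHomologicalComplex (ComplexShape.up ℤ)).map g) i) ≅
      Arrow.mk (F.map (HomologicalComplex.homologyMap g i)) := by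
  have e₁ : (((F.mapHomologicalComplex (ComplexShape.up ℤ)).obj K).homology i) ≅
      F.obj (K.homology i) := (K.sc i).mapHomologyIso F
  have e₂ : (((F.mapHomologicalComplex (ComplexShape.up ℤ)).obj L).homology i) ≅
      F.obj (L.homology i) := (L.sc i).mapHomologyIso F
  exact Arrow.isoMk ((K.sc i).mapHomologyIso F) ((L.sc i).mapHomologyIso F)
    (ShortComplex.mapHomologyIso_hom_naturality
      ((HomologicalComplex.shortComplexFunctor C₁ (ComplexShape.up ℤ) i).map g) F).symm

lemma isIso_homologyMap_map {K L : CochainComplex C₁ ℤ} (g : K ⟶ L) (i : ℤ)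
    (h : IsIso (HomologicalComplex.homologyMap g i)) :
    IsIso (HomologicalComplex.homologyMap
      ((F.mapHomologicalComplex (ComplexShape.up ℤ)).map g) i) := by
  rw [← MorphismProperty.isomorphisms.iff,
    (MorphismProperty.isomorphisms _).arrow_mk_iso_iff (arrowIsoMap F g i),
    MorphismProperty.isomorphisms.iff]
  infer_instance

lemma epi_homologyMap_map {K L : CochainComplex C₁ ℤ} (g : K ⟶ L) (i : ℤ)
    (h : Epi (HomologicalComplex.homologyMap g i)) :
    Epi (HomologicalComplex.homologyMap
      ((F.mapHomologicalComplex (ComplexShape.up ℤ)).map g) i) := by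
  rw [← MorphismProperty.epimorphisms.iff,
    (MorphismProperty.epimorphisms _).arrow_mk_iso_iff (arrowIsoMap F g i),
    MorphismProperty.epimorphisms.iff]
  exact F.map_epi _

end HomologyMap

section QMap

universe w v₁ u₁

variable {C : Type u₁} [Category.{v₁} C] [Abelian C] [HasDerivedCategory.{w} C]

/-- the arrows `Hⁱ(Q g)` and `Hⁱ(g)` are isomorphic -/
noncomputable def arrowIso {K L : CochainComplex C ℤ} (g : K ⟶ L) (i : ℤ) :
    Arrow.mk ((homologyFunctor C i).map (Q.map g)) ≅
      Arrow.mk (HomologicalComplex.homologyMap g i) :=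
  Arrow.isoMk ((homologyFunctorFactors C i).app K) ((homologyFunctorFactors C i).app L)
    (homologyFunctorFactors_hom_naturality g i).symm

lemma isIso_homology_Q_map_iff {K L : CochainComplex C ℤ} (g : K ⟶ L) (i : ℤ) :
    IsIso ((homologyFunctor C i).map (Q.map g)) ↔ IsIso (HomologicalComplex.homologyMap g i) :=
  (MorphismProperty.isomorphisms _).arrow_mk_iso_iff (arrowIso g i)

lemma epi_homology_Q_map_iff {K L : CochainComplex C ℤ} (g : K ⟶ L) (i : ℤ) :
    Epi ((homologyFunctor C i).map (Q.map g)) ↔ Epi (HomologicalComplex.homologyMap g i) :=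
  (MorphismProperty.epimorphisms _).arrow_mk_iso_iff (arrowIso g i)

lemma mono_homology_Q_map_iff {K L : CochainComplex C ℤ} (g : K ⟶ L) (i : ℤ) :
    Mono ((homologyFunctor C i).map (Q.map g)) ↔ Mono (HomologicalComplex.homologyMap g i) :=
  (MorphismProperty.monomorphisms _).arrow_mk_iso_iff (arrowIso g i)

end QMap

variable {A B : Type u} [CommRing A] [CommRing B] [Algebra A B] [Module.Flat A B]

theorem isPseudoCoherentModule_baseChange (m : ℤ) (M : Type u) [AddCommGroup M] [Module A M]
    (h : IsPseudoCoherentModule A m M) : IsPseudoCoherentModule B m (B ⊗[A] M) := by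
  obtain ⟨E, a, b, α, h1, h2, h3, h4⟩ := h
  haveI : E.IsKProjective := isKProjective_of_pcCls ⟨b, fun i hi => h1 i (Or.inr hi), h2⟩
  let SM : Cx A := (CochainComplex.singleFunctor (ModuleCat.{u} A) 0).obj (ModuleCat.of A M)
  obtain ⟨f, hf⟩ : ∃ f : E ⟶ SM, Q.map f = α := exists_Q_map_eq_of_isKProjective (F := SM) α
  let j : ((ES A B).mapHomologicalComplex (ComplexShape.up ℤ)).obj SM ≅
      (CochainComplex.singleFunctor (ModuleCat.{u} B) 0).obj (ModuleCat.of B (B ⊗[A] M)) :=
    (HomologicalComplex.singleMapHomologicalComplex (ES A B) (ComplexShape.up ℤ) 0).app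
        (ModuleCat.of A M) ≪≫
      (HomologicalComplex.single (ModuleCat.{u} B) (ComplexShape.up ℤ) 0).mapIso
        (extendScalarsEquivTensor (S := B) (ModuleCat.of A M)).toModuleIso
  have hj : ∀ i, IsIso (HomologicalComplex.homologyMap j.hom i) := fun i =>
    (inferInstance : IsIso ((HomologicalComplex.homologyFunctor _ _ i).map j.hom))
  refine ⟨_, a, b, Q.map (((ES A B).mapHomologicalComplex (ComplexShape.up ℤ)).map f ≫ j.hom),
    fun i hi => (ES A B).map_isZero (h1 i hi),
    fun i => ⟨finite_ES _ (h2 i).1, free_ES _ (h2 i).2⟩, fun i hi => ?_, ?_⟩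
  · refine (isIso_homology_Q_map_iff _ i).2 ?_
    rw [HomologicalComplex.homologyMap_comp]
    have h3' : IsIso (HomologicalComplex.homologyMap f i) :=
      (isIso_homology_Q_map_iff f i).1 (by rw [hf]; exact h3 i hi)
    haveI := isIso_homologyMap_map (ES A B) f i h3'
    haveI := hj i
    infer_instance
  · refine (epi_homology_Q_map_iff _ m).2 ?_
    rw [HomologicalComplex.homologyMap_comp]
    have h4' : Epi (HomologicalComplex.homologyMap f m) :=
      (epi_homology_Q_map_iff f m).1 (by rw [hf]; exact h4)
    haveI := epi_homologyMap_map (ES A B) f m h4'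
    haveI := hj m
    infer_instance

end Groth.Agent.Lib.DMod_helper6
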