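import Mathlib
import Groth.Prelude.Def_DRing2
import Groth.Agent.Lib.DMod8_helper6

/-!
# Derived category toolkit (helper6), part 9: cycles of exact-above complexes of finite
projective modules, finiteness of cohomology of `m`-pseudo-coherent objects, elementwise
criteria for homology maps.
-/

set_option autoImplicit false
universe u
open CategoryTheory CategoryTheory.Limits Pretriangulated DerivedCategory ZeroObject
attribute [local instance] HasDerivedCategory.standard

namespace Groth.Agent.Lib.DMod_helper6

open DRing

variable {A : Type u} [CommRing A]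

lemma finitePresentation_of_iso {M N : ModuleCat.{u} A} (e : M ≅ N)
    (h : Module.FinitePresentation A M) : Module.FinitePresentation A N :=
  Module.FinitePresentation.of_equiv e.toLinearEquiv

/-- a retract in `ModuleCat` of a finite projective module is finite projective -/
lemma finite_projective_of_retract {M N : ModuleCat.{u} A} (i : M ⟶ N) (r : N ⟶ M)
    (h : i ≫ r = 𝟙 M) (hf : Module.Finite A N) (hp : Module.Projective A N) :
    Module.Finite A M ∧ Module.Projective A M := by
  have hx : ∀ x : M, r.hom (i.hom x) = x := fun x => by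
    have := congrArg (fun f => f.hom x) h
    simpa using this
  have hr : Function.Surjective r.hom := fun x => ⟨i.hom x, hx x⟩
  refine ⟨Module.Finite.of_surjective r.hom hr, ?_⟩
  exact Module.Projective.of_split i.hom r.hom (by ext x; exact hx x)

lemma epi_toCycles_of_exactAt (E : Cx A) (j k : ℤ) (hjk : j + 1 = k) (h : E.ExactAt k) :
    Epi (E.toCycles j k) := by
  have hz : IsZero (E.homology k) := h.isZero_homology
  exact Preadditive.epi_of_isZero_cokernel' _
    (E.homologyIsCokernel j k (by simp [← hjk])) hz

/-- In a bounded above complex of finite projective modules which is exact in degrees `> m`, the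
cycles in degrees `≥ m` are finite projective. -/
theorem cycles_finite_projective (E : Cx A) (b m : ℤ) (hb : ∀ i, b < i → IsZero (E.X i))
    (hfp : TermwiseFiniteProjective E) (hex : ∀ i, m < i → E.ExactAt i) :
    ∀ j, m ≤ j → Module.Finite A (E.cycles j) ∧ Module.Projective A (E.cycles j) := by
  have base : ∀ j, b ≤ j → Module.Finite A (E.cycles j) ∧ Module.Projective A (E.cycles j) := by
    intro j hj
    have hd : E.d j (j + 1) = 0 := (hb (j + 1) (by omega)).eq_of_tgt _ _
    haveI := E.isIso_iCycles j (j + 1) (by simp) hd
    exact ⟨finite_of_iso (asIso (E.iCycles j)).symm (hfp j).1,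
      projective_of_iso (asIso (E.iCycles j)).symm (hfp j).2⟩
  have key : ∀ (k : ℕ) (j : ℤ), m ≤ j → b ≤ j + k →
      Module.Finite A (E.cycles j) ∧ Module.Projective A (E.cycles j) := by
    intro k
    induction k with
    | zero => intro j _ hj; exact base j (by simpa using hj)
    | succ k ih =>
      intro j hmj hj
      obtain ⟨hf1, hp1⟩ := ih (j + 1) (by omega) (by push_cast at hj ⊢; omega)
      haveI hepi : Epi (E.toCycles j (j + 1)) :=
        epi_toCycles_of_exactAt E j (j + 1) rfl (hex (j + 1) (by omega))
      haveI : Projective (E.cycles (j + 1)) := (IsProjective.iff_projective (E.cycles (j + 1))).1 hp1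
      let s : E.cycles (j + 1) ⟶ E.X j := Projective.factorThru (𝟙 _) (E.toCycles j (j + 1))
      have hs : s ≫ E.toCycles j (j + 1) = 𝟙 _ := Projective.factorThru_comp _ _
      have hz : (𝟙 (E.X j) - E.toCycles j (j + 1) ≫ s) ≫ E.d j (j + 1) = 0 := by
        rw [Preadditive.sub_comp, Category.id_comp, Category.assoc, ← E.toCycles_i j (j + 1),
          reassoc_of% hs, sub_self]
      let r : E.X j ⟶ E.cycles j := E.liftCycles _ (j + 1) (by simp) hz
      have h0 : E.iCycles j ≫ E.toCycles j (j + 1) = 0 := by
        rw [← cancel_mono (E.iCycles (j + 1)), Category.assoc, E.toCycles_i, E.iCycles_d,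
          zero_comp]
      have hir : E.iCycles j ≫ r = 𝟙 _ := by
        rw [← cancel_mono (E.iCycles j), Category.assoc, E.liftCycles_i, Preadditive.comp_sub,
          Category.comp_id, reassoc_of% h0, zero_comp, sub_zero, Category.id_comp]
      exact finite_projective_of_retract (E.iCycles j) r hir (hfp j).1 (hfp j).2
  intro j hj
  exact key (b - j).toNat j hj (by omega)

lemma exactAt_of_isZero_homology_toD (E : Cx A) (i : ℤ)
    (h : IsZero ((DerivedCategory.homologyFunctor (ModuleCat.{u} A) i).obj (toD E))) :
    E.ExactAt i := by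
  rw [HomologicalComplex.exactAt_iff_isZero_homology]
  exact IsZero.of_iso h ((homologyFunctorFactors (ModuleCat.{u} A) i).app E).symm

lemma termwiseFiniteProjective_of_free {E : Cx A} (h : TermwiseFiniteFree E) :
    TermwiseFiniteProjective E := fun i => by
  haveI := (h i).2
  exact ⟨(h i).1, inferInstance⟩

lemma surjective_of_epi {M N : ModuleCat.{u} A} (f : M ⟶ N) [Epi f] : Function.Surjective f.hom :=
  (ModuleCat.epi_iff_surjective f).1 inferInstance

/-- Finiteness of the top cohomology of an `m`-pseudo-coherent object. -/
theorem finite_HD_of_isPseudoCoherent (K : Dual.D A) (m : ℤ) (hK : IsPseudoCoherent A m K)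
    (hz : ∀ i : ℤ, m < i →
      IsZero ((DerivedCategory.homologyFunctor (ModuleCat.{u} A) i).obj K)) :
    Module.Finite A ((DerivedCategory.homologyFunctor (ModuleCat.{u} A) m).obj K) := by
  obtain ⟨E, a, b, α, hab, hff, hiso, hepi⟩ := hK
  have hex : ∀ i, m < i → E.ExactAt i := fun i hi => by
    haveI := hiso i hi
    exact exactAt_of_isZero_homology_toD E i
      (IsZero.of_iso (hz i hi) (asIso ((DerivedCategory.homologyFunctor _ i).map α)))
  have hc := (cycles_finite_projective E b m (fun i hi => hab i (Or.inr hi))
    (termwiseFiniteProjective_of_free hff) hex m le_rfl).1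
  have h1 : Module.Finite A (E.homology m) :=
    Module.Finite.of_surjective (E.homologyπ m).hom (surjective_of_epi _)
  have h2 : Module.Finite A ((DerivedCategory.homologyFunctor (ModuleCat.{u} A) m).obj (toD E)) :=
    finite_of_iso ((homologyFunctorFactors (ModuleCat.{u} A) m).app E).symm h1
  exact Module.Finite.of_surjective ((DerivedCategory.homologyFunctor _ m).map α).hom
    (surjective_of_epi _)

/-- Finite presentation of the top cohomology of an `m`-pseudo-coherent object with no
cohomology above degree `m + 1`. -/
theorem finitePresentation_HD_of_isPseudoCoherent (K : Dual.D A) (m n : ℤ) (hn : m + 1 = n)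
    (hK : IsPseudoCoherent A m K)
    (hz : ∀ i : ℤ, n < i →
      IsZero ((DerivedCategory.homologyFunctor (ModuleCat.{u} A) i).obj K)) :
    Module.FinitePresentation A ((DerivedCategory.homologyFunctor (ModuleCat.{u} A) n).obj K) := by
  obtain ⟨E, a, b, α, hab, hff, hiso, hepi⟩ := hK
  have hex : ∀ i, n < i → E.ExactAt i := fun i hi => by
    haveI := hiso i (by omega)
    exact exactAt_of_isZero_homology_toD E i
      (IsZero.of_iso (hz i hi) (asIso ((DerivedCategory.homologyFunctor _ i).map α)))
  obtain ⟨hc1, hc2⟩ := cycles_finite_projective E b n (fun i hi => hab i (Or.inr hi))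
    (termwiseFiniteProjective_of_free hff) hex n le_rfl
  haveI : Module.FinitePresentation A (E.cycles n) := Module.finitePresentation_of_projective _ _
  have hS : (ShortComplex.mk (E.toCycles m n) (E.homologyπ n)
      (E.toCycles_comp_homologyπ m n)).Exact :=
    ShortComplex.exact_of_g_is_cokernel _ (E.homologyIsCokernel m n (by simp [← hn]))
  have hker : (LinearMap.ker (E.homologyπ n).hom).FG := by
    have := (ShortComplex.moduleCat_exact_iff_range_eq_ker _).1 hS
    dsimp at this
    rw [← this, LinearMap.range_eq_map]
    haveI := (hff m).1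
    exact Submodule.FG.map _ Module.Finite.fg_top
  have h1 : Module.FinitePresentation A (E.homology n) :=
    Module.finitePresentation_of_surjective (E.homologyπ n).hom (surjective_of_epi _) hker
  have h2 : Module.FinitePresentation A
      ((DerivedCategory.homologyFunctor (ModuleCat.{u} A) n).obj (toD E)) :=
    finitePresentation_of_iso ((homologyFunctorFactors (ModuleCat.{u} A) n).app E).symm h1
  haveI := hiso n (by omega)
  exact finitePresentation_of_iso (asIso ((DerivedCategory.homologyFunctor _ n).map α)) h2

/-! ### homology of stalk complexes in `D(A)` -/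

/-- `H^0(M[0]) ≅ M`. -/
noncomputable def HDinDIso (M : ModuleCat.{u} A) :
    (DerivedCategory.homologyFunctor (ModuleCat.{u} A) 0).obj
      ((DerivedCategory.singleFunctor (ModuleCat.{u} A) 0).obj M) ≅ M :=
  (DerivedCategory.homologyFunctor _ 0).mapIso ((singleFunctorIsoCompQ _ 0).app M) ≪≫
    (homologyFunctorFactors (ModuleCat.{u} A) 0).app _ ≪≫
      HomologicalComplex.singleObjHomologySelfIso _ 0 M

lemma isZero_HD_inD (M : ModuleCat.{u} A) (i : ℤ) (hi : i ≠ 0) :
    IsZero ((DerivedCategory.homologyFunctor (ModuleCat.{u} A) i).obj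
      ((DerivedCategory.singleFunctor (ModuleCat.{u} A) 0).obj M)) := by
  rcases lt_or_gt_of_ne hi with h | h
  · exact DerivedCategory.isZero_of_isGE _ 0 i h
  · exact DerivedCategory.isZero_of_isLE _ 0 i h

/-! ### elementwise criteria for homology maps -/

lemma mono_homologyMap_of_ker_le_range {K L : Cx A} (φ : K ⟶ L) (i j : ℤ) (hij : i + 1 = j)
    (h : ∀ x : K.X j, (φ.f j).hom x = 0 → ∃ y : K.X i, (K.d i j).hom y = x)
    (hL : L.d i j = 0) : Mono (HomologicalComplex.homologyMap φ j) := by
  rw [ModuleCat.mono_iff_injective]
  rw [injective_iff_map_eq_zero]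
  intro x hx
  obtain ⟨z, rfl⟩ := surjective_of_epi (K.homologyπ j) x
  haveI : IsIso (L.homologyπ j) := L.isIso_homologyπ i j (by simp [← hij]) hL
  have h1 : (L.homologyπ j).hom ((HomologicalComplex.cyclesMap φ j).hom z) = 0 := by
    have := congrArg (fun f => f.hom z) (HomologicalComplex.homologyπ_naturality φ j)
    simp only [ModuleCat.hom_comp, LinearMap.comp_apply] at this
    rw [← this]; exact hx
  have h2 : (HomologicalComplex.cyclesMap φ j).hom z = 0 := by
    have hinj : Function.Injective (L.homologyπ j).hom :=
      (ModuleCat.mono_iff_injective _).1 inferInstance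
    exact hinj (by rw [h1, map_zero])
  have h3 : (φ.f j).hom ((K.iCycles j).hom z) = 0 := by
    have := congrArg (fun f => f.hom z) (HomologicalComplex.cyclesMap_i φ j)
    simp only [ModuleCat.hom_comp, LinearMap.comp_apply] at this
    rw [← this, h2, map_zero]
  obtain ⟨y, hy⟩ := h _ h3
  have h4 : (K.toCycles i j).hom y = z := by
    have hinj : Function.Injective (K.iCycles j).hom :=
      (ModuleCat.mono_iff_injective _).1 inferInstance
    apply hinj
    have := congrArg (fun f => f.hom y) (K.toCycles_i i j)
    simp only [ModuleCat.hom_comp, LinearMap.comp_apply] at this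
    rw [this, hy]
  have := congrArg (fun f => f.hom y) (K.toCycles_comp_homologyπ i j)
  simp only [ModuleCat.hom_comp, LinearMap.comp_apply] at this
  rw [← h4, this]
  rfl

lemma epi_homologyMap_of_surjective {K L : Cx A} (φ : K ⟶ L) (j k : ℤ) (hjk : j + 1 = k)
    (h : Function.Surjective (φ.f j).hom) (hK : K.d j k = 0) :
    Epi (HomologicalComplex.homologyMap φ j) := by
  rw [ModuleCat.epi_iff_surjective]
  intro y
  obtain ⟨z, rfl⟩ := surjective_of_epi (L.homologyπ j) y
  obtain ⟨x, hx⟩ := h ((L.iCycles j).hom z)
  haveI : IsIso (K.iCycles j) := K.isIso_iCycles j k (by simp [← hjk]) hK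
  obtain ⟨x', rfl⟩ := surjective_of_epi (K.iCycles j) x
  have h1 : (HomologicalComplex.cyclesMap φ j).hom x' = z := by
    have hinj : Function.Injective (L.iCycles j).hom :=
      (ModuleCat.mono_iff_injective _).1 inferInstance
    apply hinj
    have := congrArg (fun f => f.hom x') (HomologicalComplex.cyclesMap_i φ j)
    simp only [ModuleCat.hom_comp, LinearMap.comp_apply] at this
    rw [this, hx]
  refine ⟨(K.homologyπ j).hom x', ?_⟩
  have := congrArg (fun f => f.hom x') (HomologicalComplex.homologyπ_naturality φ j)
  simp only [ModuleCat.hom_comp, LinearMap.comp_apply] at this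
  rw [this, h1]

end Groth.Agent.Lib.DMod_helper6
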