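import Mathlib
import Groth.Prelude.Def_DRing2
import Groth.Agent.Lib.DMod9_helper6

/-!
# Derived category toolkit (helper6), part 10: `m`-pseudo-coherence as an extension product,
two-out-of-three for `m`-pseudo-coherent objects.
-/

set_option autoImplicit false
universe u
open CategoryTheory CategoryTheory.Limits Pretriangulated DerivedCategory ZeroObject
attribute [local instance] HasDerivedCategory.standard

namespace Groth.Agent.Lib.DMod_helper6

open DRing ObjectProperty

variable {A : Type u} [CommRing A]

/-- Morphisms from a K-projective complex concentrated in degrees `> n` to an object which is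
`≤ n` vanish. -/
lemma hom_eq_zero_of_isKProjective_of_isLE (P : Cx A) [P.IsKProjective] (n : ℤ)
    (hP : ∀ i, i ≤ n → IsZero (P.X i)) (Y : Dual.D A) [DerivedCategory.IsLE Y n]
    (g : toD P ⟶ Y) : g = 0 := by
  obtain ⟨Y', _, ⟨e⟩⟩ := DerivedCategory.exists_iso_Q_obj_of_isLE Y n
  obtain ⟨φ, hφ⟩ := exists_Q_map_eq_of_isKProjective (g ≫ e.hom)
  have h0 : φ = 0 := by
    ext i : 1
    by_cases hi : i ≤ n
    · exact (hP i hi).eq_of_src _ _
    · exact (CochainComplex.isZero_of_isStrictlyLE Y' n i (by omega)).eq_of_tgt _ _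
  rw [h0, Functor.map_zero] at hφ
  rw [← cancel_mono e.hom, ← hφ, zero_comp]

/-! ### bounded complexes of finite free modules -/

/-- bounded complexes of finite free modules -/
def bfCls (E : Cx A) : Prop := ∃ a b : ℤ, VanishesOutside E a b ∧ TermwiseFiniteFree E

/-- bounded complexes of finite free modules vanishing below `p` -/
def bfGECls (p : ℤ) (E : Cx A) : Prop := bfCls E ∧ ∀ i, i < p → IsZero (E.X i)

lemma perfCls_of_bfCls {E : Cx A} (h : bfCls E) : perfCls E := by
  obtain ⟨a, b, h1, h2⟩ := h
  exact ⟨a, b, h1, termwiseFiniteProjective_of_free h2⟩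

lemma isKProjective_of_bfCls {E : Cx A} (h : bfCls E) : E.IsKProjective :=
  isKProjective_of_perfCls (perfCls_of_bfCls h)

lemma bfCls_zero : ∃ Z : Cx A, IsZero Z ∧ bfCls Z := by
  refine ⟨0, isZero_zero _, 0, 0, fun i _ => isZero_X_of_isZero (isZero_zero _) i, fun i => ?_⟩
  haveI : Subsingleton ((0 : Cx A).X i) :=
    ModuleCat.subsingleton_of_isZero (isZero_X_of_isZero (isZero_zero _) i)
  exact ⟨inferInstance, inferInstance⟩

lemma bfCls_shift (E : Cx A) (n : ℤ) : bfCls E → bfCls (E⟦n⟧) := by
  rintro ⟨a, b, h1, h2⟩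
  refine ⟨a - n, b - n, fun i hi => ?_, fun i => ?_⟩
  · exact h1 (i + n) (by omega)
  · exact h2 (i + n)

lemma bfCls_cone (E F : Cx A) (f : E ⟶ F) :
    bfCls E → bfCls F → bfCls (CochainComplex.mappingCone f) := by
  rintro ⟨a, b, h1, h2⟩ ⟨a', b', h1', h2'⟩
  refine ⟨min (a - 1) a', max (b - 1) b', fun i hi => ?_, fun i => ?_⟩
  · refine IsZero.of_iso (isZero_biprod (h1 (i + 1) ?_) (h1' i ?_)) (coneXIso f i)
    · rcases hi with hi | hi
      · left; have := min_le_left (a - 1) a'; omega
      · right; have := le_max_left (b - 1) b'; omega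
    · rcases hi with hi | hi
      · left; have := min_le_right (a - 1) a'; omega
      · right; have := le_max_right (b - 1) b'; omega
  · exact ⟨finite_of_iso (coneXIso f i).symm (finite_biprod (h2 (i + 1)).1 (h2' i).1),
      free_of_iso (coneXIso f i).symm (free_biprod (h2 (i + 1)).2 (h2' i).2)⟩

variable (A) in
/-- objects of `D(A)` represented by bounded complexes of finite free modules -/
def bfProp : ObjectProperty (Dual.D A) := rep bfCls

instance : (bfProp A).IsClosedUnderIsomorphisms := by
  unfold bfProp; infer_instance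

instance bfProp_isTriangulated : (bfProp A).IsTriangulated := by
  unfold bfProp
  exact rep_isTriangulated _ bfCls_zero bfCls_shift bfCls_cone
    (fun E F hE _ φ => by
      haveI := isKProjective_of_bfCls hE
      exact exists_Q_map_eq_of_isKProjective φ)

/-! ### objects which are `≤ n` -/

variable (A) in
/-- objects of `D(A)` which are `≤ n` for the canonical t-structure -/
def leP (n : ℤ) : ObjectProperty (Dual.D A) := fun X => DerivedCategory.IsLE X n

instance (n : ℤ) : (leP A n).IsClosedUnderIsomorphisms where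
  of_iso e h := by
    haveI : DerivedCategory.IsLE _ n := h
    exact TStructure.t.isLE_of_iso e n

instance (n : ℤ) : (leP A n).ContainsZero :=
  ⟨⟨0, isZero_zero _, TStructure.t.isLE_of_isZero (isZero_zero _) n⟩⟩

lemma leP_ext (n : ℤ) : extensionProduct (leP A n) (leP A n) ≤ leP A n := by
  rintro X ⟨Y, Z, f, g, h, hT, hY, hZ⟩
  exact TStructure.t.isLE₂ _ hT n hY hZ

lemma leP_single (M : ModuleCat.{u} A) (a n : ℤ) (h : a ≤ n) :
    leP A n (toD ((HomologicalComplex.single _ (ComplexShape.up ℤ) a).obj M)) := by
  haveI : DerivedCategory.IsLE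
      (toD ((HomologicalComplex.single _ (ComplexShape.up ℤ) a).obj M)) a :=
    TStructure.t.isLE_of_iso ((singleFunctorIsoCompQ _ a).app M) a
  exact TStructure.t.isLE_of_le _ a n h

/-! ### brutal truncation as an extension -/

theorem trunc_extension (p : ℤ) (n : ℕ) : ∀ (a : ℤ) (E : Cx A), bfCls E →
    (∀ i, i < a → IsZero (E.X i)) → p ≤ a + n →
    extensionProduct (rep (bfGECls p)) (leP A (p - 1)) (toD E) := by
  induction n with
  | zero =>
    intro a E hE ha hp
    exact le_extensionProduct_left (leP A (p - 1)) _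
      ⟨E, ⟨hE, fun i hi => ha i (by omega)⟩, ⟨Iso.refl _⟩⟩
  | succ n ih =>
    intro a E hE ha hp
    by_cases hpa : p ≤ a
    · exact le_extensionProduct_left (leP A (p - 1)) _
        ⟨E, ⟨hE, fun i hi => ha i (by omega)⟩, ⟨Iso.refl _⟩⟩
    · obtain ⟨a₀, b₀, hab, hff⟩ := hE
      let f : E ⟶ (HomologicalComplex.single _ (ComplexShape.up ℤ) a).obj (E.X a) :=
        HomologicalComplex.mkHomToSingle (𝟙 _)
          (fun i hi => (ha i (by simp at hi; omega)).eq_of_src _ _)
      have hfa : IsIso (f.f a) := by
        rw [HomologicalComplex.mkHomToSingle_f]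
        infer_instance
      have htgt : ∀ i, i ≠ a →
          IsZero (((HomologicalComplex.single (ModuleCat.{u} A) (ComplexShape.up ℤ) a).obj
            (E.X a)).X i) :=
        fun i hi => HomologicalComplex.isZero_single_obj_X _ a _ i hi
      haveI : Epi f := by
        refine HomologicalComplex.epi_of_epi_f f (fun i => ?_)
        by_cases h : i = a
        · subst h; infer_instance
        · exact ⟨fun g h' _ => (htgt i h).eq_of_src g h'⟩
      have hS : (ShortComplex.kernelSequence f).ShortExact :=
        ShortComplex.ShortExact.mk' (ShortComplex.kernelSequence_exact f) inferInstance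
          (by show Epi f; infer_instance)
      let e : ∀ i, (kernel f).X i ≅ kernel (f.f i) := fun i =>
        PreservesKernel.iso (HomologicalComplex.eval _ _ i) f
      have hker_zero : ∀ i, IsZero (E.X i) → IsZero ((kernel f).X i) := fun i hi =>
        IsZero.of_iso (IsZero.of_mono (kernel.ι (f.f i)) hi) (e i)
      have hker_a : IsZero ((kernel f).X a) :=
        IsZero.of_iso (isZero_kernel_of_mono (f.f a)) (e a)
      have hker_iso : ∀ i, i ≠ a → Nonempty ((kernel f).X i ≅ E.X i) := fun i hi => by
        have h0 : f.f i = 0 := (htgt i hi).eq_of_tgt _ _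
        refine ⟨e i ≪≫ ?_⟩
        rw [h0]
        exact asIso (kernel.ι (0 : E.X i ⟶ _))
      have hbf : bfCls (kernel f) := by
        refine ⟨a₀, b₀, fun i hi => hker_zero i (hab i hi), fun i => ?_⟩
        by_cases h : i = a
        · subst h
          haveI : Subsingleton ((kernel f).X i) := ModuleCat.subsingleton_of_isZero hker_a
          exact ⟨inferInstance, inferInstance⟩
        · obtain ⟨e'⟩ := hker_iso i h
          exact ⟨finite_of_iso e'.symm (hff i).1, free_of_iso e'.symm (hff i).2⟩
      have h1 : extensionProduct (rep (bfGECls p)) (leP A (p - 1)) (toD (kernel f)) := by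
        refine ih (a + 1) (kernel f) hbf (fun i hi => ?_) (by push_cast at hp; omega)
        by_cases h : i = a
        · subst h; exact hker_a
        · exact hker_zero i (ha i (by omega))
      have h3 : leP A (p - 1)
          (toD ((HomologicalComplex.single _ (ComplexShape.up ℤ) a).obj (E.X a))) :=
        leP_single _ a (p - 1) (by omega)
      have h2 : extensionProduct (extensionProduct (rep (bfGECls p)) (leP A (p - 1)))
          (leP A (p - 1)) (toD E) :=
        ⟨_, _, _, _, _, triangleOfSES_distinguished hS, h1, h3⟩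
      rw [extensionProduct_assoc] at h2
      exact monotone_extensionProduct_right _ (leP_ext _) _ h2

lemma swap_aux (n : ℤ) : extensionProduct (leP A n) (rep (bfGECls (n + 1))) ≤
    extensionProduct (bfProp A) (leP A n) := by
  rintro X ⟨D, B, f, g, h, hT, hD, ⟨P, ⟨hP, hPz⟩, ⟨e⟩⟩⟩
  haveI : DerivedCategory.IsLE D n := hD
  haveI : DerivedCategory.IsLE (D⟦(1 : ℤ)⟧) (n - 1) :=
    TStructure.t.isLE_shift D n 1 (n - 1) (by omega)
  haveI : DerivedCategory.IsLE (D⟦(1 : ℤ)⟧) n := TStructure.t.isLE_of_le _ (n - 1) n (by omega)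
  haveI := isKProjective_of_bfCls hP
  have h0 : h = 0 := by
    have := hom_eq_zero_of_isKProjective_of_isLE P n (fun i hi => hPz i (by omega)) _ (e.hom ≫ h)
    rw [← cancel_epi e.hom, this, comp_zero]
  obtain ⟨e', -, -⟩ := exists_iso_binaryBiproduct_of_distTriang _ hT h0
  have hBD : extensionProduct (bfProp A) (leP A n) (B ⊞ D) :=
    ⟨B, D, biprod.inl, biprod.snd, 0, binaryBiproductTriangle_distinguished B D,
      ⟨P, hP, ⟨e⟩⟩, hD⟩
  exact (extensionProduct (bfProp A) (leP A n)).prop_of_iso
    ((biprod.braiding B D) ≪≫ e'.symm) hBD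

lemma swap (n : ℤ) : extensionProduct (leP A n) (bfProp A) ≤
    extensionProduct (bfProp A) (leP A n) := by
  have hT : bfProp A ≤ extensionProduct (rep (bfGECls (n + 1))) (leP A n) := by
    rintro B ⟨E, hE, ⟨e⟩⟩
    obtain ⟨a, b, h1, h2⟩ := hE
    have := trunc_extension (n + 1) (n + 1 - a).toNat a E ⟨a, b, h1, h2⟩
      (fun i hi => h1 i (Or.inl hi)) (by omega)
    rw [show n + 1 - 1 = n by ring] at this
    exact (extensionProduct _ _).prop_of_iso e this
  calc extensionProduct (leP A n) (bfProp A)
      ≤ extensionProduct (leP A n) (extensionProduct (rep (bfGECls (n + 1))) (leP A n)) :=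
        monotone_extensionProduct_right _ hT
    _ = extensionProduct (extensionProduct (leP A n) (rep (bfGECls (n + 1)))) (leP A n) :=
        (extensionProduct_assoc _ _ _).symm
    _ ≤ extensionProduct (extensionProduct (bfProp A) (leP A n)) (leP A n) :=
        monotone_extensionProduct_left _ (swap_aux n)
    _ = extensionProduct (bfProp A) (extensionProduct (leP A n) (leP A n)) :=
        extensionProduct_assoc _ _ _
    _ ≤ extensionProduct (bfProp A) (leP A n) := monotone_extensionProduct_right _ (leP_ext n)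

variable (A) in
/-- `m`-pseudo-coherent objects, as an extension product -/
def pcmP (m : ℤ) : ObjectProperty (Dual.D A) := extensionProduct (bfProp A) (leP A (m - 1))

instance (m : ℤ) : (pcmP A m).IsClosedUnderIsomorphisms := by
  unfold pcmP; infer_instance

lemma pcmP_ext (m : ℤ) : extensionProduct (pcmP A m) (pcmP A m) ≤ pcmP A m := by
  unfold pcmP
  calc extensionProduct (extensionProduct (bfProp A) (leP A (m - 1)))
        (extensionProduct (bfProp A) (leP A (m - 1)))
      = extensionProduct (bfProp A) (extensionProduct (leP A (m - 1))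
          (extensionProduct (bfProp A) (leP A (m - 1)))) := extensionProduct_assoc _ _ _
    _ = extensionProduct (bfProp A) (extensionProduct (extensionProduct (leP A (m - 1))
          (bfProp A)) (leP A (m - 1))) := by rw [extensionProduct_assoc (leP A (m - 1))]
    _ ≤ extensionProduct (bfProp A) (extensionProduct (extensionProduct (bfProp A)
          (leP A (m - 1))) (leP A (m - 1))) :=
        monotone_extensionProduct_right _ (monotone_extensionProduct_left _ (swap (m - 1)))
    _ = extensionProduct (bfProp A) (extensionProduct (bfProp A)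
          (extensionProduct (leP A (m - 1)) (leP A (m - 1)))) := by
        rw [extensionProduct_assoc (bfProp A) (leP A (m - 1))]
    _ ≤ extensionProduct (bfProp A) (extensionProduct (bfProp A) (leP A (m - 1))) :=
        monotone_extensionProduct_right _ (monotone_extensionProduct_right _ (leP_ext _))
    _ = extensionProduct (extensionProduct (bfProp A) (bfProp A)) (leP A (m - 1)) :=
        (extensionProduct_assoc _ _ _).symm
    _ ≤ extensionProduct (bfProp A) (leP A (m - 1)) :=
        monotone_extensionProduct_left _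
          (extensionProduct_le_of_isTriangulatedClosed₂ le_rfl le_rfl)

lemma isPseudoCoherent_iff_pcmP (m : ℤ) (K : Dual.D A) :
    IsPseudoCoherent A m K ↔ pcmP A m K := by
  constructor
  · rintro ⟨E, a, b, α, hab, hff, hiso, hepi⟩
    obtain ⟨Z, g, h, hT⟩ := distinguished_cocone_triangle α
    refine ⟨toD E, Z, α, g, h, hT, ⟨E, ⟨a, b, hab, hff⟩, ⟨Iso.refl _⟩⟩, ?_⟩
    show DerivedCategory.IsLE Z (m - 1)
    rw [DerivedCategory.isLE_iff]
    intro i hi
    have hepi_i : Epi ((DerivedCategory.homologyFunctor _ i).map α) := by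
      rcases eq_or_lt_of_le (show m ≤ i by omega) with h | h
      · subst h; exact hepi
      · haveI := hiso i h; infer_instance
    haveI := hiso (i + 1) (by omega)
    have h1 : (DerivedCategory.homologyFunctor _ i).map g = 0 :=
      (HomologySequence.epi_homologyMap_mor₁_iff _ hT i).1 hepi_i
    have h2 : HomologySequence.δ (Triangle.mk α g h) i (i + 1) rfl = 0 :=
      (HomologySequence.mono_homologyMap_mor₁_iff _ hT i (i + 1) rfl).1
        (show Mono ((DerivedCategory.homologyFunctor (ModuleCat.{u} A) (i + 1)).map α) from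
          inferInstance)
    exact (HomologySequence.exact₃ _ hT i (i + 1) rfl).isZero_of_both_zeros h1 h2
  · rintro ⟨X, Z, f, g, h, hT, ⟨E, ⟨a, b, hab, hff⟩, ⟨e⟩⟩, hZ⟩
    haveI : DerivedCategory.IsLE Z (m - 1) := hZ
    have hepi : ∀ i, m ≤ i → Epi ((DerivedCategory.homologyFunctor _ i).map f) := fun i hi =>
      (HomologySequence.epi_homologyMap_mor₁_iff _ hT i).2
        ((DerivedCategory.isZero_of_isLE Z (m - 1) i (by omega)).eq_of_tgt _ _)
    have hmono : ∀ i, m < i → Mono ((DerivedCategory.homologyFunctor _ i).map f) := fun i hi =>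
      (HomologySequence.mono_homologyMap_mor₁_iff _ hT (i - 1) i (by omega)).2
        ((DerivedCategory.isZero_of_isLE Z (m - 1) (i - 1) (by omega)).eq_of_src _ _)
    refine ⟨E, a, b, e.hom ≫ f, hab, hff, fun i hi => ?_, ?_⟩
    · haveI := hepi i hi.le
      haveI := hmono i hi
      haveI : IsIso ((DerivedCategory.homologyFunctor (ModuleCat.{u} A) i).map f) :=
        isIso_of_mono_of_epi _
      rw [Functor.map_comp]; infer_instance
    · haveI := hepi m le_rfl
      rw [Functor.map_comp]; infer_instance

lemma pcmP_shift (m a m' : ℤ) (h : m' + a = m) (K : Dual.D A) (hK : pcmP A m K) :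
    pcmP A m' (K⟦a⟧) := by
  obtain ⟨Y, Z, f, g, h', hT, hY, hZ⟩ := hK
  refine ⟨_, _, _, _, _, Triangle.shift_distinguished _ hT a, (bfProp A).le_shift a _ hY, ?_⟩
  haveI : DerivedCategory.IsLE Z (m - 1) := hZ
  exact TStructure.t.isLE_shift Z (m - 1) a (m' - 1) (by omega)

/-- Two-out-of-three for `m`-pseudo-coherence. -/
theorem isPseudoCoherent_two_of_three (T : Triangle (Dual.D A)) (hT : T ∈ distTriang _) (m : ℤ) :
    (IsPseudoCoherent A (m + 1) T.obj₁ → IsPseudoCoherent A m T.obj₂ →
        IsPseudoCoherent A m T.obj₃) ∧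
      (IsPseudoCoherent A m T.obj₁ → IsPseudoCoherent A m T.obj₃ →
        IsPseudoCoherent A m T.obj₂) ∧
      (IsPseudoCoherent A (m + 1) T.obj₂ → IsPseudoCoherent A m T.obj₃ →
        IsPseudoCoherent A (m + 1) T.obj₁) := by
  simp only [isPseudoCoherent_iff_pcmP]
  refine ⟨fun h1 h2 => ?_, fun h1 h3 => ?_, fun h2 h3 => ?_⟩
  · have h1' : pcmP A m (T.obj₁⟦(1 : ℤ)⟧) := pcmP_shift (m + 1) 1 m rfl _ h1
    exact pcmP_ext m _ ⟨_, _, _, _, _, rot_of_distTriang _ hT, h2, h1'⟩
  · exact pcmP_ext m _ ⟨_, _, _, _, _, hT, h1, h3⟩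
  · have h3' : pcmP A (m + 1) (T.obj₃⟦(-1 : ℤ)⟧) := pcmP_shift m (-1) (m + 1) (by omega) _ h3
    exact pcmP_ext (m + 1) _ ⟨_, _, _, _, _, inv_rot_of_distTriang _ hT, h3', h2⟩

end Groth.Agent.Lib.DMod_helper6
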