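import Mathlib
import Groth.Prelude.Def_DRing2
import Groth.Agent.Lib.DMod10_helper6
import Groth.Agent.Lib.DerivedTrunc_helper2

/-!
# Derived category toolkit (helper6), part 11: `m`-pseudo-coherence of modules and of objects
with finitely generated / finitely presented top cohomology.
-/

set_option autoImplicit false
universe u
open CategoryTheory CategoryTheory.Limits Pretriangulated DerivedCategory ZeroObject
attribute [local instance] HasDerivedCategory.standard

namespace Groth.Agent.Lib.DMod_helper6

open DRing ObjectProperty Groth.Agent.Lib.DerivedTrunc_helper2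

variable {A : Type u} [CommRing A]

lemma bfCls_single (F : ModuleCat.{u} A) (hF : Module.Finite A F) (hF' : Module.Free A F) (a : ℤ) :
    bfCls ((HomologicalComplex.single _ (ComplexShape.up ℤ) a).obj F) := by
  refine ⟨a, a, fun i hi => HomologicalComplex.isZero_single_obj_X _ a _ i (by omega),
    fun i => ?_⟩
  by_cases h : i = a
  · subst h
    exact ⟨finite_of_iso (HomologicalComplex.singleObjXSelf _ i F).symm hF,
      free_of_iso (HomologicalComplex.singleObjXSelf _ i F).symm hF'⟩
  · haveI : Subsingleton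
        (((HomologicalComplex.single (ModuleCat.{u} A) (ComplexShape.up ℤ) a).obj F).X i) :=
      ModuleCat.subsingleton_of_isZero (HomologicalComplex.isZero_single_obj_X _ a _ i h)
    exact ⟨inferInstance, inferInstance⟩

lemma bfProp_single (F : ModuleCat.{u} A) (hF : Module.Finite A F) (hF' : Module.Free A F) :
    bfProp A ((DerivedCategory.singleFunctor _ 0).obj F) :=
  ⟨_, bfCls_single F hF hF' 0, ⟨((singleFunctorIsoCompQ _ 0).app F).symm⟩⟩

lemma bfProp_le_pcmP (m : ℤ) : bfProp A ≤ pcmP A m :=
  le_extensionProduct_left (leP A (m - 1))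

lemma leP_le_pcmP (m : ℤ) : leP A (m - 1) ≤ pcmP A m :=
  le_extensionProduct_right (bfProp A)

lemma shortExact_of_surjective {F M : Type u} [AddCommGroup F] [Module A F] [AddCommGroup M]
    [Module A M] (p : F →ₗ[A] M) (hp : Function.Surjective p) :
    (ShortComplex.mk (ModuleCat.ofHom (LinearMap.ker p).subtype) (ModuleCat.ofHom p)
      (by ext x; exact LinearMap.mem_ker.1 x.2)).ShortExact := by
  refine ShortComplex.ShortExact.mk' ?_ ?_ ?_
  · rw [ShortComplex.moduleCat_exact_iff_range_eq_ker]
    simp
  · exact (ModuleCat.mono_iff_injective _).2 (Submodule.injective_subtype _)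
  · exact (ModuleCat.epi_iff_surjective _).2 hp

/-- A finite module is `0`-pseudo-coherent. -/
theorem isPseudoCoherentModule_zero_of_finite (M : Type u) [AddCommGroup M] [Module A M]
    [Module.Finite A M] : IsPseudoCoherentModule A 0 M := by
  obtain ⟨n, p, hp⟩ := Module.Finite.exists_fin' A M
  have hS := shortExact_of_surjective p hp
  unfold IsPseudoCoherentModule
  rw [isPseudoCoherent_iff_pcmP]
  refine ⟨_, _, _, _, _, rot_of_distTriang _ hS.singleTriangle_distinguished,
    bfProp_single _ inferInstance inferInstance, ?_⟩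
  exact TStructure.t.isLE_shift ((DerivedCategory.singleFunctor (ModuleCat.{u} A) 0).obj
    (ModuleCat.of A (LinearMap.ker p))) 0 1 (0 - 1) (by norm_num)

/-- A finitely presented module is `(-1)`-pseudo-coherent. -/
theorem isPseudoCoherentModule_negOne_of_fp (M : Type u) [AddCommGroup M] [Module A M]
    [Module.FinitePresentation A M] : IsPseudoCoherentModule A (-1) M := by
  obtain ⟨n, p, hp⟩ := Module.Finite.exists_fin' A M
  have hker : (LinearMap.ker p).FG := Module.FinitePresentation.fg_ker p hp
  haveI : Module.Finite A (LinearMap.ker p) := Module.Finite.iff_fg.2 hker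
  have hS := shortExact_of_surjective p hp
  have h1 : IsPseudoCoherent A ((-1 : ℤ) + 1) (Dual.inD A (LinearMap.ker p)) := by
    rw [show ((-1 : ℤ) + 1) = 0 by norm_num]
    exact isPseudoCoherentModule_zero_of_finite (LinearMap.ker p)
  have h2 : IsPseudoCoherent A (-1) (Dual.inD A (Fin n → A)) :=
    (isPseudoCoherent_iff_pcmP _ _).2
      (bfProp_le_pcmP _ _ (bfProp_single _ inferInstance inferInstance))
  exact (isPseudoCoherent_two_of_three _ hS.singleTriangle_distinguished (-1)).1 h1 h2

lemma exists_iso_single_homology (G : Dual.D A) (n : ℤ) [DerivedCategory.IsGE G n]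
    [DerivedCategory.IsLE G n] :
    Nonempty (G ≅ (DerivedCategory.singleFunctor _ n).obj
      ((DerivedCategory.homologyFunctor (ModuleCat.{u} A) n).obj G)) := by
  obtain ⟨Y, ⟨e⟩⟩ := exists_iso_singleFunctor_obj_of_isGE_of_isLE G n
  have e2 : (DerivedCategory.homologyFunctor (ModuleCat.{u} A) n).obj G ≅ Y :=
    (DerivedCategory.homologyFunctor _ n).mapIso e ≪≫
      (singleFunctorCompHomologyFunctorIso _ n).app Y
  exact ⟨e ≪≫ (DerivedCategory.singleFunctor _ n).mapIso e2.symm⟩

lemma pcmP_single (Y : ModuleCat.{u} A) (n m₀ m : ℤ) (h : m = m₀ + n)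
    (hY : pcmP A m₀ ((DerivedCategory.singleFunctor _ 0).obj Y)) :
    pcmP A m ((DerivedCategory.singleFunctor _ n).obj Y) := by
  have := pcmP_shift m₀ (-n) m (by omega) _ hY
  exact (pcmP A m).prop_of_iso (((singleFunctors _).shiftIso (-n) n 0 (by omega)).app Y) this

lemma isLE_truncGT_of_isLE (K : Dual.D A) (a n : ℤ) (han : a < n) [DerivedCategory.IsLE K n] :
    DerivedCategory.IsLE (((tt (ModuleCat.{u} A)).truncGT a).obj K) n := by
  rw [DerivedCategory.isLE_iff]
  intro i hi
  haveI := isIso_homology_map_truncGTπ K a i (by omega)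
  exact IsZero.of_iso (DerivedCategory.isZero_of_isLE K n i hi)
    (asIso ((DerivedCategory.homologyFunctor _ i).map (((tt _).truncGTπ a).app K))).symm

/-- `H^i(K) = 0` for `i > m` and `H^m(K)` finite imply `m`-pseudo-coherent. -/
theorem pcmP_of_isLE_of_finite (K : Dual.D A) (m : ℤ) [DerivedCategory.IsLE K m]
    (hfin : Module.Finite A ((DerivedCategory.homologyFunctor (ModuleCat.{u} A) m).obj K)) :
    pcmP A m K := by
  have hT := (tt (ModuleCat.{u} A)).triangleLEGT_distinguished (m - 1) K
  have h1 : pcmP A m (((tt (ModuleCat.{u} A)).truncLE (m - 1)).obj K) :=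
    leP_le_pcmP m _ (show DerivedCategory.IsLE _ (m - 1) from inferInstance)
  haveI : DerivedCategory.IsGE (((tt (ModuleCat.{u} A)).truncGT (m - 1)).obj K) m :=
    inferInstance
  haveI : DerivedCategory.IsLE (((tt (ModuleCat.{u} A)).truncGT (m - 1)).obj K) m :=
    isLE_truncGT_of_isLE K (m - 1) m (by omega)
  obtain ⟨e⟩ := exists_iso_single_homology (((tt (ModuleCat.{u} A)).truncGT (m - 1)).obj K) m
  haveI := isIso_homology_map_truncGTπ K (m - 1) m (by omega)
  haveI hfinG : Module.Finite A ((DerivedCategory.homologyFunctor (ModuleCat.{u} A) m).obj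
      (((tt (ModuleCat.{u} A)).truncGT (m - 1)).obj K)) :=
    finite_of_iso (asIso ((DerivedCategory.homologyFunctor _ m).map
      (((tt _).truncGTπ (m - 1)).app K))) hfin
  have h3 : pcmP A m (((tt (ModuleCat.{u} A)).truncGT (m - 1)).obj K) := by
    refine (pcmP A m).prop_of_iso e.symm (pcmP_single _ m 0 m (by omega) ?_)
    exact (isPseudoCoherent_iff_pcmP 0 _).1 (isPseudoCoherentModule_zero_of_finite _)
  exact pcmP_ext m _ ⟨_, _, _, _, _, hT, h1, h3⟩

/-- `H^i(K) = 0` for `i > m + 1`, `H^(m+1)(K)` finitely presented and `H^m(K)` finite imply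
`m`-pseudo-coherent. -/
theorem pcmP_of_isLE_of_fp_of_finite (K : Dual.D A) (m : ℤ) [DerivedCategory.IsLE K (m + 1)]
    (hfp : Module.FinitePresentation A
      ((DerivedCategory.homologyFunctor (ModuleCat.{u} A) (m + 1)).obj K))
    (hfin : Module.Finite A ((DerivedCategory.homologyFunctor (ModuleCat.{u} A) m).obj K)) :
    pcmP A m K := by
  have hT := (tt (ModuleCat.{u} A)).triangleLEGT_distinguished m K
  haveI := isIso_homology_map_truncLEι K m m le_rfl
  have h1 : pcmP A m (((tt (ModuleCat.{u} A)).truncLE m).obj K) :=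
    pcmP_of_isLE_of_finite _ m (finite_of_iso (asIso ((DerivedCategory.homologyFunctor _ m).map
      (((tt _).truncLEι m).app K))).symm hfin)
  haveI : DerivedCategory.IsGE (((tt (ModuleCat.{u} A)).truncGT m).obj K) (m + 1) :=
    inferInstance
  haveI : DerivedCategory.IsLE (((tt (ModuleCat.{u} A)).truncGT m).obj K) (m + 1) :=
    isLE_truncGT_of_isLE K m (m + 1) (by omega)
  obtain ⟨e⟩ := exists_iso_single_homology (((tt (ModuleCat.{u} A)).truncGT m).obj K) (m + 1)
  haveI := isIso_homology_map_truncGTπ K m (m + 1) (by omega)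
  haveI hfpG : Module.FinitePresentation A
      ((DerivedCategory.homologyFunctor (ModuleCat.{u} A) (m + 1)).obj
        (((tt (ModuleCat.{u} A)).truncGT m).obj K)) :=
    finitePresentation_of_iso (asIso ((DerivedCategory.homologyFunctor _ (m + 1)).map
      (((tt _).truncGTπ m).app K))) hfp
  have h3 : pcmP A m (((tt (ModuleCat.{u} A)).truncGT m).obj K) := by
    refine (pcmP A m).prop_of_iso e.symm (pcmP_single _ (m + 1) (-1) m (by omega) ?_)
    exact (isPseudoCoherent_iff_pcmP (-1) _).1 (isPseudoCoherentModule_negOne_of_fp _)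
  exact pcmP_ext m _ ⟨_, _, _, _, _, hT, h1, h3⟩

lemma isLE_of_subsingleton_HD (Y : Dual.D A) (n : ℤ)
    (hY : ∀ i : ℤ, n < i → Subsingleton (Dual.HD A Y i)) : DerivedCategory.IsLE Y n := by
  rw [DerivedCategory.isLE_iff]
  intro i hi
  haveI := hY i hi
  exact ModuleCat.isZero_of_subsingleton _

end Groth.Agent.Lib.DMod_helper6
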