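import Mathlib
import Groth.Prelude.Def_DRing2
import Groth.Agent.Lib.DMod9_helper6
import Groth.Agent.Lib.DMod5_helper6
import Groth.Agent.Lib.ProjRes_helper7

/-!
# Derived category toolkit (helper6), part 16: a perfect module has a finite projective
resolution of finite length.
-/

set_option autoImplicit false
universe u
open CategoryTheory CategoryTheory.Limits Pretriangulated DerivedCategory ZeroObject
attribute [local instance] HasDerivedCategory.standard

namespace Groth.Agent.Lib.DMod_helper6

open DRing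

variable {A : Type u} [CommRing A]

lemma exists_d_eq_of_exactAt (E : Cx A) (i j k : ℤ) (hij : i + 1 = j) (hjk : j + 1 = k)
    (h : E.ExactAt j) (y : E.X j) (hy : (E.d j k).hom y = 0) :
    ∃ x : E.X i, (E.d i j).hom x = y := by
  rw [HomologicalComplex.exactAt_iff' E i j k (by simp [← hij]) (by simp [← hjk])] at h
  rw [ShortComplex.moduleCat_exact_iff] at h
  exact h y hy

section Res

variable (E : Cx A)

/-- terms of the truncated resolution -/
noncomputable def rX : ℕ → ModuleCat.{u} A
  | 0 => E.cycles 0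
  | k + 1 => E.X (-((k : ℤ) + 1))

/-- differentials of the truncated resolution -/
noncomputable def rD : ∀ n, rX E (n + 1) ⟶ rX E n
  | 0 => E.toCycles (-(((0 : ℕ) : ℤ) + 1)) 0
  | k + 1 => E.d (-(((k + 1 : ℕ) : ℤ) + 1)) (-((k : ℤ) + 1))

lemma rD_sq (n : ℕ) : rD E (n + 1) ≫ rD E n = 0 := by
  cases n with
  | zero =>
    show E.d _ _ ≫ E.toCycles _ 0 = 0
    rw [← cancel_mono (E.iCycles 0), Category.assoc, E.toCycles_i, E.d_comp_d, zero_comp]
  | succ k =>
    show E.d _ _ ≫ E.d _ _ = 0
    exact E.d_comp_d _ _ _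

end Res

/-- A perfect module has a projective resolution of finite length with finite terms. -/
theorem exists_finite_projectiveResolution_of_isPerfect (M : ModuleCat.{u} A)
    (hM : IsPerfect A ((DerivedCategory.singleFunctor (ModuleCat.{u} A) 0).obj M)) :
    ∃ (P : ProjectiveResolution M) (d : ℕ),
      (∀ i : ℕ, d < i → IsZero (P.complex.X i)) ∧ ∀ i : ℕ, Module.Finite A (P.complex.X i) := by
  obtain ⟨E, a, b, hab, hfp, ⟨e⟩⟩ := hM
  have hex : ∀ i : ℤ, i ≠ 0 → E.ExactAt i := fun i hi =>
    exactAt_of_isZero_homology_toD E i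
      (IsZero.of_iso (isZero_HD_inD M i hi) ((DerivedCategory.homologyFunctor _ i).mapIso e))
  let φ : E.homology 0 ≅ M :=
    ((homologyFunctorFactors (ModuleCat.{u} A) 0).app E).symm ≪≫
      (DerivedCategory.homologyFunctor _ 0).mapIso e ≪≫ HDinDIso M
  have hb : ∀ i, b < i → IsZero (E.X i) := fun i hi => hab i (Or.inr hi)
  obtain ⟨hcf, hcp⟩ :=
    cycles_finite_projective E b 0 hb hfp (fun i hi => hex i (by omega)) 0 le_rfl
  let π0 : rX E 0 ⟶ M := E.homologyπ 0 ≫ φ.hom
  have hπ : rD E 0 ≫ π0 = 0 := by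
    show E.toCycles _ 0 ≫ E.homologyπ 0 ≫ φ.hom = 0
    rw [← Category.assoc, E.toCycles_comp_homologyπ, zero_comp]
  have hproj : ∀ n, Projective (rX E n) := by
    intro n
    cases n with
    | zero => exact (IsProjective.iff_projective (E.cycles 0)).1 hcp
    | succ k => exact (IsProjective.iff_projective (E.X _)).1 (hfp _).2
  have hsurj : Function.Surjective π0 := by
    have h1 : Function.Surjective (E.homologyπ 0).hom := by
      haveI : Epi (E.homologyπ 0) := inferInstanceAs (Epi ((E.sc 0).homologyπ))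
      exact surjective_of_epi _
    have h2 : Function.Surjective φ.hom.hom := surjective_of_epi φ.hom
    intro x
    obtain ⟨y, hy⟩ := h2 x
    obtain ⟨z, hz⟩ := h1 y
    refine ⟨z, ?_⟩
    show φ.hom.hom ((E.homologyπ 0).hom z) = x
    rw [hz, hy]
  have h0 : (ShortComplex.mk (rD E 0) π0 hπ).Exact := by
    rw [ShortComplex.moduleCat_exact_iff]
    intro z hz
    have hz' : (E.homologyπ 0).hom z = 0 := by
      have hinj : Function.Injective φ.hom.hom :=
        (ModuleCat.mono_iff_injective _).1 inferInstance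
      apply hinj
      rw [map_zero]
      exact hz
    have hc : (ShortComplex.mk (E.toCycles (-(((0 : ℕ) : ℤ) + 1)) 0) (E.homologyπ 0)
        (E.toCycles_comp_homologyπ _ _)).Exact :=
      ShortComplex.exact_of_g_is_cokernel _ (E.homologyIsCokernel _ 0 (by simp))
    rw [ShortComplex.moduleCat_exact_iff] at hc
    obtain ⟨y, hy⟩ := hc z hz'
    exact ⟨y, hy⟩
  have hs : ∀ n, (ShortComplex.mk (rD E (n + 1)) (rD E n) (rD_sq E n)).Exact := by
    intro n
    rw [ShortComplex.moduleCat_exact_iff]
    cases n with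
    | zero =>
      intro y hy
      have hd : (E.d (-(((0 : ℕ) : ℤ) + 1)) 0).hom y = 0 := by
        have := congrArg (fun f => f.hom y) (E.toCycles_i (-(((0 : ℕ) : ℤ) + 1)) 0)
        simp only [ModuleCat.hom_comp, LinearMap.comp_apply] at this
        rw [← this]
        show (E.iCycles 0).hom ((E.toCycles _ 0).hom y) = 0
        rw [show (E.toCycles _ 0).hom y = 0 from hy, map_zero]
      exact exists_d_eq_of_exactAt E (-(((0 + 1 : ℕ) : ℤ) + 1)) (-(((0 : ℕ) : ℤ) + 1)) 0
        (by omega) (by omega) (hex _ (by omega)) y hd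
    | succ k =>
      intro y hy
      exact exists_d_eq_of_exactAt E (-(((k + 1 + 1 : ℕ) : ℤ) + 1)) (-(((k + 1 : ℕ) : ℤ) + 1))
        (-((k : ℤ) + 1)) (by omega) (by omega) (hex _ (by omega)) y hy
  refine ⟨Groth.Agent.Lib.ProjResH7.mkRes M (rX E) (rD E) (rD_sq E) π0 hπ hproj hsurj h0 hs,
    (-a).toNat, ?_, ?_⟩
  · intro i hi
    show IsZero (rX E i)
    cases i with
    | zero => omega
    | succ k => exact hab _ (Or.inl (by omega))
  · intro i
    show Module.Finite A (rX E i)
    cases i with
    | zero => exact hcf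
    | succ k => exact (hfp _).1

end Groth.Agent.Lib.DMod_helper6
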