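import Mathlib
import Groth.Prelude.Def_DRing2
import Groth.Agent.Lib.DMod11_helper6

/-!
# Derived category toolkit (helper6), part 12: `m`-pseudo-coherence over Noetherian rings,
monotonicity in `m`, direct summands.
-/

set_option autoImplicit false
universe u
open CategoryTheory CategoryTheory.Limits Pretriangulated DerivedCategory ZeroObject
attribute [local instance] HasDerivedCategory.standard

namespace Groth.Agent.Lib.DMod_helper6

open DRing ObjectProperty Groth.Agent.Lib.DerivedTrunc_helper2

variable {A : Type u} [CommRing A]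

lemma leP_mono {n n' : ℤ} (h : n ≤ n') : leP A n ≤ leP A n' := by
  intro X hX
  haveI : DerivedCategory.IsLE X n := hX
  exact TStructure.t.isLE_of_le X n n' h

lemma pcmP_mono {m m' : ℤ} (h : m ≤ m') : pcmP A m ≤ pcmP A m' :=
  monotone_extensionProduct_right _ (leP_mono (by omega))

lemma isPseudoCoherent_mono {m m' : ℤ} (h : m ≤ m') (K : Dual.D A)
    (hK : IsPseudoCoherent A m K) : IsPseudoCoherent A m' K :=
  (isPseudoCoherent_iff_pcmP m' K).2 (pcmP_mono h _ ((isPseudoCoherent_iff_pcmP m K).1 hK))

/-- An `m`-pseudo-coherent object is bounded above. -/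
lemma exists_isLE_of_pcmP (m : ℤ) (K : Dual.D A) (hK : pcmP A m K) :
    ∃ b : ℤ, DerivedCategory.IsLE K b := by
  obtain ⟨X, Z, f, g, h, hT, ⟨E, ⟨a, b, hab, hff⟩, ⟨e⟩⟩, hZ⟩ := hK
  haveI : E.IsStrictlyLE b := (CochainComplex.isStrictlyLE_iff E b).2 (fun i hi => hab i (Or.inr hi))
  haveI : DerivedCategory.IsLE (toD E) b := inferInstance
  haveI : DerivedCategory.IsLE X b := TStructure.t.isLE_of_iso e b
  haveI : DerivedCategory.IsLE Z (m - 1) := hZ
  refine ⟨max b (m - 1), TStructure.t.isLE₂ _ hT _ ?_ ?_⟩
  · exact TStructure.t.isLE_of_le X b _ (le_max_left _ _)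
  · exact TStructure.t.isLE_of_le Z (m - 1) _ (le_max_right _ _)

section Noetherian

variable [IsNoetherianRing A]

lemma finite_homology_noeth (E : Cx A) (i : ℤ) (h : Module.Finite A (E.X i)) :
    Module.Finite A (E.homology i) := by
  haveI : IsNoetherian A (E.X i) := isNoetherian_of_isNoetherianRing_of_finite A (E.X i)
  haveI : Module.Finite A (E.cycles i) :=
    Module.Finite.of_injective (E.iCycles i).hom ((ModuleCat.mono_iff_injective _).1 inferInstance)
  exact Module.Finite.of_surjective (E.homologyπ i).hom (surjective_of_epi _)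

/-- Over a Noetherian ring a finite module is `m`-pseudo-coherent for all `m`. -/
theorem isPseudoCoherent_inD_of_finite_noeth (j : ℕ) :
    ∀ (Y : Type u) [AddCommGroup Y] [Module A Y] [Module.Finite A Y],
      IsPseudoCoherent A (-(j : ℤ)) (Dual.inD A Y) := by
  induction j with
  | zero =>
    intro Y _ _ _
    rw [show (-((0 : ℕ) : ℤ)) = 0 by simp]
    exact isPseudoCoherentModule_zero_of_finite (A := A) Y
  | succ j ih =>
    intro Y _ _ _
    obtain ⟨n, p, hp⟩ := Module.Finite.exists_fin' A Y
    haveI : IsNoetherian A (Fin n → A) := isNoetherian_of_isNoetherianRing_of_finite A _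
    haveI : Module.Finite A (LinearMap.ker p) := Module.IsNoetherian.finite A _
    have hS := shortExact_of_surjective p hp
    have h1 : IsPseudoCoherent A (-((j + 1 : ℕ) : ℤ) + 1) (Dual.inD A (LinearMap.ker p)) := by
      have := ih (LinearMap.ker p)
      rwa [show (-((j + 1 : ℕ) : ℤ) + 1) = -(j : ℤ) by push_cast; ring]
    have h2 : IsPseudoCoherent A (-((j + 1 : ℕ) : ℤ)) (Dual.inD A (Fin n → A)) :=
      (isPseudoCoherent_iff_pcmP _ _).2
        (bfProp_le_pcmP _ _ (bfProp_single _ inferInstance inferInstance))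
    exact (isPseudoCoherent_two_of_three _ hS.singleTriangle_distinguished _).1 h1 h2

theorem pcmP_inD_of_finite_noeth (m : ℤ) (Y : ModuleCat.{u} A) [Module.Finite A Y] :
    pcmP A m ((DerivedCategory.singleFunctor _ 0).obj Y) := by
  have h := isPseudoCoherent_inD_of_finite_noeth (A := A) (-m).toNat Y
  exact (isPseudoCoherent_iff_pcmP m _).1 (isPseudoCoherent_mono (by omega) _ h)

/-- Over a Noetherian ring: bounded above with finite cohomology in degrees `≥ m` implies
`m`-pseudo-coherent. -/
theorem pcmP_of_finite_homology_noeth (n : ℕ) : ∀ (K : Dual.D A) (m : ℤ),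
    DerivedCategory.IsLE K (m + n) →
    (∀ i : ℤ, m ≤ i → Module.Finite A ((DerivedCategory.homologyFunctor (ModuleCat.{u} A) i).obj K)) →
    pcmP A m K := by
  induction n with
  | zero =>
    intro K m hK hfin
    haveI : DerivedCategory.IsLE K m := by simpa using hK
    exact pcmP_of_isLE_of_finite K m (hfin m le_rfl)
  | succ n ih =>
    intro K m hK hfin
    haveI : DerivedCategory.IsLE K (m + n + 1) := by
      have := hK; push_cast at this; rwa [← add_assoc] at this
    have hT := (tt (ModuleCat.{u} A)).triangleLEGT_distinguished (m + n) K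
    have h1 : pcmP A m (((tt (ModuleCat.{u} A)).truncLE (m + n)).obj K) := by
      refine ih _ m inferInstance (fun i hi => ?_)
      by_cases hi' : i ≤ m + n
      · haveI := isIso_homology_map_truncLEι K (m + n) i hi'
        exact finite_of_iso (asIso ((DerivedCategory.homologyFunctor _ i).map
          (((tt _).truncLEι (m + n)).app K))).symm (hfin i hi)
      · haveI : Subsingleton ((DerivedCategory.homologyFunctor (ModuleCat.{u} A) i).obj
            (((tt (ModuleCat.{u} A)).truncLE (m + n)).obj K)) :=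
          ModuleCat.subsingleton_of_isZero (isZero_homology_truncLE K (m + n) i (by omega))
        exact Module.Finite.of_finite
    haveI : DerivedCategory.IsGE (((tt (ModuleCat.{u} A)).truncGT (m + n)).obj K) (m + n + 1) :=
      inferInstance
    haveI : DerivedCategory.IsLE (((tt (ModuleCat.{u} A)).truncGT (m + n)).obj K) (m + n + 1) :=
      isLE_truncGT_of_isLE K (m + n) (m + n + 1) (by omega)
    obtain ⟨e⟩ := exists_iso_single_homology
      (((tt (ModuleCat.{u} A)).truncGT (m + n)).obj K) (m + n + 1)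
    haveI := isIso_homology_map_truncGTπ K (m + n) (m + n + 1) (by omega)
    haveI hfinG : Module.Finite A
        ((DerivedCategory.homologyFunctor (ModuleCat.{u} A) (m + n + 1)).obj
          (((tt (ModuleCat.{u} A)).truncGT (m + n)).obj K)) :=
      finite_of_iso (asIso ((DerivedCategory.homologyFunctor _ (m + n + 1)).map
        (((tt _).truncGTπ (m + n)).app K))) (hfin _ (by omega))
    have h3 : pcmP A m (((tt (ModuleCat.{u} A)).truncGT (m + n)).obj K) := by
      refine (pcmP A m).prop_of_iso e.symm
        (pcmP_single _ (m + n + 1) (-(n + 1 : ℤ)) m (by omega) ?_)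
      exact pcmP_inD_of_finite_noeth _ _
    exact pcmP_ext m _ ⟨_, _, _, _, _, hT, h1, h3⟩

theorem isPseudoCoherent_iff_noeth (m : ℤ) (K : Dual.D A) :
    IsPseudoCoherent A m K ↔
      (∃ b : ℤ, ∀ i : ℤ, b < i → Subsingleton (Dual.HD A K i)) ∧
        ∀ i : ℤ, m ≤ i → Module.Finite A (Dual.HD A K i) := by
  constructor
  · intro hK
    obtain ⟨b, hb⟩ := exists_isLE_of_pcmP m K ((isPseudoCoherent_iff_pcmP m K).1 hK)
    refine ⟨⟨b, fun i hi => ModuleCat.subsingleton_of_isZero
      (DerivedCategory.isZero_of_isLE K b i hi)⟩, ?_⟩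
    obtain ⟨E, a, b', α, hab, hff, hiso, hepi⟩ := hK
    intro i hi
    have hepi_i : Epi ((DerivedCategory.homologyFunctor (ModuleCat.{u} A) i).map α) := by
      rcases eq_or_lt_of_le hi with h | h
      · subst h; exact hepi
      · haveI := hiso i h; infer_instance
    have h1 : Module.Finite A (E.homology i) := finite_homology_noeth E i (hff i).1
    have h2 : Module.Finite A
        ((DerivedCategory.homologyFunctor (ModuleCat.{u} A) i).obj (toD E)) :=
      finite_of_iso ((homologyFunctorFactors (ModuleCat.{u} A) i).app E).symm h1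
    exact Module.Finite.of_surjective
      ((DerivedCategory.homologyFunctor (ModuleCat.{u} A) i).map α).hom (surjective_of_epi _)
  · rintro ⟨⟨b, hb⟩, hfin⟩
    haveI hKb : DerivedCategory.IsLE K b := isLE_of_subsingleton_HD K b hb
    rw [isPseudoCoherent_iff_pcmP]
    refine pcmP_of_finite_homology_noeth (b - m).toNat K m ?_ hfin
    exact TStructure.t.isLE_of_le K b _ (by omega)

theorem isPseudoCoherentModule'_iff_noeth (M : Type u) [AddCommGroup M] [Module A M] :
    IsPseudoCoherentModule' A M ↔ Module.Finite A M := by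
  constructor
  · rintro ⟨E, b, hb, hff, ⟨e⟩⟩
    have h1 : Module.Finite A (E.homology 0) := finite_homology_noeth E 0 (hff 0).1
    have h2 : Module.Finite A
        ((DerivedCategory.homologyFunctor (ModuleCat.{u} A) 0).obj (toD E)) :=
      finite_of_iso ((homologyFunctorFactors (ModuleCat.{u} A) 0).app E).symm h1
    have h3 : Module.Finite A
        ((DerivedCategory.homologyFunctor (ModuleCat.{u} A) 0).obj (Dual.inD A M)) :=
      finite_of_iso ((DerivedCategory.homologyFunctor _ 0).mapIso e) h2
    exact finite_of_iso (HDinDIso (ModuleCat.of A M)) h3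
  · intro h
    exact isPseudoCoherentModule'_of_finite M

end Noetherian

/-! ### direct summands -/

lemma isLE_of_biprod_left (K L : Dual.D A) [HasBinaryBiproduct K L] (n : ℤ)
    [DerivedCategory.IsLE (K ⊞ L) n] : DerivedCategory.IsLE K n := by
  rw [DerivedCategory.isLE_iff]
  intro i hi
  rw [IsZero.iff_id_eq_zero]
  have h0 := DerivedCategory.isZero_of_isLE (K ⊞ L) n i hi
  have : 𝟙 ((DerivedCategory.homologyFunctor (ModuleCat.{u} A) i).obj K) =
      (DerivedCategory.homologyFunctor _ i).map (biprod.inl : K ⟶ K ⊞ L) ≫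
        (DerivedCategory.homologyFunctor _ i).map (biprod.fst : K ⊞ L ⟶ K) := by
    rw [← CategoryTheory.Functor.map_comp, biprod.inl_fst, CategoryTheory.Functor.map_id]
  rw [this, h0.eq_of_tgt ((DerivedCategory.homologyFunctor _ i).map (biprod.inl : K ⟶ K ⊞ L)) 0,
    zero_comp]

lemma isLE_of_biprod_right (K L : Dual.D A) [HasBinaryBiproduct K L] (n : ℤ)
    [DerivedCategory.IsLE (K ⊞ L) n] : DerivedCategory.IsLE L n := by
  rw [DerivedCategory.isLE_iff]
  intro i hi
  rw [IsZero.iff_id_eq_zero]
  have h0 := DerivedCategory.isZero_of_isLE (K ⊞ L) n i hi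
  have : 𝟙 ((DerivedCategory.homologyFunctor (ModuleCat.{u} A) i).obj L) =
      (DerivedCategory.homologyFunctor _ i).map (biprod.inr : L ⟶ K ⊞ L) ≫
        (DerivedCategory.homologyFunctor _ i).map (biprod.snd : K ⊞ L ⟶ L) := by
    rw [← CategoryTheory.Functor.map_comp, biprod.inr_snd, CategoryTheory.Functor.map_id]
  rw [this, h0.eq_of_tgt ((DerivedCategory.homologyFunctor _ i).map (biprod.inr : L ⟶ K ⊞ L)) 0,
    zero_comp]

/-- Direct summands of `m`-pseudo-coherent objects are `m`-pseudo-coherent. -/
theorem pcmP_of_biprod (m : ℤ) (K L : Dual.D A) [HasBinaryBiproduct K L]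
    (h : pcmP A m (K ⊞ L)) : pcmP A m K ∧ pcmP A m L := by
  obtain ⟨b, hb⟩ := exists_isLE_of_pcmP m _ h
  haveI := hb
  haveI hK : DerivedCategory.IsLE K b := isLE_of_biprod_left K L b
  haveI hL : DerivedCategory.IsLE L b := isLE_of_biprod_right K L b
  have hT1 : Triangle.mk (biprod.inl : K ⟶ K ⊞ L) (biprod.snd : K ⊞ L ⟶ L) 0 ∈
      distTriang (Dual.D A) := binaryBiproductTriangle_distinguished K L
  have hT2 : Triangle.mk (biprod.inr : L ⟶ K ⊞ L) (biprod.fst : K ⊞ L ⟶ K) 0 ∈
      distTriang (Dual.D A) := by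
    refine isomorphic_distinguished _ (binaryBiproductTriangle_distinguished L K) _ ?_
    exact Triangle.isoMk _ _ (Iso.refl _) (biprod.braiding K L) (Iso.refl _)
      (by
        show (biprod.inr : L ⟶ K ⊞ L) ≫ biprod.lift biprod.snd biprod.fst =
          𝟙 L ≫ (biprod.inl : L ⟶ L ⊞ K)
        rw [Category.id_comp]
        apply biprod.hom_ext <;> simp)
      (by
        show (biprod.fst : K ⊞ L ⟶ K) ≫ 𝟙 K =
          biprod.lift biprod.snd biprod.fst ≫ (biprod.snd : L ⊞ K ⟶ K)
        rw [Category.comp_id, biprod.lift_snd])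
      (by
        show (0 : K ⟶ L⟦(1 : ℤ)⟧) ≫ (shiftFunctor (Dual.D A) (1 : ℤ)).map (𝟙 L) = 𝟙 K ≫ 0
        rw [Limits.zero_comp, Limits.comp_zero])
  have key : ∀ k : ℕ, ∀ μ : ℤ, m ≤ μ → b + 1 ≤ μ + k → pcmP A μ K ∧ pcmP A μ L := by
    intro k
    induction k with
    | zero =>
      intro μ _ hμ
      exact ⟨leP_le_pcmP μ _ (TStructure.t.isLE_of_le K b _ (by simpa using hμ)),
        leP_le_pcmP μ _ (TStructure.t.isLE_of_le L b _ (by simpa using hμ))⟩
    | succ k ih =>
      intro μ hm hμ
      obtain ⟨hK1, hL1⟩ := ih (μ + 1) (by omega) (by push_cast at hμ ⊢; omega)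
      have hKL : IsPseudoCoherent A μ (K ⊞ L) :=
        (isPseudoCoherent_iff_pcmP μ _).2 (pcmP_mono hm _ h)
      constructor
      · exact (isPseudoCoherent_iff_pcmP μ _).1
          ((isPseudoCoherent_two_of_three _ hT2 μ).1
            ((isPseudoCoherent_iff_pcmP _ _).2 hL1) hKL)
      · exact (isPseudoCoherent_iff_pcmP μ _).1
          ((isPseudoCoherent_two_of_three _ hT1 μ).1
            ((isPseudoCoherent_iff_pcmP _ _).2 hK1) hKL)
  exact key (b + 1 - m).toNat m le_rfl (by omega)

end Groth.Agent.Lib.DMod_helper6
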