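import Mathlib
import Groth.Prelude.Def_DRing2
import Groth.Agent.Lib.DMod12_helper6

/-!
# Derived category toolkit (helper6), part 14: objects with cohomology in degrees `-1`, `0`
(two-term complexes).
-/

set_option autoImplicit false
universe u
open CategoryTheory CategoryTheory.Limits Pretriangulated DerivedCategory ZeroObject
attribute [local instance] HasDerivedCategory.standard

namespace Groth.Agent.Lib.DMod_helper6

open DRing ObjectProperty Groth.Agent.Lib.DerivedTrunc_helper2

variable {A : Type u} [CommRing A]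

lemma isKProjective_single (F : ModuleCat.{u} A) [Projective F] (a : ℤ) :
    CochainComplex.IsKProjective
      ((HomologicalComplex.single (ModuleCat.{u} A) (ComplexShape.up ℤ) a).obj F) := by
  haveI : CochainComplex.IsStrictlyLE
      ((HomologicalComplex.single (ModuleCat.{u} A) (ComplexShape.up ℤ) a).obj F) a :=
    (CochainComplex.isStrictlyLE_iff _ a).2
      (fun i hi => HomologicalComplex.isZero_single_obj_X _ a F i (by omega))
  haveI : ∀ n, Projective
      (((HomologicalComplex.single (ModuleCat.{u} A) (ComplexShape.up ℤ) a).obj F).X n) := fun n => by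
    by_cases h : n = a
    · subst h
      have hp : Module.Projective A
          (((HomologicalComplex.single (ModuleCat.{u} A) (ComplexShape.up ℤ) n).obj F).X n) :=
        projective_of_iso (HomologicalComplex.singleObjXSelf (ComplexShape.up ℤ) n F).symm
          ((IsProjective.iff_projective F).2 inferInstance)
      exact (IsProjective.iff_projective
        (((HomologicalComplex.single (ModuleCat.{u} A) (ComplexShape.up ℤ) n).obj F).X n)).1 hp
    · haveI : Subsingleton
          (((HomologicalComplex.single (ModuleCat.{u} A) (ComplexShape.up ℤ) a).obj F).X n) :=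
        ModuleCat.subsingleton_of_isZero (HomologicalComplex.isZero_single_obj_X _ a F n h)
      exact (IsProjective.iff_projective
        (((HomologicalComplex.single (ModuleCat.{u} A) (ComplexShape.up ℤ) a).obj F).X n)).1
        inferInstance
  exact CochainComplex.isKProjective_of_projective _ a

/-- Morphisms from a projective module placed in degree `0` to an object which is `≤ -1`
vanish. -/
lemma hom_single_eq_zero (F : ModuleCat.{u} A) [Projective F] (Y : Dual.D A)
    [DerivedCategory.IsLE Y (-1)] (g : (DerivedCategory.singleFunctor _ 0).obj F ⟶ Y) : g = 0 := by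
  haveI := isKProjective_single F 0
  have := hom_eq_zero_of_isKProjective_of_isLE
    ((HomologicalComplex.single (ModuleCat.{u} A) (ComplexShape.up ℤ) 0).obj F) (-1)
    (fun i hi => HomologicalComplex.isZero_single_obj_X _ 0 F i (by omega)) Y
    ((singleFunctorIsoCompQ _ 0).inv.app F ≫ g)
  rw [← cancel_epi ((singleFunctorIsoCompQ (ModuleCat.{u} A) 0).inv.app F), comp_zero]
  exact this

lemma epi_homology_single_map {M N : ModuleCat.{u} A} (x : M ⟶ N) [Epi x] (n : ℤ) :
    Epi ((DerivedCategory.homologyFunctor (ModuleCat.{u} A) n).map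
      ((DerivedCategory.singleFunctor _ n).map x)) := by
  have nat := (singleFunctorCompHomologyFunctorIso (ModuleCat.{u} A) n).hom.naturality x
  simp only [Functor.comp_map, Functor.id_map] at nat
  have h : (DerivedCategory.homologyFunctor (ModuleCat.{u} A) n).map
      ((DerivedCategory.singleFunctor _ n).map x) =
      (singleFunctorCompHomologyFunctorIso (ModuleCat.{u} A) n).hom.app M ≫ x ≫
        (singleFunctorCompHomologyFunctorIso (ModuleCat.{u} A) n).inv.app N := by
    rw [← Category.assoc, ← nat, Category.assoc, Iso.hom_inv_id_app, Category.comp_id]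
  rw [h]
  infer_instance

/-- Lifting a surjection from a projective module onto `H^0(K)` to a morphism `F[0] ⟶ K`. -/
theorem exists_hom_single_epi (K : Dual.D A) [DerivedCategory.IsLE K 0] (F : ModuleCat.{u} A)
    [Projective F] (p : F ⟶ (DerivedCategory.homologyFunctor (ModuleCat.{u} A) 0).obj K) [Epi p] :
    ∃ f : (DerivedCategory.singleFunctor _ 0).obj F ⟶ K,
      Epi ((DerivedCategory.homologyFunctor (ModuleCat.{u} A) 0).map f) := by
  have hT := (tt (ModuleCat.{u} A)).triangleLEGT_distinguished (-1) K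
  haveI : DerivedCategory.IsGE (((tt (ModuleCat.{u} A)).truncGT (-1)).obj K) 0 :=
    (inferInstance : (tt (ModuleCat.{u} A)).IsGE (((tt (ModuleCat.{u} A)).truncGT (0 - 1)).obj K) 0)
  haveI : DerivedCategory.IsLE (((tt (ModuleCat.{u} A)).truncGT (-1)).obj K) 0 :=
    isLE_truncGT_of_isLE K (-1) 0 (by norm_num)
  obtain ⟨E⟩ := exists_iso_single_homology (((tt (ModuleCat.{u} A)).truncGT (-1)).obj K) 0
  haveI hπ := isIso_homology_map_truncGTπ K (-1) 0 (by norm_num)
  let x : F ⟶ (DerivedCategory.homologyFunctor (ModuleCat.{u} A) 0).obj (((tt (ModuleCat.{u} A)).truncGT (-1)).obj K) :=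
    p ≫ (DerivedCategory.homologyFunctor (ModuleCat.{u} A) 0).map (((tt (ModuleCat.{u} A)).truncGTπ (-1)).app K)
  let q : (DerivedCategory.singleFunctor _ 0).obj F ⟶ ((tt (ModuleCat.{u} A)).truncGT (-1)).obj K :=
    (DerivedCategory.singleFunctor _ 0).map x ≫ E.inv
  haveI : DerivedCategory.IsLE ((((tt (ModuleCat.{u} A)).truncLE (-1)).obj K)⟦(1 : ℤ)⟧) (-2) :=
    TStructure.t.isLE_shift (((tt (ModuleCat.{u} A)).truncLE (-1)).obj K) (-1) 1 (-2) (by norm_num)
  haveI : DerivedCategory.IsLE ((((tt (ModuleCat.{u} A)).truncLE (-1)).obj K)⟦(1 : ℤ)⟧) (-1) :=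
    TStructure.t.isLE_of_le _ (-2) (-1) (by norm_num)
  have hq : q ≫ (((tt (ModuleCat.{u} A)).triangleLEGT (-1)).obj K).mor₃ = 0 :=
    hom_single_eq_zero F ((((tt (ModuleCat.{u} A)).truncLE (-1)).obj K)⟦(1 : ℤ)⟧) _
  obtain ⟨f, hf⟩ : ∃ f : (DerivedCategory.singleFunctor _ 0).obj F ⟶ K,
      q = f ≫ ((tt (ModuleCat.{u} A)).truncGTπ (-1)).app K :=
    Triangle.coyoneda_exact₃ _ hT q hq
  refine ⟨f, ?_⟩
  have h1 : (DerivedCategory.homologyFunctor (ModuleCat.{u} A) 0).map f ≫
      (DerivedCategory.homologyFunctor (ModuleCat.{u} A) 0).map (((tt (ModuleCat.{u} A)).truncGTπ (-1)).app K) =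
      (DerivedCategory.homologyFunctor (ModuleCat.{u} A) 0).map q := by
    rw [← Functor.map_comp]
    exact congrArg _ hf.symm
  haveI : Epi x := epi_comp _ _
  haveI := epi_homology_single_map x 0
  have hq_epi : Epi ((DerivedCategory.homologyFunctor (ModuleCat.{u} A) 0).map q) := by
    show Epi ((DerivedCategory.homologyFunctor (ModuleCat.{u} A) 0).map
      ((DerivedCategory.singleFunctor _ 0).map x ≫ E.inv))
    rw [Functor.map_comp]
    infer_instance
  have h2 : (DerivedCategory.homologyFunctor (ModuleCat.{u} A) 0).map f =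
      (DerivedCategory.homologyFunctor (ModuleCat.{u} A) 0).map q ≫
        inv ((DerivedCategory.homologyFunctor (ModuleCat.{u} A) 0).map (((tt (ModuleCat.{u} A)).truncGTπ (-1)).app K)) := by
    rw [← h1]
    simp
  rw [h2]
  infer_instance

/-- The triangle `F[0] ⟶ K ⟶ C` with `C` concentrated in degree `-1`. -/
theorem exists_triangle_single (K : Dual.D A) [DerivedCategory.IsLE K 0]
    [DerivedCategory.IsGE K (-1)] (F : ModuleCat.{u} A) [Projective F]
    (p : F ⟶ (DerivedCategory.homologyFunctor (ModuleCat.{u} A) 0).obj K) [Epi p] :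
    ∃ (f : (DerivedCategory.singleFunctor _ 0).obj F ⟶ K) (C : Dual.D A) (g : K ⟶ C)
      (h : C ⟶ ((DerivedCategory.singleFunctor _ 0).obj F)⟦(1 : ℤ)⟧),
      Triangle.mk f g h ∈ distTriang (Dual.D A) ∧ DerivedCategory.IsLE C (-1) ∧
        DerivedCategory.IsGE C (-1) := by
  obtain ⟨f, hf⟩ := exists_hom_single_epi K F p
  obtain ⟨C, g, h, hT⟩ := distinguished_cocone_triangle f
  refine ⟨f, C, g, h, hT, ?_, ?_⟩
  · rw [DerivedCategory.isLE_iff]
    intro i hi
    have h1 : (DerivedCategory.homologyFunctor (ModuleCat.{u} A) i).map g = 0 := by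
      by_cases hi0 : i = 0
      · subst hi0
        exact (HomologySequence.epi_homologyMap_mor₁_iff _ hT 0).1 hf
      · exact (DerivedCategory.isZero_of_isLE K 0 i (by omega)).eq_of_src _ _
    have h2 : HomologySequence.δ (Triangle.mk f g h) i (i + 1) rfl = 0 :=
      (isZero_HD_inD F (i + 1) (by omega)).eq_of_tgt _ _
    exact (HomologySequence.exact₃ _ hT i (i + 1) rfl).isZero_of_both_zeros h1 h2
  · rw [DerivedCategory.isGE_iff]
    intro i hi
    have h1 : (DerivedCategory.homologyFunctor (ModuleCat.{u} A) i).map g = 0 :=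
      (DerivedCategory.isZero_of_isGE K (-1) i hi).eq_of_src _ _
    have h2 : HomologySequence.δ (Triangle.mk f g h) i (i + 1) rfl = 0 :=
      (isZero_HD_inD F (i + 1) (by omega)).eq_of_tgt _ _
    exact (HomologySequence.exact₃ _ hT i (i + 1) rfl).isZero_of_both_zeros h1 h2

/-- From the triangle, a two-term complex representing `K`. -/
theorem exists_twoTerm_of_triangle {K : Dual.D A} {F : ModuleCat.{u} A}
    {f : (DerivedCategory.singleFunctor _ 0).obj F ⟶ K} {C : Dual.D A} {g : K ⟶ C}
    {h : C ⟶ ((DerivedCategory.singleFunctor _ 0).obj F)⟦(1 : ℤ)⟧}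
    (hT : Triangle.mk f g h ∈ distTriang (Dual.D A)) [DerivedCategory.IsLE C (-1)]
    [DerivedCategory.IsGE C (-1)] :
    ∃ (φ : (HomologicalComplex.single (ModuleCat.{u} A) (ComplexShape.up ℤ) 0).obj
        ((DerivedCategory.homologyFunctor (ModuleCat.{u} A) (-1)).obj C) ⟶
        (HomologicalComplex.single (ModuleCat.{u} A) (ComplexShape.up ℤ) 0).obj F),
      Nonempty (toD (CochainComplex.mappingCone φ) ≅ K) := by
  obtain ⟨EC⟩ := exists_iso_single_homology C (-1)
  set M := (DerivedCategory.homologyFunctor (ModuleCat.{u} A) (-1)).obj C with hM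
  have hT' := inv_rot_of_distTriang _ hT
  let a : (DerivedCategory.singleFunctor (ModuleCat.{u} A) 0).obj M ≅
      Q.obj ((HomologicalComplex.single (ModuleCat.{u} A) (ComplexShape.up ℤ) 0).obj M) :=
    (singleFunctorIsoCompQ (ModuleCat.{u} A) 0).app M
  let b : (DerivedCategory.singleFunctor (ModuleCat.{u} A) 0).obj F ≅
      Q.obj ((HomologicalComplex.single (ModuleCat.{u} A) (ComplexShape.up ℤ) 0).obj F) :=
    (singleFunctorIsoCompQ (ModuleCat.{u} A) 0).app F
  let e₁ : Q.obj ((HomologicalComplex.single (ModuleCat.{u} A) (ComplexShape.up ℤ) 0).obj M) ≅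
      (Triangle.mk f g h).invRotate.obj₁ :=
    a.symm ≪≫ (((singleFunctors (ModuleCat.{u} A)).shiftIso (-1) 0 (-1)
      (by norm_num)).app M).symm ≪≫ (shiftFunctor (Dual.D A) (-1 : ℤ)).mapIso EC.symm
  let e₂ : Q.obj ((HomologicalComplex.single (ModuleCat.{u} A) (ComplexShape.up ℤ) 0).obj F) ≅
      (Triangle.mk f g h).invRotate.obj₂ := b.symm
  let ρ : Q.obj ((HomologicalComplex.single (ModuleCat.{u} A) (ComplexShape.up ℤ) 0).obj M) ⟶
      Q.obj ((HomologicalComplex.single (ModuleCat.{u} A) (ComplexShape.up ℤ) 0).obj F) :=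
    e₁.hom ≫ (Triangle.mk f g h).invRotate.mor₁ ≫ e₂.inv
  obtain ⟨g₀, hg₀⟩ := (DerivedCategory.singleFunctor (ModuleCat.{u} A) 0).map_surjective
    (a.hom ≫ ρ ≫ b.inv)
  have nat : (DerivedCategory.singleFunctor (ModuleCat.{u} A) 0).map g₀ ≫ b.hom =
      a.hom ≫ Q.map ((HomologicalComplex.single (ModuleCat.{u} A) (ComplexShape.up ℤ) 0).map g₀) :=
    (singleFunctorIsoCompQ (ModuleCat.{u} A) 0).hom.naturality g₀
  have hlift : Q.map ((HomologicalComplex.single (ModuleCat.{u} A) (ComplexShape.up ℤ) 0).map g₀)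
      = ρ := by
    have h1 : Q.map ((HomologicalComplex.single (ModuleCat.{u} A) (ComplexShape.up ℤ) 0).map g₀) =
        a.inv ≫ (DerivedCategory.singleFunctor (ModuleCat.{u} A) 0).map g₀ ≫ b.hom := by
      rw [nat, Iso.inv_hom_id_assoc]
    rw [h1, hg₀]
    simp
  obtain ⟨φ, ⟨e⟩⟩ := exists_cone_iso hT' e₁ e₂ ⟨_, hlift⟩
  exact ⟨φ, ⟨e⟩⟩

lemma vanishesOutside_cone_single {M F : ModuleCat.{u} A}
    (φ : (HomologicalComplex.single (ModuleCat.{u} A) (ComplexShape.up ℤ) 0).obj M ⟶
      (HomologicalComplex.single (ModuleCat.{u} A) (ComplexShape.up ℤ) 0).obj F) :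
    VanishesOutside (CochainComplex.mappingCone φ) (-1) 0 := by
  intro i hi
  refine IsZero.of_iso (isZero_biprod ?_ ?_) (coneXIso φ i)
  · exact HomologicalComplex.isZero_single_obj_X _ 0 M (i + 1) (by omega)
  · exact HomologicalComplex.isZero_single_obj_X _ 0 F i (by omega)

/-- degree `0` term of the cone of a map of stalk complexes -/
lemma nonempty_cone_single_X_zero_iso {M F : ModuleCat.{u} A}
    (φ : (HomologicalComplex.single (ModuleCat.{u} A) (ComplexShape.up ℤ) 0).obj M ⟶
      (HomologicalComplex.single (ModuleCat.{u} A) (ComplexShape.up ℤ) 0).obj F) :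
    Nonempty ((CochainComplex.mappingCone φ).X 0 ≅ F) := by
  have hz : IsZero (((HomologicalComplex.single (ModuleCat.{u} A) (ComplexShape.up ℤ) 0).obj M).X
      (0 + 1)) := HomologicalComplex.isZero_single_obj_X _ 0 M (0 + 1) (by norm_num)
  refine ⟨coneXIso φ 0 ≪≫ ?_ ≪≫ HomologicalComplex.singleObjXSelf (ComplexShape.up ℤ) 0 F⟩
  exact
    { hom := biprod.snd
      inv := biprod.inr
      hom_inv_id := by
        apply biprod.hom_ext
        · exact hz.eq_of_tgt _ _
        · simp
      inv_hom_id := by simp }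

/-- degree `-1` term of the cone of a map of stalk complexes -/
lemma nonempty_cone_single_X_negOne_iso {M F : ModuleCat.{u} A}
    (φ : (HomologicalComplex.single (ModuleCat.{u} A) (ComplexShape.up ℤ) 0).obj M ⟶
      (HomologicalComplex.single (ModuleCat.{u} A) (ComplexShape.up ℤ) 0).obj F) :
    Nonempty ((CochainComplex.mappingCone φ).X (-1) ≅ M) := by
  have hz : IsZero (((HomologicalComplex.single (ModuleCat.{u} A) (ComplexShape.up ℤ) 0).obj F).X
      (-1)) := HomologicalComplex.isZero_single_obj_X _ 0 F (-1) (by norm_num)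
  have e0 : ((HomologicalComplex.single (ModuleCat.{u} A) (ComplexShape.up ℤ) 0).obj M).X
      (-1 + 1) ≅ M :=
    HomologicalComplex.XIsoOfEq _ (by norm_num : (-1 : ℤ) + 1 = 0) ≪≫
      HomologicalComplex.singleObjXSelf (ComplexShape.up ℤ) 0 M
  refine ⟨coneXIso φ (-1) ≪≫ ?_ ≪≫ e0⟩
  exact
    { hom := biprod.fst
      inv := biprod.inl
      hom_inv_id := by
        apply biprod.hom_ext
        · simp
        · exact hz.eq_of_tgt _ _
      inv_hom_id := by simp }

end Groth.Agent.Lib.DMod_helper6
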