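import Mathlib
import Groth.Prelude.Def_DRing2
import Groth.Agent.Lib.DMod14_helper6

/-!
# Derived category toolkit (helper6), part 17: attaching a cell.

Given a short exact sequence of complexes `0 → L → C → D → 0` and a chain map `ψ : S → C`, we get
a short exact sequence `0 → L → cone ψ → cone (ψ ≫ π) → 0`.  If `C` is pseudo-coherent and
bounded above by `t`, a suitable `ψ` from a finite free module placed in degree `t` makes the cone
bounded above by `t - 1`.
-/

set_option autoImplicit false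
universe u
open CategoryTheory CategoryTheory.Limits Pretriangulated DerivedCategory ZeroObject
attribute [local instance] HasDerivedCategory.standard

namespace Groth.Agent.Lib.DMod_helper6

open DRing CochainComplex

variable {A : Type u} [CommRing A]

lemma isIso_inr_f {F G : Cx A} (φ : F ⟶ G) (p : ℤ) (h : IsZero (F.X (p + 1))) :
    IsIso ((mappingCone.inr φ).f p) := by
  refine ⟨(mappingCone.snd φ).v p p (add_zero p), mappingCone.inr_f_snd_v φ p, ?_⟩
  have h1 := mappingCone.id_X φ p (p + 1) rfl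
  rw [h.eq_of_tgt ((mappingCone.fst φ).1.v p (p + 1) rfl) 0, zero_comp, zero_add] at h1
  exact h1

/-- In a distinguished triangle with first two vertices `≤ t` and first map an epimorphism on
`H^t`, the third vertex is `≤ t - 1`. -/
lemma isLE_cone_of_epi (T : Triangle (Dual.D A)) (hT : T ∈ distTriang _) (t : ℤ)
    [DerivedCategory.IsLE T.obj₁ t] [DerivedCategory.IsLE T.obj₂ t]
    (hepi : Epi ((DerivedCategory.homologyFunctor (ModuleCat.{u} A) t).map T.mor₁)) :
    DerivedCategory.IsLE T.obj₃ (t - 1) := by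
  rw [DerivedCategory.isLE_iff]
  intro i hi
  have h1 : (DerivedCategory.homologyFunctor (ModuleCat.{u} A) i).map T.mor₂ = 0 := by
    by_cases hit : i = t
    · subst hit
      exact (HomologySequence.epi_homologyMap_mor₁_iff _ hT i).1 hepi
    · exact (DerivedCategory.isZero_of_isLE T.obj₂ t i (by omega)).eq_of_src _ _
  have h2 : HomologySequence.δ T i (i + 1) rfl = 0 :=
    (DerivedCategory.isZero_of_isLE T.obj₁ t (i + 1) (by omega)).eq_of_tgt _ _
  exact (HomologySequence.exact₃ _ hT i (i + 1) rfl).isZero_of_both_zeros h1 h2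

/-- A chain map from a finite free module placed in degree `t`, surjective on `H^t`. -/
lemma exists_single_hom_epi (C : Cx A) (t : ℤ) (hfin : Module.Finite A (C.homology t)) :
    ∃ (r : ℕ) (ψ : (HomologicalComplex.single (ModuleCat.{u} A) (ComplexShape.up ℤ) t).obj
        (ModuleCat.of A (Fin r → A)) ⟶ C), Epi (HomologicalComplex.homologyMap ψ t) := by
  haveI := hfin
  obtain ⟨r, p, hp⟩ := Module.Finite.exists_fin' A (C.homology t)
  haveI : Epi (C.homologyπ t) := inferInstanceAs (Epi ((C.sc t).homologyπ))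
  have hπs : Function.Surjective (C.homologyπ t).hom := surjective_of_epi _
  obtain ⟨q, hq⟩ := Module.projective_lifting_property (C.homologyπ t).hom p hπs
  let X : ModuleCat.{u} A := ModuleCat.of A (Fin r → A)
  let ψ₀ : X ⟶ C.X t := ModuleCat.ofHom q ≫ C.iCycles t
  have hψ₀ : ∀ k, (ComplexShape.up ℤ).Rel t k → ψ₀ ≫ C.d t k = 0 := fun k _ => by
    rw [Category.assoc, C.iCycles_d, comp_zero]
  let S : Cx A := (HomologicalComplex.single (ModuleCat.{u} A) (ComplexShape.up ℤ) t).obj X
  let ψ : S ⟶ C := HomologicalComplex.mkHomFromSingle ψ₀ hψ₀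
  refine ⟨r, ψ, ?_⟩
  rw [ModuleCat.epi_iff_surjective]
  intro h
  obtain ⟨x, rfl⟩ := hp h
  have hd : S.d t (t + 1) = 0 := rfl
  haveI : IsIso (S.iCycles t) := S.isIso_iCycles t (t + 1) (by simp) hd
  let sx : S.X t := (HomologicalComplex.singleObjXSelf (ComplexShape.up ℤ) t X).inv.hom x
  let z : S.cycles t := (inv (S.iCycles t)).hom sx
  have hz : (S.iCycles t).hom z = sx := by
    have := congrArg (fun f => f.hom sx) (IsIso.inv_hom_id (S.iCycles t))
    simpa only [ModuleCat.hom_comp, LinearMap.comp_apply, ModuleCat.hom_id,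
      LinearMap.id_apply] using this
  have h6 : (HomologicalComplex.singleObjXSelf (ComplexShape.up ℤ) t X).hom.hom sx = x := by
    have := congrArg (fun f => f.hom x)
      (HomologicalComplex.singleObjXSelf (ComplexShape.up ℤ) t X).inv_hom_id
    simpa only [ModuleCat.hom_comp, LinearMap.comp_apply, ModuleCat.hom_id,
      LinearMap.id_apply] using this
  have h2 : (HomologicalComplex.cyclesMap ψ t).hom z = q x := by
    have hinj : Function.Injective (C.iCycles t).hom :=
      (ModuleCat.mono_iff_injective _).1 inferInstance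
    apply hinj
    have h3 := congrArg (fun f => f.hom z) (HomologicalComplex.cyclesMap_i ψ t)
    simp only [ModuleCat.hom_comp, LinearMap.comp_apply] at h3
    rw [h3, hz]
    have h5 := congrArg (fun f => f.hom sx) (HomologicalComplex.mkHomFromSingle_f ψ₀ hψ₀)
    simp only [ModuleCat.hom_comp, LinearMap.comp_apply] at h5
    show ((HomologicalComplex.mkHomFromSingle ψ₀ hψ₀).f t).hom sx = _
    rw [h5, h6]
    rfl
  refine ⟨(S.homologyπ t).hom z, ?_⟩
  show (HomologicalComplex.homologyMap ψ t).hom ((S.homologyπ t).hom z) = p x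
  have h1 := congrArg (fun f => f.hom z) (HomologicalComplex.homologyπ_naturality ψ t)
  simp only [ModuleCat.hom_comp, LinearMap.comp_apply] at h1
  rw [h1, h2]
  exact LinearMap.congr_fun hq x

/-- linear algebra behind the short exact sequence of cones -/
lemma shortExact_of_decomp {L S₁ C D C' D' : ModuleCat.{u} A}
    (ι : L ⟶ C) (π : C ⟶ D) (il : S₁ ⟶ C') (ir : C ⟶ C') (fs : C' ⟶ S₁) (sn : C' ⟶ C)
    (il' : S₁ ⟶ D') (ir' : D ⟶ D') (fs' : D' ⟶ S₁) (sn' : D' ⟶ D) (m : C' ⟶ D')
    (e1 : il ≫ fs = 𝟙 _) (e2 : il ≫ sn = 0) (e3 : ir ≫ fs = 0) (e4 : ir ≫ sn = 𝟙 _)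
    (e5 : fs ≫ il + sn ≫ ir = 𝟙 _)
    (e1' : il' ≫ fs' = 𝟙 _) (e2' : il' ≫ sn' = 0) (e3' : ir' ≫ fs' = 0) (e4' : ir' ≫ sn' = 𝟙 _)
    (e5' : fs' ≫ il' + sn' ≫ ir' = 𝟙 _)
    (hm : m = fs ≫ il' + sn ≫ π ≫ ir')
    (hι : Function.Injective ι.hom) (hπ : Function.Surjective π.hom)
    (hex : ∀ c : C, π.hom c = 0 → ∃ l : L, ι.hom l = c) (w' : (ι ≫ ir) ≫ m = 0) :
    (ShortComplex.mk (ι ≫ ir) m w').ShortExact := by
  have a1 : ∀ s : S₁, fs.hom (il.hom s) = s := fun s => by
    have := congrArg (fun f => f.hom s) e1; simpa using this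
  have a2 : ∀ s : S₁, sn.hom (il.hom s) = 0 := fun s => by
    have := congrArg (fun f => f.hom s) e2; simpa using this
  have a3 : ∀ c : C, fs.hom (ir.hom c) = 0 := fun c => by
    have := congrArg (fun f => f.hom c) e3; simpa using this
  have a4 : ∀ c : C, sn.hom (ir.hom c) = c := fun c => by
    have := congrArg (fun f => f.hom c) e4; simpa using this
  have a5 : ∀ x : C', il.hom (fs.hom x) + ir.hom (sn.hom x) = x := fun x => by
    have := congrArg (fun f => f.hom x) e5; simpa using this
  have a1' : ∀ s : S₁, fs'.hom (il'.hom s) = s := fun s => by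
    have := congrArg (fun f => f.hom s) e1'; simpa using this
  have a2' : ∀ s : S₁, sn'.hom (il'.hom s) = 0 := fun s => by
    have := congrArg (fun f => f.hom s) e2'; simpa using this
  have a3' : ∀ c : D, fs'.hom (ir'.hom c) = 0 := fun c => by
    have := congrArg (fun f => f.hom c) e3'; simpa using this
  have a4' : ∀ c : D, sn'.hom (ir'.hom c) = c := fun c => by
    have := congrArg (fun f => f.hom c) e4'; simpa using this
  have a5' : ∀ x : D', il'.hom (fs'.hom x) + ir'.hom (sn'.hom x) = x := fun x => by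
    have := congrArg (fun f => f.hom x) e5'; simpa using this
  have am : ∀ x : C', m.hom x = il'.hom (fs.hom x) + ir'.hom (π.hom (sn.hom x)) := fun x => by
    have := congrArg (fun f => f.hom x) hm; simpa using this
  refine ShortComplex.ShortExact.mk' ?_ ?_ ?_
  · rw [ShortComplex.moduleCat_exact_iff]
    intro x hx
    have hx' : m.hom x = 0 := hx
    rw [am] at hx'
    have h1 : fs.hom x = 0 := by
      have := congrArg fs'.hom hx'
      rw [map_add, a1', a3', add_zero, map_zero] at this
      exact this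
    have h2 : π.hom (sn.hom x) = 0 := by
      have := congrArg sn'.hom hx'
      rw [map_add, a2', a4', zero_add, map_zero] at this
      exact this
    obtain ⟨l, hl⟩ := hex _ h2
    refine ⟨l, ?_⟩
    show (ι ≫ ir).hom l = x
    rw [ModuleCat.hom_comp, LinearMap.comp_apply, hl]
    have := a5 x
    rw [h1, map_zero, zero_add] at this
    exact this
  · rw [ModuleCat.mono_iff_injective]
    intro l l' hll
    have hll' : ir.hom (ι.hom l) = ir.hom (ι.hom l') := by
      simpa using hll
    have := congrArg sn.hom hll'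
    rw [a4, a4] at this
    exact hι this
  · rw [ModuleCat.epi_iff_surjective]
    intro y
    obtain ⟨c, hc⟩ := hπ (sn'.hom y)
    refine ⟨il.hom (fs'.hom y) + ir.hom c, ?_⟩
    show m.hom (il.hom (fs'.hom y) + ir.hom c) = y
    rw [am]
    simp only [map_add, a1, a2, a3, a4, add_zero, zero_add, map_zero, hc]
    exact a5' y

lemma cone_map_f {S C D : Cx A} (ψ : S ⟶ C) (π : C ⟶ D) (i : ℤ) :
    (mappingCone.map ψ (ψ ≫ π) (𝟙 S) π (by simp)).f i =
      (mappingCone.fst ψ).1.v i (i + 1) rfl ≫ (mappingCone.inl (ψ ≫ π)).v (i + 1) i (by omega) +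
        (mappingCone.snd ψ).v i i (add_zero i) ≫ π.f i ≫ (mappingCone.inr (ψ ≫ π)).f i := by
  rw [mappingCone.map, mappingCone.desc_f _ _ _ _ i (i + 1) rfl]
  simp

/-- The short exact sequence of cones. -/
theorem cone_shortExact {L S C D : Cx A} (ψ : S ⟶ C) (ι : L ⟶ C) (π : C ⟶ D) (w : ι ≫ π = 0)
    (hS : (ShortComplex.mk ι π w).ShortExact) :
    ∃ w' : (ι ≫ mappingCone.inr ψ) ≫ mappingCone.map ψ (ψ ≫ π) (𝟙 S) π (by simp) = 0,
      (ShortComplex.mk (ι ≫ mappingCone.inr ψ)
        (mappingCone.map ψ (ψ ≫ π) (𝟙 S) π (by simp)) w').ShortExact := by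
  have w' : (ι ≫ mappingCone.inr ψ) ≫ mappingCone.map ψ (ψ ≫ π) (𝟙 S) π (by simp) = 0 := by
    rw [Category.assoc, mappingCone.map, mappingCone.inr_desc, ← Category.assoc, w, zero_comp]
  refine ⟨w', HomologicalComplex.shortExact_of_degreewise_shortExact _ (fun i => ?_)⟩
  have hSi := (HomologicalComplex.shortExact_iff_degreewise_shortExact _).1 hS i
  have hι : Function.Injective (ι.f i).hom := (ModuleCat.mono_iff_injective _).1 hSi.mono_f
  have hπ : Function.Surjective (π.f i).hom := (ModuleCat.epi_iff_surjective _).1 hSi.epi_g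
  have hex : ∀ c : C.X i, (π.f i).hom c = 0 → ∃ l : L.X i, (ι.f i).hom l = c :=
    (ShortComplex.moduleCat_exact_iff _).1 hSi.exact
  exact shortExact_of_decomp (ι.f i) (π.f i)
    ((mappingCone.inl ψ).v (i + 1) i (by omega)) ((mappingCone.inr ψ).f i)
    ((mappingCone.fst ψ).1.v i (i + 1) rfl) ((mappingCone.snd ψ).v i i (add_zero i))
    ((mappingCone.inl (ψ ≫ π)).v (i + 1) i (by omega)) ((mappingCone.inr (ψ ≫ π)).f i)
    ((mappingCone.fst (ψ ≫ π)).1.v i (i + 1) rfl) ((mappingCone.snd (ψ ≫ π)).v i i (add_zero i))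
    ((mappingCone.map ψ (ψ ≫ π) (𝟙 S) π (by simp)).f i)
    (mappingCone.inl_v_fst_v ψ (i + 1) i rfl) (mappingCone.inl_v_snd_v ψ (i + 1) i (by omega))
    (mappingCone.inr_f_fst_v ψ i (i + 1) rfl) (mappingCone.inr_f_snd_v ψ i)
    (mappingCone.id_X ψ i (i + 1) rfl)
    (mappingCone.inl_v_fst_v (ψ ≫ π) (i + 1) i rfl)
    (mappingCone.inl_v_snd_v (ψ ≫ π) (i + 1) i (by omega))
    (mappingCone.inr_f_fst_v (ψ ≫ π) i (i + 1) rfl) (mappingCone.inr_f_snd_v (ψ ≫ π) i)
    (mappingCone.id_X (ψ ≫ π) i (i + 1) rfl)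
    (cone_map_f ψ π i) hι hπ hex _

end Groth.Agent.Lib.DMod_helper6
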