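import Mathlib
import Groth.Prelude.Def_DRing2
import Groth.Agent.Lib.DMod17_helper6

/-!
# Derived category toolkit (helper6), part 18: an object of `D(A)` which is `m`-pseudo-coherent
for every `m` is represented by a bounded above complex of finite free modules.
-/

set_option autoImplicit false
universe u
open CategoryTheory CategoryTheory.Limits Pretriangulated DerivedCategory ZeroObject
attribute [local instance] HasDerivedCategory.standard

namespace Groth.Agent.Lib.DMod_helper6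

open DRing CochainComplex

variable {A : Type u} [CommRing A]

/-- the state of the construction: a short exact sequence `0 → L → C → D → 0` -/
structure CState (L : Cx A) where
  C : Cx A
  D : Cx A
  ι : L ⟶ C
  π : C ⟶ D
  w : ι ≫ π = 0

/-- the invariant at stage `n` -/
def CInv (L : Cx A) (b : ℤ) (n : ℕ) (s : CState L) : Prop :=
  (ShortComplex.mk s.ι s.π s.w).ShortExact ∧ TermwiseFiniteFree s.D ∧ VanishesAbove s.D (b - 1) ∧
    (∀ m : ℤ, IsPseudoCoherent A m (toD s.C)) ∧ DerivedCategory.IsLE (toD s.C) (b - n)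

/-- the relation between consecutive stages -/
def CRel (L : Cx A) (b : ℤ) (n : ℕ) (s s' : CState L) : Prop :=
  ∃ (j : s.C ⟶ s'.C) (k : s.D ⟶ s'.D), s.ι ≫ j = s'.ι ∧ j ≫ s'.π = s.π ≫ k ∧
    ∀ i : ℤ, i ≠ b - n - 1 → IsIso (j.f i) ∧ IsIso (k.f i)

theorem exists_next (L : Cx A) (b : ℤ) (n : ℕ) (s : CState L) (h : CInv L b n s) :
    ∃ s' : CState L, CInv L b (n + 1) s' ∧ CRel L b n s s' := by
  obtain ⟨hS, hff, hva, hpc, hle⟩ := h
  haveI := hle
  have hfinD : Module.Finite A
      ((DerivedCategory.homologyFunctor (ModuleCat.{u} A) (b - n)).obj (toD s.C)) :=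
    finite_HD_of_isPseudoCoherent (toD s.C) (b - n) (hpc (b - n))
      (fun i hi => DerivedCategory.isZero_of_isLE _ (b - n) i hi)
  have hfin : Module.Finite A (s.C.homology (b - n)) :=
    finite_of_iso ((homologyFunctorFactors (ModuleCat.{u} A) (b - n)).app s.C) hfinD
  obtain ⟨r, ψ, hψ⟩ := exists_single_hom_epi s.C (b - n) hfin
  obtain ⟨w', hS'⟩ := cone_shortExact ψ s.ι s.π s.w hS
  have hX1 : Module.Finite A (ModuleCat.of A (Fin r → A)) :=
    inferInstanceAs (Module.Finite A (Fin r → A))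
  have hX2 : Module.Free A (ModuleCat.of A (Fin r → A)) :=
    inferInstanceAs (Module.Free A (Fin r → A))
  obtain ⟨_, _, _, hSff⟩ := bfCls_single (ModuleCat.of A (Fin r → A)) hX1 hX2 (b - n)
  have hSz : ∀ i : ℤ, i ≠ b - n → IsZero (((HomologicalComplex.single (ModuleCat.{u} A)
      (ComplexShape.up ℤ) (b - n)).obj (ModuleCat.of A (Fin r → A))).X i) :=
    fun i hi => HomologicalComplex.isZero_single_obj_X _ _ _ i hi
  have hT := mappingCone_triangle_distinguished ψ
  refine ⟨⟨mappingCone ψ, mappingCone (ψ ≫ s.π), s.ι ≫ mappingCone.inr ψ,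
    mappingCone.map ψ (ψ ≫ s.π) (𝟙 _) s.π (by simp), w'⟩, ⟨hS', ?_, ?_, ?_, ?_⟩,
    ⟨mappingCone.inr ψ, mappingCone.inr (ψ ≫ s.π), rfl, ?_, ?_⟩⟩
  · intro i
    exact ⟨finite_of_iso (coneXIso (ψ ≫ s.π) i).symm (finite_biprod (hSff (i + 1)).1 (hff i).1),
      free_of_iso (coneXIso (ψ ≫ s.π) i).symm (free_biprod (hSff (i + 1)).2 (hff i).2)⟩
  · intro i hi
    exact IsZero.of_iso (isZero_biprod (hSz (i + 1) (by omega)) (hva i hi))
      (coneXIso (ψ ≫ s.π) i)
  · intro m
    have hSpc : IsPseudoCoherent A (m + 1) (toD ((HomologicalComplex.single (ModuleCat.{u} A)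
        (ComplexShape.up ℤ) (b - n)).obj (ModuleCat.of A (Fin r → A)))) :=
      (isPseudoCoherent_iff_pcmP _ _).2 (bfProp_le_pcmP (m + 1) _
        ⟨_, bfCls_single _ hX1 hX2 (b - n), ⟨Iso.refl _⟩⟩)
    exact (isPseudoCoherent_two_of_three _ hT m).1 hSpc (hpc m)
  · haveI : DerivedCategory.IsLE (Q.mapTriangle.obj (mappingCone.triangle ψ)).obj₁ (b - n) :=
      leP_single _ (b - n) (b - n) le_rfl
    haveI : DerivedCategory.IsLE (Q.mapTriangle.obj (mappingCone.triangle ψ)).obj₂ (b - n) := hle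
    have hepi : Epi ((DerivedCategory.homologyFunctor (ModuleCat.{u} A) (b - n)).map
        (Q.mapTriangle.obj (mappingCone.triangle ψ)).mor₁) :=
      (epi_homology_Q_map_iff ψ (b - n)).2 hψ
    have h3 := isLE_cone_of_epi _ hT (b - n) hepi
    have e : b - ((n + 1 : ℕ) : ℤ) = b - n - 1 := by push_cast; ring
    rw [e]
    exact h3
  · show mappingCone.inr ψ ≫ mappingCone.map ψ (ψ ≫ s.π) (𝟙 _) s.π (by simp) =
      s.π ≫ mappingCone.inr (ψ ≫ s.π)
    rw [mappingCone.map, mappingCone.inr_desc]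
  · intro i hi
    exact ⟨isIso_inr_f ψ i (hSz (i + 1) (by omega)),
      isIso_inr_f (ψ ≫ s.π) i (hSz (i + 1) (by omega))⟩

open scoped Classical in
/-- the sequence of stages -/
noncomputable def cseq (L : Cx A) (b : ℤ) (s0 : CState L) : ℕ → CState L
  | 0 => s0
  | n + 1 =>
    if h : CInv L b n (cseq L b s0 n) then (exists_next L b n _ h).choose else cseq L b s0 n

lemma cseq_succ (L : Cx A) (b : ℤ) (s0 : CState L) (n : ℕ) (h : CInv L b n (cseq L b s0 n)) :
    cseq L b s0 (n + 1) = (exists_next L b n _ h).choose := by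
  rw [cseq]
  exact dif_pos h

lemma cseq_inv (L : Cx A) (b : ℤ) (s0 : CState L) (h0 : CInv L b 0 s0) :
    ∀ n, CInv L b n (cseq L b s0 n)
  | 0 => h0
  | n + 1 => by
    have h := cseq_inv L b s0 h0 n
    rw [cseq_succ L b s0 n h]
    exact (exists_next L b n _ h).choose_spec.1

lemma cseq_rel (L : Cx A) (b : ℤ) (s0 : CState L) (h0 : CInv L b 0 s0) (n : ℕ) :
    CRel L b n (cseq L b s0 n) (cseq L b s0 (n + 1)) := by
  have h := cseq_inv L b s0 h0 n
  rw [cseq_succ L b s0 n h]
  exact (exists_next L b n _ h).choose_spec.2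

/-! ### eventually constant colimits of complexes -/

section Colim

variable {X : ℕ → Cx A} (f : ∀ n, X n ⟶ X (n + 1))

lemma ofSeq_map_f_isIso (i : ℤ) (N : ℕ) (hN : ∀ n, N ≤ n → IsIso ((f n).f i)) :
    ∀ m (h : N ≤ m), IsIso (((Functor.ofSequence f).map (homOfLE h)).f i) := by
  have key : ∀ k : ℕ,
      IsIso (((Functor.ofSequence f).map (homOfLE (Nat.le_add_right N k))).f i) := by
    intro k
    induction k with
    | zero =>
      have : (homOfLE (Nat.le_add_right N 0)) = 𝟙 N := Subsingleton.elim _ _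
      rw [this, CategoryTheory.Functor.map_id, HomologicalComplex.id_f]
      infer_instance
    | succ k ih =>
      have : homOfLE (Nat.le_add_right N (k + 1)) =
          homOfLE (Nat.le_add_right N k) ≫ homOfLE (Nat.le_add_right (N + k) 1) :=
        Subsingleton.elim _ _
      rw [this, Functor.map_comp, HomologicalComplex.comp_f,
        Functor.ofSequence_map_homOfLE_succ]
      exact @IsIso.comp_isIso _ _ _ _ _ _ _ ih (hN (N + k) (Nat.le_add_right N k))
  intro m h
  obtain ⟨k, rfl⟩ := Nat.exists_eq_add_of_le h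
  exact key k

lemma isIso_colimit_ι_f (i : ℤ) (N : ℕ) (hN : ∀ n, N ≤ n → IsIso ((f n).f i)) (n : ℕ)
    (hn : N ≤ n) : IsIso ((colimit.ι (Functor.ofSequence f) n).f i) := by
  have hc : (Functor.ofSequence f ⋙
      HomologicalComplex.eval (ModuleCat.{u} A) (ComplexShape.up ℤ) i).IsEventuallyConstantFrom
        N := by
    intro m φ
    have : φ = homOfLE (leOfHom φ) := Subsingleton.elim _ _
    rw [this]
    exact ofSeq_map_f_isIso f i N hN m (leOfHom φ)
  exact hc.isIso_ι_of_isColimit'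
    (isColimitOfPreserves (HomologicalComplex.eval (ModuleCat.{u} A) (ComplexShape.up ℤ) i)
      (colimit.isColimit (Functor.ofSequence f))) n (homOfLE hn)

end Colim

lemma quasiIsoAt_of_isIso_f {K L : Cx A} (φ : K ⟶ L) (i : ℤ) [IsIso (φ.f (i - 1))]
    [IsIso (φ.f i)] [IsIso (φ.f (i + 1))] : QuasiIsoAt φ i := by
  rw [quasiIsoAt_iff' _ (i - 1) i (i + 1) (by simp) (by simp)]
  let ψ := (HomologicalComplex.shortComplexFunctor' (ModuleCat.{u} A) (ComplexShape.up ℤ)
    (i - 1) i (i + 1)).map φ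
  have : IsIso ψ.τ₁ := inferInstanceAs (IsIso (φ.f (i - 1)))
  have : IsIso ψ.τ₂ := inferInstanceAs (IsIso (φ.f i))
  have : IsIso ψ.τ₃ := inferInstanceAs (IsIso (φ.f (i + 1)))
  apply ShortComplex.quasiIso_of_epi_of_isIso_of_mono

end Groth.Agent.Lib.DMod_helper6
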