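import Mathlib
import Groth.Prelude.Def_DRing2
import Groth.Agent.Lib.DMod18_helper6

/-!
# Derived category toolkit (helper6), part 19: an object of `D(A)` which is `m`-pseudo-coherent
for every `m` is pseudo-coherent (assembly of the colimit construction).
-/

set_option autoImplicit false
universe u
open CategoryTheory CategoryTheory.Limits Pretriangulated DerivedCategory ZeroObject
attribute [local instance] HasDerivedCategory.standard

namespace Groth.Agent.Lib.DMod_helper6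

open DRing CochainComplex

variable {A : Type u} [CommRing A]

lemma isZero_toD_of_exactAt (C : Cx A) (h : ∀ i, C.ExactAt i) : IsZero (toD C) := by
  haveI : DerivedCategory.IsLE (toD C) 0 := by
    rw [isLE_Q_obj_iff, CochainComplex.isLE_iff]
    exact fun i _ => h i
  haveI : DerivedCategory.IsGE (toD C) 1 := by
    rw [isGE_Q_obj_iff, CochainComplex.isGE_iff]
    exact fun i _ => h i
  exact TStructure.t.isZero (toD C) 0 1 (by omega)

theorem exists_limit_state (L : Cx A) (b : ℤ) (cs : ℕ → CState L)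
    (hinv : ∀ n, CInv L b n (cs n))
    (j : ∀ n, (cs n).C ⟶ (cs (n + 1)).C) (k : ∀ n, (cs n).D ⟶ (cs (n + 1)).D)
    (hj1 : ∀ n, (cs n).ι ≫ j n = (cs (n + 1)).ι)
    (hj2 : ∀ n, j n ≫ (cs (n + 1)).π = (cs n).π ≫ k n)
    (hj3 : ∀ (n : ℕ) (i : ℤ), i ≠ b - n - 1 → IsIso ((j n).f i) ∧ IsIso ((k n).f i)) :
    ∃ (C D : Cx A) (ι : L ⟶ C) (π : C ⟶ D) (w : ι ≫ π = 0),
      (ShortComplex.mk ι π w).ShortExact ∧ TermwiseFiniteFree D ∧ VanishesAbove D (b - 1) ∧
      ∀ i, C.ExactAt i := by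
  let FC : ℕ ⥤ Cx A := Functor.ofSequence j
  let FD : ℕ ⥤ Cx A := Functor.ofSequence k
  let πn : FC ⟶ FD := NatTrans.ofSequence (fun n => (cs n).π) (fun n => by
    rw [Functor.ofSequence_map_homOfLE_succ, Functor.ofSequence_map_homOfLE_succ]
    exact hj2 n)
  let cC : ∀ n, (cs n).C ⟶ colimit FC := fun n => colimit.ι FC n
  let cD : ∀ n, (cs n).D ⟶ colimit FD := fun n => colimit.ι FD n
  have hwC : ∀ n, j n ≫ cC (n + 1) = cC n := fun n => by
    have := colimit.w FC (homOfLE (Nat.le_add_right n 1))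
    rw [Functor.ofSequence_map_homOfLE_succ] at this
    exact this
  have hιn : ∀ n, (cs n).ι ≫ cC n = (cs 0).ι ≫ cC 0 := by
    intro n
    induction n with
    | zero => rfl
    | succ n ih => rw [← ih, ← hj1 n, Category.assoc, hwC n]
  have hπn : ∀ n, cC n ≫ colimMap πn = (cs n).π ≫ cD n := fun n =>
    ι_colimMap πn n
  have hw : ((cs 0).ι ≫ cC 0) ≫ colimMap πn = 0 := by
    rw [Category.assoc, hπn 0, ← Category.assoc, (cs 0).w, zero_comp]
  have hisoC : ∀ (i : ℤ) (n : ℕ), (b - i).toNat ≤ n → IsIso ((cC n).f i) := by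
    intro i n hn
    exact isIso_colimit_ι_f j i (b - i).toNat (fun m hm => (hj3 m i (by omega)).1) n hn
  have hisoD : ∀ (i : ℤ) (n : ℕ), (b - i).toNat ≤ n → IsIso ((cD n).f i) := by
    intro i n hn
    exact isIso_colimit_ι_f k i (b - i).toNat (fun m hm => (hj3 m i (by omega)).2) n hn
  refine ⟨colimit FC, colimit FD, (cs 0).ι ≫ cC 0, colimMap πn, hw, ?_, ?_, ?_, ?_⟩
  · refine HomologicalComplex.shortExact_of_degreewise_shortExact _ (fun i => ?_)
    have hSn := (HomologicalComplex.shortExact_iff_degreewise_shortExact _).1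
      (hinv (b - i).toNat).1 i
    haveI := hisoC i (b - i).toNat le_rfl
    haveI := hisoD i (b - i).toNat le_rfl
    refine ShortComplex.shortExact_of_iso
      (S₁ := (ShortComplex.mk _ _ (cs (b - i).toNat).w).map
        (HomologicalComplex.eval (ModuleCat.{u} A) (ComplexShape.up ℤ) i))
      (ShortComplex.isoMk (Iso.refl _)
      (@asIso _ _ _ _ ((cC (b - i).toNat).f i) (hisoC i (b - i).toNat le_rfl))
      (@asIso _ _ _ _ ((cD (b - i).toNat).f i) (hisoD i (b - i).toNat le_rfl))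
      ?_ ?_) hSn
    · show 𝟙 _ ≫ ((cs 0).ι ≫ cC 0).f i =
        ((cs (b - i).toNat).ι).f i ≫ (cC (b - i).toNat).f i
      rw [Category.id_comp, ← HomologicalComplex.comp_f, hιn (b - i).toNat]
    · show (cC (b - i).toNat).f i ≫ (colimMap πn).f i =
        ((cs (b - i).toNat).π).f i ≫ (cD (b - i).toNat).f i
      rw [← HomologicalComplex.comp_f, ← HomologicalComplex.comp_f, hπn]
  · intro i
    haveI := hisoD i (b - i).toNat le_rfl
    have e := asIso ((cD (b - i).toNat).f i)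
    have hff := (hinv (b - i).toNat).2.1 i
    exact ⟨finite_of_iso e hff.1, free_of_iso e hff.2⟩
  · intro i hi
    haveI := hisoD i (b - i).toNat le_rfl
    exact IsZero.of_iso ((hinv (b - i).toNat).2.2.1 i hi)
      (asIso ((cD (b - i).toNat).f i)).symm
  · intro i
    obtain ⟨n, hn⟩ : ∃ n : ℕ, n = (b - i).toNat + 2 := ⟨_, rfl⟩
    haveI := hisoC (i - 1) n (by omega)
    haveI := hisoC i n (by omega)
    haveI := hisoC (i + 1) n (by omega)
    haveI : QuasiIsoAt (cC n) i := quasiIsoAt_of_isIso_f _ i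
    haveI := (hinv n).2.2.2.2
    have hex : ((cs n).C).ExactAt i := exactAt_of_isZero_homology_toD _ i
      (DerivedCategory.isZero_of_isLE (toD (cs n).C) (b - n) i (by omega))
    exact (quasiIsoAt_iff_exactAt (cC n) i hex).1 inferInstance

/-- An object of `D(A)` which is `m`-pseudo-coherent for all `m` is represented by a bounded
above complex of finite free modules. -/
theorem isPseudoCoherent'_of_forall_isPseudoCoherent (K : Dual.D A)
    (hK : ∀ m : ℤ, IsPseudoCoherent A m K) : IsPseudoCoherent' A K := by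
  obtain ⟨b, hb⟩ := exists_isLE_of_pcmP 0 K ((isPseudoCoherent_iff_pcmP 0 K).1 (hK 0))
  let L : Cx A := Q.objPreimage K
  let eL : toD L ≅ K := Q.objObjPreimageIso K
  obtain ⟨Z, hZ, a0, b0, hZab, hZff⟩ := bfCls_zero (A := A)
  let s0 : CState L := ⟨L, Z, 𝟙 L, 0, comp_zero⟩
  have h0 : CInv L b 0 s0 := by
    refine ⟨?_, hZff, fun i _ => isZero_X_of_isZero hZ i, fun m => ?_, ?_⟩
    · refine HomologicalComplex.shortExact_of_degreewise_shortExact _ (fun i => ?_)
      have hz : IsZero (Z.X i) := isZero_X_of_isZero hZ i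
      refine ShortComplex.ShortExact.mk' ?_ ?_ ?_
      · refine (ShortComplex.exact_iff_epi _ (hz.eq_of_tgt _ _)).2 ?_
        show Epi ((𝟙 L : L ⟶ L).f i)
        rw [HomologicalComplex.id_f]; infer_instance
      · show Mono ((𝟙 L : L ⟶ L).f i)
        rw [HomologicalComplex.id_f]; infer_instance
      · exact ⟨fun _ _ _ => hz.eq_of_src _ _⟩
    · exact (isPseudoCoherent_iff_pcmP m _).2
        ((pcmP A m).prop_of_iso eL.symm ((isPseudoCoherent_iff_pcmP m K).1 (hK m)))
    · show DerivedCategory.IsLE (toD L) (b - ((0 : ℕ) : ℤ))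
      rw [Nat.cast_zero, sub_zero]
      haveI := hb
      exact TStructure.t.isLE_of_iso eL.symm b
  have hinv := cseq_inv L b s0 h0
  have hrel : ∀ n : ℕ, ∃ (j : (cseq L b s0 n).C ⟶ (cseq L b s0 (n + 1)).C)
      (k : (cseq L b s0 n).D ⟶ (cseq L b s0 (n + 1)).D),
      (cseq L b s0 n).ι ≫ j = (cseq L b s0 (n + 1)).ι ∧
      j ≫ (cseq L b s0 (n + 1)).π = (cseq L b s0 n).π ≫ k ∧
      ∀ i : ℤ, i ≠ b - n - 1 → IsIso (j.f i) ∧ IsIso (k.f i) :=
    fun n => cseq_rel L b s0 h0 n
  choose j k hj1 hj2 hj3 using hrel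
  obtain ⟨C, D, ι, π, w, hS, hff, hva, hex⟩ :=
    exists_limit_state L b (cseq L b s0) hinv j k hj1 hj2 hj3
  have hCz : IsZero (toD C) := isZero_toD_of_exactAt C hex
  have hT := triangleOfSES_distinguished hS
  have hiso : IsIso (triangleOfSES hS).mor₃ :=
    (Triangle.isZero₂_iff_isIso₃ (triangleOfSES hS) hT).1 hCz
  let e3 : toD D ≅ (toD L)⟦(1 : ℤ)⟧ := @asIso _ _ _ _ (triangleOfSES hS).mor₃ hiso
  have h1 : pcProp A (toD D) := by
    rw [pcProp_eq]
    exact ⟨D, ⟨b - 1, hva, hff⟩, ⟨Iso.refl _⟩⟩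
  have h2 : pcProp A ((toD D)⟦(-1 : ℤ)⟧) := (pcProp A).le_shift (-1) _ h1
  have e4 : (toD D)⟦(-1 : ℤ)⟧ ≅ K :=
    (CategoryTheory.shiftFunctor (Dual.D A) (-1 : ℤ)).mapIso e3 ≪≫
      (shiftFunctorCompIsoId (Dual.D A) (1 : ℤ) (-1) (by omega)).app (toD L) ≪≫ eL
  exact (pcProp A).prop_of_iso e4 h2

end Groth.Agent.Lib.DMod_helper6
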