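import Mathlib
import Groth.Prelude.Def_DRing2
import Groth.Agent.Lib.DMod19_helper6
import Groth.Agent.Lib.DMod6_helper6

/-!
# Derived category toolkit (helper6), part 20: brutal truncations (as sub/quotient complexes) and
the characterisation of pseudo-coherent objects as those `m`-pseudo-coherent for all `m`.
-/

set_option autoImplicit false
universe u
open CategoryTheory CategoryTheory.Limits Pretriangulated DerivedCategory ZeroObject
attribute [local instance] HasDerivedCategory.standard

namespace Groth.Agent.Lib.DMod_helper6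

open DRing CochainComplex

variable {A : Type u} [CommRing A]

section SubQuot

variable (E : Cx A) (N : ∀ i, Submodule A (E.X i))
  (hN : ∀ i j, N i ≤ (N j).comap (E.d i j).hom)

/-- the subcomplex given by a family of submodules stable under the differential -/
noncomputable def subCx : Cx A where
  X i := ModuleCat.of A (N i)
  d i j := ModuleCat.ofHom ((E.d i j).hom.restrict (hN i j))
  shape i j hij := by
    apply ModuleCat.hom_ext
    apply LinearMap.ext
    intro x
    apply Subtype.ext
    show (E.d i j).hom x.1 = 0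
    rw [E.shape i j hij]
    rfl
  d_comp_d' i j k _ _ := by
    apply ModuleCat.hom_ext
    apply LinearMap.ext
    intro x
    apply Subtype.ext
    show (E.d j k).hom ((E.d i j).hom x.1) = 0
    exact LinearMap.congr_fun (congrArg ModuleCat.Hom.hom (E.d_comp_d i j k)) x.1

/-- the inclusion of the subcomplex -/
noncomputable def subι : subCx E N hN ⟶ E where
  f i := ModuleCat.ofHom (N i).subtype
  comm' i j _ := by
    apply ModuleCat.hom_ext
    apply LinearMap.ext
    intro x
    rfl

/-- the quotient complex -/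
noncomputable def quotCx : Cx A where
  X i := ModuleCat.of A (E.X i ⧸ N i)
  d i j := ModuleCat.ofHom ((N i).mapQ (N j) (E.d i j).hom (hN i j))
  shape i j hij := by
    apply ModuleCat.hom_ext
    apply LinearMap.ext
    intro y
    obtain ⟨x, rfl⟩ := Submodule.mkQ_surjective (N i) y
    show Submodule.Quotient.mk ((E.d i j).hom x) = 0
    rw [E.shape i j hij]
    rfl
  d_comp_d' i j k _ _ := by
    apply ModuleCat.hom_ext
    apply LinearMap.ext
    intro y
    obtain ⟨x, rfl⟩ := Submodule.mkQ_surjective (N i) y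
    show Submodule.Quotient.mk ((E.d j k).hom ((E.d i j).hom x)) = 0
    have h := LinearMap.congr_fun (congrArg ModuleCat.Hom.hom (E.d_comp_d i j k)) x
    have h' : (E.d j k).hom ((E.d i j).hom x) = 0 := h
    rw [h']
    rfl

/-- the projection to the quotient complex -/
noncomputable def quotπ : E ⟶ quotCx E N hN where
  f i := ModuleCat.ofHom (N i).mkQ
  comm' i j _ := by
    apply ModuleCat.hom_ext
    apply LinearMap.ext
    intro x
    rfl

lemma subι_quotπ : subι E N hN ≫ quotπ E N hN = 0 := by
  apply HomologicalComplex.hom_ext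
  intro i
  apply ModuleCat.hom_ext
  apply LinearMap.ext
  intro x
  show Submodule.Quotient.mk x.1 = 0
  exact (Submodule.Quotient.mk_eq_zero _).2 x.2

lemma subQuot_shortExact :
    (ShortComplex.mk (subι E N hN) (quotπ E N hN) (subι_quotπ E N hN)).ShortExact := by
  refine HomologicalComplex.shortExact_of_degreewise_shortExact _ (fun i => ?_)
  refine ShortComplex.ShortExact.mk' ?_ ?_ ?_
  · rw [ShortComplex.moduleCat_exact_iff]
    intro x hx
    have hx' : x ∈ N i := (Submodule.Quotient.mk_eq_zero _).1 hx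
    exact ⟨⟨x, hx'⟩, rfl⟩
  · show Mono ((subι E N hN).f i)
    exact (ModuleCat.mono_iff_injective _).2 (Submodule.injective_subtype _)
  · show Epi ((quotπ E N hN).f i)
    exact (ModuleCat.epi_iff_surjective _).2 (Submodule.mkQ_surjective _)

end SubQuot

/-- the family of submodules defining the brutal truncation `σ_{≥ m}` -/
def truncN (E : Cx A) (m : ℤ) (i : ℤ) : Submodule A (E.X i) := if m ≤ i then ⊤ else ⊥

lemma truncN_of_le (E : Cx A) (m i : ℤ) (h : m ≤ i) : truncN E m i = ⊤ := if_pos h

lemma truncN_of_lt (E : Cx A) (m i : ℤ) (h : i < m) : truncN E m i = ⊥ := if_neg (not_le.2 h)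

lemma truncN_le (E : Cx A) (m : ℤ) (i j : ℤ) :
    truncN E m i ≤ (truncN E m j).comap (E.d i j).hom := by
  by_cases hij : (ComplexShape.up ℤ).Rel i j
  · have hij' : i + 1 = j := hij
    by_cases hi : m ≤ i
    · rw [truncN_of_le E m j (by omega)]
      intro x _
      exact Submodule.mem_top
    · rw [truncN_of_lt E m i (not_le.1 hi)]
      exact bot_le
  · intro x _
    show (E.d i j).hom x ∈ truncN E m j
    rw [E.shape i j hij]
    exact Submodule.zero_mem _

/-- brutal truncation: a short exact sequence `0 → σ_{≥m} E → E → σ_{<m} E → 0` -/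
theorem exists_trunc (E : Cx A) (m : ℤ) :
    ∃ (S T : Cx A) (ι : S ⟶ E) (π : E ⟶ T) (w : ι ≫ π = 0),
      (ShortComplex.mk ι π w).ShortExact ∧ (∀ i, m ≤ i → Nonempty (S.X i ≅ E.X i)) ∧
      (∀ i, i < m → IsZero (S.X i)) ∧ (∀ i, m ≤ i → IsZero (T.X i)) := by
  refine ⟨subCx E _ (truncN_le E m), quotCx E _ (truncN_le E m), subι _ _ _, quotπ _ _ _,
    subι_quotπ _ _ _, subQuot_shortExact _ _ _, ?_, ?_, ?_⟩
  · intro i hi
    exact ⟨(LinearEquiv.ofTop (truncN E m i) (truncN_of_le E m i hi)).toModuleIso⟩
  · intro i hi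
    have : Subsingleton (truncN E m i) :=
      Submodule.subsingleton_iff_eq_bot.2 (truncN_of_lt E m i hi)
    exact @ModuleCat.isZero_of_subsingleton _ _ (ModuleCat.of A (truncN E m i)) this
  · intro i hi
    have : Subsingleton (E.X i ⧸ truncN E m i) := by
      refine subsingleton_of_forall_eq 0 (fun y => ?_)
      obtain ⟨x, rfl⟩ := Submodule.mkQ_surjective _ y
      exact (Submodule.Quotient.mk_eq_zero _).2
        (by rw [truncN_of_le E m i hi]; exact Submodule.mem_top)
    exact @ModuleCat.isZero_of_subsingleton _ _ (ModuleCat.of A (E.X i ⧸ truncN E m i)) this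

lemma finite_free_of_isZero {M : ModuleCat.{u} A} (h : IsZero M) :
    Module.Finite A M ∧ Module.Free A M := by
  haveI : Subsingleton M := ModuleCat.subsingleton_of_isZero h
  exact ⟨Module.Finite.of_finite, Module.Free.of_subsingleton A M⟩

/-- A bounded above complex of finite free modules is `m`-pseudo-coherent for all `m`. -/
theorem pcmP_of_pcCls (E : Cx A) (hE : pcCls E) (m : ℤ) : pcmP A m (toD E) := by
  obtain ⟨b, hva, hff⟩ := hE
  obtain ⟨S, T, ι, π, w, hS, h1, h2, h3⟩ := exists_trunc E m
  haveI : T.IsStrictlyLE (m - 1) :=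
    (CochainComplex.isStrictlyLE_iff T (m - 1)).2 (fun i hi => h3 i (by omega))
  refine ⟨toD S, toD T, Q.map ι, Q.map π, (triangleOfSES hS).mor₃,
    triangleOfSES_distinguished hS, ?_, ?_⟩
  · refine ⟨S, ⟨m, b, ?_, ?_⟩, ⟨Iso.refl _⟩⟩
    · rintro i (hi | hi)
      · exact h2 i hi
      · by_cases hmi : m ≤ i
        · obtain ⟨e⟩ := h1 i hmi
          exact IsZero.of_iso (hva i hi) e
        · exact h2 i (by omega)
    · intro i
      by_cases hmi : m ≤ i
      · obtain ⟨e⟩ := h1 i hmi
        exact ⟨finite_of_iso e.symm (hff i).1, free_of_iso e.symm (hff i).2⟩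
      · exact finite_free_of_isZero (h2 i (by omega))
  · show DerivedCategory.IsLE (toD T) (m - 1)
    infer_instance

theorem pcmP_of_isPseudoCoherent' (K : Dual.D A) (hK : IsPseudoCoherent' A K) (m : ℤ) :
    pcmP A m K := by
  obtain ⟨E, hE, ⟨e⟩⟩ := (isPseudoCoherent'_iff K).1 hK
  exact (pcmP A m).prop_of_iso e (pcmP_of_pcCls E hE m)

/-- A bounded above complex of finite projective modules is `m`-pseudo-coherent for all `m`. -/
theorem pcmP_of_projCls (E : Cx A) (b : ℤ) (hva : VanishesAbove E b)
    (hfp : TermwiseFiniteProjective E) (m : ℤ) : pcmP A m (toD E) := by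
  obtain ⟨S, T, ι, π, w, hS, h1, h2, h3⟩ := exists_trunc E m
  haveI : T.IsStrictlyLE (m - 1) :=
    (CochainComplex.isStrictlyLE_iff T (m - 1)).2 (fun i hi => h3 i (by omega))
  have hT : leP A (m - 1) (toD T) := by
    show DerivedCategory.IsLE (toD T) (m - 1)
    infer_instance
  have hSperf : IsPerfect A (toD S) := by
    refine ⟨S, m, b, ?_, ?_, ⟨Iso.refl _⟩⟩
    · rintro i (hi | hi)
      · exact h2 i hi
      · by_cases hmi : m ≤ i
        · obtain ⟨e⟩ := h1 i hmi
          exact IsZero.of_iso (hva i hi) e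
        · exact h2 i (by omega)
    · intro i
      by_cases hmi : m ≤ i
      · obtain ⟨e⟩ := h1 i hmi
        exact ⟨finite_of_iso e.symm (hfp i).1, projective_of_iso e.symm (hfp i).2⟩
      · obtain ⟨hf1, hf2⟩ := finite_free_of_isZero (h2 i (by omega))
        exact ⟨hf1, inferInstance⟩
  have h4 : pcmP A m (toD S) :=
    pcmP_of_isPseudoCoherent' _ (isPseudoCoherent'_of_isPerfect _ hSperf) m
  exact pcmP_ext m _ ⟨toD S, toD T, Q.map ι, Q.map π, (triangleOfSES hS).mor₃,
    triangleOfSES_distinguished hS, h4, leP_le_pcmP m _ hT⟩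

/-- `K` is pseudo-coherent iff it is `m`-pseudo-coherent for all `m`. -/
theorem isPseudoCoherent'_iff_forall (K : Dual.D A) :
    IsPseudoCoherent' A K ↔ ∀ m : ℤ, IsPseudoCoherent A m K :=
  ⟨fun h m => (isPseudoCoherent_iff_pcmP m K).2 (pcmP_of_isPseudoCoherent' K h m),
    isPseudoCoherent'_of_forall_isPseudoCoherent K⟩

end Groth.Agent.Lib.DMod_helper6
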