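import Mathlib
import Groth.Prelude.Def_DRing2
import Groth.Agent.Lib.DMod20_helper6
import Groth.Agent.Lib.DMod3_helper6

/-!
# Derived category toolkit (helper6), part 21: `m`-pseudo-coherence from the cohomology modules
and from the terms of a bounded above complex.
-/

set_option autoImplicit false
universe u
open CategoryTheory CategoryTheory.Limits Pretriangulated DerivedCategory ZeroObject
attribute [local instance] HasDerivedCategory.standard

namespace Groth.Agent.Lib.DMod_helper6

open DRing ObjectProperty Groth.Agent.Lib.DerivedTrunc_helper2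

variable {A : Type u} [CommRing A]

lemma pcmP_of_isZero (m : ℤ) (K : Dual.D A) (h : IsZero K) : pcmP A m K :=
  leP_le_pcmP m _ ((leP A (m - 1)).prop_of_isZero h)

theorem pcmP_of_homology_aux (n : ℕ) : ∀ (K : Dual.D A) (m a : ℤ), a + 1 = m + n →
    DerivedCategory.IsLE K a →
    (∀ i : ℤ, m ≤ i → pcmP A (m - i) ((DerivedCategory.singleFunctor _ 0).obj
        ((DerivedCategory.homologyFunctor (ModuleCat.{u} A) i).obj K))) →
    pcmP A m K := by
  induction n with
  | zero =>
    intro K m a ha hK _
    obtain rfl : a = m - 1 := by push_cast at ha; omega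
    exact leP_le_pcmP m _ hK
  | succ n ih =>
    intro K m a ha hK hpc
    haveI := hK
    have ha' : a = m + n := by push_cast at ha; omega
    have hT := (tt (ModuleCat.{u} A)).triangleLEGT_distinguished (a - 1) K
    have h1 : pcmP A m (((tt (ModuleCat.{u} A)).truncLE (a - 1)).obj K) := by
      refine ih _ m (a - 1) (by omega) inferInstance (fun i hi => ?_)
      by_cases hi' : i ≤ a - 1
      · haveI := isIso_homology_map_truncLEι K (a - 1) i hi'
        exact (pcmP A (m - i)).prop_of_iso ((DerivedCategory.singleFunctor _ 0).mapIso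
          (asIso ((DerivedCategory.homologyFunctor _ i).map
            (((tt _).truncLEι (a - 1)).app K))).symm) (hpc i hi)
      · have hz : IsZero ((DerivedCategory.homologyFunctor (ModuleCat.{u} A) i).obj
            (((tt (ModuleCat.{u} A)).truncLE (a - 1)).obj K)) :=
          isZero_homology_truncLE K (a - 1) i (by omega)
        exact pcmP_of_isZero (m - i) _ ((DerivedCategory.singleFunctor _ 0).map_isZero hz)
    haveI : DerivedCategory.IsGE (((tt (ModuleCat.{u} A)).truncGT (a - 1)).obj K) a := by
      have h : DerivedCategory.IsGE (((tt (ModuleCat.{u} A)).truncGT (a - 1)).obj K)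
          (a - 1 + 1) := inferInstance
      rwa [sub_add_cancel] at h
    haveI : DerivedCategory.IsLE (((tt (ModuleCat.{u} A)).truncGT (a - 1)).obj K) a :=
      isLE_truncGT_of_isLE K (a - 1) a (by omega)
    obtain ⟨e⟩ := exists_iso_single_homology (((tt (ModuleCat.{u} A)).truncGT (a - 1)).obj K) a
    haveI := isIso_homology_map_truncGTπ K (a - 1) a (by omega)
    have h3 : pcmP A m (((tt (ModuleCat.{u} A)).truncGT (a - 1)).obj K) := by
      refine (pcmP A m).prop_of_iso e.symm (pcmP_single _ a (m - a) m (by omega) ?_)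
      exact (pcmP A (m - a)).prop_of_iso ((DerivedCategory.singleFunctor _ 0).mapIso
        (asIso ((DerivedCategory.homologyFunctor _ a).map
          (((tt _).truncGTπ (a - 1)).app K)))) (hpc a (by omega))
    exact pcmP_ext m _ ⟨_, _, _, _, _, hT, h1, h3⟩

/-- If `K` is bounded above and `H^i(K)` is `(m - i)`-pseudo-coherent for all `i`, then `K` is
`m`-pseudo-coherent. -/
theorem isPseudoCoherent_of_homology (K : Dual.D A) (m : ℤ)
    (hb : ∃ b : ℤ, ∀ i : ℤ, b < i → Subsingleton (Dual.HD A K i))
    (h : ∀ i : ℤ, IsPseudoCoherentModule A (m - i) (Dual.HD A K i)) :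
    IsPseudoCoherent A m K := by
  obtain ⟨b, hb⟩ := hb
  haveI : DerivedCategory.IsLE K b := isLE_of_subsingleton_HD K b hb
  rw [isPseudoCoherent_iff_pcmP]
  obtain ⟨a, hba, hma⟩ : ∃ a : ℤ, b ≤ a ∧ m - 1 ≤ a :=
    ⟨max b (m - 1), le_max_left _ _, le_max_right _ _⟩
  refine pcmP_of_homology_aux (a + 1 - m).toNat K m a (by omega)
    (TStructure.t.isLE_of_le K b _ hba) (fun i _ => ?_)
  exact (isPseudoCoherent_iff_pcmP _ _).1 (h i)

theorem isPseudoCoherentModule_of_isPseudoCoherentModule' (M : Type u) [AddCommGroup M]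
    [Module A M] (h : IsPseudoCoherentModule' A M) (m : ℤ) : IsPseudoCoherentModule A m M :=
  (isPseudoCoherent'_iff_forall _).1 h m

theorem isPseudoCoherent'_of_homology (K : Dual.D A)
    (hb : ∃ b : ℤ, ∀ i : ℤ, b < i → Subsingleton (Dual.HD A K i))
    (h : ∀ i : ℤ, IsPseudoCoherentModule' A (Dual.HD A K i)) :
    IsPseudoCoherent' A K :=
  (isPseudoCoherent'_iff_forall K).2 (fun m => isPseudoCoherent_of_homology K m hb
    (fun i => isPseudoCoherentModule_of_isPseudoCoherentModule' _ (h i) _))

/-- Degree-tracking dévissage on the terms of a bounded complex. -/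
theorem pcmP_devissage_termwise (m : ℤ) (n : ℕ) :
    ∀ (a : ℤ) (K : Cx A), (∀ i : ℤ, (i < a ∨ a + n ≤ i) → IsZero (K.X i)) →
      (∀ i : ℤ, pcmP A (m - i) ((DerivedCategory.singleFunctor _ 0).obj (K.X i))) →
      pcmP A m (toD K) := by
  induction n with
  | zero =>
    intro a K hK _
    have : IsZero K := isZero_of_forall_isZero_X (fun i => hK i (by omega))
    exact pcmP_of_isZero m _ (Q.map_isZero this)
  | succ n ih =>
    intro a K hK h𝒮
    let f : K ⟶ (HomologicalComplex.single _ (ComplexShape.up ℤ) a).obj (K.X a) :=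
      HomologicalComplex.mkHomToSingle (𝟙 _)
        (fun i hi => (hK i (by simp at hi; omega)).eq_of_src _ _)
    have hfa : IsIso (f.f a) := by
      rw [HomologicalComplex.mkHomToSingle_f]
      infer_instance
    have htgt : ∀ i, i ≠ a →
        IsZero (((HomologicalComplex.single (ModuleCat.{u} A) (ComplexShape.up ℤ) a).obj
          (K.X a)).X i) :=
      fun i hi => HomologicalComplex.isZero_single_obj_X _ a _ i hi
    haveI : Epi f := by
      refine HomologicalComplex.epi_of_epi_f f (fun i => ?_)
      by_cases h : i = a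
      · subst h; infer_instance
      · exact ⟨fun g h' _ => (htgt i h).eq_of_src g h'⟩
    have hS : (ShortComplex.kernelSequence f).ShortExact :=
      ShortComplex.ShortExact.mk' (ShortComplex.kernelSequence_exact f) inferInstance
        (by show Epi f; infer_instance)
    let e : ∀ i, (kernel f).X i ≅ kernel (f.f i) := fun i =>
      PreservesKernel.iso (HomologicalComplex.eval _ _ i) f
    have hker_zero : ∀ i, IsZero (K.X i) → IsZero ((kernel f).X i) := fun i hi =>
      IsZero.of_iso (IsZero.of_mono (kernel.ι (f.f i)) hi) (e i)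
    have hker_a : IsZero ((kernel f).X a) :=
      IsZero.of_iso (isZero_kernel_of_mono (f.f a)) (e a)
    have hker_iso : ∀ i, i ≠ a → Nonempty ((kernel f).X i ≅ K.X i) := fun i hi => by
      have h0 : f.f i = 0 := (htgt i hi).eq_of_tgt _ _
      refine ⟨e i ≪≫ ?_⟩
      rw [h0]
      exact asIso (kernel.ι (0 : K.X i ⟶ _))
    have h1 : pcmP A m (toD (kernel f)) := by
      refine ih (a + 1) (kernel f) (fun i hi => ?_) (fun i => ?_)
      · by_cases h : i = a
        · subst h; exact hker_a
        · exact hker_zero i (hK i (by push_cast; omega))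
      · by_cases h : i = a
        · subst h
          exact pcmP_of_isZero _ _ ((DerivedCategory.singleFunctor _ 0).map_isZero hker_a)
        · obtain ⟨e'⟩ := hker_iso i h
          exact (pcmP A (m - i)).prop_of_iso
            ((DerivedCategory.singleFunctor _ 0).mapIso e'.symm) (h𝒮 i)
    have h3 : pcmP A m
        (toD ((HomologicalComplex.single _ (ComplexShape.up ℤ) a).obj (K.X a))) :=
      (pcmP A m).prop_of_iso ((singleFunctorIsoCompQ _ a).app (K.X a))
        (pcmP_single (K.X a) a (m - a) m (by omega) (h𝒮 a))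
    exact pcmP_ext m _ ⟨_, _, _, _, _, triangleOfSES_distinguished hS, h1, h3⟩

/-- If `K` is a bounded above complex whose term `K^i` is `(m - i)`-pseudo-coherent for all `i`,
then `K` is `m`-pseudo-coherent. -/
theorem isPseudoCoherent_of_terms (K : Cx A) (b : ℤ) (hb : VanishesAbove K b) (m : ℤ)
    (h : ∀ i : ℤ, IsPseudoCoherentModule A (m - i) (K.X i)) :
    IsPseudoCoherent A m (toD K) := by
  rw [isPseudoCoherent_iff_pcmP]
  obtain ⟨S, T, ι, π, w, hS, h1, h2, h3⟩ := exists_trunc K m
  haveI : T.IsStrictlyLE (m - 1) :=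
    (CochainComplex.isStrictlyLE_iff T (m - 1)).2 (fun i hi => h3 i (by omega))
  have hT : leP A (m - 1) (toD T) := by
    show DerivedCategory.IsLE (toD T) (m - 1)
    infer_instance
  have hSm : pcmP A m (toD S) := by
    refine pcmP_devissage_termwise m (b + 1 - m).toNat m S (fun i hi => ?_) (fun i => ?_)
    · rcases hi with hi | hi
      · exact h2 i hi
      · obtain ⟨e⟩ := h1 i (by omega)
        exact IsZero.of_iso (hb i (by omega)) e
    · by_cases hi : m ≤ i
      · obtain ⟨e⟩ := h1 i hi
        exact (pcmP A (m - i)).prop_of_iso ((DerivedCategory.singleFunctor _ 0).mapIso e.symm)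
          ((isPseudoCoherent_iff_pcmP _ _).1 (h i))
      · exact pcmP_of_isZero _ _
          ((DerivedCategory.singleFunctor _ 0).map_isZero (h2 i (by omega)))
  exact pcmP_ext m _ ⟨toD S, toD T, Q.map ι, Q.map π, _, triangleOfSES_distinguished hS, hSm,
    leP_le_pcmP m _ hT⟩

theorem isPseudoCoherent'_of_terms (K : Cx A) (b : ℤ) (hb : VanishesAbove K b)
    (h : ∀ i : ℤ, IsPseudoCoherentModule' A (K.X i)) :
    IsPseudoCoherent' A (toD K) :=
  (isPseudoCoherent'_iff_forall _).2 (fun m => isPseudoCoherent_of_terms K b hb m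
    (fun i => isPseudoCoherentModule_of_isPseudoCoherentModule' _ (h i) _))

end Groth.Agent.Lib.DMod_helper6
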