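import Mathlib
import Groth.Prelude.Def_DRing2
import Groth.Agent.Lib.DMod21_helper6
import Groth.Agent.Lib.DMod16_helper6

/-!
# Derived category toolkit (helper6), part 22: splitting off the bottom of a K-projective complex
from the vanishing of morphisms to modules; direct summands of perfect complexes.
-/

set_option autoImplicit false
universe u
open CategoryTheory CategoryTheory.Limits Pretriangulated DerivedCategory ZeroObject
attribute [local instance] HasDerivedCategory.standard

namespace Groth.Agent.Lib.DMod_helper6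

open DRing CochainComplex

variable {A : Type u} [CommRing A]

lemma homotopy_zero_of_Q_map_eq_zero {P Y : Cx A} [P.IsKProjective] (φ : P ⟶ Y)
    (h : Q.map φ = 0) : Nonempty (Homotopy φ 0) := by
  have hinj := (CochainComplex.IsKProjective.Qh_map_bijective P
    ((HomotopyCategory.quotient _ _).obj Y)).injective
  have h1 : Qh.map ((HomotopyCategory.quotient _ _).map φ) =
      Qh.map ((HomotopyCategory.quotient _ _).map (0 : P ⟶ Y)) := by
    have e1 := (quotientCompQhIso (ModuleCat.{u} A)).hom.naturality φ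
    simp only [Functor.comp_map] at e1
    rw [h, comp_zero] at e1
    have h2 : Qh.map ((HomotopyCategory.quotient _ _).map φ) = 0 := by
      rw [← cancel_mono ((quotientCompQhIso (ModuleCat.{u} A)).hom.app Y), e1, zero_comp]
    rw [h2, Functor.map_zero, Functor.map_zero]
  exact ⟨HomotopyCategory.homotopyOfEq _ _ (hinj h1)⟩

lemma exactAt_of_forall (E : Cx A) (i j k : ℤ) (hij : i + 1 = j) (hjk : j + 1 = k)
    (h : ∀ y : E.X j, (E.d j k).hom y = 0 → ∃ x : E.X i, (E.d i j).hom x = y) :
    E.ExactAt j := by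
  rw [HomologicalComplex.exactAt_iff' E i j k (by simp [← hij]) (by simp [← hjk])]
  rw [ShortComplex.moduleCat_exact_iff]
  exact h

lemma exists_factor_of_homotopy (P : Cx A) (c : ℤ) (M : ModuleCat.{u} A) (g : P.X c ⟶ M)
    (hg : ∀ i, (ComplexShape.up ℤ).Rel i c → P.d i c ≫ g = 0)
    (H : Homotopy (HomologicalComplex.mkHomToSingle g hg) 0) :
    ∃ h : P.X (c + 1) ⟶ M, g = P.d c (c + 1) ≫ h := by
  have hc := H.comm c
  rw [dNext_eq H.hom (show (ComplexShape.up ℤ).Rel c (c + 1) from rfl),
    prevD_eq H.hom (show (ComplexShape.up ℤ).Rel (c - 1) c from by simp),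
    HomologicalComplex.mkHomToSingle_f, HomologicalComplex.zero_f, add_zero,
    HomologicalComplex.single_obj_d, comp_zero, add_zero] at hc
  refine ⟨H.hom (c + 1) c ≫ (HomologicalComplex.singleObjXSelf (ComplexShape.up ℤ) c M).hom, ?_⟩
  rw [← Category.assoc, ← hc, Category.assoc, Iso.inv_hom_id, Category.comp_id]

/-- the chain map `P → B^{c+1}[-c]` given by the differential -/
noncomputable def toSingleB (P : Cx A) (c : ℤ) :
    P ⟶ (HomologicalComplex.single (ModuleCat.{u} A) (ComplexShape.up ℤ) c).obj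
      (ModuleCat.of A (LinearMap.range (P.d c (c + 1)).hom)) :=
  HomologicalComplex.mkHomToSingle (ModuleCat.ofHom (P.d c (c + 1)).hom.rangeRestrict)
    (fun i _ => by
      apply ModuleCat.hom_ext
      apply LinearMap.ext
      intro x
      apply Subtype.ext
      exact LinearMap.congr_fun (congrArg ModuleCat.Hom.hom (P.d_comp_d i c (c + 1))) x)

lemma exists_retraction_of_Q_map_toSingleB (P : Cx A) [P.IsKProjective] (c : ℤ)
    (h : Q.map (toSingleB P c) = 0) :
    ∃ r : P.X (c + 1) →ₗ[A] P.X (c + 1),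
      (∀ y, r y ∈ LinearMap.range (P.d c (c + 1)).hom) ∧
      (∀ y, r ((P.d c (c + 1)).hom y) = (P.d c (c + 1)).hom y) := by
  obtain ⟨H⟩ := homotopy_zero_of_Q_map_eq_zero _ h
  obtain ⟨k, hk⟩ := exists_factor_of_homotopy P c _ _ _ H
  refine ⟨(LinearMap.range (P.d c (c + 1)).hom).subtype.comp k.hom, fun y => (k.hom y).2,
    fun y => ?_⟩
  have h1 := LinearMap.congr_fun (congrArg ModuleCat.Hom.hom hk) y
  exact (congrArg Subtype.val h1).symm

/-- the chain map `P → coker(d^{c-1})[-c]` -/
noncomputable def toSingleCoker (P : Cx A) (c : ℤ) :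
    P ⟶ (HomologicalComplex.single (ModuleCat.{u} A) (ComplexShape.up ℤ) c).obj
      (ModuleCat.of A (P.X c ⧸ LinearMap.range (P.d (c - 1) c).hom)) :=
  HomologicalComplex.mkHomToSingle
    (ModuleCat.ofHom (Submodule.mkQ (LinearMap.range (P.d (c - 1) c).hom)))
    (fun i hi => by
      obtain rfl : i = c - 1 := by
        have : i + 1 = c := hi
        omega
      apply ModuleCat.hom_ext
      apply LinearMap.ext
      intro x
      show Submodule.Quotient.mk ((P.d (c - 1) c).hom x) = 0
      exact (Submodule.Quotient.mk_eq_zero _).2 ⟨x, rfl⟩)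

lemma exactAt_of_Q_map_toSingleCoker (P : Cx A) [P.IsKProjective] (c : ℤ)
    (h : Q.map (toSingleCoker P c) = 0) : P.ExactAt c := by
  obtain ⟨H⟩ := homotopy_zero_of_Q_map_eq_zero _ h
  obtain ⟨k, hk⟩ := exists_factor_of_homotopy P c _ _ _ H
  refine exactAt_of_forall P (c - 1) c (c + 1) (by omega) rfl (fun y hy => ?_)
  have h1 : Submodule.Quotient.mk y = k.hom ((P.d c (c + 1)).hom y) :=
    LinearMap.congr_fun (congrArg ModuleCat.Hom.hom hk) y
  rw [hy, map_zero] at h1
  obtain ⟨x, hx⟩ := (Submodule.Quotient.mk_eq_zero _).1 h1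
  exact ⟨x, hx⟩

/-! ### the subcomplex `… → P^{c-1} → P^c → B^{c+1} → 0` -/

/-- submodules defining the subcomplex `… → P^{c-1} → P^c → B^{c+1} → 0` -/
def splitN (P : Cx A) (c : ℤ) (i : ℤ) : Submodule A (P.X i) :=
  if i ≤ c then ⊤ else if i = c + 1 then LinearMap.range (P.d c i).hom else ⊥

lemma splitN_of_le (P : Cx A) (c i : ℤ) (h : i ≤ c) : splitN P c i = ⊤ := if_pos h

lemma splitN_of_gt (P : Cx A) (c i : ℤ) (h : c + 1 < i) : splitN P c i = ⊥ := by
  unfold splitN
  rw [if_neg (by omega), if_neg (by omega)]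

lemma splitN_succ (P : Cx A) (c : ℤ) :
    splitN P c (c + 1) = LinearMap.range (P.d c (c + 1)).hom := by
  unfold splitN
  rw [if_neg (by omega), if_pos rfl]

lemma splitN_stable (P : Cx A) (c : ℤ) (i j : ℤ) :
    splitN P c i ≤ (splitN P c j).comap (P.d i j).hom := by
  by_cases hij : (ComplexShape.up ℤ).Rel i j
  · have hij' : i + 1 = j := hij
    by_cases hj : j ≤ c
    · rw [splitN_of_le P c j hj]
      intro x _
      exact Submodule.mem_top
    · by_cases hj' : j = c + 1
      · subst hj'
        obtain rfl : i = c := by omega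
        rw [splitN_succ]
        intro x _
        exact ⟨x, rfl⟩
      · rw [splitN_of_gt P c j (by omega)]
        by_cases hi : i = c + 1
        · subst hi
          rw [splitN_succ]
          rintro _ ⟨y, rfl⟩
          show (P.d (c + 1) j).hom ((P.d c (c + 1)).hom y) ∈ (⊥ : Submodule A (P.X j))
          rw [Submodule.mem_bot]
          exact LinearMap.congr_fun (congrArg ModuleCat.Hom.hom (P.d_comp_d c (c + 1) j)) y
        · rw [splitN_of_gt P c i (by omega)]
          exact bot_le
  · intro x _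
    show (P.d i j).hom x ∈ splitN P c j
    rw [P.shape i j hij]
    exact Submodule.zero_mem _

lemma subCx_exactAt_of_forall (E : Cx A) (N : ∀ i, Submodule A (E.X i))
    (hN : ∀ i j, N i ≤ (N j).comap (E.d i j).hom) (i j k : ℤ) (hij : i + 1 = j)
    (hjk : j + 1 = k)
    (h : ∀ y : E.X j, y ∈ N j → (E.d j k).hom y = 0 →
      ∃ x : E.X i, x ∈ N i ∧ (E.d i j).hom x = y) :
    (subCx E N hN).ExactAt j := by
  refine exactAt_of_forall _ i j k hij hjk (fun y hy => ?_)
  let y' : N j := y
  obtain ⟨x, hx, hxy⟩ := h y'.1 y'.2 (congrArg Subtype.val hy)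
  exact ⟨(⟨x, hx⟩ : N i), Subtype.ext hxy⟩

lemma subCx_splitN_exactAt (P : Cx A) (c : ℤ) (hex : ∀ i, i ≤ c → P.ExactAt i) (i : ℤ) :
    (subCx P (splitN P c) (splitN_stable P c)).ExactAt i := by
  by_cases hi : i ≤ c
  · refine subCx_exactAt_of_forall _ _ _ (i - 1) i (i + 1) (by omega) rfl (fun y _ hy => ?_)
    obtain ⟨x, hx⟩ := exists_d_eq_of_exactAt P (i - 1) i (i + 1) (by omega) rfl (hex i hi) y hy
    exact ⟨x, by rw [splitN_of_le P c (i - 1) (by omega)]; exact Submodule.mem_top, hx⟩
  · by_cases hi' : i = c + 1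
    · subst hi'
      refine subCx_exactAt_of_forall _ _ _ c (c + 1) (c + 1 + 1) rfl rfl (fun y hy _ => ?_)
      rw [splitN_succ] at hy
      obtain ⟨x, hx⟩ := hy
      exact ⟨x, by rw [splitN_of_le P c c le_rfl]; exact Submodule.mem_top, hx⟩
    · refine subCx_exactAt_of_forall _ _ _ (i - 1) i (i + 1) (by omega) rfl (fun y hy _ => ?_)
      rw [splitN_of_gt P c i (by omega), Submodule.mem_bot] at hy
      exact ⟨0, Submodule.zero_mem _, by rw [map_zero, hy]⟩

/-- Quotient of `P` by the acyclic subcomplex `… → P^c → B^{c+1} → 0`, when `B^{c+1}` is a direct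
summand of `P^{c+1}`. -/
theorem exists_quot_of_retraction (P : Cx A) (c : ℤ) (hex : ∀ i, i ≤ c → P.ExactAt i)
    (r : P.X (c + 1) →ₗ[A] P.X (c + 1))
    (hr1 : ∀ y, r y ∈ LinearMap.range (P.d c (c + 1)).hom)
    (hr2 : ∀ y, r ((P.d c (c + 1)).hom y) = (P.d c (c + 1)).hom y) :
    ∃ (T : Cx A) (π : P ⟶ T), IsIso (Q.map π) ∧ (∀ i, i ≤ c → IsZero (T.X i)) ∧
      (∀ i, c + 1 < i → Nonempty (T.X i ≅ P.X i)) ∧
      (Module.Projective A (P.X (c + 1)) → Module.Projective A (T.X (c + 1))) ∧
      (Module.Finite A (P.X (c + 1)) → Module.Finite A (T.X (c + 1))) := by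
  have hS := subQuot_shortExact P (splitN P c) (splitN_stable P c)
  have hz : IsZero (toD (subCx P (splitN P c) (splitN_stable P c))) :=
    isZero_toD_of_exactAt _ (subCx_splitN_exactAt P c hex)
  have hT := triangleOfSES_distinguished hS
  have hiso : IsIso (Q.map (quotπ P (splitN P c) (splitN_stable P c))) :=
    (Triangle.isZero₁_iff_isIso₂ (triangleOfSES hS) hT).1 hz
  refine ⟨quotCx P (splitN P c) (splitN_stable P c), quotπ P _ _, hiso, ?_, ?_, ?_, ?_⟩
  · intro i hi
    have : Subsingleton (P.X i ⧸ splitN P c i) := by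
      refine subsingleton_of_forall_eq 0 (fun y => ?_)
      obtain ⟨x, rfl⟩ := Submodule.mkQ_surjective _ y
      exact (Submodule.Quotient.mk_eq_zero _).2
        (by rw [splitN_of_le P c i hi]; exact Submodule.mem_top)
    exact @ModuleCat.isZero_of_subsingleton _ _ (ModuleCat.of A (P.X i ⧸ splitN P c i)) this
  · intro i hi
    exact ⟨(Submodule.quotEquivOfEqBot _ (splitN_of_gt P c i hi)).toModuleIso⟩
  · intro hproj
    have hB : splitN P c (c + 1) = LinearMap.range (P.d c (c + 1)).hom := splitN_succ P c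
    let ι : (P.X (c + 1) ⧸ splitN P c (c + 1)) →ₗ[A] P.X (c + 1) :=
      (splitN P c (c + 1)).liftQ (LinearMap.id - r) (by
        intro x hx
        rw [hB] at hx
        obtain ⟨y, rfl⟩ := hx
        rw [LinearMap.mem_ker, LinearMap.sub_apply, LinearMap.id_apply, hr2, sub_self])
    refine Module.Projective.of_split ι (splitN P c (c + 1)).mkQ ?_
    apply LinearMap.ext
    intro y
    obtain ⟨x, rfl⟩ := Submodule.mkQ_surjective _ y
    show Submodule.Quotient.mk (x - r x) = Submodule.Quotient.mk x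
    rw [Submodule.Quotient.mk_sub, sub_eq_self]
    exact (Submodule.Quotient.mk_eq_zero _).2 (by rw [hB]; exact hr1 x)
  · intro hfin
    haveI := hfin
    exact (inferInstance : Module.Finite A (P.X (c + 1) ⧸ splitN P c (c + 1)))

end Groth.Agent.Lib.DMod_helper6
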