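import Mathlib
import Groth.Prelude.Def_DRing2
import Groth.Agent.Lib.DMod22_helper6

/-!
# Derived category toolkit (helper6), part 23: direct summands of perfect complexes are perfect.
-/

set_option autoImplicit false
universe u
open CategoryTheory CategoryTheory.Limits Pretriangulated DerivedCategory ZeroObject
attribute [local instance] HasDerivedCategory.standard

namespace Groth.Agent.Lib.DMod_helper6

open DRing CochainComplex

variable {A : Type u} [CommRing A]

/-- morphisms out of a retract of `toD E` to an object which is `≤ n` vanish, when `E` is a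
K-projective complex concentrated in degrees `> n` -/
lemma hom_eq_zero_of_retract (E : Cx A) [E.IsKProjective] (n : ℤ)
    (hE : ∀ i, i ≤ n → IsZero (E.X i))
    (X K : Dual.D A) (e : toD E ≅ X) (i : K ⟶ X) (p : X ⟶ K) (hip : i ≫ p = 𝟙 K)
    (Y : Dual.D A) [DerivedCategory.IsLE Y n] (f : K ⟶ Y) : f = 0 := by
  have h0 : e.hom ≫ p ≫ f = 0 := hom_eq_zero_of_isKProjective_of_isLE E n hE Y _
  have h1 : p ≫ f = 0 := by rw [← cancel_epi e.hom, h0, comp_zero]
  calc f = (i ≫ p) ≫ f := by rw [hip, Category.id_comp]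
    _ = 0 := by rw [Category.assoc, h1, comp_zero]

/-- A pseudo-coherent retract of a perfect object is perfect. -/
theorem isPerfect_of_retract (K X : Dual.D A) (i : K ⟶ X) (p : X ⟶ K) (hip : i ≫ p = 𝟙 K)
    (hX : IsPerfect A X) (hK : IsPseudoCoherent' A K) : IsPerfect A K := by
  obtain ⟨E, a, b, hab, hfp, ⟨e⟩⟩ := hX
  obtain ⟨P, b', hva, hff, ⟨eP⟩⟩ := hK
  haveI : P.IsKProjective := isKProjective_of_pcCls ⟨b', hva, hff⟩
  haveI : E.IsKProjective := isKProjective_of_perfCls ⟨a, b, hab, hfp⟩
  have hE : ∀ j, j ≤ a - 1 → IsZero (E.X j) := fun j hj => hab j (Or.inl (by omega))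
  have key : ∀ (Y : Dual.D A) [DerivedCategory.IsLE Y (a - 1)] (f : toD P ⟶ Y), f = 0 := by
    intro Y _ f
    have := hom_eq_zero_of_retract E (a - 1) hE X K e i p hip Y (eP.inv ≫ f)
    rw [← cancel_epi eP.inv, this, comp_zero]
  have hex : ∀ j, j ≤ a - 1 → P.ExactAt j := by
    intro j hj
    haveI : DerivedCategory.IsLE (toD ((HomologicalComplex.single (ModuleCat.{u} A)
        (ComplexShape.up ℤ) j).obj
        (ModuleCat.of A (P.X j ⧸ LinearMap.range (P.d (j - 1) j).hom)))) (a - 1) :=
      leP_single _ j (a - 1) hj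
    exact exactAt_of_Q_map_toSingleCoker P j (key _ _)
  haveI : DerivedCategory.IsLE (toD ((HomologicalComplex.single (ModuleCat.{u} A)
      (ComplexShape.up ℤ) (a - 1)).obj
      (ModuleCat.of A (LinearMap.range (P.d (a - 1) (a - 1 + 1)).hom)))) (a - 1) :=
    leP_single _ (a - 1) (a - 1) le_rfl
  obtain ⟨r, hr1, hr2⟩ := exists_retraction_of_Q_map_toSingleB P (a - 1) (key _ _)
  obtain ⟨T, π, hπ, hT1, hT2, hT3, hT4⟩ := exists_quot_of_retraction P (a - 1) hex r hr1 hr2
  haveI := hπ
  refine ⟨T, a, max a b', ?_, ?_, ⟨(asIso (Q.map π)).symm ≪≫ eP⟩⟩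
  · rintro j (hj | hj)
    · exact hT1 j (by omega)
    · have h1 : a < j := lt_of_le_of_lt (le_max_left _ _) hj
      have h2 : b' < j := lt_of_le_of_lt (le_max_right _ _) hj
      obtain ⟨e'⟩ := hT2 j (by omega)
      exact IsZero.of_iso (hva j h2) e'
  · intro j
    by_cases hj : j ≤ a - 1
    · obtain ⟨h1, h2⟩ := finite_free_of_isZero (hT1 j hj)
      exact ⟨h1, inferInstance⟩
    · by_cases hj' : j = a - 1 + 1
      · subst hj'
        haveI := (hff (a - 1 + 1)).2
        exact ⟨hT4 (hff _).1, hT3 inferInstance⟩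
      · obtain ⟨e'⟩ := hT2 j (by omega)
        haveI := (hff j).2
        exact ⟨finite_of_iso e'.symm (hff j).1, projective_of_iso e'.symm inferInstance⟩

/-- Direct summands of perfect objects are perfect. -/
theorem isPerfect_of_biprod (K L : Dual.D A) [HasBinaryBiproduct K L]
    (h : IsPerfect A (K ⊞ L)) : IsPerfect A K ∧ IsPerfect A L := by
  have hpc := isPseudoCoherent'_of_isPerfect _ h
  have hall := (isPseudoCoherent'_iff_forall _).1 hpc
  have key : ∀ m : ℤ, pcmP A m K ∧ pcmP A m L := fun m =>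
    pcmP_of_biprod m K L ((isPseudoCoherent_iff_pcmP m _).1 (hall m))
  have hK : IsPseudoCoherent' A K := (isPseudoCoherent'_iff_forall _).2
    (fun m => (isPseudoCoherent_iff_pcmP m _).2 (key m).1)
  have hL : IsPseudoCoherent' A L := (isPseudoCoherent'_iff_forall _).2
    (fun m => (isPseudoCoherent_iff_pcmP m _).2 (key m).2)
  exact ⟨isPerfect_of_retract K _ biprod.inl biprod.fst biprod.inl_fst h hK,
    isPerfect_of_retract L _ biprod.inr biprod.snd biprod.inr_snd h hL⟩

end Groth.Agent.Lib.DMod_helper6
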