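import Mathlib
import Groth.Prelude.Def_DRing2
import Groth.Agent.Lib.DMod23_helper6

/-!
# Derived category toolkit (helper6), part 24: every bounded above object of `D(A)` is represented
by a bounded above complex of free modules (same construction as parts 17-19, without finiteness).
-/

set_option autoImplicit false
universe u
open CategoryTheory CategoryTheory.Limits Pretriangulated DerivedCategory ZeroObject
attribute [local instance] HasDerivedCategory.standard

namespace Groth.Agent.Lib.DMod_helper6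

open DRing CochainComplex

variable {A : Type u} [CommRing A]

/-- A chain map from a free module placed in degree `t`, surjective on `H^t`. -/
lemma exists_single_hom_epi' (C : Cx A) (t : ℤ) :
    ∃ (X : ModuleCat.{u} A) (_ : Module.Free A X)
      (ψ : (HomologicalComplex.single (ModuleCat.{u} A) (ComplexShape.up ℤ) t).obj X ⟶ C),
      Epi (HomologicalComplex.homologyMap ψ t) := by
  let p : (C.homology t →₀ A) →ₗ[A] C.homology t := Finsupp.linearCombination A id
  have hp : Function.Surjective p := Finsupp.linearCombination_id_surjective A _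
  haveI : Epi (C.homologyπ t) := inferInstanceAs (Epi ((C.sc t).homologyπ))
  have hπs : Function.Surjective (C.homologyπ t).hom := surjective_of_epi _
  obtain ⟨q, hq⟩ := Module.projective_lifting_property (C.homologyπ t).hom p hπs
  let X : ModuleCat.{u} A := ModuleCat.of A (C.homology t →₀ A)
  let ψ₀ : X ⟶ C.X t := ModuleCat.ofHom q ≫ C.iCycles t
  have hψ₀ : ∀ k, (ComplexShape.up ℤ).Rel t k → ψ₀ ≫ C.d t k = 0 := fun k _ => by
    rw [Category.assoc, C.iCycles_d, comp_zero]
  let S : Cx A := (HomologicalComplex.single (ModuleCat.{u} A) (ComplexShape.up ℤ) t).obj X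
  let ψ : S ⟶ C := HomologicalComplex.mkHomFromSingle ψ₀ hψ₀
  refine ⟨X, inferInstanceAs (Module.Free A (C.homology t →₀ A)), ψ, ?_⟩
  rw [ModuleCat.epi_iff_surjective]
  intro h
  obtain ⟨x, rfl⟩ := hp h
  have hd : S.d t (t + 1) = 0 := rfl
  haveI : IsIso (S.iCycles t) := S.isIso_iCycles t (t + 1) (by simp) hd
  let sx : S.X t := (HomologicalComplex.singleObjXSelf (ComplexShape.up ℤ) t X).inv.hom x
  let z : S.cycles t := (inv (S.iCycles t)).hom sx
  have hz : (S.iCycles t).hom z = sx := by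
    have := congrArg (fun f => f.hom sx) (IsIso.inv_hom_id (S.iCycles t))
    simpa only [ModuleCat.hom_comp, LinearMap.comp_apply, ModuleCat.hom_id,
      LinearMap.id_apply] using this
  have h6 : (HomologicalComplex.singleObjXSelf (ComplexShape.up ℤ) t X).hom.hom sx = x := by
    have := congrArg (fun f => f.hom x)
      (HomologicalComplex.singleObjXSelf (ComplexShape.up ℤ) t X).inv_hom_id
    simpa only [ModuleCat.hom_comp, LinearMap.comp_apply, ModuleCat.hom_id,
      LinearMap.id_apply] using this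
  have h2 : (HomologicalComplex.cyclesMap ψ t).hom z = q x := by
    have hinj : Function.Injective (C.iCycles t).hom :=
      (ModuleCat.mono_iff_injective _).1 inferInstance
    apply hinj
    have h3 := congrArg (fun f => f.hom z) (HomologicalComplex.cyclesMap_i ψ t)
    simp only [ModuleCat.hom_comp, LinearMap.comp_apply] at h3
    rw [h3, hz]
    have h5 := congrArg (fun f => f.hom sx) (HomologicalComplex.mkHomFromSingle_f ψ₀ hψ₀)
    simp only [ModuleCat.hom_comp, LinearMap.comp_apply] at h5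
    show ((HomologicalComplex.mkHomFromSingle ψ₀ hψ₀).f t).hom sx = _
    rw [h5, h6]
    rfl
  refine ⟨(S.homologyπ t).hom z, ?_⟩
  show (HomologicalComplex.homologyMap ψ t).hom ((S.homologyπ t).hom z) = p x
  have h1 := congrArg (fun f => f.hom z) (HomologicalComplex.homologyπ_naturality ψ t)
  simp only [ModuleCat.hom_comp, LinearMap.comp_apply] at h1
  rw [h1, h2]
  exact LinearMap.congr_fun hq x


/-- the invariant at stage `n` (no finiteness) -/
def CInv' (L : Cx A) (b : ℤ) (n : ℕ) (s : CState L) : Prop :=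
  (ShortComplex.mk s.ι s.π s.w).ShortExact ∧ (∀ i : ℤ, Module.Free A (s.D.X i)) ∧
    VanishesAbove s.D (b - 1) ∧ DerivedCategory.IsLE (toD s.C) (b - n)

theorem exists_next' (L : Cx A) (b : ℤ) (n : ℕ) (s : CState L) (h : CInv' L b n s) :
    ∃ s' : CState L, CInv' L b (n + 1) s' ∧ CRel L b n s s' := by
  obtain ⟨hS, hff, hva, hle⟩ := h
  haveI := hle
  obtain ⟨X, hX, ψ, hψ⟩ := exists_single_hom_epi' s.C (b - n)
  obtain ⟨w', hS'⟩ := cone_shortExact ψ s.ι s.π s.w hS
  have hSz : ∀ i : ℤ, i ≠ b - n → IsZero (((HomologicalComplex.single (ModuleCat.{u} A)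
      (ComplexShape.up ℤ) (b - n)).obj X).X i) :=
    fun i hi => HomologicalComplex.isZero_single_obj_X _ _ _ i hi
  have hSfree : ∀ i : ℤ, Module.Free A (((HomologicalComplex.single (ModuleCat.{u} A)
      (ComplexShape.up ℤ) (b - n)).obj X).X i) := by
    intro i
    by_cases hi : i = b - n
    · subst hi
      exact free_of_iso (HomologicalComplex.singleObjXSelf _ _ X).symm hX
    · haveI := ModuleCat.subsingleton_of_isZero (hSz i hi)
      exact Module.Free.of_subsingleton A _
  have hT := mappingCone_triangle_distinguished ψ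
  refine ⟨⟨mappingCone ψ, mappingCone (ψ ≫ s.π), s.ι ≫ mappingCone.inr ψ,
    mappingCone.map ψ (ψ ≫ s.π) (𝟙 _) s.π (by simp), w'⟩, ⟨hS', ?_, ?_, ?_⟩,
    ⟨mappingCone.inr ψ, mappingCone.inr (ψ ≫ s.π), rfl, ?_, ?_⟩⟩
  · intro i
    exact free_of_iso (coneXIso (ψ ≫ s.π) i).symm (free_biprod (hSfree (i + 1)) (hff i))
  · intro i hi
    exact IsZero.of_iso (isZero_biprod (hSz (i + 1) (by omega)) (hva i hi))
      (coneXIso (ψ ≫ s.π) i)
  · haveI : DerivedCategory.IsLE (Q.mapTriangle.obj (mappingCone.triangle ψ)).obj₁ (b - n) :=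
      leP_single _ (b - n) (b - n) le_rfl
    haveI : DerivedCategory.IsLE (Q.mapTriangle.obj (mappingCone.triangle ψ)).obj₂ (b - n) := hle
    have hepi : Epi ((DerivedCategory.homologyFunctor (ModuleCat.{u} A) (b - n)).map
        (Q.mapTriangle.obj (mappingCone.triangle ψ)).mor₁) :=
      (epi_homology_Q_map_iff ψ (b - n)).2 hψ
    have h3 := isLE_cone_of_epi _ hT (b - n) hepi
    have e : b - ((n + 1 : ℕ) : ℤ) = b - n - 1 := by push_cast; ring
    rw [e]
    exact h3
  · show mappingCone.inr ψ ≫ mappingCone.map ψ (ψ ≫ s.π) (𝟙 _) s.π (by simp) =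
      s.π ≫ mappingCone.inr (ψ ≫ s.π)
    rw [mappingCone.map, mappingCone.inr_desc]
  · intro i hi
    exact ⟨isIso_inr_f ψ i (hSz (i + 1) (by omega)),
      isIso_inr_f (ψ ≫ s.π) i (hSz (i + 1) (by omega))⟩

open scoped Classical in
/-- the sequence of stages -/
noncomputable def cseq' (L : Cx A) (b : ℤ) (s0 : CState L) : ℕ → CState L
  | 0 => s0
  | n + 1 =>
    if h : CInv' L b n (cseq' L b s0 n) then (exists_next' L b n _ h).choose else cseq' L b s0 n

lemma cseq'_succ (L : Cx A) (b : ℤ) (s0 : CState L) (n : ℕ) (h : CInv' L b n (cseq' L b s0 n)) :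
    cseq' L b s0 (n + 1) = (exists_next' L b n _ h).choose := by
  rw [cseq']
  exact dif_pos h

lemma cseq'_inv (L : Cx A) (b : ℤ) (s0 : CState L) (h0 : CInv' L b 0 s0) :
    ∀ n, CInv' L b n (cseq' L b s0 n)
  | 0 => h0
  | n + 1 => by
    have h := cseq'_inv L b s0 h0 n
    rw [cseq'_succ L b s0 n h]
    exact (exists_next' L b n _ h).choose_spec.1

lemma cseq'_rel (L : Cx A) (b : ℤ) (s0 : CState L) (h0 : CInv' L b 0 s0) (n : ℕ) :
    CRel L b n (cseq' L b s0 n) (cseq' L b s0 (n + 1)) := by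
  have h := cseq'_inv L b s0 h0 n
  rw [cseq'_succ L b s0 n h]
  exact (exists_next' L b n _ h).choose_spec.2

theorem exists_limit_state' (L : Cx A) (b : ℤ) (cs : ℕ → CState L)
    (hinv : ∀ n, CInv' L b n (cs n))
    (j : ∀ n, (cs n).C ⟶ (cs (n + 1)).C) (k : ∀ n, (cs n).D ⟶ (cs (n + 1)).D)
    (hj1 : ∀ n, (cs n).ι ≫ j n = (cs (n + 1)).ι)
    (hj2 : ∀ n, j n ≫ (cs (n + 1)).π = (cs n).π ≫ k n)
    (hj3 : ∀ (n : ℕ) (i : ℤ), i ≠ b - n - 1 → IsIso ((j n).f i) ∧ IsIso ((k n).f i)) :
    ∃ (C D : Cx A) (ι : L ⟶ C) (π : C ⟶ D) (w : ι ≫ π = 0),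
      (ShortComplex.mk ι π w).ShortExact ∧ (∀ i, Module.Free A (D.X i)) ∧ VanishesAbove D (b - 1) ∧
      ∀ i, C.ExactAt i := by
  let FC : ℕ ⥤ Cx A := Functor.ofSequence j
  let FD : ℕ ⥤ Cx A := Functor.ofSequence k
  let πn : FC ⟶ FD := NatTrans.ofSequence (fun n => (cs n).π) (fun n => by
    rw [Functor.ofSequence_map_homOfLE_succ, Functor.ofSequence_map_homOfLE_succ]
    exact hj2 n)
  let cC : ∀ n, (cs n).C ⟶ colimit FC := fun n => colimit.ι FC n
  let cD : ∀ n, (cs n).D ⟶ colimit FD := fun n => colimit.ι FD n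
  have hwC : ∀ n, j n ≫ cC (n + 1) = cC n := fun n => by
    have := colimit.w FC (homOfLE (Nat.le_add_right n 1))
    rw [Functor.ofSequence_map_homOfLE_succ] at this
    exact this
  have hιn : ∀ n, (cs n).ι ≫ cC n = (cs 0).ι ≫ cC 0 := by
    intro n
    induction n with
    | zero => rfl
    | succ n ih => rw [← ih, ← hj1 n, Category.assoc, hwC n]
  have hπn : ∀ n, cC n ≫ colimMap πn = (cs n).π ≫ cD n := fun n =>
    ι_colimMap πn n
  have hw : ((cs 0).ι ≫ cC 0) ≫ colimMap πn = 0 := by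
    rw [Category.assoc, hπn 0, ← Category.assoc, (cs 0).w, zero_comp]
  have hisoC : ∀ (i : ℤ) (n : ℕ), (b - i).toNat ≤ n → IsIso ((cC n).f i) := by
    intro i n hn
    exact isIso_colimit_ι_f j i (b - i).toNat (fun m hm => (hj3 m i (by omega)).1) n hn
  have hisoD : ∀ (i : ℤ) (n : ℕ), (b - i).toNat ≤ n → IsIso ((cD n).f i) := by
    intro i n hn
    exact isIso_colimit_ι_f k i (b - i).toNat (fun m hm => (hj3 m i (by omega)).2) n hn
  refine ⟨colimit FC, colimit FD, (cs 0).ι ≫ cC 0, colimMap πn, hw, ?_, ?_, ?_, ?_⟩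
  · refine HomologicalComplex.shortExact_of_degreewise_shortExact _ (fun i => ?_)
    have hSn := (HomologicalComplex.shortExact_iff_degreewise_shortExact _).1
      (hinv (b - i).toNat).1 i
    haveI := hisoC i (b - i).toNat le_rfl
    haveI := hisoD i (b - i).toNat le_rfl
    refine ShortComplex.shortExact_of_iso
      (S₁ := (ShortComplex.mk _ _ (cs (b - i).toNat).w).map
        (HomologicalComplex.eval (ModuleCat.{u} A) (ComplexShape.up ℤ) i))
      (ShortComplex.isoMk (Iso.refl _)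
      (@asIso _ _ _ _ ((cC (b - i).toNat).f i) (hisoC i (b - i).toNat le_rfl))
      (@asIso _ _ _ _ ((cD (b - i).toNat).f i) (hisoD i (b - i).toNat le_rfl))
      ?_ ?_) hSn
    · show 𝟙 _ ≫ ((cs 0).ι ≫ cC 0).f i =
        ((cs (b - i).toNat).ι).f i ≫ (cC (b - i).toNat).f i
      rw [Category.id_comp, ← HomologicalComplex.comp_f, hιn (b - i).toNat]
    · show (cC (b - i).toNat).f i ≫ (colimMap πn).f i =
        ((cs (b - i).toNat).π).f i ≫ (cD (b - i).toNat).f i
      rw [← HomologicalComplex.comp_f, ← HomologicalComplex.comp_f, hπn]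
  · intro i
    haveI := hisoD i (b - i).toNat le_rfl
    have e := asIso ((cD (b - i).toNat).f i)
    have hff := (hinv (b - i).toNat).2.1 i
    exact free_of_iso e hff
  · intro i hi
    haveI := hisoD i (b - i).toNat le_rfl
    exact IsZero.of_iso ((hinv (b - i).toNat).2.2.1 i hi)
      (asIso ((cD (b - i).toNat).f i)).symm
  · intro i
    obtain ⟨n, hn⟩ : ∃ n : ℕ, n = (b - i).toNat + 2 := ⟨_, rfl⟩
    haveI := hisoC (i - 1) n (by omega)
    haveI := hisoC i n (by omega)
    haveI := hisoC (i + 1) n (by omega)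
    haveI : QuasiIsoAt (cC n) i := quasiIsoAt_of_isIso_f _ i
    haveI := (hinv n).2.2.2
    have hex : ((cs n).C).ExactAt i := exactAt_of_isZero_homology_toD _ i
      (DerivedCategory.isZero_of_isLE (toD (cs n).C) (b - n) i (by omega))
    exact (quasiIsoAt_iff_exactAt (cC n) i hex).1 inferInstance

/-- Every object of `D(A)` which is `≤ b` is represented by a complex of free modules vanishing
above `b`. -/
theorem exists_free_resolution (K : Dual.D A) (b : ℤ) [hb : DerivedCategory.IsLE K b] :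
    ∃ P : Cx A, (∀ i, Module.Free A (P.X i)) ∧ VanishesAbove P b ∧ Nonempty (toD P ≅ K) := by
  let L : Cx A := Q.objPreimage K
  let eL : toD L ≅ K := Q.objObjPreimageIso K
  obtain ⟨Z, hZ, a0, b0, hZab, hZff⟩ := bfCls_zero (A := A)
  let s0 : CState L := ⟨L, Z, 𝟙 L, 0, comp_zero⟩
  have h0 : CInv' L b 0 s0 := by
    refine ⟨?_, fun i => (hZff i).2, fun i _ => isZero_X_of_isZero hZ i, ?_⟩
    · refine HomologicalComplex.shortExact_of_degreewise_shortExact _ (fun i => ?_)
      have hz : IsZero (Z.X i) := isZero_X_of_isZero hZ i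
      refine ShortComplex.ShortExact.mk' ?_ ?_ ?_
      · refine (ShortComplex.exact_iff_epi _ (hz.eq_of_tgt _ _)).2 ?_
        show Epi ((𝟙 L : L ⟶ L).f i)
        rw [HomologicalComplex.id_f]; infer_instance
      · show Mono ((𝟙 L : L ⟶ L).f i)
        rw [HomologicalComplex.id_f]; infer_instance
      · exact ⟨fun _ _ _ => hz.eq_of_src _ _⟩
    · show DerivedCategory.IsLE (toD L) (b - ((0 : ℕ) : ℤ))
      rw [Nat.cast_zero, sub_zero]
      exact TStructure.t.isLE_of_iso eL.symm b
  have hinv := cseq'_inv L b s0 h0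
  have hrel : ∀ n : ℕ, ∃ (j : (cseq' L b s0 n).C ⟶ (cseq' L b s0 (n + 1)).C)
      (k : (cseq' L b s0 n).D ⟶ (cseq' L b s0 (n + 1)).D),
      (cseq' L b s0 n).ι ≫ j = (cseq' L b s0 (n + 1)).ι ∧
      j ≫ (cseq' L b s0 (n + 1)).π = (cseq' L b s0 n).π ≫ k ∧
      ∀ i : ℤ, i ≠ b - n - 1 → IsIso (j.f i) ∧ IsIso (k.f i) :=
    fun n => cseq'_rel L b s0 h0 n
  choose j k hj1 hj2 hj3 using hrel
  obtain ⟨C, D, ι, π, w, hS, hff, hva, hex⟩ :=
    exists_limit_state' L b (cseq' L b s0) hinv j k hj1 hj2 hj3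
  have hCz : IsZero (toD C) := isZero_toD_of_exactAt C hex
  have hT := triangleOfSES_distinguished hS
  have hiso : IsIso (triangleOfSES hS).mor₃ :=
    (Triangle.isZero₂_iff_isIso₃ (triangleOfSES hS) hT).1 hCz
  let e3 : toD D ≅ (toD L)⟦(1 : ℤ)⟧ := @asIso _ _ _ _ (triangleOfSES hS).mor₃ hiso
  have e4 : (toD D)⟦(-1 : ℤ)⟧ ≅ K :=
    (CategoryTheory.shiftFunctor (Dual.D A) (-1 : ℤ)).mapIso e3 ≪≫
      (shiftFunctorCompIsoId (Dual.D A) (1 : ℤ) (-1) (by omega)).app (toD L) ≪≫ eL
  refine ⟨D⟦(-1 : ℤ)⟧, fun i => hff (i + -1), fun i hi => hva (i + -1) (by omega),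
    ⟨(Q.commShiftIso (-1 : ℤ)).app D ≪≫ e4⟩⟩

end Groth.Agent.Lib.DMod_helper6
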