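import Mathlib
import Groth.Prelude.Def_DRing2
import Groth.Agent.Lib.DMod24_helper6

/-!
# Derived category toolkit (helper6), part 25: projective amplitude.
-/

set_option autoImplicit false
universe u
open CategoryTheory CategoryTheory.Limits Pretriangulated DerivedCategory ZeroObject
attribute [local instance] HasDerivedCategory.standard

namespace Groth.Agent.Lib.DMod_helper6

open DRing CochainComplex

variable {A : Type u} [CommRing A]

/-- variant of `exists_quot_of_retraction` recording the surjectivity of the projection -/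
theorem exists_quot_of_retraction' (P : Cx A) (c : ℤ) (hex : ∀ i, i ≤ c → P.ExactAt i)
    (r : P.X (c + 1) →ₗ[A] P.X (c + 1))
    (hr1 : ∀ y, r y ∈ LinearMap.range (P.d c (c + 1)).hom)
    (hr2 : ∀ y, r ((P.d c (c + 1)).hom y) = (P.d c (c + 1)).hom y) :
    ∃ (T : Cx A) (π : P ⟶ T), IsIso (Q.map π) ∧ (∀ i, Function.Surjective (π.f i).hom) ∧
      (∀ i, i ≤ c → IsZero (T.X i)) ∧
      (∀ i, c + 1 < i → Nonempty (T.X i ≅ P.X i)) ∧
      (Module.Projective A (P.X (c + 1)) → Module.Projective A (T.X (c + 1))) ∧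
      (Module.Finite A (P.X (c + 1)) → Module.Finite A (T.X (c + 1))) := by
  have hS := subQuot_shortExact P (splitN P c) (splitN_stable P c)
  have hz : IsZero (toD (subCx P (splitN P c) (splitN_stable P c))) :=
    isZero_toD_of_exactAt _ (subCx_splitN_exactAt P c hex)
  have hT := triangleOfSES_distinguished hS
  have hiso : IsIso (Q.map (quotπ P (splitN P c) (splitN_stable P c))) :=
    (Triangle.isZero₁_iff_isIso₂ (triangleOfSES hS) hT).1 hz
  refine ⟨quotCx P (splitN P c) (splitN_stable P c), quotπ P _ _, hiso,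
    fun i => Submodule.mkQ_surjective _, ?_, ?_, ?_, ?_⟩
  · intro i hi
    have : Subsingleton (P.X i ⧸ splitN P c i) := by
      refine subsingleton_of_forall_eq 0 (fun y => ?_)
      obtain ⟨x, rfl⟩ := Submodule.mkQ_surjective _ y
      exact (Submodule.Quotient.mk_eq_zero _).2
        (by rw [splitN_of_le P c i hi]; exact Submodule.mem_top)
    exact @ModuleCat.isZero_of_subsingleton _ _ (ModuleCat.of A (P.X i ⧸ splitN P c i)) this
  · intro i hi
    exact ⟨(Submodule.quotEquivOfEqBot _ (splitN_of_gt P c i hi)).toModuleIso⟩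
  · intro hproj
    have hB : splitN P c (c + 1) = LinearMap.range (P.d c (c + 1)).hom := splitN_succ P c
    let ι : (P.X (c + 1) ⧸ splitN P c (c + 1)) →ₗ[A] P.X (c + 1) :=
      (splitN P c (c + 1)).liftQ (LinearMap.id - r) (by
        intro x hx
        rw [hB] at hx
        obtain ⟨y, rfl⟩ := hx
        rw [LinearMap.mem_ker, LinearMap.sub_apply, LinearMap.id_apply, hr2, sub_self])
    refine Module.Projective.of_split ι (splitN P c (c + 1)).mkQ ?_
    apply LinearMap.ext
    intro y
    obtain ⟨x, rfl⟩ := Submodule.mkQ_surjective _ y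
    show Submodule.Quotient.mk (x - r x) = Submodule.Quotient.mk x
    rw [Submodule.Quotient.mk_sub, sub_eq_self]
    exact (Submodule.Quotient.mk_eq_zero _).2 (by rw [hB]; exact hr1 x)
  · intro hfin
    haveI := hfin
    exact (inferInstance : Module.Finite A (P.X (c + 1) ⧸ splitN P c (c + 1)))

/-- `M[-c]` as a complex and as a shift of `M[0]` -/
noncomputable def toDSingleIso (M : ModuleCat.{u} A) (c i : ℤ) (hi : i + c = 0) :
    toD ((HomologicalComplex.single (ModuleCat.{u} A) (ComplexShape.up ℤ) c).obj M) ≅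
      (Dual.inD A M)⟦i⟧ :=
  ((singleFunctorIsoCompQ _ c).app M).symm ≪≫
    (((DerivedCategory.singleFunctors (ModuleCat.{u} A)).shiftIso i c 0 hi).app M).symm

lemma Q_map_eq_zero_of_subsingleton {P : Cx A} {K : Dual.D A} (e : toD P ≅ K) (c i : ℤ)
    (hi : i + c = 0) (M : ModuleCat.{u} A) (h : Subsingleton (K ⟶ (Dual.inD A M)⟦i⟧))
    (φ : P ⟶ (HomologicalComplex.single (ModuleCat.{u} A) (ComplexShape.up ℤ) c).obj M) :
    Q.map φ = 0 := by
  have h0 : e.inv ≫ Q.map φ ≫ (toDSingleIso M c i hi).hom = 0 := Subsingleton.elim _ _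
  rw [← cancel_epi e.inv, ← cancel_mono (toDSingleIso M c i hi).hom, Category.assoc, h0,
    comp_zero, zero_comp]

lemma exactAt_iff_subsingleton_HD {P : Cx A} {K : Dual.D A} (e : toD P ≅ K) (n : ℤ) :
    P.ExactAt n ↔ Subsingleton (Dual.HD A K n) := by
  rw [HomologicalComplex.exactAt_iff_isZero_homology]
  have e' : P.homology n ≅ (DerivedCategory.homologyFunctor (ModuleCat.{u} A) n).obj K :=
    ((homologyFunctorFactors (ModuleCat.{u} A) n).app P).symm ≪≫
      (DerivedCategory.homologyFunctor _ n).mapIso e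
  constructor
  · intro h
    exact ModuleCat.subsingleton_of_isZero (IsZero.of_iso h e'.symm)
  · intro h
    exact IsZero.of_iso (ModuleCat.isZero_of_subsingleton _) e'

/-- If `Hom(K, M[-n]) = 0` for all modules `M` then `H^n(K) = 0`. -/
theorem subsingleton_HD_of_hom_subsingleton (K : Dual.D A) (n i : ℤ) (hi : i + n = 0)
    (h : ∀ M : ModuleCat.{u} A, Subsingleton (K ⟶ (Dual.inD A M)⟦i⟧)) :
    Subsingleton (Dual.HD A K n) := by
  let C : Cx A := Q.objPreimage K
  let eC : toD C ≅ K := Q.objObjPreimageIso K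
  rw [← exactAt_iff_subsingleton_HD eC n, HomologicalComplex.exactAt_iff_isZero_homology]
  let J := Injective.under (C.homology n)
  let ι : C.homology n ⟶ J := Injective.ι _
  let ψ : C.opcycles n ⟶ J := Injective.factorThru ι (C.homologyι n)
  have hψ : C.homologyι n ≫ ψ = ι := Injective.comp_factorThru _ _
  let φ₀ : C.X n ⟶ J := C.pOpcycles n ≫ ψ
  have hφ₀ : ∀ i, (ComplexShape.up ℤ).Rel i n → C.d i n ≫ φ₀ = 0 := fun i _ => by
    rw [← Category.assoc, C.d_pOpcycles, zero_comp]
  let S := (HomologicalComplex.single (ModuleCat.{u} A) (ComplexShape.up ℤ) n).obj J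
  let φ : C ⟶ S := HomologicalComplex.mkHomToSingle φ₀ hφ₀
  have hQ : Q.map φ = 0 := Q_map_eq_zero_of_subsingleton eC n i hi J (h J) φ
  have hH : HomologicalComplex.homologyMap φ n = 0 := by
    have nat := (homologyFunctorFactors (ModuleCat.{u} A) n).hom.naturality φ
    simp only [Functor.comp_map] at nat
    rw [hQ, Functor.map_zero, zero_comp] at nat
    exact (cancel_epi ((homologyFunctorFactors (ModuleCat.{u} A) n).hom.app C)).1
      (nat.symm.trans comp_zero.symm)
  haveI : IsIso (S.pOpcycles n) :=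
    S.isIso_pOpcycles (n - 1) n (by simp) (HomologicalComplex.single_obj_d _ _ _ _ _)
  have h1 : HomologicalComplex.opcyclesMap φ n =
      ψ ≫ (HomologicalComplex.singleObjXSelf (ComplexShape.up ℤ) n J).inv ≫ S.pOpcycles n := by
    rw [← cancel_epi (C.pOpcycles n), HomologicalComplex.p_opcyclesMap,
      HomologicalComplex.mkHomToSingle_f]
    simp only [φ₀, Category.assoc]
  have h2 : ι ≫ ((HomologicalComplex.singleObjXSelf (ComplexShape.up ℤ) n J).inv ≫
      S.pOpcycles n) = 0 := by
    rw [← hψ, Category.assoc, ← h1, ← HomologicalComplex.homologyι_naturality, hH, zero_comp]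
  have h3 : ι = 0 := by
    haveI : IsIso ((HomologicalComplex.singleObjXSelf (ComplexShape.up ℤ) n J).inv ≫
      S.pOpcycles n) := inferInstance
    exact (cancel_mono ((HomologicalComplex.singleObjXSelf (ComplexShape.up ℤ) n J).inv ≫
      S.pOpcycles n)).1 (by rw [h2, zero_comp])
  exact IsZero.of_mono_eq_zero ι h3

lemma isKProjective_of_projective_bounded (P : Cx A) (b : ℤ) (hva : VanishesAbove P b)
    (hproj : ∀ i, Module.Projective A (P.X i)) : P.IsKProjective := by
  haveI : P.IsStrictlyLE b := (CochainComplex.isStrictlyLE_iff P b).2 hva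
  haveI : ∀ n, Projective (P.X n) := fun n => (IsProjective.iff_projective (P.X n)).1 (hproj n)
  exact CochainComplex.isKProjective_of_projective P b

theorem hom_subsingleton_of_projAmp (P : Cx A) (a b : ℤ) (hP : VanishesOutside P a b)
    (hproj : ∀ i, Module.Projective A (P.X i))
    (K : Dual.D A) (e : toD P ≅ K) (M : ModuleCat.{u} A) (i : ℤ) (hi : i < -b ∨ -a < i) :
    Subsingleton (K ⟶ (Dual.inD A M)⟦i⟧) := by
  refine subsingleton_of_forall_eq 0 (fun f => ?_)
  haveI : P.IsStrictlyLE b :=
    (CochainComplex.isStrictlyLE_iff P b).2 (fun j hj => hP j (Or.inr hj))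
  rcases hi with hi | hi
  · haveI : DerivedCategory.IsLE K b := TStructure.t.isLE_of_iso e b
    haveI : DerivedCategory.IsGE ((Dual.inD A M)⟦i⟧) (-i) :=
      TStructure.t.isGE_shift (Dual.inD A M) 0 i (-i) (by omega)
    exact TStructure.t.zero f b (-i) (by omega)
  · haveI := isKProjective_of_projective_bounded P b (fun j hj => hP j (Or.inr hj)) hproj
    haveI : DerivedCategory.IsLE ((Dual.inD A M)⟦i⟧) (a - 1) := by
      haveI : DerivedCategory.IsLE ((Dual.inD A M)⟦i⟧) (-i) :=
        TStructure.t.isLE_shift (Dual.inD A M) 0 i (-i) (by omega)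
      exact TStructure.t.isLE_of_le _ (-i) (a - 1) (by omega)
    have := hom_eq_zero_of_isKProjective_of_isLE P (a - 1)
      (fun j hj => hP j (Or.inl (by omega))) _ (e.hom ≫ f)
    rw [← cancel_epi e.hom, this, comp_zero]

theorem projAmp_of_hom_vanishing (K : Dual.D A) (a b : ℤ)
    (h1 : ∀ n, (n < a - 1 ∨ b < n) → Subsingleton (Dual.HD A K n))
    (h2 : ∀ M : ModuleCat.{u} A, Subsingleton (K ⟶ (Dual.inD A M)⟦-a + 1⟧)) :
    ∃ P : Cx A, VanishesOutside P a b ∧ (∀ i, Module.Projective A (P.X i)) ∧
      Nonempty (toD P ≅ K) := by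
  haveI : DerivedCategory.IsLE K b := isLE_of_subsingleton_HD K b (fun n hn => h1 n (Or.inr hn))
  obtain ⟨P, hfree, hva, ⟨e⟩⟩ := exists_free_resolution K b
  have hproj : ∀ i, Module.Projective A (P.X i) := fun i => by
    haveI := hfree i
    infer_instance
  haveI := isKProjective_of_projective_bounded P b hva hproj
  have hHa : Subsingleton (Dual.HD A K (a - 1)) :=
    subsingleton_HD_of_hom_subsingleton K (a - 1) (-a + 1) (by omega) h2
  have hex : ∀ i, i ≤ a - 1 → P.ExactAt i := fun i hi => by
    rw [exactAt_iff_subsingleton_HD e i]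
    by_cases h : i = a - 1
    · subst h; exact hHa
    · exact h1 i (Or.inl (by omega))
  obtain ⟨r, hr1, hr2⟩ := exists_retraction_of_Q_map_toSingleB P (a - 1)
    (Q_map_eq_zero_of_subsingleton e (a - 1) (-a + 1) (by omega) _ (h2 _) _)
  obtain ⟨T, π, hπ, hsurj, hT1, hT2, hT3, hT4⟩ :=
    exists_quot_of_retraction' P (a - 1) hex r hr1 hr2
  haveI := hπ
  refine ⟨T, ?_, ?_, ⟨(asIso (Q.map π)).symm ≪≫ e⟩⟩
  · rintro j (hj | hj)
    · exact hT1 j (by omega)
    · haveI : Subsingleton (P.X j) := ModuleCat.subsingleton_of_isZero (hva j hj)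
      haveI : Subsingleton (T.X j) := (hsurj j).subsingleton
      exact ModuleCat.isZero_of_subsingleton _
  · intro j
    by_cases hj : j ≤ a - 1
    · obtain ⟨_, hf2⟩ := finite_free_of_isZero (hT1 j hj)
      infer_instance
    · by_cases hj' : j = a - 1 + 1
      · subst hj'
        exact hT3 (hproj _)
      · obtain ⟨e'⟩ := hT2 j (by omega)
        exact projective_of_iso e'.symm (hproj j)

end Groth.Agent.Lib.DMod_helper6
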