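import Mathlib
import Groth.Prelude.Def_DRing2
import Groth.Agent.Lib.DMod25_helper6

/-!
# Derived category toolkit (helper6), part 26: splitting `K ≅ τ_{<n₁} K ⊕ τ_{≥c+1} K` from
vanishing (or injectivity) properties of `Hom(K, M[-c])`.
-/

set_option autoImplicit false
universe u
open CategoryTheory CategoryTheory.Limits Pretriangulated DerivedCategory ZeroObject
attribute [local instance] HasDerivedCategory.standard

namespace Groth.Agent.Lib.DMod_helper6

open DRing CochainComplex

variable {A : Type u} [CommRing A]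

lemma subCx_splitN_exactAt' (P : Cx A) (c i : ℤ) (h : i ≤ c → P.ExactAt i) :
    (subCx P (splitN P c) (splitN_stable P c)).ExactAt i := by
  by_cases hi : i ≤ c
  · refine subCx_exactAt_of_forall _ _ _ (i - 1) i (i + 1) (by omega) rfl (fun y _ hy => ?_)
    obtain ⟨x, hx⟩ := exists_d_eq_of_exactAt P (i - 1) i (i + 1) (by omega) rfl (h hi) y hy
    exact ⟨x, by rw [splitN_of_le P c (i - 1) (by omega)]; exact Submodule.mem_top, hx⟩
  · by_cases hi' : i = c + 1
    · subst hi'
      refine subCx_exactAt_of_forall _ _ _ c (c + 1) (c + 1 + 1) rfl rfl (fun y hy _ => ?_)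
      rw [splitN_succ] at hy
      obtain ⟨x, hx⟩ := hy
      exact ⟨x, by rw [splitN_of_le P c c le_rfl]; exact Submodule.mem_top, hx⟩
    · refine subCx_exactAt_of_forall _ _ _ (i - 1) i (i + 1) (by omega) rfl (fun y hy _ => ?_)
      rw [splitN_of_gt P c i (by omega), Submodule.mem_bot] at hy
      exact ⟨0, Submodule.zero_mem _, by rw [map_zero, hy]⟩

section SplitT

variable (P : Cx A) (c : ℤ)

/-- the subcomplex `… → P^c → B^{c+1} → 0` -/
noncomputable abbrev splitS : Cx A := subCx P (splitN P c) (splitN_stable P c)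

/-- the quotient complex `0 → P^{c+1}/B^{c+1} → P^{c+2} → …` -/
noncomputable abbrev splitT : Cx A := quotCx P (splitN P c) (splitN_stable P c)

lemma splitT_isZero (i : ℤ) (hi : i ≤ c) : IsZero ((splitT P c).X i) := by
  have : Subsingleton (P.X i ⧸ splitN P c i) := by
    refine subsingleton_of_forall_eq 0 (fun y => ?_)
    obtain ⟨x, rfl⟩ := Submodule.mkQ_surjective _ y
    exact (Submodule.Quotient.mk_eq_zero _).2
      (by rw [splitN_of_le P c i hi]; exact Submodule.mem_top)
  exact @ModuleCat.isZero_of_subsingleton _ _ (ModuleCat.of A (P.X i ⧸ splitN P c i)) this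

lemma splitT_iso (i : ℤ) (hi : c + 1 < i) : Nonempty ((splitT P c).X i ≅ P.X i) :=
  ⟨(Submodule.quotEquivOfEqBot _ (splitN_of_gt P c i hi)).toModuleIso⟩

lemma splitT_isZero_of_isZero (i : ℤ) (h : IsZero (P.X i)) : IsZero ((splitT P c).X i) := by
  haveI : Subsingleton (P.X i) := ModuleCat.subsingleton_of_isZero h
  have : Subsingleton (P.X i ⧸ splitN P c i) :=
    (Submodule.mkQ_surjective (splitN P c i)).subsingleton
  exact @ModuleCat.isZero_of_subsingleton _ _ (ModuleCat.of A (P.X i ⧸ splitN P c i)) this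

lemma splitT_projective_succ (r : P.X (c + 1) →ₗ[A] P.X (c + 1))
    (hr1 : ∀ y, r y ∈ LinearMap.range (P.d c (c + 1)).hom)
    (hr2 : ∀ y, r ((P.d c (c + 1)).hom y) = (P.d c (c + 1)).hom y)
    (hproj : Module.Projective A (P.X (c + 1))) :
    Module.Projective A ((splitT P c).X (c + 1)) := by
  have hB : splitN P c (c + 1) = LinearMap.range (P.d c (c + 1)).hom := splitN_succ P c
  let ι : (P.X (c + 1) ⧸ splitN P c (c + 1)) →ₗ[A] P.X (c + 1) :=
    (splitN P c (c + 1)).liftQ (LinearMap.id - r) (by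
      intro x hx
      rw [hB] at hx
      obtain ⟨y, rfl⟩ := hx
      rw [LinearMap.mem_ker, LinearMap.sub_apply, LinearMap.id_apply, hr2, sub_self])
  refine Module.Projective.of_split ι (splitN P c (c + 1)).mkQ ?_
  apply LinearMap.ext
  intro y
  obtain ⟨x, rfl⟩ := Submodule.mkQ_surjective _ y
  show Submodule.Quotient.mk (x - r x) = Submodule.Quotient.mk x
  rw [Submodule.Quotient.mk_sub, sub_eq_self]
  exact (Submodule.Quotient.mk_eq_zero _).2 (by rw [hB]; exact hr1 x)

lemma splitT_projective (r : P.X (c + 1) →ₗ[A] P.X (c + 1))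
    (hr1 : ∀ y, r y ∈ LinearMap.range (P.d c (c + 1)).hom)
    (hr2 : ∀ y, r ((P.d c (c + 1)).hom y) = (P.d c (c + 1)).hom y)
    (hproj : ∀ i, Module.Projective A (P.X i)) (j : ℤ) :
    Module.Projective A ((splitT P c).X j) := by
  by_cases hj : j ≤ c
  · obtain ⟨_, hf2⟩ := finite_free_of_isZero (splitT_isZero P c j hj)
    infer_instance
  · by_cases hj' : j = c + 1
    · subst hj'
      exact splitT_projective_succ P c r hr1 hr2 (hproj _)
    · obtain ⟨e'⟩ := splitT_iso P c j (by omega)
      exact projective_of_iso e'.symm (hproj j)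

end SplitT

/-- a chain map to a module placed in degree `c` which factors through the differential
`P^c → P^{c+1}` vanishes in the derived category -/
lemma Q_map_mkHomToSingle_eq_zero (P : Cx A) (c : ℤ) (M : ModuleCat.{u} A)
    (k : P.X (c + 1) ⟶ M)
    (hg : ∀ i, (ComplexShape.up ℤ).Rel i c → P.d i c ≫ (P.d c (c + 1) ≫ k) = 0) :
    Q.map (HomologicalComplex.mkHomToSingle (P.d c (c + 1) ≫ k) hg) = 0 := by
  let S := (HomologicalComplex.single (ModuleCat.{u} A) (ComplexShape.up ℤ) c).obj M
  let H : Homotopy (HomologicalComplex.mkHomToSingle (P.d c (c + 1) ≫ k) hg) (0 : P ⟶ S) :=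
    { hom := fun i j => if h : i = c + 1 ∧ j = c then
        eqToHom (by rw [h.1]) ≫ k ≫
          (HomologicalComplex.singleObjXSelf (ComplexShape.up ℤ) c M).inv ≫
            eqToHom (by rw [h.2]) else 0
      zero := fun i j hij => by
        rw [dif_neg]
        rintro ⟨rfl, rfl⟩
        exact hij rfl
      comm := fun i => by
        by_cases hi : i = c
        · subst hi
          rw [dNext_eq _ (show (ComplexShape.up ℤ).Rel i (i + 1) from rfl),
            prevD_eq _ (show (ComplexShape.up ℤ).Rel (i - 1) i from by simp),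
            dif_pos ⟨rfl, rfl⟩]
          simp [HomologicalComplex.mkHomToSingle_f]
        · exact (HomologicalComplex.isZero_single_obj_X _ c M i hi).eq_of_tgt _ _ }
  rw [DerivedCategory.Q_map_eq_of_homotopy _ H, Functor.map_zero]

lemma toDSingleIso_naturality {M M' : ModuleCat.{u} A} (u : M ⟶ M') (c i : ℤ) (hi : i + c = 0) :
    Q.map ((HomologicalComplex.single (ModuleCat.{u} A) (ComplexShape.up ℤ) c).map u) ≫
      (toDSingleIso M' c i hi).hom =
    (toDSingleIso M c i hi).hom ≫
      (CategoryTheory.shiftFunctor (Dual.D A) i).map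
        ((DerivedCategory.singleFunctor (ModuleCat.{u} A) 0).map u) := by
  have h1 := (singleFunctorIsoCompQ (ModuleCat.{u} A) c).inv.naturality u
  have h2 := ((DerivedCategory.singleFunctors (ModuleCat.{u} A)).shiftIso i c 0 hi).inv.naturality u
  simp only [Functor.comp_map] at h1 h2
  show Q.map _ ≫ ((singleFunctorIsoCompQ (ModuleCat.{u} A) c).inv.app M' ≫
      ((DerivedCategory.singleFunctors (ModuleCat.{u} A)).shiftIso i c 0 hi).inv.app M') =
    ((singleFunctorIsoCompQ (ModuleCat.{u} A) c).inv.app M ≫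
      ((DerivedCategory.singleFunctors (ModuleCat.{u} A)).shiftIso i c 0 hi).inv.app M) ≫ _
  rw [← Category.assoc, Category.assoc _ _ ((CategoryTheory.shiftFunctor (Dual.D A) i).map _)]
  erw [h1, ← h2]
  rw [Category.assoc]

open TStructure in
/-- Splitting of the truncation triangle when `τ_{≥c+1} K` has projective amplitude `≥ c+1`. -/
theorem exists_split_truncation (K : Dual.D A) (b c n₀ n₁ : ℤ) (hn : n₀ + 1 = n₁)
    (hn₀ : n₀ ≤ c) [DerivedCategory.IsLE K b]
    (hX : ∀ i, n₀ < i → i ≤ c → Subsingleton (Dual.HD A K i))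
    (hQ : ∀ (P : Cx A) (_ : toD P ≅ K), Q.map (toSingleB P c) = 0)
    [HasBinaryBiproduct ((t.truncLT n₁).obj K) ((t.truncGE (c + 1)).obj K)] :
    (∃ e : K ≅ (t.truncLT n₁).obj K ⊞ (t.truncGE (c + 1)).obj K,
      (t.truncLTι n₁).app K ≫ e.hom = biprod.inl ∧
        e.hom ≫ biprod.snd = (t.truncGEπ (c + 1)).app K) ∧
      ∃ (P : Cx A) (b : ℤ), VanishesOutside P (c + 1) b ∧
        (∀ i : ℤ, Module.Projective A (P.X i)) ∧
        Nonempty (toD P ≅ (t.truncGE (c + 1)).obj K) := by
  obtain ⟨P, hfree, hva, ⟨e⟩⟩ := exists_free_resolution K b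
  have hproj : ∀ i, Module.Projective A (P.X i) := fun i => by
    haveI := hfree i
    infer_instance
  haveI := isKProjective_of_projective_bounded P b hva hproj
  obtain ⟨r, hr1, hr2⟩ := exists_retraction_of_Q_map_toSingleB P c (hQ P e)
  have hS := subQuot_shortExact P (splitN P c) (splitN_stable P c)
  have hTproj := splitT_projective P c r hr1 hr2 hproj
  have hTz : ∀ i, i ≤ c → IsZero ((splitT P c).X i) := splitT_isZero P c
  have hTz' : ∀ i, b < i → IsZero ((splitT P c).X i) := fun i hi =>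
    splitT_isZero_of_isZero P c i (hva i hi)
  haveI : (splitT P c).IsKProjective := isKProjective_of_projective_bounded _ b hTz' hTproj
  haveI hSle : DerivedCategory.IsLE (toD (splitS P c)) n₀ := by
    rw [isLE_Q_obj_iff, CochainComplex.isLE_iff]
    intro i hi
    exact subCx_splitN_exactAt' P c i
      (fun hic => (exactAt_iff_subsingleton_HD e i).2 (hX i hi hic))
  haveI : (splitT P c).IsStrictlyGE (c + 1) :=
    (CochainComplex.isStrictlyGE_iff _ (c + 1)).2 (fun i hi => hTz i (by omega))
  haveI hTge : DerivedCategory.IsGE (toD (splitT P c)) (c + 1) := inferInstance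
  -- the triangle
  let f : toD (splitS P c) ⟶ K := Q.map (subι P (splitN P c) (splitN_stable P c)) ≫ e.hom
  let g : K ⟶ toD (splitT P c) := e.inv ≫ Q.map (quotπ P (splitN P c) (splitN_stable P c))
  let δ := (triangleOfSES hS).mor₃
  have hTr : Triangle.mk f g δ ∈ distTriang (Dual.D A) := by
    refine isomorphic_distinguished _ (triangleOfSES_distinguished hS) _
      (Triangle.isoMk _ _ (Iso.refl _) e.symm (Iso.refl _) ?_ ?_ ?_)
    · show f ≫ e.inv = 𝟙 _ ≫ Q.map _
      rw [Category.id_comp]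
      simp only [f, Category.assoc, Iso.hom_inv_id, Category.comp_id]
    · show g ≫ 𝟙 _ = e.inv ≫ Q.map _
      rw [Category.comp_id]
    · show δ ≫ (CategoryTheory.shiftFunctor (Dual.D A) (1 : ℤ)).map (𝟙 _) = 𝟙 _ ≫ δ
      rw [CategoryTheory.Functor.map_id, Category.comp_id, Category.id_comp]
  have hδ : δ = 0 := by
    haveI : DerivedCategory.IsLE ((toD (splitS P c))⟦(1 : ℤ)⟧) c := by
      haveI : DerivedCategory.IsLE ((toD (splitS P c))⟦(1 : ℤ)⟧) (n₀ - 1) :=
        t.isLE_shift (toD (splitS P c)) n₀ 1 (n₀ - 1) (by omega)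
      exact t.isLE_of_le _ (n₀ - 1) c (by omega)
    exact hom_eq_zero_of_isKProjective_of_isLE (splitT P c) c hTz
      ((toD (splitS P c))⟦(1 : ℤ)⟧) δ
  obtain ⟨e₀, he1, he2⟩ : ∃ e₀ : K ≅ toD (splitS P c) ⊞ toD (splitT P c),
      f ≫ e₀.hom = biprod.inl ∧ g = e₀.hom ≫ biprod.snd :=
    exists_iso_binaryBiproduct_of_distTriang _ hTr hδ
  -- identification with the truncations
  haveI h1 : IsIso ((t.truncLT n₁).map f) :=
    t.isIso₁_truncLT_map_of_isGE _ hTr n₁ (t.isGE_of_ge (toD (splitT P c)) n₁ (c + 1) (by omega))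
  haveI h2 : IsIso ((t.truncLTι n₁).app (toD (splitS P c))) :=
    (t.isLE_iff_isIso_truncLTι_app n₀ n₁ hn _).1 hSle
  haveI h3 : IsIso ((t.truncGE (c + 1)).map g) :=
    t.isIso₂_truncGE_map_of_isLE _ hTr c (c + 1) rfl
      (t.isLE_of_le (toD (splitS P c)) n₀ c hn₀)
  let eX : toD (splitS P c) ≅ (t.truncLT n₁).obj K :=
    (asIso ((t.truncLTι n₁).app (toD (splitS P c)))).symm ≪≫ asIso ((t.truncLT n₁).map f)
  let eY : toD (splitT P c) ≅ (t.truncGE (c + 1)).obj K :=
    asIso ((t.truncGEπ (c + 1)).app (toD (splitT P c))) ≪≫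
      (asIso ((t.truncGE (c + 1)).map g)).symm
  have heX : eX.hom ≫ (t.truncLTι n₁).app K = f := by
    have nat := (t.truncLTι n₁).naturality f
    simp only [Functor.id_map] at nat
    simp only [eX, Iso.trans_hom, Iso.symm_hom, asIso_inv, asIso_hom, Category.assoc, nat,
      IsIso.inv_hom_id_assoc]
  have heY : g ≫ eY.hom = (t.truncGEπ (c + 1)).app K := by
    have nat := (t.truncGEπ (c + 1)).naturality g
    simp only [Functor.id_map] at nat
    simp only [eY, Iso.trans_hom, Iso.symm_hom, asIso_inv, asIso_hom, ← Category.assoc, nat]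
    simp only [Category.assoc, IsIso.hom_inv_id, Category.comp_id]
  refine ⟨⟨e₀ ≪≫ biprod.mapIso eX eY, ?_, ?_⟩, splitT P c, b, ?_, hTproj, ⟨eY⟩⟩
  · have he1' : f ≫ e₀.hom = biprod.inl := he1
    have : (t.truncLTι n₁).app K = eX.inv ≫ f := by
      rw [← heX, Iso.inv_hom_id_assoc]
    rw [this, Iso.trans_hom, biprod.mapIso_hom, Category.assoc, ← Category.assoc f,
      he1', biprod.inl_map, Iso.inv_hom_id_assoc]
  · have he2' : g = e₀.hom ≫ biprod.snd := he2
    rw [Iso.trans_hom, biprod.mapIso_hom, Category.assoc, biprod.map_snd, ← Category.assoc,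
      ← he2', heY]
  · rintro j (hj | hj)
    · exact hTz j (by omega)
    · exact hTz' j hj

end Groth.Agent.Lib.DMod_helper6
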