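import Mathlib
import Groth.Prelude.Def_DRing2
import Groth.Agent.Lib.DMod26_helper6

/-!
# Derived category toolkit (helper6), part 27: from injectivity of `Hom(K, M[-c]) → Hom(K, M'[-c])`
to the vanishing of `P → B^{c+1}[-c]`.
-/

set_option autoImplicit false
universe u
open CategoryTheory CategoryTheory.Limits Pretriangulated DerivedCategory ZeroObject
attribute [local instance] HasDerivedCategory.standard

namespace Groth.Agent.Lib.DMod_helper6

open DRing CochainComplex

variable {A : Type u} [CommRing A]

theorem Q_map_toSingleB_eq_zero_of_injective (K : Dual.D A) (c : ℤ)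
    (h : ∀ (M M' : ModuleCat.{u} A) (g : M ⟶ M'), Function.Injective g.hom →
      Function.Injective (fun x : K ⟶ (Dual.inD A M)⟦-c⟧ =>
        x ≫ (CategoryTheory.shiftFunctor (Dual.D A) (-c)).map
          ((DerivedCategory.singleFunctor (ModuleCat.{u} A) 0).map g)))
    (P : Cx A) (e : toD P ≅ K) : Q.map (toSingleB P c) = 0 := by
  let B : Submodule A (P.X (c + 1)) := LinearMap.range (P.d c (c + 1)).hom
  let u : ModuleCat.of A B ⟶ P.X (c + 1) := ModuleCat.ofHom B.subtype
  have hinj := h (ModuleCat.of A B) (P.X (c + 1)) u (Submodule.injective_subtype B)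
  have hg' : ∀ i, (ComplexShape.up ℤ).Rel i c → P.d i c ≫ (P.d c (c + 1) ≫ 𝟙 _) = 0 :=
    fun i _ => by rw [Category.comp_id, P.d_comp_d]
  have hcomp : toSingleB P c ≫
      (HomologicalComplex.single (ModuleCat.{u} A) (ComplexShape.up ℤ) c).map u =
      HomologicalComplex.mkHomToSingle (P.d c (c + 1) ≫ 𝟙 _) hg' := by
    apply HomologicalComplex.to_single_hom_ext
    rw [HomologicalComplex.comp_f, toSingleB, HomologicalComplex.mkHomToSingle_f,
      HomologicalComplex.mkHomToSingle_f, HomologicalComplex.single_map_f_self]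
    simp only [Category.assoc, Iso.inv_hom_id_assoc, Category.comp_id]
    rw [← Category.assoc]
    rfl
  let x : K ⟶ (Dual.inD A (ModuleCat.of A B))⟦-c⟧ :=
    e.inv ≫ Q.map (toSingleB P c) ≫ (toDSingleIso (ModuleCat.of A B) c (-c) (by omega)).hom
  have hx : x ≫ (CategoryTheory.shiftFunctor (Dual.D A) (-c)).map
      ((DerivedCategory.singleFunctor (ModuleCat.{u} A) 0).map u) = 0 := by
    simp only [x, Category.assoc]
    rw [← toDSingleIso_naturality u c (-c) (by omega), ← Category.assoc (Q.map _),
      ← Functor.map_comp, hcomp, Q_map_mkHomToSingle_eq_zero, zero_comp, comp_zero]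
  have hx0 : x = 0 := hinj (by
    show x ≫ _ = 0 ≫ _
    rw [hx, zero_comp])
  have hQ : Q.map (toSingleB P c) =
      e.hom ≫ x ≫ (toDSingleIso (ModuleCat.of A B) c (-c) (by omega)).inv := by
    simp only [x, Category.assoc, Iso.hom_inv_id, Category.comp_id, Iso.hom_inv_id_assoc]
  rw [hQ, hx0, zero_comp, comp_zero]

end Groth.Agent.Lib.DMod_helper6
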