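import Mathlib
import Groth.Prelude.Def_DRing2
import Groth.Prelude.Def_DDual2
import Groth.Agent.Lib.DMod27_helper6

/-!
# Derived category toolkit (helper6), part 28: pseudo-coherence and restriction of scalars along
a ring map `φ : A → B` making `B` a pseudo-coherent `A`-module.
-/

set_option autoImplicit false
universe u
open CategoryTheory CategoryTheory.Limits Pretriangulated DerivedCategory ZeroObject
attribute [local instance] HasDerivedCategory.standard

namespace Groth.Agent.Lib.DMod_helper6

open DRing CochainComplex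

variable {A B : Type u} [CommRing A] [CommRing B] (φ : A →+* B)

lemma isLE_restrictD (K : Dual.D B) (n : ℤ) [DerivedCategory.IsLE K n] :
    DerivedCategory.IsLE ((restrictD φ).obj K) n := by
  obtain ⟨K', hK', ⟨e⟩⟩ := DerivedCategory.exists_iso_Q_obj_of_isLE K n
  haveI : ((restrictCx φ).obj K').IsStrictlyLE n :=
    (CochainComplex.isStrictlyLE_iff _ n).2 (fun i hi =>
      (ModuleCat.restrictScalars φ).map_isZero (CochainComplex.isZero_of_isStrictlyLE K' n i hi))
  haveI : DerivedCategory.IsLE (toD ((restrictCx φ).obj K')) n := inferInstance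
  exact TStructure.t.isLE_of_iso (show toD ((restrictCx φ).obj K') ≅ (restrictD φ).obj K from
    ((ModuleCat.restrictScalars φ).mapDerivedCategoryFactors.app K').symm ≪≫
      (restrictD φ).mapIso e.symm) n

lemma finite_of_finite_restrictScalars (M : ModuleCat.{u} B)
    (h : Module.Finite A ((ModuleCat.restrictScalars φ).obj M)) : Module.Finite B M := by
  obtain ⟨S, hS⟩ := h.fg_top
  let S' : Finset M := S
  refine ⟨⟨S', ?_⟩⟩
  rw [eq_top_iff]
  intro x _
  have key : ∀ y : ((ModuleCat.restrictScalars φ).obj M),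
      y ∈ Submodule.span A (S : Set ((ModuleCat.restrictScalars φ).obj M)) →
      (show M from y) ∈ Submodule.span B (S' : Set M) := by
    intro y hy
    induction hy using Submodule.span_induction with
    | mem y hy => exact Submodule.subset_span hy
    | zero => exact Submodule.zero_mem _
    | add y z _ _ hy hz => exact Submodule.add_mem _ hy hz
    | smul a y _ hy => exact Submodule.smul_mem _ (φ a) hy
  exact key x (by rw [hS]; trivial)

lemma finite_homology_of_restrictCx (C : Cx B) (t : ℤ)
    (h : Module.Finite A (((restrictCx φ).obj C).homology t)) :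
    Module.Finite B (C.homology t) := by
  have e : ((restrictCx φ).obj C).homology t ≅
      (ModuleCat.restrictScalars φ).obj (C.homology t) :=
    (C.sc t).mapHomologyIso (ModuleCat.restrictScalars φ)
  exact finite_of_finite_restrictScalars φ _ (finite_of_iso e h)

/-- objects of `D(B)` whose restriction to `A` is pseudo-coherent -/
def resPC : ObjectProperty (Dual.D B) := (pcProp A).inverseImage (restrictD φ)

instance : (resPC φ).IsClosedUnderIsomorphisms := by
  unfold resPC; infer_instance

instance : (resPC φ).IsTriangulated := by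
  unfold resPC; infer_instance

omit [CommRing A] in
lemma prop_inD_fin (𝒮 : ObjectProperty (Dual.D B)) [𝒮.IsTriangulated]
    [𝒮.IsClosedUnderIsomorphisms] (hB : 𝒮 (Dual.inD B B)) (r : ℕ) :
    𝒮 (Dual.inD B (Fin r → B)) := by
  induction r with
  | zero =>
    exact 𝒮.prop_of_isZero ((DerivedCategory.singleFunctor _ 0).map_isZero
      (@ModuleCat.isZero_of_subsingleton _ _ (ModuleCat.of B (Fin 0 → B)) inferInstance))
  | succ r ih =>
    let i : B →ₗ[B] (Fin (r + 1) → B) := LinearMap.single B (fun _ : Fin (r + 1) => B) 0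
    let p : (Fin (r + 1) → B) →ₗ[B] (Fin r → B) :=
      LinearMap.pi (fun j : Fin r => LinearMap.proj (R := B) (φ := fun _ : Fin (r + 1) => B)
        (Fin.succ j))
    have hp : ∀ (f : Fin (r + 1) → B) (j : Fin r), p f j = f (Fin.succ j) := fun _ _ => rfl
    have hi0 : ∀ b : B, i b 0 = b := fun b => by simp [i, Pi.single_apply]
    have his : ∀ (b : B) (j : Fin r), i b (Fin.succ j) = 0 := fun b j => by
      simp [i, Pi.single_apply, Fin.succ_ne_zero]
    have w : (ModuleCat.ofHom i : ModuleCat.of B B ⟶ ModuleCat.of B (Fin (r + 1) → B)) ≫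
        (ModuleCat.ofHom p : ModuleCat.of B (Fin (r + 1) → B) ⟶ ModuleCat.of B (Fin r → B)) =
        0 := by
      apply ModuleCat.hom_ext
      apply LinearMap.ext
      intro b
      funext j
      show p (i b) j = 0
      rw [hp, his]
    have hS : (ShortComplex.mk _ _ w).ShortExact := by
      refine ShortComplex.ShortExact.mk' ?_ ?_ ?_
      · rw [ShortComplex.moduleCat_exact_iff]
        intro f hf
        refine ⟨(f : Fin (r + 1) → B) 0, ?_⟩
        funext j
        refine Fin.cases ?_ (fun k => ?_) j
        · exact hi0 _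
        · have h1 : p f k = 0 := congrFun hf k
          rw [hp] at h1
          show i _ (Fin.succ k) = f (Fin.succ k)
          rw [his, h1]
      · refine (ModuleCat.mono_iff_injective _).2 (fun b b' hbb' => ?_)
        have h1 : i b 0 = i b' 0 := congrFun hbb' 0
        rwa [hi0, hi0] at h1
      · refine (ModuleCat.epi_iff_surjective _).2 (fun g => ⟨Fin.cons 0 g, ?_⟩)
        funext j
        show p (Fin.cons 0 g) j = g j
        rw [hp, Fin.cons_succ]
    exact 𝒮.ext_of_isTriangulatedClosed₂ _ hS.singleTriangle_distinguished hB ih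

omit [CommRing A] in
lemma prop_inD_of_finite_free (𝒮 : ObjectProperty (Dual.D B)) [𝒮.IsTriangulated]
    [𝒮.IsClosedUnderIsomorphisms] (hB : 𝒮 (Dual.inD B B)) (N : ModuleCat.{u} B)
    (hN1 : Module.Finite B N) (hN2 : Module.Free B N) : 𝒮 (Dual.inD B N) := by
  let b := Module.Free.chooseBasis B N
  let e : N ≃ₗ[B] (Fin (Fintype.card (Module.Free.ChooseBasisIndex B N)) → B) :=
    (b.reindex (Fintype.equivFin _)).equivFun
  exact 𝒮.prop_of_iso ((DerivedCategory.singleFunctor _ 0).mapIso e.symm.toModuleIso)
    (prop_inD_fin 𝒮 hB _)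

lemma resPC_of_finite_free (hB : resPC φ (Dual.inD B B)) (N : ModuleCat.{u} B)
    (hN1 : Module.Finite B N) (hN2 : Module.Free B N) : resPC φ (Dual.inD B N) :=
  prop_inD_of_finite_free (resPC φ) hB N hN1 hN2

lemma resPC_of_bfCls (hB : resPC φ (Dual.inD B B)) (E : Cx B) (hE : bfCls E) :
    resPC φ (toD E) := by
  obtain ⟨a, b, hab, hff⟩ := hE
  exact devissage_termwise' (resPC φ) E a b hab
    (fun i => resPC_of_finite_free φ hB (E.X i) (hff i).1 (hff i).2)

/-- Restriction of scalars preserves `m`-pseudo-coherence when `B` is a pseudo-coherent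
`A`-module. -/
theorem pcmP_restrictD (hB : resPC φ (Dual.inD B B)) (m : ℤ) (K : Dual.D B)
    (hK : pcmP B m K) : pcmP A m ((restrictD φ).obj K) := by
  obtain ⟨X, Z, f, g, h, hT, ⟨E, hE, ⟨e⟩⟩, hZ⟩ := hK
  have hT' := (restrictD φ).map_distinguished _ hT
  have h1 : pcmP A m ((restrictD φ).obj X) := by
    have : resPC φ X := (resPC φ).prop_of_iso e (resPC_of_bfCls φ hB E hE)
    exact pcmP_of_isPseudoCoherent' _ this m
  haveI : DerivedCategory.IsLE Z (m - 1) := hZ
  have h3 : pcmP A m ((restrictD φ).obj Z) :=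
    leP_le_pcmP m _ (isLE_restrictD φ Z (m - 1))
  exact pcmP_ext m _ ⟨_, _, _, _, _, hT', h1, h3⟩

/-- Restriction of scalars detects `m`-pseudo-coherence when `B` is a pseudo-coherent
`A`-module. -/
theorem pcmP_of_pcmP_restrictD (hB : resPC φ (Dual.inD B B)) (m : ℤ) (n : ℕ) :
    ∀ (K : Dual.D B) (t : ℤ), DerivedCategory.IsLE K t → t + 1 = m + n →
      pcmP A m ((restrictD φ).obj K) → pcmP B m K := by
  induction n with
  | zero =>
    intro K t hK ht _
    obtain rfl : t = m - 1 := by push_cast at ht; omega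
    exact leP_le_pcmP m _ hK
  | succ n ih =>
    intro K t hK ht hR
    haveI := hK
    have htm : m ≤ t := by push_cast at ht; omega
    let C : Cx B := Q.objPreimage K
    let eC : toD C ≅ K := Q.objObjPreimageIso K
    haveI hRle : DerivedCategory.IsLE ((restrictD φ).obj K) t := isLE_restrictD φ K t
    have hRt : IsPseudoCoherent A t ((restrictD φ).obj K) :=
      isPseudoCoherent_mono htm _ ((isPseudoCoherent_iff_pcmP m _).2 hR)
    have hfinD : Module.Finite A
        ((DerivedCategory.homologyFunctor (ModuleCat.{u} A) t).obj ((restrictD φ).obj K)) :=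
      finite_HD_of_isPseudoCoherent _ t hRt
        (fun i hi => DerivedCategory.isZero_of_isLE _ t i hi)
    have eR : (restrictD φ).obj K ≅ toD ((restrictCx φ).obj C) :=
      (restrictD φ).mapIso eC.symm ≪≫
        (ModuleCat.restrictScalars φ).mapDerivedCategoryFactors.app C
    have hfinA : Module.Finite A (((restrictCx φ).obj C).homology t) :=
      finite_of_iso ((DerivedCategory.homologyFunctor (ModuleCat.{u} A) t).mapIso eR ≪≫
        (homologyFunctorFactors (ModuleCat.{u} A) t).app _) hfinD
    have hfin : Module.Finite B (C.homology t) := finite_homology_of_restrictCx φ C t hfinA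
    obtain ⟨r, ψ, hψ⟩ := exists_single_hom_epi C t hfin
    have hTψ := mappingCone_triangle_distinguished ψ
    haveI : DerivedCategory.IsLE (Q.mapTriangle.obj (mappingCone.triangle ψ)).obj₁ t :=
      leP_single _ t t le_rfl
    haveI : DerivedCategory.IsLE (Q.mapTriangle.obj (mappingCone.triangle ψ)).obj₂ t :=
      TStructure.t.isLE_of_iso eC.symm t
    have hepi : Epi ((DerivedCategory.homologyFunctor (ModuleCat.{u} B) t).map
        (Q.mapTriangle.obj (mappingCone.triangle ψ)).mor₁) :=
      (epi_homology_Q_map_iff ψ t).2 hψ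
    have h3le := isLE_cone_of_epi _ hTψ t hepi
    have hX1 : bfCls ((HomologicalComplex.single (ModuleCat.{u} B) (ComplexShape.up ℤ) t).obj
        (ModuleCat.of B (Fin r → B))) :=
      bfCls_single _ (inferInstanceAs (Module.Finite B (Fin r → B)))
        (inferInstanceAs (Module.Free B (Fin r → B))) t
    have hX1B : pcmP B m (toD ((HomologicalComplex.single (ModuleCat.{u} B)
        (ComplexShape.up ℤ) t).obj (ModuleCat.of B (Fin r → B)))) :=
      bfProp_le_pcmP m _ ⟨_, hX1, ⟨Iso.refl _⟩⟩
    have hX1A : IsPseudoCoherent' A ((restrictD φ).obj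
        (toD ((HomologicalComplex.single (ModuleCat.{u} B)
        (ComplexShape.up ℤ) t).obj (ModuleCat.of B (Fin r → B))))) :=
      resPC_of_bfCls φ hB _ hX1
    have hTR := (restrictD φ).map_distinguished _ hTψ
    have hR2 : IsPseudoCoherent A m ((restrictD φ).obj (toD C)) :=
      (isPseudoCoherent_iff_pcmP m _).2
        ((pcmP A m).prop_of_iso ((restrictD φ).mapIso eC.symm) hR)
    have hR3 : IsPseudoCoherent A m ((restrictD φ).obj (toD (mappingCone ψ))) :=
      (isPseudoCoherent_two_of_three _ hTR m).1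
        ((isPseudoCoherent'_iff_forall _).1 hX1A (m + 1)) hR2
    have h3 : pcmP B m (toD (mappingCone ψ)) :=
      ih _ (t - 1) h3le (by push_cast at ht ⊢; omega) ((isPseudoCoherent_iff_pcmP m _).1 hR3)
    have h2 : pcmP B m (toD C) := pcmP_ext m _ ⟨_, _, _, _, _, hTψ, hX1B, h3⟩
    exact (pcmP B m).prop_of_iso eC h2

lemma exactAt_of_exactAt_restrictCx (C : Cx B) (i : ℤ)
    (h : ((restrictCx φ).obj C).ExactAt i) : C.ExactAt i := by
  refine exactAt_of_forall C (i - 1) i (i + 1) (by omega) rfl (fun y hy => ?_)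
  obtain ⟨x, hx⟩ := exists_d_eq_of_exactAt ((restrictCx φ).obj C) (i - 1) i (i + 1) (by omega)
    rfl h y hy
  exact ⟨x, hx⟩

lemma isLE_of_isLE_restrictD (K : Dual.D B) (b : ℤ)
    (h : DerivedCategory.IsLE ((restrictD φ).obj K) b) : DerivedCategory.IsLE K b := by
  let C : Cx B := Q.objPreimage K
  let eC : toD C ≅ K := Q.objObjPreimageIso K
  have eR : (restrictD φ).obj K ≅ toD ((restrictCx φ).obj C) :=
    (restrictD φ).mapIso eC.symm ≪≫
      (ModuleCat.restrictScalars φ).mapDerivedCategoryFactors.app C
  haveI := h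
  haveI : DerivedCategory.IsLE (toD ((restrictCx φ).obj C)) b := TStructure.t.isLE_of_iso eR b
  have h1 : ((restrictCx φ).obj C).IsLE b := (isLE_Q_obj_iff _ b).1 inferInstance
  have h2 : C.IsLE b := by
    rw [CochainComplex.isLE_iff] at h1 ⊢
    exact fun i hi => exactAt_of_exactAt_restrictCx φ C i (h1 i hi)
  haveI : DerivedCategory.IsLE (toD C) b := (isLE_Q_obj_iff _ b).2 h2
  exact TStructure.t.isLE_of_iso eC b

theorem isPseudoCoherent_restrictD_iff (hB : resPC φ (Dual.inD B B)) (m : ℤ) (K : Dual.D B) :
    IsPseudoCoherent B m K ↔ IsPseudoCoherent A m ((restrictD φ).obj K) := by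
  rw [isPseudoCoherent_iff_pcmP, isPseudoCoherent_iff_pcmP]
  constructor
  · exact pcmP_restrictD φ hB m K
  · intro hR
    obtain ⟨b, hb⟩ := exists_isLE_of_pcmP m _ hR
    haveI : DerivedCategory.IsLE K b := isLE_of_isLE_restrictD φ K b hb
    obtain ⟨t, hbt, hmt⟩ : ∃ t : ℤ, b ≤ t ∧ m - 1 ≤ t :=
      ⟨max b (m - 1), le_max_left _ _, le_max_right _ _⟩
    exact pcmP_of_pcmP_restrictD φ hB m (t + 1 - m).toNat K t
      (TStructure.t.isLE_of_le K b t hbt) (by omega) hR

theorem isPseudoCoherent'_restrictD_iff (hB : resPC φ (Dual.inD B B)) (K : Dual.D B) :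
    IsPseudoCoherent' B K ↔ IsPseudoCoherent' A ((restrictD φ).obj K) := by
  rw [isPseudoCoherent'_iff_forall, isPseudoCoherent'_iff_forall]
  exact forall_congr' (fun m => isPseudoCoherent_restrictD_iff φ hB m K)

/-- `B[0]` restricted to `A` is the `A`-module `B` placed in degree `0`. -/
noncomputable def restrictDInDIso (N : ModuleCat.{u} B) :
    (restrictD φ).obj (Dual.inD B N) ≅
      (DerivedCategory.singleFunctor (ModuleCat.{u} A) 0).obj
        ((ModuleCat.restrictScalars φ).obj N) :=
  ((ModuleCat.restrictScalars φ).mapDerivedCategorySingleFunctor 0).app N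

end Groth.Agent.Lib.DMod_helper6
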