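import Mathlib
import Groth.Prelude.Def_DRing2
import Groth.Prelude.Def_DRing3
import Groth.Agent.Lib.DMod25_helper6
import Groth.Agent.Lib.DMod28_helper6

/-!
# Derived category toolkit (helper6), part 30: derived completeness

* the short exact sequence `0 → A[X] → A[X] → A_f → 0` (multiplication by `fX - 1`);
* `Hom(A_f[0], Y) = 0` for `Y ∈ D^{≤ -2}`;
* derived complete objects form a triangulated subcategory;
* pseudo-coherent objects are derived complete when `A` is.
-/

set_option autoImplicit false
universe u
open CategoryTheory CategoryTheory.Limits Pretriangulated DerivedCategory ZeroObject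
attribute [local instance] HasDerivedCategory.standard

namespace Groth.Agent.Lib.DMod_helper6

open DRing ObjectProperty

variable {A : Type u} [CommRing A]

section Telescope
open Polynomial

variable (f : A)

lemma telescope_injective : Function.Injective (fun q : A[X] => (C f * X - 1) * q) := by
  intro q q' h
  have h' : (C f * X - 1) * (q - q') = 0 := by
    rw [mul_sub]
    exact sub_eq_zero.2 h
  have hu : IsUnit (((C f * X - 1 : A[X])) : PowerSeries A) := by
    rw [PowerSeries.isUnit_iff_constantCoeff, Polynomial.constantCoeff_coe]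
    have : (C f * X - 1 : A[X]).coeff 0 = -1 := by simp
    rw [this]
    exact isUnit_one.neg
  have h2 : ((q - q' : A[X]) : PowerSeries A) = 0 := by
    have := congrArg (fun p : A[X] => (p : PowerSeries A)) h'
    simp only [Polynomial.coe_mul, Polynomial.coe_zero] at this
    exact (hu.mul_right_eq_zero).1 this
  have h3 : q - q' = 0 := Polynomial.coe_injective A (by rw [h2, Polynomial.coe_zero])
  exact sub_eq_zero.1 h3

/-- multiplication by `fX - 1` on `A[X]` -/
noncomputable def telMap : A[X] →ₗ[A] A[X] := LinearMap.mulLeft A (C f * X - 1)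

/-- the surjection `A[X] → A_f`, `X ↦ 1/f` -/
noncomputable def awayπ : A[X] →ₗ[A] Localization.Away f :=
  (Localization.awayEquivAdjoin f).symm.toLinearMap ∘ₗ (AdjoinRoot.mkₐ (C f * X - 1)).toLinearMap

lemma awayπ_apply (p : A[X]) :
    awayπ f p = (Localization.awayEquivAdjoin f).symm (AdjoinRoot.mk (C f * X - 1) p) := rfl

lemma awayπ_surjective : Function.Surjective (awayπ f) := by
  intro y
  obtain ⟨p, hp⟩ := AdjoinRoot.mk_surjective ((Localization.awayEquivAdjoin f) y)
  refine ⟨p, ?_⟩
  rw [awayπ_apply, hp]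
  exact AlgEquiv.symm_apply_apply _ _

lemma awayπ_eq_zero_iff (p : A[X]) : awayπ f p = 0 ↔ ∃ q, telMap f q = p := by
  rw [awayπ_apply, EmbeddingLike.map_eq_zero_iff, AdjoinRoot.mk_eq_zero]
  constructor
  · rintro ⟨q, rfl⟩
    exact ⟨q, rfl⟩
  · rintro ⟨q, rfl⟩
    exact ⟨q, rfl⟩

/-- the short complex `A[X] → A[X] → A_f` -/
noncomputable def telSC : ShortComplex (ModuleCat.{u} A) :=
  ShortComplex.mk (ModuleCat.ofHom (telMap f) : ModuleCat.of A A[X] ⟶ ModuleCat.of A A[X])
    (ModuleCat.ofHom (awayπ f) : ModuleCat.of A A[X] ⟶ ModuleCat.of A (Localization.Away f)) (by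
    apply ModuleCat.hom_ext
    apply LinearMap.ext
    intro q
    exact (awayπ_eq_zero_iff f _).2 ⟨q, rfl⟩)

lemma telSC_shortExact : (telSC f).ShortExact := by
  refine ShortComplex.ShortExact.mk' ?_ ?_ ?_
  · rw [ShortComplex.moduleCat_exact_iff]
    intro p hp
    exact (awayπ_eq_zero_iff f p).1 hp
  · exact (ModuleCat.mono_iff_injective _).2 (telescope_injective f)
  · exact (ModuleCat.epi_iff_surjective _).2 (awayπ_surjective f)

end Telescope

section PdOne

lemma isKProjective_single_of_projective (F : ModuleCat.{u} A) (hF : Module.Projective A F)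
    (a : ℤ) :
    CochainComplex.IsKProjective
      ((HomologicalComplex.single (ModuleCat.{u} A) (ComplexShape.up ℤ) a).obj F) := by
  refine isKProjective_of_projective_bounded _ a
    (fun i hi => HomologicalComplex.isZero_single_obj_X _ a _ i (by omega)) (fun i => ?_)
  by_cases h : i = a
  · subst h
    exact projective_of_iso (HomologicalComplex.singleObjXSelf _ i F).symm hF
  · haveI : Subsingleton
        (((HomologicalComplex.single (ModuleCat.{u} A) (ComplexShape.up ℤ) a).obj F).X i) :=
      ModuleCat.subsingleton_of_isZero (HomologicalComplex.isZero_single_obj_X _ a _ i h)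
    infer_instance

/-- morphisms from a projective module placed in degree `a` to an object `≤ n` with `n < a`
vanish -/
lemma hom_single_eq_zero_of_isLE (F : ModuleCat.{u} A) (hF : Module.Projective A F) (a n : ℤ)
    (han : n < a) (Y : Dual.D A) [DerivedCategory.IsLE Y n]
    (g : (DerivedCategory.singleFunctor _ a).obj F ⟶ Y) : g = 0 := by
  haveI := isKProjective_single_of_projective F hF a
  have h := hom_eq_zero_of_isKProjective_of_isLE
    ((HomologicalComplex.single _ (ComplexShape.up ℤ) a).obj F) n
    (fun i hi => HomologicalComplex.isZero_single_obj_X _ a _ i (by omega)) Y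
    (((singleFunctorIsoCompQ _ a).app F).inv ≫ g)
  exact (cancel_epi ((singleFunctorIsoCompQ _ a).app F).inv).1 (h.trans comp_zero.symm)

/-- `A_f` has projective dimension `≤ 1`: `Hom(A_f[0], Y) = 0` for `Y ∈ D^{≤ -2}` -/
theorem hom_away_eq_zero_of_isLE (f : A) (Y : Dual.D A) [DerivedCategory.IsLE Y (-2)]
    (g : Dual.inD A (Localization.Away f) ⟶ Y) : g = 0 := by
  have hT := (telSC_shortExact f).singleTriangle_distinguished
  haveI : DerivedCategory.IsLE Y (-1) := TStructure.t.isLE_of_le Y (-2) (-1) (by omega)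
  have hproj : Module.Projective A ((telSC f).X₂) :=
    (inferInstance : Module.Projective A (Polynomial A))
  have hproj1 : Module.Projective A ((telSC f).X₁) :=
    (inferInstance : Module.Projective A (Polynomial A))
  have h1 : ((DerivedCategory.singleFunctor _ 0).map (telSC f).g) ≫ g = 0 :=
    hom_single_eq_zero_of_isLE _ hproj 0 (-1) (by omega) Y _
  obtain ⟨g', hg'⟩ := Pretriangulated.Triangle.yoneda_exact₃ _ hT g h1
  have h2 : g' = 0 := by
    have e := ((DerivedCategory.singleFunctors (ModuleCat.{u} A)).shiftIso 1 (-1) 0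
      (by omega)).app (telSC f).X₁
    have := hom_single_eq_zero_of_isLE (telSC f).X₁ hproj1 (-1) (-2) (by omega) Y (e.inv ≫ g')
    exact (cancel_epi e.inv).1 (this.trans comp_zero.symm)
  rw [hg', h2]
  exact comp_zero

end PdOne

section Triangulated

variable (I : Ideal A)

instance isDerivedComplete_closedUnderIso :
    (IsDerivedComplete I).IsClosedUnderIsomorphisms where
  of_iso {X Y} e hX := fun f hf n => by
    haveI := hX f hf n
    exact (((CategoryTheory.shiftFunctor (Dual.D A) n).mapIso e.symm).homToEquiv).subsingleton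

instance isDerivedComplete_isTriangulated : (IsDerivedComplete I).IsTriangulated := by
  haveI : (IsDerivedComplete I).ContainsZero := by
    refine ⟨⟨0, isZero_zero _, fun f hf n => ?_⟩⟩
    exact ⟨fun g g' => ((CategoryTheory.shiftFunctor (Dual.D A) n).map_isZero
      (isZero_zero _)).eq_of_tgt _ _⟩
  haveI : (IsDerivedComplete I).IsStableUnderShift ℤ := by
    refine ⟨fun a => ⟨?_⟩⟩
    intro K hK
    show IsDerivedComplete I (K⟦a⟧)
    intro f hf n
    haveI := hK f hf (a + n)
    exact (((shiftFunctorAdd' (Dual.D A) a n (a + n) rfl).app K).homToEquiv).symm.subsingleton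
  haveI : (IsDerivedComplete I).IsTriangulatedClosed₂ := by
    refine ObjectProperty.IsTriangulatedClosed₂.mk' ?_
    intro T hT h1 h3 f hf n
    have h1' : Subsingleton (Dual.inD A (Localization.Away f) ⟶
        ((CategoryTheory.shiftFunctor (Triangle (Dual.D A)) n).obj T).obj₁) := h1 f hf n
    have h3' : Subsingleton (Dual.inD A (Localization.Away f) ⟶
        ((CategoryTheory.shiftFunctor (Triangle (Dual.D A)) n).obj T).obj₃) := h3 f hf n
    have hTn := Triangle.shift_distinguished T hT n
    suffices H : ∀ g : Dual.inD A (Localization.Away f) ⟶ T.obj₂⟦n⟧, g = 0 from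
      ⟨fun g g' => by rw [H g, H g']⟩
    intro g
    obtain ⟨g₁, hg₁⟩ := Pretriangulated.Triangle.coyoneda_exact₂ _ hTn g (h3'.elim _ _)
    have hg₁0 : g₁ = 0 := h1'.elim _ _
    rw [hg₁, hg₁0]
    exact zero_comp
  exact {}

lemma isDerivedComplete_of_bfProp (hA : IsDerivedComplete I (Dual.inD A A)) (K : Dual.D A)
    (hK : bfProp A K) : IsDerivedComplete I K := by
  obtain ⟨E, ⟨a, b, hab, hff⟩, ⟨e⟩⟩ := hK
  refine (IsDerivedComplete I).prop_of_iso e ?_
  exact devissage_termwise' (IsDerivedComplete I) E a b hab
    (fun i => prop_inD_of_finite_free (IsDerivedComplete I) hA (E.X i) (hff i).1 (hff i).2)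

/-- pseudo-coherent objects are derived complete when `A` is -/
theorem isDerivedComplete_of_isPseudoCoherent' (hA : IsDerivedComplete I (Dual.inD A A))
    (K : Dual.D A) (hK : IsPseudoCoherent' A K) : IsDerivedComplete I K := by
  intro f hf n
  obtain ⟨X, Z, u, v, w, hT, hX, hZ⟩ := pcmP_of_isPseudoCoherent' K hK (n - 1)
  have hTn := Triangle.shift_distinguished _ hT n
  suffices H : ∀ g : Dual.inD A (Localization.Away f) ⟶ K⟦n⟧, g = 0 from
    ⟨fun g g' => by rw [H g, H g']⟩
  intro g
  haveI : DerivedCategory.IsLE Z (n - 1 - 1) := hZ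
  haveI : DerivedCategory.IsLE (Z⟦n⟧) (-2) :=
    TStructure.t.isLE_shift Z (n - 1 - 1) n (-2) (by omega)
  have h0 : g ≫ ((CategoryTheory.shiftFunctor (Triangle (Dual.D A)) n).obj
      (Triangle.mk u v w)).mor₂ = 0 :=
    hom_away_eq_zero_of_isLE f (Z⟦n⟧) _
  obtain ⟨g₁, hg₁⟩ := Pretriangulated.Triangle.coyoneda_exact₂ _ hTn g h0
  have h1' : Subsingleton (Dual.inD A (Localization.Away f) ⟶
      ((CategoryTheory.shiftFunctor (Triangle (Dual.D A)) n).obj (Triangle.mk u v w)).obj₁) :=
    isDerivedComplete_of_bfProp I hA X hX f hf n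
  have hg₁0 : g₁ = 0 := h1'.elim _ _
  rw [hg₁, hg₁0]
  exact zero_comp

end Triangulated

end Groth.Agent.Lib.DMod_helper6
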