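import Mathlib
import Groth.Prelude.Def_DRing2
import Groth.Prelude.Def_DRing3
import Groth.Agent.Lib.DMod30_helper6
import Groth.Agent.Lib.DMod11_helper6
import Groth.Agent.Lib.DMod3_helper6

/-!
# Derived category toolkit (helper6), part 31: derived completeness and cohomology

For an object `E` of `D(A)` of "projective dimension `≤ 1`" (`Hom(E, Y) = 0` for `Y ∈ D^{≤ -2}` and
for `Y ∈ D^{≥ 1}`), the class `VV E` of objects `K` with `Hom(E, K[n]) = 0` for all `n` is stable
under canonical truncations; hence `K ∈ VV E` iff all `H^i(K)[0] ∈ VV E`.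
-/

set_option autoImplicit false
universe u
open CategoryTheory CategoryTheory.Limits Pretriangulated DerivedCategory ZeroObject
attribute [local instance] HasDerivedCategory.standard

namespace Groth.Agent.Lib.DMod_helper6

open DRing ObjectProperty Groth.Agent.Lib.DerivedTrunc_helper2

variable {A : Type u} [CommRing A]

/-- objects `K` with `Hom(E, K[n]) = 0` for all `n` -/
def VV (E : Dual.D A) : ObjectProperty (Dual.D A) := fun K => ∀ n : ℤ, Subsingleton (E ⟶ K⟦n⟧)

section Basic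

variable (E : Dual.D A)

instance VV_closedUnderIso : (VV E).IsClosedUnderIsomorphisms where
  of_iso {X Y} e hX := fun n => by
    haveI := hX n
    exact (((CategoryTheory.shiftFunctor (Dual.D A) n).mapIso e.symm).homToEquiv).subsingleton

variable {E} in
lemma hom_middle_eq_zero {T : Triangle (Dual.D A)} (hT : T ∈ distTriang _)
    (h1 : ∀ g : E ⟶ T.obj₁, g = 0) (h3 : ∀ g : E ⟶ T.obj₃, g = 0) (g : E ⟶ T.obj₂) : g = 0 := by
  obtain ⟨g₁, hg₁⟩ := Pretriangulated.Triangle.coyoneda_exact₂ _ hT g (h3 _)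
  rw [hg₁, h1 g₁]
  exact zero_comp

variable {E} in
lemma hom_left_eq_zero {T : Triangle (Dual.D A)} (hT : T ∈ distTriang _)
    (h2 : ∀ g : E ⟶ T.obj₂, g = 0) (h3 : ∀ g : E ⟶ T.obj₃⟦(-1 : ℤ)⟧, g = 0) (g : E ⟶ T.obj₁) :
    g = 0 := by
  obtain ⟨g₁, hg₁⟩ := Pretriangulated.Triangle.coyoneda_exact₂ _ (inv_rot_of_distTriang _ hT) g
    (h2 _)
  have : g₁ = 0 := h3 g₁
  rw [hg₁, this]
  exact zero_comp

variable {E} in
lemma hom_right_eq_zero {T : Triangle (Dual.D A)} (hT : T ∈ distTriang _)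
    (h2 : ∀ g : E ⟶ T.obj₂, g = 0) (h1 : ∀ g : E ⟶ T.obj₁⟦(1 : ℤ)⟧, g = 0) (g : E ⟶ T.obj₃) :
    g = 0 := by
  obtain ⟨g₁, hg₁⟩ := Pretriangulated.Triangle.coyoneda_exact₃ _ hT g (h1 _)
  rw [hg₁, h2 g₁]
  exact zero_comp

variable {E} in
lemma hom_middle_shift {T : Triangle (Dual.D A)} (hT : T ∈ distTriang _) (n : ℤ)
    (h1 : ∀ g : E ⟶ T.obj₁⟦n⟧, g = 0) (h3 : ∀ g : E ⟶ T.obj₃⟦n⟧, g = 0) (g : E ⟶ T.obj₂⟦n⟧) :
    g = 0 :=
  hom_middle_eq_zero (T := (CategoryTheory.shiftFunctor (Triangle (Dual.D A)) n).obj T)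
    (Triangle.shift_distinguished T hT n) h1 h3 g

variable {E} in
lemma hom_left_shift {T : Triangle (Dual.D A)} (hT : T ∈ distTriang _) (n : ℤ)
    (h2 : ∀ g : E ⟶ T.obj₂⟦n⟧, g = 0) (h3 : ∀ g : E ⟶ (T.obj₃⟦n⟧)⟦(-1 : ℤ)⟧, g = 0)
    (g : E ⟶ T.obj₁⟦n⟧) : g = 0 :=
  hom_left_eq_zero (T := (CategoryTheory.shiftFunctor (Triangle (Dual.D A)) n).obj T)
    (Triangle.shift_distinguished T hT n) h2 h3 g

variable {E} in
lemma hom_right_shift {T : Triangle (Dual.D A)} (hT : T ∈ distTriang _) (n : ℤ)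
    (h2 : ∀ g : E ⟶ T.obj₂⟦n⟧, g = 0) (h1 : ∀ g : E ⟶ (T.obj₁⟦n⟧)⟦(1 : ℤ)⟧, g = 0)
    (g : E ⟶ T.obj₃⟦n⟧) : g = 0 :=
  hom_right_eq_zero (T := (CategoryTheory.shiftFunctor (Triangle (Dual.D A)) n).obj T)
    (Triangle.shift_distinguished T hT n) h2 h1 g

instance VV_isTriangulated : (VV E).IsTriangulated := by
  haveI : (VV E).ContainsZero := by
    refine ⟨⟨0, isZero_zero _, fun n => ?_⟩⟩
    exact ⟨fun g g' => ((CategoryTheory.shiftFunctor (Dual.D A) n).map_isZero
      (isZero_zero _)).eq_of_tgt _ _⟩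
  haveI : (VV E).IsStableUnderShift ℤ := by
    refine ⟨fun a => ⟨?_⟩⟩
    intro K hK
    show VV E (K⟦a⟧)
    intro n
    haveI := hK (a + n)
    exact (((shiftFunctorAdd' (Dual.D A) a n (a + n) rfl).app K).homToEquiv).symm.subsingleton
  haveI : (VV E).IsTriangulatedClosed₂ := by
    refine ObjectProperty.IsTriangulatedClosed₂.mk' ?_
    intro T hT h1 h3 n
    suffices H : ∀ g : E ⟶ T.obj₂⟦n⟧, g = 0 from ⟨fun g g' => by rw [H g, H g']⟩
    exact hom_middle_shift hT n (fun g => (h1 n).elim _ _) (fun g => (h3 n).elim _ _)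
  exact {}

lemma VV_of_forall {K : Dual.D A} (h : ∀ (n : ℤ) (g : E ⟶ K⟦n⟧), g = 0) : VV E K :=
  fun n => ⟨fun g g' => by rw [h n g, h n g']⟩

end Basic

/-- `E` has "projective dimension `≤ 1`" and lives in degrees `≤ 0` -/
structure PdOne (E : Dual.D A) : Prop where
  le : ∀ (Y : Dual.D A), DerivedCategory.IsLE Y (-2) → ∀ g : E ⟶ Y, g = 0
  ge : ∀ (Y : Dual.D A), DerivedCategory.IsGE Y 1 → ∀ g : E ⟶ Y, g = 0

lemma pdOne_away (f : A) : PdOne (Dual.inD A (Localization.Away f)) where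
  le Y hY g := by
    haveI := hY
    exact hom_away_eq_zero_of_isLE f Y g
  ge Y hY g := by
    haveI := hY
    haveI : DerivedCategory.IsLE (Dual.inD A (Localization.Away f)) 0 := leP_single _ 0 0 le_rfl
    exact TStructure.t.zero_of_isLE_of_isGE g 0 1 (by omega) inferInstance inferInstance

section Trunc

variable {E : Dual.D A} (hE : PdOne E)
include hE

lemma VV_truncLE (K : Dual.D A) (hK : VV E K) (a : ℤ) :
    VV E (((tt (ModuleCat.{u} A)).truncLE a).obj K) := by
  refine VV_of_forall E (fun n => ?_)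
  have hT := (tt (ModuleCat.{u} A)).triangleLEGT_distinguished a K
  by_cases hn : a + 2 ≤ n
  · intro g
    haveI : DerivedCategory.IsLE ((((tt (ModuleCat.{u} A)).truncLE a).obj K)⟦n⟧) (a - n) :=
      TStructure.t.isLE_shift _ a n (a - n) (by omega)
    exact hE.le _ (TStructure.t.isLE_of_le _ (a - n) (-2) (by omega)) g
  · refine hom_left_shift hT n (fun g => (hK n).elim _ _) (fun g => ?_)
    haveI : DerivedCategory.IsGE ((((tt (ModuleCat.{u} A)).truncGT a).obj K)⟦n⟧) (a + 1 - n) :=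
      TStructure.t.isGE_shift _ (a + 1) n (a + 1 - n) (by omega)
    haveI : DerivedCategory.IsGE (((((tt (ModuleCat.{u} A)).truncGT a).obj K)⟦n⟧)⟦(-1 : ℤ)⟧)
        (a + 2 - n) := TStructure.t.isGE_shift _ (a + 1 - n) (-1) (a + 2 - n) (by omega)
    have hge : DerivedCategory.IsGE (((((tt (ModuleCat.{u} A)).truncGT a).obj K)⟦n⟧)⟦(-1 : ℤ)⟧) 1 :=
      TStructure.t.isGE_of_ge _ 1 (a + 2 - n) (by omega)
    exact hE.ge _ hge g

lemma VV_truncGT (K : Dual.D A) (hK : VV E K) (a : ℤ) :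
    VV E (((tt (ModuleCat.{u} A)).truncGT a).obj K) := by
  refine VV_of_forall E (fun n => ?_)
  have hT := (tt (ModuleCat.{u} A)).triangleLEGT_distinguished a K
  by_cases hn : n ≤ a
  · intro g
    haveI : DerivedCategory.IsGE ((((tt (ModuleCat.{u} A)).truncGT a).obj K)⟦n⟧) (a + 1 - n) :=
      TStructure.t.isGE_shift _ (a + 1) n (a + 1 - n) (by omega)
    exact hE.ge _ (TStructure.t.isGE_of_ge _ 1 (a + 1 - n) (by omega)) g
  · refine hom_right_shift hT n (fun g => (hK n).elim _ _) (fun g => ?_)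
    haveI : DerivedCategory.IsLE ((((tt (ModuleCat.{u} A)).truncLE a).obj K)⟦n⟧) (a - n) :=
      TStructure.t.isLE_shift _ a n (a - n) (by omega)
    haveI : DerivedCategory.IsLE (((((tt (ModuleCat.{u} A)).truncLE a).obj K)⟦n⟧)⟦(1 : ℤ)⟧)
        (a - n - 1) := TStructure.t.isLE_shift _ (a - n) 1 (a - n - 1) (by omega)
    have hle : DerivedCategory.IsLE (((((tt (ModuleCat.{u} A)).truncLE a).obj K)⟦n⟧)⟦(1 : ℤ)⟧)
        (-2) := TStructure.t.isLE_of_le _ (a - n - 1) (-2) (by omega)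
    exact hE.le _ hle g

/-- if `K ∈ VV E` then every cohomology module of `K` is in `VV E` -/
theorem VV_inD_HD (K : Dual.D A) (hK : VV E K) (i : ℤ) :
    VV E (Dual.inD A (Dual.HD A K i)) := by
  have hL : VV E (((tt (ModuleCat.{u} A)).truncGT (i - 1)).obj
      (((tt (ModuleCat.{u} A)).truncLE i).obj K)) :=
    VV_truncGT hE _ (VV_truncLE hE K hK i) (i - 1)
  haveI : DerivedCategory.IsGE (((tt (ModuleCat.{u} A)).truncGT (i - 1)).obj
      (((tt (ModuleCat.{u} A)).truncLE i).obj K)) i := by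
    have : DerivedCategory.IsGE (((tt (ModuleCat.{u} A)).truncGT (i - 1)).obj
      (((tt (ModuleCat.{u} A)).truncLE i).obj K)) (i - 1 + 1) := inferInstance
    exact TStructure.t.isGE_of_ge _ i (i - 1 + 1) (by omega)
  haveI : DerivedCategory.IsLE (((tt (ModuleCat.{u} A)).truncGT (i - 1)).obj
      (((tt (ModuleCat.{u} A)).truncLE i).obj K)) i :=
    isLE_truncGT_of_isLE _ (i - 1) i (by omega)
  obtain ⟨e⟩ := exists_iso_single_homology (((tt (ModuleCat.{u} A)).truncGT (i - 1)).obj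
      (((tt (ModuleCat.{u} A)).truncLE i).obj K)) i
  haveI := isIso_homology_map_truncGTπ (((tt (ModuleCat.{u} A)).truncLE i).obj K) (i - 1) i
    (by omega)
  haveI := isIso_homology_map_truncLEι K i i le_rfl
  have e2 : (DerivedCategory.homologyFunctor (ModuleCat.{u} A) i).obj
      (((tt (ModuleCat.{u} A)).truncGT (i - 1)).obj (((tt (ModuleCat.{u} A)).truncLE i).obj K)) ≅
      (DerivedCategory.homologyFunctor (ModuleCat.{u} A) i).obj K :=
    (asIso ((DerivedCategory.homologyFunctor _ i).map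
      (((tt _).truncGTπ (i - 1)).app (((tt (ModuleCat.{u} A)).truncLE i).obj K)))).symm ≪≫
    asIso ((DerivedCategory.homologyFunctor _ i).map (((tt _).truncLEι i).app K))
  have h1 : VV E ((DerivedCategory.singleFunctor _ i).obj
      ((DerivedCategory.homologyFunctor (ModuleCat.{u} A) i).obj K)) :=
    (VV E).prop_of_iso (e ≪≫ (DerivedCategory.singleFunctor _ i).mapIso e2) hL
  have h2 := (VV E).le_shift i _ h1
  exact (VV E).prop_of_iso (((DerivedCategory.singleFunctors (ModuleCat.{u} A)).shiftIso i 0 i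
    (by omega)).app _) h2

lemma VV_inD_HD_truncLE (K : Dual.D A) (a : ℤ) (h : ∀ i, VV E (Dual.inD A (Dual.HD A K i)))
    (i : ℤ) : VV E (Dual.inD A (Dual.HD A (((tt (ModuleCat.{u} A)).truncLE a).obj K) i)) := by
  by_cases hi : i ≤ a
  · haveI := isIso_homology_map_truncLEι K a i hi
    exact (VV E).prop_of_iso ((DerivedCategory.singleFunctor _ 0).mapIso
      (asIso ((DerivedCategory.homologyFunctor _ i).map (((tt _).truncLEι a).app K))).symm) (h i)
  · exact (VV E).prop_of_isZero ((DerivedCategory.singleFunctor _ 0).map_isZero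
      (isZero_homology_truncLE K a i (by omega)))

lemma VV_inD_HD_truncGT (K : Dual.D A) (a : ℤ) (h : ∀ i, VV E (Dual.inD A (Dual.HD A K i)))
    (i : ℤ) : VV E (Dual.inD A (Dual.HD A (((tt (ModuleCat.{u} A)).truncGT a).obj K) i)) := by
  by_cases hi : a < i
  · haveI := isIso_homology_map_truncGTπ K a i hi
    exact (VV E).prop_of_iso ((DerivedCategory.singleFunctor _ 0).mapIso
      (asIso ((DerivedCategory.homologyFunctor _ i).map (((tt _).truncGTπ a).app K)))) (h i)
  · exact (VV E).prop_of_isZero ((DerivedCategory.singleFunctor _ 0).map_isZero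
      (isZero_homology_truncGT K a i (by omega)))

/-- if every cohomology module of `K` is in `VV E` then so is `K` -/
theorem VV_of_forall_HD (K : Dual.D A) (h : ∀ i, VV E (Dual.inD A (Dual.HD A K i))) :
    VV E K := by
  refine VV_of_forall E (fun n => ?_)
  have hT := (tt (ModuleCat.{u} A)).triangleLEGT_distinguished n K
  have hT' := (tt (ModuleCat.{u} A)).triangleLEGT_distinguished (n - 2)
    (((tt (ModuleCat.{u} A)).truncLE n).obj K)
  have hL : VV E (((tt (ModuleCat.{u} A)).truncGT (n - 2)).obj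
      (((tt (ModuleCat.{u} A)).truncLE n).obj K)) := by
    haveI : DerivedCategory.IsLE (((tt (ModuleCat.{u} A)).truncGT (n - 2)).obj
        (((tt (ModuleCat.{u} A)).truncLE n).obj K)) n :=
      isLE_truncGT_of_isLE _ (n - 2) n (by omega)
    refine devissage_homology (VV E) _ ⟨n - 1, n, fun i hi => ?_⟩
      (VV_inD_HD_truncGT hE _ _ (VV_inD_HD_truncLE hE K n h))
    rcases hi with hi | hi
    · exact ModuleCat.subsingleton_of_isZero (isZero_homology_truncGT _ (n - 2) i (by omega))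
    · exact ModuleCat.subsingleton_of_isZero (DerivedCategory.isZero_of_isLE _ n i hi)
  have h1 : ∀ g : E ⟶ (((tt (ModuleCat.{u} A)).truncLE n).obj K)⟦n⟧, g = 0 := by
    refine hom_middle_shift hT' n (fun g => ?_) (fun g => (hL n).elim _ _)
    have hle : DerivedCategory.IsLE ((((tt (ModuleCat.{u} A)).truncLE (n - 2)).obj
        (((tt (ModuleCat.{u} A)).truncLE n).obj K))⟦n⟧) (-2) :=
      TStructure.t.isLE_shift _ (n - 2) n (-2) (by omega)
    exact hE.le _ hle g
  refine hom_middle_shift hT n h1 (fun g => ?_)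
  have hge : DerivedCategory.IsGE ((((tt (ModuleCat.{u} A)).truncGT n).obj K)⟦n⟧) 1 :=
    TStructure.t.isGE_shift _ (n + 1) n 1 (by omega)
  exact hE.ge _ hge g

end Trunc

/-- `K` is derived complete iff all its cohomology modules are -/
theorem isDerivedComplete_iff_homology (I : Ideal A) (K : Dual.D A) :
    IsDerivedComplete I K ↔ ∀ i : ℤ, IsDerivedComplete I (Dual.inD A (Dual.HD A K i)) := by
  constructor
  · intro h i f hf
    exact VV_inD_HD (pdOne_away f) K (h f hf) i
  · intro h f hf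
    exact VV_of_forall_HD (pdOne_away f) K (fun i => h i f hf)

end Groth.Agent.Lib.DMod_helper6
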