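import Mathlib
import Groth.Prelude.Def_DRing2
import Groth.Prelude.Def_DRing3
import Groth.Agent.Lib.DMod31_helper6

/-!
# Derived category toolkit (helper6), part 32: derived completion of `f`-local complexes vanishes
-/

set_option autoImplicit false
universe u
open CategoryTheory CategoryTheory.Limits Pretriangulated DerivedCategory ZeroObject
attribute [local instance] HasDerivedCategory.standard

namespace Groth.Agent.Lib.DMod_helper6

open DRing ObjectProperty

variable {A : Type u} [CommRing A]

lemma homologyMap_smul' {K L : Cx A} (φ : K ⟶ L) (a : A) (n : ℤ) :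
    HomologicalComplex.homologyMap (a • φ) n = a • HomologicalComplex.homologyMap φ n := by
  have : (HomologicalComplex.shortComplexFunctor (ModuleCat.{u} A) (ComplexShape.up ℤ) n).map
      (a • φ) =
      a • (HomologicalComplex.shortComplexFunctor (ModuleCat.{u} A) (ComplexShape.up ℤ) n).map
        φ := by
    ext <;> rfl
  show ShortComplex.homologyMap _ = a • ShortComplex.homologyMap _
  rw [this, ShortComplex.homologyMap_smul]
  rfl

lemma homologyFunctor_map_smul_id (K : Dual.D A) (a : A) (n : ℤ) :
    (DerivedCategory.homologyFunctor (ModuleCat.{u} A) n).map (a • 𝟙 K) = a • 𝟙 _ := by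
  let K' : Cx A := Q.objPreimage K
  let e : Q.obj K' ≅ K := Q.objObjPreimageIso K
  have h1 : a • 𝟙 K = e.inv ≫ Q.map (a • 𝟙 K') ≫ e.hom := by
    rw [Functor.map_smul, Q.map_id, Linear.smul_comp, Linear.comp_smul, Category.id_comp,
      e.inv_hom_id]
  have h3 : (HomologicalComplex.homologyFunctor (ModuleCat.{u} A) (ComplexShape.up ℤ) n).map
      (a • 𝟙 K') = a • 𝟙 _ := by
    show HomologicalComplex.homologyMap (a • 𝟙 K') n = _
    rw [homologyMap_smul', HomologicalComplex.homologyMap_id]
    rfl
  have h2 : (DerivedCategory.homologyFunctor (ModuleCat.{u} A) n).map (Q.map (a • 𝟙 K')) =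
      a • 𝟙 _ := by
    have nat : (DerivedCategory.homologyFunctor (ModuleCat.{u} A) n).map (Q.map (a • 𝟙 K')) ≫
        (DerivedCategory.homologyFunctorFactors (ModuleCat.{u} A) n).hom.app K' =
        (DerivedCategory.homologyFunctorFactors (ModuleCat.{u} A) n).hom.app K' ≫
        (HomologicalComplex.homologyFunctor (ModuleCat.{u} A) (ComplexShape.up ℤ) n).map
          (a • 𝟙 K') :=
      (DerivedCategory.homologyFunctorFactors (ModuleCat.{u} A) n).hom.naturality (a • 𝟙 K')
    rw [h3] at nat
    have h4 : (DerivedCategory.homologyFunctorFactors (ModuleCat.{u} A) n).hom.app K' ≫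
        (a • 𝟙 _) = (a • 𝟙 _) ≫
        (DerivedCategory.homologyFunctorFactors (ModuleCat.{u} A) n).hom.app K' := by
      rw [Linear.comp_smul, Linear.smul_comp, Category.comp_id, Category.id_comp]
    rw [h4] at nat
    exact (Iso.cancel_iso_hom_right _ _
      ((DerivedCategory.homologyFunctorFactors (ModuleCat.{u} A) n).app K')).1 nat
  rw [h1, Functor.map_comp, Functor.map_comp, h2, Linear.smul_comp, Linear.comp_smul,
    Category.id_comp, ← Functor.map_comp, e.inv_hom_id, CategoryTheory.Functor.map_id]

theorem isIso_smul_id_derivedCompletion (I : Ideal A) [HasDerivedCompletion I] (K : Dual.D A)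
    (f : A) (hf : IsIso (f • 𝟙 K)) : IsIso (f • 𝟙 ((derivedCompletion I).obj K).obj) := by
  obtain ⟨v, hv⟩ := (ObjectProperty.ι (IsDerivedComplete I)).map_surjective
    (f • 𝟙 ((ObjectProperty.ι (IsDerivedComplete I)).obj ((derivedCompletion I).obj K)))
  have huv : (derivedCompletion I).map (f • 𝟙 K) = v := by
    apply ((derivedCompletionAdj I).homEquiv K ((derivedCompletion I).obj K)).injective
    rw [Adjunction.homEquiv_unit, Adjunction.homEquiv_unit, hv]
    calc (derivedCompletionAdj I).unit.app K ≫ (ObjectProperty.ι (IsDerivedComplete I)).map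
          ((derivedCompletion I).map (f • 𝟙 K))
        = (f • 𝟙 K) ≫ (derivedCompletionAdj I).unit.app K :=
          ((derivedCompletionAdj I).unit.naturality (f • 𝟙 K)).symm
      _ = f • (derivedCompletionAdj I).unit.app K := by
          rw [Linear.smul_comp, Category.id_comp]
      _ = (derivedCompletionAdj I).unit.app K ≫ (f • 𝟙 _) := by
          rw [Linear.comp_smul, Category.comp_id]
  haveI := hf
  have h : IsIso ((ObjectProperty.ι (IsDerivedComplete I)).map
      ((derivedCompletion I).map (f • 𝟙 K))) := inferInstance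
  rw [huv, hv] at h
  exact h

lemma isIso_smul_id_toD (K : Cx A) (f : A)
    (hK : ∀ i : ℤ, Function.Bijective (fun x : K.X i => f • x)) : IsIso (f • 𝟙 (toD K)) := by
  haveI : IsIso (f • 𝟙 K) := by
    haveI : ∀ i, IsIso ((f • 𝟙 K).f i) := fun i => by
      rw [ConcreteCategory.isIso_iff_bijective]
      exact hK i
    exact HomologicalComplex.Hom.isIso_of_components _
  have : f • 𝟙 (toD K) = Q.map (f • 𝟙 K) := by rw [Functor.map_smul, Q.map_id]
  rw [this]
  infer_instance

theorem isZero_of_VV_of_isIso_smul (f : A) (C : Dual.D A)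
    (hC : VV (Dual.inD A (Localization.Away f)) C) (hf : IsIso (f • 𝟙 C)) : IsZero C := by
  have hM : ∀ n : ℤ, IsZero ((DerivedCategory.homologyFunctor (ModuleCat.{u} A) n).obj C) := by
    intro n
    have hiso : IsIso (f • 𝟙 ((DerivedCategory.homologyFunctor (ModuleCat.{u} A) n).obj C)) := by
      rw [← homologyFunctor_map_smul_id]
      infer_instance
    have hbij : Function.Bijective
        (fun x : ((DerivedCategory.homologyFunctor (ModuleCat.{u} A) n).obj C) => f • x) :=
      (ConcreteCategory.isIso_iff_bijective _).1 hiso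
    have hV := VV_inD_HD (pdOne_away f) C hC n 0
    have hlin : ∀ φ : Localization.Away f →ₗ[A]
        ((DerivedCategory.homologyFunctor (ModuleCat.{u} A) n).obj C), φ = 0 := by
      intro φ
      have h1 : (DerivedCategory.singleFunctor (ModuleCat.{u} A) 0).map
          (ModuleCat.ofHom φ : ModuleCat.of A (Localization.Away f) ⟶
            (DerivedCategory.homologyFunctor (ModuleCat.{u} A) n).obj C) = 0 := by
        have h0 := hV.elim ((DerivedCategory.singleFunctor (ModuleCat.{u} A) 0).map
          (ModuleCat.ofHom φ : ModuleCat.of A (Localization.Away f) ⟶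
            (DerivedCategory.homologyFunctor (ModuleCat.{u} A) n).obj C) ≫
          (shiftFunctorZero (Dual.D A) ℤ).inv.app _) 0
        exact (cancel_mono ((shiftFunctorZero (Dual.D A) ℤ).inv.app
          (Dual.inD A (Dual.HD A C n)))).1 (h0.trans zero_comp.symm)
      have h2 : (ModuleCat.ofHom φ : ModuleCat.of A (Localization.Away f) ⟶
            (DerivedCategory.homologyFunctor (ModuleCat.{u} A) n).obj C) = 0 :=
        (DerivedCategory.singleFunctor (ModuleCat.{u} A) 0).map_injective
          (by rw [h1, Functor.map_zero])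
      exact congrArg ModuleCat.Hom.hom h2
    refine @ModuleCat.isZero_of_subsingleton _ _ _ ⟨fun x y => ?_⟩
    suffices H : ∀ x : ((DerivedCategory.homologyFunctor (ModuleCat.{u} A) n).obj C), x = 0 by
      rw [H x, H y]
    intro x
    have hunit : ∀ s : Submonoid.powers f, IsUnit ((algebraMap A (Module.End A
        ((DerivedCategory.homologyFunctor (ModuleCat.{u} A) n).obj C))) s) := by
      rintro ⟨_, k, rfl⟩
      rw [map_pow]
      refine IsUnit.pow k ?_
      rw [Module.End.isUnit_iff]
      exact hbij
    have h3 := IsLocalizedModule.lift_apply (Submonoid.powers f)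
      (Algebra.linearMap A (Localization.Away f)) (LinearMap.toSpanSingleton A _ x) hunit 1
    rw [hlin (IsLocalizedModule.lift (Submonoid.powers f)
      (Algebra.linearMap A (Localization.Away f)) (LinearMap.toSpanSingleton A _ x) hunit)] at h3
    simpa using h3.symm
  haveI : DerivedCategory.IsLE C 0 := (DerivedCategory.isLE_iff C 0).2 (fun i _ => hM i)
  haveI : DerivedCategory.IsGE C 1 := (DerivedCategory.isGE_iff C 1).2 (fun i _ => hM i)
  rw [IsZero.iff_id_eq_zero]
  exact TStructure.t.zero_of_isLE_of_isGE (𝟙 C) 0 1 (by omega) inferInstance inferInstance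

end Groth.Agent.Lib.DMod_helper6
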