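import Mathlib
import Groth.Prelude.Def_DRing2
import Groth.Agent.Lib.DMod25_helper6
import Groth.Agent.Lib.DMod24_helper6

/-!
# Derived category toolkit (helper6), part 33: `Hom_{K(R)}(M, K) ≃ Hom_{D(R)}(M, K)` when `M` is
concentrated in degrees `≤ 0` with `M^0` projective and `K` in degrees `≥ -1`.
-/

set_option autoImplicit false
universe u
open CategoryTheory CategoryTheory.Limits Pretriangulated DerivedCategory ZeroObject
attribute [local instance] HasDerivedCategory.standard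

namespace Groth.Agent.Lib.DMod_helper6

open DRing CochainComplex CochainComplex.HomComplex

variable {A : Type u} [CommRing A]

/-- an acyclic complex in degrees `≤ 0` with projective top term has no non-trivial homotopy
classes of maps to a complex in degrees `≥ -2` -/
theorem homotopy_zero_of_acyclic_projective_top (C K' : Cx A)
    (hC : ∀ i : ℤ, 0 < i → IsZero (C.X i)) (hC0 : Module.Projective A (C.X 0))
    (hex : ∀ i : ℤ, C.ExactAt i) (hK' : ∀ i : ℤ, i ≤ -3 → IsZero (K'.X i)) (c : C ⟶ K') :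
    Nonempty (Homotopy c 0) := by
  classical
  let d1 : C.X (-1) →ₗ[A] C.X 0 := (C.d (-1) 0).hom
  let e : C.X (-2) →ₗ[A] C.X (-1) := (C.d (-2) (-1)).hom
  let c0 : C.X 0 →ₗ[A] K'.X 0 := (c.f 0).hom
  let c1 : C.X (-1) →ₗ[A] K'.X (-1) := (c.f (-1)).hom
  let c2 : C.X (-2) →ₗ[A] K'.X (-2) := (c.f (-2)).hom
  let k1 : K'.X (-1) →ₗ[A] K'.X 0 := (K'.d (-1) 0).hom
  let k2 : K'.X (-2) →ₗ[A] K'.X (-1) := (K'.d (-2) (-1)).hom
  have hd1e : ∀ x, d1 (e x) = 0 := fun x =>
    LinearMap.congr_fun (congrArg ModuleCat.Hom.hom (C.d_comp_d (-2) (-1) 0)) x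
  have hk1k2 : ∀ x, k1 (k2 x) = 0 := fun x =>
    LinearMap.congr_fun (congrArg ModuleCat.Hom.hom (K'.d_comp_d (-2) (-1) 0)) x
  have hc01 : ∀ y, k1 (c1 y) = c0 (d1 y) := fun y =>
    LinearMap.congr_fun (congrArg ModuleCat.Hom.hom (c.comm (-1) 0)) y
  have hc12 : ∀ x, k2 (c2 x) = c1 (e x) := fun x =>
    LinearMap.congr_fun (congrArg ModuleCat.Hom.hom (c.comm (-2) (-1))) x
  have hsurj : Function.Surjective d1 := by
    intro y
    haveI := ModuleCat.subsingleton_of_isZero (hC 1 (by omega))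
    obtain ⟨x, hx⟩ := exists_d_eq_of_exactAt C (-1) 0 1 (by omega) (by omega) (hex 0) y
      (Subsingleton.elim _ _)
    exact ⟨x, hx⟩
  obtain ⟨σ, hσ⟩ := Module.projective_lifting_property d1 LinearMap.id hsurj
  have hσ' : ∀ y, d1 (σ y) = y := fun y => LinearMap.congr_fun hσ y
  have hker : LinearMap.ker e ≤ LinearMap.ker c2 := by
    intro x hx
    obtain ⟨w, hw⟩ := exists_d_eq_of_exactAt C (-3) (-2) (-1) (by omega) (by omega) (hex (-2)) x
      (LinearMap.mem_ker.1 hx)
    rw [LinearMap.mem_ker, ← hw]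
    have h3 := LinearMap.congr_fun (congrArg ModuleCat.Hom.hom (c.comm (-3) (-2))) w
    haveI := ModuleCat.subsingleton_of_isZero (hK' (-3) le_rfl)
    have h0 : (c.f (-3)).hom w = 0 := Subsingleton.elim _ _
    have h4 : (K'.d (-3) (-2)).hom ((c.f (-3)).hom w) = c2 ((C.d (-3) (-2)).hom w) := h3
    rw [← h4, h0, map_zero]
  let hbar : LinearMap.range e →ₗ[A] K'.X (-2) :=
    (Submodule.liftQ (LinearMap.ker e) c2 hker) ∘ₗ (LinearMap.quotKerEquivRange e).symm.toLinearMap
  have hbar_apply : ∀ x (hx : e x ∈ LinearMap.range e), hbar ⟨e x, hx⟩ = c2 x := by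
    intro x hx
    show Submodule.liftQ _ c2 hker ((LinearMap.quotKerEquivRange e).symm ⟨e x, hx⟩) = c2 x
    rw [LinearMap.quotKerEquivRange_symm_apply_image]
    exact Submodule.liftQ_apply _ _ x
  have hπmem : ∀ y, ((LinearMap.id : C.X (-1) →ₗ[A] C.X (-1)) - σ ∘ₗ d1) y ∈
      LinearMap.range e := by
    intro y
    have h5 : d1 (y - σ (d1 y)) = 0 := by rw [map_sub, hσ', sub_self]
    obtain ⟨x, hx⟩ := exists_d_eq_of_exactAt C (-2) (-1) 0 (by omega) (by omega) (hex (-1)) _ h5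
    exact ⟨x, hx⟩
  let π : C.X (-1) →ₗ[A] LinearMap.range e :=
    LinearMap.codRestrict (LinearMap.range e)
      ((LinearMap.id : C.X (-1) →ₗ[A] C.X (-1)) - σ ∘ₗ d1) hπmem
  let h1 : C.X (-1) →ₗ[A] K'.X (-2) := hbar ∘ₗ π
  let h0 : C.X 0 →ₗ[A] K'.X (-1) := (c1 - k2 ∘ₗ h1) ∘ₗ σ
  have hπe : ∀ x, π (e x) = ⟨e x, ⟨x, rfl⟩⟩ := fun x => Subtype.ext (by
    show e x - σ (d1 (e x)) = e x
    rw [hd1e, map_zero, sub_zero])
  have hπσ : ∀ y, π (σ y) = 0 := fun y => Subtype.ext (by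
    show σ y - σ (d1 (σ y)) = 0
    rw [hσ', sub_self])
  have E2 : ∀ x, h1 (e x) = c2 x := fun x => by
    show hbar (π (e x)) = _
    rw [hπe, hbar_apply]
  have h1σ : ∀ y, h1 (σ y) = 0 := fun y => by
    show hbar (π (σ y)) = 0
    rw [hπσ, map_zero]
  have E1 : ∀ y, h0 (d1 y) + k2 (h1 y) = c1 y := by
    intro y
    obtain ⟨x, hx⟩ := hπmem y
    have hx' : e x = y - σ (d1 y) := hx
    have hπy : π y = ⟨e x, ⟨x, rfl⟩⟩ := Subtype.ext hx'.symm
    have h6 : h1 y = c2 x := by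
      show hbar (π y) = _
      rw [hπy, hbar_apply]
    show c1 (σ (d1 y)) - k2 (h1 (σ (d1 y))) + k2 (h1 y) = c1 y
    rw [h1σ, map_zero, sub_zero, h6, hc12, hx', map_sub]
    abel
  have E0 : ∀ y, k1 (h0 y) = c0 y := by
    intro y
    show k1 (c1 (σ y) - k2 (h1 (σ y))) = c0 y
    rw [map_sub, hk1k2, sub_zero, hc01, hσ']
  let z : Cochain C K' (-1) :=
    Cochain.single (ModuleCat.ofHom h0 : C.X 0 ⟶ K'.X (-1)) (-1) +
    Cochain.single (ModuleCat.ofHom h1 : C.X (-1) ⟶ K'.X (-2)) (-1)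
  refine ⟨(Cochain.equivHomotopy c 0).symm ⟨z, ?_⟩⟩
  rw [Cochain.ofHom_zero, add_zero, δ_add,
    Cochain.δ_single (ModuleCat.ofHom h0 : C.X 0 ⟶ K'.X (-1)) (-1) 0 (by omega) (-1) 0
      (by omega) (by omega),
    Cochain.δ_single (ModuleCat.ofHom h1 : C.X (-1) ⟶ K'.X (-2)) (-1) 0 (by omega) (-2) (-1)
      (by omega) (by omega)]
  refine Cochain.ext₀ _ _ (fun p => ?_)
  rw [Cochain.ofHom_v, Cochain.add_v, Cochain.add_v, Cochain.add_v, Cochain.units_smul_v,
    Cochain.units_smul_v, Int.negOnePow_zero, one_smul, one_smul]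
  by_cases hp0 : p = 0
  · subst hp0
    rw [Cochain.single_v, Cochain.single_v_eq_zero _ _ _ _ _ (by omega),
      Cochain.single_v_eq_zero _ _ _ _ _ (by omega),
      Cochain.single_v_eq_zero _ _ _ _ _ (by omega), add_zero, add_zero, add_zero]
    apply ModuleCat.hom_ext
    apply LinearMap.ext
    intro y
    exact (E0 y).symm
  by_cases hp1 : p = -1
  · subst hp1
    rw [Cochain.single_v_eq_zero _ _ _ _ _ (by omega), Cochain.single_v, Cochain.single_v,
      Cochain.single_v_eq_zero _ _ _ _ _ (by omega), zero_add, add_zero]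
    apply ModuleCat.hom_ext
    apply LinearMap.ext
    intro y
    exact (E1 y).symm
  by_cases hp2 : p = -2
  · subst hp2
    rw [Cochain.single_v_eq_zero _ _ _ _ _ (by omega),
      Cochain.single_v_eq_zero _ _ _ _ _ (by omega),
      Cochain.single_v_eq_zero _ _ _ _ _ (by omega), Cochain.single_v, zero_add, zero_add,
      zero_add]
    apply ModuleCat.hom_ext
    apply LinearMap.ext
    intro x
    exact (E2 x).symm
  · rw [Cochain.single_v_eq_zero _ _ _ _ _ hp0, Cochain.single_v_eq_zero _ _ _ _ _ hp1,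
      Cochain.single_v_eq_zero _ _ _ _ _ hp1, Cochain.single_v_eq_zero _ _ _ _ _ hp2]
    simp only [add_zero]
    by_cases hpos : 0 < p
    · exact (hC p hpos).eq_of_src _ _
    · exact (hK' p (by omega)).eq_of_tgt _ _

/-- any morphism in the homotopy category from such a `C` to such a `K'` is zero -/
lemma hom_quotient_eq_zero_of_acyclic_projective_top (C K' : Cx A)
    (hC : ∀ i : ℤ, 0 < i → IsZero (C.X i)) (hC0 : Module.Projective A (C.X 0))
    (hex : ∀ i : ℤ, C.ExactAt i) (hK' : ∀ i : ℤ, i ≤ -3 → IsZero (K'.X i))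
    (g : (HomotopyCategory.quotient (ModuleCat.{u} A) (ComplexShape.up ℤ)).obj C ⟶
      (HomotopyCategory.quotient (ModuleCat.{u} A) (ComplexShape.up ℤ)).obj K') : g = 0 := by
  obtain ⟨c, rfl⟩ := (HomotopyCategory.quotient _ _).map_surjective g
  obtain ⟨H⟩ := homotopy_zero_of_acyclic_projective_top C K' hC hC0 hex hK' c
  rw [HomotopyCategory.eq_of_homotopy _ _ H, Functor.map_zero]

/-- `Hom_{K(R)}(M, K) → Hom_{D(R)}(M, K)` is bijective when `M` lives in degrees `≤ 0` with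
`M^0` projective and `K` lives in degrees `≥ -1`. -/
theorem Qh_map_bijective_of_projective_top (M K : Cx A)
    (hM : ∀ i : ℤ, 0 < i → IsZero (M.X i)) (hM0 : Module.Projective A (M.X 0))
    (hK : ∀ i : ℤ, i ≤ -2 → IsZero (K.X i)) :
    Function.Bijective
      (fun φ : (HomotopyCategory.quotient (ModuleCat.{u} A) (ComplexShape.up ℤ)).obj M ⟶
        (HomotopyCategory.quotient (ModuleCat.{u} A) (ComplexShape.up ℤ)).obj K =>
          DerivedCategory.Qh.map φ) := by
  haveI : M.IsStrictlyLE 0 := (CochainComplex.isStrictlyLE_iff M 0).2 hM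
  haveI : DerivedCategory.IsLE (toD M) 0 := (isLE_Q_obj_iff _ 0).2 inferInstance
  obtain ⟨L, hLfree, hLva, ⟨e⟩⟩ := exists_free_resolution (toD M) 0
  haveI : L.IsKProjective := isKProjective_of_projective_bounded L 0 hLva
    (fun i => by haveI := hLfree i; infer_instance)
  obtain ⟨p, hp⟩ := exists_Q_map_eq_of_isKProjective e.hom
  haveI hpiso : IsIso (Q.map p) := by rw [hp]; infer_instance
  have hTD := DerivedCategory.mappingCone_triangle_distinguished p
  have hCzero : IsZero (toD (mappingCone p)) :=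
    (Triangle.isZero₃_iff_isIso₁ _ hTD).2 hpiso
  have hCex : ∀ i, (mappingCone p).ExactAt i := fun i =>
    exactAt_of_isZero_homology_toD _ i ((DerivedCategory.homologyFunctor _ i).map_isZero hCzero)
  have hCtop : ∀ i : ℤ, 0 < i → IsZero ((mappingCone p).X i) := fun i hi =>
    IsZero.of_iso (isZero_biprod (hLva (i + 1) (by omega)) (hM i hi)) (coneXIso p i)
  have hC0 : Module.Projective A ((mappingCone p).X 0) :=
    projective_of_iso (coneXIso p 0).symm
      (projective_biprod (by haveI := hLfree (0 + 1); infer_instance) hM0)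
  have hv1 : ∀ g : (HomotopyCategory.quotient (ModuleCat.{u} A) (ComplexShape.up ℤ)).obj
      (mappingCone p) ⟶ (HomotopyCategory.quotient _ _).obj K, g = 0 :=
    hom_quotient_eq_zero_of_acyclic_projective_top _ K hCtop hC0 hCex
      (fun i hi => hK i (by omega))
  have hv2 : ∀ g : ((HomotopyCategory.quotient (ModuleCat.{u} A) (ComplexShape.up ℤ)).obj
      (mappingCone p))⟦(-1 : ℤ)⟧ ⟶ (HomotopyCategory.quotient _ _).obj K, g = 0 := by
    intro g
    have hK1 : ∀ i : ℤ, i ≤ -3 → IsZero ((K⟦(1 : ℤ)⟧).X i) := fun i hi => hK (i + 1) (by omega)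
    have h1 := hom_quotient_eq_zero_of_acyclic_projective_top _ (K⟦(1 : ℤ)⟧) hCtop hC0 hCex hK1
      ((shiftFunctorCompIsoId (HomotopyCategory (ModuleCat.{u} A) (ComplexShape.up ℤ))
        (-1 : ℤ) 1 (by omega)).inv.app _ ≫ g⟦(1 : ℤ)⟧' ≫
        ((HomotopyCategory.quotient (ModuleCat.{u} A) (ComplexShape.up ℤ)).commShiftIso
          (1 : ℤ)).inv.app K)
    have h3 : g⟦(1 : ℤ)⟧' ≫ ((HomotopyCategory.quotient (ModuleCat.{u} A)
        (ComplexShape.up ℤ)).commShiftIso (1 : ℤ)).inv.app K = 0 :=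
      (cancel_epi ((shiftFunctorCompIsoId (HomotopyCategory (ModuleCat.{u} A)
        (ComplexShape.up ℤ)) (-1 : ℤ) 1 (by omega)).inv.app _)).1 (h1.trans comp_zero.symm)
    have h2 : g⟦(1 : ℤ)⟧' = 0 :=
      (cancel_mono (((HomotopyCategory.quotient (ModuleCat.{u} A)
        (ComplexShape.up ℤ)).commShiftIso (1 : ℤ)).inv.app K)).1 (h3.trans zero_comp.symm)
    exact (CategoryTheory.shiftFunctor _ (1 : ℤ)).map_injective
      (by rw [h2, CategoryTheory.Functor.map_zero])
  have hTK := HomotopyCategory.mappingCone_triangleh_distinguished p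
  have hbijL := CochainComplex.IsKProjective.Qh_map_bijective L
    ((HomotopyCategory.quotient (ModuleCat.{u} A) (ComplexShape.up ℤ)).obj K)
  constructor
  · intro φ₁ φ₂ h
    have h' : Qh.map φ₁ = Qh.map φ₂ := h
    have h0 : Qh.map (φ₁ - φ₂) = 0 := by rw [Functor.map_sub, h', sub_self]
    have h1 : (HomotopyCategory.quotient _ _).map p ≫ (φ₁ - φ₂) = 0 := by
      apply hbijL.injective
      show Qh.map _ = Qh.map _
      rw [Functor.map_comp, h0, comp_zero, CategoryTheory.Functor.map_zero]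
    obtain ⟨g, hg⟩ := Triangle.yoneda_exact₂ _ hTK (φ₁ - φ₂) h1
    have hg0 : g = 0 := hv1 g
    subst hg0
    exact sub_eq_zero.1 (hg.trans comp_zero)
  · intro θ
    obtain ⟨γ, hγ⟩ := hbijL.surjective (Qh.map ((HomotopyCategory.quotient _ _).map p) ≫ θ)
    obtain ⟨φ, hφ⟩ := Triangle.yoneda_exact₂ _ (inv_rot_of_distTriang _ hTK) γ (hv2 _)
    refine ⟨φ, ?_⟩
    haveI : IsIso (Qh.map ((HomotopyCategory.quotient (ModuleCat.{u} A)
        (ComplexShape.up ℤ)).map p)) := hpiso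
    have hγ' : Qh.map γ = Qh.map ((HomotopyCategory.quotient _ _).map p) ≫ θ := hγ
    have hφ' : γ = (HomotopyCategory.quotient _ _).map p ≫ φ := hφ
    rw [hφ', Functor.map_comp] at hγ'
    exact (cancel_epi _).1 hγ'

end Groth.Agent.Lib.DMod_helper6
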