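import Mathlib
import Groth.Prelude.Def_DRing2
import Groth.Agent.Lib.DMod33_helper6
import Groth.Agent.Lib.DMod26_helper6

/-!
# Derived category toolkit (helper6), part 34: `Ext^1` out of complexes with projective top term

Consequences of `Qh_map_bijective_of_projective_top`: morphisms `M → N[1]` in `D(R)`, for `M` in
degrees `≤ 0` with `M^0` projective, are homotopy classes of maps `M^{-1} → N`.
-/

set_option autoImplicit false
universe u
open CategoryTheory CategoryTheory.Limits Pretriangulated DerivedCategory ZeroObject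
attribute [local instance] HasDerivedCategory.standard

namespace Groth.Agent.Lib.DMod_helper6

open DRing CochainComplex

variable {A : Type u} [CommRing A]

/-- `N[0]⟦1⟧ ≅ Q(N placed in degree -1)` -/
noncomputable def inDShiftOneIso (N : ModuleCat.{u} A) :
    ((DerivedCategory.singleFunctor (ModuleCat.{u} A) 0).obj N)⟦(1 : ℤ)⟧ ≅
      Q.obj ((HomologicalComplex.single (ModuleCat.{u} A) (ComplexShape.up ℤ) (-1)).obj N) :=
  ((DerivedCategory.singleFunctors (ModuleCat.{u} A)).shiftIso 1 (-1) 0 (by omega)).app N ≪≫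
    (singleFunctorIsoCompQ (ModuleCat.{u} A) (-1)).app N

/-- lifting morphisms in `D(R)` to chain maps -/
lemma exists_Q_map_eq_of_projective_top (K S : Cx A)
    (hK : ∀ i : ℤ, 0 < i → IsZero (K.X i)) (hK0 : Module.Projective A (K.X 0))
    (hS : ∀ i : ℤ, i ≤ -2 → IsZero (S.X i)) (ξ : Q.obj K ⟶ Q.obj S) :
    ∃ t : K ⟶ S, Q.map t = ξ := by
  obtain ⟨φ, hφ⟩ := (Qh_map_bijective_of_projective_top K S hK hK0 hS).surjective ξ
  obtain ⟨t, rfl⟩ := (HomotopyCategory.quotient _ _).map_surjective φ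
  exact ⟨t, hφ⟩

lemma homotopy_zero_of_Q_map_eq_zero_of_projective_top (K S : Cx A)
    (hK : ∀ i : ℤ, 0 < i → IsZero (K.X i)) (hK0 : Module.Projective A (K.X 0))
    (hS : ∀ i : ℤ, i ≤ -2 → IsZero (S.X i)) (t : K ⟶ S) (h : Q.map t = 0) :
    Nonempty (Homotopy t 0) := by
  have hinj := (Qh_map_bijective_of_projective_top K S hK hK0 hS).injective
  have h1 : (HomotopyCategory.quotient _ _).map t = (HomotopyCategory.quotient _ _).map 0 := by
    apply hinj
    show Q.map t = Q.map 0
    rw [h, Functor.map_zero]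
  exact ⟨HomotopyCategory.homotopyOfEq _ _ h1⟩

lemma isZero_single_neg_one (N : ModuleCat.{u} A) (i : ℤ) (hi : i ≤ -2) :
    IsZero (((HomologicalComplex.single (ModuleCat.{u} A) (ComplexShape.up ℤ) (-1)).obj N).X i) :=
  HomologicalComplex.isZero_single_obj_X _ (-1) _ i (by omega)

/-- Lemma A: a chain map `M → N[1]` vanishing in `D(R)` factors through `d : M^{-1} → M^0` -/
lemma exists_factor_of_Q_map_eq_zero (M : Cx A)
    (hM : ∀ i : ℤ, 0 < i → IsZero (M.X i)) (hM0 : Module.Projective A (M.X 0))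
    (N : ModuleCat.{u} A)
    (t : M ⟶ (HomologicalComplex.single (ModuleCat.{u} A) (ComplexShape.up ℤ) (-1)).obj N)
    (h : Q.map t = 0) :
    ∃ k : M.X 0 ⟶ N,
      t.f (-1) ≫ (HomologicalComplex.singleObjXSelf (ComplexShape.up ℤ) (-1) N).hom =
        M.d (-1) 0 ≫ k := by
  obtain ⟨H⟩ := homotopy_zero_of_Q_map_eq_zero_of_projective_top M _ hM hM0
    (isZero_single_neg_one N) t h
  have hc := H.comm (-1)
  rw [dNext_eq H.hom (show (ComplexShape.up ℤ).Rel (-1) 0 from by simp),
    prevD_eq H.hom (show (ComplexShape.up ℤ).Rel (-2) (-1) from by simp),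
    HomologicalComplex.zero_f, add_zero, HomologicalComplex.single_obj_d, comp_zero,
    add_zero] at hc
  refine ⟨H.hom 0 (-1) ≫ (HomologicalComplex.singleObjXSelf (ComplexShape.up ℤ) (-1) N).hom, ?_⟩
  rw [hc, Category.assoc]

/-- Lemma C: a chain map `P → N[1]` which factors through `d : P^{-1} → P^0` vanishes in `D(R)` -/
lemma Q_map_eq_zero_of_factor (P : Cx A) (N : ModuleCat.{u} A)
    (t : P ⟶ (HomologicalComplex.single (ModuleCat.{u} A) (ComplexShape.up ℤ) (-1)).obj N)
    (k : P.X 0 ⟶ N)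
    (hk : t.f (-1) ≫ (HomologicalComplex.singleObjXSelf (ComplexShape.up ℤ) (-1) N).hom =
      P.d (-1) 0 ≫ k) : Q.map t = 0 := by
  have hg : ∀ i, (ComplexShape.up ℤ).Rel i (-1) → P.d i (-1) ≫ (P.d (-1) (-1 + 1) ≫ k) = 0 :=
    fun i _ => by rw [← Category.assoc, P.d_comp_d, zero_comp]
  have ht : t = HomologicalComplex.mkHomToSingle (P.d (-1) (-1 + 1) ≫ k) hg := by
    apply HomologicalComplex.to_single_hom_ext
    rw [HomologicalComplex.mkHomToSingle_f]
    have : t.f (-1) = (P.d (-1) 0 ≫ k) ≫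
        (HomologicalComplex.singleObjXSelf (ComplexShape.up ℤ) (-1) N).inv := by
      rw [← hk, Category.assoc, Iso.hom_inv_id, Category.comp_id]
    exact this
  rw [ht]
  exact Q_map_mkHomToSingle_eq_zero P (-1) N (show P.X (-1 + 1) ⟶ N from k) hg

/-- canonical truncation `τ_{≥ c+1}` as a quotient, when `P` is exact in degrees `≤ c` -/
theorem exists_canonical_trunc (P : Cx A) (c : ℤ) (hex : ∀ i, i ≤ c → P.ExactAt i) :
    ∃ (T : Cx A) (π : P ⟶ T), IsIso (Q.map π) ∧ (∀ i, i ≤ c → IsZero (T.X i)) ∧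
      (∀ i, c + 1 < i → Nonempty (T.X i ≅ P.X i)) := by
  have hS := subQuot_shortExact P (splitN P c) (splitN_stable P c)
  have hz : IsZero (toD (subCx P (splitN P c) (splitN_stable P c))) :=
    isZero_toD_of_exactAt _ (subCx_splitN_exactAt P c hex)
  have hT := triangleOfSES_distinguished hS
  have hiso : IsIso (Q.map (quotπ P (splitN P c) (splitN_stable P c))) :=
    (Triangle.isZero₁_iff_isIso₂ (triangleOfSES hS) hT).1 hz
  refine ⟨quotCx P (splitN P c) (splitN_stable P c), quotπ P _ _, hiso, ?_, ?_⟩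
  · intro i hi
    have : Subsingleton (P.X i ⧸ splitN P c i) := by
      refine subsingleton_of_forall_eq 0 (fun y => ?_)
      obtain ⟨x, rfl⟩ := Submodule.mkQ_surjective _ y
      exact (Submodule.Quotient.mk_eq_zero _).2
        (by rw [splitN_of_le P c i hi]; exact Submodule.mem_top)
    exact @ModuleCat.isZero_of_subsingleton _ _ (ModuleCat.of A (P.X i ⧸ splitN P c i)) this
  · intro i hi
    exact ⟨(Submodule.quotEquivOfEqBot _ (splitN_of_gt P c i hi)).toModuleIso⟩

/-- an object with cohomology in degrees `-1, 0` is represented by a two-term complex with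
projective (even free) term in degree `0` -/
theorem exists_twoTerm_representative (K : Dual.D A)
    (hK : ∀ i : ℤ, i ≠ -1 → i ≠ 0 → Subsingleton (Dual.HD A K i)) :
    ∃ E : Cx A, VanishesOutside E (-1) 0 ∧ Module.Projective A (E.X 0) ∧
      Nonempty (toD E ≅ K) := by
  haveI : DerivedCategory.IsLE K 0 :=
    isLE_of_subsingleton_HD K 0 (fun i hi => hK i (by omega) (by omega))
  obtain ⟨L, hLfree, hLva, ⟨eL⟩⟩ := exists_free_resolution K 0
  have hex : ∀ i, i ≤ -2 → L.ExactAt i := fun i hi =>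
    (exactAt_iff_subsingleton_HD eL i).2 (hK i (by omega) (by omega))
  obtain ⟨T, π, hπ, hT1, hT2⟩ := exists_canonical_trunc L (-2) hex
  refine ⟨T, ?_, ?_, ⟨(asIso (Q.map π)).symm ≪≫ eL⟩⟩
  · intro i hi
    rcases hi with hi | hi
    · exact hT1 i (by omega)
    · obtain ⟨e⟩ := hT2 i (by omega)
      exact IsZero.of_iso (hLva i hi) e
  · obtain ⟨e⟩ := hT2 0 (by omega)
    haveI := hLfree 0
    exact projective_of_iso e.symm inferInstance

end Groth.Agent.Lib.DMod_helper6
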