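import Mathlib
import Groth.Prelude.Def_DRing2
import Groth.Agent.Lib.DMod34_helper6
import Groth.Agent.Lib.DMod32_helper6

/-!
# Derived category toolkit (helper6), part 35: two-term complexes and annihilators of `Ext^1`
-/

set_option autoImplicit false
universe u
open CategoryTheory CategoryTheory.Limits Pretriangulated DerivedCategory ZeroObject
attribute [local instance] HasDerivedCategory.standard

namespace Groth.Agent.Lib.DMod_helper6

open DRing CochainComplex Groth.Agent.Lib.DerivedTrunc_helper2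

variable {A : Type u} [CommRing A]

/-- if `a` kills `Ext^1(K, N)` for all `N`, then multiplication by `a` on `E^{-1}` factors through
the differential, for a representative `E` of `K` with projective top term -/
lemma exists_factor_smul_of_ext_one_annihilated (E : Cx A)
    (hEtop : ∀ i : ℤ, 0 < i → IsZero (E.X i)) (hE0 : Module.Projective A (E.X 0))
    (hEbot : ∀ i : ℤ, i < -1 → IsZero (E.X i)) (K : Dual.D A) (e : toD E ≅ K) (a : A)
    (hyp : ∀ (N : ModuleCat.{u} A)
      (ξ : K ⟶ ((DerivedCategory.singleFunctor (ModuleCat.{u} A) 0).obj N)⟦(1 : ℤ)⟧), a • ξ = 0) :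
    ∃ h : E.X 0 ⟶ E.X (-1), E.d (-1) 0 ≫ h = a • 𝟙 (E.X (-1)) := by
  let t : E ⟶ (HomologicalComplex.single (ModuleCat.{u} A) (ComplexShape.up ℤ) (-1)).obj
      (E.X (-1)) :=
    HomologicalComplex.mkHomToSingle (𝟙 (E.X (-1))) (fun i hi =>
      (hEbot i (by have : i + 1 = -1 := hi; omega)).eq_of_src _ _)
  have h1 := hyp (E.X (-1)) (e.inv ≫ Q.map t ≫ (inDShiftOneIso (E.X (-1))).inv)
  have h1a : e.inv ≫ (a • Q.map t) ≫ (inDShiftOneIso (E.X (-1))).inv = 0 := by
    rw [Linear.smul_comp, Linear.comp_smul]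
    exact h1
  have h1b : (a • Q.map t) ≫ (inDShiftOneIso (E.X (-1))).inv = 0 :=
    (cancel_epi e.inv).1 (h1a.trans comp_zero.symm)
  have h2 : Q.map (a • t) = 0 := by
    rw [Functor.map_smul]
    exact (cancel_mono (inDShiftOneIso (E.X (-1))).inv).1 (h1b.trans zero_comp.symm)
  obtain ⟨k, hk⟩ := exists_factor_of_Q_map_eq_zero E hEtop hE0 (E.X (-1)) (a • t) h2
  refine ⟨k, ?_⟩
  rw [← hk, HomologicalComplex.smul_f_apply, HomologicalComplex.mkHomToSingle_f,
    Linear.smul_comp, Category.assoc, Iso.inv_hom_id, Category.comp_id]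

/-- if multiplication by `a` on `E^{-1}` factors through the differential, `a` kills `H^{-1}` -/
lemma smul_HD_neg_one_eq_zero (E : Cx A) (K : Dual.D A) (e : toD E ≅ K) (a : A)
    (h : E.X 0 ⟶ E.X (-1)) (hh : E.d (-1) 0 ≫ h = a • 𝟙 (E.X (-1)))
    (x : Dual.HD A K (-1)) : a • x = 0 := by
  let iso : (DerivedCategory.homologyFunctor (ModuleCat.{u} A) (-1)).obj K ≅ E.homology (-1) :=
    (DerivedCategory.homologyFunctor _ (-1)).mapIso e.symm ≪≫
      (homologyFunctorFactors (ModuleCat.{u} A) (-1)).app E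
  suffices H : ∀ y : E.homology (-1), a • y = 0 by
    have h1 := H (iso.hom.hom x)
    rw [← map_smul] at h1
    exact (ModuleCat.mono_iff_injective iso.hom).1 inferInstance (h1.trans (map_zero _).symm)
  intro y
  obtain ⟨z, rfl⟩ := (ModuleCat.epi_iff_surjective (E.homologyπ (-1))).1 inferInstance y
  rw [← map_smul]
  have hz : a • z = 0 := by
    apply (ModuleCat.mono_iff_injective (E.iCycles (-1))).1 inferInstance
    rw [map_smul, map_zero]
    have h1 : (E.d (-1) 0).hom ((E.iCycles (-1)).hom z) = 0 :=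
      LinearMap.congr_fun (congrArg ModuleCat.Hom.hom (E.iCycles_d (-1) 0)) z
    have h3 : h.hom ((E.d (-1) 0).hom ((E.iCycles (-1)).hom z)) = a • (E.iCycles (-1)).hom z :=
      LinearMap.congr_fun (congrArg ModuleCat.Hom.hom hh) ((E.iCycles (-1)).hom z)
    rw [← h3, h1, map_zero]
  rw [hz, map_zero]

/-- `τ_{> -1} K ≅ H^0(K)[0]` for `K ∈ D^{≤ 0}` -/
lemma exists_truncGT_neg_one_iso (K : Dual.D A) [DerivedCategory.IsLE K 0] :
    Nonempty (((tt (ModuleCat.{u} A)).truncGT (-1)).obj K ≅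
      (DerivedCategory.singleFunctor (ModuleCat.{u} A) 0).obj
        ((DerivedCategory.homologyFunctor (ModuleCat.{u} A) 0).obj K)) := by
  haveI : DerivedCategory.IsGE (((tt (ModuleCat.{u} A)).truncGT (-1)).obj K) 0 := by
    have : DerivedCategory.IsGE (((tt (ModuleCat.{u} A)).truncGT (-1)).obj K) (-1 + 1) :=
      inferInstance
    exact TStructure.t.isGE_of_ge _ 0 (-1 + 1) (by omega)
  haveI : DerivedCategory.IsLE (((tt (ModuleCat.{u} A)).truncGT (-1)).obj K) 0 :=
    isLE_truncGT_of_isLE K (-1) 0 (by omega)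
  obtain ⟨eG⟩ := exists_iso_single_homology (((tt (ModuleCat.{u} A)).truncGT (-1)).obj K) 0
  haveI := isIso_homology_map_truncGTπ K (-1) 0 (by omega)
  exact ⟨eG ≪≫ (DerivedCategory.singleFunctor _ 0).mapIso
    (asIso ((DerivedCategory.homologyFunctor _ 0).map (((tt _).truncGTπ (-1)).app K))).symm⟩

/-- if `a` kills `Ext^1(K, N)` for all `N` then it kills `Ext^1(H^0(K), N)` for all `N` -/
lemma smul_ext_one_H0_eq_zero (K : Dual.D A) [DerivedCategory.IsLE K 0] (a : A)
    (ha : ∀ (N : ModuleCat.{u} A)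
      (ξ : K ⟶ ((DerivedCategory.singleFunctor (ModuleCat.{u} A) 0).obj N)⟦(1 : ℤ)⟧), a • ξ = 0)
    (N : ModuleCat.{u} A)
    (ξ : (DerivedCategory.singleFunctor (ModuleCat.{u} A) 0).obj
        ((DerivedCategory.homologyFunctor (ModuleCat.{u} A) 0).obj K) ⟶
      ((DerivedCategory.singleFunctor (ModuleCat.{u} A) 0).obj N)⟦(1 : ℤ)⟧) : a • ξ = 0 := by
  obtain ⟨J⟩ := exists_truncGT_neg_one_iso K
  have hT := (tt (ModuleCat.{u} A)).triangleLEGT_distinguished (-1) K
  have h1 := ha N (((tt (ModuleCat.{u} A)).truncGTπ (-1)).app K ≫ J.hom ≫ ξ)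
  have h2 : ((tt (ModuleCat.{u} A)).truncGTπ (-1)).app K ≫ (a • (J.hom ≫ ξ)) = 0 := by
    rw [Linear.comp_smul]
    exact h1
  obtain ⟨w, hw⟩ := Triangle.yoneda_exact₃ _ hT (a • (J.hom ≫ ξ)) h2
  haveI : DerivedCategory.IsLE ((((tt (ModuleCat.{u} A)).truncLE (-1)).obj K)⟦(1 : ℤ)⟧) (-2) :=
    TStructure.t.isLE_shift _ (-1) 1 (-2) (by omega)
  haveI : DerivedCategory.IsGE
      (((DerivedCategory.singleFunctor (ModuleCat.{u} A) 0).obj N)⟦(1 : ℤ)⟧) (-1) :=
    TStructure.t.isGE_shift _ 0 1 (-1) (by omega)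
  have hw0 : w = 0 := TStructure.t.zero_of_isLE_of_isGE w (-2) (-1) (by omega)
    (show DerivedCategory.IsLE ((((tt (ModuleCat.{u} A)).truncLE (-1)).obj K)⟦(1 : ℤ)⟧) (-2)
      from inferInstance) inferInstance
  rw [hw0, comp_zero] at hw
  have h3 : a • ξ = J.inv ≫ (a • (J.hom ≫ ξ)) := by
    rw [Linear.comp_smul, Iso.inv_hom_id_assoc]
  rw [h3, hw]
  exact comp_zero

/-- the converse: if `a` kills `H^{-1}(K)` and `b` kills `Ext^1(H^0(K), N)`, then `b * a` kills
`Ext^1(K, N)` -/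
lemma mul_smul_ext_one_eq_zero (K : Dual.D A)
    (hK : ∀ i : ℤ, i ≠ -1 → i ≠ 0 → Subsingleton (Dual.HD A K i)) (a b : A)
    (ha : ∀ x : Dual.HD A K (-1), a • x = 0)
    (hb : ∀ (N : ModuleCat.{u} A)
      (ξ : (DerivedCategory.singleFunctor (ModuleCat.{u} A) 0).obj
        ((DerivedCategory.homologyFunctor (ModuleCat.{u} A) 0).obj K) ⟶
      ((DerivedCategory.singleFunctor (ModuleCat.{u} A) 0).obj N)⟦(1 : ℤ)⟧), b • ξ = 0)
    (N : ModuleCat.{u} A)
    (ξ : K ⟶ ((DerivedCategory.singleFunctor (ModuleCat.{u} A) 0).obj N)⟦(1 : ℤ)⟧) :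
    (b * a) • ξ = 0 := by
  haveI : DerivedCategory.IsLE K 0 :=
    isLE_of_subsingleton_HD K 0 (fun i hi => hK i (by omega) (by omega))
  obtain ⟨J⟩ := exists_truncGT_neg_one_iso K
  have hT := (tt (ModuleCat.{u} A)).triangleLEGT_distinguished (-1) K
  -- `τ_{≤ -1} K` is concentrated in degree `-1`
  haveI hFge : DerivedCategory.IsGE (((tt (ModuleCat.{u} A)).truncLE (-1)).obj K) (-1) := by
    rw [DerivedCategory.isGE_iff]
    intro i hi
    haveI := isIso_homology_map_truncLEι K (-1) i (by omega)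
    haveI := hK i (by omega) (by omega)
    have hz : IsZero ((DerivedCategory.homologyFunctor (ModuleCat.{u} A) i).obj K) :=
      ModuleCat.isZero_of_subsingleton _
    exact IsZero.of_iso hz
      (asIso ((DerivedCategory.homologyFunctor _ i).map (((tt _).truncLEι (-1)).app K)))
  have hF0 : a • 𝟙 (((tt (ModuleCat.{u} A)).truncLE (-1)).obj K) = 0 := by
    refine eq_zero_of_homology_map_eq_zero (-1) _ ?_
    rw [homologyFunctor_map_smul_id]
    haveI := isIso_homology_map_truncLEι K (-1) (-1) le_rfl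
    let e3 := asIso ((DerivedCategory.homologyFunctor _ (-1)).map (((tt _).truncLEι (-1)).app K))
    apply ModuleCat.hom_ext
    apply LinearMap.ext
    intro x
    show a • x = 0
    apply (ModuleCat.mono_iff_injective e3.hom).1 inferInstance
    rw [map_smul, map_zero]
    exact ha _
  have h1 : ((tt (ModuleCat.{u} A)).truncLEι (-1)).app K ≫ (a • ξ) = 0 := by
    have : ((tt (ModuleCat.{u} A)).truncLEι (-1)).app K ≫ (a • ξ) =
        (a • 𝟙 _) ≫ ((tt (ModuleCat.{u} A)).truncLEι (-1)).app K ≫ ξ := by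
      rw [Linear.comp_smul, Linear.smul_comp, Category.id_comp]
    rw [this, hF0, zero_comp]
  have hex : ∃ η : ((tt (ModuleCat.{u} A)).truncGT (-1)).obj K ⟶
      ((DerivedCategory.singleFunctor (ModuleCat.{u} A) 0).obj N)⟦(1 : ℤ)⟧,
      a • ξ = ((tt (ModuleCat.{u} A)).truncGTπ (-1)).app K ≫ η := by
    obtain ⟨η, hη⟩ := Triangle.yoneda_exact₂ _ hT (a • ξ) h1
    exact ⟨η, hη⟩
  obtain ⟨η, hη⟩ := hex
  have h2 : b • η = 0 := by
    have h3 := hb N (J.inv ≫ η)
    have h4 : b • η = J.hom ≫ (b • (J.inv ≫ η)) := by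
      rw [Linear.comp_smul, Iso.hom_inv_id_assoc]
    rw [h4, h3]
    exact comp_zero
  rw [mul_smul, hη, ← Linear.comp_smul, h2]
  exact comp_zero

end Groth.Agent.Lib.DMod_helper6
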