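import Mathlib
import Groth.Prelude.Def_DRing2
import Groth.Prelude.Def_DDual2
import Groth.Agent.Lib.DMod40_helper6
import Groth.Agent.Lib.DMod35_helper6

/-!
# Derived category toolkit (helper6), part 41: tensoring bounded above flat complexes with a
module, flat truncations and tor amplitude.
-/

set_option autoImplicit false
universe u
open CategoryTheory CategoryTheory.Limits Pretriangulated DerivedCategory ZeroObject
attribute [local instance] HasDerivedCategory.standard

namespace Groth.Agent.Lib.DMod_helper6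

open DRing CochainComplex

variable {A : Type u} [CommRing A]

/-- termwise tensor product of a complex with a module -/
noncomputable abbrev TN (N : ModuleCat.{u} A) : Cx A ⥤ Cx A :=
  (MonoidalCategory.tensorRight N).mapHomologicalComplex (ComplexShape.up ℤ)

lemma function_exact_of_exactAt (C : Cx A) (j i k : ℤ) (hji : j + 1 = i) (hik : i + 1 = k)
    (h : C.ExactAt i) : Function.Exact (C.d j i).hom (C.d i k).hom := by
  rw [HomologicalComplex.exactAt_iff' C j i k (by subst hji; simp) (by subst hik; simp)] at h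
  exact (ShortComplex.ShortExact.moduleCat_exact_iff_function_exact _).1 h

lemma exactAt_of_function_exact (C : Cx A) (j i k : ℤ) (hji : j + 1 = i) (hik : i + 1 = k)
    (h : Function.Exact (C.d j i).hom (C.d i k).hom) : C.ExactAt i := by
  rw [HomologicalComplex.exactAt_iff' C j i k (by subst hji; simp) (by subst hik; simp)]
  exact (ShortComplex.ShortExact.moduleCat_exact_iff_function_exact _).2 h

lemma TN_d_hom (N : ModuleCat.{u} A) (C : Cx A) (i j : ℤ) :
    (((TN N).obj C).d i j).hom = (C.d i j).hom.rTensor N := rfl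

lemma flat_of_isZero (M : ModuleCat.{u} A) (h : IsZero M) : Module.Flat A M := by
  haveI : Subsingleton M := ModuleCat.subsingleton_of_isZero h
  infer_instance

lemma flat_biprod {M N : ModuleCat.{u} A} (hM : Module.Flat A M) (hN : Module.Flat A N) :
    Module.Flat A (M ⊞ N : ModuleCat.{u} A) := by
  haveI : Module.Flat A (M × N) := flat_prod
  exact Module.Flat.of_linearEquiv (ModuleCat.biprodIsoProd M N).toLinearEquiv

/-- In an acyclic bounded above complex of flat modules all cokernels are flat. -/
theorem flat_coker_of_acyclic (W : Cx A) (b : ℤ) (hb : VanishesAbove W b) (hflat : TermwiseFlat W)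
    (hex : ∀ i, W.ExactAt i) :
    ∀ (n : ℕ) (j i : ℤ), j + 1 = i → b + 1 ≤ i + n →
      Module.Flat A (W.X i ⧸ LinearMap.range (W.d j i).hom) := by
  intro n
  induction n with
  | zero =>
    intro j i hji hi
    haveI : Subsingleton (W.X i) :=
      ModuleCat.subsingleton_of_isZero (hb i (by push_cast at hi; omega))
    haveI : Subsingleton (W.X i ⧸ LinearMap.range (W.d j i).hom) :=
      (Submodule.mkQ_surjective _).subsingleton
    infer_instance
  | succ n ih =>
    intro j i hji hi
    haveI hfl1 : Module.Flat A (W.X (i + 1) ⧸ LinearMap.range (W.d i (i + 1)).hom) :=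
      ih i (i + 1) rfl (by push_cast at hi ⊢; omega)
    haveI : Module.Flat A (W.X (i + 1)) := hflat (i + 1)
    let Z := LinearMap.range (W.d i (i + 1)).hom
    haveI hZ : Module.Flat A Z :=
      flat_of_flat_of_flat_coker Z.subtype Z.mkQ Z.injective_subtype
        (LinearMap.exact_subtype_mkQ Z) (Submodule.mkQ_surjective _)
    have hex1 := function_exact_of_exactAt W j i (i + 1) hji rfl (hex i)
    have hker : LinearMap.ker (W.d i (i + 1)).hom = LinearMap.range (W.d j i).hom :=
      LinearMap.exact_iff.1 hex1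
    let e : (W.X i ⧸ LinearMap.range (W.d j i).hom) ≃ₗ[A] Z :=
      (Submodule.quotEquivOfEq _ _ hker.symm).trans
        (LinearMap.quotKerEquivRange (W.d i (i + 1)).hom)
    exact Module.Flat.of_linearEquiv e

/-- An acyclic bounded above complex of flat modules stays acyclic after tensoring. -/
theorem exactAt_TN_of_acyclic (W : Cx A) (b : ℤ) (hb : VanishesAbove W b)
    (hflat : TermwiseFlat W) (hex : ∀ i, W.ExactAt i) (N : ModuleCat.{u} A) (i : ℤ) :
    ((TN N).obj W).ExactAt i := by
  refine exactAt_of_function_exact _ (i - 1) i (i + 1) (by omega) rfl ?_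
  haveI := flat_coker_of_acyclic W b hb hflat hex (b + 1 - (i + 1)).toNat i (i + 1) rfl
    (by omega)
  exact exact_rTensor_of_flat_coker _ _
    (function_exact_of_exactAt W (i - 1) i (i + 1) (by omega) rfl (hex i)) N

/-- Tensoring with a module preserves quasi-isomorphisms between bounded above complexes of
flat modules. -/
theorem isIso_Q_map_TN_map {X Y : Cx A} (q : X ⟶ Y) (hq : IsIso (Q.map q)) (bX bY : ℤ)
    (hX : VanishesAbove X bX) (hY : VanishesAbove Y bY) (hXf : TermwiseFlat X)
    (hYf : TermwiseFlat Y) (N : ModuleCat.{u} A) : IsIso (Q.map ((TN N).map q)) := by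
  let W := mappingCone q
  have hWb : VanishesAbove W (max bX bY) := fun i hi =>
    IsZero.of_iso (isZero_biprod (hX (i + 1) (by have := le_max_left bX bY; omega))
      (hY i (by have := le_max_right bX bY; omega))) (coneXIso q i)
  have hWf : TermwiseFlat W := fun i => by
    haveI : Module.Flat A (X.X (i + 1) ⊞ Y.X i : ModuleCat.{u} A) :=
      flat_biprod (hXf (i + 1)) (hYf i)
    exact Module.Flat.of_linearEquiv (coneXIso q i).toLinearEquiv
  have hWz : IsZero (toD W) :=
    (Triangle.isZero₃_iff_isIso₁ _ (mappingCone_triangle_distinguished q)).2 hq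
  have hWex : ∀ i, W.ExactAt i := fun i =>
    exactAt_of_isZero_homology_toD W i ((DerivedCategory.homologyFunctor _ i).map_isZero hWz)
  have hTW : ∀ i, ((TN N).obj W).ExactAt i := exactAt_TN_of_acyclic W _ hWb hWf hWex N
  have hTWz : IsZero (toD ((TN N).obj W)) := isZero_toD_of_exactAt _ hTW
  have e := mappingCone.mapHomologicalComplexIso q (MonoidalCategory.tensorRight N)
  have hz : IsZero (toD (mappingCone ((TN N).map q))) := IsZero.of_iso hTWz (Q.mapIso e.symm)
  exact (Triangle.isZero₃_iff_isIso₁ _
    (mappingCone_triangle_distinguished ((TN N).map q))).1 hz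

lemma isLE_toD_of_vanishesAbove (C : Cx A) (b : ℤ) (hb : VanishesAbove C b) :
    DerivedCategory.IsLE (toD C) b := by
  haveI : C.IsStrictlyLE b := (CochainComplex.isStrictlyLE_iff C b).2 hb
  infer_instance

/-- The cohomology of `C ⊗ N` only depends on the class of `C` in `D(A)`, for bounded above
complexes of flat modules. -/
theorem exactAt_TN_of_iso (C C' : Cx A) (b b' : ℤ) (hC : VanishesAbove C b)
    (hC' : VanishesAbove C' b') (hCf : TermwiseFlat C) (hC'f : TermwiseFlat C')
    (e : toD C ≅ toD C') (N : ModuleCat.{u} A) (i : ℤ) (h : ((TN N).obj C').ExactAt i) :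
    ((TN N).obj C).ExactAt i := by
  haveI : DerivedCategory.IsLE (toD C) b := isLE_toD_of_vanishesAbove C b hC
  obtain ⟨P, hPfree, hPb, ⟨eP⟩⟩ := exists_free_resolution (toD C) b
  haveI : P.IsKProjective := isKProjective_of_projective_bounded P b hPb
    (fun i => by haveI := hPfree i; infer_instance)
  obtain ⟨p, hp⟩ := exists_Q_map_eq_of_isKProjective (E := P) (F := C) eP.hom
  obtain ⟨p', hp'⟩ := exists_Q_map_eq_of_isKProjective (E := P) (F := C') (eP.hom ≫ e.hom)
  have hpi : IsIso (Q.map p) := by rw [hp]; infer_instance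
  have hp'i : IsIso (Q.map p') := by rw [hp']; infer_instance
  have hPf : TermwiseFlat P := fun i => by haveI := hPfree i; infer_instance
  haveI h1 := isIso_Q_map_TN_map p hpi b b hPb hC hPf hCf N
  haveI h2 := isIso_Q_map_TN_map p' hp'i b b' hPb hC' hPf hC'f N
  rw [HomologicalComplex.exactAt_iff_isZero_homology] at h ⊢
  have e1 : toD ((TN N).obj C) ≅ toD ((TN N).obj C') :=
    (asIso (Q.map ((TN N).map p))).symm ≪≫ asIso (Q.map ((TN N).map p'))
  exact IsZero.of_iso h (((homologyFunctorFactors (ModuleCat.{u} A) i).app _).symm ≪≫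
    (DerivedCategory.homologyFunctor _ i).mapIso e1 ≪≫
    (homologyFunctorFactors (ModuleCat.{u} A) i).app _)

/-- If `C ⊗ N` is exact in degree `j` for all `N` and `C^i` is flat (`i = j + 1`), then the
cokernel of `C^j → C^i` is flat. -/
theorem flat_coker_of_TN_exact (C : Cx A) (j i : ℤ) (hji : j + 1 = i)
    (hflat : Module.Flat A (C.X i))
    (hex : ∀ N : ModuleCat.{u} A, ((TN N).obj C).ExactAt j) :
    Module.Flat A (C.X i ⧸ LinearMap.range (C.d j i).hom) := by
  refine flat_coker_of_forall_exact (C.d (j - 1) j).hom (C.d j i).hom ?_ ?_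
  · rw [← ModuleCat.hom_comp, C.d_comp_d, ModuleCat.hom_zero]
  · intro N _ _
    exact function_exact_of_exactAt ((TN (ModuleCat.of A N)).obj C) (j - 1) j i (by omega) hji
      (hex (ModuleCat.of A N))

/-- canonical truncation with flat terms -/
theorem exists_flat_trunc (C : Cx A) (c : ℤ) (hex : ∀ i, i ≤ c → C.ExactAt i)
    (hflat : TermwiseFlat C)
    (hcoker : Module.Flat A (C.X (c + 1) ⧸ LinearMap.range (C.d c (c + 1)).hom)) :
    ∃ (T : Cx A) (π : C ⟶ T), IsIso (Q.map π) ∧ (∀ i, i ≤ c → IsZero (T.X i)) ∧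
      TermwiseFlat T ∧ (∀ i, IsZero (C.X i) → IsZero (T.X i)) := by
  have hS := subQuot_shortExact C (splitN C c) (splitN_stable C c)
  have hz : IsZero (toD (subCx C (splitN C c) (splitN_stable C c))) :=
    isZero_toD_of_exactAt _ (subCx_splitN_exactAt C c hex)
  have hT := triangleOfSES_distinguished hS
  have hiso : IsIso (Q.map (quotπ C (splitN C c) (splitN_stable C c))) :=
    (Triangle.isZero₁_iff_isIso₂ (triangleOfSES hS) hT).1 hz
  have hzero : ∀ i, i ≤ c → IsZero ((quotCx C (splitN C c) (splitN_stable C c)).X i) := by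
    intro i hi
    have : Subsingleton (C.X i ⧸ splitN C c i) := by
      refine subsingleton_of_forall_eq 0 (fun y => ?_)
      obtain ⟨x, rfl⟩ := Submodule.mkQ_surjective _ y
      exact (Submodule.Quotient.mk_eq_zero _).2
        (by rw [splitN_of_le C c i hi]; exact Submodule.mem_top)
    exact @ModuleCat.isZero_of_subsingleton _ _ (ModuleCat.of A (C.X i ⧸ splitN C c i)) this
  refine ⟨quotCx C (splitN C c) (splitN_stable C c), quotπ C _ _, hiso, hzero, ?_, ?_⟩
  · intro i
    show Module.Flat A (C.X i ⧸ splitN C c i)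
    rcases lt_trichotomy i (c + 1) with hi | hi | hi
    · exact flat_of_isZero _ (hzero i (by omega))
    · subst hi
      exact Module.Flat.of_linearEquiv (Submodule.quotEquivOfEq _ _ (splitN_succ C c))
    · haveI := hflat i
      exact Module.Flat.of_linearEquiv (Submodule.quotEquivOfEqBot _ (splitN_of_gt C c i hi))
  · intro i hi
    haveI : Subsingleton (C.X i) := ModuleCat.subsingleton_of_isZero hi
    have : Subsingleton (C.X i ⧸ splitN C c i) := (Submodule.mkQ_surjective _).subsingleton
    exact @ModuleCat.isZero_of_subsingleton _ _ (ModuleCat.of A (C.X i ⧸ splitN C c i)) this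

/-- Tor amplitude from the vanishing of `H^i(C ⊗ N)`. -/
theorem hasTorAmplitudeIn_of_TN_exact (C : Cx A) (c b : ℤ) (hb : VanishesAbove C b)
    (hflat : TermwiseFlat C) (hex0 : ∀ i, i ≤ c → C.ExactAt i)
    (hex : ∀ N : ModuleCat.{u} A, ((TN N).obj C).ExactAt c) :
    HasTorAmplitudeIn A (c + 1) b (toD C) := by
  have hcoker := flat_coker_of_TN_exact C c (c + 1) rfl (hflat (c + 1)) hex
  obtain ⟨T, π, hπ, hT0, hTf, hTz⟩ := exists_flat_trunc C c hex0 hflat hcoker
  refine ⟨T, ?_, hTf, ⟨(asIso (Q.map π)).symm⟩⟩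
  intro i hi
  rcases hi with hi | hi
  · exact hT0 i (by omega)
  · exact hTz i (hb i hi)

theorem hasTorAmplitudeIn_of_TN_exact' (C : Cx A) (a b : ℤ) (hb : VanishesAbove C b)
    (hflat : TermwiseFlat C) (hex0 : ∀ i, i < a → C.ExactAt i)
    (hex : ∀ N : ModuleCat.{u} A, ((TN N).obj C).ExactAt (a - 1)) :
    HasTorAmplitudeIn A a b (toD C) := by
  have h := hasTorAmplitudeIn_of_TN_exact C (a - 1) b hb hflat (fun i hi => hex0 i (by omega)) hex
  rwa [sub_add_cancel] at h

lemma exactAt_of_isZero_X (C : Cx A) (i : ℤ) (h : IsZero (C.X i)) : C.ExactAt i :=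
  ShortComplex.exact_of_isZero_X₂ _ h

/-- Conversely, a bounded above flat representative of an object of tor amplitude `[a, b]` has
vanishing `H^i(C ⊗ N)` for `i < a`. -/
theorem exactAt_TN_of_hasTorAmplitudeIn (C : Cx A) (b' : ℤ) (hb : VanishesAbove C b')
    (hflat : TermwiseFlat C) (a b : ℤ) (h : HasTorAmplitudeIn A a b (toD C))
    (N : ModuleCat.{u} A) (i : ℤ) (hi : i < a) : ((TN N).obj C).ExactAt i := by
  obtain ⟨E, hE, hEf, ⟨e⟩⟩ := h
  refine exactAt_TN_of_iso C E b' b hb (fun j hj => hE j (Or.inr hj)) hflat hEf e.symm N i ?_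
  exact exactAt_of_isZero_X _ i
    ((MonoidalCategory.tensorRight N).map_isZero (hE i (Or.inl hi)))

end Groth.Agent.Lib.DMod_helper6
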