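import Mathlib
import Groth.Prelude.Def_DRing2
import Groth.Prelude.Def_DDual2
import Groth.Agent.Lib.DMod41_helper6

/-!
# Derived category toolkit (helper6), part 42: tor amplitude — triangles, dévissage on terms
and on cohomology.
-/

set_option autoImplicit false
universe u
open CategoryTheory CategoryTheory.Limits Pretriangulated DerivedCategory ZeroObject
attribute [local instance] HasDerivedCategory.standard

namespace Groth.Agent.Lib.DMod_helper6

open DRing CochainComplex Groth.Agent.Lib.DerivedTrunc_helper2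

variable {A : Type u} [CommRing A]

lemma hasTorAmplitudeIn_of_iso {K L : Dual.D A} (e : K ≅ L) (a b : ℤ)
    (h : HasTorAmplitudeIn A a b K) : HasTorAmplitudeIn A a b L := by
  obtain ⟨E, hE, hEf, ⟨e'⟩⟩ := h
  exact ⟨E, hE, hEf, ⟨e' ≪≫ e⟩⟩

lemma hasTorAmplitudeIn_of_isZero (K : Dual.D A) (hK : IsZero K) (a b : ℤ) :
    HasTorAmplitudeIn A a b K := by
  have hz : IsZero (0 : Cx A) := isZero_zero _
  exact ⟨0, fun i _ => isZero_X_of_isZero hz i,
    fun i => flat_of_isZero _ (isZero_X_of_isZero hz i), ⟨(Q.map_isZero hz).iso hK⟩⟩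

lemma hasTorAmplitudeIn_mono (K : Dual.D A) (a b a' b' : ℤ) (ha : a' ≤ a) (hb : b ≤ b')
    (h : HasTorAmplitudeIn A a b K) : HasTorAmplitudeIn A a' b' K := by
  obtain ⟨E, hE, hEf, he⟩ := h
  exact ⟨E, fun i hi => hE i (by omega), hEf, he⟩

lemma hasTorAmplitudeIn_shift (K : Dual.D A) (a b a' b' n : ℤ) (ha : a' + n = a)
    (hb : b' + n = b) (h : HasTorAmplitudeIn A a b K) : HasTorAmplitudeIn A a' b' (K⟦n⟧) := by
  obtain ⟨E, hE, hEf, ⟨e⟩⟩ := h
  exact ⟨E⟦n⟧, fun i hi => hE (i + n) (by omega), fun i => hEf (i + n),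
    ⟨(Q.commShiftIso n).app E ≪≫ (CategoryTheory.shiftFunctor (Dual.D A) n).mapIso e⟩⟩

lemma exactAt_of_iso_toD (C C' : Cx A) (e : toD C ≅ toD C') (i : ℤ) (h : C'.ExactAt i) :
    C.ExactAt i := by
  rw [HomologicalComplex.exactAt_iff_isZero_homology] at h ⊢
  exact IsZero.of_iso h (((homologyFunctorFactors (ModuleCat.{u} A) i).app _).symm ≪≫
    (DerivedCategory.homologyFunctor _ i).mapIso e ≪≫
    (homologyFunctorFactors (ModuleCat.{u} A) i).app _)

lemma isZero_homology_toD_of_exactAt (C : Cx A) (i : ℤ) (h : C.ExactAt i) :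
    IsZero ((DerivedCategory.homologyFunctor (ModuleCat.{u} A) i).obj (toD C)) := by
  rw [HomologicalComplex.exactAt_iff_isZero_homology] at h
  exact IsZero.of_iso h ((homologyFunctorFactors (ModuleCat.{u} A) i).app C)

lemma exactAt_cone {P F : Cx A} (g : P ⟶ F) (i : ℤ) (h1 : F.ExactAt i)
    (h2 : P.ExactAt (i + 1)) : (mappingCone g).ExactAt i := by
  apply exactAt_of_isZero_homology_toD
  have hT := mappingCone_triangle_distinguished g
  have z1 := isZero_homology_toD_of_exactAt F i h1
  have z2 := isZero_homology_toD_of_exactAt P (i + 1) h2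
  exact (HomologySequence.exact₃ _ hT i (i + 1) rfl).isZero_of_both_zeros
    (z1.eq_of_src _ _) (z2.eq_of_tgt _ _)

lemma exactAt_TN_cone {P F : Cx A} (g : P ⟶ F) (N : ModuleCat.{u} A) (i : ℤ)
    (h1 : ((TN N).obj F).ExactAt i) (h2 : ((TN N).obj P).ExactAt (i + 1)) :
    ((TN N).obj (mappingCone g)).ExactAt i :=
  HomologicalComplex.ExactAt.of_iso (exactAt_cone ((TN N).map g) i h1 h2)
    (mappingCone.mapHomologicalComplexIso g (MonoidalCategory.tensorRight N)).symm

lemma isZero_TN_X (N : ModuleCat.{u} A) (C : Cx A) (i : ℤ) (h : IsZero (C.X i)) :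
    IsZero (((TN N).obj C).X i) :=
  (MonoidalCategory.tensorRight N).map_isZero h

/-- Tor amplitude of the cone. -/
theorem hasTorAmplitudeIn_cone (T : Triangle (Dual.D A)) (hT : T ∈ distTriang _) (a b : ℤ)
    (h1 : HasTorAmplitudeIn A (a + 1) (b + 1) T.obj₁) (h2 : HasTorAmplitudeIn A a b T.obj₂) :
    HasTorAmplitudeIn A a b T.obj₃ := by
  obtain ⟨E, hE, hEf, ⟨eE⟩⟩ := h1
  obtain ⟨F, hF, hFf, ⟨eF⟩⟩ := h2
  have hEb : VanishesAbove E (b + 1) := fun j hj => hE j (Or.inr hj)
  have hFb : VanishesAbove F b := fun j hj => hF j (Or.inr hj)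
  haveI : DerivedCategory.IsLE (toD E) (b + 1) := isLE_toD_of_vanishesAbove E (b + 1) hEb
  obtain ⟨P, hPfree, hPb, ⟨eP⟩⟩ := exists_free_resolution (toD E) (b + 1)
  haveI : P.IsKProjective := isKProjective_of_projective_bounded P (b + 1) hPb
    (fun i => by haveI := hPfree i; infer_instance)
  have hPf : TermwiseFlat P := fun i => by haveI := hPfree i; infer_instance
  obtain ⟨g, ⟨eZ⟩⟩ := exists_cone_iso hT (E := P) (F := F) (eP ≪≫ eE) eF
    (exists_Q_map_eq_of_isKProjective _)
  have hWb : VanishesAbove (mappingCone g) b := fun i hi =>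
    IsZero.of_iso (isZero_biprod (hPb (i + 1) (by omega)) (hFb i hi)) (coneXIso g i)
  have hWf : TermwiseFlat (mappingCone g) := fun i => by
    haveI : Module.Flat A (P.X (i + 1) ⊞ F.X i : ModuleCat.{u} A) :=
      flat_biprod (hPf (i + 1)) (hFf i)
    exact Module.Flat.of_linearEquiv (coneXIso g i).toLinearEquiv
  have hex0 : ∀ i, i < a → (mappingCone g).ExactAt i := fun i hi =>
    exactAt_cone g i (exactAt_of_isZero_X F i (hF i (Or.inl hi)))
      (exactAt_of_iso_toD P E eP (i + 1)
        (exactAt_of_isZero_X E (i + 1) (hE (i + 1) (Or.inl (by omega)))))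
  have hTN : ∀ (N : ModuleCat.{u} A) (i : ℤ), i < a →
      ((TN N).obj (mappingCone g)).ExactAt i := fun N i hi =>
    exactAt_TN_cone g N i
      (exactAt_of_isZero_X _ i (isZero_TN_X N F i (hF i (Or.inl hi))))
      (exactAt_TN_of_iso P E (b + 1) (b + 1) hPb hEb hPf hEf eP N (i + 1)
        (exactAt_of_isZero_X _ (i + 1)
          (isZero_TN_X N E (i + 1) (hE (i + 1) (Or.inl (by omega))))))
  exact hasTorAmplitudeIn_of_iso eZ a b
    (hasTorAmplitudeIn_of_TN_exact' (mappingCone g) a b hWb hWf hex0
      (fun N => hTN N (a - 1) (by omega)))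

/-- two-out-of-three for tor amplitude -/
theorem hasTorAmplitudeIn_two_of_three (T : Triangle (Dual.D A)) (hT : T ∈ distTriang _)
    (a b : ℤ) :
    (HasTorAmplitudeIn A (a + 1) (b + 1) T.obj₁ → HasTorAmplitudeIn A a b T.obj₂ →
        HasTorAmplitudeIn A a b T.obj₃) ∧
      (HasTorAmplitudeIn A a b T.obj₁ → HasTorAmplitudeIn A a b T.obj₃ →
        HasTorAmplitudeIn A a b T.obj₂) ∧
      (HasTorAmplitudeIn A (a + 1) (b + 1) T.obj₂ → HasTorAmplitudeIn A a b T.obj₃ →
        HasTorAmplitudeIn A (a + 1) (b + 1) T.obj₁) := by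
  refine ⟨hasTorAmplitudeIn_cone T hT a b, fun h1 h3 => ?_, fun h2 h3 => ?_⟩
  · exact hasTorAmplitudeIn_cone T.invRotate (inv_rot_of_distTriang _ hT) a b
      (hasTorAmplitudeIn_shift _ a b (a + 1) (b + 1) (-1) (by omega) (by omega) h3) h1
  · have h := hasTorAmplitudeIn_cone T.rotate (rot_of_distTriang _ hT) a b h2 h3
    have h' := hasTorAmplitudeIn_shift _ a b (a + 1) (b + 1) (-1) (by omega) (by omega) h
    exact hasTorAmplitudeIn_of_iso
      ((shiftFunctorCompIsoId (Dual.D A) (1 : ℤ) (-1) (by omega)).app T.obj₁) _ _ h'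

/-- An abstract "amplitude-like" family of properties of objects of `D(A)`. -/
structure AmpFamily (A : Type u) [CommRing A] where
  P : ℤ → Dual.D A → Prop
  of_iso : ∀ (m : ℤ) {K L : Dual.D A}, (K ≅ L) → P m K → P m L
  of_isZero : ∀ (m : ℤ) (K : Dual.D A), IsZero K → P m K
  shift : ∀ (m m' n : ℤ), m' + n = m → ∀ K : Dual.D A, P m K → P m' (K⟦n⟧)
  ext : ∀ (m : ℤ) (T : Triangle (Dual.D A)), T ∈ distTriang _ → P m T.obj₁ → P m T.obj₃ →
    P m T.obj₂

namespace AmpFamily

variable (Fm : AmpFamily A)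

lemma single (Y : ModuleCat.{u} A) (n m₀ m : ℤ) (h : m = m₀ + n)
    (hY : Fm.P m₀ ((DerivedCategory.singleFunctor _ 0).obj Y)) :
    Fm.P m ((DerivedCategory.singleFunctor _ n).obj Y) := by
  have := Fm.shift m₀ m (-n) (by omega) _ hY
  exact Fm.of_iso m (((DerivedCategory.singleFunctors (ModuleCat.{u} A)).shiftIso (-n) n 0 (by omega)).app Y) this

/-- Degree-tracking dévissage on the terms of a bounded complex. -/
theorem devissage_termwise (m : ℤ) (n : ℕ) :
    ∀ (a : ℤ) (K : Cx A), (∀ i : ℤ, (i < a ∨ a + n ≤ i) → IsZero (K.X i)) →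
      (∀ i : ℤ, Fm.P (m - i) ((DerivedCategory.singleFunctor _ 0).obj (K.X i))) →
      Fm.P m (toD K) := by
  induction n with
  | zero =>
    intro a K hK _
    have : IsZero K := isZero_of_forall_isZero_X (fun i => hK i (by omega))
    exact Fm.of_isZero m _ (Q.map_isZero this)
  | succ n ih =>
    intro a K hK h𝒮
    let f : K ⟶ (HomologicalComplex.single _ (ComplexShape.up ℤ) a).obj (K.X a) :=
      HomologicalComplex.mkHomToSingle (𝟙 _)
        (fun i hi => (hK i (by simp at hi; omega)).eq_of_src _ _)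
    have hfa : IsIso (f.f a) := by
      rw [HomologicalComplex.mkHomToSingle_f]
      infer_instance
    have htgt : ∀ i, i ≠ a →
        IsZero (((HomologicalComplex.single (ModuleCat.{u} A) (ComplexShape.up ℤ) a).obj
          (K.X a)).X i) :=
      fun i hi => HomologicalComplex.isZero_single_obj_X _ a _ i hi
    haveI : Epi f := by
      refine HomologicalComplex.epi_of_epi_f f (fun i => ?_)
      by_cases h : i = a
      · subst h; infer_instance
      · exact ⟨fun g h' _ => (htgt i h).eq_of_src g h'⟩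
    have hS : (ShortComplex.kernelSequence f).ShortExact :=
      ShortComplex.ShortExact.mk' (ShortComplex.kernelSequence_exact f) inferInstance
        (by show Epi f; infer_instance)
    let e : ∀ i, (kernel f).X i ≅ kernel (f.f i) := fun i =>
      PreservesKernel.iso (HomologicalComplex.eval _ _ i) f
    have hker_zero : ∀ i, IsZero (K.X i) → IsZero ((kernel f).X i) := fun i hi =>
      IsZero.of_iso (IsZero.of_mono (kernel.ι (f.f i)) hi) (e i)
    have hker_a : IsZero ((kernel f).X a) :=
      IsZero.of_iso (isZero_kernel_of_mono (f.f a)) (e a)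
    have hker_iso : ∀ i, i ≠ a → Nonempty ((kernel f).X i ≅ K.X i) := fun i hi => by
      have h0 : f.f i = 0 := (htgt i hi).eq_of_tgt _ _
      refine ⟨e i ≪≫ ?_⟩
      rw [h0]
      exact asIso (kernel.ι (0 : K.X i ⟶ _))
    have h1 : Fm.P m (toD (kernel f)) := by
      refine ih (a + 1) (kernel f) (fun i hi => ?_) (fun i => ?_)
      · by_cases h : i = a
        · subst h; exact hker_a
        · exact hker_zero i (hK i (by push_cast; omega))
      · by_cases h : i = a
        · subst h
          exact Fm.of_isZero _ _ ((DerivedCategory.singleFunctor _ 0).map_isZero hker_a)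
        · obtain ⟨e'⟩ := hker_iso i h
          exact Fm.of_iso (m - i)
            ((DerivedCategory.singleFunctor _ 0).mapIso e'.symm) (h𝒮 i)
    have h3 : Fm.P m
        (toD ((HomologicalComplex.single _ (ComplexShape.up ℤ) a).obj (K.X a))) :=
      Fm.of_iso m ((singleFunctorIsoCompQ _ a).app (K.X a))
        (Fm.single (K.X a) a (m - a) m (by omega) (h𝒮 a))
    exact Fm.ext m _ (triangleOfSES_distinguished hS) h1 h3

/-- Degree-tracking dévissage on the cohomology of an object with bounded cohomology. -/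
theorem devissage_homology (m : ℤ) (n : ℕ) : ∀ (K : Dual.D A) (c : ℤ),
    DerivedCategory.IsGE K c → DerivedCategory.IsLE K (c + n - 1) →
    (∀ i : ℤ, Fm.P (m - i) ((DerivedCategory.singleFunctor _ 0).obj
        ((DerivedCategory.homologyFunctor (ModuleCat.{u} A) i).obj K))) →
    Fm.P m K := by
  induction n with
  | zero =>
    intro K c hge hle _
    haveI := hge
    haveI := hle
    exact Fm.of_isZero m K (TStructure.t.isZero K (c + (0 : ℕ) - 1) c (by push_cast; omega))
  | succ n ih =>
    intro K c hge hle hpc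
    haveI := hge
    haveI := hle
    obtain ⟨a, ha⟩ : ∃ a : ℤ, a = c + n := ⟨_, rfl⟩
    haveI : DerivedCategory.IsLE K a :=
      TStructure.t.isLE_of_le K (c + (n + 1 : ℕ) - 1) a (by push_cast; omega)
    have hT := (tt (ModuleCat.{u} A)).triangleLEGT_distinguished (a - 1) K
    have h1 : Fm.P m (((tt (ModuleCat.{u} A)).truncLE (a - 1)).obj K) := by
      refine ih _ c ?_ ?_ (fun i => ?_)
      · rw [DerivedCategory.isGE_iff]
        intro i hi
        by_cases hi' : i ≤ a - 1
        · haveI := isIso_homology_map_truncLEι K (a - 1) i hi'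
          exact IsZero.of_iso (DerivedCategory.isZero_of_isGE K c i hi)
            (asIso ((DerivedCategory.homologyFunctor _ i).map
              (((tt _).truncLEι (a - 1)).app K)))
        · exact isZero_homology_truncLE K (a - 1) i (by omega)
      · exact TStructure.t.isLE_of_le _ (a - 1) (c + n - 1) (by omega)
      · by_cases hi' : i ≤ a - 1
        · haveI := isIso_homology_map_truncLEι K (a - 1) i hi'
          exact Fm.of_iso (m - i) ((DerivedCategory.singleFunctor _ 0).mapIso
            (asIso ((DerivedCategory.homologyFunctor _ i).map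
              (((tt _).truncLEι (a - 1)).app K))).symm) (hpc i)
        · have hz : IsZero ((DerivedCategory.homologyFunctor (ModuleCat.{u} A) i).obj
              (((tt (ModuleCat.{u} A)).truncLE (a - 1)).obj K)) :=
            isZero_homology_truncLE K (a - 1) i (by omega)
          exact Fm.of_isZero (m - i) _ ((DerivedCategory.singleFunctor _ 0).map_isZero hz)
    haveI : DerivedCategory.IsGE (((tt (ModuleCat.{u} A)).truncGT (a - 1)).obj K) a := by
      have h : DerivedCategory.IsGE (((tt (ModuleCat.{u} A)).truncGT (a - 1)).obj K)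
          (a - 1 + 1) := inferInstance
      rwa [sub_add_cancel] at h
    haveI : DerivedCategory.IsLE (((tt (ModuleCat.{u} A)).truncGT (a - 1)).obj K) a :=
      isLE_truncGT_of_isLE K (a - 1) a (by omega)
    obtain ⟨e⟩ := exists_iso_single_homology (((tt (ModuleCat.{u} A)).truncGT (a - 1)).obj K) a
    haveI := isIso_homology_map_truncGTπ K (a - 1) a (by omega)
    have h3 : Fm.P m (((tt (ModuleCat.{u} A)).truncGT (a - 1)).obj K) := by
      refine Fm.of_iso m e.symm (Fm.single _ a (m - a) m (by omega) ?_)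
      exact Fm.of_iso (m - a) ((DerivedCategory.singleFunctor _ 0).mapIso
        (asIso ((DerivedCategory.homologyFunctor _ a).map
          (((tt _).truncGTπ (a - 1)).app K)))) (hpc a)
    exact Fm.ext m _ hT h1 h3

end AmpFamily

/-- The tor amplitude family `m ↦ [a + m, b + m]`. -/
def torFam (A : Type u) [CommRing A] (a b : ℤ) : AmpFamily A where
  P m K := HasTorAmplitudeIn A (a + m) (b + m) K
  of_iso m _ _ e h := hasTorAmplitudeIn_of_iso e _ _ h
  of_isZero m K hK := hasTorAmplitudeIn_of_isZero K hK _ _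
  shift m m' n h K hK := hasTorAmplitudeIn_shift K (a + m) (b + m) (a + m') (b + m') n
    (by omega) (by omega) hK
  ext m T hT h1 h3 := (hasTorAmplitudeIn_two_of_three T hT (a + m) (b + m)).2.1 h1 h3

end Groth.Agent.Lib.DMod_helper6
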