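import Mathlib
import Groth.Prelude.Def_DRing2
import Groth.Prelude.Def_DDual2
import Groth.Agent.Lib.DMod42_helper6

/-!
# Derived category toolkit (helper6), part 43: tor amplitude — perfect complexes, direct
summands.
-/

set_option autoImplicit false
universe u
open CategoryTheory CategoryTheory.Limits Pretriangulated DerivedCategory ZeroObject
attribute [local instance] HasDerivedCategory.standard

namespace Groth.Agent.Lib.DMod_helper6

open DRing CochainComplex Groth.Agent.Lib.DerivedTrunc_helper2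

variable {A : Type u} [CommRing A]

/-- canonical truncation `τ_{≥ c+1}` with an explicit description of its terms -/
theorem exists_trunc_desc (C : Cx A) (c : ℤ) (hex : ∀ i, i ≤ c → C.ExactAt i) :
    ∃ (T : Cx A) (π : C ⟶ T), IsIso (Q.map π) ∧ (∀ i, i ≤ c → IsZero (T.X i)) ∧
      (∀ i, c + 1 < i → Nonempty (T.X i ≅ C.X i)) ∧
      Nonempty (T.X (c + 1) ≅
        ModuleCat.of A (C.X (c + 1) ⧸ LinearMap.range (C.d c (c + 1)).hom)) := by
  have hS := subQuot_shortExact C (splitN C c) (splitN_stable C c)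
  have hz : IsZero (toD (subCx C (splitN C c) (splitN_stable C c))) :=
    isZero_toD_of_exactAt _ (subCx_splitN_exactAt C c hex)
  have hT := triangleOfSES_distinguished hS
  have hiso : IsIso (Q.map (quotπ C (splitN C c) (splitN_stable C c))) :=
    (Triangle.isZero₁_iff_isIso₂ (triangleOfSES hS) hT).1 hz
  refine ⟨quotCx C (splitN C c) (splitN_stable C c), quotπ C _ _, hiso, ?_, ?_, ?_⟩
  · intro i hi
    have : Subsingleton (C.X i ⧸ splitN C c i) := by
      refine subsingleton_of_forall_eq 0 (fun y => ?_)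
      obtain ⟨x, rfl⟩ := Submodule.mkQ_surjective _ y
      exact (Submodule.Quotient.mk_eq_zero _).2
        (by rw [splitN_of_le C c i hi]; exact Submodule.mem_top)
    exact @ModuleCat.isZero_of_subsingleton _ _ (ModuleCat.of A (C.X i ⧸ splitN C c i)) this
  · intro i hi
    exact ⟨(Submodule.quotEquivOfEqBot _ (splitN_of_gt C c i hi)).toModuleIso⟩
  · exact ⟨(Submodule.quotEquivOfEq _ _ (splitN_succ C c)).toModuleIso⟩

/-- A pseudo-coherent object of tor amplitude `[a, b]` is represented by a complex of finite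
projective modules vanishing below `a` (and bounded above). -/
theorem exists_finite_projective_of_pc_of_torAmp (K : Dual.D A) (hpc : IsPseudoCoherent' A K)
    (a b : ℤ) (h : HasTorAmplitudeIn A a b K) :
    ∃ (T : Cx A) (b₁ : ℤ), VanishesOutside T a b₁ ∧ TermwiseFiniteProjective T ∧
      Nonempty (toD T ≅ K) := by
  obtain ⟨E, b₁, hEb, hEff, ⟨eE⟩⟩ := hpc
  have hEf : TermwiseFlat E := fun i => by haveI := (hEff i).2; infer_instance
  have hamp : HasTorAmplitudeIn A a b (toD E) := hasTorAmplitudeIn_of_iso eE.symm a b h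
  obtain ⟨F, hF, hFf, ⟨eF⟩⟩ := hamp
  have hex0 : ∀ i, i ≤ a - 1 → E.ExactAt i := fun i hi =>
    exactAt_of_iso_toD E F eF.symm i (exactAt_of_isZero_X F i (hF i (Or.inl (by omega))))
  have hcoker : Module.Flat A
      (E.X (a - 1 + 1) ⧸ LinearMap.range (E.d (a - 1) (a - 1 + 1)).hom) :=
    flat_coker_of_TN_exact E (a - 1) (a - 1 + 1) rfl (hEf _)
      (fun N => exactAt_TN_of_hasTorAmplitudeIn E b₁ hEb hEf a b ⟨F, hF, hFf, ⟨eF⟩⟩ N (a - 1)
        (by omega))
  obtain ⟨T, π, hπ, hT0, hTiso, ⟨eT⟩⟩ := exists_trunc_desc E (a - 1) hex0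
  have hTa : Module.Finite A (T.X (a - 1 + 1)) ∧ Module.Projective A (T.X (a - 1 + 1)) := by
    haveI := (hEff (a - 1 + 1)).1
    haveI := (hEff (a - 1 + 1)).2
    haveI := (hEff (a - 1)).1
    let q : E.X (a - 1 + 1) →ₗ[A]
        (E.X (a - 1 + 1) ⧸ LinearMap.range (E.d (a - 1) (a - 1 + 1)).hom) :=
      (LinearMap.range (E.d (a - 1) (a - 1 + 1)).hom).mkQ
    haveI : Module.FinitePresentation A (E.X (a - 1 + 1)) :=
      Module.finitePresentation_of_projective A _
    have hfp : Module.FinitePresentation A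
        (E.X (a - 1 + 1) ⧸ LinearMap.range (E.d (a - 1) (a - 1 + 1)).hom) := by
      refine Module.finitePresentation_of_surjective q (Submodule.mkQ_surjective _) ?_
      rw [Submodule.ker_mkQ, LinearMap.range_eq_map]
      exact (Module.Finite.fg_top).map _
    haveI := hfp
    haveI := hcoker
    have hproj : Module.Projective A
        (E.X (a - 1 + 1) ⧸ LinearMap.range (E.d (a - 1) (a - 1 + 1)).hom) :=
      Module.Flat.projective_of_finitePresentation
    have hfin : Module.Finite A
        (E.X (a - 1 + 1) ⧸ LinearMap.range (E.d (a - 1) (a - 1 + 1)).hom) :=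
      Module.Finite.of_surjective q (Submodule.mkQ_surjective _)
    exact ⟨finite_of_iso eT.symm hfin, projective_of_iso eT.symm hproj⟩
  refine ⟨T, b₁, ?_, ?_, ⟨(asIso (Q.map π)).symm ≪≫ eE⟩⟩
  · intro i hi
    rcases hi with hi | hi
    · exact hT0 i (by omega)
    · rcases lt_trichotomy i (a - 1 + 1) with h1 | h1 | h1
      · exact hT0 i (by omega)
      · subst h1
        haveI : Subsingleton (E.X (a - 1 + 1)) := ModuleCat.subsingleton_of_isZero (hEb _ hi)
        have : Subsingleton
            (E.X (a - 1 + 1) ⧸ LinearMap.range (E.d (a - 1) (a - 1 + 1)).hom) :=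
          (Submodule.mkQ_surjective _).subsingleton
        exact IsZero.of_iso (@ModuleCat.isZero_of_subsingleton _ _ (ModuleCat.of A
          (E.X (a - 1 + 1) ⧸ LinearMap.range (E.d (a - 1) (a - 1 + 1)).hom)) this) eT
      · obtain ⟨e'⟩ := hTiso i h1
        exact IsZero.of_iso (hEb i hi) e'
  · intro i
    rcases lt_trichotomy i (a - 1 + 1) with h1 | h1 | h1
    · haveI : Subsingleton (T.X i) := ModuleCat.subsingleton_of_isZero (hT0 i (by omega))
      exact ⟨inferInstance, inferInstance⟩
    · subst h1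
      exact hTa
    · obtain ⟨e'⟩ := hTiso i h1
      haveI := (hEff i).2
      exact ⟨finite_of_iso e'.symm (hEff i).1, projective_of_iso e'.symm inferInstance⟩

/-- perfect = pseudo-coherent + finite tor dimension -/
theorem isPerfect_iff_pc_and_finiteTorDim (K : Dual.D A) :
    IsPerfect A K ↔ IsPseudoCoherent' A K ∧ HasFiniteTorDimCx A K := by
  constructor
  · intro h
    refine ⟨isPseudoCoherent'_of_isPerfect K h, ?_⟩
    obtain ⟨E, a, b, h1, h2, he⟩ := h
    exact ⟨a, b, E, h1, fun i => by haveI := (h2 i).2; infer_instance, he⟩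
  · rintro ⟨hpc, a, b, hamp⟩
    obtain ⟨T, b₁, hT, hTfp, he⟩ := exists_finite_projective_of_pc_of_torAmp K hpc a b hamp
    exact ⟨T, a, b₁, hT, hTfp, he⟩

lemma subsingleton_HD_of_hasTorAmplitudeIn (K : Dual.D A) (a b : ℤ)
    (h : HasTorAmplitudeIn A a b K) (n : ℤ) (hn : n < a ∨ b < n) :
    Subsingleton (Dual.HD A K n) := by
  obtain ⟨F, hF, _, ⟨eF⟩⟩ := h
  have hz : IsZero ((DerivedCategory.homologyFunctor (ModuleCat.{u} A) n).obj K) :=
    IsZero.of_iso (isZero_homology_toD_of_exactAt F n (exactAt_of_isZero_X F n (hF n hn)))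
      ((DerivedCategory.homologyFunctor _ n).mapIso eF.symm)
  exact ModuleCat.subsingleton_of_isZero hz

/-- projective amplitude of a pseudo-coherent object -/
theorem projAmp_iff_perfect_and_torAmp (K : Dual.D A) (hK : IsPseudoCoherent' A K) (a b : ℤ) :
    (∃ P : Cx A, VanishesOutside P a b ∧ (∀ i : ℤ, Module.Projective A (P.X i)) ∧
        Nonempty (toD P ≅ K)) ↔ IsPerfect A K ∧ HasTorAmplitudeIn A a b K := by
  constructor
  · rintro ⟨P, hP, hproj, he⟩
    have hamp : HasTorAmplitudeIn A a b K :=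
      ⟨P, hP, fun i => by haveI := hproj i; infer_instance, he⟩
    exact ⟨(isPerfect_iff_pc_and_finiteTorDim K).2 ⟨hK, a, b, hamp⟩, hamp⟩
  · rintro ⟨_, hamp⟩
    obtain ⟨T, b₁, hT, hTfp, ⟨e⟩⟩ := exists_finite_projective_of_pc_of_torAmp K hK a b hamp
    refine projAmp_of_hom_vanishing K a b
      (fun n hn => subsingleton_HD_of_hasTorAmplitudeIn K a b hamp n (by omega)) (fun M => ?_)
    exact hom_subsingleton_of_projAmp T a b₁ hT (fun i => (hTfp i).2) K e M (-a + 1)
      (Or.inr (by omega))

section Retract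

lemma exactAt_of_retract {P B : Cx A} (i : P ⟶ B) (p : B ⟶ P) (hip : i ≫ p = 𝟙 P) (n : ℤ)
    (hB : B.ExactAt n) : P.ExactAt n := by
  rw [HomologicalComplex.exactAt_iff_isZero_homology] at hB ⊢
  rw [IsZero.iff_id_eq_zero]
  have h1 : HomologicalComplex.homologyMap i n ≫ HomologicalComplex.homologyMap p n =
      𝟙 (P.homology n) := by
    rw [← HomologicalComplex.homologyMap_comp, hip, HomologicalComplex.homologyMap_id]
  rw [← h1, hB.eq_of_tgt (HomologicalComplex.homologyMap i n) 0, zero_comp]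

lemma isLE_of_retract {K X : Dual.D A} (i : K ⟶ X) (p : X ⟶ K) (hip : i ≫ p = 𝟙 K) (b : ℤ)
    [DerivedCategory.IsLE X b] : DerivedCategory.IsLE K b := by
  rw [DerivedCategory.isLE_iff]
  intro n hn
  rw [IsZero.iff_id_eq_zero]
  have hz := DerivedCategory.isZero_of_isLE X b n hn
  have h1 : (DerivedCategory.homologyFunctor (ModuleCat.{u} A) n).map i ≫
      (DerivedCategory.homologyFunctor (ModuleCat.{u} A) n).map p = 𝟙 _ := by
    rw [← Functor.map_comp, hip, CategoryTheory.Functor.map_id]
  rw [← h1, hz.eq_of_tgt ((DerivedCategory.homologyFunctor (ModuleCat.{u} A) n).map i) 0,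
    zero_comp]

/-- Tor amplitude passes to direct summands. -/
theorem hasTorAmplitudeIn_of_biprod_left (K L : Dual.D A) [HasBinaryBiproduct K L] (a b : ℤ)
    (h : HasTorAmplitudeIn A a b (K ⊞ L)) : HasTorAmplitudeIn A a b K := by
  obtain ⟨E, hE, hEf, ⟨e⟩⟩ := h
  have hEb : VanishesAbove E b := fun j hj => hE j (Or.inr hj)
  haveI : DerivedCategory.IsLE (toD E) b := isLE_toD_of_vanishesAbove E b hEb
  haveI : DerivedCategory.IsLE (K ⊞ L) b := TStructure.t.isLE_of_iso e b
  haveI : DerivedCategory.IsLE K b :=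
    isLE_of_retract (biprod.inl : K ⟶ K ⊞ L) biprod.fst biprod.inl_fst b
  haveI : DerivedCategory.IsLE L b :=
    isLE_of_retract (biprod.inr : L ⟶ K ⊞ L) biprod.snd biprod.inr_snd b
  obtain ⟨P, hPfree, hPb, ⟨eP⟩⟩ := exists_free_resolution K b
  obtain ⟨PL, hPLfree, hPLb, ⟨ePL⟩⟩ := exists_free_resolution L b
  have hPf : TermwiseFlat P := fun i => by haveI := hPfree i; infer_instance
  have hPLf : TermwiseFlat PL := fun i => by haveI := hPLfree i; infer_instance
  haveI : PreservesBinaryBiproducts (Q : Cx A ⥤ Dual.D A) :=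
    preservesBinaryBiproducts_of_preservesBiproducts Q
  let B : Cx A := P ⊞ PL
  have eB : toD B ≅ toD E :=
    Functor.mapBiprod Q P PL ≪≫ biprod.mapIso eP ePL ≪≫ e.symm
  have hBb : VanishesAbove B b := fun i hi =>
    IsZero.of_iso (isZero_biprod (hPb i hi) (hPLb i hi)) (HomologicalComplex.biprodXIso P PL i)
  have hBf : TermwiseFlat B := fun i => by
    haveI : Module.Flat A (P.X i ⊞ PL.X i : ModuleCat.{u} A) := flat_biprod (hPf i) (hPLf i)
    exact Module.Flat.of_linearEquiv (HomologicalComplex.biprodXIso P PL i).toLinearEquiv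
  have hex0 : ∀ i, i < a → P.ExactAt i := fun i hi =>
    exactAt_of_retract (biprod.inl : P ⟶ B) biprod.fst biprod.inl_fst i
      (exactAt_of_iso_toD B E eB i (exactAt_of_isZero_X E i (hE i (Or.inl hi))))
  have hexN : ∀ (N : ModuleCat.{u} A) (i : ℤ), i < a → ((TN N).obj P).ExactAt i :=
    fun N i hi =>
      exactAt_of_retract ((TN N).map (biprod.inl : P ⟶ B)) ((TN N).map biprod.fst)
        (by rw [← Functor.map_comp, biprod.inl_fst, CategoryTheory.Functor.map_id]) i
        (exactAt_TN_of_iso B E b b hBb hEb hBf hEf eB N i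
          (exactAt_of_isZero_X _ i (isZero_TN_X N E i (hE i (Or.inl hi)))))
  exact hasTorAmplitudeIn_of_iso eP a b
    (hasTorAmplitudeIn_of_TN_exact' P a b hPb hPf hex0 (fun N => hexN N (a - 1) (by omega)))

theorem hasTorAmplitudeIn_of_biprod_right (K L : Dual.D A) [HasBinaryBiproduct K L] (a b : ℤ)
    (h : HasTorAmplitudeIn A a b (K ⊞ L)) : HasTorAmplitudeIn A a b L := by
  haveI : HasBinaryBiproduct L K := inferInstance
  exact hasTorAmplitudeIn_of_biprod_left L K a b
    (hasTorAmplitudeIn_of_iso (biprod.braiding K L) a b h)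

end Retract

end Groth.Agent.Lib.DMod_helper6
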