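import Mathlib
import Groth.Prelude.Def_DRing2
import Groth.Prelude.Def_DDual2
import Groth.Agent.Lib.DMod43_helper6

/-!
# Derived category toolkit (helper6), part 44: tor amplitude over rings of finite global
dimension.
-/

set_option autoImplicit false
universe u
open CategoryTheory CategoryTheory.Limits Pretriangulated DerivedCategory ZeroObject
attribute [local instance] HasDerivedCategory.standard

namespace Groth.Agent.Lib.DMod_helper6

open DRing CochainComplex Groth.Agent.Lib.DerivedTrunc_helper2

variable {A : Type u} [CommRing A]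

theorem hasTorAmplitudeIn_inD_of_projDim (d : ℕ) (M : ModuleCat.{u} A)
    [HasProjectiveDimensionLT M (d + 1)] :
    HasTorAmplitudeIn A (-(d : ℤ)) 0 ((DerivedCategory.singleFunctor _ 0).obj M) := by
  letI := HasExt.standard (ModuleCat.{u} A)
  have h2 : ∀ N : ModuleCat.{u} A, Subsingleton
      ((DerivedCategory.singleFunctor (ModuleCat.{u} A) 0).obj M ⟶
        (Dual.inD A N)⟦-(-(d : ℤ)) + 1⟧) := by
    intro N
    haveI : Subsingleton (Abelian.Ext M N (d + 1)) :=
      HasProjectiveDimensionLT.subsingleton M (d + 1) (d + 1) le_rfl N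
    have hs : Subsingleton (ShiftedHom ((DerivedCategory.singleFunctor _ 0).obj M)
        ((DerivedCategory.singleFunctor _ 0).obj N) ((d + 1 : ℕ) : ℤ)) :=
      Abelian.Ext.homEquiv.symm.subsingleton
    have e : (-(-(d : ℤ)) + 1) = ((d + 1 : ℕ) : ℤ) := by push_cast; ring
    rw [e]
    exact hs
  obtain ⟨P, hP, hproj, he⟩ := projAmp_of_hom_vanishing
    ((DerivedCategory.singleFunctor (ModuleCat.{u} A) 0).obj M) (-(d : ℤ)) 0
    (fun n hn => ModuleCat.subsingleton_of_isZero (isZero_HD_inD M n (by omega))) h2
  exact ⟨P, hP, fun i => by haveI := hproj i; infer_instance, he⟩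

theorem hasTorAmplitudeIn_of_globalDim (d : ℕ)
    (hgl : ∀ M : ModuleCat.{u} A, HasProjectiveDimensionLT M (d + 1)) (K : Dual.D A) (a b : ℤ)
    (hK : ∀ i : ℤ, (i < a ∨ b < i) → Subsingleton (Dual.HD A K i)) :
    HasTorAmplitudeIn A (a - d) b K := by
  have hge : DerivedCategory.IsGE K a := by
    rw [DerivedCategory.isGE_iff]
    intro i hi
    haveI := hK i (Or.inl hi)
    exact ModuleCat.isZero_of_subsingleton _
  have hle : DerivedCategory.IsLE K (a + ((b + 1 - a).toNat : ℤ) - 1) := by
    rw [DerivedCategory.isLE_iff]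
    intro i hi
    haveI := hK i (Or.inr (by omega))
    exact ModuleCat.isZero_of_subsingleton _
  have h := (torFam A (a - d) b).devissage_homology 0 (b + 1 - a).toNat K a hge hle (fun i => ?_)
  · have h' : HasTorAmplitudeIn A (a - d + 0) (b + 0) K := h
    rwa [add_zero, add_zero] at h'
  · show HasTorAmplitudeIn A (a - d + (0 - i)) (b + (0 - i)) _
    by_cases hi : a ≤ i ∧ i ≤ b
    · haveI := hgl ((DerivedCategory.homologyFunctor (ModuleCat.{u} A) i).obj K)
      exact hasTorAmplitudeIn_mono _ (-(d : ℤ)) 0 _ _ (by omega) (by omega)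
        (hasTorAmplitudeIn_inD_of_projDim d _)
    · haveI := hK i (by omega)
      exact hasTorAmplitudeIn_of_isZero _
        ((DerivedCategory.singleFunctor _ 0).map_isZero
          (ModuleCat.isZero_of_subsingleton _)) _ _

end Groth.Agent.Lib.DMod_helper6
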