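import Mathlib

/-!
# The counit of a left derived functor at an object with `W`-local corepresentable functor

Let `L : C ⥤ D` be a localization functor for `W`, `F : C ⥤ H` and `(LF, α)` a left derived functor
(an arbitrary, not necessarily pointwise, right Kan extension).  If `P : C` is such that
`Hom_C(P, -)` inverts `W`, and `Ψ : H ⥤ Type` is a right adjoint, then `Ψ (α_P)` is bijective.
-/

open CategoryTheory Category Limits

namespace Groth.Agent.Lib.DMod_helper6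

universe v₁ v₂ v₃ u₁ u₂ u₃

section KanCounit

variable {C : Type u₁} {D : Type u₂} {H : Type u₃}
  [Category.{v₁} C] [Category.{v₂} D] [Category.{v₃} H]

/-- Yoneda evaluation for `coyoneda P ⋙ Φ` when `Φ ⊣ Ψ`. -/
noncomputable def yev {Φ : Type v₁ ⥤ H} {Ψ : H ⥤ Type v₁} (adj : Φ ⊣ Ψ) (P : C) (T : C ⥤ H)
    (τ : coyoneda.obj (Opposite.op P) ⋙ Φ ⟶ T) : Ψ.obj (T.obj P) :=
  (adj.homEquiv _ _ (τ.app P)) (𝟙 P)

lemma yev_apply {Φ : Type v₁ ⥤ H} {Ψ : H ⥤ Type v₁} (adj : Φ ⊣ Ψ) (P : C) (T : C ⥤ H)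
    (τ : coyoneda.obj (Opposite.op P) ⋙ Φ ⟶ T) {Z : C} (f : P ⟶ Z) :
    (adj.homEquiv _ _ (τ.app Z)) f = Ψ.map (T.map f) (yev adj P T τ) := by
  have n := τ.naturality f
  have h1 := adj.homEquiv_naturality_left ((coyoneda.obj (Opposite.op P)).map f) (τ.app Z)
  have h2 := adj.homEquiv_naturality_right (τ.app P) (T.map f)
  have e1 : (adj.homEquiv _ _ (τ.app Z)) f =
      ((coyoneda.obj (Opposite.op P)).map f ≫ adj.homEquiv _ _ (τ.app Z)) (𝟙 P) := by
    simp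
  rw [e1, ← h1]
  have e2 : Φ.map ((coyoneda.obj (Opposite.op P)).map f) ≫ τ.app Z = τ.app P ≫ T.map f := n
  rw [e2, h2]
  rfl

lemma yev_injective {Φ : Type v₁ ⥤ H} {Ψ : H ⥤ Type v₁} (adj : Φ ⊣ Ψ) (P : C) (T : C ⥤ H) :
    Function.Injective (yev adj P T) := by
  intro τ₁ τ₂ h
  ext Z
  apply (adj.homEquiv _ _).injective
  refine ConcreteCategory.hom_ext _ _ (fun f => ?_)
  exact (yev_apply adj P T τ₁ f).trans ((congrArg _ h).trans (yev_apply adj P T τ₂ f).symm)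

lemma yev_surjective {Φ : Type v₁ ⥤ H} {Ψ : H ⥤ Type v₁} (adj : Φ ⊣ Ψ) (P : C) (T : C ⥤ H) :
    Function.Surjective (yev adj P T) := by
  intro y
  refine ⟨{ app := fun Z => (adj.homEquiv _ _).symm (↾(fun f : P ⟶ Z => Ψ.map (T.map f) y))
            naturality := ?_ }, ?_⟩
  · intro Z Z' g
    apply (adj.homEquiv _ _).injective
    have h1 := adj.homEquiv_naturality_left ((coyoneda.obj (Opposite.op P)).map g)
      ((adj.homEquiv _ _).symm (↾(fun f : P ⟶ Z' => Ψ.map (T.map f) y)))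
    have h2 := adj.homEquiv_naturality_right
      ((adj.homEquiv _ _).symm (↾(fun f : P ⟶ Z => Ψ.map (T.map f) y))) (T.map g)
    rw [Equiv.apply_symm_apply] at h1 h2
    erw [h1, h2]
    ext f
    simp
  · simp [yev]

variable (L : C ⥤ D) (W : MorphismProperty C) [L.IsLocalization W]
  {F : C ⥤ H} (LF : D ⥤ H) (α : L ⋙ LF ⟶ F) [LF.IsLeftDerivedFunctor α W]
  (P : C) (hP : W.IsInvertedBy (coyoneda.obj (Opposite.op P)))
  {Φ : Type v₁ ⥤ H} {Ψ : H ⥤ Type v₁} (adj : Φ ⊣ Ψ)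

include hP adj in
theorem bijective_map_counit_of_adj : Function.Bijective (Ψ.map (α.app P)) := by
  let G' : C ⥤ H := coyoneda.obj (Opposite.op P) ⋙ Φ
  have hG' : W.IsInvertedBy G' := fun X Y f hf => by
    haveI : IsIso ((coyoneda.obj (Opposite.op P)).map f) := hP f hf
    exact (inferInstance : IsIso (Φ.map ((coyoneda.obj (Opposite.op P)).map f)))
  let G : D ⥤ H := Localization.lift G' hG' L
  let e : L ⋙ G ≅ G' := Localization.fac G' hG' L
  have comp_ev : ∀ τ : G' ⟶ L ⋙ LF, yev adj P F (τ ≫ α) = Ψ.map (α.app P) (yev adj P (L ⋙ LF) τ) := by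
    intro τ
    have h2 := adj.homEquiv_naturality_right (τ.app P) (α.app P)
    show (adj.homEquiv _ _ (τ.app P ≫ α.app P)) (𝟙 P) = _
    rw [h2]
    rfl
  constructor
  · intro x₁ x₂ h
    obtain ⟨τ₁, rfl⟩ := yev_surjective adj P (L ⋙ LF) x₁
    obtain ⟨τ₂, rfl⟩ := yev_surjective adj P (L ⋙ LF) x₂
    rw [← comp_ev, ← comp_ev] at h
    have h' : τ₁ ≫ α = τ₂ ≫ α := yev_injective adj P F h
    obtain ⟨γ₁, hγ₁⟩ := (Localization.whiskeringLeftFunctor' L W H).map_surjective (e.hom ≫ τ₁)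
    obtain ⟨γ₂, hγ₂⟩ := (Localization.whiskeringLeftFunctor' L W H).map_surjective (e.hom ≫ τ₂)
    have hγ₁' : Functor.whiskerLeft L γ₁ = e.hom ≫ τ₁ := hγ₁
    have hγ₂' : Functor.whiskerLeft L γ₂ = e.hom ≫ τ₂ := hγ₂
    have hγ : γ₁ = γ₂ := by
      apply LF.leftDerived_ext α W G
      rw [hγ₁', hγ₂', Category.assoc, Category.assoc, h']
    have : e.hom ≫ τ₁ = e.hom ≫ τ₂ := by rw [← hγ₁', ← hγ₂', hγ]
    rw [(cancel_epi e.hom).1 this]
  · intro y
    obtain ⟨β, rfl⟩ := yev_surjective adj P F y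
    let γ : G ⟶ LF := LF.leftDerivedLift α W G (e.hom ≫ β)
    refine ⟨yev adj P (L ⋙ LF) (e.inv ≫ Functor.whiskerLeft L γ), ?_⟩
    rw [← comp_ev]
    congr 1
    rw [Category.assoc, LF.leftDerived_fac α W G (e.hom ≫ β), Iso.inv_hom_id_assoc]

end KanCounit

end Groth.Agent.Lib.DMod_helper6
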