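import Mathlib
import Groth.Prelude.Def_DRing2
import Groth.Prelude.Def_DDual2
import Groth.Agent.Lib.DMod44_helper6
import Groth.Agent.Lib.DMod45_helper6

/-!
# Derived category toolkit (helper6), part 46: `Hom(L[-n], T) = Hom(L, Hⁿ T)` for projective `L`,
the adjunction `free[-n] ⊣ Hⁿ`, and the counit of a left derived functor on `K(A)` at a
K-projective complex is an isomorphism.
-/

set_option autoImplicit false
universe u
open CategoryTheory CategoryTheory.Limits Pretriangulated DerivedCategory ZeroObject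
attribute [local instance] HasDerivedCategory.standard

namespace Groth.Agent.Lib.DMod_helper6

open DRing CochainComplex Groth.Agent.Lib.DerivedTrunc_helper2

variable {A : Type u} [CommRing A]

/-- the comparison map `Hom(L[-n], T) → Hom(L, Hⁿ T)` -/
noncomputable def thetaMap (L : ModuleCat.{u} A) (n : ℤ) (T : Dual.D A)
    (φ : (DerivedCategory.singleFunctor (ModuleCat.{u} A) n).obj L ⟶ T) :
    L ⟶ (DerivedCategory.homologyFunctor (ModuleCat.{u} A) n).obj T :=
  (singleFunctorCompHomologyFunctorIso (ModuleCat.{u} A) n).inv.app L ≫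
    (DerivedCategory.homologyFunctor (ModuleCat.{u} A) n).map φ

lemma thetaMap_comp (L : ModuleCat.{u} A) (n : ℤ) {T T' : Dual.D A}
    (φ : (DerivedCategory.singleFunctor (ModuleCat.{u} A) n).obj L ⟶ T) (g : T ⟶ T') :
    thetaMap L n T' (φ ≫ g) =
      thetaMap L n T φ ≫ (DerivedCategory.homologyFunctor (ModuleCat.{u} A) n).map g := by
  simp [thetaMap]

lemma thetaMap_map_comp {L' L : ModuleCat.{u} A} (f : L' ⟶ L) (n : ℤ) {T : Dual.D A}
    (φ : (DerivedCategory.singleFunctor (ModuleCat.{u} A) n).obj L ⟶ T) :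
    thetaMap L' n T ((DerivedCategory.singleFunctor (ModuleCat.{u} A) n).map f ≫ φ) =
      f ≫ thetaMap L n T φ := by
  unfold thetaMap
  have nat := (singleFunctorCompHomologyFunctorIso (ModuleCat.{u} A) n).inv.naturality f
  simp only [Functor.id_map, Functor.comp_map] at nat
  rw [Functor.map_comp, ← Category.assoc, ← nat, Category.assoc]

lemma thetaMap_sub (L : ModuleCat.{u} A) (n : ℤ) {T : Dual.D A}
    (φ₁ φ₂ : (DerivedCategory.singleFunctor (ModuleCat.{u} A) n).obj L ⟶ T) :
    thetaMap L n T (φ₁ - φ₂) = thetaMap L n T φ₁ - thetaMap L n T φ₂ := by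
  simp [thetaMap, Functor.map_sub]

theorem single_hom_eq_zero_of_homology_map (L : ModuleCat.{u} A) (hL : Module.Projective A L)
    (n : ℤ) (T : Dual.D A)
    (φ : (DerivedCategory.singleFunctor (ModuleCat.{u} A) n).obj L ⟶ T)
    (h : (DerivedCategory.homologyFunctor (ModuleCat.{u} A) n).map φ = 0) : φ = 0 := by
  let t := tt (ModuleCat.{u} A)
  let π := (t.truncGTπ (n - 1)).app T
  let T₁ := (t.truncGT (n - 1)).obj T
  haveI : t.IsGE T₁ n := inferInstance
  let ι := (t.truncLEι n).app T₁
  let ψ := t.liftTruncLE (φ ≫ π) n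
  have hψ : ψ ≫ ι = φ ≫ π := t.liftTruncLE_ι _ _
  have hψ0 : ψ = 0 := by
    apply eq_zero_of_homology_map_eq_zero n
    haveI := mono_homology_map_truncLEι T₁ n n (by omega)
    rw [← cancel_mono ((DerivedCategory.homologyFunctor (ModuleCat.{u} A) n).map ι), zero_comp,
      ← Functor.map_comp, hψ, Functor.map_comp, h, zero_comp]
  have h1 : φ ≫ π = 0 := by rw [← hψ, hψ0, zero_comp]
  obtain ⟨φ', hφ'⟩ : ∃ φ' : (DerivedCategory.singleFunctor (ModuleCat.{u} A) n).obj L ⟶
      (t.truncLE (n - 1)).obj T, φ = φ' ≫ (t.truncLEι (n - 1)).app T :=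
    Triangle.coyoneda_exact₂ _ (t.triangleLEGT_distinguished (n - 1) T) φ h1
  haveI : DerivedCategory.IsLE ((t.truncLE (n - 1)).obj T) (n - 1) :=
    (inferInstance : t.IsLE ((t.truncLE (n - 1)).obj T) (n - 1))
  have : φ' = 0 := hom_single_eq_zero_of_isLE L hL n (n - 1) (by omega)
    ((t.truncLE (n - 1)).obj T) φ'
  rw [hφ', this, zero_comp]

theorem exists_single_hom_of_homology (L : ModuleCat.{u} A) (hL : Module.Projective A L)
    (n : ℤ) (T : Dual.D A)
    (g : L ⟶ (DerivedCategory.homologyFunctor (ModuleCat.{u} A) n).obj T) :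
    ∃ φ : (DerivedCategory.singleFunctor (ModuleCat.{u} A) n).obj L ⟶ T, thetaMap L n T φ = g := by
  let t := tt (ModuleCat.{u} A)
  let π := (t.truncGTπ (n - 1)).app T
  let T₁ := (t.truncGT (n - 1)).obj T
  haveI : t.IsGE T₁ n := inferInstance
  let ι := (t.truncLEι n).app T₁
  let T₂ := (t.truncLE n).obj T₁
  haveI hπ : IsIso ((DerivedCategory.homologyFunctor (ModuleCat.{u} A) n).map π) :=
    isIso_homology_map_truncGTπ T (n - 1) n (by omega)
  haveI hι : IsIso ((DerivedCategory.homologyFunctor (ModuleCat.{u} A) n).map ι) :=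
    isIso_homology_map_truncLEι T₁ n n le_rfl
  haveI : DerivedCategory.IsGE T₂ n := (inferInstance : t.IsGE ((t.truncLE n).obj T₁) n)
  haveI : DerivedCategory.IsLE T₂ n := (inferInstance : t.IsLE ((t.truncLE n).obj T₁) n)
  obtain ⟨E⟩ := exists_iso_single_homology T₂ n
  let M := (DerivedCategory.homologyFunctor (ModuleCat.{u} A) n).obj T₂
  let c : M ⟶ (DerivedCategory.homologyFunctor (ModuleCat.{u} A) n).obj T₂ := thetaMap M n T₂ E.inv
  haveI : IsIso c := by
    show IsIso ((singleFunctorCompHomologyFunctorIso (ModuleCat.{u} A) n).inv.app M ≫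
      (DerivedCategory.homologyFunctor (ModuleCat.{u} A) n).map E.inv)
    infer_instance
  let x' : L ⟶ M := g ≫ (DerivedCategory.homologyFunctor (ModuleCat.{u} A) n).map π ≫
    inv ((DerivedCategory.homologyFunctor (ModuleCat.{u} A) n).map ι)
  let q₂ : (DerivedCategory.singleFunctor (ModuleCat.{u} A) n).obj L ⟶ T₂ :=
    (DerivedCategory.singleFunctor (ModuleCat.{u} A) n).map (x' ≫ inv c) ≫ E.inv
  have hq₂ : thetaMap L n T₂ q₂ = x' := by
    rw [thetaMap_map_comp]
    show (x' ≫ inv c) ≫ c = x'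
    simp
  have hδ : (q₂ ≫ ι) ≫ ((t.triangleLEGT (n - 1)).obj T).mor₃ = 0 := by
    haveI : DerivedCategory.IsLE ((((t.truncLE (n - 1)).obj T))⟦(1 : ℤ)⟧) (n - 2) :=
      TStructure.t.isLE_shift ((t.truncLE (n - 1)).obj T) (n - 1) 1 (n - 2) (by omega)
    exact hom_single_eq_zero_of_isLE L hL n (n - 2) (by omega)
      ((((t.truncLE (n - 1)).obj T))⟦(1 : ℤ)⟧) _
  obtain ⟨f, hf⟩ : ∃ f : (DerivedCategory.singleFunctor (ModuleCat.{u} A) n).obj L ⟶ T,
      q₂ ≫ ι = f ≫ π :=
    Triangle.coyoneda_exact₃ _ (t.triangleLEGT_distinguished (n - 1) T) (q₂ ≫ ι) hδ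
  refine ⟨f, ?_⟩
  have key : thetaMap L n T f ≫ (DerivedCategory.homologyFunctor (ModuleCat.{u} A) n).map π =
      g ≫ (DerivedCategory.homologyFunctor (ModuleCat.{u} A) n).map π := by
    rw [← thetaMap_comp, ← hf, thetaMap_comp, hq₂]
    simp [x']
  exact (cancel_mono _).1 key

theorem thetaMap_bijective (L : ModuleCat.{u} A) (hL : Module.Projective A L) (n : ℤ)
    (T : Dual.D A) : Function.Bijective (thetaMap L n T) := by
  constructor
  · intro φ₁ φ₂ h
    have h0 : thetaMap L n T (φ₁ - φ₂) = 0 := by rw [thetaMap_sub, h, sub_self]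
    have h1 : (DerivedCategory.homologyFunctor (ModuleCat.{u} A) n).map (φ₁ - φ₂) = 0 := by
      unfold thetaMap at h0
      exact (cancel_epi ((singleFunctorCompHomologyFunctorIso (ModuleCat.{u} A) n).inv.app L)).1
        (h0.trans comp_zero.symm)
    exact sub_eq_zero.1 (single_hom_eq_zero_of_homology_map L hL n T _ h1)
  · intro g
    exact exists_single_hom_of_homology L hL n T g

/-- the hom equivalence of the adjunction `free[-n] ⊣ Hⁿ` -/
noncomputable def singleFreeHomEquiv (n : ℤ) (J : Type u) (T : Dual.D A) :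
    ((ModuleCat.free A ⋙ DerivedCategory.singleFunctor (ModuleCat.{u} A) n).obj J ⟶ T) ≃
      (J ⟶ (DerivedCategory.homologyFunctor (ModuleCat.{u} A) n ⋙ forget (ModuleCat.{u} A)).obj T) :=
  (Equiv.ofBijective (thetaMap ((ModuleCat.free A).obj J) n T)
    (thetaMap_bijective _ (show Module.Projective A (J →₀ A) from inferInstance) n T)).trans
    ((ModuleCat.adj A).homEquiv J ((DerivedCategory.homologyFunctor (ModuleCat.{u} A) n).obj T))

/-- the adjunction `free[-n] ⊣ Hⁿ` between types and `D(A)` -/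
noncomputable def singleFreeAdj (n : ℤ) :
    (ModuleCat.free A ⋙ DerivedCategory.singleFunctor (ModuleCat.{u} A) n) ⊣
      (DerivedCategory.homologyFunctor (ModuleCat.{u} A) n ⋙ forget (ModuleCat.{u} A)) :=
  Adjunction.mkOfHomEquiv
    { homEquiv := singleFreeHomEquiv n
      homEquiv_naturality_left_symm := by
        intro J' J T f g
        apply (singleFreeHomEquiv n J' T).injective
        rw [Equiv.apply_symm_apply]
        obtain ⟨φ, rfl⟩ := (singleFreeHomEquiv n J T).surjective g
        rw [Equiv.symm_apply_apply]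
        symm
        show (ModuleCat.adj A).homEquiv _ _ (thetaMap _ n T
          ((DerivedCategory.singleFunctor (ModuleCat.{u} A) n).map ((ModuleCat.free A).map f) ≫ φ)) =
            f ≫ (ModuleCat.adj A).homEquiv _ _ (thetaMap _ n T φ)
        rw [thetaMap_map_comp, Adjunction.homEquiv_naturality_left]
      homEquiv_naturality_right := by
        intro J T T' φ g
        show (ModuleCat.adj A).homEquiv _ _ (thetaMap _ n T' (φ ≫ g)) =
          (ModuleCat.adj A).homEquiv _ _ (thetaMap _ n T φ) ≫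
            (forget _).map ((DerivedCategory.homologyFunctor (ModuleCat.{u} A) n).map g)
        rw [thetaMap_comp, Adjunction.homEquiv_naturality_right] }

lemma inverts_coyoneda_of_isKProjective (P : Cx A) [P.IsKProjective] :
    (HomotopyCategory.quasiIso (ModuleCat.{u} A) (ComplexShape.up ℤ)).IsInvertedBy
      (coyoneda.obj (Opposite.op ((HomotopyCategory.quotient _ _).obj P))) := by
  intro X Y w hw
  haveI : IsIso (Qh.map w) := Localization.inverts Qh (HomotopyCategory.quasiIso _ _) w hw
  have hb := fun Z => CochainComplex.IsKProjective.Qh_map_bijective P Z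
  rw [isIso_iff_bijective]
  constructor
  · intro f₁ f₂ h
    have h' : f₁ ≫ w = f₂ ≫ w := h
    apply (hb X).injective
    rw [← cancel_mono (Qh.map w), ← Functor.map_comp, ← Functor.map_comp, h']
  · intro g
    obtain ⟨f, hf⟩ := (hb X).surjective (Qh.map g ≫ inv (Qh.map w))
    refine ⟨f, ?_⟩
    show f ≫ w = g
    apply (hb Y).injective
    rw [Functor.map_comp, hf]
    simp

/-- The counit of any left derived functor of a functor on `K(A)` is an isomorphism at a
K-projective complex. -/
theorem isIso_leftDerived_counit_of_isKProjective {B : Type u} [CommRing B]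
    (F : HomotopyCategory (ModuleCat.{u} A) (ComplexShape.up ℤ) ⥤ Dual.D B)
    (LF : Dual.D A ⥤ Dual.D B) (α : Qh ⋙ LF ⟶ F)
    [LF.IsLeftDerivedFunctor α (HomotopyCategory.quasiIso (ModuleCat.{u} A) (ComplexShape.up ℤ))]
    (P : Cx A) [P.IsKProjective] :
    IsIso (α.app ((HomotopyCategory.quotient _ _).obj P)) := by
  rw [DerivedCategory.isIso_iff]
  intro n
  rw [ConcreteCategory.isIso_iff_bijective]
  exact bijective_map_counit_of_adj Qh (HomotopyCategory.quasiIso _ _) LF α _
    (inverts_coyoneda_of_isKProjective P) (singleFreeAdj (A := B) n)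

end Groth.Agent.Lib.DMod_helper6
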