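import Mathlib
import Groth.Prelude.Def_DRing2
import Groth.Prelude.Def_DDual2
import Groth.Agent.Lib.DMod46_helper6

/-!
# Derived category toolkit (helper6), part 47: values of total left derived functors of
termwise functors (`- ⊗ M`, extension of scalars) on K-projective complexes.
-/

set_option autoImplicit false
universe u
open CategoryTheory CategoryTheory.Limits Pretriangulated DerivedCategory ZeroObject
attribute [local instance] HasDerivedCategory.standard

namespace Groth.Agent.Lib.DMod_helper6

open DRing CochainComplex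

variable {A B : Type u} [CommRing A] [CommRing B]

section General

variable (Φ₀ : ModuleCat.{u} A ⥤ ModuleCat.{u} B) [Φ₀.Additive]

/-- the functor `K(A) ⥤ D(B)` induced by `Φ₀` -/
noncomputable abbrev khFunctor :
    HomotopyCategory (ModuleCat.{u} A) (ComplexShape.up ℤ) ⥤ Dual.D B :=
  Φ₀.mapHomotopyCategory (ComplexShape.up ℤ) ⋙ DerivedCategory.Qh

/-- value of the total left derived functor on a K-projective complex -/
theorem nonempty_leftDerived_iso_of_isKProjective
    [(khFunctor Φ₀).HasLeftDerivedFunctor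
      (HomotopyCategory.quasiIso (ModuleCat.{u} A) (ComplexShape.up ℤ))]
    (P : Cx A) [P.IsKProjective] :
    Nonempty (((khFunctor Φ₀).totalLeftDerived DerivedCategory.Qh
      (HomotopyCategory.quasiIso (ModuleCat.{u} A) (ComplexShape.up ℤ))).obj (toD P) ≅
      toD ((Φ₀.mapHomologicalComplex (ComplexShape.up ℤ)).obj P)) := by
  haveI := isIso_leftDerived_counit_of_isKProjective (khFunctor Φ₀) _
    ((khFunctor Φ₀).totalLeftDerivedCounit DerivedCategory.Qh
      (HomotopyCategory.quasiIso (ModuleCat.{u} A) (ComplexShape.up ℤ))) P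
  exact ⟨((khFunctor Φ₀).totalLeftDerived DerivedCategory.Qh
      (HomotopyCategory.quasiIso (ModuleCat.{u} A) (ComplexShape.up ℤ))).mapIso
        ((quotientCompQhIso (ModuleCat.{u} A)).symm.app P) ≪≫
    asIso (((khFunctor Φ₀).totalLeftDerivedCounit DerivedCategory.Qh
      (HomotopyCategory.quasiIso (ModuleCat.{u} A) (ComplexShape.up ℤ))).app
        ((HomotopyCategory.quotient _ _).obj P)) ≪≫
    DerivedCategory.Qh.mapIso ((Φ₀.mapHomotopyCategoryFactors (ComplexShape.up ℤ)).app P) ≪≫
    (quotientCompQhIso (ModuleCat.{u} B)).app _⟩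

lemma khFunctor_inverts_of_preservesHomology [Φ₀.PreservesHomology] :
    (HomotopyCategory.quasiIso (ModuleCat.{u} A) (ComplexShape.up ℤ)).IsInvertedBy
      (khFunctor Φ₀) := by
  have e := Φ₀.mapHomologicalComplexUpToQuasiIsoFactorsh (ComplexShape.up ℤ)
  refine (MorphismProperty.IsInvertedBy.iff_of_iso _ e).1 ?_
  exact MorphismProperty.IsInvertedBy.of_comp _ _
    (Localization.inverts DerivedCategory.Qh
      (HomotopyCategory.quasiIso (ModuleCat.{u} A) (ComplexShape.up ℤ))) _

/-- value of the total left derived functor of an exact functor on any complex -/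
theorem nonempty_leftDerived_iso_of_preservesHomology [Φ₀.PreservesHomology]
    [(khFunctor Φ₀).HasLeftDerivedFunctor
      (HomotopyCategory.quasiIso (ModuleCat.{u} A) (ComplexShape.up ℤ))]
    (P : Cx A) :
    Nonempty (((khFunctor Φ₀).totalLeftDerived DerivedCategory.Qh
      (HomotopyCategory.quasiIso (ModuleCat.{u} A) (ComplexShape.up ℤ))).obj (toD P) ≅
      toD ((Φ₀.mapHomologicalComplex (ComplexShape.up ℤ)).obj P)) := by
  haveI : IsIso ((khFunctor Φ₀).totalLeftDerivedCounit DerivedCategory.Qh
      (HomotopyCategory.quasiIso (ModuleCat.{u} A) (ComplexShape.up ℤ))) :=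
    Functor.isIso_of_isLeftDerivedFunctor_of_inverts _ _
      (khFunctor_inverts_of_preservesHomology Φ₀)
  exact ⟨((khFunctor Φ₀).totalLeftDerived DerivedCategory.Qh
      (HomotopyCategory.quasiIso (ModuleCat.{u} A) (ComplexShape.up ℤ))).mapIso
        ((quotientCompQhIso (ModuleCat.{u} A)).symm.app P) ≪≫
    asIso (((khFunctor Φ₀).totalLeftDerivedCounit DerivedCategory.Qh
      (HomotopyCategory.quasiIso (ModuleCat.{u} A) (ComplexShape.up ℤ))).app
        ((HomotopyCategory.quotient _ _).obj P)) ≪≫
    DerivedCategory.Qh.mapIso ((Φ₀.mapHomotopyCategoryFactors (ComplexShape.up ℤ)).app P) ≪≫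
    (quotientCompQhIso (ModuleCat.{u} B)).app _⟩

end General

section LTensor

open MonoidalCategory

/-- `K ⊗^L M` on a K-projective complex is the termwise tensor product -/
theorem nonempty_lTensor_iso_of_isKProjective (M : ModuleCat.{u} A) [HasLTensor A M]
    (P : Cx A) [P.IsKProjective] :
    Nonempty ((LTensor A M).obj (toD P) ≅ toD ((TN M).obj P)) :=
  nonempty_leftDerived_iso_of_isKProjective (MonoidalCategory.tensorRight M) P

/-- `K ⊗^L A = K` -/
theorem nonempty_lTensor_unit_iso [HasLTensor A (𝟙_ (ModuleCat.{u} A))] (X : Cx A) :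
    Nonempty ((LTensor A (𝟙_ (ModuleCat.{u} A))).obj (toD X) ≅ toD X) := by
  haveI : Module.Flat A (𝟙_ (ModuleCat.{u} A) : ModuleCat.{u} A) :=
    (inferInstance : Module.Flat A A)
  obtain ⟨e⟩ := nonempty_leftDerived_iso_of_preservesHomology
    (MonoidalCategory.tensorRight (𝟙_ (ModuleCat.{u} A))) X
  exact ⟨e ≪≫ Q.mapIso ((NatIso.mapHomologicalComplex
    (MonoidalCategory.rightUnitorNatIso (ModuleCat.{u} A)) (ComplexShape.up ℤ) ≪≫
      Functor.mapHomologicalComplexIdIso _ _).app X)⟩

/-- characterisation of tor amplitude through the derived tensor product (S6945) -/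
theorem hasTorAmplitudeIn_iff_lTensor [∀ M : ModuleCat.{u} A, HasLTensor A M] (K : Dual.D A)
    (a b : ℤ) :
    HasTorAmplitudeIn A a b K ↔
      ∀ (M : ModuleCat.{u} A) (i : ℤ), (i < a ∨ b < i) →
        Subsingleton (Dual.HD A ((LTensor A M).obj K) i) := by
  constructor
  · rintro ⟨F, hF, hFf, ⟨e⟩⟩ M i hi
    haveI : DerivedCategory.IsLE (toD F) b :=
      isLE_toD_of_vanishesAbove F b (fun j hj => hF j (Or.inr hj))
    obtain ⟨P, hPfree, hPb, ⟨eP⟩⟩ := exists_free_resolution (toD F) b
    haveI : P.IsKProjective :=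
      isKProjective_of_projective_bounded P b hPb (fun j => by haveI := hPfree j; infer_instance)
    obtain ⟨eL⟩ := nonempty_lTensor_iso_of_isKProjective M P
    have e1 : toD ((TN M).obj P) ≅ (LTensor A M).obj K :=
      eL.symm ≪≫ (LTensor A M).mapIso (eP ≪≫ e)
    rw [← exactAt_iff_subsingleton_HD e1 i]
    rcases hi with hi | hi
    · exact exactAt_TN_of_hasTorAmplitudeIn P b hPb
        (fun j => by haveI := hPfree j; exact Module.Flat.of_free) a b
        ⟨F, hF, hFf, ⟨eP.symm⟩⟩ M i hi
    · exact exactAt_of_isZero_X _ i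
        ((MonoidalCategory.tensorRight M).map_isZero (hPb i hi))
  · intro h
    have hK : ∀ i, (i < a ∨ b < i) → Subsingleton (Dual.HD A K i) := by
      intro i hi
      let X : Cx A := Q.objPreimage K
      let eX : toD X ≅ K := Q.objObjPreimageIso K
      obtain ⟨eU⟩ := nonempty_lTensor_unit_iso X
      have e2 : toD X ≅ (LTensor A (𝟙_ (ModuleCat.{u} A))).obj K :=
        eU.symm ≪≫ (LTensor A _).mapIso eX
      rw [← exactAt_iff_subsingleton_HD eX i, exactAt_iff_subsingleton_HD e2 i]
      exact h _ i hi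
    haveI : DerivedCategory.IsLE K b := isLE_of_subsingleton_HD K b (fun i hi => hK i (Or.inr hi))
    obtain ⟨P, hPfree, hPb, ⟨eP⟩⟩ := exists_free_resolution K b
    haveI : P.IsKProjective :=
      isKProjective_of_projective_bounded P b hPb (fun j => by haveI := hPfree j; infer_instance)
    have hex0 : ∀ i, i < a → P.ExactAt i := fun i hi =>
      (exactAt_iff_subsingleton_HD eP i).2 (hK i (Or.inl hi))
    have hex : ∀ N : ModuleCat.{u} A, ((TN N).obj P).ExactAt (a - 1) := fun N => by
      obtain ⟨eL⟩ := nonempty_lTensor_iso_of_isKProjective N P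
      exact (exactAt_iff_subsingleton_HD (eL.symm ≪≫ (LTensor A N).mapIso eP) (a - 1)).2
        (h N (a - 1) (Or.inl (by omega)))
    exact hasTorAmplitudeIn_of_iso eP a b
      (hasTorAmplitudeIn_of_TN_exact' P a b hPb
        (fun j => by haveI := hPfree j; exact Module.Flat.of_free) hex0 hex)

end LTensor

end Groth.Agent.Lib.DMod_helper6
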