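import Mathlib
import Groth.Prelude.Def_DRing2
import Groth.Prelude.Def_DDual2
import Groth.Agent.Lib.DMod47_helper6

/-!
# Derived category toolkit (helper6), part 48: derived base change and derived tensor product on
bounded above complexes of flat modules; perfectness and tor amplitude under derived base change.
-/

set_option autoImplicit false
universe u
open CategoryTheory CategoryTheory.Limits Pretriangulated DerivedCategory ZeroObject
open scoped TensorProduct ChangeOfRings
attribute [local instance] HasDerivedCategory.standard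

namespace Groth.Agent.Lib.DMod_helper6

open DRing CochainComplex Groth.Agent.ExtendScalarsLib

section Comm

variable {A : Type u} [CommRing A]

lemma lTensor_comm_apply {M M' : Type u} [AddCommGroup M] [AddCommGroup M'] [Module A M]
    [Module A M'] (N : Type u) [AddCommGroup N] [Module A N] (g : M →ₗ[A] M')
    (x : M ⊗[A] N) :
    g.lTensor N (TensorProduct.comm A M N x) = TensorProduct.comm A M' N (g.rTensor N x) := by
  induction x using TensorProduct.induction_on with
  | zero => simp
  | tmul m n => simp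
  | add x y hx hy => simp [hx, hy]

lemma exact_lTensor_of_exact_rTensor {M₁ M₂ M₃ : Type u} [AddCommGroup M₁] [AddCommGroup M₂]
    [AddCommGroup M₃] [Module A M₁] [Module A M₂] [Module A M₃]
    (f : M₁ →ₗ[A] M₂) (g : M₂ →ₗ[A] M₃) (N : Type u) [AddCommGroup N] [Module A N]
    (h : Function.Exact (f.rTensor N) (g.rTensor N)) :
    Function.Exact (f.lTensor N) (g.lTensor N) := by
  intro y
  obtain ⟨y', rfl⟩ := (TensorProduct.comm A M₂ N).surjective y
  rw [lTensor_comm_apply, LinearEquiv.map_eq_zero_iff, h y']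
  constructor
  · rintro ⟨x, rfl⟩
    exact ⟨TensorProduct.comm A M₁ N x, by rw [lTensor_comm_apply]⟩
  · rintro ⟨x, hx⟩
    obtain ⟨x', rfl⟩ := (TensorProduct.comm A M₁ N).surjective x
    rw [lTensor_comm_apply] at hx
    exact ⟨x', (TensorProduct.comm A M₂ N).injective hx⟩

end Comm

section ES

variable {A B : Type u} [CommRing A] [CommRing B] [Algebra A B]

lemma ES_map_comm {M M' : ModuleCat.{u} A} (f : M ⟶ M') (x : (ES A B).obj M) :
    extendScalarsEquivTensor (S := B) M' (((ES A B).map f).hom x) =
      (f.hom.baseChange B) (extendScalarsEquivTensor (S := B) M x) := by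
  have key : (ES A B).map f ≫
      (extendScalarsEquivTensor (S := B) M').toModuleIso.hom =
      (extendScalarsEquivTensor (S := B) M).toModuleIso.hom ≫
        ModuleCat.ofHom (f.hom.baseChange B) := by
    refine ModuleCat.ExtendScalars.hom_ext (fun m => ?_)
    show extendScalarsEquivTensor (S := B) M' (((ES A B).map f).hom
        ((1 : B) ⊗ₜ[A,algebraMap A B] m)) =
      (f.hom.baseChange B) (extendScalarsEquivTensor (S := B) M
        ((1 : B) ⊗ₜ[A,algebraMap A B] m))
    rw [extendScalarsEquivTensor_tmul, LinearMap.baseChange_tmul]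
    exact extendScalarsEquivTensor_tmul (S := B) M' 1 (f.hom m)
  exact congrArg (fun k => k.hom x) key

lemma exact_ES_map {M₁ M₂ M₃ : ModuleCat.{u} A} (f : M₁ ⟶ M₂) (g : M₂ ⟶ M₃)
    (h : Function.Exact (f.hom.rTensor B) (g.hom.rTensor B)) :
    Function.Exact ((ES A B).map f).hom ((ES A B).map g).hom := by
  have h' := exact_lTensor_of_exact_rTensor f.hom g.hom B h
  have key1 : ∀ x, extendScalarsEquivTensor (S := B) M₂ (((ES A B).map f).hom x) =
      f.hom.lTensor B (extendScalarsEquivTensor (S := B) M₁ x) := fun x => ES_map_comm f x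
  have key2 : ∀ x, extendScalarsEquivTensor (S := B) M₃ (((ES A B).map g).hom x) =
      g.hom.lTensor B (extendScalarsEquivTensor (S := B) M₂ x) := fun x => ES_map_comm g x
  intro y
  constructor
  · intro hy
    have h0 : g.hom.lTensor B (extendScalarsEquivTensor (S := B) M₂ y) = 0 := by
      rw [← key2, hy, map_zero]
    obtain ⟨x, hx⟩ := (h' _).1 h0
    refine ⟨(extendScalarsEquivTensor (S := B) M₁).symm x,
      (extendScalarsEquivTensor (S := B) M₂).injective ?_⟩
    rw [key1, LinearEquiv.apply_symm_apply, hx]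
  · rintro ⟨x, rfl⟩
    apply (extendScalarsEquivTensor (S := B) M₃).injective
    rw [key2, key1, map_zero]
    exact (h' _).2 ⟨_, rfl⟩

/-- extension of scalars preserves acyclicity of bounded above complexes of flat modules -/
theorem exactAt_ES_of_acyclic (W : Cx A) (b : ℤ) (hb : VanishesAbove W b)
    (hflat : TermwiseFlat W) (hex : ∀ i, W.ExactAt i) (i : ℤ) :
    (((ES A B).mapHomologicalComplex (ComplexShape.up ℤ)).obj W).ExactAt i := by
  refine exactAt_of_function_exact _ (i - 1) i (i + 1) (by omega) rfl ?_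
  haveI := flat_coker_of_acyclic W b hb hflat hex (b + 1 - (i + 1)).toNat i (i + 1) rfl
    (by omega)
  exact exact_ES_map _ _ (exact_rTensor_of_flat_coker _ _
    (function_exact_of_exactAt W (i - 1) i (i + 1) (by omega) rfl (hex i)) B)

end ES

section General

variable {A B : Type u} [CommRing A] [CommRing B]
  (Φ₀ : ModuleCat.{u} A ⥤ ModuleCat.{u} B) [Φ₀.Additive]

/-- `Φ₀` preserves acyclicity of bounded above complexes of flat modules -/
def PreservesFlatAcyclic : Prop :=
  ∀ (W : Cx A) (b : ℤ), VanishesAbove W b → TermwiseFlat W → (∀ i, W.ExactAt i) →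
    ∀ i, ((Φ₀.mapHomologicalComplex (ComplexShape.up ℤ)).obj W).ExactAt i

theorem isIso_Q_map_of_preservesFlatAcyclic (hΦ : PreservesFlatAcyclic Φ₀)
    {X Y : Cx A} (q : X ⟶ Y) (hq : IsIso (Q.map q)) (bX bY : ℤ)
    (hX : VanishesAbove X bX) (hY : VanishesAbove Y bY) (hXf : TermwiseFlat X)
    (hYf : TermwiseFlat Y) :
    IsIso (Q.map ((Φ₀.mapHomologicalComplex (ComplexShape.up ℤ)).map q)) := by
  let W := mappingCone q
  have hWb : VanishesAbove W (max bX bY) := fun i hi =>
    IsZero.of_iso (isZero_biprod (hX (i + 1) (by have := le_max_left bX bY; omega))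
      (hY i (by have := le_max_right bX bY; omega))) (coneXIso q i)
  have hWf : TermwiseFlat W := fun i => by
    haveI : Module.Flat A (X.X (i + 1) ⊞ Y.X i : ModuleCat.{u} A) :=
      flat_biprod (hXf (i + 1)) (hYf i)
    exact Module.Flat.of_linearEquiv (coneXIso q i).toLinearEquiv
  have hWz : IsZero (toD W) :=
    (Triangle.isZero₃_iff_isIso₁ _ (mappingCone_triangle_distinguished q)).2 hq
  have hWex : ∀ i, W.ExactAt i := fun i =>
    exactAt_of_isZero_homology_toD W i ((DerivedCategory.homologyFunctor _ i).map_isZero hWz)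
  have hTW := hΦ W _ hWb hWf hWex
  have hTWz : IsZero (toD ((Φ₀.mapHomologicalComplex (ComplexShape.up ℤ)).obj W)) :=
    isZero_toD_of_exactAt _ hTW
  have e := mappingCone.mapHomologicalComplexIso q Φ₀
  have hz : IsZero (toD (mappingCone ((Φ₀.mapHomologicalComplex (ComplexShape.up ℤ)).map q))) :=
    IsZero.of_iso hTWz (Q.mapIso e.symm)
  exact (Triangle.isZero₃_iff_isIso₁ _
    (mappingCone_triangle_distinguished ((Φ₀.mapHomologicalComplex (ComplexShape.up ℤ)).map q))).1 hz

/-- value of the total left derived functor on a bounded above complex of flat modules -/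
theorem nonempty_leftDerived_iso_of_flat (hΦ : PreservesFlatAcyclic Φ₀)
    [(khFunctor Φ₀).HasLeftDerivedFunctor
      (HomotopyCategory.quasiIso (ModuleCat.{u} A) (ComplexShape.up ℤ))]
    (F : Cx A) (b : ℤ) (hF : VanishesAbove F b) (hFf : TermwiseFlat F) :
    Nonempty (((khFunctor Φ₀).totalLeftDerived DerivedCategory.Qh
      (HomotopyCategory.quasiIso (ModuleCat.{u} A) (ComplexShape.up ℤ))).obj (toD F) ≅
      toD ((Φ₀.mapHomologicalComplex (ComplexShape.up ℤ)).obj F)) := by
  haveI : DerivedCategory.IsLE (toD F) b := isLE_toD_of_vanishesAbove F b hF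
  obtain ⟨P, hPfree, hPb, ⟨eP⟩⟩ := exists_free_resolution (toD F) b
  haveI : P.IsKProjective :=
    isKProjective_of_projective_bounded P b hPb (fun j => by haveI := hPfree j; infer_instance)
  obtain ⟨q, hq⟩ := exists_Q_map_eq_of_isKProjective (E := P) (F := F) eP.hom
  have hq' : IsIso (Q.map q) := by rw [hq]; infer_instance
  haveI := isIso_Q_map_of_preservesFlatAcyclic Φ₀ hΦ q hq' b b hPb hF
    (fun j => by haveI := hPfree j; exact Module.Flat.of_free) hFf
  obtain ⟨eL⟩ := nonempty_leftDerived_iso_of_isKProjective Φ₀ P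
  exact ⟨((khFunctor Φ₀).totalLeftDerived DerivedCategory.Qh
      (HomotopyCategory.quasiIso (ModuleCat.{u} A) (ComplexShape.up ℤ))).mapIso eP.symm ≪≫ eL ≪≫
    asIso (Q.map ((Φ₀.mapHomologicalComplex (ComplexShape.up ℤ)).map q))⟩

end General

section Applications

variable {A B : Type u} [CommRing A] [CommRing B]

lemma preservesFlatAcyclic_tensorRight (M : ModuleCat.{u} A) :
    PreservesFlatAcyclic (MonoidalCategory.tensorRight M) :=
  fun W b hb hf hex i => exactAt_TN_of_acyclic W b hb hf hex M i

lemma preservesFlatAcyclic_extendScalars (φ : A →+* B) :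
    PreservesFlatAcyclic (ModuleCat.extendScalars.{u, u, u} φ) := by
  letI := φ.toAlgebra
  exact fun W b hb hf hex i => exactAt_ES_of_acyclic (B := B) W b hb hf hex i

/-- derived tensor product on a bounded above flat complex -/
theorem nonempty_lTensor_iso_of_flat (M : ModuleCat.{u} A) [HasLTensor A M]
    (F : Cx A) (b : ℤ) (hF : VanishesAbove F b) (hFf : TermwiseFlat F) :
    Nonempty ((LTensor A M).obj (toD F) ≅ toD ((TN M).obj F)) :=
  nonempty_leftDerived_iso_of_flat (MonoidalCategory.tensorRight M)
    (preservesFlatAcyclic_tensorRight M) F b hF hFf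

/-- derived base change on a bounded above flat complex -/
theorem nonempty_lBaseChange_iso_of_flat (φ : A →+* B) [HasLBaseChange φ]
    (F : Cx A) (b : ℤ) (hF : VanishesAbove F b) (hFf : TermwiseFlat F) :
    Nonempty ((LBaseChange φ).obj (toD F) ≅
      toD (((ModuleCat.extendScalars.{u, u, u} φ).mapHomologicalComplex
        (ComplexShape.up ℤ)).obj F)) :=
  nonempty_leftDerived_iso_of_flat (ModuleCat.extendScalars.{u, u, u} φ)
    (preservesFlatAcyclic_extendScalars φ) F b hF hFf

/-- derived base change on a K-projective complex -/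
theorem nonempty_lBaseChange_iso_of_isKProjective (φ : A →+* B) [HasLBaseChange φ]
    (P : Cx A) [P.IsKProjective] :
    Nonempty ((LBaseChange φ).obj (toD P) ≅
      toD (((ModuleCat.extendScalars.{u, u, u} φ).mapHomologicalComplex
        (ComplexShape.up ℤ)).obj P)) :=
  nonempty_leftDerived_iso_of_isKProjective (ModuleCat.extendScalars.{u, u, u} φ) P

/-- derived base change preserves tor amplitude (S6948) -/
theorem hasTorAmplitudeIn_lBaseChange (φ : A →+* B) [HasLBaseChange φ] (K : Dual.D A)
    (a b : ℤ) (hK : HasTorAmplitudeIn A a b K) :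
    HasTorAmplitudeIn B a b ((LBaseChange φ).obj K) := by
  obtain ⟨F, hF, hFf, ⟨e⟩⟩ := hK
  obtain ⟨eL⟩ := nonempty_lBaseChange_iso_of_flat φ F b (fun i hi => hF i (Or.inr hi)) hFf
  letI := φ.toAlgebra
  exact ⟨((ModuleCat.extendScalars.{u, u, u} φ).mapHomologicalComplex (ComplexShape.up ℤ)).obj F,
    fun i hi => (ModuleCat.extendScalars.{u, u, u} φ).map_isZero (hF i hi),
    fun i => flat_ES (B := B) (F.X i) (hFf i), ⟨eL.symm ≪≫ (LBaseChange φ).mapIso e⟩⟩

/-- derived base change preserves perfect objects (S6957) -/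
theorem isPerfect_lBaseChange (φ : A →+* B) [HasLBaseChange φ] (K : Dual.D A)
    (hK : IsPerfect A K) : IsPerfect B ((LBaseChange φ).obj K) := by
  obtain ⟨E, a, b, hE, hEfp, ⟨e⟩⟩ := hK
  haveI : E.IsKProjective :=
    isKProjective_of_projective_bounded E b (fun i hi => hE i (Or.inr hi)) (fun i => (hEfp i).2)
  obtain ⟨eL⟩ := nonempty_lBaseChange_iso_of_isKProjective φ E
  letI := φ.toAlgebra
  exact ⟨((ModuleCat.extendScalars.{u, u, u} φ).mapHomologicalComplex (ComplexShape.up ℤ)).obj E,
    a, b, fun i hi => (ModuleCat.extendScalars.{u, u, u} φ).map_isZero (hE i hi),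
    fun i => ⟨finite_ES (B := B) (E.X i) (hEfp i).1, projective_ES (B := B) (E.X i) (hEfp i).2⟩,
    ⟨eL.symm ≪≫ (LBaseChange φ).mapIso e⟩⟩

end Applications

end Groth.Agent.Lib.DMod_helper6
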