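import Mathlib
import Groth.Prelude.Def_DRing2
import Groth.Prelude.Def_DDual2
import Groth.Agent.Lib.DMod48_helper6

/-!
# Derived category toolkit (helper6), part 49: pseudo-coherent complexes over a local ring whose
derived reduction to the residue field is bounded below are perfect.
-/

set_option autoImplicit false
universe u
open CategoryTheory CategoryTheory.Limits Pretriangulated DerivedCategory ZeroObject
open scoped TensorProduct ChangeOfRings
attribute [local instance] HasDerivedCategory.standard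

namespace Groth.Agent.Lib.DMod_helper6

open DRing CochainComplex Groth.Agent.ExtendScalarsLib

lemma function_exact_iff_of_equiv {X₁ X₂ X₃ Y₁ Y₂ Y₃ : Type*} [Zero X₃] [Zero Y₃]
    (e₁ : X₁ ≃ Y₁) (e₂ : X₂ ≃ Y₂) (e₃ : X₃ ≃ Y₃) (he₃ : e₃ 0 = 0)
    (f : X₁ → X₂) (g : X₂ → X₃) (f' : Y₁ → Y₂) (g' : Y₂ → Y₃)
    (h₁ : ∀ x, e₂ (f x) = f' (e₁ x)) (h₂ : ∀ x, e₃ (g x) = g' (e₂ x)) :
    Function.Exact f g ↔ Function.Exact f' g' := by
  have hz : ∀ x, e₃ x = 0 ↔ x = 0 := fun x =>
    ⟨fun hx => e₃.injective (hx.trans he₃.symm), fun hx => by rw [hx, he₃]⟩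
  have hr : ∀ x, e₂ x ∈ Set.range f' ↔ x ∈ Set.range f := by
    intro x
    constructor
    · rintro ⟨w, hw⟩
      obtain ⟨z, rfl⟩ := e₁.surjective w
      exact ⟨z, e₂.injective ((h₁ z).trans hw)⟩
    · rintro ⟨z, rfl⟩
      exact ⟨e₁ z, (h₁ z).symm⟩
  constructor
  · intro h y
    obtain ⟨x, rfl⟩ := e₂.surjective y
    rw [← h₂, hz, h x, hr]
  · intro h x
    rw [← hr, ← h (e₂ x), ← h₂, hz]

section ES

variable {A B : Type u} [CommRing A] [CommRing B] [Algebra A B]

lemma exact_ES_map_iff {M₁ M₂ M₃ : ModuleCat.{u} A} (f : M₁ ⟶ M₂) (g : M₂ ⟶ M₃) :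
    Function.Exact ((ES A B).map f).hom ((ES A B).map g).hom ↔
      Function.Exact (f.hom.lTensor B) (g.hom.lTensor B) :=
  function_exact_iff_of_equiv (extendScalarsEquivTensor (S := B) M₁).toEquiv
    (extendScalarsEquivTensor (S := B) M₂).toEquiv (extendScalarsEquivTensor (S := B) M₃).toEquiv
    (map_zero (extendScalarsEquivTensor (S := B) M₃)) _ _ _ _ (fun x => ES_map_comm f x) (fun x => ES_map_comm g x)

end ES

section Local

variable {R : Type u} [CommRing R] [IsLocalRing R]

open IsLocalRing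

lemma injective_lTensor_liftQ {M₁ M₂ M₃ : Type u} [AddCommGroup M₁] [AddCommGroup M₂]
    [AddCommGroup M₃] [Module R M₁] [Module R M₂] [Module R M₃]
    (f : M₁ →ₗ[R] M₂) (g : M₂ →ₗ[R] M₃) (hN : LinearMap.range f ≤ LinearMap.ker g)
    (h : Function.Exact (f.lTensor (ResidueField R)) (g.lTensor (ResidueField R))) :
    Function.Injective (((LinearMap.range f).liftQ g hN).lTensor (ResidueField R)) := by
  have hcomp : ((LinearMap.range f).liftQ g hN) ∘ₗ (LinearMap.range f).mkQ = g :=
    (LinearMap.range f).liftQ_mkQ g hN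
  rw [injective_iff_map_eq_zero]
  intro x hx
  obtain ⟨y, rfl⟩ := LinearMap.lTensor_surjective (ResidueField R)
    ((LinearMap.range f).mkQ_surjective) x
  have h0 : g.lTensor (ResidueField R) y = 0 := by
    rw [← hcomp, LinearMap.lTensor_comp, LinearMap.comp_apply]
    exact hx
  obtain ⟨z, rfl⟩ := (h y).1 h0
  rw [← LinearMap.comp_apply, ← LinearMap.lTensor_comp]
  have h1 : (LinearMap.range f).mkQ ∘ₗ f = 0 := by
    ext x
    simp
  rw [h1, LinearMap.lTensor_zero, LinearMap.zero_apply]

theorem free_coker_of_exact_lTensor_residueField {M₁ M₂ M₃ : Type u} [AddCommGroup M₁]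
    [AddCommGroup M₂] [AddCommGroup M₃] [Module R M₁] [Module R M₂] [Module R M₃]
    [Module.Finite R M₂] [Module.Finite R M₃] [Module.Free R M₃]
    (f : M₁ →ₗ[R] M₂) (g : M₂ →ₗ[R] M₃) (hgf : g ∘ₗ f = 0)
    (h : Function.Exact (f.lTensor (ResidueField R)) (g.lTensor (ResidueField R))) :
    Module.Free R (M₃ ⧸ LinearMap.range g) := by
  have hN : LinearMap.range f ≤ LinearMap.ker g := by
    rintro _ ⟨x, rfl⟩
    exact LinearMap.congr_fun hgf x
  have hinj := injective_lTensor_liftQ f g hN h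
  have hrange : LinearMap.range ((LinearMap.range f).liftQ g hN) = LinearMap.range g :=
    (LinearMap.range f).range_liftQ g hN
  have hex : Function.Exact ((LinearMap.range f).liftQ g hN) (LinearMap.range g).mkQ := by
    rw [LinearMap.exact_iff, Submodule.ker_mkQ, hrange]
  exact Module.free_of_lTensor_residueField_injective ((LinearMap.range f).liftQ g hN)
    (LinearMap.range g).mkQ (Submodule.mkQ_surjective _) hex hinj

theorem exact_of_exact_lTensor_residueField {M₁ M₂ M₃ : Type u} [AddCommGroup M₁]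
    [AddCommGroup M₂] [AddCommGroup M₃] [Module R M₁] [Module R M₂] [Module R M₃]
    [Module.Finite R M₂] [Module.Finite R M₃] [Module.Free R M₃]
    (f : M₁ →ₗ[R] M₂) (g : M₂ →ₗ[R] M₃) (hgf : g ∘ₗ f = 0)
    (h : Function.Exact (f.lTensor (ResidueField R)) (g.lTensor (ResidueField R))) :
    Function.Exact f g := by
  have hN : LinearMap.range f ≤ LinearMap.ker g := by
    rintro _ ⟨x, rfl⟩
    exact LinearMap.congr_fun hgf x
  have hinj := injective_lTensor_liftQ f g hN h
  obtain ⟨l', hl'⟩ := (IsLocalRing.split_injective_iff_lTensor_residueField_injective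
    ((LinearMap.range f).liftQ g hN)).2 hinj
  intro y
  constructor
  · intro hy
    have h1 : ((LinearMap.range f).liftQ g hN) ((LinearMap.range f).mkQ y) = 0 := hy
    have h2 : (LinearMap.range f).mkQ y = 0 := by
      have := LinearMap.congr_fun hl' ((LinearMap.range f).mkQ y)
      rw [LinearMap.comp_apply, h1, map_zero] at this
      exact this.symm
    exact (Submodule.Quotient.mk_eq_zero (LinearMap.range f)).1 h2
  · rintro ⟨x, rfl⟩
    exact LinearMap.congr_fun hgf x

/-- pseudo-coherent + derived reduction to the residue field vanishing below `a` implies perfect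
with tor amplitude in `[a, b]` -/
theorem isPerfect_of_residue_vanishing [HasLBaseChange (IsLocalRing.residue R)] (K : Dual.D R)
    (hK : IsPseudoCoherent' R K) (a : ℤ)
    (h : ∀ i : ℤ, i < a → Subsingleton (Dual.HD (IsLocalRing.ResidueField R)
      ((LBaseChange (IsLocalRing.residue R)).obj K) i)) :
    IsPerfect R K ∧ ∃ b, HasTorAmplitudeIn R a b K := by
  obtain ⟨c, rfl⟩ : ∃ c, a = c + 1 := ⟨a - 1, by ring⟩
  obtain ⟨P, b, hPb, hPff, ⟨e⟩⟩ := hK
  haveI : P.IsKProjective := isKProjective_of_projective_bounded P b hPb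
    (fun j => by haveI := (hPff j).2; infer_instance)
  obtain ⟨eL⟩ := nonempty_lBaseChange_iso_of_isKProjective (IsLocalRing.residue R) P
  have e1 : toD (((ModuleCat.extendScalars.{u, u, u} (IsLocalRing.residue R)).mapHomologicalComplex
      (ComplexShape.up ℤ)).obj P) ≅ (LBaseChange (IsLocalRing.residue R)).obj K :=
    eL.symm ≪≫ (LBaseChange (IsLocalRing.residue R)).mapIso e
  have hES : ∀ i, i < c + 1 →
      (((ModuleCat.extendScalars.{u, u, u} (IsLocalRing.residue R)).mapHomologicalComplex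
        (ComplexShape.up ℤ)).obj P).ExactAt i :=
    fun i hi => (exactAt_iff_subsingleton_HD e1 i).2 (h i hi)
  have hκ : ∀ i, i < c + 1 →
      Function.Exact ((P.d (i - 1) i).hom.lTensor (ResidueField R))
        ((P.d i (i + 1)).hom.lTensor (ResidueField R)) := fun i hi =>
    (exact_ES_map_iff (A := R) (B := ResidueField R) (P.d (i - 1) i) (P.d i (i + 1))).1
      (function_exact_of_exactAt _ (i - 1) i (i + 1) (by omega) rfl (hES i hi))
  have hcomp : ∀ i, (P.d i (i + 1)).hom ∘ₗ (P.d (i - 1) i).hom = 0 := fun i => by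
    rw [← ModuleCat.hom_comp, P.d_comp_d]
    rfl
  haveI : ∀ i, Module.Finite R (P.X i) := fun i => (hPff i).1
  haveI : ∀ i, Module.Free R (P.X i) := fun i => (hPff i).2
  have hex : ∀ i, i ≤ c → P.ExactAt i := fun i hi =>
    exactAt_of_function_exact P (i - 1) i (i + 1) (by omega) rfl
      (exact_of_exact_lTensor_residueField _ _ (hcomp i) (hκ i (by omega)))
  have hfree : Module.Free R (P.X (c + 1) ⧸ LinearMap.range (P.d c (c + 1)).hom) :=
    free_coker_of_exact_lTensor_residueField _ _ (hcomp c) (hκ c (by omega))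
  have hflat : TermwiseFlat P := fun i => Module.Flat.of_free
  obtain ⟨T, π, hπ, hT0, hTf, hTz⟩ := exists_flat_trunc P c hex hflat
    (by haveI := hfree; exact Module.Flat.of_free)
  have hamp : HasTorAmplitudeIn R (c + 1) b K :=
    ⟨T, fun i hi => by
      rcases hi with hi | hi
      · exact hT0 i (by omega)
      · exact hTz i (hPb i hi), hTf, ⟨(asIso (Q.map π)).symm ≪≫ e⟩⟩
  exact ⟨(isPerfect_iff_pc_and_finiteTorDim K).2 ⟨⟨P, b, hPb, hPff, ⟨e⟩⟩, ⟨c + 1, b, hamp⟩⟩,
    ⟨b, hamp⟩⟩

end Local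

end Groth.Agent.Lib.DMod_helper6
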