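import Groth.Agent.Lib.HomologyColim_helper5

/-!
# `Tor_n(-, N)` commutes with filtered colimits (helper5)
-/

set_option autoImplicit false

open CategoryTheory Limits MonoidalCategory

universe u

namespace Groth.Agent.TorColim

variable {R : Type u} [CommRing R]

/-- The functor `M ↦ M ⊗ P•` for a fixed chain complex `P•`. -/
noncomputable def tensCx (P : ChainComplex (ModuleCat.{u} R) ℕ) :
    ModuleCat.{u} R ⥤ ChainComplex (ModuleCat.{u} R) ℕ where
  obj M := (((tensoringLeft (ModuleCat.{u} R)).obj M).mapHomologicalComplex _).obj P
  map f := (NatTrans.mapHomologicalComplex ((tensoringLeft (ModuleCat.{u} R)).map f) _).app P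
  map_id M := by
    rw [CategoryTheory.Functor.map_id, NatTrans.mapHomologicalComplex_id]
    rfl
  map_comp f g := by
    rw [CategoryTheory.Functor.map_comp, NatTrans.mapHomologicalComplex_comp]
    rfl

/-- `Tor_n(-, N)` as homology of `- ⊗ P•` for a projective resolution `P•` of `N`. -/
noncomputable def torFlipIso (N : ModuleCat.{u} R) (P : ProjectiveResolution N) (n : ℕ) :
    (CategoryTheory.Tor (ModuleCat.{u} R) n).flip.obj N ≅
      tensCx P.complex ⋙ HomologicalComplex.homologyFunctor (ModuleCat.{u} R) _ n :=
  NatIso.ofComponents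
    (fun M => P.isoLeftDerivedObj ((tensoringLeft (ModuleCat.{u} R)).obj M) n)
    (fun {M M'} f => by
      have h := ProjectiveResolution.leftDerived_app_eq
        ((tensoringLeft (ModuleCat.{u} R)).map f) P n
      have h2 : (NatTrans.leftDerived ((tensoringLeft (ModuleCat.{u} R)).map f) n).app N ≫
          (P.isoLeftDerivedObj ((tensoringLeft (ModuleCat.{u} R)).obj M') n).hom =
          (P.isoLeftDerivedObj ((tensoringLeft (ModuleCat.{u} R)).obj M) n).hom ≫
          (HomologicalComplex.homologyFunctor (ModuleCat.{u} R) _ n).map
            ((NatTrans.mapHomologicalComplex ((tensoringLeft (ModuleCat.{u} R)).map f) _).app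
              P.complex) := by
        rw [h, Category.assoc, Category.assoc, Iso.inv_hom_id, Category.comp_id]
      exact h2)

variable {J : Type u} [SmallCategory J] [IsFiltered J]

instance (P : ChainComplex (ModuleCat.{u} R) ℕ) : PreservesColimitsOfShape J (tensCx P) := by
  apply HomologicalComplex.preservesColimitsOfShape_of_eval
  intro i
  have e : tensCx P ⋙ HomologicalComplex.eval _ _ i ≅ tensorRight (P.X i) :=
    NatIso.ofComponents (fun M => Iso.refl _) (fun {M M'} f => by
      exact (Category.comp_id _).trans (Category.id_comp _).symm)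
  exact preservesColimitsOfShape_of_natIso e.symm

/-- S3525. -/
theorem preservesColimitsOfShape_tor_flip (N : ModuleCat.{u} R) (n : ℕ) :
    PreservesColimitsOfShape J ((CategoryTheory.Tor (ModuleCat.{u} R) n).flip.obj N) :=
  preservesColimitsOfShape_of_natIso (torFlipIso N (ProjectiveResolution.of N) n).symm

/-- S6317. -/
theorem preservesFilteredColimits_tor_flip (N : ModuleCat.{u} R) (n : ℕ) :
    PreservesFilteredColimits ((CategoryTheory.Tor (ModuleCat.{u} R) n).flip.obj N) :=
  ⟨fun J _ _ => preservesColimitsOfShape_tor_flip N n⟩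

end Groth.Agent.TorColim
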