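import Groth.Agent.Lib.TorColim2_helper5
import Groth.Agent.Lib.TorColim_helper5
import Groth.Agent.Lib.TorAR_helper5

/-!
# Balancing of `Tor` for modules (helper5)

Mathlib's `Tor (ModuleCat R) n` left-derives `M ⊗ -` (it resolves the second variable).  For a
flat resolution `C → M` of the FIRST variable we construct isomorphisms of functors (in `N`)
`Tor_n(M, N) ≅ H_n(N ⊗ C)` by dimension shifting along the syzygies of `C`.
-/

set_option autoImplicit false
set_option maxHeartbeats 400000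
universe u
open CategoryTheory CategoryTheory.Limits MonoidalCategory TensorProduct

namespace Groth.Agent.TorBal

open Groth.Agent.TorLES Groth.Agent.TorNat Groth.Agent.TorAR Groth.Agent.TorColim
  Groth.Agent.HomologyColim

variable {R : Type u} [CommRing R]

section kernels

variable {Cc : Type*} [Category Cc]

/-- a pointwise left exact sequence of functors `0 → T → U → V`. -/
structure LeftEx (T U V : Cc ⥤ ModuleCat.{u} R) where
  /-- the injection -/
  δ : T ⟶ U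
  /-- the second map -/
  a : U ⟶ V
  w : ∀ X, δ.app X ≫ a.app X = 0
  mono : ∀ X, Mono (δ.app X)
  exact : ∀ X, (ShortComplex.mk (δ.app X) (a.app X) (w X)).Exact

namespace LeftEx

variable {T U V T' U' V' T'' U'' V'' : Cc ⥤ ModuleCat.{u} R}

lemma map_aux (E : LeftEx T U V) (E' : LeftEx T' U' V') (θU : U ⟶ U') (θV : V ⟶ V')
    (hc : E.a ≫ θV = θU ≫ E'.a) (X : Cc) :
    (E.δ.app X ≫ θU.app X) ≫ E'.a.app X = 0 := by
  have h : E.a.app X ≫ θV.app X = θU.app X ≫ E'.a.app X := by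
    rw [← NatTrans.comp_app, hc, NatTrans.comp_app]
  rw [Category.assoc, ← h, reassoc_of% (E.w X), zero_comp]

/-- the map induced on kernels, componentwise. -/
noncomputable def mapApp (E : LeftEx T U V) (E' : LeftEx T' U' V') (θU : U ⟶ U') (θV : V ⟶ V')
    (hc : E.a ≫ θV = θU ≫ E'.a) (X : Cc) : T.obj X ⟶ T'.obj X :=
  haveI := E'.mono X
  (E'.exact X).lift (E.δ.app X ≫ θU.app X) (map_aux E E' θU θV hc X)

lemma mapApp_δ (E : LeftEx T U V) (E' : LeftEx T' U' V') (θU : U ⟶ U') (θV : V ⟶ V')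
    (hc : E.a ≫ θV = θU ≫ E'.a) (X : Cc) :
    mapApp E E' θU θV hc X ≫ E'.δ.app X = E.δ.app X ≫ θU.app X :=
  haveI := E'.mono X
  (E'.exact X).lift_f (E.δ.app X ≫ θU.app X) (map_aux E E' θU θV hc X)

/-- the map induced on kernels. -/
noncomputable def map (E : LeftEx T U V) (E' : LeftEx T' U' V') (θU : U ⟶ U') (θV : V ⟶ V')
    (hc : E.a ≫ θV = θU ≫ E'.a) : T ⟶ T' where
  app X := mapApp E E' θU θV hc X
  naturality X Y f := by
    haveI := E'.mono Y
    rw [← cancel_mono (E'.δ.app Y), Category.assoc, Category.assoc, mapApp_δ,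
      E'.δ.naturality, reassoc_of% (mapApp_δ E E' θU θV hc X), E.δ.naturality_assoc,
      θU.naturality]

lemma map_δ (E : LeftEx T U V) (E' : LeftEx T' U' V') (θU : U ⟶ U') (θV : V ⟶ V')
    (hc : E.a ≫ θV = θU ≫ E'.a) : map E E' θU θV hc ≫ E'.δ = E.δ ≫ θU := by
  ext X : 2
  exact mapApp_δ E E' θU θV hc X

lemma hom_ext (E' : LeftEx T' U' V') {W : Cc ⥤ ModuleCat.{u} R} {f g : W ⟶ T'}
    (h : f ≫ E'.δ = g ≫ E'.δ) : f = g := by
  ext X : 2
  haveI := E'.mono X
  rw [← cancel_mono (E'.δ.app X), ← NatTrans.comp_app, h, NatTrans.comp_app]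

/-- the isomorphism induced on kernels. -/
noncomputable def iso (E : LeftEx T U V) (E' : LeftEx T' U' V') (θU : U ≅ U') (θV : V ≅ V')
    (hc : E.a ≫ θV.hom = θU.hom ≫ E'.a) : T ≅ T' where
  hom := map E E' θU.hom θV.hom hc
  inv := map E' E θU.inv θV.inv (by
    rw [Iso.comp_inv_eq, Category.assoc, Iso.eq_inv_comp, hc])
  hom_inv_id := by
    apply hom_ext E
    rw [Category.assoc, map_δ, reassoc_of% (map_δ E E' θU.hom θV.hom hc), Iso.hom_inv_id,
      Category.comp_id, Category.id_comp]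
  inv_hom_id := by
    apply hom_ext E'
    rw [Category.assoc, map_δ, reassoc_of% (map_δ E' E θU.inv θV.inv (by
      rw [Iso.comp_inv_eq, Category.assoc, Iso.eq_inv_comp, hc])), Iso.inv_hom_id,
      Category.comp_id, Category.id_comp]

lemma iso_hom_δ (E : LeftEx T U V) (E' : LeftEx T' U' V') (θU : U ≅ U') (θV : V ≅ V')
    (hc : E.a ≫ θV.hom = θU.hom ≫ E'.a) : (iso E E' θU θV hc).hom ≫ E'.δ = E.δ ≫ θU.hom :=
  map_δ E E' θU.hom θV.hom hc

end LeftEx

end kernels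


section tor0

/-- `Tor_0(X, -) ≅ - ⊗ X`. -/
noncomputable def tor0Iso (X : ModuleCat.{u} R) :
    (Tor (ModuleCat.{u} R) 0).obj X ≅ tensorRight X :=
  NatIso.ofComponents (fun N => τ X N ≪≫ β_ X N) (fun {N N'} f => by
    change ((Tor (ModuleCat.{u} R) 0).obj X).map f ≫ (τ X N').hom ≫ (β_ X N').hom =
      ((τ X N).hom ≫ (β_ X N).hom) ≫ f ▷ X
    rw [reassoc_of% (τ_naturality_right X f), Category.assoc,
      BraidedCategory.braiding_naturality_right])

lemma tor0Iso_naturality {X X' : ModuleCat.{u} R} (g : X ⟶ X') :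
    (Tor (ModuleCat.{u} R) 0).map g ≫ (tor0Iso X').hom =
      (tor0Iso X).hom ≫ (tensoringRight (ModuleCat.{u} R)).map g := by
  ext N : 2
  change ((Tor (ModuleCat.{u} R) 0).map g).app N ≫ (τ X' N).hom ≫ (β_ X' N).hom =
    ((τ X N).hom ≫ (β_ X N).hom) ≫ N ◁ g
  rw [reassoc_of% (τ_naturality_left g N), Category.assoc,
    BraidedCategory.braiding_naturality_left]

/-- the left exact sequence `0 → Tor_1(X₃,-) → Tor_0(X₁,-) → Tor_0(X₂,-)` when `X₂` is flat. -/
noncomputable def tEx (S : ShortComplex (ModuleCat.{u} R)) (hS : S.ShortExact)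
    (hflat : Module.Flat R S.X₂) :
    LeftEx ((Tor (ModuleCat.{u} R) 1).obj S.X₃) ((Tor (ModuleCat.{u} R) 0).obj S.X₁)
      ((Tor (ModuleCat.{u} R) 0).obj S.X₂) where
  δ := torδNat S hS 0
  a := (Tor (ModuleCat.{u} R) 0).map S.f
  w N := torδ_comp S hS 0 N
  mono N := mono_torδ S hS 0 N (isZero_tor_succ_of_flat_left _ _ 0)
  exact N := (ShortComplex.moduleCat_exact_iff _).mpr
    (fun y hy => exists_torδ_eq S hS 0 N y hy)

/-- dimension shifting `Tor_{n+2}(X₃,-) ≅ Tor_{n+1}(X₁,-)` when `X₂` is flat. -/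
noncomputable def shift (S : ShortComplex (ModuleCat.{u} R)) (hS : S.ShortExact)
    (hflat : Module.Flat R S.X₂) (n : ℕ) :
    (Tor (ModuleCat.{u} R) (n + 2)).obj S.X₃ ≅ (Tor (ModuleCat.{u} R) (n + 1)).obj S.X₁ :=
  haveI : ∀ Y, IsIso ((torδNat S hS (n + 1)).app Y) := fun Y =>
    isIso_torδ S hS (n + 1) Y (isZero_tor_succ_of_flat_left _ _ (n + 1))
      (isZero_tor_succ_of_flat_left _ _ n)
  haveI : IsIso (torδNat S hS (n + 1)) := NatIso.isIso_of_isIso_app _
  asIso (torδNat S hS (n + 1))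

lemma shift_hom (S : ShortComplex (ModuleCat.{u} R)) (hS : S.ShortExact)
    (hflat : Module.Flat R S.X₂) (n : ℕ) : (shift S hS hflat n).hom = torδNat S hS (n + 1) := rfl

end tor0

section kappa

variable (L : ChainComplex (ModuleCat.{u} R) ℕ) (i : ℕ)

lemma exists_iCycles_eq_succ (y : L.X (i + 1)) (hy : L.d (i + 1) i y = 0) :
    ∃ z : L.cycles (i + 1), L.iCycles (i + 1) z = y := by
  have hS : (ShortComplex.mk (L.iCycles (i + 1)) (L.d (i + 1) i) (L.iCycles_d (i + 1) i)).Exact :=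
    ShortComplex.exact_of_f_is_kernel _ (L.cyclesIsKernel (i + 1) i (by simp))
  exact (ShortComplex.moduleCat_exact_iff _).mp hS y hy

lemma exists_iCycles_eq_zero (y : L.X 0) : ∃ z : L.cycles 0, L.iCycles 0 z = y := by
  apply exists_iCycles_eq L 0
  rw [L.shape 0 _ (by simp)]
  rfl

lemma homologyπ_eq_zero_iff' (z : L.cycles i) :
    L.homologyπ i z = 0 ↔ ∃ w : L.X (i + 1), L.toCycles (i + 1) i w = z := by
  have hS : (ShortComplex.mk (L.toCycles (i + 1) i) (L.homologyπ i)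
      (L.toCycles_comp_homologyπ _ _)).Exact :=
    ShortComplex.exact_of_g_is_cokernel _ (L.homologyIsCokernel (i + 1) i (by simp))
  constructor
  · intro h
    exact (ShortComplex.moduleCat_exact_iff _).mp hS z h
  · rintro ⟨w, rfl⟩
    exact congrArg (fun f => f.hom w) (L.toCycles_comp_homologyπ (i + 1) i)

lemma iCycles_toCycles' (w : L.X (i + 1)) :
    L.iCycles i (L.toCycles (i + 1) i w) = L.d (i + 1) i w :=
  congrArg (fun f => f.hom w) (L.toCycles_i (i + 1) i)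

variable {W : ModuleCat.{u} R} (p : L.X i ⟶ W) (hp : L.d (i + 1) i ≫ p = 0)

/-- the map `H_i(L) ⟶ W` induced by `p : L_i ⟶ W` killing boundaries. -/
noncomputable def κ : L.homology i ⟶ W :=
  L.homologyι i ≫ L.descOpcycles p (i + 1) (by simp) hp

lemma π_κ : L.homologyπ i ≫ κ L i p hp = L.iCycles i ≫ p := by
  unfold κ
  rw [HomologicalComplex.homology_π_ι_assoc, HomologicalComplex.p_descOpcycles]

lemma κ_π (z : L.cycles i) : κ L i p hp (L.homologyπ i z) = p (L.iCycles i z) :=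
  congrArg (fun f => f.hom z) (π_κ L i p hp)

lemma κ_injective (hex : ∀ x : L.X i, p x = 0 → ∃ y : L.X (i + 1), L.d (i + 1) i y = x) :
    Function.Injective (κ L i p hp) := by
  have key : ∀ h : L.homology i, κ L i p hp h = 0 → h = 0 := by
    intro h hh
    obtain ⟨z, rfl⟩ := exists_homologyπ_eq L i h
    rw [κ_π] at hh
    obtain ⟨y, hy⟩ := hex _ hh
    rw [homologyπ_eq_zero_iff']
    exact ⟨y, iCycles_injective L i (by rw [iCycles_toCycles', hy])⟩
  intro a b hab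
  have h1 : κ L i p hp (a - b) = 0 := by rw [map_sub, hab, sub_self]
  exact sub_eq_zero.mp (key _ h1)

lemma κ_surjective_zero {W : ModuleCat.{u} R} (p : L.X 0 ⟶ W) (hp : L.d 1 0 ≫ p = 0)
    (hsurj : Function.Surjective p) : Function.Surjective (κ L 0 p hp) := by
  intro w
  obtain ⟨x, rfl⟩ := hsurj w
  obtain ⟨z, rfl⟩ := exists_iCycles_eq_zero L x
  exact ⟨L.homologyπ 0 z, κ_π L 0 p hp z⟩

lemma κ_comp {W : ModuleCat.{u} R} (p : L.X (i + 1) ⟶ W) (hp : L.d (i + 2) (i + 1) ≫ p = 0)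
    (q : W ⟶ L.X i) (hpq : p ≫ q = L.d (i + 1) i) : κ L (i + 1) p hp ≫ q = 0 := by
  rw [← cancel_epi (L.homologyπ (i + 1)), reassoc_of% (π_κ L (i + 1) p hp), hpq,
    HomologicalComplex.iCycles_d, comp_zero]

lemma κ_exact {W : ModuleCat.{u} R} (p : L.X (i + 1) ⟶ W) (hp : L.d (i + 2) (i + 1) ≫ p = 0)
    (q : W ⟶ L.X i) (hpq : p ≫ q = L.d (i + 1) i) (hsurj : Function.Surjective p)
    (w : W) (hw : q w = 0) : ∃ h, κ L (i + 1) p hp h = w := by
  obtain ⟨x, rfl⟩ := hsurj w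
  have hx : L.d (i + 1) i x = 0 := by
    rw [← hpq]
    exact hw
  obtain ⟨z, rfl⟩ := exists_iCycles_eq_succ L i x hx
  exact ⟨L.homologyπ (i + 1) z, κ_π L (i + 1) p hp z⟩

lemma κ_naturality {L L' : ChainComplex (ModuleCat.{u} R) ℕ} (φ : L ⟶ L') (i : ℕ)
    {W W' : ModuleCat.{u} R} (p : L.X i ⟶ W) (hp : L.d (i + 1) i ≫ p = 0)
    (p' : L'.X i ⟶ W') (hp' : L'.d (i + 1) i ≫ p' = 0) (g : W ⟶ W')
    (hg : φ.f i ≫ p' = p ≫ g) :
    HomologicalComplex.homologyMap φ i ≫ κ L' i p' hp' = κ L i p hp ≫ g := by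
  unfold κ
  rw [HomologicalComplex.homologyι_naturality_assoc, Category.assoc,
    HomologicalComplex.opcyclesMap_comp_descOpcycles, HomologicalComplex.descOpcycles_comp]
  simp only [hg]

end kappa


/-- a flat resolution of `M` (elementwise exactness). -/
structure FlatRes (M : ModuleCat.{u} R) where
  /-- the complex -/
  C : ChainComplex (ModuleCat.{u} R) ℕ
  flat : ∀ i, Module.Flat R (C.X i)
  /-- the augmentation -/
  ε : C.X 0 ⟶ M
  w : C.d 1 0 ≫ ε = 0
  surj : Function.Surjective ε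
  exact₀ : ∀ x : C.X 0, ε x = 0 → ∃ y : C.X 1, C.d 1 0 y = x
  exact : ∀ (n : ℕ) (x : C.X (n + 1)), C.d (n + 1) n x = 0 →
    ∃ y : C.X (n + 2), C.d (n + 2) (n + 1) y = x

namespace FlatRes

variable {M : ModuleCat.{u} R} (D : FlatRes M)

/-- the syzygy `Z k = im(d : C_{k+1} → C_k)`. -/
noncomputable def Z (k : ℕ) : ModuleCat.{u} R :=
  ModuleCat.of R (LinearMap.range (D.C.d (k + 1) k).hom)

/-- the inclusion `Z k ⟶ C_k`. -/
noncomputable def ι (k : ℕ) : D.Z k ⟶ D.C.X k :=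
  ModuleCat.ofHom (LinearMap.range (D.C.d (k + 1) k).hom).subtype

/-- the projection `C_{k+1} ⟶ Z k`. -/
noncomputable def π (k : ℕ) : D.C.X (k + 1) ⟶ D.Z k :=
  ModuleCat.ofHom (D.C.d (k + 1) k).hom.rangeRestrict

lemma π_ι (k : ℕ) : D.π k ≫ D.ι k = D.C.d (k + 1) k := by
  ext x
  rfl

lemma ι_π_apply (k : ℕ) (x : D.C.X (k + 1)) : D.ι k (D.π k x) = D.C.d (k + 1) k x := rfl

lemma ι_injective (k : ℕ) : Function.Injective (D.ι k) :=
  Subtype.val_injective

lemma π_surjective (k : ℕ) : Function.Surjective (D.π k) :=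
  LinearMap.surjective_rangeRestrict _

lemma π_eq_zero_iff (k : ℕ) (x : D.C.X (k + 1)) : D.π k x = 0 ↔ D.C.d (k + 1) k x = 0 := by
  rw [← ι_π_apply]
  constructor
  · intro h
    rw [h, map_zero]
  · intro h
    apply D.ι_injective k
    rw [h, map_zero]

lemma d_d_apply (i j k : ℕ) (x : D.C.X i) : D.C.d j k (D.C.d i j x) = 0 :=
  congrArg (fun f => f.hom x) (D.C.d_comp_d i j k)

lemma ι_ε : D.ι 0 ≫ D.ε = 0 := by
  ext ⟨x, y, rfl⟩
  exact congrArg (fun f => f.hom y) D.w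

lemma ι_π (k : ℕ) : D.ι (k + 1) ≫ D.π k = 0 := by
  ext ⟨x, y, rfl⟩
  change D.π k (D.C.d (k + 2) (k + 1) y) = 0
  rw [π_eq_zero_iff, d_d_apply]

/-- `0 → Z 0 → C_0 → M → 0`. -/
noncomputable def S₀ : ShortComplex (ModuleCat.{u} R) := ShortComplex.mk (D.ι 0) D.ε D.ι_ε

/-- `0 → Z (k+1) → C_{k+1} → Z k → 0`. -/
noncomputable def Ssucc (k : ℕ) : ShortComplex (ModuleCat.{u} R) :=
  ShortComplex.mk (D.ι (k + 1)) (D.π k) (D.ι_π k)

lemma S₀_shortExact : D.S₀.ShortExact where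
  exact := (ShortComplex.moduleCat_exact_iff _).mpr (fun x hx => by
    obtain ⟨y, hy⟩ := D.exact₀ x hx
    exact ⟨D.π 0 y, hy⟩)
  mono_f := (ModuleCat.mono_iff_injective _).mpr (D.ι_injective 0)
  epi_g := (ModuleCat.epi_iff_surjective _).mpr D.surj

lemma Ssucc_shortExact (k : ℕ) : (D.Ssucc k).ShortExact where
  exact := (ShortComplex.moduleCat_exact_iff _).mpr (fun x hx => by
    have hx' : D.C.d (k + 1) k x = 0 := (D.π_eq_zero_iff k x).mp hx
    obtain ⟨y, hy⟩ := D.exact k x hx'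
    exact ⟨D.π (k + 1) y, hy⟩)
  mono_f := (ModuleCat.mono_iff_injective _).mpr (D.ι_injective (k + 1))
  epi_g := (ModuleCat.epi_iff_surjective _).mpr (D.π_surjective k)

/-! ### the homology side -/

lemma cx_d (N : ModuleCat.{u} R) (i j : ℕ) : (CX N D.C).d i j = N ◁ D.C.d i j := rfl

lemma d_π (k : ℕ) : D.C.d (k + 2) (k + 1) ≫ D.π k = 0 := by
  ext y
  change D.π k (D.C.d (k + 2) (k + 1) y) = 0
  rw [π_eq_zero_iff, d_d_apply]

lemma cx_d_π (N : ModuleCat.{u} R) (k : ℕ) :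
    (CX N D.C).d (k + 2) (k + 1) ≫ N ◁ D.π k = 0 := by
  change N ◁ D.C.d (k + 2) (k + 1) ≫ N ◁ D.π k = 0
  rw [← MonoidalCategory.whiskerLeft_comp, d_π]
  exact MonoidalPreadditive.whiskerLeft_zero

lemma cx_π_ι (N : ModuleCat.{u} R) (k : ℕ) :
    N ◁ D.π k ≫ N ◁ D.ι k = (CX N D.C).d (k + 1) k := by
  change N ◁ D.π k ≫ N ◁ D.ι k = N ◁ D.C.d (k + 1) k
  rw [← MonoidalCategory.whiskerLeft_comp, π_ι]

lemma whiskerLeft_surjective (N : ModuleCat.{u} R) {X Y : ModuleCat.{u} R} (f : X ⟶ Y)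
    (hf : Function.Surjective f) : Function.Surjective (N ◁ f) := by
  change Function.Surjective (N ◁ f).hom
  rw [ModuleCat.hom_whiskerLeft]
  exact LinearMap.lTensor_surjective _ hf

lemma whiskerLeft_exact (N : ModuleCat.{u} R) {X Y Z : ModuleCat.{u} R} (f : X ⟶ Y) (g : Y ⟶ Z)
    (hfg : ∀ y, g y = 0 → ∃ x, f x = y) (hfg' : ∀ x, g (f x) = 0)
    (hg : Function.Surjective g) (y : (N ⊗ Y : ModuleCat.{u} R)) (hy : (N ◁ g) y = 0) :
    ∃ x, (N ◁ f) x = y := by
  have hex : Function.Exact f.hom g.hom := by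
    intro y
    constructor
    · intro h
      exact hfg y h
    · rintro ⟨x, rfl⟩
      exact hfg' x
  have h2 : Function.Exact (LinearMap.lTensor N f.hom) (LinearMap.lTensor N g.hom) :=
    lTensor_exact N hex hg
  have hy' : (LinearMap.lTensor N g.hom) y = 0 := by
    rw [← ModuleCat.hom_whiskerLeft]
    exact hy
  obtain ⟨x, hx⟩ := (h2 y).mp hy'
  refine ⟨x, ?_⟩
  change (N ◁ f).hom x = y
  rw [ModuleCat.hom_whiskerLeft]
  exact hx

/-- the natural map `H_{k+1}(N ⊗ C) ⟶ N ⊗ Z k`. -/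
noncomputable def κNat (k : ℕ) :
    tensCx D.C ⋙ HomologicalComplex.homologyFunctor (ModuleCat.{u} R) _ (k + 1) ⟶
      tensorRight (D.Z k) where
  app N := κ (CX N D.C) (k + 1) (N ◁ D.π k) (D.cx_d_π N k)
  naturality N N' f := by
    change HomologicalComplex.homologyMap (cxMap f D.C) (k + 1) ≫
        κ (CX N' D.C) (k + 1) (N' ◁ D.π k) (D.cx_d_π N' k) =
      κ (CX N D.C) (k + 1) (N ◁ D.π k) (D.cx_d_π N k) ≫ f ▷ D.Z k
    apply κ_naturality
    rw [cxMap_f]
    exact (whisker_exchange f (D.π k)).symm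

/-- the left exact sequence `0 → H_{k+1}(N ⊗ C) → N ⊗ Z k → N ⊗ C_k`. -/
noncomputable def hEx (k : ℕ) :
    LeftEx (tensCx D.C ⋙ HomologicalComplex.homologyFunctor (ModuleCat.{u} R) _ (k + 1))
      (tensorRight (D.Z k)) (tensorRight (D.C.X k)) where
  δ := D.κNat k
  a := (tensoringRight (ModuleCat.{u} R)).map (D.ι k)
  w N := κ_comp (CX N D.C) k (N ◁ D.π k) (D.cx_d_π N k) (N ◁ D.ι k) (D.cx_π_ι N k)
  mono N := (ModuleCat.mono_iff_injective _).mpr
    (κ_injective (CX N D.C) (k + 1) (N ◁ D.π k) (D.cx_d_π N k) (fun x hx =>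
      whiskerLeft_exact N (D.C.d (k + 2) (k + 1)) (D.π k)
        (fun y hy => D.exact k y ((D.π_eq_zero_iff k y).mp hy))
        (fun x => by rw [π_eq_zero_iff, d_d_apply]) (D.π_surjective k) x hx))
  exact N := (ShortComplex.moduleCat_exact_iff _).mpr (fun w hw =>
    κ_exact (CX N D.C) k (N ◁ D.π k) (D.cx_d_π N k) (N ◁ D.ι k) (D.cx_π_ι N k)
      (whiskerLeft_surjective N _ (D.π_surjective k)) w hw)

lemma cx_d_ε (N : ModuleCat.{u} R) : (CX N D.C).d 1 0 ≫ N ◁ D.ε = 0 := by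
  change N ◁ D.C.d 1 0 ≫ N ◁ D.ε = 0
  rw [← MonoidalCategory.whiskerLeft_comp, D.w]
  exact MonoidalPreadditive.whiskerLeft_zero

/-- the natural map `H_0(N ⊗ C) ⟶ N ⊗ M`. -/
noncomputable def κ₀Nat :
    tensCx D.C ⋙ HomologicalComplex.homologyFunctor (ModuleCat.{u} R) _ 0 ⟶ tensorRight M where
  app N := κ (CX N D.C) 0 (N ◁ D.ε) (D.cx_d_ε N)
  naturality N N' f := by
    change HomologicalComplex.homologyMap (cxMap f D.C) 0 ≫
        κ (CX N' D.C) 0 (N' ◁ D.ε) (D.cx_d_ε N') =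
      κ (CX N D.C) 0 (N ◁ D.ε) (D.cx_d_ε N) ≫ f ▷ M
    apply κ_naturality
    rw [cxMap_f]
    exact (whisker_exchange f D.ε).symm

instance (N : ModuleCat.{u} R) : IsIso (D.κ₀Nat.app N) := by
  rw [ConcreteCategory.isIso_iff_bijective]
  constructor
  · exact κ_injective (CX N D.C) 0 (N ◁ D.ε) (D.cx_d_ε N) (fun x hx =>
      whiskerLeft_exact N (D.C.d 1 0) D.ε D.exact₀
        (fun x => congrArg (fun f => f.hom x) D.w) D.surj x hx)
  · exact κ_surjective_zero (CX N D.C) (N ◁ D.ε) (D.cx_d_ε N)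
      (whiskerLeft_surjective N _ D.surj)

instance : IsIso D.κ₀Nat := NatIso.isIso_of_isIso_app _

/-! ### the comparison isomorphisms -/

/-- `Tor_1(M, -) ≅ H_1(- ⊗ C)`. -/
noncomputable def base₀ :
    (Tor (ModuleCat.{u} R) 1).obj M ≅
      tensCx D.C ⋙ HomologicalComplex.homologyFunctor (ModuleCat.{u} R) _ 1 :=
  LeftEx.iso (tEx D.S₀ D.S₀_shortExact (D.flat 0)) (D.hEx 0) (tor0Iso (D.Z 0))
    (tor0Iso (D.C.X 0)) (tor0Iso_naturality (D.ι 0))

/-- `Tor_1(Z k, -) ≅ H_{k+2}(- ⊗ C)`. -/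
noncomputable def baseSucc (k : ℕ) :
    (Tor (ModuleCat.{u} R) 1).obj (D.Z k) ≅
      tensCx D.C ⋙ HomologicalComplex.homologyFunctor (ModuleCat.{u} R) _ (k + 2) :=
  LeftEx.iso (tEx (D.Ssucc k) (D.Ssucc_shortExact k) (D.flat (k + 1))) (D.hEx (k + 1))
    (tor0Iso (D.Z (k + 1))) (tor0Iso (D.C.X (k + 1))) (tor0Iso_naturality (D.ι (k + 1)))

/-- `Tor_{n+1}(Z k, -) ≅ Tor_1(Z (k+n), -)`. -/
noncomputable def chain : ∀ (n k j : ℕ), j = k + n →
    ((Tor (ModuleCat.{u} R) (n + 1)).obj (D.Z k) ≅ (Tor (ModuleCat.{u} R) 1).obj (D.Z j))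
  | 0, k, j, h => eqToIso (by subst h; rfl)
  | n + 1, k, j, h =>
    shift (D.Ssucc k) (D.Ssucc_shortExact k) (D.flat (k + 1)) n ≪≫ chain n (k + 1) j (by omega)

/-- the balancing isomorphism `Tor_n(M, -) ≅ H_n(- ⊗ C)`. -/
noncomputable def balIso : ∀ n : ℕ, ((Tor (ModuleCat.{u} R) n).obj M ≅
    tensCx D.C ⋙ HomologicalComplex.homologyFunctor (ModuleCat.{u} R) _ n)
  | 0 => tor0Iso M ≪≫ (asIso D.κ₀Nat).symm
  | 1 => D.base₀
  | n + 2 => shift D.S₀ D.S₀_shortExact (D.flat 0) n ≪≫ D.chain n 0 n (by omega) ≪≫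
      D.baseSucc n

end FlatRes


section applications

/-- the flat resolution attached to a projective resolution. -/
noncomputable def FlatRes.ofProjectiveResolution {M : ModuleCat.{u} R}
    (P : ProjectiveResolution M) : FlatRes M where
  C := P.complex
  flat := flat_of_projRes M P
  ε := P.π.f 0
  w := P.complex_d_comp_π_f_zero
  surj := by
    have h : Epi (P.π.f 0) := inferInstance
    exact (ModuleCat.epi_iff_surjective _).mp h
  exact₀ := (ShortComplex.moduleCat_exact_iff _).mp P.exact₀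
  exact n := (ShortComplex.moduleCat_exact_iff _).mp (P.exact_succ n)

/-- `N ⊗ C ≅ C ⊗ N`. -/
noncomputable def braidCx (N : ModuleCat.{u} R) (C : ChainComplex (ModuleCat.{u} R) ℕ) :
    CX N C ≅ ((tensorRight N).mapHomologicalComplex _).obj C :=
  HomologicalComplex.Hom.isoOfComponents (fun i => β_ N (C.X i)) (fun i j _ => by
    change (β_ N (C.X i)).hom ≫ C.d i j ▷ N = N ◁ C.d i j ≫ (β_ N (C.X j)).hom
    exact (BraidedCategory.braiding_naturality_right N (C.d i j)).symm)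

/-- balancing for an arbitrary flat resolution: `Tor_n(M, N) ≅ H_n(C ⊗ N)`. -/
noncomputable def FlatRes.torIso {M : ModuleCat.{u} R} (D : FlatRes M) (N : ModuleCat.{u} R)
    (n : ℕ) :
    ((Tor (ModuleCat.{u} R) n).obj M).obj N ≅
      (((tensorRight N).mapHomologicalComplex (ComplexShape.down ℕ)).obj D.C).homology n :=
  (D.balIso n).app N ≪≫
    (HomologicalComplex.homologyFunctor (ModuleCat.{u} R) _ n).mapIso (braidCx N D.C)

/-- S3535. -/
theorem tor_iso_homology (M N : ModuleCat.{u} R) (P : ProjectiveResolution M) (n : ℕ) :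
    Nonempty (((Tor (ModuleCat.{u} R) n).obj M).obj N ≅
      (((tensorRight N).mapHomologicalComplex (ComplexShape.down ℕ)).obj P.complex).homology n) :=
  ⟨(FlatRes.ofProjectiveResolution P).torIso N n⟩

/-- `Tor_n(M, N) ≅ Tor'_n(M, N)` (objectwise). -/
noncomputable def torIsoTor' (M N : ModuleCat.{u} R) (n : ℕ) :
    ((Tor (ModuleCat.{u} R) n).obj M).obj N ≅ ((Tor' (ModuleCat.{u} R) n).obj M).obj N :=
  (FlatRes.ofProjectiveResolution (ProjectiveResolution.of M)).torIso N n ≪≫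
    ((ProjectiveResolution.of M).isoLeftDerivedObj (tensorRight N) n).symm

end applications


section les

lemma exact_of_iso_squares {X₁ X₂ X₃ Y₁ Y₂ Y₃ : ModuleCat.{u} R}
    (f : X₁ ⟶ X₂) (g : X₂ ⟶ X₃) (f' : Y₁ ⟶ Y₂) (g' : Y₂ ⟶ Y₃) (w : f ≫ g = 0)
    (w' : f' ≫ g' = 0) (e₁ : X₁ ≅ Y₁) (e₂ : X₂ ≅ Y₂) (e₃ : X₃ ≅ Y₃)
    (c₁ : f ≫ e₂.hom = e₁.hom ≫ f') (c₂ : g ≫ e₃.hom = e₂.hom ≫ g')
    (h : (ShortComplex.mk f' g' w').Exact) : (ShortComplex.mk f g w).Exact :=
  (ShortComplex.exact_iff_of_iso (ShortComplex.isoMk e₁ e₂ e₃ c₁.symm c₂.symm)).mpr h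

variable (M : ModuleCat.{u} R) (S : ShortComplex (ModuleCat.{u} R)) (hS : S.ShortExact)

include hS in
/-- S14422: the long exact sequence of `Tor_i(M, -)` (second variable). -/
theorem tor_les_right (i : ℕ) :
    (∃ w₀ : ((Tor (ModuleCat.{u} R) i).obj M).map S.f ≫
        ((Tor (ModuleCat.{u} R) i).obj M).map S.g = 0,
        (ShortComplex.mk (((Tor (ModuleCat.{u} R) i).obj M).map S.f)
          (((Tor (ModuleCat.{u} R) i).obj M).map S.g) w₀).Exact) ∧
      Epi (((Tor (ModuleCat.{u} R) 0).obj M).map S.g) ∧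
      ∃ (δ : ((Tor (ModuleCat.{u} R) (i + 1)).obj M).obj S.X₃ ⟶
          ((Tor (ModuleCat.{u} R) i).obj M).obj S.X₁)
        (w₁ : ((Tor (ModuleCat.{u} R) (i + 1)).obj M).map S.g ≫ δ = 0)
        (w₂ : δ ≫ ((Tor (ModuleCat.{u} R) i).obj M).map S.f = 0),
        (ShortComplex.mk (((Tor (ModuleCat.{u} R) (i + 1)).obj M).map S.g) δ w₁).Exact ∧
          (ShortComplex.mk δ (((Tor (ModuleCat.{u} R) i).obj M).map S.f) w₂).Exact := by
  let P := ProjectiveResolution.of M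
  let D := FlatRes.ofProjectiveResolution P
  have hSC : (scCX S D.C).ShortExact := scCX_shortExact S hS P.complex (flat_of_projRes M P)
  have hrel : (ComplexShape.down ℕ).Rel (i + 1) i := by simp
  -- the homology functors
  let H : ℕ → ModuleCat.{u} R ⥤ ModuleCat.{u} R := fun n =>
    tensCx D.C ⋙ HomologicalComplex.homologyFunctor (ModuleCat.{u} R) _ n
  let Φ : ∀ n, (Tor (ModuleCat.{u} R) n).obj M ≅ H n := fun n => D.balIso n
  let δ0 : (H (i + 1)).obj S.X₃ ⟶ (H i).obj S.X₁ := hSC.δ (i + 1) i hrel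
  have e2 : ∀ n, (H n).map S.f ≫ (H n).map S.g = 0 := fun n => by
    change HomologicalComplex.homologyMap (scCX S D.C).f n ≫
      HomologicalComplex.homologyMap (scCX S D.C).g n = 0
    rw [← HomologicalComplex.homologyMap_comp, (scCX S D.C).zero,
      HomologicalComplex.homologyMap_zero]
  have ex2 : ∀ n, (ShortComplex.mk ((H n).map S.f) ((H n).map S.g) (e2 n)).Exact := fun n =>
    hSC.homology_exact₂ n
  have e3 : (H (i + 1)).map S.g ≫ δ0 = 0 := hSC.comp_δ (i + 1) i hrel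
  have ex3 : (ShortComplex.mk ((H (i + 1)).map S.g) δ0 e3).Exact :=
    hSC.homology_exact₃ (i + 1) i hrel
  have e1 : δ0 ≫ (H i).map S.f = 0 := hSC.δ_comp (i + 1) i hrel
  have ex1 : (ShortComplex.mk δ0 ((H i).map S.f) e1).Exact :=
    hSC.homology_exact₁ (i + 1) i hrel
  have nat : ∀ (n : ℕ) {Y Y' : ModuleCat.{u} R} (f : Y ⟶ Y'),
      ((Tor (ModuleCat.{u} R) n).obj M).map f ≫ (Φ n).hom.app Y' =
        (Φ n).hom.app Y ≫ (H n).map f :=
    fun n {Y Y'} f => (Φ n).hom.naturality f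
  have w₀ : ((Tor (ModuleCat.{u} R) i).obj M).map S.f ≫
      ((Tor (ModuleCat.{u} R) i).obj M).map S.g = 0 := by
    haveI : Mono ((Φ i).hom.app S.X₃) := by
      change Mono ((Φ i).app S.X₃).hom
      infer_instance
    rw [← cancel_mono ((Φ i).hom.app S.X₃), Category.assoc, nat i S.g,
      reassoc_of% (nat i S.f), e2 i, comp_zero, zero_comp]
  refine ⟨⟨w₀, ?_⟩, ?_, ?_⟩
  · exact exact_of_iso_squares _ _ _ _ w₀ (e2 i) ((Φ i).app S.X₁) ((Φ i).app S.X₂)
      ((Φ i).app S.X₃) (nat i S.f) (nat i S.g) (ex2 i)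
  · have h1 : ((Tor (ModuleCat.{u} R) 0).obj M).map S.g =
        (tor0Iso M).hom.app S.X₂ ≫ S.g ▷ M ≫ (tor0Iso M).inv.app S.X₃ := by
      have h2 : ((Tor (ModuleCat.{u} R) 0).obj M).map S.g ≫ (tor0Iso M).hom.app S.X₃ =
          (tor0Iso M).hom.app S.X₂ ≫ S.g ▷ M := (tor0Iso M).hom.naturality S.g
      have h3 : (tor0Iso M).hom.app S.X₃ ≫ (tor0Iso M).inv.app S.X₃ = 𝟙 _ := by
        rw [← NatTrans.comp_app, Iso.hom_inv_id, NatTrans.id_app]
      calc ((Tor (ModuleCat.{u} R) 0).obj M).map S.g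
          = ((Tor (ModuleCat.{u} R) 0).obj M).map S.g ≫
              (tor0Iso M).hom.app S.X₃ ≫ (tor0Iso M).inv.app S.X₃ := by
            rw [h3, Category.comp_id]
        _ = _ := by rw [reassoc_of% h2]
    rw [h1]
    haveI : Epi (S.g ▷ M) := by
      rw [ModuleCat.epi_iff_surjective]
      change Function.Surjective (S.g ▷ M).hom
      rw [ModuleCat.hom_whiskerRight]
      exact LinearMap.rTensor_surjective _ ((ModuleCat.epi_iff_surjective S.g).mp hS.epi_g)
    infer_instance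
  · let δ : ((Tor (ModuleCat.{u} R) (i + 1)).obj M).obj S.X₃ ⟶
        ((Tor (ModuleCat.{u} R) i).obj M).obj S.X₁ :=
      (Φ (i + 1)).hom.app S.X₃ ≫ δ0 ≫ (Φ i).inv.app S.X₁
    have h3 : (Φ i).inv.app S.X₁ ≫ (Φ i).hom.app S.X₁ = 𝟙 _ := by
      rw [← NatTrans.comp_app, Iso.inv_hom_id, NatTrans.id_app]
    have c3 : δ ≫ (Φ i).hom.app S.X₁ = (Φ (i + 1)).hom.app S.X₃ ≫ δ0 := by
      change ((Φ (i + 1)).hom.app S.X₃ ≫ δ0 ≫ (Φ i).inv.app S.X₁) ≫ (Φ i).hom.app S.X₁ = _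
      rw [Category.assoc, Category.assoc, h3, Category.comp_id]
    have w₁ : ((Tor (ModuleCat.{u} R) (i + 1)).obj M).map S.g ≫ δ = 0 := by
      change _ ≫ (Φ (i + 1)).hom.app S.X₃ ≫ δ0 ≫ (Φ i).inv.app S.X₁ = 0
      rw [reassoc_of% (nat (i + 1) S.g), reassoc_of% e3, zero_comp, comp_zero]
    have w₂ : δ ≫ ((Tor (ModuleCat.{u} R) i).obj M).map S.f = 0 := by
      haveI : Mono ((Φ i).hom.app S.X₂) := by
        change Mono ((Φ i).app S.X₂).hom
        infer_instance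
      rw [← cancel_mono ((Φ i).hom.app S.X₂), Category.assoc, nat i S.f,
        reassoc_of% c3, zero_comp, e1, comp_zero]
    refine ⟨δ, w₁, w₂, ?_, ?_⟩
    · exact exact_of_iso_squares _ _ _ _ w₁ e3 ((Φ (i + 1)).app S.X₂)
        ((Φ (i + 1)).app S.X₃) ((Φ i).app S.X₁) (nat (i + 1) S.g) c3 ex3
    · exact exact_of_iso_squares _ _ _ _ w₂ e1 ((Φ (i + 1)).app S.X₃)
        ((Φ i).app S.X₁) ((Φ i).app S.X₂) c3 (nat i S.f) ex1

end les


section quasiIso

open HomologicalComplex ChainComplex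

variable {M : ModuleCat.{u} R} (F : ChainComplex (ModuleCat.{u} R) ℕ)
  (φ : F ⟶ (ChainComplex.single₀ (ModuleCat.{u} R)).obj M) [QuasiIso φ]

include φ in
lemma exactAt_succ_of_quasiIso (n : ℕ) : F.ExactAt (n + 1) := by
  rw [← quasiIsoAt_iff_exactAt' φ (n + 1) (exactAt_succ_single_obj _ _)]
  infer_instance

include φ in
lemma exact_succ_of_quasiIso (n : ℕ) :
    (ShortComplex.mk _ _ (F.d_comp_d (n + 2) (n + 1) n)).Exact :=
  ((HomologicalComplex.exactAt_iff' _ (n + 2) (n + 1) n) (by simp only [ChainComplex.prev]; rfl)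
    (by simp)).1 (exactAt_succ_of_quasiIso F φ n)

omit [QuasiIso φ] in
lemma d_comp_f_zero : F.d 1 0 ≫ φ.f 0 = 0 := by
  rw [← φ.comm 1 0, single_obj_d, comp_zero]

set_option backward.isDefEq.respectTransparency.types false in
set_option backward.defeqAttrib.useBackward true in
/-- `M` is the cokernel of `F₁ ⟶ F₀`. -/
noncomputable def isColimitCokernelCofork' :
    IsColimit (CokernelCofork.ofπ (φ.f 0) (d_comp_f_zero F φ)) := by
  refine IsColimit.ofIsoColimit (F.opcyclesIsCokernel 1 0 (by simp)) ?_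
  refine Cofork.ext (F.isoHomologyι₀.symm ≪≫ isoOfQuasiIsoAt φ 0 ≪≫
    singleObjHomologySelfIso _ _ _) ?_
  rw [← cancel_mono (singleObjHomologySelfIso (ComplexShape.down ℕ) 0 _).inv,
    ← cancel_mono (isoHomologyι₀ _).hom]
  dsimp
  simp only [isoHomologyι₀_inv_naturality_assoc, p_opcyclesMap_assoc, single₀_obj_zero,
    Category.assoc,
    Iso.hom_inv_id, Category.comp_id, isoHomologyι_inv_hom_id,
    singleObjHomologySelfIso_inv_homologyι,
    singleObjOpcyclesSelfIso_hom, single₀ObjXSelf, Iso.refl_inv, Category.id_comp]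

/-- the flat resolution attached to a quasi-isomorphism `F ⟶ M[0]` with `F` degreewise flat. -/
noncomputable def FlatRes.ofQuasiIso (hF : ∀ i, Module.Flat R (F.X i)) : FlatRes M where
  C := F
  flat := hF
  ε := φ.f 0
  w := d_comp_f_zero F φ
  surj := by
    have h : Epi (φ.f 0) := epi_of_isColimit_cofork (isColimitCokernelCofork' F φ)
    exact (ModuleCat.epi_iff_surjective _).mp h
  exact₀ := by
    have h : (ShortComplex.mk (F.d 1 0) (φ.f 0) (d_comp_f_zero F φ)).Exact :=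
      ShortComplex.exact_of_g_is_cokernel _ (isColimitCokernelCofork' F φ)
    exact (ShortComplex.moduleCat_exact_iff _).mp h
  exact n := (ShortComplex.moduleCat_exact_iff _).mp (exact_succ_of_quasiIso F φ n)

include φ in
/-- S17773. -/
theorem homology_flatRes_iso_tor' (N : ModuleCat.{u} R) (hF : ∀ i, Module.Flat R (F.X i))
    (i : ℕ) :
    Nonempty ((((tensorRight N).mapHomologicalComplex (ComplexShape.down ℕ)).obj F).homology i ≅
      ((Tor' (ModuleCat.{u} R) i).obj M).obj N) :=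
  ⟨((FlatRes.ofQuasiIso (M := M) F φ hF).torIso N i).symm ≪≫ torIsoTor' M N i⟩

end quasiIso

end Groth.Agent.TorBal
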