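import Mathlib
import Groth.Prelude.Def_DRing2
import Groth.Prelude.Def_DDual2
import Groth.Agent.Lib.DMod49_helper6
import Groth.Agent.Lib.TorBal_helper5

/-!
# Derived category toolkit (helper6), part 50: `Tor` of modules versus tor amplitude; rings all of
whose modules have finite tor dimension.
-/

set_option autoImplicit false
universe u
open CategoryTheory CategoryTheory.Limits Pretriangulated DerivedCategory ZeroObject
attribute [local instance] HasDerivedCategory.standard

namespace Groth.Agent.Lib.DMod_helper6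

open DRing CochainComplex

variable {A : Type u} [CommRing A]

section TorLink

/-- chain-level termwise tensor product -/
noncomputable abbrev TNc (N : ModuleCat.{u} A) :
    ChainComplex (ModuleCat.{u} A) ℕ ⥤ ChainComplex (ModuleCat.{u} A) ℕ :=
  (MonoidalCategory.tensorRight N).mapHomologicalComplex (ComplexShape.down ℕ)

lemma chain_exactAt_iff (C : ChainComplex (ModuleCat.{u} A) ℕ) (p : ℕ) :
    C.ExactAt (p + 1) ↔ Function.Exact (C.d (p + 2) (p + 1)).hom (C.d (p + 1) p).hom := by
  rw [HomologicalComplex.exactAt_iff' C (p + 2) (p + 1) p (by simp) (by simp)]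
  exact ShortComplex.ShortExact.moduleCat_exact_iff_function_exact _

lemma exactAt_TN_cochainComplex_iff {X : ModuleCat.{u} A} (R : ProjectiveResolution X)
    (N : ModuleCat.{u} A) (p : ℕ) :
    ((TN N).obj R.cochainComplex).ExactAt (-((p : ℤ) + 1)) ↔
      ((TNc N).obj R.complex).ExactAt (p + 1) := by
  rw [chain_exactAt_iff]
  have hco : ((TN N).obj R.cochainComplex).ExactAt (-((p : ℤ) + 1)) ↔
      Function.Exact ((R.cochainComplex.d (-((p : ℤ) + 1) - 1) (-((p : ℤ) + 1))).hom.rTensor N)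
        ((R.cochainComplex.d (-((p : ℤ) + 1)) (-((p : ℤ) + 1) + 1)).hom.rTensor N) :=
    ⟨fun h => function_exact_of_exactAt _ _ _ _ (by ring) rfl h,
      fun h => exactAt_of_function_exact _ _ _ _ (by ring) rfl h⟩
  rw [hco]
  let ι₂ := R.cochainComplexXIso (-((p : ℤ) + 1) - 1) (p + 2) (by push_cast; ring)
  let ι₁ := R.cochainComplexXIso (-((p : ℤ) + 1)) (p + 1) (by push_cast; ring)
  let ι₀ := R.cochainComplexXIso (-((p : ℤ) + 1) + 1) p (by push_cast; ring)
  have hd₂ : R.cochainComplex.d (-((p : ℤ) + 1) - 1) (-((p : ℤ) + 1)) ≫ ι₁.hom =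
      ι₂.hom ≫ R.complex.d (p + 2) (p + 1) := by
    rw [R.cochainComplex_d _ _ (p + 2) (p + 1) (by push_cast; ring) (by push_cast; ring)]
    simp [ι₁, ι₂]
  have hd₁ : R.cochainComplex.d (-((p : ℤ) + 1)) (-((p : ℤ) + 1) + 1) ≫ ι₀.hom =
      ι₁.hom ≫ R.complex.d (p + 1) p := by
    rw [R.cochainComplex_d _ _ (p + 1) p (by push_cast; ring) (by push_cast; ring)]
    simp [ι₁, ι₀]
  have key₂ : ∀ x, (ι₁.hom.hom.rTensor N)
      (((R.cochainComplex.d (-((p : ℤ) + 1) - 1) (-((p : ℤ) + 1))).hom.rTensor N) x) =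
      ((R.complex.d (p + 2) (p + 1)).hom.rTensor N) ((ι₂.hom.hom.rTensor N) x) := fun x => by
    rw [← LinearMap.comp_apply, ← LinearMap.comp_apply, ← LinearMap.rTensor_comp,
      ← LinearMap.rTensor_comp, ← ModuleCat.hom_comp, ← ModuleCat.hom_comp, hd₂]
  have key₁ : ∀ x, (ι₀.hom.hom.rTensor N)
      (((R.cochainComplex.d (-((p : ℤ) + 1)) (-((p : ℤ) + 1) + 1)).hom.rTensor N) x) =
      ((R.complex.d (p + 1) p).hom.rTensor N) ((ι₁.hom.hom.rTensor N) x) := fun x => by
    rw [← LinearMap.comp_apply, ← LinearMap.comp_apply, ← LinearMap.rTensor_comp,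
      ← LinearMap.rTensor_comp, ← ModuleCat.hom_comp, ← ModuleCat.hom_comp, hd₁]
  exact function_exact_iff_of_equiv
    ((MonoidalCategory.tensorRight N).mapIso ι₂).toLinearEquiv.toEquiv
    ((MonoidalCategory.tensorRight N).mapIso ι₁).toLinearEquiv.toEquiv
    ((MonoidalCategory.tensorRight N).mapIso ι₀).toLinearEquiv.toEquiv
    (map_zero ((MonoidalCategory.tensorRight N).mapIso ι₀).toLinearEquiv) _ _ _ _ key₂ key₁

lemma subsingleton_tor_succ_iff (M N : Type u) [AddCommGroup M] [Module A M] [AddCommGroup N]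
    [Module A N] (p : ℕ) :
    Subsingleton (DRing.Tor A (p + 1) M N) ↔
      ((TN (ModuleCat.of A N)).obj
        (ProjectiveResolution.of (ModuleCat.of A M)).cochainComplex).ExactAt (-((p : ℤ) + 1)) := by
  obtain ⟨e⟩ := Groth.Agent.TorBal.tor_iso_homology (ModuleCat.of A M) (ModuleCat.of A N)
    (ProjectiveResolution.of (ModuleCat.of A M)) (p + 1)
  rw [exactAt_TN_cochainComplex_iff, HomologicalComplex.exactAt_iff_isZero_homology]
  constructor
  · intro h
    exact IsZero.of_iso (ModuleCat.isZero_of_subsingleton _) e.symm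
  · intro h
    exact ModuleCat.subsingleton_of_isZero (IsZero.of_iso h e)

/-- tor dimension `≤ d` in terms of `Tor` is tor amplitude `[-d, 0]` (S6946, first part) -/
theorem hasTorDimLE_iff (M : Type u) [AddCommGroup M] [Module A M] (d : ℕ) :
    HasTorDimLE A d M ↔ HasTorAmplitudeIn A (-(d : ℤ)) 0 (Dual.inD A M) := by
  let R := ProjectiveResolution.of (ModuleCat.of A M)
  let P : Cx A := R.cochainComplex
  have hb : VanishesAbove P 0 := fun i hi => CochainComplex.isZero_of_isStrictlyLE P 0 i hi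
  have hflat : TermwiseFlat P := fun i => by
    haveI : Module.Projective A (P.X i) :=
      (IsProjective.iff_projective (P.X i)).2 (inferInstance : Projective (R.cochainComplex.X i))
    exact Module.Flat.of_projective
  haveI : IsIso (Q.map R.π') := (isIso_Q_map_iff_quasiIso _ _).2 inferInstance
  let e : toD P ≅ Dual.inD A M := asIso (Q.map R.π') ≪≫
    ((singleFunctorIsoCompQ (ModuleCat.{u} A) 0).app (ModuleCat.of A M)).symm
  constructor
  · intro h
    refine hasTorAmplitudeIn_of_iso e _ _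
      (hasTorAmplitudeIn_of_TN_exact' P (-(d : ℤ)) 0 hb hflat ?_ ?_)
    · intro i hi
      rw [exactAt_iff_subsingleton_HD e i]
      exact ModuleCat.subsingleton_of_isZero (isZero_HD_inD _ i (by omega))
    · intro N
      have := (subsingleton_tor_succ_iff M N d).1 (h N (d + 1) (by omega))
      rwa [show -(d : ℤ) - 1 = -((d : ℤ) + 1) by ring]
  · intro h N _ _ p hp
    obtain ⟨q, rfl⟩ : ∃ q, p = q + 1 := ⟨p - 1, by omega⟩
    rw [subsingleton_tor_succ_iff]
    exact exactAt_TN_of_hasTorAmplitudeIn P 0 hb hflat (-(d : ℤ)) 0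
      (hasTorAmplitudeIn_of_iso e.symm _ _ h) _ _ (by push_cast; omega)

theorem hasTorAmplitudeIn_zero_zero_iff_flat (M : Type u) [AddCommGroup M] [Module A M] :
    HasTorAmplitudeIn A 0 0 (Dual.inD A M) ↔ Module.Flat A M := by
  constructor
  · rintro ⟨E, hE, hEf, ⟨e⟩⟩
    have h1 : E.d (-1) 0 = 0 := (hE (-1) (Or.inl (by norm_num))).eq_of_src _ _
    have h2 : E.d 0 1 = 0 := (hE 1 (Or.inr (by norm_num))).eq_of_tgt _ _
    have iso : ModuleCat.of A M ≅ E.X 0 :=
      (HDinDIso (ModuleCat.of A M)).symm ≪≫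
        (DerivedCategory.homologyFunctor _ 0).mapIso e.symm ≪≫
        (homologyFunctorFactors (ModuleCat.{u} A) 0).app E ≪≫
        (E.isoHomologyπ (-1) 0 (by simp) h1).symm ≪≫ E.iCyclesIso 0 1 (by simp) h2
    haveI := hEf 0
    exact Module.Flat.of_linearEquiv iso.toLinearEquiv
  · intro hM
    refine ⟨(HomologicalComplex.single (ModuleCat.{u} A) (ComplexShape.up ℤ) 0).obj
      (ModuleCat.of A M), fun i hi => HomologicalComplex.isZero_single_obj_X _ 0 _ i (by omega),
      fun i => ?_, ⟨((singleFunctorIsoCompQ (ModuleCat.{u} A) 0).app (ModuleCat.of A M)).symm⟩⟩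
    by_cases hi : i = 0
    · subst hi
      exact Module.Flat.of_linearEquiv
        (HomologicalComplex.singleObjXSelf (ComplexShape.up ℤ) 0 (ModuleCat.of A M)).toLinearEquiv
    · exact flat_of_isZero _ (HomologicalComplex.isZero_single_obj_X _ 0 _ i hi)

/-- S6946 -/
theorem hasTorDimLE_iff_and_flat (M : Type u) [AddCommGroup M] [Module A M] (d : ℕ) :
    (HasTorDimLE A d M ↔ HasTorAmplitudeIn A (-(d : ℤ)) 0 (Dual.inD A M)) ∧
      (HasTorDimLE A 0 M ↔ Module.Flat A M) := by
  refine ⟨hasTorDimLE_iff M d, ?_⟩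
  rw [hasTorDimLE_iff M 0, ← hasTorAmplitudeIn_zero_zero_iff_flat]
  simp

end TorLink

section FiniteTorDim

lemma isGE_of_subsingleton_HD (Y : Dual.D A) (n : ℤ)
    (hY : ∀ i : ℤ, i < n → Subsingleton (Dual.HD A Y i)) : DerivedCategory.IsGE Y n := by
  rw [DerivedCategory.isGE_iff]
  intro i hi
  haveI := hY i hi
  exact ModuleCat.isZero_of_subsingleton _

/-- S5612 (i) -/
theorem hasFiniteTorDimCx_iff_bounded
    (hA : ∀ (M : Type u) [AddCommGroup M] [Module A M], HasFiniteTorDim A M) (K : Dual.D A) :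
    HasFiniteTorDimCx A K ↔
      ∃ a b : ℤ, ∀ i : ℤ, i < a ∨ b < i → Subsingleton (Dual.HD A K i) := by
  constructor
  · rintro ⟨a, b, E, hE, hEf, ⟨e⟩⟩
    exact ⟨a, b, fun i hi => (exactAt_iff_subsingleton_HD e i).1 (exactAt_of_isZero_X E i (hE i hi))⟩
  · rintro ⟨a, b, h⟩
    choose dfun hd using fun i : ℤ => hA (Dual.HD A K i)
    let d : ℕ := (Finset.Icc a b).sup dfun
    have hdle : ∀ i, a ≤ i → i ≤ b → dfun i ≤ d := fun i h1 h2 =>
      Finset.le_sup (f := dfun) (Finset.mem_Icc.2 ⟨h1, h2⟩)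
    haveI : DerivedCategory.IsGE K a := isGE_of_subsingleton_HD K a (fun i hi => h i (Or.inl hi))
    haveI : DerivedCategory.IsLE K (a + ((b - a + 1).toNat : ℤ) - 1) :=
      isLE_of_subsingleton_HD K _ (fun i hi => h i (Or.inr (by omega)))
    refine ⟨a - d, b, ?_⟩
    have := (torFam A (a - d) b).devissage_homology 0 (b - a + 1).toNat K a inferInstance
      inferInstance ?_
    · simpa [torFam] using this
    · intro i
      show HasTorAmplitudeIn A (a - d + (0 - i)) (b + (0 - i)) _
      by_cases hi : a ≤ i ∧ i ≤ b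
      · have h1 : HasTorAmplitudeIn A (-(dfun i : ℤ)) 0 (Dual.inD A (Dual.HD A K i)) :=
          (hasTorDimLE_iff _ _).1 (hd i)
        have hle := hdle i hi.1 hi.2
        exact hasTorAmplitudeIn_mono _ _ _ _ _ (by push_cast at *; omega) (by omega) h1
      · haveI : Subsingleton (Dual.HD A K i) := h i (by omega)
        exact hasTorAmplitudeIn_of_isZero _
          ((DerivedCategory.singleFunctor _ 0).map_isZero (ModuleCat.isZero_of_subsingleton _)) _ _

/-- S5612 -/
theorem finiteTorDim_ring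
    (hA : ∀ (M : Type u) [AddCommGroup M] [Module A M], HasFiniteTorDim A M) (K : Dual.D A) :
    (HasFiniteTorDimCx A K ↔
        ∃ a b : ℤ, ∀ i : ℤ, i < a ∨ b < i → Subsingleton (Dual.HD A K i)) ∧
      (IsPerfect A K ↔
        (∃ a b : ℤ, ∀ i : ℤ, i < a ∨ b < i → Subsingleton (Dual.HD A K i)) ∧
          IsPseudoCoherent' A K) := by
  refine ⟨hasFiniteTorDimCx_iff_bounded hA K, ?_⟩
  rw [isPerfect_iff_pc_and_finiteTorDim, hasFiniteTorDimCx_iff_bounded hA K]
  exact and_comm

end FiniteTorDim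

end Groth.Agent.Lib.DMod_helper6
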