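import Mathlib
import Groth.Agent.Lib.BMod2_helper6
import Groth.Agent.Lib.GlobGen_helper9

universe u

open CategoryTheory Limits AlgebraicGeometry TopologicalSpace Scheme.Modules Opposite
open Groth.Agent.Lib.QCohLoc_helper4 QcqsLoc

namespace Groth.Agent.Lib.BModH6

section Core2

variable {X : Scheme.{u}} {R' : Sheaf (Opens.grothendieckTopology X) RingCat.{u}}
  (α : X.ringCatSheaf ⟶ R')

/-- The sections of `H` attached to a global section. -/
noncomputable def gsec (H : SheafOfModules.{u} R') (g : Γ((rho α).obj H, ⊤)) : H.sections :=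
  GlobGen.globalSection ((rho α).obj H) g

/-- The canonical map from the free module on the global sections. -/
noncomputable def freeHom (H : SheafOfModules.{u} R') :
    SheafOfModules.free.{u} Γ((rho α).obj H, ⊤) ⟶ H :=
  (SheafOfModules.freeHomEquiv H).symm (gsec α H)

theorem rho_smul (H : SheafOfModules.{u} R') (U : X.Opens) (r : Γ(X, U))
    (t : Γ((rho α).obj H, U)) :
    r • t = ((α.hom.app (op U)).hom r • (show H.val.obj (op U) from t) :) := rfl

set_option backward.isDefEq.respectTransparency false in
theorem epi_freeHom [X.IsQuasiAffine] (H : SheafOfModules.{u} R')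
    [((rho α).obj H).IsQuasicoherent] : Epi (freeHom α H) := by
  let F : X.Modules := (rho α).obj H
  suffices h : Epi ((rho α).map (freeHom α H)) from (rho α).epi_of_epi_map h
  apply GlobGen.epi_of_surjective_on_basis (X := X) ((rho α).map (freeHom α H)) _
    (Scheme.IsQuasiAffine.isBasis_basicOpen X)
  rintro U ⟨f, hf, rfl⟩
  intro t
  have hc : IsCompact ((⊤ : X.Opens) : Set X) := by simpa using isCompact_univ
  have hqs : IsQuasiSeparated ((⊤ : X.Opens) : Set X) := by
    simpa using (isQuasiSeparated_univ (α := X))
  obtain ⟨n, g, hg⟩ := exists_pow_smul_extends (F := F) (a := f) hc hqs t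
  have hunit : IsUnit (rX (X.basicOpen_le f) f ^ n) :=
    (RingedSpace.isUnit_res_basicOpen _ f).pow n
  obtain ⟨v, hv⟩ := hunit
  let U : X.Opens := X.basicOpen f
  let u : (R'.obj.obj (op U))ˣ := Units.map (α.hom.app (op U)).hom.toMonoidHom v
  let e : (SheafOfModules.free.{u} (R := R') Γ(F, ⊤)).val.obj (op U) :=
    (SheafOfModules.freeSection (R := R') g).val (op U)
  have he : (freeHom α H).val.app (op U) e = rF F (X.basicOpen_le f) g := by
    have h1 := SheafOfModules.sectionsMap_freeHomEquiv_symm_freeSection (M := H) (gsec α H) g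
    have h2 := congrArg (fun σ => σ.val (op U)) h1
    exact h2
  refine ⟨((↑u⁻¹ : R'.obj.obj (op U)) • e :), ?_⟩
  have h3 : (freeHom α H).val.app (op U) ((↑u⁻¹ : R'.obj.obj (op U)) • e) =
      (↑u⁻¹ : R'.obj.obj (op U)) • (freeHom α H).val.app (op U) e :=
    ((freeHom α H).val.app (op U)).hom.map_smul _ _
  refine h3.trans ?_
  rw [he, hg, ← hv]
  have h4 : (↑v : Γ(X, U)) • t = ((↑u : R'.obj.obj (op U)) • (show H.val.obj (op U) from t) :) :=
    rho_smul α H U v t
  rw [h4, smul_smul, Units.inv_mul, one_smul]

end Core2

end Groth.Agent.Lib.BModH6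

namespace Groth.Agent.Lib.BModH6

section Core3

variable {X : Scheme.{u}} {R' : Sheaf (Opens.grothendieckTopology X) RingCat.{u}}
  (α : X.ringCatSheaf ⟶ R')

/-- The generating sections given by all global sections. -/
noncomputable def gens [X.IsQuasiAffine] (H : SheafOfModules.{u} R')
    [((rho α).obj H).IsQuasicoherent] : H.GeneratingSections where
  I := Γ((rho α).obj H, ⊤)
  s := gsec α H
  epi := epi_freeHom α H

set_option backward.isDefEq.respectTransparency false in
theorem isQuasicoherent_rho_kernel
    (hα : ((rho α).obj (SheafOfModules.unit R')).IsQuasicoherent)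
    {I : Type u} {G : SheafOfModules.{u} R'} [((rho α).obj G).IsQuasicoherent]
    (π : SheafOfModules.free.{u} I ⟶ G) : ((rho α).obj (kernel π)).IsQuasicoherent := by
  haveI := isQuasicoherent_rho_free α hα I
  let e : (rho α).obj (kernel π) ≅ kernel ((rho α).map π) := PreservesKernel.iso (rho α) π
  exact (SheafOfModules.isQuasicoherent X.ringCatSheaf).prop_of_iso e.symm
    (SubExt.isQuasicoherent_kernel (X := X) ((rho α).map π))

/-- **Core (⇐)**: on a quasi-affine scheme, an `R'`-module which is quasi-coherent over `𝒪_X` has a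
global presentation. -/
theorem nonempty_presentation_of_isQuasicoherent_rho [X.IsQuasiAffine]
    (hα : ((rho α).obj (SheafOfModules.unit R')).IsQuasicoherent)
    (G : SheafOfModules.{u} R') [((rho α).obj G).IsQuasicoherent] :
    Nonempty G.Presentation := by
  haveI := isQuasicoherent_rho_kernel α hα (gens α G).π
  exact ⟨{ generators := gens α G, relations := gens α (kernel (gens α G).π) }⟩

end Core3

end Groth.Agent.Lib.BModH6
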