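import Mathlib
import Groth.Agent.Lib.BMod3_helper6

universe u

open CategoryTheory Limits AlgebraicGeometry TopologicalSpace Scheme.Modules Opposite

namespace Groth.Agent.Lib.BModH6

section Transport

variable {X : Scheme.{u}} {R' : Sheaf (Opens.grothendieckTopology X) RingCat.{u}}
  (α : X.ringCatSheaf ⟶ R') (U : X.Opens)

/-- The restriction of `α` to the open subscheme `U`. -/
noncomputable def alphaU : (U : Scheme.{u}).ringCatSheaf ⟶ U.sheafRestrict.obj R' :=
  U.sheafRestrict.map α

/-- The `R'|_U`-module on the open subscheme `U` attached to `F`. -/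
noncomputable def resU (F : SheafOfModules.{u} R') : SheafOfModules.{u} (U.sheafRestrict.obj R') :=
  (U.sheafOfModulesEquivOver R').functor.obj (F.over U)

set_option backward.isDefEq.respectTransparency false in
noncomputable def resUIsoApp (F : SheafOfModules.{u} R') (W : ((U : Scheme.{u}).Opens)ᵒᵖ) :
    ((rho (alphaU α U)).obj (resU U F)).val.obj W ≅
      ((Scheme.Modules.restrictFunctor U.ι).obj ((rho α).obj F)).val.obj W :=
  LinearEquiv.toModuleIso
    (X₁ := ((rho (alphaU α U)).obj (resU U F)).val.obj W)
    (X₂ := ((Scheme.Modules.restrictFunctor U.ι).obj ((rho α).obj F)).val.obj W)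
    { toFun := fun m => m
      invFun := fun m => m
      map_add' := fun _ _ => rfl
      map_smul' := by
        intro r m
        simp only [RingHom.id_apply]
        have key : ((U.ι.appIso W.unop).inv).hom r = r := by
          rw [Scheme.Opens.ι_appIso]; rfl
        change ((α.hom.app (op (U.ι ''ᵁ W.unop))).hom r •
            (show F.val.obj (op (U.ι ''ᵁ W.unop)) from m)) =
          ((α.hom.app (op (U.ι ''ᵁ W.unop))).hom (((U.ι.appIso W.unop).inv).hom r) •
            (show F.val.obj (op (U.ι ''ᵁ W.unop)) from m))
        rw [key]
      left_inv := fun _ => rfl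
      right_inv := fun _ => rfl }

set_option backward.isDefEq.respectTransparency false in
/-- Restricting to the open subscheme `U` commutes with forgetting to `𝒪`-modules. -/
noncomputable def resUIso (F : SheafOfModules.{u} R') :
    (rho (alphaU α U)).obj (resU U F) ≅
      (Scheme.Modules.restrictFunctor U.ι).obj ((rho α).obj F) :=
  (SheafOfModules.fullyFaithfulForget _).preimageIso
    (PresheafOfModules.isoMk (fun W => resUIsoApp α U F W) (by
      intro W W' f
      ext m
      rfl))

set_option backward.isDefEq.respectTransparency false in
noncomputable def resUUnit :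
    resU U (SheafOfModules.unit R') ≅ SheafOfModules.unit (U.sheafRestrict.obj R') :=
  Iso.refl _

set_option backward.isDefEq.respectTransparency false in
theorem isQuasicoherent_rho_resU (F : SheafOfModules.{u} R') [((rho α).obj F).IsQuasicoherent] :
    ((rho (alphaU α U)).obj (resU U F)).IsQuasicoherent := by
  haveI : ((Scheme.Modules.restrictFunctor U.ι).obj ((rho α).obj F)).IsQuasicoherent :=
    Scheme.Modules.isQuasicoherent_restrictFunctor U.ι ((rho α).obj F)
  exact (SheafOfModules.isQuasicoherent (U : Scheme.{u}).ringCatSheaf).prop_of_iso
    (resUIso α U F).symm inferInstance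

set_option backward.isDefEq.respectTransparency false in
theorem isQuasicoherent_rho_unit_U
    (hα : ((rho α).obj (SheafOfModules.unit R')).IsQuasicoherent) :
    ((rho (alphaU α U)).obj (SheafOfModules.unit (U.sheafRestrict.obj R'))).IsQuasicoherent := by
  haveI := hα
  have := isQuasicoherent_rho_resU α U (SheafOfModules.unit R')
  exact (SheafOfModules.isQuasicoherent (U : Scheme.{u}).ringCatSheaf).prop_of_iso
    ((rho (alphaU α U)).mapIso (resUUnit (R' := R') U)) this

end Transport

end Groth.Agent.Lib.BModH6
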