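import Mathlib
import Groth.Agent.Lib.BMod4_helper6

universe u

open CategoryTheory Limits AlgebraicGeometry TopologicalSpace Scheme.Modules Opposite

namespace Groth.Agent.Lib.BModH6

section Loc2

variable {X : Scheme.{u}}

set_option backward.isDefEq.respectTransparency false in
/-- Locality of quasi-coherence, in terms of restrictions to the open subschemes of a cover. -/
theorem isQuasicoherent_of_restrict_ι (M : X.Modules) {ι : Type u} (𝒰 : ι → X.Opens)
    (hcov : ⨆ i, 𝒰 i = ⊤)
    (H : ∀ i, ((Scheme.Modules.restrictFunctor (𝒰 i).ι).obj M).IsQuasicoherent) :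
    M.IsQuasicoherent := by
  let J := {V : X.affineOpens // ∃ i, V.1 ≤ 𝒰 i}
  refine isQuasicoherent_of_restrict_fromSpec M (fun V : J => V.1.1) (fun V => V.1.2) ?_ ?_
  · rw [eq_top_iff]
    intro x _
    have hx : x ∈ (⨆ i, 𝒰 i : X.Opens) := by rw [hcov]; trivial
    obtain ⟨i, hi⟩ := Opens.mem_iSup.mp hx
    obtain ⟨V, hV, hxV, hVU⟩ := Opens.isBasis_iff_nbhd.mp X.isBasis_affineOpens hi
    exact Opens.mem_iSup.mpr ⟨⟨⟨V, hV⟩, i, hVU⟩, hxV⟩
  · rintro ⟨V, i, hVi⟩
    have hr : Set.range V.2.fromSpec ⊆ Set.range (𝒰 i).ι := by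
      rw [V.2.range_fromSpec, Scheme.Opens.range_ι]
      exact hVi
    let k : Spec Γ(X, V.1) ⟶ (𝒰 i : Scheme.{u}) := IsOpenImmersion.lift (𝒰 i).ι V.2.fromSpec hr
    have hk : k ≫ (𝒰 i).ι = V.2.fromSpec := IsOpenImmersion.lift_fac _ _ _
    haveI : IsOpenImmersion (k ≫ (𝒰 i).ι) := by rw [hk]; infer_instance
    haveI : IsOpenImmersion k := IsOpenImmersion.of_comp k (𝒰 i).ι
    haveI := H i
    let e : (Scheme.Modules.restrictFunctor V.2.fromSpec).obj M ≅
        (Scheme.Modules.restrictFunctor k).obj
          ((Scheme.Modules.restrictFunctor (𝒰 i).ι).obj M) :=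
      (Scheme.Modules.restrictFunctorCongr hk.symm).app M ≪≫
        (Scheme.Modules.restrictFunctorComp k (𝒰 i).ι).app M
    have hq : ((Scheme.Modules.restrictFunctor k).obj
        ((Scheme.Modules.restrictFunctor (𝒰 i).ι).obj M)).IsQuasicoherent :=
      Scheme.Modules.isQuasicoherent_restrictFunctor k _
    exact (SheafOfModules.isQuasicoherent (Spec Γ(X, V.1)).ringCatSheaf).prop_of_iso e.symm hq

end Loc2

end Groth.Agent.Lib.BModH6

namespace Groth.Agent.Lib.BModH6

section Main

variable {X : Scheme.{u}} {R' : Sheaf (Opens.grothendieckTopology X) RingCat.{u}}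
  (α : X.ringCatSheaf ⟶ R')

set_option backward.isDefEq.respectTransparency false in
/-- (⇒) a quasi-coherent `R'`-module is quasi-coherent over `𝒪_X`, if `R'` is. -/
theorem isQuasicoherent_rho_of_isQuasicoherent
    (hα : ((rho α).obj (SheafOfModules.unit R')).IsQuasicoherent)
    (F : SheafOfModules.{u} R') [F.IsQuasicoherent] : ((rho α).obj F).IsQuasicoherent := by
  obtain ⟨q⟩ := SheafOfModules.IsQuasicoherent.nonempty_quasicoherentData (M := F)
  refine isQuasicoherent_of_restrict_ι (X := X) ((rho α).obj F) q.X ?_ (fun i => ?_)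
  · exact (Opens.coversTop_iff _ _).mp q.coversTop
  · let e' := (q.X i).sheafOfModulesEquivOver R'
    let P : (resU (q.X i) F).Presentation :=
      (q.presentation i).map e'.functor ((q.X i).sheafOfModulesEquivOverUnit R').symm
    have h1 := isQuasicoherent_rho_of_presentation (alphaU α (q.X i))
      (isQuasicoherent_rho_unit_U α (q.X i) hα) P
    exact (SheafOfModules.isQuasicoherent ((q.X i : Scheme.{u})).ringCatSheaf).prop_of_iso
      (resUIso α (q.X i) F) h1

set_option backward.isDefEq.respectTransparency false in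
/-- (⇐) an `R'`-module which is quasi-coherent over `𝒪_X` is quasi-coherent over `R'`, if `R'`
is quasi-coherent over `𝒪_X`. -/
theorem isQuasicoherent_of_isQuasicoherent_rho
    (hα : ((rho α).obj (SheafOfModules.unit R')).IsQuasicoherent)
    (F : SheafOfModules.{u} R') [((rho α).obj F).IsQuasicoherent] : F.IsQuasicoherent := by
  have hcov : (Opens.grothendieckTopology X).CoversTop
      (fun U : X.affineOpens => (U : X.Opens)) := by
    rw [Opens.coversTop_iff]
    exact iSup_affineOpens_eq_top X
  let σ : SheafOfModules.QuasicoherentData.{u} (R := R') F :=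
    { I := X.affineOpens, X := fun U => U.1, coversTop := hcov,
      presentation := fun U => by
        haveI : IsAffine (U.1 : Scheme.{u}) := U.2
        haveI := isQuasicoherent_rho_resU α U.1 F
        let P := (nonempty_presentation_of_isQuasicoherent_rho (alphaU α U.1)
          (isQuasicoherent_rho_unit_U α U.1 hα) (resU U.1 F)).some
        let e' := U.1.sheafOfModulesEquivOver R'
        exact SheafOfModules.Presentation.ofIsIso.{u, u, u} (e'.unitIso.app (F.over U.1)).inv
          (P.map e'.inverse (U.1.sheafOfModulesEquivOverInverseUnit R').symm) }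
  exact σ.isQuasicoherent

end Main

end Groth.Agent.Lib.BModH6
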