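import Mathlib
import Groth.Prelude
import Groth.Agent.Lib.FLF8_helper8
import Groth.Agent.Lib.CohOpen2_helper8

/-!
# The mapping cone of strictly perfect complexes is strictly perfect (lead)
-/

set_option autoImplicit false

namespace Groth.Agent.Lib.ConeSP

open AlgebraicGeometry CategoryTheory CategoryTheory.Limits TopologicalSpace Opposite

universe u

section Sections

variable {X : Scheme.{u}} {M N K : X.Modules}

lemma app_comp_apply (φ : M ⟶ N) (ψ : N ⟶ K) (U : X.Opens) (x : Γ(M, U)) :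
    (φ ≫ ψ).app U x = ψ.app U (φ.app U x) := rfl

lemma app_congr {φ ψ : M ⟶ N} (h : φ = ψ) (U : X.Opens) (x : Γ(M, U)) :
    φ.app U x = ψ.app U x := by rw [h]

lemma app_add_apply (φ ψ : M ⟶ N) (U : X.Opens) (x : Γ(M, U)) :
    (φ + ψ).app U x = φ.app U x + ψ.app U x := rfl

lemma app_id_apply (U : X.Opens) (x : Γ(M, U)) : (𝟙 M : M ⟶ M).app U x = x := rfl

lemma app_zero_apply (U : X.Opens) (x : Γ(M, U)) : (0 : M ⟶ N).app U x = 0 := rfl

lemma app_map_add (φ : M ⟶ N) (U : X.Opens) (x y : Γ(M, U)) :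
    φ.app U (x + y) = φ.app U x + φ.app U y := by
  first
    | exact map_add _ x y
    | exact (φ.app U).hom.map_add x y
    | simp

/-- Sections of a biproduct are the product of the sections. -/
noncomputable def sectionsBiprod (F₁ F₂ : X.Modules) (U : X.Opens) :
    Γ(F₁ ⊞ F₂, U) ≃ₗ[Γ(X, U)] (Γ(F₁, U) × Γ(F₂, U)) where
  toFun s := ((biprod.fst : F₁ ⊞ F₂ ⟶ F₁).app U s, (biprod.snd : F₁ ⊞ F₂ ⟶ F₂).app U s)
  map_add' s t := by
    refine Prod.ext ?_ ?_
    · exact app_map_add _ U s t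
    · exact app_map_add _ U s t
  map_smul' r s := by
    refine Prod.ext ?_ ?_
    · exact Scheme.Modules.Hom.app_smul _ r s
    · exact Scheme.Modules.Hom.app_smul _ r s
  invFun p := (biprod.inl : F₁ ⟶ F₁ ⊞ F₂).app U p.1 + (biprod.inr : F₂ ⟶ F₁ ⊞ F₂).app U p.2
  left_inv s := by
    have h3 : ((biprod.fst : F₁ ⊞ F₂ ⟶ F₁) ≫ biprod.inl +
        (biprod.snd : F₁ ⊞ F₂ ⟶ F₂) ≫ biprod.inr).app U s = s :=
      (app_congr biprod.total U s).trans (app_id_apply U s)
    exact h3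
  right_inv p := by
    obtain ⟨a, b⟩ := p
    refine Prod.ext ?_ ?_
    · show (biprod.fst : F₁ ⊞ F₂ ⟶ F₁).app U ((biprod.inl : F₁ ⟶ F₁ ⊞ F₂).app U a +
        (biprod.inr : F₂ ⟶ F₁ ⊞ F₂).app U b) = a
      rw [app_map_add]
      have h1 : (biprod.fst : F₁ ⊞ F₂ ⟶ F₁).app U ((biprod.inl : F₁ ⟶ F₁ ⊞ F₂).app U a) = a :=
        (app_congr biprod.inl_fst U a).trans (app_id_apply U a)
      have h2 : (biprod.fst : F₁ ⊞ F₂ ⟶ F₁).app U ((biprod.inr : F₂ ⟶ F₁ ⊞ F₂).app U b) = 0 :=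
        (app_congr biprod.inr_fst U b).trans (app_zero_apply U b)
      rw [h1, h2, add_zero]
    · show (biprod.snd : F₁ ⊞ F₂ ⟶ F₂).app U ((biprod.inl : F₁ ⟶ F₁ ⊞ F₂).app U a +
        (biprod.inr : F₂ ⟶ F₁ ⊞ F₂).app U b) = b
      rw [app_map_add]
      have h1 : (biprod.snd : F₁ ⊞ F₂ ⟶ F₂).app U ((biprod.inl : F₁ ⟶ F₁ ⊞ F₂).app U a) = 0 :=
        (app_congr biprod.inl_snd U a).trans (app_zero_apply U a)
      have h2 : (biprod.snd : F₁ ⊞ F₂ ⟶ F₂).app U ((biprod.inr : F₂ ⟶ F₁ ⊞ F₂).app U b) = b :=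
        (app_congr biprod.inr_snd U b).trans (app_id_apply U b)
      rw [h1, h2, zero_add]

theorem finLocFree_biprod (F₁ F₂ : X.Modules) (h₁ : FlatMod.IsFinLocFree F₁)
    (h₂ : FlatMod.IsFinLocFree F₂) : FlatMod.IsFinLocFree (F₁ ⊞ F₂) := by
  haveI := FLFH8.isQuasicoherent_of_finLocFree F₁ h₁
  haveI := FLFH8.isQuasicoherent_of_finLocFree F₂ h₂
  haveI := CohOpenH8.isQuasicoherent_biprod F₁ F₂
  refine FLFH8.finLocFree_of_fp_flat_sections (F₁ ⊞ F₂) (fun U => ?_)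
  obtain ⟨fp1, fl1⟩ := FLFH8.fp_flat_sections_of_finLocFree F₁ h₁ U.2
  obtain ⟨fp2, fl2⟩ := FLFH8.fp_flat_sections_of_finLocFree F₂ h₂ U.2
  haveI := fp1
  haveI := fl1
  haveI := fp2
  haveI := fl2
  haveI p1 : Module.Projective Γ(X, U.1) Γ(F₁, U.1) :=
    Module.Flat.projective_of_finitePresentation
  haveI p2 : Module.Projective Γ(X, U.1) Γ(F₂, U.1) :=
    Module.Flat.projective_of_finitePresentation
  have e := sectionsBiprod F₁ F₂ U.1
  exact ⟨Module.FinitePresentation.of_equiv e.symm, Module.Flat.of_linearEquiv e⟩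

end Sections

lemma isZero_biprod' {C : Type*} [Category C] [Preadditive C] [HasBinaryBiproducts C] {A B : C}
    (hA : IsZero A) (hB : IsZero B) : IsZero (A ⊞ B) := by
  rw [IsZero.iff_id_eq_zero, ← biprod.total, hA.eq_of_tgt biprod.fst 0, hB.eq_of_tgt biprod.snd 0]
  simp

theorem main {X : Scheme.{u}} {E F : CochainComplex X.Modules ℤ} (φ : E ⟶ F)
    (hE : DCoh.IsStrictlyPerfect E) (hF : DCoh.IsStrictlyPerfect F) :
    DCoh.IsStrictlyPerfect (CochainComplex.mappingCone φ) := by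
  obtain ⟨⟨a, b, hab⟩, hEf⟩ := hE
  obtain ⟨⟨a', b', hab'⟩, hFf⟩ := hF
  have iso : ∀ i : ℤ, (CochainComplex.mappingCone φ).X i ≅ E.X (i + 1) ⊞ F.X i := fun i =>
    HomologicalComplex.homotopyCofiber.XIsoBiprod φ i (i + 1) rfl
  refine ⟨⟨min a a' - 1, max b b', fun i hi => ?_⟩, fun i => ?_⟩
  · refine IsZero.of_iso (isZero_biprod' (hab (i + 1) ?_) (hab' i ?_)) (iso i)
    · rcases hi with hi | hi
      · left
        have := min_le_left a a'
        omega
      · right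
        have := le_max_left b b'
        omega
    · rcases hi with hi | hi
      · left
        have := min_le_right a a'
        omega
      · right
        have := le_max_right b b'
        omega
  · exact FLFH8.IsFinLocFree.of_iso (iso i).symm (finLocFree_biprod _ _ (hEf (i + 1)) (hFf i))

end Groth.Agent.Lib.ConeSP
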