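import Mathlib
import Groth.Prelude
import Groth.Agent.Lib.FreeLoc1_helper8
import Groth.Agent.Lib.EpiLoc_helper9

/-!
# Local null-homotopies of maps out of strictly perfect complexes (lead)

`main932`: a chain map from a strictly perfect complex `E` (zero below degree `a`) to a complex
`F` whose cohomology sheaves vanish in degrees `≥ a` is locally null-homotopic.
APPEND-ONLY once landed.
-/

set_option autoImplicit false
set_option linter.all false
set_option maxHeartbeats 1600000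
set_option backward.isDefEq.respectTransparency false
set_option backward.isDefEq.respectTransparency.types false
set_option backward.defeqAttrib.useBackward true

universe u

open CategoryTheory CategoryTheory.Limits AlgebraicGeometry TopologicalSpace Opposite
open QcqsLoc QCohExtn FLFH8 SDivGenH8

namespace Groth.Agent.Lib.DCohLocLead

noncomputable section

/-! ### Null-homotopic maps -/

section NH

variable {ι : Type*} {c : ComplexShape ι} {V : Type*} [Category V] [Preadditive V]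

/-- `φ` is null-homotopic. -/
def NH {K L : HomologicalComplex V c} (φ : K ⟶ L) : Prop := Nonempty (Homotopy φ 0)

variable {K L M : HomologicalComplex V c}

theorem NH.zero : NH (0 : K ⟶ L) := ⟨Homotopy.refl 0⟩

theorem NH.of_eq {φ φ' : K ⟶ L} (h : NH φ) (e : φ = φ') : NH φ' := e ▸ h

theorem NH.add {φ ψ : K ⟶ L} (h : NH φ) (h' : NH ψ) : NH (φ + ψ) := by
  obtain ⟨h⟩ := h
  obtain ⟨h'⟩ := h'
  exact ⟨(h.add h').trans (Homotopy.ofEq (add_zero 0))⟩

theorem NH.comp_left {φ : L ⟶ M} (h : NH φ) (e : K ⟶ L) : NH (e ≫ φ) := by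
  obtain ⟨h⟩ := h
  exact ⟨(h.compLeft e).trans (Homotopy.ofEq comp_zero)⟩

theorem NH.comp_right {φ : K ⟶ L} (h : NH φ) (e : L ⟶ M) : NH (φ ≫ e) := by
  obtain ⟨h⟩ := h
  exact ⟨(h.compRight e).trans (Homotopy.ofEq zero_comp)⟩

theorem NH.map {W : Type*} [Category W] [Preadditive W] (G : V ⥤ W) [G.Additive] {φ : K ⟶ L}
    (h : NH φ) : NH ((G.mapHomologicalComplex c).map φ) := by
  obtain ⟨h⟩ := h
  exact ⟨(G.mapHomotopy h).trans (Homotopy.ofEq (Functor.map_zero _ _ _))⟩

end NH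

/-! ### A homotopy concentrated in one bidegree -/

section Single

variable {V : Type*} [Category V] [Preadditive V] {K L : CochainComplex V ℤ}

/-- The family of maps which is `ψ` in bidegree `(b, b - 1)` and zero elsewhere. -/
def singleHom (b : ℤ) (ψ : K.X b ⟶ L.X (b - 1)) (i j : ℤ) : K.X i ⟶ L.X j :=
  if h : i = b ∧ j = b - 1 then eqToHom (by rw [h.1]) ≫ ψ ≫ eqToHom (by rw [h.2]) else 0

theorem singleHom_self (b : ℤ) (ψ : K.X b ⟶ L.X (b - 1)) : singleHom b ψ b (b - 1) = ψ := by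
  unfold singleHom
  rw [dif_pos ⟨rfl, rfl⟩]
  simp

theorem singleHom_ne_left (b : ℤ) (ψ : K.X b ⟶ L.X (b - 1)) {i j : ℤ} (h : i ≠ b) :
    singleHom b ψ i j = 0 := by
  unfold singleHom
  rw [dif_neg (fun h' => h h'.1)]

theorem singleHom_ne_right (b : ℤ) (ψ : K.X b ⟶ L.X (b - 1)) {i j : ℤ} (h : j ≠ b - 1) :
    singleHom b ψ i j = 0 := by
  unfold singleHom
  rw [dif_neg (fun h' => h h'.2)]

theorem singleHom_zero (b : ℤ) (ψ : K.X b ⟶ L.X (b - 1)) (i j : ℤ)
    (hij : ¬ (ComplexShape.up ℤ).Rel j i) : singleHom b ψ i j = 0 := by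
  unfold singleHom
  rw [dif_neg]
  rintro ⟨h1, h2⟩
  apply hij
  show j + 1 = i
  omega

theorem nullHomotopicMap_singleHom_f_self (b : ℤ) (ψ : K.X b ⟶ L.X (b - 1)) :
    (Homotopy.nullHomotopicMap (singleHom b ψ)).f b = ψ ≫ L.d (b - 1) b := by
  rw [Homotopy.nullHomotopicMap_f (c := ComplexShape.up ℤ) (k₂ := b - 1) (k₁ := b) (k₀ := b + 1)
    (by show b - 1 + 1 = b; omega) (by show b + 1 = b + 1; rfl)]
  rw [singleHom_ne_left b ψ (by omega), comp_zero, zero_add, singleHom_self]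

theorem nullHomotopicMap_singleHom_f_of_lt (b : ℤ) (ψ : K.X b ⟶ L.X (b - 1)) (i : ℤ)
    (hi : b < i) : (Homotopy.nullHomotopicMap (singleHom b ψ)).f i = 0 := by
  rw [Homotopy.nullHomotopicMap_f (c := ComplexShape.up ℤ) (k₂ := i - 1) (k₁ := i) (k₀ := i + 1)
    (by show i - 1 + 1 = i; omega) (by show i + 1 = i + 1; rfl)]
  rw [singleHom_ne_left b ψ (by omega), singleHom_ne_left b ψ (by omega), comp_zero, zero_comp,
    add_zero]

theorem NH_nullHomotopicMap_singleHom (b : ℤ) (ψ : K.X b ⟶ L.X (b - 1)) :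
    NH (Homotopy.nullHomotopicMap (singleHom b ψ)) :=
  ⟨Homotopy.nullHomotopy _ (singleHom_zero b ψ)⟩

end Single

/-! ### Local lifting of maps out of finite locally free modules -/

section Lift

variable {X : Scheme.{u}}

theorem exists_finite_lift {P Q : X.Modules} (π : P ⟶ Q) [Epi π] {U : X.Opens}
    {n : ℕ} (q : Fin n → Γ(Q, U)) {x : X} (hx : x ∈ U) :
    ∃ (V : X.Opens) (hV : V ≤ U), x ∈ V ∧ ∃ p : Fin n → Γ(P, V),
      ∀ k, ap π V (p k) = rF Q hV (q k) := by
  have h := fun k => EpiLoc.exists_local_lift π (q k) hx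
  choose Vk hVk hxVk pk hpk using h
  have hx' : x ∈ Finset.univ.inf Vk :=
    Finset.inf_induction (p := fun W : X.Opens => x ∈ W) trivial
      (fun a ha b hb => ⟨ha, hb⟩) (fun k _ => hxVk k)
  have hle : ∀ k, Finset.univ.inf Vk ⊓ U ≤ Vk k := fun k =>
    inf_le_left.trans (Finset.inf_le (Finset.mem_univ k))
  refine ⟨Finset.univ.inf Vk ⊓ U, inf_le_right, ⟨hx', hx⟩,
    fun k => rF P (hle k) (pk k), fun k => ?_⟩
  rw [ap_rF]
  have h1 : ap π (Vk k) (pk k) = rF Q (hVk k) (q k) := hpk k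
  rw [h1, QcqsLoc.rF_rF]

/-- Maps out of a finite locally free module lift locally along epimorphisms. -/
theorem exists_local_lift_of_finLocFree {M P Q : X.Modules} (hM : FlatMod.IsFinLocFree M)
    (π : P ⟶ Q) [Epi π] (φ : M ⟶ Q) (x : X) :
    ∃ V : X.Opens, x ∈ V ∧ ∃ ψ : M.restrict V.ι ⟶ P.restrict V.ι,
      ψ ≫ (Scheme.Modules.restrictFunctor V.ι).map π =
        (Scheme.Modules.restrictFunctor V.ι).map φ := by
  obtain ⟨U, n, hxU, ⟨α⟩⟩ := hM x
  obtain ⟨t, ht⟩ := exists_sections_of_iso M α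
  have hxU' : x ∈ U.ι ''ᵁ ⊤ := by rw [Scheme.Opens.ι_image_top]; exact hxU
  obtain ⟨V, hV, hxV, p, hp⟩ := exists_finite_lift π (fun k => ap φ _ (t k)) hxU'
  have hV' : V.ι ''ᵁ ⊤ ≤ U.ι ''ᵁ ⊤ := by rw [Scheme.Opens.ι_image_top]; exact hV
  have hVV : V.ι ''ᵁ ⊤ ≤ V := by rw [Scheme.Opens.ι_image_top]
  let t' : Fin n → Γ(M, V.ι ''ᵁ ⊤) := fun k => rF M hV' (t k)
  have ht' : ∀ (O : X.Opens) (hO : O ≤ V.ι ''ᵁ ⊤), BasisOn M t' O hO :=
    fun O hO => BasisOn.of_rF M t hV' hO (ht O (hO.trans hV'))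
  haveI := isIso_freeHom_restrict M t' ht'
  let t'' : Fin n → Γ(M.restrict V.ι, ⊤) := t'
  let s' : Fin n → Γ(P.restrict V.ι, ⊤) := fun k => rF P hVV (p k)
  have key : ∀ k, ap ((Scheme.Modules.restrictFunctor V.ι).map π) ⊤ (s' k) =
      ap ((Scheme.Modules.restrictFunctor V.ι).map φ) ⊤ (t'' k) := by
    intro k
    show ap π (V.ι ''ᵁ ⊤) (rF P hVV (p k)) = ap φ (V.ι ''ᵁ ⊤) (rF M hV' (t k))
    rw [ap_rF, ap_rF, hp k, QcqsLoc.rF_rF]
  refine ⟨V, hxV, inv (freeHom (M.restrict V.ι) t'') ≫ freeHom (P.restrict V.ι) s', ?_⟩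
  rw [← cancel_epi (freeHom (M.restrict V.ι) t''), Category.assoc, IsIso.hom_inv_id_assoc,
    freeHom_comp, freeHom_comp]
  exact congrArg (freeHom (Scheme.Modules.restrict Q V.ι)) (funext key)

/-- Maps out of a finite locally free module into the middle term of an exact short complex,
killed by the second map, lift locally along the first map. -/
theorem exists_local_lift_of_exact {M : X.Modules} (hM : FlatMod.IsFinLocFree M)
    (S : ShortComplex X.Modules) (hS : S.Exact) (φ : M ⟶ S.X₂) (hφ : φ ≫ S.g = 0) (x : X) :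
    ∃ V : X.Opens, x ∈ V ∧ ∃ ψ : M.restrict V.ι ⟶ S.X₁.restrict V.ι,
      ψ ≫ (Scheme.Modules.restrictFunctor V.ι).map S.f =
        (Scheme.Modules.restrictFunctor V.ι).map φ := by
  rw [ShortComplex.exact_iff_epi_kernel_lift] at hS
  haveI := hS
  obtain ⟨V, hxV, ψ, hψ⟩ := exists_local_lift_of_finLocFree hM
    (kernel.lift S.g S.f S.zero) (kernel.lift S.g φ hφ) x
  refine ⟨V, hxV, ψ, ?_⟩
  calc ψ ≫ (Scheme.Modules.restrictFunctor V.ι).map S.f
      = ψ ≫ (Scheme.Modules.restrictFunctor V.ι).map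
          (kernel.lift S.g S.f S.zero ≫ kernel.ι S.g) := by rw [kernel.lift_ι]
    _ = (ψ ≫ (Scheme.Modules.restrictFunctor V.ι).map (kernel.lift S.g S.f S.zero)) ≫
          (Scheme.Modules.restrictFunctor V.ι).map (kernel.ι S.g) := by
        rw [Functor.map_comp, Category.assoc]
    _ = (Scheme.Modules.restrictFunctor V.ι).map (kernel.lift S.g φ hφ) ≫
          (Scheme.Modules.restrictFunctor V.ι).map (kernel.ι S.g) := by rw [hψ]
    _ = (Scheme.Modules.restrictFunctor V.ι).map φ := by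
        rw [← Functor.map_comp, kernel.lift_ι]

theorem isFinLocFree_restrict {M : X.Modules} (hM : FlatMod.IsFinLocFree M) (U : X.Opens) :
    FlatMod.IsFinLocFree (M.restrict U.ι) := by
  intro y
  obtain ⟨W, n, hyW, ⟨α⟩⟩ := hM y.1
  refine ⟨U.ι ⁻¹ᵁ W, n, hyW, ?_⟩
  refine FreeLocH8.iso_restrict_restrict M α U (U.ι ⁻¹ᵁ W) ?_
  rw [Scheme.Hom.image_preimage_eq_opensRange_inf]
  exact inf_le_right

end Lift

/-! ### Restriction of complexes along open immersions -/

/-- Termwise restriction of complexes along an open immersion. -/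
abbrev RC {Y X : Scheme.{u}} (j : Y ⟶ X) [IsOpenImmersion j] :
    CochainComplex X.Modules ℤ ⥤ CochainComplex Y.Modules ℤ :=
  (Scheme.Modules.restrictFunctor j).mapHomologicalComplex (ComplexShape.up ℤ)

theorem NH_of_comp {Z Y X : Scheme.{u}} (k : Z ⟶ Y) (j : Y ⟶ X) (l : Z ⟶ X)
    [IsOpenImmersion k] [IsOpenImmersion j] [IsOpenImmersion l] (h : k ≫ j = l)
    {E F : CochainComplex X.Modules ℤ} (α : E ⟶ F)
    (H : NH ((RC k).map ((RC j).map α))) : NH ((RC l).map α) := by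
  subst h
  obtain ⟨H⟩ := H
  have H2 : NH (((Scheme.Modules.restrictFunctor j ⋙
      Scheme.Modules.restrictFunctor k).mapHomologicalComplex (ComplexShape.up ℤ)).map α) :=
    ⟨{ hom := H.hom, zero := H.zero, comm := H.comm }⟩
  let τ := NatIso.mapHomologicalComplex (Scheme.Modules.restrictFunctorComp k j)
    (ComplexShape.up ℤ)
  have e : (RC (k ≫ j)).map α = (τ.hom.app E ≫
      ((Scheme.Modules.restrictFunctor j ⋙
      Scheme.Modules.restrictFunctor k).mapHomologicalComplex (ComplexShape.up ℤ)).map α) ≫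
        τ.inv.app F := by
    rw [← τ.hom.naturality α, Category.assoc, Iso.hom_inv_id_app, Category.comp_id]
  exact ((H2.comp_left _).comp_right _).of_eq e.symm

/-! ### The main induction -/

theorem key (n : ℕ) : ∀ {X : Scheme.{u}} {E F : CochainComplex X.Modules ℤ} (α : E ⟶ F)
    (hE : ∀ i : ℤ, FlatMod.IsFinLocFree (E.X i)) (a : ℤ)
    (hEa : ∀ i : ℤ, i < a → IsZero (E.X i))
    (hF : ∀ i : ℤ, a ≤ i → IsZero (F.homology i))
    (hα : ∀ i : ℤ, a + (n : ℤ) ≤ i → α.f i = 0) (x : X),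
    ∃ (Y : Scheme.{u}) (j : Y ⟶ X) (_ : IsOpenImmersion j),
      (∃ y : Y, j y = x) ∧ NH ((RC j).map α) := by
  induction n with
  | zero =>
    intro X E F α hE a hEa hF hα x
    have h0 : α = 0 := by
      apply HomologicalComplex.hom_ext
      intro i
      by_cases hi : i < a
      · exact (hEa i hi).eq_of_src _ _
      · show α.f i = 0
        exact hα i (by simpa using hi)
    subst h0
    refine ⟨X, 𝟙 X, inferInstance, ⟨x, rfl⟩, ?_⟩
    exact NH.zero.of_eq (Functor.map_zero _ _ _).symm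
  | succ n ih =>
    intro X E F α hE a hEa hF hα x
    obtain ⟨b, hb⟩ : ∃ b : ℤ, b = a + (n : ℤ) := ⟨_, rfl⟩
    have hα' : ∀ i : ℤ, b + 1 ≤ i → α.f i = 0 := fun i hi => hα i (by push_cast; omega)
    have hex : (F.sc' (b - 1) b (b + 1)).Exact := by
      rw [← HomologicalComplex.exactAt_iff' F (b - 1) b (b + 1) (by simp) (by simp),
        HomologicalComplex.exactAt_iff_isZero_homology]
      exact hF b (by omega)
    have hφ : α.f b ≫ (F.sc' (b - 1) b (b + 1)).g = 0 := by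
      show α.f b ≫ F.d b (b + 1) = 0
      rw [α.comm b (b + 1), hα' (b + 1) le_rfl, comp_zero]
    obtain ⟨V, hxV, ψ, hψ⟩ := exists_local_lift_of_exact (hE b) _ hex (α.f b) hφ x
    let ψ' : ((RC V.ι).obj E).X b ⟶ ((RC V.ι).obj F).X (b - 1) := ψ
    have hψ' : ψ' ≫ ((RC V.ι).obj F).d (b - 1) b = ((RC V.ι).map α).f b := hψ
    let N : (RC V.ι).obj E ⟶ (RC V.ι).obj F := Homotopy.nullHomotopicMap (singleHom b ψ')
    have hE' : ∀ i : ℤ, FlatMod.IsFinLocFree (((RC V.ι).obj E).X i) :=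
      fun i => isFinLocFree_restrict (hE i) V
    have hEa' : ∀ i : ℤ, i < a → IsZero (((RC V.ι).obj E).X i) :=
      fun i hi => (Scheme.Modules.restrictFunctor V.ι).map_isZero (hEa i hi)
    have hF' : ∀ i : ℤ, a ≤ i → IsZero (((RC V.ι).obj F).homology i) := by
      intro i hi
      have h1 := hF i hi
      rw [← HomologicalComplex.exactAt_iff_isZero_homology] at h1 ⊢
      exact ShortComplex.Exact.map h1 (Scheme.Modules.restrictFunctor V.ι)
    have hα'' : ∀ i : ℤ, a + (n : ℤ) ≤ i → ((RC V.ι).map α - N).f i = 0 := by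
      intro i hi
      rw [HomologicalComplex.sub_f_apply]
      rcases (show b = i ∨ b < i by omega) with h | h
      · subst h
        rw [nullHomotopicMap_singleHom_f_self, hψ', sub_self]
      · rw [nullHomotopicMap_singleHom_f_of_lt b ψ' i h, sub_zero]
        show (Scheme.Modules.restrictFunctor V.ι).map (α.f i) = 0
        rw [hα' i (by omega), Functor.map_zero]
    obtain ⟨Y', j', hj', ⟨y', hy'⟩, hNH⟩ :=
      ih ((RC V.ι).map α - N) hE' a hEa' hF' hα'' (show V.toScheme from (⟨x, hxV⟩ : V))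
    haveI := hj'
    have h1 : NH ((RC j').map ((RC V.ι).map α)) := by
      have e : (RC V.ι).map α = ((RC V.ι).map α - N) + N := (sub_add_cancel _ _).symm
      rw [e, Functor.map_add]
      exact hNH.add ((NH_nullHomotopicMap_singleHom b ψ').map _)
    refine ⟨Y', j' ≫ V.ι, inferInstance, ⟨y', ?_⟩, NH_of_comp j' V.ι _ rfl α h1⟩
    rw [Scheme.Hom.comp_apply, hy']
    rfl

/-- A chain map from a strictly perfect complex `E`, zero below degree `a`, to a complex whose
cohomology sheaves vanish in degrees `≥ a`, is locally null-homotopic. -/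
theorem main932 {X : Scheme.{u}} {E F : CochainComplex X.Modules ℤ}
    (α : E ⟶ F) (hE : DCoh.IsStrictlyPerfect E) (a : ℤ)
    (hEa : ∀ i : ℤ, i < a → IsZero (E.X i))
    (hF : ∀ i : ℤ, a ≤ i → IsZero (F.homology i)) (x : X) :
    ∃ V : X.Opens, x ∈ V ∧ Nonempty (Homotopy ((DCoh.restrictCx V).map α) 0) := by
  obtain ⟨⟨a₀, b₀, hv⟩, hfl⟩ := hE
  have hα : ∀ i : ℤ, a + ((b₀ + 1 - a).toNat : ℤ) ≤ i → α.f i = 0 := by
    intro i hi
    apply (hv i (Or.inr _)).eq_of_src
    have := Int.self_le_toNat (b₀ + 1 - a)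
    omega
  obtain ⟨Y, j, hj, ⟨y, hy⟩, hNH⟩ := key _ α hfl a hEa hF hα x
  haveI := hj
  refine ⟨j.opensRange, ⟨y, hy⟩, ?_⟩
  have h1 : NH ((RC j.isoOpensRange.inv).map ((RC j).map α)) := hNH.map _
  exact NH_of_comp j.isoOpensRange.inv j j.opensRange.ι j.isoOpensRange_inv_comp α h1

end

end Groth.Agent.Lib.DCohLocLead
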