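import Mathlib
import Groth.Prelude
import Groth.Agent.Lib.DCohLoc1_lead

/-!
# Local lifting through quasi-isomorphisms and local representability of maps in `D(O_X)` (lead)

`main933`, `main944`.  APPEND-ONLY once landed.
-/

set_option autoImplicit false
set_option linter.all false
set_option maxHeartbeats 1600000
set_option backward.isDefEq.respectTransparency false
set_option backward.isDefEq.respectTransparency.types false
set_option backward.defeqAttrib.useBackward true

universe u v₁ u₁ v₂ u₂

open CategoryTheory CategoryTheory.Limits AlgebraicGeometry TopologicalSpace Opposite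

attribute [local instance] HasDerivedCategory.standard

namespace Groth.Agent.Lib.DCohLocLead

noncomputable section

/-! ### Homology of a mapping cone -/

section Cone

variable {C : Type u₁} [Category.{v₁} C] [Abelian C] [HasDerivedCategory C]

open DerivedCategory in
theorem epi_homologyFunctor_map_Q_map {G F : CochainComplex C ℤ} (f : G ⟶ F) (j : ℤ)
    (h : Epi (HomologicalComplex.homologyMap f j)) :
    Epi ((homologyFunctor C j).map (Q.map f)) := by
  have h0 := homologyFunctorFactors_hom_naturality f j
  have e : (homologyFunctor C j).map (Q.map f) =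
      ((homologyFunctorFactors C j).hom.app G ≫ HomologicalComplex.homologyMap f j) ≫
        (homologyFunctorFactors C j).inv.app F :=
    (Iso.eq_comp_inv ((homologyFunctorFactors C j).app F)).2 h0
  rw [e]
  infer_instance

open DerivedCategory in
theorem mono_homologyFunctor_map_Q_map {G F : CochainComplex C ℤ} (f : G ⟶ F) (j : ℤ)
    (h : Mono (HomologicalComplex.homologyMap f j)) :
    Mono ((homologyFunctor C j).map (Q.map f)) := by
  have h0 := homologyFunctorFactors_hom_naturality f j
  have e : (homologyFunctor C j).map (Q.map f) =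
      ((homologyFunctorFactors C j).hom.app G ≫ HomologicalComplex.homologyMap f j) ≫
        (homologyFunctorFactors C j).inv.app F :=
    (Iso.eq_comp_inv ((homologyFunctorFactors C j).app F)).2 h0
  rw [e]
  infer_instance

open DerivedCategory in
/-- If `Hʲ(f)` is an epimorphism and `Hʲ⁺¹(f)` a monomorphism, the mapping cone of `f` has no
cohomology in degree `j`. -/
theorem isZero_homology_mappingCone {G F : CochainComplex C ℤ} (f : G ⟶ F) (j : ℤ)
    (h1 : Epi (HomologicalComplex.homologyMap f j))
    (h2 : Mono (HomologicalComplex.homologyMap f (j + 1))) :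
    IsZero ((CochainComplex.mappingCone f).homology j) := by
  let T := Q.mapTriangle.obj (CochainComplex.mappingCone.triangle f)
  have hT : T ∈ distTriang (DerivedCategory C) := by
    rw [mem_distTriang_iff]
    exact ⟨_, _, f, ⟨Iso.refl _⟩⟩
  have e1 : Epi ((homologyFunctor C j).map T.mor₁) := epi_homologyFunctor_map_Q_map f j h1
  have m1 : Mono ((homologyFunctor C (j + 1)).map T.mor₁) :=
    mono_homologyFunctor_map_Q_map f (j + 1) h2
  have z2 : (homologyFunctor C j).map T.mor₂ = 0 :=
    ((homologyFunctor C 0).homologySequence_epi_shift_map_mor₁_iff _ hT j).1 e1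
  have d0 : (homologyFunctor C 0).homologySequenceδ T j (j + 1) rfl = 0 :=
    ((homologyFunctor C 0).homologySequence_mono_shift_map_mor₁_iff _ hT j (j + 1) rfl).1 m1
  have e2 : Epi ((homologyFunctor C j).map T.mor₂) :=
    ((homologyFunctor C 0).homologySequence_epi_shift_map_mor₂_iff _ hT j (j + 1) rfl).2 d0
  have hz : IsZero ((homologyFunctor C j).obj T.obj₃) := by
    rw [IsZero.iff_id_eq_zero, ← cancel_epi ((homologyFunctor C j).map T.mor₂), z2, zero_comp,
      zero_comp]
  exact hz.of_iso ((homologyFunctorFactors C j).app (CochainComplex.mappingCone f)).symm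

end Cone

/-! ### Lifting through a map whose cone is killed -/

section LiftCone

variable {W : Type u₂} [Category.{v₂} W] [Abelian W]

theorem exists_lift_of_NH_inr {E F G : CochainComplex W ℤ} (α : E ⟶ F) (f : G ⟶ F)
    (H : NH (α ≫ CochainComplex.mappingCone.inr f)) :
    ∃ β : E ⟶ G, Nonempty (Homotopy (β ≫ f) α) := by
  have hT := HomotopyCategory.mappingCone_triangleh_distinguished f
  have hg : (HomotopyCategory.quotient W (ComplexShape.up ℤ)).map α ≫
      (CochainComplex.mappingCone.triangleh f).mor₂ = 0 := by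
    show (HomotopyCategory.quotient W (ComplexShape.up ℤ)).map α ≫
      (HomotopyCategory.quotient W (ComplexShape.up ℤ)).map (CochainComplex.mappingCone.inr f) = 0
    rw [← Functor.map_comp, HomotopyCategory.quotient_map_eq_zero_iff]
    exact H
  obtain ⟨β', hβ'⟩ := Pretriangulated.Triangle.coyoneda_exact₂ _ hT _ hg
  let β'' : (HomotopyCategory.quotient W (ComplexShape.up ℤ)).obj E ⟶
    (HomotopyCategory.quotient W (ComplexShape.up ℤ)).obj G := β'
  obtain ⟨β, hβ⟩ := (HomotopyCategory.quotient W (ComplexShape.up ℤ)).map_surjective β''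
  refine ⟨β, ⟨HomotopyCategory.homotopyOfEq _ _ ?_⟩⟩
  rw [Functor.map_comp, hβ]
  exact hβ'.symm

variable {C : Type u₁} [Category.{v₁} C] [Abelian C]

theorem exists_lift_of_NH (Φ : C ⥤ W) [Φ.Additive] {E F G : CochainComplex C ℤ} (α : E ⟶ F)
    (f : G ⟶ F)
    (H : Nonempty (Homotopy ((Φ.mapHomologicalComplex (ComplexShape.up ℤ)).map
      (α ≫ CochainComplex.mappingCone.inr f)) 0)) :
    ∃ β : (Φ.mapHomologicalComplex (ComplexShape.up ℤ)).obj E ⟶
        (Φ.mapHomologicalComplex (ComplexShape.up ℤ)).obj G,
      Nonempty (Homotopy (β ≫ (Φ.mapHomologicalComplex (ComplexShape.up ℤ)).map f)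
        ((Φ.mapHomologicalComplex (ComplexShape.up ℤ)).map α)) := by
  apply exists_lift_of_NH_inr
  have e : (Φ.mapHomologicalComplex (ComplexShape.up ℤ)).map α ≫
      CochainComplex.mappingCone.inr ((Φ.mapHomologicalComplex (ComplexShape.up ℤ)).map f) =
      (Φ.mapHomologicalComplex (ComplexShape.up ℤ)).map (α ≫ CochainComplex.mappingCone.inr f) ≫
        (CochainComplex.mappingCone.mapHomologicalComplexIso f Φ).hom := by
    rw [Functor.map_comp, Category.assoc, CochainComplex.mappingCone.map_inr]
  exact (NH.comp_right H _).of_eq e.symm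

end LiftCone

/-! ### The two local statements -/

theorem main933 {X : Scheme.{u}} {E F G : CochainComplex X.Modules ℤ}
    (α : E ⟶ F) (f : G ⟶ F) (hE : DCoh.IsStrictlyPerfect E) (a : ℤ)
    (hEa : ∀ j : ℤ, j < a → IsZero (E.X j))
    (hf : ∀ j : ℤ, a < j → IsIso (HomologicalComplex.homologyMap f j))
    (hfa : Epi (HomologicalComplex.homologyMap f a)) (x : X) :
    ∃ (V : X.Opens) (β : (DCoh.restrictCx V).obj E ⟶ (DCoh.restrictCx V).obj G), x ∈ V ∧
      Nonempty (Homotopy (β ≫ (DCoh.restrictCx V).map f) ((DCoh.restrictCx V).map α)) := by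
  have hC : ∀ j : ℤ, a ≤ j → IsZero ((CochainComplex.mappingCone f).homology j) := by
    intro j hj
    haveI : IsIso (HomologicalComplex.homologyMap f (j + 1)) := hf (j + 1) (by omega)
    have h1 : Epi (HomologicalComplex.homologyMap f j) := by
      rcases (show a = j ∨ a < j by omega) with h | h
      · subst h; exact hfa
      · haveI := hf j h; infer_instance
    exact isZero_homology_mappingCone f j h1 inferInstance
  obtain ⟨V, hxV, hNH⟩ := main932 (α ≫ CochainComplex.mappingCone.inr f) hE a hEa hC x
  obtain ⟨β, hβ⟩ := exists_lift_of_NH (Scheme.Modules.restrictFunctor V.ι) α f hNH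
  exact ⟨V, β, hxV, hβ⟩

open DerivedCategory in
theorem main944 {X : Scheme.{u}} {E F : CochainComplex X.Modules ℤ}
    (hE : DCoh.IsStrictlyPerfect E) (α : DCoh.toD X E ⟶ DCoh.toD X F) (x : X) :
    ∃ V : X.Opens, x ∈ V ∧ ∀ [PreservesFiniteLimits (Scheme.Modules.restrictFunctor V.ι)],
      ∃ β : (DCoh.restrictCx V).obj E ⟶ (DCoh.restrictCx V).obj F,
        (DCoh.restrictD V.ι).map α =
          (Scheme.Modules.restrictFunctor V.ι).mapDerivedCategoryFactors.hom.app E ≫
            DerivedCategory.Q.map β ≫
            (Scheme.Modules.restrictFunctor V.ι).mapDerivedCategoryFactors.inv.app F := by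
  obtain ⟨Y', g, s, hs, hα⟩ := DerivedCategory.left_fac α
  have hE' := hE
  obtain ⟨⟨a₀, b₀, hv⟩, hfl⟩ := hE'
  have hqi : QuasiIso s := (DerivedCategory.isIso_Q_map_iff_quasiIso _ s).1 hs
  have hiso : ∀ j : ℤ, IsIso (HomologicalComplex.homologyMap s j) := fun j => by
    have : QuasiIsoAt s j := inferInstance
    exact (quasiIsoAt_iff_isIso_homologyMap s j).1 this
  have hepi : Epi (HomologicalComplex.homologyMap s a₀) := by
    haveI := hiso a₀
    infer_instance
  obtain ⟨V, β, hxV, ⟨h⟩⟩ := main933 g s hE a₀ (fun j hj => hv j (Or.inl hj))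
    (fun j _ => hiso j) hepi x
  refine ⟨V, hxV, ?_⟩
  intro inst
  refine ⟨β, ?_⟩
  have hQ : Q.map β ≫ Q.map ((DCoh.restrictCx V).map s) = Q.map ((DCoh.restrictCx V).map g) := by
    rw [← Functor.map_comp]
    exact DerivedCategory.Q_map_eq_of_homotopy _ h
  have n1 : ∀ {K L : CochainComplex X.Modules ℤ} (φ : K ⟶ L),
      (DCoh.restrictD V.ι).map (Q.map φ) =
        (Scheme.Modules.restrictFunctor V.ι).mapDerivedCategoryFactors.hom.app K ≫
          Q.map ((DCoh.restrictCx V).map φ) ≫
          (Scheme.Modules.restrictFunctor V.ι).mapDerivedCategoryFactors.inv.app L := fun φ =>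
    (NatIso.naturality_2 (Scheme.Modules.restrictFunctor V.ι).mapDerivedCategoryFactors φ).symm
  rw [hα, Functor.map_comp, Functor.map_inv, IsIso.comp_inv_eq, n1 g, n1 s]
  simp only [Category.assoc, Iso.inv_hom_id_app_assoc]
  rw [← hQ, Category.assoc]

end

end Groth.Agent.Lib.DCohLocLead
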