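import Mathlib
import Groth.Prelude
import Groth.Agent.Lib.DCohLoc2_lead
import Groth.Agent.Lib.ConeSP_lead

/-!
# Perfect objects of `D(O_X)`: local representatives, finite free representatives, two out of three
(lead)

`main923`, `main887`.  APPEND-ONLY once landed.
-/

set_option autoImplicit false
set_option linter.all false
set_option maxHeartbeats 1600000
set_option backward.isDefEq.respectTransparency false
set_option backward.isDefEq.respectTransparency.types false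
set_option backward.defeqAttrib.useBackward true

universe u

open CategoryTheory CategoryTheory.Limits AlgebraicGeometry TopologicalSpace Opposite
open CategoryTheory.Pretriangulated

attribute [local instance] HasDerivedCategory.standard

namespace Groth.Agent.Lib.DCohLocLead

noncomputable section

/-! ### Restriction of free and finite locally free modules along open immersions -/

section Free

variable {Y X : Scheme.{u}} (j : Y ⟶ X) [IsOpenImmersion j]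

/-- The restriction of a free module along an open immersion is free. -/
def restrictFreeIso (n : ℕ) :
    (Scheme.Modules.restrictFunctor j).obj (FlatMod.freeMod X n) ≅ FlatMod.freeMod Y n :=
  PreservesCoproduct.iso (Scheme.Modules.restrictFunctor j) _ ≪≫
    Sigma.mapIso (fun _ => Scheme.Modules.restrictUnitIso j)

theorem isFinLocFree_restrictFunctor {M : X.Modules} (hM : FlatMod.IsFinLocFree M) :
    FlatMod.IsFinLocFree ((Scheme.Modules.restrictFunctor j).obj M) := by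
  intro y
  obtain ⟨U, n, hyU, ⟨α⟩⟩ := hM (j y)
  refine ⟨j ⁻¹ᵁ U, n, hyU, ⟨?_⟩⟩
  exact ((Scheme.Modules.restrictFunctorComp (j ⁻¹ᵁ U).ι j).app M).symm ≪≫
    (Scheme.Modules.restrictFunctorCongr (morphismRestrict_ι j U).symm).app M ≪≫
    (Scheme.Modules.restrictFunctorComp (j ∣_ U) U.ι).app M ≪≫
    (Scheme.Modules.restrictFunctor (j ∣_ U)).mapIso α ≪≫ restrictFreeIso (j ∣_ U) n

theorem isStrictlyPerfect_RC {P : CochainComplex X.Modules ℤ} (hP : DCoh.IsStrictlyPerfect P) :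
    DCoh.IsStrictlyPerfect ((RC j).obj P) := by
  obtain ⟨⟨a, b, hv⟩, hfl⟩ := hP
  exact ⟨⟨a, b, fun i hi => (Scheme.Modules.restrictFunctor j).map_isZero (hv i hi)⟩,
    fun i => isFinLocFree_restrictFunctor j (hfl i)⟩

theorem isZero_freeMod_zero (Y : Scheme.{u}) : IsZero (FlatMod.freeMod Y 0) := by
  rw [IsZero.iff_id_eq_zero]
  apply Sigma.hom_ext
  intro j
  exact j.elim0

/-- A bounded complex of finite free modules. -/
def IsStrictlyFree {Y : Scheme.{u}} (P : CochainComplex Y.Modules ℤ) : Prop :=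
  (∃ a b : ℤ, DCoh.VanishesOutside P a b) ∧
    ∀ i : ℤ, ∃ n : ℕ, Nonempty (P.X i ≅ FlatMod.freeMod Y n)

theorem IsStrictlyFree.isStrictlyPerfect {Y : Scheme.{u}} {P : CochainComplex Y.Modules ℤ}
    (h : IsStrictlyFree P) : DCoh.IsStrictlyPerfect P :=
  ⟨h.1, fun i => by
    obtain ⟨n, ⟨e⟩⟩ := h.2 i
    exact FLFH8.isFinLocFree_of_iso_free e⟩

theorem IsStrictlyFree.RC {P : CochainComplex X.Modules ℤ} (h : IsStrictlyFree P) :
    IsStrictlyFree ((RC j).obj P) := by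
  obtain ⟨⟨a, b, hv⟩, hfr⟩ := h
  refine ⟨⟨a, b, fun i hi => (Scheme.Modules.restrictFunctor j).map_isZero (hv i hi)⟩,
    fun i => ?_⟩
  obtain ⟨n, ⟨e⟩⟩ := hfr i
  exact ⟨n, ⟨(Scheme.Modules.restrictFunctor j).mapIso e ≪≫ restrictFreeIso j n⟩⟩

theorem exists_opens_isStrictlyFree {Y : Scheme.{u}} {P : CochainComplex Y.Modules ℤ}
    (hP : DCoh.IsStrictlyPerfect P) (y : Y) :
    ∃ W : Y.Opens, y ∈ W ∧ IsStrictlyFree ((RC W.ι).obj P) := by
  obtain ⟨⟨a, b, hv⟩, hfl⟩ := hP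
  have h := fun i => hfl i y
  choose U n hyU α using h
  have hyW : y ∈ (Finset.Icc a b).inf U :=
    Finset.inf_induction (p := fun W : Y.Opens => y ∈ W) trivial
      (fun a ha b hb => ⟨ha, hb⟩) (fun i _ => hyU i)
  refine ⟨(Finset.Icc a b).inf U, hyW,
    ⟨a, b, fun i hi => (Scheme.Modules.restrictFunctor _).map_isZero (hv i hi)⟩, fun i => ?_⟩
  by_cases hi : i ∈ Finset.Icc a b
  · obtain ⟨e⟩ := FLFH8.iso_restrict_of_le (P.X i)
      (Finset.inf_le hi : (Finset.Icc a b).inf U ≤ U i) (α i).some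
    exact ⟨n i, ⟨e⟩⟩
  · have hz : IsZero (P.X i) := hv i (by rw [Finset.mem_Icc] at hi; omega)
    exact ⟨0, ⟨((Scheme.Modules.restrictFunctor _).map_isZero hz).iso (isZero_freeMod_zero _)⟩⟩

end Free

/-! ### Restriction on derived categories -/

section Derived

open DerivedCategory

/-- Restriction `D(O_X) ⥤ D(O_Y)` along an open immersion. -/
abbrev DD {Y X : Scheme.{u}} (j : Y ⟶ X) [IsOpenImmersion j] : DCoh.D X ⥤ DCoh.D Y :=
  DCoh.restrictD j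

/-- Restricting then localizing is localizing then restricting. -/
def facIso {Y X : Scheme.{u}} (j : Y ⟶ X) [IsOpenImmersion j] (F : CochainComplex X.Modules ℤ) :
    (DD j).obj (Q.obj F) ≅ Q.obj ((RC j).obj F) :=
  (Scheme.Modules.restrictFunctor j).mapDerivedCategoryFactors.app F

theorem nonempty_DD_comp_iso {Z Y X : Scheme.{u}} (k : Z ⟶ Y) (j : Y ⟶ X) [IsOpenImmersion k]
    [IsOpenImmersion j] (K : DCoh.D X) :
    Nonempty ((DD (k ≫ j)).obj K ≅ (DD k).obj ((DD j).obj K)) := by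
  let F₀ : CochainComplex X.Modules ℤ := Q.objPreimage K
  let e : Q.obj F₀ ≅ K := Q.objObjPreimageIso K
  let c : (RC (k ≫ j)).obj F₀ ≅ (RC k).obj ((RC j).obj F₀) :=
    (NatIso.mapHomologicalComplex (Scheme.Modules.restrictFunctorComp k j)
      (ComplexShape.up ℤ)).app F₀
  exact ⟨(DD (k ≫ j)).mapIso e.symm ≪≫ facIso (k ≫ j) F₀ ≪≫ Q.mapIso c ≪≫
    (facIso k _).symm ≪≫ (DD k).mapIso (facIso j F₀).symm ≪≫ (DD k).mapIso ((DD j).mapIso e)⟩

/-- `K|_Y` is represented by a complex with property `Pr`. -/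
def LocRep (Pr : ∀ (Y : Scheme.{u}), CochainComplex Y.Modules ℤ → Prop) {Y X : Scheme.{u}}
    (j : Y ⟶ X) [IsOpenImmersion j] (K : DCoh.D X) : Prop :=
  ∃ P : CochainComplex Y.Modules ℤ, Pr Y P ∧ Nonempty ((DD j).obj K ≅ Q.obj P)

theorem nonempty_iso_comp {Z Y X : Scheme.{u}} (k : Z ⟶ Y) (j : Y ⟶ X) [IsOpenImmersion k]
    [IsOpenImmersion j] {K : DCoh.D X} {P : CochainComplex Y.Modules ℤ}
    (e : (DD j).obj K ≅ Q.obj P) : Nonempty ((DD (k ≫ j)).obj K ≅ Q.obj ((RC k).obj P)) := by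
  obtain ⟨c⟩ := nonempty_DD_comp_iso k j K
  exact ⟨c ≪≫ (DD k).mapIso e ≪≫ facIso k P⟩

theorem LocRep.comp {Pr Pr' : ∀ (Y : Scheme.{u}), CochainComplex Y.Modules ℤ → Prop}
    {Z Y X : Scheme.{u}} (k : Z ⟶ Y) (j : Y ⟶ X) [IsOpenImmersion k] [IsOpenImmersion j]
    {K : DCoh.D X} (h : LocRep Pr j K)
    (hPr : ∀ P : CochainComplex Y.Modules ℤ, Pr Y P → Pr' Z ((RC k).obj P)) :
    LocRep Pr' (k ≫ j) K := by
  obtain ⟨P, hP, ⟨e⟩⟩ := h
  exact ⟨(RC k).obj P, hPr P hP, nonempty_iso_comp k j e⟩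

theorem LocRep.of_eq {Pr : ∀ (Y : Scheme.{u}), CochainComplex Y.Modules ℤ → Prop}
    {Y X : Scheme.{u}} {j l : Y ⟶ X} [IsOpenImmersion j] [IsOpenImmersion l]
    {K : DCoh.D X} (h : LocRep Pr j K) (e : j = l) : LocRep Pr l K := by
  subst e
  exact h

theorem LocRep.opensRange {Pr Pr' : ∀ (Y : Scheme.{u}), CochainComplex Y.Modules ℤ → Prop}
    {Y X : Scheme.{u}} (j : Y ⟶ X) [IsOpenImmersion j] {K : DCoh.D X} (h : LocRep Pr j K)
    (hPr : ∀ P : CochainComplex Y.Modules ℤ, Pr Y P →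
      Pr' j.opensRange ((RC j.isoOpensRange.inv).obj P)) :
    LocRep Pr' j.opensRange.ι K :=
  (h.comp j.isoOpensRange.inv j hPr).of_eq j.isoOpensRange_inv_comp

/-- Strict perfectness as a property of complexes on all schemes. -/
def SP : ∀ (Y : Scheme.{u}), CochainComplex Y.Modules ℤ → Prop := fun _ P =>
  DCoh.IsStrictlyPerfect P

/-- Strict freeness as a property of complexes on all schemes. -/
def SF : ∀ (Y : Scheme.{u}), CochainComplex Y.Modules ℤ → Prop := fun _ P =>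
  IsStrictlyFree P

theorem isPerfect_iff {X : Scheme.{u}} (K : DCoh.D X) :
    DCoh.IsPerfect K ↔ ∀ x : X, ∃ V : X.Opens, x ∈ V ∧ LocRep SP V.ι K := by
  constructor
  · intro h x
    obtain ⟨V, hxV, hV⟩ := h x
    obtain ⟨E', hE', ⟨i⟩⟩ := hV (Q.objPreimage K) ⟨Q.objObjPreimageIso K⟩
    exact ⟨V, hxV, E', hE', ⟨(DD V.ι).mapIso (Q.objObjPreimageIso K).symm ≪≫
      facIso V.ι (Q.objPreimage K) ≪≫ i⟩⟩
  · intro h x
    obtain ⟨V, hxV, P, hP, ⟨e⟩⟩ := h x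
    refine ⟨V, hxV, fun F hF => ?_⟩
    obtain ⟨i⟩ := hF
    exact ⟨P, hP, ⟨(facIso V.ι F).symm ≪≫ (DD V.ι).mapIso i ≪≫ e⟩⟩

theorem isPerfect_of_locRep {X : Scheme.{u}} (K : DCoh.D X)
    (h : ∀ x : X, ∃ (Y : Scheme.{u}) (j : Y ⟶ X) (_ : IsOpenImmersion j),
      (∃ y : Y, j y = x) ∧ LocRep SP j K) : DCoh.IsPerfect K := by
  rw [isPerfect_iff]
  intro x
  obtain ⟨Y, j, hj, hy, hK⟩ := h x
  haveI := hj
  exact ⟨j.opensRange, hy, hK.opensRange j (fun P hP => isStrictlyPerfect_RC _ hP)⟩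

end Derived

/-! ### Perfect iff locally a bounded complex of finite free modules -/

open DerivedCategory in
theorem main923 {X : Scheme.{u}} (E : DCoh.D X) :
    DCoh.IsPerfect E ↔ ∀ x : X, ∃ V : X.Opens, x ∈ V ∧
      ∀ F : CochainComplex X.Modules ℤ, Nonempty (DCoh.toD X F ≅ E) →
        ∃ (P : CochainComplex (V : Scheme.{u}).Modules ℤ) (a b : ℤ), DCoh.VanishesOutside P a b ∧
          (∀ i : ℤ, ∃ n : ℕ, Nonempty (P.X i ≅ FlatMod.freeMod (V : Scheme.{u}) n)) ∧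
          Nonempty (DerivedCategory.Q.obj ((DCoh.restrictCx V).obj F) ≅
            DerivedCategory.Q.obj P) := by
  constructor
  · intro hE x
    obtain ⟨V, hxV, P, hP, ⟨e⟩⟩ := (isPerfect_iff E).1 hE x
    obtain ⟨W, hxW, hW⟩ := exists_opens_isStrictlyFree hP (show V.toScheme from (⟨x, hxV⟩ : V))
    obtain ⟨e'⟩ := nonempty_iso_comp W.ι V.ι e
    have h1 : LocRep SF (W.ι ≫ V.ι) E := ⟨_, hW, ⟨e'⟩⟩
    have h2 : LocRep SF (W.ι ≫ V.ι).opensRange.ι E :=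
      h1.opensRange _ (fun P hP => IsStrictlyFree.RC _ hP)
    refine ⟨(W.ι ≫ V.ι).opensRange,
      ⟨(show W.toScheme from (⟨(show V.toScheme from (⟨x, hxV⟩ : V)), hxW⟩ : W)), ?_⟩, ?_⟩
    · rw [Scheme.Hom.comp_apply]
      rfl
    · intro F hF
      obtain ⟨i⟩ := hF
      obtain ⟨P', ⟨⟨a, b, hv⟩, hfr⟩, ⟨e''⟩⟩ := h2
      exact ⟨P', a, b, hv, hfr, ⟨(facIso _ F).symm ≪≫ (DD _).mapIso i ≪≫ e''⟩⟩
  · intro h x
    obtain ⟨V, hxV, hV⟩ := h x
    refine ⟨V, hxV, fun F hF => ?_⟩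
    obtain ⟨P, a, b, hv, hfr, hiso⟩ := hV F hF
    exact ⟨P, IsStrictlyFree.isStrictlyPerfect ⟨⟨a, b, hv⟩, hfr⟩, hiso⟩

/-! ### Two out of three -/

section TwoOutOfThree

open DerivedCategory

theorem LocRep.shift {Y X : Scheme.{u}} (j : Y ⟶ X) [IsOpenImmersion j] {K : DCoh.D X}
    (h : LocRep SP j K) (n : ℤ) : LocRep SP j (K⟦n⟧) := by
  obtain ⟨P, ⟨⟨a, b, hv⟩, hfl⟩, ⟨e⟩⟩ := h
  refine ⟨P⟦n⟧, ⟨⟨a - n, b - n, fun i hi => ?_⟩, fun i => ?_⟩, ⟨?_⟩⟩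
  · show IsZero (P.X (i + n))
    exact hv _ (by omega)
  · show FlatMod.IsFinLocFree (P.X (i + n))
    exact hfl _
  · exact ((DD j).commShiftIso n).app K ≪≫ (shiftFunctor (DCoh.D Y) n).mapIso e ≪≫
      ((Q.commShiftIso n).app P).symm

theorem isPerfect_shift {X : Scheme.{u}} {K : DCoh.D X} (h : DCoh.IsPerfect K) (n : ℤ) :
    DCoh.IsPerfect (K⟦n⟧) := by
  rw [isPerfect_iff] at h ⊢
  intro x
  obtain ⟨V, hxV, hV⟩ := h x
  exact ⟨V, hxV, hV.shift V.ι n⟩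

/-- In a distinguished triangle, the third vertex is perfect if the first two are. -/
theorem isPerfect_obj₃ {X : Scheme.{u}} (T : Triangle (DCoh.D X))
    (hT : T ∈ distTriang (DCoh.D X)) (h₁ : DCoh.IsPerfect T.obj₁) (h₂ : DCoh.IsPerfect T.obj₂) :
    DCoh.IsPerfect T.obj₃ := by
  apply isPerfect_of_locRep
  intro x
  obtain ⟨V₁, hxV₁, hV₁⟩ := (isPerfect_iff _).1 h₁ x
  obtain ⟨V₂, hxV₂, hV₂⟩ := (isPerfect_iff _).1 h₂ x
  have hK : LocRep SP (V₁ ⊓ V₂).ι T.obj₁ :=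
    (hV₁.comp (X.homOfLE inf_le_left) V₁.ι (fun P hP => isStrictlyPerfect_RC _ hP)).of_eq
      (X.homOfLE_ι _)
  have hL : LocRep SP (V₁ ⊓ V₂).ι T.obj₂ :=
    (hV₂.comp (X.homOfLE inf_le_right) V₂.ι (fun P hP => isStrictlyPerfect_RC _ hP)).of_eq
      (X.homOfLE_ι _)
  obtain ⟨P₁, hP₁, ⟨e₁⟩⟩ := hK
  obtain ⟨P₂, hP₂, ⟨e₂⟩⟩ := hL
  have hxV : x ∈ V₁ ⊓ V₂ := ⟨hxV₁, hxV₂⟩
  obtain ⟨W, hxW, hW⟩ := main944 hP₁ (e₁.inv ≫ (DD (V₁ ⊓ V₂).ι).map T.mor₁ ≫ e₂.hom)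
    (show (V₁ ⊓ V₂).toScheme from (⟨x, hxV⟩ : ↥(V₁ ⊓ V₂)))
  obtain ⟨β, hβ⟩ := hW
  have hTW : (DD W.ι).mapTriangle.obj ((DD (V₁ ⊓ V₂).ι).mapTriangle.obj T) ∈
      distTriang (DCoh.D W.toScheme) :=
    (DD W.ι).map_distinguished _ ((DD (V₁ ⊓ V₂).ι).map_distinguished _ hT)
  have hTβ : Q.mapTriangle.obj (CochainComplex.mappingCone.triangle β) ∈
      distTriang (DCoh.D W.toScheme) := by
    rw [mem_distTriang_iff]
    exact ⟨_, _, β, ⟨Iso.refl _⟩⟩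
  have comm : (DD W.ι).map ((DD (V₁ ⊓ V₂).ι).map T.mor₁) ≫
      ((DD W.ι).mapIso e₂ ≪≫ facIso W.ι P₂).hom =
      ((DD W.ι).mapIso e₁ ≪≫ facIso W.ι P₁).hom ≫ Q.map β := by
    have h3 : (DD W.ι).map e₁.hom ≫ (DD W.ι).map
        (e₁.inv ≫ (DD (V₁ ⊓ V₂).ι).map T.mor₁ ≫ e₂.hom) =
        (DD W.ι).map ((DD (V₁ ⊓ V₂).ι).map T.mor₁) ≫ (DD W.ι).map e₂.hom := by
      rw [← Functor.map_comp, ← Functor.map_comp, Iso.hom_inv_id_assoc]
    rw [hβ] at h3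
    simp only [Iso.trans_hom, Functor.mapIso_hom, Category.assoc]
    rw [← reassoc_of% h3]
    simp only [facIso, Iso.app_hom, Category.assoc, Iso.inv_hom_id_app, Category.comp_id]
    erw [Category.comp_id]
  let iso := isoTriangleOfIso₁₂ _ _ hTW hTβ ((DD W.ι).mapIso e₁ ≪≫ facIso W.ι P₁)
    ((DD W.ι).mapIso e₂ ≪≫ facIso W.ι P₂) comm
  have iso₃ : (DD W.ι).obj ((DD (V₁ ⊓ V₂).ι).obj T.obj₃) ≅
      Q.obj (CochainComplex.mappingCone β) := Triangle.π₃.mapIso iso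
  obtain ⟨c⟩ := nonempty_DD_comp_iso W.ι (V₁ ⊓ V₂).ι T.obj₃
  refine ⟨W.toScheme, W.ι ≫ (V₁ ⊓ V₂).ι, inferInstance,
    ⟨(show W.toScheme from (⟨(show (V₁ ⊓ V₂).toScheme from (⟨x, hxV⟩ : ↥(V₁ ⊓ V₂))), hxW⟩ : W)),
      ?_⟩, ⟨CochainComplex.mappingCone β, ?_, ⟨c ≪≫ iso₃⟩⟩⟩
  · rw [Scheme.Hom.comp_apply]
    rfl
  · exact Groth.Agent.Lib.ConeSP.main β (isStrictlyPerfect_RC _ hP₁) (isStrictlyPerfect_RC _ hP₂)

theorem main887 {X : Scheme.{u}} (T : Triangle (DCoh.D X))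
    (hT : T ∈ distTriang (DCoh.D X)) :
    (DCoh.IsPerfect T.obj₁ → DCoh.IsPerfect T.obj₂ → DCoh.IsPerfect T.obj₃) ∧
    (DCoh.IsPerfect T.obj₁ → DCoh.IsPerfect T.obj₃ → DCoh.IsPerfect T.obj₂) ∧
    (DCoh.IsPerfect T.obj₂ → DCoh.IsPerfect T.obj₃ → DCoh.IsPerfect T.obj₁) := by
  refine ⟨isPerfect_obj₃ T hT, fun h₁ h₃ => ?_, fun h₂ h₃ => ?_⟩
  · exact isPerfect_obj₃ T.invRotate (inv_rot_of_distTriang T hT) (isPerfect_shift h₃ (-1)) h₁
  · exact isPerfect_obj₃ T.invRotate.invRotate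
      (inv_rot_of_distTriang _ (inv_rot_of_distTriang T hT))
      (isPerfect_shift h₂ (-1)) (isPerfect_shift h₃ (-1))

end TwoOutOfThree

end

end Groth.Agent.Lib.DCohLocLead
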