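import Mathlib
import Groth.Prelude
import Groth.Agent.Lib.DCohLoc3_lead

/-!
# Pseudo-coherence in distinguished triangles of `D(O_X)` (lead)

`main889`.  APPEND-ONLY once landed.
-/

set_option autoImplicit false
set_option linter.all false
set_option maxHeartbeats 1600000
set_option backward.isDefEq.respectTransparency false
set_option backward.isDefEq.respectTransparency.types false
set_option backward.defeqAttrib.useBackward true

universe u v₁ u₁

open CategoryTheory CategoryTheory.Limits AlgebraicGeometry TopologicalSpace Opposite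
open CategoryTheory.Pretriangulated

attribute [local instance] HasDerivedCategory.standard

namespace Groth.Agent.Lib.DCohLocLead

noncomputable section

/-! ### Generalities on natural isomorphisms -/

theorem epi_map_iff_of_natIso {C₁ : Type*} {D₁ : Type*} [Category C₁] [Category D₁]
    {F G : C₁ ⥤ D₁} (e : F ≅ G) {X Y : C₁} (f : X ⟶ Y) : Epi (F.map f) ↔ Epi (G.map f) := by
  constructor
  · intro h
    rw [← NatIso.naturality_1 e f]
    infer_instance
  · intro h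
    rw [← NatIso.naturality_2 e f]
    infer_instance

/-! ### The brutal truncation `σ_{≥ m}` by hand -/

section Trunc

variable {A : Type u₁} [Category.{v₁} A] [Abelian A]

/-- `0` in degrees `≥ m`, the identity in degrees `< m`. -/
def chi (E : CochainComplex A ℤ) (m i : ℤ) : E.X i ⟶ E.X i := if m ≤ i then 0 else 𝟙 _

theorem chi_of_le (E : CochainComplex A ℤ) {m i : ℤ} (h : m ≤ i) : chi E m i = 0 := if_pos h

theorem chi_of_lt (E : CochainComplex A ℤ) {m i : ℤ} (h : i < m) : chi E m i = 𝟙 _ :=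
  if_neg (by omega)

theorem kernel_ι_eq_zero_of_eq_id {X : A} (f : X ⟶ X) (h : f = 𝟙 X) : kernel.ι f = 0 := by
  calc kernel.ι f = kernel.ι f ≫ 𝟙 X := (Category.comp_id _).symm
    _ = kernel.ι f ≫ f := congrArg (fun g => kernel.ι f ≫ g) h.symm
    _ = 0 := kernel.condition f

theorem isIso_kernel_ι_of_eq_zero {X Y : A} (f : X ⟶ Y) (h : f = 0) : IsIso (kernel.ι f) := by
  subst h
  infer_instance

theorem isZero_kernel_of_eq_id {X : A} (f : X ⟶ X) (h : f = 𝟙 X) : IsZero (kernel f) := by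
  subst h
  exact isZero_kernel_of_mono _

theorem trunc_aux (E : CochainComplex A ℤ) (m i j : ℤ) :
    (kernel.ι (chi E m i) ≫ E.d i j) ≫ chi E m j = 0 := by
  by_cases hj : m ≤ j
  · rw [chi_of_le E hj, comp_zero]
  · by_cases hij : i + 1 = j
    · rw [kernel_ι_eq_zero_of_eq_id _ (chi_of_lt E (show i < m by omega)), zero_comp, zero_comp]
    · rw [E.shape i j hij, comp_zero, zero_comp]

/-- The brutal truncation `σ_{≥ m} E`. -/
def trunc (E : CochainComplex A ℤ) (m : ℤ) : CochainComplex A ℤ where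
  X i := kernel (chi E m i)
  d i j := kernel.lift (chi E m j) (kernel.ι (chi E m i) ≫ E.d i j) (trunc_aux E m i j)
  shape i j hij := by
    rw [← cancel_mono (kernel.ι (chi E m j)), kernel.lift_ι, zero_comp, E.shape i j hij,
      comp_zero]
  d_comp_d' i j k _ _ := by
    rw [← cancel_mono (kernel.ι (chi E m k)), Category.assoc, kernel.lift_ι,
      kernel.lift_ι_assoc, Category.assoc, E.d_comp_d, comp_zero, zero_comp]

/-- The inclusion `σ_{≥ m} E ⟶ E`. -/
def truncι (E : CochainComplex A ℤ) (m : ℤ) : trunc E m ⟶ E where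
  f i := kernel.ι (chi E m i)
  comm' i j _ := (kernel.lift_ι _ _ _).symm

theorem isIso_truncι_f (E : CochainComplex A ℤ) {m i : ℤ} (h : m ≤ i) :
    IsIso ((truncι E m).f i) :=
  isIso_kernel_ι_of_eq_zero _ (chi_of_le E h)

theorem isZero_trunc_X (E : CochainComplex A ℤ) {m i : ℤ} (h : i < m) :
    IsZero ((trunc E m).X i) :=
  isZero_kernel_of_eq_id _ (chi_of_lt E h)

/-- A chain map which is an isomorphism in degrees `≥ m` induces isomorphisms on `Hⁱ` for
`i > m`. -/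
theorem isIso_homologyMap_of_isIso_f {E' E : CochainComplex A ℤ} (φ : E' ⟶ E) (m : ℤ)
    (h : ∀ i : ℤ, m ≤ i → IsIso (φ.f i)) (i : ℤ) (hi : m < i) :
    IsIso (HomologicalComplex.homologyMap φ i) := by
  haveI := h (i - 1) (by omega)
  haveI := h i (by omega)
  haveI := h (i + 1) (by omega)
  rw [← quasiIsoAt_iff_isIso_homologyMap,
    quasiIsoAt_iff' φ (i - 1) i (i + 1) (by simp) (by simp)]
  haveI : Epi ((HomologicalComplex.shortComplexFunctor' A (ComplexShape.up ℤ)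
      (i - 1) i (i + 1)).map φ).τ₁ := by
    show Epi (φ.f (i - 1))
    infer_instance
  haveI : IsIso ((HomologicalComplex.shortComplexFunctor' A (ComplexShape.up ℤ)
      (i - 1) i (i + 1)).map φ).τ₂ := by
    show IsIso (φ.f i)
    infer_instance
  haveI : Mono ((HomologicalComplex.shortComplexFunctor' A (ComplexShape.up ℤ)
      (i - 1) i (i + 1)).map φ).τ₃ := by
    show Mono (φ.f (i + 1))
    infer_instance
  exact ShortComplex.quasiIso_of_epi_of_isIso_of_mono _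

/-- A chain map which is an isomorphism in degrees `≥ m` induces an epimorphism on `Hᵐ`. -/
theorem epi_homologyMap_of_isIso_f {E' E : CochainComplex A ℤ} (φ : E' ⟶ E) (m : ℤ)
    (h : ∀ i : ℤ, m ≤ i → IsIso (φ.f i)) : Epi (HomologicalComplex.homologyMap φ m) := by
  have h₂ : IsIso ((HomologicalComplex.shortComplexFunctor A (ComplexShape.up ℤ) m).map φ).τ₂ :=
    h m le_rfl
  have h₃ : Mono ((HomologicalComplex.shortComplexFunctor A (ComplexShape.up ℤ) m).map φ).τ₃ := by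
    haveI : IsIso (φ.f ((ComplexShape.up ℤ).next m)) := h _ (by simp)
    show Mono (φ.f ((ComplexShape.up ℤ).next m))
    infer_instance
  haveI := ShortComplex.isIso_cyclesMap_of_isIso_of_mono' _ h₂ h₃
  exact ShortComplex.epi_homologyMap_of_epi_cyclesMap' _ inferInstance

end Trunc

/-! ### Approximations in the derived category of an abelian category -/

section Generic

variable {C : Type u₁} [Category.{v₁} C] [Abelian C] [HasDerivedCategory C]

open DerivedCategory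

/-- `α` is an isomorphism on `Hⁱ` for `i > m` and an epimorphism on `Hᵐ`. -/
def IsApprox (m : ℤ) {K L : DerivedCategory C} (α : K ⟶ L) : Prop :=
  (∀ i : ℤ, m < i → IsIso ((homologyFunctor C i).map α)) ∧ Epi ((homologyFunctor C m).map α)

/-- `Hⁱ(K) = 0` for `i ≥ m`. -/
def Lt (m : ℤ) (K : DerivedCategory C) : Prop :=
  ∀ i : ℤ, m ≤ i → IsZero ((homologyFunctor C i).obj K)

variable {m : ℤ}

theorem IsApprox.comp {K L M : DerivedCategory C} {α : K ⟶ L} {β : L ⟶ M} (h : IsApprox m α)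
    (h' : IsApprox m β) : IsApprox m (α ≫ β) := by
  refine ⟨fun i hi => ?_, ?_⟩
  · haveI := h.1 i hi
    haveI := h'.1 i hi
    rw [Functor.map_comp]
    infer_instance
  · haveI := h.2
    haveI := h'.2
    rw [Functor.map_comp]
    exact epi_comp _ _

theorem IsApprox.of_isIso {K L : DerivedCategory C} (α : K ⟶ L) [IsIso α] : IsApprox m α :=
  ⟨fun i _ => inferInstance, inferInstance⟩

theorem IsApprox.succ {K L : DerivedCategory C} {α : K ⟶ L} (h : IsApprox m α) :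
    IsApprox (m + 1) α := by
  refine ⟨fun i hi => h.1 i (by omega), ?_⟩
  haveI := h.1 (m + 1) (by omega)
  infer_instance

theorem Lt.of_iso {K K' : DerivedCategory C} (h : Lt m K) (e : K ≅ K') : Lt m K' :=
  fun i hi => (h i hi).of_iso ((homologyFunctor C i).mapIso e.symm)

theorem Lt.shift {K : DerivedCategory C} (h : Lt (m + 1) K) : Lt m (K⟦(1 : ℤ)⟧) :=
  fun i hi => (h (i + 1) (by omega)).of_iso
    (((homologyFunctor C 0).shiftIso 1 i (i + 1) (by omega)).app K)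

theorem Lt_of_isApprox (m : ℤ) (T : Triangle (DerivedCategory C))
    (hT : T ∈ distTriang (DerivedCategory C)) (h : IsApprox m T.mor₁) : Lt m T.obj₃ := by
  intro j hj
  have e1 : Epi ((homologyFunctor C j).map T.mor₁) := by
    rcases (show m = j ∨ m < j by omega) with h' | h'
    · subst h'
      exact h.2
    · haveI := h.1 j h'
      infer_instance
  have m1 : Mono ((homologyFunctor C (j + 1)).map T.mor₁) := by
    haveI := h.1 (j + 1) (by omega)
    infer_instance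
  have z2 : (homologyFunctor C j).map T.mor₂ = 0 :=
    ((homologyFunctor C 0).homologySequence_epi_shift_map_mor₁_iff _ hT j).1 e1
  have d0 : (homologyFunctor C 0).homologySequenceδ T j (j + 1) rfl = 0 :=
    ((homologyFunctor C 0).homologySequence_mono_shift_map_mor₁_iff _ hT j (j + 1) rfl).1 m1
  have e2 : Epi ((homologyFunctor C j).map T.mor₂) :=
    ((homologyFunctor C 0).homologySequence_epi_shift_map_mor₂_iff _ hT j (j + 1) rfl).2 d0
  rw [IsZero.iff_id_eq_zero, ← cancel_epi ((homologyFunctor C j).map T.mor₂), z2, zero_comp,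
    zero_comp]

theorem isApprox_of_Lt (m : ℤ) (T : Triangle (DerivedCategory C))
    (hT : T ∈ distTriang (DerivedCategory C)) (h : Lt m T.obj₃) : IsApprox m T.mor₁ := by
  have hepi : ∀ i : ℤ, m ≤ i → Epi ((homologyFunctor C i).map T.mor₁) := fun i hi =>
    ((homologyFunctor C 0).homologySequence_epi_shift_map_mor₁_iff _ hT i).2
      ((h i hi).eq_of_tgt _ _)
  have hmono : ∀ i : ℤ, m < i → Mono ((homologyFunctor C i).map T.mor₁) := fun i hi =>
    ((homologyFunctor C 0).homologySequence_mono_shift_map_mor₁_iff _ hT (i - 1) i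
      (by omega)).2 ((h (i - 1) (by omega)).eq_of_src _ _)
  refine ⟨fun i hi => ?_, hepi m le_rfl⟩
  haveI := hepi i hi.le
  haveI := hmono i hi
  exact isIso_of_mono_of_epi _

/-- The third vertices: a morphism between the first maps of two distinguished triangles, an
`(m+1)`-approximation on the first vertices and an `m`-approximation on the second ones, can be
completed by an `m`-approximation on the third vertices. -/
theorem exists_approx_obj₃ (m : ℤ) (T : Triangle (DerivedCategory C))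
    (hT : T ∈ distTriang (DerivedCategory C)) (T' : Triangle (DerivedCategory C))
    (hT' : T' ∈ distTriang (DerivedCategory C))
    (α : T'.obj₁ ⟶ T.obj₁) (hα : IsApprox (m + 1) α) (α' : T'.obj₂ ⟶ T.obj₂)
    (hα' : IsApprox m α') (hβ : T'.mor₁ ≫ α' = α ≫ T.mor₁) :
    ∃ γ : T'.obj₃ ⟶ T.obj₃, IsApprox m γ := by
  obtain ⟨CK, p₁, q₁, h₁⟩ := distinguished_cocone_triangle α
  obtain ⟨CL, p₂, q₂, h₂⟩ := distinguished_cocone_triangle α'
  obtain ⟨D, p₃, q₃, h₃⟩ := distinguished_cocone_triangle (α ≫ T.mor₁)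
  have hCK : Lt (m + 1) CK := Lt_of_isApprox (m + 1) _ h₁ hα
  have hCL : Lt m CL := Lt_of_isApprox m _ h₂ hα'
  have o₁ := Triangulated.someOctahedron hβ
    (show Triangle.mk T'.mor₁ T'.mor₂ T'.mor₃ ∈ distTriang (DerivedCategory C) from hT') h₂ h₃
  have o₂ := Triangulated.someOctahedron (rfl : α ≫ T.mor₁ = α ≫ T.mor₁) h₁
    (show Triangle.mk T.mor₁ T.mor₂ T.mor₃ ∈ distTriang (DerivedCategory C) from hT) h₃
  refine ⟨o₁.m₁ ≫ o₂.m₃, IsApprox.comp ?_ ?_⟩
  · exact isApprox_of_Lt m _ o₁.mem hCL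
  · exact isApprox_of_Lt m _ (rot_of_distTriang _ o₂.mem) hCK.shift

theorem IsApprox.shift {K L : DerivedCategory C} {α : K ⟶ L} {n : ℤ} (h : IsApprox n α) (s : ℤ) :
    IsApprox (n - s) (α⟦s⟧') := by
  refine ⟨fun i hi => ?_, ?_⟩
  · exact (NatIso.isIso_map_iff ((homologyFunctor C 0).shiftIso s i (s + i) rfl) α).2
      (h.1 (s + i) (by omega))
  · have h2 : Epi ((homologyFunctor C (s + (n - s))).map α) := by
      have e : s + (n - s) = n := by omega
      rw [e]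
      exact h.2
    exact (epi_map_iff_of_natIso ((homologyFunctor C 0).shiftIso s (n - s) (s + (n - s)) rfl)
      α).2 h2

theorem isApprox_Q_map_of_isIso_f {E' E : CochainComplex C ℤ} (φ : E' ⟶ E) (m : ℤ)
    (h : ∀ i : ℤ, m ≤ i → IsIso (φ.f i)) : IsApprox m (Q.map φ) := by
  refine ⟨fun i hi => ?_, ?_⟩
  · haveI := isIso_homologyMap_of_isIso_f φ m h i hi
    exact (NatIso.isIso_map_iff (homologyFunctorFactors C i) φ).2
      (by show IsIso (HomologicalComplex.homologyMap φ i); infer_instance)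
  · exact epi_homologyFunctor_map_Q_map φ m (epi_homologyMap_of_isIso_f φ m h)

end Generic

/-! ### Pseudo-coherence through local approximations -/

section Scheme

open DerivedCategory

theorem Lt.restrict {Y X : Scheme.{u}} (k : Y ⟶ X) [IsOpenImmersion k] {m : ℤ} {K : DCoh.D X}
    (h : Lt m K) : Lt m ((DD k).obj K) := by
  intro i hi
  have h1 : IsZero ((Q.objPreimage K : CochainComplex X.Modules ℤ).homology i) :=
    (h i hi).of_iso (((homologyFunctorFactors X.Modules i).app (Q.objPreimage K)).symm ≪≫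
      (homologyFunctor _ i).mapIso (Q.objObjPreimageIso K))
  have h2 : IsZero (((RC k).obj (Q.objPreimage K)).homology i) := by
    rw [← HomologicalComplex.exactAt_iff_isZero_homology] at h1 ⊢
    exact ShortComplex.Exact.map h1 (Scheme.Modules.restrictFunctor k)
  exact h2.of_iso ((homologyFunctor _ i).mapIso
    ((DD k).mapIso (Q.objObjPreimageIso K).symm ≪≫ facIso k (Q.objPreimage K)) ≪≫
      (homologyFunctorFactors Y.Modules i).app _)

theorem IsApprox.restrict {Y X : Scheme.{u}} (k : Y ⟶ X) [IsOpenImmersion k] {m : ℤ}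
    {K L : DCoh.D X} {α : K ⟶ L} (h : IsApprox m α) : IsApprox m ((DD k).map α) := by
  obtain ⟨Z, p, q, hT⟩ := distinguished_cocone_triangle α
  have h1 : Lt m Z := Lt_of_isApprox m _ hT h
  exact isApprox_of_Lt m ((DD k).mapTriangle.obj (Triangle.mk α p q))
    ((DD k).map_distinguished _ hT) (h1.restrict k)

/-- `K|_Y` admits an `m`-approximation by a strictly perfect complex. -/
def LocApprox (m : ℤ) {Y X : Scheme.{u}} (j : Y ⟶ X) [IsOpenImmersion j] (K : DCoh.D X) : Prop :=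
  ∃ (E : CochainComplex Y.Modules ℤ) (α : Q.obj E ⟶ (DD j).obj K),
    DCoh.IsStrictlyPerfect E ∧ IsApprox m α

theorem isPC_iff {X : Scheme.{u}} (m : ℤ) (K : DCoh.D X) :
    DCoh.IsPseudoCoherentD m K ↔ ∀ x : X, ∃ V : X.Opens, x ∈ V ∧ LocApprox m V.ι K := by
  constructor
  · intro h x
    obtain ⟨V, hxV, hV⟩ := h x
    obtain ⟨E, α, hE, hiso, hepi⟩ := hV (Q.objPreimage K) ⟨Q.objObjPreimageIso K⟩
    exact ⟨V, hxV, E, α ≫ ((facIso V.ι _).symm ≪≫ (DD V.ι).mapIso (Q.objObjPreimageIso K)).hom,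
      hE, IsApprox.comp ⟨hiso, hepi⟩ (IsApprox.of_isIso _)⟩
  · intro h x
    obtain ⟨V, hxV, E, α, hE, hα⟩ := h x
    refine ⟨V, hxV, fun F hF => ?_⟩
    obtain ⟨i⟩ := hF
    have h1 := hα.comp (IsApprox.of_isIso (m := m)
      (((DD V.ι).mapIso i.symm ≪≫ facIso V.ι F).hom))
    exact ⟨E, _, hE, h1.1, h1.2⟩

theorem LocApprox.comp {m : ℤ} {Z Y X : Scheme.{u}} (k : Z ⟶ Y) (j : Y ⟶ X) [IsOpenImmersion k]
    [IsOpenImmersion j] {K : DCoh.D X} (h : LocApprox m j K) : LocApprox m (k ≫ j) K := by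
  obtain ⟨E, α, hE, hα⟩ := h
  obtain ⟨c⟩ := nonempty_DD_comp_iso k j K
  exact ⟨(RC k).obj E, (facIso k E).inv ≫ (DD k).map α ≫ c.inv, isStrictlyPerfect_RC k hE,
    (IsApprox.of_isIso _).comp ((hα.restrict k).comp (IsApprox.of_isIso _))⟩

theorem LocApprox.of_eq {m : ℤ} {Y X : Scheme.{u}} {j l : Y ⟶ X} [IsOpenImmersion j]
    [IsOpenImmersion l] {K : DCoh.D X} (h : LocApprox m j K) (e : j = l) : LocApprox m l K := by
  subst e
  exact h

theorem LocApprox.of_iso {m : ℤ} {Y X : Scheme.{u}} {j : Y ⟶ X} [IsOpenImmersion j]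
    {K K' : DCoh.D X} (h : LocApprox m j K) (e : K ≅ K') : LocApprox m j K' := by
  obtain ⟨E, α, hE, hα⟩ := h
  exact ⟨E, α ≫ ((DD j).mapIso e).hom, hE, hα.comp (IsApprox.of_isIso _)⟩

theorem LocApprox.shift {n : ℤ} {Y X : Scheme.{u}} {j : Y ⟶ X} [IsOpenImmersion j]
    {K : DCoh.D X} (h : LocApprox n j K) (s : ℤ) : LocApprox (n - s) j (K⟦s⟧) := by
  obtain ⟨E, α, ⟨⟨a, b, hv⟩, hfl⟩, hα⟩ := h
  refine ⟨E⟦s⟧, (Q.commShiftIso s).hom.app E ≫ α⟦s⟧' ≫ ((DD j).commShiftIso s).inv.app K,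
    ⟨⟨a - s, b - s, fun i hi => ?_⟩, fun i => ?_⟩, ?_⟩
  · show IsZero (E.X (i + s))
    exact hv _ (by omega)
  · show FlatMod.IsFinLocFree (E.X (i + s))
    exact hfl _
  · exact (IsApprox.of_isIso _).comp ((hα.shift s).comp (IsApprox.of_isIso _))

theorem isPC_of_locApprox {X : Scheme.{u}} (m : ℤ) (K : DCoh.D X)
    (h : ∀ x : X, ∃ (Y : Scheme.{u}) (j : Y ⟶ X) (_ : IsOpenImmersion j),
      (∃ y : Y, j y = x) ∧ LocApprox m j K) : DCoh.IsPseudoCoherentD m K := by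
  rw [isPC_iff]
  intro x
  obtain ⟨Y, j, hj, hy, hK⟩ := h x
  haveI := hj
  exact ⟨j.opensRange, hy, (hK.comp j.isoOpensRange.inv j).of_eq j.isoOpensRange_inv_comp⟩

theorem isPC_shift {X : Scheme.{u}} {n : ℤ} {K : DCoh.D X} (h : DCoh.IsPseudoCoherentD n K)
    (s : ℤ) : DCoh.IsPseudoCoherentD (n - s) (K⟦s⟧) := by
  rw [isPC_iff] at h ⊢
  intro x
  obtain ⟨V, hxV, hV⟩ := h x
  exact ⟨V, hxV, hV.shift s⟩

theorem isPC_of_iso {X : Scheme.{u}} {n : ℤ} {K K' : DCoh.D X} (e : K ≅ K')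
    (h : DCoh.IsPseudoCoherentD n K) : DCoh.IsPseudoCoherentD n K' := by
  rw [isPC_iff] at h ⊢
  intro x
  obtain ⟨V, hxV, hV⟩ := h x
  exact ⟨V, hxV, hV.of_iso e⟩

/-! ### Local vanishing of maps from strictly perfect complexes -/

theorem exists_restrict_eq_zero {Y : Scheme.{u}} {E : CochainComplex Y.Modules ℤ}
    (hE : DCoh.IsStrictlyPerfect E) (a : ℤ) (hEa : ∀ i : ℤ, i < a → IsZero (E.X i))
    {K : DCoh.D Y} (hK : Lt a K) (ω : Q.obj E ⟶ K) (y : Y) :
    ∃ W : Y.Opens, y ∈ W ∧ (DD W.ι).map ω = 0 := by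
  obtain ⟨G', g, s, hs, hω⟩ := DerivedCategory.left_fac (ω ≫ (Q.objObjPreimageIso K).inv)
  have hqi : QuasiIso s := (DerivedCategory.isIso_Q_map_iff_quasiIso _ s).1 hs
  have hG' : ∀ i : ℤ, a ≤ i → IsZero (G'.homology i) := by
    intro i hi
    have h1 : IsZero ((Q.objPreimage K : CochainComplex Y.Modules ℤ).homology i) :=
      (hK i hi).of_iso (((homologyFunctorFactors Y.Modules i).app (Q.objPreimage K)).symm ≪≫
        (homologyFunctor _ i).mapIso (Q.objObjPreimageIso K))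
    have h2 : QuasiIsoAt s i := inferInstance
    haveI : IsIso (HomologicalComplex.homologyMap s i) :=
      (quasiIsoAt_iff_isIso_homologyMap s i).1 h2
    exact h1.of_iso (asIso (HomologicalComplex.homologyMap s i)).symm
  obtain ⟨W, hyW, ⟨h⟩⟩ := main932 g hE a hEa hG' y
  refine ⟨W, hyW, ?_⟩
  have h3 : (DD W.ι).map (Q.map g) = 0 := by
    have h4 : Q.map ((DCoh.restrictCx W).map g) = 0 := by
      rw [DerivedCategory.Q_map_eq_of_homotopy _ h, Functor.map_zero]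
    have h5 := NatIso.naturality_2
      (Scheme.Modules.restrictFunctor W.ι).mapDerivedCategoryFactors g
    refine (h5.symm : (DD W.ι).map (Q.map g) = _).trans ?_
    show _ ≫ Q.map ((DCoh.restrictCx W).map g) ≫ _ = 0
    rw [h4, zero_comp, comp_zero]
  have h6 : ω = (Q.map g ≫ inv (Q.map s)) ≫ (Q.objObjPreimageIso K).hom := by
    rw [← hω, Category.assoc, Iso.inv_hom_id, Category.comp_id]
  rw [h6, Functor.map_comp, Functor.map_comp, h3, zero_comp, zero_comp]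

/-! ### The third vertex of a triangle -/

theorem approx_obj₃_of_chainMap {Y : Scheme.{u}} (m : ℤ) (T : Triangle (DCoh.D Y))
    (hT : T ∈ distTriang (DCoh.D Y)) {EK EL : CochainComplex Y.Modules ℤ}
    (hK : DCoh.IsStrictlyPerfect EK) (hL : DCoh.IsStrictlyPerfect EL)
    (αK : Q.obj EK ⟶ T.obj₁) (hαK : IsApprox (m + 1) αK)
    (αL : Q.obj EL ⟶ T.obj₂) (hαL : IsApprox m αL)
    (b : EK ⟶ EL) (hb : Q.map b ≫ αL = αK ≫ T.mor₁) :
    ∃ (EM : CochainComplex Y.Modules ℤ) (γ : Q.obj EM ⟶ T.obj₃),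
      DCoh.IsStrictlyPerfect EM ∧ IsApprox m γ := by
  have hTb : Q.mapTriangle.obj (CochainComplex.mappingCone.triangle b) ∈
      distTriang (DCoh.D Y) := by
    rw [mem_distTriang_iff]
    exact ⟨_, _, b, ⟨Iso.refl _⟩⟩
  obtain ⟨γ, hγ⟩ := exists_approx_obj₃ m T hT _ hTb αK hαK αL hαL hb
  exact ⟨CochainComplex.mappingCone b, γ, Groth.Agent.Lib.ConeSP.main b hK hL, hγ⟩

theorem approx_obj₃_of_map {Y : Scheme.{u}} (m : ℤ) (T : Triangle (DCoh.D Y))
    (hT : T ∈ distTriang (DCoh.D Y)) {EK EL : CochainComplex Y.Modules ℤ}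
    (hK : DCoh.IsStrictlyPerfect EK) (hL : DCoh.IsStrictlyPerfect EL)
    (αK : Q.obj EK ⟶ T.obj₁) (hαK : IsApprox (m + 1) αK)
    (αL : Q.obj EL ⟶ T.obj₂) (hαL : IsApprox m αL)
    (β : Q.obj EK ⟶ Q.obj EL) (hβ : β ≫ αL = αK ≫ T.mor₁) (y : Y) :
    ∃ W : Y.Opens, y ∈ W ∧ ∃ (EM : CochainComplex W.toScheme.Modules ℤ)
      (γ : Q.obj EM ⟶ (DD W.ι).obj T.obj₃), DCoh.IsStrictlyPerfect EM ∧ IsApprox m γ := by
  obtain ⟨W, hyW, hW⟩ := main944 hK β y
  obtain ⟨b, hb⟩ := hW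
  refine ⟨W, hyW, ?_⟩
  have hb' : (DD W.ι).map β = (facIso W.ι EK).hom ≫ Q.map b ≫ (facIso W.ι EL).inv := hb
  apply approx_obj₃_of_chainMap m ((DD W.ι).mapTriangle.obj T)
    ((DD W.ι).map_distinguished _ hT)
    (isStrictlyPerfect_RC W.ι hK) (isStrictlyPerfect_RC W.ι hL)
    ((facIso W.ι EK).inv ≫ (DD W.ι).map αK) ((IsApprox.of_isIso _).comp (hαK.restrict W.ι))
    ((facIso W.ι EL).inv ≫ (DD W.ι).map αL) ((IsApprox.of_isIso _).comp (hαL.restrict W.ι)) b
  show Q.map b ≫ (facIso W.ι EL).inv ≫ (DD W.ι).map αL =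
    ((facIso W.ι EK).inv ≫ (DD W.ι).map αK) ≫ (DD W.ι).map T.mor₁
  rw [Category.assoc, ← Functor.map_comp, ← hβ, Functor.map_comp, hb']
  simp only [Category.assoc, Iso.inv_hom_id_assoc]

theorem approx_obj₃_local {Y : Scheme.{u}} (m : ℤ) (T : Triangle (DCoh.D Y))
    (hT : T ∈ distTriang (DCoh.D Y)) {EK EL : CochainComplex Y.Modules ℤ}
    (hK : DCoh.IsStrictlyPerfect EK) (hL : DCoh.IsStrictlyPerfect EL)
    (hKm : ∀ i : ℤ, i < m → IsZero (EK.X i))
    (αK : Q.obj EK ⟶ T.obj₁) (hαK : IsApprox (m + 1) αK)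
    (αL : Q.obj EL ⟶ T.obj₂) (hαL : IsApprox m αL) (y : Y) :
    ∃ (W : Y.Opens) (hyW : y ∈ W) (W' : W.toScheme.Opens),
      (show W.toScheme from (⟨y, hyW⟩ : W)) ∈ W' ∧
      ∃ (EM : CochainComplex W'.toScheme.Modules ℤ)
        (γ : Q.obj EM ⟶ (DD W'.ι).obj ((DD W.ι).obj T.obj₃)),
        DCoh.IsStrictlyPerfect EM ∧ IsApprox m γ := by
  obtain ⟨CL, p, q, hαLtri⟩ := distinguished_cocone_triangle αL
  have hCL : Lt m CL := Lt_of_isApprox m (Triangle.mk αL p q) hαLtri hαL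
  obtain ⟨W, hyW, hW⟩ := exists_restrict_eq_zero hK m hKm hCL (αK ≫ T.mor₁ ≫ p) y
  have htri := (DD W.ι).map_distinguished _ hαLtri
  have hg : ((facIso W.ι EK).inv ≫ (DD W.ι).map αK ≫ (DD W.ι).map T.mor₁) ≫
      ((DD W.ι).mapTriangle.obj (Triangle.mk αL p q)).mor₂ = 0 := by
    show ((facIso W.ι EK).inv ≫ (DD W.ι).map αK ≫ (DD W.ι).map T.mor₁) ≫ (DD W.ι).map p = 0
    simp only [Category.assoc, ← Functor.map_comp]
    rw [hW, comp_zero]
  obtain ⟨β₀, hβ₀⟩ := Pretriangulated.Triangle.coyoneda_exact₂ _ htri _ hg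
  have hβ₀' : (facIso W.ι EK).inv ≫ (DD W.ι).map αK ≫ (DD W.ι).map T.mor₁ =
      β₀ ≫ (DD W.ι).map αL := hβ₀
  obtain ⟨W', hyW', EM, γ, hEM, hγ⟩ := approx_obj₃_of_map m ((DD W.ι).mapTriangle.obj T)
    ((DD W.ι).map_distinguished _ hT)
    (isStrictlyPerfect_RC W.ι hK) (isStrictlyPerfect_RC W.ι hL)
    ((facIso W.ι EK).inv ≫ (DD W.ι).map αK) ((IsApprox.of_isIso _).comp (hαK.restrict W.ι))
    ((facIso W.ι EL).inv ≫ (DD W.ι).map αL) ((IsApprox.of_isIso _).comp (hαL.restrict W.ι))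
    (β₀ ≫ (facIso W.ι EL).hom)
    (by
      show (β₀ ≫ (facIso W.ι EL).hom) ≫ (facIso W.ι EL).inv ≫ (DD W.ι).map αL =
        ((facIso W.ι EK).inv ≫ (DD W.ι).map αK) ≫ (DD W.ι).map T.mor₁
      rw [Category.assoc, Iso.hom_inv_id_assoc, ← hβ₀', Category.assoc])
    (show W.toScheme from (⟨y, hyW⟩ : W))
  exact ⟨W, hyW, W', hyW', EM, γ, hEM, hγ⟩

theorem isStrictlyPerfect_trunc {Y : Scheme.{u}} {E : CochainComplex Y.Modules ℤ}
    (hE : DCoh.IsStrictlyPerfect E) (m : ℤ) : DCoh.IsStrictlyPerfect (trunc E m) := by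
  obtain ⟨⟨a, b, hv⟩, hfl⟩ := hE
  refine ⟨⟨a, b, fun i hi => ?_⟩, fun i => ?_⟩
  · by_cases h : m ≤ i
    · haveI := isIso_truncι_f E h
      exact (hv i hi).of_iso (asIso ((truncι E m).f i))
    · exact isZero_trunc_X E (by omega)
  · by_cases h : m ≤ i
    · haveI := isIso_truncι_f E h
      exact FLFH8.IsFinLocFree.of_iso (asIso ((truncι E m).f i)).symm (hfl i)
    · exact FLFH8.isFinLocFree_of_iso_free
        ((isZero_trunc_X E (show i < m by omega)).iso (isZero_freeMod_zero Y))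

theorem approx_obj₃_local' {Y : Scheme.{u}} (m : ℤ) (T : Triangle (DCoh.D Y))
    (hT : T ∈ distTriang (DCoh.D Y)) {EK EL : CochainComplex Y.Modules ℤ}
    (hK : DCoh.IsStrictlyPerfect EK) (hL : DCoh.IsStrictlyPerfect EL)
    (αK : Q.obj EK ⟶ T.obj₁) (hαK : IsApprox (m + 1) αK)
    (αL : Q.obj EL ⟶ T.obj₂) (hαL : IsApprox m αL) (y : Y) :
    ∃ (W : Y.Opens) (hyW : y ∈ W) (W' : W.toScheme.Opens),
      (show W.toScheme from (⟨y, hyW⟩ : W)) ∈ W' ∧
      ∃ (EM : CochainComplex W'.toScheme.Modules ℤ)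
        (γ : Q.obj EM ⟶ (DD W'.ι).obj ((DD W.ι).obj T.obj₃)),
        DCoh.IsStrictlyPerfect EM ∧ IsApprox m γ :=
  approx_obj₃_local m T hT (isStrictlyPerfect_trunc hK m) hL (fun i hi => isZero_trunc_X EK hi)
    (Q.map (truncι EK m) ≫ αK)
    ((isApprox_Q_map_of_isIso_f (truncι EK m) m
      (fun i hi => isIso_truncι_f EK hi)).succ.comp hαK) αL hαL y

/-- In a distinguished triangle, the third vertex is `m`-pseudo-coherent if the first is
`(m+1)`-pseudo-coherent and the second `m`-pseudo-coherent. -/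
theorem isPC_obj₃ {X : Scheme.{u}} (m : ℤ) (T : Triangle (DCoh.D X))
    (hT : T ∈ distTriang (DCoh.D X)) (h₁ : DCoh.IsPseudoCoherentD (m + 1) T.obj₁)
    (h₂ : DCoh.IsPseudoCoherentD m T.obj₂) : DCoh.IsPseudoCoherentD m T.obj₃ := by
  apply isPC_of_locApprox
  intro x
  obtain ⟨V₁, hxV₁, hV₁⟩ := (isPC_iff _ _).1 h₁ x
  obtain ⟨V₂, hxV₂, hV₂⟩ := (isPC_iff _ _).1 h₂ x
  have hK : LocApprox (m + 1) (V₁ ⊓ V₂).ι T.obj₁ :=
    (hV₁.comp (X.homOfLE inf_le_left) V₁.ι).of_eq (X.homOfLE_ι _)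
  have hL : LocApprox m (V₁ ⊓ V₂).ι T.obj₂ :=
    (hV₂.comp (X.homOfLE inf_le_right) V₂.ι).of_eq (X.homOfLE_ι _)
  obtain ⟨EK, αK, hEK, hαK⟩ := hK
  obtain ⟨EL, αL, hEL, hαL⟩ := hL
  have hxV : x ∈ V₁ ⊓ V₂ := ⟨hxV₁, hxV₂⟩
  obtain ⟨W, hyW, W', hyW', EM, γ, hEM, hγ⟩ := approx_obj₃_local' m
    ((DD (V₁ ⊓ V₂).ι).mapTriangle.obj T) ((DD (V₁ ⊓ V₂).ι).map_distinguished _ hT)
    hEK hEL αK hαK αL hαL (show (V₁ ⊓ V₂).toScheme from (⟨x, hxV⟩ : ↥(V₁ ⊓ V₂)))
  obtain ⟨c₁⟩ := nonempty_DD_comp_iso W.ι (V₁ ⊓ V₂).ι T.obj₃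
  obtain ⟨c₂⟩ := nonempty_DD_comp_iso W'.ι (W.ι ≫ (V₁ ⊓ V₂).ι) T.obj₃
  refine ⟨W'.toScheme, W'.ι ≫ W.ι ≫ (V₁ ⊓ V₂).ι, inferInstance,
    ⟨(show W'.toScheme from (⟨(show W.toScheme from
      (⟨(show (V₁ ⊓ V₂).toScheme from (⟨x, hxV⟩ : ↥(V₁ ⊓ V₂))), hyW⟩ : W)), hyW'⟩ : W')), ?_⟩,
    EM, γ ≫ (DD W'.ι).map c₁.inv ≫ c₂.inv, hEM, hγ.comp (IsApprox.of_isIso _)⟩
  rw [Scheme.Hom.comp_apply, Scheme.Hom.comp_apply]
  rfl

theorem main889 {X : Scheme.{u}} (m : ℤ) (T : Triangle (DCoh.D X))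
    (hT : T ∈ distTriang (DCoh.D X)) :
    (DCoh.IsPseudoCoherentD (m + 1) T.obj₁ → DCoh.IsPseudoCoherentD m T.obj₂ →
      DCoh.IsPseudoCoherentD m T.obj₃) ∧
    (DCoh.IsPseudoCoherentD m T.obj₁ → DCoh.IsPseudoCoherentD m T.obj₃ →
      DCoh.IsPseudoCoherentD m T.obj₂) ∧
    (DCoh.IsPseudoCoherentD (m + 1) T.obj₂ → DCoh.IsPseudoCoherentD m T.obj₃ →
      DCoh.IsPseudoCoherentD (m + 1) T.obj₁) := by
  refine ⟨isPC_obj₃ m T hT, fun h₁ h₃ => ?_, fun h₂ h₃ => ?_⟩
  · have h : DCoh.IsPseudoCoherentD (m + 1) (T.obj₃⟦(-1 : ℤ)⟧) := by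
      have := isPC_shift h₃ (-1)
      rwa [show m - (-1) = m + 1 by ring] at this
    exact isPC_obj₃ m T.invRotate (inv_rot_of_distTriang T hT) h h₁
  · have h : DCoh.IsPseudoCoherentD m (T.obj₁⟦(1 : ℤ)⟧) :=
      isPC_obj₃ m T.rotate (rot_of_distTriang T hT) h₂ h₃
    have h' : DCoh.IsPseudoCoherentD (m + 1) ((T.obj₁⟦(1 : ℤ)⟧)⟦(-1 : ℤ)⟧) := by
      have := isPC_shift h (-1)
      rwa [show m - (-1) = m + 1 by ring] at this
    exact isPC_of_iso (shiftShiftNeg T.obj₁ (1 : ℤ)) h'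

end Scheme

end

end Groth.Agent.Lib.DCohLocLead
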