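import Mathlib
import Groth.Prelude
import Groth.Agent.Lib.DCohLoc4_lead

/-!
# Direct summands of pseudo-coherent objects of `D(O_X)` (lead)

`main888`.  APPEND-ONLY once landed.
-/

set_option autoImplicit false
set_option linter.all false
set_option maxHeartbeats 1600000
set_option backward.isDefEq.respectTransparency false
set_option backward.isDefEq.respectTransparency.types false
set_option backward.defeqAttrib.useBackward true

universe u v₁ u₁

open CategoryTheory CategoryTheory.Limits AlgebraicGeometry TopologicalSpace Opposite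
open CategoryTheory.Pretriangulated
open scoped ZeroObject

attribute [local instance] HasDerivedCategory.standard

namespace Groth.Agent.Lib.DCohLocLead

noncomputable section

section Generic

variable {C : Type u₁} [Category.{v₁} C] [Abelian C] [HasDerivedCategory C]

open DerivedCategory

theorem IsApprox.mono {m n : ℤ} {K L : DerivedCategory C} {α : K ⟶ L} (h : IsApprox m α)
    (hmn : m ≤ n) : IsApprox n α := by
  refine ⟨fun i hi => h.1 i (by omega), ?_⟩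
  rcases (show m = n ∨ m < n by omega) with h' | h'
  · subst h'
    exact h.2
  · haveI := h.1 n h'
    infer_instance

theorem Lt.mono {m n : ℤ} {K : DerivedCategory C} (h : Lt m K) (hmn : m ≤ n) : Lt n K :=
  fun i hi => h i (by omega)

theorem Lt.of_retract {N : ℤ} {S K : DerivedCategory C} (h : Lt N S) (i : K ⟶ S) (p : S ⟶ K)
    (hip : i ≫ p = 𝟙 K) : Lt N K := by
  intro j hj
  rw [IsZero.iff_id_eq_zero, ← CategoryTheory.Functor.map_id, ← hip, Functor.map_comp,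
    (h j hj).eq_of_tgt ((homologyFunctor C j).map i) 0, zero_comp]

/-- A map between objects with vanishing cohomology in degrees `≥ N` is an `N`-approximation. -/
theorem isApprox_of_Lt_of_Lt {N : ℤ} {K L : DerivedCategory C} (α : K ⟶ L) (hK : Lt N K)
    (hL : Lt N L) : IsApprox N α := by
  refine ⟨fun i hi => ?_, ?_⟩
  · exact ⟨⟨0, (hK i hi.le).eq_of_src _ _, (hL i hi.le).eq_of_src _ _⟩⟩
  · exact ⟨fun g h _ => (hL N le_rfl).eq_of_src g h⟩

theorem Lt_Q_obj_of_isZero (E : CochainComplex C ℤ) (N : ℤ)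
    (h : ∀ i : ℤ, N ≤ i → IsZero (E.X i)) : Lt N (Q.obj E) := by
  intro i hi
  exact (HomologicalComplex.ExactAt.of_isZero (h i hi)).isZero_homology.of_iso
    ((homologyFunctorFactors C i).app E)

end Generic

section Scheme

open DerivedCategory

variable {X : Scheme.{u}}

/-- `K` is `m`-pseudo-coherent at the point `x`. -/
def PCAt (m : ℤ) (K : DCoh.D X) (x : X) : Prop :=
  ∃ V : X.Opens, x ∈ V ∧ LocApprox m V.ι K

theorem pcAt_of_locApprox {m : ℤ} {K : DCoh.D X} {x : X} {Y : Scheme.{u}} (j : Y ⟶ X)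
    [IsOpenImmersion j] (hy : ∃ y : Y, j y = x) (h : LocApprox m j K) : PCAt m K x :=
  ⟨j.opensRange, hy, (h.comp j.isoOpensRange.inv j).of_eq j.isoOpensRange_inv_comp⟩

theorem LocApprox.mono {m n : ℤ} {Y : Scheme.{u}} {j : Y ⟶ X} [IsOpenImmersion j] {K : DCoh.D X}
    (h : LocApprox m j K) (hmn : m ≤ n) : LocApprox n j K := by
  obtain ⟨E, α, hE, hα⟩ := h
  exact ⟨E, α, hE, hα.mono hmn⟩

theorem PCAt.mono {m n : ℤ} {K : DCoh.D X} {x : X} (h : PCAt m K x) (hmn : m ≤ n) :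
    PCAt n K x := by
  obtain ⟨V, hxV, hV⟩ := h
  exact ⟨V, hxV, hV.mono hmn⟩

theorem pcAt_obj₃ (m : ℤ) (T : Triangle (DCoh.D X)) (hT : T ∈ distTriang (DCoh.D X)) (x : X)
    (h₁ : PCAt (m + 1) T.obj₁ x) (h₂ : PCAt m T.obj₂ x) : PCAt m T.obj₃ x := by
  obtain ⟨V₁, hxV₁, hV₁⟩ := h₁
  obtain ⟨V₂, hxV₂, hV₂⟩ := h₂
  have hK : LocApprox (m + 1) (V₁ ⊓ V₂).ι T.obj₁ :=
    (hV₁.comp (X.homOfLE inf_le_left) V₁.ι).of_eq (X.homOfLE_ι _)
  have hL : LocApprox m (V₁ ⊓ V₂).ι T.obj₂ :=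
    (hV₂.comp (X.homOfLE inf_le_right) V₂.ι).of_eq (X.homOfLE_ι _)
  obtain ⟨EK, αK, hEK, hαK⟩ := hK
  obtain ⟨EL, αL, hEL, hαL⟩ := hL
  have hxV : x ∈ V₁ ⊓ V₂ := ⟨hxV₁, hxV₂⟩
  obtain ⟨W, hyW, W', hyW', EM, γ, hEM, hγ⟩ := approx_obj₃_local' m
    ((DD (V₁ ⊓ V₂).ι).mapTriangle.obj T) ((DD (V₁ ⊓ V₂).ι).map_distinguished _ hT)
    hEK hEL αK hαK αL hαL (show (V₁ ⊓ V₂).toScheme from (⟨x, hxV⟩ : ↥(V₁ ⊓ V₂)))
  obtain ⟨c₁⟩ := nonempty_DD_comp_iso W.ι (V₁ ⊓ V₂).ι T.obj₃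
  obtain ⟨c₂⟩ := nonempty_DD_comp_iso W'.ι (W.ι ≫ (V₁ ⊓ V₂).ι) T.obj₃
  refine pcAt_of_locApprox (W'.ι ≫ W.ι ≫ (V₁ ⊓ V₂).ι)
    ⟨(show W'.toScheme from (⟨(show W.toScheme from
      (⟨(show (V₁ ⊓ V₂).toScheme from (⟨x, hxV⟩ : ↥(V₁ ⊓ V₂))), hyW⟩ : W)), hyW'⟩ : W')), ?_⟩
    ⟨EM, γ ≫ (DD W'.ι).map c₁.inv ≫ c₂.inv, hEM, hγ.comp (IsApprox.of_isIso _)⟩
  rw [Scheme.Hom.comp_apply, Scheme.Hom.comp_apply]
  rfl

/-- An object pseudo-coherent at `x` is bounded above near `x`. -/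
theorem exists_Lt_of_pcAt {m : ℤ} {K : DCoh.D X} {x : X} (h : PCAt m K x) :
    ∃ V : X.Opens, x ∈ V ∧ ∃ N : ℤ, m ≤ N ∧ Lt N ((DD V.ι).obj K) := by
  obtain ⟨V, hxV, E, α, ⟨⟨a, b, hv⟩, hfl⟩, hα⟩ := h
  refine ⟨V, hxV, max b m + 1, by omega, fun i hi => ?_⟩
  have h1 : Lt (max b m + 1) (Q.obj E) :=
    Lt_Q_obj_of_isZero E _ (fun j hj => hv j (Or.inr (by omega)))
  haveI := hα.1 i (by omega)
  exact (h1 i hi).of_iso (asIso ((homologyFunctor _ i).map α)).symm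

theorem pcAt_of_Lt {N : ℤ} {K : DCoh.D X} {x : X} (V : X.Opens) (hxV : x ∈ V)
    (h : Lt N ((DD V.ι).obj K)) : PCAt N K x := by
  refine ⟨V, hxV, 0, 0, ⟨⟨0, 0, fun i _ => ?_⟩, fun i => ?_⟩, ?_⟩
  · exact (HomologicalComplex.eval _ _ i).map_isZero (isZero_zero _)
  · exact FLFH8.isFinLocFree_of_iso_free
      (((HomologicalComplex.eval _ _ i).map_isZero (isZero_zero _)).iso (isZero_freeMod_zero _))
  · refine isApprox_of_Lt_of_Lt _ (fun i _ => ?_) h
    exact (homologyFunctor _ i).map_isZero (Q.map_isZero (isZero_zero _))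

/-- The triangle `L ⟶ K ⊞ L ⟶ K ⟶ L⟦1⟧`. -/
theorem biprodTriangle'_distinguished (K L : DCoh.D X) :
    Triangle.mk (biprod.inr : L ⟶ K ⊞ L) (biprod.fst : K ⊞ L ⟶ K) (0 : K ⟶ L⟦(1 : ℤ)⟧) ∈
      distTriang (DCoh.D X) := by
  refine isomorphic_distinguished _ (binaryBiproductTriangle_distinguished L K) _ ?_
  refine Triangle.isoMk _ _ (Iso.refl _) (biprod.braiding K L) (Iso.refl _) ?_ ?_ ?_
  · dsimp
    ext <;> simp
  · dsimp
    simp
  · dsimp
    simp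

theorem pcAt_of_biprod (m : ℤ) (K L : DCoh.D X) (x : X) (h : PCAt m (K ⊞ L) x) :
    PCAt m K x ∧ PCAt m L x := by
  obtain ⟨V, hxV, N, hmN, hN⟩ := exists_Lt_of_pcAt h
  have hK : Lt N ((DD V.ι).obj K) := hN.of_retract ((DD V.ι).map biprod.inl)
    ((DD V.ι).map biprod.fst) (by rw [← Functor.map_comp, biprod.inl_fst, CategoryTheory.Functor.map_id])
  have hL : Lt N ((DD V.ι).obj L) := hN.of_retract ((DD V.ι).map biprod.inr)
    ((DD V.ι).map biprod.snd) (by rw [← Functor.map_comp, biprod.inr_snd, CategoryTheory.Functor.map_id])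
  have key : ∀ (d : ℕ) (n : ℤ), m ≤ n → N ≤ n + d → PCAt n K x ∧ PCAt n L x := by
    intro d
    induction d with
    | zero =>
      intro n _ hn
      exact ⟨pcAt_of_Lt V hxV (hK.mono (by simpa using hn)),
        pcAt_of_Lt V hxV (hL.mono (by simpa using hn))⟩
    | succ d ih =>
      intro n hmn hn
      obtain ⟨hK', hL'⟩ := ih (n + 1) (by omega) (by push_cast at hn; omega)
      have hS : PCAt n (K ⊞ L) x := h.mono hmn
      exact ⟨pcAt_obj₃ n _ (biprodTriangle'_distinguished K L) x hL' hS,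
        pcAt_obj₃ n _ (binaryBiproductTriangle_distinguished K L) x hK' hS⟩
  exact key (N - m).toNat m le_rfl (by have := Int.self_le_toNat (N - m); omega)

theorem main888 (m : ℤ) (K L : DCoh.D X) [HasBinaryBiproduct K L]
    (h : DCoh.IsPseudoCoherentD m (K ⊞ L)) :
    DCoh.IsPseudoCoherentD m K ∧ DCoh.IsPseudoCoherentD m L := by
  have key : ∀ x : X, PCAt m K x ∧ PCAt m L x := fun x =>
    pcAt_of_biprod m K L x ((isPC_iff _ _).1 h x)
  exact ⟨(isPC_iff _ _).2 (fun x => (key x).1), (isPC_iff _ _).2 (fun x => (key x).2)⟩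

end Scheme

end

end Groth.Agent.Lib.DCohLocLead
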