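import Mathlib

/-!
# Canonical truncations of complexes with terms in a class of "flat" objects (helper2)
-/

set_option autoImplicit false
universe v u
open CategoryTheory Limits

namespace Groth.Agent.Lib.CyclesFlat

variable {𝒜 : Type u} [Category.{v} 𝒜] [Abelian 𝒜] (Fl : 𝒜 → Prop)

/-- the short exact sequence `0 → Z^j → K^j → Z^{j+1} → 0` when `K` is exact at `j+1` -/
lemma shortExact_cycles (K : CochainComplex 𝒜 ℤ) (j : ℤ) (hex : K.ExactAt (j + 1)) :
    (ShortComplex.mk (K.iCycles j) (K.toCycles j (j + 1)) (by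
      rw [← cancel_mono (K.iCycles (j + 1)), Category.assoc, K.toCycles_i, zero_comp,
        K.iCycles_d])).ShortExact := by
  have hnext : (ComplexShape.up ℤ).next j = j + 1 := by simp
  have h0 : K.iCycles j ≫ K.toCycles j (j + 1) = 0 := by
    rw [← cancel_mono (K.iCycles (j + 1)), Category.assoc, K.toCycles_i, zero_comp,
      K.iCycles_d]
  have hker : IsLimit (KernelFork.ofι (K.iCycles j) h0) :=
    isKernelOfComp (K.iCycles (j + 1)) (K.d j (j + 1)) (K.cyclesIsKernel j (j + 1) hnext) h0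
      (K.toCycles_i j (j + 1))
  have hepi : Epi (K.toCycles j (j + 1)) := by
    have h1 : (ComplexShape.up ℤ).prev (j + 1) = j := by simp
    have h2 : (ComplexShape.up ℤ).next (j + 1) = j + 2 := by
      simp only [CochainComplex.next]
      omega
    have hS := (K.exactAt_iff' j (j + 1) (j + 2) h1 h2).1 hex
    have hepi' : Epi (K.sc' j (j + 1) (j + 2)).toCycles := hS.epi_toCycles
    have h3 := K.toCycles_cyclesIsoSc'_hom j (j + 1) (j + 2) h1 h2
    have h4 := (Iso.eq_comp_inv (K.cyclesIsoSc' j (j + 1) (j + 2) h1 h2)).2 h3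
    rw [h4]
    exact @epi_comp _ _ _ _ _ _ hepi' _ inferInstance
  exact
    { exact := ShortComplex.exact_of_f_is_kernel _ hker
      mono_f := inferInstanceAs (Mono (K.iCycles j))
      epi_g := hepi }

variable {Fl}

/-- for a bounded above complex with terms in `Fl`, exact above `b`, the cycles `Z^j`, `j ≥ b`,
are in `Fl` -/
theorem cycles_mem (h0 : ∀ Z : 𝒜, IsZero Z → Fl Z)
    (hker : ∀ S : ShortComplex 𝒜, S.ShortExact → Fl S.X₂ → Fl S.X₃ → Fl S.X₁)
    (K : CochainComplex 𝒜 ℤ) (b' : ℤ) [K.IsStrictlyLE b'] (hK : ∀ i, Fl (K.X i)) (b : ℤ)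
    (hex : ∀ i : ℤ, b < i → K.ExactAt i) : ∀ j : ℤ, b ≤ j → Fl (K.cycles j) := by
  have key : ∀ (k : ℕ) (j : ℤ), b ≤ j → b' + 1 ≤ j + k → Fl (K.cycles j) := by
    intro k
    induction k with
    | zero =>
      intro j _ hjk
      apply h0
      have hz : IsZero (K.X j) := K.isZero_of_isStrictlyLE b' j (by omega)
      exact IsZero.of_mono (K.iCycles j) hz
    | succ k ih =>
      intro j hj hjk
      exact hker _ (shortExact_cycles K j (hex (j + 1) (by omega))) (hK j)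
        (ih (j + 1) (by omega) (by push_cast at hjk ⊢; omega))
  intro j hj
  exact key (b' + 1 - j).toNat j hj (by omega)

/-- terms of `τ_{≤ b} K` -/
theorem truncLE_mem (h0 : ∀ Z : 𝒜, IsZero Z → Fl Z)
    (hiso : ∀ {X Y : 𝒜}, (X ≅ Y) → Fl X → Fl Y)
    (hker : ∀ S : ShortComplex 𝒜, S.ShortExact → Fl S.X₂ → Fl S.X₃ → Fl S.X₁)
    (K : CochainComplex 𝒜 ℤ) (b' : ℤ) [K.IsStrictlyLE b'] (hK : ∀ i, Fl (K.X i)) (b : ℤ)
    [K.IsLE b] : ∀ i : ℤ, Fl ((K.truncLE b).X i) := by
  intro i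
  obtain hi | rfl | hi := lt_trichotomy i b
  · exact hiso (K.truncLEXIso b i hi).symm (hK i)
  · exact hiso (K.truncLEXIsoCycles i).symm
      (cycles_mem h0 hker K b' hK i (fun j hj => K.exactAt_of_isLE i j hj) i le_rfl)
  · exact h0 _ ((K.truncLE b).isZero_of_isStrictlyLE b i hi)

/-- `coker d^{a-1}` in the two forms -/
noncomputable def opcyclesIsoCokernel (K : CochainComplex 𝒜 ℤ) (a : ℤ) :
    K.opcycles a ≅ cokernel (K.d (a - 1) a) :=
  IsColimit.coconePointUniqueUpToIso (K.opcyclesIsCokernel (a - 1) a (by simp))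
    (colimit.isColimit (parallelPair (K.d (a - 1) a) 0))

/-- terms of `τ_{≥ a} K` -/
theorem truncGE_mem (h0 : ∀ Z : 𝒜, IsZero Z → Fl Z)
    (hiso : ∀ {X Y : 𝒜}, (X ≅ Y) → Fl X → Fl Y)
    (K : CochainComplex 𝒜 ℤ) (hK : ∀ i, Fl (K.X i)) (a : ℤ)
    (hC : Fl (cokernel (K.d (a - 1) a))) : ∀ i : ℤ, Fl ((K.truncGE a).X i) := by
  intro i
  obtain hi | rfl | hi := lt_trichotomy i a
  · exact h0 _ ((K.truncGE a).isZero_of_isStrictlyGE a i hi)
  · exact hiso ((K.truncGEXIsoOpcycles i) ≪≫ opcyclesIsoCokernel K i).symm hC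
  · exact hiso (K.truncGEXIso a i hi).symm (hK i)

/-- `τ_{≥ a} τ_{≤ b} K` vanishes outside `[a, b]` -/
theorem truncGE_truncLE_isZero (K : CochainComplex 𝒜 ℤ) (a b : ℤ) (i : ℤ) (hi : i < a ∨ b < i) :
    IsZero (((K.truncLE b).truncGE a).X i) := by
  obtain hi | hi := hi
  · exact ((K.truncLE b).truncGE a).isZero_of_isStrictlyGE a i hi
  · haveI : ((K.truncLE b).truncGE a).IsStrictlyLE b := inferInstance
    exact ((K.truncLE b).truncGE a).isZero_of_isStrictlyLE b i hi

end Groth.Agent.Lib.CyclesFlat
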