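import Mathlib
import Groth.Prelude
import Groth.Agent.Lib.Tens25_helper8

/-!
# Coproducts of quasi-projective morphisms (helper5).  APPEND-ONLY once landed.
-/

set_option autoImplicit false
universe u
open CategoryTheory CategoryTheory.Limits AlgebraicGeometry TopologicalSpace Opposite

noncomputable section

namespace Groth.Agent.CoprodQP

variable {X X' Y : Scheme.{u}} (f : X ⟶ Y) (f' : X' ⟶ Y)

theorem locallyOfFiniteType_desc [LocallyOfFiniteType f] [LocallyOfFiniteType f'] :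
    LocallyOfFiniteType (coprod.desc f f') := by
  refine IsZariskiLocalAtSource.of_openCover (P := @LocallyOfFiniteType)
    (coprodOpenCover.{_, 0} X X') ?_
  rintro (⟨⟨⟩⟩ | ⟨⟨⟩⟩)
  · show LocallyOfFiniteType ((coprod.inl : X ⟶ X ⨿ X') ≫ coprod.desc f f')
    rw [coprod.inl_desc]
    infer_instance
  · show LocallyOfFiniteType ((coprod.inr : X' ⟶ X ⨿ X') ≫ coprod.desc f f')
    rw [coprod.inr_desc]
    infer_instance

theorem quasiCompact_desc [QuasiCompact f] [QuasiCompact f'] :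
    QuasiCompact (coprod.desc f f') := by
  rw [quasiCompact_iff_forall_isAffineOpen]
  intro V hV
  rw [TensH8.desc_preimage f f' V]
  have h1 : IsCompact ((f ⁻¹ᵁ V : X.Opens) : Set X) :=
    QuasiCompact.isCompact_preimage (f := f) _ V.isOpen hV.isCompact
  have h2 : IsCompact ((f' ⁻¹ᵁ V : X'.Opens) : Set X') :=
    QuasiCompact.isCompact_preimage (f := f') _ V.isOpen hV.isCompact
  have h3 : (((coprod.inl : X ⟶ X ⨿ X') ''ᵁ (f ⁻¹ᵁ V) ⊔
      (coprod.inr : X' ⟶ X ⨿ X') ''ᵁ (f' ⁻¹ᵁ V) : (X ⨿ X').Opens) : Set ↥(X ⨿ X')) =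
      (coprod.inl : X ⟶ X ⨿ X').base '' ((f ⁻¹ᵁ V : X.Opens) : Set X) ∪
      (coprod.inr : X' ⟶ X ⨿ X').base '' ((f' ⁻¹ᵁ V : X'.Opens) : Set X') := by
    rfl
  rw [h3]
  exact (h1.image (coprod.inl : X ⟶ X ⨿ X').continuous).union
    (h2.image (coprod.inr : X' ⟶ X ⨿ X').continuous)

end Groth.Agent.CoprodQP
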