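import Mathlib
import Groth.Prelude
import Groth.Agent.Lib.CoprodQP1_helper5

/-!
# A module on `X ⨿ X'` with prescribed restrictions (helper5).  APPEND-ONLY once landed.
-/

set_option autoImplicit false
universe u
open CategoryTheory CategoryTheory.Limits AlgebraicGeometry TopologicalSpace Opposite

noncomputable section

namespace Groth.Agent.CoprodQP

open QcqsLoc

variable {X X' : Scheme.{u}}

/-- A module all of whose sections vanish is zero. -/
theorem isZero_of_sections {Z : Scheme.{u}} (M : Z.Modules)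
    (h : ∀ (U : Z.Opens) (s : Γ(M, U)), s = 0) : IsZero M := by
  rw [IsZero.iff_id_eq_zero]
  apply Scheme.Modules.hom_ext
  intro U
  ext s
  exact (h U _).trans (h U _).symm

/-- The restriction to `X` of the pushforward of a module on `X'` is zero. -/
theorem isZero_restrict_inl (L' : X'.Modules) :
    IsZero ((Scheme.Modules.restrictFunctor (coprod.inl : X ⟶ X ⨿ X')).obj
      ((Scheme.Modules.pushforward (coprod.inr : X' ⟶ X ⨿ X')).obj L')) := by
  apply isZero_of_sections
  intro U s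
  have hs : ∀ t : Γ(L', (coprod.inr : X' ⟶ X ⨿ X') ⁻¹ᵁ ((coprod.inl : X ⟶ X ⨿ X') ''ᵁ U)),
      t = 0 := by
    intro t
    apply eq_zero_of_cover
    intro x hx
    obtain ⟨y, -, hy⟩ := hx
    exact absurd hy.symm (AlgebraicGeometry.inr_ne_inl X X' y x)
  exact hs s

theorem isZero_restrict_inr (L : X.Modules) :
    IsZero ((Scheme.Modules.restrictFunctor (coprod.inr : X' ⟶ X ⨿ X')).obj
      ((Scheme.Modules.pushforward (coprod.inl : X ⟶ X ⨿ X')).obj L)) := by
  apply isZero_of_sections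
  intro U s
  have hs : ∀ t : Γ(L, (coprod.inl : X ⟶ X ⨿ X') ⁻¹ᵁ ((coprod.inr : X' ⟶ X ⨿ X') ''ᵁ U)),
      t = 0 := by
    intro t
    apply eq_zero_of_cover
    intro x hx
    obtain ⟨y, -, hy⟩ := hx
    exact absurd hy (AlgebraicGeometry.inr_ne_inl X X' x y)
  exact hs s

variable (L : X.Modules) (L' : X'.Modules)

instance preservesBinaryBiproducts_pullback {Z W : Scheme.{u}} (g : Z ⟶ W) :
    PreservesBinaryBiproducts (Scheme.Modules.pullback g) :=
  preservesBinaryBiproducts_of_preservesBiproducts _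

/-- The module on `X ⨿ X'` restricting to `L` and `L'`. -/
def glueMod : (X ⨿ X').Modules :=
  (Scheme.Modules.pushforward (coprod.inl : X ⟶ X ⨿ X')).obj L ⊞
    (Scheme.Modules.pushforward (coprod.inr : X' ⟶ X ⨿ X')).obj L'

/-- `inl^* (glueMod L L') ≅ L`. -/
def pullbackInlIso :
    (Scheme.Modules.pullback (coprod.inl : X ⟶ X ⨿ X')).obj (glueMod L L') ≅ L :=
  ((Scheme.Modules.pullback (coprod.inl : X ⟶ X ⨿ X')).mapBiprod _ _) ≪≫
    biprod.mapIso
      ((Scheme.Modules.restrictFunctorIsoPullback (coprod.inl : X ⟶ X ⨿ X')).symm.app _)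
      ((Scheme.Modules.restrictFunctorIsoPullback (coprod.inl : X ⟶ X ⨿ X')).symm.app _) ≪≫
    (isoBiprodZero (isZero_restrict_inl L')).symm ≪≫
    (Scheme.Modules.restrictFunctorAdjCounitIso (coprod.inl : X ⟶ X ⨿ X')).app L

/-- `inr^* (glueMod L L') ≅ L'`. -/
def pullbackInrIso :
    (Scheme.Modules.pullback (coprod.inr : X' ⟶ X ⨿ X')).obj (glueMod L L') ≅ L' :=
  ((Scheme.Modules.pullback (coprod.inr : X' ⟶ X ⨿ X')).mapBiprod _ _) ≪≫
    biprod.mapIso
      ((Scheme.Modules.restrictFunctorIsoPullback (coprod.inr : X' ⟶ X ⨿ X')).symm.app _)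
      ((Scheme.Modules.restrictFunctorIsoPullback (coprod.inr : X' ⟶ X ⨿ X')).symm.app _) ≪≫
    (isoZeroBiprod (isZero_restrict_inr L)).symm ≪≫
    (Scheme.Modules.restrictFunctorAdjCounitIso (coprod.inr : X' ⟶ X ⨿ X')).app L'

end Groth.Agent.CoprodQP
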