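import Mathlib
import Groth.Prelude
import Groth.Agent.Lib.FreeLoc1_helper8
import Groth.Agent.Lib.SubExt_helper9

set_option autoImplicit false
universe u

open CategoryTheory AlgebraicGeometry TopologicalSpace Opposite IsLocalRing
open QcqsLoc GenLocH8 SecOrdH8 FLFH8 QCohExtn RefHullH8 RefBasisH8 HomLinH8 SDivGenH8 SDivFreeH8

/-! Reflexive modules and restriction to big opens. -/

namespace FreeLocH8

variable {X : Scheme.{u}}

set_option backward.isDefEq.respectTransparency false in
/-- A morphism of modules which is bijective on the stalks at the points of an open is bijective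
on the sections over this open. -/
theorem ap_bijective_of_stalkMap_bijective {F G : X.Modules} (φ : F ⟶ G) (O : X.Opens)
    (h : ∀ x ∈ O, Function.Bijective (RefHull.stalkMapₗ φ x)) :
    Function.Bijective (ap φ O) := by
  let F' : TopCat.Sheaf Ab X := ⟨F.presheaf, F.isSheaf⟩
  let G' : TopCat.Sheaf Ab X := ⟨G.presheaf, G.isSheaf⟩
  let ψ : F' ⟶ G' := ⟨φ.mapPresheaf⟩
  exact TopCat.Presheaf.app_bijective_of_stalkFunctor_map_bijective ψ O (fun x hx => h x hx)

set_option backward.isDefEq.respectTransparency false in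
/-- The unit of the restriction adjunction is the restriction of sections. -/
theorem ap_unit_eq (F : X.Modules) (U V : X.Opens) (s : Γ(F, V)) :
    ap ((Scheme.Modules.restrictAdjunction U.ι).unit.app F) V s =
      rF F (U.ι.image_preimage_le V) s := rfl

theorem image_preimage_eq_inf (U V : X.Opens) : U.ι ''ᵁ (U.ι ⁻¹ᵁ V) = U ⊓ V := by
  rw [Scheme.Hom.image_preimage_eq_opensRange_inf, Scheme.Opens.opensRange_ι]

/-- The unit of the restriction adjunction to an open `U` is an isomorphism as soon as the module
has the extension property and `U` contains the points of codimension at most one. -/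
theorem isIso_unit_of_hasExt {F : X.Modules} (hE : HasExt F) (U : X.Opens)
    (hU : ∀ y : X, Order.coheight y ≤ 1 → y ∈ U) :
    IsIso ((Scheme.Modules.restrictAdjunction U.ι).unit.app F) := by
  apply SubExt.isIso_of_bijective
  intro V
  have hbig : BigIn (U.ι ''ᵁ (U.ι ⁻¹ᵁ V)) V := by
    refine ⟨U.ι.image_preimage_le V, fun y hy hc => ?_⟩
    rw [image_preimage_eq_inf]
    exact ⟨hU y hc, hy⟩
  have h1 := hE V _ hbig
  have e : ⇑(ap ((Scheme.Modules.restrictAdjunction U.ι).unit.app F) V) =
      ⇑(rF F (U.ι.image_preimage_le V)) := funext (fun s => ap_unit_eq F U V s)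
  rw [e]
  exact h1

/-- A coherent module on a normal scheme is reflexive as soon as it is locally free on an open
containing the points of codimension at most one and its sections extend uniquely from this
open. -/
theorem isReflexive_of_unit_iso [IsIntegral X] [IsLocallyNoetherian X]
    (hX : Pi1.IsNormalScheme X) (F : X.Modules) (hF : Coh.IsCoh F) (U : X.Opens)
    (hU : ∀ y : X, Order.coheight y ≤ 1 → y ∈ U)
    (hfree : ∀ x : X, x ∈ U → Module.Free (X.presheaf.stalk x) (F.presheaf.stalk x))
    (hiso : IsIso ((Scheme.Modules.restrictAdjunction U.ι).unit.app F)) :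
    RefHull.IsReflexive F := by
  have hstalk : ∀ x ∈ U, Function.Bijective (RefHull.stalkMapₗ (RefHull.bidualMap F) x) := by
    intro x hx
    obtain ⟨W, hxW, r, e, he⟩ := exists_isBasisOn_of_free F hF x (hfree x hx)
    exact stalkMap_bidual_bijective he hxW
  have hEH := hasExt_ddual hX F
  show IsIso (RefHull.bidualMap F)
  apply SubExt.isIso_of_bijective
  intro V
  have hbig : BigIn (U.ι ''ᵁ (U.ι ⁻¹ᵁ V)) V := by
    refine ⟨U.ι.image_preimage_le V, fun y hy hc => ?_⟩
    rw [image_preimage_eq_inf]
    exact ⟨hU y hc, hy⟩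
  have hV'U : U.ι ''ᵁ (U.ι ⁻¹ᵁ V) ≤ U := by
    rw [image_preimage_eq_inf]
    exact inf_le_left
  have h1 : Function.Bijective (rF F hbig.1) := by
    have hb : Function.Bijective (ap ((Scheme.Modules.restrictAdjunction U.ι).unit.app F) V) :=
      ConcreteCategory.bijective_of_isIso _
    have e : ⇑(ap ((Scheme.Modules.restrictAdjunction U.ι).unit.app F) V) =
        ⇑(rF F (U.ι.image_preimage_le V)) := funext (fun s => ap_unit_eq F U V s)
    rw [e] at hb
    exact hb
  have h2 := hEH V _ hbig
  have h3 := ap_bijective_of_stalkMap_bijective (RefHull.bidualMap F) _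
    (fun x hx => hstalk x (hV'U hx))
  have hnat : ∀ s : Γ(F, V), rF (RefHull.ddual F) hbig.1 (ap (RefHull.bidualMap F) V s) =
      ap (RefHull.bidualMap F) _ (rF F hbig.1 s) := fun s => (ap_rF _ hbig.1 s).symm
  constructor
  · intro s s' hss
    apply h1.1
    apply h3.1
    rw [← hnat, ← hnat, hss]
  · intro t
    obtain ⟨a, ha⟩ := h3.2 (rF (RefHull.ddual F) hbig.1 t)
    obtain ⟨s, rfl⟩ := h1.2 a
    refine ⟨s, h2.1 ?_⟩
    rw [hnat, ha]

end FreeLocH8
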