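import Mathlib
import Groth.Agent.Lib.ExtTop_helper5

/-!
# Reflexive finite modules over a regular local ring of dimension `≤ 2` are free (helper5)
-/

universe u

open CategoryTheory Abelian IsLocalRing

namespace Groth.Agent.ReflFree

open Groth.Agent.DepthLib Groth.Agent.ExtDev Groth.Agent.ExtTop Groth.Agent.GlDim

section depth

variable (A : Type u) [CommRing A] [IsLocalRing A] [IsNoetherianRing A]

/-- the depth of a finite free module is at least the depth of the ring -/
theorem le_depth_free (t : ℕ) (ht : (t : ℕ∞) ≤ LocCoh.idealDepth (maximalIdeal A) A)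
    (E : Type u) [AddCommGroup E] [Module A E] [Module.Free A E] [Module.Finite A E] :
    (t : ℕ∞) ≤ LocCoh.idealDepth (maximalIdeal A) E := by
  rw [le_idealDepth_iff_ext] at ht ⊢
  intro i hi
  have h1 := ht i hi
  have h2 := subsingleton_ext_pi (ModuleCat.of A (A ⧸ maximalIdeal A)) A i h1
    (Module.finrank A E)
  exact subsingleton_of_iso_right (ModuleCat.of A (A ⧸ maximalIdeal A))
    ((Module.finBasis A E).equivFun.symm.toModuleIso) i h2

end depth

section dual

variable {A : Type u} [CommRing A] [IsNoetherianRing A]

/-- the dual of a finite module over a Noetherian ring is the kernel of a map of finite free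
modules -/
theorem exists_dual_equiv_ker (D : Type u) [AddCommGroup D] [Module A D] [Module.Finite A D] :
    ∃ (a b : ℕ) (v : Module.Dual A (Fin b → A) →ₗ[A] Module.Dual A (Fin a → A)),
      Nonempty (Module.Dual A D ≃ₗ[A] LinearMap.ker v) := by
  obtain ⟨b, π, hπ⟩ := Module.Finite.exists_fin' A D
  haveI : Module.Finite A (LinearMap.ker π) := Module.IsNoetherian.finite A _
  obtain ⟨a, ρ, hρ⟩ := Module.Finite.exists_fin' A (LinearMap.ker π)
  refine ⟨a, b, ((LinearMap.ker π).subtype ∘ₗ ρ).dualMap, ⟨?_⟩⟩
  have hrange : LinearMap.range ((LinearMap.ker π).subtype ∘ₗ ρ) = LinearMap.ker π := by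
    rw [LinearMap.range_comp, LinearMap.range_eq_top.2 hρ, Submodule.map_top,
      Submodule.range_subtype]
  have hker : LinearMap.ker ((LinearMap.ker π).subtype ∘ₗ ρ).dualMap =
      LinearMap.range π.dualMap := by
    rw [LinearMap.ker_dualMap_eq_dualAnnihilator_range, hrange,
      LinearMap.range_dualMap_eq_dualAnnihilator_ker_of_surjective π hπ]
  exact (LinearEquiv.ofInjective π.dualMap
    (LinearMap.dualMap_injective_of_surjective hπ)).trans (LinearEquiv.ofEq _ _ hker.symm)

end dual

section main

variable (A : Type u) [CommRing A] [IsRegularLocalRing A]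

theorem free_of_depth (n : ℕ) (hn : ringKrullDim A = n) (M : Type u) [AddCommGroup M]
    [Module A M] [Module.Finite A M]
    (hM : (n : ℕ∞) ≤ LocCoh.idealDepth (maximalIdeal A) M) : Module.Free A M := by
  by_cases hsub : Subsingleton M
  · exact Module.Free.of_subsingleton A M
  · haveI : Nontrivial M := not_subsingleton_iff_nontrivial.mp hsub
    have hfin := hasProjectiveDimensionLT_of_regular A n hn M
    obtain ⟨d', hd1, hd2⟩ := exists_pd M ⟨n + 1, hfin⟩
    have hpd : projectiveDimension (ModuleCat.of A M) = (d' : WithBot ℕ∞) :=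
      le_antisymm ((projectiveDimension_le_iff _ d').mpr hd1)
        ((projectiveDimension_ge_iff _ d').mpr hd2)
    have ab := Groth.Agent.AB.auslander_buchsbaum A M d' hpd
    have hdA : LocCoh.depth A A = n := regular_depth A n hn
    rw [hdA] at ab
    have hne : maximalIdeal A • (⊤ : Submodule A M) ≠ ⊤ :=
      fun h => not_subsingleton M (Groth.Agent.AB.subsingleton_of_smul_top A M h)
    obtain ⟨t, ht⟩ := ENat.ne_top_iff_exists.1 (idealDepth_ne_top (maximalIdeal A) M hne)
    have ht' : LocCoh.depth A M = t := ht.symm
    rw [ht'] at ab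
    rw [← ht] at hM
    have h1 : n ≤ t := by exact_mod_cast hM
    have h2 : n = d' + t := by exact_mod_cast ab
    have h0 : d' = 0 := by omega
    subst h0
    haveI : Projective (ModuleCat.of A M) := projective_iff_hasProjectiveDimensionLT_one.mpr hd1
    haveI : Module.Projective A M :=
      (IsProjective.iff_projective (R := A) (P := M)).mpr inferInstance
    exact Module.free_of_flat_of_isLocalRing

/-- a reflexive finite module over a regular local ring of dimension `≤ 2` is free -/
theorem free_of_reflexive (hdim : ringKrullDim A ≤ 2) (M : Type u) [AddCommGroup M]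
    [Module A M] [Module.Finite A M] [Module.IsReflexive A M] : Module.Free A M := by
  obtain ⟨n, hn⟩ := exists_dim A
  have hn2 : n ≤ 2 := by
    rw [hn] at hdim
    exact_mod_cast hdim
  apply free_of_depth A n hn M
  haveI : Module.Finite A (Module.Dual A M) := by
    obtain ⟨b, π, hπ⟩ := Module.Finite.exists_fin' A M
    exact Module.Finite.of_injective π.dualMap (LinearMap.dualMap_injective_of_surjective hπ)
  obtain ⟨a, b, v, ⟨e⟩⟩ := exists_dual_equiv_ker (A := A) (Module.Dual A M)
  have e' : M ≃ₗ[A] LinearMap.ker v := (Module.evalEquiv A M).trans e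
  rw [idealDepth_congr (N := LinearMap.ker v) (maximalIdeal A) M e']
  have hdA : LocCoh.idealDepth (maximalIdeal A) A = n := regular_depth A n hn
  have hE0 := le_depth_free A n (le_of_eq hdA.symm) (Module.Dual A (Fin b → A))
  have hE1 := le_depth_free A n (le_of_eq hdA.symm) (Module.Dual A (Fin a → A))
  have hk := idealDepth_ker (maximalIdeal A) _ _ v
  interval_cases n
  · exact zero_le
  · exact hk.1 hE0
  · exact hk.2 hE0 (le_trans (by norm_num) hE1)

end main

end Groth.Agent.ReflFree
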