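import Mathlib
import Groth.Prelude
import Groth.Agent.Lib.FreeLoc2_helper8
import Groth.Agent.Lib.RegKer1_helper8
import Groth.Agent.Lib.CohKer_helper8
import Groth.Agent.Lib.Desc1_helper8
import Groth.Agent.S1689

set_option autoImplicit false
universe u

open CategoryTheory CategoryTheory.Limits AlgebraicGeometry TopologicalSpace Opposite IsLocalRing
open QcqsLoc GenLocH8 SecOrdH8 FLFH8 QCohExtn RefHullH8 RefBasisH8 HomLinH8 SDivGenH8 SDivFreeH8

/-! Kernels of epimorphisms from finite locally free modules onto torsion-free modules. -/

namespace KerFreeH8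

variable {X : Scheme.{u}}

/-- A finite locally free module is coherent. -/
theorem isCoh_of_finLocFree {M : X.Modules} (hM : FlatMod.IsFinLocFree M) : Coh.IsCoh M := by
  haveI := isQuasicoherent_of_finLocFree M hM
  haveI := isFinitePresentation_of_finLocFree M hM
  exact ⟨inferInstance, inferInstance⟩

/-- A finite locally free module on a locally Noetherian scheme is reflexive. -/
theorem isReflexive_of_finLocFree [IsLocallyNoetherian X] {M : X.Modules}
    (hM : FlatMod.IsFinLocFree M) : RefHull.IsReflexive M := by
  have hMc := isCoh_of_finLocFree hM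
  haveI := hMc.1
  refine ((isReflexive_tfae M hMc).out 1 0).mp (fun x => ?_)
  haveI := free_stalk_of_finLocFree M hM x
  haveI : Module.Finite (X.presheaf.stalk x) (M.presheaf.stalk x) := finite_stalk hMc.2 x
  show Module.IsReflexive (X.presheaf.stalk x) (M.presheaf.stalk x)
  infer_instance

/-- A submodule of a module with torsion-free stalks has torsion-free stalks. -/
theorem isTorsionFree_of_mono {A B : X.Modules} (a : A ⟶ B) [Mono a]
    (hB : TorSh.IsTorsionFree B) : TorSh.IsTorsionFree A := by
  intro x
  haveI := hB x
  exact Function.Injective.moduleIsTorsionFree (RefHull.stalkMapₗ a x)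
    (DescH8.stk_injective_of_mono a x) (fun r m => map_smul _ r m)

/-- A finite locally free module has torsion-free stalks on an integral scheme. -/
theorem isTorsionFree_of_finLocFree [IsIntegral X] {M : X.Modules}
    (hM : FlatMod.IsFinLocFree M) : TorSh.IsTorsionFree M := by
  intro x
  haveI := isQuasicoherent_of_finLocFree M hM
  haveI := free_stalk_of_finLocFree M hM x
  infer_instance

/-- On an integral regular scheme of dimension at most two, the kernel of an epimorphism from a
finite locally free module onto a coherent module with torsion-free stalks is finite locally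
free. -/
theorem isFinLocFree_kernel [IsIntegral X] [IsLocallyNoetherian X]
    (hreg : ∀ x : X, IsRegularLocalRing (X.presheaf.stalk x))
    (hdim : topologicalKrullDim X ≤ 2) {M N : X.Modules} (hM : FlatMod.IsFinLocFree M)
    (hN : Coh.IsCoh N) (hNtf : TorSh.IsTorsionFree N) (φ : M ⟶ N) [Epi φ] :
    FlatMod.IsFinLocFree (kernel φ) := by
  have hX := RegKerH8.isNormalScheme_of_regular hreg
  have hMc := isCoh_of_finLocFree hM
  haveI : N.IsQuasicoherent := hN.1
  have hKc : Coh.IsCoh (kernel φ) := CohKerH8.isCoh_kernel hMc hN φ
  let S : ShortComplex X.Modules := ShortComplex.mk (kernel.ι φ) φ (kernel.condition φ)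
  have hS : S.ShortExact :=
    { exact := ShortComplex.exact_kernel φ
      mono_f := inferInstanceAs (Mono (kernel.ι φ))
      epi_g := inferInstanceAs (Epi φ) }
  have hEx : HasExt (kernel φ) :=
    RegKerH8.hasExt_kernel S hS (hasExt_of_isReflexive hX (isReflexive_of_finLocFree hM))
      (RegKerH8.genInj_of_torsionFree N hNtf)
  have hKtf : TorSh.IsTorsionFree (kernel φ) :=
    isTorsionFree_of_mono (kernel.ι φ) (isTorsionFree_of_finLocFree hM)
  have hrefl : RefHull.IsReflexive (kernel φ) :=
    isReflexive_of_torsionFree_of_hasExt hX hKc hKtf hEx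
  exact (Groth.Agent.S1689.result X hreg hdim (kernel φ) hKc).mp
    (((isReflexive_tfae (kernel φ) hKc).out 0 1).mp hrefl)

end KerFreeH8
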