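import Mathlib
import Groth.Prelude.Def_CAlg
import Groth.Agent.Lib.Depth_helper5

/-!
# Transfer of Serre's condition `(S_k)` and torsion-freeness along semilinear isomorphisms (helper6)

Given a ring isomorphism `σ : R ≃+* R'` and a `σ`-semilinear additive isomorphism `e : M ≃+ M'`,
`LocCoh.HasSk k R M → LocCoh.HasSk k R' M'` and similarly for `Module.IsTorsionFree`.
-/

set_option autoImplicit false
universe u

namespace Groth.Agent.Lib.SemiSk_helper6

open RingTheory.Sequence

section

variable {R R' : Type u} [CommRing R] [CommRing R'] {M M' : Type u} [AddCommGroup M] [Module R M]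
  [AddCommGroup M'] [Module R' M'] (σ : R ≃+* R') (e : M ≃+ M')
  (he : ∀ (r : R) (m : M), e (r • m) = σ r • e m)

include he

lemma symm_semilinear (r' : R') (m' : M') : e.symm (r' • m') = σ.symm r' • e.symm m' := by
  apply e.injective
  rw [he, e.apply_symm_apply, σ.apply_symm_apply, e.apply_symm_apply]

lemma supportDim_le : Module.supportDim R' M' ≤ Module.supportDim R M := by
  unfold Module.supportDim
  have hmem : ∀ q : PrimeSpectrum R', q ∈ Module.support R' M' →
      PrimeSpectrum.comap σ.toRingHom q ∈ Module.support R M := by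
    intro q hq
    rw [Module.mem_support_iff'] at hq ⊢
    obtain ⟨m', hm'⟩ := hq
    refine ⟨e.symm m', fun r hr h0 => ?_⟩
    have hr' : σ r ∉ q.asIdeal := hr
    apply hm' (σ r) hr'
    have h1 := congrArg e h0
    rw [he, e.apply_symm_apply, map_zero] at h1
    exact h1
  let f : Module.support R' M' → Module.support R M :=
    fun q => ⟨PrimeSpectrum.comap σ.toRingHom q.1, hmem q.1 q.2⟩
  refine Order.krullDim_le_of_strictMono f ?_
  intro q1 q2 h12
  have h12' : q1.1 < q2.1 := h12
  show PrimeSpectrum.comap σ.toRingHom q1.1 < PrimeSpectrum.comap σ.toRingHom q2.1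
  refine lt_of_le_not_ge ?_ ?_
  · rw [← PrimeSpectrum.asIdeal_le_asIdeal]
    exact Ideal.comap_mono ((PrimeSpectrum.asIdeal_le_asIdeal _ _).2 h12'.le)
  · intro hge
    apply h12'.not_ge
    rw [← PrimeSpectrum.asIdeal_le_asIdeal] at hge ⊢
    intro y hy
    have h1 : σ.symm y ∈ (PrimeSpectrum.comap σ.toRingHom q2.1).asIdeal := by
      show σ.toRingHom (σ.symm y) ∈ q2.1.asIdeal
      simpa using hy
    have h3 : σ.toRingHom (σ.symm y) ∈ q1.1.asIdeal := hge h1
    simpa using h3

lemma depth_le [IsLocalRing R] [IsLocalRing R'] : LocCoh.depth R M ≤ LocCoh.depth R' M' := by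
  rw [← ENat.forall_natCast_le_iff_le]
  intro n hn
  unfold LocCoh.depth at hn ⊢
  rw [Groth.Agent.DepthLib.le_idealDepth_iff] at hn ⊢
  have hmax : ∀ r : R, r ∈ IsLocalRing.maximalIdeal R → σ r ∈ IsLocalRing.maximalIdeal R' := by
    intro r hr
    rw [IsLocalRing.mem_maximalIdeal, mem_nonunits_iff] at hr ⊢
    exact fun hu => hr ((isUnit_map_iff σ r).1 hu)
  rcases hn with h | ⟨rs, h1, h2, h3⟩
  · left
    rw [eq_top_iff]
    intro x' _
    have hx : e.symm x' ∈ IsLocalRing.maximalIdeal R • (⊤ : Submodule R M) := by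
      rw [h]; trivial
    have key : ∀ x ∈ IsLocalRing.maximalIdeal R • (⊤ : Submodule R M),
        e x ∈ IsLocalRing.maximalIdeal R' • (⊤ : Submodule R' M') := by
      intro x hx
      refine Submodule.smul_induction_on hx (fun r hr m _ => ?_) (fun a b ha hb => ?_)
      · rw [he]; exact Submodule.smul_mem_smul (hmax r hr) trivial
      · rw [map_add]; exact add_mem ha hb
    have h4 := key _ hx
    rwa [e.apply_symm_apply] at h4
  · right
    refine ⟨rs.map σ, ?_, ?_, by rw [List.length_map, h3]⟩
    · refine (AddEquiv.isWeaklyRegular_congr (e := e) ?_).1 h1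
      exact List.forall₂_map_right_iff.mpr (List.forall₂_same.mpr fun r _ x => he r x)
    · intro s hs
      obtain ⟨r, hr, rfl⟩ := List.mem_map.1 hs
      exact hmax r (h2 r hr)

theorem isTorsionFree_of_semilinear [h : Module.IsTorsionFree R M] :
    Module.IsTorsionFree R' M' := by
  refine ⟨fun r' hr' => ?_⟩
  have hreg : IsRegular (σ.symm r') := by
    refine ⟨fun a b hab => ?_, fun a b hab => ?_⟩
    · have h2 := congrArg σ hab
      simp only [map_mul, RingEquiv.apply_symm_apply] at h2
      exact σ.injective (hr'.left h2)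
    · have h2 := congrArg σ hab
      simp only [map_mul, RingEquiv.apply_symm_apply] at h2
      exact σ.injective (hr'.right h2)
  have key : IsSMulRegular M (σ.symm r') := h.isSMulRegular hreg
  intro x y hxy
  apply e.symm.injective
  apply key
  show σ.symm r' • e.symm x = σ.symm r' • e.symm y
  rw [← symm_semilinear σ e he, ← symm_semilinear σ e he]
  exact congrArg e.symm hxy

section Loc

variable (p' : Ideal R') [p'.IsPrime]

/-- the map on localized modules induced by a semilinear isomorphism. -/
noncomputable def locMap :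
    LocalizedModule (Ideal.comap σ p').primeCompl M → LocalizedModule p'.primeCompl M' :=
  fun x => x.liftOn (fun ms => LocalizedModule.mk (e ms.1) ⟨σ ms.2, ms.2.2⟩) (by
    rintro ⟨m, s⟩ ⟨m₂, s₂⟩ ⟨u, hu⟩
    refine LocalizedModule.mk_eq.2 ⟨⟨σ u, u.2⟩, ?_⟩
    have h1 := congrArg e hu
    simp only [Submonoid.smul_def] at h1 ⊢
    rw [he, he, he, he] at h1
    exact h1)

lemma locMap_mk (m : M) (s : (Ideal.comap σ p').primeCompl) :
    locMap σ e he p' (LocalizedModule.mk m s) = LocalizedModule.mk (e m) ⟨σ s, s.2⟩ :=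
  LocalizedModule.liftOn_mk _ _ _

lemma locMap_add (x y : LocalizedModule (Ideal.comap σ p').primeCompl M) :
    locMap σ e he p' (x + y) = locMap σ e he p' x + locMap σ e he p' y := by
  refine LocalizedModule.induction_on₂ (fun m m₂ s s₂ => ?_) x y
  rw [LocalizedModule.mk_add_mk, locMap_mk, locMap_mk, locMap_mk, LocalizedModule.mk_add_mk]
  congr 1
  · simp only [Submonoid.smul_def, map_add, he]
  · exact Subtype.ext (by simp)

lemma locMap_injective : Function.Injective (locMap σ e he p') := by
  intro x y
  refine LocalizedModule.induction_on₂ (fun m m₂ s s₂ => ?_) x y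
  intro h
  rw [locMap_mk, locMap_mk, LocalizedModule.mk_eq] at h
  obtain ⟨u', hu'⟩ := h
  have hu_mem : σ.symm (u' : R') ∈ (Ideal.comap σ p').primeCompl := by
    show ¬ (σ (σ.symm (u' : R')) ∈ p')
    rw [σ.apply_symm_apply]; exact u'.2
  refine LocalizedModule.mk_eq.2 ⟨⟨σ.symm u', hu_mem⟩, ?_⟩
  apply e.injective
  simp only [Submonoid.smul_def] at hu' ⊢
  rw [he, he, he, he, σ.apply_symm_apply]
  exact hu'

lemma locMap_surjective : Function.Surjective (locMap σ e he p') := by
  intro y
  induction y using LocalizedModule.induction_on with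
  | h m' s' =>
    have hs : σ.symm (s' : R') ∈ (Ideal.comap σ p').primeCompl := by
      show ¬ (σ (σ.symm (s' : R')) ∈ p')
      rw [σ.apply_symm_apply]; exact s'.2
    refine ⟨LocalizedModule.mk (e.symm m') ⟨σ.symm s', hs⟩, ?_⟩
    rw [locMap_mk]
    congr 1
    · exact e.apply_symm_apply m'
    · exact Subtype.ext (σ.apply_symm_apply _)

/-- the additive isomorphism of localized modules. -/
noncomputable def locEquiv :
    LocalizedModule (Ideal.comap σ p').primeCompl M ≃+ LocalizedModule p'.primeCompl M' :=
  AddEquiv.ofBijective (AddMonoidHom.mk' (locMap σ e he p') (locMap_add σ e he p'))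
    ⟨locMap_injective σ e he p', locMap_surjective σ e he p'⟩

lemma locEquiv_apply (x : LocalizedModule (Ideal.comap σ p').primeCompl M) :
    locEquiv σ e he p' x = locMap σ e he p' x := rfl

omit he in
lemma map_primeCompl :
    (Ideal.comap σ p').primeCompl.map σ.toMonoidHom = p'.primeCompl := by
  ext y
  constructor
  · rintro ⟨x, hx, rfl⟩
    exact hx
  · intro hy
    refine ⟨σ.symm y, ?_, by simp⟩
    show ¬ (σ (σ.symm y) ∈ p')
    rw [σ.apply_symm_apply]; exact hy

/-- the ring isomorphism of localizations. -/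
noncomputable def locRingEquiv (σ : R ≃+* R') (p' : Ideal R') [p'.IsPrime] :
    Localization.AtPrime (Ideal.comap σ p') ≃+* Localization.AtPrime p' :=
  IsLocalization.ringEquivOfRingEquiv (Localization.AtPrime (Ideal.comap σ p'))
    (Localization.AtPrime p') σ (map_primeCompl σ p')

lemma locEquiv_smul (b : Localization.AtPrime (Ideal.comap σ p'))
    (x : LocalizedModule (Ideal.comap σ p').primeCompl M) :
    locEquiv σ e he p' (b • x) = locRingEquiv σ p' b • locEquiv σ e he p' x := by
  obtain ⟨a, s, rfl⟩ := IsLocalization.exists_mk'_eq (Ideal.comap σ p').primeCompl b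
  induction x using LocalizedModule.induction_on with
  | h m t =>
    rw [locEquiv_apply, locEquiv_apply]
    unfold locRingEquiv
    rw [IsLocalization.ringEquivOfRingEquiv_mk']
    have h1 : IsLocalization.mk' (Localization.AtPrime (Ideal.comap σ p')) a s •
        LocalizedModule.mk m t = LocalizedModule.mk (a • m) (s * t) := by
      rw [← Localization.mk_eq_mk'_apply]
      exact LocalizedModule.mk_smul_mk a m s t
    have h2 : IsLocalization.mk' (Localization.AtPrime p') (σ a)
        (⟨σ s, s.2⟩ : p'.primeCompl) • LocalizedModule.mk (e m) (⟨σ t, t.2⟩ : p'.primeCompl) =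
        LocalizedModule.mk (σ a • e m) ((⟨σ s, s.2⟩ : p'.primeCompl) * ⟨σ t, t.2⟩) := by
      rw [← Localization.mk_eq_mk'_apply]
      exact LocalizedModule.mk_smul_mk _ _ _ _
    refine (congrArg (locMap σ e he p') h1).trans (Eq.trans ?_ (h2.symm.trans ?_))
    · rw [locMap_mk, he]
      congr 1
      exact Subtype.ext (by simp)
    · rw [locMap_mk]

end Loc

theorem hasSk_of_semilinear (k : ℕ) (h : LocCoh.HasSk k R M) : LocCoh.HasSk k R' M' := by
  intro p' _
  have h1 := h (Ideal.comap σ p')
  have hτ := locEquiv_smul σ e he p'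
  have hd := depth_le (locRingEquiv σ p') (locEquiv σ e he p') hτ
  have hs := supportDim_le (locRingEquiv σ p') (locEquiv σ e he p') hτ
  calc min (k : WithBot ℕ∞)
        (Module.supportDim (Localization.AtPrime p') (LocalizedModule p'.primeCompl M'))
      ≤ min (k : WithBot ℕ∞) (Module.supportDim (Localization.AtPrime (Ideal.comap σ p'))
          (LocalizedModule (Ideal.comap σ p').primeCompl M)) := min_le_min_left _ hs
    _ ≤ _ := h1
    _ ≤ _ := WithBot.coe_le_coe.2 hd

end

end Groth.Agent.Lib.SemiSk_helper6
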