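import Mathlib
import Groth.Agent.Lib.SemiSk_helper6

/-!
# Transfer of finiteness along semilinear isomorphisms (helper6)
-/

set_option autoImplicit false
universe u

namespace Groth.Agent.Lib.SemiSk_helper6

theorem finite_of_semilinear {R R' : Type u} [CommRing R] [CommRing R'] {M M' : Type u}
    [AddCommGroup M] [Module R M] [AddCommGroup M'] [Module R' M'] (σ : R ≃+* R') (e : M ≃+ M')
    (he : ∀ (r : R) (m : M), e (r • m) = σ r • e m) [Module.Finite R M] :
    Module.Finite R' M' := by
  classical
  obtain ⟨s, hs⟩ := (Module.Finite.fg_top : (⊤ : Submodule R M).FG)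
  refine ⟨⟨s.image e, ?_⟩⟩
  rw [eq_top_iff]
  intro y _
  have hx : e.symm y ∈ Submodule.span R (s : Set M) := by rw [hs]; trivial
  have key : ∀ x ∈ Submodule.span R (s : Set M),
      e x ∈ Submodule.span R' ((s.image e : Finset M') : Set M') := by
    intro x hx
    induction hx using Submodule.span_induction with
    | mem x hx =>
      exact Submodule.subset_span
        (Finset.mem_coe.2 (Finset.mem_image_of_mem e (Finset.mem_coe.1 hx)))
    | zero => rw [map_zero]; exact Submodule.zero_mem _
    | add x y _ _ hx hy => rw [map_add]; exact add_mem hx hy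
    | smul r x _ hx => rw [he]; exact Submodule.smul_mem _ _ hx
  have h1 := key _ hx
  rwa [e.apply_symm_apply] at h1

end Groth.Agent.Lib.SemiSk_helper6
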