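import Mathlib
import Groth.Prelude
import Groth.Agent.Lib.DCohLoc5_lead
import Groth.Agent.Lib.CohKer_helper8
import Groth.Agent.Lib.KerFree1_helper8
import Groth.Agent.Lib.CohDev8_helper8
import Groth.Agent.Lib.BMod5_helper6
import Groth.Agent.Lib.QCohCrit_helper9
import Groth.Agent.Lib.QCohFT_helper9
import Groth.Agent.Lib.SemiSk2_helper6
import Groth.Agent.Lib.CoprodQP2_helper5
import Groth.Agent.Lib.QcqsLoc_helper9

/-!
# Perfect objects on Noetherian schemes: coherent cohomology sheaves and boundedness (lead)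

* `nonempty_HD_restrict_iso`: cohomology sheaves commute with restriction to opens;
* `isZero_of_isZero_restrict`, `isFiniteType_of_restrict`: locality of vanishing / finite type;
* `isCoh_homology`: homology of a complex of coherent modules on a locally Noetherian scheme;
* `main1006`.

APPEND-ONLY once landed.
-/

set_option autoImplicit false
set_option linter.all false
set_option maxHeartbeats 1600000
set_option backward.isDefEq.respectTransparency false
set_option backward.isDefEq.respectTransparency.types false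
set_option backward.defeqAttrib.useBackward true

universe u

open CategoryTheory CategoryTheory.Limits AlgebraicGeometry TopologicalSpace Opposite
open CategoryTheory.Pretriangulated

attribute [local instance] HasDerivedCategory.standard

namespace Groth.Agent.Lib.DCohLocLead

noncomputable section

/-! ### Cohomology sheaves and restriction -/

section HomologyRestrict

open DerivedCategory

/-- Cohomology sheaves commute with restriction to an open subscheme. -/
theorem nonempty_HD_restrict_iso {Y X : Scheme.{u}} (j : Y ⟶ X) [IsOpenImmersion j]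
    (K : DCoh.D X) (i : ℤ) :
    Nonempty (DCoh.HD ((DD j).obj K) i ≅
      (Scheme.Modules.restrictFunctor j).obj (DCoh.HD K i)) := by
  let G : CochainComplex X.Modules ℤ := Q.objPreimage K
  let e : Q.obj G ≅ K := Q.objObjPreimageIso K
  let a : DCoh.HD ((DD j).obj K) i ≅ ((RC j).obj G).homology i :=
    (homologyFunctor Y.Modules i).mapIso ((DD j).mapIso e.symm ≪≫ facIso j G) ≪≫
      (homologyFunctorFactors Y.Modules i).app ((RC j).obj G)
  let b : ((RC j).obj G).homology i ≅ (Scheme.Modules.restrictFunctor j).obj (G.homology i) :=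
    (G.sc i).mapHomologyIso (Scheme.Modules.restrictFunctor j)
  let c : G.homology i ≅ DCoh.HD K i :=
    ((homologyFunctorFactors X.Modules i).app G).symm ≪≫ (homologyFunctor X.Modules i).mapIso e
  exact ⟨a ≪≫ b ≪≫ (Scheme.Modules.restrictFunctor j).mapIso c⟩

theorem isZero_homology_of_isZero_X {C : Type*} [Category C] [Abelian C]
    (K : CochainComplex C ℤ) (i : ℤ) (h : IsZero (K.X i)) : IsZero (K.homology i) := by
  rw [← HomologicalComplex.exactAt_iff_isZero_homology]
  exact ShortComplex.exact_of_isZero_X₂ _ h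

end HomologyRestrict

/-! ### Locality of vanishing and of finite type -/

section Locality

variable {X : Scheme.{u}}

theorem sections_eq_zero_of_isZero {Z : Scheme.{u}} {N : Z.Modules} (h : IsZero N)
    (W : Z.Opens) (t : Γ(N, W)) : t = 0 := by
  have h1 : (𝟙 N : N ⟶ N) = 0 := h.eq_of_src _ _
  have h2 : ∀ φ : N ⟶ N, φ = 0 → (Scheme.Modules.Hom.app φ W) t = 0 := by
    rintro _ rfl
    rfl
  exact h2 (𝟙 N) h1

theorem image_preimage_of_le {U W : X.Opens} (hW : W ≤ U) : U.ι ''ᵁ (U.ι ⁻¹ᵁ W) = W := by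
  rw [Scheme.Hom.image_preimage_eq_opensRange_inf, Scheme.Opens.opensRange_ι]
  exact inf_eq_right.2 hW

/-- A module whose restrictions to the members of an open cover vanish is zero. -/
theorem isZero_of_isZero_restrict (M : X.Modules) {ι : Type*} (𝒰 : ι → X.Opens)
    (hcov : ∀ x : X, ∃ i, x ∈ 𝒰 i)
    (H : ∀ i, IsZero ((Scheme.Modules.restrictFunctor (𝒰 i).ι).obj M)) : IsZero M := by
  have key : ∀ (i : ι) (W : X.Opens), W ≤ 𝒰 i → ∀ t : Γ(M, W), t = 0 := by
    intro i W hW
    have h2 : ∀ W₂ : X.Opens, (𝒰 i).ι ''ᵁ ((𝒰 i).ι ⁻¹ᵁ W) = W₂ → ∀ t : Γ(M, W₂), t = 0 := by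
      rintro _ rfl t
      exact sections_eq_zero_of_isZero (H i) ((𝒰 i).ι ⁻¹ᵁ W) t
    exact h2 W (image_preimage_of_le hW)
  apply Groth.Agent.CoprodQP.isZero_of_sections
  intro U s
  apply QcqsLoc.eq_zero_of_cover M s
  intro x hx
  obtain ⟨i, hi⟩ := hcov x
  exact ⟨U ⊓ 𝒰 i, inf_le_left, ⟨hx, hi⟩, key i _ inf_le_right _⟩

/-- Finiteness of sections of a restriction is finiteness of sections over the image. -/
theorem finite_sections_of_restrict {Y : Scheme.{u}} (j : Y ⟶ X) [IsOpenImmersion j]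
    (M : X.Modules) (W' : Y.Opens)
    (h : Module.Finite Γ(Y, W') Γ((Scheme.Modules.restrictFunctor j).obj M, W')) :
    Module.Finite Γ(X, j ''ᵁ W') Γ(M, j ''ᵁ W') := by
  haveI := h
  exact Groth.Agent.Lib.SemiSk_helper6.finite_of_semilinear
    (R := Γ(Y, W')) (R' := Γ(X, j ''ᵁ W'))
    (M := Γ((Scheme.Modules.restrictFunctor j).obj M, W')) (M' := Γ(M, j ''ᵁ W'))
    ((j.appIso W').symm.commRingCatIsoToRingEquiv) (AddEquiv.refl _) (fun r m => rfl)

/-- Finite type is local on the base (for quasi-coherent modules). -/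
theorem isFiniteType_of_restrict (M : X.Modules) [M.IsQuasicoherent] {ι : Type u}
    (𝒰 : ι → X.Opens) (hcov : ⨆ i, 𝒰 i = ⊤)
    (H : ∀ i, SheafOfModules.IsFiniteType (R := ((𝒰 i : X.Opens) : Scheme.{u}).ringCatSheaf)
      ((Scheme.Modules.restrictFunctor (𝒰 i).ι).obj M)) :
    SheafOfModules.IsFiniteType (R := X.ringCatSheaf) M := by
  let J := {V : X.affineOpens // ∃ i, V.1 ≤ 𝒰 i}
  refine QCohCrit.isFiniteType_of_sections_cover M (fun V : J => V.1.1) (fun V => V.1.2) ?_ ?_
  · rw [eq_top_iff]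
    intro x _
    have hx : x ∈ (⨆ i, 𝒰 i : X.Opens) := by rw [hcov]; trivial
    obtain ⟨i, hi⟩ := Opens.mem_iSup.mp hx
    obtain ⟨V, hV, hxV, hVU⟩ := Opens.isBasis_iff_nbhd.mp X.isBasis_affineOpens hi
    exact Opens.mem_iSup.mpr ⟨⟨⟨V, hV⟩, i, hVU⟩, hxV⟩
  · rintro ⟨⟨W, hW⟩, i, hWi⟩
    show Module.Finite Γ(X, W) Γ(M, W)
    have hW' : IsAffineOpen ((𝒰 i).ι ⁻¹ᵁ W) :=
      hW.preimage_of_isOpenImmersion (𝒰 i).ι (by rw [Scheme.Opens.opensRange_ι]; exact hWi)
    haveI := H i
    have hfin : Module.Finite Γ(((𝒰 i : X.Opens) : Scheme.{u}), (𝒰 i).ι ⁻¹ᵁ W)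
        Γ((Scheme.Modules.restrictFunctor (𝒰 i).ι).obj M, (𝒰 i).ι ⁻¹ᵁ W) :=
      QCohFT.finite_of_isFiniteType _ hW'
    have h2 : ∀ W₂ : X.Opens, (𝒰 i).ι ''ᵁ ((𝒰 i).ι ⁻¹ᵁ W) = W₂ →
        Module.Finite Γ(X, W₂) Γ(M, W₂) := by
      rintro _ rfl
      exact finite_sections_of_restrict (𝒰 i).ι M _ hfin
    exact h2 W (image_preimage_of_le hWi)

end Locality

/-! ### Homology of complexes of coherent modules -/

theorem isCoh_homology {X : Scheme.{u}} [IsLocallyNoetherian X] (P : CochainComplex X.Modules ℤ)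
    (hP : ∀ i, Coh.IsCoh (P.X i)) (i : ℤ) : Coh.IsCoh (P.homology i) := by
  have hk : Coh.IsCoh (kernel (P.sc i).g) :=
    CohKerH8.isCoh_kernel (hP i) (hP ((ComplexShape.up ℤ).next i)) _
  have hc : Coh.IsCoh (cokernel (kernel.lift (P.sc i).g (P.sc i).f (P.sc i).zero)) :=
    CohKerH8.isCoh_cokernel (hP ((ComplexShape.up ℤ).prev i)) hk _
  exact CohDevH8.isCoh_of_iso (P.sc i).homologyIsoCokernelLift hc

/-! ### The main theorem -/

theorem main1006 (X : Scheme.{u}) [IsNoetherian X] (E : DCoh.D X) (hE : DCoh.IsPerfect E) :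
    DCoh.IsCohD E ∧ ∃ a b : ℤ, E.IsGE a ∧ E.IsLE b := by
  rw [isPerfect_iff] at hE
  choose V hxV hV using hE
  choose P hP hiso using hV
  have hcov : ⨆ x, V x = ⊤ := by
    rw [eq_top_iff]
    intro x _
    exact Opens.mem_iSup.mpr ⟨x, hxV x⟩
  have hloc : ∀ (x : X) (i : ℤ),
      Nonempty ((Scheme.Modules.restrictFunctor (V x).ι).obj (DCoh.HD E i) ≅
        (P x).homology i) := by
    intro x i
    obtain ⟨e1⟩ := nonempty_HD_restrict_iso (V x).ι E i
    obtain ⟨e2⟩ := hiso x
    exact ⟨e1.symm ≪≫ (DerivedCategory.homologyFunctor _ i).mapIso e2 ≪≫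
      (DerivedCategory.homologyFunctorFactors _ i).app (P x)⟩
  have hcohP : ∀ (x : X) (i : ℤ), Coh.IsCoh ((P x).homology i) := by
    intro x i
    exact isCoh_homology (P x) (fun k => KerFreeH8.isCoh_of_finLocFree ((hP x).2 k)) i
  refine ⟨fun i => ?_, ?_⟩
  · have hres : ∀ x, Coh.IsCoh ((Scheme.Modules.restrictFunctor (V x).ι).obj (DCoh.HD E i)) := by
      intro x
      obtain ⟨e⟩ := hloc x i
      exact CohDevH8.isCoh_of_iso e (hcohP x i)
    haveI hq : (DCoh.HD E i).IsQuasicoherent :=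
      Groth.Agent.Lib.BModH6.isQuasicoherent_of_restrict_ι _ V hcov (fun x => (hres x).1)
    exact ⟨hq, isFiniteType_of_restrict _ V hcov (fun x => (hres x).2)⟩
  · choose a b hab using fun x => (hP x).1
    obtain ⟨t, ht⟩ := isCompact_univ.elim_finite_subcover (fun x : X => ((V x : X.Opens) : Set X))
      (fun x => (V x).isOpen) (fun y _ => Set.mem_iUnion.2 ⟨y, hxV y⟩)
    have hzero : ∀ i : ℤ, (∀ x ∈ t, i < a x ∨ b x < i) → IsZero (DCoh.HD E i) := by
      intro i hi
      refine isZero_of_isZero_restrict (DCoh.HD E i) (fun x : {x // x ∈ t} => V x.1) ?_ ?_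
      · intro y
        have hy := ht (Set.mem_univ y)
        simp only [Set.mem_iUnion] at hy
        obtain ⟨x, hx, hyx⟩ := hy
        exact ⟨⟨x, hx⟩, hyx⟩
      · rintro ⟨x, hx⟩
        obtain ⟨e⟩ := hloc x i
        exact IsZero.of_iso (isZero_homology_of_isZero_X (P x) i (hab x i (hi x hx))) e
    refine ⟨-(∑ x ∈ t, |a x|), ∑ x ∈ t, |b x|, ?_, ?_⟩
    · rw [DerivedCategory.isGE_iff]
      intro i hi
      refine hzero i (fun x hx => Or.inl ?_)
      have h1 : |a x| ≤ ∑ y ∈ t, |a y| :=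
        Finset.single_le_sum (f := fun y => |a y|) (fun y _ => abs_nonneg _) hx
      have h2 := neg_abs_le (a x)
      linarith
    · rw [DerivedCategory.isLE_iff]
      intro i hi
      refine hzero i (fun x hx => Or.inr ?_)
      have h1 : |b x| ≤ ∑ y ∈ t, |b y| :=
        Finset.single_le_sum (f := fun y => |b y|) (fun y _ => abs_nonneg _) hx
      have h2 := le_abs_self (b x)
      linarith

end

end Groth.Agent.Lib.DCohLocLead
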