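import Groth.Agent.Lib.DTorCmp3_helper2

/-!
# Derived tensor product on a scheme, IV: flatness and vanishing of `Tor_1` (helper2)
-/

set_option autoImplicit false
universe u
open CategoryTheory Limits AlgebraicGeometry
attribute [local instance] HasDerivedCategory.standard

namespace Groth.Agent.Lib.DTorCmp

variable {X : Scheme.{u}}

theorem flatMod_of_iso {M N : X.Modules} (e : M ≅ N) (h : FlatMod.IsFlat M) : FlatMod.IsFlat N :=
  Groth.Agent.Lib.StalkFlatSch.flatMod_of_isFlat _
    (Groth.Agent.Lib.ModSiteH8.isFlat_of_iso X.sheaf e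
      (Groth.Agent.Lib.StalkFlatSch.isFlat_of_flatMod _ h))

theorem flatMod_of_isZero {M : X.Modules} (h : IsZero M) : FlatMod.IsFlat M :=
  Groth.Agent.Lib.StalkFlatSch.flatMod_of_isFlat _
    (Groth.Agent.Lib.KFlatSite.isFlat_of_isZero (O := X.sheaf) M h)

/-- a flat module has vanishing `Tor_i(F, G)` for `i ≠ 0` -/
theorem torAmp_single_of_flat (F : X.Modules) (hF : FlatMod.IsFlat F) :
    DCoh.HasTorAmplitudeIn 0 0 (DCoh.inD X F) := by
  refine torAmp_of_iso ((DerivedCategory.singleFunctorIsoCompQ X.Modules 0).symm.app F)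
    (torAmp_of_flat_rep ((CochainComplex.singleFunctor X.Modules 0).obj F) 0 0 ?_ ?_)
  · intro i hi
    exact HomologicalComplex.isZero_single_obj_X (ComplexShape.up ℤ) 0 F i (by omega)
  · intro i
    by_cases hi : i = 0
    · subst hi
      exact flatMod_of_iso (HomologicalComplex.singleObjXSelf (ComplexShape.up ℤ) 0 F).symm hF
    · exact flatMod_of_isZero
        (HomologicalComplex.isZero_single_obj_X (ComplexShape.up ℤ) 0 F i hi)

/-- vanishing of `Tor_1(F, -)` implies flatness -/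
theorem flat_of_tor1 (F : X.Modules) (hL : ∀ G : X.Modules, DCoh.HasLTensorMod G)
    (h : ∀ (G : X.Modules) [DCoh.HasLTensorMod G],
      IsZero (DCoh.HD ((DCoh.LTensorMod G).obj (DCoh.inD X F)) (-1))) :
    FlatMod.IsFlat F := by
  let S : CochainComplex X.Modules ℤ := (CochainComplex.singleFunctor X.Modules 0).obj F
  haveI : S.IsStrictlyLE 0 := inferInstance
  haveI : S.IsLE 0 := inferInstance
  obtain ⟨K, qK, b', hb', hKfl, hqK⟩ := exists_bounded_flat_resolution S 0
  haveI := hb'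
  haveI := hqK
  haveI : K.IsLE 0 := by
    rw [CochainComplex.isLE_iff]
    exact fun i hi => (exactAt_iff_of_quasiIso qK i).2 (S.exactAt_of_isLE 0 i hi)
  have hK₁fl := flat_truncLE K b' hKfl 0
  have e₂ : DCoh.toD X (K.truncLE 0) ≅ DCoh.inD X F :=
    asIso (DerivedCategory.Q.map (K.ιTruncLE 0)) ≪≫ asIso (DerivedCategory.Q.map qK) ≪≫
      (DerivedCategory.singleFunctorIsoCompQ X.Modules 0).symm.app F
  have hC : FlatMod.IsFlat (cokernel ((K.truncLE 0).d (0 - 1) 0)) :=
    flat_cokernel_of_torAmp (K.truncLE 0) 0 inferInstance hK₁fl hL 0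
      (fun G _ => IsZero.of_iso (h G)
        ((DerivedCategory.homologyFunctor X.Modules (0 - 1)).mapIso
          ((DCoh.LTensorMod G).mapIso e₂)))
  have hd : (K.truncLE 0).d 0 1 = 0 :=
    ((K.truncLE 0).isZero_of_isStrictlyLE 0 1 (by omega)).eq_of_tgt _ _
  have e : cokernel ((K.truncLE 0).d (0 - 1) 0) ≅ F :=
    (Groth.Agent.Lib.CyclesFlat.opcyclesIsoCokernel (K.truncLE 0) 0).symm ≪≫
      ((K.truncLE 0).isoHomologyι 0 1 (by simp) hd).symm ≪≫
      asIso (HomologicalComplex.homologyMap (K.ιTruncLE 0 ≫ qK) 0) ≪≫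
      HomologicalComplex.singleObjHomologySelfIso (ComplexShape.up ℤ) 0 F
  exact flatMod_of_iso e hC

theorem flat_iff_tor1 (F : X.Modules) (hL : ∀ G : X.Modules, DCoh.HasLTensorMod G) :
    FlatMod.IsFlat F ↔ ∀ (G : X.Modules) [DCoh.HasLTensorMod G],
      IsZero (DCoh.HD ((DCoh.LTensorMod G).obj (DCoh.inD X F)) (-1)) :=
  ⟨fun hF G _ => torAmp_single_of_flat F hF G (-1) (Or.inl (by omega)), flat_of_tor1 F hL⟩

end Groth.Agent.Lib.DTorCmp
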