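import Mathlib
import Groth.Prelude

set_option autoImplicit false
universe u

open CategoryTheory AlgebraicGeometry TopologicalSpace Opposite

/-! Stalks of the restriction of a module to an open subscheme, semilinearly
(adapted from helper6's `StalkSemi_helper6`, avoiding its imports), and the transport of
reflexivity along semilinear isomorphisms. -/

namespace RestrStalkH8

section General

variable {X : Scheme.{u}}

theorem exists_common_germ (F : X.Modules) (x : X) (o : X.presheaf.stalk x)
    (t : F.presheaf.stalk x) :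
    ∃ (U : X.Opens) (hx : x ∈ U) (r : Γ(X, U)) (s : Γ(F, U)),
      X.presheaf.germ U x hx r = o ∧ F.presheaf.germ U x hx s = t := by
  obtain ⟨U, hxU, r, rfl⟩ := TopCat.Presheaf.exists_germ_eq X.presheaf o
  obtain ⟨V, hxV, s, rfl⟩ := TopCat.Presheaf.exists_germ_eq F.presheaf t
  refine ⟨U ⊓ V, ⟨hxU, hxV⟩, X.presheaf.map (homOfLE inf_le_left).op r,
    F.presheaf.map (homOfLE inf_le_right).op s, ?_, ?_⟩
  · exact TopCat.Presheaf.germ_res_apply X.presheaf (homOfLE inf_le_left) x ⟨hxU, hxV⟩ r
  · exact TopCat.Presheaf.germ_res_apply F.presheaf (homOfLE inf_le_right) x ⟨hxU, hxV⟩ s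

end General

section Restrict

variable {U' X : Scheme.{u}} (j : U' ⟶ X) [IsOpenImmersion j] (F : X.Modules) (u : U')

/-- Stalks of the restriction to an open subscheme. -/
noncomputable def restrictStalkIso :
    (F.restrict j).presheaf.stalk u ≅ F.presheaf.stalk (j.base u) :=
  PresheafedSpace.restrictStalkIso (C := Ab) ⟨X.toTopCat, F.presheaf⟩ j.isOpenEmbedding u

/-- The stalk map of the restriction, as an additive equivalence. -/
noncomputable def restrictStalkEquiv :
    (F.restrict j).presheaf.stalk u ≃+ F.presheaf.stalk (j.base u) :=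
  (restrictStalkIso j F u).addCommGroupIsoToAddEquiv

theorem restrictStalkEquiv_germ (V : U'.Opens) (hu : u ∈ V) (s : Γ(F.restrict j, V)) :
    restrictStalkEquiv j F u ((F.restrict j).presheaf.germ V u hu s) =
      F.presheaf.germ (j ''ᵁ V) (j.base u) ⟨u, hu, rfl⟩ (s : Γ(F, j ''ᵁ V)) :=
  PresheafedSpace.restrictStalkIso_hom_eq_germ_apply (C := Ab) ⟨X.toTopCat, F.presheaf⟩
    j.isOpenEmbedding V u hu s

/-- The ring isomorphism on stalks induced by an open immersion. -/
noncomputable def stalkRingEquiv : X.presheaf.stalk (j.base u) ≃+* U'.presheaf.stalk u :=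
  (asIso (j.stalkMap u)).commRingCatIsoToRingEquiv

theorem stalkRingEquiv_germ (V : U'.Opens) (hu : u ∈ V) (r : Γ(U', V)) :
    stalkRingEquiv j u (X.presheaf.germ (j ''ᵁ V) (j.base u) ⟨u, hu, rfl⟩ ((j.appIso V).inv r)) =
      U'.presheaf.germ V u hu r := by
  show j.stalkMap u (X.presheaf.germ (j ''ᵁ V) (j.base u) ⟨u, hu, rfl⟩ ((j.appIso V).inv r)) = _
  rw [Scheme.Hom.germ_stalkMap_apply]
  have h3 : j.app (j ''ᵁ V) ((j.appIso V).inv r) =
      U'.presheaf.map (eqToHom (j.preimage_image_eq V)).op r :=
    congr($(j.appIso_inv_app V) r)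
  rw [h3, TopCat.Presheaf.germ_res_apply]

theorem restrictStalkEquiv_smul (o : U'.presheaf.stalk u) (t : (F.restrict j).presheaf.stalk u) :
    restrictStalkEquiv j F u (o • t) =
      (stalkRingEquiv j u).symm o • restrictStalkEquiv j F u t := by
  obtain ⟨V, hu, r, s, rfl, rfl⟩ := exists_common_germ (F.restrict j) u o t
  rw [← Mero.germ_smul, restrictStalkEquiv_germ, restrictStalkEquiv_germ]
  let s' : Γ(F, j ''ᵁ V) := s
  have h1 : (r • s : Γ(F.restrict j, V)) = ((j.appIso V).inv r • s' : Γ(F, j ''ᵁ V)) := rfl
  rw [h1, Mero.germ_smul, ← stalkRingEquiv_germ j u V hu r, RingEquiv.symm_apply_apply]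

end Restrict

section Semilinear

variable {R R' M M' : Type u} [CommRing R] [CommRing R'] [AddCommGroup M] [AddCommGroup M']
  [Module R M] [Module R' M'] (σ : R ≃+* R') (ε : M ≃+ M')
  (hε : ∀ (r : R) (m : M), ε (r • m) = σ r • ε m)

include hε in
theorem symm_smul (r' : R') (m' : M') : ε.symm (r' • m') = σ.symm r' • ε.symm m' := by
  apply ε.injective
  rw [hε, AddEquiv.apply_symm_apply, RingEquiv.apply_symm_apply, AddEquiv.apply_symm_apply]

/-- The semilinear isomorphism of duals induced by a semilinear isomorphism. -/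
noncomputable def dualSemi : Module.Dual R M ≃+ Module.Dual R' M' where
  toFun f :=
    { toFun := fun m' => σ (f (ε.symm m'))
      map_add' := fun a b => by rw [map_add, map_add, map_add]
      map_smul' := fun r' m' => by
        rw [symm_smul σ ε hε, map_smul, smul_eq_mul, map_mul, RingEquiv.apply_symm_apply]
        rfl }
  invFun g :=
    { toFun := fun m => σ.symm (g (ε m))
      map_add' := fun a b => by rw [map_add, map_add, map_add]
      map_smul' := fun r m => by
        rw [hε, map_smul, smul_eq_mul, map_mul, RingEquiv.symm_apply_apply]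
        rfl }
  left_inv f := by
    ext m
    show σ.symm (σ (f (ε.symm (ε m)))) = f m
    rw [RingEquiv.symm_apply_apply, AddEquiv.symm_apply_apply]
  right_inv g := by
    ext m'
    show σ (σ.symm (g (ε (ε.symm m')))) = g m'
    rw [RingEquiv.apply_symm_apply, AddEquiv.apply_symm_apply]
  map_add' f f' := by
    ext m'
    show σ ((f + f') (ε.symm m')) = σ (f (ε.symm m')) + σ (f' (ε.symm m'))
    rw [LinearMap.add_apply, map_add]

theorem dualSemi_apply (f : Module.Dual R M) (m' : M') :
    dualSemi σ ε hε f m' = σ (f (ε.symm m')) := rfl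

theorem dualSemi_symm_apply (g : Module.Dual R' M') (m : M) :
    (dualSemi σ ε hε).symm g m = σ.symm (g (ε m)) := rfl

theorem dualSemi_smul (r : R) (f : Module.Dual R M) :
    dualSemi σ ε hε (r • f) = σ r • dualSemi σ ε hε f := by
  ext m'
  rw [dualSemi_apply, LinearMap.smul_apply, LinearMap.smul_apply, dualSemi_apply, smul_eq_mul,
    smul_eq_mul, map_mul]

include hε in
/-- Reflexivity is transported by semilinear isomorphisms. -/
theorem isReflexive_of_semilinear [Module.IsReflexive R M] : Module.IsReflexive R' M' := by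
  constructor
  have hb := Module.bijective_dual_eval R M
  set D := dualSemi σ ε hε with hD
  set DD := dualSemi σ D (dualSemi_smul σ ε hε) with hDD
  have key : ∀ m : M, Module.Dual.eval R' M' (ε m) = DD (Module.Dual.eval R M m) := by
    intro m
    ext g
    rw [Module.Dual.eval_apply, hDD, dualSemi_apply, Module.Dual.eval_apply, hD,
      dualSemi_symm_apply, RingEquiv.apply_symm_apply]
  have e : ⇑(Module.Dual.eval R' M') = ⇑DD ∘ ⇑(Module.Dual.eval R M) ∘ ⇑ε.symm := by
    funext m'
    rw [Function.comp_apply, Function.comp_apply, ← key, AddEquiv.apply_symm_apply]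
  rw [e]
  exact DD.bijective.comp (hb.comp ε.symm.bijective)

end Semilinear

end RestrStalkH8
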