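import Mathlib
import Groth.Prelude
import Groth.Agent.Lib.FCompl1_helper8
import Groth.Agent.Lib.StalkLoc_helper8
import Groth.Agent.Lib.IsoCrit_helper5
import Groth.Agent.Lib.QCohFP2_helper9
import Groth.Agent.Lib.QCohExact_helper9
import Groth.Agent.Lib.QCohExtn_helper9
import Groth.Agent.Lib.SubExt_helper9

/-!
# Stalk injectivity and sections of cokernels of quasi-coherent modules (helper6)

APPEND-ONLY once landed.
-/

set_option autoImplicit false
universe u

namespace Groth.Agent.Lib.StalkInjH6

open CategoryTheory CategoryTheory.Limits AlgebraicGeometry TopologicalSpace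

variable {X : Scheme.{u}} {F' F : X.Modules}

/-- the map on sections over an open, as a linear map -/
noncomputable def apLin (u : F' ⟶ F) (U : X.Opens) : Γ(F', U) →ₗ[Γ(X, U)] Γ(F, U) :=
  { toFun := QCohExtn.ap u U
    map_add' := map_add _
    map_smul' := fun r m => QCohExtn.ap_smul u r m }

theorem apLin_apply (u : F' ⟶ F) (U : X.Opens) (m : Γ(F', U)) : apLin u U m = u.app U m := rfl

/-- exactness of `F'(U) → F(U) → (coker u)(U)` on affine opens. -/
theorem exists_app_eq_of_cokernel_π_app_eq_zero [F'.IsQuasicoherent] [F.IsQuasicoherent]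
    (u : F' ⟶ F) {U : X.Opens} (hU : IsAffineOpen U) (x : Γ(F, U))
    (hx : (cokernel.π u).app U x = 0) : ∃ m : Γ(F', U), u.app U m = x := by
  haveI h1 : (Abelian.coimage u).IsQuasicoherent := SubExt.isQuasicoherent_coimage u
  haveI h2 : (Abelian.image u).IsQuasicoherent :=
    (SheafOfModules.isQuasicoherent X.ringCatSheaf).prop_of_iso (Abelian.coimageIsoImage u) h1
  let E : ShortComplex X.Modules :=
    ShortComplex.mk (kernel.ι (cokernel.π u)) (cokernel.π u) (kernel.condition _)
  have hE : E.Exact := ShortComplex.exact_kernel (cokernel.π u)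
  haveI : Mono E.f := inferInstanceAs (Mono (kernel.ι (cokernel.π u)))
  obtain ⟨y, hy⟩ := QCohExact.app_exact E hE U x hx
  have hs := QCohExact.app_surjective_of_epi (Abelian.factorThruImage u) hU
  obtain ⟨m, hm⟩ := hs y
  refine ⟨m, ?_⟩
  have h3 : (Abelian.factorThruImage u ≫ Abelian.image.ι u).app U m = u.app U m := by
    rw [Abelian.image.fac u]
  rw [Scheme.Modules.Hom.comp_app] at h3
  rw [← h3]
  show (Abelian.image.ι u).app U ((Abelian.factorThruImage u).app U m) = x
  rw [hm]
  exact hy

theorem cokernel_π_app_app (u : F' ⟶ F) (U : X.Opens) (m : Γ(F', U)) :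
    (cokernel.π u).app U (u.app U m) = 0 := by
  have h : (u ≫ cokernel.π u).app U m = (0 : F' ⟶ cokernel u).app U m := by
    rw [cokernel.condition]
  rw [Scheme.Modules.Hom.comp_app] at h
  exact h

/-- sections of the cokernel over an affine open are finitely presented. -/
theorem finitePresentation_sections_cokernel [F'.IsQuasicoherent] [F.IsQuasicoherent]
    (u : F' ⟶ F) {U : X.Opens} (hU : IsAffineOpen U) [Module.Finite Γ(X, U) Γ(F', U)]
    [Module.FinitePresentation Γ(X, U) Γ(F, U)] :
    Module.FinitePresentation Γ(X, U) Γ(cokernel u, U) := by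
  haveI : (cokernel u).IsQuasicoherent := FComplH8.isQuasicoherent_cokernel u
  have hs : Function.Surjective (apLin (cokernel.π u) U) :=
    QCohExact.app_surjective_of_epi (cokernel.π u) hU
  refine Module.finitePresentation_of_surjective (apLin (cokernel.π u) U) hs ?_
  have hk : LinearMap.ker (apLin (cokernel.π u) U) = LinearMap.range (apLin u U) := by
    ext x
    constructor
    · intro hx
      exact exists_app_eq_of_cokernel_π_app_eq_zero u hU x hx
    · rintro ⟨m, rfl⟩
      exact cokernel_π_app_app u U m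
  rw [hk, LinearMap.range_eq_map]
  exact Submodule.FG.map _ Module.Finite.fg_top

/-- the cokernel of a morphism of finitely presented quasi-coherent modules is finitely
presented. -/
theorem isFP_cokernel [F'.IsQuasicoherent] [F.IsQuasicoherent]
    [SheafOfModules.IsFinitePresentation (R := X.ringCatSheaf) F']
    [SheafOfModules.IsFinitePresentation (R := X.ringCatSheaf) F] (u : F' ⟶ F) :
    SheafOfModules.IsFinitePresentation (R := X.ringCatSheaf) (cokernel u) := by
  haveI : (cokernel u).IsQuasicoherent := FComplH8.isQuasicoherent_cokernel u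
  refine QCohFP2.isFinitePresentation_of_sections_cover (cokernel u)
    (fun i : X.affineOpens => (i : X.Opens)) (fun i => i.2) (iSup_affineOpens_eq_top X) ?_
  intro i
  haveI : Module.FinitePresentation Γ(X, (i : X.Opens)) Γ(F', (i : X.Opens)) :=
    QCohFP2.finitePresentation_of_isFinitePresentation F' i.2
  haveI : Module.FinitePresentation Γ(X, (i : X.Opens)) Γ(F, (i : X.Opens)) :=
    QCohFP2.finitePresentation_of_isFinitePresentation F i.2
  exact finitePresentation_sections_cokernel u i.2

/-- stalk injectivity from a local annihilation condition on sections over an affine open. -/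
theorem injective_stalkAdd_of_forall [F'.IsQuasicoherent] [F.IsQuasicoherent] (u : F' ⟶ F)
    {U : X.Opens} (hU : IsAffineOpen U) {y : X} (hy : y ∈ U)
    (h : ∀ m : Γ(F', U), u.app U m = 0 →
      ∃ g ∈ (hU.primeIdealOf ⟨y, hy⟩).asIdeal.primeCompl, g • m = 0) :
    Function.Injective (Groth.Agent.IsoCrit.stalkAdd u y) := by
  letI := StalkLocH8.modSec F' hy
  letI := StalkLocH8.modSec F hy
  haveI := StalkLocH8.isLocalizedModule_germLin F' hU hy
  haveI := StalkLocH8.isLocalizedModule_germLin F hU hy
  set T := (hU.primeIdealOf ⟨y, hy⟩).asIdeal.primeCompl with hT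
  rw [injective_iff_map_eq_zero]
  intro s hs
  obtain ⟨⟨m, t⟩, hmt⟩ := IsLocalizedModule.surj T (StalkLocH8.germLin F' hy) s
  have hmt' : t • s = StalkLocH8.germLin F' hy m := hmt
  have h1 : StalkLocH8.germLin F hy (u.app U m) = 0 := by
    rw [StalkLocH8.germLin_apply, ← Groth.Agent.IsoCrit.stalkAdd_germ u hy m,
      ← StalkLocH8.germLin_apply, ← hmt']
    show Groth.Agent.IsoCrit.stalkAdd u y ((X.presheaf.germ U y hy).hom t.1 • s) = 0
    rw [Groth.Agent.IsoCrit.stalkAdd_smul, hs, smul_zero]
  obtain ⟨t', ht'⟩ := (IsLocalizedModule.eq_zero_iff T (StalkLocH8.germLin F hy)).mp h1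
  have h2 : u.app U (t'.1 • m) = 0 := by
    rw [Scheme.Modules.Hom.app_smul]
    exact ht'
  obtain ⟨g, hg, hgm⟩ := h (t'.1 • m) h2
  have h3 : StalkLocH8.germLin F' hy m = 0 := by
    rw [IsLocalizedModule.eq_zero_iff T]
    refine ⟨⟨g, hg⟩ * t', ?_⟩
    rw [Submonoid.smul_def, Submonoid.coe_mul, mul_smul]
    exact hgm
  rw [h3] at hmt'
  exact IsLocalizedModule.smul_injective (StalkLocH8.germLin F' hy) t
    (hmt'.trans (smul_zero _).symm)

/-- a section killed by `u` over an affine open is locally killed at a point where the stalk map is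
injective. -/
theorem exists_smul_eq_zero_of_injective_stalkAdd [F'.IsQuasicoherent] (u : F' ⟶ F)
    {U : X.Opens} (hU : IsAffineOpen U) {y : X} (hy : y ∈ U)
    (hinj : Function.Injective (Groth.Agent.IsoCrit.stalkAdd u y))
    (m : Γ(F', U)) (hm : u.app U m = 0) :
    ∃ g ∈ (hU.primeIdealOf ⟨y, hy⟩).asIdeal.primeCompl, g • m = 0 := by
  letI := StalkLocH8.modSec F' hy
  haveI := StalkLocH8.isLocalizedModule_germLin F' hU hy
  have h0 : StalkLocH8.germLin F' hy m = 0 := by
    apply hinj
    rw [map_zero, StalkLocH8.germLin_apply, Groth.Agent.IsoCrit.stalkAdd_germ, hm, map_zero]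
  obtain ⟨t, ht⟩ := (IsLocalizedModule.eq_zero_iff
    (hU.primeIdealOf ⟨y, hy⟩).asIdeal.primeCompl (StalkLocH8.germLin F' hy)).mp h0
  exact ⟨t.1, t.2, ht⟩

/-- membership in a basic open from non-membership in the prime. -/
theorem mem_basicOpen_of_mem_primeCompl {U : X.Opens} (hU : IsAffineOpen U) {x : X} (hx : x ∈ U)
    {g : Γ(X, U)} (hg : g ∈ (hU.primeIdealOf ⟨x, hx⟩).asIdeal.primeCompl) :
    x ∈ X.basicOpen g := by
  rw [Scheme.mem_basicOpen _ _ _ hx]
  by_contra hnu
  apply hg
  rw [hU.primeIdealOf_eq_map_closedPoint]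
  exact (IsLocalRing.mem_maximalIdeal _).mpr hnu

end Groth.Agent.Lib.StalkInjH6
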