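import Groth.Agent.Lib.ResSite_helper2

/-!
# K-flat complexes on ringed sites, V: existence of K-flat resolutions (helper2)
-/

set_option autoImplicit false
universe u
open CategoryTheory Limits ModSite

namespace Groth.Agent.Lib.KFlatSite

variable {C : Type u} [SmallCategory C] {J : GrothendieckTopology C} {O : Sheaf J CommRingCat.{u}}

open Groth.Agent.Lib.ModSiteH8 Groth.Agent.Lib.ResSite Groth.Agent.Lib.TruncTower

/-- a colimit (of exact shape, index category in universe `0`) of flat modules is flat -/
theorem isFlat_of_isColimit' {I : Type} [SmallCategory I] [HasExactColimitsOfShape I (Mod O)]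
    (D : I ⥤ Mod O) (hD : ∀ i, ModSite.IsFlat (D.obj i)) (c : Cocone D) (hc : IsColimit c) :
    ModSite.IsFlat c.pt := by
  rw [isFlat_iff]
  let Φ : Mod O ⥤ (I ⥤ Mod O) := tensorBi O ⋙ (Functor.whiskeringLeft I _ _).obj D
  haveI : PreservesFiniteLimits Φ := by
    apply preservesFiniteLimits_of_evaluation
    intro i
    haveI := (hD i).1
    exact preservesFiniteLimits_of_natIso
      (NatIso.ofComponents (fun G => Iso.refl _) :
        (tensorBi O).flip.obj (D.obj i) ≅ Φ ⋙ (evaluation I (Mod O)).obj i)
  haveI : PreservesFiniteLimits (colim : (I ⥤ Mod O) ⥤ Mod O) :=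
    HasExactColimitsOfShape.preservesFiniteLimits
  let e : Φ ⋙ colim ≅ (tensorBi O).flip.obj c.pt :=
    NatIso.ofComponents (fun G => (colimit.isColimit (Φ.obj G)).coconePointUniqueUpToIso
      (isColimitOfPreserves ((tensorBi O).obj G) hc)) (by
      intro G G' g
      apply colimit.hom_ext
      intro j
      have h1 : ∀ (G : Mod O) (j : I), colimit.ι (Φ.obj G) j ≫
          ((colimit.isColimit (Φ.obj G)).coconePointUniqueUpToIso
            (isColimitOfPreserves ((tensorBi O).obj G) hc)).hom =
          ((tensorBi O).obj G).map (c.ι.app j) := fun G j =>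
        IsColimit.comp_coconePointUniqueUpToIso_hom (colimit.isColimit (Φ.obj G)) _ j
      simp only [Functor.comp_map, colim_map, ι_colimMap_assoc]
      rw [h1 G', reassoc_of% (h1 G)]
      exact (((tensorBi O).map g).naturality (c.ι.app j)).symm)
  exact preservesFiniteLimits_of_natIso e

/-- every complex has a K-flat resolution with flat terms, degreewise epimorphic -/
theorem exists_kflat_resolution (G : CochainComplex (Mod O) ℤ) :
    ∃ (K : CochainComplex (Mod O) ℤ) (q : K ⟶ G), ModSite.IsKFlat K ∧
      (∀ n : ℤ, ModSite.IsFlat (K.X n)) ∧ QuasiIso q ∧ ∀ n : ℤ, Epi (q.f n) := by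
  obtain ⟨Kc, π, _, hπ, hb, hfree, _, c, hc, hq⟩ := exists_system O G
  refine ⟨colimit Kc, c, ?_, ?_, hq, ?_⟩
  · refine isKFlat_of_isColimit Kc (fun n => ?_) (colimit.isColimit Kc)
    obtain ⟨b, hb'⟩ := hb n
    haveI := hb'
    exact isKFlat_of_isStrictlyLE (Kc.obj n) b (fun i => isFlat_of_isFreeSum O (hfree n i))
  · intro i
    haveI := hasExactColimitsOfShape_filtered O ℕ
    exact isFlat_of_isColimit' (Kc ⋙ HomologicalComplex.eval _ _ i)
      (fun n => isFlat_of_isFreeSum O (hfree n i)) _
      (isColimitOfPreserves (HomologicalComplex.eval _ _ i) (colimit.isColimit Kc))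
  · intro i
    have h : (colimit.ι Kc i.toNat).f i ≫ c.f i =
        (π i.toNat).f i ≫ (G.ιTruncLE (((i.toNat : ℕ) : ℤ) + 1)).f i := by
      rw [← HomologicalComplex.comp_f, hc i.toNat, HomologicalComplex.comp_f]
    haveI := (hπ i.toNat).2 i
    haveI := isIso_ιTruncLE_f G (((i.toNat : ℕ) : ℤ) + 1) i (by omega)
    haveI : Epi ((colimit.ι Kc i.toNat).f i ≫ c.f i) := by
      rw [h]
      infer_instance
    exact epi_of_epi ((colimit.ι Kc i.toNat).f i) (c.f i)

end Groth.Agent.Lib.KFlatSite
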