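import Groth.Agent.Lib.BifCone_helper2

/-!
# Functoriality of the total complex `Tot F(K₁, K₂)` in the bifunctor `F` (helper2)

* `mapNat τ K₁ K₂ : mapBifunctor K₁ K₂ F ⟶ mapBifunctor K₁ K₂ F'` for `τ : F ⟶ F'`;
* `mapNatIso e K₁ K₂` for `e : F ≅ F'`;
* `flipIso e K₁ K₂ : mapBifunctor K₁ K₂ F ≅ mapBifunctor K₂ K₁ F` for `e : F ≅ F.flip`
  (here `C₁ = C₂`).
-/

open CategoryTheory Category Limits

namespace Groth.Agent.Lib.BifNat

open HomologicalComplex Groth.Agent.Lib.BifCone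

variable {C₁ C₂ D : Type*} [Category C₁] [Category C₂] [Category D]
  [Preadditive C₁] [Preadditive C₂] [Preadditive D]

section

variable {F F' F'' : C₁ ⥤ C₂ ⥤ D} [F.Additive] [∀ X₁, (F.obj X₁).Additive]
  [F'.Additive] [∀ X₁, (F'.obj X₁).Additive] [F''.Additive] [∀ X₁, (F''.obj X₁).Additive]
  (τ : F ⟶ F') (τ' : F' ⟶ F'')
  (K₁ : CochainComplex C₁ ℤ) (K₂ : CochainComplex C₂ ℤ)
  [CochainComplex.HasMapBifunctor K₁ K₂ F] [CochainComplex.HasMapBifunctor K₁ K₂ F']
  [CochainComplex.HasMapBifunctor K₁ K₂ F'']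

/-- the morphism of total complexes induced by a natural transformation of bifunctors -/
noncomputable def mapNat :
    CochainComplex.mapBifunctor K₁ K₂ F ⟶ CochainComplex.mapBifunctor K₁ K₂ F' where
  f n := HomologicalComplex.mapBifunctorDesc (fun p q hpq =>
    (τ.app (K₁.X p)).app (K₂.X q) ≫ CochainComplex.ιMapBifunctor K₁ K₂ F' p q n hpq)
  comm' i j hij := by
    have hij' : i + 1 = j := hij
    apply HomologicalComplex.mapBifunctor.hom_ext
    intro p q hpq
    have hpq' : p + q = i := hpq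
    erw [HomologicalComplex.ι_mapBifunctorDesc_assoc]
    rw [assoc]
    erw [ι_d F' K₂ p q i j (p + 1) (q + 1) hpq' hij' rfl rfl,
      ι_d_assoc F K₂ p q i j (p + 1) (q + 1) hpq' hij' rfl rfl]
    rw [Preadditive.comp_add, Preadditive.add_comp, Linear.comp_units_smul,
      Linear.units_smul_comp, assoc, assoc]
    erw [HomologicalComplex.ι_mapBifunctorDesc, HomologicalComplex.ι_mapBifunctorDesc]
    congr 1
    · rw [← assoc, ← assoc]
      congr 1
      rw [← NatTrans.comp_app, ← NatTrans.comp_app, τ.naturality]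
    · congr 1
      rw [← assoc, ← assoc]
      congr 1
      exact ((τ.app (K₁.X p)).naturality (K₂.d q (q + 1))).symm

@[reassoc]
lemma ι_mapNat_f (p q n : ℤ) (hpq : p + q = n) :
    CochainComplex.ιMapBifunctor K₁ K₂ F p q n hpq ≫ (mapNat τ K₁ K₂).f n =
      (τ.app (K₁.X p)).app (K₂.X q) ≫ CochainComplex.ιMapBifunctor K₁ K₂ F' p q n hpq := by
  dsimp only [mapNat]
  exact HomologicalComplex.ι_mapBifunctorDesc _ _ _ _

lemma mapNat_id : mapNat (𝟙 F) K₁ K₂ = 𝟙 _ := by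
  ext n p q hpq
  have hpq' : p + q = n := hpq
  erw [ι_mapNat_f (𝟙 F) K₁ K₂ p q n hpq']
  simp

lemma mapNat_comp : mapNat (τ ≫ τ') K₁ K₂ = mapNat τ K₁ K₂ ≫ mapNat τ' K₁ K₂ := by
  ext n p q hpq
  have hpq' : p + q = n := hpq
  rw [HomologicalComplex.comp_f]
  erw [ι_mapNat_f (τ ≫ τ') K₁ K₂ p q n hpq', ι_mapNat_f_assoc τ K₁ K₂ p q n hpq',
    ι_mapNat_f τ' K₁ K₂ p q n hpq']
  simp

/-- the isomorphism of total complexes induced by a natural isomorphism of bifunctors -/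
noncomputable def mapNatIso (e : F ≅ F') :
    CochainComplex.mapBifunctor K₁ K₂ F ≅ CochainComplex.mapBifunctor K₁ K₂ F' where
  hom := mapNat e.hom K₁ K₂
  inv := mapNat e.inv K₁ K₂
  hom_inv_id := by rw [← mapNat_comp, e.hom_inv_id, mapNat_id]
  inv_hom_id := by rw [← mapNat_comp, e.inv_hom_id, mapNat_id]

end

end Groth.Agent.Lib.BifNat
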