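import Groth.Agent.Lib.KFlatSite6_helper2
import Groth.Agent.Lib.BifNat_helper2
import Mathlib.Algebra.Homology.BifunctorFlip

/-!
# K-flat complexes on ringed sites, VII: symmetry of `Tot(- ⊗ -)` and tensoring
quasi-isomorphisms of K-flat complexes with arbitrary complexes (helper2)
-/

set_option autoImplicit false
universe u
open CategoryTheory Limits ModSite MonoidalCategory

namespace Groth.Agent.Lib.KFlatSite

variable {C : Type u} [SmallCategory C] {J : GrothendieckTopology C} (O : Sheaf J CommRingCat.{u})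

open Groth.Agent.Lib.ModSiteH8

lemma sigmaIso_hom_app (X Y : Mod O) :
    (sigmaIso O X).hom.app Y = (Lf O).map (β_ ((iF O).obj X) ((iF O).obj Y)).hom := by
  simp [sigmaIso, objIso, flipIso, BraidedCategory.tensorLeftIsoTensorRight]
  exact (Category.id_comp _).trans (Category.comp_id _)

/-- the symmetry of the tensor product as a natural isomorphism of bifunctors -/
noncomputable def sigmaNatIso : tensorBi O ≅ (tensorBi O).flip :=
  NatIso.ofComponents (fun X => sigmaIso O X) (by
    intro X X' f
    refine NatTrans.ext (funext fun Y => ?_)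
    change ((tensorBi O).map f).app Y ≫ (sigmaIso O X').hom.app Y =
      (sigmaIso O X).hom.app Y ≫ ((tensorBi O).obj Y).map f
    rw [sigmaIso_hom_app, sigmaIso_hom_app]
    change (Lf O).map ((iF O).map f ▷ (iF O).obj Y) ≫ _ =
      _ ≫ (Lf O).map ((iF O).obj Y ◁ (iF O).map f)
    rw [← Functor.map_comp, ← Functor.map_comp, BraidedCategory.braiding_naturality_left])

end Groth.Agent.Lib.KFlatSite

namespace Groth.Agent.Lib.KFlatSite

variable {C : Type u} [SmallCategory C] {J : GrothendieckTopology C} {O : Sheaf J CommRingCat.{u}}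

open Groth.Agent.Lib.ModSiteH8 Groth.Agent.Lib.BifCone

instance additive_tensorBi_flip : (tensorBi O).flip.Additive where
  map_add {X Y f g} := by
    refine NatTrans.ext (funext fun Z => ?_)
    exact ((tensorBi O).obj Z).map_add

/-- symmetry of the total tensor complex -/
noncomputable def tensorCxSymm (K L : CochainComplex (Mod O) ℤ) :
    HomologicalComplex.mapBifunctor K L (tensorBi O) (ComplexShape.up ℤ) ≅
      HomologicalComplex.mapBifunctor L K (tensorBi O) (ComplexShape.up ℤ) :=
  haveI : (tensorBi O).Additive := ModSite.additive_tensorBi O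
  Groth.Agent.Lib.BifNat.mapNatIso K L (sigmaNatIso O) ≪≫
    HomologicalComplex.mapBifunctorFlipIso L K (tensorBi O) (ComplexShape.up ℤ)

/-- a K-flat complex also preserves acyclicity when placed in the first variable -/
theorem acyclic_tensor_left_of_isKFlat (K : CochainComplex (Mod O) ℤ) (hK : ModSite.IsKFlat K)
    (L : CochainComplex (Mod O) ℤ) (hL : L.Acyclic) :
    (HomologicalComplex.mapBifunctor K L (tensorBi O) (ComplexShape.up ℤ)).Acyclic :=
  acyclic_of_iso (tensorCxSymm L K) ((isKFlat_iff K).1 hK L hL)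

/-- tensoring a quasi-isomorphism of K-flat complexes with any complex gives a quasi-isomorphism -/
theorem quasiIso_tensor_left_of_kflat (P Q : CochainComplex (Mod O) ℤ)
    (hP : ModSite.IsKFlat P) (hQ : ModSite.IsKFlat Q) (α : P ⟶ Q) [QuasiIso α]
    (F : CochainComplex (Mod O) ℤ) :
    QuasiIso (HomologicalComplex.mapBifunctorMap (𝟙 F) α (tensorBi O) (ComplexShape.up ℤ)) := by
  haveI : (tensorBi O).Additive := ModSite.additive_tensorBi O
  obtain ⟨K, r, hK, -, hr, -⟩ := exists_kflat_resolution F
  haveI := hr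
  haveI h1 : QuasiIso (HomologicalComplex.mapBifunctorMap r (𝟙 P) (tensorBi O) (ComplexShape.up ℤ)) :=
    quasiIso_mapBifunctorMap₁ (tensorBi O) P ((isKFlat_iff P).1 hP) r
  haveI h2 : QuasiIso (HomologicalComplex.mapBifunctorMap r (𝟙 Q) (tensorBi O) (ComplexShape.up ℤ)) :=
    quasiIso_mapBifunctorMap₁ (tensorBi O) Q ((isKFlat_iff Q).1 hQ) r
  haveI h3 : QuasiIso (HomologicalComplex.mapBifunctorMap (𝟙 K) α (tensorBi O) (ComplexShape.up ℤ)) :=
    quasiIso_mapBifunctorMap₂ (tensorBi O) K (acyclic_tensor_left_of_isKFlat K hK) α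
  have comm : HomologicalComplex.mapBifunctorMap r (𝟙 P) (tensorBi O) (ComplexShape.up ℤ) ≫
      HomologicalComplex.mapBifunctorMap (𝟙 F) α (tensorBi O) (ComplexShape.up ℤ) =
      HomologicalComplex.mapBifunctorMap (𝟙 K) α (tensorBi O) (ComplexShape.up ℤ) ≫
        HomologicalComplex.mapBifunctorMap r (𝟙 Q) (tensorBi O) (ComplexShape.up ℤ) :=
    (((tensorBi O).map₂CochainComplex.map r).naturality α).symm
  haveI : QuasiIso (HomologicalComplex.mapBifunctorMap r (𝟙 P) (tensorBi O) (ComplexShape.up ℤ) ≫
      HomologicalComplex.mapBifunctorMap (𝟙 F) α (tensorBi O) (ComplexShape.up ℤ)) := by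
    rw [comm]
    infer_instance
  exact quasiIso_of_comp_left
    (HomologicalComplex.mapBifunctorMap r (𝟙 P) (tensorBi O) (ComplexShape.up ℤ)) _

end Groth.Agent.Lib.KFlatSite
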