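import Groth.Agent.Lib.KFlatGen4_helper2
import Groth.Agent.Lib.KFlatSite5_helper2
import Groth.Agent.Lib.KFlatSite7_helper2

/-!
# K-flat complexes on ringed sites, VIII: the ringed site as an instance of the general theory;
the derived tensor product is computed by K-flat complexes (helper2)
-/

set_option autoImplicit false
universe w u
open CategoryTheory Limits ModSite

namespace Groth.Agent.Lib.KFlatSite

variable {C : Type u} [SmallCategory C] {J : GrothendieckTopology C} (O : Sheaf J CommRingCat.{u})

open Groth.Agent.Lib.ModSiteH8 Groth.Agent.Lib.ResSite Groth.Agent.Lib.KFlatGen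

/-- flat modules on a ringed site form a flat class for the tensor bifunctor -/
theorem flatClass : FlatClass (tensorBi O) (fun M : Mod O => ModSite.IsFlat M) where
  tensor_left S hS h3 G := shortExact_tensor_left G S hS h3
  preservesFiniteLimits _ h := h.1
  preservesFiniteColimits _ h := h.2
  of_iso e h := isFlat_of_iso O e h
  of_isZero M h := isFlat_of_isZero M h

/-- sums of free modules form a resolution class -/
theorem resClass : ResClass (fun M : Mod O => ModSite.IsFlat M) (IsFreeSum O) where
  flat _ h := isFlat_of_isFreeSum O h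
  cover := isFreeSum_cover O
  zero := isFreeSum_zero O
  of_iso e h := isFreeSum_of_iso O e h
  biprod hX hY := isFreeSum_biprod O hX hY
  flat_colim D hD c hc := by
    haveI := hasExactColimitsOfShape_filtered O ℕ
    exact isFlat_of_isColimit' D hD c hc
  flat_biprod {X Y} hX hY := by
    have hS := (ShortComplex.Splitting.ofHasBinaryBiproduct X Y).shortExact
    exact (isFlat_two_of_three O _ hS hY).1 hX

lemma isKFlat_iff_gen (E : CochainComplex (Mod O) ℤ) :
    ModSite.IsKFlat E ↔ KFlatGen.IsKFlat (tensorBi O) E := isKFlat_iff E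

/-- **the counit of any left derived functor of `- ⊗ M` is an isomorphism on K-flat complexes** -/
theorem isIso_counit_of_isKFlat [HasDerivedCategory.{w} (Mod O)] (M : Mod O)
    (T : Mod O ⥤ Mod O) [T.Additive] (e : T ≅ (tensorBi O).flip.obj M)
    (LF : DerivedCategory (Mod O) ⥤ DerivedCategory (Mod O))
    (α : DerivedCategory.Qh ⋙ LF ⟶
      T.mapHomotopyCategory (ComplexShape.up ℤ) ⋙ DerivedCategory.Qh)
    [LF.IsLeftDerivedFunctor α (HomotopyCategory.quasiIso (Mod O) (ComplexShape.up ℤ))]
    (X : CochainComplex (Mod O) ℤ) (hX : ModSite.IsKFlat X) :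
    IsIso (α.app ((HomotopyCategory.quotient (Mod O) (ComplexShape.up ℤ)).obj X)) := by
  haveI := hasExactColimitsOfShape_filtered O ℕ
  exact KFlatGen.isIso_counit_of_isKFlat (tensorBi O) (sigmaNatIso O) (flatClass O) (resClass O)
    M T e LF α X ((isKFlat_iff_gen O X).1 hX)

end Groth.Agent.Lib.KFlatSite
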