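import Groth.Agent.Lib.CyclesFlat_helper2
import Groth.Agent.Lib.KFlatSite8_helper2
import Groth.Agent.Lib.ModSite11_helper8

/-!
# K-flat complexes on ringed sites, XI: bounded above flat resolutions and truncations
-/

set_option autoImplicit false
universe u
open CategoryTheory Limits ModSite

namespace Groth.Agent.Lib.KFlatSite

variable {C : Type u} [SmallCategory C] {J : GrothendieckTopology C} (O : Sheaf J CommRingCat.{u})

open Groth.Agent.Lib.ModSiteH8 Groth.Agent.Lib.ResSite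

/-- a complex with no cohomology above `b` has a bounded above resolution by sums of free
modules -/
theorem exists_bounded_resolution (G : CochainComplex (Mod O) ℤ) (b : ℤ) [G.IsLE b] :
    ∃ (K : CochainComplex (Mod O) ℤ) (q : K ⟶ G) (b' : ℤ), K.IsStrictlyLE b' ∧
      (∀ i : ℤ, IsFreeSum O (K.X i)) ∧ QuasiIso q := by
  obtain ⟨Kc, π, -, hπ, hb, hfree, -, -⟩ := exists_system O G
  let n : ℕ := (b - 1).toNat
  obtain ⟨b', hb'⟩ := hb n
  haveI : G.IsLE ((n : ℤ) + 1) := G.isLE_of_le b _ (by omega)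
  haveI := (hπ n).1
  refine ⟨Kc.obj n, π n ≫ G.ιTruncLE ((n : ℤ) + 1), b', hb', hfree n, ?_⟩
  infer_instance

/-- terms of `τ_{≤ b} K` are flat, for `K` bounded above with flat terms and no cohomology
above `b` -/
theorem isFlat_truncLE (K : CochainComplex (Mod O) ℤ) (b' : ℤ) [K.IsStrictlyLE b']
    (hK : ∀ i : ℤ, ModSite.IsFlat (K.X i)) (b : ℤ) [K.IsLE b] :
    ∀ i : ℤ, ModSite.IsFlat ((K.truncLE b).X i) :=
  Groth.Agent.Lib.CyclesFlat.truncLE_mem (Fl := fun M : Mod O => ModSite.IsFlat M)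
    (fun Z hZ => isFlat_of_isZero Z hZ) (fun e h => isFlat_of_iso O e h)
    (fun S hS h2 h3 => (isFlat_two_of_three O S hS h3).2 h2) K b' hK b

/-- terms of `τ_{≥ a} K` are flat, for `K` with flat terms and `coker d^{a-1}` flat -/
theorem isFlat_truncGE (K : CochainComplex (Mod O) ℤ)
    (hK : ∀ i : ℤ, ModSite.IsFlat (K.X i)) (a : ℤ)
    (hC : ModSite.IsFlat (cokernel (K.d (a - 1) a))) :
    ∀ i : ℤ, ModSite.IsFlat ((K.truncGE a).X i) :=
  Groth.Agent.Lib.CyclesFlat.truncGE_mem (Fl := fun M : Mod O => ModSite.IsFlat M)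
    (fun Z hZ => isFlat_of_isZero Z hZ) (fun e h => isFlat_of_iso O e h) K hK a hC

/-- right unitor: `- ⊗ O ≅ id` -/
noncomputable def flipUnitIso : (tensorBi O).flip.obj (ModSite.unit O) ≅ 𝟭 (Mod O) :=
  (sigmaIso O (ModSite.unit O)).symm ≪≫ unitorObj O

end Groth.Agent.Lib.KFlatSite
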