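import Groth.Agent.Lib.DTorCmp2_helper2
import Groth.Agent.Lib.KFlatSite11_helper2

/-!
# Derived tensor product on a scheme, III: tor amplitude ⇒ flat amplitude (helper2)
-/

set_option autoImplicit false
universe u
open CategoryTheory Limits AlgebraicGeometry
attribute [local instance] HasDerivedCategory.standard

namespace Groth.Agent.Lib.DTorCmp

variable {X : Scheme.{u}}

section wrappers

theorem exists_kflat_resolution' (G : CochainComplex X.Modules ℤ) :
    ∃ (P : CochainComplex X.Modules ℤ) (q : P ⟶ G),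
      ModSite.IsKFlat (O := X.sheaf) P ∧ QuasiIso q := by
  obtain ⟨P, q, hP, -, hq, -⟩ :=
    Groth.Agent.Lib.KFlatSite.exists_kflat_resolution (O := X.sheaf) G
  exact ⟨P, q, hP, hq⟩

theorem exists_bounded_flat_resolution (G : CochainComplex X.Modules ℤ) (b : ℤ) [hG : G.IsLE b] :
    ∃ (K : CochainComplex X.Modules ℤ) (q : K ⟶ G) (b' : ℤ), K.IsStrictlyLE b' ∧
      (∀ i : ℤ, FlatMod.IsFlat (K.X i)) ∧ QuasiIso q := by
  obtain ⟨K, q, b', hb', hfree, hq⟩ :=
    @Groth.Agent.Lib.KFlatSite.exists_bounded_resolution _ _ _ X.sheaf G b hG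
  exact ⟨K, q, b', hb', fun i => Groth.Agent.Lib.StalkFlatSch.flatMod_of_isFlat _
    (Groth.Agent.Lib.ResSite.isFlat_of_isFreeSum X.sheaf (hfree i)), hq⟩

theorem flat_truncLE (K : CochainComplex X.Modules ℤ) (b' : ℤ) [hb' : K.IsStrictlyLE b']
    (hK : ∀ i : ℤ, FlatMod.IsFlat (K.X i)) (b : ℤ) [hb : K.IsLE b] :
    ∀ i : ℤ, FlatMod.IsFlat ((K.truncLE b).X i) := fun i =>
  Groth.Agent.Lib.StalkFlatSch.flatMod_of_isFlat _
    (@Groth.Agent.Lib.KFlatSite.isFlat_truncLE _ _ _ X.sheaf K b' hb'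
      (fun j => Groth.Agent.Lib.StalkFlatSch.isFlat_of_flatMod _ (hK j)) b hb i)

theorem flat_truncGE (K : CochainComplex X.Modules ℤ)
    (hK : ∀ i : ℤ, FlatMod.IsFlat (K.X i)) (a : ℤ)
    (hC : FlatMod.IsFlat (cokernel (K.d (a - 1) a))) :
    ∀ i : ℤ, FlatMod.IsFlat ((K.truncGE a).X i) := fun i =>
  Groth.Agent.Lib.StalkFlatSch.flatMod_of_isFlat _
    (Groth.Agent.Lib.KFlatSite.isFlat_truncGE X.sheaf K
      (fun j => Groth.Agent.Lib.StalkFlatSch.isFlat_of_flatMod _ (hK j)) a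
      (Groth.Agent.Lib.StalkFlatSch.isFlat_of_flatMod _ hC) i)

end wrappers

/-- the structure sheaf as an `O_X`-module -/
noncomputable def unitM (X : Scheme.{u}) : X.Modules := ModSite.unit X.sheaf

noncomputable def flipGUnitIso : flipG (unitM X) ≅ 𝟭 X.Modules :=
  Groth.Agent.Lib.KFlatSite.flipUnitIso X.sheaf

/-- `H^i(P ⊗^L O_X) ≅ H^i(P)` for K-flat `P` -/
noncomputable def hdUnitIso [DCoh.HasLTensorMod (unitM X)] (P : CochainComplex X.Modules ℤ)
    (hP : ModSite.IsKFlat (O := X.sheaf) P) (i : ℤ) :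
    DCoh.HD ((DCoh.LTensorMod (unitM X)).obj (DCoh.toD X P)) i ≅ P.homology i :=
  hdIso (unitM X) P hP i ≪≫
    (HomologicalComplex.homologyFunctor X.Modules (ComplexShape.up ℤ) i).mapIso
      ((NatIso.mapHomologicalComplex (eT' (unitM X) ≪≫ flipGUnitIso) (ComplexShape.up ℤ)).app P ≪≫
        (Functor.mapHomologicalComplexIdIso X.Modules (ComplexShape.up ℤ)).app P)

lemma exactAt_iff_of_quasiIso {𝒜 : Type*} [Category 𝒜] [Abelian 𝒜] {K L : CochainComplex 𝒜 ℤ}
    (f : K ⟶ L) [QuasiIso f] (i : ℤ) : K.ExactAt i ↔ L.ExactAt i := by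
  rw [HomologicalComplex.exactAt_iff_isZero_homology,
    HomologicalComplex.exactAt_iff_isZero_homology]
  exact ⟨fun h => IsZero.of_iso h (asIso (HomologicalComplex.homologyMap f i)).symm,
    fun h => IsZero.of_iso h (asIso (HomologicalComplex.homologyMap f i))⟩

/-- **tor amplitude in `[a, b]` implies flat amplitude in `[a, b]`** (given the derived tensor
products) -/
theorem flatAmp_of_torAmp (E : DCoh.D X) (a b : ℤ) (hab : a ≤ b)
    (hL : ∀ G : X.Modules, DCoh.HasLTensorMod G) (h : DCoh.HasTorAmplitudeIn a b E) :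
    DCoh.HasFlatAmplitudeIn a b E := by
  -- a representative
  let G₀ : CochainComplex X.Modules ℤ := DerivedCategory.Q.objPreimage E
  have e₀ : DCoh.toD X G₀ ≅ E := DerivedCategory.Q.objObjPreimageIso E
  -- cohomology vanishes outside `[a, b]`
  obtain ⟨P, q, hP, hq⟩ := exists_kflat_resolution' G₀
  haveI := hq
  haveI := hL (unitM X)
  have hvan : ∀ i : ℤ, (i < a ∨ b < i) → G₀.ExactAt i := by
    intro i hi
    have e₁ : DCoh.toD X P ≅ E := asIso (DerivedCategory.Q.map q) ≪≫ e₀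
    have hz : IsZero (DCoh.HD ((DCoh.LTensorMod (unitM X)).obj (DCoh.toD X P)) i) :=
      torAmp_of_iso e₁.symm h (unitM X) i hi
    have hz' : IsZero (P.homology i) := IsZero.of_iso hz (hdUnitIso P hP i).symm
    rw [← exactAt_iff_of_quasiIso q i, HomologicalComplex.exactAt_iff_isZero_homology]
    exact hz'
  haveI : G₀.IsLE b := by
    rw [CochainComplex.isLE_iff]
    exact fun i hi => hvan i (Or.inr hi)
  -- bounded above flat resolution
  obtain ⟨K, qK, b', hb', hKfl, hqK⟩ := exists_bounded_flat_resolution G₀ b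
  haveI := hb'
  haveI := hqK
  haveI : K.IsLE b := by
    rw [CochainComplex.isLE_iff]
    exact fun i hi => (exactAt_iff_of_quasiIso qK i).2 (hvan i (Or.inr hi))
  -- truncate above
  have hK₁fl := flat_truncLE K b' hKfl b
  have e₂ : DCoh.toD X (K.truncLE b) ≅ E :=
    asIso (DerivedCategory.Q.map (K.ιTruncLE b)) ≪≫ asIso (DerivedCategory.Q.map qK) ≪≫ e₀
  have hC : FlatMod.IsFlat (cokernel ((K.truncLE b).d (a - 1) a)) :=
    flat_cokernel_of_torAmp (K.truncLE b) b inferInstance hK₁fl hL a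
      (fun G _ => torAmp_of_iso e₂.symm h G (a - 1) (Or.inl (by omega)))
  haveI : (K.truncLE b).IsGE a := by
    rw [CochainComplex.isGE_iff]
    intro i hi
    rw [exactAt_iff_of_quasiIso (K.ιTruncLE b) i, exactAt_iff_of_quasiIso qK i]
    exact hvan i (Or.inl hi)
  -- truncate below
  have hK₂fl := flat_truncGE (K.truncLE b) hK₁fl a hC
  refine ⟨(K.truncLE b).truncGE a, ?_, hK₂fl,
    ⟨(asIso (DerivedCategory.Q.map ((K.truncLE b).πTruncGE a))).symm ≪≫ e₂⟩⟩
  exact fun i hi => Groth.Agent.Lib.CyclesFlat.truncGE_truncLE_isZero K a b i hi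

end Groth.Agent.Lib.DTorCmp
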