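import Mathlib
import Groth.Prelude.Def_DRing2
import Groth.Prelude.Def_DDual2
import Groth.Agent.Lib.DMod28_helper6

/-!
# Derived category toolkit (helper6), part 29: restriction of scalars of perfect complexes,
the case of an algebra, and the evaluation `R[X] → R` at `0`.
-/

set_option autoImplicit false
universe u
open CategoryTheory CategoryTheory.Limits Pretriangulated DerivedCategory ZeroObject
attribute [local instance] HasDerivedCategory.standard

namespace Groth.Agent.Lib.DMod_helper6

open DRing CochainComplex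

section

variable {A : Type u} [CommRing A]

/-- a retract in `D(A)` is a direct summand -/
lemma exists_biprod_of_retract {K X : Dual.D A} (i : K ⟶ X) (p : X ⟶ K) (hip : i ≫ p = 𝟙 K) :
    ∃ C : Dual.D A, Nonempty (X ≅ K ⊞ C) := by
  obtain ⟨C, g, δ, hT⟩ := distinguished_cocone_triangle i
  have hδ : δ = 0 := by
    have h1 : δ ≫ i⟦(1 : ℤ)⟧' = 0 := comp_distTriang_mor_zero₃₁ _ hT
    calc δ = δ ≫ (𝟙 K)⟦(1 : ℤ)⟧' := by rw [CategoryTheory.Functor.map_id, Category.comp_id]
      _ = δ ≫ (i ≫ p)⟦(1 : ℤ)⟧' := by rw [hip]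
      _ = 0 := by rw [Functor.map_comp, ← Category.assoc, h1, zero_comp]
  obtain ⟨e, _, _⟩ := exists_iso_binaryBiproduct_of_distTriang _ hT hδ
  exact ⟨C, ⟨e⟩⟩

lemma pcProp_inD_of_finite_free (F : ModuleCat.{u} A) (hF : Module.Finite A F)
    (hF' : Module.Free A F) : pcProp A (Dual.inD A F) := by
  obtain ⟨E, ⟨a, b, hab, hff⟩, ⟨e⟩⟩ := bfProp_single F hF hF'
  exact ⟨E, b, fun i hi => hab i (Or.inr hi), hff, ⟨e⟩⟩

end

variable {A B : Type u} [CommRing A] [CommRing B] (φ : A →+* B)

/-- objects of `D(B)` whose restriction to `A` is perfect -/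
def resPerf : ObjectProperty (Dual.D B) := (perfProp A).inverseImage (restrictD φ)

instance : (resPerf φ).IsClosedUnderIsomorphisms := by
  unfold resPerf; infer_instance

instance : (resPerf φ).IsTriangulated := by
  unfold resPerf; infer_instance

lemma resPerf_of_finite_projective (hB : resPerf φ (Dual.inD B B)) (N : ModuleCat.{u} B)
    (hN1 : Module.Finite B N) (hN2 : Module.Projective B N) : resPerf φ (Dual.inD B N) := by
  haveI := hN1
  obtain ⟨n, f, hf⟩ := Module.Finite.exists_fin' B N
  obtain ⟨s, hs⟩ := Module.projective_lifting_property f LinearMap.id hf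
  have hfree : resPerf φ (Dual.inD B (Fin n → B)) := prop_inD_fin (resPerf φ) hB n
  let i : Dual.inD B N ⟶ Dual.inD B (Fin n → B) :=
    (DerivedCategory.singleFunctor _ 0).map (ModuleCat.ofHom s)
  let p : Dual.inD B (Fin n → B) ⟶ Dual.inD B N :=
    (DerivedCategory.singleFunctor _ 0).map (ModuleCat.ofHom f)
  have hip : i ≫ p = 𝟙 _ := by
    rw [← Functor.map_comp, ← ModuleCat.ofHom_comp, hs]
    exact (DerivedCategory.singleFunctor _ 0).map_id _
  have hip' : (restrictD φ).map i ≫ (restrictD φ).map p = 𝟙 _ := by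
    rw [← Functor.map_comp, hip, CategoryTheory.Functor.map_id]
  obtain ⟨C, ⟨e⟩⟩ := exists_biprod_of_retract _ _ hip'
  exact (isPerfect_of_biprod _ C ((perfProp A).prop_of_iso e hfree)).1

/-- Restriction of scalars preserves perfect complexes when `B` is a perfect `A`-module. -/
theorem isPerfect_restrictD (hB : resPerf φ (Dual.inD B B)) (K : Dual.D B)
    (hK : IsPerfect B K) : IsPerfect A ((restrictD φ).obj K) := by
  obtain ⟨E, a, b, hab, hfp, ⟨e⟩⟩ := hK
  have : resPerf φ (toD E) := devissage_termwise' (resPerf φ) E a b hab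
    (fun i => resPerf_of_finite_projective φ hB (E.X i) (hfp i).1 (hfp i).2)
  exact (resPerf φ).prop_of_iso e this

section Alg

variable [Algebra A B]

/-- `B` as a `B`-module, restricted to `A`, is the `A`-module `B`. -/
noncomputable def restrictScalarsSelfEquiv :
    ((ModuleCat.restrictScalars (algebraMap A B)).obj (ModuleCat.of B B)) ≃ₗ[A] B :=
  { toFun := fun b => b
    invFun := fun b => b
    map_add' := fun _ _ => rfl
    map_smul' := fun a b => (Algebra.smul_def a (show B from b)).symm
    left_inv := fun _ => rfl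
    right_inv := fun _ => rfl }

/-- `B` as a `B`-module, restricted to `A`, is the `A`-module `B`. -/
noncomputable def restrictScalarsSelfIso :
    (ModuleCat.restrictScalars (algebraMap A B)).obj (ModuleCat.of B B) ≅ ModuleCat.of A B :=
  LinearEquiv.toModuleIso (restrictScalarsSelfEquiv (A := A) (B := B))

noncomputable def restrictDInDSelfIso :
    (restrictD (algebraMap A B)).obj (Dual.inD B B) ≅ Dual.inD A B :=
  restrictDInDIso (algebraMap A B) (ModuleCat.of B B) ≪≫
    (DerivedCategory.singleFunctor _ 0).mapIso restrictScalarsSelfIso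

end Alg

open Polynomial in
/-- `R`, as a module over `R[X]` via evaluation at `0`, is pseudo-coherent. -/
lemma resPC_evalZero (R : Type u) [CommRing R] :
    resPC (Polynomial.evalRingHom (0 : R)) (Dual.inD R R) := by
  letI inst : Module R[X] R := Module.compHom R (Polynomial.evalRingHom (0 : R))
  have hsmul : ∀ (q : R[X]) (r : R), q • r = q.eval 0 * r := fun q r => rfl
  let fl : R[X] →ₗ[R[X]] R[X] := LinearMap.mulLeft R[X] (X : R[X])
  let gl : R[X] →ₗ[R[X]] R :=
    { toFun := fun p => p.eval 0
      map_add' := fun p q => Polynomial.eval_add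
      map_smul' := fun q p => by
        rw [RingHom.id_apply, hsmul, smul_eq_mul, Polynomial.eval_mul] }
  have hfl : ∀ p : R[X], fl p = X * p := fun p => rfl
  have hgl : ∀ p : R[X], gl p = p.eval 0 := fun p => rfl
  let f : ModuleCat.of R[X] R[X] ⟶ ModuleCat.of R[X] R[X] := ModuleCat.ofHom fl
  let g : ModuleCat.of R[X] R[X] ⟶ ModuleCat.of R[X] R := ModuleCat.ofHom gl
  have w : f ≫ g = 0 := by
    apply ModuleCat.hom_ext
    apply LinearMap.ext
    intro p
    show gl (fl p) = 0
    rw [hfl, hgl, Polynomial.eval_mul, Polynomial.eval_X, zero_mul]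
  have hS : (ShortComplex.mk f g w).ShortExact := by
    refine ShortComplex.ShortExact.mk' ?_ ?_ ?_
    · rw [ShortComplex.moduleCat_exact_iff]
      intro p hp
      have hp' : gl p = 0 := hp
      rw [hgl, ← Polynomial.coeff_zero_eq_eval_zero, ← Polynomial.X_dvd_iff] at hp'
      obtain ⟨q, hq⟩ := hp'
      exact ⟨q, hq.symm⟩
    · refine (ModuleCat.mono_iff_injective _).2 (fun p q hpq => ?_)
      have hpq' : fl p = fl q := hpq
      rw [hfl, hfl] at hpq'
      exact (Polynomial.isRegular_X (R := R)).left hpq'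
    · refine (ModuleCat.epi_iff_surjective _).2 (fun r => ⟨Polynomial.C r, ?_⟩)
      show gl (Polynomial.C r) = r
      rw [hgl, Polynomial.eval_C]
  have h1 : pcProp R[X] (Dual.inD R[X] R[X]) :=
    pcProp_inD_of_finite_free (ModuleCat.of R[X] R[X]) (inferInstanceAs (Module.Finite R[X] R[X]))
      (inferInstanceAs (Module.Free R[X] R[X]))
  have h3 := (pcProp R[X]).ext_of_isTriangulatedClosed₃ _ hS.singleTriangle_distinguished h1 h1
  exact (pcProp R[X]).prop_of_iso
    (restrictDInDIso (Polynomial.evalRingHom (0 : R)) (ModuleCat.of R R)).symm h3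

end Groth.Agent.Lib.DMod_helper6
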