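import Mathlib
import Groth.Prelude.Def_DRing2
import Groth.Prelude.Def_DDual2
import Groth.Agent.Lib.DMod50_helper6

/-!
# Derived category toolkit (helper6), part 51: tor amplitude under restriction of scalars along
an algebra of finite tor dimension.
-/

set_option autoImplicit false
universe u
open CategoryTheory CategoryTheory.Limits Pretriangulated DerivedCategory ZeroObject
open scoped TensorProduct
attribute [local instance] HasDerivedCategory.standard

namespace Groth.Agent.Lib.DMod_helper6

open DRing CochainComplex

variable {A : Type u} [CommRing A]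

/-- `Tor` via a projective resolution of the second variable, elementwise -/
lemma subsingleton_tor_succ_iff_lTensor (M N : Type u) [AddCommGroup M] [Module A M]
    [AddCommGroup N] [Module A N] (p : ℕ) :
    Subsingleton (DRing.Tor A (p + 1) M N) ↔
      Function.Exact
        (((ProjectiveResolution.of (ModuleCat.of A N)).complex.d (p + 2) (p + 1)).hom.lTensor M)
        (((ProjectiveResolution.of (ModuleCat.of A N)).complex.d (p + 1) p).hom.lTensor M) := by
  let Qr := ProjectiveResolution.of (ModuleCat.of A N)
  have e := Qr.isoLeftDerivedObj (MonoidalCategory.tensorLeft (ModuleCat.of A M)) (p + 1)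
  have hiff := chain_exactAt_iff
    (((MonoidalCategory.tensorLeft (ModuleCat.of A M)).mapHomologicalComplex
      (ComplexShape.down ℕ)).obj Qr.complex) p
  constructor
  · intro h
    haveI : Subsingleton ↑(((MonoidalCategory.tensorLeft (ModuleCat.of A M)).leftDerived
        (p + 1)).obj (ModuleCat.of A N)) := h
    have hz : IsZero ((((MonoidalCategory.tensorLeft (ModuleCat.of A M)).mapHomologicalComplex
        (ComplexShape.down ℕ)).obj Qr.complex).homology (p + 1)) :=
      IsZero.of_iso (ModuleCat.isZero_of_subsingleton _) e.symm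
    exact hiff.1 ((HomologicalComplex.exactAt_iff_isZero_homology _ _).2 hz)
  · intro h
    have h1 := hiff.2 h
    rw [HomologicalComplex.exactAt_iff_isZero_homology] at h1
    exact ModuleCat.subsingleton_of_isZero (IsZero.of_iso h1 e)

section Algebra

variable {B : Type u} [CommRing B] [Algebra A B]

lemma cancelBaseChange_comm (X : Type u) [AddCommGroup X] [Module A X] [Module B X]
    [IsScalarTower A B X] {Q₂ Q₁ : Type u} [AddCommGroup Q₂] [AddCommGroup Q₁] [Module A Q₂]
    [Module A Q₁] (u : Q₂ →ₗ[A] Q₁) (z : X ⊗[B] (B ⊗[A] Q₂)) :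
    TensorProduct.AlgebraTensorModule.cancelBaseChange A B B X Q₁
        (((u.baseChange B).lTensor X) z) =
      (u.lTensor X) (TensorProduct.AlgebraTensorModule.cancelBaseChange A B B X Q₂ z) := by
  induction z using TensorProduct.induction_on with
  | zero => simp
  | add z w hz hw => simp only [map_add, hz, hw]
  | tmul x y =>
    induction y using TensorProduct.induction_on with
    | zero => simp
    | add y w hy hw => simp only [TensorProduct.tmul_add, map_add, hy, hw]
    | tmul b q => simp

lemma exact_lTensor_of_flat_algebra (X : Type u) [AddCommGroup X] [Module A X] [Module B X]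
    [IsScalarTower A B X] [Module.Flat B X] {Q₂ Q₁ Q₀ : Type u} [AddCommGroup Q₂]
    [AddCommGroup Q₁] [AddCommGroup Q₀] [Module A Q₂] [Module A Q₁] [Module A Q₀]
    (u : Q₂ →ₗ[A] Q₁) (v : Q₁ →ₗ[A] Q₀)
    (h : Function.Exact (u.lTensor B) (v.lTensor B)) :
    Function.Exact (u.lTensor X) (v.lTensor X) := by
  have hUV : Function.Exact (u.baseChange B) (v.baseChange B) := h
  have hF := Module.Flat.lTensor_exact X hUV
  exact (function_exact_iff_of_equiv
    (TensorProduct.AlgebraTensorModule.cancelBaseChange A B B X Q₂).toEquiv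
    (TensorProduct.AlgebraTensorModule.cancelBaseChange A B B X Q₁).toEquiv
    (TensorProduct.AlgebraTensorModule.cancelBaseChange A B B X Q₀).toEquiv
    (map_zero (TensorProduct.AlgebraTensorModule.cancelBaseChange A B B X Q₀)) _ _ _ _
    (cancelBaseChange_comm X u) (cancelBaseChange_comm X v)).1 hF

/-- a flat module over an algebra of tor dimension `≤ d` has tor dimension `≤ d` -/
theorem hasTorDimLE_of_flat_algebra (d : ℕ) (hB : HasTorDimLE A d B)
    (X : Type u) [AddCommGroup X] [Module A X] [Module B X] [IsScalarTower A B X]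
    [Module.Flat B X] : HasTorDimLE A d X := by
  intro N _ _ p hp
  obtain ⟨q, rfl⟩ : ∃ q, p = q + 1 := ⟨p - 1, by omega⟩
  rw [subsingleton_tor_succ_iff_lTensor]
  exact exact_lTensor_of_flat_algebra X _ _
    ((subsingleton_tor_succ_iff_lTensor B N q).1 (hB N (q + 1) hp))

/-- S6947 -/
theorem hasTorAmplitudeIn_restrictD_of_torDim (d : ℕ)
    (hB : HasTorAmplitudeIn A (-(d : ℤ)) 0 (Dual.inD A B)) (K : Dual.D B) (a b : ℤ)
    (hK : HasTorAmplitudeIn B a b K) :
    HasTorAmplitudeIn A (a - d) b ((restrictD (algebraMap A B)).obj K) := by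
  obtain ⟨F, hF, hFf, ⟨e⟩⟩ := hK
  have hB' : HasTorDimLE A d B := (hasTorDimLE_iff B d).2 hB
  have eR : (restrictD (algebraMap A B)).obj K ≅ toD ((restrictCx (algebraMap A B)).obj F) :=
    (restrictD (algebraMap A B)).mapIso e.symm ≪≫
      (ModuleCat.restrictScalars (algebraMap A B)).mapDerivedCategoryFactors.app F
  refine hasTorAmplitudeIn_of_iso eR.symm _ _ ?_
  have key := (torFam A (a - d) b).devissage_termwise 0 (b - a + 1).toNat a
    ((restrictCx (algebraMap A B)).obj F) ?_ ?_
  · simpa [torFam] using key
  · intro i hi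
    exact (ModuleCat.restrictScalars (algebraMap A B)).map_isZero (hF i (by omega))
  · intro i
    show HasTorAmplitudeIn A (a - d + (0 - i)) (b + (0 - i)) _
    by_cases hi : a ≤ i ∧ i ≤ b
    · letI : Module A (F.X i) := Module.compHom (F.X i) (algebraMap A B)
      haveI : IsScalarTower A B (F.X i) := IsScalarTower.of_algebraMap_smul (fun r x => rfl)
      haveI := hFf i
      have h1 : HasTorDimLE A d (F.X i) := hasTorDimLE_of_flat_algebra d hB' (F.X i)
      have h2 := (hasTorDimLE_iff (F.X i) d).1 h1
      exact hasTorAmplitudeIn_mono _ _ _ _ _ (by omega) (by omega) h2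
    · exact hasTorAmplitudeIn_of_isZero _
        ((DerivedCategory.singleFunctor _ 0).map_isZero
          ((ModuleCat.restrictScalars (algebraMap A B)).map_isZero (hF i (by omega)))) _ _

end Algebra

end Groth.Agent.Lib.DMod_helper6
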