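import Mathlib
import Groth.Prelude
import Groth.Agent.Lib.DMod51_helper6
import Groth.Agent.Lib.DMod29_helper6
import Groth.Agent.Lib.CycLen2_helper8

/-!
# Tor amplitude relative to a composite morphism (stalkwise) (lead)
-/

set_option autoImplicit false
set_option linter.all false
set_option maxHeartbeats 1600000
set_option backward.isDefEq.respectTransparency false
set_option backward.isDefEq.respectTransparency.types false
set_option backward.defeqAttrib.useBackward true

universe u
open CategoryTheory CategoryTheory.Limits AlgebraicGeometry Opposite TopologicalSpace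
attribute [local instance] HasDerivedCategory.standard

namespace Groth.Agent.Lib.TorAmpCompL

open DRing DerSch Groth.Agent.Lib.DMod_helper6

noncomputable section

variable {X Y Z : Scheme.{u}}

/-- the algebra structure on the local ring of the source over that of the target -/
@[reducible] def stalkAlgebra (g : Y ⟶ Z) (y : Y) :
    Algebra (Z.presheaf.stalk (g.base y)) (Y.presheaf.stalk y) := (g.stalkMap y).hom.toAlgebra

/-- the stalk of the structure module, over the base local ring, is the local ring -/
def unitModIso (g : Y ⟶ Z) (y : Y) :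
    letI := stalkAlgebra g y
    (stalkOver g y).obj (Coh.structureModule Y) ≅
      ModuleCat.of (Z.presheaf.stalk (g.base y)) (Y.presheaf.stalk y) :=
  letI := stalkAlgebra g y
  (ModuleCat.restrictScalars (g.stalkMap y).hom).mapIso
      (CycLenH8.stalkStructureEquiv y).symm.toModuleIso ≪≫
    restrictScalarsSelfIso (A := Z.presheaf.stalk (g.base y)) (B := Y.presheaf.stalk y)

def unitIso (g : Y ⟶ Z) (y : Y) :
    letI := stalkAlgebra g y
    toD ((stalkCxOver g y).obj (unitCx Y)) ≅
      Dual.inD (Z.presheaf.stalk (g.base y)) (Y.presheaf.stalk y) :=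
  letI := stalkAlgebra g y
  let e1 : toD ((stalkCxOver g y).obj (unitCx Y)) ≅
      toD ((HomologicalComplex.single _ (ComplexShape.up ℤ) 0).obj
        ((stalkOver g y).obj (Coh.structureModule Y))) :=
    DerivedCategory.Q.mapIso
      ((HomologicalComplex.singleMapHomologicalComplex (stalkOver g y) (ComplexShape.up ℤ) 0).app
        (Coh.structureModule Y))
  let e2 : toD ((HomologicalComplex.single _ (ComplexShape.up ℤ) 0).obj
        ((stalkOver g y).obj (Coh.structureModule Y))) ≅
      (DerivedCategory.singleFunctor (ModuleCat.{u} (Z.presheaf.stalk (g.base y))) 0).obj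
        ((stalkOver g y).obj (Coh.structureModule Y)) :=
    ((DerivedCategory.singleFunctorIsoCompQ (ModuleCat.{u} (Z.presheaf.stalk (g.base y))) 0).app
      ((stalkOver g y).obj (Coh.structureModule Y))).symm
  e1 ≪≫ e2 ≪≫ (DerivedCategory.singleFunctor _ 0).mapIso (unitModIso g y)

/-- an isomorphism of modules from a linear equivalence of the underlying modules -/
def isoOfLinearEquiv' {R : Type u} [Ring R] {N1 N2 : ModuleCat.{u} R} (e : N1 ≃ₗ[R] N2) :
    N1 ≅ N2 := e.toModuleIso

lemma stalkMap_comp_apply (f : X ⟶ Y) (g : Y ⟶ Z) (x : X)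
    (r : Z.presheaf.stalk (g.base (f.base x))) :
    ((f ≫ g).stalkMap x).hom r = (f.stalkMap x).hom ((g.stalkMap (f.base x)).hom r) := by
  rw [Scheme.Hom.stalkMap_comp]
  rfl

/-- the stalk over the composite is the restriction of the stalk over the first map -/
def compModIso (f : X ⟶ Y) (g : Y ⟶ Z) (x : X) (M : X.Modules) :
    (ModuleCat.restrictScalars (g.stalkMap (f.base x)).hom).obj ((stalkOver f x).obj M) ≅
      (stalkOver (f ≫ g) x).obj M :=
  isoOfLinearEquiv'
    (N1 := (ModuleCat.restrictScalars (g.stalkMap (f.base x)).hom).obj ((stalkOver f x).obj M))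
    (N2 := (stalkOver (f ≫ g) x).obj M)
    { toFun := fun m => m
      invFun := fun m => m
      map_add' := fun _ _ => rfl
      map_smul' := fun r m => by
        change (f.stalkMap x).hom ((g.stalkMap (f.base x)).hom r) •
            (show M.presheaf.stalk x from m) =
          ((f ≫ g).stalkMap x).hom r • (show M.presheaf.stalk x from m)
        rw [stalkMap_comp_apply]
      left_inv := fun _ => rfl
      right_inv := fun _ => rfl }

def compCxIso (f : X ⟶ Y) (g : Y ⟶ Z) (x : X) (F : CochainComplex X.Modules ℤ) :
    (restrictCx (g.stalkMap (f.base x)).hom).obj ((stalkCxOver f x).obj F) ≅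
      (stalkCxOver (f ≫ g) x).obj F :=
  HomologicalComplex.Hom.isoOfComponents (fun i => compModIso f g x (F.X i)) (by
    intro i j _
    apply ModuleCat.hom_ext
    apply LinearMap.ext
    intro m
    rfl)

def compIso (f : X ⟶ Y) (g : Y ⟶ Z) (x : X) (F : CochainComplex X.Modules ℤ) :
    (restrictD (g.stalkMap (f.base x)).hom).obj (toD ((stalkCxOver f x).obj F)) ≅
      toD ((stalkCxOver (f ≫ g) x).obj F) :=
  (ModuleCat.restrictScalars.{u} (g.stalkMap (f.base x)).hom).mapDerivedCategoryFactors.app
      ((stalkCxOver f x).obj F) ≪≫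
    DerivedCategory.Q.mapIso (compCxIso f g x F)

theorem hasTorAmplitudeAt_comp (f : X ⟶ Y) (g : Y ⟶ Z) (n : ℕ) (x : X)
    (hg : HasTorAmplitudeAt g (-(n : ℤ)) 0 (unitCx Y) (f.base x))
    (F : CochainComplex X.Modules ℤ) (a b : ℤ) (hF : HasTorAmplitudeAt f a b F x) :
    HasTorAmplitudeAt (f ≫ g) (a - n) b F x := by
  letI := stalkAlgebra g (f.base x)
  have hB : HasTorAmplitudeIn (Z.presheaf.stalk (g.base (f.base x))) (-(n : ℤ)) 0
      (Dual.inD (Z.presheaf.stalk (g.base (f.base x))) (Y.presheaf.stalk (f.base x))) :=
    hasTorAmplitudeIn_of_iso (unitIso g (f.base x)) _ _ hg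
  have key := hasTorAmplitudeIn_restrictD_of_torDim n hB _ a b hF
  exact hasTorAmplitudeIn_of_iso (compIso f g x F) _ _ key

end

end Groth.Agent.Lib.TorAmpCompL
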