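import Mathlib
import Groth.Prelude
import Groth.Agent.Lib.TorAmpComp_lead
import Groth.Agent.Lib.DMod6_helper6

/-!
# Exactness of the stalk functor on `O_X`-modules; tor amplitude relative to a flat morphism
of a complex whose direct image along a closed immersion has flat amplitude (lead)
-/

set_option autoImplicit false
set_option linter.all false
set_option maxHeartbeats 1600000
set_option backward.isDefEq.respectTransparency false
set_option backward.isDefEq.respectTransparency.types false
set_option backward.defeqAttrib.useBackward true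

universe u
open CategoryTheory CategoryTheory.Limits AlgebraicGeometry Opposite TopologicalSpace
attribute [local instance] HasDerivedCategory.standard

namespace Groth.Agent.Lib.TorAmpPushL

open DRing DerSch Groth.Agent.Lib.DMod_helper6 Groth.Agent.Lib.TorAmpCompL

noncomputable section

variable {X X' Y : Scheme.{u}}

/-! ### the stalk functor is exact -/

lemma stalkFunctor_map_shortExact (x : X) (S : ShortComplex X.Modules) (hS : S.ShortExact) :
    (S.map (stalkFunctor X x)).ShortExact :=
  ModuleCat.shortComplex_shortExact _ (CycLenH8.stalk_exact S hS x)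
    (CycLenH8.stalk_injective S hS x) (CycLenH8.stalk_surjective S hS x)

instance preservesFiniteLimits_stalkFunctor (x : X) :
    PreservesFiniteLimits (stalkFunctor X x) := by
  have := ((Functor.exact_tfae (stalkFunctor X x)).out 0 3).mp (stalkFunctor_map_shortExact x)
  exact this.1

instance preservesFiniteColimits_stalkFunctor (x : X) :
    PreservesFiniteColimits (stalkFunctor X x) := by
  have := ((Functor.exact_tfae (stalkFunctor X x)).out 0 3).mp (stalkFunctor_map_shortExact x)
  exact this.2

/-- an isomorphism in `D(O_X)` induces an isomorphism between the complexes of stalks, in the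
derived category of the local ring of the base -/
def stalkDIso (f : X ⟶ Y) (x : X) {E G : CochainComplex X.Modules ℤ}
    (e : DCoh.toD X E ≅ DCoh.toD X G) :
    toD ((stalkCxOver f x).obj E) ≅ toD ((stalkCxOver f x).obj G) :=
  ((stalkOver f x).mapDerivedCategoryFactors.app E).symm ≪≫
    (stalkOver f x).mapDerivedCategory.mapIso e ≪≫
    (stalkOver f x).mapDerivedCategoryFactors.app G

/-! ### flatness -/

lemma flat_stalkOver (f : X ⟶ Y) [Flat f] (x : X) (M : X.Modules) (hM : FlatMod.IsFlat M) :
    Module.Flat (Y.presheaf.stalk (f.base x)) ((stalkOver f x).obj M) := by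
  letI := stalkAlgebra f x
  haveI : Module.Flat (Y.presheaf.stalk (f.base x)) (X.presheaf.stalk x) :=
    (AlgebraicGeometry.Flat.iff_flat_stalkMap (f := f)).1 inferInstance x
  exact flat_restrictScalars (R := Y.presheaf.stalk (f.base x)) (A := X.presheaf.stalk x)
    ((stalkFunctor X x).obj M) (hM x)

/-! ### stalks of a direct image along a closed immersion -/

lemma pushStalkHom_natural (i : X ⟶ X') {M N : X.Modules} (φ : M ⟶ N) (x : X)
    (m : ((Scheme.Modules.pushforward i).obj M).presheaf.stalk (i.base x)) :
    CycLenH8.pushStalkHom i N x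
        ((stalkFunctor X' (i.base x)).map ((Scheme.Modules.pushforward i).map φ) m) =
      (stalkFunctor X x).map φ (CycLenH8.pushStalkHom i M x m) := by
  obtain ⟨U, hU, s, rfl⟩ := TopCat.Presheaf.exists_germ_eq
    (F := ((Scheme.Modules.pushforward i).obj M).presheaf) m
  have h1 := DerSch.stalkFunctor_map_germ (i.base x) ((Scheme.Modules.pushforward i).map φ) U hU s
  have h2 := CycLenH8.pushStalkHom_germ i N x U hU
    (((Scheme.Modules.pushforward i).map φ).app U s)
  have h3 := CycLenH8.pushStalkHom_germ i M x U hU s
  have h4 := DerSch.stalkFunctor_map_germ x φ (i ⁻¹ᵁ U) hU (show Γ(M, i ⁻¹ᵁ U) from s)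
  refine ((congrArg (fun t => CycLenH8.pushStalkHom i N x t) h1).trans h2).trans ?_
  refine Eq.trans ?_ ((congrArg (fun t => (stalkFunctor X x).map φ t) h3).trans h4).symm
  rfl

/-- an isomorphism of modules from a bijective linear map of the underlying modules -/
def isoOfBijective' {R : Type u} [Ring R] (N1 N2 : ModuleCat.{u} R) (l : N1 →ₗ[R] N2)
    (h : Function.Bijective l) : N1 ≅ N2 := (LinearEquiv.ofBijective l h).toModuleIso

def pushModIso (i : X ⟶ X') [IsClosedImmersion i] (f' : X' ⟶ Y) (x : X) (M : X.Modules) :
    (stalkOver f' (i.base x)).obj ((Scheme.Modules.pushforward i).obj M) ≅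
      (stalkOver (i ≫ f') x).obj M :=
  isoOfBijective'
    ((stalkOver f' (i.base x)).obj ((Scheme.Modules.pushforward i).obj M))
    ((stalkOver (i ≫ f') x).obj M)
      { toFun := fun m => CycLenH8.pushStalkHom i M x m
        map_add' := fun m₁ m₂ => (CycLenH8.pushStalkHom i M x).hom.map_add m₁ m₂
        map_smul' := fun r m => by
          change CycLenH8.pushStalkHom i M x ((f'.stalkMap (i.base x)).hom r •
              (show ((Scheme.Modules.pushforward i).obj M).presheaf.stalk (i.base x) from m)) =
            ((i ≫ f').stalkMap x).hom r • CycLenH8.pushStalkHom i M x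
              (show ((Scheme.Modules.pushforward i).obj M).presheaf.stalk (i.base x) from m)
          rw [CycLenH8.pushStalkHom_smul, stalkMap_comp_apply] }
      (CycLenH8.pushStalkHom_bijective i M i.isEmbedding.isInducing x)

lemma pushModIso_natural (i : X ⟶ X') [IsClosedImmersion i] (f' : X' ⟶ Y) (x : X)
    {M N : X.Modules} (φ : M ⟶ N) :
    (pushModIso i f' x M).hom ≫ (stalkOver (i ≫ f') x).map φ =
      (stalkOver f' (i.base x)).map ((Scheme.Modules.pushforward i).map φ) ≫
        (pushModIso i f' x N).hom := by
  apply ModuleCat.hom_ext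
  apply LinearMap.ext
  intro m
  exact (pushStalkHom_natural i φ x m).symm

def pushCxIso (i : X ⟶ X') [IsClosedImmersion i] (f' : X' ⟶ Y) (x : X)
    (F : CochainComplex X.Modules ℤ) :
    (stalkCxOver f' (i.base x)).obj
        (((Scheme.Modules.pushforward i).mapHomologicalComplex (ComplexShape.up ℤ)).obj F) ≅
      (stalkCxOver (i ≫ f') x).obj F :=
  HomologicalComplex.Hom.isoOfComponents (fun j => pushModIso i f' x (F.X j)) (by
    intro j k _
    exact pushModIso_natural i f' x (F.d j k))

/-- S6191 -/
theorem hasTorAmplitude_of_push (i : X ⟶ X') [IsClosedImmersion i] (f' : X' ⟶ Y) [Flat f']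
    (F : CochainComplex X.Modules ℤ) (a b : ℤ)
    (hF : DCoh.HasFlatAmplitudeIn a b (DCoh.toD X'
      (((Scheme.Modules.pushforward i).mapHomologicalComplex (ComplexShape.up ℤ)).obj F))) :
    HasTorAmplitude (i ≫ f') a b F := by
  obtain ⟨E, hE, hEf, ⟨e⟩⟩ := hF
  intro x
  show ∃ E' : Cx (Y.presheaf.stalk ((i ≫ f').base x)), VanishesOutside E' a b ∧
    TermwiseFlat E' ∧ Nonempty (toD E' ≅ toD ((stalkCxOver (i ≫ f') x).obj F))
  refine ⟨(stalkCxOver f' (i.base x)).obj E, ?_, ?_,
    ⟨stalkDIso f' (i.base x) e ≪≫ DerivedCategory.Q.mapIso (pushCxIso i f' x F)⟩⟩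
  · intro j hj
    exact (stalkOver f' (i.base x)).map_isZero (hE j hj)
  · intro j
    exact flat_stalkOver f' (i.base x) (E.X j) (hEf j)

end

end Groth.Agent.Lib.TorAmpPushL
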