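import Mathlib
import Groth.Prelude
import Groth.Agent.Lib.TorAmpPush_lead
import Groth.Agent.Lib.DTorCmp3_helper2
import Groth.Agent.Lib.DMod41_helper6
import Groth.Agent.Lib.DMod42_helper6
import Groth.Agent.Lib.CohDev3_helper8

/-!
# Flat amplitude on a scheme is stalkwise tor amplitude (lead)
-/

set_option autoImplicit false
set_option linter.all false
set_option maxHeartbeats 1600000
set_option backward.isDefEq.respectTransparency false
set_option backward.isDefEq.respectTransparency.types false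
set_option backward.defeqAttrib.useBackward true

universe u
open CategoryTheory CategoryTheory.Limits AlgebraicGeometry Opposite TopologicalSpace
attribute [local instance] HasDerivedCategory.standard

namespace Groth.Agent.Lib.TorAmpIdL

open DRing DerSch Groth.Agent.Lib.DMod_helper6 Groth.Agent.Lib.TorAmpCompL
  Groth.Agent.Lib.TorAmpPushL

noncomputable section

variable {X : Scheme.{u}}

/-- the complex of stalks, over the local ring -/
abbrev stalkCx (x : X) : CochainComplex X.Modules ℤ ⥤ Cx (X.presheaf.stalk x) :=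
  (stalkFunctor X x).mapHomologicalComplex (ComplexShape.up ℤ)

def stalkDIso0 (x : X) {E G : CochainComplex X.Modules ℤ}
    (e : DCoh.toD X E ≅ DCoh.toD X G) :
    toD ((stalkCx x).obj E) ≅ toD ((stalkCx x).obj G) :=
  ((stalkFunctor X x).mapDerivedCategoryFactors.app E).symm ≪≫
    (stalkFunctor X x).mapDerivedCategory.mapIso e ≪≫
    (stalkFunctor X x).mapDerivedCategoryFactors.app G

/-! ### the identity morphism -/

lemma stalkMap_id_apply (x : X) (r : X.presheaf.stalk x) :
    ((𝟙 X : X ⟶ X).stalkMap x).hom r = r := by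
  rw [Scheme.Hom.stalkMap_id]
  rfl

def idModIso (x : X) (M : X.Modules) :
    (stalkOver (𝟙 X) x).obj M ≅ (stalkFunctor X x).obj M :=
  isoOfLinearEquiv' (N1 := (stalkOver (𝟙 X) x).obj M) (N2 := (stalkFunctor X x).obj M)
    { toFun := fun m => m
      invFun := fun m => m
      map_add' := fun _ _ => rfl
      map_smul' := fun r m => by
        change ((𝟙 X : X ⟶ X).stalkMap x).hom r • (show M.presheaf.stalk x from m) =
          (show X.presheaf.stalk x from r) • (show M.presheaf.stalk x from m)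
        rw [stalkMap_id_apply]
      left_inv := fun _ => rfl
      right_inv := fun _ => rfl }

def idCxIso (x : X) (F : CochainComplex X.Modules ℤ) :
    (stalkCxOver (𝟙 X) x).obj F ≅ (stalkCx x).obj F :=
  HomologicalComplex.Hom.isoOfComponents (fun i => idModIso x (F.X i)) (by
    intro i j _
    apply ModuleCat.hom_ext
    apply LinearMap.ext
    intro m
    rfl)

lemma hasTorAmplitudeIn_stalkCx_of_id (F : CochainComplex X.Modules ℤ) (a b : ℤ) (x : X)
    (h : HasTorAmplitudeAt (𝟙 X) a b F x) :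
    HasTorAmplitudeIn (X.presheaf.stalk x) a b (toD ((stalkCx x).obj F)) :=
  hasTorAmplitudeIn_of_iso (DerivedCategory.Q.mapIso (idCxIso x F)) a b h

/-! ### exactness is stalkwise -/

lemma exactAt_of_forall_stalk (F : CochainComplex X.Modules ℤ) (i : ℤ)
    (h : ∀ x : X, ((stalkCx x).obj F).ExactAt i) : F.ExactAt i := by
  rw [HomologicalComplex.exactAt_iff_isZero_homology]
  apply CohDevH8.isZero_of_support_eq_empty
  ext x
  simp only [Set.mem_empty_iff_false, iff_false]
  intro hx
  apply hx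
  have h1 := h x
  rw [HomologicalComplex.exactAt_iff_isZero_homology] at h1
  have e : ((stalkCx x).obj F).homology i ≅ (stalkFunctor X x).obj (F.homology i) :=
    (F.sc i).mapHomologyIso (stalkFunctor X x)
  exact ModuleCat.subsingleton_of_isZero (IsZero.of_iso h1 e.symm)

/-! ### flatness of the cokernel -/

lemma flat_cokernel_of_stalkwise (K : CochainComplex X.Modules ℤ) (b' : ℤ) [K.IsStrictlyLE b']
    (hK : ∀ i : ℤ, FlatMod.IsFlat (K.X i)) (a b : ℤ)
    (H : ∀ x : X, HasTorAmplitudeIn (X.presheaf.stalk x) a b (toD ((stalkCx x).obj K))) :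
    FlatMod.IsFlat (cokernel (K.d (a - 1) a)) := by
  intro x
  show Module.Flat (X.presheaf.stalk x) ((cokernel (K.d (a - 1) a)).presheaf.stalk x)
  have hb : VanishesAbove ((stalkCx x).obj K) b' := fun i hi =>
    (stalkFunctor X x).map_isZero (K.isZero_of_isStrictlyLE b' i hi)
  have hflat : TermwiseFlat ((stalkCx x).obj K) := fun i => hK i x
  have hTN : ∀ N : ModuleCat.{u} (X.presheaf.stalk x),
      ((TN N).obj ((stalkCx x).obj K)).ExactAt (a - 1) := fun N =>
    exactAt_TN_of_hasTorAmplitudeIn ((stalkCx x).obj K) b' hb hflat a b (H x) N (a - 1) (by omega)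
  haveI hfl : Module.Flat (X.presheaf.stalk x)
      (((stalkCx x).obj K).X a ⧸ LinearMap.range (((stalkCx x).obj K).d (a - 1) a).hom) :=
    flat_coker_of_TN_exact ((stalkCx x).obj K) (a - 1) a (by omega) (hflat a) hTN
  let e : (stalkFunctor X x).obj (cokernel (K.d (a - 1) a)) ≅
      ModuleCat.of (X.presheaf.stalk x)
        (((stalkCx x).obj K).X a ⧸ LinearMap.range (((stalkCx x).obj K).d (a - 1) a).hom) :=
    PreservesCokernel.iso (stalkFunctor X x) (K.d (a - 1) a) ≪≫
      ModuleCat.cokernelIsoRangeQuotient ((stalkFunctor X x).map (K.d (a - 1) a))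
  exact Module.Flat.of_linearEquiv e.toLinearEquiv

/-! ### the two implications -/

theorem flatAmp_of_stalkwise (F : CochainComplex X.Modules ℤ) (a b : ℤ)
    (H : ∀ x : X, HasTorAmplitudeIn (X.presheaf.stalk x) a b (toD ((stalkCx x).obj F))) :
    DCoh.HasFlatAmplitudeIn a b (DCoh.toD X F) := by
  have hvan : ∀ i : ℤ, (i < a ∨ b < i) → F.ExactAt i := by
    intro i hi
    apply exactAt_of_forall_stalk
    intro x
    obtain ⟨E, hE, -, ⟨e⟩⟩ := H x
    exact exactAt_of_iso_toD _ E e.symm i (exactAt_of_isZero_X E i (hE i hi))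
  haveI : F.IsLE b := by
    rw [CochainComplex.isLE_iff]
    exact fun i hi => hvan i (Or.inr hi)
  obtain ⟨K, qK, b', hb', hKfl, hqK⟩ :=
    Groth.Agent.Lib.DTorCmp.exists_bounded_flat_resolution F b
  haveI := hb'
  haveI := hqK
  haveI : K.IsLE b := by
    rw [CochainComplex.isLE_iff]
    exact fun i hi =>
      (Groth.Agent.Lib.DTorCmp.exactAt_iff_of_quasiIso qK i).2 (hvan i (Or.inr hi))
  have hK₁fl := Groth.Agent.Lib.DTorCmp.flat_truncLE K b' hKfl b
  have e₂ : DCoh.toD X (K.truncLE b) ≅ DCoh.toD X F :=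
    asIso (DerivedCategory.Q.map (K.ιTruncLE b)) ≪≫ asIso (DerivedCategory.Q.map qK)
  have hC : FlatMod.IsFlat (cokernel ((K.truncLE b).d (a - 1) a)) :=
    flat_cokernel_of_stalkwise (K.truncLE b) b hK₁fl a b
      (fun x => hasTorAmplitudeIn_of_iso (stalkDIso0 x e₂).symm a b (H x))
  haveI : (K.truncLE b).IsGE a := by
    rw [CochainComplex.isGE_iff]
    intro i hi
    rw [Groth.Agent.Lib.DTorCmp.exactAt_iff_of_quasiIso (K.ιTruncLE b) i,
      Groth.Agent.Lib.DTorCmp.exactAt_iff_of_quasiIso qK i]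
    exact hvan i (Or.inl hi)
  have hK₂fl := Groth.Agent.Lib.DTorCmp.flat_truncGE (K.truncLE b) hK₁fl a hC
  refine ⟨(K.truncLE b).truncGE a, ?_, hK₂fl,
    ⟨(asIso (DerivedCategory.Q.map ((K.truncLE b).πTruncGE a))).symm ≪≫ e₂⟩⟩
  exact fun i hi => Groth.Agent.Lib.CyclesFlat.truncGE_truncLE_isZero K a b i hi

theorem stalkwise_of_flatAmp (F : CochainComplex X.Modules ℤ) (a b : ℤ)
    (h : DCoh.HasFlatAmplitudeIn a b (DCoh.toD X F)) : HasTorAmplitude (𝟙 X) a b F := by
  obtain ⟨E, hE, hEf, ⟨e⟩⟩ := h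
  intro x
  show ∃ E' : Cx (X.presheaf.stalk ((𝟙 X : X ⟶ X).base x)), VanishesOutside E' a b ∧
    TermwiseFlat E' ∧ Nonempty (toD E' ≅ toD ((stalkCxOver (𝟙 X) x).obj F))
  refine ⟨(stalkCxOver (𝟙 X) x).obj E, ?_, ?_, ⟨stalkDIso (𝟙 X) x e⟩⟩
  · intro j hj
    exact (stalkOver (𝟙 X) x).map_isZero (hE j hj)
  · intro j
    exact flat_stalkOver (𝟙 X) x (E.X j) (hEf j)

/-- S6200 -/
theorem flatAmp_iff_stalkwise (F : CochainComplex X.Modules ℤ) (a b : ℤ) :
    DCoh.HasFlatAmplitudeIn a b (DCoh.toD X F) ↔ HasTorAmplitude (𝟙 X) a b F :=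
  ⟨stalkwise_of_flatAmp F a b, fun h => flatAmp_of_stalkwise F a b
    (fun x => hasTorAmplitudeIn_stalkCx_of_id F a b x (h x))⟩

end

end Groth.Agent.Lib.TorAmpIdL
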