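import Mathlib
import Groth.Prelude
import Groth.Agent.Lib.DCohLoc6_lead
import Groth.Agent.Lib.TorAmpId_lead
import Groth.Agent.Lib.RestrStalk1_helper8
import Groth.Agent.Lib.StalkInj_helper6
import Groth.Agent.Lib.FLF8_helper8
import Groth.Agent.Lib.CyclesFlat_helper2
import Groth.Agent.Lib.DTorCmp4_helper2

/-!
# Flat `O_X`-modules: restriction, cones, cokernels; finite locally free cokernels (lead)

Tools for "pseudo-coherent + finite tor dimension ⇒ perfect".  APPEND-ONLY once landed.
-/

set_option autoImplicit false
set_option linter.all false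
set_option maxHeartbeats 1600000
set_option backward.isDefEq.respectTransparency false
set_option backward.isDefEq.respectTransparency.types false
set_option backward.defeqAttrib.useBackward true

universe u

open CategoryTheory CategoryTheory.Limits AlgebraicGeometry TopologicalSpace Opposite
open CategoryTheory.Pretriangulated

attribute [local instance] HasDerivedCategory.standard

namespace Groth.Agent.Lib.DCohLocLead

open DerSch Groth.Agent.Lib.TorAmpIdL

noncomputable section

/-! ### Algebra -/

section Algebra

/-- Flatness transfers along a semilinear additive equivalence over a ring isomorphism. -/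
theorem flat_of_semilinear_equiv {R R' : Type*} [CommRing R] [CommRing R'] (e : R ≃+* R')
    {M M' : Type*} [AddCommGroup M] [Module R M] [AddCommGroup M'] [Module R' M']
    [Module.Flat R' M'] (G : M ≃+ M') (hG : ∀ (r : R) (m : M), G (r • m) = e r • G m) :
    Module.Flat R M := by
  let _ : Algebra R R' := e.toRingHom.toAlgebra
  letI : Module R M' := Module.compHom M' e.toRingHom
  haveI : IsScalarTower R R' M' := ⟨fun r r' m => by
    show (e r * r') • m = e r • (r' • m)
    rw [mul_smul]⟩
  have hl : Module.Flat R R' := by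
    refine Module.Flat.of_linearEquiv (M := R) (N := R')
      { e.symm.toAddEquiv with map_smul' := fun r x => ?_ }
    show e.symm (e r * x) = r * e.symm x
    rw [map_mul, RingEquiv.symm_apply_apply]
  have h2 : Module.Flat R M' := Module.Flat.trans R R' M'
  exact Module.Flat.of_linearEquiv { G with map_smul' := fun r m => hG r m }

variable {A : Type u} [CommRing A]

/-- In a bounded above complex of modules which is exact and flat in degrees `≥ m`, the
cokernels of the differentials into the degrees `≥ m` are flat. -/
theorem flat_coker_of_exact_ge (W : DRing.Cx A) (b m : ℤ) (hb : DRing.VanishesAbove W b)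
    (hflat : ∀ i, m ≤ i → Module.Flat A (W.X i)) (hex : ∀ i, m ≤ i → W.ExactAt i) :
    ∀ (n : ℕ) (j i : ℤ), j + 1 = i → m ≤ i → b + 1 ≤ i + n →
      Module.Flat A (W.X i ⧸ LinearMap.range (W.d j i).hom) := by
  intro n
  induction n with
  | zero =>
    intro j i hji hmi hi
    haveI : Subsingleton (W.X i) :=
      ModuleCat.subsingleton_of_isZero (hb i (by push_cast at hi; omega))
    haveI : Subsingleton (W.X i ⧸ LinearMap.range (W.d j i).hom) :=
      (Submodule.mkQ_surjective _).subsingleton
    infer_instance
  | succ n ih =>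
    intro j i hji hmi hi
    haveI hfl1 : Module.Flat A (W.X (i + 1) ⧸ LinearMap.range (W.d i (i + 1)).hom) :=
      ih i (i + 1) rfl (by omega) (by push_cast at hi ⊢; omega)
    haveI : Module.Flat A (W.X (i + 1)) := hflat (i + 1) (by omega)
    let Z := LinearMap.range (W.d i (i + 1)).hom
    haveI hZ : Module.Flat A Z :=
      Groth.Agent.Lib.DMod_helper6.flat_of_flat_of_flat_coker Z.subtype Z.mkQ
        Z.injective_subtype (LinearMap.exact_subtype_mkQ Z) (Submodule.mkQ_surjective _)
    have hex1 := Groth.Agent.Lib.DMod_helper6.function_exact_of_exactAt W j i (i + 1) hji rfl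
      (hex i hmi)
    have hker : LinearMap.ker (W.d i (i + 1)).hom = LinearMap.range (W.d j i).hom :=
      LinearMap.exact_iff.1 hex1
    let e : (W.X i ⧸ LinearMap.range (W.d j i).hom) ≃ₗ[A] Z :=
      (Submodule.quotEquivOfEq _ _ hker.symm).trans
        (LinearMap.quotKerEquivRange (W.d i (i + 1)).hom)
    exact Module.Flat.of_linearEquiv e

end Algebra

/-! ### Flat modules on schemes -/

section FlatSch

variable {X : Scheme.{u}}

/-- The restriction of a flat module to an open subscheme is flat. -/
theorem isFlat_restrictFunctor {Y : Scheme.{u}} (j : Y ⟶ X) [IsOpenImmersion j] {M : X.Modules}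
    (hM : FlatMod.IsFlat M) : FlatMod.IsFlat ((Scheme.Modules.restrictFunctor j).obj M) := by
  intro y
  show Module.Flat (Y.presheaf.stalk y) ((M.restrict j).presheaf.stalk y)
  haveI : Module.Flat (X.presheaf.stalk (j.base y)) (M.presheaf.stalk (j.base y)) :=
    hM (j.base y)
  exact flat_of_semilinear_equiv (RestrStalkH8.stalkRingEquiv j y).symm
    (RestrStalkH8.restrictStalkEquiv j M y) (RestrStalkH8.restrictStalkEquiv_smul j M y)

/-- Flatness at the points of an open subscheme may be tested on the restriction. -/
theorem isFlatAt_of_restrictFunctor {Y : Scheme.{u}} (j : Y ⟶ X) [IsOpenImmersion j]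
    {M : X.Modules} (y : Y)
    (hM : FlatMod.IsFlatAt ((Scheme.Modules.restrictFunctor j).obj M) y) :
    FlatMod.IsFlatAt M (j.base y) := by
  show Module.Flat (X.presheaf.stalk (j.base y)) (M.presheaf.stalk (j.base y))
  haveI : Module.Flat (Y.presheaf.stalk y) ((M.restrict j).presheaf.stalk y) := hM
  exact flat_of_semilinear_equiv (RestrStalkH8.stalkRingEquiv j y)
    (RestrStalkH8.restrictStalkEquiv j M y).symm
    (RestrStalkH8.symm_smul (RestrStalkH8.stalkRingEquiv j y).symm
      (RestrStalkH8.restrictStalkEquiv j M y) (RestrStalkH8.restrictStalkEquiv_smul j M y))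

/-- Finite locally free modules are flat. -/
theorem isFlat_of_isFinLocFree {M : X.Modules} (hM : FlatMod.IsFinLocFree M) :
    FlatMod.IsFlat M := by
  intro x
  haveI := FLFH8.isQuasicoherent_of_finLocFree M hM
  haveI : Module.Free (X.presheaf.stalk x) (M.presheaf.stalk x) :=
    FLFH8.free_stalk_of_finLocFree M hM x
  show Module.Flat (X.presheaf.stalk x) (M.presheaf.stalk x)
  infer_instance

theorem isFlat_biprod {A B : X.Modules} (hA : FlatMod.IsFlat A) (hB : FlatMod.IsFlat B) :
    FlatMod.IsFlat (A ⊞ B) := by
  intro x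
  show Module.Flat (X.presheaf.stalk x) ((A ⊞ B).presheaf.stalk x)
  haveI : PreservesBinaryBiproducts (stalkFunctor X x) :=
    preservesBinaryBiproducts_of_preservesBinaryProducts _
  let e : (stalkFunctor X x).obj (A ⊞ B) ≅
      (stalkFunctor X x).obj A ⊞ (stalkFunctor X x).obj B := (stalkFunctor X x).mapBiprod A B
  haveI : Module.Flat (X.presheaf.stalk x)
      ((stalkFunctor X x).obj A ⊞ (stalkFunctor X x).obj B :
        ModuleCat.{u} (X.presheaf.stalk x)) :=
    Groth.Agent.Lib.DMod_helper6.flat_biprod (hA x) (hB x)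
  exact Module.Flat.of_linearEquiv e.toLinearEquiv

/-- In a bounded above complex of `O_X`-modules which is exact and flat in degrees `≥ m`, the
cokernels of the differentials into the degrees `≥ m` are flat. -/
theorem isFlat_cokernel_of_exact_ge (K : CochainComplex X.Modules ℤ) (b m : ℤ)
    (hb : ∀ i, b < i → IsZero (K.X i)) (hK : ∀ i, m ≤ i → FlatMod.IsFlat (K.X i))
    (hex : ∀ i, m ≤ i → K.ExactAt i) (j i : ℤ) (hji : j + 1 = i) (hi : m ≤ i) :
    FlatMod.IsFlat (cokernel (K.d j i)) := by
  intro x
  show Module.Flat (X.presheaf.stalk x) ((cokernel (K.d j i)).presheaf.stalk x)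
  have hb' : DRing.VanishesAbove ((stalkCx x).obj K) b := fun k hk =>
    (stalkFunctor X x).map_isZero (hb k hk)
  have hflat : ∀ k, m ≤ k → Module.Flat (X.presheaf.stalk x) (((stalkCx x).obj K).X k) :=
    fun k hk => hK k hk x
  have hex' : ∀ k, m ≤ k → ((stalkCx x).obj K).ExactAt k := fun k hk =>
    ShortComplex.Exact.map (hex k hk) (stalkFunctor X x)
  haveI hfl : Module.Flat (X.presheaf.stalk x)
      (((stalkCx x).obj K).X i ⧸ LinearMap.range (((stalkCx x).obj K).d j i).hom) :=
    flat_coker_of_exact_ge ((stalkCx x).obj K) b m hb' hflat hex' (b + 1 - i).toNat j i hji hi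
      (by omega)
  let e : (stalkFunctor X x).obj (cokernel (K.d j i)) ≅
      ModuleCat.of (X.presheaf.stalk x)
        (((stalkCx x).obj K).X i ⧸ LinearMap.range (((stalkCx x).obj K).d j i).hom) :=
    PreservesCokernel.iso (stalkFunctor X x) (K.d j i) ≪≫
      ModuleCat.cokernelIsoRangeQuotient ((stalkFunctor X x).map (K.d j i))
  exact Module.Flat.of_linearEquiv e.toLinearEquiv

end FlatSch

/-! ### The cokernel of a differential of a mapping cone -/

section ConeCoker

variable {C : Type*} [Category C] [Abelian C]

open CochainComplex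

theorem nonempty_cokernel_cone_iso {P F : CochainComplex C ℤ} (φ : P ⟶ F) (j i k : ℤ)
    (hji : j + 1 = i) (hik : i + 1 = k) (hFj : IsZero (F.X j)) (hFi : IsZero (F.X i)) :
    Nonempty (cokernel ((mappingCone φ).d j i) ≅ cokernel (P.d i k)) := by
  have hsnd_j : (mappingCone.snd φ).v j j (add_zero j) = 0 := hFj.eq_of_tgt _ _
  have hsnd_i : (mappingCone.snd φ).v i i (add_zero i) = 0 := hFi.eq_of_tgt _ _
  have h1j : (mappingCone.fst φ).1.v j i hji ≫ (mappingCone.inl φ).v i j (by omega) =
      𝟙 ((mappingCone φ).X j) := by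
    have h := mappingCone.id_X φ j i hji
    rw [hsnd_j, zero_comp, add_zero] at h
    exact h
  have h1i : (mappingCone.fst φ).1.v i k hik ≫ (mappingCone.inl φ).v k i (by omega) =
      𝟙 ((mappingCone φ).X i) := by
    have h := mappingCone.id_X φ i k hik
    rw [hsnd_i, zero_comp, add_zero] at h
    exact h
  let ej : (mappingCone φ).X j ≅ P.X i :=
    { hom := -(mappingCone.fst φ).1.v j i hji
      inv := -(mappingCone.inl φ).v i j (by omega)
      hom_inv_id := by
        rw [Preadditive.neg_comp, Preadditive.comp_neg, neg_neg]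
        exact h1j
      inv_hom_id := by
        rw [Preadditive.neg_comp, Preadditive.comp_neg, neg_neg]
        exact mappingCone.inl_v_fst_v φ i j hji }
  let ei : (mappingCone φ).X i ≅ P.X k :=
    { hom := (mappingCone.fst φ).1.v i k hik
      inv := (mappingCone.inl φ).v k i (by omega)
      hom_inv_id := h1i
      inv_hom_id := mappingCone.inl_v_fst_v φ k i hik }
  have hw : (mappingCone φ).d j i ≫ ei.hom = ej.hom ≫ P.d i k := by
    show (mappingCone φ).d j i ≫ (mappingCone.fst φ).1.v i k hik =
      (-(mappingCone.fst φ).1.v j i hji) ≫ P.d i k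
    rw [mappingCone.d_fst_v φ j i k hji hik, Preadditive.neg_comp]
  exact ⟨cokernel.mapIso _ _ ej ei hw⟩

end ConeCoker

/-! ### Finite locally free cokernels and truncations -/

section FLF

variable {X : Scheme.{u}}

theorem isFinLocFree_of_isZero {M : X.Modules} (h : IsZero M) : FlatMod.IsFinLocFree M :=
  FLFH8.isFinLocFree_of_iso_free (n := 0) (h.iso (isZero_freeMod_zero X))

/-- A flat cokernel of a morphism of finite locally free modules is finite locally free. -/
theorem isFinLocFree_cokernel_of_isFlat {A B : X.Modules} (hA : FlatMod.IsFinLocFree A)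
    (hB : FlatMod.IsFinLocFree B) (u : A ⟶ B) (hfl : FlatMod.IsFlat (cokernel u)) :
    FlatMod.IsFinLocFree (cokernel u) := by
  haveI := FLFH8.isQuasicoherent_of_finLocFree A hA
  haveI := FLFH8.isQuasicoherent_of_finLocFree B hB
  haveI := FLFH8.isFinitePresentation_of_finLocFree A hA
  haveI := FLFH8.isFinitePresentation_of_finLocFree B hB
  haveI : (cokernel u).IsQuasicoherent := FComplH8.isQuasicoherent_cokernel u
  haveI : SheafOfModules.IsFinitePresentation (R := X.ringCatSheaf) (cokernel u) :=
    Groth.Agent.Lib.StalkInjH6.isFP_cokernel u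
  intro x
  haveI : Module.Flat (X.presheaf.stalk x) ((cokernel u).presheaf.stalk x) := hfl x
  haveI : Module.Finite (X.presheaf.stalk x) ((cokernel u).presheaf.stalk x) :=
    FLFH8.finite_stalk (cokernel u) x
  exact FLFH8.exists_free_nhd (cokernel u) x Module.free_of_flat_of_isLocalRing

theorem isFinLocFree_truncGE (P : CochainComplex X.Modules ℤ)
    (hP : ∀ i, FlatMod.IsFinLocFree (P.X i)) (a : ℤ)
    (hC : FlatMod.IsFinLocFree (cokernel (P.d (a - 1) a))) :
    ∀ i, FlatMod.IsFinLocFree ((P.truncGE a).X i) :=
  Groth.Agent.Lib.CyclesFlat.truncGE_mem (Fl := fun M : X.Modules => FlatMod.IsFinLocFree M)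
    (fun Z hZ => isFinLocFree_of_isZero hZ) (fun e h => FLFH8.IsFinLocFree.of_iso e h) P hP a hC

end FLF

end

end Groth.Agent.Lib.DCohLocLead
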