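import Mathlib
import Groth.Prelude
import Groth.Agent.Lib.PerfFlat1_lead

/-!
# Pseudo-coherent + finite tor dimension ⇒ perfect (lead)

`main913`, `main914`.  APPEND-ONLY once landed.
-/

set_option autoImplicit false
set_option linter.all false
set_option maxHeartbeats 1600000
set_option backward.isDefEq.respectTransparency false
set_option backward.isDefEq.respectTransparency.types false
set_option backward.defeqAttrib.useBackward true

universe u

open CategoryTheory CategoryTheory.Limits AlgebraicGeometry TopologicalSpace Opposite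
open CategoryTheory.Pretriangulated

attribute [local instance] HasDerivedCategory.standard

namespace Groth.Agent.Lib.DCohLocLead

open DerSch Groth.Agent.Lib.TorAmpIdL

noncomputable section

open DerivedCategory

/-! ### Local representatives: formal properties -/

/-- Strict perfectness with a lower bound, as a property of complexes on all schemes. -/
abbrev SPa (a : ℤ) : ∀ (Y : Scheme.{u}), CochainComplex Y.Modules ℤ → Prop := fun _ P =>
  DCoh.IsStrictlyPerfect P ∧ ∀ i : ℤ, i < a → IsZero (P.X i)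

theorem LocRep.mono {Pr Pr' : ∀ (Y : Scheme.{u}), CochainComplex Y.Modules ℤ → Prop}
    {Y X : Scheme.{u}} {j : Y ⟶ X} [IsOpenImmersion j] {K : DCoh.D X} (h : LocRep Pr j K)
    (hPr : ∀ P : CochainComplex Y.Modules ℤ, Pr Y P → Pr' Y P) : LocRep Pr' j K := by
  obtain ⟨P, hP, he⟩ := h
  exact ⟨P, hPr P hP, he⟩

theorem LocRep.of_iso {Pr : ∀ (Y : Scheme.{u}), CochainComplex Y.Modules ℤ → Prop}
    {Y X : Scheme.{u}} {j : Y ⟶ X} [IsOpenImmersion j] {K K' : DCoh.D X} (h : LocRep Pr j K)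
    (e : K ≅ K') : LocRep Pr j K' := by
  obtain ⟨P, hP, ⟨i⟩⟩ := h
  exact ⟨P, hP, ⟨(DD j).mapIso e.symm ≪≫ i⟩⟩

/-- A local representative of `K|_Y` over `Z → Y` is a local representative of `K` over
`Z → Y → X`. -/
theorem LocRep.trans {Pr : ∀ (Y : Scheme.{u}), CochainComplex Y.Modules ℤ → Prop}
    {Z Y X : Scheme.{u}} (k : Z ⟶ Y) (j : Y ⟶ X) [IsOpenImmersion k] [IsOpenImmersion j]
    {K : DCoh.D X} (h : LocRep Pr k ((DD j).obj K)) : LocRep Pr (k ≫ j) K := by
  obtain ⟨P, hP, ⟨i⟩⟩ := h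
  obtain ⟨c⟩ := nonempty_DD_comp_iso k j K
  exact ⟨P, hP, ⟨c ≪≫ i⟩⟩

theorem isPerfect_of_iso {X : Scheme.{u}} {K K' : DCoh.D X} (e : K ≅ K')
    (h : DCoh.IsPerfect K) : DCoh.IsPerfect K' := by
  rw [isPerfect_iff] at h ⊢
  intro x
  obtain ⟨V, hxV, hV⟩ := h x
  exact ⟨V, hxV, hV.of_iso e⟩

theorem isPC_of_isPerfect {X : Scheme.{u}} {K : DCoh.D X} (h : DCoh.IsPerfect K) (m : ℤ) :
    DCoh.IsPseudoCoherentD m K := by
  rw [isPerfect_iff] at h
  rw [isPC_iff]
  intro x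
  obtain ⟨V, hxV, P, hP, ⟨e⟩⟩ := h x
  exact ⟨V, hxV, P, e.inv, hP, IsApprox.of_isIso _⟩

theorem locHasFiniteTorDim_of_isPerfect {X : Scheme.{u}} {K : DCoh.D X}
    (h : DCoh.IsPerfect K) : DCoh.LocHasFiniteTorDim K := by
  rw [isPerfect_iff] at h
  intro x
  obtain ⟨V, hxV, P, ⟨⟨a, b, hv⟩, hf⟩, ⟨e⟩⟩ := h x
  refine ⟨V, a, b, hxV, fun F' hF' => ?_⟩
  obtain ⟨i'⟩ := hF'
  exact ⟨P, hv, fun i => isFlat_of_isFinLocFree (hf i),
    ⟨e.symm ≪≫ (DD V.ι).mapIso i'.symm ≪≫ facIso V.ι F'⟩⟩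

/-! ### Restriction of pseudo-coherent objects -/

theorem LocApprox.of_range_le {m : ℤ} {X : Scheme.{u}} {K : DCoh.D X} {V : X.Opens}
    (h : LocApprox m V.ι K) {Z : Scheme.{u}} (l : Z ⟶ X) [IsOpenImmersion l]
    (hl : Set.range l ⊆ (V : Set X)) : LocApprox m l K := by
  have hr : Set.range l ⊆ Set.range V.ι := by
    rw [Scheme.Opens.range_ι]
    exact hl
  let k : Z ⟶ (V : Scheme.{u}) := IsOpenImmersion.lift V.ι l hr
  have hk : k ≫ V.ι = l := IsOpenImmersion.lift_fac _ _ _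
  haveI : IsOpenImmersion (k ≫ V.ι) := by rw [hk]; infer_instance
  haveI : IsOpenImmersion k := IsOpenImmersion.of_comp k V.ι
  exact (h.comp k V.ι).of_eq hk

theorem isPC_restrict {X : Scheme.{u}} {m : ℤ} {K : DCoh.D X}
    (h : DCoh.IsPseudoCoherentD m K) {Y : Scheme.{u}} (j : Y ⟶ X) [IsOpenImmersion j] :
    DCoh.IsPseudoCoherentD m ((DD j).obj K) := by
  rw [isPC_iff] at h
  refine isPC_of_locApprox m _ (fun y => ?_)
  obtain ⟨V, hxV, hV⟩ := h (j y)
  let Z : Y.Opens := j ⁻¹ᵁ V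
  have hyZ : y ∈ Z := hxV
  have hl : Set.range (Z.ι ≫ j) ⊆ (V : Set X) := by
    rintro _ ⟨z, rfl⟩
    exact z.2
  obtain ⟨E, α, hE, hα⟩ := hV.of_range_le (Z.ι ≫ j) hl
  obtain ⟨c⟩ := nonempty_DD_comp_iso Z.ι j K
  exact ⟨(Z : Scheme.{u}), Z.ι, inferInstance, ⟨⟨y, hyZ⟩, rfl⟩, E, α ≫ c.hom, hE,
    hα.comp (IsApprox.of_isIso _)⟩

/-! ### The key step -/

theorem quasiIsoAt_of_isApprox {C : Type*} [Category C] [Abelian C] [HasDerivedCategory C]
    {E F : CochainComplex C ℤ} (β : E ⟶ F) (m : ℤ) (h : IsApprox m (Q.map β)) (i : ℤ)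
    (hi : m < i) : QuasiIsoAt β i := by
  haveI h0 : IsIso ((homologyFunctor C i).map (Q.map β)) := h.1 i hi
  haveI h1 : IsIso ((Q ⋙ homologyFunctor C i).map β) := h0
  haveI : IsIso (HomologicalComplex.homologyMap β i) :=
    (NatIso.isIso_map_iff (homologyFunctorFactors C i) β).1 h1
  exact (quasiIsoAt_iff_isIso_homologyMap β i).2 inferInstance

/-- If a strictly perfect complex `P` maps to a complex `F` of flat modules placed in
`[a, b]`, inducing isomorphisms on cohomology in degrees `≥ a`, then the canonical truncation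
`τ_{≥ a} P` is strictly perfect and isomorphic to `F` in the derived category. -/
theorem truncGE_isStrictlyPerfect_of_approx {Y : Scheme.{u}} {P F : CochainComplex Y.Modules ℤ}
    (β : P ⟶ F) (a b : ℤ) (hF : ∀ i, FlatMod.IsFlat (F.X i)) (hFv : DCoh.VanishesOutside F a b)
    (hP : DCoh.IsStrictlyPerfect P) (hβ : ∀ i, a ≤ i → QuasiIsoAt β i) :
    DCoh.IsStrictlyPerfect (P.truncGE a) ∧
      Nonempty (Q.obj F ≅ Q.obj (P.truncGE a)) := by
  obtain ⟨⟨p, q, hPv⟩, hPf⟩ := hP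
  have hCX : ∀ i, (CochainComplex.mappingCone β).X i ≅ P.X (i + 1) ⊞ F.X i := fun i =>
    HomologicalComplex.homotopyCofiber.XIsoBiprod β i (i + 1) rfl
  have hCb : ∀ i, max b q < i → IsZero ((CochainComplex.mappingCone β).X i) := fun i hi => by
    have h1 := le_max_left b q
    have h2 := le_max_right b q
    exact IsZero.of_iso ((biprod_isZero_iff _ _).2 ⟨hPv (i + 1) (Or.inr (by omega)),
      hFv i (Or.inr (by omega))⟩) (hCX i)
  have hCfl : ∀ i, FlatMod.IsFlat ((CochainComplex.mappingCone β).X i) := fun i =>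
    Groth.Agent.Lib.DTorCmp.flatMod_of_iso (hCX i).symm
      (isFlat_biprod (isFlat_of_isFinLocFree (hPf (i + 1))) (hF i))
  have hCex : ∀ i, a - 1 ≤ i → (CochainComplex.mappingCone β).ExactAt i := by
    intro i hi
    rw [HomologicalComplex.exactAt_iff_isZero_homology]
    refine isZero_homology_mappingCone β i ?_ ?_
    · rcases (show a ≤ i ∨ i = a - 1 by omega) with h | h
      · haveI := hβ i h
        haveI : IsIso (HomologicalComplex.homologyMap β i) :=
          (quasiIsoAt_iff_isIso_homologyMap β i).1 inferInstance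
        infer_instance
      · subst h
        have hz : IsZero (F.homology (a - 1)) :=
          isZero_homology_of_isZero_X F (a - 1) (hFv _ (Or.inl (by omega)))
        exact ⟨fun g h _ => hz.eq_of_src _ _⟩
    · haveI := hβ (i + 1) (by omega)
      haveI : IsIso (HomologicalComplex.homologyMap β (i + 1)) :=
        (quasiIsoAt_iff_isIso_homologyMap β (i + 1)).1 inferInstance
      infer_instance
  have hflC : FlatMod.IsFlat
      (cokernel ((CochainComplex.mappingCone β).d (a - 1 - 1) (a - 1))) :=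
    isFlat_cokernel_of_exact_ge (CochainComplex.mappingCone β) (max b q) (a - 1) hCb
      (fun i _ => hCfl i) hCex (a - 1 - 1) (a - 1) (by omega) le_rfl
  obtain ⟨ec⟩ := nonempty_cokernel_cone_iso β (a - 1 - 1) (a - 1) a (by omega) (by omega)
    (hFv _ (Or.inl (by omega))) (hFv _ (Or.inl (by omega)))
  have hflP : FlatMod.IsFlat (cokernel (P.d (a - 1) a)) :=
    Groth.Agent.Lib.DTorCmp.flatMod_of_iso ec hflC
  have hlf : FlatMod.IsFinLocFree (cokernel (P.d (a - 1) a)) :=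
    isFinLocFree_cokernel_of_isFlat (hPf _) (hPf _) _ hflP
  have hT : ∀ i, FlatMod.IsFinLocFree ((P.truncGE a).X i) := isFinLocFree_truncGE P hPf a hlf
  refine ⟨⟨⟨a, max a q, ?_⟩, hT⟩, ?_⟩
  · rintro i (hi | hi)
    · exact (P.truncGE a).isZero_of_isStrictlyGE a i hi
    · have h1 := le_max_left a q
      have h2 := le_max_right a q
      exact IsZero.of_iso (hPv i (Or.inr (by omega))) (P.truncGEXIso a i (by omega))
  · haveI : F.IsStrictlyGE a :=
      (CochainComplex.isStrictlyGE_iff F a).2 (fun i hi => hFv i (Or.inl hi))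
    haveI : QuasiIso (CochainComplex.truncGEMap β a) :=
      (CochainComplex.quasiIso_truncGEMap_iff β a).2 (fun i hi => hβ i hi)
    exact ⟨asIso (Q.map (F.πTruncGE a)) ≪≫ (asIso (Q.map (CochainComplex.truncGEMap β a))).symm⟩

/-- A complex of flat modules placed in `[a, b]` which is `(a-1)`-pseudo-coherent is, locally,
represented by strictly perfect complexes placed in degrees `≥ a`. -/
theorem exists_locRep_of_flat_pc {X : Scheme.{u}} (F : CochainComplex X.Modules ℤ) (a b : ℤ)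
    (hF : ∀ i, FlatMod.IsFlat (F.X i)) (hFv : DCoh.VanishesOutside F a b)
    (hpc : DCoh.IsPseudoCoherentD (a - 1) (Q.obj F)) (x : X) :
    ∃ (Y : Scheme.{u}) (j : Y ⟶ X) (_ : IsOpenImmersion j),
      (∃ y : Y, j y = x) ∧ LocRep (SPa a) j (Q.obj F) := by
  rw [isPC_iff] at hpc
  obtain ⟨V, hxV, E, α, hE, hα⟩ := hpc x
  let FV : CochainComplex (V : Scheme.{u}).Modules ℤ := (RC V.ι).obj F
  let α' : Q.obj E ⟶ Q.obj FV := α ≫ (facIso V.ι F).hom
  have hα' : IsApprox (a - 1) α' := hα.comp (IsApprox.of_isIso _)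
  obtain ⟨W, hxW, hW⟩ := main944 hE α' (show V.toScheme from (⟨x, hxV⟩ : V))
  obtain ⟨β, hβ⟩ := hW
  have hβ' : Q.map β = (facIso W.ι E).inv ≫ (DD W.ι).map α' ≫ (facIso W.ι FV).hom := by
    rw [show (DD W.ι).map α' = (facIso W.ι E).hom ≫ Q.map β ≫ (facIso W.ι FV).inv from hβ]
    simp
  have hβa : IsApprox (a - 1) (Q.map β) := by
    rw [hβ']
    exact (IsApprox.of_isIso _).comp ((hα'.restrict W.ι).comp (IsApprox.of_isIso _))
  have hq : ∀ i, a ≤ i → QuasiIsoAt β i := fun i hi =>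
    quasiIsoAt_of_isApprox β (a - 1) hβa i (by omega)
  have hFW : ∀ i, FlatMod.IsFlat (((RC W.ι).obj FV).X i) := fun i =>
    isFlat_restrictFunctor W.ι (isFlat_restrictFunctor V.ι (hF i))
  have hFWv : DCoh.VanishesOutside ((RC W.ι).obj FV) a b := fun i hi =>
    (Scheme.Modules.restrictFunctor W.ι).map_isZero
      ((Scheme.Modules.restrictFunctor V.ι).map_isZero (hFv i hi))
  obtain ⟨hSP, ⟨e⟩⟩ := truncGE_isStrictlyPerfect_of_approx β a b hFW hFWv
    (isStrictlyPerfect_RC W.ι hE) hq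
  obtain ⟨c⟩ := nonempty_iso_comp W.ι V.ι (facIso V.ι F)
  refine ⟨(W : Scheme.{u}), W.ι ≫ V.ι, inferInstance, ⟨(⟨⟨x, hxV⟩, hxW⟩ : W), rfl⟩,
    ((RC W.ι).obj E).truncGE a, ⟨hSP, fun i hi => ?_⟩, ⟨c ≪≫ e⟩⟩
  exact (((RC W.ι).obj E).truncGE a).isZero_of_isStrictlyGE a i hi

/-! ### The main theorems -/

theorem main913 {X : Scheme.{u}} (E : DCoh.D X) (a b : ℤ)
    (h1 : DCoh.HasFlatAmplitudeIn a b E) (h2 : DCoh.IsPseudoCoherentD (a - 1) E) :
    DCoh.IsPerfect E := by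
  obtain ⟨F, hFv, hFf, ⟨e⟩⟩ := h1
  refine isPerfect_of_iso e (isPerfect_of_locRep _ (fun x => ?_))
  obtain ⟨Y, j, hj, hy, hL⟩ :=
    exists_locRep_of_flat_pc F a b hFf hFv (isPC_of_iso e.symm h2) x
  exact ⟨Y, j, hj, hy, hL.mono (fun _ h => h.1)⟩

theorem main914 {X : Scheme.{u}} (E : DCoh.D X) :
    DCoh.IsPerfect E ↔ (∀ m : ℤ, DCoh.IsPseudoCoherentD m E) ∧ DCoh.LocHasFiniteTorDim E := by
  constructor
  · intro h
    exact ⟨fun m => isPC_of_isPerfect h m, locHasFiniteTorDim_of_isPerfect h⟩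
  · rintro ⟨hpc, htd⟩
    refine isPerfect_of_locRep E (fun x => ?_)
    obtain ⟨V, a, b, hxV, hV⟩ := htd x
    obtain ⟨G, hGv, hGf, ⟨g⟩⟩ := hV (Q.objPreimage E) ⟨Q.objObjPreimageIso E⟩
    let e : Q.obj G ≅ (DD V.ι).obj E :=
      g ≪≫ (facIso V.ι (Q.objPreimage E)).symm ≪≫ (DD V.ι).mapIso (Q.objObjPreimageIso E)
    have hpcG : DCoh.IsPseudoCoherentD (a - 1) (Q.obj G) :=
      isPC_of_iso e.symm (isPC_restrict (hpc (a - 1)) V.ι)
    obtain ⟨Y, j, hj, ⟨y, hy⟩, hL⟩ :=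
      exists_locRep_of_flat_pc G a b hGf hGv hpcG (show V.toScheme from (⟨x, hxV⟩ : V))
    haveI := hj
    refine ⟨Y, j ≫ V.ι, inferInstance, ⟨y, ?_⟩, ?_⟩
    · have h1 : (j ≫ V.ι) y = V.ι (j y) := rfl
      rw [h1, hy]
      rfl
    · exact ((hL.mono (fun _ h => h.1)).of_iso e).trans j V.ι

end

end Groth.Agent.Lib.DCohLocLead
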