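import Mathlib
import Groth.Prelude
import Groth.Agent.Lib.PerfFlat2_lead
import Groth.Agent.Lib.DMod43_helper6
import Groth.Agent.Lib.SubExt_helper9
import Groth.Agent.Lib.QCohExact_helper9
import Groth.Agent.Lib.DCohLoc5_lead

/-!
# Perfect amplitude; perfectness of direct summands (lead)

`main4275`, `main924`.  APPEND-ONLY once landed.
-/

set_option autoImplicit false
set_option linter.all false
set_option maxHeartbeats 1600000
set_option backward.isDefEq.respectTransparency false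
set_option backward.isDefEq.respectTransparency.types false
set_option backward.defeqAttrib.useBackward true

universe u

open CategoryTheory CategoryTheory.Limits AlgebraicGeometry TopologicalSpace Opposite
open CategoryTheory.Pretriangulated

attribute [local instance] HasDerivedCategory.standard

namespace Groth.Agent.Lib.DCohLocLead

open DerSch Groth.Agent.Lib.TorAmpIdL

noncomputable section

/-! ### Algebra -/

theorem fp_flat_ker_of_surjective {R : Type*} [CommRing R] {K A B : Type*} [AddCommGroup K]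
    [AddCommGroup A] [AddCommGroup B] [Module R K] [Module R A] [Module R B]
    (i : K →ₗ[R] A) (f : A →ₗ[R] B) (hi : Function.Injective i) (hf : Function.Surjective f)
    (hex : Function.Exact i f)
    [Module.FinitePresentation R A] [Module.Flat R A] [Module.FinitePresentation R B]
    [Module.Flat R B] : Module.FinitePresentation R K ∧ Module.Flat R K := by
  haveI : Module.Projective R A := Module.Flat.projective_of_finitePresentation
  haveI : Module.Projective R B := Module.Flat.projective_of_finitePresentation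
  obtain ⟨s, hs⟩ := Module.projective_lifting_property f LinearMap.id hf
  have hsplit : (∃ l, f ∘ₗ l = LinearMap.id) ↔ ∃ l, l ∘ₗ i = LinearMap.id :=
    (Function.Exact.split_tfae hex hi hf).out 0 1
  obtain ⟨r, hr⟩ := hsplit.1 ⟨s, hs⟩
  haveI : Module.Projective R K := Module.Projective.of_split i r hr
  haveI : Module.Finite R K :=
    Module.Finite.of_surjective r (fun k => ⟨i k, LinearMap.congr_fun hr k⟩)
  exact ⟨Module.finitePresentation_of_projective R K, inferInstance⟩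

/-! ### Kernel of an epimorphism of finite locally free modules -/

section FLF

variable {X : Scheme.{u}}

theorem isFinLocFree_of_shortExact (S : ShortComplex X.Modules) (hS : S.ShortExact)
    (h2 : FlatMod.IsFinLocFree S.X₂) (h3 : FlatMod.IsFinLocFree S.X₃) :
    FlatMod.IsFinLocFree S.X₁ := by
  haveI := FLFH8.isQuasicoherent_of_finLocFree S.X₂ h2
  haveI := FLFH8.isQuasicoherent_of_finLocFree S.X₃ h3
  haveI : Mono S.f := hS.mono_f
  haveI : Epi S.g := hS.epi_g
  haveI : S.X₁.IsQuasicoherent := by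
    haveI : (kernel S.g).IsQuasicoherent := SubExt.isQuasicoherent_kernel S.g
    let e : S.X₁ ≅ kernel S.g :=
      IsLimit.conePointUniqueUpToIso hS.exact.fIsKernel (limit.isLimit _)
    exact (SheafOfModules.isQuasicoherent X.ringCatSheaf).prop_of_iso e.symm inferInstance
  refine FLFH8.finLocFree_of_fp_flat_sections S.X₁ (fun U => ?_)
  obtain ⟨fp2, fl2⟩ := FLFH8.fp_flat_sections_of_finLocFree S.X₂ h2 U.2
  obtain ⟨fp3, fl3⟩ := FLFH8.fp_flat_sections_of_finLocFree S.X₃ h3 U.2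
  haveI := fp2
  haveI := fl2
  haveI := fp3
  haveI := fl3
  let i : Γ(S.X₁, U.1) →ₗ[Γ(X, U.1)] Γ(S.X₂, U.1) :=
    { toFun := fun t => (S.f.app U.1).hom t
      map_add' := fun s t => map_add (S.f.app U.1).hom s t
      map_smul' := fun r t => Scheme.Modules.Hom.app_smul S.f r t }
  let f : Γ(S.X₂, U.1) →ₗ[Γ(X, U.1)] Γ(S.X₃, U.1) :=
    { toFun := fun t => (S.g.app U.1).hom t
      map_add' := fun s t => map_add (S.g.app U.1).hom s t
      map_smul' := fun r t => Scheme.Modules.Hom.app_smul S.g r t }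
  have hi : Function.Injective i := QCohExact.app_injective_of_mono S.f U.1
  have hf : Function.Surjective f := QCohExact.app_surjective_of_epi S.g U.2
  have hex : Function.Exact i f := by
    intro y
    constructor
    · intro hy
      exact QCohExact.app_exact S hS.exact U.1 y hy
    · rintro ⟨k, rfl⟩
      have := congrArg (fun χ => (χ.app U.1).hom k) S.zero
      exact this
  exact fp_flat_ker_of_surjective i f hi hf hex

theorem isFinLocFree_truncLE (P : CochainComplex X.Modules ℤ) (b' : ℤ) [P.IsStrictlyLE b']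
    (hP : ∀ i, FlatMod.IsFinLocFree (P.X i)) (b : ℤ) [P.IsLE b] :
    ∀ i, FlatMod.IsFinLocFree ((P.truncLE b).X i) :=
  Groth.Agent.Lib.CyclesFlat.truncLE_mem (Fl := fun M : X.Modules => FlatMod.IsFinLocFree M)
    (fun Z hZ => isFinLocFree_of_isZero hZ) (fun e h => FLFH8.IsFinLocFree.of_iso e h)
    (fun S hS h2 h3 => isFinLocFree_of_shortExact S hS h2 h3) P b' hP b

end FLF

open DerivedCategory

/-! ### Perfect amplitude via local representatives -/

/-- Finite locally free terms, placed in `[m, n]`. -/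
abbrev PA (m n : ℤ) : ∀ (Y : Scheme.{u}), CochainComplex Y.Modules ℤ → Prop := fun _ P =>
  DCoh.VanishesOutside P m n ∧ ∀ i : ℤ, FlatMod.IsFinLocFree (P.X i)

theorem hasPerfAmp_iff {X : Scheme.{u}} (m n : ℤ) (K : DCoh.D X) :
    KSix.HasPerfectAmplitudeIn m n K ↔
      ∀ x : X, ∃ V : X.Opens, x ∈ V ∧ LocRep (PA m n) V.ι K := by
  constructor
  · intro h x
    obtain ⟨V, hxV, hV⟩ := h x
    obtain ⟨E', hE'v, hE'f, ⟨i⟩⟩ := hV (Q.objPreimage K) ⟨Q.objObjPreimageIso K⟩
    exact ⟨V, hxV, E', ⟨hE'v, hE'f⟩, ⟨(DD V.ι).mapIso (Q.objObjPreimageIso K).symm ≪≫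
      facIso V.ι (Q.objPreimage K) ≪≫ i⟩⟩
  · intro h x
    obtain ⟨V, hxV, P, ⟨hPv, hPf⟩, ⟨e⟩⟩ := h x
    refine ⟨V, hxV, fun F hF => ?_⟩
    obtain ⟨i⟩ := hF
    exact ⟨P, hPv, hPf, ⟨(facIso V.ι F).symm ≪≫ (DD V.ι).mapIso i ≪≫ e⟩⟩

theorem isPA_RC {Y X : Scheme.{u}} (j : Y ⟶ X) [IsOpenImmersion j] {m n : ℤ}
    {P : CochainComplex X.Modules ℤ} (hP : PA m n X P) : PA m n Y ((RC j).obj P) :=
  ⟨fun i hi => (Scheme.Modules.restrictFunctor j).map_isZero (hP.1 i hi),
    fun i => isFinLocFree_restrictFunctor j (hP.2 i)⟩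

theorem hasPerfAmp_of_locRep {X : Scheme.{u}} (m n : ℤ) (K : DCoh.D X)
    (h : ∀ x : X, ∃ (Y : Scheme.{u}) (j : Y ⟶ X) (_ : IsOpenImmersion j),
      (∃ y : Y, j y = x) ∧ LocRep (PA m n) j K) : KSix.HasPerfectAmplitudeIn m n K := by
  rw [hasPerfAmp_iff]
  intro x
  obtain ⟨Y, j, hj, hy, hK⟩ := h x
  haveI := hj
  exact ⟨j.opensRange, hy, hK.opensRange j (fun P hP => isPA_RC _ hP)⟩

theorem hasFlatAmp_of_iso {X : Scheme.{u}} {K K' : DCoh.D X} {a b : ℤ} (e : K ≅ K')
    (h : DCoh.HasFlatAmplitudeIn a b K) : DCoh.HasFlatAmplitudeIn a b K' := by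
  obtain ⟨F, hv, hf, ⟨i⟩⟩ := h
  exact ⟨F, hv, hf, ⟨i ≪≫ e⟩⟩

theorem hasPerfAmp_of_iso {X : Scheme.{u}} {K K' : DCoh.D X} {m n : ℤ} (e : K ≅ K')
    (h : KSix.HasPerfectAmplitudeIn m n K) : KSix.HasPerfectAmplitudeIn m n K' := by
  intro x
  obtain ⟨V, hxV, hV⟩ := h x
  refine ⟨V, hxV, fun F hF => ?_⟩
  obtain ⟨i⟩ := hF
  exact hV F ⟨i ≪≫ e.symm⟩

/-- Cohomology of complexes isomorphic in the derived category. -/
def homologyIsoOfQIso {C : Type*} [Category C] [Abelian C] [HasDerivedCategory C]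
    {K L : CochainComplex C ℤ} (e : Q.obj K ≅ Q.obj L) (i : ℤ) : K.homology i ≅ L.homology i :=
  ((homologyFunctorFactors C i).app K).symm ≪≫ (homologyFunctor C i).mapIso e ≪≫
    (homologyFunctorFactors C i).app L

/-- A complex of flat modules placed in `[a, b]` which is `(a-1)`-pseudo-coherent is, locally,
represented by complexes of finite locally free modules placed in `[a, b]`. -/
theorem exists_locRep_PA_of_flat_pc {X : Scheme.{u}} (F : CochainComplex X.Modules ℤ) (a b : ℤ)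
    (hab : a ≤ b) (hF : ∀ i, FlatMod.IsFlat (F.X i)) (hFv : DCoh.VanishesOutside F a b)
    (hpc : DCoh.IsPseudoCoherentD (a - 1) (Q.obj F)) (x : X) :
    ∃ (Y : Scheme.{u}) (j : Y ⟶ X) (_ : IsOpenImmersion j),
      (∃ y : Y, j y = x) ∧ LocRep (PA a b) j (Q.obj F) := by
  obtain ⟨Y, j, hj, hy, P, ⟨⟨⟨p, q, hPv⟩, hPf⟩, hPa⟩, ⟨e⟩⟩ :=
    exists_locRep_of_flat_pc F a b hF hFv hpc x
  haveI := hj
  haveI : P.IsStrictlyLE q :=
    (CochainComplex.isStrictlyLE_iff P q).2 (fun i hi => hPv i (Or.inr hi))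
  let e' : Q.obj P ≅ Q.obj ((RC j).obj F) := e.symm ≪≫ facIso j F
  haveI : P.IsLE b := by
    rw [CochainComplex.isLE_iff]
    intro i hi
    rw [HomologicalComplex.exactAt_iff_isZero_homology]
    exact IsZero.of_iso (isZero_homology_of_isZero_X _ i
      ((Scheme.Modules.restrictFunctor j).map_isZero (hFv i (Or.inr hi))))
      (homologyIsoOfQIso e' i)
  refine ⟨Y, j, hj, hy, P.truncLE b, ⟨?_, isFinLocFree_truncLE P q hPf b⟩,
    ⟨e ≪≫ (asIso (Q.map (P.ιTruncLE b))).symm⟩⟩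
  rintro i (hi | hi)
  · exact IsZero.of_iso (hPa i hi) (P.truncLEXIso b i (by omega))
  · exact (P.truncLE b).isZero_of_isStrictlyLE b i hi

/-! ### Flat amplitude is local -/

theorem exactAt_of_cover {X : Scheme.{u}} (F : CochainComplex X.Modules ℤ) (i : ℤ) {ι : Type*}
    (𝒰 : ι → X.Opens) (hcov : ∀ x : X, ∃ k, x ∈ 𝒰 k)
    (H : ∀ k, ((RC (𝒰 k).ι).obj F).ExactAt i) : F.ExactAt i := by
  rw [HomologicalComplex.exactAt_iff_isZero_homology]
  refine isZero_of_isZero_restrict (F.homology i) 𝒰 hcov (fun k => ?_)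
  have h := H k
  rw [HomologicalComplex.exactAt_iff_isZero_homology] at h
  exact IsZero.of_iso h
    ((F.sc i).mapHomologyIso (Scheme.Modules.restrictFunctor (𝒰 k).ι)).symm

theorem flatAmp_of_cover {X : Scheme.{u}} (F : CochainComplex X.Modules ℤ) (a b : ℤ)
    (H : ∀ x : X, ∃ V : X.Opens, x ∈ V ∧
      DCoh.HasFlatAmplitudeIn a b (Q.obj ((RC V.ι).obj F))) :
    DCoh.HasFlatAmplitudeIn a b (DCoh.toD X F) := by
  choose V hxV hV using H
  have hvan : ∀ i : ℤ, (i < a ∨ b < i) → F.ExactAt i := by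
    intro i hi
    refine exactAt_of_cover F i V (fun x => ⟨x, hxV x⟩) (fun x => ?_)
    obtain ⟨E', hE'v, -, ⟨e⟩⟩ := hV x
    rw [HomologicalComplex.exactAt_iff_isZero_homology]
    exact IsZero.of_iso (isZero_homology_of_isZero_X E' i (hE'v i hi))
      (homologyIsoOfQIso e.symm i)
  haveI : F.IsLE b := by
    rw [CochainComplex.isLE_iff]
    exact fun i hi => hvan i (Or.inr hi)
  obtain ⟨K, qK, b', hb', hKfl, hqK⟩ :=
    Groth.Agent.Lib.DTorCmp.exists_bounded_flat_resolution F b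
  haveI := hb'
  haveI := hqK
  haveI : K.IsLE b := by
    rw [CochainComplex.isLE_iff]
    exact fun i hi =>
      (Groth.Agent.Lib.DTorCmp.exactAt_iff_of_quasiIso qK i).2 (hvan i (Or.inr hi))
  have hK₁fl := Groth.Agent.Lib.DTorCmp.flat_truncLE K b' hKfl b
  have e₂ : DCoh.toD X (K.truncLE b) ≅ DCoh.toD X F :=
    asIso (DerivedCategory.Q.map (K.ιTruncLE b)) ≪≫ asIso (DerivedCategory.Q.map qK)
  have hC : FlatMod.IsFlat (cokernel ((K.truncLE b).d (a - 1) a)) := by
    intro x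
    obtain ⟨E', hE'v, hE'f, ⟨e⟩⟩ := hV x
    let KV : CochainComplex ((V x : X.Opens) : Scheme.{u}).Modules ℤ :=
      (RC (V x).ι).obj (K.truncLE b)
    haveI : KV.IsStrictlyLE b := (CochainComplex.isStrictlyLE_iff KV b).2 (fun i hi =>
      (Scheme.Modules.restrictFunctor (V x).ι).map_isZero
        ((K.truncLE b).isZero_of_isStrictlyLE b i hi))
    have hKVfl : ∀ i, FlatMod.IsFlat (KV.X i) := fun i =>
      isFlat_restrictFunctor (V x).ι (hK₁fl i)
    have eV : Q.obj E' ≅ Q.obj KV :=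
      e ≪≫ (facIso (V x).ι F).symm ≪≫ (DD (V x).ι).mapIso e₂.symm ≪≫
        facIso (V x).ι (K.truncLE b)
    have hflV : FlatMod.IsFlat (cokernel (KV.d (a - 1) a)) :=
      flat_cokernel_of_stalkwise KV b hKVfl a b (fun y =>
        ⟨(stalkCx y).obj E', fun k hk => (stalkFunctor _ y).map_isZero (hE'v k hk),
          fun k => hE'f k y, ⟨stalkDIso0 y eV⟩⟩)
    have hres : FlatMod.IsFlat ((Scheme.Modules.restrictFunctor (V x).ι).obj
        (cokernel ((K.truncLE b).d (a - 1) a))) :=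
      Groth.Agent.Lib.DTorCmp.flatMod_of_iso
        (PreservesCokernel.iso (Scheme.Modules.restrictFunctor (V x).ι)
          ((K.truncLE b).d (a - 1) a)).symm hflV
    have hfin := isFlatAt_of_restrictFunctor (V x).ι
      (show (V x).toScheme from (⟨x, hxV x⟩ : V x)) (hres _)
    exact hfin
  haveI : (K.truncLE b).IsGE a := by
    rw [CochainComplex.isGE_iff]
    intro i hi
    rw [Groth.Agent.Lib.DTorCmp.exactAt_iff_of_quasiIso (K.ιTruncLE b) i,
      Groth.Agent.Lib.DTorCmp.exactAt_iff_of_quasiIso qK i]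
    exact hvan i (Or.inl hi)
  have hK₂fl := Groth.Agent.Lib.DTorCmp.flat_truncGE (K.truncLE b) hK₁fl a hC
  refine ⟨(K.truncLE b).truncGE a, ?_, hK₂fl,
    ⟨(asIso (DerivedCategory.Q.map ((K.truncLE b).πTruncGE a))).symm ≪≫ e₂⟩⟩
  exact fun i hi => Groth.Agent.Lib.CyclesFlat.truncGE_truncLE_isZero K a b i hi

/-! ### S4275 -/

theorem main4275 (X : Scheme.{u}) (E : DCoh.D X) (m n : ℤ) (hmn : m ≤ n) :
    KSix.HasPerfectAmplitudeIn m n E ↔
      DCoh.IsPseudoCoherentD (m - 1) E ∧ DCoh.HasFlatAmplitudeIn m n E := by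
  constructor
  · intro h
    have hperf : DCoh.IsPerfect E := by
      rw [isPerfect_iff]
      intro x
      obtain ⟨V, hxV, hV⟩ := (hasPerfAmp_iff m n E).1 h x
      exact ⟨V, hxV, hV.mono (fun P hP =>
        (show DCoh.IsStrictlyPerfect P from ⟨⟨m, n, hP.1⟩, hP.2⟩))⟩
    refine ⟨isPC_of_isPerfect hperf (m - 1), ?_⟩
    have hG : DCoh.HasFlatAmplitudeIn m n (DCoh.toD X (Q.objPreimage E)) := by
      refine flatAmp_of_cover (Q.objPreimage E) m n (fun x => ?_)
      obtain ⟨V, hxV, hV⟩ := h x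
      obtain ⟨P, hPv, hPf, ⟨i⟩⟩ := hV (Q.objPreimage E) ⟨Q.objObjPreimageIso E⟩
      exact ⟨V, hxV, P, hPv, fun k => isFlat_of_isFinLocFree (hPf k), ⟨i.symm⟩⟩
    exact hasFlatAmp_of_iso (Q.objObjPreimageIso E) hG
  · rintro ⟨hpc, F, hFv, hFf, ⟨e⟩⟩
    refine hasPerfAmp_of_iso e (hasPerfAmp_of_locRep m n _ (fun x => ?_))
    exact exists_locRep_PA_of_flat_pc F m n hmn hFf hFv (isPC_of_iso e.symm hpc) x

/-! ### Direct summands -/

theorem hasFlatAmp_biprod_left {X : Scheme.{u}} (K L : DCoh.D X) [HasBinaryBiproduct K L]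
    (a b : ℤ) (h : DCoh.HasFlatAmplitudeIn a b (K ⊞ L)) : DCoh.HasFlatAmplitudeIn a b K := by
  obtain ⟨F, hFv, hFf, ⟨e⟩⟩ := h
  refine hasFlatAmp_of_iso (Q.objObjPreimageIso K)
    (flatAmp_of_stalkwise (Q.objPreimage K) a b (fun x => ?_))
  haveI : PreservesBinaryBiproducts (stalkFunctor X x).mapDerivedCategory :=
    preservesBinaryBiproducts_of_preservesBiproducts _
  have h1 : DRing.HasTorAmplitudeIn (X.presheaf.stalk x) a b
      (DRing.toD ((stalkCx x).obj F)) :=
    ⟨(stalkCx x).obj F, fun k hk => (stalkFunctor X x).map_isZero (hFv k hk),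
      fun k => hFf k x, ⟨Iso.refl _⟩⟩
  let e1 : DRing.toD ((stalkCx x).obj F) ≅
      (stalkFunctor X x).mapDerivedCategory.obj K ⊞ (stalkFunctor X x).mapDerivedCategory.obj L :=
    ((stalkFunctor X x).mapDerivedCategoryFactors.app F).symm ≪≫
      (stalkFunctor X x).mapDerivedCategory.mapIso e ≪≫
      (stalkFunctor X x).mapDerivedCategory.mapBiprod K L
  have h2 : DRing.HasTorAmplitudeIn (X.presheaf.stalk x) a b
      ((stalkFunctor X x).mapDerivedCategory.obj K) :=
    Groth.Agent.Lib.DMod_helper6.hasTorAmplitudeIn_of_biprod_left _ _ a b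
      (Groth.Agent.Lib.DMod_helper6.hasTorAmplitudeIn_of_iso e1 a b h1)
  let e2 : (stalkFunctor X x).mapDerivedCategory.obj K ≅
      DRing.toD ((stalkCx x).obj (Q.objPreimage K)) :=
    (stalkFunctor X x).mapDerivedCategory.mapIso (Q.objObjPreimageIso K).symm ≪≫
      (stalkFunctor X x).mapDerivedCategoryFactors.app (Q.objPreimage K)
  exact Groth.Agent.Lib.DMod_helper6.hasTorAmplitudeIn_of_iso e2 a b h2

theorem hasFlatAmp_biprod_right {X : Scheme.{u}} (K L : DCoh.D X) [HasBinaryBiproduct K L]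
    (a b : ℤ) (h : DCoh.HasFlatAmplitudeIn a b (K ⊞ L)) : DCoh.HasFlatAmplitudeIn a b L := by
  haveI : HasBinaryBiproduct L K := inferInstance
  exact hasFlatAmp_biprod_left L K a b (hasFlatAmp_of_iso (biprod.braiding K L) h)

theorem main924 {X : Scheme.{u}} (K L : DCoh.D X) [HasBinaryBiproduct K L]
    (h : DCoh.IsPerfect (K ⊞ L)) : DCoh.IsPerfect K ∧ DCoh.IsPerfect L := by
  have hpc : ∀ m : ℤ, DCoh.IsPseudoCoherentD m K ∧ DCoh.IsPseudoCoherentD m L := fun m =>
    main888 m K L (isPC_of_isPerfect h m)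
  have key : ∀ x : X, ∃ (V : X.Opens) (a b : ℤ), x ∈ V ∧
      DCoh.HasFlatAmplitudeIn a b ((DD V.ι).obj K) ∧
      DCoh.HasFlatAmplitudeIn a b ((DD V.ι).obj L) := by
    intro x
    obtain ⟨V, hxV, P, ⟨⟨a, b, hPv⟩, hPf⟩, ⟨e⟩⟩ := (isPerfect_iff _).1 h x
    haveI : PreservesBinaryBiproducts (DD V.ι) :=
      preservesBinaryBiproducts_of_preservesBiproducts _
    have h1 : DCoh.HasFlatAmplitudeIn a b ((DD V.ι).obj K ⊞ (DD V.ι).obj L) :=
      ⟨P, hPv, fun i => isFlat_of_isFinLocFree (hPf i),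
        ⟨e.symm ≪≫ (DD V.ι).mapBiprod K L⟩⟩
    exact ⟨V, a, b, hxV, hasFlatAmp_biprod_left _ _ a b h1, hasFlatAmp_biprod_right _ _ a b h1⟩
  have htdK : DCoh.LocHasFiniteTorDim K := by
    intro x
    obtain ⟨V, a, b, hxV, hK, -⟩ := key x
    refine ⟨V, a, b, hxV, fun F' hF' => ?_⟩
    obtain ⟨i⟩ := hF'
    exact hasFlatAmp_of_iso ((DD V.ι).mapIso i.symm ≪≫ facIso V.ι F') hK
  have htdL : DCoh.LocHasFiniteTorDim L := by
    intro x
    obtain ⟨V, a, b, hxV, -, hL⟩ := key x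
    refine ⟨V, a, b, hxV, fun F' hF' => ?_⟩
    obtain ⟨i⟩ := hF'
    exact hasFlatAmp_of_iso ((DD V.ι).mapIso i.symm ≪≫ facIso V.ι F') hL
  exact ⟨(main914 K).2 ⟨fun m => (hpc m).1, htdK⟩, (main914 L).2 ⟨fun m => (hpc m).2, htdL⟩⟩

end

end Groth.Agent.Lib.DCohLocLead
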