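import Mathlib
import Groth.Prelude
import Groth.Agent.Lib.PerfFlat3_lead
import Groth.Agent.Lib.BMod5_helper6
import Groth.Agent.Lib.FCompl1_helper8

/-!
# Quasi-coherence of the cohomology of pseudo-coherent objects; perfect ⇒ relatively perfect (lead)

`main7240`, `main7248`.  APPEND-ONLY once landed.
-/

set_option autoImplicit false
set_option linter.all false
set_option maxHeartbeats 1600000
set_option backward.isDefEq.respectTransparency false
set_option backward.isDefEq.respectTransparency.types false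
set_option backward.defeqAttrib.useBackward true

universe u

open CategoryTheory CategoryTheory.Limits AlgebraicGeometry TopologicalSpace Opposite
open CategoryTheory.Pretriangulated

attribute [local instance] HasDerivedCategory.standard

namespace Groth.Agent.Lib.DCohLocLead

open DerSch Groth.Agent.Lib.TorAmpIdL

noncomputable section

open DerivedCategory

theorem isQCoh_of_iso {Y : Scheme.{u}} {M N : Y.Modules} (e : M ≅ N) (h : M.IsQuasicoherent) :
    N.IsQuasicoherent :=
  (SheafOfModules.isQuasicoherent Y.ringCatSheaf).prop_of_iso e h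

theorem isQCoh_homology {Y : Scheme.{u}} (P : CochainComplex Y.Modules ℤ)
    (hP : ∀ i, (P.X i).IsQuasicoherent) (i : ℤ) : (P.homology i).IsQuasicoherent := by
  haveI h1 : ((P.sc i).X₁).IsQuasicoherent := hP _
  haveI h2 : ((P.sc i).X₂).IsQuasicoherent := hP _
  haveI h3 : ((P.sc i).X₃).IsQuasicoherent := hP _
  haveI hk : (kernel (P.sc i).g).IsQuasicoherent := SubExt.isQuasicoherent_kernel (P.sc i).g
  haveI hc : (cokernel (kernel.lift (P.sc i).g (P.sc i).f (P.sc i).zero)).IsQuasicoherent :=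
    FComplH8.isQuasicoherent_cokernel _
  exact isQCoh_of_iso (P.sc i).homologyIsoCokernelLift.symm hc

theorem main7240 {X : Scheme.{u}} (m : ℤ) (E : DCoh.D X)
    (hE : DCoh.IsPseudoCoherentD m E) :
    (∀ i : ℤ, m < i → Coh.IsQCoh (DCoh.HD E i)) ∧
      ∀ x : X, ∃ (V : X.Opens) (Q : (V : Scheme.{u}).Modules)
        (π : Q ⟶ (Scheme.Modules.restrictFunctor V.ι).obj (DCoh.HD E m)),
        x ∈ V ∧ Coh.IsQCoh Q ∧ Epi π := by
  rw [isPC_iff] at hE
  choose V hxV hV using hE
  choose P α hP hα using hV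
  have hcov : ⨆ x, V x = ⊤ := by
    rw [eq_top_iff]
    intro x _
    exact Opens.mem_iSup.mpr ⟨x, hxV x⟩
  have hqP : ∀ x i, ((P x).homology i).IsQuasicoherent := fun x i =>
    isQCoh_homology (P x) (fun k => FLFH8.isQuasicoherent_of_finLocFree _ ((hP x).2 k)) i
  constructor
  · intro i hi
    refine Groth.Agent.Lib.BModH6.isQuasicoherent_of_restrict_ι _ V hcov (fun x => ?_)
    obtain ⟨e1⟩ := nonempty_HD_restrict_iso (V x).ι E i
    haveI := (hα x).1 i hi
    let e2 : (P x).homology i ≅ DCoh.HD ((DD (V x).ι).obj E) i :=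
      ((homologyFunctorFactors _ i).app (P x)).symm ≪≫
        asIso ((homologyFunctor _ i).map (α x))
    exact isQCoh_of_iso (e2 ≪≫ e1) (hqP x i)
  · intro x
    obtain ⟨e1⟩ := nonempty_HD_restrict_iso (V x).ι E m
    haveI := (hα x).2
    refine ⟨V x, (P x).homology m,
      ((homologyFunctorFactors _ m).app (P x)).inv ≫ (homologyFunctor _ m).map (α x) ≫ e1.hom,
      hxV x, hqP x m, ?_⟩
    infer_instance

/-! ### Perfect ⇒ relatively perfect -/

theorem isFlatOver_of_isFinLocFree {Y S : Scheme.{u}} (g : Y ⟶ S) [Flat g] {M : Y.Modules}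
    (hM : FlatMod.IsFinLocFree M) : FlatMod.IsFlatOver g M := by
  intro y
  haveI := FLFH8.isQuasicoherent_of_finLocFree M hM
  haveI hfree : Module.Free (Y.presheaf.stalk y) (M.presheaf.stalk y) :=
    FLFH8.free_stalk_of_finLocFree M hM y
  have hfl : (g.stalkMap y).hom.Flat := Flat.stalkMap g y
  show letI := FlatMod.moduleStalkOver g M y
    Module.Flat (S.presheaf.stalk (g.base y)) (M.presheaf.stalk y)
  letI : Algebra (S.presheaf.stalk (g.base y)) (Y.presheaf.stalk y) :=
    (g.stalkMap y).hom.toAlgebra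
  letI : Module (S.presheaf.stalk (g.base y)) (M.presheaf.stalk y) :=
    FlatMod.moduleStalkOver g M y
  haveI : Module.Flat (S.presheaf.stalk (g.base y)) (Y.presheaf.stalk y) := hfl
  haveI : IsScalarTower (S.presheaf.stalk (g.base y)) (Y.presheaf.stalk y)
      (M.presheaf.stalk y) :=
    ⟨fun a b m => by
      show ((g.stalkMap y).hom a * b) • m = (g.stalkMap y).hom a • (b • m)
      exact mul_smul _ _ _⟩
  exact Module.Flat.trans (S.presheaf.stalk (g.base y)) (Y.presheaf.stalk y)
    (M.presheaf.stalk y)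

theorem main7248 {X S : Scheme.{u}} (f : X ⟶ S) [Flat f] (E : DCoh.D X)
    (hE : DCoh.IsPerfect E) :
    (∀ m : ℤ, DCoh.IsPseudoCoherentD m E) ∧ DCoh.LocHasFiniteRelTorDim f E := by
  refine ⟨fun m => isPC_of_isPerfect hE m, fun x => ?_⟩
  obtain ⟨V, hxV, P, ⟨⟨a, b, hPv⟩, hPf⟩, ⟨e⟩⟩ := (isPerfect_iff E).1 hE x
  refine ⟨V, a, b, hxV, fun F' hF' => ?_⟩
  obtain ⟨i⟩ := hF'
  exact ⟨P, hPv, fun k => isFlatOver_of_isFinLocFree (V.ι ≫ f) (hPf k),
    ⟨e.symm ≪≫ (DD V.ι).mapIso i.symm ≪≫ facIso V.ι F'⟩⟩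

end

end Groth.Agent.Lib.DCohLocLead
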