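import Mathlib
import Groth.Prelude
import Groth.Agent.Lib.PerfFlat4_lead
import Groth.Agent.Lib.DMod50_helper6

/-!
# Perfect near a point where the stalk has finite tor dimension (lead)

`exists_locRep_of_stalk_torAmp`, `main6194`.  APPEND-ONLY once landed.
-/

set_option autoImplicit false
set_option linter.all false
set_option maxHeartbeats 1600000
set_option backward.isDefEq.respectTransparency false
set_option backward.isDefEq.respectTransparency.types false
set_option backward.defeqAttrib.useBackward true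

universe u

open CategoryTheory CategoryTheory.Limits AlgebraicGeometry TopologicalSpace Opposite
open CategoryTheory.Pretriangulated

attribute [local instance] HasDerivedCategory.standard

namespace Groth.Agent.Lib.DCohLocLead

open DerSch Groth.Agent.Lib.TorAmpIdL

noncomputable section

/-! ### Pointwise flatness -/

section Pointwise

variable {X : Scheme.{u}}

theorem isFlatAt_of_iso {M N : X.Modules} (e : M ≅ N) (x : X) (h : FlatMod.IsFlatAt M x) :
    FlatMod.IsFlatAt N x := by
  show Module.Flat (X.presheaf.stalk x) (N.presheaf.stalk x)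
  haveI : Module.Flat (X.presheaf.stalk x) ((stalkFunctor X x).obj M) := h
  exact Module.Flat.of_linearEquiv ((stalkFunctor X x).mapIso e).symm.toLinearEquiv

theorem isFlatAt_biprod {A B : X.Modules} (x : X) (hA : FlatMod.IsFlatAt A x)
    (hB : FlatMod.IsFlatAt B x) : FlatMod.IsFlatAt (A ⊞ B) x := by
  show Module.Flat (X.presheaf.stalk x) ((A ⊞ B).presheaf.stalk x)
  haveI : PreservesBinaryBiproducts (stalkFunctor X x) :=
    preservesBinaryBiproducts_of_preservesBinaryProducts _
  let e : (stalkFunctor X x).obj (A ⊞ B) ≅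
      (stalkFunctor X x).obj A ⊞ (stalkFunctor X x).obj B := (stalkFunctor X x).mapBiprod A B
  haveI : Module.Flat (X.presheaf.stalk x)
      ((stalkFunctor X x).obj A ⊞ (stalkFunctor X x).obj B :
        ModuleCat.{u} (X.presheaf.stalk x)) :=
    Groth.Agent.Lib.DMod_helper6.flat_biprod hA hB
  exact Module.Flat.of_linearEquiv e.toLinearEquiv

theorem isFlatAt_cokernel_of_exact_ge (K : CochainComplex X.Modules ℤ) (x : X) (b m : ℤ)
    (hb : ∀ i, b < i → IsZero (K.X i)) (hK : ∀ i, m ≤ i → FlatMod.IsFlatAt (K.X i) x)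
    (hex : ∀ i, m ≤ i → K.ExactAt i) (j i : ℤ) (hji : j + 1 = i) (hi : m ≤ i) :
    FlatMod.IsFlatAt (cokernel (K.d j i)) x := by
  show Module.Flat (X.presheaf.stalk x) ((cokernel (K.d j i)).presheaf.stalk x)
  have hb' : DRing.VanishesAbove ((stalkCx x).obj K) b := fun k hk =>
    (stalkFunctor X x).map_isZero (hb k hk)
  have hflat : ∀ k, m ≤ k → Module.Flat (X.presheaf.stalk x) (((stalkCx x).obj K).X k) :=
    fun k hk => hK k hk
  have hex' : ∀ k, m ≤ k → ((stalkCx x).obj K).ExactAt k := fun k hk =>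
    ShortComplex.Exact.map (hex k hk) (stalkFunctor X x)
  haveI hfl : Module.Flat (X.presheaf.stalk x)
      (((stalkCx x).obj K).X i ⧸ LinearMap.range (((stalkCx x).obj K).d j i).hom) :=
    flat_coker_of_exact_ge ((stalkCx x).obj K) b m hb' hflat hex' (b + 1 - i).toNat j i hji hi
      (by omega)
  let e : (stalkFunctor X x).obj (cokernel (K.d j i)) ≅
      ModuleCat.of (X.presheaf.stalk x)
        (((stalkCx x).obj K).X i ⧸ LinearMap.range (((stalkCx x).obj K).d j i).hom) :=
    PreservesCokernel.iso (stalkFunctor X x) (K.d j i) ≪≫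
      ModuleCat.cokernelIsoRangeQuotient ((stalkFunctor X x).map (K.d j i))
  exact Module.Flat.of_linearEquiv e.toLinearEquiv

theorem isFlatAt_restrictFunctor {Y : Scheme.{u}} (j : Y ⟶ X) [IsOpenImmersion j]
    {M : X.Modules} (y : Y) (hM : FlatMod.IsFlatAt M (j.base y)) :
    FlatMod.IsFlatAt ((Scheme.Modules.restrictFunctor j).obj M) y := by
  show Module.Flat (Y.presheaf.stalk y) ((M.restrict j).presheaf.stalk y)
  haveI : Module.Flat (X.presheaf.stalk (j.base y)) (M.presheaf.stalk (j.base y)) := hM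
  exact flat_of_semilinear_equiv (RestrStalkH8.stalkRingEquiv j y).symm
    (RestrStalkH8.restrictStalkEquiv j M y) (RestrStalkH8.restrictStalkEquiv_smul j M y)

theorem isFlatAt_cokernel_RC {Y : Scheme.{u}} (j : Y ⟶ X) [IsOpenImmersion j]
    (K : CochainComplex X.Modules ℤ) (i k : ℤ) (y : Y)
    (h : FlatMod.IsFlatAt (cokernel (K.d i k)) (j.base y)) :
    FlatMod.IsFlatAt (cokernel (((RC j).obj K).d i k)) y :=
  isFlatAt_of_iso (PreservesCokernel.iso (Scheme.Modules.restrictFunctor j) (K.d i k)) y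
    (isFlatAt_restrictFunctor j y h)

section Stalk

open DRing Groth.Agent.Lib.DMod_helper6 Groth.Agent.Lib.TorAmpCompL Groth.Agent.Lib.TorAmpPushL

/-- pointwise version of `flat_cokernel_of_stalkwise` -/
theorem isFlatAt_cokernel_of_stalk (K : CochainComplex X.Modules ℤ) (b' : ℤ) [K.IsStrictlyLE b']
    (hK : ∀ i : ℤ, FlatMod.IsFlat (K.X i)) (a b : ℤ) (x : X)
    (H : HasTorAmplitudeIn (X.presheaf.stalk x) a b (toD ((stalkCx x).obj K))) :
    FlatMod.IsFlatAt (cokernel (K.d (a - 1) a)) x := by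
  show Module.Flat (X.presheaf.stalk x) ((cokernel (K.d (a - 1) a)).presheaf.stalk x)
  have hb : VanishesAbove ((stalkCx x).obj K) b' := fun i hi =>
    (stalkFunctor X x).map_isZero (K.isZero_of_isStrictlyLE b' i hi)
  have hflat : TermwiseFlat ((stalkCx x).obj K) := fun i => hK i x
  have hTN : ∀ N : ModuleCat.{u} (X.presheaf.stalk x),
      ((TN N).obj ((stalkCx x).obj K)).ExactAt (a - 1) := fun N =>
    exactAt_TN_of_hasTorAmplitudeIn ((stalkCx x).obj K) b' hb hflat a b H N (a - 1) (by omega)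
  haveI hfl : Module.Flat (X.presheaf.stalk x)
      (((stalkCx x).obj K).X a ⧸ LinearMap.range (((stalkCx x).obj K).d (a - 1) a).hom) :=
    flat_coker_of_TN_exact ((stalkCx x).obj K) (a - 1) a (by omega) (hflat a) hTN
  let e : (stalkFunctor X x).obj (cokernel (K.d (a - 1) a)) ≅
      ModuleCat.of (X.presheaf.stalk x)
        (((stalkCx x).obj K).X a ⧸ LinearMap.range (((stalkCx x).obj K).d (a - 1) a).hom) :=
    PreservesCokernel.iso (stalkFunctor X x) (K.d (a - 1) a) ≪≫
      ModuleCat.cokernelIsoRangeQuotient ((stalkFunctor X x).map (K.d (a - 1) a))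
  exact Module.Flat.of_linearEquiv e.toLinearEquiv

end Stalk

end Pointwise

open DerivedCategory

/-! ### Approximation by a chain map -/

theorem exists_approx_chain_map {X : Scheme.{u}} (K : CochainComplex X.Modules ℤ) (m : ℤ)
    (hpc : DCoh.IsPseudoCoherentD m (Q.obj K)) (x : X) :
    ∃ (V : X.Opens) (hxV : x ∈ V) (W : (V : Scheme.{u}).Opens)
      (_ : (show V.toScheme from (⟨x, hxV⟩ : V)) ∈ W)
      (E : CochainComplex (V : Scheme.{u}).Modules ℤ)
      (β : (RC W.ι).obj E ⟶ (RC W.ι).obj ((RC V.ι).obj K)),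
      DCoh.IsStrictlyPerfect E ∧ ∀ i, m < i → QuasiIsoAt β i := by
  rw [isPC_iff] at hpc
  obtain ⟨V, hxV, E, α, hE, hα⟩ := hpc x
  let KV : CochainComplex (V : Scheme.{u}).Modules ℤ := (RC V.ι).obj K
  let α' : Q.obj E ⟶ Q.obj KV := α ≫ (facIso V.ι K).hom
  have hα' : IsApprox m α' := hα.comp (IsApprox.of_isIso _)
  obtain ⟨W, hxW, hW⟩ := main944 hE α' (show V.toScheme from (⟨x, hxV⟩ : V))
  obtain ⟨β, hβ⟩ := hW
  have hβ' : Q.map β = (facIso W.ι E).inv ≫ (DD W.ι).map α' ≫ (facIso W.ι KV).hom := by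
    rw [show (DD W.ι).map α' = (facIso W.ι E).hom ≫ Q.map β ≫ (facIso W.ι KV).inv from hβ]
    simp
  have hβa : IsApprox m (Q.map β) := by
    rw [hβ']
    exact (IsApprox.of_isIso _).comp ((hα'.restrict W.ι).comp (IsApprox.of_isIso _))
  exact ⟨V, hxV, W, hxW, E, β, hE, fun i hi => quasiIsoAt_of_isApprox β m hβa i hi⟩

/-! ### The key spreading-out lemma -/

/-- Let `K` be a bounded above complex of flat modules, exact in degrees `< a`, which is
`(a-1)`-pseudo-coherent, and let `x` be a point at which the complex of stalks has tor amplitude in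
`[a, b]`.  Then `K` is represented by a strictly perfect complex near `x`. -/
theorem exists_locRep_of_stalk_torAmp {X : Scheme.{u}} (K : CochainComplex X.Modules ℤ) (b' : ℤ)
    [K.IsStrictlyLE b'] (hK : ∀ i, FlatMod.IsFlat (K.X i)) (a b : ℤ)
    (hKa : ∀ i, i < a → K.ExactAt i)
    (hpc : DCoh.IsPseudoCoherentD (a - 1) (Q.obj K)) (x : X)
    (H : DRing.HasTorAmplitudeIn (X.presheaf.stalk x) a b (DRing.toD ((stalkCx x).obj K))) :
    ∃ (Y : Scheme.{u}) (j : Y ⟶ X) (_ : IsOpenImmersion j),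
      (∃ y : Y, j y = x) ∧ LocRep SP j (Q.obj K) := by
  obtain ⟨V, hxV, W, hxW, E, β, hE, hq⟩ := exists_approx_chain_map K (a - 1) hpc x
  obtain ⟨⟨p, q, hEv⟩, hEf⟩ := hE
  let xV : V.toScheme := (⟨x, hxV⟩ : V)
  let y : W.toScheme := (⟨xV, hxW⟩ : W)
  let KV : CochainComplex (V : Scheme.{u}).Modules ℤ := (RC V.ι).obj K
  let KY : CochainComplex (W : Scheme.{u}).Modules ℤ := (RC W.ι).obj KV
  let PY : CochainComplex (W : Scheme.{u}).Modules ℤ := (RC W.ι).obj E
  have hPYv : DCoh.VanishesOutside PY p q := fun i hi =>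
    (Scheme.Modules.restrictFunctor W.ι).map_isZero (hEv i hi)
  have hPYf : ∀ i, FlatMod.IsFinLocFree (PY.X i) := fun i =>
    isFinLocFree_restrictFunctor W.ι (hEf i)
  have hKYfl : ∀ i, FlatMod.IsFlat (KY.X i) := fun i =>
    isFlat_restrictFunctor W.ι (isFlat_restrictFunctor V.ι (hK i))
  haveI : KY.IsStrictlyLE b' := (CochainComplex.isStrictlyLE_iff KY b').2 (fun i hi =>
    (Scheme.Modules.restrictFunctor W.ι).map_isZero
      ((Scheme.Modules.restrictFunctor V.ι).map_isZero (K.isZero_of_isStrictlyLE b' i hi)))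
  -- flatness at `y` of the cokernel in degree `a`
  have h0 : FlatMod.IsFlatAt (cokernel (K.d (a - 1) a)) x :=
    isFlatAt_cokernel_of_stalk K b' hK a b x H
  have h1 : FlatMod.IsFlatAt (cokernel (KV.d (a - 1) a)) xV :=
    isFlatAt_cokernel_RC V.ι K (a - 1) a xV h0
  have h2 : FlatMod.IsFlatAt (cokernel (KY.d (a - 1) a)) y :=
    isFlatAt_cokernel_RC W.ι KV (a - 1) a y h1
  -- the truncation of `KY`
  let T : CochainComplex (W : Scheme.{u}).Modules ℤ := KY.truncGE a
  have hTfl : ∀ i, FlatMod.IsFlatAt (T.X i) y :=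
    Groth.Agent.Lib.CyclesFlat.truncGE_mem
      (Fl := fun M : (W : Scheme.{u}).Modules => FlatMod.IsFlatAt M y)
      (fun Z hZ => Groth.Agent.Lib.DTorCmp.flatMod_of_isZero hZ y)
      (fun e h => isFlatAt_of_iso e y h) KY (fun i => hKYfl i y) a h2
  have hTlt : ∀ i, i < a → IsZero (T.X i) := fun i hi => T.isZero_of_isStrictlyGE a i hi
  haveI : T.IsStrictlyLE b' := inferInstance
  let β' : PY ⟶ T := β ≫ KY.πTruncGE a
  have hq' : ∀ i, a ≤ i → QuasiIsoAt β' i := fun i hi => by
    haveI := hq i (by omega)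
    haveI := KY.quasiIsoAt_πTruncGE a i hi
    show QuasiIsoAt (β ≫ KY.πTruncGE a) i
    infer_instance
  -- the cone
  have hCX : ∀ i, (CochainComplex.mappingCone β').X i ≅ PY.X (i + 1) ⊞ T.X i := fun i =>
    HomologicalComplex.homotopyCofiber.XIsoBiprod β' i (i + 1) rfl
  have hCb : ∀ i, max b' q < i → IsZero ((CochainComplex.mappingCone β').X i) := fun i hi => by
    have h1 := le_max_left b' q
    have h2 := le_max_right b' q
    exact IsZero.of_iso ((biprod_isZero_iff _ _).2 ⟨hPYv (i + 1) (Or.inr (by omega)),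
      T.isZero_of_isStrictlyLE b' i (by omega)⟩) (hCX i)
  have hCfl : ∀ i, FlatMod.IsFlatAt ((CochainComplex.mappingCone β').X i) y := fun i =>
    isFlatAt_of_iso (hCX i).symm y
      (isFlatAt_biprod y (isFlat_of_isFinLocFree (hPYf (i + 1)) y) (hTfl i))
  have hCex : ∀ i, a - 1 ≤ i → (CochainComplex.mappingCone β').ExactAt i := by
    intro i hi
    rw [HomologicalComplex.exactAt_iff_isZero_homology]
    refine isZero_homology_mappingCone β' i ?_ ?_
    · rcases (show a ≤ i ∨ i = a - 1 by omega) with h | h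
      · haveI := hq' i h
        haveI : IsIso (HomologicalComplex.homologyMap β' i) :=
          (quasiIsoAt_iff_isIso_homologyMap β' i).1 inferInstance
        infer_instance
      · subst h
        have hz : IsZero (T.homology (a - 1)) :=
          isZero_homology_of_isZero_X T (a - 1) (hTlt _ (by omega))
        exact ⟨fun g h _ => hz.eq_of_src _ _⟩
    · haveI := hq' (i + 1) (by omega)
      haveI : IsIso (HomologicalComplex.homologyMap β' (i + 1)) :=
        (quasiIsoAt_iff_isIso_homologyMap β' (i + 1)).1 inferInstance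
      infer_instance
  have hflC : FlatMod.IsFlatAt
      (cokernel ((CochainComplex.mappingCone β').d (a - 1 - 1) (a - 1))) y :=
    isFlatAt_cokernel_of_exact_ge (CochainComplex.mappingCone β') y (max b' q) (a - 1) hCb
      (fun i _ => hCfl i) hCex (a - 1 - 1) (a - 1) (by omega) le_rfl
  obtain ⟨ec⟩ := nonempty_cokernel_cone_iso β' (a - 1 - 1) (a - 1) a (by omega) (by omega)
    (hTlt _ (by omega)) (hTlt _ (by omega))
  have hflP : FlatMod.IsFlatAt (cokernel (PY.d (a - 1) a)) y := isFlatAt_of_iso ec y hflC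
  -- a neighbourhood where the cokernel is free
  haveI := FLFH8.isQuasicoherent_of_finLocFree _ (hPYf (a - 1))
  haveI := FLFH8.isQuasicoherent_of_finLocFree _ (hPYf a)
  haveI := FLFH8.isFinitePresentation_of_finLocFree _ (hPYf (a - 1))
  haveI := FLFH8.isFinitePresentation_of_finLocFree _ (hPYf a)
  haveI : (cokernel (PY.d (a - 1) a)).IsQuasicoherent :=
    FComplH8.isQuasicoherent_cokernel (PY.d (a - 1) a)
  haveI : SheafOfModules.IsFinitePresentation (R := (W : Scheme.{u}).ringCatSheaf)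
      (cokernel (PY.d (a - 1) a)) :=
    Groth.Agent.Lib.StalkInjH6.isFP_cokernel (PY.d (a - 1) a)
  haveI : Module.Flat ((W : Scheme.{u}).presheaf.stalk y)
      ((cokernel (PY.d (a - 1) a)).presheaf.stalk y) := hflP
  haveI : Module.Finite ((W : Scheme.{u}).presheaf.stalk y)
      ((cokernel (PY.d (a - 1) a)).presheaf.stalk y) :=
    FLFH8.finite_stalk (cokernel (PY.d (a - 1) a)) y
  obtain ⟨U, n, hyU, ⟨eU⟩⟩ :=
    FLFH8.exists_free_nhd (cokernel (PY.d (a - 1) a)) y Module.free_of_flat_of_isLocalRing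
  -- restrict to `U`
  let PU : CochainComplex (U : Scheme.{u}).Modules ℤ := (RC U.ι).obj PY
  let KU : CochainComplex (U : Scheme.{u}).Modules ℤ := (RC U.ι).obj KY
  let βU : PU ⟶ KU := (RC U.ι).map β
  have hPUf : ∀ i, FlatMod.IsFinLocFree (PU.X i) := fun i =>
    isFinLocFree_restrictFunctor U.ι (hPYf i)
  have hlf : FlatMod.IsFinLocFree (cokernel (PU.d (a - 1) a)) :=
    FLFH8.isFinLocFree_of_iso_free (n := n)
      ((PreservesCokernel.iso (Scheme.Modules.restrictFunctor U.ι) (PY.d (a - 1) a)).symm ≪≫ eU)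
  have hT : ∀ i, FlatMod.IsFinLocFree ((PU.truncGE a).X i) := isFinLocFree_truncGE PU hPUf a hlf
  have hqU : ∀ i, a ≤ i → QuasiIsoAt βU i := fun i hi => by
    haveI := hq i (by omega)
    show QuasiIsoAt (((Scheme.Modules.restrictFunctor U.ι).mapHomologicalComplex
      (ComplexShape.up ℤ)).map β) i
    infer_instance
  haveI : QuasiIso (CochainComplex.truncGEMap βU a) :=
    (CochainComplex.quasiIso_truncGEMap_iff βU a).2 (fun i hi => hqU i hi)
  haveI : KU.IsGE a := by
    rw [CochainComplex.isGE_iff]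
    intro i hi
    have e1 : KV.ExactAt i :=
      ShortComplex.Exact.map (hKa i hi) (Scheme.Modules.restrictFunctor V.ι)
    have e2 : KY.ExactAt i := ShortComplex.Exact.map e1 (Scheme.Modules.restrictFunctor W.ι)
    exact ShortComplex.Exact.map e2 (Scheme.Modules.restrictFunctor U.ι)
  obtain ⟨c1⟩ := nonempty_iso_comp W.ι V.ι (facIso V.ι K)
  obtain ⟨c2⟩ := nonempty_iso_comp U.ι (W.ι ≫ V.ι) c1
  refine ⟨(U : Scheme.{u}), U.ι ≫ (W.ι ≫ V.ι), inferInstance, ⟨(⟨y, hyU⟩ : U), rfl⟩,
    PU.truncGE a, ?_, ⟨c2 ≪≫ asIso (Q.map (KU.πTruncGE a)) ≪≫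
      (asIso (Q.map (CochainComplex.truncGEMap βU a))).symm⟩⟩
  show DCoh.IsStrictlyPerfect (PU.truncGE a)
  refine ⟨⟨a, max a q, ?_⟩, hT⟩
  rintro i (hi | hi)
  · exact (PU.truncGE a).isZero_of_isStrictlyGE a i hi
  · have h1 := le_max_left a q
    have h2 := le_max_right a q
    exact IsZero.of_iso ((Scheme.Modules.restrictFunctor U.ι).map_isZero
      (hPYv i (Or.inr (by omega)))) (PU.truncGEXIso a i (by omega))

/-! ### S6194 -/

theorem main6194 {X : Scheme.{u}}
    (hX : ∀ (x : X) (M : Type u) [AddCommGroup M] [Module (X.presheaf.stalk x) M],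
      DRing.HasFiniteTorDim (X.presheaf.stalk x) M)
    (F : CochainComplex X.Modules ℤ) (c d : ℤ) [(DCoh.toD X F).IsGE c] [(DCoh.toD X F).IsLE d] :
    (∀ m : ℤ, DCoh.IsPseudoCoherentD m (DCoh.toD X F)) ↔ DCoh.IsPerfect (DCoh.toD X F) := by
  constructor
  · intro hpc
    haveI : F.IsGE c := (DerivedCategory.isGE_Q_obj_iff F c).1 inferInstance
    haveI : F.IsLE d := (DerivedCategory.isLE_Q_obj_iff F d).1 inferInstance
    obtain ⟨K, qK, b', hb', hKfl, hqK⟩ :=
      Groth.Agent.Lib.DTorCmp.exists_bounded_flat_resolution F d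
    haveI := hb'
    haveI := hqK
    let eK : Q.obj K ≅ Q.obj F := asIso (Q.map qK)
    refine isPerfect_of_iso eK (isPerfect_of_locRep _ (fun x => ?_))
    have hKex : ∀ i, i < c ∨ d < i → K.ExactAt i := by
      intro i hi
      rw [Groth.Agent.Lib.DTorCmp.exactAt_iff_of_quasiIso qK i]
      rcases hi with hi | hi
      · exact F.exactAt_of_isGE c i hi
      · exact F.exactAt_of_isLE d i hi
    have hbd : ∀ i : ℤ, i < c ∨ d < i →
        Subsingleton (Dual.HD (X.presheaf.stalk x) (DRing.toD ((stalkCx x).obj K)) i) := by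
      intro i hi
      refine (Groth.Agent.Lib.DMod_helper6.exactAt_iff_subsingleton_HD (Iso.refl _) i).1 ?_
      exact ShortComplex.Exact.map (hKex i hi) (stalkFunctor X x)
    obtain ⟨a0, b0, H0⟩ :=
      (Groth.Agent.Lib.DMod_helper6.hasFiniteTorDimCx_iff_bounded (hX x) _).2 ⟨c, d, hbd⟩
    have H : DRing.HasTorAmplitudeIn (X.presheaf.stalk x) (min a0 c) b0
        (DRing.toD ((stalkCx x).obj K)) :=
      Groth.Agent.Lib.DMod_helper6.hasTorAmplitudeIn_mono _ a0 b0 (min a0 c) b0
        (min_le_left _ _) le_rfl H0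
    have hKa : ∀ i, i < min a0 c → K.ExactAt i := fun i hi =>
      hKex i (Or.inl (lt_of_lt_of_le hi (min_le_right _ _)))
    exact exists_locRep_of_stalk_torAmp K b' hKfl (min a0 c) b0 hKa
      (isPC_of_iso eK.symm (hpc (min a0 c - 1))) x H
  · intro h m
    exact isPC_of_isPerfect h m

end

end Groth.Agent.Lib.DCohLocLead
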