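import Mathlib
import Groth.Prelude
import Groth.Agent.Lib.CohDev16_helper8

/-!
# Dévissage of coherent modules, XVII: `K₀` of coherent modules is generated by structure sheaves
of integral closed subschemes (helper8)
APPEND-ONLY once landed.
-/

set_option autoImplicit false

namespace CohDevH8

open AlgebraicGeometry CategoryTheory CategoryTheory.Limits TopologicalSpace Opposite
open QcqsLoc QCohExtn IsLocalRing

universe u

variable {X : Scheme.{u}}

section K0

/-- Additivity of classes in `K₀(Coh X)` on short exact sequences of coherent modules. -/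
theorem clSub_shortExact (S : ShortComplex X.Modules) (hS : S.ShortExact) (h1 : Coh.IsCoh S.X₁)
    (h2 : Coh.IsCoh S.X₂) (h3 : Coh.IsCoh S.X₃) :
    KZero.clSub (fun M : X.Modules => Coh.IsCoh M) S.X₂ =
      KZero.clSub (fun M : X.Modules => Coh.IsCoh M) S.X₁ +
        KZero.clSub (fun M : X.Modules => Coh.IsCoh M) S.X₃ := by
  have hmem : (FreeAbelianGroup.of (⟨S.X₂, h2⟩ : Subtype (fun M : X.Modules => Coh.IsCoh M)) -
      FreeAbelianGroup.of ⟨S.X₁, h1⟩ - FreeAbelianGroup.of ⟨S.X₃, h3⟩) ∈
      KZero.relSub (fun M : X.Modules => Coh.IsCoh M) :=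
    AddSubgroup.subset_closure ⟨S, h1, h2, h3, hS, rfl⟩
  have h0 := (QuotientAddGroup.eq_zero_iff _).mpr hmem
  unfold KZero.clSub
  rw [dif_pos h1, dif_pos h2, dif_pos h3]
  rw [QuotientAddGroup.mk_sub, QuotientAddGroup.mk_sub, sub_sub, sub_eq_zero] at h0
  exact h0

theorem clSub_of_isZero [IsLocallyNoetherian X] {Z : X.Modules} (hZ : IsZero Z) :
    KZero.clSub (fun M : X.Modules => Coh.IsCoh M) Z = 0 := by
  have hc := isCoh_of_isZero hZ
  let S : ShortComplex X.Modules := ShortComplex.mk (0 : Z ⟶ Z) (0 : Z ⟶ Z) zero_comp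
  have hS : S.ShortExact := by
    haveI : Mono S.f := ⟨fun _ _ _ => hZ.eq_of_tgt _ _⟩
    haveI : Epi S.g := ⟨fun _ _ _ => hZ.eq_of_src _ _⟩
    exact ShortComplex.ShortExact.mk (ShortComplex.exact_of_isZero_X₂ S hZ)
  have h := clSub_shortExact S hS hc hc hc
  have h' : KZero.clSub (fun M : X.Modules => Coh.IsCoh M) Z =
      KZero.clSub (fun M : X.Modules => Coh.IsCoh M) Z +
        KZero.clSub (fun M : X.Modules => Coh.IsCoh M) Z := h
  exact (add_eq_left.mp h'.symm)

theorem clSub_of_iso [IsLocallyNoetherian X] {M N : X.Modules} (e : M ≅ N) :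
    KZero.clSub (fun M : X.Modules => Coh.IsCoh M) M =
      KZero.clSub (fun M : X.Modules => Coh.IsCoh M) N := by
  by_cases hN : Coh.IsCoh N
  · have hM : Coh.IsCoh M := isCoh_of_iso e hN
    let S : ShortComplex X.Modules := ShortComplex.mk (kernel.ι e.hom) e.hom (kernel.condition _)
    have hS : S.ShortExact := ShortComplex.ShortExact.mk' (ShortComplex.exact_kernel _)
      (inferInstanceAs (Mono (kernel.ι e.hom))) (inferInstanceAs (Epi e.hom))
    have hK : Coh.IsCoh (kernel e.hom) := CohKerH8.isCoh_kernel hM hN _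
    have h := clSub_shortExact S hS hK hM hN
    have hz : KZero.clSub (fun M : X.Modules => Coh.IsCoh M) (kernel e.hom) = 0 :=
      clSub_of_isZero (isZero_kernel_of_mono e.hom)
    have h' : KZero.clSub (fun M : X.Modules => Coh.IsCoh M) M =
        KZero.clSub (fun M : X.Modules => Coh.IsCoh M) (kernel e.hom) +
          KZero.clSub (fun M : X.Modules => Coh.IsCoh M) N := h
    rw [h', hz, zero_add]
  · have hM : ¬ Coh.IsCoh M := fun h => hN (isCoh_of_iso e.symm h)
    unfold KZero.clSub
    rw [dif_neg hM, dif_neg hN]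

/-- The stalk equivalence induced by an isomorphism of modules. -/
noncomputable def stalkEquivOfIso {M N : X.Modules} (e : M ≅ N) (y : X) :
    M.presheaf.stalk y ≃ₗ[X.presheaf.stalk y] N.presheaf.stalk y :=
  LinearEquiv.ofLinearMap (Algz.stalkMapₗ e.hom y) (Algz.stalkMapₗ e.inv y)
    (by rw [← stalkMapₗ_comp, e.inv_hom_id, stalkMapₗ_id])
    (by rw [← stalkMapₗ_comp, e.hom_inv_id, stalkMapₗ_id])

theorem isCoh_closureStructureSheaf [IsLocallyNoetherian X] (y : X) :
    Coh.IsCoh (Cyc.closureStructureSheaf y) :=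
  isCoh_pushforward_of_isFinite _ (isCoh_structureModule _)

theorem support_closureStructureSheaf_subset [IsLocallyNoetherian X] (y : X) :
    CohB1.support (Cyc.closureStructureSheaf y) ⊆ closure {y} := by
  have hc := isCoh_closureStructureSheaf y
  haveI := hc.1
  haveI := hc.2
  have h1 := support_subset_of_killed (IntMult.ptIdeal y) (Cyc.closureStructureSheaf y)
    (killedByIdeal_pushforward _ _)
  unfold IntMult.ptIdeal at h1
  rwa [Scheme.IdealSheafData.coe_support_vanishingIdeal] at h1

/-- `K₀(Coh X)`: the classes of coherent modules with support of dimension `≤ n` and the classes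
of the structure sheaves of the integral closed subschemes of dimension `≤ n` generate the same
subgroup. -/
theorem closure_clSub_eq [IsNoetherian X] (n : ℕ) :
    AddSubgroup.closure {c : KZero.K0sub (fun M : X.Modules => Coh.IsCoh M) |
        ∃ G : X.Modules, Coh.IsCoh G ∧ topologicalKrullDim ↥(CohB1.support G) ≤ n ∧
          c = KZero.clSub (fun M : X.Modules => Coh.IsCoh M) G} =
      AddSubgroup.closure {c : KZero.K0sub (fun M : X.Modules => Coh.IsCoh M) |
        ∃ x : ↥X, topologicalKrullDim ↥(closure ({x} : Set ↥X)) ≤ n ∧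
          c = KZero.clSub (fun M : X.Modules => Coh.IsCoh M) (Cyc.closureStructureSheaf x)} := by
  apply le_antisymm
  · rw [AddSubgroup.closure_le]
    rintro c ⟨G, hG, hdim, rfl⟩
    set B := AddSubgroup.closure {c : KZero.K0sub (fun M : X.Modules => Coh.IsCoh M) |
        ∃ x : ↥X, topologicalKrullDim ↥(closure ({x} : Set ↥X)) ≤ n ∧
          c = KZero.clSub (fun M : X.Modules => Coh.IsCoh M) (Cyc.closureStructureSheaf x)}
      with hB
    let K : X.Modules → Prop := fun M => KZero.clSub (fun M : X.Modules => Coh.IsCoh M) M ∈ B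
    have hiso : ∀ M N : X.Modules, Nonempty (M ≅ N) → K M → K N := by
      rintro M N ⟨e⟩ h
      show KZero.clSub (fun M : X.Modules => Coh.IsCoh M) N ∈ B
      rw [← clSub_of_iso e]
      exact h
    have h0 : ∀ M : X.Modules, IsZero M → K M := by
      intro M hM
      show KZero.clSub (fun M : X.Modules => Coh.IsCoh M) M ∈ B
      rw [clSub_of_isZero hM]
      exact B.zero_mem
    have hex : ∀ S : ShortComplex X.Modules, S.ShortExact → Coh.IsCoh S.X₁ → Coh.IsCoh S.X₂ →
        Coh.IsCoh S.X₃ → (K S.X₁ → K S.X₂ → K S.X₃) ∧ (K S.X₁ → K S.X₃ → K S.X₂) ∧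
          (K S.X₂ → K S.X₃ → K S.X₁) := by
      intro S hS c1 c2 c3
      have h := clSub_shortExact S hS c1 c2 c3
      refine ⟨fun k1 k2 => ?_, fun k1 k3 => ?_, fun k2 k3 => ?_⟩
      · show KZero.clSub (fun M : X.Modules => Coh.IsCoh M) S.X₃ ∈ B
        have e : KZero.clSub (fun M : X.Modules => Coh.IsCoh M) S.X₃ =
            KZero.clSub (fun M : X.Modules => Coh.IsCoh M) S.X₂ -
              KZero.clSub (fun M : X.Modules => Coh.IsCoh M) S.X₁ := by
          rw [h]; abel
        rw [e]
        exact B.sub_mem k2 k1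
      · show KZero.clSub (fun M : X.Modules => Coh.IsCoh M) S.X₂ ∈ B
        rw [h]
        exact B.add_mem k1 k3
      · show KZero.clSub (fun M : X.Modules => Coh.IsCoh M) S.X₁ ∈ B
        have e : KZero.clSub (fun M : X.Modules => Coh.IsCoh M) S.X₁ =
            KZero.clSub (fun M : X.Modules => Coh.IsCoh M) S.X₂ -
              KZero.clSub (fun M : X.Modules => Coh.IsCoh M) S.X₃ := by
          rw [h]; abel
        rw [e]
        exact B.sub_mem k2 k3
    have hext : ∀ S : ShortComplex X.Modules, S.ShortExact → Coh.IsCoh S.X₁ → Coh.IsCoh S.X₂ →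
        Coh.IsCoh S.X₃ → K S.X₁ → K S.X₃ → K S.X₂ :=
      fun S hS c1 c2 c3 k1 k3 => (hex S hS c1 c2 c3).2.1 k1 k3
    have hstep : ∀ (Z : Set X) (hZ : IsClosed Z), IsIrreducible Z → Z ⊆ CohB1.support G →
        (∀ M : X.Modules, Coh.IsCoh M → CohB1.support M ⊆ Z → CohB1.support M ≠ Z → K M) →
        ∀ F : X.Modules, Coh.IsCoh F →
          ClSub.KilledByIdeal (Scheme.IdealSheafData.vanishingIdeal ⟨Z, hZ⟩) F → K F := by
      intro Z hZ hZirr hZG IH F hF hk
      have hy : closure {hZirr.genericPoint} = Z := hZirr.closure_genericPoint hZ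
      obtain ⟨y, hyy⟩ : ∃ y : X, y = hZirr.genericPoint := ⟨_, rfl⟩
      rw [← hyy] at hy
      subst hy
      have hdimZ : topologicalKrullDim ↥(closure ({y} : Set X)) ≤ n :=
        (Topology.IsEmbedding.inclusion hZG).isInducing.topologicalKrullDim_le.trans hdim
      have hKG : K (Cyc.closureStructureSheaf y) :=
        AddSubgroup.subset_closure ⟨y, hdimZ, rfl⟩
      obtain ⟨l⟩ := nonempty_stalk_quotJ_equiv (closure {y}) hZ y rfl
      have l' := (stalkEquivOfIso (quotJStructureIso
        (Scheme.IdealSheafData.vanishingIdeal ⟨closure {y}, hZ⟩)) y).symm.trans l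
      exact step_of_rank_one K hex (closure {y}) hZ y rfl IH (isCoh_closureStructureSheaf y) hKG
        (support_closureStructureSheaf_subset y) l' F hF hk
    exact induction_on_support K hiso h0 hext (CohB1.support G) hstep G hG le_rfl
  · rw [AddSubgroup.closure_le]
    rintro c ⟨x, hdim, rfl⟩
    refine AddSubgroup.subset_closure ⟨Cyc.closureStructureSheaf x, isCoh_closureStructureSheaf x,
      ?_, rfl⟩
    exact (Topology.IsEmbedding.inclusion
      (support_closureStructureSheaf_subset x)).isInducing.topologicalKrullDim_le.trans hdim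

end K0

end CohDevH8
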