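import Mathlib
import Groth.Prelude
import Groth.Agent.Lib.CycLen2_helper8
import Groth.Agent.Lib.CohDev11_helper8

/-!
# Lengths of stalks, III: supports of direct images along closed maps (helper8).
APPEND-ONLY once landed.
-/

set_option autoImplicit false
universe u

open CategoryTheory AlgebraicGeometry TopologicalSpace Opposite

namespace CycLenH8

section PushSupp

variable {X Y : Scheme.{u}} (π : X ⟶ Y) (F : X.Modules)

/-- A section all of whose germs vanish is zero. -/
theorem eq_zero_of_germ_eq_zero {U : X.Opens} (s : Γ(F, U))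
    (h : ∀ (x : X) (hx : x ∈ U), F.presheaf.germ U x hx s = 0) : s = 0 := by
  let F' : TopCat.Sheaf Ab X := ⟨F.presheaf, F.isSheaf⟩
  apply TopCat.Presheaf.section_ext F' U s 0
  intro x hx
  rw [map_zero]
  exact h x hx

/-- If `π` is a closed map and the support of `F` is closed, every point of the support of
`π_* F` is the image of a point of the support of `F`. -/
theorem exists_of_nontrivial_stalk_pushforward (hπ : IsClosedMap π)
    (hF : IsClosed (CohB1.support F)) (y : Y)
    (hy : Nontrivial (((Scheme.Modules.pushforward π).obj F).presheaf.stalk y)) :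
    ∃ x : X, π x = y ∧ Nontrivial (F.presheaf.stalk x) := by
  by_contra hcon
  have hyS : y ∉ π '' (CohB1.support F) := by
    rintro ⟨x, hx, rfl⟩
    exact hcon ⟨x, rfl, not_subsingleton_iff_nontrivial.mp hx⟩
  let V : Y.Opens := ⟨(π '' (CohB1.support F))ᶜ, (hπ _ hF).isOpen_compl⟩
  have hyV : y ∈ V := hyS
  apply not_subsingleton_iff_nontrivial.mpr hy
  rw [SupportCoh.subsingleton_stalk_iff]
  intro U hyU s
  have hyW : y ∈ U ⊓ V := ⟨hyU, hyV⟩
  rw [← TopCat.Presheaf.germ_res_apply ((Scheme.Modules.pushforward π).obj F).presheaf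
    (homOfLE (inf_le_left : U ⊓ V ≤ U)) y hyW s]
  have h0 : ((Scheme.Modules.pushforward π).obj F).presheaf.map
      (homOfLE (inf_le_left : U ⊓ V ≤ U)).op s = 0 := by
    apply eq_zero_of_germ_eq_zero F (U := π ⁻¹ᵁ (U ⊓ V))
      (show Γ(F, π ⁻¹ᵁ (U ⊓ V)) from ((Scheme.Modules.pushforward π).obj F).presheaf.map
        (homOfLE (inf_le_left : U ⊓ V ≤ U)).op s)
    intro x hx
    have hxS : x ∉ CohB1.support F := fun hxS => hx.2 ⟨x, hxS, rfl⟩
    have hsub : Subsingleton (F.presheaf.stalk x) := by
      by_contra h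
      exact hxS h
    exact Subsingleton.elim _ _
  rw [h0, map_zero]

end PushSupp

end CycLenH8
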