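import Mathlib
import Groth.Prelude
import Groth.Agent.Lib.CycLen3_helper8

/-!
# Local finiteness of irreducible components of subsets of locally Noetherian spaces (helper8).
APPEND-ONLY once landed.
-/

set_option autoImplicit false
universe u

open CategoryTheory AlgebraicGeometry TopologicalSpace Opposite

namespace CycLenH8

section Top

variable {X : Type*} [TopologicalSpace X]

/-- In a space covered by open Noetherian subspaces, the irreducible components of any subset
form a locally finite family. -/
theorem locallyFinite_irreducibleComponents_image (S : Set X)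
    (h : ∀ x : X, ∃ U : Set X, IsOpen U ∧ x ∈ U ∧ NoetherianSpace U) :
    LocallyFinite (fun Z : irreducibleComponents S => ((↑) '' (Z : Set S) : Set X)) := by
  intro x
  obtain ⟨U, hUo, hxU, hN⟩ := h x
  refine ⟨U, hUo.mem_nhds hxU, ?_⟩
  let V : Set S := (↑) ⁻¹' U
  have hVo : IsOpen V := hUo.preimage continuous_subtype_val
  have hj : Topology.IsOpenEmbedding (Subtype.val : V → S) := hVo.isOpenEmbedding_subtypeVal
  let i : V → U := fun v => ⟨v.1.1, v.2⟩
  have hi : Topology.IsInducing i := by
    have h1 : Topology.IsInducing ((Subtype.val : U → X) ∘ i) := by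
      have : ((Subtype.val : U → X) ∘ i) = (Subtype.val : S → X) ∘ (Subtype.val : V → S) := rfl
      rw [this]
      exact Topology.IsInducing.subtypeVal.comp Topology.IsInducing.subtypeVal
    have hic : Continuous i :=
      (continuous_subtype_val.comp continuous_subtype_val).subtype_mk _
    exact Topology.IsInducing.of_comp hic continuous_subtype_val h1
  haveI : NoetherianSpace V := hi.noetherianSpace
  haveI : Finite (irreducibleComponents V) :=
    (NoetherianSpace.finite_irreducibleComponents (α := V)).to_subtype
  have hne : ∀ Z : {Z : irreducibleComponents S // (((↑) '' (Z : Set S) : Set X) ∩ U).Nonempty},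
      ((Z.1 : Set S) ∩ Set.range (Subtype.val : V → S)).Nonempty := by
    rintro ⟨Z, y, ⟨s, hs, rfl⟩, hyU⟩
    exact ⟨s, hs, ⟨⟨s, hyU⟩, rfl⟩⟩
  let g : {Z : irreducibleComponents S // (((↑) '' (Z : Set S) : Set X) ∩ U).Nonempty} →
      irreducibleComponents V := fun Z =>
    ⟨(Subtype.val : V → S) ⁻¹' (Z.1 : Set S), preimage_mem_irreducibleComponents Z.1.2 hj (hne Z)⟩
  have hg : Function.Injective g := by
    intro Z₁ Z₂ h12
    have h1 : (Subtype.val : V → S) ⁻¹' (Z₁.1 : Set S) = (Subtype.val : V → S) ⁻¹' (Z₂.1 : Set S) :=
      congrArg Subtype.val h12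
    have h2 : (Z₁.1 : Set S) ∩ Set.range (Subtype.val : V → S) =
        (Z₂.1 : Set S) ∩ Set.range (Subtype.val : V → S) := by
      rw [← Set.image_preimage_eq_inter_range, ← Set.image_preimage_eq_inter_range, h1]
    have hcl : ∀ Z : {Z : irreducibleComponents S //
        (((↑) '' (Z : Set S) : Set X) ∩ U).Nonempty},
        (Z.1 : Set S) = closure ((Z.1 : Set S) ∩ Set.range (Subtype.val : V → S)) := by
      intro Z
      apply Set.Subset.antisymm
      · exact subset_closure_inter_of_isPreirreducible_of_isOpen Z.1.2.1.2 hj.isOpen_range (hne Z)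
      · exact (isClosed_of_mem_irreducibleComponents _ Z.1.2).closure_subset_iff.mpr
          Set.inter_subset_left
    apply Subtype.ext
    apply Subtype.ext
    rw [hcl Z₁, hcl Z₂, h2]
  have hfin := Finite.of_injective g hg
  exact Set.finite_coe_iff.mp hfin

end Top

end CycLenH8
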