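import Mathlib
import Groth.Prelude
import Groth.Agent.Lib.CycLen4_helper8
import Groth.Agent.Lib.PB10_helper8

/-!
# Lengths of stalks, V: flat pullback (helper8).  APPEND-ONLY once landed.
-/

set_option autoImplicit false
universe u

open CategoryTheory AlgebraicGeometry TopologicalSpace Opposite

namespace CycLenH8

section Fibre

variable {X' X : Scheme.{u}} (p : X' ⟶ X)

/-- Every point has a generalization in its fibre which is maximal (under generalization) in
that fibre. -/
theorem exists_maximal_in_fibre (x' : X') :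
    ∃ y : X', y ⤳ x' ∧ p y = p x' ∧ ∀ y' : X', p y' = p y → y' ⤳ y → y' = y := by
  set φ := (p.stalkMap x').hom with hφ
  set I : Ideal (X'.presheaf.stalk x') :=
    Ideal.map φ (IsLocalRing.maximalIdeal (X.presheaf.stalk (p x'))) with hI
  have hIle : I ≤ IsLocalRing.maximalIdeal (X'.presheaf.stalk x') :=
    IsLocalRing.map_maximalIdeal_le φ
  obtain ⟨q, hq, -⟩ := Ideal.exists_minimalPrimes_le hIle
  haveI hqp : q.IsPrime := hq.1.1
  let Q : Spec (X'.presheaf.stalk x') := (⟨q, hqp⟩ : PrimeSpectrum (X'.presheaf.stalk x'))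
  have hcomm : ∀ P : Spec (X'.presheaf.stalk x'),
      p ((X'.fromSpecStalk x') P) = (X.fromSpecStalk (p x')) (Spec.map (p.stalkMap x') P) := by
    intro P
    have h1 := Scheme.SpecMap_stalkMap_fromSpecStalk p (x := x')
    have h2 : (X'.fromSpecStalk x' ≫ p) P = (Spec.map (p.stalkMap x') ≫ X.fromSpecStalk (p x')) P := by
      rw [h1]
    rw [Scheme.Hom.comp_apply, Scheme.Hom.comp_apply] at h2
    exact h2
  have hcl : ∀ P : Spec (X'.presheaf.stalk x'), I ≤ P.asIdeal →
      Spec.map (p.stalkMap x') P = IsLocalRing.closedPoint (X.presheaf.stalk (p x')) := by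
    intro P hP
    apply PrimeSpectrum.ext
    change Ideal.comap φ P.asIdeal = IsLocalRing.maximalIdeal _
    have h1 : IsLocalRing.maximalIdeal (X.presheaf.stalk (p x')) ≤ Ideal.comap φ P.asIdeal :=
      Ideal.map_le_iff_le_comap.mp hP
    exact ((IsLocalRing.maximalIdeal.isMaximal _).eq_of_le
      (Ideal.IsPrime.ne_top inferInstance) h1).symm
  have hspec : ∀ P : Spec (X'.presheaf.stalk x'), (X'.fromSpecStalk x') P ⤳ x' := by
    intro P
    have : (X'.fromSpecStalk x') P ∈ Set.range (X'.fromSpecStalk x') := ⟨P, rfl⟩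
    rw [Scheme.range_fromSpecStalk] at this
    exact this
  refine ⟨(X'.fromSpecStalk x') Q, hspec Q, ?_, ?_⟩
  · rw [hcomm, hcl Q hq.1.2]
    exact Scheme.fromSpecStalk_closedPoint
  · intro y' hy' hy'y
    have hy'x : y' ⤳ x' := hy'y.trans (hspec Q)
    have : y' ∈ Set.range (X'.fromSpecStalk x') := by
      rw [Scheme.range_fromSpecStalk]; exact hy'x
    obtain ⟨Q', rfl⟩ := this
    have hle : Q' ⤳ Q :=
      (X'.fromSpecStalk x').isEmbedding.isInducing.specializes_iff.mp hy'y
    have hle' : Q'.asIdeal ≤ q := (PrimeSpectrum.le_iff_specializes Q' Q).mpr hle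
    have hpQ : p ((X'.fromSpecStalk x') Q) = p x' := by
      rw [hcomm, hcl Q hq.1.2]
      exact Scheme.fromSpecStalk_closedPoint
    rw [hpQ, hcomm] at hy'
    have h3 : Spec.map (p.stalkMap x') Q' = IsLocalRing.closedPoint _ := by
      apply (X.fromSpecStalk (p x')).isEmbedding.injective
      rw [hy']
      exact Scheme.fromSpecStalk_closedPoint.symm
    have h4 : I ≤ Q'.asIdeal := by
      rw [hI, Ideal.map_le_iff_le_comap]
      have : Ideal.comap φ Q'.asIdeal = IsLocalRing.maximalIdeal _ :=
        congrArg PrimeSpectrum.asIdeal h3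
      rw [this]
    have h5 : q ≤ Q'.asIdeal := hq.2 ⟨Q'.isPrime, h4⟩ hle'
    congr 1
    exact PrimeSpectrum.ext (le_antisymm hle' h5)

/-- A dimension function on the source that is `δ ∘ p + c` at the maximal points of the
fibres is `≤ δ ∘ p + c` everywhere. -/
theorem delta_le_of_maximal (δ : X → ℤ) (δ' : X' → ℤ) (hδ' : Cyc.IsDimFun X' δ') (c : ℤ)
    (hc : ∀ x' : X', (∀ y, p y = p x' → y ⤳ x' → y = x') → δ' x' = δ (p x') + c) (x' : X') :
    δ' x' ≤ δ (p x') + c := by
  obtain ⟨y, hyx, hpy, hmax⟩ := exists_maximal_in_fibre p x'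
  have h1 := hc y hmax
  rw [hpy] at h1
  by_cases hne : y = x'
  · rw [← hne, hc y hmax, hpy]
  · have := (hδ' y x' hyx hne).1
    omega

end Fibre

section PullLen

variable {X' X : Scheme.{u}} (p : X' ⟶ X) [Flat p] (F : X.Modules) [F.IsQuasicoherent]

/-- The length of the stalk of a flat pullback. -/
theorem length_stalk_pullback (x' : X') :
    Module.length (X'.presheaf.stalk x')
        (((Scheme.Modules.pullback p).obj F).presheaf.stalk x') =
      Module.length (X.presheaf.stalk (p x')) (F.presheaf.stalk (p x')) *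
        Module.length (X'.presheaf.stalk x') (X'.presheaf.stalk x' ⧸
          Ideal.map (p.stalkMap x').hom
            (IsLocalRing.maximalIdeal (X.presheaf.stalk (p x')))) := by
  letI alg : Algebra (X.presheaf.stalk (p x')) (X'.presheaf.stalk x') :=
    (p.stalkMap x').hom.toAlgebra
  letI : Module (X.presheaf.stalk (p x'))
      (((Scheme.Modules.pullback p).obj F).presheaf.stalk x') :=
    Module.compHom _ (p.stalkMap x').hom
  haveI : IsScalarTower (X.presheaf.stalk (p x')) (X'.presheaf.stalk x')
      (((Scheme.Modules.pullback p).obj F).presheaf.stalk x') :=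
    IsScalarTower.of_algebraMap_smul fun _ _ => rfl
  have hbc : IsBaseChange (X'.presheaf.stalk x') (PBH8.cStalkLin p F x') :=
    PBH8.isBaseChange_cStalk p F x'
  haveI : IsLocalHom (algebraMap (X.presheaf.stalk (p x')) (X'.presheaf.stalk x')) := by
    rw [RingHom.algebraMap_toAlgebra]
    infer_instance
  haveI : Module.Flat (X.presheaf.stalk (p x')) (X'.presheaf.stalk x') := Flat.stalkMap p x'
  rw [← hbc.equiv.length_eq, IsLocalRing.length_baseChange]
  rfl

/-- The stalk of a flat pullback is nontrivial iff the stalk downstairs is. -/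
theorem nontrivial_stalk_pullback_iff (x' : X') :
    Nontrivial (((Scheme.Modules.pullback p).obj F).presheaf.stalk x') ↔
      Nontrivial (F.presheaf.stalk (p x')) := by
  rw [← not_subsingleton_iff_nontrivial, ← not_subsingleton_iff_nontrivial,
    ← Module.length_eq_zero_iff (R := X'.presheaf.stalk x'),
    ← Module.length_eq_zero_iff (R := X.presheaf.stalk (p x')), length_stalk_pullback]
  have hne : Module.length (X'.presheaf.stalk x') (X'.presheaf.stalk x' ⧸
      Ideal.map (p.stalkMap x').hom
        (IsLocalRing.maximalIdeal (X.presheaf.stalk (p x')))) ≠ 0 := by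
    rw [Ne, Module.length_eq_zero_iff, not_subsingleton_iff_nontrivial,
      Ideal.Quotient.nontrivial_iff]
    exact (IsLocalRing.map_maximalIdeal_lt_top (p.stalkMap x').hom).ne
  rw [mul_eq_zero]
  tauto

end PullLen

end CycLenH8
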