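import Mathlib
import Groth.Prelude
import Groth.Agent.Lib.CycLen5_helper8

/-!
# Lengths of stalks, VI: composition of flat pullbacks (helper8).  APPEND-ONLY once landed.
-/

set_option autoImplicit false
universe u

open CategoryTheory AlgebraicGeometry TopologicalSpace Opposite

namespace CycLenH8

section Alg

variable {A B C : Type*} [CommRing A] [CommRing B] [CommRing C] [IsLocalRing A] [IsLocalRing B]
  [IsLocalRing C]

/-- Multiplicativity of the length of the closed fibre along a flat local homomorphism. -/
theorem length_quot_map_comp (φ : A →+* B) (ψ : B →+* C) [IsLocalHom ψ] (hψ : ψ.Flat) :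
    Module.length C (C ⧸ Ideal.map (ψ.comp φ) (IsLocalRing.maximalIdeal A)) =
      Module.length B (B ⧸ Ideal.map φ (IsLocalRing.maximalIdeal A)) *
        Module.length C (C ⧸ Ideal.map ψ (IsLocalRing.maximalIdeal B)) := by
  letI : Algebra B C := ψ.toAlgebra
  haveI : Module.Flat B C := hψ
  haveI : IsLocalHom (algebraMap B C) := by
    rw [RingHom.algebraMap_toAlgebra]
    infer_instance
  set I := Ideal.map φ (IsLocalRing.maximalIdeal A) with hI
  have h1 : Ideal.map (ψ.comp φ) (IsLocalRing.maximalIdeal A) = Ideal.map (algebraMap B C) I := by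
    rw [hI, Ideal.map_map]
    rfl
  rw [h1, (Algebra.TensorProduct.quotIdealMapEquivTensorQuot C I).toLinearEquiv.length_eq,
    IsLocalRing.length_baseChange]
  rfl

end Alg

section Geom

variable {X'' X' X : Scheme.{u}} (p : X' ⟶ X) (p' : X'' ⟶ X')

theorem length_fibre_comp [Flat p'] (x'' : X'') :
    Module.length (X''.presheaf.stalk x'') (X''.presheaf.stalk x'' ⧸
        Ideal.map ((p' ≫ p).stalkMap x'').hom
          (IsLocalRing.maximalIdeal (X.presheaf.stalk ((p' ≫ p) x'')))) =
      Module.length (X'.presheaf.stalk (p' x'')) (X'.presheaf.stalk (p' x'') ⧸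
        Ideal.map (p.stalkMap (p' x'')).hom
          (IsLocalRing.maximalIdeal (X.presheaf.stalk (p (p' x''))))) *
      Module.length (X''.presheaf.stalk x'') (X''.presheaf.stalk x'' ⧸
        Ideal.map (p'.stalkMap x'').hom
          (IsLocalRing.maximalIdeal (X'.presheaf.stalk (p' x'')))) := by
  rw [Scheme.Hom.stalkMap_comp p' p x'']
  exact length_quot_map_comp (p.stalkMap (p' x'')).hom (p'.stalkMap x'').hom (Flat.stalkMap p' x'')

/-- A point maximal in its fibre for a composite is maximal in its fibre for the first map, and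
its image is maximal in its fibre for the second map (going down for flat morphisms). -/
theorem maximal_comp [Flat p'] (x'' : X'')
    (hmax : ∀ y, (p' ≫ p) y = (p' ≫ p) x'' → y ⤳ x'' → y = x'') :
    (∀ y, p' y = p' x'' → y ⤳ x'' → y = x'') ∧
      (∀ y', p y' = p (p' x'') → y' ⤳ p' x'' → y' = p' x'') := by
  constructor
  · intro y hy hyx
    apply hmax y _ hyx
    rw [Scheme.Hom.comp_apply, Scheme.Hom.comp_apply, hy]
  · intro y' hy' hy'x
    obtain ⟨y'', hy''x, hp'y''⟩ := Flat.generalizingMap p' hy'x
    have := hmax y'' (by rw [Scheme.Hom.comp_apply, Scheme.Hom.comp_apply, hp'y'', hy']) hy''x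
    rw [← hp'y'', this]

end Geom

end CycLenH8
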