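import Mathlib
import Groth.Prelude
import Groth.Agent.Lib.CycLen6_helper8

/-!
# Dimension of closures of points (helper8).  APPEND-ONLY once landed.
-/

set_option autoImplicit false
universe u

open CategoryTheory AlgebraicGeometry TopologicalSpace Opposite

namespace CycLenH8

section Top

variable {X : Type*} [TopologicalSpace X]

/-- If `closure {x} ⊊ closure {t} ⊆ Z₀`, then `dim Z₀ ≥ dim closure {x} + 1`. -/
theorem succ_le_topologicalKrullDim {Z₀ : Set X} {x t : X} (ht : t ∈ Z₀) (htx : t ⤳ x)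
    (hxt : ¬ x ⤳ t) (hxZ : closure {x} ⊆ Z₀) {n : ℕ}
    (hn : (n : WithBot ℕ∞) ≤ topologicalKrullDim ↥(closure ({x} : Set X))) :
    ((n + 1 : ℕ) : WithBot ℕ∞) ≤ topologicalKrullDim ↥Z₀ := by
  unfold topologicalKrullDim at hn ⊢
  rw [Order.le_krullDim_iff] at hn ⊢
  obtain ⟨l, hl⟩ := hn
  have hj : Topology.IsInducing (Set.inclusion hxZ) := (Topology.IsEmbedding.inclusion hxZ).isInducing
  let l' : LTSeries (IrreducibleCloseds ↥Z₀) :=
    l.map (IrreducibleCloseds.map (Set.inclusion hxZ) hj.continuous)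
      (IrreducibleCloseds.map_strictMono_of_isInducing hj)
  let T : IrreducibleCloseds ↥Z₀ :=
    ⟨closure {(⟨t, ht⟩ : ↥Z₀)}, isIrreducible_singleton.closure, isClosed_closure⟩
  have hA : IsClosed {z : ↥Z₀ | (z : X) ∈ closure ({x} : Set X)} :=
    isClosed_closure.preimage continuous_subtype_val
  have hlast : l'.last < T := by
    have h1 : (l'.last : Set ↥Z₀) ⊆ {z : ↥Z₀ | (z : X) ∈ closure ({x} : Set X)} := by
      change closure (Set.inclusion hxZ '' (l.last : Set ↥(closure ({x} : Set X)))) ⊆ _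
      apply hA.closure_subset_iff.mpr
      rintro _ ⟨w, -, rfl⟩
      exact w.2
    have h2 : {z : ↥Z₀ | (z : X) ∈ closure ({x} : Set X)} ⊆ (T : Set ↥Z₀) := by
      intro z hz
      change z ∈ closure {(⟨t, ht⟩ : ↥Z₀)}
      rw [Topology.IsInducing.subtypeVal.closure_eq_preimage_closure_image, Set.image_singleton]
      exact (specializes_iff_closure_subset.mp htx) hz
    refine lt_of_le_of_ne (fun z hz => h2 (h1 hz)) ?_
    intro heq
    have h3 : (⟨t, ht⟩ : ↥Z₀) ∈ (l'.last : Set ↥Z₀) := by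
      rw [heq]
      exact subset_closure (Set.mem_singleton _)
    exact hxt (specializes_iff_mem_closure.mpr (h1 h3))
  refine ⟨l'.snoc T hlast, ?_⟩
  simp [l', hl]

/-- A point of a closed set of dimension `≤ n` whose closure has dimension `n` is maximal under
generalization in that closed set. -/
theorem eq_of_specializes_of_dim [T0Space X] {Z₀ : Set X} (hZ₀ : IsClosed Z₀) {n : ℕ}
    (hdim : topologicalKrullDim ↥Z₀ ≤ n) {x t : X} (ht : t ∈ Z₀) (htx : t ⤳ x)
    (hx : topologicalKrullDim ↥(closure ({x} : Set X)) = n) : t = x := by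
  by_contra hne
  have hxt : ¬ x ⤳ t := fun h => hne ((htx.antisymm h).eq)
  have hxZ : closure {x} ⊆ Z₀ :=
    hZ₀.closure_subset_iff.mpr (Set.singleton_subset_iff.mpr (htx.mem_closed hZ₀ ht))
  have h1 := succ_le_topologicalKrullDim ht htx hxt hxZ (n := n) hx.ge
  have h2 := h1.trans hdim
  have h3 : ((n + 1 : ℕ) : WithBot ℕ∞) ≤ ((n : ℕ) : WithBot ℕ∞) := h2
  rw [Nat.cast_le] at h3
  omega

/-- In a Noetherian quasi-sober `T₀` space, a closed set has finitely many maximal points. -/
theorem finite_maximal_points [NoetherianSpace X] [QuasiSober X] [T0Space X] {Z₀ : Set X}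
    (hZ₀ : IsClosed Z₀) : {x : X | x ∈ Z₀ ∧ ∀ t ∈ Z₀, t ⤳ x → t = x}.Finite := by
  obtain ⟨S, hSf, hSc, hSi, hSU⟩ := NoetherianSpace.exists_finite_set_isClosed_irreducible hZ₀
  refine Set.Finite.of_injOn (f := fun x : X => closure ({x} : Set X)) (t := S) ?_ ?_ hSf
  · rintro x ⟨hx, hmax⟩
    rw [hSU] at hx
    obtain ⟨W, hWS, hxW⟩ := hx
    obtain ⟨g, hg⟩ := QuasiSober.sober (hSi W hWS) (hSc W hWS)
    have hgW : g ∈ W := hg.mem
    have hgZ : g ∈ Z₀ := by rw [hSU]; exact ⟨W, hWS, hgW⟩
    have hgx : g ⤳ x := hg.specializes hxW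
    have := hmax g hgZ hgx
    subst this
    change closure {g} ∈ S
    rw [hg.def]
    exact hWS
  · rintro x - y - hxy
    have hxy' : closure ({x} : Set X) = closure {y} := hxy
    apply (Specializes.antisymm _ _).eq
    · rw [specializes_iff_closure_subset, hxy']
    · rw [specializes_iff_closure_subset, hxy']

end Top

end CycLenH8
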