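import Mathlib
import Groth.Prelude
import Groth.Agent.Lib.CycLen7_helper8
import Groth.Agent.Lib.CohDev17_helper8

/-!
# The class of a coherent module in `K₀` modulo lower dimension (helper8).
APPEND-ONLY once landed.
-/

set_option autoImplicit false
universe u

open CategoryTheory CategoryTheory.Limits AlgebraicGeometry TopologicalSpace Opposite

namespace CycLenH8

open CohDevH8

variable {X : Scheme.{u}}

/-- The contribution of the point `x` to the `n`-dimensional part of the class of `F`. -/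
noncomputable def lenTerm (n : ℕ) (F : X.Modules) (x : X) :
    KZero.K0sub (fun M : X.Modules => Coh.IsCoh M) :=
  if topologicalKrullDim ↥(closure ({x} : Set ↥X)) = n then
    (Module.length (X.presheaf.stalk x) (F.presheaf.stalk x)).toNat •
      KZero.clSub (fun M : X.Modules => Coh.IsCoh M) (Cyc.closureStructureSheaf x)
  else 0

/-- The `n`-dimensional part of the class of `F`. -/
noncomputable def lenSum (n : ℕ) (F : X.Modules) : KZero.K0sub (fun M : X.Modules => Coh.IsCoh M) :=
  finsum (lenTerm n F)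

theorem subsingleton_stalk_of_isZero {M : X.Modules} (hM : IsZero M) (x : X) :
    Subsingleton (M.presheaf.stalk x) := by
  refine subsingleton_of_forall_eq 0 (fun m => ?_)
  have h1 : Algz.stalkMapₗ (𝟙 M) x m = m := by rw [stalkMapₗ_id]; rfl
  have h2 : (𝟙 M) = 0 := hM.eq_of_src _ _
  rw [h2, stalkMapₗ_zero] at h1
  exact h1.symm

theorem support_eq_empty_of_isZero {M : X.Modules} (hM : IsZero M) : CohB1.support M = ∅ := by
  ext x
  simp only [Set.mem_empty_iff_false, iff_false]
  intro hx
  exact hx (subsingleton_stalk_of_isZero hM x)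

theorem lenTerm_of_iso (n : ℕ) {M N : X.Modules} (e : M ≅ N) (x : X) :
    lenTerm n M x = lenTerm n N x := by
  unfold lenTerm
  rw [(stalkEquivOfIso e x).length_eq]

theorem lenSum_of_iso (n : ℕ) {M N : X.Modules} (e : M ≅ N) : lenSum n M = lenSum n N := by
  unfold lenSum
  congr 1
  funext x
  exact lenTerm_of_iso n e x

theorem lenTerm_of_subsingleton (n : ℕ) (M : X.Modules) (x : X)
    (h : Subsingleton (M.presheaf.stalk x)) : lenTerm n M x = 0 := by
  unfold lenTerm
  split_ifs
  · rw [Module.length_eq_zero]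
    simp
  · rfl

theorem lenSum_of_isZero (n : ℕ) {M : X.Modules} (hM : IsZero M) : lenSum n M = 0 := by
  unfold lenSum
  have : lenTerm n M = fun _ => 0 := by
    funext x
    exact lenTerm_of_subsingleton n M x (subsingleton_stalk_of_isZero hM x)
  rw [this, finsum_zero]

section Dim

variable [IsNoetherian X] {Z₀ : Set X} (hZ₀ : IsClosed Z₀) {n : ℕ}
  (hdim : topologicalKrullDim ↥Z₀ ≤ n)

include hZ₀ hdim in
theorem isFiniteLength_stalk_of_dim {F : X.Modules} (hF : Coh.IsCoh F)
    (hFZ : CohB1.support F ⊆ Z₀) (x : X)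
    (hx : topologicalKrullDim ↥(closure ({x} : Set ↥X)) = n) :
    IsFiniteLength (X.presheaf.stalk x) (F.presheaf.stalk x) :=
  isFiniteLength_stalk hF x (fun _ htx ht => eq_of_specializes_of_dim hZ₀ hdim (hFZ ht) htx hx)

include hZ₀ hdim in
theorem lenTerm_support_subset {F : X.Modules} (hFZ : CohB1.support F ⊆ Z₀) :
    Function.support (lenTerm n F) ⊆ {x : X | x ∈ Z₀ ∧ ∀ t ∈ Z₀, t ⤳ x → t = x} := by
  intro x hx
  rw [Function.mem_support] at hx
  have h1 : topologicalKrullDim ↥(closure ({x} : Set ↥X)) = n := by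
    by_contra h
    exact hx (by unfold lenTerm; rw [if_neg h])
  have h2 : x ∈ CohB1.support F := by
    intro hsub
    exact hx (lenTerm_of_subsingleton n F x hsub)
  exact ⟨hFZ h2, fun t ht htx => eq_of_specializes_of_dim hZ₀ hdim ht htx h1⟩

include hZ₀ hdim in
theorem lenSum_eq_sum {F : X.Modules} (hFZ : CohB1.support F ⊆ Z₀) :
    lenSum n F = ∑ x ∈ (finite_maximal_points hZ₀).toFinset, lenTerm n F x := by
  unfold lenSum
  apply finsum_eq_sum_of_support_subset
  rw [Set.Finite.coe_toFinset]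
  exact lenTerm_support_subset hZ₀ hdim hFZ

include hZ₀ hdim in
theorem lenTerm_add (T : ShortComplex X.Modules) (hT : T.ShortExact) (h₂ : Coh.IsCoh T.X₂)
    (h2Z : CohB1.support T.X₂ ⊆ Z₀) (x : X) :
    lenTerm n T.X₂ x = lenTerm n T.X₁ x + lenTerm n T.X₃ x := by
  unfold lenTerm
  split_ifs with hx
  · have hfin := isFiniteLength_stalk_of_dim hZ₀ hdim h₂ h2Z x hx
    rw [← Module.length_ne_top_iff] at hfin
    have hadd := length_stalk_add T hT x
    rw [hadd] at hfin
    have hne1 : Module.length (X.presheaf.stalk x) (T.X₁.presheaf.stalk x) ≠ ⊤ :=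
      fun h => hfin (by rw [h, top_add])
    have hne3 : Module.length (X.presheaf.stalk x) (T.X₃.presheaf.stalk x) ≠ ⊤ :=
      fun h => hfin (by rw [h, add_top])
    rw [hadd, ENat.toNat_add hne1 hne3, add_nsmul]
  · rw [add_zero]

include hZ₀ hdim in
theorem lenSum_add (T : ShortComplex X.Modules) (hT : T.ShortExact) (h₂ : Coh.IsCoh T.X₂)
    (h1Z : CohB1.support T.X₁ ⊆ Z₀) (h2Z : CohB1.support T.X₂ ⊆ Z₀)
    (h3Z : CohB1.support T.X₃ ⊆ Z₀) :
    lenSum n T.X₂ = lenSum n T.X₁ + lenSum n T.X₃ := by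
  rw [lenSum_eq_sum hZ₀ hdim h1Z, lenSum_eq_sum hZ₀ hdim h2Z, lenSum_eq_sum hZ₀ hdim h3Z,
    ← Finset.sum_add_distrib]
  exact Finset.sum_congr rfl (fun x _ => lenTerm_add hZ₀ hdim T hT h₂ h2Z x)

end Dim

theorem length_residueField (R : Type*) [CommRing R] [IsLocalRing R] :
    Module.length R (IsLocalRing.ResidueField R) = 1 := by
  rw [Module.length_eq_one_iff]
  exact isSimpleModule_iff_quot_maximal.mpr
    ⟨IsLocalRing.maximalIdeal R, inferInstance, ⟨LinearEquiv.refl _ _⟩⟩

/-- **The class of a coherent module modulo lower dimension**: for `F` coherent with support of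
dimension `≤ n`, `[F] - ∑_x length(F_x) [O_{x̄}]` (sum over the points `x` with `dim x̄ = n`) lies
in the subgroup generated by the classes of modules with support of dimension `< n`. -/
theorem clSub_sub_lenSum_mem [IsNoetherian X] (n : ℕ) (F : X.Modules) (hF : Coh.IsCoh F)
    (hsupp : topologicalKrullDim ↥(CohB1.support F) ≤ n) :
    KZero.clSub (fun M : X.Modules => Coh.IsCoh M) F - lenSum n F ∈
      AddSubgroup.closure {c : KZero.K0sub (fun M : X.Modules => Coh.IsCoh M) |
        ∃ G : X.Modules, Coh.IsCoh G ∧ topologicalKrullDim ↥(CohB1.support G) < n ∧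
          c = KZero.clSub (fun M : X.Modules => Coh.IsCoh M) G} := by
  haveI := hF.1
  haveI := hF.2
  set Z₀ := CohB1.support F with hZ₀def
  have hZ₀ : IsClosed Z₀ := SupportCoh.isClosed_support F
  set B := AddSubgroup.closure {c : KZero.K0sub (fun M : X.Modules => Coh.IsCoh M) |
        ∃ G : X.Modules, Coh.IsCoh G ∧ topologicalKrullDim ↥(CohB1.support G) < n ∧
          c = KZero.clSub (fun M : X.Modules => Coh.IsCoh M) G} with hB
  let K : X.Modules → Prop := fun M => CohB1.support M ⊆ Z₀ ∧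
    KZero.clSub (fun M : X.Modules => Coh.IsCoh M) M - lenSum n M ∈ B
  have hiso : ∀ M N : X.Modules, Nonempty (M ≅ N) → K M → K N := by
    rintro M N ⟨e⟩ ⟨h1, h2⟩
    refine ⟨?_, ?_⟩
    · rw [← support_eq_of_iso e]; exact h1
    · rw [← clSub_of_iso e, ← lenSum_of_iso n e]; exact h2
  have h0 : ∀ M : X.Modules, IsZero M → K M := by
    intro M hM
    refine ⟨?_, ?_⟩
    · rw [support_eq_empty_of_isZero hM]; exact Set.empty_subset _
    · rw [clSub_of_isZero hM, lenSum_of_isZero n hM, sub_zero]; exact B.zero_mem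
  have hex : ∀ S : ShortComplex X.Modules, S.ShortExact → Coh.IsCoh S.X₁ → Coh.IsCoh S.X₂ →
      Coh.IsCoh S.X₃ → (K S.X₁ → K S.X₂ → K S.X₃) ∧ (K S.X₁ → K S.X₃ → K S.X₂) ∧
        (K S.X₂ → K S.X₃ → K S.X₁) := by
    intro S hS c1 c2 c3
    haveI := c2.1
    haveI := c3.1
    have hs := SupportCoh.support_shortExact S hS
    have h := clSub_shortExact S hS c1 c2 c3
    have key : ∀ (h1Z : CohB1.support S.X₁ ⊆ Z₀) (h2Z : CohB1.support S.X₂ ⊆ Z₀)
        (h3Z : CohB1.support S.X₃ ⊆ Z₀),
        KZero.clSub (fun M : X.Modules => Coh.IsCoh M) S.X₂ - lenSum n S.X₂ =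
          (KZero.clSub (fun M : X.Modules => Coh.IsCoh M) S.X₁ - lenSum n S.X₁) +
            (KZero.clSub (fun M : X.Modules => Coh.IsCoh M) S.X₃ - lenSum n S.X₃) := by
      intro h1Z h2Z h3Z
      rw [h, lenSum_add hZ₀ hsupp S hS c2 h1Z h2Z h3Z]
      abel
    refine ⟨fun k1 k2 => ?_, fun k1 k3 => ?_, fun k2 k3 => ?_⟩
    · have h3Z : CohB1.support S.X₃ ⊆ Z₀ := fun x hx => k2.1 (by rw [hs]; exact Or.inr hx)
      refine ⟨h3Z, ?_⟩
      have e := key k1.1 k2.1 h3Z
      have e' : KZero.clSub (fun M : X.Modules => Coh.IsCoh M) S.X₃ - lenSum n S.X₃ =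
          (KZero.clSub (fun M : X.Modules => Coh.IsCoh M) S.X₂ - lenSum n S.X₂) -
            (KZero.clSub (fun M : X.Modules => Coh.IsCoh M) S.X₁ - lenSum n S.X₁) := by
        rw [e]; abel
      rw [e']
      exact B.sub_mem k2.2 k1.2
    · have h2Z : CohB1.support S.X₂ ⊆ Z₀ := by
        rw [hs]; exact Set.union_subset k1.1 k3.1
      refine ⟨h2Z, ?_⟩
      rw [key k1.1 h2Z k3.1]
      exact B.add_mem k1.2 k3.2
    · have h1Z : CohB1.support S.X₁ ⊆ Z₀ := fun x hx => k2.1 (by rw [hs]; exact Or.inl hx)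
      refine ⟨h1Z, ?_⟩
      have e := key h1Z k2.1 k3.1
      have e' : KZero.clSub (fun M : X.Modules => Coh.IsCoh M) S.X₁ - lenSum n S.X₁ =
          (KZero.clSub (fun M : X.Modules => Coh.IsCoh M) S.X₂ - lenSum n S.X₂) -
            (KZero.clSub (fun M : X.Modules => Coh.IsCoh M) S.X₃ - lenSum n S.X₃) := by
        rw [e]; abel
      rw [e']
      exact B.sub_mem k2.2 k3.2
  have hext : ∀ S : ShortComplex X.Modules, S.ShortExact → Coh.IsCoh S.X₁ → Coh.IsCoh S.X₂ →
      Coh.IsCoh S.X₃ → K S.X₁ → K S.X₃ → K S.X₂ :=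
    fun S hS c1 c2 c3 k1 k3 => (hex S hS c1 c2 c3).2.1 k1 k3
  have hstep : ∀ (Z : Set X) (hZ : IsClosed Z), IsIrreducible Z → Z ⊆ Z₀ →
      (∀ M : X.Modules, Coh.IsCoh M → CohB1.support M ⊆ Z → CohB1.support M ≠ Z → K M) →
      ∀ F : X.Modules, Coh.IsCoh F →
        ClSub.KilledByIdeal (Scheme.IdealSheafData.vanishingIdeal ⟨Z, hZ⟩) F → K F := by
    intro Z hZ hZirr hZG IH F' hF' hk
    have hy : closure {hZirr.genericPoint} = Z := hZirr.closure_genericPoint hZ
    obtain ⟨y, hyy⟩ : ∃ y : X, y = hZirr.genericPoint := ⟨_, rfl⟩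
    rw [← hyy] at hy
    subst hy
    have hyZ₀ : y ∈ Z₀ := hZG (subset_closure (Set.mem_singleton y))
    obtain ⟨l⟩ := nonempty_stalk_quotJ_equiv (closure {y}) hZ y rfl
    have l' : (Cyc.closureStructureSheaf y).presheaf.stalk y ≃ₗ[X.presheaf.stalk y]
        IsLocalRing.ResidueField (X.presheaf.stalk y) := (stalkEquivOfIso (quotJStructureIso
      (Scheme.IdealSheafData.vanishingIdeal ⟨closure {y}, hZ⟩)) y).symm.trans l
    have hGsupp := support_closureStructureSheaf_subset y
    have hterm0 : ∀ x : X, x ≠ y → lenTerm n (Cyc.closureStructureSheaf y) x = 0 := by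
      intro x hxy
      by_cases hx : topologicalKrullDim ↥(closure ({x} : Set ↥X)) = n
      · apply lenTerm_of_subsingleton
        by_contra hns
        have hxs : x ∈ CohB1.support (Cyc.closureStructureSheaf y) := hns
        have hyx : y ⤳ x := specializes_iff_mem_closure.mpr (hGsupp hxs)
        exact hxy (eq_of_specializes_of_dim hZ₀ hsupp hyZ₀ hyx hx).symm
      · unfold lenTerm
        rw [if_neg hx]
    have hKG : K (Cyc.closureStructureSheaf y) := by
      refine ⟨hGsupp.trans hZG, ?_⟩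
      have hsum : lenSum n (Cyc.closureStructureSheaf y) =
          lenTerm n (Cyc.closureStructureSheaf y) y := finsum_eq_single _ y hterm0
      rw [hsum]
      by_cases hyn : topologicalKrullDim ↥(closure ({y} : Set ↥X)) = n
      · unfold lenTerm
        rw [if_pos hyn, l'.length_eq, length_residueField]
        simp only [ENat.toNat_one, one_smul, sub_self]
        exact B.zero_mem
      · unfold lenTerm
        rw [if_neg hyn, sub_zero]
        apply AddSubgroup.subset_closure
        refine ⟨Cyc.closureStructureSheaf y, isCoh_closureStructureSheaf y, ?_, rfl⟩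
        have h1 : topologicalKrullDim ↥(closure ({y} : Set ↥X)) ≤ n :=
          (Topology.IsEmbedding.inclusion hZG).isInducing.topologicalKrullDim_le.trans hsupp
        have h2 : topologicalKrullDim ↥(CohB1.support (Cyc.closureStructureSheaf y)) ≤
            topologicalKrullDim ↥(closure ({y} : Set ↥X)) :=
          (Topology.IsEmbedding.inclusion hGsupp).isInducing.topologicalKrullDim_le
        exact lt_of_le_of_lt h2 (lt_of_le_of_ne h1 hyn)
    exact step_of_rank_one K hex (closure {y}) hZ y rfl IH (isCoh_closureStructureSheaf y) hKG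
      hGsupp l' F' hF' hk
  exact (induction_on_support K hiso h0 hext Z₀ hstep F hF le_rfl).2

end CycLenH8
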