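import Mathlib
import Groth.Prelude
import Groth.Agent.Lib.PerfFlat5_lead
import Groth.Agent.Lib.SemiSk2_helper6
import Groth.Agent.Lib.FLF7_helper8

/-!
# The locus where the cohomology sheaves of a perfect complex are finite free (lead)

`main892`.  APPEND-ONLY once landed.
-/

set_option autoImplicit false
set_option linter.all false
set_option maxHeartbeats 1600000
set_option backward.isDefEq.respectTransparency false
set_option backward.isDefEq.respectTransparency.types false
set_option backward.defeqAttrib.useBackward true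

universe u

open CategoryTheory CategoryTheory.Limits AlgebraicGeometry TopologicalSpace Opposite
open CategoryTheory.Pretriangulated

attribute [local instance] HasDerivedCategory.standard

namespace Groth.Agent.Lib.DCohLocLead

open DerSch Groth.Agent.Lib.TorAmpIdL

noncomputable section

/-! ### Freeness along semilinear isomorphisms, stalks -/

theorem free_of_semilinear_equiv {R R' : Type*} [CommRing R] [CommRing R'] (e : R ≃+* R')
    {M M' : Type*} [AddCommGroup M] [Module R M] [AddCommGroup M'] [Module R' M']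
    [Module.Free R' M'] (G : M ≃+ M') (hG : ∀ (r : R) (m : M), G (r • m) = e r • G m) :
    Module.Free R M := by
  letI : Module R M' := Module.compHom M' e.toRingHom
  have hb : Module.Free R M' := by
    let b := Module.Free.chooseBasis R' M'
    exact Module.Free.of_basis (b.mapCoeffs e.symm (fun c x => by
      show e (e.symm c) • x = c • x
      rw [RingEquiv.apply_symm_apply]))
  let G' : M ≃ₗ[R] M' := { G with map_smul' := fun r m => hG r m }
  exact Module.Free.of_equiv' hb G'.symm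

section Stalks

variable {Y : Scheme.{u}}

theorem free_stalk_of_iso {M N : Y.Modules} (e : M ≅ N) (y : Y)
    (h : Module.Free (Y.presheaf.stalk y) (M.presheaf.stalk y)) :
    Module.Free (Y.presheaf.stalk y) (N.presheaf.stalk y) := by
  show Module.Free (Y.presheaf.stalk y) ((stalkFunctor Y y).obj N)
  have h' : Module.Free (Y.presheaf.stalk y) ((stalkFunctor Y y).obj M) := h
  exact Module.Free.of_equiv' h' ((stalkFunctor Y y).mapIso e).toLinearEquiv

theorem free_stalk_restrict {Y' : Scheme.{u}} (j : Y' ⟶ Y) [IsOpenImmersion j] (M : Y.Modules)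
    (y' : Y')
    (h : Module.Free (Y.presheaf.stalk (j.base y')) (M.presheaf.stalk (j.base y'))) :
    Module.Free (Y'.presheaf.stalk y') ((M.restrict j).presheaf.stalk y') := by
  haveI := h
  exact free_of_semilinear_equiv (RestrStalkH8.stalkRingEquiv j y').symm
    (RestrStalkH8.restrictStalkEquiv j M y') (RestrStalkH8.restrictStalkEquiv_smul j M y')

theorem finite_stalk_of_restrict_finLocFree (F : Y.Modules) [F.IsQuasicoherent] {U : Y.Opens}
    {x : Y} (hx : x ∈ U) (h : FlatMod.IsFinLocFree (F.restrict U.ι)) :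
    Module.Finite (Y.presheaf.stalk x) (F.presheaf.stalk x) := by
  obtain ⟨W', n, hxW', ⟨α'⟩⟩ := h ⟨x, hx⟩
  obtain ⟨O, hO, hxO, -, t, ht⟩ := FLFH8.exists_affine_bases (F.restrict U.ι) hxW' α'
  obtain ⟨h1, h2⟩ := FLFH8.BasisOn.self (F.restrict U.ι) t (ht O le_rfl)
  obtain ⟨g', h3, h4⟩ := FLFH8.basis_transport F O t h1 h2
  have hOX : IsAffineOpen (U.ι ''ᵁ O) := hO.image_of_isOpenImmersion U.ι
  have hxOX : x ∈ U.ι ''ᵁ O := ⟨⟨x, hx⟩, hxO, rfl⟩
  have hsp := FLFH8.span_germ F hOX hxOX g' h3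
  exact Module.finite_def.2 (hsp ▸ Submodule.fg_span (Set.finite_range _))

end Stalks

/-! ### Restrictions of finite locally free modules -/

section Restr

variable {Y : Scheme.{u}}

theorem flf_restrict_of_range_le {Y' Y'' : Scheme.{u}} (j : Y' ⟶ Y) [IsOpenImmersion j]
    (k : Y'' ⟶ Y) [IsOpenImmersion k] (h : Set.range k ⊆ Set.range j) (M : Y.Modules)
    (hM : FlatMod.IsFinLocFree (M.restrict j)) : FlatMod.IsFinLocFree (M.restrict k) := by
  let l : Y'' ⟶ Y' := IsOpenImmersion.lift j k h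
  have hl : l ≫ j = k := IsOpenImmersion.lift_fac j k h
  haveI : IsOpenImmersion l := by
    haveI : IsOpenImmersion (l ≫ j) := by rw [hl]; infer_instance
    exact IsOpenImmersion.of_comp l j
  have h1 : FlatMod.IsFinLocFree ((Scheme.Modules.restrictFunctor l).obj (M.restrict j)) :=
    isFinLocFree_restrictFunctor l hM
  exact FLFH8.IsFinLocFree.of_iso (((Scheme.Modules.restrictFunctorComp l j).app M).symm ≪≫
    (Scheme.Modules.restrictFunctorCongr hl).app M) h1

theorem flf_shrink {M : Y.Modules} {U W : Y.Opens} (h : W ≤ U)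
    (hM : FlatMod.IsFinLocFree (M.restrict U.ι)) : FlatMod.IsFinLocFree (M.restrict W.ι) :=
  flf_restrict_of_range_le U.ι W.ι (by
    rw [Scheme.Opens.range_ι, Scheme.Opens.range_ι]
    exact SetLike.coe_subset_coe.2 h) M hM

theorem flf_opensRange_of_restrict_restrict {M : Y.Modules} (U : Y.Opens)
    (U' : (U : Scheme.{u}).Opens)
    (h : FlatMod.IsFinLocFree ((M.restrict U.ι).restrict U'.ι)) :
    FlatMod.IsFinLocFree (M.restrict (U'.ι ≫ U.ι).opensRange.ι) := by
  have h1 : FlatMod.IsFinLocFree (M.restrict (U'.ι ≫ U.ι)) :=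
    FLFH8.IsFinLocFree.of_iso ((Scheme.Modules.restrictFunctorComp U'.ι U.ι).app M).symm h
  exact flf_restrict_of_range_le (U'.ι ≫ U.ι) (U'.ι ≫ U.ι).opensRange.ι (by
    rw [Scheme.Opens.range_ι, Scheme.Hom.coe_opensRange]) M h1

/-- Being finite locally free is local. -/
theorem flf_of_local (N : Y.Modules)
    (h : ∀ y : Y, ∃ W : Y.Opens, y ∈ W ∧ FlatMod.IsFinLocFree (N.restrict W.ι)) :
    FlatMod.IsFinLocFree N := by
  intro y
  obtain ⟨W, hyW, hW⟩ := h y
  obtain ⟨W', n, hyW', ⟨α⟩⟩ := hW ⟨y, hyW⟩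
  let j : (W' : Scheme.{u}) ⟶ Y := W'.ι ≫ W.ι
  refine ⟨j.opensRange, n, ⟨⟨⟨y, hyW⟩, hyW'⟩, rfl⟩, ⟨?_⟩⟩
  exact (Scheme.Modules.restrictFunctorCongr (j.isoOpensRange_inv_comp).symm).app N ≪≫
    (Scheme.Modules.restrictFunctorComp j.isoOpensRange.inv j).app N ≪≫
    (Scheme.Modules.restrictFunctor j.isoOpensRange.inv).mapIso
      ((Scheme.Modules.restrictFunctorComp W'.ι W.ι).app N ≪≫ α) ≪≫
    restrictFreeIso j.isoOpensRange.inv n

/-- finite locally free near `y` -/
def LF (M : Y.Modules) (y : Y) : Prop :=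
  ∃ U : Y.Opens, y ∈ U ∧ FlatMod.IsFinLocFree (M.restrict U.ι)

theorem LF.of_iso {M N : Y.Modules} {y : Y} (e : M ≅ N) (h : LF M y) : LF N y := by
  obtain ⟨U, hy, hU⟩ := h
  exact ⟨U, hy, FLFH8.IsFinLocFree.of_iso ((Scheme.Modules.restrictFunctor U.ι).mapIso e) hU⟩

theorem LF_of_flf {M : Y.Modules} (h : FlatMod.IsFinLocFree M) (y : Y) : LF M y :=
  ⟨⊤, trivial, isFinLocFree_restrictFunctor _ h⟩

theorem LF_of_isZero {M : Y.Modules} (h : IsZero M) (y : Y) : LF M y :=
  LF_of_flf (isFinLocFree_of_isZero h) y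

theorem LF_of_shortExact (S : ShortComplex Y.Modules) (hS : S.ShortExact) (y : Y)
    (h2 : LF S.X₂ y) (h3 : LF S.X₃ y) : LF S.X₁ y := by
  obtain ⟨U2, hy2, h2⟩ := h2
  obtain ⟨U3, hy3, h3⟩ := h3
  refine ⟨U2 ⊓ U3, ⟨hy2, hy3⟩, ?_⟩
  have hS' : (S.map (Scheme.Modules.restrictFunctor (U2 ⊓ U3).ι)).ShortExact :=
    hS.map_of_exact _
  exact isFinLocFree_of_shortExact _ hS' (flf_shrink inf_le_left h2) (flf_shrink inf_le_right h3)

theorem LF_cokernel {A B : Y.Modules} (u : A ⟶ B) (y : Y) (hA : LF A y) (hB : LF B y)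
    (hfree : Module.Free (Y.presheaf.stalk y) ((cokernel u).presheaf.stalk y)) :
    LF (cokernel u) y := by
  obtain ⟨UA, hyA, hA⟩ := hA
  obtain ⟨UB, hyB, hB⟩ := hB
  let U : Y.Opens := UA ⊓ UB
  have hyU : y ∈ U := ⟨hyA, hyB⟩
  have hA' : FlatMod.IsFinLocFree (A.restrict U.ι) := flf_shrink inf_le_left hA
  have hB' : FlatMod.IsFinLocFree (B.restrict U.ι) := flf_shrink inf_le_right hB
  haveI := FLFH8.isQuasicoherent_of_finLocFree _ hA'
  haveI := FLFH8.isQuasicoherent_of_finLocFree _ hB'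
  haveI := FLFH8.isFinitePresentation_of_finLocFree _ hA'
  haveI := FLFH8.isFinitePresentation_of_finLocFree _ hB'
  let u' : A.restrict U.ι ⟶ B.restrict U.ι := (Scheme.Modules.restrictFunctor U.ι).map u
  haveI : (cokernel u').IsQuasicoherent := FComplH8.isQuasicoherent_cokernel u'
  haveI : SheafOfModules.IsFinitePresentation (R := (U : Scheme.{u}).ringCatSheaf)
      (cokernel u') := Groth.Agent.Lib.StalkInjH6.isFP_cokernel u'
  let e : (cokernel u).restrict U.ι ≅ cokernel u' :=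
    PreservesCokernel.iso (Scheme.Modules.restrictFunctor U.ι) u
  let y' : U.toScheme := (⟨y, hyU⟩ : U)
  have hfree' : Module.Free ((U : Scheme.{u}).presheaf.stalk y')
      ((cokernel u').presheaf.stalk y') :=
    free_stalk_of_iso e y' (free_stalk_restrict U.ι (cokernel u) y' hfree)
  obtain ⟨U', n, hy', ⟨α⟩⟩ := FLFH8.exists_free_nhd (cokernel u') y' hfree'
  have h1 : FlatMod.IsFinLocFree ((cokernel u').restrict U'.ι) :=
    FLFH8.isFinLocFree_of_iso_free α
  have h2 : FlatMod.IsFinLocFree (((cokernel u).restrict U.ι).restrict U'.ι) :=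
    FLFH8.IsFinLocFree.of_iso ((Scheme.Modules.restrictFunctor U'.ι).mapIso e.symm) h1
  exact ⟨(U'.ι ≫ U.ι).opensRange, ⟨⟨y', hy'⟩, rfl⟩, flf_opensRange_of_restrict_restrict U U' h2⟩

theorem LF_kernel {A B : Y.Modules} (u : A ⟶ B) (y : Y) (hA : LF A y) (hB : LF B y)
    (hC : LF (cokernel u) y) : LF (kernel u) y := by
  have hI : LF (Abelian.image u) y := by
    let S1 : ShortComplex Y.Modules :=
      ShortComplex.mk (Abelian.image.ι u) (cokernel.π u) (kernel.condition _)
    have hS1 : S1.ShortExact :=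
      { exact := S1.exact_of_f_is_kernel (kernelIsKernel (cokernel.π u))
        mono_f := (inferInstance : Mono (Abelian.image.ι u))
        epi_g := (inferInstance : Epi (cokernel.π u)) }
    exact LF_of_shortExact S1 hS1 y hB hC
  have hz : kernel.ι u ≫ Abelian.factorThruImage u = 0 := by
    rw [← cancel_mono (Abelian.image.ι u), Category.assoc, Abelian.image.fac, zero_comp,
      kernel.condition]
  let S2 : ShortComplex Y.Modules :=
    ShortComplex.mk (kernel.ι u) (Abelian.factorThruImage u) hz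
  have hS2 : S2.ShortExact :=
    { exact := S2.exact_of_f_is_kernel
        (isKernelOfComp (f := Abelian.factorThruImage u) (Abelian.image.ι u) u
          (kernelIsKernel u) hz (Abelian.image.fac u))
      mono_f := (inferInstance : Mono (kernel.ι u))
      epi_g := (inferInstance : Epi (Abelian.factorThruImage u)) }
  exact LF_of_shortExact S2 hS2 y hA hI

theorem exists_common_nhd (y : Y) (M : ℤ → Y.Modules) (a b : ℤ)
    (hz : ∀ j, j < a ∨ b < j → IsZero (M j)) (h : ∀ j, LF (M j) y) :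
    ∃ U : Y.Opens, y ∈ U ∧ ∀ j, FlatMod.IsFinLocFree ((M j).restrict U.ι) := by
  have key : ∀ n : ℕ, ∃ U : Y.Opens, y ∈ U ∧
      ∀ j, j < a + n → FlatMod.IsFinLocFree ((M j).restrict U.ι) := by
    intro n
    induction n with
    | zero =>
      exact ⟨⊤, trivial, fun j hj => isFinLocFree_of_isZero
        ((Scheme.Modules.restrictFunctor _).map_isZero (hz j (Or.inl (by simpa using hj))))⟩
    | succ n ih =>
      obtain ⟨U, hyU, hU⟩ := ih
      obtain ⟨U', hyU', hU'⟩ := h (a + n)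
      refine ⟨U ⊓ U', ⟨hyU, hyU'⟩, fun j hj => ?_⟩
      by_cases hj' : j < a + n
      · exact flf_shrink inf_le_left (hU j hj')
      · have hjn : j = a + n := by push_cast at hj; omega
        subst hjn
        exact flf_shrink inf_le_right hU'
  obtain ⟨U, hyU, hU⟩ := key (b + 1 - a).toNat
  refine ⟨U, hyU, fun j => ?_⟩
  by_cases hj : j ≤ b
  · exact hU j (by have := Int.self_le_toNat (b + 1 - a); omega)
  · exact isFinLocFree_of_isZero
      ((Scheme.Modules.restrictFunctor _).map_isZero (hz j (Or.inr (by omega))))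

end Restr

/-! ### Cohomology of a complex with locally free terms -/

section Cx

variable {Y : Scheme.{u}}

theorem LF_homology_aux (P : CochainComplex Y.Modules ℤ) (y : Y) (b : ℤ)
    (hP : ∀ i, LF (P.X i) y) (hb : ∀ i, b < i → IsZero (P.X i))
    (hfree : ∀ j, Module.Free (Y.presheaf.stalk y) ((P.homology j).presheaf.stalk y)) :
    ∀ (n : ℕ) (k : ℤ), k + n = b + 1 →
      LF (kernel (P.d k (k + 1))) y ∧ ∀ j, k < j → LF (P.homology j) y := by
  intro n
  induction n with
  | zero =>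
    intro k hk
    have hk' : k = b + 1 := by simpa using hk
    exact ⟨LF_of_isZero (IsZero.of_mono (kernel.ι _) (hb k (by omega))) y,
      fun j hj => LF_of_isZero (isZero_homology_of_isZero_X P j (hb j (by omega))) y⟩
  | succ n ih =>
    intro k hk
    obtain ⟨hZ, hH⟩ := ih (k + 1) (by push_cast at hk ⊢; omega)
    let S : ShortComplex Y.Modules := P.sc' k (k + 1) (k + 1 + 1)
    let eS : P.homology (k + 1) ≅ S.homology :=
      ShortComplex.homologyMapIso (P.isoSc' k (k + 1) (k + 1 + 1) (by simp) (by simp))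
    let v : P.X k ⟶ kernel (P.d (k + 1) (k + 1 + 1)) := kernel.lift S.g S.f S.zero
    let eH : S.homology ≅ cokernel v := S.homologyIsoCokernelLift
    have hfree' : Module.Free (Y.presheaf.stalk y) ((cokernel v).presheaf.stalk y) :=
      free_stalk_of_iso (eS ≪≫ eH) y (hfree (k + 1))
    have hC : LF (cokernel v) y := LF_cokernel v y (hP k) hZ hfree'
    have hK : LF (kernel v) y := LF_kernel v y (hP k) hZ hC
    have hv : v ≫ kernel.ι S.g = P.d k (k + 1) := kernel.lift_ι _ _ _
    let e2 : kernel v ≅ kernel (P.d k (k + 1)) :=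
      (kernelCompMono v (kernel.ι S.g)).symm ≪≫ kernelIsoOfEq hv
    refine ⟨LF.of_iso e2 hK, fun j hj => ?_⟩
    obtain rfl | hj' := eq_or_lt_of_le (Int.add_one_le_iff.2 hj)
    · exact LF.of_iso (eS ≪≫ eH).symm hC
    · exact hH j hj'

theorem LF_homology (P : CochainComplex Y.Modules ℤ) (y : Y) (a b : ℤ)
    (hab : DCoh.VanishesOutside P a b) (hP : ∀ i, LF (P.X i) y)
    (hfree : ∀ j, Module.Free (Y.presheaf.stalk y) ((P.homology j).presheaf.stalk y)) :
    ∀ j, LF (P.homology j) y := by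
  intro j
  by_cases hj : a ≤ j ∧ j ≤ b
  · have hn : ((b + 2 - a).toNat : ℤ) = b + 2 - a := Int.toNat_of_nonneg (by omega)
    exact (LF_homology_aux P y b hP (fun i hi => hab i (Or.inr hi)) hfree (b + 2 - a).toNat
      (a - 1) (by omega)).2 j (by omega)
  · exact LF_of_isZero (isZero_homology_of_isZero_X P j (hab j (by omega))) y

end Cx

/-! ### The main theorem -/

open DerivedCategory

theorem exists_nhd_flf_HD {X : Scheme.{u}} (E : DCoh.D X) (hE : DCoh.IsPerfect E) (x : X)
    (hfree : ∀ i, Module.Free (X.presheaf.stalk x) ((DCoh.HD E i).presheaf.stalk x)) :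
    ∃ U : X.Opens, x ∈ U ∧ ∀ i, FlatMod.IsFinLocFree ((DCoh.HD E i).restrict U.ι) := by
  rw [isPerfect_iff] at hE
  obtain ⟨V, hxV, P, hP, ⟨e2⟩⟩ := hE x
  have hloc : ∀ i, Nonempty ((DCoh.HD E i).restrict V.ι ≅ P.homology i) := by
    intro i
    obtain ⟨e1⟩ := nonempty_HD_restrict_iso V.ι E i
    exact ⟨e1.symm ≪≫ (DerivedCategory.homologyFunctor _ i).mapIso e2 ≪≫
      (DerivedCategory.homologyFunctorFactors _ i).app P⟩
  obtain ⟨⟨a, b, hab⟩, hflf⟩ := hP
  let x' : V.toScheme := (⟨x, hxV⟩ : V)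
  have hfree' : ∀ j, Module.Free ((V : Scheme.{u}).presheaf.stalk x')
      ((P.homology j).presheaf.stalk x') := by
    intro j
    obtain ⟨e⟩ := hloc j
    exact free_stalk_of_iso e x' (free_stalk_restrict V.ι (DCoh.HD E j) x' (hfree j))
  have hLF : ∀ j, LF (P.homology j) x' :=
    LF_homology P x' a b hab (fun i => LF_of_flf (hflf i) x') hfree'
  obtain ⟨U', hxU', hU'⟩ := exists_common_nhd x' (fun j => P.homology j) a b
    (fun j hj => isZero_homology_of_isZero_X P j (hab j hj)) hLF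
  refine ⟨(U'.ι ≫ V.ι).opensRange, ⟨⟨x', hxU'⟩, rfl⟩, fun i => ?_⟩
  obtain ⟨e⟩ := hloc i
  have h1 : FlatMod.IsFinLocFree (((DCoh.HD E i).restrict V.ι).restrict U'.ι) :=
    FLFH8.IsFinLocFree.of_iso ((Scheme.Modules.restrictFunctor U'.ι).mapIso e.symm) (hU' i)
  exact flf_opensRange_of_restrict_restrict V U' h1

theorem main892 {X : Scheme.{u}} (E : DCoh.D X) (hE : DCoh.IsPerfect E) :
    ∃ U : X.Opens,
      (U : Set X) = {x : X | ∀ i : ℤ,
        Module.Free (X.presheaf.stalk x) ((DCoh.HD E i).presheaf.stalk x) ∧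
        Module.Finite (X.presheaf.stalk x) ((DCoh.HD E i).presheaf.stalk x)} ∧
      (∀ i : ℤ, FlatMod.IsFinLocFree ((DCoh.HD E i).restrict U.ι)) ∧
      ∀ W : X.Opens, (∀ i : ℤ, FlatMod.IsFinLocFree ((DCoh.HD E i).restrict W.ι)) → W ≤ U := by
  have hq : ∀ i, (DCoh.HD E i).IsQuasicoherent := fun i =>
    (main7240 (i - 1) E (isPC_of_isPerfect hE (i - 1))).1 i (by omega)
  let S : Set X := {x : X | ∀ i : ℤ,
    Module.Free (X.presheaf.stalk x) ((DCoh.HD E i).presheaf.stalk x) ∧
    Module.Finite (X.presheaf.stalk x) ((DCoh.HD E i).presheaf.stalk x)}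
  have hP3 : ∀ W : X.Opens, (∀ i : ℤ, FlatMod.IsFinLocFree ((DCoh.HD E i).restrict W.ι)) →
      (W : Set X) ⊆ S := by
    intro W hW x hx i
    haveI := hq i
    exact ⟨FLFH8.free_stalk_of_restrict_finLocFree (DCoh.HD E i) hx (hW i),
      finite_stalk_of_restrict_finLocFree (DCoh.HD E i) hx (hW i)⟩
  have hK : ∀ x ∈ S, ∃ U : X.Opens, x ∈ U ∧
      ∀ i, FlatMod.IsFinLocFree ((DCoh.HD E i).restrict U.ι) :=
    fun x hx => exists_nhd_flf_HD E hE x (fun i => (hx i).1)
  have hopen : IsOpen S := by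
    rw [isOpen_iff_forall_mem_open]
    intro x hx
    obtain ⟨U, hxU, hU⟩ := hK x hx
    exact ⟨U, hP3 U hU, U.isOpen, hxU⟩
  let Uo : X.Opens := ⟨S, hopen⟩
  refine ⟨Uo, rfl, fun i => ?_, fun W hW => hP3 W hW⟩
  apply flf_of_local
  intro y
  obtain ⟨U, hxU, hU⟩ := hK y.1 y.2
  refine ⟨Uo.ι ⁻¹ᵁ U, hxU, ?_⟩
  have h1 : FlatMod.IsFinLocFree ((DCoh.HD E i).restrict ((Uo.ι ⁻¹ᵁ U).ι ≫ Uo.ι)) := by
    refine flf_restrict_of_range_le U.ι ((Uo.ι ⁻¹ᵁ U).ι ≫ Uo.ι) ?_ _ (hU i)
    rintro _ ⟨w, rfl⟩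
    rw [Scheme.Opens.range_ι]
    exact w.2
  exact FLFH8.IsFinLocFree.of_iso
    ((Scheme.Modules.restrictFunctorComp (Uo.ι ⁻¹ᵁ U).ι Uo.ι).app (DCoh.HD E i)) h1

end

end Groth.Agent.Lib.DCohLocLead
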