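import Mathlib
import Groth.Prelude
import Groth.Agent.Lib.PerfFlat6_lead
import Groth.Agent.Lib.QCohFP2_helper9

/-!
# Finite type / finite presentation of the top cohomology of a pseudo-coherent object (lead)

* bridge between local generators on open subschemes and Mathlib's `IsFiniteType`;
* `isFinitePresentation_of_restrict`: finite presentation is local (quasi-coherent modules);
* `main890`.

APPEND-ONLY once landed.
-/

set_option autoImplicit false
set_option linter.all false
set_option maxHeartbeats 1600000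
set_option backward.isDefEq.respectTransparency false
set_option backward.isDefEq.respectTransparency.types false
set_option backward.defeqAttrib.useBackward true

universe u

open CategoryTheory CategoryTheory.Limits AlgebraicGeometry TopologicalSpace Opposite
open CategoryTheory.Pretriangulated

attribute [local instance] HasDerivedCategory.standard

namespace Groth.Agent.Lib.DCohLocLead

open DerSch Groth.Agent.Lib.TorAmpIdL

noncomputable section

/-! ### Local generators on open subschemes -/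

section Bridge

open Scheme.Modules

variable {X : Scheme.{u}}

/-- modules on the open subscheme `U` as modules on the slice site -/
def ΦU (U : X.Opens) : (U : Scheme.{u}).Modules ⥤ SheafOfModules.{u} (X.ringCatSheaf.over U) :=
  (overEquiv U).inverse

theorem preservesColimits_ΦU (U : X.Opens) : PreservesColimitsOfSize.{u, u} (ΦU U) := by
  unfold ΦU
  infer_instance

def ηU (U : X.Opens) : SheafOfModules.unit (X.ringCatSheaf.over U) ≅
    (ΦU U).obj (SheafOfModules.unit (U : Scheme.{u}).ringCatSheaf) :=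
  (overEquiv U).unitIso.app (SheafOfModules.unit (X.ringCatSheaf.over U))

def compIsoU (U : X.Opens) (F : X.Modules) : (ΦU U).obj (F.restrict U.ι) ≅ F.over U :=
  (overEquiv U).inverse.mapIso ((overFunctorEquiv U).symm.app F) ≪≫
    ((overEquiv U).unitIso.symm.app (F.over U))

theorem exists_genSec_over (U : X.Opens) (F : X.Modules)
    (G : SheafOfModules.GeneratingSections (R := (U : Scheme.{u}).ringCatSheaf) (F.restrict U.ι))
    (hG : Finite G.I) : ∃ G' : (F.over U).GeneratingSections, G'.IsFiniteType := by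
  haveI : G.IsFiniteType := ⟨hG⟩
  haveI := preservesColimits_ΦU U
  let G₂ := G.map (ΦU U) (ηU U)
  exact ⟨G₂.ofEpi (compIsoU U F).hom, ⟨inferInstanceAs (Finite G.I)⟩⟩

theorem exists_genSec_of_epi_freeMod {Y : Scheme.{u}} {N : Y.Modules} (n : ℕ)
    (p : FlatMod.freeMod Y n ⟶ N) [Epi p] :
    ∃ G : SheafOfModules.GeneratingSections (R := Y.ringCatSheaf) N, Finite G.I := by
  let e : SheafOfModules.free (R := Y.ringCatSheaf) (ULift.{u} (Fin n)) ≅ FlatMod.freeMod Y n :=
    Sigma.reindex (Equiv.ulift : ULift.{u} (Fin n) ≃ Fin n)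
      (fun _ : Fin n => Coh.structureModule Y)
  let q : SheafOfModules.free (R := Y.ringCatSheaf) (ULift.{u} (Fin n)) ⟶ N := e.hom ≫ p
  haveI : Epi q := epi_comp _ _
  exact ⟨{ I := ULift.{u} (Fin n)
           s := N.freeHomEquiv q
           epi := by rw [Equiv.symm_apply_apply]; infer_instance }, inferInstance⟩

/-- A module with finitely many generators over the members of an open cover is of finite
type. -/
theorem isFT_of_local_genSec (M : X.Modules) {ι : Type u} (𝒰 : ι → X.Opens)
    (hcov : ⨆ i, 𝒰 i = ⊤)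
    (H : ∀ i, ∃ G : SheafOfModules.GeneratingSections
      (R := ((𝒰 i : X.Opens) : Scheme.{u}).ringCatSheaf) (M.restrict (𝒰 i).ι), Finite G.I) :
    SheafOfModules.IsFiniteType (R := X.ringCatSheaf) M := by
  have H' : ∀ i, ∃ G' : (M.over (𝒰 i)).GeneratingSections, G'.IsFiniteType := by
    intro i
    obtain ⟨G, hG⟩ := H i
    exact exists_genSec_over (𝒰 i) M G hG
  choose G hG using H'
  have hc : (Opens.grothendieckTopology X).CoversTop 𝒰 := by
    rw [Opens.coversTop_iff]
    exact hcov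
  let σ : SheafOfModules.LocalGeneratorsData.{u} (R := X.ringCatSheaf) M :=
    { I := ι, X := 𝒰, coversTop := hc, generators := G }
  have hσ : σ.IsFiniteType := by
    constructor
    intro i
    exact hG i
  constructor
  exact ⟨σ, hσ⟩

/-- A module which is locally a quotient of a finite locally free module is of finite type. -/
theorem isFT_of_local_flf_epi (M : X.Modules)
    (H : ∀ x : X, ∃ (V : X.Opens) (Z : (V : Scheme.{u}).Modules) (q : Z ⟶ M.restrict V.ι),
      x ∈ V ∧ FlatMod.IsFinLocFree Z ∧ Epi q) :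
    SheafOfModules.IsFiniteType (R := X.ringCatSheaf) M := by
  have key : ∀ x : X, ∃ W : X.Opens, x ∈ W ∧
      ∃ G : SheafOfModules.GeneratingSections
        (R := ((W : X.Opens) : Scheme.{u}).ringCatSheaf) (M.restrict W.ι), Finite G.I := by
    intro x
    obtain ⟨V, Z, q, hxV, hZ, hq⟩ := H x
    obtain ⟨V', n, hxV', ⟨α⟩⟩ := hZ ⟨x, hxV⟩
    let j : (V' : Scheme.{u}) ⟶ X := V'.ι ≫ V.ι
    let p' : FlatMod.freeMod (V' : Scheme.{u}) n ⟶ M.restrict j :=
      α.inv ≫ (restrictFunctor V'.ι).map q ≫ ((restrictFunctorComp V'.ι V.ι).app M).inv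
    haveI : Epi ((restrictFunctor V'.ι).map q) := inferInstance
    haveI : Epi p' := epi_comp _ _
    let p'' : FlatMod.freeMod (j.opensRange : Scheme.{u}) n ⟶ M.restrict j.opensRange.ι :=
      (restrictFreeIso j.isoOpensRange.inv n).inv ≫
        (restrictFunctor j.isoOpensRange.inv).map p' ≫
        ((restrictFunctorComp j.isoOpensRange.inv j).app M).inv ≫
        ((restrictFunctorCongr j.isoOpensRange_inv_comp).app M).hom
    haveI : Epi ((restrictFunctor j.isoOpensRange.inv).map p') := inferInstance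
    haveI : Epi p'' := epi_comp _ _
    exact ⟨j.opensRange, ⟨⟨⟨x, hxV⟩, hxV'⟩, rfl⟩, exists_genSec_of_epi_freeMod n p''⟩
  choose W hxW hW using key
  refine isFT_of_local_genSec M W ?_ hW
  rw [eq_top_iff]
  intro x _
  exact Opens.mem_iSup.mpr ⟨x, hxW x⟩

end Bridge

/-! ### Finite presentation is local -/

section FPLocal

variable {X : Scheme.{u}}

theorem fp_sections_of_restrict {Y : Scheme.{u}} (j : Y ⟶ X) [IsOpenImmersion j]
    (M : X.Modules) (W' : Y.Opens)
    (h : Module.FinitePresentation Γ(Y, W') Γ((Scheme.Modules.restrictFunctor j).obj M, W')) :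
    Module.FinitePresentation Γ(X, j ''ᵁ W') Γ(M, j ''ᵁ W') := by
  have hbij : Function.Bijective (j.appIso W').hom.hom :=
    ConcreteCategory.bijective_of_isIso (j.appIso W').hom
  refine @QCohFP2.fp_of_bijective Γ(X, j ''ᵁ W') Γ(Y, W') Γ(M, j ''ᵁ W') _ _ _
    (inferInstance : Module Γ(X, j ''ᵁ W') Γ(M, j ''ᵁ W'))
    (inferInstance : Module Γ(Y, W') Γ(M.restrict j, W'))
    (j.appIso W').hom.hom hbij (fun r x => ?_) h
  show r • x = ((j.appIso W').inv.hom ((j.appIso W').hom.hom r)) • x
  have h1 : (j.appIso W').inv.hom ((j.appIso W').hom.hom r) = r := by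
    have h2 := congr($((j.appIso W').hom_inv_id) r)
    simpa using h2
  rw [h1]

/-- Finite presentation is local on the base (for quasi-coherent modules). -/
theorem isFinitePresentation_of_restrict (M : X.Modules) [M.IsQuasicoherent] {ι : Type u}
    (𝒰 : ι → X.Opens) (hcov : ⨆ i, 𝒰 i = ⊤)
    (H : ∀ i, SheafOfModules.IsFinitePresentation
      (R := ((𝒰 i : X.Opens) : Scheme.{u}).ringCatSheaf)
      ((Scheme.Modules.restrictFunctor (𝒰 i).ι).obj M)) :
    SheafOfModules.IsFinitePresentation (R := X.ringCatSheaf) M := by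
  let J := {V : X.affineOpens // ∃ i, V.1 ≤ 𝒰 i}
  refine QCohFP2.isFinitePresentation_of_sections_cover M (fun V : J => V.1.1)
    (fun V => V.1.2) ?_ ?_
  · rw [eq_top_iff]
    intro x _
    have hx : x ∈ (⨆ i, 𝒰 i : X.Opens) := by rw [hcov]; trivial
    obtain ⟨i, hi⟩ := Opens.mem_iSup.mp hx
    obtain ⟨V, hV, hxV, hVU⟩ := Opens.isBasis_iff_nbhd.mp X.isBasis_affineOpens hi
    exact Opens.mem_iSup.mpr ⟨⟨⟨V, hV⟩, i, hVU⟩, hxV⟩
  · rintro ⟨⟨W, hW⟩, i, hWi⟩
    show Module.FinitePresentation Γ(X, W) Γ(M, W)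
    have hW' : IsAffineOpen ((𝒰 i).ι ⁻¹ᵁ W) :=
      hW.preimage_of_isOpenImmersion (𝒰 i).ι (by rw [Scheme.Opens.opensRange_ι]; exact hWi)
    haveI := H i
    have hfp : Module.FinitePresentation Γ(((𝒰 i : X.Opens) : Scheme.{u}), (𝒰 i).ι ⁻¹ᵁ W)
        Γ((Scheme.Modules.restrictFunctor (𝒰 i).ι).obj M, (𝒰 i).ι ⁻¹ᵁ W) :=
      QCohFP2.finitePresentation_of_isFinitePresentation _ hW'
    have h2 : ∀ W₂ : X.Opens, (𝒰 i).ι ''ᵁ ((𝒰 i).ι ⁻¹ᵁ W) = W₂ →
        Module.FinitePresentation Γ(X, W₂) Γ(M, W₂) := by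
      rintro _ rfl
      exact fp_sections_of_restrict (𝒰 i).ι M _ hfp
    exact h2 W (image_preimage_of_le hWi)

end FPLocal

/-! ### Cycles and cohomology of complexes of finite locally free modules exact above -/

section Cyc

variable {Y : Scheme.{u}}

theorem flf_cycles_of_isLE (P : CochainComplex Y.Modules ℤ) (b : ℤ) [P.IsStrictlyLE b]
    (hP : ∀ i, FlatMod.IsFinLocFree (P.X i)) (k : ℤ) [P.IsLE k] :
    FlatMod.IsFinLocFree (P.cycles k) :=
  FLFH8.IsFinLocFree.of_iso (P.truncLEXIsoCycles k) (isFinLocFree_truncLE P b hP k k)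

theorem isFP_homology_of_isLE (P : CochainComplex Y.Modules ℤ) (b : ℤ) [P.IsStrictlyLE b]
    (hP : ∀ i, FlatMod.IsFinLocFree (P.X i)) (k : ℤ) [P.IsLE k] :
    SheafOfModules.IsFinitePresentation (R := Y.ringCatSheaf) (P.homology k) := by
  have hZ : FlatMod.IsFinLocFree (P.cycles k) := flf_cycles_of_isLE P b hP k
  have hK : FlatMod.IsFinLocFree (kernel (P.sc k).g) :=
    FLFH8.IsFinLocFree.of_iso (P.sc k).cyclesIsoKernel hZ
  have h1 : FlatMod.IsFinLocFree (P.sc k).X₁ := hP _
  haveI := FLFH8.isQuasicoherent_of_finLocFree _ hK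
  haveI := FLFH8.isQuasicoherent_of_finLocFree _ h1
  haveI := FLFH8.isFinitePresentation_of_finLocFree _ hK
  haveI := FLFH8.isFinitePresentation_of_finLocFree _ h1
  have hc : SheafOfModules.IsFinitePresentation (R := Y.ringCatSheaf)
      (cokernel (kernel.lift (P.sc k).g (P.sc k).f (P.sc k).zero)) :=
    Groth.Agent.Lib.StalkInjH6.isFP_cokernel _
  exact (SheafOfModules.isFinitePresentation Y.ringCatSheaf).prop_of_iso
    (P.sc k).homologyIsoCokernelLift.symm hc

end Cyc

/-! ### The main theorem -/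

open DerivedCategory

theorem exists_local_approx_HD {X : Scheme.{u}} (m : ℤ) (K : DCoh.D X)
    (hK : DCoh.IsPseudoCoherentD m K) (x : X) :
    ∃ (V : X.Opens) (P : CochainComplex (V : Scheme.{u}).Modules ℤ), x ∈ V ∧
      DCoh.IsStrictlyPerfect P ∧
      (∀ i, m < i → Nonempty (P.homology i ≅
        (Scheme.Modules.restrictFunctor V.ι).obj (DCoh.HD K i))) ∧
      ∃ π : P.homology m ⟶ (Scheme.Modules.restrictFunctor V.ι).obj (DCoh.HD K m), Epi π := by
  rw [isPC_iff] at hK
  obtain ⟨V, hxV, P, α, hP, hα⟩ := hK x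
  refine ⟨V, P, hxV, hP, fun i hi => ?_, ?_⟩
  · obtain ⟨e1⟩ := nonempty_HD_restrict_iso V.ι K i
    haveI := hα.1 i hi
    exact ⟨((homologyFunctorFactors _ i).app P).symm ≪≫
      asIso ((homologyFunctor _ i).map α) ≪≫ e1⟩
  · obtain ⟨e1⟩ := nonempty_HD_restrict_iso V.ι K m
    haveI := hα.2
    exact ⟨((homologyFunctorFactors _ m).app P).inv ≫ (homologyFunctor _ m).map α ≫ e1.hom,
      inferInstance⟩

theorem isLE_of_local_iso {X : Scheme.{u}} {V : X.Opens} (K : DCoh.D X)
    (P : CochainComplex (V : Scheme.{u}).Modules ℤ) (k : ℤ)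
    (hiso : ∀ i, k < i → Nonempty (P.homology i ≅
      (Scheme.Modules.restrictFunctor V.ι).obj (DCoh.HD K i)))
    (hz : ∀ i : ℤ, k < i → IsZero (DCoh.HD K i)) : P.IsLE k := by
  rw [CochainComplex.isLE_iff]
  intro i hi
  rw [HomologicalComplex.exactAt_iff_isZero_homology]
  obtain ⟨e⟩ := hiso i hi
  exact IsZero.of_iso ((Scheme.Modules.restrictFunctor V.ι).map_isZero (hz i hi)) e

theorem main890 {X : Scheme.{u}} (m : ℤ) (K : DCoh.D X)
    (hK : DCoh.IsPseudoCoherentD m K) :
    ((∀ i : ℤ, m < i → IsZero (DCoh.HD K i)) → CohB1.IsFT (DCoh.HD K m)) ∧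
    ((∀ i : ℤ, m + 1 < i → IsZero (DCoh.HD K i)) → CohB1.IsFP (DCoh.HD K (m + 1))) := by
  constructor
  · intro hz
    apply isFT_of_local_flf_epi
    intro x
    obtain ⟨V, P, hxV, ⟨⟨a, b, hab⟩, hflf⟩, hiso, π, hπ⟩ := exists_local_approx_HD m K hK x
    haveI : P.IsStrictlyLE b :=
      (CochainComplex.isStrictlyLE_iff P b).2 (fun i hi => hab i (Or.inr hi))
    haveI : P.IsLE m := isLE_of_local_iso K P m hiso hz
    exact ⟨V, P.cycles m, P.homologyπ m ≫ π, hxV, flf_cycles_of_isLE P b hflf m, epi_comp _ _⟩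
  · intro hz
    haveI hq : (DCoh.HD K (m + 1)).IsQuasicoherent := (main7240 m K hK).1 (m + 1) (by omega)
    choose V P hxV hP hiso hπ using exists_local_approx_HD m K hK
    have hcov : ⨆ x, V x = ⊤ := by
      rw [eq_top_iff]
      intro x _
      exact Opens.mem_iSup.mpr ⟨x, hxV x⟩
    refine isFinitePresentation_of_restrict (DCoh.HD K (m + 1)) V hcov (fun x => ?_)
    obtain ⟨⟨a, b, hab⟩, hflf⟩ := hP x
    haveI : (P x).IsStrictlyLE b :=
      (CochainComplex.isStrictlyLE_iff (P x) b).2 (fun i hi => hab i (Or.inr hi))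
    haveI : (P x).IsLE (m + 1) :=
      isLE_of_local_iso K (P x) (m + 1) (fun i hi => hiso x i (by omega)) hz
    obtain ⟨e⟩ := hiso x (m + 1) (by omega)
    exact (SheafOfModules.isFinitePresentation
      ((V x : X.Opens) : Scheme.{u}).ringCatSheaf).prop_of_iso e
      (isFP_homology_of_isLE (P x) b hflf (m + 1))

end

end Groth.Agent.Lib.DCohLocLead
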