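import Mathlib
import Groth.Prelude
import Groth.Agent.Lib.PCohFT1_lead

/-!
# Pseudo-coherence of a module placed in degree zero (lead)

`main6518`.  APPEND-ONLY once landed.
-/

set_option autoImplicit false
set_option linter.all false
set_option maxHeartbeats 1600000
set_option backward.isDefEq.respectTransparency false
set_option backward.isDefEq.respectTransparency.types false
set_option backward.defeqAttrib.useBackward true

universe u

open CategoryTheory CategoryTheory.Limits AlgebraicGeometry TopologicalSpace Opposite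
open CategoryTheory.Pretriangulated

attribute [local instance] HasDerivedCategory.standard

namespace Groth.Agent.Lib.DCohLocLead

open DerSch Groth.Agent.Lib.TorAmpIdL

noncomputable section

/-! ### From finite type / finite presentation to local generators / presentations -/

section Local

open Scheme.Modules

variable {X : Scheme.{u}}

theorem exists_local_genSec_of_isFT (M : X.Modules) (hM : CohB1.IsFT M) (x : X) :
    ∃ W : X.Opens, x ∈ W ∧ ∃ G : SheafOfModules.GeneratingSections
      (R := ((W : X.Opens) : Scheme.{u}).ringCatSheaf) (M.restrict W.ι), Finite G.I := by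
  obtain ⟨σ, hσ⟩ := SheafOfModules.IsFiniteType.exists_localGeneratorsData (R := X.ringCatSheaf) M
  have hcov := σ.coversTop
  rw [Opens.coversTop_iff] at hcov
  have hx' : x ∈ (⨆ i, σ.X i : X.Opens) := by rw [hcov]; trivial
  simp only [Opens.mem_iSup] at hx'
  obtain ⟨i, hxi⟩ := hx'
  let W : X.Opens := σ.X i
  refine ⟨W, hxi, QCohFT.generatingSectionsRestrict M W W le_rfl (σ.generators i), ?_⟩
  rw [QCohFT.generatingSectionsRestrict_I]
  exact (hσ.isFiniteType i).finite

theorem exists_local_presentation_of_isFP (M : X.Modules) (hM : CohB1.IsFP M) (x : X) :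
    ∃ W : X.Opens, x ∈ W ∧ ∃ P : SheafOfModules.Presentation
      (R := ((W : X.Opens) : Scheme.{u}).ringCatSheaf) (M.restrict W.ι),
      Finite P.generators.I ∧ Finite P.relations.I := by
  obtain ⟨σ, hσ⟩ :=
    SheafOfModules.IsFinitePresentation.exists_quasicoherentData (R := X.ringCatSheaf) M
  have hcov := σ.coversTop
  rw [Opens.coversTop_iff] at hcov
  have hx' : x ∈ (⨆ i, σ.X i : X.Opens) := by rw [hcov]; trivial
  simp only [Opens.mem_iSup] at hx'
  obtain ⟨i, hxi⟩ := hx'
  haveI hfin : (σ.presentation i).IsFinite := hσ.isFinite_presentation i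
  let W : X.Opens := σ.X i
  refine ⟨W, hxi, QCohFP2.presentationRestrictOver M W (𝟙 (W : Scheme.{u})) W.ι
    (Category.id_comp _) (σ.presentation i), ?_, ?_⟩
  · rw [QCohFP2.presentationRestrictOver_generators_I]
    exact hfin.isFiniteType_generators.finite
  · rw [QCohFP2.presentationRestrictOver_relations_I]
    exact hfin.isFiniteType_relations.finite

theorem isFT_of_iso {M N : X.Modules} (e : M ≅ N) (h : CohB1.IsFT M) : CohB1.IsFT N := by
  choose W hxW hW using exists_local_genSec_of_isFT M h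
  refine isFT_of_local_genSec N W ?_ (fun x => ?_)
  · rw [eq_top_iff]
    intro x _
    exact Opens.mem_iSup.mpr ⟨x, hxW x⟩
  · obtain ⟨G, hG⟩ := hW x
    exact ⟨G.ofEpi ((restrictFunctor (W x).ι).map e.hom), hG⟩

theorem flf_free {Y : Scheme.{u}} (I : Type u) [Finite I] :
    FlatMod.IsFinLocFree (SheafOfModules.free (R := Y.ringCatSheaf) I) := by
  let α : SheafOfModules.free (R := Y.ringCatSheaf) I ≅ FlatMod.freeMod Y (Nat.card I) :=
    Sigma.reindex (Finite.equivFin I) (fun _ : Fin (Nat.card I) => Coh.structureModule Y)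
  exact FLFH8.isFinLocFree_of_iso_free α

end Local

/-! ### Modules in degree zero -/

section Single

open DerivedCategory

variable {Y : Scheme.{u}}

theorem isStrictlyPerfect_single (L : Y.Modules) (hL : FlatMod.IsFinLocFree L) :
    DCoh.IsStrictlyPerfect ((CochainComplex.singleFunctor Y.Modules 0).obj L) := by
  refine ⟨⟨0, 0, fun i hi => ?_⟩, fun i => ?_⟩
  · exact HomologicalComplex.isZero_single_obj_X (ComplexShape.up ℤ) 0 L i (by omega)
  · by_cases hi : i = 0
    · subst hi
      exact FLFH8.IsFinLocFree.of_iso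
        (HomologicalComplex.singleObjXSelf (ComplexShape.up ℤ) 0 L).symm hL
    · exact isFinLocFree_of_isZero
        (HomologicalComplex.isZero_single_obj_X (ComplexShape.up ℤ) 0 L i hi)

theorem isPerfect_Q_obj (P : CochainComplex Y.Modules ℤ) (hP : DCoh.IsStrictlyPerfect P) :
    DCoh.IsPerfect (Q.obj P) := by
  rw [isPerfect_iff]
  intro x
  exact ⟨⊤, trivial, (RC (⊤ : Y.Opens).ι).obj P, isStrictlyPerfect_RC _ hP, ⟨facIso _ P⟩⟩

theorem isPC_of_Lt (m : ℤ) (K : DCoh.D Y) (h : Lt m K) : DCoh.IsPseudoCoherentD m K := by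
  rw [isPC_iff]
  intro x
  exact pcAt_of_Lt ⊤ trivial (h.restrict _)

theorem Lt_inD (M : Y.Modules) (m : ℤ) (hm : 0 < m) : Lt m (DCoh.inD Y M) :=
  Lt_Q_obj_of_isZero ((CochainComplex.singleFunctor Y.Modules 0).obj M) m
    (fun i hi => HomologicalComplex.isZero_single_obj_X (ComplexShape.up ℤ) 0 M i (by omega))

theorem isPerfect_inD (L : Y.Modules) (hL : FlatMod.IsFinLocFree L) :
    DCoh.IsPerfect (DCoh.inD Y L) :=
  isPerfect_Q_obj _ (isStrictlyPerfect_single L hL)

/-- A quotient of a finite locally free module is `0`-pseudo-coherent. -/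
theorem isPC_inD_of_epi {L N : Y.Modules} (π : L ⟶ N) [Epi π] (hL : FlatMod.IsFinLocFree L) :
    DCoh.IsPseudoCoherentD 0 (DCoh.inD Y N) := by
  let S : ShortComplex Y.Modules := ShortComplex.mk (kernel.ι π) π (kernel.condition π)
  have hS : S.ShortExact :=
    { exact := S.exact_of_f_is_kernel (kernelIsKernel π)
      mono_f := (inferInstance : Mono (kernel.ι π))
      epi_g := (inferInstance : Epi π) }
  have h₁ : DCoh.IsPseudoCoherentD (0 + 1) (DCoh.inD Y (kernel π)) :=
    isPC_of_Lt _ _ (Lt_inD _ _ (by norm_num))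
  have h₂ : DCoh.IsPseudoCoherentD 0 (DCoh.inD Y L) := isPC_of_isPerfect (isPerfect_inD L hL) 0
  exact isPC_obj₃ 0 hS.singleTriangle hS.singleTriangle_distinguished h₁ h₂

/-- A finitely presented module is `(-1)`-pseudo-coherent. -/
theorem isPC_inD_of_presentation {N : Y.Modules}
    (P : SheafOfModules.Presentation (R := Y.ringCatSheaf) N)
    (hg : Finite P.generators.I) (hr : Finite P.relations.I) :
    DCoh.IsPseudoCoherentD (-1) (DCoh.inD Y N) := by
  let π := P.generators.π
  haveI : Epi π := P.generators.epi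
  haveI : Epi P.relations.π := P.relations.epi
  let S : ShortComplex Y.Modules := ShortComplex.mk (kernel.ι π) π (kernel.condition π)
  have hS : S.ShortExact :=
    { exact := S.exact_of_f_is_kernel (kernelIsKernel π)
      mono_f := (inferInstance : Mono (kernel.ι π))
      epi_g := (inferInstance : Epi π) }
  have h₁ : DCoh.IsPseudoCoherentD (-1 + 1) (DCoh.inD Y (kernel π)) := by
    have h := isPC_inD_of_epi P.relations.π (flf_free P.relations.I)
    rwa [show (-1 : ℤ) + 1 = 0 by norm_num]
  have h₂ : DCoh.IsPseudoCoherentD (-1) (DCoh.inD Y (SheafOfModules.free P.generators.I)) :=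
    isPC_of_isPerfect (isPerfect_inD _ (flf_free P.generators.I)) (-1)
  exact isPC_obj₃ (-1) hS.singleTriangle hS.singleTriangle_distinguished h₁ h₂

end Single

/-! ### Restriction -/

section Restrict

open DerivedCategory

variable {X : Scheme.{u}}

def restrictInDIso {Y : Scheme.{u}} (j : Y ⟶ X) [IsOpenImmersion j] (F : X.Modules) :
    (DD j).obj (DCoh.inD X F) ≅ DCoh.inD Y (F.restrict j) :=
  facIso j ((CochainComplex.singleFunctor X.Modules 0).obj F) ≪≫
    Q.mapIso ((HomologicalComplex.singleMapHomologicalComplex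
      (Scheme.Modules.restrictFunctor j) (ComplexShape.up ℤ) 0).app F)

theorem LocApprox.trans {m : ℤ} {Z Y : Scheme.{u}} (k : Z ⟶ Y) (j : Y ⟶ X) [IsOpenImmersion k]
    [IsOpenImmersion j] {K : DCoh.D X} (h : LocApprox m k ((DD j).obj K)) :
    LocApprox m (k ≫ j) K := by
  obtain ⟨E, α, hE, hα⟩ := h
  obtain ⟨c⟩ := nonempty_DD_comp_iso k j K
  exact ⟨E, α ≫ c.inv, hE, hα.comp (IsApprox.of_isIso _)⟩

theorem pcAt_of_isPC_restrict {m : ℤ} {K : DCoh.D X} (W : X.Opens) {x : X} (hx : x ∈ W)
    (h : DCoh.IsPseudoCoherentD m ((DD W.ι).obj K)) : PCAt m K x := by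
  obtain ⟨V', hxV', hV'⟩ := (isPC_iff m _).1 h (show W.toScheme from (⟨x, hx⟩ : W))
  exact pcAt_of_locApprox (V'.ι ≫ W.ι) ⟨⟨⟨x, hx⟩, hxV'⟩, rfl⟩ (LocApprox.trans V'.ι W.ι hV')

end Restrict

/-! ### The main theorem -/

open DerivedCategory

theorem main6518 {X : Scheme.{u}} (F : X.Modules) :
    (DCoh.IsPseudoCoherentD 0 (DCoh.inD X F) ↔ CohB1.IsFT F) ∧
    (DCoh.IsPseudoCoherentD (-1) (DCoh.inD X F) ↔ CohB1.IsFP F) := by
  have hz : ∀ i : ℤ, 0 < i → IsZero (DCoh.HD (DCoh.inD X F) i) := fun i hi =>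
    Lt_inD F 1 (by norm_num) i (by omega)
  let e0 : DCoh.HD (DCoh.inD X F) 0 ≅ F :=
    (homologyFunctorFactors X.Modules 0).app ((CochainComplex.singleFunctor X.Modules 0).obj F) ≪≫
      HomologicalComplex.singleObjHomologySelfIso (ComplexShape.up ℤ) 0 F
  refine ⟨⟨fun h => isFT_of_iso e0 ((main890 0 _ h).1 hz), fun h => ?_⟩,
    ⟨fun h => ?_, fun h => ?_⟩⟩
  · rw [isPC_iff]
    intro x
    obtain ⟨W, hxW, G, hG⟩ := exists_local_genSec_of_isFT F h x
    haveI := hG
    haveI : Epi G.π := G.epi
    have h1 : DCoh.IsPseudoCoherentD 0 (DCoh.inD (W : Scheme.{u}) (F.restrict W.ι)) :=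
      isPC_inD_of_epi G.π (flf_free G.I)
    exact pcAt_of_isPC_restrict W hxW (isPC_of_iso (restrictInDIso W.ι F).symm h1)
  · have h2 := (main890 (-1) _ h).2 (fun i hi => hz i (by omega))
    rw [show (-1 : ℤ) + 1 = 0 by norm_num] at h2
    exact (SheafOfModules.isFinitePresentation X.ringCatSheaf).prop_of_iso e0 h2
  · rw [isPC_iff]
    intro x
    obtain ⟨W, hxW, P, hg, hr⟩ := exists_local_presentation_of_isFP F h x
    have h1 : DCoh.IsPseudoCoherentD (-1) (DCoh.inD (W : Scheme.{u}) (F.restrict W.ι)) :=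
      isPC_inD_of_presentation P hg hr
    exact pcAt_of_isPC_restrict W hxW (isPC_of_iso (restrictInDIso W.ι F).symm h1)

end

end Groth.Agent.Lib.DCohLocLead
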