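import Mathlib
import Groth.Prelude
import Groth.Agent.Lib.PCohFT2_lead
import Groth.Agent.Lib.RetrEq_helper8
import Groth.Agent.Lib.CycLen2_helper8
import Groth.Agent.Lib.SecOrd1_helper8
import Groth.Agent.Lib.SupportCoh_helper9

/-!
# Spreading out finite free complexes from a stalk, I (lead)

Germs of standard sections form a basis of the stalk of a free module; finite families of germs
of functions have common representatives; morphisms of free modules from matrices of global
functions, and the complex `freeCx`.  APPEND-ONLY once landed.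
-/

set_option autoImplicit false
set_option linter.all false
set_option maxHeartbeats 1600000
set_option backward.isDefEq.respectTransparency false
set_option backward.isDefEq.respectTransparency.types false
set_option backward.defeqAttrib.useBackward true

universe u

open CategoryTheory CategoryTheory.Limits AlgebraicGeometry TopologicalSpace Opposite
open CategoryTheory.Pretriangulated

attribute [local instance] HasDerivedCategory.standard

namespace Groth.Agent.Lib.DCohLocLead

open DerSch Groth.Agent.Lib.TorAmpIdL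
open FLFH8 SDivGenH8 SDivFreeH8 QcqsLoc QCohExtn

noncomputable section

/-! ### Finite families of germs -/

section Germs

variable {X : Scheme.{u}}

theorem exists_common_open (x : X) {ι : Type*} [Finite ι] (V : ι → X.Opens)
    (h : ∀ j, x ∈ V j) : ∃ W : X.Opens, x ∈ W ∧ ∀ j, W ≤ V j := by
  classical
  cases nonempty_fintype ι
  have key : ∀ s : Finset ι, x ∈ s.inf V := by
    intro s
    refine Finset.induction_on s ?_ ?_
    · rw [Finset.inf_empty]; trivial
    · intro a s _ ih
      rw [Finset.inf_insert]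
      exact ⟨h a, ih⟩
  exact ⟨Finset.univ.inf V, key _, fun j => Finset.inf_le (Finset.mem_univ j)⟩

theorem exists_sections_of_germs (x : X) {ι : Type*} [Finite ι]
    (c : ι → X.presheaf.stalk x) :
    ∃ (V : X.Opens) (hx : x ∈ V) (s : ι → Γ(X, V)),
      ∀ j, X.presheaf.germ V x hx (s j) = c j := by
  choose V0 hx0 s0 hs0 using fun j => TopCat.Presheaf.exists_germ_eq (F := X.presheaf) (c j)
  obtain ⟨W, hxW, hW⟩ := exists_common_open x V0 hx0
  exact ⟨W, hxW, fun j => rX (hW j) (s0 j), fun j => by rw [SecOrdH8.germ_rX, hs0]⟩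

theorem exists_common_vanish (x : X) (V : X.Opens) (hx : x ∈ V) {ι : Type*} [Finite ι]
    (t : ι → Γ(X, V)) (ht : ∀ j, X.presheaf.germ V x hx (t j) = 0) :
    ∃ (W : X.Opens) (hW : W ≤ V), x ∈ W ∧ ∀ j, rX hW (t j) = 0 := by
  have h1 : ∀ j, ∃ (W : X.Opens) (hW : W ≤ V), x ∈ W ∧ rX hW (t j) = 0 := by
    intro j
    have h' : X.presheaf.germ V x hx (t j) = X.presheaf.germ V x hx 0 := by
      rw [ht j, map_zero]
    obtain ⟨W, hxW, iU, iV, hW⟩ := TopCat.Presheaf.germ_eq X.presheaf x hx hx (t j) 0 h'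
    refine ⟨W, iU.le, hxW, ?_⟩
    rw [map_zero] at hW
    rw [show iU = homOfLE iU.le from Subsingleton.elim _ _] at hW
    exact hW
  choose W0 hW0 hx0 h0 using h1
  obtain ⟨W, hxW, hW⟩ := exists_common_open x W0 hx0
  refine ⟨W ⊓ V, inf_le_right, ⟨hxW, hx⟩, fun j => ?_⟩
  have hle : W ⊓ V ≤ W0 j := inf_le_left.trans (hW j)
  have h2 := rX_rX hle (hW0 j) (t j)
  rw [h0 j, map_zero] at h2
  exact h2.symm

end Germs

/-! ### The stalk of a free module -/

section FreeStalk

variable {Y : Scheme.{u}}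

/-- the germ at `z` of the `k`-th standard section of `O_Y^r` -/
def gS (r : ℕ) (z : Y) (k : Fin r) : (FlatMod.freeMod Y r).presheaf.stalk z :=
  (FlatMod.freeMod Y r).presheaf.germ ⊤ z trivial (stdSec r ⊤ k)

theorem gS_eq (r : ℕ) (z : Y) (k : Fin r) (V : Y.Opens) (hz : z ∈ V) :
    gS r z k = (FlatMod.freeMod Y r).presheaf.germ V z hz (stdSec r V k) := by
  unfold gS
  rw [← rF_stdSec r (le_top : V ≤ ⊤) k]
  exact (SecOrdH8.germ_rF (FlatMod.freeMod Y r) (le_top : V ≤ ⊤) z hz (stdSec r ⊤ k)).symm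

theorem germ_sum_stdSec (r : ℕ) (z : Y) (V : Y.Opens) (hz : z ∈ V) (a : Fin r → Γ(Y, V)) :
    (FlatMod.freeMod Y r).presheaf.germ V z hz (∑ k, a k • stdSec r V k) =
      ∑ k, (Y.presheaf.germ V z hz (a k)) • gS r z k := by
  have h := map_sum ((FlatMod.freeMod Y r).presheaf.germ V z hz).hom
    (fun k => a k • stdSec r V k) Finset.univ
  refine h.trans ?_
  refine Finset.sum_congr rfl (fun k _ => ?_)
  rw [gS_eq r z k V hz]
  exact Groth.Agent.Lib.QCohLoc_helper4.germ_smul (FlatMod.freeMod Y r) V z hz (a k)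
    (stdSec r V k)

theorem exists_coeff_gS (r : ℕ) (z : Y) (m : (FlatMod.freeMod Y r).presheaf.stalk z) :
    ∃ c : Fin r → Y.presheaf.stalk z, m = ∑ k, c k • gS r z k := by
  obtain ⟨V, hz, s, rfl⟩ :=
    TopCat.Presheaf.exists_germ_eq (F := (FlatMod.freeMod Y r).presheaf) m
  refine ⟨fun k => Y.presheaf.germ V z hz (ofM ((projM k).app V s)), ?_⟩
  have h := germ_sum_stdSec r z V hz (fun k => ofM ((projM k).app V s))
  exact (congrArg (fun t => (FlatMod.freeMod Y r).presheaf.germ V z hz t)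
    (section_eq_sum_stdSec r V s)).trans h

theorem coeff_gS_eq_zero (r : ℕ) (z : Y) (c : Fin r → Y.presheaf.stalk z)
    (h : ∑ k, c k • gS r z k = 0) (k : Fin r) : c k = 0 := by
  obtain ⟨V, hz, a, ha⟩ := exists_sections_of_germs z c
  have h1 : (FlatMod.freeMod Y r).presheaf.germ V z hz (∑ k, a k • stdSec r V k) = 0 := by
    rw [germ_sum_stdSec]
    simp only [ha]
    exact h
  obtain ⟨W, hzW, i, hW⟩ := SupportCoh.exists_res_eq_zero (FlatMod.freeMod Y r) hz _ h1
  have hWV : W ≤ V := i.le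
  rw [show i = homOfLE hWV from Subsingleton.elim _ _] at hW
  have e1 : rF (FlatMod.freeMod Y r) hWV (∑ k, a k • stdSec r V k) =
      ∑ k, rX hWV (a k) • stdSec r W k := by
    rw [map_sum]
    refine Finset.sum_congr rfl (fun k _ => ?_)
    rw [rF_smul, rF_stdSec]
  have h2 : ∑ k, rX hWV (a k) • stdSec r W k = 0 := e1.symm.trans hW
  have h3 := Fintype.linearIndependent_iff.mp (stdSec_li r W) _ h2 k
  rw [← ha k, ← SecOrdH8.germ_rX hWV z hzW (a k), h3, map_zero]

end FreeStalk

/-! ### Matrices of functions -/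

section Mat

variable {Y : Scheme.{u}}

/-- the morphism `O_Y^n ⟶ O_Y^m` with matrix `T` (row `k` is the image of the `k`-th
standard section) -/
def matHom {n m : ℕ} (T : Fin n → Fin m → Γ(Y, ⊤)) :
    FlatMod.freeMod Y n ⟶ FlatMod.freeMod Y m :=
  freeHom (FlatMod.freeMod Y m) (fun k => ∑ l, T k l • stdSec m ⊤ l)

theorem matHom_app_top {n m : ℕ} (T : Fin n → Fin m → Γ(Y, ⊤)) (k : Fin n) :
    ap (matHom T) ⊤ (stdSec n ⊤ k) = ∑ l, T k l • stdSec m ⊤ l :=
  freeHom_app_top _ k

theorem matHom_comp_zero {n m p : ℕ} (T : Fin n → Fin m → Γ(Y, ⊤))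
    (T' : Fin m → Fin p → Γ(Y, ⊤)) (h : ∀ k q, ∑ l, T k l * T' l q = 0) :
    matHom T ≫ matHom T' = 0 := by
  apply free_hom_ext
  intro k
  have h1 : ap (matHom T ≫ matHom T') ⊤ (stdSec n ⊤ k) =
      ap (matHom T') ⊤ (ap (matHom T) ⊤ (stdSec n ⊤ k)) := rfl
  rw [h1, matHom_app_top, map_sum]
  have h2 : ∀ l, ap (matHom T') ⊤ (T k l • stdSec m ⊤ l) =
      ∑ q, (T k l * T' l q) • stdSec p ⊤ q := by
    intro l
    rw [ap_smul, matHom_app_top, Finset.smul_sum]
    refine Finset.sum_congr rfl (fun q _ => ?_)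
    rw [smul_smul]
  rw [Finset.sum_congr rfl (fun l _ => h2 l), Finset.sum_comm]
  have h3 : ∀ q, ∑ l, (T k l * T' l q) • stdSec (Y := Y) p ⊤ q = 0 := by
    intro q
    rw [← Finset.sum_smul, h k q, zero_smul]
  rw [Finset.sum_congr rfl (fun q _ => h3 q), Finset.sum_const_zero]
  rfl

/-- the complex of free modules with matrices `T` -/
def freeCx (n : ℤ → ℕ) (T : ∀ i, Fin (n i) → Fin (n (i + 1)) → Γ(Y, ⊤))
    (hT : ∀ i k q, ∑ l, T i k l * T (i + 1) l q = 0) : CochainComplex Y.Modules ℤ :=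
  CochainComplex.of (fun i => FlatMod.freeMod Y (n i)) (fun i => matHom (T i))
    (fun i => matHom_comp_zero (T i) (T (i + 1)) (hT i))

theorem isStrictlyPerfect_freeCx (n : ℤ → ℕ)
    (T : ∀ i, Fin (n i) → Fin (n (i + 1)) → Γ(Y, ⊤))
    (hT : ∀ i k q, ∑ l, T i k l * T (i + 1) l q = 0) (a b : ℤ)
    (hn : ∀ i, i < a ∨ b < i → n i = 0) : DCoh.IsStrictlyPerfect (freeCx n T hT) := by
  refine ⟨⟨a, b, fun i hi => ?_⟩, fun i => ?_⟩
  · show IsZero (FlatMod.freeMod Y (n i))
    rw [hn i hi]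
    exact isZero_freeMod_zero Y
  · show FlatMod.IsFinLocFree (FlatMod.freeMod Y (n i))
    exact FLFH8.isFinLocFree_of_iso_free (Iso.refl (FlatMod.freeMod Y (n i)))

end Mat

end

end Groth.Agent.Lib.DCohLocLead
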