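import Mathlib
import Groth.Prelude
import Groth.Agent.Lib.PerfSpread1_lead
import Groth.Agent.Lib.TorAmpPush_lead

/-!
# Spreading out finite free complexes from a stalk, II (lead)

The complex of stalks of the direct image of `freeCx` along an open immersion.
APPEND-ONLY once landed.
-/

set_option autoImplicit false
set_option linter.all false
set_option maxHeartbeats 1600000
set_option backward.isDefEq.respectTransparency false
set_option backward.isDefEq.respectTransparency.types false
set_option backward.defeqAttrib.useBackward true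

universe u

open CategoryTheory CategoryTheory.Limits AlgebraicGeometry TopologicalSpace Opposite
open CategoryTheory.Pretriangulated

attribute [local instance] HasDerivedCategory.standard

namespace Groth.Agent.Lib.DCohLocLead

open DerSch Groth.Agent.Lib.TorAmpIdL
open FLFH8 SDivGenH8 SDivFreeH8 QcqsLoc QCohExtn

noncomputable section

section Push

variable {Y X : Scheme.{u}} (j : Y ⟶ X) [IsOpenImmersion j]

/-- restricting the direct image of a complex along an open immersion gives the complex back -/
def restrictPushIso (G : CochainComplex Y.Modules ℤ) :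
    ((Scheme.Modules.restrictFunctor j).mapHomologicalComplex (ComplexShape.up ℤ)).obj
      (((Scheme.Modules.pushforward j).mapHomologicalComplex (ComplexShape.up ℤ)).obj G) ≅ G :=
  HomologicalComplex.Hom.isoOfComponents
    (fun i => (Scheme.Modules.restrictFunctorAdjCounitIso j).app (G.X i))
    (fun i k _ =>
      ((Scheme.Modules.restrictFunctorAdjCounitIso j).hom.naturality (G.d i k)).symm)

variable (z : Y)

theorem stalkMap_bijective' : Function.Bijective (j.stalkMap z).hom :=
  (ConcreteCategory.isIso_iff_bijective (j.stalkMap z)).1 inferInstance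

/-- the stalk at `j z` of the direct image of `O_Y^r` -/
abbrev PM (r : ℕ) : ModuleCat.{u} (X.presheaf.stalk (j z)) :=
  (stalkFunctor X (j z)).obj ((Scheme.Modules.pushforward j).obj (FlatMod.freeMod Y r))

/-- the germ at `j z` of the `k`-th standard section, in the stalk of the direct image -/
def bS (r : ℕ) (k : Fin r) : PM j z r :=
  ((Scheme.Modules.pushforward j).obj (FlatMod.freeMod Y r)).presheaf.germ ⊤ (j z) trivial
    (show Γ((Scheme.Modules.pushforward j).obj (FlatMod.freeMod Y r), ⊤) from
      stdSec (Y := Y) r ⊤ k)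

/-- the comparison with the stalk at `z` -/
def psi (r : ℕ) (m : PM j z r) : (FlatMod.freeMod Y r).presheaf.stalk z :=
  CycLenH8.pushStalkHom j (FlatMod.freeMod Y r) z m

theorem psi_add (r : ℕ) (m m' : PM j z r) : psi j z r (m + m') = psi j z r m + psi j z r m' :=
  (CycLenH8.pushStalkHom j (FlatMod.freeMod Y r) z).hom.map_add m m'

theorem psi_zero (r : ℕ) : psi j z r 0 = 0 :=
  (CycLenH8.pushStalkHom j (FlatMod.freeMod Y r) z).hom.map_zero

theorem psi_smul (r : ℕ) (a : X.presheaf.stalk (j z)) (m : PM j z r) :
    psi j z r (a • m) = (j.stalkMap z).hom a • psi j z r m :=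
  CycLenH8.pushStalkHom_smul j (FlatMod.freeMod Y r) z a m

theorem psi_sum (r : ℕ) {ι : Type*} (s : Finset ι) (f : ι → PM j z r) :
    psi j z r (∑ k ∈ s, f k) = ∑ k ∈ s, psi j z r (f k) :=
  map_sum (CycLenH8.pushStalkHom j (FlatMod.freeMod Y r) z).hom f s

theorem psi_injective (r : ℕ) : Function.Injective (psi j z r) :=
  (CycLenH8.pushStalkHom_bijective j (FlatMod.freeMod Y r)
    j.isOpenEmbedding.isEmbedding.isInducing z).1

theorem psi_bS (r : ℕ) (k : Fin r) : psi j z r (bS j z r k) = gS r z k := by
  unfold psi bS gS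
  exact CycLenH8.pushStalkHom_germ j (FlatMod.freeMod Y r) z ⊤ trivial
    (stdSec (Y := Y) r ⊤ k)

theorem psi_map_matHom_bS {r s : ℕ} (T : Fin r → Fin s → Γ(Y, ⊤)) (k : Fin r) :
    psi j z s ((stalkFunctor X (j z)).map ((Scheme.Modules.pushforward j).map (matHom T))
      (bS j z r k)) = ∑ l, (Y.presheaf.germ ⊤ z trivial).hom (T k l) • gS s z l := by
  have h1 := Groth.Agent.Lib.TorAmpPushL.pushStalkHom_natural j (matHom T) z (bS j z r k)
  have h2 : (stalkFunctor Y z).map (matHom T) (gS r z k) =
      (FlatMod.freeMod Y s).presheaf.germ ⊤ z trivial (ap (matHom T) ⊤ (stdSec r ⊤ k)) :=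
    DerSch.stalkFunctor_map_germ z (matHom T) ⊤ trivial (stdSec r ⊤ k)
  have h3 := germ_sum_stdSec s z ⊤ trivial (fun l => T k l)
  refine h1.trans ?_
  have h4 : CycLenH8.pushStalkHom j (FlatMod.freeMod Y r) z (bS j z r k) = gS r z k :=
    psi_bS j z r k
  rw [h4, h2, matHom_app_top]
  exact h3

section Basis

variable {r : ℕ} {V : Type u} [AddCommGroup V] [Module (X.presheaf.stalk (j z)) V]
  (β : Module.Basis (Fin r) (X.presheaf.stalk (j z)) V)

/-- the linear map sending the basis `β` to the germs of the standard sections -/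
def PhiL : V →ₗ[X.presheaf.stalk (j z)] PM j z r :=
  β.constr (X.presheaf.stalk (j z)) (fun k => bS j z r k)

theorem PhiL_basis (k : Fin r) : PhiL j z β (β k) = bS j z r k :=
  β.constr_basis _ _ k

theorem psi_PhiL (v : V) :
    psi j z r (PhiL j z β v) = ∑ k, (j.stalkMap z).hom (β.equivFun v k) • gS r z k := by
  have h1 : PhiL j z β v = ∑ k, β.equivFun v k • bS j z r k :=
    Module.Basis.constr_apply_fintype (X.presheaf.stalk (j z)) β _ v
  rw [h1, psi_sum]
  refine Finset.sum_congr rfl (fun k _ => ?_)
  rw [psi_smul, psi_bS]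

theorem PhiL_injective : Function.Injective (PhiL j z β) := by
  rw [← LinearMap.ker_eq_bot, LinearMap.ker_eq_bot']
  intro v hv
  have h1 := psi_PhiL j z β v
  rw [hv, psi_zero] at h1
  have h2 : ∀ k, β.equivFun v k = 0 := by
    intro k
    have h3 := coeff_gS_eq_zero r z _ h1.symm k
    exact (stalkMap_bijective' j z).1 (h3.trans (map_zero _).symm)
  have h3 : β.equivFun v = 0 := funext h2
  exact β.equivFun.map_eq_zero_iff.1 h3

theorem PhiL_surjective : Function.Surjective (PhiL j z β) := by
  intro m
  obtain ⟨c', hc'⟩ := exists_coeff_gS r z (psi j z r m)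
  choose c hc using fun k => (stalkMap_bijective' j z).2 (c' k)
  refine ⟨β.equivFun.symm c, psi_injective j z r ?_⟩
  rw [psi_PhiL, hc', LinearEquiv.apply_symm_apply]
  refine Finset.sum_congr rfl (fun k _ => ?_)
  rw [hc k]

end Basis

end Push

end

end Groth.Agent.Lib.DCohLocLead
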