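import Mathlib
import Groth.Prelude
import Groth.Agent.Lib.PerfSpread2_lead

/-!
# Spreading out finite free complexes from a stalk, III (lead)

`exists_matrix_data`, `exists_matrix_sections`, `nonempty_stalkCx_iso`, `main6196`.
APPEND-ONLY once landed.
-/

set_option autoImplicit false
set_option linter.all false
set_option maxHeartbeats 1600000
set_option backward.isDefEq.respectTransparency false
set_option backward.isDefEq.respectTransparency.types false
set_option backward.defeqAttrib.useBackward true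

universe u

open CategoryTheory CategoryTheory.Limits AlgebraicGeometry TopologicalSpace Opposite
open CategoryTheory.Pretriangulated

attribute [local instance] HasDerivedCategory.standard

namespace Groth.Agent.Lib.DCohLocLead

open DerSch Groth.Agent.Lib.TorAmpIdL
open FLFH8 SDivGenH8 SDivFreeH8 QcqsLoc QCohExtn

noncomputable section

open DerivedCategory

/-! ### Matrices of a bounded complex of finite projective modules over a local ring -/

section Alg

variable {R : Type u} [CommRing R] [IsLocalRing R]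

theorem exists_matrix_data (E : DRing.Cx R) (a b : ℤ) (hE : DRing.VanishesOutside E a b)
    (hfp : DRing.TermwiseFiniteProjective E) :
    ∃ (n : ℤ → ℕ) (β : ∀ i, Module.Basis (Fin (n i)) R (E.X i))
      (D : ∀ i, Fin (n i) → Fin (n (i + 1)) → R),
      (∀ i, i < a ∨ b < i → n i = 0) ∧
      (∀ i k, (E.d i (i + 1)).hom (β i k) = ∑ l, D i k l • β (i + 1) l) ∧
      (∀ i k q, ∑ l, D i k l * D (i + 1) l q = 0) := by
  classical
  haveI : ∀ i, Module.Finite R (E.X i) := fun i => (hfp i).1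
  haveI : ∀ i, Module.Projective R (E.X i) := fun i => (hfp i).2
  haveI : ∀ i, Module.Free R (E.X i) := fun i => Module.free_of_flat_of_isLocalRing
  let n : ℤ → ℕ := fun i => Module.finrank R (E.X i)
  let β : ∀ i, Module.Basis (Fin (n i)) R (E.X i) := fun i => Module.finBasis R (E.X i)
  let D : ∀ i, Fin (n i) → Fin (n (i + 1)) → R := fun i k l =>
    (β (i + 1)).equivFun ((E.d i (i + 1)).hom (β i k)) l
  have hβD : ∀ i k, (E.d i (i + 1)).hom (β i k) = ∑ l, D i k l • β (i + 1) l := fun i k =>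
    ((β (i + 1)).sum_equivFun _).symm
  refine ⟨n, β, D, ?_, hβD, ?_⟩
  · intro i hi
    haveI : Subsingleton (E.X i) := ModuleCat.subsingleton_of_isZero (hE i hi)
    exact Module.finrank_zero_of_subsingleton
  · intro i k q
    have h0 : (E.d (i + 1) (i + 1 + 1)).hom ((E.d i (i + 1)).hom (β i k)) = 0 :=
      congrArg (fun f => f.hom (β i k)) (E.d_comp_d i (i + 1) (i + 1 + 1))
    rw [hβD i k, map_sum] at h0
    have h2 : ∀ l, (E.d (i + 1) (i + 1 + 1)).hom (D i k l • β (i + 1) l) =
        ∑ q, (D i k l * D (i + 1) l q) • β (i + 1 + 1) q := by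
      intro l
      rw [map_smul, hβD (i + 1) l, Finset.smul_sum]
      refine Finset.sum_congr rfl (fun q _ => ?_)
      rw [smul_smul]
    rw [Finset.sum_congr rfl (fun l _ => h2 l), Finset.sum_comm] at h0
    have h3 : ∑ q, (∑ l, D i k l * D (i + 1) l q) • β (i + 1 + 1) q = 0 := by
      rw [← h0]
      refine Finset.sum_congr rfl (fun q _ => ?_)
      rw [Finset.sum_smul]
    exact Fintype.linearIndependent_iff.mp (β (i + 1 + 1)).linearIndependent _ h3 q

end Alg

/-! ### Spreading out the matrices -/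

section Spread

variable {X : Scheme.{u}} (x : X)

theorem exists_matrix_sections (n : ℤ → ℕ) (a b : ℤ) (hn : ∀ i, i < a ∨ b < i → n i = 0)
    (D : ∀ i, Fin (n i) → Fin (n (i + 1)) → X.presheaf.stalk x)
    (hD : ∀ i k q, ∑ l, D i k l * D (i + 1) l q = 0) :
    ∃ (U : X.Opens) (hx : x ∈ U) (S : ∀ i, Fin (n i) → Fin (n (i + 1)) → Γ(X, U)),
      (∀ i k l, (X.presheaf.germ U x hx).hom (S i k l) = D i k l) ∧
      (∀ i k q, ∑ l, S i k l * S (i + 1) l q = 0) := by
  classical
  have hvac : ∀ i, i ∉ Finset.Icc a b → Fin (n i) → False := by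
    intro i h k
    have h0 : n i = 0 := hn i (by rw [Finset.mem_Icc] at h; omega)
    have hk : (k : ℕ) < n i := k.2
    omega
  obtain ⟨V, hxV, s, hs⟩ := exists_sections_of_germs x
    (ι := Σ i : ↥(Finset.Icc a b), Fin (n i.1) × Fin (n (i.1 + 1)))
    (fun p => D p.1.1 p.2.1 p.2.2)
  let S0 : ∀ i, Fin (n i) → Fin (n (i + 1)) → Γ(X, V) := fun i k l =>
    if h : i ∈ Finset.Icc a b then s ⟨⟨i, h⟩, (k, l)⟩ else 0
  have hS0 : ∀ i k l, (X.presheaf.germ V x hxV).hom (S0 i k l) = D i k l := by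
    intro i k l
    by_cases h : i ∈ Finset.Icc a b
    · simp only [S0, dif_pos h]
      exact hs ⟨⟨i, h⟩, (k, l)⟩
    · exact (hvac i h k).elim
  obtain ⟨W, hWV, hxW, hW⟩ := exists_common_vanish x V hxV
    (ι := Σ i : ↥(Finset.Icc a b), Fin (n i.1) × Fin (n (i.1 + 1 + 1)))
    (fun p => ∑ l, S0 p.1.1 p.2.1 l * S0 (p.1.1 + 1) l p.2.2) (by
      intro p
      show (X.presheaf.germ V x hxV).hom
        (∑ l, S0 p.1.1 p.2.1 l * S0 (p.1.1 + 1) l p.2.2) = 0
      have e : ∀ l, (X.presheaf.germ V x hxV).hom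
          (S0 p.1.1 p.2.1 l * S0 (p.1.1 + 1) l p.2.2) =
          D p.1.1 p.2.1 l * D (p.1.1 + 1) l p.2.2 := fun l => by
        rw [map_mul, hS0, hS0]
      rw [map_sum, Finset.sum_congr rfl (fun l _ => e l)]
      exact hD _ _ _)
  refine ⟨W, hxW, fun i k l => rX hWV (S0 i k l), ?_, ?_⟩
  · intro i k l
    exact (SecOrdH8.germ_rX hWV x hxW (S0 i k l)).trans (hS0 i k l)
  · intro i k q
    by_cases h : i ∈ Finset.Icc a b
    · have h1 := hW ⟨⟨i, h⟩, (k, q)⟩
      have h2 : rX hWV (∑ l, S0 i k l * S0 (i + 1) l q) =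
          ∑ l, rX hWV (S0 i k l) * rX hWV (S0 (i + 1) l q) := by
        rw [map_sum]
        exact Finset.sum_congr rfl (fun l _ => map_mul _ _ _)
      exact h2.symm.trans h1
    · exact (hvac i h k).elim

end Spread

/-! ### The complex of stalks -/

theorem nonempty_stalkCx_iso {Y X : Scheme.{u}} (j : Y ⟶ X) [IsOpenImmersion j] (z : Y)
    (n : ℤ → ℕ) (T : ∀ i, Fin (n i) → Fin (n (i + 1)) → Γ(Y, ⊤))
    (hT : ∀ i k q, ∑ l, T i k l * T (i + 1) l q = 0)
    (E : CochainComplex (ModuleCat.{u} (X.presheaf.stalk (j z))) ℤ)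
    (β : ∀ i, Module.Basis (Fin (n i)) (X.presheaf.stalk (j z)) (E.X i))
    (D : ∀ i, Fin (n i) → Fin (n (i + 1)) → X.presheaf.stalk (j z))
    (hD : ∀ i k, (E.d i (i + 1)).hom (β i k) = ∑ l, D i k l • β (i + 1) l)
    (hTD : ∀ i k l, (Y.presheaf.germ ⊤ z trivial).hom (T i k l) =
      (j.stalkMap z).hom (D i k l)) :
    Nonempty (E ≅ ((stalkFunctor X (j z)).mapHomologicalComplex (ComplexShape.up ℤ)).obj
      (((Scheme.Modules.pushforward j).mapHomologicalComplex (ComplexShape.up ℤ)).obj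
        (freeCx n T hT))) := by
  let e : ∀ i, E.X i ≅ PM j z (n i) := fun i =>
    (LinearEquiv.ofBijective (PhiL j z (β i))
      ⟨PhiL_injective j z (β i), PhiL_surjective j z (β i)⟩).toModuleIso
  refine ⟨HomologicalComplex.Hom.isoOfComponents e ?_⟩
  intro i i' hii'
  obtain rfl : i + 1 = i' := hii'
  apply ModuleCat.hom_ext
  apply (β i).ext
  intro k
  apply psi_injective j z (n (i + 1))
  have hG : (freeCx n T hT).d i (i + 1) = matHom (T i) := CochainComplex.of_d (fun i => FlatMod.freeMod Y (n i)) (fun i => matHom (T i)) i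
  have hL : psi j z (n (i + 1)) ((stalkFunctor X (j z)).map
      ((Scheme.Modules.pushforward j).map ((freeCx n T hT).d i (i + 1)))
        (PhiL j z (β i) (β i k))) =
      ∑ l, (j.stalkMap z).hom (D i k l) • gS (n (i + 1)) z l := by
    rw [PhiL_basis, hG]
    exact (psi_map_matHom_bS j z (T i) k).trans
      (Finset.sum_congr rfl (fun l _ => by rw [hTD]))
  have hR : psi j z (n (i + 1)) (PhiL j z (β (i + 1)) ((E.d i (i + 1)).hom (β i k))) =
      ∑ l, (j.stalkMap z).hom (D i k l) • gS (n (i + 1)) z l := by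
    rw [psi_PhiL, hD i k]
    have h1 : (β (i + 1)).equivFun (∑ l', D i k l' • β (i + 1) l') = D i k := by
      rw [← (β (i + 1)).equivFun_symm_apply, LinearEquiv.apply_symm_apply]
    rw [h1]
  exact hL.trans hR.symm

/-! ### S6196 -/

theorem main6196 {X : Scheme.{u}} (x : X) (P : Dual.D ((X.presheaf.stalk x) : Type u))
    (hP : DRing.IsPerfect ((X.presheaf.stalk x) : Type u) P) :
    ∃ (U : X.Opens) (F' : CochainComplex X.Modules ℤ), x ∈ U ∧
      DCoh.IsPerfect (DerivedCategory.Q.obj ((DCoh.restrictCx U).obj F')) ∧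
      Nonempty (DRing.toD (((DerSch.stalkFunctor X x).mapHomologicalComplex
        (ComplexShape.up ℤ)).obj F') ≅ P) := by
  obtain ⟨E, a, b, hE, hfp, ⟨e⟩⟩ := hP
  obtain ⟨n, β, D, hn, hβD, hDD⟩ := exists_matrix_data E a b hE hfp
  obtain ⟨U, hx, S, hS, hSS⟩ := exists_matrix_sections x n a b hn D hDD
  let z : (U : Scheme.{u}) := ⟨x, hx⟩
  let ρ : Γ(X, U) →+* Γ((U : Scheme.{u}), ⊤) :=
    (rX (X := (U : Scheme.{u})) (Scheme.Opens.ι_preimage_self U).ge).comp (U.ι.app U).hom
  let T : ∀ i, Fin (n i) → Fin (n (i + 1)) → Γ((U : Scheme.{u}), ⊤) :=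
    fun i k l => ρ (S i k l)
  have hT : ∀ i k q, ∑ l, T i k l * T (i + 1) l q = 0 := by
    intro i k q
    have h1 := congrArg ρ (hSS i k q)
    rw [map_sum, map_zero] at h1
    rw [← h1]
    exact Finset.sum_congr rfl (fun l _ => (map_mul ρ _ _).symm)
  have hTD : ∀ i k l, ((U : Scheme.{u}).presheaf.germ ⊤ z trivial).hom (T i k l) =
      (U.ι.stalkMap z).hom (D i k l) := by
    intro i k l
    have h1 := SecOrdH8.germ_rX (X := (U : Scheme.{u})) (Scheme.Opens.ι_preimage_self U).ge z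
      trivial ((U.ι.app U).hom (S i k l))
    have h2 := Scheme.Hom.germ_stalkMap_apply U.ι U z hx (S i k l)
    rw [← hS i k l]
    exact h1.trans h2.symm
  obtain ⟨iso⟩ := nonempty_stalkCx_iso U.ι z n T hT E β D hβD hTD
  refine ⟨U, ((Scheme.Modules.pushforward U.ι).mapHomologicalComplex
    (ComplexShape.up ℤ)).obj (freeCx n T hT), hx, ?_, ⟨(Q.mapIso iso.symm) ≪≫ e⟩⟩
  exact isPerfect_of_iso (Q.mapIso (restrictPushIso U.ι (freeCx n T hT)).symm)
    (isPerfect_Q_obj _ (isStrictlyPerfect_freeCx n T hT a b hn))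

end

end Groth.Agent.Lib.DCohLocLead
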