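import Mathlib
import Groth.Prelude
import Groth.Agent.Lib.PerfSpread3_lead
import Groth.Agent.Lib.CycLen8_helper8

/-!
# Spreading out an isomorphism of stalks of pseudo-coherent complexes, I (lead)

Generic facts about exact functors and derived categories, lifting morphisms out of a
K-projective complex, and the comparison between the stalks of a restriction to an open
subscheme and the stalks of the original module (over the local ring of the open subscheme).
APPEND-ONLY once landed.
-/

set_option autoImplicit false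
set_option linter.all false
set_option maxHeartbeats 1600000
set_option backward.isDefEq.respectTransparency false
set_option backward.isDefEq.respectTransparency.types false
set_option backward.defeqAttrib.useBackward true

universe u

open CategoryTheory CategoryTheory.Limits AlgebraicGeometry TopologicalSpace Opposite
open CategoryTheory.Pretriangulated

attribute [local instance] HasDerivedCategory.standard

namespace Groth.Agent.Lib.DCohLocLead

open DerSch Groth.Agent.Lib.TorAmpIdL

noncomputable section

open DerivedCategory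

/-! ### Exact functors and derived categories -/

section GenericExact

universe w₁ w₂ v₁ v₂ u₁ u₂

variable {C₁ : Type u₁} [Category.{v₁} C₁] [Abelian C₁] [HasDerivedCategory.{w₁} C₁]
  {C₂ : Type u₂} [Category.{v₂} C₂] [Abelian C₂] [HasDerivedCategory.{w₂} C₂]
  (G : C₁ ⥤ C₂) [G.Additive] [PreservesFiniteLimits G] [PreservesFiniteColimits G]

theorem Lt.mapExact {m : ℤ} {K : DerivedCategory C₁} (h : Lt m K) :
    Lt m (G.mapDerivedCategory.obj K) := by
  intro i hi
  have h1 : IsZero ((Q.objPreimage K : CochainComplex C₁ ℤ).homology i) :=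
    (h i hi).of_iso (((homologyFunctorFactors C₁ i).app (Q.objPreimage K)).symm ≪≫
      (homologyFunctor _ i).mapIso (Q.objObjPreimageIso K))
  have h2 : IsZero (((G.mapHomologicalComplex (ComplexShape.up ℤ)).obj
      (Q.objPreimage K)).homology i) := by
    rw [← HomologicalComplex.exactAt_iff_isZero_homology] at h1 ⊢
    exact ShortComplex.Exact.map h1 G
  exact h2.of_iso ((homologyFunctor _ i).mapIso
    (G.mapDerivedCategory.mapIso (Q.objObjPreimageIso K).symm ≪≫
      G.mapDerivedCategoryFactors.app (Q.objPreimage K)) ≪≫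
      (homologyFunctorFactors C₂ i).app _)

theorem IsApprox.mapExact {m : ℤ} {K L : DerivedCategory C₁} {α : K ⟶ L}
    (h : IsApprox m α) : IsApprox m (G.mapDerivedCategory.map α) := by
  obtain ⟨Z, p, q, hT⟩ := distinguished_cocone_triangle α
  have h1 : Lt m Z := Lt_of_isApprox m _ hT h
  exact isApprox_of_Lt m (G.mapDerivedCategory.mapTriangle.obj (Triangle.mk α p q))
    (G.mapDerivedCategory.map_distinguished _ hT) (h1.mapExact G)

theorem Q_map_mapHC_eq {K L : CochainComplex C₁ ℤ} (f : K ⟶ L) :
    Q.map ((G.mapHomologicalComplex (ComplexShape.up ℤ)).map f) =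
      G.mapDerivedCategoryFactors.inv.app K ≫ G.mapDerivedCategory.map (Q.map f) ≫
        G.mapDerivedCategoryFactors.hom.app L := by
  rw [G.mapDerivedCategoryFactors_hom_naturality f, Iso.inv_hom_id_app_assoc]

theorem mapDerived_Q_map_eq {K L : CochainComplex C₁ ℤ} (f : K ⟶ L) :
    G.mapDerivedCategory.map (Q.map f) =
      G.mapDerivedCategoryFactors.hom.app K ≫
        Q.map ((G.mapHomologicalComplex (ComplexShape.up ℤ)).map f) ≫
        G.mapDerivedCategoryFactors.inv.app L := by
  rw [← Category.assoc, ← G.mapDerivedCategoryFactors_hom_naturality f, Category.assoc,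
    Iso.hom_inv_id_app]
  exact (Category.comp_id _).symm

theorem isApprox_Q_map_mapHC {K L : CochainComplex C₁ ℤ} (f : K ⟶ L) {m : ℤ}
    (h : IsApprox m (Q.map f)) :
    IsApprox m (Q.map ((G.mapHomologicalComplex (ComplexShape.up ℤ)).map f)) := by
  rw [Q_map_mapHC_eq G f]
  exact (IsApprox.of_isIso _).comp ((h.mapExact G).comp (IsApprox.of_isIso _))

theorem isApprox_Q_map_of_mapDerived {K L : CochainComplex C₁ ℤ} (f : K ⟶ L) {m : ℤ}
    (h : IsApprox m (G.mapDerivedCategory.map (Q.map f))) :
    IsApprox m (Q.map ((G.mapHomologicalComplex (ComplexShape.up ℤ)).map f)) := by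
  rw [Q_map_mapHC_eq G f]
  exact (IsApprox.of_isIso _).comp (h.comp (IsApprox.of_isIso _))

theorem isApprox_mapDerived_of_Q_map {K L : CochainComplex C₁ ℤ} (f : K ⟶ L) {m : ℤ}
    (h : IsApprox m (Q.map ((G.mapHomologicalComplex (ComplexShape.up ℤ)).map f))) :
    IsApprox m (G.mapDerivedCategory.map (Q.map f)) := by
  rw [mapDerived_Q_map_eq G f]
  exact (IsApprox.of_isIso _).comp (h.comp (IsApprox.of_isIso _))

/-- Cohomology commutes with an exact functor. -/
theorem nonempty_homology_mapExact_iso (K : DerivedCategory C₁) (i : ℤ) :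
    Nonempty ((homologyFunctor C₂ i).obj (G.mapDerivedCategory.obj K) ≅
      G.obj ((homologyFunctor C₁ i).obj K)) := by
  let F₀ : CochainComplex C₁ ℤ := Q.objPreimage K
  let e : Q.obj F₀ ≅ K := Q.objObjPreimageIso K
  let a : (homologyFunctor C₂ i).obj (G.mapDerivedCategory.obj K) ≅
      ((G.mapHomologicalComplex (ComplexShape.up ℤ)).obj F₀).homology i :=
    (homologyFunctor C₂ i).mapIso (G.mapDerivedCategory.mapIso e.symm ≪≫
      G.mapDerivedCategoryFactors.app F₀) ≪≫ (homologyFunctorFactors C₂ i).app _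
  let b : ((G.mapHomologicalComplex (ComplexShape.up ℤ)).obj F₀).homology i ≅
      G.obj (F₀.homology i) := (F₀.sc i).mapHomologyIso G
  let c : F₀.homology i ≅ (homologyFunctor C₁ i).obj K :=
    ((homologyFunctorFactors C₁ i).app F₀).symm ≪≫ (homologyFunctor C₁ i).mapIso e
  exact ⟨a ≪≫ b ≪≫ G.mapIso c⟩

omit [HasDerivedCategory.{w₂} C₂] in
theorem isIso_homologyFunctor_Q_map_of_quasiIsoAt {K L : CochainComplex C₁ ℤ} (f : K ⟶ L)
    (i : ℤ) (hf : QuasiIsoAt f i) : IsIso ((homologyFunctor C₁ i).map (Q.map f)) := by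
  haveI : IsIso (HomologicalComplex.homologyMap f i) :=
    (quasiIsoAt_iff_isIso_homologyMap f i).1 hf
  exact (NatIso.isIso_map_iff (homologyFunctorFactors C₁ i) f).2
    (by show IsIso (HomologicalComplex.homologyMap f i); infer_instance)

omit [HasDerivedCategory.{w₂} C₂] in
theorem isApprox_of_quasiIsoAt {K L : CochainComplex C₁ ℤ} (f : K ⟶ L) (m : ℤ)
    (hf : ∀ i, m ≤ i → QuasiIsoAt f i) : IsApprox m (Q.map f) := by
  refine ⟨fun i hi => isIso_homologyFunctor_Q_map_of_quasiIsoAt f i (hf i hi.le), ?_⟩
  haveI := isIso_homologyFunctor_Q_map_of_quasiIsoAt f m (hf m le_rfl)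
  infer_instance

omit [HasDerivedCategory.{w₂} C₂] in
theorem Lt_Q_obj_of_isLE (B : CochainComplex C₁ ℤ) (d : ℤ) [B.IsLE d] :
    Lt (d + 1) (Q.obj B) := by
  intro i hi
  have h1 : IsZero (B.homology i) := by
    rw [← HomologicalComplex.exactAt_iff_isZero_homology]
    exact B.exactAt_of_isLE d i (by omega)
  exact h1.of_iso ((homologyFunctorFactors C₁ i).app B)

omit [HasDerivedCategory.{w₂} C₂] in
/-- A morphism in the derived category out of a K-projective complex is represented by a
morphism of complexes. -/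
theorem exists_chainMap_of_isKProjective (L M : CochainComplex C₁ ℤ) [L.IsKProjective]
    (f : Q.obj L ⟶ Q.obj M) : ∃ ψ : L ⟶ M, Q.map ψ = f := by
  obtain ⟨g, hg⟩ := (CochainComplex.IsKProjective.Qh_map_bijective L
    ((HomotopyCategory.quotient C₁ (ComplexShape.up ℤ)).obj M)).2
      ((quotientCompQhIso C₁).hom.app L ≫ f ≫ (quotientCompQhIso C₁).inv.app M)
  obtain ⟨ψ, rfl⟩ := (HomotopyCategory.quotient C₁ (ComplexShape.up ℤ)).map_surjective g
  refine ⟨ψ, ?_⟩
  have h := (quotientCompQhIso C₁).hom.naturality ψ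
  simp only [Functor.comp_map] at h
  rw [hg] at h
  simp only [Category.assoc, Iso.inv_hom_id_app, Category.comp_id] at h
  exact ((cancel_epi _).1 h).symm

end GenericExact

/-! ### Restriction of complexes along open immersions -/

section RCLemmas

variable {Y X : Scheme.{u}} (j : Y ⟶ X) [IsOpenImmersion j]

theorem isGE_RC (K : CochainComplex X.Modules ℤ) (c : ℤ) [K.IsGE c] :
    ((RC j).obj K).IsGE c := by
  rw [CochainComplex.isGE_iff]
  intro i hi
  exact ShortComplex.Exact.map (K.exactAt_of_isGE c i hi) (Scheme.Modules.restrictFunctor j)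

theorem isLE_RC (K : CochainComplex X.Modules ℤ) (d : ℤ) [K.IsLE d] :
    ((RC j).obj K).IsLE d := by
  rw [CochainComplex.isLE_iff]
  intro i hi
  exact ShortComplex.Exact.map (K.exactAt_of_isLE d i hi) (Scheme.Modules.restrictFunctor j)

theorem isPC_RC (K : CochainComplex X.Modules ℤ) {m : ℤ}
    (h : DCoh.IsPseudoCoherentD m (Q.obj K)) :
    DCoh.IsPseudoCoherentD m (Q.obj ((RC j).obj K)) :=
  isPC_of_iso (facIso j K) (isPC_restrict h j)

/-- restriction along a composite, for complexes -/
def rcComp {Z : Scheme.{u}} (k : Z ⟶ Y) [IsOpenImmersion k] (K : CochainComplex X.Modules ℤ) :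
    (RC (k ≫ j)).obj K ≅ (RC k).obj ((RC j).obj K) :=
  (NatIso.mapHomologicalComplex (Scheme.Modules.restrictFunctorComp k j)
    (ComplexShape.up ℤ)).app K

theorem nonempty_iso_of_eq {j l : Y ⟶ X} [IsOpenImmersion j] [IsOpenImmersion l]
    {E F : CochainComplex X.Modules ℤ}
    (h : Nonempty (Q.obj ((RC j).obj E) ≅ Q.obj ((RC j).obj F))) (e : j = l) :
    Nonempty (Q.obj ((RC l).obj E) ≅ Q.obj ((RC l).obj F)) := by
  subst e
  exact h

theorem nonempty_iso_opensRange {E F : CochainComplex X.Modules ℤ}
    (i : Q.obj ((RC j).obj E) ≅ Q.obj ((RC j).obj F)) :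
    Nonempty (Q.obj ((RC j.opensRange.ι).obj E) ≅ Q.obj ((RC j.opensRange.ι).obj F)) := by
  have h1 : Nonempty (Q.obj ((RC (j.isoOpensRange.inv ≫ j)).obj E) ≅
      Q.obj ((RC (j.isoOpensRange.inv ≫ j)).obj F)) :=
    ⟨Q.mapIso (rcComp j j.isoOpensRange.inv E) ≪≫ (facIso j.isoOpensRange.inv _).symm ≪≫
      (DD j.isoOpensRange.inv).mapIso i ≪≫ facIso j.isoOpensRange.inv _ ≪≫
      Q.mapIso (rcComp j j.isoOpensRange.inv F).symm⟩
  exact nonempty_iso_of_eq h1 j.isoOpensRange_inv_comp

end RCLemmas

/-! ### Stalks of a restriction -/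

section Theta

variable {Y X : Scheme.{u}} (j : Y ⟶ X) [IsOpenImmersion j] (y : Y)

/-- the inverse of the stalk map of an open immersion, as a ring homomorphism -/
abbrev sigInv : Y.presheaf.stalk y →+* X.presheaf.stalk (j.base y) :=
  (RestrStalkH8.stalkRingEquiv j y).symm.toRingHom

/-- restriction of scalars along the inverse of the stalk map -/
abbrev rho : ModuleCat.{u} (X.presheaf.stalk (j.base y)) ⥤ ModuleCat.{u} (Y.presheaf.stalk y) :=
  ModuleCat.restrictScalars (sigInv j y)

theorem restrStalk_natural {M N : X.Modules} (φ : M ⟶ N)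
    (t : (M.restrict j).presheaf.stalk y) :
    RestrStalkH8.restrictStalkEquiv j N y
        ((stalkFunctor Y y).map ((Scheme.Modules.restrictFunctor j).map φ) t) =
      (stalkFunctor X (j.base y)).map φ (RestrStalkH8.restrictStalkEquiv j M y t) := by
  obtain ⟨V, hV, s, rfl⟩ := TopCat.Presheaf.exists_germ_eq (F := (M.restrict j).presheaf) t
  have h1 := DerSch.stalkFunctor_map_germ y ((Scheme.Modules.restrictFunctor j).map φ) V hV s
  have h2 := RestrStalkH8.restrictStalkEquiv_germ j N y V hV
    (((Scheme.Modules.restrictFunctor j).map φ).app V s)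
  have h3 := RestrStalkH8.restrictStalkEquiv_germ j M y V hV s
  have h4 := DerSch.stalkFunctor_map_germ (j.base y) φ (j ''ᵁ V) ⟨y, hV, rfl⟩
    (show Γ(M, j ''ᵁ V) from s)
  refine ((congrArg (fun t => RestrStalkH8.restrictStalkEquiv j N y t) h1).trans h2).trans ?_
  refine Eq.trans ?_
    ((congrArg (fun t => (stalkFunctor X (j.base y)).map φ t) h3).trans h4).symm
  rfl

/-- the stalk of a restriction, over the local ring of the open subscheme -/
def restrModIso (M : X.Modules) :
    (stalkFunctor Y y).obj ((Scheme.Modules.restrictFunctor j).obj M) ≅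
      (rho j y).obj ((stalkFunctor X (j.base y)).obj M) :=
  Groth.Agent.Lib.TorAmpPushL.isoOfBijective'
    ((stalkFunctor Y y).obj ((Scheme.Modules.restrictFunctor j).obj M))
    ((rho j y).obj ((stalkFunctor X (j.base y)).obj M))
    { toFun := fun t => RestrStalkH8.restrictStalkEquiv j M y t
      map_add' := fun a b => (RestrStalkH8.restrictStalkEquiv j M y).map_add a b
      map_smul' := fun o t => RestrStalkH8.restrictStalkEquiv_smul j M y o t }
    (RestrStalkH8.restrictStalkEquiv j M y).bijective

theorem restrModIso_natural {M N : X.Modules} (φ : M ⟶ N) :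
    (restrModIso j y M).hom ≫ (rho j y).map ((stalkFunctor X (j.base y)).map φ) =
      (stalkFunctor Y y).map ((Scheme.Modules.restrictFunctor j).map φ) ≫
        (restrModIso j y N).hom := by
  apply ModuleCat.hom_ext
  apply LinearMap.ext
  intro t
  exact (restrStalk_natural j y φ t).symm

/-- the complex of stalks of a restriction -/
def restrCxIso (F : CochainComplex X.Modules ℤ) :
    (stalkCx y).obj ((RC j).obj F) ≅
      ((rho j y).mapHomologicalComplex (ComplexShape.up ℤ)).obj
        ((stalkCx (j.base y)).obj F) :=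
  HomologicalComplex.Hom.isoOfComponents (fun i => restrModIso j y (F.X i)) (by
    intro i k _
    exact restrModIso_natural j y (F.d i k))

theorem restrCxIso_hom_f (F : CochainComplex X.Modules ℤ) (i : ℤ) :
    (restrCxIso j y F).hom.f i = (restrModIso j y (F.X i)).hom := rfl

/-- an isomorphism of the complexes of stalks in the derived category passes to the
restrictions to an open subscheme -/
theorem nonempty_stalk_iso_restrict (A B : CochainComplex X.Modules ℤ)
    (e : DRing.toD ((stalkCx (j.base y)).obj A) ≅ DRing.toD ((stalkCx (j.base y)).obj B)) :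
    Nonempty (DRing.toD ((stalkCx y).obj ((RC j).obj A)) ≅
      DRing.toD ((stalkCx y).obj ((RC j).obj B))) :=
  ⟨Q.mapIso (restrCxIso j y A) ≪≫ ((rho j y).mapDerivedCategoryFactors.app _).symm ≪≫
    (rho j y).mapDerivedCategory.mapIso e ≪≫ (rho j y).mapDerivedCategoryFactors.app _ ≪≫
    Q.mapIso (restrCxIso j y B).symm⟩

/-- transport of approximations along the comparison of stalks -/
theorem isApprox_of_compat {Pc Bc : CochainComplex X.Modules ℤ}
    (ψ : (stalkCx (j.base y)).obj Pc ⟶ (stalkCx (j.base y)).obj Bc)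
    (ψ' : (RC j).obj Pc ⟶ (RC j).obj Bc)
    (h : (stalkCx y).map ψ' ≫ (restrCxIso j y Bc).hom =
      (restrCxIso j y Pc).hom ≫ ((rho j y).mapHomologicalComplex (ComplexShape.up ℤ)).map ψ)
    {m : ℤ} (hψ : IsApprox m (Q.map ψ)) : IsApprox m (Q.map ((stalkCx y).map ψ')) := by
  have e : (stalkCx y).map ψ' = (restrCxIso j y Pc).hom ≫
      ((rho j y).mapHomologicalComplex (ComplexShape.up ℤ)).map ψ ≫
        (restrCxIso j y Bc).inv := by
    rw [← Category.assoc, ← h, Category.assoc, Iso.hom_inv_id, Category.comp_id]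
  rw [e, Functor.map_comp, Functor.map_comp]
  exact (IsApprox.of_isIso _).comp
    ((isApprox_Q_map_mapHC (rho j y) ψ hψ).comp (IsApprox.of_isIso _))

end Theta

end

end Groth.Agent.Lib.DCohLocLead
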