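import Mathlib
import Groth.Prelude

/-!
# Skyscraper `O_X`-modules and the adjunction `stalk ⊣ skyscraper` (lead)

For a point `x` of a scheme `X` and a module `E` over the local ring `O_{X,x}`, the skyscraper
module `sky x E` has sections `(x ∈ V) → E` over `V`; it is right adjoint to the stalk functor.
-/

set_option autoImplicit false
set_option linter.all false
set_option maxHeartbeats 1600000
set_option backward.isDefEq.respectTransparency false
set_option backward.isDefEq.respectTransparency.types false
set_option backward.defeqAttrib.useBackward true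

universe u
open CategoryTheory CategoryTheory.Limits AlgebraicGeometry Opposite TopologicalSpace

namespace Groth.Agent.Lib.StalkSkyL

noncomputable section

variable {X : Scheme.{u}} (x : X)

/-- germ of a function, as a ring homomorphism -/
abbrev gm (V : X.Opens) (hx : x ∈ V) : Γ(X, V) →+* X.presheaf.stalk x :=
  (X.presheaf.germ V x hx).hom

lemma gm_res {V W : X.Opens} (i : W ⟶ V) (hx : x ∈ W) (r : Γ(X, V)) :
    gm x W hx (X.presheaf.map i.op r) = gm x V (i.le hx) r :=
  X.presheaf.germ_res_apply i x hx r

variable (E : ModuleCat.{u} (X.presheaf.stalk x))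

/-- sections of the skyscraper module -/
def SkySec (V : X.Opens) : Type u := PLift (x ∈ V) → E

instance (V : X.Opens) : AddCommGroup (SkySec x E V) :=
  inferInstanceAs (AddCommGroup (PLift (x ∈ V) → E))

instance skyModule (V : X.Opens) : Module Γ(X, V) (SkySec x E V) where
  smul r φ := fun h => gm x V h.down r • φ h
  one_smul φ := by
    funext h
    show gm x V h.down 1 • φ h = φ h
    rw [map_one, one_smul]
  mul_smul r s φ := by
    funext h
    show gm x V h.down (r * s) • φ h = gm x V h.down r • (gm x V h.down s • φ h)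
    rw [map_mul, mul_smul]
  smul_zero r := by
    funext h
    show gm x V h.down r • (0 : E) = 0
    exact smul_zero _
  smul_add r φ ψ := by
    funext h
    show gm x V h.down r • (φ h + ψ h) = gm x V h.down r • φ h + gm x V h.down r • ψ h
    exact smul_add _ _ _
  add_smul r s φ := by
    funext h
    show gm x V h.down (r + s) • φ h = gm x V h.down r • φ h + gm x V h.down s • φ h
    rw [map_add, add_smul]
  zero_smul φ := by
    funext h
    show gm x V h.down 0 • φ h = 0
    rw [map_zero, zero_smul]

lemma skySec_smul_apply (V : X.Opens) (r : Γ(X, V)) (φ : SkySec x E V) (h : PLift (x ∈ V)) :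
    (r • φ) h = gm x V h.down r • φ h := rfl

/-- the underlying abelian presheaf of the skyscraper module -/
def skyAb : X.Opensᵒᵖ ⥤ Ab.{u} where
  obj V := AddCommGrpCat.of (SkySec x E V.unop)
  map {V W} f := AddCommGrpCat.ofHom
    { toFun := fun φ h => φ ⟨leOfHom f.unop h.down⟩
      map_zero' := rfl
      map_add' := fun _ _ => rfl }
  map_id V := by
    ext φ
    rfl
  map_comp f g := by
    ext φ
    rfl

instance skyAbModule (V : X.Opensᵒᵖ) :
    Module (X.ringCatSheaf.obj.obj V) ((skyAb x E).obj V) :=
  inferInstanceAs (Module Γ(X, V.unop) (SkySec x E V.unop))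

lemma skyAb_map_smul ⦃V W : X.Opensᵒᵖ⦄ (f : V ⟶ W) (r : X.ringCatSheaf.obj.obj V)
    (m : (skyAb x E).obj V) :
    (skyAb x E).map f (r • m) = X.ringCatSheaf.obj.map f r • (skyAb x E).map f m := by
  funext h
  show gm x V.unop (leOfHom f.unop h.down) r • (show SkySec x E V.unop from m) ⟨_⟩ =
    gm x W.unop h.down (X.presheaf.map f r) • (show SkySec x E V.unop from m) ⟨_⟩
  congr 1
  exact (X.presheaf.germ_res_apply f.unop x h.down r).symm

/-- the skyscraper presheaf of modules -/
def skyPre : PresheafOfModules.{u} X.ringCatSheaf.obj :=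
  PresheafOfModules.ofPresheaf (skyAb x E) (skyAb_map_smul x E)

lemma skyAb_isSheaf : TopCat.Presheaf.IsSheaf (skyAb x E) := by
  rw [TopCat.Presheaf.isSheaf_iff_isSheafUniqueGluing]
  intro ι U sf hsf
  have hmem : ∀ h : PLift (x ∈ iSup U), ∃ i, x ∈ U i := fun h => Opens.mem_iSup.mp h.down
  let s : SkySec x E (iSup U) := fun h =>
    (show SkySec x E (U (Classical.choose (hmem h))) from sf (Classical.choose (hmem h)))
      ⟨Classical.choose_spec (hmem h)⟩
  have key : ∀ (i j : ι) (hi : x ∈ U i) (hj : x ∈ U j),
      (show SkySec x E (U i) from sf i) ⟨hi⟩ = (show SkySec x E (U j) from sf j) ⟨hj⟩ := by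
    intro i j hi hj
    exact congrArg (fun (φ : SkySec x E (U i ⊓ U j)) => φ ⟨⟨hi, hj⟩⟩) (hsf i j)
  refine ⟨s, ?_, ?_⟩
  · intro i
    funext h
    exact key _ i _ h.down
  · intro s' hs'
    funext h
    exact congrArg (fun (φ : SkySec x E (U (Classical.choose (hmem h)))) =>
      φ ⟨Classical.choose_spec (hmem h)⟩) (hs' (Classical.choose (hmem h)))

/-- the skyscraper module at `x` with value `E` -/
def sky : X.Modules where
  val := skyPre x E
  isSheaf := skyAb_isSheaf x E

/-- a section of the skyscraper, as a function -/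
def skyFun {V : X.Opens} (φ : Γ(sky x E, V)) : PLift (x ∈ V) → E := φ

/-- a function, as a section of the skyscraper -/
def skyMk {V : X.Opens} (φ : PLift (x ∈ V) → E) : Γ(sky x E, V) := φ

@[simp] lemma skyFun_skyMk {V : X.Opens} (φ : PLift (x ∈ V) → E) :
    skyFun x E (skyMk x E φ) = φ := rfl

@[simp] lemma skyMk_skyFun {V : X.Opens} (φ : Γ(sky x E, V)) :
    skyMk x E (skyFun x E φ) = φ := rfl

lemma sky_ext {V : X.Opens} (φ ψ : Γ(sky x E, V))
    (h : ∀ k, skyFun x E φ k = skyFun x E ψ k) : φ = ψ := funext h

lemma skyFun_smul {V : X.Opens} (r : Γ(X, V)) (φ : Γ(sky x E, V)) (h : PLift (x ∈ V)) :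
    skyFun x E (r • φ) h = gm x V h.down r • skyFun x E φ h := rfl

lemma skyFun_add {V : X.Opens} (φ ψ : Γ(sky x E, V)) (h : PLift (x ∈ V)) :
    skyFun x E (φ + ψ) h = skyFun x E φ h + skyFun x E ψ h := rfl

lemma skyFun_zero {V : X.Opens} (h : PLift (x ∈ V)) :
    skyFun x E (0 : Γ(sky x E, V)) h = 0 := rfl

lemma skyFun_map {V W : X.Opens} (i : W ⟶ V) (φ : Γ(sky x E, V)) (h : PLift (x ∈ W)) :
    skyFun x E ((sky x E).presheaf.map i.op φ) h = skyFun x E φ ⟨i.le h.down⟩ := rfl

lemma subsingleton_sky_of_not_mem {V : X.Opens} (hx : x ∉ V) : Subsingleton Γ(sky x E, V) :=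
  ⟨fun φ ψ => funext fun h => (hx h.down).elim⟩


/-! ### functoriality -/

/-- the map on skyscrapers induced by a linear map -/
def skyMap {E E' : ModuleCat.{u} (X.presheaf.stalk x)} (g : E ⟶ E') : sky x E ⟶ sky x E' :=
  (⟨PresheafOfModules.homMk (M₁ := skyPre x E) (M₂ := skyPre x E')
    { app := fun V => AddCommGrpCat.ofHom
        { toFun := fun φ h => g.hom ((show SkySec x E V.unop from φ) h)
          map_zero' := by funext h; exact map_zero g.hom
          map_add' := fun φ ψ => by funext h; exact map_add g.hom _ _ }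
      naturality := fun V W f => by
        ext φ
        rfl }
    (fun V r m => by
      funext h
      exact map_smul g.hom _ _)⟩ : SheafOfModules.Hom (sky x E) (sky x E'))

lemma skyMap_app {E E' : ModuleCat.{u} (X.presheaf.stalk x)} (g : E ⟶ E') (V : X.Opens)
    (φ : Γ(sky x E, V)) (h : PLift (x ∈ V)) :
    skyFun x E' ((skyMap x g).app V φ) h = g.hom (skyFun x E φ h) := rfl

/-- the skyscraper functor -/
def skyFunctor : ModuleCat.{u} (X.presheaf.stalk x) ⥤ X.Modules where
  obj E := sky x E
  map g := skyMap x g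
  map_id E := by
    apply Scheme.Modules.hom_ext
    intro U
    ext φ
    rfl
  map_comp g g' := by
    apply Scheme.Modules.hom_ext
    intro U
    ext φ
    rfl

/-! ### unit -/

/-- germs of a section, as a section of the skyscraper -/
def skyUnit (M : X.Modules) : M ⟶ sky x ((DerSch.stalkFunctor X x).obj M) :=
  (⟨PresheafOfModules.homMk (M₁ := M.val) (M₂ := skyPre x ((DerSch.stalkFunctor X x).obj M))
    { app := fun V => AddCommGrpCat.ofHom
        { toFun := fun s h => M.presheaf.germ V.unop x h.down s
          map_zero' := by funext h; exact map_zero _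
          map_add' := fun s t => by funext h; exact map_add _ _ _ }
      naturality := fun V W f => by
        ext s
        funext h
        exact M.presheaf.germ_res_apply f.unop x h.down s }
    (fun V r m => by
      funext h
      exact PresheafOfModules.germ_smul (R := X.presheaf)
        (show PresheafOfModules (X.presheaf ⋙ forget₂ CommRingCat RingCat) from M.val)
        x V.unop h.down r m)⟩ :
    SheafOfModules.Hom M (sky x ((DerSch.stalkFunctor X x).obj M)))

lemma skyUnit_app (M : X.Modules) (V : X.Opens) (s : Γ(M, V)) (h : PLift (x ∈ V)) :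
    skyFun x _ ((skyUnit x M).app V s) h = M.presheaf.germ V x h.down s := rfl

/-! ### counit -/

/-- the cocone defining the counit -/
def skyCocone : Cocone ((OpenNhds.inclusion x).op ⋙ (sky x E).presheaf) where
  pt := AddCommGrpCat.of E
  ι :=
    { app := fun U => AddCommGrpCat.ofHom
        { toFun := fun φ => skyFun x E (V := U.unop.1) φ ⟨U.unop.2⟩
          map_zero' := rfl
          map_add' := fun _ _ => rfl }
      naturality := fun U V f => by
        ext φ
        rfl }

/-- evaluation of germs, additive -/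
def skyCounitAb : (sky x E).presheaf.stalk x ⟶ AddCommGrpCat.of E :=
  colimit.desc ((OpenNhds.inclusion x).op ⋙ (sky x E).presheaf) (skyCocone x E)

lemma skyCounitAb_germ (V : X.Opens) (hx : x ∈ V) (φ : Γ(sky x E, V)) :
    skyCounitAb x E ((sky x E).presheaf.germ V x hx φ) = skyFun x E φ ⟨hx⟩ := by
  have h := colimit.ι_desc (skyCocone x E) (op (⟨V, hx⟩ : OpenNhds x))
  have h2 := ConcreteCategory.congr_hom h φ
  rw [ConcreteCategory.comp_apply] at h2
  exact h2

/-- evaluation of germs, linear -/
def skyCounitLin :
    ↑((DerSch.stalkFunctor X x).obj (sky x E)) →ₗ[X.presheaf.stalk x] E where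
  toFun m := skyCounitAb x E m
  map_add' a b := map_add _ a b
  map_smul' r m := by
    obtain ⟨U, hxU, a, rfl⟩ := X.presheaf.exists_germ_eq (x := x) r
    obtain ⟨V, hxV, φ, rfl⟩ := (sky x E).presheaf.exists_germ_eq (x := x) m
    have hxW : x ∈ U ⊓ V := ⟨hxU, hxV⟩
    have hs := X.presheaf.germ_res_apply (homOfLE inf_le_left : U ⊓ V ⟶ U) x hxW a
    have ht := (sky x E).presheaf.germ_res_apply (homOfLE inf_le_right : U ⊓ V ⟶ V) x hxW φ
    rw [← hs, ← ht]
    generalize X.presheaf.map (homOfLE inf_le_left : U ⊓ V ⟶ U).op a = a'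
    generalize (sky x E).presheaf.map (homOfLE inf_le_right : U ⊓ V ⟶ V).op φ = φ'
    have key : (sky x E).presheaf.germ (U ⊓ V) x hxW (a' • φ') =
        X.presheaf.germ (U ⊓ V) x hxW a' • (sky x E).presheaf.germ (U ⊓ V) x hxW φ' :=
      PresheafOfModules.germ_smul (R := X.presheaf)
        (show PresheafOfModules (X.presheaf ⋙ forget₂ CommRingCat RingCat) from (sky x E).val)
        x (U ⊓ V) hxW a' φ'
    rw [← key]
    simp only [RingHom.id_apply]
    rw [skyCounitAb_germ, skyCounitAb_germ]
    rfl

/-- the counit: evaluation of germs -/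
def skyCounit : (DerSch.stalkFunctor X x).obj (sky x E) ⟶ E :=
  ModuleCat.ofHom (skyCounitLin x E)

lemma skyCounit_germ (V : X.Opens) (hx : x ∈ V) (φ : Γ(sky x E, V)) :
    (skyCounit x E).hom ((sky x E).presheaf.germ V x hx φ) = skyFun x E φ ⟨hx⟩ :=
  skyCounitAb_germ x E V hx φ

/-! ### the adjunction -/

lemma skyUnit_naturality {M N : X.Modules} (φ : M ⟶ N) :
    φ ≫ skyUnit x N = skyUnit x M ≫ skyMap x ((DerSch.stalkFunctor X x).map φ) := by
  apply Scheme.Modules.hom_ext
  intro U
  ext s
  funext h
  exact (DerSch.stalkFunctor_map_germ x φ U h.down s).symm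

lemma skyCounit_naturality {E E' : ModuleCat.{u} (X.presheaf.stalk x)} (g : E ⟶ E') :
    (DerSch.stalkFunctor X x).map (skyMap x g) ≫ skyCounit x E' = skyCounit x E ≫ g := by
  ext m
  obtain ⟨V, hxV, φ, rfl⟩ := (sky x E).presheaf.exists_germ_eq (x := x) m
  show (skyCounit x E').hom ((DerSch.stalkFunctor X x).map (skyMap x g)
    ((sky x E).presheaf.germ V x hxV φ)) = g.hom ((skyCounit x E).hom _)
  rw [DerSch.stalkFunctor_map_germ, skyCounit_germ, skyCounit_germ]
  rfl

lemma left_tri (M : X.Modules) :
    (DerSch.stalkFunctor X x).map (skyUnit x M) ≫ skyCounit x ((DerSch.stalkFunctor X x).obj M) =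
      𝟙 _ := by
  ext m
  obtain ⟨V, hxV, s, rfl⟩ := M.presheaf.exists_germ_eq (x := x) m
  show (skyCounit x _).hom ((DerSch.stalkFunctor X x).map (skyUnit x M)
    (M.presheaf.germ V x hxV s)) = M.presheaf.germ V x hxV s
  rw [DerSch.stalkFunctor_map_germ, skyCounit_germ]
  rfl

lemma right_tri :
    skyUnit x (sky x E) ≫ skyMap x (skyCounit x E) = 𝟙 _ := by
  apply Scheme.Modules.hom_ext
  intro U
  ext φ
  funext h
  exact skyCounit_germ x E U h.down φ

/-- the stalk functor is left adjoint to the skyscraper functor -/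
def stalkSkyAdj : DerSch.stalkFunctor X x ⊣ skyFunctor x :=
  Adjunction.mkOfUnitCounit
    { unit :=
        { app := fun M => skyUnit x M
          naturality := fun M N φ => skyUnit_naturality x φ }
      counit :=
        { app := fun E => skyCounit x E
          naturality := fun E E' g => skyCounit_naturality x g }
      left_triangle := by
        refine NatTrans.ext (funext fun M => ?_)
        dsimp
        rw [Category.id_comp]
        exact left_tri x M
      right_triangle := by
        refine NatTrans.ext (funext fun E => ?_)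
        dsimp
        rw [Category.id_comp]
        exact right_tri x E }

instance : (skyFunctor x).IsRightAdjoint := (stalkSkyAdj x).isRightAdjoint
instance : (DerSch.stalkFunctor X x).IsLeftAdjoint := (stalkSkyAdj x).isLeftAdjoint

end

end Groth.Agent.Lib.StalkSkyL
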