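import Mathlib
import Groth.Prelude
import Groth.Agent.Lib.StalkSky1_lead
import Groth.Agent.Lib.TorAmpId_lead

/-!
# Stalks of pullbacks of `O`-modules; exactness of pullback along a flat morphism (lead)
-/

set_option autoImplicit false
set_option linter.all false
set_option maxHeartbeats 1600000
set_option backward.isDefEq.respectTransparency false
set_option backward.isDefEq.respectTransparency.types false
set_option backward.defeqAttrib.useBackward true

universe u
open CategoryTheory CategoryTheory.Limits AlgebraicGeometry Opposite TopologicalSpace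

namespace Groth.Agent.Lib.StalkSkyL

open Groth.Agent.Lib.TorAmpPushL

noncomputable section

variable {X Y : Scheme.{u}}

/-! ### zero and mono criteria -/

theorem isZero_of_forall_stalk (M : X.Modules)
    (h : ∀ x : X, Subsingleton (M.presheaf.stalk x)) : IsZero M := by
  apply CohDevH8.isZero_of_support_eq_empty
  ext x
  simp only [Set.mem_empty_iff_false, iff_false]
  intro hx
  exact hx (h x)

theorem mono_of_forall_stalk_mono {A B : X.Modules} (g : A ⟶ B)
    (h : ∀ x : X, Mono ((DerSch.stalkFunctor X x).map g)) : Mono g := by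
  apply Preadditive.mono_of_kernel_zero
  have hz : IsZero (kernel g) := by
    apply isZero_of_forall_stalk
    intro x
    haveI := h x
    have h1 : (DerSch.stalkFunctor X x).map (kernel.ι g) ≫
        (DerSch.stalkFunctor X x).map g = 0 := by
      rw [← Functor.map_comp, kernel.condition, Functor.map_zero]
    have h2 : (DerSch.stalkFunctor X x).map (kernel.ι g) = 0 := by
      rw [← cancel_mono ((DerSch.stalkFunctor X x).map g), h1, zero_comp]
    haveI : Mono ((DerSch.stalkFunctor X x).map (kernel.ι g)) := inferInstance
    have h3 : IsZero ((DerSch.stalkFunctor X x).obj (kernel g)) := by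
      rw [IsZero.iff_id_eq_zero,
        ← cancel_mono ((DerSch.stalkFunctor X x).map (kernel.ι g)), h2, comp_zero, zero_comp]
    exact ModuleCat.subsingleton_of_isZero h3
  exact hz.eq_of_src _ _

theorem hom_eq_zero_of_forall_stalk {A B : X.Modules} (g : A ⟶ B)
    (h : ∀ x : X, (DerSch.stalkFunctor X x).map g = 0) : g = 0 := by
  apply Scheme.Modules.hom_ext
  intro U
  ext s
  refine TopCat.Presheaf.section_ext (⟨B.presheaf, B.isSheaf⟩ : TopCat.Sheaf Ab X) U _ _ ?_
  intro x hx
  have h1 := DerSch.stalkFunctor_map_germ x g U hx s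
  rw [h x] at h1
  show B.presheaf.germ U x hx (g.app U s) = B.presheaf.germ U x hx 0
  rw [← h1, map_zero]
  rfl

/-! ### the direct image of a skyscraper is a skyscraper -/

variable (f : X ⟶ Y) (x : X)

/-- the map of local rings -/
abbrev stk : Y.presheaf.stalk (f.base x) →+* X.presheaf.stalk x := (f.stalkMap x).hom

lemma stk_gm (V : Y.Opens) (hx : f.base x ∈ V) (r : Γ(Y, V)) :
    stk f x (gm (f.base x) V hx r) = gm x (f ⁻¹ᵁ V) hx ((f.app V).hom r) :=
  Scheme.Hom.germ_stalkMap_apply f V x hx r

variable (E : ModuleCat.{u} (X.presheaf.stalk x))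

/-- the direct image of a skyscraper is a skyscraper: the map -/
def pushSkyHom :
    (Scheme.Modules.pushforward f).obj (sky x E) ⟶
      sky (f.base x) ((ModuleCat.restrictScalars (stk f x)).obj E) :=
  (⟨PresheafOfModules.homMk
    (M₁ := ((Scheme.Modules.pushforward f).obj (sky x E)).val)
    (M₂ := skyPre (f.base x) ((ModuleCat.restrictScalars (stk f x)).obj E))
    { app := fun V => AddCommGrpCat.ofHom
        { toFun := fun φ h => (show SkySec x E (f ⁻¹ᵁ V.unop) from φ) ⟨h.down⟩
          map_zero' := rfl
          map_add' := fun _ _ => rfl }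
      naturality := fun V W i => by
        ext φ
        rfl }
    (fun V r m => by
      funext h
      show gm x (f ⁻¹ᵁ V.unop) h.down ((f.app V.unop).hom r) •
          (show SkySec x E (f ⁻¹ᵁ V.unop) from m) ⟨h.down⟩ =
        (stk f x) (gm (f.base x) V.unop h.down r) •
          (show SkySec x E (f ⁻¹ᵁ V.unop) from m) ⟨h.down⟩
      rw [stk_gm])⟩ : SheafOfModules.Hom _ _)

/-- the direct image of a skyscraper is a skyscraper: the inverse map -/
def pushSkyInv :
    sky (f.base x) ((ModuleCat.restrictScalars (stk f x)).obj E) ⟶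
      (Scheme.Modules.pushforward f).obj (sky x E) :=
  (⟨PresheafOfModules.homMk
    (M₁ := skyPre (f.base x) ((ModuleCat.restrictScalars (stk f x)).obj E))
    (M₂ := ((Scheme.Modules.pushforward f).obj (sky x E)).val)
    { app := fun V => AddCommGrpCat.ofHom
        { toFun := fun φ => (show SkySec x E (f ⁻¹ᵁ V.unop) from
            fun h => (show SkySec (f.base x) ((ModuleCat.restrictScalars (stk f x)).obj E) V.unop
              from φ) ⟨h.down⟩)
          map_zero' := rfl
          map_add' := fun _ _ => rfl }
      naturality := fun V W i => by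
        ext φ
        rfl }
    (fun V r m => by
      funext h
      show (stk f x) (gm (f.base x) V.unop h.down r) •
          (show SkySec (f.base x) ((ModuleCat.restrictScalars (stk f x)).obj E) V.unop
            from m) ⟨h.down⟩ =
        gm x (f ⁻¹ᵁ V.unop) h.down ((f.app V.unop).hom r) •
          (show SkySec (f.base x) ((ModuleCat.restrictScalars (stk f x)).obj E) V.unop
            from m) ⟨h.down⟩
      rw [stk_gm])⟩ : SheafOfModules.Hom _ _)

/-- the direct image of a skyscraper is a skyscraper -/
def pushSkyIsoApp :
    (Scheme.Modules.pushforward f).obj (sky x E) ≅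
      sky (f.base x) ((ModuleCat.restrictScalars (stk f x)).obj E) where
  hom := pushSkyHom f x E
  inv := pushSkyInv f x E
  hom_inv_id := by
    apply Scheme.Modules.hom_ext
    intro U
    ext φ
    rfl
  inv_hom_id := by
    apply Scheme.Modules.hom_ext
    intro U
    ext φ
    rfl

/-- the direct image of a skyscraper is a skyscraper, functorially -/
def pushSkyIso :
    skyFunctor x ⋙ Scheme.Modules.pushforward f ≅
      ModuleCat.restrictScalars (stk f x) ⋙ skyFunctor (f.base x) :=
  NatIso.ofComponents (fun E => pushSkyIsoApp f x E) (by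
    intro E E' g
    apply Scheme.Modules.hom_ext
    intro U
    ext φ
    rfl)

/-! ### the stalk of a pullback -/

/-- `(f^* -)_x` is left adjoint to `f_* ∘ sky_x` -/
def pullStalkAdj :
    Scheme.Modules.pullback f ⋙ DerSch.stalkFunctor X x ⊣
      skyFunctor x ⋙ Scheme.Modules.pushforward f :=
  (Scheme.Modules.pullbackPushforwardAdjunction f).comp (stalkSkyAdj x)

/-- `O_{X,x} ⊗ (-)_{f x}` is left adjoint to `sky_{f x} ∘ restriction of scalars` -/
def stalkExtAdj :
    DerSch.stalkFunctor Y (f.base x) ⋙ ModuleCat.extendScalars.{u, u, u} (stk f x) ⊣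
      ModuleCat.restrictScalars.{u, u, u} (stk f x) ⋙ skyFunctor (f.base x) :=
  (stalkSkyAdj (f.base x)).comp (ModuleCat.extendRestrictScalarsAdj.{u, u, u} (stk f x))

/-- the stalk of a pullback: `(f^* M)_x ≅ O_{X,x} ⊗ M_{f x}`, functorially in `M` -/
def pullbackStalkIso :
    Scheme.Modules.pullback f ⋙ DerSch.stalkFunctor X x ≅
      DerSch.stalkFunctor Y (f.base x) ⋙ ModuleCat.extendScalars.{u, u, u} (stk f x) :=
  ((pullStalkAdj f x).ofNatIsoRight (pushSkyIso f x)).leftAdjointUniq (stalkExtAdj f x)

/-! ### flat pullback is exact -/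

theorem mono_pullback_map_of_flat [Flat f] {A B : Y.Modules} (m : A ⟶ B) [Mono m] :
    Mono ((Scheme.Modules.pullback f).map m) := by
  apply mono_of_forall_stalk_mono
  intro x
  have hflat : (stk f x).Flat := Flat.stalkMap f x
  haveI : PreservesFiniteLimits (ModuleCat.extendScalars.{u, u, u} (stk f x)) :=
    ModuleCat.preservesFiniteLimits_extendScalars_of_flat hflat
  have hnat := (pullbackStalkIso f x).hom.naturality m
  haveI h1 : Mono ((DerSch.stalkFunctor Y (f.base x) ⋙
      ModuleCat.extendScalars.{u, u, u} (stk f x)).map m) := by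
    dsimp only [Functor.comp_map]
    infer_instance
  have hA : Mono ((pullbackStalkIso f x).hom.app A) :=
    @IsIso.mono_of_iso _ _ _ _ ((pullbackStalkIso f x).hom.app A)
      (Iso.isIso_hom ((pullbackStalkIso f x).app A))
  haveI h2 : Mono ((Scheme.Modules.pullback f ⋙ DerSch.stalkFunctor X x).map m ≫
      (pullbackStalkIso f x).hom.app B) := by
    rw [hnat]
    exact mono_comp' hA h1
  exact mono_of_mono ((Scheme.Modules.pullback f ⋙ DerSch.stalkFunctor X x).map m)
    ((pullbackStalkIso f x).hom.app B)

instance preservesMonomorphisms_pullback_of_flat [Flat f] :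
    (Scheme.Modules.pullback f).PreservesMonomorphisms where
  preserves m _ := mono_pullback_map_of_flat f m

theorem preservesFiniteLimits_pullback_of_flat [Flat f] :
    PreservesFiniteLimits (Scheme.Modules.pullback f) := by
  rw [Functor.preservesFiniteLimits_iff_forall_exact_map_and_mono]
  intro S hS
  have h1 := (Functor.preservesFiniteColimits_iff_forall_exact_map_and_epi
    (Scheme.Modules.pullback f)).mp inferInstance S hS
  haveI := hS.mono_f
  exact ⟨h1.1, mono_pullback_map_of_flat f S.f⟩

end

end Groth.Agent.Lib.StalkSkyL
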