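import Mathlib
import Groth.Prelude
import Groth.Agent.Lib.StalkSky2_lead
import Groth.Agent.Lib.PCohStalk1_lead

/-!
# Extension by zero is exact; K-injectivity and right adjoints of exact functors (lead)
-/

set_option autoImplicit false
set_option linter.all false
set_option maxHeartbeats 1600000
set_option backward.isDefEq.respectTransparency false
set_option backward.isDefEq.respectTransparency.types false
set_option backward.defeqAttrib.useBackward true

universe u
open CategoryTheory CategoryTheory.Limits AlgebraicGeometry Opposite TopologicalSpace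

namespace Groth.Agent.Lib.StalkSkyL

open Groth.Agent.Lib.TorAmpPushL

noncomputable section

/-! ### K-injectivity and adjunctions -/

section KInj

variable {C D : Type*} [Category C] [Category D] [Abelian C] [Abelian D]
  {L : C ⥤ D} {R : D ⥤ C} [L.Additive] [R.Additive] (adj : L ⊣ R)

/-- the unit on complexes -/
def unitC {ι : Type*} (c : ComplexShape ι) : 𝟭 (HomologicalComplex C c) ⟶
    L.mapHomologicalComplex c ⋙ R.mapHomologicalComplex c where
  app K :=
    { f := fun i => adj.unit.app (K.X i)
      comm' := fun i j _ => (adj.unit.naturality (K.d i j)).symm }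
  naturality K K' f := by
    ext i
    exact adj.unit.naturality (f.f i)

/-- the counit on complexes -/
def counitC {ι : Type*} (c : ComplexShape ι) :
    R.mapHomologicalComplex c ⋙ L.mapHomologicalComplex c ⟶ 𝟭 (HomologicalComplex D c) where
  app K :=
    { f := fun i => adj.counit.app (K.X i)
      comm' := fun i j _ => (adj.counit.naturality (K.d i j)).symm }
  naturality K K' f := by
    ext i
    exact adj.counit.naturality (f.f i)

/-- the adjunction on complexes -/
def adjC {ι : Type*} (c : ComplexShape ι) :
    L.mapHomologicalComplex c ⊣ R.mapHomologicalComplex c where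
  unit := unitC adj c
  counit := counitC adj c
  left_triangle_components K := by
    ext i
    exact adj.left_triangle_components (K.X i)
  right_triangle_components K := by
    ext i
    exact adj.right_triangle_components (K.X i)

include adj in
/-- a right adjoint of an exact functor preserves K-injective complexes -/
theorem isKInjective_map_of_adjunction [PreservesFiniteLimits L] [PreservesFiniteColimits L]
    (I : CochainComplex D ℤ) [I.IsKInjective] :
    CochainComplex.IsKInjective ((R.mapHomologicalComplex (ComplexShape.up ℤ)).obj I) := by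
  refine ⟨fun {K} g hK => ?_⟩
  let A := adjC adj (ComplexShape.up ℤ)
  let g' : (L.mapHomologicalComplex (ComplexShape.up ℤ)).obj K ⟶ I := (A.homEquiv K I).symm g
  have hac : ((L.mapHomologicalComplex (ComplexShape.up ℤ)).obj K).Acyclic := by
    intro i
    exact ShortComplex.Exact.map (hK i) L
  have h : Homotopy g' 0 := CochainComplex.IsKInjective.homotopyZero g' hac
  have hg : g = A.unit.app K ≫ (R.mapHomologicalComplex (ComplexShape.up ℤ)).map g' := by
    exact (Equiv.apply_symm_apply (A.homEquiv K I) g).symm.trans
      (A.homEquiv_unit (X := K) (Y := I) (f := g'))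
  have h0 : A.unit.app K ≫ (R.mapHomologicalComplex (ComplexShape.up ℤ)).map
      (0 : (L.mapHomologicalComplex (ComplexShape.up ℤ)).obj K ⟶ I) = 0 := by
    rw [Functor.map_zero, comp_zero]
  exact ⟨(Homotopy.ofEq hg).trans
    (((Functor.mapHomotopy R h).compLeft (A.unit.app K)).trans (Homotopy.ofEq h0))⟩

end KInj

/-! ### extension by zero -/

section ExtZero

variable {U X : Scheme.{u}} (j : U ⟶ X) [IsOpenImmersion j]

instance isIso_extZeroAdj_unit : IsIso (CxOX.extZeroAdj j).unit := by
  let t : Adjunction.Triple (CxOX.extZero j) (Scheme.Modules.restrictFunctor j)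
      (Scheme.Modules.pushforward j) :=
    ⟨CxOX.extZeroAdj j, Scheme.Modules.restrictAdjunction j⟩
  exact t.isIso_unit_iff_isIso_counit.mpr inferInstance

theorem isZero_restrict_sky (x : X) (hx : x ∉ Set.range j.base)
    (E : ModuleCat.{u} (X.presheaf.stalk x)) :
    IsZero ((Scheme.Modules.restrictFunctor j).obj (sky x E)) := by
  rw [IsZero.iff_id_eq_zero]
  apply Scheme.Modules.hom_ext
  intro V
  haveI : Subsingleton Γ((Scheme.Modules.restrictFunctor j).obj (sky x E), V) := by
    show Subsingleton Γ(sky x E, j ''ᵁ V)
    apply subsingleton_sky_of_not_mem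
    rintro ⟨y, -, rfl⟩
    exact hx ⟨y, rfl⟩
  ext s
  exact Subsingleton.elim _ _

theorem subsingleton_stalk_extZero (A : U.Modules) (x : X) (hx : x ∉ Set.range j.base) :
    Subsingleton (((CxOX.extZero j).obj A).presheaf.stalk x) := by
  have hη : skyUnit x ((CxOX.extZero j).obj A) = 0 := by
    apply ((CxOX.extZeroAdj j).homEquiv A _).injective
    exact (isZero_restrict_sky j x hx _).eq_of_tgt _ _
  have key : ∀ m : ((CxOX.extZero j).obj A).presheaf.stalk x, m = 0 := by
    intro m
    obtain ⟨V, hxV, s, rfl⟩ := ((CxOX.extZero j).obj A).presheaf.exists_germ_eq (x := x) m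
    have h1 := skyUnit_app x ((CxOX.extZero j).obj A) V s ⟨hxV⟩
    rw [hη] at h1
    exact h1.symm
  exact ⟨fun a b => (key a).trans (key b).symm⟩

theorem mono_extZero_map {A B : U.Modules} (m : A ⟶ B) [Mono m] :
    Mono ((CxOX.extZero j).map m) := by
  apply mono_of_forall_stalk_mono
  intro x
  rw [ModuleCat.mono_iff_injective]
  by_cases hx : x ∈ Set.range j.base
  · obtain ⟨y, rfl⟩ := hx
    have hmono : Mono ((Scheme.Modules.restrictFunctor j).map ((CxOX.extZero j).map m)) := by
      have hnat := (CxOX.extZeroAdj j).unit.naturality m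
      have h2 : (Scheme.Modules.restrictFunctor j).map ((CxOX.extZero j).map m) =
          inv ((CxOX.extZeroAdj j).unit.app A) ≫ m ≫ (CxOX.extZeroAdj j).unit.app B := by
        rw [IsIso.eq_inv_comp]
        exact hnat.symm
      rw [h2]
      infer_instance
    have hinj := (ModuleCat.mono_iff_injective _).mp
      (inferInstance : Mono ((DerSch.stalkFunctor U y).map
        ((Scheme.Modules.restrictFunctor j).map ((CxOX.extZero j).map m))))
    intro a b hab
    obtain ⟨a', rfl⟩ :=
      (RestrStalkH8.restrictStalkEquiv j ((CxOX.extZero j).obj A) y).surjective a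
    obtain ⟨b', rfl⟩ :=
      (RestrStalkH8.restrictStalkEquiv j ((CxOX.extZero j).obj A) y).surjective b
    have h3 := Groth.Agent.Lib.DCohLocLead.restrStalk_natural j y ((CxOX.extZero j).map m) a'
    have h4 := Groth.Agent.Lib.DCohLocLead.restrStalk_natural j y ((CxOX.extZero j).map m) b'
    have h5 : RestrStalkH8.restrictStalkEquiv j ((CxOX.extZero j).obj B) y
        ((DerSch.stalkFunctor U y).map
          ((Scheme.Modules.restrictFunctor j).map ((CxOX.extZero j).map m)) a') =
        RestrStalkH8.restrictStalkEquiv j ((CxOX.extZero j).obj B) y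
        ((DerSch.stalkFunctor U y).map
          ((Scheme.Modules.restrictFunctor j).map ((CxOX.extZero j).map m)) b') := by
      rw [h3, h4]
      exact hab
    have h6 := (RestrStalkH8.restrictStalkEquiv j ((CxOX.extZero j).obj B) y).injective h5
    exact congrArg _ (hinj h6)
  · haveI := subsingleton_stalk_extZero j A x hx
    intro a b _
    exact Subsingleton.elim (α := ((CxOX.extZero j).obj A).presheaf.stalk x) a b

instance preservesMonomorphisms_extZero : (CxOX.extZero j).PreservesMonomorphisms where
  preserves m _ := mono_extZero_map j m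

instance preservesFiniteLimits_extZero : PreservesFiniteLimits (CxOX.extZero j) := by
  rw [Functor.preservesFiniteLimits_iff_forall_exact_map_and_mono]
  intro S hS
  have h1 := (Functor.preservesFiniteColimits_iff_forall_exact_map_and_epi
    (CxOX.extZero j)).mp inferInstance S hS
  haveI := hS.mono_f
  exact ⟨h1.1, mono_extZero_map j S.f⟩

/-- restriction to an open subscheme preserves injective modules -/
theorem injective_restrict (I : X.Modules) [Injective I] :
    Injective ((Scheme.Modules.restrictFunctor j).obj I) :=
  Injective.injective_of_adjoint (CxOX.extZeroAdj j) I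

end ExtZero

/-! ### flat pullback: K-injectives and faithfulness -/

section Flat

variable {X Y : Scheme.{u}} (f : X ⟶ Y)

theorem isKInjective_pushforward_of_flat [Flat f] (I : CochainComplex X.Modules ℤ)
    [I.IsKInjective] :
    CochainComplex.IsKInjective
      (((Scheme.Modules.pushforward f).mapHomologicalComplex (ComplexShape.up ℤ)).obj I) := by
  haveI := preservesFiniteLimits_pullback_of_flat f
  exact isKInjective_map_of_adjunction (Scheme.Modules.pullbackPushforwardAdjunction f) I

theorem faithful_pullback_of_flat_of_surjective [Flat f] [Surjective f] :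
    (Scheme.Modules.pullback f).Faithful := by
  suffices H : ∀ {A B : Y.Modules} (m : A ⟶ B), (Scheme.Modules.pullback f).map m = 0 → m = 0 by
    refine ⟨fun {A B m m'} h => ?_⟩
    have h1 : (Scheme.Modules.pullback f).map (m - m') = 0 := by
      rw [Functor.map_sub, h, sub_self]
    exact sub_eq_zero.mp (H _ h1)
  intro A B m hm
  apply hom_eq_zero_of_forall_stalk
  intro y
  obtain ⟨x, rfl⟩ := ‹Surjective f›.surj y
  have hnat := (pullbackStalkIso f x).hom.naturality m
  have h2 : (Scheme.Modules.pullback f ⋙ DerSch.stalkFunctor X x).map m = 0 := by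
    rw [Functor.comp_map, hm, Functor.map_zero]
  rw [h2, zero_comp] at hnat
  have h1 : (ModuleCat.extendScalars.{u, u, u} (stk f x)).map
      ((DerSch.stalkFunctor Y (f.base x)).map m) = 0 := by
    have h3 := congrArg (fun q => (pullbackStalkIso f x).inv.app A ≫ q) hnat
    simp only [comp_zero, Iso.inv_hom_id_app_assoc] at h3
    exact h3.symm
  algebraize [(f.stalkMap x).hom]
  have hff : Module.FaithfullyFlat (Y.presheaf.stalk (f x)) (X.presheaf.stalk x) :=
    @Module.FaithfullyFlat.of_flat_of_isLocalHom _ _ _ _ _ _ _
      (Flat.stalkMap f x) (f.toLRSHom.prop x)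
  have h5 : LinearMap.lTensor (X.presheaf.stalk x)
      ((DerSch.stalkFunctor Y (f.base x)).map m).hom = 0 := by
    apply LinearMap.ext
    intro t
    exact congrArg (fun (q : (ModuleCat.extendScalars.{u, u, u} (stk f x)).obj
        ((DerSch.stalkFunctor Y (f.base x)).obj A) ⟶
      (ModuleCat.extendScalars.{u, u, u} (stk f x)).obj
        ((DerSch.stalkFunctor Y (f.base x)).obj B)) => q.hom t) h1
  have h6 := (Module.FaithfullyFlat.zero_iff_lTensor_zero (Y.presheaf.stalk (f x))
    (X.presheaf.stalk x) ((DerSch.stalkFunctor Y (f.base x)).map m).hom).mpr h5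
  exact ModuleCat.hom_ext h6

end Flat

end

end Groth.Agent.Lib.StalkSkyL
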