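import Mathlib
import Groth.Prelude
import Groth.Agent.Lib.StalkSky3_lead

/-!
# The Mayer–Vietoris triangle for extension by zero (lead)
-/

set_option autoImplicit false
set_option linter.all false
set_option maxHeartbeats 1600000
set_option backward.isDefEq.respectTransparency false
set_option backward.isDefEq.respectTransparency.types false
set_option backward.defeqAttrib.useBackward true

universe u
open CategoryTheory CategoryTheory.Limits AlgebraicGeometry Opposite TopologicalSpace
open CategoryTheory.Pretriangulated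
attribute [local instance] HasDerivedCategory.standard

namespace Groth.Agent.Lib.StalkSkyL

open Groth.Agent.Lib.TorAmpPushL

noncomputable section

variable {X : Scheme.{u}}

/-! ### criteria on stalks -/

theorem epi_of_forall_stalk_epi {A B : X.Modules} (g : A ⟶ B)
    (h : ∀ x : X, Epi ((DerSch.stalkFunctor X x).map g)) : Epi g := by
  apply Preadditive.epi_of_cokernel_zero
  have hz : IsZero (cokernel g) := by
    apply isZero_of_forall_stalk
    intro x
    haveI := h x
    have h1 : (DerSch.stalkFunctor X x).map g ≫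
        (DerSch.stalkFunctor X x).map (cokernel.π g) = 0 := by
      rw [← Functor.map_comp, cokernel.condition, Functor.map_zero]
    have h2 : (DerSch.stalkFunctor X x).map (cokernel.π g) = 0 := by
      rw [← cancel_epi ((DerSch.stalkFunctor X x).map g), h1, comp_zero]
    haveI : Epi ((DerSch.stalkFunctor X x).map (cokernel.π g)) := inferInstance
    have h3 : IsZero ((DerSch.stalkFunctor X x).obj (cokernel g)) := by
      rw [IsZero.iff_id_eq_zero,
        ← cancel_epi ((DerSch.stalkFunctor X x).map (cokernel.π g)), h2, zero_comp, zero_comp]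
    exact ModuleCat.subsingleton_of_isZero h3
  exact hz.eq_of_tgt _ _

theorem isIso_of_forall_stalk_isIso {A B : X.Modules} (g : A ⟶ B)
    (h : ∀ x : X, IsIso ((DerSch.stalkFunctor X x).map g)) : IsIso g := by
  haveI : Mono g := mono_of_forall_stalk_mono g (fun x => by haveI := h x; infer_instance)
  haveI : Epi g := epi_of_forall_stalk_epi g (fun x => by haveI := h x; infer_instance)
  exact isIso_of_mono_of_epi g

theorem isPullback_of_forall_stalk {A B₁ B₂ N : X.Modules} {fst : A ⟶ B₁} {snd : A ⟶ B₂}
    {f : B₁ ⟶ N} {g : B₂ ⟶ N} (sq : CommSq fst snd f g)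
    (h : ∀ x : X, IsPullback ((DerSch.stalkFunctor X x).map fst)
      ((DerSch.stalkFunctor X x).map snd) ((DerSch.stalkFunctor X x).map f)
      ((DerSch.stalkFunctor X x).map g)) :
    IsPullback fst snd f g := by
  haveI : IsIso (pullback.lift fst snd sq.w) := by
    apply isIso_of_forall_stalk_isIso
    intro x
    have hP : IsPullback ((DerSch.stalkFunctor X x).map (pullback.fst f g))
        ((DerSch.stalkFunctor X x).map (pullback.snd f g))
        ((DerSch.stalkFunctor X x).map f) ((DerSch.stalkFunctor X x).map g) :=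
      (IsPullback.of_hasPullback f g).map (DerSch.stalkFunctor X x)
    have h1 : (DerSch.stalkFunctor X x).map (pullback.lift fst snd sq.w) =
        ((h x).isoIsPullback _ _ hP).hom := by
      apply hP.hom_ext
      · rw [← Functor.map_comp, pullback.lift_fst, IsPullback.isoIsPullback_hom_fst]
      · rw [← Functor.map_comp, pullback.lift_snd, IsPullback.isoIsPullback_hom_snd]
    rw [h1]
    infer_instance
  exact IsPullback.of_iso_pullback sq (asIso (pullback.lift fst snd sq.w))
    (pullback.lift_fst _ _ _) (pullback.lift_snd _ _ _)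

lemma epi_neg' {C : Type*} [Category C] [Preadditive C] {A B : C} (f : A ⟶ B) [Epi f] :
    Epi (-f) :=
  ⟨fun a b h => by
    rw [Preadditive.neg_comp, Preadditive.neg_comp, neg_inj] at h
    exact (cancel_epi f).mp h⟩

/-! ### stalks of a restriction -/

section Transfer

variable {U : Scheme.{u}} (j : U ⟶ X) [IsOpenImmersion j]

theorem stalk_bijective_iff (y : U) {M N : X.Modules} (φ : M ⟶ N) :
    Function.Bijective ((DerSch.stalkFunctor U y).map
      ((Scheme.Modules.restrictFunctor j).map φ)) ↔
    Function.Bijective ((DerSch.stalkFunctor X (j.base y)).map φ) := by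
  have hfun : (RestrStalkH8.restrictStalkEquiv j N y) ∘
      ((DerSch.stalkFunctor U y).map ((Scheme.Modules.restrictFunctor j).map φ)) =
      ((DerSch.stalkFunctor X (j.base y)).map φ) ∘ (RestrStalkH8.restrictStalkEquiv j M y) :=
    funext fun t => Groth.Agent.Lib.DCohLocLead.restrStalk_natural j y φ t
  rw [← Function.Bijective.of_comp_iff' (RestrStalkH8.restrictStalkEquiv j N y).bijective, hfun,
    Function.Bijective.of_comp_iff _ (RestrStalkH8.restrictStalkEquiv j M y).bijective]

theorem isIso_restrict_counit (M : X.Modules) :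
    IsIso ((Scheme.Modules.restrictFunctor j).map ((CxOX.extZeroAdj j).counit.app M)) := by
  have h := (CxOX.extZeroAdj j).right_triangle_components M
  haveI : IsIso ((CxOX.extZeroAdj j).unit.app ((Scheme.Modules.restrictFunctor j).obj M) ≫
      (Scheme.Modules.restrictFunctor j).map ((CxOX.extZeroAdj j).counit.app M)) := by
    rw [h]
    infer_instance
  exact IsIso.of_isIso_comp_left
    ((CxOX.extZeroAdj j).unit.app ((Scheme.Modules.restrictFunctor j).obj M)) _

theorem isIso_stalk_counit (M : X.Modules) (y : U) :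
    IsIso ((DerSch.stalkFunctor X (j.base y)).map ((CxOX.extZeroAdj j).counit.app M)) := by
  rw [ConcreteCategory.isIso_iff_bijective, ← stalk_bijective_iff j y,
    ← ConcreteCategory.isIso_iff_bijective]
  haveI := isIso_restrict_counit j M
  infer_instance

end Transfer

/-! ### the maps of the Mayer–Vietoris sequence -/

/-- `j_! j^*` for an open `U` -/
abbrev LR (U : X.Opens) : X.Modules ⥤ X.Modules :=
  Scheme.Modules.restrictFunctor U.ι ⋙ CxOX.extZero U.ι

/-- `j_! j^* M → M` -/
abbrev eps (U : X.Opens) (M : X.Modules) : (LR U).obj M ⟶ M :=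
  (CxOX.extZeroAdj U.ι).counit.app M

theorem isIso_stalk_eps (U : X.Opens) (M : X.Modules) (x : X) (hx : x ∈ U) :
    IsIso ((DerSch.stalkFunctor X x).map (eps U M)) :=
  isIso_stalk_counit U.ι M ⟨x, hx⟩

theorem isZero_stalk_LR (U : X.Opens) (M : X.Modules) (x : X) (hx : x ∉ U) :
    IsZero ((DerSch.stalkFunctor X x).obj ((LR U).obj M)) := by
  haveI : Subsingleton ↑((DerSch.stalkFunctor X x).obj ((LR U).obj M)) :=
    subsingleton_stalk_extZero U.ι ((Scheme.Modules.restrictFunctor U.ι).obj M) x
      (by rintro ⟨y, rfl⟩; exact hx y.2)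
  exact ModuleCat.isZero_of_subsingleton _

section Tau

variable (W U : X.Opens) (hWU : W ≤ U)

include hWU in
theorem isIso_restrict_eps (M : X.Modules) :
    IsIso ((Scheme.Modules.restrictFunctor W.ι).map (eps U M)) := by
  apply isIso_of_forall_stalk_isIso
  intro y
  rw [ConcreteCategory.isIso_iff_bijective, stalk_bijective_iff W.ι y,
    ← ConcreteCategory.isIso_iff_bijective]
  exact isIso_stalk_eps U M (W.ι.base y) (hWU y.2)

/-- `j_{W!} j_W^* M → j_{U!} j_U^* M` for `W ≤ U` -/
def tau (M : X.Modules) : (LR W).obj M ⟶ (LR U).obj M :=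
  haveI := isIso_restrict_eps W U hWU M
  ((CxOX.extZeroAdj W.ι).homEquiv _ _).symm
    (inv ((Scheme.Modules.restrictFunctor W.ι).map (eps U M)))

theorem homEquiv_tau (M : X.Modules) :
    haveI := isIso_restrict_eps W U hWU M
    (CxOX.extZeroAdj W.ι).homEquiv _ _ (tau W U hWU M) =
      inv ((Scheme.Modules.restrictFunctor W.ι).map (eps U M)) := by
  unfold tau
  exact Equiv.apply_symm_apply _ _

theorem tau_eps (M : X.Modules) : tau W U hWU M ≫ eps U M = eps W M := by
  haveI := isIso_restrict_eps W U hWU M
  apply ((CxOX.extZeroAdj W.ι).homEquiv _ _).injective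
  rw [Adjunction.homEquiv_naturality_right, homEquiv_tau, IsIso.inv_hom_id,
    Adjunction.homEquiv_unit]
  exact ((CxOX.extZeroAdj W.ι).right_triangle_components M).symm

theorem tau_naturality {M N : X.Modules} (φ : M ⟶ N) :
    (LR W).map φ ≫ tau W U hWU N = tau W U hWU M ≫ (LR U).map φ := by
  haveI := isIso_restrict_eps W U hWU M
  haveI := isIso_restrict_eps W U hWU N
  apply ((CxOX.extZeroAdj W.ι).homEquiv _ _).injective
  have hR : (CxOX.extZeroAdj W.ι).homEquiv _ _ (tau W U hWU M ≫ (LR U).map φ) =
      inv ((Scheme.Modules.restrictFunctor W.ι).map (eps U M)) ≫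
        (Scheme.Modules.restrictFunctor W.ι).map ((LR U).map φ) := by
    rw [Adjunction.homEquiv_naturality_right, homEquiv_tau]
  have hL : (CxOX.extZeroAdj W.ι).homEquiv _ _ ((LR W).map φ ≫ tau W U hWU N) =
      (Scheme.Modules.restrictFunctor W.ι).map φ ≫
        inv ((Scheme.Modules.restrictFunctor W.ι).map (eps U N)) := by
    show (CxOX.extZeroAdj W.ι).homEquiv _ _
      ((CxOX.extZero W.ι).map ((Scheme.Modules.restrictFunctor W.ι).map φ) ≫ tau W U hWU N) = _
    rw [Adjunction.homEquiv_naturality_left, homEquiv_tau]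
  refine hL.trans (Eq.trans ?_ hR.symm)
  rw [IsIso.comp_inv_eq, Category.assoc, IsIso.eq_inv_comp, ← Functor.map_comp,
    ← Functor.map_comp]
  congr 1
  exact ((CxOX.extZeroAdj U.ι).counit.naturality φ).symm

theorem isIso_stalk_tau (M : X.Modules) (x : X) (hx : x ∈ W) :
    IsIso ((DerSch.stalkFunctor X x).map (tau W U hWU M)) := by
  haveI := isIso_stalk_eps U M x (hWU hx)
  haveI := isIso_stalk_eps W M x hx
  have h : (DerSch.stalkFunctor X x).map (tau W U hWU M) ≫
      (DerSch.stalkFunctor X x).map (eps U M) = (DerSch.stalkFunctor X x).map (eps W M) := by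
    rw [← Functor.map_comp, tau_eps]
  haveI : IsIso ((DerSch.stalkFunctor X x).map (tau W U hWU M) ≫
      (DerSch.stalkFunctor X x).map (eps U M)) := by
    rw [h]
    infer_instance
  exact IsIso.of_isIso_comp_right _ ((DerSch.stalkFunctor X x).map (eps U M))

end Tau

/-! ### the Mayer–Vietoris short exact sequence of modules -/

section MV

variable (U V : X.Opens) (M : X.Modules)

theorem sq_comm :
    tau (U ⊓ V) U inf_le_left M ≫ eps U M = tau (U ⊓ V) V inf_le_right M ≫ eps V M := by
  rw [tau_eps, tau_eps]

variable (hUV : U ⊔ V = ⊤)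

include hUV in
theorem mem_or (x : X) : x ∈ U ∨ x ∈ V := by
  have h : x ∈ ((U ⊔ V : X.Opens) : Set X) := by
    rw [hUV]
    trivial
  exact h

include hUV in
theorem isPullback_mv :
    IsPullback (tau (U ⊓ V) U inf_le_left M) (tau (U ⊓ V) V inf_le_right M)
      (eps U M) (eps V M) := by
  apply isPullback_of_forall_stalk ⟨sq_comm U V M⟩
  intro x
  have hsq : CommSq ((DerSch.stalkFunctor X x).map (tau (U ⊓ V) U inf_le_left M))
      ((DerSch.stalkFunctor X x).map (tau (U ⊓ V) V inf_le_right M))
      ((DerSch.stalkFunctor X x).map (eps U M)) ((DerSch.stalkFunctor X x).map (eps V M)) :=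
    ⟨by rw [← Functor.map_comp, ← Functor.map_comp, sq_comm]⟩
  by_cases hxU : x ∈ U
  · haveI := isIso_stalk_eps U M x hxU
    by_cases hxV : x ∈ V
    · haveI := isIso_stalk_tau (U ⊓ V) V inf_le_right M x ⟨hxU, hxV⟩
      exact IsPullback.of_vert_isIso hsq
    · have hA := isZero_stalk_LR (U ⊓ V) M x (fun h => hxV h.2)
      have hB := isZero_stalk_LR V M x hxV
      haveI : IsIso ((DerSch.stalkFunctor X x).map (tau (U ⊓ V) V inf_le_right M)) :=
        isIso_of_source_target_iso_zero _ hA.isoZero hB.isoZero
      exact IsPullback.of_vert_isIso hsq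
  · have hxV : x ∈ V := (mem_or U V hUV x).resolve_left hxU
    haveI := isIso_stalk_eps V M x hxV
    have hA := isZero_stalk_LR (U ⊓ V) M x (fun h => hxU h.1)
    have hB := isZero_stalk_LR U M x hxU
    haveI : IsIso ((DerSch.stalkFunctor X x).map (tau (U ⊓ V) U inf_le_left M)) :=
      isIso_of_source_target_iso_zero _ hA.isoZero hB.isoZero
    exact IsPullback.of_horiz_isIso hsq

include hUV in
theorem epi_desc_mv : Epi (biprod.desc (eps U M) (-eps V M)) := by
  apply epi_of_forall_stalk_epi
  intro x
  rcases mem_or U V hUV x with hxU | hxV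
  · haveI := isIso_stalk_eps U M x hxU
    have h : (DerSch.stalkFunctor X x).map biprod.inl ≫
        (DerSch.stalkFunctor X x).map (biprod.desc (eps U M) (-eps V M)) =
        (DerSch.stalkFunctor X x).map (eps U M) := by
      rw [← Functor.map_comp, biprod.inl_desc]
    haveI : Epi ((DerSch.stalkFunctor X x).map biprod.inl ≫
        (DerSch.stalkFunctor X x).map (biprod.desc (eps U M) (-eps V M))) := by
      rw [h]
      infer_instance
    exact epi_of_epi ((DerSch.stalkFunctor X x).map biprod.inl) _
  · haveI := isIso_stalk_eps V M x hxV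
    have h : (DerSch.stalkFunctor X x).map biprod.inr ≫
        (DerSch.stalkFunctor X x).map (biprod.desc (eps U M) (-eps V M)) =
        -(DerSch.stalkFunctor X x).map (eps V M) := by
      rw [← Functor.map_comp, biprod.inr_desc, Functor.map_neg]
    haveI : Epi ((DerSch.stalkFunctor X x).map biprod.inr ≫
        (DerSch.stalkFunctor X x).map (biprod.desc (eps U M) (-eps V M))) := by
      rw [h]
      exact epi_neg' _
    exact epi_of_epi ((DerSch.stalkFunctor X x).map biprod.inr) _

include hUV in
theorem shortExact_mv :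
    (CommSq.shortComplex' (⟨sq_comm U V M⟩ : CommSq (tau (U ⊓ V) U inf_le_left M)
      (tau (U ⊓ V) V inf_le_right M) (eps U M) (eps V M))).ShortExact where
  exact := ShortComplex.exact_of_f_is_kernel _ (isPullback_mv U V M hUV).isLimitKernelFork
  mono_f := (isPullback_mv U V M hUV).mono_shortComplex'_f
  epi_g := epi_desc_mv U V M hUV

end MV

end

end Groth.Agent.Lib.StalkSkyL
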