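import Mathlib
import Groth.Prelude
import Groth.Agent.Lib.StalkSky4_lead
import Groth.Agent.Lib.PerfFlat5_lead

/-!
# Every `O_X`-module is a quotient of a flat module `∐ j_! O_U` (lead)
-/

set_option autoImplicit false
set_option linter.all false
set_option maxHeartbeats 1600000
set_option backward.isDefEq.respectTransparency false
set_option backward.isDefEq.respectTransparency.types false
set_option backward.defeqAttrib.useBackward true

universe u
open CategoryTheory CategoryTheory.Limits AlgebraicGeometry Opposite TopologicalSpace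

namespace Groth.Agent.Lib.FlatQuotL

open Groth.Agent.Lib.StalkSkyL Groth.Agent.Lib.DCohLocLead Groth.Agent.Lib.TorAmpPushL

noncomputable section

/-- maps out of the structure sheaf with prescribed value at `1` -/
theorem exists_unit_hom {Z : Scheme.{u}} (M : Z.Modules) (m : M.val.obj (op ⊤)) :
    ∃ τ : Coh.structureModule Z ⟶ M,
      τ.val.app (op ⊤) (1 : Z.ringCatSheaf.obj.obj (op ⊤)) = m := by
  let s : M.sections := PresheafOfModules.sectionsMk
    (fun W => M.val.map (homOfLE (le_top : W.unop ≤ ⊤)).op m) (by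
      intro W V q
      rw [← PresheafOfModules.map_comp_apply]
      apply PresheafOfModules.congr_map_apply
      apply Subsingleton.elim)
  refine ⟨M.unitHomEquiv.symm s, ?_⟩
  have h1 : (M.unitHomEquiv.symm s).val.app (op ⊤) (1 : Z.ringCatSheaf.obj.obj (op ⊤)) =
      (M.unitHomEquiv (M.unitHomEquiv.symm s)).val (op ⊤) := rfl
  rw [h1, Equiv.apply_symm_apply]
  refine (PresheafOfModules.congr_map_apply M.val
    (Subsingleton.elim (homOfLE (le_top : (⊤ : Z.Opens) ≤ ⊤)).op (𝟙 (op ⊤))) m).trans ?_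
  show M.presheaf.map (𝟙 (op ⊤)) m = m
  rw [M.presheaf.map_id]
  rfl

variable {X : Scheme.{u}}

theorem isFinLocFree_structureModule (W : Scheme.{u}) :
    FlatMod.IsFinLocFree (Coh.structureModule W) := by
  intro x
  exact ⟨⊤, 1, trivial,
    ⟨Scheme.Modules.restrictUnitIso _ ≪≫
      (coproductUniqueIso (fun _ : Fin 1 => Coh.structureModule _)).symm⟩⟩

/-- `j_! O_U` is flat -/
theorem isFlat_extZeroUnit (U : X.Opens) : FlatMod.IsFlat (CxOX.extZeroUnit U.ι) := by
  intro x
  by_cases hx : x ∈ U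
  · have h1 : FlatMod.IsFlatAt (Coh.structureModule (U : Scheme.{u})) ⟨x, hx⟩ :=
      isFlat_of_isFinLocFree (isFinLocFree_structureModule _) _
    have h2 : FlatMod.IsFlatAt ((Scheme.Modules.restrictFunctor U.ι).obj
        (CxOX.extZeroUnit U.ι)) ⟨x, hx⟩ :=
      isFlatAt_of_iso (asIso ((CxOX.extZeroAdj U.ι).unit.app
        (Coh.structureModule (U : Scheme.{u})))) _ h1
    exact isFlatAt_of_restrictFunctor U.ι ⟨x, hx⟩ h2
  · haveI : Subsingleton ((CxOX.extZeroUnit U.ι).presheaf.stalk x) :=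
      subsingleton_stalk_extZero U.ι _ x (by rintro ⟨y, rfl⟩; exact hx y.2)
    show Module.Flat (X.presheaf.stalk x) ((CxOX.extZeroUnit U.ι).presheaf.stalk x)
    infer_instance

/-- a coproduct of flat modules is flat -/
theorem isFlat_sigma {ι : Type u} (M : ι → X.Modules) (h : ∀ i, FlatMod.IsFlat (M i)) :
    FlatMod.IsFlat (∐ M) := by
  classical
  intro x
  show Module.Flat (X.presheaf.stalk x) ((∐ M).presheaf.stalk x)
  let e1 : (DerSch.stalkFunctor X x).obj (∐ M) ≅
      ∐ (fun i => (DerSch.stalkFunctor X x).obj (M i)) :=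
    PreservesCoproduct.iso (DerSch.stalkFunctor X x) M
  let e2 := ModuleCat.coprodIsoDirectSum (fun i => (DerSch.stalkFunctor X x).obj (M i))
  haveI : ∀ i, Module.Flat (X.presheaf.stalk x) ((DerSch.stalkFunctor X x).obj (M i)) :=
    fun i => h i x
  exact Module.Flat.of_linearEquiv (e1 ≪≫ e2).toLinearEquiv

theorem main11164 (F : X.Modules) :
    ∃ (ι : Type u) (U : ι → X.Opens) (p : (∐ fun i => CxOX.extZeroUnit (U i).ι) ⟶ F),
      Epi p ∧ FlatMod.IsFlat (∐ fun i => CxOX.extZeroUnit (U i).ι) := by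
  classical
  let ι : Type u := Σ U : X.Opens, ((Scheme.Modules.restrictFunctor U.ι).obj F).val.obj (op ⊤)
  choose τ hτ using fun i : ι =>
    exists_unit_hom ((Scheme.Modules.restrictFunctor i.1.ι).obj F) i.2
  let q : ∀ i : ι, CxOX.extZeroUnit i.1.ι ⟶ F := fun i =>
    ((CxOX.extZeroAdj i.1.ι).homEquiv _ _).symm (τ i)
  refine ⟨ι, fun i => i.1, Sigma.desc q, ?_, isFlat_sigma _ (fun i => isFlat_extZeroUnit i.1)⟩
  apply epi_of_forall_stalk_epi
  intro x
  rw [ModuleCat.epi_iff_surjective]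
  intro z
  obtain ⟨W, hxW, s, rfl⟩ : ∃ (W : X.Opens) (hxW : x ∈ W) (s : F.presheaf.obj (op W)),
      F.presheaf.germ W x hxW s = z := F.presheaf.exists_germ_eq (x := x) z
  let s' : ((Scheme.Modules.restrictFunctor W.ι).obj F).val.obj (op ⊤) :=
    F.presheaf.map (homOfLE (le_of_eq W.ι_image_top)).op s
  let i : ι := ⟨W, s'⟩
  let y : (W : Scheme.{u}) := ⟨x, hxW⟩
  let OW := Coh.structureModule (W : Scheme.{u})
  let one : OW.presheaf.obj (op ⊤) := (1 : (W : Scheme.{u}).ringCatSheaf.obj.obj (op ⊤))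
  let w' := (DerSch.stalkFunctor (W : Scheme.{u}) y).map ((CxOX.extZeroAdj W.ι).unit.app OW)
    (OW.presheaf.germ ⊤ y trivial one)
  have hadj : (CxOX.extZeroAdj W.ι).unit.app OW ≫
      (Scheme.Modules.restrictFunctor W.ι).map (q i) = τ i :=
    ((CxOX.extZeroAdj W.ι).homEquiv_unit OW F (q i)).symm.trans
      (Equiv.apply_symm_apply ((CxOX.extZeroAdj W.ι).homEquiv OW F) (τ i))
  have h1 := restrStalk_natural W.ι y (q i) w'
  have e1 : (DerSch.stalkFunctor (W : Scheme.{u}) y).map (τ i)
      (OW.presheaf.germ ⊤ y trivial one) =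
      (DerSch.stalkFunctor (W : Scheme.{u}) y).map
        ((Scheme.Modules.restrictFunctor W.ι).map (q i)) w' := by
    rw [← hadj, Functor.map_comp]
    rfl
  have h2 : (DerSch.stalkFunctor (W : Scheme.{u}) y).map
      ((Scheme.Modules.restrictFunctor W.ι).map (q i)) w' =
      ((Scheme.Modules.restrictFunctor W.ι).obj F).presheaf.germ ⊤ y trivial s' :=
    e1.symm.trans ((DerSch.stalkFunctor_map_germ y (τ i) ⊤ trivial one).trans
      (congrArg (fun t => ((Scheme.Modules.restrictFunctor W.ι).obj F).presheaf.germ ⊤ y trivial t)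
        (hτ i)))
  have h3 := RestrStalkH8.restrictStalkEquiv_germ W.ι F y ⊤ trivial s'
  refine ⟨(DerSch.stalkFunctor X x).map (Sigma.ι (fun i : ι => CxOX.extZeroUnit i.1.ι) i)
    (RestrStalkH8.restrictStalkEquiv W.ι (CxOX.extZeroUnit W.ι) y w'), ?_⟩
  rw [← ConcreteCategory.comp_apply, ← Functor.map_comp, Sigma.ι_desc]
  refine h1.symm.trans ?_
  rw [h2]
  refine h3.trans ?_
  exact TopCat.Presheaf.germ_res_apply F.presheaf (homOfLE (le_of_eq W.ι_image_top)) x _ s

end

end Groth.Agent.Lib.FlatQuotL
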