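import Mathlib
import Groth.Prelude
import Groth.Agent.Lib.BC0Chart_helper2
import Groth.Agent.Lib.PBCAlg7_helper2
import Groth.Agent.Lib.FEtLef1_helper5
import Groth.Agent.Lib.FlatQuot1_lead
import Groth.Agent.Lib.FLF2_helper8
import Groth.Agent.Lib.BCFun3_helper2
import Groth.Agent.Lib.LimModDict_helper2
import Groth.Agent.Lib.CohDev8_helper8
import Groth.Agent.S19466

/-!
# `O_S ⟶ f_* O_X` is an isomorphism when the fibres have only constant functions (helper2)

`f` proper, flat, of finite presentation, `κ(s) ≅ Γ(X_s, O)` for all `s`; no Noetherian hypothesis.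

APPEND-ONLY once landed.
-/

set_option autoImplicit false
set_option backward.isDefEq.respectTransparency false
set_option linter.style.haveILetI false
set_option linter.unusedSectionVars false
universe u

open CategoryTheory CategoryTheory.Limits AlgebraicGeometry AlgebraicGeometry.Scheme.Modules
  TopologicalSpace Opposite TensorProduct

namespace Groth.Agent.Lib.CBCH2

open Groth.Agent.Lib.FlatBCH2 Groth.Agent.Lib.FormalFnH2 Groth.Agent.Lib.PullFnH2
  Groth.Agent.Lib.BCSecH2 Groth.Agent.Lib.SectCmp5H2 Groth.Agent.Lib.PBCH2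

section Alg

variable {A : Type u} [CommRing A]

/-- the residue field at the kernel of `A → K'` is an `A`-linear retract of `K'`, for `K'` a
commutative ring which is a field -/
theorem exists_retract_residueField' (K' : Type u) [CommRing K'] [Algebra A K'] (hK : IsField K')
    (y : PrimeSpectrum A) (hker : RingHom.ker (algebraMap A K') = y.asIdeal) :
    ∃ (i : y.asIdeal.ResidueField →ₗ[A] K') (r : K' →ₗ[A] y.asIdeal.ResidueField),
      r ∘ₗ i = LinearMap.id := by
  haveI : Nontrivial K' := hK.nontrivial
  let φ : y.asIdeal.ResidueField →+* K' :=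
    Ideal.ResidueField.lift y.asIdeal (algebraMap A K') (le_of_eq hker.symm) (by
      intro a ha
      show IsUnit (algebraMap A K' a)
      have hne : algebraMap A K' a ≠ 0 := fun h0 => ha (hker ▸ RingHom.mem_ker.mpr h0)
      obtain ⟨b, hb⟩ := hK.mul_inv_cancel hne
      exact isUnit_iff_exists_inv.mpr ⟨b, hb⟩)
  letI : Algebra y.asIdeal.ResidueField K' := φ.toAlgebra
  haveI : IsScalarTower A y.asIdeal.ResidueField K' :=
    IsScalarTower.of_algebraMap_eq (fun a =>
      (Ideal.ResidueField.lift_algebraMap y.asIdeal (algebraMap A K') _ _ a).symm)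
  let i : y.asIdeal.ResidueField →ₗ[y.asIdeal.ResidueField] K' := Algebra.linearMap _ _
  have hi : LinearMap.ker i = ⊥ := LinearMap.ker_eq_bot.mpr φ.injective
  obtain ⟨r, hr⟩ := LinearMap.exists_leftInverse_of_injective i hi
  exact ⟨i.restrictScalars A, r.restrictScalars A,
    LinearMap.ext fun z => LinearMap.congr_fun hr z⟩

lemma subsingleton_tensor_of_retract {k K' Q : Type*} [AddCommGroup k] [Module A k]
    [AddCommGroup K'] [Module A K'] [AddCommGroup Q] [Module A Q]
    (i : k →ₗ[A] K') (r : K' →ₗ[A] k) (hri : r ∘ₗ i = LinearMap.id)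
    (h : Subsingleton (K' ⊗[A] Q)) : Subsingleton (k ⊗[A] Q) := by
  refine ⟨fun z z' => ?_⟩
  have h3 : ∀ w : k ⊗[A] Q, (r.rTensor Q) ((i.rTensor Q) w) = w := by
    intro w
    rw [← LinearMap.comp_apply, ← LinearMap.rTensor_comp, hri, LinearMap.rTensor_id]
    rfl
  rw [← h3 z, ← h3 z', Subsingleton.elim ((i.rTensor Q) z) ((i.rTensor Q) z')]

/-- a finite module whose fibres at all primes (computed over any field with the right kernel)
vanish is zero -/
theorem subsingleton_of_forall_field (Q : Type u) [AddCommGroup Q] [Module A Q]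
    [Module.Finite A Q]
    (H : ∀ y : PrimeSpectrum A, ∃ (K' : Type u) (_ : CommRing K') (_ : Algebra A K'),
      IsField K' ∧ RingHom.ker (algebraMap A K') = y.asIdeal ∧ Subsingleton (K' ⊗[A] Q)) :
    Subsingleton Q := by
  rw [← Module.support_eq_empty_iff (R := A), Set.eq_empty_iff_forall_notMem]
  intro y hy
  rw [Module.mem_support_iff_nontrivial_residueField_tensorProduct] at hy
  obtain ⟨K', iK, iA, hK, hker, hsub⟩ := H y
  obtain ⟨i, r, hri⟩ := exists_retract_residueField' K' hK y hker
  haveI := subsingleton_tensor_of_retract i r hri hsub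
  haveI := hy
  exact not_subsingleton (y.asIdeal.ResidueField ⊗[A] Q) inferInstance

/-- **the fibre criterion**: a finite projective module `M` with an element `m₀` such that
`a ↦ a • m₀` is bijective on all fibres is free of rank one on `m₀` -/
theorem bijective_smul_of_fibres (M : Type u) [AddCommGroup M] [Module A M]
    [Module.Finite A M] [Module.Projective A M] (m₀ : M)
    (H : ∀ y : PrimeSpectrum A, ∃ (K' : Type u) (_ : CommRing K') (_ : Algebra A K'),
      IsField K' ∧ RingHom.ker (algebraMap A K') = y.asIdeal ∧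
      Function.Bijective ((LinearMap.toSpanSingleton A M m₀).lTensor K')) :
    Function.Bijective (fun a : A => a • m₀) := by
  set φ : A →ₗ[A] M := LinearMap.toSpanSingleton A M m₀ with hφ
  have hsurj : Function.Surjective φ := by
    rw [← LinearMap.range_eq_top, ← Submodule.Quotient.subsingleton_iff]
    refine subsingleton_of_forall_field (A := A) (M ⧸ LinearMap.range φ) (fun y => ?_)
    obtain ⟨K', iK, iA, hK, hker, hbij⟩ := H y
    refine ⟨K', iK, iA, hK, hker, ⟨fun z z' => ?_⟩⟩
    have hz : ∀ w : K' ⊗[A] (M ⧸ LinearMap.range φ), w = 0 := by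
      intro w
      obtain ⟨v, rfl⟩ := LinearMap.lTensor_surjective K'
        (Submodule.mkQ_surjective (LinearMap.range φ)) w
      obtain ⟨u, rfl⟩ := hbij.2 v
      rw [← LinearMap.comp_apply, ← LinearMap.lTensor_comp, LinearMap.range_mkQ_comp,
        LinearMap.lTensor_zero, LinearMap.zero_apply]
    rw [hz z, hz z']
  have hinj : Function.Injective φ := by
    obtain ⟨σ, hσ⟩ := Module.projective_lifting_property φ (LinearMap.id : M →ₗ[A] M) hsurj
    rw [← LinearMap.ker_eq_bot]
    let π₀ : A →ₗ[A] A := LinearMap.id - σ ∘ₗ φ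
    have hπ₀ : ∀ a, π₀ a ∈ LinearMap.ker φ := by
      intro a
      rw [LinearMap.mem_ker]
      show φ (a - σ (φ a)) = 0
      have h1 : φ (σ (φ a)) = φ a := LinearMap.congr_fun hσ (φ a)
      rw [map_sub, h1, sub_self]
    let π : A →ₗ[A] LinearMap.ker φ := π₀.codRestrict (LinearMap.ker φ) hπ₀
    have hπι : ∀ x : LinearMap.ker φ, π x.1 = x := by
      intro x
      apply Subtype.ext
      show (x : A) - σ (φ (x : A)) = (x : A)
      rw [LinearMap.mem_ker.mp x.2, map_zero, sub_zero]
    haveI : Module.Finite A (LinearMap.ker φ) :=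
      Module.Finite.of_surjective π (fun x => ⟨x.1, hπι x⟩)
    have hI : Subsingleton (LinearMap.ker φ) := by
      refine subsingleton_of_forall_field (A := A) (LinearMap.ker φ) (fun y => ?_)
      obtain ⟨K', iK, iA, hK, hker, hbij⟩ := H y
      refine ⟨K', iK, iA, hK, hker, ⟨fun z z' => ?_⟩⟩
      have hz : ∀ w : K' ⊗[A] (LinearMap.ker φ), w = 0 := by
        intro w
        have hc : π ∘ₗ (LinearMap.ker φ).subtype = LinearMap.id :=
          LinearMap.ext fun x => hπι x
        have h1 : (π.lTensor K') (((LinearMap.ker φ).subtype.lTensor K') w) = w := by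
          rw [← LinearMap.comp_apply, ← LinearMap.lTensor_comp, hc, LinearMap.lTensor_id]
          rfl
        have h0 : φ ∘ₗ (LinearMap.ker φ).subtype = 0 :=
          LinearMap.ext fun x => LinearMap.mem_ker.mp x.2
        have h2 : (φ.lTensor K') (((LinearMap.ker φ).subtype.lTensor K') w) = 0 := by
          rw [← LinearMap.comp_apply, ← LinearMap.lTensor_comp, h0, LinearMap.lTensor_zero,
            LinearMap.zero_apply]
        have h3 : ((LinearMap.ker φ).subtype.lTensor K') w = 0 :=
          hbij.1 (by rw [h2, map_zero])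
        rw [← h1, h3, map_zero]
      rw [hz z, hz z']
    haveI := hI
    exact Submodule.eq_bot_of_subsingleton
  have hfun : (fun a : A => a • m₀) = ⇑φ := funext fun a => rfl
  rw [hfun]
  exact ⟨hinj, hsurj⟩

/-- the fibre criterion, with the fibres given as abstract base changes -/
theorem bijective_smul_of_baseChange (M : Type u) [AddCommGroup M] [Module A M]
    [Module.Finite A M] [Module.Projective A M] (m₀ : M)
    (H : ∀ y : PrimeSpectrum A, ∃ (K' : Type u) (_ : CommRing K') (_ : Algebra A K'),
      IsField K' ∧ RingHom.ker (algebraMap A K') = y.asIdeal ∧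
      ∃ (N : Type u) (_ : AddCommGroup N) (_ : Module A N) (_ : Module K' N)
        (_ : IsScalarTower A K' N) (ψ : M →ₗ[A] N), IsBaseChange K' ψ ∧
          Function.Bijective (fun c : K' => c • ψ m₀)) :
    Function.Bijective (fun a : A => a • m₀) := by
  refine bijective_smul_of_fibres M m₀ (fun y => ?_)
  obtain ⟨K', iK, iA, hK, hker, N, iN1, iN2, iN3, iN4, ψ, hψ, hbij⟩ := H y
  refine ⟨K', iK, iA, hK, hker, ?_⟩
  let E : K' ⊗[A] M ≃ₗ[K'] N := hψ.equiv
  let R : K' ⊗[A] A ≃ₗ[A] K' := TensorProduct.rid A K'
  have claim : ∀ w : K' ⊗[A] A,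
      E (((LinearMap.toSpanSingleton A M m₀).lTensor K') w) = (R w) • ψ m₀ := by
    intro w
    induction w using TensorProduct.induction_on with
    | zero => simp
    | tmul c a =>
      show E (c ⊗ₜ[A] (a • m₀)) = (a • c) • ψ m₀
      rw [IsBaseChange.equiv_tmul, LinearMap.map_smul, smul_assoc, smul_comm]
    | add w w' hw hw' => rw [map_add, map_add, hw, hw', map_add, add_smul]
  have key : ⇑((LinearMap.toSpanSingleton A M m₀).lTensor K') =
      fun w => E.symm ((fun c : K' => c • ψ m₀) (R w)) := by
    funext w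
    show _ = E.symm ((R w) • ψ m₀)
    rw [← claim w, E.symm_apply_apply]
  rw [key]
  exact E.symm.bijective.comp (hbij.comp R.bijective)

end Alg

section Geo

variable {X S : Scheme.{u}} (f : X ⟶ S)

lemma app_bijective_of_isIso {Y : Scheme.{u}} {M N : Y.Modules} (φ : M ⟶ N) [IsIso φ]
    (U : Y.Opens) : Function.Bijective (φ.app U) := by
  refine Function.bijective_iff_has_inverse.mpr ⟨(inv φ).app U, fun x => ?_, fun y => ?_⟩
  · have := congrArg (fun ψ => (Scheme.Modules.Hom.app ψ U) x) (IsIso.hom_inv_id φ)
    exact this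
  · have := congrArg (fun ψ => (Scheme.Modules.Hom.app ψ U) y) (IsIso.inv_hom_id φ)
    exact this

/-- the section `1` of `f_* O_X` over `T` -/
noncomputable def oneSec (T : S.Opens) :
    Γ((Scheme.Modules.pushforward f).obj (Coh.structureModule X), T) :=
  (1 : Γ(X, f ⁻¹ᵁ T))

theorem smul_oneSec (T : S.Opens) (a : Γ(S, T)) :
    a • oneSec f T = (show Γ((Scheme.Modules.pushforward f).obj (Coh.structureModule X), T) from
      (f.app T).hom a) := by
  show (f.app T).hom a * (1 : Γ(X, f ⁻¹ᵁ T)) = (f.app T).hom a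
  rw [mul_one]

variable (s : S)

/-- the comparison `Γ(g^* f_* O_X, ⊤) → Γ(X_s, O)` on multiples of the canonical section -/
theorem theta_smul (T : S.Opens)
    (hT'T : (⊤ : (Spec (S.residueField s)).Opens) ≤ (S.fromSpecResidueField s) ⁻¹ᵁ T)
    (b : Γ(Spec (S.residueField s), ⊤)) :
    (PBH8.pullbackUnitIso (f.fiberι s)).hom.app ((f.fiberToSpecResidueField s) ⁻¹ᵁ ⊤)
      ((CohBC.bc0 f (S.fromSpecResidueField s) (f.fiberToSpecResidueField s) (f.fiberι s)
        (f.fiber_fac s) (Coh.structureModule X)).app ⊤
        (b • PBH8.cUV (S.fromSpecResidueField s)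
          ((Scheme.Modules.pushforward f).obj (Coh.structureModule X)) hT'T (oneSec f T))) =
      ((f.fiberToSpecResidueField s).app ⊤).hom b := by
  rw [Scheme.Modules.Hom.app_smul, bc0_cUV]
  have e1 : (f.fiberToSpecResidueField s) ⁻¹ᵁ ⊤ ≤ (f.fiberι s) ⁻¹ᵁ (f ⁻¹ᵁ T) :=
    ((f.fiberToSpecResidueField s).preimage_mono hT'T).trans
      (CohCmp.sqLE f (S.fromSpecResidueField s) (f.fiberToSpecResidueField s) (f.fiberι s)
        (f.fiber_fac s) T)
  show (PBH8.pullbackUnitIso (f.fiberι s)).hom.app ((f.fiberToSpecResidueField s) ⁻¹ᵁ ⊤)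
      (((f.fiberToSpecResidueField s).app ⊤).hom b •
        (PBH8.cUV (f.fiberι s) (Coh.structureModule X) e1 (oneSec f T) :
          Γ((Scheme.Modules.pullback (f.fiberι s)).obj (Coh.structureModule X),
            (f.fiberToSpecResidueField s) ⁻¹ᵁ ⊤))) = _
  rw [Scheme.Modules.Hom.app_smul, Groth.Agent.Lib.FEtLef.pullbackUnitIso_cUV]
  show ((f.fiberToSpecResidueField s).app ⊤).hom b *
    ((f.fiberι s).appLE (f ⁻¹ᵁ T) ((f.fiberToSpecResidueField s) ⁻¹ᵁ ⊤) e1).hom
      (1 : Γ(X, f ⁻¹ᵁ T)) = _
  rw [map_one, mul_one]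

/-- if the constants surject onto the functions of the fibre, the degree-zero base change map
of `O_X` at `s` is an epimorphism -/
theorem epi_bc0_unit [QuasiCompact f] [QuasiSeparated f]
    (hsurj : Function.Surjective ((f.fiberToSpecResidueField s).app ⊤).hom) :
    Epi (CohBC.bc0 f (S.fromSpecResidueField s) (f.fiberToSpecResidueField s) (f.fiberι s)
      (f.fiber_fac s) (Coh.structureModule X)) := by
  have hX : IsPullback (f.fiberι s) (f.fiberToSpecResidueField s) f
      (S.fromSpecResidueField s) := IsPullback.of_hasPullback f (S.fromSpecResidueField s)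
  haveI : QuasiSeparated (f.fiberToSpecResidueField s) :=
    MorphismProperty.of_isPullback (P := @QuasiSeparated) hX inferInstance
  haveI : QuasiCompact (f.fiberToSpecResidueField s) :=
    MorphismProperty.of_isPullback (P := @QuasiCompact) hX inferInstance
  haveI : (Coh.structureModule X).IsQuasicoherent := (CohDevH8.isCoh_structureModule X).1
  haveI : ((Scheme.Modules.pushforward (f.fiberToSpecResidueField s)).obj
      ((Scheme.Modules.pullback (f.fiberι s)).obj (Coh.structureModule X))).IsQuasicoherent :=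
    QcqsLoc.isQuasicoherent_pushforward_qcqs (f.fiberToSpecResidueField s) _
  refine Groth.Agent.Lib.LimMod.epi_of_affine_cover _
    (fun x => ⟨⊤, isAffineOpen_top _, trivial, fun z => ?_⟩)
  have hW : (⊤ : (Spec (S.residueField s)).Opens) ≤ (S.fromSpecResidueField s) ⁻¹ᵁ ⊤ := le_top
  obtain ⟨b, hb⟩ := hsurj ((PBH8.pullbackUnitIso (f.fiberι s)).hom.app
    ((f.fiberToSpecResidueField s) ⁻¹ᵁ ⊤) z)
  refine ⟨b • PBH8.cUV (S.fromSpecResidueField s)
    ((Scheme.Modules.pushforward f).obj (Coh.structureModule X)) hW (oneSec f ⊤), ?_⟩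
  apply (app_bijective_of_isIso (PBH8.pullbackUnitIso (f.fiberι s)).hom
    ((f.fiberToSpecResidueField s) ⁻¹ᵁ ⊤)).1
  rw [theta_smul]
  exact hb

end Geo

section Main

variable {X S : Scheme.{u}} (f : X ⟶ S)

set_option maxHeartbeats 1600000 in
/-- over an affine open `T` of the base the functions of `f⁻¹ T` are those of `T` -/
theorem app_bijective_of_fibres [IsProper f] [Flat f] [LocallyOfFinitePresentation f]
    (h : ∀ s : S, IsIso (f.fiberToSpecResidueField s).appTop) (T : S.Opens)
    (hT : IsAffineOpen T) : Function.Bijective (f.app T).hom := by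
  haveI hq : (Coh.structureModule X).IsQuasicoherent := (CohDevH8.isCoh_structureModule X).1
  haveI : Coh.IsQCoh (Coh.structureModule X) := hq
  have hfp : CohB1.IsFP (Coh.structureModule X) :=
    FLFH8.isFinitePresentation_of_finLocFree _
      (Groth.Agent.Lib.FlatQuotL.isFinLocFree_structureModule X)
  have hfl : FlatMod.IsFlatOver f (Coh.structureModule X) :=
    Groth.Agent.Lib.BCFunH2.isFlatOver_unit f
  haveI hqM : ((Scheme.Modules.pushforward f).obj (Coh.structureModule X)).IsQuasicoherent :=
    QcqsLoc.isQuasicoherent_pushforward_qcqs f _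
  have hbijf' : ∀ s, Function.Bijective ((f.fiberToSpecResidueField s).app ⊤).hom := fun s => by
    haveI := h s
    exact ConcreteCategory.bijective_of_isIso (f.fiberToSpecResidueField s).appTop
  have hepi : ∀ s, Epi (CohBC.bc0 f (S.fromSpecResidueField s) (f.fiberToSpecResidueField s)
      (f.fiberι s) (f.fiber_fac s) (Coh.structureModule X)) :=
    fun s => epi_bc0_unit f s (hbijf' s).2
  have hiso : ∀ s, IsIso (CohBC.bc0 f (S.fromSpecResidueField s) (f.fiberToSpecResidueField s)
      (f.fiberι s) (f.fiber_fac s) (Coh.structureModule X)) := fun s => by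
    obtain ⟨U, hsU, -, hU⟩ := Groth.Agent.S19466.result f _ hfp hfl s (hepi s)
    exact hU _ _ _ _ _ (IsPullback.of_hasPullback f (S.fromSpecResidueField s)) (by
      rintro _ ⟨z, rfl⟩
      have hz : (S.fromSpecResidueField s) z = s := Scheme.fromSpecResidueField_apply s z
      show (S.fromSpecResidueField s) z ∈ U
      rw [hz]
      exact hsU)
  -- the chart: the sections are finite projective
  obtain ⟨P, hP, -, hpos, -, hB, -, ⟨e⟩, -⟩ :=
    chartFacts0 f (Coh.structureModule X) hfp hfl T hT
  have e0 : (1 : ℤ) - 1 = -((0 : ℕ) : ℤ) := by simp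
  have hx0 : ∀ x : PrimeSpectrum Γ(S, T),
      x ∈ Module.freeLocus Γ(S, T) (P.opcycles (-((0 : ℕ) : ℤ))) := by
    intro x
    obtain ⟨v, hv, hker⟩ := exists_ker_evalRes T hT x
    letI := algRes T v hv
    have hsub : Subsingleton ((CohIII.TFun P 1).obj
        (ModuleCat.of Γ(S, T) (S.residueField v))) :=
      ModuleCat.subsingleton_of_isZero (hpos 1 one_pos _)
    have := (mem_freeLocus_of_subsingleton_T P hP 1 (S.residueField v) hsub x hker).2
    rwa [e0] at this
  have hx1 : ∀ x : PrimeSpectrum Γ(S, T),
      x ∈ Module.freeLocus Γ(S, T) (P.opcycles (-((0 : ℕ) : ℤ) - 1)) := by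
    intro x
    obtain ⟨v, hv, hker⟩ := exists_ker_evalRes T hT x
    letI := algRes T v hv
    exact mem_freeLocus_of_betaT_surjective' P hP (-((0 : ℕ) : ℤ)) (S.residueField v)
      (hB v hv (hepi v)) x hker
  obtain ⟨hfin, hproj⟩ := finite_projective_homology_of_freeLocus P hP (-((0 : ℕ) : ℤ)) hx0 hx1
  haveI := hfin
  haveI := hproj
  haveI : Module.Finite Γ(S, T)
      Γ((Scheme.Modules.pushforward f).obj (Coh.structureModule X), T) := Module.Finite.equiv e
  haveI : Module.Projective Γ(S, T)
      Γ((Scheme.Modules.pushforward f).obj (Coh.structureModule X), T) :=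
    Module.Projective.of_equiv e
  have key := bijective_smul_of_baseChange (A := Γ(S, T))
    Γ((Scheme.Modules.pushforward f).obj (Coh.structureModule X), T) (oneSec f T) (fun y => ?_)
  · have hfun : (fun a : Γ(S, T) => a • oneSec f T) = ⇑(f.app T).hom :=
      funext fun a => smul_oneSec f T a
    rw [hfun] at key
    exact key
  · obtain ⟨s, hs, hker⟩ := exists_ker_evalRes T hT y
    have hT' : IsAffineOpen (⊤ : (Spec (S.residueField s)).Opens) := isAffineOpen_top _
    have hT'T : (⊤ : (Spec (S.residueField s)).Opens) ≤ (S.fromSpecResidueField s) ⁻¹ᵁ T := by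
      intro z _
      show (S.fromSpecResidueField s) z ∈ T
      rw [Scheme.fromSpecResidueField_apply]
      exact hs
    letI alg : Algebra Γ(S, T) Γ(Spec (S.residueField s), ⊤) :=
      ((S.fromSpecResidueField s).appLE T ⊤ hT'T).hom.toAlgebra
    let eR : Γ(Spec (S.residueField s), ⊤) ≃+* S.residueField s :=
      (Scheme.ΓSpecIso (S.residueField s)).commRingCatIsoToRingEquiv
    have hcomp : ∀ a : Γ(S, T), eR (((S.fromSpecResidueField s).appLE T ⊤ hT'T).hom a) =
        evalRes T s hs a := fun a =>
      congrArg (fun φ => φ.hom a) (appLE_fromSpecResidueField T hT s hs hT'T)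
    have hfield : IsField Γ(Spec (S.residueField s), ⊤) :=
      eR.toMulEquiv.isField (Field.toIsField _)
    have hker' : RingHom.ker (algebraMap Γ(S, T) Γ(Spec (S.residueField s), ⊤)) =
        y.asIdeal := by
      rw [← hker]
      ext a
      rw [RingHom.mem_ker, RingHom.mem_ker, ← hcomp a]
      show ((S.fromSpecResidueField s).appLE T ⊤ hT'T).hom a = 0 ↔ _
      constructor
      · intro h0
        rw [h0, map_zero]
      · intro h0
        exact eR.injective (by rw [h0, map_zero])
    letI mN : Module Γ(S, T) Γ((Scheme.Modules.pullback (S.fromSpecResidueField s)).obj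
        ((Scheme.Modules.pushforward f).obj (Coh.structureModule X)), ⊤) :=
      Module.compHom _ ((S.fromSpecResidueField s).appLE T ⊤ hT'T).hom
    haveI tow : IsScalarTower Γ(S, T) Γ(Spec (S.residueField s), ⊤)
        Γ((Scheme.Modules.pullback (S.fromSpecResidueField s)).obj
          ((Scheme.Modules.pushforward f).obj (Coh.structureModule X)), ⊤) :=
      IsScalarTower.of_algebraMap_smul fun _ _ => rfl
    have bc₁ := PBH8.isBaseChange_cUV (S.fromSpecResidueField s)
      ((Scheme.Modules.pushforward f).obj (Coh.structureModule X)) hT'T hT' hT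
    refine ⟨Γ(Spec (S.residueField s), ⊤), inferInstance, alg, hfield, hker',
      Γ((Scheme.Modules.pullback (S.fromSpecResidueField s)).obj
        ((Scheme.Modules.pushforward f).obj (Coh.structureModule X)), ⊤),
      inferInstance, mN, inferInstance, tow,
      PBH8.cUVLin (S.fromSpecResidueField s)
        ((Scheme.Modules.pushforward f).obj (Coh.structureModule X)) hT'T, bc₁, ?_⟩
    haveI := hiso s
    have hΘ : Function.Bijective
        (fun n : Γ((Scheme.Modules.pullback (S.fromSpecResidueField s)).obj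
            ((Scheme.Modules.pushforward f).obj (Coh.structureModule X)), ⊤) =>
          (PBH8.pullbackUnitIso (f.fiberι s)).hom.app ((f.fiberToSpecResidueField s) ⁻¹ᵁ ⊤)
            ((CohBC.bc0 f (S.fromSpecResidueField s) (f.fiberToSpecResidueField s) (f.fiberι s)
              (f.fiber_fac s) (Coh.structureModule X)).app ⊤ n)) :=
      (app_bijective_of_isIso (PBH8.pullbackUnitIso (f.fiberι s)).hom
        ((f.fiberToSpecResidueField s) ⁻¹ᵁ ⊤)).comp
        (app_bijective_of_isIso (CohBC.bc0 f (S.fromSpecResidueField s)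
          (f.fiberToSpecResidueField s) (f.fiberι s) (f.fiber_fac s)
          (Coh.structureModule X)) ⊤)
    refine (Function.Bijective.of_comp_iff' hΘ _).mp ?_
    have hcomp2 : (fun n : Γ((Scheme.Modules.pullback (S.fromSpecResidueField s)).obj
            ((Scheme.Modules.pushforward f).obj (Coh.structureModule X)), ⊤) =>
          (PBH8.pullbackUnitIso (f.fiberι s)).hom.app ((f.fiberToSpecResidueField s) ⁻¹ᵁ ⊤)
            ((CohBC.bc0 f (S.fromSpecResidueField s) (f.fiberToSpecResidueField s) (f.fiberι s)
              (f.fiber_fac s) (Coh.structureModule X)).app ⊤ n)) ∘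
        (fun c : Γ(Spec (S.residueField s), ⊤) => c • PBH8.cUVLin (S.fromSpecResidueField s)
          ((Scheme.Modules.pushforward f).obj (Coh.structureModule X)) hT'T (oneSec f T)) =
        ⇑((f.fiberToSpecResidueField s).app ⊤).hom :=
      funext fun c => theta_smul f s T hT'T c
    rw [hcomp2]
    exact hbijf' s

/-- from the affine opens to all opens -/
theorem isIso_app_of_affine (hb : ∀ T : S.Opens, IsAffineOpen T → IsIso (f.app T))
    (V : S.Opens) : IsIso (f.app V) := by
  let G : TopCat.Sheaf CommRingCat S := (TopCat.Sheaf.pushforward CommRingCat f.base).obj X.sheaf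
  let φ : S.sheaf ⟶ G := ⟨f.c⟩
  have hB : Opens.IsBasis (Set.range (fun T : S.affineOpens => (T : S.Opens))) := by
    rw [Subtype.range_coe]
    exact S.isBasis_affineOpens
  have hφ : IsIso φ := TopCat.Sheaf.isIso_iff_isIso_basis
    (B := fun T : S.affineOpens => (T : S.Opens)) hB (fun T => hb T.1 T.2)
  have h2 : IsIso ((TopCat.Sheaf.forget CommRingCat S).map φ) := inferInstance
  exact (NatTrans.isIso_iff_isIso_app ((TopCat.Sheaf.forget CommRingCat S).map φ)).mp h2 (op V)

/-- **`O_S ⟶ f_* O_X` is an isomorphism** for `f` proper, flat, of finite presentation, with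
`κ(s) ≅ Γ(X_s, O)` for all `s` -/
theorem isIso_app_of_fibres [IsProper f] [Flat f] [LocallyOfFinitePresentation f]
    (h : ∀ s : S, IsIso (f.fiberToSpecResidueField s).appTop) (V : S.Opens) :
    IsIso (f.app V) :=
  isIso_app_of_affine f (fun T hT =>
    (ConcreteCategory.isIso_iff_bijective (f.app T)).mpr (app_bijective_of_fibres f h T hT)) V

end Main

end Groth.Agent.Lib.CBCH2
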