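import Mathlib

/-!
# Rigidity: factoring a morphism through a proper `ξ : X ⟶ S` with `O_S ≅ ξ_* O_X` (helper4)
-/

set_option autoImplicit false
set_option linter.unusedVariables false
set_option linter.unusedTactic false
set_option linter.unreachableTactic false
set_option linter.unusedSectionVars false
set_option linter.style.haveILetI false
set_option linter.deprecated false
set_option maxHeartbeats 1600000

universe u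

open CategoryTheory CategoryTheory.Limits AlgebraicGeometry TopologicalSpace

namespace Groth.Agent.Lib.RigidFactorH4

variable {X Y S : Scheme.{u}}

theorem presheaf_map_eqToHom_bijective (A : Scheme.{u}) {U V : A.Opens} (e : U = V) :
    Function.Bijective (A.presheaf.map (eqToHom e).op).hom := by
  subst e
  have h1 : A.presheaf.map (eqToHom (rfl : U = U)).op = 𝟙 _ := by
    rw [eqToHom_refl, op_id, A.presheaf.map_id]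
  rw [h1]
  exact Function.bijective_id

theorem restrict_app_injective {A B : Scheme.{u}} (q : A ⟶ B)
    (hinj : ∀ U : B.Opens, Function.Injective (q.app U).hom) (U : B.Opens)
    (V : U.toScheme.Opens) : Function.Injective ((q ∣_ U).app V).hom := by
  rw [morphismRestrict_app]
  intro a b hab
  exact hinj _
    ((presheaf_map_eqToHom_bijective A (image_morphismRestrict_preimage q U V)).1 hab)

theorem restrict_appTop_bijective {A B : Scheme.{u}} (q : A ⟶ B)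
    (hbij : ∀ U : B.Opens, Function.Bijective (q.app U).hom) (U : B.Opens) :
    Function.Bijective (q ∣_ U).appTop.hom := by
  rw [morphismRestrict_appTop]
  constructor
  · intro a b hab
    exact (hbij _).1
      ((presheaf_map_eqToHom_bijective A (image_morphismRestrict_preimage q U ⊤)).1 hab)
  · intro c
    obtain ⟨c', hc'⟩ :=
      (presheaf_map_eqToHom_bijective A (image_morphismRestrict_preimage q U ⊤)).2 c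
    obtain ⟨a, ha⟩ := (hbij _).2 c'
    refine ⟨a, ?_⟩
    show (A.presheaf.map (eqToHom (image_morphismRestrict_preimage q U ⊤)).op).hom
      ((q.app (U.ι ''ᵁ ⊤)).hom a) = c
    rw [ha, hc']

theorem surjective_of_injective_app (ξ : X ⟶ S) (hcl : IsClosedMap ξ.base)
    (hinj : ∀ U : S.Opens, Function.Injective (ξ.app U).hom) : Function.Surjective ξ.base := by
  intro s
  by_contra hs
  obtain ⟨U, hU⟩ : ∃ U : S.Opens, (U : Set S) = (Set.range ξ.base)ᶜ :=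
    ⟨⟨(Set.range ξ.base)ᶜ, hcl.isClosed_range.isOpen_compl⟩, rfl⟩
  have hsU : s ∈ U := by
    show s ∈ (U : Set S)
    rw [hU]
    exact hs
  have hpre : ξ ⁻¹ᵁ U = ⊥ := by
    rw [eq_bot_iff]
    intro x hx
    have hx' : ξ.base x ∈ (U : Set S) := hx
    rw [hU] at hx'
    exact absurd ⟨x, rfl⟩ hx'
  haveI hsub : Subsingleton Γ(X, ξ ⁻¹ᵁ U) := by rw [hpre]; infer_instance
  have h10 : (1 : Γ(S, U)) = 0 := hinj U (Subsingleton.elim _ _)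
  have h2 := congrArg (S.presheaf.germ U s hsU).hom h10
  rw [map_one, map_zero] at h2
  exact one_ne_zero h2

theorem epi_of_surjective_of_injective {A B : Scheme.{u}} (q : A ⟶ B)
    (hs : Function.Surjective q.base)
    (hinj : ∀ U : B.Opens, Function.Injective (q.app U).hom) : Epi q := by
  constructor
  intro Z g g' h
  have hpt : ∀ b : B, g.base b = g'.base b := by
    intro b
    obtain ⟨a, rfl⟩ := hs b
    have h1 : (q ≫ g).base a = (q ≫ g').base a := by rw [h]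
    exact h1
  apply Scheme.hom_ext_of_forall
  intro b
  obtain ⟨V, hV, hbV⟩ : ∃ V : Z.Opens, IsAffineOpen V ∧ g.base b ∈ V := by
    obtain ⟨_, ⟨V, hV, rfl⟩, hbV, -⟩ := Z.isBasis_affineOpens.exists_subset_of_mem_open
      (Set.mem_univ (g.base b)) isOpen_univ
    exact ⟨V, hV, hbV⟩
  have hbV' : g'.base b ∈ V := by rw [← hpt b]; exact hbV
  obtain ⟨U, hU⟩ : ∃ U : B.Opens, U = g ⁻¹ᵁ V ⊓ g' ⁻¹ᵁ V := ⟨_, rfl⟩
  have hbU : b ∈ U := by rw [hU]; exact ⟨hbV, hbV'⟩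
  have hUg : U ≤ g ⁻¹ᵁ V := hU ▸ inf_le_left
  have hUg' : U ≤ g' ⁻¹ᵁ V := hU ▸ inf_le_right
  refine ⟨U, hbU, ?_⟩
  haveI : IsAffine V.toScheme := hV
  have hr : Set.range (U.ι ≫ g).base ⊆ Set.range V.ι.base := by
    rintro _ ⟨x, rfl⟩
    rw [Scheme.Opens.range_ι]
    exact hUg x.2
  have hr' : Set.range (U.ι ≫ g').base ⊆ Set.range V.ι.base := by
    rintro _ ⟨x, rfl⟩
    rw [Scheme.Opens.range_ι]
    exact hUg' x.2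
  obtain ⟨m, e1⟩ : ∃ m : U.toScheme ⟶ V.toScheme, m ≫ V.ι = U.ι ≫ g :=
    ⟨_, IsOpenImmersion.lift_fac V.ι (U.ι ≫ g) hr⟩
  obtain ⟨m', e2⟩ : ∃ m' : U.toScheme ⟶ V.toScheme, m' ≫ V.ι = U.ι ≫ g' :=
    ⟨_, IsOpenImmersion.lift_fac V.ι (U.ι ≫ g') hr'⟩
  have hmm : m = m' := by
    apply ext_of_isAffine
    haveI : Mono (q ∣_ U).appTop :=
      ConcreteCategory.mono_of_injective _ (restrict_app_injective q hinj U ⊤)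
    rw [← cancel_mono (q ∣_ U).appTop, ← Scheme.Hom.comp_appTop, ← Scheme.Hom.comp_appTop]
    congr 1
    rw [← cancel_mono V.ι, Category.assoc, Category.assoc, e1, e2, morphismRestrict_ι_assoc,
      morphismRestrict_ι_assoc, h]
  rw [← e1, ← e2, hmm]

theorem epi_restrict (ξ : X ⟶ S) (hs : Function.Surjective ξ.base)
    (hinj : ∀ U : S.Opens, Function.Injective (ξ.app U).hom) (W : S.Opens) : Epi (ξ ∣_ W) := by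
  apply epi_of_surjective_of_injective
  · rintro ⟨s, hsW⟩
    obtain ⟨x, rfl⟩ := hs s
    refine ⟨⟨x, hsW⟩, ?_⟩
    apply Subtype.ext
    exact morphismRestrict_base_coe ξ W ⟨x, hsW⟩
  · intro V
    exact restrict_app_injective ξ hinj W V

theorem exists_factor (ξ : X ⟶ S) (hbij : ∀ U : S.Opens, Function.Bijective (ξ.app U).hom)
    (f : X ⟶ Y) (W : S.Opens) (V : Y.Opens) (hV : IsAffineOpen V) (hWV : ξ ⁻¹ᵁ W ≤ f ⁻¹ᵁ V) :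
    ∃ g : W.toScheme ⟶ Y, (ξ ∣_ W) ≫ g = (ξ ⁻¹ᵁ W).ι ≫ f := by
  haveI : IsAffine V.toScheme := hV
  have hr : Set.range ((ξ ⁻¹ᵁ W).ι ≫ f).base ⊆ Set.range V.ι.base := by
    rintro _ ⟨x, rfl⟩
    rw [Scheme.Opens.range_ι]
    exact hWV x.2
  obtain ⟨f', hf'⟩ : ∃ f' : (ξ ⁻¹ᵁ W).toScheme ⟶ V.toScheme, f' ≫ V.ι = (ξ ⁻¹ᵁ W).ι ≫ f :=
    ⟨_, IsOpenImmersion.lift_fac V.ι ((ξ ⁻¹ᵁ W).ι ≫ f) hr⟩
  haveI : IsIso (ξ ∣_ W).appTop :=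
    (ConcreteCategory.isIso_iff_bijective _).mpr (restrict_appTop_bijective ξ hbij W)
  haveI : IsIso V.toScheme.toSpecΓ := IsAffine.affine
  refine ⟨(W.toScheme.toSpecΓ ≫ Spec.map (f'.appTop ≫ inv (ξ ∣_ W).appTop) ≫
    inv V.toScheme.toSpecΓ) ≫ V.ι, ?_⟩
  rw [← hf', ← Category.assoc]
  congr 1
  rw [← cancel_mono V.toScheme.toSpecΓ]
  simp only [Category.assoc, IsIso.inv_hom_id, Category.comp_id]
  rw [Scheme.toSpecΓ_naturality_assoc, ← Spec.map_comp, Scheme.toSpecΓ_naturality]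
  congr 2
  rw [Category.assoc, IsIso.inv_hom_id, Category.comp_id]

theorem compat (ξ : X ⟶ S) (hs : Function.Surjective ξ.base)
    (hinj : ∀ U : S.Opens, Function.Injective (ξ.app U).hom) (f : X ⟶ Y)
    (W W' : S.Opens) (g : W.toScheme ⟶ Y) (g' : W'.toScheme ⟶ Y)
    (hg : (ξ ∣_ W) ≫ g = (ξ ⁻¹ᵁ W).ι ≫ f) (hg' : (ξ ∣_ W') ≫ g' = (ξ ⁻¹ᵁ W').ι ≫ f)
    {Q : Scheme.{u}} (a : Q ⟶ W.toScheme) (b : Q ⟶ W'.toScheme) (hab : a ≫ W.ι = b ≫ W'.ι) :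
    a ≫ g = b ≫ g' := by
  haveI : Epi (ξ ∣_ (W ⊓ W')) := epi_restrict ξ hs hinj (W ⊓ W')
  have hD : S.homOfLE (inf_le_left : W ⊓ W' ≤ W) ≫ g =
      S.homOfLE (inf_le_right : W ⊓ W' ≤ W') ≫ g' := by
    rw [← cancel_epi (ξ ∣_ (W ⊓ W'))]
    have h1 : (ξ ∣_ (W ⊓ W')) ≫ S.homOfLE (inf_le_left : W ⊓ W' ≤ W) ≫ g =
        (ξ ⁻¹ᵁ (W ⊓ W')).ι ≫ f := by
      rw [← Category.assoc, morphismRestrict_homOfLE, Category.assoc, hg, ← Category.assoc,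
        Scheme.homOfLE_ι]
    have h2 : (ξ ∣_ (W ⊓ W')) ≫ S.homOfLE (inf_le_right : W ⊓ W' ≤ W') ≫ g' =
        (ξ ⁻¹ᵁ (W ⊓ W')).ι ≫ f := by
      rw [← Category.assoc, morphismRestrict_homOfLE, Category.assoc, hg', ← Category.assoc,
        Scheme.homOfLE_ι]
    rw [h1, h2]
  have hr : Set.range (a ≫ W.ι).base ⊆ Set.range (W ⊓ W').ι.base := by
    rintro _ ⟨x, rfl⟩
    rw [Scheme.Opens.range_ι]
    refine ⟨(a.base x).2, ?_⟩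
    rw [hab]
    exact (b.base x).2
  obtain ⟨c, hc⟩ : ∃ c : Q ⟶ (W ⊓ W').toScheme, c ≫ (W ⊓ W').ι = a ≫ W.ι :=
    ⟨_, IsOpenImmersion.lift_fac _ _ hr⟩
  have ha : a = c ≫ S.homOfLE inf_le_left := by
    rw [← cancel_mono W.ι, Category.assoc, Scheme.homOfLE_ι, hc]
  have hb : b = c ≫ S.homOfLE inf_le_right := by
    rw [← cancel_mono W'.ι, Category.assoc, Scheme.homOfLE_ι, hc, hab]
  rw [ha, hb, Category.assoc, Category.assoc, hD]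

theorem exists_nhd_factor (ξ : X ⟶ S) (hcl : IsClosedMap ξ.base)
    (hbij : ∀ U : S.Opens, Function.Bijective (ξ.app U).hom) (f : X ⟶ Y) (s : S) (y : Y)
    (hy : ∀ x : X, ξ.base x = s → f.base x = y) :
    ∃ W : S.Opens, s ∈ W ∧ ∃ g : W.toScheme ⟶ Y, (ξ ∣_ W) ≫ g = (ξ ⁻¹ᵁ W).ι ≫ f := by
  obtain ⟨V, hV, hyV⟩ : ∃ V : Y.Opens, IsAffineOpen V ∧ y ∈ V := by
    obtain ⟨_, ⟨V, hV, rfl⟩, hyV, -⟩ := Y.isBasis_affineOpens.exists_subset_of_mem_open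
      (Set.mem_univ y) isOpen_univ
    exact ⟨V, hV, hyV⟩
  have hC : IsClosed (ξ.base '' ((f ⁻¹ᵁ V : Set X)ᶜ)) :=
    hcl _ (f ⁻¹ᵁ V).isOpen.isClosed_compl
  obtain ⟨W, hW⟩ : ∃ W : S.Opens, (W : Set S) = (ξ.base '' ((f ⁻¹ᵁ V : Set X)ᶜ))ᶜ :=
    ⟨⟨_, hC.isOpen_compl⟩, rfl⟩
  have hsW : s ∈ W := by
    show s ∈ (W : Set S)
    rw [hW]
    rintro ⟨x, hx, rfl⟩
    apply hx
    show f.base x ∈ V
    rw [hy x rfl]
    exact hyV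
  have hWV : ξ ⁻¹ᵁ W ≤ f ⁻¹ᵁ V := by
    intro x hx
    have hx' : ξ.base x ∈ (W : Set S) := hx
    rw [hW] at hx'
    by_contra hxV
    exact hx' ⟨x, hxV, rfl⟩
  obtain ⟨g, hg⟩ := exists_factor ξ hbij f W V hV hWV
  exact ⟨W, hsW, g, hg⟩

theorem eq_of_factor (ξ : X ⟶ S) (f : X ⟶ Y) (W : S.Opens) (g : W.toScheme ⟶ Y)
    (hg : (ξ ∣_ W) ≫ g = (ξ ⁻¹ᵁ W).ι ≫ f) (s : S) (hs : s ∈ W) :
    ∀ x : X, ξ.base x = s → f.base x = g.base ⟨s, hs⟩ := by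
  intro x hx
  subst hx
  have h1 : ((ξ ⁻¹ᵁ W).ι ≫ f).base (⟨x, hs⟩ : (ξ ⁻¹ᵁ W).toScheme) =
      ((ξ ∣_ W) ≫ g).base (⟨x, hs⟩ : (ξ ⁻¹ᵁ W).toScheme) := by rw [hg]
  have h2 : (ξ ∣_ W).base (⟨x, hs⟩ : (ξ ⁻¹ᵁ W).toScheme) = ⟨ξ.base x, hs⟩ :=
    Subtype.ext (morphismRestrict_base_coe ξ W ⟨x, hs⟩)
  calc f.base x = ((ξ ⁻¹ᵁ W).ι ≫ f).base (⟨x, hs⟩ : (ξ ⁻¹ᵁ W).toScheme) := rfl
    _ = ((ξ ∣_ W) ≫ g).base (⟨x, hs⟩ : (ξ ⁻¹ᵁ W).toScheme) := h1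
    _ = g.base ((ξ ∣_ W).base (⟨x, hs⟩ : (ξ ⁻¹ᵁ W).toScheme)) := rfl
    _ = g.base ⟨ξ.base x, hs⟩ := by rw [h2]

theorem fst_comp_eq (ξ : X ⟶ S) (f : X ⟶ Y) {T P : Scheme.{u}} (τ : T ⟶ S) (fs : P ⟶ X)
    (sn : P ⟶ T) (hcond : fs ≫ ξ = sn ≫ τ) (r : T ⟶ Y)
    (W : T → S.Opens) (hW : ∀ t, τ.base t ∈ W t) (g : ∀ t, (W t).toScheme ⟶ Y)
    (hg : ∀ t, (ξ ∣_ W t) ≫ g t = (ξ ⁻¹ᵁ W t).ι ≫ f)
    (hr : ∀ t, (τ ⁻¹ᵁ W t).ι ≫ r = (τ ∣_ W t) ≫ g t) : fs ≫ f = sn ≫ r := by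
  apply Scheme.hom_ext_of_forall
  intro p
  obtain ⟨t, ht⟩ : ∃ t : T, t = sn.base p := ⟨_, rfl⟩
  refine ⟨sn ⁻¹ᵁ (τ ⁻¹ᵁ W t), ?_, ?_⟩
  · show τ.base (sn.base p) ∈ W t
    rw [← ht]
    exact hW t
  have hr' : Set.range ((sn ⁻¹ᵁ (τ ⁻¹ᵁ W t)).ι ≫ fs).base ⊆ Set.range (ξ ⁻¹ᵁ W t).ι.base := by
    rintro _ ⟨z, rfl⟩
    rw [Scheme.Opens.range_ι]
    show (fs ≫ ξ).base z.1 ∈ W t
    rw [hcond]
    exact z.2
  obtain ⟨a, ha⟩ : ∃ a : (sn ⁻¹ᵁ (τ ⁻¹ᵁ W t)).toScheme ⟶ (ξ ⁻¹ᵁ W t).toScheme,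
      a ≫ (ξ ⁻¹ᵁ W t).ι = (sn ⁻¹ᵁ (τ ⁻¹ᵁ W t)).ι ≫ fs :=
    ⟨_, IsOpenImmersion.lift_fac _ _ hr'⟩
  have hkey : a ≫ (ξ ∣_ W t) = (sn ∣_ (τ ⁻¹ᵁ W t)) ≫ (τ ∣_ W t) := by
    rw [← cancel_mono (W t).ι]
    calc (a ≫ (ξ ∣_ W t)) ≫ (W t).ι = a ≫ ((ξ ∣_ W t) ≫ (W t).ι) := Category.assoc _ _ _
      _ = a ≫ ((ξ ⁻¹ᵁ W t).ι ≫ ξ) := by rw [morphismRestrict_ι]
      _ = (a ≫ (ξ ⁻¹ᵁ W t).ι) ≫ ξ := (Category.assoc _ _ _).symm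
      _ = ((sn ⁻¹ᵁ (τ ⁻¹ᵁ W t)).ι ≫ fs) ≫ ξ := by rw [ha]
      _ = (sn ⁻¹ᵁ (τ ⁻¹ᵁ W t)).ι ≫ (fs ≫ ξ) := Category.assoc _ _ _
      _ = (sn ⁻¹ᵁ (τ ⁻¹ᵁ W t)).ι ≫ (sn ≫ τ) := by rw [hcond]
      _ = ((sn ⁻¹ᵁ (τ ⁻¹ᵁ W t)).ι ≫ sn) ≫ τ := (Category.assoc _ _ _).symm
      _ = ((sn ∣_ (τ ⁻¹ᵁ W t)) ≫ (τ ⁻¹ᵁ W t).ι) ≫ τ := by rw [morphismRestrict_ι]
      _ = (sn ∣_ (τ ⁻¹ᵁ W t)) ≫ ((τ ⁻¹ᵁ W t).ι ≫ τ) := Category.assoc _ _ _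
      _ = (sn ∣_ (τ ⁻¹ᵁ W t)) ≫ ((τ ∣_ W t) ≫ (W t).ι) := by rw [morphismRestrict_ι]
      _ = ((sn ∣_ (τ ⁻¹ᵁ W t)) ≫ (τ ∣_ W t)) ≫ (W t).ι := (Category.assoc _ _ _).symm
  calc (sn ⁻¹ᵁ (τ ⁻¹ᵁ W t)).ι ≫ fs ≫ f
      = ((sn ⁻¹ᵁ (τ ⁻¹ᵁ W t)).ι ≫ fs) ≫ f := (Category.assoc _ _ _).symm
    _ = (a ≫ (ξ ⁻¹ᵁ W t).ι) ≫ f := by rw [ha]
    _ = a ≫ ((ξ ⁻¹ᵁ W t).ι ≫ f) := Category.assoc _ _ _
    _ = a ≫ ((ξ ∣_ W t) ≫ g t) := by rw [hg t]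
    _ = (a ≫ (ξ ∣_ W t)) ≫ g t := (Category.assoc _ _ _).symm
    _ = ((sn ∣_ (τ ⁻¹ᵁ W t)) ≫ (τ ∣_ W t)) ≫ g t := by rw [hkey]
    _ = (sn ∣_ (τ ⁻¹ᵁ W t)) ≫ ((τ ∣_ W t) ≫ g t) := Category.assoc _ _ _
    _ = (sn ∣_ (τ ⁻¹ᵁ W t)) ≫ ((τ ⁻¹ᵁ W t).ι ≫ r) := by rw [hr t]
    _ = ((sn ∣_ (τ ⁻¹ᵁ W t)) ≫ (τ ⁻¹ᵁ W t).ι) ≫ r := (Category.assoc _ _ _).symm
    _ = ((sn ⁻¹ᵁ (τ ⁻¹ᵁ W t)).ι ≫ sn) ≫ r := by rw [morphismRestrict_ι]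
    _ = (sn ⁻¹ᵁ (τ ⁻¹ᵁ W t)).ι ≫ sn ≫ r := Category.assoc _ _ _

theorem hab_aux {T S : Scheme.{u}} (τ : T ⟶ S) (W W' : S.Opens) {Q : Scheme.{u}}
    (a : Q ⟶ (τ ⁻¹ᵁ W).toScheme) (b : Q ⟶ (τ ⁻¹ᵁ W').toScheme)
    (h : a ≫ (τ ⁻¹ᵁ W).ι = b ≫ (τ ⁻¹ᵁ W').ι) :
    (a ≫ (τ ∣_ W)) ≫ W.ι = (b ≫ (τ ∣_ W')) ≫ W'.ι := by
  calc (a ≫ (τ ∣_ W)) ≫ W.ι = a ≫ ((τ ∣_ W) ≫ W.ι) := Category.assoc _ _ _
    _ = a ≫ ((τ ⁻¹ᵁ W).ι ≫ τ) := by rw [morphismRestrict_ι]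
    _ = (a ≫ (τ ⁻¹ᵁ W).ι) ≫ τ := (Category.assoc _ _ _).symm
    _ = (b ≫ (τ ⁻¹ᵁ W').ι) ≫ τ := by rw [h]
    _ = b ≫ ((τ ⁻¹ᵁ W').ι ≫ τ) := Category.assoc _ _ _
    _ = b ≫ ((τ ∣_ W') ≫ W'.ι) := by rw [morphismRestrict_ι]
    _ = (b ≫ (τ ∣_ W')) ≫ W'.ι := (Category.assoc _ _ _).symm

theorem exists_glue (ξ : X ⟶ S) (hs : Function.Surjective ξ.base)
    (hinj : ∀ U : S.Opens, Function.Injective (ξ.app U).hom) (f : X ⟶ Y)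
    {T : Scheme.{u}} (τ : T ⟶ S)
    (W : T → S.Opens) (hW : ∀ t, τ.base t ∈ W t) (g : ∀ t, (W t).toScheme ⟶ Y)
    (hg : ∀ t, (ξ ∣_ W t) ≫ g t = (ξ ⁻¹ᵁ W t).ι ≫ f) :
    ∃ r : T ⟶ Y, ∀ t : T, (τ ⁻¹ᵁ W t).ι ≫ r = (τ ∣_ W t) ≫ g t := by
  have hcov : IsOpenCover (fun t : T => τ ⁻¹ᵁ W t) := by
    apply IsOpenCover.mk
    rw [eq_top_iff]
    intro t _
    exact Opens.mem_iSup.mpr ⟨t, hW t⟩
  have hcompat : ∀ t t' : T,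
      pullback.fst ((T.openCoverOfIsOpenCover (fun t : T => τ ⁻¹ᵁ W t) hcov).f t)
          ((T.openCoverOfIsOpenCover (fun t : T => τ ⁻¹ᵁ W t) hcov).f t') ≫ ((τ ∣_ W t) ≫ g t) =
        pullback.snd ((T.openCoverOfIsOpenCover (fun t : T => τ ⁻¹ᵁ W t) hcov).f t)
          ((T.openCoverOfIsOpenCover (fun t : T => τ ⁻¹ᵁ W t) hcov).f t') ≫
            ((τ ∣_ W t') ≫ g t') := by
    intro t t'
    have h3 := compat ξ hs hinj f (W t) (W t') (g t) (g t') (hg t) (hg t') _ _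
      (hab_aux τ (W t) (W t')
        (pullback.fst ((T.openCoverOfIsOpenCover (fun t : T => τ ⁻¹ᵁ W t) hcov).f t)
          ((T.openCoverOfIsOpenCover (fun t : T => τ ⁻¹ᵁ W t) hcov).f t'))
        (pullback.snd ((T.openCoverOfIsOpenCover (fun t : T => τ ⁻¹ᵁ W t) hcov).f t)
          ((T.openCoverOfIsOpenCover (fun t : T => τ ⁻¹ᵁ W t) hcov).f t'))
        pullback.condition)
    exact (Category.assoc _ _ _).symm.trans (h3.trans (Category.assoc _ _ _))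
  exact ⟨(T.openCoverOfIsOpenCover (fun t : T => τ ⁻¹ᵁ W t) hcov).glueMorphisms
      (fun t => (τ ∣_ W t) ≫ g t) hcompat,
    fun t => (T.openCoverOfIsOpenCover (fun t : T => τ ⁻¹ᵁ W t) hcov).ι_glueMorphisms
      (fun t => (τ ∣_ W t) ≫ g t) hcompat t⟩

theorem main14666 {X Y S : Scheme.{u}}
    (ξ : X ⟶ S) [IsProper ξ]
    (h0 : ∀ U : S.Opens, Function.Bijective (ξ.app U).hom)
    (v : Y ⟶ S) (f : X ⟶ Y) (hf : f ≫ v = ξ) :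
    IsOpen {s : ↥S | ∃ y : ↥Y, ∀ x : ↥X, ξ.base x = s → f.base x = y} ∧
    ∀ (T : Scheme.{u}) (τ : T ⟶ S),
      ((∃ r : T ⟶ Y, r ≫ v = τ ∧ pullback.fst ξ τ ≫ f = pullback.snd ξ τ ≫ r) ↔
        ∀ t : ↥T, τ.base t ∈ {s : ↥S | ∃ y : ↥Y, ∀ x : ↥X, ξ.base x = s → f.base x = y}) := by
  have hcl : IsClosedMap ξ.base := ξ.isClosedMap
  have hinj : ∀ U : S.Opens, Function.Injective (ξ.app U).hom := fun U => (h0 U).1
  have hs : Function.Surjective ξ.base := surjective_of_injective_app ξ hcl hinj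
  have hlocal : ∀ s ∈ {s : ↥S | ∃ y : ↥Y, ∀ x : ↥X, ξ.base x = s → f.base x = y},
      ∃ W : S.Opens, s ∈ W ∧ ∃ g : W.toScheme ⟶ Y, (ξ ∣_ W) ≫ g = (ξ ⁻¹ᵁ W).ι ≫ f := by
    rintro s ⟨y, hy⟩
    exact exists_nhd_factor ξ hcl h0 f s y hy
  refine ⟨?_, ?_⟩
  · rw [isOpen_iff_forall_mem_open]
    intro s hsU
    obtain ⟨W, hsW, g, hg⟩ := hlocal s hsU
    refine ⟨W, ?_, W.isOpen, hsW⟩
    intro s' hs'
    exact ⟨g.base ⟨s', hs'⟩, eq_of_factor ξ f W g hg s' hs'⟩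
  · intro T τ
    constructor
    · rintro ⟨r, hr1, hr2⟩ t
      refine ⟨r.base t, ?_⟩
      intro x hx
      obtain ⟨z, hz1, hz2⟩ := Scheme.Pullback.exists_preimage_pullback x t hx
      have h1 : (pullback.fst ξ τ ≫ f).base z = (pullback.snd ξ τ ≫ r).base z := by rw [hr2]
      calc f.base x = f.base ((pullback.fst ξ τ).base z) := by rw [hz1]
        _ = (pullback.fst ξ τ ≫ f).base z := rfl
        _ = (pullback.snd ξ τ ≫ r).base z := h1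
        _ = r.base ((pullback.snd ξ τ).base z) := rfl
        _ = r.base t := by rw [hz2]
    · intro hT
      choose W hW g hg using fun t : T => hlocal (τ.base t) (hT t)
      obtain ⟨r, hr⟩ := exists_glue ξ hs hinj f τ W hW g hg
      have hgv : ∀ t : T, g t ≫ v = (W t).ι := by
        intro t
        haveI : Epi (ξ ∣_ W t) := epi_restrict ξ hs hinj (W t)
        rw [← cancel_epi (ξ ∣_ W t), ← Category.assoc, hg t, Category.assoc, hf,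
          morphismRestrict_ι]
      refine ⟨r, ?_, ?_⟩
      · apply Scheme.hom_ext_of_forall
        intro t
        refine ⟨τ ⁻¹ᵁ W t, hW t, ?_⟩
        rw [← Category.assoc, hr t, Category.assoc, hgv t, morphismRestrict_ι]
      · exact fst_comp_eq ξ f τ (pullback.fst ξ τ) (pullback.snd ξ τ) pullback.condition r W hW g
          hg hr

end Groth.Agent.Lib.RigidFactorH4
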