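import Mathlib
import Groth.Prelude
import Groth.Agent.Lib.H0Kappa_helper2
import Groth.Agent.Lib.H0Const_helper4
import Groth.Agent.Lib.RigidFactor_helper4

/-!
# The rigidity lemma over an arbitrary base (helper4)

* `isIso_app`: for `g` proper flat of finite presentation with geometrically connected and
  geometrically reduced fibres, `O_T(W) → O_X(g⁻¹ W)` is an isomorphism for every open `W`
  (helper2's `isIso_app_of_fibres` + `H0ConstH4.isIso_appTop`).
* `isClosed_const_locus'`: closedness of the locus where `f` is constant on the fibres of `ξ`.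
* `rigidity`: Mumford's rigidity lemma (GIT 6.1), **S7783**.
APPEND-ONLY once landed.
-/

set_option autoImplicit false
set_option linter.unusedVariables false
set_option linter.unusedSectionVars false
set_option linter.style.haveILetI false
set_option maxHeartbeats 1600000

universe u

open CategoryTheory CategoryTheory.Limits AlgebraicGeometry TopologicalSpace Opposite

namespace Groth.Agent.Lib.RigidGenH4

/-- `O_T = g_* O_X` for `g` proper flat of finite presentation with geometrically connected and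
geometrically reduced fibres. -/
theorem isIso_app {X T : Scheme.{u}} (g : X ⟶ T) [IsProper g] [Flat g]
    [LocallyOfFinitePresentation g] [GeometricallyReduced g] [GeometricallyConnected g]
    (W : T.Opens) : IsIso (g.app W) := by
  refine Groth.Agent.Lib.CBCH2.isIso_app_of_fibres g (fun s => ?_) W
  haveI : IsProper (g.fiberToSpecResidueField s) :=
    MorphismProperty.pullback_snd (P := @IsProper) g (T.fromSpecResidueField s) inferInstance
  haveI : GeometricallyReduced (g.fiberToSpecResidueField s) :=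
    inferInstanceAs (GeometricallyReduced (pullback.snd g (T.fromSpecResidueField s)))
  haveI : GeometricallyConnected (g.fiberToSpecResidueField s) :=
    inferInstanceAs (GeometricallyConnected (pullback.snd g (T.fromSpecResidueField s)))
  exact Groth.Agent.Lib.H0ConstH4.isIso_appTop (T.residueField s)
    (X := g.fiber s) (g.fiberToSpecResidueField s)

theorem app_bijective {X T : Scheme.{u}} (g : X ⟶ T) [IsProper g] [Flat g]
    [LocallyOfFinitePresentation g] [GeometricallyReduced g] [GeometricallyConnected g]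
    (W : T.Opens) : Function.Bijective (g.app W).hom := by
  haveI := isIso_app g W
  exact ConcreteCategory.bijective_of_isIso (g.app W)

/-- Closedness of the locus over which `f` is constant on the fibres of `ξ`, given that `f`
factors through `ξ` near every point of this locus. -/
theorem isClosed_const_locus' {X Y S T : Scheme.{u}} (ξ : X ⟶ T) [UniversallyOpen ξ]
    [Surjective ξ] (p : T ⟶ S) (q : Y ⟶ S) [IsSeparated q] (f : X ⟶ Y) (hf : f ≫ q = ξ ≫ p)
    (hloc : ∀ t ∈ {t : ↥T | ∃ y : ↥Y, ∀ x : ↥X, ξ.base x = t → f.base x = y},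
      ∃ W : T.Opens, t ∈ W ∧ ∃ g : W.toScheme ⟶ Y, (ξ ∣_ W) ≫ g = (ξ ⁻¹ᵁ W).ι ≫ f) :
    IsClosed {t : ↥T | ∃ y : ↥Y, ∀ x : ↥X, ξ.base x = t → f.base x = y} := by
  obtain ⟨p₁, hp₁⟩ : ∃ p₁ : pullback ξ ξ ⟶ X, p₁ = pullback.fst ξ ξ := ⟨_, rfl⟩
  obtain ⟨p₂, hp₂⟩ : ∃ p₂ : pullback ξ ξ ⟶ X, p₂ = pullback.snd ξ ξ := ⟨_, rfl⟩
  have hcond : p₁ ≫ ξ = p₂ ≫ ξ := by rw [hp₁, hp₂]; exact pullback.condition
  have hw : (p₁ ≫ f) ≫ q = (p₂ ≫ f) ≫ q := by
    rw [Category.assoc, Category.assoc, hf, ← Category.assoc, ← Category.assoc, hcond]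
  obtain ⟨δ, hδ⟩ : ∃ δ : pullback ξ ξ ⟶ pullback q q, δ = pullback.lift (p₁ ≫ f) (p₂ ≫ f) hw :=
    ⟨_, rfl⟩
  have hδ1 : δ ≫ pullback.fst q q = p₁ ≫ f := by rw [hδ]; exact pullback.lift_fst _ _ _
  have hδ2 : δ ≫ pullback.snd q q = p₂ ≫ f := by rw [hδ]; exact pullback.lift_snd _ _ _
  haveI : UniversallyOpen p₁ := by
    rw [hp₁]; exact MorphismProperty.pullback_fst (P := @UniversallyOpen) ξ ξ inferInstance
  haveI : UniversallyOpen (p₁ ≫ ξ) := inferInstance
  have hE : IsClosed (δ.base ⁻¹' (Set.range (pullback.diagonal q).base)) :=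
    (pullback.diagonal q).isClosedEmbedding.isClosed_range.preimage δ.continuous
  have hopen : IsOpen ((p₁ ≫ ξ).base '' (δ.base ⁻¹' (Set.range (pullback.diagonal q).base))ᶜ) :=
    (p₁ ≫ ξ).isOpenMap _ hE.isOpen_compl
  have hEq : {t : ↥T | ∃ y : ↥Y, ∀ x : ↥X, ξ.base x = t → f.base x = y}ᶜ =
      (p₁ ≫ ξ).base '' (δ.base ⁻¹' (Set.range (pullback.diagonal q).base))ᶜ := by
    ext s
    constructor
    · intro hs
      obtain ⟨x₁, hx₁⟩ := ξ.surjective s
      have hne : ∃ x₂ : X, ξ.base x₂ = s ∧ f.base x₂ ≠ f.base x₁ := by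
        by_contra hcon
        push Not at hcon
        exact hs ⟨f.base x₁, fun x hx => hcon x hx⟩
      obtain ⟨x₂, hx₂, hx₂ne⟩ := hne
      obtain ⟨z, hz1, hz2⟩ := Scheme.Pullback.exists_preimage_pullback (f := ξ) (g := ξ) x₁ x₂
        (hx₁.trans hx₂.symm)
      refine ⟨z, ?_, ?_⟩
      · rintro ⟨y, hy⟩
        apply hx₂ne
        have h1 : (δ ≫ pullback.fst q q).base z = y := by
          show (pullback.fst q q).base (δ.base z) = y
          rw [← hy, ← Scheme.Hom.comp_apply, pullback.diagonal_fst]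
          rfl
        have h2 : (δ ≫ pullback.snd q q).base z = y := by
          show (pullback.snd q q).base (δ.base z) = y
          rw [← hy, ← Scheme.Hom.comp_apply, pullback.diagonal_snd]
          rfl
        rw [hδ1] at h1
        rw [hδ2] at h2
        have h3 : f.base (p₁.base z) = y := h1
        have h4 : f.base (p₂.base z) = y := h2
        rw [hp₁] at h3
        rw [hp₂] at h4
        rw [hz1] at h3
        rw [hz2] at h4
        rw [h3, h4]
      · show ξ.base (p₁.base z) = s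
        rw [hp₁, hz1, hx₁]
    · rintro ⟨z, hz, rfl⟩ hsU
      apply hz
      obtain ⟨W, hsW, g, hg⟩ := hloc _ hsU
      have hzW : z ∈ (p₁ ≫ ξ) ⁻¹ᵁ W := hsW
      obtain ⟨j, hj⟩ : ∃ j : ((p₁ ≫ ξ) ⁻¹ᵁ W).toScheme ⟶ pullback ξ ξ,
        j = ((p₁ ≫ ξ) ⁻¹ᵁ W).ι := ⟨_, rfl⟩
      have hr1 : Set.range (j ≫ p₁).base ⊆ Set.range (ξ ⁻¹ᵁ W).ι.base := by
        rintro _ ⟨a, rfl⟩
        rw [Scheme.Opens.range_ι]
        show ξ.base (p₁.base (j.base a)) ∈ W
        rw [hj]
        exact a.2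
      have hr2 : Set.range (j ≫ p₂).base ⊆ Set.range (ξ ⁻¹ᵁ W).ι.base := by
        rintro _ ⟨a, rfl⟩
        rw [Scheme.Opens.range_ι]
        show ξ.base (p₂.base (j.base a)) ∈ W
        have h5 : ξ.base (p₂.base (j.base a)) = ξ.base (p₁.base (j.base a)) := by
          have := congrArg (fun φ : pullback ξ ξ ⟶ T => φ.base (j.base a)) hcond
          exact this.symm
        rw [h5, hj]
        exact a.2
      let q₁ := IsOpenImmersion.lift (ξ ⁻¹ᵁ W).ι (j ≫ p₁) hr1
      let q₂ := IsOpenImmersion.lift (ξ ⁻¹ᵁ W).ι (j ≫ p₂) hr2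
      have hq₁ : q₁ ≫ (ξ ⁻¹ᵁ W).ι = j ≫ p₁ := IsOpenImmersion.lift_fac _ _ _
      have hq₂ : q₂ ≫ (ξ ⁻¹ᵁ W).ι = j ≫ p₂ := IsOpenImmersion.lift_fac _ _ _
      have hqq : q₁ ≫ (ξ ∣_ W) = q₂ ≫ (ξ ∣_ W) := by
        rw [← cancel_mono W.ι, Category.assoc, Category.assoc, morphismRestrict_ι,
          ← Category.assoc, ← Category.assoc, hq₁, hq₂, Category.assoc, Category.assoc]
        exact congrArg (fun t => j ≫ t) hcond
      have hjf : j ≫ (p₁ ≫ f) = j ≫ (p₂ ≫ f) := by
        rw [← Category.assoc, ← hq₁, Category.assoc, ← hg, ← Category.assoc, hqq,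
          Category.assoc, hg, ← Category.assoc, hq₂, Category.assoc]
      have hjδ : j ≫ δ = (j ≫ p₁ ≫ f) ≫ pullback.diagonal q := by
        apply pullback.hom_ext
        · rw [Category.assoc, hδ1, Category.assoc, pullback.diagonal_fst, Category.comp_id]
        · rw [Category.assoc, hδ2, Category.assoc, pullback.diagonal_snd, Category.comp_id,
            hjf]
      show δ.base z ∈ Set.range (pullback.diagonal q).base
      have hzj : z = j.base ⟨z, hzW⟩ := by rw [hj]; rfl
      refine ⟨(j ≫ p₁ ≫ f).base ⟨z, hzW⟩, ?_⟩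
      have h6 := congrArg (fun φ : ((p₁ ≫ ξ) ⁻¹ᵁ W).toScheme ⟶ pullback q q =>
        φ.base ⟨z, hzW⟩) hjδ
      have h7 : (j ≫ δ).base ⟨z, hzW⟩ = δ.base z := by
        show δ.base (j.base ⟨z, hzW⟩) = δ.base z
        rw [← hzj]
      rw [← h7]
      exact h6.symm
  rw [← isOpen_compl_iff, hEq]
  exact hopen

/-- the locus of points of `T` over which `f` is constant on the fibre of `g` -/
def locus {X Y T : Scheme.{u}} (g : X ⟶ T) (f : X ⟶ Y) : Set T :=
  {s : ↥T | ∃ y : ↥Y, ∀ x : ↥X, g.base x = s → f.base x = y}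

section LocusGen

variable {S T X Y : Scheme.{u}} (g : X ⟶ T) (f : X ⟶ Y)

theorem hlocal_gen (hcl : IsClosedMap g.base)
    (hbij : ∀ W : T.Opens, Function.Bijective (g.app W).hom) : ∀ s ∈ locus g f,
    ∃ W : T.Opens, s ∈ W ∧ ∃ k : W.toScheme ⟶ Y, (g ∣_ W) ≫ k = (g ⁻¹ᵁ W).ι ≫ f := by
  rintro s ⟨y, hy⟩
  exact Groth.Agent.Lib.RigidFactorH4.exists_nhd_factor g hcl hbij f s y hy

theorem isOpen_locus_gen (hcl : IsClosedMap g.base)
    (hbij : ∀ W : T.Opens, Function.Bijective (g.app W).hom) : IsOpen (locus g f) := by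
  rw [isOpen_iff_forall_mem_open]
  intro s hsU
  obtain ⟨W, hsW, k, hk⟩ := hlocal_gen g f hcl hbij s hsU
  refine ⟨W, ?_, W.isOpen, hsW⟩
  intro s' hs'
  exact ⟨k.base ⟨s', hs'⟩, Groth.Agent.Lib.RigidFactorH4.eq_of_factor g f W k hk s' hs'⟩

theorem isClosed_locus_gen (hcl : IsClosedMap g.base)
    (hbij : ∀ W : T.Opens, Function.Bijective (g.app W).hom) [UniversallyOpen g] [Surjective g]
    (p : T ⟶ S) (q : Y ⟶ S) [IsSeparated q] (hf : f ≫ q = g ≫ p) :
    IsClosed (locus g f) :=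
  isClosed_const_locus' g p q f hf (hlocal_gen g f hcl hbij)

theorem mem_locus_of_subsingleton_gen (hsurj : Function.Surjective g.base) (t : T)
    (ht : (f '' (g ⁻¹' {t})).Subsingleton) : t ∈ locus g f := by
  obtain ⟨x₀, hx₀⟩ := hsurj t
  refine ⟨f.base x₀, fun x hx => ?_⟩
  exact ht ⟨x, hx, rfl⟩ ⟨x₀, hx₀, rfl⟩

/-- over an open contained in the locus, `f` factors through `g` -/
theorem exists_factor_of_le_gen (hcl : IsClosedMap g.base)
    (hbij : ∀ W : T.Opens, Function.Bijective (g.app W).hom)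
    (U : T.Opens) (hU : (U : Set T) ⊆ locus g f) :
    ∃ k : (U : Scheme.{u}) ⟶ Y, (g ⁻¹ᵁ U).ι ≫ f = (g ∣_ U) ≫ k := by
  have hinj : ∀ V : T.Opens, Function.Injective (g.app V).hom := fun V => (hbij V).1
  have hs : Function.Surjective g.base :=
    Groth.Agent.Lib.RigidFactorH4.surjective_of_injective_app g hcl hinj
  have hmem : ∀ u : (U : Scheme.{u}), U.ι.base u ∈ locus g f := fun u => hU u.2
  choose W hW k hk using fun u : (U : Scheme.{u}) => hlocal_gen g f hcl hbij (U.ι.base u) (hmem u)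
  obtain ⟨r, hr⟩ := Groth.Agent.Lib.RigidFactorH4.exists_glue g hs hinj f U.ι W hW k hk
  refine ⟨r, ?_⟩
  exact Groth.Agent.Lib.RigidFactorH4.fst_comp_eq g f U.ι (g ⁻¹ᵁ U).ι (g ∣_ U)
    (morphismRestrict_ι g U).symm r W hW k hk hr

/-- if the locus is everything, `f` factors through `g` -/
theorem exists_factor_of_univ_gen (hcl : IsClosedMap g.base)
    (hbij : ∀ W : T.Opens, Function.Bijective (g.app W).hom)
    (h : ∀ t : T, t ∈ locus g f) : ∃ k : T ⟶ Y, f = g ≫ k := by
  have hinj : ∀ V : T.Opens, Function.Injective (g.app V).hom := fun V => (hbij V).1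
  have hs : Function.Surjective g.base :=
    Groth.Agent.Lib.RigidFactorH4.surjective_of_injective_app g hcl hinj
  choose W hW k hk using fun t : T => hlocal_gen g f hcl hbij t (h t)
  have hW' : ∀ t : T, (𝟙 T : T ⟶ T).base t ∈ W t := fun t => hW t
  obtain ⟨r, hr⟩ := Groth.Agent.Lib.RigidFactorH4.exists_glue g hs hinj f (𝟙 T) W hW' k hk
  refine ⟨r, ?_⟩
  have := Groth.Agent.Lib.RigidFactorH4.fst_comp_eq g f (𝟙 T) (𝟙 X) g
    ((Category.id_comp g).trans (Category.comp_id g).symm) r W hW' k hk hr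
  rwa [Category.id_comp] at this

/-- `g` is an epimorphism -/
theorem epi_gen (hcl : IsClosedMap g.base)
    (hbij : ∀ W : T.Opens, Function.Bijective (g.app W).hom) : Epi g := by
  have hinj : ∀ V : T.Opens, Function.Injective (g.app V).hom := fun V => (hbij V).1
  exact Groth.Agent.Lib.RigidFactorH4.epi_of_surjective_of_injective g
    (Groth.Agent.Lib.RigidFactorH4.surjective_of_injective_app g hcl hinj) hinj

end LocusGen

section Locus

variable {S T X Y : Scheme.{u}} (g : X ⟶ T) [IsProper g] [Flat g] [LocallyOfFinitePresentation g]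
  [GeometricallyConnected g] [GeometricallyReduced g] (f : X ⟶ Y)

theorem hlocal : ∀ s ∈ locus g f,
    ∃ W : T.Opens, s ∈ W ∧ ∃ k : W.toScheme ⟶ Y, (g ∣_ W) ≫ k = (g ⁻¹ᵁ W).ι ≫ f :=
  hlocal_gen g f g.isClosedMap (app_bijective g)

theorem isOpen_locus : IsOpen (locus g f) :=
  isOpen_locus_gen g f g.isClosedMap (app_bijective g)

theorem isClosed_locus (p : T ⟶ S) (q : Y ⟶ S) [IsSeparated q] (hf : f ≫ q = g ≫ p) :
    IsClosed (locus g f) :=
  isClosed_locus_gen g f g.isClosedMap (app_bijective g) p q hf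

theorem mem_locus_of_subsingleton (t : T) (ht : (f '' (g ⁻¹' {t})).Subsingleton) :
    t ∈ locus g f :=
  mem_locus_of_subsingleton_gen g f g.surjective t ht

/-- over an open contained in the locus, `f` factors through `g` -/
theorem exists_factor_of_le (U : T.Opens) (hU : (U : Set T) ⊆ locus g f) :
    ∃ k : (U : Scheme.{u}) ⟶ Y, (g ⁻¹ᵁ U).ι ≫ f = (g ∣_ U) ≫ k :=
  exists_factor_of_le_gen g f g.isClosedMap (app_bijective g) U hU

/-- if the locus is everything, `f` factors through `g` -/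
theorem exists_factor_of_univ (h : ∀ t : T, t ∈ locus g f) : ∃ k : T ⟶ Y, f = g ≫ k :=
  exists_factor_of_univ_gen g f g.isClosedMap (app_bijective g) h

/-- `g` is an epimorphism -/
theorem epi_of_fibres : Epi g :=
  epi_gen g g.isClosedMap (app_bijective g)

end Locus

/-- **Rigidity lemma** (S7783). -/
theorem rigidity {S T X Y : Scheme.{u}} (p : T ⟶ S) (q : Y ⟶ S) [IsSeparated q]
    (g : X ⟶ T) [IsProper g] [Flat g] [LocallyOfFinitePresentation g]
    [GeometricallyConnected g] [GeometricallyReduced g]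
    (f : X ⟶ Y) (hf : f ≫ q = g ≫ p) (t : T) (ht : (f '' (g ⁻¹' {t})).Subsingleton) :
    ∃ W : T.Opens, IsClosed (W : Set T) ∧ t ∈ W ∧
      ∃ k : (W : Scheme.{u}) ⟶ Y, (g ⁻¹ᵁ W).ι ≫ f = (g ∣_ W) ≫ k := by
  obtain ⟨U, hU⟩ : ∃ U : T.Opens, (U : Set T) = locus g f := ⟨⟨_, isOpen_locus g f⟩, rfl⟩
  refine ⟨U, by rw [hU]; exact isClosed_locus g f p q hf, ?_, ?_⟩
  · show t ∈ (U : Set T)
    rw [hU]
    exact mem_locus_of_subsingleton g f t ht
  · exact exists_factor_of_le g f U hU.le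

end Groth.Agent.Lib.RigidGenH4
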