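import Mathlib
import Groth.Prelude
import Groth.Agent.Lib.RigidGen_helper4

/-!
# Consequences of the rigidity lemma for abelian schemes (helper4)

`X : Over S` is an "abelian scheme" when `X.hom` is proper, flat, locally of finite presentation
with geometrically reduced and geometrically connected fibres (and `X` is a group object).

* `eq_univ_of_isClopen_of_section`: a clopen subset of `X` containing a section is everything.
* `eq_toUnit_of_unit_left_right` (Lemma B): a morphism `h : X ⊗ X ⟶ Y` to a separated `S`-scheme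
  which is constant `= eY` on `e × X` and on `X × e` is constant.
* `restrict_eq_of_locus` (Lemma A): for `h : X ⟶ Y`, over the clopen locus `U ⊆ S` where `h` is
  constant on the fibres, `h = e ≫ h` after composing with the structure map.
* `isMonHom_of_one_comp` (**S7784**), `isCommMonObj` (**S7785**), `grpObj_ext` (**S7786**),
  `isogeny_cancel` (**S7793**), `exists_clopen_agree` (**S7794**).
APPEND-ONLY once landed.
-/

set_option autoImplicit false
set_option linter.unusedVariables false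
set_option linter.unusedSectionVars false
set_option linter.style.haveILetI false
set_option maxHeartbeats 1600000

universe u

open CategoryTheory CategoryTheory.Limits MonoidalCategory CartesianMonoidalCategory MonObj GrpObj
  AlgebraicGeometry TopologicalSpace

namespace Groth.Agent.Lib.AbSchRigidH4

open Groth.Agent.Lib.RigidGenH4

/-- a preconnected subset of a discrete set has at most one element -/
theorem subsingleton_of_isPreconnected_of_isDiscrete {α : Type*} [TopologicalSpace α]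
    {A D : Set α} (hA : IsPreconnected A) (hD : IsDiscrete D) (hAD : A ⊆ D) :
    A.Subsingleton := by
  haveI : DiscreteTopology D := isDiscrete_iff_discreteTopology.mp hD
  have h1 : IsPreconnected ((↑) ⁻¹' A : Set D) := by
    rw [← Topology.IsInducing.subtypeVal.isPreconnected_image, Subtype.image_preimage_coe,
      Set.inter_eq_right.mpr hAD]
    exact hA
  have h2 := h1.subsingleton
  intro a ha b hb
  have h3 := @h2 ⟨a, hAD ha⟩ ha ⟨b, hAD hb⟩ hb
  exact congrArg Subtype.val h3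

section Clopen

variable {S : Scheme.{u}} (X : Over S) [GeometricallyConnected X.hom]

/-- a clopen subset of `X` containing a section is everything -/
theorem eq_univ_of_isClopen_of_section (e : 𝟙_ (Over S) ⟶ X)
    (U : Set X.left) (hU : IsClopen U) (hUe : ∀ s : S, e.left.base s ∈ U) (x : X.left) :
    x ∈ U := by
  have hex : X.hom.base (e.left.base (X.hom.base x)) = X.hom.base x := by
    have h1 : e.left ≫ X.hom = 𝟙 S := Over.w e
    have := congrArg (fun φ : S ⟶ S => φ.base (X.hom.base x)) h1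
    exact this
  have h1 := (X.hom.isConnected_preimage_singleton (X.hom.base x)).isPreconnected.subset_isClopen
    hU ⟨e.left.base (X.hom.base x), hex, hUe _⟩
  exact h1 rfl

end Clopen

section LemmaB

variable {S : Scheme.{u}} (X : Over S) [IsProper X.hom] [Flat X.hom]
  [LocallyOfFinitePresentation X.hom] [GeometricallyReduced X.hom] [GeometricallyConnected X.hom]
  (Y : Over S) [IsSeparated Y.hom]

/-- **Lemma B**: a morphism `X ×_S X ⟶ Y` which is constant on `e × X` and `X × e` is constant. -/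
theorem eq_toUnit_of_unit_left_right (e : 𝟙_ (Over S) ⟶ X) (eY : 𝟙_ (Over S) ⟶ Y)
    (h : X ⊗ X ⟶ Y)
    (h1 : lift (toUnit X ≫ e) (𝟙 X) ≫ h = toUnit X ≫ eY)
    (h2 : lift (𝟙 X) (toUnit X ≫ e) ≫ h = toUnit X ≫ eY) :
    h = toUnit (X ⊗ X) ≫ eY := by
  obtain ⟨g, hg⟩ : ∃ g : pullback X.hom X.hom ⟶ X.left, g = pullback.fst X.hom X.hom := ⟨_, rfl⟩
  obtain ⟨hl, hhl⟩ : ∃ hl : pullback X.hom X.hom ⟶ Y.left, hl = h.left := ⟨_, rfl⟩
  haveI : IsProper g := by rw [hg]; infer_instance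
  haveI : Flat g := by rw [hg]; infer_instance
  haveI : LocallyOfFinitePresentation g := by rw [hg]; infer_instance
  haveI : GeometricallyReduced g := by rw [hg]; infer_instance
  haveI : GeometricallyConnected g := by rw [hg]; infer_instance
  have hf : hl ≫ Y.hom = g ≫ X.hom := by
    rw [hhl, hg]
    exact Over.w h
  -- the section `σ = (e, id)`
  obtain ⟨σ, hσ⟩ : ∃ σ : X.left ⟶ pullback X.hom X.hom,
    σ = (lift (toUnit X ≫ e) (𝟙 X)).left := ⟨_, rfl⟩
  obtain ⟨τ, hτ⟩ : ∃ τ : X.left ⟶ pullback X.hom X.hom,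
    τ = (lift (𝟙 X) (toUnit X ≫ e)).left := ⟨_, rfl⟩
  have hσ1 : σ ≫ g = X.hom ≫ e.left := by
    rw [hσ, hg]
    have := congrArg (fun φ : X ⟶ X => φ.left) (lift_fst (toUnit X ≫ e) (𝟙 X))
    exact this
  have hσ2 : σ ≫ pullback.snd X.hom X.hom = 𝟙 X.left := by
    rw [hσ]
    have := congrArg (fun φ : X ⟶ X => φ.left) (lift_snd (toUnit X ≫ e) (𝟙 X))
    exact this
  have hτ1 : τ ≫ g = 𝟙 X.left := by
    rw [hτ, hg]
    have := congrArg (fun φ : X ⟶ X => φ.left) (lift_fst (𝟙 X) (toUnit X ≫ e))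
    exact this
  have hσh : σ ≫ hl = X.hom ≫ eY.left := by
    rw [hσ, hhl]
    have := congrArg (fun φ : X ⟶ Y => φ.left) h1
    exact this
  have hτh : τ ≫ hl = X.hom ≫ eY.left := by
    rw [hτ, hhl]
    have := congrArg (fun φ : X ⟶ Y => φ.left) h2
    exact this
  have he1 : e.left ≫ X.hom = 𝟙 S := Over.w e
  -- the cartesian square
  have hpb : IsPullback σ X.hom g e.left := by
    have hr : IsPullback (pullback.snd X.hom X.hom) g X.hom X.hom := by
      rw [hg]
      exact (IsPullback.of_hasPullback X.hom X.hom).flip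
    have ho : IsPullback (σ ≫ pullback.snd X.hom X.hom) X.hom X.hom (e.left ≫ X.hom) := by
      rw [hσ2, he1]
      exact IsPullback.id_horiz X.hom
    exact IsPullback.of_right ho hσ1 hr
  -- every point of the section lies in the locus
  have hmem : ∀ s : S, e.left.base s ∈ locus g hl := by
    intro s
    refine ⟨eY.left.base s, fun z hz => ?_⟩
    obtain ⟨x, hx1, hx2⟩ := Scheme.exists_preimage_of_isPullback hpb z s hz
    rw [← hx1, ← hx2]
    have := congrArg (fun φ : X.left ⟶ Y.left => φ.base x) hσh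
    exact this
  have hclopen : IsClopen (locus g hl) :=
    ⟨isClosed_locus g hl X.hom Y.hom hf, isOpen_locus g hl⟩
  have huniv : ∀ x : X.left, x ∈ locus g hl :=
    eq_univ_of_isClopen_of_section X e (locus g hl) hclopen hmem
  obtain ⟨k, hk⟩ := exists_factor_of_univ g hl huniv
  have hk2 : k = X.hom ≫ eY.left := by
    rw [← hτh, hk, ← Category.assoc, hτ1, Category.id_comp]
  apply Over.OverMorphism.ext
  show h.left = (toUnit (X ⊗ X) ≫ eY).left
  rw [← hhl, hk, hk2, hg]
  rfl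

end LemmaB

section LemmaA

variable {S : Scheme.{u}} (X : Over S) [IsProper X.hom] [Flat X.hom]
  [LocallyOfFinitePresentation X.hom] [GeometricallyReduced X.hom] [GeometricallyConnected X.hom]
  (Y : Over S) [IsSeparated Y.hom]

/-- **Lemma A**: over an open `U ⊆ S` contained in the locus where `h` is constant on the fibres
of `X → S`, `h` factors through the section `e`. -/
theorem restrict_eq_of_le_locus (e : 𝟙_ (Over S) ⟶ X) (h : X ⟶ Y) (U : S.Opens)
    (hU : (U : Set S) ⊆ locus X.hom h.left) :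
    (X.hom ⁻¹ᵁ U).ι ≫ h.left = (X.hom ⁻¹ᵁ U).ι ≫ X.hom ≫ e.left ≫ h.left := by
  obtain ⟨k, hk⟩ := exists_factor_of_le X.hom h.left U hU
  have he1 : e.left ≫ X.hom = 𝟙 S := Over.w e
  -- the restricted section
  have hr : Set.range (U.ι ≫ e.left).base ⊆ Set.range (X.hom ⁻¹ᵁ U).ι.base := by
    rintro _ ⟨a, rfl⟩
    rw [Scheme.Opens.range_ι]
    show X.hom.base (e.left.base (U.ι.base a)) ∈ U
    have := congrArg (fun φ : S ⟶ S => φ.base (U.ι.base a)) he1
    have h3 : X.hom.base (e.left.base (U.ι.base a)) = U.ι.base a := this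
    rw [h3]
    exact a.2
  let eU := IsOpenImmersion.lift (X.hom ⁻¹ᵁ U).ι (U.ι ≫ e.left) hr
  have heU : eU ≫ (X.hom ⁻¹ᵁ U).ι = U.ι ≫ e.left := IsOpenImmersion.lift_fac _ _ _
  have heU2 : eU ≫ (X.hom ∣_ U) = 𝟙 _ := by
    rw [← cancel_mono U.ι, Category.assoc, morphismRestrict_ι, ← Category.assoc, heU,
      Category.assoc, he1, Category.comp_id, Category.id_comp]
  have hk2 : k = U.ι ≫ e.left ≫ h.left := by
    rw [← Category.id_comp k, ← heU2, Category.assoc, ← hk, ← Category.assoc, heU,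
      Category.assoc]
  rw [hk, hk2, ← Category.assoc, morphismRestrict_ι, Category.assoc]

/-- the locus as an open subset -/
theorem exists_clopen_of_mem_locus (e : 𝟙_ (Over S) ⟶ X) (h : X ⟶ Y) (s : S)
    (hs : s ∈ locus X.hom h.left) :
    ∃ W : S.Opens, IsClosed (W : Set S) ∧ s ∈ W ∧
      (X.hom ⁻¹ᵁ W).ι ≫ h.left = (X.hom ⁻¹ᵁ W).ι ≫ X.hom ≫ e.left ≫ h.left := by
  have hf : h.left ≫ Y.hom = X.hom ≫ 𝟙 S := by rw [Category.comp_id]; exact Over.w h
  obtain ⟨U, hU⟩ : ∃ U : S.Opens, (U : Set S) = locus X.hom h.left :=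
    ⟨⟨_, isOpen_locus X.hom h.left⟩, rfl⟩
  refine ⟨U, by rw [hU]; exact isClosed_locus X.hom h.left (𝟙 S) Y.hom hf, ?_, ?_⟩
  · show s ∈ (U : Set S)
    rw [hU]
    exact hs
  · exact restrict_eq_of_le_locus X Y e h U hU.le

/-- if `h` is constant on all the fibres then `h` factors through `e` -/
theorem eq_of_locus_univ (e : 𝟙_ (Over S) ⟶ X) (h : X ⟶ Y)
    (hs : ∀ s : S, s ∈ locus X.hom h.left) : h = toUnit X ≫ e ≫ h := by
  obtain ⟨k, hk⟩ := exists_factor_of_univ X.hom h.left hs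
  have he1 : e.left ≫ X.hom = 𝟙 S := Over.w e
  have hk2 : k = e.left ≫ h.left := by
    have h3 : e.left ≫ h.left = (e.left ≫ X.hom) ≫ k := by rw [hk, Category.assoc]
    rw [h3, he1]
    exact (Category.id_comp k).symm
  apply Over.OverMorphism.ext
  show h.left = X.hom ≫ e.left ≫ h.left
  rw [← hk2]
  exact hk

end LemmaA

section Group

variable {S : Scheme.{u}}

/-- **S7784**: a morphism of abelian schemes preserving the unit section is a homomorphism. -/
theorem isMonHom_of_one_comp (X Y : Over S) [GrpObj X] [IsProper X.hom] [Flat X.hom]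
    [LocallyOfFinitePresentation X.hom] [GeometricallyReduced X.hom]
    [GeometricallyConnected X.hom] [GrpObj Y] [IsSeparated Y.hom]
    (f : X ⟶ Y) (hf : η[X] ≫ f = η[Y]) : IsMonHom f := by
  obtain ⟨h, hh⟩ : ∃ h : X ⊗ X ⟶ Y,
    h = (μ[X] ≫ f) * (snd X X ≫ f)⁻¹ * (fst X X ≫ f)⁻¹ := ⟨_, rfl⟩
  have a1 : lift (toUnit X ≫ η[X]) (𝟙 X) ≫ μ[X] ≫ f = f := by
    rw [← Category.assoc, lift_comp_one_left, Category.id_comp]
  have a2 : lift (toUnit X ≫ η[X]) (𝟙 X) ≫ snd X X ≫ f = f := by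
    rw [← Category.assoc, lift_snd, Category.id_comp]
  have a3 : lift (toUnit X ≫ η[X]) (𝟙 X) ≫ fst X X ≫ f = 1 := by
    rw [← Category.assoc, lift_fst, Category.assoc, hf]
    rfl
  have b1 : lift (𝟙 X) (toUnit X ≫ η[X]) ≫ μ[X] ≫ f = f := by
    rw [← Category.assoc, lift_comp_one_right, Category.id_comp]
  have b2 : lift (𝟙 X) (toUnit X ≫ η[X]) ≫ snd X X ≫ f = 1 := by
    rw [← Category.assoc, lift_snd, Category.assoc, hf]
    rfl
  have b3 : lift (𝟙 X) (toUnit X ≫ η[X]) ≫ fst X X ≫ f = f := by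
    rw [← Category.assoc, lift_fst, Category.id_comp]
  have h1 : lift (toUnit X ≫ η[X]) (𝟙 X) ≫ h = toUnit X ≫ η[Y] := by
    rw [hh, MonObj.comp_mul, MonObj.comp_mul, GrpObj.comp_inv, GrpObj.comp_inv, a1, a2, a3,
      inv_one, _root_.mul_one, mul_inv_cancel]
    rfl
  have h2 : lift (𝟙 X) (toUnit X ≫ η[X]) ≫ h = toUnit X ≫ η[Y] := by
    rw [hh, MonObj.comp_mul, MonObj.comp_mul, GrpObj.comp_inv, GrpObj.comp_inv, b1, b2, b3,
      inv_one, _root_.mul_one, mul_inv_cancel]
    rfl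
  have h3 := eq_toUnit_of_unit_left_right X Y η[X] η[Y] h h1 h2
  have h4 : (μ[X] ≫ f) * (snd X X ≫ f)⁻¹ * (fst X X ≫ f)⁻¹ = 1 := by
    rw [← hh, h3]
    rfl
  have h5 : μ[X] ≫ f = (fst X X ≫ f) * (snd X X ≫ f) := by
    rw [mul_inv_eq_one, mul_inv_eq_iff_eq_mul] at h4
    exact h4
  refine { one_hom := hf, mul_hom := ?_ }
  rw [h5, Hom.mul_def, lift_fst_comp_snd_comp]

/-- **S7785**: an abelian scheme is commutative. -/
theorem isCommMonObj (X : Over S) [GrpObj X] [IsProper X.hom] [Flat X.hom]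
    [LocallyOfFinitePresentation X.hom] [GeometricallyReduced X.hom]
    [GeometricallyConnected X.hom] : IsCommMonObj X := by
  rw [isCommMonObj_iff_commutator_eq_toUnit_η]
  apply eq_toUnit_of_unit_left_right X X η[X] η[X]
  · rw [GrpObj.lift_commutator_eq_mul_mul_inv_inv, ← Hom.one_def, _root_.one_mul, inv_one, _root_.mul_one,
      mul_inv_cancel]
  · rw [GrpObj.lift_commutator_eq_mul_mul_inv_inv, ← Hom.one_def, _root_.mul_one, inv_one, _root_.mul_one,
      mul_inv_cancel]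

/-- **S7786**: two group structures on an abelian scheme with the same unit coincide. -/
theorem grpObj_ext (X : Over S) [IsProper X.hom] [Flat X.hom]
    [LocallyOfFinitePresentation X.hom] [GeometricallyReduced X.hom]
    [GeometricallyConnected X.hom] (h₁ h₂ : GrpObj X) (he : h₁.one = h₂.one) : h₁ = h₂ := by
  have h3 : @IsMonHom _ _ _ X X h₁.toMonObj h₂.toMonObj (𝟙 X) :=
    @isMonHom_of_one_comp S X X h₁ _ _ _ _ _ h₂ _ (𝟙 X) (by rw [Category.comp_id]; exact he)
  apply GrpObj.ext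
  apply MonObj.ext
  have h4 := @IsMonHom.mul_hom _ _ _ X X h₁.toMonObj h₂.toMonObj (𝟙 X) h3
  simpa using h4

/-- **S7794** -/
theorem exists_clopen_agree (X : Over S) [GrpObj X] [IsProper X.hom] [Flat X.hom]
    [LocallyOfFinitePresentation X.hom] [GeometricallyReduced X.hom]
    [GeometricallyConnected X.hom] (Y : Over S) [GrpObj Y] [IsSeparated Y.hom]
    (f g : X ⟶ Y) (hf : η[X] ≫ f = η[Y]) (hg : η[X] ≫ g = η[Y]) (s : S)
    (hs : X.hom.fiberι s ≫ f.left = X.hom.fiberι s ≫ g.left) :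
    ∃ W : S.Opens, IsClosed (W : Set S) ∧ s ∈ W ∧
      (X.hom ⁻¹ᵁ W).ι ≫ f.left = (X.hom ⁻¹ᵁ W).ι ≫ g.left := by
  obtain ⟨h, hh⟩ : ∃ h : X ⟶ Y, h = f * g⁻¹ := ⟨_, rfl⟩
  have key : ∀ (Z : Over S) (j : Z ⟶ X), j ≫ f = j ≫ g → j ≫ h = toUnit Z ≫ η[Y] := by
    intro Z j hj
    rw [hh, MonObj.comp_mul, GrpObj.comp_inv, hj, mul_inv_cancel]
    rfl
  have key' : ∀ (Z : Over S) (j : Z ⟶ X), j ≫ h = toUnit Z ≫ η[Y] → j ≫ f = j ≫ g := by
    intro Z j hj
    rw [hh, MonObj.comp_mul, GrpObj.comp_inv] at hj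
    have h6 : j ≫ f * (j ≫ g)⁻¹ = 1 := hj
    exact mul_inv_eq_one.mp h6
  have hsl : s ∈ locus X.hom h.left := by
    refine ⟨η[Y].left.base s, fun x hx => ?_⟩
    have hx' : x ∈ Set.range (X.hom.fiberι s) := by
      rw [Scheme.Hom.range_fiberι]
      exact hx
    obtain ⟨z, rfl⟩ := hx'
    let F : Over S := Over.mk (X.hom.fiberι s ≫ X.hom)
    let j : F ⟶ X := Over.homMk (X.hom.fiberι s) rfl
    have hj : j ≫ f = j ≫ g := by
      apply Over.OverMorphism.ext
      exact hs
    have h5 := congrArg (fun φ : F ⟶ Y => φ.left.base z) (key F j hj)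
    refine h5.trans ?_
    show η[Y].left.base (X.hom.base ((X.hom.fiberι s).base z)) = η[Y].left.base s
    rw [hx]
  obtain ⟨W, hWc, hsW, hW⟩ := exists_clopen_of_mem_locus X Y η[X] h s hsl
  refine ⟨W, hWc, hsW, ?_⟩
  have h7 : η[X] ≫ h = toUnit _ ≫ η[Y] := key _ η[X] (hf.trans hg.symm)
  have h8 : η[X].left ≫ h.left = 𝟙 S ≫ η[Y].left :=
    congrArg (fun φ : 𝟙_ (Over S) ⟶ Y => φ.left) h7
  let XW : Over S := Over.mk ((X.hom ⁻¹ᵁ W).ι ≫ X.hom)
  let jW : XW ⟶ X := Over.homMk (X.hom ⁻¹ᵁ W).ι rfl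
  have h9 : jW ≫ h = toUnit XW ≫ η[Y] := by
    apply Over.OverMorphism.ext
    show (X.hom ⁻¹ᵁ W).ι ≫ h.left = ((X.hom ⁻¹ᵁ W).ι ≫ X.hom) ≫ η[Y].left
    rw [hW, h8, Category.id_comp, Category.assoc]
  exact congrArg (fun φ : XW ⟶ Y => φ.left) (key' XW jW h9)

/-- **S7793** (1) -/
theorem isogeny_cancel_left (X Y Z : Over S) (f : X ⟶ Y) [Flat f.left] [Surjective f.left]
    (g₁ g₂ : Y ⟶ Z) (h : f ≫ g₁ = f ≫ g₂) : g₁ = g₂ := by
  haveI : Epi f.left := Flat.epi_of_flat_of_surjective f.left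
  apply Over.OverMorphism.ext
  rw [← cancel_epi f.left]
  exact congrArg (fun φ : X ⟶ Z => φ.left) h

/-- **S7793** (2) -/
theorem isogeny_cancel_right (X Y Z : Over S) [GrpObj X] [IsSeparated X.hom] [GrpObj Y]
    [GrpObj Z] [IsProper Z.hom] [Flat Z.hom] [LocallyOfFinitePresentation Z.hom]
    [GeometricallyReduced Z.hom] [GeometricallyConnected Z.hom]
    (f : X ⟶ Y) [IsMonHom f] [LocallyQuasiFinite f.left]
    (h₁ h₂ : Z ⟶ X) (hh₁ : η[Z] ≫ h₁ = η[X]) (hh₂ : η[Z] ≫ h₂ = η[X])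
    (h : h₁ ≫ f = h₂ ≫ f) : h₁ = h₂ := by
  obtain ⟨d, hd⟩ : ∃ d : Z ⟶ X, d = h₁ * h₂⁻¹ := ⟨_, rfl⟩
  have hdf : d ≫ f = toUnit Z ≫ η[Y] := by
    rw [hd, MonObj.mul_comp, GrpObj.inv_comp, h, mul_inv_cancel]
    rfl
  have hloc : ∀ s : S, s ∈ locus Z.hom d.left := by
    intro s
    apply mem_locus_of_subsingleton
    apply subsingleton_of_isPreconnected_of_isDiscrete (D := f.left ⁻¹' {η[Y].left.base s})
    · exact ((Z.hom.isConnected_preimage_singleton s).isPreconnected).image _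
        d.left.continuous.continuousOn
    · exact f.left.isDiscrete_preimage_singleton _
    · rintro _ ⟨z, hz, rfl⟩
      show f.left.base (d.left.base z) = η[Y].left.base s
      have h6 := congrArg (fun φ : Z ⟶ Y => φ.left.base z) hdf
      have hz' : Z.hom.base z = s := hz
      rw [← hz']
      exact h6
  have h3 := eq_of_locus_univ Z X η[Z] d hloc
  have h4 : η[Z] ≫ d = toUnit _ ≫ η[X] := by
    rw [hd, MonObj.comp_mul, GrpObj.comp_inv, hh₁, hh₂, mul_inv_cancel]
    rfl
  have h5 : d = 1 := by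
    calc d = toUnit Z ≫ η[Z] ≫ d := h3
      _ = toUnit Z ≫ toUnit _ ≫ η[X] := by rw [h4]
      _ = 1 := by
        rw [← Category.assoc, toUnit_unique (toUnit Z ≫ toUnit _) (toUnit Z)]
        rfl
  rw [hd] at h5
  exact mul_inv_eq_one.mp h5

end Group

end Groth.Agent.Lib.AbSchRigidH4
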