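import Mathlib
import Groth.Prelude
import Groth.Agent.Lib.AbSchRigid1_helper4
import Groth.Agent.Lib.EtaleReduced_helper7

/-!
# More consequences of rigidity (helper4)

* `geometricallyReduced_of_smooth`: smooth morphisms are geometrically reduced.
* `main15364`: for an abelian scheme `A` over `T` and `H` finite over `T`, every `T`-morphism
  `A ⟶ H` is constant (factors through a section of `H`).
APPEND-ONLY once landed.
-/

set_option autoImplicit false
set_option linter.unusedVariables false
set_option linter.unusedSectionVars false
set_option linter.style.haveILetI false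
set_option maxHeartbeats 1600000

universe u

open CategoryTheory CategoryTheory.Limits MonoidalCategory CartesianMonoidalCategory MonObj GrpObj
  AlgebraicGeometry TopologicalSpace

namespace Groth.Agent.Lib.AbSchRigidH4

open Groth.Agent.Lib.RigidGenH4

/-- Smooth morphisms are geometrically reduced. -/
theorem geometricallyReduced_of_smooth {X Y : Scheme.{u}} (f : X ⟶ Y) [Smooth f] :
    GeometricallyReduced f := by
  refine ⟨fun K _ y Z fst snd hsq => ?_⟩
  haveI : Smooth snd := MorphismProperty.of_isPullback (P := @Smooth) hsq inferInstance
  exact Groth.Agent.Lib.EtaleReduced_helper7.isReduced_of_smooth_scheme snd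

/-- A morphism from an "abelian scheme" (only a section is needed) to a separated scheme with
discrete fibres over the base is constant. -/
theorem eq_of_discrete_fibres {T : Scheme.{u}} (A : Over T) [IsProper A.hom] [Flat A.hom]
    [LocallyOfFinitePresentation A.hom] [GeometricallyReduced A.hom]
    [GeometricallyConnected A.hom] (e : 𝟙_ (Over T) ⟶ A)
    (H : Over T) [IsSeparated H.hom] [LocallyQuasiFinite H.hom] (φ : A ⟶ H) :
    φ = toUnit A ≫ e ≫ φ := by
  apply eq_of_locus_univ A H e φ
  intro t
  apply mem_locus_of_subsingleton
  apply subsingleton_of_isPreconnected_of_isDiscrete (D := H.hom ⁻¹' {t})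
  · exact ((A.hom.isConnected_preimage_singleton t).isPreconnected).image _
      φ.left.continuous.continuousOn
  · exact H.hom.isDiscrete_preimage_singleton _
  · rintro _ ⟨z, hz, rfl⟩
    show H.hom.base (φ.left.base z) = t
    have h6 := congrArg (fun ψ : A.left ⟶ T => ψ.base z) (Over.w φ)
    have hz' : A.hom.base z = t := hz
    rw [← hz']
    exact h6

/-- **S15364** -/
theorem main15364 {T : Scheme.{u}} (A : Over T) [GrpObj A] [IsProper A.hom] [Smooth A.hom]
    [GeometricallyConnected A.hom] (H : Over T) [IsFinite H.hom] :
    Function.Bijective fun s : (𝟙_ (Over T) ⟶ H) => toUnit A ≫ s := by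
  haveI := geometricallyReduced_of_smooth A.hom
  constructor
  · intro s s' h
    have h1 : η[A] ≫ toUnit A ≫ s = η[A] ≫ toUnit A ≫ s' := congrArg (fun ψ => η[A] ≫ ψ) h
    rw [← Category.assoc, ← Category.assoc, toUnit_unique (η[A] ≫ toUnit A) (𝟙 _),
      Category.id_comp, Category.id_comp] at h1
    exact h1
  · intro φ
    exact ⟨η[A] ≫ φ, (eq_of_discrete_fibres A η[A] H φ).symm⟩

end Groth.Agent.Lib.AbSchRigidH4
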