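import Mathlib

/-!
# Cartier's theorem, ring-theoretic core (helper6)

A Noetherian local `k`-algebra `A` (char `k` = 0) with residue field `k`, having "enough"
derivations into its truncations `A ⧸ 𝔪^a`, is reduced.
-/

set_option autoImplicit false
universe u
open MvPolynomial IsLocalRing

namespace Groth.Agent.Lib.CartierRingH6

variable {k A : Type u} [Field k] [CommRing A] [Algebra k A] {ι : Type} [Fintype ι]

theorem mul_mem_pow (I : Ideal A) {p q n : ℕ} {u v : A} (hu : u ∈ I ^ p) (hv : v ∈ I ^ q)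
    (h : p + q = n) : u * v ∈ I ^ n := by
  subst h
  rw [pow_add]
  exact Ideal.mul_mem_mul hu hv

/-- homogeneous polynomials of degree `d` evaluated at elements of an ideal lie in its `d`-th
power -/
theorem aeval_mem_pow (I : Ideal A) (x : ι → A) (hx : ∀ j, x j ∈ I) {F : MvPolynomial ι k} {d : ℕ}
    (hF : F.IsHomogeneous d) : aeval x F ∈ I ^ d := by
  have h1 : F ∈ idealOfVars ι k ^ d := by
    rw [mem_pow_idealOfVars_iff]
    intro s hs
    rw [Finsupp.degree_apply]
    exact (hF.degree_eq_sum_deg_support hs).le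
  have h2 : Ideal.map (aeval x : MvPolynomial ι k →ₐ[k] A) (idealOfVars ι k) ≤ I := by
    rw [idealOfVars, Ideal.map_span, Ideal.span_le]
    rintro _ ⟨_, ⟨j, rfl⟩, rfl⟩
    simpa using hx j
  have h3 := Ideal.mem_map_of_mem (aeval x : MvPolynomial ι k →ₐ[k] A) h1
  rw [Ideal.map_pow] at h3
  exact Ideal.pow_right_mono h2 d h3

/-- a derivation into `A ⧸ I^a` maps `I^(s+1)` into the image of `I^s` -/
theorem derivation_mem (I : Ideal A) (a : ℕ) (D : Derivation k A (A ⧸ I ^ a)) (s : ℕ) {y : A}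
    (hy : y ∈ I ^ (s + 1)) : D y ∈ (I ^ s).map (Ideal.Quotient.mk (I ^ a)) := by
  induction s generalizing y with
  | zero =>
    rw [pow_zero, Ideal.one_eq_top, Ideal.map_top]
    trivial
  | succ s ih =>
    rw [pow_succ] at hy
    refine Submodule.mul_induction_on hy ?_ ?_
    · intro u hu v hv
      rw [Derivation.leibniz]
      refine Ideal.add_mem _ ?_ ?_
      · have h1 : u • D v = Ideal.Quotient.mk (I ^ a) u * D v := by
          rw [Algebra.smul_def]; rfl
        rw [h1]
        exact Ideal.mul_mem_right _ _ (Ideal.mem_map_of_mem _ hu)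
      · have h1 : v • D u = D u * Ideal.Quotient.mk (I ^ a) v := by
          rw [Algebra.smul_def, mul_comm]; rfl
        rw [h1, pow_succ, Ideal.map_mul]
        exact Ideal.mul_mem_mul (ih hu) (Ideal.mem_map_of_mem _ hv)
    · intro p q hp hq
      rw [map_add]
      exact Ideal.add_mem _ hp hq

/-- the chain rule for a derivation applied to a polynomial expression with constant
coefficients -/
theorem derivation_aeval {M : Type u} [AddCommGroup M] [Module A M] [Module k M]
    [IsScalarTower k A M]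
    (D : Derivation k A M) (x : ι → A) (F : MvPolynomial ι k) :
    D (aeval x F) = ∑ j, aeval x (pderiv j F) • D (x j) := by
  classical
  induction F using MvPolynomial.induction_on with
  | C c => simp
  | add p q hp hq =>
    simp only [map_add, hp, hq, add_smul, Finset.sum_add_distrib]
  | mul_X p i hp =>
    have h1 : ∀ j, pderiv j (p * X i) = pderiv j p * X i + p * (if i = j then 1 else 0) := by
      intro j
      rw [(pderiv j).leibniz, pderiv_X, smul_eq_mul, smul_eq_mul, Pi.single_apply]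
      split_ifs <;> ring
    rw [map_mul, aeval_X, Derivation.leibniz, hp]
    simp only [h1, map_add, map_mul, aeval_X, add_smul, Finset.sum_add_distrib]
    rw [Finset.smul_sum, add_comm]
    congr 1
    · refine Finset.sum_congr rfl fun j _ => ?_
      rw [smul_smul, mul_comm]
    · rw [Finset.sum_eq_single i]
      · simp
      · intro j _ hj
        simp [Ne.symm hj]
      · intro h; exact absurd (Finset.mem_univ i) h

variable [CharZero k] [IsLocalRing A]

theorem ker_eq_maximalIdeal (ε : A →ₐ[k] k) : RingHom.ker (ε : A →+* k) = maximalIdeal A := by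
  have hsurj : Function.Surjective (ε : A →+* k) := fun c =>
    ⟨algebraMap k A c, by simp⟩
  haveI := RingHom.ker_isMaximal_of_surjective (ε : A →+* k) hsurj
  exact IsLocalRing.eq_maximalIdeal this

theorem eps_eq_zero (ε : A →ₐ[k] k) {y : A} (hy : y ∈ maximalIdeal A) : ε y = 0 := by
  rw [← ker_eq_maximalIdeal ε] at hy
  exact hy

theorem sub_eps_mem (ε : A →ₐ[k] k) (y : A) : y - algebraMap k A (ε y) ∈ maximalIdeal A := by
  rw [← ker_eq_maximalIdeal ε, RingHom.mem_ker]
  simp

/-- quasi-regularity from derivations in characteristic zero -/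
theorem quasiRegular [DecidableEq ι] (ε : A →ₐ[k] k) (x : ι → A) (hx : ∀ j, x j ∈ maximalIdeal A)
    (hD : ∀ (a : ℕ) (i : ι), ∃ D : Derivation k A (A ⧸ maximalIdeal A ^ (a + 1)),
      ∀ j, D (x j) - (if i = j then 1 else 0) ∈
        (maximalIdeal A).map (Ideal.Quotient.mk (maximalIdeal A ^ (a + 1))))
    (d : ℕ) (F : MvPolynomial ι k) (hF : F.IsHomogeneous d)
    (h : aeval x F ∈ maximalIdeal A ^ (d + 1)) : F = 0 := by
  induction d generalizing F with
  | zero =>
    rw [← totalDegree_zero_iff_isHomogeneous, totalDegree_eq_zero_iff_eq_C] at hF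
    rw [hF] at h ⊢
    rw [aeval_C, zero_add, pow_one] at h
    have := eps_eq_zero ε h
    rw [AlgHom.commutes] at this
    simp only [Algebra.algebraMap_self, RingHom.id_apply] at this
    rw [this, map_zero]
  | succ d ih =>
    have hG : ∀ i, pderiv i F = 0 := by
      intro i
      obtain ⟨D, hDx⟩ := hD d i
      have hGhom : ∀ j, (pderiv j F).IsHomogeneous d := fun j => by
        have := hF.pderiv (i := j)
        simpa using this
      apply ih _ (hGhom i)
      have h0 : D (aeval x F) = 0 := by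
        have := derivation_mem (maximalIdeal A) (d + 1) D (d + 1) h
        rwa [Ideal.map_quotient_self, Ideal.mem_bot] at this
      rw [derivation_aeval] at h0
      have hterm : ∀ j, aeval x (pderiv j F) • D (x j) =
          Ideal.Quotient.mk (maximalIdeal A ^ (d + 1))
            (aeval x (pderiv j F) * (if i = j then 1 else 0)) := by
        intro j
        have hmem : aeval x (pderiv j F) ∈ maximalIdeal A ^ d :=
          aeval_mem_pow _ x hx (hGhom j)
        have h1 : aeval x (pderiv j F) • D (x j) =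
            Ideal.Quotient.mk (maximalIdeal A ^ (d + 1)) (aeval x (pderiv j F)) * D (x j) := by
          rw [Algebra.smul_def]; rfl
        have h2 : Ideal.Quotient.mk (maximalIdeal A ^ (d + 1)) (aeval x (pderiv j F)) *
            (D (x j) - (if i = j then 1 else 0)) = 0 := by
          have h3 : Ideal.Quotient.mk (maximalIdeal A ^ (d + 1)) (aeval x (pderiv j F)) *
              (D (x j) - (if i = j then 1 else 0)) ∈
              ((maximalIdeal A ^ d) * maximalIdeal A).map
                (Ideal.Quotient.mk (maximalIdeal A ^ (d + 1))) := by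
            rw [Ideal.map_mul]
            exact Ideal.mul_mem_mul (Ideal.mem_map_of_mem _ hmem) (hDx j)
          rwa [← pow_succ, Ideal.map_quotient_self, Ideal.mem_bot] at h3
        rw [h1, map_mul]
        rw [mul_sub, sub_eq_zero] at h2
        rw [h2]
        split_ifs <;> simp
      simp only [hterm] at h0
      rw [← map_sum, Finset.sum_eq_single i] at h0
      · rw [if_pos rfl, mul_one, Ideal.Quotient.eq_zero_iff_mem] at h0
        exact h0
      · intro j _ hj
        rw [if_neg (Ne.symm hj), mul_zero]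
      · intro hi; exact absurd (Finset.mem_univ i) hi
    have hE := hF.sum_X_mul_pderiv
    simp only [hG, mul_zero, Finset.sum_const_zero] at hE
    ext s
    have := congrArg (coeff s) hE
    rw [coeff_zero, coeff_smul] at this
    rw [coeff_zero]
    rcases smul_eq_zero.1 this.symm with h1 | h1
    · exact absurd h1 (Nat.succ_ne_zero d)
    · exact h1

/-- leading form representation -/
theorem exists_homogeneous_repr (ε : A →ₐ[k] k) (x : ι → A) (hx : ∀ j, x j ∈ maximalIdeal A)
    (hspan : ∀ y ∈ maximalIdeal A, ∃ c : ι → k, y - ∑ j, c j • x j ∈ maximalIdeal A ^ 2)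
    (r : ℕ) {a : A} (ha : a ∈ maximalIdeal A ^ r) :
    ∃ F : MvPolynomial ι k, F.IsHomogeneous r ∧ a - aeval x F ∈ maximalIdeal A ^ (r + 1) := by
  induction r generalizing a with
  | zero =>
    refine ⟨C (ε a), isHomogeneous_C _ _, ?_⟩
    rw [aeval_C, zero_add, pow_one]
    exact sub_eps_mem ε a
  | succ r ih =>
    rw [pow_succ] at ha
    refine Submodule.mul_induction_on ha ?_ ?_
    · intro b hb y hy
      obtain ⟨Fb, hFb, hbF⟩ := ih hb
      obtain ⟨c, hc⟩ := hspan y hy
      refine ⟨Fb * ∑ j, C (c j) * X j,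
        hFb.mul (IsHomogeneous.sum _ _ _ fun j _ => isHomogeneous_C_mul_X (c j) j), ?_⟩
      have hev : aeval x (Fb * ∑ j, C (c j) * X j) = aeval x Fb * ∑ j, c j • x j := by
        simp [Algebra.smul_def]
      rw [hev]
      have hid : b * y - aeval x Fb * ∑ j, c j • x j =
          (b - aeval x Fb) * y + aeval x Fb * (y - ∑ j, c j • x j) := by ring
      rw [hid]
      refine Ideal.add_mem _ ?_ ?_
      · exact mul_mem_pow (maximalIdeal A) (p := r + 1) (q := 1) hbF
          (by rw [pow_one]; exact hy) rfl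
      · exact mul_mem_pow (maximalIdeal A) (p := r) (q := 2) (aeval_mem_pow _ x hx hFb) hc
          (by omega)
    · rintro p q ⟨Fp, hFp, hp⟩ ⟨Fq, hFq, hq⟩
      refine ⟨Fp + Fq, hFp.add hFq, ?_⟩
      have : p + q - aeval x (Fp + Fq) = (p - aeval x Fp) + (q - aeval x Fq) := by
        rw [map_add]; ring
      rw [this]
      exact Ideal.add_mem _ hp hq

theorem pow_sub_pow_mem (I : Ideal A) (r : ℕ) {a b : A} (ha : a ∈ I ^ r) (hb : b ∈ I ^ r)
    (hab : a - b ∈ I ^ (r + 1)) (N : ℕ) : a ^ N - b ^ N ∈ I ^ (r * N + 1) := by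
  induction N with
  | zero => simp
  | succ N ih =>
    have hid : a ^ (N + 1) - b ^ (N + 1) = a * (a ^ N - b ^ N) + (a - b) * b ^ N := by ring
    rw [hid]
    refine Ideal.add_mem _ ?_ ?_
    · exact mul_mem_pow _ ha ih (by ring)
    · have hbN : b ^ N ∈ I ^ (r * N) := by
        rw [pow_mul]; exact Ideal.pow_mem_pow hb N
      exact mul_mem_pow _ hab hbN (by ring)

/-- **Ring-theoretic core of Cartier's theorem.** -/
theorem isReduced_of_derivations [IsNoetherianRing A] [DecidableEq ι] (ε : A →ₐ[k] k)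
    (x : ι → A) (hx : ∀ j, x j ∈ maximalIdeal A)
    (hspan : ∀ y ∈ maximalIdeal A, ∃ c : ι → k, y - ∑ j, c j • x j ∈ maximalIdeal A ^ 2)
    (hD : ∀ (a : ℕ) (i : ι), ∃ D : Derivation k A (A ⧸ maximalIdeal A ^ (a + 1)),
      ∀ j, D (x j) - (if i = j then 1 else 0) ∈
        (maximalIdeal A).map (Ideal.Quotient.mk (maximalIdeal A ^ (a + 1)))) :
    IsReduced A := by
  constructor
  rintro a ⟨N, hN⟩
  by_contra ha
  have hkrull := Ideal.iInf_pow_eq_bot_of_isLocalRing (maximalIdeal A)
    (IsLocalRing.maximalIdeal.isMaximal A).ne_top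
  have hex : ∃ n, a ∉ maximalIdeal A ^ n := by
    by_contra hcon
    push_neg at hcon
    have : a ∈ ⨅ n, maximalIdeal A ^ n := by
      rw [Ideal.mem_iInf]; exact hcon
    rw [hkrull, Ideal.mem_bot] at this
    exact ha this
  classical
  let n₀ := Nat.find hex
  have hn₀ : a ∉ maximalIdeal A ^ n₀ := Nat.find_spec hex
  have hn₀pos : n₀ ≠ 0 := by
    intro h0
    apply hn₀
    rw [h0, pow_zero, Ideal.one_eq_top]
    trivial
  obtain ⟨r, hr⟩ := Nat.exists_eq_succ_of_ne_zero hn₀pos
  have har : a ∈ maximalIdeal A ^ r := by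
    by_contra hcon
    have := Nat.find_min' hex hcon
    omega
  obtain ⟨F, hF, haF⟩ := exists_homogeneous_repr ε x hx hspan r har
  have hFne : F ≠ 0 := by
    rintro rfl
    rw [map_zero, sub_zero] at haF
    apply hn₀
    rw [hr]
    exact haF
  have hb : aeval x F ∈ maximalIdeal A ^ r := aeval_mem_pow _ x hx hF
  have h1 := pow_sub_pow_mem (maximalIdeal A) r har hb haF N
  rw [hN, zero_sub, neg_mem_iff, ← map_pow] at h1
  have h2 := quasiRegular ε x hx hD (r * N) (F ^ N) (hF.pow N) h1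
  exact hFne (eq_zero_of_pow_eq_zero h2)

section comult

open TensorProduct

variable (ε : A →ₐ[k] k)

/-- the augmentation on a truncation -/
noncomputable def epsBar (n : ℕ) (hn : n ≠ 0) : A ⧸ maximalIdeal A ^ n →ₐ[k] k :=
  Ideal.Quotient.liftₐ (maximalIdeal A ^ n) ε
    (fun y hy => eps_eq_zero ε (Ideal.pow_le_self hn hy))

@[simp] theorem epsBar_mk (n : ℕ) (hn : n ≠ 0) (y : A) :
    epsBar ε n hn (Ideal.Quotient.mk _ y) = ε y := rfl

theorem mem_map_of_epsBar_eq_zero (n : ℕ) (hn : n ≠ 0) {q : A ⧸ maximalIdeal A ^ n}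
    (hq : epsBar ε n hn q = 0) :
    q ∈ (maximalIdeal A).map (Ideal.Quotient.mk (maximalIdeal A ^ n)) := by
  obtain ⟨y, rfl⟩ := Ideal.Quotient.mk_surjective q
  have h1 : ε y = 0 := hq
  have hy : y ∈ maximalIdeal A := by
    rw [← ker_eq_maximalIdeal ε]; exact h1
  exact Ideal.mem_map_of_mem _ hy

/-- `id ⊗ ε` -/
noncomputable def sigma1 (a : ℕ) :
    (A ⧸ maximalIdeal A ^ (a + 1)) ⊗[k] (A ⧸ maximalIdeal A ^ 2) →ₐ[k]
      (A ⧸ maximalIdeal A ^ (a + 1)) :=
  Algebra.TensorProduct.lift (AlgHom.id k _)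
    ((Algebra.ofId k _).comp (epsBar ε 2 two_ne_zero)) (fun _ _ => Commute.all _ _)

/-- `ε ⊗ id` -/
noncomputable def sigma2 (a : ℕ) :
    (A ⧸ maximalIdeal A ^ (a + 1)) ⊗[k] (A ⧸ maximalIdeal A ^ 2) →ₐ[k]
      (A ⧸ maximalIdeal A ^ 2) :=
  Algebra.TensorProduct.lift ((Algebra.ofId k _).comp (epsBar ε (a + 1) a.succ_ne_zero))
    (AlgHom.id k _) (fun _ _ => Commute.all _ _)

/-- `id ⊗ v` for a functional `v` on the second truncation -/
noncomputable def contr (a : ℕ) (v : (A ⧸ maximalIdeal A ^ 2) →ₗ[k] k) :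
    (A ⧸ maximalIdeal A ^ (a + 1)) ⊗[k] (A ⧸ maximalIdeal A ^ 2) →ₗ[k]
      (A ⧸ maximalIdeal A ^ (a + 1)) :=
  (TensorProduct.rid k _).toLinearMap ∘ₗ (LinearMap.lTensor _ v)

@[simp] theorem contr_tmul (a : ℕ) (v : (A ⧸ maximalIdeal A ^ 2) →ₗ[k] k)
    (p : A ⧸ maximalIdeal A ^ (a + 1)) (q : A ⧸ maximalIdeal A ^ 2) :
    contr a v (p ⊗ₜ[k] q) = v q • p := by
  simp [contr]

theorem contr_mul (a : ℕ) (v : (A ⧸ maximalIdeal A ^ 2) →ₗ[k] k)
    (hvd : ∀ q q', v (q * q') = epsBar ε 2 two_ne_zero q * v q' + epsBar ε 2 two_ne_zero q' * v q)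
    (s t : (A ⧸ maximalIdeal A ^ (a + 1)) ⊗[k] (A ⧸ maximalIdeal A ^ 2)) :
    contr a v (s * t) = sigma1 ε a s * contr a v t + sigma1 ε a t * contr a v s := by
  induction s using TensorProduct.induction_on with
  | zero => simp
  | add s₁ s₂ h₁ h₂ =>
    rw [add_mul, map_add, h₁, h₂, map_add, map_add]; ring
  | tmul p q =>
    induction t using TensorProduct.induction_on with
    | zero => simp
    | add t₁ t₂ h₁ h₂ =>
      rw [mul_add, map_add, h₁, h₂, map_add, map_add]; ring
    | tmul p' q' =>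
      rw [Algebra.TensorProduct.tmul_mul_tmul, contr_tmul, contr_tmul, contr_tmul, hvd]
      simp only [sigma1, Algebra.TensorProduct.lift_tmul, AlgHom.coe_id, id_eq, AlgHom.coe_comp,
        Function.comp_apply, Algebra.ofId_apply, Algebra.smul_def, map_add, map_mul]
      ring

theorem eps_contr (a : ℕ) (v : (A ⧸ maximalIdeal A ^ 2) →ₗ[k] k)
    (s : (A ⧸ maximalIdeal A ^ (a + 1)) ⊗[k] (A ⧸ maximalIdeal A ^ 2)) :
    epsBar ε (a + 1) a.succ_ne_zero (contr a v s) = v (sigma2 ε a s) := by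
  induction s using TensorProduct.induction_on with
  | zero => simp
  | add s₁ s₂ h₁ h₂ => simp only [map_add, h₁, h₂]
  | tmul p q =>
    rw [contr_tmul]
    simp only [sigma2, Algebra.TensorProduct.lift_tmul, AlgHom.coe_id, id_eq, AlgHom.coe_comp,
      Function.comp_apply, Algebra.ofId_apply, map_smul, smul_eq_mul]
    rw [← Algebra.smul_def, map_smul, smul_eq_mul, mul_comm]

/-- the derivation attached to a truncated comultiplication and a point derivation -/
noncomputable def mkD (a : ℕ)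
    (Δ : A →ₐ[k] (A ⧸ maximalIdeal A ^ (a + 1)) ⊗[k] (A ⧸ maximalIdeal A ^ 2))
    (h1 : ∀ y, sigma1 ε a (Δ y) = Ideal.Quotient.mk _ y)
    (v : (A ⧸ maximalIdeal A ^ 2) →ₗ[k] k)
    (hvd : ∀ q q', v (q * q') = epsBar ε 2 two_ne_zero q * v q' + epsBar ε 2 two_ne_zero q' * v q) :
    Derivation k A (A ⧸ maximalIdeal A ^ (a + 1)) :=
  Derivation.mk' ((contr a v) ∘ₗ Δ.toLinearMap) (fun y z => by
    show contr a v (Δ (y * z)) = y • contr a v (Δ z) + z • contr a v (Δ y)
    rw [map_mul, contr_mul ε a v hvd, h1, h1, Algebra.smul_def, Algebra.smul_def]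
    rfl)

theorem mkD_apply (a : ℕ)
    (Δ : A →ₐ[k] (A ⧸ maximalIdeal A ^ (a + 1)) ⊗[k] (A ⧸ maximalIdeal A ^ 2))
    (h1 : ∀ y, sigma1 ε a (Δ y) = Ideal.Quotient.mk _ y)
    (v : (A ⧸ maximalIdeal A ^ 2) →ₗ[k] k)
    (hvd : ∀ q q', v (q * q') = epsBar ε 2 two_ne_zero q * v q' + epsBar ε 2 two_ne_zero q' * v q)
    (y : A) : mkD ε a Δ h1 v hvd y = contr a v (Δ y) := rfl

end comult

section final

open TensorProduct

variable [IsNoetherianRing A] (ε : A →ₐ[k] k)

theorem map_mul_map_eq_zero {q q' : A ⧸ maximalIdeal A ^ 2}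
    (hq : q ∈ (maximalIdeal A).map (Ideal.Quotient.mk (maximalIdeal A ^ 2)))
    (hq' : q' ∈ (maximalIdeal A).map (Ideal.Quotient.mk (maximalIdeal A ^ 2))) : q * q' = 0 := by
  have := Ideal.mul_mem_mul hq hq'
  rw [← Ideal.map_mul, ← pow_two, Ideal.map_quotient_self, Ideal.mem_bot] at this
  exact this

theorem mk_smul (n : ℕ) (c : k) (y : A) :
    Ideal.Quotient.mk (maximalIdeal A ^ n) (c • y) = c • Ideal.Quotient.mk (maximalIdeal A ^ n) y :=
  map_smul (Ideal.Quotient.mkₐ k (maximalIdeal A ^ n)) c y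

include ε in
theorem finite_Q2 : Module.Finite k (A ⧸ maximalIdeal A ^ 2) := by
  classical
  obtain ⟨n, y, hy⟩ := Submodule.fg_iff_exists_fin_generating_family.1
    (IsNoetherian.noetherian (maximalIdeal A))
  refine ⟨⟨insert (1 : A ⧸ maximalIdeal A ^ 2)
    (Finset.univ.image (fun j => Ideal.Quotient.mk (maximalIdeal A ^ 2) (y j))), ?_⟩⟩
  rw [eq_top_iff]
  rintro q -
  obtain ⟨z, rfl⟩ := Ideal.Quotient.mk_surjective q
  have hdecomp : Ideal.Quotient.mk (maximalIdeal A ^ 2) z =
      ε z • (1 : A ⧸ maximalIdeal A ^ 2) +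
        Ideal.Quotient.mk (maximalIdeal A ^ 2) (z - algebraMap k A (ε z)) := by
    rw [map_sub, Algebra.smul_def, mul_one]
    have : Ideal.Quotient.mk (maximalIdeal A ^ 2) (algebraMap k A (ε z)) =
        algebraMap k (A ⧸ maximalIdeal A ^ 2) (ε z) := rfl
    rw [this]; ring
  rw [hdecomp]
  refine Submodule.add_mem _ (Submodule.smul_mem _ _ (Submodule.subset_span (by simp))) ?_
  have hw := sub_eps_mem ε z
  generalize z - algebraMap k A (ε z) = w at hw
  rw [← hy] at hw
  refine Submodule.span_induction (p := fun w _ => Ideal.Quotient.mk (maximalIdeal A ^ 2) w ∈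
    Submodule.span k (↑(insert (1 : A ⧸ maximalIdeal A ^ 2)
      (Finset.univ.image (fun j => Ideal.Quotient.mk (maximalIdeal A ^ 2) (y j)))) :
      Set (A ⧸ maximalIdeal A ^ 2))) ?_ ?_ ?_ ?_ hw
  · rintro _ ⟨j, rfl⟩
    exact Submodule.subset_span (by simp)
  · simp
  · intro u v _ _ hu hv
    rw [map_add]; exact Submodule.add_mem _ hu hv
  · intro c u hu ih
    rw [hy] at hu
    have h1 : c • u = ε c • u + (c - algebraMap k A (ε c)) * u := by
      rw [smul_eq_mul, Algebra.smul_def]; ring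
    have h2 : (c - algebraMap k A (ε c)) * u ∈ maximalIdeal A ^ 2 := by
      rw [pow_two]; exact Ideal.mul_mem_mul (sub_eps_mem ε c) hu
    rw [h1, map_add, (Ideal.Quotient.eq_zero_iff_mem).2 h2, add_zero, mk_smul]
    exact Submodule.smul_mem _ _ ih

/-- **Cartier, ring form**: a Noetherian local `k`-algebra with residue field `k` (char 0) with
truncated comultiplications satisfying the counit identities is reduced. -/
theorem isReduced_of_comult
    (hΔ : ∀ a : ℕ, ∃ Δ : A →ₐ[k] (A ⧸ maximalIdeal A ^ (a + 1)) ⊗[k] (A ⧸ maximalIdeal A ^ 2),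
      (∀ y, sigma1 ε a (Δ y) = Ideal.Quotient.mk _ y) ∧
      (∀ y, sigma2 ε a (Δ y) = Ideal.Quotient.mk _ y)) :
    IsReduced A := by
  classical
  haveI := finite_Q2 ε
  let ε₂ := epsBar ε 2 two_ne_zero
  let M₂ : Submodule k (A ⧸ maximalIdeal A ^ 2) := LinearMap.ker ε₂.toLinearMap
  let b := Module.finBasis k M₂
  have hr : ∀ q : A ⧸ maximalIdeal A ^ 2,
      q - algebraMap k (A ⧸ maximalIdeal A ^ 2) (ε₂ q) ∈ M₂ := by
    intro q
    show ε₂ (q - algebraMap k (A ⧸ maximalIdeal A ^ 2) (ε₂ q)) = 0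
    rw [map_sub, AlgHom.commutes]; simp
  let πM : (A ⧸ maximalIdeal A ^ 2) →ₗ[k] M₂ :=
    LinearMap.codRestrict M₂
      (LinearMap.id - (Algebra.linearMap k (A ⧸ maximalIdeal A ^ 2)) ∘ₗ ε₂.toLinearMap)
      (fun q => hr q)
  have hπval : ∀ q, ((πM q : M₂) : A ⧸ maximalIdeal A ^ 2) =
      q - algebraMap k (A ⧸ maximalIdeal A ^ 2) (ε₂ q) := fun q => rfl
  have hπM : ∀ m : M₂, πM m = m := by
    intro m
    apply Subtype.ext
    rw [hπval]
    have : ε₂ (m : A ⧸ maximalIdeal A ^ 2) = 0 := m.2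
    rw [this, map_zero, sub_zero]
  have hπmul : ∀ q q', πM (q * q') = ε₂ q • πM q' + ε₂ q' • πM q := by
    intro q q'
    apply Subtype.ext
    have hz : (q - algebraMap k (A ⧸ maximalIdeal A ^ 2) (ε₂ q)) *
        (q' - algebraMap k (A ⧸ maximalIdeal A ^ 2) (ε₂ q')) = 0 :=
      map_mul_map_eq_zero (mem_map_of_epsBar_eq_zero ε 2 two_ne_zero (hr q))
        (mem_map_of_epsBar_eq_zero ε 2 two_ne_zero (hr q'))
    rw [Submodule.coe_add, Submodule.coe_smul, Submodule.coe_smul, hπval, hπval, hπval, map_mul,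
      map_mul, Algebra.smul_def, Algebra.smul_def]
    linear_combination hz
  let v : Fin (Module.finrank k M₂) → ((A ⧸ maximalIdeal A ^ 2) →ₗ[k] k) :=
    fun i => (b.coord i) ∘ₗ πM
  have hvd : ∀ i q q', v i (q * q') = ε₂ q * v i q' + ε₂ q' * v i q := by
    intro i q q'
    show b.coord i (πM (q * q')) = ε₂ q * b.coord i (πM q') + ε₂ q' * b.coord i (πM q)
    rw [hπmul, map_add, map_smul, map_smul, smul_eq_mul, smul_eq_mul]
  have hx_ex : ∀ j, ∃ xj : A, Ideal.Quotient.mk (maximalIdeal A ^ 2) xj =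
      ((b j : M₂) : A ⧸ maximalIdeal A ^ 2) := fun j => Ideal.Quotient.mk_surjective _
  choose x hxmk using hx_ex
  have hx : ∀ j, x j ∈ maximalIdeal A := by
    intro j
    rw [← ker_eq_maximalIdeal ε, RingHom.mem_ker]
    have h1 : ε₂ ((b j : M₂) : A ⧸ maximalIdeal A ^ 2) = 0 := (b j).2
    rw [← hxmk j] at h1
    exact h1
  have hspan : ∀ y ∈ maximalIdeal A, ∃ c : Fin (Module.finrank k M₂) → k,
      y - ∑ j, c j • x j ∈ maximalIdeal A ^ 2 := by
    intro y hy
    have hym : Ideal.Quotient.mk (maximalIdeal A ^ 2) y ∈ M₂ := eps_eq_zero ε hy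
    refine ⟨fun j => b.repr ⟨_, hym⟩ j, ?_⟩
    rw [← Ideal.Quotient.eq_zero_iff_mem, map_sub, map_sum, sub_eq_zero]
    have h1 : ∑ i, (((b.repr ⟨_, hym⟩ i • b i : M₂)) : A ⧸ maximalIdeal A ^ 2) =
        Ideal.Quotient.mk (maximalIdeal A ^ 2) y := by
      have := congrArg Subtype.val (b.sum_repr ⟨_, hym⟩)
      rwa [Submodule.coe_sum] at this
    refine h1.symm.trans ?_
    refine Finset.sum_congr rfl fun j _ => ?_
    rw [mk_smul, hxmk j]
    rfl
  have hv : ∀ i j, v i (Ideal.Quotient.mk _ (x j)) = if i = j then 1 else 0 := by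
    intro i j
    show b.coord i (πM (Ideal.Quotient.mk _ (x j))) = _
    rw [hxmk j, hπM, Module.Basis.coord_apply, Module.Basis.repr_self, Finsupp.single_apply]
    simp only [eq_comm]
  refine isReduced_of_derivations ε x hx hspan (fun a i => ?_)
  obtain ⟨Δ, h1, h2⟩ := hΔ a
  refine ⟨mkD ε a Δ h1 (v i) (hvd i), fun j => ?_⟩
  apply mem_map_of_epsBar_eq_zero ε (a + 1) a.succ_ne_zero
  rw [map_sub, mkD_apply, eps_contr, h2, hv]
  split_ifs <;> simp

end final

end Groth.Agent.Lib.CartierRingH6
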