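import Mathlib
import Groth.Agent.Lib.CartierRing_helper6

/-!
# Cartier's theorem, ring-theoretic core II (helper6): the truncated tensor square is local
-/

set_option autoImplicit false
universe u
open IsLocalRing TensorProduct

namespace Groth.Agent.Lib.CartierRingH6

variable {k A : Type u} [Field k] [CommRing A] [Algebra k A] [CharZero k] [IsLocalRing A]
  (ε : A →ₐ[k] k)

theorem isNilpotent_of_epsBar_eq_zero (n : ℕ) (hn : n ≠ 0) {q : A ⧸ maximalIdeal A ^ n}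
    (hq : epsBar ε n hn q = 0) : IsNilpotent q := by
  refine ⟨n, ?_⟩
  have h1 := Ideal.pow_mem_pow (mem_map_of_epsBar_eq_zero ε n hn hq) n
  rwa [← Ideal.map_pow, Ideal.map_quotient_self, Ideal.mem_bot] at h1

theorem sub_epsBar_isNilpotent (n : ℕ) (hn : n ≠ 0) (q : A ⧸ maximalIdeal A ^ n) :
    IsNilpotent (q - algebraMap k _ (epsBar ε n hn q)) := by
  apply isNilpotent_of_epsBar_eq_zero ε n hn
  rw [map_sub, AlgHom.commutes]; simp

/-- the augmentation `ε ⊗ ε` of the truncated tensor square -/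
noncomputable def rho (a : ℕ) :
    (A ⧸ maximalIdeal A ^ (a + 1)) ⊗[k] (A ⧸ maximalIdeal A ^ 2) →ₐ[k] k :=
  Algebra.TensorProduct.lift (epsBar ε (a + 1) a.succ_ne_zero) (epsBar ε 2 two_ne_zero)
    (fun _ _ => Commute.all _ _)

theorem sub_rho_mem_nilradical (a : ℕ)
    (r : (A ⧸ maximalIdeal A ^ (a + 1)) ⊗[k] (A ⧸ maximalIdeal A ^ 2)) :
    r - algebraMap k _ (rho ε a r) ∈ nilradical
      ((A ⧸ maximalIdeal A ^ (a + 1)) ⊗[k] (A ⧸ maximalIdeal A ^ 2)) := by
  induction r using TensorProduct.induction_on with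
  | zero => simp
  | add r₁ r₂ h₁ h₂ =>
    have : r₁ + r₂ - algebraMap k _ (rho ε a (r₁ + r₂)) =
        (r₁ - algebraMap k _ (rho ε a r₁)) + (r₂ - algebraMap k _ (rho ε a r₂)) := by
      rw [map_add, map_add]; ring
    rw [this]
    exact Ideal.add_mem _ h₁ h₂
  | tmul p q =>
    have hp := sub_epsBar_isNilpotent ε (a + 1) a.succ_ne_zero p
    have hq := sub_epsBar_isNilpotent ε 2 two_ne_zero q
    have hp' : ((p - algebraMap k _ (epsBar ε (a + 1) a.succ_ne_zero p)) ⊗ₜ[k]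
        (1 : A ⧸ maximalIdeal A ^ 2)) ∈ nilradical
          ((A ⧸ maximalIdeal A ^ (a + 1)) ⊗[k] (A ⧸ maximalIdeal A ^ 2)) :=
      (mem_nilradical).2 (hp.map (Algebra.TensorProduct.includeLeft :
        (A ⧸ maximalIdeal A ^ (a + 1)) →ₐ[k] _))
    have hq' : ((1 : A ⧸ maximalIdeal A ^ (a + 1)) ⊗ₜ[k]
        (q - algebraMap k _ (epsBar ε 2 two_ne_zero q))) ∈ nilradical
          ((A ⧸ maximalIdeal A ^ (a + 1)) ⊗[k] (A ⧸ maximalIdeal A ^ 2)) :=
      (mem_nilradical).2 (hq.map (Algebra.TensorProduct.includeRight :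
        (A ⧸ maximalIdeal A ^ 2) →ₐ[k] _))
    have hid : p ⊗ₜ[k] q - algebraMap k _ (rho ε a (p ⊗ₜ[k] q)) =
        ((p - algebraMap k _ (epsBar ε (a + 1) a.succ_ne_zero p)) ⊗ₜ[k]
          (1 : A ⧸ maximalIdeal A ^ 2)) * ((1 : A ⧸ maximalIdeal A ^ (a + 1)) ⊗ₜ[k] q) +
        (algebraMap k _ (epsBar ε (a + 1) a.succ_ne_zero p) ⊗ₜ[k]
          (1 : A ⧸ maximalIdeal A ^ 2)) *
          ((1 : A ⧸ maximalIdeal A ^ (a + 1)) ⊗ₜ[k]
            (q - algebraMap k _ (epsBar ε 2 two_ne_zero q))) := by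
      have hr : rho ε a (p ⊗ₜ[k] q) =
          epsBar ε (a + 1) a.succ_ne_zero p * epsBar ε 2 two_ne_zero q := by
        simp [rho]
      rw [hr]
      generalize epsBar ε (a + 1) a.succ_ne_zero p = c
      generalize epsBar ε 2 two_ne_zero q = d
      simp only [Algebra.TensorProduct.tmul_mul_tmul, mul_one, one_mul]
      rw [TensorProduct.sub_tmul, TensorProduct.tmul_sub]
      have h3 : algebraMap k (A ⧸ maximalIdeal A ^ (a + 1)) c ⊗ₜ[k]
          algebraMap k (A ⧸ maximalIdeal A ^ 2) d =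
          algebraMap k ((A ⧸ maximalIdeal A ^ (a + 1)) ⊗[k] (A ⧸ maximalIdeal A ^ 2)) (c * d) := by
        rw [Algebra.algebraMap_eq_smul_one, Algebra.algebraMap_eq_smul_one,
          Algebra.algebraMap_eq_smul_one, TensorProduct.smul_tmul_smul,
          Algebra.TensorProduct.one_def]
      rw [h3]; abel
    rw [hid]
    exact Ideal.add_mem _ (Ideal.mul_mem_right _ _ hp') (Ideal.mul_mem_left _ _ hq')

theorem isUnit_of_rho_ne_zero (a : ℕ)
    (r : (A ⧸ maximalIdeal A ^ (a + 1)) ⊗[k] (A ⧸ maximalIdeal A ^ 2)) (hr : rho ε a r ≠ 0) :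
    IsUnit r := by
  have h1 : IsNilpotent (r - algebraMap k _ (rho ε a r)) :=
    mem_nilradical.1 (sub_rho_mem_nilradical ε a r)
  have h2 : IsUnit (algebraMap k ((A ⧸ maximalIdeal A ^ (a + 1)) ⊗[k] (A ⧸ maximalIdeal A ^ 2))
      (rho ε a r)) := (IsUnit.mk0 _ hr).map _
  have := h1.isUnit_add_left_of_commute h2 (Commute.all _ _)
  simpa using this

include ε in
theorem isLocalRing_tensor (a : ℕ) :
    IsLocalRing ((A ⧸ maximalIdeal A ^ (a + 1)) ⊗[k] (A ⧸ maximalIdeal A ^ 2)) := by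
  haveI : Nontrivial ((A ⧸ maximalIdeal A ^ (a + 1)) ⊗[k] (A ⧸ maximalIdeal A ^ 2)) := by
    refine ⟨⟨0, 1, fun h => ?_⟩⟩
    have := congrArg (rho ε a) h
    simp at this
  refine IsLocalRing.of_isUnit_or_isUnit_one_sub_self fun r => ?_
  by_cases hr : rho ε a r = 0
  · right
    apply isUnit_of_rho_ne_zero ε a
    rw [map_sub, map_one, hr, sub_zero]
    exact one_ne_zero
  · left
    exact isUnit_of_rho_ne_zero ε a r hr

theorem isLocalHom_rho (a : ℕ) : IsLocalHom (rho ε a).toRingHom := by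
  refine ⟨fun r hr => isUnit_of_rho_ne_zero ε a r ?_⟩
  exact IsUnit.ne_zero hr

end Groth.Agent.Lib.CartierRingH6
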