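import Groth.Agent.Lib.GrpSmooth_helper4
import Groth.Prelude.Def_Red

/-!
# Group schemes with a reduced local ring (helper4)
-/

universe u

set_option linter.style.haveILetI false

open CategoryTheory AlgebraicGeometry Limits

namespace Groth.Agent.Lib.GrpSmooth2H4

/-- If the localization of a Noetherian ring at a prime is reduced, so is some basic open
neighbourhood. -/
theorem exists_isReduced_away {A : Type u} [CommRing A] [IsNoetherianRing A] (p : Ideal A)
    [p.IsPrime] (Ap : Type u) [CommRing Ap] [Algebra A Ap] [IsLocalization.AtPrime Ap p]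
    [IsReduced Ap] : ∃ s ∉ p, IsReduced (Localization.Away s) := by
  classical
  obtain ⟨T, hT⟩ : (nilradical A).FG := IsNoetherian.noetherian (nilradical A)
  have h1 : ∀ n ∈ T, ∃ c : A, c ∉ p ∧ c * n = 0 := by
    intro n hn
    have hnil : IsNilpotent n := by
      have : n ∈ nilradical A := hT ▸ Submodule.subset_span hn
      exact mem_nilradical.mp this
    have h0 : algebraMap A Ap n = 0 := (hnil.map (algebraMap A Ap)).eq_zero
    obtain ⟨c, hc⟩ := (IsLocalization.map_eq_zero_iff p.primeCompl Ap n).mp h0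
    exact ⟨c, c.2, hc⟩
  choose! c hc using h1
  let s := ∏ n ∈ T, c n
  have hs : s ∉ p := fun h => by
    obtain ⟨n, hn, hcn⟩ := (Ideal.IsPrime.prod_mem_iff).mp h
    exact (hc n hn).1 hcn
  have hsN : ∀ n ∈ nilradical A, s * n = 0 := by
    intro n hn
    rw [← hT] at hn
    induction hn using Submodule.span_induction with
    | mem x hx =>
      obtain ⟨d, hd⟩ := Finset.dvd_prod_of_mem c hx
      rw [show s = c x * d from hd, mul_right_comm, (hc x hx).2, zero_mul]
    | zero => simp
    | add x y _ _ hx hy => rw [mul_add, hx, hy, add_zero]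
    | smul a x _ hx => rw [smul_eq_mul, mul_left_comm, hx, mul_zero]
  refine ⟨s, hs, ⟨?_⟩⟩
  intro x hx
  obtain ⟨⟨a, ⟨_, k, rfl⟩⟩, hax⟩ := IsLocalization.surj (Submonoid.powers s) x
  dsimp only at hax
  obtain ⟨m, hm⟩ := hx
  have h2 : algebraMap A (Localization.Away s) (a ^ m) = 0 := by
    rw [map_pow, ← hax, mul_pow, hm, zero_mul]
  obtain ⟨⟨_, j, rfl⟩, hj⟩ := (IsLocalization.map_eq_zero_iff (Submonoid.powers s) _ _).mp h2
  dsimp only at hj
  have h3 : (s ^ j * a) ∈ nilradical A := by
    rw [mem_nilradical]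
    refine ⟨m + 1, ?_⟩
    have : (s ^ j * a) ^ (m + 1) = (s ^ j) ^ m * a * (s ^ j * a ^ m) := by ring
    rw [this, hj, mul_zero]
  have h4 : s * (s ^ j * a) = 0 := hsN _ h3
  have h5 : algebraMap A (Localization.Away s) a = 0 := by
    rw [IsLocalization.map_eq_zero_iff (Submonoid.powers s)]
    exact ⟨⟨s ^ (j + 1), j + 1, rfl⟩, by
      change s ^ (j + 1) * a = 0
      rw [pow_succ', mul_assoc]; exact h4⟩
  have hu : IsUnit (algebraMap A (Localization.Away s) (s ^ k)) :=
    IsLocalization.map_units _ (⟨s ^ k, k, rfl⟩ : Submonoid.powers s)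
  rw [h5] at hax
  exact (hu.mul_left_eq_zero).mp hax

/-- In a locally Noetherian scheme, a point with reduced local ring has a reduced open
neighbourhood. -/
theorem exists_isReduced_open {X : Scheme.{u}} [IsLocallyNoetherian X] (x : X)
    [_root_.IsReduced (X.presheaf.stalk x)] :
    ∃ W : X.Opens, x ∈ W ∧ IsReduced W.toScheme := by
  obtain ⟨V, hV, hxV, -⟩ :=
    AlgebraicGeometry.exists_isAffineOpen_mem_and_subset (X := X) (x := x) (U := ⊤) trivial
  haveI : IsNoetherianRing Γ(X, V) := IsLocallyNoetherian.component_noetherian ⟨V, hV⟩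
  letI := X.presheaf.algebra_section_stalk ⟨x, hxV⟩
  haveI := hV.isLocalization_stalk ⟨x, hxV⟩
  obtain ⟨s, hs, hred⟩ :=
    exists_isReduced_away (hV.primeIdealOf ⟨x, hxV⟩).asIdeal (X.presheaf.stalk x)
  refine ⟨X.basicOpen s, ?_, ?_⟩
  · rw [X.mem_basicOpen s x hxV]
    exact (IsLocalization.AtPrime.isUnit_to_map_iff (X.presheaf.stalk x)
      (hV.primeIdealOf ⟨x, hxV⟩).asIdeal s).mpr hs
  · haveI : IsAffine (X.basicOpen s).toScheme := hV.basicOpen s
    haveI hloc := hV.isLocalization_basicOpen s
    let e1 : Localization.Away s ≃+* Γ(X, X.basicOpen s) :=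
      (IsLocalization.algEquiv (Submonoid.powers s) _ _).toRingEquiv
    let e2 : Γ(X, X.basicOpen s) ≃+* Γ((X.basicOpen s).toScheme, ⊤) :=
      (X.basicOpen s).topIso.symm.commRingCatIsoToRingEquiv
    haveI : _root_.IsReduced Γ((X.basicOpen s).toScheme, ⊤) :=
      isReduced_of_injective (e1.trans e2).symm (e1.trans e2).symm.injective
    exact isReduced_of_isAffine_isReduced _

/-- A scheme locally of finite type over a perfect field with a reduced local ring has a smooth
point. -/
theorem nonempty_smoothLocus_of_isReduced_stalk {K : Type u} [Field K] [PerfectField K]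
    {X : Scheme.{u}} (f : X ⟶ Spec (.of K)) [LocallyOfFiniteType f]
    (x : X) [_root_.IsReduced (X.presheaf.stalk x)] : (f.smoothLocus : Set X).Nonempty := by
  haveI : IsLocallyNoetherian X := LocallyOfFiniteType.isLocallyNoetherian f
  obtain ⟨W, hxW, hW⟩ := exists_isReduced_open x
  haveI := hW
  haveI : Nonempty W := ⟨⟨x, hxW⟩⟩
  obtain ⟨w, hw⟩ := (W.ι ≫ f).dense_smoothLocus_of_perfectField.nonempty
  rw [← Scheme.Hom.preimage_smoothLocus_eq] at hw
  exact ⟨W.ι w, hw⟩

open MonoidalCategory MonObj in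
theorem main14588 (k : Type u) [Field k]
    (G : Over (Spec (CommRingCat.of k))) [GrpObj G] [LocallyOfFiniteType G.hom]
    (t : ↥((𝟙_ (Over (Spec (CommRingCat.of (AlgebraicClosure k))))).left))
    (h : _root_.IsReduced ↑((Red.bc (Spec.map (CommRingCat.ofHom
      (algebraMap k (AlgebraicClosure k)))) G).left.presheaf.stalk
      ((η[Red.bc (Spec.map (CommRingCat.ofHom (algebraMap k (AlgebraicClosure k)))) G]).left.base
        t))) :
    Smooth G.hom := by
  let g : Spec (.of (AlgebraicClosure k)) ⟶ Spec (.of k) :=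
    Spec.map (CommRingCat.ofHom (algebraMap k (AlgebraicClosure k)))
  haveI : GrpObj (Over.mk G.hom) := inferInstanceAs (GrpObj G)
  apply MorphismProperty.of_pullback_snd_of_descendsAlong
    (Q := @Surjective ⊓ @Flat ⊓ @QuasiCompact) (g := g)
  · exact ⟨⟨inferInstance, inferInstance⟩, inferInstance⟩
  · let : GrpObj (Over.mk (Limits.pullback.snd G.hom g)) := Over.grpObjMkPullbackSnd
    apply Groth.Agent.Lib.GrpSmoothH4.smooth_of_nonempty_smoothLocus_of_isAlgClosed
    let x : ↥(pullback G.hom g) := (η[Red.bc g G]).left.base t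
    haveI : _root_.IsReduced ((pullback G.hom g).presheaf.stalk x) := h
    exact nonempty_smoothLocus_of_isReduced_stalk (pullback.snd G.hom g) x

end Groth.Agent.Lib.GrpSmooth2H4
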