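import Mathlib
import Groth.Prelude
import Groth.Agent.Lib.CartierRing2_helper6
import Groth.Agent.Lib.StalkDict_helper4
import Groth.Agent.Lib.GrpSmooth2_helper4

/-!
# Cartier's theorem (helper6): group schemes locally of finite type over a field of
characteristic zero are smooth.

Scheme side: the local ring at the identity carries truncated comultiplications, obtained from
the group law on `R`-valued points for the local Artinian ring
`R = (A ⧸ 𝔪^(a+1)) ⊗ (A ⧸ 𝔪^2)`.
-/

set_option autoImplicit false
set_option linter.style.haveILetI false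
set_option linter.unusedSectionVars false
universe u
open CategoryTheory AlgebraicGeometry MonoidalCategory CartesianMonoidalCategory MonObj
  IsLocalRing TensorProduct Limits

namespace Groth.Agent.Lib.CartierGrpH6

attribute [local instance] Curv2.stalkAlgebra

variable (k : Type u) [Field k] (G : Over (Spec (CommRingCat.of k))) [GrpObj G]

/-- the unit section -/
noncomputable def u : Spec (CommRingCat.of k) ⟶ G.left := η[G].left

theorem u_hom : u k G ≫ G.hom = 𝟙 _ := Over.w η[G]

/-- the identity point -/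
noncomputable def e : G.left := (u k G) (closedPoint (CommRingCat.of k))

/-- the structure of `k`-scheme on `G.left` -/
@[reducible] noncomputable def instOverG : G.left.Over (Spec (CommRingCat.of k)) := ⟨G.hom⟩

attribute [local instance] instOverG

/-- the local ring at the identity -/
abbrev A : Type u := G.left.presheaf.stalk (e k G)

/-- the augmentation as a ring map -/
noncomputable def epsR : G.left.presheaf.stalk (e k G) ⟶ CommRingCat.of k :=
  Scheme.stalkClosedPointTo (R := CommRingCat.of k) (u k G)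

theorem spec_epsR : Spec.map (epsR k G) ≫ G.left.fromSpecStalk (e k G) = u k G :=
  Scheme.Spec_stalkClosedPointTo_fromSpecStalk _

theorem fromSpecStalk_hom (x : G.left) : G.left.fromSpecStalk x ≫ G.hom =
    Spec.map (CommRingCat.ofHom (algebraMap k (G.left.presheaf.stalk x))) :=
  Groth.Agent.Lib.StalkDictH4.fromSpecStalk_comp k G.left x

theorem algebraMap_epsR :
    CommRingCat.ofHom (algebraMap k (A k G)) ≫ epsR k G = 𝟙 (CommRingCat.of k) := by
  apply Spec.map_injective
  rw [Spec.map_comp, Spec.map_id, ← fromSpecStalk_hom k G (e k G), ← Category.assoc, spec_epsR,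
    u_hom]

/-- the augmentation (counit) -/
noncomputable def eps : A k G →ₐ[k] k :=
  ⟨(epsR k G).hom, fun c => congrArg (fun f => f.hom c) (algebraMap_epsR k G)⟩

section points

theorem ofHom_algebraMap_comp {B C : Type u} [CommRing B] [CommRing C] [Algebra k B]
    [Algebra k C] (g : B →ₐ[k] C) :
    CommRingCat.ofHom (algebraMap k B) ≫ CommRingCat.ofHom g.toRingHom =
      CommRingCat.ofHom (algebraMap k C) := by
  rw [← CommRingCat.ofHom_comp]; congr 1; exact g.comp_algebraMap

/-- `Spec B` as a `k`-scheme -/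
noncomputable abbrev SpecK (B : Type u) [CommRing B] [Algebra k B] :
    Over (Spec (CommRingCat.of k)) :=
  Over.mk (Spec.map (CommRingCat.ofHom (algebraMap k B)))

variable {B C : Type u} [CommRing B] [CommRing C] [Algebra k B] [Algebra k C]

/-- the `B`-point of `G` attached to `A → B` -/
noncomputable def pt (g : A k G →ₐ[k] B) : SpecK k B ⟶ G :=
  Over.homMk (Spec.map (CommRingCat.ofHom g.toRingHom) ≫ G.left.fromSpecStalk (e k G)) (by
    rw [Category.assoc, fromSpecStalk_hom, ← Spec.map_comp, ofHom_algebraMap_comp]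
    rfl)

/-- functoriality of `SpecK` -/
noncomputable def mapK (h : B →ₐ[k] C) : SpecK k C ⟶ SpecK k B :=
  Over.homMk (Spec.map (CommRingCat.ofHom h.toRingHom)) (by
    show Spec.map _ ≫ Spec.map _ = Spec.map _
    rw [← Spec.map_comp, ofHom_algebraMap_comp])

theorem mapK_pt (h : B →ₐ[k] C) (g : A k G →ₐ[k] B) :
    mapK k h ≫ pt k G g = pt k G (h.comp g) := by
  ext
  show Spec.map (CommRingCat.ofHom h.toRingHom) ≫
    (Spec.map (CommRingCat.ofHom g.toRingHom) ≫ G.left.fromSpecStalk (e k G)) =
    Spec.map (CommRingCat.ofHom (h.comp g).toRingHom) ≫ G.left.fromSpecStalk (e k G)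
  rw [← Category.assoc, ← Spec.map_comp]; rfl

theorem pt_injective {g₁ g₂ : A k G →ₐ[k] B} (h : pt k G g₁ = pt k G g₂) : g₁ = g₂ := by
  have h1 : Spec.map (CommRingCat.ofHom g₁.toRingHom) ≫ G.left.fromSpecStalk (e k G) =
      Spec.map (CommRingCat.ofHom g₂.toRingHom) ≫ G.left.fromSpecStalk (e k G) :=
    congrArg (fun f => f.left) h
  rw [cancel_mono] at h1
  have h2 := Spec.map_injective h1
  exact AlgHom.ext fun y => congrArg (fun f => f.hom y) h2

theorem pt_one : pt k G ((Algebra.ofId k B).comp (eps k G)) = 1 := by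
  rw [Hom.one_def]
  ext
  show Spec.map (CommRingCat.ofHom ((Algebra.ofId k B).comp (eps k G)).toRingHom) ≫
    G.left.fromSpecStalk (e k G) = (toUnit (SpecK k B)).left ≫ η[G].left
  have h1 : CommRingCat.ofHom ((Algebra.ofId k B).comp (eps k G)).toRingHom =
      epsR k G ≫ CommRingCat.ofHom (algebraMap k B) := rfl
  rw [h1, Spec.map_comp, Category.assoc, spec_epsR]; rfl

theorem exists_pt [IsLocalRing B] (ρ : B →ₐ[k] k) (hρ : IsLocalHom ρ.toRingHom)
    (φ : SpecK k B ⟶ G) (h : mapK k ρ ≫ φ = 1) : ∃ Δ : A k G →ₐ[k] B, φ = pt k G Δ := by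
  have hpt : φ.left (closedPoint (CommRingCat.of B)) = e k G := by
    have h1 : Spec.map (CommRingCat.ofHom ρ.toRingHom) (closedPoint (CommRingCat.of k)) =
        closedPoint (CommRingCat.of B) := by
      haveI : IsLocalHom (CommRingCat.ofHom ρ.toRingHom).hom := hρ
      exact Spec_closedPoint
    have h2 : (mapK k ρ ≫ φ).left = (1 : SpecK k k ⟶ G).left := congrArg (fun f => f.left) h
    have h3 : Spec.map (CommRingCat.ofHom ρ.toRingHom) ≫ φ.left = u k G := by
      have h4 : (1 : SpecK k k ⟶ G).left = u k G := by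
        rw [Hom.one_def]
        show Spec.map (CommRingCat.ofHom (algebraMap k k)) ≫ η[G].left = η[G].left
        have : CommRingCat.ofHom (algebraMap k k) = 𝟙 _ := rfl
        rw [this, Spec.map_id, Category.id_comp]
      rw [← h4]; exact h2
    rw [← h1, ← Scheme.Hom.comp_apply, h3]; rfl
  obtain ⟨Δr, hΔr⟩ : ∃ Δr : G.left.presheaf.stalk (e k G) ⟶ CommRingCat.of B,
      Spec.map Δr ≫ G.left.fromSpecStalk (e k G) = φ.left := by
    have key : ∀ (x : G.left) (_ : φ.left (closedPoint (CommRingCat.of B)) = x),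
        ∃ Δr : G.left.presheaf.stalk x ⟶ CommRingCat.of B,
          Spec.map Δr ≫ G.left.fromSpecStalk x = φ.left := by
      rintro x rfl
      exact ⟨Scheme.stalkClosedPointTo (R := CommRingCat.of B) φ.left,
        Scheme.Spec_stalkClosedPointTo_fromSpecStalk _⟩
    exact key _ hpt
  have hlin : CommRingCat.ofHom (algebraMap k (A k G)) ≫ Δr =
      CommRingCat.ofHom (algebraMap k B) := by
    apply Spec.map_injective
    rw [Spec.map_comp, ← fromSpecStalk_hom k G (e k G), ← Category.assoc, hΔr]
    exact Over.w φ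
  let Δ : A k G →ₐ[k] B := ⟨Δr.hom, fun c => congrArg (fun f => f.hom c) hlin⟩
  refine ⟨Δ, ?_⟩
  ext
  exact hΔr.symm

end points

open CartierRingH6 in
/-- **Cartier**: the local ring at the identity of a group scheme locally of finite type over a
field of characteristic zero is reduced. -/
theorem isReduced_stalk [CharZero k] [LocallyOfFiniteType G.hom] : IsReduced (A k G) := by
  haveI : IsLocallyNoetherian G.left := LocallyOfFiniteType.isLocallyNoetherian G.hom
  haveI : IsNoetherianRing (A k G) := inferInstance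
  refine isReduced_of_comult (eps k G) fun a => ?_
  haveI := isLocalRing_tensor (eps k G) a
  have hloc := isLocalHom_rho (eps k G) a
  let g₁ : A k G →ₐ[k]
      (A k G ⧸ maximalIdeal (A k G) ^ (a + 1)) ⊗[k] (A k G ⧸ maximalIdeal (A k G) ^ 2) :=
    (Algebra.TensorProduct.includeLeft).comp (Ideal.Quotient.mkₐ k _)
  let g₂ : A k G →ₐ[k]
      (A k G ⧸ maximalIdeal (A k G) ^ (a + 1)) ⊗[k] (A k G ⧸ maximalIdeal (A k G) ^ 2) :=
    (Algebra.TensorProduct.includeRight).comp (Ideal.Quotient.mkₐ k _)
  let φ : SpecK k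
      ((A k G ⧸ maximalIdeal (A k G) ^ (a + 1)) ⊗[k] (A k G ⧸ maximalIdeal (A k G) ^ 2)) ⟶ G :=
    pt k G g₁ * pt k G g₂
  have hone : ∀ {C : Type u} [CommRing C] [Algebra k C]
      (h : (A k G ⧸ maximalIdeal (A k G) ^ (a + 1)) ⊗[k] (A k G ⧸ maximalIdeal (A k G) ^ 2)
        →ₐ[k] C),
      mapK k h ≫ φ = pt k G (h.comp g₁) * pt k G (h.comp g₂) := by
    intro C _ _ h
    rw [MonObj.comp_mul, mapK_pt, mapK_pt]
  have hρ : mapK k (rho (eps k G) a) ≫ φ = 1 := by
    rw [hone]
    have e1 : (rho (eps k G) a).comp g₁ = (Algebra.ofId k k).comp (eps k G) := by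
      ext y
      simp [g₁, rho, Algebra.ofId_apply]
    have e2 : (rho (eps k G) a).comp g₂ = (Algebra.ofId k k).comp (eps k G) := by
      ext y
      simp [g₂, rho, Algebra.ofId_apply]
    rw [e1, e2, pt_one, _root_.one_mul]
  obtain ⟨Δ, hΔ⟩ := exists_pt k G (rho (eps k G) a) hloc φ hρ
  refine ⟨Δ, fun y => ?_, fun y => ?_⟩
  · have h1 : mapK k (sigma1 (eps k G) a) ≫ φ = pt k G (Ideal.Quotient.mkₐ k _) := by
      rw [hone]
      have e1 : (sigma1 (eps k G) a).comp g₁ = Ideal.Quotient.mkₐ k _ := by
        ext y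
        simp [g₁, sigma1]
      have e2 : (sigma1 (eps k G) a).comp g₂ = (Algebra.ofId k _).comp (eps k G) := by
        ext y
        simp [g₂, sigma1, Algebra.ofId_apply]
      rw [e1, e2, pt_one, _root_.mul_one]
    rw [hΔ, mapK_pt] at h1
    exact congrArg (fun f => f y) (pt_injective k G h1)
  · have h1 : mapK k (sigma2 (eps k G) a) ≫ φ = pt k G (Ideal.Quotient.mkₐ k _) := by
      rw [hone]
      have e1 : (sigma2 (eps k G) a).comp g₁ = (Algebra.ofId k _).comp (eps k G) := by
        ext y
        simp [g₁, sigma2, Algebra.ofId_apply]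
      have e2 : (sigma2 (eps k G) a).comp g₂ = Ideal.Quotient.mkₐ k _ := by
        ext y
        simp [g₂, sigma2]
      rw [e1, e2, pt_one, _root_.one_mul]
    rw [hΔ, mapK_pt] at h1
    exact congrArg (fun f => f y) (pt_injective k G h1)

/-- **Cartier's theorem**. -/
theorem main353 (K : Type u) [Field K] (G : Over (Spec (CommRingCat.of K))) [GrpObj G]
    [CharZero K] [LocallyOfFiniteType G.hom] : Smooth G.hom := by
  haveI : LocallyOfFiniteType (Red.bc (Spec.map (CommRingCat.ofHom
      (algebraMap K (AlgebraicClosure K)))) G).hom :=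
    inferInstanceAs (LocallyOfFiniteType (pullback.snd _ _))
  exact Groth.Agent.Lib.GrpSmooth2H4.main14588 K G (closedPoint (AlgebraicClosure K))
    (isReduced_stalk (AlgebraicClosure K) (Red.bc (Spec.map (CommRingCat.ofHom
      (algebraMap K (AlgebraicClosure K)))) G))

end Groth.Agent.Lib.CartierGrpH6
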