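import Mathlib

/-!
# `p`-generators and Kähler differentials in characteristic `p`
-/

set_option autoImplicit false
set_option maxSynthPendingDepth 3

namespace Groth.Agent.Lib.PBasisH3

universe u

/-- Field case: a finite unramified algebra over a field all of whose `p`-th powers come from the
field (and in which `p = 0`) is a quotient of the field. -/
theorem surjective_of_field (p : ℕ) [hp : Fact p.Prime] (κ E : Type*) [Field κ] [CommRing E]
    [Algebra κ E] [Module.Finite κ E] [Algebra.FormallyUnramified κ E]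
    (hp0 : (p : E) = 0) (hpow : ∀ z : E, z ^ p ∈ Set.range (algebraMap κ E)) :
    Function.Surjective (algebraMap κ E) := by
  rcases subsingleton_or_nontrivial E with hE | hE
  · intro z
    exact ⟨0, Subsingleton.elim _ _⟩
  haveI : CharP E p := (CharP.charP_iff_prime_eq_zero hp.out).2 hp0
  haveI : CharP κ p := (RingHom.charP_iff (algebraMap κ E) (algebraMap κ E).injective p).2 inferInstance
  haveI : ExpChar κ p := ExpChar.prime hp.out
  haveI : IsReduced E := Algebra.FormallyUnramified.isReduced_of_field κ E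
  obtain ⟨M, hM⟩ := Ideal.exists_maximal E
  haveI := hM
  letI : Field (E ⧸ M) := Ideal.Quotient.field M
  haveI : Algebra.IsSeparable κ (E ⧸ M) := Algebra.FormallyUnramified.isSeparable κ (E ⧸ M)
  haveI : IsPurelyInseparable κ (E ⧸ M) := by
    rw [isPurelyInseparable_iff_pow_mem κ p]
    intro x
    obtain ⟨z, rfl⟩ := Ideal.Quotient.mk_surjective x
    obtain ⟨c, hc⟩ := hpow z
    refine ⟨1, c, ?_⟩
    rw [pow_one, ← map_pow, ← hc]
    rfl
  have hsurj := IsPurelyInseparable.surjective_algebraMap_of_isSeparable κ (E ⧸ M)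
  intro z
  obtain ⟨c, hc⟩ := hsurj (Ideal.Quotient.mk M z)
  have hmem : z - algebraMap κ E c ∈ M := by
    rw [← Ideal.Quotient.eq]
    exact hc.symm
  obtain ⟨c', hc'⟩ := hpow z
  have hw : (z - algebraMap κ E c) ^ p = algebraMap κ E (c' - c ^ p) := by
    rw [sub_pow_char, map_sub, map_pow, hc']
  have hd : c' - c ^ p = 0 := by
    by_contra hne
    have hunit : IsUnit (algebraMap κ E (c' - c ^ p)) := (IsUnit.mk0 _ hne).map _
    have : algebraMap κ E (c' - c ^ p) ∈ M := by
      rw [← hw]
      exact Ideal.pow_mem_of_mem M hmem p hp.out.pos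
    exact hM.ne_top (Ideal.eq_top_of_isUnit_mem M this hunit)
  rw [hd, map_zero] at hw
  have h0 : z - algebraMap κ E c = 0 := pow_eq_zero_iff hp.out.ne_zero |>.1 hw
  exact ⟨c, (sub_eq_zero.1 h0).symm⟩


/-- Core: a finite type unramified algebra `C → B` with `p = 0` in `B` and all `p`-th powers of `B`
in the image of `C` is a quotient of `C`. -/
theorem surjective_of_pow_mem (p : ℕ) [hp : Fact p.Prime] (C B : Type*) [CommRing C] [CommRing B]
    [Algebra C B] [Algebra.FiniteType C B] [Algebra.FormallyUnramified C B]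
    (hp0 : (p : B) = 0) (hpow : ∀ b : B, b ^ p ∈ Set.range (algebraMap C B)) :
    Function.Surjective (algebraMap C B) := by
  haveI : Algebra.IsIntegral C B := ⟨fun b => by
    obtain ⟨c, hc⟩ := hpow b
    refine ⟨Polynomial.X ^ p - Polynomial.C c, Polynomial.monic_X_pow_sub_C c hp.out.ne_zero, ?_⟩
    simp [hc]⟩
  haveI : Module.Finite C B := Algebra.IsIntegral.finite
  by_contra hns
  obtain ⟨N, hNdef⟩ : ∃ N : Submodule C B, N = LinearMap.range (Algebra.linearMap C B) := ⟨_, rfl⟩
  have hmemN : ∀ c : C, algebraMap C B c ∈ N := by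
    intro c
    rw [hNdef]
    exact ⟨c, rfl⟩
  have hN : N ≠ ⊤ := by
    intro h
    apply hns
    intro b
    have h1 : b ∈ N := h ▸ Submodule.mem_top
    rw [hNdef] at h1
    obtain ⟨c, hc⟩ := h1
    exact ⟨c, hc⟩
  have hann : Module.annihilator C (B ⧸ N) ≠ ⊤ := by
    intro h
    apply hN
    rw [eq_top_iff]
    intro b _
    have h1 : (1 : C) ∈ Module.annihilator C (B ⧸ N) := h ▸ Submodule.mem_top
    have h2 := Module.mem_annihilator.1 h1 (Submodule.Quotient.mk b)
    rw [one_smul, Submodule.Quotient.mk_eq_zero] at h2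
    exact h2
  obtain ⟨m, hm, hle⟩ := Ideal.exists_le_maximal _ hann
  haveI := hm
  letI : Field (C ⧸ m) := Ideal.Quotient.field m
  haveI : Module.Finite C (B ⧸ m.map (algebraMap C B)) :=
    Module.Finite.of_surjective (Ideal.Quotient.mkₐ C (m.map (algebraMap C B))).toLinearMap
      Ideal.Quotient.mk_surjective
  haveI : Module.Finite (C ⧸ m) (B ⧸ m.map (algebraMap C B)) :=
    Module.Finite.of_restrictScalars_finite C _ _
  haveI : Algebra.FormallyUnramified (C ⧸ m) (B ⧸ m.map (algebraMap C B)) :=
    Algebra.FormallyUnramified.of_restrictScalars C _ _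
  have hsurj : Function.Surjective (algebraMap (C ⧸ m) (B ⧸ m.map (algebraMap C B))) := by
    apply surjective_of_field p
    · have : ((p : B ⧸ m.map (algebraMap C B))) = Ideal.Quotient.mk _ (p : B) := by
        simp
      rw [this, hp0, map_zero]
    · intro z
      obtain ⟨b, rfl⟩ := Ideal.Quotient.mk_surjective z
      obtain ⟨c, hc⟩ := hpow b
      refine ⟨Ideal.Quotient.mk m c, ?_⟩
      rw [← map_pow, ← hc]
      rfl
  have hsm : (⊤ : Submodule C (B ⧸ N)) ≤ m • ⊤ := by
    rintro x -
    obtain ⟨b, rfl⟩ := Submodule.Quotient.mk_surjective N x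
    obtain ⟨k, hk⟩ := hsurj (Ideal.Quotient.mk _ b)
    obtain ⟨c, rfl⟩ := Ideal.Quotient.mk_surjective k
    have h1 : b - algebraMap C B c ∈ m.map (algebraMap C B) := by
      rw [← Ideal.Quotient.eq]
      exact hk.symm
    have h2 : b - algebraMap C B c ∈ m • (⊤ : Submodule C B) := by
      rw [Ideal.smul_top_eq_map]
      exact h1
    have h3 : (Submodule.Quotient.mk b : B ⧸ N) = Submodule.Quotient.mk (b - algebraMap C B c) := by
      rw [Submodule.Quotient.eq]
      simpa using hmemN c
    rw [h3]
    have h4 := Submodule.mem_map_of_mem (f := N.mkQ) h2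
    rw [Submodule.map_smul'', Submodule.map_top, Submodule.range_mkQ] at h4
    exact h4
  obtain ⟨r, hr1, hr2⟩ := Submodule.exists_sub_one_mem_and_smul_eq_zero_of_fg_of_le_smul m
    (⊤ : Submodule C (B ⧸ N)) Module.Finite.fg_top hsm
  have hr : r ∈ Module.annihilator C (B ⧸ N) :=
    Module.mem_annihilator.2 (fun x => hr2 x trivial)
  have h1 : (1 : C) ∈ m := by
    have := m.sub_mem (hle hr) hr1
    simpa using this
  exact hm.ne_top ((Ideal.eq_top_iff_one _).2 h1)


open scoped KaehlerDifferential

/-- If `Ω_{B/A} = 0`, `B` of finite type over `A` and of characteristic `p`, then `B = A[B^p]`. -/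
theorem adjoin_pow_eq_top (p : ℕ) [hp : Fact p.Prime] {A B : Type*} [CommRing A] [CommRing B]
    [Algebra A B] [CharP B p] [Algebra.FiniteType A B] [Subsingleton (Ω[B⁄A])] :
    Algebra.adjoin A (Set.range fun b : B => b ^ p) = ⊤ := by
  obtain ⟨C, hC⟩ : ∃ C : Subalgebra A B, C = Algebra.adjoin A (Set.range fun b : B => b ^ p) :=
    ⟨_, rfl⟩
  rw [← hC]
  haveI : Algebra.FormallyUnramified A B := ⟨inferInstance⟩
  haveI : Algebra.FiniteType C B := Algebra.FiniteType.of_restrictScalars_finiteType A C B
  haveI : Algebra.FormallyUnramified C B := Algebra.FormallyUnramified.of_restrictScalars A C B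
  have hsurj : Function.Surjective (algebraMap C B) := by
    apply surjective_of_pow_mem p C B (CharP.cast_eq_zero B p)
    intro b
    refine ⟨⟨b ^ p, ?_⟩, rfl⟩
    rw [hC]
    exact Algebra.subset_adjoin ⟨b, rfl⟩
  rw [eq_top_iff]
  intro b _
  obtain ⟨c, rfl⟩ := hsurj b
  exact c.2

/-- S2485 in library form. -/
theorem surjective_of_pow_pow_mem (p : ℕ) [hp : Fact p.Prime] {A B : Type*} [CommRing A]
    [CommRing B] [Algebra A B] [CharP B p] [Algebra.FiniteType A B] [Subsingleton (Ω[B⁄A])]
    (s : ℕ) (hpow : ∀ b : B, b ^ p ^ s ∈ Set.range (algebraMap A B)) :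
    Function.Surjective (algebraMap A B) := by
  induction s with
  | zero =>
    intro b
    have := hpow b
    rwa [pow_zero, pow_one] at this
  | succ s ih =>
    apply ih
    intro b
    have hb : b ∈ Algebra.adjoin A (Set.range fun b : B => b ^ p) := by
      rw [adjoin_pow_eq_top p]
      exact Algebra.mem_top
    induction hb using Algebra.adjoin_induction with
    | mem x hx =>
      obtain ⟨y, rfl⟩ := hx
      have := hpow y
      rwa [pow_succ', pow_mul] at this
    | algebraMap a => exact ⟨a ^ p ^ s, by rw [map_pow]⟩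
    | add x y _ _ hx hy =>
      obtain ⟨a, ha⟩ := hx
      obtain ⟨a', ha'⟩ := hy
      exact ⟨a + a', by rw [map_add, ha, ha', add_pow_char_pow]⟩
    | mul x y _ _ hx hy =>
      obtain ⟨a, ha⟩ := hx
      obtain ⟨a', ha'⟩ := hy
      exact ⟨a * a', by rw [map_mul, ha, ha', mul_pow]⟩

end Groth.Agent.Lib.PBasisH3
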