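import Groth.Prelude.Def_EGA41
import Groth.Agent.Lib.PBasis_helper3

/-!
# `p`-generators: adjoin form, monomial-span form and Kähler differentials
-/

set_option autoImplicit false
set_option maxSynthPendingDepth 3

namespace Groth.Agent.Lib.PBasisH3

universe u

open EGA41 KaehlerDifferential

variable (p : ℕ) [hp : Fact p.Prime] {A B : Type u} [CommRing A] [CommRing B] [Algebra A B]
  {ι : Type u} (x : ι → B)

omit hp in
theorem pow_mem_pPower (b : B) : b ^ p ∈ pPowerSubalgebra p A B :=
  Algebra.subset_adjoin ⟨b, rfl⟩

/-- the span of the reduced monomials -/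
abbrev redSpan : Submodule (pPowerSubalgebra p A B) B :=
  Submodule.span _ (Set.range fun e : {e : ι →₀ ℕ // ∀ i, e i < p} => pMonomial x e.1)

theorem x_mul_mem_redSpan (i : ι) (m : B) (hm : m ∈ redSpan p (A := A) x) :
    x i * m ∈ redSpan p (A := A) x := by
  classical
  induction hm using Submodule.span_induction with
  | mem m hm =>
    obtain ⟨⟨e, he⟩, rfl⟩ := hm
    by_cases h : e i + 1 < p
    · have h1 : x i * pMonomial x e = pMonomial x (e + Finsupp.single i 1) := by
        unfold pMonomial
        rw [Finsupp.prod_add_index' (by simp) (by intros; rw [pow_add]),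
          Finsupp.prod_single_index (by simp), pow_one, mul_comm]
      rw [h1]
      refine Submodule.subset_span ⟨⟨e + Finsupp.single i 1, ?_⟩, rfl⟩
      intro j
      by_cases hj : j = i
      · subst hj
        simpa using h
      · have h2 : (Finsupp.single i 1 : ι →₀ ℕ) j = 0 := by
          rw [Finsupp.single_apply, if_neg (Ne.symm hj)]
        rw [Finsupp.add_apply, h2, add_zero]
        exact he j
    · have hei : e i = p - 1 := by
        have := he i
        omega
      have h1 : x i * pMonomial x e =
          (⟨x i ^ p, pow_mem_pPower p (x i)⟩ : pPowerSubalgebra p A B) • pMonomial x (e.erase i) := by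
        unfold pMonomial
        rw [← Finsupp.mul_prod_erase' e i _ (by simp)]
        rw [hei, ← mul_assoc, ← pow_succ', Nat.sub_add_cancel hp.out.one_le]
        rfl
      rw [h1]
      refine Submodule.smul_mem _ _ (Submodule.subset_span ⟨⟨e.erase i, ?_⟩, rfl⟩)
      intro j
      rw [Finsupp.erase_apply]
      split_ifs
      · exact hp.out.pos
      · exact he j
  | zero => simp
  | add a b _ _ ha hb =>
    rw [mul_add]
    exact add_mem ha hb
  | smul c m _ hm =>
    rw [mul_smul_comm]
    exact Submodule.smul_mem _ _ hm

theorem adjoin_eq_top_iff :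
    Algebra.adjoin (pPowerSubalgebra p A B) (Set.range x) = ⊤ ↔ IsPGenerating p A x := by
  constructor
  · intro h
    unfold IsPGenerating
    rw [eq_top_iff]
    intro b _
    have key : ∀ b ∈ Algebra.adjoin (pPowerSubalgebra p A B) (Set.range x),
        ∀ m ∈ redSpan p (A := A) x, b * m ∈ redSpan p (A := A) x := by
      intro b hb
      induction hb using Algebra.adjoin_induction with
      | mem b hb =>
        obtain ⟨i, rfl⟩ := hb
        exact fun m hm => x_mul_mem_redSpan p x i m hm
      | algebraMap c =>
        intro m hm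
        rw [← Algebra.smul_def]
        exact Submodule.smul_mem _ _ hm
      | add a b _ _ ha hb =>
        intro m hm
        rw [add_mul]
        exact add_mem (ha m hm) (hb m hm)
      | mul a b _ _ ha hb =>
        intro m hm
        rw [mul_assoc]
        exact ha _ (hb m hm)
    have h1 : (1 : B) ∈ redSpan p (A := A) x :=
      Submodule.subset_span ⟨⟨0, fun i => by simpa using hp.out.pos⟩, by simp [pMonomial]⟩
    have h2 := key b (h ▸ Algebra.mem_top) 1 h1
    rwa [mul_one] at h2
  · intro h
    rw [eq_top_iff]
    intro b _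
    have hb : b ∈ redSpan p (A := A) x := by
      unfold IsPGenerating at h
      show b ∈ Submodule.span (↥(pPowerSubalgebra p A B))
        (Set.range fun e : {e : ι →₀ ℕ // ∀ i, e i < p} => pMonomial x e.1)
      rw [h]
      trivial
    have hle : redSpan p (A := A) x ≤
        Subalgebra.toSubmodule (Algebra.adjoin (pPowerSubalgebra p A B) (Set.range x)) := by
      rw [Submodule.span_le]
      rintro _ ⟨⟨e, he⟩, rfl⟩
      show pMonomial x e ∈ Algebra.adjoin (pPowerSubalgebra p A B) (Set.range x)
      unfold pMonomial
      exact Subalgebra.prod_mem _ (fun i _ => Subalgebra.pow_mem _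
        (Algebra.subset_adjoin (Set.mem_range_self i)) _)
    exact hle hb


variable [CharP B p]

omit hp in
theorem D_eq_zero_of_mem_pPower (c : B) (hc : c ∈ pPowerSubalgebra p A B) : D A B c = 0 := by
  induction hc using Algebra.adjoin_induction with
  | mem c hc =>
    obtain ⟨y, rfl⟩ := hc
    rw [Derivation.leibniz_pow, ← Nat.cast_smul_eq_nsmul B, CharP.cast_eq_zero, zero_smul]
  | algebraMap a => exact Derivation.map_algebraMap _ a
  | add a b _ _ ha hb => rw [map_add, ha, hb, add_zero]
  | mul a b _ _ ha hb => rw [Derivation.leibniz, ha, hb, smul_zero, smul_zero, add_zero]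

omit hp in
theorem span_D_eq_top_of_isPGenerating (h : IsPGenerating p A x) :
    Submodule.span B (Set.range fun i => D A B (x i)) = ⊤ := by
  obtain ⟨W, hW⟩ : ∃ W : Submodule B (Ω[B⁄A]), W = Submodule.span B (Set.range fun i => D A B (x i)) :=
    ⟨_, rfl⟩
  rw [← hW, eq_top_iff, ← KaehlerDifferential.span_range_derivation A B, Submodule.span_le]
  rintro _ ⟨b, rfl⟩
  have hb : b ∈ redSpan p (A := A) x := by
    unfold IsPGenerating at h
    show b ∈ Submodule.span (↥(pPowerSubalgebra p A B))
      (Set.range fun e : {e : ι →₀ ℕ // ∀ i, e i < p} => pMonomial x e.1)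
    rw [h]
    trivial
  show D A B b ∈ W
  induction hb using Submodule.span_induction with
  | mem m hm =>
    obtain ⟨⟨e, he⟩, rfl⟩ := hm
    let T : Submonoid B :=
      { carrier := {b | D A B b ∈ W}
        one_mem' := by
          show D A B 1 ∈ W
          rw [Derivation.map_one_eq_zero]
          exact W.zero_mem
        mul_mem' := fun {a b} ha hb => by
          show D A B (a * b) ∈ W
          rw [Derivation.leibniz]
          exact add_mem (W.smul_mem _ hb) (W.smul_mem _ ha) }
    have hxi : ∀ i, x i ∈ T := fun i => by
      show D A B (x i) ∈ W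
      rw [hW]
      exact Submodule.subset_span ⟨i, rfl⟩
    have : pMonomial x e ∈ T := by
      unfold pMonomial
      exact Submonoid.prod_mem _ (fun i _ => Submonoid.pow_mem _ (hxi i) _)
    exact this
  | zero =>
    rw [map_zero]
    exact W.zero_mem
  | add a b _ _ ha hb =>
    rw [map_add]
    exact add_mem ha hb
  | smul c m _ hm =>
    have h1 : c • m = (c : B) * m := rfl
    rw [h1, Derivation.leibniz, D_eq_zero_of_mem_pPower p (c : B) c.2, smul_zero, add_zero]
    exact W.smul_mem _ hm

theorem isPGenerating_of_span_D_eq_top [Algebra.FiniteType (pPowerSubalgebra p A B) B]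
    (h : Submodule.span B (Set.range fun i => D A B (x i)) = ⊤) : IsPGenerating p A x := by
  rw [← adjoin_eq_top_iff]
  obtain ⟨C, hC⟩ : ∃ C : Subalgebra A B, C = pPowerSubalgebra p A B := ⟨_, rfl⟩
  haveI : Algebra.FiniteType C B := by rw [hC]; infer_instance
  rw [← hC]
  obtain ⟨C', hC'⟩ : ∃ C' : Subalgebra C B, C' = Algebra.adjoin C (Set.range x) := ⟨_, rfl⟩
  rw [← hC']
  haveI : Algebra.FiniteType C' B := Algebra.FiniteType.of_restrictScalars_finiteType C C' B
  haveI : Algebra.FormallyUnramified C' B := by
    constructor
    let f : Ω[B⁄A] →ₗ[B] Ω[B⁄C'] := ((D C' B).restrictScalars A).liftKaehlerDifferential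
    have hf : ∀ b, f (D A B b) = D C' B b := fun b =>
      Derivation.liftKaehlerDifferential_comp_D _ b
    have hf0 : f = 0 := by
      refine LinearMap.ext_on h ?_
      rintro _ ⟨i, rfl⟩
      rw [hf, LinearMap.zero_apply]
      have hxi : x i ∈ C' := by
        rw [hC']
        exact Algebra.subset_adjoin ⟨i, rfl⟩
      exact (D C' B).map_algebraMap ⟨x i, hxi⟩
    have hD0 : ∀ b, D C' B b = 0 := fun b => by rw [← hf, hf0]; rfl
    have hall : ∀ ω : Ω[B⁄C'], ω = 0 := by
      intro ω
      have hω : ω ∈ Submodule.span B (Set.range (D C' B)) := by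
        rw [KaehlerDifferential.span_range_derivation]
        trivial
      induction hω using Submodule.span_induction with
      | mem ω hω =>
        obtain ⟨b, rfl⟩ := hω
        exact hD0 b
      | zero => rfl
      | add a b _ _ ha hb => rw [ha, hb, add_zero]
      | smul c m _ hm => rw [hm, smul_zero]
    exact subsingleton_of_forall_eq 0 hall
  have hsurj : Function.Surjective (algebraMap C' B) := by
    apply surjective_of_pow_mem p C' B (CharP.cast_eq_zero B p)
    intro b
    have hbC : b ^ p ∈ C := by
      rw [hC]
      exact pow_mem_pPower p b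
    exact ⟨algebraMap C C' ⟨b ^ p, hbC⟩, rfl⟩
  rw [eq_top_iff]
  intro b _
  obtain ⟨c, rfl⟩ := hsurj b
  exact c.2

end Groth.Agent.Lib.PBasisH3
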