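import Groth.Prelude.Def_EGA41
import Groth.Agent.Lib.PBasis2_helper3

/-!
# Universal property of an algebra with a `p`-basis
-/

set_option autoImplicit false
set_option maxSynthPendingDepth 3

namespace Groth.Agent.Lib.PBasisH3

universe u

open EGA41

section General

variable (p : ℕ) [hp : Fact p.Prime] {C B : Type u} [CommRing C] [CommRing B] [Algebra C B]
  {ι : Type u} (x : ι → B)

/-- the family of reduced monomials -/
noncomputable abbrev redMon : {e : ι →₀ ℕ // ∀ i, e i < p} → B := fun e => pMonomial x e.1

theorem mul_mem_span_red (hx : ∀ i, x i ^ p ∈ Set.range (algebraMap C B)) (i : ι) (m : B)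
    (hm : m ∈ Submodule.span C (Set.range (redMon p x))) :
    x i * m ∈ Submodule.span C (Set.range (redMon p x)) := by
  classical
  induction hm using Submodule.span_induction with
  | mem m hm =>
    obtain ⟨⟨e, he⟩, rfl⟩ := hm
    by_cases h : e i + 1 < p
    · have h1 : x i * pMonomial x e = pMonomial x (e + Finsupp.single i 1) := by
        unfold pMonomial
        rw [Finsupp.prod_add_index' (by simp) (by intros; rw [pow_add]),
          Finsupp.prod_single_index (by simp), pow_one, mul_comm]
      show x i * pMonomial x e ∈ _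
      rw [h1]
      refine Submodule.subset_span ⟨⟨e + Finsupp.single i 1, ?_⟩, rfl⟩
      intro j
      by_cases hj : j = i
      · subst hj
        simpa using h
      · have h2 : (Finsupp.single i 1 : ι →₀ ℕ) j = 0 := by
          rw [Finsupp.single_apply, if_neg (Ne.symm hj)]
        rw [Finsupp.add_apply, h2, add_zero]
        exact he j
    · have hei : e i = p - 1 := by
        have := he i
        omega
      obtain ⟨c, hc⟩ := hx i
      have h1 : x i * pMonomial x e = c • pMonomial x (e.erase i) := by
        unfold pMonomial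
        rw [← Finsupp.mul_prod_erase' e i _ (by simp)]
        rw [hei, ← mul_assoc, ← pow_succ', Nat.sub_add_cancel hp.out.one_le, ← hc,
          Algebra.smul_def]
      show x i * pMonomial x e ∈ _
      rw [h1]
      refine Submodule.smul_mem _ _ (Submodule.subset_span ⟨⟨e.erase i, ?_⟩, rfl⟩)
      intro j
      rw [Finsupp.erase_apply]
      split_ifs
      · exact hp.out.pos
      · exact he j
  | zero => simp
  | add a b _ _ ha hb =>
    rw [mul_add]
    exact add_mem ha hb
  | smul c m _ hm =>
    rw [mul_smul_comm]
    exact Submodule.smul_mem _ _ hm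

theorem span_red_eq_top (hx : ∀ i, x i ^ p ∈ Set.range (algebraMap C B))
    (hadj : Algebra.adjoin C (Set.range x) = ⊤) :
    Submodule.span C (Set.range (redMon p x)) = ⊤ := by
  rw [eq_top_iff]
  intro b _
  have key : ∀ b ∈ Algebra.adjoin C (Set.range x),
      ∀ m ∈ Submodule.span C (Set.range (redMon p x)),
        b * m ∈ Submodule.span C (Set.range (redMon p x)) := by
    intro b hb
    induction hb using Algebra.adjoin_induction with
    | mem b hb =>
      obtain ⟨i, rfl⟩ := hb
      exact fun m hm => mul_mem_span_red p x hx i m hm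
    | algebraMap c =>
      intro m hm
      rw [← Algebra.smul_def]
      exact Submodule.smul_mem _ _ hm
    | add a b _ _ ha hb =>
      intro m hm
      rw [add_mul]
      exact add_mem (ha m hm) (hb m hm)
    | mul a b _ _ ha hb =>
      intro m hm
      rw [mul_assoc]
      exact ha _ (hb m hm)
  have h1 : (1 : B) ∈ Submodule.span C (Set.range (redMon p x)) :=
    Submodule.subset_span ⟨⟨0, fun i => by simpa using hp.out.pos⟩, by simp [pMonomial]⟩
  have h2 := key b (hadj ▸ Algebra.mem_top) 1 h1
  rwa [mul_one] at h2

omit hp in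
theorem adjoin_eq_top_of_span_red (hsp : Submodule.span C (Set.range (redMon p x)) = ⊤) :
    Algebra.adjoin C (Set.range x) = ⊤ := by
  rw [eq_top_iff]
  intro b _
  have hb : b ∈ Submodule.span C (Set.range (redMon p x)) := by
    rw [hsp]
    trivial
  have hle : Submodule.span C (Set.range (redMon p x)) ≤
      Subalgebra.toSubmodule (Algebra.adjoin C (Set.range x)) := by
    rw [Submodule.span_le]
    rintro _ ⟨⟨e, he⟩, rfl⟩
    show pMonomial x e ∈ Algebra.adjoin C (Set.range x)
    unfold pMonomial
    exact Subalgebra.prod_mem _ (fun i _ => Subalgebra.pow_mem _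
      (Algebra.subset_adjoin (Set.mem_range_self i)) _)
  exact hle hb

omit hp in
theorem map_pMonomial {E : Type u} [CommRing E] (f : B →+* E) (e : ι →₀ ℕ) :
    f (pMonomial x e) = pMonomial (fun i => f (x i)) e := by
  unfold pMonomial
  rw [map_finsuppProd]
  simp only [map_pow]

end General


section UP

variable (p : ℕ) [hp : Fact p.Prime] {C B : Type u} [CommRing C] [CommRing B] [Algebra C B]
  {ι : Type u} (x : ι → B) (a : ι → C) (ha : ∀ i, algebraMap C B (a i) = x i ^ p)
  (hli : LinearIndependent C (redMon p x))
  (hsp : Submodule.span C (Set.range (redMon p x)) = ⊤)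

/-- the ideal of relations `T_i^p - a_i` -/
noncomputable def relIdeal : Ideal (MvPolynomial ι C) :=
  Ideal.span (Set.range fun i => (MvPolynomial.X i : MvPolynomial ι C) ^ p - MvPolynomial.C (a i))

include ha hli hsp in
/-- Universal property: algebra maps out of `B` are determined by images `z i` of the `x i`
subject to `z i ^ p = a i`. -/
theorem existsUnique_algHom {E : Type u} [CommRing E] [Algebra C E] (z : ι → E)
    (hz : ∀ i, z i ^ p = algebraMap C E (a i)) :
    ∃! v : B →ₐ[C] E, ∀ i, v (x i) = z i := by
  classical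
  -- the quotient
  let Q := MvPolynomial ι C ⧸ relIdeal p a
  let t : ι → Q := fun i => Ideal.Quotient.mk _ (MvPolynomial.X i)
  have ht : ∀ i, t i ^ p = algebraMap C Q (a i) := by
    intro i
    show Ideal.Quotient.mk _ (MvPolynomial.X i) ^ p = Ideal.Quotient.mk _ (MvPolynomial.C (a i))
    rw [← map_pow, Ideal.Quotient.eq]
    exact Ideal.subset_span ⟨i, rfl⟩
  have hadjQ : Algebra.adjoin C (Set.range t) = ⊤ := by
    have h1 : (Ideal.Quotient.mkₐ C (relIdeal p a)).range = ⊤ := by
      rw [AlgHom.range_eq_top]
      exact Ideal.Quotient.mkₐ_surjective C _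
    have h2 : Set.range t = (Ideal.Quotient.mkₐ C (relIdeal p a)) ''
        (Set.range (MvPolynomial.X : ι → MvPolynomial ι C)) := by
      rw [← Set.range_comp]
      rfl
    rw [h2, ← AlgHom.map_adjoin, MvPolynomial.adjoin_range_X, Algebra.map_top, h1]
  have hQsp : Submodule.span C (Set.range (redMon p t)) = ⊤ :=
    span_red_eq_top p t (fun i => ⟨a i, (ht i).symm⟩) hadjQ
  -- the map to B
  have hker : ∀ f ∈ relIdeal p a, (MvPolynomial.aeval x : MvPolynomial ι C →ₐ[C] B) f = 0 := by
    intro f hf
    have hle : relIdeal p a ≤ RingHom.ker (MvPolynomial.aeval x : MvPolynomial ι C →ₐ[C] B) := by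
      unfold relIdeal
      rw [Ideal.span_le]
      rintro _ ⟨i, rfl⟩
      show (MvPolynomial.aeval x) (MvPolynomial.X i ^ p - MvPolynomial.C (a i)) = 0
      rw [map_sub, map_pow, MvPolynomial.aeval_X, MvPolynomial.aeval_C, ha, sub_self]
    exact hle hf
  let π : Q →ₐ[C] B := Ideal.Quotient.liftₐ (relIdeal p a) (MvPolynomial.aeval x) hker
  have hπt : ∀ i, π (t i) = x i := by
    intro i
    show (Ideal.Quotient.liftₐ (relIdeal p a) (MvPolynomial.aeval x) hker)
      (Ideal.Quotient.mk _ (MvPolynomial.X i)) = x i
    rw [Ideal.Quotient.liftₐ_apply, Ideal.Quotient.lift_mk]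
    exact MvPolynomial.aeval_X x i
  have hπmon : ∀ e : ι →₀ ℕ, π (pMonomial t e) = pMonomial x e := by
    intro e
    have := map_pMonomial t π.toRingHom e
    simp only [AlgHom.toRingHom_eq_coe, RingHom.coe_coe, hπt] at this
    exact this
  have hπinj : Function.Injective π := by
    rw [injective_iff_map_eq_zero]
    intro f hf
    have hfmem : f ∈ Submodule.span C (Set.range (redMon p t)) := by
      rw [hQsp]
      trivial
    obtain ⟨c, rfl⟩ := Finsupp.mem_span_range_iff_exists_finsupp.1 hfmem
    have h1 : Finsupp.linearCombination C (redMon p x) c = 0 := by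
      rw [Finsupp.linearCombination_apply]
      rw [← hf, Finsupp.sum, Finsupp.sum, map_sum]
      refine Finset.sum_congr rfl fun e _ => ?_
      rw [map_smul]
      congr 1
      exact (hπmon e.1).symm
    have hc : c = 0 := linearIndependent_iff.1 hli c h1
    rw [hc]
    simp
  have hπsurj : Function.Surjective π := by
    intro b
    have hb : b ∈ Submodule.span C (Set.range (redMon p x)) := by
      rw [hsp]
      trivial
    obtain ⟨c, rfl⟩ := Finsupp.mem_span_range_iff_exists_finsupp.1 hb
    refine ⟨c.sum fun e r => r • pMonomial t e.1, ?_⟩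
    rw [Finsupp.sum, Finsupp.sum, map_sum]
    refine Finset.sum_congr rfl fun e _ => ?_
    rw [map_smul, hπmon]
  let ψ : Q ≃ₐ[C] B := AlgEquiv.ofBijective π ⟨hπinj, hπsurj⟩
  -- the map to E
  have hkerE : ∀ f ∈ relIdeal p a, (MvPolynomial.aeval z : MvPolynomial ι C →ₐ[C] E) f = 0 := by
    intro f hf
    have hle : relIdeal p a ≤ RingHom.ker (MvPolynomial.aeval z : MvPolynomial ι C →ₐ[C] E) := by
      unfold relIdeal
      rw [Ideal.span_le]
      rintro _ ⟨i, rfl⟩
      show (MvPolynomial.aeval z) (MvPolynomial.X i ^ p - MvPolynomial.C (a i)) = 0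
      rw [map_sub, map_pow, MvPolynomial.aeval_X, MvPolynomial.aeval_C, hz, sub_self]
    exact hle hf
  let w : Q →ₐ[C] E := Ideal.Quotient.liftₐ (relIdeal p a) (MvPolynomial.aeval z) hkerE
  have hwt : ∀ i, w (t i) = z i := by
    intro i
    show (Ideal.Quotient.liftₐ (relIdeal p a) (MvPolynomial.aeval z) hkerE)
      (Ideal.Quotient.mk _ (MvPolynomial.X i)) = z i
    rw [Ideal.Quotient.liftₐ_apply, Ideal.Quotient.lift_mk]
    exact MvPolynomial.aeval_X z i
  refine ⟨w.comp ψ.symm.toAlgHom, ?_, ?_⟩
  · intro i
    have h1 : ψ.symm (x i) = t i := by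
      rw [AlgEquiv.symm_apply_eq]
      exact (hπt i).symm
    show w (ψ.symm (x i)) = z i
    rw [h1, hwt]
  · intro v hv
    have hadjB : Algebra.adjoin C (Set.range x) = ⊤ := adjoin_eq_top_of_span_red p x hsp
    apply AlgHom.ext_of_adjoin_eq_top hadjB
    rintro _ ⟨i, rfl⟩
    rw [hv i]
    have h1 : ψ.symm (x i) = t i := by
      rw [AlgEquiv.symm_apply_eq]
      exact (hπt i).symm
    show z i = w (ψ.symm (x i))
    rw [h1, hwt]

end UP


section Base

variable (p : ℕ) [hp : Fact p.Prime] {A B : Type u} [CommRing A] [CommRing B] [Algebra A B]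
  {ι : Type u} (x : ι → B)

omit hp in
/-- If `A → B` is injective with image containing all `p`-th powers, a `p`-basis over `A` gives
an honest `A`-basis of reduced monomials. -/
theorem isPBasis_base (hinj : Function.Injective (algebraMap A B))
    (hpow : ∀ b : B, b ^ p ∈ Set.range (algebraMap A B)) (hx : IsPBasis p A x) :
    LinearIndependent A (redMon p x) ∧ Submodule.span A (Set.range (redMon p x)) = ⊤ := by
  have hsurj : Function.Surjective (algebraMap A (pPowerSubalgebra p A B)) := by
    rintro ⟨c, hc⟩
    have h1 : c ∈ Set.range (algebraMap A B) := by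
      unfold pPowerSubalgebra at hc
      induction hc using Algebra.adjoin_induction with
      | mem c hc =>
        obtain ⟨y, rfl⟩ := hc
        exact hpow y
      | algebraMap r => exact ⟨r, rfl⟩
      | add c d _ _ hc hd =>
        obtain ⟨r, rfl⟩ := hc
        obtain ⟨r', rfl⟩ := hd
        exact ⟨r + r', map_add _ _ _⟩
      | mul c d _ _ hc hd =>
        obtain ⟨r, rfl⟩ := hc
        obtain ⟨r', rfl⟩ := hd
        exact ⟨r * r', map_mul _ _ _⟩
    obtain ⟨r, hr⟩ := h1
    exact ⟨r, Subtype.ext hr⟩
  have hinj' : Function.Injective (algebraMap A (pPowerSubalgebra p A B)) := by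
    intro r r' h
    apply hinj
    exact congrArg Subtype.val h
  constructor
  · have h1 : LinearIndependent (pPowerSubalgebra p A B) (redMon p x) := hx.1
    refine h1.restrict_scalars ?_
    intro r r' h
    apply hinj'
    simpa [Algebra.smul_def] using h
  · have h2 : Submodule.span (pPowerSubalgebra p A B) (Set.range (redMon p x)) = ⊤ := hx.2
    rw [← Submodule.restrictScalars_span A (pPowerSubalgebra p A B) hsurj, h2]
    rfl

end Base

end Groth.Agent.Lib.PBasisH3
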