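import Groth.Prelude.Def_EGA41
import Groth.Agent.Lib.PBasis3_helper3

/-!
# Derivations of an algebra with a `p`-basis
-/

set_option autoImplicit false
set_option maxSynthPendingDepth 3

namespace Groth.Agent.Lib.PBasisH3

universe u

open EGA41 TrivSqZeroExt

section Der

variable (p : ℕ) [hp : Fact p.Prime] {C B : Type u} [CommRing C] [CommRing B] [Algebra C B]
  [CharP B p]
  {ι : Type u} (x : ι → B) (a : ι → C) (ha : ∀ i, algebraMap C B (a i) = x i ^ p)
  (hli : LinearIndependent C (redMon p x))
  (hsp : Submodule.span C (Set.range (redMon p x)) = ⊤)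
  (L : Type u) [AddCommGroup L] [Module B L] [Module C L] [IsScalarTower C B L]

include ha hli hsp in
/-- Extension of an additive derivation of `C` to `B` with prescribed values on the `p`-basis. -/
theorem existsUnique_derivation (D : Derivation ℤ C L) (hD : ∀ i, D (a i) = 0) (y : ι → L) :
    ∃! D' : Derivation ℤ B L, (∀ c : C, D' (algebraMap C B c) = D c) ∧ ∀ i, D' (x i) = y i := by
  classical
  letI : Module Bᵐᵒᵖ L := Module.compHom L ((RingHom.id B).fromOpposite (fun _ _ => mul_comm _ _))
  haveI : IsCentralScalar B L := ⟨fun b l => rfl⟩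
  -- the twisted structure map
  let j : C →+* TrivSqZeroExt B L :=
    { toFun := fun c => inl (algebraMap C B c) + inr (D c)
      map_one' := by
        rw [map_one, Derivation.map_one_eq_zero, inr_zero, add_zero, inl_one]
      map_mul' := fun c c' => by
        rw [map_mul, Derivation.leibniz]
        ext
        · simp
        · simp only [snd_add, snd_inl, snd_inr, zero_add, snd_mul, fst_add, fst_inl, fst_inr,
            add_zero, op_smul_eq_smul, algebraMap_smul]
      map_zero' := by
        rw [map_zero, map_zero, inr_zero, add_zero, inl_zero]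
      map_add' := fun c c' => by
        rw [map_add, map_add, inl_add, inr_add]
        abel }
  letI : Algebra C (TrivSqZeroExt B L) := j.toAlgebra
  have hj : ∀ c, algebraMap C (TrivSqZeroExt B L) c = inl (algebraMap C B c) + inr (D c) := fun c => rfl
  let z : ι → TrivSqZeroExt B L := fun i => inl (x i) + inr (y i)
  have hpB : (p : B) = 0 := CharP.cast_eq_zero B p
  have hz : ∀ i, z i ^ p = algebraMap C (TrivSqZeroExt B L) (a i) := by
    intro i
    rw [hj, hD, inr_zero, add_zero, ha]
    ext
    · simp [z]
    · rw [snd_pow, ← Nat.cast_smul_eq_nsmul B, hpB, zero_smul]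
      simp
  obtain ⟨v, hv, hvuniq⟩ := existsUnique_algHom p x a ha hli hsp z hz
  -- first component of v is the identity
  have hfst : ∀ b : B, fst (v b) = b := by
    let f1 : B →ₐ[C] B :=
      { toRingHom := ((fstHom B B L).toRingHom).comp v.toRingHom
        commutes' := fun c => by
          show fst (v (algebraMap C B c)) = algebraMap C B c
          rw [AlgHom.commutes, hj]
          simp }
    have huniq := existsUnique_algHom p x a ha hli hsp x (fun i => (ha i).symm)
    have h1 : f1 = AlgHom.id C B := by
      refine huniq.unique ?_ ?_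
      · intro i
        show fst (v (x i)) = x i
        rw [hv]
        simp [z]
      · intro i
        rfl
    intro b
    exact congrArg (fun g : B →ₐ[C] B => g b) h1
  -- the derivation
  let D' : Derivation ℤ B L :=
    { toLinearMap := (AddMonoidHom.toIntLinearMap
        { toFun := fun b => snd (v b)
          map_zero' := by rw [map_zero, snd_zero]
          map_add' := fun b b' => by rw [map_add, snd_add] })
      map_one_eq_zero' := by
        show snd (v 1) = 0
        rw [map_one, snd_one]
      leibniz' := fun b b' => by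
        show snd (v (b * b')) = b • snd (v b') + b' • snd (v b)
        rw [map_mul, snd_mul, hfst, hfst, op_smul_eq_smul] }
  have hD'apply : ∀ b, D' b = snd (v b) := fun b => rfl
  refine ⟨D', ⟨?_, ?_⟩, ?_⟩
  · intro c
    rw [hD'apply, AlgHom.commutes, hj]
    simp
  · intro i
    rw [hD'apply, hv]
    simp [z]
  · rintro D'' ⟨h1, h2⟩
    have hadjB : Algebra.adjoin C (Set.range x) = ⊤ := adjoin_eq_top_of_span_red p x hsp
    ext b
    have hb : b ∈ Algebra.adjoin C (Set.range x) := hadjB ▸ Algebra.mem_top
    induction hb using Algebra.adjoin_induction with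
    | mem b hb =>
      obtain ⟨i, rfl⟩ := hb
      rw [h2, hD'apply, hv]
      simp [z]
    | algebraMap c =>
      rw [h1, hD'apply, AlgHom.commutes, hj]
      simp
    | add b b' _ _ hb hb' => rw [map_add, map_add, hb, hb']
    | mul b b' _ _ hb hb' => rw [Derivation.leibniz, Derivation.leibniz, hb, hb']

end Der


section Kaehler

open KaehlerDifferential

variable (p : ℕ) [hp : Fact p.Prime] {A B : Type u} [CommRing A] [CommRing B] [Algebra A B]
  [CharP B p] {ι : Type u} (x : ι → B)

/-- S2466 in library form: the differentials of a `p`-basis form a basis of `Ω_{B/A}`. -/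
theorem exists_basis_D (hx : IsPBasis p A x) :
    ∃ b : Module.Basis ι B (Ω[B⁄A]), ∀ i, b i = D A B (x i) := by
  classical
  let a : ι → pPowerSubalgebra p A B := fun i => ⟨x i ^ p, pow_mem_pPower p (x i)⟩
  have ha : ∀ i, algebraMap (pPowerSubalgebra p A B) B (a i) = x i ^ p := fun i => rfl
  have hli : LinearIndependent (pPowerSubalgebra p A B) (redMon p x) := hx.1
  have hsp : Submodule.span (pPowerSubalgebra p A B) (Set.range (redMon p x)) = ⊤ := hx.2
  -- the coordinate derivation
  obtain ⟨Δ0, ⟨hΔ0C, hΔ0x⟩, -⟩ := existsUnique_derivation p x a ha hli hsp (ι →₀ B)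
    (0 : Derivation ℤ (pPowerSubalgebra p A B) (ι →₀ B)) (fun i => rfl)
    (fun i => Finsupp.single i (1 : B))
  let Δ : Derivation A B (ι →₀ B) :=
    { toLinearMap :=
        { toFun := fun b => Δ0 b
          map_add' := fun b b' => map_add Δ0 b b'
          map_smul' := fun r b => by
            show Δ0 (r • b) = r • Δ0 b
            rw [Algebra.smul_def, Derivation.leibniz]
            have h1 : Δ0 (algebraMap A B r) = 0 := by
              have := hΔ0C (algebraMap A (pPowerSubalgebra p A B) r)
              simpa using this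
            rw [h1, smul_zero, add_zero, algebraMap_smul] }
      map_one_eq_zero' := Δ0.map_one_eq_zero
      leibniz' := fun b b' => Δ0.leibniz b b' }
  have hΔ : ∀ b, Δ b = Δ0 b := fun b => rfl
  let φ : (ι →₀ B) →ₗ[B] Ω[B⁄A] := Finsupp.linearCombination B (fun i => D A B (x i))
  let ψ : Ω[B⁄A] →ₗ[B] (ι →₀ B) := Δ.liftKaehlerDifferential
  have hψ : ∀ b, ψ (D A B b) = Δ b := fun b => Derivation.liftKaehlerDifferential_comp_D Δ b
  have hφ : ∀ i, φ (Finsupp.single i 1) = D A B (x i) := fun i => by
    simp [φ]
  have h1 : ψ.comp φ = LinearMap.id := by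
    apply Finsupp.lhom_ext'
    intro i
    apply LinearMap.ext_ring
    show ψ (φ (Finsupp.single i 1)) = Finsupp.single i 1
    rw [hφ, hψ, hΔ, hΔ0x]
  have h2 : φ.comp ψ = LinearMap.id := by
    apply Derivation.liftKaehlerDifferential_unique
    ext b
    show φ (ψ (D A B b)) = D A B b
    rw [hψ, hΔ]
    -- two ℤ-derivations into Ω agreeing on C and on the x i
    have huniq := existsUnique_derivation p x a ha hli hsp (Ω[B⁄A])
      (0 : Derivation ℤ (pPowerSubalgebra p A B) (Ω[B⁄A])) (fun i => rfl)
      (fun i => D A B (x i))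
    let d1 : Derivation ℤ B (Ω[B⁄A]) := (D A B).restrictScalars ℤ
    let d2 : Derivation ℤ B (Ω[B⁄A]) := φ.compDer Δ0
    have e : d2 = d1 := by
      refine huniq.unique ⟨?_, ?_⟩ ⟨?_, ?_⟩
      · intro c
        show φ (Δ0 (algebraMap _ B c)) = 0
        rw [hΔ0C]
        simp
      · intro i
        show φ (Δ0 (x i)) = D A B (x i)
        rw [hΔ0x, hφ]
      · intro c
        show D A B (c : B) = 0
        exact D_eq_zero_of_mem_pPower p (c : B) c.2
      · intro i
        rfl
    exact congrArg (fun d : Derivation ℤ B (Ω[B⁄A]) => d b) e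
  let e : (ι →₀ B) ≃ₗ[B] Ω[B⁄A] := LinearEquiv.ofLinear φ ψ h2 h1
  refine ⟨Module.Basis.ofRepr e.symm, ?_⟩
  intro i
  show e (Finsupp.single i 1) = D A B (x i)
  exact hφ i

end Kaehler

end Groth.Agent.Lib.PBasisH3
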