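import Groth.Prelude.Def_EGA41
import Groth.Agent.Lib.PBasis4_helper3

/-!
# Existence of `p`-bases for exponent-one purely inseparable field extensions
-/

set_option autoImplicit false
set_option maxSynthPendingDepth 3

namespace Groth.Agent.Lib.PBasisH3

universe u

open EGA41

section Field

variable (p : ℕ) [hp : Fact p.Prime] {F K : Type u} [Field F] [Field K] [Algebra F K] [CharP K p]

include hp in
/-- Step: if `y ∉ F` and `y^p ∈ F` then `1, y, …, y^{p-1}` are linearly independent over `F`. -/
theorem linearIndependent_pow_of_notMem (y : K) (hy : y ∉ Set.range (algebraMap F K))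
    (hyp : y ^ p ∈ Set.range (algebraMap F K)) :
    LinearIndependent F (fun j : Fin p => y ^ (j : ℕ)) := by
  obtain ⟨a, ha⟩ := hyp
  have hroot : ∀ b : F, b ^ p ≠ a := by
    intro b hb
    apply hy
    refine ⟨b, ?_⟩
    have h1 : (algebraMap F K b) ^ p = y ^ p := by rw [← map_pow, hb, ha]
    exact frobenius_inj K p h1
  have hirr : Irreducible (Polynomial.X ^ p - Polynomial.C a : Polynomial F) :=
    X_pow_sub_C_irreducible_of_prime hp.out hroot
  have hmonic : (Polynomial.X ^ p - Polynomial.C a : Polynomial F).Monic :=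
    Polynomial.monic_X_pow_sub_C a hp.out.ne_zero
  have hmin : Polynomial.X ^ p - Polynomial.C a = minpoly F y := by
    refine minpoly.eq_of_irreducible_of_monic hirr ?_ hmonic
    simp [ha]
  have hdeg : (minpoly F y).natDegree = p := by
    rw [← hmin]
    exact Polynomial.natDegree_X_pow_sub_C
  have h1 := linearIndependent_pow (K := F) y
  have hgen : ∀ n : ℕ, n = p → LinearIndependent F (fun j : Fin n => y ^ (j : ℕ)) →
      LinearIndependent F (fun j : Fin p => y ^ (j : ℕ)) := by
    intro n hn h
    subst hn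
    exact h
  exact hgen _ hdeg h1


variable (K) in
/-- reduced exponent vectors over the identity family of `K` -/
abbrev RM := {e : K →₀ ℕ // ∀ i, e i < p}

/-- the reduced monomials of the identity family -/
noncomputable abbrev mon : RM p K → K := fun e => pMonomial (id : K → K) e.1

/-- reduced exponent vectors supported in `T` -/
def MT (T : Set K) : Set (RM p K) := {e | (e.1.support : Set K) ⊆ T}

variable (F) in
/-- `T` is `p`-independent over `F` (monomial form, fixed identity family) -/
def PIon (T : Set K) : Prop := LinearIndepOn F (mon p) (MT p T)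

omit hp [CharP K p] in
theorem mon_mem_adjoin (T : Set K) (e : RM p K) (he : e ∈ MT p T) :
    mon p e ∈ IntermediateField.adjoin F T := by
  show pMonomial (id : K → K) e.1 ∈ IntermediateField.adjoin F T
  unfold pMonomial
  refine prod_mem (fun i hi => pow_mem (IntermediateField.subset_adjoin F T (he hi)) _)

include hp in
theorem pIon_insert (hpow : ∀ y : K, y ^ p ∈ Set.range (algebraMap F K)) {T : Set K}
    (hT : PIon p F T) (s : K) (hs : s ∉ IntermediateField.adjoin F T) :
    PIon p F (insert s T) := by
  classical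
  obtain ⟨E, hE⟩ : ∃ E : IntermediateField F K, E = IntermediateField.adjoin F T := ⟨_, rfl⟩
  rw [← hE] at hs
  let b : MT p T → E := fun e => ⟨mon p e.1, hE ▸ mon_mem_adjoin p T e.1 e.2⟩
  have hb : LinearIndependent F b := by
    refine LinearIndependent.of_comp E.val.toLinearMap ?_
    exact hT
  have hc : LinearIndependent E (fun j : Fin p => s ^ (j : ℕ)) := by
    apply linearIndependent_pow_of_notMem p s
    · rintro ⟨e, he⟩
      apply hs
      rw [← he]
      exact e.2
    · obtain ⟨a, ha⟩ := hpow s
      exact ⟨algebraMap F E a, ha⟩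
  have hbc := linearIndependent_smul hb hc
  let τ : MT p (insert s T) → MT p T × Fin p := fun e =>
    (⟨⟨e.1.1.erase s, fun i => by
        rw [Finsupp.erase_apply]
        split_ifs
        · exact hp.out.pos
        · exact e.1.2 i⟩, by
      show ((e.1.1.erase s).support : Set K) ⊆ T
      intro i hi
      rw [Finsupp.support_erase] at hi
      have h1 : i ∈ e.1.1.support := Finset.mem_of_mem_erase hi
      have h2 : i ≠ s := Finset.ne_of_mem_erase hi
      rcases e.2 h1 with h3 | h3
      · exact absurd h3 h2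
      · exact h3⟩, ⟨e.1.1 s, e.1.2 s⟩)
  have hτ : Function.Injective τ := by
    intro e e' h
    have h1 : e.1.1.erase s = e'.1.1.erase s := by
      have := congrArg (fun q : MT p T × Fin p => q.1.1.1) h
      exact this
    have h2 : e.1.1 s = e'.1.1 s := by
      have := congrArg (fun q : MT p T × Fin p => (q.2 : ℕ)) h
      exact this
    apply Subtype.ext
    apply Subtype.ext
    ext i
    by_cases hi : i = s
    · rw [hi, h2]
    · have := DFunLike.congr_fun h1 i
      rwa [Finsupp.erase_ne hi, Finsupp.erase_ne hi] at this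
  have hfin := hbc.comp τ hτ
  show LinearIndependent F (fun e : MT p (insert s T) => mon p e.1)
  convert hfin using 1
  funext e
  show pMonomial (id : K → K) e.1.1 =
    (b (τ e).1 : K) * s ^ ((τ e).2 : ℕ)
  show pMonomial (id : K → K) e.1.1 = pMonomial (id : K → K) (e.1.1.erase s) * s ^ (e.1.1 s)
  unfold pMonomial
  have h := Finsupp.mul_prod_erase' e.1.1 s (fun i n => (id i : K) ^ n) (by simp)
  rw [mul_comm]
  exact h.symm


omit hp [CharP K p] in
theorem MT_mono {T T' : Set K} (h : T ⊆ T') : MT p T ⊆ MT p T' :=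
  fun _ he => he.trans h

omit hp [CharP K p] in
theorem PIon.mono {T T' : Set K} (h : T ⊆ T') (hT' : PIon p F T') : PIon p F T :=
  LinearIndepOn.mono hT' (MT_mono p h)

include hp in
/-- Zorn: a `p`-independent subset `L ⊆ S₀` extends to a maximal one, over which `S₀` is
generated. -/
theorem exists_pIon_maximal (hpow : ∀ y : K, y ^ p ∈ Set.range (algebraMap F K))
    (L S₀ : Set K) (hLS : L ⊆ S₀) (hL : PIon p F L) :
    ∃ B : Set K, L ⊆ B ∧ B ⊆ S₀ ∧ PIon p F B ∧
      S₀ ⊆ (IntermediateField.adjoin F B : Set K) := by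
  classical
  have hzorn : ∀ c ⊆ {T : Set K | T ⊆ S₀ ∧ PIon p F T}, IsChain (· ⊆ ·) c → c.Nonempty →
      ∃ ub ∈ {T : Set K | T ⊆ S₀ ∧ PIon p F T}, ∀ s ∈ c, s ⊆ ub := ?_
  obtain ⟨B, hLB, hmax⟩ := zorn_subset_nonempty {T : Set K | T ⊆ S₀ ∧ PIon p F T} hzorn L ⟨hLS, hL⟩
  · refine ⟨B, hLB, hmax.prop.1, hmax.prop.2, ?_⟩
    intro s hs
    by_contra hsB
    have hsB' : s ∉ IntermediateField.adjoin F B := hsB
    have h1 : PIon p F (insert s B) := pIon_insert p hpow hmax.prop.2 s hsB'
    have h2 : insert s B ⊆ S₀ := Set.insert_subset hs hmax.prop.1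
    have h3 : insert s B ⊆ B := hmax.le_of_ge ⟨h2, h1⟩ (Set.subset_insert s B)
    exact hsB' (IntermediateField.subset_adjoin F B (h3 (Set.mem_insert s B)))
  · intro c hcS hchain hne
    refine ⟨⋃₀ c, ⟨?_, ?_⟩, fun T hT => Set.subset_sUnion_of_mem hT⟩
    · exact Set.sUnion_subset fun T hT => (hcS hT).1
    · have hdir : DirectedOn (· ⊆ ·) c := hchain.directedOn
      have hdir' : DirectedOn (· ⊆ ·) (MT p '' c) := by
        rintro _ ⟨T, hT, rfl⟩ _ ⟨T', hT', rfl⟩
        obtain ⟨T'', hT'', h1, h2⟩ := hdir T hT T' hT'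
        exact ⟨MT p T'', ⟨T'', hT'', rfl⟩, MT_mono p h1, MT_mono p h2⟩
      have hbig : LinearIndepOn F (mon p) (⋃₀ (MT p '' c)) := by
        apply linearIndepOn_sUnion_of_directed hdir'
        rintro _ ⟨T, hT, rfl⟩
        exact (hcS hT).2
      refine LinearIndepOn.mono hbig ?_
      intro e he
      obtain ⟨T, hT, hsub⟩ := hdir.exists_mem_subset_of_finite_of_subset_sUnion hne
        e.1.support.finite_toSet he
      exact ⟨MT p T, ⟨T, hT, rfl⟩, hsub⟩


omit [CharP K p] in
include hp in
/-- Reindexing: for an injective family `f`, monomial `p`-independence of `f` is `PIon` of its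
range. -/
theorem pIon_range_iff {ι' : Type u} (f : ι' → K) (hf : Function.Injective f) :
    PIon p F (Set.range f) ↔ LinearIndependent F (redMon p f) := by
  classical
  let g : {e : ι' →₀ ℕ // ∀ i, e i < p} → MT p (Set.range f) := fun e =>
    ⟨⟨Finsupp.mapDomain f e.1, fun i => by
        by_cases hi : i ∈ Set.range f
        · obtain ⟨a, rfl⟩ := hi
          rw [Finsupp.mapDomain_apply hf]
          exact e.2 a
        · rw [Finsupp.mapDomain_notin_range _ _ hi]
          exact hp.out.pos⟩, by
      show ((Finsupp.mapDomain f e.1).support : Set K) ⊆ Set.range f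
      intro i hi
      have h1 := Finsupp.mapDomain_support hi
      obtain ⟨a, -, rfl⟩ := Finset.mem_image.1 h1
      exact ⟨a, rfl⟩⟩
  have hginj : Function.Injective g := by
    intro e e' h
    apply Subtype.ext
    apply Finsupp.mapDomain_injective hf
    exact congrArg (fun q : MT p (Set.range f) => q.1.1) h
  have hgsurj : Function.Surjective g := by
    rintro ⟨⟨e', hred⟩, hsupp⟩
    refine ⟨⟨Finsupp.comapDomain f e' hf.injOn, fun a => ?_⟩, ?_⟩
    · rw [Finsupp.comapDomain_apply]
      exact hred (f a)
    · apply Subtype.ext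
      apply Subtype.ext
      exact Finsupp.mapDomain_comapDomain f hf e' hsupp
  have hcomp : (fun e' : MT p (Set.range f) => mon p e'.1) ∘ g = redMon p f := by
    funext e
    show pMonomial (id : K → K) (Finsupp.mapDomain f e.1) = pMonomial f e.1
    unfold pMonomial
    rw [Finsupp.prod_mapDomain_index_inj hf]
    rfl
  let ge : {e : ι' →₀ ℕ // ∀ i, e i < p} ≃ MT p (Set.range f) :=
    Equiv.ofBijective g ⟨hginj, hgsurj⟩
  show LinearIndependent F (fun e' : MT p (Set.range f) => mon p e'.1) ↔ _
  rw [← hcomp]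
  exact (linearIndependent_equiv ge).symm


include hp in
omit [CharP K p] in
theorem isAlgebraic_of_pow (hpow : ∀ y : K, y ^ p ∈ Set.range (algebraMap F K)) :
    Algebra.IsAlgebraic F K := by
  haveI : Algebra.IsIntegral F K := ⟨fun y => by
    obtain ⟨c, hc⟩ := hpow y
    refine ⟨Polynomial.X ^ p - Polynomial.C c, Polynomial.monic_X_pow_sub_C c hp.out.ne_zero, ?_⟩
    simp [hc]⟩
  infer_instance

include hp in
/-- General existence of `p`-bases between `L` and `S`. -/
theorem exists_pBasis_general (hpow : ∀ y : K, y ^ p ∈ Set.range (algebraMap F K))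
    (S L : Set K) (hLS : L ⊆ S)
    (hS : Submodule.span F (Set.range (redMon p (Subtype.val : S → K))) = ⊤)
    (hL : LinearIndependent F (redMon p (Subtype.val : L → K))) :
    ∃ B : Set K, L ⊆ B ∧ B ⊆ S ∧ LinearIndependent F (redMon p (Subtype.val : B → K)) ∧
      Submodule.span F (Set.range (redMon p (Subtype.val : B → K))) = ⊤ := by
  have hL' : PIon p F L := by
    have := (pIon_range_iff (F := F) p (Subtype.val : L → K) Subtype.val_injective).2 hL
    rwa [Subtype.range_coe] at this
  obtain ⟨B, hLB, hBS, hB, hgen⟩ := exists_pIon_maximal p hpow L S hLS hL'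
  refine ⟨B, hLB, hBS, ?_, ?_⟩
  · have h1 : PIon p F (Set.range (Subtype.val : B → K)) := by
      rwa [Subtype.range_coe]
    exact (pIon_range_iff (F := F) p (Subtype.val : B → K) Subtype.val_injective).1 h1
  · haveI := isAlgebraic_of_pow p hpow
    have hadjS : Algebra.adjoin F S = ⊤ := by
      have := adjoin_eq_top_of_span_red p (Subtype.val : S → K) hS
      rwa [Subtype.range_coe] at this
    have hle : Algebra.adjoin F S ≤ (IntermediateField.adjoin F B).toSubalgebra :=
      Algebra.adjoin_le hgen
    have htop : IntermediateField.adjoin F B = ⊤ := by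
      rw [eq_top_iff]
      intro y _
      have h1 : y ∈ Algebra.adjoin F S := hadjS ▸ Algebra.mem_top
      exact hle h1
    have hadjB : Algebra.adjoin F B = ⊤ := IntermediateField.adjoin_eq_top_iff.1 htop
    apply span_red_eq_top p (Subtype.val : B → K) (fun i => hpow _)
    rwa [Subtype.range_coe]

end Field

section PPower

variable (p : ℕ) [hp : Fact p.Prime] {k K : Type u} [Field k] [Field K] [Algebra k K]

include hp in
theorem isField_pPower : IsField (pPowerSubalgebra p k K) := by
  refine ⟨⟨0, 1, zero_ne_one⟩, mul_comm, ?_⟩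
  rintro ⟨c, hc⟩ hne
  have hc0 : c ≠ 0 := fun h => hne (Subtype.ext h)
  have hinv : c⁻¹ ∈ pPowerSubalgebra p k K := by
    have h1 : c⁻¹ = c ^ (p - 1) * (c⁻¹) ^ p := by
      have hp1 : p = (p - 1) + 1 := (Nat.sub_add_cancel hp.out.one_le).symm
      rw [inv_pow]
      field_simp
      rw [← pow_succ', ← hp1]
    rw [h1]
    exact mul_mem (pow_mem hc _) (pow_mem_pPower p c⁻¹)
  exact ⟨⟨c⁻¹, hinv⟩, Subtype.ext (mul_inv_cancel₀ hc0)⟩

end PPower

end Groth.Agent.Lib.PBasisH3
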