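import Groth.Prelude.Def_EGA41
import Groth.Agent.Lib.PBasis5_helper3

/-!
# `p`-independence of fields via Kähler differentials
-/

set_option autoImplicit false
set_option maxSynthPendingDepth 3

namespace Groth.Agent.Lib.PBasisH3

universe u

open EGA41 KaehlerDifferential

section General

variable (p : ℕ) [hp : Fact p.Prime] {F K : Type u} [Field F] [Field K] [Algebra F K]

include hp in
theorem injective_of_linearIndependent_redMon {ι : Type u} (x : ι → K)
    (hx : LinearIndependent F (redMon p x)) : Function.Injective x := by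
  classical
  intro i j hij
  have h1 : ∀ l : ι, ∀ m, (Finsupp.single l 1 : ι →₀ ℕ) m < p := by
    intro l m
    rw [Finsupp.single_apply]
    split_ifs
    · exact hp.out.one_lt
    · exact hp.out.pos
  have h2 : redMon p x ⟨Finsupp.single i 1, h1 i⟩ = redMon p x ⟨Finsupp.single j 1, h1 j⟩ := by
    show pMonomial x (Finsupp.single i 1) = pMonomial x (Finsupp.single j 1)
    unfold pMonomial
    rw [Finsupp.prod_single_index (by simp), Finsupp.prod_single_index (by simp), pow_one, pow_one,
      hij]
  have h3 := hx.injective h2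
  have h4 : (Finsupp.single i 1 : ι →₀ ℕ) = Finsupp.single j 1 := congrArg Subtype.val h3
  exact Finsupp.single_left_injective one_ne_zero h4

omit hp in
theorem pIon_empty : PIon p F (∅ : Set K) := by
  have hMT : MT p (∅ : Set K) ⊆ {e | e.1 = 0} := by
    intro e he
    have : (e.1.support : Set K) ⊆ ∅ := he
    have h1 : e.1.support = ∅ := by
      apply Finset.eq_empty_of_forall_notMem
      intro i hi
      exact this hi
    exact Finsupp.support_eq_empty.1 h1
  show LinearIndepOn F (mon p) (MT p ∅)
  by_cases hne : (MT p (∅ : Set K)).Nonempty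
  · obtain ⟨e₀, he₀⟩ := hne
    have hsub : MT p (∅ : Set K) ⊆ {e₀} := by
      intro e he
      have h1 : e.1 = 0 := hMT he
      have h2 : e₀.1 = 0 := hMT he₀
      exact Subtype.ext (h1.trans h2.symm)
    refine LinearIndepOn.mono (LinearIndepOn.singleton ?_) hsub
    show pMonomial (id : K → K) e₀.1 ≠ 0
    have h2 : e₀.1 = 0 := hMT he₀
    rw [h2]
    simp [pMonomial]
  · rw [Set.not_nonempty_iff_eq_empty] at hne
    rw [hne]
    exact linearIndepOn_empty F (mon p)

end General

section Kaehler

variable (p : ℕ) [hp : Fact p.Prime] {k K : Type u} [Field k] [Field K] [Algebra k K]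
  [CharP K p] {ι : Type u} (x : ι → K)

omit hp in
theorem D_mem_span_of_mem_adjoin (T : Set K) (z : K)
    (hz : z ∈ Algebra.adjoin (pPowerSubalgebra p k K) T) :
    D k K z ∈ Submodule.span K ((fun t => D k K t) '' T) := by
  induction hz using Algebra.adjoin_induction with
  | mem z hz => exact Submodule.subset_span ⟨z, hz, rfl⟩
  | algebraMap c =>
    have : D k K (algebraMap (pPowerSubalgebra p k K) K c) = 0 :=
      D_eq_zero_of_mem_pPower p (c : K) c.2
    rw [this]
    exact Submodule.zero_mem _
  | add a b _ _ ha hb =>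
    rw [map_add]
    exact add_mem ha hb
  | mul a b _ _ ha hb =>
    rw [Derivation.leibniz]
    exact add_mem (Submodule.smul_mem _ _ hb) (Submodule.smul_mem _ _ ha)

/-- (1)(⟹): `p`-independent ⟹ differentials linearly independent. -/
theorem linearIndependent_D_of_isPIndependent (hx : IsPIndependent p k x) :
    LinearIndependent K (fun i => D k K (x i)) := by
  classical
  letI : Field (pPowerSubalgebra p k K) := (isField_pPower p).toField
  have hpow : ∀ y : K, y ^ p ∈ Set.range (algebraMap (pPowerSubalgebra p k K) K) := fun y =>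
    ⟨⟨y ^ p, pow_mem_pPower p y⟩, rfl⟩
  have hx' : LinearIndependent (pPowerSubalgebra p k K) (redMon p x) := hx
  have hinj : Function.Injective x := injective_of_linearIndependent_redMon p x hx'
  have hL : LinearIndependent (pPowerSubalgebra p k K)
      (redMon p (Subtype.val : ↥(Set.range x) → K)) := by
    have h1 : PIon p (pPowerSubalgebra p k K) (Set.range x) :=
      (pIon_range_iff (F := pPowerSubalgebra p k K) p x hinj).2 hx'
    have h2 : PIon p (pPowerSubalgebra p k K)
        (Set.range (Subtype.val : ↥(Set.range x) → K)) := by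
      rwa [Subtype.range_coe]
    exact (pIon_range_iff (F := pPowerSubalgebra p k K) p
      (Subtype.val : ↥(Set.range x) → K) Subtype.val_injective).1 h2
  have hS : Submodule.span (pPowerSubalgebra p k K)
      (Set.range (redMon p (Subtype.val : ↥(Set.univ : Set K) → K))) = ⊤ := by
    apply span_red_eq_top p (Subtype.val : ↥(Set.univ : Set K) → K) (fun i => hpow _)
    rw [Subtype.range_coe, Algebra.adjoin_univ]
  obtain ⟨B, hLB, -, hB1, hB2⟩ := exists_pBasis_general (F := pPowerSubalgebra p k K) p hpow
    Set.univ (Set.range x) (Set.subset_univ _) hS hL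
  have hBasis : IsPBasis p k (Subtype.val : B → K) := ⟨hB1, hB2⟩
  obtain ⟨b, hb⟩ := exists_basis_D p (Subtype.val : B → K) hBasis
  have hli : LinearIndependent K (fun β : B => D k K (β : K)) := by
    have h1 := b.linearIndependent
    have h2 : (fun β : B => D k K (β : K)) = ⇑b := by
      funext β
      exact (hb β).symm
    rw [h2]
    exact h1
  let g : ι → B := fun i => ⟨x i, hLB ⟨i, rfl⟩⟩
  have hg : Function.Injective g := fun i j h => hinj (congrArg Subtype.val h)
  exact hli.comp g hg

/-- (1)(⟸): differentials linearly independent ⟹ `p`-independent. -/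
theorem isPIndependent_of_linearIndependent_D
    (hx : LinearIndependent K (fun i => D k K (x i))) : IsPIndependent p k x := by
  classical
  letI : Field (pPowerSubalgebra p k K) := (isField_pPower p).toField
  have hpow : ∀ y : K, y ^ p ∈ Set.range (algebraMap (pPowerSubalgebra p k K) K) := fun y =>
    ⟨⟨y ^ p, pow_mem_pPower p y⟩, rfl⟩
  haveI := isAlgebraic_of_pow p hpow
  have hinj : Function.Injective x := by
    intro i j hij
    apply hx.injective
    show D k K (x i) = D k K (x j)
    rw [hij]
  obtain ⟨B, -, hBS, hB, hgen⟩ := exists_pIon_maximal (F := pPowerSubalgebra p k K) p hpow ∅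
    (Set.range x) (Set.empty_subset _) (pIon_empty p)
  have hBeq : Set.range x ⊆ B := by
    rintro _ ⟨i, rfl⟩
    by_contra hi
    have h1 : x i ∈ IntermediateField.adjoin (pPowerSubalgebra p k K) B := hgen ⟨i, rfl⟩
    have h2 : x i ∈ Algebra.adjoin (pPowerSubalgebra p k K) B := by
      rw [← IntermediateField.adjoin_toSubalgebra_of_isAlgebraic
        (fun y _ => Algebra.IsAlgebraic.isAlgebraic y)]
      exact h1
    have h3 := D_mem_span_of_mem_adjoin p B (x i) h2
    have h4 : (fun t => D k K t) '' B ⊆ (fun j => D k K (x j)) '' {j | j ≠ i} := by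
      rintro _ ⟨β, hβ, rfl⟩
      obtain ⟨j, rfl⟩ := hBS hβ
      refine ⟨j, ?_, rfl⟩
      intro hji
      apply hi
      rw [← hji]
      exact hβ
    have h5 := Submodule.span_mono (R := K) h4 h3
    exact hx.notMem_span_image (s := {j | j ≠ i}) (by simp) h5
  have hB' : PIon p (pPowerSubalgebra p k K) (Set.range x) := PIon.mono p hBeq hB
  exact (pIon_range_iff (F := pPowerSubalgebra p k K) p x hinj).1 hB'


/-- (2)(⟸): differentials span ⟹ `p`-generating (no finiteness needed over fields). -/
theorem isPGenerating_of_span_D_eq_top_field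
    (hx : Submodule.span K (Set.range fun i => D k K (x i)) = ⊤) : IsPGenerating p k x := by
  classical
  letI : Field (pPowerSubalgebra p k K) := (isField_pPower p).toField
  have hpow : ∀ y : K, y ^ p ∈ Set.range (algebraMap (pPowerSubalgebra p k K) K) := fun y =>
    ⟨⟨y ^ p, pow_mem_pPower p y⟩, rfl⟩
  haveI := isAlgebraic_of_pow p hpow
  rw [← adjoin_eq_top_iff]
  obtain ⟨E, hE⟩ : ∃ E : IntermediateField (pPowerSubalgebra p k K) K,
      E = IntermediateField.adjoin (pPowerSubalgebra p k K) (Set.range x) := ⟨_, rfl⟩
  have hEalg : E.toSubalgebra = Algebra.adjoin (pPowerSubalgebra p k K) (Set.range x) := by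
    rw [hE]
    exact IntermediateField.adjoin_toSubalgebra_of_isAlgebraic
      (fun y _ => Algebra.IsAlgebraic.isAlgebraic y)
  rw [← hEalg]
  by_contra hne
  have hex : ∃ y : K, y ∉ E := by
    by_contra hall
    push Not at hall
    apply hne
    rw [eq_top_iff]
    intro y _
    exact hall y
  obtain ⟨y, hy⟩ := hex
  have hpowE : ∀ z : K, z ^ p ∈ Set.range (algebraMap E K) := fun z => by
    obtain ⟨c, hc⟩ := hpow z
    exact ⟨algebraMap (pPowerSubalgebra p k K) E c, hc⟩
  have hSE : Submodule.span E
      (Set.range (redMon p (Subtype.val : ↥(Set.univ : Set K) → K))) = ⊤ := by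
    apply span_red_eq_top p (Subtype.val : ↥(Set.univ : Set K) → K) (fun i => hpowE _)
    rw [Subtype.range_coe, Algebra.adjoin_univ]
  have hLE : LinearIndependent E (redMon p (Subtype.val : ↥(∅ : Set K) → K)) := by
    have h1 := pIon_empty (F := E) (K := K) p
    have h2 : PIon p E (Set.range (Subtype.val : ↥(∅ : Set K) → K)) := by
      rwa [Subtype.range_coe]
    exact (pIon_range_iff (F := E) p _ Subtype.val_injective).1 h2
  obtain ⟨B, -, -, hB1, hB2⟩ := exists_pBasis_general (F := E) p hpowE Set.univ ∅
    (Set.empty_subset _) hSE hLE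
  have hBne : B.Nonempty := by
    by_contra hB
    rw [Set.not_nonempty_iff_eq_empty] at hB
    have hadj := adjoin_eq_top_of_span_red p (Subtype.val : B → K) hB2
    rw [Subtype.range_coe, hB, Algebra.adjoin_empty] at hadj
    have h1 : y ∈ (⊥ : Subalgebra E K) := hadj ▸ Algebra.mem_top
    obtain ⟨e, he⟩ := Algebra.mem_bot.1 h1
    exact hy (he ▸ e.2)
  choose a ha using fun β : B => hpowE (β : K)
  obtain ⟨Δ, ⟨hΔE, hΔB⟩, -⟩ := existsUnique_derivation p (Subtype.val : B → K) a ha hB1 hB2 K
    (0 : Derivation ℤ E K) (fun _ => rfl) (fun _ => (1 : K))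
  let Δk : Derivation k K K :=
    { toLinearMap :=
        { toFun := fun z => Δ z
          map_add' := fun z z' => map_add Δ z z'
          map_smul' := fun r z => by
            show Δ (r • z) = r • Δ z
            rw [Algebra.smul_def, Derivation.leibniz]
            have hmemC : algebraMap k K r ∈ pPowerSubalgebra p k K :=
              Subalgebra.algebraMap_mem _ r
            have hmem : algebraMap k K r ∈ E :=
              (algebraMap (pPowerSubalgebra p k K) E ⟨algebraMap k K r, hmemC⟩).2
            have h1 : Δ (algebraMap k K r) = 0 := hΔE ⟨algebraMap k K r, hmem⟩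
            rw [h1, smul_zero, add_zero, algebraMap_smul] }
      map_one_eq_zero' := Δ.map_one_eq_zero
      leibniz' := fun z z' => Δ.leibniz z z' }
  let f : Ω[K⁄k] →ₗ[K] K := Δk.liftKaehlerDifferential
  have hf : ∀ z, f (D k K z) = Δ z := fun z => Derivation.liftKaehlerDifferential_comp_D Δk z
  have hf0 : f = 0 := by
    refine LinearMap.ext_on hx ?_
    rintro _ ⟨i, rfl⟩
    rw [hf, LinearMap.zero_apply]
    have hxi : x i ∈ E := hE ▸ IntermediateField.subset_adjoin _ _ ⟨i, rfl⟩
    exact hΔE ⟨x i, hxi⟩
  obtain ⟨t, ht⟩ := hBne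
  have h1 : Δ t = 1 := hΔB ⟨t, ht⟩
  have h2 : Δ t = 0 := by
    rw [← hf, hf0]
    rfl
  exact one_ne_zero (h1.symm.trans h2)

end Kaehler

end Groth.Agent.Lib.PBasisH3
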