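import Groth.Agent.Lib.CohenLift_helper3
import Groth.Agent.Lib.PerfectGR_helper3
import Groth.Agent.Lib.PBasis6_helper3

/-!
# Formally smooth field extensions are separable (EGA 0_IV 19.6.1, the converse direction)
-/

set_option autoImplicit false
set_option maxSynthPendingDepth 3

namespace Groth.Agent.Lib.FSGRH3

universe u

open TensorProduct EGA41 KaehlerDifferential Groth.Agent.Lib.PBasisH3

section

variable (p : ℕ) [hp : Fact p.Prime]

/-- the prime field `𝔽_p` in universe `u` acts on every field of characteristic `p` -/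
noncomputable def pfAlg (k : Type u) [Field k] [CharP k p] : Algebra (ULift.{u} (ZMod p)) k :=
  ((ZMod.castHom (dvd_refl p) k).comp
    (ULift.ringEquiv : ULift.{u} (ZMod p) ≃+* ZMod p).toRingHom).toAlgebra

variable (k K : Type u) [Field k] [Field K] [Algebra k K] [CharP k p]

/-- the differentials of a `p`-basis of `k` stay independent in `Ω_{K/𝔽_p}` when `K/k` is
formally smooth, hence the `p`-basis stays `p`-independent in `K`. -/
theorem exists_pBasis_pIndependent [Algebra.FormallySmooth k K] [CharP K p] :
    letI : Algebra (ULift.{u} (ZMod p)) k := pfAlg p k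
    letI : Algebra (ULift.{u} (ZMod p)) K :=
      ((algebraMap k K).comp (algebraMap (ULift.{u} (ZMod p)) k)).toAlgebra
    ∃ B : Set k, IsPBasis p (ULift.{u} (ZMod p)) (Subtype.val : B → k) ∧
      IsPIndependent p (ULift.{u} (ZMod p)) (fun β : B => algebraMap k K (β : k)) := by
  classical
  letI : Algebra (ULift.{u} (ZMod p)) k := pfAlg p k
  letI : Algebra (ULift.{u} (ZMod p)) K :=
    ((algebraMap k K).comp (algebraMap (ULift.{u} (ZMod p)) k)).toAlgebra
  haveI : IsScalarTower (ULift.{u} (ZMod p)) k K := IsScalarTower.of_algebraMap_eq (fun _ => rfl)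
  obtain ⟨B, hB⟩ := SepSmoothH3.exists_pBasis_field p (ULift.{u} (ZMod p)) k
  refine ⟨B, hB, ?_⟩
  obtain ⟨b, hb⟩ := exists_basis_D p (Subtype.val : B → k) hB
  have hinj : Function.Injective (KaehlerDifferential.mapBaseChange (ULift.{u} (ZMod p)) k K) := by
    have hex := Algebra.H1Cotangent.exact_δ_mapBaseChange (ULift.{u} (ZMod p)) k K
    rw [← LinearMap.ker_eq_bot, hex.linearMap_ker_eq, LinearMap.range_eq_bot]
    ext x
    rw [Subsingleton.elim x 0]
    simp
  have hli : LinearIndependent K
      (fun β : B => D (ULift.{u} (ZMod p)) K (algebraMap k K (β : k))) := by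
    have h1 : LinearIndependent K (b.baseChange K) := (b.baseChange K).linearIndependent
    have h2 := h1.map' (KaehlerDifferential.mapBaseChange (ULift.{u} (ZMod p)) k K)
      (LinearMap.ker_eq_bot.2 hinj)
    have h3 : (⇑(KaehlerDifferential.mapBaseChange (ULift.{u} (ZMod p)) k K) ∘ ⇑(b.baseChange K))
        = fun β : B => D (ULift.{u} (ZMod p)) K (algebraMap k K (β : k)) := by
      funext β
      rw [Function.comp_apply, Module.Basis.baseChange_apply, hb,
        KaehlerDifferential.mapBaseChange_tmul, one_smul, KaehlerDifferential.map_D]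
    rw [← h3]
    exact h2
  exact isPIndependent_of_linearIndependent_D p _ hli

include hp in
/-- EGA 0_IV 19.6.1 (⇒), MacLane form: if `K/k` is formally smooth (char. `p`), then `p`-th powers
of `k`-linearly independent families stay `k`-linearly independent. -/
theorem linearIndependent_pow_of_formallySmooth [Algebra.FormallySmooth k K] {J : Type*}
    (s : J → K) (hs : LinearIndependent k s) : LinearIndependent k (fun j => s j ^ p) := by
  classical
  haveI : CharP K p := charP_of_injective_algebraMap (algebraMap k K).injective p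
  letI : Algebra (ULift.{u} (ZMod p)) k := pfAlg p k
  letI : Algebra (ULift.{u} (ZMod p)) K :=
    ((algebraMap k K).comp (algebraMap (ULift.{u} (ZMod p)) k)).toAlgebra
  obtain ⟨B, hB, hpi⟩ := exists_pBasis_pIndependent p k K
  -- notation
  let E := {e : B →₀ ℕ // ∀ i, e i < p}
  let m : E → k := fun e => pMonomial (Subtype.val : B → k) e.1
  have hm : ∀ e : E, pMonomial (fun β : B => algebraMap k K (β : k)) e.1 = algebraMap k K (m e) :=
    fun e => (map_pMonomial (Subtype.val : B → k) (algebraMap k K) e.1).symm
  let bm : Module.Basis E (pPowerSubalgebra p (ULift.{u} (ZMod p)) k) k :=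
    Module.Basis.mk hB.1 hB.2.ge
  have hbm : ∀ e, bm e = m e := fun e => by
    show (Module.Basis.mk hB.1 hB.2.ge) e = m e
    rw [Module.Basis.mk_apply]
  rw [linearIndependent_iff'] at hs ⊢
  intro t g hg
  -- coefficients
  have hd : ∀ (j : J) (e : E), ∃ d : k, d ^ p = ((bm.repr (g j) e :
      pPowerSubalgebra p (ULift.{u} (ZMod p)) k) : k) := fun j e =>
    exists_pow_eq_of_mem_pPower p _ (bm.repr (g j) e).2
  choose d hd using hd
  let T : Finset E := t.biUnion fun j => (bm.repr (g j)).support
  have hgj : ∀ j ∈ t, g j = ∑ e ∈ T, d j e ^ p * m e := by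
    intro j hj
    have h1 : g j = ∑ e ∈ T, (bm.repr (g j) e) • bm e := by
      conv_lhs => rw [← bm.linearCombination_repr (g j), Finsupp.linearCombination_apply]
      refine Finsupp.sum_of_support_subset _ ?_ _ (fun e _ => zero_smul _ _)
      exact Finset.subset_biUnion_of_mem (fun j => (bm.repr (g j)).support) hj
    conv_lhs => rw [h1]
    refine Finset.sum_congr rfl fun e _ => ?_
    rw [hbm, hd, Subalgebra.smul_def, smul_eq_mul]
  -- the key identity
  let z : E → K := fun e => ∑ j ∈ t, d j e • s j
  have hz : ∑ e ∈ T, (⟨z e ^ p, pow_mem_pPower p (z e)⟩ :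
      pPowerSubalgebra p (ULift.{u} (ZMod p)) K) •
        pMonomial (fun β : B => algebraMap k K (β : k)) e.1 = 0 := by
    rw [← hg]
    have h1 : ∀ e ∈ T, (⟨z e ^ p, pow_mem_pPower p (z e)⟩ :
        pPowerSubalgebra p (ULift.{u} (ZMod p)) K) •
          pMonomial (fun β : B => algebraMap k K (β : k)) e.1 =
        ∑ j ∈ t, algebraMap k K (d j e ^ p * m e) * s j ^ p := by
      intro e _
      rw [Subalgebra.smul_def, smul_eq_mul, hm]
      show (∑ j ∈ t, d j e • s j) ^ p * _ = _
      rw [sum_pow_char, Finset.sum_mul]
      refine Finset.sum_congr rfl fun j _ => ?_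
      rw [Algebra.smul_def, mul_pow, map_mul, map_pow]
      ring
    rw [Finset.sum_congr rfl h1, Finset.sum_comm]
    refine Finset.sum_congr rfl fun j hj => ?_
    rw [hgj j hj, Algebra.smul_def, map_sum, Finset.sum_mul]
  have hz0 := (linearIndependent_iff'.1 hpi) T _ hz
  have hde : ∀ e ∈ T, ∀ j ∈ t, d j e = 0 := by
    intro e he
    have h1 : z e ^ p = 0 := congrArg Subtype.val (hz0 e he)
    have h2 : z e = 0 := (pow_eq_zero_iff hp.out.ne_zero).1 h1
    exact hs t (fun j => d j e) h2
  intro j hj
  rw [hgj j hj]
  refine Finset.sum_eq_zero fun e he => ?_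
  rw [hde e he j hj, zero_pow hp.out.ne_zero, zero_mul]

end

section Main

/-- EGA 0_IV 19.6.1: a field extension is formally smooth iff it is separable (geometrically
reduced). -/
theorem formallySmooth_iff_isGeometricallyReduced (k K : Type u) [Field k] [Field K]
    [Algebra k K] : Algebra.FormallySmooth k K ↔ Algebra.IsGeometricallyReduced k K := by
  constructor
  · intro hFS
    obtain ⟨p, hp⟩ := CharP.exists k
    rcases CharP.char_is_prime_or_zero k p with hpp | rfl
    · haveI : Fact p.Prime := ⟨hpp⟩
      exact CohenLiftH3.isGeometricallyReduced_of_linearIndependent_pow p k K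
        fun s hs => linearIndependent_pow_of_formallySmooth p k K s hs
    · haveI : CharZero k := CharP.charP_to_charZero k
      exact PerfectGRH3.isGeometricallyReduced_of_perfectField k K
  · intro h
    exact SepSmoothH3.formallySmooth_of_isGeometricallyReduced k K

end Main

end Groth.Agent.Lib.FSGRH3
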