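import Mathlib
import Groth.Agent.Lib.StalkDict5_helper4
import Groth.Agent.Lib.FSGeomRed_helper3

/-!
# Generic points of geometrically reduced schemes over a field are smooth points (helper6)

* `mem_smoothLocus_of_geometricallyReduced`: for `f : X ⟶ Spec K` locally of finite presentation
  and geometrically reduced, every generic point of an irreducible component of `X` lies in the
  smooth locus of `f`.
* `flat_of_isField`: a ring map out of a field is flat.
-/

set_option autoImplicit false
set_option linter.style.haveILetI false
set_option linter.unusedSectionVars false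
universe u
open CategoryTheory CategoryTheory.Limits AlgebraicGeometry

attribute [local instance] Curv2.stalkAlgebra

namespace Groth.Agent.Lib.GenSmoothGRH6

theorem flat_of_isField {R S : Type u} [CommRing R] [CommRing S] (φ : R →+* S) (h : IsField R) :
    φ.Flat := by
  letI : Field R := h.toField
  algebraize [φ]
  show Module.Flat R S
  exact Module.Flat.of_free

theorem formallySmooth_of_isField {K L : Type u} [Field K] [CommRing L] [Algebra K L]
    (hL : IsField L) (hgr : Algebra.IsGeometricallyReduced K L) : Algebra.FormallySmooth K L := by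
  letI : Field L := hL.toField
  exact (Groth.Agent.Lib.FSGRH3.formallySmooth_iff_isGeometricallyReduced K L).2 hgr

theorem bijective_toStalk_field {K : Type u} [Field K] (y : Spec (CommRingCat.of K)) :
    Function.Bijective (((Scheme.ΓSpecIso (CommRingCat.of K)).inv ≫
      (Spec (CommRingCat.of K)).presheaf.germ ⊤ y trivial).hom) := by
  refine ⟨RingHom.injective _, fun t => ?_⟩
  obtain ⟨U, hU, s, rfl⟩ := (Spec (CommRingCat.of K)).presheaf.germ_exist (x := y) t
  obtain rfl : U = ⊤ := by
    ext z
    have hz : z = y := by
      haveI : Subsingleton (PrimeSpectrum K) := inferInstance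
      exact Subsingleton.elim (α := PrimeSpectrum K) z y
    simp only [hz, TopologicalSpace.Opens.coe_top, Set.mem_univ, iff_true]
    exact hU
  refine ⟨(Scheme.ΓSpecIso (CommRingCat.of K)).hom s, ?_⟩
  simp

theorem mem_smoothLocus_of_geometricallyReduced {K : Type u} [Field K] {X : Scheme.{u}}
    (f : X ⟶ Spec (CommRingCat.of K)) [LocallyOfFinitePresentation f] [GeometricallyReduced f]
    (x : X) (hx : closure {x} ∈ irreducibleComponents X) : x ∈ f.smoothLocus := by
  letI : X.Over (Spec (CommRingCat.of K)) := ⟨f⟩
  haveI hGR : GeometricallyReduced (X ↘ Spec (CommRingCat.of K)) := ‹GeometricallyReduced f›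
  have hgrAll : ∀ z : X, Algebra.IsGeometricallyReduced K (X.presheaf.stalk z) := fun z =>
    (Groth.Agent.Lib.StalkDict2H4.main1541 K X z).mp
      (Groth.Agent.Lib.StalkDict5H4.forall_pts_of_geomRed K X z)
  haveI : ∀ z : X, _root_.IsReduced (X.presheaf.stalk z) := fun z =>
    haveI := hgrAll z
    Algebra.isReduced_of_isGeometricallyReduced K
  haveI : IsReduced X := isReduced_of_isReduced_stalk X
  have hfield : IsField (X.presheaf.stalk x) :=
    isField_stalk_of_closure_mem_irreducibleComponents X x hx
  have hfs : Algebra.FormallySmooth K (X.presheaf.stalk x) :=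
    formallySmooth_of_isField hfield (hgrAll x)
  rw [Scheme.Hom.mem_smoothLocus]
  obtain ⟨ε, hεdef⟩ : ∃ ε : K →+* (Spec (CommRingCat.of K)).presheaf.stalk (f x),
      ε = ((Scheme.ΓSpecIso (CommRingCat.of K)).inv ≫
        (Spec (CommRingCat.of K)).presheaf.germ ⊤ (f x) trivial).hom := ⟨_, rfl⟩
  have hεbij : Function.Bijective ε := by rw [hεdef]; exact bijective_toStalk_field (f x)
  have hσ : (f.stalkMap x).hom.comp ε = Curv2.stalkMap K X x := by
    rw [hεdef]
    ext r
    exact Scheme.Hom.germ_stalkMap_apply f ⊤ x trivial _
  have h1 : ((f.stalkMap x).hom.comp ε).FormallySmooth := by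
    rw [hσ]
    exact hfs
  let e : K ≃+* (Spec (CommRingCat.of K)).presheaf.stalk (f x) := RingEquiv.ofBijective ε hεbij
  have h2 := RingHom.FormallySmooth.respectsIso.2 _ e.symm h1
  have h3 : ((f.stalkMap x).hom.comp ε).comp e.symm.toRingHom = (f.stalkMap x).hom := by
    ext t
    show (f.stalkMap x).hom (ε (e.symm t)) = _
    congr 1
    exact e.apply_symm_apply t
  rwa [h3] at h2

end Groth.Agent.Lib.GenSmoothGRH6
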