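import Mathlib
import Groth.Agent.Lib.GenSmoothGR_helper6

/-!
# Smooth locus over a field in terms of stalks (helper6)

* `mem_smoothLocus_iff`: for `X` over `Spec K` locally of finite presentation, `x` is in the smooth
  locus iff the local ring at `x` is formally smooth over `K` (for the `Curv2.stalkAlgebra` structure).
* `isGeometricallyReduced_of_isField`: a formally smooth field(-like) extension is geometrically reduced.
* `mem_of_dense_of_isGenericPoint`: on a locally noetherian scheme a dense open contains the generic
  points of all irreducible components.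
-/

set_option autoImplicit false
set_option linter.style.haveILetI false
set_option linter.unusedSectionVars false
universe u
open CategoryTheory CategoryTheory.Limits AlgebraicGeometry TopologicalSpace

attribute [local instance] Curv2.stalkAlgebra

namespace Groth.Agent.Lib.GenSmoothGR2H6

open Groth.Agent.Lib.GenSmoothGRH6

theorem isGeometricallyReduced_of_isField {K L : Type u} [Field K] [CommRing L] [Algebra K L]
    (hL : IsField L) (hfs : Algebra.FormallySmooth K L) : Algebra.IsGeometricallyReduced K L := by
  letI : Field L := hL.toField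
  exact (Groth.Agent.Lib.FSGRH3.formallySmooth_iff_isGeometricallyReduced K L).1 hfs

theorem mem_smoothLocus_iff (K : Type u) [Field K] (X : Scheme.{u})
    [X.Over (Spec (CommRingCat.of K))]
    [LocallyOfFinitePresentation (X ↘ Spec (CommRingCat.of K))] (x : X) :
    x ∈ (X ↘ Spec (CommRingCat.of K)).smoothLocus ↔
      Algebra.FormallySmooth K (X.presheaf.stalk x) := by
  obtain ⟨f, hfdef⟩ : ∃ f : X ⟶ Spec (CommRingCat.of K), f = X ↘ Spec (CommRingCat.of K) :=
    ⟨_, rfl⟩
  rw [Scheme.Hom.mem_smoothLocus, ← hfdef]
  obtain ⟨ε, hεdef⟩ : ∃ ε : K →+* (Spec (CommRingCat.of K)).presheaf.stalk (f x),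
      ε = ((Scheme.ΓSpecIso (CommRingCat.of K)).inv ≫
        (Spec (CommRingCat.of K)).presheaf.germ ⊤ (f x) trivial).hom := ⟨_, rfl⟩
  have hεbij : Function.Bijective ε := by rw [hεdef]; exact bijective_toStalk_field (f x)
  have hσ : (f.stalkMap x).hom.comp ε = Curv2.stalkMap K X x := by
    rw [hεdef, hfdef]
    ext r
    exact Scheme.Hom.germ_stalkMap_apply (X ↘ Spec (CommRingCat.of K)) ⊤ x trivial _
  let e : K ≃+* (Spec (CommRingCat.of K)).presheaf.stalk (f x) := RingEquiv.ofBijective ε hεbij
  have h3 : ((f.stalkMap x).hom.comp ε).comp e.symm.toRingHom = (f.stalkMap x).hom := by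
    ext t
    show (f.stalkMap x).hom (ε (e.symm t)) = _
    congr 1
    exact e.apply_symm_apply t
  have hiff : ((f.stalkMap x).hom.comp ε).FormallySmooth ↔
      Algebra.FormallySmooth K (X.presheaf.stalk x) := by
    rw [hσ]
    exact Iff.rfl
  rw [← hiff]
  constructor
  · intro h
    exact RingHom.FormallySmooth.respectsIso.2 _ e h
  · intro h1
    have h2 := RingHom.FormallySmooth.respectsIso.2 _ e.symm h1
    rwa [h3] at h2

/-- On a locally noetherian scheme, a dense open subset contains the generic points of the
irreducible components. -/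
theorem mem_of_dense_of_isGenericPoint {X : Scheme.{u}} [IsLocallyNoetherian X] (U : X.Opens)
    (hU : Dense (U : Set X)) (Z : Set X) (hZ : Z ∈ irreducibleComponents X) (η : X)
    (hη : IsGenericPoint η Z) : η ∈ U := by
  suffices key : ∀ V : X.Opens, IsAffineOpen V → η ∈ V → η ∈ U by
    obtain ⟨_, ⟨V, hV, rfl⟩, hηV, -⟩ :=
      X.isBasis_affineOpens.exists_subset_of_mem_open (Set.mem_univ η) isOpen_univ
    exact key V hV hηV
  intro V hV hηV
  haveI : IsNoetherianRing Γ(X, V) := IsLocallyNoetherian.component_noetherian ⟨V, hV⟩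
  haveI : NoetherianSpace V := noetherianSpace_of_isAffineOpen V hV
  let ηV : V.toScheme := ⟨η, hηV⟩
  have hηV' : V.ι ηV = η := rfl
  obtain ⟨o, ho, hone, hoZ⟩ :=
    NoetherianSpace.exists_isOpen_nonempty_subset_irreducibleComponent
      (irreducibleComponent ηV) (irreducibleComponent_mem_irreducibleComponents ηV)
  have ho' : IsOpen (V.ι '' o : Set X) := V.ι.isOpenEmbedding.isOpenMap o ho
  have hne' : (V.ι '' o : Set X).Nonempty := hone.image _
  obtain ⟨w, hwo, hwU⟩ := hU.inter_open_nonempty _ ho' hne'
  obtain ⟨w', hw'o, rfl⟩ := hwo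
  -- the image of the irreducible component of `ηV` lies in `Z`
  have hT : IsIrreducible (closure (V.ι '' irreducibleComponent ηV : Set X)) :=
    (isIrreducible_irreducibleComponent.image _ V.ι.continuous.continuousOn).closure
  have hηT : η ∈ closure (V.ι '' irreducibleComponent ηV : Set X) :=
    subset_closure ⟨ηV, mem_irreducibleComponent, hηV'⟩
  have hZT : Z ⊆ closure (V.ι '' irreducibleComponent ηV : Set X) := by
    rw [← hη.def]
    exact closure_minimal (Set.singleton_subset_iff.mpr hηT) isClosed_closure
  have hTZ : closure (V.ι '' irreducibleComponent ηV : Set X) ⊆ Z := hZ.2 hT hZT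
  have hwZ : V.ι w' ∈ closure ({η} : Set X) := by
    rw [hη.def]
    exact hTZ (subset_closure ⟨w', hoZ hw'o, rfl⟩)
  exact (specializes_iff_mem_closure.mpr hwZ).mem_open U.2 hwU

end Groth.Agent.Lib.GenSmoothGR2H6
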