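import Mathlib

/-!
# Generic étaleness on integral schemes (helper6)

* `etale_of_smooth_of_formallyUnramified_fractionRing`: a smooth algebra `A → B` with `B` a domain
  whose fraction field is formally unramified over `A` is étale.
* `isIso_stalkSpecializes_of_eq`.
* `exists_etale_nhd_of_genericPoint`: if the stalk map at the generic point of an integral scheme
  is formally smooth and formally unramified, then `f` is étale on an open neighbourhood of it.
-/

set_option autoImplicit false
set_option linter.style.haveILetI false
set_option linter.unusedSectionVars false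
universe u
open CategoryTheory CategoryTheory.Limits AlgebraicGeometry TopologicalSpace

namespace Groth.Agent.Lib.GenEtaleH6

open scoped KaehlerDifferential

theorem etale_of_smooth_of_formallyUnramified_fractionRing (A B K : Type u) [CommRing A]
    [CommRing B] [Field K] [Algebra A B] [Algebra B K] [Algebra A K] [IsScalarTower A B K]
    [IsDomain B] [IsFractionRing B K] [Algebra.Smooth A B] [Algebra.FormallyUnramified A K] :
    Algebra.Etale A B := by
  have key : ∀ m : Ω[B⁄A], m = 0 := by
    intro m
    have h0 : KaehlerDifferential.map A A B K m = 0 := Subsingleton.elim _ _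
    obtain ⟨c, hc⟩ := (IsLocalizedModule.eq_zero_iff (nonZeroDivisors B)
      (KaehlerDifferential.map A A B K)).1 h0
    exact (Module.Flat.isSMulRegular_of_nonZeroDivisors (M := Ω[B⁄A]) c.2).right_eq_zero_of_smul hc
  have hsub : Subsingleton Ω[B⁄A] := ⟨fun m m' => by rw [key m, key m']⟩
  haveI : Algebra.FormallyUnramified A B := ⟨hsub⟩
  exact Algebra.Etale.iff_formallyUnramified_and_smooth.2 ⟨inferInstance, inferInstance⟩

theorem isIso_stalkSpecializes_of_eq {Y : Scheme.{u}} {y y' : Y} (h : y = y') :
    IsIso (Y.presheaf.stalkSpecializes (specializes_of_eq h)) := by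
  subst h
  have : Y.presheaf.stalkSpecializes (specializes_of_eq (rfl : y = y)) = 𝟙 _ :=
    TopCat.Presheaf.stalkSpecializes_refl _ _
  rw [this]
  infer_instance

theorem exists_etale_nhd_of_genericPoint {X Y : Scheme.{u}} [IsIntegral X] (f : X ⟶ Y)
    [LocallyOfFinitePresentation f]
    (hsm : (f.stalkMap (genericPoint X)).hom.FormallySmooth)
    (hun : (f.stalkMap (genericPoint X)).hom.FormallyUnramified) :
    ∃ V : X.Opens, genericPoint X ∈ V ∧ Etale (V.ι ≫ f) := by
  obtain ⟨U, hU, V, hV, hVU, hξV, H⟩ := exists_smooth_of_formallySmooth_stalk f _ hsm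
  haveI : Nonempty V := ⟨⟨genericPoint X, hξV⟩⟩
  refine ⟨V, hξV, ?_⟩
  have hfξU : f (genericPoint X) ∈ U := hVU hξV
  algebraize [(f.appLE U V hVU).hom]
  haveI : Algebra.Smooth Γ(Y, U) Γ(X, V) := H
  letI algAK : Algebra Γ(Y, U) X.functionField :=
    ((algebraMap Γ(X, V) X.functionField).comp (algebraMap Γ(Y, U) Γ(X, V))).toAlgebra
  haveI : IsScalarTower Γ(Y, U) Γ(X, V) X.functionField :=
    IsScalarTower.of_algebraMap_eq (fun _ => rfl)
  haveI : IsFractionRing Γ(X, V) X.functionField :=
    functionField_isFractionRing_of_isAffineOpen X V hV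
  haveI : Algebra.FormallyUnramified Γ(Y, U) X.functionField := by
    have hcomp : algebraMap Γ(Y, U) X.functionField =
        (f.stalkMap (genericPoint X)).hom.comp
          (Y.presheaf.germ U (f (genericPoint X)) hfξU).hom := by
      ext a
      show X.presheaf.germ V (genericPoint X) _ (f.appLE U V hVU a) =
        f.stalkMap (genericPoint X) (Y.presheaf.germ U (f (genericPoint X)) hfξU a)
      rw [Scheme.Hom.germ_stalkMap_apply, Scheme.Hom.appLE]
      exact TopCat.Presheaf.germ_res_apply _ (homOfLE hVU) _ hξV _
    show RingHom.FormallyUnramified (algebraMap Γ(Y, U) X.functionField)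
    rw [hcomp]
    refine RingHom.FormallyUnramified.comp ?_ hun
    letI := TopCat.Presheaf.algebra_section_stalk Y.presheaf (⟨f (genericPoint X), hfξU⟩ : U)
    haveI := hU.isLocalization_stalk ⟨f (genericPoint X), hfξU⟩
    exact RingHom.formallyUnramified_algebraMap.2
      (Algebra.FormallyUnramified.of_isLocalization
        (Rₘ := Y.presheaf.stalk (f (genericPoint X)))
        (hU.primeIdealOf ⟨f (genericPoint X), hfξU⟩).asIdeal.primeCompl)
  haveI hEt : Algebra.Etale Γ(Y, U) Γ(X, V) :=
    etale_of_smooth_of_formallyUnramified_fractionRing _ _ X.functionField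
  have hres : Etale (f.resLE U V hVU) := by
    haveI : IsAffine U.toScheme := hU
    haveI : IsAffine V.toScheme := hV
    rw [HasRingHomProperty.iff_of_isAffine (P := @Etale)]
    exact (RingHom.Etale.propertyIsLocal.respectsIso.arrow_mk_iso_iff
      (arrowResLEAppIso f U V hVU)).mpr (RingHom.etale_algebraMap.2 hEt)
  haveI := hres
  rw [← Scheme.Hom.resLE_comp_ι f hVU]
  infer_instance

end Groth.Agent.Lib.GenEtaleH6
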