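import Mathlib
import Groth.Agent.Lib.GenEtale_helper6
import Groth.Agent.Lib.StalkSmooth_helper3
import Groth.Agent.Lib.SmoothRegField_helper3
import Groth.Agent.Lib.PerfectGR_helper3

/-!
# Spreading out from the generic fibre (helper6)

* `mem_interior_or_of_isConstructible`: a generic point lies in the interior of a constructible set
  or of its complement.
* `exists_open_disjoint_of_isLocallyConstructible`.
* `isLocallyConstructible_of_isClosed`: closed subsets of locally noetherian schemes are locally
  constructible.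
* `exists_open_preimage_le`: for `f` quasi-compact and locally of finite presentation with `X`
  locally noetherian and `Y` irreducible, an open of `X` containing the generic fibre contains
  `f⁻¹ V` for an open neighbourhood `V` of the generic point.
* `mem_smoothLocus_of_regular_of_perfect`.
-/

set_option autoImplicit false
set_option linter.style.haveILetI false
set_option linter.unusedSectionVars false
universe u
open CategoryTheory CategoryTheory.Limits AlgebraicGeometry TopologicalSpace Topology
open scoped Set.Notation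

namespace Groth.Agent.Lib.GenSmoothRegH6

theorem mem_interior_or_of_isConstructible {α : Type*} [TopologicalSpace α] (η : α)
    (hη : ∀ U : Set α, IsOpen U → U.Nonempty → η ∈ U) {s : Set α} (hs : IsConstructible s) :
    η ∈ interior s ∨ η ∈ interior sᶜ := by
  induction hs using IsConstructible.empty_union_induction with
  | open_retrocompact U hUo _ =>
    by_cases h : U.Nonempty
    · exact Or.inl (by rw [hUo.interior_eq]; exact hη U hUo h)
    · right
      rw [Set.not_nonempty_iff_eq_empty.mp h, Set.compl_empty, interior_univ]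
      trivial
  | union s _ t _ hs ht =>
    rcases hs with hs | hs
    · exact Or.inl (interior_mono Set.subset_union_left hs)
    · rcases ht with ht | ht
      · exact Or.inl (interior_mono Set.subset_union_right ht)
      · right
        rw [Set.compl_union, interior_inter]
        exact ⟨hs, ht⟩
  | compl s _ hs =>
    rcases hs with hs | hs
    · right
      rwa [compl_compl]
    · left
      exact hs

theorem exists_open_disjoint_of_isLocallyConstructible {α : Type*} [TopologicalSpace α] (η : α)
    (hη : ∀ U : Set α, IsOpen U → U.Nonempty → η ∈ U) {T : Set α}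
    (hT : IsLocallyConstructible T) (hηT : η ∉ T) :
    ∃ V : Set α, IsOpen V ∧ η ∈ V ∧ Disjoint V T := by
  obtain ⟨W, hWη, hWo, hWc⟩ := hT η
  have hηW : η ∈ W := mem_of_mem_nhds hWη
  have hη' : ∀ O : Set W, IsOpen O → O.Nonempty → (⟨η, hηW⟩ : W) ∈ O := by
    intro O hO hne
    have h1 : IsOpen (Subtype.val '' O : Set α) := hWo.isOpenMap_subtype_val O hO
    obtain ⟨z, hz, hzη⟩ := hη _ h1 (hne.image _)
    have hz' : z = ⟨η, hηW⟩ := Subtype.ext hzη
    rwa [hz'] at hz
  rcases mem_interior_or_of_isConstructible (⟨η, hηW⟩ : W) hη' hWc with h | h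
  · exact absurd (interior_subset h) hηT
  · obtain ⟨O, hOsub, hOo, hηO⟩ := mem_interior.mp h
    refine ⟨Subtype.val '' O, hWo.isOpenMap_subtype_val O hOo, ⟨_, hηO, rfl⟩, ?_⟩
    rw [Set.disjoint_left]
    rintro _ ⟨z, hz, rfl⟩ hzT
    exact hOsub hz hzT

theorem isLocallyConstructible_of_isClosed {X : Scheme.{u}} [IsLocallyNoetherian X] {Z : Set X}
    (hZ : IsClosed Z) : IsLocallyConstructible Z := by
  intro x
  suffices key : ∀ V : X.Opens, IsAffineOpen V → x ∈ V →
      ∃ U ∈ 𝓝 x, IsOpen U ∧ IsConstructible (U ↓∩ Z) by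
    obtain ⟨_, ⟨V, hV, rfl⟩, hxV, -⟩ :=
      X.isBasis_affineOpens.exists_subset_of_mem_open (Set.mem_univ x) isOpen_univ
    exact key V hV hxV
  intro V hV hxV
  haveI : IsNoetherianRing Γ(X, V) := IsLocallyNoetherian.component_noetherian ⟨V, hV⟩
  haveI hN : NoetherianSpace (V : Set X) := noetherianSpace_of_isAffineOpen V hV
  refine ⟨V, V.2.mem_nhds hxV, V.2, ?_⟩
  have hc : IsClosed ((V : Set X) ↓∩ Z) := hZ.preimage continuous_subtype_val
  have h1 : IsConstructible ((V : Set X) ↓∩ Z)ᶜ :=
    IsRetrocompact.isConstructible hc.isOpen_compl (fun U _ _ => NoetherianSpace.isCompact _)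
  have h2 := h1.compl
  rwa [compl_compl] at h2

theorem exists_open_preimage_le {X Y : Scheme.{u}} [IsLocallyNoetherian X] [IrreducibleSpace Y]
    (f : X ⟶ Y) [LocallyOfFinitePresentation f] [QuasiCompact f] (U₀ : X.Opens)
    (h : ∀ x : X, f x = genericPoint Y → x ∈ U₀) :
    ∃ V : Y.Opens, genericPoint Y ∈ V ∧ f ⁻¹ᵁ V ≤ U₀ := by
  have hZ : IsLocallyConstructible ((U₀ : Set X)ᶜ) :=
    isLocallyConstructible_of_isClosed U₀.2.isClosed_compl
  have hT := f.isLocallyConstructible_image hZ
  have hηT : genericPoint Y ∉ f '' (U₀ : Set X)ᶜ := by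
    rintro ⟨x, hx, hfx⟩
    exact hx (h x hfx)
  obtain ⟨V, hVo, hηV, hVT⟩ := exists_open_disjoint_of_isLocallyConstructible (genericPoint Y)
    (fun U hU hne => ((genericPoint_spec Y).mem_open_set_iff hU).2 (by simpa using hne)) hT hηT
  refine ⟨⟨V, hVo⟩, hηV, fun x hx => ?_⟩
  by_contra hxU
  exact Set.disjoint_left.mp hVT hx ⟨x, hxU, rfl⟩

theorem mem_smoothLocus_of_regular_of_perfect {X Y : Scheme.{u}} [IsIntegral Y]
    [IsLocallyNoetherian X] (f : X ⟶ Y) [LocallyOfFinitePresentation f]
    [PerfectField Y.functionField] (x : X) (hx : f x = genericPoint Y)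
    (hreg : IsRegularLocalRing (X.presheaf.stalk x)) : x ∈ f.smoothLocus := by
  rw [Scheme.Hom.mem_smoothLocus]
  haveI hsIso : IsIso (Y.presheaf.stalkSpecializes (specializes_of_eq hx)) :=
    Groth.Agent.Lib.GenEtaleH6.isIso_stalkSpecializes_of_eq hx
  letI algkR : Algebra Y.functionField (Y.presheaf.stalk (f x)) :=
    (Y.presheaf.stalkSpecializes (specializes_of_eq hx)).hom.toAlgebra
  letI algRA : Algebra (Y.presheaf.stalk (f x)) (X.presheaf.stalk x) :=
    (f.stalkMap x).hom.toAlgebra
  letI algkA : Algebra Y.functionField (X.presheaf.stalk x) :=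
    ((algebraMap (Y.presheaf.stalk (f x)) (X.presheaf.stalk x)).comp
      (algebraMap Y.functionField (Y.presheaf.stalk (f x)))).toAlgebra
  haveI : IsScalarTower Y.functionField (Y.presheaf.stalk (f x)) (X.presheaf.stalk x) :=
    IsScalarTower.of_algebraMap_eq (fun _ => rfl)
  have hsurj : Function.Surjective (algebraMap Y.functionField (Y.presheaf.stalk (f x))) :=
    ((ConcreteCategory.isIso_iff_bijective _).mp hsIso).2
  haveI : IsNoetherianRing (Y.presheaf.stalk (f x)) :=
    isNoetherianRing_of_surjective _ _ _ hsurj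
  haveI : Algebra.IsGeometricallyReduced Y.functionField
      (IsLocalRing.ResidueField (X.presheaf.stalk x)) :=
    Groth.Agent.Lib.PerfectGRH3.isGeometricallyReduced_of_perfectField _ _
  obtain ⟨n, g, hg⟩ := Groth.Agent.Lib.StalkSmoothH3.exists_poly_stalk f x
  exact Groth.Agent.Lib.SmoothRegFieldH3.formallySmooth_of_regular_of_bijective
    (k := Y.functionField) hsurj n g hg hreg

end Groth.Agent.Lib.GenSmoothRegH6
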