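import Mathlib
import Groth.Prelude.Def_Flat
import Groth.Agent.Lib.GrpShear_helper7
import Groth.Agent.Lib.LocDimProd_helper8
import Groth.Agent.Lib.FibLoc_helper8
import Groth.Agent.Lib.TopDimLoc_helper8
import Groth.Agent.Lib.FlatFibDim_helper8

/-! Group schemes locally of finite type over a field are equidimensional. -/

universe u
open CategoryTheory CategoryTheory.Limits MonoidalCategory CartesianMonoidalCategory MonObj
  AlgebraicGeometry

namespace GrpDimH8

variable (k : Type u) [Field k] (G : Over (Spec (CommRingCat.of k))) [GrpObj G]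

/-- the local dimension at `g` equals the local dimension at the unit point. -/
theorem localDim_eq_unit [LocallyOfFiniteType G.hom] (g : G.left) :
    FlatMor.localDim ↥G.left g = FlatMor.localDim ↥G.left ((η[G]).left (G.hom g)) := by
  set f := G.hom with hf
  letI ovG : G.left.Over (Spec (CommRingCat.of k)) := ⟨f⟩
  haveI : LocallyOfFiniteType (G.left ↘ Spec (CommRingCat.of k)) := ‹LocallyOfFiniteType G.hom›
  let σ : G ⊗ G ⟶ G ⊗ G := Groth.Agent.Lib.GrpShearH7.shear (μ[G])
  haveI hσ : IsIso σ := Groth.Agent.Lib.GrpShearH7.isIso_shear (μ[G]) (MonObj.one_mul G)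
    (MonObj.mul_assoc G)
  haveI hσl : IsIso σ.left := (Over.forget _).map_isIso σ
  let ι₁ : G ⟶ G ⊗ G := lift (𝟙 G) (toUnit G ≫ η[G])
  set z : ↥(pullback f f) := ι₁.left g with hz
  have hpz : (pullback.fst f f) z = g := by
    have h1 : ι₁.left ≫ pullback.fst f f = 𝟙 G.left :=
      congrArg (fun φ : G ⟶ G => φ.left) (lift_fst (𝟙 G) (toUnit G ≫ η[G]))
    rw [hz, ← Scheme.Hom.comp_apply, h1]; rfl
  have hqz : (pullback.snd f f) z = (η[G]).left (f g) := by
    have h1 : ι₁.left ≫ pullback.snd f f = f ≫ (η[G]).left :=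
      congrArg (fun φ : G ⟶ G => φ.left) (lift_snd (𝟙 G) (toUnit G ≫ η[G]))
    rw [hz, ← Scheme.Hom.comp_apply, h1]; rfl
  have hpσ : (pullback.fst f f) (σ.left z) = g := by
    have h1 : σ.left ≫ pullback.fst f f = pullback.fst f f :=
      congrArg (fun φ : G ⊗ G ⟶ G => φ.left) (lift_fst (fst G G) (μ[G]))
    rw [← Scheme.Hom.comp_apply, h1, hpz]
  have hqσ : (pullback.snd f f) (σ.left z) = g := by
    have h1 : σ.left ≫ pullback.snd f f = (μ[G]).left :=
      congrArg (fun φ : G ⊗ G ⟶ G => φ.left) (lift_snd (fst G G) (μ[G]))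
    have h2 : ι₁.left ≫ (μ[G]).left = 𝟙 G.left :=
      congrArg (fun φ : G ⟶ G => φ.left) (MonObj.lift_comp_one_right (𝟙 G) (toUnit G))
    rw [← Scheme.Hom.comp_apply, h1, hz, ← Scheme.Hom.comp_apply, h2]; rfl
  have hhomeo : FlatMor.localDim ↥(pullback f f) (σ.left z) =
      FlatMor.localDim ↥(pullback f f) z :=
    Groth.Agent.FibLocH8.localDim_homeomorph (Scheme.homeoOfIso (asIso σ.left)) z
  rw [LocDimProdH8.localDim_pullback k f f z, LocDimProdH8.localDim_pullback k f f (σ.left z),
    hpz, hqz, hpσ, hqσ] at hhomeo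
  obtain ⟨n, hn, -⟩ := Groth.Agent.HtTrdegH8.height_eq_trdeg k G.left g
  obtain ⟨b, hb⟩ := FieldExtH8.exists_stalk_dim_nat k G.left g
  have hℓg := Groth.Agent.LocDimSchH8.localDim_scheme k G.left g n b hn hb
  obtain ⟨n', hn', -⟩ := Groth.Agent.HtTrdegH8.height_eq_trdeg k G.left ((η[G]).left (f g))
  obtain ⟨b', hb'⟩ := FieldExtH8.exists_stalk_dim_nat k G.left ((η[G]).left (f g))
  have hℓe := Groth.Agent.LocDimSchH8.localDim_scheme k G.left _ n' b' hn' hb'
  rw [hℓg, hℓe] at hhomeo ⊢
  have h3 : (n + b) + (n + b) = (n + b) + (n' + b') := by exact_mod_cast hhomeo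
  have h4 : n + b = n' + b' := by omega
  rw [h4]

theorem localDim_const [LocallyOfFiniteType G.hom] (g g' : G.left) :
    FlatMor.localDim ↥G.left g = FlatMor.localDim ↥G.left g' := by
  rw [localDim_eq_unit k G g, localDim_eq_unit k G g']
  have : G.hom g = G.hom g' := Subsingleton.elim (α := ↥(Spec (CommRingCat.of k))) _ _
  rw [this]

theorem localDim_eq_dim [LocallyOfFiniteType G.hom] (g : G.left) :
    FlatMor.localDim ↥G.left g = topologicalKrullDim ↥G.left := by
  apply le_antisymm (TopDimLocH8.localDim_le_topDim G.left g)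
  rw [TopDimLocH8.topDim_le_iff_forall_localDim]
  intro u
  exact (localDim_const k G u g).le

theorem dim_component_eq [LocallyOfFiniteType G.hom] (Z : Set ↥G.left)
    (hZ : Z ∈ irreducibleComponents ↥G.left) :
    topologicalKrullDim ↥Z = topologicalKrullDim ↥G.left := by
  letI ovG : G.left.Over (Spec (CommRingCat.of k)) := ⟨G.hom⟩
  haveI : LocallyOfFiniteType (G.left ↘ Spec (CommRingCat.of k)) := ‹LocallyOfFiniteType G.hom›
  obtain ⟨ζ, -, hζmax, hdim⟩ :=
    Groth.Agent.FlatFibDimH8.exists_generic_of_mem_irreducibleComponents G.left Z hZ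
  rw [hdim, ← localDim_eq_dim k G ζ, LocDimProdH8.localDim_eq k G.left ζ,
    Order.coheight_eq_zero.mpr hζmax, zero_add]

end GrpDimH8
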