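import Mathlib
import Groth.Prelude
import Groth.Agent.Lib.CartierGrp_helper6
import Groth.Agent.Lib.GenSmoothGR2_helper6
import Groth.Agent.Lib.GenSmoothReg_helper6
import Groth.Agent.S0354

/-!
# Dimension and smoothness of group schemes over a field (helper6)

* `mem_smoothLocus_of_regular_of_rational`: a regular point with residue field the base field is a
  smooth point.
* `smooth_of_mem_smoothLocus`: a group scheme locally of finite type over a field with one smooth
  point is smooth.
* `main7822`.
-/

set_option autoImplicit false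
set_option linter.style.haveILetI false
set_option linter.unusedSectionVars false
universe u
open CategoryTheory AlgebraicGeometry MonoidalCategory CartesianMonoidalCategory MonObj
  IsLocalRing TensorProduct Limits

namespace Groth.Agent.Lib.GrpDimSmoothH6

theorem isGeometricallyReduced_of_surjective {K L : Type u} [Field K] [CommRing L] [Algebra K L]
    (h : Function.Surjective (algebraMap K L)) : Algebra.IsGeometricallyReduced K L := by
  rw [Algebra.isGeometricallyReduced_field_iff]
  have hsurj : Function.Surjective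
      (Algebra.TensorProduct.includeLeft : AlgebraicClosure K →ₐ[K] AlgebraicClosure K ⊗[K] L) := by
    intro t
    induction t using TensorProduct.induction_on with
    | zero => exact ⟨0, map_zero _⟩
    | tmul a l =>
      obtain ⟨c, rfl⟩ := h l
      refine ⟨c • a, ?_⟩
      rw [Algebra.TensorProduct.includeLeft_apply, Algebra.algebraMap_eq_smul_one,
        TensorProduct.tmul_smul, TensorProduct.smul_tmul']
    | add t₁ t₂ h₁ h₂ =>
      obtain ⟨a₁, rfl⟩ := h₁
      obtain ⟨a₂, rfl⟩ := h₂
      exact ⟨a₁ + a₂, map_add _ _ _⟩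
  refine ⟨fun x hx => ?_⟩
  obtain ⟨a, rfl⟩ := hsurj x
  by_cases ha : a = 0
  · rw [ha, map_zero]
  · have hu : IsUnit ((Algebra.TensorProduct.includeLeft :
        AlgebraicClosure K →ₐ[K] AlgebraicClosure K ⊗[K] L) a) := (IsUnit.mk0 a ha).map _
    obtain ⟨n, hn⟩ := hx
    have h0 : IsUnit (0 : AlgebraicClosure K ⊗[K] L) := by
      have := hu.pow n
      rwa [hn] at this
    have h1 : (0 : AlgebraicClosure K ⊗[K] L) = 1 := isUnit_zero_iff.mp h0
    calc _ = (Algebra.TensorProduct.includeLeft :
          AlgebraicClosure K →ₐ[K] AlgebraicClosure K ⊗[K] L) a * 1 := (_root_.mul_one _).symm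
      _ = 0 := by rw [← h1, mul_zero]

section rational

variable (K : Type u) [Field K] (X : Scheme.{u}) [X.Over (Spec (CommRingCat.of K))]
  [LocallyOfFiniteType (X ↘ Spec (CommRingCat.of K))]

theorem mem_smoothLocus_of_regular_of_rational (x : X)
    (hres : Function.Surjective
      ((IsLocalRing.residue (X.presheaf.stalk x)).comp (Curv2.stalkMap K X x)))
    (hreg : IsRegularLocalRing (X.presheaf.stalk x)) :
    x ∈ (X ↘ Spec (CommRingCat.of K)).smoothLocus := by
  obtain ⟨f, hfdef⟩ : ∃ f : X ⟶ Spec (CommRingCat.of K), f = X ↘ Spec (CommRingCat.of K) :=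
    ⟨_, rfl⟩
  haveI : LocallyOfFiniteType f := hfdef ▸ ‹_›
  rw [Scheme.Hom.mem_smoothLocus, ← hfdef]
  obtain ⟨ε, hεdef⟩ : ∃ ε : K →+* (Spec (CommRingCat.of K)).presheaf.stalk (f x),
      ε = ((Scheme.ΓSpecIso (CommRingCat.of K)).inv ≫
        (Spec (CommRingCat.of K)).presheaf.germ ⊤ (f x) trivial).hom := ⟨_, rfl⟩
  have hεbij : Function.Bijective ε := by
    rw [hεdef]; exact Groth.Agent.Lib.GenSmoothGRH6.bijective_toStalk_field (f x)
  have hσ : (f.stalkMap x).hom.comp ε = Curv2.stalkMap K X x := by
    rw [hεdef, hfdef]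
    ext r
    exact Scheme.Hom.germ_stalkMap_apply (X ↘ Spec (CommRingCat.of K)) ⊤ x trivial _
  letI algkR : Algebra K ((Spec (CommRingCat.of K)).presheaf.stalk (f x)) := ε.toAlgebra
  letI algRA : Algebra ((Spec (CommRingCat.of K)).presheaf.stalk (f x)) (X.presheaf.stalk x) :=
    (f.stalkMap x).hom.toAlgebra
  letI algkA : Algebra K (X.presheaf.stalk x) :=
    ((algebraMap ((Spec (CommRingCat.of K)).presheaf.stalk (f x)) (X.presheaf.stalk x)).comp
      (algebraMap K ((Spec (CommRingCat.of K)).presheaf.stalk (f x)))).toAlgebra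
  haveI : IsScalarTower K ((Spec (CommRingCat.of K)).presheaf.stalk (f x)) (X.presheaf.stalk x) :=
    IsScalarTower.of_algebraMap_eq (fun _ => rfl)
  have hsurj : Function.Surjective
      (algebraMap K ((Spec (CommRingCat.of K)).presheaf.stalk (f x))) := hεbij.2
  haveI : IsNoetherianRing ((Spec (CommRingCat.of K)).presheaf.stalk (f x)) :=
    isNoetherianRing_of_surjective _ _ _ hsurj
  haveI : Algebra.IsGeometricallyReduced K
      (IsLocalRing.ResidueField (X.presheaf.stalk x)) := by
    apply isGeometricallyReduced_of_surjective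
    intro t
    obtain ⟨c, hc⟩ := hres t
    refine ⟨c, ?_⟩
    rw [← hc, ← hσ]
    rfl
  obtain ⟨n, g, hg⟩ := Groth.Agent.Lib.StalkSmoothH3.exists_poly_stalk f x
  exact Groth.Agent.Lib.SmoothRegFieldH3.formallySmooth_of_regular_of_bijective
    (k := K) hsurj n g hg hreg

end rational

section group

open Groth.Agent.Lib.CartierGrpH6

attribute [local instance] Curv2.stalkAlgebra
attribute [local instance] Groth.Agent.Lib.CartierGrpH6.instOverG

variable (k : Type u) [Field k] (G : Over (Spec (CommRingCat.of k))) [GrpObj G]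

theorem range_u : Set.range (u k G) = {e k G} := by
  ext x
  constructor
  · rintro ⟨y, rfl⟩
    have : y = closedPoint (CommRingCat.of k) :=
      Subsingleton.elim (α := PrimeSpectrum k) _ _
    rw [this]; rfl
  · rintro rfl
    exact ⟨closedPoint (CommRingCat.of k), rfl⟩

theorem isClosed_e : IsClosed ({e k G} : Set G.left) := by
  haveI : Subsingleton (Spec (CommRingCat.of k)) :=
    inferInstanceAs (Subsingleton (PrimeSpectrum k))
  haveI : IsClosedImmersion (u k G) :=
    isClosedImmersion_of_comp_eq_id G.hom (u k G) (u_hom k G)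
  rw [← range_u]
  exact (u k G).isClosedEmbedding.isClosed_range

theorem residue_surjective : Function.Surjective
    ((IsLocalRing.residue (A k G)).comp (Curv2.stalkMap k G.left (e k G))) := by
  intro t
  obtain ⟨a, rfl⟩ := IsLocalRing.residue_surjective t
  refine ⟨eps k G a, ?_⟩
  show IsLocalRing.residue (A k G) (algebraMap k (A k G) (eps k G a)) = IsLocalRing.residue _ a
  rw [eq_comm, ← sub_eq_zero, ← map_sub, IsLocalRing.residue_eq_zero_iff,
    IsLocalRing.mem_maximalIdeal, mem_nonunits_iff]
  intro hu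
  have h1 := hu.map (eps k G)
  rw [map_sub, AlgHom.commutes] at h1
  simp at h1

variable [LocallyOfFiniteType G.hom]

theorem dim_stalk : ringKrullDim (A k G) = topologicalKrullDim G.left :=
  Groth.Agent.S0354.result k G (e k G) (isClosed_e k G)

theorem mem_smoothLocus_of_regular (h : IsRegularLocalRing (A k G)) :
    e k G ∈ G.hom.smoothLocus := by
  haveI : LocallyOfFiniteType (G.left ↘ Spec (CommRingCat.of k)) := ‹LocallyOfFiniteType G.hom›
  exact mem_smoothLocus_of_regular_of_rational k G.left (e k G) (residue_surjective k G) h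

theorem smooth_of_mem_smoothLocus (x : G.left) (hx : x ∈ G.hom.smoothLocus) : Smooth G.hom := by
  let g : Spec (.of (AlgebraicClosure k)) ⟶ Spec (.of k) :=
    Spec.map (CommRingCat.ofHom (algebraMap k (AlgebraicClosure k)))
  haveI : GrpObj (Over.mk G.hom) := inferInstanceAs (GrpObj G)
  apply MorphismProperty.of_pullback_snd_of_descendsAlong
    (Q := @Surjective ⊓ @Flat ⊓ @QuasiCompact) (g := g)
  · exact ⟨⟨inferInstance, inferInstance⟩, inferInstance⟩
  · let : GrpObj (Over.mk (Limits.pullback.snd G.hom g)) := Over.grpObjMkPullbackSnd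
    apply Groth.Agent.Lib.GrpSmoothH4.smooth_of_nonempty_smoothLocus_of_isAlgClosed
    obtain ⟨z, hz⟩ := (pullback.fst G.hom g).surjective x
    refine ⟨z, Groth.Agent.Lib.GrpSmoothH4.preimage_smoothLocus_le_smoothLocus_snd G.hom g ?_⟩
    show (pullback.fst G.hom g) z ∈ G.hom.smoothLocus
    rw [hz]; exact hx

theorem regular_of_smooth [Smooth G.hom] : IsRegularLocalRing (A k G) := by
  haveI : IsLocallyNoetherian G.left := LocallyOfFiniteType.isLocallyNoetherian G.hom
  haveI : IsNoetherianRing (A k G) := inferInstance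
  haveI : LocallyOfFinitePresentation (G.left ↘ Spec (CommRingCat.of k)) :=
    inferInstanceAs (LocallyOfFinitePresentation G.hom)
  haveI : Smooth (G.left ↘ Spec (CommRingCat.of k)) := ‹Smooth G.hom›
  have hsm : Algebra.FormallySmooth k (A k G) :=
    (Groth.Agent.Lib.GenSmoothGR2H6.mem_smoothLocus_iff k G.left (e k G)).1
      (by rw [Scheme.Hom.smoothLocus_eq_top]; trivial)
  haveI := hsm
  exact Groth.Agent.Lib.SmoothRegFieldH3.regular_of_formallySmooth_field (k := k)

theorem main7822 :
    (topologicalKrullDim G.left ≤ ((Module.finrank (IsLocalRing.ResidueField (A k G))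
        (IsLocalRing.CotangentSpace (A k G)) : ℕ∞) : WithBot ℕ∞)) ∧
    (Smooth G.hom ↔ topologicalKrullDim G.left =
      ((Module.finrank (IsLocalRing.ResidueField (A k G))
        (IsLocalRing.CotangentSpace (A k G)) : ℕ∞) : WithBot ℕ∞)) ∧
    (Smooth G.hom ↔ ∃ U : G.left.Opens, e k G ∈ U ∧ Smooth (U.ι ≫ G.hom)) := by
  haveI : IsLocallyNoetherian G.left := LocallyOfFiniteType.isLocallyNoetherian G.hom
  haveI : IsNoetherianRing (A k G) := inferInstance
  have hcast : ((Module.finrank (IsLocalRing.ResidueField (A k G))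
        (IsLocalRing.CotangentSpace (A k G)) : ℕ∞) : WithBot ℕ∞) =
      ((Module.finrank (IsLocalRing.ResidueField (A k G))
        (IsLocalRing.CotangentSpace (A k G)) : ℕ) : WithBot ℕ∞) := rfl
  rw [hcast]
  have hiff := IsRegularLocalRing.iff_finrank_cotangentSpace (A k G)
  refine ⟨?_, ⟨fun hs => ?_, fun hd => ?_⟩, ⟨fun hs => ?_, ?_⟩⟩
  · rw [← dim_stalk k G, ← IsLocalRing.spanFinrank_maximalIdeal_eq_finrank_cotangentSpace]
    exact ringKrullDim_le_spanFinrank_maximalIdeal (A k G)
  · haveI := hs
    rw [← dim_stalk k G]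
    exact (hiff.mp (regular_of_smooth k G)).symm
  · rw [← dim_stalk k G] at hd
    exact smooth_of_mem_smoothLocus k G _ (mem_smoothLocus_of_regular k G (hiff.mpr hd.symm))
  · haveI := hs
    exact ⟨⊤, trivial, inferInstance⟩
  · rintro ⟨U, heU, hU⟩
    haveI := hU
    have h1 : (U.ι ≫ G.hom).smoothLocus = ⊤ := Scheme.Hom.smoothLocus_eq_top _
    rw [← Scheme.Hom.preimage_smoothLocus_eq] at h1
    have h2 : (⟨e k G, heU⟩ : U) ∈ U.ι ⁻¹ᵁ G.hom.smoothLocus := by rw [h1]; trivial
    exact smooth_of_mem_smoothLocus k G _ h2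

end group

end Groth.Agent.Lib.GrpDimSmoothH6
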