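import Groth.Statements.S18027
import Groth.Agent.Lib.GrpConnComp_helper4
import Groth.Agent.Lib.GrpDimSmooth_helper6

/-! # A closed subgroup of the same dimension contains the identity component (lead) -/

set_option backward.isDefEq.respectTransparency false
set_option backward.isDefEq.respectTransparency.types false
set_option linter.unusedSimpArgs false
set_option linter.unusedVariables false
set_option linter.unusedSectionVars false
set_option linter.style.longLine false
set_option linter.style.haveILetI false
set_option maxHeartbeats 800000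

universe u

open CategoryTheory CategoryTheory.Limits MonoidalCategory CartesianMonoidalCategory MonObj GrpObj
  AlgebraicGeometry Opposite Topology

namespace Groth.Agent.Lib.IdCompDim

theorem gen_mem {X : Type*} [TopologicalSpace X] {x e : X} (h : x ⤳ e) :
    x ∈ connectedComponent e := by
  have hc : IsPreconnected (closure ({x} : Set X)) := isPreconnected_singleton.closure
  exact hc.subset_connectedComponent h.mem_closure (subset_closure rfl)

variable (k : Type u) [Field k]

theorem main18027 (G H : Over (Spec (CommRingCat.of k))) [GrpObj G] [GrpObj H]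
    [LocallyOfFiniteType G.hom] [LocallyOfFiniteType H.hom] (u : G ⟶ H) [IsMonHom u]
    [IsClosedImmersion u.left]
    (hdim : topologicalKrullDim ↥G.left = topologicalKrullDim ↥H.left)
    (t : ↥((𝟙_ (Over (Spec (CommRingCat.of k)))).left)) :
    u.left '' connectedComponent (η[G].left t) = connectedComponent (η[H].left t) := by
  haveI : Subsingleton ↥(Spec (CommRingCat.of k)) :=
    inferInstanceAs (Subsingleton (PrimeSpectrum k))
  obtain rfl : t = IsLocalRing.closedPoint k := Subsingleton.elim (α := PrimeSpectrum k) _ _
  obtain ⟨eG, heG⟩ : ∃ eG : G.left, eG = η[G].left (IsLocalRing.closedPoint k) := ⟨_, rfl⟩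
  obtain ⟨eH, heH⟩ : ∃ eH : H.left, eH = η[H].left (IsLocalRing.closedPoint k) := ⟨_, rfl⟩
  rw [← heG, ← heH]
  have hue : u.left eG = eH := by
    rw [heG, heH]
    have h1 : η[G] ≫ u = η[H] := IsMonHom.one_hom u
    have h2 : (η[G] ≫ u).left = η[H].left := congrArg (fun f => f.left) h1
    rw [← h2]
    rfl
  have hclG : IsClosed ({eG} : Set G.left) := by
    rw [heG]; exact Groth.Agent.Lib.GrpDimSmoothH6.isClosed_e k G
  have hclH : IsClosed ({eH} : Set H.left) := by
    rw [heH]; exact Groth.Agent.Lib.GrpDimSmoothH6.isClosed_e k H
  have hirrH : IsIrreducible (connectedComponent eH) := by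
    rw [heH]; exact (GrpConnCompH4.main0355 k H).1
  obtain ⟨ξ, hξ⟩ := QuasiSober.sober hirrH isClosed_connectedComponent
  have hξdef : closure ({ξ} : Set H.left) = connectedComponent eH := hξ.def
  have hind : IsInducing (u.left : G.left → H.left) := u.left.isClosedEmbedding.isInducing
  have hsub : u.left '' connectedComponent eG ⊆ connectedComponent eH :=
    (isPreconnected_connectedComponent.image _ u.left.continuous.continuousOn).subset_connectedComponent
      ⟨eG, mem_connectedComponent, hue⟩
  have hclosed : IsClosed (u.left '' connectedComponent eG) :=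
    u.left.isClosedEmbedding.isClosedMap _ isClosed_connectedComponent
  have hrcl : IsClosed (Set.range (u.left : G.left → H.left)) :=
    u.left.isClosedEmbedding.isClosed_range
  -- key claim
  have key : ξ ∈ Set.range (u.left : G.left → H.left) := by
    by_contra hnot
    haveI : IsNoetherianRing (CommRingCat.of k) := inferInstanceAs (IsNoetherianRing k)
    haveI : IsLocallyNoetherian H.left := LocallyOfFiniteType.isLocallyNoetherian H.hom
    have h1 := Groth.Agent.S0354.result k G eG hclG
    have h2 := Groth.Agent.S0354.result k H eH hclH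
    have h3 : ((Order.coheight eG : ℕ∞) : WithBot ℕ∞) = ((Order.coheight eH : ℕ∞) : WithBot ℕ∞) := by
      rw [← ringKrullDim_stalk_eq_coheight, ← ringKrullDim_stalk_eq_coheight, h1, h2, hdim]
    have h4 : Order.coheight eG = Order.coheight eH := WithBot.coe_injective h3
    have hfin : Order.coheight eH < ⊤ := by
      haveI : IsNoetherianRing (H.left.presheaf.stalk eH) := inferInstance
      have h5 := ringKrullDim_lt_top (R := H.left.presheaf.stalk eH)
      rw [ringKrullDim_stalk_eq_coheight] at h5
      rw [← WithBot.coe_top] at h5
      exact WithBot.coe_lt_coe.1 h5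
    obtain ⟨n, hn⟩ : ∃ n : ℕ, Order.coheight eG = n := by
      rw [h4]
      exact ⟨(Order.coheight eH).toNat, (ENat.natCast_toNat hfin.ne).symm⟩
    obtain ⟨p, hp1, hp2⟩ := Order.exists_series_of_coheight_eq_coe eG hn
    have hmono : StrictMono (u.left : G.left → H.left) := by
      intro x y hxy
      rw [lt_iff_le_not_ge] at hxy ⊢
      have a1 : y ⤳ x := hxy.1
      have a2 : ¬ x ⤳ y := hxy.2
      exact ⟨show u.left y ⤳ u.left x from hind.specializes_iff.2 a1,
        fun h => a2 (hind.specializes_iff.1 (show u.left x ⤳ u.left y from h))⟩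
    have hlast : p.last ⤳ eG := by
      have h6 : p.head ≤ p.last := LTSeries.head_le_last p
      rw [hp1] at h6
      exact h6
    have hlast_mem : u.left p.last ∈ connectedComponent eH := hsub (Set.mem_image_of_mem _ (gen_mem hlast))
    have hξlast : ξ ⤳ u.left p.last := by
      rw [specializes_iff_mem_closure, hξdef]
      exact hlast_mem
    have hnot' : ¬ (u.left p.last ⤳ ξ) := fun h => hnot
      ((closure_minimal (Set.singleton_subset_iff.2 (Set.mem_range_self p.last)) hrcl) h.mem_closure)
    have hlt : (p.map u.left hmono).last < ξ := by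
      rw [LTSeries.last_map, lt_iff_le_not_ge]
      exact ⟨hξlast, hnot'⟩
    have hq : (((p.map u.left hmono).snoc ξ hlt).length : ℕ∞) ≤ Order.coheight eH := by
      refine Order.length_le_coheight ?_
      rw [RelSeries.head_snoc, LTSeries.head_map, hp1, hue]
    have hlen : ((p.map u.left hmono).snoc ξ hlt).length = n + 1 := by
      rw [RelSeries.snoc_length]
      show p.length + 1 = n + 1
      rw [hp2]
    rw [hlen, ← h4, hn] at hq
    have : n + 1 ≤ n := by exact_mod_cast hq
    omega
  obtain ⟨ξ', hξ'⟩ := key
  have hξe : ξ ⤳ eH := by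
    rw [specializes_iff_mem_closure, hξdef]
    exact mem_connectedComponent
  have hξ'e : ξ' ⤳ eG := by
    apply hind.specializes_iff.1
    rw [hξ', hue]
    exact hξe
  apply Set.Subset.antisymm hsub
  rw [← hξdef]
  refine closure_minimal (Set.singleton_subset_iff.2 ?_) hclosed
  exact ⟨ξ', gen_mem hξ'e, hξ'⟩

end Groth.Agent.Lib.IdCompDim
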