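import Groth.Agent.Lib.AlbProd_lead
import Groth.Agent.Lib.IdCompDim_lead
import Groth.Agent.Lib.AutFix_lead
import Groth.Agent.Lib.GenFlatHom_lead
import Groth.Agent.Lib.SchImGrp_helper4
import Groth.Agent.Lib.GrpIdComp_helper4

/-! # Abelian subvarieties: images of homomorphisms and the maximal abelian subvariety (lead) -/

set_option backward.isDefEq.respectTransparency false
set_option backward.isDefEq.respectTransparency.types false
set_option linter.unusedSimpArgs false
set_option linter.unusedVariables false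
set_option linter.unusedSectionVars false
set_option linter.style.longLine false
set_option linter.style.haveILetI false
set_option maxHeartbeats 800000

universe u

open CategoryTheory CategoryTheory.Limits MonoidalCategory CartesianMonoidalCategory MonObj GrpObj
  AlgebraicGeometry Opposite Topology

namespace Groth.Agent.Lib.AbSubvar

variable {k : Type u} [Field k]

/-- a morphism from a reduced scheme whose image lies in a closed subscheme factors through it -/
theorem lift_of_range_subset {X M G : Scheme.{u}} [IsReduced X] (i : M ⟶ G) [IsClosedImmersion i]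
    (g : X ⟶ G) (h : Set.range g ⊆ Set.range i) : ∃ g' : X ⟶ M, g' ≫ i = g := by
  haveI : IsClosedImmersion (pullback.fst g i) :=
    MorphismProperty.pullback_fst (P := @IsClosedImmersion) g i inferInstance
  haveI : Surjective (pullback.fst g i) := by
    refine ⟨fun x => ?_⟩
    obtain ⟨m, hm⟩ := h ⟨x, rfl⟩
    obtain ⟨z, hz1, hz2⟩ := Scheme.Pullback.exists_preimage_pullback (f := g) (g := i) x m hm.symm
    exact ⟨z, hz1⟩
  haveI : IsIso (pullback.fst g i) := isIso_of_isClosedImmersion_of_surjective (pullback.fst g i)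
  refine ⟨inv (pullback.fst g i) ≫ pullback.snd g i, ?_⟩
  rw [Category.assoc, ← pullback.condition, ← Category.assoc, IsIso.inv_hom_id, Category.id_comp]

/-- geometric integrality passes to the target of a flat surjective quasi-compact morphism -/
theorem geomIntegral_of_cover {A M S : Scheme.{u}} (p : A ⟶ M) (a : A ⟶ S) (m : M ⟶ S)
    (hw : p ≫ m = a) [Flat p] [Surjective p] [QuasiCompact p] [GeometricallyIntegral a] :
    GeometricallyIntegral m := by
  refine ⟨?_⟩
  intro K _ y Z fst' snd' h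
  have sq1 : IsPullback (pullback.fst p fst') (pullback.snd p fst') p fst' :=
    IsPullback.of_hasPullback p fst'
  have sq2 : IsPullback (pullback.fst p fst') (pullback.snd p fst' ≫ snd') (p ≫ m) y :=
    sq1.paste_vert h
  rw [hw] at sq2
  haveI : IsIntegral (pullback p fst') :=
    GeometricallyIntegral.geometrically_isIntegral y _ _ sq2
  haveI : Flat (pullback.snd p fst') := inferInstance
  haveI : Surjective (pullback.snd p fst') := inferInstance
  haveI : QuasiCompact (pullback.snd p fst') := inferInstance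
  exact Groth.Agent.Lib.AutFix.integral_of_cover (pullback.snd p fst')

/-- the image of a homomorphism from an abelian variety is an abelian subvariety -/
theorem img_abvar (A G : Over (Spec (CommRingCat.of k))) [GrpObj A] [GrpObj G]
    [IsProper A.hom] [GeometricallyIntegral A.hom] [LocallyOfFiniteType G.hom]
    (φ : A ⟶ G) [IsMonHom φ] :
    ∃ (M : Over (Spec (CommRingCat.of k))) (_ : GrpObj M) (i : M ⟶ G) (φ' : A ⟶ M),
      IsMonHom i ∧ IsMonHom φ' ∧ φ' ≫ i = φ ∧ IsClosedImmersion i.left ∧ Surjective φ'.left ∧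
      IsProper M.hom ∧ GeometricallyIntegral M.hom := by
  haveI hsub : Subsingleton ↥(Spec (CommRingCat.of k)) :=
    inferInstanceAs (Subsingleton (PrimeSpectrum k))
  haveI : IsDomain (CommRingCat.of k) := inferInstanceAs (IsDomain k)
  haveI : IsSeparated G.hom := GrpSepDiscH4.main5331 _ G
  haveI : QuasiCompact φ.left := by
    haveI : QuasiCompact (φ.left ≫ G.hom) := by rw [Over.w φ]; infer_instance
    exact QuasiCompact.of_comp φ.left G.hom
  obtain ⟨M, grp, i, φ', h1, h2, h3, h4, h5, h6, h7⟩ := SchImGrpH4.main3024 k A G φ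
  haveI := h1
  haveI := h2
  haveI := h4
  haveI := h6
  haveI := h7
  haveI : IsIntegral A.left := Groth.Agent.Lib.Rigidity.integral_of_geomIntegral A
  haveI : IsSchemeTheoreticallyDominant φ'.left := ⟨h5⟩
  haveI : IsReduced M.left := IsSchemeTheoreticallyDominant.isReduced φ'.left
  haveI : Flat φ'.left := Groth.Agent.Lib.GenFlatHom.flat_hom φ'
  haveI : GeometricallyIntegral M.hom := geomIntegral_of_cover φ'.left A.hom M.hom (Over.w φ')
  haveI : IsSeparated M.hom := GrpSepDiscH4.main5331 _ M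
  haveI : LocallyOfFiniteType M.hom := by rw [← Over.w i]; infer_instance
  haveI : UniversallyClosed M.hom := by
    haveI : UniversallyClosed (φ'.left ≫ M.hom) := by rw [Over.w φ']; infer_instance
    exact UniversallyClosed.of_comp_surjective φ'.left M.hom
  haveI : IsProper M.hom := (isProper_iff _).2 ⟨inferInstance, inferInstance, inferInstance⟩
  exact ⟨M, grp, i, φ', h1, h2, h3, h4, h7, inferInstance, inferInstance⟩

/-- a product of geometrically integral `k`-schemes is geometrically integral -/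
theorem geomIntegral_tensor (M A : Over (Spec (CommRingCat.of k)))
    [GeometricallyIntegral M.hom] [GeometricallyIntegral A.hom] [LocallyOfFiniteType A.hom] :
    GeometricallyIntegral (M ⊗ A).hom := by
  haveI hsub : Subsingleton ↥(Spec (CommRingCat.of k)) :=
    inferInstanceAs (Subsingleton (PrimeSpectrum k))
  haveI : IsDomain (CommRingCat.of k) := inferInstanceAs (IsDomain k)
  haveI : IsIntegral (Spec (CommRingCat.of k)) := inferInstance
  haveI : Flat M.hom := inferInstance
  haveI : UniversallyOpen M.hom := inferInstance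
  refine ⟨?_⟩
  intro K _ y Z fst' snd' h
  have sqA : IsPullback (pullback.fst A.hom y) (pullback.snd A.hom y) A.hom y :=
    IsPullback.of_hasPullback A.hom y
  haveI : IsIntegral (pullback A.hom y) :=
    GeometricallyIntegral.geometrically_isIntegral y _ _ sqA
  haveI : IsNoetherianRing (CommRingCat.of K) := inferInstanceAs (IsNoetherianRing K)
  haveI : LocallyOfFiniteType (pullback.snd A.hom y) := inferInstance
  haveI : IsLocallyNoetherian (pullback A.hom y) :=
    LocallyOfFiniteType.isLocallyNoetherian (pullback.snd A.hom y)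
  have hw : (fst' ≫ (snd M A).left) ≫ A.hom = snd' ≫ y := by
    rw [Category.assoc, Over.w (snd M A)]; exact h.w
  obtain ⟨u, hu⟩ : ∃ u : Z ⟶ pullback A.hom y, u = pullback.lift (fst' ≫ (snd M A).left) snd' hw :=
    ⟨_, rfl⟩
  have hu1 : u ≫ pullback.fst A.hom y = fst' ≫ (snd M A).left := by
    rw [hu]; exact pullback.lift_fst _ _ _
  have hu2 : u ≫ pullback.snd A.hom y = snd' := by
    rw [hu]; exact pullback.lift_snd _ _ _
  have outer : IsPullback (u ≫ pullback.snd A.hom y) fst' y ((snd M A).left ≫ A.hom) := by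
    rw [hu2, Over.w (snd M A)]; exact h.flip
  have sqL : IsPullback u fst' (pullback.fst A.hom y) (snd M A).left :=
    IsPullback.of_right outer hu1 sqA.flip
  have sqT : IsPullback (snd M A).left (fst M A).left A.hom M.hom :=
    (IsPullback.of_hasPullback M.hom A.hom :
      IsPullback (fst M A).left (snd M A).left M.hom A.hom).flip
  have sqB : IsPullback u (fst' ≫ (fst M A).left) (pullback.fst A.hom y ≫ A.hom) M.hom :=
    sqL.paste_vert sqT
  haveI : GeometricallyIntegral u :=
    MorphismProperty.of_isPullback (P := @GeometricallyIntegral) sqB.flip inferInstance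
  haveI : Flat u := MorphismProperty.of_isPullback (P := @Flat) sqB.flip inferInstance
  haveI : UniversallyOpen u :=
    MorphismProperty.of_isPullback (P := @UniversallyOpen) sqB.flip inferInstance
  exact GeometricallyIntegral.isIntegral_of_isLocallyNoetherian u

/-- a connected geometrically reduced group scheme over a field is geometrically integral -/
theorem geomIntegral_of_conn (A : Over (Spec (CommRingCat.of k))) [GrpObj A]
    [GeometricallyReduced A.hom] [ConnectedSpace ↥A.left] : GeometricallyIntegral A.hom := by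
  haveI : IrreducibleSpace ↥A.left := GrpConnIrrH4.main0348 k A
  haveI : GeometricallyIrreducible A.hom := by
    have hr : Set.range (𝟙 A.left : A.left ⟶ A.left) = Set.univ :=
      Set.range_eq_univ.2 (fun x => ⟨x, by simp⟩)
    have h := Groth.Agent.Lib.GrpIdCompH4.main7517 k A A.left (𝟙 A.left)
      (by rw [hr]; exact ⟨IrreducibleSpace.isIrreducible_univ _, fun t _ _ => Set.subset_univ t⟩)
      (by rw [hr]; exact Set.mem_univ _)
    rwa [Category.id_comp] at h
  exact GeometricallyIntegral.of_geometricallyReduced_of_geometricallyIrreducible A.hom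

theorem nat_of_bounds (x : WithBot ℕ∞) (h0 : 0 ≤ x) (h1 : x < ⊤) :
    ∃ n : ℕ, x = ((n : ℕ∞) : WithBot ℕ∞) := by
  induction x using WithBot.recBotCoe with
  | bot => exact absurd h0 (by simp)
  | coe a =>
    induction a using ENat.recTopCoe with
    | top => exact absurd h1 (by simp)
    | coe n => exact ⟨n, rfl⟩

/-- the dimension of a group scheme locally of finite type over a field is a natural number -/
theorem exists_nat_dim (G : Over (Spec (CommRingCat.of k))) [GrpObj G] [LocallyOfFiniteType G.hom] :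
    ∃ n : ℕ, topologicalKrullDim ↥G.left = ((n : ℕ∞) : WithBot ℕ∞) := by
  haveI : IsNoetherianRing (CommRingCat.of k) := inferInstanceAs (IsNoetherianRing k)
  haveI : IsLocallyNoetherian G.left := LocallyOfFiniteType.isLocallyNoetherian G.hom
  obtain ⟨eG, heG⟩ : ∃ eG : G.left, eG = η[G].left (IsLocalRing.closedPoint k) := ⟨_, rfl⟩
  have hcl : IsClosed ({eG} : Set G.left) := by
    rw [heG]; exact Groth.Agent.Lib.GrpDimSmoothH6.isClosed_e k G
  have h1 := Groth.Agent.S0354.result k G eG hcl
  rw [← h1]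
  haveI : IsNoetherianRing (G.left.presheaf.stalk eG) := inferInstance
  exact nat_of_bounds _ ringKrullDim_nonneg_of_nontrivial ringKrullDim_lt_top

theorem geomIntegral_unit :
    GeometricallyIntegral (𝟙_ (Over (Spec (CommRingCat.of k)))).hom := by
  refine ⟨?_⟩
  intro K _ y Z fst' snd' h
  have h' : IsPullback fst' snd' (𝟙 (Spec (CommRingCat.of k))) y := h
  haveI : IsIso snd' := h'.isIso_snd_of_isIso
    (show IsIso (𝟙 (Spec (CommRingCat.of k))) from inferInstance)
  haveI : IsDomain (CommRingCat.of K) := inferInstanceAs (IsDomain K)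
  haveI : IsIntegral (Spec (CommRingCat.of K)) := inferInstance
  obtain ⟨pt⟩ : Nonempty ↥(Spec (CommRingCat.of K)) :=
    (inferInstance : Nonempty (PrimeSpectrum K))
  haveI : Nonempty ↥Z := ⟨(inv snd') pt⟩
  exact isIntegral_of_isOpenImmersion snd'

/-- **S14820**: the maximal abelian subvariety of a commutative group scheme locally of finite
type over a field -/
theorem main14820 (G : Over (Spec (CommRingCat.of k))) [GrpObj G] [IsCommMonObj G]
    [LocallyOfFiniteType G.hom] :
    ∃ (M : Over (Spec (CommRingCat.of k))) (_ : GrpObj M) (i : M ⟶ G), IsMonHom i ∧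
      IsClosedImmersion i.left ∧ IsProper M.hom ∧ GeometricallyIntegral M.hom ∧
      ∀ (A : Over (Spec (CommRingCat.of k))) [GrpObj A] [IsProper A.hom]
        [GeometricallyReduced A.hom] [ConnectedSpace ↥A.left]
        (φ : A ⟶ G), IsMonHom φ → ∃ ψ : A ⟶ M, ψ ≫ i = φ := by
  classical
  obtain ⟨D, hD⟩ : ∃ D : Set ℕ, D = {n : ℕ | ∃ (M : Over (Spec (CommRingCat.of k))) (_ : GrpObj M)
      (i : M ⟶ G), (IsMonHom i ∧ IsClosedImmersion i.left ∧ IsProper M.hom ∧
        GeometricallyIntegral M.hom) ∧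
      topologicalKrullDim ↥M.left = ((n : ℕ∞) : WithBot ℕ∞)} := ⟨_, rfl⟩
  obtain ⟨N, hN⟩ := exists_nat_dim G
  have hbdd : BddAbove D := by
    refine ⟨N, ?_⟩
    intro n hn
    rw [hD] at hn
    obtain ⟨M, grp, i, ⟨h1, h2, h3, h4⟩, hd⟩ := hn
    haveI := h2
    have hle : topologicalKrullDim ↥M.left ≤ topologicalKrullDim ↥G.left :=
      i.left.isClosedEmbedding.isInducing.topologicalKrullDim_le
    rw [hd, hN] at hle
    exact Nat.cast_le.1 (WithBot.coe_le_coe.1 hle)
  have hne : D.Nonempty := by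
    haveI : IsProper (𝟙_ (Over (Spec (CommRingCat.of k)))).hom := by
      show IsProper (𝟙 (Spec (CommRingCat.of k)))
      infer_instance
    haveI : GeometricallyIntegral (𝟙_ (Over (Spec (CommRingCat.of k)))).hom := geomIntegral_unit
    obtain ⟨M, grp, i, φ', h1, h2, h3, h4, h5, h6, h7⟩ :=
      img_abvar (𝟙_ (Over (Spec (CommRingCat.of k)))) G η[G]
    haveI := h6
    obtain ⟨n, hn⟩ := exists_nat_dim M
    refine ⟨n, ?_⟩
    rw [hD]
    exact ⟨M, grp, i, ⟨h1, h4, h6, h7⟩, hn⟩
  obtain ⟨n₀, hn₀⟩ : ∃ n₀ : ℕ, n₀ = sSup D := ⟨_, rfl⟩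
  have hmem : n₀ ∈ D := by rw [hn₀]; exact Nat.sSup_mem hne hbdd
  have hmem' := hmem
  rw [hD] at hmem'
  obtain ⟨M₀, grp₀, i₀, ⟨a1, a2, a3, a4⟩, hd₀⟩ := hmem'
  refine ⟨M₀, grp₀, i₀, a1, a2, a3, a4, ?_⟩
  intro A _ _ _ _ φ hφ
  haveI := hφ
  haveI := a1
  haveI := a2
  haveI := a3
  haveI := a4
  haveI : GeometricallyIntegral A.hom := geomIntegral_of_conn A
  obtain ⟨MA, grpA, iA, φ', b1, b2, b3, b4, b5, b6, b7⟩ := img_abvar A G φ
  haveI := b1
  haveI := b2
  haveI := b4
  haveI := b6
  haveI := b7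
  haveI : IsMonHom ((fst M₀ MA ≫ i₀) * (snd M₀ MA ≫ iA)) :=
    Groth.Agent.Lib.Rigidity.isMonHom_prod i₀ iA
  haveI : IsProper (M₀ ⊗ MA).hom := by rw [Over.tensorObj_hom]; infer_instance
  haveI : GeometricallyIntegral (M₀ ⊗ MA).hom := geomIntegral_tensor M₀ MA
  obtain ⟨M₃, grp₃, i₃, ψ', c1, c2, c3, c4, c5, c6, c7⟩ :=
    img_abvar (M₀ ⊗ MA) G ((fst M₀ MA ≫ i₀) * (snd M₀ MA ≫ iA))
  haveI := c1
  haveI := c2
  haveI := c4
  haveI := c6
  haveI := c7
  obtain ⟨j₀, hj₀def⟩ : ∃ j₀ : M₀ ⟶ M₃, j₀ = lift (𝟙 M₀) (toUnit M₀ ≫ η[MA]) ≫ ψ' := ⟨_, rfl⟩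
  obtain ⟨jA, hjAdef⟩ : ∃ jA : MA ⟶ M₃, jA = lift (toUnit MA ≫ η[M₀]) (𝟙 MA) ≫ ψ' := ⟨_, rfl⟩
  have hj₀ : j₀ ≫ i₃ = i₀ := by
    rw [hj₀def, Category.assoc, c3, MonObj.comp_mul, lift_fst_assoc, lift_snd_assoc,
      Category.id_comp, Category.assoc, IsMonHom.one_hom iA, ← Hom.one_def, _root_.mul_one]
  have hjA : jA ≫ i₃ = iA := by
    rw [hjAdef, Category.assoc, c3, MonObj.comp_mul, lift_fst_assoc, lift_snd_assoc,
      Category.id_comp, Category.assoc, IsMonHom.one_hom i₀, ← Hom.one_def, _root_.one_mul]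
  haveI : IsMonHom j₀ := by rw [hj₀def]; infer_instance
  haveI : IsClosedImmersion j₀.left := by
    haveI : IsClosedImmersion (j₀.left ≫ i₃.left) := by
      rw [← Over.comp_left, hj₀]; infer_instance
    exact IsClosedImmersion.of_comp_isClosedImmersion j₀.left i₃.left
  haveI : LocallyOfFiniteType M₃.hom := inferInstance
  haveI : LocallyOfFiniteType M₀.hom := inferInstance
  obtain ⟨n₃, hn₃⟩ := exists_nat_dim M₃
  have hn₃D : n₃ ∈ D := by
    rw [hD]
    exact ⟨M₃, grp₃, i₃, ⟨c1, c4, c6, c7⟩, hn₃⟩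
  have hle1 : n₃ ≤ n₀ := by rw [hn₀]; exact le_csSup hbdd hn₃D
  have hle2 : topologicalKrullDim ↥M₀.left ≤ topologicalKrullDim ↥M₃.left :=
    j₀.left.isClosedEmbedding.isInducing.topologicalKrullDim_le
  have hdim : topologicalKrullDim ↥M₀.left = topologicalKrullDim ↥M₃.left := by
    rw [hd₀, hn₃] at hle2 ⊢
    have h2 : n₀ ≤ n₃ := Nat.cast_le.1 (WithBot.coe_le_coe.1 hle2)
    rw [le_antisymm h2 hle1]
  haveI : IsIntegral M₀.left := Groth.Agent.Lib.Rigidity.integral_of_geomIntegral M₀
  haveI : IsIntegral M₃.left := Groth.Agent.Lib.Rigidity.integral_of_geomIntegral M₃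
  obtain ⟨t⟩ : Nonempty ↥((𝟙_ (Over (Spec (CommRingCat.of k)))).left) :=
    (inferInstance : Nonempty (PrimeSpectrum k))
  have himg := Groth.Agent.Lib.IdCompDim.main18027 k M₀ M₃ j₀ hdim t
  rw [PreconnectedSpace.connectedComponent_eq_univ, PreconnectedSpace.connectedComponent_eq_univ,
    Set.image_univ] at himg
  haveI : Surjective j₀.left := ⟨Set.range_eq_univ.1 himg⟩
  haveI : IsIso j₀.left := isIso_of_isClosedImmersion_of_surjective j₀.left
  haveI : IsIso ((Over.forget (Spec (CommRingCat.of k))).map j₀) :=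
    (inferInstance : IsIso j₀.left)
  haveI : IsIso j₀ := isIso_of_reflects_iso j₀ (Over.forget (Spec (CommRingCat.of k)))
  refine ⟨φ' ≫ jA ≫ inv j₀, ?_⟩
  have e : inv j₀ ≫ i₀ = i₃ := by rw [IsIso.inv_comp_eq, hj₀]
  rw [Category.assoc, Category.assoc, e, hjA, b3]

/-- **S12024**: a homomorphism between Albanese varieties induced by a dominant morphism is
surjective -/
theorem main12024 (V W A B : Over (Spec (CommRingCat.of k))) [IsReduced W.left]
    [GrpObj A] [IsProper A.hom] [GeometricallyIntegral A.hom]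
    [GrpObj B] [IsProper B.hom] [GeometricallyIntegral B.hom]
    (w₀ : 𝟙_ (Over (Spec (CommRingCat.of k))) ⟶ W) (φ : V ⟶ W) (hdom : DenseRange φ.left)
    (f : V ⟶ A) (g : W ⟶ B) (hg : w₀ ≫ g = η[B])
    (hB : ∀ (B' : Over (Spec (CommRingCat.of k))) [GrpObj B'] [IsProper B'.hom]
      [GeometricallyIntegral B'.hom] (h : W ⟶ B'),
        w₀ ≫ h = η[B'] → ∃! β : B ⟶ B', IsMonHom β ∧ g ≫ β = h)
    (ψ : A ⟶ B) [IsMonHom ψ] (hψ : f ≫ ψ = φ ≫ g) : Surjective ψ.left := by
  obtain ⟨M, grp, i, ψ', h1, h2, h3, h4, h5, h6, h7⟩ := img_abvar A B ψ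
  haveI := h1
  haveI := h2
  haveI := h4
  haveI := h5
  haveI := h6
  haveI := h7
  have hcl : IsClosed (Set.range i.left) := i.left.isClosedEmbedding.isClosed_range
  have hsub : Set.range g.left ⊆ Set.range i.left := by
    have hpre : IsClosed (g.left ⁻¹' Set.range i.left) := hcl.preimage g.left.continuous
    have hφsub : Set.range φ.left ⊆ g.left ⁻¹' Set.range i.left := by
      rintro _ ⟨v, rfl⟩
      refine ⟨ψ'.left (f.left v), ?_⟩
      have e : f.left ≫ ψ'.left ≫ i.left = φ.left ≫ g.left := by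
        rw [← Over.comp_left, ← Over.comp_left, ← Over.comp_left, h3, hψ]
      have e2 : (f.left ≫ ψ'.left ≫ i.left) v = (φ.left ≫ g.left) v := by rw [e]
      rw [Scheme.Hom.comp_apply, Scheme.Hom.comp_apply, Scheme.Hom.comp_apply] at e2
      exact e2
    have huniv : g.left ⁻¹' Set.range i.left = Set.univ := by
      apply Set.eq_univ_of_univ_subset
      rw [← hdom.closure_range]
      exact closure_minimal hφsub hpre
    rintro _ ⟨w, rfl⟩
    have : w ∈ g.left ⁻¹' Set.range i.left := by rw [huniv]; exact Set.mem_univ w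
    exact this
  obtain ⟨g₀, hg₀⟩ := lift_of_range_subset i.left g.left hsub
  obtain ⟨g', hg'def⟩ : ∃ g' : W ⟶ M, g'.left = g₀ :=
    ⟨Over.homMk g₀ (by rw [← Over.w i, ← Category.assoc, hg₀, Over.w g]), rfl⟩
  have hg' : g' ≫ i = g := by
    apply Over.OverMorphism.ext
    rw [Over.comp_left, hg'def, hg₀]
  have hw₀ : w₀ ≫ g' = η[M] := by
    apply Over.OverMorphism.ext
    rw [← cancel_mono i.left, ← Over.comp_left, ← Over.comp_left, Category.assoc, hg', hg,
      IsMonHom.one_hom i]
  obtain ⟨β, ⟨hβ1, hβ2⟩, -⟩ := hB M g' hw₀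
  obtain ⟨β₀, -, huniq⟩ := hB B g hg
  haveI := hβ1
  have e1 : β ≫ i = β₀ := huniq (β ≫ i) ⟨inferInstance, by rw [← Category.assoc, hβ2, hg']⟩
  have e2 : 𝟙 B = β₀ := huniq (𝟙 B) ⟨inferInstance, Category.comp_id g⟩
  have e3 : β.left ≫ i.left = 𝟙 B.left := by
    rw [← Over.comp_left, e1, ← e2]; rfl
  haveI : Surjective i.left := by
    refine ⟨fun b => ⟨β.left b, ?_⟩⟩
    have e4 : (β.left ≫ i.left) b = b := by rw [e3]; simp
    rwa [Scheme.Hom.comp_apply] at e4
  rw [← h3, Over.comp_left]
  infer_instance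

end Groth.Agent.Lib.AbSubvar
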