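import Mathlib
import Groth.Prelude
import Groth.Agent.Lib.Rigidity_lead
import Groth.Agent.Lib.Rigidity2_lead
import Groth.Agent.Lib.AbVarFibre_helper4

/-!
# Fibres of a morphism from an abelian variety are translates of each other (helper4)

For a proper integral group scheme `A` over a field, `f : A ⟶ Y` with `Y` separated and rational
points `a`, `b`: left translation by `b` carries the connected component of `a` in its fibre into
the connected component of `b * a` in its fibre.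
-/

set_option backward.isDefEq.respectTransparency false
set_option backward.isDefEq.respectTransparency.types false
set_option autoImplicit false
set_option linter.style.haveILetI false
set_option linter.unusedVariables false
set_option linter.unusedSimpArgs false
set_option linter.unusedSectionVars false
set_option linter.style.longLine false
set_option maxHeartbeats 800000

universe u

open CategoryTheory CategoryTheory.Limits MonoidalCategory CartesianMonoidalCategory MonObj GrpObj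
  AlgebraicGeometry TopologicalSpace

namespace Groth.Agent.Lib.AbVarTranslateH4

open Groth.Agent.Lib.AntiAffine Groth.Agent.Lib.Rigidity ProperOver Groth.Agent.Lib.AbVarFibreH4

/-- A proper connected reduced scheme over a field with a rational point is anti-affine. -/
theorem aa_of_proper_connected_reduced_rat {k : Type u} [Field k]
    (Q : Over (Spec (CommRingCat.of k))) [IsProper Q.hom] [IsReduced Q.left]
    [ConnectedSpace Q.left] (q₀ : 𝟙_ (Over (Spec (CommRingCat.of k))) ⟶ Q) : AA Q := by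
  rw [← aa_iff]
  obtain ⟨F, hF⟩ : ∃ F : k →+* Γ(Q.left, ⊤),
      F = ((Scheme.ΓSpecIso (CommRingCat.of k)).inv ≫ Q.hom.appTop).hom := ⟨_, rfl⟩
  rw [← hF]
  have hint : F.IsIntegral := by
    rw [hF]
    apply RingHom.isIntegral_respectsIso.2
      (e := (Scheme.ΓSpecIso (CommRingCat.of k)).symm.commRingCatIsoToRingEquiv)
    exact isIntegral_appTop_of_universallyClosed Q.hom
  obtain ⟨x0⟩ : Nonempty Q.left := inferInstance
  haveI : Nonempty ↥(⊤ : Q.left.Opens) := ⟨⟨x0, trivial⟩⟩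
  haveI : Nontrivial Γ(Q.left, ⊤) := inferInstance
  obtain ⟨evm, hevm⟩ : ∃ evm : Γ(Q.left, ⊤) ⟶ CommRingCat.of k,
      evm = (q₀.left : Spec (CommRingCat.of k) ⟶ Q.left).appTop ≫
        (Scheme.ΓSpecIso (CommRingCat.of k)).hom := ⟨_, rfl⟩
  have hw : (q₀.left : Spec (CommRingCat.of k) ⟶ Q.left) ≫ Q.hom =
      𝟙 (Spec (CommRingCat.of k)) := Over.w q₀
  have e : Q.hom.appTop ≫ (q₀.left : Spec (CommRingCat.of k) ⟶ Q.left).appTop =
      𝟙 Γ(Spec (CommRingCat.of k), ⊤) := by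
    rw [← Scheme.Hom.comp_appTop, hw]; rfl
  have hcomp : ((Scheme.ΓSpecIso (CommRingCat.of k)).inv ≫ Q.hom.appTop) ≫ evm = 𝟙 _ := by
    rw [hevm, Category.assoc, ← Category.assoc Q.hom.appTop, e, Category.id_comp, Iso.inv_hom_id]
  have hevF : ∀ c : k, evm.hom (F c) = c := by
    intro c
    rw [hF]
    exact congrArg (fun φ => φ.hom c) hcomp
  letI algF : Algebra k Γ(Q.left, ⊤) := F.toAlgebra
  have hfield : IsField ↥(integralClosure k Γ(Q.left, ⊤)) :=
    Groth.Agent.Lib.ConnRedFieldH4.isField_integralClosure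
      (fun e he => Groth.Agent.Lib.ConnRedFieldH4.idempotent_trivial Q.left e he)
  have hunit : ∀ g : Γ(Q.left, ⊤), g ≠ 0 → ∃ h : Γ(Q.left, ⊤), g * h = 1 := by
    intro g hg
    have hne : (⟨g, hint g⟩ : ↥(integralClosure k Γ(Q.left, ⊤))) ≠ 0 := by
      intro h0
      exact hg (congrArg Subtype.val h0)
    obtain ⟨y, hy⟩ := hfield.mul_inv_cancel hne
    exact ⟨y.1, congrArg Subtype.val hy⟩
  have hinj : Function.Injective evm.hom := by
    rw [injective_iff_map_eq_zero]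
    intro x hx
    by_contra hne
    obtain ⟨y, hy⟩ := hunit x hne
    have h1 := congrArg evm.hom hy
    rw [map_mul, hx, zero_mul, map_one] at h1
    exact zero_ne_one h1
  refine ⟨fun a b hab => ?_, fun x => ⟨evm.hom x, hinj (hevF (evm.hom x))⟩⟩
  have h1 := congrArg evm.hom hab
  rwa [hevF, hevF] at h1

section Main

variable {k : Type u} [Field k]

theorem translate_subset (A : Over (Spec (CommRingCat.of k))) [GrpObj A] [IsProper A.hom]
    [IsIntegral A.left]
    {Y : Scheme.{u}} (q : Y ⟶ Spec (CommRingCat.of k)) [IsSeparated q] (f : A.left ⟶ Y)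
    (hf : f ≫ q = A.hom)
    (a b : 𝟙_ (Over (Spec (CommRingCat.of k))) ⟶ A)
    (pt : ↥(𝟙_ (Over (Spec (CommRingCat.of k)))).left) :
    ((toUnit A ≫ b) * 𝟙 A).left '' connectedComponentIn (f ⁻¹' {f (a.left pt)}) (a.left pt) ⊆
      connectedComponentIn (f ⁻¹' {f ((b * a).left pt)}) ((b * a).left pt) := by
  haveI hsub : Subsingleton ↥(Spec (CommRingCat.of k)) :=
    inferInstanceAs (Subsingleton (PrimeSpectrum k))
  haveI hsub' : Subsingleton ↥(𝟙_ (Over (Spec (CommRingCat.of k)))).left :=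
    (inferInstance : Subsingleton (PrimeSpectrum k))
  haveI hne : Nonempty ↥(Spec (CommRingCat.of k)) := (inferInstance : Nonempty (PrimeSpectrum k))
  haveI hredpt : IsReduced (𝟙_ (Over (Spec (CommRingCat.of k)))).left :=
    (inferInstance : IsReduced (Spec (CommRingCat.of k)))
  obtain ⟨e', he'⟩ : ∃ e' : A.left, e' = (b * a).left pt := ⟨_, rfl⟩
  rw [← he']
  obtain ⟨e, he⟩ : ∃ e : A.left, e = a.left pt := ⟨_, rfl⟩
  rw [← he]
  obtain ⟨Fib, hFib⟩ : ∃ Fib : Set A.left, Fib = f ⁻¹' {f e} := ⟨_, rfl⟩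
  rw [← hFib]
  obtain ⟨C, hCdef⟩ : ∃ C : Set A.left, C = connectedComponentIn Fib e := ⟨_, rfl⟩
  rw [← hCdef]
  have hmemFib : ∀ p : A.left, p ∈ Fib ↔ f p = f e := by
    intro p; rw [hFib]; exact Iff.rfl
  have heF : e ∈ Fib := (hmemFib e).mpr rfl
  have heC : e ∈ C := by rw [hCdef]; exact mem_connectedComponentIn heF
  have hCF : C ⊆ Fib := by rw [hCdef]; exact connectedComponentIn_subset Fib e
  -- the point `f e` is closed
  obtain ⟨s, hs⟩ : ∃ s : Spec (CommRingCat.of k) ⟶ Y,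
      s = (a.left : Spec (CommRingCat.of k) ⟶ A.left) ≫ f := ⟨_, rfl⟩
  have hsq : s ≫ q = 𝟙 (Spec (CommRingCat.of k)) := by
    rw [hs, Category.assoc, hf]
    exact Over.w a
  haveI : IsClosedImmersion (s ≫ q) := by rw [hsq]; infer_instance
  haveI : IsClosedImmersion s := IsClosedImmersion.of_comp s q
  have hspt : s pt = f e := by rw [hs, he]; rfl
  have hrange : Set.range s = {f e} := by
    ext z
    constructor
    · rintro ⟨t, rfl⟩
      rw [Subsingleton.elim t pt, hspt]; rfl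
    · intro hz
      rw [Set.mem_singleton_iff] at hz
      exact ⟨pt, by rw [hspt, hz]⟩
  have hclpt : IsClosed ({f e} : Set Y) := by
    rw [← hrange]; exact s.isClosedEmbedding.isClosed_range
  have hFibcl : IsClosed Fib := by rw [hFib]; exact hclpt.preimage f.continuous
  have hCcl : IsClosed C := by
    rw [hCdef, connectedComponentIn_eq_image heF]
    exact hFibcl.isClosedEmbedding_subtypeVal.isClosedMap _ isClosed_connectedComponent
  -- the reduced closed subscheme on `C`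
  obtain ⟨i, hi⟩ : ∃ i : red C hCcl ⟶ A.left, i = redι C hCcl := ⟨_, rfl⟩
  haveI hicl : IsClosedImmersion i := by rw [hi]; infer_instance
  have hri : Set.range i = C := by rw [hi]; exact range_redι C hCcl
  obtain ⟨ι₀, hι₀⟩ : ∃ ι₀ : (Over.mk (i ≫ A.hom)) ⟶ A, ι₀ = Over.homMk i rfl := ⟨_, rfl⟩
  haveI : IsProper (Over.mk (i ≫ A.hom)).hom := by
    show IsProper (i ≫ A.hom); infer_instance
  haveI : IsReduced (Over.mk (i ≫ A.hom)).left := isReduced_red' C hCcl
  obtain ⟨u0, hu0⟩ : ∃ u0 : red C hCcl, i u0 = e := by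
    have : e ∈ Set.range i := by rw [hri]; exact heC
    exact this
  have hpre : _root_.IsPreconnected (Set.univ : Set ↥(red C hCcl)) := by
    have h1 : _root_.IsPreconnected (i '' Set.univ) := by
      rw [Set.image_univ, hri, hCdef]; exact isPreconnected_connectedComponentIn
    exact i.isClosedEmbedding.isEmbedding.isInducing.isPreconnected_image.mp h1
  haveI hconnF0 : ConnectedSpace (Over.mk (i ≫ A.hom)).left :=
    { toPreconnectedSpace := ⟨hpre⟩, toNonempty := ⟨u0⟩ }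
  haveI : LocallyOfFiniteType (Over.mk (i ≫ A.hom)).hom := inferInstance
  haveI : QuasiCompact (Over.mk (i ≫ A.hom)).hom := inferInstance
  obtain ⟨hc, hq⟩ := qcqs (Over.mk (i ≫ A.hom))
  haveI := hc
  haveI := hq
  haveI : LocallyOfFiniteType A.hom := inferInstance
  haveI : QuasiCompact A.hom := inferInstance
  obtain ⟨hcA, hqA⟩ := qcqs A
  haveI := hcA
  haveI := hqA
  haveI : IsNoetherianRing (CommRingCat.of k) := inferInstanceAs (IsNoetherianRing k)
  haveI : IsLocallyNoetherian A.left := LocallyOfFiniteType.isLocallyNoetherian A.hom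
  haveI : ConnectedSpace A.left := inferInstance
  -- the target
  haveI : IsSeparated (Over.mk q).hom := by show IsSeparated q; infer_instance
  obtain ⟨fZ, hfZ⟩ : ∃ fZ : A ⟶ Over.mk q, fZ = Over.homMk f hf := ⟨_, rfl⟩
  have hfZl : ∀ p : A.left, fZ.left p = f p := by intro p; rw [hfZ]; rfl
  -- lifting points
  have hrange_pt : ∀ (g : 𝟙_ (Over (Spec (CommRingCat.of k))) ⟶ A), g.left pt ∈ C →
      Set.range g.left ⊆ C := by
    rintro g hg _ ⟨t, rfl⟩
    rw [Subsingleton.elim t pt]; exact hg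
  have hlift : ∀ (g : 𝟙_ (Over (Spec (CommRingCat.of k))) ⟶ A), g.left pt ∈ C →
      ∃ g' : 𝟙_ (Over (Spec (CommRingCat.of k))) ⟶ (Over.mk (i ≫ A.hom)), g' ≫ ι₀ = g := by
    intro g hg
    obtain ⟨gl, hgl⟩ := exists_lift_of_reduced g.left hCcl (hrange_pt g hg)
    rw [← hi] at hgl
    refine ⟨Over.homMk gl ?_, ?_⟩
    · show gl ≫ i ≫ A.hom = _
      rw [← Category.assoc, hgl]
      exact Over.w g
    · apply Over.OverMorphism.ext
      rw [hι₀]
      exact hgl
  obtain ⟨a', ha'⟩ := hlift a (by rw [← he]; exact heC)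
  have hAA : AA (Over.mk (i ≫ A.hom)) := aa_of_proper_connected_reduced_rat _ a'
  -- the morphism to which rigidity applies
  obtain ⟨f', hf'⟩ : ∃ f' : (Over.mk (i ≫ A.hom)) ⊗ A ⟶ Over.mk q,
      f' = (snd (Over.mk (i ≫ A.hom)) A * (fst (Over.mk (i ≫ A.hom)) A ≫ ι₀)) ≫ fZ := ⟨_, rfl⟩
  have ew : (Over.mk (i ≫ A.hom)) ◁ η[A] =
      lift (fst (Over.mk (i ≫ A.hom)) (𝟙_ _)) (snd (Over.mk (i ≫ A.hom)) (𝟙_ _) ≫ η[A]) := by
    apply CartesianMonoidalCategory.hom_ext
    · rw [whiskerLeft_fst, lift_fst]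
    · rw [whiskerLeft_snd, lift_snd]
  have hone : snd (Over.mk (i ≫ A.hom)) (𝟙_ (Over (Spec (CommRingCat.of k)))) ≫ η[A] =
      (1 : (Over.mk (i ≫ A.hom)) ⊗ 𝟙_ (Over (Spec (CommRingCat.of k))) ⟶ A) := by
    rw [Hom.one_def]
    congr 1
    exact toUnit_unique _ _
  have h1 : ((Over.mk (i ≫ A.hom)) ◁ η[A]) ≫ f' =
      (fst (Over.mk (i ≫ A.hom)) (𝟙_ _) ≫ ι₀) ≫ fZ := by
    rw [hf', ← Category.assoc, ew, MonObj.comp_mul, lift_snd, lift_fst_assoc, hone,
      _root_.one_mul]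
  have hconst : ∀ p, (((Over.mk (i ≫ A.hom)) ◁ η[A]) ≫ f').left p = f e := by
    intro p
    rw [h1]
    have h2 : ((fst (Over.mk (i ≫ A.hom)) (𝟙_ _) ≫ ι₀) ≫ fZ).left p =
        f (i ((fst (Over.mk (i ≫ A.hom)) (𝟙_ (Over (Spec (CommRingCat.of k))))).left p)) := by
      rw [hfZ, hι₀]; rfl
    rw [h2]
    have hmem : i ((fst (Over.mk (i ≫ A.hom)) (𝟙_ (Over (Spec (CommRingCat.of k))))).left p) ∈
        Fib := hCF (hri.subset ⟨_, rfl⟩)
    exact (hmemFib _).mp hmem
  have key := rigid_rat (Over.mk (i ≫ A.hom)) A (Over.mk q) hAA a' η[A] f' (f e) hconst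
  have h3 : ∀ c : 𝟙_ (Over (Spec (CommRingCat.of k))) ⟶ A,
      c ≫ lift (toUnit A ≫ a') (𝟙 A) ≫ (snd (Over.mk (i ≫ A.hom)) A * (fst (Over.mk (i ≫ A.hom)) A ≫ ι₀)) = c * a := by
    intro c
    have hcu : c ≫ toUnit A = 𝟙 _ := toUnit_unique _ _
    have e1 : lift (toUnit A ≫ a') (𝟙 A) ≫ (snd (Over.mk (i ≫ A.hom)) A * (fst (Over.mk (i ≫ A.hom)) A ≫ ι₀)) =
        𝟙 A * (toUnit A ≫ a) := by
      rw [MonObj.comp_mul, lift_snd, lift_fst_assoc, Category.assoc, ha']
    rw [e1, MonObj.comp_mul, Category.comp_id, ← Category.assoc, hcu, Category.id_comp]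
  have hr : ∀ c : 𝟙_ (Over (Spec (CommRingCat.of k))) ⟶ A,
      ((toUnit (Over.mk (i ≫ A.hom)) ≫ c) * ι₀) ≫ fZ = toUnit (Over.mk (i ≫ A.hom)) ≫ (c * a) ≫ fZ := by
    intro c
    have e1 : lift (𝟙 (Over.mk (i ≫ A.hom))) (toUnit (Over.mk (i ≫ A.hom)) ≫ c) ≫ f' = ((toUnit (Over.mk (i ≫ A.hom)) ≫ c) * ι₀) ≫ fZ := by
      rw [hf', ← Category.assoc, MonObj.comp_mul, lift_snd, lift_fst_assoc, Category.id_comp]
    have e2 : lift (𝟙 (Over.mk (i ≫ A.hom))) (toUnit (Over.mk (i ≫ A.hom)) ≫ c) ≫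
        snd (Over.mk (i ≫ A.hom)) A ≫ lift (toUnit A ≫ a') (𝟙 A) ≫ f' = toUnit (Over.mk (i ≫ A.hom)) ≫ (c * a) ≫ fZ := by
      rw [lift_snd_assoc, hf', ← h3 c]
      simp only [Category.assoc]
    exact e1.symm.trans ((congrArg (fun t =>
      lift (𝟙 (Over.mk (i ≫ A.hom))) (toUnit (Over.mk (i ≫ A.hom)) ≫ c) ≫ t) key).trans e2)
  have hpt : ∀ (c : 𝟙_ (Over (Spec (CommRingCat.of k))) ⟶ A) (u : ↥(red C hCcl)),
      f (((toUnit (Over.mk (i ≫ A.hom)) ≫ c) * ι₀).left u) = f ((c * a).left pt) := by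
    intro c u
    have h := congrArg (fun t => t.left u) (hr c)
    have hu : (toUnit (Over.mk (i ≫ A.hom))).left u = pt := Subsingleton.elim _ _
    have h' : fZ.left (((toUnit (Over.mk (i ≫ A.hom)) ≫ c) * ι₀).left u) =
        fZ.left ((c * a).left ((toUnit (Over.mk (i ≫ A.hom))).left u)) := h
    rw [hu, hfZl, hfZl] at h'
    exact h'
  have htr : ι₀ ≫ ((toUnit A ≫ b) * 𝟙 A) = (toUnit (Over.mk (i ≫ A.hom)) ≫ b) * ι₀ := by
    have h4 : ι₀ ≫ toUnit A = toUnit (Over.mk (i ≫ A.hom)) := toUnit_unique _ _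
    rw [MonObj.comp_mul, Category.comp_id, ← Category.assoc, h4]
  have ha'r : a' ≫ ((toUnit (Over.mk (i ≫ A.hom)) ≫ b) * ι₀) = b * a := by
    have h5 : a' ≫ toUnit (Over.mk (i ≫ A.hom)) = 𝟙 _ := toUnit_unique _ _
    rw [MonObj.comp_mul, ha', ← Category.assoc, h5, Category.id_comp]
  haveI : PreconnectedSpace ↥(red C hCcl) := ⟨hpre⟩
  have hRpre : _root_.IsPreconnected (Set.range ((toUnit (Over.mk (i ≫ A.hom)) ≫ b) * ι₀).left) :=
    isPreconnected_range ((toUnit (Over.mk (i ≫ A.hom)) ≫ b) * ι₀).left.continuous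
  have hRe : e' ∈ Set.range ((toUnit (Over.mk (i ≫ A.hom)) ≫ b) * ι₀).left := by
    refine ⟨a'.left pt, ?_⟩
    rw [he']
    exact congrArg (fun t => t.left pt) ha'r
  have hRF : Set.range ((toUnit (Over.mk (i ≫ A.hom)) ≫ b) * ι₀).left ⊆ f ⁻¹' {f e'} := by
    rintro _ ⟨u, rfl⟩
    show f (((toUnit (Over.mk (i ≫ A.hom)) ≫ b) * ι₀).left u) = f e'
    rw [he']
    exact hpt b u
  have hsub1 := hRpre.subset_connectedComponentIn hRe hRF
  intro p hp
  obtain ⟨c, hcC, rfl⟩ := hp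
  obtain ⟨u, rfl⟩ : ∃ u : ↥(red C hCcl), i u = c := by
    have : c ∈ Set.range i := by rw [hri]; exact hcC
    exact this
  have h6 : (ι₀ ≫ ((toUnit A ≫ b) * 𝟙 A)).left u = ((toUnit A ≫ b) * 𝟙 A).left (i u) := by
    rw [hι₀]; rfl
  rw [← h6, htr]
  exact hsub1 ⟨u, rfl⟩

theorem main7806 (X : Over (Spec (CommRingCat.of k))) [GrpObj X] [IsProper X.hom]
    [GeometricallyIntegral X.hom]
    {Y : Scheme.{u}} (q : Y ⟶ Spec (CommRingCat.of k)) [IsSeparated q] (f : X.left ⟶ Y)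
    (hf : f ≫ q = X.hom)
    (x : 𝟙_ (Over (Spec (CommRingCat.of k))) ⟶ X)
    (pt : ↥(𝟙_ (Over (Spec (CommRingCat.of k)))).left) :
    (lift (toUnit X ≫ x) (𝟙 X) ≫ μ[X]).left ''
        connectedComponentIn (f ⁻¹' {f (η[X].left pt)}) (η[X].left pt) =
      connectedComponentIn (f ⁻¹' {f (x.left pt)}) (x.left pt) := by
  haveI hsub : Subsingleton ↥(Spec (CommRingCat.of k)) :=
    inferInstanceAs (Subsingleton (PrimeSpectrum k))
  haveI : IsDomain (CommRingCat.of k) := inferInstanceAs (IsDomain k)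
  haveI : IsIntegral (Spec (CommRingCat.of k)) := inferInstance
  haveI : IsIntegral X.left := GeometricallyIntegral.isIntegral_of_subsingleton X.hom
  have hη1 : η[X] = (1 : 𝟙_ (Over (Spec (CommRingCat.of k))) ⟶ X) := by
    rw [Hom.one_def]
    have : toUnit (𝟙_ (Over (Spec (CommRingCat.of k)))) = 𝟙 _ := toUnit_unique _ _
    rw [this, Category.id_comp]
  rw [← Hom.mul_def]
  apply Set.Subset.antisymm
  · have h := translate_subset X q f hf η[X] x pt
    have h6 : x * η[X] = x := by rw [hη1, _root_.mul_one]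
    rw [h6] at h
    exact h
  · intro p hp
    have h := translate_subset X q f hf x x⁻¹ pt
    have h6 : x⁻¹ * x = η[X] := by rw [hη1, _root_.inv_mul_cancel]
    rw [h6] at h
    have hinvol : ((toUnit X ≫ x⁻¹) * 𝟙 X) ≫ ((toUnit X ≫ x) * 𝟙 X) = 𝟙 X := by
      have h7 : ((toUnit X ≫ x⁻¹) * 𝟙 X) ≫ toUnit X = toUnit X := toUnit_unique _ _
      have h8 : (toUnit X ≫ x) * (toUnit X ≫ x⁻¹) = (1 : X ⟶ X) := by
        rw [← MonObj.comp_mul, _root_.mul_inv_cancel, ← hη1, ← Hom.one_def]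
      rw [MonObj.comp_mul, Category.comp_id, ← Category.assoc, h7, ← _root_.mul_assoc, h8,
        _root_.one_mul]
    refine ⟨((toUnit X ≫ x⁻¹) * 𝟙 X).left p, h ⟨p, hp, rfl⟩, ?_⟩
    exact congrArg (fun t => t.left p) hinvol

end Main

end Groth.Agent.Lib.AbVarTranslateH4
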