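import Mathlib

/-!
# Abel summation of `∑ k^j y^k` at `y = -1` and Euler numbers
-/

namespace Groth.Agent.Lib.AbelEuler

open Filter Topology

/-- `S j y = ∑ k^j y^k`. -/
noncomputable def S (j : ℕ) (y : ℂ) : ℂ := ∑' k : ℕ, (k : ℂ) ^ j * y ^ k

theorem summable_S (j : ℕ) {y : ℂ} (hy : ‖y‖ < 1) :
    Summable (fun k : ℕ => (k : ℂ) ^ j * y ^ k) :=
  summable_pow_mul_geometric_of_norm_lt_one j hy

theorem S_rec (j : ℕ) {y : ℂ} (hy : ‖y‖ < 1) :
    S j y = (if j = 0 then 1 else 0) +
      y * ∑ i ∈ Finset.range (j + 1), (j.choose i : ℂ) * S i y := by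
  unfold S
  rw [(summable_S j hy).tsum_eq_zero_add]
  congr 1
  · simp [zero_pow_eq]
  · have h1 : ∀ k : ℕ, ((k + 1 : ℕ) : ℂ) ^ j * y ^ (k + 1) =
        ∑ i ∈ Finset.range (j + 1), (y * (j.choose i : ℂ)) * ((k : ℂ) ^ i * y ^ k) := by
      intro k
      rw [Nat.cast_add, Nat.cast_one, add_pow, Finset.sum_mul]
      apply Finset.sum_congr rfl
      intro i _
      rw [one_pow, pow_succ]
      ring
    simp_rw [h1]
    rw [Summable.tsum_finsetSum (fun i _ => (summable_S i hy).mul_left _), Finset.mul_sum]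
    apply Finset.sum_congr rfl
    intro i _
    rw [(summable_S i hy).tsum_mul_left]
    ring

theorem E_rec (E : ℕ → ℚ)
    (hE : PowerSeries.mk (fun j => E j / (j.factorial : ℚ)) * (PowerSeries.exp ℚ + 1) = 2)
    (j : ℕ) :
    E j + ∑ i ∈ Finset.range (j + 1), (j.choose i : ℚ) * E i = if j = 0 then 2 else 0 := by
  have h := congrArg (PowerSeries.coeff j) hE
  have h2 : (2 : PowerSeries ℚ) = PowerSeries.C (2 : ℚ) := (map_ofNat _ 2).symm
  rw [PowerSeries.coeff_mul, Finset.Nat.sum_antidiagonal_eq_sum_range_succ_mk, h2,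
    PowerSeries.coeff_C] at h
  simp only [PowerSeries.coeff_mk, map_add, PowerSeries.coeff_exp, PowerSeries.coeff_one,
    Algebra.algebraMap_self, RingHom.id_apply] at h
  have hF : (j.factorial : ℚ) ≠ 0 := Nat.cast_ne_zero.2 j.factorial_ne_zero
  have key : (j.factorial : ℚ) * (∑ i ∈ Finset.range (j + 1),
      E i / (i.factorial : ℚ) * (1 / ((j - i).factorial : ℚ) + if j - i = 0 then 1 else 0)) =
      E j + ∑ i ∈ Finset.range (j + 1), (j.choose i : ℚ) * E i := by
    rw [Finset.mul_sum]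
    simp_rw [mul_add]
    rw [Finset.sum_add_distrib, add_comm]
    congr 1
    · rw [Finset.sum_eq_single j]
      · rw [Nat.sub_self, if_pos rfl]
        field_simp
      · intro i hi hij
        have : j - i ≠ 0 := by
          have := Finset.mem_range.1 hi
          omega
        rw [if_neg this]
        ring
      · intro hj
        exact absurd (Finset.mem_range.2 (Nat.lt_succ_self j)) hj
    · apply Finset.sum_congr rfl
      intro i hi
      have hij : i ≤ j := Nat.lt_succ_iff.1 (Finset.mem_range.1 hi)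
      rw [Nat.cast_choose ℚ hij]
      have h1 : (i.factorial : ℚ) ≠ 0 := Nat.cast_ne_zero.2 i.factorial_ne_zero
      have h2 : ((j - i).factorial : ℚ) ≠ 0 := Nat.cast_ne_zero.2 (j - i).factorial_ne_zero
      field_simp
  rw [← key, h]
  split_ifs with h0
  · subst h0
    simp
  · simp

theorem tendsto_S (E : ℕ → ℚ)
    (hE : PowerSeries.mk (fun j => E j / (j.factorial : ℚ)) * (PowerSeries.exp ℚ + 1) = 2)
    (j : ℕ) :
    Tendsto (fun y : ℝ => S j (y : ℂ)) (𝓝[Set.Ioo (-1 : ℝ) 1] (-1 : ℝ))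
      (𝓝 ((E j : ℂ) / 2)) := by
  induction j using Nat.strong_induction_on with
  | _ j ih =>
    have hform : ∀ y ∈ Set.Ioo (-1 : ℝ) 1, S j (y : ℂ) =
        ((if j = 0 then (1 : ℂ) else 0) +
          (y : ℂ) * ∑ i ∈ Finset.range j, (j.choose i : ℂ) * S i (y : ℂ)) / (1 - (y : ℂ)) := by
      intro y hy
      have hy' : ‖(y : ℂ)‖ < 1 := by
        rw [Complex.norm_real, Real.norm_eq_abs, abs_lt]
        exact hy
      have h1 : (1 - (y : ℂ)) ≠ 0 := by
        intro h
        have h' : (y : ℂ) = 1 := (sub_eq_zero.1 h).symm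
        have h'' : y = 1 := by exact_mod_cast h'
        exact (ne_of_lt hy.2) h''
      have := S_rec j hy'
      rw [Finset.sum_range_succ, Nat.choose_self, Nat.cast_one, one_mul] at this
      rw [eq_div_iff h1]
      linear_combination this
    have hlim : Tendsto (fun y : ℝ => ((if j = 0 then (1 : ℂ) else 0) +
          (y : ℂ) * ∑ i ∈ Finset.range j, (j.choose i : ℂ) * S i (y : ℂ)) / (1 - (y : ℂ)))
        (𝓝[Set.Ioo (-1 : ℝ) 1] (-1 : ℝ))
        (𝓝 (((if j = 0 then (1 : ℂ) else 0) +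
          ((-1 : ℝ) : ℂ) * ∑ i ∈ Finset.range j, (j.choose i : ℂ) * ((E i : ℂ) / 2)) /
            (1 - ((-1 : ℝ) : ℂ)))) := by
      have hy : Tendsto (fun y : ℝ => (y : ℂ)) (𝓝[Set.Ioo (-1 : ℝ) 1] (-1 : ℝ))
          (𝓝 (((-1 : ℝ)) : ℂ)) :=
        (Complex.continuous_ofReal.tendsto _).mono_left nhdsWithin_le_nhds
      apply Tendsto.div
      · apply Tendsto.add tendsto_const_nhds
        apply hy.mul
        apply tendsto_finsetSum
        intro i hi
        exact (ih i (Finset.mem_range.1 hi)).const_mul _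
      · exact tendsto_const_nhds.sub hy
      · norm_num
    have hval : ((if j = 0 then (1 : ℂ) else 0) +
          ((-1 : ℝ) : ℂ) * ∑ i ∈ Finset.range j, (j.choose i : ℂ) * ((E i : ℂ) / 2)) /
            (1 - ((-1 : ℝ) : ℂ)) = (E j : ℂ) / 2 := by
      have h := E_rec E hE j
      rw [Finset.sum_range_succ, Nat.choose_self, Nat.cast_one, one_mul] at h
      have hc : ((E j : ℂ)) + (∑ i ∈ Finset.range j, (j.choose i : ℂ) * (E i : ℂ) + (E j : ℂ)) =
          if j = 0 then 2 else 0 := by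
        have h' := congrArg (fun q : ℚ => (q : ℂ)) h
        push_cast at h'
        rw [h']
        split_ifs <;> simp
      have hs : ∑ i ∈ Finset.range j, (j.choose i : ℂ) * ((E i : ℂ) / 2) =
          (∑ i ∈ Finset.range j, (j.choose i : ℂ) * (E i : ℂ)) / 2 := by
        rw [Finset.sum_div]
        apply Finset.sum_congr rfl
        intro i _
        ring
      rw [hs, Complex.ofReal_neg, Complex.ofReal_one]
      have h2 : (1 : ℂ) - -1 = 2 := by norm_num
      rw [h2]
      split_ifs at hc ⊢ with h0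
      · field_simp
        linear_combination (-1) * hc
      · field_simp
        linear_combination (-1) * hc
    rw [← hval]
    exact hlim.congr' (by
      filter_upwards [self_mem_nhdsWithin] with y hy
      exact (hform y hy).symm)

theorem main {T : Type*} [NormedCommRing T] [NormedAlgebra ℂ T] (E : ℕ → ℚ)
    (hE : PowerSeries.mk (fun j => E j / (j.factorial : ℚ)) * (PowerSeries.exp ℚ + 1) = 2)
    (P : Polynomial T) :
    (∀ y : ℂ, ‖y‖ < 1 → Summable (fun k : ℕ => y ^ k • P.eval (k : T))) ∧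
    Tendsto (fun y : ℝ => ∑' k : ℕ, ((y : ℂ) ^ k) • P.eval (k : T))
      (𝓝[Set.Ioo (-1 : ℝ) 1] (-1 : ℝ))
      (𝓝 ((2 : ℂ)⁻¹ • ∑ j ∈ Finset.range (P.natDegree + 1), ((E j : ℚ) : ℂ) • P.coeff j)) := by
  have hterm : ∀ (y : ℂ) (k : ℕ), y ^ k • P.eval (k : T) =
      ∑ j ∈ Finset.range (P.natDegree + 1), ((k : ℂ) ^ j * y ^ k) • P.coeff j := by
    intro y k
    rw [Polynomial.eval_eq_sum_range, Finset.smul_sum]
    apply Finset.sum_congr rfl
    intro j _
    have hk : ((k : T)) ^ j = ((k : ℂ) ^ j) • (1 : T) := by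
      rw [← Nat.cast_pow, ← Nat.cast_pow, Nat.cast_smul_eq_nsmul ℂ, nsmul_eq_mul, mul_one]
    rw [hk, mul_smul_comm, mul_one, smul_smul, mul_comm]
  have hsum : ∀ (y : ℂ), ‖y‖ < 1 → ∀ j,
      Summable (fun k : ℕ => ((k : ℂ) ^ j * y ^ k) • P.coeff j) :=
    fun y hy j => (summable_S j hy).smul_const _
  constructor
  · intro y hy
    simp_rw [hterm]
    exact summable_sum (fun j _ => hsum y hy j)
  · have hform : ∀ y ∈ Set.Ioo (-1 : ℝ) 1, ∑' k : ℕ, ((y : ℂ) ^ k) • P.eval (k : T) =
        ∑ j ∈ Finset.range (P.natDegree + 1), S j (y : ℂ) • P.coeff j := by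
      intro y hy
      have hy' : ‖(y : ℂ)‖ < 1 := by
        rw [Complex.norm_real, Real.norm_eq_abs, abs_lt]
        exact hy
      simp_rw [hterm]
      rw [Summable.tsum_finsetSum (fun j _ => hsum _ hy' j)]
      apply Finset.sum_congr rfl
      intro j _
      exact (summable_S j hy').tsum_smul_const _
    have hlim : Tendsto (fun y : ℝ =>
        ∑ j ∈ Finset.range (P.natDegree + 1), S j (y : ℂ) • P.coeff j)
        (𝓝[Set.Ioo (-1 : ℝ) 1] (-1 : ℝ))
        (𝓝 (∑ j ∈ Finset.range (P.natDegree + 1), ((E j : ℂ) / 2) • P.coeff j)) := by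
      apply tendsto_finsetSum
      intro j _
      exact (tendsto_S E hE j).smul_const _
    have hval : ∑ j ∈ Finset.range (P.natDegree + 1), ((E j : ℂ) / 2) • P.coeff j =
        (2 : ℂ)⁻¹ • ∑ j ∈ Finset.range (P.natDegree + 1), ((E j : ℚ) : ℂ) • P.coeff j := by
      rw [Finset.smul_sum]
      apply Finset.sum_congr rfl
      intro j _
      rw [smul_smul, div_eq_inv_mul]
    rw [← hval]
    exact hlim.congr' (by
      filter_upwards [self_mem_nhdsWithin] with y hy
      exact (hform y hy).symm)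

end Groth.Agent.Lib.AbelEuler
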