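import Mathlib
import Groth.Prelude
import Groth.Agent.Lib.BC0Chart_helper2
import Groth.Agent.Lib.FreeLoc1_helper8
import Groth.Agent.Lib.FLF8_helper8

/-!
# Local freeness of a direct image over an open of the base (helper2)

APPEND-ONLY once landed.
-/

set_option autoImplicit false
set_option backward.isDefEq.respectTransparency false
set_option linter.style.haveILetI false
set_option linter.unusedSectionVars false
universe u

open CategoryTheory CategoryTheory.Limits AlgebraicGeometry AlgebraicGeometry.Scheme.Modules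
  TopologicalSpace Opposite TensorProduct

namespace Groth.Agent.Lib.CBCH2

open Groth.Agent.Lib.FlatBCH2 Groth.Agent.Lib.FormalFnH2 Groth.Agent.Lib.PullFnH2
  Groth.Agent.Lib.BCSecH2 Groth.Agent.Lib.SectCmp5H2 Groth.Agent.Lib.PBCH2

section Stalk2

variable {S : Scheme.{u}} (M : S.Modules) [M.IsQuasicoherent]

/-- if the sections of a quasi-coherent module over an affine open containing `s` are free at the
prime of `s` then the stalk at `s` is free -/
theorem free_stalk_of_mem_freeLocus_sections {T : S.Opens} (hT : IsAffineOpen T) {s : S}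
    (hs : s ∈ T) (h : hT.primeIdealOf ⟨s, hs⟩ ∈ Module.freeLocus Γ(S, T) Γ(M, T)) :
    Module.Free (S.presheaf.stalk s) (M.presheaf.stalk s) := by
  letI := TopCat.Presheaf.algebra_section_stalk S.presheaf (⟨s, hs⟩ : T)
  haveI : IsLocalization.AtPrime (S.presheaf.stalk s) (hT.primeIdealOf ⟨s, hs⟩).asIdeal :=
    hT.isLocalization_stalk ⟨s, hs⟩
  letI modA : Module Γ(S, T) (M.presheaf.stalk s) := StalkLocH8.modSec M hs
  haveI : IsScalarTower Γ(S, T) (S.presheaf.stalk s) (M.presheaf.stalk s) :=
    IsScalarTower.of_algebraMap_smul (fun _ _ => rfl)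
  haveI := StalkLocH8.isLocalizedModule_germLin M hT hs
  exact (Module.mem_freeLocus_of_isLocalization (hT.primeIdealOf ⟨s, hs⟩)
    (S.presheaf.stalk s) (M.presheaf.stalk s) (StalkLocH8.germLin M hs)).mp h

/-- a quasi-coherent module is finite locally free over an open `U` as soon as every point of `U`
lies in an affine open over which the sections are finite projective -/
theorem isFinLocFree_restrict_of_projective_sections (U : S.Opens)
    (h : ∀ y ∈ U, ∃ (T : S.Opens) (hT : IsAffineOpen T), y ∈ T ∧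
      Module.Finite Γ(S, T) Γ(M, T) ∧ Module.Projective Γ(S, T) Γ(M, T)) :
    FlatMod.IsFinLocFree (M.restrict U.ι) := by
  intro y
  obtain ⟨T, hT, hyT, hfin, hproj⟩ := h y.1 y.2
  haveI := hfin
  haveI := hproj
  haveI : Module.FinitePresentation Γ(S, T) Γ(M, T) :=
    Module.finitePresentation_of_projective _ _
  have hmem : hT.primeIdealOf ⟨y.1, hyT⟩ ∈ Module.freeLocus Γ(S, T) Γ(M, T) := by
    rw [Module.freeLocus_eq_univ_iff.mpr hproj]
    trivial
  have hfree := free_stalk_of_mem_freeLocus_sections M hT hyT hmem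
  obtain ⟨f₀, hyf, r, g, hg, hli⟩ := FLFH8.exists_basis_basicOpen M hT hyT hfree
  obtain ⟨α⟩ := FLFH8.iso_of_basis M (hT.basicOpen f₀) g hg hli
  refine ⟨U.ι ⁻¹ᵁ (S.basicOpen f₀), r, hyf, ?_⟩
  refine FreeLocH8.iso_restrict_restrict M α U (U.ι ⁻¹ᵁ (S.basicOpen f₀)) ?_
  rw [Scheme.Hom.image_preimage_eq_opensRange_inf]
  exact inf_le_right

end Stalk2

section Push0

variable {X S : Scheme.{u}} (f : X ⟶ S) [IsProper f] [LocallyOfFinitePresentation f]
  (F : X.Modules) [Coh.IsQCoh F] (hfp : CohB1.IsFP F) (hfl : FlatMod.IsFlatOver f F)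

include hfp hfl in
/-- over an affine open at whose points `H^1` of the fibres vanishes, the sections of `f_* F` are
finite projective -/
theorem finite_projective_sections_push (T : S.Opens) (hT : IsAffineOpen T)
    (h1 : ∀ v ∈ T, Subsingleton (CohIII.fiberH f F v 1)) :
    Module.Finite Γ(S, T) Γ((Scheme.Modules.pushforward f).obj F, T) ∧
      Module.Projective Γ(S, T) Γ((Scheme.Modules.pushforward f).obj F, T) := by
  obtain ⟨P, hP, -, hpos, hA, -, -, ⟨e⟩, -⟩ := chartFacts0 f F hfp hfl T hT
  have e0 : (1 : ℤ) - 1 = -((0 : ℕ) : ℤ) := by simp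
  have e1 : -((1 : ℕ) : ℤ) = -((0 : ℕ) : ℤ) - 1 := by simp
  have hx0 : ∀ x : PrimeSpectrum Γ(S, T),
      x ∈ Module.freeLocus Γ(S, T) (P.opcycles (-((0 : ℕ) : ℤ))) := by
    intro x
    obtain ⟨v, hv, hker⟩ := exists_ker_evalRes T hT x
    letI := algRes T v hv
    have hsub : Subsingleton ((CohIII.TFun P 1).obj
        (ModuleCat.of Γ(S, T) (S.residueField v))) :=
      ModuleCat.subsingleton_of_isZero (hpos 1 one_pos _)
    have := (mem_freeLocus_of_subsingleton_T P hP 1 (S.residueField v) hsub x hker).2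
    rwa [e0] at this
  have hx1 : ∀ x : PrimeSpectrum Γ(S, T),
      x ∈ Module.freeLocus Γ(S, T) (P.opcycles (-((0 : ℕ) : ℤ) - 1)) := by
    intro x
    obtain ⟨v, hv, hker⟩ := exists_ker_evalRes T hT x
    letI := algRes T v hv
    have := (mem_freeLocus_of_subsingleton_T P hP (-((1 : ℕ) : ℤ))
      (S.residueField v) ((hA 1 v hv).mp (h1 v hv)) x hker).1
    rwa [e1] at this
  obtain ⟨hfin, hproj⟩ := finite_projective_homology_of_freeLocus P hP
    (-((0 : ℕ) : ℤ)) hx0 hx1
  haveI := hfin
  haveI := hproj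
  exact ⟨Module.Finite.equiv e, Module.Projective.of_equiv e⟩

include hfp hfl in
/-- over an open at whose points `H^1` of the fibres vanishes, `f_* F` is finite locally free -/
theorem isFinLocFree_restrict_push (U : S.Opens)
    (h1 : ∀ v ∈ U, Subsingleton (CohIII.fiberH f F v 1)) :
    FlatMod.IsFinLocFree (((Scheme.Modules.pushforward f).obj F).restrict U.ι) := by
  haveI : F.IsQuasicoherent := ‹Coh.IsQCoh F›
  haveI : ((Scheme.Modules.pushforward f).obj F).IsQuasicoherent :=
    QcqsLoc.isQuasicoherent_pushforward_qcqs f F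
  apply isFinLocFree_restrict_of_projective_sections
  intro y hy
  obtain ⟨_, ⟨T, hT : IsAffineOpen T, rfl⟩, hyT, hTU⟩ :=
    (S.isBasis_affineOpens).exists_subset_of_mem_open hy U.2
  obtain ⟨hfin, hproj⟩ := finite_projective_sections_push f F hfp hfl T hT
    (fun v hv => h1 v (hTU hv))
  exact ⟨T, hT, hyT, hfin, hproj⟩

end Push0

end Groth.Agent.Lib.CBCH2
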