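import Mathlib
import Groth.Prelude

set_option autoImplicit false
set_option linter.style.haveILetI false
set_option linter.unusedSectionVars false

universe u

open CategoryTheory CategoryTheory.Limits AlgebraicGeometry

/-! A connected locally Noetherian scheme whose local rings are domains is irreducible
(these three statements are copied from `LocIntegral_helper4`, to avoid its imports). -/

namespace ConnIrrH8

/-- If `A` is Noetherian and `A_p` is a domain, then `A_f` is a domain for some `f ∉ p`. -/
theorem exists_away_isDomain (A : Type u) [CommRing A] [IsNoetherianRing A] (p : Ideal A)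
    [hp : p.IsPrime] (S : Type u) [CommRing S] [Algebra A S] [IsLocalization.AtPrime S p]
    [IsDomain S] : ∃ f : A, f ∉ p ∧ IsDomain (Localization.Away f) := by
  classical
  obtain ⟨T, hT⟩ := (isNoetherianRing_iff_ideal_fg A).mp inferInstance
    (RingHom.ker (algebraMap A S))
  have hex : ∀ a : A, ∃ s : A, s ∉ p ∧ (a ∈ T → s * a = 0) := by
    intro a
    by_cases ha : a ∈ T
    · have ha' : algebraMap A S a = 0 := by
        have h1 : a ∈ RingHom.ker (algebraMap A S) := hT ▸ Ideal.subset_span ha
        exact h1
      obtain ⟨m, hm⟩ := (IsLocalization.map_eq_zero_iff p.primeCompl S a).mp ha'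
      exact ⟨m.1, m.2, fun _ => hm⟩
    · exact ⟨1, fun h1 => hp.ne_top ((Ideal.eq_top_iff_one p).mpr h1), fun h => absurd h ha⟩
  choose s hs1 hs2 using hex
  let f : A := ∏ a ∈ T, s a
  have hfp : f ∉ p := by
    intro hf
    obtain ⟨a, _, ha⟩ := Ideal.IsPrime.prod_mem_iff.mp hf
    exact hs1 a ha
  have hfT : ∀ a ∈ T, f * a = 0 := by
    intro a ha
    obtain ⟨c, hc⟩ := Finset.dvd_prod_of_mem s ha
    have hf' : f = s a * c := hc
    rw [hf', mul_assoc, mul_comm c a, ← mul_assoc, hs2 a ha, zero_mul]
  have hker : RingHom.ker (algebraMap A S) ≤ RingHom.ker (algebraMap A (Localization.Away f)) := by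
    rw [← hT, Ideal.span_le]
    intro a ha
    rw [SetLike.mem_coe, RingHom.mem_ker,
      IsLocalization.map_eq_zero_iff (Submonoid.powers f) (Localization.Away f) a]
    exact ⟨⟨f, Submonoid.mem_powers f⟩, hfT a ha⟩
  have hunit : IsUnit (algebraMap A S f) :=
    IsLocalization.map_units S (⟨f, hfp⟩ : p.primeCompl)
  let g : Localization.Away f →+* S := IsLocalization.Away.lift f hunit
  have hg : ∀ a : A, g (algebraMap A (Localization.Away f) a) = algebraMap A S a :=
    fun a => IsLocalization.Away.lift_eq f hunit a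
  have hinj : Function.Injective g := by
    rw [injective_iff_map_eq_zero]
    intro z hz
    obtain ⟨a, m, rfl⟩ := IsLocalization.exists_mk'_eq (Submonoid.powers f) z
    have h1 : algebraMap A S a = 0 := by
      have h2 : IsLocalization.mk' (Localization.Away f) a m *
          algebraMap A (Localization.Away f) m.1 = algebraMap A (Localization.Away f) a :=
        IsLocalization.mk'_spec _ a m
      have h3 := congrArg g h2
      rw [map_mul, hz, zero_mul, hg] at h3
      exact h3.symm
    have h4 : algebraMap A (Localization.Away f) a = 0 := hker h1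
    rw [IsLocalization.mk'_eq_zero_iff]
    exact (IsLocalization.map_eq_zero_iff (Submonoid.powers f) (Localization.Away f) a).mp h4
  exact ⟨f, hfp, hinj.isDomain g⟩

theorem exists_irreducible_open_nhds (X : Scheme.{u}) [IsLocallyNoetherian X] (x : X)
    [IsDomain (X.presheaf.stalk x)] :
    ∃ W : X.Opens, x ∈ W ∧ IsIrreducible (W : Set X) := by
  obtain ⟨_, ⟨U, hU, rfl⟩, hxU, -⟩ :=
    X.isBasis_affineOpens.exists_subset_of_mem_open (Set.mem_univ x) isOpen_univ
  have hU' : IsAffineOpen U := hU
  have hxU' : x ∈ U := hxU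
  haveI : IsNoetherianRing Γ(X, U) := IsLocallyNoetherian.component_noetherian ⟨U, hU'⟩
  letI : Algebra Γ(X, U) (X.presheaf.stalk x) :=
    TopCat.Presheaf.algebra_section_stalk X.presheaf (⟨x, hxU'⟩ : U)
  haveI hloc : IsLocalization.AtPrime (X.presheaf.stalk x)
      (hU'.primeIdealOf ⟨x, hxU'⟩).asIdeal := hU'.isLocalization_stalk ⟨x, hxU'⟩
  obtain ⟨f, hfp, hdom⟩ := exists_away_isDomain Γ(X, U) (hU'.primeIdealOf ⟨x, hxU'⟩).asIdeal
    (X.presheaf.stalk x)
  refine ⟨X.basicOpen f, ?_, ?_⟩
  · rw [X.mem_basicOpen f x hxU']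
    exact IsLocalization.map_units (X.presheaf.stalk x)
      (⟨f, hfp⟩ : (hU'.primeIdealOf ⟨x, hxU'⟩).asIdeal.primeCompl)
  · haveI := hU'.isLocalization_basicOpen f
    haveI : IsDomain Γ(X, X.basicOpen f) :=
      (IsLocalization.algEquiv (Submonoid.powers f) (Localization.Away f)
        Γ(X, X.basicOpen f)).symm.toRingEquiv.toMulEquiv.isDomain _
    have haff : IsAffineOpen (X.basicOpen f) := hU'.basicOpen f
    have h1 := (IrreducibleSpace.isIrreducible_univ (Spec Γ(X, X.basicOpen f))).image
      haff.fromSpec haff.fromSpec.continuous.continuousOn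
    rw [Set.image_univ, haff.range_fromSpec] at h1
    exact h1

theorem irreducibleSpace_of_cover {T : Type*} [TopologicalSpace T] [ConnectedSpace T]
    (h : ∀ x : T, ∃ W : Set T, IsOpen W ∧ x ∈ W ∧ IsIrreducible W) : IrreducibleSpace T := by
  choose W hWo hxW hWirr using h
  obtain ⟨x₀⟩ := (inferInstance : Nonempty T)
  have hZirr : IsIrreducible (closure (W x₀)) := (hWirr x₀).closure
  have hZopen : IsOpen (closure (W x₀)) := by
    rw [isOpen_iff_forall_mem_open]
    intro y hy
    refine ⟨W y, ?_, hWo y, hxW y⟩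
    have hne : (W y ∩ W x₀).Nonempty := mem_closure_iff.mp hy (W y) (hWo y) (hxW y)
    calc W y ⊆ closure (W y ∩ W x₀) :=
          subset_closure_inter_of_isPreirreducible_of_isOpen (hWirr y).isPreirreducible
            (hWo x₀) hne
      _ ⊆ closure (W x₀) := closure_mono Set.inter_subset_right
  have hZuniv : closure (W x₀) = Set.univ :=
    IsClopen.eq_univ ⟨isClosed_closure, hZopen⟩ ⟨x₀, subset_closure (hxW x₀)⟩
  rw [hZuniv] at hZirr
  exact (irreducibleSpace_def T).mpr hZirr

theorem irreducibleSpace_of_connected (X : Scheme.{u}) [IsLocallyNoetherian X] [ConnectedSpace X]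
    (h : ∀ x : X, IsDomain (X.presheaf.stalk x)) : IrreducibleSpace X :=
  irreducibleSpace_of_cover (fun x => by
    haveI := h x
    obtain ⟨W, hxW, hW⟩ := exists_irreducible_open_nhds X x
    exact ⟨W, W.isOpen, hxW, hW⟩)

theorem isIntegral_of_connected (X : Scheme.{u}) [IsLocallyNoetherian X] [ConnectedSpace X]
    (h : ∀ x : X, IsDomain (X.presheaf.stalk x)) : IsIntegral X := by
  haveI : IrreducibleSpace ↥X := irreducibleSpace_of_connected X h
  haveI : IsReduced X := by
    haveI : ∀ x : ↥X, _root_.IsReduced (X.presheaf.stalk x) := fun x => by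
      haveI := h x
      infer_instance
    exact isReduced_of_isReduced_stalk X
  exact isIntegral_of_irreducibleSpace_of_isReduced X

end ConnIrrH8
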