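import Mathlib

set_option autoImplicit false
set_option linter.unusedVariables false
set_option linter.unusedTactic false
set_option linter.unreachableTactic false
set_option linter.unusedSectionVars false
set_option linter.style.haveILetI false
set_option linter.deprecated false
set_option maxHeartbeats 1600000

/-!
# Flat closed subschemes and closed subsets stable under generalization

For a closed subset `C` of a scheme `X` which is stable under generalization, the ideal of sections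
all of whose germs at points of `C` vanish is a quasi-coherent ideal sheaf `genIdeal C`; its
closed subscheme has underlying set `C`, its inclusion is flat, and every morphism to `X` with
image in `C` factors through it.  Conversely a flat closed subscheme is of this form.
-/

universe u

namespace Groth.Agent.Lib.FlatClosedH4

open CategoryTheory AlgebraicGeometry TopologicalSpace Opposite

section Alg

variable {A : Type u} [CommRing A]

/-- `a` vanishes in the localization at every point of `Z`. -/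
def LocZero (Z : Set (PrimeSpectrum A)) (a : A) : Prop :=
  ∀ p ∈ Z, ∃ s : A, s ∉ p.asIdeal ∧ s * a = 0

variable {Z : Set (PrimeSpectrum A)}

theorem mem_of_vanishingIdeal_le (hZc : IsClosed Z) (p : PrimeSpectrum A)
    (h : PrimeSpectrum.vanishingIdeal Z ≤ p.asIdeal) : p ∈ Z := by
  have h1 : p ∈ PrimeSpectrum.zeroLocus (PrimeSpectrum.vanishingIdeal Z : Set A) := h
  rw [PrimeSpectrum.zeroLocus_vanishingIdeal_eq_closure, hZc.closure_eq] at h1
  exact h1

theorem mem_ann_iff (a s : A) : s ∈ (Submodule.span A {a}).annihilator ↔ s * a = 0 := by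
  rw [Submodule.mem_annihilator_span_singleton, smul_eq_mul]

theorem locZero_iff (hZc : IsClosed Z) (a : A) :
    LocZero Z a ↔ ∃ g ∈ PrimeSpectrum.vanishingIdeal Z, a = a * g := by
  constructor
  · intro h
    by_contra hne
    have hne_top : (Submodule.span A {a}).annihilator ⊔ PrimeSpectrum.vanishingIdeal Z ≠ ⊤ := by
      intro htop
      have h1 : (1 : A) ∈ (Submodule.span A {a}).annihilator ⊔ PrimeSpectrum.vanishingIdeal Z :=
        htop ▸ Submodule.mem_top
      obtain ⟨k, hk, g, hg, hkg⟩ := Submodule.mem_sup.mp h1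
      apply hne
      refine ⟨g, hg, ?_⟩
      have hka : k * a = 0 := (mem_ann_iff a k).mp hk
      calc a = (k + g) * a := by rw [hkg, one_mul]
        _ = a * g := by rw [add_mul, hka, zero_add, mul_comm]
    obtain ⟨m, hm, hle⟩ := Ideal.exists_le_maximal _ hne_top
    have hmZ : (⟨m, hm.isPrime⟩ : PrimeSpectrum A) ∈ Z :=
      mem_of_vanishingIdeal_le hZc ⟨m, hm.isPrime⟩ (le_sup_right.trans hle)
    obtain ⟨s, hs, hsa⟩ := h _ hmZ
    exact hs (hle (Ideal.mem_sup_left ((mem_ann_iff a s).mpr hsa)))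
  · rintro ⟨g, hg, hag⟩ p hp
    refine ⟨1 - g, fun h1 => ?_, ?_⟩
    · have hgp : g ∈ p.asIdeal := (PrimeSpectrum.mem_vanishingIdeal Z g).mp hg p hp
      have h2 : (1 : A) ∈ p.asIdeal := by
        have h3 := p.asIdeal.add_mem h1 hgp
        rwa [sub_add_cancel] at h3
      exact p.isPrime.ne_top (p.asIdeal.eq_top_iff_one.mpr h2)
    · rw [sub_mul, one_mul, mul_comm g a, ← hag, sub_self]

theorem exists_pow_locZero (hZc : IsClosed Z)
    (hZg : ∀ p ∈ Z, ∀ q : PrimeSpectrum A, q.asIdeal ≤ p.asIdeal → q ∈ Z)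
    (g : A) (hg : g ∈ PrimeSpectrum.vanishingIdeal Z) : ∃ n : ℕ, LocZero Z (g ^ n) := by
  by_contra hne
  have hne' : ∀ n : ℕ, ¬ LocZero Z (g ^ n) := fun n hn => hne ⟨n, hn⟩
  let T : Submonoid A :=
    { carrier := {t | ∃ (n : ℕ) (h : A), h ∈ PrimeSpectrum.vanishingIdeal Z ∧ t = g ^ n * (1 - h)}
      one_mem' := ⟨0, 0, Ideal.zero_mem _, by simp⟩
      mul_mem' := by
        rintro _ _ ⟨n, h, hh, rfl⟩ ⟨n', h', hh', rfl⟩
        refine ⟨n + n', h + h' - h * h', ?_, by ring⟩
        exact Ideal.sub_mem _ (Ideal.add_mem _ hh hh') (Ideal.mul_mem_left _ _ hh') }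
  have hTmem : ∀ t, t ∈ T ↔ ∃ (n : ℕ) (h : A), h ∈ PrimeSpectrum.vanishingIdeal Z ∧
      t = g ^ n * (1 - h) := fun t => Iff.rfl
  have h0 : (0 : A) ∉ T := by
    intro h0T
    obtain ⟨n, h, hh, h0⟩ := (hTmem 0).mp h0T
    apply hne' n
    rw [locZero_iff hZc]
    refine ⟨h, hh, ?_⟩
    have h1 : g ^ n * (1 - h) = 0 := h0.symm
    rw [mul_sub, mul_one, sub_eq_zero] at h1
    exact h1
  have hdisj : Disjoint ((⊥ : Ideal A) : Set A) (T : Set A) := by
    rw [Set.disjoint_left]
    intro x hx hxT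
    have hx0 : x = 0 := (Submodule.mem_bot A).mp hx
    exact h0 (hx0 ▸ hxT)
  obtain ⟨q, hq, -, hqT⟩ := Ideal.exists_le_prime_disjoint (⊥ : Ideal A) T hdisj
  have hgq : g ∉ q := fun h =>
    Set.disjoint_left.mp hqT h ((hTmem g).mpr ⟨1, 0, Ideal.zero_mem _, by simp⟩)
  have h1q : ∀ h ∈ PrimeSpectrum.vanishingIdeal Z, (1 - h) ∉ q := fun h hh h1 =>
    Set.disjoint_left.mp hqT h1 ((hTmem (1 - h)).mpr ⟨0, h, hh, by simp⟩)
  have hne_top : q ⊔ PrimeSpectrum.vanishingIdeal Z ≠ ⊤ := by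
    intro htop
    have h1 : (1 : A) ∈ q ⊔ PrimeSpectrum.vanishingIdeal Z := htop ▸ Submodule.mem_top
    obtain ⟨x, hx, h, hh, hxh⟩ := Submodule.mem_sup.mp h1
    apply h1q h hh
    have e : 1 - h = x := by rw [← hxh]; ring
    rw [e]; exact hx
  obtain ⟨m, hm, hle⟩ := Ideal.exists_le_maximal _ hne_top
  have hmZ : (⟨m, hm.isPrime⟩ : PrimeSpectrum A) ∈ Z :=
    mem_of_vanishingIdeal_le hZc ⟨m, hm.isPrime⟩ (le_sup_right.trans hle)
  have hqZ : (⟨q, hq⟩ : PrimeSpectrum A) ∈ Z := hZg _ hmZ ⟨q, hq⟩ (le_sup_left.trans hle)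
  exact hgq ((PrimeSpectrum.mem_vanishingIdeal Z g).mp hg _ hqZ)

theorem exists_mul_pow_locZero (hZc : IsClosed Z)
    (hZg : ∀ p ∈ Z, ∀ q : PrimeSpectrum A, q.asIdeal ≤ p.asIdeal → q ∈ Z) (a f : A)
    (h : ∀ p ∈ Z, f ∉ p.asIdeal → ∃ s : A, s ∉ p.asIdeal ∧ s * a = 0) :
    ∃ N : ℕ, LocZero Z (a * f ^ N) := by
  have hrad : f ∈ ((Submodule.span A {a}).annihilator ⊔ PrimeSpectrum.vanishingIdeal Z).radical := by
    rw [Ideal.radical_eq_sInf, Ideal.mem_sInf]
    rintro P ⟨hle, hP⟩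
    by_contra hfP
    have hPZ : (⟨P, hP⟩ : PrimeSpectrum A) ∈ Z :=
      mem_of_vanishingIdeal_le hZc ⟨P, hP⟩ (le_sup_right.trans hle)
    obtain ⟨s, hs, hsa⟩ := h _ hPZ hfP
    exact hs (hle (Ideal.mem_sup_left ((mem_ann_iff a s).mpr hsa)))
  obtain ⟨m, hm⟩ := Ideal.mem_radical_iff.mp hrad
  obtain ⟨k, hk, j, hj, hkj⟩ := Submodule.mem_sup.mp hm
  obtain ⟨n, hn⟩ := exists_pow_locZero hZc hZg j hj
  refine ⟨m * n, ?_⟩
  have hka : k * a = 0 := (mem_ann_iff a k).mp hk
  obtain ⟨c, hc⟩ := sub_dvd_pow_sub_pow (k + j) j n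
  have h2 : (k + j) ^ n = j ^ n + k * c := by
    have h3 : (k + j) ^ n - j ^ n = k * c := by rw [hc]; ring
    rw [← h3]; ring
  have e : a * f ^ (m * n) = a * j ^ n := by
    rw [pow_mul, ← hkj, h2, mul_add, ← mul_assoc, mul_comm a k, hka, zero_mul, add_zero]
  rw [e]
  intro p hp
  obtain ⟨s, hs, hsj⟩ := hn p hp
  exact ⟨s, hs, by rw [mul_left_comm, hsj, mul_zero]⟩

theorem mem_iff_forall_locZero (hZc : IsClosed Z)
    (hZg : ∀ p ∈ Z, ∀ q : PrimeSpectrum A, q.asIdeal ≤ p.asIdeal → q ∈ Z)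
    (p : PrimeSpectrum A) : p ∈ Z ↔ ∀ a, LocZero Z a → a ∈ p.asIdeal := by
  constructor
  · intro hp a ha
    obtain ⟨s, hs, hsa⟩ := ha p hp
    have h1 : s * a ∈ p.asIdeal := hsa ▸ p.asIdeal.zero_mem
    exact (p.isPrime.mem_or_mem h1).resolve_left hs
  · intro h
    apply mem_of_vanishingIdeal_le hZc
    intro g hg
    obtain ⟨n, hn⟩ := exists_pow_locZero hZc hZg g hg
    exact p.isPrime.mem_of_pow_mem n (h _ hn)

theorem injective_of_flat_local {R S : Type u} [CommRing R] [CommRing S] [IsLocalRing R]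
    [IsLocalRing S] (φ : R →+* S) [hloc : IsLocalHom φ] (h : φ.Flat) : Function.Injective φ := by
  letI := φ.toAlgebra
  haveI : Module.Flat R S := h
  haveI : IsLocalHom (algebraMap R S) := hloc
  haveI : Module.FaithfullyFlat R S := Module.FaithfullyFlat.of_flat_of_isLocalHom
  exact FaithfulSMul.algebraMap_injective R S

end Alg

section Sch

variable {X : Scheme.{u}}

theorem res_res (Z : Scheme.{u}) {A B C : Z.Opens} (f : B ⟶ A) (g : C ⟶ B) (h : C ⟶ A)
    (s : Γ(Z, A)) :
    (Z.presheaf.map g.op).hom ((Z.presheaf.map f.op).hom s) = (Z.presheaf.map h.op).hom s := by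
  have e : Z.presheaf.map h.op = Z.presheaf.map f.op ≫ Z.presheaf.map g.op :=
    Z.presheaf.map_comp f.op g.op
  rw [e]; rfl

/-- Sections over an affine open all of whose germs at points of `C` vanish. -/
noncomputable def genIdealFun (C : Set X) (U : X.affineOpens) : Ideal Γ(X, U) :=
  ⨅ x : {x : X // x ∈ C ∧ x ∈ U.1}, RingHom.ker (X.presheaf.germ U.1 x.1 x.2.2).hom

theorem mem_genIdealFun (C : Set X) (U : X.affineOpens) (a : Γ(X, U)) :
    a ∈ genIdealFun C U ↔ ∀ (x : X) (_ : x ∈ C) (hxU : x ∈ U.1),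
      (X.presheaf.germ U.1 x hxU).hom a = 0 := by
  unfold genIdealFun
  rw [Ideal.mem_iInf]
  constructor
  · intro h x hxC hxU
    exact RingHom.mem_ker.mp (h ⟨x, hxC, hxU⟩)
  · intro h x
    exact RingHom.mem_ker.mpr (h x.1 x.2.1 x.2.2)

theorem germ_eq_zero_iff {U : X.Opens} (hU : IsAffineOpen U) (x : X) (hx : x ∈ U)
    (a : Γ(X, U)) :
    (X.presheaf.germ U x hx).hom a = 0 ↔
      ∃ s : Γ(X, U), s ∉ (hU.primeIdealOf ⟨x, hx⟩).asIdeal ∧ s * a = 0 := by
  letI := TopCat.Presheaf.algebra_section_stalk X.presheaf (⟨x, hx⟩ : U)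
  haveI : IsLocalization.AtPrime (X.presheaf.stalk x) (hU.primeIdealOf ⟨x, hx⟩).asIdeal :=
    hU.isLocalization_stalk ⟨x, hx⟩
  have h := IsLocalization.map_eq_zero_iff (hU.primeIdealOf ⟨x, hx⟩).asIdeal.primeCompl
    (X.presheaf.stalk x) a
  constructor
  · intro h0
    obtain ⟨m, hm⟩ := h.mp h0
    exact ⟨m.1, m.2, hm⟩
  · rintro ⟨s, hs, hsa⟩
    exact h.mpr ⟨⟨s, hs⟩, hsa⟩

theorem fromSpec_mem' {U : X.Opens} (hU : IsAffineOpen U) (p : PrimeSpectrum Γ(X, U)) :
    hU.fromSpec p ∈ U := by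
  have h : hU.fromSpec p ∈ Set.range hU.fromSpec := Set.mem_range_self p
  rw [hU.range_fromSpec] at h
  exact h

theorem primeIdealOf_fromSpec {U : X.Opens} (hU : IsAffineOpen U) (p : PrimeSpectrum Γ(X, U)) :
    hU.primeIdealOf ⟨hU.fromSpec p, fromSpec_mem' hU p⟩ = p := by
  apply hU.fromSpec.isOpenEmbedding.injective
  exact hU.fromSpec_primeIdealOf ⟨hU.fromSpec p, fromSpec_mem' hU p⟩

theorem mem_basicOpen_iff_notMem {U : X.Opens} (hU : IsAffineOpen U) (f : Γ(X, U))
    (p : PrimeSpectrum Γ(X, U)) : hU.fromSpec p ∈ X.basicOpen f ↔ f ∉ p.asIdeal := by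
  have h : hU.fromSpec ⁻¹ᵁ X.basicOpen f = PrimeSpectrum.basicOpen f :=
    hU.fromSpec_preimage_basicOpen f
  constructor
  · intro hp
    have h1 : p ∈ hU.fromSpec ⁻¹ᵁ X.basicOpen f := hp
    rw [h] at h1
    exact h1
  · intro hp
    have h1 : p ∈ hU.fromSpec ⁻¹ᵁ X.basicOpen f := by rw [h]; exact hp
    exact h1

/-- The trace of `C` on the spectrum of an affine open. -/
def ZU (C : Set X) {U : X.Opens} (hU : IsAffineOpen U) : Set (PrimeSpectrum Γ(X, U)) :=
  {p | hU.fromSpec p ∈ C}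

theorem isClosed_ZU (C : Set X) {U : X.Opens} (hU : IsAffineOpen U) (hC : IsClosed C) :
    IsClosed (ZU C hU) := hC.preimage hU.fromSpec.continuous

theorem gen_ZU (C : Set X) {U : X.Opens} (hU : IsAffineOpen U)
    (hCg : StableUnderGeneralization C) :
    ∀ p ∈ ZU C hU, ∀ q : PrimeSpectrum Γ(X, U), q.asIdeal ≤ p.asIdeal → q ∈ ZU C hU := by
  intro p hp q hqp
  have h1 : q ⤳ p := (PrimeSpectrum.le_iff_specializes q p).mp hqp
  have h2 : hU.fromSpec q ⤳ hU.fromSpec p := h1.map hU.fromSpec.continuous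
  exact hCg h2 hp

theorem mem_genIdealFun_iff_locZero (C : Set X) (U : X.affineOpens) (a : Γ(X, U)) :
    a ∈ genIdealFun C U ↔ LocZero (ZU C U.2) a := by
  rw [mem_genIdealFun]
  constructor
  · intro h p hp
    have hxU := fromSpec_mem' U.2 p
    obtain ⟨s, hs, hsa⟩ := (germ_eq_zero_iff U.2 _ hxU a).mp (h _ hp hxU)
    rw [primeIdealOf_fromSpec U.2 p] at hs
    exact ⟨s, hs, hsa⟩
  · intro h x hxC hxU
    rw [germ_eq_zero_iff U.2 x hxU a]
    have hp : U.2.primeIdealOf ⟨x, hxU⟩ ∈ ZU C U.2 := by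
      show U.2.fromSpec (U.2.primeIdealOf ⟨x, hxU⟩) ∈ C
      rw [U.2.fromSpec_primeIdealOf ⟨x, hxU⟩]; exact hxC
    exact h _ hp

theorem germ_res_zero (C : Set X) (U : X.affineOpens) (f : Γ(X, U)) (a : Γ(X, U))
    (ha : a ∈ genIdealFun C U) (x : X) (hxC : x ∈ C) (hxD : x ∈ X.basicOpen f) :
    (X.presheaf.germ (X.basicOpen f) x hxD).hom
      ((X.presheaf.map (homOfLE (X.basicOpen_le f)).op).hom a) = 0 :=
  (X.presheaf.germ_res_apply (homOfLE (X.basicOpen_le f)) x hxD a).trans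
    ((mem_genIdealFun C U a).mp ha x hxC ((X.basicOpen_le f) hxD))

theorem mem_map_of_germ_zero (C : Set X) (hC : IsClosed C) (hCg : StableUnderGeneralization C)
    (U : X.affineOpens) (f : Γ(X, U)) (b : Γ(X, X.basicOpen f))
    (hb' : ∀ (x : X), x ∈ C → ∀ hxD : x ∈ X.basicOpen f,
      (X.presheaf.germ (X.basicOpen f) x hxD).hom b = 0) :
    b ∈ (genIdealFun C U).map (X.presheaf.map (homOfLE (X.basicOpen_le f)).op).hom := by
  letI alg : Algebra Γ(X, U) Γ(X, X.basicOpen f) :=
    (X.presheaf.map (homOfLE (X.basicOpen_le f)).op).hom.toAlgebra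
  haveI : IsLocalization.Away f Γ(X, X.basicOpen f) :=
    U.2.isLocalization_of_eq_basicOpen f (homOfLE (X.basicOpen_le f)) rfl
  obtain ⟨⟨a, m⟩, hbm⟩ := IsLocalization.surj (Submonoid.powers f) b
  obtain ⟨n, hn⟩ := (Submonoid.mem_powers_iff _ _).mp m.2
  have hbm' : b * (X.presheaf.map (homOfLE (X.basicOpen_le f)).op).hom (f ^ n)
      = (X.presheaf.map (homOfLE (X.basicOpen_le f)).op).hom a := by
    rw [hn]; exact hbm
  have hgerm : ∀ (x : X) (hxC : x ∈ C) (hxD : x ∈ X.basicOpen f),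
      (X.presheaf.germ U.1 x ((X.basicOpen_le f) hxD)).hom a = 0 := by
    intro x hxC hxD
    have e := X.presheaf.germ_res_apply (homOfLE (X.basicOpen_le f)) x hxD a
    have e2 : (X.presheaf.germ (X.basicOpen f) x hxD).hom
        ((X.presheaf.map (homOfLE (X.basicOpen_le f)).op).hom a) = 0 := by
      rw [← hbm', map_mul, hb' x hxC hxD, zero_mul]
    exact e.symm.trans e2
  have hyp : ∀ p ∈ ZU C U.2, f ∉ p.asIdeal →
      ∃ s : Γ(X, U), s ∉ p.asIdeal ∧ s * a = 0 := by
    intro p hp hfp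
    have hxU := fromSpec_mem' U.2 p
    have hxD : U.2.fromSpec p ∈ X.basicOpen f := (mem_basicOpen_iff_notMem U.2 f p).mpr hfp
    obtain ⟨s, hs, hsa⟩ := (germ_eq_zero_iff U.2 _ hxU a).mp (hgerm _ hp hxD)
    rw [primeIdealOf_fromSpec U.2 p] at hs
    exact ⟨s, hs, hsa⟩
  obtain ⟨N, hN⟩ := exists_mul_pow_locZero (isClosed_ZU C U.2 hC) (gen_ZU C U.2 hCg) a f hyp
  have hmem : a * f ^ N ∈ genIdealFun C U := (mem_genIdealFun_iff_locZero C U _).mpr hN
  have hmap := Ideal.mem_map_of_mem (X.presheaf.map (homOfLE (X.basicOpen_le f)).op).hom hmem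
  have hu : IsUnit ((X.presheaf.map (homOfLE (X.basicOpen_le f)).op).hom f) :=
    IsLocalization.map_units Γ(X, X.basicOpen f)
      (⟨f, Submonoid.mem_powers f⟩ : Submonoid.powers f)
  have e3 : b * ((X.presheaf.map (homOfLE (X.basicOpen_le f)).op).hom f) ^ (n + N)
      = (X.presheaf.map (homOfLE (X.basicOpen_le f)).op).hom (a * f ^ N) := by
    rw [map_mul, ← hbm', map_pow, map_pow, pow_add, mul_assoc]
  refine (Ideal.mul_unit_mem_iff_mem _ (hu.pow (n + N))).mp ?_
  rw [e3]; exact hmap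

/-- The ideal sheaf of sections vanishing in all stalks at points of `C`. -/
noncomputable def genIdeal (C : Set X) (hC : IsClosed C) (hCg : StableUnderGeneralization C) :
    X.IdealSheafData where
  ideal := genIdealFun C
  map_ideal_basicOpen := fun U f => le_antisymm
    (Ideal.map_le_iff_le_comap.mpr (fun a ha => by
      show (X.presheaf.map (homOfLE (X.basicOpen_le f)).op).hom a
        ∈ genIdealFun C (X.affineBasicOpen f)
      exact (mem_genIdealFun C (X.affineBasicOpen f) _).mpr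
        (fun x hxC hxD => germ_res_zero C U f a ha x hxC hxD)))
    (fun b hb => mem_map_of_germ_zero C hC hCg U f b
      ((mem_genIdealFun C (X.affineBasicOpen f) b).mp hb))

theorem genIdeal_ideal (C : Set X) (hC : IsClosed C) (hCg : StableUnderGeneralization C)
    (U : X.affineOpens) : (genIdeal C hC hCg).ideal U = genIdealFun C U := rfl

theorem genIdeal_congr {C C' : Set X} (h : C = C') (hC : IsClosed C)
    (hCg : StableUnderGeneralization C) (hC' : IsClosed C')
    (hCg' : StableUnderGeneralization C') : genIdeal C hC hCg = genIdeal C' hC' hCg' := by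
  subst h; rfl

theorem support_genIdeal (C : Set X) (hC : IsClosed C) (hCg : StableUnderGeneralization C) :
    ((genIdeal C hC hCg).support : Set X) = C := by
  ext x
  constructor
  · intro hx
    by_contra hxC
    obtain ⟨U, hU, hxU, -⟩ := exists_isAffineOpen_mem_and_subset (x := x) (U := ⊤) trivial
    have h1 := (Scheme.IdealSheafData.mem_support_iff_of_mem (I := genIdeal C hC hCg)
      (U := ⟨U, hU⟩) hxU).mp hx
    have hp : hU.primeIdealOf ⟨x, hxU⟩ ∉ ZU C hU := by
      intro h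
      apply hxC
      have h2 : hU.fromSpec (hU.primeIdealOf ⟨x, hxU⟩) ∈ C := h
      rwa [hU.fromSpec_primeIdealOf ⟨x, hxU⟩] at h2
    rw [mem_iff_forall_locZero (isClosed_ZU C hU hC) (gen_ZU C hU hCg)] at hp
    obtain ⟨a, ha⟩ := not_forall.mp hp
    obtain ⟨hloc, hap⟩ := Classical.not_imp.mp ha
    have hmem : a ∈ genIdealFun C ⟨U, hU⟩ := (mem_genIdealFun_iff_locZero C ⟨U, hU⟩ a).mpr hloc
    have hxa : x ∈ X.basicOpen a := by
      have h3 := (mem_basicOpen_iff_notMem hU a (hU.primeIdealOf ⟨x, hxU⟩)).mpr hap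
      rwa [hU.fromSpec_primeIdealOf ⟨x, hxU⟩] at h3
    exact (X.mem_zeroLocus_iff _ x).mp h1 a hmem hxa
  · intro hxC
    rw [SetLike.mem_coe, Scheme.IdealSheafData.mem_support_iff]
    intro U
    rw [X.mem_zeroLocus_iff]
    intro a ha hxa
    have hxU : x ∈ U.1 := X.basicOpen_le a hxa
    have hunit : IsUnit ((X.presheaf.germ U.1 x hxU).hom a) := (X.mem_basicOpen a x hxU).mp hxa
    have h0 : (X.presheaf.germ U.1 x hxU).hom a = 0 := (mem_genIdealFun C U a).mp ha x hxC hxU
    rw [h0] at hunit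
    exact not_isUnit_zero hunit

theorem flat_genIdeal (C : Set X) (hC : IsClosed C) (hCg : StableUnderGeneralization C) :
    Flat (genIdeal C hC hCg).subschemeι := by
  obtain ⟨I, hI⟩ : ∃ I : X.IdealSheafData, I = genIdeal C hC hCg := ⟨_, rfl⟩
  rw [← hI]
  have hsupp : (I.support : Set X) = C := by rw [hI]; exact support_genIdeal C hC hCg
  have hideal : ∀ U : X.affineOpens, I.ideal U = genIdealFun C U := fun U => by rw [hI]; rfl
  rw [Flat.iff_flat_stalkMap]
  intro z
  apply RingHom.Flat.of_bijective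
  refine ⟨?_, I.subschemeι.stalkMap_surjective z⟩
  obtain ⟨U, hU, hxU, -⟩ :=
    exists_isAffineOpen_mem_and_subset (x := I.subschemeι z) (U := ⊤) trivial
  refine IsAffineOpen.stalkMap_injective I.subschemeι hU z hxU (fun a ha => ?_)
  have hxC : I.subschemeι z ∈ C := by
    rw [← hsupp, ← Scheme.IdealSheafData.range_subschemeι]; exact Set.mem_range_self z
  have e1 := Scheme.Hom.germ_stalkMap_apply I.subschemeι U z hxU a
  have h0 : (I.subscheme.presheaf.germ (I.subschemeι ⁻¹ᵁ U) z hxU) ((I.subschemeι.app U) a) = 0 :=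
    e1.symm.trans ha
  have hzU : z ∈ I.subschemeι ⁻¹ᵁ U := hxU
  obtain ⟨W, hzW, iU, iV, hW⟩ := I.subscheme.presheaf.germ_eq z hzU hzU
    ((I.subschemeι.app U) a) 0 (h0.trans (map_zero _).symm)
  rw [map_zero] at hW
  obtain ⟨t, ht, htW⟩ := I.subschemeι.isEmbedding.isInducing.isOpen_iff.mp W.2
  have hxt : I.subschemeι z ∈ t := by
    have h1 : z ∈ ⇑I.subschemeι ⁻¹' t := by rw [htW]; exact hzW
    exact h1
  have hxV : I.subschemeι z ∈ (⟨t, ht⟩ : X.Opens) ⊓ U := ⟨hxt, hxU⟩
  obtain ⟨f, hfV, hxf⟩ := hU.exists_basicOpen_le (V := (⟨t, ht⟩ : X.Opens) ⊓ U)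
    ⟨I.subschemeι z, hxV⟩ hxU
  have hDW : I.subschemeι ⁻¹ᵁ X.basicOpen f ≤ W := by
    intro z' hz'
    have h1 : I.subschemeι z' ∈ (⟨t, ht⟩ : X.Opens) ⊓ U := hfV hz'
    have h2 : z' ∈ ⇑I.subschemeι ⁻¹' t := h1.1
    rw [htW] at h2
    exact h2
  have hk : (I.subschemeι.app (X.basicOpen f)).hom
      ((X.presheaf.map (homOfLE (X.basicOpen_le f)).op).hom a) = 0 := by
    have nat := congrArg (fun φ => φ.hom a)
      (I.subschemeι.naturality (homOfLE (X.basicOpen_le f)).op)
    refine nat.trans ?_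
    have e2 : (I.subscheme.presheaf.map (homOfLE hDW).op).hom
        ((I.subscheme.presheaf.map iU.op).hom ((I.subschemeι.app U).hom a))
        = (I.subscheme.presheaf.map
          ((Opens.map I.subschemeι.base).map (homOfLE (X.basicOpen_le f))).op).hom
          ((I.subschemeι.app U).hom a) := res_res I.subscheme iU (homOfLE hDW) _ _
    have hW' : (I.subscheme.presheaf.map iU.op).hom ((I.subschemeι.app U).hom a) = 0 := hW
    exact e2.symm.trans (by rw [hW', map_zero])
  have hker : (X.presheaf.map (homOfLE (X.basicOpen_le f)).op).hom a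
      ∈ I.ideal (X.affineBasicOpen (U := ⟨U, hU⟩) f) :=
    (Scheme.IdealSheafData.ker_subschemeι_app I (X.affineBasicOpen (U := ⟨U, hU⟩) f)).le
      (RingHom.mem_ker.mpr hk)
  have hker' : (X.presheaf.map (homOfLE (X.basicOpen_le f)).op).hom a
      ∈ genIdealFun C (X.affineBasicOpen (U := ⟨U, hU⟩) f) := by
    rw [← hideal]; exact hker
  have h3 := (mem_genIdealFun C (X.affineBasicOpen (U := ⟨U, hU⟩) f) _).mp hker'
    (I.subschemeι z) hxC hxf
  have e3 := X.presheaf.germ_res_apply (homOfLE (X.basicOpen_le f)) (I.subschemeι z) hxf a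
  exact e3.symm.trans h3

theorem le_ker_of_range_subset (C : Set X) (hC : IsClosed C) (hCg : StableUnderGeneralization C)
    {Y : Scheme.{u}} (g : Y ⟶ X) (hg : Set.range g ⊆ C) : genIdeal C hC hCg ≤ g.ker := by
  refine Scheme.IdealSheafData.le_ofIdeals_iff.mpr ?_
  intro U a ha
  rw [RingHom.mem_ker]
  refine TopCat.Presheaf.section_ext Y.sheaf (g ⁻¹ᵁ U.1) _ _ (fun y hy => ?_)
  have e := Scheme.Hom.germ_stalkMap_apply g U.1 y hy a
  have h0 : (X.presheaf.germ U.1 (g y) hy).hom a = 0 :=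
    (mem_genIdealFun C U a).mp ha (g y) (hg ⟨y, rfl⟩) hy
  have h1 : (X.presheaf.germ U.1 (g y) hy) a = 0 := h0
  rw [h1, map_zero] at e
  exact e.symm.trans (map_zero _).symm

theorem exists_lift (C : Set X) (hC : IsClosed C) (hCg : StableUnderGeneralization C)
    {Y : Scheme.{u}} (g : Y ⟶ X) (hg : Set.range g ⊆ C) :
    ∃ g' : Y ⟶ (genIdeal C hC hCg).subscheme, g' ≫ (genIdeal C hC hCg).subschemeι = g := by
  have hle : (genIdeal C hC hCg).subschemeι.ker ≤ g.ker := by
    rw [Scheme.IdealSheafData.ker_subschemeι]; exact le_ker_of_range_subset C hC hCg g hg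
  exact ⟨IsClosedImmersion.lift _ g hle, IsClosedImmersion.lift_fac _ g hle⟩

theorem stable_of_flat (I : X.IdealSheafData) (hflat : Flat I.subschemeι) :
    StableUnderGeneralization (I.support : Set X) := by
  have h := (Flat.generalizingMap I.subschemeι).stableUnderGeneralization_range
  rwa [Scheme.IdealSheafData.range_subschemeι] at h

theorem eq_genIdeal_of_flat (I : X.IdealSheafData) (hflat : Flat I.subschemeι)
    (hCg : StableUnderGeneralization (I.support : Set X)) :
    I = genIdeal (I.support : Set X) I.support.isClosed hCg := by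
  apply Scheme.IdealSheafData.ext
  funext U
  rw [genIdeal_ideal]
  apply le_antisymm
  · intro a ha
    rw [mem_genIdealFun]
    intro x hx hxU
    have hx' : x ∈ Set.range I.subschemeι := by
      rw [Scheme.IdealSheafData.range_subschemeι]; exact hx
    obtain ⟨z, rfl⟩ := hx'
    have hinj : Function.Injective (I.subschemeι.stalkMap z).hom :=
      injective_of_flat_local _ (Flat.stalkMap I.subschemeι z)
    apply hinj
    rw [map_zero]
    have e := Scheme.Hom.germ_stalkMap_apply I.subschemeι U.1 z hxU a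
    have hker : (I.subschemeι.app U.1).hom a = 0 := by
      rw [← RingHom.mem_ker, Scheme.IdealSheafData.ker_subschemeι_app]; exact ha
    have hker' : (I.subschemeι.app U.1) a = 0 := hker
    rw [hker', map_zero] at e
    exact e
  · intro a ha
    rw [mem_genIdealFun] at ha
    rw [← Scheme.IdealSheafData.ker_subschemeι_app, RingHom.mem_ker]
    refine TopCat.Presheaf.section_ext I.subscheme.sheaf (I.subschemeι ⁻¹ᵁ U.1) _ _
      (fun z hz => ?_)
    have e := Scheme.Hom.germ_stalkMap_apply I.subschemeι U.1 z hz a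
    have hzs : I.subschemeι z ∈ (I.support : Set X) := by
      rw [← Scheme.IdealSheafData.range_subschemeι]; exact Set.mem_range_self z
    have h0 : (X.presheaf.germ U.1 (I.subschemeι z) hz) a = 0 := ha _ hzs hz
    rw [h0, map_zero] at e
    exact e.symm.trans (map_zero _).symm

theorem main9351 (X : Scheme.{u}) :
    Set.BijOn (fun I : X.IdealSheafData => I.support) {I : X.IdealSheafData | Flat I.subschemeι}
        {Z : TopologicalSpace.Closeds ↑X | StableUnderGeneralization (Z : Set ↑X)} ∧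
      ∀ I : X.IdealSheafData, Flat I.subschemeι → ∀ (Y : Scheme.{u}) (g : Y ⟶ X),
        Set.range g.base ⊆ (I.support : Set ↑X) →
          ∃ g' : Y ⟶ I.subscheme, g' ≫ I.subschemeι = g := by
  refine ⟨⟨fun I hI => stable_of_flat I hI, ?_, ?_⟩, ?_⟩
  · intro I hI J hJ hIJ
    have hIJ' : (I.support : Set X) = (J.support : Set X) := congrArg (fun Z : Closeds X => (Z : Set X)) hIJ
    rw [eq_genIdeal_of_flat I hI (stable_of_flat I hI),
      eq_genIdeal_of_flat J hJ (stable_of_flat J hJ)]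
    exact genIdeal_congr hIJ' _ _ _ _
  · intro Z hZ
    refine ⟨genIdeal (Z : Set X) Z.isClosed hZ, flat_genIdeal _ _ _, ?_⟩
    exact TopologicalSpace.Closeds.ext (support_genIdeal (Z : Set X) Z.isClosed hZ)
  · intro I hI Y g hg
    have hle : I.subschemeι.ker ≤ g.ker := by
      rw [Scheme.IdealSheafData.ker_subschemeι]
      exact (eq_genIdeal_of_flat I hI (stable_of_flat I hI)).le.trans
        (le_ker_of_range_subset _ _ _ g hg)
    exact ⟨IsClosedImmersion.lift _ g hle, IsClosedImmersion.lift_fac _ g hle⟩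

end Sch

end Groth.Agent.Lib.FlatClosedH4
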