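import Mathlib
import Groth.Agent.Lib.SchImGrp_helper4
import Groth.Agent.Lib.FlatClosed_helper4

set_option autoImplicit false
set_option linter.unusedVariables false
set_option linter.unusedTactic false
set_option linter.unreachableTactic false
set_option linter.unusedSectionVars false
set_option linter.style.haveILetI false
set_option linter.deprecated false
set_option maxHeartbeats 1600000

universe u

open CategoryTheory CategoryTheory.Limits MonoidalCategory CartesianMonoidalCategory MonObj GrpObj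
  AlgebraicGeometry TensorProduct

namespace Groth.Agent.Lib.GenSubgrpH4

open Groth.Agent.Lib

/-! ### Algebra -/

/-- If `R` embeds jointly into a family of `k`-algebras whose base changes to `K` are reduced,
then `R ⊗ K` is reduced. -/
theorem isReduced_tensor_of_family {k : Type u} [Field k] {R : Type u} [CommRing R] [Algebra k R]
    {K : Type u} [Field K] [Algebra k K]
    {ix : Sort*} (C : ix → Type u) [∀ a, CommRing (C a)] [∀ a, Algebra k (C a)]
    (φ : ∀ a, R →ₐ[k] C a) (hφ : ∀ r : R, (∀ a, φ a r = 0) → r = 0)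
    (hC : ∀ a, _root_.IsReduced (C a ⊗[k] K)) : _root_.IsReduced (R ⊗[k] K) := by
  classical
  let b := Module.Free.chooseBasis k K
  have key : ∀ (a : ix) (t : R ⊗[k] K) (i : Module.Free.ChooseBasisIndex k K),
      φ a ((Algebra.TensorProduct.basis R b).repr t i) =
        (Algebra.TensorProduct.basis (C a) b).repr
          (Algebra.TensorProduct.map (φ a) (AlgHom.id k K) t) i := by
    intro a t i
    induction t using TensorProduct.induction_on with
    | zero => simp
    | tmul r x =>
      rw [Algebra.TensorProduct.map_tmul, Algebra.TensorProduct.basis_repr_tmul,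
        Algebra.TensorProduct.basis_repr_tmul]
      simp
    | add x y hx hy =>
      simp only [map_add, Finsupp.add_apply, hx, hy]
  refine ⟨fun t ht => ?_⟩
  apply (Algebra.TensorProduct.basis R b).repr.injective
  ext i
  rw [map_zero, Finsupp.zero_apply]
  apply hφ
  intro a
  rw [key a t i]
  have h0 : Algebra.TensorProduct.map (φ a) (AlgHom.id k K) t = 0 :=
    (hC a).eq_zero _ (ht.map _)
  rw [h0, map_zero, Finsupp.zero_apply]

/-- A geometrically reduced algebra tensored with a reduced algebra is reduced. -/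
theorem isReduced_tensor_of_geomRed {k : Type u} [Field k] (B B' : Type u) [CommRing B]
    [CommRing B'] [Algebra k B] [Algebra k B']
    (hB : GeometricallyReduced (Spec.map (CommRingCat.ofHom (algebraMap k B))))
    [_root_.IsReduced B'] : _root_.IsReduced (B ⊗[k] B') := by
  apply IsReduced.tensorProduct_of_flat_of_forall_fg
  intro D hD
  haveI : Algebra.FiniteType k D := (Subalgebra.fg_iff_finiteType D).mp hD
  haveI : IsNoetherianRing D := Algebra.FiniteType.isNoetherianRing k D
  haveI : _root_.IsReduced D :=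
    isReduced_of_injective D.val (fun x y h => Subtype.ext h)
  haveI : AlgebraicGeometry.IsReduced (Spec (CommRingCat.of D)) :=
    (affine_isReduced_iff _).mpr ‹_›
  haveI : IsLocallyNoetherian (Spec (CommRingCat.of D)) := inferInstance
  haveI : Subsingleton ↥(Spec (CommRingCat.of k)) :=
    (inferInstance : Subsingleton (PrimeSpectrum k))
  haveI hflat : Flat (Spec.map (CommRingCat.ofHom (algebraMap k B))) := inferInstance
  haveI := hB
  have h1 : AlgebraicGeometry.IsReduced
      (pullback (Spec.map (CommRingCat.ofHom (algebraMap k B)))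
        (Spec.map (CommRingCat.ofHom (algebraMap k D)))) := inferInstance
  have h2 : AlgebraicGeometry.IsReduced (Spec (CommRingCat.of (B ⊗[k] D))) :=
    isReduced_of_isOpenImmersion (pullbackSpecIso k B D).inv
  exact (affine_isReduced_iff _).mp h2

/-! ### Scheme lemmas on geometric reducedness -/

theorem geomRed_id (S : Scheme.{u}) : GeometricallyReduced (𝟙 S) := by
  constructor
  intro K _ y P fst snd hpb
  haveI : IsIso snd := hpb.isIso_snd_of_isIso
  exact isReduced_of_isOpenImmersion snd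

theorem geomRed_comp_openImm {U T S : Scheme.{u}} (j : U ⟶ T) [IsOpenImmersion j] (f : T ⟶ S)
    [GeometricallyReduced f] : GeometricallyReduced (j ≫ f) := by
  constructor
  intro K _ y Z fst snd hpb
  let l : Z ⟶ pullback f y :=
    pullback.lift (fst ≫ j) snd (by rw [Category.assoc]; exact hpb.w)
  have hl : l ≫ pullback.snd f y = snd := pullback.lift_snd _ _ _
  have hs : IsPullback fst (l ≫ pullback.snd f y) (j ≫ f) y := by
    rw [hl]; exact hpb
  have htop : IsPullback fst l j (pullback.fst f y) :=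
    IsPullback.of_bot hs (pullback.lift_fst _ _ _).symm (IsPullback.of_hasPullback f y)
  haveI : IsOpenImmersion l :=
    MorphismProperty.of_isPullback (P := @IsOpenImmersion) htop inferInstance
  haveI : AlgebraicGeometry.IsReduced (pullback f y) :=
    pullback_of_geometrically (GeometricallyReduced.geometrically_isReduced) K y
  exact isReduced_of_isOpenImmersion l

theorem isReduced_pullback_affine {k : Type u} [Field k] {A A' : Scheme.{u}} [IsAffine A]
    [IsAffine A'] (a : A ⟶ Spec (CommRingCat.of k)) (a' : A' ⟶ Spec (CommRingCat.of k))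
    [GeometricallyReduced a] [AlgebraicGeometry.IsReduced A'] :
    AlgebraicGeometry.IsReduced (pullback a a') := by
  obtain ⟨ψ, hψ⟩ := Spec.map_surjective (A.isoSpec.inv ≫ a)
  obtain ⟨ψ', hψ'⟩ := Spec.map_surjective (A'.isoSpec.inv ≫ a')
  letI : Algebra k Γ(A, ⊤) := ψ.hom.toAlgebra
  letI : Algebra k Γ(A', ⊤) := ψ'.hom.toAlgebra
  have hgr : GeometricallyReduced (Spec.map (CommRingCat.ofHom (algebraMap k Γ(A, ⊤)))) := by
    show GeometricallyReduced (Spec.map ψ)
    rw [hψ]
    exact geomRed_comp_openImm A.isoSpec.inv a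
  haveI : _root_.IsReduced Γ(A', ⊤) := inferInstance
  have hred : _root_.IsReduced (Γ(A, ⊤) ⊗[k] Γ(A', ⊤)) :=
    isReduced_tensor_of_geomRed Γ(A, ⊤) Γ(A', ⊤) hgr
  haveI h3 : AlgebraicGeometry.IsReduced (Spec (CommRingCat.of (Γ(A, ⊤) ⊗[k] Γ(A', ⊤)))) :=
    (affine_isReduced_iff _).mpr hred
  haveI h4 : AlgebraicGeometry.IsReduced (pullback (Spec.map ψ) (Spec.map ψ')) :=
    isReduced_of_isOpenImmersion (pullbackSpecIso k Γ(A, ⊤) Γ(A', ⊤)).hom
  have hsq : IsPullback (pullback.fst a a' ≫ A.isoSpec.hom) (pullback.snd a a' ≫ A'.isoSpec.hom)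
      (Spec.map ψ) (Spec.map ψ') := by
    refine IsPullback.of_iso (IsPullback.of_hasPullback a a') (Iso.refl _) A.isoSpec A'.isoSpec
      (Iso.refl _) ?_ ?_ ?_ ?_
    · simp
    · simp
    · rw [hψ]; simp
    · rw [hψ']; simp
  exact isReduced_of_isOpenImmersion hsq.isoPullback.hom

theorem isReduced_pullback {k : Type u} [Field k] {X Y : Scheme.{u}}
    (f : X ⟶ Spec (CommRingCat.of k)) (g : Y ⟶ Spec (CommRingCat.of k))
    [GeometricallyReduced f] [AlgebraicGeometry.IsReduced Y] :
    AlgebraicGeometry.IsReduced (pullback f g) := by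
  let 𝒰 := Scheme.Pullback.openCoverOfLeftRight X.affineCover Y.affineCover f g
  haveI : ∀ ij, AlgebraicGeometry.IsReduced (𝒰.X ij) := by
    rintro ⟨i, j⟩
    show AlgebraicGeometry.IsReduced
      (pullback (X.affineCover.f i ≫ f) (Y.affineCover.f j ≫ g))
    haveI : GeometricallyReduced (X.affineCover.f i ≫ f) := geomRed_comp_openImm _ _
    haveI : AlgebraicGeometry.IsReduced (Y.affineCover.X j) :=
      isReduced_of_isOpenImmersion (Y.affineCover.f j)
    exact isReduced_pullback_affine _ _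
  exact IsReduced.of_openCover _ 𝒰

theorem isReduced_of_isPullback {k : Type u} [Field k] {P X Y : Scheme.{u}}
    {fst : P ⟶ X} {snd : P ⟶ Y} {f : X ⟶ Spec (CommRingCat.of k)}
    {g : Y ⟶ Spec (CommRingCat.of k)} (h : IsPullback fst snd f g)
    [GeometricallyReduced f] [AlgebraicGeometry.IsReduced Y] : AlgebraicGeometry.IsReduced P := by
  haveI := isReduced_pullback f g
  exact isReduced_of_isOpenImmersion h.isoPullback.hom

theorem geomRed_tensor {k : Type u} [Field k] (A B : Over (Spec (CommRingCat.of k)))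
    (hA : GeometricallyReduced A.hom) (hB : GeometricallyReduced B.hom) :
    GeometricallyReduced (A ⊗ B).hom := by
  haveI := hA
  haveI := hB
  show GeometricallyReduced (pullback.fst A.hom B.hom ≫ A.hom)
  constructor
  intro K _ y P fst snd hpb
  haveI : AlgebraicGeometry.IsReduced (pullback A.hom y) :=
    pullback_of_geometrically hA.geometrically_isReduced K y
  let l : P ⟶ pullback A.hom y :=
    pullback.lift (fst ≫ pullback.fst A.hom B.hom) snd (by rw [Category.assoc]; exact hpb.w)
  have hl : l ≫ pullback.snd A.hom y = snd := pullback.lift_snd _ _ _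
  have hs : IsPullback fst (l ≫ pullback.snd A.hom y) (pullback.fst A.hom B.hom ≫ A.hom) y := by
    rw [hl]; exact hpb
  have htop : IsPullback fst l (pullback.fst A.hom B.hom) (pullback.fst A.hom y) :=
    IsPullback.of_bot hs (pullback.lift_fst _ _ _).symm (IsPullback.of_hasPullback A.hom y)
  have hright : IsPullback (pullback.snd A.hom B.hom) (pullback.fst A.hom B.hom) B.hom A.hom :=
    (IsPullback.of_hasPullback A.hom B.hom).flip
  have hbig : IsPullback (fst ≫ pullback.snd A.hom B.hom) l B.hom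
      (pullback.fst A.hom y ≫ A.hom) := htop.paste_horiz hright
  exact isReduced_of_isPullback hbig

theorem isReduced_pullback_of_family {k K : Type u} [Field k] [Field K]
    {R : Type u} [CommRing R] (a : Spec (CommRingCat.of R) ⟶ Spec (CommRingCat.of k))
    (y : Spec (CommRingCat.of K) ⟶ Spec (CommRingCat.of k))
    {ix : Sort*} (C : ix → Type u) [∀ i, CommRing (C i)] (φ : ∀ i, R →+* C i)
    (hφ : ∀ r : R, (∀ i, φ i r = 0) → r = 0)
    (hC : ∀ i, AlgebraicGeometry.IsReduced
      (pullback (Spec.map (CommRingCat.ofHom (φ i)) ≫ a) y)) :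
    AlgebraicGeometry.IsReduced (pullback a y) := by
  obtain ⟨ψ, rfl⟩ := Spec.map_surjective a
  obtain ⟨κ, rfl⟩ := Spec.map_surjective y
  letI : Algebra k R := ψ.hom.toAlgebra
  letI : Algebra k K := κ.hom.toAlgebra
  letI instC : ∀ i, Algebra k (C i) := fun i => ((φ i).comp ψ.hom).toAlgebra
  let φ' : ∀ i, R →ₐ[k] C i := fun i => { φ i with commutes' := fun c => rfl }
  have hC' : ∀ i, _root_.IsReduced (C i ⊗[k] K) := by
    intro i
    have e : Spec.map (CommRingCat.ofHom (φ i)) ≫ Spec.map ψ =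
        Spec.map (CommRingCat.ofHom (algebraMap k (C i))) := by
      rw [← Spec.map_comp]; rfl
    have eK : Spec.map κ = Spec.map (CommRingCat.ofHom (algebraMap k K)) := rfl
    haveI := hC i
    haveI h1 : AlgebraicGeometry.IsReduced
        (pullback (Spec.map (CommRingCat.ofHom (algebraMap k (C i))))
          (Spec.map (CommRingCat.ofHom (algebraMap k K)))) :=
      isReduced_of_isOpenImmersion (pullback.congrHom e.symm eK.symm).hom
    have h2 : AlgebraicGeometry.IsReduced (Spec (CommRingCat.of (C i ⊗[k] K))) :=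
      isReduced_of_isOpenImmersion (pullbackSpecIso k (C i) K).inv
    exact (affine_isReduced_iff _).mp h2
  have hR : _root_.IsReduced (R ⊗[k] K) :=
    isReduced_tensor_of_family C φ' (fun r h => hφ r (fun i => h i)) hC'
  haveI h3 : AlgebraicGeometry.IsReduced (Spec (CommRingCat.of (R ⊗[k] K))) :=
    (affine_isReduced_iff _).mpr hR
  have h4 : AlgebraicGeometry.IsReduced
      (pullback (Spec.map (CommRingCat.ofHom (algebraMap k R)))
        (Spec.map (CommRingCat.ofHom (algebraMap k K)))) :=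
    isReduced_of_isOpenImmersion (pullbackSpecIso k R K).hom
  exact h4

/-! ### Reduced induced structure -/

theorem vanishingIdeal_le_ker {X Y : Scheme.{u}} [AlgebraicGeometry.IsReduced Y] (g : Y ⟶ X)
    (Z : TopologicalSpace.Closeds X) (hg : Set.range g.base ⊆ (Z : Set X)) :
    Scheme.IdealSheafData.vanishingIdeal Z ≤ g.ker := by
  refine Scheme.IdealSheafData.le_ofIdeals_iff.mpr ?_
  intro U r hr
  rw [Scheme.IdealSheafData.vanishingIdeal_ideal, PrimeSpectrum.mem_vanishingIdeal] at hr
  rw [RingHom.mem_ker]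
  have e : g ⁻¹ᵁ X.basicOpen r = Y.basicOpen ((g.app U.1).hom r) :=
    Scheme.preimage_basicOpen g r
  apply (basicOpen_eq_bot_iff _).mp
  rw [← e, eq_bot_iff]
  intro y hy
  exfalso
  have hy' : g.base y ∈ X.basicOpen r := hy
  have hyU : g.base y ∈ U.1 := X.basicOpen_le r hy'
  have hmem : g.base y ∈ Set.range U.2.fromSpec.base := by
    rw [U.2.range_fromSpec]; exact hyU
  obtain ⟨p, hp⟩ := hmem
  have hpZ : p ∈ U.2.fromSpec.base ⁻¹' (Z : Set X) := by
    show U.2.fromSpec.base p ∈ (Z : Set X)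
    rw [hp]; exact hg ⟨y, rfl⟩
  have h1 : r ∈ p.asIdeal := hr p hpZ
  have h2 : U.2.fromSpec.base p ∈ X.basicOpen r := by rw [hp]; exact hy'
  exact ((FlatClosedH4.mem_basicOpen_iff_notMem U.2 r p).mp h2) h1

set_option maxHeartbeats 3200000 in
theorem geomRed_closure {k : Type u} [Field k] {G : Scheme.{u}}
    (gk : G ⟶ Spec (CommRingCat.of k))
    {ix : Sort*} (T : ix → Scheme.{u}) (w : ∀ a, T a ⟶ G)
    (hT : ∀ a, GeometricallyReduced (w a ≫ gk))
    (Z : TopologicalSpace.Closeds G)
    (hZ : (Z : Set G) = closure (⋃ a, Set.range (w a).base)) :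
    GeometricallyReduced ((Scheme.IdealSheafData.vanishingIdeal Z).subschemeι ≫ gk) := by
  haveI : Subsingleton ↥(Spec (CommRingCat.of k)) :=
    (inferInstance : Subsingleton (PrimeSpectrum k))
  obtain ⟨J, hJ⟩ : ∃ J, J = Scheme.IdealSheafData.vanishingIdeal Z := ⟨_, rfl⟩
  rw [← hJ]
  have hTred : ∀ a, AlgebraicGeometry.IsReduced (T a) := fun a =>
    self_of_isIntegral_of_geometrically (hT a).geometrically_isReduced
  have hle : ∀ a, J ≤ (w a).ker := fun a => by
    haveI := hTred a
    rw [hJ]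
    exact vanishingIdeal_le_ker (w a) Z
      (by rw [hZ]; exact fun x hx => subset_closure (Set.mem_iUnion.mpr ⟨a, hx⟩))
  have hJideal : ∀ (U : G.affineOpens) (r : Γ(G, U.1)), r ∈ J.ideal U ↔
      ∀ p : PrimeSpectrum Γ(G, U.1), U.2.fromSpec.base p ∈ (Z : Set G) → r ∈ p.asIdeal := by
    intro U r
    rw [hJ, Scheme.IdealSheafData.vanishingIdeal_ideal, PrimeSpectrum.mem_vanishingIdeal]
    rfl
  constructor
  intro K _ y P fst snd hpb
  suffices h : AlgebraicGeometry.IsReduced (pullback (J.subschemeι ≫ gk) y) by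
    haveI := h
    exact isReduced_of_isOpenImmersion hpb.isoPullback.hom
  let 𝒰 := Scheme.Pullback.openCoverOfLeft J.subschemeCover.openCover (J.subschemeι ≫ gk) y
  haveI : ∀ U, AlgebraicGeometry.IsReduced (𝒰.X U) := by
    intro (U : G.affineOpens)
    show AlgebraicGeometry.IsReduced (pullback (J.subschemeCover.f U ≫ J.subschemeι ≫ gk) y)
    haveI : IsOpenImmersion U.2.fromSpec := U.2.isOpenImmersion_fromSpec
    let φ : ∀ b : (Σ' (a : ix) (V : (T a).affineOpens), V.1 ≤ (w a) ⁻¹ᵁ U.1),
        (Γ(G, U.1) ⧸ J.ideal U) →+* Γ(T b.1, b.2.1.1) := fun b =>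
      Ideal.Quotient.lift (J.ideal U) ((w b.1).appLE U.1 b.2.1.1 b.2.2).hom (fun r hr => by
        have h0 : ((w b.1).app U.1).hom r = 0 :=
          (RingHom.mem_ker).mp ((w b.1).ideal_ker_le U (hle b.1 U hr))
        show ((T b.1).presheaf.map (homOfLE b.2.2).op).hom (((w b.1).app U.1).hom r) = 0
        rw [h0, map_zero])
    have hφmk : ∀ b r, φ b (Ideal.Quotient.mk (J.ideal U) r) =
        ((w b.1).appLE U.1 b.2.1.1 b.2.2).hom r := fun b r => Ideal.Quotient.lift_mk _ _ _
    have hinj : ∀ rbar : Γ(G, U.1) ⧸ J.ideal U, (∀ b, φ b rbar = 0) → rbar = 0 := by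
      intro rbar h
      obtain ⟨r, rfl⟩ := Ideal.Quotient.mk_surjective rbar
      rw [Ideal.Quotient.eq_zero_iff_mem, hJideal]
      intro p hp
      have hcl : IsClosed (PrimeSpectrum.zeroLocus ({r} : Set Γ(G, U.1))) :=
        PrimeSpectrum.isClosed_zeroLocus _
      have hsub0 : ∀ q : PrimeSpectrum Γ(G, U.1),
          U.2.fromSpec.base q ∈ (⋃ a, Set.range (w a).base) → r ∈ q.asIdeal := by
        intro q hq
        obtain ⟨a, x, hx⟩ := Set.mem_iUnion.mp hq
        by_contra hrq
        have h1 : U.2.fromSpec.base q ∈ G.basicOpen r :=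
          (FlatClosedH4.mem_basicOpen_iff_notMem U.2 r q).mpr hrq
        have hxU : x ∈ (w a) ⁻¹ᵁ U.1 := by
          show (w a).base x ∈ U.1
          rw [hx]; exact FlatClosedH4.fromSpec_mem' U.2 q
        obtain ⟨_, ⟨V, hV, rfl⟩, hxV, hVU⟩ :=
          (T a).isBasis_affineOpens.exists_subset_of_mem_open hxU ((w a) ⁻¹ᵁ U.1).isOpen
        have h2 : ((w a).appLE U.1 V hVU).hom r = 0 :=
          (hφmk ⟨a, ⟨V, hV⟩, hVU⟩ r).symm.trans (h ⟨a, ⟨V, hV⟩, hVU⟩)
        have h4 := Scheme.basicOpen_appLE (w a) V U.1 hVU r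
        have h5 : x ∈ V ⊓ (w a) ⁻¹ᵁ G.basicOpen r :=
          ⟨hxV, by show (w a).base x ∈ G.basicOpen r; rw [hx]; exact h1⟩
        have h6 : x ∈ (T a).basicOpen ((w a).appLE U.1 V hVU r) := by rw [h4]; exact h5
        have h7 : ((w a).appLE U.1 V hVU) r = 0 := h2
        rw [h7, Scheme.basicOpen_zero] at h6
        exact h6
      have hsub : U.2.fromSpec.base ⁻¹' (⋃ a, Set.range (w a).base) ⊆
          PrimeSpectrum.zeroLocus ({r} : Set Γ(G, U.1)) := fun q hq =>
        (PrimeSpectrum.mem_zeroLocus q {r}).mpr (Set.singleton_subset_iff.mpr (hsub0 q hq))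
      have hp' : p ∈ closure (U.2.fromSpec.base ⁻¹' (⋃ a, Set.range (w a).base)) := by
        apply U.2.fromSpec.isOpenEmbedding.isOpenMap.preimage_closure_subset_closure_preimage
        show U.2.fromSpec.base p ∈ closure _
        rw [← hZ]; exact hp
      have h8 := closure_minimal hsub hcl hp'
      exact Set.singleton_subset_iff.mp ((PrimeSpectrum.mem_zeroLocus p {r}).mp h8)
    have hC : ∀ b, AlgebraicGeometry.IsReduced
        (pullback (Spec.map (CommRingCat.ofHom (φ b)) ≫
          J.subschemeCover.f U ≫ J.subschemeι ≫ gk) y) := by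
      rintro ⟨a, V, hVU⟩
      have h1 : J.subschemeCover.f U ≫ J.subschemeι =
          Spec.map (CommRingCat.ofHom (Ideal.Quotient.mk (J.ideal U))) ≫ U.2.fromSpec :=
        (Scheme.IdealSheafData.subschemeCover_map_subschemeι J U).trans
          (Scheme.IdealSheafData.glueDataObjι_ι J U)
      have e1 : CommRingCat.ofHom (Ideal.Quotient.mk (J.ideal U)) ≫
          CommRingCat.ofHom (φ ⟨a, V, hVU⟩) = (w a).appLE U.1 V.1 hVU := by
        ext r
        exact hφmk ⟨a, V, hVU⟩ r
      have e0 : Spec.map (CommRingCat.ofHom (φ ⟨a, V, hVU⟩)) ≫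
          J.subschemeCover.f U ≫ J.subschemeι = V.2.fromSpec ≫ w a := by
        calc Spec.map (CommRingCat.ofHom (φ ⟨a, V, hVU⟩)) ≫
              J.subschemeCover.f U ≫ J.subschemeι
            = Spec.map (CommRingCat.ofHom (φ ⟨a, V, hVU⟩)) ≫
              Spec.map (CommRingCat.ofHom (Ideal.Quotient.mk (J.ideal U))) ≫ U.2.fromSpec :=
              congrArg (fun t => Spec.map (CommRingCat.ofHom (φ ⟨a, V, hVU⟩)) ≫ t) h1
          _ = Spec.map (CommRingCat.ofHom (Ideal.Quotient.mk (J.ideal U)) ≫
              CommRingCat.ofHom (φ ⟨a, V, hVU⟩)) ≫ U.2.fromSpec := by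
              rw [Spec.map_comp, Category.assoc]
          _ = Spec.map ((w a).appLE U.1 V.1 hVU) ≫ U.2.fromSpec := by rw [e1]
          _ = V.2.fromSpec ≫ w a := IsAffineOpen.SpecMap_appLE_fromSpec (w a) U.2 V.2 hVU
      have e2 : Spec.map (CommRingCat.ofHom (φ ⟨a, V, hVU⟩)) ≫
          J.subschemeCover.f U ≫ J.subschemeι ≫ gk = V.2.fromSpec ≫ w a ≫ gk :=
        (reassoc_of% e0) gk
      haveI := hT a
      haveI : IsOpenImmersion V.2.fromSpec := V.2.isOpenImmersion_fromSpec
      haveI : GeometricallyReduced (V.2.fromSpec ≫ w a ≫ gk) :=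
        geomRed_comp_openImm V.2.fromSpec (w a ≫ gk)
      haveI : AlgebraicGeometry.IsReduced (pullback (V.2.fromSpec ≫ w a ≫ gk) y) :=
        pullback_of_geometrically (GeometricallyReduced.geometrically_isReduced) K y
      exact isReduced_of_isOpenImmersion (pullback.congrHom e2 rfl).hom
    exact isReduced_pullback_of_family (R := Γ(G, U.1) ⧸ J.ideal U)
      (J.subschemeCover.f U ≫ J.subschemeι ≫ gk) y
      (fun b : (Σ' (a : ix) (V : (T a).affineOpens), V.1 ≤ (w a) ⁻¹ᵁ U.1) =>
        Γ(T b.1, b.2.1.1)) φ hinj hC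
  exact IsReduced.of_openCover _ 𝒰

/-! ### The generated subgroup -/

/-- The class of geometrically reduced test objects mapping into every closed subgroup
through which `f` factors. -/
def InClass {k : Type u} [Field k] (G X : Over (Spec (CommRingCat.of k))) [GrpObj G] (f : X ⟶ G)
    (T : Over (Spec (CommRingCat.of k))) (w : T ⟶ G) : Prop :=
  GeometricallyReduced T.hom ∧
    ∀ (H : Over (Spec (CommRingCat.of k))) (_ : GrpObj H) (h : H ⟶ G), IsMonHom h →
      IsClosedImmersion h.left → (∃ f'' : X ⟶ H, f'' ≫ h = f) → ∃ w' : T ⟶ H, w' ≫ h = w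

set_option maxHeartbeats 3200000 in
theorem main3028 (k : Type u) [Field k] (G X : Over (Spec (CommRingCat.of k))) [GrpObj G]
    [GeometricallyReduced X.hom] (f : X ⟶ G) :
    ∃ (Γ : Over (Spec (CommRingCat.of k))) (_ : GrpObj Γ) (i : Γ ⟶ G), IsMonHom i ∧
      IsClosedImmersion i.left ∧
      (∃ f' : X ⟶ Γ, f' ≫ i = f) ∧ GeometricallyReduced Γ.hom ∧
      ∀ (Γ' : Over (Spec (CommRingCat.of k))) (_ : GrpObj Γ') (i' : Γ' ⟶ G), IsMonHom i' →
        IsClosedImmersion i'.left →
        (∃ f'' : X ⟶ Γ', f'' ≫ i' = f) → ∃ j : Γ ⟶ Γ', j ≫ i' = i := by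
  haveI hsub : Subsingleton ↥(Spec (CommRingCat.of k)) :=
    (inferInstance : Subsingleton (PrimeSpectrum k))
  let ix := {p : Σ T : Over (Spec (CommRingCat.of k)), (T ⟶ G) // InClass G X f p.1 p.2}
  let Z : TopologicalSpace.Closeds G.left :=
    ⟨closure (⋃ a : ix, Set.range a.1.2.left.base), isClosed_closure⟩
  obtain ⟨J, hJ⟩ : ∃ J, J = Scheme.IdealSheafData.vanishingIdeal Z := ⟨_, rfl⟩
  let Γ : Over (Spec (CommRingCat.of k)) := Over.mk (J.subschemeι ≫ G.hom)
  let i : Γ ⟶ G := Over.homMk J.subschemeι rfl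
  haveI hci : IsClosedImmersion i.left := (inferInstance : IsClosedImmersion J.subschemeι)
  haveI : Mono i.left := inferInstance
  haveI : Mono i := Over.mono_of_mono_left i
  have hred_of : ∀ (T : Over (Spec (CommRingCat.of k))), GeometricallyReduced T.hom →
      AlgebraicGeometry.IsReduced T.left :=
    fun T hT => self_of_isIntegral_of_geometrically hT.geometrically_isReduced
  have hW : ∀ (T : Over (Spec (CommRingCat.of k))) (w : T ⟶ G), InClass G X f T w →
      Set.range w.left.base ⊆ (Z : Set G.left) := fun T w hw g hg =>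
    subset_closure (Set.mem_iUnion.mpr ⟨⟨⟨T, w⟩, hw⟩, hg⟩)
  have hiker : i.left.ker = J := Scheme.IdealSheafData.ker_subschemeι J
  have hfac : ∀ (T : Over (Spec (CommRingCat.of k))) (w : T ⟶ G), InClass G X f T w →
      ∃ w' : T ⟶ Γ, w' ≫ i = w := by
    intro T w hw
    haveI := hred_of T hw.1
    have hker : i.left.ker ≤ w.left.ker := by
      rw [hiker, hJ]
      exact vanishingIdeal_le_ker w.left Z (hW T w hw)
    refine ⟨Over.homMk (IsClosedImmersion.lift i.left w.left hker) ?_, ?_⟩
    · show _ ≫ i.left ≫ G.hom = _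
      rw [IsClosedImmersion.lift_fac_assoc, Over.w]
    · ext1
      exact IsClosedImmersion.lift_fac _ _ _
  have hΓgr : GeometricallyReduced Γ.hom := by
    show GeometricallyReduced (J.subschemeι ≫ G.hom)
    rw [hJ]
    exact geomRed_closure G.hom (fun a : ix => a.1.1.left) (fun a => a.1.2.left)
      (fun a => by rw [Over.w]; exact a.2.1) Z rfl
  have hΓclass : InClass G X f Γ i := by
    refine ⟨hΓgr, fun H _ h hmon hcl hf'' => ?_⟩
    haveI := hcl
    have hsub' : (Z : Set G.left) ⊆ Set.range h.left.base := by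
      apply closure_minimal _ h.left.isClosedEmbedding.isClosed_range
      intro g hg
      obtain ⟨a, x, rfl⟩ := Set.mem_iUnion.mp hg
      obtain ⟨w', hw'⟩ := a.2.2 H _ h hmon hcl hf''
      refine ⟨w'.left.base x, ?_⟩
      have e : w'.left ≫ h.left = a.1.2.left := by rw [← Over.comp_left, hw']
      rw [← e]
      rfl
    have hker : h.left.ker ≤ i.left.ker := by
      rw [hiker, hJ]
      refine Scheme.IdealSheafData.le_support_iff_le_vanishingIdeal.mp ?_
      rw [← SetLike.coe_subset_coe, Scheme.Hom.support_ker h.left]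
      exact hsub'.trans subset_closure
    refine ⟨Over.homMk (IsClosedImmersion.lift h.left i.left hker) ?_, ?_⟩
    · show _ ≫ H.hom = Γ.hom
      rw [← Over.w h, IsClosedImmersion.lift_fac_assoc]
      rfl
    · ext1
      exact IsClosedImmersion.lift_fac _ _ _
  have h1class : InClass G X f (𝟙_ (Over (Spec (CommRingCat.of k)))) η[G] := by
    refine ⟨?_, fun H _ h hmon _ _ => ?_⟩
    · show GeometricallyReduced (𝟙 (Spec (CommRingCat.of k)))
      exact geomRed_id _
    · haveI := hmon
      exact ⟨η[H], IsMonHom.one_hom h⟩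
  have hmclass : InClass G X f (Γ ⊗ Γ) ((i ⊗ₘ i) ≫ μ[G]) := by
    refine ⟨geomRed_tensor Γ Γ hΓgr hΓgr, fun H _ h hmon hcl hf'' => ?_⟩
    obtain ⟨j, hj⟩ := hΓclass.2 H _ h hmon hcl hf''
    haveI := hmon
    refine ⟨(j ⊗ₘ j) ≫ μ[H], ?_⟩
    rw [Category.assoc, IsMonHom.mul_hom h, tensorHom_comp_tensorHom_assoc, hj]
  have hiclass : InClass G X f Γ (i ≫ ι[G]) := by
    refine ⟨hΓgr, fun H _ h hmon hcl hf'' => ?_⟩
    obtain ⟨j, hj⟩ := hΓclass.2 H _ h hmon hcl hf''
    haveI := hmon
    exact ⟨j ≫ ι[H], by rw [Category.assoc, GrpObj.inv_hom h, reassoc_of% hj]⟩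
  have hXclass : InClass G X f X f := ⟨inferInstance, fun H _ h _ _ hf'' => hf''⟩
  obtain ⟨one', h1⟩ := hfac _ _ h1class
  obtain ⟨mul', hm⟩ := hfac _ _ hmclass
  obtain ⟨inv', hi⟩ := hfac _ _ hiclass
  obtain ⟨f', hf'⟩ := hfac _ _ hXclass
  letI grp : GrpObj Γ := SchImGrpH4.grpObjOfMono i one' h1 mul' hm inv' hi
  exact ⟨Γ, grp, i, ⟨h1, hm⟩, hci, ⟨f', hf'⟩, hΓgr,
    fun Γ' _ i' hmon' hcl' hf'' => hΓclass.2 Γ' _ i' hmon' hcl' hf''⟩

end Groth.Agent.Lib.GenSubgrpH4
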