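import Mathlib
import Groth.Agent.Lib.FlatClosed_helper4
import Groth.Agent.Lib.GrpConnComp_helper4
import Groth.Agent.Lib.GrpConnIrr_helper4
import Groth.Agent.Lib.GrpPtIrr_helper4
import Groth.Agent.Lib.GrpIdComp_helper4
import Groth.Agent.Lib.SchImGrp_helper4

set_option autoImplicit false
set_option linter.unusedVariables false
set_option linter.unusedTactic false
set_option linter.unreachableTactic false
set_option linter.unusedSectionVars false
set_option linter.style.haveILetI false
set_option linter.deprecated false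
set_option maxHeartbeats 1600000

/-!
# The identity component of a group scheme over a field as a flat closed subgroup scheme
-/

universe u

namespace Groth.Agent.Lib.GrpIdZeroH4

open CategoryTheory CategoryTheory.Limits AlgebraicGeometry MonoidalCategory
  CartesianMonoidalCategory MonObj GrpObj TopologicalSpace
open Groth.Agent.Lib.FlatClosedH4

theorem stableUnderGeneralization_connectedComponent {T : Type u} [TopologicalSpace T] (e : T) :
    StableUnderGeneralization (connectedComponent e) := by
  intro x y hyx hx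
  have h1 : closure ({y} : Set T) ⊆ connectedComponent x :=
    (isPreconnected_singleton.closure).subset_connectedComponent
      (specializes_iff_mem_closure.mp hyx)
  have h2 : y ∈ connectedComponent x := h1 (subset_closure rfl)
  rwa [← connectedComponent_eq hx] at h2

theorem exists_idComp (k : Type u) [Field k] (G : Over (Spec (CommRingCat.of k))) [GrpObj G] :
    ∃ (G₀ : Over (Spec (CommRingCat.of k))) (_ : GrpObj G₀) (incl : G₀ ⟶ G) (_ : IsMonHom incl),
      IsClosedImmersion incl.left ∧ Flat incl.left ∧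
      Set.range ⇑incl.left = connectedComponent (η[G].left (IsLocalRing.closedPoint k)) ∧
      GeometricallyIrreducible G₀.hom ∧ CompactSpace ↥G₀.left := by
  haveI hsub : Subsingleton ↥(Spec (CommRingCat.of k)) :=
    (inferInstance : Subsingleton (PrimeSpectrum k))
  obtain ⟨e, he⟩ : ∃ e : G.left, e = η[G].left (IsLocalRing.closedPoint k) := ⟨_, rfl⟩
  rw [← he]
  obtain ⟨C, hCdef⟩ : ∃ C : Set G.left, C = connectedComponent e := ⟨_, rfl⟩
  rw [← hCdef]
  have heC : e ∈ C := by rw [hCdef]; exact mem_connectedComponent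
  have hC : IsClosed C := by rw [hCdef]; exact isClosed_connectedComponent
  have hCg : StableUnderGeneralization C := by
    rw [hCdef]; exact stableUnderGeneralization_connectedComponent e
  -- irreducible component facts
  obtain ⟨-, Z, ⟨hZ, heZ⟩, hZuniq⟩ := Groth.Agent.Lib.GrpPtIrrH4.main0350 k G
  obtain ⟨hCirr, hCcomp⟩ := Groth.Agent.Lib.GrpConnCompH4.main0355 k G
  rw [← he, ← hCdef] at hCirr hCcomp
  rw [← he] at heZ
  have hZC : Z = C := by
    have h1 : Z ⊆ C := by
      rw [hCdef]
      exact hZ.1.isConnected.isPreconnected.subset_connectedComponent heZ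
    exact hZ.eq_of_subset hCirr h1
  have hCmem : C ∈ irreducibleComponents ↥G.left := hZC ▸ hZ
  -- the subscheme
  obtain ⟨I, hI⟩ : ∃ I : G.left.IdealSheafData, I = genIdeal C hC hCg := ⟨_, rfl⟩
  have hrange : Set.range ⇑I.subschemeι = C := by
    rw [Scheme.IdealSheafData.range_subschemeι, hI]; exact support_genIdeal C hC hCg
  have hflat : Flat I.subschemeι := by rw [hI]; exact flat_genIdeal C hC hCg
  have hlift : ∀ {Y : Scheme.{u}} (g : Y ⟶ G.left), Set.range g ⊆ C →
      I.subschemeι.ker ≤ g.ker := by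
    intro Y g hg
    rw [Scheme.IdealSheafData.ker_subschemeι, hI]
    exact le_ker_of_range_subset C hC hCg g hg
  let G₀ : Over (Spec (CommRingCat.of k)) := Over.mk (I.subschemeι ≫ G.hom)
  let incl : G₀ ⟶ G := Over.homMk I.subschemeι rfl
  haveI hci : IsClosedImmersion incl.left := (inferInstance : IsClosedImmersion I.subschemeι)
  haveI : Mono incl.left := inferInstance
  haveI : Mono incl := Over.mono_of_mono_left incl
  have hincl_mem : ∀ z : G₀.left, incl.left z ∈ C := fun z => by
    rw [← hrange]; exact Set.mem_range_self z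
  -- unit
  have honerange : Set.range ⇑η[G].left ⊆ C := by
    rintro _ ⟨pt, rfl⟩
    have hpt : η[G].left pt = e := by
      rw [he]
      exact congrArg (fun q => η[G].left q) (@Subsingleton.elim _ hsub pt _)
    rw [hpt]; exact heC
  obtain ⟨one₀, hone₀⟩ : ∃ f : (𝟙_ (Over (Spec (CommRingCat.of k)))).left ⟶ I.subscheme,
      f ≫ I.subschemeι = η[G].left :=
    ⟨_, IsClosedImmersion.lift_fac I.subschemeι η[G].left (hlift _ honerange)⟩
  let one' : 𝟙_ (Over (Spec (CommRingCat.of k))) ⟶ G₀ :=
    Over.homMk one₀ (by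
      show one₀ ≫ I.subschemeι ≫ G.hom = _
      rw [← Category.assoc, hone₀]; exact Over.w _)
  have h1 : one' ≫ incl = η[G] := by
    ext1
    exact hone₀
  -- multiplication
  have hmulrange : Set.range ⇑((incl ⊗ₘ incl) ≫ μ[G]).left ⊆ C := by
    rintro _ ⟨w, rfl⟩
    rw [Over.comp_left, Scheme.Hom.comp_apply]
    refine Groth.Agent.Lib.GrpConnIrrH4.mul_mem_comp G C C hCmem (he ▸ heC) hCmem _ ?_ ?_
    · rw [← Scheme.Hom.comp_apply, ← Over.comp_left, tensorHom_fst, Over.comp_left,
        Scheme.Hom.comp_apply]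
      exact hincl_mem _
    · rw [← Scheme.Hom.comp_apply, ← Over.comp_left, tensorHom_snd, Over.comp_left,
        Scheme.Hom.comp_apply]
      exact hincl_mem _
  obtain ⟨mul₀, hmul₀⟩ : ∃ f : (G₀ ⊗ G₀).left ⟶ I.subscheme,
      f ≫ I.subschemeι = ((incl ⊗ₘ incl) ≫ μ[G]).left :=
    ⟨_, IsClosedImmersion.lift_fac I.subschemeι ((incl ⊗ₘ incl) ≫ μ[G]).left
      (hlift _ hmulrange)⟩
  let mul' : G₀ ⊗ G₀ ⟶ G₀ :=
    Over.homMk mul₀ (by
      show mul₀ ≫ I.subschemeι ≫ G.hom = _
      rw [← Category.assoc, hmul₀]; exact Over.w _)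
  have hm : mul' ≫ incl = (incl ⊗ₘ incl) ≫ μ[G] := by
    ext1
    exact hmul₀
  -- inverse
  have hinve : ι[G].left e = e := by
    have h := congrArg (fun φ : 𝟙_ (Over (Spec (CommRingCat.of k))) ⟶ G =>
      φ.left (IsLocalRing.closedPoint k)) (GrpObj.one_inv (G := G))
    rw [he]; exact h
  have hinvC : ∀ x ∈ C, ι[G].left x ∈ C := by
    intro x hx
    have hpre : _root_.IsPreconnected (⇑ι[G].left '' C) := by
      rw [hCdef]
      exact isPreconnected_connectedComponent.image _ ι[G].left.continuous.continuousOn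
    have hmem : e ∈ ⇑ι[G].left '' C := ⟨e, heC, hinve⟩
    have h2 := hpre.subset_connectedComponent hmem ⟨x, hx, rfl⟩
    rw [hCdef]; exact h2
  have hinvrange : Set.range ⇑(incl ≫ ι[G]).left ⊆ C := by
    rintro _ ⟨w, rfl⟩
    rw [Over.comp_left, Scheme.Hom.comp_apply]
    exact hinvC _ (hincl_mem w)
  obtain ⟨inv₀, hinv₀⟩ : ∃ f : G₀.left ⟶ I.subscheme,
      f ≫ I.subschemeι = (incl ≫ ι[G]).left :=
    ⟨_, IsClosedImmersion.lift_fac I.subschemeι (incl ≫ ι[G]).left (hlift _ hinvrange)⟩
  let inv' : G₀ ⟶ G₀ :=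
    Over.homMk inv₀ (by
      show inv₀ ≫ I.subschemeι ≫ G.hom = _
      rw [← Category.assoc, hinv₀]; exact Over.w _)
  have hi : inv' ≫ incl = incl ≫ ι[G] := by
    ext1
    exact hinv₀
  letI grp : GrpObj G₀ := SchImGrpH4.grpObjOfMono incl one' h1 mul' hm inv' hi
  -- irreducibility and compactness
  haveI hirrsp : IrreducibleSpace ↥I.subscheme := by
    have h2 : IsIrreducible (Set.range ⇑I.subschemeι) := by rw [hrange]; exact hCirr
    haveI : IrreducibleSpace ↥(Set.range ⇑I.subschemeι) :=
      isIrreducible_iff_irreducibleSpace.mp h2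
    exact (I.subschemeι.isClosedEmbedding.isEmbedding.toHomeomorph).irreducibleSpace_iff.mpr
      inferInstance
  have hgeom : GeometricallyIrreducible (I.subschemeι ≫ G.hom) :=
    Groth.Agent.Lib.GrpIdCompH4.main7517 k G I.subscheme I.subschemeι
      (by rw [hrange]; exact hCmem) (by rw [hrange, ← he]; exact heC)
  have hcompact : CompactSpace ↥I.subscheme := by
    rw [← isCompact_univ_iff, I.subschemeι.isEmbedding.isInducing.isCompact_iff, Set.image_univ,
      hrange]
    exact hCcomp
  exact ⟨G₀, grp, incl, ⟨h1, hm⟩, hci, hflat, hrange, hgeom, hcompact⟩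

theorem main7520 (K : Type u) [Field K] (G : Over (Spec (CommRingCat.of K))) [GrpObj G] :
    ∃ (G₀ : Over (Spec (CommRingCat.of K))) (_ : GrpObj G₀) (incl : G₀ ⟶ G) (_ : IsMonHom incl),
      IsClosedImmersion incl.left ∧ Flat incl.left ∧
      Set.range ⇑incl.left = connectedComponent (η[G].left (IsLocalRing.closedPoint K)) ∧
      GeometricallyIrreducible G₀.hom ∧ CompactSpace ↥G₀.left :=
  exists_idComp K G

theorem main3023 (k : Type u) [Field k] (G : Over (Spec (CommRingCat.of k))) [GrpObj G] :
    ∃ (G0 : Over (Spec (CommRingCat.of k))) (_ : GrpObj G0) (i : G0 ⟶ G),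
      IsMonHom i ∧ IsClosedImmersion i.left ∧ Flat i.left ∧
      (∀ pt : ↥(𝟙_ (Over (Spec (CommRingCat.of k)))).left,
        Set.range i.left.base = connectedComponent (η[G].left.base pt)) := by
  haveI hsub : Subsingleton ↥(Spec (CommRingCat.of k)) :=
    (inferInstance : Subsingleton (PrimeSpectrum k))
  obtain ⟨G₀, grp, incl, hmon, hci, hflat, hrange, -, -⟩ := exists_idComp k G
  refine ⟨G₀, grp, incl, hmon, hci, hflat, fun pt => ?_⟩
  have hpt : η[G].left.base pt = η[G].left (IsLocalRing.closedPoint k) :=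
    congrArg (fun q => η[G].left q) (@Subsingleton.elim _ hsub pt _)
  rw [hpt]
  exact hrange

end Groth.Agent.Lib.GrpIdZeroH4
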