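import Mathlib
import Groth.Prelude.Def_AlgGrp
import Groth.Agent.Lib.GenSubgrp_helper4
import Groth.Agent.Lib.GrpIdZero_helper4
import Groth.Agent.Lib.ConnRedField_helper4
import Groth.Agent.Lib.EtaleReduced_helper7

set_option autoImplicit false
set_option linter.unusedVariables false
set_option linter.unusedTactic false
set_option linter.unreachableTactic false
set_option linter.unusedSectionVars false
set_option linter.style.haveILetI false
set_option linter.deprecated false
set_option maxHeartbeats 1600000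

universe u

open CategoryTheory CategoryTheory.Limits MonoidalCategory CartesianMonoidalCategory MonObj GrpObj
  AlgebraicGeometry

namespace Groth.Agent.Lib.ActZeroDimH4

open Groth.Agent.Lib.GenSubgrpH4 Groth.Agent.Lib.GrpIdZeroH4

/-- A smooth morphism is geometrically reduced. -/
theorem geomRed_of_smooth {X S : Scheme.{u}} (f : X ⟶ S) [Smooth f] : GeometricallyReduced f := by
  constructor
  intro K _ y P fst snd hpb
  haveI : Smooth snd := MorphismProperty.of_isPullback (P := @Smooth) hpb inferInstance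
  exact Groth.Agent.Lib.EtaleReduced_helper7.isReduced_of_smooth_scheme snd

/-- Two ring maps out of an integral `k`-algebra into a connected reduced ring which agree after
composition with a ring map to a nontrivial ring are equal. -/
theorem ringHom_eq_of_section {k B R L : Type u} [Field k] [CommRing B] [CommRing R] [CommRing L]
    [Nontrivial L] [_root_.IsReduced R] [Nontrivial R]
    (hidem : ∀ e : R, IsIdempotentElem e → e = 0 ∨ e = 1)
    (a : k →+* B) (ha : ∀ x : B, a.IsIntegralElem x)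
    (φ ψ : B →+* R) (hφψ : φ.comp a = ψ.comp a)
    (ε : R →+* L) (hε : ∀ x, ε (φ x) = ε (ψ x)) (x : B) : φ x = ψ x := by
  letI algB : Algebra k B := a.toAlgebra
  letI algR : Algebra k R := (φ.comp a).toAlgebra
  have hfield := Groth.Agent.Lib.ConnRedFieldH4.isField_integralClosure (k := k) (Γ := R) hidem
  by_contra hne
  have hxint : IsIntegral k x := ha x
  let φa : B →ₐ[k] R := { φ with commutes' := fun r => rfl }
  let ψa : B →ₐ[k] R := { ψ with commutes' := fun r => (RingHom.congr_fun hφψ r).symm }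
  have h1 : IsIntegral k (φ x) := hxint.map φa
  have h2 : IsIntegral k (ψ x) := hxint.map ψa
  have hd : IsIntegral k (φ x - ψ x) := h1.sub h2
  let d : integralClosure k R := ⟨φ x - ψ x, hd⟩
  have hd0 : d ≠ 0 := fun h => hne (sub_eq_zero.mp (congrArg Subtype.val h))
  obtain ⟨d', hd'⟩ := hfield.mul_inv_cancel hd0
  have h3 : (φ x - ψ x) * (d' : R) = 1 := congrArg Subtype.val hd'
  have h4 := congrArg ε h3
  rw [map_mul, map_sub, hε x, sub_self, zero_mul, map_one] at h4
  exact zero_ne_one h4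

set_option maxHeartbeats 6400000 in
theorem main14633 (k : Type u) [Field k]
    (G Z : Over (Spec (CommRingCat.of k))) [GrpObj G] [Smooth G.hom] [QuasiCompact G.hom]
    [ConnectedSpace ↥G.left]
    [LocallyOfFiniteType Z.hom] [QuasiCompact Z.hom] [AlgebraicGeometry.IsReduced Z.left]
    (hdim : topologicalKrullDim ↥Z.left ≤ 0)
    (a : AlgGrp.Action G Z) : a.act = CartesianMonoidalCategory.snd G Z := by
  haveI hsub : Subsingleton ↥(Spec (CommRingCat.of k)) :=
    (inferInstance : Subsingleton (PrimeSpectrum k))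
  -- `Z` is finite, discrete and affine
  haveI : IsLocallyNoetherian Z.left := LocallyOfFiniteType.isLocallyNoetherian Z.hom
  haveI : IsLocallyArtinian Z.left := IsLocallyArtinian.of_topologicalKrullDim_le_zero hdim
  haveI : DiscreteTopology ↥Z.left := inferInstance
  haveI : CompactSpace ↥Z.left := QuasiCompact.compactSpace_of_compactSpace Z.hom
  haveI : Finite ↥Z.left := finite_of_compact_of_discrete
  haveI : IsAffine Z.left := inferInstance
  haveI : IsArtinianRing Γ(Z.left, ⊤) := inferInstance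
  -- `G × Z` is reduced
  haveI : GeometricallyReduced G.hom := geomRed_of_smooth G.hom
  haveI hXred : AlgebraicGeometry.IsReduced (G ⊗ Z).left := isReduced_pullback G.hom Z.hom
  -- the unit section
  obtain ⟨s, hs1, hs2⟩ : ∃ s : Z ⟶ G ⊗ Z, s ≫ a.act = 𝟙 Z ∧ s ≫ snd G Z = 𝟙 Z := by
    refine ⟨lift (toUnit Z ≫ η[G]) (𝟙 Z), ?_, lift_snd _ _⟩
    have e : lift (toUnit Z ≫ η[G]) (𝟙 Z) = lift (toUnit Z) (𝟙 Z) ≫ (η[G] ▷ Z) := by
      rw [lift_whiskerRight]
    rw [e, Category.assoc, a.one_act, leftUnitor_hom, lift_snd]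
  -- integrality of the functions on `Z`
  obtain ⟨a₀, ha₀⟩ : ∃ a₀ : k →+* Γ(Z.left, ⊤),
      a₀ = Z.hom.appTop.hom.comp (Scheme.ΓSpecIso (CommRingCat.of k)).inv.hom := ⟨_, rfl⟩
  have hint : ∀ b : Γ(Z.left, ⊤), a₀.IsIntegralElem b := by
    have hft : Z.hom.appTop.hom.FiniteType :=
      (HasRingHomProperty.iff_of_isAffine (P := @LocallyOfFiniteType)).mp inferInstance
    have hft0 : a₀.FiniteType := by
      rw [ha₀]
      exact hft.comp (RingHom.FiniteType.of_surjective _
        (ConcreteCategory.bijective_of_isIso (Scheme.ΓSpecIso (CommRingCat.of k)).inv).2)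
    letI := a₀.toAlgebra
    haveI : Algebra.FiniteType k Γ(Z.left, ⊤) := hft0
    haveI : Module.Finite k Γ(Z.left, ⊤) := Module.finite_of_isArtinianRing k _
    exact fun b => Algebra.IsIntegral.isIntegral (R := k) b
  -- geometric connectedness of `G`
  obtain ⟨G₀, grp₀, incl, hmon, hcl, hflat, hrange, hirr, -⟩ := exists_idComp k G
  have hrange_univ : Set.range incl.left.base = Set.univ := by
    have h : Set.range incl.left.base =
        connectedComponent (η[G].left.base (IsLocalRing.closedPoint k)) := hrange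
    rw [h]
    exact PreconnectedSpace.connectedComponent_eq_univ _
  -- reduction to functions
  suffices h : ∀ b : Γ(Z.left, ⊤), a.act.left.appTop b = (snd G Z).left.appTop b by
    apply Over.OverMorphism.ext
    apply ext_of_isAffine
    ext b
    exact h b
  intro b
  by_contra hne
  obtain ⟨d, hd⟩ : ∃ d, d = a.act.left.appTop b - (snd G Z).left.appTop b := ⟨_, rfl⟩
  have hd0 : d ≠ 0 := by
    rw [hd]; exact fun h => hne (sub_eq_zero.mp h)
  have hbo : (G ⊗ Z).left.basicOpen d ≠ ⊥ := fun h => hd0 ((basicOpen_eq_bot_iff d).mp h)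
  obtain ⟨x, hx⟩ := (TopologicalSpace.Opens.ne_bot_iff_nonempty _).mp hbo
  obtain ⟨z, hz⟩ : ∃ z : Z.left, z = (snd G Z).left.base x := ⟨_, rfl⟩
  let Uz : Z.left.Opens := ⟨{z}, isOpen_discrete _⟩
  obtain ⟨Xz, hXz⟩ : ∃ Xz : (G ⊗ Z).left.Opens, Xz = (snd G Z).left ⁻¹ᵁ Uz := ⟨_, rfl⟩
  have hmemXz : ∀ w : ↥(G ⊗ Z).left, w ∈ Xz ↔ (snd G Z).left.base w = z := by
    intro w
    rw [hXz]
    exact Iff.rfl
  have hxXz : x ∈ Xz := (hmemXz x).mpr hz.symm
  -- the fibre over `z` is connected
  let y : Spec (CommRingCat.of (Z.left.residueField z)) ⟶ Spec (CommRingCat.of k) :=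
    Z.left.fromSpecResidueField z ≫ Z.hom
  haveI hirrF : IrreducibleSpace ↥(pullback G₀.hom y) :=
    pullback_of_geometrically hirr.geometrically_irreducibleSpace (Z.left.residueField z) y
  have e₁ : G₀.hom ≫ 𝟙 (Spec (CommRingCat.of k)) = incl.left ≫ G.hom := by
    rw [Category.comp_id, Over.w]
  have e₂ : y ≫ 𝟙 (Spec (CommRingCat.of k)) = Z.left.fromSpecResidueField z ≫ Z.hom :=
    Category.comp_id _
  let φz : pullback G₀.hom y ⟶ pullback G.hom Z.hom :=
    pullback.map G₀.hom y G.hom Z.hom incl.left (Z.left.fromSpecResidueField z) (𝟙 _) e₁ e₂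
  have hrφ0 : Set.range φz.base =
      (pullback.fst G.hom Z.hom).base ⁻¹' Set.range incl.left.base ∩
        (pullback.snd G.hom Z.hom).base ⁻¹' Set.range (Z.left.fromSpecResidueField z).base :=
    Scheme.Pullback.range_map (f := G₀.hom) (g := y) G.hom Z.hom incl.left
      (Z.left.fromSpecResidueField z) (𝟙 _) e₁ e₂
  have hrφ : Set.range φz.base = (Xz : Set ↥(G ⊗ Z).left) := by
    refine hrφ0.trans ?_
    ext w
    constructor
    · rintro ⟨-, p, hp⟩
      refine (hmemXz w).mpr ?_
      exact hp.symm.trans (Scheme.fromSpecResidueField_apply z p)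
    · intro hw
      refine ⟨by rw [hrange_univ]; exact Set.mem_univ _, ?_⟩
      obtain ⟨p₀⟩ : Nonempty ↥(Spec (CommRingCat.of (Z.left.residueField z))) :=
        (inferInstance : Nonempty (PrimeSpectrum (Z.left.residueField z)))
      exact ⟨p₀, (Scheme.fromSpecResidueField_apply z p₀).trans ((hmemXz w).mp hw).symm⟩
  have hconn : _root_.IsConnected (Xz : Set ↥(G ⊗ Z).left) := by
    rw [← hrφ]; exact isConnected_range φz.continuous
  haveI : ConnectedSpace ↥((Xz : (G ⊗ Z).left.Opens) : Scheme.{u}) :=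
    isConnected_iff_connectedSpace.mp hconn
  haveI : AlgebraicGeometry.IsReduced ((Xz : (G ⊗ Z).left.Opens) : Scheme.{u}) := inferInstance
  haveI : Nonempty (⊤ : ((Xz : (G ⊗ Z).left.Opens) : Scheme.{u}).Opens) :=
    ⟨⟨⟨x, hxXz⟩, trivial⟩⟩
  haveI : Nontrivial Γ(((Xz : (G ⊗ Z).left.Opens) : Scheme.{u}), ⊤) :=
    Scheme.component_nontrivial _ ⊤
  have hidem := Groth.Agent.Lib.ConnRedFieldH4.idempotent_trivial
    ((Xz : (G ⊗ Z).left.Opens) : Scheme.{u})
  -- the two maps
  obtain ⟨ιz, hιz⟩ : ∃ ιz : ((Xz : (G ⊗ Z).left.Opens) : Scheme.{u}) ⟶ (G ⊗ Z).left,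
      ιz = Xz.ι := ⟨_, rfl⟩
  haveI : IsOpenImmersion ιz := by rw [hιz]; infer_instance
  have hrιz : Set.range ιz.base = (Xz : Set ↥(G ⊗ Z).left) := by
    rw [hιz]; exact Scheme.Opens.range_ι Xz
  have e1 : (ιz ≫ a.act.left) ≫ Z.hom = (ιz ≫ (snd G Z).left) ≫ Z.hom := by
    rw [Category.assoc, Category.assoc, Over.w, Over.w]
  have e2 : (ιz ≫ a.act.left).appTop.hom.comp Z.hom.appTop.hom =
      (ιz ≫ (snd G Z).left).appTop.hom.comp Z.hom.appTop.hom := by
    have := congrArg (fun m : ((Xz : (G ⊗ Z).left.Opens) : Scheme.{u}) ⟶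
      Spec (CommRingCat.of k) => m.appTop.hom) e1
    simpa only [Scheme.Hom.comp_appTop, CommRingCat.hom_comp] using this
  have hφψ : (ιz ≫ a.act.left).appTop.hom.comp a₀ =
      (ιz ≫ (snd G Z).left).appTop.hom.comp a₀ := by
    rw [ha₀, ← RingHom.comp_assoc, ← RingHom.comp_assoc, e2]
  -- the evaluation at the unit point over `z`
  obtain ⟨t', ht'⟩ : ∃ t' : Spec (CommRingCat.of (Z.left.residueField z)) ⟶ (G ⊗ Z).left,
      t' = Z.left.fromSpecResidueField z ≫ s.left := ⟨_, rfl⟩
  have hs2' : s.left ≫ (snd G Z).left = 𝟙 Z.left := by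
    rw [← Over.comp_left, hs2]; rfl
  have hs1' : s.left ≫ a.act.left = 𝟙 Z.left := by
    rw [← Over.comp_left, hs1]; rfl
  have hrt' : Set.range t'.base ⊆ Set.range ιz.base := by
    rintro _ ⟨p, rfl⟩
    rw [hrιz]
    refine (hmemXz _).mpr ?_
    have h1 : (t' ≫ (snd G Z).left).base p = z := by
      rw [ht', Category.assoc, hs2', Category.comp_id]
      exact Scheme.fromSpecResidueField_apply z p
    exact h1
  obtain ⟨t, ht⟩ : ∃ t : Spec (CommRingCat.of (Z.left.residueField z)) ⟶
      ((Xz : (G ⊗ Z).left.Opens) : Scheme.{u}), t ≫ ιz = t' :=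
    ⟨IsOpenImmersion.lift ιz t' hrt', IsOpenImmersion.lift_fac _ _ _⟩
  have e3 : t ≫ (ιz ≫ a.act.left) = t ≫ (ιz ≫ (snd G Z).left) := by
    rw [← Category.assoc, ← Category.assoc, ht, ht', Category.assoc, Category.assoc, hs1', hs2']
  haveI : Nonempty (⊤ : (Spec (CommRingCat.of (Z.left.residueField z))).Opens) := by
    obtain ⟨p₀⟩ : Nonempty ↥(Spec (CommRingCat.of (Z.left.residueField z))) :=
      (inferInstance : Nonempty (PrimeSpectrum (Z.left.residueField z)))
    exact ⟨⟨p₀, trivial⟩⟩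
  haveI : Nontrivial Γ(Spec (CommRingCat.of (Z.left.residueField z)), ⊤) :=
    Scheme.component_nontrivial _ ⊤
  have hε : ∀ b' : Γ(Z.left, ⊤), t.appTop.hom ((ιz ≫ a.act.left).appTop.hom b') =
      t.appTop.hom ((ιz ≫ (snd G Z).left).appTop.hom b') := by
    intro b'
    have := congrArg (fun m : Spec (CommRingCat.of (Z.left.residueField z)) ⟶ Z.left =>
      m.appTop.hom b') e3
    simpa only [Scheme.Hom.comp_appTop, CommRingCat.hom_comp, RingHom.comp_apply] using this
  have key : (ιz ≫ a.act.left).appTop.hom b = (ιz ≫ (snd G Z).left).appTop.hom b :=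
    ringHom_eq_of_section hidem a₀ hint _ _ hφψ t.appTop.hom hε b
  have hdz : ιz.appTop d = 0 := by
    rw [hd, map_sub, sub_eq_zero]
    simpa only [Scheme.Hom.comp_appTop, CommRingCat.hom_comp, RingHom.comp_apply] using key
  -- contradiction
  obtain ⟨x', hx'⟩ : ∃ x' : ↥((Xz : (G ⊗ Z).left.Opens) : Scheme.{u}), ιz.base x' = x := by
    have : x ∈ Set.range ιz.base := by rw [hrιz]; exact hxXz
    exact this
  have hx'' : x' ∈ ιz ⁻¹ᵁ ((G ⊗ Z).left.basicOpen d) := by
    show ιz.base x' ∈ (G ⊗ Z).left.basicOpen d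
    rw [hx']; exact hx
  rw [Scheme.preimage_basicOpen_top, hdz, Scheme.basicOpen_zero] at hx''
  exact hx''

end Groth.Agent.Lib.ActZeroDimH4
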