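import Mathlib
import Groth.Agent.Lib.SchFT_helper8

/-! Krull's principal ideal theorem for zero loci of global sections. -/

universe u
open AlgebraicGeometry CategoryTheory TopologicalSpace

namespace ZeroLocKrullH8

variable {X : Scheme.{u}}

theorem mem_basicOpen_iff {U : X.Opens} (hU : IsAffineOpen U) (g : Γ(X, U)) (z : X) (hz : z ∈ U) :
    z ∈ X.basicOpen g ↔ g ∉ (hU.primeIdealOf ⟨z, hz⟩).asIdeal := by
  have h1 : z = hU.fromSpec (hU.primeIdealOf ⟨z, hz⟩) := (hU.fromSpec_primeIdealOf ⟨z, hz⟩).symm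
  have h2 : z ∈ X.basicOpen g ↔ hU.primeIdealOf ⟨z, hz⟩ ∈ hU.fromSpec ⁻¹ᵁ X.basicOpen g := by
    conv_lhs => rw [h1]
    rfl
  rw [h2, hU.fromSpec_preimage_basicOpen]
  rfl

/-- a maximal point of the zero locus of a section has local ring of dimension `≤ 1`. -/
theorem ringKrullDim_stalk_le_one [IsLocallyNoetherian X] (g : Γ(X, ⊤)) (ξ : X)
    (hξ : ξ ∈ X.zeroLocus ({g} : Set Γ(X, ⊤)))
    (hmax : ∀ a ∈ X.zeroLocus ({g} : Set Γ(X, ⊤)), a ⤳ ξ → a = ξ) :
    ringKrullDim (X.presheaf.stalk ξ) ≤ 1 := by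
  obtain ⟨U, hU, hξU⟩ : ∃ U : X.Opens, IsAffineOpen U ∧ ξ ∈ U := by
    obtain ⟨_, ⟨U, hU, rfl⟩, hxU, -⟩ :=
      X.isBasis_affineOpens.exists_subset_of_mem_open (Set.mem_univ ξ) isOpen_univ
    exact ⟨U, hU, hxU⟩
  haveI : IsNoetherianRing Γ(X, U) := IsLocallyNoetherian.component_noetherian ⟨U, hU⟩
  set g' : Γ(X, U) := X.presheaf.map (homOfLE le_top).op g with hg'
  have hbo : X.basicOpen g' = U ⊓ X.basicOpen g := Scheme.basicOpen_res _ _ _
  have hzl : ∀ z : X, z ∈ U → (z ∈ X.zeroLocus ({g} : Set Γ(X, ⊤)) ↔ z ∉ X.basicOpen g') := by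
    intro z hz
    rw [Scheme.mem_zeroLocus_iff, hbo]
    constructor
    · intro h hc
      exact h g rfl hc.2
    · intro h f hf
      rw [Set.mem_singleton_iff] at hf
      subst hf
      exact fun hc => h ⟨hz, hc⟩
  set p := hU.primeIdealOf ⟨ξ, hξU⟩ with hp
  have hgp : g' ∈ p.asIdeal := by
    by_contra hc
    exact ((hzl ξ hξU).mp hξ) ((mem_basicOpen_iff hU g' ξ hξU).mpr hc)
  have hmin : p.asIdeal ∈ (Ideal.span {g'}).minimalPrimes := by
    refine ⟨⟨p.isPrime, (Ideal.span_singleton_le_iff_mem _).mpr hgp⟩, ?_⟩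
    rintro q ⟨hqprime, hgq⟩ hqp
    let Q : PrimeSpectrum Γ(X, U) := ⟨q, hqprime⟩
    have haU : hU.fromSpec Q ∈ U := by
      have : hU.fromSpec Q ∈ Set.range hU.fromSpec := ⟨Q, rfl⟩
      rw [hU.range_fromSpec] at this
      exact this
    have hQ : hU.primeIdealOf ⟨hU.fromSpec Q, haU⟩ = Q :=
      Groth.Agent.SchFTH8.primeIdealOf_fromSpec hU Q haU
    have hsp : hU.fromSpec Q ⤳ ξ := by
      rw [Groth.Agent.SchFTH8.specializes_iff_primeIdealOf_le hU _ _ haU hξU, hQ]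
      exact hqp
    have hzero : hU.fromSpec Q ∈ X.zeroLocus ({g} : Set Γ(X, ⊤)) := by
      rw [hzl _ haU, mem_basicOpen_iff hU g' _ haU, hQ, not_not]
      exact (Ideal.span_singleton_le_iff_mem _).mp hgq
    have heq := hmax _ hzero hsp
    have : Q = p := by
      rw [← hQ, hp]
      congr 1
      exact Subtype.ext heq
    rw [← this]
  have hht := Ideal.height_le_one_of_isPrincipal_of_mem_minimalPrimes (Ideal.span {g'}) p.asIdeal hmin
  rw [Groth.Agent.SchFTH8.ringKrullDim_stalk_eq_height hU ξ hξU]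
  exact_mod_cast hht

end ZeroLocKrullH8
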