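import Mathlib
import Groth.Agent.Lib.ZeroLocKrull_helper8

/-!
# Krull's height theorem for finitely many global sections
-/

set_option autoImplicit false

universe u

namespace Groth.Agent.Lib.AffDimH8

open AlgebraicGeometry CategoryTheory Limits

variable {X : Scheme.{u}}

/-- a maximal point of the zero locus of a finite set `s` of sections has local ring of
dimension at most `#s`. -/
theorem ringKrullDim_stalk_le_ncard [IsLocallyNoetherian X] (s : Set Γ(X, ⊤)) (hs : s.Finite) (ξ : X)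
    (hξ : ξ ∈ X.zeroLocus s)
    (hmax : ∀ a ∈ X.zeroLocus s, a ⤳ ξ → a = ξ) :
    ringKrullDim (X.presheaf.stalk ξ) ≤ (s.ncard : WithBot ℕ∞) := by
  classical
  obtain ⟨U, hU, hξU⟩ : ∃ U : X.Opens, IsAffineOpen U ∧ ξ ∈ U := by
    obtain ⟨_, ⟨U, hU, rfl⟩, hxU, -⟩ :=
      X.isBasis_affineOpens.exists_subset_of_mem_open (Set.mem_univ ξ) isOpen_univ
    exact ⟨U, hU, hxU⟩
  haveI : IsNoetherianRing Γ(X, U) := IsLocallyNoetherian.component_noetherian ⟨U, hU⟩
  let ρ : Γ(X, ⊤) → Γ(X, U) := fun g => X.presheaf.map (homOfLE le_top).op g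
  have hzl : ∀ z : X, ∀ hz : z ∈ U, (z ∈ X.zeroLocus s ↔
      ∀ g ∈ s, ρ g ∈ (hU.primeIdealOf ⟨z, hz⟩).asIdeal) := by
    intro z hz
    rw [Scheme.mem_zeroLocus_iff]
    refine forall₂_congr fun g _ => ?_
    have hbo : X.basicOpen (ρ g) = U ⊓ X.basicOpen g := Scheme.basicOpen_res _ _ _
    have h1 := ZeroLocKrullH8.mem_basicOpen_iff hU (ρ g) z hz
    rw [hbo] at h1
    constructor
    · intro h
      by_contra hc
      exact h (h1.mpr hc).2
    · intro h hc
      exact (h1.mp ⟨hz, hc⟩) h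
  set p := hU.primeIdealOf ⟨ξ, hξU⟩ with hp
  have hsub : Ideal.span (ρ '' s) ≤ p.asIdeal := by
    rw [Ideal.span_le]
    rintro _ ⟨g, hg, rfl⟩
    exact (hzl ξ hξU).mp hξ g hg
  have hmin : p.asIdeal ∈ (Ideal.span (ρ '' s)).minimalPrimes := by
    refine ⟨⟨p.isPrime, hsub⟩, ?_⟩
    rintro q ⟨hqprime, hgq⟩ hqp
    let Q : PrimeSpectrum Γ(X, U) := ⟨q, hqprime⟩
    have haU : hU.fromSpec Q ∈ U := by
      have : hU.fromSpec Q ∈ Set.range hU.fromSpec := ⟨Q, rfl⟩
      rw [hU.range_fromSpec] at this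
      exact this
    have hQ : hU.primeIdealOf ⟨hU.fromSpec Q, haU⟩ = Q :=
      Groth.Agent.SchFTH8.primeIdealOf_fromSpec hU Q haU
    have hsp : hU.fromSpec Q ⤳ ξ := by
      rw [Groth.Agent.SchFTH8.specializes_iff_primeIdealOf_le hU _ _ haU hξU, hQ]
      exact hqp
    have hzero : hU.fromSpec Q ∈ X.zeroLocus s := by
      rw [hzl _ haU, hQ]
      intro g hg
      exact hgq (Ideal.subset_span ⟨g, hg, rfl⟩)
    have heq := hmax _ hzero hsp
    have : Q = p := by
      rw [← hQ, hp]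
      congr 1
      exact Subtype.ext heq
    rw [← this]
  have hht := Ideal.height_le_card_of_mem_minimalPrimes_span (hs.image ρ) hmin
  rw [Groth.Agent.SchFTH8.ringKrullDim_stalk_eq_height hU ξ hξU]
  have h2 : (ρ '' s).ncard ≤ s.ncard := Set.ncard_image_le hs
  have h3 : p.asIdeal.height ≤ (s.ncard : ℕ∞) := hht.trans (by exact_mod_cast h2)
  exact_mod_cast h3

end Groth.Agent.Lib.AffDimH8
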