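import Mathlib

/-!
# Fibre products over affine space as zero loci in the product
-/

set_option autoImplicit false

universe u

namespace Groth.Agent.Lib.AffDimH8

open AlgebraicGeometry CategoryTheory Limits

variable {S : Scheme.{u}} {ι : Type u} {X' Y' : Scheme.{u}}
  (iX : X' ⟶ 𝔸(ι; S)) (iY : Y' ⟶ 𝔸(ι; S))

/-- the product over the base. -/
noncomputable abbrev Prod : Scheme.{u} := pullback (iX ≫ 𝔸(ι; S) ↘ S) (iY ≫ 𝔸(ι; S) ↘ S)

/-- the canonical map from the fibre product over affine space to the product over the base. -/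
noncomputable def jmap : pullback iX iY ⟶ Prod iX iY :=
  pullback.map iX iY (iX ≫ 𝔸(ι; S) ↘ S) (iY ≫ 𝔸(ι; S) ↘ S) (𝟙 _) (𝟙 _) (𝔸(ι; S) ↘ S)
    (Category.id_comp _).symm (Category.id_comp _).symm

@[reassoc (attr := simp)]
lemma jmap_fst : jmap iX iY ≫ pullback.fst _ _ = pullback.fst iX iY := by
  unfold jmap
  rw [pullback.lift_fst, Category.comp_id]

@[reassoc (attr := simp)]
lemma jmap_snd : jmap iX iY ≫ pullback.snd _ _ = pullback.snd iX iY := by
  unfold jmap
  rw [pullback.lift_snd, Category.comp_id]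

instance : IsClosedImmersion (jmap iX iY) := by
  have h := pullback_map_diagonal_isPullback iX iY (𝔸(ι; S) ↘ S)
  unfold jmap
  exact MorphismProperty.of_isPullback (P := @IsClosedImmersion) h inferInstance

/-- the difference of coordinates. -/
noncomputable def hfun (i : ι) : Γ(Prod iX iY, ⊤) :=
  (pullback.fst (iX ≫ 𝔸(ι; S) ↘ S) (iY ≫ 𝔸(ι; S) ↘ S) ≫ iX).appTop (AffineSpace.coord S i) -
    (pullback.snd (iX ≫ 𝔸(ι; S) ↘ S) (iY ≫ 𝔸(ι; S) ↘ S) ≫ iY).appTop (AffineSpace.coord S i)

lemma jmap_appTop_hfun (i : ι) : (jmap iX iY).appTop (hfun iX iY i) = 0 := by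
  unfold hfun
  rw [map_sub, sub_eq_zero]
  have h1 : ∀ (g : Prod iX iY ⟶ 𝔸(ι; S)) (c : Γ(𝔸(ι; S), ⊤)),
      (jmap iX iY).appTop (g.appTop c) = (jmap iX iY ≫ g).appTop c := fun g c => rfl
  rw [h1, h1, jmap_fst_assoc, jmap_snd_assoc, pullback.condition]

theorem range_jmap : Set.range (jmap iX iY) = (Prod iX iY).zeroLocus (U := ⊤) (Set.range (hfun iX iY)) := by
  apply Set.Subset.antisymm
  · rintro _ ⟨w, rfl⟩
    rw [Scheme.mem_zeroLocus_iff]
    rintro _ ⟨i, rfl⟩ hc
    have h1 : w ∈ (jmap iX iY) ⁻¹ᵁ (Prod iX iY).basicOpen (hfun iX iY i) := hc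
    rw [Scheme.preimage_basicOpen_top, jmap_appTop_hfun, Scheme.basicOpen_zero] at h1
    exact h1
  · intro z hz
    rw [Scheme.mem_zeroLocus_iff] at hz
    let pt := (Prod iX iY).fromSpecResidueField z
    have hpt : ∀ i, pt.appTop (hfun iX iY i) = 0 := by
      intro i
      have h1 : pt ⁻¹ᵁ (Prod iX iY).basicOpen (hfun iX iY i) = ⊥ := by
        ext a
        simp only [TopologicalSpace.Opens.coe_bot, Set.mem_empty_iff_false, iff_false]
        intro ha
        have h2 : pt a ∈ (Prod iX iY).basicOpen (hfun iX iY i) := ha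
        rw [Scheme.fromSpecResidueField_apply] at h2
        exact hz _ ⟨i, rfl⟩ h2
      rw [Scheme.preimage_basicOpen_top] at h1
      exact (basicOpen_eq_bot_iff _).mp h1
    have heq : pt ≫ pullback.fst _ _ ≫ iX = pt ≫ pullback.snd _ _ ≫ iY := by
      apply AffineSpace.hom_ext
      · simp only [Category.assoc]
        rw [pullback.condition]
      · intro i
        have h2 := hpt i
        unfold hfun at h2
        rw [map_sub, sub_eq_zero] at h2
        exact h2
    let c : Spec ((Prod iX iY).residueField z) ⟶ pullback iX iY :=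
      pullback.lift (pt ≫ pullback.fst _ _) (pt ≫ pullback.snd _ _) (by simpa using heq)
    have hc : c ≫ jmap iX iY = pt := by
      apply pullback.hom_ext
      · rw [Category.assoc, jmap_fst, pullback.lift_fst]
      · rw [Category.assoc, jmap_snd, pullback.lift_snd]
    let a : Spec ((Prod iX iY).residueField z) := default
    refine ⟨c a, ?_⟩
    rw [← Scheme.Hom.comp_apply, hc, Scheme.fromSpecResidueField_apply]

end Groth.Agent.Lib.AffDimH8
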