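import Mathlib
import Groth.Agent.Lib.LocDimProd2_helper8

/-!
# Topological lemmas on closed subsets of schemes: heights and generic points
-/

set_option autoImplicit false

universe u

namespace Groth.Agent.Lib.AffDimH8

open AlgebraicGeometry CategoryTheory Limits

/-- closed embeddings preserve the dimension of the closure of a point. -/
theorem height_eq_of_isClosedEmbedding {A B : Scheme.{u}} (f : A ⟶ B)
    (hf : Topology.IsClosedEmbedding f) (a : A) :
    Order.height (f a) = Order.height a := by
  have h1 := Groth.Agent.ClosHtH8.topologicalKrullDim_closure_singleton B (f a)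
  have h2 := Groth.Agent.ClosHtH8.topologicalKrullDim_closure_singleton A a
  have h3 : closure ({f a} : Set B) = f '' closure ({a} : Set A) := by
    rw [← hf.closure_image_eq, Set.image_singleton]
  have h4 : topologicalKrullDim ↥(closure ({a} : Set A)) =
      topologicalKrullDim ↥(f '' closure ({a} : Set A)) :=
    IsHomeomorph.topologicalKrullDim_eq _
      (hf.isEmbedding.homeomorphImage (closure ({a} : Set A))).isHomeomorph
  rw [h3, ← h4, h2] at h1
  have h5 : (Order.height a : WithBot ℕ∞) = (Order.height (f a) : WithBot ℕ∞) := h1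
  exact (WithBot.coe_injective h5).symm

variable {T : Scheme.{u}}

/-- dimension of the closure of a point in a closed subset. -/
theorem dim_closure_subtype (C : Set T) (hC : IsClosed C) (c : ↥C) :
    topologicalKrullDim ↥(closure ({c} : Set ↥C)) = Order.height (c.1 : T) := by
  have hemb : Topology.IsClosedEmbedding (Subtype.val : ↥C → T) := hC.isClosedEmbedding_subtypeVal
  have h3 : closure ({c.1} : Set T) = Subtype.val '' closure ({c} : Set ↥C) := by
    rw [← hemb.closure_image_eq, Set.image_singleton]
  have h4 : topologicalKrullDim ↥(closure ({c} : Set ↥C)) =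
      topologicalKrullDim ↥(Subtype.val '' closure ({c} : Set ↥C)) :=
    IsHomeomorph.topologicalKrullDim_eq _
      (hemb.isEmbedding.homeomorphImage (closure ({c} : Set ↥C))).isHomeomorph
  rw [h4, ← h3]
  exact Groth.Agent.ClosHtH8.topologicalKrullDim_closure_singleton T c.1

/-- irreducible components of a closed subset are closures of maximal points. -/
theorem exists_generic (C : Set T) (hC : IsClosed C) (Z : Set ↥C)
    (hZ : Z ∈ irreducibleComponents ↥C) :
    ∃ c : ↥C, Z = closure ({c} : Set ↥C) ∧ ∀ a ∈ C, a ⤳ c.1 → a = c.1 := by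
  have hemb : Topology.IsClosedEmbedding (Subtype.val : ↥C → T) := hC.isClosedEmbedding_subtypeVal
  haveI : QuasiSober ↥C := hemb.quasiSober
  obtain ⟨c, hc⟩ := QuasiSober.sober hZ.1 (isClosed_of_mem_irreducibleComponents Z hZ)
  refine ⟨c, hc.def.symm, ?_⟩
  have hmem : closure ({c} : Set ↥C) ∈ irreducibleComponents ↥C := by rw [hc.def]; exact hZ
  have hmax := (Groth.Agent.SchFTH8.closure_mem_irreducibleComponents_iff c).mp hmem
  intro a ha hsp
  have h1 : (⟨a, ha⟩ : ↥C) ⤳ c :=
    (Topology.IsInducing.subtypeVal.specializes_iff (x := (⟨a, ha⟩ : ↥C)) (y := c)).mp hsp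
  exact congrArg Subtype.val (hmax _ h1)

/-- the closure of a maximal point of a closed subset is an irreducible component. -/
theorem closure_mem_irreducibleComponents (C : Set T) (hC : IsClosed C) (c : ↥C)
    (hmax : ∀ a ∈ C, a ⤳ c.1 → a = c.1) :
    closure ({c} : Set ↥C) ∈ irreducibleComponents ↥C := by
  have hemb : Topology.IsClosedEmbedding (Subtype.val : ↥C → T) := hC.isClosedEmbedding_subtypeVal
  haveI : QuasiSober ↥C := hemb.quasiSober
  refine (Groth.Agent.SchFTH8.closure_mem_irreducibleComponents_iff c).mpr ?_
  intro z hz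
  have h1 : z.1 ⤳ c.1 :=
    (Topology.IsInducing.subtypeVal.specializes_iff (x := z) (y := c)).mpr hz
  exact Subtype.ext (hmax z.1 z.2 h1)

end Groth.Agent.Lib.AffDimH8
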