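import Mathlib
import Groth.Agent.Lib.AffDim1_helper8
import Groth.Agent.Lib.AffDim2_helper8
import Groth.Agent.Lib.AffDim3_helper8

/-!
# The affine dimension theorem
-/

set_option autoImplicit false

universe u

namespace Groth.Agent.Lib.AffDimH8

open AlgebraicGeometry CategoryTheory Limits

/-- local dimension of an equidimensional closed subset. -/
theorem localDim_of_closedImmersion (k : Type u) [Field k] (T : Scheme.{u})
    (π : T ⟶ Spec (CommRingCat.of k)) [LocallyOfFiniteType π] (X : Set T) (hX : IsClosed X) (r : ℕ)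
    (hXr : ∀ Z ∈ irreducibleComponents ↥X, topologicalKrullDim ↥Z = r) {X' : Scheme.{u}}
    (iX : X' ⟶ T) [IsClosedImmersion iX] (hr : Set.range iX = X) (x' : X') :
    FlatMor.localDim ↥X' x' = r := by
  letI ov : X'.Over (Spec (CommRingCat.of k)) := ⟨iX ≫ π⟩
  haveI : LocallyOfFiniteType (X' ↘ Spec (CommRingCat.of k)) :=
    inferInstanceAs (LocallyOfFiniteType (iX ≫ π))
  obtain ⟨ξ, hsp, hmax, hht⟩ := LocDimProdH8.exists_max_height_eq k X' x'
  rw [LocDimProdH8.localDim_eq k X' x', ← hht]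
  have hemb : Topology.IsClosedEmbedding iX := iX.isClosedEmbedding
  have htX : iX ξ ∈ X := hr ▸ Set.mem_range_self ξ
  let c : ↥X := ⟨iX ξ, htX⟩
  have hcmax : ∀ a ∈ X, a ⤳ c.1 → a = c.1 := by
    intro a ha hsp'
    obtain ⟨a', rfl⟩ : a ∈ Set.range iX := hr ▸ ha
    have h1 : a' ⤳ ξ := hemb.isInducing.specializes_iff.mp hsp'
    rw [hmax a' h1]
  have h1 := hXr _ (closure_mem_irreducibleComponents X hX c hcmax)
  rw [dim_closure_subtype X hX c] at h1
  have h2 : Order.height (c.1 : T) = Order.height ξ := height_eq_of_isClosedEmbedding iX hemb ξ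
  rw [h2] at h1
  exact h1

set_option maxHeartbeats 1000000 in
theorem main (k : Type u) [Field k] (n r s : ℕ)
    (X Y : Set ↥(𝔸(ULift.{u} (Fin n); Spec (CommRingCat.of k)))) (hX : IsClosed X) (hY : IsClosed Y)
    (hXr : ∀ Z ∈ irreducibleComponents X, topologicalKrullDim Z = r)
    (hYs : ∀ Z ∈ irreducibleComponents Y, topologicalKrullDim Z = s)
    (Z : Set ↥(X ∩ Y)) (hZ : Z ∈ irreducibleComponents ↥(X ∩ Y)) :
    ((r + s : ℕ) : WithBot ℕ∞) ≤ topologicalKrullDim Z + (n : WithBot ℕ∞) := by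
  classical
  obtain ⟨X', iX, hiX, hrX⟩ := ProdGenH8.exists_closedImmersion_range _ X hX
  obtain ⟨Y', iY, hiY, hrY⟩ := ProdGenH8.exists_closedImmersion_range _ Y hY
  haveI := hiX
  haveI := hiY
  have hC : IsClosed (X ∩ Y) := hX.inter hY
  obtain ⟨c, hZc, hcmax⟩ := exists_generic (X ∩ Y) hC Z hZ
  have hdimZ : topologicalKrullDim ↥Z = Order.height (c.1 : ↥(𝔸(ULift.{u} (Fin n); Spec (CommRingCat.of k)))) := by
    rw [hZc]; exact dim_closure_subtype (X ∩ Y) hC c
  obtain ⟨x, hx⟩ : c.1 ∈ Set.range iX := hrX ▸ c.2.1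
  obtain ⟨y, hy⟩ : c.1 ∈ Set.range iY := hrY ▸ c.2.2
  obtain ⟨ζ, hζ1, hζ2⟩ := Scheme.Pullback.exists_preimage_pullback (f := iX) (g := iY) x y
    (hx.trans hy.symm)
  set z := jmap iX iY ζ with hz
  set π := 𝔸(ULift.{u} (Fin n); Spec (CommRingCat.of k)) ↘ Spec (CommRingCat.of k) with hπ
  -- heights
  have hjemb : Topology.IsClosedEmbedding (jmap iX iY) := (jmap iX iY).isClosedEmbedding
  have hwemb : Topology.IsClosedEmbedding (pullback.fst iX iY ≫ iX) :=
    (pullback.fst iX iY ≫ iX).isClosedEmbedding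
  have h1 : Order.height z = Order.height ζ := height_eq_of_isClosedEmbedding _ hjemb ζ
  have hwζ : (pullback.fst iX iY ≫ iX) ζ = c.1 := by
    rw [Scheme.Hom.comp_apply, hζ1, hx]
  have h2 : Order.height (c.1 : ↥(𝔸(ULift.{u} (Fin n); Spec (CommRingCat.of k)))) = Order.height ζ := by
    rw [← hwζ]; exact height_eq_of_isClosedEmbedding _ hwemb ζ
  -- maximality
  have hzmax : ∀ b ∈ (Prod iX iY).zeroLocus (U := ⊤) (Set.range (hfun iX iY)), b ⤳ z → b = z := by
    intro b hb hsp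
    rw [← range_jmap] at hb
    obtain ⟨β, rfl⟩ := hb
    have h3 : β ⤳ ζ := hjemb.isInducing.specializes_iff.mp hsp
    have h4 : (pullback.fst iX iY ≫ iX) β ⤳ c.1 := by
      rw [← hwζ]; exact h3.map (pullback.fst iX iY ≫ iX).continuous
    have h5 : (pullback.fst iX iY ≫ iX) β ∈ X ∩ Y := by
      refine ⟨?_, ?_⟩
      · rw [← hrX, Scheme.Hom.comp_apply]; exact Set.mem_range_self _
      · rw [← hrY, pullback.condition, Scheme.Hom.comp_apply]; exact Set.mem_range_self _
    have h6 := hcmax _ h5 h4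
    rw [← hwζ] at h6
    rw [hwemb.injective h6]
  have hzmem : z ∈ (Prod iX iY).zeroLocus (U := ⊤) (Set.range (hfun iX iY)) := by
    rw [← range_jmap]; exact Set.mem_range_self ζ
  -- Krull
  haveI : LocallyOfFiniteType (iX ≫ π) := inferInstance
  haveI : LocallyOfFiniteType (iY ≫ π) := inferInstance
  haveI : LocallyOfFiniteType (pullback.fst (iX ≫ π) (iY ≫ π)) :=
    MorphismProperty.pullback_fst _ _ inferInstance
  haveI : IsLocallyNoetherian (Prod iX iY) :=
    LocallyOfFiniteType.isLocallyNoetherian (pullback.fst (iX ≫ π) (iY ≫ π) ≫ iX ≫ π)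
  have hK := ringKrullDim_stalk_le_ncard (Set.range (hfun iX iY)) (Set.finite_range _) z hzmem hzmax
  have hcard : (Set.range (hfun iX iY)).ncard ≤ n := by
    have := Set.ncard_image_le (f := hfun iX iY) (s := Set.univ) Set.finite_univ
    rw [Set.image_univ, Set.ncard_univ] at this
    simpa using this
  rw [AlgebraicGeometry.ringKrullDim_stalk_eq_coheight] at hK
  -- local dimension
  have hloc := LocDimProdH8.localDim_pullback k (iX ≫ π) (iY ≫ π) z
  rw [localDim_of_closedImmersion k _ π X hX r hXr iX hrX,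
    localDim_of_closedImmersion k _ π Y hY s hYs iY hrY] at hloc
  letI ovP : (Prod iX iY).Over (Spec (CommRingCat.of k)) :=
    ⟨pullback.fst (iX ≫ π) (iY ≫ π) ≫ iX ≫ π⟩
  haveI : LocallyOfFiniteType ((Prod iX iY) ↘ Spec (CommRingCat.of k)) :=
    inferInstanceAs (LocallyOfFiniteType (pullback.fst (iX ≫ π) (iY ≫ π) ≫ iX ≫ π))
  rw [LocDimProdH8.localDim_eq k (Prod iX iY) z] at hloc
  rw [hdimZ, h2, ← h1]
  have h7 : ((Order.coheight z : ℕ∞) : WithBot ℕ∞) ≤ (n : WithBot ℕ∞) :=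
    hK.trans (by exact_mod_cast hcard)
  have h8 : ((r + s : ℕ) : WithBot ℕ∞) = ((Order.coheight z + Order.height z : ℕ∞) : WithBot ℕ∞) := by
    rw [hloc]; push_cast; rfl
  rw [h8, WithBot.coe_add, add_comm]
  exact add_le_add le_rfl h7

end Groth.Agent.Lib.AffDimH8
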