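import Mathlib
import Groth.Agent.S1621
import Groth.Agent.Lib.FibRes_helper8
import Groth.Agent.Lib.FibRes2_helper8
import Groth.Agent.Lib.FlatFibDim_helper8
import Groth.Agent.Lib.ResQuot2_helper8

universe u
open AlgebraicGeometry CategoryTheory

namespace RelDimLocH8

variable {X Y : Scheme.{u}} (f : X ⟶ Y)

/-- For a general point `z` of a fibre: its height and the transcendence degree of its residue
field over `κ(y)` coincide (and are finite). -/
theorem exists_trdeg_height [LocallyOfFiniteType f] (y : Y) (z : f.fiber y) :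
    letI : (f.fiber y).Over (Spec (CommRingCat.of (Y.residueField y))) :=
      ⟨f.fiberToSpecResidueField y⟩
    ∃ n : ℕ, @Algebra.trdeg (Y.residueField y) ((f.fiber y).residueField z) _ _
      (Curv2.resAlgebra (Y.residueField y) (f.fiber y) z) = n ∧ Order.height z = n := by
  have h : f ((f.fiberι y) z) = y := Groth.Agent.FibRes2H8.fiberι_mem f y z
  generalize hx' : (f.fiberι y) z = x' at h
  subst h
  have hz : z = f.asFiber x' := by
    apply (f.fiberι (f x')).isEmbedding.injective
    rw [hx', Scheme.Hom.fiberι_asFiber]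
  subst hz
  obtain ⟨n, hn, hh⟩ := Groth.Agent.FibRes2H8.height_asFiber f x'
  refine ⟨n, ?_, hh⟩
  rw [← hn]
  exact Groth.Agent.FibResH8.trdeg_asFiber f x'

end RelDimLocH8
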