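import Mathlib
import Groth.Agent.Lib.RelDim1_helper8
import Groth.Agent.Lib.DimGenFib_helper8
import Groth.Agent.Lib.FibChain_helper8

universe u
open AlgebraicGeometry CategoryTheory

namespace RelDimLocH8

variable {X Y : Scheme.{u}} (f : X ⟶ Y)

theorem topDim_fiber_eq [LocallyOfFiniteType f] (y : Y) (d : ℕ)
    (hF : ∀ T ∈ irreducibleComponents ↥(f.fiber y), topologicalKrullDim T = d) (z : f.fiber y) :
    topologicalKrullDim ↥(f.fiber y) = d := by
  haveI : Nonempty ↥(f.fiber y) := ⟨z⟩
  exact Groth.Agent.FlatFibDimH8.topDim_eq_of_irreducibleComponents (f.fiber y) d hF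

/-- The local dimension of an equidimensional fibre is constant. -/
theorem localDim_fiber_eq [LocallyOfFiniteType f] (y : Y) (d : ℕ)
    (hF : ∀ T ∈ irreducibleComponents ↥(f.fiber y), topologicalKrullDim T = d) (z : f.fiber y) :
    FlatMor.localDim ↥(f.fiber y) z = d := by
  letI ov : (f.fiber y).Over (Spec (CommRingCat.of (Y.residueField y))) :=
    ⟨f.fiberToSpecResidueField y⟩
  haveI : LocallyOfFiniteType ((f.fiber y) ↘ Spec (CommRingCat.of (Y.residueField y))) :=
    Groth.Agent.FibRes2H8.lft_fiber f y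
  apply le_antisymm
  · unfold FlatMor.localDim
    refine (iInf_le _ ⟨⊤, trivial⟩).trans ?_
    refine (topologicalKrullDim_subspace_le _ _).trans ?_
    exact le_of_eq (topDim_fiber_eq f y d hF z)
  · unfold FlatMor.localDim
    refine le_iInf fun U => ?_
    obtain ⟨ζ, hTeq, hmax, hdim⟩ :=
      Groth.Agent.FlatFibDimH8.exists_generic_of_mem_irreducibleComponents (f.fiber y)
        (irreducibleComponent z) (irreducibleComponent_mem_irreducibleComponents z)
    have hd : ((Order.height ζ : ℕ∞) : WithBot ℕ∞) = d := by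
      rw [← hdim]
      exact hF _ (irreducibleComponent_mem_irreducibleComponents z)
    have hζz : ζ ⤳ z := by
      rw [specializes_iff_mem_closure, ← hTeq]
      exact mem_irreducibleComponent
    have hζU : ζ ∈ U.1 := hζz.mem_open U.1.2 U.2
    obtain ⟨n, hn, hh⟩ := exists_trdeg_height f y ζ
    have hnd : n = d := by
      rw [hh] at hd
      exact_mod_cast hd
    subst hnd
    have hb : ringKrullDim ((f.fiber y).presheaf.stalk ζ) = ((0 : ℕ) : WithBot ℕ∞) := by
      rw [AlgebraicGeometry.ringKrullDim_stalk_eq_coheight, Order.coheight_eq_zero.mpr hmax]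
      rfl
    have h1 := Groth.Agent.S1621.result (Y.residueField y) (f.fiber y) ζ n 0 hn hb
    have h2 : FlatMor.localDim ↥(f.fiber y) ζ ≤ topologicalKrullDim ↥(U.1 : Set ↥(f.fiber y)) := by
      unfold FlatMor.localDim
      exact iInf_le (fun U : {U : TopologicalSpace.Opens ↥(f.fiber y) // ζ ∈ U} =>
        topologicalKrullDim ↥(U.1 : Set ↥(f.fiber y))) ⟨U.1, hζU⟩
    rw [h1] at h2
    simpa using h2

/-- The local ring of an equidimensional fibre at a closed point has dimension `d`. -/
theorem stalk_dim_fiber_closed [LocallyOfFiniteType f] (y : Y) (d : ℕ)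
    (hF : ∀ T ∈ irreducibleComponents ↥(f.fiber y), topologicalKrullDim T = d) (z : f.fiber y)
    (hz : IsClosed ({z} : Set ↥(f.fiber y))) :
    ringKrullDim ((f.fiber y).presheaf.stalk z) = d := by
  letI ov : (f.fiber y).Over (Spec (CommRingCat.of (Y.residueField y))) :=
    ⟨f.fiberToSpecResidueField y⟩
  haveI : LocallyOfFiniteType ((f.fiber y) ↘ Spec (CommRingCat.of (Y.residueField y))) :=
    Groth.Agent.FibRes2H8.lft_fiber f y
  haveI := Groth.Agent.FibChainH8.isLocallyNoetherian_fiber f y
  obtain ⟨n, hn, hh⟩ := exists_trdeg_height f y z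
  have hmin : IsMin z := by
    intro w hw
    have h1 : z ⤳ w := hw
    have h2 : w ∈ closure ({z} : Set ↥(f.fiber y)) := h1.mem_closure
    rw [hz.closure_eq, Set.mem_singleton_iff] at h2
    rw [h2]
  rw [Order.height_eq_zero.mpr hmin] at hh
  have hn0 : n = 0 := by exact_mod_cast hh.symm
  subst hn0
  have hne : ringKrullDim ((f.fiber y).presheaf.stalk z) ≠ ⊤ := ringKrullDim_ne_top
  have hnb : ringKrullDim ((f.fiber y).presheaf.stalk z) ≠ ⊥ := by
    intro h
    have := ringKrullDim_nonneg_of_nontrivial (R := (f.fiber y).presheaf.stalk z)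
    rw [h] at this
    exact absurd this (by simp)
  obtain ⟨a, ha⟩ := WithBot.ne_bot_iff_exists.mp hnb
  have hatop : a ≠ ⊤ := by
    intro h; apply hne; rw [← ha, h]; rfl
  obtain ⟨b, hb⟩ := ENat.ne_top_iff_exists.mp hatop
  have hb' : ringKrullDim ((f.fiber y).presheaf.stalk z) = ((b : ℕ) : WithBot ℕ∞) := by
    rw [← ha, ← hb]; rfl
  have h1 := Groth.Agent.S1621.result (Y.residueField y) (f.fiber y) z 0 b hn hb'
  rw [localDim_fiber_eq f y d hF z] at h1
  rw [hb']
  have : (d : ℕ) = 0 + b := by exact_mod_cast h1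
  rw [this, zero_add]

theorem stalk_dim_fiber_le [LocallyOfFiniteType f] (y : Y) (d : ℕ)
    (hF : ∀ T ∈ irreducibleComponents ↥(f.fiber y), topologicalKrullDim T = d) (z : f.fiber y) :
    ringKrullDim ((f.fiber y).presheaf.stalk z) ≤ d := by
  rw [← topDim_fiber_eq f y d hF z]
  exact Groth.Agent.DimGenFibH8.stalk_dim_le_topDim (f.fiber y) z

end RelDimLocH8
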