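import Mathlib
import Groth.Prelude.Def_Flat
import Groth.Agent.Lib.Chev4_helper8
import Groth.Agent.Lib.TopDimLoc_helper8
import Groth.Agent.Lib.FieldExt3_helper8
import Groth.Agent.Lib.RelDim2Old_helper8
import Groth.Agent.Lib.CodimZero_helper8

/-! The dimension of the generic fibre of a dominant morphism of irreducible schemes. -/

universe u
open AlgebraicGeometry CategoryTheory CategoryTheory.Limits

namespace GenFibDimH8

variable {X Y : Scheme.{u}} [IrreducibleSpace X] [IrreducibleSpace Y] (f : X ⟶ Y)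

theorem map_genericPoint [IsDominant f] : f (genericPoint X) = genericPoint Y := by
  have h1 : IsGenericPoint (f (genericPoint X)) (closure (f '' Set.univ)) :=
    (genericPoint_spec X).image f.continuous
  rw [Set.image_univ, f.denseRange.closure_range] at h1
  exact h1.eq (genericPoint_spec Y)

theorem coheight_genericPoint (Z : Scheme.{u}) [IrreducibleSpace Z] :
    Order.coheight (genericPoint Z) = 0 := by
  rw [Order.coheight_eq_zero]
  intro z _
  exact genericPoint_specializes z

/-- The generic fibre is equidimensional of finite dimension `n0`, the relative dimension at the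
generic point. -/
theorem exists_nat [LocallyOfFiniteType f] [IsDominant f] :
    ∃ n0 : ℕ, topologicalKrullDim ↥(f.fiber (genericPoint Y)) = n0 ∧
      FlatMor.fibreDimAt f (genericPoint X) = n0 ∧
      Dual3.resTrdeg f (genericPoint X) = n0 := by
  set ξ := genericPoint X with hξ
  set η := genericPoint Y with hη
  have hfξ : f ξ = η := map_genericPoint f
  set z0 : f.fiber η := (f.fiberHomeo η).symm ⟨ξ, hfξ⟩ with hz0def
  have hz0 : f.fiberι η z0 = ξ := f.fiberι_fiberHomeo_symm _ _
  obtain ⟨n0, hn0, hh0⟩ := RelDimLocH8.exists_trdeg_height f η z0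
  have hF : ∀ T ∈ irreducibleComponents ↥(f.fiber η), topologicalKrullDim T = n0 := by
    intro T hT
    obtain ⟨ζ, hTeq, hmax, hdim⟩ :=
      Groth.Agent.FlatFibDimH8.exists_generic_of_mem_irreducibleComponents (f.fiber η) T hT
    have hζ : ζ = z0 := by
      have h1 : z0 ⤳ ζ := by
        rw [← (f.fiberι η).isEmbedding.isInducing.specializes_iff, hz0]
        exact genericPoint_specializes _
      have h1' : ζ ≤ z0 := h1
      have h2 : ζ ⤳ z0 := hmax h1'
      exact (h2.antisymm h1).eq
    rw [hdim, hζ, hh0]; rfl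
  have hdimη : topologicalKrullDim ↥(f.fiber η) = n0 := RelDimLocH8.topDim_fiber_eq f η n0 hF z0
  have hloc : FlatMor.localDim ↥(f.fiber η) z0 = n0 := RelDimLocH8.localDim_fiber_eq f η n0 hF z0
  have hξd : FlatMor.fibreDimAt f ξ = n0 := by
    rw [← FieldExtH8.localDim_fiber_eq_fibreDimAt f η z0 ξ hz0]; exact hloc
  refine ⟨n0, hdimη, hξd, ?_⟩
  have h3 := FibCohH8.fibreDimAt_eq f ξ
  obtain ⟨n, hn⟩ := Groth.Agent.ResQuot2H8.exists_trdeg_nat f ξ
  have hn' : Dual3.resTrdeg f ξ = n := hn
  have hcoh : FibCohH8.fibCoh f ξ = 0 := by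
    rw [CodimZeroH8.fibCoh_eq_coheight_of_isMax f ξ (by rw [hfξ]; exact coheight_genericPoint Y)]
    exact coheight_genericPoint X
  rw [hξd, hcoh, hn', Cardinal.toENat_nat] at h3
  have h4 : (n0 : ℕ∞) = 0 + (n : ℕ∞) := by exact_mod_cast h3
  rw [zero_add] at h4
  have h5 : n0 = n := by exact_mod_cast h4
  rw [hn', h5]

theorem generic_le [LocallyOfFiniteType f] [IsDominant f] (x : X) :
    topologicalKrullDim ↥(f.fiber (genericPoint Y)) ≤ FlatMor.fibreDimAt f x := by
  obtain ⟨n0, h1, h2, -⟩ := exists_nat f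
  rw [h1]
  by_contra hcon
  rw [not_le] at hcon
  have h0 : ((Order.coheight (f.asFiber x) : ℕ∞) : WithBot ℕ∞) ≤ FlatMor.fibreDimAt f x :=
    TopDimLocH8.coheight_le_localDim (f.fiber (f x)) (f.asFiber x)
  cases n0 with
  | zero =>
    have : ((Order.coheight (f.asFiber x) : ℕ∞) : WithBot ℕ∞) < ((0 : ℕ) : WithBot ℕ∞) :=
      lt_of_le_of_lt h0 hcon
    have h' : (Order.coheight (f.asFiber x) : ℕ∞) < 0 := by exact_mod_cast this
    exact absurd h' (by simp)
  | succ m =>
    have hxm : FlatMor.fibreDimAt f x ≤ ((m : ℕ) : WithBot ℕ∞) := by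
      revert hcon
      generalize FlatMor.fibreDimAt f x = c
      intro hcon
      induction c with
      | bot => exact bot_le
      | coe a =>
        have h' : a < (m : ℕ∞) + 1 := by exact_mod_cast hcon
        have h'' : a ≤ (m : ℕ∞) := (ENat.lt_add_one_iff (ENat.natCast_ne_top m)).mp h'
        exact_mod_cast h''
    have hopen := ChevH8.isOpen_fibreDimAt_le f m
    have hξm : genericPoint X ∈ {x' : X | FlatMor.fibreDimAt f x' ≤ (m : WithBot ℕ∞)} :=
      (genericPoint_specializes x).mem_open hopen hxm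
    rw [Set.mem_ofPred_eq, h2] at hξm
    have : (m + 1 : ℕ) ≤ m := by exact_mod_cast hξm
    omega

end GenFibDimH8
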