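import Mathlib
import Groth.Agent.Lib.AffDim4_helper8
import Groth.Agent.Lib.FibCoh7_helper8
import Groth.Agent.Lib.FieldExt3_helper8
import Groth.Agent.Lib.FieldBase_helper8
import Groth.Agent.Lib.GenFibDim_helper8
import Groth.Agent.Lib.IrrDim_helper8
import Groth.Agent.Lib.ProdGen_helper8

/-!
# Dimension of components of preimages under flat morphisms of varieties
-/

set_option autoImplicit false

universe u

namespace Groth.Agent.Lib.AffDimH8

open AlgebraicGeometry CategoryTheory Limits

/-- local dimension of an equidimensional scheme of finite type over a field. -/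
theorem localDim_eq_of_equidim (k : Type u) [Field k] (T : Scheme.{u})
    (π : T ⟶ Spec (CommRingCat.of k)) [LocallyOfFiniteType π] (r : WithBot ℕ∞)
    (h : ∀ Z ∈ irreducibleComponents ↥T, topologicalKrullDim ↥Z = r) (t : T) :
    FlatMor.localDim ↥T t = r := by
  letI ov : T.Over (Spec (CommRingCat.of k)) := ⟨π⟩
  haveI : LocallyOfFiniteType (T ↘ Spec (CommRingCat.of k)) := ‹LocallyOfFiniteType π›
  obtain ⟨ξ, hsp, hmax, hht⟩ := LocDimProdH8.exists_max_height_eq k T t
  rw [LocDimProdH8.localDim_eq k T t, ← hht]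
  have h1 := h _ ((Groth.Agent.SchFTH8.closure_mem_irreducibleComponents_iff ξ).mpr hmax)
  rw [Groth.Agent.ClosHtH8.topologicalKrullDim_closure_singleton T ξ] at h1
  exact h1

/-- an irreducible scheme of finite type over a field has finite dimension, equal to all its
local dimensions. -/
theorem exists_dim_nat_of_irreducible (k : Type u) [Field k] (T : Scheme.{u})
    (π : T ⟶ Spec (CommRingCat.of k)) [LocallyOfFiniteType π] [IrreducibleSpace ↥T] :
    ∃ d : ℕ, topologicalKrullDim ↥T = d ∧ ∀ t : T, FlatMor.localDim ↥T t = d := by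
  letI ov : T.Over (Spec (CommRingCat.of k)) := ⟨π⟩
  haveI : LocallyOfFiniteType (T ↘ Spec (CommRingCat.of k)) := ‹LocallyOfFiniteType π›
  set ξ := genericPoint ↥T with hξ
  have hgen : ∀ x' : T, ξ ⤳ x' := fun x' => genericPoint_specializes x'
  have h1 := Groth.Agent.IrrDimH8.topDim_eq_height_generic T ξ hgen
  obtain ⟨m, hm⟩ := LocDimProdH8.exists_localDim_nat k T π ξ
  rw [LocDimProdH8.localDim_eq k T ξ, GenFibDimH8.coheight_genericPoint, zero_add] at hm
  have hdim : topologicalKrullDim ↥T = m := by rw [h1]; exact hm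
  refine ⟨m, hdim, fun t => ?_⟩
  apply localDim_eq_of_equidim k T π
  intro Z hZ
  rw [irreducibleComponents_eq_singleton, Set.mem_singleton_iff] at hZ
  subst hZ
  rw [← hdim]
  exact IsHomeomorph.topologicalKrullDim_eq _ (Homeomorph.Set.univ ↥T).isHomeomorph


/-- fibre dimension of a flat morphism between an equidimensional scheme and an irreducible
scheme, both of finite type over a field. -/
theorem fibreDimAt_eq_of_equidim (k : Type u) [Field k] {X Y : Scheme.{u}}
    (qX : X ⟶ Spec (CommRingCat.of k)) (qY : Y ⟶ Spec (CommRingCat.of k))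
    [LocallyOfFiniteType qX] [LocallyOfFiniteType qY] [IrreducibleSpace ↥Y]
    (f : X ⟶ Y) (hf : f ≫ qY = qX) [Flat f] (n : ℕ)
    (hX : ∀ Z : Set ↥X, Z ∈ irreducibleComponents ↥X →
      topologicalKrullDim ↥Z = topologicalKrullDim ↥Y + (n : WithBot ℕ∞)) (x : X) :
    FlatMor.fibreDimAt f x = (n : WithBot ℕ∞) := by
  haveI : Subsingleton ↥(Spec (CommRingCat.of k)) :=
    inferInstanceAs (Subsingleton (PrimeSpectrum k))
  haveI : LocallyOfFiniteType (f ≫ qY) := by rw [hf]; infer_instance
  haveI : LocallyOfFiniteType f := locallyOfFiniteType_of_comp f qY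
  obtain ⟨d, hd, hloc⟩ := exists_dim_nat_of_irreducible k Y qY
  have h1 := (FibCohH8.fibreDimAt_comp f qY x).2 (Flat.stalkMap f x)
  rw [FieldBaseH8.fibreDimAt_to_field (f ≫ qY) x, FieldBaseH8.fibreDimAt_to_field qY (f x),
    hloc] at h1
  have h2 := localDim_eq_of_equidim k X (f ≫ qY) _ hX x
  rw [hd] at h2
  rw [h2] at h1
  rw [FibCohH8.fibreDimAt_eq] at h1 ⊢
  obtain ⟨m, hm⟩ := Groth.Agent.ResQuot2H8.exists_trdeg_nat f x
  have h3 : Dual3.resTrdeg f x = (m : Cardinal.{u}) := hm
  rw [h3, Cardinal.toENat_nat] at h1 ⊢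
  have h4 : (d : ℕ∞) + (n : ℕ∞) = FibCohH8.fibCoh f x + (m : ℕ∞) + (d : ℕ∞) := by
    exact_mod_cast h1
  have h5 : FibCohH8.fibCoh f x + (m : ℕ∞) = (n : ℕ∞) := by
    rw [add_comm (d : ℕ∞)] at h4
    exact (WithTop.add_right_cancel (ENat.natCast_ne_top d) h4).symm
  exact_mod_cast h5


/-- dimension of components of preimages of irreducible closed sets under base changes of flat
morphisms between an equidimensional and an irreducible variety. -/
theorem main10941 (k : Type u) [Field k]
    {X Y Y' : Scheme.{u}} (qX : X ⟶ Spec (CommRingCat.of k)) (qY : Y ⟶ Spec (CommRingCat.of k))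
    (qY' : Y' ⟶ Spec (CommRingCat.of k))
    [LocallyOfFiniteType qX] [LocallyOfFiniteType qY] [LocallyOfFiniteType qY']
    [IrreducibleSpace ↥Y] (f : X ⟶ Y) (hf : f ≫ qY = qX) [Flat f] (n : ℕ)
    (hX : ∀ Z : Set ↥X, Z ∈ irreducibleComponents ↥X →
      topologicalKrullDim ↥Z = topologicalKrullDim ↥Y + (n : WithBot ℕ∞))
    (g : Y' ⟶ Y)
    (V : Set ↥Y') (hV : IsClosed V) (hVirr : IsIrreducible V)
    (W : Set ↥((pullback.snd f g).base ⁻¹' V))
    (hW : W ∈ irreducibleComponents ↥((pullback.snd f g).base ⁻¹' V)) :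
    topologicalKrullDim ↥W = topologicalKrullDim ↥V + (n : WithBot ℕ∞) := by
  haveI : Subsingleton ↥(Spec (CommRingCat.of k)) :=
    inferInstanceAs (Subsingleton (PrimeSpectrum k))
  haveI : LocallyOfFiniteType (f ≫ qY) := by rw [hf]; infer_instance
  haveI : LocallyOfFiniteType f := locallyOfFiniteType_of_comp f qY
  have hC : IsClosed ((pullback.snd f g).base ⁻¹' V) := hV.preimage (pullback.snd f g).continuous
  obtain ⟨c, hWc, hcmax⟩ := exists_generic ((pullback.snd f g).base ⁻¹' V) hC W hW
  rw [hWc, dim_closure_subtype _ hC c]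
  obtain ⟨V', iV, hiV, hrV⟩ := ProdGenH8.exists_closedImmersion_range Y' V hV
  haveI := hiV
  have hri : Set.range (pullback.fst (pullback.snd f g) iV) = (pullback.snd f g).base ⁻¹' V := by
    rw [Scheme.Pullback.range_fst, hrV]
  obtain ⟨w', hw'⟩ : c.1 ∈ Set.range (pullback.fst (pullback.snd f g) iV) := by
    rw [hri]; exact c.2
  have hemb : Topology.IsClosedEmbedding (pullback.fst (pullback.snd f g) iV) :=
    (pullback.fst (pullback.snd f g) iV).isClosedEmbedding
  have h1 : Order.height c.1 = Order.height w' := by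
    rw [← hw']
    exact height_eq_of_isClosedEmbedding _ hemb w'
  have hmax : IsMax w' := by
    intro z hz
    have hz' : z ⤳ w' := hz
    have h2 : (pullback.fst (pullback.snd f g) iV) z ⤳ c.1 := by
      rw [← hw']
      exact hz'.map (pullback.fst (pullback.snd f g) iV).continuous
    have h3 := hcmax _ (by rw [← hri]; exact Set.mem_range_self z) h2
    rw [← hw'] at h3
    have h4 : z = w' := hemb.injective h3
    rw [h4]
  -- fibre dimension of the base change
  have sq : IsPullback (pullback.fst (pullback.snd f g) iV ≫ pullback.fst f g)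
      (pullback.snd (pullback.snd f g) iV) f (iV ≫ g) :=
    (IsPullback.of_hasPullback (pullback.snd f g) iV).paste_horiz (IsPullback.of_hasPullback f g)
  have hfib : FlatMor.fibreDimAt (pullback.snd (pullback.snd f g) iV) w' = (n : WithBot ℕ∞) := by
    rw [FieldExtH8.fibreDimAt_baseChange f (iV ≫ g) _ _ sq w']
    exact fibreDimAt_eq_of_equidim k qX qY f hf n hX _
  -- V' is irreducible of the same dimension as V
  have hembV : Topology.IsClosedEmbedding iV := iV.isClosedEmbedding
  let φ : ↥V' ≃ₜ ↥V :=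
    (hembV.isEmbedding.toHomeomorph).trans (Homeomorph.setCongr hrV)
  haveI : IrreducibleSpace ↥V := Subtype.irreducibleSpace hVirr
  haveI : IrreducibleSpace ↥V' := by
    rw [irreducibleSpace_def]
    have h6 := IsIrreducible.image (IrreducibleSpace.isIrreducible_univ ↥V) φ.symm
      φ.symm.continuous.continuousOn
    rwa [Set.image_univ_of_surjective φ.symm.surjective] at h6
  have hdimV : topologicalKrullDim ↥V' = topologicalKrullDim ↥V :=
    IsHomeomorph.topologicalKrullDim_eq _ φ.isHomeomorph
  haveI : LocallyOfFiniteType (iV ≫ qY') := inferInstance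
  obtain ⟨d', hd', hloc'⟩ := exists_dim_nat_of_irreducible k V' (iV ≫ qY')
  have hflat : Flat (pullback.snd (pullback.snd f g) iV) :=
    MorphismProperty.of_isPullback sq (inferInstance : Flat f)
  have h5 := (FibCohH8.fibreDimAt_comp (pullback.snd (pullback.snd f g) iV) (iV ≫ qY') w').2
    (Flat.stalkMap _ w')
  rw [FieldBaseH8.fibreDimAt_to_field (pullback.snd (pullback.snd f g) iV ≫ iV ≫ qY') w',
    FieldBaseH8.fibreDimAt_to_field (iV ≫ qY') _, hloc', hfib] at h5
  letI ov : (pullback (pullback.snd f g) iV).Over (Spec (CommRingCat.of k)) :=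
    ⟨pullback.snd (pullback.snd f g) iV ≫ iV ≫ qY'⟩
  haveI : LocallyOfFiniteType
      ((pullback (pullback.snd f g) iV) ↘ Spec (CommRingCat.of k)) :=
    inferInstanceAs (LocallyOfFiniteType (pullback.snd (pullback.snd f g) iV ≫ iV ≫ qY'))
  rw [LocDimProdH8.localDim_eq k _ w', Order.coheight_eq_zero.mpr hmax, zero_add] at h5
  rw [h1, h5, ← hdimV, hd', add_comm]

end Groth.Agent.Lib.AffDimH8
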