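import Mathlib

set_option autoImplicit false
universe u
open AlgebraicGeometry CategoryTheory TopologicalSpace

namespace GenLiftH8

theorem eq_of_specializes_of_mem_irreducibleComponents {X : Scheme.{u}} {z w : X}
    (hz : closure ({z} : Set X) ∈ irreducibleComponents (X : Type u)) (h : w ⤳ z) : w = z := by
  have h1 : closure ({z} : Set X) ⊆ closure {w} := specializes_iff_closure_subset.mp h
  have h2 : closure ({w} : Set X) ⊆ closure {z} :=
    hz.2 (isIrreducible_singleton.closure) h1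
  exact (h.antisymm (specializes_iff_closure_subset.mpr h2)).eq

/-- Affine-local step: a generic point in the closure of the image of an affine open lies in the
image. -/
theorem mem_image_of_mem_closure {Y Z : Scheme.{u}} (g : Y ⟶ Z) {U : Z.Opens}
    (hU : IsAffineOpen U) {W : Y.Opens} (hW : IsAffineOpen W) (hWU : W ≤ g ⁻¹ᵁ U) (z : Z)
    (hzU : z ∈ U) (hz : ∀ w : Z, w ⤳ z → w = z) (hcl : z ∈ closure (g.base '' (W : Set Y))) :
    z ∈ g.base '' (W : Set Y) := by
  obtain ⟨p, hp⟩ : ∃ p, p = hU.primeIdealOf ⟨z, hzU⟩ := ⟨_, rfl⟩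
  have hpz : hU.fromSpec p = z := by rw [hp]; exact hU.fromSpec_primeIdealOf ⟨z, hzU⟩
  have hker : RingHom.ker (g.appLE U W hWU).hom ≤ p.asIdeal := by
    intro a ha
    by_contra hap
    have hza : z ∈ Z.basicOpen a := by
      have h1 : p ∈ hU.fromSpec ⁻¹ᵁ Z.basicOpen a := by
        rw [hU.fromSpec_preimage_basicOpen]
        exact hap
      change hU.fromSpec p ∈ Z.basicOpen a at h1
      rwa [hpz] at h1
    obtain ⟨_, hza', ⟨y, hyW, rfl⟩⟩ := mem_closure_iff.mp hcl _ (Z.basicOpen a).2 hza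
    have h2 : y ∈ g ⁻¹ᵁ Z.basicOpen a := hza'
    rw [Scheme.preimage_basicOpen] at h2
    have h3 : y ∈ Y.basicOpen (Y.presheaf.map (homOfLE hWU).op (g.app U a)) := by
      rw [Scheme.basicOpen_res]
      exact ⟨hyW, h2⟩
    have h4 : Y.presheaf.map (homOfLE hWU).op (g.app U a) = g.appLE U W hWU a := by
      rw [Scheme.Hom.appLE]
      rfl
    rw [h4, (RingHom.mem_ker.mp ha : (g.appLE U W hWU).hom a = 0)] at h3
    simp at h3
  have hmin : p.asIdeal ∈ (Ideal.comap (g.appLE U W hWU).hom ⊥).minimalPrimes := by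
    refine ⟨⟨p.2, hker⟩, ?_⟩
    rintro q ⟨hq, -⟩ hqp
    have h1 : (⟨q, hq⟩ : PrimeSpectrum Γ(Z, U)) ⤳ p :=
      (PrimeSpectrum.le_iff_specializes _ _).mp hqp
    have h2 : hU.fromSpec (⟨q, hq⟩ : PrimeSpectrum Γ(Z, U)) ⤳ hU.fromSpec p :=
      h1.map hU.fromSpec.continuous
    rw [hpz] at h2
    have h3 := hz _ h2
    rw [← hpz] at h3
    have h4 : (⟨q, hq⟩ : PrimeSpectrum Γ(Z, U)) = p :=
      hU.fromSpec.isOpenEmbedding.injective h3
    rw [← h4]
  obtain ⟨p', hp', -, hpp'⟩ :=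
    Ideal.exists_comap_eq_of_mem_minimalPrimes (g.appLE U W hWU).hom p.asIdeal hmin
  refine ⟨hW.fromSpec ⟨p', hp'⟩, ?_, ?_⟩
  · have := hW.fromSpec.opensRange
    have h1 : hW.fromSpec ⟨p', hp'⟩ ∈ hW.fromSpec.opensRange := ⟨_, rfl⟩
    rwa [hW.opensRange_fromSpec] at h1
  · rw [← Scheme.Hom.comp_apply, ← IsAffineOpen.SpecMap_appLE_fromSpec g hU hW hWU,
      Scheme.Hom.comp_apply, ← hpz]
    congr 1
    exact PrimeSpectrum.ext hpp'

end GenLiftH8

namespace GenLiftH8

theorem mem_range_of_generic {Y Z : Scheme.{u}} (g : Y ⟶ Z) [QuasiCompact g] [IsDominant g]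
    (z : Z) (hz : ∀ w : Z, w ⤳ z → w = z) : z ∈ Set.range g.base := by
  obtain ⟨_, ⟨U, hU, rfl⟩, hzU, -⟩ :=
    Z.isBasis_affineOpens.exists_subset_of_mem_open (Set.mem_univ z) isOpen_univ
  have hc : IsCompact ((g ⁻¹ᵁ U : Y.Opens) : Set Y) :=
    QuasiCompact.isCompact_preimage (f := g) _ U.2 hU.isCompact
  obtain ⟨s, hs, hsU⟩ := isCompact_iff_finite_and_eq_biUnion_affineOpens.mp hc
  have hcl : z ∈ closure (⋃ W ∈ s, g.base '' ((W : Y.Opens) : Set Y)) := by
    rw [mem_closure_iff]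
    intro O hO hzO
    obtain ⟨_, ⟨hzO', hzU'⟩, ⟨y, rfl⟩⟩ :=
      g.denseRange.inter_open_nonempty (O ∩ U) (hO.inter U.2) ⟨z, hzO, hzU⟩
    have hy : y ∈ g ⁻¹ᵁ U := hzU'
    rw [hsU] at hy
    simp only [Opens.mem_iSup] at hy
    obtain ⟨W, hWs, hyW⟩ := hy
    exact ⟨g.base y, hzO', Set.mem_biUnion hWs ⟨y, hyW, rfl⟩⟩
  rw [hs.closure_biUnion] at hcl
  obtain ⟨W, hWs, hzW⟩ := Set.mem_iUnion₂.mp hcl
  have hWU : (W : Y.Opens) ≤ g ⁻¹ᵁ U := by
    rw [hsU]
    exact le_iSup₂ (f := fun (i : Y.affineOpens) (_ : i ∈ s) => (i : Y.Opens)) W hWs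
  obtain ⟨y, -, hy⟩ := mem_image_of_mem_closure g hU W.2 hWU z hzU hz hzW
  exact ⟨y, hy⟩

theorem exists_generic_lift {Y Z : Scheme.{u}} (g : Y ⟶ Z) [QuasiCompact g] [IsDominant g]
    (z : Z) (hz : closure ({z} : Set Z) ∈ irreducibleComponents (Z : Type u)) :
    ∃ y : Y, closure ({y} : Set Y) ∈ irreducibleComponents (Y : Type u) ∧ g.base y = z := by
  obtain ⟨y', hy'⟩ := mem_range_of_generic g z
    (fun w hw => eq_of_specializes_of_mem_irreducibleComponents hz hw)
  have hirr : IsIrreducible (irreducibleComponent y') := isIrreducible_irreducibleComponent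
  have hgen := hirr.isGenericPoint_genericPoint isClosed_irreducibleComponent
  refine ⟨hirr.genericPoint, ?_, ?_⟩
  · rw [hgen.def]
    exact irreducibleComponent_mem_irreducibleComponents y'
  · have h1 : hirr.genericPoint ⤳ y' := by
      rw [specializes_iff_mem_closure, hgen.def]
      exact mem_irreducibleComponent
    have h2 := h1.map g.continuous
    rw [hy'] at h2
    exact eq_of_specializes_of_mem_irreducibleComponents hz h2

end GenLiftH8
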