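import Mathlib
import Groth.Agent.Lib.AffDim5_helper8
import Groth.Agent.Lib.ResTower_helper8
import Groth.Agent.Lib.GenLift1_helper8
import Groth.Agent.Lib.RelDim1_helper8

/-!
# Dimension of the source of a morphism with fibres of constant dimension
-/

set_option autoImplicit false

universe u

namespace Groth.Agent.Lib.AffDimH8

open AlgebraicGeometry CategoryTheory Limits

/-- additivity of heights (dimensions of closures) along a morphism of schemes of finite type
over a field. -/
theorem height_fiberι (k : Type u) [Field k] {X Y : Scheme.{u}}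
    (q : Y ⟶ Spec (CommRingCat.of k)) [LocallyOfFiniteType q]
    (f : X ⟶ Y) [LocallyOfFiniteType f] (y : Y) (z : f.fiber y) :
    Order.height (f.fiberι y z) = Order.height y + Order.height z := by
  have h : f ((f.fiberι y) z) = y := Groth.Agent.FibRes2H8.fiberι_mem f y z
  generalize hx' : (f.fiberι y) z = x' at h
  subst h
  have hz : z = f.asFiber x' := by
    apply (f.fiberι (f x')).isEmbedding.injective
    rw [hx', Scheme.Hom.fiberι_asFiber]
  subst hz
  letI ovY : Y.Over (Spec (CommRingCat.of k)) := ⟨q⟩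
  letI ovX : X.Over (Spec (CommRingCat.of k)) := ⟨f ≫ q⟩
  haveI : LocallyOfFiniteType (Y ↘ Spec (CommRingCat.of k)) := ‹LocallyOfFiniteType q›
  haveI : LocallyOfFiniteType (X ↘ Spec (CommRingCat.of k)) :=
    inferInstanceAs (LocallyOfFiniteType (f ≫ q))
  obtain ⟨n, hn, hh⟩ := Groth.Agent.HtTrdegH8.height_eq_trdeg k X x'
  obtain ⟨m, hm, hhm⟩ := Groth.Agent.HtTrdegH8.height_eq_trdeg k Y (f x')
  obtain ⟨r, hr, hhr⟩ := Groth.Agent.FibRes2H8.height_asFiber f x'
  have ht := Groth.Agent.ResTowerH8.trdeg_tower k f rfl x'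
  rw [hn, hm, hr] at ht
  have hmn : m + r = n := by exact_mod_cast ht
  rw [hh, hhm, hhr, ← hmn]
  push_cast
  rfl


theorem topDim_eq_coe_iSup (T : Scheme.{u}) [Nonempty T] :
    topologicalKrullDim T = ((⨆ a : T, Order.height a : ℕ∞) : WithBot ℕ∞) := by
  rw [Groth.Agent.ClosHtH8.topologicalKrullDim_eq_iSup_height,
    WithBot.coe_iSup (OrderTop.bddAbove _)]

theorem exists_height_ge (T : Scheme.{u}) (r : ℕ)
    (h : (r : WithBot ℕ∞) ≤ topologicalKrullDim T) :
    ∃ z : T, (r : ℕ∞) ≤ Order.height z := by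
  by_cases hT : Nonempty T
  · rw [topDim_eq_coe_iSup] at h
    have h' : (r : ℕ∞) ≤ ⨆ a : T, Order.height a := by exact_mod_cast h
    by_contra hcon
    push Not at hcon
    cases r with
    | zero => exact absurd (hcon hT.some) (by simp)
    | succ m =>
      have h2 : ⨆ a : T, Order.height a ≤ (m : ℕ∞) := iSup_le fun a => by
        have h3 := hcon a
        push_cast at h3
        exact Order.le_of_lt_add_one h3
      have h4 := h'.trans h2
      have : m + 1 ≤ m := by exact_mod_cast h4
      omega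
  · rw [not_nonempty_iff] at hT
    rw [TopDimLocH8.topDim_eq_bot_of_isEmpty] at h
    simp at h

theorem main10885 (k : Type u) [Field k] {X Y : Scheme.{u}}
    (q : Y ⟶ Spec (CommRingCat.of k)) [LocallyOfFiniteType q]
    (f : X ⟶ Y) [LocallyOfFiniteType f] (r : ℕ)
    (hfib : ∀ η : Y, (∀ y : Y, y ⤳ η → y = η) →
      (r : WithBot ℕ∞) ≤ topologicalKrullDim (f.base ⁻¹' {η})) :
    (r : WithBot ℕ∞) + topologicalKrullDim Y ≤ topologicalKrullDim X := by
  by_cases hY : Nonempty Y
  · have key : ∀ y : Y, ∃ x : X, (r : ℕ∞) + Order.height y ≤ Order.height x := by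
      intro y
      letI ovY : Y.Over (Spec (CommRingCat.of k)) := ⟨q⟩
      haveI : LocallyOfFiniteType (Y ↘ Spec (CommRingCat.of k)) := ‹LocallyOfFiniteType q›
      obtain ⟨η, hsp, hmax, hht⟩ := LocDimProdH8.exists_max_height_eq k Y y
      have h1 := hfib η hmax
      rw [← IsHomeomorph.topologicalKrullDim_eq _ (f.fiberHomeo η).isHomeomorph] at h1
      obtain ⟨z, hz⟩ := exists_height_ge (f.fiber η) r h1
      refine ⟨f.fiberι η z, ?_⟩
      rw [height_fiberι k q f η z, hht, add_comm]
      exact add_le_add le_add_self hz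
    obtain ⟨x0, -⟩ := key hY.some
    haveI : Nonempty X := ⟨x0⟩
    rw [topDim_eq_coe_iSup X, topDim_eq_coe_iSup Y]
    have : (r : ℕ∞) + ⨆ a : Y, Order.height a ≤ ⨆ a : X, Order.height a := by
      rw [ENat.add_iSup]
      exact iSup_le fun y => by
        obtain ⟨x, hx⟩ := key y
        exact le_iSup_of_le x hx
    exact_mod_cast this
  · rw [not_nonempty_iff] at hY
    rw [TopDimLocH8.topDim_eq_bot_of_isEmpty Y, WithBot.add_bot]
    exact bot_le

theorem main10884 (k : Type u) [Field k] {X Y : Scheme.{u}}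
    (q : Y ⟶ Spec (CommRingCat.of k)) [LocallyOfFiniteType q]
    (f : X ⟶ Y) [LocallyOfFiniteType f] [QuasiCompact f] (hdom : DenseRange f.base) (r : ℕ)
    (hfib : ∀ y : Y, (f.base ⁻¹' {y}).Nonempty → topologicalKrullDim (f.base ⁻¹' {y}) = r) :
    topologicalKrullDim X = (r : WithBot ℕ∞) + topologicalKrullDim Y := by
  apply le_antisymm
  · by_cases hX : Nonempty X
    · haveI : Nonempty Y := ⟨f hX.some⟩
      rw [topDim_eq_coe_iSup X, topDim_eq_coe_iSup Y]
      have : ⨆ a : X, Order.height a ≤ (r : ℕ∞) + ⨆ a : Y, Order.height a := by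
        refine iSup_le fun x => ?_
        have h0 := height_fiberι k q f (f x) (f.asFiber x)
        rw [Scheme.Hom.fiberι_asFiber] at h0
        rw [h0, add_comm]
        have h1 := hfib (f x) ⟨x, rfl⟩
        rw [← IsHomeomorph.topologicalKrullDim_eq _ (f.fiberHomeo (f x)).isHomeomorph] at h1
        haveI : Nonempty (f.fiber (f x)) := ⟨f.asFiber x⟩
        rw [topDim_eq_coe_iSup] at h1
        have h1' : ⨆ a : f.fiber (f x), Order.height a = (r : ℕ∞) := by exact_mod_cast h1
        refine add_le_add ?_ ?_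
        · rw [← h1']; exact le_iSup _ (f.asFiber x)
        · exact le_iSup (fun a : Y => Order.height a) (f x)
      exact_mod_cast this
    · rw [not_nonempty_iff] at hX
      rw [TopDimLocH8.topDim_eq_bot_of_isEmpty X]
      exact bot_le
  · apply main10885 k q f r
    intro η hη
    haveI : IsDominant f := ⟨hdom⟩
    obtain ⟨x, hx⟩ := GenLiftH8.mem_range_of_generic f η hη
    rw [hfib η ⟨x, hx⟩]

end Groth.Agent.Lib.AffDimH8
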