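import Mathlib

/-! Nowhere dense subsets and dimension. -/

universe u
open AlgebraicGeometry CategoryTheory TopologicalSpace

namespace NwDenseH8

/-- in a locally Noetherian scheme every irreducible component contains a nonempty open. -/
theorem exists_open_subset_component (Y : Scheme.{u}) [IsLocallyNoetherian Y] (T : Set Y)
    (hT : T ∈ irreducibleComponents ↥Y) : ∃ o : Set Y, IsOpen o ∧ o.Nonempty ∧ o ⊆ T := by
  obtain ⟨t, ht⟩ := hT.1.nonempty
  obtain ⟨_, ⟨U, hU', rfl⟩, htU, -⟩ :=
    Y.isBasis_affineOpens.exists_subset_of_mem_open (Set.mem_univ t) isOpen_univ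
  have hU : IsAffineOpen U := hU'
  haveI : IsNoetherianRing Γ(Y, U) := IsLocallyNoetherian.component_noetherian ⟨U, hU⟩
  haveI : NoetherianSpace ↥U := noetherianSpace_of_isAffineOpen U hU
  have hemb : Topology.IsOpenEmbedding (Subtype.val : ↥U → Y) := U.2.isOpenEmbedding_subtypeVal
  have hcomp : (Subtype.val ⁻¹' T : Set ↥U) ∈ irreducibleComponents ↥U := by
    apply preimage_mem_irreducibleComponents hT hemb
    exact ⟨t, ht, ⟨⟨t, htU⟩, rfl⟩⟩
  obtain ⟨o, ho, hone, hoT⟩ :=
    NoetherianSpace.exists_isOpen_nonempty_subset_irreducibleComponent _ hcomp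
  refine ⟨Subtype.val '' o, hemb.isOpenMap o ho, hone.image _, ?_⟩
  rintro _ ⟨a, ha, rfl⟩
  exact hoT ha

theorem dim_lt_of_forall_exists_gt {T : Type*} [TopologicalSpace T] (Z : Set T) (N : ℕ)
    (hN : topologicalKrullDim T ≤ N)
    (h : ∀ S : IrreducibleCloseds T, (S : Set T) ⊆ closure Z →
      ∃ S' : IrreducibleCloseds T, S < S') :
    topologicalKrullDim ↥Z < N := by
  by_contra hcon
  rw [not_lt] at hcon
  unfold topologicalKrullDim at hcon hN
  have hcon' : ((N : ℕ) : WithBot ℕ∞) ≤ Order.krullDim (IrreducibleCloseds ↥Z) := hcon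
  obtain ⟨p, hp⟩ := (Order.le_krullDim_iff).mp hcon'
  let q : LTSeries (IrreducibleCloseds T) :=
    p.map (IrreducibleCloseds.map Subtype.val continuous_subtype_val)
      (IrreducibleCloseds.map_strictMono_of_isInducing Topology.IsInducing.subtypeVal)
  have hq : q.length = N := hp
  have hlast : ((RelSeries.last q : IrreducibleCloseds T) : Set T) ⊆ closure Z := by
    have : RelSeries.last q =
        IrreducibleCloseds.map Subtype.val continuous_subtype_val (RelSeries.last p) :=
      LTSeries.last_map _ _ _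
    rw [this, IrreducibleCloseds.coe_map]
    apply closure_mono
    rintro _ ⟨a, -, rfl⟩
    exact a.2
  obtain ⟨S', hS'⟩ := h _ hlast
  have h3 := Order.LTSeries.length_le_krullDim (q.snoc S' hS')
  rw [RelSeries.snoc_length, hq] at h3
  have h4 := le_trans h3 hN
  have h5 : (N + 1 : ℕ) ≤ N := by exact_mod_cast h4
  omega

end NwDenseH8
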