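import Mathlib
import Groth.Agent.Lib.AffDim6_helper8
import Groth.Agent.Lib.NwDense_helper8

/-!
# Irreducibility and dimension of the source of a proper surjection with irreducible
equidimensional closed fibres
-/

set_option autoImplicit false

universe u

namespace Groth.Agent.Lib.AffDimH8

open AlgebraicGeometry CategoryTheory Limits

/-- lower bounds for the fibre dimension propagate from closed points (Chevalley + Jacobson). -/
theorem fibreDimAt_ge_of_closedPoints {T Y : Scheme.{u}} (g : T ⟶ Y) [LocallyOfFiniteType g]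
    [JacobsonSpace T] (O : Set T) (hO : IsOpen O) (m : ℕ)
    (h : ∀ x ∈ O, IsClosed ({x} : Set T) → (m : WithBot ℕ∞) ≤ FlatMor.fibreDimAt g x) :
    ∀ x ∈ O, (m : WithBot ℕ∞) ≤ FlatMor.fibreDimAt g x := by
  intro x hx
  cases m with
  | zero =>
    rw [FibCohH8.fibreDimAt_eq, ← WithBot.coe_add]
    exact_mod_cast bot_le
  | succ m' =>
    by_contra hcon
    rw [not_le] at hcon
    have hxm : FlatMor.fibreDimAt g x ≤ ((m' : ℕ) : WithBot ℕ∞) := by
      revert hcon
      generalize FlatMor.fibreDimAt g x = c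
      intro hcon
      induction c with
      | bot => exact bot_le
      | coe a =>
        have h' : a < (m' : ℕ∞) + 1 := by exact_mod_cast hcon
        have h'' : a ≤ (m' : ℕ∞) := (ENat.lt_add_one_iff (ENat.natCast_ne_top m')).mp h'
        exact_mod_cast h''
    have hopen := ChevH8.isOpen_fibreDimAt_le g m'
    obtain ⟨c, ⟨hc1, hc2⟩, hc3⟩ := nonempty_inter_closedPoints
      (Z := {x' : T | FlatMor.fibreDimAt g x' ≤ (m' : WithBot ℕ∞)} ∩ O) ⟨x, hxm, hx⟩
      (hopen.inter hO).isLocallyClosed
    have h1 := h c hc2 hc3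
    have h2 : FlatMor.fibreDimAt g c ≤ (m' : WithBot ℕ∞) := hc1
    have h3 := h1.trans h2
    have : (m' + 1 : ℕ) ≤ m' := by exact_mod_cast h3
    omega

/-- the fibre of `i ≫ f` (for any `i`) computed as a pullback over the fibre of `f`. -/
theorem localDim_pullback_fiberι {X₁ X Y : Scheme.{u}} (i : X₁ ⟶ X) (f : X ⟶ Y)
    [LocallyOfFiniteType i] [LocallyOfFiniteType f] (y : Y) (z : ↥(pullback i (f.fiberι y))) :
    FlatMor.localDim ↥(pullback i (f.fiberι y)) z =
      FlatMor.fibreDimAt (i ≫ f) ((pullback.fst i (f.fiberι y)) z) := by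
  haveI : Subsingleton ↥(Spec (CommRingCat.of (Y.residueField y))) :=
    inferInstanceAs (Subsingleton (PrimeSpectrum (Y.residueField y)))
  have sq : IsPullback (pullback.fst i (f.fiberι y))
      (pullback.snd i (f.fiberι y) ≫ f.fiberToSpecResidueField y) (i ≫ f)
      (Y.fromSpecResidueField y) :=
    (IsPullback.of_hasPullback i (f.fiberι y)).paste_vert
      (IsPullback.of_hasPullback f (Y.fromSpecResidueField y))
  rw [← FieldExtH8.fibreDimAt_baseChange (i ≫ f) _ _ _ sq z, FieldBaseH8.fibreDimAt_to_field]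


theorem localDim_fiber_of_irreducible {X Y : Scheme.{u}} (f : X ⟶ Y) [LocallyOfFiniteType f]
    (y : Y) [IrreducibleSpace ↥(f.fiber y)] (m : ℕ)
    (hdim : topologicalKrullDim ↥(f.fiber y) = m) (z : ↥(f.fiber y)) :
    FlatMor.localDim ↥(f.fiber y) z = m := by
  haveI := Groth.Agent.FibRes2H8.lft_fiber f y
  obtain ⟨d, hd, hloc⟩ := exists_dim_nat_of_irreducible (Y.residueField y) (f.fiber y)
    (f.fiberToSpecResidueField y)
  rw [hloc, ← hd, hdim]

/-- a closed subscheme of an irreducible finite-dimensional scheme of the same dimension is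
everything. -/
theorem range_eq_univ_of_dim_ge {F₁ F : Scheme.{u}} (j : F₁ ⟶ F) [IsClosedImmersion j]
    [IrreducibleSpace ↥F] (m : ℕ) (hF : topologicalKrullDim ↥F = m)
    (h : (m : WithBot ℕ∞) ≤ topologicalKrullDim ↥F₁) : Set.range j = Set.univ := by
  obtain ⟨z₀, hz₀⟩ := exists_height_ge F₁ m h
  have h1 : Order.height (j z₀) = Order.height z₀ :=
    height_eq_of_isClosedEmbedding j j.isClosedEmbedding z₀
  set g := genericPoint ↥F with hg
  have hgen : ∀ x' : F, g ⤳ x' := fun x' => genericPoint_specializes x'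
  have h2 := Groth.Agent.IrrDimH8.topDim_eq_height_generic F g hgen
  rw [hF] at h2
  have h2' : Order.height g = (m : ℕ∞) := by exact_mod_cast h2.symm
  have h3 : j z₀ = g := by
    by_contra hne
    have hle : j z₀ ≤ g := hgen (j z₀)
    have hlt : j z₀ < g := lt_of_le_not_ge hle (fun hge =>
      hne ((Specializes.antisymm (show j z₀ ⤳ g from hge) (hgen (j z₀))).eq))
    have hfin : Order.height (j z₀) < ⊤ :=
      lt_of_le_of_lt (Order.height_mono hle) (by rw [h2']; exact ENat.natCast_lt_top m)
    have h4 := Order.height_strictMono hlt hfin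
    rw [h2', h1] at h4
    exact absurd (lt_of_le_of_lt hz₀ h4) (lt_irrefl _)
  rw [Set.eq_univ_iff_forall]
  intro x'
  have h5 : x' ∈ closure ({g} : Set F) := (hgen x').mem_closure
  have h6 : closure ({g} : Set F) ⊆ Set.range j :=
    closure_minimal (Set.singleton_subset_iff.mpr ⟨z₀, h3⟩) j.isClosedEmbedding.isClosed_range
  exact h6 h5


theorem irreducibleSpace_of_range {A B : Type*} [TopologicalSpace A] [TopologicalSpace B]
    (i : A → B) (hi : Topology.IsEmbedding i) (h : IsIrreducible (Set.range i)) :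
    IrreducibleSpace A := by
  haveI : IrreducibleSpace ↥(Set.range i) := Subtype.irreducibleSpace h
  let φ := hi.toHomeomorph
  rw [irreducibleSpace_def]
  have h6 := IsIrreducible.image (IrreducibleSpace.isIrreducible_univ ↥(Set.range i)) φ.symm
    φ.symm.continuous.continuousOn
  rwa [Set.image_univ_of_surjective φ.symm.surjective] at h6

theorem main10914 (k : Type u) [Field k] {X Y : Scheme.{u}}
    (pX : X ⟶ Spec (CommRingCat.of k)) (pY : Y ⟶ Spec (CommRingCat.of k))
    [IsProper pX] [IsProper pY]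
    (f : X ⟶ Y) (hf : f ≫ pY = pX) (hsurj : Function.Surjective f)
    [IrreducibleSpace ↥Y] (m : ℕ)
    (hirr : ∀ y : ↥Y, IsClosed ({y} : Set ↥Y) → IrreducibleSpace ↥(f.fiber y))
    (hdim : ∀ y : ↥Y, IsClosed ({y} : Set ↥Y) → topologicalKrullDim ↥(f.fiber y) = m) :
    IrreducibleSpace ↥X ∧ topologicalKrullDim ↥X = topologicalKrullDim ↥Y + m := by
  haveI : IsProper (f ≫ pY) := by rw [hf]; infer_instance
  haveI : IsProper f := IsProper.of_comp f pY
  haveI : JacobsonSpace ↥X := LocallyOfFiniteType.jacobsonSpace pX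
  haveI : JacobsonSpace ↥Y := LocallyOfFiniteType.jacobsonSpace pY
  haveI : IsLocallyNoetherian X := LocallyOfFiniteType.isLocallyNoetherian pX
  haveI : IsDominant f := ⟨hsurj.denseRange⟩
  -- closed points
  have hclosed : ∀ x : X, IsClosed ({x} : Set X) → IsClosed ({f x} : Set Y) := by
    intro x hx
    have := f.isClosedMap _ hx
    rwa [Set.image_singleton] at this
  -- fibre dimension at points over closed points
  have hfd : ∀ x : X, IsClosed ({f x} : Set Y) → FlatMor.fibreDimAt f x = m := by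
    intro x hx
    haveI := hirr _ hx
    exact localDim_fiber_of_irreducible f (f x) m (hdim _ hx) _
  -- Step 1: a maximal point over the generic point
  set η := genericPoint ↥Y with hη
  have hηc : closure ({η} : Set Y) ∈ irreducibleComponents (Y : Type u) := by
    rw [genericPoint_closure, irreducibleComponents_eq_singleton]; rfl
  obtain ⟨ξ, hξc, hξη⟩ := GenLiftH8.exists_generic_lift f η hηc
  -- Step 2: the component as a scheme
  obtain ⟨X₁, i, hi, hri⟩ :=
    ProdGenH8.exists_closedImmersion_range X (closure {ξ}) isClosed_closure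
  haveI := hi
  haveI : IrreducibleSpace ↥X₁ :=
    irreducibleSpace_of_range i i.isClosedEmbedding.isEmbedding
      (by rw [hri]; exact isIrreducible_singleton.closure)
  have hf₁surj : Function.Surjective (i ≫ f) := by
    have hcl : IsClosed (Set.range (i ≫ f)) := (i ≫ f).isClosedMap.isClosed_range
    have hηr : η ∈ Set.range (i ≫ f) := by
      obtain ⟨ξ₁, hξ₁⟩ : ξ ∈ Set.range i := by rw [hri]; exact subset_closure rfl
      exact ⟨ξ₁, by rw [Scheme.Hom.comp_apply, hξ₁, hξη]⟩
    intro y
    have h1 : closure {η} ⊆ Set.range (i ≫ f) :=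
      closure_minimal (Set.singleton_subset_iff.mpr hηr) hcl
    exact h1 ((genericPoint_specializes y).mem_closure)
  haveI : IsDominant (i ≫ f) := ⟨hf₁surj.denseRange⟩
  -- Step 3: an open subset of the component
  obtain ⟨o, ho, hone, hoC⟩ := NwDenseH8.exists_open_subset_component X (closure {ξ}) hξc
  -- Step 4: fibre dimension of `i ≫ f` at closed points of `i⁻¹ o`
  have hstep4 : ∀ x₁ ∈ i ⁻¹' o, IsClosed ({x₁} : Set X₁) →
      (m : WithBot ℕ∞) ≤ FlatMor.fibreDimAt (i ≫ f) x₁ := by
    intro x₁ hx₁ hcl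
    have hx : IsClosed ({i x₁} : Set X) := by
      have := i.isClosedEmbedding.isClosedMap _ hcl
      rwa [Set.image_singleton] at this
    have hy := hclosed _ hx
    haveI := hirr _ hy
    have hcov : (Set.univ : Set ↥(f.fiber (f (i x₁)))) ⊆
        (f.fiberι (f (i x₁))) ⁻¹' (closure {ξ}) ∪ (f.fiberι (f (i x₁))) ⁻¹' oᶜ := by
      intro z _
      by_cases hz : (f.fiberι _ z) ∈ o
      · left; exact hoC hz
      · right; exact hz
    have hpre := (IrreducibleSpace.isIrreducible_univ ↥(f.fiber (f (i x₁)))).isPreirreducible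
    rcases (isPreirreducible_iff_isClosed_union_isClosed.mp hpre) _ _
      (isClosed_closure.preimage (f.fiberι _).continuous)
      (ho.isClosed_compl.preimage (f.fiberι _).continuous) hcov with h1 | h1
    · have hsnd : Set.range (pullback.snd i (f.fiberι (f (i x₁)))) = Set.univ := by
        rw [Scheme.Pullback.range_snd, hri]
        exact Set.eq_univ_of_univ_subset h1
      obtain ⟨z, hz1, hz2⟩ := Scheme.Pullback.exists_preimage_pullback (f := i)
        (g := f.fiberι (f (i x₁))) x₁ (f.asFiber (i x₁)) (by rw [Scheme.Hom.fiberι_asFiber])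
      have h2 := localDim_pullback_fiberι i f (f (i x₁)) z
      rw [hz1] at h2
      rw [← h2]
      let φ : ↥(pullback i (f.fiberι (f (i x₁)))) ≃ₜ ↥(f.fiber (f (i x₁))) :=
        (pullback.snd i (f.fiberι (f (i x₁)))).isClosedEmbedding.isEmbedding.toHomeomorphOfSurjective
          (Set.range_eq_univ.mp hsnd)
      rw [← Groth.Agent.FibLocH8.localDim_homeomorph φ z,
        localDim_fiber_of_irreducible f _ m (hdim _ hy)]
    · exfalso
      have h2 : f.asFiber (i x₁) ∈ (f.fiberι (f (i x₁))) ⁻¹' oᶜ := h1 (Set.mem_univ _)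
      rw [Set.mem_preimage, Scheme.Hom.fiberι_asFiber] at h2
      exact h2 hx₁
  -- Step 5: lower bound everywhere on `X₁`
  haveI : JacobsonSpace ↥X₁ := LocallyOfFiniteType.jacobsonSpace (i ≫ pX)
  have hstep5 := fibreDimAt_ge_of_closedPoints (i ≫ f) (i ⁻¹' o) (ho.preimage i.continuous) m
    hstep4
  have hgen₁ : genericPoint ↥X₁ ∈ i ⁻¹' o := by
    obtain ⟨c, hc⟩ := hone
    obtain ⟨c₁, hc₁⟩ : c ∈ Set.range i := by rw [hri]; exact hoC hc
    exact (genericPoint_specializes c₁).mem_open (ho.preimage i.continuous)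
      (by rw [Set.mem_preimage, hc₁]; exact hc)
  obtain ⟨n0, hn0, hn0', -⟩ := GenFibDimH8.exists_nat (i ≫ f)
  have hmn0 : (m : WithBot ℕ∞) ≤ n0 := by
    rw [← hn0']; exact hstep5 _ hgen₁
  have hall : ∀ x₁ : X₁, (m : WithBot ℕ∞) ≤ FlatMor.fibreDimAt (i ≫ f) x₁ := fun x₁ =>
    hmn0.trans (by rw [← hn0]; exact GenFibDimH8.generic_le (i ≫ f) x₁)
  -- Step 6: closed fibres lie in the component
  have hstep6 : ∀ x : X, IsClosed ({x} : Set X) → x ∈ closure ({ξ} : Set X) := by
    intro x hx
    have hy := hclosed x hx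
    haveI := hirr _ hy
    obtain ⟨x₁, hx₁⟩ := hf₁surj (f x)
    obtain ⟨z', hz'⟩ : i x₁ ∈ Set.range (f.fiberι (f x)) := by
      rw [Scheme.Hom.range_fiberι]; exact hx₁
    obtain ⟨z, hz1, hz2⟩ := Scheme.Pullback.exists_preimage_pullback (f := i)
      (g := f.fiberι (f x)) x₁ z' hz'.symm
    have h1 := localDim_pullback_fiberι i f (f x) z
    rw [hz1] at h1
    have h2 : (m : WithBot ℕ∞) ≤ topologicalKrullDim ↥(pullback i (f.fiberι (f x))) := by
      refine le_trans ?_ (TopDimLocH8.localDim_le_topDim _ z)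
      rw [h1]; exact hall x₁
    have h3 := range_eq_univ_of_dim_ge (pullback.snd i (f.fiberι (f x))) m (hdim _ hy) h2
    rw [Scheme.Pullback.range_snd, hri] at h3
    have h4 : f.asFiber x ∈ (f.fiberι (f x)) ⁻¹' closure {ξ} := by rw [h3]; trivial
    rwa [Set.mem_preimage, Scheme.Hom.fiberι_asFiber] at h4
  -- Step 7: irreducibility
  have huniv : closure ({ξ} : Set X) = Set.univ := by
    apply Set.eq_univ_of_univ_subset
    rw [← closure_closedPoints (X := X)]
    exact closure_minimal (fun x hx => hstep6 x hx) isClosed_closure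
  haveI hXirr : IrreducibleSpace ↥X := by
    rw [irreducibleSpace_def, Set.top_eq_univ, ← huniv]; exact isIrreducible_singleton.closure
  refine ⟨hXirr, ?_⟩
  -- Step 8: dimension
  have hall' := fibreDimAt_ge_of_closedPoints f Set.univ isOpen_univ m
    (fun x _ hx => (hfd x (hclosed x hx)).ge)
  obtain ⟨n0', hn1, hn2, hn3⟩ := GenFibDimH8.exists_nat f
  have hm1 : (m : WithBot ℕ∞) ≤ n0' := by
    rw [← hn2]; exact hall' _ trivial
  obtain ⟨c, -, hc⟩ := nonempty_inter_closedPoints (X := X) (Z := Set.univ) ⟨ξ, trivial⟩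
    isOpen_univ.isLocallyClosed
  have hm2 : (n0' : WithBot ℕ∞) ≤ m := by
    rw [← hn1, ← hfd c (hclosed c hc)]; exact GenFibDimH8.generic_le f c
  have hmm : n0' = m := by exact_mod_cast le_antisymm hm2 hm1
  have h1 := Groth.Agent.IrrDimH8.topDim_eq_height_generic X (genericPoint ↥X)
    (fun x' => genericPoint_specializes x')
  have h2 := Groth.Agent.IrrDimH8.topDim_eq_height_generic Y η
    (fun x' => genericPoint_specializes x')
  have h3 := height_fiberι k pY f (f (genericPoint ↥X)) (f.asFiber (genericPoint ↥X))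
  rw [Scheme.Hom.fiberι_asFiber] at h3
  obtain ⟨r, hr, hhr⟩ := Groth.Agent.FibRes2H8.height_asFiber f (genericPoint ↥X)
  have hr' : Dual3.resTrdeg f (genericPoint ↥X) = r := hr
  rw [hn3] at hr'
  have hrn : n0' = r := by exact_mod_cast hr'
  rw [h1, h3, hhr, congrArg Order.height (GenFibDimH8.map_genericPoint f), h2, ← hrn, hmm]
  push_cast
  rfl

end Groth.Agent.Lib.AffDimH8
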