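import Mathlib
import Groth.Agent.Lib.AffDim7_helper8

/-!
# Irreducibility of the source of a closed surjection with irreducible equidimensional
closed fibres (finite type over a field)
-/

set_option autoImplicit false

universe u

namespace Groth.Agent.Lib.AffDimH8

open AlgebraicGeometry CategoryTheory Limits

theorem irred_of_closed_fibres (k : Type u) [Field k] {X Y : Scheme.{u}}
    (pX : X ⟶ Spec (CommRingCat.of k)) (pY : Y ⟶ Spec (CommRingCat.of k))
    [LocallyOfFiniteType pX] [LocallyOfFiniteType pY]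
    (f : X ⟶ Y) (hf : f ≫ pY = pX) [QuasiCompact f] (hcl : IsClosedMap f)
    (hsurj : Function.Surjective f)
    [IrreducibleSpace ↥Y] (m : ℕ)
    (hirr : ∀ y : ↥Y, IsClosed ({y} : Set ↥Y) → IrreducibleSpace ↥(f.fiber y))
    (hdim : ∀ y : ↥Y, IsClosed ({y} : Set ↥Y) → topologicalKrullDim ↥(f.fiber y) = m) :
    IrreducibleSpace ↥X ∧ topologicalKrullDim ↥X = topologicalKrullDim ↥Y + m := by
  haveI : LocallyOfFiniteType (f ≫ pY) := by rw [hf]; infer_instance
  haveI : LocallyOfFiniteType f := locallyOfFiniteType_of_comp f pY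
  haveI : JacobsonSpace ↥X := LocallyOfFiniteType.jacobsonSpace pX
  haveI : JacobsonSpace ↥Y := LocallyOfFiniteType.jacobsonSpace pY
  haveI : IsLocallyNoetherian X := LocallyOfFiniteType.isLocallyNoetherian pX
  haveI : IsDominant f := ⟨hsurj.denseRange⟩
  -- closed points
  have hclosed : ∀ x : X, IsClosed ({x} : Set X) → IsClosed ({f x} : Set Y) := by
    intro x hx
    have := hcl _ hx
    rwa [Set.image_singleton] at this
  -- fibre dimension at points over closed points
  have hfd : ∀ x : X, IsClosed ({f x} : Set Y) → FlatMor.fibreDimAt f x = m := by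
    intro x hx
    haveI := hirr _ hx
    exact localDim_fiber_of_irreducible f (f x) m (hdim _ hx) _
  -- Step 1: a maximal point over the generic point
  set η := genericPoint ↥Y with hη
  have hηc : closure ({η} : Set Y) ∈ irreducibleComponents (Y : Type u) := by
    rw [genericPoint_closure, irreducibleComponents_eq_singleton]; rfl
  obtain ⟨ξ, hξc, hξη⟩ := GenLiftH8.exists_generic_lift f η hηc
  -- Step 2: the component as a scheme
  obtain ⟨X₁, i, hi, hri⟩ :=
    ProdGenH8.exists_closedImmersion_range X (closure {ξ}) isClosed_closure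
  haveI := hi
  haveI : IrreducibleSpace ↥X₁ :=
    irreducibleSpace_of_range i i.isClosedEmbedding.isEmbedding
      (by rw [hri]; exact isIrreducible_singleton.closure)
  have hf₁surj : Function.Surjective (i ≫ f) := by
    have hclr : IsClosed (Set.range (i ≫ f)) := by
      have h0 : Set.range (i ≫ f) = f '' (Set.range i) := by
        ext y
        constructor
        · rintro ⟨a, rfl⟩
          exact ⟨i a, ⟨a, rfl⟩, rfl⟩
        · rintro ⟨_, ⟨a, rfl⟩, rfl⟩
          exact ⟨a, rfl⟩
      rw [h0]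
      exact hcl _ i.isClosedEmbedding.isClosed_range
    have hηr : η ∈ Set.range (i ≫ f) := by
      obtain ⟨ξ₁, hξ₁⟩ : ξ ∈ Set.range i := by rw [hri]; exact subset_closure rfl
      exact ⟨ξ₁, by rw [Scheme.Hom.comp_apply, hξ₁, hξη]⟩
    intro y
    have h1 : closure {η} ⊆ Set.range (i ≫ f) :=
      closure_minimal (Set.singleton_subset_iff.mpr hηr) hclr
    exact h1 ((genericPoint_specializes y).mem_closure)
  haveI : IsDominant (i ≫ f) := ⟨hf₁surj.denseRange⟩
  -- Step 3: an open subset of the component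
  obtain ⟨o, ho, hone, hoC⟩ := NwDenseH8.exists_open_subset_component X (closure {ξ}) hξc
  -- Step 4: fibre dimension of `i ≫ f` at closed points of `i⁻¹ o`
  have hstep4 : ∀ x₁ ∈ i ⁻¹' o, IsClosed ({x₁} : Set X₁) →
      (m : WithBot ℕ∞) ≤ FlatMor.fibreDimAt (i ≫ f) x₁ := by
    intro x₁ hx₁ hcl
    have hx : IsClosed ({i x₁} : Set X) := by
      have := i.isClosedEmbedding.isClosedMap _ hcl
      rwa [Set.image_singleton] at this
    have hy := hclosed _ hx
    haveI := hirr _ hy
    have hcov : (Set.univ : Set ↥(f.fiber (f (i x₁)))) ⊆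
        (f.fiberι (f (i x₁))) ⁻¹' (closure {ξ}) ∪ (f.fiberι (f (i x₁))) ⁻¹' oᶜ := by
      intro z _
      by_cases hz : (f.fiberι _ z) ∈ o
      · left; exact hoC hz
      · right; exact hz
    have hpre := (IrreducibleSpace.isIrreducible_univ ↥(f.fiber (f (i x₁)))).isPreirreducible
    rcases (isPreirreducible_iff_isClosed_union_isClosed.mp hpre) _ _
      (isClosed_closure.preimage (f.fiberι _).continuous)
      (ho.isClosed_compl.preimage (f.fiberι _).continuous) hcov with h1 | h1
    · have hsnd : Set.range (pullback.snd i (f.fiberι (f (i x₁)))) = Set.univ := by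
        rw [Scheme.Pullback.range_snd, hri]
        exact Set.eq_univ_of_univ_subset h1
      obtain ⟨z, hz1, hz2⟩ := Scheme.Pullback.exists_preimage_pullback (f := i)
        (g := f.fiberι (f (i x₁))) x₁ (f.asFiber (i x₁)) (by rw [Scheme.Hom.fiberι_asFiber])
      have h2 := localDim_pullback_fiberι i f (f (i x₁)) z
      rw [hz1] at h2
      rw [← h2]
      let φ : ↥(pullback i (f.fiberι (f (i x₁)))) ≃ₜ ↥(f.fiber (f (i x₁))) :=
        (pullback.snd i (f.fiberι (f (i x₁)))).isClosedEmbedding.isEmbedding.toHomeomorphOfSurjective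
          (Set.range_eq_univ.mp hsnd)
      rw [← Groth.Agent.FibLocH8.localDim_homeomorph φ z,
        localDim_fiber_of_irreducible f _ m (hdim _ hy)]
    · exfalso
      have h2 : f.asFiber (i x₁) ∈ (f.fiberι (f (i x₁))) ⁻¹' oᶜ := h1 (Set.mem_univ _)
      rw [Set.mem_preimage, Scheme.Hom.fiberι_asFiber] at h2
      exact h2 hx₁
  -- Step 5: lower bound everywhere on `X₁`
  haveI : JacobsonSpace ↥X₁ := LocallyOfFiniteType.jacobsonSpace (i ≫ pX)
  have hstep5 := fibreDimAt_ge_of_closedPoints (i ≫ f) (i ⁻¹' o) (ho.preimage i.continuous) m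
    hstep4
  have hgen₁ : genericPoint ↥X₁ ∈ i ⁻¹' o := by
    obtain ⟨c, hc⟩ := hone
    obtain ⟨c₁, hc₁⟩ : c ∈ Set.range i := by rw [hri]; exact hoC hc
    exact (genericPoint_specializes c₁).mem_open (ho.preimage i.continuous)
      (by rw [Set.mem_preimage, hc₁]; exact hc)
  obtain ⟨n0, hn0, hn0', -⟩ := GenFibDimH8.exists_nat (i ≫ f)
  have hmn0 : (m : WithBot ℕ∞) ≤ n0 := by
    rw [← hn0']; exact hstep5 _ hgen₁
  have hall : ∀ x₁ : X₁, (m : WithBot ℕ∞) ≤ FlatMor.fibreDimAt (i ≫ f) x₁ := fun x₁ =>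
    hmn0.trans (by rw [← hn0]; exact GenFibDimH8.generic_le (i ≫ f) x₁)
  -- Step 6: closed fibres lie in the component
  have hstep6 : ∀ x : X, IsClosed ({x} : Set X) → x ∈ closure ({ξ} : Set X) := by
    intro x hx
    have hy := hclosed x hx
    haveI := hirr _ hy
    obtain ⟨x₁, hx₁⟩ := hf₁surj (f x)
    obtain ⟨z', hz'⟩ : i x₁ ∈ Set.range (f.fiberι (f x)) := by
      rw [Scheme.Hom.range_fiberι]; exact hx₁
    obtain ⟨z, hz1, hz2⟩ := Scheme.Pullback.exists_preimage_pullback (f := i)
      (g := f.fiberι (f x)) x₁ z' hz'.symm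
    have h1 := localDim_pullback_fiberι i f (f x) z
    rw [hz1] at h1
    have h2 : (m : WithBot ℕ∞) ≤ topologicalKrullDim ↥(pullback i (f.fiberι (f x))) := by
      refine le_trans ?_ (TopDimLocH8.localDim_le_topDim _ z)
      rw [h1]; exact hall x₁
    have h3 := range_eq_univ_of_dim_ge (pullback.snd i (f.fiberι (f x))) m (hdim _ hy) h2
    rw [Scheme.Pullback.range_snd, hri] at h3
    have h4 : f.asFiber x ∈ (f.fiberι (f x)) ⁻¹' closure {ξ} := by rw [h3]; trivial
    rwa [Set.mem_preimage, Scheme.Hom.fiberι_asFiber] at h4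
  -- Step 7: irreducibility
  have huniv : closure ({ξ} : Set X) = Set.univ := by
    apply Set.eq_univ_of_univ_subset
    rw [← closure_closedPoints (X := X)]
    exact closure_minimal (fun x hx => hstep6 x hx) isClosed_closure
  haveI hXirr : IrreducibleSpace ↥X := by
    rw [irreducibleSpace_def, Set.top_eq_univ, ← huniv]; exact isIrreducible_singleton.closure
  refine ⟨hXirr, ?_⟩
  -- Step 8: dimension
  have hall' := fibreDimAt_ge_of_closedPoints f Set.univ isOpen_univ m
    (fun x _ hx => (hfd x (hclosed x hx)).ge)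
  obtain ⟨n0', hn1, hn2, hn3⟩ := GenFibDimH8.exists_nat f
  have hm1 : (m : WithBot ℕ∞) ≤ n0' := by
    rw [← hn2]; exact hall' _ trivial
  obtain ⟨c, -, hc⟩ := nonempty_inter_closedPoints (X := X) (Z := Set.univ) ⟨ξ, trivial⟩
    isOpen_univ.isLocallyClosed
  have hm2 : (n0' : WithBot ℕ∞) ≤ m := by
    rw [← hn1, ← hfd c (hclosed c hc)]; exact GenFibDimH8.generic_le f c
  have hmm : n0' = m := by exact_mod_cast le_antisymm hm2 hm1
  have h1 := Groth.Agent.IrrDimH8.topDim_eq_height_generic X (genericPoint ↥X)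
    (fun x' => genericPoint_specializes x')
  have h2 := Groth.Agent.IrrDimH8.topDim_eq_height_generic Y η
    (fun x' => genericPoint_specializes x')
  have h3 := height_fiberι k pY f (f (genericPoint ↥X)) (f.asFiber (genericPoint ↥X))
  rw [Scheme.Hom.fiberι_asFiber] at h3
  obtain ⟨r, hr, hhr⟩ := Groth.Agent.FibRes2H8.height_asFiber f (genericPoint ↥X)
  have hr' : Dual3.resTrdeg f (genericPoint ↥X) = r := hr
  rw [hn3] at hr'
  have hrn : n0' = r := by exact_mod_cast hr'
  rw [h1, h3, hhr, congrArg Order.height (GenFibDimH8.map_genericPoint f), h2, ← hrn, hmm]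
  push_cast
  rfl


theorem main14369 (k : Type u) [Field k]
    {X Y : Scheme.{u}} (qX : X ⟶ Spec (CommRingCat.of k)) (qY : Y ⟶ Spec (CommRingCat.of k))
    [LocallyOfFiniteType qX] [QuasiCompact qX] [LocallyOfFiniteType qY]
    (f : X ⟶ Y) (hf : f ≫ qY = qX) [IrreducibleSpace ↥Y] (hcl : IsClosedMap f.base) (d : ℕ)
    (hirr : ∀ y : ↥Y, IsClosed ({y} : Set ↥Y) → IsIrreducible (f.base ⁻¹' {y}))
    (hdim : ∀ y : ↥Y, IsClosed ({y} : Set ↥Y) → topologicalKrullDim ↥(f.base ⁻¹' {y}) = d) :
    IrreducibleSpace ↥X ∧ topologicalKrullDim ↥X = d + topologicalKrullDim ↥Y := by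
  haveI : IsLocallyNoetherian Y := LocallyOfFiniteType.isLocallyNoetherian qY
  haveI : JacobsonSpace ↥Y := LocallyOfFiniteType.jacobsonSpace qY
  haveI : CompactSpace ↥X := QuasiCompact.compactSpace_of_compactSpace qX
  haveI : QuasiCompact f := inferInstance
  have hsurj : Function.Surjective f := by
    have hclr : IsClosed (Set.range f) := hcl.isClosed_range
    have h1 : closedPoints ↥Y ⊆ Set.range f := by
      intro y hy
      obtain ⟨x, hx⟩ := (hirr y hy).nonempty
      exact ⟨x, hx⟩
    have h2 : closure (closedPoints ↥Y) ⊆ Set.range f := closure_minimal h1 hclr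
    rw [closure_closedPoints] at h2
    intro y
    exact h2 (Set.mem_univ y)
  have h := irred_of_closed_fibres k qX qY f hf hcl hsurj d
    (fun y hy => irreducibleSpace_of_range (f.fiberι y) (f.fiberι y).isEmbedding
      (by rw [Scheme.Hom.range_fiberι]; exact hirr y hy))
    (fun y hy => by
      rw [IsHomeomorph.topologicalKrullDim_eq _ (f.fiberHomeo y).isHomeomorph]
      exact hdim y hy)
  refine ⟨h.1, ?_⟩
  rw [h.2, add_comm]

end Groth.Agent.Lib.AffDimH8
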