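import Mathlib
import Groth.Agent.Lib.AffDim8_helper8

/-!
# A proper morphism from an irreducible scheme of large dimension with a finite fibre is
surjective
-/

set_option autoImplicit false

universe u

namespace Groth.Agent.Lib.AffDimH8

open AlgebraicGeometry CategoryTheory Limits

theorem main7798 (k : Type u) [Field k] {X Y : Scheme.{u}}
    (p : X ⟶ Spec (CommRingCat.of k)) (q : Y ⟶ Spec (CommRingCat.of k)) [IsProper p]
    [IsSeparated q] [LocallyOfFiniteType q]
    [IrreducibleSpace X] [IrreducibleSpace Y]
    (hdim : topologicalKrullDim Y ≤ topologicalKrullDim X)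
    (f : X ⟶ Y) (hf : f ≫ q = p) (y : Y) (hy : topologicalKrullDim ↥(f.fiber y) = 0) :
    Function.Surjective f ∧ topologicalKrullDim X = topologicalKrullDim Y := by
  haveI : IsProper (f ≫ q) := by rw [hf]; infer_instance
  haveI : IsProper f := IsProper.of_comp f q
  have hne : Nonempty ↥(f.fiber y) := by
    by_contra hcon
    rw [not_nonempty_iff] at hcon
    rw [TopDimLocH8.topDim_eq_bot_of_isEmpty] at hy
    exact absurd hy (by simp)
  obtain ⟨z⟩ := hne
  have h0 : FlatMor.fibreDimAt f (f.fiberι y z) ≤ ((0 : ℕ) : WithBot ℕ∞) := by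
    rw [← FieldExtH8.localDim_fiber_eq_fibreDimAt f y z _ rfl]
    refine (TopDimLocH8.localDim_le_topDim _ z).trans ?_
    rw [hy]; rfl
  have hopen := ChevH8.isOpen_fibreDimAt_le f 0
  have hξ : FlatMor.fibreDimAt f (genericPoint X) ≤ ((0 : ℕ) : WithBot ℕ∞) :=
    (genericPoint_specializes (f.fiberι y z)).mem_open hopen h0
  rw [FibCohH8.fibreDimAt_eq] at hξ
  obtain ⟨r, hr, hhr⟩ := Groth.Agent.FibRes2H8.height_asFiber f (genericPoint X)
  have hr' : Dual3.resTrdeg f (genericPoint X) = r := hr
  rw [hr', Cardinal.toENat_nat] at hξ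
  have hr0 : r = 0 := by
    have h1 : FibCohH8.fibCoh f (genericPoint X) + (r : ℕ∞) ≤ 0 := by exact_mod_cast hξ
    have h2 : (r : ℕ∞) ≤ 0 := le_trans le_add_self h1
    have h3 : r ≤ 0 := by exact_mod_cast h2
    omega
  have h1 := Groth.Agent.IrrDimH8.topDim_eq_height_generic X (genericPoint X)
    (fun x' => genericPoint_specializes x')
  have h2 := Groth.Agent.IrrDimH8.topDim_eq_height_generic Y (genericPoint Y)
    (fun x' => genericPoint_specializes x')
  have h3 := height_fiberι k q f (f (genericPoint X)) (f.asFiber (genericPoint X))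
  rw [Scheme.Hom.fiberι_asFiber, hhr, hr0] at h3
  simp only [Nat.cast_zero, add_zero] at h3
  obtain ⟨d, hd, -⟩ := exists_dim_nat_of_irreducible k Y q
  have h2' : Order.height (genericPoint Y) = (d : ℕ∞) := by
    rw [hd] at h2; exact_mod_cast h2.symm
  have hle : f (genericPoint X) ≤ genericPoint Y := genericPoint_specializes _
  have hη : f (genericPoint X) = genericPoint Y := by
    by_contra hne
    have hlt : f (genericPoint X) < genericPoint Y := lt_of_le_not_ge hle (fun hge =>
      hne ((Specializes.antisymm (show f (genericPoint X) ⤳ genericPoint Y from hge)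
        (genericPoint_specializes _)).eq))
    have hfin : Order.height (f (genericPoint X)) < ⊤ :=
      lt_of_le_of_lt (Order.height_mono hle) (by rw [h2']; exact ENat.natCast_lt_top d)
    have h4 := Order.height_strictMono hlt hfin
    rw [← h3] at h4
    rw [h1, h2] at hdim
    have h5 : Order.height (genericPoint Y) ≤ Order.height (genericPoint X) := by
      exact_mod_cast hdim
    exact absurd (lt_of_lt_of_le h4 h5) (lt_irrefl _)
  refine ⟨?_, ?_⟩
  · have hclr : IsClosed (Set.range f) := f.isClosedMap.isClosed_range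
    have h4 : closure {genericPoint Y} ⊆ Set.range f :=
      closure_minimal (Set.singleton_subset_iff.mpr ⟨genericPoint X, hη⟩) hclr
    intro y'
    exact h4 ((genericPoint_specializes y').mem_closure)
  · rw [h1, h2, h3, hη]

end Groth.Agent.Lib.AffDimH8
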