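import Mathlib
import Groth.Agent.Lib.AffDim9_helper8

/-!
# Dimension of the source of a morphism in terms of the loci of large fibre dimension
-/

set_option autoImplicit false

universe u

namespace Groth.Agent.Lib.AffDimH8

open AlgebraicGeometry CategoryTheory Limits TopologicalSpace

/-- points of the closure of the image of a closed set are specializations of image points. -/
theorem exists_specializes_of_mem_closure_image {T S : Type*} [TopologicalSpace T]
    [NoetherianSpace T] [QuasiSober T] [TopologicalSpace S] (π : T → S) (hπ : Continuous π)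
    (E : Set T) (hE : IsClosed E) (b : S) (hb : b ∈ closure (π '' E)) :
    ∃ e ∈ E, π e ⤳ b := by
  obtain ⟨F, hFfin, hFcl, hFirr, hEF⟩ := NoetherianSpace.exists_finite_set_isClosed_irreducible hE
  have h1 : π '' E = ⋃ t ∈ F, π '' t := by
    rw [hEF, Set.sUnion_eq_biUnion, Set.image_iUnion₂]
  rw [h1, hFfin.closure_biUnion] at hb
  obtain ⟨t, htF, hbt⟩ := Set.mem_iUnion₂.mp hb
  obtain ⟨e, he⟩ := QuasiSober.sober (hFirr t htF) (hFcl t htF)
  refine ⟨e, ?_, ?_⟩
  · rw [hEF]
    exact ⟨t, htF, he.mem⟩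
  · rw [specializes_iff_mem_closure]
    have h2 : π '' t ⊆ closure {π e} := by
      rw [← he.def]
      refine (image_closure_subset_closure_image hπ).trans ?_
      rw [Set.image_singleton]
    exact closure_minimal h2 isClosed_closure hbt

theorem height_le_topDim_closed {X : Scheme.{u}} (Z : Set X) (hZ : IsClosed Z) (b : X)
    (hb : b ∈ Z) : ((Order.height b : ℕ∞) : WithBot ℕ∞) ≤ topologicalKrullDim ↥Z := by
  rw [← dim_closure_subtype Z hZ ⟨b, hb⟩]
  exact topologicalKrullDim_subspace_le ↥Z _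

theorem topDim_closed_le {X : Scheme.{u}} (Z : Set X) (hZ : IsClosed Z) (N : WithBot ℕ∞)
    (h : ∀ b ∈ Z, ((Order.height b : ℕ∞) : WithBot ℕ∞) ≤ N) : topologicalKrullDim ↥Z ≤ N := by
  obtain ⟨Z', i, hi, hri⟩ := ProdGenH8.exists_closedImmersion_range X Z hZ
  haveI := hi
  let φ : ↥Z' ≃ₜ ↥Z :=
    (i.isClosedEmbedding.isEmbedding.toHomeomorph).trans (Homeomorph.setCongr hri)
  rw [← IsHomeomorph.topologicalKrullDim_eq _ φ.isHomeomorph,
    Groth.Agent.ClosHtH8.topologicalKrullDim_eq_iSup_height]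
  refine iSup_le fun z' => ?_
  rw [← height_eq_of_isClosedEmbedding i i.isClosedEmbedding z']
  exact h _ (by rw [← hri]; exact Set.mem_range_self z')


theorem natCast_lt_iff_add_one_le (a : WithBot ℕ∞) (j : ℕ) :
    (j : WithBot ℕ∞) < a ↔ ((j + 1 : ℕ) : WithBot ℕ∞) ≤ a := by
  induction a with
  | bot => simp
  | coe a' =>
    have h : (j : ℕ∞) < a' ↔ (j : ℕ∞) + 1 ≤ a' :=
      (ENat.add_one_le_iff (ENat.natCast_ne_top j)).symm
    constructor
    · intro h1
      have h2 : (j : ℕ∞) < a' := by exact_mod_cast h1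
      have h3 := h.mp h2
      exact_mod_cast h3
    · intro h1
      have h2 : (j : ℕ∞) + 1 ≤ a' := by exact_mod_cast h1
      have h3 := h.mpr h2
      exact_mod_cast h3

theorem topDim_closed_add_le {X : Scheme.{u}} (Z : Set X) (hZ : IsClosed Z) (j n : ℕ)
    (h : ∀ b ∈ Z, Order.height b + (j : ℕ∞) ≤ (n : ℕ∞)) :
    topologicalKrullDim ↥Z + (j : WithBot ℕ∞) ≤ (n : WithBot ℕ∞) := by
  by_cases hjn : j ≤ n
  · have h1 := topDim_closed_le Z hZ (((n - j : ℕ) : ℕ∞) : WithBot ℕ∞) (fun b hb => by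
      have h2 := h b hb
      have hne : Order.height b ≠ ⊤ :=
        ne_top_of_le_ne_top (ENat.natCast_ne_top n) (le_trans le_self_add h2)
      obtain ⟨a, ha⟩ := ENat.ne_top_iff_exists.mp hne
      rw [← ha] at h2 ⊢
      have h3 : a + j ≤ n := by exact_mod_cast h2
      have h4 : a ≤ n - j := by omega
      exact WithBot.coe_le_coe.mpr (by exact_mod_cast h4))
    calc topologicalKrullDim ↥Z + (j : WithBot ℕ∞)
        ≤ (((n - j : ℕ) : ℕ∞) : WithBot ℕ∞) + (j : WithBot ℕ∞) := add_le_add h1 le_rfl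
      _ = (n : WithBot ℕ∞) := by
          have : n - j + j = n := by omega
          exact_mod_cast this
  · have h1 : topologicalKrullDim ↥Z ≤ ⊥ := topDim_closed_le Z hZ ⊥ (fun b hb => by
      exfalso
      have h2 := h b hb
      have h3 : (j : ℕ∞) ≤ n := le_trans le_add_self h2
      exact hjn (by exact_mod_cast h3))
    rw [le_bot_iff.mp h1, WithBot.bot_add]
    exact bot_le

theorem fibreDimAt_nonneg {C X : Scheme.{u}} (π : C ⟶ X) [LocallyOfFiniteType π] (c : C) :
    ((0 : ℕ) : WithBot ℕ∞) ≤ FlatMor.fibreDimAt π c := by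
  rw [FibCohH8.fibreDimAt_eq, ← WithBot.coe_add]
  exact_mod_cast bot_le

theorem isClosed_fibreDimAt_ge {C X : Scheme.{u}} (π : C ⟶ X) [LocallyOfFiniteType π] (j : ℕ) :
    IsClosed {c : C | (j : WithBot ℕ∞) ≤ FlatMor.fibreDimAt π c} := by
  cases j with
  | zero =>
    convert isClosed_univ
    ext c
    simp only [Set.mem_ofPred_eq, Set.mem_univ, iff_true]
    exact fibreDimAt_nonneg π c
  | succ j' =>
    have h1 := ChevH8.isOpen_fibreDimAt_le π j'
    have h2 : {c : C | ((j' + 1 : ℕ) : WithBot ℕ∞) ≤ FlatMor.fibreDimAt π c} =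
        {c : C | FlatMor.fibreDimAt π c ≤ (j' : WithBot ℕ∞)}ᶜ := by
      ext c
      simp only [Set.mem_ofPred_eq, Set.mem_compl_iff, not_le]
      exact (natCast_lt_iff_add_one_le _ j').symm
    rw [h2]
    exact h1.isClosed_compl

theorem exists_fibreDimAt_ge {C X : Scheme.{u}} (π : C ⟶ X) [LocallyOfFiniteType π] (j : ℕ)
    (x : X) (hx : (j : WithBot ℕ∞) ≤ topologicalKrullDim ↥(π.fiber x)) :
    ∃ c : C, (j : WithBot ℕ∞) ≤ FlatMor.fibreDimAt π c ∧ π c = x := by
  cases j with
  | zero =>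
    have hne : Nonempty ↥(π.fiber x) := by
      by_contra hcon
      rw [not_nonempty_iff] at hcon
      rw [TopDimLocH8.topDim_eq_bot_of_isEmpty] at hx
      simp at hx
    obtain ⟨z⟩ := hne
    exact ⟨π.fiberι x z, fibreDimAt_nonneg π _, Groth.Agent.FibRes2H8.fiberι_mem π x z⟩
  | succ j' =>
    by_contra hcon
    push Not at hcon
    have h1 : topologicalKrullDim ↥(π.fiber x) ≤ (j' : WithBot ℕ∞) := by
      rw [TopDimLocH8.topDim_le_iff_forall_localDim]
      intro z
      rw [FieldExtH8.localDim_fiber_eq_fibreDimAt π x z _ rfl]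
      by_contra h2
      rw [not_le, natCast_lt_iff_add_one_le] at h2
      exact hcon _ h2 (Groth.Agent.FibRes2H8.fiberι_mem π x z)
    have h3 := hx.trans h1
    have : j' + 1 ≤ j' := by exact_mod_cast h3
    omega

theorem main14480 (k : Type u) [Field k] (C X : Scheme.{u})
    (q : X ⟶ Spec (CommRingCat.of k)) (π : C ⟶ X)
    [LocallyOfFiniteType q] [LocallyOfFiniteType π] [CompactSpace C] (n : ℕ) :
    topologicalKrullDim C ≤ n ↔
      ∀ j : ℕ, topologicalKrullDim
        (closure {x : X | (j : WithBot ℕ∞) ≤ topologicalKrullDim (π.fiber x)}) +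
        (j : WithBot ℕ∞) ≤ n := by
  haveI : IsLocallyNoetherian X := LocallyOfFiniteType.isLocallyNoetherian q
  haveI : IsLocallyNoetherian C := LocallyOfFiniteType.isLocallyNoetherian π
  haveI : IsNoetherian C := {}
  have hht : ∀ c : C, ((Order.height c : ℕ∞) : WithBot ℕ∞) ≤ topologicalKrullDim C := by
    intro c
    rw [Groth.Agent.ClosHtH8.topologicalKrullDim_eq_iSup_height]
    exact le_iSup (fun a : C => ((Order.height a : ℕ∞) : WithBot ℕ∞)) c
  constructor
  · intro hC j
    apply topDim_closed_add_le _ isClosed_closure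
    intro b hb
    have hBE : {x : X | (j : WithBot ℕ∞) ≤ topologicalKrullDim (π.fiber x)} ⊆
        π '' {c : C | (j : WithBot ℕ∞) ≤ FlatMor.fibreDimAt π c} := by
      intro x hx
      obtain ⟨c, hc1, hc2⟩ := exists_fibreDimAt_ge π j x hx
      exact ⟨c, hc1, hc2⟩
    obtain ⟨e, he, hsp⟩ := exists_specializes_of_mem_closure_image π π.continuous _
      (isClosed_fibreDimAt_ge π j) b (closure_mono hBE hb)
    have h1 : (j : WithBot ℕ∞) ≤ topologicalKrullDim ↥(π.fiber (π e)) :=
      le_trans he (TopDimLocH8.localDim_le_topDim _ _)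
    obtain ⟨z, hz⟩ := exists_height_ge (π.fiber (π e)) j h1
    have h2 := height_fiberι k q π (π e) z
    have h3 : Order.height (π.fiberι (π e) z) ≤ (n : ℕ∞) := by
      have := (hht (π.fiberι (π e) z)).trans hC
      exact_mod_cast this
    have h4 : Order.height b ≤ Order.height (π e) := Order.height_mono (show b ≤ π e from hsp)
    calc Order.height b + (j : ℕ∞) ≤ Order.height (π e) + Order.height z := add_le_add h4 hz
      _ = Order.height (π.fiberι (π e) z) := h2.symm
      _ ≤ n := h3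
  · intro H
    rw [Groth.Agent.ClosHtH8.topologicalKrullDim_eq_iSup_height]
    refine iSup_le fun c => ?_
    have h0 := height_fiberι k q π (π c) (π.asFiber c)
    rw [Scheme.Hom.fiberι_asFiber] at h0
    obtain ⟨r, -, hhr⟩ := Groth.Agent.FibRes2H8.height_asFiber π c
    have hmem : π c ∈ {x : X | (r : WithBot ℕ∞) ≤ topologicalKrullDim (π.fiber x)} := by
      change (r : WithBot ℕ∞) ≤ topologicalKrullDim (π.fiber (π c))
      rw [Groth.Agent.ClosHtH8.topologicalKrullDim_eq_iSup_height]
      refine le_trans ?_ (le_iSup (fun a : π.fiber (π c) =>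
        ((Order.height a : ℕ∞) : WithBot ℕ∞)) (π.asFiber c))
      rw [hhr]; rfl
    have h1 := height_le_topDim_closed _ isClosed_closure (π c) (subset_closure hmem)
    have h2 := H r
    rw [h0, hhr]
    calc ((Order.height (π c) + (r : ℕ∞) : ℕ∞) : WithBot ℕ∞)
        = ((Order.height (π c) : ℕ∞) : WithBot ℕ∞) + (r : WithBot ℕ∞) := by push_cast; rfl
      _ ≤ _ := add_le_add h1 le_rfl
      _ ≤ n := h2

end Groth.Agent.Lib.AffDimH8
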