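import Mathlib
import Groth.Agent.Lib.AffDim10_helper8
import Groth.Agent.Lib.OpenAtComp_helper8
import Groth.Agent.Lib.CodimZero_helper8

/-!
# Irreducibility of a pure-dimensional source with irreducible equidimensional closed fibres
-/

set_option autoImplicit false

universe u

namespace Groth.Agent.Lib.AffDimH8

open AlgebraicGeometry CategoryTheory Limits TopologicalSpace

/-- upper bounds for the fibre dimension propagate from closed points. -/
theorem fibreDimAt_le_of_closedPoints {T Y : Scheme.{u}} (g : T ⟶ Y) [LocallyOfFiniteType g]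
    [JacobsonSpace T] (m : ℕ)
    (h : ∀ x : T, IsClosed ({x} : Set T) → FlatMor.fibreDimAt g x ≤ (m : WithBot ℕ∞)) :
    ∀ x : T, FlatMor.fibreDimAt g x ≤ (m : WithBot ℕ∞) := by
  intro x
  by_contra hcon
  have hopen := ChevH8.isOpen_fibreDimAt_le g m
  obtain ⟨c, hc1, hc2⟩ := nonempty_inter_closedPoints
    (Z := {x' : T | FlatMor.fibreDimAt g x' ≤ (m : WithBot ℕ∞)}ᶜ) ⟨x, hcon⟩
    hopen.isClosed_compl.isLocallyClosed
  exact hc1 (h c hc2)

/-- a point specializing to the generic point with equal finite height is the generic point. -/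
theorem eq_genericPoint_of_height_ge {Y : Scheme.{u}} [IrreducibleSpace ↥Y] (y : Y) (dY : ℕ)
    (hη : Order.height (genericPoint ↥Y) = (dY : ℕ∞)) (hy : (dY : ℕ∞) ≤ Order.height y) :
    y = genericPoint ↥Y := by
  by_contra hne
  have hle : y ≤ genericPoint ↥Y := genericPoint_specializes y
  have hlt : y < genericPoint ↥Y := lt_of_le_not_ge hle (fun hge =>
    hne ((Specializes.antisymm (show y ⤳ genericPoint ↥Y from hge)
      (genericPoint_specializes _)).eq))
  have hfin : Order.height y < ⊤ :=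
    lt_of_le_of_lt (Order.height_mono hle) (by rw [hη]; exact ENat.natCast_lt_top dY)
  have h4 := Order.height_strictMono hlt hfin
  rw [hη] at h4
  exact absurd (lt_of_le_of_lt hy h4) (lt_irrefl _)


/-- a closed subscheme with large fibre dimension at a point over `y` contains the whole
(irreducible) fibre over `y`. -/
theorem preimage_subset_range_of_fibreDimAt_ge {X₂ X Y : Scheme.{u}} (i : X₂ ⟶ X)
    [IsClosedImmersion i] (f : X ⟶ Y) [LocallyOfFiniteType f]
    (y : Y) [IrreducibleSpace ↥(f.fiber y)] (d : ℕ)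
    (hdim : topologicalKrullDim ↥(f.fiber y) = d)
    (b : X₂) (hb : f (i b) = y) (hge : (d : WithBot ℕ∞) ≤ FlatMor.fibreDimAt (i ≫ f) b) :
    f ⁻¹' {y} ⊆ Set.range i := by
  obtain ⟨z', hz'⟩ : i b ∈ Set.range (f.fiberι y) := by
    rw [Scheme.Hom.range_fiberι]; exact hb
  obtain ⟨z, hz1, hz2⟩ := Scheme.Pullback.exists_preimage_pullback (f := i)
    (g := f.fiberι y) b z' hz'.symm
  have h1 := localDim_pullback_fiberι i f y z
  rw [hz1] at h1
  have h2 : (d : WithBot ℕ∞) ≤ topologicalKrullDim ↥(pullback i (f.fiberι y)) := by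
    refine le_trans ?_ (TopDimLocH8.localDim_le_topDim _ z)
    rw [h1]; exact hge
  have h3 := range_eq_univ_of_dim_ge (pullback.snd i (f.fiberι y)) d hdim h2
  rw [Scheme.Pullback.range_snd] at h3
  intro x hx
  obtain ⟨w, hw⟩ : x ∈ Set.range (f.fiberι y) := by
    rw [Scheme.Hom.range_fiberι]; exact hx
  have h4 : w ∈ (f.fiberι y) ⁻¹' Set.range i := by rw [h3]; trivial
  rw [← hw]; exact h4

theorem main14370 (k : Type u) [Field k]
    {X Y : Scheme.{u}} (qX : X ⟶ Spec (CommRingCat.of k)) (qY : Y ⟶ Spec (CommRingCat.of k))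
    [LocallyOfFiniteType qX] [QuasiCompact qX] [LocallyOfFiniteType qY]
    (f : X ⟶ Y) (hf : f ≫ qY = qX) [IrreducibleSpace ↥Y]
    (hpure : ∀ Z ∈ irreducibleComponents (↥X), topologicalKrullDim ↥Z = topologicalKrullDim ↥X)
    (d : ℕ)
    (hirr : ∀ y : ↥Y, IsClosed ({y} : Set ↥Y) → IsIrreducible (f.base ⁻¹' {y}))
    (hdim : ∀ y : ↥Y, IsClosed ({y} : Set ↥Y) → topologicalKrullDim ↥(f.base ⁻¹' {y}) = d) :
    IrreducibleSpace ↥X ∧ topologicalKrullDim ↥X = d + topologicalKrullDim ↥Y := by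
  haveI : LocallyOfFiniteType (f ≫ qY) := by rw [hf]; infer_instance
  haveI : LocallyOfFiniteType f := locallyOfFiniteType_of_comp f qY
  haveI : IsLocallyNoetherian Y := LocallyOfFiniteType.isLocallyNoetherian qY
  haveI : IsLocallyNoetherian X := LocallyOfFiniteType.isLocallyNoetherian qX
  haveI : JacobsonSpace ↥Y := LocallyOfFiniteType.jacobsonSpace qY
  haveI : JacobsonSpace ↥X := LocallyOfFiniteType.jacobsonSpace qX
  haveI : CompactSpace ↥X := QuasiCompact.compactSpace_of_compactSpace qX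
  haveI : QuasiCompact f := inferInstance
  have hirr' : ∀ y : ↥Y, IsClosed ({y} : Set ↥Y) → IrreducibleSpace ↥(f.fiber y) :=
    fun y hy => irreducibleSpace_of_range (f.fiberι y) (f.fiberι y).isEmbedding
      (by rw [Scheme.Hom.range_fiberι]; exact hirr y hy)
  have hdim' : ∀ y : ↥Y, IsClosed ({y} : Set ↥Y) → topologicalKrullDim ↥(f.fiber y) = d :=
    fun y hy => by
      rw [IsHomeomorph.topologicalKrullDim_eq _ (f.fiberHomeo y).isHomeomorph]
      exact hdim y hy
  haveI : IsDominant f := by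
    refine ⟨?_⟩
    rw [denseRange_iff_closure_range]
    apply Set.eq_univ_of_univ_subset
    rw [← closure_closedPoints (X := ↥Y)]
    apply closure_mono
    intro y hy
    obtain ⟨x, hx⟩ := (hirr y hy).nonempty
    exact ⟨x, hx⟩
  have hclosed : ∀ x : X, IsClosed ({x} : Set X) → IsClosed ({f x} : Set Y) :=
    fun x hx => f.closePoints_subset_preimage_closedPoints hx
  have hfd : ∀ x : X, IsClosed ({f x} : Set Y) → FlatMor.fibreDimAt f x = d := by
    intro x hx
    haveI := hirr' _ hx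
    exact localDim_fiber_of_irreducible f (f x) d (hdim' _ hx) _
  have hge := fibreDimAt_ge_of_closedPoints f Set.univ isOpen_univ d
    (fun x _ hx => (hfd x (hclosed x hx)).ge)
  have hle := fibreDimAt_le_of_closedPoints f d (fun x hx => (hfd x (hclosed x hx)).le)
  -- the dimension of `Y`
  obtain ⟨dY, hdY, -⟩ := exists_dim_nat_of_irreducible k Y qY
  set η := genericPoint ↥Y with hη
  have hηht : Order.height η = (dY : ℕ∞) := by
    have h2 := Groth.Agent.IrrDimH8.topDim_eq_height_generic Y η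
      (fun x' => genericPoint_specializes x')
    rw [hdY] at h2
    exact_mod_cast h2.symm
  -- heights of maximal points
  have hmaxht : ∀ ξ : X, closure ({ξ} : Set X) ∈ irreducibleComponents (X : Type u) →
      topologicalKrullDim ↥X = ((Order.height ξ : ℕ∞) : WithBot ℕ∞) := by
    intro ξ hξ
    rw [← hpure _ hξ]
    exact Groth.Agent.ClosHtH8.topologicalKrullDim_closure_singleton X ξ
  -- residual transcendence degrees are at most `d`
  have hres : ∀ ξ : X, ∃ r : ℕ, r ≤ d ∧ Dual3.resTrdeg f ξ = r ∧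
      Order.height ξ = Order.height (f ξ) + (r : ℕ∞) ∧
      FlatMor.fibreDimAt f ξ = ((FibCohH8.fibCoh f ξ + (r : ℕ∞) : ℕ∞) : WithBot ℕ∞) := by
    intro ξ
    obtain ⟨r, hr, hhr⟩ := Groth.Agent.FibRes2H8.height_asFiber f ξ
    have hr' : Dual3.resTrdeg f ξ = r := hr
    have h1 := FibCohH8.fibreDimAt_eq f ξ
    rw [hr', Cardinal.toENat_nat, ← WithBot.coe_add] at h1
    have h2 := hle ξ
    rw [h1] at h2
    have h3 : FibCohH8.fibCoh f ξ + (r : ℕ∞) ≤ (d : ℕ∞) := by exact_mod_cast h2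
    have h4 : (r : ℕ∞) ≤ d := le_trans le_add_self h3
    have h0 := height_fiberι k qY f (f ξ) (f.asFiber ξ)
    rw [Scheme.Hom.fiberι_asFiber, hhr] at h0
    exact ⟨r, by exact_mod_cast h4, hr', h0, h1⟩
  -- Step: a maximal point over the generic point
  have hηc : closure ({η} : Set Y) ∈ irreducibleComponents (Y : Type u) := by
    rw [genericPoint_closure, irreducibleComponents_eq_singleton]; rfl
  obtain ⟨ξ₁, hξ₁c, hξ₁η⟩ := GenLiftH8.exists_generic_lift f η hηc
  obtain ⟨r₁, hr₁d, hr₁, hht₁, hfd₁⟩ := hres ξ₁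
  have hξ₁max : ∀ z : X, z ⤳ ξ₁ → z = ξ₁ :=
    (Groth.Agent.SchFTH8.closure_mem_irreducibleComponents_iff ξ₁).mp hξ₁c
  have hr₁eq : r₁ = d := by
    have hcoh : FibCohH8.fibCoh f ξ₁ = 0 := by
      rw [CodimZeroH8.fibCoh_eq_coheight_of_isMax f ξ₁
        (by rw [hξ₁η]; exact GenFibDimH8.coheight_genericPoint Y)]
      rw [Order.coheight_eq_zero]
      intro z hz
      have := hξ₁max z hz
      rw [this]
    have h1 := hge ξ₁ trivial
    rw [hfd₁, hcoh, zero_add] at h1
    have h2 : (d : ℕ∞) ≤ r₁ := by exact_mod_cast h1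
    have h3 : d ≤ r₁ := by exact_mod_cast h2
    omega
  have hN : topologicalKrullDim ↥X = ((dY + d : ℕ) : WithBot ℕ∞) := by
    rw [hmaxht ξ₁ hξ₁c, hht₁, hξ₁η, hηht, hr₁eq]
    push_cast
    rfl
  -- every maximal point lies over the generic point with residual degree `d`
  have hall : ∀ ξ : X, closure ({ξ} : Set X) ∈ irreducibleComponents (X : Type u) →
      f ξ = η ∧ Dual3.resTrdeg f ξ = d := by
    intro ξ hξ
    obtain ⟨r, hrd, hr, hht, -⟩ := hres ξ
    have h1 := hmaxht ξ hξ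
    rw [hN, hht] at h1
    have h2 : ((dY + d : ℕ) : ℕ∞) = Order.height (f ξ) + (r : ℕ∞) := by exact_mod_cast h1
    have hne : Order.height (f ξ) ≠ ⊤ := by
      intro htop
      rw [htop, top_add] at h2
      exact ENat.natCast_ne_top _ h2
    obtain ⟨a, ha⟩ := ENat.ne_top_iff_exists.mp hne
    rw [← ha] at h2
    have h3 : dY + d = a + r := by exact_mod_cast h2
    have h4 : (dY : ℕ∞) ≤ Order.height (f ξ) := by
      rw [← ha]
      have : dY ≤ a := by omega
      exact_mod_cast this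
    have h5 := eq_genericPoint_of_height_ge (f ξ) dY hηht h4
    refine ⟨h5, ?_⟩
    rw [h5, hηht] at ha
    have h6 : a = dY := by exact_mod_cast ha
    have h7 : r = d := by omega
    rw [hr, h7]
  -- uniqueness of the maximal point
  have huniq : ∀ ξ₂ : X, closure ({ξ₂} : Set X) ∈ irreducibleComponents (X : Type u) →
      ξ₂ = ξ₁ := by
    intro ξ₂ hξ₂c
    by_contra hne
    obtain ⟨hξ₂η, hr₂⟩ := hall ξ₂ hξ₂c
    obtain ⟨X₂, i₂, hi₂, hri₂⟩ :=
      ProdGenH8.exists_closedImmersion_range X (closure {ξ₂}) isClosed_closure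
    haveI := hi₂
    haveI : IrreducibleSpace ↥X₂ :=
      irreducibleSpace_of_range i₂ i₂.isClosedEmbedding.isEmbedding
        (by rw [hri₂]; exact isIrreducible_singleton.closure)
    -- the generic point of `X₂` maps to `ξ₂`
    have hgen₂ : i₂ (genericPoint ↥X₂) = ξ₂ := by
      obtain ⟨ξ₂', hξ₂'⟩ : ξ₂ ∈ Set.range i₂ := by rw [hri₂]; exact subset_closure rfl
      have h1 : i₂ (genericPoint ↥X₂) ⤳ ξ₂ := by
        rw [← hξ₂']
        exact (genericPoint_specializes ξ₂').map i₂.continuous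
      exact (Groth.Agent.SchFTH8.closure_mem_irreducibleComponents_iff ξ₂).mp hξ₂c _ h1
    haveI : IsDominant (i₂ ≫ f) := by
      refine ⟨?_⟩
      rw [denseRange_iff_closure_range]
      apply Set.eq_univ_of_univ_subset
      rw [← genericPoint_closure (α := ↥Y)]
      apply closure_mono
      rw [Set.singleton_subset_iff]
      exact ⟨genericPoint ↥X₂, by rw [Scheme.Hom.comp_apply, hgen₂, hξ₂η]⟩
    obtain ⟨n0, hn0, -, hn0''⟩ := GenFibDimH8.exists_nat (i₂ ≫ f)
    rw [OpenAtCompH8.resTrdeg_closedImmersion_comp, hgen₂, hr₂] at hn0''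
    have hn0d : n0 = d := by exact_mod_cast hn0''.symm
    have hall₂ : ∀ x₂ : X₂, (d : WithBot ℕ∞) ≤ FlatMor.fibreDimAt (i₂ ≫ f) x₂ := fun x₂ => by
      rw [← hn0d, ← hn0]
      exact GenFibDimH8.generic_le (i₂ ≫ f) x₂
    -- the open complement
    let U : X.Opens := ⟨(closure ({ξ₂} : Set X))ᶜ, isClosed_closure.isOpen_compl⟩
    have hξ₁U : ξ₁ ∈ U := by
      intro hmem
      have h1 : ξ₂ ⤳ ξ₁ := specializes_iff_mem_closure.mpr hmem
      exact hne (hξ₁max ξ₂ h1)
    -- a point of the fibre product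
    obtain ⟨p₀, -, -⟩ := Scheme.Pullback.exists_preimage_pullback (f := U.ι ≫ f)
      (g := i₂ ≫ f) (⟨ξ₁, hξ₁U⟩ : ↥U) (genericPoint ↥X₂) (by
        rw [Scheme.Hom.comp_apply, Scheme.Hom.comp_apply, hgen₂, hξ₂η]
        exact hξ₁η)
    haveI : JacobsonSpace ↥(pullback (U.ι ≫ f) (i₂ ≫ f)) :=
      LocallyOfFiniteType.jacobsonSpace (pullback.snd (U.ι ≫ f) (i₂ ≫ f) ≫ i₂ ≫ qX)
    haveI : JacobsonSpace ↥X₂ := LocallyOfFiniteType.jacobsonSpace (i₂ ≫ qX)
    haveI : JacobsonSpace ↥(U : Scheme.{u}) := LocallyOfFiniteType.jacobsonSpace (U.ι ≫ qX)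
    obtain ⟨p, -, hp⟩ := nonempty_inter_closedPoints
      (X := ↥(pullback (U.ι ≫ f) (i₂ ≫ f))) (Z := Set.univ) ⟨p₀, trivial⟩
      isOpen_univ.isLocallyClosed
    have hb : IsClosed ({(pullback.snd (U.ι ≫ f) (i₂ ≫ f)) p} : Set X₂) :=
      (pullback.snd (U.ι ≫ f) (i₂ ≫ f)).closePoints_subset_preimage_closedPoints hp
    have hy : IsClosed ({(i₂ ≫ f) ((pullback.snd (U.ι ≫ f) (i₂ ≫ f)) p)} : Set Y) :=
      (i₂ ≫ f).closePoints_subset_preimage_closedPoints hb
    rw [Scheme.Hom.comp_apply] at hy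
    haveI := hirr' _ hy
    have hsub := preimage_subset_range_of_fibreDimAt_ge i₂ f _ d (hdim' _ hy)
      ((pullback.snd (U.ι ≫ f) (i₂ ≫ f)) p) rfl (hall₂ _)
    have hcond : (U.ι ≫ f) ((pullback.fst (U.ι ≫ f) (i₂ ≫ f)) p) =
        (i₂ ≫ f) ((pullback.snd (U.ι ≫ f) (i₂ ≫ f)) p) := by
      rw [← Scheme.Hom.comp_apply, ← Scheme.Hom.comp_apply, pullback.condition]
    rw [Scheme.Hom.comp_apply, Scheme.Hom.comp_apply] at hcond
    have hmem : U.ι ((pullback.fst (U.ι ≫ f) (i₂ ≫ f)) p) ∈ Set.range i₂ := hsub hcond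
    rw [hri₂] at hmem
    exact ((pullback.fst (U.ι ≫ f) (i₂ ≫ f)) p).2 hmem
  -- conclusion
  have huniv : closure ({ξ₁} : Set X) = Set.univ := by
    rw [Set.eq_univ_iff_forall]
    intro x
    have hirrc : IsIrreducible (irreducibleComponent x) := isIrreducible_irreducibleComponent
    have hgen := hirrc.isGenericPoint_genericPoint isClosed_irreducibleComponent
    have hc : closure ({hirrc.genericPoint} : Set X) ∈ irreducibleComponents (X : Type u) := by
      rw [hgen.def]
      exact irreducibleComponent_mem_irreducibleComponents x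
    rw [← huniq _ hc, hgen.def]
    exact mem_irreducibleComponent
  haveI hXirr : IrreducibleSpace ↥X := by
    rw [irreducibleSpace_def, Set.top_eq_univ, ← huniv]; exact isIrreducible_singleton.closure
  refine ⟨hXirr, ?_⟩
  rw [hN, hdY]
  push_cast
  rw [add_comm]

end Groth.Agent.Lib.AffDimH8
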