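import Mathlib
import Groth.Agent.Lib.AffDim11_helper8

/-!
# Components of the source of a morphism with irreducible equidimensional closed fibres
-/

set_option autoImplicit false

universe u

namespace Groth.Agent.Lib.AffDimH8

open AlgebraicGeometry CategoryTheory Limits TopologicalSpace

theorem fibCoh_eq_zero_of_isMax {U V : Scheme.{u}} (h : U ⟶ V) (u : U)
    (hu : ∀ z : U, z ⤳ u → z = u) : FibCohH8.fibCoh h u = 0 := by
  unfold FibCohH8.fibCoh
  rw [Order.coheight_eq_zero]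
  intro a ha
  have h1 : (a : U) ⤳ u := ha
  have h2 : (a : U) = u := hu _ h1
  have h3 : a = ⟨u, rfl⟩ := Subtype.ext h2
  rw [h3]

/-- fibre dimension is upper semicontinuous: it can only go up under specialization. -/
theorem fibreDimAt_le_of_specializes {T Y : Scheme.{u}} (g : T ⟶ Y) [LocallyOfFiniteType g]
    (m : ℕ) (x x' : T) (hsp : x ⤳ x') (h : (m : WithBot ℕ∞) ≤ FlatMor.fibreDimAt g x) :
    (m : WithBot ℕ∞) ≤ FlatMor.fibreDimAt g x' := by
  cases m with
  | zero => exact fibreDimAt_nonneg g x'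
  | succ m' =>
    by_contra hcon
    rw [← natCast_lt_iff_add_one_le, not_lt] at hcon
    have hopen := ChevH8.isOpen_fibreDimAt_le g m'
    have h1 : FlatMor.fibreDimAt g x ≤ (m' : WithBot ℕ∞) := hsp.mem_open hopen hcon
    have h2 := h.trans h1
    have : m' + 1 ≤ m' := by exact_mod_cast h2
    omega

/-- on an irreducible component `closure {ξ}` of `X` (as a closed subscheme `X₂`), the fibre
dimension of the restriction of `f` is at least `d` everywhere, and the residual transcendence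
degree at `ξ` is `d`. -/
theorem comp_fibreDimAt_ge {X Y : Scheme.{u}} (f : X ⟶ Y) [LocallyOfFiniteType f]
    [IsLocallyNoetherian X] [JacobsonSpace ↥X] [JacobsonSpace ↥Y] (d : ℕ)
    (hirr' : ∀ y : ↥Y, IsClosed ({y} : Set ↥Y) → IrreducibleSpace ↥(f.fiber y))
    (hdim' : ∀ y : ↥Y, IsClosed ({y} : Set ↥Y) → topologicalKrullDim ↥(f.fiber y) = d)
    (ξ : X) (hξ : closure ({ξ} : Set X) ∈ irreducibleComponents (X : Type u))
    {X₂ : Scheme.{u}} (i : X₂ ⟶ X) [IsClosedImmersion i] (hri : Set.range i = closure {ξ}) :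
    (∀ x₂ : X₂, (d : WithBot ℕ∞) ≤ FlatMor.fibreDimAt (i ≫ f) x₂) ∧
      Dual3.resTrdeg f ξ = d := by
  have hclosed : ∀ x : X, IsClosed ({x} : Set X) → IsClosed ({f x} : Set Y) :=
    fun x hx => f.closePoints_subset_preimage_closedPoints hx
  have hfd : ∀ x : X, IsClosed ({f x} : Set Y) → FlatMor.fibreDimAt f x = d := by
    intro x hx
    haveI := hirr' _ hx
    exact localDim_fiber_of_irreducible f (f x) d (hdim' _ hx) _
  have hle := fibreDimAt_le_of_closedPoints f d (fun x hx => (hfd x (hclosed x hx)).le)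
  haveI : IrreducibleSpace ↥X₂ :=
    irreducibleSpace_of_range i i.isClosedEmbedding.isEmbedding
      (by rw [hri]; exact isIrreducible_singleton.closure)
  haveI : JacobsonSpace ↥X₂ := JacobsonSpace.of_isClosedEmbedding i.isClosedEmbedding
  obtain ⟨o, ho, hone, hoC⟩ := NwDenseH8.exists_open_subset_component X (closure {ξ}) hξ
  have hstep4 : ∀ x₁ ∈ i ⁻¹' o, IsClosed ({x₁} : Set X₂) →
      (d : WithBot ℕ∞) ≤ FlatMor.fibreDimAt (i ≫ f) x₁ := by
    intro x₁ hx₁ hcl
    have hx : IsClosed ({i x₁} : Set X) := by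
      have := i.isClosedEmbedding.isClosedMap _ hcl
      rwa [Set.image_singleton] at this
    have hy := hclosed _ hx
    haveI := hirr' _ hy
    have hcov : (Set.univ : Set ↥(f.fiber (f (i x₁)))) ⊆
        (f.fiberι (f (i x₁))) ⁻¹' (closure {ξ}) ∪ (f.fiberι (f (i x₁))) ⁻¹' oᶜ := by
      intro z _
      by_cases hz : (f.fiberι _ z) ∈ o
      · left; exact hoC hz
      · right; exact hz
    have hpre := (IrreducibleSpace.isIrreducible_univ ↥(f.fiber (f (i x₁)))).isPreirreducible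
    rcases (isPreirreducible_iff_isClosed_union_isClosed.mp hpre) _ _
      (isClosed_closure.preimage (f.fiberι _).continuous)
      (ho.isClosed_compl.preimage (f.fiberι _).continuous) hcov with h1 | h1
    · have hsnd : Set.range (pullback.snd i (f.fiberι (f (i x₁)))) = Set.univ := by
        rw [Scheme.Pullback.range_snd, hri]
        exact Set.eq_univ_of_univ_subset h1
      obtain ⟨z, hz1, hz2⟩ := Scheme.Pullback.exists_preimage_pullback (f := i)
        (g := f.fiberι (f (i x₁))) x₁ (f.asFiber (i x₁)) (by rw [Scheme.Hom.fiberι_asFiber])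
      have h2 := localDim_pullback_fiberι i f (f (i x₁)) z
      rw [hz1] at h2
      rw [← h2]
      let φ : ↥(pullback i (f.fiberι (f (i x₁)))) ≃ₜ ↥(f.fiber (f (i x₁))) :=
        (pullback.snd i (f.fiberι (f (i x₁)))).isClosedEmbedding.isEmbedding.toHomeomorphOfSurjective
          (Set.range_eq_univ.mp hsnd)
      rw [← Groth.Agent.FibLocH8.localDim_homeomorph φ z,
        localDim_fiber_of_irreducible f _ d (hdim' _ hy)]
    · exfalso
      have h2 : f.asFiber (i x₁) ∈ (f.fiberι (f (i x₁))) ⁻¹' oᶜ := h1 (Set.mem_univ _)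
      rw [Set.mem_preimage, Scheme.Hom.fiberι_asFiber] at h2
      exact h2 hx₁
  have hstep5 := fibreDimAt_ge_of_closedPoints (i ≫ f) (i ⁻¹' o) (ho.preimage i.continuous) d
    hstep4
  have hgen₁ : genericPoint ↥X₂ ∈ i ⁻¹' o := by
    obtain ⟨c, hc⟩ := hone
    obtain ⟨c₁, hc₁⟩ : c ∈ Set.range i := by rw [hri]; exact hoC hc
    exact (genericPoint_specializes c₁).mem_open (ho.preimage i.continuous)
      (by rw [Set.mem_preimage, hc₁]; exact hc)
  have hgd := hstep5 _ hgen₁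
  refine ⟨fun x₂ => fibreDimAt_le_of_specializes (i ≫ f) d _ x₂ (genericPoint_specializes x₂) hgd,
    ?_⟩
  -- the residual transcendence degree
  have hξmax : ∀ z : X, z ⤳ ξ → z = ξ :=
    (Groth.Agent.SchFTH8.closure_mem_irreducibleComponents_iff ξ).mp hξ
  have hgen₂ : i (genericPoint ↥X₂) = ξ := by
    obtain ⟨ξ₂', hξ₂'⟩ : ξ ∈ Set.range i := by rw [hri]; exact subset_closure rfl
    have h1 : i (genericPoint ↥X₂) ⤳ ξ := by
      rw [← hξ₂']
      exact (genericPoint_specializes ξ₂').map i.continuous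
    exact hξmax _ h1
  have hcoh : FibCohH8.fibCoh (i ≫ f) (genericPoint ↥X₂) = 0 := by
    apply fibCoh_eq_zero_of_isMax
    intro z hz
    exact ((genericPoint_specializes z).antisymm hz).eq.symm
  obtain ⟨n, hn⟩ := Groth.Agent.ResQuot2H8.exists_trdeg_nat f ξ
  have hn' : Dual3.resTrdeg f ξ = (n : Cardinal.{u}) := hn
  rw [FibCohH8.fibreDimAt_eq, hcoh, OpenAtCompH8.resTrdeg_closedImmersion_comp, hgen₂, hn',
    Cardinal.toENat_nat] at hgd
  have h1 : (d : ℕ∞) ≤ (0 : ℕ∞) + (n : ℕ∞) := by exact_mod_cast hgd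
  rw [zero_add] at h1
  have h2 : d ≤ n := by exact_mod_cast h1
  have h3 := hle ξ
  rw [FibCohH8.fibreDimAt_eq, hn', Cardinal.toENat_nat, ← WithBot.coe_add] at h3
  have h4 : FibCohH8.fibCoh f ξ + (n : ℕ∞) ≤ (d : ℕ∞) := by exact_mod_cast h3
  have h5 : (n : ℕ∞) ≤ d := le_trans le_add_self h4
  have h6 : n ≤ d := by exact_mod_cast h5
  rw [hn']
  have : n = d := by omega
  rw [this]


/-- two maximal points with the same image, one of whose components has everywhere large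
fibre dimension, coincide. -/
theorem maximal_unique_of_fibreDimAt_ge (k : Type u) [Field k] {X Y : Scheme.{u}}
    (qX : X ⟶ Spec (CommRingCat.of k)) [LocallyOfFiniteType qX]
    (f : X ⟶ Y) [LocallyOfFiniteType f] [JacobsonSpace ↥Y] (d : ℕ)
    (hirr' : ∀ y : ↥Y, IsClosed ({y} : Set ↥Y) → IrreducibleSpace ↥(f.fiber y))
    (hdim' : ∀ y : ↥Y, IsClosed ({y} : Set ↥Y) → topologicalKrullDim ↥(f.fiber y) = d)
    (ξ₁ ξ₂ : X) (hξ₁max : ∀ z : X, z ⤳ ξ₁ → z = ξ₁) (h12 : f ξ₁ = f ξ₂)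
    {X₂ : Scheme.{u}} (i₂ : X₂ ⟶ X) [IsClosedImmersion i₂]
    (hri₂ : Set.range i₂ = closure {ξ₂})
    (hall₂ : ∀ x₂ : X₂, (d : WithBot ℕ∞) ≤ FlatMor.fibreDimAt (i₂ ≫ f) x₂) : ξ₂ = ξ₁ := by
  by_contra hne
  obtain ⟨ξ₂', hξ₂'⟩ : ξ₂ ∈ Set.range i₂ := by rw [hri₂]; exact subset_closure rfl
  let U : X.Opens := ⟨(closure ({ξ₂} : Set X))ᶜ, isClosed_closure.isOpen_compl⟩
  have hξ₁U : ξ₁ ∈ U := by
    intro hmem
    have h1 : ξ₂ ⤳ ξ₁ := specializes_iff_mem_closure.mpr hmem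
    exact hne (hξ₁max ξ₂ h1)
  obtain ⟨p₀, -, -⟩ := Scheme.Pullback.exists_preimage_pullback (f := U.ι ≫ f)
    (g := i₂ ≫ f) (⟨ξ₁, hξ₁U⟩ : ↥U) ξ₂' (by
      rw [Scheme.Hom.comp_apply, Scheme.Hom.comp_apply, hξ₂', ← h12]
      rfl)
  haveI : JacobsonSpace ↥(pullback (U.ι ≫ f) (i₂ ≫ f)) :=
    LocallyOfFiniteType.jacobsonSpace (pullback.snd (U.ι ≫ f) (i₂ ≫ f) ≫ i₂ ≫ qX)
  haveI : JacobsonSpace ↥X₂ := LocallyOfFiniteType.jacobsonSpace (i₂ ≫ qX)
  obtain ⟨p, -, hp⟩ := nonempty_inter_closedPoints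
    (X := ↥(pullback (U.ι ≫ f) (i₂ ≫ f))) (Z := Set.univ) ⟨p₀, trivial⟩
    isOpen_univ.isLocallyClosed
  have hb : IsClosed ({(pullback.snd (U.ι ≫ f) (i₂ ≫ f)) p} : Set X₂) :=
    (pullback.snd (U.ι ≫ f) (i₂ ≫ f)).closePoints_subset_preimage_closedPoints hp
  have hy : IsClosed ({(i₂ ≫ f) ((pullback.snd (U.ι ≫ f) (i₂ ≫ f)) p)} : Set Y) :=
    (i₂ ≫ f).closePoints_subset_preimage_closedPoints hb
  rw [Scheme.Hom.comp_apply] at hy
  haveI := hirr' _ hy
  have hsub := preimage_subset_range_of_fibreDimAt_ge i₂ f _ d (hdim' _ hy)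
    ((pullback.snd (U.ι ≫ f) (i₂ ≫ f)) p) rfl (hall₂ _)
  have hcond : (U.ι ≫ f) ((pullback.fst (U.ι ≫ f) (i₂ ≫ f)) p) =
      (i₂ ≫ f) ((pullback.snd (U.ι ≫ f) (i₂ ≫ f)) p) := by
    rw [← Scheme.Hom.comp_apply, ← Scheme.Hom.comp_apply, pullback.condition]
  rw [Scheme.Hom.comp_apply, Scheme.Hom.comp_apply] at hcond
  have hmem : U.ι ((pullback.fst (U.ι ≫ f) (i₂ ≫ f)) p) ∈ Set.range i₂ := hsub hcond
  rw [hri₂] at hmem
  exact ((pullback.fst (U.ι ≫ f) (i₂ ≫ f)) p).2 hmem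

theorem closure_image_closure_singleton {A B : Type*} [TopologicalSpace A] [TopologicalSpace B]
    (f : A → B) (hf : Continuous f) (a : A) :
    closure (f '' closure ({a} : Set A)) = closure {f a} := by
  apply le_antisymm
  · refine closure_minimal ?_ isClosed_closure
    refine (image_closure_subset_closure_image hf).trans ?_
    rw [Set.image_singleton]
  · apply closure_mono
    rw [Set.singleton_subset_iff]
    exact ⟨a, subset_closure rfl, rfl⟩

theorem main14378 (k : Type u) [Field k]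
    {X Y : Scheme.{u}} (qX : X ⟶ Spec (CommRingCat.of k)) (qY : Y ⟶ Spec (CommRingCat.of k))
    [LocallyOfFiniteType qX] [QuasiCompact qX] [LocallyOfFiniteType qY]
    (f : X ⟶ Y) (hf : f ≫ qY = qX) [IrreducibleSpace ↥Y] (d : ℕ)
    (hirr : ∀ y : ↥Y, IsClosed ({y} : Set ↥Y) → IsIrreducible (f.base ⁻¹' {y}))
    (hdim : ∀ y : ↥Y, IsClosed ({y} : Set ↥Y) → topologicalKrullDim ↥(f.base ⁻¹' {y}) = d) :
    (∃! Z : Set ↥X, Z ∈ irreducibleComponents ↥X ∧ Dense (f.base '' Z)) ∧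
      ∀ Z ∈ irreducibleComponents ↥X,
        (∀ y : ↥Y, IsClosed ({y} : Set ↥Y) → (f.base ⁻¹' {y} ∩ Z).Nonempty →
          f.base ⁻¹' {y} ⊆ Z) ∧
        topologicalKrullDim ↥Z = d + topologicalKrullDim ↥(closure (f.base '' Z)) := by
  haveI : LocallyOfFiniteType (f ≫ qY) := by rw [hf]; infer_instance
  haveI : LocallyOfFiniteType f := locallyOfFiniteType_of_comp f qY
  haveI : IsLocallyNoetherian Y := LocallyOfFiniteType.isLocallyNoetherian qY
  haveI : IsLocallyNoetherian X := LocallyOfFiniteType.isLocallyNoetherian qX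
  haveI : JacobsonSpace ↥Y := LocallyOfFiniteType.jacobsonSpace qY
  haveI : JacobsonSpace ↥X := LocallyOfFiniteType.jacobsonSpace qX
  haveI : CompactSpace ↥X := QuasiCompact.compactSpace_of_compactSpace qX
  haveI : QuasiCompact f := inferInstance
  have hirr' : ∀ y : ↥Y, IsClosed ({y} : Set ↥Y) → IrreducibleSpace ↥(f.fiber y) :=
    fun y hy => irreducibleSpace_of_range (f.fiberι y) (f.fiberι y).isEmbedding
      (by rw [Scheme.Hom.range_fiberι]; exact hirr y hy)
  have hdim' : ∀ y : ↥Y, IsClosed ({y} : Set ↥Y) → topologicalKrullDim ↥(f.fiber y) = d :=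
    fun y hy => by
      rw [IsHomeomorph.topologicalKrullDim_eq _ (f.fiberHomeo y).isHomeomorph]
      exact hdim y hy
  haveI : IsDominant f := by
    refine ⟨?_⟩
    rw [denseRange_iff_closure_range]
    apply Set.eq_univ_of_univ_subset
    rw [← closure_closedPoints (X := ↥Y)]
    apply closure_mono
    intro y hy
    obtain ⟨x, hx⟩ := (hirr y hy).nonempty
    exact ⟨x, hx⟩
  -- every component, as a scheme
  have hcomp : ∀ Z ∈ irreducibleComponents ↥X, ∃ ξ : X, Z = closure {ξ} ∧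
      (∀ z : X, z ⤳ ξ → z = ξ) ∧ Dual3.resTrdeg f ξ = d ∧
      ∃ (X₂ : Scheme.{u}) (i : X₂ ⟶ X), IsClosedImmersion i ∧ Set.range i = closure {ξ} ∧
        ∀ x₂ : X₂, (d : WithBot ℕ∞) ≤ FlatMor.fibreDimAt (i ≫ f) x₂ := by
    intro Z hZ
    obtain ⟨ξ, hξ⟩ := QuasiSober.sober hZ.1 (isClosed_of_mem_irreducibleComponents Z hZ)
    have hZeq : Z = closure {ξ} := hξ.def.symm
    have hξc : closure ({ξ} : Set X) ∈ irreducibleComponents (X : Type u) := hZeq ▸ hZ
    obtain ⟨X₂, i, hi, hri⟩ :=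
      ProdGenH8.exists_closedImmersion_range X (closure {ξ}) isClosed_closure
    haveI := hi
    obtain ⟨h1, h2⟩ := comp_fibreDimAt_ge f d hirr' hdim' ξ hξc i hri
    exact ⟨ξ, hZeq, (Groth.Agent.SchFTH8.closure_mem_irreducibleComponents_iff ξ).mp hξc, h2,
      X₂, i, hi, hri, h1⟩
  set η := genericPoint ↥Y with hη
  have hηc : closure ({η} : Set Y) ∈ irreducibleComponents (Y : Type u) := by
    rw [genericPoint_closure, irreducibleComponents_eq_singleton]; rfl
  obtain ⟨ξ₁, hξ₁c, hξ₁η⟩ := GenLiftH8.exists_generic_lift f η hηc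
  have hξ₁max : ∀ z : X, z ⤳ ξ₁ → z = ξ₁ :=
    (Groth.Agent.SchFTH8.closure_mem_irreducibleComponents_iff ξ₁).mp hξ₁c
  refine ⟨⟨closure {ξ₁}, ⟨hξ₁c, ?_⟩, ?_⟩, ?_⟩
  · rw [dense_iff_closure_eq, closure_image_closure_singleton f f.continuous, hξ₁η,
      genericPoint_closure]
  · rintro Z₂ ⟨hZ₂, hZ₂d⟩
    obtain ⟨ξ₂, hZ₂eq, hξ₂max, -, X₂, i₂, hi₂, hri₂, hall₂⟩ := hcomp Z₂ hZ₂
    haveI := hi₂
    rw [hZ₂eq, dense_iff_closure_eq, closure_image_closure_singleton f f.continuous] at hZ₂d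
    have h1 : f ξ₂ ⤳ η := by
      rw [specializes_iff_mem_closure, hZ₂d]; trivial
    have h2 : f ξ₂ = η := (h1.antisymm (genericPoint_specializes _)).eq
    have h3 := maximal_unique_of_fibreDimAt_ge k qX f d hirr' hdim' ξ₁ ξ₂ hξ₁max
      (by rw [hξ₁η, h2]) i₂ hri₂ hall₂
    rw [hZ₂eq, h3]
  · intro Z hZ
    obtain ⟨ξ, hZeq, hξmax, hres, X₂, i, hi, hri, hall⟩ := hcomp Z hZ
    haveI := hi
    refine ⟨?_, ?_⟩
    · intro y hy hne
      obtain ⟨b', hb'y, hb'Z⟩ := hne
      obtain ⟨b, hb⟩ : b' ∈ Set.range i := by rw [hri, ← hZeq]; exact hb'Z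
      haveI := hirr' y hy
      have h1 := preimage_subset_range_of_fibreDimAt_ge i f y d (hdim' y hy) b
        (by rw [hb]; exact hb'y) (hall b)
      rw [hri, ← hZeq] at h1
      exact h1
    · rw [hZeq, closure_image_closure_singleton f f.continuous,
        Groth.Agent.ClosHtH8.topologicalKrullDim_closure_singleton X ξ,
        Groth.Agent.ClosHtH8.topologicalKrullDim_closure_singleton Y (f ξ)]
      have h0 := height_fiberι k qY f (f ξ) (f.asFiber ξ)
      rw [Scheme.Hom.fiberι_asFiber] at h0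
      obtain ⟨r, hr, hhr⟩ := Groth.Agent.FibRes2H8.height_asFiber f ξ
      have hr' : Dual3.resTrdeg f ξ = r := hr
      rw [hres] at hr'
      have hrd : d = r := by exact_mod_cast hr'
      rw [h0, hhr, ← hrd, add_comm]
      push_cast
      rfl

end Groth.Agent.Lib.AffDimH8
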