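import Mathlib
import Groth.Prelude.Def_EGA43
import Groth.Agent.Lib.DimPrime_helper8
import Groth.Agent.Lib.DimPrime2_helper8
import Groth.Agent.Lib.Equi133b_helper8
import Groth.Agent.Lib.FieldGen_helper8

/-! Point-level relative dimension `relDim z ξ = dim (O_{X,z} / P_ξ)` and the dimension formula
in terms of points. -/

universe u
open AlgebraicGeometry CategoryTheory TopologicalSpace IsLocalRing

namespace RelDimH8

variable {X Y : Scheme.{u}}

/-- the prime of `O_{X,z}` attached to a generization `ξ` of `z`. -/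
noncomputable def primeOf (z ξ : X) (h : ξ ⤳ z) : Spec (X.presheaf.stalk z) :=
  (OpenAtDimH8.exists_fromSpecStalk_eq z h).choose

theorem fromSpecStalk_primeOf (z ξ : X) (h : ξ ⤳ z) :
    X.fromSpecStalk z (primeOf z ξ h) = ξ :=
  (OpenAtDimH8.exists_fromSpecStalk_eq z h).choose_spec

theorem specializes_fromSpecStalk (z : X) (P : Spec (X.presheaf.stalk z)) :
    X.fromSpecStalk z P ⤳ z := by
  have : X.fromSpecStalk z P ∈ Set.range (X.fromSpecStalk z) := ⟨P, rfl⟩
  rw [Scheme.range_fromSpecStalk] at this; exact this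

theorem primeOf_fromSpecStalk (z : X) (P : Spec (X.presheaf.stalk z))
    (h : X.fromSpecStalk z P ⤳ z) : primeOf z (X.fromSpecStalk z P) h = P :=
  (X.fromSpecStalk z).isEmbedding.injective (fromSpecStalk_primeOf _ _ _)

/-- `dim (O_{X,z} / P_ξ)`: the dimension of the closure of `ξ` localized at `z`. -/
noncomputable def relDim (z ξ : X) (h : ξ ⤳ z) : WithBot ℕ∞ :=
  ringKrullDim (X.presheaf.stalk z ⧸ (primeOf z ξ h).asIdeal)

theorem relDim_congr {z z' ξ ξ' : X} (hz : z = z') (hξ : ξ = ξ') (h : ξ ⤳ z) (h' : ξ' ⤳ z') :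
    relDim z ξ h = relDim z' ξ' h' := by
  subst hz hξ; rfl

theorem relDim_fromSpecStalk (z : X) (P : Spec (X.presheaf.stalk z))
    (h : X.fromSpecStalk z P ⤳ z) :
    relDim z (X.fromSpecStalk z P) h = ringKrullDim (X.presheaf.stalk z ⧸ P.asIdeal) := by
  unfold relDim; rw [primeOf_fromSpecStalk]

theorem relDim_ne_bot (z ξ : X) (h : ξ ⤳ z) : relDim z ξ h ≠ ⊥ := by
  unfold relDim
  haveI : Nontrivial (X.presheaf.stalk z ⧸ (primeOf z ξ h).asIdeal) :=
    Ideal.Quotient.nontrivial_iff.mpr (primeOf z ξ h).2.ne_top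
  intro hbot
  have := ringKrullDim_nonneg_of_nontrivial
    (R := X.presheaf.stalk z ⧸ (primeOf z ξ h).asIdeal)
  rw [hbot] at this
  exact absurd this (by simp)

theorem relDim_le (z ξ : X) (h : ξ ⤳ z) : relDim z ξ h ≤ ringKrullDim (X.presheaf.stalk z) :=
  ringKrullDim_quotient_le _

theorem relDim_self (z : X) : relDim z z specializes_rfl = 0 := by
  have h1 : X.fromSpecStalk z (closedPoint (X.presheaf.stalk z)) = z :=
    Scheme.fromSpecStalk_closedPoint
  rw [relDim_congr rfl h1.symm specializes_rfl (specializes_fromSpecStalk z _),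
    relDim_fromSpecStalk]
  change ringKrullDim (X.presheaf.stalk z ⧸ maximalIdeal (X.presheaf.stalk z)) = 0
  exact ringKrullDim_eq_zero_of_isField
    ((Ideal.Quotient.maximal_ideal_iff_isField_quotient _).mp inferInstance)

/-- image of the relative dimension datum. -/
theorem relDim_map (f : X ⟶ Y) (z : X) (P : Spec (X.presheaf.stalk z))
    (h : f.base (X.fromSpecStalk z P) ⤳ f.base z) :
    relDim (f.base z) (f.base (X.fromSpecStalk z P)) h =
      ringKrullDim (Y.presheaf.stalk (f.base z) ⧸ P.asIdeal.comap (f.stalkMap z).hom) := by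
  have h1 := OpenAtDimH8.map_fromSpecStalk f z P
  rw [relDim_congr rfl h1 h (specializes_fromSpecStalk _ _), relDim_fromSpecStalk]
  rfl

/-- **Dimension formula, point form** (universally catenary base). -/
theorem formula [IsLocallyNoetherian Y] (f : X ⟶ Y) [LocallyOfFiniteType f] (z ξ : X)
    (h : ξ ⤳ z) (hcat : CAlg.IsUniversallyCatenary (Y.presheaf.stalk (f.base z))) (n E : ℕ)
    (hn : Dual3.resTrdeg f z = n) (hE : Dual3.resTrdeg f ξ = E) :
    relDim z ξ h + n = relDim (f.base z) (f.base ξ) (h.map f.continuous) + E := by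
  obtain ⟨P, rfl⟩ := OpenAtDimH8.exists_fromSpecStalk_eq z h
  rw [relDim_fromSpecStalk, relDim_map]
  exact DimPrimeH8.dim_formula_prime f z P hcat n E hn hE

/-- **Dimension inequality, point form**. -/
theorem ineq [IsLocallyNoetherian Y] (f : X ⟶ Y) [LocallyOfFiniteType f] (z ξ : X)
    (h : ξ ⤳ z) (n E : ℕ)
    (hn : Dual3.resTrdeg f z = n) (hE : Dual3.resTrdeg f ξ = E) :
    relDim z ξ h + n ≤ relDim (f.base z) (f.base ξ) (h.map f.continuous) + E := by
  obtain ⟨P, rfl⟩ := OpenAtDimH8.exists_fromSpecStalk_eq z h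
  rw [relDim_fromSpecStalk, relDim_map]
  exact DimPrimeH8.dim_ineq_prime f z P n E hn hE

/-- a maximal generization computing the dimension of the local ring. -/
theorem exists_max_relDim_eq [IsLocallyNoetherian X] (z : X) :
    ∃ (ξ : X) (h : ξ ⤳ z), (∀ b : X, b ⤳ ξ → b = ξ) ∧
      relDim z ξ h = ringKrullDim (X.presheaf.stalk z) := by
  obtain ⟨𝔭, h𝔭, hdim⟩ := Equi133H8.exists_minimalPrimes_dim_eq (X.presheaf.stalk z)
  let P : Spec (X.presheaf.stalk z) := ⟨𝔭, h𝔭.1.1⟩
  refine ⟨X.fromSpecStalk z P, specializes_fromSpecStalk z P,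
    Equi133H8.isMax_fromSpecStalk z P h𝔭, ?_⟩
  rw [relDim_fromSpecStalk]
  exact hdim

/-- `dim O_{X,x} ≤ dim O_{Y,y} + dim O_{X_y,x}`. -/
theorem dim_stalk_le [IsLocallyNoetherian X] [IsLocallyNoetherian Y] (f : X ⟶ Y) (x : X) :
    ringKrullDim (X.presheaf.stalk x) ≤
      ringKrullDim (Y.presheaf.stalk (f.base x)) +
        ringKrullDim ((f.fiber (f.base x)).presheaf.stalk (f.asFiber x)) := by
  letI : Algebra (Y.presheaf.stalk (f.base x)) (X.presheaf.stalk x) :=
    (f.stalkMap x).hom.toAlgebra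
  haveI : IsLocalHom (algebraMap (Y.presheaf.stalk (f.base x)) (X.presheaf.stalk x)) :=
    inferInstanceAs (IsLocalHom (f.stalkMap x).hom)
  have key := Groth.Agent.FibDim.dim_le (A := Y.presheaf.stalk (f.base x))
    (B := X.presheaf.stalk x)
  refine key.trans (le_of_eq ?_)
  congr 1
  exact OpenAtDimH8.dim_quot_eq f x

open Groth.Agent.FibStalkDimH8 in
theorem map_eq_of_fibIdeal_le (f : X ⟶ Y) (z : X) (Q : Spec (X.presheaf.stalk z))
    (hQ : fibIdeal f z ≤ Q.asIdeal) : f.base (X.fromSpecStalk z Q) = f.base z := by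
  rw [OpenAtDimH8.map_fromSpecStalk]
  have h2 : (Spec.map (f.stalkMap z)).base Q = closedPoint (Y.presheaf.stalk (f.base z)) := by
    apply PrimeSpectrum.ext
    change Ideal.comap (f.stalkMap z).hom Q.asIdeal = maximalIdeal _
    have hle : maximalIdeal (Y.presheaf.stalk (f.base z)) ≤
        Ideal.comap (f.stalkMap z).hom Q.asIdeal := by
      rw [← Ideal.map_le_iff_le_comap]; exact hQ
    have hprime : (Ideal.comap (f.stalkMap z).hom Q.asIdeal).IsPrime := Ideal.comap_isPrime _ _
    exact ((IsLocalRing.maximalIdeal.isMaximal _).eq_of_le hprime.ne_top hle).symm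
  rw [h2, Scheme.fromSpecStalk_closedPoint]

open Groth.Agent.FibStalkDimH8 in
theorem fibIdeal_le_of_map_eq (f : X ⟶ Y) (z : X) (Q : Spec (X.presheaf.stalk z))
    (h : f.base (X.fromSpecStalk z Q) = f.base z) : fibIdeal f z ≤ Q.asIdeal := by
  have h1 : f.base (X.fromSpecStalk z Q) =
      Y.fromSpecStalk (f.base z) (closedPoint (Y.presheaf.stalk (f.base z))) := by
    rw [h, Scheme.fromSpecStalk_closedPoint]
  have h2 := OpenAtDimH8.comap_eq_of_map_eq f z Q _ h1
  rw [fibIdeal, Ideal.map_le_iff_le_comap, h2]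
  rfl

/-- If `z` is the only point of its fibre between `ξ` and `z`, then
`dim (O_{X,z}/P_ξ) ≤ dim O_{Y,f z}`. -/
theorem relDim_le_of_fibre_min [IsLocallyNoetherian X] [IsLocallyNoetherian Y] (f : X ⟶ Y)
    (z ξ : X) (h : ξ ⤳ z)
    (hmin : ∀ w : X, ξ ⤳ w → w ⤳ z → f.base w = f.base z → w = z) :
    relDim z ξ h ≤ ringKrullDim (Y.presheaf.stalk (f.base z)) := by
  obtain ⟨P, rfl⟩ := OpenAtDimH8.exists_fromSpecStalk_eq z h
  rw [relDim_fromSpecStalk]
  have hPle : P.asIdeal ≤ maximalIdeal (X.presheaf.stalk z) :=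
    IsLocalRing.le_maximalIdeal P.2.ne_top
  haveI : Nontrivial (X.presheaf.stalk z ⧸ P.asIdeal) := Groth.Agent.FibDim.nontrivial_quot hPle
  haveI : IsLocalRing (X.presheaf.stalk z ⧸ P.asIdeal) :=
    Groth.Agent.FibDim.isLocalRing_quot hPle
  let φ : Y.presheaf.stalk (f.base z) →+* X.presheaf.stalk z ⧸ P.asIdeal :=
    (Ideal.Quotient.mk P.asIdeal).comp (f.stalkMap z).hom
  letI : Algebra (Y.presheaf.stalk (f.base z)) (X.presheaf.stalk z ⧸ P.asIdeal) := φ.toAlgebra
  haveI : IsLocalHom (algebraMap (Y.presheaf.stalk (f.base z))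
      (X.presheaf.stalk z ⧸ P.asIdeal)) := by
    constructor
    intro a ha
    have h1 : IsUnit (Ideal.Quotient.mk P.asIdeal ((f.stalkMap z).hom a)) := ha
    have h2 := Groth.Agent.FibDim.isUnit_of_isUnit_mk hPle h1
    exact isUnit_of_map_unit (f.stalkMap z).hom a h2
  have key := Groth.Agent.FibDim.dim_le (A := Y.presheaf.stalk (f.base z))
    (B := X.presheaf.stalk z ⧸ P.asIdeal)
  have hzero : ringKrullDim ((X.presheaf.stalk z ⧸ P.asIdeal) ⧸
      (maximalIdeal (Y.presheaf.stalk (f.base z))).map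
        (algebraMap (Y.presheaf.stalk (f.base z)) (X.presheaf.stalk z ⧸ P.asIdeal))) = 0 := by
    apply FieldGenH8.dim_quot_eq_zero
    · exact Groth.Agent.FibDim.map_le_maximalIdeal le_rfl
    · intro Q hQ hle
      let Q' : Spec (X.presheaf.stalk z) :=
        ⟨Q.comap (Ideal.Quotient.mk P.asIdeal), Ideal.comap_isPrime _ _⟩
      have hPQ' : P.asIdeal ≤ Q'.asIdeal := by
        intro b hb
        change Ideal.Quotient.mk P.asIdeal b ∈ Q
        rw [Ideal.Quotient.eq_zero_iff_mem.mpr hb]; exact Q.zero_mem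
      have hw1 : X.fromSpecStalk z P ⤳ X.fromSpecStalk z Q' :=
        (OpenAtDimH8.fromSpecStalk_specializes_iff z P Q').mpr hPQ'
      have hw2 := specializes_fromSpecStalk z Q'
      have hw3 : f.base (X.fromSpecStalk z Q') = f.base z := by
        apply map_eq_of_fibIdeal_le
        rw [Groth.Agent.FibStalkDimH8.fibIdeal, Ideal.map_le_iff_le_comap]
        intro a ha
        change Ideal.Quotient.mk P.asIdeal ((f.stalkMap z).hom a) ∈ Q
        apply hle
        exact Ideal.mem_map_of_mem _ ha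
      have h4 := hmin _ hw1 hw2 hw3
      have hQ'c : Q' = closedPoint (X.presheaf.stalk z) :=
        (X.fromSpecStalk z).isEmbedding.injective
          (h4.trans Scheme.fromSpecStalk_closedPoint.symm)
      have h5 : Q.comap (Ideal.Quotient.mk P.asIdeal) = maximalIdeal (X.presheaf.stalk z) :=
        congrArg PrimeSpectrum.asIdeal hQ'c
      apply le_antisymm (IsLocalRing.le_maximalIdeal hQ.ne_top)
      intro t ht
      obtain ⟨b, rfl⟩ := Ideal.Quotient.mk_surjective t
      have hb : b ∈ maximalIdeal (X.presheaf.stalk z) := by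
        rw [IsLocalRing.mem_maximalIdeal] at ht ⊢
        intro hbu
        exact ht (hbu.map _)
      rw [← h5] at hb
      exact hb
  rw [hzero, add_zero] at key
  exact key

end RelDimH8
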