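import Mathlib
import Groth.Agent.Lib.AffDim12_helper8
import Groth.Agent.Lib.RelDim_helper8

/-!
# Heights of points versus dimensions of quotients of local rings; image of a proper morphism
with an isolated point in a fibre
-/

set_option autoImplicit false

universe u

namespace Groth.Agent.Lib.AffDimH8

open AlgebraicGeometry CategoryTheory Limits TopologicalSpace

/-- `dim (O_{X,z} / P_ξ) ≤ dim closure {ξ}`. -/
theorem relDim_le_height {X : Scheme.{u}} (z ξ : X) (h : ξ ⤳ z) :
    RelDimH8.relDim z ξ h ≤ ((Order.height ξ : ℕ∞) : WithBot ℕ∞) := by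
  unfold RelDimH8.relDim
  have hφP := RelDimH8.fromSpecStalk_primeOf z ξ h
  generalize RelDimH8.primeOf z ξ h = P at hφP ⊢
  rw [ringKrullDim_quotient, Order.height_eq_krullDim_Iic, ← Order.krullDim_orderDual]
  let A : (PrimeSpectrum.zeroLocus
      ((P.asIdeal : Ideal (X.presheaf.stalk z)) : Set (X.presheaf.stalk z)))ᵒᵈ → Set.Iic ξ :=
    fun Q => ⟨X.fromSpecStalk z (OrderDual.ofDual Q).1, by
      have h1 : X.fromSpecStalk z P ⤳ X.fromSpecStalk z (OrderDual.ofDual Q).1 :=
        (OpenAtDimH8.fromSpecStalk_specializes_iff z P _).mpr (OrderDual.ofDual Q).2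
      rw [hφP] at h1
      exact h1⟩
  apply Order.krullDim_le_of_strictMono A
  intro a b hab
  have hab' : (OrderDual.ofDual b).1 < (OrderDual.ofDual a).1 := hab
  rw [lt_iff_le_not_ge] at hab' ⊢
  refine ⟨?_, ?_⟩
  · change X.fromSpecStalk z (OrderDual.ofDual b).1 ⤳ X.fromSpecStalk z (OrderDual.ofDual a).1
    rw [OpenAtDimH8.fromSpecStalk_specializes_iff]
    exact hab'.1
  · intro hcon
    have hcon' : X.fromSpecStalk z (OrderDual.ofDual a).1 ⤳
        X.fromSpecStalk z (OrderDual.ofDual b).1 := hcon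
    rw [OpenAtDimH8.fromSpecStalk_specializes_iff] at hcon'
    exact hab'.2 hcon'

/-- the height of `ξ` is bounded by the supremum of `dim (O_{X,z} / P_ξ)`. -/
theorem height_le_of_relDim_le {X : Scheme.{u}} (ξ : X) (N : ℕ∞)
    (hN : ∀ (z : X) (h : ξ ⤳ z), RelDimH8.relDim z ξ h ≤ (N : WithBot ℕ∞)) :
    Order.height ξ ≤ N := by
  rw [Order.height_le_iff]
  intro p hp
  have hz0 : ξ ⤳ p.head := by
    have h1 : p.head ≤ p.last := LTSeries.head_le_last p
    exact (h1.trans hp : p.head ≤ ξ)
  have h2 := hN p.head hz0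
  unfold RelDimH8.relDim at h2
  rw [ringKrullDim_quotient, ← Order.krullDim_orderDual] at h2
  have hφP := RelDimH8.fromSpecStalk_primeOf p.head ξ hz0
  -- the series in the dual of the zero locus
  have hsp : ∀ i : Fin (p.length + 1), p i ⤳ p.head := by
    intro i
    have : p.head ≤ p i := p.monotone (Fin.zero_le i)
    exact this
  have hle : ∀ i : Fin (p.length + 1), ξ ⤳ p i := by
    intro i
    have h1 : p i ≤ p.last := p.monotone (Fin.le_last i)
    exact (h1.trans hp : p i ≤ ξ)
  let q : LTSeries (PrimeSpectrum.zeroLocus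
      ((RelDimH8.primeOf p.head ξ hz0).asIdeal : Set (X.presheaf.stalk p.head)))ᵒᵈ :=
    { length := p.length
      toFun := fun i => OrderDual.toDual ⟨RelDimH8.primeOf p.head (p i) (hsp i), by
        rw [PrimeSpectrum.mem_zeroLocus]
        change (RelDimH8.primeOf p.head ξ hz0).asIdeal ≤
          (RelDimH8.primeOf p.head (p i) (hsp i)).asIdeal
        rw [← OpenAtDimH8.fromSpecStalk_specializes_iff, hφP,
          RelDimH8.fromSpecStalk_primeOf]
        exact hle i⟩
      step := fun i => by
        have hlt : p i.castSucc < p i.succ := p.step i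
        change (⟨RelDimH8.primeOf p.head (p i.succ) (hsp _), _⟩ : PrimeSpectrum.zeroLocus _) <
          ⟨RelDimH8.primeOf p.head (p i.castSucc) (hsp _), _⟩
        rw [lt_iff_le_not_ge] at hlt ⊢
        refine ⟨?_, ?_⟩
        · change (RelDimH8.primeOf p.head (p i.succ) (hsp _)).asIdeal ≤
            (RelDimH8.primeOf p.head (p i.castSucc) (hsp _)).asIdeal
          rw [← OpenAtDimH8.fromSpecStalk_specializes_iff, RelDimH8.fromSpecStalk_primeOf,
            RelDimH8.fromSpecStalk_primeOf]
          exact hlt.1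
        · intro hcon
          have hcon' : (RelDimH8.primeOf p.head (p i.castSucc) (hsp _)).asIdeal ≤
            (RelDimH8.primeOf p.head (p i.succ) (hsp _)).asIdeal := hcon
          rw [← OpenAtDimH8.fromSpecStalk_specializes_iff, RelDimH8.fromSpecStalk_primeOf,
            RelDimH8.fromSpecStalk_primeOf] at hcon'
          exact hlt.2 hcon' }
  have h3 := (Order.LTSeries.length_le_krullDim q).trans h2
  have h4 : ((p.length : ℕ∞) : WithBot ℕ∞) ≤ (N : WithBot ℕ∞) := h3
  exact_mod_cast h4


/-- a point isolated in its fibre has fibre dimension zero. -/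
theorem fibreDimAt_le_zero_of_isolated {X Y : Scheme.{u}} (π : X ⟶ Y) (x : X)
    (hx : ∃ U : X.Opens, x ∈ U ∧ ∀ x' ∈ U, π x' = π x → x' = x) :
    FlatMor.fibreDimAt π x ≤ ((0 : ℕ) : WithBot ℕ∞) := by
  obtain ⟨U, hxU, hU⟩ := hx
  unfold FlatMor.fibreDimAt FlatMor.localDim
  let V : TopologicalSpace.Opens ↥(π.fiber (π x)) :=
    ⟨(π.fiberι (π x)) ⁻¹' (U : Set X), U.2.preimage (π.fiberι (π x)).continuous⟩
  have hxV : π.asFiber x ∈ V := by
    change (π.fiberι (π x)) (π.asFiber x) ∈ U
    rw [Scheme.Hom.fiberι_asFiber]; exact hxU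
  refine (iInf_le _ (⟨V, hxV⟩ :
    {W : TopologicalSpace.Opens ↥(π.fiber (π x)) // π.asFiber x ∈ W})).trans ?_
  have hsub : Subsingleton ↥(V : Set ↥(π.fiber (π x))) := by
    refine ⟨fun a b => ?_⟩
    have ha : (π.fiberι (π x)) a.1 = x :=
      hU _ a.2 (Groth.Agent.FibRes2H8.fiberι_mem π (π x) a.1)
    have hb : (π.fiberι (π x)) b.1 = x :=
      hU _ b.2 (Groth.Agent.FibRes2H8.fiberι_mem π (π x) b.1)
    exact Subtype.ext ((π.fiberι (π x)).isEmbedding.injective (ha.trans hb.symm))
  haveI : DiscreteTopology ↥(V : Set ↥(π.fiber (π x))) := inferInstance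
  exact topologicalKrullDim_zero_of_discreteTopology _

theorem main17653
    (X Y : Scheme.{u}) [IsLocallyNoetherian X] [IsLocallyNoetherian Y] (π : X ⟶ Y) [IsProper π]
    (d : WithBot ℕ∞) (hX : ∀ Z ∈ irreducibleComponents ↥X, topologicalKrullDim ↥Z = d)
    (hY : ∀ Z ∈ irreducibleComponents ↥Y, topologicalKrullDim ↥Z = d)
    (x : ↥X) (hx : ∃ U : X.Opens, x ∈ U ∧ ∀ x' ∈ U, π x' = π x → x' = x) :
    topologicalKrullDim ↥(Set.range (fun z : ↥X => π z)) = topologicalKrullDim ↥Y := by
  apply le_antisymm (topologicalKrullDim_subspace_le ↥Y _)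
  -- `dim Y ≤ d`
  have hYd : topologicalKrullDim ↥Y ≤ d := by
    rw [Groth.Agent.ClosHtH8.topologicalKrullDim_eq_iSup_height]
    refine iSup_le fun y => ?_
    have hirrc : IsIrreducible (irreducibleComponent y) := isIrreducible_irreducibleComponent
    have hgen := hirrc.isGenericPoint_genericPoint isClosed_irreducibleComponent
    have h1 := hY _ (irreducibleComponent_mem_irreducibleComponents y)
    rw [← hgen.def, Groth.Agent.ClosHtH8.topologicalKrullDim_closure_singleton Y] at h1
    rw [← h1]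
    have h2 : hirrc.genericPoint ⤳ y := by
      rw [specializes_iff_mem_closure, hgen.def]
      exact mem_irreducibleComponent
    exact WithBot.coe_le_coe.mpr (Order.height_mono (show y ≤ hirrc.genericPoint from h2))
  refine hYd.trans ?_
  -- the component of `X` through `x`
  have hirrc : IsIrreducible (irreducibleComponent x) := isIrreducible_irreducibleComponent
  have hgen := hirrc.isGenericPoint_genericPoint isClosed_irreducibleComponent
  set ξ := hirrc.genericPoint with hξ
  have h1 := hX _ (irreducibleComponent_mem_irreducibleComponents x)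
  rw [← hgen.def, Groth.Agent.ClosHtH8.topologicalKrullDim_closure_singleton X] at h1
  have hξx : ξ ⤳ x := by
    rw [specializes_iff_mem_closure, hgen.def]
    exact mem_irreducibleComponent
  -- quasi-finiteness at `ξ`
  have h0 := fibreDimAt_le_zero_of_isolated π x hx
  have hopen := ChevH8.isOpen_fibreDimAt_le π 0
  have hξ0 : FlatMor.fibreDimAt π ξ ≤ ((0 : ℕ) : WithBot ℕ∞) := hξx.mem_open hopen h0
  obtain ⟨E, hE⟩ := Groth.Agent.ResQuot2H8.exists_trdeg_nat π ξ
  have hE' : Dual3.resTrdeg π ξ = (E : Cardinal.{u}) := hE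
  have hE0 : E = 0 := by
    rw [FibCohH8.fibreDimAt_eq, hE', Cardinal.toENat_nat, ← WithBot.coe_add] at hξ0
    have h2 : FibCohH8.fibCoh π ξ + (E : ℕ∞) ≤ 0 := by exact_mod_cast hξ0
    have h3 : (E : ℕ∞) ≤ 0 := le_trans le_add_self h2
    have h4 : E ≤ 0 := by exact_mod_cast h3
    omega
  -- heights
  have hht : Order.height ξ ≤ Order.height (π ξ) := by
    apply height_le_of_relDim_le
    intro z hz
    obtain ⟨n, hn⟩ := Groth.Agent.ResQuot2H8.exists_trdeg_nat π z
    have hn' : Dual3.resTrdeg π z = (n : Cardinal.{u}) := hn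
    have h2 := RelDimH8.ineq π z ξ hz n E hn' hE'
    rw [hE0] at h2
    have h3 := relDim_le_height (π z) (π ξ) (hz.map π.continuous)
    have h4 : RelDimH8.relDim z ξ hz ≤ RelDimH8.relDim z ξ hz + (n : WithBot ℕ∞) :=
      le_add_of_nonneg_right (by exact_mod_cast bot_le)
    refine h4.trans (h2.trans ?_)
    simpa using h3
  have hcl : IsClosed (Set.range (fun z : ↥X => π z)) := π.isClosedMap.isClosed_range
  have h5 := height_le_topDim_closed _ hcl (π ξ) ⟨ξ, rfl⟩
  rw [← h1]
  exact (WithBot.coe_le_coe.mpr hht).trans h5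

end Groth.Agent.Lib.AffDimH8
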