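import Mathlib

/-! A constructible set containing all generizations of a point is a neighbourhood of it. -/

universe u
open AlgebraicGeometry CategoryTheory TopologicalSpace Topology

namespace ConsNhdsH8

theorem mem_nhds_of_isConstructible {R : Type u} [CommRing R] {E : Set (PrimeSpectrum R)}
    (hE : IsConstructible E) (y : PrimeSpectrum R) (hy : ∀ z, z ⤳ y → z ∈ E) : E ∈ nhds y := by
  obtain ⟨S, _, g, hg⟩ := PrimeSpectrum.exists_range_eq_of_isConstructible hE.compl
  have hnot : y ∉ closure Eᶜ := by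
    intro hcl
    rw [← hg, PrimeSpectrum.closure_range_comap, PrimeSpectrum.mem_zeroLocus] at hcl
    have hle : RingHom.ker g ≤ y.asIdeal := hcl
    obtain ⟨q, hq, hqy⟩ := Ideal.exists_minimalPrimes_le hle
    obtain ⟨q', hq'prime, -, hq'⟩ := Ideal.exists_comap_eq_of_mem_minimalPrimes g (I := ⊥) q
      (by rw [← RingHom.ker_eq_comap_bot]; exact hq)
    let z : PrimeSpectrum R := ⟨q, hq.1.1⟩
    have hz : z ∈ Eᶜ := by
      rw [← hg]
      refine ⟨⟨q', hq'prime⟩, ?_⟩
      ext1
      exact hq'
    have hzy : z ⤳ y := (PrimeSpectrum.le_iff_specializes z y).mp hqy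
    exact hz (hy z hzy)
  have hopen : IsOpen (closure Eᶜ)ᶜ := isClosed_closure.isOpen_compl
  refine Filter.mem_of_superset (hopen.mem_nhds hnot) ?_
  intro a ha
  by_contra hne
  exact ha (subset_closure hne)

end ConsNhdsH8

namespace ConsNhdsH8

theorem mem_nhds_of_isLocallyConstructible {Y : Scheme.{u}} {E : Set Y}
    (hE : IsLocallyConstructible E) (y : Y) (hy : ∀ z : Y, z ⤳ y → z ∈ E) : E ∈ nhds y := by
  obtain ⟨_, ⟨U, hU, rfl⟩, hyU, -⟩ :=
    Y.isBasis_affineOpens.exists_subset_of_mem_open (Set.mem_univ y) isOpen_univ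
  have hU' : IsAffineOpen U := hU
  let j := hU'.fromSpec
  have hj : Topology.IsOpenEmbedding j.base := j.isOpenEmbedding
  have hyr : y ∈ Set.range j.base := by rw [hU'.range_fromSpec]; exact hyU
  obtain ⟨y', rfl⟩ := hyr
  have hE' : IsLocallyConstructible (j.base ⁻¹' E) := hE.preimage_of_isOpenEmbedding hj
  have hE'' : IsConstructible (j.base ⁻¹' E) := hE'.isConstructible
  have h1 := mem_nhds_of_isConstructible (R := Γ(Y, U)) hE'' y' (by
    intro z hz
    exact hy _ (hz.map j.continuous))
  have h2 := hj.isOpenMap.image_mem_nhds h1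
  refine Filter.mem_of_superset h2 ?_
  rintro _ ⟨a, ha, rfl⟩
  exact ha

end ConsNhdsH8
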