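import Mathlib
import Groth.Agent.Lib.AffDim13_helper8
import Groth.Agent.Lib.ConsNhds_helper8

/-!
# Dimension of the image of a morphism of finite type k-schemes; preimages of closed sets of
large local codimension
-/

set_option autoImplicit false

universe u

namespace Groth.Agent.Lib.AffDimH8

open AlgebraicGeometry CategoryTheory Limits TopologicalSpace Topology

/-- the dimension of the closure of `f ξ` is at most the dimension of the image of `f`. -/
theorem height_map_le_topDim_range (k : Type u) [Field k] {S X : Scheme.{u}}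
    (pS : S ⟶ Spec (CommRingCat.of k)) (pX : X ⟶ Spec (CommRingCat.of k))
    [LocallyOfFiniteType pS] [QuasiCompact pS] [LocallyOfFiniteType pX] [QuasiCompact pX]
    (f : S ⟶ X) (hf : f ≫ pX = pS) (ξ : S) :
    ((Order.height (f ξ) : ℕ∞) : WithBot ℕ∞) ≤ topologicalKrullDim ↥(Set.range f) := by
  haveI : LocallyOfFiniteType (f ≫ pX) := by rw [hf]; infer_instance
  haveI : LocallyOfFiniteType f := locallyOfFiniteType_of_comp f pX
  haveI : IsLocallyNoetherian X := LocallyOfFiniteType.isLocallyNoetherian pX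
  haveI : IsLocallyNoetherian S := LocallyOfFiniteType.isLocallyNoetherian pS
  haveI : CompactSpace ↥S := QuasiCompact.compactSpace_of_compactSpace pS
  haveI : CompactSpace ↥X := QuasiCompact.compactSpace_of_compactSpace pX
  haveI : IsNoetherian S := {}
  haveI : QuasiCompact f := inferInstance
  -- the closure of `f ξ` as a scheme
  obtain ⟨W', iW, hiW, hriW⟩ :=
    ProdGenH8.exists_closedImmersion_range X (closure {f ξ}) isClosed_closure
  haveI := hiW
  haveI : IrreducibleSpace ↥W' :=
    irreducibleSpace_of_range iW iW.isClosedEmbedding.isEmbedding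
      (by rw [hriW]; exact isIrreducible_singleton.closure)
  set ω := genericPoint ↥W' with hω
  have hωf : iW ω = f ξ := by
    obtain ⟨ω', hω'⟩ : f ξ ∈ Set.range iW := by rw [hriW]; exact subset_closure rfl
    have h1 : iW ω ⤳ f ξ := by
      rw [← hω']
      exact (genericPoint_specializes ω').map iW.continuous
    have h2 : f ξ ⤳ iW ω := by
      rw [specializes_iff_mem_closure, ← hriW]
      exact Set.mem_range_self ω
    exact (h1.antisymm h2).eq
  -- constructibility
  have hcons1 : IsConstructible (closure ({ξ} : Set S)) := by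
    rw [← isConstructible_compl]
    exact (NoetherianSpace.isCompact _).isConstructible isClosed_closure.isOpen_compl
  have hcons2 : IsConstructible (f '' closure ({ξ} : Set S)) := f.isConstructible_image hcons1
  have hcons3 : IsConstructible (iW ⁻¹' (f '' closure ({ξ} : Set S))) :=
    iW.isConstructible_preimage hcons2
  have hnhds := ConsNhdsH8.mem_nhds_of_isLocallyConstructible hcons3.isLocallyConstructible ω
    (by
      intro z hz
      have : z = ω := ((genericPoint_specializes z).antisymm hz).eq.symm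
      rw [this]
      change iW ω ∈ f '' closure {ξ}
      rw [hωf]
      exact ⟨ξ, subset_closure rfl, rfl⟩)
  obtain ⟨V, hVsub, hVo, hωV⟩ := mem_nhds_iff.mp hnhds
  -- the local dimension at the generic point
  letI ov : W'.Over (Spec (CommRingCat.of k)) := ⟨iW ≫ pX⟩
  haveI : LocallyOfFiniteType (W' ↘ Spec (CommRingCat.of k)) :=
    inferInstanceAs (LocallyOfFiniteType (iW ≫ pX))
  have hloc := LocDimProdH8.localDim_eq k W' ω
  rw [GenFibDimH8.coheight_genericPoint, zero_add,
    ← height_eq_of_isClosedEmbedding iW iW.isClosedEmbedding ω, hωf] at hloc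
  rw [← hloc]
  have h1 : FlatMor.localDim ↥W' ω ≤ topologicalKrullDim ↥V := by
    unfold FlatMor.localDim
    exact iInf_le _ (⟨⟨V, hVo⟩, hωV⟩ : {U : TopologicalSpace.Opens ↥W' // ω ∈ U})
  refine h1.trans ?_
  -- `V` embeds in the range of `f`
  let g : ↥V → ↥(Set.range f) := fun v => ⟨iW v.1, by
    obtain ⟨a, -, ha⟩ := hVsub v.2
    exact ⟨a, ha⟩⟩
  have hg : Topology.IsInducing g := by
    have h2 : Topology.IsInducing (Subtype.val ∘ g) := by
      have : (Subtype.val ∘ g) = iW ∘ Subtype.val := rfl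
      rw [this]
      exact iW.isClosedEmbedding.isEmbedding.isInducing.comp Topology.IsInducing.subtypeVal
    exact Topology.IsInducing.of_comp (continuous_induced_rng.mpr h2.continuous)
      continuous_subtype_val h2
  exact hg.topologicalKrullDim_le


theorem main14901 (k : Type u) [Field k] (S X : Scheme.{u})
    (pS : S ⟶ Spec (CommRingCat.of k)) (pX : X ⟶ Spec (CommRingCat.of k))
    [LocallyOfFiniteType pS] [QuasiCompact pS] [LocallyOfFiniteType pX] [QuasiCompact pX]
    (f : S ⟶ X) (hf : f ≫ pX = pS) (Z : Set X) (hZ : IsClosed Z)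
    (h : ∀ s : S, f.base s ∈ Z →
      topologicalKrullDim (Set.range f.base) + 1 ≤ ringKrullDim (S.presheaf.stalk s)) :
    f.base ⁻¹' Z = ∅ := by
  haveI : LocallyOfFiniteType (f ≫ pX) := by rw [hf]; infer_instance
  haveI : LocallyOfFiniteType f := locallyOfFiniteType_of_comp f pX
  by_contra hne
  obtain ⟨s₀, hs₀⟩ := Set.nonempty_iff_ne_empty.mpr hne
  have hC : IsClosed (f.base ⁻¹' Z) := hZ.preimage f.continuous
  obtain ⟨c, -, hcmax⟩ := exists_generic (f.base ⁻¹' Z) hC
    (irreducibleComponent (⟨s₀, hs₀⟩ : ↥(f.base ⁻¹' Z)))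
    (irreducibleComponent_mem_irreducibleComponents _)
  have hs := h c.1 c.2
  rw [AlgebraicGeometry.ringKrullDim_stalk_eq_coheight] at hs
  letI ovS : S.Over (Spec (CommRingCat.of k)) := ⟨pS⟩
  haveI : LocallyOfFiniteType (S ↘ Spec (CommRingCat.of k)) := ‹LocallyOfFiniteType pS›
  obtain ⟨ξ, hξs, hξmax, hξht⟩ := LocDimProdH8.exists_max_height_eq k S c.1
  -- heights along `f`
  obtain ⟨rξ, hrξ, hhrξ⟩ := Groth.Agent.FibRes2H8.height_asFiber f ξ
  have h0ξ := height_fiberι k pX f (f ξ) (f.asFiber ξ)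
  rw [Scheme.Hom.fiberι_asFiber, hhrξ] at h0ξ
  obtain ⟨rs, hrs, hhrs⟩ := Groth.Agent.FibRes2H8.height_asFiber f c.1
  have h0s := height_fiberι k pX f (f c.1) (f.asFiber c.1)
  rw [Scheme.Hom.fiberι_asFiber, hhrs] at h0s
  -- `rξ ≤ rs`
  have hrξ' : Dual3.resTrdeg f ξ = rξ := hrξ
  have hrs' : Dual3.resTrdeg f c.1 = rs := hrs
  have h1 : ((rξ : ℕ) : WithBot ℕ∞) ≤ FlatMor.fibreDimAt f ξ := by
    rw [FibCohH8.fibreDimAt_eq, hrξ', Cardinal.toENat_nat, ← WithBot.coe_add]
    exact WithBot.coe_le_coe.mpr le_add_self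
  have h2 := fibreDimAt_le_of_specializes f rξ ξ c.1 hξs h1
  have hcoh : FibCohH8.fibCoh f c.1 = 0 := by
    unfold FibCohH8.fibCoh
    rw [Order.coheight_eq_zero]
    intro a ha
    have h3 : (a : S) ⤳ c.1 := ha
    have h4 : (a : S) ∈ f.base ⁻¹' Z := by
      change f.base a.1 ∈ Z
      rw [a.2]; exact c.2
    have h5 : (a : S) = c.1 := hcmax _ h4 h3
    have h6 : a = ⟨c.1, rfl⟩ := Subtype.ext h5
    rw [h6]
  rw [FibCohH8.fibreDimAt_eq, hcoh, hrs', Cardinal.toENat_nat] at h2
  have hrr : rξ ≤ rs := by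
    have : (rξ : ℕ∞) ≤ (0 : ℕ∞) + (rs : ℕ∞) := by exact_mod_cast h2
    rw [zero_add] at this
    exact_mod_cast this
  -- finiteness
  obtain ⟨a, -, ha⟩ := Groth.Agent.HtTrdegH8.height_eq_trdeg k S c.1
  have hne1 : Order.height (f ξ) ≠ ⊤ := by
    intro htop
    have h3 : Order.height ξ = ⊤ := by rw [h0ξ, htop, top_add]
    obtain ⟨b, -, hb⟩ := Groth.Agent.HtTrdegH8.height_eq_trdeg k S ξ
    rw [hb] at h3
    exact ENat.natCast_ne_top _ h3
  obtain ⟨b, hb⟩ := ENat.ne_top_iff_exists.mp hne1
  have hne2 : Order.coheight c.1 ≠ ⊤ := by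
    intro htop
    rw [htop, top_add] at hξht
    obtain ⟨b', -, hb'⟩ := Groth.Agent.HtTrdegH8.height_eq_trdeg k S ξ
    rw [hb'] at hξht
    exact ENat.natCast_ne_top _ hξht
  obtain ⟨e, he⟩ := ENat.ne_top_iff_exists.mp hne2
  have hne3 : Order.height (f c.1) ≠ ⊤ := by
    intro htop
    rw [htop, top_add, ha] at h0s
    exact ENat.natCast_ne_top _ h0s
  obtain ⟨g, hg⟩ := ENat.ne_top_iff_exists.mp hne3
  rw [h0ξ, ← hb, ← he, ha] at hξht
  rw [ha, ← hg] at h0s
  have e1 : b + rξ = e + a := by exact_mod_cast hξht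
  have e2 : a = g + rs := by exact_mod_cast h0s
  have e3 : e ≤ b := by omega
  -- the contradiction
  have h7 := height_map_le_topDim_range k pS pX f hf ξ
  rw [← hb] at h7
  rw [← he] at hs
  have h8 : ((b : ℕ) : WithBot ℕ∞) + 1 ≤ ((e : ℕ) : WithBot ℕ∞) :=
    (add_le_add h7 le_rfl).trans hs
  have h9 : b + 1 ≤ e := by exact_mod_cast h8
  omega

end Groth.Agent.Lib.AffDimH8
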