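import Mathlib
import Groth.Agent.Lib.AffDim14_helper8

/-!
# A closed irreducible subset of the source of a dominant morphism, of the dimension of the
target, with dense image
-/

set_option autoImplicit false

universe u

namespace Groth.Agent.Lib.AffDimH8

open AlgebraicGeometry CategoryTheory Limits TopologicalSpace Topology

theorem main14514 (k : Type u) [Field k] {X Y : Scheme.{u}}
    (qX : X ⟶ Spec (CommRingCat.of k)) (qY : Y ⟶ Spec (CommRingCat.of k))
    [LocallyOfFiniteType qX] [QuasiCompact qX] [LocallyOfFiniteType qY] [IrreducibleSpace Y]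
    (f : X ⟶ Y) (hf : f ≫ qY = qX) [IsDominant f] :
    ∃ Z : Set X, IsClosed Z ∧ IsIrreducible Z ∧ topologicalKrullDim ↥Z = topologicalKrullDim Y ∧
      Dense (f '' Z) := by
  haveI : LocallyOfFiniteType (f ≫ qY) := by rw [hf]; infer_instance
  haveI : LocallyOfFiniteType f := locallyOfFiniteType_of_comp f qY
  haveI : IsLocallyNoetherian Y := LocallyOfFiniteType.isLocallyNoetherian qY
  haveI : CompactSpace ↥X := QuasiCompact.compactSpace_of_compactSpace qX
  haveI : QuasiCompact f := inferInstance
  set η := genericPoint ↥Y with hη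
  obtain ⟨x₀, hx₀⟩ := GenLiftH8.mem_range_of_generic f η
    (fun w hw => ((genericPoint_specializes w).antisymm hw).eq.symm)
  -- a closed point of the generic fibre
  haveI : JacobsonSpace ↥(f.fiber η) := inferInstance
  have hne : (Set.univ : Set ↥(f.fiber η)).Nonempty := by
    obtain ⟨z₀, -⟩ : x₀ ∈ Set.range (f.fiberι η) := by
      rw [Scheme.Hom.range_fiberι]; exact hx₀
    exact ⟨z₀, trivial⟩
  obtain ⟨z, -, hz⟩ := nonempty_inter_closedPoints hne isOpen_univ.isLocallyClosed
  have hz0 : Order.height z = 0 := by
    rw [Order.height_eq_zero]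
    intro w hw
    have h1 : z ⤳ w := hw
    have h2 : w ∈ closure ({z} : Set ↥(f.fiber η)) := h1.mem_closure
    have hcl : IsClosed ({z} : Set ↥(f.fiber η)) := hz
    rw [hcl.closure_eq, Set.mem_singleton_iff] at h2
    rw [h2]
  have hht := height_fiberι k qY f η z
  rw [hz0, add_zero] at hht
  refine ⟨closure {f.fiberι η z}, isClosed_closure, isIrreducible_singleton.closure, ?_, ?_⟩
  · rw [Groth.Agent.ClosHtH8.topologicalKrullDim_closure_singleton X, hht]
    exact (Groth.Agent.IrrDimH8.topDim_eq_height_generic Y η
      (fun x' => genericPoint_specializes x')).symm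
  · rw [dense_iff_closure_eq, closure_image_closure_singleton f f.continuous,
      Groth.Agent.FibRes2H8.fiberι_mem f η z, genericPoint_closure]

end Groth.Agent.Lib.AffDimH8
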