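import Mathlib
import Groth.Agent.Lib.AffDim15_helper8
import Groth.Agent.Lib.LqfLocus_helper8

/-!
# Finite morphisms to the fibre of an affine space of the right dimension are surjective
-/

set_option autoImplicit false

universe u

namespace Groth.Agent.Lib.AffDimH8

open AlgebraicGeometry CategoryTheory Limits TopologicalSpace Topology

/-- The fibres of an affine space of relative dimension `e` have dimension `e`. -/
theorem affineSpace_fiber_dim (Y : Scheme.{u}) (y : Y) (e : ℕ) :
    topologicalKrullDim ↥((𝔸(ULift.{u} (Fin e); Y) ↘ Y).fiber y) = e := by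
  have h : IsPullback ((𝔸(ULift.{u} (Fin e); Y) ↘ Y).fiberι y)
      ((𝔸(ULift.{u} (Fin e); Y) ↘ Y).fiberToSpecResidueField y)
      (𝔸(ULift.{u} (Fin e); Y) ↘ Y) (Y.fromSpecResidueField y) := IsPullback.of_hasPullback _ _
  let φ := (h.isoIsPullback _ _ (AffineSpace.isPullback_map (n := ULift.{u} (Fin e))
    (Y.fromSpecResidueField y))) ≪≫
      (AffineSpace.SpecIso (ULift.{u} (Fin e)) (.of (Y.residueField y)))
  have h1 := IsHomeomorph.topologicalKrullDim_eq _ (Scheme.homeoOfIso φ).isHomeomorph
  rw [h1]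
  change topologicalKrullDim (PrimeSpectrum (MvPolynomial (ULift.{u} (Fin e)) (Y.residueField y)))
    = e
  rw [PrimeSpectrum.topologicalKrullDim_eq_ringKrullDim,
    MvPolynomial.ringKrullDim_of_isNoetherianRing, ringKrullDim_eq_zero_of_field]
  simp

theorem height_asFiber_eq_zero {P Q : Scheme.{u}} (p : P ⟶ Q) [LocallyOfFiniteType p] (x : P)
    (h : FlatMor.fibreDimAt p x = 0) : Order.height (p.asFiber x) = 0 := by
  letI ovZ : (p.fiber (p x)).Over (Spec (CommRingCat.of (Q.residueField (p x)))) :=
    ⟨p.fiberToSpecResidueField (p x)⟩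
  haveI : LocallyOfFiniteType (p.fiber (p x) ↘ Spec (CommRingCat.of (Q.residueField (p x)))) :=
    Groth.Agent.FibRes2H8.lft_fiber p (p x)
  have h1 := LocDimProdH8.localDim_eq (Q.residueField (p x)) (p.fiber (p x)) (p.asFiber x)
  have h2 : FlatMor.localDim ↥(p.fiber (p x)) (p.asFiber x) = 0 := h
  rw [h2] at h1
  have h3 : Order.coheight (p.asFiber x) + Order.height (p.asFiber x) = 0 := by
    exact_mod_cast h1.symm
  exact (add_eq_zero.mp h3).2

/-- A locally quasi-finite morphism to a scheme locally of finite type over a field preserves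
heights of points. -/
theorem height_eq_of_lqf (k : Type u) [Field k] {P Q : Scheme.{u}}
    (q : Q ⟶ Spec (CommRingCat.of k)) [LocallyOfFiniteType q]
    (p : P ⟶ Q) [LocallyOfFiniteType p] [LocallyQuasiFinite p] (x : P) :
    Order.height x = Order.height (p x) := by
  have h1 := height_fiberι k q p (p x) (p.asFiber x)
  rw [Scheme.Hom.fiberι_asFiber, height_asFiber_eq_zero p x
    (FibCohH8.fibreDimAt_eq_zero_of_lqf p x), add_zero] at h1
  exact h1

theorem main3395 {X Y : Scheme.{u}}
    (f : X ⟶ Y) [LocallyOfFiniteType f] (y : Y) (e : ℕ)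
    (he : topologicalKrullDim ↥(f.fiber y) = e) (g : X ⟶ 𝔸(ULift.{u} (Fin e); Y))
    (hg : g ≫ (𝔸(ULift.{u} (Fin e); Y) ↘ Y) = f)
    (hfin : IsFinite (pullback.snd g ((𝔸(ULift.{u} (Fin e); Y) ↘ Y).fiberι y))) :
    Function.Surjective (pullback.snd g ((𝔸(ULift.{u} (Fin e); Y) ↘ Y).fiberι y)).base ∧
      ∃ U : X.Opens, f.base ⁻¹' {y} ⊆ (U : Set X) ∧ LocallyQuasiFinite (U.ι ≫ g) := by
  haveI := hfin
  haveI : LocallyOfFiniteType (g ≫ (𝔸(ULift.{u} (Fin e); Y) ↘ Y)) := by rw [hg]; infer_instance
  haveI : LocallyOfFiniteType g := locallyOfFiniteType_of_comp g (𝔸(ULift.{u} (Fin e); Y) ↘ Y)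
  set π := 𝔸(ULift.{u} (Fin e); Y) ↘ Y with hπ
  set p₂ := pullback.snd g (π.fiberι y) with hp₂
  set p₁ := pullback.fst g (π.fiberι y) with hp₁
  haveI : LocallyOfFiniteType p₂ := inferInstance
  haveI : LocallyQuasiFinite p₂ := inferInstance
  have hsq : IsPullback p₁ p₂ g (π.fiberι y) := IsPullback.of_hasPullback _ _
  constructor
  · -- the big pasted square
    have hbig : IsPullback p₁ (p₂ ≫ π.fiberToSpecResidueField y) f (Y.fromSpecResidueField y) := by
      have h2 : IsPullback (π.fiberι y) (π.fiberToSpecResidueField y) π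
        (Y.fromSpecResidueField y) := IsPullback.of_hasPullback _ _
      have := (hsq.flip.paste_horiz h2.flip).flip
      rwa [hg] at this
    have hbig' : IsPullback (f.fiberι y) (f.fiberToSpecResidueField y) f
        (Y.fromSpecResidueField y) := IsPullback.of_hasPullback _ _
    let ψ := hbig.isoIsPullback _ _ hbig'
    have hdimP : topologicalKrullDim ↥(pullback g (π.fiberι y)) = e := by
      rw [IsHomeomorph.topologicalKrullDim_eq _ (Scheme.homeoOfIso ψ).isHomeomorph, he]
    obtain ⟨z, hz⟩ := exists_height_ge (pullback g (π.fiberι y)) e (by rw [hdimP])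
    haveI : LocallyOfFiniteType (π.fiberToSpecResidueField y) :=
      Groth.Agent.FibRes2H8.lft_fiber π y
    have hht := height_eq_of_lqf (Y.residueField y) (π.fiberToSpecResidueField y) p₂ z
    rw [hht] at hz
    have hdimA := affineSpace_fiber_dim Y y e
    have hA := Groth.Agent.IrrDimH8.topDim_eq_height_generic (π.fiber y) (genericPoint ↥(π.fiber y))
      (fun x' => genericPoint_specializes x')
    have hAh : Order.height (genericPoint ↥(π.fiber y)) = (e : ℕ∞) := by
      rw [hA] at hdimA
      exact_mod_cast hdimA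
    have hgen := eq_genericPoint_of_height_ge (p₂ z) e hAh hz
    have hclosed : IsClosed (Set.range p₂) := p₂.isClosedMap.isClosed_range
    have huniv : Set.range p₂ = Set.univ := by
      apply Set.eq_univ_of_univ_subset
      rw [← (genericPoint_spec ↥(π.fiber y)).def]
      apply hclosed.closure_subset_iff.mpr
      rw [Set.singleton_subset_iff, ← hgen]
      exact ⟨z, rfl⟩
    exact Set.range_eq_univ.mp huniv
  · refine ⟨g.quasiFiniteLocus, ?_, ?_⟩
    · intro x hx
      have hx' : f x = y := hx
      obtain ⟨a, ha⟩ : g x ∈ Set.range (π.fiberι y) := by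
        rw [Scheme.Hom.range_fiberι]
        change π (g x) = y
        rw [← Scheme.Hom.comp_apply, hg, hx']
      obtain ⟨z, hz1, hz2⟩ := Scheme.Pullback.exists_preimage_pullback (f := g)
        (g := π.fiberι y) x a ha.symm
      have h1 := FieldExtH8.fibreDimAt_baseChange g (π.fiberι y) p₁ p₂ hsq z
      rw [FibCohH8.fibreDimAt_eq_zero_of_lqf p₂ z] at h1
      have h2 : FlatMor.fibreDimAt g x = 0 := by
        rw [h1]; congr 1; exact hz1.symm
      exact (LqfLocusH8.fibreDimAt_eq_zero_iff_quasiFiniteAt g x).mp h2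
    · rw [← Scheme.Hom.quasiFiniteLocus_eq_top_iff, Scheme.Hom.quasiFiniteLocus_comp]
      ext x
      simp

end Groth.Agent.Lib.AffDimH8
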