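import Mathlib
import Groth.Prelude
import Groth.Agent.Lib.CycLen8_helper8
import Groth.Agent.Lib.GlobGen_helper9
import Groth.Agent.Lib.Tens1_helper8

/-!
# Coherent modules with zero-dimensional support are globally generated (helper8).
APPEND-ONLY once landed.
-/

set_option autoImplicit false
universe u

open CategoryTheory CategoryTheory.Limits AlgebraicGeometry TopologicalSpace Opposite
open QcqsLoc

namespace CycLenH8

section Top

variable {X : Type*} [TopologicalSpace X]

/-- In a closed set of dimension `≤ 0`, every point is closed in the ambient space. -/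
theorem closure_singleton_of_dim_zero [T0Space X] {Z : Set X} (hZ : IsClosed Z)
    (hdim : topologicalKrullDim ↥Z ≤ 0) {x : X} (hx : x ∈ Z) : closure ({x} : Set X) = {x} := by
  apply Set.Subset.antisymm _ subset_closure
  intro y hy
  have hxy : x ⤳ y := specializes_iff_mem_closure.mpr hy
  have hyZ : y ∈ Z := hxy.mem_closed hZ hx
  have hcl : closure ({y} : Set X) ⊆ Z :=
    hZ.closure_subset_iff.mpr (Set.singleton_subset_iff.mpr hyZ)
  have h0 : topologicalKrullDim ↥(closure ({y} : Set X)) = ((0 : ℕ) : WithBot ℕ∞) := by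
    apply le_antisymm
    · exact ((Topology.IsEmbedding.inclusion hcl).isInducing.topologicalKrullDim_le).trans hdim
    · haveI : Nonempty ↥(closure ({y} : Set X)) := ⟨⟨y, subset_closure rfl⟩⟩
      haveI : Nonempty (IrreducibleCloseds ↥(closure ({y} : Set X))) :=
        ⟨⟨closure {⟨y, subset_closure rfl⟩}, isIrreducible_singleton.closure, isClosed_closure⟩⟩
      exact Order.krullDim_nonneg
  exact (eq_of_specializes_of_dim (n := 0) hZ hdim hx hxy h0).symm ▸ rfl

/-- A closed set of dimension `≤ 0` in a Noetherian quasi-sober `T₀` space is finite. -/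
theorem finite_of_dim_zero [NoetherianSpace X] [QuasiSober X] [T0Space X] {Z : Set X}
    (hZ : IsClosed Z) (hdim : topologicalKrullDim ↥Z ≤ 0) : Z.Finite := by
  refine (finite_maximal_points hZ).subset ?_
  intro x hx
  refine ⟨hx, fun t ht htx => ?_⟩
  have h1 := closure_singleton_of_dim_zero hZ hdim ht
  have h2 : x ∈ closure ({t} : Set X) := specializes_iff_mem_closure.mp htx
  rw [h1] at h2
  exact h2.symm

/-- Removing a point from a closed set of dimension `≤ 0` leaves a closed set. -/
theorem isClosed_diff_singleton_of_dim_zero [NoetherianSpace X] [QuasiSober X] [T0Space X]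
    {Z : Set X} (hZ : IsClosed Z) (hdim : topologicalKrullDim ↥Z ≤ 0) (x : X) :
    IsClosed (Z \ {x}) := by
  have hfin : (Z \ {x}).Finite := (finite_of_dim_zero hZ hdim).subset Set.sdiff_subset
  have h1 : Z \ {x} = ⋃ y ∈ Z \ {x}, closure ({y} : Set X) := by
    ext z
    simp only [Set.mem_iUnion, exists_prop]
    constructor
    · intro hz
      exact ⟨z, hz, subset_closure rfl⟩
    · rintro ⟨y, hy, hzy⟩
      rw [closure_singleton_of_dim_zero hZ hdim hy.1] at hzy
      rw [Set.mem_singleton_iff] at hzy
      rw [hzy]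
      exact hy
  rw [h1]
  exact hfin.isClosed_biUnion (fun _ _ => isClosed_closure)

end Top

section GG

variable {X : Scheme.{u}}

/-- A section over an open set disjoint from the support vanishes. -/
theorem eq_zero_of_disjoint_support (F : X.Modules) {U : X.Opens}
    (hU : ∀ y ∈ U, y ∉ CohB1.support F) (s : Γ(F, U)) : s = 0 := by
  apply eq_zero_of_germ_eq_zero
  intro y hy
  have hsub : Subsingleton (F.presheaf.stalk y) := by
    by_contra h
    exact hU y hy h
  exact Subsingleton.elim _ _

/-- A section over a neighbourhood `V` of a closed point `x` with `V ∩ Supp F ⊆ {x}` extends to a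
global section. -/
theorem exists_global_extension (F : X.Modules) {x : X} (hx : IsClosed ({x} : Set X))
    {V : X.Opens} (hxV : x ∈ V) (hV : ∀ y ∈ V, y ∈ CohB1.support F → y = x) (s : Γ(F, V)) :
    ∃ t : Γ(F, ⊤), rF F (le_top : V ≤ ⊤) t = s := by
  let W : X.Opens := ⟨({x} : Set X)ᶜ, hx.isOpen_compl⟩
  let O : Bool → X.Opens := fun b => if b then V else W
  have hcov : (⊤ : X.Opens) ≤ ⨆ b, O b := by
    intro y _
    rw [Opens.mem_iSup]
    by_cases hy : y = x
    · exact ⟨true, by rw [hy]; exact hxV⟩
    · exact ⟨false, hy⟩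
  let sec : ∀ b, Γ(F, O b) := fun b => match b with
    | true => s
    | false => 0
  have hzero : ∀ (U : X.Opens) (hUV : U ≤ V) (hUW : U ≤ W) (a : Γ(F, U)), a = 0 := by
    intro U hUV hUW a
    apply eq_zero_of_disjoint_support
    intro y hy hys
    exact hUW hy (hV y (hUV hy) hys)
  obtain ⟨t, ht⟩ := TensH8.glue F O ⊤ (fun _ => le_top) hcov sec (by
    intro i j
    cases i <;> cases j
    · rfl
    · rw [hzero (O false ⊓ O true) inf_le_right inf_le_left
        (rF F (inf_le_left : O false ⊓ O true ≤ O false) (sec false)),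
        hzero (O false ⊓ O true) inf_le_right inf_le_left
        (rF F (inf_le_right : O false ⊓ O true ≤ O true) (sec true))]
    · rw [hzero (O true ⊓ O false) inf_le_left inf_le_right
        (rF F (inf_le_left : O true ⊓ O false ≤ O true) (sec true)),
        hzero (O true ⊓ O false) inf_le_left inf_le_right
        (rF F (inf_le_right : O true ⊓ O false ≤ O false) (sec false))]
    · rfl)
  exact ⟨t, ht true⟩

set_option backward.isDefEq.respectTransparency false in
/-- On a Noetherian scheme, a quasi-coherent module of finite type whose support has dimension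
`≤ 0` is globally generated. -/
theorem isGloballyGenerated_of_dim_zero [IsNoetherian X] (F : X.Modules) (hF : Coh.IsCoh F)
    (hsupp : topologicalKrullDim ↥(CohB1.support F) ≤ 0) : Curv2.IsGloballyGenerated F := by
  haveI := hF.1
  haveI := hF.2
  have hZ : IsClosed (CohB1.support F) := SupportCoh.isClosed_support F
  let s : Γ(F, ⊤) → SheafOfModules.sections (R := X.ringCatSheaf) F := GlobGen.globalSection F
  let A : X.Modules := SheafOfModules.free (R := X.ringCatSheaf) Γ(F, ⊤)
  let p : A ⟶ F := (SheafOfModules.freeHomEquiv F).symm s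
  refine ⟨Γ(F, ⊤), p, ?_⟩
  apply GlobGen.epi_of_surjective_on_basis p
    {U : X.Opens | (∀ y ∈ U, y ∉ CohB1.support F) ∨
      ∃ x ∈ CohB1.support F, x ∈ U ∧ ∀ y ∈ U, y ∈ CohB1.support F → y = x}
  · rw [Opens.isBasis_iff_nbhd]
    intro O y hy
    by_cases hyZ : y ∈ CohB1.support F
    · let U : X.Opens := O ⊓ ⟨(CohB1.support F \ {y})ᶜ,
        (isClosed_diff_singleton_of_dim_zero hZ hsupp y).isOpen_compl⟩
      have hyU : y ∈ U := ⟨hy, fun h => h.2 rfl⟩
      refine ⟨U, Or.inr ⟨y, hyZ, hyU, ?_⟩, hyU, inf_le_left⟩
      intro z hz hzZ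
      by_contra hne
      exact hz.2 ⟨hzZ, hne⟩
    · let U : X.Opens := O ⊓ ⟨(CohB1.support F)ᶜ, hZ.isOpen_compl⟩
      exact ⟨U, Or.inl (fun z hz => hz.2), ⟨hy, hyZ⟩, inf_le_left⟩
  · rintro U (hU | ⟨x, hxZ, hxU, hU⟩) t
    · refine ⟨0, ?_⟩
      rw [map_zero]
      exact (eq_zero_of_disjoint_support F hU t).symm
    · have hxcl : IsClosed ({x} : Set X) := by
        rw [← closure_singleton_of_dim_zero hZ hsupp hxZ]
        exact isClosed_closure
      obtain ⟨g, hg⟩ := exists_global_extension F hxcl hxU hU t
      refine ⟨(SheafOfModules.freeSection (R := X.ringCatSheaf) g).val (op U), ?_⟩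
      have h1 := SheafOfModules.sectionsMap_freeHomEquiv_symm_freeSection (M := F) s g
      have h2 := congrArg (fun σ => σ.val (op U)) h1
      exact h2.trans hg

end GG

end CycLenH8
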