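import Mathlib
import Groth.Agent.Lib.AffDim16_helper8
import Groth.Agent.Lib.NwDense_helper8
import Groth.Agent.Lib.DimZeroGG_helper8
import Groth.Agent.Lib.RelDim_helper8

/-!
# Birational morphisms of finite type have finite fibres over points of codimension at most one
-/

set_option autoImplicit false

universe u

namespace Groth.Agent.Lib.BirFinH8

open AlgebraicGeometry CategoryTheory Limits TopologicalSpace Topology

/-- A dense open subset of a locally Noetherian scheme contains all maximal points. -/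
theorem mem_of_dense_of_maximal (Y : Scheme.{u}) [IsLocallyNoetherian Y] (V : Set Y) (hV : IsOpen V)
    (hd : Dense V) (η : Y) (hη : ∀ b : Y, b ⤳ η → b = η) : η ∈ V := by
  have hc : closure ({η} : Set Y) ∈ irreducibleComponents ↥Y :=
    (Groth.Agent.SchFTH8.closure_mem_irreducibleComponents_iff η).mpr hη
  obtain ⟨o, ho, hone, hoT⟩ := NwDenseH8.exists_open_subset_component Y _ hc
  obtain ⟨t, hto, htV⟩ := hd.inter_open_nonempty o ho hone
  have hsp : η ⤳ t := specializes_iff_mem_closure.mpr (hoT hto)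
  exact hsp.mem_open hV htV

theorem eq_of_relDim_eq_zero {Y : Scheme.{u}} (y η : Y) (h : η ⤳ y)
    (h0 : RelDimH8.relDim y η h = 0) : η = y := by
  unfold RelDimH8.relDim at h0
  have hP := RelDimH8.fromSpecStalk_primeOf y η h
  set P := RelDimH8.primeOf y η h with hPdef
  haveI : P.asIdeal.IsPrime := P.2
  haveI : Ring.KrullDimLE 0 (Y.presheaf.stalk y ⧸ P.asIdeal) := by
    rw [Ring.krullDimLE_iff, h0]; rfl
  have hfield : IsField (Y.presheaf.stalk y ⧸ P.asIdeal) := Ring.KrullDimLE.isField_of_isDomain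
  have hmax : P.asIdeal.IsMaximal := Ideal.Quotient.maximal_of_isField _ hfield
  have hPeq : P = IsLocalRing.closedPoint (Y.presheaf.stalk y) := by
    apply PrimeSpectrum.ext
    exact IsLocalRing.eq_maximalIdeal hmax
  rw [← hP, hPeq]
  exact Scheme.fromSpecStalk_closedPoint

theorem resTrdeg_eq_zero_of_mem {X Y : Scheme.{u}} (f : Y ⟶ X) [LocallyOfFiniteType f]
    (U : X.Opens) (hiso : IsIso (f ∣_ U)) (η : Y) (hη : η ∈ f ⁻¹ᵁ U) :
    Dual3.resTrdeg f η = 0 := by
  haveI := hiso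
  have h1 : (f ⁻¹ᵁ U).ι ≫ f = (f ∣_ U) ≫ U.ι := (morphismRestrict_ι f U).symm
  haveI : LocallyQuasiFinite ((f ⁻¹ᵁ U).ι ≫ f) := by rw [h1]; infer_instance
  have h2 : ((f ⁻¹ᵁ U).ι ≫ f).QuasiFiniteAt (⟨η, hη⟩ : ↥(f ⁻¹ᵁ U)) :=
    Scheme.Hom.quasiFiniteAt _ _
  rw [Scheme.Hom.quasiFiniteAt_comp_iff_of_isOpenImmersion] at h2
  have h3 : f.QuasiFiniteAt η := h2
  have h4 := (LqfLocusH8.fibreDimAt_eq_zero_iff_quasiFiniteAt f η).mpr h3
  exact ((FibCohH8.fibreDimAt_eq_zero_iff f η).mp h4).2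

theorem resTrdeg_eq_zero {X Y : Scheme.{u}} [IsLocallyNoetherian X] [IsLocallyNoetherian Y]
    (f : Y ⟶ X) [LocallyOfFiniteType f]
    (U : X.Opens) (hU' : Dense ((f ⁻¹ᵁ U : Y.Opens) : Set Y)) (hiso : IsIso (f ∣_ U))
    (y : Y) (hx : ringKrullDim (X.presheaf.stalk (f y)) ≤ 1) :
    Dual3.resTrdeg f y = 0 := by
  obtain ⟨n, hn⟩ := Groth.Agent.ResQuot2H8.exists_trdeg_nat f y
  have hn' : Dual3.resTrdeg f y = n := hn
  obtain ⟨η, hηy, hηmax, -⟩ := RelDimH8.exists_max_relDim_eq y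
  have hηU : η ∈ f ⁻¹ᵁ U :=
    mem_of_dense_of_maximal Y _ (f ⁻¹ᵁ U).2 hU' η hηmax
  have hE : Dual3.resTrdeg f η = ((0 : ℕ) : Cardinal) := by
    rw [resTrdeg_eq_zero_of_mem f U hiso η hηU]; simp
  have hineq := RelDimH8.ineq f y η hηy n 0 hn' hE
  have h2 : RelDimH8.relDim (f y) (f η) (hηy.map f.continuous) ≤ 1 :=
    (RelDimH8.relDim_le _ _ _).trans hx
  by_cases hn0 : n = 0
  · rw [hn', hn0]; simp
  · exfalso
    have hn1 : 1 ≤ n := Nat.one_le_iff_ne_zero.mpr hn0
    have hne := RelDimH8.relDim_ne_bot y η hηy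
    have h3 : RelDimH8.relDim y η hηy + (n : WithBot ℕ∞) ≤ 1 := by
      refine hineq.trans ?_
      simpa using h2
    have h4 : RelDimH8.relDim y η hηy = 0 := by
      generalize RelDimH8.relDim y η hηy = a at h3 hne
      induction a using WithBot.recBotCoe with
      | bot => exact absurd rfl hne
      | coe a =>
        have h5 : (a + (n : ℕ∞) : ℕ∞) ≤ 1 := by exact_mod_cast h3
        have h6 : a + 1 ≤ a + (n : ℕ∞) := by gcongr; exact_mod_cast hn1
        have h7 : a + 1 ≤ 0 + 1 := by simpa using h6.trans h5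
        have h8 : a ≤ 0 := (ENat.add_le_add_iff_right (by simp)).mp h7
        have : a = 0 := le_antisymm h8 bot_le
        rw [this]; rfl
    have hηeq := eq_of_relDim_eq_zero y η hηy h4
    rw [hηeq] at hηU
    have := resTrdeg_eq_zero_of_mem f U hiso y hηU
    rw [hn'] at this
    exact hn0 (by exact_mod_cast this)

theorem height_fiber_eq_zero {X Y : Scheme.{u}} [IsLocallyNoetherian X] [IsLocallyNoetherian Y]
    (f : Y ⟶ X) [LocallyOfFiniteType f]
    (U : X.Opens) (hU' : Dense ((f ⁻¹ᵁ U : Y.Opens) : Set Y)) (hiso : IsIso (f ∣_ U))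
    (x : X) (hx : ringKrullDim (X.presheaf.stalk x) ≤ 1) (z : f.fiber x) :
    Order.height z = 0 := by
  have h : f ((f.fiberι x) z) = x := Groth.Agent.FibRes2H8.fiberι_mem f x z
  generalize hy : (f.fiberι x) z = y at h
  subst h
  have hz : z = f.asFiber y := by
    apply (f.fiberι (f y)).isEmbedding.injective
    rw [hy, Scheme.Hom.fiberι_asFiber]
  subst hz
  obtain ⟨n, hn, hh⟩ := Groth.Agent.FibRes2H8.height_asFiber f y
  have h0 := resTrdeg_eq_zero f U hU' hiso y hx
  have hn' : Dual3.resTrdeg f y = n := hn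
  rw [hn'] at h0
  have : n = 0 := by exact_mod_cast h0
  rw [hh, this]; rfl

theorem main13532 {X Y : Scheme.{u}}
    [IsLocallyNoetherian X] [IsLocallyNoetherian Y] (f : Y ⟶ X) [LocallyOfFiniteType f]
    [QuasiCompact f]
    (U : X.Opens) (hU' : Dense ((f ⁻¹ᵁ U : Y.Opens) : Set Y)) (hiso : IsIso (f ∣_ U))
    (x : X) (hx : ringKrullDim (X.presheaf.stalk x) ≤ 1) :
    (f.base ⁻¹' {x}).Finite := by
  haveI : IsLocallyNoetherian (f.fiber x) := Groth.Agent.FibChainH8.isLocallyNoetherian_fiber f x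
  haveI : QuasiCompact (f.fiberToSpecResidueField x) :=
    MorphismProperty.pullback_snd _ _ inferInstance
  haveI : CompactSpace ↥(f.fiber x) :=
    QuasiCompact.compactSpace_of_compactSpace (f.fiberToSpecResidueField x)
  haveI : IsNoetherian (f.fiber x) := {}
  have hdim : topologicalKrullDim ↥(f.fiber x) ≤ 0 := by
    rw [Groth.Agent.ClosHtH8.topologicalKrullDim_eq_iSup_height]
    refine iSup_le fun z => ?_
    rw [height_fiber_eq_zero f U hU' hiso x hx z]
    rfl
  have hdim' : topologicalKrullDim ↥(Set.univ : Set ↥(f.fiber x)) ≤ 0 :=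
    (topologicalKrullDim_subspace_le _ _).trans hdim
  have hfin := CycLenH8.finite_of_dim_zero (X := ↥(f.fiber x)) isClosed_univ hdim'
  haveI : Finite ↥(f.fiber x) := Set.finite_univ_iff.mp hfin
  rw [← Scheme.Hom.range_fiberι]
  exact Set.finite_range _

end Groth.Agent.Lib.BirFinH8
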