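import Mathlib
import Groth.Agent.Lib.ClosHt_helper8

set_option autoImplicit false
universe u
open AlgebraicGeometry CategoryTheory TopologicalSpace

namespace CurveH8

variable {X : Scheme.{u}}

theorem closure_singleton_eq_Iic (ξ : X) : closure ({ξ} : Set X) = Set.Iic ξ := by
  ext y
  rw [← specializes_iff_mem_closure]
  rfl

theorem eq_of_le_of_le {a b : X} (h1 : a ≤ b) (h2 : b ≤ a) : a = b :=
  (Specializes.antisymm (h2 : a ⤳ b) (h1 : b ⤳ a)).eq

theorem closure_singleton_of_isMin {z : X} (h : IsMin z) : closure ({z} : Set X) = {z} := by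
  rw [closure_singleton_eq_Iic]
  ext y
  simp only [Set.mem_Iic, Set.mem_singleton_iff]
  exact ⟨fun hy => eq_of_le_of_le hy (h hy), fun hy => hy ▸ le_rfl⟩

theorem isClosed_singleton_of_isMin {z : X} (h : IsMin z) : IsClosed ({z} : Set X) := by
  rw [← closure_singleton_of_isMin h]
  exact isClosed_closure

theorem isMin_or_isMax (hdim : topologicalKrullDim X ≤ 1) (x : X) : IsMin x ∨ IsMax x := by
  have hdimX : topologicalKrullDim X = Order.krullDim X := by
    unfold topologicalKrullDim
    exact Order.krullDim_eq_of_orderIso (irreducibleSetEquivPoints (α := X))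
  rw [hdimX] at hdim
  letI : PartialOrder X :=
    { (inferInstance : Preorder X) with le_antisymm := fun a b h1 h2 => eq_of_le_of_le h1 h2 }
  exact Order.krullDim_le_one_iff.mp hdim x

theorem closure_mem_irreducibleComponents {x : X} (h : IsMax x) :
    closure ({x} : Set X) ∈ irreducibleComponents (X : Type u) := by
  refine ⟨isIrreducible_singleton.closure, fun s hs hxs => ?_⟩
  have hs' : IsIrreducible (closure s) := hs.closure
  obtain ⟨η, hη⟩ := QuasiSober.sober hs' isClosed_closure
  have h1 : x ∈ closure ({η} : Set X) := by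
    rw [hη.def]
    exact subset_closure (hxs (subset_closure rfl))
  have h2 : x ≤ η := (specializes_iff_mem_closure.mpr h1 : η ⤳ x)
  have h3 : η ≤ x := h h2
  have h4 : η ∈ closure ({x} : Set X) := specializes_iff_mem_closure.mp (h3 : x ⤳ η)
  calc s ⊆ closure s := subset_closure
    _ = closure {η} := hη.def.symm
    _ ⊆ closure {x} := closure_minimal (Set.singleton_subset_iff.mpr h4) isClosed_closure

theorem finite_setOf_isMax [NoetherianSpace X] : {x : X | IsMax x}.Finite := by
  have hfin := NoetherianSpace.finite_irreducibleComponents (α := X)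
  refine Set.Finite.of_finite_image (f := fun x : X => closure ({x} : Set X)) (hfin.subset ?_) ?_
  · rintro _ ⟨x, hx, rfl⟩
    exact closure_mem_irreducibleComponents hx
  · intro a _ b _ hab
    have hab' : closure ({a} : Set X) = closure {b} := hab
    have h1 : a ⤳ b := specializes_iff_closure_subset.mpr hab'.ge
    have h2 : b ⤳ a := specializes_iff_closure_subset.mpr hab'.le
    exact (h1.antisymm h2).eq

theorem topologicalKrullDim_closure_eq_one (hdim : topologicalKrullDim X ≤ 1) {ξ : X}
    (hmin : ¬ IsMin ξ) : topologicalKrullDim ↥(closure ({ξ} : Set X)) = 1 := by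
  rw [Groth.Agent.ClosHtH8.topologicalKrullDim_closure_singleton]
  have hdimX : topologicalKrullDim X = Order.krullDim X := by
    unfold topologicalKrullDim
    exact Order.krullDim_eq_of_orderIso (irreducibleSetEquivPoints (α := X))
  rw [hdimX] at hdim
  have h1 : ((Order.height ξ : ℕ∞) : WithBot ℕ∞) ≤ 1 := (Order.height_le_krullDim ξ).trans hdim
  have h2 : Order.height ξ ≠ 0 := fun h0 => hmin (Order.height_eq_zero.mp h0)
  have h3 : Order.height ξ ≤ 1 := by exact_mod_cast h1
  have h4 : Order.height ξ = 1 := le_antisymm h3 (Order.one_le_iff_pos.mpr (pos_iff_ne_zero.mpr h2))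
  rw [h4]
  rfl

end CurveH8

namespace CurveH8

variable {X Y : Scheme.{u}}

theorem finite_preimage_singleton (f : X ⟶ Y) [NoetherianSpace X] (hcl : IsClosedMap f)
    (hdim : topologicalKrullDim X ≤ 1)
    (h : ∀ Z ∈ irreducibleComponents (X : Type u), topologicalKrullDim Z = 1 →
      (f '' Z).Nontrivial) (y : Y) : (f ⁻¹' {y}).Finite := by
  by_cases hc : ∃ z ∈ f ⁻¹' {y}, IsMin z
  · obtain ⟨z0, hz0, hmin0⟩ := hc
    have hy : IsClosed ({y} : Set Y) := by
      have := hcl _ (isClosed_singleton_of_isMin hmin0)
      rwa [Set.image_singleton, (hz0 : f z0 = y)] at this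
    have hF : IsClosed (f ⁻¹' {y}) := hy.preimage f.continuous
    obtain ⟨S, hSfin, hSirr, hS⟩ :=
      NoetherianSpace.exists_finite_set_closeds_irreducible (⟨f ⁻¹' {y}, hF⟩ : Closeds X)
    have hF' : f ⁻¹' {y} = ⋃ t ∈ S, (t : Set X) := by
      have := congrArg (fun c : Closeds X => (c : Set X)) hS
      simp only [Closeds.coe_mk] at this
      rw [this, Closeds.coe_sSup, Set.sUnion_image]
      exact (hSfin.isClosed_biUnion fun t _ => t.isClosed).closure_eq
    rw [hF']
    refine hSfin.biUnion fun t ht => ?_
    obtain ⟨ξ, hξ⟩ := QuasiSober.sober (hSirr t ht) t.isClosed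
    have htF : (t : Set X) ⊆ f ⁻¹' {y} := by
      rw [hF']
      exact Set.subset_biUnion_of_mem (u := fun t : Closeds X => (t : Set X)) ht
    have hξt : (t : Set X) = closure {ξ} := hξ.def.symm
    rcases isMin_or_isMax hdim ξ with hmin | hmax
    · rw [hξt, closure_singleton_of_isMin hmin]
      exact Set.finite_singleton _
    · by_cases hmin : IsMin ξ
      · rw [hξt, closure_singleton_of_isMin hmin]
        exact Set.finite_singleton _
      · exfalso
        have hnt := h _ (closure_mem_irreducibleComponents hmax)
          (topologicalKrullDim_closure_eq_one hdim hmin)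
        obtain ⟨a, ha, b, hb, hab⟩ := hnt
        obtain ⟨a', ha', rfl⟩ := ha
        obtain ⟨b', hb', rfl⟩ := hb
        rw [← hξt] at ha' hb'
        exact hab ((htF ha' : f a' = y).trans (htF hb' : f b' = y).symm)
  · push Not at hc
    refine finite_setOf_isMax.subset fun z hz => ?_
    rcases isMin_or_isMax hdim z with hmin | hmax
    · exact absurd hmin (hc z hz)
    · exact hmax

end CurveH8
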