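import Mathlib

/-!
# Additivity of the Euler characteristic along a long exact sequence (helper9)
APPEND-ONLY once landed.
-/

set_option autoImplicit false
open Finset

namespace EulerAddH9

theorem euler_int (x y z a b c : ℕ → ℤ) (hy : ∀ i, y i = a i + b i) (hz : ∀ i, z i = b i + c i)
    (hx0 : x 0 = a 0) (hx : ∀ i, x (i + 1) = c i + a (i + 1)) (N : ℕ) :
    ∑ i ∈ range (N + 1), (-1 : ℤ) ^ i * y i =
      ∑ i ∈ range (N + 1), (-1 : ℤ) ^ i * x i + ∑ i ∈ range (N + 1), (-1 : ℤ) ^ i * z i -
        (-1 : ℤ) ^ N * c N := by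
  induction N with
  | zero =>
    simp only [zero_add, range_one, sum_singleton, pow_zero, one_mul]
    rw [hy, hz, hx0]
    ring
  | succ N ih =>
    rw [sum_range_succ, sum_range_succ _ (N + 1), sum_range_succ _ (N + 1), ih, hy, hz, hx]
    ring

section Mod

variable {A : Type*} [CommRing A]

theorem length_eq_ker_add_range {M P : Type*} [AddCommGroup M] [AddCommGroup P] [Module A M]
    [Module A P] (φ : M →ₗ[A] P) :
    Module.length A M = Module.length A (LinearMap.ker φ) + Module.length A (LinearMap.range φ) :=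
  Module.length_eq_add_of_exact (LinearMap.ker φ).subtype φ.rangeRestrict
    (Submodule.injective_subtype _) φ.surjective_rangeRestrict
    (by
      intro m
      constructor
      · intro hm
        exact ⟨⟨m, by
          have := congrArg Subtype.val hm
          simpa using this⟩, rfl⟩
      · rintro ⟨⟨m', hm'⟩, rfl⟩
        apply Subtype.ext
        simpa using hm')

/-- the integer-valued length -/
noncomputable def ell (M : Type*) [AddCommGroup M] [Module A M] : ℤ :=
  ((Module.length A M).toNat : ℤ)

theorem ell_eq_ker_add_range {M P : Type*} [AddCommGroup M] [AddCommGroup P] [Module A M]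
    [Module A P] (φ : M →ₗ[A] P) (hM : Module.length A M ≠ ⊤) :
    ell (A := A) M = ell (A := A) (LinearMap.ker φ) + ell (A := A) (LinearMap.range φ) := by
  have h := length_eq_ker_add_range φ
  have h1 : Module.length A (LinearMap.ker φ) ≠ ⊤ := by
    intro h'
    rw [h', top_add] at h
    exact hM h
  have h2 : Module.length A (LinearMap.range φ) ≠ ⊤ := by
    intro h'
    rw [h', add_top] at h
    exact hM h
  unfold ell
  rw [h, ENat.toNat_add h1 h2]
  push_cast
  rfl

theorem ell_congr {M : Type*} [AddCommGroup M] [Module A M] (N₁ N₂ : Submodule A M)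
    (h : N₁ = N₂) : ell (A := A) N₁ = ell (A := A) N₂ := by
  subst h; rfl

/-- **Additivity of the alternating sum of lengths along a long exact sequence** which starts
with an injection and whose `X`-term vanishes in degree `N + 1`. -/
theorem euler_additive (X Y Z : ℕ → Type*) [∀ i, AddCommGroup (X i)] [∀ i, AddCommGroup (Y i)]
    [∀ i, AddCommGroup (Z i)] [∀ i, Module A (X i)] [∀ i, Module A (Y i)] [∀ i, Module A (Z i)]
    (f : ∀ i, X i →ₗ[A] Y i) (g : ∀ i, Y i →ₗ[A] Z i) (δ : ∀ i, Z i →ₗ[A] X (i + 1))
    (hfg : ∀ i, LinearMap.range (f i) = LinearMap.ker (g i))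
    (hgδ : ∀ i, LinearMap.range (g i) = LinearMap.ker (δ i))
    (hδf : ∀ i, LinearMap.range (δ i) = LinearMap.ker (f (i + 1)))
    (hf0 : Function.Injective (f 0))
    (hX : ∀ i, Module.length A (X i) ≠ ⊤) (hY : ∀ i, Module.length A (Y i) ≠ ⊤)
    (hZ : ∀ i, Module.length A (Z i) ≠ ⊤) (N : ℕ) (hN : Subsingleton (X (N + 1))) :
    ∑ i ∈ range (N + 1), (-1 : ℤ) ^ i * ell (A := A) (Y i) =
      ∑ i ∈ range (N + 1), (-1 : ℤ) ^ i * ell (A := A) (X i) +
        ∑ i ∈ range (N + 1), (-1 : ℤ) ^ i * ell (A := A) (Z i) := by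
  have key := euler_int (fun i => ell (A := A) (X i)) (fun i => ell (A := A) (Y i))
    (fun i => ell (A := A) (Z i)) (fun i => ell (A := A) (LinearMap.range (f i)))
    (fun i => ell (A := A) (LinearMap.range (g i))) (fun i => ell (A := A) (LinearMap.range (δ i)))
    (fun i => by
      show ell (A := A) (Y i) = _
      rw [ell_eq_ker_add_range (g i) (hY i), ell_congr _ _ (hfg i)])
    (fun i => by
      show ell (A := A) (Z i) = _
      rw [ell_eq_ker_add_range (δ i) (hZ i), ell_congr _ _ (hgδ i)])
    (by
      show ell (A := A) (X 0) = _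
      rw [ell_eq_ker_add_range (f 0) (hX 0)]
      have : LinearMap.ker (f 0) = ⊥ := LinearMap.ker_eq_bot.mpr hf0
      have h0 : ell (A := A) (LinearMap.ker (f 0)) = 0 := by
        unfold ell
        rw [this]
        simp
      rw [h0, zero_add])
    (fun i => by
      show ell (A := A) (X (i + 1)) = _
      rw [ell_eq_ker_add_range (f (i + 1)) (hX (i + 1)), ell_congr _ _ (hδf i)])
    N
  rw [key]
  have hc : ell (A := A) (LinearMap.range (δ N)) = 0 := by
    unfold ell
    haveI : Subsingleton (LinearMap.range (δ N)) :=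
      ⟨fun x y => Subtype.ext (Subsingleton.elim _ _)⟩
    rw [Module.length_eq_zero]
    rfl
  show _ - (-1 : ℤ) ^ N * ell (A := A) (LinearMap.range (δ N)) = _
  rw [hc, mul_zero, sub_zero]

end Mod

end EulerAddH9
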