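import Mathlib
import Groth.Agent.S2420
import Groth.Agent.Lib.AffVanish4_helper9

/-!
# Euler characteristics of coherent modules on proper schemes over a field (helper9)
APPEND-ONLY once landed.
-/

set_option autoImplicit false
universe u
open CategoryTheory CategoryTheory.Limits AlgebraicGeometry Opposite TopologicalSpace

namespace EulerField

variable (k : Type u) [Field k] (X : Scheme.{u}) [X.Over (Spec (CommRingCat.of k))]
  [IsProper (X ↘ Spec (CommRingCat.of k))]

include k in
/-- a uniform bound above which the cohomology of quasi-coherent modules vanishes -/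
theorem exists_bound : ∃ N : ℕ, ∀ (M : X.Modules), M.IsQuasicoherent → ∀ p : ℕ, N < p →
    Subsingleton (Coh.HH X M p) := by
  haveI : CompactSpace X :=
    QuasiCompact.compactSpace_of_compactSpace (X ↘ Spec (CommRingCat.of k))
  haveI : QuasiSeparatedSpace X :=
    quasiSeparatedSpace_of_quasiSeparated (X ↘ Spec (CommRingCat.of k))
  obtain ⟨d, hd⟩ := AffVanish.exists_bound_HH X
  exact ⟨d, fun M hM p hp => hd M hM p hp.le⟩

/-- the Euler characteristic as a finite sum -/
theorem euler_eq_sum (N : ℕ) (F : X.Modules)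
    (hN : ∀ p : ℕ, N < p → Subsingleton (Coh.HH X F p)) :
    Curv2.euler k X F =
      ∑ i ∈ Finset.range (N + 1), (-1 : ℤ) ^ i * (Module.finrank k (Coh.HH X F i) : ℤ) := by
  unfold Curv2.euler
  apply finsum_eq_sum_of_support_subset
  intro i hi
  rw [Finset.coe_range, Set.mem_Iio]
  by_contra h
  haveI := hN i (by omega)
  apply hi
  show (-1 : ℤ) ^ i * (Module.finrank k (Coh.HH X F i) : ℤ) = 0
  rw [Module.finrank_zero_of_subsingleton]
  simp

theorem finrank_eq_length (F : X.Modules) (hF : Coh.IsCoh F) (i : ℕ) :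
    (Module.finrank k (Coh.HH X F i) : ℤ) = ((Module.length k (Coh.HH X F i)).toNat : ℤ) := by
  haveI := ProperFinH9.finite_HH_of_proper k X F hF i
  rw [Module.length_eq_finrank]
  rfl

/-- **Additivity of the Euler characteristic** (statement of S1524). -/
theorem euler_additive (S : ShortComplex X.Modules) (hS : S.ShortExact)
    (h₁ : Coh.IsCoh S.X₁) (h₂ : Coh.IsCoh S.X₂) (h₃ : Coh.IsCoh S.X₃) :
    Curv2.euler k X S.X₂ = Curv2.euler k X S.X₁ + Curv2.euler k X S.X₃ := by
  obtain ⟨N, hN⟩ := exists_bound k X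
  rw [euler_eq_sum k X N S.X₁ (hN _ h₁.1), euler_eq_sum k X N S.X₂ (hN _ h₂.1),
    euler_eq_sum k X N S.X₃ (hN _ h₃.1)]
  simp only [finrank_eq_length k X _ h₁, finrank_eq_length k X _ h₂, finrank_eq_length k X _ h₃]
  exact Groth.Agent.S2420.result k X S hS h₁ h₂ h₃ N
    (fun i hi => ⟨hN _ h₁.1 i hi, hN _ h₂.1 i hi, hN _ h₃.1 i hi⟩)

end EulerField
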