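import Mathlib
import Groth.Agent.Lib.EulerField_helper9
import Groth.Agent.Lib.Tens40_helper8
import Groth.Agent.Lib.CohDev10_helper8
import Groth.Agent.Lib.Curve1_helper8
import Groth.Agent.Lib.ZeroDimAcyc_helper9
import Groth.Agent.Lib.DimZeroGG_helper8

/-!
# Degrees of invertible modules on proper curves, I (helper9)
Nonzero maps of invertible modules on an integral scheme are injective; on a curve their
cokernels have zero-dimensional support.
APPEND-ONLY once landed.
-/

set_option autoImplicit false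
universe u
open CategoryTheory CategoryTheory.Limits AlgebraicGeometry Opposite TopologicalSpace

namespace CurveDeg

open QcqsLoc QCohExtn GenLocH8 TensH8

variable {X : Scheme.{u}} [IsIntegral X]

/-- a morphism of invertible modules on an integral scheme vanishing on a generator over a
nonempty open is zero -/
theorem hom_eq_zero_of_ap_gen {N L : X.Modules} (hN : PicF.IsInvertible N)
    (hL : PicF.IsInvertible L) (φ : N ⟶ L) {W : X.Opens} (hW : (W : Set X).Nonempty)
    {eN : Γ(N, W)} (heN : IsGen N W eN) (h0 : ap φ W eN = 0) : φ = 0 := by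
  apply Scheme.Modules.hom_ext
  intro O
  ext σ
  show ap φ O σ = 0
  apply eq_zero_of_cover
  intro x hx
  refine ⟨O, le_rfl, hx, ?_⟩
  rw [SubExt.rF_self]
  have hne : ((O ⊓ W : X.Opens) : Set X).Nonempty := inter_nonempty_of_isIntegral ⟨x, hx⟩ hW
  refine eq_zero_of_rF_eq_zero hL (inf_le_left : O ⊓ W ≤ O) hne _ ?_
  rw [← ap_rF]
  obtain ⟨d, hd⟩ := (heN.res (inf_le_right : O ⊓ W ≤ W)).exists_coef
    (rF N (inf_le_left : O ⊓ W ≤ O) σ)
  rw [hd, ap_smul, ap_rF, h0, map_zero, smul_zero]

/-- a nonzero morphism of invertible modules on an integral scheme is a monomorphism -/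
theorem mono_of_ne_zero {N L : X.Modules} (hN : PicF.IsInvertible N)
    (hL : PicF.IsInvertible L) (φ : N ⟶ L) (hφ : φ ≠ 0) : Mono φ := by
  apply FComplH8.mono_of_app_injective
  intro O
  rw [injective_iff_map_eq_zero]
  intro σ hσ
  apply eq_zero_of_cover
  intro x hx
  obtain ⟨W, hxW, eN, eL, heN, heL⟩ := exists_isGen₂ hN hL x
  have hO : W ⊓ O ≤ O := inf_le_right
  have hWW : W ⊓ O ≤ W := inf_le_left
  refine ⟨W ⊓ O, hO, ⟨hxW, hx⟩, ?_⟩
  have hne : ((W ⊓ O : X.Opens) : Set X).Nonempty := ⟨x, hxW, hx⟩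
  have heN' := heN.res hWW
  have heL' := heL.res hWW
  obtain ⟨c, hc⟩ := heN'.exists_coef (rF N hO σ)
  obtain ⟨f, hf⟩ := heL'.exists_coef (ap φ (W ⊓ O) (rF N hWW eN))
  have h1 : ap φ (W ⊓ O) (rF N hO σ) = 0 := by rw [ap_rF, hσ, map_zero]
  rw [hc, ap_smul, hf, ← mul_smul] at h1
  have h2 : c * f = 0 := by
    have := (heL' _ le_rfl).2 (c * f)
    rw [SubExt.rF_self] at this
    exact this h1
  haveI : Nonempty (W ⊓ O : X.Opens) := hne.to_subtype
  haveI : IsDomain Γ(X, W ⊓ O) := inferInstance
  rcases mul_eq_zero.mp h2 with h3 | h3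
  · rw [hc, h3, zero_smul]
  · exfalso
    apply hφ
    refine hom_eq_zero_of_ap_gen hN hL φ hne heN' ?_
    rw [hf, h3, zero_smul]

section Curve

/-- the support of the cokernel of a nonzero map of invertible modules on an integral scheme of
dimension at most one consists of closed points -/
theorem isClosed_singleton_of_mem_support_cokernel [IsNoetherian X] {N L : X.Modules}
    (hN : PicF.IsInvertible N) (hL : PicF.IsInvertible L) (φ : N ⟶ L) (hφ : φ ≠ 0)
    (hdim : topologicalKrullDim X ≤ 1) :
    ∀ x ∈ CohB1.support (cokernel φ), IsClosed ({x} : Set X) := by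
  obtain ⟨W1, hW1, hξ1, e1, he1⟩ := exists_isGen hN (genericPoint X)
  obtain ⟨W, hW, hξW, hWW1, eL, heL⟩ := exists_isGen_le hL (genericPoint X) W1 hξ1
  have heN := he1.res hWW1
  obtain ⟨f, hf⟩ := heL.exists_coef (ap φ W (rF N hWW1 e1))
  have hWne : (W : Set X).Nonempty := ⟨_, hξW⟩
  have hf0 : f ≠ 0 := by
    intro h
    apply hφ
    refine hom_eq_zero_of_ap_gen hN hL φ hWne heN ?_
    rw [hf, h, zero_smul]
  haveI : Nonempty W := hWne.to_subtype
  have hUne : ((X.basicOpen f : X.Opens) : Set X).Nonempty := by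
    rw [Set.nonempty_iff_ne_empty]
    intro h
    have h1 : X.basicOpen f = ⊥ := by
      ext y
      simp only [Opens.coe_bot]
      rw [h]
    rw [AlgebraicGeometry.basicOpen_eq_bot_iff] at h1
    exact hf0 h1
  have hUW : X.basicOpen f ≤ W := X.basicOpen_le f
  have hsurj : Function.Surjective (ap φ (X.basicOpen f)) := by
    intro l
    obtain ⟨c, hc⟩ := (heL.res hUW).exists_coef l
    have hu : IsUnit (rX hUW f) := X.toRingedSpace.isUnit_res_basicOpen f
    obtain ⟨u, hu⟩ := hu
    refine ⟨(c * ((u⁻¹ : (Γ(X, X.basicOpen f))ˣ) : Γ(X, X.basicOpen f))) •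
      rF N hUW (rF N hWW1 e1), ?_⟩
    rw [ap_smul, ap_rF, hf, rF_smul, ← mul_smul, hc, ← hu]
    congr 1
    rw [mul_assoc, Units.inv_mul, mul_one]
  have hsupp := CohDevH8.support_cokernel_subset_compl
    (ProperFinH9.isCoh_of_isInvertible hN) (ProperFinH9.isCoh_of_isInvertible hL) φ
    (hW.basicOpen f) hsurj
  intro x hx
  have hxU : x ∉ X.basicOpen f := fun h => hsupp hx h
  rcases CurveH8.isMin_or_isMax hdim x with h | h
  · exact CurveH8.isClosed_singleton_of_isMin h
  · exfalso
    have h1 := CurveH8.closure_mem_irreducibleComponents h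
    rw [irreducibleComponents_eq_singleton, Set.mem_singleton_iff] at h1
    obtain ⟨y, hy⟩ := hUne
    have h2 : y ∈ closure ({x} : Set X) := by rw [h1]; trivial
    rw [mem_closure_iff] at h2
    obtain ⟨z, hz1, hz2⟩ := h2 _ (X.basicOpen f).isOpen hy
    rw [Set.mem_singleton_iff] at hz2
    subst hz2
    exact hxU hz1

end Curve

end CurveDeg

namespace CurveDeg

open QcqsLoc QCohExtn GenLocH8 TensH8

section Degree

variable (k : Type u) [Field k] (X : Scheme.{u}) [X.Over (Spec (CommRingCat.of k))]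
  [IsProper (X ↘ Spec (CommRingCat.of k))]

/-- `χ` of a coherent module supported at closed points is its `h⁰` -/
theorem euler_eq_finrank_of_closed_support (Q : X.Modules) (hQ : Coh.IsCoh Q)
    (h0 : ∀ x ∈ CohB1.support Q, IsClosed ({x} : Set X)) :
    Curv2.euler k X Q = (Module.finrank k (Coh.HH X Q 0) : ℤ) := by
  haveI : IsLocallyNoetherian X :=
    LocallyOfFiniteType.isLocallyNoetherian (X ↘ Spec (CommRingCat.of k))
  rw [EulerField.euler_eq_sum k X 0 Q
    (fun p hp => ZeroDimAcyc.HH_subsingleton_of_zero_dim X Q hQ h0 p hp)]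
  simp

omit [IsProper (X ↘ Spec (CommRingCat.of k))] [X.Over (Spec (CommRingCat.of k))] in
/-- a coherent module supported at closed points and without global sections is zero -/
theorem isZero_of_closed_support [IsLocallyNoetherian X] (Q : X.Modules) (hQ : Coh.IsCoh Q)
    (h0 : ∀ x ∈ CohB1.support Q, IsClosed ({x} : Set X)) (hΓ : Subsingleton Γ(Q, ⊤)) :
    IsZero Q := by
  haveI : SheafOfModules.IsFiniteType (R := X.ringCatSheaf) Q := hQ.2
  have hcl : IsClosed (CohB1.support Q) := SuppFT.isClosed_support Q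
  have hempty : ∀ x : X, x ∉ CohB1.support Q := by
    intro x hx
    apply hx
    refine ⟨fun a b => ?_⟩
    have hzero : ∀ c : Q.presheaf.stalk x, c = 0 := by
      intro c
      obtain ⟨V', hxV', s, rfl⟩ := TopCat.Presheaf.exists_germ_eq Q.presheaf c
      have hT : IsClosed (CohB1.support Q \ {x}) :=
        ZeroDimAcyc.isClosed_of_subset X _ hcl h0 _ Set.diff_subset
      let V : X.Opens := V' ⊓ ⟨(CohB1.support Q \ {x})ᶜ, hT.isOpen_compl⟩
      have hxV : x ∈ V := ⟨hxV', fun h => h.2 rfl⟩
      have hV : ∀ y ∈ V, y ∈ CohB1.support Q → y = x := by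
        intro y hy hys
        by_contra hne
        exact hy.2 ⟨hys, hne⟩
      have hVV' : V ≤ V' := inf_le_left
      obtain ⟨t, ht⟩ := CycLenH8.exists_global_extension Q (h0 x hx) hxV hV (rF Q hVV' s)
      have ht0 : t = 0 := Subsingleton.elim _ _
      rw [ht0, map_zero] at ht
      have h1 : Q.presheaf.germ V x hxV (rF Q hVV' s) = Q.presheaf.germ V' x hxV' s :=
        TopCat.Presheaf.germ_res_apply Q.presheaf (homOfLE hVV') x hxV s
      rw [← h1, ← ht, map_zero]
    rw [hzero a, hzero b]
  rw [IsZero.iff_id_eq_zero]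
  apply Scheme.Modules.hom_ext
  intro O
  ext σ
  show σ = 0
  exact CycLenH8.eq_zero_of_disjoint_support Q (fun y _ => hempty y) σ

end Degree

section Main

variable (k : Type u) [Field k] (X : Scheme.{u}) [X.Over (Spec (CommRingCat.of k))]
  [IsIntegral X] [IsProper (X ↘ Spec (CommRingCat.of k))]

/-- for a nonzero map `φ : N ⟶ L` of invertible modules on an integral proper curve,
`χ(L) = χ(N) + h⁰(coker φ)` -/
theorem euler_eq_add (hdim : topologicalKrullDim X ≤ 1) {N L : X.Modules}
    (hN : PicF.IsInvertible N) (hL : PicF.IsInvertible L) (φ : N ⟶ L) (hφ : φ ≠ 0) :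
    Curv2.euler k X L =
      Curv2.euler k X N + (Module.finrank k (Coh.HH X (cokernel φ) 0) : ℤ) := by
  haveI : IsLocallyNoetherian X :=
    LocallyOfFiniteType.isLocallyNoetherian (X ↘ Spec (CommRingCat.of k))
  haveI : CompactSpace X :=
    QuasiCompact.compactSpace_of_compactSpace (X ↘ Spec (CommRingCat.of k))
  haveI : IsNoetherian X := {}
  haveI hm := mono_of_ne_zero hN hL φ hφ
  have hNc := ProperFinH9.isCoh_of_isInvertible hN
  have hLc := ProperFinH9.isCoh_of_isInvertible hL
  have hQc : Coh.IsCoh (cokernel φ) := CohKerH8.isCoh_cokernel hNc hLc φ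
  let S : ShortComplex X.Modules := ShortComplex.mk φ (cokernel.π φ) (cokernel.condition φ)
  have hS : S.ShortExact :=
    ShortComplex.ShortExact.mk' (S.exact_of_g_is_cokernel (cokernelIsCokernel φ)) hm
      (inferInstanceAs (Epi (cokernel.π φ)))
  have h := EulerField.euler_additive k X S hS hNc hLc hQc
  rw [euler_eq_finrank_of_closed_support k X _ hQc
    (isClosed_singleton_of_mem_support_cokernel hN hL φ hφ hdim)] at h
  exact h

/-- if moreover `h⁰(coker φ) = 0` then `φ` is an isomorphism -/
theorem isIso_of_finrank_eq_zero (hdim : topologicalKrullDim X ≤ 1) {N L : X.Modules}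
    (hN : PicF.IsInvertible N) (hL : PicF.IsInvertible L) (φ : N ⟶ L) (hφ : φ ≠ 0)
    (h0 : Module.finrank k (Coh.HH X (cokernel φ) 0) = 0) : IsIso φ := by
  haveI : IsLocallyNoetherian X :=
    LocallyOfFiniteType.isLocallyNoetherian (X ↘ Spec (CommRingCat.of k))
  haveI : CompactSpace X :=
    QuasiCompact.compactSpace_of_compactSpace (X ↘ Spec (CommRingCat.of k))
  haveI : IsNoetherian X := {}
  haveI hm := mono_of_ne_zero hN hL φ hφ
  have hNc := ProperFinH9.isCoh_of_isInvertible hN
  have hLc := ProperFinH9.isCoh_of_isInvertible hL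
  have hQc : Coh.IsCoh (cokernel φ) := CohKerH8.isCoh_cokernel hNc hLc φ
  haveI := ProperFinH9.finite_HH_of_proper k X (cokernel φ) hQc 0
  haveI : Subsingleton (Coh.HH X (cokernel φ) 0) :=
    (Module.finrank_eq_zero_iff_of_free k _).mp h0
  have hΓ : Subsingleton Γ(cokernel φ, ⊤) :=
    (Sheaf.H.equiv₀ (Coh.toAb (cokernel φ)) isTerminalTop).symm.toEquiv.subsingleton
  have hz := isZero_of_closed_support X (cokernel φ) hQc
    (isClosed_singleton_of_mem_support_cokernel hN hL φ hφ hdim) hΓ
  haveI : Epi φ := Preadditive.epi_of_isZero_cokernel φ hz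
  exact isIso_of_mono_of_epi φ

/-- statement of S1521 -/
theorem deg_le_of_ne_zero (hdim : topologicalKrullDim X = 1) {N L : X.Modules}
    (hN : PicF.IsInvertible N) (hL : PicF.IsInvertible L) (φ : N ⟶ L) (hφ : φ ≠ 0) :
    Curv2.deg k X N 1 ≤ Curv2.deg k X L 1 ∧
      (Curv2.deg k X N 1 = Curv2.deg k X L 1 → IsIso φ) := by
  have h := euler_eq_add k X hdim.le hN hL φ hφ
  unfold Curv2.deg
  constructor
  · have := Int.natCast_nonneg (Module.finrank k (Coh.HH X (cokernel φ) 0))
    linarith
  · intro he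
    refine isIso_of_finrank_eq_zero k X hdim.le hN hL φ hφ ?_
    have : (Module.finrank k (Coh.HH X (cokernel φ) 0) : ℤ) = 0 := by linarith
    exact_mod_cast this

theorem deg_structureModule : Curv2.deg k X (Coh.structureModule X) 1 = 0 := by
  unfold Curv2.deg
  push_cast
  ring

/-- statement of S1518 -/
theorem deg_nonneg_of_section (hdim : topologicalKrullDim X = 1) {L : X.Modules}
    (hL : PicF.IsInvertible L) (s : Coh.structureModule X ⟶ L) (hs : s ≠ 0) :
    0 ≤ Curv2.deg k X L 1 := by
  have h := (deg_le_of_ne_zero k X hdim TensH8.isInvertible_structureModule hL s hs).1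
  rw [deg_structureModule] at h
  exact h

/-- a section of an invertible module of degree `≤ 0` on an integral proper curve is an
isomorphism -/
theorem isIso_of_deg_nonpos (hdim : topologicalKrullDim X = 1) {L : X.Modules}
    (hL : PicF.IsInvertible L) (s : Coh.structureModule X ⟶ L) (hs : s ≠ 0)
    (hdeg : Curv2.deg k X L 1 ≤ 0) : IsIso s := by
  have h := deg_le_of_ne_zero k X hdim TensH8.isInvertible_structureModule hL s hs
  rw [deg_structureModule] at h
  exact h.2 (le_antisymm h.1 hdeg)

/-- statement of S1519 -/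
theorem deg_pos_of_section_vanishing (hdim : topologicalKrullDim X = 1) {L : X.Modules}
    (hL : PicF.IsInvertible L) (s : Coh.structureModule X ⟶ L) (hs : s ≠ 0)
    (x : X) (hx : x ∉ CohB1.genLocus L s) : 0 < Curv2.deg k X L 1 := by
  by_contra hd
  haveI := isIso_of_deg_nonpos k X hdim hL s hs (not_lt.mp hd)
  apply hx
  rw [mem_genLocus_iff]
  refine ⟨⊤, trivial, fun W _ => ?_⟩
  exact (ConcreteCategory.isIso_iff_bijective (s.app W)).mp inferInstance

/-- statement of S1520 -/
theorem iso_structureModule_of_deg_nonpos (hdim : topologicalKrullDim X = 1) {L : X.Modules}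
    (hL : PicF.IsInvertible L) (s : Coh.structureModule X ⟶ L) (hs : s ≠ 0)
    (hdeg : Curv2.deg k X L 1 ≤ 0) : Nonempty (L ≅ Coh.structureModule X) := by
  haveI := isIso_of_deg_nonpos k X hdim hL s hs hdeg
  exact ⟨(asIso s).symm⟩

end Main

end CurveDeg
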