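import Mathlib
import Groth.Prelude
import Groth.Agent.Lib.ZeroDimAcyc_helper9
import Groth.Agent.Lib.EpiLoc_helper9
import Groth.Agent.Lib.PushEdge2_helper7
import Groth.Agent.Lib.SerreCrit3_helper9
import Groth.Agent.Lib.QcqsLoc_helper9
import Groth.Agent.Lib.QCohExtn_helper9
import Groth.Agent.Lib.QCohExact_helper9
import Groth.Agent.Lib.SubExt_helper9
import Groth.Agent.Lib.Curve1_helper8
import Groth.Agent.Lib.AffVanish_helper9
import Groth.Agent.Lib.HHVan_helper9

/-!
# Vanishing of `H^i`, `i ≥ 2`, on schemes with an affine open whose complement is discrete (helper9)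

If `U ⊆ X` is an affine open with `U → X` affine and every subset of `X ∖ U` is closed, then
`H^i(X, F) = 0` for every quasi-coherent `F` and `i ≥ 2`.  Applies to integral Noetherian separated
schemes of dimension at most one.
APPEND-ONLY once landed.
-/

set_option autoImplicit false
universe u
open CategoryTheory CategoryTheory.Limits AlgebraicGeometry Opposite TopologicalSpace

namespace CurveVan

open QcqsLoc QCohExtn

variable {X : Scheme.{u}}

/-- a stalk all of whose germs vanish on a smaller neighbourhood is trivial -/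
theorem subsingleton_stalk_of_locally_zero (M : X.Modules) (x : X)
    (h : ∀ (V : X.Opens) (_ : x ∈ V) (s : Γ(M, V)),
      ∃ (V' : X.Opens) (hV' : V' ≤ V), x ∈ V' ∧ rF M hV' s = 0) :
    Subsingleton (M.presheaf.stalk x) := by
  have key : ∀ g : M.presheaf.stalk x, g = 0 := by
    intro g
    obtain ⟨V, hxV, s, rfl⟩ := TopCat.Presheaf.germ_exist M.presheaf g
    obtain ⟨V', hV', hxV', hs⟩ := h V hxV s
    have h1 := TopCat.Presheaf.germ_res_apply M.presheaf (homOfLE hV') x hxV' s
    rw [← h1]
    have h2 : (M.presheaf.map (homOfLE hV').op) s = 0 := hs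
    rw [h2, map_zero]
  exact ⟨fun a b => by rw [key a, key b]⟩

section LES

/-- long exact sequence: vanishing in the middle -/
theorem HH_mid (S : ShortComplex X.Modules) (hS : S.ShortExact) (q : ℕ)
    (h1 : Subsingleton (Coh.HH X S.X₁ q)) (h3 : Subsingleton (Coh.HH X S.X₃ q)) :
    Subsingleton (Coh.HH X S.X₂ q) := by
  have hT := SerreCrit.shortExact_toSheaf S hS
  have key : ∀ x : Coh.HH X S.X₂ q, x = 0 := by
    intro x
    obtain ⟨y, hy⟩ := Abelian.Ext.covariant_sequence_exact₂ _ hT
      (show Abelian.Ext _ (Coh.toAb S.X₂) q from x) (Subsingleton.elim (h := h3) _ _)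
    have hy0 : y = 0 := Subsingleton.elim (h := h1) _ _
    have h0 : y.comp (Abelian.Ext.mk₀ (S.map (SerreCrit.TT X)).f) (add_zero q) = 0 := by
      rw [hy0, Abelian.Ext.zero_comp]
    exact hy.symm.trans h0
  exact ⟨fun x y => by rw [key x, key y]⟩

/-- long exact sequence: vanishing at the sub -/
theorem HH_sub (S : ShortComplex X.Modules) (hS : S.ShortExact) (q : ℕ)
    (h3 : Subsingleton (Coh.HH X S.X₃ q)) (h2 : Subsingleton (Coh.HH X S.X₂ (q + 1))) :
    Subsingleton (Coh.HH X S.X₁ (q + 1)) := by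
  have hT := SerreCrit.shortExact_toSheaf S hS
  have key : ∀ x : Coh.HH X S.X₁ (q + 1), x = 0 := by
    intro x
    obtain ⟨y, hy⟩ := Abelian.Ext.covariant_sequence_exact₁ _ hT
      (show Abelian.Ext _ (Coh.toAb S.X₁) (q + 1) from x) (Subsingleton.elim (h := h2) _ _) rfl
    have hy0 : y = 0 := Subsingleton.elim (h := h3) _ _
    have h0 : y.comp hT.extClass (rfl : q + 1 = q + 1) = 0 := by
      rw [hy0, Abelian.Ext.zero_comp]
    exact hy.symm.trans h0
  exact ⟨fun x y => by rw [key x, key y]⟩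

end LES

section Unit

variable (U : X.Opens)

/-- the unit `F ⟶ j_* (F|_U)` -/
noncomputable abbrev η (F : X.Modules) :
    F ⟶ (Scheme.Modules.pushforward U.ι).obj (F.restrict U.ι) :=
  (Scheme.Modules.restrictAdjunction U.ι).unit.app F

theorem image_preimage_of_le {V : X.Opens} (hV : V ≤ U) : U.ι ''ᵁ (U.ι ⁻¹ᵁ V) = V := by
  rw [Scheme.Hom.image_preimage_eq_opensRange_inf, Scheme.Opens.opensRange_ι]
  exact inf_eq_right.mpr hV

theorem η_bijective (F : X.Modules) {V : X.Opens} (hV : V ≤ U) :
    Function.Bijective (ap (η U F) V) :=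
  SubExt.rF_bijective_of_eq F (U.ι.image_preimage_le V) (image_preimage_of_le U hV)

/-- the kernel of the unit has no stalks on `U` -/
theorem subsingleton_stalk_kernel (F : X.Modules) {x : X} (hx : x ∈ U) :
    Subsingleton ((kernel (η U F)).presheaf.stalk x) := by
  refine subsingleton_stalk_of_locally_zero _ x (fun V hxV s => ?_)
  refine ⟨V ⊓ U, inf_le_left, ⟨hxV, hx⟩, ?_⟩
  have hinj := QCohExact.app_injective_of_mono (kernel.ι (η U F)) (V ⊓ U)
  apply hinj
  have h0 : ap (kernel.ι (η U F)) (V ⊓ U) 0 = 0 := map_zero _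
  refine Eq.trans ?_ h0.symm
  apply (η_bijective U F (inf_le_right : V ⊓ U ≤ U)).1
  have h1 : ap (η U F) (V ⊓ U) (ap (kernel.ι (η U F)) (V ⊓ U) (rF _ inf_le_left s)) =
      ap (kernel.ι (η U F) ≫ η U F) (V ⊓ U) (rF _ inf_le_left s) := rfl
  refine h1.trans ?_
  rw [kernel.condition, map_zero]
  rfl

/-- the cokernel of the unit has no stalks on `U` -/
theorem subsingleton_stalk_cokernel (F : X.Modules) {x : X} (hx : x ∈ U) :
    Subsingleton ((cokernel (η U F)).presheaf.stalk x) := by
  refine subsingleton_stalk_of_locally_zero _ x (fun V hxV q => ?_)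
  obtain ⟨V₁, hV₁, hxV₁, p, hp⟩ := EpiLoc.exists_local_lift (cokernel.π (η U F)) q hxV
  refine ⟨V₁ ⊓ U, inf_le_left.trans hV₁, ⟨hxV₁, hx⟩, ?_⟩
  obtain ⟨f, hf⟩ := (η_bijective U F (inf_le_right : V₁ ⊓ U ≤ U)).2
    (rF _ (inf_le_left : V₁ ⊓ U ≤ V₁) p)
  have hp' : ap (cokernel.π (η U F)) V₁ p = rF _ hV₁ q := hp
  have h1 : rF (cokernel (η U F)) (inf_le_left.trans hV₁ : V₁ ⊓ U ≤ V) q =
      rF _ (inf_le_left : V₁ ⊓ U ≤ V₁) (rF _ hV₁ q) := (rF_rF _ _ _ _).symm
  rw [h1, ← hp', ← ap_rF, ← hf]
  have h2 : ap (cokernel.π (η U F)) (V₁ ⊓ U) (ap (η U F) (V₁ ⊓ U) f) =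
      ap (η U F ≫ cokernel.π (η U F)) (V₁ ⊓ U) f := rfl
  rw [h2, cokernel.condition]
  rfl

end Unit

section Flasque

/-- a module whose stalks vanish off a set all of whose subsets are closed is acyclic -/
theorem HH_subsingleton_of_stalks (M : X.Modules) (Z : Set X)
    (hZ : ∀ x, x ∉ Z → Subsingleton (M.presheaf.stalk x))
    (hcl : ∀ T : Set X, T ⊆ Z → IsClosed T) (n : ℕ) : Subsingleton (Coh.HH X M (n + 1)) := by
  haveI : TopCat.Sheaf.IsFlasque (Coh.toAb M) :=
    ZeroDimAcyc.isFlasque_of_discrete_support (Coh.toAb M) Z hZ hcl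
  exact ⟨fun a b =>
    (Groth.Agent.Lib.FlasqueAcyclic.H_eq_zero_of_isFlasque (Coh.toAb M) n a).trans
      (Groth.Agent.Lib.FlasqueAcyclic.H_eq_zero_of_isFlasque (Coh.toAb M) n b).symm⟩

end Flasque

section Main

/-- **Vanishing above degree one**: if `U` is an affine open of `X` with `U → X` affine and all
subsets of `X ∖ U` closed, then quasi-coherent modules have no cohomology in degrees `≥ 2`. -/
theorem HH_subsingleton_of_affine_compl_discrete (U : X.Opens) (hU : IsAffineOpen U)
    [IsAffineHom U.ι] (hcl : ∀ T : Set X, T ⊆ (U : Set X)ᶜ → IsClosed T)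
    (F : X.Modules) [F.IsQuasicoherent] (n : ℕ) : Subsingleton (Coh.HH X F (n + 2)) := by
  haveI : IsAffine (U : Scheme.{u}) := hU
  haveI hG : (F.restrict U.ι).IsQuasicoherent := inferInstance
  -- cohomology of `j_* j^* F`
  have hP : ∀ p : ℕ, Subsingleton (Coh.HH X ((Scheme.Modules.pushforward U.ι).obj
      (F.restrict U.ι)) (p + 1)) := by
    intro p
    have hbij := Groth.Agent.Lib.PushEdge2_helper7.pushEdge_bijective_of_isAffineHom U.ι
      (F.restrict U.ι) (p + 1)
    haveI := AffVanish.HH_subsingleton_of_isAffine (U : Scheme.{u}) (F.restrict U.ι) p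
    exact ⟨fun a b => hbij.1 (Subsingleton.elim _ _)⟩
  -- kernel and cokernel are acyclic
  have hK : ∀ p : ℕ, Subsingleton (Coh.HH X (kernel (η U F)) (p + 1)) := fun p =>
    HH_subsingleton_of_stalks _ (U : Set X)ᶜ
      (fun x hx => subsingleton_stalk_kernel U F (not_not.mp hx)) hcl p
  have hQ : ∀ p : ℕ, Subsingleton (Coh.HH X (cokernel (η U F)) (p + 1)) := fun p =>
    HH_subsingleton_of_stalks _ (U : Set X)ᶜ
      (fun x hx => subsingleton_stalk_cokernel U F (not_not.mp hx)) hcl p
  -- the two short exact sequences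
  let S₁ : ShortComplex X.Modules :=
    ShortComplex.mk (kernel.ι (η U F)) (cokernel.π (kernel.ι (η U F))) (cokernel.condition _)
  have hS₁ : S₁.ShortExact := ShortComplex.ShortExact.mk' (ShortComplex.exact_cokernel _)
    (inferInstanceAs (Mono (kernel.ι (η U F))))
    (inferInstanceAs (Epi (cokernel.π (kernel.ι (η U F)))))
  let S₂ : ShortComplex X.Modules :=
    ShortComplex.mk (kernel.ι (cokernel.π (η U F))) (cokernel.π (η U F)) (kernel.condition _)
  have hS₂ : S₂.ShortExact := ShortComplex.ShortExact.mk' (ShortComplex.exact_kernel _)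
    (inferInstanceAs (Mono (kernel.ι (cokernel.π (η U F)))))
    (inferInstanceAs (Epi (cokernel.π (η U F))))
  -- image
  have hI : Subsingleton (Coh.HH X (Abelian.image (η U F)) (n + 2)) :=
    HH_sub S₂ hS₂ (n + 1) (hQ n) (hP (n + 1))
  have hI' : Subsingleton (Coh.HH X (Abelian.coimage (η U F)) (n + 2)) :=
    Groth.Agent.HHVan.subsingleton_of_iso (Abelian.coimageIsoImage (η U F)).symm (n + 2) hI
  exact HH_mid S₁ hS₁ (n + 2) (hK (n + 1)) hI'

end Main

section Curve

/-- on an integral scheme of dimension at most one, points outside a nonempty open are closed -/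
theorem isClosed_singleton_of_notMem_open [IsIntegral X] (hdim : topologicalKrullDim X ≤ 1)
    (U : X.Opens) (hne : (U : Set X).Nonempty) (x : X) (hxU : x ∉ U) :
    IsClosed ({x} : Set X) := by
  rcases CurveH8.isMin_or_isMax hdim x with h | h
  · exact CurveH8.isClosed_singleton_of_isMin h
  · exfalso
    have h1 := CurveH8.closure_mem_irreducibleComponents h
    rw [irreducibleComponents_eq_singleton, Set.mem_singleton_iff] at h1
    obtain ⟨y, hy⟩ := hne
    have h2 : y ∈ closure ({x} : Set X) := by rw [h1]; trivial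
    rw [mem_closure_iff] at h2
    obtain ⟨z, hz1, hz2⟩ := h2 _ U.isOpen hy
    rw [Set.mem_singleton_iff] at hz2
    subst hz2
    exact hxU hz1

/-- the inclusion of an affine open of a scheme separated over an affine base is affine -/
theorem isAffineHom_ι {S : Scheme.{u}} (f : X ⟶ S) [IsSeparated f] [IsAffine S] (U : X.Opens)
    (hU : IsAffineOpen U) : IsAffineHom U.ι := by
  haveI : IsAffine (U : Scheme.{u}) := hU
  haveI : IsAffineHom (U.ι ≫ f) := inferInstance
  exact IsAffineHom.of_comp (f := U.ι) (g := f)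

/-- **Vanishing above degree one on integral curves**. -/
theorem HH_subsingleton_of_integral_curve [IsIntegral X] [IsLocallyNoetherian X]
    {S : Scheme.{u}} (f : X ⟶ S) [IsSeparated f] [IsAffine S]
    (hdim : topologicalKrullDim X ≤ 1) (F : X.Modules) [F.IsQuasicoherent] (n : ℕ) :
    Subsingleton (Coh.HH X F (n + 2)) := by
  obtain ⟨U, hU, hxU, -⟩ := Opens.isBasis_iff_nbhd.mp X.isBasis_affineOpens
    (show genericPoint X ∈ (⊤ : X.Opens) from trivial)
  haveI := isAffineHom_ι f U hU
  refine HH_subsingleton_of_affine_compl_discrete U hU (fun T hT => ?_) F n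
  refine ZeroDimAcyc.isClosed_of_subset X (U : Set X)ᶜ U.isOpen.isClosed_compl ?_ T hT
  intro z hz
  exact isClosed_singleton_of_notMem_open hdim U ⟨_, hxU⟩ z hz

end Curve

end CurveVan
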