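import Mathlib
import Groth.Prelude
import Groth.Agent.Lib.CurveVan1_helper9
import Groth.Agent.Lib.CurveDeg1_helper9
import Groth.Agent.Lib.SDivGen_helper8

/-!
# Euler characteristic on integral proper curves: `χ = h⁰ - h¹` and genus zero (helper9)
APPEND-ONLY once landed.
-/

set_option autoImplicit false
universe u
open CategoryTheory CategoryTheory.Limits AlgebraicGeometry Opposite TopologicalSpace

namespace CurveRR

open QcqsLoc QCohExtn GenLocH8 TensH8

variable (k : Type u) [Field k] (X : Scheme.{u}) [X.Over (Spec (CommRingCat.of k))]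
  [IsIntegral X] [IsProper (X ↘ Spec (CommRingCat.of k))]

include k in
/-- vanishing of `H^i`, `i ≥ 2`, on an integral proper curve -/
theorem HH_subsingleton (hdim : topologicalKrullDim X ≤ 1) (F : X.Modules)
    [F.IsQuasicoherent] (p : ℕ) (hp : 1 < p) : Subsingleton (Coh.HH X F p) := by
  haveI : IsLocallyNoetherian X :=
    LocallyOfFiniteType.isLocallyNoetherian (X ↘ Spec (CommRingCat.of k))
  obtain ⟨n, rfl⟩ : ∃ n, p = n + 2 := ⟨p - 2, by omega⟩
  exact CurveVan.HH_subsingleton_of_integral_curve (X ↘ Spec (CommRingCat.of k)) hdim F n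

/-- `χ = h⁰ - h¹` on an integral proper curve -/
theorem euler_eq_sub (hdim : topologicalKrullDim X ≤ 1) (F : X.Modules) [F.IsQuasicoherent] :
    Curv2.euler k X F = (Module.finrank k (Coh.HH X F 0) : ℤ) -
      (Module.finrank k (Coh.HH X F 1) : ℤ) := by
  rw [EulerField.euler_eq_sum k X 1 F (fun p hp => HH_subsingleton k X hdim F p hp)]
  simp [Finset.sum_range_succ]
  ring

omit [IsIntegral X] [IsProper (X ↘ Spec (CommRingCat.of k))] in
/-- a nonzero class in `H⁰` gives a nonzero section -/
theorem exists_section_of_finrank_pos (L : X.Modules)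
    (h : 0 < Module.finrank k (Coh.HH X L 0)) :
    ∃ s : Coh.structureModule X ⟶ L, s ≠ 0 := by
  haveI : Nontrivial (Coh.HH X L 0) := Module.nontrivial_of_finrank_pos (R := k) h
  obtain ⟨v, hv⟩ := exists_ne (0 : Coh.HH X L 0)
  let e := Sheaf.H.equiv₀ (Coh.toAb L) isTerminalTop
  have ht : e v ≠ 0 := fun h0 => hv (e.injective (h0.trans (map_zero e).symm))
  refine ⟨SDivGenH8.unitHom L (e v), fun h0 => ht ?_⟩
  have h1 := SDivGenH8.unitHom_app_one L (e v) ⊤
  rw [h0] at h1
  have h2 : L.val.map (homOfLE (le_top : (⊤ : X.Opens) ≤ ⊤)).op (e v) = e v :=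
    SubExt.rF_self L le_top (e v)
  rw [h2] at h1
  exact h1.symm

include k in
/-- along a nonzero map of invertible modules on an integral proper curve, vanishing of `H¹`
propagates -/
theorem HH1_subsingleton_of_hom (hdim : topologicalKrullDim X ≤ 1) {N L : X.Modules}
    (hN : PicF.IsInvertible N) (hL : PicF.IsInvertible L) (φ : N ⟶ L) (hφ : φ ≠ 0)
    (h1 : Subsingleton (Coh.HH X N 1)) : Subsingleton (Coh.HH X L 1) := by
  haveI : IsLocallyNoetherian X :=
    LocallyOfFiniteType.isLocallyNoetherian (X ↘ Spec (CommRingCat.of k))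
  haveI : CompactSpace X :=
    QuasiCompact.compactSpace_of_compactSpace (X ↘ Spec (CommRingCat.of k))
  haveI : IsNoetherian X := {}
  haveI hm := CurveDeg.mono_of_ne_zero hN hL φ hφ
  have hNc := ProperFinH9.isCoh_of_isInvertible hN
  have hLc := ProperFinH9.isCoh_of_isInvertible hL
  have hQc : Coh.IsCoh (cokernel φ) := CohKerH8.isCoh_cokernel hNc hLc φ
  let S : ShortComplex X.Modules := ShortComplex.mk φ (cokernel.π φ) (cokernel.condition φ)
  have hS : S.ShortExact :=
    ShortComplex.ShortExact.mk' (S.exact_of_g_is_cokernel (cokernelIsCokernel φ)) hm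
      (inferInstanceAs (Epi (cokernel.π φ)))
  have h3 : Subsingleton (Coh.HH X (cokernel φ) 1) :=
    ZeroDimAcyc.HH_subsingleton_of_zero_dim X _ hQc
      (CurveDeg.isClosed_singleton_of_mem_support_cokernel hN hL φ hφ hdim) 1 Nat.one_pos
  exact CurveVan.HH_mid S hS 1 h1 h3

omit [IsIntegral X] in
/-- `H¹(O_X) = 0` in genus zero -/
theorem HH1_structureModule_of_genus_zero (hg : Curv2.genus k X = 0) :
    Subsingleton (Coh.HH X (Coh.structureModule X) 1) := by
  haveI : IsLocallyNoetherian X :=
    LocallyOfFiniteType.isLocallyNoetherian (X ↘ Spec (CommRingCat.of k))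
  haveI := ProperFinH9.finite_HH_of_proper k X (Coh.structureModule X)
    (ProperFinH9.isCoh_of_isInvertible TensH8.isInvertible_structureModule) 1
  exact (Module.finrank_eq_zero_iff_of_free k _).mp hg

/-- statement of S6540 -/
theorem iso_structureModule_of_genus_zero (hdim : topologicalKrullDim X = 1)
    (h0 : Module.finrank k (Coh.HH X (Coh.structureModule X) 0) = 1)
    (hg : Curv2.genus k X = 0) (L : X.Modules) (hL : PicF.IsInvertible L)
    (hdeg : Curv2.deg k X L 1 = 0) : Nonempty (L ≅ Coh.structureModule X) := by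
  haveI hLq : L.IsQuasicoherent := (ProperFinH9.isCoh_of_isInvertible hL).1
  haveI hOq : (Coh.structureModule X).IsQuasicoherent :=
    (ProperFinH9.isCoh_of_isInvertible TensH8.isInvertible_structureModule).1
  have e1 := euler_eq_sub k X hdim.le L
  have e2 := euler_eq_sub k X hdim.le (Coh.structureModule X)
  have hg' : Module.finrank k (Coh.HH X (Coh.structureModule X) 1) = 0 := hg
  unfold Curv2.deg at hdeg
  rw [e1, e2, h0, hg'] at hdeg
  have hpos : 0 < Module.finrank k (Coh.HH X L 0) := by
    have : (0 : ℤ) < (Module.finrank k (Coh.HH X L 0) : ℤ) := by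
      have := Int.natCast_nonneg (Module.finrank k (Coh.HH X L 1))
      push_cast at hdeg
      linarith
    exact_mod_cast this
  obtain ⟨s, hs⟩ := exists_section_of_finrank_pos k X L hpos
  have hdeg' : Curv2.deg k X L 1 ≤ 0 := by
    unfold Curv2.deg
    rw [e1, e2, h0, hg']
    exact hdeg.le
  exact CurveDeg.iso_structureModule_of_deg_nonpos k X hdim hL s hs hdeg'

/-- statement of S1635 -/
theorem finrank_of_genus_zero (hdim : topologicalKrullDim X = 1)
    (h0 : Module.finrank k (Coh.HH X (Coh.structureModule X) 0) = 1)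
    (hg : Curv2.genus k X = 0) (L : X.Modules) (hL : PicF.IsInvertible L) (d : ℕ)
    (hd : 0 < d) (hdeg : Curv2.deg k X L 1 = d) :
    Module.finrank k (Coh.HH X L 0) = d + 1 ∧ Subsingleton (Coh.HH X L 1) := by
  haveI hLq : L.IsQuasicoherent := (ProperFinH9.isCoh_of_isInvertible hL).1
  haveI hOq : (Coh.structureModule X).IsQuasicoherent :=
    (ProperFinH9.isCoh_of_isInvertible TensH8.isInvertible_structureModule).1
  have e1 := euler_eq_sub k X hdim.le L
  have e2 := euler_eq_sub k X hdim.le (Coh.structureModule X)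
  have hg' : Module.finrank k (Coh.HH X (Coh.structureModule X) 1) = 0 := hg
  unfold Curv2.deg at hdeg
  rw [e1, e2, h0, hg'] at hdeg
  push_cast at hdeg
  have hpos : 0 < Module.finrank k (Coh.HH X L 0) := by
    have : (0 : ℤ) < (Module.finrank k (Coh.HH X L 0) : ℤ) := by
      have := Int.natCast_nonneg (Module.finrank k (Coh.HH X L 1))
      have : (0 : ℤ) < d := by exact_mod_cast hd
      linarith
    exact_mod_cast this
  obtain ⟨s, hs⟩ := exists_section_of_finrank_pos k X L hpos
  have hH1 : Subsingleton (Coh.HH X L 1) :=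
    HH1_subsingleton_of_hom k X hdim.le TensH8.isInvertible_structureModule hL s hs
      (HH1_structureModule_of_genus_zero k X hg)
  refine ⟨?_, hH1⟩
  have h1 : Module.finrank k (Coh.HH X L 1) = 0 := Module.finrank_zero_of_subsingleton
  rw [h1] at hdeg
  have : (Module.finrank k (Coh.HH X L 0) : ℤ) = d + 1 := by
    push_cast at hdeg
    linarith
  exact_mod_cast this

end CurveRR
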