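import Mathlib
import Groth.Prelude
import Groth.Agent.Lib.CMReg4_helper9
import Groth.Agent.Lib.Tens38_helper8

/-!
# Castelnuovo–Mumford: surjectivity of multiplication maps (helper9)
APPEND-ONLY once landed.
-/

set_option autoImplicit false
universe u
open CategoryTheory CategoryTheory.Limits AlgebraicGeometry TopologicalSpace Opposite
open TensorProduct MonoidalCategory

namespace Groth.Agent.CMMul

open QcqsLoc QCohExtn SerreCrit GenLocH8 TensH8 Groth.Agent.TensInv

variable {X : Scheme.{u}}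

/-- The left unit isomorphism `O ⊗ F ≅ F` of the sectionwise tensor product. -/
noncomputable def unitorPreL (F : X.Modules) :
    (CohB1.tensorPre (Coh.structureModule X) F : X.PresheafOfModules) ≅ F.val :=
  (λ_ (CohB1.toPMod F) : (CohB1.tensorPre (Coh.structureModule X) F : CohB1.PMod X) ≅
    (CohB1.toPMod F : CohB1.PMod X))

/-- The canonical identification `O ⊗ F ≅ F`. -/
noncomputable def unitorL (F : X.Modules) : CohB1.tensorMod (Coh.structureModule X) F ≅ F :=
  (CohB1.sheafifyMod X).mapIso (unitorPreL F) ≪≫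
    (asIso (PresheafOfModules.sheafificationAdjunction.{u, u, u, u}
      (J := Opens.grothendieckTopology X) (𝟙 X.ringCatSheaf.obj)).counit).app F

theorem unitorPreL_hom_tmul (F : X.Modules) (U : X.Opens) (t : F.val.obj (op U))
    (r : X.ringCatSheaf.obj.obj (op U)) :
    ((unitorPreL F).hom.app (op U)).hom
        ((((r : (Coh.structureModule X).val.obj (op U))) ⊗ₜ t :
          ↥((CohB1.tensorPre (Coh.structureModule X) F).obj (op U)))) = r • t := by
  change ((λ_ (CohB1.toPMod F)).hom.app (op U)).hom _ = _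
  simp [PresheafOfModules.leftUnitor_hom_app]
  rfl

theorem unitorL_tmul (F : X.Modules) (U : X.Opens) (t : F.val.obj (op U))
    (r : X.ringCatSheaf.obj.obj (op U)) :
    ((unitorL F).hom.val.app (op U)).hom
        (SecTwist.tmul (Coh.structureModule X) F U (r : (Coh.structureModule X).val.obj (op U)) t) =
      r • t := by
  let adj := PresheafOfModules.sheafificationAdjunction.{u, u, u, u}
    (J := Opens.grothendieckTopology X) (𝟙 X.ringCatSheaf.obj)
  let P : X.PresheafOfModules := CohB1.tensorPre (Coh.structureModule X) F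
  let x : ↥((CohB1.tensorPre (Coh.structureModule X) F).obj (op U)) :=
    (r : (Coh.structureModule X).val.obj (op U)) ⊗ₜ t
  have natU : ((adj.unit.app F.val).app (op U)).hom (((unitorPreL F).hom.app (op U)).hom x) =
      ((((CohB1.sheafifyMod X).map (unitorPreL F).hom).val.app (op U)).hom
        (((adj.unit.app P).app (op U)).hom x)) :=
    congrArg (fun φ => (PresheafOfModules.Hom.app φ (op U)).hom x)
      (adj.unit.naturality (unitorPreL F).hom)
  rw [unitorPreL_hom_tmul] at natU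
  have triU : (((adj.counit.app F).val.app (op U)).hom
      (((adj.unit.app F.val).app (op U)).hom (r • t))) = r • t :=
    congrArg (fun φ => (PresheafOfModules.Hom.app φ (op U)).hom (r • t))
      (adj.right_triangle_components F)
  change ((((CohB1.sheafifyMod X).map (unitorPreL F).hom ≫ adj.counit.app F).val.app (op U)).hom
      (((adj.unit.app P).app (op U)).hom x)) = r • t
  rw [← triU, natU]
  rfl

/-- section formula for `ψ ⊗ L` -/
theorem ap_tR_map_tmul {A B : X.Modules} (ψ : A ⟶ B) (L : X.Modules) (U : X.Opens)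
    (a : Γ(A, U)) (s : Γ(L, U)) :
    ap ((tR L).map ψ) U (SecTwist.tmul A L U a s) = SecTwist.tmul B L U (ap ψ U a) s := by
  let adj := PresheafOfModules.sheafificationAdjunction.{u, u, u, u}
    (J := Opens.grothendieckTopology X) (𝟙 X.ringCatSheaf.obj)
  let P : X.PresheafOfModules := CohB1.tensorPre A L
  let Q : X.PresheafOfModules := CohB1.tensorPre B L
  let g : P ⟶ Q := (show (CohB1.tensorPre A L : CohB1.PMod X) ⟶ (CohB1.tensorPre B L : CohB1.PMod X) from
    (show CohB1.toPMod A ⟶ CohB1.toPMod B from ψ.val) ▷ CohB1.toPMod L)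
  let x : ↥((CohB1.tensorPre A L).obj (op U)) := a ⊗ₜ s
  have natU : ((adj.unit.app Q).app (op U)).hom ((g.app (op U)).hom x) =
      ((((CohB1.sheafifyMod X).map g).val.app (op U)).hom
        (((adj.unit.app P).app (op U)).hom x)) :=
    congrArg (fun φ => (PresheafOfModules.Hom.app φ (op U)).hom x) (adj.unit.naturality g)
  have hg : (g.app (op U)).hom x = ((ap ψ U a : Γ(B, U)) ⊗ₜ s : ↥((CohB1.tensorPre B L).obj (op U))) := by
    rfl
  rw [hg] at natU
  exact natU.symm

theorem unitorL_tmul' (F : X.Modules) (U : X.Opens) (t : Γ(F, U)) (r : Γ(X, U)) :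
    ap (unitorL F).hom U (SecTwist.tmul (OO X) F U (ofFn r) t) = r • t :=
  unitorL_tmul F U t r

/-- every section of `O ⊗ L` is of the form `1 ⊗ s` -/
theorem exists_eq_one_tmul (L : X.Modules) (U : X.Opens)
    (w : Γ(CohB1.tensorMod (OO X) L, U)) :
    ∃ s : Γ(L, U), w = SecTwist.tmul (OO X) L U (ofFn (1 : Γ(X, U))) s := by
  refine ⟨ap (unitorL L).hom U w, ?_⟩
  have h1 : ap (unitorL L).hom U
      (SecTwist.tmul (OO X) L U (ofFn (1 : Γ(X, U))) (ap (unitorL L).hom U w)) =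
      ap (unitorL L).hom U w := by
    rw [unitorL_tmul', one_smul]
  have h2 := congrArg (ap (unitorL L).inv U) h1
  rw [ap_inv_hom, ap_inv_hom] at h2
  exact h2.symm

/-- the image of `ψ ⊗ L` on sections of `O ⊗ L` consists of products -/
theorem ap_map_mem_range {G : X.Modules} (ψ : OO X ⟶ G) (L : X.Modules) (U : X.Opens)
    (w : Γ(CohB1.tensorMod (OO X) L, U)) :
    ap ((tR L).map ψ) U w ∈ (eta G L U).range := by
  obtain ⟨s, rfl⟩ := exists_eq_one_tmul L U w
  rw [ap_tR_map_tmul]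
  exact ⟨_, eta_tmul G L U _ s⟩

/-- **multiplication maps are surjective** when all morphisms `A ⟶ G` are sums of morphisms
factoring through `O`, where `A ⊗ L ≅ O` -/
theorem eta_surjective_of_fac (G L A : X.Modules) [(tR L).Full] [(tR L).Faithful]
    (v : (tR L).obj A ≅ OO X)
    (hfac : ∀ χ : A ⟶ G, χ ∈ AddSubgroup.closure
      {χ' : A ⟶ G | ∃ (c : A ⟶ OO X) (ψ : OO X ⟶ G), χ' = c ≫ ψ}) :
    Function.Surjective (eta G L ⊤) := by
  intro z
  have key : ∀ χ : A ⟶ G, ap (v.inv ≫ (tR L).map χ) ⊤ (ofFn (1 : Γ(X, ⊤))) ∈ (eta G L ⊤).range := by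
    intro χ
    refine AddSubgroup.closure_induction (p := fun χ' _ =>
      ap (v.inv ≫ (tR L).map χ') ⊤ (ofFn (1 : Γ(X, ⊤))) ∈ (eta G L ⊤).range) ?_ ?_ ?_ ?_ (hfac χ)
    · rintro χ' ⟨c, ψ, rfl⟩
      rw [Functor.map_comp, ← Category.assoc]
      exact ap_map_mem_range ψ L ⊤ _
    · rw [Functor.map_zero, comp_zero]
      exact zero_mem _
    · intro a b _ _ ha hb
      rw [Functor.map_add, Preadditive.comp_add]
      exact add_mem ha hb
    · intro a _ ha
      rw [Functor.map_neg, Preadditive.comp_neg]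
      exact neg_mem ha
  have h := key ((tR L).preimage (v.hom ≫ SDivGenH8.unitHom _ z))
  rw [Functor.map_preimage, Iso.inv_hom_id_assoc, Groth.Agent.CMReg.ap_unitHom_one] at h
  exact h

section Proj

open Groth.Agent.ProjTens Groth.Agent.CMReg Groth.Agent.KosSh Groth.Agent.ProjFin

variable (n : ℕ) (R : Type u) [CommRing R]

/-- the subgroup of morphisms `O(b) ⟶ G` generated by those factoring through `O` -/
noncomputable def Fac (b : ℤ) (G : (CohB1.ProjSpace n R).Modules) : AddSubgroup (OO n R b ⟶ G) :=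
  AddSubgroup.closure {χ' : OO n R b ⟶ G |
    ∃ (c : OO n R b ⟶ SerreCrit.OO (CohB1.ProjSpace n R))
      (ψ : SerreCrit.OO (CohB1.ProjSpace n R) ⟶ G), χ' = c ≫ ψ}

variable {n R} in
lemma comp_mem_Fac {b b' : ℤ} (x : OO n R b' ⟶ OO n R b) {G : (CohB1.ProjSpace n R).Modules}
    {χ : OO n R b ⟶ G} (h : χ ∈ Fac n R b G) : x ≫ χ ∈ Fac n R b' G := by
  refine AddSubgroup.closure_induction (p := fun χ' _ => x ≫ χ' ∈ Fac n R b' G) ?_ ?_ ?_ ?_ h
  · rintro χ' ⟨c, ψ, rfl⟩
    apply AddSubgroup.subset_closure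
    exact ⟨x ≫ c, ψ, (Category.assoc _ _ _).symm⟩
  · rw [comp_zero]
    exact zero_mem _
  · intro a b _ _ ha hb
    rw [Preadditive.comp_add]
    exact add_mem ha hb
  · intro a _ ha
    rw [Preadditive.comp_neg]
    exact neg_mem ha

section Ext

variable [HasExt.{u} (CohB1.ProjSpace n R).Modules]

/-- for a `0`-regular `G`, every morphism `O(-e) ⟶ G` is a sum of morphisms factoring through
`O` -/
theorem fac_all (G : (CohB1.ProjSpace n R).Modules)
    (h : ∀ q : ℕ, 1 ≤ q →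
      Subsingleton (Coh.HH (CohB1.ProjSpace n R) (CohB1.tensorMod G (OO n R (0 - q))) q))
    (e : ℕ) : ∀ b : ℤ, b = -(e : ℤ) → ∀ χ : OO n R b ⟶ G, χ ∈ Fac n R b G := by
  induction e with
  | zero =>
    intro b hb χ
    obtain rfl : b = 0 := by simpa using hb
    obtain ⟨u⟩ := twist_zero n R
    apply AddSubgroup.subset_closure
    exact ⟨u.hom, u.inv ≫ χ, by rw [Iso.hom_inv_id_assoc]⟩
  | succ e ih =>
    intro b hb χ
    obtain rfl : b = -((0 + (e : ℤ)) + 1) + ((0 : ℕ) : ℤ) := by rw [hb]; push_cast; ring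
    have h' := propagate_all n R G 0 h e
    obtain ⟨ψ, hψ⟩ := exists_factor_twist n R G (0 + (e : ℤ)) h' χ
    rw [← hψ]
    have hid : 𝟙 ((KP n R (-((0 + (e : ℤ)) + 1))).X 1) =
        ∑ a, ((KPIso n R (-((0 + (e : ℤ)) + 1)) 1).hom ≫ pr _ _ a) ≫
          (Sigma.ι (fun _ : Fin (Nat.choose (n + 1) 1) =>
            OO n R (-((0 + (e : ℤ)) + 1) + ((1 : ℕ) : ℤ))) a ≫
            (KPIso n R (-((0 + (e : ℤ)) + 1)) 1).inv) := by
      have h1 := sum_pr_ι (OO n R (-((0 + (e : ℤ)) + 1) + ((1 : ℕ) : ℤ))) (Nat.choose (n + 1) 1)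
      have h2 : (KPIso n R (-((0 + (e : ℤ)) + 1)) 1).hom ≫
          (∑ a, pr (OO n R (-((0 + (e : ℤ)) + 1) + ((1 : ℕ) : ℤ))) (Nat.choose (n + 1) 1) a ≫
            Sigma.ι (fun _ : Fin (Nat.choose (n + 1) 1) =>
              OO n R (-((0 + (e : ℤ)) + 1) + ((1 : ℕ) : ℤ))) a) ≫
          (KPIso n R (-((0 + (e : ℤ)) + 1)) 1).inv = 𝟙 _ := by
        rw [h1, Category.id_comp, Iso.hom_inv_id]
      rw [← h2, Preadditive.sum_comp, Preadditive.comp_sum]
      apply Finset.sum_congr rfl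
      intro a _
      simp only [Category.assoc]
    have hψ2 : (KPι n R (-((0 + (e : ℤ)) + 1)) ≫ (KP n R (-((0 + (e : ℤ)) + 1))).d 0 1) ≫ ψ =
        (KPι n R (-((0 + (e : ℤ)) + 1)) ≫ (KP n R (-((0 + (e : ℤ)) + 1))).d 0 1) ≫
          𝟙 _ ≫ ψ := by rw [Category.id_comp]
    rw [hψ2, hid, Preadditive.sum_comp, Preadditive.comp_sum]
    apply AddSubgroup.sum_mem
    intro a _
    have hre : (KPι n R (-((0 + (e : ℤ)) + 1)) ≫ (KP n R (-((0 + (e : ℤ)) + 1))).d 0 1) ≫
        (((KPIso n R (-((0 + (e : ℤ)) + 1)) 1).hom ≫ pr _ _ a) ≫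
          (Sigma.ι (fun _ : Fin (Nat.choose (n + 1) 1) =>
            OO n R (-((0 + (e : ℤ)) + 1) + ((1 : ℕ) : ℤ))) a ≫
            (KPIso n R (-((0 + (e : ℤ)) + 1)) 1).inv)) ≫ ψ =
        ((KPι n R (-((0 + (e : ℤ)) + 1)) ≫ (KP n R (-((0 + (e : ℤ)) + 1))).d 0 1) ≫
          (KPIso n R (-((0 + (e : ℤ)) + 1)) 1).hom ≫ pr _ _ a) ≫
          ((Sigma.ι (fun _ : Fin (Nat.choose (n + 1) 1) =>
            OO n R (-((0 + (e : ℤ)) + 1) + ((1 : ℕ) : ℤ))) a ≫
            (KPIso n R (-((0 + (e : ℤ)) + 1)) 1).inv) ≫ ψ) := by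
      simp only [Category.assoc]
    rw [hre]
    apply comp_mem_Fac
    exact ih _ (by push_cast; ring) _

end Ext

/-- multiplication `Γ(G) ⊗ Γ(O(e)) → Γ(G ⊗ O(e))` is surjective for a `0`-regular `G` -/
theorem eta_surjective_of_regular (G : (CohB1.ProjSpace n R).Modules)
    (h : ∀ q : ℕ, 1 ≤ q →
      Subsingleton (Coh.HH (CohB1.ProjSpace n R) (CohB1.tensorMod G (OO n R (0 - q))) q))
    (e : ℕ) : Function.Surjective (eta G (OO n R (e : ℤ)) ⊤) := by
  haveI := hasExt_modules (CohB1.ProjSpace n R)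
  haveI := isEquivalence_tR_twist n R (e : ℤ)
  obtain ⟨v⟩ := twist_inv n R (-(e : ℤ)) e (by omega)
  exact eta_surjective_of_fac G (OO n R (e : ℤ)) (OO n R (-(e : ℤ))) v
    (fun χ => fac_all n R G h e _ rfl χ)

/-- multiplication `Γ(F(d)) ⊗ Γ(O(e)) → Γ(F(d) ⊗ O(e))` is surjective for an `m`-regular `F`,
`d ≥ m` -/
theorem mul_surjective (F : (CohB1.ProjSpace n R).Modules) (m d : ℤ) (hd : m ≤ d)
    (h : ∀ q : ℕ, 1 ≤ q →
      Subsingleton (Coh.HH (CohB1.ProjSpace n R) (CohB1.tensorMod F (OO n R (m - q))) q))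
    (e : ℕ) :
    Function.Surjective (eta (CohB1.tensorMod F (OO n R d)) (OO n R (e : ℤ)) ⊤) := by
  apply eta_surjective_of_regular
  intro q hq
  obtain ⟨s, hs⟩ := Int.eq_ofNat_of_zero_le (by omega : 0 ≤ d - m)
  have h1 := propagate_all n R F m h s q hq
  obtain ⟨t⟩ := twist_twist n R F d (0 - q) (m + s - q) (by omega)
  exact Groth.Agent.HHVan.subsingleton_of_iso t.symm q h1

end Proj

end Groth.Agent.CMMul
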