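import Mathlib
import Groth.Prelude
import Groth.Agent.Lib.Tens27_helper8
import Groth.Agent.Lib.Tens30_helper8
import Groth.Agent.Lib.DimZeroGG_helper8
import Groth.Agent.Lib.ZeroDimAcyc_helper9
import Groth.Agent.Lib.CMMul1_helper9
import Groth.Agent.Lib.EpiLoc_helper9
import Groth.Agent.Lib.QCohExact_helper9
import Groth.Agent.Lib.FCompl1_helper8

/-!
# Tensoring with an invertible module: exactness and modules with discrete support (helper9)

* `CurveTens.shortExact_tR`: `- ⊗ N` is exact for a locally trivial `N` (no inverse needed);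
* `CurveTens.exists_equiv`: for a twisted frame `Θ : TFrame N Q T n` with the support of `Q`
  discrete, the global sections of `Q` and `T` are isomorphic, linearly over the global functions.
APPEND-ONLY once landed.
-/

set_option autoImplicit false
universe u
open CategoryTheory CategoryTheory.Limits AlgebraicGeometry Opposite TopologicalSpace

namespace CurveTens

open QcqsLoc QCohExtn GenLocH8 TensH8 Groth.Agent.TensInv

variable {X : Scheme.{u}}

section Exact

variable {N : X.Modules}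

/-- local description of the sections of `A ⊗ N` -/
theorem exists_tmul_eq (hN : PicF.IsInvertible N) (A : X.Modules) {V : X.Opens}
    (y : Γ(CohB1.tensorMod A N, V)) {x : X} (hx : x ∈ V) :
    ∃ (W : X.Opens) (hW : W ≤ V) (e : Γ(N, W)), x ∈ W ∧ IsGen N W e ∧
      ∃ a : Γ(A, W), SecTwist.tmul A N W a e = rF (CohB1.tensorMod A N) hW y := by
  obtain ⟨W₀, _, hxW₀, e₀, he₀⟩ := exists_isGen hN x
  have hW : V ⊓ W₀ ≤ V := inf_le_left
  have hW' : V ⊓ W₀ ≤ W₀ := inf_le_right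
  have he := he₀.res hW'
  obtain ⟨a, ha⟩ := tmulGen_surjective A N he le_rfl (rF (CohB1.tensorMod A N) hW y)
  rw [SubExt.rF_self] at ha
  exact ⟨V ⊓ W₀, hW, rF N hW' e₀, ⟨hx, hxW₀⟩, he, a, ha⟩

theorem tmul_eq_zero_iff (A : X.Modules) {W : X.Opens} {e : Γ(N, W)} (he : IsGen N W e)
    (a : Γ(A, W)) : SecTwist.tmul A N W a e = 0 ↔ a = 0 := by
  constructor
  · intro h
    apply tmulGen_injective A N he le_rfl
    rw [SubExt.rF_self, h]
    exact (tmul_zero_left A N W e).symm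
  · rintro rfl
    exact tmul_zero_left A N W e

/-- `f ⊗ N` is injective on sections for a monomorphism `f` -/
theorem ap_tR_eq_zero (hN : PicF.IsInvertible N) {A B : X.Modules} (f : A ⟶ B) [Mono f]
    (O : X.Opens) (σ : Γ(CohB1.tensorMod A N, O)) (hσ : ap ((tR N).map f) O σ = 0) : σ = 0 := by
  apply eq_zero_of_cover
  intro x hx
  obtain ⟨W, hW, e, hxW, he, a, ha⟩ := exists_tmul_eq hN A σ hx
  refine ⟨W, hW, hxW, ?_⟩
  have h1 : ap ((tR N).map f) W (rF (CohB1.tensorMod A N) hW σ) = 0 :=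
    (ap_rF ((tR N).map f) hW σ).trans (by rw [hσ]; exact map_zero _)
  rw [← ha] at h1
  have h2 : SecTwist.tmul B N W (ap f W a) e = 0 :=
    (Groth.Agent.CMMul.ap_tR_map_tmul f N W a e).symm.trans h1
  have h3 : ap f W a = 0 := (tmul_eq_zero_iff B he _).1 h2
  have h4 : a = 0 := by
    apply QCohExact.app_injective_of_mono f W
    exact h3.trans (map_zero _).symm
  rw [← ha, h4]
  exact tmul_zero_left A N W e

/-- `- ⊗ N` preserves monomorphisms -/
theorem mono_tR (hN : PicF.IsInvertible N) {A B : X.Modules} (f : A ⟶ B) [Mono f] :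
    Mono ((tR N).map f) := by
  apply FComplH8.mono_of_app_injective
  intro O
  rw [injective_iff_map_eq_zero]
  intro σ hσ
  exact ap_tR_eq_zero hN f O σ hσ

/-- `- ⊗ N` preserves epimorphisms -/
theorem epi_tR (hN : PicF.IsInvertible N) {B C : X.Modules} (g : B ⟶ C) [Epi g] :
    Epi ((tR N).map g) := by
  apply epi_of_locally_surjective
  intro U m x hx
  obtain ⟨W, hW, e, hxW, he, c, hc⟩ := exists_tmul_eq hN C m hx
  obtain ⟨V₁, hV₁, hxV₁, p, hp⟩ := EpiLoc.exists_local_lift g c hxW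
  refine ⟨V₁, hV₁.trans hW, hxV₁, SecTwist.tmul B N V₁ p (rF N hV₁ e), ?_⟩
  have hp' : ap g V₁ p = rF C hV₁ c := hp
  refine (Groth.Agent.CMMul.ap_tR_map_tmul g N V₁ p (rF N hV₁ e)).trans ?_
  rw [hp']
  refine (rF_tmul C N hV₁ c e).symm.trans ?_
  rw [hc]
  exact rF_rF (CohB1.tensorMod C N) hV₁ hW m

/-- `- ⊗ N` is exact for an invertible module `N` -/
theorem shortExact_tR (hN : PicF.IsInvertible N) (S : ShortComplex X.Modules)
    (hS : S.ShortExact) : (S.map (tR N)).ShortExact := by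
  haveI := hS.mono_f
  haveI := hS.epi_g
  haveI : Mono (S.map (tR N)).f := mono_tR hN S.f
  haveI : Epi (S.map (tR N)).g := epi_tR hN S.g
  refine ShortComplex.ShortExact.mk ?_
  rw [ShortComplex.exact_iff_epi_kernel_lift]
  apply epi_of_locally_surjective
  intro U t x hx
  let g' : CohB1.tensorMod S.X₂ N ⟶ CohB1.tensorMod S.X₃ N := (tR N).map S.g
  let f' : CohB1.tensorMod S.X₁ N ⟶ CohB1.tensorMod S.X₂ N := (tR N).map S.f
  have hfg : f' ≫ g' = 0 := (S.map (tR N)).zero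
  let t' : Γ(kernel g', U) := t
  let b : Γ(CohB1.tensorMod S.X₂ N, U) := ap (kernel.ι g') U t'
  have hb : ap g' U b = 0 := kernel_section_mem g' t'
  obtain ⟨W, hW, e, hxW, he, b₀, hb₀⟩ := exists_tmul_eq hN S.X₂ b hx
  have h1 : ap g' W (rF (CohB1.tensorMod S.X₂ N) hW b) = 0 :=
    (ap_rF g' hW b).trans (by rw [hb]; exact map_zero _)
  rw [← hb₀] at h1
  have h2 : SecTwist.tmul S.X₃ N W (ap S.g W b₀) e = 0 :=
    (Groth.Agent.CMMul.ap_tR_map_tmul S.g N W b₀ e).symm.trans h1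
  have h3 : ap S.g W b₀ = 0 := (tmul_eq_zero_iff S.X₃ he _).1 h2
  obtain ⟨t₀, ht₀⟩ := exists_kernel_section S.g b₀ h3
  let i : S.X₁ ≅ kernel S.g :=
    IsLimit.conePointUniqueUpToIso hS.fIsKernel (limit.isLimit (parallelPair S.g 0))
  have hi : i.inv ≫ S.f = kernel.ι S.g :=
    IsLimit.conePointUniqueUpToIso_inv_comp hS.fIsKernel (limit.isLimit (parallelPair S.g 0))
      WalkingParallelPair.zero
  let a₀ : Γ(S.X₁, W) := ap i.inv W t₀
  have ha₀ : ap S.f W a₀ = b₀ := by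
    have h2 : ap S.f W a₀ = ap (i.inv ≫ S.f) W t₀ := rfl
    rw [h2, hi]
    exact ht₀
  refine ⟨W, hW, hxW, SecTwist.tmul S.X₁ N W a₀ e, ?_⟩
  haveI : Mono (kernel.ι g') := inferInstance
  apply QCohExact.app_injective_of_mono (kernel.ι g') W
  have h4 : kernel.lift g' f' hfg ≫ kernel.ι g' = f' := kernel.lift_ι _ _ _
  have h5 : ap (kernel.ι g') W (ap (kernel.lift g' f' hfg) W (SecTwist.tmul S.X₁ N W a₀ e)) =
      ap f' W (SecTwist.tmul S.X₁ N W a₀ e) :=
    congrArg (fun φ : CohB1.tensorMod S.X₁ N ⟶ CohB1.tensorMod S.X₂ N =>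
      ap φ W (SecTwist.tmul S.X₁ N W a₀ e)) h4
  have h6 : ap f' W (SecTwist.tmul S.X₁ N W a₀ e) = rF (CohB1.tensorMod S.X₂ N) hW b := by
    refine (Groth.Agent.CMMul.ap_tR_map_tmul S.f N W a₀ e).trans ?_
    rw [ha₀]
    exact hb₀
  have h7 : ap (kernel.ι g') W (rF (kernel g') hW t') = rF (CohB1.tensorMod S.X₂ N) hW b :=
    ap_rF (kernel.ι g') hW t'
  exact (h5.trans h6).trans h7.symm

end Exact

section Discrete

variable {N Q T : X.Modules} {n : ℕ}

/-- sections of a twist of `Q` vanish on opens disjoint from the support of `Q` -/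
theorem eq_zero_of_disjoint_support (hN : PicF.IsInvertible N) (Θ : TFrame N Q T n)
    {U : X.Opens} (hU : ∀ y ∈ U, y ∉ CohB1.support Q) (τ : Γ(T, U)) : τ = 0 := by
  apply eq_zero_of_cover
  intro x hx
  obtain ⟨W, _, hxW, e, he⟩ := exists_isGen hN x
  refine ⟨U ⊓ W, inf_le_left, ⟨hx, hxW⟩, ?_⟩
  have he' := he.res (inf_le_right : U ⊓ W ≤ W)
  obtain ⟨t, ht⟩ := (Θ.bij _ _ he').2 (rF T inf_le_left τ)
  have h0 : t = 0 := CycLenH8.eq_zero_of_disjoint_support Q
    (fun y (hy : y ∈ U ⊓ W) => hU y hy.1) t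
  rw [← ht, h0, Θ.ψ_zero]

/-- a section of a module with trivial stalk at `x` vanishes near `x` -/
theorem exists_rF_eq_zero (M : X.Modules) {x : X} (hM : Subsingleton (M.presheaf.stalk x))
    {V : X.Opens} (hxV : x ∈ V) (s : Γ(M, V)) :
    ∃ (V' : X.Opens) (hV' : V' ≤ V), x ∈ V' ∧ rF M hV' s = 0 := by
  have h : M.presheaf.germ V x hxV s = M.presheaf.germ V x hxV (0 : Γ(M, V)) :=
    Subsingleton.elim _ _
  obtain ⟨W, hxW, iU, iV, hW⟩ := TopCat.Presheaf.germ_eq M.presheaf x hxV hxV s 0 h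
  refine ⟨W, iU.le, hxW, ?_⟩
  have h2 : M.presheaf.map iV.op (0 : Γ(M, V)) = 0 := map_zero _
  exact hW.trans h2

/-- a stalk all of whose germs vanish on a smaller neighbourhood is trivial -/
theorem subsingleton_stalk_of_locally_zero (M : X.Modules) (x : X)
    (h : ∀ (V : X.Opens) (_ : x ∈ V) (s : Γ(M, V)),
      ∃ (V' : X.Opens) (hV' : V' ≤ V), x ∈ V' ∧ rF M hV' s = 0) :
    Subsingleton (M.presheaf.stalk x) := by
  have key : ∀ g : M.presheaf.stalk x, g = 0 := by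
    intro g
    obtain ⟨V, hxV, s, rfl⟩ := TopCat.Presheaf.germ_exist M.presheaf g
    obtain ⟨V', hV', hxV', hs⟩ := h V hxV s
    have h1 := TopCat.Presheaf.germ_res_apply M.presheaf (homOfLE hV') x hxV' s
    rw [← h1]
    have h2 : (M.presheaf.map (homOfLE hV').op) s = 0 := hs
    rw [h2, map_zero]
  exact ⟨fun a b => by rw [key a, key b]⟩

/-- the support of a twist of `Q` is contained in the support of `Q` -/
theorem support_subset (hN : PicF.IsInvertible N) (Θ : TFrame N Q T n) :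
    CohB1.support T ⊆ CohB1.support Q := by
  intro x hx
  by_contra hxQ
  apply hx
  have hQ : Subsingleton (Q.presheaf.stalk x) := not_not.mp hxQ
  obtain ⟨W, _, hxW, e, he⟩ := exists_isGen hN x
  refine subsingleton_stalk_of_locally_zero T x (fun V hxV s => ?_)
  have he' := he.res (inf_le_right : V ⊓ W ≤ W)
  obtain ⟨t, ht⟩ := (Θ.bij _ _ he').2 (rF T inf_le_left s)
  obtain ⟨V', hV', hxV', h0⟩ := exists_rF_eq_zero Q hQ (⟨hxV, hxW⟩ : x ∈ V ⊓ W) t
  refine ⟨V', hV'.trans inf_le_left, hxV', ?_⟩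
  have h1 : rF T (hV'.trans inf_le_left) s = rF T hV' (rF T inf_le_left s) :=
    (rF_rF T hV' inf_le_left s).symm
  rw [h1, ← ht, Θ.res, h0, Θ.ψ_zero]

/-- **Global sections of a twist of a module with discrete support.** -/
theorem exists_equiv (hN : PicF.IsInvertible N) (Θ : TFrame N Q T n)
    (hdisc : ∀ x : X, ∃ O : X.Opens, x ∈ O ∧ ∀ y ∈ O, y ∈ CohB1.support Q → y = x) :
    ∃ Φ : Γ(Q, ⊤) ≃+ Γ(T, ⊤), ∀ (r : Γ(X, ⊤)) (q : Γ(Q, ⊤)), Φ (r • q) = r • Φ q := by
  have key : ∀ x : X, ∃ (W : X.Opens) (e : Γ(N, W)), x ∈ W ∧ IsGen N W e ∧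
      ∀ y ∈ W, y ∈ CohB1.support Q → y = x := by
    intro x
    obtain ⟨O, hxO, hO⟩ := hdisc x
    obtain ⟨W, _, hxW, e, he⟩ := exists_isGen hN x
    exact ⟨W ⊓ O, rF N inf_le_left e, ⟨hxW, hxO⟩, he.res inf_le_left,
      fun y hy hyQ => hO y hy.2 hyQ⟩
  choose W e hxW he hW using key
  have hcov : (⊤ : X.Opens) ≤ ⨆ x, W x := fun x _ => Opens.mem_iSup.mpr ⟨x, hxW x⟩
  have hdisj : ∀ i j : X, i ≠ j → ∀ y ∈ W i ⊓ W j, y ∉ CohB1.support Q := by
    intro i j hij y hy hyQ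
    exact hij ((hW i y hy.1 hyQ).symm.trans (hW j y hy.2 hyQ))
  -- the forward map
  have hfwd : ∀ q : Γ(Q, ⊤), ∃ τ : Γ(T, ⊤), ∀ x, rF T (le_top : W x ≤ ⊤) τ =
      Θ.ψ (W x) (e x) (he x) (rF Q le_top q) := by
    intro q
    refine glue T W ⊤ (fun _ => le_top) hcov
      (fun x => Θ.ψ (W x) (e x) (he x) (rF Q le_top q)) (fun i j => ?_)
    by_cases hij : i = j
    · subst hij
      rfl
    · exact (eq_zero_of_disjoint_support hN Θ (hdisj i j hij) _).trans
        (eq_zero_of_disjoint_support hN Θ (hdisj i j hij) _).symm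
  choose Φ hΦ using hfwd
  have huniq : ∀ τ τ' : Γ(T, ⊤), (∀ x, rF T (le_top : W x ≤ ⊤) τ = rF T le_top τ') → τ = τ' := by
    intro τ τ' h
    apply eq_of_cover T
    intro x _
    exact ⟨W x, le_top, hxW x, h x⟩
  have huniqQ : ∀ q q' : Γ(Q, ⊤), (∀ x, rF Q (le_top : W x ≤ ⊤) q = rF Q le_top q') → q = q' := by
    intro q q' h
    apply eq_of_cover Q
    intro x _
    exact ⟨W x, le_top, hxW x, h x⟩
  have hadd : ∀ q q' : Γ(Q, ⊤), Φ (q + q') = Φ q + Φ q' := by
    intro q q'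
    apply huniq
    intro x
    rw [hΦ, map_add, map_add, Θ.add, hΦ, hΦ]
  have hsmul : ∀ (r : Γ(X, ⊤)) (q : Γ(Q, ⊤)), Φ (r • q) = r • Φ q := by
    intro r q
    apply huniq
    intro x
    rw [hΦ, rF_smul, rF_smul, Θ.smul, hΦ]
  have hinj : Function.Injective Φ := by
    intro q q' h
    apply huniqQ
    intro x
    apply (Θ.bij (W x) (e x) (he x)).1
    rw [← hΦ, ← hΦ, h]
  have hsurj : Function.Surjective Φ := by
    intro τ
    have hq : ∃ q : Γ(Q, ⊤), ∀ x, rF Q (le_top : W x ≤ ⊤) q =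
        Θ.coefOf τ (W x) le_top (e x) (he x) := by
      refine glue Q W ⊤ (fun _ => le_top) hcov
        (fun x => Θ.coefOf τ (W x) le_top (e x) (he x)) (fun i j => ?_)
      by_cases hij : i = j
      · subst hij
        rfl
      · exact (CycLenH8.eq_zero_of_disjoint_support Q (hdisj i j hij) _).trans
          (CycLenH8.eq_zero_of_disjoint_support Q (hdisj i j hij) _).symm
    obtain ⟨q, hq⟩ := hq
    refine ⟨q, ?_⟩
    apply huniq
    intro x
    rw [hΦ, hq, Θ.coefOf_spec]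
  exact ⟨AddEquiv.ofBijective (AddMonoidHom.mk' Φ hadd) ⟨hinj, hsurj⟩, hsmul⟩

end Discrete

end CurveTens
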