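import Mathlib
import Groth.Prelude
import Groth.Agent.Lib.CurveTens1_helper9
import Groth.Agent.Lib.CurveDeg1_helper9
import Groth.Agent.Lib.TensQC3_helper8
import Groth.Agent.Lib.SuppTens2_helper8

/-!
# Twisting a module with zero-dimensional support does not change its Euler characteristic (helper9)
APPEND-ONLY once landed.
-/

set_option autoImplicit false
universe u
open CategoryTheory CategoryTheory.Limits AlgebraicGeometry Opposite TopologicalSpace

namespace CurveTens

open QcqsLoc QCohExtn GenLocH8 TensH8 Groth.Agent.TensInv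

variable {X : Scheme.{u}}

/-- the identification of `H⁰` with global sections -/
noncomputable abbrev e₀ (M : X.Modules) : Coh.HH X M 0 ≃+ Γ(M, ⊤) :=
  Sheaf.H.equiv₀ (Coh.toAb M) isTerminalTop

theorem resTop_top (r : Coh.Γtop X) : Coh.resTop X (op ⊤) r = r := by
  have h : (homOfLE (le_top (a := (op (⊤ : Opens X)).unop))).op = 𝟙 (op (⊤ : Opens X)) := rfl
  show (X.ringCatSheaf.obj.map (homOfLE (le_top (a := (op (⊤ : Opens X)).unop))).op).hom r = r
  rw [h, X.ringCatSheaf.obj.map_id]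
  rfl

/-- `H⁰ ≃ Γ` is linear over the global functions -/
theorem e₀_smul (M : X.Modules) (r : Coh.Γtop X) (v : Coh.HH X M 0) :
    e₀ M (r • v) = (show Γ(X, ⊤) from r) • e₀ M v := by
  have h1 : r • v = Sheaf.H.map (Coh.smulAb M r) 0 v := rfl
  rw [h1]
  have h2 := Sheaf.H.equiv₀_naturality (Coh.smulAb M r) (hT := isTerminalTop) v
  refine h2.symm.trans ?_
  refine (Coh.smulAb_app M r (op ⊤) _).trans ?_
  rw [resTop_top]
  rfl

section Field

variable (k : Type u) [Field k] [X.Over (Spec (CommRingCat.of k))]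

/-- a bijection of global sections, linear over the global functions, gives equal `h⁰` -/
theorem finrank_HH0_eq_of_equiv {Q T : X.Modules} (Φ : Γ(Q, ⊤) ≃+ Γ(T, ⊤))
    (hΦ : ∀ (r : Γ(X, ⊤)) (q : Γ(Q, ⊤)), Φ (r • q) = r • Φ q) :
    Module.finrank k (Coh.HH X Q 0) = Module.finrank k (Coh.HH X T 0) := by
  let Ψ : Coh.HH X Q 0 ≃+ Coh.HH X T 0 := ((e₀ Q).trans Φ).trans (e₀ T).symm
  have hΨ : ∀ (c : k) (v : Coh.HH X Q 0), Ψ (c • v) = c • Ψ v := by
    intro c v
    have h1 : c • v = (Coh.toGlobal (X ↘ Spec (CommRingCat.of k)) c) • v := rfl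
    have h2 : c • Ψ v = (Coh.toGlobal (X ↘ Spec (CommRingCat.of k)) c) • Ψ v := rfl
    rw [h1, h2]
    apply (e₀ T).injective
    rw [e₀_smul]
    show e₀ T ((e₀ T).symm (Φ (e₀ Q _))) = _ • e₀ T ((e₀ T).symm (Φ (e₀ Q v)))
    rw [AddEquiv.apply_symm_apply, AddEquiv.apply_symm_apply, e₀_smul, hΦ]
  let L : Coh.HH X Q 0 ≃ₗ[k] Coh.HH X T 0 :=
    { Ψ with map_smul' := hΨ }
  exact L.finrank_eq

/-- `h⁰` of a twist of a module with discrete support -/
theorem finrank_HH0_twist {N Q T : X.Modules} {n : ℕ} (hN : PicF.IsInvertible N)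
    (Θ : TFrame N Q T n)
    (hdisc : ∀ x : X, ∃ O : X.Opens, x ∈ O ∧ ∀ y ∈ O, y ∈ CohB1.support Q → y = x) :
    Module.finrank k (Coh.HH X T 0) = Module.finrank k (Coh.HH X Q 0) := by
  obtain ⟨Φ, hΦ⟩ := exists_equiv hN Θ hdisc
  exact (finrank_HH0_eq_of_equiv k Φ hΦ).symm

end Field

/-- on a locally Noetherian scheme, a closed set of closed points is discrete -/
theorem discrete_of_closed_points [IsLocallyNoetherian X] (Q : X.Modules)
    (hcl : IsClosed (CohB1.support Q))
    (h0 : ∀ x ∈ CohB1.support Q, IsClosed ({x} : Set X)) :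
    ∀ x : X, ∃ O : X.Opens, x ∈ O ∧ ∀ y ∈ O, y ∈ CohB1.support Q → y = x := by
  intro x
  have h1 : IsClosed (CohB1.support Q \ {x}) :=
    ZeroDimAcyc.isClosed_of_subset X _ hcl h0 _ Set.sdiff_subset
  refine ⟨⟨(CohB1.support Q \ {x})ᶜ, h1.isOpen_compl⟩, fun h => h.2 rfl, fun y hy hyQ => ?_⟩
  by_contra hne
  exact hy ⟨hyQ, hne⟩

section Euler

variable (k : Type u) [Field k] (X : Scheme.{u}) [X.Over (Spec (CommRingCat.of k))]
  [IsProper (X ↘ Spec (CommRingCat.of k))]

/-- **`χ(Q ⊗ N) = χ(Q)`** for `Q` coherent supported at closed points and `N` invertible -/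
theorem euler_tensor_eq (Q N : X.Modules) (hQ : Coh.IsCoh Q) (hN : PicF.IsInvertible N)
    (h0 : ∀ x ∈ CohB1.support Q, IsClosed ({x} : Set X)) :
    Curv2.euler k X (CohB1.tensorMod Q N) = Curv2.euler k X Q := by
  haveI : IsLocallyNoetherian X :=
    LocallyOfFiniteType.isLocallyNoetherian (X ↘ Spec (CommRingCat.of k))
  have hNc := ProperFinH9.isCoh_of_isInvertible hN
  haveI := hQ.1
  haveI := hNc.1
  have hTc : Coh.IsCoh (CohB1.tensorMod Q N) :=
    ⟨TensQCH8.isQuasicoherent_tensorMod Q N, TensQCH8.isFiniteType_tensorMod Q N hQ.2 hNc.2⟩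
  have hsub : CohB1.support (CohB1.tensorMod Q N) ⊆ CohB1.support Q := by
    rw [SuppTensH8.support_tensorMod Q N hQ.2 hNc.2]
    exact Set.inter_subset_left
  haveI : SheafOfModules.IsFiniteType (R := X.ringCatSheaf) Q := hQ.2
  have hcl : IsClosed (CohB1.support Q) := SuppFT.isClosed_support Q
  rw [CurveDeg.euler_eq_finrank_of_closed_support k X _ hTc (fun x hx => h0 x (hsub hx)),
    CurveDeg.euler_eq_finrank_of_closed_support k X _ hQ h0]
  congr 1
  exact finrank_HH0_twist k hN (TFrame.tensor (Frame.self N) Q)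
    (discrete_of_closed_points Q hcl h0)

end Euler

end CurveTens
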