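import Mathlib
import Groth.Prelude
import Groth.Agent.Lib.CurveTens2_helper9
import Groth.Agent.Lib.CurveVan1_helper9
import Groth.Agent.Lib.QCohPb_helper9
import Groth.Agent.Lib.SDivGen_helper8
import Groth.Agent.Lib.CohDev14_helper8

/-!
# A common coherent subsheaf of `O_X` and an invertible module on an integral scheme (helper9)

For `M` invertible on an integral Noetherian scheme there are a coherent module `F'` and
monomorphisms `F' ⟶ O_X`, `F' ⟶ M` which are isomorphisms over a nonempty affine open.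
APPEND-ONLY once landed.
-/

set_option autoImplicit false
universe u
open CategoryTheory CategoryTheory.Limits AlgebraicGeometry Opposite TopologicalSpace

namespace CurveTens

open QcqsLoc QCohExtn GenLocH8 TensH8 FLFH8 Groth.Agent.TensInv

variable {X : Scheme.{u}}

section Push

variable (U : X.Opens) (M : X.Modules)

/-- `j_* (M|_U)` -/
noncomputable abbrev jj : X.Modules :=
  (Scheme.Modules.pushforward U.ι).obj (M.restrict U.ι)

theorem ip_mono {V V' : X.Opens} (h : V' ≤ V) :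
    U.ι ''ᵁ (U.ι ⁻¹ᵁ V') ≤ U.ι ''ᵁ (U.ι ⁻¹ᵁ V) := by
  intro x hx
  obtain ⟨y, hy, rfl⟩ := hx
  exact ⟨y, h hy, rfl⟩

theorem ip_le (V : X.Opens) : U.ι ''ᵁ (U.ι ⁻¹ᵁ V) ≤ U := by
  intro x hx
  obtain ⟨y, _, rfl⟩ := hx
  exact y.2

/-- a section of `M` over `U` as a global section of `j_* (M|_U)` -/
noncomputable def t₀ (e : Γ(M, U)) : Γ(jj U M, ⊤) :=
  (show Γ(M, U.ι ''ᵁ (U.ι ⁻¹ᵁ ⊤)) from rF M (ip_le U ⊤) e)

theorem rF_t₀ (e : Γ(M, U)) {V : X.Opens} (hV : V ≤ U) :
    rF (jj U M) (le_top : V ≤ ⊤) (t₀ U M e) = ap (CurveVan.η U M) V (rF M hV e) := by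
  show rF M (ip_mono U le_top) (rF M (ip_le U ⊤) e) =
    rF M (U.ι.image_preimage_le V) (rF M hV e)
  rw [rF_rF, rF_rF]

/-- the morphism `O_X ⟶ j_* (M|_U)` given by a section of `M` over `U` -/
noncomputable def aHom (e : Γ(M, U)) : Coh.structureModule X ⟶ jj U M :=
  SDivGenH8.unitHom (jj U M) (t₀ U M e)

theorem ap_aHom (e : Γ(M, U)) {V : X.Opens} (hV : V ≤ U) (s : Γ(Coh.structureModule X, V)) :
    ap (aHom U M e) V s = ap (CurveVan.η U M) V (ofM s • rF M hV e) := by
  rw [ap_smul, ← rF_t₀]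
  exact SDivGenH8.unitHom_app (jj U M) (t₀ U M e) V s

variable {U M}

theorem ap_aHom_bijective {e : Γ(M, U)} (he : IsGen M U e) {V : X.Opens} (hV : V ≤ U) :
    Function.Bijective (ap (aHom U M e) V) := by
  constructor
  · rw [injective_iff_map_eq_zero]
    intro s hs
    rw [ap_aHom U M e hV] at hs
    have h1 : ofM s • rF M hV e = 0 := by
      apply (CurveVan.η_bijective U M hV).1
      rw [hs, map_zero]
    exact (he V hV).2 _ h1
  · intro τ
    obtain ⟨m, rfl⟩ := (CurveVan.η_bijective U M hV).2 τ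
    obtain ⟨c, rfl⟩ := (he V hV).1 m
    exact ⟨toM c, ap_aHom U M e hV (toM c)⟩

end Push

section Integral

variable [IsIntegral X] {M : X.Modules}

/-- the unit `M ⟶ j_* (M|_U)` is a monomorphism for `M` invertible on an integral scheme -/
theorem mono_η (hM : PicF.IsInvertible M) (U : X.Opens) (hU : (U : Set X).Nonempty) :
    Mono (CurveVan.η U M) := by
  apply FComplH8.mono_of_app_injective
  intro V
  rw [injective_iff_map_eq_zero]
  intro s hs
  by_cases hV : (V : Set X).Nonempty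
  · have hne : ((U.ι ''ᵁ (U.ι ⁻¹ᵁ V) : X.Opens) : Set X).Nonempty := by
      obtain ⟨y, hyV, hyU⟩ := inter_nonempty_of_isIntegral hV hU
      exact ⟨y, ⟨⟨y, hyU⟩, hyV, rfl⟩⟩
    exact eq_zero_of_rF_eq_zero hM (U.ι.image_preimage_le V) hne s hs
  · apply eq_zero_of_cover
    intro x hx
    exact absurd ⟨x, hx⟩ hV

/-- the morphism `O_X ⟶ j_* (M|_U)` attached to a generator is a monomorphism -/
theorem mono_aHom (U : X.Opens) (hU : (U : Set X).Nonempty) {e : Γ(M, U)}
    (he : IsGen M U e) : Mono (aHom U M e) := by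
  apply FComplH8.mono_of_app_injective
  intro V
  rw [injective_iff_map_eq_zero]
  intro s hs
  by_cases hV : (V : Set X).Nonempty
  · have hne : ((V ⊓ U : X.Opens) : Set X).Nonempty := inter_nonempty_of_isIntegral hV hU
    apply eq_zero_of_rF_eq_zero isInvertible_structureModule
      (inf_le_left : V ⊓ U ≤ V) hne s
    apply (ap_aHom_bijective he (inf_le_right : V ⊓ U ≤ U)).1
    rw [ap_rF, hs, map_zero, map_zero]
  · apply eq_zero_of_cover
    intro x hx
    exact absurd ⟨x, hx⟩ hV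

/-- **Common coherent subsheaf** of `O_X` and an invertible module. -/
theorem exists_common_sub [IsNoetherian X] (hM : PicF.IsInvertible M) :
    ∃ (F' : X.Modules) (p₁ : F' ⟶ Coh.structureModule X) (p₂ : F' ⟶ M) (U : X.Opens),
      Mono p₁ ∧ Mono p₂ ∧ Coh.IsCoh F' ∧ (U : Set X).Nonempty ∧
      CohB1.support (cokernel p₁) ⊆ (U : Set X)ᶜ ∧ CohB1.support (cokernel p₂) ⊆ (U : Set X)ᶜ := by
  obtain ⟨U, hUaff, hξU, e, he⟩ := exists_isGen hM (genericPoint X)
  have hU : (U : Set X).Nonempty := ⟨_, hξU⟩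
  have hMc := ProperFinH9.isCoh_of_isInvertible hM
  have hOc := CohDevH8.isCoh_structureModule X
  haveI := hMc.1
  haveI := hOc.1
  haveI : Mono (CurveVan.η U M) := mono_η hM U hU
  haveI : Mono (aHom U M e) := mono_aHom U hU he
  haveI : (M.restrict U.ι).IsQuasicoherent :=
    Scheme.Modules.isQuasicoherent_restrictFunctor U.ι M
  haveI : (jj U M).IsQuasicoherent := isQuasicoherent_pushforward_qcqs U.ι (M.restrict U.ι)
  let F' := pullback (aHom U M e) (CurveVan.η U M)
  let p₁ : F' ⟶ Coh.structureModule X := pullback.fst _ _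
  let p₂ : F' ⟶ M := pullback.snd _ _
  haveI hm₁ : Mono p₁ := inferInstanceAs (Mono (pullback.fst (aHom U M e) (CurveVan.η U M)))
  haveI hm₂ : Mono p₂ := inferInstanceAs (Mono (pullback.snd (aHom U M e) (CurveVan.η U M)))
  have hFq : F'.IsQuasicoherent :=
    QCohPb.isQuasicoherent_pullback _ _ inferInstance inferInstance inferInstance
  have hFc : Coh.IsCoh F' := CohDevH8.isCoh_of_mono p₁ hFq hOc
  have hs₁ : Function.Surjective (ap p₁ U) := by
    intro c
    obtain ⟨m, hm⟩ := (CurveVan.η_bijective U M le_rfl).2 (ap (aHom U M e) U c)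
    obtain ⟨s, hs, -⟩ := QCohPb.pb_exists (aHom U M e) (CurveVan.η U M) U c m hm.symm
    exact ⟨s, hs⟩
  have hs₂ : Function.Surjective (ap p₂ U) := by
    intro m
    obtain ⟨c, hc⟩ := (ap_aHom_bijective he le_rfl).2 (ap (CurveVan.η U M) U m)
    obtain ⟨s, -, hs⟩ := QCohPb.pb_exists (aHom U M e) (CurveVan.η U M) U c m hc
    exact ⟨s, hs⟩
  exact ⟨F', p₁, p₂, U, hm₁, hm₂, hFc, hU,
    CohDevH8.support_cokernel_subset_compl hFc hOc p₁ hUaff hs₁,
    CohDevH8.support_cokernel_subset_compl hFc hMc p₂ hUaff hs₂⟩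

end Integral

end CurveTens
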