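import Mathlib
import Groth.Prelude
import Groth.Agent.Lib.CurveTens3_helper9
import Groth.Agent.Lib.HypConn2_helper9

/-!
# Additivity of the degree of invertible modules on integral proper curves (helper9)
APPEND-ONLY once landed.
-/

set_option autoImplicit false
universe u
open CategoryTheory CategoryTheory.Limits AlgebraicGeometry Opposite TopologicalSpace

namespace CurveTens

open QcqsLoc QCohExtn GenLocH8 TensH8 FLFH8 Groth.Agent.TensInv

section Iso

variable (k : Type u) [Field k] (X : Scheme.{u}) [X.Over (Spec (CommRingCat.of k))]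

/-- the Euler characteristic is invariant under isomorphism -/
theorem euler_of_iso {A B : X.Modules} (e : A ≅ B) : Curv2.euler k X A = Curv2.euler k X B := by
  unfold Curv2.euler
  congr 1
  funext i
  rw [(Groth.Agent.HypConn.hhEquivOfIso (A := k) e i).finrank_eq]

theorem deg_of_iso {A B : X.Modules} (e : A ≅ B) (n : ℕ) :
    Curv2.deg k X A n = Curv2.deg k X B n := by
  unfold Curv2.deg
  rw [euler_of_iso k X e]

end Iso

section Add

variable (k : Type u) [Field k] (X : Scheme.{u}) [X.Over (Spec (CommRingCat.of k))]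
  [IsIntegral X] [IsProper (X ↘ Spec (CommRingCat.of k))]

/-- for a monomorphism `p : F ⟶ M` of coherent modules whose cokernel is supported at closed points,
`χ(M ⊗ N) - χ(F ⊗ N) = χ(M) - χ(F)` for every invertible `N` -/
theorem euler_tensor_sub {F M N : X.Modules} (hF : Coh.IsCoh F) (hM : Coh.IsCoh M)
    (hN : PicF.IsInvertible N) (p : F ⟶ M) [Mono p]
    (h0 : ∀ x ∈ CohB1.support (cokernel p), IsClosed ({x} : Set X)) :
    Curv2.euler k X (CohB1.tensorMod M N) - Curv2.euler k X (CohB1.tensorMod F N) =
      Curv2.euler k X M - Curv2.euler k X F := by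
  haveI : IsLocallyNoetherian X :=
    LocallyOfFiniteType.isLocallyNoetherian (X ↘ Spec (CommRingCat.of k))
  have hNc := ProperFinH9.isCoh_of_isInvertible hN
  have hQc : Coh.IsCoh (cokernel p) := CohKerH8.isCoh_cokernel hF hM p
  let S : ShortComplex X.Modules := ShortComplex.mk p (cokernel.π p) (cokernel.condition p)
  have hS : S.ShortExact :=
    ShortComplex.ShortExact.mk' (S.exact_of_g_is_cokernel (cokernelIsCokernel p))
      (inferInstanceAs (Mono p)) (inferInstanceAs (Epi (cokernel.π p)))
  have h1 := EulerField.euler_additive k X S hS hF hM hQc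
  have hS' := shortExact_tR hN S hS
  have hc : ∀ A : X.Modules, Coh.IsCoh A → Coh.IsCoh (CohB1.tensorMod A N) := by
    intro A hA
    haveI := hA.1
    haveI := hNc.1
    exact ⟨TensQCH8.isQuasicoherent_tensorMod A N, TensQCH8.isFiniteType_tensorMod A N hA.2 hNc.2⟩
  have h2 := EulerField.euler_additive k X (S.map (tR N)) hS' (hc _ hF) (hc _ hM) (hc _ hQc)
  have h3 := euler_tensor_eq k X (cokernel p) N hQc hN h0
  have h1' : Curv2.euler k X M = Curv2.euler k X F + Curv2.euler k X (cokernel p) := h1
  have h2' : Curv2.euler k X (CohB1.tensorMod M N) =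
      Curv2.euler k X (CohB1.tensorMod F N) + Curv2.euler k X (CohB1.tensorMod (cokernel p) N) := h2
  rw [h1', h2', h3]
  ring

/-- **Additivity of the degree**: `deg (M ⊗ N) = deg M + deg N` -/
theorem deg_tensorMod (hdim : topologicalKrullDim X ≤ 1) {M N : X.Modules}
    (hM : PicF.IsInvertible M) (hN : PicF.IsInvertible N) :
    Curv2.deg k X (CohB1.tensorMod M N) 1 = Curv2.deg k X M 1 + Curv2.deg k X N 1 := by
  haveI : IsLocallyNoetherian X :=
    LocallyOfFiniteType.isLocallyNoetherian (X ↘ Spec (CommRingCat.of k))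
  haveI : CompactSpace X :=
    QuasiCompact.compactSpace_of_compactSpace (X ↘ Spec (CommRingCat.of k))
  haveI : IsNoetherian X := {}
  obtain ⟨F', p₁, p₂, U, hm₁, hm₂, hFc, hU, hs₁, hs₂⟩ := exists_common_sub hM
  have hMc := ProperFinH9.isCoh_of_isInvertible hM
  have hOc := CohDevH8.isCoh_structureModule X
  have hcl : ∀ x : X, x ∉ U → IsClosed ({x} : Set X) :=
    fun x hx => CurveVan.isClosed_singleton_of_notMem_open hdim U hU x hx
  have e1 := euler_tensor_sub k X hFc hOc hN p₁ (fun x hx => hcl x (hs₁ hx))
  have e2 := euler_tensor_sub k X hFc hMc hN p₂ (fun x hx => hcl x (hs₂ hx))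
  have e3 := euler_of_iso k X (Groth.Agent.CMMul.unitorL N)
  unfold Curv2.deg
  rw [e3] at e1
  push_cast
  linarith

/-- `deg (L^{⊗ n}) = n · deg L` -/
theorem deg_tensorPow (hdim : topologicalKrullDim X ≤ 1) {L : X.Modules}
    (hL : PicF.IsInvertible L) (n : ℕ) :
    Curv2.deg k X (CohB1.tensorPow L n) 1 = n * Curv2.deg k X L 1 := by
  induction n with
  | zero =>
    rw [Nat.cast_zero, zero_mul]
    exact CurveDeg.deg_structureModule k X
  | succ n ih =>
    have h : CohB1.tensorPow L (n + 1) = CohB1.tensorMod (CohB1.tensorPow L n) L := rfl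
    rw [h, deg_tensorMod k X hdim (isInvertible_tensorPow hL n) hL, ih]
    push_cast
    ring

end Add

end CurveTens
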