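import Mathlib
import Groth.Agent.Lib.ExtTransfer_helper9

/-!
# Equivariant transfer of `Ext` groups along an exact functor (helper9)

Same setting as `ExtTransfer_helper9`; the bijections `Ext^n(K, F) ≃+ Ext^n(K', G F)` can be chosen
compatible with the action of all natural endomorphisms of the identity functor of `C`
(`ρ_F` acting on the left, `G ρ_F` acting on the right).  This is what is needed to make the
bijections linear over a base ring.
APPEND-ONLY once landed.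
-/

set_option autoImplicit false

universe w w'

open CategoryTheory CategoryTheory.Limits

namespace ExtTransferEqH9

open ExtTransferH9 Abelian

variable {C : Type*} [Category C] [Abelian C] [HasExt.{w} C] [EnoughInjectives C]
  {D : Type*} [Category D] [Abelian D] [HasExt.{w'} D]
  (G : C ⥤ D) [G.Additive] [PreservesFiniteLimits G] [PreservesFiniteColimits G]
  (K : C) (K' : D)
  (τ : ∀ F : C, (K ⟶ F) ≃+ (K' ⟶ G.obj F))
  (hτ : ∀ {F F' : C} (a : K ⟶ F) (φ : F ⟶ F'), τ F' (a ≫ φ) = τ F a ≫ G.map φ)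
  (hacyc : ∀ (I : C), Injective I → ∀ (n : ℕ) (ξ : Abelian.Ext K' (G.obj I) (n + 1)), ξ = 0)

/-- compatibility with the natural endomorphisms of the identity -/
def Equivar (n : ℕ) (F : C) (e : Ext K F n ≃+ Ext K' (G.obj F) n) : Prop :=
  ∀ (ρ : 𝟭 C ⟶ 𝟭 C) (x : Ext K F n),
    e (x.comp (Ext.mk₀ (ρ.app F)) (add_zero n)) =
      (e x).comp (Ext.mk₀ (G.map (ρ.app F))) (add_zero n)

theorem exists_addEquiv_of_surj {Z A B : Type*} [AddCommGroup Z] [AddCommGroup A]
    [AddCommGroup B] (φ : Z →+ A) (ψ : Z →+ B) (hφ : Function.Surjective φ)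
    (hψ : Function.Surjective ψ) (hk : ∀ z, φ z = 0 ↔ ψ z = 0) :
    ∃ e : A ≃+ B, ∀ z, e (φ z) = ψ z := by
  have hker : φ.ker = ψ.ker := by
    ext z
    simp only [AddMonoidHom.mem_ker]
    exact hk z
  refine ⟨(QuotientAddGroup.quotientKerEquivOfSurjective φ hφ).symm.trans
    ((QuotientAddGroup.quotientAddEquivOfEq hker).trans
      (QuotientAddGroup.quotientKerEquivOfSurjective ψ hψ)), ?_⟩
  intro z
  have h1 : (QuotientAddGroup.quotientKerEquivOfSurjective φ hφ).symm (φ z) =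
      (QuotientAddGroup.mk z : Z ⧸ φ.ker) := by
    rw [AddEquiv.symm_apply_eq]
    rfl
  simp only [AddEquiv.trans_apply, h1]
  rfl

/-- the endomorphism of the standard short exact sequence induced by `ρ` -/
noncomputable def ρS (ρ : 𝟭 C ⟶ 𝟭 C) (F : C) : SS F ⟶ SS F where
  τ₁ := ρ.app F
  τ₂ := ρ.app (SS F).X₂
  τ₃ := ρ.app (SS F).X₃
  comm₁₂ := (ρ.naturality (SS F).f).symm
  comm₂₃ := (ρ.naturality (SS F).g).symm

/-- its image under `G` -/
noncomputable def ρS' (ρ : 𝟭 C ⟶ 𝟭 C) (F : C) : (SS F).map G ⟶ (SS F).map G where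
  τ₁ := G.map (ρ.app F)
  τ₂ := G.map (ρ.app (SS F).X₂)
  τ₃ := G.map (ρ.app (SS F).X₃)
  comm₁₂ := by
    show G.map (ρ.app F) ≫ G.map (SS F).f = G.map (SS F).f ≫ G.map (ρ.app (SS F).X₂)
    rw [← G.map_comp, ← G.map_comp]
    congr 1
    exact (ρ.naturality (SS F).f).symm
  comm₂₃ := by
    show G.map (ρ.app (SS F).X₂) ≫ G.map (SS F).g = G.map (SS F).g ≫ G.map (ρ.app (SS F).X₃)
    rw [← G.map_comp, ← G.map_comp]
    congr 1
    exact (ρ.naturality (SS F).g).symm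

lemma extClass_ρ (ρ : 𝟭 C ⟶ 𝟭 C) (F : C) :
    (SS_shortExact F).extClass.comp (Ext.mk₀ (ρ.app F)) (add_zero 1) =
      (Ext.mk₀ (ρ.app (SS F).X₃)).comp (SS_shortExact F).extClass (zero_add 1) :=
  ShortComplex.ShortExact.extClass_naturality (SS_shortExact F) (SS_shortExact F) (ρS ρ F)

lemma extClass_ρ' (ρ : 𝟭 C ⟶ 𝟭 C) (F : C) :
    (SS_map_shortExact G F).extClass.comp (Ext.mk₀ (G.map (ρ.app F))) (add_zero 1) =
      (Ext.mk₀ (G.map (ρ.app (SS F).X₃))).comp (SS_map_shortExact G F).extClass (zero_add 1) :=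
  ShortComplex.ShortExact.extClass_naturality (SS_map_shortExact G F) (SS_map_shortExact G F)
    (ρS' G ρ F)

section General

variable {E : Type*} [Category E] [Abelian E] [HasExt.{w} E]

lemma comp_extClass_comp₀ {S : ShortComplex E} (hS : S.ShortExact) (f : S ⟶ S) {L : E}
    (b : L ⟶ S.X₃) :
    ((Ext.mk₀ b).comp hS.extClass (zero_add 1)).comp (Ext.mk₀ f.τ₁) (add_zero 1) =
      (Ext.mk₀ (b ≫ f.τ₃)).comp hS.extClass (zero_add 1) := by
  rw [Ext.comp_assoc_of_third_deg_zero,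
    ShortComplex.ShortExact.extClass_naturality hS hS f, ← Ext.mk₀_comp_mk₀,
    Ext.comp_assoc_of_second_deg_zero]

lemma comp_extClass_comp {S : ShortComplex E} (hS : S.ShortExact) (f : S ⟶ S) {L : E} {n : ℕ}
    (z : Ext L S.X₃ (n + 1)) :
    (z.comp hS.extClass (rfl : (n + 1) + 1 = n + 2)).comp (Ext.mk₀ f.τ₁) (add_zero (n + 2)) =
      (z.comp (Ext.mk₀ f.τ₃) (add_zero (n + 1))).comp hS.extClass
        (rfl : (n + 1) + 1 = n + 2) := by
  rw [Ext.comp_assoc_of_third_deg_zero,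
    ShortComplex.ShortExact.extClass_naturality hS hS f, Ext.comp_assoc_of_second_deg_zero]

end General

include hτ in
theorem exists_zero (F : C) :
    ∃ e : Ext K F 0 ≃+ Ext K' (G.obj F) 0, Equivar G K K' 0 F e := by
  refine ⟨Ext.addEquiv₀.trans ((τ F).trans Ext.addEquiv₀.symm), ?_⟩
  intro ρ x
  obtain ⟨a, rfl⟩ := (Ext.mk₀_bijective _ _).2 x
  have h1 : ∀ b : K ⟶ F, (Ext.addEquiv₀.trans ((τ F).trans Ext.addEquiv₀.symm))
      (Ext.mk₀ b) = Ext.mk₀ (τ F b) := by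
    intro b
    simp only [AddEquiv.trans_apply]
    have : Ext.addEquiv₀ (Ext.mk₀ b) = b :=
      (Ext.mk₀_bijective _ _).1 (Ext.mk₀_addEquiv₀_apply _)
    rw [this]
    rfl
  rw [Ext.mk₀_comp_mk₀, h1, h1, hτ, Ext.mk₀_comp_mk₀]

include hτ hacyc in
theorem exists_one (F : C) :
    ∃ e : Ext K F 1 ≃+ Ext K' (G.obj F) 1, Equivar G K K' 1 F e := by
  have hS := SS_shortExact F
  have hS' := SS_map_shortExact G F
  let φ : (K ⟶ (SS F).X₃) →+ Abelian.Ext K F 1 :=
    (hS.extClass.postcomp K (zero_add 1)).comp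
      (Abelian.Ext.addEquiv₀ (X := K) (Y := (SS F).X₃)).symm.toAddMonoidHom
  let ψ : (K ⟶ (SS F).X₃) →+ Abelian.Ext K' (G.obj F) 1 :=
    (hS'.extClass.postcomp K' (zero_add 1)).comp
      ((Abelian.Ext.addEquiv₀ (X := K') (Y := G.obj (SS F).X₃)).symm.toAddMonoidHom.comp
        (τ (SS F).X₃).toAddMonoidHom)
  have hφ : ∀ a, φ a = (Ext.mk₀ a).comp hS.extClass (zero_add 1) := fun a => rfl
  have hψ : ∀ a, ψ a = (Ext.mk₀ (τ (SS F).X₃ a)).comp hS'.extClass (zero_add 1) := fun a => rfl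
  have hφs : Function.Surjective φ := by
    intro ξ
    obtain ⟨x₃, hx₃⟩ := Abelian.Ext.covariant_sequence_exact₁ _ hS ξ (vanX K F 0 _) (zero_add 1)
    obtain ⟨a, rfl⟩ := (Abelian.Ext.mk₀_bijective _ _).2 x₃
    exact ⟨a, hx₃⟩
  have hψs : Function.Surjective ψ := by
    intro ξ
    obtain ⟨x₃, hx₃⟩ := Abelian.Ext.covariant_sequence_exact₁ _ hS' ξ (vanU G K' hacyc F 0 _)
      (zero_add 1)
    obtain ⟨b, rfl⟩ := (Abelian.Ext.mk₀_bijective _ _).2 x₃
    refine ⟨(τ (SS F).X₃).symm b, ?_⟩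
    show (Abelian.Ext.mk₀ (τ (SS F).X₃ ((τ (SS F).X₃).symm b))).comp hS'.extClass
      (zero_add 1) = ξ
    rw [AddEquiv.apply_symm_apply]
    exact hx₃
  have hk : ∀ a, φ a = 0 ↔ ψ a = 0 := by
    intro a
    constructor
    · intro h
      have h' : (Abelian.Ext.mk₀ a).comp hS.extClass (zero_add 1) = 0 := h
      obtain ⟨x₂, hx₂⟩ := Abelian.Ext.covariant_sequence_exact₃ _ hS (Abelian.Ext.mk₀ a)
        (zero_add 1) h'
      obtain ⟨b, rfl⟩ := (Abelian.Ext.mk₀_bijective _ _).2 x₂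
      rw [Abelian.Ext.mk₀_comp_mk₀] at hx₂
      have hb : b ≫ (SS F).g = a := (Abelian.Ext.mk₀_bijective _ _).1 hx₂
      show (Abelian.Ext.mk₀ (τ (SS F).X₃ a)).comp hS'.extClass (zero_add 1) = 0
      rw [← hb, hτ]
      exact ResCoh.comp_extClass_zero hS' (τ (SS F).X₂ b)
    · intro h
      have h' : (Abelian.Ext.mk₀ (τ (SS F).X₃ a)).comp hS'.extClass (zero_add 1) = 0 := h
      obtain ⟨x₂, hx₂⟩ := Abelian.Ext.covariant_sequence_exact₃ _ hS'
        (Abelian.Ext.mk₀ (τ (SS F).X₃ a)) (zero_add 1) h'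
      obtain ⟨b', rfl⟩ := (Abelian.Ext.mk₀_bijective _ _).2 x₂
      rw [Abelian.Ext.mk₀_comp_mk₀] at hx₂
      have hb' : b' ≫ G.map (SS F).g = τ (SS F).X₃ a :=
        (Abelian.Ext.mk₀_bijective _ _).1 hx₂
      have hb : (τ (SS F).X₂).symm b' ≫ (SS F).g = a := by
        apply (τ (SS F).X₃).injective
        rw [hτ, AddEquiv.apply_symm_apply]
        exact hb'
      show (Abelian.Ext.mk₀ a).comp hS.extClass (zero_add 1) = 0
      rw [← hb]
      exact ResCoh.comp_extClass_zero hS _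
  obtain ⟨e, he⟩ := exists_addEquiv_of_surj φ ψ hφs hψs hk
  refine ⟨e, ?_⟩
  intro ρ x
  obtain ⟨a, rfl⟩ := hφs x
  have h1 : (φ a).comp (Ext.mk₀ (ρ.app F)) (add_zero 1) = φ (a ≫ ρ.app (SS F).X₃) :=
    comp_extClass_comp₀ hS (ρS ρ F) a
  have h2 : (ψ a).comp (Ext.mk₀ (G.map (ρ.app F))) (add_zero 1) =
      ψ (a ≫ ρ.app (SS F).X₃) := by
    rw [hψ (a ≫ ρ.app (SS F).X₃), hτ]
    exact comp_extClass_comp₀ hS' (ρS' G ρ F) (τ (SS F).X₃ a)
  rw [h1, he, he, h2]

include hacyc in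
theorem exists_succ_succ (F : C) (n : ℕ)
    (ih : ∀ F' : C, ∃ e : Ext K F' (n + 1) ≃+ Ext K' (G.obj F') (n + 1),
      Equivar G K K' (n + 1) F' e) :
    ∃ e : Ext K F (n + 2) ≃+ Ext K' (G.obj F) (n + 2), Equivar G K K' (n + 2) F e := by
  have hS := SS_shortExact F
  have hS' := SS_map_shortExact G F
  obtain ⟨e, he⟩ := ih (SS F).X₃
  have h1 := ResCoh.delta_bijective hS K n (vanX K F n) (vanX K F (n + 1))
  have h2 := ResCoh.delta_bijective hS' K' n (vanU G K' hacyc F n) (vanU G K' hacyc F (n + 1))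
  let d1 := AddEquiv.ofBijective _ h1
  let d2 := AddEquiv.ofBijective _ h2
  have hd1 : ∀ x, d1 x = x.comp hS.extClass (rfl : (n + 1) + 1 = n + 2) := fun x => rfl
  have hd2 : ∀ x, d2 x = x.comp hS'.extClass (rfl : (n + 1) + 1 = n + 2) := fun x => rfl
  refine ⟨d1.symm.trans (e.trans d2), ?_⟩
  intro ρ y
  obtain ⟨x, rfl⟩ := d1.surjective y
  have k1 : (d1 x).comp (Ext.mk₀ (ρ.app F)) (add_zero (n + 2)) =
      d1 (x.comp (Ext.mk₀ (ρ.app (SS F).X₃)) (add_zero (n + 1))) :=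
    comp_extClass_comp hS (ρS ρ F) x
  have k2 : ∀ z : Ext K' (G.obj (SS F).X₃) (n + 1),
      (d2 z).comp (Ext.mk₀ (G.map (ρ.app F))) (add_zero (n + 2)) =
      d2 (z.comp (Ext.mk₀ (G.map (ρ.app (SS F).X₃))) (add_zero (n + 1))) :=
    fun z => comp_extClass_comp hS' (ρS' G ρ F) z
  rw [k1]
  simp only [AddEquiv.trans_apply, AddEquiv.symm_apply_apply]
  rw [he ρ x]
  exact (k2 (e x)).symm

include hτ hacyc in
theorem exists_succ (n : ℕ) : ∀ F : C,
    ∃ e : Ext K F (n + 1) ≃+ Ext K' (G.obj F) (n + 1), Equivar G K K' (n + 1) F e := by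
  induction n with
  | zero => exact fun F => exists_one G K K' τ hτ hacyc F
  | succ n ih => exact fun F => exists_succ_succ G K K' hacyc F n ih

include hτ hacyc in
/-- **Equivariant transfer of `Ext` along an exact functor.** -/
theorem exists_addEquiv (n : ℕ) (F : C) :
    ∃ e : Ext K F n ≃+ Ext K' (G.obj F) n, Equivar G K K' n F e := by
  cases n with
  | zero => exact exists_zero G K K' τ hτ F
  | succ n => exact exists_succ G K K' τ hτ hacyc n F

end ExtTransferEqH9
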