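import Mathlib
import Groth.Prelude
import Groth.Agent.Lib.ModSite20_helper8
import Groth.Agent.Lib.ModSite11_helper8
import Groth.Agent.Lib.QcqsLoc_helper9

/-!
# The internal Hom of a finite locally free module is exact (helper9)

Part 1: over a trivializing open `U`, the restriction of `A` to the localized site `Opens X / U`
is a finite coproduct of copies of the unit.
APPEND-ONLY once landed.
-/

set_option autoImplicit false
universe u
open CategoryTheory CategoryTheory.Limits AlgebraicGeometry TopologicalSpace Opposite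

namespace SheafHomLFH9

variable {X : Scheme.{u}}

/-- restriction to the localized site is compatible with `Scheme.Modules.restrict`, on units -/
noncomputable def overUnitIso (U : X.Opens) :
    (Scheme.Modules.overEquiv U).functor.obj (SheafOfModules.unit (X.ringCatSheaf.over U)) ≅
      SheafOfModules.unit (U : Scheme.{u}).ringCatSheaf :=
  (Scheme.Modules.overFunctorEquiv U).app (SheafOfModules.unit X.ringCatSheaf) ≪≫
    Scheme.Modules.restrictUnitIso U.ι

/-- over a trivializing open, the restriction of `A` to the localized site is free -/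
theorem nonempty_over_iso_free (U : X.Opens) (A : X.Modules) (n : ℕ)
    (α : A.restrict U.ι ≅ FlatMod.freeMod (↑U) n) :
    Nonempty ((SheafOfModules.overFunctor X.ringCatSheaf U).obj A ≅
      ∐ fun _ : Fin n => SheafOfModules.unit (X.ringCatSheaf.over U)) := by
  let E := Scheme.Modules.overEquiv U
  let e1 : E.functor.obj ((SheafOfModules.overFunctor X.ringCatSheaf U).obj A) ≅
      A.restrict U.ι := (Scheme.Modules.overFunctorEquiv U).app A
  let e2 : E.functor.obj (∐ fun _ : Fin n => SheafOfModules.unit (X.ringCatSheaf.over U)) ≅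
      ∐ fun _ : Fin n => E.functor.obj (SheafOfModules.unit (X.ringCatSheaf.over U)) :=
    PreservesCoproduct.iso E.functor _
  let e3 : (∐ fun _ : Fin n => E.functor.obj (SheafOfModules.unit (X.ringCatSheaf.over U))) ≅
      FlatMod.freeMod (↑U) n := Sigma.mapIso (fun _ => overUnitIso U)
  exact ⟨E.functor.preimageIso (e1 ≪≫ α ≪≫ e3.symm ≪≫ e2.symm)⟩

section Free

variable {C : Type u} [SmallCategory C] {J : GrothendieckTopology C} (O : Sheaf J CommRingCat.{u})

open ModSite Groth.Agent.Lib.ModSiteH8

/-- `- ⊗ O ≅ id` -/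
noncomputable def rightUnitor : (tensorBi O).flip.obj (ModSite.unit O) ≅ 𝟭 (Mod O) :=
  (sigmaIso O (ModSite.unit O)).symm ≪≫ unitorObj O

/-- the `n`-fold coproduct functor -/
noncomputable def sumF (n : ℕ) : Mod O ⥤ Mod O where
  obj P := ∐ fun _ : Fin n => P
  map f := Limits.Sigma.map fun _ => f
  map_id P := by
    apply Sigma.hom_ext
    intro j
    simp
  map_comp f g := by
    apply Sigma.hom_ext
    intro j
    simp

/-- the `n`-fold product functor -/
noncomputable def prodF (n : ℕ) : Mod O ⥤ Mod O where
  obj P := ∏ᶜ fun _ : Fin n => P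
  map f := Limits.Pi.map fun _ => f
  map_id P := by
    apply Pi.hom_ext
    intro j
    simp
  map_comp f g := by
    apply Pi.hom_ext
    intro j
    simp

/-- `sumF n ⊣ prodF n` -/
noncomputable def sumProdAdj (n : ℕ) : sumF O n ⊣ prodF O n :=
  Adjunction.mkOfHomEquiv
    { homEquiv := fun P N =>
        { toFun := fun f => Pi.lift fun j => Sigma.ι (fun _ : Fin n => P) j ≫ f
          invFun := fun g => Limits.Sigma.desc fun j => g ≫ Pi.π (fun _ : Fin n => N) j
          left_inv := fun f => by
            apply Limits.Sigma.hom_ext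
            intro j
            exact (Limits.Sigma.ι_desc _ _).trans (Limits.Pi.lift_π _ _)
          right_inv := fun g => by
            apply Limits.Pi.hom_ext
            intro j
            exact (Limits.Pi.lift_π _ _).trans (Limits.Sigma.ι_desc _ _) }
      homEquiv_naturality_left_symm := fun {P' P N} p g => by
        apply Limits.Sigma.hom_ext
        intro j
        show Sigma.ι (fun _ : Fin n => P') j ≫
            (Limits.Sigma.desc fun j => (p ≫ g) ≫ Pi.π (fun _ : Fin n => N) j) =
          Sigma.ι (fun _ : Fin n => P') j ≫ (Limits.Sigma.map fun _ : Fin n => p) ≫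
            (Limits.Sigma.desc fun j => g ≫ Pi.π (fun _ : Fin n => N) j)
        rw [Limits.Sigma.ι_desc, Limits.Sigma.ι_map_assoc, Limits.Sigma.ι_desc, Category.assoc]
      homEquiv_naturality_right := fun {P N N'} f q => by
        apply Limits.Pi.hom_ext
        intro j
        show (Pi.lift fun j => Sigma.ι (fun _ : Fin n => P) j ≫ f ≫ q) ≫
            Pi.π (fun _ : Fin n => N') j =
          ((Pi.lift fun j => Sigma.ι (fun _ : Fin n => P) j ≫ f) ≫
            (Limits.Pi.map fun _ : Fin n => q)) ≫ Pi.π (fun _ : Fin n => N') j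
        rw [Limits.Pi.lift_π, Category.assoc, Limits.Pi.map_π, Limits.Pi.lift_π_assoc,
          Category.assoc] }

instance prodF_preservesEpi (n : ℕ) : (prodF O n).PreservesEpimorphisms where
  preserves f hf := by
    haveI : ∀ j : Fin n, Epi ((fun _ : Fin n => f) j) := fun _ => hf
    haveI : HasFiniteBiproducts (Mod O) := Abelian.hasFiniteBiproducts
    exact Limits.Pi.map_epi (fun _ : Fin n => f)

/-- the comparison `P ⊗ O^n ≅ P^n` -/
noncomputable def tfComp (n : ℕ) (P : Mod O) :
    ((tensorBi O).obj P).obj (∐ fun _ : Fin n => ModSite.unit O) ≅ ∐ fun _ : Fin n => P :=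
  PreservesCoproduct.iso ((tensorBi O).obj P) (fun _ : Fin n => ModSite.unit O) ≪≫
    Sigma.mapIso (fun _ => (rightUnitor O).app P)

lemma ι_tfComp_inv (n : ℕ) (P : Mod O) (j : Fin n) :
    Sigma.ι (fun _ : Fin n => P) j ≫ (tfComp O n P).inv =
      (rightUnitor O).inv.app P ≫
        ((tensorBi O).obj P).map (Sigma.ι (fun _ : Fin n => ModSite.unit O) j) := by
  have h1 : Sigma.ι (fun _ : Fin n => ((tensorBi O).obj P).obj (ModSite.unit O)) j ≫
      (PreservesCoproduct.iso ((tensorBi O).obj P) (fun _ : Fin n => ModSite.unit O)).inv =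
      ((tensorBi O).obj P).map (Sigma.ι (fun _ : Fin n => ModSite.unit O) j) := by
    rw [PreservesCoproduct.inv_hom]
    exact ι_comp_sigmaComparison _ _ _
  show Sigma.ι (fun _ : Fin n => P) j ≫
      ((Sigma.mapIso (fun _ => (rightUnitor O).app P)).inv ≫
        (PreservesCoproduct.iso ((tensorBi O).obj P) (fun _ : Fin n => ModSite.unit O)).inv) = _
  have h2 : Sigma.ι (fun _ : Fin n => P) j ≫
      (Sigma.mapIso (fun _ : Fin n => (rightUnitor O).app P)).inv =
      (rightUnitor O).inv.app P ≫
        Sigma.ι (fun _ : Fin n => ((tensorBi O).obj P).obj (ModSite.unit O)) j :=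
    Limits.Sigma.ι_mapIso_inv _ _
  rw [reassoc_of% h2, h1]

lemma sumF_map (n : ℕ) {P P' : Mod O} (p : P ⟶ P') :
    (sumF O n).map p = Limits.Sigma.map fun _ : Fin n => p := rfl

lemma tfComp_naturality (n : ℕ) {P P' : Mod O} (p : P ⟶ P') :
    (Limits.Sigma.map fun _ : Fin n => p) ≫ (tfComp O n P').inv =
      (tfComp O n P).inv ≫ ((tensorBi O).map p).app (∐ fun _ : Fin n => ModSite.unit O) := by
  apply Limits.Sigma.hom_ext
  intro j
  have h3 := ((tensorBi O).map p).naturality (Sigma.ι (fun _ : Fin n => ModSite.unit O) j)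
  have h4 := (rightUnitor O).inv.naturality p
  rw [Functor.flip_obj_map] at h4
  rw [Limits.Sigma.ι_map_assoc, ι_tfComp_inv, reassoc_of% (ι_tfComp_inv O n P j), h3]
  rw [Functor.id_map] at h4
  rw [reassoc_of% h4]

/-- `- ⊗ O^n ≅ (-)^n` as functors -/
noncomputable def tensorFreeIso (n : ℕ) :
    sumF O n ≅ (tensorBi O).flip.obj (∐ fun _ : Fin n => ModSite.unit O) :=
  NatIso.ofComponents (fun P => (tfComp O n P).symm) (by
    intro P P' p
    rw [Functor.flip_obj_map, sumF_map]
    exact tfComp_naturality O n p)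

/-- the internal Hom of a free module of finite rank preserves epimorphisms -/
theorem sheafHom_preservesEpi_of_iso_free (B : Mod O) (n : ℕ)
    (e : B ≅ ∐ fun _ : Fin n => ModSite.unit O) [HasSheafHom B] :
    (sheafHom B).PreservesEpimorphisms := by
  let iso : sumF O n ≅ (tensorBi O).flip.obj B :=
    tensorFreeIso O n ≪≫ (tensorBi O).flip.mapIso e.symm
  let adj2 : (tensorBi O).flip.obj B ⊣ prodF O n := (sumProdAdj O n).ofNatIsoLeft iso
  let φ : sheafHom B ≅ prodF O n := Adjunction.rightAdjointUniq (sheafHomAdj B) adj2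
  exact Functor.PreservesEpimorphisms.of_iso φ.symm

end Free

section SchemeLevel

open ModSite Groth.Agent.Lib.ModSiteH8 QcqsLoc

variable {X : Scheme.{u}}

/-- a morphism of modules which vanishes on the localizations along an open cover vanishes -/
theorem eq_zero_of_restr {M M' : X.Modules} (f : M ⟶ M')
    (h : ∀ x : X, ∃ U : X.Opens, x ∈ U ∧ (restr X.sheaf U).map f = 0) : f = 0 := by
  apply Scheme.Modules.hom_ext
  intro W
  ext s
  show f.app W s = 0
  apply eq_zero_of_cover
  intro x hx
  obtain ⟨U, hxU, hU⟩ := h x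
  refine ⟨W ⊓ U, inf_le_left, ⟨hx, hxU⟩, ?_⟩
  have h1 : rF M' (inf_le_left : W ⊓ U ≤ W) (f.app W s) =
      f.app (W ⊓ U) (rF M (inf_le_left : W ⊓ U ≤ W) s) :=
    (QCohCrit.app_naturality f (homOfLE (inf_le_left : W ⊓ U ≤ W)) s).symm
  rw [h1]
  have h2 := congrArg (fun φ => (φ.val.app (op (Over.mk (homOfLE (inf_le_right : W ⊓ U ≤ U))))).hom
    (rF M (inf_le_left : W ⊓ U ≤ W) s)) hU
  exact h2

/-- **The internal Hom of a finite locally free module preserves epimorphisms.** -/
theorem sheafHom_preservesEpi_of_isFinLocFree (A : X.Modules) (hA : FlatMod.IsFinLocFree A)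
    [HasSheafHom (O := X.sheaf) A] :
    (sheafHom (O := X.sheaf) A).PreservesEpimorphisms := by
  constructor
  intro N N' π hπ
  apply Abelian.epi_of_cokernel_π_eq_zero
  apply eq_zero_of_restr
  intro x
  obtain ⟨U, n, hxU, ⟨α⟩⟩ := hA x
  refine ⟨U, hxU, ?_⟩
  obtain ⟨e⟩ := nonempty_over_iso_free U A n α
  haveI : HasSheafHom ((restr X.sheaf U).obj A) := hasSheafHom _ _
  haveI := sheafHom_preservesEpi_of_iso_free (X.sheaf.over U) ((restr X.sheaf U).obj A) n e
  let η := restrSheafHomNatIso X.sheaf U A
  have hepi : Epi ((restr X.sheaf U).map ((sheafHom (O := X.sheaf) A).map π)) := by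
    have h1 := η.hom.naturality π
    have h2 : (restr X.sheaf U).map ((sheafHom (O := X.sheaf) A).map π) =
        η.hom.app N ≫ (sheafHom ((restr X.sheaf U).obj A)).map ((restr X.sheaf U).map π) ≫
          η.inv.app N' := by
      rw [← Category.assoc, ← Functor.comp_map (restr X.sheaf U), ← h1, Category.assoc,
        Iso.hom_inv_id_app, Category.comp_id]
      rfl
    rw [h2]
    haveI : Epi ((restr X.sheaf U).map π) := by
      haveI := restr_isLeftAdjoint X.sheaf U
      infer_instance
    haveI h3 : Epi ((sheafHom ((restr X.sheaf U).obj A)).map ((restr X.sheaf U).map π)) :=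
      Functor.map_epi _ _
    haveI h4 : Epi ((sheafHom ((restr X.sheaf U).obj A)).map ((restr X.sheaf U).map π) ≫
        η.inv.app N') := epi_comp _ _
    exact epi_comp _ _
  rw [← cancel_epi ((restr X.sheaf U).map ((sheafHom (O := X.sheaf) A).map π)),
    ← Functor.map_comp, cokernel.condition, Functor.map_zero, comp_zero]

/-- the two internal Homs of the Prelude agree (they are right adjoint to `A ⊗ -` and `- ⊗ A`) -/
noncomputable def dcohIso (A : X.Modules) [DCoh.HasSheafHom A] [HasSheafHom (O := X.sheaf) A] :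
    DCoh.sheafHom A ≅ sheafHom (O := X.sheaf) A :=
  Adjunction.rightAdjointUniq (DCoh.sheafHomAdj A)
    ((sheafHomAdj (O := X.sheaf) A).ofNatIsoLeft (sigmaIso X.sheaf A).symm)

theorem dcoh_preservesEpi (A : X.Modules) (hA : FlatMod.IsFinLocFree A) [DCoh.HasSheafHom A] :
    (DCoh.sheafHom A).PreservesEpimorphisms := by
  haveI : HasSheafHom (O := X.sheaf) A := hasSheafHom _ _
  have h := sheafHom_preservesEpi_of_isFinLocFree A hA
  exact @Functor.PreservesEpimorphisms.of_iso _ _ _ _ _ _ h (dcohIso A).symm

instance dcoh_preservesFiniteLimits (A : X.Modules) [DCoh.HasSheafHom A] :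
    PreservesFiniteLimits (DCoh.sheafHom A) := by
  haveI : (DCoh.sheafHom A).IsRightAdjoint := (DCoh.sheafHomAdj A).isRightAdjoint
  infer_instance

instance dcoh_additive (A : X.Modules) [DCoh.HasSheafHom A] : (DCoh.sheafHom A).Additive :=
  Functor.additive_of_preserves_binary_products _

/-- **The internal Hom of a finite locally free module is exact.** -/
theorem dcoh_preservesFiniteColimits (A : X.Modules) (hA : FlatMod.IsFinLocFree A)
    [DCoh.HasSheafHom A] : PreservesFiniteColimits (DCoh.sheafHom A) := by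
  haveI := dcoh_preservesEpi A hA
  rw [Functor.preservesFiniteColimits_iff_forall_exact_map_and_epi]
  intro S hS
  haveI := hS.epi_g
  refine ⟨?_, inferInstance⟩
  exact (((Functor.preservesFiniteLimits_iff_forall_exact_map_and_mono (DCoh.sheafHom A)).mp
    inferInstance) S hS).1

end SchemeLevel

end SheafHomLFH9
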