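import Mathlib
import Groth.Prelude
import Groth.Agent.Lib.SheafHomLF1_helper9
import Groth.Agent.Lib.ExtTransferEq_helper9
import Groth.Agent.Lib.ExtDual1_helper9
import Groth.Agent.Lib.ModHom_helper2
import Groth.Agent.Lib.ModFreeExt_helper2

/-!
# `Ext^p(A, B) ≅ H^p(X, Hom(A, B))` for `A` finite locally free (helper9)
APPEND-ONLY once landed.
-/

set_option autoImplicit false
universe u
open CategoryTheory CategoryTheory.Limits AlgebraicGeometry TopologicalSpace Opposite Abelian

namespace SheafHomLFH9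

open ModSite Groth.Agent.Lib.ModSiteH8 Groth.Agent.Lib.ModFree

variable {X : Scheme.{u}}

/-- `H^{k+1}(X, Hom(A, I)) = 0` for `I` injective -/
theorem subsingleton_HH_sheafHom_injective (A I : X.Modules) [DCoh.HasSheafHom A] [Injective I]
    (k : ℕ) : Subsingleton (Coh.HH X ((DCoh.sheafHom A).obj I) (k + 1)) := by
  haveI : HasSheafHom (O := X.sheaf) A := hasSheafHom _ _
  haveI hI : @Injective (ModSite.Mod X.sheaf) _ I := ‹Injective I›
  have hF := totallyAcyclic_sheafHom_injective X.sheaf A I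
  have h := hF (ptSheaf (Opens.grothendieckTopology X)) k
  have h2 : Subsingleton (Coh.HH X ((sheafHom (O := X.sheaf) A).obj I) (k + 1)) :=
    Groth.Agent.Lib.ExtRes.subsingleton_ext_of_iso _
      (L₂ptIso (Opens.grothendieckTopology X)).symm (k + 1) h
  exact Groth.Agent.HHVan.subsingleton_of_iso ((dcohIso A).app I).symm _ h2

instance dcoh_tensor_additive (A : X.Modules) : ((DCoh.tensorBi (X := X)).obj A).Additive :=
  obj_additive X.sheaf A

/-- `A ⊗ O ≅ A` -/
noncomputable def tensorUnitIso (A : X.Modules) :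
    ((DCoh.tensorBi (X := X)).obj A).obj (Coh.structureModule X) ≅ A :=
  (rightUnitor X.sheaf).app A

/-- `Hom(A, F) ≃ Hom(O, Hom(A, F))` -/
noncomputable def tauEquiv (A : X.Modules) [DCoh.HasSheafHom A] (F : X.Modules) :
    (A ⟶ F) ≃+ (Coh.structureModule X ⟶ (DCoh.sheafHom A).obj F) :=
  ({ toFun := fun f => (tensorUnitIso A).hom ≫ f
     invFun := fun g => (tensorUnitIso A).inv ≫ g
     left_inv := fun f => by simp
     right_inv := fun g => by simp
     map_add' := fun f g => Preadditive.comp_add _ _ _ _ _ _ } :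
    (A ⟶ F) ≃+ (((DCoh.tensorBi (X := X)).obj A).obj (Coh.structureModule X) ⟶ F)).trans
    ((DCoh.sheafHomAdj A).homAddEquiv (Coh.structureModule X) F)

lemma tauEquiv_apply (A : X.Modules) [DCoh.HasSheafHom A] (F : X.Modules) (f : A ⟶ F) :
    tauEquiv A F f =
      (DCoh.sheafHomAdj A).homEquiv (Coh.structureModule X) F ((tensorUnitIso A).hom ≫ f) := rfl

lemma tauEquiv_comp (A : X.Modules) [DCoh.HasSheafHom A] {F F' : X.Modules} (a : A ⟶ F)
    (φ : F ⟶ F') : tauEquiv A F' (a ≫ φ) = tauEquiv A F a ≫ (DCoh.sheafHom A).map φ := by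
  rw [tauEquiv_apply, tauEquiv_apply, ← Category.assoc, Adjunction.homEquiv_naturality_right]

/-- `Ext^p(A, B) ≃ Ext^p(O, Hom(A, B))`, compatibly with central endomorphisms -/
theorem exists_ext_addEquiv_ext_unit [HasExt.{u} X.Modules] (A B : X.Modules)
    (hA : FlatMod.IsFinLocFree A) [DCoh.HasSheafHom A] (p : ℕ) :
    ∃ e : Ext A B p ≃+ Ext (Coh.structureModule X) ((DCoh.sheafHom A).obj B) p,
      ExtTransferEqH9.Equivar (DCoh.sheafHom A) A (Coh.structureModule X) p B e := by
  haveI := dcoh_preservesFiniteColimits A hA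
  haveI := Groth.Agent.ExtDual.enoughInjectives_modules X
  refine ExtTransferEqH9.exists_addEquiv (DCoh.sheafHom A) A (Coh.structureModule X)
    (tauEquiv A) (tauEquiv_comp A) ?_ p B
  intro I hI n ξ
  haveI := hI
  haveI := Groth.Agent.ExtDual.subsingleton_ext_unit _ (n + 1)
    (subsingleton_HH_sheafHom_injective A I n)
  exact Subsingleton.elim _ _

section Site

variable {C : Type u} [SmallCategory C] {J : GrothendieckTopology C} (R : Sheaf J RingCat.{u})

/-- `Ext^n_R(R, M) ≃ H^n(M)`, compatibly with central endomorphisms -/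
theorem exists_ext_unit_addEquiv_H [HasExt.{u} (SheafOfModules.{u} R)]
    [EnoughInjectives (SheafOfModules.{u} R)] (M : SheafOfModules.{u} R) (n : ℕ) :
    ∃ e : Ext (SheafOfModules.unit R) M n ≃+
        Ext (cZ J) ((SheafOfModules.toSheaf R).obj M) n,
      ExtTransferEqH9.Equivar (SheafOfModules.toSheaf R) (SheafOfModules.unit R) (cZ J) n M e := by
  haveI := Groth.Agent.Lib.ModSiteH8.toSheaf_preservesColimitsOfSize R
  haveI := Groth.Agent.Lib.ModSiteH8.toSheaf_preservesLimitsOfSize R
  haveI : PreservesFiniteColimits (SheafOfModules.toSheaf R) := ⟨fun _ _ _ => inferInstance⟩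
  haveI : PreservesFiniteLimits (SheafOfModules.toSheaf R) := ⟨fun _ _ _ => inferInstance⟩
  refine ExtTransferEqH9.exists_addEquiv (SheafOfModules.toSheaf R) (SheafOfModules.unit R)
    (cZ J) (eΓadd R) (fun a φ => eΓ_comp R a φ) ?_ n M
  intro I hI k ξ
  haveI := hI
  have hF := totallyAcyclic_toSheaf_of_injective R I
  have h := hF (ptSheaf J) k
  haveI : Subsingleton (Ext (cZ J) ((SheafOfModules.toSheaf R).obj I) (k + 1)) :=
    Groth.Agent.Lib.ExtRes.subsingleton_ext_of_iso _ (L₂ptIso J).symm (k + 1) h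
  exact Subsingleton.elim _ _

end Site

/-- **`Ext^p(A, B) ≅ H^p(X, Hom(A, B))` for `A` finite locally free** (statement of S12483). -/
theorem nonempty_ext_addEquiv_HH [HasExt.{u} X.Modules] (A B : X.Modules)
    (hA : FlatMod.IsFinLocFree A) [DCoh.HasSheafHom A] (p : ℕ) :
    Nonempty (Ext A B p ≃+ Coh.HH X ((DCoh.sheafHom A).obj B) p) := by
  obtain ⟨e1, -⟩ := exists_ext_addEquiv_ext_unit A B hA p
  haveI h1 : HasExt.{u} (SheafOfModules.{u} X.ringCatSheaf) := ‹HasExt.{u} X.Modules›
  haveI h2 : EnoughInjectives (SheafOfModules.{u} X.ringCatSheaf) :=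
    Groth.Agent.ExtDual.enoughInjectives_modules X
  obtain ⟨e2, -⟩ := exists_ext_unit_addEquiv_H X.ringCatSheaf ((DCoh.sheafHom A).obj B) p
  exact ⟨e1.trans e2⟩

end SheafHomLFH9
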