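import Mathlib
import Groth.Prelude
import Groth.Agent.Lib.SheafHomLF2_helper9
import Groth.Agent.Lib.ExtDual3_helper9
import Groth.Agent.Lib.FLF2_helper8
import Groth.Agent.Lib.FLF6_helper8

/-!
# Linearity of `Ext^p(A, B) ≅ H^p(X, Hom(A, B))`, Serre duality on `P^r` in `H`-form (helper9)
APPEND-ONLY once landed.
-/

set_option autoImplicit false
universe u
open CategoryTheory CategoryTheory.Limits AlgebraicGeometry TopologicalSpace Opposite Abelian
open MonoidalCategory

namespace SheafHomLFH9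

variable {X : Scheme.{u}}

/-- restriction of a global function, typed in the ring of `CohB1.PMod X` -/
noncomputable abbrev pres (U : (Opens X)ᵒᵖ) (r : Coh.Γtop X) :
    ((X.sheaf.obj ⋙ forget₂ CommRingCat RingCat.{u}).obj U : RingCat.{u}) := Coh.resTop X U r

theorem pres_comp {U V : (Opens X)ᵒᵖ} (f : U ⟶ V) (r : Coh.Γtop X) :
    ((X.sheaf.obj ⋙ forget₂ CommRingCat RingCat.{u}).map f).hom (pres U r) = pres V r :=
  Coh.resTop_comp U V f r

theorem pres_mul_comm (U : (Opens X)ᵒᵖ) (r : Coh.Γtop X)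
    (s : ((X.sheaf.obj ⋙ forget₂ CommRingCat RingCat.{u}).obj U : RingCat.{u})) :
    pres U r * s = s * pres U r :=
  @mul_comm Γ(X, Opposite.unop U) _ (Coh.resTop X U r) s

/-- presheaf-level multiplication by a global function (on underlying presheaves of groups) -/
noncomputable def psmulAb (Q : CohB1.PMod X) (r : Coh.Γtop X) : Q.presheaf ⟶ Q.presheaf where
  app := fun U => AddCommGrpCat.ofHom (DistribSMul.toAddMonoidHom (Q.obj U) (pres U r))
  naturality := by
    intro U V f
    ext m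
    change pres V r • (Q.map f).hom m = (Q.map f).hom (pres U r • m)
    rw [← pres_comp f r]
    exact (Q.map_smul f (pres U r) m).symm

/-- presheaf-level multiplication by a global function -/
noncomputable def psmul (Q : CohB1.PMod X) (r : Coh.Γtop X) : Q ⟶ Q :=
  PresheafOfModules.homMk (psmulAb Q r) (by
    intro U s m
    change pres U r • (s • m) = s • (pres U r • m)
    rw [← mul_smul, ← mul_smul, pres_mul_comm])

theorem psmul_app_apply (Q : CohB1.PMod X) (r : Coh.Γtop X) (U : (Opens X)ᵒᵖ) (m : Q.obj U) :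
    (psmul Q r).app U m = pres U r • m := rfl

theorem comp_psmul {Q Q' : CohB1.PMod X} (f : Q ⟶ Q') (r : Coh.Γtop X) :
    f ≫ psmul Q' r = psmul Q r ≫ f := by
  ext U m
  change (psmul Q' r).app U (f.app U m) = f.app U ((psmul Q r).app U m)
  rw [psmul_app_apply, psmul_app_apply]
  exact ((f.app U).hom.map_smul _ m).symm

theorem toP_map_smulModΓ (M : X.Modules) (r : Coh.Γtop X) :
    (DCoh.toP (X := X)).map (Formal.smulModΓ M r) = psmul (DCoh.toP.obj M) r := rfl

theorem whiskerLeft_psmul (P Q : CohB1.PMod X) (r : Coh.Γtop X) :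
    P ◁ psmul Q r = psmul (P ⊗ Q) r := by
  ext1 U
  refine ModuleCat.MonoidalCategory.tensor_ext (fun p q => ?_)
  exact TensorProduct.tmul_smul (pres U r) p q

/-- the sheafification adjunction for `DCoh.shP` -/
noncomputable def shPAdj : (DCoh.shP (X := X)) ⊣
    (SheafOfModules.forget X.ringCatSheaf ⋙
      PresheafOfModules.restrictScalars (𝟙 X.ringCatSheaf.obj)) :=
  PresheafOfModules.sheafificationAdjunction.{u} (R := X.ringCatSheaf) (𝟙 X.ringCatSheaf.obj)

theorem shP_map_psmul (Q : CohB1.PMod X) (r : Coh.Γtop X) :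
    (DCoh.shP (X := X)).map (psmul Q r) = Formal.smulModΓ (DCoh.shP.obj Q) r := by
  apply ((shPAdj (X := X)).homEquiv _ _).injective
  rw [Adjunction.homEquiv_unit, Adjunction.homEquiv_unit]
  have h1 := (shPAdj (X := X)).unit.naturality (psmul Q r)
  calc _ = psmul Q r ≫ (shPAdj (X := X)).unit.app Q := h1.symm
    _ = (shPAdj (X := X)).unit.app Q ≫ psmul _ r := (comp_psmul _ r).symm
    _ = _ := rfl

theorem tensorBi_map_smulModΓ (A P : X.Modules) (r : Coh.Γtop X) :
    ((DCoh.tensorBi (X := X)).obj A).map (Formal.smulModΓ P r) =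
      Formal.smulModΓ (((DCoh.tensorBi (X := X)).obj A).obj P) r := by
  change DCoh.shP.map (DCoh.toP.obj A ◁ DCoh.toP.map (Formal.smulModΓ P r)) = _
  rw [toP_map_smulModΓ, whiskerLeft_psmul, shP_map_psmul]
  rfl

theorem sheafHom_map_smulModΓ (A N : X.Modules) [DCoh.HasSheafHom A] (r : Coh.Γtop X) :
    (DCoh.sheafHom A).map (Formal.smulModΓ N r) =
      Formal.smulModΓ ((DCoh.sheafHom A).obj N) r := by
  apply ((DCoh.sheafHomAdj A).homEquiv _ _).symm.injective
  rw [Adjunction.homEquiv_counit, Adjunction.homEquiv_counit, tensorBi_map_smulModΓ,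
    ← KLin.comp_smulModΓ]
  exact (DCoh.sheafHomAdj A).counit.naturality (Formal.smulModΓ N r)

/-- multiplication by a global function as a natural endomorphism of the identity -/
noncomputable def ρΓ (r : Coh.Γtop X) : 𝟭 X.Modules ⟶ 𝟭 X.Modules where
  app N := Formal.smulModΓ N r
  naturality _ _ f := KLin.comp_smulModΓ f r

theorem ρΓ_app (r : Coh.Γtop X) (N : X.Modules) : (ρΓ r).app N = Formal.smulModΓ N r := rfl

/-- **`Ext^p(F, N) ≅ H^p(X, Hom(F, N))` linearly, for `F` finite locally free.** -/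
theorem nonempty_ext_linearEquiv_HH {A : Type u} [CommRing A] [X.Over (Spec (CommRingCat.of A))]
    [HasExt.{u} X.Modules] (F N : X.Modules) (hF : FlatMod.IsFinLocFree F) [DCoh.HasSheafHom F]
    (p : ℕ) : Nonempty (Ext F N p ≃ₗ[A] Coh.HH X ((DCoh.sheafHom F).obj N) p) := by
  obtain ⟨e1, he1⟩ := exists_ext_addEquiv_ext_unit F N hF p
  haveI h1 : HasExt.{u} (SheafOfModules.{u} X.ringCatSheaf) := ‹HasExt.{u} X.Modules›
  haveI h2 : EnoughInjectives (SheafOfModules.{u} X.ringCatSheaf) :=
    Groth.Agent.ExtDual.enoughInjectives_modules X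
  obtain ⟨e2, he2⟩ := exists_ext_unit_addEquiv_H X.ringCatSheaf ((DCoh.sheafHom F).obj N) p
  refine ⟨{ (e1.trans e2) with map_smul' := ?_ }⟩
  intro a x
  have hx : a • x = x.comp (Ext.mk₀
      ((ρΓ (Coh.toGlobal (X ↘ Spec (CommRingCat.of A)) a)).app N)) (add_zero p) := by
    rw [Ext.smul_eq_comp_mk₀, KLin.smul_id]
    rfl
  change e2 (e1 (a • x)) = a • e2 (e1 x)
  rw [hx, he1, ρΓ_app, sheafHom_map_smulModΓ]
  exact he2 (ρΓ (Coh.toGlobal (X ↘ Spec (CommRingCat.of A)) a)) (e1 x)

/-- **Serre duality on `P^r_k` for finite locally free modules, in `H`-form** (statement of S2926). -/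
theorem serre_duality_HH (k : Type u) [Field k] (r : ℕ) (F : (CohB1.ProjSpace r k).Modules)
    (hF : FlatMod.IsFinLocFree F) [DCoh.HasSheafHom F] (i : ℕ) (hi : i ≤ r) :
    Nonempty (Module.Dual k (Coh.HH (CohB1.ProjSpace r k) F i) ≃ₗ[k]
      Coh.HH (CohB1.ProjSpace r k)
        ((DCoh.sheafHom F).obj (Twist.twistProjSpace r k (-((r : ℤ) + 1)))) (r - i)) := by
  haveI := Groth.Agent.ExtDual.enoughInjectives_modules (CohB1.ProjSpace r k)
  haveI : HasExt.{u} (CohB1.ProjSpace r k).Modules :=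
    hasExt_of_enoughInjectives.{u} (CohB1.ProjSpace r k).Modules
  have hcoh : Coh.IsCoh F := by
    haveI := FLFH8.isQuasicoherent_of_finLocFree F hF
    haveI := FLFH8.isFinitePresentation_of_finLocFree F hF
    exact ⟨inferInstance, inferInstance⟩
  obtain ⟨e1⟩ := (Groth.Agent.ExtDual.ext_dual k r F hcoh).1 (r - i) (Nat.sub_le r i)
  rw [Nat.sub_sub_self hi] at e1
  obtain ⟨e2⟩ := nonempty_ext_linearEquiv_HH (A := k) F
    (Twist.twistProjSpace r k (-((r : ℤ) + 1))) hF (r - i)
  exact ⟨e1.symm.trans e2⟩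

end SheafHomLFH9
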