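import Mathlib
import Groth.Prelude
import Groth.Agent.Lib.CurveTens4_helper9
import Groth.Agent.Lib.PForm2_helper9
import Groth.Agent.Lib.SheafHomLF3_helper9
import Groth.Agent.Lib.CurveRR1_helper9

/-!
# Multiplication by a section of an invertible module (helper9)

For `u : O_X ⟶ A` the morphism `mulSec G A u : G ⟶ G ⊗ A`, its formula on sections, additivity and
linearity in `u`, and bijectivity on sections over the locus where `u` generates `A`.
APPEND-ONLY once landed.
-/

set_option autoImplicit false
universe u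
open CategoryTheory CategoryTheory.Limits AlgebraicGeometry Opposite TopologicalSpace
open MonoidalCategory

namespace CurveAmple

open QcqsLoc QCohExtn GenLocH8 TensH8 FLFH8 PFormH9

variable {X : Scheme.{u}}

section Unitor

/-- The right unit isomorphism `F ⊗ O ≅ F` of the sectionwise tensor product. -/
noncomputable def unitorPreR (F : X.Modules) :
    (CohB1.tensorPre F (Coh.structureModule X) : X.PresheafOfModules) ≅ F.val :=
  (ρ_ (CohB1.toPMod F) : (CohB1.tensorPre F (Coh.structureModule X) : CohB1.PMod X) ≅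
    (CohB1.toPMod F : CohB1.PMod X))

/-- The canonical identification `F ⊗ O ≅ F`. -/
noncomputable def unitorR (F : X.Modules) : CohB1.tensorMod F (Coh.structureModule X) ≅ F :=
  (CohB1.sheafifyMod X).mapIso (unitorPreR F) ≪≫
    (asIso (PresheafOfModules.sheafificationAdjunction.{u, u, u, u}
      (J := Opens.grothendieckTopology X) (𝟙 X.ringCatSheaf.obj)).counit).app F

theorem unitorPreR_hom_tmul (F : X.Modules) (U : X.Opens) (t : F.val.obj (op U))
    (r : X.ringCatSheaf.obj.obj (op U)) :
    ((unitorPreR F).hom.app (op U)).hom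
        ((t ⊗ₜ (r : (Coh.structureModule X).val.obj (op U)) :
          ↥((CohB1.tensorPre F (Coh.structureModule X)).obj (op U)))) = r • t := by
  change ((ρ_ (CohB1.toPMod F)).hom.app (op U)).hom _ = _
  simp [PresheafOfModules.rightUnitor_hom_app]
  rfl

theorem unitorR_tmul (F : X.Modules) (U : X.Opens) (t : F.val.obj (op U))
    (r : X.ringCatSheaf.obj.obj (op U)) :
    ((unitorR F).hom.val.app (op U)).hom
        (SecTwist.tmul F (Coh.structureModule X) U t (r : (Coh.structureModule X).val.obj (op U))) =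
      r • t := by
  let adj := PresheafOfModules.sheafificationAdjunction.{u, u, u, u}
    (J := Opens.grothendieckTopology X) (𝟙 X.ringCatSheaf.obj)
  let P : X.PresheafOfModules := CohB1.tensorPre F (Coh.structureModule X)
  let x : ↥((CohB1.tensorPre F (Coh.structureModule X)).obj (op U)) :=
    t ⊗ₜ (r : (Coh.structureModule X).val.obj (op U))
  have natU : ((adj.unit.app F.val).app (op U)).hom (((unitorPreR F).hom.app (op U)).hom x) =
      ((((CohB1.sheafifyMod X).map (unitorPreR F).hom).val.app (op U)).hom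
        (((adj.unit.app P).app (op U)).hom x)) :=
    congrArg (fun φ => (PresheafOfModules.Hom.app φ (op U)).hom x)
      (adj.unit.naturality (unitorPreR F).hom)
  rw [unitorPreR_hom_tmul] at natU
  have triU : (((adj.counit.app F).val.app (op U)).hom
      (((adj.unit.app F.val).app (op U)).hom (r • t))) = r • t :=
    congrArg (fun φ => (PresheafOfModules.Hom.app φ (op U)).hom (r • t))
      (adj.right_triangle_components F)
  change ((((CohB1.sheafifyMod X).map (unitorPreR F).hom ≫ adj.counit.app F).val.app (op U)).hom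
      (((adj.unit.app P).app (op U)).hom x)) = r • t
  rw [← triU, natU]
  rfl

theorem unitorR_tmul' (F : X.Modules) (U : X.Opens) (t : Γ(F, U)) (r : Γ(X, U)) :
    ap (unitorR F).hom U (SecTwist.tmul F (Coh.structureModule X) U t (toM r)) = r • t :=
  unitorR_tmul F U t r

theorem unitorR_tmul_one (F : X.Modules) (U : X.Opens) (t : Γ(F, U)) :
    ap (unitorR F).hom U (SecTwist.tmul F (Coh.structureModule X) U t (toM (1 : Γ(X, U)))) = t := by
  have h := unitorR_tmul' F U t 1
  rw [one_smul] at h
  exact h

theorem unitorR_inv_ap (F : X.Modules) (U : X.Opens) (t : Γ(F, U)) :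
    ap (unitorR F).inv U t = SecTwist.tmul F (Coh.structureModule X) U t (toM (1 : Γ(X, U))) := by
  have h := congrArg (ap (unitorR F).inv U) (unitorR_tmul_one F U t)
  rw [ap_inv_hom] at h
  exact h.symm

end Unitor

section MulSec

/-- `G ⊗ -` on morphisms, with explicit source and target -/
noncomputable def tlMap (G : X.Modules) {A B : X.Modules} (u : A ⟶ B) :
    CohB1.tensorMod G A ⟶ CohB1.tensorMod G B := (TL G).map u

theorem tlMap_add (G : X.Modules) {A B : X.Modules} (u u' : A ⟶ B) :
    tlMap G (u + u') = tlMap G u + tlMap G u' := (TL G).map_add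

theorem tlMap_zero (G : X.Modules) (A B : X.Modules) : tlMap G (0 : A ⟶ B) = 0 :=
  (TL G).map_zero _ _

theorem tlMap_comp (G : X.Modules) {A B C : X.Modules} (u : A ⟶ B) (v : B ⟶ C) :
    tlMap G (u ≫ v) = tlMap G u ≫ tlMap G v := (TL G).map_comp u v

theorem tlMap_smulModΓ (G P : X.Modules) (r : Coh.Γtop X) :
    tlMap G (Formal.smulModΓ P r) = Formal.smulModΓ (CohB1.tensorMod G P) r :=
  SheafHomLFH9.tensorBi_map_smulModΓ G P r

theorem ap_tlMap_tmul (G : X.Modules) {A B : X.Modules} (u : A ⟶ B) (U : X.Opens)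
    (t : Γ(G, U)) (a : Γ(A, U)) :
    ap (tlMap G u) U (SecTwist.tmul G A U t a) = SecTwist.tmul G B U t (ap u U a) :=
  TL_map_tmul G u U t a

/-- multiplication by the section `u` of `A` -/
noncomputable def mulSec (G A : X.Modules) (u : Coh.structureModule X ⟶ A) :
    G ⟶ CohB1.tensorMod G A :=
  (unitorR G).inv ≫ tlMap G u

theorem ap_mulSec (G A : X.Modules) (u : Coh.structureModule X ⟶ A) (U : X.Opens) (t : Γ(G, U)) :
    ap (mulSec G A u) U t = SecTwist.tmul G A U t (ap u U (toM (1 : Γ(X, U)))) := by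
  have h1 : ap (mulSec G A u) U t = ap (tlMap G u) U (ap (unitorR G).inv U t) := rfl
  rw [h1, unitorR_inv_ap]
  exact ap_tlMap_tmul G u U t (toM (1 : Γ(X, U)))

theorem mulSec_add (G A : X.Modules) (u u' : Coh.structureModule X ⟶ A) :
    mulSec G A (u + u') = mulSec G A u + mulSec G A u' := by
  unfold mulSec
  rw [tlMap_add, Preadditive.comp_add]

theorem mulSec_zero (G A : X.Modules) : mulSec G A 0 = 0 := by
  unfold mulSec
  rw [tlMap_zero, Limits.comp_zero]

theorem mulSec_smulModΓ (G A : X.Modules) (u : Coh.structureModule X ⟶ A) (r : Coh.Γtop X) :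
    mulSec G A (Formal.smulModΓ _ r ≫ u) = Formal.smulModΓ G r ≫ mulSec G A u := by
  unfold mulSec
  rw [tlMap_comp, tlMap_smulModΓ, ← Category.assoc, ← Category.assoc,
    KLin.comp_smulModΓ (unitorR G).inv r]

end MulSec

section Linear

variable (k : Type u) [Field k] [X.Over (Spec (CommRingCat.of k))]

theorem mulSec_smul (G A : X.Modules) (c : k) (u : Coh.structureModule X ⟶ A) :
    mulSec G A (c • u) = c • mulSec G A u := by
  rw [KLin.smul_def, KLin.smul_def]
  exact mulSec_smulModΓ G A u _

open Groth.Agent.HHVan in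
theorem HHlin_add {F G : X.Modules} (φ φ' : F ⟶ G) (i : ℕ) :
    Canon.HHlin k (φ + φ') i = Canon.HHlin k φ i + Canon.HHlin k φ' i := by
  ext x
  show hmap (φ + φ') i x = hmap φ i x + hmap φ' i x
  unfold hmap
  rw [Functor.map_add]
  exact Sheaf.H.map_add_apply _ _ x

open Groth.Agent.HHVan in
theorem HHlin_comp {F G H : X.Modules} (φ : F ⟶ G) (ψ : G ⟶ H) (i : ℕ) :
    Canon.HHlin k (φ ≫ ψ) i = Canon.HHlin k ψ i ∘ₗ Canon.HHlin k φ i := by
  ext x
  exact hmap_comp φ ψ i x

theorem HHlin_smul {F G : X.Modules} (c : k) (φ : F ⟶ G) (i : ℕ) :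
    Canon.HHlin k (c • φ) i = c • Canon.HHlin k φ i := by
  ext x
  rw [KLin.smul_def, HHlin_comp]
  have h : Canon.HHlin k (Formal.smulMod k F c) i x = c • x := rfl
  show Canon.HHlin k φ i (Canon.HHlin k (Formal.smulMod k F c) i x) = c • Canon.HHlin k φ i x
  rw [h]
  exact (Canon.HHlin k φ i).map_smul c x

/-- the `k`-linear map `u ↦ H^i(mulSec u)` -/
noncomputable def mulLin (G A : X.Modules) (i : ℕ) :
    (Coh.structureModule X ⟶ A) →ₗ[k] (Coh.HH X G i →ₗ[k] Coh.HH X (CohB1.tensorMod G A) i) where
  toFun u := Canon.HHlin k (mulSec G A u) i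
  map_add' u u' := by rw [mulSec_add, HHlin_add]
  map_smul' c u := by
    rw [mulSec_smul, HHlin_smul]
    rfl

theorem mulLin_apply (G A : X.Modules) (i : ℕ) (u : Coh.structureModule X ⟶ A) :
    mulLin k G A i u = Canon.HHlin k (mulSec G A u) i := rfl

end Linear

end CurveAmple
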