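import Mathlib
import Groth.Prelude
import Groth.Agent.Lib.CurveAmple1_helper9

/-!
# Multiplication by a nonzero section is surjective on `H¹` of a curve (helper9)
APPEND-ONLY once landed.
-/

set_option autoImplicit false
universe u
open CategoryTheory CategoryTheory.Limits AlgebraicGeometry Opposite TopologicalSpace

namespace CurveAmple

open QcqsLoc QCohExtn GenLocH8 TensH8 FLFH8 Groth.Agent.HHVan

variable {X : Scheme.{u}}

section Locus

/-- over a nonempty affine open, multiplication by a nonzero section of an invertible module on an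
integral scheme is bijective on sections -/
theorem exists_open_bijective [IsIntegral X] {A : X.Modules} (hA : PicF.IsInvertible A)
    (u : Coh.structureModule X ⟶ A) (hu : u ≠ 0) (G : X.Modules) :
    ∃ V : X.Opens, IsAffineOpen V ∧ (V : Set X).Nonempty ∧
      ∀ W' : X.Opens, W' ≤ V → Function.Bijective (ap (mulSec G A u) W') := by
  obtain ⟨W, hW, hξW, e, he⟩ := exists_isGen hA (genericPoint X)
  obtain ⟨f, hf⟩ := he.exists_coef (ap u W (toM (1 : Γ(X, W))))
  have hWne : (W : Set X).Nonempty := ⟨_, hξW⟩
  have hf0 : f ≠ 0 := by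
    intro h
    apply hu
    refine CurveDeg.hom_eq_zero_of_ap_gen isInvertible_structureModule hA u hWne (isGen_one W) ?_
    rw [hf, h, zero_smul]
  haveI : Nonempty W := hWne.to_subtype
  have hVne : ((X.basicOpen f : X.Opens) : Set X).Nonempty := by
    rw [Set.nonempty_iff_ne_empty]
    intro h
    have h1 : X.basicOpen f = ⊥ := by
      ext y
      simp only [Opens.coe_bot]
      rw [h]
    rw [AlgebraicGeometry.basicOpen_eq_bot_iff] at h1
    exact hf0 h1
  have hVW : X.basicOpen f ≤ W := X.basicOpen_le f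
  have hunit : IsUnit (rX hVW f) := X.toRingedSpace.isUnit_res_basicOpen f
  have hone : ∀ {O O' : X.Opens} (h : O' ≤ O),
      rF (Coh.structureModule X) h (toM (1 : Γ(X, O))) = toM (1 : Γ(X, O')) :=
    fun h => map_one (rX h)
  have he' : IsGen A (X.basicOpen f) (ap u (X.basicOpen f) (toM (1 : Γ(X, X.basicOpen f)))) := by
    have h1 : ap u (X.basicOpen f) (toM (1 : Γ(X, X.basicOpen f))) =
        rX hVW f • rF A hVW e := by
      rw [← hone hVW, ap_rF, hf, rF_smul]
    rw [h1]
    exact isGen_smul_of_isUnit (he.res hVW) hunit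
  refine ⟨X.basicOpen f, hW.basicOpen f, hVne, fun W' hW' => ?_⟩
  have key : ∀ t : Γ(G, W'), ap (mulSec G A u) W' t = SecTwist.tmul G A W' t
      (rF A hW' (ap u (X.basicOpen f) (toM (1 : Γ(X, X.basicOpen f))))) := by
    intro t
    rw [ap_mulSec, ← ap_rF, hone hW']
  constructor
  · intro t t' h
    rw [key, key] at h
    exact tmulGen_injective G A he' hW' t t' h
  · intro y
    obtain ⟨t, ht⟩ := tmulGen_surjective G A he' hW' y
    exact ⟨t, (key t).trans ht⟩

end Locus

section LES

/-- long exact sequence: surjectivity of `H^q(X₂) → H^q(X₃)` when `H^{q+1}(X₁) = 0` -/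
theorem hmap_g_surjective (S : ShortComplex X.Modules) (hS : S.ShortExact) (q : ℕ)
    (h1 : Subsingleton (Coh.HH X S.X₁ (q + 1))) : Function.Surjective (hmap S.g q) := by
  have hT := SerreCrit.shortExact_toSheaf S hS
  intro x
  obtain ⟨y, hy⟩ := Abelian.Ext.covariant_sequence_exact₃ _ hT
    (show Abelian.Ext _ (Coh.toAb S.X₃) q from x) (rfl : q + 1 = q + 1)
    (Subsingleton.elim (h := h1) _ _)
  exact ⟨y, hy⟩

/-- long exact sequence: surjectivity of `H^q(X₁) → H^q(X₂)` when `H^q(X₃) = 0` -/
theorem hmap_f_surjective (S : ShortComplex X.Modules) (hS : S.ShortExact) (q : ℕ)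
    (h3 : Subsingleton (Coh.HH X S.X₃ q)) : Function.Surjective (hmap S.f q) := by
  have hT := SerreCrit.shortExact_toSheaf S hS
  intro x
  obtain ⟨y, hy⟩ := Abelian.Ext.covariant_sequence_exact₂ _ hT
    (show Abelian.Ext _ (Coh.toAb S.X₂) q from x) (Subsingleton.elim (h := h3) _ _)
  exact ⟨y, hy⟩

/-- a morphism whose kernel has no `H^{q+1}` and whose cokernel has no `H^q` is surjective on
`H^q` -/
theorem hmap_surjective_of_kernel_cokernel {G T : X.Modules} (m : G ⟶ T) (q : ℕ)
    (hK : Subsingleton (Coh.HH X (kernel m) (q + 1)))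
    (hC : Subsingleton (Coh.HH X (cokernel m) q)) : Function.Surjective (hmap m q) := by
  -- first short exact sequence: kernel → G → coimage
  let S₁ : ShortComplex X.Modules :=
    ShortComplex.mk (kernel.ι m) (cokernel.π (kernel.ι m)) (cokernel.condition _)
  have hS₁ : S₁.ShortExact :=
    ShortComplex.ShortExact.mk' (S₁.exact_of_g_is_cokernel (cokernelIsCokernel (kernel.ι m)))
      (inferInstanceAs (Mono (kernel.ι m))) (inferInstanceAs (Epi (cokernel.π (kernel.ι m))))
  -- second short exact sequence: image → T → cokernel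
  let S₂ : ShortComplex X.Modules :=
    ShortComplex.mk (kernel.ι (cokernel.π m)) (cokernel.π m) (kernel.condition _)
  have hS₂ : S₂.ShortExact :=
    ShortComplex.ShortExact.mk' (S₂.exact_of_f_is_kernel (kernelIsKernel (cokernel.π m)))
      (inferInstanceAs (Mono (kernel.ι (cokernel.π m)))) (inferInstanceAs (Epi (cokernel.π m)))
  have h1 : Function.Surjective (hmap (cokernel.π (kernel.ι m)) q) :=
    hmap_g_surjective S₁ hS₁ q hK
  have h2 : Function.Surjective (hmap (kernel.ι (cokernel.π m)) q) :=
    hmap_f_surjective S₂ hS₂ q hC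
  have hfac : m = cokernel.π (kernel.ι m) ≫ Abelian.coimageImageComparison m ≫
      kernel.ι (cokernel.π m) := (Abelian.coimage_image_factorisation m).symm
  have h3 : Function.Surjective (hmap (Abelian.coimageImageComparison m) q) := by
    intro z
    refine ⟨hmap (inv (Abelian.coimageImageComparison m)) q z, ?_⟩
    rw [← hmap_comp, IsIso.inv_hom_id, hmap_id]
  intro z
  obtain ⟨z₂, hz₂⟩ := h2 z
  obtain ⟨z₃, hz₃⟩ := h3 z₂
  obtain ⟨z₁, hz₁⟩ := h1 z₃
  refine ⟨z₁, ?_⟩
  rw [hfac, hmap_comp, hmap_comp, hz₁, hz₃, hz₂]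

end LES

section Curve

variable (k : Type u) [Field k] (X : Scheme.{u}) [X.Over (Spec (CommRingCat.of k))]
  [IsIntegral X] [IsProper (X ↘ Spec (CommRingCat.of k))]

/-- **Multiplication by a nonzero section is surjective on `H¹`** of a coherent module on an
integral proper curve -/
theorem HH1_mulSec_surjective (hdim : topologicalKrullDim X ≤ 1) {G A : X.Modules}
    (hG : Coh.IsCoh G) (hA : PicF.IsInvertible A) (u : Coh.structureModule X ⟶ A) (hu : u ≠ 0) :
    Function.Surjective (Canon.HHlin k (mulSec G A u) 1) := by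
  haveI : IsLocallyNoetherian X :=
    LocallyOfFiniteType.isLocallyNoetherian (X ↘ Spec (CommRingCat.of k))
  haveI : CompactSpace X :=
    QuasiCompact.compactSpace_of_compactSpace (X ↘ Spec (CommRingCat.of k))
  haveI : IsNoetherian X := {}
  have hAc := ProperFinH9.isCoh_of_isInvertible hA
  haveI := hG.1
  haveI := hAc.1
  have hTc : Coh.IsCoh (CohB1.tensorMod G A) :=
    ⟨TensQCH8.isQuasicoherent_tensorMod G A, TensQCH8.isFiniteType_tensorMod G A hG.2 hAc.2⟩
  haveI := hTc.1
  obtain ⟨V, hVaff, hVne, hbij⟩ := exists_open_bijective hA u hu G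
  have hCc : Coh.IsCoh (cokernel (mulSec G A u)) := CohKerH8.isCoh_cokernel hG hTc _
  have hsupp := CohDevH8.support_cokernel_subset_compl hG hTc (mulSec G A u) hVaff
    (hbij V le_rfl).2
  have hC : Subsingleton (Coh.HH X (cokernel (mulSec G A u)) 1) :=
    ZeroDimAcyc.HH_subsingleton_of_zero_dim X _ hCc
      (fun x hx => CurveVan.isClosed_singleton_of_notMem_open hdim V hVne x (hsupp hx)) 1
      Nat.one_pos
  haveI : (kernel (mulSec G A u)).IsQuasicoherent := SubExt.isQuasicoherent_kernel (mulSec G A u)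
  have hK : Subsingleton (Coh.HH X (kernel (mulSec G A u)) (1 + 1)) :=
    CurveRR.HH_subsingleton k X hdim _ 2 (by norm_num)
  exact hmap_surjective_of_kernel_cokernel (mulSec G A u) 1 hK hC

end Curve

end CurveAmple
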