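import Mathlib
import Groth.Prelude
import Groth.Agent.Lib.BirFin1_helper8
import Groth.Agent.Lib.CurveVan1_helper9
import Groth.Agent.Lib.PushEdgeNat_helper9
import Groth.Agent.Lib.SerreFT1_helper9
import Groth.Agent.Lib.CurveAmple2_helper9
import Groth.Agent.Lib.PForm3_helper9

/-!
# Birational proper morphisms onto schemes of dimension at most one (helper9)

`f : X' ⟶ X` proper, an isomorphism over a dense open `U ⊆ X` with dense preimage, `dim X ≤ 1`:
`f` is finite, the comparison map `O_X ⟶ f_* O_{X'}` is bijective over `U`, its kernel and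
cokernel live on the discrete closed set `X ∖ U`, and `H¹(X, O_X) ⟶ H¹(X', O_{X'})` is surjective.
APPEND-ONLY once landed.
-/

set_option autoImplicit false
universe u
open CategoryTheory CategoryTheory.Limits AlgebraicGeometry Opposite TopologicalSpace

namespace BirCurve

open QcqsLoc QCohExtn SerreCrit

section Stalks

variable {X : Scheme.{u}}

/-- the kernel of a morphism bijective over `U` has no stalks on `U` -/
theorem subsingleton_stalk_kernel {F G : X.Modules} (ψ : F ⟶ G) (U : X.Opens)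
    (hψ : ∀ V : X.Opens, V ≤ U → Function.Bijective (ap ψ V)) {x : X} (hx : x ∈ U) :
    Subsingleton ((kernel ψ).presheaf.stalk x) := by
  refine CurveVan.subsingleton_stalk_of_locally_zero _ x (fun V hxV s => ?_)
  refine ⟨V ⊓ U, inf_le_left, ⟨hxV, hx⟩, ?_⟩
  have hinj := QCohExact.app_injective_of_mono (kernel.ι ψ) (V ⊓ U)
  apply hinj
  have h0 : ap (kernel.ι ψ) (V ⊓ U) 0 = 0 := map_zero _
  refine Eq.trans ?_ h0.symm
  apply (hψ (V ⊓ U) inf_le_right).1
  have h1 : ap ψ (V ⊓ U) (ap (kernel.ι ψ) (V ⊓ U) (rF _ inf_le_left s)) =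
      ap (kernel.ι ψ ≫ ψ) (V ⊓ U) (rF _ inf_le_left s) := rfl
  refine h1.trans ?_
  rw [kernel.condition, map_zero]
  rfl

/-- the cokernel of a morphism bijective over `U` has no stalks on `U` -/
theorem subsingleton_stalk_cokernel {F G : X.Modules} (ψ : F ⟶ G) (U : X.Opens)
    (hψ : ∀ V : X.Opens, V ≤ U → Function.Bijective (ap ψ V)) {x : X} (hx : x ∈ U) :
    Subsingleton ((cokernel ψ).presheaf.stalk x) := by
  refine CurveVan.subsingleton_stalk_of_locally_zero _ x (fun V hxV q => ?_)
  obtain ⟨V₁, hV₁, hxV₁, p, hp⟩ := EpiLoc.exists_local_lift (cokernel.π ψ) q hxV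
  refine ⟨V₁ ⊓ U, inf_le_left.trans hV₁, ⟨hxV₁, hx⟩, ?_⟩
  obtain ⟨f, hf⟩ := (hψ (V₁ ⊓ U) inf_le_right).2 (rF _ (inf_le_left : V₁ ⊓ U ≤ V₁) p)
  have hp' : ap (cokernel.π ψ) V₁ p = rF _ hV₁ q := hp
  have h1 : rF (cokernel ψ) (inf_le_left.trans hV₁ : V₁ ⊓ U ≤ V) q =
      rF _ (inf_le_left : V₁ ⊓ U ≤ V₁) (rF _ hV₁ q) := (rF_rF _ _ _ _).symm
  rw [h1, ← hp', ← ap_rF, ← hf]
  have h2 : ap (cokernel.π ψ) (V₁ ⊓ U) (ap ψ (V₁ ⊓ U) f) =
      ap (ψ ≫ cokernel.π ψ) (V₁ ⊓ U) f := rfl
  rw [h2, cokernel.condition]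
  rfl

/-- on a locally Noetherian scheme of dimension at most one, points outside a dense open are
closed -/
theorem isClosed_singleton_of_notMem_dense [IsLocallyNoetherian X]
    (hdim : topologicalKrullDim X ≤ 1) (U : X.Opens) (hU : Dense (U : Set X)) (x : X)
    (hxU : x ∉ U) : IsClosed ({x} : Set X) := by
  rcases CurveH8.isMin_or_isMax hdim x with h | h
  · exact CurveH8.isClosed_singleton_of_isMin h
  · exfalso
    apply hxU
    refine Groth.Agent.Lib.BirFinH8.mem_of_dense_of_maximal X (U : Set X) U.isOpen hU x ?_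
    intro b hb
    have h1 : x ≤ b := hb
    exact (CurveH8.eq_of_le_of_le h1 (h h1)).symm

/-- all subsets of the complement of a dense open of a curve are closed -/
theorem isClosed_of_subset_compl_dense [IsLocallyNoetherian X]
    (hdim : topologicalKrullDim X ≤ 1) (U : X.Opens) (hU : Dense (U : Set X)) (T : Set X)
    (hT : T ⊆ (U : Set X)ᶜ) : IsClosed T :=
  ZeroDimAcyc.isClosed_of_subset X (U : Set X)ᶜ U.isOpen.isClosed_compl
    (fun z hz => isClosed_singleton_of_notMem_dense hdim U hU z hz) T hT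

/-- the local rings of a scheme of dimension at most one have dimension at most one -/
theorem ringKrullDim_stalk_le (hdim : topologicalKrullDim X ≤ 1) (x : X) :
    ringKrullDim (X.presheaf.stalk x) ≤ 1 := by
  rw [AlgebraicGeometry.ringKrullDim_stalk_eq_coheight]
  refine le_trans ?_ hdim
  rw [Groth.Agent.BCDimSchH8.dim_eq_iSup_coheight X]
  exact le_iSup (fun y : X => ((Order.coheight y : ℕ∞) : WithBot ℕ∞)) x

end Stalks

section Unit

variable {X X' : Scheme.{u}} (f : X' ⟶ X)

/-- the comparison morphism `O_X ⟶ f_* O_{X'}` -/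
noncomputable def unitMap : OO X ⟶ (Scheme.Modules.pushforward f).obj (OO X') :=
  SerreFT.secHom ((Scheme.Modules.pushforward f).obj (OO X')) (1 : Γ(X', f ⁻¹ᵁ ⊤))

theorem unitMap_app (W : X.Opens) (a : Γ(OO X, W)) :
    ap (unitMap f) W a = ((f.app W).hom (toFn a) : Γ(X', f ⁻¹ᵁ W)) := by
  unfold unitMap
  rw [SerreFT.secHom_app]
  show ((f.app W).hom (toFn a) * rX (PFormH9.preimage_mono f le_top) (1 : Γ(X', f ⁻¹ᵁ ⊤)) :
    Γ(X', f ⁻¹ᵁ W)) = (f.app W).hom (toFn a)
  rw [map_one]
  exact mul_one _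

set_option backward.isDefEq.respectTransparency false in
/-- `f` induces isomorphisms on sections over opens contained in an open over which it is an
isomorphism -/
theorem isIso_app_of_le (U : X.Opens) [IsIso (f ∣_ U)] {V : X.Opens} (hV : V ≤ U) :
    IsIso (f.app V) := by
  obtain ⟨W, rfl⟩ : ∃ W : U.toScheme.Opens, V = U.ι ''ᵁ W :=
    ⟨_, (CurveVan.image_preimage_of_le U hV).symm⟩
  have h1 := morphismRestrict_app f U W
  have key : ∀ {A B B' : CommRingCat.{u}} (a : A ⟶ B) (b : B ⟶ B') (c : A ⟶ B'),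
      c = a ≫ b → IsIso b → IsIso c → IsIso a := by
    intro A B B' a b c hc hb hcI
    subst hc
    exact IsIso.of_isIso_comp_right a b
  refine key _ _ _ h1 ?_ inferInstance
  rw [eqToHom_op, eqToHom_map]
  infer_instance

theorem unitMap_bijective (U : X.Opens) [IsIso (f ∣_ U)] {V : X.Opens} (hV : V ≤ U) :
    Function.Bijective (ap (unitMap f) V) := by
  haveI := isIso_app_of_le f U hV
  have hb : Function.Bijective (f.app V).hom :=
    ConcreteCategory.bijective_of_isIso (f.app V)
  constructor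
  · intro a b hab
    rw [unitMap_app, unitMap_app] at hab
    exact hb.1 hab
  · intro y
    obtain ⟨a, ha⟩ := hb.2 (show Γ(X', f ⁻¹ᵁ V) from y)
    refine ⟨ofFn a, ?_⟩
    rw [unitMap_app]
    exact ha

end Unit

section Main

open Groth.Agent.HHVan

variable (k : Type u) [Field k] {X X' : Scheme.{u}} [X.Over (Spec (CommRingCat.of k))]
  [X'.Over (Spec (CommRingCat.of k))] [IsProper (X ↘ Spec (CommRingCat.of k))]

include k in
/-- a proper birational morphism onto a curve is finite -/
theorem isFinite (hdim : topologicalKrullDim X ≤ 1) (f : X' ⟶ X) [IsProper f] (U : X.Opens)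
    (hU' : Dense ((f ⁻¹ᵁ U : X'.Opens) : Set X')) (hfU : IsIso (f ∣_ U)) : IsFinite f := by
  haveI : IsLocallyNoetherian X :=
    LocallyOfFiniteType.isLocallyNoetherian (X ↘ Spec (CommRingCat.of k))
  haveI : IsLocallyNoetherian X' := LocallyOfFiniteType.isLocallyNoetherian f
  haveI : LocallyQuasiFinite f :=
    LocallyQuasiFinite.of_finite_preimage_singleton f (fun x =>
      Groth.Agent.Lib.BirFinH8.main13532 f U hU' hfU x (ringKrullDim_stalk_le hdim x))
  exact IsFinite.of_isProper_of_locallyQuasiFinite f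

/-- the cohomology of the kernel of the comparison map vanishes in positive degrees -/
theorem HH_kernel_subsingleton [IsLocallyNoetherian X] (hdim : topologicalKrullDim X ≤ 1)
    (f : X' ⟶ X) (U : X.Opens) (hU : Dense (U : Set X)) [IsIso (f ∣_ U)] (p : ℕ) :
    Subsingleton (Coh.HH X (kernel (unitMap f)) (p + 1)) :=
  CurveVan.HH_subsingleton_of_stalks _ (U : Set X)ᶜ
    (fun x hx => subsingleton_stalk_kernel (unitMap f) U
      (fun V hV => unitMap_bijective f U hV) (not_not.mp hx))
    (isClosed_of_subset_compl_dense hdim U hU) p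

/-- the cohomology of the cokernel of the comparison map vanishes in positive degrees -/
theorem HH_cokernel_subsingleton [IsLocallyNoetherian X] (hdim : topologicalKrullDim X ≤ 1)
    (f : X' ⟶ X) (U : X.Opens) (hU : Dense (U : Set X)) [IsIso (f ∣_ U)] (p : ℕ) :
    Subsingleton (Coh.HH X (cokernel (unitMap f)) (p + 1)) :=
  CurveVan.HH_subsingleton_of_stalks _ (U : Set X)ᶜ
    (fun x hx => subsingleton_stalk_cokernel (unitMap f) U
      (fun V hV => unitMap_bijective f U hV) (not_not.mp hx))
    (isClosed_of_subset_compl_dense hdim U hU) p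

/-- `H^{p+1}(O_X) ⟶ H^{p+1}(f_* O_{X'})` is surjective -/
theorem hmap_unitMap_surjective [IsLocallyNoetherian X] (hdim : topologicalKrullDim X ≤ 1)
    (f : X' ⟶ X) (U : X.Opens) (hU : Dense (U : Set X)) [IsIso (f ∣_ U)] (p : ℕ) :
    Function.Surjective (hmap (unitMap f) (p + 1)) :=
  CurveAmple.hmap_surjective_of_kernel_cokernel (unitMap f) (p + 1)
    (HH_kernel_subsingleton hdim f U hU (p + 1)) (HH_cokernel_subsingleton hdim f U hU p)

/-- **the genus does not go up under a proper birational morphism** (statement of S1602) -/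
theorem genus_le (hdim : topologicalKrullDim X ≤ 1) (f : X' ⟶ X) [IsProper f]
    (hf : f ≫ (X ↘ Spec (CommRingCat.of k)) = X' ↘ Spec (CommRingCat.of k))
    (U : X.Opens) (hU : Dense (U : Set X)) (hU' : Dense ((f ⁻¹ᵁ U : X'.Opens) : Set X'))
    (hfU : IsIso (f ∣_ U)) : Curv2.genus k X' ≤ Curv2.genus k X := by
  haveI : IsLocallyNoetherian X :=
    LocallyOfFiniteType.isLocallyNoetherian (X ↘ Spec (CommRingCat.of k))
  haveI := hfU
  haveI : IsFinite f := isFinite k hdim f U hU' hfU
  have hOc := CohDevH8.isCoh_structureModule X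
  haveI := ProperFinH9.finite_HH_of_proper k X _ hOc 1
  haveI : (OO X').IsQuasicoherent := SerreCrit.isQuasicoherent_OO
  have e := Groth.Agent.PushEdgeNat.pushEdgeEquiv f hf (OO X') 1
  have hs : Function.Surjective (Canon.HHlin k (unitMap f) 1) :=
    hmap_unitMap_surjective hdim f U hU 0
  have h1 := LinearMap.finrank_le_finrank_of_surjective hs
  unfold Curv2.genus
  rw [← e.finrank_eq]
  exact h1

end Main

end BirCurve
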