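import Mathlib
import Groth.Prelude
import Groth.Agent.Lib.EulerField_helper9
import Groth.Agent.Lib.KerFree1_helper8
import Groth.Agent.Lib.CycLen1_helper8
import Groth.Agent.Lib.SuppStalk2_helper8
import Groth.Agent.Lib.FLF6_helper8
import Groth.Agent.Lib.QCohCrit_helper9

/-!
# Additivity of the degree on short exact sequences of finite locally free modules (helper9).
APPEND-ONLY once landed.
-/

set_option autoImplicit false
universe u
open CategoryTheory CategoryTheory.Limits AlgebraicGeometry Opposite TopologicalSpace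

namespace CurveDegAdd

section Alg

/-- ranks are additive on short exact sequences of finite free modules -/
theorem finrank_add_of_exact {R A B C : Type*} [CommRing R] [Nontrivial R] [AddCommGroup A]
    [AddCommGroup B] [AddCommGroup C] [Module R A] [Module R B] [Module R C]
    [Module.Free R A] [Module.Finite R A] [Module.Free R C] [Module.Finite R C]
    (f : A →ₗ[R] B) (g : B →ₗ[R] C) (hf : Function.Injective f) (hg : Function.Surjective g)
    (h : Function.Exact f g) :
    Module.finrank R B = Module.finrank R A + Module.finrank R C := by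
  obtain ⟨l, hl⟩ := Module.projective_lifting_property g LinearMap.id hg
  have e := (h.splitSurjectiveEquiv hf ⟨l, hl⟩).1
  rw [e.finrank_eq, Module.finrank_prod]

end Alg

section Rank

variable {X : Scheme.{u}}

/-- ranks are additive on short exact sequences of finite locally free modules -/
theorem rank_add [Nonempty X] (S : ShortComplex X.Modules) (hS : S.ShortExact) {n₁ n₂ n₃ : ℕ}
    (h₁ : FlatMod.IsFinLocFreeOfRank n₁ S.X₁) (h₂ : FlatMod.IsFinLocFreeOfRank n₂ S.X₂)
    (h₃ : FlatMod.IsFinLocFreeOfRank n₃ S.X₃) : n₂ = n₁ + n₃ := by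
  obtain ⟨x⟩ := ‹Nonempty X›
  obtain ⟨f1, r1⟩ := FLFH8.free_stalk_of_finLocFreeOfRank S.X₁ h₁ x
  obtain ⟨-, r2⟩ := FLFH8.free_stalk_of_finLocFreeOfRank S.X₂ h₂ x
  obtain ⟨f3, r3⟩ := FLFH8.free_stalk_of_finLocFreeOfRank S.X₃ h₃ x
  have c1 := KerFreeH8.isCoh_of_finLocFree (FLFH8.IsFinLocFreeOfRank.isFinLocFree S.X₁ h₁)
  have c3 := KerFreeH8.isCoh_of_finLocFree (FLFH8.IsFinLocFreeOfRank.isFinLocFree S.X₃ h₃)
  haveI := c1.1
  haveI := c1.2
  haveI := c3.1
  haveI := c3.2
  haveI := SuppStalkH8.finite_stalk S.X₁ x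
  haveI := SuppStalkH8.finite_stalk S.X₃ x
  have h := finrank_add_of_exact (Algz.stalkMapₗ S.f x) (Algz.stalkMapₗ S.g x)
    (CycLenH8.stalk_injective S hS x) (CycLenH8.stalk_surjective S hS x)
    (CycLenH8.stalk_exact S hS x)
  omega

end Rank

section Main

variable (k : Type u) [Field k] (X : Scheme.{u}) [X.Over (Spec (CommRingCat.of k))]
  [IsProper (X ↘ Spec (CommRingCat.of k))]

omit [X.Over (Spec (CommRingCat.of k))] [IsProper (X ↘ Spec (CommRingCat.of k))] in
theorem HH_subsingleton_of_isZero {M : X.Modules} (hM : IsZero M) (i : ℕ) :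
    Subsingleton (Coh.HH X M i) := by
  have hz : IsZero (Coh.toAb M) := Functor.map_isZero _ hM
  have key : ∀ z : Coh.HH X M i, z = 0 := by
    intro z
    have h1 : Sheaf.H.map (𝟙 (Coh.toAb M)) i z = z := Sheaf.H.map_id_apply z
    have h2 : 𝟙 (Coh.toAb M) = 0 := hz.eq_of_src _ _
    have h3 : Sheaf.H.map (0 : Coh.toAb M ⟶ Coh.toAb M) i z = 0 := by
      have := Sheaf.H.map_add_apply (0 : Coh.toAb M ⟶ Coh.toAb M) 0 z
      rw [add_zero] at this
      exact left_eq_add.mp this
    rw [← h1, h2, h3]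
  exact ⟨fun a b => by rw [key a, key b]⟩

omit [X.Over (Spec (CommRingCat.of k))] [IsProper (X ↘ Spec (CommRingCat.of k))] in
theorem isZero_of_isEmpty [IsEmpty X] (F : X.Modules) : IsZero F := by
  rw [IsZero.iff_id_eq_zero]
  apply Scheme.Modules.hom_ext
  intro O
  ext σ
  haveI := QCohCrit.subsingleton_sections F O (fun z _ => (IsEmpty.false z).elim)
  exact Subsingleton.elim _ _

/-- the Euler characteristic of any module on the empty scheme is zero -/
theorem euler_eq_zero_of_isEmpty [IsEmpty X] (F : X.Modules) :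
    Curv2.euler k X F = 0 := by
  unfold Curv2.euler
  have h : ∀ i : ℕ, Module.finrank k (Coh.HH X F i) = 0 := fun i => by
    haveI := HH_subsingleton_of_isZero X (isZero_of_isEmpty X F) i
    exact Module.finrank_zero_of_subsingleton
  simp [h]

/-- **statement of S7643** -/
theorem deg_additive (S : ShortComplex X.Modules) (hS : S.ShortExact)
    (n₁ n₂ n₃ : ℕ) (h₁ : FlatMod.IsFinLocFreeOfRank n₁ S.X₁)
    (h₂ : FlatMod.IsFinLocFreeOfRank n₂ S.X₂) (h₃ : FlatMod.IsFinLocFreeOfRank n₃ S.X₃) :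
    Curv2.deg k X S.X₂ n₂ = Curv2.deg k X S.X₁ n₁ + Curv2.deg k X S.X₃ n₃ := by
  have c1 := KerFreeH8.isCoh_of_finLocFree (FLFH8.IsFinLocFreeOfRank.isFinLocFree S.X₁ h₁)
  have c2 := KerFreeH8.isCoh_of_finLocFree (FLFH8.IsFinLocFreeOfRank.isFinLocFree S.X₂ h₂)
  have c3 := KerFreeH8.isCoh_of_finLocFree (FLFH8.IsFinLocFreeOfRank.isFinLocFree S.X₃ h₃)
  have h := EulerField.euler_additive k X S hS c1 c2 c3
  unfold Curv2.deg
  rw [h]
  rcases isEmpty_or_nonempty X with he | hne
  · rw [euler_eq_zero_of_isEmpty k X (Coh.structureModule X)]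
    ring
  · rw [rank_add S hS h₁ h₂ h₃]
    push_cast
    ring

end Main

end CurveDegAdd
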