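import Mathlib
import Groth.Prelude
import Groth.Agent.Lib.BirCurve1_helper9
import Groth.Agent.Lib.ChowB_helper7
import Groth.Agent.Lib.CurveDegAdd1_helper9

/-!
# Finite morphisms onto curves which are generically closed immersions do not raise the genus
(helper9)

Grothendieck vanishing on proper schemes of dimension at most one (no integrality assumption), and
the statement of S1566.
APPEND-ONLY once landed.
-/

set_option autoImplicit false
universe u
open CategoryTheory CategoryTheory.Limits AlgebraicGeometry Opposite TopologicalSpace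

namespace BirCurve

open QcqsLoc QCohExtn SerreCrit

section Stalks

variable {X : Scheme.{u}}

/-- the cokernel of a morphism surjective on sections over the affine opens inside `U` has no
stalks on `U` -/
theorem subsingleton_stalk_cokernel_of_surjective {F G : X.Modules} (ψ : F ⟶ G) (U : X.Opens)
    (hψ : ∀ V : X.Opens, V ≤ U → IsAffineOpen V → Function.Surjective (ap ψ V)) {x : X}
    (hx : x ∈ U) : Subsingleton ((cokernel ψ).presheaf.stalk x) := by
  refine CurveVan.subsingleton_stalk_of_locally_zero _ x (fun V hxV q => ?_)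
  obtain ⟨V₁, hV₁, hxV₁, p, hp⟩ := EpiLoc.exists_local_lift (cokernel.π ψ) q hxV
  obtain ⟨V₂, hV₂, hxV₂, hV₂le⟩ := Opens.isBasis_iff_nbhd.mp X.isBasis_affineOpens
    (show x ∈ V₁ ⊓ U from ⟨hxV₁, hx⟩)
  have h21 : V₂ ≤ V₁ := hV₂le.trans inf_le_left
  have h2U : V₂ ≤ U := hV₂le.trans inf_le_right
  refine ⟨V₂, h21.trans hV₁, hxV₂, ?_⟩
  obtain ⟨f, hf⟩ := hψ V₂ h2U hV₂ (rF _ h21 p)
  have hp' : ap (cokernel.π ψ) V₁ p = rF _ hV₁ q := hp
  have h1 : rF (cokernel ψ) (h21.trans hV₁ : V₂ ≤ V) q = rF _ h21 (rF _ hV₁ q) :=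
    (rF_rF _ _ _ _).symm
  rw [h1, ← hp', ← ap_rF, ← hf]
  have h2 : ap (cokernel.π ψ) V₂ (ap ψ V₂ f) = ap (ψ ≫ cokernel.π ψ) V₂ f := rfl
  rw [h2, cokernel.condition]
  rfl

end Stalks

section Vanishing

variable (k : Type u) [Field k] (X : Scheme.{u}) [X.Over (Spec (CommRingCat.of k))]
  [IsProper (X ↘ Spec (CommRingCat.of k))]

include k in
/-- **Grothendieck vanishing** on a proper scheme of dimension at most one -/
theorem HH_subsingleton_of_dim_le_one (hdim : topologicalKrullDim X ≤ 1) (F : X.Modules)
    [F.IsQuasicoherent] (n : ℕ) : Subsingleton (Coh.HH X F (n + 2)) := by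
  haveI : IsLocallyNoetherian X :=
    LocallyOfFiniteType.isLocallyNoetherian (X ↘ Spec (CommRingCat.of k))
  haveI : CompactSpace X :=
    QuasiCompact.compactSpace_of_compactSpace (X ↘ Spec (CommRingCat.of k))
  haveI : IsNoetherian X := {}
  rcases isEmpty_or_nonempty X with he | hne
  · exact CurveDegAdd.HH_subsingleton_of_isZero X (CurveDegAdd.isZero_of_isEmpty X F) _
  · obtain ⟨x⟩ := hne
    have hfin : (irreducibleComponents X).Finite := NoetherianSpace.finite_irreducibleComponents
    obtain ⟨A, hA, -, hAd⟩ := Groth.Agent.Lib.ChowB_helper7.exists_dense_affine_nhd X hfin x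
    haveI : IsAffineHom A.ι := CurveVan.isAffineHom_ι (X ↘ Spec (CommRingCat.of k)) A hA
    exact CurveVan.HH_subsingleton_of_affine_compl_discrete A hA
      (isClosed_of_subset_compl_dense hdim A hAd) F n

end Vanishing

section ClImm

variable {X X' : Scheme.{u}} (f : X' ⟶ X)

set_option backward.isDefEq.respectTransparency false in
/-- `f` is surjective on sections over the affine opens inside an open over which it is a closed
immersion -/
theorem app_surjective_of_le (U : X.Opens) [IsClosedImmersion (f ∣_ U)] {V : X.Opens} (hV : V ≤ U)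
    (hVa : IsAffineOpen V) : Function.Surjective (f.app V).hom := by
  obtain ⟨W, rfl⟩ : ∃ W : U.toScheme.Opens, V = U.ι ''ᵁ W :=
    ⟨_, (CurveVan.image_preimage_of_le U hV).symm⟩
  have hW : IsAffineOpen W := by
    have := hVa.preimage_of_isOpenImmersion U.ι
    rw [Scheme.Hom.preimage_image_eq] at this
    exact this (by rw [Scheme.Opens.opensRange_ι]; exact hV)
  have h1 := morphismRestrict_app f U W
  have hs : Function.Surjective ((f ∣_ U).app W).hom := (f ∣_ U).app_surjective W hW
  rw [h1] at hs
  intro y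
  let b := X'.presheaf.map (eqToHom (image_morphismRestrict_preimage f U W)).op
  haveI : IsIso b := by
    show IsIso (X'.presheaf.map (eqToHom _).op)
    rw [eqToHom_op, eqToHom_map]
    infer_instance
  obtain ⟨a, ha⟩ := hs (b.hom y)
  refine ⟨a, ?_⟩
  have hinj : Function.Injective b.hom := (ConcreteCategory.bijective_of_isIso b).1
  apply hinj
  exact ha

theorem unitMap_surjective (U : X.Opens) [IsClosedImmersion (f ∣_ U)] {V : X.Opens} (hV : V ≤ U)
    (hVa : IsAffineOpen V) : Function.Surjective (ap (unitMap f) V) := by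
  intro y
  obtain ⟨a, ha⟩ := app_surjective_of_le f U hV hVa (show Γ(X', f ⁻¹ᵁ V) from y)
  refine ⟨ofFn a, ?_⟩
  rw [unitMap_app]
  exact ha

end ClImm

section Main

open Groth.Agent.HHVan

variable (k : Type u) [Field k] {X X' : Scheme.{u}} [X.Over (Spec (CommRingCat.of k))]
  [X'.Over (Spec (CommRingCat.of k))] [IsProper (X ↘ Spec (CommRingCat.of k))]

/-- **statement of S1566** -/
theorem genus_le_of_closedImmersion (hdim : topologicalKrullDim X ≤ 1) (f : X' ⟶ X) [IsFinite f]
    (hf : f ≫ (X ↘ Spec (CommRingCat.of k)) = X' ↘ Spec (CommRingCat.of k))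
    (U : X.Opens) (hU : Dense (U : Set X)) (hfU : IsClosedImmersion (f ∣_ U)) :
    Curv2.genus k X' ≤ Curv2.genus k X := by
  haveI : IsLocallyNoetherian X :=
    LocallyOfFiniteType.isLocallyNoetherian (X ↘ Spec (CommRingCat.of k))
  haveI := hfU
  have hOc := CohDevH8.isCoh_structureModule X
  haveI := hOc.1
  haveI := ProperFinH9.finite_HH_of_proper k X _ hOc 1
  haveI : (OO X').IsQuasicoherent := SerreCrit.isQuasicoherent_OO
  haveI : ((Scheme.Modules.pushforward f).obj (OO X')).IsQuasicoherent :=
    QCohCrit.isQuasicoherent_pushforward f (OO X')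
  haveI : (kernel (unitMap f)).IsQuasicoherent := SubExt.isQuasicoherent_kernel _
  have hK : Subsingleton (Coh.HH X (kernel (unitMap f)) (1 + 1)) :=
    HH_subsingleton_of_dim_le_one k X hdim _ 0
  have hC : Subsingleton (Coh.HH X (cokernel (unitMap f)) 1) :=
    CurveVan.HH_subsingleton_of_stalks _ (U : Set X)ᶜ
      (fun x hx => subsingleton_stalk_cokernel_of_surjective (unitMap f) U
        (fun V hV hVa => unitMap_surjective f U hV hVa) (not_not.mp hx))
      (isClosed_of_subset_compl_dense hdim U hU) 0
  have e := Groth.Agent.PushEdgeNat.pushEdgeEquiv f hf (OO X') 1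
  have hs : Function.Surjective (Canon.HHlin k (unitMap f) 1) :=
    CurveAmple.hmap_surjective_of_kernel_cokernel (unitMap f) 1 hK hC
  have h1 := LinearMap.finrank_le_finrank_of_surjective hs
  unfold Curv2.genus
  rw [← e.finrank_eq]
  exact h1

end Main

end BirCurve
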