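import Mathlib
import Groth.Prelude
import Groth.Agent.Lib.H0Kappa_helper2
import Groth.Agent.Lib.H0Const_helper4

/-!
# Fibres with reduced connected geometric fibres have only constant functions (helper2)

APPEND-ONLY once landed.
-/

set_option autoImplicit false
set_option backward.isDefEq.respectTransparency false
set_option backward.isDefEq.respectTransparency.types false
set_option linter.style.haveILetI false
set_option linter.unusedSectionVars false
universe u

open CategoryTheory CategoryTheory.Limits AlgebraicGeometry TopologicalSpace Opposite

namespace Groth.Agent.Lib.CBCH2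

open Groth.Agent.Lib.AntiAffine

set_option maxHeartbeats 1600000 in
/-- if all geometric fibres over algebraically closed fields are reduced and connected, the
functions on the scheme-theoretic fibres are the constants -/
theorem isIso_appTop_fibre_of_geometric {X S : Scheme.{u}} (f : X ⟶ S) [IsProper f]
    (h : ∀ (K : Type u) [Field K] [IsAlgClosed K] (g : Spec (CommRingCat.of K) ⟶ S),
      IsReduced (pullback f g) ∧ ConnectedSpace ↥(pullback f g)) (s : S) :
    IsIso (f.fiberToSpecResidueField s).appTop := by
  obtain ⟨f', hf'⟩ : ∃ f' : f.fiber s ⟶ Spec (CommRingCat.of (S.residueField s)),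
      f' = f.fiberToSpecResidueField s := ⟨_, rfl⟩
  haveI : IsProper f' := by
    rw [hf']
    show IsProper (pullback.snd f (S.fromSpecResidueField s))
    infer_instance
  haveI : IsProper (Over.mk f').hom := by show IsProper f'; infer_instance
  haveI : LocallyOfFiniteType (Over.mk f').hom := inferInstance
  haveI : QuasiCompact (Over.mk f').hom := inferInstance
  have key : IsIso (Over.mk f').hom.appTop := by
    rw [Groth.Agent.Lib.AAKunneth.aa_bc_iff (AlgebraicClosure (S.residueField s)) (Over.mk f')]
    obtain ⟨y, hy⟩ : ∃ y : Spec (CommRingCat.of (AlgebraicClosure (S.residueField s))) ⟶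
        Spec (CommRingCat.of (S.residueField s)),
        y = Spec.map (CommRingCat.ofHom (algebraMap (S.residueField s)
          (AlgebraicClosure (S.residueField s)))) := ⟨_, rfl⟩
    rw [← hy]
    obtain ⟨hred, hconn⟩ := h (AlgebraicClosure (S.residueField s))
      (y ≫ S.fromSpecResidueField s)
    let e : pullback (pullback.snd f (S.fromSpecResidueField s)) y ≅
        pullback f (y ≫ S.fromSpecResidueField s) :=
      pullbackLeftPullbackSndIso f (S.fromSpecResidueField s) y
    haveI := hred
    haveI := hconn
    haveI hR : IsReduced (pullback (pullback.snd f (S.fromSpecResidueField s)) y) :=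
      isReduced_of_isOpenImmersion e.hom
    haveI hC : ConnectedSpace ↥(pullback (pullback.snd f (S.fromSpecResidueField s)) y) := by
      have hsurj : Function.Surjective e.inv := fun z => ⟨e.hom z, by
        rw [← Scheme.Hom.comp_apply, e.hom_inv_id]
        rfl⟩
      exact hsurj.connectedSpace e.inv.continuous
    have hf'' : (Over.mk f').hom = pullback.snd f (S.fromSpecResidueField s) := hf'
    haveI : IsProper (Over.mk (pullback.snd (Over.mk f').hom y)).hom := by
      show IsProper (pullback.snd (Over.mk f').hom y); infer_instance
    haveI : IsReduced (Over.mk (pullback.snd (Over.mk f').hom y)).left := by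
      show IsReduced (pullback (Over.mk f').hom y)
      rw [hf'']
      exact hR
    haveI : ConnectedSpace (Over.mk (pullback.snd (Over.mk f').hom y)).left := by
      show ConnectedSpace ↥(pullback (Over.mk f').hom y)
      rw [hf'']
      exact hC
    have hAA : AA (Over.mk (pullback.snd (Over.mk f').hom y)) :=
      Groth.Agent.Lib.AbVarFibreH4.aa_of_proper_connected_reduced _
    exact hAA
  rw [← hf']
  exact key

end Groth.Agent.Lib.CBCH2
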