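import Mathlib
import Groth.Agent.Lib.ShColim_helper5
import Groth.Agent.Lib.ModSite1_helper8
import Groth.Agent.Lib.ShForget1_helper8

set_option autoImplicit false
universe u

open CategoryTheory CategoryTheory.Limits Opposite AlgebraicGeometry TopologicalSpace

/-! Sections of a directed colimit of sheaves of modules over quasi-compact opens. -/

namespace ModColimH8

variable (X : Scheme.{u})

/-- The underlying sheaf of sets of a sheaf of modules. -/
noncomputable def toSetSheaf : X.Modules ⥤ Sheaf (Opens.grothendieckTopology X) (Type u) :=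
  SheafOfModules.toSheaf X.ringCatSheaf ⋙
    sheafCompose (Opens.grothendieckTopology X) (forget Ab.{u})

variable {X}

theorem isColimit_mapCocone {K : Type u} [SmallCategory K] [IsFiltered K] (D : K ⥤ X.Modules)
    (c : Cocone D) (hc : IsColimit c) : Nonempty (IsColimit ((toSetSheaf X).mapCocone c)) := by
  have h0 := Groth.Agent.Lib.ModSiteH8.toSheaf_preservesColimitsOfSize X.ringCatSheaf
  have h1 : PreservesColimitsOfShape K (SheafOfModules.toSheaf X.ringCatSheaf) :=
    h0.preservesColimitsOfShape
  have h2 : PreservesColimit D (SheafOfModules.toSheaf X.ringCatSheaf) := h1.preservesColimit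
  have h3 := ShForgetH8.preservesColimit_sheafCompose_forget (Opens.grothendieckTopology X)
    (D ⋙ SheafOfModules.toSheaf X.ringCatSheaf)
  have h4 : PreservesColimit D (toSetSheaf X) := by
    unfold toSetSheaf
    infer_instance
  exact ⟨isColimitOfPreserves (toSetSheaf X) hc⟩

variable {J : Type u} [Preorder J] [Nonempty J] [IsDirected J (· ≤ ·)]
  (D : J ⥤ X.Modules) (c : Cocone D) (hc : IsColimit c)

include hc

/-- Over a quasi-compact open, a section killed in the colimit is killed at a finite stage. -/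
theorem eq_zero_of_compact (i : J) (V : X.Opens) (hV : IsCompact (V : Set X))
    (s : (D.obj i).presheaf.obj (op V)) (h : (c.ι.app i).app V s = 0) :
    ∃ (j : J) (hij : i ≤ j), (D.map (homOfLE hij)).app V s = 0 := by
  obtain ⟨hc'⟩ := isColimit_mapCocone D c hc
  obtain ⟨j, hij, hj⟩ := Groth.Agent.ShColim5.eq_of_compact (D ⋙ toSetSheaf X)
    ((toSetSheaf X).mapCocone c) hc' i V hV s (0 : (D.obj i).presheaf.obj (op V))
      (h.trans (map_zero ((c.ι.app i).app V).hom).symm)
  exact ⟨j, hij, hj.trans (map_zero ((D.map (homOfLE hij)).app V).hom)⟩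

/-- Over an open all of whose open subsets are quasi-compact, every section of the colimit comes
from a finite stage. -/
theorem exists_rep (V : X.Opens) (hV : ∀ W : X.Opens, W ≤ V → IsCompact (W : Set X))
    (t : c.pt.presheaf.obj (op V)) :
    ∃ (i : J) (s : (D.obj i).presheaf.obj (op V)), (c.ι.app i).app V s = t := by
  classical
  obtain ⟨hc'⟩ := isColimit_mapCocone D c hc
  choose W hW i s hxW hs using fun (x : V) =>
    Groth.Agent.ShColim5.locally_surj (D ⋙ toSetSheaf X) ((toSetSheaf X).mapCocone c) hc' V t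
      x.1 x.2
  obtain ⟨T, hT⟩ := (hV V le_rfl).elim_finite_subcover (fun x : V => (W x : Set X))
    (fun x => (W x).isOpen) (fun y hy => Set.mem_iUnion.mpr ⟨⟨y, hy⟩, hxW ⟨y, hy⟩⟩)
  have hcov : V ≤ ⨆ j : T, W j.1 := by
    intro y hy
    obtain ⟨x, hxT, hyx⟩ := Set.mem_iUnion₂.mp (hT hy)
    exact Opens.mem_iSup.mpr ⟨⟨x, hxT⟩, hyx⟩
  obtain ⟨K, s', hs'⟩ := Groth.Agent.ShColim5.glue_fin (F := D ⋙ toSetSheaf X)
    (c := (toSetSheaf X).mapCocone c) hc' (ι := T) V t (fun j => W j.1) (fun j => hW j.1) hcov
    (fun j => i j.1) (fun j => s j.1) (fun j => hs j.1)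
    (fun j l k a b hab => Groth.Agent.ShColim5.eq_of_compact (D ⋙ toSetSheaf X)
      ((toSetSheaf X).mapCocone c) hc' k _ (hV _ (inf_le_left.trans (hW j.1))) a b hab)
  exact ⟨K, s', hs'⟩

end ModColimH8
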