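import Mathlib
import Groth.Prelude
import Groth.Agent.Lib.SheafOfModulesGrothendieck_helper2

set_option autoImplicit false
universe u

open CategoryTheory CategoryTheory.Limits AlgebraicGeometry TopologicalSpace Opposite

/-! The Z-closure of a module: formal properties. -/

namespace ZClosH8

variable {X : Scheme.{u}}

instance isGrothendieckAbelian_modules : IsGrothendieckAbelian.{u} X.Modules :=
  Groth.Agent.Lib.FunctorialInjective.isGrothendieckAbelian_sheafOfModules _ X.ringCatSheaf

variable (Z : Set X) (F : X.Modules)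

/-- The units, as a natural transformation from the constant diagram. -/
noncomputable def unitTrans : (Functor.const (ZClos.Cl Z)).obj F ⟶ (ZClos.diagram Z).obj F where
  app T := ZClos.toDiagram Z F T
  naturality {T T'} f := by
    exact (Category.id_comp _).trans (ZClos.toDiagram_map Z F f).symm

theorem unitTrans_app (T : ZClos.Cl Z) : (unitTrans Z F).app T = ZClos.toDiagram Z F T := rfl

theorem isZPure_iff : ZClos.IsZPure Z F ↔ ∀ T : ZClos.Cl Z, Mono (ZClos.toDiagram Z F T) := by
  constructor
  · intro h T
    haveI : Mono (ZClos.toDiagram Z F T ≫ colimit.ι ((ZClos.diagram Z).obj F) T) := by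
      rw [← ZClos.rhoApp_eq]
      exact h
    exact mono_of_mono _ (colimit.ι ((ZClos.diagram Z).obj F) T)
  · intro h
    haveI : ∀ T, Mono ((unitTrans Z F).app T) := h
    haveI := NatTrans.mono_of_mono_app (unitTrans Z F)
    exact colim.map_mono' (unitTrans Z F) (isColimitConstCocone (ZClos.Cl Z) F)
      (colimit.isColimit _) (ZClos.rhoApp Z F) (fun T => by
        exact (Category.id_comp _).trans (ZClos.rhoApp_eq Z F T))

section Adj

variable {Z F}
variable (U : X.Opens)

/-- Morphisms into a direct image from an open are determined by their restrictions. -/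
theorem hom_ext_of_restrict {G : X.Modules} {H : (U : Scheme.{u}).Modules}
    (a b : G ⟶ (Scheme.Modules.pushforward U.ι).obj H)
    (h : (Scheme.Modules.restrictFunctor U.ι).map a = (Scheme.Modules.restrictFunctor U.ι).map b) :
    a = b := by
  apply ((Scheme.Modules.restrictAdjunction U.ι).homEquiv G H).symm.injective
  rw [Adjunction.homEquiv_counit, Adjunction.homEquiv_counit, h]

/-- The restriction of the unit is an isomorphism. -/
instance isIso_restrict_unit (G : X.Modules) :
    IsIso ((Scheme.Modules.restrictFunctor U.ι).map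
      ((Scheme.Modules.restrictAdjunction U.ι).unit.app G)) := by
  have h := (Scheme.Modules.restrictAdjunction U.ι).left_triangle_components G
  haveI : IsIso ((Scheme.Modules.restrictAdjunction U.ι).counit.app
      ((Scheme.Modules.restrictFunctor U.ι).obj G)) := inferInstance
  haveI : IsIso ((Scheme.Modules.restrictFunctor U.ι).map
      ((Scheme.Modules.restrictAdjunction U.ι).unit.app G) ≫
      (Scheme.Modules.restrictAdjunction U.ι).counit.app
        ((Scheme.Modules.restrictFunctor U.ι).obj G)) := by
    rw [h]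
    infer_instance
  exact IsIso.of_isIso_comp_right _
    ((Scheme.Modules.restrictAdjunction U.ι).counit.app
      ((Scheme.Modules.restrictFunctor U.ι).obj G))

/-- A retraction of the unit is an inverse. -/
theorem isIso_unit_of_retraction (G : X.Modules)
    (r : (ZClos.resPush U).obj G ⟶ G)
    (hr : (ZClos.resPushUnit U).app G ≫ r = 𝟙 G) : IsIso ((ZClos.resPushUnit U).app G) := by
  refine ⟨r, hr, ?_⟩
  apply hom_ext_of_restrict U
  have h1 : (Scheme.Modules.restrictFunctor U.ι).map ((ZClos.resPushUnit U).app G) ≫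
      (Scheme.Modules.restrictFunctor U.ι).map r = 𝟙 _ := by
    rw [← CategoryTheory.Functor.map_comp, hr]
    exact CategoryTheory.Functor.map_id _ _
  rw [CategoryTheory.Functor.map_comp]
  refine Eq.trans ?_ (CategoryTheory.Functor.map_id _ _).symm
  have h2 : (Scheme.Modules.restrictFunctor U.ι).map r =
      inv ((Scheme.Modules.restrictFunctor U.ι).map ((ZClos.resPushUnit U).app G)) :=
    (IsIso.eq_inv_of_hom_inv_id h1)
  rw [h2, IsIso.inv_hom_id]

/-- Morphisms from `j_*j^*G` to a module for which the unit is an isomorphism are determined by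
their composites with the unit. -/
theorem hom_ext_of_unit {G G' : X.Modules} [IsIso ((ZClos.resPushUnit U).app G')]
    (a b : (ZClos.resPush U).obj G ⟶ G')
    (h : (ZClos.resPushUnit U).app G ≫ a = (ZClos.resPushUnit U).app G ≫ b) : a = b := by
  rw [← cancel_mono ((ZClos.resPushUnit U).app G')]
  apply hom_ext_of_restrict U
  rw [← cancel_epi ((Scheme.Modules.restrictFunctor U.ι).map ((ZClos.resPushUnit U).app G))]
  rw [← CategoryTheory.Functor.map_comp, ← CategoryTheory.Functor.map_comp, ← Category.assoc,
    ← Category.assoc, h]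

end Adj

theorem isZClosed_iff : ZClos.IsZClosed Z F ↔ ∀ T : ZClos.Cl Z, IsIso (ZClos.toDiagram Z F T) := by
  constructor
  · intro h T
    haveI : IsIso (ZClos.rhoApp Z F) := h
    let ιT : (ZClos.resPush T.U).obj F ⟶ (ZClos.H0 Z).obj F :=
      colimit.ι ((ZClos.diagram Z).obj F) T
    have e : ZClos.rhoApp Z F = (ZClos.resPushUnit T.U).app F ≫ ιT := ZClos.rhoApp_eq Z F T
    apply isIso_unit_of_retraction T.U F (ιT ≫ inv (ZClos.rhoApp Z F))
    rw [← Category.assoc, ← e, IsIso.hom_inv_id]
    rfl
  · intro h
    haveI : ∀ T, IsIso ((unitTrans Z F).app T) := h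
    haveI : Mono (ZClos.rhoApp Z F) := (isZPure_iff Z F).mpr (fun T => inferInstance)
    haveI : Epi (ZClos.rhoApp Z F) :=
      colim.map_epi' (unitTrans Z F) (constCocone (ZClos.Cl Z) F)
        (colimit.isColimit _) (ZClos.rhoApp Z F) (fun T =>
          (Category.id_comp _).trans (ZClos.rhoApp_eq Z F T))
    exact isIso_of_mono_of_epi _

/-- Monotonicity in the subset. -/
theorem isZPure_mono {Z Z' : Set X} (h : Z' ⊆ Z) (F : X.Modules) (hF : ZClos.IsZPure Z F) :
    ZClos.IsZPure Z' F := by
  rw [isZPure_iff] at hF ⊢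
  intro T'
  exact hF ⟨T'.1, T'.2.trans h⟩

theorem isZClosed_mono {Z Z' : Set X} (h : Z' ⊆ Z) (F : X.Modules) (hF : ZClos.IsZClosed Z F) :
    ZClos.IsZClosed Z' F := by
  rw [isZClosed_iff] at hF ⊢
  intro T'
  exact hF ⟨T'.1, T'.2.trans h⟩

/-- The universal property of the Z-closure. -/
theorem existsUnique_fac {F F' : X.Modules} (hF' : ZClos.IsZClosed Z F') (u : F ⟶ F') :
    ∃! v : (ZClos.H0 Z).obj F ⟶ F', ZClos.rhoApp Z F ≫ v = u := by
  haveI : IsIso (ZClos.rhoApp Z F') := hF'
  have hT : ∀ T : ZClos.Cl Z, IsIso ((ZClos.resPushUnit T.U).app F') :=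
    (isZClosed_iff Z F').mp hF'
  refine ⟨(ZClos.H0 Z).map u ≫ inv (ZClos.rhoApp Z F'), ?_, ?_⟩
  · show ZClos.rhoApp Z F ≫ (ZClos.H0 Z).map u ≫ inv (ZClos.rhoApp Z F') = u
    rw [← Category.assoc]
    have := (ZClos.rho Z).naturality u
    rw [Functor.id_map] at this
    rw [← this, Category.assoc, IsIso.hom_inv_id, Category.comp_id]
  · intro v hv
    have key : ∀ (w w' : (ZClos.H0 Z).obj F ⟶ F'),
        ZClos.rhoApp Z F ≫ w = ZClos.rhoApp Z F ≫ w' → w = w' := by
      intro w w' hww
      apply colimit.hom_ext
      intro T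
      haveI := hT T
      let ιT : (ZClos.resPush T.U).obj F ⟶ (ZClos.H0 Z).obj F :=
        colimit.ι ((ZClos.diagram Z).obj F) T
      have e : ZClos.rhoApp Z F = (ZClos.resPushUnit T.U).app F ≫ ιT := ZClos.rhoApp_eq Z F T
      show ιT ≫ w = ιT ≫ w'
      apply hom_ext_of_unit T.U
      rw [← Category.assoc, ← Category.assoc, ← e]
      exact hww
    apply key
    rw [hv]
    show u = ZClos.rhoApp Z F ≫ (ZClos.H0 Z).map u ≫ inv (ZClos.rhoApp Z F')
    rw [← Category.assoc]
    have := (ZClos.rho Z).naturality u
    rw [Functor.id_map] at this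
    rw [← this, Category.assoc, IsIso.hom_inv_id, Category.comp_id]

end ZClosH8
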