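import Mathlib
import Groth.Prelude
import Groth.Agent.Lib.ZClos1_helper8
import Groth.Agent.Lib.ModColim1_helper8

set_option autoImplicit false
universe u

open CategoryTheory CategoryTheory.Limits AlgebraicGeometry TopologicalSpace Opposite

/-! The Z-closure of a module on a locally Noetherian scheme: sections over quasi-compact opens. -/

namespace ZClosH8

variable {X : Scheme.{u}}

section Topology

/-- A quasi-compact open of a locally Noetherian scheme is a Noetherian space. -/
theorem noetherianSpace_of_isCompact [IsLocallyNoetherian X] (V : X.Opens)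
    (hV : IsCompact (V : Set X)) : NoetherianSpace (V : Set X) := by
  haveI : CompactSpace V := isCompact_iff_compactSpace.mp hV
  haveI : CompactSpace (V : Scheme.{u}) := ‹CompactSpace V›
  haveI : IsNoetherian (V : Scheme.{u}) := {}
  exact (inferInstance : NoetherianSpace (V : Scheme.{u}))

theorem isCompact_of_le [IsLocallyNoetherian X] {V W : X.Opens} (hV : IsCompact (V : Set X))
    (hW : W ≤ V) : IsCompact (W : Set X) := by
  haveI := noetherianSpace_of_isCompact V hV
  exact (noetherianSpace_set_iff (V : Set X)).mp ‹_› W hW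

/-- The key topological fact: in a locally Noetherian scheme, if `Z` is stable under
specialization, `W` is a quasi-compact open and `A` is an open containing all points of `W`
outside `Z`, then there is a closed subset `T ⊆ Z` with `W ∖ T ⊆ A`. -/
theorem exists_Cl_le [IsLocallyNoetherian X] {Z : Set X} (hZ : StableUnderSpecialization Z)
    (W : X.Opens) (hW : IsCompact (W : Set X)) (A : X.Opens)
    (hA : ∀ y ∈ W, y ∉ Z → y ∈ A) : ∃ T : ZClos.Cl Z, T.U ⊓ W ≤ A := by
  classical
  haveI := noetherianSpace_of_isCompact W hW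
  let C : Closeds (W : Set X) := ⟨{w | (w : X) ∉ A}, by
    have : IsOpen {w : (W : Set X) | (w : X) ∈ A} := A.isOpen.preimage continuous_subtype_val
    exact this.isClosed_compl⟩
  obtain ⟨S, hS, hCS⟩ := NoetherianSpace.exists_finset_irreducible C
  have hmemC : ∀ w : (W : Set X), w ∈ (C : Set (W : Set X)) ↔ ∃ k ∈ S, w ∈ (k : Set (W : Set X)) := by
    intro w
    rw [hCS, Closeds.coe_finset_sup, Finset.sup_set_eq_biUnion]
    simp only [Function.comp_apply, id_eq, Set.mem_iUnion, exists_prop]
  -- each irreducible piece has closure in `X` inside `Z`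
  have key : ∀ k ∈ S, closure (Subtype.val '' (k : Set (W : Set X))) ⊆ Z := by
    intro k hk
    have hkC : (k : Set (W : Set X)) ⊆ C := fun w hw => (hmemC w).mpr ⟨k, hk, hw⟩
    have hirr : IsIrreducible (Subtype.val '' (k : Set (W : Set X)) : Set X) :=
      (hS ⟨k, hk⟩).image _ continuous_subtype_val.continuousOn
    have hgen := hirr.isGenericPoint_genericPoint_closure
    set g := hirr.genericPoint with hg
    -- `g ∈ W`
    have hgW : g ∈ (W : Set X) := by
      rw [hgen.mem_open_set_iff W.isOpen]
      obtain ⟨w, hw⟩ := hirr.nonempty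
      refine ⟨w, subset_closure hw, ?_⟩
      obtain ⟨w', -, rfl⟩ := hw
      exact w'.2
    -- `g ∈ k`
    have hgk : (⟨g, hgW⟩ : (W : Set X)) ∈ (k : Set (W : Set X)) := by
      have hcl : IsClosed (k : Set (W : Set X)) := k.isClosed
      have h1 : (⟨g, hgW⟩ : (W : Set X)) ∈ closure (k : Set (W : Set X)) :=
        closure_subtype.mpr hgen.mem
      rwa [hcl.closure_eq] at h1
    have hgZ : g ∈ Z := by
      by_contra hgZ
      exact hkC hgk (hA g hgW hgZ)
    intro p hp
    have : g ⤳ p := by
      rw [specializes_iff_mem_closure, hgen.def]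
      exact hp
    exact hZ this hgZ
  let T : Closeds X := ⟨⋃ k ∈ S, closure (Subtype.val '' (k : Set (W : Set X))),
    S.finite_toSet.isClosed_biUnion fun k _ => isClosed_closure⟩
  refine ⟨⟨T, ?_⟩, ?_⟩
  · intro p hp
    obtain ⟨k, hk, hpk⟩ := Set.mem_iUnion₂.mp hp
    exact key k hk hpk
  · intro y hy
    by_contra hyA
    have hyW : y ∈ (W : Set X) := hy.2
    have hyC : (⟨y, hyW⟩ : (W : Set X)) ∈ (C : Set (W : Set X)) := hyA
    obtain ⟨k, hk, hyk⟩ := (hmemC _).mp hyC
    apply hy.1
    exact Set.mem_iUnion₂.mpr ⟨k, hk, subset_closure ⟨⟨y, hyW⟩, hyk, rfl⟩⟩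

end Topology

section Sections

variable (G : X.Modules)

/-- Restriction of sections. -/
noncomputable abbrev res {O O' : X.Opens} (h : O' ≤ O) :
    G.presheaf.obj (op O) ⟶ G.presheaf.obj (op O') := G.presheaf.map (homOfLE h).op

theorem res_res {O O' O'' : X.Opens} (h : O' ≤ O) (h' : O'' ≤ O') (s : G.presheaf.obj (op O)) :
    res G h' (res G h s) = res G (h'.trans h) s := by
  have : G.presheaf.map (homOfLE h).op ≫ G.presheaf.map (homOfLE h').op =
      G.presheaf.map (homOfLE (h'.trans h)).op := by
    rw [← G.presheaf.map_comp]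
    rfl
  exact (ConcreteCategory.comp_apply _ _ s).symm.trans (congrArg (fun f => f s) this)

theorem res_self {O : X.Opens} (h : O ≤ O) (s : G.presheaf.obj (op O)) : res G h s = s := by
  have : G.presheaf.map (homOfLE h).op = 𝟙 _ := by
    rw [show homOfLE h = 𝟙 O from Subsingleton.elim _ _, op_id]
    exact G.presheaf.map_id _
  exact (congrArg (fun f => f s) this)

theorem map_eq_res {O O' : X.Opens} (f : O' ⟶ O) (s : G.presheaf.obj (op O)) :
    G.presheaf.map f.op s = res G (leOfHom f) s := by
  rw [show f = homOfLE (leOfHom f) from Subsingleton.elim _ _]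

theorem res_congr {O A B : X.Opens} (e : A = B) (hA : A ≤ O) (hB : B ≤ O)
    (s : G.presheaf.obj (op O)) (h : res G hA s = 0) : res G hB s = 0 := by
  subst e
  exact h

/-- A section which vanishes locally vanishes. -/
theorem eq_zero_of_locally (O : X.Opens) (s : G.presheaf.obj (op O))
    (h : ∀ y ∈ O, ∃ (O' : X.Opens) (hO' : O' ≤ O), y ∈ O' ∧ res G hO' s = 0) : s = 0 := by
  choose W hW hxW hz using h
  refine TopCat.Sheaf.eq_of_locally_eq' ⟨G.presheaf, G.isSheaf⟩ (fun x : O => W x.1 x.2) O
    (fun x => homOfLE (hW x.1 x.2)) ?_ _ _ ?_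
  · intro x hx
    exact Opens.mem_iSup.mpr ⟨⟨x, hx⟩, hxW x hx⟩
  · intro x
    change res G (hW x.1 x.2) s = res G (hW x.1 x.2) 0
    rw [map_zero]
    exact hz x.1 x.2

/-- The key lemma on sections: a section over a quasi-compact open whose germs vanish outside
`Z` is killed by restriction to the complement of a closed subset of `Z`. -/
theorem exists_Cl_res_eq_zero [IsLocallyNoetherian X] {Z : Set X}
    (hZ : StableUnderSpecialization Z) (W : X.Opens) (hW : IsCompact (W : Set X))
    (s : G.presheaf.obj (op W))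
    (hs : ∀ (y : X) (hy : y ∈ W), y ∉ Z → G.presheaf.germ W y hy s = 0) :
    ∃ T : ZClos.Cl Z, ∀ (O : X.Opens) (hO : O ≤ W), O ≤ T.U → res G hO s = 0 := by
  let A : X.Opens := ⨆ O : {O : X.Opens // ∃ hO : O ≤ W, res G hO s = 0}, O.1
  have hA : ∀ y ∈ W, y ∉ Z → y ∈ A := by
    intro y hy hyZ
    have h0 : G.presheaf.germ W y hy s = G.presheaf.germ W y hy 0 := by
      rw [map_zero]
      exact hs y hy hyZ
    obtain ⟨O, hyO, i1, i2, hO⟩ := TopCat.Presheaf.germ_eq G.presheaf y hy hy s 0 h0
    refine Opens.mem_iSup.mpr ⟨⟨O, leOfHom i1, ?_⟩, hyO⟩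
    rw [map_zero] at hO
    rw [← map_eq_res G i1 s]
    exact hO
  obtain ⟨T, hT⟩ := exists_Cl_le hZ W hW A hA
  refine ⟨T, fun O hO hOT => ?_⟩
  refine eq_zero_of_locally G O _ (fun y hy => ?_)
  have hyA : y ∈ A := hT ⟨hOT hy, hO hy⟩
  obtain ⟨⟨O', hO'W, hO'⟩, hyO'⟩ := Opens.mem_iSup.mp hyA
  refine ⟨O ⊓ O', inf_le_left, ⟨hy, hyO'⟩, ?_⟩
  rw [res_res]
  have : res G (inf_le_right : O ⊓ O' ≤ O') (res G hO'W s) = 0 := by
    rw [hO', map_zero]
  rw [res_res] at this
  exact this

end Sections

section Basis

variable {M N : X.Modules} (φ : M ⟶ N)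

theorem app_res {O O' : X.Opens} (h : O' ≤ O) (s : M.presheaf.obj (op O)) :
    φ.app O' (res M h s) = res N h (φ.app O s) :=
  ConcreteCategory.congr_hom (φ.mapPresheaf.naturality (homOfLE h).op) s

theorem app_injective_of_mono [Mono φ] (V : X.Opens) : Function.Injective (φ.app V) := by
  haveI : Mono ((Scheme.Modules.toPresheaf X).map φ) := inferInstance
  haveI : Mono (((Scheme.Modules.toPresheaf X).map φ).app (op V)) :=
    (NatTrans.mono_iff_mono_app ((Scheme.Modules.toPresheaf X).map φ)).mp inferInstance (op V)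
  exact (AddCommGrpCat.mono_iff_injective (((Scheme.Modules.toPresheaf X).map φ).app (op V))).mp
    inferInstance

theorem app_bijective_of_isIso [IsIso φ] (V : X.Opens) : Function.Bijective (φ.app V) := by
  haveI : IsIso (φ.app V) := (Scheme.Modules.Hom.isIso_iff_isIso_app.mp inferInstance) V
  exact ConcreteCategory.bijective_of_isIso (φ.app V)

/-- Injectivity on quasi-compact opens implies injectivity on all opens. -/
theorem app_injective_of_compact
    (h : ∀ V : X.Opens, IsCompact (V : Set X) → Function.Injective (φ.app V)) (V : X.Opens) :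
    Function.Injective (φ.app V) := by
  refine (injective_iff_map_eq_zero (φ.app V).hom).mpr ?_
  intro s hs
  refine eq_zero_of_locally M V s (fun y hy => ?_)
  obtain ⟨_, ⟨O, hO, rfl⟩, hyO, hOV⟩ :=
    X.isBasis_affineOpens.exists_subset_of_mem_open hy V.2
  refine ⟨O, hOV, hyO, ?_⟩
  apply h O (IsAffineOpen.isCompact hO)
  rw [app_res, map_zero]
  have : φ.app V s = 0 := hs
  rw [this, map_zero]

theorem mono_of_injective
    (h : ∀ V : X.Opens, IsCompact (V : Set X) → Function.Injective (φ.app V)) : Mono φ := by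
  haveI : Mono ((Scheme.Modules.toPresheaf X).map φ) := by
    haveI : ∀ W, Mono (((Scheme.Modules.toPresheaf X).map φ).app W) := fun W =>
      (AddCommGrpCat.mono_iff_injective _).2 (app_injective_of_compact φ h W.unop)
    exact NatTrans.mono_of_mono_app _
  exact (Scheme.Modules.toPresheaf X).mono_of_mono_map this

theorem isIso_of_bijective
    (h : ∀ V : X.Opens, IsCompact (V : Set X) → Function.Bijective (φ.app V)) : IsIso φ := by
  let ψ := (SheafOfModules.toSheaf X.ringCatSheaf).map φ
  have hB : Opens.IsBasis (Set.range (fun V : X.affineOpens => (V : X.Opens))) := by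
    rw [Subtype.range_coe]
    exact X.isBasis_affineOpens
  haveI : IsIso ψ := by
    refine TopCat.Sheaf.isIso_iff_isIso_basis (B := fun V : X.affineOpens => (V : X.Opens)) hB
      (fun V => ?_)
    have : Function.Bijective (φ.app V.1) := h V.1 (IsAffineOpen.isCompact V.2)
    exact (ConcreteCategory.isIso_iff_bijective (φ.app V.1)).mpr this
  haveI : IsIso ((Scheme.Modules.toPresheaf X).map φ) :=
    inferInstanceAs (IsIso ((sheafToPresheaf _ _).map ψ))
  exact isIso_of_reflects_iso φ (Scheme.Modules.toPresheaf X)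

end Basis

section Criteria

variable (Z : Set X) (F : X.Modules)

theorem res_injective_congr {O A B : X.Opens} (e : A = B) (hA : A ≤ O) (hB : B ≤ O) :
    Function.Injective (res F hA) ↔ Function.Injective (res F hB) := by
  subst e
  rfl

theorem res_bijective_congr {O A B : X.Opens} (e : A = B) (hA : A ≤ O) (hB : B ≤ O) :
    Function.Bijective (res F hA) ↔ Function.Bijective (res F hB) := by
  subst e
  rfl

theorem image_preimage_eq (U V : X.Opens) : U.ι ''ᵁ U.ι ⁻¹ᵁ V = V ⊓ U := by
  rw [ZClos.ι_image_preimage, inf_comm]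

theorem toDiagram_app (T : ZClos.Cl Z) (V : X.Opens) :
    (ZClos.toDiagram Z F T).app V = res F (T.U.ι.image_preimage_le V) := rfl

/-- Z-purity tested on quasi-compact opens. -/
theorem isZPure_iff_compact :
    ZClos.IsZPure Z F ↔ ∀ (T : ZClos.Cl Z) (V : X.Opens), IsCompact (V : Set X) →
      Function.Injective (F.presheaf.map (homOfLE (inf_le_left : V ⊓ T.U ≤ V)).op) := by
  rw [isZPure_iff]
  constructor
  · intro h T V _
    haveI := h T
    have h1 := app_injective_of_mono (ZClos.toDiagram Z F T) V
    rw [toDiagram_app] at h1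
    exact (res_injective_congr F (image_preimage_eq T.U V) _ _).mp h1
  · intro h T
    apply mono_of_injective
    intro V hV
    rw [toDiagram_app]
    exact (res_injective_congr F (image_preimage_eq T.U V) _ _).mpr (h T V hV)

/-- Z-closedness tested on quasi-compact opens. -/
theorem isZClosed_iff_compact :
    ZClos.IsZClosed Z F ↔ ∀ (T : ZClos.Cl Z) (V : X.Opens), IsCompact (V : Set X) →
      Function.Bijective (F.presheaf.map (homOfLE (inf_le_left : V ⊓ T.U ≤ V)).op) := by
  rw [isZClosed_iff]
  constructor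
  · intro h T V _
    haveI := h T
    have h1 := app_bijective_of_isIso (ZClos.toDiagram Z F T) V
    rw [toDiagram_app] at h1
    exact (res_bijective_congr F (image_preimage_eq T.U V) _ _).mp h1
  · intro h T
    apply isIso_of_bijective
    intro V hV
    rw [toDiagram_app]
    exact (res_bijective_congr F (image_preimage_eq T.U V) _ _).mpr (h T V hV)

end Criteria

end ZClosH8
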