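import Mathlib
import Groth.Prelude
import Groth.Agent.Lib.H0Kappa_helper2
import Groth.Agent.Lib.H0Kappa2_helper2
import Groth.Agent.Lib.BCFun3_helper2
import Groth.Agent.Lib.BirCurve4_helper9
import Groth.Agent.Lib.ZClos3_helper8
import Groth.Agent.S16102

/-!
# Families of curves with `h^0(O) = 1` on the fibres (helper2)

APPEND-ONLY once landed.
-/

set_option autoImplicit false
set_option backward.isDefEq.respectTransparency false
set_option backward.isDefEq.respectTransparency.types false
set_option linter.style.haveILetI false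
set_option linter.unusedSectionVars false
universe u

open CategoryTheory CategoryTheory.Limits AlgebraicGeometry TopologicalSpace Opposite

namespace Groth.Agent.Lib.CBCH2

section HRank

/-- `h^0(O) = 1` means that the constants are all the functions -/
theorem isIso_appTop_of_hRank (k : Type u) [Field k] (Y : Scheme.{u})
    (g : Y ⟶ Spec (CommRingCat.of k))
    (h : Models.hRank k Y g (Coh.structureModule Y) 0 = 1) : IsIso g.appTop := by
  letI : Y.Over (Spec (CommRingCat.of k)) := ⟨g⟩
  letI : Algebra k Γ(Y, ⊤) := (Coh.toGlobal (Y ↘ Spec (CommRingCat.of k))).toAlgebra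
  have e := (Groth.Agent.Lib.BCMainH2.gsEquiv k (Coh.structureModule Y)).symm.trans
    (Groth.Agent.Lib.BCFunH2.gsUnitEquiv k (X := Y))
  have h1 : Module.finrank k Γ(Y, ⊤) = 1 := by
    rw [← e.finrank_eq]
    exact h
  have hb : Function.Bijective (algebraMap k Γ(Y, ⊤)) :=
    Algebra.finrank_eq_one_iff_bijective_algebraMap.mp h1
  have hb' : Function.Bijective
      (g.appTop.hom.comp (Scheme.ΓSpecIso (CommRingCat.of k)).inv.hom) := hb
  have hiso : IsIso ((Scheme.ΓSpecIso (CommRingCat.of k)).inv ≫ g.appTop) :=
    (ConcreteCategory.isIso_iff_bijective _).mpr hb'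
  exact IsIso.of_isIso_comp_left (Scheme.ΓSpecIso (CommRingCat.of k)).inv g.appTop

end HRank

section BC

theorem isIso_appTop_of_iso_comp {A B C : Scheme.{u}} (e : A ⟶ B) [IsIso e] (q : B ⟶ C)
    (p : A ⟶ C) (h : e ≫ q = p) (hq : IsIso q.appTop) : IsIso p.appTop := by
  subst h
  rw [Scheme.Hom.comp_appTop]
  haveI : IsIso e.appTop := by
    unfold Scheme.Hom.appTop
    infer_instance
  infer_instance

set_option maxHeartbeats 1600000 in
/-- the condition "the functions on the fibres are the constants" is stable under base change -/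
theorem isIso_appTop_fibre_baseChange {X S S' : Scheme.{u}} (f : X ⟶ S) (g : S' ⟶ S)
    [LocallyOfFiniteType f] [QuasiCompact f]
    (h : ∀ s : S, IsIso (f.fiberToSpecResidueField s).appTop) (s' : S') :
    IsIso ((pullback.snd f g).fiberToSpecResidueField s').appTop := by
  letI : Algebra (S.residueField (g s')) (S'.residueField s') :=
    (g.residueFieldMap s').hom.toAlgebra
  obtain ⟨F₀, hF₀⟩ : ∃ F₀ : f.fiber (g s') ⟶ Spec (CommRingCat.of (S.residueField (g s'))),
      F₀ = f.fiberToSpecResidueField (g s') := ⟨_, rfl⟩
  haveI : LocallyOfFiniteType F₀ := by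
    rw [hF₀]
    show LocallyOfFiniteType (pullback.snd f (S.fromSpecResidueField (g s')))
    infer_instance
  haveI : QuasiCompact F₀ := by
    rw [hF₀]
    show QuasiCompact (pullback.snd f (S.fromSpecResidueField (g s')))
    infer_instance
  haveI : LocallyOfFiniteType (Over.mk F₀).hom := by show LocallyOfFiniteType F₀; infer_instance
  haveI : QuasiCompact (Over.mk F₀).hom := by show QuasiCompact F₀; infer_instance
  have hF : IsIso (Over.mk F₀).hom.appTop := by
    show IsIso F₀.appTop
    rw [hF₀]
    exact h (g s')
  have key := (Groth.Agent.Lib.AAKunneth.aa_bc_iff (S'.residueField s') (Over.mk F₀)).mp hF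
  have key' : IsIso (pullback.snd (f.fiberToSpecResidueField (g s'))
      (Spec.map (g.residueFieldMap s'))).appTop := by
    rw [← hF₀]
    exact key
  have hpb := isPullback_fiberToSpecResidueField_of_isPullback (IsPullback.of_hasPullback f g) s'
  exact isIso_appTop_of_iso_comp hpb.isoPullback.hom _ _ hpb.isoPullback_hom_snd key'

end BC

section Unit

/-- `O_Y ⟶ f_* O_X` is an isomorphism as soon as all `f.app V` are -/
theorem isIso_unitToPush_of_app {X Y : Scheme.{u}} (f : X ⟶ Y)
    (h : ∀ V : Y.Opens, IsIso (f.app V)) : IsIso (ClSub.unitToPush f) := by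
  apply ZClosH8.isIso_of_bijective
  intro V _
  haveI := h V
  exact ConcreteCategory.bijective_of_isIso (f.app V)

end Unit

section Main

variable {X S : Scheme.{u}} (f : X ⟶ S)

/-- base change form of `isIso_app_of_fibres` -/
theorem isIso_unitToPush_baseChange [IsProper f] [Flat f] [LocallyOfFinitePresentation f]
    (h : ∀ s : S, IsIso (f.fiberToSpecResidueField s).appTop) {S' : Scheme.{u}} (g : S' ⟶ S) :
    IsIso (ClSub.unitToPush (pullback.snd f g)) := by
  apply isIso_unitToPush_of_app
  intro V
  exact isIso_app_of_fibres (pullback.snd f g)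
    (fun s' => isIso_appTop_fibre_baseChange f g h s') V

set_option maxHeartbeats 1600000 in
/-- `R^1 f_* O_X` is finite locally free for a flat proper family of curves with
`H^0(X_s, O) = κ(s)` -/
theorem isFinLocFree_R1_unit [IsProper f] [Flat f] [LocallyOfFinitePresentation f]
    [HasInjectiveResolutions X.Modules]
    (hdim : ∀ s : S, topologicalKrullDim ↥(f.fiber s) ≤ 1)
    (h : ∀ s : S, IsIso (f.fiberToSpecResidueField s).appTop) :
    FlatMod.IsFinLocFree ((Coh.Rpush f 1).obj (Coh.structureModule X)) := by
  haveI hq : (Coh.structureModule X).IsQuasicoherent := (CohDevH8.isCoh_structureModule X).1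
  haveI : Coh.IsQCoh (Coh.structureModule X) := hq
  have hfp : CohB1.IsFP (Coh.structureModule X) :=
    FLFH8.isFinitePresentation_of_finLocFree _
      (Groth.Agent.Lib.FlatQuotL.isFinLocFree_structureModule X)
  have hfl : FlatMod.IsFlatOver f (Coh.structureModule X) :=
    Groth.Agent.Lib.BCFunH2.isFlatOver_unit f
  refine Groth.Agent.S16102.result f (Coh.structureModule X) hfp hfl (fun y => ?_) (fun y => ?_)
  · letI : (f.fiber y).Over (Spec (CommRingCat.of (S.residueField y))) :=
      ⟨f.fiberToSpecResidueField y⟩
    haveI : IsProper ((f.fiber y) ↘ Spec (CommRingCat.of (S.residueField y))) := by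
      show IsProper (pullback.snd f (S.fromSpecResidueField y))
      infer_instance
    haveI : (CohIII.fiberMod f (Coh.structureModule X) y).IsQuasicoherent := by
      unfold CohIII.fiberMod
      infer_instance
    exact BirCurve.HH_subsingleton_of_dim_le_one (S.residueField y) (f.fiber y) (hdim y) _ 0
  · haveI := h y
    have hs : Function.Surjective ((f.fiberToSpecResidueField y).app ⊤).hom :=
      (ConcreteCategory.bijective_of_isIso (f.fiberToSpecResidueField y).appTop).2
    exact epi_bc0_unit f y hs

end Main

end Groth.Agent.Lib.CBCH2
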