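import Mathlib
import Groth.Prelude
import Groth.Agent.Lib.CurvStH0_helper2
import Groth.Agent.Lib.FLF6_helper8
import Groth.Agent.Lib.ActZeroDim_helper4
import Groth.Agent.Lib.H0Const_helper4

/-!
# The rank of `R^1 f_* F` when `H^2` of the fibres vanishes (helper2)

APPEND-ONLY once landed.
-/

set_option autoImplicit false
set_option backward.isDefEq.respectTransparency false
set_option backward.isDefEq.respectTransparency.types false
set_option linter.style.haveILetI false
set_option linter.unusedSectionVars false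
universe u

open CategoryTheory CategoryTheory.Limits AlgebraicGeometry TopologicalSpace Opposite

namespace Groth.Agent.Lib.PBCH2

section Cx

variable {A : Type u} [CommRing A] (P : ChainComplex (ModuleCat.{u} A) ℤ)
  (hP : ∀ i, Module.Finite A (P.X i) ∧ Module.Free A (P.X i))

include hP in
/-- if the cokernels of `d_{p+1}` and `d_p` are free at every prime, the rank of `H_p(P)` is the
rank function of `P` -/
theorem rankAtStalk_homology_of_freeLocus (p : ℤ)
    (h1 : ∀ y : PrimeSpectrum A, y ∈ Module.freeLocus A (P.opcycles p))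
    (h2 : ∀ y : PrimeSpectrum A, y ∈ Module.freeLocus A (P.opcycles (p - 1)))
    (x : PrimeSpectrum A) : Module.rankAtStalk (P.homology p) x = CohIII.dRank P p x := by
  have hP' := hP_proj P hP
  have hex := exact_of_forall_loc' P hP' p (fun x =>
    ⟨(mono_loc_iff' P hP' p x).mpr (h1 x), (epi_loc_iff' P hP' p x).mpr (h2 x)⟩)
  exact (homology_facts_of_exact' P hP' p hex).2.2 x

end Cx

end Groth.Agent.Lib.PBCH2

namespace Groth.Agent.Lib.CBCH2

section Rank

/-- a finite locally free module all of whose stalks have rank `g` is finite locally free of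
rank `g` -/
theorem isFinLocFreeOfRank_of_stalks {Y : Scheme.{u}} (M : Y.Modules)
    (hM : FlatMod.IsFinLocFree M) (g : ℕ)
    (hr : ∀ y : Y, Module.finrank (Y.presheaf.stalk y) (M.presheaf.stalk y) = g) :
    FlatMod.IsFinLocFreeOfRank g M := by
  haveI := FLFH8.isQuasicoherent_of_finLocFree M hM
  intro x
  obtain ⟨U, n, hxU, ⟨α⟩⟩ := hM x
  obtain ⟨W, hW, hxW, -, t, ht⟩ := FLFH8.exists_affine_bases M hxU α
  obtain ⟨h1, h2⟩ := FLFH8.BasisOn.self M t (ht W le_rfl)
  have h3 := (FLFH8.free_stalk_of_basis M hW hxW t h1 h2).2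
  have hn : n = g := by rw [← h3, hr x]
  subst hn
  exact ⟨U, hxU, ⟨α⟩⟩

variable {X S : Scheme.{u}} (f : X ⟶ S)

set_option maxHeartbeats 1600000 in
/-- the rank of the stalk of `R^1 f_* F` when `H^2` of the fibres vanishes and the degree-zero
base change maps are surjective -/
theorem finrank_stalk_R1 [IsProper f] [LocallyOfFinitePresentation f]
    [HasInjectiveResolutions X.Modules]
    (F : X.Modules) [Coh.IsQCoh F] (hfp : CohB1.IsFP F) (hfl : FlatMod.IsFlatOver f F)
    (h2 : ∀ y : S, Subsingleton (CohIII.fiberH f F y 2))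
    (h0 : ∀ y : S, Epi (CohBC.bc0 f (S.fromSpecResidueField y) (f.fiberToSpecResidueField y)
      (f.fiberι y) (f.fiber_fac y) F))
    [((Coh.Rpush f 1).obj F).IsQuasicoherent] (y : S) :
    Module.finrank (S.presheaf.stalk y) (((Coh.Rpush f 1).obj F).presheaf.stalk y) =
      CohIII.fiberRank f F 1 y := by
  obtain ⟨_, ⟨T, hT : IsAffineOpen T, rfl⟩, hyT, -⟩ :=
    (S.isBasis_affineOpens).exists_subset_of_mem_open (Set.mem_univ y) isOpen_univ
  have hy : y ∈ T := hyT
  obtain ⟨P, hP, -, -, hA, hB, -, -, hR, hD⟩ := chartFacts3 f F hfp hfl T hT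
  have e1 : -((0 : ℕ) : ℤ) - 1 = -((1 : ℕ) : ℤ) := by simp
  have e2 : -((2 : ℕ) : ℤ) = -((1 : ℕ) : ℤ) - 1 := by norm_num
  have h1' : ∀ x : PrimeSpectrum Γ(S, T),
      x ∈ Module.freeLocus Γ(S, T) (P.opcycles (-((1 : ℕ) : ℤ))) := by
    intro x
    obtain ⟨v, hv, hker⟩ := exists_ker_evalRes T hT x
    letI := algRes T v hv
    have := Groth.Agent.Lib.PBCH2.mem_freeLocus_of_betaT_surjective' P hP (-((0 : ℕ) : ℤ))
      (S.residueField v) (hB v hv (h0 v)) x hker
    rwa [e1] at this
  have h2' : ∀ x : PrimeSpectrum Γ(S, T),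
      x ∈ Module.freeLocus Γ(S, T) (P.opcycles (-((1 : ℕ) : ℤ) - 1)) := by
    intro x
    obtain ⟨v, hv, hker⟩ := exists_ker_evalRes T hT x
    letI := algRes T v hv
    have := (Groth.Agent.Lib.PBCH2.mem_freeLocus_of_subsingleton_T P hP (-((2 : ℕ) : ℤ))
      (S.residueField v) ((hA 2 v hv).mp (h2 v)) x hker).1
    rwa [e2] at this
  obtain ⟨e⟩ := hD 1
  have hx : hT.primeIdealOf ⟨y, hy⟩ =
      ⟨RingHom.ker (evalRes T y hy), RingHom.ker_isPrime _⟩ :=
    PrimeSpectrum.ext (ker_evalRes T hT y hy).symm
  rw [← FLFH8.rankAtStalk_sections ((Coh.Rpush f 1).obj F) hT hy,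
    ← Module.rankAtStalk_eq_of_equiv e,
    Groth.Agent.Lib.PBCH2.rankAtStalk_homology_of_freeLocus P hP (-((1 : ℕ) : ℤ)) h1' h2',
    hR 1 y hy, hx]

end Rank

section Curves

variable {X S : Scheme.{u}} (f : X ⟶ S)

/-- the fibres of a proper smooth morphism with geometrically connected fibres have only
constant functions -/
theorem isIso_appTop_fibre_of_smooth [IsProper f] [Smooth f] [GeometricallyConnected f] (s : S) :
    IsIso (f.fiberToSpecResidueField s).appTop := by
  haveI : Smooth (f.fiberToSpecResidueField s) := by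
    show Smooth (pullback.snd f (S.fromSpecResidueField s))
    infer_instance
  haveI : IsProper (f.fiberToSpecResidueField s) := by
    show IsProper (pullback.snd f (S.fromSpecResidueField s))
    infer_instance
  haveI := Groth.Agent.Lib.ActZeroDimH4.geomRed_of_smooth (f.fiberToSpecResidueField s)
  exact Groth.Agent.Lib.H0ConstH4.isIso_appTop (S.residueField s) (f.fiberToSpecResidueField s)

set_option maxHeartbeats 1600000 in
/-- `R^1 f_* O_X` is finite locally free of rank the genus of the fibres -/
theorem isFinLocFreeOfRank_R1_unit [IsProper f] [Flat f] [LocallyOfFinitePresentation f]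
    [HasInjectiveResolutions X.Modules]
    (hdim : ∀ s : S, topologicalKrullDim ↥(f.fiber s) ≤ 1)
    (h : ∀ s : S, IsIso (f.fiberToSpecResidueField s).appTop) (g : ℕ)
    (hgen : ∀ s : S,
      letI : (f.fiber s).Over (Spec (S.residueField s)) := ⟨f.fiberToSpecResidueField s⟩
      Curv2.genus (S.residueField s) (f.fiber s) = g) :
    FlatMod.IsFinLocFreeOfRank g ((Coh.Rpush f 1).obj (Coh.structureModule X)) := by
  have hflf := isFinLocFree_R1_unit f hdim h
  haveI := FLFH8.isQuasicoherent_of_finLocFree _ hflf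
  haveI hq : (Coh.structureModule X).IsQuasicoherent := (CohDevH8.isCoh_structureModule X).1
  haveI : Coh.IsQCoh (Coh.structureModule X) := hq
  have hfp : CohB1.IsFP (Coh.structureModule X) :=
    FLFH8.isFinitePresentation_of_finLocFree _
      (Groth.Agent.Lib.FlatQuotL.isFinLocFree_structureModule X)
  have hfl : FlatMod.IsFlatOver f (Coh.structureModule X) :=
    Groth.Agent.Lib.BCFunH2.isFlatOver_unit f
  refine isFinLocFreeOfRank_of_stalks _ hflf g (fun y => ?_)
  rw [finrank_stalk_R1 f (Coh.structureModule X) hfp hfl (fun y => ?_) (fun y => ?_) y]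
  · letI : (f.fiber y).Over (Spec (CommRingCat.of (S.residueField y))) :=
      ⟨f.fiberToSpecResidueField y⟩
    have e3 := Groth.Agent.Lib.StalkFFH2.HHlinEquiv (S.residueField y)
      (PBH8.pullbackUnitIso (f.fiberι y)) 1
    rw [← hgen y]
    exact e3.finrank_eq
  · letI : (f.fiber y).Over (Spec (CommRingCat.of (S.residueField y))) :=
      ⟨f.fiberToSpecResidueField y⟩
    haveI : IsProper ((f.fiber y) ↘ Spec (CommRingCat.of (S.residueField y))) := by
      show IsProper (pullback.snd f (S.fromSpecResidueField y))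
      infer_instance
    haveI : (CohIII.fiberMod f (Coh.structureModule X) y).IsQuasicoherent := by
      unfold CohIII.fiberMod
      infer_instance
    exact BirCurve.HH_subsingleton_of_dim_le_one (S.residueField y) (f.fiber y) (hdim y) _ 0
  · haveI := h y
    have hs : Function.Surjective ((f.fiberToSpecResidueField y).app ⊤).hom :=
      (ConcreteCategory.bijective_of_isIso (f.fiberToSpecResidueField y).appTop).2
    exact epi_bc0_unit f y hs

end Curves

end Groth.Agent.Lib.CBCH2
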