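import Mathlib
import Groth.Prelude
import Groth.Agent.Lib.CurveAmple2_helper9
import Groth.Agent.Lib.RelAmpleVan_helper9
import Groth.Agent.Lib.Tens38_helper8

/-!
# Positive degree implies ample on an integral proper curve (helper9)
APPEND-ONLY once landed.
-/

set_option autoImplicit false
universe u
open CategoryTheory CategoryTheory.Limits AlgebraicGeometry Opposite TopologicalSpace

namespace CurveAmple

open QcqsLoc QCohExtn GenLocH8 TensH8 FLFH8 Groth.Agent.HHVan Groth.Agent.TensInv CohB1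

section Theta

variable (k : Type u) [Field k] {X : Scheme.{u}} [X.Over (Spec (CommRingCat.of k))]

/-- the class of `1` in `H⁰(O_X)` -/
noncomputable def oneClass (X : Scheme.{u}) : Coh.HH X (Coh.structureModule X) 0 :=
  (CurveTens.e₀ (Coh.structureModule X)).symm (toM (1 : Γ(X, ⊤)))

/-- `u ↦ H⁰(u)(1)` as a linear map `Hom(O, A) → H⁰(A)` -/
noncomputable def theta (A : X.Modules) : (Coh.structureModule X ⟶ A) →ₗ[k] Coh.HH X A 0 where
  toFun u := Canon.HHlin k u 0 (oneClass X)
  map_add' u u' := by rw [HHlin_add]; rfl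
  map_smul' c u := by rw [HHlin_smul]; rfl

theorem theta_apply (A : X.Modules) (u : Coh.structureModule X ⟶ A) :
    CurveTens.e₀ A (theta k A u) = ap u ⊤ (toM (1 : Γ(X, ⊤))) := by
  have key : CurveTens.e₀ A (Canon.HHlin k u 0 (oneClass X)) =
      ap u ⊤ (CurveTens.e₀ (Coh.structureModule X) (oneClass X)) :=
    (Sheaf.H.equiv₀_naturality ((SerreCrit.TT X).map u) (hT := isTerminalTop) (oneClass X)).symm
  have h2 : CurveTens.e₀ (Coh.structureModule X) (oneClass X) = toM (1 : Γ(X, ⊤)) :=
    AddEquiv.apply_symm_apply _ _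
  exact key.trans (congrArg (ap u ⊤) h2)

theorem theta_surjective (A : X.Modules) : Function.Surjective (theta k A) := by
  intro v
  refine ⟨SDivGenH8.unitHom A (CurveTens.e₀ A v), ?_⟩
  apply (CurveTens.e₀ A).injective
  rw [theta_apply]
  have h3 := SDivGenH8.unitHom_app_one A (CurveTens.e₀ A v) ⊤
  have h4 : A.val.map (homOfLE (le_top : (⊤ : X.Opens) ≤ ⊤)).op (CurveTens.e₀ A v) =
      CurveTens.e₀ A v := SubExt.rF_self A le_top _
  exact h3.trans h4

end Theta

section Main

variable (k : Type u) [Field k] (X : Scheme.{u}) [X.Over (Spec (CommRingCat.of k))]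
  [IsIntegral X] [IsProper (X ↘ Spec (CommRingCat.of k))]

/-- `h⁰ ≥ χ` on an integral proper curve -/
theorem euler_le_finrank (hdim : topologicalKrullDim X ≤ 1) (F : X.Modules) [F.IsQuasicoherent] :
    Curv2.euler k X F ≤ (Module.finrank k (Coh.HH X F 0) : ℤ) := by
  rw [CurveRR.euler_eq_sub k X hdim F]
  have : (0 : ℤ) ≤ (Module.finrank k (Coh.HH X F 1) : ℤ) := Int.natCast_nonneg _
  linarith

omit [X.Over (Spec (CommRingCat.of k))] [IsIntegral X] [IsProper (X ↘ Spec (CommRingCat.of k))] in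
theorem isCoh_tensorMod [IsLocallyNoetherian X] {G A : X.Modules} (hG : Coh.IsCoh G)
    (hA : PicF.IsInvertible A) : Coh.IsCoh (CohB1.tensorMod G A) := by
  have hAc := ProperFinH9.isCoh_of_isInvertible hA
  haveI := hG.1
  haveI := hAc.1
  exact ⟨TensQCH8.isQuasicoherent_tensorMod G A, TensQCH8.isFiniteType_tensorMod G A hG.2 hAc.2⟩

/-- the key dimension count: if `h⁰(A) > h¹(G) · h¹(G ⊗ A)` then `H¹(G ⊗ A) = 0` -/
theorem HH1_subsingleton_of_lt (hdim : topologicalKrullDim X ≤ 1) {G A : X.Modules}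
    (hG : Coh.IsCoh G) (hA : PicF.IsInvertible A)
    (hlt : Module.finrank k (Coh.HH X G 1) * Module.finrank k (Coh.HH X (CohB1.tensorMod G A) 1) <
      Module.finrank k (Coh.HH X A 0)) :
    Subsingleton (Coh.HH X (CohB1.tensorMod G A) 1) := by
  haveI : IsLocallyNoetherian X :=
    LocallyOfFiniteType.isLocallyNoetherian (X ↘ Spec (CommRingCat.of k))
  have hTc := isCoh_tensorMod X hG hA
  haveI := ProperFinH9.finite_HH_of_proper k X G hG 1
  haveI := ProperFinH9.finite_HH_of_proper k X _ hTc 1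
  by_contra hns
  -- `mulLin` is injective
  have hinj : Function.Injective (mulLin k G A 1) := by
    rw [← LinearMap.ker_eq_bot, LinearMap.ker_eq_bot']
    intro u hu
    by_contra hu0
    apply hns
    have hs := HH1_mulSec_surjective k X hdim hG hA u hu0
    rw [← mulLin_apply, hu] at hs
    refine ⟨fun a b => ?_⟩
    obtain ⟨a', ha'⟩ := hs a
    obtain ⟨b', hb'⟩ := hs b
    rw [← ha', ← hb']
    rfl
  haveI : Module.Finite k (Coh.structureModule X ⟶ A) :=
    Module.Finite.of_injective (mulLin k G A 1) hinj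
  have h1 := LinearMap.finrank_le_finrank_of_injective hinj
  rw [Module.finrank_linearMap] at h1
  have h2 : Module.finrank k (Coh.HH X A 0) ≤ Module.finrank k (Coh.structureModule X ⟶ A) := by
    have h3 := LinearMap.finrank_range_le (theta k A)
    rw [LinearMap.range_eq_top.mpr (theta_surjective k A), finrank_top] at h3
    exact h3
  omega

/-- multiplication by a nonzero section does not increase `h¹` -/
theorem finrank_HH1_tensor_le (hdim : topologicalKrullDim X ≤ 1) {G A : X.Modules}
    (hG : Coh.IsCoh G) (hA : PicF.IsInvertible A) (u : Coh.structureModule X ⟶ A) (hu : u ≠ 0) :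
    Module.finrank k (Coh.HH X (CohB1.tensorMod G A) 1) ≤ Module.finrank k (Coh.HH X G 1) := by
  haveI := ProperFinH9.finite_HH_of_proper k X G hG 1
  have hs := HH1_mulSec_surjective k X hdim hG hA u hu
  have h3 := LinearMap.finrank_range_le (Canon.HHlin k (mulSec G A u) 1)
  rw [LinearMap.range_eq_top.mpr hs, finrank_top] at h3
  exact h3

theorem finrank_HH_of_iso {M N : X.Modules} (e : M ≅ N) (i : ℕ) :
    Module.finrank k (Coh.HH X M i) = Module.finrank k (Coh.HH X N i) :=
  (Groth.Agent.HypConn.hhEquivOfIso (A := k) e i).finrank_eq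

/-- `h¹(G ⊗ A^q) ≤ h¹(G)` when `A` has a nonzero section -/
theorem finrank_HH1_tensorPow_le (hdim : topologicalKrullDim X ≤ 1) {G A : X.Modules}
    (hG : Coh.IsCoh G) (hA : PicF.IsInvertible A) (u : Coh.structureModule X ⟶ A) (hu : u ≠ 0)
    (q : ℕ) :
    Module.finrank k (Coh.HH X (CohB1.tensorMod G (CohB1.tensorPow A q)) 1) ≤
      Module.finrank k (Coh.HH X G 1) := by
  induction q with
  | zero =>
    exact le_of_eq (finrank_HH_of_iso k X (unitorR G) 1)
  | succ q ih =>
    haveI : IsLocallyNoetherian X :=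
      LocallyOfFiniteType.isLocallyNoetherian (X ↘ Spec (CommRingCat.of k))
    have hc := isCoh_tensorMod X hG (isInvertible_tensorPow hA q)
    have h1 := finrank_HH1_tensor_le k X hdim hc hA u hu
    have e : CohB1.tensorMod G (CohB1.tensorPow A (q + 1)) ≅
        CohB1.tensorMod (CohB1.tensorMod G (CohB1.tensorPow A q)) A :=
      (Groth.Agent.TensInv.assoc G (CohB1.tensorPow A q) A).symm
    rw [finrank_HH_of_iso k X e 1]
    exact h1.trans ih

/-- **Serre vanishing for `H¹` on a curve** from positivity of the degree -/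
theorem exists_HH1_subsingleton (hdim : topologicalKrullDim X ≤ 1) {L : X.Modules}
    (hL : PicF.IsInvertible L) (hdeg : 0 < Curv2.deg k X L 1) {G : X.Modules} (hG : Coh.IsCoh G) :
    ∃ n : ℕ, Subsingleton (Coh.HH X (CohB1.tensorMod G (CohB1.tensorPow L (n + 1))) 1) := by
  haveI : IsLocallyNoetherian X :=
    LocallyOfFiniteType.isLocallyNoetherian (X ↘ Spec (CommRingCat.of k))
  set c := Curv2.euler k X (Coh.structureModule X) with hc
  set d := Curv2.deg k X L 1 with hd
  -- lower bound for `h⁰` of powers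
  have hlow : ∀ m : ℕ, (m : ℤ) * d + c ≤ (Module.finrank k (Coh.HH X (CohB1.tensorPow L m) 0) : ℤ) := by
    intro m
    haveI := (ProperFinH9.isCoh_of_isInvertible (isInvertible_tensorPow hL m)).1
    have h1 := euler_le_finrank k X hdim (CohB1.tensorPow L m)
    have h2 := CurveTens.deg_tensorPow k X hdim hL m
    have h2' : Curv2.deg k X (CohB1.tensorPow L m) 1 =
        Curv2.euler k X (CohB1.tensorPow L m) - ((1 : ℕ) : ℤ) * c := rfl
    rw [h2'] at h2
    push_cast at h2
    linarith
  -- a power with a nonzero section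
  let m₀ : ℕ := (-c).toNat + 1
  have hm₀ : 0 < Module.finrank k (Coh.HH X (CohB1.tensorPow L m₀) 0) := by
    have h1 := hlow m₀
    have h2 : (m₀ : ℤ) = ((-c).toNat : ℤ) + 1 := Nat.cast_succ _
    have h3 : -c ≤ ((-c).toNat : ℤ) := Int.self_le_toNat (-c)
    have h4 : (1 : ℤ) ≤ d := hdeg
    have h5 : (0 : ℤ) ≤ ((-c).toNat : ℤ) := Int.natCast_nonneg _
    have h6 : (0 : ℤ) < (m₀ : ℤ) * d + c := by nlinarith
    have h7 : (0 : ℤ) < (Module.finrank k (Coh.HH X (CohB1.tensorPow L m₀) 0) : ℤ) :=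
      lt_of_lt_of_le h6 h1
    exact_mod_cast h7
  set A := CohB1.tensorPow L m₀ with hA
  obtain ⟨s₀, hs₀⟩ := CurveRR.exists_section_of_finrank_pos k X A hm₀
  have hAinv : PicF.IsInvertible A := isInvertible_tensorPow hL m₀
  have hdegA : (1 : ℤ) ≤ Curv2.deg k X A 1 := by
    rw [CurveTens.deg_tensorPow k X hdim hL m₀, ← hd]
    have h4 : (1 : ℤ) ≤ d := hdeg
    have h5 : (1 : ℤ) ≤ (m₀ : ℤ) := by push_cast; omega
    nlinarith
  set b := Module.finrank k (Coh.HH X G 1) with hb
  -- choose `q` large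
  let q : ℕ := b * b + (-c).toNat + 1
  have hq : b * Module.finrank k (Coh.HH X (CohB1.tensorMod G (CohB1.tensorPow A q)) 1) <
      Module.finrank k (Coh.HH X (CohB1.tensorPow A q) 0) := by
    have h1 := finrank_HH1_tensorPow_le k X hdim hG hAinv s₀ hs₀ q
    have h2 : b * Module.finrank k (Coh.HH X (CohB1.tensorMod G (CohB1.tensorPow A q)) 1) ≤ b * b :=
      Nat.mul_le_mul_left b h1
    haveI := (ProperFinH9.isCoh_of_isInvertible (isInvertible_tensorPow hAinv q)).1
    have h3 := euler_le_finrank k X hdim (CohB1.tensorPow A q)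
    have h4 := CurveTens.deg_tensorPow k X hdim hAinv q
    have h4' : Curv2.deg k X (CohB1.tensorPow A q) 1 =
        Curv2.euler k X (CohB1.tensorPow A q) - ((1 : ℕ) : ℤ) * c := rfl
    rw [h4'] at h4
    push_cast at h4
    have h5 : -c ≤ ((-c).toNat : ℤ) := Int.self_le_toNat (-c)
    have h6 : (q : ℤ) = (b : ℤ) * b + ((-c).toNat : ℤ) + 1 := by
      show ((b * b + (-c).toNat + 1 : ℕ) : ℤ) = _
      push_cast
      ring
    have h7 : (0 : ℤ) ≤ ((-c).toNat : ℤ) := Int.natCast_nonneg _
    have h8 : (0 : ℤ) ≤ (b : ℤ) * b := by positivity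
    have h9 : ((b * b : ℕ) : ℤ) < (Module.finrank k (Coh.HH X (CohB1.tensorPow A q) 0) : ℤ) := by
      push_cast
      nlinarith
    have h10 : b * b < Module.finrank k (Coh.HH X (CohB1.tensorPow A q) 0) := by exact_mod_cast h9
    omega
  have hvan := HH1_subsingleton_of_lt k X hdim hG (isInvertible_tensorPow hAinv q) hq
  -- transport to a power of `L`
  obtain ⟨e⟩ := TensPowH9.tensorPow_mul L m₀ q
  have hpos : 0 < m₀ * q := Nat.mul_pos (Nat.succ_pos _) (Nat.succ_pos _)
  obtain ⟨n, hn⟩ : ∃ n, m₀ * q = n + 1 := ⟨m₀ * q - 1, by omega⟩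
  refine ⟨n, ?_⟩
  rw [← hn]
  exact subsingleton_of_iso (mapL G e) 1 hvan

/-- **positive degree implies ample** -/
theorem isAmple_of_deg_pos (hdim : topologicalKrullDim X ≤ 1) {L : X.Modules}
    (hL : PicF.IsInvertible L) (hdeg : 0 < Curv2.deg k X L 1) : CohB1.IsAmple L := by
  haveI : IsLocallyNoetherian X :=
    LocallyOfFiniteType.isLocallyNoetherian (X ↘ Spec (CommRingCat.of k))
  haveI : CompactSpace X :=
    QuasiCompact.compactSpace_of_compactSpace (X ↘ Spec (CommRingCat.of k))
  refine isAmple_of_H1 hL (fun I i hi hI => ?_)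
  haveI := hi
  have hIc : Coh.IsCoh I := RelAmpleVanH9.isCoh_of_mono_structureModule I i hI
  exact exists_HH1_subsingleton k X hdim hL hdeg hIc

end Main

end CurveAmple
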