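import Mathlib
import Groth.Prelude
import Groth.Agent.Lib.CurveAmple3_helper9

/-!
# Ample iff positive degree on an integral proper curve (helper9)
APPEND-ONLY once landed.
-/

set_option autoImplicit false
universe u
open CategoryTheory CategoryTheory.Limits AlgebraicGeometry Opposite TopologicalSpace

namespace CurveAmple

open QcqsLoc QCohExtn GenLocH8 TensH8 FLFH8 CohB1

section NotAffine

variable (k : Type u) [Field k] (X : Scheme.{u}) [X.Over (Spec (CommRingCat.of k))]
  [IsProper (X ↘ Spec (CommRingCat.of k))]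

include k in
/-- an affine scheme proper over a field has dimension at most zero -/
theorem topologicalKrullDim_le_zero_of_isAffine [IsAffine X] : topologicalKrullDim X ≤ 0 := by
  haveI : IsFinite (X ↘ Spec (CommRingCat.of k)) :=
    IsFinite.iff_isProper_and_isAffineHom.mpr ⟨inferInstance, inferInstance⟩
  have hfin := IsFinite.finite_app (X ↘ Spec (CommRingCat.of k)) ⊤
    (isAffineOpen_top (Spec (CommRingCat.of k)))
  let e : k ≃+* Γ(Spec (CommRingCat.of k), ⊤) :=
    (Scheme.ΓSpecIso (CommRingCat.of k)).commRingCatIsoToRingEquiv.symm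
  haveI : IsArtinianRing Γ(Spec (CommRingCat.of k), ⊤) := e.surjective.isArtinianRing
  let φ := ((X ↘ Spec (CommRingCat.of k)).app ⊤).hom
  letI := φ.toAlgebra
  haveI : Module.Finite Γ(Spec (CommRingCat.of k), ⊤)
      Γ(X, (X ↘ Spec (CommRingCat.of k)) ⁻¹ᵁ ⊤) := hfin
  haveI : IsArtinianRing Γ(X, (X ↘ Spec (CommRingCat.of k)) ⁻¹ᵁ ⊤) :=
    IsArtinianRing.of_finite Γ(Spec (CommRingCat.of k), ⊤) _
  haveI : IsArtinianRing Γ(X, ⊤) := ‹IsArtinianRing Γ(X, (X ↘ Spec (CommRingCat.of k)) ⁻¹ᵁ ⊤)›
  haveI : IsLocallyArtinian (Spec Γ(X, ⊤)) := Scheme.isLocallyArtinianScheme_Spec.mpr inferInstance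
  haveI : DiscreteTopology (Spec Γ(X, ⊤)) := inferInstance
  haveI : DiscreteTopology X := X.isoSpec.hom.homeomorph.symm.discreteTopology
  exact topologicalKrullDim_zero_of_discreteTopology X

include k in
theorem not_isAffineOpen_top (hdim : topologicalKrullDim X = 1) :
    ¬ IsAffineOpen (⊤ : X.Opens) := by
  intro h
  haveI : IsAffine (↑(⊤ : X.Opens) : Scheme.{u}) := h
  haveI : IsAffine X := IsAffine.of_isIso X.topIso.inv
  have h0 := topologicalKrullDim_le_zero_of_isAffine k X
  rw [hdim] at h0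
  exact absurd h0 (by decide)

end NotAffine

section Main

variable (k : Type u) [Field k] (X : Scheme.{u}) [X.Over (Spec (CommRingCat.of k))]
  [IsIntegral X] [IsProper (X ↘ Spec (CommRingCat.of k))]

/-- ample implies positive degree -/
theorem deg_pos_of_isAmple (hdim : topologicalKrullDim X = 1) {L : X.Modules}
    (hL : PicF.IsInvertible L) (hamp : CohB1.IsAmple L) : 0 < Curv2.deg k X L 1 := by
  obtain ⟨-, -, h⟩ := hamp
  obtain ⟨n, s, hxs, haff⟩ := h (genericPoint X)
  have hLn := isInvertible_tensorPow hL (n + 1)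
  -- `s` is nonzero
  have hs : s ≠ 0 := by
    rintro rfl
    rw [mem_genLocus_iff] at hxs
    obtain ⟨V, hxV, hV⟩ := hxs
    have hb := hV V le_rfl
    haveI : Nonempty V := ⟨⟨_, hxV⟩⟩
    haveI : Nontrivial Γ(X, V) := inferInstance
    have h1 : (toM (1 : Γ(X, V)) : Γ(Coh.structureModule X, V)) = toM (0 : Γ(X, V)) := by
      apply hb.1
      show ap (0 : Coh.structureModule X ⟶ CohB1.tensorPow L (n + 1)) V _ =
        ap (0 : Coh.structureModule X ⟶ CohB1.tensorPow L (n + 1)) V _
      rfl
    exact one_ne_zero (α := Γ(X, V)) h1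
  -- `s` vanishes somewhere
  have hne : ∃ y : X, y ∉ CohB1.genLocus _ s := by
    by_contra hall
    push Not at hall
    have htop : CohB1.genLocus _ s = ⊤ := by
      ext y
      simp only [Opens.coe_top, Set.mem_univ, iff_true]
      exact hall y
    rw [htop] at haff
    exact not_isAffineOpen_top k X hdim haff
  obtain ⟨y, hy⟩ := hne
  have hpos := CurveDeg.deg_pos_of_section_vanishing k X hdim hLn s hs y hy
  rw [CurveTens.deg_tensorPow k X hdim.le hL (n + 1)] at hpos
  have hn : (0 : ℤ) < ((n + 1 : ℕ) : ℤ) := by positivity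
  exact (mul_pos_iff_of_pos_left hn).1 hpos

/-- **statement of S1530**: ample iff positive degree -/
theorem isAmple_iff_deg_pos (hdim : topologicalKrullDim X = 1) {L : X.Modules}
    (hL : PicF.IsInvertible L) : CohB1.IsAmple L ↔ 0 < Curv2.deg k X L 1 :=
  ⟨deg_pos_of_isAmple k X hdim hL, isAmple_of_deg_pos k X hdim.le hL⟩

end Main

end CurveAmple
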