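import Mathlib
import Groth.Prelude
import Groth.Agent.Lib.CurveAmple4_helper9

/-!
# `H¹(G ⊗ A) ≠ 0` forces `h⁰(A) ≤ h¹(G)` on an integral proper curve; consequences (helper9)
APPEND-ONLY once landed.
-/

set_option autoImplicit false
universe u
open CategoryTheory CategoryTheory.Limits AlgebraicGeometry Opposite TopologicalSpace

namespace CurveAmple

open QcqsLoc QCohExtn GenLocH8 TensH8 FLFH8 CohB1 Groth.Agent.HHVan

section Main

variable (k : Type u) [Field k] (X : Scheme.{u}) [X.Over (Spec (CommRingCat.of k))]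
  [IsIntegral X] [IsProper (X ↘ Spec (CommRingCat.of k))]

/-- **if `H¹(G ⊗ A) ≠ 0` then `h⁰(A) ≤ h¹(G)`** -/
theorem finrank_HH0_le_of_nontrivial (hdim : topologicalKrullDim X ≤ 1) {G A : X.Modules}
    (hG : Coh.IsCoh G) (hA : PicF.IsInvertible A)
    (hne : Nontrivial (Coh.HH X (CohB1.tensorMod G A) 1)) :
    Module.finrank k (Coh.HH X A 0) ≤ Module.finrank k (Coh.HH X G 1) := by
  haveI : IsLocallyNoetherian X :=
    LocallyOfFiniteType.isLocallyNoetherian (X ↘ Spec (CommRingCat.of k))
  have hTc := isCoh_tensorMod X hG hA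
  haveI := ProperFinH9.finite_HH_of_proper k X G hG 1
  haveI := ProperFinH9.finite_HH_of_proper k X _ hTc 1
  obtain ⟨v, hv⟩ := exists_ne (0 : Coh.HH X (CohB1.tensorMod G A) 1)
  obtain ⟨lam, hlam⟩ := Module.Projective.exists_dual_ne_zero k hv
  -- the map `u ↦ λ ∘ H¹(mulSec u)`
  let Ψ : (Coh.structureModule X ⟶ A) →ₗ[k] Module.Dual k (Coh.HH X G 1) :=
    (LinearMap.llcomp k _ _ _ lam) ∘ₗ (mulLin k G A 1)
  have hΨ : ∀ u, Ψ u = lam ∘ₗ (Canon.HHlin k (mulSec G A u) 1) := fun u => rfl
  have hinj : Function.Injective Ψ := by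
    rw [← LinearMap.ker_eq_bot, LinearMap.ker_eq_bot']
    intro u hu
    by_contra hu0
    obtain ⟨w, hw⟩ := HH1_mulSec_surjective k X hdim hG hA u hu0 v
    apply hlam
    have h1 := congrArg (fun φ : Module.Dual k (Coh.HH X G 1) => φ w) hu
    rw [hΨ] at h1
    have h2 : lam (Canon.HHlin k (mulSec G A u) 1 w) = 0 := h1
    rw [hw] at h2
    exact h2
  haveI : Module.Finite k (Coh.structureModule X ⟶ A) := Module.Finite.of_injective Ψ hinj
  have h1 := LinearMap.finrank_le_finrank_of_injective hinj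
  rw [Subspace.dual_finrank_eq] at h1
  have h2 : Module.finrank k (Coh.HH X A 0) ≤ Module.finrank k (Coh.structureModule X ⟶ A) := by
    have h3 := LinearMap.finrank_range_le (theta k A)
    rw [LinearMap.range_eq_top.mpr (theta_surjective k A), finrank_top] at h3
    exact h3
  exact h2.trans h1

/-- `h⁰(O_X) ≥ 1` -/
theorem one_le_finrank_HH0_structureModule :
    1 ≤ Module.finrank k (Coh.HH X (Coh.structureModule X) 0) := by
  haveI : IsLocallyNoetherian X :=
    LocallyOfFiniteType.isLocallyNoetherian (X ↘ Spec (CommRingCat.of k))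
  haveI := ProperFinH9.finite_HH_of_proper k X _ (CohDevH8.isCoh_structureModule X) 0
  rw [Nat.one_le_iff_ne_zero, Ne, Module.finrank_eq_zero_iff_of_free]
  intro hsub
  have h1 : oneClass X = 0 := Subsingleton.elim _ _
  have h2 : toM (1 : Γ(X, ⊤)) = CurveTens.e₀ (Coh.structureModule X) (oneClass X) :=
    (AddEquiv.apply_symm_apply _ _).symm
  rw [h1, map_zero] at h2
  exact one_ne_zero (α := Γ(X, ⊤)) h2

/-- statement of S1522 (valid over any field) -/
theorem HH1_subsingleton_of_deg_ge (hdim : topologicalKrullDim X ≤ 1) {L : X.Modules}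
    (hL : PicF.IsInvertible L)
    (hdeg : 2 * (Curv2.genus k X : ℤ) - 1 ≤ Curv2.deg k X L 1) :
    Subsingleton (Coh.HH X L 1) := by
  haveI : IsLocallyNoetherian X :=
    LocallyOfFiniteType.isLocallyNoetherian (X ↘ Spec (CommRingCat.of k))
  by_contra hns
  rw [not_subsingleton_iff_nontrivial] at hns
  have hOc := CohDevH8.isCoh_structureModule X
  have hLc := ProperFinH9.isCoh_of_isInvertible hL
  haveI := hOc.1
  haveI := hLc.1
  -- `H¹(O ⊗ L) ≠ 0`
  have e := Groth.Agent.CMMul.unitorL L
  have hne : Nontrivial (Coh.HH X (CohB1.tensorMod (Coh.structureModule X) L) 1) := by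
    rw [← not_subsingleton_iff_nontrivial]
    intro h
    exact not_subsingleton_iff_nontrivial.mpr hns (subsingleton_of_iso e 1 h)
  have h1 := finrank_HH0_le_of_nontrivial k X hdim hOc hL hne
  have h2 := CurveRR.euler_eq_sub k X hdim L
  have h3 := CurveRR.euler_eq_sub k X hdim (Coh.structureModule X)
  have h4 := one_le_finrank_HH0_structureModule k X
  haveI := ProperFinH9.finite_HH_of_proper k X L hLc 1
  have h5 : 1 ≤ Module.finrank k (Coh.HH X L 1) := by
    rw [Nat.one_le_iff_ne_zero, Ne, Module.finrank_eq_zero_iff_of_free]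
    exact not_subsingleton_iff_nontrivial.mpr hns
  have hg : Curv2.genus k X = Module.finrank k (Coh.HH X (Coh.structureModule X) 1) := rfl
  unfold Curv2.deg at hdeg
  rw [hg] at hdeg
  push_cast at hdeg
  omega

end Main

end CurveAmple
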