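import Mathlib
import Groth.Prelude.Def_CInt
import Groth.Prelude.Def_CAlg
import Groth.Agent.Lib.FibStalkDepth_helper5

/-!
# Depth along a closed subset for Cohen–Macaulay morphisms (helper5): S14107, S14108
APPEND-ONLY once landed.
-/

set_option autoImplicit false
universe u

namespace Groth.Agent.FibStalkDepth2

open AlgebraicGeometry CategoryTheory IsLocalRing
open Groth.Agent.FibStalkDepth

variable {X S : Scheme.{u}} [IsLocallyNoetherian X] [IsLocallyNoetherian S] (f : X ⟶ S) [Flat f]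

/-- For a CM fibre local ring, `dim (fibre stalk) ≤ depth O_{X,y}` (in `WithBot ℕ∞`). -/
theorem dim_fiberStalk_le_depth (y : X)
    (hCM : LocCoh.IsCohenMacaulayLocalRing ↑(CInt.fiberStalk f y)) :
    ringKrullDim ↑(CInt.fiberStalk f y) ≤
      ((LocCoh.depth ↑(X.presheaf.stalk y) ↑(X.presheaf.stalk y) : ℕ∞) : WithBot ℕ∞) := by
  have h1 : ringKrullDim ↑(CInt.fiberStalk f y) =
      ((LocCoh.depth ↑(CInt.fiberStalk f y) ↑(CInt.fiberStalk f y) : ℕ∞) : WithBot ℕ∞) := by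
    rw [← Module.supportDim_self_eq_ringKrullDim]
    exact hCM.supportDim_eq_depth
  rw [h1, depth_stalk_eq_add f y]
  exact WithBot.coe_le_coe.2 le_add_self

theorem main14107
    (hCM : ∀ x : ↥X, LocCoh.IsCohenMacaulayLocalRing ↑(CInt.fiberStalk f x))
    (Y : Set ↥X) (d : ℕ)
    (hcodim : ∀ y : ↥X, y ∈ Y → (d : WithBot ℕ∞) ≤ ringKrullDim ↑(CInt.fiberStalk f y)) :
    ∀ y : ↥X, y ∈ Y →
      (d : ℕ∞) ≤ LocCoh.depth ↑(X.presheaf.stalk y) ↑(X.presheaf.stalk y) := by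
  intro y hy
  have h1 := (hcodim y hy).trans (dim_fiberStalk_le_depth f y (hCM y))
  have h2 : ((d : ℕ∞) : WithBot ℕ∞) ≤
      ((LocCoh.depth ↑(X.presheaf.stalk y) ↑(X.presheaf.stalk y) : ℕ∞) : WithBot ℕ∞) := by
    exact_mod_cast h1
  exact WithBot.coe_le_coe.1 h2

theorem main14108
    (hCM : ∀ x : ↥X, LocCoh.IsCohenMacaulayLocalRing ↑(CInt.fiberStalk f x))
    (Y : Set ↥X)
    (hcodim : (⨅ y : Y, ringKrullDim ↑(CInt.fiberStalk f y.1)) =
      ⨅ y : Y, ringKrullDim ↑(X.presheaf.stalk y.1)) :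
    (⨅ y : Y, ((LocCoh.depth ↑(X.presheaf.stalk y.1) ↑(X.presheaf.stalk y.1) : ℕ∞) :
        WithBot ℕ∞)) =
      ⨅ y : Y, ringKrullDim ↑(X.presheaf.stalk y.1) := by
  apply le_antisymm
  · exact iInf_mono fun y => Groth.Agent.FlatCM.depth_le_dim _
  · rw [← hcodim]
    exact iInf_mono fun y => dim_fiberStalk_le_depth f y.1 (hCM y.1)

end Groth.Agent.FibStalkDepth2
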