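import Mathlib
import Groth.Prelude
import Groth.Agent.Lib.FreeLoc2_helper8
import Groth.Agent.Lib.RestrStalk1_helper8
import Groth.Agent.Lib.Hartogs_helper5
import Groth.Agent.Lib.DepthRefl_helper5
import Groth.Agent.Lib.SubExt4_helper9
import Groth.Agent.Lib.CohDev8_helper8

set_option autoImplicit false
universe u

open CategoryTheory AlgebraicGeometry TopologicalSpace Opposite IsLocalRing
open QcqsLoc GenLocH8 SecOrdH8 FLFH8 QCohExtn RefHullH8 RefBasisH8 HomLinH8 SDivGenH8 SDivFreeH8

/-! Reflexive modules and opens whose complement has depth at least two. -/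

namespace ReflExtH8

variable {X : Scheme.{u}}

theorem rF_bijective_congr (F : X.Modules) {A B V : X.Opens} (e : A = B) (hA : A ≤ V)
    (hB : B ≤ V) (h : Function.Bijective (rF F hB)) : Function.Bijective (rF F hA) := by
  subst e
  exact h

theorem locNoeth_top [IsLocallyNoetherian X] :
    ∀ x : X, ∃ V : X.Opens, x ∈ V ∧ NoetherianSpace (V : Set X) := by
  intro x
  obtain ⟨_, ⟨V, hV : IsAffineOpen V, rfl⟩, hxV, -⟩ :=
    (X.isBasis_affineOpens).exists_subset_of_mem_open (Set.mem_univ x) isOpen_univ
  haveI : IsNoetherianRing Γ(X, V) := IsLocallyNoetherian.component_noetherian ⟨V, hV⟩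
  exact ⟨V, hxV, noetherianSpace_of_isAffineOpen V hV⟩

/-- A coherent module with reflexive stalks has depth at least two at the points where the
structure sheaf does. -/
theorem two_le_depth_of_isReflexive [IsLocallyNoetherian X] (F : X.Modules) (hF : Coh.IsCoh F)
    (x : X) [Module.IsReflexive (X.presheaf.stalk x) (F.presheaf.stalk x)]
    (hx : (2 : ℕ∞) ≤ LocCoh.depth (X.presheaf.stalk x) (X.presheaf.stalk x)) :
    (2 : ℕ∞) ≤ LocCoh.depth (X.presheaf.stalk x) (F.presheaf.stalk x) := by
  haveI : Module.Finite (X.presheaf.stalk x) (F.presheaf.stalk x) := finite_stalk hF.2 x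
  have h1 := Groth.Agent.DepthLib.reflexive_min_depth (maximalIdeal (X.presheaf.stalk x))
    (F.presheaf.stalk x)
  unfold LocCoh.depth at hx ⊢
  rwa [min_eq_left hx] at h1

/-- Sections of a coherent module with reflexive stalks extend uniquely across closed subsets
along which the structure sheaf has depth at least two. -/
theorem isIso_unit_of_depth [IsLocallyNoetherian X] (U : X.Opens)
    (hU : ∀ x : X, x ∉ U →
      (2 : ℕ∞) ≤ LocCoh.depth (X.presheaf.stalk x) (X.presheaf.stalk x))
    (F : X.Modules) (hF : Coh.IsCoh F)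
    (hr : ∀ x : X, Module.IsReflexive (X.presheaf.stalk x) (F.presheaf.stalk x)) :
    IsIso ((Scheme.Modules.restrictAdjunction U.ι).unit.app F) := by
  haveI : F.IsQuasicoherent := hF.1
  haveI : SheafOfModules.IsFiniteType (R := X.ringCatSheaf) F := hF.2
  have hdepth : ∀ x : X, x ∉ U →
      (2 : ℕ∞) ≤ LocCoh.depth (X.presheaf.stalk x) (F.presheaf.stalk x) := by
    intro x hx
    haveI := hr x
    exact two_le_depth_of_isReflexive F hF x (hU x hx)
  apply SubExt.isIso_of_bijective
  intro V
  have e : ⇑(ap ((Scheme.Modules.restrictAdjunction U.ι).unit.app F) V) =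
      ⇑(rF F (U.ι.image_preimage_le V)) := funext (fun s => FreeLocH8.ap_unit_eq F U V s)
  rw [e]
  have e2 : U.ι ''ᵁ (U.ι ⁻¹ᵁ V) = V ⊓ U := by
    rw [FreeLocH8.image_preimage_eq_inf, inf_comm]
  refine rF_bijective_congr F e2 _ inf_le_left ⟨?_, ?_⟩
  · rw [injective_iff_map_eq_zero]
    intro s hs
    exact Groth.Agent.Hartogs.inj F U hdepth V s hs
  · intro t
    exact Groth.Agent.Hartogs.surj F U hdepth V t

/-- The stalks of the bidual of a coherent module on an integral scheme are reflexive. -/
theorem isReflexive_stalk_ddual [IsIntegral X] [IsLocallyNoetherian X] (F : X.Modules)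
    (hF : Coh.IsCoh F) (x : X) :
    Module.IsReflexive (X.presheaf.stalk x) ((RefHull.ddual F).presheaf.stalk x) := by
  obtain ⟨Φ, -⟩ := ReflHomH8.exists_equiv_bidual F hF x
  haveI : Module.Finite (X.presheaf.stalk x) (F.presheaf.stalk x) := finite_stalk hF.2 x
  haveI : Module.Finite (X.presheaf.stalk x)
      (Module.Dual (X.presheaf.stalk x) (F.presheaf.stalk x)) :=
    Groth.Agent.DepthLib.finite_hom _ _
  haveI := ReflHomH8.isReflexive_dual (X.presheaf.stalk x)
    (Module.Dual (X.presheaf.stalk x) (F.presheaf.stalk x))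
  exact Module.equiv Φ.symm

/-- Reflexivity of the stalks is invariant under isomorphisms. -/
theorem isReflexive_stalk_of_iso {F G : X.Modules} (α : F ≅ G) (x : X)
    [Module.IsReflexive (X.presheaf.stalk x) (F.presheaf.stalk x)] :
    Module.IsReflexive (X.presheaf.stalk x) (G.presheaf.stalk x) :=
  Module.equiv
    (LinearEquiv.ofBijective (RefHull.stalkMapₗ α.hom x) (stalkMap_bijective_of_isIso α.hom x))

/-- The stalk of a module on `X` at a point of an open `U` is reflexive as soon as the stalk of its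
restriction to `U` is. -/
theorem isReflexive_stalk_of_restrict (F : X.Modules) (U : X.Opens) (x : (U : Scheme.{u}))
    [Module.IsReflexive ((U : Scheme.{u}).presheaf.stalk x)
      ((F.restrict U.ι).presheaf.stalk x)] :
    Module.IsReflexive (X.presheaf.stalk (U.ι.base x)) (F.presheaf.stalk (U.ι.base x)) :=
  RestrStalkH8.isReflexive_of_semilinear (RestrStalkH8.stalkRingEquiv U.ι x).symm
    (RestrStalkH8.restrictStalkEquiv U.ι F x)
    (fun o t => RestrStalkH8.restrictStalkEquiv_smul U.ι F x o t)

/-- The direct image of a coherent module with reflexive stalks, from an open whose complement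
has depth at least two, is coherent with reflexive stalks. -/
theorem pushforward_isCoh_isReflexive [IsIntegral X] [IsLocallyNoetherian X] (U : X.Opens)
    (hU : ∀ x : X, x ∉ U →
      (2 : ℕ∞) ≤ LocCoh.depth (X.presheaf.stalk x) (X.presheaf.stalk x))
    (G : (U : Scheme.{u}).Modules) (hG : Coh.IsCoh G)
    (hr : ∀ x : (U : Scheme.{u}),
      Module.IsReflexive ((U : Scheme.{u}).presheaf.stalk x) (G.presheaf.stalk x)) :
    Coh.IsCoh ((Scheme.Modules.pushforward U.ι).obj G) ∧
      ∀ x : X, Module.IsReflexive (X.presheaf.stalk x)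
        (((Scheme.Modules.pushforward U.ι).obj G).presheaf.stalk x) := by
  haveI : G.IsQuasicoherent := hG.1
  obtain ⟨F', hq, hft, ⟨e⟩⟩ := SubExt.extend_ft_module_locNoeth locNoeth_top U G hG.2
  have hF' : Coh.IsCoh F' := ⟨hq, hft⟩
  haveI := hq
  set H := RefHull.ddual F' with hH
  have hHc : Coh.IsCoh H := isCoh_ddual F' hF'
  have hHr : ∀ x : X, Module.IsReflexive (X.presheaf.stalk x) (H.presheaf.stalk x) :=
    fun x => isReflexive_stalk_ddual F' hF' x
  haveI hiso := isIso_unit_of_depth U hU H hHc hHr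
  have hF'r : ∀ x : X, x ∈ U →
      Module.IsReflexive (X.presheaf.stalk x) (F'.presheaf.stalk x) := by
    intro x hx
    haveI := hr ⟨x, hx⟩
    haveI : Module.IsReflexive ((U : Scheme.{u}).presheaf.stalk ⟨x, hx⟩)
        ((F'.restrict U.ι).presheaf.stalk ⟨x, hx⟩) := isReflexive_stalk_of_iso e.symm ⟨x, hx⟩
    exact isReflexive_stalk_of_restrict F' U ⟨x, hx⟩
  have hbij : ∀ x : X, x ∈ U →
      Function.Bijective (RefHull.stalkMapₗ (RefHull.bidualMap F') x) :=
    fun x hx => (isReflexiveAt_iff F' hF' x).mp (hF'r x hx)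
  haveI hiso2 : IsIso ((Scheme.Modules.restrictFunctor U.ι).map (RefHull.bidualMap F')) := by
    apply SubExt.isIso_of_bijective
    intro W'
    exact FreeLocH8.ap_bijective_of_stalkMap_bijective (RefHull.bidualMap F') (U.ι ''ᵁ W')
      (fun x hx => hbij x (U.ι_image_le W' hx))
  let α : (Scheme.Modules.pushforward U.ι).obj G ≅ H :=
    (Scheme.Modules.pushforward U.ι).mapIso
        (e.symm ≪≫ asIso ((Scheme.Modules.restrictFunctor U.ι).map (RefHull.bidualMap F'))) ≪≫
      (asIso ((Scheme.Modules.restrictAdjunction U.ι).unit.app H)).symm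
  refine ⟨CohDevH8.isCoh_of_iso α hHc, fun x => ?_⟩
  haveI := hHr x
  exact isReflexive_stalk_of_iso α.symm x

end ReflExtH8
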