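import Mathlib
import Groth.Prelude
import Groth.Agent.Lib.ReflExt1_helper8

set_option autoImplicit false
universe u

open CategoryTheory AlgebraicGeometry TopologicalSpace Opposite IsLocalRing
open QcqsLoc QCohExtn

/-! Morphisms into a module of depth at least two off an open are determined on the open. -/

namespace HomExtH8

variable {X : Scheme.{u}}

/-- Sections of a coherent module extend uniquely across closed subsets along which it has depth
at least two. -/
theorem isIso_unit_of_depth [IsLocallyNoetherian X] (U : X.Opens) (F : X.Modules)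
    (hF : Coh.IsCoh F)
    (hdepth : ∀ x : X, x ∉ U →
      (2 : ℕ∞) ≤ LocCoh.depth (X.presheaf.stalk x) (F.presheaf.stalk x)) :
    IsIso ((Scheme.Modules.restrictAdjunction U.ι).unit.app F) := by
  haveI : F.IsQuasicoherent := hF.1
  haveI : SheafOfModules.IsFiniteType (R := X.ringCatSheaf) F := hF.2
  apply SubExt.isIso_of_bijective
  intro V
  have e : ⇑(ap ((Scheme.Modules.restrictAdjunction U.ι).unit.app F) V) =
      ⇑(rF F (U.ι.image_preimage_le V)) := funext (fun s => FreeLocH8.ap_unit_eq F U V s)
  rw [e]
  have e2 : U.ι ''ᵁ (U.ι ⁻¹ᵁ V) = V ⊓ U := by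
    rw [FreeLocH8.image_preimage_eq_inf, inf_comm]
  refine ReflExtH8.rF_bijective_congr F e2 _ inf_le_left ⟨?_, ?_⟩
  · rw [injective_iff_map_eq_zero]
    intro s hs
    exact Groth.Agent.Hartogs.inj F U hdepth V s hs
  · intro t
    exact Groth.Agent.Hartogs.surj F U hdepth V t

/-- Restriction of morphisms to an open is bijective when the unit of the target is an
isomorphism. -/
theorem restrict_map_bijective (U : X.Opens) (E F : X.Modules)
    [IsIso ((Scheme.Modules.restrictAdjunction U.ι).unit.app E)] :
    Function.Bijective (fun φ : F ⟶ E => (Scheme.Modules.restrictFunctor U.ι).map φ) := by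
  set adj := Scheme.Modules.restrictAdjunction U.ι with hadj
  have h1 : ∀ φ : F ⟶ E, adj.homEquiv F _ ((Scheme.Modules.restrictFunctor U.ι).map φ) =
      φ ≫ adj.unit.app E := by
    intro φ
    rw [Adjunction.homEquiv_unit]
    exact (adj.unit.naturality φ).symm
  constructor
  · intro φ ψ h
    have h2 : φ ≫ adj.unit.app E = ψ ≫ adj.unit.app E := by
      rw [← h1, ← h1]
      exact congrArg _ h
    exact (cancel_mono (adj.unit.app E)).mp h2
  · intro χ
    refine ⟨adj.homEquiv F _ χ ≫ inv (adj.unit.app E), ?_⟩
    apply (adj.homEquiv F _).injective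
    show adj.homEquiv F _ ((Scheme.Modules.restrictFunctor U.ι).map _) = _
    rw [h1, Category.assoc, IsIso.inv_hom_id, Category.comp_id]

end HomExtH8
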