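import Mathlib
import Groth.Prelude.Def_Mor2

/-!
# Composition of regular closed immersions (helper5)
-/

open CategoryTheory AlgebraicGeometry RingTheory.Sequence

universe u

namespace Groth.Agent.RegComp

/-- Pure algebra: if `φ : A → B` is surjective with kernel generated by a weakly regular sequence,
and `ψ : B → C` has kernel generated by a weakly regular sequence (`C ≠ 0`), then the kernel of
`ψ ∘ φ` is generated by a regular sequence. -/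
theorem append_of_surjective {A B C : Type u} [CommRing A] [CommRing B] [CommRing C]
    (φ : A →+* B) (hφ : Function.Surjective φ) (ψ : B →+* C) [Nontrivial C]
    (ss : List A) (hss : IsWeaklyRegular A ss) (hker : RingHom.ker φ = Ideal.ofList ss)
    (rs : List B) (hrs : IsWeaklyRegular B rs) (hker' : RingHom.ker ψ = Ideal.ofList rs) :
    ∃ ts : List A, IsRegular A ts ∧ RingHom.ker (ψ.comp φ) = Ideal.ofList ts := by
  classical
  obtain ⟨ts, hts⟩ : ∃ ts : List A, ts.map φ = rs := by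
    refine ⟨rs.map (Function.surjInv hφ), ?_⟩
    rw [List.map_map]
    conv_rhs => rw [← List.map_id rs]
    refine List.map_congr_left (fun b _ => ?_)
    exact Function.surjInv_eq hφ b
  subst hts
  have h1 : Ideal.comap φ ⊥ = Ideal.ofList ss := by rw [← hker]; rfl
  have hkc : RingHom.ker (ψ.comp φ) = Ideal.ofList (ss ++ ts) := by
    rw [← RingHom.comap_ker, hker', ← Ideal.map_ofList, Ideal.comap_map_of_surjective φ hφ, h1,
      Ideal.ofList_append, sup_comm]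
  have hw : IsWeaklyRegular A (ss ++ ts) := by
    rw [isWeaklyRegular_append_iff]
    refine ⟨hss, ?_⟩
    letI : Algebra A B := φ.toAlgebra
    have hsm : (Ideal.ofList ss • ⊤ : Submodule A A) = LinearMap.ker (Algebra.linearMap A B) := by
      rw [smul_eq_mul, Ideal.mul_top, ← hker]
      ext a
      rw [RingHom.mem_ker, LinearMap.mem_ker]
      rfl
    let e : (A ⧸ (Ideal.ofList ss • ⊤ : Submodule A A)) ≃ₗ[A] B :=
      (Submodule.quotEquivOfEq _ _ hsm).trans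
        ((Algebra.linearMap A B).quotKerEquivOfSurjective hφ)
    rw [e.isWeaklyRegular_congr ts, ← isWeaklyRegular_map_algebraMap_iff B B ts]
    exact hrs
  refine ⟨ss ++ ts, ⟨hw, ?_⟩, hkc⟩
  rw [smul_eq_mul, Ideal.mul_top, ← hkc]
  intro h
  have h2 : (1 : A) ∈ RingHom.ker (ψ.comp φ) := by rw [← h]; trivial
  rw [RingHom.mem_ker, map_one] at h2
  exact one_ne_zero h2

/-- Restriction between affine opens is flat. -/
theorem flat_res (X : Scheme.{u}) {V W : X.Opens} (hV : IsAffineOpen V) (hW : IsAffineOpen W)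
    (h : W ≤ V) : (X.presheaf.map (homOfLE h).op).hom.Flat := by
  have := Scheme.Hom.flat_appLE (𝟙 X) hV hW (show W ≤ (𝟙 X) ⁻¹ᵁ V from h)
  have h2 : (𝟙 X : X ⟶ X).appLE V W h = X.presheaf.map (homOfLE h).op := by
    simp [Scheme.Hom.appLE]
    exact Category.id_comp _
  rw [← h2]; exact this

theorem main {Z Y X : Scheme.{u}} (i : Z ⟶ Y) (j : Y ⟶ X)
    (hi : Mor2.IsRegularClosedImmersion i) (hj : Mor2.IsRegularClosedImmersion j) :
    Mor2.IsRegularClosedImmersion (i ≫ j) := by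
  haveI := hi.1
  haveI := hj.1
  refine ⟨inferInstance, fun z => ?_⟩
  obtain ⟨U, hU, hyU, rs, hrs, hkU⟩ := hi.2 z
  obtain ⟨V, hV, hxV, ss, hss, hkV⟩ := hj.2 (i z)
  obtain ⟨U', hU'o, hU'⟩ := (j.isEmbedding.isInducing.isOpen_iff).mp U.isOpen
  have hxU' : j (i z) ∈ (⟨U', hU'o⟩ : X.Opens) := by
    have h0 : i z ∈ j ⁻¹' U' := by rw [hU']; exact hyU
    exact h0
  obtain ⟨f, hfle, hxf⟩ := hV.exists_basicOpen_le (V := V ⊓ ⟨U', hU'o⟩)
    ⟨j (i z), ⟨hxV, hxU'⟩⟩ hxV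
  obtain ⟨W, hWdef⟩ : ∃ W : X.Opens, W = X.basicOpen f := ⟨_, rfl⟩
  rw [← hWdef] at hfle hxf
  have hW : IsAffineOpen W := hWdef ▸ hV.basicOpen f
  have hWV : W ≤ V := hWdef ▸ X.basicOpen_le f
  have hW' : IsAffineOpen (j ⁻¹ᵁ W) := hW.preimage j
  have hW'U : j ⁻¹ᵁ W ≤ U := by
    intro y hy
    have h1 : j y ∈ (⟨U', hU'o⟩ : X.Opens) := (hfle hy).2
    have h2 : y ∈ j ⁻¹' U' := h1
    rw [hU'] at h2
    exact h2
  obtain ⟨ρ, hρdef⟩ : ∃ ρ : Γ(X, V) →+* Γ(X, W), ρ = (X.presheaf.map (homOfLE hWV).op).hom :=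
    ⟨_, rfl⟩
  obtain ⟨ρ', hρ'def⟩ : ∃ ρ' : Γ(Y, U) →+* Γ(Y, j ⁻¹ᵁ W),
    ρ' = (Y.presheaf.map (homOfLE hW'U).op).hom := ⟨_, rfl⟩
  have hρ : ρ.Flat := hρdef ▸ flat_res X hV hW hWV
  have hρ' : ρ'.Flat := hρ'def ▸ flat_res Y hU hW' hW'U
  have hkW : RingHom.ker (j.app W).hom = Ideal.ofList (ss.map ρ) := by
    have hmap : (j.ker.ideal ⟨V, hV⟩).map (X.presheaf.map (homOfLE hWV).op).hom =
        j.ker.ideal ⟨W, hW⟩ := j.ker.map_ideal (U := ⟨W, hW⟩) (V := ⟨V, hV⟩) hWV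
    rw [← Ideal.map_ofList, ← hkV, hρdef, hmap, Scheme.Hom.ker_apply]
  have hkW' : RingHom.ker (i.app (j ⁻¹ᵁ W)).hom = Ideal.ofList (rs.map ρ') := by
    have hmap : (i.ker.ideal ⟨U, hU⟩).map (Y.presheaf.map (homOfLE hW'U).op).hom =
        i.ker.ideal ⟨j ⁻¹ᵁ W, hW'⟩ :=
      i.ker.map_ideal (U := ⟨j ⁻¹ᵁ W, hW'⟩) (V := ⟨U, hU⟩) hW'U
    rw [← Ideal.map_ofList, ← hkU, hρ'def, hmap, Scheme.Hom.ker_apply]
  have hssW : IsWeaklyRegular Γ(X, W) (ss.map ρ) := by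
    letI : Algebra Γ(X, V) Γ(X, W) := ρ.toAlgebra
    haveI : Module.Flat Γ(X, V) Γ(X, W) := hρ
    exact hss.toIsWeaklyRegular.of_flat (S := Γ(X, W))
  have hrsW' : IsWeaklyRegular Γ(Y, j ⁻¹ᵁ W) (rs.map ρ') := by
    letI : Algebra Γ(Y, U) Γ(Y, j ⁻¹ᵁ W) := ρ'.toAlgebra
    haveI : Module.Flat Γ(Y, U) Γ(Y, j ⁻¹ᵁ W) := hρ'
    exact hrs.toIsWeaklyRegular.of_flat (S := Γ(Y, j ⁻¹ᵁ W))
  haveI : Nonempty (i ⁻¹ᵁ (j ⁻¹ᵁ W)) := ⟨⟨z, hxf⟩⟩
  haveI : Nontrivial Γ(Z, i ⁻¹ᵁ (j ⁻¹ᵁ W)) := Scheme.component_nontrivial Z _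
  obtain ⟨ts, hts, hkts⟩ := append_of_surjective (j.app W).hom (j.app_surjective W hW)
    (i.app (j ⁻¹ᵁ W)).hom (ss.map ρ) hssW hkW (rs.map ρ') hrsW' hkW'
  refine ⟨W, hW, by simpa using hxf, ts, hts, ?_⟩
  rw [Scheme.Hom.ker_apply, ← hkts]
  rfl

end Groth.Agent.RegComp
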