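import Mathlib
import Groth.Prelude.Def_CInt
import Groth.Agent.Lib.Regular3_helper5
import Groth.Agent.Lib.CMSeq_helper5
import Groth.Agent.Lib.ExtTop_helper5
import Groth.Agent.Lib.RegComp_helper5

/-!
# Ideals generated by regular sequences modulo a regular quotient (helper5)
-/

open RingTheory.Sequence IsLocalRing

universe u

namespace Groth.Agent.RegQuot

/-- regular local rings are Cohen–Macaulay -/
theorem isCM_of_regular (S : Type u) [CommRing S] [IsRegularLocalRing S] :
    LocCoh.IsCohenMacaulayModule S S := by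
  have h1 : ((Submodule.spanFinrank (maximalIdeal S) : ℕ) : WithBot ℕ∞) = ringKrullDim S :=
    IsRegularLocalRing.spanFinrank_maximalIdeal
  have h2 := Groth.Agent.ExtTop.regular_depth S _ h1.symm
  unfold LocCoh.IsCohenMacaulayModule LocCoh.depth
  rw [Module.supportDim_self_eq_ringKrullDim, h2, ← h1]
  rfl

/-- replace one generator by an element outside `m * (ts)` -/
theorem exists_replace {A : Type u} [CommRing A] [IsLocalRing A] :
    ∀ (ts : List A) (x : A), x ∈ Ideal.ofList ts → x ∉ maximalIdeal A * Ideal.ofList ts →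
      ∃ ts' : List A, ts'.length + 1 = ts.length ∧
        Ideal.ofList ts = Ideal.span {x} ⊔ Ideal.ofList ts' := by
  intro ts
  induction ts with
  | nil =>
    intro x hx hx2
    rw [Ideal.ofList_nil] at hx
    exfalso
    apply hx2
    rw [Ideal.mem_bot.mp hx]
    exact Ideal.zero_mem _
  | cons t tl ih =>
    intro x hx hx2
    rw [Ideal.ofList_cons, Ideal.mem_span_singleton_sup] at hx
    obtain ⟨a, y, hy, rfl⟩ := hx
    by_cases ha : IsUnit a
    · refine ⟨tl, rfl, ?_⟩
      rw [Ideal.ofList_cons]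
      apply le_antisymm
      · refine sup_le ?_ le_sup_right
        rw [Ideal.span_singleton_le_iff_mem]
        obtain ⟨u, rfl⟩ := ha
        have hmem : ↑u⁻¹ * (↑u * t + y) - ↑u⁻¹ * y ∈
            Ideal.span {↑u * t + y} ⊔ Ideal.ofList tl :=
          Ideal.sub_mem _
            (Ideal.mul_mem_left _ _ (Ideal.mem_sup_left (Ideal.mem_span_singleton_self _)))
            (Ideal.mul_mem_left _ _ (Ideal.mem_sup_right hy))
        have h1 : ↑u⁻¹ * (↑u * t + y) - ↑u⁻¹ * y = t := by
          rw [mul_add, ← mul_assoc, Units.inv_mul, one_mul]; ring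
        rw [h1] at hmem
        exact hmem
      · refine sup_le ?_ le_sup_right
        rw [Ideal.span_singleton_le_iff_mem]
        exact Ideal.add_mem _
          (Ideal.mul_mem_left _ _ (Ideal.mem_sup_left (Ideal.mem_span_singleton_self _)))
          (Ideal.mem_sup_right hy)
    · have ham : a ∈ maximalIdeal A := (IsLocalRing.mem_maximalIdeal a).mpr ha
      have hy2 : y ∉ maximalIdeal A * Ideal.ofList tl := by
        intro hy2
        apply hx2
        rw [Ideal.ofList_cons]
        refine Ideal.add_mem _ ?_ ?_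
        · exact Ideal.mul_mem_mul ham (Ideal.mem_sup_left (Ideal.mem_span_singleton_self t))
        · exact Ideal.mul_mono_right le_sup_right hy2
      obtain ⟨tl', hlen, htl⟩ := ih y hy hy2
      refine ⟨t :: tl', by simp [hlen], ?_⟩
      rw [Ideal.ofList_cons, Ideal.ofList_cons, htl]
      apply le_antisymm
      · refine sup_le (le_sup_of_le_right le_sup_left)
          (sup_le ?_ (le_sup_of_le_right le_sup_right))
        rw [Ideal.span_singleton_le_iff_mem]
        have hmem : (a * t + y) - a * t ∈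
            Ideal.span {a * t + y} ⊔ (Ideal.span {t} ⊔ Ideal.ofList tl') :=
          Ideal.sub_mem _ (Ideal.mem_sup_left (Ideal.mem_span_singleton_self _))
            (Ideal.mem_sup_right (Ideal.mem_sup_left
              (Ideal.mul_mem_left _ _ (Ideal.mem_span_singleton_self _))))
        have h1 : (a * t + y) - a * t = y := by ring
        rw [h1] at hmem
        exact hmem
      · refine sup_le ?_ (sup_le le_sup_left ?_)
        · rw [Ideal.span_singleton_le_iff_mem]
          exact Ideal.add_mem _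
            (Ideal.mem_sup_left (Ideal.mul_mem_left _ _ (Ideal.mem_span_singleton_self _)))
            (Ideal.mem_sup_right (Ideal.mem_sup_left (Ideal.mem_span_singleton_self _)))
        · exact le_sup_of_le_right le_sup_right

/-- transport of regular ideals along ring isomorphisms -/
theorem isRegularIdeal_map_equiv {R S : Type u} [CommRing R] [CommRing S] (e : R ≃+* S)
    (I : Ideal R) (h : CInt.IsRegularIdeal I) : CInt.IsRegularIdeal (I.map (e : R →+* S)) := by
  obtain ⟨rs, hrs, rfl⟩ := h
  refine ⟨rs.map e, ?_, by rw [Ideal.map_ofList]; rfl⟩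
  exact (AddEquiv.isRegular_congr (e := e.toAddEquiv)
    (List.forall₂_map_right_iff.mpr (List.forall₂_same.mpr fun r _ x => map_mul e r x))).mp hrs

theorem isRegularIdeal_map_equiv_iff {R S : Type u} [CommRing R] [CommRing S] (e : R ≃+* S)
    (I : Ideal R) : CInt.IsRegularIdeal (I.map (e : R →+* S)) ↔ CInt.IsRegularIdeal I := by
  refine ⟨fun h => ?_, isRegularIdeal_map_equiv e I⟩
  have := isRegularIdeal_map_equiv e.symm _ h
  rwa [Ideal.map_of_equiv] at this

/-- the key step: quotient by one element of `K` outside `m²` -/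
theorem key_step (A : Type u) [CommRing A] [IsRegularLocalRing A] (K : Ideal A)
    (hK : K ≤ maximalIdeal A) (x : A) (hxK : x ∈ K) (hx2 : x ∉ maximalIdeal A ^ 2)
    (hreg : CInt.IsRegularIdeal K) [IsRegularLocalRing (A ⧸ Ideal.span {x})] :
    CInt.IsRegularIdeal (K.map (Ideal.Quotient.mk (Ideal.span {x}))) := by
  obtain ⟨ts, hts, rfl⟩ := hreg
  have hx2' : x ∉ maximalIdeal A * Ideal.ofList ts := fun h =>
    hx2 (by rw [pow_two]; exact Ideal.mul_mono_right hK h)
  obtain ⟨ts', hlen, hsup⟩ := exists_replace ts x hxK hx2'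
  have surj : Function.Surjective (Ideal.Quotient.mk (Ideal.span {x})) :=
    Ideal.Quotient.mk_surjective
  have hmap : (Ideal.ofList ts).map (Ideal.Quotient.mk (Ideal.span {x})) =
      Ideal.ofList (ts'.map (Ideal.Quotient.mk (Ideal.span {x}))) := by
    rw [hsup, Ideal.map_sup, Ideal.map_quotient_self, bot_sup_eq, Ideal.map_ofList]
  refine ⟨ts'.map (Ideal.Quotient.mk (Ideal.span {x})), ?_, hmap.symm⟩
  have hmem : ∀ b ∈ ts'.map (Ideal.Quotient.mk (Ideal.span {x})),
      b ∈ maximalIdeal (A ⧸ Ideal.span {x}) := by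
    intro b hb
    obtain ⟨t, ht, rfl⟩ := List.mem_map.mp hb
    have h1 : t ∈ maximalIdeal A := by
      apply hK
      rw [hsup]
      exact Ideal.mem_sup_right (Ideal.subset_span ht)
    rw [← IsLocalRing.map_maximalIdeal_of_surjective _ surj]
    exact Ideal.mem_map_of_mem _ h1
  refine IsRegular.of_isWeaklyRegular_of_mem_maximalIdeal (A ⧸ Ideal.span {x}) hmem ?_
  have hCM := isCM_of_regular (A ⧸ Ideal.span {x})
  rw [(Groth.Agent.DepthLib.isCM_list (ts'.map (Ideal.Quotient.mk (Ideal.span {x})))
    (A ⧸ Ideal.span {x}) hCM hmem).1]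
  rw [Groth.Agent.DepthLib.supportDim_quot_smul_top_self, Module.supportDim_self_eq_ringKrullDim,
    List.length_map]
  have hd1 : ringKrullDim (A ⧸ Ideal.ofList ts) + ts.length = ringKrullDim A :=
    ringKrullDim_add_length_eq_ringKrullDim_of_isRegular ts hts
  haveI : IsDomain A := Groth.Agent.RegularLib.isDomain A
  have hx0 : x ≠ 0 := fun h => hx2 (h ▸ Ideal.zero_mem _)
  have hd2 : ringKrullDim (A ⧸ Ideal.span {x}) + 1 = ringKrullDim A :=
    ringKrullDim_quotient_span_singleton_succ_eq_ringKrullDim_of_mem_nonZeroDivisors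
      (mem_nonZeroDivisors_of_ne_zero hx0) (hK hxK)
  have hle : Ideal.span {x} ≤ Ideal.ofList ts := by
    rw [Ideal.span_singleton_le_iff_mem]; exact hxK
  have e : ((A ⧸ Ideal.span {x}) ⧸
      Ideal.ofList (ts'.map (Ideal.Quotient.mk (Ideal.span {x})))) ≃+* (A ⧸ Ideal.ofList ts) :=
    (Ideal.quotEquivOfEq hmap.symm).trans (DoubleQuot.quotQuotEquivQuotOfLE hle)
  rw [ringKrullDim_eq_of_ringEquiv e]
  apply Groth.Agent.DepthLib.add_one_cancel'
  rw [← hlen] at hd1
  push_cast at hd1
  rw [← add_assoc] at hd1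
  rw [hd1, hd2]

theorem map_aux : ∀ (n : ℕ) (A : Type u) [CommRing A] [IsRegularLocalRing A] (J K : Ideal A)
    [IsRegularLocalRing (A ⧸ J)], (maximalIdeal A).spanFinrank = n → J ≤ K →
    K ≤ maximalIdeal A → CInt.IsRegularIdeal K →
    CInt.IsRegularIdeal (K.map (Ideal.Quotient.mk J)) := by
  intro n
  induction n with
  | zero =>
    intro A _ _ J K _ h hJK hK hreg
    have hbot : maximalIdeal A = ⊥ :=
      (Submodule.spanFinrank_eq_zero_iff_eq_bot (IsNoetherian.noetherian _)).mp h
    have hK0 : K = ⊥ := by rw [hbot] at hK; exact le_bot_iff.mp hK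
    refine ⟨[], ?_, by simp [hK0]⟩
    exact IsRegular.of_isWeaklyRegular_of_mem_maximalIdeal (A ⧸ J) (by simp) (IsWeaklyRegular.nil _ _)
  | succ n ih =>
    intro A _ _ J K _ h hJK hK hreg
    by_cases hJ0 : J = ⊥
    · subst hJ0
      exact isRegularIdeal_map_equiv (RingEquiv.quotientBot A).symm K hreg
    · obtain ⟨x, hxJ, hx2⟩ := Groth.Agent.RegularLib.exists_mem_not_mem_sq A J hJ0
      obtain ⟨inst1, inst2, hq⟩ := Groth.Agent.RegularLib.quotient_step A J x hxJ hx2
      have hK' := key_step A K hK x (hJK hxJ) hx2 hreg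
      have surj : Function.Surjective (Ideal.Quotient.mk (Ideal.span {x})) :=
        Ideal.Quotient.mk_surjective
      have hKle : K.map (Ideal.Quotient.mk (Ideal.span {x})) ≤
          maximalIdeal (A ⧸ Ideal.span {x}) := by
        rw [← IsLocalRing.map_maximalIdeal_of_surjective _ surj]
        exact Ideal.map_mono hK
      have h3 := ih (A ⧸ Ideal.span {x}) (J.map (Ideal.Quotient.mk (Ideal.span {x})))
        (K.map (Ideal.Quotient.mk (Ideal.span {x}))) (by omega) (Ideal.map_mono hJK) hKle hK'
      have hle : Ideal.span {x} ≤ J := by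
        rw [Ideal.span_singleton_le_iff_mem]; exact hxJ
      have h4 := isRegularIdeal_map_equiv (DoubleQuot.quotQuotEquivQuotOfLE hle) _ h3
      rw [Ideal.map_map, Ideal.map_map] at h4
      have hcomp : ((DoubleQuot.quotQuotEquivQuotOfLE hle : _ →+* _).comp
          (Ideal.Quotient.mk (J.map (Ideal.Quotient.mk (Ideal.span {x}))))).comp
          (Ideal.Quotient.mk (Ideal.span {x})) = Ideal.Quotient.mk J := by
        ext a; rfl
      rw [hcomp] at h4
      exact h4

/-- S2838, forward direction -/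
theorem forward (A : Type u) [CommRing A] [IsRegularLocalRing A] (J K : Ideal A) (hJK : J ≤ K)
    (hK : K ≤ maximalIdeal A) [IsRegularLocalRing (A ⧸ J)] (h : CInt.IsRegularIdeal K) :
    CInt.IsRegularIdeal (K.map (Ideal.Quotient.mk J)) :=
  map_aux _ A J K rfl hJK hK h

/-- S2838, backward direction -/
theorem backward (A : Type u) [CommRing A] [IsRegularLocalRing A] (J K : Ideal A) (hJK : J ≤ K)
    [IsRegularLocalRing (A ⧸ J)] (h : CInt.IsRegularIdeal (K.map (Ideal.Quotient.mk J))) :
    CInt.IsRegularIdeal K := by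
  obtain ⟨rs, hrs, hrsK⟩ := h
  obtain ⟨ss, hss, hssJ⟩ := Groth.Agent.RegularLib.exists_isRegular A J
  have hne : K.map (Ideal.Quotient.mk J) ≠ ⊤ := by
    rw [← hrsK]
    intro htop
    have := hrs.top_ne_smul
    rw [smul_eq_mul, Ideal.mul_top, htop] at this
    exact this rfl
  haveI : Nontrivial ((A ⧸ J) ⧸ K.map (Ideal.Quotient.mk J)) :=
    Ideal.Quotient.nontrivial_iff.mpr hne
  obtain ⟨ts, hts, hkts⟩ := Groth.Agent.RegComp.append_of_surjective (Ideal.Quotient.mk J)
    Ideal.Quotient.mk_surjective (Ideal.Quotient.mk (K.map (Ideal.Quotient.mk J)))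
    ss hss.toIsWeaklyRegular (by rw [Ideal.mk_ker, hssJ]) rs hrs.toIsWeaklyRegular
    (by rw [Ideal.mk_ker, hrsK])
  refine ⟨ts, hts, ?_⟩
  rw [← hkts, ← RingHom.comap_ker, Ideal.mk_ker,
    Ideal.comap_map_of_surjective _ Ideal.Quotient.mk_surjective, ← RingHom.ker_eq_comap_bot,
    Ideal.mk_ker]
  exact sup_eq_left.mpr hJK

/-- kernel form, for surjections between regular local rings -/
theorem ker_iff {A B C : Type u} [CommRing A] [CommRing B] [CommRing C] [IsRegularLocalRing A]
    [IsRegularLocalRing B] [Nontrivial C] (φ : A →+* B) (hφ : Function.Surjective φ)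
    (ψ : B →+* C) :
    CInt.IsRegularIdeal (RingHom.ker (ψ.comp φ)) ↔ CInt.IsRegularIdeal (RingHom.ker ψ) := by
  let e : (A ⧸ RingHom.ker φ) ≃+* B := RingHom.quotientKerEquivOfSurjective hφ
  haveI : IsRegularLocalRing (A ⧸ RingHom.ker φ) := IsRegularLocalRing.of_ringEquiv e.symm
  have hJK : RingHom.ker φ ≤ RingHom.ker (ψ.comp φ) := by
    intro a ha
    rw [RingHom.mem_ker] at ha ⊢
    rw [RingHom.comp_apply, ha, map_zero]
  have hK : RingHom.ker (ψ.comp φ) ≤ maximalIdeal A :=
    IsLocalRing.le_maximalIdeal (RingHom.ker_ne_top _)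
  have hmap : ((RingHom.ker (ψ.comp φ)).map (Ideal.Quotient.mk (RingHom.ker φ))).map
      (e : _ →+* B) = RingHom.ker ψ := by
    rw [Ideal.map_map]
    have hc : (e : _ →+* B).comp (Ideal.Quotient.mk (RingHom.ker φ)) = φ := by
      ext a; rfl
    rw [hc, ← RingHom.comap_ker, Ideal.map_comap_of_surjective φ hφ]
  rw [← hmap, isRegularIdeal_map_equiv_iff]
  exact ⟨forward A _ _ hJK hK, backward A _ _ hJK⟩

end Groth.Agent.RegQuot
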