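import Mathlib

/-!
Base change of exterior algebras and exterior powers (helper9).  APPEND-ONLY once landed.

For commutative rings `A → B` and an `A`-module `M`:
`B ⊗[A] ExteriorAlgebra A M ≃ₐ[B] ExteriorAlgebra B (B ⊗[A] M)` and, degreewise,
`B ⊗[A] ⋀[A]^p M ≃ₗ[B] ⋀[B]^p (B ⊗[A] M)`.
-/

set_option autoImplicit false
universe u

open TensorProduct

namespace Groth.Agent.ExtBC9

section Alg

variable (A B M : Type*) [CommRing A] [CommRing B] [Algebra A B] [AddCommGroup M] [Module A M]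

/-- `B ⊗ M → B ⊗ E_A(M)`, the base change of `ι`. -/
noncomputable def phi : B ⊗[A] M →ₗ[B] B ⊗[A] ExteriorAlgebra A M :=
  LinearMap.baseChange B (ExteriorAlgebra.ι A)

@[simp] lemma phi_tmul (b : B) (m : M) :
    phi A B M (b ⊗ₜ m) = b ⊗ₜ ExteriorAlgebra.ι A m := by
  simp [phi]

lemma phi_mul_swap (x y : B ⊗[A] M) :
    phi A B M x * phi A B M y + phi A B M y * phi A B M x = 0 := by
  induction x with
  | zero => simp
  | add x₁ x₂ h₁ h₂ =>
    rw [map_add, add_mul, mul_add]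
    calc _ = (phi A B M x₁ * phi A B M y + phi A B M y * phi A B M x₁) +
        (phi A B M x₂ * phi A B M y + phi A B M y * phi A B M x₂) := by abel
      _ = 0 := by rw [h₁, h₂, add_zero]
  | tmul b m =>
    induction y with
    | zero => simp
    | add y₁ y₂ h₁ h₂ =>
      rw [map_add, add_mul, mul_add]
      calc _ = (phi A B M (b ⊗ₜ m) * phi A B M y₁ + phi A B M y₁ * phi A B M (b ⊗ₜ m)) +
          (phi A B M (b ⊗ₜ m) * phi A B M y₂ + phi A B M y₂ * phi A B M (b ⊗ₜ m)) := by abel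
        _ = 0 := by rw [h₁, h₂, add_zero]
    | tmul b' m' =>
      rw [phi_tmul, phi_tmul, Algebra.TensorProduct.tmul_mul_tmul,
        Algebra.TensorProduct.tmul_mul_tmul, mul_comm b' b, ← TensorProduct.tmul_add,
        ExteriorAlgebra.ι_add_mul_swap, tmul_zero]

lemma phi_sq (x : B ⊗[A] M) : phi A B M x * phi A B M x = 0 := by
  induction x with
  | zero => simp
  | add x₁ x₂ h₁ h₂ =>
    rw [map_add, add_mul, mul_add, mul_add, h₁, h₂]
    have := phi_mul_swap A B M x₁ x₂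
    calc _ = phi A B M x₁ * phi A B M x₂ + phi A B M x₂ * phi A B M x₁ := by abel
      _ = 0 := this
  | tmul b m =>
    rw [phi_tmul, Algebra.TensorProduct.tmul_mul_tmul, ExteriorAlgebra.ι_sq_zero, tmul_zero]

/-- `E_B(B ⊗ M) → B ⊗ E_A(M)`. -/
noncomputable def G : ExteriorAlgebra B (B ⊗[A] M) →ₐ[B] B ⊗[A] ExteriorAlgebra A M :=
  ExteriorAlgebra.lift B ⟨phi A B M, phi_sq A B M⟩

@[simp] lemma G_ι (x : B ⊗[A] M) : G A B M (ExteriorAlgebra.ι B x) = phi A B M x := by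
  simp [G]

/-- The `A`-linear map `M → E_B(B ⊗ M)`, `m ↦ ι (1 ⊗ m)`. -/
noncomputable def iotaA : M →ₗ[A] ExteriorAlgebra B (B ⊗[A] M) :=
  ((ExteriorAlgebra.ι B : B ⊗[A] M →ₗ[B] ExteriorAlgebra B (B ⊗[A] M)).restrictScalars A) ∘ₗ
    (TensorProduct.mk A B M 1)

@[simp] lemma iotaA_apply (m : M) : iotaA A B M m = ExteriorAlgebra.ι B ((1 : B) ⊗ₜ[A] m) := rfl

/-- `E_A(M) → E_B(B ⊗ M)` as `A`-algebras. -/
noncomputable def gA : ExteriorAlgebra A M →ₐ[A] ExteriorAlgebra B (B ⊗[A] M) :=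
  ExteriorAlgebra.lift A ⟨iotaA A B M, fun m => by simp [ExteriorAlgebra.ι_sq_zero]⟩

@[simp] lemma gA_ι (m : M) :
    gA A B M (ExteriorAlgebra.ι A m) = ExteriorAlgebra.ι B ((1 : B) ⊗ₜ[A] m) := by
  simp [gA]

/-- `B ⊗ E_A(M) → E_B(B ⊗ M)`. -/
noncomputable def F : B ⊗[A] ExteriorAlgebra A M →ₐ[B] ExteriorAlgebra B (B ⊗[A] M) :=
  Algebra.TensorProduct.lift (Algebra.ofId B _) (gA A B M) (fun x y => Algebra.commutes _ _)

@[simp] lemma F_tmul (b : B) (x : ExteriorAlgebra A M) :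
    F A B M (b ⊗ₜ x) = b • gA A B M x := by
  simp [F, Algebra.ofId_apply, Algebra.smul_def]

lemma G_comp_F : (G A B M).comp (F A B M) = AlgHom.id B _ := by
  apply Algebra.TensorProduct.ext
  · ext
  · apply ExteriorAlgebra.hom_ext
    ext m
    simp

lemma F_comp_G : (F A B M).comp (G A B M) = AlgHom.id B _ := by
  apply ExteriorAlgebra.hom_ext
  apply TensorProduct.AlgebraTensorModule.ext
  intro b m
  simp only [LinearMap.comp_apply, AlgHom.toLinearMap_apply, AlgHom.comp_apply, G_ι, phi_tmul,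
    F_tmul, gA_ι, AlgHom.id_apply]
  rw [← map_smul, TensorProduct.smul_tmul', smul_eq_mul, mul_one]

lemma G_F (x : B ⊗[A] ExteriorAlgebra A M) : G A B M (F A B M x) = x :=
  AlgHom.congr_fun (G_comp_F A B M) x

lemma F_G (x : ExteriorAlgebra B (B ⊗[A] M)) : F A B M (G A B M x) = x :=
  AlgHom.congr_fun (F_comp_G A B M) x

end Alg

section Pow

variable (A B M : Type*) [CommRing A] [CommRing B] [Algebra A B] [AddCommGroup M] [Module A M]
variable (p : ℕ)

/-- The `A`-alternating map `M^p → ⋀[B]^p (B ⊗ M)`, `m ↦ (1 ⊗ m₁) ∧ … ∧ (1 ⊗ m_p)`. -/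
noncomputable def altA : M [⋀^Fin p]→ₗ[A] ↥(⋀[B]^p (B ⊗[A] M)) :=
  { ((exteriorPower.ιMulti B p (M := B ⊗[A] M)).toMultilinearMap.restrictScalars A).compLinearMap
      (fun _ => TensorProduct.mk A B M 1) with
    map_eq_zero_of_eq' := by
      intro v i j h hij
      exact (exteriorPower.ιMulti B p (M := B ⊗[A] M)).map_eq_zero_of_eq _
        (by simp [h]) hij }

@[simp] lemma altA_apply (m : Fin p → M) :
    altA A B M p m = exteriorPower.ιMulti B p (fun i => (1 : B) ⊗ₜ[A] m i) := rfl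

/-- `B ⊗ ⋀[A]^p M → ⋀[B]^p (B ⊗ M)`. -/
noncomputable def fP : B ⊗[A] ↥(⋀[A]^p M) →ₗ[B] ↥(⋀[B]^p (B ⊗[A] M)) :=
  LinearMap.liftBaseChange B (exteriorPower.alternatingMapLinearEquiv (altA A B M p))

@[simp] lemma fP_tmul (b : B) (m : Fin p → M) :
    fP A B M p (b ⊗ₜ exteriorPower.ιMulti A p m) =
      b • exteriorPower.ιMulti B p (fun i => (1 : B) ⊗ₜ[A] m i) := by
  simp [fP]

/-- The projection `E_A(M) → ⋀[A]^p M` onto the degree-`p` part. -/
noncomputable def projP : ExteriorAlgebra A M →ₗ[A] ↥(⋀[A]^p M) :=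
  (DirectSum.component A ℕ (fun i => ↥(⋀[A]^i M)) p) ∘ₗ
    (DirectSum.decomposeLinearEquiv (fun i => ⋀[A]^i M)).toLinearMap

lemma projP_coe (x : ↥(⋀[A]^p M)) : projP A M p (x : ExteriorAlgebra A M) = x := by
  simp [projP, DirectSum.decompose_coe, DirectSum.component.of]

/-- `⋀[B]^p (B ⊗ M) → B ⊗ ⋀[A]^p M`. -/
noncomputable def gP : ↥(⋀[B]^p (B ⊗[A] M)) →ₗ[B] B ⊗[A] ↥(⋀[A]^p M) :=
  (LinearMap.baseChange B (projP A M p)) ∘ₗ (G A B M).toLinearMap ∘ₗ
    (⋀[B]^p (B ⊗[A] M)).subtype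

lemma G_ιMulti_one (m : Fin p → M) :
    G A B M (ExteriorAlgebra.ιMulti B p (fun i => (1 : B) ⊗ₜ[A] m i)) =
      (1 : B) ⊗ₜ[A] (ExteriorAlgebra.ιMulti A p m) := by
  rw [ExteriorAlgebra.ιMulti_apply, ExteriorAlgebra.ιMulti_apply, map_list_prod, List.map_ofFn]
  have : (⇑(G A B M) ∘ fun i => ExteriorAlgebra.ι B ((1 : B) ⊗ₜ[A] m i)) =
      fun i => (Algebra.TensorProduct.includeRight : ExteriorAlgebra A M →ₐ[A] B ⊗[A] _)
        (ExteriorAlgebra.ι A (m i)) := by
    funext i; simp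
  rw [this, ← Algebra.TensorProduct.includeRight_apply, map_list_prod, List.map_ofFn]
  rfl

lemma gP_ιMulti_one (m : Fin p → M) :
    gP A B M p (exteriorPower.ιMulti B p (fun i => (1 : B) ⊗ₜ[A] m i)) =
      (1 : B) ⊗ₜ[A] exteriorPower.ιMulti A p m := by
  simp only [gP, LinearMap.comp_apply, Submodule.subtype_apply, exteriorPower.ιMulti_apply_coe,
    AlgHom.toLinearMap_apply, G_ιMulti_one, LinearMap.baseChange_tmul]
  rw [← exteriorPower.ιMulti_apply_coe, projP_coe]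

lemma gP_comp_fP : (gP A B M p) ∘ₗ (fP A B M p) = LinearMap.id := by
  apply TensorProduct.AlgebraTensorModule.curry_injective
  apply LinearMap.ext
  intro b
  apply exteriorPower.linearMap_ext
  ext m
  simp only [AlgebraTensorModule.curry_apply, LinearMap.restrictScalars_comp, curry_apply,
    LinearMap.coe_comp, LinearMap.coe_restrictScalars, Function.comp_apply,
    LinearMap.compAlternatingMap_apply, fP_tmul, map_smul, gP_ιMulti_one, LinearMap.id_coe, id_eq]
  rw [TensorProduct.smul_tmul', smul_eq_mul, mul_one]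

lemma fP_injective : Function.Injective (fP A B M p) := by
  intro x y h
  have := congrArg (gP A B M p) h
  simpa [← LinearMap.comp_apply, gP_comp_fP] using this

lemma span_one_tmul : Submodule.span B (Set.range fun m : M => (1 : B) ⊗ₜ[A] m) = ⊤ := by
  rw [eq_top_iff]
  rintro x -
  induction x with
  | zero => exact Submodule.zero_mem _
  | add x y hx hy => exact Submodule.add_mem _ hx hy
  | tmul b m =>
    have : b ⊗ₜ[A] m = b • ((1 : B) ⊗ₜ[A] m) := by
      rw [TensorProduct.smul_tmul', smul_eq_mul, mul_one]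
    rw [this]
    exact Submodule.smul_mem _ _ (Submodule.subset_span ⟨m, rfl⟩)

lemma fP_surjective : Function.Surjective (fP A B M p) := by
  rw [← LinearMap.range_eq_top, eq_top_iff,
    ← exteriorPower.ιMulti_span_of_span B p (B ⊗[A] M) (span_one_tmul A B M), Submodule.span_le]
  rintro _ ⟨a, ha, rfl⟩
  have : ∀ i, ∃ m : M, (1 : B) ⊗ₜ[A] m = a i := fun i => ha ⟨i, rfl⟩
  choose m hm using this
  refine ⟨(1 : B) ⊗ₜ exteriorPower.ιMulti A p m, ?_⟩
  rw [fP_tmul, one_smul]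
  congr 1
  funext i
  exact hm i

/-- Base change of exterior powers: `B ⊗[A] ⋀[A]^p M ≃ₗ[B] ⋀[B]^p (B ⊗[A] M)`. -/
noncomputable def equivP : (B ⊗[A] ↥(⋀[A]^p M)) ≃ₗ[B] ↥(⋀[B]^p (B ⊗[A] M)) :=
  LinearEquiv.ofBijective (fP A B M p) ⟨fP_injective A B M p, fP_surjective A B M p⟩

@[simp] lemma equivP_tmul (b : B) (m : Fin p → M) :
    equivP A B M p (b ⊗ₜ exteriorPower.ιMulti A p m) =
      b • exteriorPower.ιMulti B p (fun i => (1 : B) ⊗ₜ[A] m i) :=
  fP_tmul A B M p b m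

end Pow

section MapEquiv

variable {A M N : Type*} [CommRing A] [AddCommGroup M] [Module A M] [AddCommGroup N] [Module A N]

lemma map_bijective_of_equiv (p : ℕ) (e : M ≃ₗ[A] N) :
    Function.Bijective (exteriorPower.map p e.toLinearMap) := by
  rw [Function.bijective_iff_has_inverse]
  refine ⟨exteriorPower.map p e.symm.toLinearMap, fun x => ?_, fun x => ?_⟩
  · rw [← LinearMap.comp_apply, ← exteriorPower.map_comp]
    simp
  · rw [← LinearMap.comp_apply, ← exteriorPower.map_comp]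
    simp

end MapEquiv

end Groth.Agent.ExtBC9
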