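import Mathlib

/-!
The kernel of the exterior power of a surjective linear map (helper9).  APPEND-ONLY once landed.

For `π : M → M'` surjective, `ker (⋀^(q+1) π)` is spanned by the `m₀ ∧ m₁ ∧ … ∧ m_q` with `π m₀ = 0`.
-/

set_option autoImplicit false
universe u

open exteriorPower

namespace Groth.Agent.ExtKer9

variable {A M M' : Type*} [CommRing A] [AddCommGroup M] [Module A M] [AddCommGroup M'] [Module A M']
variable (π : M →ₗ[A] M') (q : ℕ)

/-- The span of the wedges whose first entry is killed by `π`. -/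
def K : Submodule A ↥(⋀[A]^(q + 1) M) :=
  Submodule.span A {x | ∃ m : Fin (q + 1) → M, π (m 0) = 0 ∧ x = ιMulti A (q + 1) m}

lemma ιMulti_mem_K (m : Fin (q + 1) → M) (i : Fin (q + 1)) (hi : π (m i) = 0) :
    ιMulti A (q + 1) m ∈ K π q := by
  by_cases h0 : i = 0
  · subst h0
    exact Submodule.subset_span ⟨m, hi, rfl⟩
  · have h := (ιMulti A (q + 1) (M := M)).map_swap m (Ne.symm h0)
    have h' : ιMulti A (q + 1) m = - ιMulti A (q + 1) (m ∘ Equiv.swap 0 i) := by
      rw [h, neg_neg]
    rw [h']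
    refine Submodule.neg_mem _ (Submodule.subset_span ⟨_, ?_, rfl⟩)
    simpa using hi

lemma ιMulti_add_sub_mem_K (m n : Fin (q + 1) → M) (hn : ∀ i, π (n i) = 0) :
    ιMulti A (q + 1) (m + n) - ιMulti A (q + 1) m ∈ K π q := by
  classical
  rw [(ιMulti A (q + 1) (M := M)).map_add_univ m n,
    ← Finset.add_sum_erase Finset.univ _ (Finset.mem_univ Finset.univ)]
  have : (Finset.univ : Finset (Fin (q + 1))).piecewise m n = m := by
    funext i; simp
  rw [this, add_sub_cancel_left]
  refine Submodule.sum_mem _ (fun s hs => ?_)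
  have hs' : s ≠ Finset.univ := Finset.ne_of_mem_erase hs
  obtain ⟨i, hi⟩ : ∃ i, i ∉ s := by
    by_contra hcon
    push_neg at hcon
    exact hs' (Finset.eq_univ_iff_forall.mpr hcon)
  refine ιMulti_mem_K π q _ i ?_
  rw [Finset.piecewise_eq_of_notMem _ _ _ hi]
  exact hn i

lemma mkQ_ιMulti_congr (m m' : Fin (q + 1) → M) (h : ∀ i, π (m i) = π (m' i)) :
    (K π q).mkQ (ιMulti A (q + 1) m) = (K π q).mkQ (ιMulti A (q + 1) m') := by
  have hm : m = m' + (m - m') := by abel
  rw [← sub_eq_zero, ← map_sub, Submodule.mkQ_apply, Submodule.Quotient.mk_eq_zero]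
  rw [hm]
  exact ιMulti_add_sub_mem_K π q m' (m - m') (fun i => by simp [h i])

variable {π} in
/-- The alternating map `M'^(q+1) → ⋀^(q+1) M ⧸ K` obtained by lifting through `π`. -/
noncomputable def liftAlt (hπ : Function.Surjective π) :
    M' [⋀^Fin (q + 1)]→ₗ[A] (↥(⋀[A]^(q + 1) M) ⧸ K π q) where
  toFun m' := (K π q).mkQ (ιMulti A (q + 1) (fun i => Function.surjInv hπ (m' i)))
  map_update_add' := by
    intro _ m' i x y
    have e : ∀ z, (fun j => Function.surjInv hπ (Function.update m' i z j)) =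
        Function.update (fun j => Function.surjInv hπ (m' j)) i (Function.surjInv hπ z) := by
      intro z
      funext j
      by_cases hj : j = i
      · subst hj; simp
      · simp [Function.update_of_ne hj]
    rw [e, e, e, ← map_add, ← (ιMulti A (q + 1) (M := M)).map_update_add]
    apply mkQ_ιMulti_congr
    intro j
    by_cases hj : j = i
    · subst hj
      simp [Function.surjInv_eq hπ]
    · simp [Function.update_of_ne hj]
  map_update_smul' := by
    intro _ m' i c x
    have e : ∀ z, (fun j => Function.surjInv hπ (Function.update m' i z j)) =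
        Function.update (fun j => Function.surjInv hπ (m' j)) i (Function.surjInv hπ z) := by
      intro z
      funext j
      by_cases hj : j = i
      · subst hj; simp
      · simp [Function.update_of_ne hj]
    rw [e, e, ← map_smul, ← (ιMulti A (q + 1) (M := M)).map_update_smul]
    apply mkQ_ιMulti_congr
    intro j
    by_cases hj : j = i
    · subst hj
      simp [Function.surjInv_eq hπ]
    · simp [Function.update_of_ne hj]
  map_eq_zero_of_eq' := by
    intro m' i j h hij
    rw [(ιMulti A (q + 1) (M := M)).map_eq_zero_of_eq _ (by simp [h]) hij, map_zero]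

variable {π} in
lemma liftAlt_apply (hπ : Function.Surjective π) (m' : Fin (q + 1) → M') :
    liftAlt q hπ m' =
      (K π q).mkQ (ιMulti A (q + 1) (fun i => Function.surjInv hπ (m' i))) := rfl

variable {π} in
lemma lift_comp_map (hπ : Function.Surjective π) :
    (alternatingMapLinearEquiv (liftAlt q hπ)) ∘ₗ (exteriorPower.map (q + 1) π) = (K π q).mkQ := by
  apply exteriorPower.linearMap_ext
  ext m
  simp only [LinearMap.compAlternatingMap_apply, LinearMap.comp_apply, map_apply_ιMulti,
    alternatingMapLinearEquiv_apply_ιMulti, liftAlt_apply]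
  apply mkQ_ιMulti_congr
  intro i
  simp [Function.surjInv_eq hπ]

variable {π} in
/-- The kernel of `⋀^(q+1) π` is contained in `K`. -/
theorem ker_map_le (hπ : Function.Surjective π) :
    LinearMap.ker (exteriorPower.map (q + 1) π) ≤ K π q := by
  intro x hx
  rw [LinearMap.mem_ker] at hx
  have := LinearMap.congr_fun (lift_comp_map q hπ) x
  rw [LinearMap.comp_apply, hx, map_zero] at this
  rw [← Submodule.Quotient.mk_eq_zero, ← Submodule.mkQ_apply]
  exact this.symm

section Wedge

variable (A) (M) in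
/-- `C n y = n ∧ y`, as a bilinear map `M → ⋀^q M → ⋀^(q+1) M`. -/
noncomputable def C : M →ₗ[A] (↥(⋀[A]^q M) →ₗ[A] ↥(⋀[A]^(q + 1) M)) :=
  (alternatingMapLinearEquiv (R := A) (M := M) (n := q)
      (N := ↥(⋀[A]^(q + 1) M))).toLinearMap ∘ₗ (ιMulti A (q + 1) (M := M)).curryLeft

lemma C_ιMulti (n : M) (t : Fin q → M) :
    C A M q n (ιMulti A q t) = ιMulti A (q + 1) (Fin.cons n t) := by
  simp only [C, LinearMap.comp_apply, LinearEquiv.coe_coe, alternatingMapLinearEquiv_apply_ιMulti,
    AlternatingMap.curryLeft_apply_apply]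
  rfl

lemma ιMulti_eq_C (m : Fin (q + 1) → M) :
    ιMulti A (q + 1) m = C A M q (m 0) (ιMulti A q (Fin.tail m)) := by
  rw [C_ιMulti, Fin.cons_self_tail]

lemma sq_mul_mem (x : ↥(⋀[A]^2 M)) (y : ↥(⋀[A]^q M)) :
    (x : ExteriorAlgebra A M) * (y : ExteriorAlgebra A M) ∈ ⋀[A]^(q + 2) M := by
  have : (⋀[A]^(q + 2) M) = (⋀[A]^2 M) * (⋀[A]^q M) := by
    show (LinearMap.range (ExteriorAlgebra.ι A : M →ₗ[A] _)) ^ (q + 2) = _
    rw [add_comm, pow_add]
  rw [this]
  exact Submodule.mul_mem_mul x.2 y.2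

variable (A) in
/-- `L rest x = x ∧ rest₁ ∧ … ∧ rest_q` for `x ∈ ⋀² M`. -/
noncomputable def L (rest : Fin q → M) : ↥(⋀[A]^2 M) →ₗ[A] ↥(⋀[A]^(q + 2) M) :=
  LinearMap.codRestrict (⋀[A]^(q + 2) M)
    ((LinearMap.mulRight A ((ιMulti A q rest : ↥(⋀[A]^q M)) : ExteriorAlgebra A M)) ∘ₗ
      (⋀[A]^2 M).subtype)
    (fun x => sq_mul_mem q x (ιMulti A q rest))

lemma L_ιMulti (rest : Fin q → M) (w : Fin 2 → M) :
    L A q rest (ιMulti A 2 w) = ιMulti A (q + 2) (Fin.cons (w 0) (Fin.cons (w 1) rest)) := by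
  apply Subtype.ext
  simp only [L, LinearMap.codRestrict_apply, LinearMap.comp_apply, Submodule.subtype_apply,
    LinearMap.mulRight_apply, ιMulti_apply_coe]
  rw [ExteriorAlgebra.ιMulti_succ_apply, ExteriorAlgebra.ιMulti_succ_apply,
    ExteriorAlgebra.ιMulti_zero_apply, ExteriorAlgebra.ιMulti_succ_apply (n := q + 1),
    ExteriorAlgebra.ιMulti_succ_apply (n := q)]
  simp only [Matrix.vecTail, Fin.cons_zero, mul_one, mul_assoc]
  rfl

end Wedge

end Groth.Agent.ExtKer9
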