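import Mathlib
import Groth.Agent.Lib.ExtBC1_helper9
import Groth.Agent.Lib.ExtKer1_helper9

set_option autoImplicit false
open scoped TensorProduct
open exteriorPower

namespace Groth.Agent.HypAnn9

variable {R : Type*} [CommRing R] {P : Type*} [AddCommGroup P] [Module R P]

/-- For a finite projective module of constant rank `n`, `⋀^(n+1) P = 0`. -/
theorem subsingleton_extPow_succ [Module.Finite R P] [Module.Projective R P] (n : ℕ)
    (hrk : ∀ p : PrimeSpectrum R, Module.rankAtStalk P p = n) :
    Subsingleton ↥(⋀[R]^(n + 1) P) := by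
  refine Module.subsingleton_of_localization_maximal
    (fun m _ => Localization.AtPrime m ⊗[R] ↥(⋀[R]^(n + 1) P))
    (fun m _ => TensorProduct.mk R (Localization.AtPrime m) _ 1) (fun m hm => ?_)
  have e := Groth.Agent.ExtBC9.equivP R (Localization.AtPrime m) P (n + 1)
  haveI : Module.Free (Localization.AtPrime m) (Localization.AtPrime m ⊗[R] P) :=
    Module.free_of_flat_of_isLocalRing
  have hfr : Module.finrank (Localization.AtPrime m) (Localization.AtPrime m ⊗[R] P) = n := by
    rw [← Module.rankAtStalk_eq_finrank_tensorProduct ⟨m, hm.isPrime⟩]; exact hrk _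
  have h0 : Module.finrank (Localization.AtPrime m)
      ↥(⋀[Localization.AtPrime m]^(n + 1) (Localization.AtPrime m ⊗[R] P)) = 0 := by
    rw [exteriorPower.finrank_eq, hfr]; simp
  haveI : Subsingleton ↥(⋀[Localization.AtPrime m]^(n + 1) (Localization.AtPrime m ⊗[R] P)) :=
    (Module.finrank_eq_zero_iff_of_free _ _).1 h0
  exact e.toEquiv.subsingleton

/-- The contraction identity: if `⋀^(n+1) P = 0`, `π x = 0`, then `ψ x` kills `π v₁ ∧ … ∧ π vₙ`. -/
theorem smul_ιMulti_eq_zero {N : Type*} [AddCommGroup N] [Module R N] (n : ℕ)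
    (hss : Subsingleton ↥(⋀[R]^(n + 1) P)) (π : P →ₗ[R] N) (x : P) (hx : π x = 0)
    (ψ : Module.Dual R P) (v : Fin n → P) :
    ψ x • exteriorPower.ιMulti R n (π ∘ v) = 0 := by
  have h1 : ExteriorAlgebra.ι R x * ExteriorAlgebra.ιMulti R n v = 0 := by
    have hmem : ExteriorAlgebra.ιMulti R (n + 1) (Fin.cons x v : Fin (n + 1) → P) ∈ ⋀[R]^(n + 1) P :=
      ExteriorAlgebra.ιMulti_range R (n + 1) ⟨_, rfl⟩
    have : (⟨_, hmem⟩ : ↥(⋀[R]^(n + 1) P)) = 0 := Subsingleton.elim _ _
    have h2 := congrArg Subtype.val this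
    simp only [ZeroMemClass.coe_zero] at h2
    rw [ExteriorAlgebra.ιMulti_succ_apply] at h2
    have h6 : Matrix.vecTail (Fin.cons x v : Fin (n + 1) → P) = v := by
      funext i; simp [Matrix.vecTail]
    rw [h6, Fin.cons_zero] at h2
    exact h2
  have h3 := congrArg (CliffordAlgebra.contractLeft (R := R) (M := P) (Q := 0) ψ) h1
  rw [map_zero] at h3
  have h4 : ψ x • ExteriorAlgebra.ιMulti R n v =
      ExteriorAlgebra.ι R x * (CliffordAlgebra.contractLeft (R := R) (M := P) (Q := 0) ψ
        (ExteriorAlgebra.ιMulti R n v)) := by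
    have := CliffordAlgebra.contractLeft_ι_mul (Q := (0 : QuadraticForm R P)) (d := ψ) x
      (ExteriorAlgebra.ιMulti R n v)
    rw [← sub_eq_zero, ← this]
    exact h3
  have h5 := congrArg (ExteriorAlgebra.map π) h4
  rw [map_smul, ExteriorAlgebra.map_apply_ιMulti, map_mul, ExteriorAlgebra.map_apply_ι, hx, map_zero,
    zero_mul] at h5
  apply Subtype.ext
  rw [Submodule.coe_smul, exteriorPower.ιMulti_apply_coe]
  simpa using h5

/-- `{ψ x}` annihilates `⋀^n N`. -/
theorem le_annihilator {N : Type*} [AddCommGroup N] [Module R N] [Module.Finite R P]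
    [Module.Projective R P] (n : ℕ)
    (hrk : ∀ p : PrimeSpectrum R, Module.rankAtStalk P p = n)
    (π : P →ₗ[R] N) (hπ : Function.Surjective π) (x : P) (hx : π x = 0) :
    Ideal.span (Set.range fun ψ : Module.Dual R P => ψ x) ≤ (⋀[R]^n N).annihilator := by
  rw [Ideal.span_le]
  rintro _ ⟨ψ, rfl⟩
  simp only [SetLike.mem_coe]
  rw [Module.mem_annihilator]
  intro y
  have hy : y ∈ Submodule.span R (Set.range (exteriorPower.ιMulti R n (M := N))) := by
    rw [exteriorPower.ιMulti_span]; trivial
  induction hy using Submodule.span_induction with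
  | mem z hz =>
    obtain ⟨w, rfl⟩ := hz
    have : ∃ v : Fin n → P, w = π ∘ v := ⟨fun i => (hπ (w i)).choose, by
      funext i; exact ((hπ (w i)).choose_spec).symm⟩
    obtain ⟨v, rfl⟩ := this
    exact smul_ιMulti_eq_zero n (subsingleton_extPow_succ n hrk) π x hx ψ v
  | zero => simp
  | add a b _ _ ha hb => rw [smul_add, ha, hb, add_zero]
  | smul c a _ ha => rw [smul_comm, ha, smul_zero]

end Groth.Agent.HypAnn9
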