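import Mathlib
import Groth.Agent.Lib.HypAnn1_helper9

set_option autoImplicit false
open scoped TensorProduct
open exteriorPower

namespace Groth.Agent.HypAnn9

variable {R : Type*} [CommRing R] {P : Type*} [AddCommGroup P] [Module R P]

theorem det_mem_of_row_zero_mem (I : Ideal R) (q : ℕ) (M : Matrix (Fin (q + 1)) (Fin (q + 1)) R)
    (h : ∀ j, M 0 j ∈ I) : M.det ∈ I := by
  rw [← Ideal.Quotient.eq_zero_iff_mem, RingHom.map_det]
  apply Matrix.det_eq_zero_of_row_eq_zero 0
  intro j
  simp only [RingHom.mapMatrix_apply, Matrix.map_apply]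
  exact Ideal.Quotient.eq_zero_iff_mem.2 (h j)

theorem smul_det_mem {N : Type*} [AddCommGroup N] [Module R N] (n : ℕ)
    (π : P →ₗ[R] N) (hπ : Function.Surjective π) (x : P)
    (hker : LinearMap.ker π = Submodule.span R {x}) (r : R)
    (hr : r ∈ (⋀[R]^n N).annihilator) (ψ : Fin n → Module.Dual R P) (v : Fin n → P) :
    r * (Matrix.of fun i j => ψ j (v i)).det ∈
      Ideal.span (Set.range fun ψ : Module.Dual R P => ψ x) := by
  rw [Module.mem_annihilator] at hr
  cases n with
  | zero =>
    have h0 := hr (exteriorPower.ιMulti R 0 (π ∘ v))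
    have h1 := congrArg (pairingDual R N 0 (exteriorPower.ιMulti R 0 (fun i => Fin.elim0 i))) h0
    rw [map_smul, pairingDual_ιMulti_ιMulti, map_zero, Matrix.det_isEmpty, smul_eq_mul, mul_one] at h1
    rw [h1, zero_mul]
    exact Submodule.zero_mem _
  | succ q =>
    set I := Ideal.span (Set.range fun ψ : Module.Dual R P => ψ x) with hI
    have hy : r • exteriorPower.ιMulti R (q + 1) v ∈
        LinearMap.ker (exteriorPower.map (q + 1) π) := by
      rw [LinearMap.mem_ker, map_smul, exteriorPower.map_apply_ιMulti]
      exact hr _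
    have hyK := Groth.Agent.ExtKer9.ker_map_le q hπ hy
    have key : ∀ z ∈ Groth.Agent.ExtKer9.K π q,
        pairingDual R P (q + 1) (exteriorPower.ιMulti R (q + 1) ψ) z ∈ I := by
      intro z hz
      induction hz using Submodule.span_induction with
      | mem z hz =>
        obtain ⟨m, hm0, rfl⟩ := hz
        rw [pairingDual_ιMulti_ιMulti]
        apply det_mem_of_row_zero_mem
        intro j
        have hm0' : m 0 ∈ Submodule.span R {x} := by rw [← hker]; exact hm0
        obtain ⟨c, hc⟩ := Submodule.mem_span_singleton.1 hm0'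
        simp only [Matrix.of_apply]
        rw [← hc, map_smul, smul_eq_mul]
        exact Ideal.mul_mem_left _ _ (Ideal.subset_span ⟨ψ j, rfl⟩)
      | zero => rw [map_zero]; exact Submodule.zero_mem _
      | add a b _ _ ha hb => rw [map_add]; exact Submodule.add_mem _ ha hb
      | smul c a _ ha => rw [map_smul]; exact Submodule.smul_mem _ _ ha
    have := key _ hyK
    rwa [map_smul, pairingDual_ιMulti_ιMulti, smul_eq_mul] at this

/-- Over a maximal ideal, some `n × n` minor of the pairing is a unit mod `m`. -/
theorem exists_det_not_mem [Module.Finite R P] [Module.Projective R P] (n : ℕ)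
    (hrk : ∀ p : PrimeSpectrum R, Module.rankAtStalk P p = n) (m : Ideal R) [hm : m.IsMaximal] :
    ∃ (ψ : Fin n → Module.Dual R P) (v : Fin n → P),
      (Matrix.of fun i j => ψ j (v i)).det ∉ m := by
  classical
  have hfr : Module.finrank m.ResidueField (m.ResidueField ⊗[R] P) = n := by
    have := Module.rankAtStalk_eq (M := P) ⟨m, hm.isPrime⟩
    rw [hrk] at this
    exact this.symm
  set s : Set (m.ResidueField ⊗[R] P) := Set.range fun v : P => (1 : m.ResidueField) ⊗ₜ[R] v with hs
  have hspan : ⊤ ≤ Submodule.span m.ResidueField s := by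
    rintro z -
    induction z using TensorProduct.induction_on with
    | zero => exact Submodule.zero_mem _
    | add a b ha hb => exact Submodule.add_mem _ ha hb
    | tmul c v =>
      have : c ⊗ₜ[R] v = c • ((1 : m.ResidueField) ⊗ₜ[R] v) := by
        rw [TensorProduct.smul_tmul', smul_eq_mul, mul_one]
      rw [this]
      exact Submodule.smul_mem _ _ (Submodule.subset_span ⟨v, rfl⟩)
  let b := Module.Basis.ofSpan hspan
  haveI : Fintype ↥((linearIndepOn_empty m.ResidueField id).extend (Set.empty_subset s)) :=
    FiniteDimensional.fintypeBasisIndex b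
  have hcard : Fintype.card ↥((linearIndepOn_empty m.ResidueField id).extend (Set.empty_subset s)) = n := by
    rw [← Module.finrank_eq_card_basis b, hfr]
  let e := Fintype.equivFinOfCardEq hcard
  let b' := b.reindex e
  have hb' : ∀ i, ∃ v : P, (1 : m.ResidueField) ⊗ₜ[R] v = b' i := by
    intro i
    have : b' i ∈ s := by
      apply Module.Basis.ofSpan_subset hspan
      exact ⟨e.symm i, by simp [b', b]⟩
    exact this
  choose v hv using hb'
  -- lift the coordinate functionals
  have hlift : ∀ j, ∃ ψ : P →ₗ[R] R, ∀ p, algebraMap R m.ResidueField (ψ p) =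
      b'.coord j ((1 : m.ResidueField) ⊗ₜ[R] p) := by
    intro j
    let g : P →ₗ[R] m.ResidueField :=
      ((b'.coord j).restrictScalars R) ∘ₗ (TensorProduct.mk R m.ResidueField P 1)
    obtain ⟨h, hh⟩ := Module.projective_lifting_property (Algebra.linearMap R m.ResidueField) g
      m.algebraMap_residueField_surjective
    refine ⟨h, fun p => ?_⟩
    have := LinearMap.congr_fun hh p
    simpa [g] using this
  choose ψ hψ using hlift
  refine ⟨ψ, v, fun hmem => ?_⟩
  have h0 : algebraMap R m.ResidueField (Matrix.of fun i j => ψ j (v i)).det = 0 :=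
    Ideal.algebraMap_residueField_eq_zero.2 hmem
  rw [RingHom.map_det] at h0
  have h1 : (algebraMap R m.ResidueField).mapMatrix (Matrix.of fun i j => ψ j (v i)) =
      (1 : Matrix (Fin n) (Fin n) m.ResidueField) := by
    ext i j
    simp only [RingHom.mapMatrix_apply, Matrix.map_apply, Matrix.of_apply]
    rw [hψ, hv, Module.Basis.coord_apply, Module.Basis.repr_self, Matrix.one_apply]
    rw [Finsupp.single_apply]
  rw [h1, Matrix.det_one] at h0
  exact one_ne_zero h0

theorem annihilator_le {N : Type*} [AddCommGroup N] [Module R N] [Module.Finite R P]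
    [Module.Projective R P] (n : ℕ)
    (hrk : ∀ p : PrimeSpectrum R, Module.rankAtStalk P p = n)
    (π : P →ₗ[R] N) (hπ : Function.Surjective π) (x : P)
    (hker : LinearMap.ker π = Submodule.span R {x}) :
    (⋀[R]^n N).annihilator ≤ Ideal.span (Set.range fun ψ : Module.Dual R P => ψ x) := by
  intro r hr
  by_contra hnot
  set I := Ideal.span (Set.range fun ψ : Module.Dual R P => ψ x) with hI
  -- the colon ideal
  let C : Ideal R := I.colon {r}
  have hC : C ≠ ⊤ := by
    intro h
    have : (1 : R) ∈ C := by rw [h]; trivial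
    rw [Submodule.mem_colon_singleton] at this
    apply hnot
    simpa using this
  obtain ⟨m, hm, hCm⟩ := Ideal.exists_le_maximal C hC
  obtain ⟨ψ, v, hdet⟩ := exists_det_not_mem (P := P) n hrk m
  apply hdet
  apply hCm
  rw [Submodule.mem_colon_singleton, smul_eq_mul, mul_comm]
  exact smul_det_mem n π hπ x hker r hr ψ v

theorem annihilator_eq {N : Type*} [AddCommGroup N] [Module R N] [Module.Finite R P]
    [Module.Projective R P] (n : ℕ)
    (hrk : ∀ p : PrimeSpectrum R, Module.rankAtStalk P p = n)
    (π : P →ₗ[R] N) (hπ : Function.Surjective π) (x : P)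
    (hker : LinearMap.ker π = Submodule.span R {x}) :
    (⋀[R]^n N).annihilator = Ideal.span (Set.range fun ψ : Module.Dual R P => ψ x) :=
  le_antisymm (annihilator_le n hrk π hπ x hker)
    (le_annihilator n hrk π hπ x (by
      have : x ∈ LinearMap.ker π := by rw [hker]; exact Submodule.mem_span_singleton_self x
      exact this))

end Groth.Agent.HypAnn9
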