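import Mathlib
import Groth.Agent.Lib.HypAnn2_helper9

set_option autoImplicit false
universe u
open scoped TensorProduct
open exteriorPower KaehlerDifferential

namespace Groth.Agent.HypAnn9

variable (A B R : Type u) [CommRing A] [CommRing B] [CommRing R]
    [Algebra A B] [Algebra B R] [Algebra A R] [IsScalarTower A B R]

/-- the class of `dg` in `R ⊗ Ω_{B/A}` -/
noncomputable def xg (g : B) : R ⊗[B] Ω[B⁄A] := (1 : R) ⊗ₜ[B] KaehlerDifferential.D A B g

theorem ker_mapBaseChange (g : B) (hsurj : Function.Surjective (algebraMap B R))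
    (hker : RingHom.ker (algebraMap B R) = Ideal.span {g}) :
    LinearMap.ker (KaehlerDifferential.mapBaseChange A B R) = Submodule.span R {xg A B R g} := by
  apply le_antisymm
  · intro z hz
    have hz' : z ∈ LinearMap.range (kerCotangentToTensor A B R) := by
      rw [KaehlerDifferential.range_kerCotangentToTensor A B R hsurj]
      exact hz
    obtain ⟨y, rfl⟩ := hz'
    obtain ⟨⟨b, hb⟩, rfl⟩ := Ideal.toCotangent_surjective _ y
    rw [kerCotangentToTensor_toCotangent]
    have hb' : b ∈ Ideal.span {g} := by rw [← hker]; exact hb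
    obtain ⟨c, rfl⟩ := Ideal.mem_span_singleton'.1 hb'
    simp only
    rw [Derivation.leibniz, TensorProduct.tmul_add, TensorProduct.tmul_smul, TensorProduct.tmul_smul]
    have hg0 : algebraMap B R g = 0 := by
      have : g ∈ RingHom.ker (algebraMap B R) := by rw [hker]; exact Ideal.mem_span_singleton_self g
      exact this
    have h1 : g • ((1 : R) ⊗ₜ[B] (D A B c)) = 0 := by
      rw [TensorProduct.smul_tmul', Algebra.smul_def, hg0, zero_mul, TensorProduct.zero_tmul]
    rw [h1, add_zero]
    rw [← algebraMap_smul R c ((1 : R) ⊗ₜ[B] (D A B g))]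
    exact Submodule.smul_mem _ _ (Submodule.mem_span_singleton_self _)
  · rw [Submodule.span_le]
    rintro _ rfl
    simp only [SetLike.mem_coe, LinearMap.mem_ker, xg, mapBaseChange_tmul, one_smul, map_D]
    have hg0 : algebraMap B R g = 0 := by
      have : g ∈ RingHom.ker (algebraMap B R) := by rw [hker]; exact Ideal.mem_span_singleton_self g
      exact this
    rw [hg0, map_zero]

omit [Algebra A R] [IsScalarTower A B R] in
theorem span_eq [Module.Projective B (Ω[B⁄A])] (g : B) :
    Ideal.span (Set.range fun φ : Ω[B⁄A] →ₗ[B] B => algebraMap B R (φ (KaehlerDifferential.D A B g))) =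
      Ideal.span (Set.range fun ψ : Module.Dual R (R ⊗[B] Ω[B⁄A]) => ψ (xg A B R g)) := by
  apply le_antisymm
  · rw [Ideal.span_le]
    rintro _ ⟨φ, rfl⟩
    apply Ideal.subset_span
    refine ⟨LinearMap.liftBaseChange R ((Algebra.linearMap B R) ∘ₗ φ), ?_⟩
    simp [xg]
  · rw [Ideal.span_le]
    rintro _ ⟨ψ, rfl⟩
    obtain ⟨s, hs⟩ := Module.projective_def'.1 (inferInstance : Module.Projective B (Ω[B⁄A]))
    have hω : KaehlerDifferential.D A B g =
        Finsupp.linearCombination B id (s (KaehlerDifferential.D A B g)) := by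
      have := LinearMap.congr_fun hs (KaehlerDifferential.D A B g)
      simpa using this.symm
    have hx : xg A B R g = ∑ t ∈ (s (KaehlerDifferential.D A B g)).support,
        (algebraMap B R ((s (KaehlerDifferential.D A B g)) t)) • ((1 : R) ⊗ₜ[B] t) := by
      unfold xg
      conv_lhs => rw [hω, Finsupp.linearCombination_apply, Finsupp.sum, TensorProduct.tmul_sum]
      refine Finset.sum_congr rfl fun t _ => ?_
      rw [id, TensorProduct.tmul_smul, algebraMap_smul]
    simp only [SetLike.mem_coe]
    rw [hx, map_sum]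
    refine Submodule.sum_mem _ fun t _ => ?_
    rw [map_smul, smul_eq_mul]
    apply Ideal.mul_mem_right
    apply Ideal.subset_span
    exact ⟨(Finsupp.lapply t) ∘ₗ s, rfl⟩

theorem main [Algebra.Smooth A B] (n : ℕ)
    (hn : ∀ p : PrimeSpectrum B, Module.rankAtStalk (Ω[B⁄A]) p = n)
    (g : B) (hsurj : Function.Surjective (algebraMap B R))
    (hker : RingHom.ker (algebraMap B R) = Ideal.span {g}) :
    (⋀[R]^n (Ω[R⁄A])).annihilator =
      Ideal.span (Set.range fun φ : Ω[B⁄A] →ₗ[B] B => algebraMap B R (φ (KaehlerDifferential.D A B g))) := by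
  rw [span_eq A B R g]
  refine annihilator_eq (P := R ⊗[B] Ω[B⁄A]) n ?_ (KaehlerDifferential.mapBaseChange A B R)
    (KaehlerDifferential.mapBaseChange_surjective A B R hsurj) (xg A B R g)
    (ker_mapBaseChange A B R g hsurj hker)
  intro p
  rw [Module.rankAtStalk_baseChange]
  exact hn _

end Groth.Agent.HypAnn9
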