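import Mathlib
import Groth.Agent.Lib.HypAnn3_helper9

set_option autoImplicit false
universe u
open scoped TensorProduct
open exteriorPower KaehlerDifferential

namespace Groth.Agent.HypAnn9

variable (A B R : Type u) [CommRing A] [CommRing B] [CommRing R]
    [Algebra A B] [Algebra B R] [Algebra A R] [IsScalarTower A B R]

/-- the extension `B → R` -/
noncomputable def ext (hsurj : Function.Surjective (algebraMap B R)) : Algebra.Extension.{u} A R where
  Ring := B
  σ := Function.surjInv hsurj
  algebraMap_σ := Function.surjInv_eq hsurj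

variable (hsurj : Function.Surjective (algebraMap B R)) (g : B)
  (hker : RingHom.ker (algebraMap B R) = Ideal.span {g})

include hker in
theorem g_mem_ker : g ∈ (ext A B R hsurj).ker := by
  change g ∈ RingHom.ker (algebraMap B R)
  rw [hker]; exact Ideal.mem_span_singleton_self g

/-- class of `g` in the conormal module -/
noncomputable def gbar : (ext A B R hsurj).Cotangent :=
  Algebra.Extension.Cotangent.mk ⟨g, g_mem_ker A B R hsurj g hker⟩

theorem cotangentComplex_gbar :
    (ext A B R hsurj).cotangentComplex (gbar A B R hsurj g hker) = xg A B R g := by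
  unfold gbar
  rw [Algebra.Extension.cotangentComplex_mk]
  rfl

theorem algebraMap_smul_gbar (c : B) (hc : c * g ∈ (ext A B R hsurj).ker) :
    algebraMap B R c • gbar A B R hsurj g hker =
      Algebra.Extension.Cotangent.mk (P := ext A B R hsurj) ⟨c * g, hc⟩ := by
  have h1 : (⟨c * g, hc⟩ : (ext A B R hsurj).ker) =
      (id c : (ext A B R hsurj).Ring) • (⟨g, g_mem_ker A B R hsurj g hker⟩ : (ext A B R hsurj).ker) := rfl
  rw [h1, map_smul]
  unfold gbar
  exact algebraMap_smul R (id c : (ext A B R hsurj).Ring) _

theorem exists_smul_gbar (y : (ext A B R hsurj).Cotangent) :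
    ∃ a : R, y = a • gbar A B R hsurj g hker := by
  obtain ⟨⟨b, hb⟩, rfl⟩ := Algebra.Extension.Cotangent.mk_surjective y
  have hb' : b ∈ Ideal.span {g} := by rw [← hker]; exact hb
  obtain ⟨c, rfl⟩ := Ideal.mem_span_singleton'.1 hb'
  exact ⟨algebraMap B R c, (algebraMap_smul_gbar A B R hsurj g hker c hb).symm⟩

theorem smul_gbar_eq_zero (hg : IsSMulRegular B g) (a : R)
    (ha : a • gbar A B R hsurj g hker = 0) : a = 0 := by
  obtain ⟨b, rfl⟩ := hsurj a
  have hbg : b * g ∈ (ext A B R hsurj).ker :=
    Ideal.mul_mem_left _ _ (g_mem_ker A B R hsurj g hker)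
  rw [algebraMap_smul_gbar A B R hsurj g hker b hbg,
    Algebra.Extension.Cotangent.mk_eq_zero_iff] at ha
  have ha' : b * g ∈ (Ideal.span {g}) ^ 2 := by rw [← hker]; exact ha
  rw [Ideal.span_singleton_pow, Ideal.mem_span_singleton'] at ha'
  obtain ⟨d, hd⟩ := ha'
  have h1 : g • (d * g) = g • b := by
    simp only [smul_eq_mul]
    have hd' : d * g ^ 2 = b * g := hd
    rw [mul_comm g b, ← hd']; ring
  have h2 := hg h1
  have : b ∈ RingHom.ker (algebraMap B R) := by
    rw [hker, ← h2]
    exact Ideal.mul_mem_left _ _ (Ideal.mem_span_singleton_self g)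
  exact this

end Groth.Agent.HypAnn9
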