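import Mathlib
import Groth.Agent.Lib.HypSm1_helper9

set_option autoImplicit false
universe u
open scoped TensorProduct
open exteriorPower KaehlerDifferential

namespace Groth.Agent.HypAnn9

variable (A B R : Type u) [CommRing A] [CommRing B] [CommRing R]
    [Algebra A B] [Algebra B R] [Algebra A R] [IsScalarTower A B R]

variable (hsurj : Function.Surjective (algebraMap B R)) (g : B)
  (hker : RingHom.ker (algebraMap B R) = Ideal.span {g})

/-- the support condition on `H¹`, in elementary terms -/
theorem notMem_support_iff [Algebra.FormallySmooth A B] (p : PrimeSpectrum R) :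
    p ∉ Module.support R (Algebra.H1Cotangent A R) ↔
      ∀ a : R, a • xg A B R g = 0 → ∃ r ∉ p.asIdeal, (r * a) • gbar A B R hsurj g hker = 0 := by
  haveI : Algebra.FormallySmooth A (ext A B R hsurj).Ring :=
    inferInstanceAs (Algebra.FormallySmooth A B)
  rw [← ((ext A B R hsurj).equivH1CotangentOfFormallySmooth).support_eq,
    Module.notMem_support_iff']
  constructor
  · intro h a ha
    have hmem : a • gbar A B R hsurj g hker ∈ LinearMap.ker (ext A B R hsurj).cotangentComplex := by
      rw [LinearMap.mem_ker, map_smul, cotangentComplex_gbar]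
      exact ha
    obtain ⟨r, hr, hr0⟩ := h ⟨_, hmem⟩
    refine ⟨r, hr, ?_⟩
    have := congrArg Subtype.val hr0
    rw [mul_smul]
    exact this
  · intro h y
    obtain ⟨a, ha⟩ := exists_smul_gbar A B R hsurj g hker y.1
    have hy : (ext A B R hsurj).cotangentComplex y.1 = 0 := LinearMap.mem_ker.1 y.2
    rw [ha, map_smul, cotangentComplex_gbar] at hy
    obtain ⟨r, hr, hr0⟩ := h a hy
    refine ⟨r, hr, ?_⟩
    apply Subtype.ext
    change r • y.1 = 0
    rw [ha, ← mul_smul]
    exact hr0


include hsurj hker in
/-- a functional not vanishing at `p` on `dg` forces smoothness at `p` -/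
theorem mem_smoothLocus_of [Algebra.Smooth A B] (p : PrimeSpectrum R)
    (ψ : Module.Dual R (R ⊗[B] Ω[B⁄A])) (hu : ψ (xg A B R g) ∉ p.asIdeal) :
    p ∈ Algebra.smoothLocus A R := by
  haveI : Algebra.FiniteType A R :=
    Algebra.FiniteType.of_surjective (IsScalarTower.toAlgHom A B R) hsurj
  rw [Algebra.smoothLocus_eq_compl_support_inter]
  refine ⟨?_, ?_⟩
  · change p ∉ Module.support R (Algebra.H1Cotangent A R)
    rw [notMem_support_iff A B R hsurj g hker]
    intro a ha
    refine ⟨ψ (xg A B R g), hu, ?_⟩
    have : ψ (xg A B R g) * a = 0 := by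
      have := congrArg ψ ha
      rw [map_smul, map_zero, smul_eq_mul] at this
      rw [mul_comm]; exact this
    rw [this, zero_smul]
  · rw [Module.mem_freeLocus_iff_tensor p (Localization.AtPrime p.asIdeal)]
    set x := xg A B R g with hx
    set π := KaehlerDifferential.mapBaseChange A B R with hπ
    have hπs : Function.Surjective π := KaehlerDifferential.mapBaseChange_surjective A B R hsurj
    have hkerπ : LinearMap.ker π = Submodule.span R {x} := ker_mapBaseChange A B R g hsurj hker
    -- σ' y = ψ x • y - ψ y • x
    let σ' : (R ⊗[B] Ω[B⁄A]) →ₗ[R] (R ⊗[B] Ω[B⁄A]) :=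
      ψ x • LinearMap.id - (LinearMap.toSpanSingleton R _ x) ∘ₗ ψ
    have hσ'x : σ' x = 0 := by
      simp only [σ', LinearMap.sub_apply, LinearMap.smul_apply, LinearMap.id_apply,
        LinearMap.comp_apply, LinearMap.toSpanSingleton_apply, sub_self]
    have hle : LinearMap.ker π ≤ LinearMap.ker σ' := by
      rw [hkerπ, Submodule.span_le]
      rintro _ rfl
      exact hσ'x
    let σ : Ω[R⁄A] →ₗ[R] (R ⊗[B] Ω[B⁄A]) :=
      (Submodule.liftQ (LinearMap.ker π) σ' hle) ∘ₗ
        (LinearMap.quotKerEquivOfSurjective π hπs).symm.toLinearMap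
    have hσπ : ∀ y, σ (π y) = σ' y := by
      intro y
      simp only [σ, LinearMap.comp_apply, LinearEquiv.coe_coe]
      have : (LinearMap.quotKerEquivOfSurjective π hπs).symm (π y) =
          Submodule.Quotient.mk y := by
        rw [LinearEquiv.symm_apply_eq]
        rfl
      rw [this, Submodule.liftQ_apply]
    have hπσ : π ∘ₗ σ = ψ x • LinearMap.id := by
      apply LinearMap.ext
      intro z
      obtain ⟨y, rfl⟩ := hπs z
      rw [LinearMap.comp_apply, hσπ]
      simp only [σ', LinearMap.sub_apply, LinearMap.smul_apply, LinearMap.id_apply,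
        LinearMap.comp_apply, LinearMap.toSpanSingleton_apply, map_sub, map_smul]
      have hπx : π x = 0 := by
        have : x ∈ LinearMap.ker π := by rw [hkerπ]; exact Submodule.mem_span_singleton_self x
        exact this
      rw [hπx, smul_zero, sub_zero]
    -- base change to the local ring
    have hunit : IsUnit (algebraMap R (Localization.AtPrime p.asIdeal) (ψ x)) :=
      IsLocalization.map_units (Localization.AtPrime p.asIdeal) (⟨ψ x, hu⟩ : p.asIdeal.primeCompl)
    obtain ⟨u, hu'⟩ := hunit
    let i : Localization.AtPrime p.asIdeal ⊗[R] Ω[R⁄A] →ₗ[Localization.AtPrime p.asIdeal]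
        Localization.AtPrime p.asIdeal ⊗[R] (R ⊗[B] Ω[B⁄A]) :=
      (↑u⁻¹ : Localization.AtPrime p.asIdeal) • LinearMap.baseChange (Localization.AtPrime p.asIdeal) σ
    have hsplit : (LinearMap.baseChange (Localization.AtPrime p.asIdeal) π) ∘ₗ i = LinearMap.id := by
      apply TensorProduct.AlgebraTensorModule.ext
      intro a z
      simp only [i, LinearMap.comp_apply, LinearMap.smul_apply, map_smul, LinearMap.baseChange_tmul,
        LinearMap.id_apply]
      have : π (σ z) = ψ x • z := LinearMap.congr_fun hπσ z
      rw [this, TensorProduct.tmul_smul, ← algebraMap_smul (Localization.AtPrime p.asIdeal) (ψ x),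
        ← hu', smul_smul, Units.inv_mul, one_smul]
    haveI : Module.Projective (Localization.AtPrime p.asIdeal)
        (Localization.AtPrime p.asIdeal ⊗[R] Ω[R⁄A]) :=
      Module.Projective.of_split i _ hsplit
    exact Module.free_of_flat_of_isLocalRing

end Groth.Agent.HypAnn9
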