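import Mathlib
import Groth.Agent.Lib.HypSm2_helper9

set_option autoImplicit false
universe u
open scoped TensorProduct
open exteriorPower KaehlerDifferential

namespace Groth.Agent.HypAnn9

variable (A B R : Type u) [CommRing A] [CommRing B] [CommRing R]
    [Algebra A B] [Algebra B R] [Algebra A R] [IsScalarTower A B R]

variable (hsurj : Function.Surjective (algebraMap B R)) (g : B)
  (hker : RingHom.ker (algebraMap B R) = Ideal.span {g})

include hsurj hker in
/-- if all functionals vanish at `p` on `dg`, then `R` is not smooth at `p` -/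
theorem notMem_smoothLocus_of [Algebra.Smooth A B] (hg : IsSMulRegular B g) (p : PrimeSpectrum R)
    (hI : ∀ ψ : Module.Dual R (R ⊗[B] Ω[B⁄A]), ψ (xg A B R g) ∈ p.asIdeal) :
    p ∉ Algebra.smoothLocus A R := by
  haveI : Algebra.FiniteType A R :=
    Algebra.FiniteType.of_surjective (IsScalarTower.toAlgHom A B R) hsurj
  rw [Algebra.smoothLocus_eq_compl_support_inter]
  rintro ⟨h1, h2⟩
  change p ∉ Module.support R (Algebra.H1Cotangent A R) at h1
  rw [notMem_support_iff A B R hsurj g hker] at h1
  rw [Module.mem_freeLocus_iff_tensor p (Localization.AtPrime p.asIdeal)] at h2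
  set Rp := Localization.AtPrime p.asIdeal with hRp
  set x := xg A B R g with hx
  set π := KaehlerDifferential.mapBaseChange A B R with hπ
  have hπs : Function.Surjective π := KaehlerDifferential.mapBaseChange_surjective A B R hsurj
  have hkerπ : LinearMap.ker π = Submodule.span R {x} := ker_mapBaseChange A B R g hsurj hker
  let πp : Rp ⊗[R] (R ⊗[B] Ω[B⁄A]) →ₗ[Rp] Rp ⊗[R] Ω[R⁄A] := LinearMap.baseChange Rp π
  let j : Rp →ₗ[Rp] Rp ⊗[R] (R ⊗[B] Ω[B⁄A]) := LinearMap.toSpanSingleton Rp _ ((1 : Rp) ⊗ₜ[R] x)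
  -- injectivity of j
  have hj : Function.Injective j := by
    rw [injective_iff_map_eq_zero]
    intro a ha
    obtain ⟨a', s, rfl⟩ := IsLocalization.exists_mk'_eq p.asIdeal.primeCompl a
    have h3 : (1 : Rp) ⊗ₜ[R] (a' • x) = 0 := by
      have h4 : algebraMap R Rp a' • ((1 : Rp) ⊗ₜ[R] x) = 0 := by
        have : algebraMap R Rp a' = algebraMap R Rp s * IsLocalization.mk' Rp a' s := by
          rw [IsLocalization.mk'_spec']
        rw [this, mul_smul]
        have ha' : IsLocalization.mk' Rp a' s • ((1 : Rp) ⊗ₜ[R] x) = 0 := ha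
        rw [ha', smul_zero]
      rw [TensorProduct.tmul_smul, ← algebraMap_smul Rp a']
      exact h4
    have h5 : (TensorProduct.mk R Rp (R ⊗[B] Ω[B⁄A]) 1) (a' • x) = 0 := h3
    rw [IsLocalizedModule.eq_zero_iff p.asIdeal.primeCompl] at h5
    obtain ⟨t, ht⟩ := h5
    have ht' : ((t : R) * a') • x = 0 := by rw [mul_smul]; exact ht
    obtain ⟨r, hr, hr0⟩ := h1 _ ht'
    have h6 := smul_gbar_eq_zero A B R hsurj g hker hg _ hr0
    rw [IsLocalization.mk'_eq_zero_iff]
    refine ⟨⟨r * t, p.asIdeal.primeCompl.mul_mem hr t.2⟩, ?_⟩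
    simp only
    rw [mul_assoc]; exact h6
  -- exactness
  have hexact : Function.Exact j πp := by
    have hex0 : Function.Exact (LinearMap.toSpanSingleton R (R ⊗[B] Ω[B⁄A]) x) π := by
      rw [LinearMap.exact_iff, hkerπ]
      exact (LinearMap.range_toSpanSingleton x).symm
    have hex1 := lTensor_exact Rp hex0 hπs
    have hlt : ∀ z : Rp ⊗[R] R,
        LinearMap.lTensor Rp (LinearMap.toSpanSingleton R (R ⊗[B] Ω[B⁄A]) x) z =
          j (TensorProduct.rid R Rp z) := by
      intro z
      induction z using TensorProduct.induction_on with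
      | zero => simp
      | add a b ha hb => rw [map_add, map_add, map_add, ha, hb]
      | tmul a r =>
        simp only [TensorProduct.rid_tmul, LinearMap.lTensor_tmul, LinearMap.toSpanSingleton_apply, j]
        rw [TensorProduct.smul_tmul', smul_eq_mul, mul_one, TensorProduct.smul_tmul]
    intro y
    constructor
    · intro hy
      have hy' : LinearMap.lTensor Rp π y = 0 := by
        rw [← LinearMap.baseChange_eq_ltensor]; exact hy
      obtain ⟨z, rfl⟩ := (hex1 y).1 hy'
      exact ⟨TensorProduct.rid R Rp z, (hlt z).symm⟩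
    · rintro ⟨a, rfl⟩
      simp only [j, LinearMap.toSpanSingleton_apply, map_smul, πp, LinearMap.baseChange_tmul]
      have hπx : π x = 0 := by
        have : x ∈ LinearMap.ker π := by rw [hkerπ]; exact Submodule.mem_span_singleton_self x
        exact this
      rw [hπx, TensorProduct.tmul_zero, smul_zero]
  -- splitting
  have hπps : Function.Surjective πp := by
    have : Function.Surjective (LinearMap.lTensor Rp π) := LinearMap.lTensor_surjective Rp hπs
    intro y
    obtain ⟨z, hz⟩ := this y
    exact ⟨z, by change LinearMap.baseChange Rp π z = y; rw [LinearMap.baseChange_eq_ltensor]; exact hz⟩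
  obtain ⟨τ, hτ⟩ := Module.projective_lifting_property πp LinearMap.id hπps
  obtain ⟨-, ρ, hρ⟩ := ((hexact.split_tfae').out 0 1 rfl rfl).1 ⟨hj, τ, hτ⟩
  have hρx : ρ ((1 : Rp) ⊗ₜ[R] x) = 1 := by
    have := LinearMap.congr_fun hρ 1
    simpa [j] using this
  -- expand x through a dual basis
  obtain ⟨s, hs⟩ := Module.projective_def'.1
    (inferInstance : Module.Projective R (R ⊗[B] Ω[B⁄A]))
  have hxs : x = Finsupp.linearCombination R id (s x) := by
    have := LinearMap.congr_fun hs x
    simpa using this.symm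
  have hmem : ρ ((1 : Rp) ⊗ₜ[R] x) ∈ IsLocalRing.maximalIdeal Rp := by
    have hsum : ρ ((1 : Rp) ⊗ₜ[R] x) = ∑ t ∈ (s x).support, ρ ((1 : Rp) ⊗ₜ[R] ((s x) t • id t)) := by
      conv_lhs => rw [hxs, Finsupp.linearCombination_apply, Finsupp.sum, TensorProduct.tmul_sum, map_sum]
    rw [hsum]
    refine Ideal.sum_mem _ fun t _ => ?_
    rw [id, TensorProduct.tmul_smul, ← algebraMap_smul Rp ((s x) t), map_smul, smul_eq_mul]
    apply Ideal.mul_mem_right
    rw [IsLocalization.AtPrime.to_map_mem_maximal_iff Rp p.asIdeal]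
    exact hI ((Finsupp.lapply t) ∘ₗ s)
  rw [hρx] at hmem
  exact (Ideal.ne_top_iff_one _).1 (IsLocalRing.maximalIdeal.isMaximal Rp).ne_top hmem

end Groth.Agent.HypAnn9

namespace Groth.Agent.HypAnn9

theorem main_smooth (A B R : Type u) [CommRing A] [CommRing B] [CommRing R]
    [Algebra A B] [Algebra B R] [Algebra A R] [IsScalarTower A B R] [Algebra.Smooth A B] (n : ℕ)
    (hn : ∀ p : PrimeSpectrum B, Module.rankAtStalk (Ω[B⁄A]) p = n)
    (g : B) (hg : IsSMulRegular B g) (hsurj : Function.Surjective (algebraMap B R))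
    (hker : RingHom.ker (algebraMap B R) = Ideal.span {g}) (p : PrimeSpectrum R) :
    (⋀[R]^n (Ω[R⁄A])).annihilator ≤ p.asIdeal ↔ p ∉ Algebra.smoothLocus A R := by
  have hJ : (⋀[R]^n (Ω[R⁄A])).annihilator =
      Ideal.span (Set.range fun ψ : Module.Dual R (R ⊗[B] Ω[B⁄A]) => ψ (xg A B R g)) := by
    refine annihilator_eq (P := R ⊗[B] Ω[B⁄A]) n ?_ (KaehlerDifferential.mapBaseChange A B R)
      (KaehlerDifferential.mapBaseChange_surjective A B R hsurj) (xg A B R g)
      (ker_mapBaseChange A B R g hsurj hker)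
    intro q
    rw [Module.rankAtStalk_baseChange]
    exact hn _
  rw [hJ, Ideal.span_le]
  constructor
  · intro h
    exact notMem_smoothLocus_of A B R hsurj g hker hg p (fun ψ => h ⟨ψ, rfl⟩)
  · intro h
    rintro _ ⟨ψ, rfl⟩
    by_contra hu
    exact h (mem_smoothLocus_of A B R hsurj g hker p ψ hu)

end Groth.Agent.HypAnn9
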