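import Mathlib
import Groth.Prelude.Def_Found
import Groth.Agent.Lib.SmoothRegField_helper3

/-!
# Smooth algebras over a field are regular rings; smooth ring maps are regular homomorphisms
(helper3)

* `isRegularRing_of_smooth_field`
* `isGeometricallyRegular_of_smooth_field`
* `isRegularHom_of_smooth`
APPEND-ONLY once landed.
-/

set_option autoImplicit false
set_option maxSynthPendingDepth 3

namespace Groth.Agent.Lib.SmoothRegHomH3

open TensorProduct

universe u

theorem isRegularRing_of_formallySmooth_field (k T : Type u) [Field k] [CommRing T] [Algebra k T]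
    [IsNoetherianRing T] [Algebra.FormallySmooth k T] : IsRegularRing T := by
  rw [isRegularRing_iff]
  intro p hp
  haveI : IsNoetherianRing (Localization.AtPrime p) :=
    IsLocalization.isNoetherianRing p.primeCompl _ inferInstance
  exact Groth.Agent.Lib.SmoothRegFieldH3.regular_of_formallySmooth_field (k := k)

theorem isRegularRing_of_smooth_field (k T : Type u) [Field k] [CommRing T] [Algebra k T]
    [Algebra.Smooth k T] : IsRegularRing T := by
  haveI : IsNoetherianRing T := Algebra.FiniteType.isNoetherianRing k T
  exact isRegularRing_of_formallySmooth_field k T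

theorem isGeometricallyRegular_of_smooth_field (k T : Type u) [Field k] [CommRing T] [Algebra k T]
    [Algebra.Smooth k T] : CAlg.IsGeometricallyRegular k T := by
  intro k' _ _ _
  exact isRegularRing_of_smooth_field k' (k' ⊗[k] T)

theorem isRegularHom_of_smooth (R S : Type u) [CommRing R] [CommRing S] [Algebra R S]
    [Algebra.Smooth R S] : CAlg.IsRegularHom R S := by
  refine ⟨inferInstance, fun p hp => ?_⟩
  haveI : Algebra.Smooth p.ResidueField (p.Fiber S) :=
    inferInstanceAs (Algebra.Smooth p.ResidueField (p.ResidueField ⊗[R] S))
  exact ⟨Algebra.FiniteType.isNoetherianRing p.ResidueField _,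
    isGeometricallyRegular_of_smooth_field _ _⟩

end Groth.Agent.Lib.SmoothRegHomH3
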