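import Mathlib
import Groth.Agent.Lib.SmoothRegHom_helper3
import Groth.Agent.Lib.RegFlat_helper3
import Groth.Agent.Lib.RegLoc_helper3
import Groth.Agent.Lib.HypSm3_helper9

/-!
# Smooth points over a regular base are regular points (helper3)

* `isRegularRing_of_smooth`: a smooth algebra over a regular ring is a regular ring.
* `isRegularLocalRing_of_isSmoothAt`: if `S` is finitely presented over a regular ring `R` and
  smooth at the prime `P`, then `S_P` is a regular local ring.
* `isSmoothAt_of_derivation`: hypersurface criterion: for `B` smooth over `A`, `S = B/(g)` and an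
  `A`-derivation `D : B → S` with `D g ∉ P`, the algebra `S` is smooth over `A` at `P`.
-/

set_option autoImplicit false
set_option maxSynthPendingDepth 3
universe u

namespace Groth.Agent.Lib.RegSmoothPtH3

open TensorProduct

theorem isRegularRing_of_smooth (R S : Type u) [CommRing R] [CommRing S] [Algebra R S]
    [IsRegularRing R] [Algebra.Smooth R S] : IsRegularRing S := by
  have hR := Groth.Agent.Lib.SmoothRegHomH3.isRegularHom_of_smooth R S
  haveI : Module.Flat R S := hR.1
  haveI : IsNoetherianRing S := Algebra.FiniteType.isNoetherianRing R S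
  apply Groth.Agent.Lib.RegFlatH3.isRegularRing_of_flat_of_fiber R S
  intro p hp
  exact Groth.Agent.Lib.RegFlatH3.isRegularRing_of_isGeometricallyRegular _ _ (hR.2 p).2

theorem isRegularLocalRing_of_isSmoothAt (R S : Type u) [CommRing R] [CommRing S] [Algebra R S]
    [IsRegularRing R] [Algebra.FinitePresentation R S] (P : Ideal S) [P.IsPrime]
    [Algebra.IsSmoothAt R P] : IsRegularLocalRing (Localization.AtPrime P) := by
  obtain ⟨f, hfP, hsm⟩ := Algebra.IsSmoothAt.exists_notMem_smooth R P
  haveI := hsm
  haveI : IsRegularRing (Localization.Away f) := isRegularRing_of_smooth R _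
  have hunit : IsUnit (algebraMap S (Localization.AtPrime P) f) :=
    IsLocalization.map_units _ (⟨f, hfP⟩ : P.primeCompl)
  letI : Algebra (Localization.Away f) (Localization.AtPrime P) :=
    (IsLocalization.Away.lift f hunit).toAlgebra
  haveI : IsScalarTower S (Localization.Away f) (Localization.AtPrime P) :=
    IsScalarTower.of_algebraMap_eq' (IsLocalization.Away.lift_comp _ hunit).symm
  haveI : IsLocalization (P.primeCompl.map (algebraMap S (Localization.Away f)))
      (Localization.AtPrime P) :=
    IsLocalization.isLocalization_of_submonoid_le _ _ (Submonoid.powers f) P.primeCompl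
      (Submonoid.powers_le.2 hfP)
  haveI : IsRegularRing (Localization.AtPrime P) :=
    Groth.Agent.Lib.RegLocH3.isRegularRing_of_isLocalization
      (P.primeCompl.map (algebraMap S (Localization.Away f))) _
  exact IsRegularLocalRing.of_isRegularRing_of_isLocalRing _

section Hyp

variable (A B S : Type u) [CommRing A] [CommRing B] [CommRing S] [Algebra A B] [Algebra B S]
  [Algebra A S] [IsScalarTower A B S]

/-- the functional on `S ⊗ Ω_{B/A}` attached to a derivation `B → S` -/
noncomputable def psiOf (D : Derivation A B S) : Module.Dual S (S ⊗[B] Ω[B⁄A]) :=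
  LinearMap.liftBaseChange S D.liftKaehlerDifferential

theorem psiOf_xg (D : Derivation A B S) (g : B) :
    psiOf A B S D (Groth.Agent.HypAnn9.xg A B S g) = D g := by
  unfold psiOf Groth.Agent.HypAnn9.xg
  rw [LinearMap.liftBaseChange_tmul, Derivation.liftKaehlerDifferential_comp_D, one_smul]

theorem isSmoothAt_of_derivation [Algebra.Smooth A B] (g : B)
    (hsurj : Function.Surjective (algebraMap B S))
    (hker : RingHom.ker (algebraMap B S) = Ideal.span {g}) (P : Ideal S) [hP : P.IsPrime]
    (D : Derivation A B S) (hD : D g ∉ P) : Algebra.IsSmoothAt A P := by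
  have := Groth.Agent.HypAnn9.mem_smoothLocus_of A B S hsurj g hker ⟨P, hP⟩ (psiOf A B S D)
    (by rwa [psiOf_xg])
  exact this

end Hyp

end Groth.Agent.Lib.RegSmoothPtH3
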