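import Mathlib
import Groth.Prelude
import Groth.Agent.Lib.HomExt1_helper8
import Groth.Agent.Lib.KerFree1_helper8
import Groth.Agent.Lib.FLF2_helper8
import Groth.Agent.Lib.FibStalkDepth2_helper5
import Groth.Agent.Lib.ReflFree_helper5
import Groth.Agent.Lib.RegSmoothPt_helper3
import Groth.Agent.Lib.SmoothRegHom_helper3
import Groth.Agent.Lib.RegQuot_helper5

/-!
# Smooth fibres are regular; extension of sections of locally free modules across closed sets of
fibrewise codimension `≥ 2` (helper4)
-/

set_option autoImplicit false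
set_option linter.unusedVariables false
set_option linter.unusedTactic false
set_option linter.unreachableTactic false
set_option linter.unusedSectionVars false
set_option linter.style.haveILetI false
set_option maxHeartbeats 800000
set_option backward.isDefEq.respectTransparency false

universe u

open CategoryTheory AlgebraicGeometry Limits TopologicalSpace

namespace Groth.Agent.Lib.FibCodim2H4

/-- the local rings of a scheme smooth over a field are regular -/
theorem stalk_regular_of_smooth_field {X : Scheme.{u}} (K : CommRingCat.{u}) (hK : IsField K)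
    (g : X ⟶ Spec K) [Smooth g] (x : X) : IsRegularLocalRing (X.presheaf.stalk x) := by
  letI : Field K := hK.toField
  obtain ⟨U, hU, hxU, -⟩ :=
    AlgebraicGeometry.exists_isAffineOpen_mem_and_subset (X := X) (x := x) (U := ⊤) trivial
  have e : U ≤ g ⁻¹ᵁ ⊤ := fun _ _ => trivial
  have hφ : (g.appLE ⊤ U e).hom.Smooth := g.smooth_appLE (isAffineOpen_top _) hU e
  letI : Algebra Γ(Spec K, ⊤) Γ(X, U) := (g.appLE ⊤ U e).hom.toAlgebra
  haveI : Algebra.Smooth Γ(Spec K, ⊤) Γ(X, U) := hφ
  haveI : IsRegularRing K := Groth.Agent.Lib.SmoothRegHomH3.isRegularRing_of_smooth_field K K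
  haveI : IsRegularRing Γ(Spec K, ⊤) :=
    IsRegularRing.of_ringEquiv (Scheme.ΓSpecIso K).commRingCatIsoToRingEquiv.symm
  haveI : IsRegularRing Γ(X, U) :=
    Groth.Agent.Lib.RegSmoothPtH3.isRegularRing_of_smooth Γ(Spec K, ⊤) Γ(X, U)
  letI := X.presheaf.algebra_section_stalk ⟨x, hxU⟩
  haveI := hU.isLocalization_stalk ⟨x, hxU⟩
  exact IsRegularLocalRing.of_ringEquiv
    (IsLocalization.algEquiv (hU.primeIdealOf ⟨x, hxU⟩).asIdeal.primeCompl
      (Localization.AtPrime (hU.primeIdealOf ⟨x, hxU⟩).asIdeal) (X.presheaf.stalk x)).toRingEquiv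

/-- the local rings of the fibres of a smooth morphism are regular -/
theorem fiberStalk_regular {P S : Scheme.{u}} (f : P ⟶ S) [Smooth f] (x : P) :
    IsRegularLocalRing (CInt.fiberStalk f x) := by
  haveI : Smooth (f.fiberToSpecResidueField (f x)) :=
    inferInstanceAs (Smooth (pullback.snd f (S.fromSpecResidueField (f x))))
  exact stalk_regular_of_smooth_field (S.residueField (f x)) (Field.toIsField _)
    (f.fiberToSpecResidueField (f x)) (f.asFiber x)

/-- the local rings of the fibres of a smooth morphism are Cohen–Macaulay -/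
theorem fiberStalk_cm {P S : Scheme.{u}} (f : P ⟶ S) [Smooth f] (x : P) :
    LocCoh.IsCohenMacaulayLocalRing (CInt.fiberStalk f x) := by
  haveI := fiberStalk_regular f x
  exact LocCoh.IsCohenMacaulayLocalRing.mk (Groth.Agent.RegQuot.isCM_of_regular _)

/-- depth of the total space along points where the smooth fibre has dimension `≥ d` -/
theorem depth_ge_of_fiber_dim {P S : Scheme.{u}} [IsLocallyNoetherian P] [IsLocallyNoetherian S]
    (f : P ⟶ S) [Smooth f] (d : ℕ) (x : P)
    (hx : (d : WithBot ℕ∞) ≤ ringKrullDim ↑(CInt.fiberStalk f x)) :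
    (d : ℕ∞) ≤ LocCoh.depth (P.presheaf.stalk x) (P.presheaf.stalk x) :=
  Groth.Agent.FibStalkDepth2.main14107 f (fun y => fiberStalk_cm f y) {x} d
    (fun y hy => by rw [Set.mem_singleton_iff.mp hy]; exact hx) x rfl

theorem main (k : Type u) [Field k] (S X : Scheme.{u})
    (b : S ⟶ Spec (CommRingCat.of k)) (a : X ⟶ Spec (CommRingCat.of k))
    [IsLocallyNoetherian S] [Smooth a]
    (E : (pullback b a).Modules) (hE : FlatMod.IsFinLocFree E)
    (Z : Closeds ↥(pullback b a))
    (hZ : ∀ x : ↥(pullback b a), x ∈ Z →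
      (2 : WithBot ℕ∞) ≤ ringKrullDim ↑(CInt.fiberStalk (pullback.fst b a) x)) :
    IsIso ((Scheme.Modules.restrictAdjunction
      (Scheme.Opens.ι (Z.compl : (pullback b a).Opens))).unit.app E) := by
  haveI : IsLocallyNoetherian (pullback b a) :=
    LocallyOfFiniteType.isLocallyNoetherian (pullback.fst b a)
  have hcoh : Coh.IsCoh E := KerFreeH8.isCoh_of_finLocFree hE
  haveI : E.IsQuasicoherent := hcoh.1
  haveI : SheafOfModules.IsFiniteType (R := (pullback b a).ringCatSheaf) E := hcoh.2
  refine HomExtH8.isIso_unit_of_depth (Z.compl : (pullback b a).Opens) E hcoh ?_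
  intro x hx
  have hxZ : x ∈ Z := by
    by_contra h
    exact hx h
  have h2 : ((2 : ℕ) : ℕ∞) ≤ LocCoh.depth ((pullback b a).presheaf.stalk x)
      ((pullback b a).presheaf.stalk x) :=
    depth_ge_of_fiber_dim (pullback.fst b a) 2 x (by exact_mod_cast hZ x hxZ)
  haveI := FLFH8.free_stalk_of_finLocFree E hE x
  haveI := FLFH8.finite_stalk E x
  have h3 : ((2 : ℕ) : ℕ∞) ≤ LocCoh.depth ((pullback b a).presheaf.stalk x)
      (E.presheaf.stalk x) :=
    Groth.Agent.ReflFree.le_depth_free _ 2 h2 (E.presheaf.stalk x)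
  exact_mod_cast h3

end Groth.Agent.Lib.FibCodim2H4
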