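import Mathlib
import Groth.Prelude
import Groth.Agent.Lib.CurvStRank_helper2
import Groth.Agent.Lib.CurveAmple5_helper9
import Groth.Agent.Lib.ConnIrr1_helper8
import Groth.Agent.Lib.FibCodim2_helper4
import Groth.Agent.Lib.Regular_helper5
import Groth.Agent.Lib.H0Lift4_helper2
import Groth.Agent.Lib.BC0Free_helper2
import Groth.Agent.Lib.PBCLoc2_helper2
import Groth.Agent.Lib.Tens18_helper8

/-!
# Invertible modules of large degree on families of smooth curves (helper2)

APPEND-ONLY once landed.
-/

set_option autoImplicit false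
set_option backward.isDefEq.respectTransparency false
set_option backward.isDefEq.respectTransparency.types false
set_option linter.style.haveILetI false
set_option linter.unusedSectionVars false
universe u

open CategoryTheory CategoryTheory.Limits AlgebraicGeometry TopologicalSpace Opposite

namespace Groth.Agent.Lib.PBCH2

section Geo

variable {X Y : Scheme.{u}} (f : X ⟶ Y) [IsProper f] [LocallyOfFinitePresentation f]
  (F : X.Modules) [Coh.IsQCoh F] (hfp : CohB1.IsFP F) (hfl : FlatMod.IsFlatOver f F)

include hfp hfl in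
/-- if the `p`-th fibre cohomology vanishes everywhere, `R^p f_* F` vanishes -/
theorem isZero_Rpush_of_fiberRank_zero [HasInjectiveResolutions X.Modules] (p : ℕ)
    (hU : ∀ y : Y, CohIII.fiberRank f F p y = 0) : IsZero ((Coh.Rpush f p).obj F) := by
  haveI : F.IsQuasicoherent := ‹Coh.IsQCoh F›
  apply Groth.Agent.Lib.WeakAssSch_helper4.isZero_of_forall_affine
  intro V hV t
  haveI : IsAffine (V : Scheme.{u}) := hV
  obtain ⟨P, hP, -, -, hrk, -, hsec⟩ := locPackage' f F hfp hfl V hV
  obtain ⟨e⟩ := hsec p
  have hP' : ∀ i, Module.Finite Γ((V : Scheme.{u}), ⊤) (P.X i) ∧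
      Module.Projective Γ((V : Scheme.{u}), ⊤) (P.X i) := fun i =>
    ⟨(hP i).1, haveI := (hP i).2; inferInstance⟩
  have hd : ∀ x : PrimeSpectrum Γ((V : Scheme.{u}), ⊤),
      CohIII.dRank P (-(p : ℤ)) x = 0 := by
    intro x
    obtain ⟨y', rfl⟩ := (Scheme.Hom.homeomorph (V : Scheme.{u}).toSpecΓ).surjective x
    exact (hrk p y'.1 y'.2).symm.trans (hU _)
  obtain ⟨hsub, -⟩ := isZero_T_of_dRank_zero P hP' _ hd
  haveI : Subsingleton Γ(((Coh.Rpush f p).obj F).restrict V.ι, ⊤) := e.toEquiv.subsingleton
  have key : ∀ W₂ : Y.Opens, V.ι ''ᵁ ⊤ = W₂ → ∀ t : Γ((Coh.Rpush f p).obj F, W₂), t = 0 := by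
    rintro _ rfl t
    exact Subsingleton.elim (α := Γ(((Coh.Rpush f p).obj F).restrict V.ι, ⊤)) t 0
  exact key V (Scheme.Opens.ι_image_top V) t

end Geo

end Groth.Agent.Lib.PBCH2

namespace Groth.Agent.Lib.CBCH2

section Push0

variable {X S : Scheme.{u}} (f : X ⟶ S) [IsProper f] [LocallyOfFinitePresentation f]
  (F : X.Modules) [Coh.IsQCoh F] (hfp : CohB1.IsFP F) (hfl : FlatMod.IsFlatOver f F)

include hfp hfl in
/-- `f_* F` is finite locally free when `H^1` of all the fibres vanishes -/
theorem isFinLocFree_push_of_H1 (h1 : ∀ v : S, Subsingleton (CohIII.fiberH f F v 1)) :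
    FlatMod.IsFinLocFree ((Scheme.Modules.pushforward f).obj F) := by
  haveI : F.IsQuasicoherent := ‹Coh.IsQCoh F›
  haveI : ((Scheme.Modules.pushforward f).obj F).IsQuasicoherent :=
    QcqsLoc.isQuasicoherent_pushforward_qcqs f F
  apply FLFH8.finLocFree_of_fp_flat_sections
  rintro ⟨T, hT⟩
  obtain ⟨hfin, hproj⟩ := finite_projective_sections_push f F hfp hfl T hT (fun v _ => h1 v)
  haveI := hfin
  haveI := hproj
  exact ⟨Module.finitePresentation_of_projective _ _, inferInstance⟩

end Push0

section Field

/-- a connected scheme smooth over a field is integral -/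
theorem isIntegral_of_smooth_connected (k : Type u) [Field k] {X : Scheme.{u}}
    (g : X ⟶ Spec (CommRingCat.of k)) [Smooth g] [ConnectedSpace X] : IsIntegral X := by
  haveI : IsNoetherianRing (CommRingCat.of k) := inferInstanceAs (IsNoetherianRing k)
  haveI : IsLocallyNoetherian X := LocallyOfFiniteType.isLocallyNoetherian g
  exact ConnIrrH8.isIntegral_of_connected X (fun x => by
    haveI := Groth.Agent.Lib.FibCodim2H4.stalk_regular_of_smooth_field (CommRingCat.of k)
      (Field.toIsField k) g x
    exact Groth.Agent.RegularLib.isDomain _)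

end Field

section Curves

variable {C S : Scheme.{u}} (f : C ⟶ S)

set_option maxHeartbeats 1600000 in
/-- on a fibre of a family of smooth proper geometrically connected curves, an invertible module
of degree `> 2g - 2` has no `H^1` -/
theorem subsingleton_fiberH_one_of_deg [Smooth f] [IsProper f] [GeometricallyConnected f]
    (L : C.Modules) (hL : PicF.IsInvertible L) (s : S)
    (hdim : topologicalKrullDim ↥(f.fiber s) = 1)
    (hdeg : ((CohIII.fiberRank f L 0 s : ℤ) - CohIII.fiberRank f L 1 s) -
        (1 - (CohIII.fiberRank f (Coh.structureModule C) 1 s : ℤ)) >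
      2 * (CohIII.fiberRank f (Coh.structureModule C) 1 s : ℤ) - 2) :
    Subsingleton (CohIII.fiberH f L s 1) := by
  letI : (f.fiber s).Over (Spec (CommRingCat.of (S.residueField s))) :=
    ⟨f.fiberToSpecResidueField s⟩
  haveI hsm : Smooth (f.fiberToSpecResidueField s) := by
    show Smooth (pullback.snd f (S.fromSpecResidueField s))
    infer_instance
  haveI hpr : IsProper ((f.fiber s) ↘ Spec (CommRingCat.of (S.residueField s))) := by
    show IsProper (pullback.snd f (S.fromSpecResidueField s))
    infer_instance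
  haveI hgr : GeometricallyReduced ((f.fiber s) ↘ Spec (CommRingCat.of (S.residueField s))) :=
    Groth.Agent.Lib.ActZeroDimH4.geomRed_of_smooth (f.fiberToSpecResidueField s)
  haveI hgc : GeometricallyConnected
      ((f.fiber s) ↘ Spec (CommRingCat.of (S.residueField s))) := by
    show GeometricallyConnected (f.fiberToSpecResidueField s)
    infer_instance
  haveI : IsIntegral (f.fiber s) :=
    isIntegral_of_smooth_connected (S.residueField s) (f.fiberToSpecResidueField s)
  have hLs : PicF.IsInvertible (CohIII.fiberMod f L s) := TensH8.isInvertible_pullback _ hL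
  have h00 : Module.finrank (S.residueField s)
      (Coh.HH (f.fiber s) (Coh.structureModule (f.fiber s)) 0) = 1 :=
    Groth.Agent.Lib.H0ConstH4.main1536 (S.residueField s) (f.fiber s)
  haveI hq1 : (CohIII.fiberMod f L s).IsQuasicoherent :=
    (Groth.Agent.Lib.H0LiftH2.isCoh_of_isInvertible hLs).1
  haveI hq2 : (Coh.structureModule (f.fiber s)).IsQuasicoherent :=
    (CohDevH8.isCoh_structureModule (f.fiber s)).1
  have e2 := CurveRR.euler_eq_sub (S.residueField s) (f.fiber s) hdim.le (CohIII.fiberMod f L s)
  have e3 := CurveRR.euler_eq_sub (S.residueField s) (f.fiber s) hdim.le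
    (Coh.structureModule (f.fiber s))
  have eO : CohIII.fiberRank f (Coh.structureModule C) 1 s =
      Module.finrank (S.residueField s)
        (Coh.HH (f.fiber s) (Coh.structureModule (f.fiber s)) 1) :=
    (Groth.Agent.Lib.StalkFFH2.HHlinEquiv (S.residueField s)
      (PBH8.pullbackUnitIso (f.fiberι s)) 1).finrank_eq
  have hA : CohIII.fiberRank f L 0 s =
      Module.finrank (S.residueField s) (Coh.HH (f.fiber s) (CohIII.fiberMod f L s) 0) := rfl
  have hB : CohIII.fiberRank f L 1 s =
      Module.finrank (S.residueField s) (Coh.HH (f.fiber s) (CohIII.fiberMod f L s) 1) := rfl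
  rw [hA, hB, eO] at hdeg
  apply CurveAmple.HH1_subsingleton_of_deg_ge (S.residueField s) (f.fiber s) hdim.le hLs
  unfold Curv2.deg Curv2.genus
  rw [e2, e3, h00]
  push_cast
  omega

end Curves

end Groth.Agent.Lib.CBCH2
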