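import Mathlib
import Groth.Prelude
import Groth.Agent.Lib.Tens30_helper8

/-!
# Invertibility of the ideal module of an effective Cartier divisor (helper8)
APPEND-ONLY once landed.
-/

set_option autoImplicit false

namespace TensH8

open AlgebraicGeometry CategoryTheory CategoryTheory.Limits TopologicalSpace Opposite TensorProduct
open QcqsLoc MonoidalCategory GenLocH8 FLFH8 QCohExtn PBH8 SerreCrit

universe u

variable {X : Scheme.{u}}

theorem idealModι_injective (I : X.IdealSheafData) (W : X.Opens) :
    Function.Injective (ap (ClSub.idealModι I) W) := by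
  haveI : Mono (ClSub.idealModι I) :=
    inferInstanceAs (Mono (kernel.ι (ClSub.unitToPush I.subschemeι)))
  exact QCohExact.app_injective_of_mono (ClSub.idealModι I) W

theorem idealModι_smul (I : X.IdealSheafData) {W : X.Opens} (c : Γ(X, W))
    (t : Γ(ClSub.idealMod I, W)) :
    toFn (ap (ClSub.idealModι I) W (c • t)) = c * toFn (ap (ClSub.idealModι I) W t) := by
  rw [ap_smul]
  rfl

theorem idealModι_rF (I : X.IdealSheafData) {W W' : X.Opens} (h : W' ≤ W)
    (t : Γ(ClSub.idealMod I, W)) :
    toFn (ap (ClSub.idealModι I) W' (rF (ClSub.idealMod I) h t)) =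
      rX h (toFn (ap (ClSub.idealModι I) W t)) := by
  rw [ap_rF]
  rfl

/-- An effective Cartier ideal has an invertible ideal module. -/
theorem isInvertible_idealMod_of_isEffCartierIdeal (I : X.IdealSheafData)
    (h : BlowUp.IsEffCartierIdeal I) : PicF.IsInvertible (ClSub.idealMod I) := by
  apply isInvertible_of_gens
  intro x
  obtain ⟨U, hxU, f, hf, hI⟩ := h x
  obtain ⟨t, ht⟩ := exists_idealMod_section I U.2 f (by rw [hI]; exact Ideal.mem_span_singleton_self f)
  refine ⟨U.1, U.2, hxU, t, ?_⟩
  apply isGen_of_basis t {W | ∃ a : Γ(X, U.1), W = X.basicOpen a}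
  · intro O z hO hz
    obtain ⟨a, ha, hza⟩ := U.2.exists_basicOpen_le (V := O) ⟨z, hz⟩ (hO hz)
    exact ⟨X.basicOpen a, ⟨a, rfl⟩, hza, ha⟩
  · rintro _ ⟨a, rfl⟩ hle
    have hloc : IsLocalization.Away a Γ(X, X.basicOpen a) := U.2.isLocalization_basicOpen a
    letI : Algebra Γ(X, U.1) Γ(X, X.basicOpen a) := (rX (X.basicOpen_le a)).toAlgebra
    have hnzd : rX (X.basicOpen_le a) f ∈ nonZeroDivisors Γ(X, X.basicOpen a) :=
      IsLocalization.map_nonZeroDivisors_le (Submonoid.powers a) Γ(X, X.basicOpen a)
        (Submonoid.mem_map_of_mem _ hf)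
    have hιt : toFn (ap (ClSub.idealModι I) (X.basicOpen a) (rF (ClSub.idealMod I) hle t)) =
        rX (X.basicOpen_le a) f := by
      rw [idealModι_rF, ht]
    constructor
    · intro l
      have h1 := idealModι_mem I (U.2.basicOpen a) l
      have h2 : I.ideal ⟨X.basicOpen a, U.2.basicOpen a⟩ =
          Ideal.span {rX (X.basicOpen_le a) f} := by
        have := I.map_ideal_basicOpen U a
        rw [hI, Ideal.map_span, Set.image_singleton] at this
        exact this.symm
      rw [h2, Ideal.mem_span_singleton'] at h1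
      obtain ⟨c, hc⟩ := h1
      refine ⟨c, ?_⟩
      apply idealModι_injective I
      apply (show Function.Injective (toFn : Γ(OO X, X.basicOpen a) → Γ(X, X.basicOpen a)) from
        fun _ _ h => h)
      rw [idealModι_smul, hιt, hc]
    · intro c hc
      have h1 : c * rX (X.basicOpen_le a) f = 0 := by
        rw [← hιt, ← idealModι_smul, hc, map_zero]
        rfl
      exact (mem_nonZeroDivisors_iff.mp hnzd).2 c h1

/-- If the ideal module is invertible then the ideal is effective Cartier. -/
theorem isEffCartierIdeal_of_isInvertible_idealMod (I : X.IdealSheafData)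
    (h : PicF.IsInvertible (ClSub.idealMod I)) : BlowUp.IsEffCartierIdeal I := by
  intro x
  obtain ⟨W, hW, hxW, e, he⟩ := exists_isGen h x
  have hnz : ∀ c : Γ(X, W), c * toFn (ap (ClSub.idealModι I) W e) = 0 → c = 0 := by
    intro c hc
    have h1 : ap (ClSub.idealModι I) W (c • e) = 0 := by
      have := idealModι_smul I c e
      rw [hc] at this
      exact this
    have h2 : c • e = 0 := by
      apply idealModι_injective I
      rw [h1, map_zero]
    have h3 := (he W le_rfl).2 c
    rw [SubExt.rF_self] at h3
    exact h3 h2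
  refine ⟨⟨W, hW⟩, hxW, toFn (ap (ClSub.idealModι I) W e), ?_, ?_⟩
  · rw [mem_nonZeroDivisors_iff]
    exact ⟨fun c hc => hnz c (by rw [mul_comm]; exact hc), hnz⟩
  · apply le_antisymm
    · intro a ha
      obtain ⟨t, ht⟩ := exists_idealMod_section I hW a ha
      obtain ⟨c, hc⟩ := he.exists_coef t
      rw [Ideal.mem_span_singleton']
      exact ⟨c, by rw [← ht, hc, idealModι_smul]⟩
    · rw [Ideal.span_le, Set.singleton_subset_iff]
      exact idealModι_mem I hW e

theorem isInvertible_idealMod_iff (I : X.IdealSheafData) :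
    PicF.IsInvertible (ClSub.idealMod I) ↔ BlowUp.IsEffCartierIdeal I :=
  ⟨isEffCartierIdeal_of_isInvertible_idealMod I, isInvertible_idealMod_of_isEffCartierIdeal I⟩

end TensH8
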