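import Mathlib
import Groth.Prelude
import Groth.Agent.Lib.PB7_helper8
import Groth.Agent.Lib.Tens31_helper8
import Groth.Agent.Lib.SubExt_helper9
import Groth.Agent.Lib.QCohCrit_helper9

/-!
# The sheaf of differentials of `Spec A → Spec R` is `tilde Ω[A/R]` (helper4)
APPEND-ONLY once landed.
-/

set_option autoImplicit false
set_option linter.style.haveILetI false

universe u

open CategoryTheory CategoryTheory.Limits AlgebraicGeometry Opposite TopologicalSpace TensorProduct
open AlgebraicGeometry.Scheme.Modules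

namespace Groth.Agent.Lib.OmegaAffH4

section Alg

/-- If `c : N → M` is a base change along a surjection `B → C` with kernel `I`, and `N ≃ I`,
then `M ≃ I/I²` as `B`-modules. -/
theorem cotangent_of_isBaseChange {B C M N : Type u} [CommRing B] [CommRing C] [Algebra B C]
    [AddCommGroup M] [Module B M] [Module C M] [IsScalarTower B C M]
    [AddCommGroup N] [Module B N]
    (hsurj : Function.Surjective (algebraMap B C))
    (I : Ideal B) (hI : ∀ b, b ∈ I ↔ algebraMap B C b = 0)
    (j : N ≃ₗ[B] I) (c : N →ₗ[B] M) (hc : IsBaseChange C c) :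
    Nonempty (M ≃ₗ[B] I.Cotangent) := by
  have hI' : I = RingHom.ker (Algebra.ofId B C) :=
    Ideal.ext fun b => (hI b).trans (RingHom.mem_ker (f := Algebra.ofId B C)).symm
  subst hI'
  have hs : Function.Surjective (Algebra.ofId B C) := hsurj
  let e2 : (B ⧸ RingHom.ker (Algebra.ofId B C)) ≃ₗ[B] C :=
    (Ideal.quotientKerAlgEquivOfSurjective hs).toLinearEquiv
  let e1 : C ⊗[B] N ≃ₗ[B] M := hc.equiv.restrictScalars B
  let e3 := TensorProduct.congr e2.symm j
  let e4 := TensorProduct.quotTensorEquivQuotSMul (↥(RingHom.ker (Algebra.ofId B C)))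
    (RingHom.ker (Algebra.ofId B C))
  exact ⟨e1.symm.trans (e3.trans e4)⟩

/-- Transport of the cotangent space along a ring isomorphism. -/
theorem cotangent_transport {B B' : Type u} [CommRing B] [CommRing B'] (e : B ≃+* B')
    (I : Ideal B) (I' : Ideal B') (h : ∀ b, b ∈ I ↔ e b ∈ I') :
    ∃ Φ : I.Cotangent ≃+ I'.Cotangent, ∀ (b : B) (x : I.Cotangent), Φ (b • x) = e b • Φ x := by
  let f : B →ₐ[ℤ] B' := (e : B →+* B').toIntAlgHom
  let f' : B' →ₐ[ℤ] B := (e.symm : B' →+* B).toIntAlgHom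
  have hf : ∀ b, f b = e b := fun _ => rfl
  have hf' : ∀ b, f' b = e.symm b := fun _ => rfl
  have h1 : I ≤ I'.comap f := fun b hb => show f b ∈ I' from (hf b).symm ▸ (h b).mp hb
  have h2 : I' ≤ I.comap f' := fun b' hb' => show f' b' ∈ I from (hf' b').symm ▸
    (h (e.symm b')).mpr (by rw [e.apply_symm_apply]; exact hb')
  have hΦ₁ : ∀ y : I, Ideal.mapCotangent I I' f h1 (I.toCotangent y) =
      I'.toCotangent ⟨f y, h1 y.2⟩ := fun y => rfl
  have hΦ₂ : ∀ y : I', Ideal.mapCotangent I' I f' h2 (I'.toCotangent y) =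
      I.toCotangent ⟨f' y, h2 y.2⟩ := fun y => rfl
  refine ⟨{ toFun := Ideal.mapCotangent I I' f h1
            invFun := Ideal.mapCotangent I' I f' h2
            left_inv := ?_
            right_inv := ?_
            map_add' := fun x y => map_add _ x y }, ?_⟩
  · intro x
    obtain ⟨y, rfl⟩ := I.toCotangent_surjective x
    rw [hΦ₁, hΦ₂]
    exact congrArg I.toCotangent (Subtype.ext (e.symm_apply_apply y))
  · intro x
    obtain ⟨y, rfl⟩ := I'.toCotangent_surjective x
    rw [hΦ₂, hΦ₁]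
    exact congrArg I'.toCotangent (Subtype.ext (e.apply_symm_apply y))
  · intro b x
    obtain ⟨y, rfl⟩ := I.toCotangent_surjective x
    show Ideal.mapCotangent I I' f h1 (b • I.toCotangent y) =
      e b • Ideal.mapCotangent I I' f h1 (I.toCotangent y)
    rw [← map_smul I.toCotangent b y, hΦ₁, hΦ₁, ← map_smul I'.toCotangent (e b)]
    exact congrArg I'.toCotangent (Subtype.ext (map_mul e b y))

end Alg

section Geom

/-- The ideal module of a quasi-coherent ideal sheaf is quasi-coherent. -/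
theorem isQuasicoherent_idealMod {X : Scheme.{u}} (I : X.IdealSheafData) :
    (ClSub.idealMod I).IsQuasicoherent := by
  haveI : (Coh.structureModule X).IsQuasicoherent := TensH8.isQuasicoherent_structureModule
  haveI : (Coh.structureModule I.subscheme).IsQuasicoherent :=
    TensH8.isQuasicoherent_structureModule
  haveI : ((Scheme.Modules.pushforward I.subschemeι).obj
      (Coh.structureModule I.subscheme)).IsQuasicoherent :=
    QCohCrit.isQuasicoherent_pushforward I.subschemeι _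
  exact SubExt.isQuasicoherent_kernel (ClSub.toSubscheme I)

/-- Sections of the ideal module over an affine open are the ideal. -/
noncomputable def idealModEquiv {X : Scheme.{u}} (I : X.IdealSheafData) {W : X.Opens}
    (hW : IsAffineOpen W) :
    Γ(ClSub.idealMod I, W) ≃ₗ[Γ(X, W)] I.ideal ⟨W, hW⟩ :=
  LinearEquiv.ofBijective
    { toFun := fun t => ⟨SerreCrit.toFn (QCohExtn.ap (ClSub.idealModι I) W t),
        TensH8.idealModι_mem I hW t⟩
      map_add' := fun s t => Subtype.ext (map_add (QCohExtn.ap (ClSub.idealModι I) W) s t)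
      map_smul' := fun c t => Subtype.ext (TensH8.idealModι_smul I c t) }
    ⟨fun s t hst => TensH8.idealModι_injective I W (congrArg Subtype.val hst),
     fun a => by
       obtain ⟨t, ht⟩ := TensH8.exists_idealMod_section I hW a.1 a.2
       exact ⟨t, Subtype.ext ht⟩⟩

variable (R A : Type u) [CommRing R] [CommRing A] [Algebra R A]

/-- `Spec A ⟶ Spec R`. -/
noncomputable abbrev fRA : Spec (CommRingCat.of A) ⟶ Spec (CommRingCat.of R) :=
  Spec.map (CommRingCat.ofHom (algebraMap R A))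

/-- The fibre square. -/
noncomputable abbrev PP : Scheme.{u} := pullback (fRA R A) (fRA R A)

/-- The diagonal. -/
noncomputable abbrev DD : Spec (CommRingCat.of A) ⟶ PP R A := pullback.diagonal (fRA R A)

/-- The ideal module of the diagonal. -/
noncomputable abbrev FF : (PP R A).Modules := ClSub.idealMod (DD R A).ker

/-- The sheaf of differentials. -/
noncomputable abbrev OM : (Spec (CommRingCat.of A)).Modules :=
  (Scheme.Modules.pullback (DD R A)).obj (FF R A)

/-- The multiplication map as a morphism of rings. -/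
noncomputable abbrev mmc : CommRingCat.of (A ⊗[R] A) ⟶ CommRingCat.of A :=
  CommRingCat.ofHom (Algebra.TensorProduct.lmul' R : A ⊗[R] A →ₐ[R] A).toRingHom

/-- Global functions on the fibre square. -/
noncomputable def eIso : Γ(PP R A, ⊤) ≅ CommRingCat.of (A ⊗[R] A) :=
  Scheme.Γ.mapIso (pullbackSpecIso R A A).symm.op ≪≫
    Scheme.ΓSpecIso (CommRingCat.of (A ⊗[R] A))

theorem eIso_comp : (eIso R A).hom ≫ mmc R A =
    (DD R A).appTop ≫ (Scheme.ΓSpecIso (CommRingCat.of A)).hom := by
  have hd : DD R A = Spec.map (mmc R A) ≫ (pullbackSpecIso R A A).inv := diagonal_SpecMap R A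
  have h1 : (DD R A).appTop =
      (pullbackSpecIso R A A).inv.appTop ≫ (Spec.map (mmc R A)).appTop :=
    (congrArg Scheme.Hom.appTop hd).trans (Scheme.Hom.comp_appTop _ _)
  rw [h1, Category.assoc, Scheme.ΓSpecIso_naturality, ← Category.assoc]
  rfl

theorem lmul_e (b : Γ(PP R A, ⊤)) :
    Algebra.TensorProduct.lmul' R ((eIso R A).hom.hom b) =
      (Scheme.ΓSpecIso (CommRingCat.of A)).hom.hom ((DD R A).appTop.hom b) :=
  congrArg (fun φ => φ.hom b) (eIso_comp R A)

theorem kd_smul (a : A) (y : Ω[A⁄R]) : a • y = ((a ⊗ₜ[R] (1 : A) : A ⊗[R] A) • y) := by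
  rw [← algebraMap_smul (A ⊗[R] A) a y, Algebra.TensorProduct.algebraMap_apply]
  rfl

theorem top_le : (⊤ : (Spec (CommRingCat.of A)).Opens) ≤ (DD R A) ⁻¹ᵁ ⊤ := fun _ _ => trivial

theorem appLE_top : (DD R A).appLE ⊤ ⊤ (top_le R A) = (DD R A).appTop := by
  simp [Scheme.Hom.appLE]

set_option maxHeartbeats 1600000 in
theorem main2157 : Nonempty (Omega.sheaf (Spec.map (CommRingCat.ofHom (algebraMap R A))) ≅
    tilde (R := CommRingCat.of A) (ModuleCat.of A (Ω[A⁄R]))) := by
  haveI : (FF R A).IsQuasicoherent := isQuasicoherent_idealMod _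
  haveI : (OM R A).IsQuasicoherent := inferInstance
  have hU : IsAffineOpen (⊤ : (Spec (CommRingCat.of A)).Opens) := isAffineOpen_top _
  have hV : IsAffineOpen (⊤ : (PP R A).Opens) := isAffineOpen_top _
  letI alg : Algebra Γ(PP R A, ⊤) Γ(Spec (CommRingCat.of A), ⊤) :=
    ((DD R A).appLE ⊤ ⊤ (top_le R A)).hom.toAlgebra
  letI mod : Module Γ(PP R A, ⊤) Γ(OM R A, ⊤) :=
    Module.compHom _ ((DD R A).appLE ⊤ ⊤ (top_le R A)).hom
  haveI tow : IsScalarTower Γ(PP R A, ⊤) Γ(Spec (CommRingCat.of A), ⊤) Γ(OM R A, ⊤) :=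
    IsScalarTower.of_algebraMap_smul fun _ _ => rfl
  have hbc : IsBaseChange Γ(Spec (CommRingCat.of A), ⊤)
      (PBH8.cUVLin (DD R A) (FF R A) (top_le R A)) :=
    PBH8.isBaseChange_cUV (DD R A) (FF R A) (top_le R A) hU hV
  have halg : ∀ b : Γ(PP R A, ⊤),
      algebraMap Γ(PP R A, ⊤) Γ(Spec (CommRingCat.of A), ⊤) b = (DD R A).appTop.hom b := by
    intro b
    show ((DD R A).appLE ⊤ ⊤ (top_le R A)).hom b = _
    rw [appLE_top]
  have hsurj : Function.Surjective
      (algebraMap Γ(PP R A, ⊤) Γ(Spec (CommRingCat.of A), ⊤)) := by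
    intro c
    refine ⟨(pullback.fst (fRA R A) (fRA R A)).appTop.hom c, ?_⟩
    rw [halg]
    have h0 : (pullback.fst (fRA R A) (fRA R A)).appTop ≫ (DD R A).appTop = 𝟙 _ := by
      rw [← Scheme.Hom.comp_appTop, pullback.diagonal_fst, Scheme.Hom.id_appTop]
    exact congrArg (fun φ => φ.hom c) h0
  have hI : ∀ b, b ∈ (DD R A).ker.ideal ⟨⊤, hV⟩ ↔
      algebraMap Γ(PP R A, ⊤) Γ(Spec (CommRingCat.of A), ⊤) b = 0 := by
    intro b
    rw [Scheme.Hom.ker_apply, RingHom.mem_ker, halg]
    exact Iff.rfl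
  obtain ⟨Θ⟩ := cotangent_of_isBaseChange hsurj ((DD R A).ker.ideal ⟨⊤, hV⟩) hI
    (idealModEquiv (DD R A).ker hV) (PBH8.cUVLin (DD R A) (FF R A) (top_le R A)) hbc
  let e : Γ(PP R A, ⊤) ≃+* A ⊗[R] A := (eIso R A).commRingCatIsoToRingEquiv
  let γe : Γ(Spec (CommRingCat.of A), ⊤) ≃+* A :=
    (Scheme.ΓSpecIso (CommRingCat.of A)).commRingCatIsoToRingEquiv
  have he : ∀ b, e b = (eIso R A).hom.hom b := fun _ => rfl
  have hγ : ∀ c, γe c = (Scheme.ΓSpecIso (CommRingCat.of A)).hom.hom c := fun _ => rfl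
  have hK : ∀ b, γe (algebraMap Γ(PP R A, ⊤) Γ(Spec (CommRingCat.of A), ⊤) b) =
      Algebra.TensorProduct.lmul' R (e b) := by
    intro b
    rw [halg, hγ, he, lmul_e]
  have hII' : ∀ b, b ∈ (DD R A).ker.ideal ⟨⊤, hV⟩ ↔ e b ∈ KaehlerDifferential.ideal R A := by
    intro b
    rw [hI, RingHom.mem_ker, ← hK]
    exact (map_eq_zero_iff γe γe.injective).symm
  obtain ⟨Φ, hΦ⟩ := cotangent_transport e _ (KaehlerDifferential.ideal R A) hII'
  letI modA : Module A Γ(OM R A, ⊤) :=
    @AlgebraicGeometry.Scheme.Modules.instModuleCarrierCarrierObjOppositeOpensCarrierCarrierCommRingCatSpecAbPresheafOp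
      (CommRingCat.of A) (OM R A) ⊤
  have hsm : ∀ (a : A) (x : Γ(OM R A, ⊤)), a • x = (e.symm (a ⊗ₜ[R] (1 : A))) • x := by
    intro a x
    have hb : algebraMap Γ(PP R A, ⊤) Γ(Spec (CommRingCat.of A), ⊤) (e.symm (a ⊗ₜ[R] (1 : A))) =
        γe.symm a := by
      apply γe.injective
      rw [hK, e.apply_symm_apply, γe.apply_symm_apply, Algebra.TensorProduct.lmul'_apply_tmul,
        mul_one]
    show a • x = algebraMap Γ(PP R A, ⊤) Γ(Spec (CommRingCat.of A), ⊤)
      (e.symm (a ⊗ₜ[R] (1 : A))) • x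
    rw [hb]
    refine (Scheme.Modules.smul_Spec_def (R := CommRingCat.of A) (M := OM R A) (U := ⊤) a x).trans ?_
    refine congrArg (· • x) ?_
    exact congrArg (fun φ => φ.hom ((Scheme.ΓSpecIso (CommRingCat.of A)).inv.hom a))
      ((Spec (CommRingCat.of A)).presheaf.map_id _)
  let L : Γ(OM R A, ⊤) ≃ₗ[A] Ω[A⁄R] :=
    { toFun := fun x => Φ (Θ x)
      invFun := fun y => Θ.symm (Φ.symm y)
      left_inv := fun x => by
        show Θ.symm (Φ.symm (Φ (Θ x))) = x
        rw [Φ.symm_apply_apply, Θ.symm_apply_apply]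
      right_inv := fun y => by
        show Φ (Θ (Θ.symm (Φ.symm y))) = y
        rw [Θ.apply_symm_apply, Φ.apply_symm_apply]
      map_add' := fun x y => by
        show Φ (Θ (x + y)) = Φ (Θ x) + Φ (Θ y)
        rw [map_add, map_add]
      map_smul' := fun a x => by
        show Φ (Θ (a • x)) = a • (Φ (Θ x) : Ω[A⁄R])
        rw [hsm, _root_.map_smul Θ, hΦ, e.apply_symm_apply]
        exact (kd_smul R A a _).symm }
  let iso : (modulesSpecToSheaf.obj (OM R A)).presheaf.obj (op ⊤) ≅ ModuleCat.of A (Ω[A⁄R]) :=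
    LinearEquiv.toModuleIso L
  exact ⟨(PBH8.epsIso (OM R A)).symm ≪≫ (tilde.functor (CommRingCat.of A)).mapIso iso⟩

end Geom

end Groth.Agent.Lib.OmegaAffH4
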