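import Mathlib
import Groth.Prelude
import Groth.Agent.Lib.CurveAmple5_helper9
import Groth.Agent.Lib.HypSurf_helper9
import Groth.Agent.Lib.ClPush2_helper8
import Groth.Agent.Lib.OmegaAff_helper4
import Groth.Agent.Lib.DimZeroGG_helper8

/-!
# Twists of the ideal sheaf of a zero-dimensional closed subscheme of an integral proper curve
(helper9).  APPEND-ONLY once landed.
-/

set_option autoImplicit false
universe u
open CategoryTheory CategoryTheory.Limits AlgebraicGeometry Opposite TopologicalSpace

namespace CurveIdeal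

open QcqsLoc QCohExtn GenLocH8 TensH8 FLFH8 CohB1 Groth.Agent.HHVan CurveAmple

section Basic

variable {X : Scheme.{u}}

/-- a morphism out of the structure module killing `1` is zero -/
theorem hom_eq_zero_of_ap_one {A : X.Modules} (u : Coh.structureModule X ⟶ A)
    (h : ap u ⊤ (toM (1 : Γ(X, ⊤))) = 0) : u = 0 := by
  apply Scheme.Modules.hom_ext
  intro O
  ext σ
  show ap u O σ = 0
  obtain ⟨d, hd⟩ := ((isGen_one (X := X) ⊤).res (le_top : O ≤ ⊤)).exists_coef σ
  rw [hd, ap_smul, ap_rF, h, map_zero, smul_zero]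

variable (Z : X.IdealSheafData)

instance mono_idealModι : Mono (ClSub.idealModι Z) :=
  inferInstanceAs (Mono (kernel.ι (ClSub.toSubscheme Z)))

/-- `coker (I → O) ≅ O / I` -/
noncomputable def cokernelIso : cokernel (ClSub.idealModι Z) ≅ ClSub.quotMod Z := by
  have hS := Groth.Agent.HypSurf.ses_shortExact Z
  haveI : Epi (Groth.Agent.HypSurf.ses Z).g := hS.epi_g
  exact IsColimit.coconePointUniqueUpToIso (colimit.isColimit _) hS.exact.gIsCokernel

theorem support_quotMod_subset {F : X.Modules} (e : ClSub.quotMod Z ≅ F) :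
    CohB1.support F ⊆ (Z.support : Set X) := by
  have h := ClPushH8.support_subset_range Z.subschemeι
    (by rw [Scheme.IdealSheafData.range_subschemeι]; exact Z.support.isClosed)
    (Coh.structureModule Z.subscheme) F e
  rwa [Scheme.IdealSheafData.range_subschemeι] at h

theorem isClosed_of_mem_support {F : X.Modules} (e : ClSub.quotMod Z ≅ F)
    (hZ : topologicalKrullDim (Z.support : Set X) ≤ 0) :
    ∀ x ∈ CohB1.support F, IsClosed ({x} : Set X) := by
  intro x hx
  have h1 := CycLenH8.closure_singleton_of_dim_zero Z.support.isClosed hZ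
    (support_quotMod_subset Z e hx)
  rw [← h1]
  exact isClosed_closure

theorem isCoh_idealMod [IsLocallyNoetherian X] : Coh.IsCoh (ClSub.idealMod Z) :=
  RelAmpleVanH9.isCoh_of_mono_structureModule _ (ClSub.idealModι Z)
    (Groth.Agent.Lib.OmegaAffH4.isQuasicoherent_idealMod Z)

theorem isCoh_quotMod [IsLocallyNoetherian X] : Coh.IsCoh (ClSub.quotMod Z) :=
  CohDevH8.isCoh_of_iso (cokernelIso Z).symm
    (CohKerH8.isCoh_cokernel (isCoh_idealMod Z) (CohDevH8.isCoh_structureModule X) _)

end Basic

section Theta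

variable (k : Type u) [Field k] {X : Scheme.{u}} [X.Over (Spec (CommRingCat.of k))]

theorem theta_injective (A : X.Modules) : Function.Injective (theta k A) := by
  rw [← LinearMap.ker_eq_bot, LinearMap.ker_eq_bot']
  intro u hu
  apply hom_eq_zero_of_ap_one
  rw [← theta_apply k A u, hu, map_zero]

/-- `Hom(O, A) ≃ H⁰(A)` -/
noncomputable def thetaEquiv (A : X.Modules) :
    (Coh.structureModule X ⟶ A) ≃ₗ[k] Coh.HH X A 0 :=
  LinearEquiv.ofBijective (theta k A) ⟨theta_injective k A, theta_surjective k A⟩

variable (Z : X.IdealSheafData)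

/-- if `H⁰(O_X) = k` and `Z` is nonempty then `H⁰(I_Z) = 0` -/
theorem HH0_idealMod_subsingleton
    (h0 : Module.finrank k (Coh.HH X (Coh.structureModule X) 0) = 1)
    (hz : ClSub.toSubscheme Z ≠ 0) : Subsingleton (Coh.HH X (ClSub.idealMod Z) 0) := by
  have h1 : Module.finrank k (Coh.structureModule X ⟶ Coh.structureModule X) = 1 := by
    rw [(thetaEquiv k (Coh.structureModule X)).finrank_eq, h0]
  have hid : 𝟙 (Coh.structureModule X) ≠ 0 := by
    intro h
    apply hz
    rw [← Category.id_comp (ClSub.toSubscheme Z), h, zero_comp]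
  have key : ∀ v : Coh.HH X (ClSub.idealMod Z) 0, v = 0 := by
    intro v
    obtain ⟨u, rfl⟩ := theta_surjective k (ClSub.idealMod Z) v
    obtain ⟨c, hc⟩ := (finrank_eq_one_iff_of_nonzero' _ hid).mp h1 (u ≫ ClSub.idealModι Z)
    have h2 : (u ≫ ClSub.idealModι Z) ≫ ClSub.toSubscheme Z = 0 := by
      rw [Category.assoc]
      have : ClSub.idealModι Z ≫ ClSub.toSubscheme Z = 0 := kernel.condition _
      rw [this, comp_zero]
    rw [← hc, Linear.smul_comp, Category.id_comp] at h2
    rcases smul_eq_zero.mp h2 with h3 | h3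
    · rw [h3, zero_smul] at hc
      have h4 : u = 0 := by
        rw [← cancel_mono (ClSub.idealModι Z), ← hc, zero_comp]
      rw [h4, map_zero]
    · exact absurd h3 hz
  exact ⟨fun a b => by rw [key a, key b]⟩

end Theta

end CurveIdeal
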