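import Mathlib
import Groth.Prelude.Def_LocCohZ
import Groth.Agent.Lib.LocCohZ_helper2

/-!
# Sections with support in a closed subset: concrete description
-/

set_option autoImplicit false
universe u
open CategoryTheory Limits TopologicalSpace Opposite Abelian

namespace Groth.Agent.Lib.SectSupp

open Groth.Agent.Lib.Cech Groth.Agent.Lib.FreeSheaf Groth.Agent.Lib.FlasqueAcyclic
  Groth.Agent.Lib.RestrOpen

variable {X : TopCat.{u}} (U : Opens X)

lemma img_preimg_le (V : Opens X) : jj U ((Opens.map (CohCx.incl U)).obj V) ≤ V := by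
  rintro _ ⟨y, hy, rfl⟩
  exact hy

lemma inf_le_img_preimg (V : Opens X) : V ⊓ U ≤ jj U ((Opens.map (CohCx.incl U)).obj V) := by
  rintro x ⟨hxV, hxU⟩
  exact ⟨⟨x, hxU⟩, hxV, rfl⟩

lemma img_preimg_le_inf (V : Opens X) : jj U ((Opens.map (CohCx.incl U)).obj V) ≤ V ⊓ U := by
  rintro _ ⟨y, hy, rfl⟩
  exact ⟨hy, y.2⟩

lemma le_preimg_img (W : Opens (TopCat.of U)) : W ≤ (Opens.map (CohCx.incl U)).obj (jj U W) :=
  fun y hy => ⟨y, hy, rfl⟩

/-- the unit: restriction of sections from `V` to `V ∩ U` -/
noncomputable def unit : 𝟭 (CohTop.Ab X) ⟶ CohTop.restrFunctor U ⋙ CohTop.push (CohCx.incl U) where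
  app F := ⟨{ app := fun V => F.obj.map (homOfLE (img_preimg_le U V.unop)).op
              naturality := fun V V' i => by
                change F.obj.map _ ≫ F.obj.map _ = F.obj.map _ ≫ F.obj.map _
                rw [← F.obj.map_comp, ← F.obj.map_comp]
                rfl }⟩
  naturality F G φ := by
    ext : 2
    funext V
    change φ.hom.app _ ≫ G.obj.map _ = F.obj.map _ ≫ φ.hom.app _
    exact (φ.hom.naturality _).symm

/-- the counit -/
noncomputable def counit :
    CohTop.push (CohCx.incl U) ⋙ CohTop.restrFunctor U ⟶ 𝟭 (CohTop.Ab (TopCat.of U)) where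
  app G := ⟨{ app := fun W => G.obj.map (homOfLE (le_preimg_img U W.unop)).op
              naturality := fun W W' i => by
                change G.obj.map _ ≫ G.obj.map _ = G.obj.map _ ≫ G.obj.map _
                rw [← G.obj.map_comp, ← G.obj.map_comp]
                rfl }⟩
  naturality F G φ := by
    ext : 2
    funext W
    change φ.hom.app _ ≫ G.obj.map _ = F.obj.map _ ≫ φ.hom.app _
    exact (φ.hom.naturality _).symm

/-- restriction to an open is left adjoint to the direct image -/
noncomputable def adj : CohTop.restrFunctor U ⊣ CohTop.push (CohCx.incl U) where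
  unit := unit U
  counit := counit U
  left_triangle_components F := by
    ext : 2
    funext W
    change F.obj.map _ ≫ F.obj.map _ = 𝟙 _
    rw [← F.obj.map_comp]
    exact F.obj.map_id _
  right_triangle_components G := by
    ext : 2
    funext V
    change G.obj.map _ ≫ G.obj.map _ = 𝟙 _
    rw [← G.obj.map_comp]
    exact G.obj.map_id _

/-- Mathlib's inverse image / direct image adjunction for the inclusion of `U` -/
noncomputable abbrev pbAdj :=
  TopCat.Sheaf.pullbackPushforwardAdjunction AddCommGrpCat.{u} (CohCx.incl U)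

lemma unit_comp (F : CohTop.Ab X) :
    (pbAdj U).unit.app F ≫ (CohTop.push (CohCx.incl U)).map
      (((pbAdj U).leftAdjointUniq (adj U)).hom.app F) = (adj U).unit.app F :=
  Adjunction.unit_leftAdjointUniq_hom_app _ _ F

/-- a section is killed by the unit `F ⟶ j_* j⁻¹ F` iff it vanishes on `V ∩ U` -/
lemma unit_app_eq_zero_iff (F : CohTop.Ab X) (V : Opens X) (s : F.obj.obj (op V)) :
    (((pbAdj U).unit.app F).hom.app (op V)).hom s = 0 ↔
      res F.obj (inf_le_left : V ⊓ U ≤ V) s = 0 := by
  have h1 : (((CohTop.push (CohCx.incl U)).map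
      (((pbAdj U).leftAdjointUniq (adj U)).hom.app F)).hom.app (op V)).hom
        ((((pbAdj U).unit.app F).hom.app (op V)).hom s) = res F.obj (img_preimg_le U V) s :=
    congrArg (fun ψ : F ⟶ (CohTop.push (CohCx.incl U)).obj ((CohTop.restrFunctor U).obj F) =>
      (ψ.hom.app (op V)).hom s) (unit_comp U F)
  have hinj : Function.Injective ((((CohTop.push (CohCx.incl U)).map
      (((pbAdj U).leftAdjointUniq (adj U)).hom.app F)).hom.app (op V)).hom) :=
    app_injective _ V
  constructor
  · intro h0
    have h2 : res F.obj (img_preimg_le U V) s = 0 :=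
      h1.symm.trans (by rw [h0]; exact map_zero _)
    have := congrArg (res F.obj (inf_le_img_preimg U V)) h2
    rw [res_res, map_zero] at this
    exact this
  · intro h0
    apply hinj
    rw [map_zero]
    refine h1.trans ?_
    have := congrArg (res F.obj (img_preimg_le_inf U V)) h0
    rwa [res_res, map_zero] at this

/-- the inclusion of the subsheaf of sections supported in the complement of `U` -/
noncomputable abbrev ι (F : CohTop.Ab X) : CohCx.sectSupp U F ⟶ F := kernel.ι _

lemma ι_injective (F : CohTop.Ab X) (V : Opens X) :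
    Function.Injective ((ι U F).hom.app (op V)).hom := app_injective _ V

lemma res_ι (F : CohTop.Ab X) (V : Opens X) (s : (CohCx.sectSupp U F).obj.obj (op V)) :
    res F.obj (inf_le_left : V ⊓ U ≤ V) (((ι U F).hom.app (op V)).hom s) = 0 := by
  rw [← unit_app_eq_zero_iff]
  exact congrArg (fun ψ : CohCx.sectSupp U F ⟶ _ => (ψ.hom.app (op V)).hom s)
    (kernel.condition ((pbAdj U).unit.app F))

lemma exists_ι_eq (F : CohTop.Ab X) (V : Opens X) (t : F.obj.obj (op V))
    (ht : res F.obj (inf_le_left : V ⊓ U ≤ V) t = 0) :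
    ∃ s : (CohCx.sectSupp U F).obj.obj (op V), ((ι U F).hom.app (op V)).hom s = t := by
  have hex : (ShortComplex.mk (kernel.ι ((pbAdj U).unit.app F)) _ (kernel.condition _)).Exact :=
    ShortComplex.exact_of_f_is_kernel _ (kernelIsKernel _)
  exact TopCat.Sheaf.sections_exact_of_left_exact hex inferInstance t
    ((unit_app_eq_zero_iff U F V t).2 ht)

lemma map_ι {F G : CohTop.Ab X} (φ : F ⟶ G) :
    (LocCohZ.sectSuppF U).map φ ≫ ι U G = ι U F ≫ φ := by
  simp [LocCohZ.sectSuppF, kernel.map]

lemma ι_map_app {F G : CohTop.Ab X} (φ : F ⟶ G) (V : Opens X)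
    (s : (CohCx.sectSupp U F).obj.obj (op V)) :
    ((ι U G).hom.app (op V)).hom ((((LocCohZ.sectSuppF U).map φ).hom.app (op V)).hom s) =
      (φ.hom.app (op V)).hom (((ι U F).hom.app (op V)).hom s) :=
  congrArg (fun ψ : CohCx.sectSupp U F ⟶ G => (ψ.hom.app (op V)).hom s) (map_ι U φ)

/-- restriction maps of `Γ_Z(A)` are surjective for flasque `A` -/
lemma sectSupp_res_surjective (A : CohTop.Ab X) [TopCat.Sheaf.IsFlasque A] {W V : Opens X}
    (hWV : W ≤ V) : Function.Surjective (res (CohCx.sectSupp U A).obj hWV) := by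
  intro s
  obtain ⟨σ, hσ⟩ : ∃ σ, σ = ((ι U A).hom.app (op W)).hom s := ⟨_, rfl⟩
  have hσ0 : res A.obj (inf_le_left : W ⊓ U ≤ W) σ = 0 := by rw [hσ]; exact res_ι U A W s
  let Wf : Bool → Opens X := fun b => bif b then W else V ⊓ U
  let sf : ∀ b, A.obj.obj (op (Wf b)) := fun b => match b with
    | true => σ
    | false => 0
  have hle : ∀ b, Wf b ≤ W ⊔ (V ⊓ U) := by
    intro b
    cases b
    · exact le_sup_right
    · exact le_sup_left
  have hcov : W ⊔ (V ⊓ U) ≤ iSup Wf := by
    apply sup_le
    · exact le_iSup Wf true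
    · exact le_iSup Wf false
  obtain ⟨a₀, ha₀⟩ := glue A Wf (W ⊔ (V ⊓ U)) hle hcov sf (by
    intro k l
    cases k <;> cases l
    · rfl
    · show res A.obj _ (0 : A.obj.obj (op (V ⊓ U))) = res A.obj _ σ
      rw [map_zero]
      have h2 : (V ⊓ U) ⊓ W ≤ W ⊓ U := fun x hx => ⟨hx.2, hx.1.2⟩
      have := congrArg (res A.obj h2) hσ0
      rw [res_res, map_zero] at this
      exact this.symm
    · show res A.obj _ σ = res A.obj _ (0 : A.obj.obj (op (V ⊓ U)))
      rw [map_zero]
      have h2 : W ⊓ (V ⊓ U) ≤ W ⊓ U := fun x hx => ⟨hx.1, hx.2.2⟩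
      have := congrArg (res A.obj h2) hσ0
      rw [res_res, map_zero] at this
      exact this
    · rfl)
  have hT : W ⊔ (V ⊓ U) ≤ V := sup_le hWV inf_le_left
  have hepi : Epi (A.obj.map (homOfLE hT).op) := TopCat.Presheaf.IsFlasque.epi (F := A.obj) _
  obtain ⟨a, ha⟩ := (AddCommGrpCat.epi_iff_surjective _).mp hepi a₀
  have ha' : res A.obj hT a = a₀ := ha
  have h1 : res A.obj (inf_le_left : V ⊓ U ≤ V) a = 0 := by
    have := ha₀ false
    rw [← ha', res_res] at this
    exact this
  obtain ⟨t, ht⟩ := exists_ι_eq U A V a h1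
  refine ⟨t, ?_⟩
  apply ι_injective U A W
  rw [res_app, ht, ← hσ]
  have := ha₀ true
  rw [← ha', res_res] at this
  exact this

/-- `Γ_Z(A)` is flasque for flasque `A` -/
theorem isFlasque_sectSupp (A : CohTop.Ab X) [TopCat.Sheaf.IsFlasque A] :
    TopCat.Sheaf.IsFlasque (CohCx.sectSupp U A) := by
  refine ⟨fun {V' W'} i => ?_⟩
  rw [AddCommGrpCat.epi_iff_surjective]
  exact sectSupp_res_surjective U A (leOfHom i.unop)

end Groth.Agent.Lib.SectSupp
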