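import Mathlib
import Groth.Prelude.Def_CohTop
import Groth.Agent.Lib.GV2_helper2
import Groth.Agent.Lib.SectSupp_helper2
import Groth.Agent.Lib.ColimCoh3_helper9
import Groth.Agent.Lib.ColimCoh5_helper9

/-!
# Grothendieck vanishing, part 3 (helper2)

* `GamZ Z K`: sections of `K` supported on a closed subset `Z`; a generically zero sheaf supported on
  an irreducible closed `Z` is the directed colimit of the `GamZ Z' K` over proper closed `Z' ⊂ Z`;
* the dimension of closed subsets, the induction, and the theorem `grothendieck_vanishing`.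
APPEND-ONLY once landed.
-/

set_option autoImplicit false
universe u
open CategoryTheory CategoryTheory.Limits TopologicalSpace Opposite

namespace Groth.Agent.Lib.GVanH2

open Groth.Agent.Lib Groth.Agent.Lib.Cech Groth.Agent.Lib.FreeSheaf

variable {X : TopCat.{u}}

lemma hom_eq_zero_of_sections {N P : CohTop.Ab X} (ψ : N ⟶ P)
    (h : ∀ (V : Opens X) (s : N.obj.obj (op V)), (ψ.hom.app (op V)).hom s = 0) : ψ = 0 := by
  ext : 2
  funext V
  ext s
  exact h V.unop s

section Gam

/-- sections of `K` supported on the closed subset `Z` -/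
noncomputable abbrev GamZ (Z : Closeds X) (K : CohTop.Ab X) : CohTop.Ab X :=
  CohCx.sectSupp Z.compl K

/-- the inclusion -/
noncomputable abbrev gamι (Z : Closeds X) (K : CohTop.Ab X) : GamZ Z K ⟶ K :=
  SectSupp.ι Z.compl K

lemma suppOn_GamZ (Z : Closeds X) (K : CohTop.Ab X) : SuppOn (GamZ Z K) Z := by
  intro U hU s
  apply SectSupp.ι_injective Z.compl K U
  rw [map_zero]
  have h1 := SectSupp.res_ι Z.compl K U s
  have h2 := congrArg (res K.obj (le_inf le_rfl hU : U ≤ U ⊓ Z.compl)) h1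
  rw [res_res, map_zero, res_self] at h2
  exact h2

/-- a map whose sections are supported on `Z` factors through `GamZ` -/
noncomputable def liftGam (Z : Closeds X) {N K : CohTop.Ab X} (φ : N ⟶ K)
    (h : ∀ (V : Opens X) (s : N.obj.obj (op V)),
      res K.obj (inf_le_left : V ⊓ Z.compl ≤ V) ((φ.hom.app (op V)).hom s) = 0) :
    N ⟶ GamZ Z K :=
  kernel.lift _ φ (hom_eq_zero_of_sections _ (fun V s =>
    (SectSupp.unit_app_eq_zero_iff Z.compl K V _).mpr (h V s)))

lemma liftGam_ι (Z : Closeds X) {N K : CohTop.Ab X} (φ : N ⟶ K)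
    (h : ∀ (V : Opens X) (s : N.obj.obj (op V)),
      res K.obj (inf_le_left : V ⊓ Z.compl ≤ V) ((φ.hom.app (op V)).hom s) = 0) :
    liftGam Z φ h ≫ gamι Z K = φ := kernel.lift_ι _ _ _

end Gam

section Colim

variable (Z : Closeds X) (K : CohTop.Ab X)

/-- proper closed subsets of `Z` -/
abbrev PI := {Z' : Closeds X // Z' < Z}

instance [hF : Fact (IsIrreducible (Z : Set X))] : Nonempty (PI Z) := by
  refine ⟨⟨⊥, bot_lt_iff_ne_bot.mpr ?_⟩⟩
  intro h
  obtain ⟨x, hx⟩ := hF.out.nonempty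
  rw [h] at hx
  simp at hx

instance [hF : Fact (IsIrreducible (Z : Set X))] : IsDirected (PI Z) (· ≤ ·) := by
  refine ⟨fun a b => ⟨⟨a.1 ⊔ b.1, lt_of_le_of_ne (sup_le a.2.le b.2.le) ?_⟩,
    (show a.1 ≤ a.1 ⊔ b.1 from le_sup_left), (show b.1 ≤ a.1 ⊔ b.1 from le_sup_right)⟩⟩
  intro h
  have h1 : (Z : Set X) ⊆ (a.1 : Set X) ∪ (b.1 : Set X) := by
    rw [← Closeds.coe_sup, h]
  rcases (isPreirreducible_iff_isClosed_union_isClosed.mp hF.out.isPreirreducible)
    a.1 b.1 a.1.isClosed b.1.isClosed h1 with h2 | h2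
  · exact absurd (show Z ≤ a.1 from h2) (not_le_of_gt a.2)
  · exact absurd (show Z ≤ b.1 from h2) (not_le_of_gt b.2)

/-- transition maps -/
noncomputable def DDmap {i j : PI Z} (f : i ≤ j) : GamZ i.1 K ⟶ GamZ j.1 K :=
  liftGam j.1 (gamι i.1 K) (fun V s => by
    have h1 := SectSupp.res_ι i.1.compl K V s
    have hle : V ⊓ j.1.compl ≤ V ⊓ i.1.compl :=
      inf_le_inf_left V (compl_le_compl (show i.1 ≤ j.1 from f))
    have h2 := congrArg (res K.obj hle) h1
    rw [res_res, map_zero] at h2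
    exact h2)

lemma DDmap_ι {i j : PI Z} (f : i ≤ j) : DDmap Z K f ≫ gamι j.1 K = gamι i.1 K :=
  liftGam_ι _ _ _

/-- the diagram of the `GamZ Z' K` -/
noncomputable def DD : PI Z ⥤ CohTop.Ab X where
  obj i := GamZ i.1 K
  map {i j} f := DDmap Z K (leOfHom f)
  map_id i := by
    rw [← cancel_mono (gamι i.1 K), DDmap_ι, Category.id_comp]
  map_comp f g := by
    rw [← cancel_mono (gamι _ K), Category.assoc, DDmap_ι, DDmap_ι, DDmap_ι]

lemma DD_map_ι {i j : PI Z} (f : i ⟶ j) : (DD Z K).map f ≫ gamι j.1 K = gamι i.1 K :=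
  DDmap_ι Z K (leOfHom f)

/-- the cocone with point `K` -/
noncomputable def cc : Cocone (DD Z K) where
  pt := K
  ι := { app := fun i => gamι i.1 K
         naturality := fun i j f => (DD_map_ι Z K f).trans (Category.comp_id _).symm }

lemma qcqs_of_noetherian [NoetherianSpace X] (U₀ : Opens X) : ColimCoh.QCQS U₀ where
  inter _ _ _ _ _ _ := NoetherianSpace.isCompact _
  basis W _ x hx := ⟨W, NoetherianSpace.isCompact _, hx, le_rfl⟩

variable {Z K}

theorem cc_isColimit [NoetherianSpace X] [hF : Fact (IsIrreducible (Z : Set X))]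
    (hK : SuppOn K Z) (hg : GenZero (Z : Set X) K) : Nonempty (IsColimit (cc Z K)) := by
  refine ColimCoh.isColimit_of_basis (D := DD Z K) (c := cc Z K) (fun _ => True)
    (fun W x hx => ⟨W, trivial, hx, le_rfl⟩) (fun V _ => NoetherianSpace.isCompact _)
    (fun V _ => qcqs_of_noetherian V) ?_ ?_
  · intro V _ t
    by_cases hV : ((V : Set X) ∩ (Z : Set X)).Nonempty
    · obtain ⟨W, hW, hWZ, hs⟩ := hg V t hV
      let Wc : Closeds X := ⟨(W : Set X)ᶜ, W.isOpen.isClosed_compl⟩
      have hlt : Z ⊓ Wc < Z := by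
        refine lt_of_le_of_ne inf_le_left ?_
        intro h
        obtain ⟨x, hxW, hxZ⟩ := hWZ
        have hx : x ∈ Z ⊓ Wc := by rw [h]; exact hxZ
        exact hx.2 hxW
      have h0 : res K.obj (inf_le_left : V ⊓ (Z ⊓ Wc).compl ≤ V) t = 0 := by
        have hA : V ⊓ Z.compl ≤ V ⊓ (Z ⊓ Wc).compl := fun x hx => ⟨hx.1, fun h => hx.2 h.1⟩
        have hB : W ≤ V ⊓ (Z ⊓ Wc).compl := fun x hx => ⟨hW hx, fun h => h.2 hx⟩
        refine eq_zero_of_cover₂ K hA hB ?_ _ ?_ ?_
        · intro x hx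
          by_cases hxZ : x ∈ (Z : Set X)
          · right
            by_contra hxW
            exact hx.2 ⟨hxZ, hxW⟩
          · left
            exact ⟨hx.1, hxZ⟩
        · rw [res_res]
          exact hK _ inf_le_right _
        · rw [res_res]
          exact hs
      obtain ⟨s, hs'⟩ := SectSupp.exists_ι_eq (Z ⊓ Wc).compl K V t h0
      exact ⟨⟨Z ⊓ Wc, hlt⟩, s, hs'⟩
    · have hVZ : V ≤ Z.compl := fun x hx hxZ => hV ⟨x, hx, hxZ⟩
      obtain ⟨i⟩ := (inferInstance : Nonempty (PI Z))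
      refine ⟨i, 0, ?_⟩
      rw [hK V hVZ t]
      exact map_zero _
  · intro V _ i s hs
    refine ⟨i, le_rfl, ?_⟩
    have h0 : s = 0 := SectSupp.ι_injective i.1.compl K V
      (hs.trans (map_zero ((SectSupp.ι i.1.compl K).hom.app (op V)).hom).symm)
    subst h0
    exact map_zero _

theorem HV_of_genZero [NoetherianSpace X] [hF : Fact (IsIrreducible (Z : Set X))]
    (hK : SuppOn K Z) (hg : GenZero (Z : Set X) K) (p : ℕ)
    (hp : ∀ (Z' : Closeds X), Z' < Z → ∀ N : CohTop.Ab X, SuppOn N Z' → HV N p) : HV K p := by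
  obtain ⟨hc⟩ := cc_isColimit hK hg
  intro y
  obtain ⟨h1, -⟩ := ColimCoh.surj_inj (qcqs_of_noetherian (⊤ : Opens X)) p (DD Z K) (cc Z K) hc ⊤
    (NoetherianSpace.isCompact _) le_rfl
  obtain ⟨i, x, hx⟩ := h1 y
  have hx0 : x = 0 := hp i.1 i.2 _ (suppOn_GamZ i.1 K) x
  subst hx0
  exact hx.symm.trans (Abelian.Ext.zero_comp _ _ _ _ _)

end Colim

section Union

theorem HV_of_union (Z Z1 Z2 : Closeds X) (hZ : Z ≤ Z1 ⊔ Z2) (M : CohTop.Ab X)
    (hM : SuppOn M Z) (p : ℕ) (h1 : ∀ N : CohTop.Ab X, SuppOn N Z1 → HV N p)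
    (h2 : ∀ N : CohTop.Ab X, SuppOn N Z2 → HV N p) : HV M p := by
  let S : ShortComplex (CohTop.Ab X) :=
    ShortComplex.mk (gamι Z1 M) (cokernel.π (gamι Z1 M)) (cokernel.condition _)
  have hS : S.ShortExact :=
    { exact := ShortComplex.exact_of_g_is_cokernel _ (cokernelIsCokernel _)
      mono_f := by
        show Mono (gamι Z1 M)
        infer_instance
      epi_g := by
        show Epi (cokernel.π (gamι Z1 M))
        infer_instance }
  refine HV.mid hS (h1 _ (suppOn_GamZ Z1 M)) (h2 _ ?_)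
  intro U hU c
  apply eq_zero_of_locally
  intro x hx
  obtain ⟨W, hW, hxW, m, hm⟩ := exists_local_lift (cokernel.π (gamι Z1 M)) c x hx
  refine ⟨W, hW, hxW, ?_⟩
  have h0 : res M.obj (inf_le_left : W ⊓ Z1.compl ≤ W) m = 0 := by
    refine hM _ ?_ _
    intro y hy hyZ
    have h3 : y ∈ (Z1 : Set X) ∪ (Z2 : Set X) := hZ hyZ
    rcases h3 with h3 | h3
    · exact hy.2 h3
    · exact hU (hW hy.1) h3
  obtain ⟨m', hm'⟩ := SectSupp.exists_ι_eq Z1.compl M W m h0
  rw [← hm, ← hm']
  exact app_comp_zero S W m'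

end Union

section Dim

/-- the dimension of a closed subset: the Krull dimension of the poset of irreducible closed
subsets contained in it -/
noncomputable def dimC (Z : Closeds X) : WithBot ℕ∞ :=
  Order.krullDim {T : IrreducibleCloseds X // (T : Set X) ⊆ (Z : Set X)}

lemma dimC_mono {Z Z' : Closeds X} (h : Z ≤ Z') : dimC Z ≤ dimC Z' :=
  Order.krullDim_le_of_strictMono
    (fun T : {T : IrreducibleCloseds X // (T : Set X) ⊆ (Z : Set X)} =>
      (⟨T.1, T.2.trans h⟩ : {T : IrreducibleCloseds X // (T : Set X) ⊆ (Z' : Set X)}))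
    (fun _ _ hab => hab)

lemma dimC_top_le : dimC (⊤ : Closeds X) ≤ topologicalKrullDim X :=
  Order.krullDim_le_of_strictMono
    (fun T : {T : IrreducibleCloseds X // (T : Set X) ⊆ ((⊤ : Closeds X) : Set X)} => T.1)
    (fun _ _ hab => hab)

lemma eq_bot_of_dimC_lt_zero {Z : Closeds X} (h : dimC Z < ((0 : ℕ) : WithBot ℕ∞)) : Z = ⊥ := by
  by_contra hne
  have hne' : (Z : Set X).Nonempty := by
    by_contra h0
    apply hne
    ext x
    simp only [Closeds.coe_bot, Set.mem_empty_iff_false, iff_false]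
    intro hx
    exact h0 ⟨x, hx⟩
  obtain ⟨z, hz⟩ := hne'
  haveI : Nonempty {T : IrreducibleCloseds X // (T : Set X) ⊆ (Z : Set X)} :=
    ⟨⟨⟨closure {z}, isIrreducible_singleton.closure, isClosed_closure⟩,
      closure_minimal (Set.singleton_subset_iff.2 hz) Z.isClosed⟩⟩
  have h1 : (0 : WithBot ℕ∞) ≤ dimC Z := Order.krullDim_nonneg
  rw [Nat.cast_zero] at h
  exact absurd h (not_lt.2 h1)

lemma dimC_lt_of_lt {Z Z' : Closeds X} (hZ : IsIrreducible (Z : Set X)) (hlt : Z' < Z) (n : ℕ)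
    (h : dimC Z < ((n + 1 : ℕ) : WithBot ℕ∞)) : dimC Z' < (n : WithBot ℕ∞) := by
  by_contra hcon
  rw [not_lt] at hcon
  obtain ⟨l, hl⟩ := Order.le_krullDim_iff.mp hcon
  let φ : {T : IrreducibleCloseds X // (T : Set X) ⊆ (Z' : Set X)} →
      {T : IrreducibleCloseds X // (T : Set X) ⊆ (Z : Set X)} := fun T => ⟨T.1, T.2.trans hlt.le⟩
  have hφ : StrictMono φ := fun _ _ hab => hab
  let Zi : {T : IrreducibleCloseds X // (T : Set X) ⊆ (Z : Set X)} :=
    ⟨⟨(Z : Set X), hZ, Z.isClosed⟩, subset_rfl⟩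
  have hlast : (l.map φ hφ).last < Zi := by
    rw [LTSeries.last_map]
    obtain ⟨x, hxZ, hxZ'⟩ := SetLike.exists_of_lt hlt
    show (l.last.1 : IrreducibleCloseds X) < Zi.1
    exact SetLike.lt_iff_le_and_exists.mpr
      ⟨l.last.2.trans hlt.le, x, hxZ, fun hxT => hxZ' (l.last.2 hxT)⟩
  let l' := (l.map φ hφ).snoc Zi hlast
  have hlen : l'.length = n + 1 := by
    simp [l', hl]
  have h2 := Order.LTSeries.length_le_krullDim l'
  rw [hlen] at h2
  exact absurd h (not_lt.2 h2)

end Dim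

section Main

theorem main [NoetherianSpace X] : ∀ (n : ℕ) (Z : Closeds X), dimC Z < (n : WithBot ℕ∞) →
    ∀ M : CohTop.Ab X, SuppOn M Z → ∀ p, n ≤ p → HV M p := by
  intro n
  induction n with
  | zero =>
    intro Z hdim M hM p _
    have hZ : Z = ⊥ := eq_bot_of_dimC_lt_zero hdim
    refine HV.of_sections_zero (fun U s => hM U ?_ s) p
    rw [hZ]
    intro x _ h
    simp at h
  | succ n ih =>
    intro Z
    refine WellFoundedLT.induction (motive := fun Z : Closeds X =>
      dimC Z < ((n + 1 : ℕ) : WithBot ℕ∞) → ∀ M : CohTop.Ab X, SuppOn M Z → ∀ p, n + 1 ≤ p →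
        HV M p) Z ?_
    intro Z IH hdim M hM p hp
    by_cases hbot : Z = ⊥
    · refine HV.of_sections_zero (fun U s => hM U ?_ s) p
      rw [hbot]
      intro x _ h
      simp at h
    by_cases hirr : IsIrreducible (Z : Set X)
    · haveI : Fact (IsIrreducible (Z : Set X)) := ⟨hirr⟩
      obtain ⟨q, rfl⟩ : ∃ q, p = q + 1 := ⟨p - 1, by omega⟩
      have hq : n ≤ q := by omega
      have hsmall : ∀ p', n ≤ p' → ∀ Z' : Closeds X, Z' < Z → ∀ N : CohTop.Ab X,
          SuppOn N Z' → HV N p' :=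
        fun p' hp' Z' hZ' N hN => ih Z' (dimC_lt_of_lt hirr hZ' n hdim) N hN p' hp'
      have hG : SuppOn (GenSheaf (Z : Set X) hirr M) Z := suppOn_PcT _ _ _ Z subset_rfl
      have hK : ∀ p', n ≤ p' → HV (kernel (η (Z : Set X) hirr M)) p' := fun p' hp' =>
        HV_of_genZero (SuppOn.of_mono (kernel.ι (η (Z : Set X) hirr M)) hM)
          (genZero_of_mono (kernel.ι (η (Z : Set X) hirr M)) (kernel.condition _)) p'
          (hsmall p' hp')
      have hC : ∀ p', n ≤ p' → HV (cokernel (η (Z : Set X) hirr M)) p' := fun p' hp' =>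
        HV_of_genZero (SuppOn.of_epi (cokernel.π (η (Z : Set X) hirr M)) hG)
          (genZero_of_epi (cokernel.π (η (Z : Set X) hirr M)) (cokernel.condition _)) p'
          (hsmall p' hp')
      have hI : HV (Abelian.image (η (Z : Set X) hirr M)) (q + 1) :=
        HV.left (cokerSC_shortExact (η (Z : Set X) hirr M))
          (HV.of_isFlasque (GenSheaf (Z : Set X) hirr M) q) (hC q hq)
      exact HV.mid (kerSC_shortExact (η (Z : Set X) hirr M)) (hK (q + 1) (by omega)) hI
    · have hne : (Z : Set X).Nonempty := by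
        by_contra h0
        apply hbot
        ext x
        simp only [Closeds.coe_bot, Set.mem_empty_iff_false, iff_false]
        intro hx
        exact h0 ⟨x, hx⟩
      have hnp : ¬ IsPreirreducible (Z : Set X) := fun h => hirr ⟨hne, h⟩
      rw [isPreirreducible_iff_isClosed_union_isClosed] at hnp
      push_neg at hnp
      obtain ⟨z₁, z₂, hz₁, hz₂, hsub, hn1, hn2⟩ := hnp
      let Z1 : Closeds X := Z ⊓ ⟨z₁, hz₁⟩
      let Z2 : Closeds X := Z ⊓ ⟨z₂, hz₂⟩
      have hlt1 : Z1 < Z := by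
        refine lt_of_le_of_ne inf_le_left (fun h => hn1 (fun x hx => ?_))
        have hx' : x ∈ Z1 := by rw [h]; exact hx
        exact hx'.2
      have hlt2 : Z2 < Z := by
        refine lt_of_le_of_ne inf_le_left (fun h => hn2 (fun x hx => ?_))
        have hx' : x ∈ Z2 := by rw [h]; exact hx
        exact hx'.2
      have hcov : Z ≤ Z1 ⊔ Z2 := by
        intro x hx
        rcases hsub hx with h | h
        · exact Or.inl ⟨hx, h⟩
        · exact Or.inr ⟨hx, h⟩
      exact HV_of_union Z Z1 Z2 hcov M hM p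
        (fun N hN => IH Z1 hlt1 ((dimC_mono hlt1.le).trans_lt hdim) N hN p hp)
        (fun N hN => IH Z2 hlt2 ((dimC_mono hlt2.le).trans_lt hdim) N hN p hp)

theorem grothendieck_vanishing {X : TopCat.{u}} [NoetherianSpace X] (d : ℕ)
    (hd : topologicalKrullDim X ≤ d) (F : CohTop.Ab X) (p : ℕ) (hp : d < p) :
    Subsingleton (CohTop.H F p) := by
  apply subsingleton_H_of_HV
  refine main (d + 1) ⊤ ?_ F (fun U hU s => ?_) p hp
  · calc dimC (⊤ : Closeds X) ≤ topologicalKrullDim X := dimC_top_le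
      _ ≤ (d : WithBot ℕ∞) := hd
      _ < ((d + 1 : ℕ) : WithBot ℕ∞) := by exact_mod_cast Nat.lt_succ_self d
  · apply eq_zero_of_locally
    intro x hx
    exact absurd (show x ∈ ((⊤ : Closeds X) : Set X) from trivial) (hU hx)

end Main

end Groth.Agent.Lib.GVanH2
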