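import Mathlib
import Groth.Prelude
import Groth.Agent.Lib.GV3_helper2
import Groth.Agent.Lib.FormalFn1_helper2
import Groth.Agent.S0002
import Groth.Agent.S0059

/-!
# Vanishing above the dimension of the closed fibre, over a Noetherian local base (helper2)

`X` proper over `Spec A`, `A` Noetherian local, `M` coherent: `H^p(X, M) = 0` for `p` larger than
the dimension of the closed fibre (formal functions + Grothendieck vanishing + Nakayama).
APPEND-ONLY once landed.
-/

set_option autoImplicit false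
universe u
open CategoryTheory CategoryTheory.Limits AlgebraicGeometry TopologicalSpace Opposite

namespace Groth.Agent.Lib.FibDimH2

open Groth.Agent.Lib.GVanH2 Groth.Agent.Lib.Cech Groth.Agent.Lib.FormalModPowH4
  Groth.Agent.Lib.FormalFnH2

variable (A : Type u) [CommRing A] [IsLocalRing A] (X : Scheme.{u})
  [X.Over (Spec (CommRingCat.of A))]

/-- the closed fibre, as a closed subset -/
def closedFib : Closeds X :=
  ⟨(X ↘ Spec (CommRingCat.of A)).base ⁻¹' {IsLocalRing.closedPoint A},
    ((PrimeSpectrum.isClosed_singleton_iff_isMaximal (IsLocalRing.closedPoint A)).mpr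
      (IsLocalRing.maximalIdeal.isMaximal A)).preimage
        (X ↘ Spec (CommRingCat.of A)).continuous⟩

lemma isUnit_rU_of_le (a : A) (W : X.Opens)
    (hW : W ≤ X.basicOpen (Coh.toGlobal (X ↘ Spec (CommRingCat.of A)) a)) :
    IsUnit (rU (X := X) a W) := by
  have h3 := X.toRingedSpace.isUnit_res_basicOpen
    (Coh.toGlobal (X ↘ Spec (CommRingCat.of A)) a)
  have h4 : rU (X := X) a W = (X.presheaf.map (homOfLE hW).op).hom
      ((X.presheaf.map (homOfLE (X.toRingedSpace.basicOpen_le
        (Coh.toGlobal (X ↘ Spec (CommRingCat.of A)) a))).op).hom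
          (Coh.toGlobal (X ↘ Spec (CommRingCat.of A)) a)) :=
    congrArg (fun φ : Γ(X, ⊤) ⟶ Γ(X, W) =>
      φ.hom (Coh.toGlobal (X ↘ Spec (CommRingCat.of A)) a))
      (X.presheaf.map_comp (homOfLE (X.toRingedSpace.basicOpen_le
        (Coh.toGlobal (X ↘ Spec (CommRingCat.of A)) a))).op (homOfLE hW).op)
  rw [h4]
  exact h3.map _

theorem suppOn_modPow (M : X.Modules) (k : ℕ) :
    SuppOn (Coh.toAb (Formal.modPow (IsLocalRing.maximalIdeal A) k M)) (closedFib A X) := by
  intro U hU s
  apply eq_zero_of_locally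
  intro x hx
  let P : PrimeSpectrum A := (X ↘ Spec (CommRingCat.of A)).base x
  have hxZ : P ≠ IsLocalRing.closedPoint A := fun h => hU hx h
  obtain ⟨a, ha𝔪, haP⟩ : ∃ a ∈ IsLocalRing.maximalIdeal A, a ∉ P.asIdeal := by
    by_contra hcon
    push_neg at hcon
    apply hxZ
    apply PrimeSpectrum.ext
    exact le_antisymm (IsLocalRing.le_maximalIdeal P.isPrime.ne_top) hcon
  let g : Coh.Γtop X := Coh.toGlobal (X ↘ Spec (CommRingCat.of A)) (a ^ k)
  have hb := basicOpen_eq_of_affine (R := CommRingCat.of A) (a ^ k)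
  have hbo : X.basicOpen g = (X ↘ Spec (CommRingCat.of A)) ⁻¹ᵁ
      ((Spec (CommRingCat.of A)).basicOpen ((Scheme.ΓSpecIso (CommRingCat.of A)).inv (a ^ k))) :=
    (Scheme.preimage_basicOpen_top _ _).symm
  have hxg : x ∈ X.basicOpen g := by
    rw [hbo]
    show P ∈ (Spec (CommRingCat.of A)).basicOpen
      ((Scheme.ΓSpecIso (CommRingCat.of A)).inv (a ^ k))
    rw [hb]
    show P ∈ PrimeSpectrum.basicOpen (a ^ k)
    rw [PrimeSpectrum.mem_basicOpen]
    exact fun h => haP (P.isPrime.mem_of_pow_mem k h)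
  refine ⟨U ⊓ X.basicOpen g, inf_le_left, ⟨hx, hxg⟩, ?_⟩
  obtain ⟨t, ht⟩ : ∃ t : Γ(Formal.modPow (IsLocalRing.maximalIdeal A) k M, U ⊓ X.basicOpen g),
      t = res (Coh.toAb (Formal.modPow (IsLocalRing.maximalIdeal A) k M)).obj
          (inf_le_left : U ⊓ X.basicOpen g ≤ U) s := ⟨_, rfl⟩
  have h1 : rU (X := X) (a ^ k) (U ⊓ X.basicOpen g) • t = 0 := by
    rw [← smulMod_app, smulMod_modPow_eq_zero M _ k (Ideal.pow_mem_pow ha𝔪 k)]
    rfl
  have h2 : IsUnit (rU (X := X) (a ^ k) (U ⊓ X.basicOpen g)) :=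
    isUnit_rU_of_le A X (a ^ k) _ inf_le_right
  have h5 : t = 0 := (h2.smul_eq_zero).mp h1
  rw [← ht]
  exact h5

theorem subsingleton_HH_of_dimC_closedFib [IsNoetherianRing A]
    [IsProper (X ↘ Spec (CommRingCat.of A))] (n : ℕ)
    (hdim : dimC (closedFib A X) < (n : WithBot ℕ∞)) (M : X.Modules) (hM : Coh.IsCoh M)
    (p : ℕ) (hp : n ≤ p) : Subsingleton (Coh.HH X M p) := by
  haveI : IsLocallyNoetherian X :=
    LocallyOfFiniteType.isLocallyNoetherian (X ↘ Spec (CommRingCat.of A))
  haveI : CompactSpace X :=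
    QuasiCompact.compactSpace_of_compactSpace (X ↘ Spec (CommRingCat.of A))
  haveI : IsNoetherian X := {}
  haveI hNS : NoetherianSpace X := inferInstance
  haveI : NoetherianSpace ↑X.toTopCat := hNS
  have hterm : ∀ k, Subsingleton (Coh.HH X (Formal.modPow (IsLocalRing.maximalIdeal A) k M) p) :=
    fun k => subsingleton_H_of_HV
      (Groth.Agent.Lib.GVanH2.main (X := X.toTopCat) n (closedFib A X) hdim _
        (suppOn_modPow A X M k) p hp)
  haveI : Module.Finite A (Coh.HH X M p) := Groth.Agent.S0002.result A X M hM p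
  obtain ⟨e⟩ := Groth.Agent.S0059.result A (IsLocalRing.maximalIdeal A) X M hM p
  have hlim : Subsingleton (Formal.HHlim (IsLocalRing.maximalIdeal A) M p) := by
    refine ⟨fun x y => ?_⟩
    apply Subtype.ext
    funext k
    exact (hterm (k + 1)).elim _ _
  have hcomp : Subsingleton (AdicCompletion (IsLocalRing.maximalIdeal A) (Coh.HH X M p)) :=
    e.toEquiv.subsingleton
  have hsurj := AdicCompletion.eval_surjective (IsLocalRing.maximalIdeal A) (Coh.HH X M p) 1
  have hq : Subsingleton (Coh.HH X M p ⧸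
      ((IsLocalRing.maximalIdeal A) ^ 1 • ⊤ : Submodule A (Coh.HH X M p))) :=
    hsurj.subsingleton
  rw [Submodule.Quotient.subsingleton_iff, pow_one] at hq
  have hbot : (⊤ : Submodule A (Coh.HH X M p)) = ⊥ :=
    Submodule.eq_bot_of_le_smul_of_le_jacobson_bot (IsLocalRing.maximalIdeal A) ⊤
      Module.Finite.fg_top (le_of_eq hq.symm) (IsLocalRing.maximalIdeal_le_jacobson ⊥)
  exact subsingleton_of_forall_eq 0
    (fun x => (Submodule.eq_bot_iff _).mp hbot x Submodule.mem_top)

end Groth.Agent.Lib.FibDimH2
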