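import Mathlib
import Groth.Prelude
import Groth.Agent.Lib.FibDim1_helper2

/-!
# The base change to the local ring and the dimension of its closed fibre (helper2)
APPEND-ONLY once landed.
-/

set_option autoImplicit false
universe u
open CategoryTheory CategoryTheory.Limits AlgebraicGeometry TopologicalSpace Opposite

namespace Groth.Agent.Lib.FibDimH2

open Groth.Agent.Lib.GVanH2

section Top

lemma isIrreducible_preimage_of_isInducing {T X' : Type*} [TopologicalSpace T]
    [TopologicalSpace X'] {g : T → X'} (hg : Topology.IsInducing g) {C : Set X'}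
    (hC : IsIrreducible C) (hCr : C ⊆ Set.range g) : IsIrreducible (g ⁻¹' C) := by
  constructor
  · obtain ⟨c, hc⟩ := hC.nonempty
    obtain ⟨t, rfl⟩ := hCr hc
    exact ⟨t, hc⟩
  · rintro u v hu hv ⟨t₁, ht₁C, ht₁u⟩ ⟨t₂, ht₂C, ht₂v⟩
    obtain ⟨u', hu', rfl⟩ := hg.isOpen_iff.mp hu
    obtain ⟨v', hv', rfl⟩ := hg.isOpen_iff.mp hv
    obtain ⟨z, hzC, hzu, hzv⟩ := hC.isPreirreducible u' v' hu' hv' ⟨g t₁, ht₁C, ht₁u⟩
      ⟨g t₂, ht₂C, ht₂v⟩
    obtain ⟨t, rfl⟩ := hCr hzC
    exact ⟨t, hzC, hzu, hzv⟩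

theorem dimC_le_of_isClosedEmbedding {X' : TopCat.{u}} {T : Type u} [TopologicalSpace T]
    (g : T → X') (hg : Topology.IsClosedEmbedding g) (Z : Closeds X')
    (hZ : (Z : Set X') ⊆ Set.range g) : dimC Z ≤ topologicalKrullDim T := by
  refine Order.krullDim_le_of_strictMono
    (fun C : {C : IrreducibleCloseds X' // (C : Set X') ⊆ (Z : Set X')} =>
      (⟨g ⁻¹' (C.1 : Set X'), isIrreducible_preimage_of_isInducing hg.isInducing
        C.1.isIrreducible (C.2.trans hZ), C.1.isClosed.preimage hg.continuous⟩ :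
          IrreducibleCloseds T)) ?_
  intro C₁ C₂ h
  obtain ⟨x, hx2, hx1⟩ := SetLike.exists_of_lt (show C₁.1 < C₂.1 from h)
  obtain ⟨t, rfl⟩ := hZ (C₂.2 hx2)
  exact SetLike.lt_iff_le_and_exists.mpr
    ⟨fun s hs => (le_of_lt (show C₁.1 < C₂.1 from h)) hs, t, hx2, hx1⟩

end Top

section Sch

variable {X Y : Scheme.{u}} (f : X ⟶ Y) (y : Y)

/-- the base change of `X` to the local ring of `Y` at `y` -/
noncomputable abbrev XL : Scheme.{u} := pullback f (Y.fromSpecStalk y)

noncomputable instance overXL : (XL f y).Over (Spec (CommRingCat.of (Y.presheaf.stalk y))) :=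
  ⟨pullback.snd f (Y.fromSpecStalk y)⟩

lemma overXL_hom : (XL f y ↘ Spec (CommRingCat.of (Y.presheaf.stalk y))) =
    pullback.snd f (Y.fromSpecStalk y) := rfl

instance [IsProper f] : IsProper (XL f y ↘ Spec (CommRingCat.of (Y.presheaf.stalk y))) :=
  inferInstanceAs (IsProper (pullback.snd f (Y.fromSpecStalk y)))

/-- the dimension of the closed fibre of the base change to the local ring is at most the
dimension of the scheme-theoretic fibre -/
theorem dimC_closedFib_le :
    dimC (closedFib (Y.presheaf.stalk y) (XL f y)) ≤ topologicalKrullDim ↥(f.fiber y) := by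
  let r : Spec (Y.residueField y) ⟶ Spec (Y.presheaf.stalk y) := Spec.map (Y.residue y)
  haveI : IsClosedImmersion r :=
    IsClosedImmersion.spec_of_surjective _ IsLocalRing.residue_surjective
  let ι' : pullback (pullback.snd f (Y.fromSpecStalk y)) r ⟶ XL f y := pullback.fst _ _
  haveI : IsClosedImmersion ι' := inferInstanceAs (IsClosedImmersion (pullback.fst _ r))
  let e : pullback (pullback.snd f (Y.fromSpecStalk y)) r ≅ f.fiber y :=
    pullbackLeftPullbackSndIso f (Y.fromSpecStalk y) r
  have hdim : topologicalKrullDim ↥(pullback (pullback.snd f (Y.fromSpecStalk y)) r) =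
      topologicalKrullDim ↥(f.fiber y) :=
    IsHomeomorph.topologicalKrullDim_eq _ (Scheme.homeoOfIso e).isHomeomorph
  rw [← hdim]
  refine dimC_le_of_isClosedEmbedding (X' := (XL f y).toTopCat) ι' ι'.isClosedEmbedding _ ?_
  intro x hx
  have h1 : Set.range ι' = (pullback.snd f (Y.fromSpecStalk y)) ⁻¹' Set.range r :=
    Scheme.Pullback.range_fst _ _
  rw [h1]
  show (pullback.snd f (Y.fromSpecStalk y)) x ∈ Set.range r
  have hx' : (pullback.snd f (Y.fromSpecStalk y)) x =
      IsLocalRing.closedPoint (Y.presheaf.stalk y) := hx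
  rw [hx']
  refine ⟨IsLocalRing.closedPoint (Y.residueField y), ?_⟩
  haveI : IsLocalHom (Y.residue y).hom :=
    inferInstanceAs (IsLocalHom (IsLocalRing.residue (Y.presheaf.stalk y)))
  exact IsLocalRing.comap_closedPoint (Y.residue y).hom

end Sch

end Groth.Agent.Lib.FibDimH2
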