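import Mathlib
import Groth.Prelude.Def_CohTop
import Groth.Agent.Lib.NbhdColim3_helper2
import Groth.Agent.S0461

/-!
# Stalks of higher direct images along a proper map with separated fibres (helper2)

`(R^p f_* F)_y ≅ H^p(f⁻¹(y), F|)`: the stalk of the sheafification of `V ↦ H^p(f⁻¹V, F)` is the
colimit over `V ∋ y`, the opens `f⁻¹V` are cofinal among the neighbourhoods of the fibre because `f`
is closed, and the colimit over the neighbourhoods of the compact relatively Hausdorff fibre is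
its cohomology (`NbhdColimH2.main`).
APPEND-ONLY once landed.
-/

set_option autoImplicit false
universe u
open CategoryTheory CategoryTheory.Limits TopologicalSpace Opposite

namespace Groth.Agent.Lib.StalkRpushH2

open Groth.Agent.Lib.NbhdColimH2 Groth.Agent.Lib.SoftH2 Groth.Agent.Lib.SoftCompact2_helper7

section Sheafify

variable {Y : TopCat.{u}} (y : Y)

open Classical in
/-- the right adjoints agree -/
noncomputable def isoR : skyscraperSheafFunctor (C := AddCommGrpCat.{u}) y ⋙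
    TopCat.Sheaf.forget AddCommGrpCat.{u} Y ≅ skyscraperPresheafFunctor y :=
  NatIso.ofComponents (fun _ => Iso.refl _) (by
    intro A B g
    exact (Category.comp_id _).trans
      (Category.id_comp ((skyscraperPresheafFunctor y).map g)).symm)

open Classical in
/-- sheafification followed by the stalk is left adjoint to the skyscraper presheaf -/
noncomputable def adj1 : presheafToSheaf (Opens.grothendieckTopology Y) AddCommGrpCat.{u} ⋙
    (TopCat.Sheaf.forget AddCommGrpCat.{u} Y ⋙ TopCat.Presheaf.stalkFunctor AddCommGrpCat.{u} y) ⊣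
    skyscraperPresheafFunctor y :=
  ((sheafificationAdjunction (Opens.grothendieckTopology Y) AddCommGrpCat.{u}).comp
    (stalkSkyscraperSheafAdjunction y)).ofNatIsoRight (isoR y)

open Classical in
/-- the stalk of the sheafification is the stalk -/
noncomputable def stalkSheafifyIso :
    presheafToSheaf (Opens.grothendieckTopology Y) AddCommGrpCat.{u} ⋙
      (TopCat.Sheaf.forget AddCommGrpCat.{u} Y ⋙
        TopCat.Presheaf.stalkFunctor AddCommGrpCat.{u} y) ≅
    TopCat.Presheaf.stalkFunctor AddCommGrpCat.{u} y :=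
  Adjunction.leftAdjointUniq (adj1 y) (skyscraperPresheafStalkAdjunction y)

theorem stalk_sheafify (P : (Opens Y)ᵒᵖ ⥤ AddCommGrpCat.{u}) :
    Nonempty (CohTop.stalk
        ((presheafToSheaf (Opens.grothendieckTopology Y) AddCommGrpCat.{u}).obj P) y ≅
      TopCat.Presheaf.stalk (C := AddCommGrpCat.{u}) (X := Y) P y) :=
  ⟨(stalkSheafifyIso y).app P⟩

theorem stalk_congr {G G' : CohTop.Ab Y} (e : G ≅ G') :
    Nonempty (CohTop.stalk G y ≅ CohTop.stalk G' y) :=
  ⟨(TopCat.Sheaf.forget AddCommGrpCat.{u} Y ⋙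
    TopCat.Presheaf.stalkFunctor AddCommGrpCat.{u} y).mapIso e⟩

end Sheafify

section Fibre

variable {X Y : TopCat.{u}} (f : X ⟶ Y) (y : Y)

/-- the fibre -/
abbrev fib : Set X := f ⁻¹' {y}

lemma fib_sub (V : (OpenNhds y)ᵒᵖ) :
    NP (fib f y) (((OpenNhds.inclusion y).op ⋙ (Opens.map f).op).obj V) := by
  intro x hx
  have hx' : f x = y := hx
  show f x ∈ V.unop.1
  rw [hx']
  exact V.unop.2

/-- `V ↦ f⁻¹V` from neighbourhoods of `y` to neighbourhoods of the fibre -/
noncomputable def Θ : (OpenNhds y)ᵒᵖ ⥤ N (fib f y) :=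
  (NP (fib f y)).lift ((OpenNhds.inclusion y).op ⋙ (Opens.map f).op) (fib_sub f y)

theorem Θ_final (hf : IsClosedMap f) : (Θ f y).Final := by
  refine Functor.final_of_exists_of_isFiltered _ ?_ ?_
  · intro d
    have hd : fib f y ⊆ (d.obj.unop : Set X) := d.property
    let C : Set Y := f '' ((d.obj.unop : Set X)ᶜ)
    have hC : IsClosed C := hf _ d.obj.unop.isOpen.isClosed_compl
    have hyC : y ∉ C := by
      rintro ⟨x, hx, hxy⟩
      exact hx (hd hxy)
    let V : OpenNhds y := ⟨⟨Cᶜ, hC.isOpen_compl⟩, hyC⟩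
    have hle : (Opens.map f).obj V.1 ≤ d.obj.unop := by
      intro x hx
      by_contra hxd
      exact hx ⟨x, hxd, rfl⟩
    exact ⟨op V, ⟨homN (fib f y) d.property (fib_sub f y (op V)) hle⟩⟩
  · intro d c s s'
    refine ⟨c, 𝟙 c, ?_⟩
    have : s = s' := by
      apply ObjectProperty.hom_ext
      exact Subsingleton.elim _ _
    rw [this]

/-- the stalk of `V ↦ H^p(f⁻¹V, F)` at `y` is the colimit over the neighbourhoods of the fibre -/
theorem stalk_iso_phi (hf : IsClosedMap f) (F : CohTop.Ab X) (p : ℕ) :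
    Nonempty (TopCat.Presheaf.stalk (C := AddCommGrpCat.{u}) (X := Y)
      ((Opens.map f).op ⋙ cP F p) y ≅ Phi (fib f y) F p) := by
  haveI := Θ_final f y hf
  have e1 : colimit (Θ f y ⋙ ((NP (fib f y)).ι ⋙ cP F p)) ≅
      colimit ((NP (fib f y)).ι ⋙ cP F p) := Functor.Final.colimitIso (Θ f y) _
  have e2 : (OpenNhds.inclusion y).op ⋙ ((Opens.map f).op ⋙ cP F p) ≅
      Θ f y ⋙ ((NP (fib f y)).ι ⋙ cP F p) := Iso.refl _
  exact ⟨(HasColimit.isoOfNatIso e2).trans e1⟩

end Fibre

section Main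

variable {X Y : TopCat.{u}} (f : X ⟶ Y)

theorem main (hf : IsProperMap f)
    (hs : ∀ x x' : X, f x = f x' → x ≠ x' →
      ∃ U V : Set X, IsOpen U ∧ IsOpen V ∧ x ∈ U ∧ x' ∈ V ∧ Disjoint U V)
    (y : Y) (F : CohTop.Ab X) (p : ℕ) :
    Nonempty (CohTop.stalk ((CohTop.Rpush f p).obj F) y ≅
      AddCommGrpCat.of (Psi (iK (fib f y)) F p)) := by
  obtain ⟨e0⟩ := Groth.Agent.S0461.result f F p
  obtain ⟨e1⟩ := stalk_congr y e0
  obtain ⟨e2⟩ := stalk_sheafify y ((Opens.map f).op ⋙ cP F p)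
  obtain ⟨e3⟩ := stalk_iso_phi f y hf.isClosedMap F p
  have hZ : IsCompact (fib f y) := hf.isCompact_preimage isCompact_singleton
  have hsep : ∀ x ∈ fib f y, ∀ x' ∈ fib f y, x ≠ x' →
      ∃ U V : Opens X, x ∈ U ∧ x' ∈ V ∧ Disjoint U V := by
    intro x hx x' hx' hne
    have hx1 : f x = y := hx
    have hx2 : f x' = y := hx'
    obtain ⟨U, V, hU, hV, hxU, hxV, hUV⟩ := hs x x' (hx1.trans hx2.symm) hne
    refine ⟨⟨U, hU⟩, ⟨V, hV⟩, hxU, hxV, ?_⟩
    rw [disjoint_iff]
    ext z
    simp only [Opens.coe_inf, Opens.coe_mk, Opens.coe_bot, Set.mem_inter_iff,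
      Set.mem_empty_iff_false, iff_false]
    rintro ⟨h1, h2⟩
    exact Set.disjoint_left.1 hUV h1 h2
  obtain ⟨e4⟩ := Groth.Agent.Lib.NbhdColimH2.main (fib f y) hZ hsep p F
  exact ⟨e1 ≪≫ e2 ≪≫ e3 ≪≫ AddEquiv.toAddCommGrpIso e4⟩

end Main

end Groth.Agent.Lib.StalkRpushH2
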