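import Mathlib

/-!
# Base change for `Ext` groups along a pairing of coefficient objects (helper2)

Abstract part of the proof of flat base change for quasi-compact quasi-separated schemes.
In an abelian category `𝒜` with `Ext` groups, let a commutative ring `A` act on an object `G` and
a commutative ring `A'` act on an object `N`, and let `η : Mc →+ (G ⟶ N)` be a pairing with an
`A'`-module `Mc` (flat over `A`), balanced over `A` and `A'`-linear.  For every object `P` we get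
`T P n : Mc ⊗[A] Ext P G n →+ Ext P N n`.  The class of those `P` for which `T P n` is bijective for
all `n` is stable under isomorphisms, finite biproducts, and contains the third term of a short exact
sequence as soon as it contains the first two (five lemma, `Mc` flat).
APPEND-ONLY once landed.
-/

set_option autoImplicit false
universe w v u'
open CategoryTheory CategoryTheory.Limits Abelian TensorProduct

namespace Groth.Agent.Lib.ExtBCH2

variable {𝒜 : Type u'} [Category.{v} 𝒜] [Abelian 𝒜] [HasExt.{w} 𝒜]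

/-- a commutative ring acting on an object -/
class EndAct (A : Type*) [CommRing A] (G : 𝒜) where
  ρ : A →+* End G

/-- the endomorphism attached to a scalar -/
abbrev act {A : Type*} [CommRing A] (G : 𝒜) [EndAct A G] (a : A) : G ⟶ G := EndAct.ρ a

section Mod

variable {A : Type*} [CommRing A] {G : 𝒜} [EndAct A G]

lemma act_one : act (A := A) G 1 = 𝟙 G := map_one (EndAct.ρ : A →+* End G)

lemma act_mul (a b : A) : act G (a * b) = act G b ≫ act G a :=
  map_mul (EndAct.ρ : A →+* End G) a b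

lemma act_add (a b : A) : act G (a + b) = act G a + act G b :=
  map_add (EndAct.ρ : A →+* End G) a b

lemma act_zero : act (A := A) G 0 = 0 := map_zero (EndAct.ρ : A →+* End G)

noncomputable instance extModule (P : 𝒜) (n : ℕ) : Module A (Ext.{w} P G n) where
  smul a x := x.comp (Ext.mk₀ (act G a)) (add_zero n)
  one_smul x := by
    show x.comp (Ext.mk₀ (act G (1 : A))) (add_zero n) = x
    rw [act_one]
    exact Ext.comp_mk₀_id x
  mul_smul a b x := by
    show x.comp (Ext.mk₀ (act G (a * b))) (add_zero n) =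
      (x.comp (Ext.mk₀ (act G b)) (add_zero n)).comp (Ext.mk₀ (act G a)) (add_zero n)
    rw [act_mul, ← Ext.mk₀_comp_mk₀, Ext.comp_assoc_of_third_deg_zero]
  smul_zero a := Ext.zero_comp P n (Ext.mk₀ (act G a)) n (add_zero n)
  smul_add a x y := Ext.add_comp x y _ _
  add_smul a b x := by
    show x.comp (Ext.mk₀ (act G (a + b))) (add_zero n) =
      x.comp (Ext.mk₀ (act G a)) (add_zero n) + x.comp (Ext.mk₀ (act G b)) (add_zero n)
    rw [act_add, Ext.mk₀_add, Ext.comp_add]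
  zero_smul x := by
    show x.comp (Ext.mk₀ (act G (0 : A))) (add_zero n) = 0
    rw [act_zero, Ext.mk₀_zero, Ext.comp_zero]

lemma smul_def {P : 𝒜} {n : ℕ} (a : A) (x : Ext.{w} P G n) :
    a • x = x.comp (Ext.mk₀ (act G a)) (add_zero n) := rfl

/-- precomposition with an `Ext` class, linearly -/
noncomputable def preL {P Q : 𝒜} {k : ℕ} (α : Ext.{w} P Q k) {n m : ℕ} (h : k + n = m) :
    Ext.{w} Q G n →ₗ[A] Ext.{w} P G m where
  toFun x := α.comp x h
  map_add' x y := Ext.comp_add α x y h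
  map_smul' a x := by
    show α.comp (x.comp (Ext.mk₀ (act G a)) (add_zero n)) h =
      (α.comp x h).comp (Ext.mk₀ (act G a)) (add_zero m)
    exact (Ext.comp_assoc_of_third_deg_zero α x (Ext.mk₀ (act G a)) h).symm

lemma preL_apply {P Q : 𝒜} {k : ℕ} (α : Ext.{w} P Q k) {n m : ℕ} (h : k + n = m)
    (x : Ext.{w} Q G n) : preL (A := A) α h x = α.comp x h := rfl

end Mod

section Pair

variable (A A' Mc : Type*) [CommRing A] [CommRing A'] [AddCommGroup Mc] [Module A Mc]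
  [Module A' Mc]

/-- a pairing of coefficient objects -/
structure Pairing (G N : 𝒜) [EndAct A G] [EndAct A' N] where
  η : Mc →+ (G ⟶ N)
  smulA : ∀ (a : A) (m : Mc), η (a • m) = act G a ≫ η m
  smulA' : ∀ (a' : A') (m : Mc), η (a' • m) = η m ≫ act N a'

end Pair

section T

variable {A A' Mc : Type*} [CommRing A] [CommRing A'] [AddCommGroup Mc] [Module A Mc]
  [Module A' Mc] {G N : 𝒜} [EndAct A G] [EndAct A' N] (π : Pairing A A' Mc G N)

/-- the comparison map `Mc ⊗[A] Ext P G n →+ Ext P N n` -/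
noncomputable def T (P : 𝒜) (n : ℕ) : Mc ⊗[A] Ext.{w} P G n →+ Ext.{w} P N n :=
  TensorProduct.liftAddHom
    { toFun := fun m => (Ext.mk₀ (π.η m)).postcomp P (add_zero n)
      map_zero' := by
        ext x
        show x.comp (Ext.mk₀ (π.η 0)) (add_zero n) = 0
        rw [map_zero, Ext.mk₀_zero, Ext.comp_zero]
      map_add' := fun m m' => by
        ext x
        show x.comp (Ext.mk₀ (π.η (m + m'))) (add_zero n) =
          x.comp (Ext.mk₀ (π.η m)) (add_zero n) + x.comp (Ext.mk₀ (π.η m')) (add_zero n)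
        rw [map_add, Ext.mk₀_add, Ext.comp_add] }
    (by
      intro a m x
      show x.comp (Ext.mk₀ (π.η (a • m))) (add_zero n) =
        (x.comp (Ext.mk₀ (act G a)) (add_zero n)).comp (Ext.mk₀ (π.η m)) (add_zero n)
      rw [π.smulA, ← Ext.mk₀_comp_mk₀, Ext.comp_assoc_of_third_deg_zero])

lemma T_tmul (P : 𝒜) (n : ℕ) (m : Mc) (x : Ext.{w} P G n) :
    T π P n (m ⊗ₜ[A] x) = x.comp (Ext.mk₀ (π.η m)) (add_zero n) := rfl

/-- naturality of `T` in the first variable -/
lemma T_nat {P Q : 𝒜} {k : ℕ} (α : Ext.{w} P Q k) {n m : ℕ} (h : k + n = m)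
    (z : Mc ⊗[A] Ext.{w} Q G n) :
    T π P m ((preL (A := A) α h).lTensor Mc z) = α.comp (T π Q n z) h := by
  induction z using TensorProduct.induction_on with
  | zero => rw [map_zero, map_zero, map_zero, Ext.comp_zero]
  | tmul c x =>
    rw [LinearMap.lTensor_tmul, T_tmul, T_tmul, preL_apply]
    exact Ext.comp_assoc_of_third_deg_zero α x (Ext.mk₀ (π.η c)) h
  | add z z' hz hz' => rw [map_add, map_add, map_add, hz, hz', Ext.comp_add]

/-- `A'`-semilinearity of `T` -/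
lemma T_smul [Algebra A A'] [IsScalarTower A A' Mc] (P : 𝒜) (n : ℕ) (a' : A')
    (z : Mc ⊗[A] Ext.{w} P G n) : T π P n (a' • z) = a' • T π P n z := by
  induction z using TensorProduct.induction_on with
  | zero => rw [smul_zero, map_zero, smul_zero]
  | tmul c x =>
    rw [TensorProduct.smul_tmul', T_tmul, T_tmul, smul_def, π.smulA', ← Ext.mk₀_comp_mk₀,
      Ext.comp_assoc_of_third_deg_zero]
  | add z z' hz hz' => rw [smul_add, map_add, map_add, hz, hz', smul_add]

/-- the class of objects for which `T` is bijective in all degrees -/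
def InClass (P : 𝒜) : Prop := ∀ n : ℕ, Function.Bijective (T π P n)

end T


section Exactness

variable {S : ShortComplex 𝒜} (hS : S.ShortExact) (Y : 𝒜)

include hS in
lemma exact_at_X₂ (n : ℕ) :
    Function.Exact (fun x : Ext.{w} S.X₃ Y n => (Ext.mk₀ S.g).comp x (zero_add n))
      (fun x : Ext.{w} S.X₂ Y n => (Ext.mk₀ S.f).comp x (zero_add n)) := by
  intro y
  constructor
  · intro hy
    obtain ⟨x, hx⟩ := Ext.contravariant_sequence_exact₂ hS Y y hy
    exact ⟨x, hx⟩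
  · rintro ⟨x, rfl⟩
    show (Ext.mk₀ S.f).comp ((Ext.mk₀ S.g).comp x (zero_add n)) (zero_add n) = 0
    rw [Ext.mk₀_comp_mk₀_assoc, S.zero, Ext.mk₀_zero, Ext.zero_comp]

lemma exact_at_X₁ (n : ℕ) :
    Function.Exact (fun x : Ext.{w} S.X₂ Y n => (Ext.mk₀ S.f).comp x (zero_add n))
      (fun x : Ext.{w} S.X₁ Y n => hS.extClass.comp x (add_comm 1 n)) := by
  intro y
  constructor
  · intro hy
    obtain ⟨x, hx⟩ := Ext.contravariant_sequence_exact₁ hS Y y (add_comm 1 n) hy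
    exact ⟨x, hx⟩
  · rintro ⟨x, rfl⟩
    exact hS.extClass_comp_assoc x

lemma exact_at_X₃ (n : ℕ) :
    Function.Exact (fun x : Ext.{w} S.X₁ Y n => hS.extClass.comp x (add_comm 1 n))
      (fun x : Ext.{w} S.X₃ Y (n + 1) => (Ext.mk₀ S.g).comp x (zero_add (n + 1))) := by
  intro y
  constructor
  · intro hy
    obtain ⟨x, hx⟩ := Ext.contravariant_sequence_exact₃ hS Y y hy (add_comm 1 n)
    exact ⟨x, hx⟩
  · rintro ⟨x, rfl⟩
    exact hS.comp_extClass_assoc x (add_comm 1 n)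

end Exactness

section Closure

variable {A A' Mc : Type*} [CommRing A] [CommRing A'] [AddCommGroup Mc] [Module A Mc]
  [Module A' Mc] {G N : 𝒜} [EndAct A G] [EndAct A' N] (π : Pairing A A' Mc G N)

/-- contravariant functoriality, source side -/
noncomputable abbrev F₁ {P Q : 𝒜} (f : P ⟶ Q) (n : ℕ) :
    Mc ⊗[A] Ext.{w} Q G n →ₗ[A] Mc ⊗[A] Ext.{w} P G n :=
  (preL (A := A) (Ext.mk₀ f) (zero_add n)).lTensor Mc

/-- contravariant functoriality, target side -/
noncomputable abbrev F₂ {P Q : 𝒜} (f : P ⟶ Q) (n : ℕ) : Ext.{w} Q N n →+ Ext.{w} P N n :=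
  (Ext.mk₀ f).precomp N (zero_add n)

lemma T_F₁ {P Q : 𝒜} (f : P ⟶ Q) (n : ℕ) (z : Mc ⊗[A] Ext.{w} Q G n) :
    T π P n (F₁ (A := A) (Mc := Mc) (G := G) f n z) = F₂ (N := N) f n (T π Q n z) :=
  T_nat π (Ext.mk₀ f) (zero_add n) z

lemma F₁_id {P : 𝒜} (n : ℕ) (z : Mc ⊗[A] Ext.{w} P G n) :
    F₁ (A := A) (Mc := Mc) (G := G) (𝟙 P) n z = z := by
  induction z using TensorProduct.induction_on with
  | zero => rw [map_zero]
  | tmul c x =>
    rw [LinearMap.lTensor_tmul, preL_apply, Ext.mk₀_id_comp]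
  | add z z' hz hz' => rw [map_add, hz, hz']

lemma F₁_comp {P Q R : 𝒜} (f : P ⟶ Q) (g : Q ⟶ R) (n : ℕ) (z : Mc ⊗[A] Ext.{w} R G n) :
    F₁ (A := A) (Mc := Mc) (G := G) (f ≫ g) n z =
      F₁ (A := A) (Mc := Mc) (G := G) f n (F₁ (A := A) (Mc := Mc) (G := G) g n z) := by
  induction z using TensorProduct.induction_on with
  | zero => rw [map_zero, map_zero, map_zero]
  | tmul c x =>
    rw [LinearMap.lTensor_tmul, LinearMap.lTensor_tmul, LinearMap.lTensor_tmul, preL_apply,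
      preL_apply, preL_apply, Ext.mk₀_comp_mk₀_assoc]
  | add z z' hz hz' => rw [map_add, map_add, map_add, hz, hz']

lemma F₁_add {P Q : 𝒜} (f g : P ⟶ Q) (n : ℕ) (z : Mc ⊗[A] Ext.{w} Q G n) :
    F₁ (A := A) (Mc := Mc) (G := G) (f + g) n z =
      F₁ (A := A) (Mc := Mc) (G := G) f n z + F₁ (A := A) (Mc := Mc) (G := G) g n z := by
  induction z using TensorProduct.induction_on with
  | zero => rw [map_zero, map_zero, map_zero, add_zero]
  | tmul c x =>
    rw [LinearMap.lTensor_tmul, LinearMap.lTensor_tmul, LinearMap.lTensor_tmul, preL_apply,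
      preL_apply, preL_apply, Ext.mk₀_add, Ext.add_comp, TensorProduct.tmul_add]
  | add z z' hz hz' =>
    rw [map_add, map_add, map_add, hz, hz']
    abel

lemma F₂_id {P : 𝒜} (n : ℕ) (y : Ext.{w} P N n) : F₂ (N := N) (𝟙 P) n y = y :=
  Ext.mk₀_id_comp y

lemma F₂_comp {P Q R : 𝒜} (f : P ⟶ Q) (g : Q ⟶ R) (n : ℕ) (y : Ext.{w} R N n) :
    F₂ (N := N) (f ≫ g) n y = F₂ (N := N) f n (F₂ (N := N) g n y) :=
  (Ext.mk₀_comp_mk₀_assoc f g y).symm

lemma F₂_add {P Q : 𝒜} (f g : P ⟶ Q) (n : ℕ) (y : Ext.{w} Q N n) :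
    F₂ (N := N) (f + g) n y = F₂ (N := N) f n y + F₂ (N := N) g n y := by
  show (Ext.mk₀ (f + g)).comp y (zero_add n) =
    (Ext.mk₀ f).comp y (zero_add n) + (Ext.mk₀ g).comp y (zero_add n)
  rw [Ext.mk₀_add, Ext.add_comp]

/-- stability under isomorphisms -/
theorem inClass_of_iso {P Q : 𝒜} (e : P ≅ Q) (hQ : InClass π Q) : InClass π P := by
  intro n
  constructor
  · intro z z' hzz'
    have h1 : T π Q n (F₁ (A := A) (Mc := Mc) (G := G) e.inv n z) =
        T π Q n (F₁ (A := A) (Mc := Mc) (G := G) e.inv n z') := by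
      rw [T_F₁, T_F₁, hzz']
    have h2 := (hQ n).1 h1
    have h3 := congrArg (F₁ (A := A) (Mc := Mc) (G := G) e.hom n) h2
    rwa [← F₁_comp, ← F₁_comp, e.hom_inv_id, F₁_id, F₁_id] at h3
  · intro y
    obtain ⟨w', hw'⟩ := (hQ n).2 (F₂ (N := N) e.inv n y)
    refine ⟨F₁ (A := A) (Mc := Mc) (G := G) e.hom n w', ?_⟩
    rw [T_F₁, hw', ← F₂_comp, e.hom_inv_id, F₂_id]

/-- stability under binary biproducts -/
theorem inClass_biprod {P Q : 𝒜} (hP : InClass π P) (hQ : InClass π Q) : InClass π (P ⊞ Q) := by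
  intro n
  have htot₁ : ∀ z : Mc ⊗[A] Ext.{w} (P ⊞ Q) G n,
      z = F₁ (A := A) (Mc := Mc) (G := G) biprod.fst n
            (F₁ (A := A) (Mc := Mc) (G := G) biprod.inl n z) +
          F₁ (A := A) (Mc := Mc) (G := G) biprod.snd n
            (F₁ (A := A) (Mc := Mc) (G := G) biprod.inr n z) := by
    intro z
    rw [← F₁_comp, ← F₁_comp, ← F₁_add, biprod.total, F₁_id]
  have htot₂ : ∀ y : Ext.{w} (P ⊞ Q) N n,
      y = F₂ (N := N) biprod.fst n (F₂ (N := N) biprod.inl n y) +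
          F₂ (N := N) biprod.snd n (F₂ (N := N) biprod.inr n y) := by
    intro y
    rw [← F₂_comp, ← F₂_comp, ← F₂_add, biprod.total, F₂_id]
  constructor
  · rw [injective_iff_map_eq_zero]
    intro z hz
    have h1 : F₁ (A := A) (Mc := Mc) (G := G) biprod.inl n z = 0 := by
      apply (hP n).1
      rw [T_F₁, hz, map_zero, map_zero]
    have h2 : F₁ (A := A) (Mc := Mc) (G := G) biprod.inr n z = 0 := by
      apply (hQ n).1
      rw [T_F₁, hz, map_zero, map_zero]
    rw [htot₁ z, h1, h2, map_zero, map_zero, add_zero]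
  · intro y
    obtain ⟨w₁, hw₁⟩ := (hP n).2 (F₂ (N := N) biprod.inl n y)
    obtain ⟨w₂, hw₂⟩ := (hQ n).2 (F₂ (N := N) biprod.inr n y)
    refine ⟨F₁ (A := A) (Mc := Mc) (G := G) biprod.fst n w₁ +
      F₁ (A := A) (Mc := Mc) (G := G) biprod.snd n w₂, ?_⟩
    rw [map_add, T_F₁, T_F₁, hw₁, hw₂]
    exact (htot₂ y).symm

/-- objects with vanishing `Ext` on both sides -/
theorem bijective_T_of_subsingleton (P : 𝒜) (n : ℕ) (h1 : Subsingleton (Ext.{w} P G n))
    (h2 : Subsingleton (Ext.{w} P N n)) : Function.Bijective (T π P n) := by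
  have h0 : ∀ z : Mc ⊗[A] Ext.{w} P G n, z = 0 := by
    intro z
    induction z using TensorProduct.induction_on with
    | zero => rfl
    | tmul c x => rw [Subsingleton.elim x 0, TensorProduct.tmul_zero]
    | add z z' hz hz' => rw [hz, hz', add_zero]
  constructor
  · intro z z' _
    rw [h0 z, h0 z']
  · intro y
    exact ⟨0, Subsingleton.elim _ _⟩

end Closure


section Five

variable {A A' Mc : Type*} [CommRing A] [CommRing A'] [AddCommGroup Mc] [Module A Mc]
  [Module A' Mc] [Module.Flat A Mc] {G N : 𝒜} [EndAct A G] [EndAct A' N]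
  (π : Pairing A A' Mc G N)

/-- the third term of a short exact sequence is in the class if the first two are -/
theorem inClass_X₃ {S : ShortComplex 𝒜} (hS : S.ShortExact) (h₁ : InClass π S.X₁)
    (h₂ : InClass π S.X₂) : InClass π S.X₃ := by
  intro n
  cases n with
  | zero =>
    -- `0 → E⁰(X₃) → E⁰(X₂) → E⁰(X₁)`
    let f₁ : Mc ⊗[A] Ext.{w} S.X₃ G 0 →+ Mc ⊗[A] Ext.{w} S.X₂ G 0 :=
      ((preL (A := A) (G := G) (Ext.mk₀ S.g) (zero_add 0)).lTensor Mc).toAddMonoidHom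
    let f₂ : Mc ⊗[A] Ext.{w} S.X₂ G 0 →+ Mc ⊗[A] Ext.{w} S.X₁ G 0 :=
      ((preL (A := A) (G := G) (Ext.mk₀ S.f) (zero_add 0)).lTensor Mc).toAddMonoidHom
    let g₁ : Ext.{w} S.X₃ N 0 →+ Ext.{w} S.X₂ N 0 := (Ext.mk₀ S.g).precomp N (zero_add 0)
    let g₂ : Ext.{w} S.X₂ N 0 →+ Ext.{w} S.X₁ N 0 := (Ext.mk₀ S.f).precomp N (zero_add 0)
    have hc₁ : g₁.comp (T π S.X₃ 0) = (T π S.X₂ 0).comp f₁ :=
      AddMonoidHom.ext fun z => (T_nat π (Ext.mk₀ S.g) (zero_add 0) z).symm
    have hc₂ : g₂.comp (T π S.X₂ 0) = (T π S.X₁ 0).comp f₂ :=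
      AddMonoidHom.ext fun z => (T_nat π (Ext.mk₀ S.f) (zero_add 0) z).symm
    have hf₁ : Function.Exact f₁ f₂ :=
      Module.Flat.lTensor_exact Mc
        (f := preL (A := A) (G := G) (Ext.mk₀ S.g) (zero_add 0))
        (g := preL (A := A) (G := G) (Ext.mk₀ S.f) (zero_add 0)) (exact_at_X₂ hS G 0)
    have hg₁ : Function.Exact g₁ g₂ := exact_at_X₂ hS N 0
    haveI : Epi S.g := hS.epi_g
    have hf₀ : Function.Injective f₁ :=
      Module.Flat.lTensor_preserves_injective_linearMap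
        (preL (A := A) (G := G) (Ext.mk₀ S.g) (zero_add 0))
        (Ext.precomp_mk₀_injective_of_epi G S.g)
    have hg₀ : Function.Injective g₁ := Ext.precomp_mk₀_injective_of_epi N S.g
    exact AddMonoidHom.bijective_of_bijective_of_injective_of_left_exact f₁ f₂ g₁ g₂
      (T π S.X₃ 0) (T π S.X₂ 0) (T π S.X₁ 0) hc₁ hc₂ hf₁ hg₁ (h₂ 0) (h₁ 0).1 hf₀ hg₀
  | succ k =>
    let f₁ : Mc ⊗[A] Ext.{w} S.X₂ G k →+ Mc ⊗[A] Ext.{w} S.X₁ G k :=
      ((preL (A := A) (G := G) (Ext.mk₀ S.f) (zero_add k)).lTensor Mc).toAddMonoidHom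
    let f₂ : Mc ⊗[A] Ext.{w} S.X₁ G k →+ Mc ⊗[A] Ext.{w} S.X₃ G (k + 1) :=
      ((preL (A := A) (G := G) hS.extClass (add_comm 1 k)).lTensor Mc).toAddMonoidHom
    let f₃ : Mc ⊗[A] Ext.{w} S.X₃ G (k + 1) →+ Mc ⊗[A] Ext.{w} S.X₂ G (k + 1) :=
      ((preL (A := A) (G := G) (Ext.mk₀ S.g) (zero_add (k + 1))).lTensor Mc).toAddMonoidHom
    let f₄ : Mc ⊗[A] Ext.{w} S.X₂ G (k + 1) →+ Mc ⊗[A] Ext.{w} S.X₁ G (k + 1) :=
      ((preL (A := A) (G := G) (Ext.mk₀ S.f) (zero_add (k + 1))).lTensor Mc).toAddMonoidHom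
    let g₁ : Ext.{w} S.X₂ N k →+ Ext.{w} S.X₁ N k := (Ext.mk₀ S.f).precomp N (zero_add k)
    let g₂ : Ext.{w} S.X₁ N k →+ Ext.{w} S.X₃ N (k + 1) := hS.extClass.precomp N (add_comm 1 k)
    let g₃ : Ext.{w} S.X₃ N (k + 1) →+ Ext.{w} S.X₂ N (k + 1) :=
      (Ext.mk₀ S.g).precomp N (zero_add (k + 1))
    let g₄ : Ext.{w} S.X₂ N (k + 1) →+ Ext.{w} S.X₁ N (k + 1) :=
      (Ext.mk₀ S.f).precomp N (zero_add (k + 1))
    have hc₁ : g₁.comp (T π S.X₂ k) = (T π S.X₁ k).comp f₁ :=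
      AddMonoidHom.ext fun z => (T_nat π (Ext.mk₀ S.f) (zero_add k) z).symm
    have hc₂ : g₂.comp (T π S.X₁ k) = (T π S.X₃ (k + 1)).comp f₂ :=
      AddMonoidHom.ext fun z => (T_nat π hS.extClass (add_comm 1 k) z).symm
    have hc₃ : g₃.comp (T π S.X₃ (k + 1)) = (T π S.X₂ (k + 1)).comp f₃ :=
      AddMonoidHom.ext fun z => (T_nat π (Ext.mk₀ S.g) (zero_add (k + 1)) z).symm
    have hc₄ : g₄.comp (T π S.X₂ (k + 1)) = (T π S.X₁ (k + 1)).comp f₄ :=
      AddMonoidHom.ext fun z => (T_nat π (Ext.mk₀ S.f) (zero_add (k + 1)) z).symm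
    have hf₁ : Function.Exact f₁ f₂ :=
      Module.Flat.lTensor_exact Mc
        (f := preL (A := A) (G := G) (Ext.mk₀ S.f) (zero_add k))
        (g := preL (A := A) (G := G) hS.extClass (add_comm 1 k)) (exact_at_X₁ hS G k)
    have hf₂ : Function.Exact f₂ f₃ :=
      Module.Flat.lTensor_exact Mc
        (f := preL (A := A) (G := G) hS.extClass (add_comm 1 k))
        (g := preL (A := A) (G := G) (Ext.mk₀ S.g) (zero_add (k + 1))) (exact_at_X₃ hS G k)
    have hf₃ : Function.Exact f₃ f₄ :=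
      Module.Flat.lTensor_exact Mc
        (f := preL (A := A) (G := G) (Ext.mk₀ S.g) (zero_add (k + 1)))
        (g := preL (A := A) (G := G) (Ext.mk₀ S.f) (zero_add (k + 1))) (exact_at_X₂ hS G (k + 1))
    have hg₁ : Function.Exact g₁ g₂ := exact_at_X₁ hS N k
    have hg₂ : Function.Exact g₂ g₃ := exact_at_X₃ hS N k
    have hg₃ : Function.Exact g₃ g₄ := exact_at_X₂ hS N (k + 1)
    exact AddMonoidHom.bijective_of_surjective_of_bijective_of_bijective_of_injective
      f₁ f₂ f₃ f₄ g₁ g₂ g₃ g₄ (T π S.X₂ k) (T π S.X₁ k) (T π S.X₃ (k + 1)) (T π S.X₂ (k + 1))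
      (T π S.X₁ (k + 1)) hc₁ hc₂ hc₃ hc₄ hf₁ hf₂ hf₃ hg₁ hg₂ hg₃ (h₂ k).2 (h₁ k) (h₂ (k + 1))
      (h₁ (k + 1)).1

end Five

section Equiv

variable {A A' Mc : Type*} [CommRing A] [CommRing A'] [AddCommGroup Mc] [Module A Mc]
  [Module A' Mc] [Algebra A A'] [IsScalarTower A A' Mc] {G N : 𝒜} [EndAct A G] [EndAct A' N]
  (π : Pairing A A' Mc G N)

/-- a member of the class gives a linear equivalence -/
noncomputable def equivOfBijective (P : 𝒜) (n : ℕ) (h : Function.Bijective (T π P n)) :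
    Mc ⊗[A] Ext.{w} P G n ≃ₗ[A'] Ext.{w} P N n :=
  LinearEquiv.ofBijective
    { toFun := T π P n
      map_add' := map_add _
      map_smul' := fun a' z => T_smul π P n a' z } h

lemma equivOfBijective_tmul (P : 𝒜) (n : ℕ) (h : Function.Bijective (T π P n)) (m : Mc)
    (x : Ext.{w} P G n) :
    equivOfBijective π P n h (m ⊗ₜ[A] x) = x.comp (Ext.mk₀ (π.η m)) (add_zero n) := rfl

end Equiv

end Groth.Agent.Lib.ExtBCH2
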