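import Mathlib
import Groth.Prelude
import Groth.Agent.Lib.ExtBC1_helper2
import Groth.Agent.Lib.FlatBC2_helper2
import Groth.Agent.Lib.MVVanish1_helper9
import Groth.Agent.Lib.AffVanish_helper9
import Groth.Agent.Lib.PushEdgeNat_helper9
import Groth.Agent.Lib.QAffKos1_helper9

/-!
# Flat base change for quasi-compact quasi-separated schemes (helper2)

`A → B` flat, `X` quasi-compact quasi-separated over `Spec A`, `X' = X ×_A Spec B`, `M` quasi-coherent
on `X`: `B ⊗_A H^n(X, M) ≃ H^n(X', g'^* M)`, `B`-linearly.  Everything is transported to `X`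
through the affine morphism `g'`: with `N = g'_* g'^* M` the statement becomes that
`B ⊗_A Ext^n(P, M) → Ext^n(P, N)` is bijective for `P = ℤ_X`; this is proved for the free sheaves
`ℤ_W` on all quasi-compact opens `W` by Mayer–Vietoris induction (`ExtBC1`), starting from affine
opens.
APPEND-ONLY once landed.
-/

set_option autoImplicit false
universe u

open CategoryTheory CategoryTheory.Limits AlgebraicGeometry TopologicalSpace Opposite TensorProduct
  Abelian

namespace Groth.Agent.Lib.ExtBCH2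

open Groth.Agent.Lib.FlatBCH2 Groth.Agent.Lib.FormalFnH2 Groth.Agent.Lib.Cech
  Groth.Agent.Lib.FreeSheaf

section Geo

variable {A B : Type u} [CommRing A] [CommRing B] [Algebra A B]
  {X X' : Scheme.{u}} [X.Over (Spec (CommRingCat.of A))] [X'.Over (Spec (CommRingCat.of B))]
  (g' : X' ⟶ X)

/-- `A` acts on the underlying abelian sheaf of a module on a scheme over `Spec A` -/
noncomputable def ρG (M : X.Modules) : A →+* End (Coh.toAb M) where
  toFun a := Coh.smulAb M (Coh.toGlobal (X ↘ Spec (CommRingCat.of A)) a)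
  map_one' := by
    rw [map_one]
    exact Coh.smulAb_one M
  map_mul' a b := by
    rw [map_mul]
    exact Coh.smulAb_mul M _ _
  map_zero' := by
    rw [map_zero]
    exact Coh.smulAb_zero M
  map_add' a b := by
    rw [map_add]
    exact Coh.smulAb_add M _ _

/-- the action as an `EndAct` -/
@[reducible] noncomputable def actG (M : X.Modules) : EndAct A (Coh.toAb M) := ⟨ρG (A := A) M⟩

/-- `B` acts on the underlying abelian sheaf of `g'_* M'` -/
noncomputable def ρN (M' : X'.Modules) :
    B →+* End (Coh.toAb ((Scheme.Modules.pushforward g').obj M')) where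
  toFun b := (CohTop.push g'.base).map
    (Coh.smulAb M' (Coh.toGlobal (X' ↘ Spec (CommRingCat.of B)) b))
  map_one' := by
    rw [map_one, Coh.smulAb_one]
    exact (CohTop.push g'.base).map_id _
  map_mul' a b := by
    rw [map_mul, Coh.smulAb_mul]
    exact (CohTop.push g'.base).map_comp _ _
  map_zero' := by
    rw [map_zero, Coh.smulAb_zero]
    exact (CohTop.push g'.base).map_zero _ _
  map_add' a b := by
    rw [map_add, Coh.smulAb_add]
    exact (CohTop.push g'.base).map_add

/-- the action as an `EndAct` -/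
@[reducible] noncomputable def actN (M' : X'.Modules) :
    EndAct B (Coh.toAb ((Scheme.Modules.pushforward g').obj M')) := ⟨ρN g' M'⟩

/-- the pullback -/
noncomputable abbrev Mp (M : X.Modules) : X'.Modules := (Scheme.Modules.pullback g').obj M

/-- the unit `M ⟶ g'_* g'^* M` on underlying abelian sheaves -/
noncomputable def η₁ (M : X.Modules) :
    Coh.toAb M ⟶ Coh.toAb ((Scheme.Modules.pushforward g').obj (Mp g' M)) :=
  (SheafOfModules.toSheaf X.ringCatSheaf).map
    ((Scheme.Modules.pullbackPushforwardAdjunction g').unit.app M)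

variable
  (hsq : IsPullback g' (X' ↘ Spec (CommRingCat.of B)) (X ↘ Spec (CommRingCat.of A))
    (Spec.map (CommRingCat.ofHom (algebraMap A B))))

include hsq in
/-- the unit intertwines the actions -/
theorem ρG_η₁ (M : X.Modules) (a : A) :
    (ρG (A := A) M a : Coh.toAb M ⟶ Coh.toAb M) ≫ η₁ g' M =
      η₁ g' M ≫ (ρN g' (Mp g' M) (algebraMap A B a) :
        Coh.toAb ((Scheme.Modules.pushforward g').obj (Mp g' M)) ⟶ _) := by
  apply Sheaf.hom_ext
  ext U m
  show ((Scheme.Modules.pullbackPushforwardAdjunction g').unit.app M).app U.unop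
      ((Coh.smulAb M (Coh.toGlobal (X ↘ Spec (CommRingCat.of A)) a)).hom.app U m) =
    (Coh.smulAb (Mp g' M) (Coh.toGlobal (X' ↘ Spec (CommRingCat.of B)) (algebraMap A B a))).hom.app
      (op (g' ⁻¹ᵁ U.unop))
      (((Scheme.Modules.pullbackPushforwardAdjunction g').unit.app M).app U.unop m)
  rw [Coh.smulAb_app, Coh.smulAb_app]
  refine (Scheme.Modules.Hom.app_smul
    ((Scheme.Modules.pullbackPushforwardAdjunction g').unit.app M) _ m).trans ?_
  have h := gp_app_rU g' hsq a U.unop
  set n : Γ(Mp g' M, g' ⁻¹ᵁ U.unop) :=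
    ((Scheme.Modules.pullbackPushforwardAdjunction g').unit.app M).app U.unop m with hn
  show @HSMul.hSMul Γ(X', g' ⁻¹ᵁ U.unop) Γ(Mp g' M, g' ⁻¹ᵁ U.unop) Γ(Mp g' M, g' ⁻¹ᵁ U.unop) _
    ((g'.app U.unop).hom (Groth.Agent.Lib.FormalModPowH4.rU a U.unop)) n = _
  rw [h]
  rfl

end Geo


section Sec

variable {X : TopCat.{u}}

/-- `Ext⁰(ℤ_W, F) ≃+ F(W)` -/
noncomputable def secEquiv (F : CohTop.Ab X) (W : Opens X) :
    Ext.{u} (fr (X := X) W) F 0 ≃+ F.obj.obj (op W) :=
  Ext.addEquiv₀.trans
    { freeSheafHomEquiv (Opens.grothendieckTopology X) W F with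
      map_add' := fun f g => homEquiv_add W F f g }

lemma secEquiv_mk₀ (F : CohTop.Ab X) (W : Opens X) (f : fr (X := X) W ⟶ F) :
    secEquiv F W (Ext.mk₀ f) = freeSheafHomEquiv (Opens.grothendieckTopology X) W F f := by
  show freeSheafHomEquiv (Opens.grothendieckTopology X) W F (Ext.addEquiv₀ (Ext.mk₀ f)) = _
  have : Ext.addEquiv₀ (Ext.mk₀ f) = f :=
    (Ext.addEquiv₀ (X := fr (X := X) W) (Y := F)).apply_symm_apply f
  rw [this]

lemma secEquiv_comp {F F' : CohTop.Ab X} (W : Opens X) (x : Ext.{u} (fr (X := X) W) F 0)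
    (φ : F ⟶ F') :
    secEquiv F' W (x.comp (Ext.mk₀ φ) (add_zero 0)) = φ.hom.app (op W) (secEquiv F W x) := by
  obtain ⟨f, rfl⟩ : ∃ f, Ext.mk₀ f = x := ⟨Ext.addEquiv₀ x, Ext.mk₀_addEquiv₀_apply x⟩
  rw [Ext.mk₀_comp_mk₀, secEquiv_mk₀, secEquiv_mk₀, freeSheafHomEquiv_comp]

end Sec

section PairingDef

variable {A B : Type u} [CommRing A] [CommRing B] [Algebra A B]
  {X X' : Scheme.{u}} [X.Over (Spec (CommRingCat.of A))] [X'.Over (Spec (CommRingCat.of B))]
  (g' : X' ⟶ X)
  (hsq : IsPullback g' (X' ↘ Spec (CommRingCat.of B)) (X ↘ Spec (CommRingCat.of A))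
    (Spec.map (CommRingCat.ofHom (algebraMap A B))))

attribute [local instance] actG actN

/-- the pairing `b ↦ (M → g'_* g'^* M → g'_* g'^* M)` (unit followed by multiplication by `b`) -/
noncomputable def pairing (M : X.Modules) :
    Pairing A B B (Coh.toAb M) (Coh.toAb ((Scheme.Modules.pushforward g').obj (Mp g' M))) where
  η :=
    { toFun := fun b => η₁ g' M ≫ (ρN g' (Mp g' M) b :
        Coh.toAb ((Scheme.Modules.pushforward g').obj (Mp g' M)) ⟶ _)
      map_zero' := by
        rw [map_zero]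
        exact comp_zero
      map_add' := fun b b' => by
        rw [map_add]
        exact Preadditive.comp_add _ _ _ _ _ _ }
  smulA := fun a b => by
    show η₁ g' M ≫ (ρN g' (Mp g' M) (a • b) :
        Coh.toAb ((Scheme.Modules.pushforward g').obj (Mp g' M)) ⟶ _) =
      (ρG (A := A) M a : Coh.toAb M ⟶ Coh.toAb M) ≫ η₁ g' M ≫ (ρN g' (Mp g' M) b :
        Coh.toAb ((Scheme.Modules.pushforward g').obj (Mp g' M)) ⟶ _)
    rw [← Category.assoc, ρG_η₁ g' hsq M a, Category.assoc, Algebra.smul_def, mul_comm, map_mul]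
    rfl
  smulA' := fun b' b => by
    show η₁ g' M ≫ (ρN g' (Mp g' M) (b' • b) :
        Coh.toAb ((Scheme.Modules.pushforward g').obj (Mp g' M)) ⟶ _) =
      (η₁ g' M ≫ (ρN g' (Mp g' M) b :
        Coh.toAb ((Scheme.Modules.pushforward g').obj (Mp g' M)) ⟶ _)) ≫
        (ρN g' (Mp g' M) b' : Coh.toAb ((Scheme.Modules.pushforward g').obj (Mp g' M)) ⟶ _)
    rw [smul_eq_mul, map_mul, Category.assoc]
    rfl

lemma pairing_η (M : X.Modules) (b : B) :
    (pairing g' hsq M).η b = η₁ g' M ≫ (ρN g' (Mp g' M) b :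
        Coh.toAb ((Scheme.Modules.pushforward g').obj (Mp g' M)) ⟶ _) := rfl

end PairingDef


end Groth.Agent.Lib.ExtBCH2
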