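import Mathlib
import Groth.Prelude
import Groth.Agent.Lib.ExtBC2_helper2

/-!
# Flat base change for qcqs schemes, part 3: the affine case (helper2)
APPEND-ONLY once landed.
-/

set_option autoImplicit false
universe u

open CategoryTheory CategoryTheory.Limits AlgebraicGeometry TopologicalSpace Opposite TensorProduct
  Abelian

namespace Groth.Agent.Lib.ExtBCH2

open Groth.Agent.Lib.FlatBCH2 Groth.Agent.Lib.FormalFnH2 Groth.Agent.Lib.Cech
  Groth.Agent.Lib.FreeSheaf

section Affine

variable {A B : Type u} [CommRing A] [CommRing B] [Algebra A B]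
  {X X' : Scheme.{u}} [X.Over (Spec (CommRingCat.of A))] [X'.Over (Spec (CommRingCat.of B))]
  (g' : X' ⟶ X)
  (hsq : IsPullback g' (X' ↘ Spec (CommRingCat.of B)) (X ↘ Spec (CommRingCat.of A))
    (Spec.map (CommRingCat.ofHom (algebraMap A B))))

attribute [local instance] actG actN

/-- abelian sheaves on the underlying space of a scheme, in the syntactic form of `Coh.toAb` -/
abbrev ShX (X : Scheme.{u}) : Type (u + 1) :=
  Sheaf (Opens.grothendieckTopology X) AddCommGrpCat.{u}

/-- the comparison map with its universe pinned -/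
noncomputable abbrev Tg (M : X.Modules) (P : ShX X) (n : ℕ) :=
  T.{u, u, u + 1, u, u, u} (pairing g' hsq M) P n

/-- the class with its universe pinned -/
abbrev InG (M : X.Modules) (P : ShX X) : Prop :=
  InClass.{u, u, u + 1, u, u, u} (pairing g' hsq M) P

lemma cUV_refl (M : X.Modules) (W : X.Opens) (y : Γ(M, W)) :
    PBH8.cUV g' M (le_refl (g' ⁻¹ᵁ W)) y =
      ((Scheme.Modules.pullbackPushforwardAdjunction g').unit.app M).app W y := by
  unfold PBH8.cUV
  have h : (homOfLE (le_refl (g' ⁻¹ᵁ W))).op = 𝟙 _ := rfl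
  rw [h, CategoryTheory.Functor.map_id]
  rfl

include hsq in
theorem bijective_Tg_zero_of_affine (M : X.Modules) [M.IsQuasicoherent] (W : X.Opens)
    (hW : IsAffineOpen W) :
    Function.Bijective (Tg g' hsq M (fr (X := X.toTopCat) W) 0) := by
  set P := Mp g' M with hP
  letI m1 := secMod A M W
  letI n1 := secMod B P (g' ⁻¹ᵁ W)
  letI n1A := secModA A B P (g' ⁻¹ᵁ W)
  haveI t1 := secTower A B P (g' ⁻¹ᵁ W)
  let c : Γ(M, W) →ₗ[A] Γ(P, g' ⁻¹ᵁ W) :=
    { toFun := fun x => PBH8.cUV g' M (le_refl _) x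
      map_add' := fun x y => PBH8.cUV_add g' M _ x y
      map_smul' := fun a x => by
        show PBH8.cUV g' M (le_refl _) (rUHom (A := A) (X := X) W a • x) =
          rUHom (A := B) (X := X') (g' ⁻¹ᵁ W) (algebraMap A B a) • PBH8.cUV g' M (le_refl _) x
        rw [PBH8.cUV_smul]
        congr 1
        exact appLE_rUHom g' hsq W a }
  have hbc : IsBaseChange B c := isBaseChange_cUV_affine hsq M hW c (fun m => rfl)
  let lG : Ext.{u} (C := ShX X) (fr (X := X.toTopCat) W) (Coh.toAb M) 0 ≃ₗ[A] Γ(M, W) :=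
    { secEquiv (Coh.toAb M) W with
      map_smul' := fun a x => by
        show secEquiv (Coh.toAb M) W
            (x.comp (Ext.mk₀ (act (Coh.toAb M) a)) (add_zero 0)) =
          @HSMul.hSMul Γ(X, W) Γ(M, W) Γ(M, W) _ (rUHom (A := A) (X := X) W a)
            (secEquiv (Coh.toAb M) W x)
        rw [secEquiv_comp]
        rfl }
  let lN := secEquiv (Coh.toAb ((Scheme.Modules.pushforward g').obj P)) W
  have key : ∀ z, lN (Tg g' hsq M (fr (X := X.toTopCat) W) 0 z) =
      hbc.equiv (LinearEquiv.lTensor B lG z) := by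
    intro z
    induction z using TensorProduct.induction_on with
    | zero =>
      have h1 : lN (Tg g' hsq M (fr (X := X.toTopCat) W) 0 0) = 0 := by rw [map_zero, map_zero]
      have h2 : hbc.equiv (LinearEquiv.lTensor B lG 0) = 0 := by rw [map_zero, map_zero]
      exact h1.trans h2.symm
    | tmul b x =>
      rw [T_tmul, LinearEquiv.lTensor_tmul, IsBaseChange.equiv_tmul]
      show secEquiv (Coh.toAb ((Scheme.Modules.pushforward g').obj P)) W
        (x.comp (Ext.mk₀ ((pairing g' hsq M).η b)) (add_zero 0)) = b • c (lG x)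
      rw [secEquiv_comp, pairing_η]
      show (Coh.smulAb P (Coh.toGlobal (X' ↘ Spec (CommRingCat.of B)) b)).hom.app
          (op (g' ⁻¹ᵁ W))
          (((Scheme.Modules.pullbackPushforwardAdjunction g').unit.app M).app W
            (secEquiv (Coh.toAb M) W x)) =
        rUHom (A := B) (X := X') (g' ⁻¹ᵁ W) b •
          PBH8.cUV g' M (le_refl _) (secEquiv (Coh.toAb M) W x)
      rw [cUV_refl, Coh.smulAb_app]
      rfl
    | add z z' hz hz' =>
      have h1 : lN (Tg g' hsq M (fr (X := X.toTopCat) W) 0 (z + z')) =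
          lN (Tg g' hsq M (fr (X := X.toTopCat) W) 0 z) +
            lN (Tg g' hsq M (fr (X := X.toTopCat) W) 0 z') := by rw [map_add, map_add]
      have h2 : hbc.equiv (LinearEquiv.lTensor B lG (z + z')) =
          hbc.equiv (LinearEquiv.lTensor B lG z) + hbc.equiv (LinearEquiv.lTensor B lG z') := by
        rw [map_add, map_add]
      exact h1.trans ((congrArg₂ (· + ·) hz hz').trans h2.symm)
  have hfun : ⇑(Tg g' hsq M (fr (X := X.toTopCat) W) 0) =
      ⇑lN.symm ∘ (⇑hbc.equiv ∘ ⇑(LinearEquiv.lTensor B lG)) := by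
    funext z
    exact (lN.symm_apply_eq.mpr (key z).symm).symm
  rw [hfun]
  exact lN.symm.bijective.comp (hbc.equiv.bijective.comp (LinearEquiv.lTensor B lG).bijective)

end Affine

end Groth.Agent.Lib.ExtBCH2
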