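import Mathlib
import Groth.Prelude
import Groth.Agent.Lib.ExtBC3_helper2
import Groth.Agent.Lib.AffVanish4_helper9
import Groth.Agent.Lib.QBC3_helper8
import Groth.Agent.Lib.QcqsLoc_helper9
import Groth.Agent.Lib.PushEdge2_helper7
import Groth.Agent.Lib.CechAffine_helper2

/-!
# Flat base change for qcqs schemes, part 4: Mayer–Vietoris induction and the main theorem (helper2)
APPEND-ONLY once landed.
-/

set_option autoImplicit false
universe u

open CategoryTheory CategoryTheory.Limits AlgebraicGeometry TopologicalSpace Opposite TensorProduct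
  Abelian

namespace Groth.Agent.Lib.ExtBCH2

open Groth.Agent.Lib.FlatBCH2 Groth.Agent.Lib.FormalFnH2 Groth.Agent.Lib.Cech
  Groth.Agent.Lib.FreeSheaf

section TopInd

variable {X : TopCat.{u}} {A A' Mc : Type u} [CommRing A] [CommRing A'] [AddCommGroup Mc]
  [Module A Mc] [Module A' Mc]
  {G N : CohTop.Ab X} {iG : EndAct A G} {iN : EndAct A' N} (π : Pairing A A' Mc G N)

/-- the class with its universes pinned -/
abbrev InT (P : CohTop.Ab X) : Prop := InClass.{u, u, u + 1, u, u, u} π P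

theorem inT_bot : InT π (fr (X := X) ⊥) := fun n =>
  bijective_T_of_subsingleton π _ n
    ⟨fun x y => (LocCohAff.ext_eq_zero_of_isZero_src LocCohAff.isZero_fr_bot n x).trans
      (LocCohAff.ext_eq_zero_of_isZero_src LocCohAff.isZero_fr_bot n y).symm⟩
    ⟨fun x y => (LocCohAff.ext_eq_zero_of_isZero_src LocCohAff.isZero_fr_bot n x).trans
      (LocCohAff.ext_eq_zero_of_isZero_src LocCohAff.isZero_fr_bot n y).symm⟩

variable [Module.Flat A Mc]

/-- Mayer–Vietoris step -/
theorem inT_sup (U V : Opens X) (h₁ : InT π (fr (X := X) (U ⊓ V))) (hU : InT π (fr (X := X) U))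
    (hV : InT π (fr (X := X) V)) : InT π (fr (X := X) (U ⊔ V)) := by
  have hS := (Opens.mayerVietorisSquare U V).shortComplex_shortExact
  exact inClass_X₃ π hS h₁ (inClass_biprod π hU hV)

/-- **Mayer–Vietoris induction** for the class: finite unions of members of an intersection-stable
family of opens in the class are in the class -/
theorem inT_sup_list (Bs : Set (Opens X)) (hB : ∀ U ∈ Bs, ∀ V ∈ Bs, U ⊓ V ∈ Bs)
    (hin : ∀ U ∈ Bs, InT π (fr (X := X) U)) :
    ∀ (k : ℕ) (l : List (Opens X)), l.length = k → (∀ U ∈ l, U ∈ Bs) →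
      InT π (fr (X := X) (MVVanish.sup l)) := by
  intro k
  induction k with
  | zero =>
    intro l hl _
    obtain rfl : l = [] := List.length_eq_zero_iff.mp hl
    exact inT_bot π
  | succ k ih =>
    intro l hl hlB
    obtain ⟨U, l', rfl⟩ : ∃ U l', l = U :: l' := by
      cases l with
      | nil => simp at hl
      | cons U l' => exact ⟨U, l', rfl⟩
    have hl' : l'.length = k := by simpa using hl
    have hUB : U ∈ Bs := hlB U List.mem_cons_self
    have hl'B : ∀ V ∈ l', V ∈ Bs := fun V hV => hlB V (List.mem_cons_of_mem _ hV)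
    show InT π (fr (X := X) (U ⊔ MVVanish.sup l'))
    refine inT_sup π U (MVVanish.sup l') ?_ (hin U hUB) (ih l' hl' hl'B)
    rw [MVVanish.inf_sup]
    refine ih (l'.map (U ⊓ ·)) (by rw [List.length_map, hl']) ?_
    intro W hW
    obtain ⟨V, hV, rfl⟩ := List.mem_map.mp hW
    exact hB U hUB V (hl'B V hV)

/-- the same for a finite set of opens covering `V` -/
theorem inT_of_cover (Bs : Set (Opens X)) (hB : ∀ U ∈ Bs, ∀ V ∈ Bs, U ⊓ V ∈ Bs)
    (hin : ∀ U ∈ Bs, InT π (fr (X := X) U)) (V : Opens X) (S : Set (Opens X)) (hS : S.Finite)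
    (hSB : ∀ W ∈ S, W ∈ Bs) (hle : ∀ W ∈ S, W ≤ V) (hcov : ∀ x ∈ V, ∃ W ∈ S, x ∈ W) :
    InT π (fr (X := X) V) := by
  classical
  have hl : ∀ U ∈ hS.toFinset.toList, U ∈ S := fun U hU =>
    hS.mem_toFinset.mp (Finset.mem_toList.mp hU)
  have hl' : ∀ U ∈ S, U ∈ hS.toFinset.toList := fun U hU =>
    Finset.mem_toList.mpr (hS.mem_toFinset.mpr hU)
  have hsup : MVVanish.sup hS.toFinset.toList = V := by
    apply le_antisymm
    · intro x hx
      obtain ⟨U, hU, hxU⟩ := MVVanish.mem_sup hx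
      exact hle U (hl U hU) hxU
    · intro x hx
      obtain ⟨W, hW, hxW⟩ := hcov x hx
      exact MVVanish.le_sup (hl' W hW) hxW
  have h := inT_sup_list π Bs hB hin _ hS.toFinset.toList rfl (fun U hU => hSB U (hl U hU))
  rw [hsup] at h
  exact h

end TopInd

section SchemeInd

variable {A B : Type u} [CommRing A] [CommRing B] [Algebra A B]
  {X X' : Scheme.{u}} [X.Over (Spec (CommRingCat.of A))] [X'.Over (Spec (CommRingCat.of B))]
  (g' : X' ⟶ X)
  (hsq : IsPullback g' (X' ↘ Spec (CommRingCat.of B)) (X ↘ Spec (CommRingCat.of A))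
    (Spec.map (CommRingCat.ofHom (algebraMap A B))))

attribute [local instance] actG actN

include hsq in
theorem isAffineHom_of_sq : IsAffineHom g' :=
  MorphismProperty.of_isPullback (P := @IsAffineHom) hsq.flip inferInstance

include hsq in
/-- affine opens are in the class -/
theorem inG_fr_affine (M : X.Modules) [M.IsQuasicoherent] (W : X.Opens) (hW : IsAffineOpen W) :
    InG g' hsq M (fr (X := X.toTopCat) W) := by
  haveI : IsAffineHom g' := isAffineHom_of_sq g' hsq
  haveI : (Mp g' M).IsQuasicoherent := PBH8.isQuasicoherent_pullback g' M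
  haveI : ((Scheme.Modules.pushforward g').obj (Mp g' M)).IsQuasicoherent :=
    QcqsLoc.isQuasicoherent_pushforward_qcqs g' (Mp g' M)
  intro n
  cases n with
  | zero => exact bijective_Tg_zero_of_affine g' hsq M W hW
  | succ n =>
    exact bijective_T_of_subsingleton (pairing g' hsq M) _ _
      ⟨fun x y => (ext_fr_eq_zero_of_isAffineOpen M W hW n x).trans
        (ext_fr_eq_zero_of_isAffineOpen M W hW n y).symm⟩
      ⟨fun x y => (ext_fr_eq_zero_of_isAffineOpen
          ((Scheme.Modules.pushforward g').obj (Mp g' M)) W hW n x).trans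
        (ext_fr_eq_zero_of_isAffineOpen
          ((Scheme.Modules.pushforward g').obj (Mp g' M)) W hW n y).symm⟩

variable [Module.Flat A B]

include hsq in
/-- quasi-compact opens inside an affine open are in the class -/
theorem inG_of_le_affine (M : X.Modules) [M.IsQuasicoherent] (W₀ : X.Opens)
    (hW₀ : IsAffineOpen W₀) (V : X.Opens) (hV : V ≤ W₀) (hc : IsCompact (V : Set X)) :
    InG g' hsq M (fr (X := X.toTopCat) V) := by
  obtain ⟨S, hSfin, hSle, hScov⟩ := QBCH8.exists_finite_affine_cover V hc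
  refine inT_of_cover (X := X.toTopCat) (pairing g' hsq M) {U : X.Opens | IsAffineOpen U ∧ U ≤ W₀} ?_ ?_ V
    ((fun W : X.affineOpens => (W : X.Opens)) '' S) (hSfin.image _) ?_ ?_ ?_
  · rintro U ⟨hU, hUW⟩ U' ⟨hU', hU'W⟩
    exact ⟨AffVanish.isAffineOpen_inf_of_le hW₀ hUW hU'W hU hU', inf_le_left.trans hUW⟩
  · rintro U ⟨hU, -⟩
    exact inG_fr_affine g' hsq M U hU
  · rintro _ ⟨W, hW, rfl⟩
    exact ⟨W.2, (hSle W hW).trans hV⟩
  · rintro _ ⟨W, hW, rfl⟩
    exact hSle W hW
  · intro x hx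
    obtain ⟨W, hW, hxW⟩ := hScov x hx
    exact ⟨(W : X.Opens), ⟨W, hW, rfl⟩, hxW⟩

include hsq in
/-- the whole space is in the class -/
theorem inG_top [CompactSpace X] [QuasiSeparatedSpace X] (M : X.Modules) [M.IsQuasicoherent] :
    InG g' hsq M (fr (X := X.toTopCat) ⊤) := by
  obtain ⟨S, hSfin, hSle, hScov⟩ := QBCH8.exists_finite_affine_cover (⊤ : X.Opens)
    (by
      show IsCompact (Set.univ : Set X)
      exact isCompact_univ)
  refine inT_of_cover (X := X.toTopCat) (pairing g' hsq M)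
    {U : X.Opens | IsCompact (U : Set X) ∧ ∃ W₀ : X.Opens, IsAffineOpen W₀ ∧ U ≤ W₀} ?_ ?_ ⊤
    ((fun W : X.affineOpens => (W : X.Opens)) '' S) (hSfin.image _) ?_ ?_ ?_
  · rintro (U : X.Opens) ⟨hU, W₀, hW₀, hUW⟩ (U' : X.Opens) ⟨hU', -⟩
    exact ⟨QuasiSeparatedSpace.inter_isCompact (U : Set X) (U' : Set X) U.isOpen hU U'.isOpen hU',
      W₀, hW₀, inf_le_left.trans hUW⟩
  · rintro U ⟨hU, W₀, hW₀, hUW⟩
    exact inG_of_le_affine g' hsq M W₀ hW₀ U hUW hU
  · rintro _ ⟨W, hW, rfl⟩
    exact ⟨W.2.isCompact, W, W.2, le_rfl⟩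
  · rintro _ ⟨W, hW, rfl⟩
    exact hSle W hW
  · intro x hx
    obtain ⟨W, hW, hxW⟩ := hScov x hx
    exact ⟨(W : X.Opens), ⟨W, hW, rfl⟩, hxW⟩

end SchemeInd

end Groth.Agent.Lib.ExtBCH2
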