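import Mathlib
import Groth.Prelude
import Groth.Agent.Lib.ExtBC4_helper2

/-!
# Flat base change for qcqs schemes, part 5: the main theorem (helper2)
APPEND-ONLY once landed.
-/

set_option autoImplicit false
universe u

open CategoryTheory CategoryTheory.Limits AlgebraicGeometry TopologicalSpace Opposite TensorProduct
  Abelian

namespace Groth.Agent.Lib.ExtBCH2

open Groth.Agent.Lib.FlatBCH2 Groth.Agent.Lib.FormalFnH2 Groth.Agent.Lib.Cech
  Groth.Agent.Lib.FreeSheaf

section Main

variable {A B : Type u} [CommRing A] [CommRing B] [Algebra A B] [Module.Flat A B]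
  {X X' : Scheme.{u}} [X.Over (Spec (CommRingCat.of A))] [X'.Over (Spec (CommRingCat.of B))]
  (g' : X' ⟶ X)
  (hsq : IsPullback g' (X' ↘ Spec (CommRingCat.of B)) (X ↘ Spec (CommRingCat.of A))
    (Spec.map (CommRingCat.ofHom (algebraMap A B))))

attribute [local instance] actG actN

/-- the constant sheaf `ℤ` on a scheme -/
noncomputable abbrev constZ (X : Scheme.{u}) : ShX X :=
  (constantSheaf (Opens.grothendieckTopology X) AddCommGrpCat.{u}).obj
    (AddCommGrpCat.of (ULift ℤ))

include hsq in
/-- the constant sheaf is in the class -/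
theorem inG_constZ [CompactSpace X] [QuasiSeparatedSpace X] (M : X.Modules) [M.IsQuasicoherent] :
    InG g' hsq M (constZ X) := by
  obtain ⟨i⟩ := QAffKos.nonempty_iso_of_homEquiv
    ((constantSheaf (Opens.grothendieckTopology X.toTopCat) AddCommGrpCat.{u}).obj
      (AddCommGrpCat.of (ULift ℤ))) (fr (X := X.toTopCat) ⊤)
    (fun F : CohTop.Ab X.toTopCat => F.obj.obj (op (⊤ : Opens X.toTopCat)))
    (fun {F F' : CohTop.Ab X.toTopCat} (φ : F ⟶ F') s => φ.hom.app (op ⊤) s)
    (fun F => Groth.Agent.Lib.FlasqueAcyclic.constEquiv F)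
    (fun F => freeSheafHomEquiv _ ⊤ F)
    (fun f φ => Groth.Agent.Lib.FlasqueAcyclic.constEquiv_comp f φ)
    (fun f φ => freeSheafHomEquiv_comp _ ⊤ f φ)
  exact inClass_of_iso (pairing g' hsq M) i (inG_top g' hsq M)

include hsq in
theorem main0034 [CompactSpace X] [QuasiSeparatedSpace X] (M : X.Modules) [M.IsQuasicoherent]
    (i : ℕ) :
    Nonempty (TensorProduct A B (Coh.HH X M i) ≃ₗ[B]
      Coh.HH X' ((Scheme.Modules.pullback g').obj M) i) := by
  haveI : IsAffineHom g' := isAffineHom_of_sq g' hsq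
  haveI : (Mp g' M).IsQuasicoherent := PBH8.isQuasicoherent_pullback g' M
  have hT := inG_constZ g' hsq M i
  have hP := Groth.Agent.Lib.PushEdge2_helper7.pushEdge_bijective_of_isAffineHom g' (Mp g' M) i
  refine ⟨LinearEquiv.ofBijective
    { toFun := fun z => CohPull.pushEdge g' (Mp g' M) i (Tg g' hsq M (constZ X) i z)
      map_add' := fun z z' => by rw [map_add, map_add]
      map_smul' := fun b z => by
        rw [RingHom.id_apply]
        show CohPull.pushEdge g' (Mp g' M) i (Tg g' hsq M (constZ X) i (b • z)) =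
          b • CohPull.pushEdge g' (Mp g' M) i (Tg g' hsq M (constZ X) i z)
        rw [T_smul]
        exact Groth.Agent.PushEdgeNat.pushEdge_nat g'
          (Coh.smulAb (Mp g' M) (Coh.toGlobal (X' ↘ Spec (CommRingCat.of B)) b)) i _ }
    (hP.comp hT)⟩

end Main

end Groth.Agent.Lib.ExtBCH2
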