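import Mathlib
import Groth.Prelude
import Groth.Agent.Lib.FibDim3_helper2

/-!
# Vanishing of the stalk of `R^p f_* M` from vanishing over the local ring (helper2)

`f : X ⟶ Y` proper, `Y` locally Noetherian, `M` coherent, `y : Y`: if
`H^p(X ×_Y Spec O_{Y,y}, M') = 0` (`M'` the pullback of `M`) then `(R^p f_* M)_y = 0`.
Same proof as `FibDim3` (flat base change + localization of cohomology), with the dimension
hypothesis replaced by the vanishing hypothesis.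
APPEND-ONLY once landed.
-/

set_option autoImplicit false
universe u
open CategoryTheory CategoryTheory.Limits AlgebraicGeometry TopologicalSpace Opposite

namespace Groth.Agent.Lib.FibAmpH2

open Groth.Agent.Lib.GVanH2 BasicLoc RpushAffine Groth.Agent.Lib.FreeSheaf
  Groth.Agent.Lib.FibDimH2

section CoreAlg

/-- algebraic core: a cohomology class of a coherent module over `Spec B` is killed by an element
outside `𝔭` as soon as the cohomology of the base change to `B_𝔭` vanishes -/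
theorem exists_smul_eq_zero' (B A : Type u) [CommRing B] [CommRing A] [Algebra B A]
    [IsLocalRing A] [IsNoetherianRing A] (𝔭 : Ideal B) [𝔭.IsPrime] [IsLocalization.AtPrime A 𝔭]
    (X₁ X' : Scheme.{u}) [X₁.Over (Spec (CommRingCat.of B))] [X'.Over (Spec (CommRingCat.of A))]
    [CompactSpace X₁] [QuasiSeparatedSpace X₁] [IsProper (X' ↘ Spec (CommRingCat.of A))]
    (g' : X' ⟶ X₁)
    (h : IsPullback g' (X' ↘ Spec (CommRingCat.of A)) (X₁ ↘ Spec (CommRingCat.of B))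
      (Spec.map (CommRingCat.ofHom (algebraMap B A))))
    (M₁ : X₁.Modules) (hM₁ : Coh.IsCoh M₁) (q : ℕ)
    (hsub : Subsingleton (Coh.HH X' ((Scheme.Modules.pullback g').obj M₁) q))
    (ξ : Coh.HH X₁ M₁ q) : ∃ b : B, b ∉ 𝔭 ∧ b • ξ = 0 := by
  haveI : Module.Flat B A := IsLocalization.flat A 𝔭.primeCompl
  haveI : Coh.IsQCoh M₁ := hM₁.1
  obtain ⟨e⟩ := Groth.Agent.S0034.result B A X₁ X' g' h M₁ q
  have hT : Subsingleton (TensorProduct B A (Coh.HH X₁ M₁ q)) := e.toEquiv.subsingleton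
  haveI : IsLocalizedModule 𝔭.primeCompl (TensorProduct.mk B A (Coh.HH X₁ M₁ q) 1) :=
    (isLocalizedModule_iff_isBaseChange 𝔭.primeCompl A _).mpr
      (TensorProduct.isBaseChange B (Coh.HH X₁ M₁ q) A)
  have h0 : TensorProduct.mk B A (Coh.HH X₁ M₁ q) 1 ξ = 0 := Subsingleton.elim _ _
  obtain ⟨c, hc⟩ := (IsLocalizedModule.eq_zero_iff 𝔭.primeCompl _).mp h0
  exact ⟨c.1, c.2, (Submonoid.smul_def c ξ).symm.trans hc⟩

end CoreAlg

section Core

variable {X Y : Scheme.{u}} (f : X ⟶ Y) [IsProper f] [IsLocallyNoetherian Y]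

theorem core' {V : Y.Opens} (hV : IsAffineOpen V) {y : Y} (hy : y ∈ V) (M : X.Modules)
    (hM : Coh.IsCoh M) (q : ℕ)
    (hsub : Subsingleton (Coh.HH (XL f y)
      ((Scheme.Modules.pullback (pullback.fst f (Y.fromSpecStalk y))).obj M) q))
    (ξ₁ : (PP (f ∣_ V) (M.restrict (f ⁻¹ᵁ V).ι) q).obj (op ⊤)) :
    ∃ D : (V : Scheme.{u}).Opens, (⟨y, hy⟩ : (V : Scheme.{u})) ∈ D ∧
      (PP (f ∣_ V) (M.restrict (f ⁻¹ᵁ V).ι) q).map (homOfLE (le_top : D ≤ ⊤)).op ξ₁ = 0 := by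
  haveI : IsProper (f ∣_ V) := IsZariskiLocalAtTarget.restrict (P := @IsProper) inferInstance V
  haveI : M.IsQuasicoherent := hM.1
  have hM₁ : Coh.IsCoh (M.restrict (f ⁻¹ᵁ V).ι) :=
    ⟨inferInstance, CohOpenH8.isFiniteType_restrict _ M hM.2⟩
  haveI : (M.restrict (f ⁻¹ᵁ V).ι).IsQuasicoherent := hM₁.1
  -- the structure over `Spec Γ(Y, V)`
  letI ov : ((f ⁻¹ᵁ V : X.Opens) : Scheme.{u}).Over (Spec (CommRingCat.of Γ(Y, V))) :=
    ⟨f ∣_ V ≫ hV.isoSpec.hom⟩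
  haveI : IsProper (((f ⁻¹ᵁ V : X.Opens) : Scheme.{u}) ↘ Spec (CommRingCat.of Γ(Y, V))) :=
    inferInstanceAs (IsProper (f ∣_ V ≫ hV.isoSpec.hom))
  haveI : CompactSpace ((f ⁻¹ᵁ V : X.Opens) : Scheme.{u}) :=
    QuasiCompact.compactSpace_of_compactSpace
      (((f ⁻¹ᵁ V : X.Opens) : Scheme.{u}) ↘ Spec (CommRingCat.of Γ(Y, V)))
  haveI : QuasiSeparatedSpace ((f ⁻¹ᵁ V : X.Opens) : Scheme.{u}) :=
    quasiSeparatedSpace_of_quasiSeparated
      (((f ⁻¹ᵁ V : X.Opens) : Scheme.{u}) ↘ Spec (CommRingCat.of Γ(Y, V)))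
  -- the algebra structure
  letI alg : Algebra Γ(Y, V) (Y.presheaf.stalk y) :=
    TopCat.Presheaf.algebra_section_stalk Y.presheaf (⟨y, hy⟩ : V)
  haveI hloc : IsLocalization.AtPrime (Y.presheaf.stalk y)
      (hV.primeIdealOf ⟨y, hy⟩).asIdeal := hV.isLocalization_stalk ⟨y, hy⟩
  -- the pullback squares
  have hR : IsPullback (f ⁻¹ᵁ V).ι (f ∣_ V ≫ hV.isoSpec.hom) f hV.fromSpec :=
    IsPullback.of_iso (isPullback_morphismRestrict f V).flip (Iso.refl _) (Iso.refl _)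
      hV.isoSpec (Iso.refl _) (by simp) (by simp) (by simp) (by simp)
  have hbot : Y.fromSpecStalk y = Spec.map (Y.presheaf.germ V y hy) ≫ hV.fromSpec :=
    (hV.fromSpecStalk_eq_fromSpecStalk hy).symm
  have hcond : pullback.fst f (Y.fromSpecStalk y) ≫ f =
      (pullback.snd f (Y.fromSpecStalk y) ≫ Spec.map (Y.presheaf.germ V y hy)) ≫
        hV.fromSpec := by
    rw [Category.assoc, ← hbot]
    exact pullback.condition
  obtain ⟨g', hg'⟩ : ∃ g' : XL f y ⟶ ((f ⁻¹ᵁ V : X.Opens) : Scheme.{u}),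
      g' = hR.lift _ _ hcond := ⟨_, rfl⟩
  have hg1 : g' ≫ (f ⁻¹ᵁ V).ι = pullback.fst f (Y.fromSpecStalk y) := by
    rw [hg']; exact hR.lift_fst _ _ hcond
  have hg2 : g' ≫ (f ∣_ V ≫ hV.isoSpec.hom) =
      pullback.snd f (Y.fromSpecStalk y) ≫ Spec.map (Y.presheaf.germ V y hy) := by
    rw [hg']; exact hR.lift_snd _ _ hcond
  have hBig : IsPullback (g' ≫ (f ⁻¹ᵁ V).ι) (pullback.snd f (Y.fromSpecStalk y)) f
      (Spec.map (Y.presheaf.germ V y hy) ≫ hV.fromSpec) := by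
    rw [hg1, ← hbot]
    exact IsPullback.of_hasPullback f (Y.fromSpecStalk y)
  have hL : IsPullback g' (pullback.snd f (Y.fromSpecStalk y)) (f ∣_ V ≫ hV.isoSpec.hom)
      (Spec.map (Y.presheaf.germ V y hy)) :=
    IsPullback.of_right hBig hg2 hR
  -- apply the algebraic core
  have hsub' : Subsingleton (Coh.HH (XL f y)
      ((Scheme.Modules.pullback g').obj (M.restrict (f ⁻¹ᵁ V).ι)) q) := by
    have e : (Scheme.Modules.pullback (pullback.fst f (Y.fromSpecStalk y))).obj M ≅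
        (Scheme.Modules.pullback g').obj (M.restrict (f ⁻¹ᵁ V).ι) :=
      ((Scheme.Modules.pullbackCongr hg1).app M).symm ≪≫
        ((Scheme.Modules.pullbackComp g' (f ⁻¹ᵁ V).ι).app M).symm ≪≫
        (Scheme.Modules.pullback g').mapIso
          ((Scheme.Modules.restrictFunctorIsoPullback (f ⁻¹ᵁ V).ι).app M).symm
    exact Groth.Agent.HHVan.subsingleton_of_iso e q hsub
  obtain ⟨b, hb𝔭, hb0⟩ := exists_smul_eq_zero' Γ(Y, V) (Y.presheaf.stalk y)
    (hV.primeIdealOf ⟨y, hy⟩).asIdeal ((f ⁻¹ᵁ V : X.Opens) : Scheme.{u}) (XL f y) g' hL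
    (M.restrict (f ⁻¹ᵁ V).ι) hM₁ q hsub'
    (Groth.Agent.Lib.Cech.extTopEquiv (Coh.toAb (M.restrict (f ⁻¹ᵁ V).ι)) q ξ₁)
  have h1 : Sheaf.H.map (Coh.smulAb (M.restrict (f ⁻¹ᵁ V).ι)
      (Coh.toGlobal (f ∣_ V ≫ hV.isoSpec.hom) b)) q
      (Groth.Agent.Lib.Cech.extTopEquiv (Coh.toAb (M.restrict (f ⁻¹ᵁ V).ι)) q ξ₁) = 0 := hb0
  obtain ⟨c, hc⟩ : ∃ c : Γ((V : Scheme.{u}), ⊤), c = (hV.isoSpec.hom.appTop).hom
      ((Scheme.ΓSpecIso (CommRingCat.of Γ(Y, V))).inv.hom b) := ⟨_, rfl⟩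
  have hg : Coh.toGlobal (f ∣_ V ≫ hV.isoSpec.hom) b = (f ∣_ V).appTop.hom c := by
    rw [hc]
    show ((f ∣_ V ≫ hV.isoSpec.hom).appTop).hom _ = _
    rw [Scheme.Hom.comp_appTop]
    rfl
  rw [hg, ← RpushQC.extTopEquiv_post] at h1
  have h2 : ExtPre.post (frX ((f ∣_ V) ⁻¹ᵁ (⊤ : (V : Scheme.{u}).Opens)))
      (sm (M.restrict (f ⁻¹ᵁ V).ι) ((f ∣_ V).appTop.hom c)) q ξ₁ = 0 :=
    (Groth.Agent.Lib.Cech.extTopEquiv (Coh.toAb (M.restrict (f ⁻¹ᵁ V).ι)) q).injective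
      (h1.trans (map_zero _).symm)
  refine ⟨(V : Scheme.{u}).basicOpen c, ?_, ?_⟩
  · have h3 : (V : Scheme.{u}).basicOpen c = hV.isoSpec.hom ⁻¹ᵁ
        (Spec (CommRingCat.of Γ(Y, V))).basicOpen
          ((Scheme.ΓSpecIso (CommRingCat.of Γ(Y, V))).inv.hom b) := by
      rw [hc]
      exact (Scheme.preimage_basicOpen_top _ _).symm
    rw [h3]
    show hV.isoSpec.hom ⟨y, hy⟩ ∈ (Spec (CommRingCat.of Γ(Y, V))).basicOpen
      ((Scheme.ΓSpecIso (CommRingCat.of Γ(Y, V))).inv.hom b)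
    rw [basicOpen_eq_of_affine (R := CommRingCat.of Γ(Y, V)) b]
    exact hb𝔭
  · have hbij := RpushAffine.bij_of_eq (M.restrict (f ⁻¹ᵁ V).ι) q ((f ∣_ V).appTop.hom c)
      ((f ∣_ V) ⁻¹ᵁ (V : Scheme.{u}).basicOpen c) (Scheme.preimage_basicOpen_top (f ∣_ V) c)
    have key : ExtPre.pre (freeSheafMap
        (Opens.grothendieckTopology ((f ⁻¹ᵁ V : X.Opens) : Scheme.{u}).toTopCat)
        ((Opens.map (f ∣_ V).base).map
          (homOfLE (le_top : (V : Scheme.{u}).basicOpen c ≤ ⊤)))) q ξ₁ = 0 := by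
      apply hbij.1
      exact ((ExtPre.pre_post _ _ q ξ₁).symm.trans
        ((congrArg (ExtPre.pre _ q) h2).trans (map_zero _))).trans (map_zero _).symm
    exact key

theorem local_vanish' (M : X.Modules) (hM : Coh.IsCoh M) (y : Y) (q : ℕ)
    (hsub : Subsingleton (Coh.HH (XL f y)
      ((Scheme.Modules.pullback (pullback.fst f (Y.fromSpecStalk y))).obj M) q)) (W : Y.Opens) (hyW : y ∈ W) (ξ : (PP f M q).obj (op W)) :
    ∃ (W' : Y.Opens) (hW' : W' ≤ W), y ∈ W' ∧ (PP f M q).map (homOfLE hW').op ξ = 0 := by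
  obtain ⟨V, hV, hyV, hVW⟩ : ∃ V : Y.Opens, IsAffineOpen V ∧ y ∈ V ∧ V ≤ W :=
    Opens.isBasis_iff_nbhd.mp Y.isBasis_affineOpens hyW
  have hT : V.ι ''ᵁ ⊤ = V := V.ι_image_top
  have hTW : V.ι ''ᵁ ⊤ ≤ W := hT.le.trans hVW
  obtain ⟨D, hyD, hD⟩ := core' f hV hyV M hM q hsub
    ((RestrNat.resPP f V M q).hom.app (op ⊤) ((PP f M q).map (homOfLE hTW).op ξ))
  have hW' : V.ι ''ᵁ D ≤ W :=
    (V.ι.opensFunctor.map (homOfLE (le_top : D ≤ ⊤))).le.trans hTW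
  refine ⟨V.ι ''ᵁ D, hW', ⟨⟨y, hyV⟩, hyD, rfl⟩, ?_⟩
  have hnat := (RestrNat.resPP f V M q).hom.naturality (homOfLE (le_top : D ≤ ⊤)).op
  have h1 : (RestrNat.resPP f V M q).hom.app (op D)
      ((V.ι.opensFunctor.op ⋙ PP f M q).map (homOfLE (le_top : D ≤ ⊤)).op
        ((PP f M q).map (homOfLE hTW).op ξ)) = 0 :=
    (congrArg (fun φ => (ConcreteCategory.hom φ) ((PP f M q).map (homOfLE hTW).op ξ))
      hnat).trans hD
  have h2 := eq_zero_of_iso_app (RestrNat.resPP f V M q) (op D) _ h1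
  have h3 : (PP f M q).map (homOfLE hW').op ξ =
      (PP f M q).map (V.ι.opensFunctor.map (homOfLE (le_top : D ≤ ⊤))).op
        ((PP f M q).map (homOfLE hTW).op ξ) := by
    have h4 : (homOfLE hW').op =
        (homOfLE hTW).op ≫ (V.ι.opensFunctor.map (homOfLE (le_top : D ≤ ⊤))).op :=
      Subsingleton.elim _ _
    rw [h4, (PP f M q).map_comp]
    rfl
  exact h3.trans h2

end Core

section Main

variable {X Y : Scheme.{u}} (f : X ⟶ Y) [IsProper f] [IsLocallyNoetherian Y]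

theorem stalk_isZero' (y : Y) (M : X.Modules) (hM : Coh.IsCoh M) (p : ℕ)
    (hsub : Subsingleton (Coh.HH (XL f y)
      ((Scheme.Modules.pullback (pullback.fst f (Y.fromSpecStalk y))).obj M) p)) :
    IsZero (TopCat.Presheaf.stalk ((Coh.RpushAb f p).obj (Coh.toAb M)).obj y) := by
  obtain ⟨e0⟩ := RpushSheafify.main f.base (Coh.toAb M) p
  obtain ⟨e1⟩ := Groth.Agent.Lib.StalkRpushH2.stalk_congr y e0
  obtain ⟨e2⟩ := Groth.Agent.Lib.StalkRpushH2.stalk_sheafify y (PP f M p)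
  refine IsZero.of_iso ?_ (e1 ≪≫ e2)
  haveI : Subsingleton (TopCat.Presheaf.stalk (C := AddCommGrpCat.{u}) (X := Y.toTopCat)
      (PP f M p) y) := by
    refine subsingleton_of_forall_eq 0 (fun t => ?_)
    obtain ⟨W, hyW, s, rfl⟩ := TopCat.Presheaf.exists_germ_eq (PP f M p) t
    obtain ⟨W', hW', hyW', h0⟩ := local_vanish' f M hM y p hsub W hyW s
    rw [← TopCat.Presheaf.germ_res_apply (PP f M p) (homOfLE hW') y hyW' s, h0, map_zero]
  exact AddCommGrpCat.isZero_of_subsingleton _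

end Main

end Groth.Agent.Lib.FibAmpH2
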