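import Mathlib
import Groth.Prelude
import Groth.Agent.Lib.FibAmp3_helper2
import Groth.Agent.Lib.FibAmp4_helper2

/-!
# Ampleness on a fibre kills the stalks of higher direct images (helper2)

`f : X ⟶ Y` proper, `Y` Noetherian, `L` invertible on `X` and ample on the fibre `X_y`,
`M` coherent: `(R^p f_*(M ⊗ L^d))_y = 0` for `d ≥ d₀`, `p > 0`.
APPEND-ONLY once landed.
-/

set_option autoImplicit false
universe u
open CategoryTheory CategoryTheory.Limits AlgebraicGeometry TopologicalSpace Opposite

namespace Groth.Agent.Lib.FibAmpH2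

open Groth.Agent.TensInv CohB1 Groth.Agent.Lib.FibDimH2

section PullTens

variable {X Y : Scheme.{u}} (f : X ⟶ Y)

/-- pullback commutes with tensoring with an invertible module (uniqueness of left adjoints +
projection formula) -/
theorem nonempty_pullback_tensor_iso (M : Y.Modules) {K : Y.Modules}
    (hK : PicF.IsInvertible K) :
    Nonempty ((Scheme.Modules.pullback f).obj (tensorMod M K) ≅
      tensorMod ((Scheme.Modules.pullback f).obj M) ((Scheme.Modules.pullback f).obj K)) := by
  obtain ⟨K', hK'inv, ⟨e⟩⟩ := Groth.Agent.InvTensP.exists_inverse K hK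
  have e' : tensorMod ((Scheme.Modules.pullback f).obj K)
      ((Scheme.Modules.pullback f).obj K') ≅ Coh.structureModule X :=
    (PullTensH9.pullTensIso f hK hK'inv).symm ≪≫ (Scheme.Modules.pullback f).mapIso e ≪≫
      PBH8.pullbackUnitIso f
  let EY := tensorRightEquiv Y.sheaf K K' e
  let EX := tensorRightEquiv X.sheaf ((Scheme.Modules.pullback f).obj K)
    ((Scheme.Modules.pullback f).obj K') e'
  let adj1 : tR K ⋙ Scheme.Modules.pullback f ⊣ Scheme.Modules.pushforward f ⋙ tR K' :=
    EY.toAdjunction.comp (Scheme.Modules.pullbackPushforwardAdjunction f)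
  let adj2 : Scheme.Modules.pullback f ⋙ tR ((Scheme.Modules.pullback f).obj K) ⊣
      tR ((Scheme.Modules.pullback f).obj K') ⋙ Scheme.Modules.pushforward f :=
    (Scheme.Modules.pullbackPushforwardAdjunction f).comp EX.toAdjunction
  have c1 : PFormH9.TL K' ≅ tR K' := commIso K'
  have c2 : PFormH9.TL ((Scheme.Modules.pullback f).obj K') ≅
      tR ((Scheme.Modules.pullback f).obj K') := commIso _
  have isoR : Scheme.Modules.pushforward f ⋙ tR K' ≅
      tR ((Scheme.Modules.pullback f).obj K') ⋙ Scheme.Modules.pushforward f :=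
    Functor.isoWhiskerLeft _ c1.symm ≪≫
      PFormH9.projIso f K' (TensH8.isFinLocFree_of_isInvertible hK'inv) ≪≫
      Functor.isoWhiskerRight c2 _
  exact ⟨(Adjunction.leftAdjointUniq (adj1.ofNatIsoRight isoR) adj2).app M⟩

/-- pullback commutes with `M ⊗ L^d` -/
theorem nonempty_pullback_tensorPow_iso (M : Y.Modules) {L : Y.Modules}
    (hL : PicF.IsInvertible L) (d : ℕ) :
    Nonempty (tensorMod ((Scheme.Modules.pullback f).obj M)
        (tensorPow ((Scheme.Modules.pullback f).obj L) d) ≅
      (Scheme.Modules.pullback f).obj (tensorMod M (tensorPow L d))) := by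
  obtain ⟨e1⟩ := nonempty_pullback_tensor_iso f M (TensH8.isInvertible_tensorPow hL d)
  obtain ⟨e2⟩ := Groth.Agent.Lib.AmpleFinH2.pullback_tensorPow f hL d
  exact ⟨mapL _ e2 ≪≫ e1.symm⟩

end PullTens

section Main

variable {X Y : Scheme.{u}} (f : X ⟶ Y) [IsProper f] [IsNoetherian Y]

/-- **S0062**. -/
theorem main0062 (L : X.Modules) (hL : PicF.IsInvertible L) (M : X.Modules) (hM : Coh.IsCoh M)
    (y : Y) (hy : CohB1.IsAmple ((Scheme.Modules.pullback (f.fiberι y)).obj L)) :
    ∃ d₀ : ℕ, ∀ d : ℕ, d₀ ≤ d → ∀ p : ℕ, 0 < p →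
      IsZero (TopCat.Presheaf.stalk
        ((Coh.RpushAb f p).obj (Coh.toAb (CohB1.tensorMod M (CohB1.tensorPow L d)))).obj y) := by
  -- the base change to the local ring
  let fst : XL f y ⟶ X := pullback.fst f (Y.fromSpecStalk y)
  have hL' : PicF.IsInvertible ((Scheme.Modules.pullback fst).obj L) :=
    TensH8.isInvertible_pullback fst hL
  have hM' : Coh.IsCoh ((Scheme.Modules.pullback fst).obj M) :=
    Groth.Agent.Lib.ConsModH2.isCoh_pullback fst M hM
  -- the closed fibre
  let r : Spec (Y.residueField y) ⟶ Spec (Y.presheaf.stalk y) := Spec.map (Y.residue y)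
  haveI : IsClosedImmersion r :=
    IsClosedImmersion.spec_of_surjective _ IsLocalRing.residue_surjective
  let ι' : pullback (pullback.snd f (Y.fromSpecStalk y)) r ⟶ XL f y := pullback.fst _ _
  haveI : IsClosedImmersion ι' := inferInstanceAs (IsClosedImmersion (pullback.fst _ r))
  let e : pullback (pullback.snd f (Y.fromSpecStalk y)) r ≅ f.fiber y :=
    pullbackLeftPullbackSndIso f (Y.fromSpecStalk y) r
  have he : e.hom ≫ f.fiberι y = ι' ≫ fst :=
    pullbackLeftPullbackSndIso_hom_fst f (Y.fromSpecStalk y) r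
  haveI : CompactSpace (XL f y) :=
    QuasiCompact.compactSpace_of_compactSpace (pullback.snd f (Y.fromSpecStalk y))
  haveI : CompactSpace ↥(pullback (pullback.snd f (Y.fromSpecStalk y)) r) :=
    QuasiCompact.compactSpace_of_compactSpace ι'
  have hamp' : CohB1.IsAmple ((Scheme.Modules.pullback ι').obj
      ((Scheme.Modules.pullback fst).obj L)) := by
    have h1 := TensH8.isAmple_pullback_of_isAffineHom e.hom hy
    refine (TensH8.isAmple_congr ?_).mp h1
    exact (Scheme.Modules.pullbackComp e.hom (f.fiberι y)).app L ≪≫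
      (Scheme.Modules.pullbackCongr he).app L ≪≫
      ((Scheme.Modules.pullbackComp ι' fst).app L).symm
  have hjac : RingHom.ker (Y.residue y).hom ≤ Ideal.jacobson ⊥ := by
    have h1 : RingHom.ker (Y.residue y).hom = IsLocalRing.maximalIdeal (Y.presheaf.stalk y) :=
      IsLocalRing.ker_residue
    rw [h1]
    exact IsLocalRing.maximalIdeal_le_jacobson ⊥
  obtain ⟨d₀, hd₀⟩ := core_local (Y.presheaf.stalk y) (Y.residueField y) (Y.residue y).hom
    (XL f y) IsLocalRing.residue_surjective hjac _ hM' hL' hamp'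
  refine ⟨d₀, fun d hd p hp => ?_⟩
  have hcoh : Coh.IsCoh (tensorMod M (tensorPow L d)) :=
    RelAmpleVanH9.isCoh_tensorMod hM
      (ProperFinH9.isCoh_of_isInvertible (TensH8.isInvertible_tensorPow hL d))
  obtain ⟨e3⟩ := nonempty_pullback_tensorPow_iso fst M hL d
  exact stalk_isZero' f y _ hcoh p
    (Groth.Agent.HHVan.subsingleton_of_iso e3 p (hd₀ d hd p hp))

end Main

end Groth.Agent.Lib.FibAmpH2
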