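import Mathlib

/-!
# Descent of trivializations of modules along a field extension: algebra (helper9)
APPEND-ONLY once landed.

Let `A` be a finite algebra over a field `k`, `k'/k` a field extension, `A' = k' ⊗ A`, `M` an
`A`-module such that `M' = k' ⊗ M` is free of rank one over `A'`.  Then `M` is free of rank one
over `A`; more precisely some element of `M` maps to a generator of `M'`
(`FieldDesc.exists_isUnit`).  (`A` is semilocal, `M` is finite flat of rank one by faithfully flat
descent, hence free.)
-/

set_option autoImplicit false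

open TensorProduct Module

namespace Groth.Agent.FieldDesc

section
variable {k k' A A' M M' : Type*} [Field k] [Field k'] [Algebra k k']
  [CommRing A] [CommRing A'] [Algebra k A] [Algebra k' A'] [Algebra A A'] [Algebra k A']
  [IsScalarTower k A A'] [IsScalarTower k k' A'] [Algebra.IsPushout k k' A A']
  [AddCommGroup M] [Module A M] [Module k M] [IsScalarTower k A M]
  [AddCommGroup M'] [Module A' M'] [Module A M'] [IsScalarTower A A' M']
  [Module k' M'] [IsScalarTower k' A' M'] [Module k M'] [IsScalarTower k k' M']
  [IsScalarTower k A M']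

/-- the comparison `A' ⊗[A] M → M'` is bijective when `M → M'` is a `k'`-base change and
`A' = k' ⊗ A` -/
theorem liftBaseChange_bijective (c : M →ₗ[A] M') (hc : IsBaseChange k' (c.restrictScalars k)) :
    Function.Bijective (LinearMap.liftBaseChange A' c) := by
  let E₁ := Algebra.IsPushout.cancelBaseChange k k' A A' M
  let E₂ := hc.equiv
  have key : ∀ w : k' ⊗[k] M, LinearMap.liftBaseChange A' c (E₁.symm w) = E₂ w := by
    intro w
    induction w with
    | zero => simp
    | add x y hx hy => rw [map_add, map_add, map_add, hx, hy]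
    | tmul s m =>
      rw [Algebra.IsPushout.cancelBaseChange_symm_tmul, LinearMap.liftBaseChange_tmul,
        algebraMap_smul, hc.equiv_tmul]
      rfl
  have h2 : ⇑(LinearMap.liftBaseChange A' c) = fun z => E₂ (E₁ z) := by
    funext z
    rw [← key (E₁ z), LinearEquiv.symm_apply_apply]
  rw [h2]
  exact E₂.bijective.comp E₁.bijective

end

/-- `A' = A ⊗ k'` is free over `A` -/
theorem free_of_isPushout (k k' A A' : Type*) [Field k] [Field k'] [Algebra k k']
    [CommRing A] [CommRing A'] [Algebra k A] [Algebra k' A'] [Algebra A A'] [Algebra k A']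
    [IsScalarTower k A A'] [IsScalarTower k k' A'] [Algebra.IsPushout k k' A A'] :
    Module.Free A A' := by
  haveI : Algebra.IsPushout k A k' A' := Algebra.IsPushout.symm inferInstance
  exact Module.Free.of_equiv (Algebra.IsPushout.equiv k A k' A').toLinearEquiv

/-- `A' = k' ⊗ A` is finite over `k'` when `A` is finite over `k` -/
theorem finite_of_isPushout (k k' A A' : Type*) [Field k] [Field k'] [Algebra k k']
    [CommRing A] [CommRing A'] [Algebra k A] [Algebra k' A'] [Algebra A A'] [Algebra k A']
    [IsScalarTower k A A'] [IsScalarTower k k' A'] [Algebra.IsPushout k k' A A']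
    [Module.Finite k A] : Module.Finite k' A' :=
  Module.Finite.equiv (Algebra.IsPushout.equiv k k' A A').toLinearEquiv

/-- a `k`-module whose base change to `k'` is finite is finite -/
theorem finite_of_isBaseChange {k k' M M' : Type*} [Field k] [Field k'] [Algebra k k']
    [AddCommGroup M] [Module k M] [AddCommGroup M'] [Module k' M'] [Module k M']
    [IsScalarTower k k' M'] (c : M →ₗ[k] M') (hc : IsBaseChange k' c) [Module.Finite k' M'] :
    Module.Finite k M := by
  let b := Basis.ofVectorSpace k M
  let b' : Basis _ k' M' := (b.baseChange k').map hc.equiv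
  haveI : Finite (Basis.ofVectorSpaceIndex k M) := Module.Finite.finite_basis b'
  exact Module.Finite.of_basis b

/-- the fibre rank over `A ⧸ P` agrees with the rank at the stalk, for a maximal ideal -/
theorem finrank_quotient_tensor_eq_rankAtStalk {A M : Type*} [CommRing A] [AddCommGroup M]
    [Module A M] [Module.Finite A M] [Module.Flat A M] (P : MaximalSpectrum A) :
    finrank (A ⧸ P.1) ((A ⧸ P.1) ⊗[A] M) = rankAtStalk M ⟨P.1, P.2.isPrime⟩ := by
  letI := Ideal.Quotient.field P.1
  haveI := P.2.isPrime
  rw [rankAtStalk_eq]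
  let e : P.1.ResidueField ⊗[A ⧸ P.1] ((A ⧸ P.1) ⊗[A] M) ≃ₗ[P.1.ResidueField]
      P.1.ResidueField ⊗[A] M :=
    AlgebraTensorModule.cancelBaseChange A (A ⧸ P.1) P.1.ResidueField P.1.ResidueField M
  show _ = finrank P.1.ResidueField (P.1.ResidueField ⊗[A] M)
  rw [← e.finrank_eq]
  exact (Module.finrank_baseChange (R := P.1.ResidueField) (S := A ⧸ P.1)
    (M' := (A ⧸ P.1) ⊗[A] M)).symm

section Main
variable {k k' A A' M M' : Type*} [Field k] [Field k'] [Algebra k k']
  [CommRing A] [CommRing A'] [Algebra k A] [Algebra k' A'] [Algebra A A'] [Algebra k A']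
  [IsScalarTower k A A'] [IsScalarTower k k' A'] [Algebra.IsPushout k k' A A']
  [Module.Finite k A]
  [AddCommGroup M] [Module A M] [Module k M] [IsScalarTower k A M]
  [AddCommGroup M'] [Module A' M'] [Module A M'] [IsScalarTower A A' M']
  [Module k' M'] [IsScalarTower k' A' M'] [Module k M'] [IsScalarTower k k' M']
  [IsScalarTower k A M']

/-- **descent of trivializations along a field extension**: let `A` be a finite `k`-algebra,
`A' = k' ⊗ A`, `M` an `A`-module with `k' ⊗ M = M'` free of rank one over `A'`.  Then some
element of `M` maps to a generator of `M'`. -/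
theorem exists_isUnit (c : M →ₗ[A] M') (hc : IsBaseChange k' (c.restrictScalars k))
    (e : M' ≃ₗ[A'] A') : ∃ s : M, IsUnit (e (c s)) := by
  rcases subsingleton_or_nontrivial A' with hA' | hA'
  · exact ⟨0, isUnit_of_subsingleton _⟩
  haveI : Module.Free A A' := free_of_isPushout k k' A A'
  haveI : Module.FaithfullyFlat A A' := inferInstance
  haveI : Module.Finite k' A' := finite_of_isPushout k k' A A'
  haveI : Module.Finite k' M' := Module.Finite.equiv (e.restrictScalars k').symm
  haveI : Module.Finite k M := finite_of_isBaseChange (c.restrictScalars k) hc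
  haveI : Module.Finite A M := Module.Finite.of_restrictScalars_finite k A M
  let ℓ : A' ⊗[A] M ≃ₗ[A'] M' :=
    LinearEquiv.ofBijective (LinearMap.liftBaseChange A' c) (liftBaseChange_bijective c hc)
  haveI : Module.Flat A' (A' ⊗[A] M) := Module.Flat.of_linearEquiv (ℓ.trans e)
  haveI : Module.Flat A M := Module.Flat.of_flat_tensorProduct A M A'
  haveI : IsArtinianRing A := IsArtinianRing.of_finite k A
  haveI : Finite (MaximalSpectrum A) := inferInstance
  have rk : ∀ P : MaximalSpectrum A, finrank (A ⧸ P.1) ((A ⧸ P.1) ⊗[A] M) = 1 := by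
    intro P
    rw [finrank_quotient_tensor_eq_rankAtStalk]
    obtain ⟨p', hp'⟩ := PrimeSpectrum.comap_surjective_of_faithfullyFlat (A := A) (B := A')
      ⟨P.1, P.2.isPrime⟩
    rw [← hp', ← rankAtStalk_baseChange (S := A') p', rankAtStalk_eq_of_equiv (ℓ.trans e),
      rankAtStalk_self]
    rfl
  obtain ⟨b⟩ := nonempty_basis_of_flat_of_finrank_eq A M 1 rk
  refine ⟨b 0, ?_⟩
  -- `c (b 0)` generates `M'`
  have hgen : ∀ m' : M', ∃ a' : A', a' • c (b 0) = m' := by
    intro m'
    obtain ⟨z, rfl⟩ := ℓ.surjective m'
    induction z with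
    | zero => exact ⟨0, by simp⟩
    | add x y hx hy =>
      obtain ⟨a, ha⟩ := hx
      obtain ⟨a₂, ha₂⟩ := hy
      exact ⟨a + a₂, by rw [add_smul, ha, ha₂, map_add]⟩
    | tmul a' m =>
      refine ⟨a' * algebraMap A A' (b.repr m 0), ?_⟩
      have hm : m = b.repr m 0 • b 0 := by
        conv_lhs => rw [← b.sum_repr m]
        simp
      show _ = LinearMap.liftBaseChange A' c (a' ⊗ₜ m)
      rw [LinearMap.liftBaseChange_tmul]
      conv_rhs => rw [hm, map_smul]
      rw [mul_smul, algebraMap_smul]
  obtain ⟨a', ha'⟩ := hgen (e.symm 1)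
  have h1 : a' * e (c (b 0)) = 1 := by
    have := congrArg e ha'
    rw [map_smul, LinearEquiv.apply_symm_apply, smul_eq_mul] at this
    exact this
  exact IsUnit.of_mul_eq_one_right _ h1

end Main

end Groth.Agent.FieldDesc
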