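import Mathlib
import Groth.Prelude
import Groth.Agent.Lib.InvInt1_helper9

/-!
# Invertible modules with sections on integral proper schemes (helper9)

If `L ⊗ M ≅ O` on an integral scheme whose ring of global functions is a field and both `L` and
`M` have nonzero global sections, then `L ≅ O`.
-/

set_option autoImplicit false
universe u
open AlgebraicGeometry CategoryTheory CategoryTheory.Limits TopologicalSpace Opposite
open QcqsLoc QCohExtn SerreCrit GenLocH8 TensH8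

namespace Groth.Agent.InvInt

open Groth.Agent.TensInv

variable {X : Scheme.{u}}

theorem hom_OO_ext {M : X.Modules} (t t' : OO X ⟶ M)
    (h : ap t ⊤ (ofFn (1 : Γ(X, ⊤))) = ap t' ⊤ (ofFn (1 : Γ(X, ⊤)))) : t = t' := by
  apply (SheafOfModules.unitHomEquiv _).injective
  apply Subtype.ext
  funext W
  rw [SheafOfModules.unitHomEquiv_apply_coe, SheafOfModules.unitHomEquiv_apply_coe]
  show ap t W.unop (ofFn 1) = ap t' W.unop (ofFn 1)
  rw [ap_hom_OO, ap_hom_OO t', h]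

/-- a nonzero endomorphism of `O_X` is an isomorphism when `Γ(X, O_X)` is a field. -/
theorem isIso_of_ne_zero (hF : IsField Γ(X, ⊤)) (u : OO X ⟶ OO X) (hu : u ≠ 0) : IsIso u := by
  set f : Γ(X, ⊤) := toFn (ap u ⊤ (ofFn (1 : Γ(X, ⊤)))) with hf
  have hf0 : f ≠ 0 := fun h0 => hu (hom_OO_eq_zero u h0)
  obtain ⟨g, hg⟩ := hF.mul_inv_cancel hf0
  let v : OO X ⟶ OO X := SerreFT.secHom (OO X) (ofFn g)
  have hv1 : ap v ⊤ (ofFn (1 : Γ(X, ⊤))) = ofFn g := SerreFT.secHom_one _ _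
  refine ⟨v, ?_, ?_⟩
  · apply hom_OO_ext
    rw [SerreCrit.ap_comp, ap_hom_OO v, hv1, SubExt.rF_self]
    show f * g = 1
    exact hg
  · apply hom_OO_ext
    rw [SerreCrit.ap_comp, hv1, ap_hom_OO u, SubExt.rF_self]
    show g * f = 1
    rw [mul_comm]; exact hg

/-- abstract form of the argument: if `(s ⊗ O) ≫ (L ⊗ t) = (O ⊗ t) ≫ (s ⊗ M)`, with `s ⊗ O ≠ 0`,
`L ⊗ t` mono, and every nonzero endomorphism of `O` invertible, then `s ⊗ M` is epi. -/
theorem epi_aux {𝒞 : Type*} [Category 𝒞] [Abelian 𝒞] {O OO' OM LO LM : 𝒞}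
    (ρ : OO' ≅ O) (sO : OO' ⟶ LO) (Lt : LO ⟶ LM) (Ot : OO' ⟶ OM) (sM : OM ⟶ LM) (e : LM ≅ O)
    (hnat : sO ≫ Lt = Ot ≫ sM) (h1 : sO ≠ 0) (hLt : Mono Lt)
    (hiso : ∀ u : O ⟶ O, u ≠ 0 → IsIso u) : Epi sM := by
  have h4 : Ot ≫ sM ≠ 0 := by
    intro h0
    apply h1
    rw [← cancel_mono Lt, hnat, h0, zero_comp]
  have hu : ρ.inv ≫ Ot ≫ sM ≫ e.hom ≠ 0 := by
    intro h0
    apply h4
    have h5 : Ot ≫ sM ≫ e.hom = 0 := by
      rw [← cancel_epi ρ.inv, comp_zero]
      exact h0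
    rw [← cancel_mono e.hom, Category.assoc, h5, zero_comp]
  haveI := hiso _ hu
  have h7 : IsIso ((ρ.inv ≫ Ot) ≫ (sM ≫ e.hom)) := by
    have : (ρ.inv ≫ Ot) ≫ (sM ≫ e.hom) = ρ.inv ≫ Ot ≫ sM ≫ e.hom := by simp
    rw [this]; infer_instance
  haveI : Epi (sM ≫ e.hom) := epi_of_epi (ρ.inv ≫ Ot) _
  have h8 : sM = (sM ≫ e.hom) ≫ e.inv := by simp
  rw [h8]
  infer_instance

variable [IsIntegral X]

/-- **Key lemma**: on an integral scheme with `Γ(X, O)` a field, if `L ⊗ M ≅ O` and both have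
nonzero sections then the section of `L` is an isomorphism. -/
theorem isIso_section (hF : IsField Γ(X, ⊤)) {L M : X.Modules} (hL : PicF.IsInvertible L)
    (hM : PicF.IsInvertible M) (e : CohB1.tensorMod L M ≅ Coh.structureModule X)
    (s : OO X ⟶ L) (hs : s ≠ 0) (t : OO X ⟶ M) (ht : t ≠ 0) : IsIso s := by
  haveI hsm : Mono s := mono_of_ne_zero hL s hs
  haveI htm : Mono t := mono_of_ne_zero hM t ht
  haveI := isEquivalence_tL (L := L) (L' := M) ⟨e⟩
  haveI := isEquivalence_tR (L := M) (L' := L) (swap ⟨e⟩)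
  -- `s ⊗ O ≠ 0`
  have h1 : ((tB X).map s).app (OO X) ≠ 0 := by
    intro h0
    have h2 : ((tB X).map s).app (OO X) ≫ (rhoIso X.sheaf L).hom =
        (rhoIso X.sheaf (OO X)).hom ≫ s := rhoIso_nat X.sheaf s
    rw [h0, zero_comp] at h2
    apply hs
    exact (cancel_epi (rhoIso X.sheaf (OO X)).hom).mp (h2.symm.trans comp_zero.symm)
  -- `L ⊗ t` is a monomorphism
  haveI h3 : Mono (((tB X).obj L).map t) := (tL L).map_mono t
  have h6 : Epi (((tB X).map s).app M) :=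
    epi_aux (rhoIso X.sheaf (OO X)) (((tB X).map s).app (OO X)) (((tB X).obj L).map t)
      (((tB X).obj (OO X)).map t) (((tB X).map s).app M) e
      (((tB X).map s).naturality t).symm h1 h3 (isIso_of_ne_zero hF)
  haveI : Epi ((tR M).map s) := h6
  haveI : Epi s := (tR M).epi_of_epi_map inferInstance
  exact isIso_of_mono_of_epi s

theorem nonempty_iso_of_sections (hF : IsField Γ(X, ⊤)) {L M : X.Modules}
    (hL : PicF.IsInvertible L) (hM : PicF.IsInvertible M)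
    (hLM : Nonempty (CohB1.tensorMod L M ≅ Coh.structureModule X))
    (s : OO X ⟶ L) (hs : s ≠ 0) (t : OO X ⟶ M) (ht : t ≠ 0) :
    Nonempty (L ≅ Coh.structureModule X) := by
  haveI := isIso_section hF hL hM hLM.some s hs t ht
  exact ⟨(asIso s).symm⟩

end Groth.Agent.InvInt
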