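import Mathlib
import Groth.Prelude
import Groth.Agent.Lib.FieldDesc1_helper9
import Groth.Agent.Lib.FlatBC2_helper2
import Groth.Agent.Lib.Desc3_helper8
import Groth.Agent.Lib.PB9_helper8
import Groth.Agent.Lib.InvInt2_helper9
import Groth.Agent.Lib.Tens12_helper8

/-!
# Descent of trivializations of invertible modules along a field extension (helper9)
APPEND-ONLY once landed.

For `X` quasi-compact quasi-separated over a field `k` with `H⁰(X, O_X)` finite over `k`, an
invertible module which becomes trivial after extension of the base field is trivial (S0232).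
-/

set_option autoImplicit false
universe u
open AlgebraicGeometry CategoryTheory CategoryTheory.Limits TopologicalSpace Opposite
open QcqsLoc QCohExtn SerreCrit

namespace Groth.Agent.FieldDesc

section Unit

variable {X Y : Scheme.{u}} (f : X ⟶ Y)

/-- the canonical map on sections of the structure sheaves, read through `pullbackUnitIso` -/
theorem pullbackUnitIso_cUV {U : X.Opens} {V : Y.Opens} (h : U ≤ f ⁻¹ᵁ V) (a : Γ(Y, V)) :
    toFn (ap (PBH8.pullbackUnitIso f).hom U (PBH8.cUV f (OO Y) h (ofFn a))) =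
      (f.appLE V U h).hom a := by
  unfold PBH8.cUV
  have h1 := QCohCrit.app_naturality (PBH8.pullbackUnitIso f).hom (homOfLE h)
    (((Scheme.Modules.pullbackPushforwardAdjunction f).unit.app (OO Y)).app V (ofFn a))
  refine (congrArg toFn h1).trans ?_
  have h2 : (Scheme.Modules.pullbackPushforwardAdjunction f).unit.app (OO Y) ≫
      (Scheme.Modules.pushforward f).map (PBH8.pullbackUnitIso f).hom =
      SheafOfModules.unitToPushforwardObjUnit f.toRingCatSheafHom :=
    ((Scheme.Modules.pullbackPushforwardAdjunction f).homEquiv_unit _ _ _).symm.trans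
      (SheafOfModules.pullbackPushforwardAdjunction_homEquiv_pullbackObjUnitToUnit
        f.toRingCatSheafHom)
  have h3 := congrArg (fun ψ => (Scheme.Modules.Hom.app ψ V) (ofFn a)) h2
  have h4 : (PBH8.pullbackUnitIso f).hom.app (f ⁻¹ᵁ V)
      (((Scheme.Modules.pullbackPushforwardAdjunction f).unit.app (OO Y)).app V (ofFn a)) =
      ofFn ((f.app V).hom a) := h3
  rw [h4]
  rfl

/-- an endomorphism of the structure sheaf given by a unit is an isomorphism -/
theorem isIso_of_isUnit (u : OO X ⟶ OO X)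
    (hu : IsUnit (toFn (ap u ⊤ (ofFn (1 : Γ(X, ⊤)))))) : IsIso u := by
  obtain ⟨w, hw⟩ := hu.exists_right_inv
  let v : OO X ⟶ OO X := SerreFT.secHom (OO X) (ofFn w)
  have hv1 : ap v ⊤ (ofFn (1 : Γ(X, ⊤))) = ofFn w := SerreFT.secHom_one _ _
  refine ⟨v, ?_, ?_⟩
  · apply Groth.Agent.InvInt.hom_OO_ext
    rw [SerreCrit.ap_comp, Groth.Agent.InvInt.ap_hom_OO v, hv1, SubExt.rF_self]
    exact hw
  · apply Groth.Agent.InvInt.hom_OO_ext
    rw [SerreCrit.ap_comp, hv1, Groth.Agent.InvInt.ap_hom_OO u, SubExt.rF_self]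
    show w * _ = 1
    rw [mul_comm]; exact hw

end Unit

section Main

open Groth.Agent.Lib.FlatBCH2 Groth.Agent.Lib.FormalFnH2

variable {k k' : Type u} [Field k] [Field k'] [Algebra k k']
  {X X' : Scheme.{u}} [X.Over (Spec (CommRingCat.of k))] [X'.Over (Spec (CommRingCat.of k'))]
  (g : X' ⟶ X)
  (hsq : IsPullback g (X' ↘ Spec (CommRingCat.of k')) (X ↘ Spec (CommRingCat.of k))
    (Spec.map (CommRingCat.ofHom (algebraMap k k'))))

include hsq in
theorem flat_and_surjective_of_sq : Flat g ∧ Surjective g := by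
  have h1 : Flat (Spec.map (CommRingCat.ofHom (algebraMap k k'))) ∧
      Surjective (Spec.map (CommRingCat.ofHom (algebraMap k k'))) := by
    rw [flat_and_surjective_SpecMap_iff]
    exact RingHom.faithfullyFlat_algebraMap_iff.mpr inferInstance
  exact ⟨MorphismProperty.of_isPullback (P := @Flat) hsq.flip h1.1,
    MorphismProperty.of_isPullback (P := @Surjective) hsq.flip h1.2⟩

/-- sections of an isomorphism of modules, as a linear equivalence over the functions -/
noncomputable def secEquiv {Z : Scheme.{u}} {M N : Z.Modules} (e : M ≅ N) (U : Z.Opens) :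
    Γ(M, U) ≃ₗ[Γ(Z, U)] Γ(N, U) where
  toFun := fun y => ap e.hom U y
  invFun := fun y => ap e.inv U y
  map_add' := fun x y => map_add (ap e.hom U) x y
  map_smul' := fun r m => ap_smul e.hom r m
  left_inv := fun y => PBH8.iso_hom_inv_app e U y
  right_inv := fun y => PBH8.iso_inv_hom_app e U y

include hsq in
/-- **descent of trivializations along a field extension**: if `H⁰(X, O_X)` is finite over `k`
and the pullback of the quasi-coherent module `L` to `X_{k'}` is trivial, then `L` is trivial. -/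
theorem exists_isIso_of_pullback_iso [CompactSpace X] [QuasiSeparatedSpace X]
    (hfin : Module.Finite k (Coh.HH X (OO X) 0))
    (L : X.Modules) [L.IsQuasicoherent] (α : (Scheme.Modules.pullback g).obj L ≅ OO X') :
    ∃ σ : OO X ⟶ L, IsIso σ := by
  -- rings
  letI aA : Algebra k Γ(X, ⊤) := (rUHom (A := k) (X := X) ⊤).toAlgebra
  letI aA' : Algebra k' Γ(X', ⊤) := (rUHom (A := k') (X := X') ⊤).toAlgebra
  letI aAA' : Algebra Γ(X, ⊤) Γ(X', ⊤) := (g.appLE ⊤ ⊤ (topLe g)).hom.toAlgebra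
  letI akA' : Algebra k Γ(X', ⊤) :=
    ((rUHom (A := k') (X := X') ⊤).comp (algebraMap k k')).toAlgebra
  haveI t1 : IsScalarTower k k' Γ(X', ⊤) := IsScalarTower.of_algebraMap_eq' rfl
  have hcomm : ∀ x : k, (g.appLE ⊤ ⊤ (topLe g)).hom (rUHom (A := k) (X := X) ⊤ x) =
      rUHom (A := k') (X := X') ⊤ (algebraMap k k' x) := fun x => appLE_rUHom g hsq ⊤ x
  haveI t2 : IsScalarTower k Γ(X, ⊤) Γ(X', ⊤) :=
    IsScalarTower.of_algebraMap_eq (fun x => (hcomm x).symm)
  -- finiteness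
  haveI hfinA : Module.Finite k Γ(X, ⊤) := by
    letI := secMod k (OO X) ⊤
    exact Module.Finite.equiv (h0Equiv k (OO X))
  -- modules
  set P := (Scheme.Modules.pullback g).obj L with hP
  haveI : P.IsQuasicoherent := PBH8.isQuasicoherent_pullback g L
  letI mkM : Module k Γ(L, ⊤) := secMod k L ⊤
  haveI : IsScalarTower k Γ(X, ⊤) Γ(L, ⊤) := IsScalarTower.of_algebraMap_smul fun _ _ => rfl
  letI mk'P : Module k' Γ(P, ⊤) := secMod k' P ⊤
  haveI : IsScalarTower k' Γ(X', ⊤) Γ(P, ⊤) := IsScalarTower.of_algebraMap_smul fun _ _ => rfl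
  letI mAP : Module Γ(X, ⊤) Γ(P, ⊤) := Module.compHom _ (g.appLE ⊤ ⊤ (topLe g)).hom
  haveI : IsScalarTower Γ(X, ⊤) Γ(X', ⊤) Γ(P, ⊤) :=
    IsScalarTower.of_algebraMap_smul fun _ _ => rfl
  letI mkP : Module k Γ(P, ⊤) := secModA k k' P ⊤
  haveI : IsScalarTower k k' Γ(P, ⊤) := secTower k k' P ⊤
  haveI : IsScalarTower k Γ(X, ⊤) Γ(P, ⊤) := IsScalarTower.of_algebraMap_smul (fun x m => by
    show (g.appLE ⊤ ⊤ (topLe g)).hom (rUHom (A := k) (X := X) ⊤ x) • m =
      rUHom (A := k') (X := X') ⊤ (algebraMap k k' x) • m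
    rw [hcomm])
  let c : Γ(L, ⊤) →ₗ[Γ(X, ⊤)] Γ(P, ⊤) :=
    { toFun := fun x => PBH8.cUV g L (topLe g) x
      map_add' := fun x y => PBH8.cUV_add g L _ x y
      map_smul' := fun a x => PBH8.cUV_smul g L (topLe g) a x }
  have hc : IsBaseChange k' (c.restrictScalars k) :=
    isBaseChange_cTop hsq L (c.restrictScalars k) (fun m => rfl)
  -- the ring of functions of `X'` is the base change of that of `X`
  set PO := (Scheme.Modules.pullback g).obj (OO X) with hPO
  letI mkO : Module k Γ(OO X, ⊤) := secMod k (OO X) ⊤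
  letI mk'PO : Module k' Γ(PO, ⊤) := secMod k' PO ⊤
  letI mkPO : Module k Γ(PO, ⊤) := secModA k k' PO ⊤
  haveI : IsScalarTower k k' Γ(PO, ⊤) := secTower k k' PO ⊤
  let cO : Γ(OO X, ⊤) →ₗ[k] Γ(PO, ⊤) :=
    { toFun := fun x => PBH8.cUV g (OO X) (topLe g) x
      map_add' := fun x y => PBH8.cUV_add g (OO X) _ x y
      map_smul' := fun a x => by
        show PBH8.cUV g (OO X) (topLe g) (rUHom (A := k) (X := X) ⊤ a • x) =
          rUHom (A := k') (X := X') ⊤ (algebraMap k k' a) • PBH8.cUV g (OO X) (topLe g) x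
        rw [PBH8.cUV_smul]
        congr 1
        exact appLE_rUHom g hsq ⊤ a }
  have hcO : IsBaseChange k' cO := isBaseChange_cTop hsq (OO X) cO (fun m => rfl)
  let ψ : Γ(PO, ⊤) ≃ₗ[k'] Γ(X', ⊤) :=
    { toFun := fun y => toFn (ap (PBH8.pullbackUnitIso g).hom ⊤ y)
      invFun := fun a => ap (PBH8.pullbackUnitIso g).inv ⊤ (ofFn a)
      map_add' := fun x y => map_add (ap (PBH8.pullbackUnitIso g).hom ⊤) x y
      map_smul' := fun r m => ap_smul (PBH8.pullbackUnitIso g).hom
        (rUHom (A := k') (X := X') ⊤ r) m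
      left_inv := fun y => PBH8.iso_hom_inv_app (PBH8.pullbackUnitIso g) ⊤ y
      right_inv := fun y => PBH8.iso_inv_hom_app (PBH8.pullbackUnitIso g) ⊤ y }
  haveI hpo : Algebra.IsPushout k k' Γ(X, ⊤) Γ(X', ⊤) :=
    ⟨IsBaseChange.of_equiv (hcO.equiv ≪≫ₗ ψ) (fun a => by
      have h1 : hcO.equiv ((1 : k') ⊗ₜ[k] (ofFn a : Γ(OO X, ⊤))) = cO (ofFn a) :=
        (hcO.equiv_tmul 1 (ofFn a)).trans (one_smul _ _)
      exact (congrArg ψ h1).trans (pullbackUnitIso_cUV g (topLe g) a))⟩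
  -- the trivialization
  let e : Γ(P, ⊤) ≃ₗ[Γ(X', ⊤)] Γ(X', ⊤) := secEquiv α ⊤
  obtain ⟨s, hs⟩ := exists_isUnit (k := k) (k' := k') c hc e
  refine ⟨SerreFT.secHom L s, ?_⟩
  obtain ⟨hfl, hsu⟩ := flat_and_surjective_of_sq g hsq
  have hR : DescH8.IsFlatCover (Presieve.singleton g) :=
    ⟨fun Z g' hg' => by cases hg'; exact hfl, fun y => by
      obtain ⟨x, hx⟩ := hsu.surj y
      exact ⟨X', g, Presieve.singleton_self g, x, hx⟩⟩
  refine DescH8.isIso_of_flatCover _ hR (fun Z g' hg' => ?_)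
  cases hg'
  -- the pulled back section is an isomorphism
  let τ : OO X' ⟶ OO X' := (PBH8.pullbackUnitIso g).inv ≫
    (Scheme.Modules.pullback g).map (SerreFT.secHom L s) ≫ α.hom
  have h1 : ap (PBH8.pullbackUnitIso g).hom ⊤
      (PBH8.cUV g (OO X) (topLe g) (ofFn (1 : Γ(X, ⊤)))) = ofFn (1 : Γ(X', ⊤)) := by
    have := pullbackUnitIso_cUV g (topLe g) (1 : Γ(X, ⊤))
    rw [map_one] at this
    exact this
  have h2 : ap (PBH8.pullbackUnitIso g).inv ⊤ (ofFn (1 : Γ(X', ⊤))) =
      PBH8.cUV g (OO X) (topLe g) (ofFn (1 : Γ(X, ⊤))) := by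
    rw [← h1]
    exact PBH8.iso_hom_inv_app (PBH8.pullbackUnitIso g) ⊤ _
  have hτ : toFn (ap τ ⊤ (ofFn (1 : Γ(X', ⊤)))) = e (c s) := by
    show toFn (ap α.hom ⊤ (ap ((Scheme.Modules.pullback g).map (SerreFT.secHom L s)) ⊤
      (ap (PBH8.pullbackUnitIso g).inv ⊤ (ofFn (1 : Γ(X', ⊤)))))) = _
    rw [h2]
    have h3 : ap ((Scheme.Modules.pullback g).map (SerreFT.secHom L s)) ⊤
        (PBH8.cUV g (OO X) (topLe g) (ofFn (1 : Γ(X, ⊤)))) =
        PBH8.cUV g L (topLe g) (ap (SerreFT.secHom L s) ⊤ (ofFn (1 : Γ(X, ⊤)))) :=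
      PBH8.cUV_naturality g (SerreFT.secHom L s) (topLe g) _
    rw [h3, SerreFT.secHom_one]
    rfl
  haveI : IsIso τ := isIso_of_isUnit τ (hτ ▸ hs)
  have hστ : (Scheme.Modules.pullback g).map (SerreFT.secHom L s) =
      (PBH8.pullbackUnitIso g).hom ≫ τ ≫ α.inv := by
    simp [τ]
  rw [hστ]
  infer_instance

end Main

theorem iso_of_cl_eq {X : Scheme.{u}} {F G : X.Modules} (h : PicF.cl F = PicF.cl G) :
    Nonempty (F ≅ G) := by
  have h1 := Quot.eqvGen_exact h
  clear h
  induction h1 with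
  | rel _ _ h => exact h
  | refl _ => exact ⟨Iso.refl _⟩
  | symm _ _ _ ih => exact ⟨ih.some.symm⟩
  | trans _ _ _ _ _ ih1 ih2 => exact ⟨ih1.some ≪≫ ih2.some⟩

/-- **statement of S0232**: injectivity of `Pic(X) → Pic(X_{k'})` on classes -/
theorem isTrivialCl_of_pullCl (k : Type u) [Field k] (X : Scheme.{u})
    [X.Over (Spec (CommRingCat.of k))] [CompactSpace X] [QuasiSeparatedSpace X]
    (hfin : Module.Finite k (Coh.HH X (Coh.structureModule X) 0))
    (k' : Type u) [Field k'] [Algebra k k'] (X' : Scheme.{u}) (g : X' ⟶ X)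
    (q : X' ⟶ Spec (CommRingCat.of k'))
    (hpb : IsPullback g q (X ↘ Spec (CommRingCat.of k))
      (Spec.map (CommRingCat.ofHom (algebraMap k k'))))
    (L : X.Modules) (hL : PicF.IsInvertible L)
    (htriv : PicF.IsTrivialCl (PicF.pullCl g (PicF.cl L))) :
    PicF.IsTrivialCl (PicF.cl L) := by
  letI : X'.Over (Spec (CommRingCat.of k')) := ⟨q⟩
  haveI : L.IsQuasicoherent := TensH8.isQuasicoherent_of_isInvertible hL
  have h1 : PicF.cl ((Scheme.Modules.pullback g).obj L) = PicF.cl (Coh.structureModule X') :=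
    htriv
  obtain ⟨α⟩ := iso_of_cl_eq h1
  have hpb' : IsPullback g (X' ↘ Spec (CommRingCat.of k')) (X ↘ Spec (CommRingCat.of k))
      (Spec.map (CommRingCat.ofHom (algebraMap k k'))) := hpb
  obtain ⟨σ, hσ⟩ := exists_isIso_of_pullback_iso (k := k) (k' := k') g hpb' hfin L α
  exact (Quot.sound ⟨(asIso σ).symm⟩ : PicF.cl L = PicF.cl (Coh.structureModule X))

end Groth.Agent.FieldDesc
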