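import Groth.Agent.Lib.PB8_helper8

/-!
# The canonical maps `Γ(F, V) → Γ(f^* F, U)` and composition of pullbacks (helper8)
APPEND-ONLY once landed.
-/

set_option autoImplicit false
open CategoryTheory AlgebraicGeometry Opposite TopologicalSpace
open AlgebraicGeometry.Scheme.Modules
universe u
namespace PBH8

section
variable {X Y : Scheme.{u}} (f : X ⟶ Y) (F : Y.Modules)

/-- restricting on the target first -/
lemma cUV_res_target {U : X.Opens} {V V' : Y.Opens} (hV : V' ≤ V) (h : U ≤ f ⁻¹ᵁ V')
    (x : Γ(F, V)) :
    cUV f F h (F.presheaf.map (homOfLE hV).op x) =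
      cUV f F (h.trans (f.preimage_mono hV)) x := by
  unfold cUV
  have h1 : ((pullbackPushforwardAdjunction f).unit.app F).app V'
        (F.presheaf.map (homOfLE hV).op x) =
      ((Scheme.Modules.pullback f).obj F).presheaf.map (homOfLE (f.preimage_mono hV)).op
        (((pullbackPushforwardAdjunction f).unit.app F).app V x) :=
    QCohCrit.app_naturality ((pullbackPushforwardAdjunction f).unit.app F) (homOfLE hV) x
  rw [h1]
  have h2 := congrArg (fun ψ => ψ (((pullbackPushforwardAdjunction f).unit.app F).app V x))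
    (((Scheme.Modules.pullback f).obj F).presheaf.map_comp
      (homOfLE (f.preimage_mono hV)).op (homOfLE h).op)
  exact h2.symm

/-- transport along an equality of morphisms -/
lemma cUV_congr {f f' : X ⟶ Y} (e : f = f') {U : X.Opens} {V : Y.Opens} (h : U ≤ f ⁻¹ᵁ V)
    (x : Γ(F, V)) :
    (eqToHom (congrArg (fun k => (Scheme.Modules.pullback k).obj F) e)).app U (cUV f F h x) =
      cUV f' F (e ▸ h) x := by
  subst e
  simp

end

section
variable {X Y Z : Scheme.{u}} (f : X ⟶ Y) (g : Y ⟶ Z) (F : Z.Modules)

lemma unit_pullbackComp :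
    (pullbackPushforwardAdjunction g).unit.app F ≫
      (Scheme.Modules.pushforward g).map
        ((pullbackPushforwardAdjunction f).unit.app ((Scheme.Modules.pullback g).obj F)) ≫
      (pushforwardComp f g).hom.app _ =
    (pullbackPushforwardAdjunction (f ≫ g)).unit.app F ≫
      (Scheme.Modules.pushforward (f ≫ g)).map ((pullbackComp f g).inv.app F) := by
  have := unit_conjugateEquiv
    ((pullbackPushforwardAdjunction g).comp (pullbackPushforwardAdjunction f))
    (pullbackPushforwardAdjunction (f ≫ g)) (pullbackComp f g).inv F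
  rw [conjugateEquiv_pullbackComp_inv] at this
  rw [← this, Adjunction.comp_unit_app]
  simp

lemma unit_pullbackComp_app (W : Z.Opens) (x : Γ(F, W)) :
    ((pullbackPushforwardAdjunction f).unit.app ((Scheme.Modules.pullback g).obj F)).app (g ⁻¹ᵁ W)
      (((pullbackPushforwardAdjunction g).unit.app F).app W x) =
    ((pullbackComp f g).inv.app F).app ((f ≫ g) ⁻¹ᵁ W)
      (((pullbackPushforwardAdjunction (f ≫ g)).unit.app F).app W x) := by
  have h := congrArg (fun φ => (Scheme.Modules.Hom.app φ W) x) (unit_pullbackComp f g F)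
  simp only [Scheme.Modules.Hom.comp_app] at h
  simp at h
  exact h

/-- **compatibility of the canonical maps with composition** -/
theorem cUV_comp {U : X.Opens} {V : Y.Opens} {W : Z.Opens} (hUV : U ≤ f ⁻¹ᵁ V)
    (hVW : V ≤ g ⁻¹ᵁ W) (hUW : U ≤ (f ≫ g) ⁻¹ᵁ W) (x : Γ(F, W)) :
    ((pullbackComp f g).hom.app F).app U
      (cUV f ((Scheme.Modules.pullback g).obj F) hUV (cUV g F hVW x)) = cUV (f ≫ g) F hUW x := by
  have h1 : cUV f ((Scheme.Modules.pullback g).obj F) hUV (cUV g F hVW x) =
      cUV f ((Scheme.Modules.pullback g).obj F) (hUV.trans (f.preimage_mono hVW))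
        (((pullbackPushforwardAdjunction g).unit.app F).app W x) :=
    cUV_res_target f ((Scheme.Modules.pullback g).obj F) hVW hUV _
  rw [h1]
  have h2 : cUV f ((Scheme.Modules.pullback g).obj F) (hUV.trans (f.preimage_mono hVW))
        (((pullbackPushforwardAdjunction g).unit.app F).app W x) =
      ((pullbackComp f g).inv.app F).app U (cUV (f ≫ g) F hUW x) := by
    unfold cUV
    rw [unit_pullbackComp_app]
    exact (QCohCrit.app_naturality ((pullbackComp f g).inv.app F) (homOfLE hUW) _).symm
  rw [h2]
  exact iso_inv_hom_app ((pullbackComp f g).app F) U _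

end
end PBH8
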