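import Mathlib
import Groth.Prelude
import Groth.Agent.Lib.H0Kappa_helper2
import Groth.Agent.Lib.CurvStRank_helper2
import Groth.Agent.Lib.PB11_helper8
import Groth.Agent.Lib.SDivGen_helper8
import Groth.Agent.Lib.SerreCrit1_helper9
import Groth.Agent.Lib.QCohCrit2_helper9

/-!
# Direct images generated by one global section (helper2)

For `f : X ⟶ S` proper of finite presentation and `F` of finite presentation, flat over `S`, with
a global section `τ` which freely generates `H^0` of every fibre: `O_S ⟶ f_* F`, `1 ↦ τ`, is an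
isomorphism.
APPEND-ONLY once landed.
-/

set_option autoImplicit false
set_option backward.isDefEq.respectTransparency false
set_option backward.isDefEq.respectTransparency.types false
set_option linter.style.haveILetI false
set_option linter.unusedSectionVars false
universe u

open CategoryTheory CategoryTheory.Limits AlgebraicGeometry TopologicalSpace Opposite

namespace Groth.Agent.Lib.CBCH2

section Geo

variable {X S : Scheme.{u}} (f : X ⟶ S) (F : X.Modules)

/-- a global section of `F`, as a section of `f_* F` over `T` -/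
noncomputable def pushSec (τ : Γ(F, ⊤)) (T : S.Opens) :
    Γ((Scheme.Modules.pushforward f).obj F, T) :=
  (F.presheaf.map (homOfLE (le_top : f ⁻¹ᵁ T ≤ ⊤)).op τ : Γ(F, f ⁻¹ᵁ T))

theorem le_preimage_top' {A B : Scheme.{u}} (g : A ⟶ B) (U : A.Opens) : U ≤ g ⁻¹ᵁ ⊤ :=
  fun _ _ => trivial

/-- the restriction of a global section of `F` to the fibre at `s` -/
noncomputable def fibSec (τ : Γ(F, ⊤)) (s : S) :
    Γ((Scheme.Modules.pullback (f.fiberι s)).obj F, (f.fiberToSpecResidueField s) ⁻¹ᵁ ⊤) :=
  PBH8.cUV (f.fiberι s) F (le_preimage_top' (f.fiberι s) _) τ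

/-- the section `τ` freely generates the global sections of the restriction of `F` to the fibre
at `s` over the residue field -/
def SecSpansAt (τ : Γ(F, ⊤)) (s : S) : Prop :=
  Function.Bijective (fun c : Γ(Spec (S.residueField s), ⊤) =>
    ((f.fiberToSpecResidueField s).app ⊤).hom c • fibSec f F τ s)

variable (s : S)

/-- the degree-zero base change map on multiples of the canonical section -/
theorem bc0_smul_pushSec (τ : Γ(F, ⊤)) (T : S.Opens)
    (hT'T : (⊤ : (Spec (S.residueField s)).Opens) ≤ (S.fromSpecResidueField s) ⁻¹ᵁ T)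
    (b : Γ(Spec (S.residueField s), ⊤)) :
    (CohBC.bc0 f (S.fromSpecResidueField s) (f.fiberToSpecResidueField s) (f.fiberι s)
        (f.fiber_fac s) F).app ⊤
        (b • PBH8.cUV (S.fromSpecResidueField s)
          ((Scheme.Modules.pushforward f).obj F) hT'T (pushSec f F τ T)) =
      ((f.fiberToSpecResidueField s).app ⊤).hom b • fibSec f F τ s := by
  rw [Scheme.Modules.Hom.app_smul, bc0_cUV]
  have e1 : (f.fiberToSpecResidueField s) ⁻¹ᵁ ⊤ ≤ (f.fiberι s) ⁻¹ᵁ (f ⁻¹ᵁ T) :=
    ((f.fiberToSpecResidueField s).preimage_mono hT'T).trans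
      (CohCmp.sqLE f (S.fromSpecResidueField s) (f.fiberToSpecResidueField s) (f.fiberι s)
        (f.fiber_fac s) T)
  have h1 : PBH8.cUV (f.fiberι s) F e1 (pushSec f F τ T) = fibSec f F τ s :=
    PBH8.cUV_res_target (f.fiberι s) F (le_top : f ⁻¹ᵁ T ≤ ⊤) e1 τ
  show ((f.fiberToSpecResidueField s).app ⊤).hom b •
      (PBH8.cUV (f.fiberι s) F e1 (pushSec f F τ T) :
        Γ((Scheme.Modules.pullback (f.fiberι s)).obj F,
          (f.fiberToSpecResidueField s) ⁻¹ᵁ ⊤)) = _
  rw [h1]

/-- if a global section generates the global sections of the fibre, the degree-zero base change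
map at `s` is an epimorphism -/
theorem epi_bc0_of_section [QuasiCompact f] [QuasiSeparated f] [F.IsQuasicoherent]
    (τ : Γ(F, ⊤))
    (hsurj : Function.Surjective (fun c : Γ(Spec (S.residueField s), ⊤) =>
      ((f.fiberToSpecResidueField s).app ⊤).hom c • fibSec f F τ s)) :
    Epi (CohBC.bc0 f (S.fromSpecResidueField s) (f.fiberToSpecResidueField s) (f.fiberι s)
      (f.fiber_fac s) F) := by
  have hX : IsPullback (f.fiberι s) (f.fiberToSpecResidueField s) f
      (S.fromSpecResidueField s) := IsPullback.of_hasPullback f (S.fromSpecResidueField s)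
  haveI : QuasiSeparated (f.fiberToSpecResidueField s) :=
    MorphismProperty.of_isPullback (P := @QuasiSeparated) hX inferInstance
  haveI : QuasiCompact (f.fiberToSpecResidueField s) :=
    MorphismProperty.of_isPullback (P := @QuasiCompact) hX inferInstance
  haveI : ((Scheme.Modules.pullback (f.fiberι s)).obj F).IsQuasicoherent :=
    PBH8.isQuasicoherent_pullback _ F
  haveI : ((Scheme.Modules.pushforward (f.fiberToSpecResidueField s)).obj
      ((Scheme.Modules.pullback (f.fiberι s)).obj F)).IsQuasicoherent :=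
    QcqsLoc.isQuasicoherent_pushforward_qcqs (f.fiberToSpecResidueField s) _
  refine Groth.Agent.Lib.LimMod.epi_of_affine_cover _
    (fun x => ⟨⊤, isAffineOpen_top _, trivial, fun z => ?_⟩)
  have hW : (⊤ : (Spec (S.residueField s)).Opens) ≤ (S.fromSpecResidueField s) ⁻¹ᵁ ⊤ := le_top
  obtain ⟨b, hb⟩ := hsurj z
  refine ⟨b • PBH8.cUV (S.fromSpecResidueField s)
    ((Scheme.Modules.pushforward f).obj F) hW (pushSec f F τ ⊤), ?_⟩
  rw [bc0_smul_pushSec]
  exact hb

end Geo

section Main

variable {X S : Scheme.{u}} (f : X ⟶ S)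

set_option maxHeartbeats 1600000 in
/-- over an affine open `T` of the base the sections of `f_* F` are freely generated by `τ` -/
theorem app_bijective_of_section [IsProper f] [LocallyOfFinitePresentation f]
    (F : X.Modules) [Coh.IsQCoh F] (hfp : CohB1.IsFP F) (hfl : FlatMod.IsFlatOver f F)
    (τ : Γ(F, ⊤)) (h : ∀ s : S, SecSpansAt f F τ s) (T : S.Opens)
    (hT : IsAffineOpen T) :
    Function.Bijective (fun a : Γ(S, T) => a • pushSec f F τ T) := by
  haveI hq : F.IsQuasicoherent := ‹Coh.IsQCoh F›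
  haveI hqM : ((Scheme.Modules.pushforward f).obj F).IsQuasicoherent :=
    QcqsLoc.isQuasicoherent_pushforward_qcqs f _
  have hepi : ∀ s, Epi (CohBC.bc0 f (S.fromSpecResidueField s) (f.fiberToSpecResidueField s)
      (f.fiberι s) (f.fiber_fac s) F) :=
    fun s => epi_bc0_of_section f F s τ (h s).2
  have hiso : ∀ s, IsIso (CohBC.bc0 f (S.fromSpecResidueField s) (f.fiberToSpecResidueField s)
      (f.fiberι s) (f.fiber_fac s) F) := fun s => by
    obtain ⟨U, hsU, -, hU⟩ := Groth.Agent.S19466.result f _ hfp hfl s (hepi s)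
    exact hU _ _ _ _ _ (IsPullback.of_hasPullback f (S.fromSpecResidueField s)) (by
      rintro _ ⟨z, rfl⟩
      have hz : (S.fromSpecResidueField s) z = s := Scheme.fromSpecResidueField_apply s z
      show (S.fromSpecResidueField s) z ∈ U
      rw [hz]
      exact hsU)
  -- the chart: the sections are finite projective
  obtain ⟨P, hP, -, hpos, -, hB, -, ⟨e⟩, -⟩ := chartFacts0 f F hfp hfl T hT
  have e0 : (1 : ℤ) - 1 = -((0 : ℕ) : ℤ) := by simp
  have hx0 : ∀ x : PrimeSpectrum Γ(S, T),
      x ∈ Module.freeLocus Γ(S, T) (P.opcycles (-((0 : ℕ) : ℤ))) := by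
    intro x
    obtain ⟨v, hv, hker⟩ := exists_ker_evalRes T hT x
    letI := algRes T v hv
    have hsub : Subsingleton ((CohIII.TFun P 1).obj
        (ModuleCat.of Γ(S, T) (S.residueField v))) :=
      ModuleCat.subsingleton_of_isZero (hpos 1 one_pos _)
    have := (Groth.Agent.Lib.PBCH2.mem_freeLocus_of_subsingleton_T P hP 1 (S.residueField v)
      hsub x hker).2
    rwa [e0] at this
  have hx1 : ∀ x : PrimeSpectrum Γ(S, T),
      x ∈ Module.freeLocus Γ(S, T) (P.opcycles (-((0 : ℕ) : ℤ) - 1)) := by
    intro x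
    obtain ⟨v, hv, hker⟩ := exists_ker_evalRes T hT x
    letI := algRes T v hv
    exact Groth.Agent.Lib.PBCH2.mem_freeLocus_of_betaT_surjective' P hP (-((0 : ℕ) : ℤ))
      (S.residueField v) (hB v hv (hepi v)) x hker
  obtain ⟨hfin, hproj⟩ := Groth.Agent.Lib.PBCH2.finite_projective_homology_of_freeLocus P hP
    (-((0 : ℕ) : ℤ)) hx0 hx1
  haveI := hfin
  haveI := hproj
  haveI : Module.Finite Γ(S, T)
      Γ((Scheme.Modules.pushforward f).obj F, T) := Module.Finite.equiv e
  haveI : Module.Projective Γ(S, T)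
      Γ((Scheme.Modules.pushforward f).obj F, T) :=
    Module.Projective.of_equiv e
  refine bijective_smul_of_baseChange (A := Γ(S, T))
    Γ((Scheme.Modules.pushforward f).obj F, T) (pushSec f F τ T) (fun y => ?_)
  obtain ⟨s, hs, hker⟩ := exists_ker_evalRes T hT y
  have hT' : IsAffineOpen (⊤ : (Spec (S.residueField s)).Opens) := isAffineOpen_top _
  have hT'T : (⊤ : (Spec (S.residueField s)).Opens) ≤ (S.fromSpecResidueField s) ⁻¹ᵁ T := by
    intro z _
    show (S.fromSpecResidueField s) z ∈ T
    rw [Scheme.fromSpecResidueField_apply]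
    exact hs
  letI alg : Algebra Γ(S, T) Γ(Spec (S.residueField s), ⊤) :=
    ((S.fromSpecResidueField s).appLE T ⊤ hT'T).hom.toAlgebra
  let eR : Γ(Spec (S.residueField s), ⊤) ≃+* S.residueField s :=
    (Scheme.ΓSpecIso (S.residueField s)).commRingCatIsoToRingEquiv
  have hcomp : ∀ a : Γ(S, T), eR (((S.fromSpecResidueField s).appLE T ⊤ hT'T).hom a) =
      evalRes T s hs a := fun a =>
    congrArg (fun φ => φ.hom a) (appLE_fromSpecResidueField T hT s hs hT'T)
  have hfield : IsField Γ(Spec (S.residueField s), ⊤) :=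
    eR.toMulEquiv.isField (Field.toIsField _)
  have hker' : RingHom.ker (algebraMap Γ(S, T) Γ(Spec (S.residueField s), ⊤)) =
      y.asIdeal := by
    rw [← hker]
    ext a
    rw [RingHom.mem_ker, RingHom.mem_ker, ← hcomp a]
    show ((S.fromSpecResidueField s).appLE T ⊤ hT'T).hom a = 0 ↔ _
    constructor
    · intro h0
      rw [h0, map_zero]
    · intro h0
      exact eR.injective (by rw [h0, map_zero])
  letI mN : Module Γ(S, T) Γ((Scheme.Modules.pullback (S.fromSpecResidueField s)).obj
      ((Scheme.Modules.pushforward f).obj F), ⊤) :=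
    Module.compHom _ ((S.fromSpecResidueField s).appLE T ⊤ hT'T).hom
  haveI tow : IsScalarTower Γ(S, T) Γ(Spec (S.residueField s), ⊤)
      Γ((Scheme.Modules.pullback (S.fromSpecResidueField s)).obj
        ((Scheme.Modules.pushforward f).obj F), ⊤) :=
    IsScalarTower.of_algebraMap_smul fun _ _ => rfl
  have bc₁ := PBH8.isBaseChange_cUV (S.fromSpecResidueField s)
    ((Scheme.Modules.pushforward f).obj F) hT'T hT' hT
  refine ⟨Γ(Spec (S.residueField s), ⊤), inferInstance, alg, hfield, hker',
    Γ((Scheme.Modules.pullback (S.fromSpecResidueField s)).obj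
      ((Scheme.Modules.pushforward f).obj F), ⊤),
    inferInstance, mN, inferInstance, tow,
    PBH8.cUVLin (S.fromSpecResidueField s)
      ((Scheme.Modules.pushforward f).obj F) hT'T, bc₁, ?_⟩
  haveI := hiso s
  have hΘ : Function.Bijective
      (fun n : Γ((Scheme.Modules.pullback (S.fromSpecResidueField s)).obj
          ((Scheme.Modules.pushforward f).obj F), ⊤) =>
        (CohBC.bc0 f (S.fromSpecResidueField s) (f.fiberToSpecResidueField s) (f.fiberι s)
          (f.fiber_fac s) F).app ⊤ n) :=
    app_bijective_of_isIso (CohBC.bc0 f (S.fromSpecResidueField s)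
      (f.fiberToSpecResidueField s) (f.fiberι s) (f.fiber_fac s) F) ⊤
  refine (Function.Bijective.of_comp_iff' hΘ _).mp ?_
  have hcomp2 : (fun n : Γ((Scheme.Modules.pullback (S.fromSpecResidueField s)).obj
          ((Scheme.Modules.pushforward f).obj F), ⊤) =>
        (CohBC.bc0 f (S.fromSpecResidueField s) (f.fiberToSpecResidueField s) (f.fiberι s)
          (f.fiber_fac s) F).app ⊤ n) ∘
      (fun c : Γ(Spec (S.residueField s), ⊤) => c • PBH8.cUVLin (S.fromSpecResidueField s)
        ((Scheme.Modules.pushforward f).obj F) hT'T (pushSec f F τ T)) =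
      (fun c : Γ(Spec (S.residueField s), ⊤) =>
        ((f.fiberToSpecResidueField s).app ⊤).hom c • fibSec f F τ s) :=
    funext fun c => bc0_smul_pushSec f F s τ T hT'T c
  rw [hcomp2]
  exact h s

end Main

section Iso

variable {X S : Scheme.{u}} (f : X ⟶ S) (F : X.Modules)

/-- restricting the canonical section -/
theorem pushSec_res (τ : Γ(F, ⊤)) (T : S.Opens) :
    (((Scheme.Modules.pushforward f).obj F).val.map (homOfLE (le_top : T ≤ ⊤)).op
      (pushSec f F τ ⊤) : ((Scheme.Modules.pushforward f).obj F).val.obj (op T)) =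
      pushSec f F τ T :=
  QcqsLoc.rF_rF F (f.preimage_mono (le_top : T ≤ ⊤)) (le_top : f ⁻¹ᵁ ⊤ ≤ ⊤) τ

/-- the morphism `O_S ⟶ f_* F` named by a global section, on sections -/
theorem unitHom_pushSec_app (τ : Γ(F, ⊤)) (T : S.Opens) (a : Γ(S, T)) :
    (SDivGenH8.unitHom ((Scheme.Modules.pushforward f).obj F) (pushSec f F τ ⊤)).app T a =
      a • pushSec f F τ T := by
  have h := SDivGenH8.unitHom_app ((Scheme.Modules.pushforward f).obj F) (pushSec f F τ ⊤) T a
  exact h.trans (congrArg (fun z : Γ((Scheme.Modules.pushforward f).obj F, T) => a • z)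
    (pushSec_res f F τ T))

/-- **generation by one section**: if `τ` freely generates `H^0` of every fibre, then
`O_S ⟶ f_* F`, `1 ↦ τ`, is an isomorphism -/
theorem isIso_unitHom_of_section [IsProper f] [LocallyOfFinitePresentation f]
    [Coh.IsQCoh F] (hfp : CohB1.IsFP F) (hfl : FlatMod.IsFlatOver f F)
    (τ : Γ(F, ⊤)) (h : ∀ s : S, SecSpansAt f F τ s) :
    IsIso (SDivGenH8.unitHom ((Scheme.Modules.pushforward f).obj F) (pushSec f F τ ⊤)) := by
  haveI hq : F.IsQuasicoherent := ‹Coh.IsQCoh F›
  haveI hqM : ((Scheme.Modules.pushforward f).obj F).IsQuasicoherent :=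
    QcqsLoc.isQuasicoherent_pushforward_qcqs f _
  haveI : (Coh.structureModule S).IsQuasicoherent := SerreCrit.isQuasicoherent_OO
  refine QCohCrit.isIso_of_bijective_on_cover _ (fun i : S.affineOpens => (i.1 : S.Opens))
    (fun i => i.2) (iSup_affineOpens_eq_top S) (fun i => ?_)
  have hb := app_bijective_of_section f F hfp hfl τ h i.1 i.2
  have he : ⇑((SDivGenH8.unitHom ((Scheme.Modules.pushforward f).obj F)
      (pushSec f F τ ⊤)).app i.1) = fun a : Γ(S, i.1) => a • pushSec f F τ i.1 :=
    funext fun a => unitHom_pushSec_app f F τ i.1 a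
  rw [he]
  exact hb

/-- every global section of `F` is a multiple of `τ` by a function on the base -/
theorem exists_smul_eq_of_section [IsProper f] [LocallyOfFinitePresentation f]
    [Coh.IsQCoh F] (hfp : CohB1.IsFP F) (hfl : FlatMod.IsFlatOver f F)
    (τ : Γ(F, ⊤)) (h : ∀ s : S, SecSpansAt f F τ s) (t : Γ(F, ⊤)) :
    ∃ a : Γ(S, ⊤), pushSec f F t ⊤ = a • pushSec f F τ ⊤ := by
  haveI := isIso_unitHom_of_section f F hfp hfl τ h
  obtain ⟨a, ha⟩ := (app_bijective_of_isIso
    (SDivGenH8.unitHom ((Scheme.Modules.pushforward f).obj F) (pushSec f F τ ⊤)) ⊤).2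
    (pushSec f F t ⊤)
  exact ⟨a, ha.symm.trans (unitHom_pushSec_app f F τ ⊤ a)⟩

end Iso

end Groth.Agent.Lib.CBCH2
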