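import Mathlib
import Groth.Prelude
import Groth.Agent.Lib.SecGen_helper2
import Groth.Agent.Lib.AffBC2_helper8
import Groth.Agent.Lib.BCH0_helper2

/-!
# Sections of a morphism and their fibres (helper2)

For a section `x : S ⟶ C` of a separated `f : C ⟶ S`: the closed subscheme `Z` of `x` maps
isomorphically to `S`; its fibre over `s` is `Spec κ(s)`; the restriction of `O_Z` to the fibre
`C_s` is the structure sheaf of a rational point, with one-dimensional `H^0`.
APPEND-ONLY once landed.
-/

set_option autoImplicit false
set_option backward.isDefEq.respectTransparency false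
set_option backward.isDefEq.respectTransparency.types false
set_option linter.style.haveILetI false
set_option linter.unusedSectionVars false
universe u

open CategoryTheory CategoryTheory.Limits AlgebraicGeometry TopologicalSpace Opposite

namespace Groth.Agent.Lib.CBCH2

open Groth.Agent.Lib.BCMainH2 Groth.Agent.Lib.FormalFnH2

section RankOne

variable (A : Type u) [CommRing A] {W : Scheme.{u}} [W.Over (Spec (CommRingCat.of A))]
  {Z' : Scheme.{u}} (j' : Z' ⟶ W)

/-- the scalar action on the unit section of `j'_* O` -/
theorem gs_smul_oneSec (c : A) :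
    (show Γ(Z', j' ⁻¹ᵁ ⊤) from
      (c • (show (CohIII.globalSectionsA A).obj
        ((Scheme.Modules.pushforward j').obj (Coh.structureModule Z')) from oneSec j' ⊤))) =
      (j' ≫ (W ↘ Spec (CommRingCat.of A))).appTop.hom
        ((Scheme.ΓSpecIso (CommRingCat.of A)).inv.hom c) := by
  have h1 := gs_smul A ((Scheme.Modules.pushforward j').obj (Coh.structureModule Z')) c
    (show (CohIII.globalSectionsA A).obj
        ((Scheme.Modules.pushforward j').obj (Coh.structureModule Z')) from oneSec j' ⊤)
  have h2 : rUHom (A := A) (X := W) ⊤ c = Coh.toGlobal (W ↘ Spec (CommRingCat.of A)) c :=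
    resTop_top _
  have h3 := smul_oneSec j' ⊤ (rUHom (A := A) (X := W) ⊤ c)
  refine (h1.trans h3).trans ?_
  show (j'.app ⊤).hom (rUHom (A := A) (X := W) ⊤ c) = _
  rw [h2, Scheme.Hom.comp_appTop]
  rfl

end RankOne

section RankOneField

variable (k : Type u) [Field k] {W : Scheme.{u}} [W.Over (Spec (CommRingCat.of k))]
  {Z' : Scheme.{u}} (j' : Z' ⟶ W)

/-- if `Z' ⟶ W ⟶ Spec k` is an isomorphism, `H^0(W, j'_* O_{Z'})` is one-dimensional -/
theorem finrank_HH0_push_unit_of_isIso (hq : IsIso (j' ≫ (W ↘ Spec (CommRingCat.of k)))) :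
    Module.finrank k (Coh.HH W
      ((Scheme.Modules.pushforward j').obj (Coh.structureModule Z')) 0) = 1 := by
  haveI := hq
  let G : W.Modules := (Scheme.Modules.pushforward j').obj (Coh.structureModule Z')
  let v₁ : (CohIII.globalSectionsA k).obj G := oneSec j' ⊤
  have hb1 : Function.Bijective (j' ≫ (W ↘ Spec (CommRingCat.of k))).appTop.hom :=
    ConcreteCategory.bijective_of_isIso (j' ≫ (W ↘ Spec (CommRingCat.of k))).appTop
  have hb2 : Function.Bijective (Scheme.ΓSpecIso (CommRingCat.of k)).inv.hom :=
    ConcreteCategory.bijective_of_isIso (Scheme.ΓSpecIso (CommRingCat.of k)).inv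
  have hbij : Function.Bijective (LinearMap.toSpanSingleton k
      ((CohIII.globalSectionsA k).obj G) v₁) := by
    constructor
    · intro c c' hcc'
      have h1 : (c • v₁ : (CohIII.globalSectionsA k).obj G) = c' • v₁ := hcc'
      have h2 := (gs_smul_oneSec k j' c).symm.trans
        ((congrArg (fun z : (CohIII.globalSectionsA k).obj G =>
          (show Γ(Z', j' ⁻¹ᵁ ⊤) from z)) h1).trans (gs_smul_oneSec k j' c'))
      exact hb2.1 (hb1.1 h2)
    · intro w
      obtain ⟨z, hz⟩ := hb1.2 (show Γ(Z', j' ⁻¹ᵁ ⊤) from w)
      obtain ⟨c, hc⟩ := hb2.2 z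
      refine ⟨c, ?_⟩
      show (c • v₁ : (CohIII.globalSectionsA k).obj G) = w
      have h2 := gs_smul_oneSec k j' c
      rw [hc, hz] at h2
      exact h2
  let e : k ≃ₗ[k] (CohIII.globalSectionsA k).obj G := LinearEquiv.ofBijective _ hbij
  rw [← (gsEquiv k G).finrank_eq, ← e.finrank_eq, Module.finrank_self]

/-- a rational point of a curve is not the whole curve -/
theorem not_iso_unit_push_of_isIso [IsClosedImmersion j']
    (hq : IsIso (j' ≫ (W ↘ Spec (CommRingCat.of k))))
    (hdim : topologicalKrullDim W = 1)
    (e : Coh.structureModule W ≅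
      (Scheme.Modules.pushforward j').obj (Coh.structureModule Z')) : False := by
  haveI := hq
  -- `Z'` has at most one point
  have hZ : ∀ z z' : Z', z = z' := by
    intro z z'
    apply (Scheme.homeoOfIso (asIso (j' ≫ (W ↘ Spec (CommRingCat.of k))))).injective
    exact Subsingleton.elim (α := PrimeSpectrum k) _ _
  let U : W.Opens := ⟨(Set.range j')ᶜ, j'.isClosedEmbedding.isClosed_range.isOpen_compl⟩
  have hbot : j' ⁻¹ᵁ U = ⊥ := by
    ext z
    simp only [Opens.coe_bot, Set.mem_empty_iff_false, iff_false]
    intro hz
    exact hz ⟨z, rfl⟩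
  have hsub : Subsingleton Γ(Z', j' ⁻¹ᵁ U) := by
    rw [hbot]
    infer_instance
  have hbij := app_bijective_of_isIso e.hom U
  have hsubW : Subsingleton Γ(W, U) := by
    constructor
    intro a b
    apply hbij.1
    exact Subsingleton.elim (α := Γ(Z', j' ⁻¹ᵁ U)) _ _
  have hU : ¬ Nonempty U := by
    intro hne
    haveI := hne
    exact not_subsingleton Γ(W, U) hsubW
  have hW : Subsingleton W := by
    constructor
    intro a b
    have ha : a ∈ Set.range j' := by
      by_contra h
      exact hU ⟨⟨a, h⟩⟩
    have hb : b ∈ Set.range j' := by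
      by_contra h
      exact hU ⟨⟨b, h⟩⟩
    obtain ⟨za, rfl⟩ := ha
    obtain ⟨zb, rfl⟩ := hb
    rw [hZ za zb]
  haveI := hW
  have h0 := topologicalKrullDim_zero_of_discreteTopology W
  rw [hdim] at h0
  exact absurd h0 (by norm_num)

end RankOneField

section SecGeom

variable {C S : Scheme.{u}} (f : C ⟶ S) (x : S ⟶ C)

/-- a section of a separated morphism is a closed immersion -/
theorem isClosedImmersion_of_section [IsSeparated f] (hx : x ≫ f = 𝟙 S) :
    IsClosedImmersion x := by
  haveI : IsClosedImmersion (x ≫ f) := by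
    rw [hx]
    infer_instance
  exact IsClosedImmersion.of_comp x f

/-- the closed subscheme of a section maps isomorphically to the base -/
theorem isIso_subschemeι_comp [IsSeparated f] (hx : x ≫ f = 𝟙 S) :
    IsIso (x.ker.subschemeι ≫ f) := by
  haveI := isClosedImmersion_of_section f x hx
  have h1 : x.toImage ≫ (x.ker.subschemeι ≫ f) = 𝟙 S := by
    rw [← Category.assoc]
    have := x.toImage_imageι
    rw [this]
    exact hx
  have h2 : x.ker.subschemeι ≫ f = inv x.toImage := by
    rw [← cancel_epi x.toImage, h1, IsIso.hom_inv_id]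
  rw [h2]
  infer_instance

variable (s : S)

/-- the fibre of the closed subscheme of `x` over `s`, inside the fibre of `f` -/
noncomputable abbrev secFib : Scheme.{u} := pullback x.ker.subschemeι (f.fiberι s)

/-- the inclusion of the fibre of the section into the fibre of `f` -/
noncomputable abbrev secFibι : secFib f x s ⟶ f.fiber s := pullback.snd _ _

/-- the projection of the fibre of the section -/
noncomputable abbrev secFibFst : secFib f x s ⟶ x.ker.subscheme := pullback.fst _ _

instance : IsClosedImmersion (secFibι f x s) :=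
  MorphismProperty.pullback_snd (P := @IsClosedImmersion) _ _ inferInstance

/-- the fibre of the section over `s` is `Spec κ(s)` -/
theorem isIso_secFib_comp [IsSeparated f] (hx : x ≫ f = 𝟙 S) :
    IsIso (secFibι f x s ≫ f.fiberToSpecResidueField s) := by
  haveI := isIso_subschemeι_comp f x hx
  have h1 : IsPullback (secFibFst f x s) (secFibι f x s) x.ker.subschemeι (f.fiberι s) :=
    IsPullback.of_hasPullback _ _
  have h2 : IsPullback (f.fiberι s) (f.fiberToSpecResidueField s) f
      (S.fromSpecResidueField s) := IsPullback.of_hasPullback _ _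
  exact (h1.paste_vert h2).isIso_snd_of_isIso

/-- the restriction of `O_Z` to the fibre is the structure sheaf of the fibre of `Z` -/
noncomputable def pullQuotIso :
    (Scheme.Modules.pullback (f.fiberι s)).obj (ClSub.quotMod x.ker) ≅
      (Scheme.Modules.pushforward (secFibι f x s)).obj
        (Coh.structureModule (secFib f x s)) :=
  haveI : (Coh.structureModule x.ker.subscheme).IsQuasicoherent := SerreCrit.isQuasicoherent_OO
  haveI : IsIso (AffBCH8.bc (IsPullback.of_hasPullback x.ker.subschemeι (f.fiberι s))
      (Coh.structureModule x.ker.subscheme)) :=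
    AffBCH8.bc_isIso _ _
  asIso (AffBCH8.bc (IsPullback.of_hasPullback x.ker.subschemeι (f.fiberι s))
      (Coh.structureModule x.ker.subscheme)) ≪≫
    (Scheme.Modules.pushforward (secFibι f x s)).mapIso
      (PBH8.pullbackUnitIso (secFibFst f x s))

end SecGeom

end Groth.Agent.Lib.CBCH2
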