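import Mathlib
import Groth.Prelude
import Groth.Agent.Lib.CurveAmple5_helper9

/-!
# Multiplication by a section generating an invertible module along the support (helper9).
APPEND-ONLY once landed.
-/

set_option autoImplicit false
universe u
open CategoryTheory CategoryTheory.Limits AlgebraicGeometry Opposite TopologicalSpace

namespace CurveLin

open QcqsLoc QCohExtn GenLocH8 TensH8 FLFH8 CohB1 Groth.Agent.HHVan CurveAmple Groth.Agent.TensInv

variable {X : Scheme.{u}}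

/-- naturality of `mulSec` in the first variable -/
theorem mulSec_naturality {G G' : X.Modules} (φ : G ⟶ G') (A : X.Modules)
    (u : Coh.structureModule X ⟶ A) :
    φ ≫ mulSec G' A u = mulSec G A u ≫ (tR A).map φ := by
  apply Scheme.Modules.hom_ext
  intro O
  ext σ
  show ap (mulSec G' A u) O (ap φ O σ) = ap ((tR A).map φ) O (ap (mulSec G A u) O σ)
  rw [ap_mulSec, ap_mulSec, Groth.Agent.CMMul.ap_tR_map_tmul]

/-- `u` generates `A` near `x` -/
def GenAt (A : X.Modules) (u : Coh.structureModule X ⟶ A) (x : X) : Prop :=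
  ∃ V : X.Opens, x ∈ V ∧ IsGen A V (ap u V (toM (1 : Γ(X, V))))

theorem ap_one_res {A : X.Modules} (u : Coh.structureModule X ⟶ A) {V W : X.Opens} (h : W ≤ V) :
    rF A h (ap u V (toM (1 : Γ(X, V)))) = ap u W (toM (1 : Γ(X, W))) := by
  rw [← ap_rF]
  congr 1
  exact map_one (rX h)

theorem genAt_id (x : X) : GenAt (Coh.structureModule X) (𝟙 _) x :=
  ⟨⊤, trivial, isGen_one ⊤⟩

theorem GenAt.tmul {A B : X.Modules} {u : Coh.structureModule X ⟶ A}
    {v : Coh.structureModule X ⟶ B} {x : X} (hu : GenAt A u x) (hv : GenAt B v x) :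
    GenAt (CohB1.tensorMod A B) (u ≫ mulSec A B v) x := by
  obtain ⟨V, hxV, hV⟩ := hu
  obtain ⟨V', hxV', hV'⟩ := hv
  refine ⟨V ⊓ V', ⟨hxV, hxV'⟩, ?_⟩
  have h1 : ap (u ≫ mulSec A B v) (V ⊓ V') (toM (1 : Γ(X, V ⊓ V'))) =
      SecTwist.tmul A B (V ⊓ V') (ap u (V ⊓ V') (toM (1 : Γ(X, V ⊓ V'))))
        (ap v (V ⊓ V') (toM (1 : Γ(X, V ⊓ V')))) :=
    ap_mulSec A B v (V ⊓ V') _
  rw [h1, ← ap_one_res u (inf_le_left : V ⊓ V' ≤ V), ← ap_one_res v (inf_le_right : V ⊓ V' ≤ V')]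
  exact isGen_tmul (hV.res inf_le_left) (hV'.res inf_le_right)

theorem GenAt.of_iso {A B : X.Modules} (e : A ≅ B) {u : Coh.structureModule X ⟶ A} {x : X}
    (hu : GenAt A u x) : GenAt B (u ≫ e.hom) x := by
  obtain ⟨V, hxV, hV⟩ := hu
  exact ⟨V, hxV, isGen_of_iso e hV⟩

/-- multiplication by a section generating `N` along the support of `Q` is an epimorphism -/
theorem epi_mulSec {Q N : X.Modules} (hN : PicF.IsInvertible N)
    (τ : Coh.structureModule X ⟶ N) (hτ : ∀ x ∈ CohB1.support Q, GenAt N τ x) :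
    Epi (mulSec Q N τ) := by
  apply epi_of_locally_surjective
  intro U m x hxU
  by_cases hx : x ∈ CohB1.support Q
  · obtain ⟨V, hxV, hV⟩ := hτ x hx
    refine ⟨U ⊓ V, inf_le_left, ⟨hxU, hxV⟩, ?_⟩
    obtain ⟨z, hz⟩ := tmulGen_surjective Q N hV (inf_le_right : U ⊓ V ≤ V)
      (rF (CohB1.tensorMod Q N) (inf_le_left : U ⊓ V ≤ U) m)
    refine ⟨z, ?_⟩
    rw [ap_mulSec, ← ap_one_res τ (inf_le_right : U ⊓ V ≤ V)]
    exact hz
  · have hQ : Subsingleton (Q.presheaf.stalk x) := not_not.mp hx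
    obtain ⟨W, _, hxW, e, he⟩ := exists_isGen hN x
    obtain ⟨z, hz⟩ := tmulGen_surjective Q N he (inf_le_right : U ⊓ W ≤ W)
      (rF (CohB1.tensorMod Q N) (inf_le_left : U ⊓ W ≤ U) m)
    obtain ⟨V', hV', hxV', h0⟩ := CurveTens.exists_rF_eq_zero Q hQ (⟨hxU, hxW⟩ : x ∈ U ⊓ W) z
    refine ⟨V', hV'.trans inf_le_left, hxV', 0, ?_⟩
    rw [map_zero]
    have h1 : rF (CohB1.tensorMod Q N) (hV'.trans inf_le_left) m =
        rF (CohB1.tensorMod Q N) hV' (rF (CohB1.tensorMod Q N) inf_le_left m) :=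
      (rF_rF _ hV' inf_le_left m).symm
    rw [h1, ← hz, rF_tmul, h0, tmul_zero_left]

/-- multiplication by a section generating `N` along the (zero-dimensional) support of `Q` is
surjective on `H⁰` -/
theorem hmap_mulSec_surjective [IsLocallyNoetherian X] {Q N : X.Modules} (hQ : Coh.IsCoh Q)
    (hN : PicF.IsInvertible N) (h0 : ∀ x ∈ CohB1.support Q, IsClosed ({x} : Set X))
    (τ : Coh.structureModule X ⟶ N) (hτ : ∀ x ∈ CohB1.support Q, GenAt N τ x) :
    Function.Surjective (hmap (mulSec Q N τ) 0) := by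
  haveI hepi := epi_mulSec hN τ hτ
  have hTc := isCoh_tensorMod X hQ hN
  have hKc : Coh.IsCoh (kernel (mulSec Q N τ)) := CohKerH8.isCoh_kernel hQ hTc _
  let S : ShortComplex X.Modules :=
    ShortComplex.mk (kernel.ι (mulSec Q N τ)) (mulSec Q N τ) (kernel.condition _)
  have hS : S.ShortExact :=
    ShortComplex.ShortExact.mk' (S.exact_of_f_is_kernel (kernelIsKernel _))
      (inferInstanceAs (Mono (kernel.ι (mulSec Q N τ)))) hepi
  apply hmap_g_surjective S hS 0
  exact ZeroDimAcyc.HH_subsingleton_of_zero_dim X _ hKc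
    (fun x hx => h0 x (CohDevH8.support_subset_of_mono (kernel.ι (mulSec Q N τ)) hx)) 1 (by omega)

end CurveLin
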