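import Mathlib
import Groth.Prelude
import Groth.Agent.Lib.CurveLin1_helper9

/-!
# A global section generating an invertible module along the cokernel of a map (helper9).
APPEND-ONLY once landed.
-/

set_option autoImplicit false
universe u
open CategoryTheory CategoryTheory.Limits AlgebraicGeometry Opposite TopologicalSpace

namespace CurveLin

open QcqsLoc QCohExtn GenLocH8 TensH8 FLFH8 CohB1 Groth.Agent.HHVan CurveAmple Groth.Agent.TensInv

variable {X : Scheme.{u}}

/-- at a point of the support of the cokernel, the local equation is not a unit -/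
theorem notMem_basicOpen_of_mem_support [IsNoetherian X] {N T : X.Modules} (hNc : Coh.IsCoh N) (hTc : Coh.IsCoh T)
    (φ : N ⟶ T) {W : X.Opens} (hW : IsAffineOpen W) {eN : Γ(N, W)} {eT : Γ(T, W)}
    (heT : IsGen T W eT) {f : Γ(X, W)} (hf : ap φ W eN = f • eT) {x : X}
    (hx : x ∈ CohB1.support (cokernel φ)) : x ∉ X.basicOpen f := by
  have hUW : X.basicOpen f ≤ W := X.basicOpen_le f
  have hsurj : Function.Surjective (ap φ (X.basicOpen f)) := by
    intro l
    obtain ⟨c, hc⟩ := (heT.res hUW).exists_coef l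
    have hu : IsUnit (rX hUW f) := X.toRingedSpace.isUnit_res_basicOpen f
    obtain ⟨u, hu⟩ := hu
    refine ⟨(c * ((u⁻¹ : (Γ(X, X.basicOpen f))ˣ) : Γ(X, X.basicOpen f))) • rF N hUW eN, ?_⟩
    rw [ap_smul, ap_rF, hf, rF_smul, ← mul_smul, hc, ← hu]
    congr 1
    rw [mul_assoc, Units.inv_mul, mul_one]
  have hsupp := CohDevH8.support_cokernel_subset_compl hNc hTc φ (hW.basicOpen f) hsurj
  exact fun h => hsupp hx h

/-- in a local ring, `a - 1 = b f` with `f` a non-unit forces `a` to be a unit -/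
theorem isUnit_of_sub_one_eq {R : Type*} [CommRing R] [IsLocalRing R] {a b f : R}
    (h : a - 1 = b * f) (hf : ¬ IsUnit f) : IsUnit a := by
  have h1 : IsUnit (a + -(b * f)) := by
    have : a + -(b * f) = 1 := by rw [← h]; ring
    rw [this]
    exact isUnit_one
  rcases IsLocalRing.isUnit_or_isUnit_of_isUnit_add h1 with h2 | h2
  · exact h2
  · exfalso
    apply hf
    rw [IsUnit.neg_iff] at h2
    exact isUnit_of_mul_isUnit_right h2

/-- **a global section generating `T` along the support of `coker (N → T)`**, when global sections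
of `T` surject onto those of the cokernel and the support of the cokernel is discrete -/
theorem exists_section_genAt [IsNoetherian X] {N T : X.Modules} (hN : PicF.IsInvertible N)
    (hT : PicF.IsInvertible T) (φ : N ⟶ T) [Mono φ]
    (hdisc : ∀ x : X, ∃ O : X.Opens, x ∈ O ∧
      ∀ y ∈ O, y ∈ CohB1.support (cokernel φ) → y = x)
    (hsurj : Function.Surjective (ap (cokernel.π φ) ⊤)) :
    ∃ τ : Coh.structureModule X ⟶ T, ∀ x ∈ CohB1.support (cokernel φ), GenAt T τ x := by
  have hNc := ProperFinH9.isCoh_of_isInvertible hN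
  have hTc := ProperFinH9.isCoh_of_isInvertible hT
  have key : ∀ x : X, ∃ (W W' : X.Opens) (hWW : W' ≤ W) (eN : Γ(N, W)) (eT : Γ(T, W))
      (f : Γ(X, W)), IsAffineOpen W ∧ x ∈ W' ∧ IsGen N W eN ∧ IsGen T W eT ∧
        ap φ W eN = f • eT ∧ ∀ y ∈ W', y ∈ CohB1.support (cokernel φ) → y = x := by
    intro x
    obtain ⟨W1, _, hx1, e1, he1⟩ := exists_isGen hN x
    obtain ⟨W, hW, hxW, hWW1, eT, heT⟩ := exists_isGen_le hT x W1 hx1
    obtain ⟨f, hf⟩ := heT.exists_coef (ap φ W (rF N hWW1 e1))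
    obtain ⟨O, hxO, hO⟩ := hdisc x
    exact ⟨W, W ⊓ O, inf_le_left, rF N hWW1 e1, eT, f, hW, ⟨hxW, hxO⟩, he1.res hWW1, heT, hf,
      fun y hy hyC => hO y hy.2 hyC⟩
  choose W W' hWW eN eT f hW hxW' heN heT hf hW'supp using key
  have hcov : (⊤ : X.Opens) ≤ ⨆ x, W' x := fun x _ => Opens.mem_iSup.mpr ⟨x, hxW' x⟩
  have hdisj : ∀ i j : X, i ≠ j → ∀ y ∈ W' i ⊓ W' j, y ∉ CohB1.support (cokernel φ) := by
    intro i j hij y hy hyQ
    exact hij ((hW'supp i y hy.1 hyQ).symm.trans (hW'supp j y hy.2 hyQ))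
  have hq : ∃ q : Γ(cokernel φ, ⊤), ∀ x, rF (cokernel φ) (le_top : W' x ≤ ⊤) q =
      ap (cokernel.π φ) (W' x) (rF T (hWW x) (eT x)) := by
    refine glue (cokernel φ) W' ⊤ (fun _ => le_top) hcov
      (fun x => ap (cokernel.π φ) (W' x) (rF T (hWW x) (eT x))) (fun i j => ?_)
    by_cases hij : i = j
    · subst hij
      rfl
    · exact (CycLenH8.eq_zero_of_disjoint_support (cokernel φ) (hdisj i j hij) _).trans
        (CycLenH8.eq_zero_of_disjoint_support (cokernel φ) (hdisj i j hij) _).symm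
  obtain ⟨q, hq⟩ := hq
  obtain ⟨τ₀, hτ₀⟩ := hsurj q
  refine ⟨SDivGenH8.unitHom T τ₀, fun x hx => ?_⟩
  have hone : ∀ V : X.Opens, ap (SDivGenH8.unitHom T τ₀) V (toM (1 : Γ(X, V))) =
      rF T (le_top : V ≤ ⊤) τ₀ := fun V => SDivGenH8.unitHom_app_one T τ₀ V
  have he' : IsGen T (W' x) (rF T (hWW x) (eT x)) := (heT x).res (hWW x)
  obtain ⟨a, ha⟩ := he'.exists_coef (rF T (le_top : W' x ≤ ⊤) τ₀)
  have h1 : ap (cokernel.π φ) (W' x) (rF T (le_top : W' x ≤ ⊤) τ₀) =
      ap (cokernel.π φ) (W' x) (rF T (hWW x) (eT x)) := by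
    rw [ap_rF, hτ₀, hq]
  have h2 : ap (cokernel.π φ) (W' x) ((a - 1) • rF T (hWW x) (eT x)) = 0 := by
    rw [sub_smul, one_smul, map_sub, ← ha, h1, sub_self]
  let S : ShortComplex X.Modules := ShortComplex.mk φ (cokernel.π φ) (cokernel.condition φ)
  have hSex : S.Exact := S.exact_of_g_is_cokernel (cokernelIsCokernel φ)
  haveI : Mono S.f := inferInstanceAs (Mono φ)
  obtain ⟨b', hb'⟩ := QCohExact.app_exact S hSex (W' x) _ h2
  have hb'' : ap φ (W' x) b' = (a - 1) • rF T (hWW x) (eT x) := hb'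
  obtain ⟨b, hb⟩ := ((heN x).res (hWW x)).exists_coef b'
  have h3 : ap φ (W' x) (rF N (hWW x) (eN x)) = rX (hWW x) (f x) • rF T (hWW x) (eT x) := by
    rw [ap_rF, hf, rF_smul]
  have h4 : (a - 1) • rF T (hWW x) (eT x) = (b * rX (hWW x) (f x)) • rF T (hWW x) (eT x) := by
    rw [← hb'', hb, ap_smul, h3, mul_smul]
  have h5 : a - 1 = b * rX (hWW x) (f x) := TensH8.IsGen.coef_ext he' h4
  have h6 : x ∉ X.basicOpen (rX (hWW x) (f x)) := by
    intro h
    have h' : x ∈ W' x ⊓ X.basicOpen (f x) := by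
      rw [← Scheme.basicOpen_res X (f x) (homOfLE (hWW x)).op]
      exact h
    exact notMem_basicOpen_of_mem_support hNc hTc φ (hW x) (heT x) (hf x) hx h'.2
  have h7 : x ∈ X.basicOpen a := by
    rw [Scheme.mem_basicOpen X _ x (hxW' x)] at h6 ⊢
    have h8 := congrArg (X.presheaf.germ (W' x) x (hxW' x)).hom h5
    rw [map_sub, map_one, map_mul] at h8
    exact isUnit_of_sub_one_eq h8 h6
  refine ⟨X.basicOpen a, h7, ?_⟩
  have hle : X.basicOpen a ≤ W' x := X.basicOpen_le a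
  rw [hone]
  have h9 : rF T (le_top : X.basicOpen a ≤ ⊤) τ₀ =
      rF T hle (rF T (le_top : W' x ≤ ⊤) τ₀) := (rF_rF T hle le_top τ₀).symm
  rw [h9, ha, rF_smul]
  exact isGen_smul_of_isUnit (he'.res hle) (X.toRingedSpace.isUnit_res_basicOpen a)

end CurveLin
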