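import Mathlib
import Groth.Prelude
import Groth.Agent.Lib.CurveLin2_helper9

/-!
# Linear series of maximal dimension force genus zero (helper9).
APPEND-ONLY once landed.
-/

set_option autoImplicit false
universe u
open CategoryTheory CategoryTheory.Limits AlgebraicGeometry Opposite TopologicalSpace

namespace CurveLin

open QcqsLoc QCohExtn GenLocH8 TensH8 FLFH8 CohB1 Groth.Agent.HHVan CurveAmple Groth.Agent.TensInv

section Abs

open Abelian

variable {C : Type*} [Category C] [Abelian C] [HasExt C] {S : ShortComplex C}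
  (hS : S.ShortExact) (A : C)

include hS in
theorem ext_f_injective (q : ℕ)
    (h : ∀ x₃ : Ext A S.X₃ q, ∃ x₂ : Ext A S.X₂ q, x₂.comp (Ext.mk₀ S.g) (add_zero q) = x₃)
    (x₁ : Ext A S.X₁ (q + 1)) (hx₁ : x₁.comp (Ext.mk₀ S.f) (add_zero (q + 1)) = 0) : x₁ = 0 := by
  obtain ⟨x₃, hx₃⟩ := Ext.covariant_sequence_exact₁ A hS x₁ hx₁ (rfl : q + 1 = q + 1)
  obtain ⟨x₂, hx₂⟩ := h x₃
  rw [← hx₃, ← hx₂, Ext.comp_assoc_of_second_deg_zero, hS.comp_extClass, Ext.comp_zero]

include hS in
theorem ext_g_surjective (q : ℕ)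
    (h : ∀ x₁ : Ext A S.X₁ (q + 1), x₁.comp (Ext.mk₀ S.f) (add_zero (q + 1)) = 0 → x₁ = 0)
    (x₃ : Ext A S.X₃ q) : ∃ x₂ : Ext A S.X₂ q, x₂.comp (Ext.mk₀ S.g) (add_zero q) = x₃ := by
  have h0 : x₃.comp hS.extClass (rfl : q + 1 = q + 1) = 0 := by
    apply h
    rw [Ext.comp_assoc_of_third_deg_zero, hS.extClass_comp, Ext.comp_zero]
  exact Ext.covariant_sequence_exact₃ A hS x₃ (rfl : q + 1 = q + 1) h0

end Abs

section LES

variable {X : Scheme.{u}}

/-- long exact sequence: if `H^q(X₂) → H^q(X₃)` is surjective then `H^{q+1}(X₁) → H^{q+1}(X₂)` is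
injective -/
theorem hmap_f_injective_of_g_surjective (S : ShortComplex X.Modules) (hS : S.ShortExact) (q : ℕ)
    (h : Function.Surjective (hmap S.g q)) : Function.Injective (hmap S.f (q + 1)) := by
  have hT := SerreCrit.shortExact_toSheaf S hS
  rw [injective_iff_map_eq_zero]
  intro x₁ hx₁
  exact ext_f_injective hT _ q (fun x₃ => h x₃) x₁ hx₁

/-- long exact sequence: if `H^{q+1}(X₁) → H^{q+1}(X₂)` is injective then `H^q(X₂) → H^q(X₃)` is
surjective -/
theorem hmap_g_surjective_of_f_injective (S : ShortComplex X.Modules) (hS : S.ShortExact) (q : ℕ)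
    (h : Function.Injective (hmap S.f (q + 1))) : Function.Surjective (hmap S.g q) := by
  have hT := SerreCrit.shortExact_toSheaf S hS
  intro x₃
  exact ext_g_surjective hT _ q
    (fun x₁ hx₁ => (injective_iff_map_eq_zero (hmap S.f (q + 1))).mp h x₁ hx₁) x₃

end LES

section Pow

variable {X : Scheme.{u}}

theorem hom_eq_zero_of_ap_one {A : X.Modules} (u : Coh.structureModule X ⟶ A)
    (h : ap u ⊤ (toM (1 : Γ(X, ⊤))) = 0) : u = 0 := by
  apply Scheme.Modules.hom_ext
  intro O
  ext σ
  show ap u O σ = 0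
  obtain ⟨d, hd⟩ := ((isGen_one (X := X) ⊤).res (le_top : O ≤ ⊤)).exists_coef σ
  rw [hd, ap_smul, ap_rF, h, map_zero, smul_zero]

theorem mulSec_ne_zero {L : X.Modules} (s : Coh.structureModule X ⟶ L) (hs : s ≠ 0) :
    mulSec (Coh.structureModule X) L s ≠ 0 := by
  intro h
  apply hs
  apply hom_eq_zero_of_ap_one
  have h1 := ap_mulSec (Coh.structureModule X) L s ⊤ (toM (1 : Γ(X, ⊤)))
  rw [h] at h1
  have h2 := Groth.Agent.CMMul.unitorL_tmul' L ⊤ (ap s ⊤ (toM (1 : Γ(X, ⊤)))) (1 : Γ(X, ⊤))
  rw [one_smul] at h2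
  rw [← h2]
  have h3 : SecTwist.tmul (Coh.structureModule X) L ⊤ (toM (1 : Γ(X, ⊤)))
      (ap s ⊤ (toM (1 : Γ(X, ⊤)))) = 0 := h1.symm
  exact (congrArg (ap (Groth.Agent.CMMul.unitorL L).hom ⊤) h3).trans (map_zero _)

/-- the `m`-th power of a section -/
noncomputable def powSec {L : X.Modules} (t : Coh.structureModule X ⟶ L) :
    ∀ m : ℕ, Coh.structureModule X ⟶ CohB1.tensorPow L m
  | 0 => 𝟙 _
  | m + 1 => powSec t m ≫ mulSec (CohB1.tensorPow L m) L t

theorem genAt_powSec {L : X.Modules} (t : Coh.structureModule X ⟶ L) {x : X}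
    (ht : GenAt L t x) (m : ℕ) : GenAt (CohB1.tensorPow L m) (powSec t m) x := by
  induction m with
  | zero => exact genAt_id x
  | succ m ih => exact ih.tmul ht

end Pow

section Main

variable (k : Type u) [Field k] (X : Scheme.{u}) [X.Over (Spec (CommRingCat.of k))]
  [IsIntegral X] [IsProper (X ↘ Spec (CommRingCat.of k))]

/-- the inductive step: if `H⁰(T) → H⁰(coker m₀)` is surjective and `t` generates `L` along the
support of the cokernel, then `h¹(O ⊗ L^m) ≤ h¹((O ⊗ L) ⊗ L^m)` -/
theorem finrank_HH1_le_step (hdim : topologicalKrullDim X ≤ 1) {L : X.Modules}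
    (hL : PicF.IsInvertible L) (s : Coh.structureModule X ⟶ L) (hs : s ≠ 0)
    (hK : Function.Surjective (hmap (cokernel.π (mulSec (Coh.structureModule X) L s)) 0))
    (t : Coh.structureModule X ⟶ L)
    (ht : ∀ x ∈ CohB1.support (cokernel (mulSec (Coh.structureModule X) L s)), GenAt L t x)
    (m : ℕ) :
    Module.finrank k (Coh.HH X (CohB1.tensorMod (Coh.structureModule X) (CohB1.tensorPow L m)) 1) ≤
      Module.finrank k (Coh.HH X (CohB1.tensorMod
        (CohB1.tensorMod (Coh.structureModule X) L) (CohB1.tensorPow L m)) 1) := by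
  haveI : IsLocallyNoetherian X :=
    LocallyOfFiniteType.isLocallyNoetherian (X ↘ Spec (CommRingCat.of k))
  haveI : CompactSpace X :=
    QuasiCompact.compactSpace_of_compactSpace (X ↘ Spec (CommRingCat.of k))
  haveI : IsNoetherian X := {}
  have hO : PicF.IsInvertible (Coh.structureModule X) := isInvertible_structureModule
  have hT : PicF.IsInvertible (CohB1.tensorMod (Coh.structureModule X) L) :=
    isInvertible_tensorMod hO hL
  have hOc := CohDevH8.isCoh_structureModule X
  have hTc := ProperFinH9.isCoh_of_isInvertible hT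
  set m₀ := mulSec (Coh.structureModule X) L s with hm₀def
  have hm₀ : m₀ ≠ 0 := mulSec_ne_zero s hs
  haveI hmono : Mono m₀ := CurveDeg.mono_of_ne_zero hO hT m₀ hm₀
  have hCc : Coh.IsCoh (cokernel m₀) := CohKerH8.isCoh_cokernel hOc hTc m₀
  have h0 : ∀ x ∈ CohB1.support (cokernel m₀), IsClosed ({x} : Set X) :=
    CurveDeg.isClosed_singleton_of_mem_support_cokernel hO hT m₀ hm₀ hdim
  let S₀ : ShortComplex X.Modules := ShortComplex.mk m₀ (cokernel.π m₀) (cokernel.condition m₀)
  have hS₀ : S₀.ShortExact :=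
    ShortComplex.ShortExact.mk' (S₀.exact_of_g_is_cokernel (cokernelIsCokernel m₀)) hmono
      (inferInstanceAs (Epi (cokernel.π m₀)))
  have hN : PicF.IsInvertible (CohB1.tensorPow L m) := isInvertible_tensorPow hL m
  set N := CohB1.tensorPow L m with hNdef
  have hS := CurveTens.shortExact_tR hN S₀ hS₀
  -- surjectivity on `H⁰`
  have hsurj : Function.Surjective (hmap (S₀.map (tR N)).g 0) := by
    intro c
    obtain ⟨c', hc'⟩ := hmap_mulSec_surjective hCc hN h0 (powSec t m)
      (fun x hx => genAt_powSec t (ht x hx) m) c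
    obtain ⟨b, hb⟩ := hK c'
    refine ⟨hmap (mulSec (CohB1.tensorMod (Coh.structureModule X) L) N (powSec t m)) 0 b, ?_⟩
    have h1 : hmap (S₀.map (tR N)).g 0
        (hmap (mulSec (CohB1.tensorMod (Coh.structureModule X) L) N (powSec t m)) 0 b) =
        hmap (mulSec (CohB1.tensorMod (Coh.structureModule X) L) N (powSec t m) ≫
          (tR N).map (cokernel.π m₀)) 0 b := (hmap_comp _ _ 0 b).symm
    have h2 : hmap (cokernel.π m₀ ≫ mulSec (cokernel m₀) N (powSec t m)) 0 b = c := by
      rw [hmap_comp (cokernel.π m₀) (mulSec (cokernel m₀) N (powSec t m)) 0 b, hb, hc']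
    rw [h1, ← mulSec_naturality]
    exact h2
  have hinj := hmap_f_injective_of_g_surjective _ hS 0 hsurj
  have hTNc := isCoh_tensorMod X hTc hN
  haveI := ProperFinH9.finite_HH_of_proper k X _ hTNc 1
  exact LinearMap.finrank_le_finrank_of_injective
    (f := Canon.HHlin k ((tR N).map m₀) 1) hinj

/-- **statement of S1564** -/
theorem h0_le_deg_add_one (hdim : topologicalKrullDim X = 1)
    (h0 : Module.finrank k (Coh.HH X (Coh.structureModule X) 0) = 1)
    {L : X.Modules} (hL : PicF.IsInvertible L) (hs : Nontrivial (Coh.HH X L 0)) :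
    (Module.finrank k (Coh.HH X L 0) : ℤ) ≤ Curv2.deg k X L 1 + 1 ∧
      ((Module.finrank k (Coh.HH X L 0) : ℤ) = Curv2.deg k X L 1 + 1 → 0 < Curv2.deg k X L 1 →
        Curv2.genus k X = 0) := by
  haveI : IsLocallyNoetherian X :=
    LocallyOfFiniteType.isLocallyNoetherian (X ↘ Spec (CommRingCat.of k))
  haveI : CompactSpace X :=
    QuasiCompact.compactSpace_of_compactSpace (X ↘ Spec (CommRingCat.of k))
  haveI : IsNoetherian X := {}
  have hO : PicF.IsInvertible (Coh.structureModule X) := isInvertible_structureModule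
  have hT : PicF.IsInvertible (CohB1.tensorMod (Coh.structureModule X) L) :=
    isInvertible_tensorMod hO hL
  have hOc := CohDevH8.isCoh_structureModule X
  have hLc := ProperFinH9.isCoh_of_isInvertible hL
  have hTc := ProperFinH9.isCoh_of_isInvertible hT
  haveI := hOc.1
  haveI := hLc.1
  -- a nonzero section
  obtain ⟨v, hv⟩ := exists_ne (0 : Coh.HH X L 0)
  obtain ⟨s, rfl⟩ := theta_surjective k L v
  have hs0 : s ≠ 0 := by
    rintro rfl
    exact hv (map_zero _)
  have hle := finrank_HH1_tensor_le k X hdim.le hOc hL s hs0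
  have hiso := finrank_HH_of_iso k X (Groth.Agent.CMMul.unitorL L) 1
  have e2 := CurveRR.euler_eq_sub k X hdim.le L
  have e3 := CurveRR.euler_eq_sub k X hdim.le (Coh.structureModule X)
  have hg : Curv2.genus k X = Module.finrank k (Coh.HH X (Coh.structureModule X) 1) := rfl
  rw [h0] at e3
  constructor
  · unfold Curv2.deg
    push_cast at e3 ⊢
    omega
  · intro heq hdeg
    rw [hg]
    have h1 : Module.finrank k (Coh.HH X (CohB1.tensorMod (Coh.structureModule X) L) 1) =
        Module.finrank k (Coh.HH X (Coh.structureModule X) 1) := by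
      unfold Curv2.deg at heq
      push_cast at e3 heq
      omega
    set m₀ := mulSec (Coh.structureModule X) L s with hm₀def
    have hm₀ : m₀ ≠ 0 := mulSec_ne_zero s hs0
    haveI hmono : Mono m₀ := CurveDeg.mono_of_ne_zero hO hT m₀ hm₀
    have hCc : Coh.IsCoh (cokernel m₀) := CohKerH8.isCoh_cokernel hOc hTc m₀
    have hcl0 : ∀ x ∈ CohB1.support (cokernel m₀), IsClosed ({x} : Set X) :=
      CurveDeg.isClosed_singleton_of_mem_support_cokernel hO hT m₀ hm₀ hdim.le
    let S₀ : ShortComplex X.Modules :=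
      ShortComplex.mk m₀ (cokernel.π m₀) (cokernel.condition m₀)
    have hS₀ : S₀.ShortExact :=
      ShortComplex.ShortExact.mk' (S₀.exact_of_g_is_cokernel (cokernelIsCokernel m₀)) hmono
        (inferInstanceAs (Epi (cokernel.π m₀)))
    -- `H¹(m₀)` is injective
    haveI := ProperFinH9.finite_HH_of_proper k X _ hOc 1
    haveI := ProperFinH9.finite_HH_of_proper k X _ hTc 1
    have hsurj := HH1_mulSec_surjective k X hdim.le hOc hL s hs0
    have hinj : Function.Injective (Canon.HHlin k m₀ 1) :=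
      (LinearMap.injective_iff_surjective_of_finrank_eq_finrank h1.symm).mpr hsurj
    have hK : Function.Surjective (hmap (cokernel.π m₀) 0) :=
      hmap_g_surjective_of_f_injective S₀ hS₀ 0 hinj
    -- surjectivity on global sections
    have hΓ : Function.Surjective (ap (cokernel.π m₀) ⊤) := by
      intro q
      obtain ⟨w, hw⟩ := hK ((CurveTens.e₀ (cokernel m₀)).symm q)
      refine ⟨CurveTens.e₀ (CohB1.tensorMod (Coh.structureModule X) L) w, ?_⟩
      have key : CurveTens.e₀ (cokernel m₀) (hmap (cokernel.π m₀) 0 w) =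
          ap (cokernel.π m₀) ⊤ (CurveTens.e₀ (CohB1.tensorMod (Coh.structureModule X) L) w) :=
        (Sheaf.H.equiv₀_naturality ((SerreCrit.TT X).map (cokernel.π m₀))
          (hT := isTerminalTop) w).symm
      rw [← key, hw, AddEquiv.apply_symm_apply]
    have hdisc := CurveTens.discrete_of_closed_points (cokernel m₀)
      (@SuppFT.isClosed_support X (cokernel m₀) hCc.2) hcl0
    obtain ⟨t', ht'⟩ := exists_section_genAt hO hT m₀ hdisc hΓ
    have ht : ∀ x ∈ CohB1.support (cokernel m₀),
        GenAt L (t' ≫ (Groth.Agent.CMMul.unitorL L).hom) x :=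
      fun x hx => (ht' x hx).of_iso (Groth.Agent.CMMul.unitorL L)
    -- the induction
    have hstep : ∀ m : ℕ, Module.finrank k (Coh.HH X (CohB1.tensorPow L m) 1) ≤
        Module.finrank k (Coh.HH X (CohB1.tensorPow L (m + 1)) 1) := by
      intro m
      have h2 := finrank_HH1_le_step k X hdim.le hL s hs0 hK _ ht m
      have i1 := finrank_HH_of_iso k X (Groth.Agent.CMMul.unitorL (CohB1.tensorPow L m)) 1
      have i2 := finrank_HH_of_iso k X
        (mapR (Groth.Agent.CMMul.unitorL L) (CohB1.tensorPow L m) ≪≫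
          comm L (CohB1.tensorPow L m)) 1
      rw [i1, i2] at h2
      exact h2
    have hind : ∀ m : ℕ, Module.finrank k (Coh.HH X (Coh.structureModule X) 1) ≤
        Module.finrank k (Coh.HH X (CohB1.tensorPow L m) 1) := by
      intro m
      induction m with
      | zero => exact le_refl _
      | succ m ih => exact ih.trans (hstep m)
    obtain ⟨n, hn⟩ := exists_HH1_subsingleton k X hdim.le hL hdeg hOc
    have i3 := finrank_HH_of_iso k X (Groth.Agent.CMMul.unitorL (CohB1.tensorPow L (n + 1))) 1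
    have h3 : Module.finrank k (Coh.HH X (CohB1.tensorMod (Coh.structureModule X)
        (CohB1.tensorPow L (n + 1))) 1) = 0 := Module.finrank_zero_of_subsingleton
    have h4 := hind (n + 1)
    omega

end Main

end CurveLin
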