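import Mathlib
import Groth.Prelude
import Groth.Agent.Lib.SecFib_helper2
import Groth.Agent.Lib.CurvStDeg_helper2
import Groth.Agent.Lib.FibAmp5_helper2
import Groth.Agent.Lib.CurveIdeal1_helper9
import Groth.Agent.Lib.CurveTens4_helper9
import Groth.Agent.Lib.FieldDesc2_helper9
import Groth.Agent.Lib.InvTens2_helper8
import Groth.Agent.S1564

/-!
# The bundle `O(x)` of a section of a family of curves, on the fibres (helper2)

For a section `x` of a proper smooth family of curves of genus `≥ 1` and `L` with `I(x) ⊗ L ≅ O`: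
the canonical section of `L` freely generates `H^0` of every fibre.
APPEND-ONLY once landed.
-/

set_option autoImplicit false
set_option backward.isDefEq.respectTransparency false
set_option backward.isDefEq.respectTransparency.types false
set_option linter.style.haveILetI false
set_option linter.unusedSectionVars false
universe u

open CategoryTheory CategoryTheory.Limits AlgebraicGeometry TopologicalSpace Opposite

namespace Groth.Agent.Lib.CBCH2

open Groth.Agent.TensInv CohB1 Groth.Agent.Lib.FibDimH2 Groth.Agent.Lib.BCMainH2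
  Groth.Agent.Lib.FormalFnH2 QcqsLoc QCohExtn FLFH8 SerreCrit

section PullTR

variable {X Y : Scheme.{u}} (f : X ⟶ Y)

/-- pullback commutes with tensoring with an invertible module, naturally -/
theorem nonempty_pullback_tR_iso {K : Y.Modules} (hK : PicF.IsInvertible K) :
    Nonempty (tR K ⋙ Scheme.Modules.pullback f ≅
      Scheme.Modules.pullback f ⋙ tR ((Scheme.Modules.pullback f).obj K)) := by
  obtain ⟨K', hK'inv, ⟨e⟩⟩ := Groth.Agent.InvTensP.exists_inverse K hK
  have e' : tensorMod ((Scheme.Modules.pullback f).obj K)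
      ((Scheme.Modules.pullback f).obj K') ≅ Coh.structureModule X :=
    (PullTensH9.pullTensIso f hK hK'inv).symm ≪≫ (Scheme.Modules.pullback f).mapIso e ≪≫
      PBH8.pullbackUnitIso f
  let EY := tensorRightEquiv Y.sheaf K K' e
  let EX := tensorRightEquiv X.sheaf ((Scheme.Modules.pullback f).obj K)
    ((Scheme.Modules.pullback f).obj K') e'
  let adj1 : tR K ⋙ Scheme.Modules.pullback f ⊣ Scheme.Modules.pushforward f ⋙ tR K' :=
    EY.toAdjunction.comp (Scheme.Modules.pullbackPushforwardAdjunction f)
  let adj2 : Scheme.Modules.pullback f ⋙ tR ((Scheme.Modules.pullback f).obj K) ⊣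
      tR ((Scheme.Modules.pullback f).obj K') ⋙ Scheme.Modules.pushforward f :=
    (Scheme.Modules.pullbackPushforwardAdjunction f).comp EX.toAdjunction
  have c1 : PFormH9.TL K' ≅ tR K' := commIso K'
  have c2 : PFormH9.TL ((Scheme.Modules.pullback f).obj K') ≅
      tR ((Scheme.Modules.pullback f).obj K') := commIso _
  have isoR : Scheme.Modules.pushforward f ⋙ tR K' ≅
      tR ((Scheme.Modules.pullback f).obj K') ⋙ Scheme.Modules.pushforward f :=
    Functor.isoWhiskerLeft _ c1.symm ≪≫
      PFormH9.projIso f K' (TensH8.isFinLocFree_of_isInvertible hK'inv) ≪≫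
      Functor.isoWhiskerRight c2 _
  exact ⟨Adjunction.leftAdjointUniq (adj1.ofNatIsoRight isoR) adj2⟩

end PullTR

section CurveField

variable (k : Type u) [Field k] (Y : Scheme.{u}) [Y.Over (Spec (CommRingCat.of k))]
  [IsIntegral Y] [IsProper (Y ↘ Spec (CommRingCat.of k))]

/-- on a proper integral curve of genus `≥ 1`, the inverse of the ideal of a rational point has
exactly one section up to scalars -/
theorem finrank_H0_eq_one_of_inverse_ideal (hdim : topologicalKrullDim Y = 1)
    (h0 : Module.finrank k (Coh.HH Y (Coh.structureModule Y) 0) = 1)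
    (hg : 1 ≤ Module.finrank k (Coh.HH Y (Coh.structureModule Y) 1))
    {J N : Y.Modules} (hJ : PicF.IsInvertible J) (hN : PicF.IsInvertible N)
    (e : CohB1.tensorMod J N ≅ Coh.structureModule Y)
    (φ : J ⟶ Coh.structureModule Y) (hφ : φ ≠ 0)
    (hQ : Module.finrank k (Coh.HH Y (cokernel φ) 0) = 1)
    (hs : Nontrivial (Coh.HH Y N 0)) :
    Module.finrank k (Coh.HH Y N 0) = 1 := by
  haveI : IsLocallyNoetherian Y :=
    LocallyOfFiniteType.isLocallyNoetherian (Y ↘ Spec (CommRingCat.of k))
  haveI : CompactSpace Y :=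
    QuasiCompact.compactSpace_of_compactSpace (Y ↘ Spec (CommRingCat.of k))
  haveI : IsNoetherian Y := {}
  have hO : PicF.IsInvertible (Coh.structureModule Y) := TensH8.isInvertible_structureModule
  have hJc := Groth.Agent.Lib.H0LiftH2.isCoh_of_isInvertible hJ
  have hOc := Groth.Agent.Lib.H0LiftH2.isCoh_of_isInvertible hO
  have hNc := Groth.Agent.Lib.H0LiftH2.isCoh_of_isInvertible hN
  have h1 := CurveDeg.euler_eq_add k Y hdim.le hJ hO φ hφ
  haveI := CurveDeg.mono_of_ne_zero hJ hO φ hφ
  have h2 := CurveTens.euler_tensor_sub k Y hJc hOc hN φ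
    (CurveDeg.isClosed_singleton_of_mem_support_cokernel hJ hO φ hφ hdim.le)
  have h3 := CurveTens.euler_of_iso k Y (Groth.Agent.CMMul.unitorL N)
  have h4 := CurveTens.euler_of_iso k Y e
  rw [h3, h4] at h2
  rw [hQ] at h1
  push_cast at h1
  have hdeg : Curv2.deg k Y N 1 = 1 := by
    unfold Curv2.deg
    push_cast
    linarith
  obtain ⟨hle, heq⟩ := Groth.Agent.S1564.result k Y hdim h0 N hN hs
  haveI := ProperFinH9.finite_HH_of_proper k Y N hNc 0
  haveI := hs
  have hpos : 0 < Module.finrank k (Coh.HH Y N 0) := Module.finrank_pos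
  rw [hdeg] at hle heq
  have hne : (Module.finrank k (Coh.HH Y N 0) : ℤ) ≠ 2 := by
    intro h2'
    have h5 := heq (by rw [h2']; norm_num) (by norm_num)
    unfold Curv2.genus at h5
    omega
  have hle' : (Module.finrank k (Coh.HH Y N 0) : ℤ) ≤ 2 := by linarith
  omega

end CurveField

section Fibre

variable {C S : Scheme.{u}} (f : C ⟶ S) (x : S ⟶ C) (s : S)

/-- the restriction of the ideal of the section to the fibre, mapped to `O` -/
noncomputable def idealFib :
    (Scheme.Modules.pullback (f.fiberι s)).obj (ClSub.idealMod x.ker) ⟶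
      Coh.structureModule (f.fiber s) :=
  (Scheme.Modules.pullback (f.fiberι s)).map (ClSub.idealModι x.ker) ≫
    (PBH8.pullbackUnitIso (f.fiberι s)).hom

/-- the cokernel of the restricted ideal is the structure sheaf of the fibre of the section -/
noncomputable def cokerIdealFibIso :
    cokernel (idealFib f x s) ≅
      (Scheme.Modules.pushforward (secFibι f x s)).obj
        (Coh.structureModule (secFib f x s)) :=
  haveI : PreservesColimits (Scheme.Modules.pullback (f.fiberι s)) :=
    (Scheme.Modules.pullbackPushforwardAdjunction (f.fiberι s)).leftAdjoint_preservesColimits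
  cokernelCompIsIso _ _ ≪≫
    (PreservesCokernel.iso (Scheme.Modules.pullback (f.fiberι s))
      (ClSub.idealModι x.ker)).symm ≪≫
    (Scheme.Modules.pullback (f.fiberι s)).mapIso (CurveIdeal.cokernelIso x.ker) ≪≫
    pullQuotIso f x s

end Fibre

section Main

variable {C S : Scheme.{u}} (f : C ⟶ S) (x : S ⟶ C) (L : C.Modules)

/-- the canonical morphism `O ⟶ L` when `I(x) ⊗ L ≅ O` -/
noncomputable def sigmaHom
    (β' : CohB1.tensorMod (ClSub.idealMod x.ker) L ≅ Coh.structureModule C) :
    Coh.structureModule C ⟶ L :=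
  β'.inv ≫ (tR L).map (ClSub.idealModι x.ker) ≫ (Groth.Agent.CMMul.unitorL L).hom

/-- the canonical section of `L` when `I(x) ⊗ L ≅ O` -/
noncomputable def sigmaSec
    (β' : CohB1.tensorMod (ClSub.idealMod x.ker) L ≅ Coh.structureModule C) : Γ(L, ⊤) :=
  ap (sigmaHom x L β') ⊤ (toM (1 : Γ(C, ⊤)))

set_option maxHeartbeats 3200000 in
/-- **the canonical section freely generates `H^0` of the fibres** -/
theorem secSpansAt_sigmaSec [IsProper f] [Smooth f] [GeometricallyConnected f]
    (hx : x ≫ f = 𝟙 S) (hL : PicF.IsInvertible L)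
    (β' : CohB1.tensorMod (ClSub.idealMod x.ker) L ≅ Coh.structureModule C) (s : S)
    (hdim : topologicalKrullDim ↥(f.fiber s) = 1)
    (hg : 1 ≤ CohIII.fiberRank f (Coh.structureModule C) 1 s) :
    SecSpansAt f L (sigmaSec x L β') s := by
  letI : (f.fiber s).Over (Spec (CommRingCat.of (S.residueField s))) :=
    ⟨f.fiberToSpecResidueField s⟩
  haveI hsm : Smooth (f.fiberToSpecResidueField s) := by
    show Smooth (pullback.snd f (S.fromSpecResidueField s))
    infer_instance
  haveI hpr : IsProper ((f.fiber s) ↘ Spec (CommRingCat.of (S.residueField s))) := by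
    show IsProper (pullback.snd f (S.fromSpecResidueField s))
    infer_instance
  haveI hgr : GeometricallyReduced ((f.fiber s) ↘ Spec (CommRingCat.of (S.residueField s))) :=
    Groth.Agent.Lib.ActZeroDimH4.geomRed_of_smooth (f.fiberToSpecResidueField s)
  haveI hgc : GeometricallyConnected
      ((f.fiber s) ↘ Spec (CommRingCat.of (S.residueField s))) := by
    show GeometricallyConnected (f.fiberToSpecResidueField s)
    infer_instance
  haveI : IsIntegral (f.fiber s) :=
    isIntegral_of_smooth_connected (S.residueField s) (f.fiberToSpecResidueField s)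
  have h00 : Module.finrank (S.residueField s)
      (Coh.HH (f.fiber s) (Coh.structureModule (f.fiber s)) 0) = 1 :=
    Groth.Agent.Lib.H0ConstH4.main1536 (S.residueField s) (f.fiber s)
  have eO : CohIII.fiberRank f (Coh.structureModule C) 1 s =
      Module.finrank (S.residueField s)
        (Coh.HH (f.fiber s) (Coh.structureModule (f.fiber s)) 1) :=
    (Groth.Agent.Lib.StalkFFH2.HHlinEquiv (S.residueField s)
      (PBH8.pullbackUnitIso (f.fiberι s)) 1).finrank_eq
  rw [eO] at hg
  -- invertibility
  have hI : PicF.IsInvertible (ClSub.idealMod x.ker) := InvTensH8.isInvertible_of_tensor_iso β'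
  have hN : PicF.IsInvertible ((Scheme.Modules.pullback (f.fiberι s)).obj L) :=
    TensH8.isInvertible_pullback _ hL
  have hJ : PicF.IsInvertible ((Scheme.Modules.pullback (f.fiberι s)).obj
      (ClSub.idealMod x.ker)) := TensH8.isInvertible_pullback _ hI
  let e : CohB1.tensorMod ((Scheme.Modules.pullback (f.fiberι s)).obj (ClSub.idealMod x.ker))
      ((Scheme.Modules.pullback (f.fiberι s)).obj L) ≅ Coh.structureModule (f.fiber s) :=
    (PullTensH9.pullTensIso (f.fiberι s) hI hL).symm ≪≫
      (Scheme.Modules.pullback (f.fiberι s)).mapIso β' ≪≫ PBH8.pullbackUnitIso (f.fiberι s)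
  -- the restricted ideal
  have hq : IsIso (secFibι f x s ≫
      ((f.fiber s) ↘ Spec (CommRingCat.of (S.residueField s)))) :=
    isIso_secFib_comp f x s hx
  have hφ : idealFib f x s ≠ 0 := by
    intro h
    exact not_iso_unit_push_of_isIso (S.residueField s) (secFibι f x s) hq hdim
      (cokernelZeroIsoTarget.symm ≪≫ cokernelIsoOfEq h.symm ≪≫ cokerIdealFibIso f x s)
  have hQ : Module.finrank (S.residueField s)
      (Coh.HH (f.fiber s) (cokernel (idealFib f x s)) 0) = 1 :=
    (Groth.Agent.Lib.StalkFFH2.HHlinEquiv (S.residueField s)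
      (cokerIdealFibIso f x s) 0).finrank_eq.trans
      (finrank_HH0_push_unit_of_isIso (S.residueField s) (secFibι f x s) hq)
  -- the restriction of the canonical morphism is nonzero
  obtain ⟨Φ⟩ := nonempty_pullback_tR_iso (f.fiberι s) hL
  haveI : (tR ((Scheme.Modules.pullback (f.fiberι s)).obj L)).IsEquivalence :=
    isEquivalence_tR (swap ⟨e⟩)
  have hΨσ : (Scheme.Modules.pullback (f.fiberι s)).map (sigmaHom x L β') ≠ 0 := by
    intro h0
    apply hφ
    have h1 : (tR L).map (ClSub.idealModι x.ker) =
        β'.hom ≫ sigmaHom x L β' ≫ (Groth.Agent.CMMul.unitorL L).inv := by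
      unfold sigmaHom
      simp
    have h2 : (Scheme.Modules.pullback (f.fiberι s)).map
        ((tR L).map (ClSub.idealModι x.ker)) = 0 := by
      rw [h1, Functor.map_comp, Functor.map_comp, h0, zero_comp, comp_zero]
    have h4 : (tR ((Scheme.Modules.pullback (f.fiberι s)).obj L)).map
        ((Scheme.Modules.pullback (f.fiberι s)).map (ClSub.idealModι x.ker)) = 0 := by
      have h3 : (Scheme.Modules.pullback (f.fiberι s)).map
            ((tR L).map (ClSub.idealModι x.ker)) ≫ Φ.hom.app _ =
          Φ.hom.app _ ≫ (tR ((Scheme.Modules.pullback (f.fiberι s)).obj L)).map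
            ((Scheme.Modules.pullback (f.fiberι s)).map (ClSub.idealModι x.ker)) :=
        Φ.hom.naturality (ClSub.idealModι x.ker)
      rw [h2, zero_comp] at h3
      exact (cancel_epi (Φ.hom.app _)).mp (by rw [← h3, comp_zero])
    have h5 : (Scheme.Modules.pullback (f.fiberι s)).map (ClSub.idealModι x.ker) = 0 :=
      (tR ((Scheme.Modules.pullback (f.fiberι s)).obj L)).map_injective
        (h4.trans (Functor.map_zero _ _ _).symm)
    unfold idealFib
    rw [h5, zero_comp]
  -- the restricted section is nonzero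
  have hU : (f.fiberToSpecResidueField s) ⁻¹ᵁ ⊤ ≤ (f.fiberι s) ⁻¹ᵁ ⊤ :=
    le_preimage_top' (f.fiberι s) _
  have hv : fibSec f L (sigmaSec x L β') s ≠ 0 := by
    intro hv0
    apply hΨσ
    have hz : (PBH8.pullbackUnitIso (f.fiberι s)).inv ≫
        (Scheme.Modules.pullback (f.fiberι s)).map (sigmaHom x L β') = 0 := by
      apply CurveIdeal.hom_eq_zero_of_ap_one
      have hw : ap (PBH8.pullbackUnitIso (f.fiberι s)).hom
          ((f.fiberToSpecResidueField s) ⁻¹ᵁ ⊤)
          (PBH8.cUV (f.fiberι s) (OO C) hU (ofFn (1 : Γ(C, ⊤)))) =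
          toM (1 : Γ(f.fiber s, (f.fiberToSpecResidueField s) ⁻¹ᵁ ⊤)) := by
        have h6 := Groth.Agent.FieldDesc.pullbackUnitIso_cUV (f := f.fiberι s) hU (1 : Γ(C, ⊤))
        rw [map_one] at h6
        exact h6
      have hw' : PBH8.cUV (f.fiberι s) (OO C) hU (ofFn (1 : Γ(C, ⊤))) =
          ap (PBH8.pullbackUnitIso (f.fiberι s)).inv ((f.fiberToSpecResidueField s) ⁻¹ᵁ ⊤)
            (toM (1 : Γ(f.fiber s, (f.fiberToSpecResidueField s) ⁻¹ᵁ ⊤))) := by
        rw [← hw]
        exact (congrArg (fun ψ => (Scheme.Modules.Hom.app ψ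
          ((f.fiberToSpecResidueField s) ⁻¹ᵁ ⊤))
          (PBH8.cUV (f.fiberι s) (OO C) hU (ofFn (1 : Γ(C, ⊤)))))
          (PBH8.pullbackUnitIso (f.fiberι s)).hom_inv_id).symm
      have hnat := PBH8.cUV_naturality (f.fiberι s) (sigmaHom x L β') hU
        (toM (1 : Γ(C, ⊤)))
      show ap ((Scheme.Modules.pullback (f.fiberι s)).map (sigmaHom x L β'))
          ((f.fiberToSpecResidueField s) ⁻¹ᵁ ⊤)
          (ap (PBH8.pullbackUnitIso (f.fiberι s)).inv ((f.fiberToSpecResidueField s) ⁻¹ᵁ ⊤)
            (toM (1 : Γ(f.fiber s, (f.fiberToSpecResidueField s) ⁻¹ᵁ ⊤)))) = 0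
      rw [← hw']
      exact hnat.trans hv0
    exact (cancel_epi (PBH8.pullbackUnitIso (f.fiberι s)).inv).mp (hz.trans comp_zero.symm)
  -- the dimension of `H^0`
  let vk : (CohIII.globalSectionsA (S.residueField s)).obj
      ((Scheme.Modules.pullback (f.fiberι s)).obj L) := fibSec f L (sigmaSec x L β') s
  have hvk : vk ≠ 0 := hv
  have hnt : Nontrivial (Coh.HH (f.fiber s) ((Scheme.Modules.pullback (f.fiberι s)).obj L) 0) :=
    ⟨⟨gsEquiv (S.residueField s) _ vk, 0, fun h =>
      hvk ((gsEquiv (S.residueField s) _).map_eq_zero_iff.mp h)⟩⟩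
  have hfr := finrank_H0_eq_one_of_inverse_ideal (S.residueField s) (f.fiber s) hdim h00 hg
    hJ hN e (idealFib f x s) hφ hQ hnt
  have hfr' : Module.finrank (S.residueField s)
      ((CohIII.globalSectionsA (S.residueField s)).obj
        ((Scheme.Modules.pullback (f.fiberι s)).obj L)) = 1 :=
    (gsEquiv (S.residueField s) _).finrank_eq.trans hfr
  have hsurj := (finrank_eq_one_iff_of_nonzero' vk hvk).mp hfr'
  have hinj : Function.Injective (fun c : S.residueField s => c • vk) :=
    smul_left_injective (S.residueField s) hvk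
  have hb2 : Function.Bijective (Scheme.ΓSpecIso (CommRingCat.of (S.residueField s))).inv.hom :=
    ConcreteCategory.bijective_of_isIso (Scheme.ΓSpecIso (CommRingCat.of (S.residueField s))).inv
  have key : ∀ c : S.residueField s,
      (show Γ((Scheme.Modules.pullback (f.fiberι s)).obj L,
          (f.fiberToSpecResidueField s) ⁻¹ᵁ ⊤) from c • vk) =
        ((f.fiberToSpecResidueField s).app ⊤).hom
          ((Scheme.ΓSpecIso (CommRingCat.of (S.residueField s))).inv.hom c) •
          fibSec f L (sigmaSec x L β') s := by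
    intro c
    have h1 := gs_smul (S.residueField s) ((Scheme.Modules.pullback (f.fiberι s)).obj L) c vk
    have h2 : rUHom (A := S.residueField s) (X := f.fiber s) ⊤ c =
        Coh.toGlobal ((f.fiber s) ↘ Spec (CommRingCat.of (S.residueField s))) c :=
      resTop_top _
    rw [h2] at h1
    exact h1
  unfold SecSpansAt
  refine (Function.Bijective.of_comp_iff _ hb2).mp ?_
  have hcomp : (fun b : Γ(Spec (S.residueField s), ⊤) =>
        ((f.fiberToSpecResidueField s).app ⊤).hom b • fibSec f L (sigmaSec x L β') s) ∘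
      (Scheme.ΓSpecIso (CommRingCat.of (S.residueField s))).inv.hom =
      fun c : S.residueField s =>
        (show Γ((Scheme.Modules.pullback (f.fiberι s)).obj L,
          (f.fiberToSpecResidueField s) ⁻¹ᵁ ⊤) from c • vk) :=
    funext fun c => (key c).symm
  rw [hcomp]
  exact ⟨hinj, hsurj⟩

end Main

end Groth.Agent.Lib.CBCH2
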