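import Mathlib
import Groth.Prelude
import Groth.Agent.Lib.SecCurve_helper2
import Groth.Agent.Lib.Tens30_helper8
import Groth.Agent.Lib.Tens45_helper8

/-!
# A section of a family of curves of genus `≥ 1` is determined by its bundle `O(x)` (helper2)
APPEND-ONLY once landed.
-/

set_option autoImplicit false
set_option backward.isDefEq.respectTransparency false
set_option backward.isDefEq.respectTransparency.types false
set_option linter.style.haveILetI false
set_option linter.unusedSectionVars false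
universe u

open CategoryTheory CategoryTheory.Limits AlgebraicGeometry TopologicalSpace Opposite

namespace Groth.Agent.Lib.CBCH2

open Groth.Agent.TensInv CohB1 QcqsLoc QCohExtn FLFH8 SerreCrit GenLocH8 TensH8

section HomExt

variable {X : Scheme.{u}}

/-- morphisms out of the structure module are determined by the image of `1` -/
theorem hom_ext_of_ap_one {A : X.Modules} (u u' : Coh.structureModule X ⟶ A)
    (h : ap u ⊤ (toM (1 : Γ(X, ⊤))) = ap u' ⊤ (toM (1 : Γ(X, ⊤)))) : u = u' := by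
  apply Scheme.Modules.hom_ext
  intro O
  ext σ
  show ap u O σ = ap u' O σ
  obtain ⟨d, hd⟩ := ((isGen_one (X := X) ⊤).res (le_top : O ≤ ⊤)).exists_coef σ
  rw [hd, ap_smul, ap_smul, ap_rF, ap_rF, h]

end HomExt

section Uniq

variable {C S : Scheme.{u}} (f : C ⟶ S) (x x' : S ⟶ C) (L : C.Modules)

set_option maxHeartbeats 1600000 in
/-- if the canonical section of `L ≅ O(x)` generates `f_* L`, every other section `x'` with
`L ≅ O(x')` has a smaller ideal -/
theorem ker_le_of_sections [IsProper f] [LocallyOfFinitePresentation f] [Coh.IsQCoh L]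
    (hfp : CohB1.IsFP L) (hfl : FlatMod.IsFlatOver f L)
    (β' : CohB1.tensorMod (ClSub.idealMod x.ker) L ≅ Coh.structureModule C)
    (β'' : CohB1.tensorMod (ClSub.idealMod x'.ker) L ≅ Coh.structureModule C)
    [(tR L).IsEquivalence]
    (h : ∀ s : S, SecSpansAt f L (sigmaSec x L β') s) : x'.ker ≤ x.ker := by
  obtain ⟨a, ha⟩ := exists_smul_eq_of_section f L hfp hfl (sigmaSec x L β') h
    (sigmaSec x' L β'')
  let b : Γ(C, f ⁻¹ᵁ ⊤) := (f.app ⊤).hom a
  have h3 : (show Γ(L, f ⁻¹ᵁ ⊤) from pushSec f L (sigmaSec x' L β'') ⊤) =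
      (show Γ(L, f ⁻¹ᵁ ⊤) from sigmaSec x' L β'') :=
    SubExt.rF_self L le_top (sigmaSec x' L β'')
  have h4 : (show Γ(L, f ⁻¹ᵁ ⊤) from pushSec f L (sigmaSec x L β') ⊤) =
      (show Γ(L, f ⁻¹ᵁ ⊤) from sigmaSec x L β') :=
    SubExt.rF_self L le_top (sigmaSec x L β')
  have hτ : (show Γ(L, f ⁻¹ᵁ ⊤) from sigmaSec x' L β'') =
      b • (show Γ(L, f ⁻¹ᵁ ⊤) from sigmaSec x L β') :=
    h3.symm.trans (ha.trans (congrArg (fun z : Γ(L, f ⁻¹ᵁ ⊤) => b • z) h4))
  let m₀ : Coh.structureModule C ⟶ Coh.structureModule C :=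
    SDivGenH8.unitHom (Coh.structureModule C) (toM (show Γ(C, ⊤) from b))
  have hσ : sigmaHom x' L β'' = m₀ ≫ sigmaHom x L β' := by
    apply hom_ext_of_ap_one
    have h1 : ap m₀ ⊤ (toM (1 : Γ(C, ⊤))) = toM (show Γ(C, ⊤) from b) :=
      Groth.Agent.Lib.H0LiftH2.ap_unitHom_one _ _
    show sigmaSec x' L β'' = ap (sigmaHom x L β') ⊤ (ap m₀ ⊤ (toM (1 : Γ(C, ⊤))))
    rw [h1]
    have h2 : toM (show Γ(C, ⊤) from b) = (show Γ(C, ⊤) from b) • toM (1 : Γ(C, ⊤)) :=
      (mul_one (show Γ(C, ⊤) from b)).symm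
    rw [h2, ap_smul]
    exact hτ
  have e1 : β''.hom ≫ sigmaHom x' L β'' =
      (tR L).map (ClSub.idealModι x'.ker) ≫ (Groth.Agent.CMMul.unitorL L).hom := by
    unfold sigmaHom
    simp
  have e2 : β'.hom ≫ sigmaHom x L β' =
      (tR L).map (ClSub.idealModι x.ker) ≫ (Groth.Agent.CMMul.unitorL L).hom := by
    unfold sigmaHom
    simp
  have e3 : (tR L).map (ClSub.idealModι x'.ker) =
      (β''.hom ≫ m₀ ≫ β'.inv) ≫ (tR L).map (ClSub.idealModι x.ker) := by
    rw [← cancel_mono (Groth.Agent.CMMul.unitorL L).hom, ← e1, hσ]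
    simp only [Category.assoc]
    rw [← e2]
    simp
  obtain ⟨γ, hγ⟩ := (tR L).map_surjective (β''.hom ≫ m₀ ≫ β'.inv)
  have e4 : ClSub.idealModι x'.ker = γ ≫ ClSub.idealModι x.ker :=
    (tR L).map_injective (by rw [Functor.map_comp, hγ]; exact e3)
  rw [Scheme.IdealSheafData.le_def]
  intro U a' ha'
  obtain ⟨t, ht⟩ := TensH8.exists_idealMod_section x'.ker U.2 a' ha'
  have h5 := TensH8.idealModι_mem x.ker U.2 (ap γ U.1 t)
  rw [← ht, e4]
  exact h5

/-- two sections of a separated morphism with comparable ideals agree -/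
theorem section_eq_of_ker_le [IsSeparated f] (hx : x ≫ f = 𝟙 S) (hx' : x' ≫ f = 𝟙 S)
    (hle : x'.ker ≤ x.ker) : x' = x := by
  haveI := isIso_subschemeι_comp f x' hx'
  let e : S ⟶ x'.ker.subscheme := x.toImage ≫ Scheme.IdealSheafData.inclusion hle
  have h1 : e ≫ x'.ker.subschemeι = x := by
    show (x.toImage ≫ Scheme.IdealSheafData.inclusion hle) ≫ x'.ker.subschemeι = x
    rw [Category.assoc, Scheme.IdealSheafData.inclusion_subschemeι]
    exact x.toImage_imageι
  have h2 : e ≫ (x'.ker.subschemeι ≫ f) = 𝟙 S := by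
    rw [← Category.assoc, h1, hx]
  have h3 : x'.toImage ≫ (x'.ker.subschemeι ≫ f) = 𝟙 S := by
    rw [← Category.assoc]
    have h := x'.toImage_imageι
    rw [h]
    exact hx'
  have h4 : e = x'.toImage := (cancel_mono (x'.ker.subschemeι ≫ f)).mp (h2.trans h3.symm)
  calc x' = x'.toImage ≫ x'.ker.subschemeι := x'.toImage_imageι.symm
    _ = e ≫ x'.ker.subschemeι := by rw [h4]
    _ = x := h1

end Uniq

end Groth.Agent.Lib.CBCH2
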