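import Mathlib
import Groth.Prelude
import Groth.Agent.Lib.SecUniq_helper2

/-!
# Sections of families of curves and their bundles, for an abstract presentation of the ideal
(helper2)

The results of `SecCurve_helper2`, `SecUniq_helper2` with the ideal `I(x)` of the section replaced by
a module `J` with a morphism `J ⟶ O` whose cokernel is `O / I(x)`.
APPEND-ONLY once landed.
-/

set_option autoImplicit false
set_option backward.isDefEq.respectTransparency false
set_option backward.isDefEq.respectTransparency.types false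
set_option linter.style.haveILetI false
set_option linter.unusedSectionVars false
universe u

open CategoryTheory CategoryTheory.Limits AlgebraicGeometry TopologicalSpace Opposite

namespace Groth.Agent.Lib.CBCH2

open Groth.Agent.TensInv CohB1 Groth.Agent.Lib.FibDimH2 Groth.Agent.Lib.BCMainH2
  Groth.Agent.Lib.FormalFnH2 QcqsLoc QCohExtn FLFH8 SerreCrit GenLocH8 TensH8

section FibreG

variable {C S : Scheme.{u}} (f : C ⟶ S) (x : S ⟶ C) (s : S) {J : C.Modules}
  (ιJ : J ⟶ Coh.structureModule C)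

/-- the restriction of `J ⟶ O` to the fibre -/
noncomputable def idealFibG :
    (Scheme.Modules.pullback (f.fiberι s)).obj J ⟶ Coh.structureModule (f.fiber s) :=
  (Scheme.Modules.pullback (f.fiberι s)).map ιJ ≫ (PBH8.pullbackUnitIso (f.fiberι s)).hom

/-- the cokernel of the restriction is the structure sheaf of the fibre of the section -/
noncomputable def cokerIdealFibIsoG (cJ : cokernel ιJ ≅ ClSub.quotMod x.ker) :
    cokernel (idealFibG f s ιJ) ≅
      (Scheme.Modules.pushforward (secFibι f x s)).obj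
        (Coh.structureModule (secFib f x s)) :=
  haveI : PreservesColimits (Scheme.Modules.pullback (f.fiberι s)) :=
    (Scheme.Modules.pullbackPushforwardAdjunction (f.fiberι s)).leftAdjoint_preservesColimits
  cokernelCompIsIso _ _ ≪≫
    (PreservesCokernel.iso (Scheme.Modules.pullback (f.fiberι s)) ιJ).symm ≪≫
    (Scheme.Modules.pullback (f.fiberι s)).mapIso cJ ≪≫
    pullQuotIso f x s

end FibreG

section MainG

variable {C S : Scheme.{u}} (f : C ⟶ S) (x : S ⟶ C) (L : C.Modules) {J : C.Modules}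
  (ιJ : J ⟶ Coh.structureModule C)

/-- the canonical morphism `O ⟶ L` when `J ⊗ L ≅ O` -/
noncomputable def sigmaHomG
    (β' : CohB1.tensorMod J L ≅ Coh.structureModule C) :
    Coh.structureModule C ⟶ L :=
  β'.inv ≫ (tR L).map ιJ ≫ (Groth.Agent.CMMul.unitorL L).hom

/-- the canonical section of `L` when `J ⊗ L ≅ O` -/
noncomputable def sigmaSecG
    (β' : CohB1.tensorMod J L ≅ Coh.structureModule C) : Γ(L, ⊤) :=
  ap (sigmaHomG L ιJ β') ⊤ (toM (1 : Γ(C, ⊤)))

set_option maxHeartbeats 3200000 in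
/-- **the canonical section freely generates `H^0` of the fibres** -/
theorem secSpansAt_sigmaSecG [IsProper f] [Smooth f] [GeometricallyConnected f]
    (hx : x ≫ f = 𝟙 S) (hL : PicF.IsInvertible L)
    (cJ : cokernel ιJ ≅ ClSub.quotMod x.ker)
    (β' : CohB1.tensorMod J L ≅ Coh.structureModule C) (s : S)
    (hdim : topologicalKrullDim ↥(f.fiber s) = 1)
    (hg : 1 ≤ CohIII.fiberRank f (Coh.structureModule C) 1 s) :
    SecSpansAt f L (sigmaSecG L ιJ β') s := by
  letI : (f.fiber s).Over (Spec (CommRingCat.of (S.residueField s))) :=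
    ⟨f.fiberToSpecResidueField s⟩
  haveI hsm : Smooth (f.fiberToSpecResidueField s) := by
    show Smooth (pullback.snd f (S.fromSpecResidueField s))
    infer_instance
  haveI hpr : IsProper ((f.fiber s) ↘ Spec (CommRingCat.of (S.residueField s))) := by
    show IsProper (pullback.snd f (S.fromSpecResidueField s))
    infer_instance
  haveI hgr : GeometricallyReduced ((f.fiber s) ↘ Spec (CommRingCat.of (S.residueField s))) :=
    Groth.Agent.Lib.ActZeroDimH4.geomRed_of_smooth (f.fiberToSpecResidueField s)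
  haveI hgc : GeometricallyConnected
      ((f.fiber s) ↘ Spec (CommRingCat.of (S.residueField s))) := by
    show GeometricallyConnected (f.fiberToSpecResidueField s)
    infer_instance
  haveI : IsIntegral (f.fiber s) :=
    isIntegral_of_smooth_connected (S.residueField s) (f.fiberToSpecResidueField s)
  have h00 : Module.finrank (S.residueField s)
      (Coh.HH (f.fiber s) (Coh.structureModule (f.fiber s)) 0) = 1 :=
    Groth.Agent.Lib.H0ConstH4.main1536 (S.residueField s) (f.fiber s)
  have eO : CohIII.fiberRank f (Coh.structureModule C) 1 s =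
      Module.finrank (S.residueField s)
        (Coh.HH (f.fiber s) (Coh.structureModule (f.fiber s)) 1) :=
    (Groth.Agent.Lib.StalkFFH2.HHlinEquiv (S.residueField s)
      (PBH8.pullbackUnitIso (f.fiberι s)) 1).finrank_eq
  rw [eO] at hg
  -- invertibility
  have hI : PicF.IsInvertible J := InvTensH8.isInvertible_of_tensor_iso β'
  have hN : PicF.IsInvertible ((Scheme.Modules.pullback (f.fiberι s)).obj L) :=
    TensH8.isInvertible_pullback _ hL
  have hJ : PicF.IsInvertible ((Scheme.Modules.pullback (f.fiberι s)).obj J) :=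
    TensH8.isInvertible_pullback _ hI
  let e : CohB1.tensorMod ((Scheme.Modules.pullback (f.fiberι s)).obj J)
      ((Scheme.Modules.pullback (f.fiberι s)).obj L) ≅ Coh.structureModule (f.fiber s) :=
    (PullTensH9.pullTensIso (f.fiberι s) hI hL).symm ≪≫
      (Scheme.Modules.pullback (f.fiberι s)).mapIso β' ≪≫ PBH8.pullbackUnitIso (f.fiberι s)
  -- the restricted ideal
  have hq : IsIso (secFibι f x s ≫
      ((f.fiber s) ↘ Spec (CommRingCat.of (S.residueField s)))) :=
    isIso_secFib_comp f x s hx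
  have hφ : idealFibG f s ιJ ≠ 0 := by
    intro h
    exact not_iso_unit_push_of_isIso (S.residueField s) (secFibι f x s) hq hdim
      (cokernelZeroIsoTarget.symm ≪≫ cokernelIsoOfEq h.symm ≪≫ cokerIdealFibIsoG f x s ιJ cJ)
  have hQ : Module.finrank (S.residueField s)
      (Coh.HH (f.fiber s) (cokernel (idealFibG f s ιJ)) 0) = 1 :=
    (Groth.Agent.Lib.StalkFFH2.HHlinEquiv (S.residueField s)
      (cokerIdealFibIsoG f x s ιJ cJ) 0).finrank_eq.trans
      (finrank_HH0_push_unit_of_isIso (S.residueField s) (secFibι f x s) hq)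
  -- the restriction of the canonical morphism is nonzero
  obtain ⟨Φ⟩ := nonempty_pullback_tR_iso (f.fiberι s) hL
  haveI : (tR ((Scheme.Modules.pullback (f.fiberι s)).obj L)).IsEquivalence :=
    isEquivalence_tR (swap ⟨e⟩)
  have hΨσ : (Scheme.Modules.pullback (f.fiberι s)).map (sigmaHomG L ιJ β') ≠ 0 := by
    intro h0
    apply hφ
    have h1 : (tR L).map ιJ =
        β'.hom ≫ sigmaHomG L ιJ β' ≫ (Groth.Agent.CMMul.unitorL L).inv := by
      unfold sigmaHomG
      simp
    have h2 : (Scheme.Modules.pullback (f.fiberι s)).map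
        ((tR L).map ιJ) = 0 := by
      rw [h1, Functor.map_comp, Functor.map_comp, h0, zero_comp, comp_zero]
    have h4 : (tR ((Scheme.Modules.pullback (f.fiberι s)).obj L)).map
        ((Scheme.Modules.pullback (f.fiberι s)).map ιJ) = 0 := by
      have h3 : (Scheme.Modules.pullback (f.fiberι s)).map
            ((tR L).map ιJ) ≫ Φ.hom.app _ =
          Φ.hom.app _ ≫ (tR ((Scheme.Modules.pullback (f.fiberι s)).obj L)).map
            ((Scheme.Modules.pullback (f.fiberι s)).map ιJ) :=
        Φ.hom.naturality ιJ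
      rw [h2, zero_comp] at h3
      exact (cancel_epi (Φ.hom.app _)).mp (by rw [← h3, comp_zero])
    have h5 : (Scheme.Modules.pullback (f.fiberι s)).map ιJ = 0 :=
      (tR ((Scheme.Modules.pullback (f.fiberι s)).obj L)).map_injective
        (h4.trans (Functor.map_zero _ _ _).symm)
    unfold idealFibG
    rw [h5, zero_comp]
  -- the restricted section is nonzero
  have hU : (f.fiberToSpecResidueField s) ⁻¹ᵁ ⊤ ≤ (f.fiberι s) ⁻¹ᵁ ⊤ :=
    le_preimage_top' (f.fiberι s) _
  have hv : fibSec f L (sigmaSecG L ιJ β') s ≠ 0 := by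
    intro hv0
    apply hΨσ
    have hz : (PBH8.pullbackUnitIso (f.fiberι s)).inv ≫
        (Scheme.Modules.pullback (f.fiberι s)).map (sigmaHomG L ιJ β') = 0 := by
      apply CurveIdeal.hom_eq_zero_of_ap_one
      have hw : ap (PBH8.pullbackUnitIso (f.fiberι s)).hom
          ((f.fiberToSpecResidueField s) ⁻¹ᵁ ⊤)
          (PBH8.cUV (f.fiberι s) (OO C) hU (ofFn (1 : Γ(C, ⊤)))) =
          toM (1 : Γ(f.fiber s, (f.fiberToSpecResidueField s) ⁻¹ᵁ ⊤)) := by
        have h6 := Groth.Agent.FieldDesc.pullbackUnitIso_cUV (f := f.fiberι s) hU (1 : Γ(C, ⊤))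
        rw [map_one] at h6
        exact h6
      have hw' : PBH8.cUV (f.fiberι s) (OO C) hU (ofFn (1 : Γ(C, ⊤))) =
          ap (PBH8.pullbackUnitIso (f.fiberι s)).inv ((f.fiberToSpecResidueField s) ⁻¹ᵁ ⊤)
            (toM (1 : Γ(f.fiber s, (f.fiberToSpecResidueField s) ⁻¹ᵁ ⊤))) := by
        rw [← hw]
        exact (congrArg (fun ψ => (Scheme.Modules.Hom.app ψ
          ((f.fiberToSpecResidueField s) ⁻¹ᵁ ⊤))
          (PBH8.cUV (f.fiberι s) (OO C) hU (ofFn (1 : Γ(C, ⊤)))))
          (PBH8.pullbackUnitIso (f.fiberι s)).hom_inv_id).symm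
      have hnat := PBH8.cUV_naturality (f.fiberι s) (sigmaHomG L ιJ β') hU
        (toM (1 : Γ(C, ⊤)))
      show ap ((Scheme.Modules.pullback (f.fiberι s)).map (sigmaHomG L ιJ β'))
          ((f.fiberToSpecResidueField s) ⁻¹ᵁ ⊤)
          (ap (PBH8.pullbackUnitIso (f.fiberι s)).inv ((f.fiberToSpecResidueField s) ⁻¹ᵁ ⊤)
            (toM (1 : Γ(f.fiber s, (f.fiberToSpecResidueField s) ⁻¹ᵁ ⊤)))) = 0
      rw [← hw']
      exact hnat.trans hv0
    exact (cancel_epi (PBH8.pullbackUnitIso (f.fiberι s)).inv).mp (hz.trans comp_zero.symm)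
  -- the dimension of `H^0`
  let vk : (CohIII.globalSectionsA (S.residueField s)).obj
      ((Scheme.Modules.pullback (f.fiberι s)).obj L) := fibSec f L (sigmaSecG L ιJ β') s
  have hvk : vk ≠ 0 := hv
  have hnt : Nontrivial (Coh.HH (f.fiber s) ((Scheme.Modules.pullback (f.fiberι s)).obj L) 0) :=
    ⟨⟨gsEquiv (S.residueField s) _ vk, 0, fun h =>
      hvk ((gsEquiv (S.residueField s) _).map_eq_zero_iff.mp h)⟩⟩
  have hfr := finrank_H0_eq_one_of_inverse_ideal (S.residueField s) (f.fiber s) hdim h00 hg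
    hJ hN e (idealFibG f s ιJ) hφ hQ hnt
  have hfr' : Module.finrank (S.residueField s)
      ((CohIII.globalSectionsA (S.residueField s)).obj
        ((Scheme.Modules.pullback (f.fiberι s)).obj L)) = 1 :=
    (gsEquiv (S.residueField s) _).finrank_eq.trans hfr
  have hsurj := (finrank_eq_one_iff_of_nonzero' vk hvk).mp hfr'
  have hinj : Function.Injective (fun c : S.residueField s => c • vk) :=
    smul_left_injective (S.residueField s) hvk
  have hb2 : Function.Bijective (Scheme.ΓSpecIso (CommRingCat.of (S.residueField s))).inv.hom :=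
    ConcreteCategory.bijective_of_isIso (Scheme.ΓSpecIso (CommRingCat.of (S.residueField s))).inv
  have key : ∀ c : S.residueField s,
      (show Γ((Scheme.Modules.pullback (f.fiberι s)).obj L,
          (f.fiberToSpecResidueField s) ⁻¹ᵁ ⊤) from c • vk) =
        ((f.fiberToSpecResidueField s).app ⊤).hom
          ((Scheme.ΓSpecIso (CommRingCat.of (S.residueField s))).inv.hom c) •
          fibSec f L (sigmaSecG L ιJ β') s := by
    intro c
    have h1 := gs_smul (S.residueField s) ((Scheme.Modules.pullback (f.fiberι s)).obj L) c vk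
    have h2 : rUHom (A := S.residueField s) (X := f.fiber s) ⊤ c =
        Coh.toGlobal ((f.fiber s) ↘ Spec (CommRingCat.of (S.residueField s))) c :=
      resTop_top _
    rw [h2] at h1
    exact h1
  unfold SecSpansAt
  refine (Function.Bijective.of_comp_iff _ hb2).mp ?_
  have hcomp : (fun b : Γ(Spec (S.residueField s), ⊤) =>
        ((f.fiberToSpecResidueField s).app ⊤).hom b • fibSec f L (sigmaSecG L ιJ β') s) ∘
      (Scheme.ΓSpecIso (CommRingCat.of (S.residueField s))).inv.hom =
      fun c : S.residueField s =>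
        (show Γ((Scheme.Modules.pullback (f.fiberι s)).obj L,
          (f.fiberToSpecResidueField s) ⁻¹ᵁ ⊤) from c • vk) :=
    funext fun c => (key c).symm
  rw [hcomp]
  exact ⟨hinj, hsurj⟩

end MainG

section UniqG

variable {C S : Scheme.{u}} (f : C ⟶ S) (x x' : S ⟶ C) (L : C.Modules) {J J' : C.Modules}
  (ιJ : J ⟶ Coh.structureModule C) (ιJ' : J' ⟶ Coh.structureModule C)

set_option maxHeartbeats 1600000 in
/-- if the canonical section of `L ≅ O(x)` generates `f_* L`, every other section `x'` with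
`L ≅ O(x')` has a smaller ideal -/
theorem ker_le_of_sectionsG [IsProper f] [LocallyOfFinitePresentation f] [Coh.IsQCoh L]
    (hfp : CohB1.IsFP L) (hfl : FlatMod.IsFlatOver f L)
    (π : J ⟶ ClSub.idealMod x.ker) (hπ : π ≫ ClSub.idealModι x.ker = ιJ)
    (π' : J' ⟶ ClSub.idealMod x'.ker) [Epi π'] (hπ' : π' ≫ ClSub.idealModι x'.ker = ιJ')
    (β' : CohB1.tensorMod J L ≅ Coh.structureModule C)
    (β'' : CohB1.tensorMod J' L ≅ Coh.structureModule C)
    [(tR L).IsEquivalence]
    (h : ∀ s : S, SecSpansAt f L (sigmaSecG L ιJ β') s) : x'.ker ≤ x.ker := by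
  obtain ⟨a, ha⟩ := exists_smul_eq_of_section f L hfp hfl (sigmaSecG L ιJ β') h
    (sigmaSecG L ιJ' β'')
  let b : Γ(C, f ⁻¹ᵁ ⊤) := (f.app ⊤).hom a
  have h3 : (show Γ(L, f ⁻¹ᵁ ⊤) from pushSec f L (sigmaSecG L ιJ' β'') ⊤) =
      (show Γ(L, f ⁻¹ᵁ ⊤) from sigmaSecG L ιJ' β'') :=
    SubExt.rF_self L le_top (sigmaSecG L ιJ' β'')
  have h4 : (show Γ(L, f ⁻¹ᵁ ⊤) from pushSec f L (sigmaSecG L ιJ β') ⊤) =
      (show Γ(L, f ⁻¹ᵁ ⊤) from sigmaSecG L ιJ β') :=
    SubExt.rF_self L le_top (sigmaSecG L ιJ β')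
  have hτ : (show Γ(L, f ⁻¹ᵁ ⊤) from sigmaSecG L ιJ' β'') =
      b • (show Γ(L, f ⁻¹ᵁ ⊤) from sigmaSecG L ιJ β') :=
    h3.symm.trans (ha.trans (congrArg (fun z : Γ(L, f ⁻¹ᵁ ⊤) => b • z) h4))
  let m₀ : Coh.structureModule C ⟶ Coh.structureModule C :=
    SDivGenH8.unitHom (Coh.structureModule C) (toM (show Γ(C, ⊤) from b))
  have hσ : sigmaHomG L ιJ' β'' = m₀ ≫ sigmaHomG L ιJ β' := by
    apply hom_ext_of_ap_one
    have h1 : ap m₀ ⊤ (toM (1 : Γ(C, ⊤))) = toM (show Γ(C, ⊤) from b) :=
      Groth.Agent.Lib.H0LiftH2.ap_unitHom_one _ _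
    show sigmaSecG L ιJ' β'' = ap (sigmaHomG L ιJ β') ⊤ (ap m₀ ⊤ (toM (1 : Γ(C, ⊤))))
    rw [h1]
    have h2 : toM (show Γ(C, ⊤) from b) = (show Γ(C, ⊤) from b) • toM (1 : Γ(C, ⊤)) :=
      (mul_one (show Γ(C, ⊤) from b)).symm
    rw [h2, ap_smul]
    exact hτ
  have e1 : β''.hom ≫ sigmaHomG L ιJ' β'' =
      (tR L).map ιJ' ≫ (Groth.Agent.CMMul.unitorL L).hom := by
    unfold sigmaHomG
    simp
  have e2 : β'.hom ≫ sigmaHomG L ιJ β' =
      (tR L).map ιJ ≫ (Groth.Agent.CMMul.unitorL L).hom := by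
    unfold sigmaHomG
    simp
  have e3 : (tR L).map ιJ' =
      (β''.hom ≫ m₀ ≫ β'.inv) ≫ (tR L).map ιJ := by
    rw [← cancel_mono (Groth.Agent.CMMul.unitorL L).hom, ← e1, hσ]
    simp only [Category.assoc]
    rw [← e2]
    simp
  obtain ⟨γ, hγ⟩ := (tR L).map_surjective (β''.hom ≫ m₀ ≫ β'.inv)
  have e4 : ιJ' = γ ≫ ιJ :=
    (tR L).map_injective (by rw [Functor.map_comp, hγ]; exact e3)
  -- the ideal of `x'` maps to zero in `O / I(x)`
  have e5 : ClSub.idealModι x'.ker ≫ ClSub.toSubscheme x.ker = 0 := by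
    rw [← cancel_epi π', ← Category.assoc, hπ', e4, ← hπ, comp_zero]
    simp only [Category.assoc]
    have h0 : ClSub.idealModι x.ker ≫ ClSub.toSubscheme x.ker = 0 := kernel.condition _
    rw [h0, comp_zero, comp_zero]
  let γ' : ClSub.idealMod x'.ker ⟶ ClSub.idealMod x.ker :=
    kernel.lift (ClSub.toSubscheme x.ker) (ClSub.idealModι x'.ker) e5
  have e6 : ClSub.idealModι x'.ker = γ' ≫ ClSub.idealModι x.ker :=
    (kernel.lift_ι (ClSub.toSubscheme x.ker) (ClSub.idealModι x'.ker) e5).symm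
  rw [Scheme.IdealSheafData.le_def]
  intro U a' ha'
  obtain ⟨t, ht⟩ := TensH8.exists_idealMod_section x'.ker U.2 a' ha'
  have h5 := TensH8.idealModι_mem x.ker U.2 (ap γ' U.1 t)
  rw [← ht, e6]
  exact h5

end UniqG

end Groth.Agent.Lib.CBCH2
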