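import Mathlib
import Groth.Prelude
import Groth.Agent.Lib.SecUniq_helper2

/-!
# Pullback of the ideal of a closed subscheme along a morphism (helper2)

For a pullback square of closed subschemes `Z' = g^{-1}(Z)`: `g^*(O_X / I) ≅ O_{X'} / I'`
compatibly with the maps from the structure sheaves, and the ideal `I'` is the image of `g^* I`.
APPEND-ONLY once landed.
-/

set_option autoImplicit false
set_option backward.isDefEq.respectTransparency false
set_option backward.isDefEq.respectTransparency.types false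
set_option linter.style.haveILetI false
set_option linter.unusedSectionVars false
universe u

open CategoryTheory CategoryTheory.Limits AlgebraicGeometry TopologicalSpace Opposite

namespace Groth.Agent.Lib.CBCH2

open Groth.Agent.TensInv CohB1 QcqsLoc QCohExtn FLFH8 SerreCrit GenLocH8 TensH8

section IdealPull

variable {X X' : Scheme.{u}} (g : X' ⟶ X) (I : X.IdealSheafData) (I' : X'.IdealSheafData)
  (g' : I'.subscheme ⟶ I.subscheme) (hc : IsPullback g' I'.subschemeι I.subschemeι g)

/-- base change of the structure sheaf of a closed subscheme -/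
noncomputable def pullQuotIsoG :
    (Scheme.Modules.pullback g).obj (ClSub.quotMod I) ≅ ClSub.quotMod I' :=
  haveI : (Coh.structureModule I.subscheme).IsQuasicoherent := SerreCrit.isQuasicoherent_OO
  haveI : IsIso (AffBCH8.bc hc (Coh.structureModule I.subscheme)) := AffBCH8.bc_isIso _ _
  asIso (AffBCH8.bc hc (Coh.structureModule I.subscheme)) ≪≫
    (Scheme.Modules.pushforward I'.subschemeι).mapIso (PBH8.pullbackUnitIso g')

set_option maxHeartbeats 1600000 in
/-- the base change isomorphism is compatible with the maps from the structure sheaves -/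
theorem pullQuotIsoG_comm :
    (Scheme.Modules.pullback g).map (ClSub.toSubscheme I) ≫ (pullQuotIsoG g I I' g' hc).hom =
      (PBH8.pullbackUnitIso g).hom ≫ ClSub.toSubscheme I' := by
  haveI : (Coh.structureModule I.subscheme).IsQuasicoherent := SerreCrit.isQuasicoherent_OO
  haveI : IsIso (AffBCH8.bc hc (Coh.structureModule I.subscheme)) := AffBCH8.bc_isIso _ _
  rw [← cancel_epi (PBH8.pullbackUnitIso g).inv]
  apply hom_ext_of_ap_one
  have hU : (⊤ : X'.Opens) ≤ g ⁻¹ᵁ ⊤ := le_preimage_top' g _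
  have hw : ap (PBH8.pullbackUnitIso g).hom ⊤ (PBH8.cUV g (OO X) hU (ofFn (1 : Γ(X, ⊤)))) =
      toM (1 : Γ(X', ⊤)) := by
    have h6 := Groth.Agent.FieldDesc.pullbackUnitIso_cUV (f := g) hU (1 : Γ(X, ⊤))
    rw [map_one] at h6
    exact h6
  have hw' : PBH8.cUV g (OO X) hU (ofFn (1 : Γ(X, ⊤))) =
      ap (PBH8.pullbackUnitIso g).inv ⊤ (toM (1 : Γ(X', ⊤))) := by
    rw [← hw]
    exact (congrArg (fun ψ => (Scheme.Modules.Hom.app ψ (⊤ : X'.Opens))
      (PBH8.cUV g (OO X) hU (ofFn (1 : Γ(X, ⊤))))) (PBH8.pullbackUnitIso g).hom_inv_id).symm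
  -- the right hand side
  have hR : ap ((PBH8.pullbackUnitIso g).inv ≫ (PBH8.pullbackUnitIso g).hom ≫
      ClSub.toSubscheme I') ⊤ (toM (1 : Γ(X', ⊤))) = oneSec I'.subschemeι ⊤ := by
    rw [Iso.inv_hom_id_assoc]
    show (I'.subschemeι.app ⊤).hom (1 : Γ(X', ⊤)) = (1 : Γ(I'.subscheme, I'.subschemeι ⁻¹ᵁ ⊤))
    exact map_one _
  -- the left hand side
  have h' : I'.subschemeι ⁻¹ᵁ ⊤ ≤ g' ⁻¹ᵁ (I.subschemeι ⁻¹ᵁ ⊤) := fun _ _ => trivial
  have hL : ap ((PBH8.pullbackUnitIso g).inv ≫ (Scheme.Modules.pullback g).map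
      (ClSub.toSubscheme I) ≫ (pullQuotIsoG g I I' g' hc).hom) ⊤ (toM (1 : Γ(X', ⊤))) =
      oneSec I'.subschemeι ⊤ := by
    show ap ((Scheme.Modules.pushforward I'.subschemeι).map (PBH8.pullbackUnitIso g').hom) ⊤
      (ap (AffBCH8.bc hc (Coh.structureModule I.subscheme)) ⊤
        (ap ((Scheme.Modules.pullback g).map (ClSub.toSubscheme I)) ⊤
          (ap (PBH8.pullbackUnitIso g).inv ⊤ (toM (1 : Γ(X', ⊤)))))) = _
    rw [← hw']
    have hnat := PBH8.cUV_naturality g (ClSub.toSubscheme I) hU (ofFn (1 : Γ(X, ⊤)))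
    have h1 : (Scheme.Modules.Hom.app (ClSub.toSubscheme I) (⊤ : X.Opens))
        (ofFn (1 : Γ(X, ⊤))) = oneSec I.subschemeι ⊤ := by
      show (I.subschemeι.app ⊤).hom (1 : Γ(X, ⊤)) = (1 : Γ(I.subscheme, I.subschemeι ⁻¹ᵁ ⊤))
      exact map_one _
    rw [h1] at hnat
    have h2 : ap ((Scheme.Modules.pullback g).map (ClSub.toSubscheme I)) ⊤
        (PBH8.cUV g (OO X) hU (ofFn (1 : Γ(X, ⊤)))) =
        PBH8.cUV g (ClSub.quotMod I) hU (oneSec I.subschemeι ⊤) := hnat
    rw [h2]
    have h3 := AffBCH8.bc_cUV hc (Coh.structureModule I.subscheme) hU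
      (oneSec I.subschemeι ⊤) h'
    have h4 : ap (AffBCH8.bc hc (Coh.structureModule I.subscheme)) ⊤
        (PBH8.cUV g (ClSub.quotMod I) hU (oneSec I.subschemeι ⊤)) =
        PBH8.cUV g' (Coh.structureModule I.subscheme) h' (oneSec I.subschemeι ⊤) := h3
    rw [h4]
    have h5 := Groth.Agent.Lib.FEtLef.pullbackUnitIso_cUV (f := g') h'
      (1 : Γ(I.subscheme, I.subschemeι ⁻¹ᵁ ⊤))
    rw [map_one] at h5
    exact h5
  exact hL.trans hR.symm

include hc in
set_option maxHeartbeats 1600000 in
/-- **the ideal of the preimage of a closed subscheme is the image of the pulled back ideal** -/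
theorem exists_epi_pullback_ideal :
    ∃ π : (Scheme.Modules.pullback g).obj (ClSub.idealMod I) ⟶ ClSub.idealMod I',
      Epi π ∧ π ≫ ClSub.idealModι I' =
        (Scheme.Modules.pullback g).map (ClSub.idealModι I) ≫ (PBH8.pullbackUnitIso g).hom := by
  haveI : (Scheme.Modules.pullback g).IsLeftAdjoint :=
    (Scheme.Modules.pullbackPushforwardAdjunction g).isLeftAdjoint
  haveI := preservesBinaryBiproducts_of_preservesBinaryCoproducts (Scheme.Modules.pullback g)
  haveI : (Scheme.Modules.pullback g).Additive := Functor.additive_of_preservesBinaryBiproducts _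
  haveI : PreservesColimits (Scheme.Modules.pullback g) :=
    (Scheme.Modules.pullbackPushforwardAdjunction g).leftAdjoint_preservesColimits
  have hS := Groth.Agent.HypSurf.ses_shortExact I
  haveI : Epi (Groth.Agent.HypSurf.ses I).g := hS.epi_g
  have hex : ((Groth.Agent.HypSurf.ses I).map (Scheme.Modules.pullback g)).Exact :=
    hS.exact.map_of_epi_of_preservesCokernel (Scheme.Modules.pullback g) inferInstance
      inferInstance
  have hcomm := pullQuotIsoG_comm g I I' g' hc
  have w₁ : ((Scheme.Modules.pullback g).map (ClSub.idealModι I) ≫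
      (PBH8.pullbackUnitIso g).hom) ≫ ClSub.toSubscheme I' = 0 := by
    rw [Category.assoc, ← hcomm, ← Category.assoc, ← Functor.map_comp]
    have h0 : ClSub.idealModι I ≫ ClSub.toSubscheme I = 0 := kernel.condition _
    rw [h0, Functor.map_zero, zero_comp]
  let S₁ : ShortComplex X'.Modules := ShortComplex.mk _ _ w₁
  let e : (Groth.Agent.HypSurf.ses I).map (Scheme.Modules.pullback g) ≅ S₁ :=
    ShortComplex.isoMk (Iso.refl _) (PBH8.pullbackUnitIso g) (pullQuotIsoG g I I' g' hc)
      (by
        show 𝟙 _ ≫ ((Scheme.Modules.pullback g).map (ClSub.idealModι I) ≫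
          (PBH8.pullbackUnitIso g).hom) = (Scheme.Modules.pullback g).map (ClSub.idealModι I) ≫
          (PBH8.pullbackUnitIso g).hom
        exact Category.id_comp _)
      (by
        show (PBH8.pullbackUnitIso g).hom ≫ ClSub.toSubscheme I' =
          (Scheme.Modules.pullback g).map (ClSub.toSubscheme I) ≫
            (pullQuotIsoG g I I' g' hc).hom
        exact hcomm.symm)
  have hex₁ : S₁.Exact := ShortComplex.exact_of_iso e hex
  have hepi : Epi (kernel.lift S₁.g S₁.f S₁.zero) := S₁.exact_iff_epi_kernel_lift.mp hex₁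
  refine ⟨kernel.lift (ClSub.toSubscheme I') ((Scheme.Modules.pullback g).map
    (ClSub.idealModι I) ≫ (PBH8.pullbackUnitIso g).hom) w₁, hepi, ?_⟩
  exact kernel.lift_ι _ _ _

end IdealPull

end Groth.Agent.Lib.CBCH2
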