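import Mathlib
import Groth.Prelude
import Groth.Agent.S0034
import Groth.Agent.Lib.ProperFin9_helper9
import Groth.Agent.Lib.CurveTens4_helper9
import Groth.Agent.Lib.PB9_helper8

/-!
# Euler characteristic and degree under extension of the base field (helper9)

Corollaries of flat base change (helper2's S0034).
APPEND-ONLY once landed.
-/

set_option autoImplicit false
universe u
open CategoryTheory CategoryTheory.Limits AlgebraicGeometry Opposite TopologicalSpace

namespace EulerBC

variable (k : Type u) [Field k] (X : Scheme.{u}) [X.Over (Spec (CommRingCat.of k))]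
  (k' : Type u) [Field k'] [Algebra k k']

/-- the dimensions of the cohomology groups do not change under extension of the base field -/
theorem finrank_HH_bc [CompactSpace X] [QuasiSeparatedSpace X] (F : X.Modules) [Coh.IsQCoh F]
    (i : ℕ) :
    @Module.finrank k' (Coh.HH (Curv2.bc k X k')
        ((Scheme.Modules.pullback (Curv2.bcFst k X k')).obj F) i) _ _
      (@Coh.moduleOver k' _ (Curv2.bc k X k') ⟨Curv2.bcSnd k X k'⟩ _ i) =
      Module.finrank k (Coh.HH X F i) := by
  letI : (Curv2.bc k X k').Over (Spec (CommRingCat.of k')) := ⟨Curv2.bcSnd k X k'⟩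
  have hpb : IsPullback (Curv2.bcFst k X k') (Curv2.bc k X k' ↘ Spec (CommRingCat.of k'))
      (X ↘ Spec (CommRingCat.of k)) (Spec.map (CommRingCat.ofHom (algebraMap k k'))) :=
    IsPullback.of_hasPullback _ _
  obtain ⟨e⟩ := Groth.Agent.S0034.result k k' X (Curv2.bc k X k') (Curv2.bcFst k X k') hpb F i
  rw [← e.finrank_eq, Module.finrank_baseChange]

/-- **statement of S7673** (for quasi-coherent modules on a quasi-compact quasi-separated
scheme): the Euler characteristic does not change under extension of the base field -/
theorem euler_bc [CompactSpace X] [QuasiSeparatedSpace X] (F : X.Modules) [Coh.IsQCoh F] :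
    @Curv2.euler k' _ (Curv2.bc k X k') ⟨Curv2.bcSnd k X k'⟩
        ((Scheme.Modules.pullback (Curv2.bcFst k X k')).obj F) = Curv2.euler k X F := by
  unfold Curv2.euler
  exact finsum_congr (fun i => by rw [finrank_HH_bc k X k' F i])

/-- **statement of S7636**: the degree does not change under extension of the base field -/
theorem deg_bc [CompactSpace X] [QuasiSeparatedSpace X] (E : X.Modules) [Coh.IsQCoh E] (n : ℕ) :
    @Curv2.deg k' _ (Curv2.bc k X k') ⟨Curv2.bcSnd k X k'⟩
        ((Scheme.Modules.pullback (Curv2.bcFst k X k')).obj E) n = Curv2.deg k X E n := by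
  letI : (Curv2.bc k X k').Over (Spec (CommRingCat.of k')) := ⟨Curv2.bcSnd k X k'⟩
  haveI : Coh.IsQCoh (Coh.structureModule X) := (CohDevH8.isCoh_structureModule X).1
  have h1 := euler_bc k X k' E
  have h2 := euler_bc k X k' (Coh.structureModule X)
  have h3 := CurveTens.euler_of_iso k' (Curv2.bc k X k') (PBH8.pullbackUnitIso (Curv2.bcFst k X k'))
  show Curv2.euler k' (Curv2.bc k X k') _ - n * Curv2.euler k' (Curv2.bc k X k') _ =
    Curv2.euler k X E - n * Curv2.euler k X (Coh.structureModule X)
  rw [h1, ← h2, h3]

end EulerBC
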