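import Mathlib
import Groth.Prelude
import Groth.Agent.Lib.EulerBC_helper9
import Groth.Agent.Lib.RegGG_helper9
import Groth.Agent.Lib.ProjTens2_helper9
import Groth.Agent.Lib.HypConn2_helper9
import Groth.Agent.Lib.PB9_helper8

/-!
# Vanishing of cohomology and extension of the base field (helper9)
APPEND-ONLY once landed.

Corollaries of helper2's flat base change (S0034): `H^i(X, F) = 0` iff `H^i(X_{k'}, F_{k'}) = 0`;
Castelnuovo–Mumford regularity on `P^n_k` is invariant under extension of the base field (S7690).
-/

set_option autoImplicit false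
universe u
open AlgebraicGeometry CategoryTheory CategoryTheory.Limits

namespace Groth.Agent.EulerBC

variable (k : Type u) [Field k] (X : Scheme.{u}) [X.Over (Spec (CommRingCat.of k))]
  (k' : Type u) [Field k'] [Algebra k k']

/-- vanishing of cohomology can be tested after extension of the base field -/
theorem subsingleton_HH_bc_iff [CompactSpace X] [QuasiSeparatedSpace X] (F : X.Modules)
    [Coh.IsQCoh F] (i : ℕ) :
    Subsingleton (Coh.HH (Curv2.bc k X k')
        ((Scheme.Modules.pullback (Curv2.bcFst k X k')).obj F) i) ↔
      Subsingleton (Coh.HH X F i) := by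
  letI : (Curv2.bc k X k').Over (Spec (CommRingCat.of k')) := ⟨Curv2.bcSnd k X k'⟩
  have hpb : IsPullback (Curv2.bcFst k X k') (Curv2.bc k X k' ↘ Spec (CommRingCat.of k'))
      (X ↘ Spec (CommRingCat.of k)) (Spec.map (CommRingCat.ofHom (algebraMap k k'))) :=
    IsPullback.of_hasPullback _ _
  obtain ⟨e⟩ := Groth.Agent.S0034.result k k' X (Curv2.bc k X k') (Curv2.bcFst k X k') hpb F i
  constructor
  · intro h
    haveI : Subsingleton (TensorProduct k k' (Coh.HH X F i)) := e.toEquiv.subsingleton
    exact Module.FaithfullyFlat.lTensor_reflects_triviality k k' (Coh.HH X F i)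
  · intro h
    exact e.symm.toEquiv.subsingleton

/-- **statement of S7690**: `m`-regularity on `P^n_k` can be tested after extension of the base
field -/
theorem isMRegular_bc (n : ℕ) (F : (CohB1.ProjSpace n k).Modules) (hF : Coh.IsCoh F) (m : ℤ) :
    Curv2.IsMRegular k n F m ↔
      ∀ i : ℕ, 1 ≤ i → i ≤ n →
        Subsingleton (Coh.HH (Curv2.bc k (CohB1.ProjSpace n k) k')
          ((Scheme.Modules.pullback (Curv2.bcFst k (CohB1.ProjSpace n k) k')).obj
            (CohB1.tensorMod F (Twist.twistProjSpace n k (m - i)))) i) := by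
  haveI : CompactSpace (CohB1.ProjSpace n k) := RegGGH9.compactSpace_Pn n k
  haveI : QuasiSeparatedSpace (CohB1.ProjSpace n k) := RegGGH9.quasiSeparatedSpace_Pn n k
  unfold Curv2.IsMRegular
  refine forall_congr' (fun i => forall_congr' (fun _ => forall_congr' (fun _ => ?_)))
  haveI : Coh.IsQCoh (CohB1.tensorMod F (Twist.twistProjSpace n k (m - i))) :=
    Groth.Agent.ProjTens.isQCoh_twistBy n k F hF.1 (m - i)
  exact (subsingleton_HH_bc_iff k (CohB1.ProjSpace n k) k' _ i).symm


section General

variable {k : Type u} [Field k] {X : Scheme.{u}} [X.Over (Spec (CommRingCat.of k))]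
  {k' : Type u} [Field k'] [Algebra k k'] {X' : Scheme.{u}} [X'.Over (Spec (CommRingCat.of k'))]
  (g : X' ⟶ X)
  (hpb : IsPullback g (X' ↘ Spec (CommRingCat.of k')) (X ↘ Spec (CommRingCat.of k))
    (Spec.map (CommRingCat.ofHom (algebraMap k k'))))

include hpb in
/-- dimensions of cohomology groups in an arbitrary pullback square over a field extension -/
theorem finrank_HH_pullback [CompactSpace X] [QuasiSeparatedSpace X] (F : X.Modules)
    [Coh.IsQCoh F] (i : ℕ) :
    Module.finrank k' (Coh.HH X' ((Scheme.Modules.pullback g).obj F) i) =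
      Module.finrank k (Coh.HH X F i) := by
  obtain ⟨e⟩ := Groth.Agent.S0034.result k k' X X' g hpb F i
  rw [← e.finrank_eq, Module.finrank_baseChange]

include hpb in
/-- dimensions of the cohomology groups of the structure sheaf in an arbitrary pullback square
over a field extension -/
theorem finrank_HH_structure_pullback [CompactSpace X] [QuasiSeparatedSpace X] (i : ℕ) :
    Module.finrank k' (Coh.HH X' (Coh.structureModule X') i) =
      Module.finrank k (Coh.HH X (Coh.structureModule X) i) := by
  haveI : Coh.IsQCoh (Coh.structureModule X) :=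
    (inferInstance : (SheafOfModules.unit X.ringCatSheaf).IsQuasicoherent)
  rw [← finrank_HH_pullback g hpb (Coh.structureModule X) i]
  exact ((Groth.Agent.HypConn.hhEquivOfIso (A := k') (PBH8.pullbackUnitIso g) i).finrank_eq).symm

end General

end Groth.Agent.EulerBC
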