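import Mathlib
import Groth.Prelude
import Groth.Agent.Lib.EulerBC2_helper9
import Groth.Agent.Lib.FlatBC3_helper8
import Groth.Agent.Lib.StalkFF1_helper2

/-!
# Betti numbers of the fibres are invariant under base change (helper2)

APPEND-ONLY once landed.
-/

set_option autoImplicit false
set_option backward.isDefEq.respectTransparency false
set_option backward.isDefEq.respectTransparency.types false
set_option linter.style.haveILetI false
set_option linter.unusedSectionVars false
universe u

open CategoryTheory CategoryTheory.Limits AlgebraicGeometry TopologicalSpace Opposite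

namespace Groth.Agent.Lib.CBCH2

section Betti

variable {X Y Y' : Scheme.{u}} (f : X ⟶ Y) (g : Y' ⟶ Y)

set_option maxHeartbeats 1600000 in
/-- the dimensions of the cohomology groups of the fibres are invariant under base change -/
theorem betti_baseChange [QuasiCompact f] [QuasiSeparated f] (F : X.Modules)
    [F.IsQuasicoherent] (y' : Y') (i : ℕ) :
    PerfAux.betti (pullback.snd f g) ((Scheme.Modules.pullback (pullback.fst f g)).obj F) y' i =
      PerfAux.betti f F (g y') i := by
  have hpb := isPullback_fiberToSpecResidueField_of_isPullback (IsPullback.of_hasPullback f g) y'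
  letI : Algebra (Y.residueField (g y')) (Y'.residueField y') :=
    (g.residueFieldMap y').hom.toAlgebra
  letI o1 : (f.fiber (g y')).Over (Spec (CommRingCat.of (Y.residueField (g y')))) :=
    ⟨f.fiberToSpecResidueField (g y')⟩
  letI o2 : ((pullback.snd f g).fiber y').Over (Spec (CommRingCat.of (Y'.residueField y'))) :=
    ⟨(pullback.snd f g).fiberToSpecResidueField y'⟩
  have hX : IsPullback (f.fiberι (g y')) (f.fiberToSpecResidueField (g y')) f
      (Y.fromSpecResidueField (g y')) := IsPullback.of_hasPullback f (Y.fromSpecResidueField (g y'))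
  haveI : QuasiSeparated (f.fiberToSpecResidueField (g y')) :=
    MorphismProperty.of_isPullback (P := @QuasiSeparated) hX inferInstance
  haveI : QuasiCompact (f.fiberToSpecResidueField (g y')) :=
    MorphismProperty.of_isPullback (P := @QuasiCompact) hX inferInstance
  haveI : CompactSpace (f.fiber (g y')) :=
    QuasiCompact.compactSpace_of_compactSpace (f.fiberToSpecResidueField (g y'))
  haveI : QuasiSeparatedSpace (f.fiber (g y')) :=
    quasiSeparatedSpace_of_quasiSeparated (f.fiberToSpecResidueField (g y'))
  obtain ⟨g₀, hg₀⟩ : ∃ g₀ : (pullback.snd f g).fiber y' ⟶ f.fiber (g y'),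
      g₀ = pullback.map _ _ _ _ (pullback.fst f g) (Spec.map (g.residueFieldMap y')) g
        (IsPullback.of_hasPullback f g).w.symm (by simp) := ⟨_, rfl⟩
  rw [← hg₀] at hpb
  have hcomm : g₀ ≫ f.fiberι (g y') = (pullback.snd f g).fiberι y' ≫ pullback.fst f g := by
    rw [hg₀]
    exact pullback.lift_fst _ _ _
  haveI : Coh.IsQCoh ((Scheme.Modules.pullback (f.fiberι (g y'))).obj F) :=
    PBH8.isQuasicoherent_pullback _ F
  have h1 := Groth.Agent.EulerBC.finrank_HH_pullback (k := Y.residueField (g y'))
    (k' := Y'.residueField y') g₀ hpb ((Scheme.Modules.pullback (f.fiberι (g y'))).obj F) i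
  let θ : (Scheme.Modules.pullback g₀).obj ((Scheme.Modules.pullback (f.fiberι (g y'))).obj F) ≅
      (Scheme.Modules.pullback ((pullback.snd f g).fiberι y')).obj
        ((Scheme.Modules.pullback (pullback.fst f g)).obj F) :=
    (Scheme.Modules.pullbackComp g₀ (f.fiberι (g y'))).app F ≪≫
      (Scheme.Modules.pullbackCongr hcomm).app F ≪≫
      ((Scheme.Modules.pullbackComp ((pullback.snd f g).fiberι y') (pullback.fst f g)).app F).symm
  have h2 := (Groth.Agent.Lib.StalkFFH2.HHlinEquiv (Y'.residueField y') θ i).finrank_eq
  exact h2.symm.trans h1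

/-- the Euler characteristics of the fibres are invariant under base change -/
theorem eulerChar_baseChange [QuasiCompact f] [QuasiSeparated f] (F : X.Modules)
    [F.IsQuasicoherent] (y' : Y') :
    PerfAux.eulerChar (pullback.snd f g)
        ((Scheme.Modules.pullback (pullback.fst f g)).obj F) y' =
      PerfAux.eulerChar f F (g y') := by
  unfold PerfAux.eulerChar
  refine finsum_congr (fun i => ?_)
  rw [betti_baseChange f g F y' i]

end Betti

end Groth.Agent.Lib.CBCH2
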