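import Mathlib
import Groth.Agent.Lib.AffDim16_helper8
import Groth.Agent.Lib.AffDim1_helper8
import Groth.Agent.Lib.CohDev6_helper8
import Groth.Agent.Lib.IrrDim_helper8
import Groth.Agent.Lib.SubLocDim_helper8
import Groth.Prelude.Def_RegImm

/-!
# Dimension of locally closed subsets via heights; Krull for regular immersions
-/

set_option autoImplicit false

universe u

open CategoryTheory CategoryTheory.Limits AlgebraicGeometry TopologicalSpace

namespace Groth.Agent.Lib.RegMeetH8

/-- dimension of the range of an immersion into a scheme locally of finite type over a field,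
via heights in the ambient scheme. -/
theorem topDim_range_eq (k : Type u) [Field k] {Z T' : Scheme.{u}}
    (q : Z ⟶ Spec (CommRingCat.of k)) [LocallyOfFiniteType q] (j : T' ⟶ Z) [IsImmersion j] :
    topologicalKrullDim ↥(Set.range j) = ⨆ t : T', ((Order.height (j t) : ℕ∞) : WithBot ℕ∞) := by
  have h1 : topologicalKrullDim ↥(Set.range j) = topologicalKrullDim T' :=
    (IsHomeomorph.topologicalKrullDim_eq _ (j.isEmbedding.toHomeomorph).isHomeomorph).symm
  rw [h1, Groth.Agent.ClosHtH8.topologicalKrullDim_eq_iSup_height]
  congr 1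
  funext t
  rw [AffDimH8.height_eq_of_lqf k q j t]

theorem wb_add_le_iff (x : WithBot ℕ∞) (c n : ℕ) :
    x + (c : WithBot ℕ∞) ≤ n ↔
      x ≤ (if c ≤ n then (((n - c : ℕ) : ℕ∞) : WithBot ℕ∞) else ⊥) := by
  induction x with
  | bot => simp
  | coe y =>
    induction y with
    | top =>
      split_ifs with h
      · constructor
        · intro h1
          exfalso
          have : ((⊤ : ℕ∞) : WithBot ℕ∞) + (c : WithBot ℕ∞) = ((⊤ : ℕ∞) : WithBot ℕ∞) := by
            rfl
          rw [this] at h1
          have h2 : (⊤ : ℕ∞) ≤ (n : ℕ∞) := by exact_mod_cast h1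
          simp at h2
        · intro h1
          exfalso
          have h2 : (⊤ : ℕ∞) ≤ ((n - c : ℕ) : ℕ∞) := by exact_mod_cast h1
          simp at h2
      · constructor
        · intro h1
          exfalso
          have : ((⊤ : ℕ∞) : WithBot ℕ∞) + (c : WithBot ℕ∞) = ((⊤ : ℕ∞) : WithBot ℕ∞) := by
            rfl
          rw [this] at h1
          have h2 : (⊤ : ℕ∞) ≤ (n : ℕ∞) := by exact_mod_cast h1
          simp at h2
        · intro h1
          simp at h1
    | coe m =>
      split_ifs with h
      · constructor
        · intro h1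
          have h2 : m + c ≤ n := by exact_mod_cast h1
          have : m ≤ n - c := by omega
          exact_mod_cast this
        · intro h1
          have h2 : m ≤ n - c := by exact_mod_cast h1
          have : m + c ≤ n := by omega
          exact_mod_cast this
      · constructor
        · intro h1
          have h2 : m + c ≤ n := by exact_mod_cast h1
          omega
        · intro h1
          simp at h1


/-- `dim A + c ≤ n` for a locally closed subset `A` (range of an immersion) of a scheme locally
of finite type over a field, in terms of heights in the ambient scheme. -/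
theorem topDim_add_le_iff (k : Type u) [Field k] {Z : Scheme.{u}}
    (q : Z ⟶ Spec (CommRingCat.of k)) [LocallyOfFiniteType q] (A : Set Z)
    (hA : ∃ (T' : Scheme.{u}) (j : T' ⟶ Z), IsImmersion j ∧ Set.range j = A) (c n : ℕ) :
    topologicalKrullDim ↥A + (c : WithBot ℕ∞) ≤ n ↔
      ∀ a ∈ A, Order.height a + (c : ℕ∞) ≤ (n : ℕ∞) := by
  obtain ⟨T', j, hj, rfl⟩ := hA
  rw [wb_add_le_iff, topDim_range_eq k q j, iSup_le_iff]
  constructor
  · rintro h _ ⟨t, rfl⟩
    have h1 := h t
    split_ifs at h1 with hcn
    · have h2 : Order.height (j t) ≤ ((n - c : ℕ) : ℕ∞) := by exact_mod_cast h1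
      calc Order.height (j t) + (c : ℕ∞) ≤ ((n - c : ℕ) : ℕ∞) + (c : ℕ∞) := by gcongr
        _ = (n : ℕ∞) := by
          have : n - c + c = n := by omega
          exact_mod_cast this
    · simp at h1
  · intro h t
    have h1 := h (j t) ⟨t, rfl⟩
    split_ifs with hcn
    · have h2 : Order.height (j t) ≤ ((n - c : ℕ) : ℕ∞) := by
        generalize Order.height (j t) = y at h1
        induction y with
        | top => simp at h1
        | coe m =>
          have h3 : m + c ≤ n := by exact_mod_cast h1
          have : m ≤ n - c := by omega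
          exact_mod_cast this
      exact_mod_cast h2
    · exfalso
      have h2 : (c : ℕ∞) ≤ (n : ℕ∞) := le_trans le_add_self h1
      have : c ≤ n := by exact_mod_cast h2
      exact hcn this

/-- heights of points of `A` are bounded by `dim A`. -/
theorem height_le_topDim (k : Type u) [Field k] {Z : Scheme.{u}}
    (q : Z ⟶ Spec (CommRingCat.of k)) [LocallyOfFiniteType q] (A : Set Z)
    (hA : ∃ (T' : Scheme.{u}) (j : T' ⟶ Z), IsImmersion j ∧ Set.range j = A) (a : Z)
    (ha : a ∈ A) : ((Order.height a : ℕ∞) : WithBot ℕ∞) ≤ topologicalKrullDim ↥A := by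
  obtain ⟨T', j, hj, rfl⟩ := hA
  obtain ⟨t, rfl⟩ := ha
  rw [topDim_range_eq k q j]
  exact le_iSup (fun t : T' => ((Order.height (j t) : ℕ∞) : WithBot ℕ∞)) t

/-- the closure of a point of a locally closed subset `A`, intersected with `A`, has dimension
the height of the point. -/
theorem topDim_closure_inter (k : Type u) [Field k] {Z : Scheme.{u}}
    (q : Z ⟶ Spec (CommRingCat.of k)) [LocallyOfFiniteType q] (A : Set Z)
    (hA : ∃ (T' : Scheme.{u}) (j : T' ⟶ Z), IsImmersion j ∧ Set.range j = A) (a : Z)
    (ha : a ∈ A) :
    topologicalKrullDim ↥(closure ({a} : Set Z) ∩ A) = ((Order.height a : ℕ∞) : WithBot ℕ∞) := by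
  obtain ⟨T', j, hj, rfl⟩ := hA
  obtain ⟨t, rfl⟩ := ha
  have hset : closure ({j t} : Set Z) ∩ Set.range j = Set.range (j ∘ (Subtype.val :
      ↥(closure ({t} : Set T')) → T')) := by
    rw [Set.range_comp, Subtype.range_coe_subtype]
    have : closure ({t} : Set T') = j ⁻¹' closure ({j t} : Set Z) := by
      rw [j.isEmbedding.isInducing.closure_eq_preimage_closure_image, Set.image_singleton]
    change _ = j '' closure ({t} : Set T')
    rw [this, Set.image_preimage_eq_inter_range]
  have hemb : Topology.IsEmbedding (j ∘ (Subtype.val : ↥(closure ({t} : Set T')) → T')) :=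
    j.isEmbedding.comp Topology.IsEmbedding.subtypeVal
  rw [hset, ← IsHomeomorph.topologicalKrullDim_eq _ hemb.toHomeomorph.isHomeomorph,
    Groth.Agent.ClosHtH8.topologicalKrullDim_closure_singleton,
    AffDimH8.height_eq_of_lqf k q j t]

end Groth.Agent.Lib.RegMeetH8
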