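import Mathlib
import Groth.Agent.Lib.AffDim1_helper8
import Groth.Prelude.Def_RegImm

set_option autoImplicit false

universe u

open CategoryTheory CategoryTheory.Limits AlgebraicGeometry TopologicalSpace

namespace Groth.Agent.Lib.RegMeetH8

/-- For a morphism `ι : W ⟶ X` restricting to a closed immersion over the affine open `U`, the
points of `U` in the range of `ι` are the common zeros of the kernel of `Γ(X,U) → Γ(W,ι⁻¹U)`. -/
theorem mem_range_iff_of_ker {X W : Scheme.{u}} (ι : W ⟶ X) (U : X.Opens) (hU : IsAffineOpen U)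
    (hcl : IsClosedImmersion (ι ∣_ U)) (x : X) (hxU : x ∈ U) :
    x ∈ Set.range ι ↔ ∀ r ∈ RingHom.ker (ι.app U).hom, x ∉ X.basicOpen r := by
  constructor
  · rintro ⟨w, rfl⟩ r hr hmem
    have h1 : w ∈ ι ⁻¹ᵁ X.basicOpen r := hmem
    rw [Scheme.preimage_basicOpen, RingHom.mem_ker.mp hr, Scheme.basicOpen_zero] at h1
    exact h1
  · intro h
    by_contra hx
    -- range of `ι ∣_ U` is closed in `U`
    have hclosed0 : IsClosed (Set.range (ι ∣_ U)) := (ι ∣_ U).isClosedEmbedding.isClosed_range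
    have hrange : Set.range (ι ∣_ U) = ((Subtype.val : U → X) ⁻¹' Set.range ι) := by
      ext y
      constructor
      · rintro ⟨w, rfl⟩
        exact ⟨w.1, (morphismRestrict_base_coe ι U w).symm⟩
      · rintro ⟨w, hw⟩
        have hwU : w ∈ ι ⁻¹ᵁ U := by
          change ι w ∈ U
          rw [hw]; exact y.2
        exact ⟨⟨w, hwU⟩, Subtype.ext ((morphismRestrict_base_coe ι U ⟨w, hwU⟩).trans hw)⟩
    have hclosed : IsClosed ((Subtype.val : U → X) ⁻¹' Set.range ι) := hrange ▸ hclosed0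
    obtain ⟨F, hF, hFeq⟩ := isClosed_induced_iff.mp hclosed
    have hxF : x ∉ F := by
      intro hxF
      have : (⟨x, hxU⟩ : U) ∈ Subtype.val ⁻¹' F := hxF
      rw [hFeq] at this
      exact hx this
    have hopen : IsOpen ((U : Set X) ∩ Fᶜ) := U.2.inter hF.isOpen_compl
    obtain ⟨f, hfsub, hxf⟩ := hU.exists_basicOpen_le (V := ⟨(U : Set X) ∩ Fᶜ, hopen⟩)
      ⟨x, ⟨hxU, hxF⟩⟩ hxU
    -- `ι⁻¹ D(f) = ∅`
    have hbot : W.basicOpen ((ι.app U).hom f) = ⊥ := by
      rw [← Scheme.preimage_basicOpen]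
      ext w
      simp only [Opens.coe_bot, Set.mem_empty_iff_false, iff_false]
      intro hw
      have hw' : ι w ∈ X.basicOpen f := hw
      have h1 : ι w ∈ (U : Set X) ∩ Fᶜ := hfsub hw'
      have h2 : (⟨ι w, h1.1⟩ : U) ∈ Subtype.val ⁻¹' Set.range ι := ⟨w, rfl⟩
      rw [← hFeq] at h2
      exact h1.2 h2
    haveI : IsAffine (U : Scheme.{u}) := hU
    haveI : IsAffine ((ι ⁻¹ᵁ U : W.Opens) : Scheme.{u}) := isAffine_of_isAffineHom (ι ∣_ U)
    have hcpt : IsCompact ((ι ⁻¹ᵁ U : W.Opens) : Set W) :=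
      (show IsAffineOpen (ι ⁻¹ᵁ U) from ‹IsAffine _›).isCompact
    obtain ⟨m, hm⟩ := (Scheme.isNilpotent_iff_basicOpen_eq_bot_of_isCompact hcpt _).mpr hbot
    have hker : f ^ m ∈ RingHom.ker (ι.app U).hom := by
      rw [RingHom.mem_ker, map_pow, hm]
    have := h _ hker
    by_cases hm0 : m = 0
    · subst hm0
      simp only [pow_zero] at this
      rw [Scheme.basicOpen_of_isUnit _ isUnit_one] at this
      exact this hxU
    · rw [Scheme.basicOpen_pow _ _ (Nat.pos_of_ne_zero hm0)] at this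
      exact this hxf


/-- Krull's height theorem for a regular immersion of codimension `c`: a point of `Z` maximal
among the points mapping into the range of `ι` has local ring of dimension at most `c`. -/
theorem ringKrullDim_stalk_le_of_regImm {Z X W : Scheme.{u}} [IsLocallyNoetherian Z] (g : Z ⟶ X)
    (ι : W ⟶ X) (κ : RegImm.Kind) (c : ℕ) (hι : RegImm.IsRegularImmersionOfCodim κ c ι) (ξ : Z)
    (hξ : g ξ ∈ Set.range ι)
    (hmax : ∀ a : Z, g a ∈ Set.range ι → a ⤳ ξ → a = ξ) :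
    ringKrullDim (Z.presheaf.stalk ξ) ≤ (c : WithBot ℕ∞) := by
  classical
  obtain ⟨w, hw⟩ := hξ
  obtain ⟨U, hwU, hcl, rs, hlen, -, hker⟩ := hι.2 w
  have hξU : g ξ ∈ U.1 := hw ▸ hwU
  let V : Z.Opens := g ⁻¹ᵁ U.1
  have hξV : ξ ∈ V := hξU
  let h : (V : Scheme.{u}) ⟶ X := V.ι ≫ g
  have hle : (⊤ : (V : Scheme.{u}).Opens) ≤ h ⁻¹ᵁ U.1 := by
    intro v _
    exact v.2
  let φ : Γ(X, U.1) →+* Γ((V : Scheme.{u}), ⊤) := (h.appLE U.1 ⊤ hle).hom
  let s : Set Γ((V : Scheme.{u}), ⊤) := φ '' {r | r ∈ rs}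
  have hsfin : s.Finite := (List.finite_toSet rs).image φ
  have hcard : s.ncard ≤ c := by
    refine le_trans (Set.ncard_image_le (List.finite_toSet rs)) ?_
    have : {r | r ∈ rs} = ((rs.toFinset : Finset Γ(X, U.1)) : Set Γ(X, U.1)) := by
      ext r; simp
    rw [this, Set.ncard_coe_finset, ← hlen]
    exact List.toFinset_card_le rs
  have hzl : ∀ v : (V : Scheme.{u}), v ∈ (V : Scheme.{u}).zeroLocus s ↔ g v.1 ∈ Set.range ι := by
    intro v
    rw [Scheme.mem_zeroLocus_iff, mem_range_iff_of_ker ι U.1 U.2 hcl (g v.1) v.2, hker]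
    have hspan : (g v.1 ∈ X.zeroLocus (U := U.1) ((Ideal.ofList rs : Ideal Γ(X, U.1)) :
        Set Γ(X, U.1))) ↔ g v.1 ∈ X.zeroLocus (U := U.1) {r | r ∈ rs} := by
      unfold Ideal.ofList
      rw [Scheme.zeroLocus_span]
    rw [Scheme.mem_zeroLocus_iff, Scheme.mem_zeroLocus_iff] at hspan
    have hbo : ∀ r : Γ(X, U.1), v ∈ (V : Scheme.{u}).basicOpen (φ r) ↔ g v.1 ∈ X.basicOpen r := by
      intro r
      change v ∈ (V : Scheme.{u}).basicOpen (h.appLE U.1 ⊤ hle r) ↔ _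
      rw [Scheme.basicOpen_appLE]
      constructor
      · rintro ⟨-, h2⟩
        exact h2
      · intro h2
        exact ⟨trivial, h2⟩
    constructor
    · intro h1
      refine hspan.mpr ?_
      intro r hr hmem
      exact h1 (φ r) ⟨r, hr, rfl⟩ ((hbo r).mpr hmem)
    · intro h1
      have h1' := hspan.mp h1
      rintro _ ⟨r, hr, rfl⟩ hmem
      exact h1' r hr ((hbo r).mp hmem)
  haveI : IsLocallyNoetherian (V : Scheme.{u}) := isLocallyNoetherian_of_isOpenImmersion V.ι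
  have hkr := Groth.Agent.Lib.AffDimH8.ringKrullDim_stalk_le_ncard (X := (V : Scheme.{u})) s hsfin
    ⟨ξ, hξV⟩ ((hzl _).mpr ⟨w, hw⟩) (by
      intro a ha hsp
      have h1 : g a.1 ∈ Set.range ι := (hzl a).mp ha
      have h2 : a.1 ⤳ ξ := hsp.map continuous_subtype_val
      exact Subtype.ext (hmax a.1 h1 h2))
  have heq : ringKrullDim (Z.presheaf.stalk ξ) =
      ringKrullDim ((V : Scheme.{u}).presheaf.stalk ⟨ξ, hξV⟩) :=
    (ringKrullDim_eq_of_ringEquiv (V.stalkIso ⟨ξ, hξV⟩).commRingCatIsoToRingEquiv).symm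
  rw [heq]
  refine le_trans hkr ?_
  exact_mod_cast hcard

end Groth.Agent.Lib.RegMeetH8
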