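import Mathlib
import Groth.Agent.Lib.AffDim16_helper8
import Groth.Agent.Lib.AffDim1_helper8
import Groth.Agent.Lib.CohDev6_helper8
import Groth.Agent.Lib.IrrDim_helper8
import Groth.Agent.Lib.SubLocDim_helper8
import Groth.Agent.Lib.RegMeet2_helper8
import Groth.Prelude.Def_RegImm

set_option autoImplicit false

universe u

open CategoryTheory CategoryTheory.Limits AlgebraicGeometry TopologicalSpace
attribute [local instance] Curv2.stalkAlgebra Curv2.resAlgebra

namespace Groth.Agent.Lib.RegMeetH8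

/-- A point of an `n`-dimensional irreducible component `P` of `C`, maximal among the points of
`P` mapping into a regularly immersed subscheme of codimension `c`, has height at least `n - c`. -/
theorem le_height_add_of_regImm (k : Type u) [Field k] {C X W : Scheme.{u}}
    (q : X ⟶ Spec (CommRingCat.of k)) (π : C ⟶ X) (ι : W ⟶ X)
    [LocallyOfFiniteType q] [LocallyOfFiniteType π]
    (κ : RegImm.Kind) (n c : ℕ) (hι : RegImm.IsRegularImmersionOfCodim κ c ι)
    (P : Set C) (hP : P ∈ irreducibleComponents (C : Type u))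
    (hdim : topologicalKrullDim ↥P = n) (ξ : C) (hξP : ξ ∈ P) (hξ : π ξ ∈ Set.range ι)
    (hmax : ∀ a ∈ P, π a ∈ Set.range ι → a ⤳ ξ → a = ξ) :
    (n : ℕ∞) ≤ Order.height ξ + (c : ℕ∞) := by
  have hPcl : IsClosed P := isClosed_of_mem_irreducibleComponents P hP
  obtain ⟨y, hy⟩ := QuasiSober.sober hP.1 hPcl
  obtain ⟨P', i, hi, hint, hrange, hgen⟩ := CohDevH8.exists_integral_subscheme P hPcl y hy
  have hξ' : ξ ∈ Set.range i := hrange ▸ hξP
  obtain ⟨ξ', rfl⟩ := hξ'
  letI ov : P'.Over (Spec (CommRingCat.of k)) := ⟨i ≫ π ≫ q⟩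
  haveI : LocallyOfFiniteType (P' ↘ Spec (CommRingCat.of k)) :=
    inferInstanceAs (LocallyOfFiniteType (i ≫ π ≫ q))
  haveI : IsLocallyNoetherian P' := LocallyOfFiniteType.isLocallyNoetherian (i ≫ π ≫ q)
  obtain ⟨a, r, ha, hr, hdimP'⟩ := Groth.Agent.IrrDimH8.irr_dim k P' (genericPoint P')
    (fun x' => genericPoint_specializes x') ξ'
  obtain ⟨n', hn', hht⟩ := Groth.Agent.HtTrdegH8.height_eq_trdeg k P' ξ'
  have hrn : r = n' := by
    have : ((r : ℕ) : Cardinal) = ((n' : ℕ) : Cardinal) := by rw [← hr, ← hn']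
    exact_mod_cast this
  have hdimPP : topologicalKrullDim ↥P' = topologicalKrullDim ↥P := by
    rw [IsHomeomorph.topologicalKrullDim_eq _ i.isEmbedding.toHomeomorph.isHomeomorph, hrange]
  have han : a + r = n := by
    have : ((a + r : ℕ) : WithBot ℕ∞) = ((n : ℕ) : WithBot ℕ∞) := by
      rw [← hdimP', hdimPP, hdim]
    exact_mod_cast this
  have hac : a ≤ c := by
    have hk := ringKrullDim_stalk_le_of_regImm (Z := P') (i ≫ π) ι κ c hι ξ' hξ (by
      intro a' ha' hsp
      have h1 : i a' ∈ P := hrange ▸ ⟨a', rfl⟩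
      have h2 : i a' ⤳ i ξ' := hsp.map i.continuous
      exact i.isEmbedding.injective (hmax (i a') h1 ha' h2))
    rw [ha] at hk
    exact_mod_cast hk
  have hh : Order.height (i ξ') = n' := by
    rw [← AffDimH8.height_eq_of_lqf k (π ≫ q) i ξ', hht]
  rw [hh]
  have : n ≤ n' + c := by omega
  exact_mod_cast this

end Groth.Agent.Lib.RegMeetH8
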