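import Mathlib
import Groth.Agent.Lib.RegMeet1_helper8
import Groth.Agent.Lib.RegMeet3_helper8

set_option autoImplicit false

universe u

open CategoryTheory CategoryTheory.Limits AlgebraicGeometry TopologicalSpace

namespace Groth.Agent.Lib.RegMeetH8

/-- topological comparison: the closure of a point `t` of `S = P ∩ T` (with `P` closed),
intersected with `T`, embeds in any closed subset of `S` containing `t`. -/
theorem topDim_closure_inter_le {C : Type u} [TopologicalSpace C] (P T : Set C) (hP : IsClosed P)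
    (t : C) (htP : t ∈ P) (htT : t ∈ T) (Q : Set ↥(P ∩ T)) (hQ : IsClosed Q)
    (htQ : (⟨t, htP, htT⟩ : ↥(P ∩ T)) ∈ Q) :
    topologicalKrullDim ↥(closure ({t} : Set C) ∩ T) ≤ topologicalKrullDim ↥Q := by
  have hcl : closure ({t} : Set C) ⊆ P := closure_minimal (Set.singleton_subset_iff.mpr htP) hP
  have hmemQ : ∀ x : ↥(closure ({t} : Set C) ∩ T),
      (⟨x.1, hcl x.2.1, x.2.2⟩ : ↥(P ∩ T)) ∈ Q := by
    intro x
    have h1 : (⟨x.1, hcl x.2.1, x.2.2⟩ : ↥(P ∩ T)) ∈
        closure ({(⟨t, htP, htT⟩ : ↥(P ∩ T))} : Set ↥(P ∩ T)) := by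
      rw [closure_subtype, Set.image_singleton]
      exact x.2.1
    exact closure_minimal (Set.singleton_subset_iff.mpr htQ) hQ h1
  let f : ↥(closure ({t} : Set C) ∩ T) → ↥Q := fun x => ⟨⟨x.1, hcl x.2.1, x.2.2⟩, hmemQ x⟩
  have hf : Continuous f :=
    Continuous.subtype_mk (Continuous.subtype_mk continuous_subtype_val _) _
  have hg : Continuous (fun y : ↥Q => (y.1.1 : C)) :=
    continuous_subtype_val.comp continuous_subtype_val
  have hind : Topology.IsInducing f := by
    refine Topology.IsInducing.of_comp hf hg ?_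
    exact Topology.IsInducing.subtypeVal
  exact hind.topologicalKrullDim_le


theorem main14481 (k : Type u) [Field k] (C X W : Scheme.{u})
    (q : X ⟶ Spec (CommRingCat.of k)) (π : C ⟶ X) (ι : W ⟶ X)
    [LocallyOfFiniteType q] [LocallyOfFiniteType π]
    (κ : RegImm.Kind) (n c : ℕ) (hι : RegImm.IsRegularImmersionOfCodim κ c ι)
    (hC : ∀ P ∈ irreducibleComponents (C : Type u), topologicalKrullDim P = n) :
    (∀ P ∈ irreducibleComponents (C : Type u),
        ∀ Q ∈ irreducibleComponents (P ∩ π ⁻¹' Set.range ι : Set C),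
        topologicalKrullDim Q + (c : WithBot ℕ∞) = n) ↔
      topologicalKrullDim (π ⁻¹' Set.range ι : Set C) + (c : WithBot ℕ∞) ≤ n := by
  haveI : IsImmersion ι := hι.1
  set T : Set C := π ⁻¹' Set.range ι with hTdef
  have hT : ∃ (T' : Scheme.{u}) (j : T' ⟶ C), IsImmersion j ∧ Set.range j = T :=
    ⟨pullback π ι, pullback.fst π ι, inferInstance, Scheme.Pullback.range_fst π ι⟩
  constructor
  · intro ha
    rw [topDim_add_le_iff k (π ≫ q) T hT c n]
    intro t ht
    have hP := irreducibleComponent_mem_irreducibleComponents t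
    have htP : t ∈ irreducibleComponent t := mem_irreducibleComponent
    set P := irreducibleComponent t with hPdef
    have hPcl : IsClosed P := isClosed_of_mem_irreducibleComponents P hP
    let st : ↥(P ∩ T) := ⟨t, htP, ht⟩
    have hQ := irreducibleComponent_mem_irreducibleComponents st
    have hstQ : st ∈ irreducibleComponent st := mem_irreducibleComponent
    have h1 := ha P hP (irreducibleComponent st) hQ
    have h2 := topDim_closure_inter_le P T hPcl t htP ht (irreducibleComponent st)
      (isClosed_of_mem_irreducibleComponents _ hQ) hstQ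
    rw [topDim_closure_inter k (π ≫ q) T hT t ht] at h2
    have h3 : ((Order.height t : ℕ∞) : WithBot ℕ∞) + (c : WithBot ℕ∞) ≤ (n : WithBot ℕ∞) := by
      rw [← h1]
      exact add_le_add h2 le_rfl
    exact_mod_cast h3
  · intro hb P hP Q hQ
    have hPcl : IsClosed P := isClosed_of_mem_irreducibleComponents P hP
    apply le_antisymm
    · have h1 : topologicalKrullDim ↥Q ≤ topologicalKrullDim ↥(P ∩ T) :=
        topologicalKrullDim_subspace_le _ Q
      have h2 : topologicalKrullDim ↥(P ∩ T) ≤ topologicalKrullDim ↥T :=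
        SubLocDimH8.topDim_mono Set.inter_subset_right
      exact le_trans (add_le_add (h1.trans h2) le_rfl) hb
    · have hQirr : IsIrreducible Q := hQ.1
      have hQcl : IsClosed Q := isClosed_of_mem_irreducibleComponents Q hQ
      have hQ''irr : IsIrreducible (closure ((Subtype.val : ↥(P ∩ T) → C) '' Q)) :=
        (hQirr.image _ continuous_subtype_val.continuousOn).closure
      obtain ⟨ξ, hξ⟩ := QuasiSober.sober hQ''irr isClosed_closure
      have hξcl : closure ({ξ} : Set C) = closure ((Subtype.val : ↥(P ∩ T) → C) '' Q) := hξ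
      have hξmem : ξ ∈ closure ((Subtype.val : ↥(P ∩ T) → C) '' Q) := hξcl ▸ subset_closure rfl
      have hsubP : closure ((Subtype.val : ↥(P ∩ T) → C) '' Q) ⊆ P := by
        apply closure_minimal _ hPcl
        rintro _ ⟨y, -, rfl⟩
        exact y.2.1
      have hξP : ξ ∈ P := hsubP hξmem
      -- `T` is locally closed
      obtain ⟨T', j, hj, hjT⟩ := hT
      obtain ⟨O, F, hO, hF, hOF⟩ := j.isLocallyClosed_range
      rw [hjT] at hOF
      have hsubF : closure ((Subtype.val : ↥(P ∩ T) → C) '' Q) ⊆ F := by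
        apply closure_minimal _ hF
        rintro _ ⟨y, -, rfl⟩
        exact ((Set.ext_iff.mp hOF y.1).mp y.2.2).2
      have hξO : ξ ∈ O := by
        rw [hξ.mem_open_set_iff hO]
        obtain ⟨y, hy⟩ := hQirr.nonempty
        exact ⟨y.1, subset_closure ⟨y, hy, rfl⟩, ((Set.ext_iff.mp hOF y.1).mp y.2.2).1⟩
      have hξT : ξ ∈ T := (Set.ext_iff.mp hOF ξ).mpr ⟨hξO, hsubF hξmem⟩
      have hT : ∃ (T' : Scheme.{u}) (j : T' ⟶ C), IsImmersion j ∧ Set.range j = T :=
        ⟨T', j, hj, hjT⟩
      let sξ : ↥(P ∩ T) := ⟨ξ, hξP, hξT⟩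
      have hsξQ : sξ ∈ Q := by
        rw [← hQcl.closure_eq, closure_subtype]
        exact hξmem
      have hmax : ∀ a ∈ P, π a ∈ Set.range ι → a ⤳ ξ → a = ξ := by
        intro a haP haT hsp
        let sa : ↥(P ∩ T) := ⟨a, haP, haT⟩
        have hZirr : IsIrreducible (closure ({sa} : Set ↥(P ∩ T))) :=
          isIrreducible_singleton.closure
        have hQZ : Q ≤ closure ({sa} : Set ↥(P ∩ T)) := by
          intro y hy
          rw [closure_subtype, Set.image_singleton]
          have h1 : y.1 ∈ closure ({ξ} : Set C) := by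
            rw [hξcl]
            exact subset_closure ⟨y, hy, rfl⟩
          have h2 : closure ({ξ} : Set C) ⊆ closure ({a} : Set C) :=
            closure_minimal (Set.singleton_subset_iff.mpr (specializes_iff_mem_closure.mp hsp))
              isClosed_closure
          exact h2 h1
        have hZQ := hQ.2 hZirr hQZ
        have hsaQ : sa ∈ Q := hZQ (subset_closure rfl)
        have h3 : a ∈ closure ({ξ} : Set C) := by
          rw [hξcl]
          exact subset_closure ⟨sa, hsaQ, rfl⟩
        have hsp' : ξ ⤳ a := specializes_iff_mem_closure.mpr h3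
        exact (hsp.antisymm hsp').eq
      have h2 := topDim_closure_inter_le P T hPcl ξ hξP hξT Q hQcl hsξQ
      rw [topDim_closure_inter k (π ≫ q) T hT ξ hξT] at h2
      have h3 := le_height_add_of_regImm k q π ι κ n c hι P hP (hC P hP) ξ hξP hξT hmax
      have h4 : (n : WithBot ℕ∞) ≤ ((Order.height ξ : ℕ∞) : WithBot ℕ∞) + (c : WithBot ℕ∞) := by
        exact_mod_cast h3
      exact le_trans h4 (add_le_add h2 le_rfl)

end Groth.Agent.Lib.RegMeetH8
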