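import Mathlib
import Groth.Agent.Lib.RegMeet1_helper8
import Groth.Agent.Lib.RegMeet4_helper8
import Groth.Agent.Lib.EquidimSub2_helper8
import Groth.Agent.Lib.FibRes2_helper8
import Groth.Agent.Lib.AffDim6_helper8

set_option autoImplicit false

universe u

open CategoryTheory CategoryTheory.Limits AlgebraicGeometry TopologicalSpace

namespace Groth.Agent.Lib.RegMeetH8

theorem exists_immersion_of_isClosed {Z : Scheme.{u}} (A : Set Z) (hA : IsClosed A) :
    ∃ (T' : Scheme.{u}) (j : T' ⟶ Z), IsImmersion j ∧ Set.range j = A :=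
  ⟨(Scheme.IdealSheafData.vanishingIdeal ⟨A, hA⟩).subscheme,
    (Scheme.IdealSheafData.vanishingIdeal ⟨A, hA⟩).subschemeι, inferInstance,
    EquidimSubH8.range_vanishingIdeal_subschemeι ⟨A, hA⟩⟩

theorem le_topDim_iff_exists_height (T : Scheme.{u}) (j : ℕ) :
    (j : WithBot ℕ∞) ≤ topologicalKrullDim T ↔ ∃ z : T, (j : ℕ∞) ≤ Order.height z := by
  constructor
  · intro h
    exact AffDimH8.exists_height_ge T j h
  · rintro ⟨z, hz⟩
    rw [Groth.Agent.ClosHtH8.topologicalKrullDim_eq_iSup_height]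
    refine le_trans ?_ (le_iSup (fun a : T => ((Order.height a : ℕ∞) : WithBot ℕ∞)) z)
    exact_mod_cast hz

theorem height_le_of_components {C : Scheme.{u}} (n : ℕ)
    (hC : ∀ P ∈ irreducibleComponents (C : Type u), topologicalKrullDim P = n) (ζ : C) :
    Order.height ζ ≤ (n : ℕ∞) := by
  have hP := irreducibleComponent_mem_irreducibleComponents ζ
  have hζP : ζ ∈ irreducibleComponent ζ := mem_irreducibleComponent
  have hPcl : IsClosed (irreducibleComponent ζ) := isClosed_of_mem_irreducibleComponents _ hP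
  have hsub : closure ({ζ} : Set C) ⊆ irreducibleComponent ζ :=
    closure_minimal (Set.singleton_subset_iff.mpr hζP) hPcl
  have h1 := SubLocDimH8.topDim_mono hsub
  rw [Groth.Agent.ClosHtH8.topologicalKrullDim_closure_singleton, hC _ hP] at h1
  exact_mod_cast h1

theorem main14482 (k : Type u) [Field k] (C X W : Scheme.{u})
    (q : X ⟶ Spec (CommRingCat.of k)) (π : C ⟶ X) (ι : W ⟶ X)
    [LocallyOfFiniteType q] [LocallyOfFiniteType π]
    (κ : RegImm.Kind) (n c : ℕ) (hι : RegImm.IsRegularImmersionOfCodim κ c ι)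
    (hC : ∀ P ∈ irreducibleComponents (C : Type u), topologicalKrullDim P = n)
    (hB : ∀ j : ℕ, IsClosed {x : X | (j : WithBot ℕ∞) ≤ topologicalKrullDim (π.fiber x)}) :
    (∀ j : ℕ, topologicalKrullDim {x : X | (j : WithBot ℕ∞) ≤ topologicalKrullDim (π.fiber x)} +
        (j : WithBot ℕ∞) ≤ n) ∧
      (topologicalKrullDim (π ⁻¹' Set.range ι : Set C) + (c : WithBot ℕ∞) ≤ n ↔
        ∀ j : ℕ, topologicalKrullDim (ι ⁻¹' {x : X | (j : WithBot ℕ∞) ≤
          topologicalKrullDim (π.fiber x)} : Set W) + (c : WithBot ℕ∞) + (j : WithBot ℕ∞) ≤ n) := by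
  haveI : IsImmersion ι := hι.1
  set T : Set C := π ⁻¹' Set.range ι with hTdef
  have hT : ∃ (T' : Scheme.{u}) (j : T' ⟶ C), IsImmersion j ∧ Set.range j = T :=
    ⟨pullback π ι, pullback.fst π ι, inferInstance, Scheme.Pullback.range_fst π ι⟩
  have hBmem : ∀ (j : ℕ) (x : X), x ∈ {x : X | (j : WithBot ℕ∞) ≤ topologicalKrullDim (π.fiber x)} ↔
      ∃ z : π.fiber x, (j : ℕ∞) ≤ Order.height z := fun j x =>
    le_topDim_iff_exists_height (π.fiber x) j
  refine ⟨?_, ?_, ?_⟩
  · intro j
    rw [topDim_add_le_iff k q _ (exists_immersion_of_isClosed _ (hB j)) j n]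
    intro x hx
    obtain ⟨z, hz⟩ := (hBmem j x).mp hx
    have h1 := AffDimH8.height_fiberι k q π x z
    have h2 := height_le_of_components n hC (π.fiberι x z)
    calc Order.height x + (j : ℕ∞) ≤ Order.height x + Order.height z := by gcongr
      _ = Order.height (π.fiberι x z) := h1.symm
      _ ≤ n := h2
  · intro hTle j
    have hTle' := (topDim_add_le_iff k (π ≫ q) T hT c n).mp hTle
    have hcl : IsClosed (ι ⁻¹' {x : X | (j : WithBot ℕ∞) ≤ topologicalKrullDim (π.fiber x)}) :=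
      (hB j).preimage ι.continuous
    have hcast : ((c : WithBot ℕ∞) + (j : WithBot ℕ∞)) = (((c + j : ℕ)) : WithBot ℕ∞) := by
      push_cast; rfl
    rw [add_assoc, hcast, topDim_add_le_iff k (ι ≫ q) _ (exists_immersion_of_isClosed _ hcl) (c + j) n]
    intro w hw
    obtain ⟨z, hz⟩ := (hBmem j (ι w)).mp hw
    have h1 := AffDimH8.height_fiberι k q π (ι w) z
    have hζT : π.fiberι (ι w) z ∈ T := ⟨w, (Groth.Agent.FibRes2H8.fiberι_mem π (ι w) z).symm⟩
    have h2 := hTle' _ hζT
    have h3 : Order.height w = Order.height (ι w) := AffDimH8.height_eq_of_lqf k q ι w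
    calc Order.height w + ((c + j : ℕ) : ℕ∞) = Order.height (ι w) + (j : ℕ∞) + (c : ℕ∞) := by
          rw [h3]; push_cast; ring
      _ ≤ Order.height (ι w) + Order.height z + (c : ℕ∞) := by gcongr
      _ = Order.height (π.fiberι (ι w) z) + (c : ℕ∞) := by rw [h1]
      _ ≤ n := h2
  · intro h
    rw [topDim_add_le_iff k (π ≫ q) T hT c n]
    intro t ht
    obtain ⟨w, hw⟩ := ht
    obtain ⟨j, -, hj⟩ := Groth.Agent.FibRes2H8.height_asFiber π t
    have h1 := AffDimH8.height_fiberι k q π (π t) (π.asFiber t)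
    rw [Scheme.Hom.fiberι_asFiber, hj] at h1
    have hmem : π t ∈ {x : X | (j : WithBot ℕ∞) ≤ topologicalKrullDim (π.fiber x)} :=
      (hBmem j (π t)).mpr ⟨π.asFiber t, le_of_eq hj.symm⟩
    have hmem' : w ∈ ι ⁻¹' {x : X | (j : WithBot ℕ∞) ≤ topologicalKrullDim (π.fiber x)} := by
      change ι w ∈ {x : X | (j : WithBot ℕ∞) ≤ topologicalKrullDim (π.fiber x)}
      rw [hw]
      exact hmem
    have hcl : IsClosed (ι ⁻¹' {x : X | (j : WithBot ℕ∞) ≤ topologicalKrullDim (π.fiber x)}) :=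
      (hB j).preimage ι.continuous
    have hcast : ((c : WithBot ℕ∞) + (j : WithBot ℕ∞)) = (((c + j : ℕ)) : WithBot ℕ∞) := by
      push_cast; rfl
    have h2 := h j
    rw [add_assoc, hcast, topDim_add_le_iff k (ι ≫ q) _ (exists_immersion_of_isClosed _ hcl) (c + j) n]
      at h2
    have h3 := h2 w hmem'
    have h4 : Order.height w = Order.height (ι w) := AffDimH8.height_eq_of_lqf k q ι w
    calc Order.height t + (c : ℕ∞) = Order.height w + ((c + j : ℕ) : ℕ∞) := by
          rw [h1, h4, hw]; push_cast; ring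
      _ ≤ n := h3

end Groth.Agent.Lib.RegMeetH8
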