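import Mathlib
import Groth.Agent.Lib.RegMeet1_helper8
import Groth.Agent.Lib.RegMeet5_helper8
import Groth.Agent.Lib.ConstrNF_lead

/-!
# Tools for "well intersecting" closed subsets with respect to a morphism
-/

set_option autoImplicit false

universe u

open CategoryTheory CategoryTheory.Limits AlgebraicGeometry TopologicalSpace Topology

namespace Groth.Agent.Lib.WellIntH8

open Groth.Agent.Lib.RegMeetH8 Groth.Agent.Lib.ConstrNF

/-- a locally closed subset `F ∩ O` of a scheme is the range of an immersion. -/
theorem exists_immersion_of_inter {Z : Scheme.{u}} (F O : Set Z) (hF : IsClosed F) (hO : IsOpen O) :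
    ∃ (T' : Scheme.{u}) (j : T' ⟶ Z), IsImmersion j ∧ Set.range j = F ∩ O := by
  obtain ⟨G, i, hi, hrange⟩ := exists_immersion_of_isClosed F hF
  let U : G.Opens := i ⁻¹ᵁ ⟨O, hO⟩
  refine ⟨U, U.ι ≫ i, inferInstance, ?_⟩
  ext z
  constructor
  · rintro ⟨u, rfl⟩
    refine ⟨hrange ▸ ⟨u.1, rfl⟩, u.2⟩
  · rintro ⟨hzF, hzO⟩
    rw [← hrange] at hzF
    obtain ⟨g, rfl⟩ := hzF
    exact ⟨⟨g, hzO⟩, rfl⟩

/-- a finite union of locally closed sets contained in the closure of a point and whose closure
contains that point contains the point. -/
theorem mem_of_finLC {S : Type*} [TopologicalSpace S] (A : Set S) (hA : FinLC A) (s : S)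
    (hAs : A ⊆ closure {s}) (hs : s ∈ closure A) : s ∈ A := by
  have hne : A.Nonempty := by
    by_contra h
    rw [Set.not_nonempty_iff_eq_empty] at h
    rw [h, closure_empty] at hs
    exact hs
  have hcl : closure A = closure {s} :=
    subset_antisymm (closure_minimal hAs isClosed_closure)
      (closure_minimal (Set.singleton_subset_iff.mpr hs) isClosed_closure)
  obtain ⟨U₀, hU₀, ⟨y, hy1, hy2⟩, hsub⟩ := hA.exists_open hne
  rw [hcl] at hy1 hsub
  have hsy : s ⤳ y := specializes_iff_mem_closure.mpr hy1
  have hsU : s ∈ U₀ := hsy.mem_open hU₀ hy2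
  exact hsub ⟨subset_closure rfl, hsU⟩

/-- Chevalley: images of locally closed sets under morphisms of finite type between noetherian
schemes are finite unions of locally closed sets. -/
theorem finLC_image {X S : Scheme.{u}} (f : X ⟶ S) [LocallyOfFiniteType f] [CompactSpace X]
    [IsLocallyNoetherian S] [CompactSpace S] (A : Set X) (hA : IsLocallyClosed A) :
    FinLC (f '' A) := by
  haveI : IsLocallyNoetherian X := LocallyOfFiniteType.isLocallyNoetherian f
  haveI : IsNoetherian X := {}
  haveI : LocallyOfFinitePresentation f := inferInstance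
  apply finLC_of_isConstructible
  apply f.isConstructible_image
  obtain ⟨O, F, hO, hF, rfl⟩ := hA
  have hO' : IsConstructible O := (NoetherianSpace.isCompact O).isConstructible hO
  have hF' : IsConstructible F := by
    rw [← isConstructible_compl]
    exact (NoetherianSpace.isCompact Fᶜ).isConstructible hF.isOpen_compl
  exact hO'.inter hF'

/-- heights do not increase along morphisms of schemes locally of finite type over a field. -/
theorem height_map_le (k : Type u) [Field k] {X Y : Scheme.{u}}
    (q : Y ⟶ Spec (CommRingCat.of k)) [LocallyOfFiniteType q]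
    (f : X ⟶ Y) [LocallyOfFiniteType f] (x : X) : Order.height (f x) ≤ Order.height x := by
  have h := AffDimH8.height_fiberι k q f (f x) (f.asFiber x)
  rw [Scheme.Hom.fiberι_asFiber] at h
  rw [h]
  exact le_self_add

theorem wb_le_of_add_le_add_left (a : ℕ) (x y : WithBot ℕ∞)
    (h : (a : WithBot ℕ∞) + x ≤ (a : WithBot ℕ∞) + y) : x ≤ y := by
  induction x with
  | bot => exact bot_le
  | coe x' =>
    induction y with
    | bot =>
      exfalso
      rw [WithBot.add_bot] at h
      have h' : ((((a : ℕ∞) + x' : ℕ∞)) : WithBot ℕ∞) ≤ ⊥ := by exact_mod_cast h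
      simp at h'
    | coe y' =>
      have h' : (a : ℕ∞) + x' ≤ (a : ℕ∞) + y' := by exact_mod_cast h
      have : x' ≤ y' := by
        induction x' with
        | top =>
          induction y' with
          | top => exact le_rfl
          | coe m =>
            exfalso
            simp at h'
        | coe n =>
          induction y' with
          | top => exact le_top
          | coe m =>
            have : a + n ≤ a + m := by exact_mod_cast h'
            have : n ≤ m := by omega
            exact_mod_cast this
      exact_mod_cast this

end Groth.Agent.Lib.WellIntH8
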