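import Mathlib
import Groth.Agent.Lib.WellInt1_helper8
import Groth.Agent.Lib.HtTrdeg_helper8

set_option autoImplicit false

universe u

open CategoryTheory CategoryTheory.Limits AlgebraicGeometry TopologicalSpace Topology

namespace Groth.Agent.Lib.WellIntH8

open Groth.Agent.Lib.RegMeetH8 Groth.Agent.Lib.ConstrNF

/-- the set `Y ×_S Z ∖ Δ` inside `X ×_S X`. -/
abbrev offDiag {X S : Scheme.{u}} (f : X ⟶ S) (Y Z : Set X) : Set ↥(pullback f f) :=
  {p : ↥(pullback f f) | pullback.fst f f p ∈ Y ∧ pullback.snd f f p ∈ Z ∧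
    p ∉ Set.range (pullback.diagonal f)}

theorem offDiag_immersion {X S : Scheme.{u}} (f : X ⟶ S) [IsSeparated f] (Y Z : Set X)
    (hY : IsClosed Y) (hZ : IsClosed Z) :
    ∃ (T' : Scheme.{u}) (j : T' ⟶ pullback f f), IsImmersion j ∧ Set.range j = offDiag f Y Z := by
  have hF : IsClosed ((pullback.fst f f) ⁻¹' Y ∩ (pullback.snd f f) ⁻¹' Z) :=
    (hY.preimage (pullback.fst f f).continuous).inter (hZ.preimage (pullback.snd f f).continuous)
  have hO : IsOpen (Set.range (pullback.diagonal f))ᶜ :=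
    (pullback.diagonal f).isClosedEmbedding.isClosed_range.isOpen_compl
  obtain ⟨T', j, hj, hr⟩ := exists_immersion_of_inter _ _ hF hO
  refine ⟨T', j, hj, ?_⟩
  rw [hr]
  ext p
  simp only [Set.mem_inter_iff, Set.mem_preimage, Set.mem_compl_iff, Set.mem_ofPred_eq, and_assoc]

theorem key_le (k : Type u) [Field k] {X S : Scheme.{u}}
    (q : S ⟶ Spec (CommRingCat.of k)) (f : X ⟶ S) [LocallyOfFiniteType q] [LocallyOfFiniteType f]
    [IsSeparated f] (Y Z : Set X) (hYc : IsClosed Y) (hZc : IsClosed Z) (η : X)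
    (hη : closure {η} = Y)
    (hWI : topologicalKrullDim (offDiag f Y Z) + topologicalKrullDim S ≤
      topologicalKrullDim Y + topologicalKrullDim Z)
    (p : ↥(pullback f f)) (hp : p ∈ offDiag f Y Z) (hpη : pullback.fst f f p = η) :
    topologicalKrullDim S ≤ topologicalKrullDim Z := by
  letI ov : X.Over (Spec (CommRingCat.of k)) := ⟨f ≫ q⟩
  haveI : LocallyOfFiniteType (X ↘ Spec (CommRingCat.of k)) :=
    inferInstanceAs (LocallyOfFiniteType (f ≫ q))
  obtain ⟨a, -, ha⟩ := Groth.Agent.HtTrdegH8.height_eq_trdeg k X η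
  have hdimY : topologicalKrullDim Y = (a : WithBot ℕ∞) := by
    rw [← hη, Groth.Agent.ClosHtH8.topologicalKrullDim_closure_singleton, ha]
    rfl
  have h1 : Order.height η ≤ Order.height p := by
    rw [← hpη]
    exact height_map_le k (f ≫ q) (pullback.fst f f) p
  have h2 := height_le_topDim k (pullback.fst f f ≫ f ≫ q) (offDiag f Y Z)
    (offDiag_immersion f Y Z hYc hZc) p hp
  have h3 : (a : WithBot ℕ∞) ≤ topologicalKrullDim (offDiag f Y Z) := by
    refine le_trans ?_ h2
    rw [ha] at h1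
    exact_mod_cast h1
  rw [hdimY] at hWI
  exact wb_le_of_add_le_add_left a _ _ (le_trans (add_le_add h3 le_rfl) hWI)

theorem main14484 (k : Type u) [Field k] (X S : Scheme.{u})
    (q : S ⟶ Spec (CommRingCat.of k)) (f : X ⟶ S)
    [LocallyOfFiniteType q] [CompactSpace S] [LocallyOfFiniteType f] [CompactSpace X]
    [IsSeparated f]
    (Y Z : Set X) (hYc : IsClosed Y) (hYi : IsIrreducible Y) (hZc : IsClosed Z)
    (hWI : topologicalKrullDim (offDiag f Y Z) + topologicalKrullDim S ≤
      topologicalKrullDim Y + topologicalKrullDim Z)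
    (hZS : topologicalKrullDim Z < topologicalKrullDim S)
    (hYZ : ¬ Y ⊆ Z) :
    ¬ (f.base '' Y ⊆ closure (f.base '' Y ∩ f.base '' Z)) ∧ ¬ (f.base '' Y ⊆ f.base '' Z) := by
  haveI : IsLocallyNoetherian S := LocallyOfFiniteType.isLocallyNoetherian q
  have h1 : ¬ (f.base '' Y ⊆ closure (f.base '' Y ∩ f.base '' Z)) := by
    intro hsub
    obtain ⟨η, hη⟩ := QuasiSober.sober hYi hYc
    have hηcl : closure ({η} : Set X) = Y := hη
    have hηY : η ∈ Y := hηcl ▸ subset_closure rfl
    have hs : f η ∈ closure (f.base '' Y ∩ f.base '' Z) := hsub ⟨η, hηY, rfl⟩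
    have hA : FinLC (f.base '' Y ∩ f.base '' Z) :=
      (finLC_image f Y hYc.isLocallyClosed).inter (finLC_image f Z hZc.isLocallyClosed)
    have hAs : f.base '' Y ∩ f.base '' Z ⊆ closure {f η} := by
      rintro _ ⟨⟨y, hy, rfl⟩, -⟩
      have : η ⤳ y := by
        rw [specializes_iff_mem_closure, hηcl]
        exact hy
      exact specializes_iff_mem_closure.mp (this.map f.continuous)
    have hmem := mem_of_finLC _ hA (f η) hAs hs
    obtain ⟨z, hzZ, hz⟩ := hmem.2
    obtain ⟨p, hp1, hp2⟩ := Scheme.Pullback.exists_preimage_pullback η z hz.symm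
    have hpΔ : p ∉ Set.range (pullback.diagonal f) := by
      rintro ⟨x, rfl⟩
      have e1 : pullback.fst f f (pullback.diagonal f x) = x := by
        rw [← Scheme.Hom.comp_apply, pullback.diagonal_fst]
        rfl
      have e2 : pullback.snd f f (pullback.diagonal f x) = x := by
        rw [← Scheme.Hom.comp_apply, pullback.diagonal_snd]
        rfl
      have : η = z := by rw [← hp1, ← hp2, e1, e2]
      apply hYZ
      rw [← hηcl]
      exact closure_minimal (Set.singleton_subset_iff.mpr (this ▸ hzZ)) hZc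
    have hle := key_le k q f Y Z hYc hZc η hηcl hWI p ⟨hp1 ▸ hηY, hp2 ▸ hzZ, hpΔ⟩ hp1
    exact absurd hle (not_le.mpr hZS)
  refine ⟨h1, fun h2 => h1 ?_⟩
  intro s hs
  exact subset_closure ⟨hs, h2 hs⟩

end Groth.Agent.Lib.WellIntH8
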