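import Mathlib
import Groth.Agent.Lib.WellInt2_helper8
import Groth.Agent.Lib.BCDimSch_helper8

set_option autoImplicit false

universe u

open CategoryTheory CategoryTheory.Limits AlgebraicGeometry TopologicalSpace Topology

namespace Groth.Agent.Lib.WellIntH8

open Groth.Agent.Lib.RegMeetH8

/-- fibre dimensions are invariant under base change. -/
theorem topDim_fiber_of_isPullback {P X Y Z : Scheme.{u}} {fst : P ⟶ X} {snd : P ⟶ Y}
    {f : X ⟶ Z} {g : Y ⟶ Z} [LocallyOfFiniteType f] (h : IsPullback fst snd f g) (y : Y) :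
    topologicalKrullDim ↥(snd.fiber y) = topologicalKrullDim ↥(f.fiber (g y)) := by
  have sq := isPullback_fiberToSpecResidueField_of_isPullback h y
  haveI : LocallyOfFiniteType (f.fiberToSpecResidueField (g y)) :=
    Groth.Agent.FibRes2H8.lft_fiber f (g y)
  have h1 := Groth.Agent.BCDimSchH8.dim_eq_of_iso sq.isoPullback
  have h2 := Groth.Agent.BCDimSchH8.dim_pullback_field (Z.residueField (g y)) (Y.residueField y)
    (f.fiber (g y)) (f.fiberToSpecResidueField (g y)) (g.residueFieldMap y)
  exact h1.trans h2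


/-- a morphism of schemes locally of finite type over a field all of whose fibres have dimension
`d` raises the dimension by `d`. -/
theorem topDim_eq_add_of_fibers (k : Type u) [Field k] {T T' : Scheme.{u}}
    (qT : T ⟶ Spec (CommRingCat.of k)) [LocallyOfFiniteType qT] (h : T' ⟶ T)
    [LocallyOfFiniteType h] (d : ℕ) (hd : ∀ t : T, topologicalKrullDim ↥(h.fiber t) = d) :
    topologicalKrullDim ↥T' = topologicalKrullDim ↥T + (d : WithBot ℕ∞) := by
  by_cases hT : Nonempty T
  · have key : ∀ t : T, ∃ t' : T', Order.height t + (d : ℕ∞) ≤ Order.height t' := by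
      intro t
      obtain ⟨z, hz⟩ := AffDimH8.exists_height_ge (h.fiber t) d (by rw [hd t])
      refine ⟨h.fiberι t z, ?_⟩
      rw [AffDimH8.height_fiberι k qT h t z]
      exact add_le_add le_rfl hz
    obtain ⟨t0, -⟩ := key hT.some
    haveI : Nonempty T' := ⟨t0⟩
    rw [AffDimH8.topDim_eq_coe_iSup T', AffDimH8.topDim_eq_coe_iSup T]
    have : ⨆ a : T', Order.height a = (⨆ a : T, Order.height a) + (d : ℕ∞) := by
      apply le_antisymm
      · refine iSup_le fun t' => ?_
        have h0 := AffDimH8.height_fiberι k qT h (h t') (h.asFiber t')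
        rw [Scheme.Hom.fiberι_asFiber] at h0
        rw [h0]
        refine add_le_add (le_iSup (fun a : T => Order.height a) (h t')) ?_
        have h1 := hd (h t')
        haveI : Nonempty (h.fiber (h t')) := ⟨h.asFiber t'⟩
        rw [AffDimH8.topDim_eq_coe_iSup] at h1
        have h1' : ⨆ a : h.fiber (h t'), Order.height a = (d : ℕ∞) := by exact_mod_cast h1
        rw [← h1']
        exact le_iSup _ (h.asFiber t')
      · rw [ENat.iSup_add]
        refine iSup_le fun t => ?_
        obtain ⟨t', ht'⟩ := key t
        exact le_iSup_of_le t' ht'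
    rw [this]
    rfl
  · rw [not_nonempty_iff] at hT
    haveI : IsEmpty T' := ⟨fun t' => hT.false (h t')⟩
    rw [TopDimLocH8.topDim_eq_bot_of_isEmpty T, TopDimLocH8.topDim_eq_bot_of_isEmpty T',
      WithBot.bot_add]

/-- preimages of locally closed subsets under a morphism with fibres of constant dimension `d`
have dimension raised by `d`. -/
theorem topDim_preimage_eq (k : Type u) [Field k] {T T' : Scheme.{u}}
    (qT : T ⟶ Spec (CommRingCat.of k)) [LocallyOfFiniteType qT] (h : T' ⟶ T)
    [LocallyOfFiniteType h] (d : ℕ) (hd : ∀ t : T, topologicalKrullDim ↥(h.fiber t) = d)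
    (A : Set T) (hA : ∃ (A₀ : Scheme.{u}) (j : A₀ ⟶ T), IsImmersion j ∧ Set.range j = A) :
    topologicalKrullDim ↥(h ⁻¹' A) = topologicalKrullDim ↥A + (d : WithBot ℕ∞) := by
  obtain ⟨A₀, j, hj, rfl⟩ := hA
  have hfib : ∀ a : A₀, topologicalKrullDim ↥((pullback.snd h j).fiber a) = d := by
    intro a
    rw [topDim_fiber_of_isPullback (IsPullback.of_hasPullback h j) a, hd]
  have h1 := topDim_eq_add_of_fibers k (j ≫ qT) (pullback.snd h j) d hfib
  have h2 : topologicalKrullDim ↥(Set.range j) = topologicalKrullDim ↥A₀ :=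
    (IsHomeomorph.topologicalKrullDim_eq _ (j.isEmbedding.toHomeomorph).isHomeomorph).symm
  have h3 : topologicalKrullDim ↥(h ⁻¹' Set.range j) = topologicalKrullDim ↥(pullback h j) := by
    rw [← Scheme.Pullback.range_fst h j]
    exact (IsHomeomorph.topologicalKrullDim_eq _
      ((pullback.fst h j).isEmbedding.toHomeomorph).isHomeomorph).symm
  rw [h3, h2, h1]

end Groth.Agent.Lib.WellIntH8
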