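import Mathlib
import Groth.Prelude
import Groth.Agent.Lib.AbelK_helper2
import Groth.Agent.Lib.AbelG_helper2
import Groth.Agent.Lib.EulerFibBC_helper2
import Groth.Agent.Lib.WellInt4_helper8

/-!
# Points of a family of curves of genus `≥ 1` are determined by their bundles (helper2)

For `f : C ⟶ S` proper smooth with geometrically connected fibres of dimension one and genus `≥ 1`,
and `LΔ = O(Δ)` on `C ×_S C`: two `U`-points `w, w'` of `C` over `S` with
`(1 × w)^* LΔ ≅ (1 × w')^* LΔ` on `C ×_S U` agree.
APPEND-ONLY once landed.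
-/

set_option autoImplicit false
set_option backward.isDefEq.respectTransparency false
set_option backward.isDefEq.respectTransparency.types false
set_option linter.style.haveILetI false
set_option linter.unusedSectionVars false
universe u

open CategoryTheory CategoryTheory.Limits AlgebraicGeometry TopologicalSpace Opposite

namespace Groth.Agent.Lib.CBCH2

open Groth.Agent.TensInv CohB1 QcqsLoc QCohExtn FLFH8 SerreCrit GenLocH8 TensH8

section Graph

variable {C S U : Scheme.{u}} (f : C ⟶ S) (b : U ⟶ S) (w : U ⟶ C) (hw : w ≫ f = b)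
  (g : pullback f b ⟶ pullback f f)
  (hg1 : g ≫ pullback.fst f f = pullback.fst f b)
  (hg2 : g ≫ pullback.snd f f = pullback.snd f b ≫ w)

/-- the section of the base change `C ×_S U ⟶ U` defined by a `U`-point of `C` -/
noncomputable def graphSec : U ⟶ pullback f b :=
  pullback.lift w (𝟙 U) (by rw [hw, Category.id_comp])

theorem graphSec_snd : graphSec f b w hw ≫ pullback.snd f b = 𝟙 U := pullback.lift_snd _ _ _

theorem graphSec_fst : graphSec f b w hw ≫ pullback.fst f b = w := pullback.lift_fst _ _ _

include hg1 hg2 in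
/-- the graph square: the section is the preimage of the diagonal under `1 × w` -/
theorem isPullback_graph :
    IsPullback w (graphSec f b w hw) (pullback.diagonal f) g := by
  have hbot : IsPullback (pullback.snd f f) (pullback.fst f f) f f :=
    (IsPullback.of_hasPullback f f).flip
  have hbig : IsPullback (pullback.snd f b) (g ≫ pullback.fst f f) (w ≫ f) f := by
    rw [hg1, hw]
    exact (IsPullback.of_hasPullback f b).flip
  have hR : IsPullback (pullback.snd f b) g w (pullback.snd f f) :=
    IsPullback.of_bot hbig hg2.symm hbot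
  have hout : IsPullback (graphSec f b w hw ≫ pullback.snd f b) w w
      (pullback.diagonal f ≫ pullback.snd f f) := by
    rw [graphSec_snd, pullback.diagonal_snd]
    exact IsPullback.of_horiz_isIso ⟨by rw [Category.id_comp, Category.comp_id]⟩
  have hp : graphSec f b w hw ≫ g = w ≫ pullback.diagonal f := by
    apply pullback.hom_ext
    · rw [Category.assoc, hg1, graphSec_fst, Category.assoc, pullback.diagonal_fst,
        Category.comp_id]
    · rw [Category.assoc, hg2, ← Category.assoc, graphSec_snd, Category.id_comp,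
        Category.assoc, pullback.diagonal_snd, Category.comp_id]
  exact (IsPullback.of_right hout hp hR).flip

include hg1 hg2 in
/-- the graph square, for the closed subschemes defined by the kernels -/
theorem isPullback_graph_ker [IsSeparated f] :
    ∃ g' : (graphSec f b w hw).ker.subscheme ⟶ (pullback.diagonal f).ker.subscheme,
      IsPullback g' (graphSec f b w hw).ker.subschemeι (pullback.diagonal f).ker.subschemeι g := by
  haveI : IsSeparated (pullback.snd f b) := inferInstance
  haveI : IsClosedImmersion (graphSec f b w hw) :=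
    isClosedImmersion_of_section (pullback.snd f b) _ (graphSec_snd f b w hw)
  haveI : IsClosedImmersion (pullback.diagonal f) := inferInstance
  have h0 := isPullback_graph f b w hw g hg1 hg2
  refine ⟨inv (graphSec f b w hw).toImage ≫ w ≫ (pullback.diagonal f).toImage, ?_⟩
  refine IsPullback.of_iso h0 (asIso (graphSec f b w hw).toImage)
    (asIso (pullback.diagonal f).toImage) (Iso.refl _) (Iso.refl _) ?_ ?_ ?_ ?_
  · simp
  · simp only [Iso.refl_hom, Category.comp_id, asIso_hom]
    exact ((graphSec f b w hw).toImage_imageι).symm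
  · simp only [Iso.refl_hom, Category.comp_id, asIso_hom]
    exact ((pullback.diagonal f).toImage_imageι).symm
  · simp

end Graph

section Main

variable {C S : Scheme.{u}} (f : C ⟶ S) [IsProper f] [Smooth f] [GeometricallyConnected f]

set_option maxHeartbeats 3200000 in
/-- **points are determined by their bundles** -/
theorem eq_of_pullback_iso
    (hdim : ∀ s : S, topologicalKrullDim ↥(f.fiber s) = 1)
    (hg : ∀ s : S, 1 ≤ CohIII.fiberRank f (Coh.structureModule C) 1 s)
    (LΔ : (pullback f f).Modules) (hLΔ : PicF.IsInvertible LΔ)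
    (hΔ : ClSub.IsInverseOf LΔ (ClSub.idealMod (pullback.diagonal f).ker))
    {U : Scheme.{u}} (b : U ⟶ S) (w w' : U ⟶ C) (hw : w ≫ f = b) (hw' : w' ≫ f = b)
    (g g' : pullback f b ⟶ pullback f f)
    (hg1 : g ≫ pullback.fst f f = pullback.fst f b)
    (hg2 : g ≫ pullback.snd f f = pullback.snd f b ≫ w)
    (hg1' : g' ≫ pullback.fst f f = pullback.fst f b)
    (hg2' : g' ≫ pullback.snd f f = pullback.snd f b ≫ w')
    (e : (Scheme.Modules.pullback g).obj LΔ ≅ (Scheme.Modules.pullback g').obj LΔ) :
    w = w' := by
  obtain ⟨βΔ⟩ := hΔ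
  -- the base change
  haveI : IsProper (pullback.snd f b) := inferInstance
  haveI : Smooth (pullback.snd f b) := inferInstance
  haveI : GeometricallyConnected (pullback.snd f b) := inferInstance
  haveI : LocallyOfFinitePresentation (pullback.snd f b) := inferInstance
  have hdimU : ∀ t : U, topologicalKrullDim ↥((pullback.snd f b).fiber t) = 1 := fun t => by
    rw [Groth.Agent.Lib.WellIntH8.topDim_fiber_of_isPullback (IsPullback.of_hasPullback f b) t]
    exact hdim (b t)
  have hgU : ∀ t : U, 1 ≤ CohIII.fiberRank (pullback.snd f b)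
      (Coh.structureModule (pullback f b)) 1 t := fun t => by
    haveI : (Coh.structureModule C).IsQuasicoherent := SerreCrit.isQuasicoherent_OO
    have h1 := betti_baseChange f b (Coh.structureModule C) t 1
    letI : ((pullback.snd f b).fiber t).Over (Spec (CommRingCat.of (U.residueField t))) :=
      ⟨(pullback.snd f b).fiberToSpecResidueField t⟩
    have h2 : PerfAux.betti (pullback.snd f b) (Coh.structureModule (pullback f b)) t 1 =
        PerfAux.betti (pullback.snd f b)
          ((Scheme.Modules.pullback (pullback.fst f b)).obj (Coh.structureModule C)) t 1 :=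
      (Groth.Agent.Lib.StalkFFH2.HHlinEquiv (U.residueField t)
        ((Scheme.Modules.pullback ((pullback.snd f b).fiberι t)).mapIso
          (PBH8.pullbackUnitIso (pullback.fst f b)).symm) 1).finrank_eq
    show 1 ≤ PerfAux.betti (pullback.snd f b) (Coh.structureModule (pullback f b)) t 1
    rw [h2, h1]
    exact hg (b t)
  -- the sections
  have hx : graphSec f b w hw ≫ pullback.snd f b = 𝟙 U := graphSec_snd f b w hw
  have hx' : graphSec f b w' hw' ≫ pullback.snd f b = 𝟙 U := graphSec_snd f b w' hw'
  -- the modules
  let βΔ' : CohB1.tensorMod (ClSub.idealMod (pullback.diagonal f).ker) LΔ ≅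
      Coh.structureModule (pullback f f) := Groth.Agent.TensInv.comm _ _ ≪≫ βΔ
  have hIΔ : PicF.IsInvertible (ClSub.idealMod (pullback.diagonal f).ker) :=
    InvTensH8.isInvertible_of_tensor_iso βΔ'
  have hL : PicF.IsInvertible ((Scheme.Modules.pullback g).obj LΔ) :=
    TensH8.isInvertible_pullback _ hLΔ
  let βJ : CohB1.tensorMod
      ((Scheme.Modules.pullback g).obj (ClSub.idealMod (pullback.diagonal f).ker))
      ((Scheme.Modules.pullback g).obj LΔ) ≅ Coh.structureModule (pullback f b) :=
    (PullTensH9.pullTensIso g hIΔ hLΔ).symm ≪≫ (Scheme.Modules.pullback g).mapIso βΔ' ≪≫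
      PBH8.pullbackUnitIso g
  let βJ' : CohB1.tensorMod
      ((Scheme.Modules.pullback g').obj (ClSub.idealMod (pullback.diagonal f).ker))
      ((Scheme.Modules.pullback g').obj LΔ) ≅ Coh.structureModule (pullback f b) :=
    (PullTensH9.pullTensIso g' hIΔ hLΔ).symm ≪≫ (Scheme.Modules.pullback g').mapIso βΔ' ≪≫
      PBH8.pullbackUnitIso g'
  let β'' : CohB1.tensorMod
      ((Scheme.Modules.pullback g').obj (ClSub.idealMod (pullback.diagonal f).ker))
      ((Scheme.Modules.pullback g).obj LΔ) ≅ Coh.structureModule (pullback f b) :=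
    Groth.Agent.TensInv.mapL _ e ≪≫ βJ'
  -- the presentations of the ideals of the sections
  obtain ⟨gk, hgk⟩ := isPullback_graph_ker f b w hw g hg1 hg2
  obtain ⟨π, hπe, hπ⟩ := exists_epi_pullback_ideal g (pullback.diagonal f).ker
    (graphSec f b w hw).ker gk hgk
  obtain ⟨gk', hgk'⟩ := isPullback_graph_ker f b w' hw' g' hg1' hg2'
  obtain ⟨π', hπe', hπ'⟩ := exists_epi_pullback_ideal g' (pullback.diagonal f).ker
    (graphSec f b w' hw').ker gk' hgk'
  haveI := hπe
  haveI := hπe'
  let cJ : cokernel ((Scheme.Modules.pullback g).map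
      (ClSub.idealModι (pullback.diagonal f).ker) ≫ (PBH8.pullbackUnitIso g).hom) ≅
      ClSub.quotMod (graphSec f b w hw).ker :=
    cokernelIsoOfEq hπ.symm ≪≫ cokernelEpiComp π _ ≪≫
      CurveIdeal.cokernelIso (graphSec f b w hw).ker
  -- properties of `L`
  have hLc := Groth.Agent.Lib.H0LiftH2.isCoh_of_isInvertible hL
  haveI : Coh.IsQCoh ((Scheme.Modules.pullback g).obj LΔ) := hLc.1
  have hF : FlatMod.IsFinLocFree ((Scheme.Modules.pullback g).obj LΔ) :=
    FLFH8.IsFinLocFreeOfRank.isFinLocFree _ (FLFH8.finLocFreeOfRank_one_of_isInvertible hL)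
  have hfp : CohB1.IsFP ((Scheme.Modules.pullback g).obj LΔ) :=
    FLFH8.isFinitePresentation_of_finLocFree _ hF
  have hfl : FlatMod.IsFlatOver (pullback.snd f b) ((Scheme.Modules.pullback g).obj LΔ) :=
    Groth.Agent.Lib.H0LiftH2.isFlatOver_of_isInvertible (pullback.snd f b) hL
  have h : ∀ t : U, SecSpansAt (pullback.snd f b) ((Scheme.Modules.pullback g).obj LΔ)
      (sigmaSecG ((Scheme.Modules.pullback g).obj LΔ)
        ((Scheme.Modules.pullback g).map (ClSub.idealModι (pullback.diagonal f).ker) ≫
          (PBH8.pullbackUnitIso g).hom) βJ) t := fun t =>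
    secSpansAt_sigmaSecG (pullback.snd f b) (graphSec f b w hw) _ _ hx hL cJ βJ t
      (hdimU t) (hgU t)
  haveI : (tR ((Scheme.Modules.pullback g).obj LΔ)).IsEquivalence :=
    isEquivalence_tR (swap ⟨βJ⟩)
  have hle := ker_le_of_sectionsG (pullback.snd f b) (graphSec f b w hw) (graphSec f b w' hw')
    ((Scheme.Modules.pullback g).obj LΔ) _ _ hfp hfl π hπ π' hπ' βJ β'' h
  have hxx := section_eq_of_ker_le (pullback.snd f b) (graphSec f b w hw)
    (graphSec f b w' hw') hx hx' hle
  calc w = graphSec f b w hw ≫ pullback.fst f b := (graphSec_fst f b w hw).symm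
    _ = graphSec f b w' hw' ≫ pullback.fst f b := by rw [hxx]
    _ = w' := graphSec_fst f b w' hw'

end Main

end Groth.Agent.Lib.CBCH2
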