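import Mathlib
import Groth.Prelude.Def_EtRam

/-!
# Von Neumann regularity of reduced zero-dimensional rings (helper8)
-/

set_option autoImplicit false
universe u

namespace Groth.Agent.Lib.GRedH8

open IsLocalRing TensorProduct

/-- In a reduced ring, an element of a minimal prime is killed by an element outside it. -/
theorem exists_mul_eq_zero_of_mem_minimalPrimes {E : Type u} [CommRing E] [IsReduced E]
    (p : Ideal E) (hp : p ∈ minimalPrimes E) (x : E) (hx : x ∈ p) :
    ∃ s, s ∉ p ∧ s * x = 0 := by
  haveI : p.IsPrime := hp.1.1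
  haveI : Ring.KrullDimLE 0 (Localization.AtPrime p) := Ring.KrullDimLE.of_isLocalization p hp _
  haveI : IsReduced (Localization.AtPrime p) := inferInstanceAs (IsReduced (Localization p.primeCompl))
  have hF : IsField (Localization.AtPrime p) := Ring.KrullDimLE.isField_of_isReduced
  have h0 : algebraMap E (Localization.AtPrime p) x = 0 := by
    by_contra hne
    obtain ⟨y, hy⟩ := hF.mul_inv_cancel hne
    have hu : IsUnit (algebraMap E (Localization.AtPrime p) x) := IsUnit.of_mul_eq_one _ hy
    have hm : algebraMap E (Localization.AtPrime p) x ∈ maximalIdeal (Localization.AtPrime p) :=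
      (IsLocalization.AtPrime.to_map_mem_maximal_iff _ p x).mpr hx
    exact (mem_maximalIdeal _).mp hm hu
  rw [IsLocalization.map_eq_zero_iff p.primeCompl] at h0
  obtain ⟨c, hc⟩ := h0
  exact ⟨c, c.2, hc⟩

/-- A reduced ring of Krull dimension zero is von Neumann regular. -/
theorem vnr_of_reduced_dim0 {E : Type u} [CommRing E] [IsReduced E] [Ring.KrullDimLE 0 E]
    (x : E) : ∃ y, x = x * x * y := by
  classical
  let I : Ideal E := Ideal.span {x} ⊔ (Submodule.span E ({x} : Set E)).annihilator
  by_cases hI : I = ⊤
  · have h1 : (1 : E) ∈ I := by rw [hI]; exact Submodule.mem_top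
    obtain ⟨a, ha, s, hs, has⟩ := Submodule.mem_sup.mp h1
    obtain ⟨y, rfl⟩ := Ideal.mem_span_singleton'.mp ha
    have hsx : s * x = 0 := by
      rw [Submodule.mem_annihilator_span_singleton, smul_eq_mul] at hs
      exact hs
    refine ⟨y, ?_⟩
    calc x = x * 1 := (mul_one x).symm
      _ = x * (y * x + s) := by rw [has]
      _ = x * x * y + s * x := by ring
      _ = x * x * y := by rw [hsx, add_zero]
  · exfalso
    obtain ⟨m, hm, hIm⟩ := Ideal.exists_le_maximal I hI
    haveI : m.IsPrime := hm.isPrime
    have hmin : m ∈ minimalPrimes E := by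
      rw [Ring.KrullDimLE.minimalPrimes_eq_setOfPred_isPrime]
      exact hm.isPrime
    have hxm : x ∈ m := hIm (Ideal.mem_sup_left (Ideal.mem_span_singleton_self x))
    obtain ⟨s, hs, hsx⟩ := exists_mul_eq_zero_of_mem_minimalPrimes m hmin x hxm
    apply hs
    apply hIm
    apply Ideal.mem_sup_right
    rw [Submodule.mem_annihilator_span_singleton, smul_eq_mul]
    exact hsx

/-- Von Neumann regularity passes to quotients. -/
theorem vnr_of_surjective {C E : Type u} [CommRing C] [CommRing E] (f : C →+* E)
    (hf : Function.Surjective f) (hC : ∀ x : C, ∃ y, x = x * x * y) (x : E) :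
    ∃ y, x = x * x * y := by
  obtain ⟨c, rfl⟩ := hf x
  obtain ⟨y, hy⟩ := hC c
  refine ⟨f y, ?_⟩
  rw [← map_mul, ← map_mul, ← hy]

/-- A von Neumann regular commutative ring is reduced. -/
theorem isReduced_of_vnr {E : Type u} [CommRing E] (hE : ∀ x : E, ∃ y, x = x * x * y) :
    IsReduced E := by
  constructor
  intro x hx
  obtain ⟨n, hn⟩ := hx
  obtain ⟨y, hy⟩ := hE x
  have key : ∀ k : ℕ, x = x ^ (k + 1) * y ^ k := by
    intro k
    induction k with
    | zero => simp
    | succ k ih =>
      calc x = x * x * y := hy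
        _ = (x ^ (k + 1) * y ^ k) * x * y := by rw [← ih]
        _ = x ^ (k + 1 + 1) * y ^ (k + 1) := by ring
  have h1 := key n
  rw [pow_succ, hn, zero_mul, zero_mul] at h1
  exact h1

/-- An algebra integral over a field has Krull dimension zero. -/
theorem krullDimLE_zero_of_isIntegral (k E : Type u) [Field k] [CommRing E] [Algebra k E]
    [Algebra.IsIntegral k E] : Ring.KrullDimLE 0 E := by
  apply Ring.KrullDimLE.mk₀
  intro P hP
  haveI := hP
  apply Ideal.isMaximal_of_isIntegral_of_isMaximal_comap (R := k) P
  have hprime : (P.comap (algebraMap k E)).IsPrime := Ideal.comap_isPrime _ _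
  have hbot : P.comap (algebraMap k E) = ⊥ := by
    rcases Ideal.eq_bot_or_top (P.comap (algebraMap k E)) with h | h
    · exact h
    · exact absurd h hprime.ne_top
  rw [hbot]
  exact Ideal.bot_isMaximal

end Groth.Agent.Lib.GRedH8
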