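import Mathlib
import Groth.Prelude.Def_EtRam
import Groth.Agent.Lib.GRedDvr1_helper8

/-!
# Adjoining an `e`-th root of a unit to a von Neumann regular ring (helper8)
-/

set_option autoImplicit false
universe u

namespace Groth.Agent.Lib.AbhH8

open IsLocalRing TensorProduct Polynomial Groth.Agent.Lib.GRedH8

/-- Adjoining a root of a separable polynomial to a field gives a reduced ring. -/
theorem isReduced_adjoinRoot_of_separable {k : Type u} [Field k] (f : k[X]) (hf : f.Separable) :
    IsReduced (AdjoinRoot f) := by
  have hrad : (Ideal.span {f}).IsRadical := isRadical_iff_span_singleton.mp hf.squarefree.isRadical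
  exact (Ideal.isRadical_iff_quotient_reduced _).mp hrad

/-- A von Neumann regular ring has Krull dimension zero. -/
theorem krullDimLE_zero_of_vnr {C : Type u} [CommRing C] (hC : ∀ x : C, ∃ y, x = x * x * y) :
    Ring.KrullDimLE 0 C := by
  apply Ring.KrullDimLE.mk₀
  intro P hP
  rw [Ideal.isMaximal_iff]
  refine ⟨fun h1 => hP.ne_top ((Ideal.eq_top_iff_one _).mpr h1), ?_⟩
  intro J x hPJ hxP hxJ
  obtain ⟨y, hy⟩ := hC x
  have h1 : x * (1 - x * y) = 0 := by
    rw [mul_sub, mul_one, ← mul_assoc, ← hy, sub_self]
  have h2 : 1 - x * y ∈ P := by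
    have : x * (1 - x * y) ∈ P := by rw [h1]; exact P.zero_mem
    exact (hP.mem_or_mem this).resolve_left hxP
  have h3 : (1 : C) = (1 - x * y) + x * y := by ring
  rw [h3]
  exact J.add_mem (hPJ h2) (J.mul_mem_right _ hxJ)

/-- Adjoining an `e`-th root of a unit `c` to a von Neumann regular ring in which `e` is
invertible gives a von Neumann regular ring. -/
theorem vnr_adjoinRoot {C : Type u} [CommRing C] (hC : ∀ x : C, ∃ y, x = x * x * y) (e : ℕ)
    (he0 : 0 < e) (he : IsUnit (e : C)) (c : C) (hc : IsUnit c)
    (z : AdjoinRoot (X ^ e - Polynomial.C c : C[X])) : ∃ y, z = z * z * y := by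
  classical
  rcases subsingleton_or_nontrivial C with hsub | hnon
  · haveI : Subsingleton (AdjoinRoot (X ^ e - Polynomial.C c : C[X])) := by
      have : (1 : AdjoinRoot (X ^ e - Polynomial.C c : C[X])) = 0 := by
        have h1 : (1 : C) = 0 := Subsingleton.elim _ _
        have := congrArg (AdjoinRoot.of (X ^ e - Polynomial.C c : C[X])) h1
        rwa [map_one, map_zero] at this
      exact subsingleton_of_zero_eq_one this.symm
    exact ⟨0, Subsingleton.elim _ _⟩
  haveI : IsReduced C := isReduced_of_vnr hC
  haveI : Ring.KrullDimLE 0 C := krullDimLE_zero_of_vnr hC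
  set f : C[X] := X ^ e - Polynomial.C c with hf
  have hmonic : f.Monic := Polynomial.monic_X_pow_sub_C c he0.ne'
  have hdeg : f.degree = e := Polynomial.degree_X_pow_sub_C he0 c
  haveI : Module.Finite C (AdjoinRoot f) := hmonic.finite_adjoinRoot
  haveI : Algebra.IsIntegral C (AdjoinRoot f) := Algebra.IsIntegral.of_finite C _
  haveI : Ring.KrullDimLE 0 (AdjoinRoot f) := by
    apply Ring.KrullDimLE.mk₀
    intro P hP
    haveI := hP
    apply Ideal.isMaximal_of_isIntegral_of_isMaximal_comap (R := C) P
    haveI : (P.comap (algebraMap C (AdjoinRoot f))).IsPrime := Ideal.comap_isPrime _ _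
    exact Ideal.isMaximal_of_isPrime _
  haveI : IsReduced (AdjoinRoot f) := by
    constructor
    intro z hz
    obtain ⟨g, rfl⟩ := AdjoinRoot.mk_surjective z
    set r : C[X] := g %ₘ f with hr
    have hgr : AdjoinRoot.mk f g = AdjoinRoot.mk f r := by
      rw [AdjoinRoot.mk_eq_mk]
      refine ⟨g /ₘ f, ?_⟩
      have := Polynomial.modByMonic_add_div g f
      rw [hr]
      linear_combination (-1 : C[X]) * this
    have hrdeg : r.degree < f.degree := Polynomial.degree_modByMonic_lt g hmonic
    have hcoeff : ∀ (m : Ideal C), m.IsMaximal → ∀ i, r.coeff i ∈ m := by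
      intro m hm i
      letI : Field (C ⧸ m) := Ideal.Quotient.field m
      set q : C →+* C ⧸ m := Ideal.Quotient.mk m with hq
      have hfq : f.map q = X ^ e - Polynomial.C (q c) := by
        rw [hf, Polynomial.map_sub, Polynomial.map_pow, Polynomial.map_X, Polynomial.map_C]
      have he' : ((e : ℕ) : C ⧸ m) ≠ 0 := by
        have h1 : IsUnit (q (e : C)) := he.map q
        rw [map_natCast] at h1
        exact h1.ne_zero
      have hc' : q c ≠ 0 := (hc.map q).ne_zero
      have hsep : (f.map q).Separable := by
        rw [hfq]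
        exact Polynomial.separable_X_pow_sub_C (q c) he' hc'
      haveI : IsReduced (AdjoinRoot (f.map q)) := isReduced_adjoinRoot_of_separable _ hsep
      have hev : f.eval₂ ((AdjoinRoot.of (f.map q)).comp q) (AdjoinRoot.root (f.map q)) = 0 := by
        rw [← Polynomial.eval₂_map, AdjoinRoot.eval₂_root]
      let φ : AdjoinRoot f →+* AdjoinRoot (f.map q) :=
        AdjoinRoot.lift ((AdjoinRoot.of (f.map q)).comp q) (AdjoinRoot.root (f.map q)) hev
      have hφ : φ (AdjoinRoot.mk f r) = AdjoinRoot.mk (f.map q) (r.map q) := by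
        show AdjoinRoot.lift _ _ hev (AdjoinRoot.mk f r) = _
        rw [AdjoinRoot.lift_mk, ← Polynomial.eval₂_map, ← AdjoinRoot.aeval_eq,
          Polynomial.aeval_def]
        rfl
      have hnil : IsNilpotent (φ (AdjoinRoot.mk f r)) := by
        rw [← hgr]
        exact hz.map φ
      have h0 : AdjoinRoot.mk (f.map q) (r.map q) = 0 := by
        rw [← hφ]
        exact hnil.eq_zero
      rw [AdjoinRoot.mk_eq_zero] at h0
      have hdegq : (f.map q).degree = e := by
        rw [hfq]
        exact Polynomial.degree_X_pow_sub_C he0 (q c)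
      have hlt : (r.map q).degree < (f.map q).degree := by
        rw [hdegq, ← hdeg]
        exact lt_of_le_of_lt (Polynomial.degree_map_le) hrdeg
      have hr0 : r.map q = 0 := Polynomial.eq_zero_of_dvd_of_degree_lt h0 hlt
      have := congrArg (fun p => Polynomial.coeff p i) hr0
      simp only [Polynomial.coeff_map, Polynomial.coeff_zero] at this
      exact Ideal.Quotient.eq_zero_iff_mem.mp this
    have hr0 : r = 0 := by
      ext i
      rw [Polynomial.coeff_zero]
      have h1 : r.coeff i ∈ (⊥ : Ideal C).jacobson := by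
        rw [Ideal.jacobson, Ideal.mem_sInf]
        rintro m ⟨-, hm⟩
        exact hcoeff m hm i
      rw [Ideal.jacobson_eq_radical] at h1
      have h2 : (⊥ : Ideal C).radical = ⊥ := by
        have := nilradical_eq_zero C
        exact this
      rw [h2, Ideal.mem_bot] at h1
      exact h1
    rw [hgr, hr0, map_zero]
  exact vnr_of_reduced_dim0 _

end Groth.Agent.Lib.AbhH8
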