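import Mathlib
import Groth.Prelude.Def_EtRam
import Groth.Agent.Lib.GRedDvr1_helper8

/-!
# Tensor products with a geometrically reduced field extension are von Neumann regular (helper8)
-/

set_option autoImplicit false
universe u

namespace Groth.Agent.Lib.GRedH8

open IsLocalRing TensorProduct

/-- For `kB / k` a geometrically reduced field extension and `F / k` algebraic, `kB ⊗[k] F` is
von Neumann regular. -/
theorem vnr_tensor (k kB F : Type u) [Field k] [Field kB] [Field F] [Algebra k kB] [Algebra k F]
    [Algebra.IsAlgebraic k F] [Algebra.IsGeometricallyReduced k kB] (x : kB ⊗[k] F) :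
    ∃ y, x = x * x * y := by
  haveI : IsReduced (F ⊗[k] kB) := inferInstance
  haveI : IsReduced (kB ⊗[k] F) :=
    isReduced_of_injective (Algebra.TensorProduct.comm k kB F).toRingEquiv.toRingHom
      (Algebra.TensorProduct.comm k kB F).injective
  haveI : Algebra.IsIntegral k F := Algebra.IsAlgebraic.isIntegral
  haveI : Algebra.IsIntegral kB (kB ⊗[k] F) := inferInstance
  haveI : Ring.KrullDimLE 0 (kB ⊗[k] F) := krullDimLE_zero_of_isIntegral kB _
  exact vnr_of_reduced_dim0 x

/-- A ring generated by the images of `kB` and an algebraic extension `F` of `k`, compatibly over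
`k`, is von Neumann regular when `kB / k` is geometrically reduced. -/
theorem vnr_of_generated (k kB F : Type u) [Field k] [Field kB] [Field F] [Algebra k kB]
    [Algebra k F] [Algebra.IsAlgebraic k F] [Algebra.IsGeometricallyReduced k kB]
    {E : Type u} [CommRing E] (χB : kB →+* E) (χF : F →+* E)
    (hcompat : ∀ c : k, χB (algebraMap k kB c) = χF (algebraMap k F c))
    (hgen : ∀ e : E, e ∈ Subring.closure (Set.range χB ∪ Set.range χF)) (x : E) :
    ∃ y, x = x * x * y := by
  letI : Algebra k E := (χB.comp (algebraMap k kB)).toAlgebra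
  let fB : kB →ₐ[k] E := { χB with commutes' := fun _ => rfl }
  let fF : F →ₐ[k] E := { χF with commutes' := fun c => (hcompat c).symm }
  let χ : kB ⊗[k] F →ₐ[k] E := Algebra.TensorProduct.productMap fB fF
  have hχB : ∀ b : kB, χ (b ⊗ₜ 1) = χB b := by
    intro b
    rw [Algebra.TensorProduct.productMap_apply_tmul, map_one, mul_one]
    rfl
  have hχF : ∀ c : F, χ (1 ⊗ₜ c) = χF c := by
    intro c
    rw [Algebra.TensorProduct.productMap_apply_tmul, map_one, one_mul]
    rfl
  have hsurj : Function.Surjective χ.toRingHom := by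
    intro e
    have he := hgen e
    induction he using Subring.closure_induction with
    | mem e he =>
      rcases he with ⟨b, rfl⟩ | ⟨c, rfl⟩
      · exact ⟨b ⊗ₜ 1, hχB b⟩
      · exact ⟨1 ⊗ₜ c, hχF c⟩
    | zero => exact ⟨0, map_zero _⟩
    | one => exact ⟨1, map_one _⟩
    | add x y _ _ hx hy =>
      obtain ⟨a, rfl⟩ := hx
      obtain ⟨b, rfl⟩ := hy
      exact ⟨a + b, map_add _ _ _⟩
    | neg x _ hx =>
      obtain ⟨a, rfl⟩ := hx
      exact ⟨-a, map_neg _ _⟩
    | mul x y _ _ hx hy =>
      obtain ⟨a, rfl⟩ := hx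
      obtain ⟨b, rfl⟩ := hy
      exact ⟨a * b, map_mul _ _ _⟩
  exact vnr_of_surjective χ.toRingHom hsurj (vnr_tensor k kB F) x

end Groth.Agent.Lib.GRedH8
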