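import Mathlib
import Groth.Prelude.Def_EtRam
import Groth.Agent.Lib.GRedDvr2_helper8
import Groth.Agent.Lib.AbhLem1_helper8

/-!
# Rings generated by a geometrically reduced extension, an algebraic extension and a tame root
(helper8)
-/

set_option autoImplicit false
universe u

namespace Groth.Agent.Lib.AbhH8

open IsLocalRing TensorProduct Polynomial Groth.Agent.Lib.GRedH8

/-- A ring generated by the images of `kB` (geometrically reduced over `k`), of an algebraic
extension `F` of `k` and by an `e`-th root `x` of a quotient of nonzero elements, `e` invertible in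
`k`, is von Neumann regular. -/
theorem vnr_of_generated_root (k kB F : Type u) [Field k] [Field kB] [Field F] [Algebra k kB]
    [Algebra k F] [Algebra.IsAlgebraic k F] [Algebra.IsGeometricallyReduced k kB]
    {E : Type u} [CommRing E] (χB : kB →+* E) (χF : F →+* E)
    (hcompat : ∀ c : k, χB (algebraMap k kB c) = χF (algebraMap k F c))
    (e : ℕ) (he0 : 0 < e) (he : (e : k) ≠ 0) (b : kB) (hb : b ≠ 0) (a : F) (ha : a ≠ 0) (x : E)
    (hx : χF a * x ^ e = χB b)
    (hgen : ∀ z : E, z ∈ Subring.closure (Set.range χB ∪ Set.range χF ∪ {x})) (z : E) :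
    ∃ y, z = z * z * y := by
  letI : Algebra k E := (χB.comp (algebraMap k kB)).toAlgebra
  let fB : kB →ₐ[k] E := { χB with commutes' := fun _ => rfl }
  let fF : F →ₐ[k] E := { χF with commutes' := fun c => (hcompat c).symm }
  let χ : kB ⊗[k] F →ₐ[k] E := Algebra.TensorProduct.productMap fB fF
  have hχ : ∀ (b' : kB) (a' : F), χ (b' ⊗ₜ a') = χB b' * χF a' := by
    intro b' a'
    rw [Algebra.TensorProduct.productMap_apply_tmul]
    rfl
  have hχB : ∀ b' : kB, χ (b' ⊗ₜ 1) = χB b' := by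
    intro b'
    rw [hχ, map_one, mul_one]
  have hχF : ∀ c : F, χ (1 ⊗ₜ c) = χF c := by
    intro c
    rw [hχ, map_one, one_mul]
  have hC := vnr_tensor k kB F
  set c : kB ⊗[k] F := b ⊗ₜ a⁻¹ with hc
  have hcu : IsUnit c := by
    refine IsUnit.of_mul_eq_one (b⁻¹ ⊗ₜ a) ?_
    rw [hc, Algebra.TensorProduct.tmul_mul_tmul, mul_inv_cancel₀ hb, inv_mul_cancel₀ ha]
    rfl
  have heu : IsUnit ((e : ℕ) : kB ⊗[k] F) := by
    have h1 : IsUnit (algebraMap k (kB ⊗[k] F) (e : k)) := (IsUnit.mk0 _ he).map _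
    rwa [map_natCast] at h1
  have hxe : x ^ e = χ c := by
    rw [hc, hχ, ← hx]
    have h1 : χF a * χF a⁻¹ = 1 := by rw [← map_mul, mul_inv_cancel₀ ha, map_one]
    calc x ^ e = (χF a * χF a⁻¹) * x ^ e := by rw [h1, one_mul]
      _ = χF a * x ^ e * χF a⁻¹ := by ring
  have hev : (X ^ e - Polynomial.C c : (kB ⊗[k] F)[X]).eval₂ χ.toRingHom x = 0 := by
    rw [Polynomial.eval₂_sub, Polynomial.eval₂_pow, Polynomial.eval₂_X, Polynomial.eval₂_C, hxe]
    exact sub_self _
  let ψ : AdjoinRoot (X ^ e - Polynomial.C c : (kB ⊗[k] F)[X]) →+* E :=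
    AdjoinRoot.lift χ.toRingHom x hev
  have hψof : ∀ t : kB ⊗[k] F, ψ (AdjoinRoot.of _ t) = χ t := fun t => AdjoinRoot.lift_of hev
  have hψroot : ψ (AdjoinRoot.root _) = x := AdjoinRoot.lift_root hev
  have hsurj : Function.Surjective ψ := by
    intro y
    have hy := hgen y
    induction hy using Subring.closure_induction with
    | mem y hy =>
      rcases hy with (⟨b', rfl⟩ | ⟨a', rfl⟩) | hy
      · exact ⟨AdjoinRoot.of _ (b' ⊗ₜ 1), by rw [hψof, hχB]⟩
      · exact ⟨AdjoinRoot.of _ (1 ⊗ₜ a'), by rw [hψof, hχF]⟩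
      · rw [Set.mem_singleton_iff] at hy
        rw [hy]
        exact ⟨AdjoinRoot.root _, hψroot⟩
    | zero => exact ⟨0, map_zero _⟩
    | one => exact ⟨1, map_one _⟩
    | add x y _ _ hx hy =>
      obtain ⟨a, rfl⟩ := hx
      obtain ⟨b, rfl⟩ := hy
      exact ⟨a + b, map_add _ _ _⟩
    | neg x _ hx =>
      obtain ⟨a, rfl⟩ := hx
      exact ⟨-a, map_neg _ _⟩
    | mul x y _ _ hx hy =>
      obtain ⟨a, rfl⟩ := hx
      obtain ⟨b, rfl⟩ := hy
      exact ⟨a * b, map_mul _ _ _⟩
  exact vnr_of_surjective ψ hsurj (vnr_adjoinRoot hC e he0 heu c hcu) z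

/-- If `kB / kA` is geometrically reduced, `k₁ / kA` is algebraic and the field `kW ⊇ k₁` is
generated as a ring by the images of `kB` and `k₁` (compatibly over `kA`) and a tame root, then
`kW / k₁` is geometrically reduced. -/
theorem geomRed_of_generated_root (kA kB k₁ kW : Type u) [Field kA] [Field kB] [Field k₁]
    [Field kW] [Algebra kA kB] [Algebra kA k₁] [Algebra k₁ kW] [Algebra.IsAlgebraic kA k₁]
    [Algebra.IsGeometricallyReduced kA kB] (ι : kB →+* kW)
    (hcompat : ∀ c : kA, ι (algebraMap kA kB c) = algebraMap k₁ kW (algebraMap kA k₁ c))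
    (e : ℕ) (he0 : 0 < e) (he : (e : kA) ≠ 0) (b : kB) (hb : b ≠ 0) (a : k₁) (ha : a ≠ 0)
    (x : kW) (hx : algebraMap k₁ kW a * x ^ e = ι b)
    (hgen : ∀ w : kW, w ∈ Subring.closure
      (Set.range ι ∪ Set.range (algebraMap k₁ kW) ∪ {x})) :
    Algebra.IsGeometricallyReduced k₁ kW := by
  rw [Algebra.isGeometricallyReduced_field_iff]
  haveI : Algebra.IsAlgebraic kA (AlgebraicClosure k₁) :=
    Algebra.IsAlgebraic.trans kA k₁ (AlgebraicClosure k₁)
  let χB : kB →+* AlgebraicClosure k₁ ⊗[k₁] kW :=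
    (Algebra.TensorProduct.includeRight :
      kW →ₐ[k₁] AlgebraicClosure k₁ ⊗[k₁] kW).toRingHom.comp ι
  let χF : AlgebraicClosure k₁ →+* AlgebraicClosure k₁ ⊗[k₁] kW :=
    Algebra.TensorProduct.includeLeftRingHom
  have hχB : ∀ b, χB b = 1 ⊗ₜ ι b := fun b => rfl
  have hχF : ∀ ω, χF ω = ω ⊗ₜ 1 := fun ω => rfl
  have hk₁ : ∀ c : k₁, (1 : AlgebraicClosure k₁) ⊗ₜ[k₁] (algebraMap k₁ kW c) =
      (algebraMap k₁ (AlgebraicClosure k₁) c) ⊗ₜ[k₁] (1 : kW) := by
    intro c
    rw [Algebra.algebraMap_eq_smul_one, Algebra.algebraMap_eq_smul_one (A := AlgebraicClosure k₁),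
      TensorProduct.smul_tmul]
  have hpow : ∀ n : ℕ, ((1 : AlgebraicClosure k₁) ⊗ₜ[k₁] x) ^ n = 1 ⊗ₜ[k₁] (x ^ n) := by
    intro n
    rw [Algebra.TensorProduct.tmul_pow, one_pow]
  apply isReduced_of_vnr
  apply vnr_of_generated_root kA kB (AlgebraicClosure k₁) χB χF ?_ e he0 he b hb
    (algebraMap k₁ (AlgebraicClosure k₁) a) ?_ ((1 : AlgebraicClosure k₁) ⊗ₜ[k₁] x) ?_ ?_
  · intro c
    rw [hχB, hχF, hcompat, hk₁, ← IsScalarTower.algebraMap_apply]
  · rw [Ne, map_eq_zero]
    exact ha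
  · rw [hχF, hχB, hpow, Algebra.TensorProduct.tmul_mul_tmul, mul_one, one_mul, ← hx,
      Algebra.algebraMap_eq_smul_one (A := AlgebraicClosure k₁), TensorProduct.smul_tmul,
      Algebra.smul_def]
  · intro z
    have hright : ∀ w : kW, (1 : AlgebraicClosure k₁) ⊗ₜ[k₁] w ∈
        Subring.closure (Set.range χB ∪ Set.range χF ∪ {(1 : AlgebraicClosure k₁) ⊗ₜ[k₁] x}) := by
      intro w
      have hw := hgen w
      induction hw using Subring.closure_induction with
      | mem w hw =>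
        rcases hw with (⟨b, rfl⟩ | ⟨c, rfl⟩) | hw
        · exact Subring.subset_closure (Or.inl (Or.inl ⟨b, rfl⟩))
        · rw [hk₁]
          exact Subring.subset_closure (Or.inl (Or.inr ⟨_, rfl⟩))
        · rw [Set.mem_singleton_iff] at hw
          rw [hw]
          exact Subring.subset_closure (Or.inr rfl)
      | zero => rw [TensorProduct.tmul_zero]; exact Subring.zero_mem _
      | one => exact Subring.one_mem _
      | add x y _ _ hx hy => rw [TensorProduct.tmul_add]; exact Subring.add_mem _ hx hy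
      | neg x _ hx => rw [TensorProduct.tmul_neg]; exact Subring.neg_mem _ hx
      | mul x y _ _ hx hy =>
        have : (1 : AlgebraicClosure k₁) ⊗ₜ[k₁] (x * y) = (1 ⊗ₜ x) * (1 ⊗ₜ y) := by
          rw [Algebra.TensorProduct.tmul_mul_tmul, one_mul]
        rw [this]
        exact Subring.mul_mem _ hx hy
    induction z using TensorProduct.induction_on with
    | zero => exact Subring.zero_mem _
    | add x y hx hy => exact Subring.add_mem _ hx hy
    | tmul ω w =>
      have : ω ⊗ₜ[k₁] w = (ω ⊗ₜ[k₁] (1 : kW)) * ((1 : AlgebraicClosure k₁) ⊗ₜ[k₁] w) := by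
        rw [Algebra.TensorProduct.tmul_mul_tmul, mul_one, one_mul]
      rw [this]
      apply Subring.mul_mem _ _ (hright w)
      exact Subring.subset_closure (Or.inl (Or.inr ⟨ω, rfl⟩))

end Groth.Agent.Lib.AbhH8
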