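import Mathlib
import Groth.Prelude.Def_EtRam

/-!
# Core surjectivity without noetherian hypotheses (helper8)
-/

set_option autoImplicit false
universe u

namespace Groth.Agent.Lib.GRedH8

open IsLocalRing TensorProduct

/-- In a local ring with principal maximal ideal `(π)`, an element not in all powers of `(π)` is a
unit times a power of `π`. -/
theorem exists_unit_mul_pow' {T : Type u} [CommRing T] [IsLocalRing T]
    (π : T) (hπ : maximalIdeal T = Ideal.span {π}) (t : T)
    (hex : ∃ n : ℕ, ¬ (π ^ n ∣ t)) :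
    ∃ (n : ℕ) (u : T), IsUnit u ∧ t = u * π ^ n := by
  classical
  have hn := Nat.find_spec hex
  have hpos : Nat.find hex ≠ 0 := by
    intro h0
    rw [h0, pow_zero] at hn
    exact hn (one_dvd t)
  obtain ⟨n, hn1⟩ := Nat.exists_eq_succ_of_ne_zero hpos
  have hmem : π ^ n ∣ t := by
    by_contra hnot
    have := Nat.find_min' hex hnot
    omega
  obtain ⟨u, hu⟩ := hmem
  refine ⟨n, u, ?_, by rw [hu, mul_comm]⟩
  by_contra hnu
  have hum : u ∈ maximalIdeal T := (mem_maximalIdeal u).mpr hnu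
  rw [hπ, Ideal.mem_span_singleton] at hum
  obtain ⟨w, hw⟩ := hum
  apply hn
  rw [hn1]
  exact ⟨w, by rw [hu, hw, pow_succ]; ring⟩

/-- Core surjectivity: a local ring with principal maximal ideal `(t)` mapping to a
valuation subring `V` of a field `F`, with `t` going to a non-unit `τ` such that no nonzero element
of `V` is divisible by all powers of `τ`, and such that every element of `F` is a fraction of
images, maps onto `V`. -/
theorem core_surjective' {T : Type u} [CommRing T] [IsLocalRing T]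
    (t : T) (ht : maximalIdeal T = Ideal.span {t})
    {F : Type u} [Field F] (V : ValuationSubring F) (ψ : T →+* V)
    (hlt : V.valuation ((ψ t : V) : F) < 1)
    (harch : ∀ y : F, y ∈ V → y ≠ 0 → ∃ n : ℕ, V.valuation ((ψ t : V) : F) ^ n < V.valuation y)
    (hfrac : ∀ x : F, ∃ a b : T, ((ψ b : V) : F) ≠ 0 ∧ x * ((ψ b : V) : F) = ((ψ a : V) : F)) :
    Function.Surjective ψ := by
  set τ : F := ((ψ t : V) : F) with hτ
  have hdecomp : ∀ a : T, ((ψ a : V) : F) ≠ 0 → ∃ (n : ℕ) (u : T), IsUnit u ∧ a = u * t ^ n := by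
    intro a ha
    obtain ⟨n, hn⟩ := harch _ (ψ a).2 ha
    apply exists_unit_mul_pow' t ht a
    refine ⟨n, ?_⟩
    rintro ⟨c, rfl⟩
    have h1 : ((ψ (t ^ n * c) : V) : F) = τ ^ n * ((ψ c : V) : F) := by
      rw [map_mul, map_pow]
      rfl
    rw [h1, map_mul, map_pow] at hn
    have h2 : V.valuation ((ψ c : V) : F) ≤ 1 := (V.valuation_le_one_iff _).mpr (ψ c).2
    have h3 : V.valuation τ ^ n * V.valuation ((ψ c : V) : F) ≤ V.valuation τ ^ n * 1 :=
      mul_le_mul_right h2 _
    rw [mul_one] at h3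
    exact lt_irrefl _ (lt_of_lt_of_le hn h3)
  intro x
  by_cases hx0 : (x : F) = 0
  · exact ⟨0, by rw [map_zero]; exact Subtype.ext hx0.symm⟩
  obtain ⟨a, b, hb0, hab⟩ := hfrac (x : F)
  have ha0 : ((ψ a : V) : F) ≠ 0 := by
    rw [← hab]
    exact mul_ne_zero hx0 hb0
  obtain ⟨i, u', hu', hai⟩ := hdecomp a ha0
  obtain ⟨j, u, hu, hbj⟩ := hdecomp b hb0
  have hA : ((ψ a : V) : F) = ((ψ u' : V) : F) * τ ^ i := by
    rw [hai, map_mul, map_pow]
    rfl
  have hB : ((ψ b : V) : F) = ((ψ u : V) : F) * τ ^ j := by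
    rw [hbj, map_mul, map_pow]
    rfl
  have hvu' : V.valuation ((ψ u' : V) : F) = 1 := (V.valuation_eq_one_iff _).mp (hu'.map ψ)
  have hvu : V.valuation ((ψ u : V) : F) = 1 := (V.valuation_eq_one_iff _).mp (hu.map ψ)
  have hxv : V.valuation (x : F) ≤ 1 := (V.valuation_le_one_iff _).mpr x.2
  have hij : j ≤ i := by
    by_contra hlt'
    push Not at hlt'
    obtain ⟨d, hd1⟩ := Nat.exists_eq_add_of_lt hlt'
    have h3 : τ ^ i ≠ 0 := by
      intro h0
      apply ha0
      rw [hA, h0, mul_zero]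
    have h1 : (x : F) * ((ψ u : V) : F) * τ ^ (d + 1) = ((ψ u' : V) : F) := by
      have h2 : (x : F) * (((ψ u : V) : F) * τ ^ j) = ((ψ u' : V) : F) * τ ^ i := by
        rw [← hA, ← hB, hab]
      apply mul_right_cancel₀ h3
      rw [← h2, hd1]
      ring
    have h4 := congrArg V.valuation h1
    rw [map_mul, map_mul, hvu, mul_one, hvu', map_pow] at h4
    have h5 : V.valuation τ ^ (d + 1) < 1 := pow_lt_one' hlt (Nat.succ_ne_zero d)
    have h6 : V.valuation (x : F) * V.valuation τ ^ (d + 1) < 1 := by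
      calc V.valuation (x : F) * V.valuation τ ^ (d + 1)
          ≤ 1 * V.valuation τ ^ (d + 1) := mul_le_mul_left hxv _
        _ = V.valuation τ ^ (d + 1) := one_mul _
        _ < 1 := h5
    rw [h4] at h6
    exact lt_irrefl _ h6
  obtain ⟨d, rfl⟩ := Nat.exists_eq_add_of_le hij
  obtain ⟨uinv, huinv⟩ := hu.exists_right_inv
  refine ⟨u' * uinv * t ^ d, ?_⟩
  apply Subtype.ext
  apply mul_right_cancel₀ hb0
  rw [hab, hA]
  have h7 : ((ψ (u' * uinv * t ^ d) : V) : F) =
      ((ψ u' : V) : F) * ((ψ uinv : V) : F) * τ ^ d := by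
    rw [map_mul, map_mul, map_pow]
    rfl
  have h8 : ((ψ u : V) : F) * ((ψ uinv : V) : F) = 1 := by
    have := congrArg (fun z => ((ψ z : V) : F)) huinv
    simp only [map_mul, map_one] at this
    exact this
  rw [h7, hB]
  calc ((ψ u' : V) : F) * ((ψ uinv : V) : F) * τ ^ d * (((ψ u : V) : F) * τ ^ j)
      = ((ψ u' : V) : F) * (((ψ u : V) : F) * ((ψ uinv : V) : F)) * τ ^ (j + d) := by ring
    _ = ((ψ u' : V) : F) * τ ^ (j + d) := by rw [h8, mul_one]

end Groth.Agent.Lib.GRedH8
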