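import Mathlib
import Groth.Prelude.Def_EtRam
import Groth.Agent.Lib.GRedDvr3_helper8

/-!
# The core argument for Abhyankar's lemma over a general base ring (helper8)
-/

set_option autoImplicit false
universe u

namespace Groth.Agent.Lib.AbhH8

open IsLocalRing Polynomial Groth.Agent.Lib.GRedH8

/-- A model of `R[X] / (pB X - ϖ', c₁ X^e - c₂)` together with its map to `M`. -/
theorem exists_adjoin_root_model {R : Type u} [CommRing R] {M : Type u} [Field M]
    (Φ : R →+* M) (pB ϖ' c₁ c₂ : R) (e : ℕ) (θ : M)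
    (hθ₁ : Φ pB * θ = Φ ϖ') (hθ₂ : Φ c₁ * θ ^ e = Φ c₂) :
    ∃ (Rp : Type u) (_ : CommRing Rp) (ι₀ : R →+* Rp) (xp : Rp) (Φp : Rp →+* M),
      (∀ r, Φp (ι₀ r) = Φ r) ∧ Φp xp = θ ∧ ι₀ pB * xp = ι₀ ϖ' ∧ ι₀ c₁ * xp ^ e = ι₀ c₂ ∧
      ∀ t : Rp, t ∈ Subring.closure (Set.range ι₀ ∪ {xp}) := by
  classical
  let k₁ : R[X] := C pB * X - C ϖ'
  let k₂ : R[X] := C c₁ * X ^ e - C c₂
  let I₀ : Ideal R[X] := Ideal.span {k₁, k₂}
  let ev : R[X] →+* M := Polynomial.eval₂RingHom Φ θ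
  have hevC : ∀ r, ev (C r) = Φ r := fun r => Polynomial.eval₂_C _ _
  have hevX : ev X = θ := Polynomial.eval₂_X _ _
  have hI₀ : ∀ p ∈ I₀, ev p = 0 := by
    intro p hp
    have hle : I₀ ≤ RingHom.ker ev := by
      rw [Ideal.span_le]
      intro q hq
      rcases hq with rfl | hq
      · show ev k₁ = 0
        rw [map_sub, map_mul, hevC, hevC, hevX, hθ₁, sub_self]
      · rw [Set.mem_singleton_iff] at hq
        rw [hq]
        show ev k₂ = 0
        rw [map_sub, map_mul, map_pow, hevC, hevC, hevX, hθ₂, sub_self]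
    exact hle hp
  let Φp : R[X] ⧸ I₀ →+* M := Ideal.Quotient.lift I₀ ev hI₀
  let ι₀ : R →+* R[X] ⧸ I₀ := (Ideal.Quotient.mk I₀).comp C
  let xp : R[X] ⧸ I₀ := Ideal.Quotient.mk I₀ X
  have hmono : ∀ (n : ℕ) (r : R),
      Ideal.Quotient.mk I₀ (Polynomial.monomial n r) = ι₀ r * xp ^ n := by
    intro n r
    rw [← Polynomial.C_mul_X_pow_eq_monomial, map_mul, map_pow]
    rfl
  refine ⟨R[X] ⧸ I₀, inferInstance, ι₀, xp, Φp, fun r => hevC r, hevX, ?_, ?_, ?_⟩
  · show Ideal.Quotient.mk I₀ (C _) * Ideal.Quotient.mk I₀ X = Ideal.Quotient.mk I₀ (C _)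
    rw [← map_mul, Ideal.Quotient.eq]
    exact Ideal.subset_span (Or.inl rfl)
  · show Ideal.Quotient.mk I₀ (C _) * Ideal.Quotient.mk I₀ X ^ e = Ideal.Quotient.mk I₀ (C _)
    rw [← map_pow, ← map_mul, Ideal.Quotient.eq]
    exact Ideal.subset_span (Or.inr rfl)
  · intro t
    obtain ⟨p, rfl⟩ := Ideal.Quotient.mk_surjective t
    induction p using Polynomial.induction_on' with
    | add p₁ p₂ hp₁ hp₂ => rw [map_add]; exact Subring.add_mem _ hp₁ hp₂
    | monomial n r =>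
      rw [hmono]
      apply Subring.mul_mem
      · exact Subring.subset_closure (Or.inl ⟨r, rfl⟩)
      · have hxE : xp ∈ Subring.closure (Set.range ι₀ ∪ {xp}) :=
          Subring.subset_closure (Or.inr rfl)
        exact pow_mem hxE n

/-- A model of the quotient by a principal ideal. -/
theorem exists_quotient_model {Rp : Type u} [CommRing Rp] (a : Rp) :
    ∃ (E : Type u) (_ : CommRing E) (f : Rp →+* E), Function.Surjective f ∧
      ∀ t, f t = 0 ↔ t ∈ Ideal.span {a} :=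
  ⟨Rp ⧸ Ideal.span {a}, inferInstance, Ideal.Quotient.mk _, Ideal.Quotient.mk_surjective,
    fun _ => Ideal.Quotient.eq_zero_iff_mem⟩

set_option maxHeartbeats 1600000 in
/-- Let `Φ : R → W ⊆ M` be a ring map to a valuation ring, `θ ∈ W` an element with
`Φ pB * θ = Φ ϖ ^ d` and `Φ c₁ * θ ^ e = Φ c₂`, such that every element of `M` is a fraction of
elements of `Φ R`, `Φ ϖ` is a non-unit of `W` for which `W` is archimedean, and such that every
ring generated by an image of `R` killing `ϖ` and an element `x` satisfying the same two relations is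
von Neumann regular.  Then `Φ ϖ` generates the maximal ideal of `W` and the residue field of `W` is
generated by `Φ R` and `θ`. -/
theorem core_root {R : Type u} [CommRing R] {M : Type u} [Field M] (W : ValuationSubring M)
    (Φ : R →+* M) (hΦW : ∀ r, Φ r ∈ W) (pB ϖ c₁ c₂ : R) (d e : ℕ) (θ : M) (hθW : θ ∈ W)
    (hθ₁ : Φ pB * θ = Φ ϖ ^ d) (hθ₂ : Φ c₁ * θ ^ e = Φ c₂)
    (hϖval : W.valuation (Φ ϖ) < 1)
    (harch : ∀ y : M, y ∈ W → y ≠ 0 → ∃ n : ℕ, W.valuation (Φ ϖ) ^ n < W.valuation y)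
    (hfrac : ∀ x : M, ∃ a b : R, Φ b ≠ 0 ∧ x * Φ b = Φ a)
    (hvnr : ∀ (E : Type u) [CommRing E] (q : R →+* E) (x : E), q ϖ = 0 →
      q pB * x = q (ϖ ^ d) → q c₁ * x ^ e = q c₂ →
      (∀ z : E, z ∈ Subring.closure (Set.range q ∪ {x})) → ∀ z : E, ∃ y, z = z * z * y) :
    (∀ x : M, x ∈ W → W.valuation x < 1 → ∃ y ∈ W, x = Φ ϖ * y) ∧
    (∀ w : M, w ∈ W → ∃ z ∈ Subring.closure (Set.range Φ ∪ {θ}), W.valuation (z - w) < 1) := by
  classical
  obtain ⟨G, hG⟩ : ∃ G : Subring M, G = Subring.closure (Set.range Φ ∪ {θ}) := ⟨_, rfl⟩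
  rw [← hG]
  have hGΦ : ∀ r : R, Φ r ∈ G := fun r => by
    rw [hG]; exact Subring.subset_closure (Or.inl ⟨r, rfl⟩)
  have hGθ : θ ∈ G := by
    rw [hG]; exact Subring.subset_closure (Or.inr rfl)
  obtain ⟨Rp, _instRp, ι₀, xp, Φp, hΦpι, hΦpx, hrel₁, hrel₂, hgenRp⟩ :=
    exists_adjoin_root_model Φ pB (ϖ ^ d) c₁ c₂ e θ (by rw [hθ₁, map_pow]) hθ₂
  have hΦpW : ∀ t, Φp t ∈ W := by
    intro t
    have ht := hgenRp t
    induction ht using Subring.closure_induction with
    | mem t ht =>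
      rcases ht with ⟨r, rfl⟩ | ht
      · rw [hΦpι]; exact hΦW r
      · rw [Set.mem_singleton_iff] at ht
        rw [ht, hΦpx]; exact hθW
    | zero => rw [map_zero]; exact W.zero_mem
    | one => rw [map_one]; exact W.one_mem
    | add x y _ _ hx hy => rw [map_add]; exact W.add_mem _ _ hx hy
    | neg x _ hx => rw [map_neg]; exact W.neg_mem _ hx
    | mul x y _ _ hx hy => rw [map_mul]; exact W.mul_mem _ _ hx hy
  have hΦpcl : ∀ t, Φp t ∈ G := by
    intro t
    have ht := hgenRp t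
    induction ht using Subring.closure_induction with
    | mem t ht =>
      rcases ht with ⟨r, rfl⟩ | ht
      · rw [hΦpι]; exact hGΦ r
      · rw [Set.mem_singleton_iff] at ht
        rw [ht, hΦpx]; exact hGθ
    | zero => rw [map_zero]; exact Subring.zero_mem _
    | one => rw [map_one]; exact Subring.one_mem _
    | add x y _ _ hx hy => rw [map_add]; exact Subring.add_mem _ hx hy
    | neg x _ hx => rw [map_neg]; exact Subring.neg_mem _ hx
    | mul x y _ _ hx hy => rw [map_mul]; exact Subring.mul_mem _ hx hy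
  have hfracp : ∀ x : M, ∃ a b : Rp, Φp b ≠ 0 ∧ x * Φp b = Φp a := by
    intro x
    obtain ⟨a, b, hb, hab⟩ := hfrac x
    exact ⟨ι₀ a, ι₀ b, by rw [hΦpι]; exact hb, by rw [hΦpι, hΦpι]; exact hab⟩
  -- the quotient `E` and its von Neumann regularity
  obtain ⟨E, _instE, mkJ, hmkJsurj, hmkJker⟩ := exists_quotient_model (ι₀ ϖ)
  obtain ⟨J, hJ⟩ : ∃ J : Ideal Rp, J = Ideal.span {ι₀ ϖ} := ⟨_, rfl⟩
  rw [← hJ] at hmkJker
  have hgenE : ∀ z : E, z ∈ Subring.closure (Set.range (mkJ.comp ι₀) ∪ {mkJ xp}) := by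
    intro z
    obtain ⟨t, rfl⟩ := hmkJsurj z
    have ht := hgenRp t
    induction ht using Subring.closure_induction with
    | mem t ht =>
      rcases ht with ⟨r, rfl⟩ | ht
      · exact Subring.subset_closure (Or.inl ⟨r, rfl⟩)
      · rw [Set.mem_singleton_iff] at ht
        rw [ht]; exact Subring.subset_closure (Or.inr rfl)
    | zero => rw [map_zero]; exact Subring.zero_mem _
    | one => rw [map_one]; exact Subring.one_mem _
    | add x y _ _ hx hy => rw [map_add]; exact Subring.add_mem _ hx hy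
    | neg x _ hx => rw [map_neg]; exact Subring.neg_mem _ hx
    | mul x y _ _ hx hy => rw [map_mul]; exact Subring.mul_mem _ hx hy
  have hvnrE := hvnr E (mkJ.comp ι₀) (mkJ xp)
    (by
      rw [RingHom.comp_apply, hmkJker, hJ]
      exact Ideal.mem_span_singleton_self _)
    (by rw [RingHom.comp_apply, RingHom.comp_apply, ← map_mul, hrel₁])
    (by rw [RingHom.comp_apply, RingHom.comp_apply, ← map_pow, ← map_mul, hrel₂])
    hgenE
  have hvnr' : ∀ t : Rp, ∃ y : Rp, t * (1 - t * y) ∈ J := by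
    intro t
    obtain ⟨y, hy⟩ := hvnrE (mkJ t)
    obtain ⟨y', rfl⟩ := hmkJsurj y
    refine ⟨y', ?_⟩
    rw [← hmkJker, map_mul, map_sub, map_one, map_mul, mul_sub, mul_one,
      ← mul_assoc, ← hy, sub_self]
  -- the prime `𝔑`
  let φW : Rp →+* W := RingHom.codRestrict Φp W hΦpW
  have hφW : ∀ t, ((φW t : W) : M) = Φp t := fun t => rfl
  let 𝔑 : Ideal Rp := (maximalIdeal W).comap φW
  haveI h𝔑prime : 𝔑.IsPrime := Ideal.comap_isPrime _ _
  have hmem𝔑 : ∀ t, t ∈ 𝔑 ↔ φW t ∈ maximalIdeal W := fun t => Iff.rfl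
  have hπ𝔑 : ι₀ ϖ ∈ 𝔑 := by
    rw [hmem𝔑, ValuationSubring.valuation_lt_one_iff, hφW, hΦpι]
    exact hϖval
  have hJ𝔑 : J ≤ 𝔑 := by
    rw [hJ, Ideal.span_le, Set.singleton_subset_iff]
    exact hπ𝔑
  have h1𝔑 : (1 : Rp) ∉ 𝔑 := (Ideal.ne_top_iff_one _).mp h𝔑prime.ne_top
  have h𝔑 : ∀ t ∈ 𝔑, ∃ s, s ∉ 𝔑 ∧ s * t ∈ J := by
    intro t ht
    obtain ⟨y, hy⟩ := hvnr' t
    refine ⟨1 - t * y, ?_, by rw [mul_comm]; exact hy⟩
    intro hs
    apply h1𝔑
    have : (1 : Rp) = (1 - t * y) + t * y := by ring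
    rw [this]
    exact Ideal.add_mem _ hs (Ideal.mul_mem_right _ _ ht)
  have h𝔑' : ∀ s, s ∉ 𝔑 → ∃ y, 1 - s * y ∈ 𝔑 := by
    intro s hs
    obtain ⟨y, hy⟩ := hvnr' s
    refine ⟨y, ?_⟩
    exact (h𝔑prime.mem_or_mem (hJ𝔑 hy)).resolve_left hs
  -- the localization
  have hunits : ∀ s : 𝔑.primeCompl, IsUnit (φW s) := by
    intro s
    by_contra hnu
    exact s.2 ((hmem𝔑 _).mpr ((mem_maximalIdeal _).mpr hnu))
  let T := Localization.AtPrime 𝔑
  let ψ : T →+* W := IsLocalization.lift (M := 𝔑.primeCompl) (g := φW) hunits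
  have hψ : ∀ t, ψ (algebraMap Rp T t) = φW t :=
    fun t => IsLocalization.lift_eq _ t
  have hmT : maximalIdeal T = Ideal.span {algebraMap Rp T (ι₀ ϖ)} := by
    apply le_antisymm
    · rw [← Localization.AtPrime.map_eq_maximalIdeal, Ideal.map_le_iff_le_comap]
      intro a ha
      obtain ⟨s, hs, hsa⟩ := h𝔑 a ha
      rw [hJ] at hsa
      obtain ⟨d', hd'⟩ := Ideal.mem_span_singleton'.mp hsa
      show algebraMap Rp T a ∈ Ideal.span {algebraMap Rp T (ι₀ ϖ)}
      have hu' : IsUnit (algebraMap Rp T s) :=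
        IsLocalization.map_units T (⟨s, hs⟩ : 𝔑.primeCompl)
      obtain ⟨sinv, hsinv⟩ := hu'.exists_left_inv
      have h2 : algebraMap Rp T a =
          (sinv * algebraMap Rp T d') * algebraMap Rp T (ι₀ ϖ) := by
        calc algebraMap Rp T a
            = (sinv * algebraMap Rp T s) * algebraMap Rp T a := by
              rw [hsinv, one_mul]
          _ = sinv * algebraMap Rp T (s * a) := by rw [map_mul]; ring
          _ = sinv * algebraMap Rp T (d' * ι₀ ϖ) := by rw [hd']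
          _ = _ := by rw [map_mul]; ring
      rw [h2]
      exact Ideal.mul_mem_left _ _ (Ideal.mem_span_singleton_self _)
    · rw [Ideal.span_le, Set.singleton_subset_iff]
      exact (IsLocalization.AtPrime.to_map_mem_maximal_iff T 𝔑 _).mpr hπ𝔑
  have hfracT : ∀ x : M, ∃ a b : T, ((ψ b : W) : M) ≠ 0 ∧
      x * ((ψ b : W) : M) = ((ψ a : W) : M) := by
    intro x
    obtain ⟨a, b, hb0, hab⟩ := hfracp x
    refine ⟨algebraMap _ T a, algebraMap _ T b, ?_, ?_⟩
    · rw [hψ, hφW]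
      exact hb0
    · rw [hψ, hψ, hφW, hφW]
      exact hab
  have hψπ : ((ψ (algebraMap Rp T (ι₀ ϖ)) : W) : M) = Φ ϖ := by
    rw [hψ, hφW, hΦpι]
  have hsurj : Function.Surjective ψ :=
    core_surjective' (algebraMap Rp T (ι₀ ϖ)) hmT W ψ
      (by rw [hψπ]; exact hϖval) (by rw [hψπ]; exact harch) hfracT
  refine ⟨?_, ?_⟩
  · intro x hxW hxv
    have hxm : (⟨x, hxW⟩ : W) ∈ maximalIdeal W := by
      rw [ValuationSubring.valuation_lt_one_iff]
      exact hxv
    obtain ⟨y, hy⟩ := hsurj ⟨x, hxW⟩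
    have hym : y ∈ maximalIdeal T := by
      rw [mem_maximalIdeal]
      intro hyu
      exact ((mem_maximalIdeal _).mp hxm) (hy ▸ hyu.map ψ)
    rw [hmT] at hym
    obtain ⟨d', rfl⟩ := Ideal.mem_span_singleton'.mp hym
    refine ⟨((ψ d' : W) : M), (ψ d').2, ?_⟩
    have := congrArg (fun z : W => (z : M)) hy
    simp only [map_mul] at this
    rw [← this, ← hψπ, mul_comm]
    rfl
  · intro w hwW
    obtain ⟨y, hy⟩ := hsurj ⟨w, hwW⟩
    obtain ⟨r, s, rfl⟩ := IsLocalization.exists_mk'_eq 𝔑.primeCompl y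
    have h1 : ψ (IsLocalization.mk' T r s) * φW s = φW r := by
      rw [← hψ, ← map_mul, IsLocalization.mk'_spec, hψ]
    rw [hy] at h1
    have h2 : w * Φp s = Φp r := by
      have := congrArg (fun z : W => (z : M)) h1
      exact this
    obtain ⟨y', hy'⟩ := h𝔑' s s.2
    refine ⟨Φp (r * y'), hΦpcl _, ?_⟩
    have h3 : W.valuation (Φp (1 - s * y')) < 1 := by
      have := (hmem𝔑 _).mp hy'
      rw [ValuationSubring.valuation_lt_one_iff, hφW] at this
      exact this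
    have h4 : Φp (r * y') - w = - (w * Φp (1 - s * y')) := by
      rw [map_mul, ← h2, map_sub, map_one, map_mul]
      ring
    rw [h4, Valuation.map_neg, map_mul]
    have h5 : W.valuation w ≤ 1 := (W.valuation_le_one_iff _).mpr hwW
    calc W.valuation w * W.valuation (Φp (1 - s * y'))
        ≤ 1 * W.valuation (Φp (1 - s * y')) := mul_le_mul_left h5 _
      _ = W.valuation (Φp (1 - s * y')) := one_mul _
      _ < 1 := h3

end Groth.Agent.Lib.AbhH8
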