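import Mathlib
import Groth.Prelude.Def_EtRam
import Groth.Agent.Lib.DvrExt4_helper8
import Groth.Agent.Lib.AbhLem2_helper8
import Groth.Agent.Lib.AbhLem3_helper8

/-!
# The tensor product argument for Abhyankar's lemma (helper8)
-/

set_option autoImplicit false
universe u

namespace Groth.Agent.Lib.AbhH8

open IsLocalRing TensorProduct DvrExtH8 Groth.Agent.Lib.GRedH8

set_option maxHeartbeats 1600000 in
theorem tensor_core_root (A B K L K₁ : Type u) [CommRing A] [IsDomain A]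
    [IsDiscreteValuationRing A]
    [CommRing B] [IsDomain B] [IsDiscreteValuationRing B] [Algebra A B]
    [IsLocalHom (algebraMap A B)]
    [Field K] [Field L] [Algebra A K] [IsFractionRing A K] [Algebra B L] [IsFractionRing B L]
    [Algebra K L] [Algebra A L] [IsScalarTower A K L] [IsScalarTower A B L]
    [Algebra.IsGeometricallyReduced (ResidueField A) (ResidueField B)]
    [Field K₁] [Algebra K K₁]
    (V₁ : ValuationSubring K₁) [Algebra A V₁] [IsLocalHom (algebraMap A V₁)]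
    (hcompat₁ : ∀ a : A, ((algebraMap A V₁ a : V₁) : K₁) = algebraMap K K₁ (algebraMap A K a))
    [Algebra.IsAlgebraic (ResidueField A) (ResidueField V₁)]
    (π₁ : V₁) (hπ₁ : maximalIdeal V₁ = Ideal.span {π₁})
    (πA : A) (πB u : B) (hπB : maximalIdeal B = Ideal.span {πB}) (hπB0 : πB ≠ 0)
    (hu : IsUnit u) (e : ℕ) (he0 : 0 < e)
    (hπe : algebraMap A B πA = u * πB ^ e) (he : ((e : ℕ) : ResidueField A) ≠ 0)
    (u₁ : V₁) (hu₁ : IsUnit u₁) (d : ℕ) (hd0 : 0 < d)
    (hπ₁e : algebraMap A V₁ πA = u₁ * π₁ ^ (e * d))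
    (M : Type u) [Field M] [Algebra K M] [Algebra L M] [Algebra K₁ M] [IsScalarTower K L M]
    [IsScalarTower K K₁ M]
    (hgen : Algebra.adjoin L (Set.range (algebraMap K₁ M)) = ⊤)
    (W : ValuationSubring M)
    (hdW : EtRam.Dominates B ((algebraMap L M).comp (algebraMap B L)) W)
    (hV₁ : V₁ = W.comap (algebraMap K₁ M))
    (harch : ∀ y : M, y ∈ W → y ≠ 0 →
      ∃ n : ℕ, W.valuation (algebraMap K₁ M (π₁ : K₁)) ^ n < W.valuation y) :
    (∀ x : M, x ∈ W → W.valuation x < 1 → ∃ y ∈ W, x = algebraMap K₁ M (π₁ : K₁) * y) ∧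
    (algebraMap K₁ M (π₁ : K₁) ^ d / (algebraMap L M (algebraMap B L πB)) ∈ W) ∧
    (algebraMap K₁ M (u₁ : K₁) *
      (algebraMap K₁ M (π₁ : K₁) ^ d / (algebraMap L M (algebraMap B L πB))) ^ e =
        algebraMap L M (algebraMap B L u)) ∧
    (∀ w : M, w ∈ W → ∃ z ∈ Subring.closure
      (Set.range ((algebraMap L M).comp (algebraMap B L)) ∪
        (algebraMap K₁ M) '' (V₁ : Set K₁) ∪
        {algebraMap K₁ M (π₁ : K₁) ^ d / (algebraMap L M (algebraMap B L πB))}),
        W.valuation (z - w) < 1) := by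
  classical
  obtain ⟨gB, hgB⟩ : ∃ gB : B →+* M, gB = (algebraMap L M).comp (algebraMap B L) := ⟨_, rfl⟩
  have hgB' : ∀ b : B, algebraMap L M (algebraMap B L b) = gB b := fun b => by rw [hgB]; rfl
  rw [← hgB] at hdW ⊢
  rw [hgB' πB, hgB' u]
  have hcompat : ∀ a : A, algebraMap K₁ M ((algebraMap A V₁ a : V₁) : K₁) =
      gB (algebraMap A B a) := by
    intro a
    rw [hgB, hcompat₁]
    show algebraMap K₁ M (algebraMap K K₁ (algebraMap A K a)) =
      algebraMap L M (algebraMap B L (algebraMap A B a))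
    rw [← IsScalarTower.algebraMap_apply K K₁ M, ← IsScalarTower.algebraMap_apply A B L,
      IsScalarTower.algebraMap_apply A K L, ← IsScalarTower.algebraMap_apply K L M]
  have hV₁mem' : ∀ x ∈ V₁, algebraMap K₁ M x ∈ W := by
    intro x hx
    rw [hV₁] at hx
    exact hx
  have hV₁mem : ∀ v : V₁, algebraMap K₁ M (v : K₁) ∈ W := fun v => hV₁mem' _ v.2
  have hV₁val : ∀ v : V₁, v ∈ maximalIdeal V₁ → W.valuation (algebraMap K₁ M (v : K₁)) < 1 := by
    intro v hv
    rw [ValuationSubring.valuation_lt_one_iff] at hv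
    have h1 : (W.comap (algebraMap K₁ M)).valuation (v : K₁) < 1 := by
      rw [← hV₁]
      exact hv
    exact (comap_valuation_lt_one_iff _ W _).mp h1
  have hπ₁m : π₁ ∈ maximalIdeal V₁ := by
    rw [hπ₁]
    exact Ideal.mem_span_singleton_self _
  have hgBinj : Function.Injective gB := by
    rw [hgB]
    exact (algebraMap L M).injective.comp (IsFractionRing.injective B L)
  have hgπB0 : gB πB ≠ 0 := fun h0 => hπB0 (hgBinj (by rw [h0, map_zero]))
  -- the element `θ`
  obtain ⟨θ, hθ⟩ : ∃ θ : M, θ = algebraMap K₁ M (π₁ : K₁) ^ d / gB πB := ⟨_, rfl⟩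
  rw [← hθ]
  have hθ₁ : gB πB * θ = algebraMap K₁ M (π₁ : K₁) ^ d := by
    rw [hθ]
    field_simp
  have hunitB : ∀ b : B, IsUnit b → W.valuation (gB b) = 1 := by
    intro b hb
    have h1 : IsUnit (RingHom.codRestrict gB W hdW.1 b) := hb.map _
    exact (W.valuation_eq_one_iff _).mp h1
  have hunitV : ∀ v : V₁, IsUnit v → W.valuation (algebraMap K₁ M (v : K₁)) = 1 := by
    intro v hv
    obtain ⟨v', hv'⟩ := hv.exists_right_inv
    have h1 : algebraMap K₁ M (v : K₁) * algebraMap K₁ M (v' : K₁) = 1 := by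
      rw [← map_mul]
      have := congrArg (fun z : V₁ => (z : K₁)) hv'
      simp only [MulMemClass.coe_mul, OneMemClass.coe_one] at this
      rw [this, map_one]
    have h2 := congrArg W.valuation h1
    rw [map_mul, map_one] at h2
    have h3 : W.valuation (algebraMap K₁ M (v : K₁)) ≤ 1 :=
      (W.valuation_le_one_iff _).mpr (hV₁mem v)
    have h4 : W.valuation (algebraMap K₁ M (v' : K₁)) ≤ 1 :=
      (W.valuation_le_one_iff _).mpr (hV₁mem v')
    by_contra hne
    have h5 : W.valuation (algebraMap K₁ M (v : K₁)) < 1 := lt_of_le_of_ne h3 hne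
    have h6 : W.valuation (algebraMap K₁ M (v : K₁)) *
        W.valuation (algebraMap K₁ M (v' : K₁)) < 1 :=
      mul_lt_one_of_nonneg_of_lt_one_left zero_le h5 h4
    rw [h2] at h6
    exact lt_irrefl _ h6
  have hθ₂ : algebraMap K₁ M (u₁ : K₁) * θ ^ e = gB u := by
    have h1 : algebraMap K₁ M ((algebraMap A V₁ πA : V₁) : K₁) = gB (algebraMap A B πA) :=
      hcompat πA
    rw [hπ₁e, hπe, map_mul, map_pow] at h1
    have h2 : ((u₁ * π₁ ^ (e * d) : V₁) : K₁) = (u₁ : K₁) * (π₁ : K₁) ^ (e * d) := rfl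
    rw [h2, map_mul, map_pow] at h1
    rw [hθ, div_pow, ← pow_mul, mul_comm d e]
    field_simp
    rw [h1]
    ring
  have hθval : W.valuation θ = 1 := by
    have h1 := congrArg W.valuation hθ₂
    rw [map_mul, map_pow, hunitV u₁ hu₁, one_mul, hunitB u hu] at h1
    exact (pow_eq_one_iff_of_nonneg zero_le he0.ne').mp h1
  have hθW : θ ∈ W := (W.valuation_le_one_iff _).mp hθval.le
  -- the map `Φ`
  letI : Algebra B M := gB.toAlgebra
  letI : Algebra A M := (gB.comp (algebraMap A B)).toAlgebra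
  haveI : IsScalarTower A B M := IsScalarTower.of_algebraMap_eq (fun _ => rfl)
  let fV' : V₁ →ₐ[A] M :=
    { (algebraMap K₁ M).comp V₁.subtype with
      commutes' := fun a => hcompat a }
  let Φ : B ⊗[A] V₁ →ₐ[B] M :=
    Algebra.TensorProduct.lift (Algebra.ofId B M) fV' (fun _ _ => Commute.all _ _)
  have hΦ : ∀ (b : B) (v : V₁), Φ (b ⊗ₜ v) = gB b * algebraMap K₁ M (v : K₁) := by
    intro b v
    rw [Algebra.TensorProduct.lift_tmul]
    rfl
  have hΦW : ∀ t, Φ t ∈ W := by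
    intro t
    induction t using TensorProduct.induction_on with
    | zero => rw [map_zero]; exact W.zero_mem
    | add x y hx hy => rw [map_add]; exact W.add_mem _ _ hx hy
    | tmul b v => rw [hΦ]; exact W.mul_mem _ _ (hdW.1 b) (hV₁mem v)
  obtain ⟨G, hG⟩ : ∃ G : Subring M, G = Subring.closure
      (Set.range gB ∪ (algebraMap K₁ M) '' (V₁ : Set K₁) ∪ {θ}) := ⟨_, rfl⟩
  rw [← hG]
  have hGB : ∀ b : B, gB b ∈ G := fun b => by
    rw [hG]; exact Subring.subset_closure (Or.inl (Or.inl ⟨b, rfl⟩))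
  have hGV : ∀ v : V₁, algebraMap K₁ M (v : K₁) ∈ G := fun v => by
    rw [hG]; exact Subring.subset_closure (Or.inl (Or.inr ⟨(v : K₁), v.2, rfl⟩))
  have hGθ : θ ∈ G := by
    rw [hG]; exact Subring.subset_closure (Or.inr rfl)
  have hΦcl : ∀ t, Φ t ∈ G := by
    intro t
    induction t using TensorProduct.induction_on with
    | zero => rw [map_zero]; exact Subring.zero_mem _
    | add x y hx hy => rw [map_add]; exact Subring.add_mem _ hx hy
    | tmul b v =>
      rw [hΦ]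
      exact Subring.mul_mem _ (hGB b) (hGV v)
  -- fractions
  have hfrac : ∀ x : M, ∃ a b : B ⊗[A] V₁, Φ b ≠ 0 ∧ x * Φ b = Φ a := by
    intro x
    have hx : x ∈ Algebra.adjoin L (Set.range (algebraMap K₁ M)) := by
      rw [hgen]
      exact Algebra.mem_top
    induction hx using Algebra.adjoin_induction with
    | mem x hx =>
      obtain ⟨k, rfl⟩ := hx
      rcases V₁.mem_or_inv_mem k with hk | hk
      · refine ⟨1 ⊗ₜ ⟨k, hk⟩, 1, by rw [map_one]; exact one_ne_zero, ?_⟩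
        rw [map_one, mul_one, hΦ, map_one, one_mul]
      · by_cases hk0 : k = 0
        · exact ⟨0, 1, by rw [map_one]; exact one_ne_zero, by rw [hk0, map_zero, zero_mul, map_zero]⟩
        · refine ⟨1, 1 ⊗ₜ ⟨k⁻¹, hk⟩, ?_, ?_⟩
          · rw [hΦ, map_one, one_mul]
            simp only [ne_eq, map_eq_zero, inv_eq_zero]
            exact hk0
          · rw [hΦ, map_one, one_mul, map_one, ← map_mul]
            simp only
            rw [mul_inv_cancel₀ hk0, map_one]
    | algebraMap l =>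
      obtain ⟨β, β', hβ', hl⟩ := IsFractionRing.div_surjective (A := B) l
      have hβ'0 : β' ≠ 0 := nonZeroDivisors.ne_zero hβ'
      have hgβ' : gB β' ≠ 0 := fun h0 => hβ'0 (hgBinj (by rw [h0, map_zero]))
      refine ⟨β ⊗ₜ 1, β' ⊗ₜ 1, ?_, ?_⟩
      · rw [hΦ]
        simp only [OneMemClass.coe_one, map_one, mul_one]
        exact hgβ'
      · rw [hΦ, hΦ]
        simp only [OneMemClass.coe_one, map_one, mul_one]
        rw [hgB, RingHom.comp_apply, RingHom.comp_apply, ← map_mul, ← hl,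
          div_mul_cancel₀ _ (fun h0 => hβ'0 (IsFractionRing.injective B L (by rw [h0, map_zero])))]
    | add x y _ _ hx hy =>
      obtain ⟨a₁, b₁, hb₁, e₁⟩ := hx
      obtain ⟨a₂, b₂, hb₂, e₂⟩ := hy
      refine ⟨a₁ * b₂ + a₂ * b₁, b₁ * b₂, ?_, ?_⟩
      · rw [map_mul]; exact mul_ne_zero hb₁ hb₂
      · rw [map_add, map_mul, map_mul, map_mul, ← e₁, ← e₂]
        ring
    | mul x y _ _ hx hy =>
      obtain ⟨a₁, b₁, hb₁, e₁⟩ := hx
      obtain ⟨a₂, b₂, hb₂, e₂⟩ := hy
      refine ⟨a₁ * a₂, b₁ * b₂, ?_, ?_⟩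
      · rw [map_mul]; exact mul_ne_zero hb₁ hb₂
      · rw [map_mul, map_mul, ← e₁, ← e₂]
        ring
  have hΦπB : Φ.toRingHom (πB ⊗ₜ[A] (1 : V₁)) = gB πB := by
    show Φ _ = _
    rw [hΦ]
    simp
  have hΦπ₁ : Φ.toRingHom ((1 : B) ⊗ₜ[A] π₁) = algebraMap K₁ M (π₁ : K₁) := by
    show Φ _ = _
    rw [hΦ, map_one, one_mul]
  have hΦu₁ : Φ.toRingHom ((1 : B) ⊗ₜ[A] u₁) = algebraMap K₁ M (u₁ : K₁) := by
    show Φ _ = _
    rw [hΦ, map_one, one_mul]
  have hΦu : Φ.toRingHom (u ⊗ₜ[A] (1 : V₁)) = gB u := by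
    show Φ _ = _
    rw [hΦ]
    simp
  have hvnr : ∀ (E : Type u) [CommRing E] (q : B ⊗[A] V₁ →+* E) (x : E),
      q ((1 : B) ⊗ₜ[A] π₁) = 0 →
      q (πB ⊗ₜ[A] (1 : V₁)) * x = q (((1 : B) ⊗ₜ[A] π₁) ^ d) →
      q ((1 : B) ⊗ₜ[A] u₁) * x ^ e = q (u ⊗ₜ[A] (1 : V₁)) →
      (∀ z : E, z ∈ Subring.closure (Set.range q ∪ {x})) → ∀ z : E, ∃ y, z = z * z * y := by
    intro E _ q x hqϖ hq₁ hq₂ hgenq
    let incB : B →+* E := q.comp Algebra.TensorProduct.includeLeftRingHom
    let inc₁ : V₁ →+* E :=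
      q.comp (Algebra.TensorProduct.includeRight : V₁ →ₐ[A] B ⊗[A] V₁).toRingHom
    have hincB : ∀ b : B, incB b = q (b ⊗ₜ 1) := fun b => rfl
    have hinc₁ : ∀ v : V₁, inc₁ v = q (1 ⊗ₜ v) := fun v => rfl
    have hk₁ : ∀ v ∈ maximalIdeal V₁, inc₁ v = 0 := by
      intro v hv
      rw [hπ₁] at hv
      obtain ⟨c, rfl⟩ := Ideal.mem_span_singleton'.mp hv
      rw [map_mul, hinc₁ π₁, hqϖ, mul_zero]
    have hxu : IsUnit x := by
      have h1 : IsUnit (q (u ⊗ₜ[A] (1 : V₁))) := hu.map incB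
      rw [← hq₂] at h1
      have h2 : IsUnit (x ^ e) := isUnit_of_mul_isUnit_right h1
      exact (isUnit_pow_iff he0.ne').mp h2
    have hincπB : incB πB = 0 := by
      have h1 : q (((1 : B) ⊗ₜ[A] π₁) ^ d) = 0 := by
        rw [map_pow, hqϖ, zero_pow hd0.ne']
      rw [← hq₁] at h1
      exact (hxu.mul_left_eq_zero).mp h1
    have hkB : ∀ b ∈ maximalIdeal B, incB b = 0 := by
      intro b hb
      rw [hπB] at hb
      obtain ⟨β, rfl⟩ := Ideal.mem_span_singleton'.mp hb
      rw [map_mul, hincπB, mul_zero]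
    let χB : ResidueField B →+* E := Ideal.Quotient.lift (maximalIdeal B) incB hkB
    let χ₁ : ResidueField V₁ →+* E := Ideal.Quotient.lift (maximalIdeal V₁) inc₁ hk₁
    have hχB : ∀ b : B, χB (residue B b) = incB b := fun b => rfl
    have hχ₁ : ∀ v : V₁, χ₁ (residue V₁ v) = inc₁ v := fun v => rfl
    have hχcompat : ∀ c : ResidueField A, χB (algebraMap (ResidueField A) (ResidueField B) c) =
        χ₁ (algebraMap (ResidueField A) (ResidueField V₁) c) := by
      intro c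
      obtain ⟨a, rfl⟩ := residue_surjective c
      rw [ResidueField.algebraMap_residue, ResidueField.algebraMap_residue, hχB, hχ₁, hincB, hinc₁]
      congr 1
      rw [Algebra.algebraMap_eq_smul_one, Algebra.algebraMap_eq_smul_one (A := V₁),
        TensorProduct.smul_tmul]
    have hgenE : ∀ z : E, z ∈ Subring.closure (Set.range χB ∪ Set.range χ₁ ∪ {x}) := by
      intro z
      have hle : Subring.closure (Set.range q ∪ {x}) ≤
          Subring.closure (Set.range χB ∪ Set.range χ₁ ∪ {x}) := by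
        rw [Subring.closure_le]
        rintro y (⟨r, rfl⟩ | hy)
        · induction r using TensorProduct.induction_on with
          | zero => rw [map_zero]; exact Subring.zero_mem _
          | add x y hx hy => rw [map_add]; exact Subring.add_mem _ hx hy
          | tmul b v =>
            have h1 : b ⊗ₜ[A] v = (b ⊗ₜ[A] (1 : V₁)) * ((1 : B) ⊗ₜ[A] v) := by
              rw [Algebra.TensorProduct.tmul_mul_tmul, mul_one, one_mul]
            rw [h1, map_mul, ← hincB, ← hinc₁, ← hχB, ← hχ₁]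
            apply Subring.mul_mem
            · exact Subring.subset_closure (Or.inl (Or.inl ⟨_, rfl⟩))
            · exact Subring.subset_closure (Or.inl (Or.inr ⟨_, rfl⟩))
        · exact Subring.subset_closure (Or.inr hy)
      exact hle (hgenq z)
    have hresu : residue B u ≠ 0 := (residue_ne_zero_iff_isUnit u).mpr hu
    have hresu₁ : residue V₁ u₁ ≠ 0 := (residue_ne_zero_iff_isUnit u₁).mpr hu₁
    exact vnr_of_generated_root (ResidueField A) (ResidueField B) (ResidueField V₁) χB χ₁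
      hχcompat e he0 he (residue B u) hresu (residue V₁ u₁) hresu₁ x
      (by rw [hχB, hχ₁]; exact hq₂) hgenE
  obtain ⟨hc1, hc2⟩ := core_root W Φ.toRingHom hΦW (πB ⊗ₜ[A] (1 : V₁)) ((1 : B) ⊗ₜ[A] π₁)
    ((1 : B) ⊗ₜ[A] u₁) (u ⊗ₜ[A] (1 : V₁)) d e θ hθW
    (by rw [hΦπB, hΦπ₁]; exact hθ₁) (by rw [hΦu₁, hΦu]; exact hθ₂)
    (by rw [hΦπ₁]; exact hV₁val π₁ hπ₁m) (by rw [hΦπ₁]; exact harch) hfrac hvnr
  rw [hΦπ₁] at hc1
  refine ⟨hc1, hθW, hθ₂, ?_⟩
  intro w hw
  obtain ⟨z, hz, hzw⟩ := hc2 w hw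
  refine ⟨z, ?_, hzw⟩
  have hle : Subring.closure (Set.range Φ.toRingHom ∪ {θ}) ≤ G := by
    rw [Subring.closure_le]
    rintro y (⟨r, rfl⟩ | hy)
    · exact hΦcl r
    · rw [Set.mem_singleton_iff] at hy
      rw [hy]
      exact hGθ
  exact hle hz

end Groth.Agent.Lib.AbhH8
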