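import Mathlib
import Groth.Prelude.Def_EtRam

/-!
# Residue fields of valuation rings dominating a DVR in an algebraic extension (helper8)
-/

set_option autoImplicit false
universe u

namespace Groth.Agent.Lib.GRedH8

open IsLocalRing TensorProduct Polynomial

/-- An element algebraic over the fraction field of a DVR `A` is a root of a polynomial over `A`
having a unit coefficient. -/
theorem exists_unit_coeff_root (A K K₁ : Type u) [CommRing A] [IsDomain A]
    [IsDiscreteValuationRing A] [Field K] [Algebra A K] [IsFractionRing A K] [Field K₁]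
    [Algebra K K₁] [Algebra A K₁] [IsScalarTower A K K₁] (x : K₁) (hx : IsAlgebraic K x) :
    ∃ q : A[X], (∃ i, IsUnit (q.coeff i)) ∧ Polynomial.aeval x q = 0 := by
  classical
  obtain ⟨p, hp0, hp⟩ := (IsFractionRing.isAlgebraic_iff A K K₁).mpr hx
  obtain ⟨inst⟩ := (inferInstance : Nonempty (NormalizedGCDMonoid A))
  have h1 := p.eq_C_content_mul_primPart
  have hprim : p.primPart.IsPrimitive := p.isPrimitive_primPart
  have hc0 : p.content ≠ 0 := fun h => hp0 (Polynomial.content_eq_zero_iff.mp h)
  have hinj : Function.Injective (algebraMap A K₁) := by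
    rw [IsScalarTower.algebraMap_eq A K K₁]
    exact (algebraMap K K₁).injective.comp (IsFractionRing.injective A K)
  refine ⟨p.primPart, ?_, ?_⟩
  · by_contra hall
    push Not at hall
    obtain ⟨π, hπ⟩ := IsDiscreteValuationRing.exists_irreducible A
    have hdvd : Polynomial.C π ∣ p.primPart := by
      rw [Polynomial.C_dvd_iff_dvd_coeff]
      intro i
      have hm : p.primPart.coeff i ∈ maximalIdeal A := (mem_maximalIdeal _).mpr (hall i)
      rw [hπ.maximalIdeal_eq, Ideal.mem_span_singleton] at hm
      exact hm
    exact hπ.not_isUnit (hprim π hdvd)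
  · have h2 : Polynomial.aeval x p = algebraMap A K₁ p.content * Polynomial.aeval x p.primPart := by
      conv_lhs => rw [h1]
      rw [map_mul, Polynomial.aeval_C]
    rw [hp] at h2
    rcases mul_eq_zero.mp h2.symm with h3 | h3
    · exact absurd (hinj (by rw [h3, map_zero])) hc0
    · exact h3

/-- The residue field of a valuation ring `V₁` of an algebraic extension `K₁` of the fraction field
`K` of a DVR `A`, with `A → V₁` local, is algebraic over the residue field of `A`. -/
theorem residue_isAlgebraic {A : Type u} [CommRing A] [IsDomain A] [IsDiscreteValuationRing A]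
    (K K₁ : Type u) [Field K] [Algebra A K] [IsFractionRing A K] [Field K₁] [Algebra K K₁]
    [Algebra.IsAlgebraic K K₁] (V₁ : ValuationSubring K₁) [Algebra A V₁]
    [IsLocalHom (algebraMap A V₁)]
    (hcompat : ∀ a : A, ((algebraMap A V₁ a : V₁) : K₁) = algebraMap K K₁ (algebraMap A K a)) :
    Algebra.IsAlgebraic (ResidueField A) (ResidueField V₁) := by
  letI : Algebra A K₁ := ((algebraMap K K₁).comp (algebraMap A K)).toAlgebra
  haveI : IsScalarTower A K K₁ := IsScalarTower.of_algebraMap_eq (fun _ => rfl)
  haveI : IsScalarTower A V₁ K₁ := IsScalarTower.of_algebraMap_eq (fun a => (hcompat a).symm)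
  constructor
  intro xbar
  obtain ⟨x, rfl⟩ := residue_surjective xbar
  obtain ⟨q, ⟨i, hi⟩, hq⟩ := exists_unit_coeff_root A K K₁ (x : K₁)
    (Algebra.IsAlgebraic.isAlgebraic _)
  refine ⟨q.map (algebraMap A (ResidueField A)), ?_, ?_⟩
  · intro h0
    have h1 := congrArg (fun r => Polynomial.coeff r i) h0
    simp only [Polynomial.coeff_map, Polynomial.coeff_zero] at h1
    exact (residue_ne_zero_iff_isUnit _).mpr hi h1
  · rw [Polynomial.aeval_map_algebraMap]
    have h2 : Polynomial.aeval (residue V₁ x) q = residue V₁ (Polynomial.aeval x q) := by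
      have := Polynomial.aeval_algHom_apply (IsScalarTower.toAlgHom A V₁ (ResidueField V₁)) x q
      exact this
    rw [h2]
    have h3 : Polynomial.aeval x q = 0 := by
      apply Subtype.ext
      have := Polynomial.aeval_algHom_apply (IsScalarTower.toAlgHom A V₁ K₁) x q
      have h4 : ((Polynomial.aeval x q : V₁) : K₁) = Polynomial.aeval (x : K₁) q := this.symm
      rw [h4, hq]
      rfl
    rw [h3, map_zero]

end Groth.Agent.Lib.GRedH8
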