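import Mathlib

/-!
# Lengths in one-dimensional Noetherian rings (helper6), part 1
-/

set_option autoImplicit false
universe u

namespace Groth.Agent.Lib.KA

open scoped nonZeroDivisors

/-- If `R/I` is a zero-dimensional Noetherian ring then it has finite length as `R`-module. -/
theorem length_quotient_ne_top {R : Type u} [CommRing R] [IsNoetherianRing R] (I : Ideal R)
    (h : Ring.KrullDimLE 0 (R ⧸ I)) : Module.length R (R ⧸ I) ≠ ⊤ := by
  rw [Module.length_eq_of_surjective (S := R) (R := R ⧸ I) (M := R ⧸ I)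
    Ideal.Quotient.mk_surjective]
  haveI : IsArtinianRing (R ⧸ I) := isArtinianRing_iff_krullDimLE_zero.2 h
  rw [Module.length_ne_top_iff]
  exact (isArtinianRing_iff_isFiniteLength (R ⧸ I)).1 inferInstance

/-- quotient by a nonzerodivisor in a ring of dimension ≤ 1 is zero-dimensional. -/
theorem krullDimLE_zero_quotient_of_nonZeroDivisor {R : Type u} [CommRing R]
    (hdim : ringKrullDim R ≤ 1) {a : R} (ha : a ∈ R⁰) :
    Ring.KrullDimLE 0 (R ⧸ Ideal.span ({a} : Set R)) := by
  rw [Ring.krullDimLE_iff]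
  have h1 := ringKrullDim_quotient_succ_le_of_nonZeroDivisor ha
  have h2 : ringKrullDim (R ⧸ Ideal.span ({a} : Set R)) + 1 ≤ 1 := h1.trans hdim
  generalize ringKrullDim (R ⧸ Ideal.span ({a} : Set R)) = d at h2 ⊢
  induction d using WithBot.recBotCoe with
  | bot => exact bot_le
  | coe d =>
    have h3 : ((d + 1 : ℕ∞) : WithBot ℕ∞) ≤ ((1 : ℕ∞) : WithBot ℕ∞) := by exact_mod_cast h2
    have h4 : d + 1 ≤ 1 := WithBot.coe_le_coe.1 h3
    have h5 : d = 0 := by
      induction d using ENat.recTopCoe with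
      | top => simp at h4
      | coe n =>
        have : n + 1 ≤ 1 := by exact_mod_cast h4
        have : n = 0 := by omega
        rw [this]; rfl
    rw [h5]; rfl

theorem length_quotient_span_ne_top {R : Type u} [CommRing R] [IsNoetherianRing R]
    (hdim : ringKrullDim R ≤ 1) {a : R} (ha : a ∈ R⁰) :
    Module.length R (R ⧸ Ideal.span ({a} : Set R)) ≠ ⊤ :=
  length_quotient_ne_top _ (krullDimLE_zero_quotient_of_nonZeroDivisor hdim ha)

/-- `ℓ(R/ab) = ℓ(R/a) + ℓ(R/b)` for `a` a nonzerodivisor. -/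
theorem length_quotient_mul {R : Type u} [CommRing R] (a b : R) (ha : a ∈ R⁰) :
    Module.length R (R ⧸ Ideal.span ({a * b} : Set R)) =
      Module.length R (R ⧸ Ideal.span ({a} : Set R)) +
        Module.length R (R ⧸ Ideal.span ({b} : Set R)) := by
  have hle1 : (Ideal.span ({b} : Set R)) ≤
      Submodule.comap (LinearMap.mulLeft R a) (Ideal.span ({a * b} : Set R)) := by
    intro r hr
    rw [Ideal.mem_span_singleton'] at hr
    obtain ⟨s, rfl⟩ := hr
    rw [Submodule.mem_comap, LinearMap.mulLeft_apply, Ideal.mem_span_singleton']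
    exact ⟨s, by ring⟩
  have hle2 : (Ideal.span ({a * b} : Set R)) ≤
      Submodule.comap (LinearMap.id : R →ₗ[R] R) (Ideal.span ({a} : Set R)) := by
    intro r hr
    rw [Ideal.mem_span_singleton'] at hr
    obtain ⟨s, rfl⟩ := hr
    rw [Submodule.mem_comap, LinearMap.id_apply, Ideal.mem_span_singleton']
    exact ⟨s * b, by ring⟩
  let f : (R ⧸ Ideal.span ({b} : Set R)) →ₗ[R] (R ⧸ Ideal.span ({a * b} : Set R)) :=
    Submodule.mapQ _ _ (LinearMap.mulLeft R a) hle1
  let g : (R ⧸ Ideal.span ({a * b} : Set R)) →ₗ[R] (R ⧸ Ideal.span ({a} : Set R)) :=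
    Submodule.mapQ _ _ LinearMap.id hle2
  have hf : Function.Injective f := by
    rw [injective_iff_map_eq_zero]
    intro x hx
    obtain ⟨r, rfl⟩ := Submodule.mkQ_surjective _ x
    have h1 : f (Submodule.mkQ _ r) = Submodule.mkQ _ (a * r) := rfl
    rw [h1, Submodule.mkQ_apply, Submodule.Quotient.mk_eq_zero, Ideal.mem_span_singleton'] at hx
    obtain ⟨s, hs⟩ := hx
    rw [Submodule.mkQ_apply, Submodule.Quotient.mk_eq_zero, Ideal.mem_span_singleton']
    refine ⟨s, ?_⟩
    have h2 : (s * b - r) * a = 0 := by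
      have : s * (a * b) - a * r = 0 := by rw [hs]; ring
      rw [← this]; ring
    have h3 := (mem_nonZeroDivisors_iff_right.1 ha) _ h2
    exact sub_eq_zero.1 h3
  have hg : Function.Surjective g := by
    intro x
    obtain ⟨r, rfl⟩ := Submodule.mkQ_surjective _ x
    exact ⟨Submodule.mkQ _ r, rfl⟩
  have hex : Function.Exact f g := by
    intro y
    constructor
    · intro hy
      obtain ⟨r, rfl⟩ := Submodule.mkQ_surjective _ y
      have h1 : g (Submodule.mkQ _ r) = Submodule.mkQ _ r := rfl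
      rw [h1, Submodule.mkQ_apply, Submodule.Quotient.mk_eq_zero, Ideal.mem_span_singleton'] at hy
      obtain ⟨s, rfl⟩ := hy
      refine ⟨Submodule.mkQ _ s, ?_⟩
      show Submodule.mkQ _ (a * s) = Submodule.mkQ _ (s * a)
      rw [mul_comm a s]
    · rintro ⟨x, rfl⟩
      obtain ⟨r, rfl⟩ := Submodule.mkQ_surjective _ x
      show Submodule.mkQ _ (a * r) = 0
      rw [Submodule.mkQ_apply, Submodule.Quotient.mk_eq_zero, Ideal.mem_span_singleton']
      exact ⟨r, by ring⟩
  rw [Module.length_eq_add_of_exact f g hf hg hex, add_comm]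

end Groth.Agent.Lib.KA
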