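import Mathlib
import Groth.Agent.Lib.KrullAkizuki1_helper6

/-!
# Lengths in one-dimensional Noetherian domains (helper6), part 2

Main result `length_quotSMulTop_le`: for a Noetherian domain `R` of dimension `≤ 1` with fraction
field `K`, an `R`-module `P` embedded in `K^r` and `x ≠ 0`: `ℓ(P/xP) ≤ r · ℓ(R/xR)`.
-/

set_option autoImplicit false
universe u

namespace Groth.Agent.Lib.KA

open scoped nonZeroDivisors

section general

variable {R : Type u} [CommRing R]

/-- subadditivity of the length of `N/xN` on right exact sequences. -/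
theorem length_quotSMulTop_le_add (x : R) {N' N N'' : Type u} [AddCommGroup N'] [Module R N']
    [AddCommGroup N] [Module R N] [AddCommGroup N''] [Module R N'']
    (f : N' →ₗ[R] N) (g : N →ₗ[R] N'') (hfg : Function.Exact f g) (hg : Function.Surjective g) :
    Module.length R (QuotSMulTop x N) ≤
      Module.length R (QuotSMulTop x N') + Module.length R (QuotSMulTop x N'') := by
  have hex := QuotSMulTop.map_exact x hfg hg
  have hsurj := QuotSMulTop.map_surjective x hg
  rw [Module.length_eq_add_of_exact (LinearMap.ker (QuotSMulTop.map x g)).subtype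
    (QuotSMulTop.map x g) (Submodule.subtype_injective _) hsurj
    (LinearMap.exact_subtype_ker_map _)]
  gcongr
  have hker : LinearMap.ker (QuotSMulTop.map x g) = LinearMap.range (QuotSMulTop.map x f) :=
    (LinearMap.exact_iff.1 hex)
  rw [hker]
  exact Module.length_le_of_surjective (QuotSMulTop.map x f).rangeRestrict
    (LinearMap.surjective_rangeRestrict _)

/-- A bound for `ℓ(N/xN)` can be checked on finitely generated submodules. -/
theorem length_quotSMulTop_le_of_fg (x : R) {N : Type u} [AddCommGroup N] [Module R N] (c : ℕ∞)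
    (h : ∀ N₀ : Submodule R N, N₀.FG → Module.length R (QuotSMulTop x N₀) ≤ c) :
    Module.length R (QuotSMulTop x N) ≤ c := by
  refine ENat.forall_natCast_le_iff_le.mp fun n hn => ?_
  have hn' : (n : WithBot ℕ∞) ≤ Order.krullDim (Submodule R (QuotSMulTop x N)) := by
    rw [← Module.coe_length]; exact_mod_cast hn
  obtain ⟨l, hl⟩ := Order.le_krullDim_iff.1 hn'
  have hex : ∀ i : Fin l.length, ∃ m : N,
      (Submodule.Quotient.mk m : QuotSMulTop x N) ∈ l i.succ ∧
      (Submodule.Quotient.mk m : QuotSMulTop x N) ∉ l i.castSucc := by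
    intro i
    have hlt : l i.castSucc < l i.succ := l.strictMono (Fin.castSucc_lt_succ)
    obtain ⟨q, hq1, hq2⟩ := SetLike.exists_of_lt hlt
    obtain ⟨m, rfl⟩ := Submodule.mkQ_surjective _ q
    exact ⟨m, hq1, hq2⟩
  choose m hm1 hm2 using hex
  obtain ⟨N₀, hN₀def⟩ : ∃ N₀ : Submodule R N, N₀ = Submodule.span R (Set.range m) := ⟨_, rfl⟩
  have hN₀ : N₀.FG := by rw [hN₀def]; exact Submodule.fg_span (Set.finite_range m)
  have hmem : ∀ i, m i ∈ N₀ := fun i => by
    rw [hN₀def]; exact Submodule.subset_span ⟨i, rfl⟩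
  let ι : QuotSMulTop x N₀ →ₗ[R] QuotSMulTop x N := QuotSMulTop.map x N₀.subtype
  have hι : ∀ i, ι (Submodule.Quotient.mk ⟨m i, hmem i⟩) = Submodule.Quotient.mk (m i) :=
    fun i => rfl
  let l' : LTSeries (Submodule R (QuotSMulTop x N₀)) :=
    LTSeries.mk l.length (fun i => (l i).comap ι) (by
      rw [Fin.strictMono_iff_lt_succ]
      intro i
      have hlt : l i.castSucc < l i.succ := l.strictMono (Fin.castSucc_lt_succ)
      rw [SetLike.lt_iff_le_and_exists]
      refine ⟨Submodule.comap_mono hlt.le, Submodule.Quotient.mk ⟨m i, hmem i⟩, ?_, ?_⟩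
      · rw [Submodule.mem_comap, hι]; exact hm1 i
      · rw [Submodule.mem_comap, hι]; exact hm2 i)
  have h1 : ((l'.length : ℕ) : WithBot ℕ∞) ≤ Order.krullDim (Submodule R (QuotSMulTop x N₀)) :=
    Order.le_krullDim_iff.2 ⟨l', rfl⟩
  rw [← Module.coe_length] at h1
  have h2 : (l'.length : ℕ∞) ≤ Module.length R (QuotSMulTop x N₀) := by exact_mod_cast h1
  have h3 : l'.length = n := hl
  rw [h3] at h2
  exact h2.trans (h N₀ hN₀)

end general

section domain

variable {R : Type u} [CommRing R] [IsDomain R] [IsNoetherianRing R]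

theorem length_quotient_ne_top_of_ne_bot (hdim : ringKrullDim R ≤ 1) (I : Ideal R) (hI : I ≠ ⊥) :
    Module.length R (R ⧸ I) ≠ ⊤ := by
  obtain ⟨a, haI, ha0⟩ := Submodule.exists_mem_ne_zero_of_ne_bot hI
  have ha : a ∈ R⁰ := mem_nonZeroDivisors_of_ne_zero ha0
  have h0 := krullDimLE_zero_quotient_of_nonZeroDivisor hdim ha
  apply length_quotient_ne_top
  rw [Ring.krullDimLE_iff] at h0 ⊢
  have hle : Ideal.span ({a} : Set R) ≤ I := by
    rw [Ideal.span_le, Set.singleton_subset_iff]; exact haI
  exact (ringKrullDim_le_of_surjective (Ideal.Quotient.factor hle)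
    (Ideal.Quotient.factor_surjective hle)).trans h0

/-- `ℓ(R/xI) = ℓ(R/I) + ℓ(R/x)`. -/
theorem length_quotient_span_mul (x : R) (hx : x ≠ 0) (I : Ideal R) :
    Module.length R (R ⧸ (Ideal.span ({x} : Set R) * I)) =
      Module.length R (R ⧸ I) + Module.length R (R ⧸ Ideal.span ({x} : Set R)) := by
  have hle1 : I ≤ Submodule.comap (LinearMap.mulLeft R x) (Ideal.span ({x} : Set R) * I) := by
    intro r hr
    rw [Submodule.mem_comap, LinearMap.mulLeft_apply, Ideal.mem_span_singleton_mul]
    exact ⟨r, hr, rfl⟩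
  have hle2 : (Ideal.span ({x} : Set R) * I) ≤
      Submodule.comap (LinearMap.id : R →ₗ[R] R) (Ideal.span ({x} : Set R)) := by
    intro r hr
    rw [Submodule.mem_comap, LinearMap.id_apply]
    exact Ideal.mul_le_left hr
  let f : (R ⧸ I) →ₗ[R] (R ⧸ (Ideal.span ({x} : Set R) * I)) :=
    Submodule.mapQ _ _ (LinearMap.mulLeft R x) hle1
  let g : (R ⧸ (Ideal.span ({x} : Set R) * I)) →ₗ[R] (R ⧸ Ideal.span ({x} : Set R)) :=
    Submodule.mapQ _ _ LinearMap.id hle2
  have hf : Function.Injective f := by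
    rw [injective_iff_map_eq_zero]
    intro y hy
    obtain ⟨r, rfl⟩ := Submodule.mkQ_surjective _ y
    have h1 : f (Submodule.mkQ _ r) = Submodule.mkQ _ (x * r) := rfl
    rw [h1, Submodule.mkQ_apply, Submodule.Quotient.mk_eq_zero,
      Ideal.mem_span_singleton_mul] at hy
    obtain ⟨z, hz, hxz⟩ := hy
    rw [Submodule.mkQ_apply, Submodule.Quotient.mk_eq_zero]
    have : z = r := mul_left_cancel₀ hx hxz
    rw [← this]; exact hz
  have hg : Function.Surjective g := by
    intro y
    obtain ⟨r, rfl⟩ := Submodule.mkQ_surjective _ y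
    exact ⟨Submodule.mkQ _ r, rfl⟩
  have hex : Function.Exact f g := by
    intro y
    constructor
    · intro hy
      obtain ⟨r, rfl⟩ := Submodule.mkQ_surjective _ y
      have h1 : g (Submodule.mkQ _ r) = Submodule.mkQ _ r := rfl
      rw [h1, Submodule.mkQ_apply, Submodule.Quotient.mk_eq_zero, Ideal.mem_span_singleton'] at hy
      obtain ⟨s, rfl⟩ := hy
      refine ⟨Submodule.mkQ _ s, ?_⟩
      show Submodule.mkQ _ (x * s) = Submodule.mkQ _ (s * x)
      rw [mul_comm x s]
    · rintro ⟨z, rfl⟩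
      obtain ⟨r, rfl⟩ := Submodule.mkQ_surjective _ z
      show Submodule.mkQ _ (x * r) = 0
      rw [Submodule.mkQ_apply, Submodule.Quotient.mk_eq_zero, Ideal.mem_span_singleton']
      exact ⟨r, by ring⟩
  exact Module.length_eq_add_of_exact f g hf hg hex

open scoped Pointwise in
/-- `ℓ(R/xI) = ℓ(I/xI) + ℓ(R/I)`. -/
theorem length_quotient_span_mul' (x : R) (I : Ideal R) :
    Module.length R (R ⧸ (Ideal.span ({x} : Set R) * I)) =
      Module.length R (QuotSMulTop x I) + Module.length R (R ⧸ I) := by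
  have hle1 : (x • (⊤ : Submodule R I)) ≤
      LinearMap.ker ((Submodule.mkQ (Ideal.span ({x} : Set R) * I)).comp I.subtype) := by
    intro v hv
    rw [Submodule.mem_smul_pointwise_iff_exists] at hv
    obtain ⟨w, -, rfl⟩ := hv
    rw [LinearMap.mem_ker, LinearMap.comp_apply, Submodule.mkQ_apply,
      Submodule.Quotient.mk_eq_zero, Ideal.mem_span_singleton_mul]
    exact ⟨w, w.2, rfl⟩
  have hle2 : (Ideal.span ({x} : Set R) * I) ≤
      Submodule.comap (LinearMap.id : R →ₗ[R] R) I := by
    intro r hr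
    rw [Submodule.mem_comap, LinearMap.id_apply]
    exact Ideal.mul_le_right hr
  let f : QuotSMulTop x I →ₗ[R] (R ⧸ (Ideal.span ({x} : Set R) * I)) :=
    Submodule.liftQ _ _ hle1
  let g : (R ⧸ (Ideal.span ({x} : Set R) * I)) →ₗ[R] (R ⧸ I) :=
    Submodule.mapQ _ _ LinearMap.id hle2
  have hfmk : ∀ v : I, f (Submodule.Quotient.mk v) = Submodule.Quotient.mk (v : R) := fun v => rfl
  have hf : Function.Injective f := by
    rw [injective_iff_map_eq_zero]
    intro y hy
    obtain ⟨v, rfl⟩ := Submodule.mkQ_surjective _ y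
    rw [Submodule.mkQ_apply, hfmk, Submodule.Quotient.mk_eq_zero,
      Ideal.mem_span_singleton_mul] at hy
    obtain ⟨z, hz, hxz⟩ := hy
    rw [Submodule.mkQ_apply, Submodule.Quotient.mk_eq_zero,
      Submodule.mem_smul_pointwise_iff_exists]
    exact ⟨⟨z, hz⟩, Submodule.mem_top, Subtype.ext hxz⟩
  have hg : Function.Surjective g := by
    intro y
    obtain ⟨r, rfl⟩ := Submodule.mkQ_surjective _ y
    exact ⟨Submodule.mkQ _ r, rfl⟩
  have hex : Function.Exact f g := by
    intro y
    constructor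
    · intro hy
      obtain ⟨r, rfl⟩ := Submodule.mkQ_surjective _ y
      have h1 : g (Submodule.mkQ _ r) = Submodule.mkQ _ r := rfl
      rw [h1, Submodule.mkQ_apply, Submodule.Quotient.mk_eq_zero] at hy
      exact ⟨Submodule.Quotient.mk ⟨r, hy⟩, rfl⟩
    · rintro ⟨z, rfl⟩
      obtain ⟨v, rfl⟩ := Submodule.mkQ_surjective _ z
      rw [Submodule.mkQ_apply, hfmk]
      show Submodule.mkQ _ (v : R) = 0
      rw [Submodule.mkQ_apply, Submodule.Quotient.mk_eq_zero]
      exact v.2
  exact Module.length_eq_add_of_exact f g hf hg hex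

/-- ideal case. -/
theorem length_quotSMulTop_ideal_le (hdim : ringKrullDim R ≤ 1) (x : R) (hx : x ≠ 0)
    (I : Ideal R) :
    Module.length R (QuotSMulTop x I) ≤ Module.length R (R ⧸ Ideal.span ({x} : Set R)) := by
  by_cases hI : I = ⊥
  · haveI : Subsingleton I := by rw [hI]; infer_instance
    rw [Module.length_eq_zero]
    exact bot_le
  · have hfin := length_quotient_ne_top_of_ne_bot hdim I hI
    have h1 := length_quotient_span_mul x hx I
    have h2 := length_quotient_span_mul' x I
    rw [h1, add_comm] at h2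
    exact le_of_eq ((ENat.add_left_injective_of_ne_top hfin) h2).symm

end domain

end Groth.Agent.Lib.KA
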