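import Mathlib
import Groth.Agent.Lib.KrullAkizuki2_helper6

/-!
# Lengths in one-dimensional Noetherian domains (helper6), part 3
-/

set_option autoImplicit false
universe u

namespace Groth.Agent.Lib.KA

open scoped nonZeroDivisors

variable {R : Type u} [CommRing R] [IsDomain R] [IsNoetherianRing R]
  {K : Type u} [Field K] [Algebra R K] [IsFractionRing R K]

/-- finitely generated module embedded in `K`. -/
theorem length_quotSMulTop_le_of_finite (hdim : ringKrullDim R ≤ 1) (x : R) (hx : x ≠ 0)
    {P : Type u} [AddCommGroup P] [Module R P] [Module.Finite R P] (φ : P →ₗ[R] K)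
    (hφ : Function.Injective φ) :
    Module.length R (QuotSMulTop x P) ≤ Module.length R (R ⧸ Ideal.span ({x} : Set R)) := by
  have hfg : (LinearMap.range φ).FG := by
    rw [LinearMap.range_eq_map]
    exact Submodule.FG.map _ Module.Finite.fg_top
  have hfrac : IsFractional R⁰ (LinearMap.range φ) := FractionalIdeal.isFractional_of_fg hfg
  let J : FractionalIdeal R⁰ K := ⟨LinearMap.range φ, hfrac⟩
  let e1 : P ≃ₗ[R] LinearMap.range φ := LinearEquiv.ofInjective φ hφ
  let e2 : (LinearMap.range φ) ≃ₗ[R] J.num := FractionalIdeal.equivNumOfIsLocalization J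
  have h1 : Module.length R (QuotSMulTop x P) = Module.length R (QuotSMulTop x J.num) :=
    LinearEquiv.length_eq (QuotSMulTop.congr x (e1.trans e2))
  rw [h1]
  exact length_quotSMulTop_ideal_le hdim x hx J.num

/-- arbitrary module embedded in `K`. -/
theorem length_quotSMulTop_le_one (hdim : ringKrullDim R ≤ 1) (x : R) (hx : x ≠ 0)
    {P : Type u} [AddCommGroup P] [Module R P] (φ : P →ₗ[R] K)
    (hφ : Function.Injective φ) :
    Module.length R (QuotSMulTop x P) ≤ Module.length R (R ⧸ Ideal.span ({x} : Set R)) := by
  apply length_quotSMulTop_le_of_fg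
  intro N₀ hN₀
  haveI : Module.Finite R N₀ := Module.Finite.iff_fg.2 hN₀
  exact length_quotSMulTop_le_of_finite hdim x hx (φ.comp N₀.subtype)
    (hφ.comp N₀.subtype_injective)

/-- Main lemma: `ℓ(P/xP) ≤ r ℓ(R/xR)` for `P ↪ K^r`. -/
theorem length_quotSMulTop_le (hdim : ringKrullDim R ≤ 1) (x : R) (hx : x ≠ 0) (r : ℕ) :
    ∀ {P : Type u} [AddCommGroup P] [Module R P] (φ : P →ₗ[R] (Fin r → K)),
      Function.Injective φ →
      Module.length R (QuotSMulTop x P) ≤ r * Module.length R (R ⧸ Ideal.span ({x} : Set R)) := by
  induction r with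
  | zero =>
    intro P _ _ φ hφ
    haveI : Subsingleton P := hφ.subsingleton
    rw [Module.length_eq_zero]
    exact bot_le
  | succ r ih =>
    intro P _ _ φ hφ
    let π₀ : (Fin (r + 1) → K) →ₗ[R] K :=
      (LinearMap.proj 0 : (Fin (r + 1) → K) →ₗ[K] K).restrictScalars R
    let τ : (Fin (r + 1) → K) →ₗ[R] (Fin r → K) := LinearMap.funLeft R K Fin.succ
    let g : P →ₗ[R] K := π₀.comp φ
    have h1 := length_quotSMulTop_le_add x (LinearMap.ker g).subtype g.rangeRestrict
      (by
        intro y
        constructor
        · intro hy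
          have : g y = 0 := by
            have := congrArg Subtype.val hy
            simpa using this
          exact ⟨⟨y, this⟩, rfl⟩
        · rintro ⟨z, rfl⟩
          apply Subtype.ext
          exact z.2)
      (LinearMap.surjective_rangeRestrict g)
    have h2 : Module.length R (QuotSMulTop x (LinearMap.range g)) ≤
        Module.length R (R ⧸ Ideal.span ({x} : Set R)) :=
      length_quotSMulTop_le_one hdim x hx (LinearMap.range g).subtype
        (Submodule.subtype_injective _)
    have h3 : Module.length R (QuotSMulTop x (LinearMap.ker g)) ≤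
        r * Module.length R (R ⧸ Ideal.span ({x} : Set R)) := by
      apply ih ((τ.comp φ).comp (LinearMap.ker g).subtype)
      rw [injective_iff_map_eq_zero]
      intro p hp
      have hp0 : φ p.1 0 = 0 := p.2
      have hps : ∀ i : Fin r, φ p.1 i.succ = 0 := fun i => congrFun hp i
      have : φ p.1 = 0 := by
        funext i
        refine Fin.cases hp0 hps i
      have : p.1 = 0 := hφ (by rw [this, map_zero])
      exact Subtype.ext this
    calc Module.length R (QuotSMulTop x P)
        ≤ Module.length R (QuotSMulTop x (LinearMap.ker g)) +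
          Module.length R (QuotSMulTop x (LinearMap.range g)) := h1
      _ ≤ r * Module.length R (R ⧸ Ideal.span ({x} : Set R)) +
          Module.length R (R ⧸ Ideal.span ({x} : Set R)) := add_le_add h3 h2
      _ = ((r + 1 : ℕ) : ℕ∞) * Module.length R (R ⧸ Ideal.span ({x} : Set R)) := by
        push_cast
        rw [add_mul, one_mul]

open scoped Pointwise in
/-- statement form: `M ⧸ (span{x} • ⊤)`. -/
theorem length_quotient_span_smul_le (hdim : ringKrullDim R ≤ 1) (x : R) (hx : x ≠ 0) (r : ℕ)
    {P : Type u} [AddCommGroup P] [Module R P] (φ : P →ₗ[R] (Fin r → K))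
    (hφ : Function.Injective φ) :
    Module.length R (P ⧸ (Ideal.span ({x} : Set R) • (⊤ : Submodule R P))) ≤
      r * Module.length R (R ⧸ Ideal.span ({x} : Set R)) := by
  have heq : (Ideal.span ({x} : Set R) • (⊤ : Submodule R P)) = x • (⊤ : Submodule R P) :=
    Submodule.ideal_span_singleton_smul x ⊤
  have h1 : Module.length R (P ⧸ (Ideal.span ({x} : Set R) • (⊤ : Submodule R P))) =
      Module.length R (QuotSMulTop x P) :=
    LinearEquiv.length_eq (Submodule.quotEquivOfEq _ _ heq)
  rw [h1]
  exact length_quotSMulTop_le hdim x hx r φ hφ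

end Groth.Agent.Lib.KA
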