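import Mathlib
import Groth.Agent.Lib.KrullAkizuki3_helper6

/-!
# Krull–Akizuki (helper6), part 4
-/

set_option autoImplicit false
universe u

namespace Groth.Agent.Lib.KA

open scoped nonZeroDivisors

section

variable {R : Type u} [CommRing R] [IsDomain R] [IsNoetherianRing R]
  (K L : Type u) [Field K] [Field L] [Algebra R K] [IsFractionRing R K] [Algebra K L]
  [FiniteDimensional K L] [Algebra R L] [IsScalarTower R K L]
  {A : Type u} [CommRing A] [Algebra R A] [Algebra A L] [IsScalarTower R A L]

include K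

/-- An `R`-linear embedding of `A` into `K^n`. -/
theorem exists_embedding (hA : Function.Injective (algebraMap A L)) :
    ∃ (n : ℕ) (φ : A →ₗ[R] (Fin n → K)), Function.Injective φ := by
  let b := Module.finBasis K L
  let e : L ≃ₗ[K] (Fin (Module.finrank K L) → K) := b.equivFun
  refine ⟨Module.finrank K L,
    (e.toLinearMap.restrictScalars R).comp (IsScalarTower.toAlgHom R A L).toLinearMap, ?_⟩
  intro a a' h
  apply hA
  exact e.injective h

/-- `A/xA` is a Noetherian `R`-module (`R`-module quotient form). -/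
theorem isNoetherian_quotient_span_smul (hdim : ringKrullDim R ≤ 1)
    (hA : Function.Injective (algebraMap A L)) (x : R) (hx : x ≠ 0) :
    IsNoetherian R (A ⧸ (Ideal.span ({x} : Set R) • (⊤ : Submodule R A))) ∧
    IsArtinian R (A ⧸ (Ideal.span ({x} : Set R) • (⊤ : Submodule R A))) := by
  obtain ⟨n, φ, hφ⟩ := exists_embedding (R := R) K L hA
  have h1 := length_quotient_span_ne_top hdim (mem_nonZeroDivisors_of_ne_zero hx)
  have h2 := length_quotient_span_smul_le (K := K) hdim x hx n φ hφ
  have h3 : (n : ℕ∞) * Module.length R (R ⧸ Ideal.span ({x} : Set R)) ≠ ⊤ :=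
    WithTop.mul_ne_top (ENat.coe_ne_top n) h1
  have h4 := ne_top_of_le_ne_top h3 h2
  rw [Module.length_ne_top_iff, isFiniteLength_iff_isNoetherian_isArtinian] at h4
  exact h4

/-- `A/(x)` (ring quotient) is Noetherian and Artinian as an `R`-module. -/
theorem isNoetherian_quotient_ideal (hdim : ringKrullDim R ≤ 1)
    (hA : Function.Injective (algebraMap A L)) (x : R) (hx : x ≠ 0) :
    IsNoetherian R (A ⧸ Ideal.span ({algebraMap R A x} : Set A)) ∧
    IsArtinian R (A ⧸ Ideal.span ({algebraMap R A x} : Set A)) := by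
  obtain ⟨hN, hAr⟩ := isNoetherian_quotient_span_smul K L hdim hA x hx
  have hle : (Ideal.span ({x} : Set R) • (⊤ : Submodule R A)) ≤
      LinearMap.ker ((Submodule.mkQ (Ideal.span ({algebraMap R A x} : Set A))).restrictScalars R) := by
    rw [Submodule.smul_le]
    intro r hr a _
    rw [Ideal.mem_span_singleton'] at hr
    obtain ⟨s, rfl⟩ := hr
    rw [LinearMap.mem_ker, LinearMap.restrictScalars_apply, Submodule.mkQ_apply,
      Submodule.Quotient.mk_eq_zero, Ideal.mem_span_singleton']
    refine ⟨algebraMap R A s * a, ?_⟩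
    rw [Algebra.smul_def, map_mul]; ring
  let g : (A ⧸ (Ideal.span ({x} : Set R) • (⊤ : Submodule R A))) →ₗ[R]
      (A ⧸ Ideal.span ({algebraMap R A x} : Set A)) := Submodule.liftQ _ _ hle
  have hg : Function.Surjective g := by
    intro y
    obtain ⟨a, rfl⟩ := Submodule.mkQ_surjective _ y
    exact ⟨Submodule.Quotient.mk a, rfl⟩
  exact ⟨isNoetherian_of_surjective g (LinearMap.range_eq_top.2 hg),
    isArtinian_of_surjective _ g hg⟩

/-- nonzero ideals of `A` meet `R`. -/
theorem exists_ne_zero_mem (hA : Function.Injective (algebraMap A L)) (I : Ideal A)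
    (hI : I ≠ ⊥) : ∃ x : R, x ≠ 0 ∧ algebraMap R A x ∈ I := by
  haveI : IsDomain A := hA.isDomain (algebraMap A L)
  obtain ⟨a, haI, ha0⟩ := Submodule.exists_mem_ne_zero_of_ne_bot hI
  have halgL : IsAlgebraic R (algebraMap A L a) := by
    have h1 : IsAlgebraic K (algebraMap A L a) := Algebra.IsAlgebraic.isAlgebraic _
    exact (IsFractionRing.isAlgebraic_iff R K L).2 h1
  have halg : IsAlgebraic R a :=
    (isAlgebraic_algHom_iff (IsScalarTower.toAlgHom R A L) hA).1 halgL
  obtain ⟨r, hr0, hdvd⟩ := halg.exists_nonzero_dvd (mem_nonZeroDivisors_of_ne_zero ha0)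
  exact ⟨r, hr0, I.mem_of_dvd hdvd haI⟩

/-- **Krull–Akizuki**. -/
theorem krull_akizuki (hdim : ringKrullDim R ≤ 1) (hA : Function.Injective (algebraMap A L)) :
    IsNoetherianRing A := by
  rw [isNoetherianRing_iff_ideal_fg]
  intro I
  by_cases hI : I = ⊥
  · rw [hI]; exact Submodule.fg_bot
  obtain ⟨x, hx0, hxI⟩ := exists_ne_zero_mem (R := R) K L hA I hI
  obtain ⟨hN, -⟩ := isNoetherian_quotient_ideal K L hdim hA x hx0
  haveI : IsNoetherian A (A ⧸ Ideal.span ({algebraMap R A x} : Set A)) :=
    isNoetherian_of_tower R hN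
  apply Submodule.fg_of_fg_map_of_fg_inf_ker (Submodule.mkQ (Ideal.span ({algebraMap R A x} : Set A)))
  · exact IsNoetherian.noetherian _
  · rw [Submodule.ker_mkQ]
    have : I ⊓ Ideal.span ({algebraMap R A x} : Set A) = Ideal.span ({algebraMap R A x} : Set A) := by
      apply inf_eq_right.2
      rw [Ideal.span_le, Set.singleton_subset_iff]; exact hxI
    rw [this]
    exact ⟨{algebraMap R A x}, by simp⟩

end

end Groth.Agent.Lib.KA
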