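import Mathlib
import Groth.Prelude.Def_EtRam
import Groth.Agent.Lib.KrullAkizuki4_helper6

/-!
# Valuation rings dominating a DVR in a finite extension are noetherian (helper8)
-/

set_option autoImplicit false
universe u

namespace Groth.Agent.Lib.GRedH8

open IsLocalRing TensorProduct

/-- A field generated over `L` by the image of a finite extension `K₁ / K` is finite over `L`. -/
theorem finiteDimensional_of_adjoin (K L K₁ M : Type u) [Field K] [Field L] [Field K₁] [Field M]
    [Algebra K L] [Algebra K K₁] [FiniteDimensional K K₁] [Algebra K M] [Algebra L M]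
    [Algebra K₁ M] [IsScalarTower K L M] [IsScalarTower K K₁ M]
    (hgen : Algebra.adjoin L (Set.range (algebraMap K₁ M)) = ⊤) : FiniteDimensional L M := by
  classical
  let b := Module.finBasis K K₁
  let S : Set M := Set.range (fun i => algebraMap K₁ M (b i))
  have hSfin : S.Finite := Set.finite_range _
  have hSint : ∀ x ∈ S, IsIntegral L x := by
    rintro _ ⟨i, rfl⟩
    have h1 : IsIntegral K (b i) := Algebra.IsIntegral.isIntegral _
    have h2 : IsIntegral K (algebraMap K₁ M (b i)) := h1.map (IsScalarTower.toAlgHom K K₁ M)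
    exact h2.tower_top
  have hle : Set.range (algebraMap K₁ M) ⊆ (Algebra.adjoin L S : Set M) := by
    rintro _ ⟨k, rfl⟩
    have hk : k = ∑ i, (b.repr k i) • b i := (b.sum_repr k).symm
    rw [hk, map_sum]
    apply Subalgebra.sum_mem
    intro i _
    rw [Algebra.smul_def, map_mul, ← IsScalarTower.algebraMap_apply K K₁ M,
      IsScalarTower.algebraMap_apply K L M]
    apply Subalgebra.mul_mem
    · exact Subalgebra.algebraMap_mem _ _
    · exact Algebra.subset_adjoin ⟨i, rfl⟩
  have htop : Algebra.adjoin L S = ⊤ := by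
    apply top_le_iff.mp
    rw [← hgen]
    exact Algebra.adjoin_le hle
  have hfg : (Algebra.adjoin L S).toSubmodule.FG := fg_adjoin_of_finite hSfin hSint
  rw [htop, Algebra.top_toSubmodule] at hfg
  exact Module.finite_def.mpr hfg

/-- A valuation subring of a finite extension of the fraction field of a DVR `R`, containing the
image of `R`, is noetherian (Krull–Akizuki). -/
theorem isNoetherianRing_valuationSubring {R : Type u} [CommRing R] [IsDomain R]
    [IsDiscreteValuationRing R] (K L : Type u) [Field K] [Field L] [Algebra R K]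
    [IsFractionRing R K] [Algebra K L] [FiniteDimensional K L]
    (V : ValuationSubring L) (hV : ∀ r : R, algebraMap K L (algebraMap R K r) ∈ V) :
    IsNoetherianRing V := by
  letI : Algebra R L := ((algebraMap K L).comp (algebraMap R K)).toAlgebra
  haveI : IsScalarTower R K L := IsScalarTower.of_algebraMap_eq (fun _ => rfl)
  letI : Algebra R V := (RingHom.codRestrict (algebraMap R L) V hV).toAlgebra
  haveI : IsScalarTower R V L := IsScalarTower.of_algebraMap_eq (fun _ => rfl)
  have hdim : ringKrullDim R ≤ 1 := Ring.krullDimLE_iff.mp inferInstance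
  exact KA.krull_akizuki (R := R) K L (A := V) hdim Subtype.val_injective

/-- The maximal ideal of a noetherian valuation subring is principal. -/
theorem exists_uniformizer {L : Type u} [Field L] (V : ValuationSubring L) [IsNoetherianRing V] :
    ∃ ϖ : V, maximalIdeal V = Ideal.span {ϖ} := by
  have hfg : (maximalIdeal V).FG := IsNoetherian.noetherian _
  have hp : (maximalIdeal V).IsPrincipal := IsBezout.isPrincipal_of_FG _ hfg
  obtain ⟨ϖ, hϖ⟩ := hp.principal
  exact ⟨ϖ, hϖ⟩

/-- In a noetherian valuation subring, no nonzero element is divisible by all powers of a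
non-unit. -/
theorem arch_of_noetherian {L : Type u} [Field L] (V : ValuationSubring L) [IsNoetherianRing V]
    (τ : L) (hτ : V.valuation τ < 1) (y : L) (hy : y ∈ V) (hy0 : y ≠ 0) :
    ∃ n : ℕ, V.valuation τ ^ n < V.valuation y := by
  by_contra hall
  push Not at hall
  have hτV : τ ∈ V := (V.valuation_le_one_iff _).mp hτ.le
  have hnu : ¬ IsUnit (⟨τ, hτV⟩ : V) := by
    intro hu
    have := (V.valuation_eq_one_iff _).mp hu
    exact absurd this (ne_of_lt hτ)
  have hne : Ideal.span {(⟨τ, hτV⟩ : V)} ≠ ⊤ := by
    rw [Ne, Ideal.span_singleton_eq_top]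
    exact hnu
  have hbot := Ideal.iInf_pow_eq_bot_of_isLocalRing (Ideal.span {(⟨τ, hτV⟩ : V)}) hne
  have hmem : (⟨y, hy⟩ : V) ∈ ⨅ i : ℕ, Ideal.span {(⟨τ, hτV⟩ : V)} ^ i := by
    rw [Ideal.mem_iInf]
    intro n
    rw [Ideal.span_singleton_pow, Ideal.mem_span_singleton]
    by_cases hτ0 : τ = 0
    · rcases Nat.eq_zero_or_pos n with hn | hn
      · rw [hn, pow_zero]; exact one_dvd _
      · exfalso
        have := hall n
        rw [hτ0, map_zero, zero_pow hn.ne', le_zero_iff, Valuation.zero_iff] at this
        exact hy0 this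
    · have hpow0 : τ ^ n ≠ 0 := pow_ne_zero n hτ0
      have h1 : V.valuation (y / τ ^ n) ≤ 1 := by
        rw [map_div₀, map_pow]
        have h0 : V.valuation τ ^ n ≠ 0 := by
          rw [← map_pow]
          exact (Valuation.ne_zero_iff _).mpr hpow0
        rw [div_le_one₀ (zero_lt_iff.mpr h0)]
        exact hall n
      have h2 : y / τ ^ n ∈ V := (V.valuation_le_one_iff _).mp h1
      refine ⟨⟨y / τ ^ n, h2⟩, ?_⟩
      apply Subtype.ext
      show y = τ ^ n * (y / τ ^ n)
      field_simp
  rw [hbot, Ideal.mem_bot] at hmem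
  exact hy0 (congrArg Subtype.val hmem)

end Groth.Agent.Lib.GRedH8
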