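import Mathlib
import Groth.Prelude.Def_EtRam
import Groth.Agent.Lib.DvrExt4_helper8
import Groth.Agent.Lib.GRedDvr2_helper8
import Groth.Agent.Lib.GRedDvr3_helper8

/-!
# The tensor product argument for weakly unramified extensions with separable residue extension
(helper8)
-/

set_option autoImplicit false
universe u

namespace Groth.Agent.Lib.GRedH8

open IsLocalRing TensorProduct DvrExtH8

set_option maxHeartbeats 1600000 in
theorem tensor_core (A B K L K₁ : Type u) [CommRing A] [IsDomain A] [IsDiscreteValuationRing A]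
    [CommRing B] [IsDomain B] [IsDiscreteValuationRing B] [Algebra A B]
    [IsLocalHom (algebraMap A B)]
    [Field K] [Field L] [Algebra A K] [IsFractionRing A K] [Algebra B L] [IsFractionRing B L]
    [Algebra K L] [Algebra A L] [IsScalarTower A K L] [IsScalarTower A B L]
    (hw : EtRam.IsWeaklyUnramified A B)
    [Algebra.IsGeometricallyReduced (ResidueField A) (ResidueField B)]
    [Field K₁] [Algebra K K₁]
    (V₁ : ValuationSubring K₁) [Algebra A V₁] [IsLocalHom (algebraMap A V₁)]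
    (hcompat₁ : ∀ a : A, ((algebraMap A V₁ a : V₁) : K₁) = algebraMap K K₁ (algebraMap A K a))
    [Algebra.IsAlgebraic (ResidueField A) (ResidueField V₁)]
    (π₁ : V₁) (hπ₁ : maximalIdeal V₁ = Ideal.span {π₁})
    (M : Type u) [Field M] [Algebra K M] [Algebra L M] [Algebra K₁ M] [IsScalarTower K L M]
    [IsScalarTower K K₁ M]
    (hgen : Algebra.adjoin L (Set.range (algebraMap K₁ M)) = ⊤)
    (W : ValuationSubring M)
    (hdW : EtRam.Dominates B ((algebraMap L M).comp (algebraMap B L)) W)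
    (hV₁ : V₁ = W.comap (algebraMap K₁ M))
    (harch : ∀ y : M, y ∈ W → y ≠ 0 →
      ∃ n : ℕ, W.valuation (algebraMap K₁ M (π₁ : K₁)) ^ n < W.valuation y) :
    (∀ x : M, x ∈ W → W.valuation x < 1 → ∃ y ∈ W, x = algebraMap K₁ M (π₁ : K₁) * y) ∧
    (∀ w : M, w ∈ W → ∃ z ∈ Subring.closure
      (Set.range ((algebraMap L M).comp (algebraMap B L)) ∪
        (algebraMap K₁ M) '' (V₁ : Set K₁)), W.valuation (z - w) < 1) := by
  classical
  obtain ⟨gB, hgB⟩ : ∃ gB : B →+* M, gB = (algebraMap L M).comp (algebraMap B L) := ⟨_, rfl⟩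
  rw [← hgB] at hdW ⊢
  have hcompat : ∀ a : A, algebraMap K₁ M ((algebraMap A V₁ a : V₁) : K₁) =
      gB (algebraMap A B a) := by
    intro a
    rw [hgB, hcompat₁]
    show algebraMap K₁ M (algebraMap K K₁ (algebraMap A K a)) =
      algebraMap L M (algebraMap B L (algebraMap A B a))
    rw [← IsScalarTower.algebraMap_apply K K₁ M, ← IsScalarTower.algebraMap_apply A B L,
      IsScalarTower.algebraMap_apply A K L, ← IsScalarTower.algebraMap_apply K L M]
  have hV₁mem' : ∀ x ∈ V₁, algebraMap K₁ M x ∈ W := by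
    intro x hx
    rw [hV₁] at hx
    exact hx
  have hV₁mem : ∀ v : V₁, algebraMap K₁ M (v : K₁) ∈ W := fun v => hV₁mem' _ v.2
  have hV₁val : ∀ v : V₁, v ∈ maximalIdeal V₁ → W.valuation (algebraMap K₁ M (v : K₁)) < 1 := by
    intro v hv
    rw [ValuationSubring.valuation_lt_one_iff] at hv
    have h1 : (W.comap (algebraMap K₁ M)).valuation (v : K₁) < 1 := by
      rw [← hV₁]
      exact hv
    exact (comap_valuation_lt_one_iff _ W _).mp h1
  have hπ₁m : π₁ ∈ maximalIdeal V₁ := by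
    rw [hπ₁]
    exact Ideal.mem_span_singleton_self _
  -- the map `Φ`
  letI : Algebra B M := gB.toAlgebra
  letI : Algebra A M := (gB.comp (algebraMap A B)).toAlgebra
  haveI : IsScalarTower A B M := IsScalarTower.of_algebraMap_eq (fun _ => rfl)
  let fV' : V₁ →ₐ[A] M :=
    { (algebraMap K₁ M).comp V₁.subtype with
      commutes' := fun a => hcompat a }
  let Φ : B ⊗[A] V₁ →ₐ[B] M :=
    Algebra.TensorProduct.lift (Algebra.ofId B M) fV' (fun _ _ => Commute.all _ _)
  have hΦ : ∀ (b : B) (v : V₁), Φ (b ⊗ₜ v) = gB b * algebraMap K₁ M (v : K₁) := by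
    intro b v
    rw [Algebra.TensorProduct.lift_tmul]
    rfl
  have hΦW : ∀ t, Φ t ∈ W := by
    intro t
    induction t using TensorProduct.induction_on with
    | zero => rw [map_zero]; exact W.zero_mem
    | add x y hx hy => rw [map_add]; exact W.add_mem _ _ hx hy
    | tmul b v => rw [hΦ]; exact W.mul_mem _ _ (hdW.1 b) (hV₁mem v)
  have hΦcl : ∀ t, Φ t ∈ Subring.closure
      (Set.range gB ∪ (algebraMap K₁ M) '' (V₁ : Set K₁)) := by
    intro t
    induction t using TensorProduct.induction_on with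
    | zero => rw [map_zero]; exact Subring.zero_mem _
    | add x y hx hy => rw [map_add]; exact Subring.add_mem _ hx hy
    | tmul b v =>
      rw [hΦ]
      apply Subring.mul_mem
      · exact Subring.subset_closure (Or.inl ⟨b, rfl⟩)
      · exact Subring.subset_closure (Or.inr ⟨(v : K₁), v.2, rfl⟩)
  have hgBinj : Function.Injective gB := by
    rw [hgB]
    exact (algebraMap L M).injective.comp (IsFractionRing.injective B L)
  -- fractions
  have hfrac : ∀ x : M, ∃ a b : B ⊗[A] V₁, Φ b ≠ 0 ∧ x * Φ b = Φ a := by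
    intro x
    have hx : x ∈ Algebra.adjoin L (Set.range (algebraMap K₁ M)) := by
      rw [hgen]
      exact Algebra.mem_top
    induction hx using Algebra.adjoin_induction with
    | mem x hx =>
      obtain ⟨k, rfl⟩ := hx
      rcases V₁.mem_or_inv_mem k with hk | hk
      · refine ⟨1 ⊗ₜ ⟨k, hk⟩, 1, by rw [map_one]; exact one_ne_zero, ?_⟩
        rw [map_one, mul_one, hΦ, map_one, one_mul]
      · by_cases hk0 : k = 0
        · exact ⟨0, 1, by rw [map_one]; exact one_ne_zero, by rw [hk0, map_zero, zero_mul, map_zero]⟩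
        · refine ⟨1, 1 ⊗ₜ ⟨k⁻¹, hk⟩, ?_, ?_⟩
          · rw [hΦ, map_one, one_mul]
            simp only [ne_eq, map_eq_zero, inv_eq_zero]
            exact hk0
          · rw [hΦ, map_one, one_mul, map_one, ← map_mul]
            simp only
            rw [mul_inv_cancel₀ hk0, map_one]
    | algebraMap l =>
      obtain ⟨β, β', hβ', hl⟩ := IsFractionRing.div_surjective (A := B) l
      have hβ'0 : β' ≠ 0 := nonZeroDivisors.ne_zero hβ'
      have hgβ' : gB β' ≠ 0 := fun h0 => hβ'0 (hgBinj (by rw [h0, map_zero]))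
      refine ⟨β ⊗ₜ 1, β' ⊗ₜ 1, ?_, ?_⟩
      · rw [hΦ]
        simp only [OneMemClass.coe_one, map_one, mul_one]
        exact hgβ'
      · rw [hΦ, hΦ]
        simp only [OneMemClass.coe_one, map_one, mul_one]
        rw [hgB, RingHom.comp_apply, RingHom.comp_apply, ← map_mul, ← hl,
          div_mul_cancel₀ _ (fun h0 => hβ'0 (IsFractionRing.injective B L (by rw [h0, map_zero])))]
    | add x y _ _ hx hy =>
      obtain ⟨a₁, b₁, hb₁, e₁⟩ := hx
      obtain ⟨a₂, b₂, hb₂, e₂⟩ := hy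
      refine ⟨a₁ * b₂ + a₂ * b₁, b₁ * b₂, ?_, ?_⟩
      · rw [map_mul]; exact mul_ne_zero hb₁ hb₂
      · rw [map_add, map_mul, map_mul, map_mul, ← e₁, ← e₂]
        ring
    | mul x y _ _ hx hy =>
      obtain ⟨a₁, b₁, hb₁, e₁⟩ := hx
      obtain ⟨a₂, b₂, hb₂, e₂⟩ := hy
      refine ⟨a₁ * a₂, b₁ * b₂, ?_, ?_⟩
      · rw [map_mul]; exact mul_ne_zero hb₁ hb₂
      · rw [map_mul, map_mul, ← e₁, ← e₂]
        ring
  obtain ⟨πA, hπA⟩ := IsDiscreteValuationRing.exists_irreducible A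
  -- the quotient `E` and its von Neumann regularity
  let J : Ideal (B ⊗[A] V₁) := Ideal.span {(1 : B) ⊗ₜ[A] π₁}
  let incB : B →+* (B ⊗[A] V₁) ⧸ J :=
    (Ideal.Quotient.mk J).comp Algebra.TensorProduct.includeLeftRingHom
  let inc₁ : V₁ →+* (B ⊗[A] V₁) ⧸ J :=
    (Ideal.Quotient.mk J).comp (Algebra.TensorProduct.includeRight : V₁ →ₐ[A] B ⊗[A] V₁).toRingHom
  have hincB : ∀ b : B, incB b = Ideal.Quotient.mk J (b ⊗ₜ 1) := fun b => rfl
  have hinc₁ : ∀ v : V₁, inc₁ v = Ideal.Quotient.mk J (1 ⊗ₜ v) := fun v => rfl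
  have hk₁ : ∀ v ∈ maximalIdeal V₁, inc₁ v = 0 := by
    intro v hv
    rw [hπ₁] at hv
    obtain ⟨c, rfl⟩ := Ideal.mem_span_singleton'.mp hv
    rw [hinc₁, Ideal.Quotient.eq_zero_iff_mem]
    apply Ideal.mem_span_singleton'.mpr
    refine ⟨1 ⊗ₜ c, ?_⟩
    rw [Algebra.TensorProduct.tmul_mul_tmul, one_mul]
  have hπAV : algebraMap A V₁ πA ∈ maximalIdeal V₁ := by
    rw [mem_maximalIdeal]
    intro hu
    exact hπA.not_isUnit (isUnit_of_map_unit (algebraMap A V₁) πA hu)
  have hkB : ∀ b ∈ maximalIdeal B, incB b = 0 := by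
    intro b hb
    unfold EtRam.IsWeaklyUnramified at hw
    rw [← hw, hπA.maximalIdeal_eq, Ideal.map_span, Set.image_singleton] at hb
    obtain ⟨β, rfl⟩ := Ideal.mem_span_singleton'.mp hb
    rw [hincB]
    have h1 : (β * algebraMap A B πA) ⊗ₜ[A] (1 : V₁) =
        (β ⊗ₜ[A] (1 : V₁)) * ((1 : B) ⊗ₜ[A] algebraMap A V₁ πA) := by
      rw [Algebra.TensorProduct.tmul_mul_tmul, mul_one, one_mul,
        Algebra.algebraMap_eq_smul_one (A := V₁) πA, TensorProduct.tmul_smul,
        TensorProduct.smul_tmul', Algebra.smul_def, mul_comm]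
    rw [h1, map_mul]
    have h2 := hk₁ _ hπAV
    rw [hinc₁] at h2
    rw [h2, mul_zero]
  let χB : ResidueField B →+* (B ⊗[A] V₁) ⧸ J := Ideal.Quotient.lift (maximalIdeal B) incB hkB
  let χ₁ : ResidueField V₁ →+* (B ⊗[A] V₁) ⧸ J := Ideal.Quotient.lift (maximalIdeal V₁) inc₁ hk₁
  have hχB : ∀ b : B, χB (residue B b) = Ideal.Quotient.mk J (b ⊗ₜ 1) := fun b => rfl
  have hχ₁ : ∀ v : V₁, χ₁ (residue V₁ v) = Ideal.Quotient.mk J (1 ⊗ₜ v) := fun v => rfl
  have hχcompat : ∀ c : ResidueField A, χB (algebraMap (ResidueField A) (ResidueField B) c) =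
      χ₁ (algebraMap (ResidueField A) (ResidueField V₁) c) := by
    intro c
    obtain ⟨a, rfl⟩ := residue_surjective c
    rw [ResidueField.algebraMap_residue, ResidueField.algebraMap_residue, hχB, hχ₁]
    congr 1
    rw [Algebra.algebraMap_eq_smul_one, Algebra.algebraMap_eq_smul_one (A := V₁),
      TensorProduct.smul_tmul]
  have hgenE : ∀ e : (B ⊗[A] V₁) ⧸ J, e ∈ Subring.closure (Set.range χB ∪ Set.range χ₁) := by
    intro e
    obtain ⟨r, rfl⟩ := Ideal.Quotient.mk_surjective e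
    induction r using TensorProduct.induction_on with
    | zero => rw [map_zero]; exact Subring.zero_mem _
    | add x y hx hy => rw [map_add]; exact Subring.add_mem _ hx hy
    | tmul b v =>
      have h1 : b ⊗ₜ[A] v = (b ⊗ₜ[A] (1 : V₁)) * ((1 : B) ⊗ₜ[A] v) := by
        rw [Algebra.TensorProduct.tmul_mul_tmul, mul_one, one_mul]
      rw [h1, map_mul, ← hχB, ← hχ₁]
      apply Subring.mul_mem
      · exact Subring.subset_closure (Or.inl ⟨_, rfl⟩)
      · exact Subring.subset_closure (Or.inr ⟨_, rfl⟩)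
  have hvnr := vnr_of_generated (ResidueField A) (ResidueField B) (ResidueField V₁) χB χ₁
    hχcompat hgenE
  have hvnr' : ∀ t : B ⊗[A] V₁, ∃ y : B ⊗[A] V₁, t * (1 - t * y) ∈ J := by
    intro t
    obtain ⟨y, hy⟩ := hvnr (Ideal.Quotient.mk J t)
    obtain ⟨y', rfl⟩ := Ideal.Quotient.mk_surjective y
    refine ⟨y', ?_⟩
    rw [← Ideal.Quotient.eq_zero_iff_mem, map_mul, map_sub, map_one, map_mul, mul_sub, mul_one,
      ← mul_assoc, ← hy, sub_self]
  -- the prime `𝔑`
  let φW : B ⊗[A] V₁ →+* W := RingHom.codRestrict Φ.toRingHom W hΦW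
  have hφW : ∀ t, ((φW t : W) : M) = Φ t := fun t => rfl
  let 𝔑 : Ideal (B ⊗[A] V₁) := (maximalIdeal W).comap φW
  haveI h𝔑prime : 𝔑.IsPrime := Ideal.comap_isPrime _ _
  have hmem𝔑 : ∀ t, t ∈ 𝔑 ↔ φW t ∈ maximalIdeal W := fun t => Iff.rfl
  have hπ𝔑 : (1 : B) ⊗ₜ[A] π₁ ∈ 𝔑 := by
    rw [hmem𝔑, ValuationSubring.valuation_lt_one_iff, hφW, hΦ, map_one, one_mul]
    exact hV₁val π₁ hπ₁m
  have hJ𝔑 : J ≤ 𝔑 := by
    rw [Ideal.span_le, Set.singleton_subset_iff]
    exact hπ𝔑
  have h1𝔑 : (1 : B ⊗[A] V₁) ∉ 𝔑 := (Ideal.ne_top_iff_one _).mp h𝔑prime.ne_top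
  have h𝔑 : ∀ t ∈ 𝔑, ∃ s, s ∉ 𝔑 ∧ s * t ∈ J := by
    intro t ht
    obtain ⟨y, hy⟩ := hvnr' t
    refine ⟨1 - t * y, ?_, by rw [mul_comm]; exact hy⟩
    intro hs
    apply h1𝔑
    have : (1 : B ⊗[A] V₁) = (1 - t * y) + t * y := by ring
    rw [this]
    exact Ideal.add_mem _ hs (Ideal.mul_mem_right _ _ ht)
  have h𝔑' : ∀ s, s ∉ 𝔑 → ∃ y, 1 - s * y ∈ 𝔑 := by
    intro s hs
    obtain ⟨y, hy⟩ := hvnr' s
    refine ⟨y, ?_⟩
    exact (h𝔑prime.mem_or_mem (hJ𝔑 hy)).resolve_left hs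
  -- the localization
  have hunits : ∀ s : 𝔑.primeCompl, IsUnit (φW s) := by
    intro s
    by_contra hnu
    exact s.2 ((hmem𝔑 _).mpr ((mem_maximalIdeal _).mpr hnu))
  let T := Localization.AtPrime 𝔑
  let ψ : T →+* W := IsLocalization.lift (M := 𝔑.primeCompl) (g := φW) hunits
  have hψ : ∀ t, ψ (algebraMap (B ⊗[A] V₁) T t) = φW t := fun t => IsLocalization.lift_eq _ t
  have hmT : maximalIdeal T = Ideal.span {algebraMap (B ⊗[A] V₁) T (1 ⊗ₜ π₁)} := by
    apply le_antisymm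
    · rw [← Localization.AtPrime.map_eq_maximalIdeal, Ideal.map_le_iff_le_comap]
      intro a ha
      obtain ⟨s, hs, hsa⟩ := h𝔑 a ha
      obtain ⟨d, hd⟩ := Ideal.mem_span_singleton'.mp hsa
      show algebraMap (B ⊗[A] V₁) T a ∈ Ideal.span {algebraMap (B ⊗[A] V₁) T (1 ⊗ₜ π₁)}
      have hu : IsUnit (algebraMap (B ⊗[A] V₁) T s) :=
        IsLocalization.map_units T (⟨s, hs⟩ : 𝔑.primeCompl)
      obtain ⟨sinv, hsinv⟩ := hu.exists_left_inv
      have h2 : algebraMap (B ⊗[A] V₁) T a =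
          (sinv * algebraMap (B ⊗[A] V₁) T d) * algebraMap (B ⊗[A] V₁) T (1 ⊗ₜ π₁) := by
        calc algebraMap (B ⊗[A] V₁) T a
            = (sinv * algebraMap (B ⊗[A] V₁) T s) * algebraMap (B ⊗[A] V₁) T a := by
              rw [hsinv, one_mul]
          _ = sinv * algebraMap (B ⊗[A] V₁) T (s * a) := by rw [map_mul]; ring
          _ = sinv * algebraMap (B ⊗[A] V₁) T (d * (1 ⊗ₜ π₁)) := by rw [hd]
          _ = _ := by rw [map_mul]; ring
      rw [h2]
      exact Ideal.mul_mem_left _ _ (Ideal.mem_span_singleton_self _)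
    · rw [Ideal.span_le, Set.singleton_subset_iff]
      exact (IsLocalization.AtPrime.to_map_mem_maximal_iff T 𝔑 _).mpr hπ𝔑
  have hfracT : ∀ x : M, ∃ a b : T, ((ψ b : W) : M) ≠ 0 ∧
      x * ((ψ b : W) : M) = ((ψ a : W) : M) := by
    intro x
    obtain ⟨a, b, hb0, hab⟩ := hfrac x
    refine ⟨algebraMap _ T a, algebraMap _ T b, ?_, ?_⟩
    · rw [hψ, hφW]
      exact hb0
    · rw [hψ, hψ, hφW, hφW]
      exact hab
  have hϖval : W.valuation (algebraMap K₁ M (π₁ : K₁)) < 1 := hV₁val π₁ hπ₁m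
  have hψπ : ((ψ (algebraMap (B ⊗[A] V₁) T (1 ⊗ₜ π₁)) : W) : M) = algebraMap K₁ M (π₁ : K₁) := by
    rw [hψ, hφW, hΦ, map_one, one_mul]
  have hsurj : Function.Surjective ψ :=
    core_surjective' (algebraMap (B ⊗[A] V₁) T (1 ⊗ₜ π₁)) hmT W ψ (by rw [hψπ]; exact hϖval)
      (by rw [hψπ]; exact harch) hfracT
  refine ⟨?_, ?_⟩
  · intro x hxW hxv
    have hxm : (⟨x, hxW⟩ : W) ∈ maximalIdeal W := by
      rw [ValuationSubring.valuation_lt_one_iff]
      exact hxv
    obtain ⟨y, hy⟩ := hsurj ⟨x, hxW⟩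
    have hym : y ∈ maximalIdeal T := by
      rw [mem_maximalIdeal]
      intro hyu
      exact ((mem_maximalIdeal _).mp hxm) (hy ▸ hyu.map ψ)
    rw [hmT] at hym
    obtain ⟨d, rfl⟩ := Ideal.mem_span_singleton'.mp hym
    refine ⟨((ψ d : W) : M), (ψ d).2, ?_⟩
    have := congrArg (fun z : W => (z : M)) hy
    simp only [map_mul] at this
    rw [← this, ← hψπ, mul_comm]
    rfl
  · intro w hwW
    obtain ⟨y, hy⟩ := hsurj ⟨w, hwW⟩
    obtain ⟨r, s, rfl⟩ := IsLocalization.exists_mk'_eq 𝔑.primeCompl y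
    have h1 : ψ (IsLocalization.mk' T r s) * φW s = φW r := by
      rw [← hψ, ← map_mul, IsLocalization.mk'_spec, hψ]
    rw [hy] at h1
    have h2 : w * Φ s = Φ r := by
      have := congrArg (fun z : W => (z : M)) h1
      exact this
    obtain ⟨y', hy'⟩ := h𝔑' s s.2
    refine ⟨Φ (r * y'), hΦcl _, ?_⟩
    have h3 : W.valuation (Φ (1 - s * y')) < 1 := by
      have := (hmem𝔑 _).mp hy'
      rw [ValuationSubring.valuation_lt_one_iff, hφW] at this
      exact this
    have h4 : Φ (r * y') - w = - (w * Φ (1 - s * y')) := by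
      rw [map_mul, ← h2, map_sub, map_one, map_mul]
      ring
    rw [h4, Valuation.map_neg, map_mul]
    have h5 : W.valuation w ≤ 1 := (W.valuation_le_one_iff _).mpr hwW
    calc W.valuation w * W.valuation (Φ (1 - s * y'))
        ≤ 1 * W.valuation (Φ (1 - s * y')) := mul_le_mul_left h5 _
      _ = W.valuation (Φ (1 - s * y')) := one_mul _
      _ < 1 := h3

end Groth.Agent.Lib.GRedH8
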