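import Mathlib
import Groth.Prelude.Def_EtRam
import Groth.Agent.Lib.GRedDvr2_helper8

/-!
# Geometric reducedness of a field generated by a geometrically reduced extension (helper8)
-/

set_option autoImplicit false
universe u

namespace Groth.Agent.Lib.GRedH8

open IsLocalRing TensorProduct

/-- If `kB / kA` is geometrically reduced, `k₁ / kA` is algebraic and the field `kW ⊇ k₁` is
generated as a ring by the images of `kB` and `k₁` (compatibly over `kA`), then `kW / k₁` is
geometrically reduced. -/
theorem geomRed_of_generated (kA kB k₁ kW : Type u) [Field kA] [Field kB] [Field k₁] [Field kW]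
    [Algebra kA kB] [Algebra kA k₁] [Algebra k₁ kW] [Algebra.IsAlgebraic kA k₁]
    [Algebra.IsGeometricallyReduced kA kB] (ι : kB →+* kW)
    (hcompat : ∀ c : kA, ι (algebraMap kA kB c) = algebraMap k₁ kW (algebraMap kA k₁ c))
    (hgen : ∀ w : kW, w ∈ Subring.closure (Set.range ι ∪ Set.range (algebraMap k₁ kW))) :
    Algebra.IsGeometricallyReduced k₁ kW := by
  rw [Algebra.isGeometricallyReduced_field_iff]
  haveI : Algebra.IsAlgebraic kA (AlgebraicClosure k₁) :=
    Algebra.IsAlgebraic.trans kA k₁ (AlgebraicClosure k₁)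
  let χB : kB →+* AlgebraicClosure k₁ ⊗[k₁] kW :=
    (Algebra.TensorProduct.includeRight :
      kW →ₐ[k₁] AlgebraicClosure k₁ ⊗[k₁] kW).toRingHom.comp ι
  let χF : AlgebraicClosure k₁ →+* AlgebraicClosure k₁ ⊗[k₁] kW :=
    Algebra.TensorProduct.includeLeftRingHom
  have hχB : ∀ b, χB b = 1 ⊗ₜ ι b := fun b => rfl
  have hχF : ∀ ω, χF ω = ω ⊗ₜ 1 := fun ω => rfl
  have hk₁ : ∀ c : k₁, (1 : AlgebraicClosure k₁) ⊗ₜ[k₁] (algebraMap k₁ kW c) =
      (algebraMap k₁ (AlgebraicClosure k₁) c) ⊗ₜ[k₁] (1 : kW) := by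
    intro c
    rw [Algebra.algebraMap_eq_smul_one, Algebra.algebraMap_eq_smul_one (A := AlgebraicClosure k₁),
      TensorProduct.smul_tmul]
  apply isReduced_of_vnr
  apply vnr_of_generated kA kB (AlgebraicClosure k₁) χB χF
  · intro c
    rw [hχB, hχF, hcompat, hk₁, ← IsScalarTower.algebraMap_apply]
  · intro z
    have hright : ∀ w : kW, (1 : AlgebraicClosure k₁) ⊗ₜ[k₁] w ∈
        Subring.closure (Set.range χB ∪ Set.range χF) := by
      intro w
      have hw := hgen w
      induction hw using Subring.closure_induction with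
      | mem w hw =>
        rcases hw with ⟨b, rfl⟩ | ⟨c, rfl⟩
        · exact Subring.subset_closure (Or.inl ⟨b, rfl⟩)
        · rw [hk₁]
          exact Subring.subset_closure (Or.inr ⟨_, rfl⟩)
      | zero => rw [TensorProduct.tmul_zero]; exact Subring.zero_mem _
      | one => exact Subring.one_mem _
      | add x y _ _ hx hy => rw [TensorProduct.tmul_add]; exact Subring.add_mem _ hx hy
      | neg x _ hx => rw [TensorProduct.tmul_neg]; exact Subring.neg_mem _ hx
      | mul x y _ _ hx hy =>
        have : (1 : AlgebraicClosure k₁) ⊗ₜ[k₁] (x * y) = (1 ⊗ₜ x) * (1 ⊗ₜ y) := by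
          rw [Algebra.TensorProduct.tmul_mul_tmul, one_mul]
        rw [this]
        exact Subring.mul_mem _ hx hy
    induction z using TensorProduct.induction_on with
    | zero => exact Subring.zero_mem _
    | add x y hx hy => exact Subring.add_mem _ hx hy
    | tmul ω w =>
      have : ω ⊗ₜ[k₁] w = (ω ⊗ₜ[k₁] (1 : kW)) * ((1 : AlgebraicClosure k₁) ⊗ₜ[k₁] w) := by
        rw [Algebra.TensorProduct.tmul_mul_tmul, mul_one, one_mul]
      rw [this]
      apply Subring.mul_mem _ _ (hright w)
      exact Subring.subset_closure (Or.inr ⟨ω, rfl⟩)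

end Groth.Agent.Lib.GRedH8
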