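import Mathlib
import Groth.Prelude.Def_EtRam
import Groth.Agent.Lib.DvrExt3_helper8
import Groth.Agent.Lib.DvrExt4_helper8
import Groth.Agent.Lib.GRedDvr4_helper8
import Groth.Agent.Lib.GRedDvr5_helper8
import Groth.Agent.Lib.GRedDvr6_helper8
import Groth.Agent.Lib.GRedDvr7_helper8

/-!
# Weakly unramified extensions with separable residue extension: every finite extension is a
solution (helper8)
-/

set_option autoImplicit false
universe u

namespace Groth.Agent.Lib.GRedH8

open IsLocalRing TensorProduct DvrExtH8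

/-- Elementwise criterion for weak unramifiedness of `W ∩ K₁ → W`. -/
theorem isWeaklyUnramified_comap_of_forall' {K₁ Ω : Type u} [Field K₁] [Field Ω] (f : K₁ →+* Ω)
    (W : ValuationSubring Ω) (t : K₁) (ht1 : W.valuation (f t) < 1)
    (h : ∀ x ∈ W, W.valuation x < 1 → ∃ y ∈ W, x = f t * y) :
    letI : Algebra (W.comap f) W := (EtRam.inclOfComap W f).toAlgebra
    EtRam.IsWeaklyUnramified (W.comap f) W := by
  letI : Algebra (W.comap f) W := (EtRam.inclOfComap W f).toAlgebra
  show Ideal.map (algebraMap (W.comap f) W) (maximalIdeal _) = maximalIdeal W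
  apply le_antisymm
  · rw [Ideal.map_le_iff_le_comap]
    intro v hv
    show algebraMap (W.comap f) W v ∈ maximalIdeal W
    rw [mem_maximalIdeal] at hv ⊢
    intro hu
    exact hv (isUnit_of_map_unit (EtRam.inclOfComap W f) v hu)
  · intro x hx
    have hxv : W.valuation (x : Ω) < 1 := (ValuationSubring.valuation_lt_one_iff W x).mp hx
    obtain ⟨y, hy, hxy⟩ := h (x : Ω) x.2 hxv
    have htW : f t ∈ W := (W.valuation_le_one_iff _).mp ht1.le
    have htm : (⟨t, htW⟩ : W.comap f) ∈ maximalIdeal (W.comap f) := by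
      rw [ValuationSubring.valuation_lt_one_iff]
      rw [← ValuationSubring.mem_nonunits_iff, ValuationSubring.mem_nonunits_iff_or,
        ValuationSubring.mem_comap, map_inv₀]
      have h1 : f t ∈ W.nonunits := (W.mem_nonunits_iff).mpr ht1
      rw [ValuationSubring.mem_nonunits_iff_or] at h1
      rcases h1 with h1 | h1
      · left; exact (map_eq_zero f).mp h1
      · right; exact h1
    have : x = algebraMap (W.comap f) W ⟨t, htW⟩ * ⟨y, hy⟩ := Subtype.ext hxy
    rw [this]
    exact Ideal.mul_mem_right _ _ (Ideal.mem_map_of_mem _ htm)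

set_option maxHeartbeats 1600000 in
theorem solution_local (A B K L : Type u) [CommRing A] [IsDomain A] [IsDiscreteValuationRing A]
    [CommRing B] [IsDomain B] [IsDiscreteValuationRing B] [Algebra A B]
    [IsLocalHom (algebraMap A B)]
    [Field K] [Field L] [Algebra A K] [IsFractionRing A K] [Algebra B L] [IsFractionRing B L]
    [Algebra K L] [Algebra A L] [IsScalarTower A K L] [IsScalarTower A B L]
    (hw : EtRam.IsWeaklyUnramified A B)
    [Algebra.IsGeometricallyReduced (ResidueField A) (ResidueField B)]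
    (K₁ : Type u) [Field K₁] [Algebra K K₁] [FiniteDimensional K K₁]
    (M : Type u) [Field M] [Algebra K M] [Algebra L M] [Algebra K₁ M] [IsScalarTower K L M]
    [IsScalarTower K K₁ M]
    (hgen : Algebra.adjoin L (Set.range (algebraMap K₁ M)) = ⊤)
    (W : ValuationSubring M)
    (hdW : EtRam.Dominates B ((algebraMap L M).comp (algebraMap B L)) W) :
    letI : Algebra (W.comap (algebraMap K₁ M)) W :=
      (EtRam.inclOfComap W (algebraMap K₁ M)).toAlgebra
    EtRam.IsWeaklyUnramified (W.comap (algebraMap K₁ M)) W ∧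
      @Algebra.IsGeometricallyReduced (ResidueField (W.comap (algebraMap K₁ M))) (ResidueField W)
        _ _ (ResidueField.map (EtRam.inclOfComap W (algebraMap K₁ M))).toAlgebra := by
  classical
  obtain ⟨gB, hgB⟩ : ∃ gB : B →+* M, gB = (algebraMap L M).comp (algebraMap B L) := ⟨_, rfl⟩
  obtain ⟨gA, hgA⟩ : ∃ gA : A →+* K₁, gA = (algebraMap K K₁).comp (algebraMap A K) := ⟨_, rfl⟩
  obtain ⟨V₁, hV₁⟩ : ∃ V₁ : ValuationSubring K₁, V₁ = W.comap (algebraMap K₁ M) := ⟨_, rfl⟩
  have hcompat : ∀ a : A, gB (algebraMap A B a) = algebraMap K₁ M (gA a) := by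
    intro a
    rw [hgB, hgA]
    show algebraMap L M (algebraMap B L (algebraMap A B a)) =
      algebraMap K₁ M (algebraMap K K₁ (algebraMap A K a))
    rw [← IsScalarTower.algebraMap_apply K K₁ M, ← IsScalarTower.algebraMap_apply A B L,
      IsScalarTower.algebraMap_apply A K L, ← IsScalarTower.algebraMap_apply K L M]
  have hdW' : EtRam.Dominates B gB W := by rw [hgB]; exact hdW
  have hdA : EtRam.Dominates A (gB.comp (algebraMap A B)) W := by
    refine ⟨fun a => hdW'.1 _, fun a ha => hdW'.2 _ ?_⟩
    rw [mem_maximalIdeal] at ha ⊢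
    intro hu
    exact ha (isUnit_of_map_unit (algebraMap A B) a hu)
  have hdV₁ : EtRam.Dominates A gA V₁ := by
    rw [hV₁]
    exact dominates_of_comap gA (algebraMap K₁ M) W (gB.comp (algebraMap A B)) hcompat hdA
  letI : Algebra A V₁ := (RingHom.codRestrict gA V₁ hdV₁.1).toAlgebra
  haveI : IsLocalHom (algebraMap A V₁) := isLocalHom_of_dominates gA V₁ hdV₁
  have hcompat₁ : ∀ a : A, ((algebraMap A V₁ a : V₁) : K₁) =
      algebraMap K K₁ (algebraMap A K a) := by
    intro a
    show gA a = _
    rw [hgA]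
    rfl
  haveI : FiniteDimensional L M := finiteDimensional_of_adjoin K L K₁ M hgen
  haveI : IsNoetherianRing W := isNoetherianRing_valuationSubring L M W hdW.1
  haveI : IsNoetherianRing V₁ := isNoetherianRing_valuationSubring K K₁ V₁
    (fun a => by have := hdV₁.1 a; rw [hgA] at this; exact this)
  obtain ⟨π₁, hπ₁⟩ := exists_uniformizer V₁
  haveI : Algebra.IsAlgebraic (ResidueField A) (ResidueField V₁) :=
    residue_isAlgebraic K K₁ V₁ hcompat₁
  have hπ₁m : π₁ ∈ maximalIdeal V₁ := by
    rw [hπ₁]
    exact Ideal.mem_span_singleton_self _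
  have hlt : W.valuation (algebraMap K₁ M (π₁ : K₁)) < 1 := by
    rw [ValuationSubring.valuation_lt_one_iff] at hπ₁m
    have h1 : (W.comap (algebraMap K₁ M)).valuation (π₁ : K₁) < 1 := by
      rw [← hV₁]
      exact hπ₁m
    exact (comap_valuation_lt_one_iff _ W _).mp h1
  have harch : ∀ y : M, y ∈ W → y ≠ 0 →
      ∃ n : ℕ, W.valuation (algebraMap K₁ M (π₁ : K₁)) ^ n < W.valuation y :=
    fun y hy hy0 => arch_of_noetherian W _ hlt y hy hy0
  obtain ⟨h1, h2⟩ := tensor_core A B K L K₁ hw V₁ hcompat₁ π₁ hπ₁ M hgen W hdW hV₁ harch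
  rw [← hgB] at h2
  subst hV₁
  refine ⟨isWeaklyUnramified_comap_of_forall' (algebraMap K₁ M) W (π₁ : K₁) hlt h1, ?_⟩
  -- geometric reducedness
  haveI : IsLocalHom (RingHom.codRestrict gB W hdW'.1) := isLocalHom_of_dominates gB W hdW'
  let ι : ResidueField B →+* ResidueField W := ResidueField.map (RingHom.codRestrict gB W hdW'.1)
  let incl := EtRam.inclOfComap W (algebraMap K₁ M)
  letI : Algebra (ResidueField (W.comap (algebraMap K₁ M))) (ResidueField W) :=
    (ResidueField.map incl).toAlgebra
  apply geomRed_of_generated (ResidueField A) (ResidueField B)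
    (ResidueField (W.comap (algebraMap K₁ M))) (ResidueField W) ι
  · intro c
    obtain ⟨a, rfl⟩ := residue_surjective c
    rw [ResidueField.algebraMap_residue, ResidueField.algebraMap_residue]
    show ResidueField.map _ (residue B _) = ResidueField.map incl (residue _ _)
    rw [ResidueField.map_residue, ResidueField.map_residue]
    congr 1
    apply Subtype.ext
    exact hcompat a
  · intro wbar
    obtain ⟨w, rfl⟩ := residue_surjective wbar
    obtain ⟨z, hz, hzw⟩ := h2 (w : M) w.2
    have key : ∀ z : M, z ∈ Subring.closure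
        (Set.range gB ∪ (algebraMap K₁ M) '' ((W.comap (algebraMap K₁ M) : ValuationSubring K₁) : Set K₁)) →
        ∃ hz : z ∈ W, residue W ⟨z, hz⟩ ∈ Subring.closure (Set.range ι ∪
          Set.range (algebraMap (ResidueField (W.comap (algebraMap K₁ M))) (ResidueField W))) := by
      intro z hz
      induction hz using Subring.closure_induction with
      | mem z hz =>
        rcases hz with ⟨b, rfl⟩ | ⟨v, hv, rfl⟩
        · refine ⟨hdW'.1 b, Subring.subset_closure (Or.inl ⟨residue B b, ?_⟩)⟩
          show ResidueField.map _ (residue B b) = _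
          rw [ResidueField.map_residue]
          rfl
        · refine ⟨hv, Subring.subset_closure (Or.inr ⟨residue _ ⟨v, hv⟩, ?_⟩)⟩
          show ResidueField.map incl (residue _ _) = _
          rw [ResidueField.map_residue]
          rfl
      | zero => exact ⟨W.zero_mem, by
          have : (⟨0, W.zero_mem⟩ : W) = 0 := rfl
          rw [this, map_zero]; exact Subring.zero_mem _⟩
      | one => exact ⟨W.one_mem, by
          have : (⟨1, W.one_mem⟩ : W) = 1 := rfl
          rw [this, map_one]; exact Subring.one_mem _⟩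
      | add x y _ _ hx hy =>
        obtain ⟨hx1, hx2⟩ := hx
        obtain ⟨hy1, hy2⟩ := hy
        refine ⟨W.add_mem _ _ hx1 hy1, ?_⟩
        have : (⟨x + y, W.add_mem _ _ hx1 hy1⟩ : W) = ⟨x, hx1⟩ + ⟨y, hy1⟩ := rfl
        rw [this, map_add]
        exact Subring.add_mem _ hx2 hy2
      | neg x _ hx =>
        obtain ⟨hx1, hx2⟩ := hx
        refine ⟨W.neg_mem _ hx1, ?_⟩
        have : (⟨-x, W.neg_mem _ hx1⟩ : W) = -⟨x, hx1⟩ := rfl
        rw [this, map_neg]
        exact Subring.neg_mem _ hx2
      | mul x y _ _ hx hy =>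
        obtain ⟨hx1, hx2⟩ := hx
        obtain ⟨hy1, hy2⟩ := hy
        refine ⟨W.mul_mem _ _ hx1 hy1, ?_⟩
        have : (⟨x * y, W.mul_mem _ _ hx1 hy1⟩ : W) = ⟨x, hx1⟩ * ⟨y, hy1⟩ := rfl
        rw [this, map_mul]
        exact Subring.mul_mem _ hx2 hy2
    obtain ⟨hzW, hzcl⟩ := key z hz
    have heq : residue W w = residue W ⟨z, hzW⟩ := by
      rw [← sub_eq_zero, ← map_sub, residue_eq_zero_iff, ValuationSubring.valuation_lt_one_iff]
      have : ((w - ⟨z, hzW⟩ : W) : M) = -(z - (w : M)) := by
        show (w : M) - z = _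
        ring
      rw [this, Valuation.map_neg]
      exact hzw
    rw [heq]
    exact hzcl

end Groth.Agent.Lib.GRedH8
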