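import Mathlib
import Groth.Prelude.Def_EtRam
import Groth.Agent.Lib.DvrExt3_helper8
import Groth.Agent.Lib.DvrExt4_helper8
import Groth.Agent.Lib.DvrExt6_helper8
import Groth.Agent.Lib.GRedDvr4_helper8
import Groth.Agent.Lib.GRedDvr5_helper8
import Groth.Agent.Lib.GRedDvr8_helper8
import Groth.Agent.Lib.PerfectGR_helper3
import Groth.Agent.Lib.AbhLem4_helper8

/-!
# Abhyankar's lemma (helper8)
-/

set_option autoImplicit false
universe u

namespace Groth.Agent.Lib.AbhH8

open IsLocalRing TensorProduct DvrExtH8 Groth.Agent.Lib.GRedH8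

/-- Computation of the ramification index from a factorisation of the uniformizer. -/
theorem ramificationIdx'_eq {A S : Type u} [CommRing A] [IsLocalRing A] [CommRing S] [IsDomain S]
    [IsLocalRing S] [Algebra A S] (πA : A) (hπA : maximalIdeal A = Ideal.span {πA}) (ϖ : S)
    (hϖ : maximalIdeal S = Ideal.span {ϖ}) (hϖ0 : ϖ ≠ 0) (u : S) (hu : IsUnit u) (n : ℕ)
    (h : algebraMap A S πA = u * ϖ ^ n) :
    Ideal.ramificationIdx' (maximalIdeal A) (maximalIdeal S) = n := by
  have hmap : Ideal.map (algebraMap A S) (maximalIdeal A) = Ideal.span {u * ϖ ^ n} := by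
    rw [hπA, Ideal.map_span, Set.image_singleton, h]
  apply Ideal.ramificationIdx'_spec
  · rw [hmap, hϖ, Ideal.span_singleton_pow, Ideal.span_singleton_le_span_singleton]
    exact Dvd.intro_left u rfl
  · rw [hmap, hϖ, Ideal.span_singleton_pow, Ideal.span_singleton_le_span_singleton]
    rintro ⟨c, hc⟩
    have h1 : ϖ ^ n * u = ϖ ^ n * (ϖ * c) := by
      rw [mul_comm, hc, pow_succ]
      ring
    have h2 : u = ϖ * c := mul_left_cancel₀ (pow_ne_zero n hϖ0) h1
    have h3 : IsUnit ϖ := isUnit_of_mul_isUnit_left (h2 ▸ hu)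
    have h4 : ϖ ∈ maximalIdeal S := by
      rw [hϖ]
      exact Ideal.mem_span_singleton_self _
    exact (mem_maximalIdeal _).mp h4 h3

/-- The ramification index of an injective local homomorphism of DVRs is positive. -/
theorem ramificationIdx'_pos_of_dvr (A B : Type u) [CommRing A] [IsDomain A]
    [IsDiscreteValuationRing A] [CommRing B] [IsDomain B] [IsDiscreteValuationRing B]
    [Algebra A B] [IsLocalHom (algebraMap A B)] (hinj : Function.Injective (algebraMap A B)) :
    0 < Ideal.ramificationIdx' (maximalIdeal A) (maximalIdeal B) := by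
  obtain ⟨πA, hπA⟩ := IsDiscreteValuationRing.exists_irreducible A
  obtain ⟨πB, hπB⟩ := IsDiscreteValuationRing.exists_irreducible B
  have hπA0 : algebraMap A B πA ≠ 0 := fun h0 => hπA.ne_zero (hinj (by rw [h0, map_zero]))
  obtain ⟨e, u', hu'⟩ := IsDiscreteValuationRing.eq_unit_mul_pow_irreducible hπA0 hπB
  have he_eq : Ideal.ramificationIdx' (maximalIdeal A) (maximalIdeal B) = e :=
    ramificationIdx'_eq πA hπA.maximalIdeal_eq πB hπB.maximalIdeal_eq hπB.ne_zero (u' : B) u'.isUnit
      e hu'
  rw [he_eq]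
  rcases Nat.eq_zero_or_pos e with h0 | h0
  · exfalso
    rw [h0, pow_zero, mul_one] at hu'
    have h1 : IsUnit (algebraMap A B πA) := hu' ▸ u'.isUnit
    exact hπA.not_isUnit (isUnit_of_map_unit (algebraMap A B) πA h1)
  · exact h0

set_option maxHeartbeats 1600000 in
theorem abhyankar_local (A B K L : Type u) [CommRing A] [IsDomain A] [IsDiscreteValuationRing A]
    [CommRing B] [IsDomain B] [IsDiscreteValuationRing B] [Algebra A B]
    [IsLocalHom (algebraMap A B)]
    (hinj : Function.Injective (algebraMap A B))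
    [Field K] [Field L] [Algebra A K] [IsFractionRing A K] [Algebra B L] [IsFractionRing B L]
    [Algebra K L] [Algebra A L] [IsScalarTower A K L] [IsScalarTower A B L]
    [Algebra.IsGeometricallyReduced (ResidueField A) (ResidueField B)]
    (he : ((Ideal.ramificationIdx' (maximalIdeal A) (maximalIdeal B) : ℕ) : ResidueField A) ≠ 0)
    (K₁ : Type u) [Field K₁] [Algebra K K₁] [FiniteDimensional K K₁]
    (M : Type u) [Field M] [Algebra K M] [Algebra L M] [Algebra K₁ M] [IsScalarTower K L M]
    [IsScalarTower K K₁ M]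
    (hgen : Algebra.adjoin L (Set.range (algebraMap K₁ M)) = ⊤)
    (W : ValuationSubring M)
    (hdW : EtRam.Dominates B ((algebraMap L M).comp (algebraMap B L)) W)
    (hA : ∀ a : A, (algebraMap K K₁) (algebraMap A K a) ∈ W.comap (algebraMap K₁ M)) :
    letI : Algebra A (W.comap (algebraMap K₁ M)) :=
      (RingHom.codRestrict ((algebraMap K K₁).comp (algebraMap A K))
        (W.comap (algebraMap K₁ M)) hA).toAlgebra
    letI : Algebra (W.comap (algebraMap K₁ M)) W :=
      (EtRam.inclOfComap W (algebraMap K₁ M)).toAlgebra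
    Ideal.ramificationIdx' (maximalIdeal A) (maximalIdeal B) ∣
      Ideal.ramificationIdx' (maximalIdeal A) (maximalIdeal (W.comap (algebraMap K₁ M))) →
    EtRam.IsWeaklyUnramified (W.comap (algebraMap K₁ M)) W ∧
      @Algebra.IsGeometricallyReduced (ResidueField (W.comap (algebraMap K₁ M))) (ResidueField W)
        _ _ (ResidueField.map (EtRam.inclOfComap W (algebraMap K₁ M))).toAlgebra := by
  classical
  obtain ⟨gB, hgB⟩ : ∃ gB : B →+* M, gB = (algebraMap L M).comp (algebraMap B L) := ⟨_, rfl⟩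
  have hcompat : ∀ a : A, gB (algebraMap A B a) =
      algebraMap K₁ M (((algebraMap K K₁).comp (algebraMap A K)) a) := by
    intro a
    rw [hgB]
    show algebraMap L M (algebraMap B L (algebraMap A B a)) =
      algebraMap K₁ M (algebraMap K K₁ (algebraMap A K a))
    rw [← IsScalarTower.algebraMap_apply K K₁ M, ← IsScalarTower.algebraMap_apply A B L,
      IsScalarTower.algebraMap_apply A K L, ← IsScalarTower.algebraMap_apply K L M]
  have hdW' : EtRam.Dominates B gB W := by rw [hgB]; exact hdW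
  have hdA : EtRam.Dominates A (gB.comp (algebraMap A B)) W := by
    refine ⟨fun a => hdW'.1 _, fun a ha => hdW'.2 _ ?_⟩
    rw [mem_maximalIdeal] at ha ⊢
    intro hu
    exact ha (isUnit_of_map_unit (algebraMap A B) a hu)
  have hdV₁ : EtRam.Dominates A ((algebraMap K K₁).comp (algebraMap A K))
      (W.comap (algebraMap K₁ M)) :=
    dominates_of_comap _ (algebraMap K₁ M) W (gB.comp (algebraMap A B)) hcompat hdA
  letI : Algebra A (W.comap (algebraMap K₁ M)) :=
    (RingHom.codRestrict ((algebraMap K K₁).comp (algebraMap A K))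
      (W.comap (algebraMap K₁ M)) hA).toAlgebra
  haveI : IsLocalHom (algebraMap A (W.comap (algebraMap K₁ M))) :=
    isLocalHom_of_dominates _ (W.comap (algebraMap K₁ M)) hdV₁
  have hcompat₁ : ∀ a : A, ((algebraMap A (W.comap (algebraMap K₁ M)) a :
      (W.comap (algebraMap K₁ M))) : K₁) = algebraMap K K₁ (algebraMap A K a) := fun a => rfl
  haveI : FiniteDimensional L M := finiteDimensional_of_adjoin K L K₁ M hgen
  haveI : IsNoetherianRing W := isNoetherianRing_valuationSubring L M W hdW.1
  haveI : IsNoetherianRing (W.comap (algebraMap K₁ M)) :=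
    isNoetherianRing_valuationSubring K K₁ (W.comap (algebraMap K₁ M)) hA
  obtain ⟨π₁, hπ₁⟩ := exists_uniformizer (W.comap (algebraMap K₁ M))
  haveI : Algebra.IsAlgebraic (ResidueField A) (ResidueField (W.comap (algebraMap K₁ M))) :=
    residue_isAlgebraic K K₁ (W.comap (algebraMap K₁ M)) hcompat₁
  have hπ₁m : π₁ ∈ maximalIdeal (W.comap (algebraMap K₁ M)) := by
    rw [hπ₁]
    exact Ideal.mem_span_singleton_self _
  have hlt : W.valuation (algebraMap K₁ M (π₁ : K₁)) < 1 := by
    rw [ValuationSubring.valuation_lt_one_iff] at hπ₁m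
    exact (comap_valuation_lt_one_iff _ W _).mp hπ₁m
  have harch : ∀ y : M, y ∈ W → y ≠ 0 →
      ∃ n : ℕ, W.valuation (algebraMap K₁ M (π₁ : K₁)) ^ n < W.valuation y :=
    fun y hy hy0 => arch_of_noetherian W _ hlt y hy hy0
  -- uniformizers and ramification indices
  obtain ⟨πA, hπA⟩ := IsDiscreteValuationRing.exists_irreducible A
  obtain ⟨πB, hπB⟩ := IsDiscreteValuationRing.exists_irreducible B
  have hπA0 : algebraMap A B πA ≠ 0 := fun h0 => hπA.ne_zero (hinj (by rw [h0, map_zero]))
  obtain ⟨e, u', hu'⟩ := IsDiscreteValuationRing.eq_unit_mul_pow_irreducible hπA0 hπB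
  have he_eq : Ideal.ramificationIdx' (maximalIdeal A) (maximalIdeal B) = e :=
    ramificationIdx'_eq πA hπA.maximalIdeal_eq πB hπB.maximalIdeal_eq hπB.ne_zero (u' : B) u'.isUnit
      e hu'
  have he0 : 0 < e := by
    rcases Nat.eq_zero_or_pos e with h0 | h0
    · exfalso
      rw [h0, pow_zero, mul_one] at hu'
      have h1 : IsUnit (algebraMap A B πA) := hu' ▸ u'.isUnit
      exact hπA.not_isUnit (isUnit_of_map_unit (algebraMap A B) πA h1)
    · exact h0
  have hπAV0 : algebraMap A (W.comap (algebraMap K₁ M)) πA ≠ 0 := by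
    intro h0
    have h1 : ((algebraMap A (W.comap (algebraMap K₁ M)) πA : (W.comap (algebraMap K₁ M))) : K₁)
        = ((0 : (W.comap (algebraMap K₁ M))) : K₁) := by rw [h0]
    rw [hcompat₁] at h1
    have h2 : algebraMap A K πA = 0 := (map_eq_zero (algebraMap K K₁)).mp h1
    exact hπA.ne_zero (IsFractionRing.injective A K (by rw [h2, map_zero]))
  obtain ⟨n, u₁, hu₁, hn⟩ := DvrExtH8.exists_unit_mul_pow π₁ hπ₁ _ hπAV0
  have hπ₁0 : π₁ ≠ 0 := by
    intro h0
    rw [h0] at hn
    rcases Nat.eq_zero_or_pos n with hn0 | hn0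
    · rw [hn0, pow_zero, mul_one] at hn
      have h1 : IsUnit (algebraMap A (W.comap (algebraMap K₁ M)) πA) := hn ▸ hu₁
      exact hπA.not_isUnit (isUnit_of_map_unit (algebraMap A (W.comap (algebraMap K₁ M))) πA h1)
    · rw [zero_pow hn0.ne', mul_zero] at hn
      exact hπAV0 hn
  have hn_eq : Ideal.ramificationIdx' (maximalIdeal A) (maximalIdeal (W.comap (algebraMap K₁ M))) = n :=
    ramificationIdx'_eq πA hπA.maximalIdeal_eq π₁ hπ₁ hπ₁0 u₁ hu₁ n hn
  have hn0 : 0 < n := by
    rcases Nat.eq_zero_or_pos n with h0 | h0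
    · exfalso
      rw [h0, pow_zero, mul_one] at hn
      have h1 : IsUnit (algebraMap A (W.comap (algebraMap K₁ M)) πA) := hn ▸ hu₁
      exact hπA.not_isUnit (isUnit_of_map_unit (algebraMap A (W.comap (algebraMap K₁ M))) πA h1)
    · exact h0
  intro hdiv
  rw [he_eq, hn_eq] at hdiv
  obtain ⟨d, hd⟩ := hdiv
  have hd0 : 0 < d := by
    rcases Nat.eq_zero_or_pos d with h0 | h0
    · rw [h0, mul_zero] at hd
      omega
    · exact h0
  rw [he_eq] at he
  rw [hd] at hn
  obtain ⟨h1, hθW, hθ₂, h2⟩ := tensor_core_root A B K L K₁ (W.comap (algebraMap K₁ M)) hcompat₁ π₁ hπ₁ πA πB (u' : B)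
    hπB.maximalIdeal_eq hπB.ne_zero u'.isUnit e he0 hu' he u₁ hu₁ d hd0 hn M hgen W hdW rfl harch
  have hgB' : ∀ b : B, algebraMap L M (algebraMap B L b) = gB b := fun b => by rw [hgB]; rfl
  rw [← hgB] at h2
  rw [hgB'] at hθW hθ₂ h2
  rw [hgB'] at hθ₂
  obtain ⟨θ, hθ⟩ : ∃ θ : M, θ = algebraMap K₁ M (π₁ : K₁) ^ d / gB πB := ⟨_, rfl⟩
  rw [← hθ] at hθW hθ₂ h2
  refine ⟨isWeaklyUnramified_comap_of_forall' (algebraMap K₁ M) W (π₁ : K₁) hlt h1, ?_⟩
  -- geometric reducedness
  haveI : IsLocalHom (RingHom.codRestrict gB W hdW'.1) := isLocalHom_of_dominates gB W hdW'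
  let ι : ResidueField B →+* ResidueField W := ResidueField.map (RingHom.codRestrict gB W hdW'.1)
  let incl := EtRam.inclOfComap W (algebraMap K₁ M)
  letI : Algebra (ResidueField (W.comap (algebraMap K₁ M))) (ResidueField W) :=
    (ResidueField.map incl).toAlgebra
  apply geomRed_of_generated_root (ResidueField A) (ResidueField B)
    (ResidueField (W.comap (algebraMap K₁ M))) (ResidueField W) ι ?_ e he0 he
    (residue B (u' : B)) ((residue_ne_zero_iff_isUnit _).mpr u'.isUnit)
    (residue _ u₁) ((residue_ne_zero_iff_isUnit _).mpr hu₁) (residue W ⟨θ, hθW⟩) ?_ ?_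
  · intro c
    obtain ⟨a, rfl⟩ := residue_surjective c
    rw [ResidueField.algebraMap_residue, ResidueField.algebraMap_residue]
    show ResidueField.map _ (residue B _) = ResidueField.map incl (residue _ _)
    rw [ResidueField.map_residue, ResidueField.map_residue]
    congr 1
    apply Subtype.ext
    exact hcompat a
  · show ResidueField.map incl (residue _ u₁) * _ = ResidueField.map _ (residue B _)
    rw [ResidueField.map_residue, ResidueField.map_residue, ← map_pow, ← map_mul]
    congr 1
    apply Subtype.ext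
    exact hθ₂
  · intro wbar
    obtain ⟨w, rfl⟩ := residue_surjective wbar
    obtain ⟨z, hz, hzw⟩ := h2 (w : M) w.2
    have key : ∀ z : M, z ∈ Subring.closure
        (Set.range gB ∪ (algebraMap K₁ M) ''
          ((W.comap (algebraMap K₁ M) : ValuationSubring K₁) : Set K₁) ∪ {θ}) →
        ∃ hz : z ∈ W, residue W ⟨z, hz⟩ ∈ Subring.closure (Set.range ι ∪
          Set.range (algebraMap (ResidueField (W.comap (algebraMap K₁ M))) (ResidueField W)) ∪
          {residue W ⟨θ, hθW⟩}) := by
      intro z hz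
      induction hz using Subring.closure_induction with
      | mem z hz =>
        rcases hz with (⟨b, rfl⟩ | ⟨v, hv, rfl⟩) | hz
        · refine ⟨hdW'.1 b, Subring.subset_closure (Or.inl (Or.inl ⟨residue B b, ?_⟩))⟩
          show ResidueField.map _ (residue B b) = _
          rw [ResidueField.map_residue]
          rfl
        · refine ⟨hv, Subring.subset_closure (Or.inl (Or.inr ⟨residue _ ⟨v, hv⟩, ?_⟩))⟩
          show ResidueField.map incl (residue _ _) = _
          rw [ResidueField.map_residue]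
          rfl
        · rw [Set.mem_singleton_iff] at hz
          subst hz
          exact ⟨hθW, Subring.subset_closure (Or.inr rfl)⟩
      | zero => exact ⟨W.zero_mem, by
          have : (⟨0, W.zero_mem⟩ : W) = 0 := rfl
          rw [this, map_zero]; exact Subring.zero_mem _⟩
      | one => exact ⟨W.one_mem, by
          have : (⟨1, W.one_mem⟩ : W) = 1 := rfl
          rw [this, map_one]; exact Subring.one_mem _⟩
      | add x y _ _ hx hy =>
        obtain ⟨hx1, hx2⟩ := hx
        obtain ⟨hy1, hy2⟩ := hy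
        refine ⟨W.add_mem _ _ hx1 hy1, ?_⟩
        have : (⟨x + y, W.add_mem _ _ hx1 hy1⟩ : W) = ⟨x, hx1⟩ + ⟨y, hy1⟩ := rfl
        rw [this, map_add]
        exact Subring.add_mem _ hx2 hy2
      | neg x _ hx =>
        obtain ⟨hx1, hx2⟩ := hx
        refine ⟨W.neg_mem _ hx1, ?_⟩
        have : (⟨-x, W.neg_mem _ hx1⟩ : W) = -⟨x, hx1⟩ := rfl
        rw [this, map_neg]
        exact Subring.neg_mem _ hx2
      | mul x y _ _ hx hy =>
        obtain ⟨hx1, hx2⟩ := hx
        obtain ⟨hy1, hy2⟩ := hy
        refine ⟨W.mul_mem _ _ hx1 hy1, ?_⟩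
        have : (⟨x * y, W.mul_mem _ _ hx1 hy1⟩ : W) = ⟨x, hx1⟩ * ⟨y, hy1⟩ := rfl
        rw [this, map_mul]
        exact Subring.mul_mem _ hx2 hy2
    obtain ⟨hzW, hzcl⟩ := key z hz
    have heq : residue W w = residue W ⟨z, hzW⟩ := by
      rw [← sub_eq_zero, ← map_sub, residue_eq_zero_iff, ValuationSubring.valuation_lt_one_iff]
      have : ((w - ⟨z, hzW⟩ : W) : M) = -(z - (w : M)) := by
        show (w : M) - z = _
        ring
      rw [this, Valuation.map_neg]
      exact hzw
    rw [heq]
    exact hzcl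

end Groth.Agent.Lib.AbhH8
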