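import Mathlib

/-!
# Abhyankar's inequality for extensions of valued fields (helper3)
-/

set_option autoImplicit false
universe u
open MvPolynomial Cardinal

namespace Groth.Agent.Lib.AbhyankarH3

section SumLemma

variable {L Γ₁ : Type*} [Field L] [LinearOrderedCommGroupWithZero Γ₁] (vL : Valuation L Γ₁)

theorem sum_ne_zero_of_injOn {ι : Type*} (s : Finset ι) (hs : s.Nonempty) (T : ι → L)
    (h0 : ∀ i ∈ s, T i ≠ 0) (hinj : Set.InjOn (fun i => vL (T i)) (s : Set ι)) :
    ∑ i ∈ s, T i ≠ 0 := by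
  classical
  obtain ⟨i₀, hi₀, hmax⟩ := Finset.exists_max_image s (fun i => vL (T i)) hs
  have hne : vL (T i₀) ≠ 0 := (vL.ne_zero_iff).mpr (h0 i₀ hi₀)
  have hlt : vL (∑ i ∈ s.erase i₀, T i) < vL (T i₀) := by
    apply vL.map_sum_lt hne
    intro i hi
    have hi' := Finset.mem_of_mem_erase hi
    refine lt_of_le_of_ne (hmax i hi') ?_
    intro heq
    exact (Finset.ne_of_mem_erase hi) (hinj hi' hi₀ heq)
  rw [← Finset.add_sum_erase s T hi₀]
  intro hsum
  have h1 : vL (T i₀ + ∑ i ∈ s.erase i₀, T i) = vL (T i₀) := vL.map_add_eq_of_lt_left hlt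
  rw [hsum, map_zero] at h1
  exact hne h1.symm

end SumLemma

section Main

variable {K L Γ₀ Γ₁ : Type u} [Field K] [Field L] [Algebra K L]
    [LinearOrderedCommGroupWithZero Γ₀] [LinearOrderedCommGroupWithZero Γ₁]
    (vK : Valuation K Γ₀) (vL : Valuation L Γ₁) [vK.HasExtension vL]

local notation "𝒪K" => Valuation.valuationSubring vK
local notation "𝒪L" => Valuation.valuationSubring vL
local notation "κK" => IsLocalRing.ResidueField (Valuation.valuationSubring vK)
local notation "κL" => IsLocalRing.ResidueField (Valuation.valuationSubring vL)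

theorem aeval_map_eq {ι' : Type*} (y : ι' → 𝒪L) (p : MvPolynomial ι' 𝒪K) :
    aeval (fun i => ((y i : 𝒪L) : L)) (map (algebraMap 𝒪K K) p) =
      ((aeval y p : 𝒪L) : L) := by
  have h : ((aeval (fun i => ((y i : 𝒪L) : L)) : MvPolynomial ι' K →ₐ[K] L).toRingHom.comp
      (map (algebraMap 𝒪K K))) =
      ((𝒪L).subtype).comp (aeval y : MvPolynomial ι' 𝒪K →ₐ[𝒪K] 𝒪L).toRingHom := by
    refine MvPolynomial.ringHom_ext (fun r => ?_) (fun i => ?_)
    · simp only [RingHom.comp_apply, map_C, AlgHom.toRingHom_eq_coe, RingHom.coe_coe, aeval_C]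
      rfl
    · simp
  exact DFunLike.congr_fun h p

theorem residue_aeval_eq {ι' : Type*} (y : ι' → 𝒪L) (p : MvPolynomial ι' 𝒪K) :
    IsLocalRing.residue 𝒪L (aeval y p) =
      aeval (fun i => IsLocalRing.residue 𝒪L (y i)) (map (IsLocalRing.residue 𝒪K) p) := by
  have h : (IsLocalRing.residue 𝒪L).comp (aeval y : MvPolynomial ι' 𝒪K →ₐ[𝒪K] 𝒪L).toRingHom =
      ((aeval (fun i => IsLocalRing.residue 𝒪L (y i)) :
        MvPolynomial ι' κK →ₐ[κK] κL).toRingHom.comp (map (IsLocalRing.residue 𝒪K))) := by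
    refine MvPolynomial.ringHom_ext (fun r => ?_) (fun i => ?_)
    · simp only [RingHom.comp_apply, map_C, AlgHom.toRingHom_eq_coe, RingHom.coe_coe, aeval_C]
      rfl
    · simp
  exact DFunLike.congr_fun h p

theorem val_aeval_of_residue_algebraicIndependent {ι' : Type*} (y : ι' → 𝒪L)
    (hy : AlgebraicIndependent κK (fun i => IsLocalRing.residue 𝒪L (y i)))
    (c : MvPolynomial ι' K) (hc : c ≠ 0) :
    ∃ a : K, a ≠ 0 ∧ vL (aeval (fun i => ((y i : 𝒪L) : L)) c) = vL (algebraMap K L a) := by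
  classical
  have hsupp : c.support.Nonempty := by
    rwa [Finset.nonempty_iff_ne_empty, Ne, MvPolynomial.support_eq_empty]
  obtain ⟨m₀, hm₀, hmax⟩ := Finset.exists_max_image c.support (fun m => vK (coeff m c)) hsupp
  set a := coeff m₀ c with ha
  have ha0 : a ≠ 0 := MvPolynomial.mem_support_iff.mp hm₀
  have hpos : 0 < vK a := zero_lt_iff.mpr ((vK.ne_zero_iff).mpr ha0)
  refine ⟨a, ha0, ?_⟩
  have hint : ∀ m, vK (a⁻¹ * coeff m c) ≤ 1 := by
    intro m
    by_cases hm : m ∈ c.support
    · rw [map_mul, map_inv₀, inv_mul_le_iff₀ hpos, mul_one]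
      exact hmax m hm
    · rw [MvPolynomial.notMem_support_iff.mp hm, mul_zero, map_zero]
      exact zero_le_one
  let c'' : MvPolynomial ι' 𝒪K :=
    ∑ m ∈ c.support, monomial m (⟨a⁻¹ * coeff m c, hint m⟩ : 𝒪K)
  have hc'' : map (algebraMap 𝒪K K) c'' = C a⁻¹ * c := by
    simp only [c'', map_sum, map_monomial]
    conv_rhs => rw [← c.support_sum_monomial_coeff, Finset.mul_sum]
    refine Finset.sum_congr rfl fun m _ => ?_
    rw [C_mul_monomial]
    rfl
  have hcoeff : coeff m₀ c'' = 1 := by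
    have h1 : coeff m₀ (map (algebraMap 𝒪K K) c'') = 1 := by
      rw [hc'', coeff_C_mul, ← ha, inv_mul_cancel₀ ha0]
    rw [coeff_map] at h1
    exact Subtype.ext h1
  have hres : map (IsLocalRing.residue 𝒪K) c'' ≠ 0 := by
    intro h0
    have h1 : coeff m₀ (map (IsLocalRing.residue 𝒪K) c'') = 0 := by rw [h0]; simp
    rw [coeff_map, hcoeff, map_one] at h1
    exact one_ne_zero h1
  have hunit : IsUnit (aeval y c'') := by
    rw [← IsLocalRing.residue_ne_zero_iff_isUnit, residue_aeval_eq]
    intro h0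
    exact hres ((injective_iff_map_eq_zero _).mp hy _ h0)
  have hval : vL ((aeval y c'' : 𝒪L) : L) = 1 := by
    rw [(Valuation.isEquiv_valuation_valuationSubring vL).eq_one_iff_eq_one]
    exact (ValuationSubring.valuation_eq_one_iff _ _).mp hunit
  rw [← aeval_map_eq vK vL, hc'', map_mul, aeval_C, map_mul, map_inv₀, map_inv₀,
    inv_mul_eq_one₀] at hval
  · exact hval.symm
  · rw [Ne, map_eq_zero, map_eq_zero]
    exact ha0

theorem algebraicIndependent_of_values {ι : Type*} (S : Subalgebra K L)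
    (hS : ∀ c : S, c ≠ 0 → ∃ a : K, a ≠ 0 ∧ vL (c : L) = vL (algebraMap K L a))
    (x : ι → Lˣ)
    (hx : ∀ α β : ι →₀ ℕ, ∀ a b : K, a ≠ 0 → b ≠ 0 →
      vL (algebraMap K L a) * vL (α.prod fun i k => (x i : L) ^ k) =
        vL (algebraMap K L b) * vL (β.prod fun i k => (x i : L) ^ k) → α = β) :
    AlgebraicIndependent S (fun i => (x i : L)) := by
  classical
  rw [algebraicIndependent_iff_injective_aeval, injective_iff_map_eq_zero]
  intro P hP
  by_contra hP0
  have hsupp : P.support.Nonempty := by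
    rwa [Finset.nonempty_iff_ne_empty, Ne, MvPolynomial.support_eq_empty]
  have hsum : aeval (fun i => (x i : L)) P =
      ∑ α ∈ P.support, (algebraMap S L (coeff α P)) * (α.prod fun i k => (x i : L) ^ k) := by
    rw [aeval_def, eval₂_eq]
    rfl
  rw [hsum] at hP
  refine sum_ne_zero_of_injOn vL P.support hsupp _ ?_ ?_ hP
  · intro α hα
    refine mul_ne_zero ?_ ?_
    · intro h0
      exact (MvPolynomial.mem_support_iff.mp hα) (Subtype.ext h0)
    · rw [Finsupp.prod, Finset.prod_ne_zero_iff]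
      intro i _
      exact pow_ne_zero _ (Units.ne_zero _)
  · intro α hα β hβ heq
    obtain ⟨a, ha, hva⟩ := hS (coeff α P) (MvPolynomial.mem_support_iff.mp hα)
    obtain ⟨b, hb, hvb⟩ := hS (coeff β P) (MvPolynomial.mem_support_iff.mp hβ)
    apply hx α β a b ha hb
    rw [← hva, ← hvb, ← map_mul, ← map_mul]
    exact heq

/-- The quotient group whose rank is the rational rank of the value group extension. -/
abbrev Qt : Type u := Additive Lˣ ⧸ Subgroup.toAddSubgroup
  (vL.valuationSubring.unitGroup ⊔ (Units.map (algebraMap K L).toMonoidHom).range)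

omit [vK.HasExtension vL] in
theorem mk_prod_eq {ι : Type*} (x : ι → Lˣ) (α : ι →₀ ℕ) :
    (QuotientAddGroup.mk (Additive.ofMul (α.prod fun i k => x i ^ k)) : Qt (K := K) vL) =
      Finsupp.linearCombination ℤ
        (fun i => (QuotientAddGroup.mk (Additive.ofMul (x i)) : Qt (K := K) vL))
        (α.mapRange (Nat.cast : ℕ → ℤ) Nat.cast_zero) := by
  rw [Finsupp.linearCombination_apply, Finsupp.sum_mapRange_index (by intro i; exact zero_smul ℤ _),
    Finsupp.prod, Finsupp.sum, ofMul_prod]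
  rw [← QuotientAddGroup.mk'_apply, map_sum]
  refine Finset.sum_congr rfl fun i _ => ?_
  rw [ofMul_pow, map_nsmul, natCast_zsmul]
  rfl

omit [vK.HasExtension vL] in
theorem values_of_linearIndependent {ι : Type*} (x : ι → Lˣ)
    (hli : LinearIndependent ℤ
      (fun i => (QuotientAddGroup.mk (Additive.ofMul (x i)) : Qt (K := K) vL)))
    (α β : ι →₀ ℕ) (a b : K) (ha : a ≠ 0) (hb : b ≠ 0)
    (h : vL (algebraMap K L a) * vL (α.prod fun i k => (x i : L) ^ k) =
        vL (algebraMap K L b) * vL (β.prod fun i k => (x i : L) ^ k)) : α = β := by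
  classical
  set xα : Lˣ := α.prod fun i k => x i ^ k with hxα
  set xβ : Lˣ := β.prod fun i k => x i ^ k with hxβ
  have hcα : ((xα : Lˣ) : L) = α.prod fun i k => (x i : L) ^ k := by
    rw [hxα, Finsupp.prod, Finsupp.prod, Units.coe_prod]
    refine Finset.prod_congr rfl fun i _ => ?_
    rw [Units.val_pow_eq_pow_val]
  have hcβ : ((xβ : Lˣ) : L) = β.prod fun i k => (x i : L) ^ k := by
    rw [hxβ, Finsupp.prod, Finsupp.prod, Units.coe_prod]
    refine Finset.prod_congr rfl fun i _ => ?_
    rw [Units.val_pow_eq_pow_val]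
  set au : Lˣ := Units.map (algebraMap K L).toMonoidHom (Units.mk0 a ha) with hau
  set bu : Lˣ := Units.map (algebraMap K L).toMonoidHom (Units.mk0 b hb) with hbu
  have hcau : ((au : Lˣ) : L) = algebraMap K L a := rfl
  have hcbu : ((bu : Lˣ) : L) = algebraMap K L b := rfl
  rw [← hcα, ← hcβ, ← hcau, ← hcbu, ← map_mul, ← map_mul, ← Units.val_mul, ← Units.val_mul] at h
  have hw : (au * xα) * (bu * xβ)⁻¹ ∈ vL.valuationSubring.unitGroup := by
    rw [Valuation.mem_unitGroup_iff, Units.val_mul, map_mul, Units.val_inv_eq_inv_val, map_inv₀, h]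
    exact mul_inv_cancel₀ ((vL.ne_zero_iff).mpr (Units.ne_zero _))
  have hmem : xα * xβ⁻¹ ∈ vL.valuationSubring.unitGroup ⊔
      (Units.map (algebraMap K L).toMonoidHom).range := by
    have h1 : xα * xβ⁻¹ = ((au * xα) * (bu * xβ)⁻¹) * (bu * au⁻¹) := by
      rw [mul_inv]
      have : ∀ (p q r s : Lˣ), p * q * (r⁻¹ * s⁻¹) * (r * p⁻¹) = q * s⁻¹ := by
        intro p q r s
        calc p * q * (r⁻¹ * s⁻¹) * (r * p⁻¹) = (p * p⁻¹) * (r * r⁻¹) * (q * s⁻¹) := by
              simp only [mul_comm, mul_left_comm, mul_assoc]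
          _ = q * s⁻¹ := by simp
      rw [this]
    rw [h1]
    refine Subgroup.mul_mem _ (Subgroup.mem_sup_left hw) (Subgroup.mem_sup_right ?_)
    refine Subgroup.mul_mem _ ⟨_, rfl⟩ (Subgroup.inv_mem _ ⟨_, rfl⟩)
  have heq : (QuotientAddGroup.mk (Additive.ofMul xα) : Qt (K := K) vL) =
      QuotientAddGroup.mk (Additive.ofMul xβ) := by
    rw [QuotientAddGroup.eq]
    show (Additive.toMul (-(Additive.ofMul xα) + Additive.ofMul xβ)) ∈ _
    have h2 : Additive.toMul (-(Additive.ofMul xα) + Additive.ofMul xβ) = (xα * xβ⁻¹)⁻¹ := by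
      simp [mul_comm]
    rw [h2]
    exact Subgroup.inv_mem _ hmem
  rw [mk_prod_eq, mk_prod_eq] at heq
  have h3 := hli heq
  exact Finsupp.mapRange_injective _ Nat.cast_zero Nat.cast_injective h3

theorem main :
    Module.rank ℤ (Additive Lˣ ⧸ Subgroup.toAddSubgroup
        (vL.valuationSubring.unitGroup ⊔ (Units.map (algebraMap K L).toMonoidHom).range)) +
      Algebra.trdeg (IsLocalRing.ResidueField vK.valuationSubring)
        (IsLocalRing.ResidueField vL.valuationSubring) ≤ Algebra.trdeg K L := by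
  classical
  obtain ⟨s, hs, hsli⟩ := exists_set_linearIndependent_of_isDomain ℤ (Qt (K := K) vL)
  obtain ⟨t, ht⟩ := exists_isTranscendenceBasis κK κL
  have htcard : #t = Algebra.trdeg κK κL := ht.cardinalMk_eq_trdeg
  -- lifts
  have hsurj : ∀ q : Qt (K := K) vL, ∃ x : Lˣ, (QuotientAddGroup.mk (Additive.ofMul x) :
      Qt (K := K) vL) = q := by
    intro q
    obtain ⟨z, rfl⟩ := QuotientAddGroup.mk_surjective q
    exact ⟨Additive.toMul z, rfl⟩
  choose x hx using fun q : s => hsurj q.1
  choose y hy using fun τ : t => IsLocalRing.residue_surjective (R := 𝒪L) τ.1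
  have hyind : AlgebraicIndependent κK (fun τ : t => IsLocalRing.residue 𝒪L (y τ)) := by
    have : (fun τ : t => IsLocalRing.residue 𝒪L (y τ)) = ((↑) : t → κL) := funext hy
    rw [this]
    exact ht.1
  have hxli : LinearIndependent ℤ
      (fun q : s => (QuotientAddGroup.mk (Additive.ofMul (x q)) : Qt (K := K) vL)) := by
    have : (fun q : s => (QuotientAddGroup.mk (Additive.ofMul (x q)) : Qt (K := K) vL)) =
        ((↑) : s → Qt (K := K) vL) := funext hx
    rw [this]
    exact hsli
  -- algebraic independence of the residue-transcendental part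
  have hy' : AlgebraicIndependent K (fun τ : t => ((y τ : 𝒪L) : L)) := by
    rw [algebraicIndependent_iff_injective_aeval, injective_iff_map_eq_zero]
    intro c hc
    by_contra hc0
    obtain ⟨a, ha, hva⟩ := val_aeval_of_residue_algebraicIndependent vK vL y hyind c hc0
    rw [hc, map_zero] at hva
    exact ((vL.ne_zero_iff).mpr ((map_ne_zero _).mpr ha)) hva.symm
  have hS : ∀ c : Algebra.adjoin K (Set.range fun τ : t => ((y τ : 𝒪L) : L)), c ≠ 0 →
      ∃ a : K, a ≠ 0 ∧ vL (c : L) = vL (algebraMap K L a) := by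
    rintro ⟨c, hc⟩ hc0
    rw [Algebra.adjoin_range_eq_range_aeval] at hc
    obtain ⟨p, rfl⟩ := hc
    have hp : p ≠ 0 := by
      rintro rfl
      apply hc0
      exact Subtype.ext (map_zero _)
    exact val_aeval_of_residue_algebraicIndependent vK vL y hyind p hp
  have hx' := algebraicIndependent_of_values vL _ hS x
    (values_of_linearIndependent vL x hxli)
  have hall := AlgebraicIndependent.sumElim_iff.mpr ⟨hy', hx'⟩
  have hcard := hall.cardinalMk_le_trdeg
  rw [Cardinal.mk_sum, Cardinal.lift_id, Cardinal.lift_id, hs, htcard] at hcard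
  exact hcard

end Main

end Groth.Agent.Lib.AbhyankarH3
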