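import Mathlib.RingTheory.Ideal.Pure
import Mathlib.RingTheory.Flat.Localization
import Mathlib.RingTheory.KrullDimension.Zero
import Mathlib.RingTheory.Nilpotent.Lemmas
import Mathlib.RingTheory.LocalProperties.Reduced

/-!
# Absolutely flat (von Neumann regular) rings

`IsVNR A` : every element `x` satisfies `x = x * x * b` for some `b`.

* `isVNR_of_forall_flat`: if every `A`-module (in the universe of `A`) is flat, `A` is VNR.
* `isReduced_of_isVNR`, `isMaximal_of_isVNR`.
* `isField_localization_of_reduced_of_primes_maximal`.
* `flat_of_forall_isField_localization`: if `A_m` is a field for all maximal `m`, every module is flat.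
* `flat_of_isVNR`: over a VNR ring every module is flat.
* `isVNR_pi_field`: a product of fields is VNR.
-/

set_option autoImplicit false
universe u v

namespace Groth.Agent.Lib.AbsFlat_helper5

/-- von Neumann regular: every `x` is of the form `x * x * b`. -/
def IsVNR (A : Type*) [CommRing A] : Prop := ∀ x : A, ∃ b : A, x = x * x * b

theorem isVNR_of_forall_flat (A : Type u) [CommRing A]
    (h : ∀ (M : Type u) [AddCommGroup M] [Module A M], Module.Flat A M) : IsVNR A := by
  intro x
  have : (Ideal.span {x}).Pure := h _
  obtain ⟨y, hy, hxy⟩ := Ideal.exists_eq_mul_of_pure (I := Ideal.span {x})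
    (Ideal.mem_span_singleton_self x)
  obtain ⟨b, rfl⟩ := Ideal.mem_span_singleton'.mp hy
  exact ⟨b, by linear_combination hxy⟩

theorem isReduced_of_isVNR {A : Type*} [CommRing A] (h : IsVNR A) : IsReduced A := by
  refine ⟨fun x hx => ?_⟩
  obtain ⟨b, hb⟩ := h x
  have h1 : IsNilpotent (x * b) := Commute.isNilpotent_mul_right (Commute.all _ _) hx
  have h2 : IsUnit (1 - x * b) := h1.isUnit_one_sub
  have h3 : (1 - x * b) * x = 0 := by linear_combination hb
  exact (h2.mul_right_eq_zero).mp h3

theorem isMaximal_of_isVNR {A : Type*} [CommRing A] (h : IsVNR A) (p : Ideal A) [p.IsPrime] :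
    p.IsMaximal := by
  apply Ideal.Quotient.maximal_of_isField
  refine ⟨⟨0, 1, zero_ne_one⟩, mul_comm, ?_⟩
  intro a ha
  obtain ⟨x, rfl⟩ := Ideal.Quotient.mk_surjective a
  obtain ⟨b, hb⟩ := h x
  refine ⟨Ideal.Quotient.mk p b, ?_⟩
  have h3 : Ideal.Quotient.mk p x * (Ideal.Quotient.mk p x * Ideal.Quotient.mk p b - 1) = 0 := by
    rw [← map_mul, ← map_one (Ideal.Quotient.mk p), ← map_sub, ← map_mul]
    have : x * (x * b - 1) = 0 := by linear_combination -hb
    rw [this, map_zero]
  rcases mul_eq_zero.mp h3 with h4 | h4
  · exact absurd h4 ha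
  · exact sub_eq_zero.mp h4

theorem isField_localization_of_reduced_of_primes_maximal (A : Type*) [CommRing A] [IsReduced A]
    (hmax : ∀ p : Ideal A, p.IsPrime → p.IsMaximal) (p : Ideal A) [p.IsPrime] :
    IsField (Localization.AtPrime p) := by
  have hp : p ∈ minimalPrimes A := by
    refine ⟨⟨inferInstance, bot_le⟩, fun q hq hqp => ?_⟩
    have := hmax q hq.1
    exact (this.eq_of_le (Ideal.IsPrime.ne_top inferInstance) hqp).ge
  have : Ring.KrullDimLE 0 (Localization.AtPrime p) := .of_isLocalization p hp _
  have : IsReduced (Localization.AtPrime p) := inferInstance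
  exact Ring.KrullDimLE.isField_of_isReduced

theorem flat_of_forall_isField_localization (A : Type*) [CommRing A]
    (h : ∀ (p : Ideal A) [p.IsMaximal], IsField (Localization.AtPrime p))
    (M : Type*) [AddCommGroup M] [Module A M] : Module.Flat A M := by
  apply Module.flat_of_localized_maximal
  intro P hP
  rw [← Module.flat_iff_of_isLocalization (Localization.AtPrime P) P.primeCompl]
  let _ := (h P).toField
  infer_instance

theorem flat_of_isVNR {A : Type*} [CommRing A] (h : IsVNR A)
    (M : Type*) [AddCommGroup M] [Module A M] : Module.Flat A M := by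
  have := isReduced_of_isVNR h
  apply flat_of_forall_isField_localization
  intro p hp
  exact isField_localization_of_reduced_of_primes_maximal A
    (fun q hq => @isMaximal_of_isVNR _ _ h q hq) p

theorem isVNR_pi_field {ι : Type*} (K : ι → Type*) [∀ i, Field (K i)] : IsVNR (∀ i, K i) := by
  intro x
  refine ⟨fun i => (x i)⁻¹, ?_⟩
  funext i
  by_cases hx : x i = 0
  · simp [hx]
  · simp [hx]

end Groth.Agent.Lib.AbsFlat_helper5
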