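import Mathlib

/-!
# Every commutative ring embeds in an absolutely integrally closed ring (helper3)

One step adjoins a root of every monic polynomial of positive degree; iterating `ω` times and
passing to the colimit (constructed as eventually compatible sequences modulo eventually zero
sequences) gives a ring over which every monic polynomial has a root, hence splits.
-/

set_option autoImplicit false
universe u
open Polynomial

namespace Groth.Agent.Lib.AbsIntClosedH3

section AdjoinRootInj

variable {R : Type u} [CommRing R]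

theorem of_injective_of_monic (f : R[X]) (hf : f.Monic) (hd : 0 < f.natDegree) :
    Function.Injective (AdjoinRoot.of f) := by
  rw [injective_iff_map_eq_zero]
  intro r hr
  by_contra hr0
  have h1 : AdjoinRoot.mk f (C r) = 0 := hr
  rw [AdjoinRoot.mk_eq_zero] at h1
  have h2 : (C r : R[X]) ≠ 0 := by
    intro h
    exact hr0 (C_eq_zero.1 h)
  exact hf.not_dvd_of_natDegree_lt h2 (by rw [natDegree_C]; exact hd) h1

/-- Monic polynomials of positive degree. -/
abbrev MonicPos (R : Type u) [CommRing R] : Type u := {f : R[X] // f.Monic ∧ 0 < f.natDegree}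

theorem exists_roots (s : Finset (MonicPos R)) :
    ∃ (R' : Type u) (_ : CommRing R') (φ : R →+* R'), Function.Injective φ ∧
      ∀ f ∈ s, ∃ ρ : R', (f.1.map φ).eval ρ = 0 := by
  classical
  induction s using Finset.induction_on with
  | empty => exact ⟨R, inferInstance, RingHom.id R, Function.injective_id, by simp⟩
  | insert a s ha ih =>
    obtain ⟨R', _, φ, hφ, hroots⟩ := ih
    rcases subsingleton_or_nontrivial R' with hss | hnt
    · refine ⟨R', inferInstance, φ, hφ, fun f _ => ⟨0, Subsingleton.elim _ _⟩⟩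
    · have hg : (a.1.map φ).Monic := a.2.1.map φ
      have hgd : 0 < (a.1.map φ).natDegree := by
        rw [a.2.1.natDegree_map]
        exact a.2.2
      refine ⟨AdjoinRoot (a.1.map φ), inferInstance, (AdjoinRoot.of (a.1.map φ)).comp φ,
        (of_injective_of_monic _ hg hgd).comp hφ, ?_⟩
      intro f hf
      rw [Finset.mem_insert] at hf
      rcases hf with rfl | hf
      · refine ⟨AdjoinRoot.root (f.1.map φ), ?_⟩
        rw [← Polynomial.map_map, Polynomial.eval_map]
        exact AdjoinRoot.eval₂_root _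
      · obtain ⟨ρ, hρ⟩ := hroots f hf
        refine ⟨AdjoinRoot.of (a.1.map φ) ρ, ?_⟩
        rw [← Polynomial.map_map, Polynomial.eval_map, Polynomial.eval₂_at_apply, hρ, map_zero]

end AdjoinRootInj

section Step

variable (R : Type u) [CommRing R]

/-- The relation making `X f` a root of `f`. -/
noncomputable def rel (f : MonicPos R) : MvPolynomial (MonicPos R) R :=
  f.1.eval₂ MvPolynomial.C (MvPolynomial.X f)

/-- Adjoin a root of every monic polynomial of positive degree. -/
abbrev Step : Type u := MvPolynomial (MonicPos R) R ⧸ Ideal.span (Set.range (rel R))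

/-- The structure map. -/
noncomputable def toStep : R →+* Step R :=
  (Ideal.Quotient.mk (Ideal.span (Set.range (rel R)))).comp MvPolynomial.C

theorem toStep_injective : Function.Injective (toStep R) := by
  classical
  rw [injective_iff_map_eq_zero]
  intro r hr
  have h1 : (MvPolynomial.C r : MvPolynomial (MonicPos R) R) ∈ Ideal.span (Set.range (rel R)) :=
    Ideal.Quotient.eq_zero_iff_mem.1 hr
  rw [Ideal.span, Finsupp.mem_span_range_iff_exists_finsupp] at h1
  obtain ⟨c, hc⟩ := h1
  obtain ⟨R', _, φ, hφ, hroots⟩ := exists_roots c.support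
  choose! ρ hρ using hroots
  let ev : MvPolynomial (MonicPos R) R →+* R' := MvPolynomial.eval₂Hom φ ρ
  have hev_rel : ∀ f ∈ c.support, ev (rel R f) = 0 := by
    intro f hf
    unfold rel
    rw [Polynomial.hom_eval₂]
    have h2 : ev.comp MvPolynomial.C = φ := by
      ext x
      simp [ev]
    have h3 : ev (MvPolynomial.X f) = ρ f := by simp [ev]
    rw [h2, h3, ← Polynomial.eval_map]
    exact hρ f hf
  have h4 := congrArg ev hc
  rw [Finsupp.sum, map_sum] at h4
  have h5 : ∑ x ∈ c.support, ev (c x • rel R x) = 0 := by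
    apply Finset.sum_eq_zero
    intro f hf
    rw [smul_eq_mul, map_mul, hev_rel f hf, mul_zero]
  rw [h5] at h4
  have h6 : ev (MvPolynomial.C r) = φ r := by simp [ev]
  rw [h6] at h4
  exact hφ (by rw [← h4, map_zero])

theorem exists_root_step (f : R[X]) (hf : f.Monic) (hd : 0 < f.natDegree) :
    ∃ ρ : Step R, (f.map (toStep R)).eval ρ = 0 := by
  refine ⟨Ideal.Quotient.mk _ (MvPolynomial.X ⟨f, hf, hd⟩), ?_⟩
  rw [Polynomial.eval_map]
  unfold toStep
  rw [← Polynomial.hom_eval₂]
  exact Ideal.Quotient.eq_zero_iff_mem.2 (Ideal.subset_span ⟨⟨f, hf, hd⟩, rfl⟩)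

end Step

section Tower

/-- A bundled commutative ring. -/
structure RingObj : Type (u + 1) where
  carrier : Type u
  [inst : CommRing carrier]

attribute [instance] RingObj.inst

variable (A : Type u) [CommRing A]

/-- The tower `A → Step A → Step (Step A) → ⋯`. -/
noncomputable def tower : ℕ → RingObj.{u}
  | 0 => ⟨A⟩
  | n + 1 => ⟨Step (tower n).carrier⟩

/-- The `n`-th ring of the tower. -/
abbrev T (n : ℕ) : Type u := (tower A n).carrier

/-- The transition maps. -/
noncomputable def j (n : ℕ) : T A n →+* T A (n + 1) := toStep (T A n)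

theorem j_injective (n : ℕ) : Function.Injective (j A n) := toStep_injective (T A n)

theorem exists_root_j (n : ℕ) (f : (T A n)[X]) (hf : f.Monic) (hd : 0 < f.natDegree) :
    ∃ ρ : T A (n + 1), (f.map (j A n)).eval ρ = 0 := exists_root_step (T A n) f hf hd

/-- The map from `A` to the `n`-th ring. -/
noncomputable def emb : ∀ n, A →+* T A n
  | 0 => RingHom.id A
  | n + 1 => (j A n).comp (emb n)

theorem emb_injective : ∀ n, Function.Injective (emb A n)
  | 0 => Function.injective_id
  | n + 1 => (j_injective A n).comp (emb_injective n)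

/-- Eventually compatible sequences. -/
def Cpt : Subring (∀ n, T A n) where
  carrier := {x | ∃ N, ∀ n, N ≤ n → x (n + 1) = j A n (x n)}
  mul_mem' := by
    rintro x y ⟨N, hN⟩ ⟨M, hM⟩
    refine ⟨max N M, fun n hn => ?_⟩
    rw [Pi.mul_apply, Pi.mul_apply, hN n (le_trans (le_max_left _ _) hn),
      hM n (le_trans (le_max_right _ _) hn), map_mul]
  one_mem' := ⟨0, fun n _ => by rw [Pi.one_apply, Pi.one_apply, map_one]⟩
  add_mem' := by
    rintro x y ⟨N, hN⟩ ⟨M, hM⟩
    refine ⟨max N M, fun n hn => ?_⟩
    rw [Pi.add_apply, Pi.add_apply, hN n (le_trans (le_max_left _ _) hn),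
      hM n (le_trans (le_max_right _ _) hn), map_add]
  zero_mem' := ⟨0, fun n _ => by rw [Pi.zero_apply, Pi.zero_apply, map_zero]⟩
  neg_mem' := by
    rintro x ⟨N, hN⟩
    refine ⟨N, fun n hn => ?_⟩
    rw [Pi.neg_apply, Pi.neg_apply, hN n hn, map_neg]

/-- Eventually zero sequences. -/
def Iev : Ideal (Cpt A) where
  carrier := {x | ∃ N, ∀ n, N ≤ n → x.1 n = 0}
  add_mem' := by
    rintro x y ⟨N, hN⟩ ⟨M, hM⟩
    refine ⟨max N M, fun n hn => ?_⟩
    show x.1 n + y.1 n = 0
    rw [hN n (le_trans (le_max_left _ _) hn), hM n (le_trans (le_max_right _ _) hn), add_zero]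
  zero_mem' := ⟨0, fun n _ => rfl⟩
  smul_mem' := by
    rintro c x ⟨N, hN⟩
    refine ⟨N, fun n hn => ?_⟩
    show c.1 n * x.1 n = 0
    rw [hN n hn, mul_zero]

/-- The colimit of the tower. -/
abbrev Lim : Type u := Cpt A ⧸ Iev A

/-- The evaluation at level `n`. -/
noncomputable def evn (n : ℕ) : Cpt A →+* T A n := (Pi.evalRingHom (fun n => T A n) n).comp (Cpt A).subtype

theorem evn_apply (n : ℕ) (x : Cpt A) : evn A n x = x.1 n := rfl

theorem emb_mem (a : A) : Pi.ringHom (emb A) a ∈ Cpt A := ⟨0, fun _ _ => rfl⟩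

/-- The map from `A` to the colimit. -/
noncomputable def toLim : A →+* Lim A :=
  (Ideal.Quotient.mk (Iev A)).comp
    ((Pi.ringHom (emb A)).codRestrict (Cpt A) (emb_mem A))

theorem toLim_injective : Function.Injective (toLim A) := by
  rw [injective_iff_map_eq_zero]
  intro a ha
  have h1 : ((Pi.ringHom (emb A)).codRestrict (Cpt A) (emb_mem A)) a ∈ Iev A :=
    Ideal.Quotient.eq_zero_iff_mem.1 ha
  obtain ⟨N, hN⟩ := h1
  have h2 : emb A N a = 0 := hN N le_rfl
  exact emb_injective A N (by rw [h2, map_zero])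

/-- The sequence starting with `ρ` at level `N + 1`. -/
noncomputable def yseq (N : ℕ) (ρ : T A (N + 1)) : ∀ n, T A n
  | 0 => 0
  | n + 1 => if h : n = N then h ▸ ρ else j A n (yseq N ρ n)

theorem yseq_succ_self (N : ℕ) (ρ : T A (N + 1)) : yseq A N ρ (N + 1) = ρ := by
  rw [yseq, dif_pos rfl]

theorem yseq_succ_of_ne (N : ℕ) (ρ : T A (N + 1)) (n : ℕ) (h : n ≠ N) :
    yseq A N ρ (n + 1) = j A n (yseq A N ρ n) := by
  rw [yseq, dif_neg h]

theorem yseq_mem (N : ℕ) (ρ : T A (N + 1)) : yseq A N ρ ∈ Cpt A :=
  ⟨N + 1, fun n hn => yseq_succ_of_ne A N ρ n (by omega)⟩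

theorem exists_root_lim (F : (Lim A)[X]) (hF : F.Monic) (hd : 0 < F.natDegree) :
    ∃ b : Lim A, F.eval b = 0 := by
  classical
  rcases subsingleton_or_nontrivial (Lim A) with hss | hnt
  · exact ⟨0, Subsingleton.elim _ _⟩
  have hsurj : Function.Surjective (Ideal.Quotient.mk (Iev A)) := Ideal.Quotient.mk_surjective
  have hlift : F ∈ Polynomial.lifts (Ideal.Quotient.mk (Iev A)) := by
    obtain ⟨G, hG⟩ := Polynomial.map_surjective _ hsurj F
    exact ⟨G, hG⟩
  obtain ⟨G, hGF, hGd, hGm⟩ := Polynomial.lifts_and_natDegree_eq_and_monic hlift hF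
  -- the threshold
  have hex : ∀ c : Cpt A, ∃ N, ∀ n, N ≤ n → c.1 (n + 1) = j A n (c.1 n) := fun c => c.2
  choose Nc hNc using hex
  let N := G.support.sup (fun i => Nc (G.coeff i))
  have hcoeff : ∀ i n, N ≤ n → (G.coeff i).1 (n + 1) = j A n ((G.coeff i).1 n) := by
    intro i n hn
    by_cases hi : i ∈ G.support
    · exact hNc (G.coeff i) n (le_trans (Finset.le_sup (f := fun i => Nc (G.coeff i)) hi) hn)
    · rw [Polynomial.notMem_support_iff] at hi
      rw [hi]
      show (0 : ∀ n, T A n) (n + 1) = j A n ((0 : ∀ n, T A n) n)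
      rw [Pi.zero_apply, Pi.zero_apply, map_zero]
  have hmap : ∀ n, N ≤ n → G.map (evn A (n + 1)) = (G.map (evn A n)).map (j A n) := by
    intro n hn
    ext i
    rw [Polynomial.coeff_map, Polynomial.coeff_map, Polynomial.coeff_map, evn_apply, evn_apply]
    exact hcoeff i n hn
  -- nontriviality of the levels
  haveI : Nontrivial (T A N) := by
    by_contra hcon
    rw [not_nontrivial_iff_subsingleton] at hcon
    apply not_subsingleton (Lim A)
    refine subsingleton_of_zero_eq_one ?_
    symm
    rw [← map_one (Ideal.Quotient.mk (Iev A)), Ideal.Quotient.eq_zero_iff_mem]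
    refine ⟨N, fun n hn => ?_⟩
    -- all higher levels are trivial as well
    have key : ∀ k, (1 : T A (N + k)) = 0 := by
      intro k
      induction k with
      | zero => exact Subsingleton.elim _ _
      | succ k ih =>
        have : (1 : T A (N + k + 1)) = j A (N + k) 1 := (map_one _).symm
        show (1 : T A (N + k + 1)) = 0
        rw [this, ih, map_zero]
    obtain ⟨k, rfl⟩ := Nat.exists_eq_add_of_le hn
    exact key k
  have hGN : (G.map (evn A N)).Monic := hGm.map _
  have hGNd : 0 < (G.map (evn A N)).natDegree := by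
    rw [hGm.natDegree_map, hGd]
    exact hd
  obtain ⟨ρ, hρ⟩ := exists_root_j A N (G.map (evn A N)) hGN hGNd
  let y : Cpt A := ⟨yseq A N ρ, yseq_mem A N ρ⟩
  have hyN : evn A (N + 1) y = ρ := yseq_succ_self A N ρ
  have hyS : ∀ n, N + 1 ≤ n → evn A (n + 1) y = j A n (evn A n y) := by
    intro n hn
    exact yseq_succ_of_ne A N ρ n (by omega)
  have hzero : ∀ k, evn A (N + 1 + k) (G.eval y) = 0 := by
    intro k
    induction k with
    | zero =>
      show evn A (N + 1) (G.eval y) = 0
      rw [← Polynomial.eval₂_id, Polynomial.hom_eval₂, RingHom.comp_id, hyN,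
        ← Polynomial.eval_map, hmap N le_rfl]
      exact hρ
    | succ k ih =>
      show evn A (N + 1 + k + 1) (G.eval y) = 0
      rw [← Polynomial.eval₂_id, Polynomial.hom_eval₂, RingHom.comp_id,
        hyS (N + 1 + k) (by omega), ← Polynomial.eval_map, hmap (N + 1 + k) (by omega),
        Polynomial.eval_map, Polynomial.eval₂_at_apply]
      have h1 : (G.map (evn A (N + 1 + k))).eval (evn A (N + 1 + k) y) =
          evn A (N + 1 + k) (G.eval y) := by
        rw [Polynomial.eval_map]
        conv_rhs => rw [← Polynomial.eval₂_id, Polynomial.hom_eval₂, RingHom.comp_id]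
      rw [h1, ih, map_zero]
  refine ⟨Ideal.Quotient.mk (Iev A) y, ?_⟩
  rw [← hGF, Polynomial.eval_map, Polynomial.eval₂_at_apply, Ideal.Quotient.eq_zero_iff_mem]
  refine ⟨N + 1, fun n hn => ?_⟩
  obtain ⟨k, rfl⟩ := Nat.exists_eq_add_of_le hn
  exact hzero k

end Tower

section Splits

theorem splits_of_roots {B : Type u} [CommRing B]
    (h : ∀ f : B[X], f.Monic → 0 < f.natDegree → ∃ b, f.eval b = 0) :
    ∀ f : B[X], f.Monic → ∃ s : Multiset B, f = (s.map fun b => X - C b).prod := by
  rcases subsingleton_or_nontrivial B with hss | hnt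
  · intro f _
    exact ⟨0, Subsingleton.elim _ _⟩
  intro f
  induction hn : f.natDegree generalizing f with
  | zero =>
    intro hf
    refine ⟨0, ?_⟩
    rw [Multiset.map_zero, Multiset.prod_zero]
    exact eq_one_of_monic_natDegree_zero hf hn
  | succ n ih =>
    intro hf
    obtain ⟨b, hb⟩ := h f hf (by omega)
    have h1 : (X - C b) * (f /ₘ (X - C b)) = f := mul_divByMonic_eq_iff_isRoot.2 hb
    have hgm : (f /ₘ (X - C b)).Monic :=
      (monic_X_sub_C b).of_mul_monic_left (by rw [h1]; exact hf)
    have hgd : (f /ₘ (X - C b)).natDegree = n := by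
      have h2 := (monic_X_sub_C b).natDegree_mul hgm
      rw [h1, hn, natDegree_X_sub_C] at h2
      omega
    obtain ⟨s, hs⟩ := ih _ hgd hgm
    refine ⟨b ::ₘ s, ?_⟩
    rw [Multiset.map_cons, Multiset.prod_cons, ← hs, h1]

end Splits

theorem main (A : Type u) [CommRing A] :
    ∃ (B : Type u) (_ : CommRing B) (_ : Algebra A B), Function.Injective (algebraMap A B) ∧
      ∀ f : B[X], f.Monic → ∃ s : Multiset B, f = (s.map fun b => X - C b).prod := by
  refine ⟨Lim A, inferInstance, (toLim A).toAlgebra, toLim_injective A, ?_⟩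
  exact splits_of_roots (exists_root_lim A)

end Groth.Agent.Lib.AbsIntClosedH3
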