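import Mathlib
import Groth.Agent.Lib.FlatBC1_helper2

/-!
# Flat base change: the five lemma for base change maps (helper2)

`IsBC.five`: in a morphism of five term exact sequences (from `A`-modules to `B`-modules, `B` flat
over `A`) whose outer four components are base change maps, the middle component is a base change
map.
APPEND-ONLY once landed.
-/

set_option autoImplicit false

open TensorProduct

namespace Groth.Agent.Lib.FlatBCH2

section Five

variable {A B : Type*} [CommRing A] [CommRing B] [Algebra A B]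

/-- the `B`-linear map `B ⊗ P → P'` attached to a semilinear additive map -/
noncomputable def liftSemi {P P' : Type*} [AddCommGroup P] [AddCommGroup P'] [Module A P]
    [Module B P'] (t : P →+ P') (ht : ∀ (a : A) (x : P), t (a • x) = algebraMap A B a • t x) :
    B ⊗[A] P →ₗ[B] P' :=
  letI : Module A P' := Module.compHom P' (algebraMap A B)
  haveI : IsScalarTower A B P' := IsScalarTower.of_algebraMap_smul fun _ _ => rfl
  LinearMap.liftBaseChange B
    ({ toFun := t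
       map_add' := map_add t
       map_smul' := fun a x => by
        rw [ht]
        rfl } : P →ₗ[A] P')

theorem liftSemi_tmul {P P' : Type*} [AddCommGroup P] [AddCommGroup P'] [Module A P]
    [Module B P'] (t : P →+ P') (ht : ∀ (a : A) (x : P), t (a • x) = algebraMap A B a • t x)
    (b : B) (x : P) : liftSemi t ht (b ⊗ₜ[A] x) = b • t x := rfl

theorem IsBC.of_bijective_liftSemi {P P' : Type*} [AddCommGroup P] [AddCommGroup P'] [Module A P]
    [Module B P'] (t : P →+ P') (ht : ∀ (a : A) (x : P), t (a • x) = algebraMap A B a • t x)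
    (h : Function.Bijective (liftSemi t ht)) : IsBC A B t :=
  ⟨LinearEquiv.ofBijective (liftSemi t ht) h, fun x => by
    rw [LinearEquiv.ofBijective_apply, liftSemi_tmul, one_smul]⟩

theorem IsBC.bijective_liftSemi {P P' : Type*} [AddCommGroup P] [AddCommGroup P'] [Module A P]
    [Module B P'] {t : P →+ P'} (H : IsBC A B t)
    (ht : ∀ (a : A) (x : P), t (a • x) = algebraMap A B a • t x) :
    Function.Bijective (liftSemi t ht) := by
  obtain ⟨e, he⟩ := H
  have h : ∀ w, liftSemi t ht w = e w := by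
    intro w
    induction w using TensorProduct.induction_on with
    | zero => rw [map_zero, map_zero]
    | tmul b x => rw [liftSemi_tmul, IsBC.apply_tmul e he]
    | add z w hz hw => rw [map_add, map_add, hz, hw]
  have h' : (liftSemi t ht : B ⊗[A] P → P') = e := funext h
  rw [h']
  exact e.bijective

theorem exact_baseChange [Module.Flat A B] {Q₁ Q₂ Q₃ : Type*} [AddCommGroup Q₁] [AddCommGroup Q₂]
    [AddCommGroup Q₃] [Module A Q₁] [Module A Q₂] [Module A Q₃] (u : Q₁ →ₗ[A] Q₂)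
    (v : Q₂ →ₗ[A] Q₃) (h : Function.Exact u v) :
    Function.Exact (u.baseChange B) (v.baseChange B) := by
  have := Module.Flat.lTensor_exact B h
  rw [LinearMap.baseChange_eq_ltensor, LinearMap.baseChange_eq_ltensor]
  exact this

theorem liftSemi_comm {Q Q₂ Q' Q₂' : Type*} [AddCommGroup Q] [AddCommGroup Q₂] [AddCommGroup Q']
    [AddCommGroup Q₂'] [Module A Q] [Module A Q₂] [Module B Q'] [Module B Q₂']
    (u : Q →ₗ[A] Q₂) (u' : Q' →ₗ[B] Q₂') (s : Q →+ Q') (s₂ : Q₂ →+ Q₂')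
    (hs : ∀ (a : A) (x : Q), s (a • x) = algebraMap A B a • s x)
    (hs₂ : ∀ (a : A) (x : Q₂), s₂ (a • x) = algebraMap A B a • s₂ x)
    (hc : ∀ x, s₂ (u x) = u' (s x)) :
    u'.comp (liftSemi s hs) = (liftSemi s₂ hs₂).comp (u.baseChange B) := by
  apply LinearMap.ext
  intro w
  induction w using TensorProduct.induction_on with
  | zero => rw [map_zero, map_zero]
  | tmul b x =>
    rw [LinearMap.comp_apply, LinearMap.comp_apply, liftSemi_tmul, LinearMap.baseChange_tmul,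
      liftSemi_tmul, map_smul, hc]
  | add z w hz hw => rw [map_add, map_add, hz, hw]

variable [Module.Flat A B]

/-- **The five lemma for base change maps.** -/
theorem IsBC.five
    {P₁ P₂ P₃ P₄ P₅ P₁' P₂' P₃' P₄' P₅' : Type*}
    [AddCommGroup P₁] [AddCommGroup P₂] [AddCommGroup P₃] [AddCommGroup P₄] [AddCommGroup P₅]
    [AddCommGroup P₁'] [AddCommGroup P₂'] [AddCommGroup P₃'] [AddCommGroup P₄'] [AddCommGroup P₅']
    [Module A P₁] [Module A P₂] [Module A P₃] [Module A P₄] [Module A P₅]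
    [Module B P₁'] [Module B P₂'] [Module B P₃'] [Module B P₄'] [Module B P₅']
    (a₁ : P₁ →ₗ[A] P₂) (a₂ : P₂ →ₗ[A] P₃) (a₃ : P₃ →ₗ[A] P₄) (a₄ : P₄ →ₗ[A] P₅)
    (a₁' : P₁' →ₗ[B] P₂') (a₂' : P₂' →ₗ[B] P₃') (a₃' : P₃' →ₗ[B] P₄') (a₄' : P₄' →ₗ[B] P₅')
    (e₁ : Function.Exact a₁ a₂) (e₂ : Function.Exact a₂ a₃) (e₃ : Function.Exact a₃ a₄)
    (e₁' : Function.Exact a₁' a₂') (e₂' : Function.Exact a₂' a₃') (e₃' : Function.Exact a₃' a₄')
    (t₁ : P₁ →+ P₁') (t₂ : P₂ →+ P₂') (t₃ : P₃ →+ P₃') (t₄ : P₄ →+ P₄') (t₅ : P₅ →+ P₅')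
    (c₁ : ∀ x, t₂ (a₁ x) = a₁' (t₁ x)) (c₂ : ∀ x, t₃ (a₂ x) = a₂' (t₂ x))
    (c₃ : ∀ x, t₄ (a₃ x) = a₃' (t₃ x)) (c₄ : ∀ x, t₅ (a₄ x) = a₄' (t₄ x))
    (ht₃ : ∀ (a : A) (x : P₃), t₃ (a • x) = algebraMap A B a • t₃ x)
    (H₁ : IsBC A B t₁) (H₂ : IsBC A B t₂) (H₄ : IsBC A B t₄) (H₅ : IsBC A B t₅) :
    IsBC A B t₃ := by
  have ht₁ := H₁.semilinear
  have ht₂ := H₂.semilinear
  have ht₄ := H₄.semilinear
  have ht₅ := H₅.semilinear
  have b₁ := H₁.bijective_liftSemi ht₁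
  have b₂ := H₂.bijective_liftSemi ht₂
  have b₄ := H₄.bijective_liftSemi ht₄
  have b₅ := H₅.bijective_liftSemi ht₅
  apply IsBC.of_bijective_liftSemi t₃ ht₃
  exact LinearMap.bijective_of_surjective_of_bijective_of_bijective_of_injective
    (a₁.baseChange B) (a₂.baseChange B) (a₃.baseChange B) (a₄.baseChange B) a₁' a₂' a₃' a₄'
    (liftSemi t₁ ht₁) (liftSemi t₂ ht₂) (liftSemi t₃ ht₃) (liftSemi t₄ ht₄) (liftSemi t₅ ht₅)
    (liftSemi_comm a₁ a₁' t₁ t₂ ht₁ ht₂ c₁) (liftSemi_comm a₂ a₂' t₂ t₃ ht₂ ht₃ c₂)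
    (liftSemi_comm a₃ a₃' t₃ t₄ ht₃ ht₄ c₃) (liftSemi_comm a₄ a₄' t₄ t₅ ht₄ ht₅ c₄)
    (exact_baseChange a₁ a₂ e₁) (exact_baseChange a₂ a₃ e₂) (exact_baseChange a₃ a₄ e₃)
    e₁' e₂' e₃' b₁.2 b₂ b₄ b₅.1

end Five

end Groth.Agent.Lib.FlatBCH2
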