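import Mathlib
import Groth.Agent.Lib.BCFive_helper2

/-!
# Complexes of abelian groups with a ring action, and base change ladders (helper2)

* `Act R K`: an action of the ring `R` on the cochain complex `K` of abelian groups; the homology
  `a.H q` of `K` is then an `R`-module;
* `ladder₁`, `ladder₂`: for a morphism of short exact sequences of complexes with actions of `A`
  (source) and `B` (target, flat over `A`), semilinear in each component: if two of the three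
  components induce base change maps `B ⊗_A H^q → H^q` in all degrees, so does the third (stated for
  the first and the second component).
APPEND-ONLY once landed.
-/

set_option autoImplicit false
universe u

open CategoryTheory CategoryTheory.Limits HomologicalComplex

namespace Groth.Agent.Lib.ActCx

open Groth.Agent.Lib.FlatBCH2

/-- cochain complexes of abelian groups -/
abbrev Cx := CochainComplex AddCommGrpCat.{u} ℕ

/-- an action of a ring on a complex of abelian groups -/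
structure Act (R : Type*) [Ring R] (K : Cx.{u}) where
  φ : R → (K ⟶ K)
  one : φ 1 = 𝟙 K
  mul : ∀ r s, φ (r * s) = φ s ≫ φ r
  add : ∀ r s, φ (r + s) = φ r + φ s

namespace Act

variable {R : Type*} [Ring R] {K : Cx.{u}} (a : Act R K)

theorem zero : a.φ 0 = 0 := by
  have h := a.add 0 0
  rw [add_zero] at h
  exact left_eq_add.mp h

/-- the homology of a complex with an action (a type synonym carrying the module structure) -/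
def H (_ : Act R K) (q : ℕ) : Type u := (K.homology q : AddCommGrpCat.{u})

noncomputable instance (q : ℕ) : AddCommGroup (a.H q) :=
  inferInstanceAs (AddCommGroup (K.homology q))

theorem hm_comp {K L M : Cx.{u}} (f : K ⟶ L) (g : L ⟶ M) (q : ℕ) (x : K.homology q) :
    (homologyMap g q).hom ((homologyMap f q).hom x) = (homologyMap (f ≫ g) q).hom x := by
  rw [homologyMap_comp]
  rfl

noncomputable instance (q : ℕ) : Module R (a.H q) where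
  smul r x := (homologyMap (a.φ r) q).hom x
  one_smul x := by
    show (homologyMap (a.φ 1) q).hom x = x
    rw [a.one, homologyMap_id]
    rfl
  mul_smul r s x := by
    show (homologyMap (a.φ (r * s)) q).hom x =
      (homologyMap (a.φ r) q).hom ((homologyMap (a.φ s) q).hom x)
    rw [hm_comp, a.mul]
  smul_zero r := map_zero (homologyMap (a.φ r) q).hom
  smul_add r x y := map_add (homologyMap (a.φ r) q).hom x y
  add_smul r s x := by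
    show (homologyMap (a.φ (r + s)) q).hom x =
      (homologyMap (a.φ r) q).hom x + (homologyMap (a.φ s) q).hom x
    rw [a.add, homologyMap_add]
    rfl
  zero_smul x := by
    show (homologyMap (a.φ 0) q).hom x = 0
    rw [a.zero, homologyMap_zero]
    rfl

theorem smul_def (q : ℕ) (r : R) (x : a.H q) : r • x = (homologyMap (a.φ r) q).hom x := rfl

end Act

section Maps

variable {R S : Type*} [Ring R] [Ring S] {K L : Cx.{u}}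

/-- the map induced on homology, between the module-carrying synonyms -/
noncomputable def hmap (a : Act R K) (b : Act S L) (f : K ⟶ L) (q : ℕ) : a.H q →+ b.H q :=
  (homologyMap f q).hom

theorem hmap_apply (a : Act R K) (b : Act S L) (f : K ⟶ L) (q : ℕ) (x : a.H q) :
    hmap a b f q x = (homologyMap f q).hom x := rfl

/-- semilinearity of the induced map -/
theorem hmap_smul (a : Act R K) (b : Act S L) (f : K ⟶ L) (σ : R → S)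
    (hf : ∀ r, a.φ r ≫ f = f ≫ b.φ (σ r)) (q : ℕ) (r : R) (x : a.H q) :
    hmap a b f q (r • x) = σ r • hmap a b f q x := by
  show (homologyMap f q).hom ((homologyMap (a.φ r) q).hom x) =
    (homologyMap (b.φ (σ r)) q).hom ((homologyMap f q).hom x)
  rw [Act.hm_comp, Act.hm_comp, hf]

/-- the induced map as a linear map -/
noncomputable def hlin (a : Act R K) (b : Act R L) (f : K ⟶ L)
    (hf : ∀ r, a.φ r ≫ f = f ≫ b.φ r) (q : ℕ) : a.H q →ₗ[R] b.H q :=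
  { toFun := hmap a b f q
    map_add' := map_add (hmap a b f q)
    map_smul' := fun r x => hmap_smul a b f id hf q r x }

theorem hlin_apply (a : Act R K) (b : Act R L) (f : K ⟶ L)
    (hf : ∀ r, a.φ r ≫ f = f ≫ b.φ r) (q : ℕ) (x : a.H q) :
    hlin a b f hf q x = (homologyMap f q).hom x := rfl

end Maps

section Delta

variable {R : Type*} [Ring R] {S : ShortComplex Cx.{u}} (hS : S.ShortExact)
  (a₁ : Act R S.X₁) (a₂ : Act R S.X₂) (a₃ : Act R S.X₃)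

/-- the connecting map, between the module-carrying synonyms -/
noncomputable def δmap (i j : ℕ) (hij : (ComplexShape.up ℕ).Rel i j) : a₃.H i →+ a₁.H j :=
  (hS.δ i j hij).hom

theorem δmap_apply (i j : ℕ) (hij : (ComplexShape.up ℕ).Rel i j) (x : a₃.H i) :
    δmap hS a₁ a₃ i j hij x = (hS.δ i j hij).hom x := rfl

theorem δ_smul (hf : ∀ r, a₁.φ r ≫ S.f = S.f ≫ a₂.φ r) (hg : ∀ r, a₂.φ r ≫ S.g = S.g ≫ a₃.φ r)
    (i j : ℕ) (hij : (ComplexShape.up ℕ).Rel i j) (r : R) (x : a₃.H i) :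
    δmap hS a₁ a₃ i j hij (r • x) = r • δmap hS a₁ a₃ i j hij x := by
  let Φ : S ⟶ S :=
    { τ₁ := a₁.φ r
      τ₂ := a₂.φ r
      τ₃ := a₃.φ r
      comm₁₂ := hf r
      comm₂₃ := hg r }
  have h := HomologicalComplex.HomologySequence.δ_naturality Φ hS hS i j hij
  show (hS.δ i j hij).hom ((homologyMap (a₃.φ r) i).hom x) =
    (homologyMap (a₁.φ r) j).hom ((hS.δ i j hij).hom x)
  exact (congrArg (fun ψ : S.X₃.homology i ⟶ S.X₁.homology j => ψ.hom x) h).symm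

/-- the connecting map as a linear map -/
noncomputable def δlin (hf : ∀ r, a₁.φ r ≫ S.f = S.f ≫ a₂.φ r)
    (hg : ∀ r, a₂.φ r ≫ S.g = S.g ≫ a₃.φ r) (i j : ℕ) (hij : (ComplexShape.up ℕ).Rel i j) :
    a₃.H i →ₗ[R] a₁.H j :=
  { toFun := δmap hS a₁ a₃ i j hij
    map_add' := map_add (δmap hS a₁ a₃ i j hij)
    map_smul' := fun r x => δ_smul hS a₁ a₂ a₃ hf hg i j hij r x }

theorem δlin_apply (hf : ∀ r, a₁.φ r ≫ S.f = S.f ≫ a₂.φ r)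
    (hg : ∀ r, a₂.φ r ≫ S.g = S.g ≫ a₃.φ r) (i j : ℕ) (hij : (ComplexShape.up ℕ).Rel i j)
    (x : a₃.H i) : δlin hS a₁ a₂ a₃ hf hg i j hij x = (hS.δ i j hij).hom x := rfl

end Delta

section Exactness

variable {R : Type*} [Ring R] {S : ShortComplex Cx.{u}} (hS : S.ShortExact)
  (a₁ : Act R S.X₁) (a₂ : Act R S.X₂) (a₃ : Act R S.X₃)
  (hf : ∀ r, a₁.φ r ≫ S.f = S.f ≫ a₂.φ r) (hg : ∀ r, a₂.φ r ≫ S.g = S.g ≫ a₃.φ r)

include hS in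
theorem ex₂ (q : ℕ) : Function.Exact (hlin a₁ a₂ S.f hf q) (hlin a₂ a₃ S.g hg q) :=
  (ShortComplex.ab_exact_iff_function_exact _).mp (hS.homology_exact₂ q)

theorem ex₃ (i j : ℕ) (hij : (ComplexShape.up ℕ).Rel i j) :
    Function.Exact (hlin a₂ a₃ S.g hg i) (δlin hS a₁ a₂ a₃ hf hg i j hij) :=
  (ShortComplex.ab_exact_iff_function_exact _).mp (hS.homology_exact₃ i j hij)

theorem ex₁ (i j : ℕ) (hij : (ComplexShape.up ℕ).Rel i j) :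
    Function.Exact (δlin hS a₁ a₂ a₃ hf hg i j hij) (hlin a₁ a₂ S.f hf j) :=
  (ShortComplex.ab_exact_iff_function_exact _).mp (hS.homology_exact₁ i j hij)

include hS in
theorem hlin_f_zero_injective : Function.Injective (hlin a₁ a₂ S.f hf 0) := by
  haveI := hS.mono_f
  haveI : Mono (homologyMap S.f 0) :=
    mono_homologyMap_of_mono_of_not_rel S.f 0 (fun j => by simp)
  exact (AddCommGrpCat.mono_iff_injective _).mp this

include hS in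
theorem ex₀ : Function.Exact (0 : PUnit.{1} →ₗ[R] a₁.H 0) (hlin a₁ a₂ S.f hf 0) := by
  intro y
  constructor
  · intro h
    refine ⟨PUnit.unit, ?_⟩
    apply hlin_f_zero_injective hS a₁ a₂ hf
    rw [h, LinearMap.zero_apply, map_zero]
  · rintro ⟨x, rfl⟩
    rw [LinearMap.zero_apply, map_zero]

end Exactness

section Ladder

variable {A B : Type*} [CommRing A] [CommRing B] [Algebra A B]

/-- the base change property in degree `q` -/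
def BCq {K K' : Cx.{u}} (a : Act A K) (b : Act B K') (f : K ⟶ K') (q : ℕ) : Prop :=
  IsBC A B (hmap a b f q)

variable [Module.Flat A B]
  {S S' : ShortComplex Cx.{u}} (hS : S.ShortExact) (hS' : S'.ShortExact)
  (a₁ : Act A S.X₁) (a₂ : Act A S.X₂) (a₃ : Act A S.X₃)
  (b₁ : Act B S'.X₁) (b₂ : Act B S'.X₂) (b₃ : Act B S'.X₃)
  (hf : ∀ r, a₁.φ r ≫ S.f = S.f ≫ a₂.φ r) (hg : ∀ r, a₂.φ r ≫ S.g = S.g ≫ a₃.φ r)
  (hf' : ∀ r, b₁.φ r ≫ S'.f = S'.f ≫ b₂.φ r) (hg' : ∀ r, b₂.φ r ≫ S'.g = S'.g ≫ b₃.φ r)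
  (Φ : S ⟶ S')
  (h₁ : ∀ r, a₁.φ r ≫ Φ.τ₁ = Φ.τ₁ ≫ b₁.φ (algebraMap A B r))
  (h₂ : ∀ r, a₂.φ r ≫ Φ.τ₂ = Φ.τ₂ ≫ b₂.φ (algebraMap A B r))
  (h₃ : ∀ r, a₃.φ r ≫ Φ.τ₃ = Φ.τ₃ ≫ b₃.φ (algebraMap A B r))

theorem comm_f (q : ℕ) (x : a₁.H q) :
    hmap a₂ b₂ Φ.τ₂ q (hlin a₁ a₂ S.f hf q x) = hlin b₁ b₂ S'.f hf' q (hmap a₁ b₁ Φ.τ₁ q x) := by
  show (homologyMap Φ.τ₂ q).hom ((homologyMap S.f q).hom x) =
    (homologyMap S'.f q).hom ((homologyMap Φ.τ₁ q).hom x)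
  rw [Act.hm_comp, Act.hm_comp, Φ.comm₁₂]

theorem comm_g (q : ℕ) (x : a₂.H q) :
    hmap a₃ b₃ Φ.τ₃ q (hlin a₂ a₃ S.g hg q x) = hlin b₂ b₃ S'.g hg' q (hmap a₂ b₂ Φ.τ₂ q x) := by
  show (homologyMap Φ.τ₃ q).hom ((homologyMap S.g q).hom x) =
    (homologyMap S'.g q).hom ((homologyMap Φ.τ₂ q).hom x)
  rw [Act.hm_comp, Act.hm_comp, Φ.comm₂₃]

theorem comm_δ (i j : ℕ) (hij : (ComplexShape.up ℕ).Rel i j) (x : a₃.H i) :
    hmap a₁ b₁ Φ.τ₁ j (δlin hS a₁ a₂ a₃ hf hg i j hij x) =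
      δlin hS' b₁ b₂ b₃ hf' hg' i j hij (hmap a₃ b₃ Φ.τ₃ i x) := by
  have h := HomologicalComplex.HomologySequence.δ_naturality Φ hS hS' i j hij
  exact congrArg (fun ψ : S.X₃.homology i ⟶ S'.X₁.homology j => ψ.hom x) h

include hS hS' hf hg hf' hg' h₁ in
/-- two out of three, first component -/
theorem ladder₁ (H₂ : ∀ q, BCq a₂ b₂ Φ.τ₂ q) (H₃ : ∀ q, BCq a₃ b₃ Φ.τ₃ q) (q : ℕ) :
    BCq a₁ b₁ Φ.τ₁ q := by
  cases q with
  | zero =>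
    exact IsBC.five (A := A) (B := B)
      (0 : PUnit.{1} →ₗ[A] PUnit.{1}) (0 : PUnit.{1} →ₗ[A] a₁.H 0)
      (hlin a₁ a₂ S.f hf 0) (hlin a₂ a₃ S.g hg 0)
      (0 : PUnit.{1} →ₗ[B] PUnit.{1}) (0 : PUnit.{1} →ₗ[B] b₁.H 0)
      (hlin b₁ b₂ S'.f hf' 0) (hlin b₂ b₃ S'.g hg' 0)
      (fun y => ⟨fun _ => ⟨y, Subsingleton.elim _ _⟩, fun _ => rfl⟩)
      (ex₀ hS a₁ a₂ hf) (ex₂ hS a₁ a₂ a₃ hf hg 0)
      (fun y => ⟨fun _ => ⟨y, Subsingleton.elim _ _⟩, fun _ => rfl⟩)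
      (ex₀ hS' b₁ b₂ hf') (ex₂ hS' b₁ b₂ b₃ hf' hg' 0)
      (0 : PUnit.{1} →+ PUnit.{1}) (0 : PUnit.{1} →+ PUnit.{1})
      (hmap a₁ b₁ Φ.τ₁ 0) (hmap a₂ b₂ Φ.τ₂ 0) (hmap a₃ b₃ Φ.τ₃ 0)
      (fun _ => rfl) (fun _ => map_zero _)
      (comm_f a₁ a₂ b₁ b₂ hf hf' Φ 0) (comm_g a₂ a₃ b₂ b₃ hg hg' Φ 0)
      (hmap_smul a₁ b₁ Φ.τ₁ (algebraMap A B) h₁ 0)
      (IsBC.of_subsingleton _) (IsBC.of_subsingleton _) (H₂ 0) (H₃ 0)
  | succ n =>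
    have hij : (ComplexShape.up ℕ).Rel n (n + 1) := rfl
    exact IsBC.five (A := A) (B := B)
      (hlin a₂ a₃ S.g hg n) (δlin hS a₁ a₂ a₃ hf hg n (n + 1) hij)
      (hlin a₁ a₂ S.f hf (n + 1)) (hlin a₂ a₃ S.g hg (n + 1))
      (hlin b₂ b₃ S'.g hg' n) (δlin hS' b₁ b₂ b₃ hf' hg' n (n + 1) hij)
      (hlin b₁ b₂ S'.f hf' (n + 1)) (hlin b₂ b₃ S'.g hg' (n + 1))
      (ex₃ hS a₁ a₂ a₃ hf hg n (n + 1) hij) (ex₁ hS a₁ a₂ a₃ hf hg n (n + 1) hij)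
      (ex₂ hS a₁ a₂ a₃ hf hg (n + 1))
      (ex₃ hS' b₁ b₂ b₃ hf' hg' n (n + 1) hij) (ex₁ hS' b₁ b₂ b₃ hf' hg' n (n + 1) hij)
      (ex₂ hS' b₁ b₂ b₃ hf' hg' (n + 1))
      (hmap a₂ b₂ Φ.τ₂ n) (hmap a₃ b₃ Φ.τ₃ n)
      (hmap a₁ b₁ Φ.τ₁ (n + 1)) (hmap a₂ b₂ Φ.τ₂ (n + 1)) (hmap a₃ b₃ Φ.τ₃ (n + 1))
      (comm_g a₂ a₃ b₂ b₃ hg hg' Φ n)
      (comm_δ hS hS' a₁ a₂ a₃ b₁ b₂ b₃ hf hg hf' hg' Φ n (n + 1) hij)
      (comm_f a₁ a₂ b₁ b₂ hf hf' Φ (n + 1)) (comm_g a₂ a₃ b₂ b₃ hg hg' Φ (n + 1))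
      (hmap_smul a₁ b₁ Φ.τ₁ (algebraMap A B) h₁ (n + 1))
      (H₂ n) (H₃ n) (H₂ (n + 1)) (H₃ (n + 1))

include hS hS' hf hg hf' hg' h₂ in
/-- two out of three, second component -/
theorem ladder₂ (H₁ : ∀ q, BCq a₁ b₁ Φ.τ₁ q) (H₃ : ∀ q, BCq a₃ b₃ Φ.τ₃ q) (q : ℕ) :
    BCq a₂ b₂ Φ.τ₂ q := by
  have hq : (ComplexShape.up ℕ).Rel q (q + 1) := rfl
  cases q with
  | zero =>
    exact IsBC.five (A := A) (B := B)
      (0 : PUnit.{1} →ₗ[A] a₁.H 0)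
      (hlin a₁ a₂ S.f hf 0) (hlin a₂ a₃ S.g hg 0) (δlin hS a₁ a₂ a₃ hf hg 0 1 hq)
      (0 : PUnit.{1} →ₗ[B] b₁.H 0)
      (hlin b₁ b₂ S'.f hf' 0) (hlin b₂ b₃ S'.g hg' 0) (δlin hS' b₁ b₂ b₃ hf' hg' 0 1 hq)
      (ex₀ hS a₁ a₂ hf) (ex₂ hS a₁ a₂ a₃ hf hg 0) (ex₃ hS a₁ a₂ a₃ hf hg 0 1 hq)
      (ex₀ hS' b₁ b₂ hf') (ex₂ hS' b₁ b₂ b₃ hf' hg' 0) (ex₃ hS' b₁ b₂ b₃ hf' hg' 0 1 hq)
      (0 : PUnit.{1} →+ PUnit.{1})
      (hmap a₁ b₁ Φ.τ₁ 0) (hmap a₂ b₂ Φ.τ₂ 0) (hmap a₃ b₃ Φ.τ₃ 0) (hmap a₁ b₁ Φ.τ₁ 1)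
      (fun _ => map_zero _)
      (comm_f a₁ a₂ b₁ b₂ hf hf' Φ 0) (comm_g a₂ a₃ b₂ b₃ hg hg' Φ 0)
      (comm_δ hS hS' a₁ a₂ a₃ b₁ b₂ b₃ hf hg hf' hg' Φ 0 1 hq)
      (hmap_smul a₂ b₂ Φ.τ₂ (algebraMap A B) h₂ 0)
      (IsBC.of_subsingleton _) (H₁ 0) (H₃ 0) (H₁ 1)
  | succ n =>
    have hij : (ComplexShape.up ℕ).Rel n (n + 1) := rfl
    exact IsBC.five (A := A) (B := B)
      (δlin hS a₁ a₂ a₃ hf hg n (n + 1) hij)
      (hlin a₁ a₂ S.f hf (n + 1)) (hlin a₂ a₃ S.g hg (n + 1))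
      (δlin hS a₁ a₂ a₃ hf hg (n + 1) (n + 1 + 1) hq)
      (δlin hS' b₁ b₂ b₃ hf' hg' n (n + 1) hij)
      (hlin b₁ b₂ S'.f hf' (n + 1)) (hlin b₂ b₃ S'.g hg' (n + 1))
      (δlin hS' b₁ b₂ b₃ hf' hg' (n + 1) (n + 1 + 1) hq)
      (ex₁ hS a₁ a₂ a₃ hf hg n (n + 1) hij) (ex₂ hS a₁ a₂ a₃ hf hg (n + 1))
      (ex₃ hS a₁ a₂ a₃ hf hg (n + 1) (n + 1 + 1) hq)
      (ex₁ hS' b₁ b₂ b₃ hf' hg' n (n + 1) hij) (ex₂ hS' b₁ b₂ b₃ hf' hg' (n + 1))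
      (ex₃ hS' b₁ b₂ b₃ hf' hg' (n + 1) (n + 1 + 1) hq)
      (hmap a₃ b₃ Φ.τ₃ n)
      (hmap a₁ b₁ Φ.τ₁ (n + 1)) (hmap a₂ b₂ Φ.τ₂ (n + 1)) (hmap a₃ b₃ Φ.τ₃ (n + 1))
      (hmap a₁ b₁ Φ.τ₁ (n + 1 + 1))
      (comm_δ hS hS' a₁ a₂ a₃ b₁ b₂ b₃ hf hg hf' hg' Φ n (n + 1) hij)
      (comm_f a₁ a₂ b₁ b₂ hf hf' Φ (n + 1)) (comm_g a₂ a₃ b₂ b₃ hg hg' Φ (n + 1))
      (comm_δ hS hS' a₁ a₂ a₃ b₁ b₂ b₃ hf hg hf' hg' Φ (n + 1) (n + 1 + 1) hq)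
      (hmap_smul a₂ b₂ Φ.τ₂ (algebraMap A B) h₂ (n + 1))
      (H₃ n) (H₁ (n + 1)) (H₃ (n + 1)) (H₁ (n + 1 + 1))

end Ladder

end Groth.Agent.Lib.ActCx
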