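import Mathlib
import Groth.Prelude.Def_ActBC
import Groth.Agent.Lib.LimBaseChange_helper7

/-!
# Hom-descent along cofiltered limits in the language of `Over.pullback` (helper6)

For a cofiltered diagram `D : I ⥤ Scheme` with affine transition maps and limit cone `c`:
* `exists_map_eq_of_map_eq`: two morphisms `u₁ u₂ : X ⟶ Y` in `Over (D.obj i)` (X quasi-compact, Y locally of
  finite type) whose base changes to the limit agree, agree after base change to some stage.
* `exists_map_eq_conj`: a morphism between the base changes to the limit of `X, Y : Over (D.obj j)` (Y locally of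
  finite presentation, X qcqs) comes from a morphism at some stage, up to the canonical isos `ActBC.bcCompIso`.
* `pullbackComp_symm_trans_eqToIso`: identification of the isomorphism used in statements with `ActBC.bcCompIso`.
-/

set_option autoImplicit false
set_option linter.all false
set_option backward.isDefEq.respectTransparency false
universe u
open CategoryTheory CategoryTheory.Limits AlgebraicGeometry

namespace Groth.Agent.Lib.OverLimH6
open Groth.Agent.Lib.LimBaseChangeH7

section basic
variable {S S' S'' : Scheme.{u}} (g : S' ⟶ S) {X Y : Over S}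

@[reassoc] lemma pb_map_left_fst (k : X ⟶ Y) :
    ((Over.pullback g).map k).left ≫ pullback.fst Y.hom g = pullback.fst X.hom g ≫ k.left :=
  ActBC.pullback_map_left_fst g k

@[reassoc] lemma pb_map_left_snd (k : X ⟶ Y) :
    ((Over.pullback g).map k).left ≫ pullback.snd Y.hom g = pullback.snd X.hom g := by
  dsimp only [Over.pullback]; exact pullback.lift_snd _ _ _

lemma pb_map_eq_iff (k₁ k₂ : X ⟶ Y) :
    (Over.pullback g).map k₁ = (Over.pullback g).map k₂ ↔
      pullback.fst X.hom g ≫ k₁.left = pullback.fst X.hom g ≫ k₂.left := by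
  constructor
  · intro h
    rw [← pb_map_left_fst, ← pb_map_left_fst, h]
  · intro h
    ext
    apply pullback.hom_ext
    · rw [pb_map_left_fst, pb_map_left_fst, h]
    · rw [pb_map_left_snd, pb_map_left_snd]

lemma pullbackComp_symm_trans_eqToIso (f : S'' ⟶ S') (g : S' ⟶ S) {d : S'' ⟶ S} (h : f ≫ g = d)
    (X : Over S) :
    (((Over.pullbackComp f g).app X).symm ≪≫ eqToIso (congrArg (fun g => Red.bc g X) h)) =
      ActBC.bcCompIso f g X h := by
  subst h
  ext1
  simp [ActBC.bcCompIso_hom_eq_pullbackComp_inv]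

end basic

section lim
variable {I : Type u} [SmallCategory I] [IsCofiltered I] {D : I ⥤ Scheme.{u}} {c : Cone D}
  [∀ (i i' : I) (f : i ⟶ i'), IsAffineHom (D.map f)]

theorem exists_map_eq_of_map_eq (hc : IsLimit c) {i : I} {X Y : Over (D.obj i)}
    [CompactSpace X.left] [LocallyOfFiniteType Y.hom] (u₁ u₂ : X ⟶ Y)
    (h : (Over.pullback (c.π.app i)).map u₁ = (Over.pullback (c.π.app i)).map u₂) :
    ∃ (i' : I) (g : i' ⟶ i), (Over.pullback (D.map g)).map u₁ = (Over.pullback (D.map g)).map u₂ := by
  have hX := IsPullback.of_hasPullback X.hom (c.π.app i)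
  have hcX := isLimitBcCone c hX hc
  have h' := (pb_map_eq_iff _ _ _).mp h
  obtain ⟨k, hk, heq⟩ := Scheme.exists_hom_comp_eq_comp_of_locallyOfFiniteType
    (bcDiagram D i X.hom) (bcDiagramBase D i X.hom) Y.hom (bcCone c hX) hcX (i := Over.mk (𝟙 i))
    (pullback.fst X.hom (D.map (Over.mk (𝟙 i)).hom) ≫ u₁.left)
    (pullback.fst X.hom (D.map (Over.mk (𝟙 i)).hom) ≫ u₂.left)
    (by rw [bcDiagramBase_app, Category.assoc, Over.w u₁])
    (by rw [bcDiagramBase_app, Category.assoc, Over.w u₂])
    (by
      rw [bcCone_π_fst_assoc, bcCone_π_fst_assoc]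
      exact h')
  refine ⟨k.left, k.hom, (pb_map_eq_iff _ _ _).mpr ?_⟩
  rw [bcDiagram_map_fst_assoc, bcDiagram_map_fst_assoc] at heq
  exact heq

theorem exists_map_eq_conj (hc : IsLimit c) [∀ i, CompactSpace (D.obj i)]
    [∀ i, QuasiSeparatedSpace (D.obj i)] {j : I} {X Y : Over (D.obj j)}
    [QuasiCompact X.hom] [QuasiSeparated X.hom] [LocallyOfFinitePresentation Y.hom]
    (u : Red.bc (c.π.app j) X ⟶ Red.bc (c.π.app j) Y) :
    ∃ (i : I) (f : i ⟶ j) (ui : Red.bc (D.map f) X ⟶ Red.bc (D.map f) Y),
      (Over.pullback (c.π.app i)).map ui =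
        (ActBC.bcCompIso (c.π.app i) (D.map f) X (c.w f)).hom ≫ u ≫
          (ActBC.bcCompIso (c.π.app i) (D.map f) Y (c.w f)).inv := by
  haveI : CompactSpace X.left := QuasiCompact.compactSpace_of_compactSpace X.hom
  haveI : QuasiSeparatedSpace X.left := quasiSeparatedSpace_of_quasiSeparated X.hom
  have hX := IsPullback.of_hasPullback X.hom (c.π.app j)
  have hcX := isLimitBcCone c hX hc
  let a : pullback X.hom (c.π.app j) ⟶ Y.left := u.left ≫ pullback.fst Y.hom (c.π.app j)
  have ha : a ≫ Y.hom = pullback.fst X.hom (c.π.app j) ≫ X.hom := by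
    have hw : u.left ≫ pullback.snd Y.hom (c.π.app j) = pullback.snd X.hom (c.π.app j) := Over.w u
    simp only [a, Category.assoc]
    rw [pullback.condition, reassoc_of% hw, pullback.condition]
  obtain ⟨k, g, hg1, hg2⟩ := Scheme.exists_π_app_comp_eq_of_locallyOfFinitePresentation
    (bcDiagram D j X.hom) (bcDiagramBase D j X.hom) Y.hom (bcCone c hX) hcX a (by
      ext k : 2
      simp only [NatTrans.comp_app, bcDiagramBase_app, Functor.const_map_app]
      rw [bcCone_π_fst_assoc, ha])
  have hg2' : g ≫ Y.hom = pullback.fst X.hom (D.map k.hom) ≫ X.hom := hg2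
  let ui : Red.bc (D.map k.hom) X ⟶ Red.bc (D.map k.hom) Y :=
    Over.homMk (pullback.lift g (pullback.snd X.hom (D.map k.hom)) (by rw [hg2', pullback.condition]))
      (by simp)
  have hui1 : ui.left ≫ pullback.fst Y.hom (D.map k.hom) = g := pullback.lift_fst _ _ _
  refine ⟨k.left, k.hom, ui, ?_⟩
  rw [← Category.assoc, Iso.eq_comp_inv]
  ext
  apply pullback.hom_ext
  · simp only [Over.comp_left, Category.assoc, ActBC.bcCompIso_hom_left_fst]
    rw [pb_map_left_fst_assoc, hui1]
    have : (ActBC.bcCompIso (c.π.app k.left) (D.map k.hom) X (c.w k.hom)).hom.left ≫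
        (bcCone c hX).π.app k = pullback.fst _ _ := by
      apply pullback.hom_ext
      · rw [Category.assoc, bcCone_π_fst, ActBC.bcCompIso_hom_left_fst]
      · rw [Category.assoc, bcCone_π_snd, ActBC.bcCompIso_hom_left_snd_assoc]
        exact pullback.condition.symm
    rw [← this, Category.assoc, hg1]
  · exact (Over.w _).trans (Over.w _).symm

end lim

end Groth.Agent.Lib.OverLimH6
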