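import Mathlib
import Groth.Prelude.Def_ActBC
import Groth.Agent.Lib.OverLim1_helper6

/-!
# Descent of homomorphisms of group schemes along cofiltered limits (helper6)
-/

set_option autoImplicit false
set_option linter.all false
set_option backward.isDefEq.respectTransparency false
universe u
open CategoryTheory CategoryTheory.Limits AlgebraicGeometry MonoidalCategory CartesianMonoidalCategory MonObj

namespace Groth.Agent.Lib.OverLimH6
open Groth.Agent.Lib.LimBaseChangeH7

section abstract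
universe v₁ u₁
variable {C : Type u₁} [Category.{v₁} C] [CartesianMonoidalCategory C]

/-- A morphism of group objects compatible with multiplication is a homomorphism. -/
theorem isMonHom_of_mul_hom {G H : C} [GrpObj G] [GrpObj H] (f : G ⟶ H)
    (hmul : μ[G] ≫ f = (f ⊗ₘ f) ≫ μ[H]) : IsMonHom f where
  one_hom := by
    have h1 : (1 : 𝟙_ C ⟶ G) = η := by
      rw [Hom.one_def, toUnit_unique (toUnit _) (𝟙 _), Category.id_comp]
    have h1' : (1 : 𝟙_ C ⟶ H) = η := by
      rw [Hom.one_def, toUnit_unique (toUnit _) (𝟙 _), Category.id_comp]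
    have hx : (η ≫ f) * (η ≫ f) = (η ≫ f) * 1 := by
      rw [_root_.mul_one, Hom.mul_def, ← lift_map_assoc, ← hmul, ← Category.assoc, ← Hom.mul_def, ← h1,
        _root_.mul_one]
    rw [← h1']
    exact mul_left_cancel hx
  mul_hom := hmul

end abstract

section mulhom
variable {S S' : Scheme.{u}} (g : S' ⟶ S) {A B : Over S} [GrpObj A] [GrpObj B]

open Functor.LaxMonoidal Functor.Monoidal in
lemma mul_hom_map_iff (v : A ⟶ B) :
    μ[Red.bc g A] ≫ (Over.pullback g).map v =
        ((Over.pullback g).map v ⊗ₘ (Over.pullback g).map v) ≫ μ[Red.bc g B] ↔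
      (Over.pullback g).map (μ[A] ≫ v) = (Over.pullback g).map ((v ⊗ₘ v) ≫ μ[B]) := by
  rw [Functor.obj.μ_def, Functor.obj.μ_def, Category.assoc, ← Functor.map_comp,
    Functor.LaxMonoidal.μ_natural_assoc, ← Functor.map_comp, cancel_epi]

end mulhom

section lim
variable {I : Type u} [SmallCategory I] [IsCofiltered I] {D : I ⥤ Scheme.{u}} {c : Cone D}
  [∀ (i i' : I) (f : i ⟶ i'), IsAffineHom (D.map f)]

theorem exists_isMonHom_stage (hc : IsLimit c) {i : I} {A B : Over (D.obj i)} [GrpObj A] [GrpObj B]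
    [CompactSpace A.left] [QuasiCompact A.hom] [LocallyOfFiniteType B.hom] (v : A ⟶ B)
    (hv : IsMonHom ((Over.pullback (c.π.app i)).map v)) :
    ∃ (i' : I) (g : i' ⟶ i), IsMonHom ((Over.pullback (D.map g)).map v) := by
  haveI : CompactSpace (A ⊗ A).left := by
    change CompactSpace ((pullback A.hom A.hom : Scheme.{u}))
    exact QuasiCompact.compactSpace_of_compactSpace (pullback.fst A.hom A.hom)
  have h1 := (mul_hom_map_iff (c.π.app i) v).mp (IsMonHom.mul_hom _)
  obtain ⟨i', g, hg⟩ := exists_map_eq_of_map_eq hc _ _ h1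
  exact ⟨i', g, isMonHom_of_mul_hom _ ((mul_hom_map_iff (D.map g) v).mpr hg)⟩

end lim

section coh
variable {S₃ S₂ S₁ S : Scheme.{u}}

lemma bcCompIso_assoc (e : S₃ ⟶ S₂) (f : S₂ ⟶ S₁) (g : S₁ ⟶ S) {d : S₂ ⟶ S} {d' : S₃ ⟶ S₁}
    {t : S₃ ⟶ S} (h : f ≫ g = d) (h' : e ≫ f = d') (h1 : e ≫ d = t) (h2 : d' ≫ g = t) (X : Over S) :
    (Over.pullback e).map (ActBC.bcCompIso f g X h).hom ≫ (ActBC.bcCompIso e d X h1).hom =
      (ActBC.bcCompIso e f (Red.bc g X) h').hom ≫ (ActBC.bcCompIso d' g X h2).hom := by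
  ext
  apply pullback.hom_ext
  · simp only [Over.comp_left, Category.assoc, ActBC.bcCompIso_hom_left_fst]
    rw [pb_map_left_fst_assoc, ActBC.bcCompIso_hom_left_fst, ActBC.bcCompIso_hom_left_fst_assoc]
  · exact (Over.w _).trans (Over.w _).symm

end coh

end Groth.Agent.Lib.OverLimH6
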