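import Mathlib
import Groth.Prelude.Def_ActBC
import Groth.Agent.Lib.OverLim2_helper6

/-!
# S6086: homomorphisms of finitely presented group schemes over a cofiltered limit (helper6)
-/

set_option autoImplicit false
set_option linter.all false
set_option backward.isDefEq.respectTransparency false
universe u
open CategoryTheory CategoryTheory.Limits AlgebraicGeometry MonoidalCategory CartesianMonoidalCategory MonObj

namespace Groth.Agent.Lib.OverLimH6

section inst
variable {S S' : Scheme.{u}} (g : S' ⟶ S) (X : Over S)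

instance bc_quasiCompact [QuasiCompact X.hom] : QuasiCompact (Red.bc g X).hom := by
  change QuasiCompact (pullback.snd X.hom g); infer_instance

instance bc_quasiSeparated [QuasiSeparated X.hom] : QuasiSeparated (Red.bc g X).hom := by
  change QuasiSeparated (pullback.snd X.hom g); infer_instance

instance bc_lfp [LocallyOfFinitePresentation X.hom] : LocallyOfFinitePresentation (Red.bc g X).hom := by
  change LocallyOfFinitePresentation (pullback.snd X.hom g); infer_instance

instance bc_lft [LocallyOfFiniteType X.hom] : LocallyOfFiniteType (Red.bc g X).hom := by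
  change LocallyOfFiniteType (pullback.snd X.hom g); infer_instance

lemma bc_compactSpace [QuasiCompact X.hom] [CompactSpace S'] : CompactSpace (Red.bc g X).left :=
  QuasiCompact.compactSpace_of_compactSpace (Red.bc g X).hom

end inst

section lim
variable {I : Type u} [SmallCategory I] [IsCofiltered I] {D : I ⥤ Scheme.{u}} {c : Cone D}
  [∀ (i i' : I) (f : i ⟶ i'), IsAffineHom (D.map f)]

/-- Restricting a descended morphism to a later stage keeps the compatibility with the morphism over the limit. -/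
theorem conj_restrict {j i i' : I} (f : i ⟶ j) (g : i' ⟶ i) {X Y : Over (D.obj j)}
    (u : Red.bc (c.π.app j) X ⟶ Red.bc (c.π.app j) Y)
    (ui : Red.bc (D.map f) X ⟶ Red.bc (D.map f) Y)
    (hui : (Over.pullback (c.π.app i)).map ui =
        (ActBC.bcCompIso (c.π.app i) (D.map f) X (c.w f)).hom ≫ u ≫
          (ActBC.bcCompIso (c.π.app i) (D.map f) Y (c.w f)).inv) :
    (Over.pullback (c.π.app i')).map
        ((ActBC.bcCompIso (D.map g) (D.map f) X (D.map_comp g f).symm).inv ≫
          (Over.pullback (D.map g)).map ui ≫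
          (ActBC.bcCompIso (D.map g) (D.map f) Y (D.map_comp g f).symm).hom) =
      (ActBC.bcCompIso (c.π.app i') (D.map (g ≫ f)) X (c.w (g ≫ f))).hom ≫ u ≫
        (ActBC.bcCompIso (c.π.app i') (D.map (g ≫ f)) Y (c.w (g ≫ f))).inv := by
  have hC : ∀ Z : Over (D.obj j),
      (Over.pullback (c.π.app i')).map (ActBC.bcCompIso (D.map g) (D.map f) Z (D.map_comp g f).symm).hom ≫
        (ActBC.bcCompIso (c.π.app i') (D.map (g ≫ f)) Z (c.w (g ≫ f))).hom =
      (ActBC.bcCompIso (c.π.app i') (D.map g) (Red.bc (D.map f) Z) (c.w g)).hom ≫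
        (ActBC.bcCompIso (c.π.app i) (D.map f) Z (c.w f)).hom := fun Z =>
    bcCompIso_assoc (c.π.app i') (D.map g) (D.map f) _ _ _ _ Z
  have hN := ActBC.bcCompIso_hom_naturality (c.π.app i') (D.map g) (c.w g) ui
  conv_rhs => rw [← Category.assoc]
  rw [Iso.eq_comp_inv]
  simp only [Functor.map_comp, Category.assoc]
  rw [hC Y, reassoc_of% hN, hui]
  simp only [Category.assoc, Iso.inv_hom_id, Category.comp_id]
  rw [← reassoc_of% (hC X), ← Functor.map_comp_assoc, Iso.inv_hom_id, CategoryTheory.Functor.map_id, Category.id_comp]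

theorem main6086 (hc : IsLimit c) [∀ i, CompactSpace (D.obj i)] [∀ i, QuasiSeparatedSpace (D.obj i)]
    (j : I) (Gj Hj : Over (D.obj j)) [GrpObj Gj] [GrpObj Hj]
    [LocallyOfFinitePresentation Gj.hom] [QuasiCompact Gj.hom] [QuasiSeparated Gj.hom]
    [LocallyOfFinitePresentation Hj.hom] [QuasiCompact Hj.hom] [QuasiSeparated Hj.hom] :
    (∀ (u : Red.bc (c.π.app j) Gj ⟶ Red.bc (c.π.app j) Hj), IsMonHom u →
      ∃ (i : I) (f : i ⟶ j) (ui : Red.bc (D.map f) Gj ⟶ Red.bc (D.map f) Hj), IsMonHom ui ∧
        (Over.pullback (c.π.app i)).map ui = (((Over.pullbackComp (c.π.app i) (D.map f)).app Gj).symm ≪≫ eqToIso (congrArg (fun g => Red.bc g Gj) (c.w f))).hom ≫ u ≫ (((Over.pullbackComp (c.π.app i) (D.map f)).app Hj).symm ≪≫ eqToIso (congrArg (fun g => Red.bc g Hj) (c.w f))).inv) ∧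
    (∀ (i : I) (f : i ⟶ j) (u₁ u₂ : Red.bc (D.map f) Gj ⟶ Red.bc (D.map f) Hj), IsMonHom u₁ → IsMonHom u₂ →
      (Over.pullback (c.π.app i)).map u₁ = (Over.pullback (c.π.app i)).map u₂ →
      ∃ (i' : I) (g : i' ⟶ i), (Over.pullback (D.map g)).map u₁ = (Over.pullback (D.map g)).map u₂) := by
  refine ⟨?_, ?_⟩
  · intro u hu
    obtain ⟨i, f, ui, hui⟩ := exists_map_eq_conj hc u
    have hmon : IsMonHom ((Over.pullback (c.π.app i)).map ui) := by
      rw [hui]; infer_instance
    haveI : CompactSpace (Red.bc (D.map f) Gj).left := bc_compactSpace _ _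
    obtain ⟨i', g, hg⟩ := exists_isMonHom_stage hc ui hmon
    refine ⟨i', g ≫ f, (ActBC.bcCompIso (D.map g) (D.map f) Gj (D.map_comp g f).symm).inv ≫
          (Over.pullback (D.map g)).map ui ≫
          (ActBC.bcCompIso (D.map g) (D.map f) Hj (D.map_comp g f).symm).hom, inferInstance, ?_⟩
    rw [pullbackComp_symm_trans_eqToIso, pullbackComp_symm_trans_eqToIso]
    exact conj_restrict f g u ui hui
  · intro i f u₁ u₂ _ _ h
    haveI : CompactSpace (Red.bc (D.map f) Gj).left := bc_compactSpace _ _
    exact exists_map_eq_of_map_eq hc u₁ u₂ h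

end lim

end Groth.Agent.Lib.OverLimH6
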