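import Mathlib
import Groth.Prelude.Def_ActBC
import Groth.Agent.Lib.OverLim3_helper6

/-!
# Descent of factorizations, monomorphisms, normality and centrality along cofiltered limits (helper6)
-/

set_option autoImplicit false
set_option linter.all false
set_option backward.isDefEq.respectTransparency false
universe u
open CategoryTheory CategoryTheory.Limits AlgebraicGeometry MonoidalCategory CartesianMonoidalCategory MonObj

namespace Groth.Agent.Lib.OverLimH6

section up
variable {S S' S'' : Scheme.{u}} (e : S'' ⟶ S') (f : S' ⟶ S) {d : S'' ⟶ S} (h : e ≫ f = d)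
  {X Y Z : Over S}

/-- `F_d a` is the conjugate of `F_e (F_f a)` by the canonical isomorphisms. -/
lemma map_eq_conj (a : X ⟶ Y) :
    (Over.pullback d).map a = (ActBC.bcCompIso e f X h).inv ≫
      (Over.pullback e).map ((Over.pullback f).map a) ≫ (ActBC.bcCompIso e f Y h).hom := by
  rw [ActBC.bcCompIso_hom_naturality, Iso.inv_hom_id_assoc]

include h in
lemma eq_up (a a' : X ⟶ Y) (haa : (Over.pullback f).map a = (Over.pullback f).map a') :
    (Over.pullback d).map a = (Over.pullback d).map a' := by
  rw [map_eq_conj e f h a, map_eq_conj e f h a', haa]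

include h in
lemma factor_up' (a : X ⟶ Z) (b : Y ⟶ Z) (ν₂ : Red.bc e (Red.bc f X) ⟶ Red.bc e (Red.bc f Y))
    (hν : ν₂ ≫ (Over.pullback e).map ((Over.pullback f).map b) =
      (Over.pullback e).map ((Over.pullback f).map a)) :
    ∃ ν' : Red.bc d X ⟶ Red.bc d Y, ν' ≫ (Over.pullback d).map b = (Over.pullback d).map a := by
  refine ⟨(ActBC.bcCompIso e f X h).inv ≫ ν₂ ≫ (ActBC.bcCompIso e f Y h).hom, ?_⟩
  rw [map_eq_conj e f h a, map_eq_conj e f h b]
  simp only [Category.assoc, Iso.hom_inv_id_assoc]
  rw [reassoc_of% hν]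

include h in
lemma factor_up (a : X ⟶ Z) (b : Y ⟶ Z) (ν : Red.bc f X ⟶ Red.bc f Y)
    (hν : ν ≫ (Over.pullback f).map b = (Over.pullback f).map a) :
    ∃ ν' : Red.bc d X ⟶ Red.bc d Y, ν' ≫ (Over.pullback d).map b = (Over.pullback d).map a :=
  factor_up' e f h a b ((Over.pullback e).map ν) (by rw [← Functor.map_comp, hν])

include h in
lemma mono_up (v : X ⟶ Y) (hv : Mono ((Over.pullback f).map v)) : Mono ((Over.pullback d).map v) := by
  rw [map_eq_conj e f h v]
  infer_instance

end up

section kp
variable {S : Scheme.{u}} {X Y : Over S} (v : X ⟶ Y)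

/-- The kernel pair of `v` in `Over S`, built from the fibre product of schemes. -/
noncomputable def kp : Over S := Over.mk (pullback.fst v.left v.left ≫ X.hom)

noncomputable def kp₁ : kp v ⟶ X := Over.homMk (pullback.fst v.left v.left) rfl

noncomputable def kp₂ : kp v ⟶ X := Over.homMk (pullback.snd v.left v.left) (by
  change pullback.snd v.left v.left ≫ X.hom = pullback.fst v.left v.left ≫ X.hom
  rw [← Over.w v, ← pullback.condition_assoc])

lemma isPullback_kp : IsPullback (kp₁ v) (kp₂ v) v v := by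
  apply IsPullback.of_map (Over.forget S)
  · ext; simp [kp₁, kp₂, pullback.condition]
  · exact IsPullback.of_hasPullback v.left v.left

lemma mono_iff_map_kp_eq {S' : Scheme.{u}} (g : S' ⟶ S) :
    Mono ((Over.pullback g).map v) ↔ (Over.pullback g).map (kp₁ v) = (Over.pullback g).map (kp₂ v) := by
  have hK := (isPullback_kp v).map (Over.pullback g)
  constructor
  · intro _
    rw [← cancel_mono ((Over.pullback g).map v)]
    exact hK.w
  · intro heq
    refine ⟨fun {T} x y hxy => ?_⟩
    have h1 := hK.lift_fst x y hxy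
    have h2 := hK.lift_snd x y hxy
    exact h1.symm.trans ((congrArg (hK.lift x y hxy ≫ ·) heq).trans h2)

instance kp_compact [CompactSpace X.left] [QuasiCompact v.left] : CompactSpace (kp v).left := by
  change CompactSpace ((pullback v.left v.left : Scheme.{u}))
  exact QuasiCompact.compactSpace_of_compactSpace (pullback.fst v.left v.left)

end kp

section lim
variable {I : Type u} [SmallCategory I] [IsCofiltered I] {D : I ⥤ Scheme.{u}} {c : Cone D}
  [∀ (i i' : I) (f : i ⟶ i'), IsAffineHom (D.map f)]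

theorem exists_mono_stage (hc : IsLimit c) {i : I} {X Y : Over (D.obj i)} (v : X ⟶ Y)
    [CompactSpace X.left] [QuasiCompact v.left] [LocallyOfFiniteType X.hom]
    (h : Mono ((Over.pullback (c.π.app i)).map v)) :
    ∃ (i' : I) (g : i' ⟶ i), Mono ((Over.pullback (D.map g)).map v) := by
  obtain ⟨i', g, hg⟩ := exists_map_eq_of_map_eq hc (kp₁ v) (kp₂ v) ((mono_iff_map_kp_eq v _).mp h)
  exact ⟨i', g, (mono_iff_map_kp_eq v _).mpr hg⟩

theorem exists_factor_stage (hc : IsLimit c) [∀ i, CompactSpace (D.obj i)]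
    [∀ i, QuasiSeparatedSpace (D.obj i)] {j : I} {X Y Z : Over (D.obj j)}
    [QuasiCompact X.hom] [QuasiSeparated X.hom] [LocallyOfFinitePresentation Y.hom]
    [LocallyOfFiniteType Z.hom] (a : X ⟶ Z) (b : Y ⟶ Z)
    (ν : Red.bc (c.π.app j) X ⟶ Red.bc (c.π.app j) Y)
    (hν : ν ≫ (Over.pullback (c.π.app j)).map b = (Over.pullback (c.π.app j)).map a) :
    ∃ (i : I) (f : i ⟶ j) (ν' : Red.bc (D.map f) X ⟶ Red.bc (D.map f) Y),
      ν' ≫ (Over.pullback (D.map f)).map b = (Over.pullback (D.map f)).map a := by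
  obtain ⟨i, f, νi, hνi⟩ := exists_map_eq_conj hc ν
  haveI : CompactSpace (Red.bc (D.map f) X).left := bc_compactSpace _ _
  have hkey : (Over.pullback (c.π.app i)).map (νi ≫ (Over.pullback (D.map f)).map b) =
      (Over.pullback (c.π.app i)).map ((Over.pullback (D.map f)).map a) := by
    have hNa := ActBC.bcCompIso_hom_naturality (c.π.app i) (D.map f) (c.w f) a
    have hNb := ActBC.bcCompIso_hom_naturality (c.π.app i) (D.map f) (c.w f) b
    rw [Functor.map_comp, hνi]
    rw [← cancel_mono (ActBC.bcCompIso (c.π.app i) (D.map f) Z (c.w f)).hom]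
    simp only [Category.assoc]
    rw [hNb, Iso.inv_hom_id_assoc, hν, hNa]
  obtain ⟨i', g, hg⟩ := exists_map_eq_of_map_eq hc _ _ hkey
  exact ⟨i', g ≫ f, factor_up' (D.map g) (D.map f) (D.map_comp g f).symm a b
    ((Over.pullback (D.map g)).map νi) (by rw [← Functor.map_comp, hg])⟩

end lim

end Groth.Agent.Lib.OverLimH6
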