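import Mathlib
import Groth.Prelude.Def_ActBC
import Groth.Agent.Lib.OverLim4_helper6

/-!
# Normal / central subgroups and monoidal functors; S6088 (helper6)
-/

set_option autoImplicit false
set_option linter.all false
set_option backward.isDefEq.respectTransparency false
universe u
open CategoryTheory CategoryTheory.Limits AlgebraicGeometry MonoidalCategory CartesianMonoidalCategory MonObj

namespace Groth.Agent.Lib.OverLimH6

section abstractNC
universe v₁ u₁ v₂ u₂
variable {C : Type u₁} [Category.{v₁} C] [CartesianMonoidalCategory C] {N G : C} [GrpObj N] [GrpObj G]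
  (v : N ⟶ G)

/-- The universal conjugate `(g, n) ↦ g * v n * g⁻¹`. -/
noncomputable def conjU : G ⊗ N ⟶ G := fst G N * (snd G N ≫ v) * (fst G N)⁻¹
/-- `(g, n) ↦ g * v n`. -/
noncomputable def comL : G ⊗ N ⟶ G := fst G N * (snd G N ≫ v)
/-- `(g, n) ↦ v n * g`. -/
noncomputable def comR : G ⊗ N ⟶ G := (snd G N ≫ v) * fst G N

lemma lift_conjU {T : C} (g : T ⟶ G) (n : T ⟶ N) : lift g n ≫ conjU v = g * (n ≫ v) * g⁻¹ := by
  simp [conjU, comp_mul, GrpObj.comp_inv]

lemma lift_comL {T : C} (g : T ⟶ G) (n : T ⟶ N) : lift g n ≫ comL v = g * (n ≫ v) := by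
  simp [comL, comp_mul]

lemma lift_comR {T : C} (g : T ⟶ G) (n : T ⟶ N) : lift g n ≫ comR v = (n ≫ v) * g := by
  simp [comR, comp_mul]

lemma normal_iff :
    (∀ (T : C) (g : T ⟶ G) (n : T ⟶ N), ∃ n' : T ⟶ N, g * (n ≫ v) * g⁻¹ = n' ≫ v) ↔
      ∃ ν : G ⊗ N ⟶ N, ν ≫ v = conjU v := by
  constructor
  · intro h
    obtain ⟨n', hn'⟩ := h (G ⊗ N) (fst G N) (snd G N)
    exact ⟨n', hn'.symm⟩
  · rintro ⟨ν, hν⟩ T g n
    refine ⟨lift g n ≫ ν, ?_⟩
    rw [Category.assoc, hν, lift_conjU]

lemma central_iff :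
    (∀ (T : C) (g : T ⟶ G) (n : T ⟶ N), g * (n ≫ v) = (n ≫ v) * g) ↔ comL v = comR v := by
  constructor
  · intro h
    exact h (G ⊗ N) (fst G N) (snd G N)
  · intro h T g n
    rw [← lift_comL, ← lift_comR, h]

variable {D' : Type u₂} [Category.{v₂} D'] [CartesianMonoidalCategory D'] (F : C ⥤ D') [F.Monoidal]

open scoped Obj
open Functor.LaxMonoidal Functor.Monoidal

lemma μ_map_conjU : «μ» F G N ≫ F.map (conjU v) = conjU (F.map v) := by
  simp only [conjU, Functor.map_mul, Functor.map_inv', comp_mul, GrpObj.comp_inv, Functor.map_comp]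
  rw [μ_fst, μ_snd_assoc]

lemma μ_map_comL : «μ» F G N ≫ F.map (comL v) = comL (F.map v) := by
  simp only [comL, Functor.map_mul, comp_mul, Functor.map_comp]
  rw [μ_fst, μ_snd_assoc]

lemma μ_map_comR : «μ» F G N ≫ F.map (comR v) = comR (F.map v) := by
  simp only [comR, Functor.map_mul, comp_mul, Functor.map_comp]
  rw [μ_fst, μ_snd_assoc]

lemma normal_map_iff :
    (∃ ν' : F.obj G ⊗ F.obj N ⟶ F.obj N, ν' ≫ F.map v = conjU (F.map v)) ↔
      ∃ ν : F.obj (G ⊗ N) ⟶ F.obj N, ν ≫ F.map v = F.map (conjU v) := by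
  constructor
  · rintro ⟨ν', h⟩
    refine ⟨Functor.OplaxMonoidal.δ F G N ≫ ν', ?_⟩
    rw [Category.assoc, h, ← μ_map_conjU, δ_μ_assoc]
  · rintro ⟨ν, h⟩
    refine ⟨«μ» F G N ≫ ν, ?_⟩
    rw [Category.assoc, h, μ_map_conjU]

lemma central_map_iff :
    comL (F.map v) = comR (F.map v) ↔ F.map (comL v) = F.map (comR v) := by
  rw [← μ_map_comL, ← μ_map_comR, cancel_epi]

end abstractNC

section inst
variable {S : Scheme.{u}} (X Y : Over S)

instance tensor_quasiCompact [QuasiCompact X.hom] [QuasiCompact Y.hom] : QuasiCompact (X ⊗ Y).hom := by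
  rw [Over.tensorObj_hom]; infer_instance

instance tensor_quasiSeparated [QuasiSeparated X.hom] [QuasiSeparated Y.hom] :
    QuasiSeparated (X ⊗ Y).hom := by
  rw [Over.tensorObj_hom]; infer_instance

instance tensor_lfp [LocallyOfFinitePresentation X.hom] [LocallyOfFinitePresentation Y.hom] :
    LocallyOfFinitePresentation (X ⊗ Y).hom := by
  rw [Over.tensorObj_hom]; infer_instance

instance tensor_lft [LocallyOfFiniteType X.hom] [LocallyOfFiniteType Y.hom] :
    LocallyOfFiniteType (X ⊗ Y).hom := by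
  rw [Over.tensorObj_hom]; infer_instance

lemma compactSpace_left [QuasiCompact X.hom] [CompactSpace S] : CompactSpace X.left :=
  QuasiCompact.compactSpace_of_compactSpace X.hom

end inst

end Groth.Agent.Lib.OverLimH6
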