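import Mathlib
import Groth.Prelude.Def_ActBC
import Groth.Agent.Lib.OverLim5_helper6

/-!
# S6088: normal / central monomorphisms of group schemes over a cofiltered limit (helper6)
-/

set_option autoImplicit false
set_option linter.all false
set_option backward.isDefEq.respectTransparency false
universe u
open CategoryTheory CategoryTheory.Limits AlgebraicGeometry MonoidalCategory CartesianMonoidalCategory MonObj

namespace Groth.Agent.Lib.OverLimH6

section general
variable {S S' : Scheme.{u}} (g : S' ⟶ S) {N G : Over S} [GrpObj N] [GrpObj G] (v : N ⟶ G)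

lemma isNormalHom_map_iff :
    AlgGrp.IsNormalHom ((Over.pullback g).map v) ↔
      ∃ ν : Red.bc g (G ⊗ N) ⟶ Red.bc g N,
        ν ≫ (Over.pullback g).map v = (Over.pullback g).map (conjU v) := by
  unfold AlgGrp.IsNormalHom
  rw [normal_iff]
  exact normal_map_iff v (Over.pullback g)

lemma central_map_iff' :
    (∀ (T : Over S') (a : T ⟶ Red.bc g G) (n : T ⟶ Red.bc g N),
        a * (n ≫ (Over.pullback g).map v) = (n ≫ (Over.pullback g).map v) * a) ↔
      (Over.pullback g).map (comL v) = (Over.pullback g).map (comR v) := by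
  rw [central_iff]
  exact central_map_iff v (Over.pullback g)

end general

section lim
variable {I : Type u} [SmallCategory I] [IsCofiltered I] {D : I ⥤ Scheme.{u}} {c : Cone D}
  [∀ (i i' : I) (f : i ⟶ i'), IsAffineHom (D.map f)]

theorem main6088 (hc : IsLimit c) [∀ i, CompactSpace (D.obj i)] [∀ i, QuasiSeparatedSpace (D.obj i)]
    (j : I) (Gj Hj : Over (D.obj j)) [GrpObj Gj] [GrpObj Hj]
    [LocallyOfFinitePresentation Gj.hom] [QuasiCompact Gj.hom] [QuasiSeparated Gj.hom]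
    [LocallyOfFinitePresentation Hj.hom] [QuasiCompact Hj.hom] [QuasiSeparated Hj.hom]
    (uj : Hj ⟶ Gj) [IsMonHom uj] :
    ((Mono ((Over.pullback (c.π.app j)).map uj) ∧ AlgGrp.IsNormalHom ((Over.pullback (c.π.app j)).map uj)) ↔
      ∃ (i : I) (f : i ⟶ j), Mono ((Over.pullback (D.map f)).map uj) ∧ AlgGrp.IsNormalHom ((Over.pullback (D.map f)).map uj)) ∧
    ((Mono ((Over.pullback (c.π.app j)).map uj) ∧ (∀ (T : Over c.pt) (g : T ⟶ (Red.bc (c.π.app j) Gj)) (n : T ⟶ (Red.bc (c.π.app j) Hj)), g * (n ≫ ((Over.pullback (c.π.app j)).map uj)) = (n ≫ ((Over.pullback (c.π.app j)).map uj)) * g)) ↔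
      ∃ (i : I) (f : i ⟶ j), Mono ((Over.pullback (D.map f)).map uj) ∧ (∀ (T : Over (D.obj i)) (g : T ⟶ (Red.bc (D.map f) Gj)) (n : T ⟶ (Red.bc (D.map f) Hj)), g * (n ≫ ((Over.pullback (D.map f)).map uj)) = (n ≫ ((Over.pullback (D.map f)).map uj)) * g)) := by
  haveI : CompactSpace Hj.left := compactSpace_left Hj
  haveI : QuasiCompact uj.left := by
    haveI : QuasiCompact (uj.left ≫ Gj.hom) := by rw [Over.w uj]; infer_instance
    exact QuasiCompact.of_comp uj.left Gj.hom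
  haveI : CompactSpace (Gj ⊗ Hj).left := compactSpace_left _
  refine ⟨⟨?_, ?_⟩, ⟨?_, ?_⟩⟩
  · rintro ⟨hmono, hnorm⟩
    obtain ⟨i₁, f₁, h₁⟩ := exists_mono_stage hc uj hmono
    obtain ⟨ν, hν⟩ := (isNormalHom_map_iff _ uj).mp hnorm
    obtain ⟨i₂, f₂, ν₂, hν₂⟩ := exists_factor_stage hc (conjU uj) uj ν hν
    obtain ⟨i, a, b, hab⟩ := IsCofiltered.cospan f₁ f₂
    refine ⟨i, a ≫ f₁, mono_up (D.map a) (D.map f₁) (D.map_comp a f₁).symm uj h₁, ?_⟩
    rw [isNormalHom_map_iff]
    exact factor_up (D.map b) (D.map f₂) (by rw [← D.map_comp, hab]) (conjU uj) uj ν₂ hν₂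
  · rintro ⟨i, f, hmono, hnorm⟩
    refine ⟨mono_up (c.π.app i) (D.map f) (c.w f) uj hmono, ?_⟩
    obtain ⟨ν, hν⟩ := (isNormalHom_map_iff _ uj).mp hnorm
    rw [isNormalHom_map_iff]
    exact factor_up (c.π.app i) (D.map f) (c.w f) (conjU uj) uj ν hν
  · rintro ⟨hmono, hcent⟩
    obtain ⟨i₁, f₁, h₁⟩ := exists_mono_stage hc uj hmono
    obtain ⟨i₂, f₂, h₂⟩ := exists_map_eq_of_map_eq hc (comL uj) (comR uj)
      ((central_map_iff' _ uj).mp hcent)
    obtain ⟨i, a, b, hab⟩ := IsCofiltered.cospan f₁ f₂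
    refine ⟨i, a ≫ f₁, mono_up (D.map a) (D.map f₁) (D.map_comp a f₁).symm uj h₁, ?_⟩
    rw [central_map_iff']
    exact eq_up (D.map b) (D.map f₂) (by rw [← D.map_comp, hab]) _ _ h₂
  · rintro ⟨i, f, hmono, hcent⟩
    refine ⟨mono_up (c.π.app i) (D.map f) (c.w f) uj hmono, ?_⟩
    rw [central_map_iff']
    exact eq_up (c.π.app i) (D.map f) (c.w f) _ _ ((central_map_iff' _ uj).mp hcent)

end lim

end Groth.Agent.Lib.OverLimH6
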