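import Mathlib
import Groth.Prelude.Def_ActBC
import Groth.Agent.Lib.OverLim6_helper6

/-!
# Subgroup structures on monomorphisms into group objects (helper6)
-/

set_option autoImplicit false
set_option linter.all false
set_option backward.isDefEq.respectTransparency false
universe u
open CategoryTheory CategoryTheory.Limits AlgebraicGeometry MonoidalCategory CartesianMonoidalCategory MonObj

namespace Groth.Agent.Lib.OverLimH6

section sub
universe v₁ u₁ v₂ u₂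
variable {C : Type u₁} [Category.{v₁} C] [CartesianMonoidalCategory C] {H G : C} [GrpObj G]
  (ι₀ : H ⟶ G)

/-- The group structure induced on the source of a monomorphism into a group object through which the
operations factor. -/
@[instance_reducible] noncomputable def subGrpObj [Mono ι₀] (m : H ⊗ H ⟶ H) (hm : m ≫ ι₀ = (ι₀ ⊗ₘ ι₀) ≫ μ[G])
    (e : 𝟙_ C ⟶ H) (he : e ≫ ι₀ = η[G]) (iv : H ⟶ H) (hiv : iv ≫ ι₀ = ι₀ ≫ ι[G]) : GrpObj H where
  one := e
  mul := m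
  one_mul := by
    rw [← cancel_mono ι₀, Category.assoc, hm, ← tensorHom_id, tensorHom_comp_tensorHom_assoc, he,
      Category.id_comp, MonObj.one_mul_hom]
  mul_one := by
    rw [← cancel_mono ι₀, Category.assoc, hm, ← id_tensorHom, tensorHom_comp_tensorHom_assoc, he,
      Category.id_comp, MonObj.mul_one_hom]
  mul_assoc := by
    rw [← cancel_mono ι₀]
    simp only [Category.assoc, hm]
    rw [← tensorHom_id, tensorHom_comp_tensorHom_assoc, hm, Category.id_comp,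
      ← id_tensorHom, tensorHom_comp_tensorHom_assoc, hm, Category.id_comp]
    have h1 : ((ι₀ ⊗ₘ ι₀) ≫ μ[G]) ⊗ₘ ι₀ = ((ι₀ ⊗ₘ ι₀) ⊗ₘ ι₀) ≫ (μ[G] ▷ G) := by
      rw [← tensorHom_id, tensorHom_comp_tensorHom, Category.comp_id]
    have h2 : ι₀ ⊗ₘ ((ι₀ ⊗ₘ ι₀) ≫ μ[G]) = (ι₀ ⊗ₘ (ι₀ ⊗ₘ ι₀)) ≫ (G ◁ μ[G]) := by
      rw [← id_tensorHom, tensorHom_comp_tensorHom, Category.comp_id]
    rw [h1, h2, Category.assoc, MonObj.mul_assoc, associator_naturality_assoc, Category.assoc]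
  inv := iv
  left_inv := by
    rw [← cancel_mono ι₀, Category.assoc, hm, lift_map_assoc, hiv, Category.id_comp, Category.assoc, he]
    have : lift (ι₀ ≫ ι[G]) ι₀ = ι₀ ≫ lift ι[G] (𝟙 G) := by
      rw [comp_lift, Category.comp_id]
    rw [this, Category.assoc, GrpObj.left_inv, ← Category.assoc]
    congr 1
    exact toUnit_unique _ _
  right_inv := by
    rw [← cancel_mono ι₀, Category.assoc, hm, lift_map_assoc, hiv, Category.id_comp, Category.assoc, he]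
    have : lift ι₀ (ι₀ ≫ ι[G]) = ι₀ ≫ lift (𝟙 G) ι[G] := by
      rw [comp_lift, Category.comp_id]
    rw [this, Category.assoc, GrpObj.right_inv, ← Category.assoc]
    congr 1
    exact toUnit_unique _ _

lemma isMonHom_subGrpObj [Mono ι₀] (m : H ⊗ H ⟶ H) (hm : m ≫ ι₀ = (ι₀ ⊗ₘ ι₀) ≫ μ[G])
    (e : 𝟙_ C ⟶ H) (he : e ≫ ι₀ = η[G]) (iv : H ⟶ H) (hiv : iv ≫ ι₀ = ι₀ ≫ ι[G]) :
    letI := subGrpObj ι₀ m hm e he iv hiv
    IsMonHom ι₀ :=
  letI := subGrpObj ι₀ m hm e he iv hiv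
  { one_hom := he
    mul_hom := hm }

/-- A monomorphism into a group object carries a (sub)group structure iff the operations factor. -/
lemma exists_grpObj_iff [Mono ι₀] :
    (∃ _ : GrpObj H, IsMonHom ι₀) ↔
      (∃ m : H ⊗ H ⟶ H, m ≫ ι₀ = (ι₀ ⊗ₘ ι₀) ≫ μ[G]) ∧ (∃ e : 𝟙_ C ⟶ H, e ≫ ι₀ = η[G]) ∧
        (∃ iv : H ⟶ H, iv ≫ ι₀ = ι₀ ≫ ι[G]) := by
  constructor
  · rintro ⟨inst, hmon⟩
    exact ⟨⟨μ[H], IsMonHom.mul_hom ι₀⟩, ⟨η[H], IsMonHom.one_hom ι₀⟩, ⟨ι[H], GrpObj.inv_hom ι₀⟩⟩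
  · rintro ⟨⟨m, hm⟩, ⟨e, he⟩, ⟨iv, hiv⟩⟩
    exact ⟨subGrpObj ι₀ m hm e he iv hiv, isMonHom_subGrpObj ι₀ m hm e he iv hiv⟩

variable {D' : Type u₂} [Category.{v₂} D'] [CartesianMonoidalCategory D'] (F : C ⥤ D') [F.Monoidal]

open scoped Obj
open Functor.LaxMonoidal Functor.Monoidal

/-- For a monoidal functor `F`: `F ι₀` carries a subgroup structure iff the images under `F` of the three operation
morphisms factor through `F ι₀`. -/
lemma exists_grpObj_map_iff [Mono (F.map ι₀)] :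
    (∃ _ : GrpObj (F.obj H), IsMonHom (F.map ι₀)) ↔
      (∃ ν : F.obj (H ⊗ H) ⟶ F.obj H, ν ≫ F.map ι₀ = F.map ((ι₀ ⊗ₘ ι₀) ≫ μ[G])) ∧
      (∃ ν : F.obj (𝟙_ C) ⟶ F.obj H, ν ≫ F.map ι₀ = F.map η[G]) ∧
      (∃ ν : F.obj H ⟶ F.obj H, ν ≫ F.map ι₀ = F.map (ι₀ ≫ ι[G])) := by
  rw [exists_grpObj_iff]
  refine and_congr ?_ (and_congr ?_ ?_)
  · constructor
    · rintro ⟨m, hm⟩
      refine ⟨Functor.OplaxMonoidal.δ F H H ≫ m, ?_⟩
      rw [Category.assoc, hm, Functor.obj.μ_def, Functor.map_comp, μ_natural_assoc, δ_μ_assoc]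
    · rintro ⟨ν, hν⟩
      refine ⟨«μ» F H H ≫ ν, ?_⟩
      rw [Category.assoc, hν, Functor.obj.μ_def, Functor.map_comp, μ_natural_assoc]
  · constructor
    · rintro ⟨e, he⟩
      refine ⟨Functor.OplaxMonoidal.η F ≫ e, ?_⟩
      rw [Category.assoc, he, Functor.obj.η_def, η_ε_assoc]
    · rintro ⟨ν, hν⟩
      refine ⟨ε F ≫ ν, ?_⟩
      rw [Category.assoc, hν, Functor.obj.η_def]
  · constructor
    · rintro ⟨iv, hiv⟩
      exact ⟨iv, by rw [hiv, Functor.map_comp]; rfl⟩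
    · rintro ⟨ν, hν⟩
      exact ⟨ν, by rw [hν, Functor.map_comp]; rfl⟩

end sub

section nfree
universe v₁ u₁ v₂ u₂
variable {C : Type u₁} [Category.{v₁} C] [CartesianMonoidalCategory C] {N G : C} [GrpObj G]
  (v : N ⟶ G)

lemma normal_iff' :
    (∀ (T : C) (g : T ⟶ G) (n : T ⟶ N), ∃ n' : T ⟶ N, g * (n ≫ v) * g⁻¹ = n' ≫ v) ↔
      ∃ ν : G ⊗ N ⟶ N, ν ≫ v = conjU v := by
  constructor
  · intro h
    obtain ⟨n', hn'⟩ := h (G ⊗ N) (fst G N) (snd G N)
    exact ⟨n', hn'.symm⟩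
  · rintro ⟨ν, hν⟩ T g n
    refine ⟨lift g n ≫ ν, ?_⟩
    rw [Category.assoc, hν]
    simp [conjU, comp_mul, GrpObj.comp_inv]

variable {D' : Type u₂} [Category.{v₂} D'] [CartesianMonoidalCategory D'] (F : C ⥤ D') [F.Monoidal]

open scoped Obj
open Functor.LaxMonoidal Functor.Monoidal

lemma μ_map_conjU' : «μ» F G N ≫ F.map (conjU v) = conjU (F.map v) := by
  simp only [conjU, Functor.map_mul, Functor.map_inv', comp_mul, GrpObj.comp_inv, Functor.map_comp]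
  rw [μ_fst, μ_snd_assoc]

lemma normal_map_iff' :
    (∃ ν' : F.obj G ⊗ F.obj N ⟶ F.obj N, ν' ≫ F.map v = conjU (F.map v)) ↔
      ∃ ν : F.obj (G ⊗ N) ⟶ F.obj N, ν ≫ F.map v = F.map (conjU v) := by
  constructor
  · rintro ⟨ν', h⟩
    refine ⟨Functor.OplaxMonoidal.δ F G N ≫ ν', ?_⟩
    rw [Category.assoc, h, ← μ_map_conjU', δ_μ_assoc]
  · rintro ⟨ν, h⟩
    refine ⟨«μ» F G N ≫ ν, ?_⟩
    rw [Category.assoc, h, μ_map_conjU']

end nfree

section overS
variable {S S' : Scheme.{u}} (g : S' ⟶ S) {N G : Over S} [GrpObj G] (v : N ⟶ G)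

/-- Normality of a base-changed morphism does not depend on the group structure of the source. -/
lemma isNormalHom_map_iff' [inst : GrpObj (Red.bc g N)] :
    AlgGrp.IsNormalHom ((Over.pullback g).map v) ↔
      ∃ ν : Red.bc g (G ⊗ N) ⟶ Red.bc g N,
        ν ≫ (Over.pullback g).map v = (Over.pullback g).map (conjU v) := by
  unfold AlgGrp.IsNormalHom
  rw [normal_iff']
  exact normal_map_iff' v (Over.pullback g)

end overS

end Groth.Agent.Lib.OverLimH6
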