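import Mathlib
import Groth.Prelude.Def_ActBC
import Groth.Agent.Lib.OverLim7_helper6

/-!
# S18878: closed subgroup schemes over a cofiltered limit (helper6)
-/

set_option autoImplicit false
set_option linter.all false
set_option backward.isDefEq.respectTransparency false
universe u
open CategoryTheory CategoryTheory.Limits AlgebraicGeometry MonoidalCategory CartesianMonoidalCategory MonObj

namespace Groth.Agent.Lib.OverLimH6

section lim
variable {I : Type u} [SmallCategory I] [IsCofiltered I] {D : I ⥤ Scheme.{u}} {c : Cone D}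
  [∀ (i i' : I) (f : i ⟶ i'), IsAffineHom (D.map f)]

theorem exists_factor_stage_below (hc : IsLimit c) [∀ i, CompactSpace (D.obj i)]
    [∀ i, QuasiSeparatedSpace (D.obj i)] {j : I} {X Y Z : Over (D.obj j)}
    [QuasiCompact X.hom] [QuasiSeparated X.hom] [LocallyOfFinitePresentation Y.hom]
    [LocallyOfFiniteType Z.hom] (a : X ⟶ Z) (b : Y ⟶ Z)
    (ν : Red.bc (c.π.app j) X ⟶ Red.bc (c.π.app j) Y)
    (hν : ν ≫ (Over.pullback (c.π.app j)).map b = (Over.pullback (c.π.app j)).map a)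
    {k₀ : I} (f₀ : k₀ ⟶ j) :
    ∃ (i : I) (g : i ⟶ k₀) (ν' : Red.bc (D.map (g ≫ f₀)) X ⟶ Red.bc (D.map (g ≫ f₀)) Y),
      ν' ≫ (Over.pullback (D.map (g ≫ f₀))).map b = (Over.pullback (D.map (g ≫ f₀))).map a := by
  obtain ⟨i₁, f₁, ν₁, h₁⟩ := exists_factor_stage hc a b ν hν
  obtain ⟨i, a', g, hag⟩ := IsCofiltered.cospan f₁ f₀
  obtain ⟨ν', hν'⟩ := factor_up (D.map a') (D.map f₁) (d := D.map (g ≫ f₀))
    (by rw [← D.map_comp, hag]) a b ν₁ h₁
  exact ⟨i, g, ν', hν'⟩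

end lim

section main
variable {I : Type u} [SmallCategory I] [IsCofiltered I]

attribute [local instance] CategoryTheory.isConnected_of_hasTerminal

theorem main18878 (D : I ⥤ Scheme.{u}) (c : Limits.Cone D) (hc : Limits.IsLimit c)
    [∀ (i j : I) (a : i ⟶ j), IsAffineHom (D.map a)] (i₀ : I)
    [CompactSpace (D.obj i₀)] [QuasiSeparatedSpace (D.obj i₀)]
    (G₀ : Over (D.obj i₀)) [GrpObj G₀] [IsSeparated G₀.hom] [QuasiCompact G₀.hom]
    [LocallyOfFinitePresentation G₀.hom]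
    (H₀ : Over (D.obj i₀)) (ι₀ : H₀ ⟶ G₀) [IsClosedImmersion ι₀.left]
    [LocallyOfFinitePresentation ι₀.left]
    (hH : ∃ _ : GrpObj (Red.bc (c.π.app i₀) H₀), IsMonHom ((Over.pullback (c.π.app i₀)).map ι₀)) :
    (∃ (i : I) (a : i ⟶ i₀) (_ : GrpObj (Red.bc (D.map a) H₀)),
        IsMonHom ((Over.pullback (D.map a)).map ι₀)) ∧
    ((∃ (_ : GrpObj (Red.bc (c.π.app i₀) H₀)) (_ : IsMonHom ((Over.pullback (c.π.app i₀)).map ι₀)),
        AlgGrp.IsNormalHom ((Over.pullback (c.π.app i₀)).map ι₀)) →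
      ∃ (i : I) (a : i ⟶ i₀) (_ : GrpObj (Red.bc (D.map a) H₀))
        (_ : IsMonHom ((Over.pullback (D.map a)).map ι₀)),
        AlgGrp.IsNormalHom ((Over.pullback (D.map a)).map ι₀)) := by
  classical
  -- reindex over `Over i₀`
  let D' : Over i₀ ⥤ Scheme.{u} := Over.forget i₀ ⋙ D
  let c' : Cone D' := c.whisker (Over.forget i₀)
  have hc' : IsLimit c' := (Functor.Initial.isLimitWhiskerEquiv (Over.forget i₀) c).symm hc
  haveI : ∀ (k k' : Over i₀) (f : k ⟶ k'), IsAffineHom (D'.map f) := by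
    intro k k' f; dsimp [D']; infer_instance
  haveI : ∀ k : Over i₀, CompactSpace (D'.obj k) := fun k =>
    QuasiCompact.compactSpace_of_compactSpace (D.map k.hom)
  haveI : ∀ k : Over i₀, QuasiSeparatedSpace (D'.obj k) := fun k =>
    quasiSeparatedSpace_of_quasiSeparated (D.map k.hom)
  let j₀ : Over i₀ := Over.mk (𝟙 i₀)
  -- finiteness of `H₀`
  have hH₀ : ι₀.left ≫ G₀.hom = H₀.hom := Over.w ι₀
  haveI : LocallyOfFinitePresentation H₀.hom := by rw [← hH₀]; infer_instance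
  haveI : QuasiCompact H₀.hom := by rw [← hH₀]; infer_instance
  haveI : QuasiSeparated H₀.hom := by rw [← hH₀]; infer_instance
  haveI : QuasiSeparated G₀.hom := inferInstance
  haveI : LocallyOfFiniteType G₀.hom := inferInstance
  haveI hmono₀ : Mono ι₀ := by
    haveI : Mono ι₀.left := inferInstance
    exact Over.mono_of_mono_left ι₀
  have hmono : ∀ {S' : Scheme.{u}} (g : S' ⟶ D.obj i₀), Mono ((Over.pullback g).map ι₀) :=
    fun g => inferInstance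
  haveI : QuasiCompact (𝟙_ (Over (D.obj i₀))).hom := by
    change @QuasiCompact (D.obj i₀) (D.obj i₀) (𝟙 _); infer_instance
  haveI : QuasiSeparated (𝟙_ (Over (D.obj i₀))).hom := by
    change @QuasiSeparated (D.obj i₀) (D.obj i₀) (𝟙 _); infer_instance
  -- the three factorizations over the limit
  haveI := hmono (c.π.app i₀)
  obtain ⟨⟨νm, hνm⟩, ⟨νe, hνe⟩, ⟨νi, hνi⟩⟩ :=
    (exists_grpObj_map_iff ι₀ (Over.pullback (c.π.app i₀))).mp hH
  -- descend them successively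
  obtain ⟨k₁, f₁, νm₁, hm₁⟩ := exists_factor_stage (D := D') (c := c') hc' (j := j₀)
    ((ι₀ ⊗ₘ ι₀) ≫ μ[G₀]) ι₀ νm hνm
  obtain ⟨k₂, g₂, νe₂, he₂⟩ := exists_factor_stage_below (D := D') (c := c') hc' (j := j₀)
    η[G₀] ι₀ νe hνe f₁
  obtain ⟨k₃, g₃, νi₃, hi₃⟩ := exists_factor_stage_below (D := D') (c := c') hc' (j := j₀)
    (ι₀ ≫ ι[G₀]) ι₀ νi hνi (g₂ ≫ f₁)
  have part1 : ∀ (k : Over i₀) (g : k ⟶ k₃), ∃ (_ : GrpObj (Red.bc (D'.map (g ≫ g₃ ≫ g₂ ≫ f₁)) H₀)),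
      IsMonHom ((Over.pullback (D'.map (g ≫ g₃ ≫ g₂ ≫ f₁))).map ι₀) := by
    intro k g
    haveI := hmono (D'.map (g ≫ g₃ ≫ g₂ ≫ f₁))
    refine (exists_grpObj_map_iff ι₀ (Over.pullback (D'.map (g ≫ g₃ ≫ g₂ ≫ f₁)))).mpr ⟨?_, ?_, ?_⟩
    · exact factor_up (D'.map (g ≫ g₃ ≫ g₂)) (D'.map f₁)
        (by rw [← D'.map_comp]; simp only [Category.assoc]) _ _ νm₁ hm₁
    · exact factor_up (D'.map (g ≫ g₃)) (D'.map (g₂ ≫ f₁))
        (by rw [← D'.map_comp]; simp only [Category.assoc]) _ _ νe₂ he₂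
    · exact factor_up (D'.map g) (D'.map (g₃ ≫ g₂ ≫ f₁))
        (by rw [← D'.map_comp]) _ _ νi₃ hi₃
  refine ⟨?_, ?_⟩
  · obtain ⟨inst, hmon⟩ := part1 k₃ (𝟙 k₃)
    exact ⟨k₃.left, (𝟙 k₃ ≫ g₃ ≫ g₂ ≫ f₁).left, inst, hmon⟩
  · rintro ⟨inst, hmon, hnorm⟩
    obtain ⟨νn, hνn⟩ := (isNormalHom_map_iff' (c.π.app i₀) ι₀).mp hnorm
    obtain ⟨k₄, g₄, νn₄, hn₄⟩ := exists_factor_stage_below (D := D') (c := c') hc' (j := j₀)
      (conjU ι₀) ι₀ νn hνn (g₃ ≫ g₂ ≫ f₁)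
    obtain ⟨inst', hmon'⟩ := part1 k₄ g₄
    refine ⟨k₄.left, (g₄ ≫ g₃ ≫ g₂ ≫ f₁).left, inst', hmon', ?_⟩
    exact (isNormalHom_map_iff' (D'.map (g₄ ≫ g₃ ≫ g₂ ≫ f₁)) ι₀).mpr ⟨νn₄, hn₄⟩

end main

end Groth.Agent.Lib.OverLimH6
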