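import Mathlib
import Groth.Prelude.Def_ActBC
import Groth.Agent.Lib.OverLim8_helper6

/-!
# Group operations whose axioms hold after applying a monoidal functor (helper6)
-/

set_option autoImplicit false
set_option linter.all false
set_option backward.isDefEq.respectTransparency false
universe u
open CategoryTheory CategoryTheory.Limits AlgebraicGeometry MonoidalCategory CartesianMonoidalCategory MonObj

namespace Groth.Agent.Lib.OverLimH6

section pre
universe v₁ u₁ v₂ u₂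
variable {C : Type u₁} [Category.{v₁} C] [CartesianMonoidalCategory C]
  {B : C} (m : B ⊗ B ⟶ B) (e : 𝟙_ C ⟶ B) (iv : B ⟶ B)

/-- The group axioms for a triple of operations. -/
structure IsGrpOps : Prop where
  one_mul : e ▷ B ≫ m = (λ_ B).hom
  mul_one : B ◁ e ≫ m = (ρ_ B).hom
  mul_assoc : m ▷ B ≫ m = (α_ B B B).hom ≫ B ◁ m ≫ m
  left_inv : lift iv (𝟙 B) ≫ m = toUnit B ≫ e
  right_inv : lift (𝟙 B) iv ≫ m = toUnit B ≫ e

variable {m e iv} in
/-- The group object given by operations satisfying the axioms. -/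
@[instance_reducible] def IsGrpOps.grpObj (h : IsGrpOps m e iv) : GrpObj B where
  one := e
  mul := m
  one_mul := h.one_mul
  mul_one := h.mul_one
  mul_assoc := h.mul_assoc
  inv := iv
  left_inv := h.left_inv
  right_inv := h.right_inv

lemma isGrpOps_of_grpObj [inst : GrpObj B] : IsGrpOps μ[B] η[B] ι[B] where
  one_mul := MonObj.one_mul B
  mul_one := MonObj.mul_one B
  mul_assoc := MonObj.mul_assoc B
  left_inv := GrpObj.left_inv B
  right_inv := GrpObj.right_inv B

variable {D' : Type u₂} [Category.{v₂} D'] [CartesianMonoidalCategory D'] (F : C ⥤ D') [F.Monoidal]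

/-- The group axioms hold after applying `F`. -/
structure IsGrpOpsAfter : Prop where
  one_mul : F.map (e ▷ B ≫ m) = F.map (λ_ B).hom
  mul_one : F.map (B ◁ e ≫ m) = F.map (ρ_ B).hom
  mul_assoc : F.map (m ▷ B ≫ m) = F.map ((α_ B B B).hom ≫ B ◁ m ≫ m)
  left_inv : F.map (lift iv (𝟙 B) ≫ m) = F.map (toUnit B ≫ e)
  right_inv : F.map (lift (𝟙 B) iv ≫ m) = F.map (toUnit B ≫ e)

open Functor.LaxMonoidal Functor.Monoidal

lemma ax1_iff : (ε F ≫ F.map e) ▷ F.obj B ≫ «μ» F B B ≫ F.map m = (λ_ (F.obj B)).hom ↔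
    F.map (e ▷ B ≫ m) = F.map (λ_ B).hom := by
  rw [left_unitality F B, comp_whiskerRight, Category.assoc, μ_natural_left_assoc, ← Functor.map_comp,
    cancel_epi, cancel_epi]

lemma ax2_iff : F.obj B ◁ (ε F ≫ F.map e) ≫ «μ» F B B ≫ F.map m = (ρ_ (F.obj B)).hom ↔
    F.map (B ◁ e ≫ m) = F.map (ρ_ B).hom := by
  rw [right_unitality F B, MonoidalCategory.whiskerLeft_comp, Category.assoc, μ_natural_right_assoc,
    ← Functor.map_comp, cancel_epi, cancel_epi]

lemma ax3_iff : («μ» F B B ≫ F.map m) ▷ F.obj B ≫ «μ» F B B ≫ F.map m =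
      (α_ (F.obj B) (F.obj B) (F.obj B)).hom ≫ F.obj B ◁ («μ» F B B ≫ F.map m) ≫ «μ» F B B ≫ F.map m ↔
    F.map (m ▷ B ≫ m) = F.map ((α_ B B B).hom ≫ B ◁ m ≫ m) := by
  rw [comp_whiskerRight, Category.assoc, μ_natural_left_assoc, ← Functor.map_comp,
    MonoidalCategory.whiskerLeft_comp, Category.assoc, μ_natural_right_assoc, ← Functor.map_comp,
    ← associativity_assoc, ← Functor.map_comp, cancel_epi, cancel_epi]

lemma ax4_iff : lift (F.map iv) (𝟙 (F.obj B)) ≫ «μ» F B B ≫ F.map m = toUnit (F.obj B) ≫ ε F ≫ F.map e ↔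
    F.map (lift iv (𝟙 B) ≫ m) = F.map (toUnit B ≫ e) := by
  rw [← F.map_id, lift_μ_assoc, ← Functor.map_comp, toUnit_ε_assoc, ← Functor.map_comp]

lemma ax5_iff : lift (𝟙 (F.obj B)) (F.map iv) ≫ «μ» F B B ≫ F.map m = toUnit (F.obj B) ≫ ε F ≫ F.map e ↔
    F.map (lift (𝟙 B) iv ≫ m) = F.map (toUnit B ≫ e) := by
  rw [← F.map_id, lift_μ_assoc, ← Functor.map_comp, toUnit_ε_assoc, ← Functor.map_comp]

lemma isGrpOps_map_iff :
    IsGrpOps («μ» F B B ≫ F.map m) (ε F ≫ F.map e) (F.map iv) ↔ IsGrpOpsAfter m e iv F := by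
  constructor
  · intro h
    exact ⟨(ax1_iff m e F).mp h.one_mul, (ax2_iff m e F).mp h.mul_one, (ax3_iff m F).mp h.mul_assoc,
      (ax4_iff m e iv F).mp h.left_inv, (ax5_iff m e iv F).mp h.right_inv⟩
  · intro h
    exact ⟨(ax1_iff m e F).mpr h.one_mul, (ax2_iff m e F).mpr h.mul_one, (ax3_iff m F).mpr h.mul_assoc,
      (ax4_iff m e iv F).mpr h.left_inv, (ax5_iff m e iv F).mpr h.right_inv⟩

end pre

end Groth.Agent.Lib.OverLimH6
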