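import Mathlib
import Groth.Prelude.Def_ActBC
import Groth.Agent.Lib.OverLim9_helper6

/-!
# Monoidality of `bcCompIso`, descent of morphisms below a given stage (helper6)
-/

set_option autoImplicit false
set_option linter.all false
set_option backward.isDefEq.respectTransparency false
universe u
open CategoryTheory CategoryTheory.Limits AlgebraicGeometry MonoidalCategory CartesianMonoidalCategory MonObj

namespace Groth.Agent.Lib.OverLimH6

section mon
variable {S S' S'' : Scheme.{u}} (f : S'' ⟶ S') (g : S' ⟶ S) {d : S'' ⟶ S} (h : f ≫ g = d)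
  (X Y : Over S)

open Functor.LaxMonoidal in
/-- `bcCompIso` is a monoidal natural isomorphism. -/
lemma bcCompIso_monoidal :
    «μ» (Over.pullback f) (Red.bc g X) (Red.bc g Y) ≫ (Over.pullback f).map («μ» (Over.pullback g) X Y) ≫
        (ActBC.bcCompIso f g (X ⊗ Y) h).hom =
      ((ActBC.bcCompIso f g X h).hom ⊗ₘ (ActBC.bcCompIso f g Y h).hom) ≫ «μ» (Over.pullback d) X Y := by
  ext
  apply pullback.hom_ext
  · simp only [Over.comp_left, Category.assoc, ActBC.bcCompIso_hom_left_fst,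
      ActBC.pullback_map_left_fst_assoc]
    apply pullback.hom_ext
    · simp only [Category.assoc]
      rw [ActBC.μ_left_fst_fst, ActBC.μ_left_fst_fst_assoc, ActBC.μ_left_fst_fst,
        ActBC.tensorHom_left_fst'_assoc, ActBC.bcCompIso_hom_left_fst]
    · simp only [Category.assoc]
      rw [ActBC.μ_left_fst_snd, ActBC.μ_left_fst_snd_assoc, ActBC.μ_left_fst_snd,
        ActBC.tensorHom_left_snd'_assoc, ActBC.bcCompIso_hom_left_fst]
  · exact (Over.w _).trans (Over.w _).symm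

end mon

section lim
variable {I : Type u} [SmallCategory I] [IsCofiltered I] {D : I ⥤ Scheme.{u}} {c : Cone D}
  [∀ (i i' : I) (f : i ⟶ i'), IsAffineHom (D.map f)]

theorem exists_map_eq_conj_below (hc : IsLimit c) [∀ i, CompactSpace (D.obj i)]
    [∀ i, QuasiSeparatedSpace (D.obj i)] {j : I} {X Y : Over (D.obj j)}
    [QuasiCompact X.hom] [QuasiSeparated X.hom] [LocallyOfFinitePresentation Y.hom]
    (u : Red.bc (c.π.app j) X ⟶ Red.bc (c.π.app j) Y) {k₀ : I} (f₀ : k₀ ⟶ j) :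
    ∃ (i : I) (g : i ⟶ k₀) (ui : Red.bc (D.map (g ≫ f₀)) X ⟶ Red.bc (D.map (g ≫ f₀)) Y),
      (Over.pullback (c.π.app i)).map ui =
        (ActBC.bcCompIso (c.π.app i) (D.map (g ≫ f₀)) X (c.w (g ≫ f₀))).hom ≫ u ≫
          (ActBC.bcCompIso (c.π.app i) (D.map (g ≫ f₀)) Y (c.w (g ≫ f₀))).inv := by
  obtain ⟨i₁, f₁, u₁, h₁⟩ := exists_map_eq_conj hc u
  obtain ⟨i, a', g, hag⟩ := IsCofiltered.cospan f₁ f₀
  refine ⟨i, g, ?_⟩
  rw [← hag]
  exact ⟨_, conj_restrict f₁ a' u u₁ h₁⟩

/-- Restriction of a descended morphism to a later stage. -/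
theorem exists_conj_restrict {j i i' : I} (f : i ⟶ j) (g : i' ⟶ i) {X Y : Over (D.obj j)}
    (u : Red.bc (c.π.app j) X ⟶ Red.bc (c.π.app j) Y)
    (ui : Red.bc (D.map f) X ⟶ Red.bc (D.map f) Y)
    (hui : (Over.pullback (c.π.app i)).map ui =
        (ActBC.bcCompIso (c.π.app i) (D.map f) X (c.w f)).hom ≫ u ≫
          (ActBC.bcCompIso (c.π.app i) (D.map f) Y (c.w f)).inv)
    {d : i' ⟶ j} (hd : g ≫ f = d) :
    ∃ ui' : Red.bc (D.map d) X ⟶ Red.bc (D.map d) Y,
      (Over.pullback (c.π.app i')).map ui' =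
        (ActBC.bcCompIso (c.π.app i') (D.map d) X (c.w d)).hom ≫ u ≫
          (ActBC.bcCompIso (c.π.app i') (D.map d) Y (c.w d)).inv := by
  subst hd
  exact ⟨_, conj_restrict f g u ui hui⟩

end lim

end Groth.Agent.Lib.OverLimH6
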