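import Mathlib
import Groth.Prelude.Def_ActBC
import Groth.Agent.Lib.OverLim10_helper6
import Groth.Agent.Lib.LimDescFP2_helper7

/-!
# S6085: descent of finitely presented group schemes along cofiltered limits (helper6)
-/

set_option autoImplicit false
set_option linter.all false
set_option backward.isDefEq.respectTransparency false
universe u
open CategoryTheory CategoryTheory.Limits AlgebraicGeometry MonoidalCategory CartesianMonoidalCategory MonObj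

namespace Groth.Agent.Lib.OverLimH6

section inst
variable {S : Scheme.{u}}

instance unit_quasiCompact : QuasiCompact (𝟙_ (Over S)).hom := by
  change @QuasiCompact S S (𝟙 _); infer_instance

instance unit_quasiSeparated : QuasiSeparated (𝟙_ (Over S)).hom := by
  change @QuasiSeparated S S (𝟙 _); infer_instance

end inst

section lim
variable {I : Type u} [SmallCategory I] [IsCofiltered I] {D : I ⥤ Scheme.{u}} {c : Cone D}
  [∀ (i i' : I) (f : i ⟶ i'), IsAffineHom (D.map f)]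

theorem exists_map_eq_of_map_eq_below (hc : IsLimit c) {i : I} {X Y : Over (D.obj i)}
    [CompactSpace X.left] [LocallyOfFiniteType Y.hom] (u₁ u₂ : X ⟶ Y)
    (h : (Over.pullback (c.π.app i)).map u₁ = (Over.pullback (c.π.app i)).map u₂)
    {k₀ : I} (f₀ : k₀ ⟶ i) :
    ∃ (i' : I) (g : i' ⟶ k₀),
      (Over.pullback (D.map (g ≫ f₀))).map u₁ = (Over.pullback (D.map (g ≫ f₀))).map u₂ := by
  obtain ⟨i₁, f₁, h₁⟩ := exists_map_eq_of_map_eq hc u₁ u₂ h
  obtain ⟨i', a', g, hag⟩ := IsCofiltered.cospan f₁ f₀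
  exact ⟨i', g, eq_up (D.map a') (D.map f₁) (by rw [← D.map_comp, hag]) _ _ h₁⟩

theorem exists_isGrpOpsAfter_stage (hc : IsLimit c) {i : I} [CompactSpace (D.obj i)]
    {B : Over (D.obj i)} [QuasiCompact B.hom] [LocallyOfFiniteType B.hom]
    (m : B ⊗ B ⟶ B) (e : 𝟙_ (Over (D.obj i)) ⟶ B) (iv : B ⟶ B)
    (h : IsGrpOpsAfter m e iv (Over.pullback (c.π.app i))) :
    ∃ (i' : I) (g : i' ⟶ i), IsGrpOpsAfter m e iv (Over.pullback (D.map g)) := by
  haveI : CompactSpace B.left := compactSpace_left B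
  haveI : CompactSpace (𝟙_ (Over (D.obj i)) ⊗ B).left := compactSpace_left _
  haveI : CompactSpace (B ⊗ 𝟙_ (Over (D.obj i))).left := compactSpace_left _
  haveI : CompactSpace ((B ⊗ B) ⊗ B).left := compactSpace_left _
  obtain ⟨k₁, f₁, h₁⟩ := exists_map_eq_of_map_eq hc _ _ h.one_mul
  obtain ⟨k₂, g₂, h₂⟩ := exists_map_eq_of_map_eq_below hc _ _ h.mul_one f₁
  obtain ⟨k₃, g₃, h₃⟩ := exists_map_eq_of_map_eq_below hc _ _ h.mul_assoc (g₂ ≫ f₁)
  obtain ⟨k₄, g₄, h₄⟩ := exists_map_eq_of_map_eq_below hc _ _ h.left_inv (g₃ ≫ g₂ ≫ f₁)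
  obtain ⟨k₅, g₅, h₅⟩ := exists_map_eq_of_map_eq_below hc _ _ h.right_inv (g₄ ≫ g₃ ≫ g₂ ≫ f₁)
  refine ⟨k₅, g₅ ≫ g₄ ≫ g₃ ≫ g₂ ≫ f₁, ?_, ?_, ?_, ?_, ?_⟩
  · exact eq_up (D.map (g₅ ≫ g₄ ≫ g₃ ≫ g₂)) (D.map f₁)
      (by rw [← D.map_comp]; simp only [Category.assoc]) _ _ h₁
  · exact eq_up (D.map (g₅ ≫ g₄ ≫ g₃)) (D.map (g₂ ≫ f₁))
      (by rw [← D.map_comp]; simp only [Category.assoc]) _ _ h₂
  · exact eq_up (D.map (g₅ ≫ g₄)) (D.map (g₃ ≫ g₂ ≫ f₁))
      (by rw [← D.map_comp]; simp only [Category.assoc]) _ _ h₃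
  · exact eq_up (D.map g₅) (D.map (g₄ ≫ g₃ ≫ g₂ ≫ f₁))
      (by rw [← D.map_comp]) _ _ h₄
  · exact h₅

end lim

end Groth.Agent.Lib.OverLimH6
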