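import Mathlib
import Groth.Prelude.Def_ActBC
import Groth.Agent.Lib.OverLim11_helper6

/-!
# S6085: descent of finitely presented group schemes along cofiltered limits — main theorem (helper6)
-/

set_option autoImplicit false
set_option linter.all false
set_option backward.isDefEq.respectTransparency false
universe u
open CategoryTheory CategoryTheory.Limits AlgebraicGeometry MonoidalCategory CartesianMonoidalCategory MonObj

namespace Groth.Agent.Lib.OverLimH6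

section step
variable {S S' S'' : Scheme.{u}} (p : S'' ⟶ S') (t : S' ⟶ S) {d : S'' ⟶ S} (h : p ≫ t = d)
  {Y₀ : Over S} [instA : GrpObj (Red.bc d Y₀)]

open Functor.LaxMonoidal Functor.OplaxMonoidal Functor.Monoidal

/-- Operations at an intermediate stage compatible with a group structure over the top stage satisfy the group axioms
after base change to the top stage. -/
theorem isGrpOpsAfter_of_compat
    (mk : Red.bc t (Y₀ ⊗ Y₀) ⟶ Red.bc t Y₀) (ek : Red.bc t (𝟙_ (Over S)) ⟶ Red.bc t Y₀)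
    (iv : Red.bc t Y₀ ⟶ Red.bc t Y₀)
    (hmk : (Over.pullback p).map mk = (ActBC.bcCompIso p t (Y₀ ⊗ Y₀) h).hom ≫
      (δ (Over.pullback d) Y₀ Y₀ ≫ μ[Red.bc d Y₀]) ≫ (ActBC.bcCompIso p t Y₀ h).inv)
    (hek : (Over.pullback p).map ek = (ActBC.bcCompIso p t (𝟙_ (Over S)) h).hom ≫
      (Functor.OplaxMonoidal.η (Over.pullback d) ≫ η[Red.bc d Y₀]) ≫ (ActBC.bcCompIso p t Y₀ h).inv)
    (hiv : (Over.pullback p).map iv = (ActBC.bcCompIso p t Y₀ h).hom ≫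
      ι[Red.bc d Y₀] ≫ (ActBC.bcCompIso p t Y₀ h).inv) :
    IsGrpOpsAfter («μ» (Over.pullback t) Y₀ Y₀ ≫ mk) (ε (Over.pullback t) ≫ ek) iv (Over.pullback p) ∧
    ((«μ» (Over.pullback p) (Red.bc t Y₀) (Red.bc t Y₀) ≫
        (Over.pullback p).map («μ» (Over.pullback t) Y₀ Y₀ ≫ mk)) ≫ (ActBC.bcCompIso p t Y₀ h).hom =
      ((ActBC.bcCompIso p t Y₀ h).hom ⊗ₘ (ActBC.bcCompIso p t Y₀ h).hom) ≫ μ[Red.bc d Y₀]) := by
  set β := ActBC.bcCompIso p t Y₀ h with hβ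
  have hm' : («μ» (Over.pullback p) (Red.bc t Y₀) (Red.bc t Y₀) ≫
        (Over.pullback p).map («μ» (Over.pullback t) Y₀ Y₀ ≫ mk)) ≫ β.hom =
      (β.hom ⊗ₘ β.hom) ≫ μ[Red.bc d Y₀] := by
    rw [Functor.map_comp, hmk]
    simp only [Category.assoc, Iso.inv_hom_id, Category.comp_id]
    rw [reassoc_of% (bcCompIso_monoidal p t h Y₀ Y₀), μ_δ_assoc]
  have he' : (ε (Over.pullback p) ≫ (Over.pullback p).map (ε (Over.pullback t) ≫ ek)) ≫ β.hom =
      η[Red.bc d Y₀] := by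
    rw [Functor.map_comp, hek]
    simp only [Category.assoc, Iso.inv_hom_id, Category.comp_id]
    have : ε (Over.pullback p) ≫ (Over.pullback p).map (ε (Over.pullback t)) ≫
        (ActBC.bcCompIso p t (𝟙_ (Over S)) h).hom ≫ Functor.OplaxMonoidal.η (Over.pullback d) = 𝟙 _ :=
      toUnit_unique _ _
    rw [reassoc_of% this]
  have hiv' : (Over.pullback p).map iv ≫ β.hom = β.hom ≫ ι[Red.bc d Y₀] := by
    rw [hiv]
    simp only [Category.assoc, Iso.inv_hom_id, Category.comp_id]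
  refine ⟨?_, hm'⟩
  letI inst' : GrpObj ((Over.pullback p).obj (Red.bc t Y₀)) := subGrpObj β.hom _ hm' _ he' _ hiv'
  exact (isGrpOps_map_iff _ _ _ (Over.pullback p)).mp (isGrpOps_of_grpObj (inst := inst'))

end step

section lim
variable {I : Type u} [SmallCategory I] [IsCofiltered I] {D : I ⥤ Scheme.{u}} {c : Cone D}
  [∀ (i i' : I) (f : i ⟶ i'), IsAffineHom (D.map f)]

open Functor.LaxMonoidal Functor.OplaxMonoidal Functor.Monoidal

theorem main6085 (hc : IsLimit c) [∀ i, CompactSpace (D.obj i)] [∀ i, QuasiSeparatedSpace (D.obj i)]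
    (G : Over c.pt) [GrpObj G] [LocallyOfFinitePresentation G.hom] [QuasiCompact G.hom]
    [QuasiSeparated G.hom] :
    ∃ (j : I) (Gj : Over (D.obj j)) (_ : GrpObj Gj) (e : G ≅ Red.bc (c.π.app j) Gj),
      IsMonHom e.hom ∧ LocallyOfFinitePresentation Gj.hom ∧ QuasiCompact Gj.hom ∧
        QuasiSeparated Gj.hom := by
  obtain ⟨j₀, X₀, f₀, g₀, hlfp, hqc, hqs, hpb⟩ :=
    Groth.Agent.Lib.LimDescFPH7.main591 hc G.left G.hom
  let Y₀ : Over (D.obj j₀) := Over.mk f₀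
  haveI : LocallyOfFinitePresentation Y₀.hom := hlfp
  haveI : QuasiCompact Y₀.hom := hqc
  haveI : QuasiSeparated Y₀.hom := hqs
  let e₀ : G ≅ Red.bc (c.π.app j₀) Y₀ :=
    Over.isoMk hpb.isoPullback (by exact hpb.isoPullback_hom_snd)
  letI instA : GrpObj (Red.bc (c.π.app j₀) Y₀) := GrpObj.ofIso e₀
  haveI he₀ : IsMonHom e₀.hom := isMonHom_ofIso e₀
  -- descend the operations
  obtain ⟨k₁, t₁, m₁, hm₁⟩ := exists_map_eq_conj hc
    (δ (Over.pullback (c.π.app j₀)) Y₀ Y₀ ≫ μ[Red.bc (c.π.app j₀) Y₀])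
  obtain ⟨k₂, g₂, e₂, he₂⟩ := exists_map_eq_conj_below hc
    (Functor.OplaxMonoidal.η (Over.pullback (c.π.app j₀)) ≫ η[Red.bc (c.π.app j₀) Y₀]) t₁
  obtain ⟨k₃, g₃, iv₃, hiv₃⟩ := exists_map_eq_conj_below hc ι[Red.bc (c.π.app j₀) Y₀] (g₂ ≫ t₁)
  obtain ⟨mk, hmk⟩ := exists_conj_restrict t₁ (g₃ ≫ g₂) _ m₁ hm₁ (d := g₃ ≫ g₂ ≫ t₁)
    (by simp only [Category.assoc])
  obtain ⟨ek, hek⟩ := exists_conj_restrict (g₂ ≫ t₁) g₃ _ e₂ he₂ (d := g₃ ≫ g₂ ≫ t₁) rfl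
  -- axioms after base change to the limit
  obtain ⟨hafter, hm'⟩ := isGrpOpsAfter_of_compat (c.π.app k₃) (D.map (g₃ ≫ g₂ ≫ t₁)) (c.w (g₃ ≫ g₂ ≫ t₁)) mk ek iv₃ hmk hek hiv₃
  haveI : CompactSpace (D.obj k₃) := inferInstance
  obtain ⟨k', g, hstage⟩ := exists_isGrpOpsAfter_stage hc _ _ _ hafter
  -- the group object at stage `k'`
  let B : Over (D.obj k₃) := Red.bc (D.map (g₃ ≫ g₂ ≫ t₁)) Y₀
  let Gj : Over (D.obj k') := Red.bc (D.map g) B
  letI instGj : GrpObj Gj := ((isGrpOps_map_iff _ _ _ (Over.pullback (D.map g))).mpr hstage).grpObj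
  let β' := ActBC.bcCompIso (c.π.app k') (D.map g) B (c.w g)
  let β := ActBC.bcCompIso (c.π.app k₃) (D.map (g₃ ≫ g₂ ≫ t₁)) Y₀ (c.w (g₃ ≫ g₂ ≫ t₁))
  let θ : Red.bc (c.π.app k') Gj ≅ Red.bc (c.π.app j₀) Y₀ := β' ≪≫ β
  have hθ : IsMonHom θ.hom := by
    apply isMonHom_of_mul_hom
    have hN := ActBC.bcCompIso_hom_naturality (c.π.app k') (D.map g) (c.w g)
      («μ» (Over.pullback (D.map (g₃ ≫ g₂ ≫ t₁))) Y₀ Y₀ ≫ mk)
    have hM := bcCompIso_monoidal (c.π.app k') (D.map g) (c.w g) B B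
    change («μ» (Over.pullback (c.π.app k')) Gj Gj ≫ (Over.pullback (c.π.app k')).map
      («μ» (Over.pullback (D.map g)) B B ≫ (Over.pullback (D.map g)).map
        («μ» (Over.pullback (D.map (g₃ ≫ g₂ ≫ t₁))) Y₀ Y₀ ≫ mk))) ≫ β'.hom ≫ β.hom =
      ((β'.hom ≫ β.hom) ⊗ₘ (β'.hom ≫ β.hom)) ≫ μ[Red.bc (c.π.app j₀) Y₀]
    rw [(Over.pullback (c.π.app k')).map_comp]
    simp only [Category.assoc]
    rw [reassoc_of% hN, reassoc_of% hM, ← tensorHom_comp_tensorHom, Category.assoc, ← hm']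
    simp only [Category.assoc]
    rfl
  haveI := hθ
  refine ⟨k', Gj, instGj, e₀ ≪≫ θ.symm, ?_, inferInstance, inferInstance, inferInstance⟩
  change IsMonHom (e₀.hom ≫ θ.inv)
  infer_instance

end lim

end Groth.Agent.Lib.OverLimH6
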