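import Mathlib
import Groth.Prelude.Def_ActBC
import Groth.Agent.Lib.OverLim12_helper6

/-!
# Descent of isomorphisms; covers going up (helper6)
-/

set_option autoImplicit false
set_option linter.all false
set_option backward.isDefEq.respectTransparency false
universe u
open CategoryTheory CategoryTheory.Limits AlgebraicGeometry MonoidalCategory CartesianMonoidalCategory MonObj

namespace Groth.Agent.Lib.OverLimH6

section up
variable {S S' S'' : Scheme.{u}} (e : S'' ⟶ S') (f : S' ⟶ S) {d : S'' ⟶ S} (h : e ≫ f = d)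
  {X Y : Over S}

include h in
lemma isIso_up' (v : X ⟶ Y) (hv : IsIso ((Over.pullback e).map ((Over.pullback f).map v))) :
    IsIso ((Over.pullback d).map v) := by
  rw [map_eq_conj e f h v]
  infer_instance

include h in
lemma isIso_up (v : X ⟶ Y) (hv : IsIso ((Over.pullback f).map v)) : IsIso ((Over.pullback d).map v) :=
  isIso_up' e f h v inferInstance

include h in
/-- A cover of the base factoring through the base change of `X` at stage `f` gives one at stage `d = e ≫ f`. -/
lemma cover_up (X : Over S)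
    (hcov : ∃ (Z : Scheme.{u}) (v : Z ⟶ S') (w : Z ⟶ (Red.bc f X).left), w ≫ (Red.bc f X).hom = v ∧
      Flat v ∧ Surjective v ∧ LocallyOfFinitePresentation v ∧ QuasiCompact v ∧ QuasiSeparated v) :
    ∃ (Z : Scheme.{u}) (v : Z ⟶ S'') (w : Z ⟶ (Red.bc d X).left), w ≫ (Red.bc d X).hom = v ∧
      Flat v ∧ Surjective v ∧ LocallyOfFinitePresentation v ∧ QuasiCompact v ∧ QuasiSeparated v := by
  obtain ⟨Z, v, w, hw, h1, h2, h3, h4, h5⟩ := hcov
  have hw' : w ≫ pullback.snd X.hom f = v := hw
  refine ⟨pullback v e, pullback.snd v e,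
    pullback.lift (pullback.fst v e ≫ w ≫ pullback.fst X.hom f) (pullback.snd v e) ?_, ?_,
    inferInstance, inferInstance, inferInstance, inferInstance, inferInstance⟩
  · rw [Category.assoc, Category.assoc, pullback.condition, reassoc_of% hw', pullback.condition_assoc, h]
  · exact pullback.lift_snd _ _ _

end up

section lim
variable {I : Type u} [SmallCategory I] [IsCofiltered I] {D : I ⥤ Scheme.{u}} {c : Cone D}
  [∀ (i i' : I) (f : i ⟶ i'), IsAffineHom (D.map f)]

theorem exists_isIso_stage (hc : IsLimit c) [∀ i, CompactSpace (D.obj i)]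
    [∀ i, QuasiSeparatedSpace (D.obj i)] {j : I} {X Y : Over (D.obj j)}
    [QuasiCompact X.hom] [LocallyOfFinitePresentation X.hom]
    [QuasiCompact Y.hom] [QuasiSeparated Y.hom] [LocallyOfFiniteType Y.hom] (v : X ⟶ Y)
    (hv : IsIso ((Over.pullback (c.π.app j)).map v)) :
    ∃ (i : I) (f : i ⟶ j), IsIso ((Over.pullback (D.map f)).map v) := by
  haveI := hv
  obtain ⟨i₁, f₁, ν₁, hν₁⟩ := exists_factor_stage hc (𝟙 Y) v (inv ((Over.pullback (c.π.app j)).map v))
    (by rw [IsIso.inv_hom_id, CategoryTheory.Functor.map_id])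
  rw [CategoryTheory.Functor.map_id] at hν₁
  haveI : CompactSpace (Red.bc (D.map f₁) X).left := bc_compactSpace _ _
  have hiso₁ : IsIso ((Over.pullback (c.π.app i₁)).map ((Over.pullback (D.map f₁)).map v)) := by
    have := map_eq_conj (c.π.app i₁) (D.map f₁) (c.w f₁) v
    rw [Iso.eq_inv_comp, ← Iso.comp_inv_eq] at this
    rw [← this]
    infer_instance
  have hkey : (Over.pullback (c.π.app i₁)).map ((Over.pullback (D.map f₁)).map v ≫ ν₁) =
      (Over.pullback (c.π.app i₁)).map (𝟙 _) := by
    haveI := hiso₁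
    rw [Functor.map_comp, CategoryTheory.Functor.map_id]
    have h1 : (Over.pullback (c.π.app i₁)).map ν₁ ≫
        (Over.pullback (c.π.app i₁)).map ((Over.pullback (D.map f₁)).map v) = 𝟙 _ := by
      rw [← Functor.map_comp, hν₁, CategoryTheory.Functor.map_id]
    have h2 : (Over.pullback (c.π.app i₁)).map ν₁ =
        inv ((Over.pullback (c.π.app i₁)).map ((Over.pullback (D.map f₁)).map v)) :=
      IsIso.eq_inv_of_inv_hom_id h1
    rw [h2, IsIso.hom_inv_id]
  obtain ⟨i₂, g, hg⟩ := exists_map_eq_of_map_eq hc _ _ hkey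
  refine ⟨i₂, g ≫ f₁, ?_⟩
  apply isIso_up' (D.map g) (D.map f₁) (D.map_comp g f₁).symm
  -- `F_g (F_{f₁} v)` is an isomorphism with inverse `F_g ν₁`
  refine ⟨⟨(Over.pullback (D.map g)).map ν₁, ?_, ?_⟩⟩
  · rw [← Functor.map_comp, hg, CategoryTheory.Functor.map_id]
  · rw [← Functor.map_comp, hν₁, CategoryTheory.Functor.map_id]

end lim

end Groth.Agent.Lib.OverLimH6
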