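import Mathlib
import Groth.Prelude.Def_ActBC
import Groth.Agent.Lib.OverLim13_helper6
import Groth.Agent.Lib.LimDescFP3_helper7
import Groth.Agent.Lib.LimSurj_helper7

/-!
# S6092: torsors over a cofiltered limit (helper6)
-/

set_option autoImplicit false
set_option linter.all false
set_option backward.isDefEq.respectTransparency false
universe u
open CategoryTheory CategoryTheory.Limits AlgebraicGeometry MonoidalCategory CartesianMonoidalCategory MonObj

namespace Groth.Agent.Lib.OverLimH6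

section psi
variable {S S' : Scheme.{u}} (g : S' ⟶ S) {G X : Over S} (act : G ⊗ X ⟶ X)

open Functor.LaxMonoidal Functor.OplaxMonoidal Functor.Monoidal

lemma lift_μ_act_eq :
    lift («μ» (Over.pullback g) G X ≫ (Over.pullback g).map act) (snd (Red.bc g G) (Red.bc g X)) =
      «μ» (Over.pullback g) G X ≫ (Over.pullback g).map (lift act (snd G X)) ≫
        δ (Over.pullback g) X X := by
  apply CartesianMonoidalCategory.hom_ext
  · rw [lift_fst, Category.assoc, Category.assoc, δ_fst, ← Functor.map_comp, lift_fst]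
  · rw [lift_snd, Category.assoc, Category.assoc, δ_snd, ← Functor.map_comp, lift_snd, μ_snd]

lemma isIso_lift_iff :
    IsIso (lift («μ» (Over.pullback g) G X ≫ (Over.pullback g).map act)
        (snd (Red.bc g G) (Red.bc g X))) ↔
      IsIso ((Over.pullback g).map (lift act (snd G X))) := by
  rw [lift_μ_act_eq, isIso_comp_left_iff, isIso_comp_right_iff]

end psi

section lim
variable {I : Type u} [SmallCategory I] [IsCofiltered I]

open Groth.Agent.Lib.LimDescFPH7 Groth.Agent.Lib.LimIsoH7 in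
/-- Descent of an fppf cover factoring through a base change. -/
theorem exists_cover_stage (D : I ⥤ Scheme.{u}) (c : Cone D) (hc : IsLimit c)
    [∀ (i i' : I) (f : i ⟶ i'), IsAffineHom (D.map f)]
    [∀ i, CompactSpace (D.obj i)] [∀ i, QuasiSeparatedSpace (D.obj i)]
    (j : I) (X : Over (D.obj j)) [LocallyOfFinitePresentation X.hom]
    (hcov : ∃ (Z : Scheme.{u}) (v : Z ⟶ c.pt) (w : Z ⟶ (Red.bc (c.π.app j) X).left),
      w ≫ (Red.bc (c.π.app j) X).hom = v ∧
      Flat v ∧ Surjective v ∧ LocallyOfFinitePresentation v ∧ QuasiCompact v ∧ QuasiSeparated v) :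
    ∃ (k : I) (ψ : k ⟶ j) (Z : Scheme.{u}) (v : Z ⟶ D.obj k) (w : Z ⟶ (Red.bc (D.map ψ) X).left),
      w ≫ (Red.bc (D.map ψ) X).hom = v ∧
      Flat v ∧ Surjective v ∧ LocallyOfFinitePresentation v ∧ QuasiCompact v ∧ QuasiSeparated v := by
  obtain ⟨Z, v, w, hw, hfl, hsj, hlfp, hqc, hqs⟩ := hcov
  haveI := hfl; haveI := hsj; haveI := hlfp; haveI := hqc; haveI := hqs
  obtain ⟨j', φ, Zj, vj, q, h1, h2, h3, h4, hpb⟩ :=
    exists_descend_with descendsProp_flat D c hc j v hfl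
  haveI := h1; haveI := h2; haveI := h3
  haveI : Flat vj := h4
  have hsurj0 : Surjective (pullback.snd vj (c.π.app j')) := by
    have e1 : hpb.isoPullback.hom ≫ pullback.snd vj (c.π.app j') = v := hpb.isoPullback_hom_snd
    have e2 : pullback.snd vj (c.π.app j') = hpb.isoPullback.inv ≫ v :=
      ((Iso.inv_comp_eq _).mpr e1.symm).symm
    rw [e2]
    infer_instance
  obtain ⟨j₁, φ₁, hs₁⟩ := exists_snd_of_compact (P := @Surjective)
    (H := fun f => LocallyOfFinitePresentation f ∧ QuasiCompact f ∧ QuasiSeparated f)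
    Groth.Agent.Lib.LimSurjH7.affineStage_surjective
    (fun f g h => by
      obtain ⟨a1, a2, a3⟩ := h
      exact ⟨inferInstance, inferInstance, inferInstance⟩)
    D c hc j' vj ⟨inferInstance, inferInstance, inferInstance⟩ hsurj0
  haveI := hs₁
  let 𝒵₀ : Over (D.obj j') := Over.mk vj
  haveI : LocallyOfFinitePresentation 𝒵₀.hom := h1
  haveI : QuasiCompact 𝒵₀.hom := h2
  haveI : QuasiSeparated 𝒵₀.hom := h3
  haveI : Flat 𝒵₀.hom := h4
  let 𝒵 : Over (D.obj j₁) := Red.bc (D.map φ₁) 𝒵₀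
  haveI : Flat 𝒵.hom := by change Flat (pullback.snd vj (D.map φ₁)); infer_instance
  haveI : Surjective 𝒵.hom := hs₁
  let ψ : j₁ ⟶ j := φ₁ ≫ φ
  let X₁ : Over (D.obj j₁) := Red.bc (D.map ψ) X
  -- the morphism over the limit
  let eZ : Over.mk v ≅ Red.bc (c.π.app j') 𝒵₀ :=
    Over.isoMk hpb.isoPullback (by exact hpb.isoPullback_hom_snd)
  let wO : Over.mk v ⟶ Red.bc (c.π.app j) X := Over.homMk w hw
  let u : Red.bc (c.π.app j₁) 𝒵 ⟶ Red.bc (c.π.app j₁) X₁ :=
    (ActBC.bcCompIso (c.π.app j₁) (D.map φ₁) 𝒵₀ (c.w φ₁)).hom ≫ eZ.inv ≫ wO ≫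
      (ActBC.bcCompIso (c.π.app j₁) (D.map ψ) X (c.w ψ)).inv
  obtain ⟨k, f, uk, -⟩ := exists_map_eq_conj hc u
  let β := ActBC.bcCompIso (D.map f) (D.map ψ) X (D.map_comp f ψ).symm
  refine ⟨k, f ≫ ψ, (Red.bc (D.map f) 𝒵).left, (Red.bc (D.map f) 𝒵).hom, uk.left ≫ β.hom.left, ?_,
    ?_, ?_, inferInstance, inferInstance, inferInstance⟩
  · rw [Category.assoc, Over.w β.hom, Over.w uk]
  · change Flat (pullback.snd 𝒵.hom (D.map f)); infer_instance
  · change Surjective (pullback.snd 𝒵.hom (D.map f)); infer_instance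

theorem main6092 (D : I ⥤ Scheme.{u}) (c : Limits.Cone D) (hc : Limits.IsLimit c)
    [∀ (i i' : I) (f : i ⟶ i'), IsAffineHom (D.map f)] [∀ i, CompactSpace (D.obj i)] [∀ i, QuasiSeparatedSpace (D.obj i)]
    (j : I) (Gj Xj : Over (D.obj j)) [GrpObj Gj] (act : AlgGrp.Action Gj Xj)
    [LocallyOfFinitePresentation Gj.hom] [QuasiCompact Gj.hom] [QuasiSeparated Gj.hom]
    [LocallyOfFinitePresentation Xj.hom] [QuasiCompact Xj.hom] [QuasiSeparated Xj.hom] :
    (IsIso (lift (Functor.LaxMonoidal.μ (Over.pullback (c.π.app j)) Gj Xj ≫ (Over.pullback (c.π.app j)).map act.act) (snd (Red.bc (c.π.app j) Gj) (Red.bc (c.π.app j) Xj))) ∧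
        ∃ (Z : Scheme.{u}) (v : Z ⟶ c.pt) (w : Z ⟶ (Red.bc (c.π.app j) Xj).left), w ≫ (Red.bc (c.π.app j) Xj).hom = v ∧
          Flat v ∧ Surjective v ∧ LocallyOfFinitePresentation v ∧ QuasiCompact v ∧ QuasiSeparated v) ↔
    ∃ (i : I) (f : i ⟶ j), (IsIso (lift (Functor.LaxMonoidal.μ (Over.pullback (D.map f)) Gj Xj ≫ (Over.pullback (D.map f)).map act.act) (snd (Red.bc (D.map f) Gj) (Red.bc (D.map f) Xj))) ∧
        ∃ (Z : Scheme.{u}) (v : Z ⟶ (D.obj i)) (w : Z ⟶ (Red.bc (D.map f) Xj).left), w ≫ (Red.bc (D.map f) Xj).hom = v ∧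
          Flat v ∧ Surjective v ∧ LocallyOfFinitePresentation v ∧ QuasiCompact v ∧ QuasiSeparated v) := by
  constructor
  · rintro ⟨hiso, hcov⟩
    rw [isIso_lift_iff] at hiso
    obtain ⟨i₁, f₁, h₁⟩ := exists_isIso_stage hc (lift act.act (snd Gj Xj)) hiso
    obtain ⟨k₂, ψ₂, hcov₂⟩ := exists_cover_stage D c hc j Xj hcov
    obtain ⟨i, a, b, hab⟩ := IsCofiltered.cospan f₁ ψ₂
    refine ⟨i, a ≫ f₁, ?_, ?_⟩
    · rw [isIso_lift_iff]
      exact isIso_up (D.map a) (D.map f₁) (D.map_comp a f₁).symm _ h₁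
    · exact cover_up (D.map b) (D.map ψ₂) (by rw [← D.map_comp, hab]) Xj hcov₂
  · rintro ⟨i, f, hiso, hcov⟩
    rw [isIso_lift_iff] at hiso
    refine ⟨?_, ?_⟩
    · rw [isIso_lift_iff]
      exact isIso_up (c.π.app i) (D.map f) (c.w f) _ hiso
    · exact cover_up (c.π.app i) (D.map f) (c.w f) Xj hcov

end lim

end Groth.Agent.Lib.OverLimH6
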