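import Mathlib
import Groth.Prelude.Def_ActBC
import Groth.Agent.Lib.OverLim14_helper6

/-!
# Action operations whose axioms hold after applying a monoidal functor (helper6)
-/

set_option autoImplicit false
set_option linter.all false
set_option backward.isDefEq.respectTransparency false
universe u
open CategoryTheory CategoryTheory.Limits AlgebraicGeometry MonoidalCategory CartesianMonoidalCategory MonObj

namespace Groth.Agent.Lib.OverLimH6

section pre
universe v₁ u₁ v₂ u₂
variable {C : Type u₁} [Category.{v₁} C] [CartesianMonoidalCategory C]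
  {G V : C} (mG : G ⊗ G ⟶ G) (eG : 𝟙_ C ⟶ G) (m : G ⊗ V ⟶ V)

/-- The action axioms for an operation `m : G ⊗ V ⟶ V` w.r.t. operations `mG`, `eG` on `G`. -/
structure IsActOps : Prop where
  one_act : eG ▷ V ≫ m = (λ_ V).hom
  mul_act : mG ▷ V ≫ m = (α_ G G V).hom ≫ G ◁ m ≫ m

variable {D' : Type u₂} [Category.{v₂} D'] [CartesianMonoidalCategory D'] (F : C ⥤ D') [F.Monoidal]

/-- The action axioms hold after applying `F`. -/
structure IsActOpsAfter : Prop where
  one_act : F.map (eG ▷ V ≫ m) = F.map (λ_ V).hom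
  mul_act : F.map (mG ▷ V ≫ m) = F.map ((α_ G G V).hom ≫ G ◁ m ≫ m)

open Functor.LaxMonoidal Functor.Monoidal

lemma act1_iff : (ε F ≫ F.map eG) ▷ F.obj V ≫ «μ» F G V ≫ F.map m = (λ_ (F.obj V)).hom ↔
    F.map (eG ▷ V ≫ m) = F.map (λ_ V).hom := by
  rw [left_unitality F V, comp_whiskerRight, Category.assoc, μ_natural_left_assoc, ← Functor.map_comp,
    cancel_epi, cancel_epi]

lemma act2_iff : («μ» F G G ≫ F.map mG) ▷ F.obj V ≫ «μ» F G V ≫ F.map m =
      (α_ (F.obj G) (F.obj G) (F.obj V)).hom ≫ F.obj G ◁ («μ» F G V ≫ F.map m) ≫ «μ» F G V ≫ F.map m ↔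
    F.map (mG ▷ V ≫ m) = F.map ((α_ G G V).hom ≫ G ◁ m ≫ m) := by
  rw [comp_whiskerRight, Category.assoc, μ_natural_left_assoc, ← Functor.map_comp,
    MonoidalCategory.whiskerLeft_comp, Category.assoc, μ_natural_right_assoc, ← Functor.map_comp,
    ← associativity_assoc, ← Functor.map_comp, cancel_epi, cancel_epi]

lemma isActOps_map_iff :
    IsActOps («μ» F G G ≫ F.map mG) (ε F ≫ F.map eG) («μ» F G V ≫ F.map m) ↔
      IsActOpsAfter mG eG m F := by
  constructor
  · intro h
    exact ⟨(act1_iff eG m F).mp h.one_act, (act2_iff mG m F).mp h.mul_act⟩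
  · intro h
    exact ⟨(act1_iff eG m F).mpr h.one_act, (act2_iff mG m F).mpr h.mul_act⟩

lemma isActOpsAfter_of_isActOps (h : IsActOps mG eG m) : IsActOpsAfter mG eG m F :=
  ⟨by rw [h.one_act], by rw [h.mul_act]⟩

end pre

section overS
variable {S : Scheme.{u}} {G G' V V' : Over S} [GrpObj G] [GrpObj G']

/-- The action given by an operation satisfying the axioms. -/
def IsActOps.action {m : G ⊗ V ⟶ V} (h : IsActOps μ[G] η[G] m) : AlgGrp.Action G V where
  act := m
  one_act := h.one_act
  mul_act := h.mul_act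

@[simp] lemma IsActOps.action_act {m : G ⊗ V ⟶ V} (h : IsActOps μ[G] η[G] m) : h.action.act = m := rfl

lemma isActOps_of_action (a : AlgGrp.Action G V) : IsActOps μ[G] η[G] a.act :=
  ⟨a.one_act, a.mul_act⟩

/-- Transport of an action along a group homomorphism and an isomorphism of schemes. -/
lemma isActOps_transport (a : AlgGrp.Action G' V') (φ : G ⟶ G') [IsMonHom φ] (e : V ≅ V') :
    IsActOps μ[G] η[G] ((φ ⊗ₘ e.hom) ≫ a.act ≫ e.inv) := by
  have hm : (φ ⊗ₘ e.hom) ≫ a.act ≫ e.inv = G ◁ e.hom ≫ (a.restrict φ).act ≫ e.inv := by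
    rw [AlgGrp.Action.restrict_act, tensorHom_def', Category.assoc, Category.assoc]
  rw [hm]
  constructor
  · rw [← whisker_exchange_assoc, reassoc_of% (a.restrict φ).one_act, leftUnitor_naturality_assoc,
      Iso.hom_inv_id, Category.comp_id]
  · rw [← whisker_exchange_assoc, reassoc_of% (a.restrict φ).mul_act]
    simp only [MonoidalCategory.whiskerLeft_comp, Category.assoc]
    rw [← associator_naturality_right_assoc]
    congr 2
    simp only [MonoidalCategory.whiskerLeft_comp, Category.assoc, whiskerLeft_inv_hom_assoc]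

end overS

end Groth.Agent.Lib.OverLimH6
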