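import Mathlib
import Groth.Prelude.Def_AlgGrp

/-!
Helper library (helper1): centralizer of a section of an affine group scheme is a closed subgroup
scheme of finite presentation (as an equalizer).  APPEND-ONLY once landed.
-/

set_option autoImplicit false
universe u
open CategoryTheory CategoryTheory.Limits MonoidalCategory CartesianMonoidalCategory MonObj GrpObj
  AlgebraicGeometry

namespace Groth.Agent.Lib.CentSchH1

/-- If `f ≫ g` is locally of finite presentation and `g` is locally of finite type, then `f` is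
locally of finite presentation.  (Same proof as helper7's `AlgSpLocP9_helper7` lemma; copied to
avoid a long import chain.) -/
theorem locallyOfFinitePresentation_of_comp {X Y Z : Scheme.{u}} (f : X ⟶ Y) (g : Y ⟶ Z)
    [LocallyOfFinitePresentation (f ≫ g)] [LocallyOfFiniteType g] :
    LocallyOfFinitePresentation f := by
  rw [HasRingHomProperty.iff_exists_appLE (P := @LocallyOfFinitePresentation)
    (RingHom.finitePresentation_stableUnderComposition.stableUnderCompositionWithLocalizationAway
      RingHom.finitePresentation_holdsForLocalizationAway).left]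
  intro x
  obtain ⟨W, hW, hw, -⟩ := TopologicalSpace.Opens.isBasis_iff_nbhd.mp Z.isBasis_affineOpens
    (TopologicalSpace.Opens.mem_top (g (f x)))
  obtain ⟨V, hV, hv, eV⟩ := TopologicalSpace.Opens.isBasis_iff_nbhd.mp Y.isBasis_affineOpens
    (show f x ∈ g ⁻¹ᵁ W from hw)
  obtain ⟨U, hU, hu, eU⟩ := TopologicalSpace.Opens.isBasis_iff_nbhd.mp X.isBasis_affineOpens
    (show x ∈ f ⁻¹ᵁ V from hv)
  replace hW : IsAffineOpen W := hW
  replace hV : IsAffineOpen V := hV
  replace hU : IsAffineOpen U := hU
  refine ⟨⟨V, hV⟩, ⟨U, hU⟩, hu, eU, ?_⟩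
  have h1 : (g.appLE W V eV ≫ f.appLE V U eU).hom.FinitePresentation := by
    rw [Scheme.Hom.appLE_comp_appLE]
    exact HasRingHomProperty.appLE (P := @LocallyOfFinitePresentation) (f ≫ g) inferInstance
      ⟨W, hW⟩ ⟨U, hU⟩ _
  have h2 : (g.appLE W V eV).hom.FiniteType :=
    HasRingHomProperty.appLE (P := @LocallyOfFiniteType) g inferInstance ⟨W, hW⟩ ⟨V, hV⟩ eV
  exact RingHom.FinitePresentation.of_comp_finiteType _ h1 h2

theorem locallyOfFinitePresentation_diagonal {X Y : Scheme.{u}} (f : X ⟶ Y)
    [LocallyOfFiniteType f] : LocallyOfFinitePresentation (pullback.diagonal f) := by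
  haveI : LocallyOfFinitePresentation (pullback.diagonal f ≫ pullback.fst f f) := by
    rw [pullback.diagonal_fst]
    infer_instance
  exact locallyOfFinitePresentation_of_comp (pullback.diagonal f) (pullback.fst f f)

set_option backward.isDefEq.respectTransparency false in
theorem locallyOfFinitePresentation_equalizer_ι_left {S : Scheme.{u}} {X Y : Over S}
    [LocallyOfFiniteType Y.hom] (f g : X ⟶ Y) :
    LocallyOfFinitePresentation (equalizer.ι f g).left := by
  refine MorphismProperty.of_isPullback (P := @LocallyOfFinitePresentation)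
    ((Limits.isPullback_equalizer_prod f g).map (Over.forget _)).flip ?_
  rw [← MorphismProperty.cancel_right_of_respectsIso @LocallyOfFinitePresentation _
    (Over.prodLeftIsoPullback Y Y).hom]
  convert! (locallyOfFinitePresentation_diagonal Y.hom)
  ext1 <;> simp [← Over.comp_left]

theorem main15839 (S : Scheme.{u}) (G : Over S) [GrpObj G]
    [IsAffineHom G.hom] [LocallyOfFinitePresentation G.hom] (g : 𝟙_ (Over S) ⟶ G) :
    ∃ (Z : Over S) (j : Z ⟶ G), IsClosedImmersion j.left ∧ LocallyOfFinitePresentation j.left ∧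
      ∀ (T : Over S) (x : T ⟶ G), (∃ z : T ⟶ Z, z ≫ j = x) ↔
        x * (toUnit T ≫ g) = (toUnit T ≫ g) * x := by
  have key : ∀ (T : Over S) (x : T ⟶ G),
      x ≫ ((𝟙 G) * (toUnit G ≫ g)) = x ≫ ((toUnit G ≫ g) * (𝟙 G)) ↔
        x * (toUnit T ≫ g) = (toUnit T ≫ g) * x := by
    intro T x
    rw [MonObj.comp_mul, MonObj.comp_mul, Category.comp_id, ← Category.assoc, comp_toUnit]
  refine ⟨equalizer ((𝟙 G) * (toUnit G ≫ g)) ((toUnit G ≫ g) * (𝟙 G)),
    equalizer.ι _ _, inferInstance, locallyOfFinitePresentation_equalizer_ι_left _ _, ?_⟩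
  intro T x
  rw [← key]
  constructor
  · rintro ⟨z, rfl⟩
    rw [Category.assoc, Category.assoc, equalizer.condition]
  · intro h
    exact ⟨equalizer.lift x h, equalizer.lift_ι _ _⟩

end Groth.Agent.Lib.CentSchH1
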