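import Mathlib
import Groth.Prelude.Def_ActBC
import Groth.Agent.Lib.OverLim14_helper6
import Groth.Agent.Lib.CentSch_helper1
import Groth.Agent.S0114
import Groth.Agent.S9348
import Groth.Agent.S2581

/-!
# Quotients by flat equivalence relations over a cofiltered limit: general lemmas (helper6)
-/

set_option autoImplicit false
set_option linter.all false
set_option backward.isDefEq.respectTransparency false
universe u
open CategoryTheory CategoryTheory.Limits AlgebraicGeometry MonoidalCategory CartesianMonoidalCategory MonObj

namespace Groth.Agent.Lib.OverLimH6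

section general
variable {S S' : Scheme.{u}} (g : S' ⟶ S) {X Y : Over S}

/-- the square exhibiting `(F_g v).left` as a base change of `v.left`. -/
lemma isPullback_map_left (v : X ⟶ Y) :
    IsPullback (pullback.fst X.hom g) ((Over.pullback g).map v).left v.left (pullback.fst Y.hom g) := by
  have hY := (IsPullback.of_hasPullback Y.hom g).flip
  have hX := (IsPullback.of_hasPullback X.hom g).flip
  have hX' : IsPullback (((Over.pullback g).map v).left ≫ pullback.snd Y.hom g) (pullback.fst X.hom g) g
      (v.left ≫ Y.hom) := by
    rw [pb_map_left_snd, Over.w v]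
    exact hX
  exact (IsPullback.of_right hX' (pb_map_left_fst g v) hY).flip

/-- transfer a property from an abstract base change to `(F_g v).left`. -/
lemma prop_of_isPullback {P : MorphismProperty Scheme.{u}} [P.RespectsIso] (v : X ⟶ Y)
    {Xi Yi : Scheme.{u}} (fi : Xi ⟶ Yi) (gi : Yi ⟶ S') (pY : Yi ⟶ Y.left) (pX : Xi ⟶ X.left)
    (h1 : IsPullback pY gi Y.hom g) (h2 : IsPullback pX fi v.left pY) (hP : P fi) :
    P ((Over.pullback g).map v).left := by
  have h3 : IsPullback pX (fi ≫ gi) X.hom g := by
    have := h2.paste_vert h1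
    rwa [Over.w v] at this
  have key : fi = h3.isoPullback.hom ≫ ((Over.pullback g).map v).left ≫ h1.isoPullback.inv := by
    rw [← Category.assoc, Iso.eq_comp_inv]
    apply pullback.hom_ext
    · rw [Category.assoc, Category.assoc, pb_map_left_fst, h1.isoPullback_hom_fst,
        reassoc_of% h3.isoPullback_hom_fst, h2.w]
    · rw [Category.assoc, Category.assoc, pb_map_left_snd, h1.isoPullback_hom_snd,
        h3.isoPullback_hom_snd]
  rw [key, P.cancel_left_of_respectsIso, P.cancel_right_of_respectsIso] at hP
  exact hP

end general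

section up
variable {S S' S'' : Scheme.{u}} (e : S'' ⟶ S') (f : S' ⟶ S) {d : S'' ⟶ S} (h : e ≫ f = d)
  {R X Y : Over S}

include h in
lemma prop_up {P : MorphismProperty Scheme.{u}} [P.RespectsIso] [P.IsStableUnderBaseChange]
    (v : X ⟶ Y) (hv : P ((Over.pullback f).map v).left) : P ((Over.pullback d).map v).left := by
  rw [map_eq_conj e f h v, Over.comp_left, Over.comp_left, P.cancel_left_of_respectsIso,
    P.cancel_right_of_respectsIso]
  exact MorphismProperty.overPullbackMap e _ hv

/-- A quotient presentation over the two-step base change gives one over the composite. -/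
lemma rep_conj (s t : R ⟶ X) {Y'' : Over S''} (q : Red.bc e (Red.bc f X) ⟶ Y'')
    (hq : IsPullback ((Over.pullback e).map ((Over.pullback f).map s))
      ((Over.pullback e).map ((Over.pullback f).map t)) q q) :
    IsPullback ((Over.pullback d).map s) ((Over.pullback d).map t)
      ((ActBC.bcCompIso e f X h).inv ≫ q) ((ActBC.bcCompIso e f X h).inv ≫ q) := by
  rw [map_eq_conj e f h s, map_eq_conj e f h t]
  refine IsPullback.of_iso hq (ActBC.bcCompIso e f R h) (ActBC.bcCompIso e f X h)
    (ActBC.bcCompIso e f X h) (Iso.refl _) ?_ ?_ ?_ ?_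
  · simp
  · simp
  · simp
  · simp

include h in
lemma isPullback_up (s t : R ⟶ X) (p : X ⟶ Y)
    (hp : IsPullback ((Over.pullback f).map s) ((Over.pullback f).map t)
      ((Over.pullback f).map p) ((Over.pullback f).map p)) :
    IsPullback ((Over.pullback d).map s) ((Over.pullback d).map t)
      ((Over.pullback d).map p) ((Over.pullback d).map p) := by
  have h0 := hp.map (Over.pullback e)
  rw [map_eq_conj e f h s, map_eq_conj e f h t, map_eq_conj e f h p]
  refine IsPullback.of_iso h0 (ActBC.bcCompIso e f R h) (ActBC.bcCompIso e f X h)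
    (ActBC.bcCompIso e f X h) (ActBC.bcCompIso e f Y h) ?_ ?_ ?_ ?_
  · simp
  · simp
  · simp
  · simp

end up

section cover
variable {X Y S : Scheme.{u}} (p : X ⟶ Y) (i : Y ⟶ S)

lemma quasiSeparated_of_cover [Flat p] [Surjective p] [LocallyOfFinitePresentation p]
    [QuasiSeparated (p ≫ i)] [QuasiCompact (pullback.fst p p ≫ p ≫ i)] : QuasiSeparated i := by
  constructor
  have hsq := pullback_map_diagonal_isPullback p p i
  haveI : Surjective (pullback.map (p ≫ i) (p ≫ i) i i p p (𝟙 _) (Category.comp_id _)
      (Category.comp_id _)) :=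
    MorphismProperty.pullbackMap (P := @Surjective) (inferInstanceAs (Surjective p))
      (inferInstanceAs (Surjective p)) rfl rfl
  have hopen : UniversallyOpen (pullback.map (p ≫ i) (p ≫ i) i i p p (𝟙 _) (Category.comp_id _)
      (Category.comp_id _)) :=
    MorphismProperty.pullbackMap (P := @UniversallyOpen) (inferInstanceAs (UniversallyOpen p))
      (inferInstanceAs (UniversallyOpen p)) rfl rfl
  haveI : QuasiCompact (pullback.map p p (p ≫ i) (p ≫ i) (𝟙 _) (𝟙 _) i (Category.id_comp _).symm
      (Category.id_comp _).symm) := by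
    haveI : QuasiCompact (pullback.map p p (p ≫ i) (p ≫ i) (𝟙 _) (𝟙 _) i (Category.id_comp _).symm
        (Category.id_comp _).symm ≫ pullback.fst (p ≫ i) (p ≫ i) ≫ p ≫ i) := by
      rw [pullback.lift_fst_assoc, Category.comp_id]
      infer_instance
    exact QuasiCompact.of_comp _ (pullback.fst (p ≫ i) (p ≫ i) ≫ p ≫ i)
  exact Groth.Agent.S9348.result (pullback.diagonal i) _ (Scheme.Hom.isOpenMap _) _ _ hsq

end cover

end Groth.Agent.Lib.OverLimH6
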