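import Mathlib
import Groth.Prelude.Def_ActBC
import Groth.Agent.Lib.OverLim15_helper6

/-!
# Quotients by flat equivalence relations over a cofiltered limit: the core descent (helper6)
-/

set_option autoImplicit false
set_option linter.all false
set_option backward.isDefEq.respectTransparency false
universe u
open CategoryTheory CategoryTheory.Limits AlgebraicGeometry MonoidalCategory CartesianMonoidalCategory MonObj

namespace Groth.Agent.Lib.OverLimH6

section kpinst
variable {S : Scheme.{u}} {X Y : Over S} (v : X ⟶ Y)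

instance kp_lfp [LocallyOfFinitePresentation X.hom] [LocallyOfFinitePresentation v.left] :
    LocallyOfFinitePresentation (kp v).hom := by
  change LocallyOfFinitePresentation (pullback.fst v.left v.left ≫ X.hom); infer_instance

instance kp_qc [QuasiCompact X.hom] [QuasiCompact v.left] : QuasiCompact (kp v).hom := by
  change QuasiCompact (pullback.fst v.left v.left ≫ X.hom); infer_instance

instance kp_qs [QuasiSeparated X.hom] [QuasiSeparated v.left] : QuasiSeparated (kp v).hom := by
  change QuasiSeparated (pullback.fst v.left v.left ≫ X.hom); infer_instance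

instance mono_lift_kp : Mono (lift (kp₁ v) (kp₂ v)) := by
  refine ⟨fun {T} a b hab => ?_⟩
  apply (isPullback_kp v).hom_ext
  · have := congrArg (· ≫ fst X X) hab
    simpa using this
  · have := congrArg (· ≫ snd X X) hab
    simpa using this

end kpinst

section monolift
variable {S S' : Scheme.{u}} (g : S' ⟶ S) {R X : Over S} (s t : R ⟶ X)

open Functor.LaxMonoidal Functor.OplaxMonoidal Functor.Monoidal

lemma lift_map_eq :
    lift ((Over.pullback g).map s) ((Over.pullback g).map t) =
      (Over.pullback g).map (lift s t) ≫ δ (Over.pullback g) X X := by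
  apply CartesianMonoidalCategory.hom_ext
  · rw [lift_fst, Category.assoc, δ_fst, ← Functor.map_comp, lift_fst]
  · rw [lift_snd, Category.assoc, δ_snd, ← Functor.map_comp, lift_snd]

instance mono_lift_map [Mono (lift s t)] :
    Mono (lift ((Over.pullback g).map s) ((Over.pullback g).map t)) := by
  rw [lift_map_eq]
  infer_instance

end monolift

section lim
variable {I : Type u} [SmallCategory I] [IsCofiltered I] {D : I ⥤ Scheme.{u}} {c : Cone D}
  [∀ (i i' : I) (f : i ⟶ i'), IsAffineHom (D.map f)]

open Functor.LaxMonoidal Functor.OplaxMonoidal Functor.Monoidal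

section
variable {k : I} {X Y : Over (D.obj k)} (p : X ⟶ Y)

lemma lfp_left [LocallyOfFinitePresentation X.hom] [LocallyOfFiniteType Y.hom] :
    LocallyOfFinitePresentation p.left := by
  haveI : LocallyOfFinitePresentation (p.left ≫ Y.hom) := by rw [Over.w p]; infer_instance
  exact CentSchH1.locallyOfFinitePresentation_of_comp p.left Y.hom

lemma qc_left [QuasiCompact X.hom] [QuasiSeparated Y.hom] : QuasiCompact p.left := by
  haveI : QuasiCompact (p.left ≫ Y.hom) := by rw [Over.w p]; infer_instance
  exact QuasiCompact.of_comp p.left Y.hom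

lemma qs_left [QuasiSeparated X.hom] : QuasiSeparated p.left := by
  haveI : QuasiSeparated (p.left ≫ Y.hom) := by rw [Over.w p]; infer_instance
  exact QuasiSeparated.of_comp p.left Y.hom

end

/-- If `R` is the kernel pair of `p` over the limit, it already is at some stage. -/
theorem exists_isPullback_stage (hc : IsLimit c) [∀ i, CompactSpace (D.obj i)]
    [∀ i, QuasiSeparatedSpace (D.obj i)] {k : I} {R X Y : Over (D.obj k)}
    [LocallyOfFinitePresentation R.hom] [QuasiCompact R.hom] [QuasiSeparated R.hom]
    [LocallyOfFinitePresentation X.hom] [QuasiCompact X.hom] [QuasiSeparated X.hom]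
    [LocallyOfFinitePresentation Y.hom] [QuasiSeparated Y.hom]
    (s t : R ⟶ X) (p : X ⟶ Y) [Mono (lift s t)]
    (hpb : IsPullback ((Over.pullback (c.π.app k)).map s) ((Over.pullback (c.π.app k)).map t)
      ((Over.pullback (c.π.app k)).map p) ((Over.pullback (c.π.app k)).map p)) :
    ∃ (i : I) (f : i ⟶ k),
      IsPullback ((Over.pullback (D.map f)).map s) ((Over.pullback (D.map f)).map t)
        ((Over.pullback (D.map f)).map p) ((Over.pullback (D.map f)).map p) := by
  haveI : LocallyOfFinitePresentation p.left := lfp_left p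
  haveI : QuasiCompact p.left := qc_left p
  haveI : QuasiSeparated p.left := qs_left p
  have hK := (isPullback_kp p).map (Over.pullback (c.π.app k))
  have hν : hK.lift _ _ hpb.w ≫ (Over.pullback (c.π.app k)).map (lift (kp₁ p) (kp₂ p)) =
      (Over.pullback (c.π.app k)).map (lift s t) := by
    rw [← cancel_mono (δ (Over.pullback (c.π.app k)) X X), Category.assoc, ← lift_map_eq,
      ← lift_map_eq]
    apply CartesianMonoidalCategory.hom_ext
    · rw [Category.assoc, lift_fst, lift_fst]; exact hK.lift_fst _ _ _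
    · rw [Category.assoc, lift_snd, lift_snd]; exact hK.lift_snd _ _ _
  have hν' : hpb.lift _ _ hK.w ≫ (Over.pullback (c.π.app k)).map (lift s t) =
      (Over.pullback (c.π.app k)).map (lift (kp₁ p) (kp₂ p)) := by
    rw [← cancel_mono (δ (Over.pullback (c.π.app k)) X X), Category.assoc, ← lift_map_eq,
      ← lift_map_eq]
    apply CartesianMonoidalCategory.hom_ext
    · rw [Category.assoc, lift_fst, lift_fst]; exact hpb.lift_fst _ _ _
    · rw [Category.assoc, lift_snd, lift_snd]; exact hpb.lift_snd _ _ _
  obtain ⟨i₁, f₁, ν₁, hν₁⟩ := exists_factor_stage hc (lift s t) (lift (kp₁ p) (kp₂ p)) _ hν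
  obtain ⟨i₂, f₂, ν₂, hν₂⟩ := exists_factor_stage hc (lift (kp₁ p) (kp₂ p)) (lift s t) _ hν'
  obtain ⟨i, a, b, hab⟩ := IsCofiltered.cospan f₁ f₂
  obtain ⟨μ₁, hμ₁⟩ := factor_up (D.map a) (D.map f₁) (D.map_comp a f₁).symm _ _ ν₁ hν₁
  obtain ⟨μ₂, hμ₂⟩ := factor_up (D.map b) (D.map f₂)
    (show D.map b ≫ D.map f₂ = D.map (a ≫ f₁) by rw [← D.map_comp, hab]) _ _ ν₂ hν₂
  refine ⟨i, a ≫ f₁, ?_⟩
  have hKf := (isPullback_kp p).map (Over.pullback (D.map (a ≫ f₁)))
  have e1 : μ₁ ≫ μ₂ = 𝟙 _ := by
    rw [← cancel_mono ((Over.pullback (D.map (a ≫ f₁))).map (lift s t)), Category.assoc, hμ₂, hμ₁,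
      Category.id_comp]
  have e2 : μ₂ ≫ μ₁ = 𝟙 _ := by
    rw [← cancel_mono ((Over.pullback (D.map (a ≫ f₁))).map (lift (kp₁ p) (kp₂ p))),
      Category.assoc, hμ₁, hμ₂, Category.id_comp]
  have hs : μ₂ ≫ (Over.pullback (D.map (a ≫ f₁))).map s =
      (Over.pullback (D.map (a ≫ f₁))).map (kp₁ p) := by
    have := congrArg (· ≫ (Over.pullback (D.map (a ≫ f₁))).map (fst X X)) hμ₂
    simp only [Category.assoc, ← Functor.map_comp, lift_fst] at this
    exact this
  have ht : μ₂ ≫ (Over.pullback (D.map (a ≫ f₁))).map t =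
      (Over.pullback (D.map (a ≫ f₁))).map (kp₂ p) := by
    have := congrArg (· ≫ (Over.pullback (D.map (a ≫ f₁))).map (snd X X)) hμ₂
    simp only [Category.assoc, ← Functor.map_comp, lift_snd] at this
    exact this
  refine IsPullback.of_iso hKf (⟨μ₂, μ₁, e2, e1⟩ : _ ≅ _) (Iso.refl _) (Iso.refl _) (Iso.refl _)
    ?_ ?_ (by simp) (by simp)
  · simp only [Iso.refl_hom, Category.comp_id]; exact hs.symm
  · simp only [Iso.refl_hom, Category.comp_id]; exact ht.symm

end lim

end Groth.Agent.Lib.OverLimH6
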