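import Mathlib
import Groth.Prelude.Def_ActBC
import Groth.Agent.Lib.OverLim16_helper6

/-!
# Quotients by flat equivalence relations over a cofiltered limit: S6091 (helper6)
-/

set_option autoImplicit false
set_option linter.all false
set_option backward.isDefEq.respectTransparency false
universe u
open CategoryTheory CategoryTheory.Limits AlgebraicGeometry MonoidalCategory CartesianMonoidalCategory MonObj

namespace Groth.Agent.Lib.OverLimH6

section up
variable {S S' S'' : Scheme.{u}} (e : S'' ⟶ S') (f : S' ⟶ S) {d : S'' ⟶ S} (h : e ≫ f = d)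
  {X Y : Over S}

lemma map_map_eq_conj (a : X ⟶ Y) :
    (Over.pullback e).map ((Over.pullback f).map a) = (ActBC.bcCompIso e f X h).hom ≫
      (Over.pullback d).map a ≫ (ActBC.bcCompIso e f Y h).inv := by
  rw [map_eq_conj e f h a]
  simp

end up

section lim
variable {I : Type u} [SmallCategory I] [IsCofiltered I] {D : I ⥤ Scheme.{u}} {c : Cone D}
  [∀ (i i' : I) (f : i ⟶ i'), IsAffineHom (D.map f)]

open Groth.Agent.Lib.LimDescFPH7

theorem exists_flat_stage (hc : IsLimit c) [∀ i, CompactSpace (D.obj i)]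
    [∀ i, QuasiSeparatedSpace (D.obj i)] {k : I} {X Y : Over (D.obj k)}
    [LocallyOfFinitePresentation X.hom] [QuasiCompact X.hom] [QuasiSeparated X.hom]
    [LocallyOfFinitePresentation Y.hom] [QuasiCompact Y.hom] [QuasiSeparated Y.hom]
    (p : X ⟶ Y) (hfl : Flat ((Over.pullback (c.π.app k)).map p).left) :
    ∃ (i : I) (f : i ⟶ k), Flat ((Over.pullback (D.map f)).map p).left := by
  haveI : LocallyOfFinitePresentation p.left := lfp_left p
  haveI : CompactSpace X.left := QuasiCompact.compactSpace_of_compactSpace X.hom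
  haveI : CompactSpace Y.left := QuasiCompact.compactSpace_of_compactSpace Y.hom
  haveI : QuasiSeparatedSpace X.left := quasiSeparatedSpace_of_quasiSeparated X.hom
  haveI : QuasiSeparatedSpace Y.left := quasiSeparatedSpace_of_quasiSeparated Y.hom
  obtain ⟨i, φ, Xi, Yi, fi, gi, pY, pX, h1, h2, hP⟩ := descendsProp_flat D c hc k p.left Y.hom
    ((Over.pullback (c.π.app k)).map p).left (pullback.snd Y.hom (c.π.app k))
    (pullback.fst Y.hom (c.π.app k)) (pullback.fst X.hom (c.π.app k))
    (IsPullback.of_hasPullback Y.hom (c.π.app k)) (isPullback_map_left _ p) hfl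
  exact ⟨i, φ, prop_of_isPullback (P := @Flat) (D.map φ) p fi gi pY pX h1 h2 hP⟩

theorem exists_surj_stage (hc : IsLimit c) [∀ i, CompactSpace (D.obj i)]
    [∀ i, QuasiSeparatedSpace (D.obj i)] {k : I} {X Y : Over (D.obj k)}
    [LocallyOfFinitePresentation X.hom] [QuasiCompact X.hom] [QuasiSeparated X.hom]
    [LocallyOfFinitePresentation Y.hom] [QuasiCompact Y.hom] [QuasiSeparated Y.hom]
    (p : X ⟶ Y) (hsj : Surjective ((Over.pullback (c.π.app k)).map p).left) :
    ∃ (i : I) (f : i ⟶ k), Surjective ((Over.pullback (D.map f)).map p).left := by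
  haveI : LocallyOfFinitePresentation (p.left ≫ Y.hom) := by rw [Over.w p]; infer_instance
  haveI : QuasiCompact (p.left ≫ Y.hom) := by rw [Over.w p]; infer_instance
  haveI : QuasiSeparated (p.left ≫ Y.hom) := by rw [Over.w p]; infer_instance
  haveI := hsj
  obtain ⟨i, φ, Xi, Yi, fi, gi, pY, pX, h1, h2, hP⟩ := Groth.Agent.S2581.result D c hc k p.left Y.hom
    ((Over.pullback (c.π.app k)).map p).left (pullback.snd Y.hom (c.π.app k))
    (pullback.fst Y.hom (c.π.app k)) (pullback.fst X.hom (c.π.app k))
    (IsPullback.of_hasPullback Y.hom (c.π.app k)) (isPullback_map_left _ p)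
  exact ⟨i, φ, prop_of_isPullback (P := @Surjective) (D.map φ) p fi gi pY pX h1 h2 hP⟩

/-- The core descent: a quotient presentation over the limit of data defined at stage `k`
is already one at some later stage. -/
theorem exists_quot_stage (hc : IsLimit c) [∀ i, CompactSpace (D.obj i)]
    [∀ i, QuasiSeparatedSpace (D.obj i)] {k : I} {R X Y : Over (D.obj k)}
    [LocallyOfFinitePresentation R.hom] [QuasiCompact R.hom] [QuasiSeparated R.hom]
    [LocallyOfFinitePresentation X.hom] [QuasiCompact X.hom] [QuasiSeparated X.hom]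
    [LocallyOfFinitePresentation Y.hom] [QuasiCompact Y.hom] [QuasiSeparated Y.hom]
    (s t : R ⟶ X) (p : X ⟶ Y) [Mono (lift s t)]
    (hfl : Flat ((Over.pullback (c.π.app k)).map p).left)
    (hsj : Surjective ((Over.pullback (c.π.app k)).map p).left)
    (hpb : IsPullback ((Over.pullback (c.π.app k)).map s) ((Over.pullback (c.π.app k)).map t)
      ((Over.pullback (c.π.app k)).map p) ((Over.pullback (c.π.app k)).map p)) :
    ∃ (i : I) (f : i ⟶ k), Flat ((Over.pullback (D.map f)).map p).left ∧
      Surjective ((Over.pullback (D.map f)).map p).left ∧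
      IsPullback ((Over.pullback (D.map f)).map s) ((Over.pullback (D.map f)).map t)
        ((Over.pullback (D.map f)).map p) ((Over.pullback (D.map f)).map p) := by
  obtain ⟨i₁, f₁, h₁⟩ := exists_flat_stage hc p hfl
  obtain ⟨i₂, f₂, h₂⟩ := exists_surj_stage hc p hsj
  obtain ⟨i₃, f₃, h₃⟩ := exists_isPullback_stage hc s t p hpb
  obtain ⟨i₄, a, b, hab⟩ := IsCofiltered.cospan f₁ f₂
  obtain ⟨i, a', b', hab'⟩ := IsCofiltered.cospan (a ≫ f₁) f₃
  refine ⟨i, a' ≫ a ≫ f₁, ?_, ?_, ?_⟩
  · exact prop_up (P := @Flat) (D.map (a' ≫ a)) (D.map f₁)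
      (by rw [← D.map_comp, Category.assoc]) p h₁
  · exact prop_up (P := @Surjective) (D.map (a' ≫ b)) (D.map f₂)
      (by rw [← D.map_comp, Category.assoc, ← hab]) p h₂
  · exact isPullback_up (D.map b') (D.map f₃) (by rw [← D.map_comp, ← hab']) s t p h₃

end lim

end Groth.Agent.Lib.OverLimH6
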