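import Mathlib
import Groth.Prelude.Def_ActBC
import Groth.Agent.Lib.ActLim1_helper6
import Groth.Agent.Lib.OverLim17_helper6

/-!
# Base change of action operations, expressed over the composite (helper6)
-/

set_option autoImplicit false
set_option linter.all false
set_option backward.isDefEq.respectTransparency false
universe u
open CategoryTheory CategoryTheory.Limits AlgebraicGeometry MonoidalCategory CartesianMonoidalCategory MonObj

namespace Groth.Agent.Lib.OverLimH6

section up
variable {S S' S'' : Scheme.{u}} (e : S'' ⟶ S') (f : S' ⟶ S) {d : S'' ⟶ S} (h : e ≫ f = d)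
  {G V : Over S}

open Functor.LaxMonoidal Functor.OplaxMonoidal Functor.Monoidal

/-- Base change along `e` of an operation `bc f G ⊗ bc f V ⟶ bc f V`, expressed over
`d = e ≫ f`. -/
noncomputable def actUp (act' : Red.bc f G ⊗ Red.bc f V ⟶ Red.bc f V) :
    Red.bc d G ⊗ Red.bc d V ⟶ Red.bc d V :=
  ((ActBC.bcCompIso e f G h).inv ⊗ₘ (ActBC.bcCompIso e f V h).inv) ≫
    «μ» (Over.pullback e) (Red.bc f G) (Red.bc f V) ≫ (Over.pullback e).map act' ≫
      (ActBC.bcCompIso e f V h).hom

lemma actUp_def (act' : Red.bc f G ⊗ Red.bc f V ⟶ Red.bc f V) :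
    actUp e f h act' = ((ActBC.bcCompIso e f G h).inv ⊗ₘ (ActBC.bcCompIso e f V h).inv) ≫
    «μ» (Over.pullback e) (Red.bc f G) (Red.bc f V) ≫ (Over.pullback e).map act' ≫
      (ActBC.bcCompIso e f V h).hom := rfl

/-- the compatibility form -/
lemma actUp_eq_iff (act' : Red.bc f G ⊗ Red.bc f V ⟶ Red.bc f V)
    (A : Red.bc d G ⊗ Red.bc d V ⟶ Red.bc d V) :
    actUp e f h act' = A ↔
      «μ» (Over.pullback e) (Red.bc f G) (Red.bc f V) ≫ (Over.pullback e).map act' ≫
        (ActBC.bcCompIso e f V h).hom =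
      ((ActBC.bcCompIso e f G h).hom ⊗ₘ (ActBC.bcCompIso e f V h).hom) ≫ A := by
  rw [actUp_def]
  constructor
  · intro hA
    rw [← hA, tensorHom_comp_tensorHom_assoc, Iso.hom_inv_id, Iso.hom_inv_id, tensorHom_id,
      id_whiskerRight, Category.id_comp]
  · intro hA
    rw [hA, tensorHom_comp_tensorHom_assoc, Iso.inv_hom_id, Iso.inv_hom_id, tensorHom_id,
      id_whiskerRight, Category.id_comp]

end up

section trans
variable {S S' S'' S''' : Scheme.{u}} (p : S''' ⟶ S'') (e : S'' ⟶ S') (f : S' ⟶ S)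
  {d : S'' ⟶ S} {q : S''' ⟶ S'} {t : S''' ⟶ S} (h : e ≫ f = d) (hq : p ≫ e = q)
  (h1 : p ≫ d = t) (h2 : q ≫ f = t) {G V : Over S}

open Functor.LaxMonoidal Functor.OplaxMonoidal Functor.Monoidal

include hq in
/-- Transitivity of `actUp`. -/
lemma actUp_trans (act' : Red.bc f G ⊗ Red.bc f V ⟶ Red.bc f V) :
    actUp p d h1 (actUp e f h act') = actUp q f h2 act' := by
  have hC : ∀ X : Over S,
      (Over.pullback p).map (ActBC.bcCompIso e f X h).hom ≫ (ActBC.bcCompIso p d X h1).hom =
        (ActBC.bcCompIso p e (Red.bc f X) hq).hom ≫ (ActBC.bcCompIso q f X h2).hom := fun X =>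
    bcCompIso_assoc p e f h hq h1 h2 X
  have hhom : ∀ X : Over S, (ActBC.bcCompIso p e (Red.bc f X) hq).inv ≫
      (Over.pullback p).map (ActBC.bcCompIso e f X h).hom ≫ (ActBC.bcCompIso p d X h1).hom =
        (ActBC.bcCompIso q f X h2).hom := by
    intro X
    rw [hC X, Iso.inv_hom_id_assoc]
  have hinv : ∀ X : Over S, (ActBC.bcCompIso p d X h1).inv ≫
      (Over.pullback p).map (ActBC.bcCompIso e f X h).inv ≫
        (ActBC.bcCompIso p e (Red.bc f X) hq).hom = (ActBC.bcCompIso q f X h2).inv := by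
    intro X
    rw [Iso.inv_comp_eq, Iso.eq_comp_inv, Category.assoc, ← hC X,
      ← Functor.map_comp_assoc, Iso.inv_hom_id, CategoryTheory.Functor.map_id, Category.id_comp]
  rw [actUp_def p d h1, actUp_def e f h, actUp_def q f h2]
  simp only [Functor.map_comp, Category.assoc]
  rw [map_map_eq_conj p e hq act']
  have hnat := μ_natural (Over.pullback p) (ActBC.bcCompIso e f G h).inv (ActBC.bcCompIso e f V h).inv
  rw [← reassoc_of% hnat]
  simp only [Category.assoc]
  have hmon := bcCompIso_monoidal p e hq (Red.bc f G) (Red.bc f V)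
  rw [reassoc_of% hmon]
  simp only [tensorHom_comp_tensorHom_assoc, Category.assoc]
  rw [hinv G, hinv V, hhom V]

end trans

section upgrp
variable {S S' S'' : Scheme.{u}} (e : S'' ⟶ S') (f : S' ⟶ S) {d : S'' ⟶ S} (h : e ≫ f = d)
  {G V : Over S} [GrpObj G]

open Functor.LaxMonoidal Functor.OplaxMonoidal Functor.Monoidal

/-- If the axioms hold after `e`, then `actUp` is an action operation. -/
lemma isActOps_actUp (act' : Red.bc f G ⊗ Red.bc f V ⟶ Red.bc f V)
    (hA : IsActOpsAfter μ[Red.bc f G] η[Red.bc f G] act' (Over.pullback e)) :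
    IsActOps μ[Red.bc d G] η[Red.bc d G] (actUp e f h act') := by
  have h1 : IsActOps μ[Red.bc e (Red.bc f G)] η[Red.bc e (Red.bc f G)]
      («μ» (Over.pullback e) (Red.bc f G) (Red.bc f V) ≫ (Over.pullback e).map act') :=
    (isActOps_map_iff _ _ _ (Over.pullback e)).mpr hA
  have h2 := isActOps_transport h1.action (ActBC.bcCompIso e f G h).inv (ActBC.bcCompIso e f V h).symm
  simpa only [actUp_def, IsActOps.action_act, Iso.symm_hom, Iso.symm_inv, Category.assoc] using h2

/-- Conversely. -/
lemma isActOpsAfter_of_actUp (act' : Red.bc f G ⊗ Red.bc f V ⟶ Red.bc f V)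
    (hU : IsActOps μ[Red.bc d G] η[Red.bc d G] (actUp e f h act')) :
    IsActOpsAfter μ[Red.bc f G] η[Red.bc f G] act' (Over.pullback e) := by
  have h2 := isActOps_transport hU.action (ActBC.bcCompIso e f G h).hom (ActBC.bcCompIso e f V h)
  have e1 : ((ActBC.bcCompIso e f G h).hom ⊗ₘ (ActBC.bcCompIso e f V h).hom) ≫
      hU.action.act ≫ (ActBC.bcCompIso e f V h).inv =
      «μ» (Over.pullback e) (Red.bc f G) (Red.bc f V) ≫ (Over.pullback e).map act' := by
    rw [IsActOps.action_act, actUp_def]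
    simp only [Category.assoc, Iso.hom_inv_id, Category.comp_id]
    rw [tensorHom_comp_tensorHom_assoc, Iso.hom_inv_id, Iso.hom_inv_id,
      tensorHom_id, id_whiskerRight, Category.id_comp]
  rw [e1] at h2
  exact (isActOps_map_iff _ _ _ (Over.pullback e)).mp h2

/-- The shear map of `actUp`. -/
lemma isIso_lift_actUp_iff (act' : Red.bc f G ⊗ Red.bc f V ⟶ Red.bc f V) :
    IsIso (lift (actUp e f h act') (snd (Red.bc d G) (Red.bc d V))) ↔
      IsIso ((Over.pullback e).map (lift act' (snd (Red.bc f G) (Red.bc f V)))) := by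
  rw [← isIso_lift_iff]
  have key : lift (actUp e f h act') (snd (Red.bc d G) (Red.bc d V)) =
      ((ActBC.bcCompIso e f G h).inv ⊗ₘ (ActBC.bcCompIso e f V h).inv) ≫
        lift («μ» (Over.pullback e) (Red.bc f G) (Red.bc f V) ≫ (Over.pullback e).map act')
          (snd (Red.bc e (Red.bc f G)) (Red.bc e (Red.bc f V))) ≫
        ((ActBC.bcCompIso e f V h).hom ⊗ₘ (ActBC.bcCompIso e f V h).hom) := by
    apply CartesianMonoidalCategory.hom_ext
    · simp only [lift_fst, Category.assoc, tensorHom_fst, lift_fst_assoc, actUp_def]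
    · simp only [lift_snd, Category.assoc, tensorHom_snd, lift_snd_assoc, tensorHom_snd_assoc,
        Iso.inv_hom_id, Category.comp_id]
  rw [key]
  constructor
  · intro hI
    rw [isIso_comp_left_iff, isIso_comp_right_iff] at hI
    exact hI
  · intro hI
    infer_instance

end upgrp

end Groth.Agent.Lib.OverLimH6
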