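import Mathlib
import Groth.Prelude.Def_ActBC
import Groth.Agent.Lib.ActLim2_helper6

/-!
# Descent of actions of group schemes along cofiltered limits (helper6)
-/

set_option autoImplicit false
set_option linter.all false
set_option backward.isDefEq.respectTransparency false
universe u
open CategoryTheory CategoryTheory.Limits AlgebraicGeometry MonoidalCategory CartesianMonoidalCategory MonObj

namespace Groth.Agent.Lib.OverLimH6

section lim
variable {I : Type u} [SmallCategory I] [IsCofiltered I] {D : I ⥤ Scheme.{u}} {c : Cone D}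
  [∀ (i i' : I) (f : i ⟶ i'), IsAffineHom (D.map f)]

open Functor.LaxMonoidal Functor.OplaxMonoidal Functor.Monoidal

theorem exists_isActOpsAfter_stage (hc : IsLimit c) {i : I} [CompactSpace (D.obj i)]
    {G V : Over (D.obj i)} [QuasiCompact G.hom] [QuasiCompact V.hom] [LocallyOfFiniteType V.hom]
    (mG : G ⊗ G ⟶ G) (eG : 𝟙_ (Over (D.obj i)) ⟶ G) (m : G ⊗ V ⟶ V)
    (h : IsActOpsAfter mG eG m (Over.pullback (c.π.app i))) :
    ∃ (i' : I) (g : i' ⟶ i), IsActOpsAfter mG eG m (Over.pullback (D.map g)) := by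
  haveI : CompactSpace (𝟙_ (Over (D.obj i)) ⊗ V).left := compactSpace_left _
  haveI : CompactSpace ((G ⊗ G) ⊗ V).left := compactSpace_left _
  obtain ⟨k₁, f₁, h₁⟩ := exists_map_eq_of_map_eq hc _ _ h.one_act
  obtain ⟨k₂, g₂, h₂⟩ := exists_map_eq_of_map_eq_below hc _ _ h.mul_act f₁
  refine ⟨k₂, g₂ ≫ f₁, ?_, ?_⟩
  · exact eq_up (D.map g₂) (D.map f₁) (by rw [← D.map_comp]) _ _ h₁
  · exact h₂

theorem exists_action_stage (hc : IsLimit c) [∀ i, CompactSpace (D.obj i)]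
    [∀ i, QuasiSeparatedSpace (D.obj i)] {j : I} (Gj Vj : Over (D.obj j)) [GrpObj Gj]
    [QuasiCompact Gj.hom] [QuasiSeparated Gj.hom]
    [LocallyOfFinitePresentation Vj.hom] [QuasiCompact Vj.hom] [QuasiSeparated Vj.hom]
    (A : AlgGrp.Action (Red.bc (c.π.app j) Gj) (Red.bc (c.π.app j) Vj)) :
    ∃ (k : I) (f : k ⟶ j) (ak : AlgGrp.Action (Red.bc (D.map f) Gj) (Red.bc (D.map f) Vj)),
      actUp (c.π.app k) (D.map f) (c.w f) ak.act = A.act := by
  let u : Red.bc (c.π.app j) (Gj ⊗ Vj) ⟶ Red.bc (c.π.app j) Vj :=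
    δ (Over.pullback (c.π.app j)) Gj Vj ≫ A.act
  obtain ⟨k₁, t₁, m₁, hm₁⟩ := exists_map_eq_conj hc u
  let act₁ : Red.bc (D.map t₁) Gj ⊗ Red.bc (D.map t₁) Vj ⟶ Red.bc (D.map t₁) Vj :=
    «μ» (Over.pullback (D.map t₁)) Gj Vj ≫ m₁
  have hcompat : actUp (c.π.app k₁) (D.map t₁) (c.w t₁) act₁ = A.act := by
    rw [actUp_eq_iff]
    simp only [act₁]
    rw [Functor.map_comp, hm₁]
    simp only [Category.assoc, Iso.inv_hom_id, Category.comp_id]
    rw [reassoc_of% (bcCompIso_monoidal (c.π.app k₁) (D.map t₁) (c.w t₁) Gj Vj)]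
    simp only [u]
    rw [μ_δ_assoc]
  have hU : IsActOps μ[Red.bc (c.π.app j) Gj] η[Red.bc (c.π.app j) Gj]
      (actUp (c.π.app k₁) (D.map t₁) (c.w t₁) act₁) := by
    rw [hcompat]; exact isActOps_of_action A
  have hAfter := isActOpsAfter_of_actUp (c.π.app k₁) (D.map t₁) (c.w t₁) act₁ hU
  obtain ⟨k₂, s, hs⟩ := exists_isActOpsAfter_stage hc _ _ act₁ hAfter
  have hk := isActOps_actUp (D.map s) (D.map t₁) (D.map_comp s t₁).symm act₁ hs
  refine ⟨k₂, s ≫ t₁, hk.action, ?_⟩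
  rw [IsActOps.action_act, actUp_trans (c.π.app k₂) (D.map s) (D.map t₁) (D.map_comp s t₁).symm
    (c.w s) (c.w (s ≫ t₁)) (c.w t₁) act₁]
  exact hcompat

end lim

end Groth.Agent.Lib.OverLimH6
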