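import Mathlib
import Groth.Prelude.Def_ActBC
import Groth.Agent.Lib.ActLim3_helper6
import Groth.Agent.S9187

/-!
# Descent of torsors along cofiltered limits: stage refinement (helper6)
-/

set_option autoImplicit false
set_option linter.all false
set_option backward.isDefEq.respectTransparency false
universe u
open CategoryTheory CategoryTheory.Limits AlgebraicGeometry MonoidalCategory CartesianMonoidalCategory MonObj

namespace Groth.Agent.Lib.OverLimH6

section inst
variable {S : Scheme.{u}}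

instance unit_lfp : LocallyOfFinitePresentation (𝟙_ (Over S)).hom := by
  change @LocallyOfFinitePresentation S S (𝟙 _); infer_instance

end inst

section hom
variable {S S' S'' : Scheme.{u}}

lemma prop_hom_iff {P : MorphismProperty Scheme.{u}} [P.RespectsIso] (g : S' ⟶ S) (X : Over S) :
    P ((Over.pullback g).map (toUnit X)).left ↔ P (Red.bc g X).hom := by
  haveI : IsIso (Red.bc g (𝟙_ (Over S))).hom := by
    change IsIso (pullback.snd (𝟙 S) g); infer_instance
  rw [← Over.w ((Over.pullback g).map (toUnit X)), P.cancel_right_of_respectsIso]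

lemma hom_up {P : MorphismProperty Scheme.{u}} [P.RespectsIso] [P.IsStableUnderBaseChange]
    (e : S'' ⟶ S') (f : S' ⟶ S) {d : S'' ⟶ S} (h : e ≫ f = d) (X : Over S)
    (hX : P (Red.bc f X).hom) : P (Red.bc d X).hom := by
  have h1 : P (Red.bc e (Red.bc f X)).hom := by
    change P (pullback.snd (Red.bc f X).hom e)
    exact P.pullback_snd _ _ hX
  rw [← Over.w (ActBC.bcCompIso e f X h).inv, P.cancel_left_of_respectsIso]
  exact h1

end hom

section lim
variable {I : Type u} [SmallCategory I] [IsCofiltered I] {D : I ⥤ Scheme.{u}} {c : Cone D}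
  [∀ (i i' : I) (f : i ⟶ i'), IsAffineHom (D.map f)]

open Groth.Agent.Lib.LimDescFPH7

theorem descendsProp_isFinite : DescendsProp.{u} @IsFinite := by
  intro I _ _ D c hc _ i₀ _ _ X₀ Y₀ f₀ g₀ _ _ _ _ _ X Y f g qY qX hY hX hP
  haveI : IsFinite f := hP
  exact Groth.Agent.S9187.result D c hc i₀ f₀ g₀ f g qY qX hY hX

theorem exists_prop_stage {P : MorphismProperty Scheme.{u}} [P.RespectsIso] (hP : DescendsProp P)
    (hc : IsLimit c) [∀ i, CompactSpace (D.obj i)]
    [∀ i, QuasiSeparatedSpace (D.obj i)] {k : I} {X Y : Over (D.obj k)}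
    [LocallyOfFinitePresentation X.hom] [QuasiCompact X.hom] [QuasiSeparated X.hom]
    [LocallyOfFinitePresentation Y.hom] [QuasiCompact Y.hom] [QuasiSeparated Y.hom]
    (p : X ⟶ Y) (hfl : P ((Over.pullback (c.π.app k)).map p).left) :
    ∃ (i : I) (f : i ⟶ k), P ((Over.pullback (D.map f)).map p).left := by
  haveI : LocallyOfFinitePresentation p.left := lfp_left p
  haveI : CompactSpace X.left := QuasiCompact.compactSpace_of_compactSpace X.hom
  haveI : CompactSpace Y.left := QuasiCompact.compactSpace_of_compactSpace Y.hom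
  haveI : QuasiSeparatedSpace X.left := quasiSeparatedSpace_of_quasiSeparated X.hom
  haveI : QuasiSeparatedSpace Y.left := quasiSeparatedSpace_of_quasiSeparated Y.hom
  obtain ⟨i, φ, Xi, Yi, fi, gi, pY, pX, h1, h2, hP'⟩ := hP D c hc k p.left Y.hom
    ((Over.pullback (c.π.app k)).map p).left (pullback.snd Y.hom (c.π.app k))
    (pullback.fst Y.hom (c.π.app k)) (pullback.fst X.hom (c.π.app k))
    (IsPullback.of_hasPullback Y.hom (c.π.app k)) (isPullback_map_left _ p) hfl
  exact ⟨i, φ, prop_of_isPullback (P := P) (D.map φ) p fi gi pY pX h1 h2 hP'⟩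

/-- A property of the structure morphism of the base change to the limit holds at a stage below
a given one. -/
theorem exists_hom_stage_below {P : MorphismProperty Scheme.{u}} [P.RespectsIso]
    [P.IsStableUnderBaseChange]
    (hst : ∀ (hc : IsLimit c) {k : I} {X Y : Over (D.obj k)}
      [LocallyOfFinitePresentation X.hom] [QuasiCompact X.hom] [QuasiSeparated X.hom]
      [LocallyOfFinitePresentation Y.hom] [QuasiCompact Y.hom] [QuasiSeparated Y.hom]
      (p : X ⟶ Y), P ((Over.pullback (c.π.app k)).map p).left →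
        ∃ (i : I) (f : i ⟶ k), P ((Over.pullback (D.map f)).map p).left)
    (hc : IsLimit c) {j : I} (Vj : Over (D.obj j))
    [LocallyOfFinitePresentation Vj.hom] [QuasiCompact Vj.hom] [QuasiSeparated Vj.hom]
    (h : P (Red.bc (c.π.app j) Vj).hom) {k₁ : I} (φ : k₁ ⟶ j) :
    ∃ (i : I) (g : i ⟶ k₁), P (Red.bc (D.map (g ≫ φ)) Vj).hom := by
  obtain ⟨i₁, f₁, h₁⟩ := hst hc (toUnit Vj) ((prop_hom_iff (c.π.app j) Vj).mpr h)
  replace h₁ := (prop_hom_iff (P := P) (D.map f₁) Vj).mp h₁
  obtain ⟨i, a, b, hab⟩ := IsCofiltered.cospan f₁ φ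
  refine ⟨i, b, ?_⟩
  exact hom_up (D.map a) (D.map f₁) (by rw [← D.map_comp, hab]) Vj h₁

open Functor.LaxMonoidal Functor.OplaxMonoidal Functor.Monoidal in
/-- Stage refinement: an action at a stage whose base change to the limit is a pseudo-torsor on a
scheme flat, surjective and finite over the limit has these properties at a later stage. -/
theorem exists_torsor_stage (hc : IsLimit c) [∀ i, CompactSpace (D.obj i)]
    [∀ i, QuasiSeparatedSpace (D.obj i)] {j : I} (Gj Vj : Over (D.obj j)) [GrpObj Gj]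
    [LocallyOfFinitePresentation Gj.hom] [QuasiCompact Gj.hom] [QuasiSeparated Gj.hom]
    [LocallyOfFinitePresentation Vj.hom] [QuasiCompact Vj.hom] [QuasiSeparated Vj.hom]
    {k₀ : I} (f₀ : k₀ ⟶ j) (ak : AlgGrp.Action (Red.bc (D.map f₀) Gj) (Red.bc (D.map f₀) Vj))
    (A : AlgGrp.Action (Red.bc (c.π.app j) Gj) (Red.bc (c.π.app j) Vj))
    (hcompat : actUp (c.π.app k₀) (D.map f₀) (c.w f₀) ak.act = A.act)
    (hps : NonAbH1.IsPseudoTorsorSch A) (hfl : Flat (Red.bc (c.π.app j) Vj).hom)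
    (hsj : Surjective (Red.bc (c.π.app j) Vj).hom) (hfin : IsFinite (Red.bc (c.π.app j) Vj).hom) :
    ∃ (k : I) (f : k ⟶ j) (a' : AlgGrp.Action (Red.bc (D.map f) Gj) (Red.bc (D.map f) Vj)),
      actUp (c.π.app k) (D.map f) (c.w f) a'.act = A.act ∧ NonAbH1.IsPseudoTorsorSch a' ∧
      Flat (Red.bc (D.map f) Vj).hom ∧ Surjective (Red.bc (D.map f) Vj).hom ∧
      IsFinite (Red.bc (D.map f) Vj).hom := by
  -- the shear map
  have hiso : IsIso ((Over.pullback (c.π.app k₀)).map
      (lift ak.act (snd (Red.bc (D.map f₀) Gj) (Red.bc (D.map f₀) Vj)))) := by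
    rw [← isIso_lift_actUp_iff (c.π.app k₀) (D.map f₀) (c.w f₀), hcompat]
    exact hps
  obtain ⟨i₁, g₁, h₁⟩ := exists_isIso_stage hc _ hiso
  obtain ⟨i₂, g₂, h₂⟩ := exists_hom_stage_below (P := @Flat)
    (fun hc {k X Y} _ _ _ _ _ _ p h => exists_flat_stage hc p h) hc Vj hfl (g₁ ≫ f₀)
  obtain ⟨i₃, g₃, h₃⟩ := exists_hom_stage_below (P := @Surjective)
    (fun hc {k X Y} _ _ _ _ _ _ p h => exists_surj_stage hc p h) hc Vj hsj (g₂ ≫ g₁ ≫ f₀)
  obtain ⟨i₄, g₄, h₄⟩ := exists_hom_stage_below (P := @IsFinite)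
    (fun hc {k X Y} _ _ _ _ _ _ p h => exists_prop_stage descendsProp_isFinite hc p h) hc Vj hfin
    (g₃ ≫ g₂ ≫ g₁ ≫ f₀)
  let g : i₄ ⟶ k₀ := g₄ ≫ g₃ ≫ g₂ ≫ g₁
  have hA := isActOpsAfter_of_isActOps _ _ _ (Over.pullback (D.map g)) (isActOps_of_action ak)
  have hk := isActOps_actUp (D.map g) (D.map f₀) (D.map_comp g f₀).symm ak.act hA
  refine ⟨i₄, g ≫ f₀, hk.action, ?_, ?_, ?_, ?_, ?_⟩
  · rw [IsActOps.action_act, actUp_trans (c.π.app i₄) (D.map g) (D.map f₀) (D.map_comp g f₀).symm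
      (c.w g) (c.w (g ≫ f₀)) (c.w f₀) ak.act]
    exact hcompat
  · change IsIso (lift hk.action.act _)
    rw [IsActOps.action_act, isIso_lift_actUp_iff]
    exact isIso_up (D.map (g₄ ≫ g₃ ≫ g₂)) (D.map g₁)
      (by rw [← D.map_comp]; simp only [g, Category.assoc]) _ h₁
  · exact hom_up (P := @Flat) (D.map (g₄ ≫ g₃)) (D.map (g₂ ≫ g₁ ≫ f₀))
      (by rw [← D.map_comp]; simp only [g, Category.assoc]) Vj h₂
  · exact hom_up (P := @Surjective) (D.map g₄) (D.map (g₃ ≫ g₂ ≫ g₁ ≫ f₀))
      (by rw [← D.map_comp]; simp only [g, Category.assoc]) Vj h₃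
  · have e : g ≫ f₀ = g₄ ≫ g₃ ≫ g₂ ≫ g₁ ≫ f₀ := by simp only [g, Category.assoc]
    rw [e]
    exact h₄

end lim

end Groth.Agent.Lib.OverLimH6
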