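import Mathlib
import Groth.Prelude.Def_ActBC
import Groth.Agent.Lib.ActLim4_helper6
import Groth.Agent.Lib.TorsorFF_helper7

/-!
# Finite torsors over a cofiltered limit descend to a stage (helper6)
-/

set_option autoImplicit false
set_option linter.all false
set_option backward.isDefEq.respectTransparency false
universe u
open CategoryTheory CategoryTheory.Limits AlgebraicGeometry MonoidalCategory CartesianMonoidalCategory MonObj

namespace Groth.Agent.Lib.OverLimH6

section pt
variable {S : Scheme.{u}} {G G' V V' : Over S} [GrpObj G] [GrpObj G']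

/-- Pseudo-torsors are transported along group isomorphisms and isomorphisms of schemes. -/
lemma isIso_lift_transport (act : G' ⊗ V' ⟶ V') (φ : G ≅ G') (e : V ≅ V')
    (h : IsIso (lift act (snd G' V'))) :
    IsIso (lift ((φ.hom ⊗ₘ e.hom) ≫ act ≫ e.inv) (snd G V)) := by
  have key : lift ((φ.hom ⊗ₘ e.hom) ≫ act ≫ e.inv) (snd G V) =
      (φ.hom ⊗ₘ e.hom) ≫ lift act (snd G' V') ≫ (e.inv ⊗ₘ e.inv) := by
    apply CartesianMonoidalCategory.hom_ext
    · simp only [lift_fst, Category.assoc, tensorHom_fst, lift_fst_assoc]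
    · simp only [lift_snd, Category.assoc, tensorHom_snd, lift_snd_assoc, tensorHom_snd_assoc,
        Iso.hom_inv_id, Category.comp_id]
  rw [key]
  infer_instance

end pt

section main
variable {I : Type u} [SmallCategory I] [IsCofiltered I] {D : I ⥤ Scheme.{u}} {c : Cone D}
  [∀ (i i' : I) (f : i ⟶ i'), IsAffineHom (D.map f)]

open Groth.Agent.Lib.LimDescFPH7 Groth.Agent.Lib

/-- A finite fpqc torsor over the limit of a cofiltered system of qcqs schemes with affine
transition maps, under the base change of a flat finitely presented group scheme over a base `B`,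
descends to a stage. -/
theorem main_torsor_descend (hc : IsLimit c) [∀ i, CompactSpace (D.obj i)]
    [∀ i, QuasiSeparatedSpace (D.obj i)] {B : Scheme.{u}} (t : ∀ i, D.obj i ⟶ B)
    (ht : ∀ {i i' : I} (a : i ⟶ i'), D.map a ≫ t i' = t i) (tT : c.pt ⟶ B)
    (hT : ∀ i, c.π.app i ≫ t i = tT)
    (G : Over B) [GrpObj G] [LocallyOfFinitePresentation G.hom] [QuasiCompact G.hom]
    [QuasiSeparated G.hom] [Flat G.hom]
    (V : Over c.pt) [IsFinite V.hom] (a : AlgGrp.Action (Red.bc tT G) V)
    (hV : NonAbH1.IsTorsorFor Scheme.fpqcPrecoverage a) :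
    ∃ (i : I) (Vi : Over (D.obj i)) (ai : AlgGrp.Action (Red.bc (t i) G) Vi),
      IsFinite Vi.hom ∧ NonAbH1.IsTorsorFor Scheme.fpqcPrecoverage ai ∧
      Nonempty (NonAbH1.EquivIso (ai.bc (c.π.app i))
        (a.restrict (ActBC.bcCompIso (c.π.app i) (t i) G (hT i)).hom)) := by
  classical
  haveI hflG : ∀ {S' : Scheme.{u}} (s : S' ⟶ B), Flat (Red.bc s G).hom := by
    intro S' s; change Flat (pullback.snd G.hom s); infer_instance
  obtain ⟨hps, hsj, hfl, hqc⟩ := (TorsorFF_helper7.main (Red.bc tT G) V a).mp hV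
  haveI : LocallyOfFinitePresentation V.hom :=
    TorsorProp_helper7.prop_of_torsor @LocallyOfFinitePresentation a hV inferInstance
  haveI : QuasiCompact V.hom := hqc
  haveI : QuasiSeparated V.hom := inferInstance
  haveI := hfl
  haveI := hsj
  -- descend `V`
  obtain ⟨i₁, V₁s, v₁, g, hlfp₁, hqc₁, hqs₁, hpbV⟩ := main591 hc V.left V.hom
  let V₁ : Over (D.obj i₁) := Over.mk v₁
  haveI : LocallyOfFinitePresentation V₁.hom := hlfp₁
  haveI : QuasiCompact V₁.hom := hqc₁
  haveI : QuasiSeparated V₁.hom := hqs₁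
  let eV : Red.bc (c.π.app i₁) V₁ ≅ V :=
    (Over.isoMk hpbV.isoPullback (by exact hpbV.isoPullback_hom_snd)).symm
  let Gj : Over (D.obj i₁) := Red.bc (t i₁) G
  let β₀ := ActBC.bcCompIso (c.π.app i₁) (t i₁) G (hT i₁)
  have hA := isActOps_transport a β₀.hom eV
  let A : AlgGrp.Action (Red.bc (c.π.app i₁) Gj) (Red.bc (c.π.app i₁) V₁) := hA.action
  have hApt : NonAbH1.IsPseudoTorsorSch A := isIso_lift_transport a.act β₀ eV hps
  have hw : eV.hom.left ≫ V.hom = (Red.bc (c.π.app i₁) V₁).hom := Over.w eV.hom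
  have hAfl : Flat (Red.bc (c.π.app i₁) V₁).hom := by rw [← hw]; infer_instance
  have hAsj : Surjective (Red.bc (c.π.app i₁) V₁).hom := by rw [← hw]; infer_instance
  have hAfin : IsFinite (Red.bc (c.π.app i₁) V₁).hom := by rw [← hw]; infer_instance
  obtain ⟨k₀, f₀, ak, hcompat⟩ := exists_action_stage hc Gj V₁ A
  obtain ⟨k, f, a', hcompat', hps', hfl', hsj', hfin'⟩ :=
    exists_torsor_stage hc Gj V₁ f₀ ak A hcompat hApt hAfl hAsj hAfin
  let Γ := ActBC.bcCompIso (D.map f) (t i₁) G (ht f)
  refine ⟨k, Red.bc (D.map f) V₁, a'.restrict Γ.inv, hfin', ?_, ⟨?_⟩⟩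
  · rw [TorsorFF_helper7.main]
    refine ⟨?_, hsj', hfl', inferInstance⟩
    change IsIso (lift ((Γ.inv ▷ _) ≫ a'.act) (snd _ _))
    have e1 : lift ((Γ.inv ▷ Red.bc (D.map f) V₁) ≫ a'.act) (snd _ _) =
        (Γ.inv ▷ Red.bc (D.map f) V₁) ≫ lift a'.act (snd _ _) := by
      apply CartesianMonoidalCategory.hom_ext
      · simp only [lift_fst, Category.assoc]
      · simp only [lift_snd, Category.assoc, whiskerRight_snd]
    rw [e1]
    haveI : IsIso (lift a'.act (snd (Red.bc (D.map f) Gj) (Red.bc (D.map f) V₁))) := hps'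
    infer_instance
  · let βV := ActBC.bcCompIso (c.π.app k) (D.map f) V₁ (c.w f)
    let βG := ActBC.bcCompIso (c.π.app k) (D.map f) Gj (c.w f)
    let β₂ := ActBC.bcCompIso (c.π.app k) (t k) G (hT k)
    refine ⟨βV ≪≫ eV, ?_⟩
    have hkey : (Over.pullback (c.π.app k)).map Γ.inv ≫ βG.hom ≫ β₀.hom = β₂.hom := by
      have hC := bcCompIso_assoc (c.π.app k) (D.map f) (t i₁) (ht f) (c.w f) (hT k) (hT i₁) G
      rw [← hC, ← Functor.map_comp_assoc, Iso.inv_hom_id, CategoryTheory.Functor.map_id,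
        Category.id_comp]
    have hc1 := (actUp_eq_iff (c.π.app k) (D.map f) (c.w f) a'.act A.act).mp hcompat'
    have hAact : A.act = (β₀.hom ⊗ₘ eV.hom) ≫ a.act ≫ eV.inv := rfl
    rw [AlgGrp.Action.bc_restrict, AlgGrp.Action.restrict_act, AlgGrp.Action.restrict_act,
      AlgGrp.Action.bc_act, Iso.trans_hom]
    simp only [Category.assoc]
    rw [reassoc_of% hc1, hAact]
    simp only [Category.assoc, Iso.inv_hom_id, Category.comp_id]
    rw [← tensorHom_def'_assoc, tensorHom_comp_tensorHom_assoc, ← tensorHom_id,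
      tensorHom_comp_tensorHom_assoc, Category.id_comp, hkey]

/-- Variant of `main_torsor_descend` with the finiteness hypothesis as an explicit argument. -/
theorem main_torsor_descend' (hc : IsLimit c) [∀ i, CompactSpace (D.obj i)]
    [∀ i, QuasiSeparatedSpace (D.obj i)] {B : Scheme.{u}} (t : ∀ i, D.obj i ⟶ B)
    (ht : ∀ {i i' : I} (a : i ⟶ i'), D.map a ≫ t i' = t i) (tT : c.pt ⟶ B)
    (hT : ∀ i, c.π.app i ≫ t i = tT)
    (G : Over B) [GrpObj G] [LocallyOfFinitePresentation G.hom] [QuasiCompact G.hom]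
    [QuasiSeparated G.hom] [Flat G.hom]
    (V : Over c.pt) (hVfin : IsFinite V.hom) (a : AlgGrp.Action (Red.bc tT G) V)
    (hV : NonAbH1.IsTorsorFor Scheme.fpqcPrecoverage a) :
    ∃ (i : I) (Vi : Over (D.obj i)) (ai : AlgGrp.Action (Red.bc (t i) G) Vi),
      IsFinite Vi.hom ∧ NonAbH1.IsTorsorFor Scheme.fpqcPrecoverage ai ∧
      Nonempty (NonAbH1.EquivIso (ai.bc (c.π.app i))
        (a.restrict (ActBC.bcCompIso (c.π.app i) (t i) G (hT i)).hom)) := by
  haveI := hVfin
  exact main_torsor_descend hc t ht tT hT G V a hV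

end main

section field

/-- Every morphism to the spectrum of a field is flat. -/
theorem flat_of_field' {k : Type u} [Field k] {Z : Scheme.{u}}
    (h : Z ⟶ Spec (CommRingCat.of k)) : Flat h := by
  rw [IsZariskiLocalAtSource.iff_of_openCover (P := @Flat) Z.affineCover]
  intro i
  obtain ⟨φ, hφ⟩ : ∃ φ, Spec.map φ = Z.affineCover.f i ≫ h := ⟨_, Spec.map_preimage _⟩
  rw [← hφ]
  refine (HasRingHomProperty.Spec_iff (P := @Flat)).mpr ?_
  letI := φ.hom.toAlgebra
  show Module.Flat _ _
  infer_instance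

/-- A morphism locally of finite type to a locally Noetherian scheme is locally of finite
presentation. -/
theorem lfp_of_lft_of_noeth {Y S : Scheme.{u}} [IsLocallyNoetherian S] (f : Y ⟶ S)
    [LocallyOfFiniteType f] : LocallyOfFinitePresentation f := by
  rw [HasRingHomProperty.iff_appLE (P := @LocallyOfFinitePresentation)]
  intro U V e
  have h1 := HasRingHomProperty.appLE (P := @LocallyOfFiniteType) f inferInstance U V e
  haveI : IsNoetherianRing Γ(S, U.1) := IsLocallyNoetherian.component_noetherian U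
  exact RingHom.FinitePresentation.of_finiteType.1 h1

end field

end Groth.Agent.Lib.OverLimH6
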