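import Mathlib

/-!
# Action of a bifunctor on cochains, and compatibility with mapping cones (helper2)

* `CochainAction Φ`: an action of a functor `Φ` between categories of cochain complexes on cochains,
  compatible with sums, `ofHom`, composition and `δ`.
* `CochainAction.coneIso`: `Φ (mappingCone φ) ≅ mappingCone (Φ φ)`.
* `CochainAction.quasiIso_map_of_acyclic`: if `Φ` preserves acyclic complexes, it preserves quasi-isomorphisms.
* `action₁ F K₂`, `action₂ F K₁`: the actions for `mapBifunctor - K₂ F` and `mapBifunctor K₁ - F`.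
-/

open CategoryTheory Category Limits

namespace Groth.Agent.Lib.BifCone

open CochainComplex HomComplex

section Abstract

variable {A B : Type*} [Category A] [Category B] [Preadditive A] [Preadditive B]

/-- An action of a functor between categories of cochain complexes on cochains. -/
structure CochainAction (Φ : CochainComplex A ℤ ⥤ CochainComplex B ℤ) where
  map : ∀ {K L : CochainComplex A ℤ} {n : ℤ}, Cochain K L n → Cochain (Φ.obj K) (Φ.obj L) n
  map_add : ∀ {K L : CochainComplex A ℤ} {n : ℤ} (z z' : Cochain K L n),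
    map (z + z') = map z + map z'
  map_ofHom : ∀ {K L : CochainComplex A ℤ} (f : K ⟶ L),
    map (Cochain.ofHom f) = Cochain.ofHom (Φ.map f)
  map_comp : ∀ {K L M : CochainComplex A ℤ} {n n' n'' : ℤ} (z : Cochain K L n)
    (z' : Cochain L M n') (h : n + n' = n''), map (z.comp z' h) = (map z).comp (map z') h
  map_δ : ∀ {K L : CochainComplex A ℤ} (n m : ℤ) (z : Cochain K L n),
    δ n m (map z) = map (δ n m z)

namespace CochainAction

variable {Φ : CochainComplex A ℤ ⥤ CochainComplex B ℤ} (T : CochainAction Φ)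

lemma map_zero {K L : CochainComplex A ℤ} {n : ℤ} : T.map (0 : Cochain K L n) = 0 := by
  have h := T.map_add (0 : Cochain K L n) 0
  rw [add_zero] at h
  exact left_eq_add.mp h

lemma map_neg {K L : CochainComplex A ℤ} {n : ℤ} (z : Cochain K L n) :
    T.map (-z) = -T.map z := by
  have h := T.map_add z (-z)
  rw [add_neg_cancel, T.map_zero] at h
  exact eq_neg_of_add_eq_zero_right h.symm

variable [HasBinaryBiproducts A] [HasBinaryBiproducts B]
  {K L : CochainComplex A ℤ} (φ : K ⟶ L)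

/-- The comparison morphism `mappingCone (Φ φ) ⟶ Φ (mappingCone φ)`. -/
noncomputable def coneDesc : mappingCone (Φ.map φ) ⟶ Φ.obj (mappingCone φ) :=
  mappingCone.desc (Φ.map φ) (T.map (mappingCone.inl φ)) (Φ.map (mappingCone.inr φ)) (by
    rw [T.map_δ, mappingCone.δ_inl, T.map_ofHom, Functor.map_comp])

/-- The comparison morphism `Φ (mappingCone φ) ⟶ mappingCone (Φ φ)`. -/
noncomputable def coneLift : Φ.obj (mappingCone φ) ⟶ mappingCone (Φ.map φ) :=
  mappingCone.lift (Φ.map φ)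
    (Cocycle.mk (T.map (mappingCone.fst φ).1) 2 (by omega) (by
      rw [T.map_δ, Cocycle.δ_eq_zero, T.map_zero]))
    (T.map (mappingCone.snd φ)) (by
      rw [T.map_δ, mappingCone.δ_snd, T.map_neg, T.map_comp, T.map_ofHom, Cocycle.mk_coe,
        neg_add_cancel])

lemma map_inl_fst_v (p q : ℤ) (hpq : q + 1 = p) :
    (T.map (mappingCone.inl φ)).v p q (by omega) ≫ (T.map (mappingCone.fst φ).1).v q p hpq =
      𝟙 _ := by
  have h := congrArg T.map (mappingCone.inl_fst φ)
  rw [T.map_comp, T.map_ofHom, Φ.map_id] at h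
  have h' := Cochain.congr_v h p p (add_zero p)
  rwa [Cochain.comp_v _ _ (neg_add_cancel 1) p q p (by omega) hpq, Cochain.ofHom_v,
    HomologicalComplex.id_f] at h'

lemma map_inl_snd_v (p q : ℤ) (hpq : p + (-1) = q) :
    (T.map (mappingCone.inl φ)).v p q hpq ≫ (T.map (mappingCone.snd φ)).v q q (add_zero q) =
      0 := by
  have h := congrArg T.map (mappingCone.inl_snd φ)
  rw [T.map_comp, T.map_zero] at h
  have h' := Cochain.congr_v h p q hpq
  rwa [Cochain.comp_v _ _ (add_zero (-1)) p q q hpq (add_zero q), Cochain.zero_v] at h'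

lemma map_inr_fst_v (p q : ℤ) (hpq : p + 1 = q) :
    (Φ.map (mappingCone.inr φ)).f p ≫ (T.map (mappingCone.fst φ).1).v p q hpq = 0 := by
  have h := congrArg T.map (mappingCone.inr_fst φ)
  rw [T.map_comp, T.map_zero, T.map_ofHom] at h
  have h' := Cochain.congr_v h p q hpq
  rwa [Cochain.comp_v _ _ (zero_add 1) p p q (add_zero p) hpq, Cochain.zero_v,
    Cochain.ofHom_v] at h'

lemma map_inr_snd_v (p : ℤ) :
    (Φ.map (mappingCone.inr φ)).f p ≫ (T.map (mappingCone.snd φ)).v p p (add_zero p) = 𝟙 _ := by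
  have h := congrArg T.map (mappingCone.inr_snd φ)
  rw [T.map_comp, T.map_ofHom, T.map_ofHom, Φ.map_id] at h
  have h' := Cochain.congr_v h p p (add_zero p)
  rwa [Cochain.comp_v _ _ (zero_add 0) p p p (add_zero p) (add_zero p), Cochain.ofHom_v,
    Cochain.ofHom_v, HomologicalComplex.id_f] at h'

lemma map_id_v (p q : ℤ) (hpq : p + 1 = q) :
    (T.map (mappingCone.fst φ).1).v p q hpq ≫ (T.map (mappingCone.inl φ)).v q p (by omega) +
      (T.map (mappingCone.snd φ)).v p p (add_zero p) ≫ (Φ.map (mappingCone.inr φ)).f p =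
        𝟙 _ := by
  have h := congrArg T.map (mappingCone.id φ)
  rw [T.map_add, T.map_comp, T.map_comp, T.map_ofHom, T.map_ofHom, Φ.map_id] at h
  have h' := Cochain.congr_v h p p (add_zero p)
  rwa [Cochain.add_v, Cochain.comp_v _ _ (add_neg_cancel 1) p q p hpq (by omega),
    Cochain.comp_v _ _ (add_zero 0) p p p (add_zero p) (add_zero p), Cochain.ofHom_v,
    Cochain.ofHom_v, HomologicalComplex.id_f] at h'

lemma coneLift_coneDesc : T.coneLift φ ≫ T.coneDesc φ = 𝟙 _ := by
  ext n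
  rw [HomologicalComplex.comp_f, HomologicalComplex.id_f]
  dsimp only [coneLift, coneDesc]
  rw [mappingCone.lift_desc_f _ _ _ _ _ _ _ n (n + 1) rfl]
  exact T.map_id_v φ n (n + 1) rfl

lemma coneDesc_coneLift : T.coneDesc φ ≫ T.coneLift φ = 𝟙 _ := by
  ext n
  rw [HomologicalComplex.comp_f, HomologicalComplex.id_f]
  rw [mappingCone.ext_from_iff _ (n + 1) n rfl]
  constructor
  · rw [mappingCone.ext_to_iff _ n (n + 1) rfl]
    constructor
    · dsimp only [coneLift, coneDesc]
      rw [mappingCone.inl_v_desc_f_assoc, assoc, mappingCone.lift_f_fst_v, comp_id,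
        mappingCone.inl_v_fst_v, Cocycle.mk_coe]
      exact T.map_inl_fst_v φ (n + 1) n rfl
    · dsimp only [coneLift, coneDesc]
      rw [mappingCone.inl_v_desc_f_assoc, assoc, mappingCone.lift_f_snd_v, comp_id,
        mappingCone.inl_v_snd_v]
      exact T.map_inl_snd_v φ (n + 1) n (by omega)
  · rw [mappingCone.ext_to_iff _ n (n + 1) rfl]
    constructor
    · dsimp only [coneLift, coneDesc]
      rw [mappingCone.inr_f_desc_f_assoc, assoc, mappingCone.lift_f_fst_v, comp_id,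
        mappingCone.inr_f_fst_v, Cocycle.mk_coe]
      exact T.map_inr_fst_v φ n (n + 1) rfl
    · dsimp only [coneLift, coneDesc]
      rw [mappingCone.inr_f_desc_f_assoc, assoc, mappingCone.lift_f_snd_v, comp_id,
        mappingCone.inr_f_snd_v]
      exact T.map_inr_snd_v φ n

/-- `Φ` commutes with mapping cones. -/
noncomputable def coneIso : Φ.obj (mappingCone φ) ≅ mappingCone (Φ.map φ) where
  hom := T.coneLift φ
  inv := T.coneDesc φ
  hom_inv_id := T.coneLift_coneDesc φ
  inv_hom_id := T.coneDesc_coneLift φ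

@[reassoc]
lemma inr_coneIso_inv : mappingCone.inr (Φ.map φ) ≫ (T.coneIso φ).inv =
    Φ.map (mappingCone.inr φ) := by
  dsimp only [coneIso, coneDesc]
  rw [mappingCone.inr_desc]

end CochainAction

end Abstract

section AbelianCase

variable {A B : Type*} [Category A] [Category B] [Abelian A] [Abelian B]

lemma quasiIso_iff_acyclic_mappingCone {K L : CochainComplex A ℤ} (g : K ⟶ L) :
    QuasiIso g ↔ (mappingCone g).Acyclic := by
  have h1 : QuasiIso g ↔ HomotopyCategory.quasiIso A (ComplexShape.up ℤ)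
      ((HomotopyCategory.quotient A (ComplexShape.up ℤ)).map g) :=
    (HomotopyCategory.quotient_map_mem_quasiIso_iff g).symm
  rw [h1, HomotopyCategory.quasiIso_eq_trW_subcategoryAcyclic]
  have h2 := (HomotopyCategory.subcategoryAcyclic A).trW_iff_of_distinguished _
    (HomotopyCategory.mappingCone_triangleh_distinguished g)
  exact h2.trans (HomotopyCategory.quotient_obj_mem_subcategoryAcyclic_iff_acyclic _)

lemma acyclic_of_iso {K L : CochainComplex A ℤ} (e : K ≅ L) (h : K.Acyclic) : L.Acyclic := by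
  intro i
  rw [HomologicalComplex.exactAt_iff_isZero_homology]
  exact IsZero.of_iso ((HomologicalComplex.exactAt_iff_isZero_homology _ _).1 (h i))
    ((HomologicalComplex.homologyFunctor A (ComplexShape.up ℤ) i).mapIso e.symm)

theorem CochainAction.quasiIso_map_of_acyclic
    {Φ : CochainComplex A ℤ ⥤ CochainComplex B ℤ} (T : CochainAction Φ)
    (hΦ : ∀ K : CochainComplex A ℤ, K.Acyclic → (Φ.obj K).Acyclic)
    {K L : CochainComplex A ℤ} (φ : K ⟶ L) [hφ : QuasiIso φ] : QuasiIso (Φ.map φ) := by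
  rw [quasiIso_iff_acyclic_mappingCone] at hφ ⊢
  exact acyclic_of_iso (T.coneIso φ) (hΦ _ hφ)

/-- Two out of three for acyclicity of `K`, `L`, `mappingCone φ`. -/
theorem acyclic_mappingCone_of_acyclic {K L : CochainComplex A ℤ} (φ : K ⟶ L)
    (hK : K.Acyclic) (hL : L.Acyclic) : (mappingCone φ).Acyclic := by
  rw [← HomotopyCategory.quotient_obj_mem_subcategoryAcyclic_iff_acyclic] at hK hL ⊢
  exact (HomotopyCategory.subcategoryAcyclic A).ext_of_isTriangulatedClosed₃ _
    (HomotopyCategory.mappingCone_triangleh_distinguished φ) hK hL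

theorem acyclic_tgt_of_acyclic_mappingCone {K L : CochainComplex A ℤ} (φ : K ⟶ L)
    (hK : K.Acyclic) (hC : (mappingCone φ).Acyclic) : L.Acyclic := by
  rw [← HomotopyCategory.quotient_obj_mem_subcategoryAcyclic_iff_acyclic] at hK hC ⊢
  exact (HomotopyCategory.subcategoryAcyclic A).ext_of_isTriangulatedClosed₂ _
    (HomotopyCategory.mappingCone_triangleh_distinguished φ) hK hC

theorem acyclic_src_of_acyclic_mappingCone {K L : CochainComplex A ℤ} (φ : K ⟶ L)
    (hL : L.Acyclic) (hC : (mappingCone φ).Acyclic) : K.Acyclic := by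
  rw [← HomotopyCategory.quotient_obj_mem_subcategoryAcyclic_iff_acyclic] at hL hC ⊢
  exact (HomotopyCategory.subcategoryAcyclic A).ext_of_isTriangulatedClosed₁ _
    (HomotopyCategory.mappingCone_triangleh_distinguished φ) hL hC

end AbelianCase

section Bifunctor

open HomologicalComplex

variable {C₁ C₂ D : Type*} [Category C₁] [Category C₂] [Category D]
  [Preadditive C₁] [Preadditive C₂] [Preadditive D]
  (F : C₁ ⥤ C₂ ⥤ D) [F.Additive] [∀ X₁, (F.obj X₁).Additive]

section First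

variable {K₁ L₁ M₁ : CochainComplex C₁ ℤ} (K₂ : CochainComplex C₂ ℤ)
  [CochainComplex.HasMapBifunctor K₁ K₂ F] [CochainComplex.HasMapBifunctor L₁ K₂ F]
  [CochainComplex.HasMapBifunctor M₁ K₂ F]

/-- The action of `mapBifunctor - K₂ F` on cochains. -/
noncomputable def map₁ {n : ℤ} (z : Cochain K₁ L₁ n) :
    Cochain (CochainComplex.mapBifunctor K₁ K₂ F) (CochainComplex.mapBifunctor L₁ K₂ F) n :=
  Cochain.mk (fun i j hij => HomologicalComplex.mapBifunctorDesc (fun p q hpq =>
    (F.map (z.v p (p + n) rfl)).app (K₂.X q) ≫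
      CochainComplex.ιMapBifunctor L₁ K₂ F (p + n) q j (by dsimp at hpq; omega)))

@[reassoc]
lemma ι_map₁_v {n : ℤ} (z : Cochain K₁ L₁ n) (p q i : ℤ) (hpq : p + q = i) (p' j : ℤ)
    (hp' : p + n = p') (hij : i + n = j) :
    CochainComplex.ιMapBifunctor K₁ K₂ F p q i hpq ≫ (map₁ F K₂ z).v i j hij =
      (F.map (z.v p p' hp')).app (K₂.X q) ≫
        CochainComplex.ιMapBifunctor L₁ K₂ F p' q j (by omega) := by
  subst hp'
  dsimp only [map₁]
  rw [Cochain.mk_v]
  exact HomologicalComplex.ι_mapBifunctorDesc _ _ _ _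

lemma map₁_add {n : ℤ} (z z' : Cochain K₁ L₁ n) :
    map₁ F K₂ (z + z') = map₁ F K₂ z + map₁ F K₂ z' := by
  ext i j hij p q hpq
  have hpq' : p + q = i := hpq
  rw [Cochain.add_v, Preadditive.comp_add]
  erw [ι_map₁_v F K₂ _ p q i hpq' (p + n) j rfl hij, ι_map₁_v F K₂ _ p q i hpq' (p + n) j rfl hij,
    ι_map₁_v F K₂ _ p q i hpq' (p + n) j rfl hij]
  rw [Cochain.add_v, Functor.map_add, NatTrans.app_add, Preadditive.add_comp]

lemma map₁_zero {n : ℤ} : map₁ F K₂ (0 : Cochain K₁ L₁ n) = 0 := by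
  have h := map₁_add F K₂ (0 : Cochain K₁ L₁ n) 0
  rw [add_zero] at h
  exact left_eq_add.mp h

lemma map₁_ofHom (f : K₁ ⟶ L₁) :
    map₁ F K₂ (Cochain.ofHom f) =
      Cochain.ofHom (HomologicalComplex.mapBifunctorMap f (𝟙 K₂) F (ComplexShape.up ℤ)) := by
  apply Cochain.ext₀
  intro i
  apply HomologicalComplex.mapBifunctor.hom_ext
  intro p q hpq
  have hpq' : p + q = i := hpq
  erw [ι_map₁_v F K₂ _ p q i hpq' p i (add_zero p) (add_zero i)]
  rw [Cochain.ofHom_v, Cochain.ofHom_v]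
  erw [HomologicalComplex.ι_mapBifunctorMap]
  rw [HomologicalComplex.id_f, CategoryTheory.Functor.map_id, id_comp]

lemma map₁_comp {n n' n'' : ℤ} (z : Cochain K₁ L₁ n) (z' : Cochain L₁ M₁ n') (h : n + n' = n'') :
    map₁ F K₂ (z.comp z' h) = (map₁ F K₂ z).comp (map₁ F K₂ z') h := by
  ext i j hij p q hpq
  have hpq' : p + q = i := hpq
  rw [Cochain.comp_v _ _ h i (i + n) j rfl (by omega)]
  erw [ι_map₁_v F K₂ _ p q i hpq' (p + n'') j rfl hij,
    ι_map₁_v_assoc F K₂ z p q i hpq' (p + n) (i + n) rfl rfl,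
    ι_map₁_v F K₂ z' (p + n) q (i + n) (by omega) (p + n'') j (by omega) (by omega)]
  rw [Cochain.comp_v _ _ h p (p + n) (p + n'') rfl (by omega), Functor.map_comp,
    NatTrans.comp_app, assoc]

@[reassoc]
lemma ι_d (p q i j p' q' : ℤ) (hpq : p + q = i) (hij : i + 1 = j) (hp' : p + 1 = p')
    (hq' : q + 1 = q') :
    CochainComplex.ιMapBifunctor K₁ K₂ F p q i hpq ≫ (CochainComplex.mapBifunctor K₁ K₂ F).d i j =
      (F.map (K₁.d p p')).app (K₂.X q) ≫
        CochainComplex.ιMapBifunctor K₁ K₂ F p' q j (by omega) +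
      p.negOnePow • (F.obj (K₁.X p)).map (K₂.d q q') ≫
        CochainComplex.ιMapBifunctor K₁ K₂ F p q' j (by omega) := by
  subst hp' hq'
  rw [HomologicalComplex.mapBifunctor.d_eq, Preadditive.comp_add]
  erw [HomologicalComplex.mapBifunctor.ι_D₁, HomologicalComplex.mapBifunctor.ι_D₂]
  rw [HomologicalComplex.mapBifunctor.d₁_eq K₁ K₂ F (ComplexShape.up ℤ) (i₁ := p) (i₁' := p + 1) rfl q j
      (by dsimp; omega),
    HomologicalComplex.mapBifunctor.d₂_eq K₁ K₂ F (ComplexShape.up ℤ) p (i₂ := q) (i₂' := q + 1) rfl j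
      (by dsimp; omega)]
  dsimp
  rw [one_smul]

lemma map₁_δ (n m : ℤ) (z : Cochain K₁ L₁ n) :
    δ n m (map₁ F K₂ z) = map₁ F K₂ (δ n m z) := by
  by_cases hnm : n + 1 = m
  swap
  · rw [δ_shape _ _ hnm, δ_shape _ _ hnm, map₁_zero]
  subst hnm
  ext i j hij p q hpq
  have hpq' : p + q = i := hpq
  subst hpq'
  obtain rfl : j = p + q + (n + 1) := by omega
  rw [δ_v n (n + 1) rfl _ (p + q) (p + q + (n + 1)) rfl (p + q + n) (p + q + 1) (by omega) rfl]
  rw [Preadditive.comp_add, Linear.comp_units_smul]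
  erw [ι_map₁_v_assoc F K₂ z p q (p + q) rfl (p + n) (p + q + n) rfl rfl]
  erw [ι_d F K₂ (K₁ := L₁) (p + n) q (p + q + n) (p + q + (n + 1)) (p + (n + 1)) (q + 1)
    (by omega) (by omega) (by omega) rfl]
  erw [ι_d_assoc F K₂ p q (p + q) (p + q + 1) (p + 1) (q + 1) rfl rfl rfl rfl]
  rw [Preadditive.add_comp, Linear.units_smul_comp, assoc, assoc]
  erw [ι_map₁_v F K₂ z (p + 1) q (p + q + 1) (by omega) (p + (n + 1)) (p + q + (n + 1))
    (by omega) (by omega)]
  erw [ι_map₁_v F K₂ z p (q + 1) (p + q + 1) (by omega) (p + n) (p + q + (n + 1))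
    rfl (by omega)]
  erw [ι_map₁_v F K₂ (δ n (n + 1) z) p q (p + q) rfl (p + (n + 1)) (p + q + (n + 1)) rfl rfl]
  rw [δ_v n (n + 1) rfl z p (p + (n + 1)) rfl (p + n) (p + 1) (by omega) rfl]
  have hc : (n + 1).negOnePow * p.negOnePow = -(p + n).negOnePow := by
    rw [← Int.negOnePow_add, show n + 1 + p = (p + n) + 1 by ring, Int.negOnePow_succ]
  simp only [Functor.map_add, Functor.map_comp, Functor.map_units_smul, NatTrans.app_add,
    NatTrans.comp_app, NatTrans.app_units_zsmul, Preadditive.add_comp, Preadditive.comp_add,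
    Linear.units_smul_comp, Linear.comp_units_smul, assoc, smul_add, smul_smul,
    NatTrans.naturality_assoc]
  rw [hc, Units.neg_smul]
  abel

end First

section Second

variable (K₁ : CochainComplex C₁ ℤ) {K₂' L₂ M₂ : CochainComplex C₂ ℤ}
  [CochainComplex.HasMapBifunctor K₁ K₂' F] [CochainComplex.HasMapBifunctor K₁ L₂ F]
  [CochainComplex.HasMapBifunctor K₁ M₂ F]

/-- The action of `mapBifunctor K₁ - F` on cochains. -/
noncomputable def map₂ {n : ℤ} (z : Cochain K₂' L₂ n) :
    Cochain (CochainComplex.mapBifunctor K₁ K₂' F) (CochainComplex.mapBifunctor K₁ L₂ F) n :=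
  Cochain.mk (fun i j hij => HomologicalComplex.mapBifunctorDesc (fun p q hpq =>
    (p * n).negOnePow • (F.obj (K₁.X p)).map (z.v q (q + n) rfl) ≫
      CochainComplex.ιMapBifunctor K₁ L₂ F p (q + n) j (by dsimp at hpq; omega)))

@[reassoc]
lemma ι_map₂_v {n : ℤ} (z : Cochain K₂' L₂ n) (p q i : ℤ) (hpq : p + q = i) (q' j : ℤ)
    (hq' : q + n = q') (hij : i + n = j) :
    CochainComplex.ιMapBifunctor K₁ K₂' F p q i hpq ≫ (map₂ F K₁ z).v i j hij =
      (p * n).negOnePow • (F.obj (K₁.X p)).map (z.v q q' hq') ≫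
        CochainComplex.ιMapBifunctor K₁ L₂ F p q' j (by omega) := by
  subst hq'
  dsimp only [map₂]
  rw [Cochain.mk_v]
  exact HomologicalComplex.ι_mapBifunctorDesc _ _ _ _

lemma map₂_add {n : ℤ} (z z' : Cochain K₂' L₂ n) :
    map₂ F K₁ (z + z') = map₂ F K₁ z + map₂ F K₁ z' := by
  ext i j hij p q hpq
  have hpq' : p + q = i := hpq
  rw [Cochain.add_v, Preadditive.comp_add]
  erw [ι_map₂_v F K₁ _ p q i hpq' (q + n) j rfl hij, ι_map₂_v F K₁ _ p q i hpq' (q + n) j rfl hij,
    ι_map₂_v F K₁ _ p q i hpq' (q + n) j rfl hij]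
  rw [Cochain.add_v, Functor.map_add, Preadditive.add_comp, smul_add]

lemma map₂_zero {n : ℤ} : map₂ F K₁ (0 : Cochain K₂' L₂ n) = 0 := by
  have h := map₂_add F K₁ (0 : Cochain K₂' L₂ n) 0
  rw [add_zero] at h
  exact left_eq_add.mp h

lemma map₂_ofHom (f : K₂' ⟶ L₂) :
    map₂ F K₁ (Cochain.ofHom f) =
      Cochain.ofHom (HomologicalComplex.mapBifunctorMap (𝟙 K₁) f F (ComplexShape.up ℤ)) := by
  apply Cochain.ext₀
  intro i
  apply HomologicalComplex.mapBifunctor.hom_ext
  intro p q hpq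
  have hpq' : p + q = i := hpq
  erw [ι_map₂_v F K₁ _ p q i hpq' q i (add_zero q) (add_zero i)]
  rw [Cochain.ofHom_v, Cochain.ofHom_v, mul_zero, Int.negOnePow_zero, one_smul]
  erw [HomologicalComplex.ι_mapBifunctorMap]
  rw [HomologicalComplex.id_f, CategoryTheory.Functor.map_id, NatTrans.id_app, id_comp]

lemma map₂_comp {n n' n'' : ℤ} (z : Cochain K₂' L₂ n) (z' : Cochain L₂ M₂ n') (h : n + n' = n'') :
    map₂ F K₁ (z.comp z' h) = (map₂ F K₁ z).comp (map₂ F K₁ z') h := by
  ext i j hij p q hpq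
  have hpq' : p + q = i := hpq
  rw [Cochain.comp_v _ _ h i (i + n) j rfl (by omega)]
  erw [ι_map₂_v F K₁ _ p q i hpq' (q + n'') j rfl hij,
    ι_map₂_v_assoc F K₁ z p q i hpq' (q + n) (i + n) rfl rfl]
  rw [Linear.units_smul_comp, assoc]
  erw [ι_map₂_v F K₁ z' p (q + n) (i + n) (by omega) (q + n'') j (by omega) (by omega)]
  rw [Cochain.comp_v _ _ h q (q + n) (q + n'') rfl (by omega), Functor.map_comp,
    Linear.comp_units_smul, smul_smul, assoc, ← Int.negOnePow_add, ← mul_add, h]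

lemma map₂_δ (n m : ℤ) (z : Cochain K₂' L₂ n) :
    δ n m (map₂ F K₁ z) = map₂ F K₁ (δ n m z) := by
  by_cases hnm : n + 1 = m
  swap
  · rw [δ_shape _ _ hnm, δ_shape _ _ hnm, map₂_zero]
  subst hnm
  ext i j hij p q hpq
  have hpq' : p + q = i := hpq
  subst hpq'
  obtain rfl : j = p + q + (n + 1) := by omega
  rw [δ_v n (n + 1) rfl _ (p + q) (p + q + (n + 1)) rfl (p + q + n) (p + q + 1) (by omega) rfl]
  rw [Preadditive.comp_add, Linear.comp_units_smul]
  erw [ι_map₂_v_assoc F K₁ z p q (p + q) rfl (q + n) (p + q + n) rfl rfl]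
  rw [Linear.units_smul_comp, assoc]
  erw [ι_d F L₂ (K₁ := K₁) p (q + n) (p + q + n) (p + q + (n + 1)) (p + 1) (q + (n + 1))
    (by omega) (by omega) rfl (by omega)]
  erw [ι_d_assoc F K₂' (K₁ := K₁) p q (p + q) (p + q + 1) (p + 1) (q + 1) rfl rfl rfl rfl]
  rw [Preadditive.add_comp, Linear.units_smul_comp, assoc, assoc]
  erw [ι_map₂_v F K₁ z (p + 1) q (p + q + 1) (by omega) (q + n) (p + q + (n + 1)) rfl (by omega)]
  erw [ι_map₂_v F K₁ z p (q + 1) (p + q + 1) (by omega) (q + (n + 1)) (p + q + (n + 1))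
    (by omega) (by omega)]
  erw [ι_map₂_v F K₁ (δ n (n + 1) z) p q (p + q) rfl (q + (n + 1)) (p + q + (n + 1)) rfl rfl]
  rw [δ_v n (n + 1) rfl z q (q + (n + 1)) rfl (q + n) (q + 1) (by omega) rfl]
  have h1 : (p * (n + 1)).negOnePow = (p * n).negOnePow * p.negOnePow := by
    rw [mul_add, mul_one, Int.negOnePow_add]
  have h2 : ((p + 1) * n).negOnePow = (p * n).negOnePow * n.negOnePow := by
    rw [add_mul, one_mul, Int.negOnePow_add]
  have h3 : (n + 1).negOnePow = -n.negOnePow := Int.negOnePow_succ n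
  simp only [Functor.map_add, Functor.map_comp, Functor.map_units_smul, 
    Preadditive.add_comp, Preadditive.comp_add,
    Linear.units_smul_comp, Linear.comp_units_smul, assoc, smul_add, smul_smul,
    NatTrans.naturality_assoc, h1, h2, h3]
  have e1 : -n.negOnePow * ((p * n).negOnePow * n.negOnePow) = -(p * n).negOnePow := by
    rw [neg_mul, mul_comm, mul_assoc, Int.units_mul_self, mul_one]
  have e2 : -n.negOnePow * (p.negOnePow * (p * n).negOnePow) =
      (p * n).negOnePow * p.negOnePow * -n.negOnePow := by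
    rw [mul_comm (-n.negOnePow), mul_comm p.negOnePow]
  rw [e1, e2, Units.neg_smul]
  abel

end Second

section Actions

variable [∀ (K₁ : CochainComplex C₁ ℤ) (K₂ : CochainComplex C₂ ℤ),
  CochainComplex.HasMapBifunctor K₁ K₂ F]

/-- The cochain action of `K₁ ↦ mapBifunctor K₁ K₂ F`. -/
noncomputable def action₁ (K₂ : CochainComplex C₂ ℤ) :
    CochainAction (F.map₂CochainComplex.flip.obj K₂) where
  map z := map₁ F K₂ z
  map_add z z' := map₁_add F K₂ z z'
  map_ofHom f := map₁_ofHom F K₂ f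
  map_comp z z' h := map₁_comp F K₂ z z' h
  map_δ n m z := map₁_δ F K₂ n m z

/-- The cochain action of `K₂ ↦ mapBifunctor K₁ K₂ F`. -/
noncomputable def action₂ (K₁ : CochainComplex C₁ ℤ) :
    CochainAction (F.map₂CochainComplex.obj K₁) where
  map z := map₂ F K₁ z
  map_add z z' := map₂_add F K₁ z z'
  map_ofHom f := map₂_ofHom F K₁ f
  map_comp z z' h := map₂_comp F K₁ z z' h
  map_δ n m z := map₂_δ F K₁ n m z

end Actions

end Bifunctor

section Main

open HomologicalComplex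

variable {C₁ C₂ D : Type*} [Category C₁] [Category C₂] [Category D]

/-- If `- ⊗ K₂` preserves acyclic complexes, it preserves quasi-isomorphisms. -/
theorem quasiIso_mapBifunctorMap₁ [Abelian C₁] [Preadditive C₂] [Abelian D]
    (F : C₁ ⥤ C₂ ⥤ D) [F.Additive] [∀ X₁, (F.obj X₁).Additive]
    [∀ (K₁ : CochainComplex C₁ ℤ) (K₂ : CochainComplex C₂ ℤ),
      CochainComplex.HasMapBifunctor K₁ K₂ F]
    (K₂ : CochainComplex C₂ ℤ)
    (hK : ∀ L : CochainComplex C₁ ℤ, L.Acyclic →
      (HomologicalComplex.mapBifunctor L K₂ F (ComplexShape.up ℤ)).Acyclic)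
    {K L : CochainComplex C₁ ℤ} (φ : K ⟶ L) [QuasiIso φ] :
    QuasiIso (HomologicalComplex.mapBifunctorMap φ (𝟙 K₂) F (ComplexShape.up ℤ)) :=
  (action₁ F K₂).quasiIso_map_of_acyclic hK φ

/-- If `K₁ ⊗ -` preserves acyclic complexes, it preserves quasi-isomorphisms. -/
theorem quasiIso_mapBifunctorMap₂ [Preadditive C₁] [Abelian C₂] [Abelian D]
    (F : C₁ ⥤ C₂ ⥤ D) [F.Additive] [∀ X₁, (F.obj X₁).Additive]
    [∀ (K₁ : CochainComplex C₁ ℤ) (K₂ : CochainComplex C₂ ℤ),
      CochainComplex.HasMapBifunctor K₁ K₂ F]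
    (K₁ : CochainComplex C₁ ℤ)
    (hK : ∀ L : CochainComplex C₂ ℤ, L.Acyclic →
      (HomologicalComplex.mapBifunctor K₁ L F (ComplexShape.up ℤ)).Acyclic)
    {K L : CochainComplex C₂ ℤ} (φ : K ⟶ L) [QuasiIso φ] :
    QuasiIso (HomologicalComplex.mapBifunctorMap (𝟙 K₁) φ F (ComplexShape.up ℤ)) :=
  (action₂ F K₁).quasiIso_map_of_acyclic hK φ

/-- `mapBifunctor (mappingCone φ) K₂ F ≅ mappingCone (mapBifunctorMap φ (𝟙 K₂) F)`. -/
noncomputable def mapBifunctorConeIso₁ [Preadditive C₁] [Preadditive C₂] [Preadditive D]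
    [HasBinaryBiproducts C₁] [HasBinaryBiproducts D]
    (F : C₁ ⥤ C₂ ⥤ D) [F.Additive] [∀ X₁, (F.obj X₁).Additive]
    [∀ (K₁ : CochainComplex C₁ ℤ) (K₂ : CochainComplex C₂ ℤ),
      CochainComplex.HasMapBifunctor K₁ K₂ F]
    (K₂ : CochainComplex C₂ ℤ) {K L : CochainComplex C₁ ℤ} (φ : K ⟶ L) :
    HomologicalComplex.mapBifunctor (mappingCone φ) K₂ F (ComplexShape.up ℤ) ≅
      mappingCone (HomologicalComplex.mapBifunctorMap φ (𝟙 K₂) F (ComplexShape.up ℤ)) :=
  (action₁ F K₂).coneIso φ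

/-- `mapBifunctor K₁ (mappingCone φ) F ≅ mappingCone (mapBifunctorMap (𝟙 K₁) φ F)`. -/
noncomputable def mapBifunctorConeIso₂ [Preadditive C₁] [Preadditive C₂] [Preadditive D]
    [HasBinaryBiproducts C₂] [HasBinaryBiproducts D]
    (F : C₁ ⥤ C₂ ⥤ D) [F.Additive] [∀ X₁, (F.obj X₁).Additive]
    [∀ (K₁ : CochainComplex C₁ ℤ) (K₂ : CochainComplex C₂ ℤ),
      CochainComplex.HasMapBifunctor K₁ K₂ F]
    (K₁ : CochainComplex C₁ ℤ) {K L : CochainComplex C₂ ℤ} (φ : K ⟶ L) :
    HomologicalComplex.mapBifunctor K₁ (mappingCone φ) F (ComplexShape.up ℤ) ≅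
      mappingCone (HomologicalComplex.mapBifunctorMap (𝟙 K₁) φ F (ComplexShape.up ℤ)) :=
  (action₂ F K₁).coneIso φ

end Main

end Groth.Agent.Lib.BifCone
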