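import Mathlib
import Groth.Agent.Lib.LerayDer_helper9
import Groth.Agent.Lib.BifCone_helper2

/-!
# Classes of objects adapted to an additive functor (helper7)

`F : 𝒜 ⥤ ℬ` additive between abelian categories, `P` a class of objects of `𝒜` containing the
zero objects, stable under isomorphisms and binary biproducts, and such that for a short exact
sequence `0 → X₁ → X₂ → X₃ → 0` with `X₁, X₂` in `P`, the image by `F` is short exact and `X₃` is
in `P`.  Then `F` preserves quasi-isomorphisms between bounded below complexes of objects of `P`.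
(No left exactness of `F` is assumed; compare `AcycPred_helper2`.)
-/

set_option backward.isDefEq.respectTransparency false
set_option backward.isDefEq.respectTransparency.types false
set_option linter.style.haveILetI false
set_option linter.unusedSectionVars false
set_option autoImplicit false

open CategoryTheory CategoryTheory.Limits HomologicalComplex

namespace Groth.Agent.Lib.AcycClassH7

universe v v' u u'

variable {𝒜 : Type u} [Category.{v} 𝒜] [Abelian 𝒜] {ℬ : Type u'} [Category.{v'} ℬ] [Abelian ℬ]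
  (F : 𝒜 ⥤ ℬ) [F.Additive] (P : 𝒜 → Prop)

/-- the class `P` is adapted to `F` -/
structure Adapted : Prop where
  zero : ∀ X : 𝒜, IsZero X → P X
  iso : ∀ {A B : 𝒜} (_ : A ≅ B), P A → P B
  ses : ∀ S : ShortComplex 𝒜, S.ShortExact → P S.X₁ → P S.X₂ → (S.map F).ShortExact ∧ P S.X₃
  biprod : ∀ A B : 𝒜, P A → P B → P (A ⊞ B)

variable {F P} (h : Adapted F P) (Q : CochainComplex 𝒜 ℤ)

include h in
lemma pred_Zc (n₀ : ℤ) [Q.IsStrictlyGE n₀] (hQ : ∀ m, Q.ExactAt m) (hac : ∀ m, P (Q.X m)) :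
    ∀ i : ℤ, P (LerayDer.Zc Q i) := by
  have hz : ∀ i, i < n₀ → IsZero (LerayDer.Zc Q i) := fun i hi =>
    IsZero.of_mono (kernel.ι (Q.d i (i + 1))) (Q.isZero_of_isStrictlyGE n₀ i hi)
  have hstep : ∀ i, P (LerayDer.Zc Q i) → P (LerayDer.Zc Q (i + 1)) := fun i hi =>
    (h.ses (LerayDer.sesZ Q i) (LerayDer.sesZ_shortExact Q i (hQ _)) hi (hac i)).2
  intro i
  by_cases hi : i < n₀
  · exact h.zero _ (hz i hi)
  · have hle : n₀ - 1 ≤ i := by omega
    exact Int.leInduction (m := n₀ - 1) (motive := fun n _ => P (LerayDer.Zc Q n))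
      (h.zero _ (hz _ (by omega))) (fun n _ hn => hstep n hn) i hle

include h in
/-- `F` of a bounded below exact complex of objects of `P` is exact -/
theorem exactAt_map (n₀ : ℤ) [Q.IsStrictlyGE n₀] (hQ : ∀ m, Q.ExactAt m)
    (hac : ∀ m, P (Q.X m)) (j : ℤ) :
    ((F.mapHomologicalComplex (ComplexShape.up ℤ)).obj Q).ExactAt j := by
  obtain ⟨i, rfl⟩ : ∃ i, j = i + 1 := ⟨j - 1, by omega⟩
  rw [exactAt_iff' _ i (i + 1) (i + 1 + 1) (by simp) (by simp)]
  have hZ := pred_Zc h Q n₀ hQ hac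
  have h1 := (h.ses (LerayDer.sesZ Q i) (LerayDer.sesZ_shortExact Q i (hQ _)) (hZ i) (hac i)).1
  have h2 := (h.ses (LerayDer.sesZ Q (i + 1)) (LerayDer.sesZ_shortExact Q (i + 1) (hQ _))
    (hZ (i + 1)) (hac (i + 1))).1
  have h3 := (h.ses (LerayDer.sesZ Q (i + 1 + 1)) (LerayDer.sesZ_shortExact Q (i + 1 + 1) (hQ _))
    (hZ (i + 1 + 1)) (hac (i + 1 + 1))).1
  have hepi : Epi (F.map (LerayDer.piZ Q i)) := h1.epi_g
  have hmono : Mono (F.map (kernel.ι (Q.d (i + 1 + 1) (i + 1 + 1 + 1)))) := h3.mono_f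
  let S' : ShortComplex ℬ := ShortComplex.mk (F.map (kernel.ι (Q.d (i + 1) (i + 1 + 1))))
    (F.map (Q.d (i + 1) (i + 1 + 1))) (by rw [← F.map_comp, kernel.condition, F.map_zero])
  let φ₂ : (LerayDer.sesZ Q (i + 1)).map F ⟶ S' :=
    { τ₁ := 𝟙 _
      τ₂ := 𝟙 _
      τ₃ := F.map (kernel.ι (Q.d (i + 1 + 1) (i + 1 + 1 + 1)))
      comm₁₂ := by
        change 𝟙 _ ≫ F.map (kernel.ι (Q.d (i + 1) (i + 1 + 1))) =
          F.map (kernel.ι (Q.d (i + 1) (i + 1 + 1))) ≫ 𝟙 _
        rw [Category.comp_id, Category.id_comp]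
      comm₂₃ := by
        change 𝟙 _ ≫ F.map (Q.d (i + 1) (i + 1 + 1)) =
          F.map (LerayDer.piZ Q (i + 1)) ≫ F.map (kernel.ι (Q.d (i + 1 + 1) (i + 1 + 1 + 1)))
        rw [Category.id_comp, ← F.map_comp, LerayDer.piZ_ι] }
  have hS' : S'.Exact := by
    haveI : Epi φ₂.τ₁ := (inferInstance : Epi (𝟙 _))
    haveI : IsIso φ₂.τ₂ := (inferInstance : IsIso (𝟙 _))
    haveI : Mono φ₂.τ₃ := hmono
    exact (ShortComplex.exact_iff_of_epi_of_isIso_of_mono φ₂).1 h2.exact
  let φ : ((F.mapHomologicalComplex (ComplexShape.up ℤ)).obj Q).sc' i (i + 1) (i + 1 + 1) ⟶ S' :=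
    { τ₁ := F.map (LerayDer.piZ Q i)
      τ₂ := 𝟙 _
      τ₃ := 𝟙 _
      comm₁₂ := by
        change F.map (LerayDer.piZ Q i) ≫ F.map (kernel.ι (Q.d (i + 1) (i + 1 + 1))) =
          F.map (Q.d i (i + 1)) ≫ 𝟙 _
        rw [Category.comp_id, ← F.map_comp, LerayDer.piZ_ι]
      comm₂₃ := by
        change 𝟙 _ ≫ F.map (Q.d (i + 1) (i + 1 + 1)) = F.map (Q.d (i + 1) (i + 1 + 1)) ≫ 𝟙 _
        rw [Category.comp_id, Category.id_comp] }
  haveI : Epi φ.τ₁ := hepi
  haveI : IsIso φ.τ₂ := (inferInstance : IsIso (𝟙 _))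
  haveI : Mono φ.τ₃ := (inferInstance : Mono (𝟙 _))
  exact (ShortComplex.exact_iff_of_epi_of_isIso_of_mono φ).2 hS'

include h in
/-- `F` preserves quasi-isomorphisms between bounded below complexes of objects of `P` -/
theorem quasiIso_map {K L : CochainComplex 𝒜 ℤ} (i : K ⟶ L) [QuasiIso i] (a : ℤ)
    [K.IsStrictlyGE a] [L.IsStrictlyGE a] (hK : ∀ n, P (K.X n)) (hL : ∀ n, P (L.X n)) :
    QuasiIso ((F.mapHomologicalComplex (ComplexShape.up ℤ)).map i) := by
  rw [BifCone.quasiIso_iff_acyclic_mappingCone]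
  haveI : (CochainComplex.mappingCone i).IsStrictlyGE (a - 1) :=
    CochainComplex.isStrictlyGE_mappingCone i a a (a - 1) (by omega) (by omega)
  have hac : (CochainComplex.mappingCone i).Acyclic :=
    (BifCone.quasiIso_iff_acyclic_mappingCone i).1 inferInstance
  have hP : ∀ n, P ((CochainComplex.mappingCone i).X n) := fun n =>
    h.iso (HomologicalComplex.homotopyCofiber.XIsoBiprod i n (n + 1) rfl).symm
      (h.biprod _ _ (hK (n + 1)) (hL n))
  have hex := exactAt_map h (CochainComplex.mappingCone i) (a - 1) hac hP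
  exact BifCone.acyclic_of_iso (CochainComplex.mappingCone.mapHomologicalComplexIso i F) hex

end Groth.Agent.Lib.AcycClassH7
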