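import Mathlib
import Groth.Agent.Lib.FAcyc_helper9

/-!
# Degenerate Grothendieck spectral sequence by dimension shifting (helper7)

`Φ : A ⥤ B`, `Ψ : B ⥤ C` left exact additive functors between abelian categories with enough
injectives.  If `Φ` sends injectives to `Ψ`-acyclic objects and `X` is `Φ`-acyclic, then
`RᵠΨ(ΦX) ≅ Rᵠ(Φ ⋙ Ψ)(X)` for every `q` (existence of an isomorphism).
APPEND-ONLY once landed.
-/

set_option autoImplicit false
set_option linter.style.haveILetI false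

namespace Groth.Agent.Lib.AcycCompH7

open CategoryTheory CategoryTheory.Limits
open Groth.Agent.Lib.FAcyc (acyc)

universe v₁ v₂ v₃ u₁ u₂ u₃

variable {A : Type u₁} [Category.{v₁} A] [Abelian A] [HasInjectiveResolutions A]

section One

variable {D : Type u₂} [Category.{v₂} D] [Abelian D] (G : A ⥤ D) [G.Additive]

/-- the connecting morphism is an isomorphism when the middle terms vanish -/
theorem nonempty_iso_δ (S : ShortComplex A) (hS : S.ShortExact) (n : ℕ)
    (h0 : IsZero ((G.rightDerived n).obj S.X₂))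
    (h1 : IsZero ((G.rightDerived (n + 1)).obj S.X₂)) :
    Nonempty ((G.rightDerived n).obj S.X₃ ≅ (G.rightDerived (n + 1)).obj S.X₁) := by
  haveI := FAcyc.enoughInjectives (A := A)
  haveI : Mono ((Horseshoe0.derivedLES G).δ S hS n (n + 1) rfl) :=
    ((Horseshoe0.derivedLES G).exact₃ S hS n (n + 1) rfl).mono_g (h0.eq_of_src _ _)
  haveI : Epi ((Horseshoe0.derivedLES G).δ S hS n (n + 1) rfl) :=
    ((Horseshoe0.derivedLES G).exact₁ S hS n (n + 1) rfl).epi_f (h1.eq_of_tgt _ _)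
  haveI : IsIso ((Horseshoe0.derivedLES G).δ S hS n (n + 1) rfl) := isIso_of_mono_of_epi _
  exact ⟨asIso ((Horseshoe0.derivedLES G).δ S hS n (n + 1) rfl)⟩

/-- `R¹G(X₁)` is the cokernel of `R⁰G(X₂) ⟶ R⁰G(X₃)` when `R¹G(X₂) = 0` -/
theorem nonempty_coker_iso (S : ShortComplex A) (hS : S.ShortExact)
    (h1 : IsZero ((G.rightDerived 1).obj S.X₂)) :
    Nonempty (cokernel ((G.rightDerived 0).map S.g) ≅ (G.rightDerived 1).obj S.X₁) := by
  haveI := FAcyc.enoughInjectives (A := A)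
  let T : ShortComplex D := ShortComplex.mk ((G.rightDerived 0).map S.g)
    ((Horseshoe0.derivedLES G).δ S hS 0 1 rfl) ((Horseshoe0.derivedLES G).comp_δ S hS 0 1 rfl)
  have hT : T.Exact := (Horseshoe0.derivedLES G).exact₃ S hS 0 1 rfl
  haveI : Epi T.g := ((Horseshoe0.derivedLES G).exact₁ S hS 0 1 rfl).epi_f (h1.eq_of_tgt _ _)
  exact ⟨(cokernelIsCokernel T.f).coconePointUniqueUpToIso hT.gIsCokernel⟩

end One

section Two

variable {B : Type u₂} [Category.{v₂} B] [Abelian B] [HasInjectiveResolutions B]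
  {C : Type u₃} [Category.{v₃} C] [Abelian C]
  (Φ : A ⥤ B) [Φ.Additive] [PreservesFiniteLimits Φ]
  (Ψ : B ⥤ C) [Ψ.Additive] [PreservesFiniteLimits Ψ]

omit [HasInjectiveResolutions B] in
/-- a left exact functor keeps a short exact sequence exact when `R¹` of the kernel vanishes -/
theorem shortExact_map (S : ShortComplex A) (hS : S.ShortExact)
    (h : IsZero ((Φ.rightDerived 1).obj S.X₁)) : (S.map Φ).ShortExact := by
  haveI := hS.mono_f
  have he : Epi ((Φ.rightDerived 0).map S.g) := FAcyc.epi_zero Φ S hS h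
  have hnat := Φ.rightDerivedZeroIsoSelf.hom.naturality S.g
  haveI : Epi (Φ.map S.g) := by
    haveI : Epi (Φ.rightDerivedZeroIsoSelf.hom.app S.X₂ ≫ Φ.map S.g) := by
      rw [← hnat]
      exact epi_comp _ _
    exact epi_of_epi (Φ.rightDerivedZeroIsoSelf.hom.app S.X₂) (Φ.map S.g)
  exact { exact := hS.exact.map_of_mono_of_preservesKernel Φ hS.mono_f inferInstance
          mono_f := inferInstanceAs (Mono (Φ.map S.f))
          epi_g := inferInstanceAs (Epi (Φ.map S.g)) }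

/-- **Degenerate Grothendieck spectral sequence**: if `Φ` sends injectives to `Ψ`-acyclics and `X`
is `Φ`-acyclic, then `RᵠΨ(ΦX) ≅ Rᵠ(Φ ⋙ Ψ)(X)`. -/
theorem nonempty_iso (hinj : ∀ I : A, Injective I → acyc Ψ (Φ.obj I)) :
    ∀ (q : ℕ) (X : A), acyc Φ X →
      Nonempty ((Ψ.rightDerived q).obj (Φ.obj X) ≅ ((Φ ⋙ Ψ).rightDerived q).obj X) := by
  haveI := FAcyc.enoughInjectives (A := A)
  intro q
  induction q with
  | zero =>
    intro X _
    exact ⟨Ψ.rightDerivedZeroIsoSelf.app (Φ.obj X) ≪≫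
      ((Φ ⋙ Ψ).rightDerivedZeroIsoSelf.app X).symm⟩
  | succ q ih =>
    intro X hX
    let S : ShortComplex A :=
      ShortComplex.mk (Injective.ι X) (cokernel.π (Injective.ι X)) (cokernel.condition _)
    have hS : S.ShortExact :=
      { exact := ShortComplex.exact_cokernel _
        mono_f := by dsimp only [S]; infer_instance
        epi_g := by dsimp only [S]; infer_instance }
    haveI : Injective S.X₂ := inferInstanceAs (Injective (Injective.under X))
    have hI : acyc Φ S.X₂ := FAcyc.acyc_of_injective Φ _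
    have hQ : acyc Φ S.X₃ := (FAcyc.h2 Φ S hS hX).mp hI
    have hΦS : (S.map Φ).ShortExact := shortExact_map Φ S hS (hX 1 Nat.one_pos)
    have hΨI : acyc Ψ (Φ.obj S.X₂) := hinj _ inferInstance
    cases q with
    | zero =>
      obtain ⟨e1⟩ := nonempty_coker_iso Ψ (S.map Φ) hΦS (hΨI 1 Nat.one_pos)
      obtain ⟨e2⟩ := nonempty_coker_iso (Φ ⋙ Ψ) S hS
        (Functor.isZero_rightDerived_obj_injective_succ (Φ ⋙ Ψ) 0 S.X₂)
      let c1 : cokernel ((Ψ.rightDerived 0).map (S.map Φ).g) ≅ cokernel (Ψ.map (Φ.map S.g)) :=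
        cokernel.mapIso _ _ (Ψ.rightDerivedZeroIsoSelf.app _) (Ψ.rightDerivedZeroIsoSelf.app _)
          (Ψ.rightDerivedZeroIsoSelf.hom.naturality _)
      let c2 : cokernel (((Φ ⋙ Ψ).rightDerived 0).map S.g) ≅ cokernel (Ψ.map (Φ.map S.g)) :=
        cokernel.mapIso _ _ ((Φ ⋙ Ψ).rightDerivedZeroIsoSelf.app _)
          ((Φ ⋙ Ψ).rightDerivedZeroIsoSelf.app _)
          ((Φ ⋙ Ψ).rightDerivedZeroIsoSelf.hom.naturality _)
      exact ⟨e1.symm ≪≫ c1 ≪≫ c2.symm ≪≫ e2⟩
    | succ q =>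
      obtain ⟨d1⟩ := nonempty_iso_δ Ψ (S.map Φ) hΦS (q + 1) (hΨI (q + 1) (Nat.succ_pos q))
        (hΨI (q + 1 + 1) (Nat.succ_pos _))
      obtain ⟨d2⟩ := nonempty_iso_δ (Φ ⋙ Ψ) S hS (q + 1)
        (Functor.isZero_rightDerived_obj_injective_succ (Φ ⋙ Ψ) q S.X₂)
        (Functor.isZero_rightDerived_obj_injective_succ (Φ ⋙ Ψ) (q + 1) S.X₂)
      obtain ⟨e⟩ := ih S.X₃ hQ
      exact ⟨d1.symm ≪≫ e ≪≫ d2⟩

end Two

end Groth.Agent.Lib.AcycCompH7
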