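import Mathlib
import Groth.Agent.Lib.LerayDer_helper9

/-!
# Right acyclic objects in short exact sequences (helper9)

`F : C ⥤ D` left exact additive, `C` with enough injectives, `0 → X₁ → X₂ → X₃ → 0` short exact.

* `AcycSES.quasiIso_τ₁`: five lemma for the first term of a map of short exact sequences of complexes.
* `AcycSES.epi_of_acyclic_X₁`: `X₁` acyclic ⇒ `F X₂ → F X₃` epi.
* `AcycSES.acyclic_X₂`, `AcycSES.acyclic_X₁`.
-/

open CategoryTheory CategoryTheory.Limits HomologicalComplex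

namespace AcycSES

universe w w' v v' u u'

section Five

open ComposableArrows Abelian HomologySequence

variable {A : Type u} [Category.{v} A] [Abelian A]
  {S₁ S₂ : ShortComplex (CochainComplex A ℤ)} (φ : S₁ ⟶ S₂)
  (hS₁ : S₁.ShortExact) (hS₂ : S₂.ShortExact)

include hS₁ hS₂ in
lemma quasiIso_τ₁ (h₂ : QuasiIso φ.τ₂) (h₃ : QuasiIso φ.τ₃) : QuasiIso φ.τ₁ := by
  rw [quasiIso_iff]
  intro j
  rw [quasiIsoAt_iff_isIso_homologyMap]
  have hij : (ComplexShape.up ℤ).Rel (j - 1) j := by simp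
  have hm : Mono (homologyMap φ.τ₁ j) := by
    apply mono_of_epi_of_mono_of_mono
      ((δ₀Functor ⋙ δlastFunctor).map (mapComposableArrows₅ φ hS₁ hS₂ (j - 1) j hij))
    · exact (composableArrows₅_exact hS₁ (j - 1) j hij).δ₀.δlast
    · exact (composableArrows₅_exact hS₂ (j - 1) j hij).δ₀.δlast
    · exact (inferInstance : Epi (homologyMap φ.τ₂ (j - 1)))
    · exact (inferInstance : Mono (homologyMap φ.τ₃ (j - 1)))
    · exact (inferInstance : Mono (homologyMap φ.τ₂ j))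
  have he : Epi (homologyMap φ.τ₁ j) := by
    apply epi_of_epi_of_epi_of_mono
      ((δ₀Functor ⋙ δ₀Functor).map (mapComposableArrows₅ φ hS₁ hS₂ (j - 1) j hij))
    · exact (composableArrows₅_exact hS₁ (j - 1) j hij).δ₀.δ₀
    · exact (composableArrows₅_exact hS₂ (j - 1) j hij).δ₀.δ₀
    · exact (inferInstance : Epi (homologyMap φ.τ₃ (j - 1)))
    · exact (inferInstance : Epi (homologyMap φ.τ₂ j))
    · exact (inferInstance : Mono (homologyMap φ.τ₃ j))
  exact isIso_of_mono_of_epi _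

end Five

section Main

open LerayDer

variable {C : Type u} [Category.{v} C] [Abelian C] [EnoughInjectives C]
  {D : Type u'} [Category.{v'} D] [Abelian D]
  (F : C ⥤ D) [F.Additive] [PreservesFiniteLimits F]

/-- The resolution package attached to a short exact sequence `S`: `S0 = F(S[0])`, `T = F` of a
short exact sequence of injective resolutions, `ψ : S0 ⟶ T`. -/
theorem core (S : ShortComplex C) (hS : S.ShortExact) :
    ∃ (S0 T : ShortComplex (CochainComplex D ℤ)) (ψ : S0 ⟶ T), T.ShortExact ∧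
      (Acyclic F S.X₁ ↔ QuasiIso ψ.τ₁) ∧ (Acyclic F S.X₂ ↔ QuasiIso ψ.τ₂) ∧
      (Acyclic F S.X₃ ↔ QuasiIso ψ.τ₃) ∧
      (Epi (F.map S.g) → S0.ShortExact) ∧
      (QuasiIsoAt ψ.τ₂ 0 ∧ QuasiIsoAt ψ.τ₃ 0) ∧
      (Epi (homologyMap S0.g 0) → Epi (F.map S.g)) ∧
      (Epi (F.map S.g) → Epi (homologyMap S0.g 0)) ∧
      (∀ i : ℤ, i ≠ 0 → S0.X₁.ExactAt i) := by
  letI : HasDerivedCategory C := HasDerivedCategory.standard C
  letI : HasDerivedCategory D := HasDerivedCategory.standard D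
  let S0 : ShortComplex (CochainComplex C ℤ) :=
    S.map (HomologicalComplex.single C (ComplexShape.up ℤ) 0)
  have hS0 : S0.ShortExact := hS.map_of_exact _
  haveI : S0.X₁.IsStrictlyGE 0 :=
    (inferInstance : ((CochainComplex.singleFunctor C 0).obj S.X₁).IsStrictlyGE 0)
  haveI : S0.X₂.IsStrictlyGE 0 :=
    (inferInstance : ((CochainComplex.singleFunctor C 0).obj S.X₂).IsStrictlyGE 0)
  haveI : S0.X₃.IsStrictlyGE 0 :=
    (inferInstance : ((CochainComplex.singleFunctor C 0).obj S.X₃).IsStrictlyGE 0)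
  obtain ⟨T, φ, hT, hT₁, hT₂, hT₃, hinj, hq₁, hq₂, hq₃⟩ := HorseshoeCx.horseshoe S0 hS0 0
  haveI := hq₁
  haveI := hq₂
  haveI := hq₃
  have hFT := RDPlusLES.map_shortExact F hT (fun q => (hinj q).1)
  let Fc := F.mapHomologicalComplex (ComplexShape.up ℤ)
  let ψ : S0.map Fc ⟶ T.map Fc := Fc.mapShortComplex.map φ
  have e₁ : Acyclic F S.X₁ ↔ QuasiIso ψ.τ₁ :=
    acyclic_iff_quasiIso F S.X₁ T.X₁ 0 (fun q => (hinj q).1) φ.τ₁ hq₁
  have e₂ : Acyclic F S.X₂ ↔ QuasiIso ψ.τ₂ :=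
    acyclic_iff_quasiIso F S.X₂ T.X₂ 0 (fun q => (hinj q).2.1) φ.τ₂ hq₂
  have e₃ : Acyclic F S.X₃ ↔ QuasiIso ψ.τ₃ :=
    acyclic_iff_quasiIso F S.X₃ T.X₃ 0 (fun q => (hinj q).2.2) φ.τ₃ hq₃
  have q₂0 : QuasiIsoAt ψ.τ₂ 0 :=
    quasiIsoAt_map_zero F S.X₂ T.X₂ φ.τ₂ ((quasiIso_iff φ.τ₂).1 hq₂ 0)
  have q₃0 : QuasiIsoAt ψ.τ₃ 0 :=
    quasiIsoAt_map_zero F S.X₃ T.X₃ φ.τ₃ ((quasiIso_iff φ.τ₃).1 hq₃ 0)
  -- the comparison with `F.map S.g`
  let e := HomologicalComplex.singleMapHomologicalComplex F (ComplexShape.up ℤ) 0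
  have n1 := e.hom.naturality S.g
  have n2 := congrArg (fun t => homologyMap t 0) n1
  simp only [homologyMap_comp] at n2
  have n3 := singleObjHomologySelfIso_hom_naturality (ComplexShape.up ℤ) 0 (F.map S.g)
  haveI : IsIso (homologyMap (e.hom.app S.X₃) 0) :=
    (inferInstance : IsIso ((homologyFunctor D (ComplexShape.up ℤ) 0).map (e.hom.app S.X₃)))
  haveI : IsIso (homologyMap (e.hom.app S.X₂) 0) :=
    (inferInstance : IsIso ((homologyFunctor D (ComplexShape.up ℤ) 0).map (e.hom.app S.X₂)))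
  have hE1 : Epi (homologyMap (S0.map Fc).g 0) → Epi (F.map S.g) := by
    intro hepi0
    have h1 : Epi (homologyMap ((single C (ComplexShape.up ℤ) 0 ⋙ Fc).map S.g) 0 ≫
        homologyMap (e.hom.app S.X₃) 0) := by
      haveI : Epi (homologyMap ((single C (ComplexShape.up ℤ) 0 ⋙ Fc).map S.g) 0) := hepi0
      exact epi_comp _ _
    rw [n2] at h1
    have h2 : Epi (homologyMap ((F ⋙ single D (ComplexShape.up ℤ) 0).map S.g) 0) := by
      haveI := h1
      exact epi_of_epi_fac (f := homologyMap (e.hom.app S.X₂) 0) rfl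
    have h3 : Epi (homologyMap ((single D (ComplexShape.up ℤ) 0).map (F.map S.g)) 0 ≫
        (singleObjHomologySelfIso (ComplexShape.up ℤ) 0 (F.obj S.X₃)).hom) := by
      haveI : Epi (homologyMap ((single D (ComplexShape.up ℤ) 0).map (F.map S.g)) 0) := h2
      exact epi_comp _ _
    rw [n3] at h3
    haveI := h3
    exact epi_of_epi_fac
      (f := (singleObjHomologySelfIso (ComplexShape.up ℤ) 0 (F.obj S.X₂)).hom) rfl
  have hE2 : Epi (F.map S.g) → Epi (homologyMap (S0.map Fc).g 0) := by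
    intro hFg
    haveI := hFg
    -- `b ≫ isoB.hom = isoA.hom ≫ F g` epi, hence `b` epi
    have h3 : Epi (homologyMap ((single D (ComplexShape.up ℤ) 0).map (F.map S.g)) 0 ≫
        (singleObjHomologySelfIso (ComplexShape.up ℤ) 0 (F.obj S.X₃)).hom) := by
      rw [n3]; exact epi_comp _ _
    have h2 : Epi (homologyMap ((single D (ComplexShape.up ℤ) 0).map (F.map S.g)) 0) := by
      haveI := h3
      have hb : homologyMap ((single D (ComplexShape.up ℤ) 0).map (F.map S.g)) 0 =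
          (homologyMap ((single D (ComplexShape.up ℤ) 0).map (F.map S.g)) 0 ≫
            (singleObjHomologySelfIso (ComplexShape.up ℤ) 0 (F.obj S.X₃)).hom) ≫
            (singleObjHomologySelfIso (ComplexShape.up ℤ) 0 (F.obj S.X₃)).inv := by
        rw [Category.assoc, Iso.hom_inv_id, Category.comp_id]
      rw [hb]
      exact epi_comp _ _
    -- `c ≫ d = a ≫ b`
    have h1 : Epi (homologyMap ((single C (ComplexShape.up ℤ) 0 ⋙ Fc).map S.g) 0 ≫
        homologyMap (e.hom.app S.X₃) 0) := by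
      rw [n2]
      haveI : Epi (homologyMap ((F ⋙ single D (ComplexShape.up ℤ) 0).map S.g) 0) := h2
      exact epi_comp _ _
    change Epi (homologyMap ((single C (ComplexShape.up ℤ) 0 ⋙ Fc).map S.g) 0)
    haveI := h1
    have hc : homologyMap ((single C (ComplexShape.up ℤ) 0 ⋙ Fc).map S.g) 0 =
        (homologyMap ((single C (ComplexShape.up ℤ) 0 ⋙ Fc).map S.g) 0 ≫
          homologyMap (e.hom.app S.X₃) 0) ≫ inv (homologyMap (e.hom.app S.X₃) 0) := by
      rw [Category.assoc, IsIso.hom_inv_id, Category.comp_id]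
    rw [hc]
    exact epi_comp _ _
  have hSE : Epi (F.map S.g) → (S0.map Fc).ShortExact := by
    intro hFg
    have hFS : (S.map F).ShortExact := by
      haveI := hS.mono_f
      exact ShortComplex.ShortExact.mk'
        (hS.exact.map_of_mono_of_preservesKernel F hS.mono_f inferInstance)
        (inferInstance : Mono (F.map S.f)) hFg
    have h' : ((S.map F).map (HomologicalComplex.single D (ComplexShape.up ℤ) 0)).ShortExact :=
      hFS.map_of_exact _
    exact ShortComplex.shortExact_of_iso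
      (S.mapNatIso (HomologicalComplex.singleMapHomologicalComplex F (ComplexShape.up ℤ) 0)).symm h'
  refine ⟨S0.map Fc, T.map Fc, ψ, hFT, e₁, e₂, e₃, hSE, ⟨q₂0, q₃0⟩, hE1, hE2, ?_⟩
  intro i hi
  exact ExactAt.of_isZero (F.map_isZero (isZero_single_obj_X (ComplexShape.up ℤ) 0 S.X₁ i hi))

/-- `X₁` acyclic ⇒ `F X₂ → F X₃` is an epimorphism. -/
theorem epi_of_acyclic_X₁ (S : ShortComplex C) (hS : S.ShortExact) (h₁ : Acyclic F S.X₁) :
    Epi (F.map S.g) := by
  obtain ⟨S0, T, ψ, hT, e₁, e₂, e₃, hSE, ⟨q₂0, q₃0⟩, hE1, hE2, hex⟩ := core F S hS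
  haveI q₁ : QuasiIso ψ.τ₁ := e₁.1 h₁
  have hz : IsZero (T.X₁.homology 1) := by
    rw [← exactAt_iff_isZero_homology]
    exact (quasiIsoAt_iff_exactAt ψ.τ₁ 1 (hex 1 one_ne_zero)).1 inferInstance
  have hexT := hT.homology_exact₃ 0 1 (by simp)
  have hepi : Epi (homologyMap T.g 0) := (ShortComplex.exact_iff_epi _ (hz.eq_of_tgt _ _)).1 hexT
  have hnat : homologyMap S0.g 0 ≫ homologyMap ψ.τ₃ 0 =
      homologyMap ψ.τ₂ 0 ≫ homologyMap T.g 0 := by
    rw [← homologyMap_comp, ← homologyMap_comp, ψ.comm₂₃]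
  haveI : IsIso (homologyMap ψ.τ₂ 0) := (quasiIsoAt_iff_isIso_homologyMap _ _).1 q₂0
  haveI : IsIso (homologyMap ψ.τ₃ 0) := (quasiIsoAt_iff_isIso_homologyMap _ _).1 q₃0
  apply hE1
  have h1 : Epi (homologyMap S0.g 0 ≫ homologyMap ψ.τ₃ 0) := by
    rw [hnat]; exact epi_comp _ _
  have h2 := epi_comp (homologyMap S0.g 0 ≫ homologyMap ψ.τ₃ 0) (inv (homologyMap ψ.τ₃ 0))
  simpa using h2

omit [EnoughInjectives C] in
/-- `F S` is short exact as soon as `F S.g` is an epimorphism. -/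
lemma map_shortExact_of_epi (S : ShortComplex C) (hS : S.ShortExact) (h : Epi (F.map S.g)) :
    (S.map F).ShortExact := by
  haveI := hS.mono_f
  exact ShortComplex.ShortExact.mk'
    (hS.exact.map_of_mono_of_preservesKernel F hS.mono_f inferInstance)
    (inferInstance : Mono (F.map S.f)) h

/-- `X₁`, `X₃` acyclic ⇒ `X₂` acyclic. -/
theorem acyclic_X₂ (S : ShortComplex C) (hS : S.ShortExact) (h₁ : Acyclic F S.X₁)
    (h₃ : Acyclic F S.X₃) : Acyclic F S.X₂ := by
  have hFg := epi_of_acyclic_X₁ F S hS h₁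
  obtain ⟨S0, T, ψ, hT, e₁, e₂, e₃, hSE, -, -, -, -⟩ := core F S hS
  exact e₂.2 (HorseshoeCx.quasiIso_τ₂ ψ (hSE hFg) hT (e₁.1 h₁) (e₃.1 h₃))

/-- `X₂`, `X₃` acyclic and `F X₂ → F X₃` epi ⇒ `X₁` acyclic. -/
theorem acyclic_X₁ (S : ShortComplex C) (hS : S.ShortExact) (h₂ : Acyclic F S.X₂)
    (h₃ : Acyclic F S.X₃) (hFg : Epi (F.map S.g)) : Acyclic F S.X₁ := by
  obtain ⟨S0, T, ψ, hT, e₁, e₂, e₃, hSE, -, -, -, -⟩ := core F S hS
  exact e₁.2 (quasiIso_τ₁ ψ (hSE hFg) hT (e₂.1 h₂) (e₃.1 h₃))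

end Main

end AcycSES
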