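import Mathlib

/-!
# Products of K-injective complexes give products in the derived category (helper9)
-/

open CategoryTheory CategoryTheory.Limits

namespace DerProd

universe w' w v u

variable {A : Type u} [Category.{v} A] [Abelian A] {J : Type w}

section Model

variable [HasLimitsOfShape (Discrete J) A] (K : J → CochainComplex A ℤ)

/-- the product complex -/
noncomputable def pi : CochainComplex A ℤ where
  X i := ∏ᶜ fun j => (K j).X i
  d i i' := Limits.Pi.map (fun j => (K j).d i i')
  shape i i' h := by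
    apply Limits.Pi.hom_ext
    intro j
    rw [Limits.Pi.map_π, (K j).shape i i' h, comp_zero, zero_comp]
  d_comp_d' i i' i'' _ _ := by
    apply Limits.Pi.hom_ext
    intro j
    rw [Category.assoc, Limits.Pi.map_π, Limits.Pi.map_π_assoc, HomologicalComplex.d_comp_d,
      comp_zero, zero_comp]

/-- degreewise projection -/
noncomputable def πX (i : ℤ) (j : J) : (pi K).X i ⟶ (K j).X i :=
  Pi.π (fun j => (K j).X i) j

/-- degreewise universal property -/
noncomputable def liftX (i : ℤ) {Z : A} (p : ∀ j, Z ⟶ (K j).X i) : Z ⟶ (pi K).X i :=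
  Pi.lift p

@[reassoc (attr := simp)]
lemma liftX_πX (i : ℤ) {Z : A} (p : ∀ j, Z ⟶ (K j).X i) (j : J) :
    liftX K i p ≫ πX K i j = p j :=
  Pi.lift_π p j

variable {K} in
lemma homX_ext {i : ℤ} {Z : A} {a b : Z ⟶ (pi K).X i}
    (h : ∀ j, a ≫ πX K i j = b ≫ πX K i j) : a = b :=
  Limits.Pi.hom_ext _ _ h

@[reassoc]
lemma d_πX (i i' : ℤ) (j : J) :
    (pi K).d i i' ≫ πX K i' j = πX K i j ≫ (K j).d i i' :=
  Limits.Pi.map_π (fun j => (K j).d i i') j

/-- the projections -/
noncomputable def π (j : J) : pi K ⟶ K j where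
  f i := πX K i j
  comm' i i' _ := (d_πX K i i' j).symm

@[simp]
lemma π_f (j : J) (i : ℤ) : (π K j).f i = πX K i j := rfl

variable {K} in
/-- the universal property at the level of complexes -/
noncomputable def lift {L : CochainComplex A ℤ} (g : ∀ j, L ⟶ K j) : L ⟶ pi K where
  f i := liftX K i (fun j => (g j).f i)
  comm' i i' _ := by
    apply homX_ext
    intro j
    rw [Category.assoc, d_πX, liftX_πX_assoc, Category.assoc, liftX_πX, (g j).comm]

variable {K} in
@[reassoc (attr := simp)]
lemma lift_π {L : CochainComplex A ℤ} (g : ∀ j, L ⟶ K j) (j : J) : lift g ≫ π K j = g j := by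
  ext i
  exact liftX_πX K i _ j

variable {K} in
lemma hom_ext {L : CochainComplex A ℤ} {a b : L ⟶ pi K} (h : ∀ j, a ≫ π K j = b ≫ π K j) :
    a = b := by
  ext i
  apply homX_ext
  intro j
  exact congrArg (fun φ => φ.f i) (h j)

variable {K} in
/-- a morphism into the product complex all of whose components are null-homotopic is
null-homotopic -/
noncomputable def homotopyZero {L : CochainComplex A ℤ} (φ : L ⟶ pi K)
    (h : ∀ j, Homotopy (φ ≫ π K j) 0) : Homotopy φ 0 where
  hom i i' := liftX K i' (fun j => (h j).hom i i')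
  zero i i' hii' := by
    apply homX_ext
    intro j
    rw [liftX_πX, (h j).zero i i' hii', zero_comp]
  comm i := by
    apply homX_ext
    intro j
    have hj := (h j).comm i
    rw [dNext_eq _ (show (ComplexShape.up ℤ).Rel i (i + 1) from rfl),
      prevD_eq _ (show (ComplexShape.up ℤ).Rel (i - 1) i by simp)] at hj ⊢
    rw [HomologicalComplex.comp_f, π_f, HomologicalComplex.zero_f, add_zero] at hj
    rw [HomologicalComplex.zero_f, add_zero, Preadditive.add_comp, Category.assoc, liftX_πX,
      Category.assoc, d_πX, liftX_πX_assoc]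
    exact hj

instance isKInjective_pi [∀ j, (K j).IsKInjective] : (pi K).IsKInjective where
  nonempty_homotopy_zero {L} f hL :=
    ⟨homotopyZero f (fun j => CochainComplex.IsKInjective.homotopyZero (f ≫ π K j) hL)⟩

end Model

section Derived

variable [HasDerivedCategory.{w'} A]

open DerivedCategory

lemma exists_lift_of_isKInjective (M L : CochainComplex A ℤ) [L.IsKInjective]
    (φ : DerivedCategory.Q.obj M ⟶ DerivedCategory.Q.obj L) :
    ∃ γ : M ⟶ L, DerivedCategory.Q.map γ = φ := by
  obtain ⟨g, hg⟩ := (CochainComplex.IsKInjective.Qh_map_bijective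
    ((HomotopyCategory.quotient A (ComplexShape.up ℤ)).obj M) L).surjective φ
  obtain ⟨γ, rfl⟩ := (HomotopyCategory.quotient _ _).map_surjective g
  exact ⟨γ, hg⟩

lemma homotopy_of_isKInjective (M L : CochainComplex A ℤ) [L.IsKInjective]
    (γ : M ⟶ L) (h : DerivedCategory.Q.map γ = 0) : Nonempty (Homotopy γ 0) := by
  have h1 : DerivedCategory.Qh.map ((HomotopyCategory.quotient A (ComplexShape.up ℤ)).map γ) =
      DerivedCategory.Qh.map ((HomotopyCategory.quotient A (ComplexShape.up ℤ)).map 0) := by
    rw [Functor.map_zero, Functor.map_zero]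
    exact h
  have h2 := (CochainComplex.IsKInjective.Qh_map_bijective
    ((HomotopyCategory.quotient A (ComplexShape.up ℤ)).obj M) L).injective h1
  exact ⟨HomotopyCategory.homotopyOfEq _ _ h2⟩

variable [HasLimitsOfShape (Discrete J) A] (K : J → CochainComplex A ℤ) [∀ j, (K j).IsKInjective]

lemma exists_lift (Y : DerivedCategory A) (f : ∀ j, Y ⟶ DerivedCategory.Q.obj (K j)) :
    ∃ φ : Y ⟶ DerivedCategory.Q.obj (pi K), ∀ j, φ ≫ DerivedCategory.Q.map (π K j) = f j := by
  let eM : DerivedCategory.Q.obj (DerivedCategory.Q.objPreimage Y) ≅ Y :=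
    DerivedCategory.Q.objObjPreimageIso Y
  choose γ hγ using fun j => exists_lift_of_isKInjective _ (K j) (eM.hom ≫ f j)
  refine ⟨eM.inv ≫ DerivedCategory.Q.map (lift γ), ?_⟩
  intro j
  rw [Category.assoc, ← Functor.map_comp, lift_π, hγ, Iso.inv_hom_id_assoc]

lemma eq_zero_of_comp (Y : DerivedCategory A) (φ : Y ⟶ DerivedCategory.Q.obj (pi K))
    (hφ : ∀ j, φ ≫ DerivedCategory.Q.map (π K j) = 0) : φ = 0 := by
  let eM : DerivedCategory.Q.obj (DerivedCategory.Q.objPreimage Y) ≅ Y :=
    DerivedCategory.Q.objObjPreimageIso Y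
  obtain ⟨γ, hγ⟩ := exists_lift_of_isKInjective _ (pi K) (eM.hom ≫ φ)
  have h0 : ∀ j, DerivedCategory.Q.map (γ ≫ π K j) = 0 := by
    intro j
    rw [Functor.map_comp, hγ, Category.assoc, hφ j, comp_zero]
  have hH : Homotopy γ 0 :=
    homotopyZero γ (fun j => (homotopy_of_isKInjective _ (K j) _ (h0 j)).some)
  have h1 : DerivedCategory.Q.map γ = 0 := by
    rw [DerivedCategory.Q_map_eq_of_homotopy A hH, Functor.map_zero]
  rw [← cancel_epi eM.hom, ← hγ, h1, comp_zero]

/-- the product complex gives a product in the derived category -/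
noncomputable def isLimitFan :
    IsLimit (Fan.mk (DerivedCategory.Q.obj (pi K)) (fun j => DerivedCategory.Q.map (π K j))) :=
  Fan.IsLimit.mk _ (fun t => (exists_lift K t.pt t.proj).choose)
    (fun t j => (exists_lift K t.pt t.proj).choose_spec j)
    (fun t m hm => by
      rw [← sub_eq_zero]
      apply eq_zero_of_comp K
      intro j
      rw [Preadditive.sub_comp, sub_eq_zero]
      exact (hm j).trans ((exists_lift K t.pt t.proj).choose_spec j).symm)

lemma hasProduct_Q : HasProduct (fun j => DerivedCategory.Q.obj (K j)) :=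
  ⟨⟨⟨_, isLimitFan K⟩⟩⟩

end Derived

end DerProd
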