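import Mathlib
import Groth.Agent.Lib.RDPlusSingle_helper9

/-!
# Adjunctions on complexes, homotopy categories and bounded below derived categories (helper9)

For an adjunction `adj : L ⊣ R` between additive functors of abelian categories:

* `DerAdjPlus.adjHC adj c : L.mapHomologicalComplex c ⊣ R.mapHomologicalComplex c`,
* `DerAdjPlus.adjH adj c : L.mapHomotopyCategory c ⊣ R.mapHomotopyCategory c`,
* `DerAdjPlus.adjPlus adj : L.mapHomotopyCategoryPlus ⊣ R.mapHomotopyCategoryPlus`,
* `DerAdjPlus.derivedAdj adj : L.rightDerivedFunctorPlus ⊣ R.rightDerivedFunctorPlus` when `L` is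
  exact and both categories have enough injectives.
-/

open CategoryTheory CategoryTheory.Limits

namespace DerAdjPlus

universe w w' v v' u u'

section HC

variable {A : Type u} [Category.{v} A] [Abelian A] {B : Type u'} [Category.{v'} B] [Abelian B]
  {L : A ⥤ B} {R : B ⥤ A} (adj : L ⊣ R) [L.Additive] [R.Additive]
  {ι : Type*} (c : ComplexShape ι)

/-- the unit on complexes -/
def unitHC : 𝟭 (HomologicalComplex A c) ⟶
    L.mapHomologicalComplex c ⋙ R.mapHomologicalComplex c where
  app K :=
    { f := fun i => adj.unit.app (K.X i)
      comm' := fun i j _ => (adj.unit.naturality (K.d i j)).symm }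
  naturality K K' f := by
    ext i
    exact adj.unit.naturality (f.f i)

/-- the counit on complexes -/
def counitHC : R.mapHomologicalComplex c ⋙ L.mapHomologicalComplex c ⟶
    𝟭 (HomologicalComplex B c) where
  app M :=
    { f := fun i => adj.counit.app (M.X i)
      comm' := fun i j _ => (adj.counit.naturality (M.d i j)).symm }
  naturality M M' f := by
    ext i
    exact adj.counit.naturality (f.f i)

/-- the adjunction on complexes -/
def adjHC : L.mapHomologicalComplex c ⊣ R.mapHomologicalComplex c where
  unit := unitHC adj c
  counit := counitHC adj c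
  left_triangle_components K := by
    ext i
    exact adj.left_triangle_components (K.X i)
  right_triangle_components M := by
    ext i
    exact adj.right_triangle_components (M.X i)

/-- the unit on homotopy categories -/
def unitH : 𝟭 (HomotopyCategory A c) ⟶ L.mapHomotopyCategory c ⋙ R.mapHomotopyCategory c :=
  Quotient.natTransLift _
    { app := fun K => (HomotopyCategory.quotient A c).map ((unitHC adj c).app K)
      naturality := fun K K' f => by
        change (HomotopyCategory.quotient A c).map f ≫
            (HomotopyCategory.quotient A c).map ((unitHC adj c).app K') =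
          (HomotopyCategory.quotient A c).map ((unitHC adj c).app K) ≫
            (HomotopyCategory.quotient A c).map
              ((R.mapHomologicalComplex c).map ((L.mapHomologicalComplex c).map f))
        rw [← Functor.map_comp, ← Functor.map_comp]
        exact congrArg _ ((unitHC adj c).naturality f) }

/-- the counit on homotopy categories -/
def counitH : R.mapHomotopyCategory c ⋙ L.mapHomotopyCategory c ⟶ 𝟭 (HomotopyCategory B c) :=
  Quotient.natTransLift _
    { app := fun M => (HomotopyCategory.quotient B c).map ((counitHC adj c).app M)
      naturality := fun M M' f => by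
        change (HomotopyCategory.quotient B c).map
              ((L.mapHomologicalComplex c).map ((R.mapHomologicalComplex c).map f)) ≫
            (HomotopyCategory.quotient B c).map ((counitHC adj c).app M') =
          (HomotopyCategory.quotient B c).map ((counitHC adj c).app M) ≫
            (HomotopyCategory.quotient B c).map f
        rw [← Functor.map_comp, ← Functor.map_comp]
        exact congrArg _ ((counitHC adj c).naturality f) }

/-- the adjunction on homotopy categories -/
def adjH : L.mapHomotopyCategory c ⊣ R.mapHomotopyCategory c where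
  unit := unitH adj c
  counit := counitH adj c
  left_triangle_components X := by
    obtain ⟨K, rfl⟩ := HomotopyCategory.quotient_obj_surjective X
    change (HomotopyCategory.quotient B c).map
        ((L.mapHomologicalComplex c).map ((unitHC adj c).app K)) ≫
      (HomotopyCategory.quotient B c).map
        ((counitHC adj c).app ((L.mapHomologicalComplex c).obj K)) = 𝟙 _
    rw [← Functor.map_comp]
    have h := (adjHC adj c).left_triangle_components K
    change (L.mapHomologicalComplex c).map ((unitHC adj c).app K) ≫
      (counitHC adj c).app ((L.mapHomologicalComplex c).obj K) = 𝟙 _ at h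
    rw [h]
    exact CategoryTheory.Functor.map_id _ _
  right_triangle_components Y := by
    obtain ⟨M, rfl⟩ := HomotopyCategory.quotient_obj_surjective Y
    change (HomotopyCategory.quotient A c).map
        ((unitHC adj c).app ((R.mapHomologicalComplex c).obj M)) ≫
      (HomotopyCategory.quotient A c).map
        ((R.mapHomologicalComplex c).map ((counitHC adj c).app M)) = 𝟙 _
    rw [← Functor.map_comp]
    have h := (adjHC adj c).right_triangle_components M
    change (unitHC adj c).app ((R.mapHomologicalComplex c).obj M) ≫
      (R.mapHomologicalComplex c).map ((counitHC adj c).app M) = 𝟙 _ at h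
    rw [h]
    exact CategoryTheory.Functor.map_id _ _

end HC

section Plus

variable {A : Type u} [Category.{v} A] [Abelian A] {B : Type u'} [Category.{v'} B] [Abelian B]
  {L : A ⥤ B} {R : B ⥤ A} (adj : L ⊣ R) [L.Additive] [R.Additive]

/-- the adjunction on bounded below homotopy categories -/
noncomputable def adjPlus : L.mapHomotopyCategoryPlus ⊣ R.mapHomotopyCategoryPlus :=
  (adjH adj (ComplexShape.up ℤ)).restrictFullyFaithful
    (HomotopyCategory.plus A).fullyFaithfulι (HomotopyCategory.plus B).fullyFaithfulι
    (Iso.refl _) (Iso.refl _)

end Plus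

section Derived

variable {A : Type u} [Category.{v} A] [Abelian A] {B : Type u'} [Category.{v'} B] [Abelian B]
  [HasDerivedCategory.{w} A] [HasDerivedCategory.{w'} B] [EnoughInjectives A] [EnoughInjectives B]
  {L : A ⥤ B} {R : B ⥤ A} (adj : L ⊣ R) [L.Additive] [R.Additive]
  [PreservesFiniteLimits L] [PreservesFiniteColimits L]

omit [HasDerivedCategory A] [EnoughInjectives A] [EnoughInjectives B] in
/-- `L⁺ ⋙ Qh` inverts quasi-isomorphisms when `L` is exact. -/
lemma inverts : (HomotopyCategory.Plus.quasiIso A).IsInvertedBy
    (L.mapHomotopyCategoryPlus ⋙ DerivedCategory.Plus.Qh) := by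
  intro X Y f hf
  obtain ⟨K, rfl⟩ := HomotopyCategory.Plus.quotient_obj_surjective X
  obtain ⟨K', rfl⟩ := HomotopyCategory.Plus.quotient_obj_surjective Y
  obtain ⟨f, rfl⟩ := (HomotopyCategory.Plus.quotient A).map_surjective f
  have hq : QuasiIso f.hom := by
    rw [HomotopyCategory.Plus.quasiIso_iff] at hf
    exact (HomologicalComplex.mem_quasiIso_iff f.hom).1
      ((HomotopyCategory.quotient_map_mem_quasiIso_iff f.hom).1 hf)
  have hq' : QuasiIso ((L.mapHomologicalComplex (ComplexShape.up ℤ)).map f.hom) := inferInstance
  have h1 : HomotopyCategory.Plus.quasiIso B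
      ((HomotopyCategory.Plus.quotient B).map (L.mapCochainComplexPlus.map f)) := by
    rw [HomotopyCategory.Plus.quasiIso_iff]
    exact (HomotopyCategory.quotient_map_mem_quasiIso_iff _).2
      ((HomologicalComplex.mem_quasiIso_iff _).2 hq')
  exact Localization.inverts DerivedCategory.Plus.Qh (HomotopyCategory.Plus.quasiIso B) _ h1

instance isIso_unit : IsIso L.rightDerivedFunctorPlusUnit :=
  Functor.isIso_of_isRightDerivedFunctor_of_inverts L.rightDerivedFunctorPlus
    L.rightDerivedFunctorPlusUnit (inverts (L := L))

/-- the derived adjunction -/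
noncomputable def derivedAdj : L.rightDerivedFunctorPlus ⊣ R.rightDerivedFunctorPlus := by
  let e : DerivedCategory.Plus.Qh ⋙ L.rightDerivedFunctorPlus ≅
      L.mapHomotopyCategoryPlus ⋙ DerivedCategory.Plus.Qh :=
    (asIso L.rightDerivedFunctorPlusUnit).symm
  let W₁ := HomotopyCategory.Plus.quasiIso A
  let W₂ := HomotopyCategory.Plus.quasiIso B
  haveI h1 : L.rightDerivedFunctorPlus.IsLeftDerivedFunctor e.hom W₁ :=
    Functor.isLeftDerivedFunctor_of_inverts W₁ _ e
  haveI h3 : (L.rightDerivedFunctorPlus ⋙ R.rightDerivedFunctorPlus).IsLeftDerivedFunctor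
      ((Functor.associator _ _ _).inv ≫ Functor.whiskerRight e.hom R.rightDerivedFunctorPlus) W₁ :=
    Functor.isLeftDerivedFunctor_of_inverts W₁ _
      ((Functor.associator _ _ _).symm ≪≫ Functor.isoWhiskerRight e R.rightDerivedFunctorPlus)
  haveI h4 : (R.rightDerivedFunctorPlus ⋙ L.rightDerivedFunctorPlus).IsRightDerivedFunctor
      (Functor.whiskerRight R.rightDerivedFunctorPlusUnit L.rightDerivedFunctorPlus ≫
        (Functor.associator _ _ _).hom) W₂ := by
    have h := HomotopyCategory.Plus.localizerMorphism_derives (C := B)
      ((R.mapHomotopyCategoryPlus ⋙ DerivedCategory.Plus.Qh) ⋙ L.rightDerivedFunctorPlus)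
    apply h.isRightDerivedFunctor_of_isIso
    intro Y
    simp only [NatTrans.comp_app, Functor.whiskerRight_app, Functor.associator_hom_app,
      Category.comp_id]
    infer_instance
  exact (adjPlus adj).derived W₁ W₂ e.hom R.rightDerivedFunctorPlusUnit

end Derived

end DerAdjPlus
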