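import Mathlib

/-!
# Extending maps into K-injective complexes; characterization of K-injective complexes with
injective terms by an extension property
-/

set_option autoImplicit false
universe v u
open CategoryTheory Limits HomologicalComplex CochainComplex
open CochainComplex.HomComplex

namespace Groth.Agent.Lib.KInjLift

variable {C : Type u} [Category.{v} C] [Abelian C]

theorem isIso_Qh_quotient_map [HasDerivedCategory C] {X Y : CochainComplex C ℤ} (γ : X ⟶ Y)
    [QuasiIso γ] :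
    IsIso (DerivedCategory.Qh.map ((HomotopyCategory.quotient C (ComplexShape.up ℤ)).map γ)) := by
  apply Localization.inverts DerivedCategory.Qh
    (HomotopyCategory.quasiIso C (ComplexShape.up ℤ))
  rw [HomotopyCategory.quotient_map_mem_quasiIso_iff]
  exact ‹QuasiIso γ›

theorem exists_homotopy_extend (I X Y : CochainComplex C ℤ) [I.IsKInjective] (γ : X ⟶ Y)
    [QuasiIso γ] (φ : X ⟶ I) : ∃ ψ : Y ⟶ I, Nonempty (Homotopy (γ ≫ ψ) φ) := by
  letI := HasDerivedCategory.standard C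
  haveI := isIso_Qh_quotient_map γ
  obtain ⟨g, hg⟩ := (CochainComplex.IsKInjective.Qh_map_bijective
    ((HomotopyCategory.quotient C _).obj Y) I).surjective
    (inv (DerivedCategory.Qh.map ((HomotopyCategory.quotient C _).map γ)) ≫
      DerivedCategory.Qh.map ((HomotopyCategory.quotient C _).map φ))
  obtain ⟨ψ, rfl⟩ := (HomotopyCategory.quotient C _).map_surjective g
  refine ⟨ψ, ⟨HomotopyCategory.homotopyOfEq _ _ ?_⟩⟩
  apply (CochainComplex.IsKInjective.Qh_map_bijective _ I).injective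
  rw [Functor.map_comp, Functor.map_comp, hg]
  simp

theorem exists_extend (I X Y : CochainComplex C ℤ) [I.IsKInjective] [∀ n, Injective (I.X n)]
    (γ : X ⟶ Y) [QuasiIso γ] [∀ n, Mono (γ.f n)] (φ : X ⟶ I) : ∃ ψ : Y ⟶ I, γ ≫ ψ = φ := by
  obtain ⟨ψ0, ⟨H⟩⟩ := exists_homotopy_extend I X Y γ φ
  let h' : ∀ i j, (ComplexShape.up ℤ).Rel j i → (Y.X i ⟶ I.X j) :=
    fun i j _ => Injective.factorThru (H.hom i j) (γ.f i)
  refine ⟨ψ0 - Homotopy.nullHomotopicMap' h', ?_⟩
  rw [Preadditive.comp_sub, Homotopy.comp_nullHomotopicMap']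
  have : (fun i j hij => γ.f i ≫ h' i j hij) =
      fun i j (_ : (ComplexShape.up ℤ).Rel j i) => H.hom i j := by
    funext i j hij
    exact Injective.comp_factorThru _ _
  rw [this]
  ext n
  have hc := H.comm n
  rw [HomologicalComplex.sub_f_apply,
    Homotopy.nullHomotopicMap'_f (show (ComplexShape.up ℤ).Rel (n - 1) n by simp)
      (show (ComplexShape.up ℤ).Rel n (n + 1) by simp), hc,
    dNext_eq _ (show (ComplexShape.up ℤ).Rel n (n + 1) by simp),
    prevD_eq _ (show (ComplexShape.up ℤ).Rel (n - 1) n by simp)]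
  abel

theorem quasiIso_f_of_acyclic (S : ShortComplex (CochainComplex C ℤ)) (hS : S.ShortExact)
    (h3 : S.X₃.Acyclic) : QuasiIso S.f := by
  rw [quasiIso_iff]
  intro j
  rw [quasiIsoAt_iff_isIso_homologyMap]
  have hz : ∀ k, IsZero (S.X₃.homology k) := fun k =>
    (HomologicalComplex.exactAt_iff_isZero_homology _ _).1 (h3 k)
  haveI : Mono (homologyMap S.f j) :=
    (hS.homology_exact₁ (j - 1) j (by simp)).mono_g ((hz _).eq_of_src _ _)
  haveI : Epi (homologyMap S.f j) := (hS.homology_exact₂ j).epi_f ((hz _).eq_of_tgt _ _)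
  exact isIso_of_mono_of_epi _

theorem extension_of_isKInjective (I : CochainComplex C ℤ) [I.IsKInjective]
    [∀ n, Injective (I.X n)] (S : ShortComplex (CochainComplex C ℤ)) (hS : S.ShortExact)
    (h3 : S.X₃.Acyclic) (φ : S.X₁ ⟶ I) : ∃ ψ : S.X₂ ⟶ I, S.f ≫ ψ = φ := by
  haveI : QuasiIso S.f := quasiIso_f_of_acyclic S hS h3
  haveI : ∀ n, Mono (S.f.f n) := fun n =>
    ((HomologicalComplex.shortExact_iff_degreewise_shortExact S).1 hS n).mono_f
  exact exists_extend I _ _ S.f φ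

section Disk

variable (n : ℤ)

theorem hne : n ≠ n + 1 := by omega

/-- the disk complex: `X` in degrees `n` and `n+1` with identity differential. -/
noncomputable abbrev D (X : C) : CochainComplex C ℤ :=
  double (𝟙 X) (show (ComplexShape.up ℤ).Rel n (n + 1) from rfl)

noncomputable def iso₀ (X : C) : (D n X).X n ≅ X :=
  doubleXIso₀ (𝟙 X) (show (ComplexShape.up ℤ).Rel n (n + 1) from rfl)

noncomputable def iso₁ (X : C) : (D n X).X (n + 1) ≅ X :=
  doubleXIso₁ (𝟙 X) (show (ComplexShape.up ℤ).Rel n (n + 1) from rfl) (hne n)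

lemma isZero_D (X : C) (k : ℤ) (h0 : k ≠ n) (h1 : k ≠ n + 1) : IsZero ((D n X).X k) :=
  isZero_double_X (𝟙 X) (show (ComplexShape.up ℤ).Rel n (n + 1) from rfl) k h0 h1

lemma D_d_eq_zero₁ (X : C) (a b : ℤ) (hb : b ≠ n + 1) : (D n X).d a b = 0 :=
  double_d_eq_zero₁ (𝟙 X) (show (ComplexShape.up ℤ).Rel n (n + 1) from rfl) a b hb

lemma D_d_eq_zero₀ (X : C) (a b : ℤ) (ha : a ≠ n) : (D n X).d a b = 0 :=
  double_d_eq_zero₀ (𝟙 X) (show (ComplexShape.up ℤ).Rel n (n + 1) from rfl) a b ha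

lemma D_d (X : C) : (D n X).d n (n + 1) = (iso₀ n X).hom ≫ (iso₁ n X).inv := by
  have := double_d (𝟙 X) (show (ComplexShape.up ℤ).Rel n (n + 1) from rfl) (hne n)
  rw [this, Category.id_comp]
  rfl

noncomputable def mkD {X : C} {K : CochainComplex C ℤ} (φ₀ : X ⟶ K.X n) : D n X ⟶ K :=
  mkHomFromDouble _ (hne n) φ₀ (φ₀ ≫ K.d n (n + 1)) (by simp) (by simp)

lemma mkD_f₀ {X : C} {K : CochainComplex C ℤ} (φ₀ : X ⟶ K.X n) :
    (mkD n φ₀).f n = (iso₀ n X).hom ≫ φ₀ := mkHomFromDouble_f₀ ..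

lemma mkD_f₁ {X : C} {K : CochainComplex C ℤ} (φ₀ : X ⟶ K.X n) :
    (mkD n φ₀).f (n + 1) = (iso₁ n X).hom ≫ φ₀ ≫ K.d n (n + 1) :=
  mkHomFromDouble_f₁ ..

noncomputable def mapD {X Y : C} (u : X ⟶ Y) : D n X ⟶ D n Y :=
  mkD n (u ≫ (iso₀ n Y).inv)

lemma mapD_f₀ {X Y : C} (u : X ⟶ Y) :
    (mapD n u).f n = (iso₀ n X).hom ≫ u ≫ (iso₀ n Y).inv := by
  rw [mapD, mkD_f₀]

lemma mapD_f₁ {X Y : C} (u : X ⟶ Y) :
    (mapD n u).f (n + 1) = (iso₁ n X).hom ≫ u ≫ (iso₁ n Y).inv := by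
  rw [mapD, mkD_f₁, D_d]
  simp

lemma mapD_comp_zero {X Y Z : C} (u : X ⟶ Y) (v : Y ⟶ Z) (h : u ≫ v = 0) :
    mapD n u ≫ mapD n v = 0 := by
  apply from_double_hom_ext
  · rw [HomologicalComplex.comp_f, mapD_f₀, mapD_f₀, HomologicalComplex.zero_f]
    simp [reassoc_of% h]
  · rw [HomologicalComplex.comp_f, mapD_f₁, mapD_f₁, HomologicalComplex.zero_f]
    simp [reassoc_of% h]

lemma acyclic_D (X : C) : (D n X).Acyclic := by
  intro k
  by_cases h0 : k = n
  · subst h0
    rw [HomologicalComplex.exactAt_iff' _ (k - 1) k (k + 1) (by simp) (by simp),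
      ShortComplex.exact_iff_mono _ (D_d_eq_zero₁ k X _ _ (hne k))]
    change Mono ((D k X).d k (k + 1))
    rw [D_d]
    infer_instance
  · by_cases h1 : k = n + 1
    · subst h1
      rw [HomologicalComplex.exactAt_iff' _ n (n + 1) (n + 1 + 1) (by simp) (by simp),
        ShortComplex.exact_iff_epi _ (D_d_eq_zero₀ n X _ _ (hne n).symm)]
      change Epi ((D n X).d n (n + 1))
      rw [D_d]
      infer_instance
    · exact ShortComplex.exact_of_isZero_X₂ _ (isZero_D n X k h0 h1)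

lemma shortExact_D {A B Q : C} (f : A ⟶ B) (g : B ⟶ Q) (w : f ≫ g = 0)
    (h : (ShortComplex.mk f g w).ShortExact) :
    (ShortComplex.mk (mapD n f) (mapD n g) (mapD_comp_zero n f g w)).ShortExact := by
  apply shortExact_of_degreewise_shortExact
  intro k
  by_cases h0 : k = n
  · subst h0
    refine ShortComplex.shortExact_of_iso (ShortComplex.isoMk (iso₀ k A).symm
      (iso₀ k B).symm (iso₀ k Q).symm ?_ ?_) h
    · change (iso₀ k A).inv ≫ (mapD k f).f k = f ≫ (iso₀ k B).inv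
      rw [mapD_f₀]; simp
    · change (iso₀ k B).inv ≫ (mapD k g).f k = g ≫ (iso₀ k Q).inv
      rw [mapD_f₀]; simp
  · by_cases h1 : k = n + 1
    · subst h1
      refine ShortComplex.shortExact_of_iso (ShortComplex.isoMk
        (iso₁ n A).symm (iso₁ n B).symm (iso₁ n Q).symm ?_ ?_) h
      · change (iso₁ n A).inv ≫ (mapD n f).f (n + 1) = f ≫ (iso₁ n B).inv
        rw [mapD_f₁]; simp
      · change (iso₁ n B).inv ≫ (mapD n g).f (n + 1) = g ≫ (iso₁ n Q).inv
        rw [mapD_f₁]; simp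
    · have z : ∀ X : C, IsZero ((D n X).X k) := fun X => isZero_D n X k h0 h1
      exact
        { exact := ShortComplex.exact_of_isZero_X₂ _ (z B)
          mono_f := ⟨fun _ _ _ => (z A).eq_of_tgt _ _⟩
          epi_g := ⟨fun _ _ _ => (z Q).eq_of_src _ _⟩ }

end Disk

variable (I : CochainComplex C ℤ)
  (E : ∀ (S : ShortComplex (CochainComplex C ℤ)), S.ShortExact → S.X₃.Acyclic →
        ∀ φ : S.X₁ ⟶ I, ∃ ψ : S.X₂ ⟶ I, S.f ≫ ψ = φ)

include E in
theorem injective_of_extension (n : ℤ) : Injective (I.X n) := by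
  constructor
  intro A B g f _
  have hS0 : (ShortComplex.mk f (cokernel.π f) (cokernel.condition f)).ShortExact :=
    { exact := ShortComplex.exact_of_g_is_cokernel _ (cokernelIsCokernel f)
      mono_f := ‹Mono f›
      epi_g := inferInstanceAs (Epi (cokernel.π f)) }
  obtain ⟨ψ, hψ⟩ := E _ (shortExact_D n f _ _ hS0) (acyclic_D n _) (mkD n g)
  refine ⟨(iso₀ n B).inv ≫ ψ.f n, ?_⟩
  have := congrArg (fun φ => φ.f n) hψ
  simp only [HomologicalComplex.comp_f, mapD_f₀, mkD_f₀, Category.assoc] at this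
  rw [← cancel_epi (iso₀ n A).hom]
  exact this

theorem acyclic_shift (L : CochainComplex C ℤ) (hL : L.Acyclic) (n : ℤ) : (L⟦n⟧).Acyclic := by
  intro i
  exact (ShortComplex.exact_iff_of_iso
    ((CochainComplex.shiftShortComplexFunctorIso C n i (n + i) rfl).app L)).2 (hL (n + i))

include E in
theorem isKInjective_of_extension : I.IsKInjective := by
  constructor
  intro L f hL
  let S := mappingCone.triangleRotateShortComplex (𝟙 L)
  have hS : S.ShortExact := shortExact_of_degreewise_shortExact _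
    (fun k => (mappingCone.triangleRotateShortComplexSplitting (𝟙 L) k).shortExact)
  have h3 : S.X₃.Acyclic := acyclic_shift L hL 1
  obtain ⟨ψ, hψ⟩ := E S hS h3 f
  have hψ' : mappingCone.inr (𝟙 L) ≫ ψ = f := hψ
  refine ⟨(Cochain.equivHomotopy f 0).symm
    ⟨(mappingCone.inl (𝟙 L)).comp (Cochain.ofHom ψ) (add_zero (-1)), ?_⟩⟩
  rw [δ_comp_ofHom, mappingCone.δ_inl, ← Cochain.ofHom_comp, Category.id_comp, hψ',
    Cochain.ofHom_zero, add_zero]

theorem main : (I.IsKInjective ∧ ∀ n : ℤ, Injective (I.X n)) ↔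
      ∀ (S : ShortComplex (CochainComplex C ℤ)), S.ShortExact → S.X₃.Acyclic →
        ∀ φ : S.X₁ ⟶ I, ∃ ψ : S.X₂ ⟶ I, S.f ≫ ψ = φ := by
  constructor
  · rintro ⟨h1, h2⟩ S hS h3 φ
    exact extension_of_isKInjective I S hS h3 φ
  · intro E
    exact ⟨isKInjective_of_extension I E, injective_of_extension I E⟩

end Groth.Agent.Lib.KInjLift
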