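import Mathlib
import Groth.Agent.Lib.KInjLift_helper2
import Groth.Agent.Lib.FunInjCx_helper9

/-!
# K-injective resolutions, part 1 (helper7): test fibrations

`pEn n E : D n E ⟶ S n E` (disk to sphere) for `E` injective.  Monomorphic quasi-isomorphisms have
the left lifting property with respect to these maps; conversely a monomorphism with the left
lifting property with respect to all of them is a quasi-isomorphism.
-/

set_option autoImplicit false
universe v u
open CategoryTheory Limits HomologicalComplex CochainComplex
open CochainComplex.HomComplex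

namespace Groth.Agent.Lib.KInjGen1

variable {C : Type u} [Category.{v} C] [Abelian C]

/-- generic lifting lemma (unbounded version of Mathlib's private `lifting`) -/
theorem hasLiftingProperty_of_kInjective_kernel {A B X Y : CochainComplex C ℤ}
    (i : A ⟶ B) (p : X ⟶ Y) [Mono i] [QuasiIso i]
    (hp : degreewiseEpiWithInjectiveKernel p) (hK : (kernel p).IsKInjective) :
    HasLiftingProperty i p where
  sq_hasLift {t b} sq := by
    have sq' (n : ℤ) : CommSq (t.f n) (i.f n) (p.f n) (b.f n) :=
      (sq.map (HomologicalComplex.eval _ _ n))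
    have (n : ℤ) : (sq' n).HasLift := by
      have := (hp n).hasLiftingProperty (i.f n)
      infer_instance
    let hsq : ∀ n, (sq.map (HomologicalComplex.eval _ _ n)).LiftStruct := fun n =>
      ⟨(sq' n).lift, (sq' n).fac_left, (sq' n).fac_right⟩
    let β : Cocycle (cokernel i) (kernel p) 1 :=
      Lifting.cocycle₁ sq hsq
        (cokernelIsCokernel i) (kernelIsKernel p) (hπ := by simp) (hι := by simp)
    obtain ⟨α, hα⟩ : ∃ (α : Cochain (cokernel i) (kernel p) 0), δ 0 1 α = β.1 := by
      refine IsKInjective.eq_δ_of_cocycle β ?_ 0 (by simp)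
      have : (ShortComplex.mk _ _ (cokernel.condition i)).ShortExact :=
        { exact := ShortComplex.exact_cokernel i }
      exact this.acyclic_X₃ (by dsimp; infer_instance)
    exact Lifting.hasLift sq _ (cokernelIsCokernel _) (kernelIsKernel _) α hα

section test

variable (n : ℤ) (E : C)

/-- the sphere complex -/
noncomputable abbrev sph : CochainComplex C ℤ :=
  (HomologicalComplex.single C (ComplexShape.up ℤ) n).obj E

/-- disk to sphere -/
noncomputable def pEn : KInjLift.D n E ⟶ sph n E :=
  KInjLift.mkD n (HomologicalComplex.singleObjXSelf (ComplexShape.up ℤ) n E).inv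

lemma pEn_f₀ : (pEn n E).f n =
    (KInjLift.iso₀ n E).hom ≫ (HomologicalComplex.singleObjXSelf (ComplexShape.up ℤ) n E).inv :=
  KInjLift.mkD_f₀ n _

lemma injective_of_isZero {X : C} (hX : IsZero X) : Injective X :=
  Injective.of_iso hX.isoZero.symm inferInstance

lemma degreewise_pEn [Injective E] : degreewiseEpiWithInjectiveKernel (pEn n E) := by
  intro k
  by_cases hk : k = n
  · subst hk
    have : IsIso ((pEn k E).f k) := by
      rw [pEn_f₀]
      infer_instance
    exact Abelian.epiWithInjectiveKernel_of_iso _
  · rw [Abelian.epiWithInjectiveKernel_iff_of_isZero _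
      (HomologicalComplex.isZero_single_obj_X (ComplexShape.up ℤ) n E k hk)]
    by_cases hk' : k = n + 1
    · subst hk'
      exact Injective.of_iso (KInjLift.iso₁ n E).symm inferInstance
    · exact injective_of_isZero (KInjLift.isZero_D n E k hk hk')

lemma isKInjective_kernel_pEn [Injective E] : (kernel (pEn n E)).IsKInjective := by
  have hp := degreewise_pEn n E
  have (k : ℤ) : Injective ((kernel (pEn n E)).X k) :=
    Injective.of_iso
      (asIso (kernelComparison (pEn n E) (HomologicalComplex.eval _ _ k))).symm (hp k).2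
  have : (kernel (pEn n E)).IsStrictlyGE n := by
    rw [isStrictlyGE_iff]
    intro i hi
    rw [IsZero.iff_id_eq_zero, ← cancel_mono ((kernel.ι (pEn n E)).f i)]
    exact (KInjLift.isZero_D n E i (by omega) (by omega)).eq_of_tgt _ _
  exact isKInjective_of_injective _ n

theorem hasLiftingProperty_pEn [Injective E] {A B : CochainComplex C ℤ} (i : A ⟶ B)
    [Mono i] [QuasiIso i] : HasLiftingProperty i (pEn n E) :=
  hasLiftingProperty_of_kInjective_kernel i (pEn n E) (degreewise_pEn n E)
    (isKInjective_kernel_pEn n E)

end test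

/-- the test fibrations -/
inductive testFib : MorphismProperty (CochainComplex C ℤ)
  | mk (n : ℤ) (E : C) [Injective E] : testFib (pEn n E)

/-- monomorphisms which are quasi-isomorphisms -/
def monoQis : MorphismProperty (CochainComplex C ℤ) := fun _ _ f => Mono f ∧ QuasiIso f

lemma monoQis_le_llp : (monoQis : MorphismProperty (CochainComplex C ℤ)) ≤ testFib.llp := by
  rintro A B i ⟨h1, h2⟩ X Y p ⟨n, E⟩
  exact hasLiftingProperty_pEn n E i

theorem quasiIso_of_mono_of_llp [EnoughInjectives C] {M I : CochainComplex C ℤ} (i : M ⟶ I)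
    [Mono i] (h : ∀ (n : ℤ) (E : C), Injective E → HasLiftingProperty i (pEn n E)) :
    QuasiIso i := by
  let S := ShortComplex.mk i (cokernel.π i) (cokernel.condition i)
  have hS : S.ShortExact := { exact := ShortComplex.exact_cokernel i }
  have hSd := (HomologicalComplex.shortExact_iff_degreewise_shortExact S).1 hS
  have key : ∀ n, S.X₃.ExactAt n := by
    intro n
    let Q : CochainComplex C ℤ := cokernel i
    let π : I ⟶ Q := cokernel.π i
    have hiπ : i ≫ π = 0 := cokernel.condition i
    show Q.ExactAt n
    rw [HomologicalComplex.exactAt_iff' Q (n - 1) n (n + 1) (by simp) (by simp),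
      ShortComplex.exact_iff_mono_cokernel_desc]
    show Mono (cokernel.desc (Q.d (n - 1) n) (Q.d n (n + 1)) (Q.d_comp_d _ _ _))
    let Cn := cokernel (Q.d (n - 1) n)
    let E := Injective.under Cn
    let ι : Cn ⟶ E := Injective.ι Cn
    let q0 : Q.X n ⟶ E := cokernel.π (Q.d (n - 1) n) ≫ ι
    let q : Q ⟶ sph n E := HomologicalComplex.mkHomToSingle q0 (by
      intro k hk
      have hk' : k + 1 = n := hk
      obtain rfl : k = n - 1 := by omega
      simp [q0])
    have hq : q.f n = q0 ≫ (HomologicalComplex.singleObjXSelf (ComplexShape.up ℤ) n E).inv :=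
      HomologicalComplex.mkHomToSingle_f _ _
    let g : I ⟶ sph n E := π ≫ q
    have sq : CommSq (0 : M ⟶ KInjLift.D n E) i (pEn n E) g :=
      ⟨by rw [zero_comp, reassoc_of% hiπ, zero_comp]⟩
    haveI := h n E inferInstance
    let l := sq.lift
    have hl1 : i ≫ l = 0 := sq.fac_left
    have hl2 : l ≫ pEn n E = g := sq.fac_right
    let c : I.X (n + 1) ⟶ E := l.f (n + 1) ≫ (KInjLift.iso₁ n E).hom
    have ha : i.f (n + 1) ≫ c = 0 := by
      have := congrArg (fun φ => φ.f (n + 1)) hl1
      simp only [HomologicalComplex.comp_f, HomologicalComplex.zero_f] at this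
      rw [← Category.assoc, this, zero_comp]
    have hb : I.d n (n + 1) ≫ c = π.f n ≫ q0 := by
      have h1 : l.f n ≫ (KInjLift.iso₀ n E).hom = I.d n (n + 1) ≫ c := by
        have := l.comm n (n + 1)
        rw [KInjLift.D_d] at this
        have h2 := congrArg (fun φ => φ ≫ (KInjLift.iso₁ n E).hom) this
        simp only [Category.assoc, Iso.inv_hom_id, Category.comp_id] at h2
        exact h2
      have h3 : l.f n ≫ (KInjLift.iso₀ n E).hom = π.f n ≫ q0 := by
        have := congrArg (fun φ => φ.f n) hl2
        simp only [HomologicalComplex.comp_f, g] at this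
        rw [pEn_f₀, hq, ← Category.assoc, ← Category.assoc (π.f n)] at this
        exact (cancel_mono _).1 this
      rw [← h1, h3]
    haveI : Epi (S.map (HomologicalComplex.eval C (ComplexShape.up ℤ) (n + 1))).g :=
      (hSd (n + 1)).epi_g
    let cbar : Q.X (n + 1) ⟶ E := (hSd (n + 1)).exact.desc c ha
    have hc : π.f (n + 1) ≫ cbar = c := (hSd (n + 1)).exact.g_desc c ha
    haveI : Epi (π.f n) := (hSd n).epi_g
    have hd : Q.d n (n + 1) ≫ cbar = q0 := by
      rw [← cancel_epi (π.f n), ← Category.assoc, π.comm n (n + 1), Category.assoc, hc, hb]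
    have he : cokernel.desc (Q.d (n - 1) n) (Q.d n (n + 1)) (Q.d_comp_d _ _ _) ≫ cbar = ι := by
      rw [← cancel_epi (cokernel.π (Q.d (n - 1) n)), ← Category.assoc, cokernel.π_desc, hd]
    exact mono_of_mono_fac he
  exact FunInjCx.quasiIso_of_shortExact_of_exactAt hS key

theorem quasiIso_of_mono_of_llp' [EnoughInjectives C] {M I : CochainComplex C ℤ} (i : M ⟶ I)
    [Mono i] (h : (testFib : MorphismProperty (CochainComplex C ℤ)).llp i) : QuasiIso i :=
  quasiIso_of_mono_of_llp i (fun n E _ => h _ (testFib.mk n E))

end Groth.Agent.Lib.KInjGen1
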