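import Mathlib

/-!
# K-injective resolutions, part 2 (helper7): bounded coverings and one step of the descent
-/

set_option autoImplicit false
universe v u
open CategoryTheory Limits

namespace Groth.Agent.Lib.KInjGen2

variable {A : Type u} [Category.{v} A] [Abelian A]

lemma le_of_pullback_le {S₀ Y : A} (r : S₀ ⟶ Y) [Epi r] (S T : Subobject Y)
    (h : (Subobject.pullback r).obj S ≤ (Subobject.pullback r).obj T) : S ≤ T := by
  have hS := Subobject.isPullback r S
  have hT := Subobject.isPullback r T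
  haveI : Epi (Subobject.pullbackπ r S) := Abelian.epi_fst_of_isLimit _ _ hS.isLimit
  haveI : HasLiftingProperty (Subobject.pullbackπ r S) T.arrow :=
    (strongEpi_of_epi (Subobject.pullbackπ r S)).llp _
  have sq : CommSq (Subobject.ofLE _ _ h ≫ Subobject.pullbackπ r T) (Subobject.pullbackπ r S)
      T.arrow S.arrow := ⟨by
    rw [Category.assoc, hT.w, Subobject.ofLE_arrow_assoc, hS.w]⟩
  exact Subobject.le_of_comm sq.lift sq.fac_right

lemma phi_injective {S₀ Y Z : A} (r : S₀ ⟶ Y) [Epi r] (κ : Z ⟶ Y) [Mono κ] :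
    Function.Injective
      (fun S' : Subobject Z => (Subobject.pullback r).obj ((Subobject.map κ).obj S')) := by
  intro S T h
  have h1 : (Subobject.map κ).obj S = (Subobject.map κ).obj T :=
    le_antisymm (le_of_pullback_le r _ _ (le_of_eq h)) (le_of_pullback_le r _ _ (le_of_eq h.symm))
  have := congrArg (Subobject.pullback κ).obj h1
  rwa [Subobject.pullback_map_self, Subobject.pullback_map_self] at this

/-- the set of subobjects through which `g` factors -/
def Fac {X Z : A} (g : X ⟶ Z) : Set (Subobject Z) := {S | S.Factors g}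

lemma comp_eq_zero_iff_of_Fac_eq {X X' Z T : A} (g : X ⟶ Z) (g' : X' ⟶ Z) (h : Fac g = Fac g')
    (a : Z ⟶ T) : g ≫ a = 0 ↔ g' ≫ a = 0 := by
  rw [← kernelSubobject_factors_iff, ← kernelSubobject_factors_iff]
  have : kernelSubobject a ∈ Fac g ↔ kernelSubobject a ∈ Fac g' := by rw [h]
  exact this

variable {G : A} (hG : IsSeparator G)

include hG in
theorem bounded_cover {I₀ : Type*} {Z X : A} (φ : Subobject Z → I₀) (hφ : Function.Injective φ)
    (p : X ⟶ Z) [Epi p] :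
    ∃ x : Set I₀ × Set (Subobject G) → (G ⟶ X),
      ∀ {T : A} (a : Z ⟶ T), (∀ j, x j ≫ p ≫ a = 0) → a = 0 := by
  classical
  rw [isSeparator_def] at hG
  let gs : Set I₀ → (G ⟶ Z) := fun s =>
    if h : ∃ g : G ⟶ Z, φ '' Fac g = s then h.choose else 0
  have hgs : ∀ g : G ⟶ Z, Fac (gs (φ '' Fac g)) = Fac g := by
    intro g
    have h : ∃ g' : G ⟶ Z, φ '' Fac g' = φ '' Fac g := ⟨g, rfl⟩
    have h2 : φ '' Fac (gs (φ '' Fac g)) = φ '' Fac g := by
      simp only [gs, dif_pos h]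
      exact h.choose_spec
    exact hφ.image_injective h2
  let hs : (s : Set I₀) → Set (Subobject G) → (G ⟶ pullback (gs s) p) := fun s s' =>
    if h : ∃ h : G ⟶ pullback (gs s) p, Fac (h ≫ pullback.fst (gs s) p) = s' then h.choose else 0
  have hhs : ∀ (s : Set I₀) (h : G ⟶ pullback (gs s) p),
      Fac (hs s (Fac (h ≫ pullback.fst (gs s) p)) ≫ pullback.fst (gs s) p) =
        Fac (h ≫ pullback.fst (gs s) p) := by
    intro s h
    have hex : ∃ h' : G ⟶ pullback (gs s) p,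
        Fac (h' ≫ pullback.fst (gs s) p) = Fac (h ≫ pullback.fst (gs s) p) := ⟨h, rfl⟩
    simp only [hs, dif_pos hex]
    exact hex.choose_spec
  refine ⟨fun j => hs j.1 j.2 ≫ pullback.snd _ _, fun {T} a ha => ?_⟩
  refine hG a 0 (fun g => ?_)
  rw [comp_zero, comp_eq_zero_iff_of_Fac_eq g (gs (φ '' Fac g)) (hgs g).symm a]
  generalize φ '' Fac g = s
  haveI : Epi (pullback.fst (gs s) p) := Abelian.epi_pullback_of_epi_g _ _
  rw [← cancel_epi (pullback.fst (gs s) p), comp_zero]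
  refine hG _ 0 (fun h => ?_)
  rw [comp_zero, ← Category.assoc,
    comp_eq_zero_iff_of_Fac_eq (h ≫ pullback.fst (gs s) p)
      (hs s (Fac (h ≫ pullback.fst (gs s) p)) ≫ pullback.fst (gs s) p) (hhs s h).symm (gs s ≫ a)]
  have := ha (s, Fac (h ≫ pullback.fst (gs s) p))
  dsimp only at this
  rw [Category.assoc, pullback.condition_assoc]
  simpa using this

section Stage

variable [IsGrothendieckAbelian.{v} A] (G)

/-- coproduct of copies of `G` -/
noncomputable abbrev sigOf (ι : Type v) : A := ∐ fun _ : ι => G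

/-- next index type -/
def nextIdx (X : A) : Type v := Shrink.{v} (Set (Subobject X) × Set (Subobject G))

/-- index types -/
noncomputable def idx : ℕ → Type v
  | 0 => PUnit
  | (k + 1) => nextIdx G (sigOf G (idx k))

/-- the objects `Σ_k` -/
noncomputable abbrev Sig (k : ℕ) : A := sigOf G (idx G k)

/-- smallness of a subobject, together with a lifting along `πY` -/
def IsSmallSub (k : ℕ) {Y' Q' : A} (πY : Y' ⟶ Q') (N : Subobject Q') : Prop :=
  ∃ (τ : Sig G k ⟶ Y') (e : Sig G k ⟶ (N : A)), Epi e ∧ e ≫ N.arrow = τ ≫ πY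

variable {G}

lemma IsSmallSub.exists_epi {k : ℕ} {Y' Q' : A} {πY : Y' ⟶ Q'} {N : Subobject Q'}
    (h : IsSmallSub G k πY N) : ∃ e : Sig G k ⟶ (N : A), Epi e := by
  obtain ⟨_, e, he, _⟩ := h
  exact ⟨e, he⟩

include hG in
theorem step_exists {Y' Q' Q₀ Q'' : A} (πY : Y' ⟶ Q') [Epi πY] (d' : Q' ⟶ Q₀) (d : Q₀ ⟶ Q'')
    (w : d' ≫ d = 0) (hex : (ShortComplex.mk d' d w).Exact) (k : ℕ) (N' : Subobject Q₀)
    (hN' : ∃ e : Sig G k ⟶ (N' : A), Epi e) :
    ∃ N : Subobject Q', N'.Factors (N.arrow ≫ d') ∧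
      (∀ {A' : A} (x : A' ⟶ Q₀), N'.Factors x → x ≫ d = 0 →
        ∃ (A'' : A) (π : A'' ⟶ A') (_ : Epi π) (y : A'' ⟶ Q'), N.Factors y ∧ π ≫ x = y ≫ d') ∧
      IsSmallSub G (k + 1) πY N := by
  obtain ⟨r, hr⟩ := hN'
  let i : (N' : A) ⟶ Q₀ := N'.arrow
  let κ : kernel (i ≫ d) ⟶ (N' : A) := kernel.ι (i ≫ d)
  obtain ⟨A₁, π₁, hπ₁, x₁, hx₁⟩ := hex.exact_up_to_refinements (κ ≫ i)
    (by dsimp; rw [Category.assoc]; exact kernel.condition (i ≫ d))
  dsimp at x₁ hx₁
  let π₂ : pullback x₁ πY ⟶ A₁ := pullback.fst x₁ πY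
  let x₂ : pullback x₁ πY ⟶ Y' := pullback.snd x₁ πY
  haveI : Epi π₂ := Abelian.epi_pullback_of_epi_g _ _
  have h₂ : π₂ ≫ x₁ = x₂ ≫ πY := pullback.condition
  let p : pullback x₁ πY ⟶ kernel (i ≫ d) := π₂ ≫ π₁
  haveI : Epi p := epi_comp _ _
  obtain ⟨x, hx⟩ := bounded_cover hG
    (fun S' : Subobject (kernel (i ≫ d)) =>
      (Subobject.pullback r).obj ((Subobject.map κ).obj S')) (phi_injective r κ) p
  let eqv : idx G (k + 1) ≃ Set (Subobject (Sig G k)) × Set (Subobject G) := (equivShrink _).symm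
  let X' : idx G (k + 1) → (G ⟶ pullback x₁ πY) := fun j => x (eqv j)
  let σ : Sig G (k + 1) ⟶ pullback x₁ πY := Sigma.desc X'
  have hσ : ∀ j, Sigma.ι (fun _ : idx G (k + 1) => G) j ≫ σ = X' j := fun j => Sigma.ι_desc _ _
  haveI : Epi (σ ≫ p) := by
    apply Preadditive.epi_of_cancel_zero
    intro T a ha
    apply hx
    intro j
    have : x j = Sigma.ι (fun _ : idx G (k + 1) => G) (eqv.symm j) ≫ σ := by
      rw [hσ]; simp [X']
    have ha' : σ ≫ p ≫ a = 0 := by rw [← Category.assoc]; exact ha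
    rw [this, Category.assoc, ha', comp_zero]
  let τ : Sig G (k + 1) ⟶ Y' := σ ≫ x₂
  let ψ : Sig G (k + 1) ⟶ Q' := τ ≫ πY
  have hψ : ψ = σ ≫ π₂ ≫ x₁ := by simp only [ψ, τ, Category.assoc, h₂]
  have hψd : ψ ≫ d' = (σ ≫ p ≫ κ) ≫ N'.arrow := by
    rw [hψ]; simp only [Category.assoc, p]; rw [hx₁]
  let N : Subobject Q' := imageSubobject ψ
  let eψ : Sig G (k + 1) ⟶ (N : A) := factorThruImageSubobject ψ
  have heψ : eψ ≫ N.arrow = ψ := imageSubobject_arrow_comp ψ
  refine ⟨N, ?_, ?_, ⟨τ, eψ, inferInstance, heψ⟩⟩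
  · have sq : CommSq (σ ≫ p ≫ κ) eψ N'.arrow (N.arrow ≫ d') :=
      ⟨by rw [← hψd, ← heψ, Category.assoc]⟩
    haveI : HasLiftingProperty eψ N'.arrow := (strongEpi_of_epi eψ).llp _
    have := Subobject.factors_comp_arrow (P := N') sq.lift
    rwa [sq.fac_right] at this
  · intro A' x hxN hxd
    let x' : A' ⟶ (N' : A) := N'.factorThru x hxN
    have hx' : x' ≫ i = x := Subobject.factorThru_arrow _ _ _
    let x'' : A' ⟶ kernel (i ≫ d) := kernel.lift (i ≫ d) x' (by rw [← Category.assoc, hx', hxd])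
    have hx'' : x'' ≫ κ = x' := kernel.lift_ι _ _ _
    let π : pullback x'' (σ ≫ p) ⟶ A' := pullback.fst _ _
    let w' : pullback x'' (σ ≫ p) ⟶ Sig G (k + 1) := pullback.snd _ _
    haveI : Epi π := Abelian.epi_pullback_of_epi_g _ _
    have hw : π ≫ x'' = w' ≫ σ ≫ p := pullback.condition
    refine ⟨_, π, inferInstance, w' ≫ ψ, ?_, ?_⟩
    · have := Subobject.factors_comp_arrow (P := N) (w' ≫ eψ)
      rwa [Category.assoc, heψ] at this
    · calc π ≫ x = π ≫ x'' ≫ κ ≫ i := by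
            rw [← hx', ← hx'']; simp only [Category.assoc]
        _ = (π ≫ x'') ≫ κ ≫ i := by rw [Category.assoc]
        _ = (w' ≫ σ ≫ p) ≫ κ ≫ i := by rw [hw]
        _ = w' ≫ (σ ≫ p ≫ κ) ≫ N'.arrow := by simp only [Category.assoc]; rfl
        _ = w' ≫ ψ ≫ d' := by rw [hψd]
        _ = (w' ≫ ψ) ≫ d' := (Category.assoc _ _ _).symm

end Stage

end Groth.Agent.Lib.KInjGen2
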