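import Mathlib
import Groth.Agent.Lib.KInjGen2_helper7

/-!
# K-injective resolutions, part 3 (helper7): small acyclic subcomplexes of acyclic complexes
-/

set_option autoImplicit false
universe v u
open CategoryTheory Limits

namespace Groth.Agent.Lib.KInjGen3

open Groth.Agent.Lib.KInjGen2

variable {A : Type u} [Category.{v} A] [Abelian A]

section Sub

variable (K : CochainComplex A ℤ) (Ns : ∀ m : ℤ, Subobject (K.X m))
  (hNs : ∀ m : ℤ, (Ns (m + 1)).Factors ((Ns m).arrow ≫ K.d m (m + 1)))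

/-- differential of the subcomplex -/
noncomputable def subD (m : ℤ) : (Ns m : A) ⟶ (Ns (m + 1) : A) :=
  (Ns (m + 1)).factorThru _ (hNs m)

lemma subD_arrow (m : ℤ) :
    subD K Ns hNs m ≫ (Ns (m + 1)).arrow = (Ns m).arrow ≫ K.d m (m + 1) :=
  Subobject.factorThru_arrow _ _ _

/-- the subcomplex given by a compatible family of subobjects -/
noncomputable def sub : CochainComplex A ℤ :=
  CochainComplex.of (fun m => (Ns m : A)) (subD K Ns hNs) (fun m => by
    rw [← cancel_mono (Ns (m + 1 + 1)).arrow, Category.assoc, subD_arrow, ← Category.assoc,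
      subD_arrow, Category.assoc, K.d_comp_d, comp_zero, zero_comp])

lemma sub_d (m : ℤ) : (sub K Ns hNs).d m (m + 1) = subD K Ns hNs m := by
  unfold sub
  exact CochainComplex.of_d (fun m => (Ns m : A)) (subD K Ns hNs) m

/-- the inclusion of the subcomplex -/
noncomputable def subι : sub K Ns hNs ⟶ K where
  f m := (Ns m).arrow
  comm' i j hij := by
    obtain rfl : i + 1 = j := hij
    rw [sub_d]
    exact (subD_arrow K Ns hNs i).symm

lemma subι_f (m : ℤ) : (subι K Ns hNs).f m = (Ns m).arrow := rfl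

instance (m : ℤ) : Mono ((subι K Ns hNs).f m) :=
  inferInstanceAs (Mono (Ns m).arrow)

instance : Mono (subι K Ns hNs) := HomologicalComplex.mono_of_mono_f _ (fun _ => inferInstance)

lemma sub_exactAt (m : ℤ)
    (h : ∀ {A' : A} (x : A' ⟶ K.X (m + 1)), (Ns (m + 1)).Factors x →
      x ≫ K.d (m + 1) (m + 1 + 1) = 0 →
        ∃ (A'' : A) (π : A'' ⟶ A') (_ : Epi π) (y : A'' ⟶ K.X m),
          (Ns m).Factors y ∧ π ≫ x = y ≫ K.d m (m + 1)) :
    (sub K Ns hNs).ExactAt (m + 1) := by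
  rw [HomologicalComplex.exactAt_iff_exact_up_to_refinements _ m (m + 1) (m + 1 + 1)
    (by simp) (by simp)]
  intro A' x₂ hx₂
  rw [sub_d] at hx₂
  let x₂' : A' ⟶ (Ns (m + 1) : A) := x₂
  have hx₂' : x₂' ≫ subD K Ns hNs (m + 1) = 0 := hx₂
  obtain ⟨A'', π, hπ, y, hy, hxy⟩ := h (x₂' ≫ (Ns (m + 1)).arrow)
    (Subobject.factors_comp_arrow x₂')
    (by rw [Category.assoc, ← subD_arrow K Ns hNs, ← Category.assoc, hx₂', zero_comp])
  have key : π ≫ x₂' = (Ns m).factorThru y hy ≫ subD K Ns hNs m := by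
    rw [← cancel_mono (Ns (m + 1)).arrow, Category.assoc, Category.assoc, subD_arrow,
      ← Category.assoc ((Ns m).factorThru y hy), Subobject.factorThru_arrow]
    exact hxy
  refine ⟨A'', π, hπ, (Ns m).factorThru y hy, ?_⟩
  rw [sub_d]
  exact key

end Sub

section Descent

variable [IsGrothendieckAbelian.{v} A] {G : A} (hG : IsSeparator G)
variable (Y Q : CochainComplex A ℤ) (π : Y ⟶ Q) [∀ m, Epi (π.f m)]

open Classical in
/-- one step of the descent, by choice -/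
noncomputable def step (k : ℕ) (m m' m'' : ℤ) (N' : Subobject (Q.X m')) : Subobject (Q.X m) :=
  if h : (∃ e : Sig G k ⟶ (N' : A), Epi e) ∧
      (ShortComplex.mk (Q.d m m') (Q.d m' m'') (Q.d_comp_d _ _ _)).Exact then
    (step_exists hG (π.f m) (Q.d m m') (Q.d m' m'') (Q.d_comp_d _ _ _) h.2 k N' h.1).choose
  else ⊥

lemma step_spec (k : ℕ) (m m' m'' : ℤ) (N' : Subobject (Q.X m'))
    (h1 : ∃ e : Sig G k ⟶ (N' : A), Epi e)
    (h2 : (ShortComplex.mk (Q.d m m') (Q.d m' m'') (Q.d_comp_d _ _ _)).Exact) :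
    N'.Factors ((step hG Y Q π k m m' m'' N').arrow ≫ Q.d m m') ∧
      (∀ {A' : A} (x : A' ⟶ Q.X m'), N'.Factors x → x ≫ Q.d m' m'' = 0 →
        ∃ (A'' : A) (π' : A'' ⟶ A') (_ : Epi π') (y : A'' ⟶ Q.X m),
          (step hG Y Q π k m m' m'' N').Factors y ∧ π' ≫ x = y ≫ Q.d m m') ∧
      IsSmallSub G (k + 1) (π.f m) (step hG Y Q π k m m' m'' N') := by
  have h : (∃ e : Sig G k ⟶ (N' : A), Epi e) ∧
      (ShortComplex.mk (Q.d m m') (Q.d m' m'') (Q.d_comp_d _ _ _)).Exact := ⟨h1, h2⟩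
  rw [show step hG Y Q π k m m' m'' N' = _ from dif_pos h]
  exact (step_exists hG (π.f m) (Q.d m m') (Q.d m' m'') (Q.d_comp_d _ _ _) h.2 k N' h.1).choose_spec

variable (n : ℤ) (N₀ : Subobject (Q.X n))

/-- the descending family of subobjects -/
noncomputable def Nsub (m : ℤ) : Subobject (Q.X m) :=
  if h : m < n then
    step hG Y Q π (n - (m + 1)).toNat m (m + 1) (m + 1 + 1) (Nsub (m + 1))
  else if h' : m = n then h' ▸ N₀ else ⊥
termination_by (n - m).toNat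
decreasing_by omega

lemma Nsub_of_lt (m : ℤ) (h : m < n) : Nsub hG Y Q π n N₀ m =
    step hG Y Q π (n - (m + 1)).toNat m (m + 1) (m + 1 + 1) (Nsub hG Y Q π n N₀ (m + 1)) := by
  rw [Nsub, dif_pos h]

lemma Nsub_self : Nsub hG Y Q π n N₀ n = N₀ := by
  rw [Nsub, dif_neg (lt_irrefl n), dif_pos rfl]

lemma Nsub_of_gt (m : ℤ) (h : n < m) : Nsub hG Y Q π n N₀ m = ⊥ := by
  rw [Nsub, dif_neg (by omega), dif_neg (by omega)]

variable (hQ : Q.Acyclic)

include hQ in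
lemma exact_sc (m : ℤ) :
    (ShortComplex.mk (Q.d m (m + 1)) (Q.d (m + 1) (m + 1 + 1)) (Q.d_comp_d _ _ _)).Exact := by
  have := hQ (m + 1)
  rw [HomologicalComplex.exactAt_iff' _ m (m + 1) (m + 1 + 1) (by simp) (by simp)] at this
  exact this

variable (h₀ : IsSmallSub G 0 (π.f n) N₀)

include hQ h₀ in
lemma isSmallSub_Nsub : ∀ (j : ℕ) (m : ℤ), n - m = j →
    IsSmallSub G j (π.f m) (Nsub hG Y Q π n N₀ m) := by
  intro j
  induction j with
  | zero =>
    intro m hm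
    obtain rfl : m = n := by omega
    rw [Nsub_self]
    exact h₀
  | succ j ih =>
    intro m hm
    have h1 : (n - (m + 1)).toNat = j := by omega
    rw [Nsub_of_lt hG Y Q π n N₀ m (by omega), h1]
    exact (step_spec hG Y Q π j m (m + 1) (m + 1 + 1) _ (ih (m + 1) (by omega)).exists_epi
      (exact_sc Q hQ m)).2.2

variable (h₀d : N₀.arrow ≫ Q.d n (n + 1) = 0)

include hQ h₀ h₀d in
lemma Nsub_compat (m : ℤ) : (Nsub hG Y Q π n N₀ (m + 1)).Factors
    ((Nsub hG Y Q π n N₀ m).arrow ≫ Q.d m (m + 1)) := by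
  rcases lt_trichotomy m n with h | h | h
  · have h1 := isSmallSub_Nsub hG Y Q π n N₀ hQ h₀ (n - (m + 1)).toNat (m + 1) (by omega)
    rw [Nsub_of_lt hG Y Q π n N₀ m h]
    exact (step_spec hG Y Q π _ m (m + 1) (m + 1 + 1) _ h1.exists_epi (exact_sc Q hQ m)).1
  · subst h
    rw [Nsub_self, h₀d]
    exact Subobject.factors_zero
  · rw [Nsub_of_gt hG Y Q π n N₀ m h, Subobject.bot_arrow, zero_comp]
    exact Subobject.factors_zero

include hQ h₀ in
lemma Nsub_exact (m : ℤ) {A' : A} (x : A' ⟶ Q.X (m + 1))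
    (hx : (Nsub hG Y Q π n N₀ (m + 1)).Factors x) (hxd : x ≫ Q.d (m + 1) (m + 1 + 1) = 0) :
    ∃ (A'' : A) (π' : A'' ⟶ A') (_ : Epi π') (y : A'' ⟶ Q.X m),
      (Nsub hG Y Q π n N₀ m).Factors y ∧ π' ≫ x = y ≫ Q.d m (m + 1) := by
  by_cases h : m < n
  · have h1 := isSmallSub_Nsub hG Y Q π n N₀ hQ h₀ (n - (m + 1)).toNat (m + 1) (by omega)
    rw [Nsub_of_lt hG Y Q π n N₀ m h]
    exact (step_spec hG Y Q π _ m (m + 1) (m + 1 + 1) _ h1.exists_epi (exact_sc Q hQ m)).2.1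
      x hx hxd
  · rw [Nsub_of_gt hG Y Q π n N₀ (m + 1) (by omega), Subobject.bot_factors_iff_zero] at hx
    exact ⟨A', 𝟙 _, inferInstance, 0, Subobject.factors_zero, by rw [hx, comp_zero, zero_comp]⟩

include hQ h₀ h₀d in
lemma sub_Nsub_acyclic :
    (sub Q (Nsub hG Y Q π n N₀) (Nsub_compat hG Y Q π n N₀ hQ h₀ h₀d)).Acyclic := by
  intro j
  obtain ⟨m, rfl⟩ : ∃ m, j = m + 1 := ⟨j - 1, by ring⟩
  exact sub_exactAt Q _ _ m (fun x hx hxd => Nsub_exact hG Y Q π n N₀ hQ h₀ m x hx hxd)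

end Descent

section Start

variable [IsGrothendieckAbelian.{v} A] {G : A} (hG : IsSeparator G)
variable (Y Q : CochainComplex A ℤ) (π : Y ⟶ Q) [∀ m, Epi (π.f m)]

include hG in
lemma exists_start (hne : ¬ IsZero Q) :
    ∃ (n : ℤ) (g : G ⟶ Y.X n), (g ≫ π.f n) ≫ Q.d n (n + 1) = 0 ∧ g ≫ π.f n ≠ 0 := by
  -- a degree with a nonzero cycle object
  have h1 : ∃ n : ℤ, kernel.ι (Q.d n (n + 1)) ≠ 0 := by
    by_contra hcon
    push_neg at hcon
    apply hne
    rw [IsZero.iff_id_eq_zero]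
    ext n
    have hmono : ∀ n : ℤ, Mono (Q.d n (n + 1)) := fun n =>
      Preadditive.mono_of_cancel_zero _ (fun {P} g hg => by
        rw [← kernel.lift_ι _ g hg, hcon n, comp_zero])
    -- `Q.d (n-1) n ≫ Q.d n (n+1) = 0` and the second is mono
    have h2 : Q.d n (n + 1) = 0 := by
      haveI := hmono (n + 1)
      rw [← cancel_mono (Q.d (n + 1) (n + 1 + 1)), Q.d_comp_d, zero_comp]
    haveI := hmono n
    rw [← cancel_mono (Q.d n (n + 1)), h2]
    simp
  obtain ⟨n, hn⟩ := h1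
  let ι := kernel.ι (Q.d n (n + 1))
  let fst : pullback ι (π.f n) ⟶ kernel (Q.d n (n + 1)) := pullback.fst _ _
  let snd : pullback ι (π.f n) ⟶ Y.X n := pullback.snd _ _
  haveI : Epi fst := Abelian.epi_pullback_of_epi_g _ _
  have hcond : fst ≫ ι = snd ≫ π.f n := pullback.condition
  have h3 : fst ≫ ι ≠ 0 := by
    intro h
    apply hn
    rw [← cancel_epi fst, h, comp_zero]
  rw [isSeparator_def] at hG
  have h4 : ∃ g' : G ⟶ pullback ι (π.f n), g' ≫ fst ≫ ι ≠ 0 := by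
    by_contra hcon
    push_neg at hcon
    exact h3 (hG _ 0 (fun g' => by rw [hcon g', comp_zero]))
  obtain ⟨g', hg'⟩ := h4
  have hk : ι ≫ Q.d n (n + 1) = 0 := kernel.condition _
  have hgs : (g' ≫ snd) ≫ π.f n = g' ≫ fst ≫ ι := by rw [Category.assoc, hcond]
  refine ⟨n, g' ≫ snd, ?_, ?_⟩
  · rw [hgs, Category.assoc, Category.assoc, hk, comp_zero, comp_zero]
  · rw [hgs]; exact hg'

include hG in
theorem exists_small_acyclic (hQ : Q.Acyclic) (hne : ¬ IsZero Q) :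
    ∃ (n : ℤ) (Ns : ∀ m : ℤ, Subobject (Q.X m))
      (hNs : ∀ m : ℤ, (Ns (m + 1)).Factors ((Ns m).arrow ≫ Q.d m (m + 1))),
      (sub Q Ns hNs).Acyclic ∧ Ns n ≠ ⊥ ∧ (∀ m, n < m → Ns m = ⊥) ∧
        ∀ k : ℕ, IsSmallSub G k (π.f (n - k)) (Ns (n - k)) := by
  obtain ⟨n, g, hg1, hg2⟩ := exists_start hG Y Q π hne
  let N₀ : Subobject (Q.X n) := imageSubobject (g ≫ π.f n)
  let e₀ : G ⟶ (N₀ : A) := factorThruImageSubobject (g ≫ π.f n)
  have he₀ : e₀ ≫ N₀.arrow = g ≫ π.f n := imageSubobject_arrow_comp _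
  have h₀d : N₀.arrow ≫ Q.d n (n + 1) = 0 := by
    rw [← cancel_epi e₀, ← Category.assoc, he₀, hg1, comp_zero]
  have h₀ : IsSmallSub G 0 (π.f n) N₀ := by
    refine ⟨Sigma.desc (fun _ : idx G 0 => g), Sigma.desc (fun _ : idx G 0 => e₀), ?_, ?_⟩
    · exact epi_of_epi_fac (Sigma.ι_desc (fun _ : idx G 0 => e₀) (PUnit.unit : idx G 0))
    · apply Sigma.hom_ext
      intro j
      rw [← Category.assoc, ← Category.assoc, Sigma.ι_desc, Sigma.ι_desc, he₀]
  refine ⟨n, Nsub hG Y Q π n N₀, Nsub_compat hG Y Q π n N₀ hQ h₀ h₀d,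
    sub_Nsub_acyclic hG Y Q π n N₀ hQ h₀ h₀d, ?_, fun m hm => Nsub_of_gt hG Y Q π n N₀ m hm,
    fun k => isSmallSub_Nsub hG Y Q π n N₀ hQ h₀ k (n - k) (by omega)⟩
  rw [Nsub_self]
  intro hbot
  apply hg2
  have h0 : N₀.arrow = 0 := by rw [hbot]; exact Subobject.bot_arrow
  rw [← he₀, h0, comp_zero]

end Start

end Groth.Agent.Lib.KInjGen3
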