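import Mathlib
import Groth.Agent.Lib.KInjGen1_helper7
import Groth.Agent.Lib.KInjGen3_helper7

/-!
# K-injective resolutions, part 4 (helper7): the generating family and the pushout step
-/

set_option autoImplicit false
universe v u
open CategoryTheory Limits HomologicalComplex ZeroObject

namespace Groth.Agent.Lib.KInjGen4

open Groth.Agent.Lib.KInjGen2 Groth.Agent.Lib.KInjGen3 Groth.Agent.Lib

variable {A : Type u} [Category.{v} A] [Abelian A]

lemma mkD_comp (n : ℤ) {X : A} {K L : CochainComplex A ℤ} (φ₀ : X ⟶ K.X n) (f : K ⟶ L) :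
    KInjLift.mkD n φ₀ ≫ f = KInjLift.mkD n (φ₀ ≫ f.f n) := by
  apply from_double_hom_ext
  · rw [HomologicalComplex.comp_f, KInjLift.mkD_f₀, KInjLift.mkD_f₀, Category.assoc]
  · rw [HomologicalComplex.comp_f, KInjLift.mkD_f₁, KInjLift.mkD_f₁]
    simp only [Category.assoc, f.comm]

variable [IsGrothendieckAbelian.{v} A] (G : A)

/-- the free complexes -/
noncomputable abbrev Rn (n : ℤ) : CochainComplex A ℤ :=
  ∐ fun k : ℕ => KInjLift.D (n - k) (Sig G k)

/-- index type of the generating family -/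
def JIdx : Type (max u v) :=
  Option (Σ n : ℤ, {K : Subobject (Rn G n) // QuasiIso K.arrow})

/-- sources -/
noncomputable def Jsrc : JIdx G → CochainComplex A ℤ
  | none => 0
  | some ⟨_, K⟩ => (K.1 : CochainComplex A ℤ)

/-- targets -/
noncomputable def Jtgt : JIdx G → CochainComplex A ℤ
  | none => 0
  | some ⟨n, _⟩ => Rn G n

/-- the maps -/
noncomputable def Jmap : ∀ j : JIdx G, Jsrc G j ⟶ Jtgt G j
  | none => 𝟙 0
  | some ⟨_, K⟩ => K.1.arrow

/-- the generating family -/
def Jgen : MorphismProperty (CochainComplex A ℤ) := MorphismProperty.ofHoms (Jmap G)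

instance (X : CochainComplex A ℤ) : Small.{v} (Subobject X) := by
  haveI : IsGrothendieckAbelian.{v} (CochainComplex A ℤ) := inferInstance
  haveI : WellPowered.{v} (CochainComplex A ℤ) := IsGrothendieckAbelian.wellPowered _
  infer_instance

instance : Small.{v} (JIdx G) := by
  unfold JIdx
  haveI : ∀ n : ℤ, Small.{v} {K : Subobject (Rn G n) // QuasiIso K.arrow} := fun n =>
    small_subtype _ _
  haveI : Small.{v} (Σ n : ℤ, {K : Subobject (Rn G n) // QuasiIso K.arrow}) := small_sigma _
  exact small_map (Equiv.optionEquivSumPUnit.{0} _)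

instance : MorphismProperty.IsSmall.{v} (Jgen G) := by
  unfold Jgen
  infer_instance

lemma Jgen_le_monoQis : Jgen G ≤ KInjGen1.monoQis := by
  rintro _ _ _ ⟨j⟩
  rcases j with _ | ⟨n, K, hK⟩
  · exact ⟨inferInstanceAs (Mono (𝟙 (0 : CochainComplex A ℤ))),
      inferInstanceAs (QuasiIso (𝟙 (0 : CochainComplex A ℤ)))⟩
  · change Mono K.arrow ∧ QuasiIso K.arrow
    exact ⟨inferInstance, hK⟩

lemma isomorphisms_le_pushouts_Jgen :
    MorphismProperty.isomorphisms (CochainComplex A ℤ) ≤ (Jgen G).pushouts :=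
  MorphismProperty.isomorphisms_le_pushouts _
    (fun _ ↦ ⟨0, 0, 𝟙 0, ⟨(none : JIdx G)⟩, 0, inferInstance⟩)

variable {G} (hG : IsSeparator G)

include hG in
set_option backward.isDefEq.respectTransparency false in
theorem exists_pushouts {X Y : CochainComplex A ℤ} (p : X ⟶ Y) [Mono p] [QuasiIso p]
    (hp : ¬ IsIso p) :
    ∃ (X' : CochainComplex A ℤ) (i : X ⟶ X') (p' : X' ⟶ Y) (_ : (Jgen G).pushouts i)
      (_ : ¬ IsIso i) (_ : Mono p'), i ≫ p' = p := by
  let Q : CochainComplex A ℤ := cokernel p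
  let π : Y ⟶ Q := cokernel.π p
  have hpπ : p ≫ π = 0 := cokernel.condition p
  have hS : (ShortComplex.mk p π hpπ).ShortExact := { exact := ShortComplex.exact_cokernel p }
  have hQ : Q.Acyclic := hS.acyclic_X₃ (by dsimp; infer_instance)
  have hne : ¬ IsZero Q := by
    intro hz
    apply hp
    haveI : Epi p := Preadditive.epi_of_isZero_cokernel p hz
    exact isIso_of_mono_of_epi p
  haveI : ∀ m, Epi (π.f m) := fun m => inferInstance
  obtain ⟨n, Ns, hNs, hacyc, hn, htop, hsmall⟩ := exists_small_acyclic hG Y Q π hQ hne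
  choose τ e he hτe using hsmall
  let N : CochainComplex A ℤ := sub Q Ns hNs
  let ιN : N ⟶ Q := subι Q Ns hNs
  let ξ : Rn G n ⟶ Y := Sigma.desc (fun k : ℕ => KInjLift.mkD (n - k) (τ k))
  let eb : Rn G n ⟶ N := Sigma.desc (fun k : ℕ =>
    KInjLift.mkD (n - k) (K := N) (e k))
  have h1 : eb ≫ ιN = ξ ≫ π := by
    apply Sigma.hom_ext
    intro k
    rw [← Category.assoc, ← Category.assoc]
    erw [Sigma.ι_desc, Sigma.ι_desc]
    rw [mkD_comp, mkD_comp]
    congr 1
    exact hτe k
  haveI : Epi eb := by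
    apply HomologicalComplex.epi_of_epi_f
    intro m
    by_cases hm : m ≤ n
    · obtain ⟨k, rfl⟩ : ∃ k : ℕ, m = n - k := ⟨(n - m).toNat, by omega⟩
      have h2 : (Sigma.ι (fun k : ℕ => KInjLift.D (n - k) (Sig G k)) k).f (n - k) ≫
          eb.f (n - k) = (KInjLift.iso₀ (n - k) (Sig G k)).hom ≫ e k := by
        rw [← HomologicalComplex.comp_f]
        erw [Sigma.ι_desc]
        exact KInjLift.mkD_f₀ _ _
      have hepi : Epi ((Sigma.ι (fun k : ℕ => KInjLift.D (n - k) (Sig G k)) k).f (n - k) ≫
          eb.f (n - k)) := by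
        rw [h2]
        exact @epi_comp _ _ _ _ _ _ inferInstance _ (he k)
      exact @epi_of_epi _ _ _ _ _ _ _ hepi
    · have hz : IsZero (N.X m) := by
        show IsZero ((Ns m : A))
        rw [htop m (by omega)]
        exact IsZero.of_iso (isZero_zero _) Subobject.botCoeIsoZero
      exact hz.epi _
  -- the map `pullback.snd p ξ` is a kernel of `eb`
  have h3 : pullback.snd p ξ ≫ eb = 0 := by
    rw [← cancel_mono ιN, Category.assoc, h1, ← pullback.condition_assoc, hpπ, comp_zero,
      zero_comp]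
  have hker : IsLimit (KernelFork.ofι (pullback.snd p ξ) h3) :=
    KernelFork.IsLimit.ofι _ _
      (fun {W} g' hg' => pullback.lift
        ((Abelian.monoIsKernelOfCokernel _ (cokernelIsCokernel p)).lift
          (KernelFork.ofι (g' ≫ ξ) (by
            show (g' ≫ ξ) ≫ π = 0
            rw [Category.assoc, ← h1, ← Category.assoc, hg', zero_comp]))) g'
        ((Abelian.monoIsKernelOfCokernel _ (cokernelIsCokernel p)).fac _ WalkingParallelPair.zero))
      (fun {W} g' hg' => pullback.lift_snd _ _ _)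
      (fun {W} g' hg' b hb => by
        rw [← cancel_mono (pullback.snd p ξ), hb, pullback.lift_snd])
  have hS' : (ShortComplex.mk (pullback.snd p ξ) eb h3).ShortExact :=
    { exact := ShortComplex.exact_of_f_is_kernel _ hker }
  haveI : QuasiIso (pullback.snd p ξ) := KInjLift.quasiIso_f_of_acyclic _ hS' hacyc
  have hqis : QuasiIso (Subobject.mk (pullback.snd p ξ)).arrow := by
    rw [← Subobject.underlyingIso_hom_comp_eq_mk]
    infer_instance
  have hpo : IsPushout ((Subobject.underlyingIso (pullback.snd p ξ)).hom ≫ pullback.fst p ξ)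
      (Subobject.mk (pullback.snd p ξ)).arrow
      (pushout.inl (pullback.fst p ξ) (pullback.snd p ξ)) (pushout.inr _ _) :=
    (IsPushout.of_hasPushout (pullback.fst p ξ) (pullback.snd p ξ)).of_iso
      ((Subobject.underlyingIso _).symm) (Iso.refl _) (Iso.refl _)
      (Iso.refl _) (by simp) (by simp) (by simp) (by simp)
  have hJ : Jgen G (Subobject.mk (pullback.snd p ξ)).arrow :=
    MorphismProperty.ofHoms.mk (f := Jmap G)
      (some ⟨n, ⟨Subobject.mk (pullback.snd p ξ), hqis⟩⟩ : JIdx G)
  refine ⟨pushout (pullback.fst p ξ) (pullback.snd p ξ), pushout.inl _ _,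
    pushout.desc p ξ pullback.condition,
    ⟨_, _, _, _, _, hJ, hpo⟩, ?_, ?_, pushout.inl_desc _ _ _⟩
  · intro h
    have h41 : pushout.inl (pullback.fst p ξ) (pullback.snd p ξ) ≫
        pushout.desc p ξ pullback.condition = p := pushout.inl_desc _ _ _
    have h42 : pushout.desc p ξ pullback.condition =
        inv (pushout.inl (pullback.fst p ξ) (pullback.snd p ξ)) ≫ p :=
      (IsIso.eq_inv_comp _).2 h41
    have h4 : ξ = (pushout.inr _ _ ≫
        inv (pushout.inl (pullback.fst p ξ) (pullback.snd p ξ))) ≫ p := by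
      rw [Category.assoc, ← h42, pushout.inr_desc]
    have h5 : eb = 0 := by
      rw [← cancel_mono ιN, h1, h4, Category.assoc, hpπ, comp_zero, zero_comp]
    have h6 : IsZero (N.X n) :=
      IsZero.of_epi_eq_zero (eb.f n) (by rw [h5, HomologicalComplex.zero_f])
    apply hn
    rw [← Subobject.mk_arrow (Ns n), Subobject.mk_eq_bot_iff_zero]
    exact h6.eq_of_src _ _
  · exact (IsPushout.of_hasPushout _ _).mono_of_isPullback_of_mono
      (IsPullback.of_hasPullback p ξ) _ (pushout.inl_desc _ _ _) (pushout.inr_desc _ _ _)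

end Groth.Agent.Lib.KInjGen4
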