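import Mathlib
import Groth.Agent.Lib.KInjGen4_helper7

/-!
# K-injective resolutions, part 5 (helper7): transfinite argument, small object argument, main
-/

set_option autoImplicit false
universe v u
open CategoryTheory Category Limits HomologicalComplex ZeroObject MorphismProperty

namespace Groth.Agent.Lib.KInjGen5

open Groth.Agent.Lib.KInjGen1 Groth.Agent.Lib.KInjGen4 Groth.Agent.Lib

variable {A : Type u} [Category.{v} A] [Abelian A] [IsGrothendieckAbelian.{v} A]

section classes

variable (G : A)

lemma Jgen_le_monomorphisms : Jgen G ≤ monomorphisms (CochainComplex A ℤ) :=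
  fun _ _ f hf => (Jgen_le_monoQis G f hf).1

lemma testFib_le_rlp_Jgen :
    (testFib : MorphismProperty (CochainComplex A ℤ)) ≤ (Jgen G).rlp := by
  intro X Y p hp K L i hi
  exact monoQis_le_llp i (Jgen_le_monoQis G i hi) p hp

lemma rlp_llp_Jgen_le :
    (Jgen G).rlp.llp ≤ (testFib : MorphismProperty (CochainComplex A ℤ)).llp :=
  antitone_llp (testFib_le_rlp_Jgen G)

lemma llp_of_transfinite {J : Type v} [LinearOrder J] [SuccOrder J] [OrderBot J]
    [WellFoundedLT J] {X Y : CochainComplex A ℤ} (f : X ⟶ Y)
    (h : (Jgen G).pushouts.TransfiniteCompositionOfShape J f) : (Jgen G).rlp.llp f := by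
  have := transfiniteCompositionsOfShape_le_llp_rlp (Jgen G).pushouts J f h.mem
  rwa [rlp_pushouts] at this

end classes

variable {G : A} (hG : IsSeparator G)

include hG in
set_option backward.defeqAttrib.useBackward true in
lemma exists_larger_subobject {X : CochainComplex A ℤ} (S : Subobject X) (hS : S ≠ ⊤)
    (hq : QuasiIso S.arrow) :
    ∃ (S' : Subobject X) (h : S < S'), (Jgen G).pushouts (Subobject.ofLE S S' h.le) := by
  induction S using Subobject.ind with | _ f
  haveI : QuasiIso f := by
    have h := Subobject.underlyingIso_arrow f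
    have : QuasiIso ((Subobject.underlyingIso f).inv ≫ (Subobject.mk f).arrow) := inferInstance
    rwa [h] at this
  obtain ⟨X', i, p', hi, hi', hp', fac⟩ := exists_pushouts hG f
    (by simpa only [Subobject.isIso_iff_mk_eq_top] using hS)
  refine ⟨Subobject.mk p', Subobject.mk_lt_mk_of_comm i fac hi',
    (MorphismProperty.arrow_mk_iso_iff _ ?_).2 hi⟩
  refine Arrow.isoMk (Subobject.underlyingIso f) (Subobject.underlyingIso p') ?_
  dsimp
  simp only [← cancel_mono p', assoc, fac,
    Subobject.underlyingIso_hom_comp_eq_mk, Subobject.ofLE_arrow]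

variable {X : CochainComplex A ℤ}

open scoped Classical in
/-- a strictly larger subobject (when the inclusion is a quasi-isomorphism), or `⊤` -/
noncomputable def largerSubobject (S : Subobject X) : Subobject X :=
  if h : S ≠ ⊤ ∧ QuasiIso S.arrow then (exists_larger_subobject hG S h.1 h.2).choose else ⊤

lemma largerSubobject_top : largerSubobject hG (⊤ : Subobject X) = ⊤ :=
  dif_neg (fun h => h.1 rfl)

lemma lt_largerSubobject (S : Subobject X) (hS : S ≠ ⊤) : S < largerSubobject hG S := by
  dsimp only [largerSubobject]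
  split_ifs with h
  · exact (exists_larger_subobject hG S h.1 h.2).choose_spec.choose
  · exact lt_top_iff_ne_top.2 hS

lemma le_largerSubobject (S : Subobject X) : S ≤ largerSubobject hG S := by
  by_cases hS : S = ⊤
  · subst hS
    rw [largerSubobject_top]
  · exact (lt_largerSubobject hG S hS).le

set_option backward.defeqAttrib.useBackward true in
set_option backward.isDefEq.respectTransparency false in
lemma pushouts_ofLE_le_largerSubobject (S : Subobject X) (hq : QuasiIso S.arrow) :
    (Jgen G).pushouts (Subobject.ofLE _ _ (le_largerSubobject hG S)) := by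
  by_cases hS : S = ⊤
  · subst hS
    have := (Subobject.isIso_arrow_iff_eq_top (largerSubobject hG (⊤ : Subobject X))).2
      (largerSubobject_top hG)
    exact (MorphismProperty.arrow_mk_iso_iff _
      (Arrow.isoMk (asIso (Subobject.arrow _)) (asIso (Subobject.arrow _)) (by simp))).2
        (isomorphisms_le_pushouts_Jgen G (𝟙 X)
          (MorphismProperty.isomorphisms.infer_property _))
  · have h : S ≠ ⊤ ∧ QuasiIso S.arrow := ⟨hS, hq⟩
    refine (MorphismProperty.arrow_mk_iso_iff _ ?_).1
      (exists_larger_subobject hG S h.1 h.2).choose_spec.choose_spec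
    exact Arrow.isoMk (Iso.refl _)
      (Subobject.isoOfEq _ _ ((by rw [largerSubobject, dif_pos h])))

lemma top_mem_range (S₀ : Subobject X) {J : Type v} [LinearOrder J] [OrderBot J] [SuccOrder J]
    [WellFoundedLT J] (hJ : HasCardinalLT (Subobject X) (Cardinal.mk J)) :
    ∃ (j : J), transfiniteIterate (largerSubobject hG) j S₀ = ⊤ :=
  top_mem_range_transfiniteIterate (largerSubobject hG) S₀ (lt_largerSubobject hG)
    (largerSubobject_top hG)
    (fun h ↦ by simpa [hasCardinalLT_iff_cardinal_mk_lt] using hJ.of_injective _ h)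

lemma exists_ordinal (S₀ : Subobject X) :
    ∃ (o : Ordinal.{v}) (j : o.ToType), transfiniteIterate (largerSubobject hG) j S₀ = ⊤ := by
  let κ := Order.succ (Cardinal.mk (Shrink.{v} (Subobject X)))
  have : Nonempty κ.ord.ToType := by simp [κ]
  have := WellFoundedLT.toOrderBot κ.ord.ToType
  exact ⟨κ.ord, top_mem_range hG S₀ (lt_of_lt_of_le (Order.lt_succ _) (by simp [κ]))⟩

lemma lt_of_not_isMax {J : Type*} [LinearOrder J] {j : J} (k : Set.Iic j) (hk : ¬ IsMax k) :
    k.1 < j := by
  refine lt_of_le_of_ne k.2 (fun h => hk ?_)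
  intro l _
  show l.1 ≤ k.1
  rw [h]
  exact l.2

section

variable (S₀ : Subobject X) (J : Type v) [LinearOrder J] [OrderBot J] [SuccOrder J]
  [WellFoundedLT J]

/-- the transfinite iteration as a functor to `MonoOver X` -/
@[simps]
noncomputable def functorToMonoOver : J ⥤ MonoOver X where
  obj j := MonoOver.mk (transfiniteIterate (largerSubobject hG) j S₀).arrow
  map {j j'} f := MonoOver.homMk (Subobject.ofLE _ _
      (monotone_transfiniteIterate _ _ (le_largerSubobject hG) (leOfHom f)))

/-- The functor `J ⥤ C` induced by `functorToMonoOver`. -/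
noncomputable abbrev functor : J ⥤ CochainComplex A ℤ :=
  functorToMonoOver hG S₀ J ⋙ MonoOver.forget _ ⋙ Over.forget _

set_option backward.defeqAttrib.useBackward true in
instance : (functor hG S₀ J).IsWellOrderContinuous where
  nonempty_isColimit m hm := ⟨by
    have := hm.nonempty_Iio.to_subtype
    let c := (Set.principalSegIio m).cocone (functorToMonoOver hG S₀ J ⋙ MonoOver.forget _)
    have : Mono c.pt.hom := by dsimp [c]; infer_instance
    apply IsGrothendieckAbelian.isColimitMapCoconeOfSubobjectMkEqISup
      ((Set.principalSegIio m).monotone.functor ⋙ functorToMonoOver hG S₀ J) c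
    dsimp [c]
    simp only [Subobject.mk_arrow]
    exact transfiniteIterate_limit (largerSubobject hG) S₀ m hm⟩

variable {J} in
lemma map_arrow {j j' : J} (φ : j ⟶ j') :
    (functor hG S₀ J).map φ ≫ (transfiniteIterate (largerSubobject hG) j' S₀).arrow =
      (transfiniteIterate (largerSubobject hG) j S₀).arrow := by
  dsimp [MonoOver.forget]
  exact Subobject.ofLE_arrow _

set_option backward.isDefEq.respectTransparency.types false in
set_option backward.defeqAttrib.useBackward true in
variable {J} in
/-- the map from the bottom is a transfinite composition (as long as the quasi-isomorphism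
invariant holds below `j`) -/
noncomputable def transfiniteCompositionOfShapeMapFromBot (j : J)
    (hq : ∀ k : J, k < j → QuasiIso (transfiniteIterate (largerSubobject hG) k S₀).arrow) :
    (Jgen G).pushouts.TransfiniteCompositionOfShape (Set.Iic j)
    ((functor hG S₀ J).map (homOfLE bot_le : ⊥ ⟶ j)) where
  F := (Set.initialSegIic j).monotone.functor ⋙ functor hG S₀ J
  isoBot := Iso.refl _
  incl :=
    { app k := (functor hG S₀ J).map (homOfLE k.2)
      naturality k k' h := by simp [MonoOver.forget] }
  isColimit := colimitOfDiagramTerminal isTerminalTop _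
  map_mem k hk := by
    have hkj : k.1 < j := lt_of_not_isMax k hk
    dsimp [MonoOver.forget]
    convert!
      pushouts_ofLE_le_largerSubobject hG (transfiniteIterate (largerSubobject hG) k.1 S₀)
        (hq k.1 hkj) using 2
    all_goals
      rw [Set.Iic.succ_eq_of_not_isMax hk,
        transfiniteIterate_succ _ _ _ (Set.not_isMax_coe _ hk)]

variable {J} in
lemma quasiIso_map_bot (j : J)
    (hq : ∀ k : J, k < j → QuasiIso (transfiniteIterate (largerSubobject hG) k S₀).arrow) :
    QuasiIso ((functor hG S₀ J).map (homOfLE bot_le : ⊥ ⟶ j)) := by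
  have h1 := llp_of_transfinite G _ (transfiniteCompositionOfShapeMapFromBot hG S₀ j hq)
  have h2 := rlp_llp_Jgen_le G _ h1
  haveI : Mono ((functor hG S₀ J).map (homOfLE bot_le : ⊥ ⟶ j)) := by
    show Mono (Subobject.ofLE _ _ _)
    infer_instance
  exact quasiIso_of_mono_of_llp' _ h2

variable {J} in
lemma quasiIso_iterate (hS₀ : QuasiIso S₀.arrow) (j : J) :
    QuasiIso (transfiniteIterate (largerSubobject hG) j S₀).arrow := by
  refine WellFoundedLT.induction
    (motive := fun j => QuasiIso (transfiniteIterate (largerSubobject hG) j S₀).arrow) j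
    (fun j ih => ?_)
  haveI := quasiIso_map_bot hG S₀ j ih
  have e := map_arrow hG S₀ (homOfLE bot_le : (⊥ : J) ⟶ j)
  have h0 : QuasiIso (transfiniteIterate (largerSubobject hG) (⊥ : J) S₀).arrow := by
    rw [transfiniteIterate_bot]
    exact hS₀
  rw [← e] at h0
  exact (quasiIso_iff_comp_left ((functor hG S₀ J).map (homOfLE bot_le : (⊥ : J) ⟶ j))
    (transfiniteIterate (largerSubobject hG) j S₀).arrow).1 h0

end

variable {K : CochainComplex A ℤ} {f : K ⟶ X} [Mono f]

set_option backward.defeqAttrib.useBackward true in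
set_option backward.isDefEq.respectTransparency false in
/-- `f` is a transfinite composition -/
noncomputable def transfiniteCompositionOfShapeOfEqTop (hf : QuasiIso f)
    {J : Type v} [LinearOrder J] [OrderBot J] [SuccOrder J] [WellFoundedLT J] {j : J}
    (hj : transfiniteIterate (largerSubobject hG) j (Subobject.mk f) = ⊤) :
    (Jgen G).pushouts.TransfiniteCompositionOfShape (Set.Iic j) f := by
  let t := transfiniteIterate (largerSubobject hG) j (Subobject.mk f)
  have := (Subobject.isIso_arrow_iff_eq_top t).2 hj
  have hq0 : QuasiIso (Subobject.mk f).arrow := by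
    rw [← Subobject.underlyingIso_hom_comp_eq_mk]
    infer_instance
  apply (transfiniteCompositionOfShapeMapFromBot hG (Subobject.mk f) j
    (fun k _ => quasiIso_iterate hG _ hq0 k)).ofArrowIso
  refine Arrow.isoMk ((Subobject.isoOfEq _ _ (transfiniteIterate_bot _ _) ≪≫
    Subobject.underlyingIso f)) (asIso t.arrow) ?_
  dsimp [MonoOver.forget]
  rw [assoc, Subobject.underlyingIso_hom_comp_eq_mk, Subobject.ofLE_arrow,
    Subobject.ofLE_arrow]

variable (f)

include hG in
lemma exists_transfiniteCompositionOfShape (hf : QuasiIso f) :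
    ∃ (J : Type v) (_ : LinearOrder J) (_ : OrderBot J) (_ : SuccOrder J)
        (_ : WellFoundedLT J),
    Nonempty ((Jgen G).pushouts.TransfiniteCompositionOfShape J f) := by
  obtain ⟨o, j, hj⟩ := exists_ordinal hG (Subobject.mk f)
  have : Nonempty o.ToType := ⟨j⟩
  have : OrderBot o.ToType := WellFoundedLT.toOrderBot _
  exact ⟨_, _, _, _, _, ⟨transfiniteCompositionOfShapeOfEqTop hG hf hj⟩⟩

include hG in
lemma Jgen_rlp_le :
    (Jgen G).rlp ≤ (monoQis : MorphismProperty (CochainComplex A ℤ)).rlp := by
  intro X Y p hp K L i hi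
  obtain ⟨hi1, hi2⟩ := hi
  obtain ⟨J, _, _, _, _, ⟨h⟩⟩ := exists_transfiniteCompositionOfShape hG i hi2
  exact transfiniteCompositionsOfShape_le_llp_rlp _ _ _ h.mem _ (by simpa)

variable (G) in
instance : HasSmallObjectArgument.{v} (Jgen G) := by
  obtain ⟨κ, hκ', hκ⟩ := HasCardinalLT.exists_regular_cardinal_forall.{v}
    (fun j : JIdx G => Subobject (Jsrc G j))
  have : Fact κ.IsRegular := ⟨hκ'⟩
  have : Nonempty κ.ord.ToType := by simpa using hκ'.ne_zero
  have := WellFoundedLT.toOrderBot κ.ord.ToType
  exact ⟨κ, inferInstance, inferInstance,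
    { preservesColimit {K L X Y} i hi f hf := by
        let hf' : (monomorphisms (CochainComplex A ℤ)).TransfiniteCompositionOfShape
            κ.ord.ToType f :=
          { toTransfiniteCompositionOfShape := hf.toTransfiniteCompositionOfShape
            map_mem j hj := by
              have := (hf.attachCells j hj).pushouts_coproducts
              simp only [ofHoms_homFamily] at this
              refine (?_ : _ ≤ monomorphisms (CochainComplex A ℤ)) _ this
              simp only [pushouts_le_iff, coproducts_le_iff]
              exact Jgen_le_monomorphisms G }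
        have (j j' : κ.ord.ToType) (φ : j ⟶ j') : Mono (hf'.F.map φ) := hf'.mem_map φ
        apply IsGrothendieckAbelian.preservesColimit_coyoneda_obj_of_mono (Y := hf'.F) (κ := κ)
        obtain ⟨j⟩ := hi
        exact hκ j }⟩

/-- Main theorem: K-injective resolutions exist in a Grothendieck abelian category. -/
theorem exists_resolution (M : CochainComplex A ℤ) :
    ∃ (I : CochainComplex A ℤ) (f : M ⟶ I), I.IsKInjective ∧ QuasiIso f ∧
      (∀ n, Mono (f.f n)) ∧ ∀ n, Injective (I.X n) := by
  let G := separator A
  have hG : IsSeparator G := isSeparator_separator A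
  let fac := (functorialFactorizationData (Jgen G).rlp.llp (Jgen G).rlp).factorizationData
    (0 : M ⟶ 0)
  have hp : (monoQis : MorphismProperty (CochainComplex A ℤ)).rlp fac.p :=
    Jgen_rlp_le hG _ fac.hp
  have E : ∀ (S : ShortComplex (CochainComplex A ℤ)), S.ShortExact → S.X₃.Acyclic →
      ∀ φ : S.X₁ ⟶ fac.Z, ∃ ψ : S.X₂ ⟶ fac.Z, S.f ≫ ψ = φ := by
    intro S hS h3 φ
    haveI : Mono S.f := hS.mono_f
    haveI : QuasiIso S.f := KInjLift.quasiIso_f_of_acyclic S hS h3
    haveI : HasLiftingProperty S.f fac.p := hp S.f ⟨inferInstance, inferInstance⟩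
    have sq : CommSq φ S.f fac.p (0 : S.X₂ ⟶ 0) := ⟨(isZero_zero _).eq_of_tgt _ _⟩
    exact ⟨sq.lift, sq.fac_left⟩
  obtain ⟨h1, h2⟩ := (KInjLift.main fac.Z).2 E
  haveI hi_mono : Mono fac.i := by
    have h : (monomorphisms (CochainComplex A ℤ)).rlp.llp fac.i :=
      antitone_llp (antitone_rlp (Jgen_le_monomorphisms G)) _ fac.hi
    rw [IsGrothendieckAbelian.llp_rlp_monomorphisms
      (isSeparator_separator (CochainComplex A ℤ))] at h
    exact h
  have hi_qis : QuasiIso fac.i := quasiIso_of_mono_of_llp' fac.i (rlp_llp_Jgen_le G _ fac.hi)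
  exact ⟨fac.Z, fac.i, h1, hi_qis, fun n => inferInstance, h2⟩

end Groth.Agent.Lib.KInjGen5
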