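import Mathlib
import Groth.Agent.Lib.KInjGen5_helper7
import Groth.Agent.Lib.DerProd_helper9

/-!
# Consequences of the existence of K-injective resolutions (helper7)
-/

set_option autoImplicit false
universe v u
open CategoryTheory Limits

namespace Groth.Agent.Lib.KInjGen6

variable {A : Type u} [Category.{v} A] [Abelian A] [IsGrothendieckAbelian.{v} A]
  [HasDerivedCategory.{v} A]

/-- every object of the derived category is represented by a K-injective complex with
injective terms -/
theorem exists_kInjective_rep (X : DerivedCategory A) :
    ∃ (I : CochainComplex A ℤ) (_ : I.IsKInjective) (_ : ∀ n, Injective (I.X n)),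
      Nonempty (DerivedCategory.Q.obj I ≅ X) := by
  obtain ⟨I, f, hI, hf, _, hinj⟩ :=
    KInjGen5.exists_resolution (DerivedCategory.Q.objPreimage X)
  haveI := hf
  exact ⟨I, hI, hinj, ⟨(asIso (DerivedCategory.Q.map f)).symm ≪≫
    DerivedCategory.Q.objObjPreimageIso X⟩⟩

theorem hasProducts_derived : HasProducts.{v} (DerivedCategory A) := by
  intro J
  constructor
  intro F
  choose I hI _ e using fun j : J => exists_kInjective_rep (F.obj ⟨j⟩)
  haveI : ∀ j, (I j).IsKInjective := hI
  haveI := DerProd.hasProduct_Q I
  exact hasLimit_of_iso (F := Discrete.functor (fun j => DerivedCategory.Q.obj (I j)))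
    (Discrete.natIso (fun ⟨j⟩ => (e j).some))

end Groth.Agent.Lib.KInjGen6
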