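import Mathlib

/-!
# Right derived functors from resolutions by right-orthogonal objects (helper9)
-/

open CategoryTheory CategoryTheory.Limits Pretriangulated

namespace OrthDeriv

universe v u

variable {C : Type u} [Category.{v} C] [HasZeroObject C] [HasShift C ℤ] [Preadditive C]
  [∀ n : ℤ, (shiftFunctor C n).Additive] [Pretriangulated C] [IsTriangulated C]
  (P : ObjectProperty C) [P.IsTriangulated]

/-- the localizer morphism given by the inclusion of the right orthogonal -/
def Φ : LocalizerMorphism (MorphismProperty.isomorphisms P.rightOrthogonal.FullSubcategory)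
    P.trW where
  functor := P.rightOrthogonal.ι
  map := by
    intro X Y f hf
    haveI : IsIso f := hf
    exact P.trW_of_isIso (P.rightOrthogonal.ι.map f)

variable {P}

lemma bijective_precomp {X X' Y : C} (w : X ⟶ X') (hw : P.trW w) (hY : P.rightOrthogonal Y) :
    Function.Bijective (fun g : X' ⟶ Y => w ≫ g) := by
  rw [← ObjectProperty.isLocal_trW] at hY
  exact hY w hw

variable (hP : ∀ X : C, ∃ (Y : C) (f : X ⟶ Y), P.trW f ∧ P.rightOrthogonal Y)

include hP

lemma isConnected_rightResolution (X : C) : IsConnected ((Φ P).RightResolution X) := by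
  obtain ⟨Y, f, hf, hY⟩ := hP X
  haveI : Nonempty ((Φ P).RightResolution X) :=
    ⟨{ X₁ := ⟨Y, hY⟩, w := f, hw := hf }⟩
  apply zigzag_isConnected
  intro R R'
  obtain ⟨g, hg⟩ := (bijective_precomp R.w R.hw R'.X₁.property).2 R'.w
  exact Zigzag.of_hom { f := ObjectProperty.homMk g, comm := hg }

lemma hasRightResolutions_arrow : (Φ P).arrow.HasRightResolutions := by
  intro f
  obtain ⟨Y₁, w₁, hw₁, hY₁⟩ := hP f.left
  obtain ⟨Y₂, w₂, hw₂, hY₂⟩ := hP f.right
  obtain ⟨g, hg⟩ := (bijective_precomp w₁ hw₁ hY₂).2 (f.hom ≫ w₂)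
  exact ⟨{ X₁ := Arrow.mk (ObjectProperty.homMk g : (⟨Y₁, hY₁⟩ : P.rightOrthogonal.FullSubcategory) ⟶ ⟨Y₂, hY₂⟩)
           w := Arrow.homMk w₁ w₂ hg
           hw := ⟨hw₁, hw₂⟩ }⟩

lemma isLocalizedEquivalence : (Φ P).IsLocalizedEquivalence := by
  let G : P.rightOrthogonal.FullSubcategory ⥤ P.trW.Localization := (Φ P).functor ⋙ P.trW.Q
  haveI : G.Full := ⟨fun {X Y} g => by
    obtain ⟨f, hf⟩ := (ObjectProperty.rightOrthogonal.map_bijective_of_isTriangulated Y.property
      P.trW.Q X.obj).2 g
    exact ⟨ObjectProperty.homMk f, hf⟩⟩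
  haveI : G.Faithful := ⟨fun {X Y} f g h => by
    have := (ObjectProperty.rightOrthogonal.map_bijective_of_isTriangulated Y.property
      P.trW.Q X.obj).1 h
    exact ObjectProperty.hom_ext _ this⟩
  haveI : G.EssSurj := ⟨fun Z => by
    obtain ⟨Y, f, hf, hY⟩ := hP (P.trW.Q.objPreimage Z)
    exact ⟨⟨Y, hY⟩, ⟨(Localization.isoOfHom P.trW.Q P.trW f hf).symm ≪≫
      P.trW.Q.objObjPreimageIso Z⟩⟩⟩
  haveI : G.IsEquivalence := { }
  haveI : ((Φ P).functor ⋙ P.trW.Q).IsLocalization
      (MorphismProperty.isomorphisms P.rightOrthogonal.FullSubcategory) :=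
    Functor.IsLocalization.of_isEquivalence G _ le_rfl
  exact LocalizerMorphism.IsLocalizedEquivalence.of_isLocalization_of_isLocalization (Φ P) P.trW.Q

lemma isRightDerivabilityStructure : (Φ P).IsRightDerivabilityStructure := by
  haveI := isConnected_rightResolution hP
  haveI := hasRightResolutions_arrow hP
  haveI := isLocalizedEquivalence hP
  exact LocalizerMorphism.IsRightDerivabilityStructure.mk' (Φ P)

omit hP in
theorem main (W : MorphismProperty C) (hW : W = P.trW)
    (hP : ∀ X : C, ∃ (Y : C) (f : X ⟶ Y), P.trW f ∧ P.rightOrthogonal Y)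
    {D : Type*} [Category D] (L : C ⥤ D) [L.IsLocalization W]
    {H : Type*} [Category H] (F : C ⥤ H) :
    F.HasRightDerivedFunctor W ∧
      ∀ [F.HasRightDerivedFunctor W] (Y : C), P.rightOrthogonal Y →
        IsIso ((F.totalRightDerivedUnit L W).app Y) := by
  subst hW
  haveI := isRightDerivabilityStructure hP
  have h : (Φ P).Derives F := by
    intro X Y f hf
    haveI : IsIso f := hf
    infer_instance
  haveI := h.hasPointwiseRightDerivedFunctor
  refine ⟨inferInstance, ?_⟩
  intro _ Y hY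
  exact h.isIso_of_isRightDerivedFunctor (F.totalRightDerivedUnit L P.trW) ⟨Y, hY⟩

end OrthDeriv
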