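import Mathlib
import Groth.Agent.Lib.KInjGen6_helper7
import Groth.Agent.Lib.DerAdjPlus_helper9
import Groth.Agent.Lib.OrthDeriv_helper9

/-!
# Derived adjunctions at the level of homotopy categories; Gabriel-Popescu derived (helper7)
-/

set_option autoImplicit false
universe w w' v u
open CategoryTheory Limits

namespace Groth.Agent.Lib.KInjGen8

section general

variable {C₁ : Type*} [Category C₁] {C₂ : Type u} [Category.{v} C₂] [HasZeroObject C₂]
  [HasShift C₂ ℤ] [Preadditive C₂]
  [∀ n : ℤ, (shiftFunctor C₂ n).Additive] [Pretriangulated C₂] [IsTriangulated C₂]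
  (P : ObjectProperty C₂) [P.IsTriangulated]
  {D₁ D₂ : Type*} [Category D₁] [Category D₂]

lemma derives_any {H : Type*} [Category H] (T : C₂ ⥤ H) : (OrthDeriv.Φ P).Derives T := by
  intro X Y f hf
  haveI : IsIso f := hf
  infer_instance

theorem exists_derived_adj {Gl : C₁ ⥤ C₂} {Fr : C₂ ⥤ C₁} (adj : Gl ⊣ Fr)
    {L₁ : C₁ ⥤ D₁} {L₂ : C₂ ⥤ D₂} (W₁ : MorphismProperty C₁) (W₂ : MorphismProperty C₂)
    [L₁.IsLocalization W₁] [L₂.IsLocalization W₂]
    {G' : D₁ ⥤ D₂} {F' : D₂ ⥤ D₁} (α : L₁ ⋙ G' ≅ Gl ⋙ L₂) (β : Fr ⋙ L₁ ⟶ L₂ ⋙ F')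
    [F'.IsRightDerivedFunctor β W₂] (hW : W₂ = P.trW)
    (hP : ∀ X : C₂, ∃ (Y : C₂) (f : X ⟶ Y), P.trW f ∧ P.rightOrthogonal Y) :
    ∃ (a : G' ⊣ F'), ∀ (Y : C₂), P.rightOrthogonal Y → IsIso (L₂.map (adj.counit.app Y)) →
      IsIso (a.counit.app (L₂.obj Y)) := by
  subst hW
  haveI := OrthDeriv.isRightDerivabilityStructure hP
  haveI h1 : G'.IsLeftDerivedFunctor α.hom W₁ := Functor.isLeftDerivedFunctor_of_inverts W₁ _ α
  haveI h2 : (G' ⋙ F').IsLeftDerivedFunctor
      ((Functor.associator _ _ _).inv ≫ Functor.whiskerRight α.hom F') W₁ :=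
    Functor.isLeftDerivedFunctor_of_inverts W₁ (G' ⋙ F')
      ((Functor.associator _ _ _).symm ≪≫ Functor.isoWhiskerRight α F')
  have hβ : ∀ Y : P.rightOrthogonal.FullSubcategory, IsIso (β.app Y.obj) :=
    fun Y => (derives_any P _).isIso_of_isRightDerivedFunctor β Y
  haveI h3 : (F' ⋙ G').IsRightDerivedFunctor
      (Functor.whiskerRight β G' ≫ (Functor.associator _ _ _).hom) P.trW := by
    apply (derives_any P _).isRightDerivedFunctor_of_isIso
    intro Y
    haveI := hβ Y
    rw [NatTrans.comp_app, Functor.whiskerRight_app, Functor.associator_hom_app,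
      Category.comp_id]
    show IsIso (G'.map (β.app Y.obj))
    infer_instance
  refine ⟨adj.derived W₁ P.trW α.hom β, ?_⟩
  intro Y hY hc
  haveI := hβ ⟨Y, hY⟩
  have h4 : IsIso (G'.map (β.app Y) ≫
      (adj.derived W₁ P.trW α.hom β).counit.app (L₂.obj Y)) := by
    have e : G'.map (β.app Y) ≫ (adj.derived W₁ P.trW α.hom β).counit.app (L₂.obj Y) =
        α.hom.app (Fr.obj Y) ≫ L₂.map (adj.counit.app Y) :=
      adj.derivedε_fac_app P.trW α.hom β Y
    rw [e]
    infer_instance
  exact IsIso.of_isIso_comp_left (G'.map (β.app Y)) _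

end general

section GP

open IsGrothendieckAbelian

variable {C : Type u} [Category.{v} C] [Abelian C] [IsGrothendieckAbelian.{v} C]

lemma hP : ∀ X : HomotopyCategory C (ComplexShape.up ℤ),
    ∃ (Y : HomotopyCategory C (ComplexShape.up ℤ)) (f : X ⟶ Y),
      (HomotopyCategory.subcategoryAcyclic C).trW f ∧
        (HomotopyCategory.subcategoryAcyclic C).rightOrthogonal Y := by
  intro X
  obtain ⟨K, rfl⟩ := HomotopyCategory.quotient_obj_surjective X
  obtain ⟨I, f, hI, hf, _, _⟩ := KInjGen5.exists_resolution K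
  refine ⟨(HomotopyCategory.quotient C (ComplexShape.up ℤ)).obj I,
    (HomotopyCategory.quotient C (ComplexShape.up ℤ)).map f, ?_, ?_⟩
  · rw [← HomotopyCategory.quasiIso_eq_trW_subcategoryAcyclic,
      HomotopyCategory.quotient_map_mem_quasiIso_iff, HomologicalComplex.mem_quasiIso_iff]
    exact hf
  · exact (CochainComplex.isKInjective_iff_rightOrthogonal I).1 hI

variable [HasDerivedCategory.{w} C]

theorem exists_kInjective_rep (X : DerivedCategory C) :
    ∃ (I : CochainComplex C ℤ) (_ : I.IsKInjective) (_ : ∀ n, Injective (I.X n)),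
      Nonempty (DerivedCategory.Q.obj I ≅ X) := by
  obtain ⟨I, f, hI, hf, _, hinj⟩ :=
    KInjGen5.exists_resolution (DerivedCategory.Q.objPreimage X)
  haveI := hf
  exact ⟨I, hI, hinj, ⟨(asIso (DerivedCategory.Q.map f)).symm ≪≫
    DerivedCategory.Q.objObjPreimageIso X⟩⟩

theorem gp_derived (U : C) (hU : IsSeparator U)
    [HasDerivedCategory.{w'} (ModuleCat.{v} (End U)ᵐᵒᵖ)]
    [(IsGrothendieckAbelian.tensorObj U).Additive]
    [PreservesFiniteLimits (IsGrothendieckAbelian.tensorObj U)]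
    [PreservesFiniteColimits (IsGrothendieckAbelian.tensorObj U)]
    [((preadditiveCoyonedaObj U).mapHomotopyCategory (ComplexShape.up ℤ) ⋙
      DerivedCategory.Qh).HasRightDerivedFunctor
      (HomotopyCategory.quasiIso C (ComplexShape.up ℤ))] :
    let RG := ((preadditiveCoyonedaObj U).mapHomotopyCategory (ComplexShape.up ℤ) ⋙
      DerivedCategory.Qh).totalRightDerived
      DerivedCategory.Qh (HomotopyCategory.quasiIso C (ComplexShape.up ℤ))
    let LF := (IsGrothendieckAbelian.tensorObj U).mapDerivedCategory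
    Nonempty (LF ⊣ RG) ∧ RG.Full ∧ RG.Faithful ∧
      Nonempty (RG ⋙ LF ≅ 𝟭 (DerivedCategory C)) := by
  intro RG LF
  let adj := IsGrothendieckAbelian.tensorObjPreadditiveCoyonedaObjAdjunction U
  haveI : (preadditiveCoyonedaObj U).Full := GabrielPopescu.full U hU
  haveI : (preadditiveCoyonedaObj U).Faithful :=
    (isSeparator_iff_faithful_preadditiveCoyonedaObj U).1 hU
  let adjH := DerAdjPlus.adjH adj (ComplexShape.up ℤ)
  have hcounit : ∀ Y, IsIso (adjH.counit.app Y) := by
    intro Y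
    obtain ⟨K, rfl⟩ := HomotopyCategory.quotient_obj_surjective Y
    have h0 : adjH.counit.app ((HomotopyCategory.quotient _ _).obj K) =
        (HomotopyCategory.quotient _ _).map
          ((DerAdjPlus.counitHC adj (ComplexShape.up ℤ)).app K) := rfl
    rw [h0]
    have h1 : IsIso ((DerAdjPlus.counitHC adj (ComplexShape.up ℤ)).app K) := by
      haveI : ∀ i, IsIso (((DerAdjPlus.counitHC adj (ComplexShape.up ℤ)).app K).f i) :=
        fun i => by
          show IsIso (adj.counit.app (K.X i))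
          infer_instance
      exact HomologicalComplex.Hom.isIso_of_components _
    exact ((HomotopyCategory.quotient _ _).mapIso (@asIso _ _ _ _ _ h1)).isIso_hom
  obtain ⟨a, ha⟩ := exists_derived_adj (HomotopyCategory.subcategoryAcyclic C) adjH
    (HomotopyCategory.quasiIso (ModuleCat.{v} (End U)ᵐᵒᵖ) (ComplexShape.up ℤ))
    (HomotopyCategory.quasiIso C (ComplexShape.up ℤ))
    (IsGrothendieckAbelian.tensorObj U).mapDerivedCategoryFactorsh
    (((preadditiveCoyonedaObj U).mapHomotopyCategory (ComplexShape.up ℤ) ⋙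
      DerivedCategory.Qh).totalRightDerivedUnit
      DerivedCategory.Qh (HomotopyCategory.quasiIso C (ComplexShape.up ℤ)))
    (HomotopyCategory.quasiIso_eq_trW_subcategoryAcyclic C) hP
  haveI : IsIso a.counit := by
    apply (config := { allowSynthFailures := true }) NatIso.isIso_of_isIso_app
    intro X
    obtain ⟨I, hI, _, ⟨e⟩⟩ := exists_kInjective_rep X
    let e' : DerivedCategory.Qh.obj ((HomotopyCategory.quotient C (ComplexShape.up ℤ)).obj I) ≅ X :=
      (DerivedCategory.quotientCompQhIso C).app I ≪≫ e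
    rw [← NatTrans.isIso_app_iff_of_iso a.counit e']
    exact ha _ ((CochainComplex.isKInjective_iff_rightOrthogonal I).1 hI)
      (by haveI := hcounit ((HomotopyCategory.quotient C (ComplexShape.up ℤ)).obj I)
          infer_instance)
  exact ⟨⟨a⟩, a.fullyFaithfulROfIsIsoCounit.full, a.fullyFaithfulROfIsIsoCounit.faithful,
    ⟨asIso a.counit⟩⟩

end GP

end Groth.Agent.Lib.KInjGen8
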