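import Mathlib
import Groth.Agent.Lib.KInjGen8_helper7
import Groth.Agent.Lib.DerProd_helper9

/-!
# Degreewise coproducts of complexes give coproducts in the derived category (helper7)
-/

set_option autoImplicit false
universe w w' v u
open CategoryTheory Limits

namespace Groth.Agent.Lib.CoprodD

variable {A : Type u} [Category.{v} A] [Abelian A] {J : Type w'}

section Model

variable {K : J → CochainComplex A ℤ} {S : CochainComplex A ℤ} (ι : ∀ j, K j ⟶ S)
  (hc : ∀ p : ℤ, IsColimit (Cofan.mk (S.X p) (fun j => (ι j).f p)))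

/-- degreewise universal property -/
noncomputable def descX (p : ℤ) {Z : A} (g : ∀ j, (K j).X p ⟶ Z) : S.X p ⟶ Z :=
  Cofan.IsColimit.desc (hc p) g

lemma ι_descX (p : ℤ) {Z : A} (g : ∀ j, (K j).X p ⟶ Z) (j : J) :
    (ι j).f p ≫ descX ι hc p g = g j :=
  Cofan.IsColimit.fac (hc p) g j

include hc in
lemma homX_ext {p : ℤ} {Z : A} {a b : S.X p ⟶ Z}
    (h : ∀ j, (ι j).f p ≫ a = (ι j).f p ≫ b) : a = b :=
  Cofan.IsColimit.hom_ext (hc p) _ _ h

/-- chain map out of the degreewise coproduct -/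
noncomputable def desc {L : CochainComplex A ℤ} (g : ∀ j, K j ⟶ L) : S ⟶ L where
  f p := descX ι hc p (fun j => (g j).f p)
  comm' p q _ := by
    apply homX_ext ι hc
    intro j
    rw [← Category.assoc, ι_descX, ← Category.assoc, (ι j).comm, Category.assoc, ι_descX]
    exact (g j).comm p q

lemma ι_desc {L : CochainComplex A ℤ} (g : ∀ j, K j ⟶ L) (j : J) :
    ι j ≫ desc ι hc g = g j := by
  ext p
  exact ι_descX ι hc p _ j

include hc in
lemma hom_ext {L : CochainComplex A ℤ} {a b : S ⟶ L} (h : ∀ j, ι j ≫ a = ι j ≫ b) : a = b := by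
  ext p
  apply homX_ext ι hc
  intro j
  exact congrArg (fun φ => φ.f p) (h j)

/-- a morphism out of the degreewise coproduct all of whose components are null-homotopic is
null-homotopic -/
noncomputable def homotopyZero {L : CochainComplex A ℤ} (φ : S ⟶ L)
    (h : ∀ j, Homotopy (ι j ≫ φ) 0) : Homotopy φ 0 where
  hom p q := descX ι hc p (fun j => (h j).hom p q)
  zero p q hpq := by
    apply homX_ext ι hc
    intro j
    rw [ι_descX, (h j).zero p q hpq, comp_zero]
  comm p := by
    apply homX_ext ι hc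
    intro j
    have hj := (h j).comm p
    rw [dNext_eq _ (show (ComplexShape.up ℤ).Rel p (p + 1) from rfl),
      prevD_eq _ (show (ComplexShape.up ℤ).Rel (p - 1) p by simp)] at hj ⊢
    rw [HomologicalComplex.comp_f, HomologicalComplex.zero_f, add_zero] at hj
    rw [HomologicalComplex.zero_f, add_zero, Preadditive.comp_add, ← Category.assoc,
      ← Category.assoc ((ι j).f p), (ι j).comm, Category.assoc, ι_descX, ι_descX]
    exact hj

end Model

section Derived

variable [IsGrothendieckAbelian.{v} A] [HasDerivedCategory.{w} A]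
variable {K : J → CochainComplex A ℤ} {S : CochainComplex A ℤ} (ι : ∀ j, K j ⟶ S)
  (hc : ∀ p : ℤ, IsColimit (Cofan.mk (S.X p) (fun j => (ι j).f p)))

include hc in
lemma exists_desc (Y : DerivedCategory A) (f : ∀ j, DerivedCategory.Q.obj (K j) ⟶ Y) :
    ∃ φ : DerivedCategory.Q.obj S ⟶ Y, ∀ j, DerivedCategory.Q.map (ι j) ≫ φ = f j := by
  obtain ⟨I, hI, -, ⟨e⟩⟩ := KInjGen8.exists_kInjective_rep Y
  haveI := hI
  choose γ hγ using fun j => DerProd.exists_lift_of_isKInjective (K j) I (f j ≫ e.inv)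
  refine ⟨DerivedCategory.Q.map (desc ι hc γ) ≫ e.hom, fun j => ?_⟩
  rw [← Category.assoc, ← Functor.map_comp, ι_desc, hγ, Category.assoc, e.inv_hom_id,
    Category.comp_id]

include hc in
lemma eq_zero_of_comp (Y : DerivedCategory A) (φ : DerivedCategory.Q.obj S ⟶ Y)
    (hφ : ∀ j, DerivedCategory.Q.map (ι j) ≫ φ = 0) : φ = 0 := by
  obtain ⟨I, hI, -, ⟨e⟩⟩ := KInjGen8.exists_kInjective_rep Y
  haveI := hI
  obtain ⟨γ, hγ⟩ := DerProd.exists_lift_of_isKInjective S I (φ ≫ e.inv)
  have h0 : ∀ j, DerivedCategory.Q.map (ι j ≫ γ) = 0 := fun j => by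
    rw [Functor.map_comp, hγ, ← Category.assoc, hφ j, zero_comp]
  have hH : Homotopy γ 0 :=
    homotopyZero ι hc γ (fun j => (DerProd.homotopy_of_isKInjective _ I _ (h0 j)).some)
  have h1 : DerivedCategory.Q.map γ = 0 := by
    rw [DerivedCategory.Q_map_eq_of_homotopy A hH, Functor.map_zero]
  rw [← cancel_mono e.inv, ← hγ, h1, zero_comp]

/-- the degreewise coproduct gives a coproduct in the derived category -/
noncomputable def isColimitCofan :
    IsColimit (Cofan.mk (DerivedCategory.Q.obj S) (fun j => DerivedCategory.Q.map (ι j))) :=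
  Cofan.IsColimit.mk _ (fun t => (exists_desc ι hc t.pt t.inj).choose)
    (fun t j => (exists_desc ι hc t.pt t.inj).choose_spec j)
    (fun t m hm => by
      rw [← sub_eq_zero]
      apply eq_zero_of_comp ι hc
      intro j
      rw [Preadditive.comp_sub, sub_eq_zero]
      exact (hm j).trans ((exists_desc ι hc t.pt t.inj).choose_spec j).symm)

end Derived

/-- a natural transformation which is an isomorphism on the summands is an isomorphism on the
coproduct, when both functors preserve the coproduct. -/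
lemma isIso_app_of_cofan {C D : Type*} [Category C] [Category D] {G₁ G₂ : C ⥤ D} (α : G₁ ⟶ G₂)
    {X : J → C} {Y : C} (ι : ∀ j, X j ⟶ Y)
    (h₁ : IsColimit (Cofan.mk (G₁.obj Y) (fun j => G₁.map (ι j))))
    (h₂ : IsColimit (Cofan.mk (G₂.obj Y) (fun j => G₂.map (ι j))))
    (hα : ∀ j, IsIso (α.app (X j))) : IsIso (α.app Y) := by
  refine ⟨Cofan.IsColimit.desc h₂ (fun j => inv (α.app (X j)) ≫ G₁.map (ι j)), ?_, ?_⟩
  · apply Cofan.IsColimit.hom_ext h₁
    intro j
    have e1 : G₁.map (ι j) ≫ α.app Y = α.app (X j) ≫ G₂.map (ι j) := α.naturality (ι j)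
    have e2 := Cofan.IsColimit.fac h₂ (fun j => inv (α.app (X j)) ≫ G₁.map (ι j)) j
    show G₁.map (ι j) ≫ α.app Y ≫ _ = G₁.map (ι j) ≫ 𝟙 _
    rw [← Category.assoc, e1, Category.assoc]
    erw [e2]
    rw [IsIso.hom_inv_id_assoc, Category.comp_id]
  · apply Cofan.IsColimit.hom_ext h₂
    intro j
    have e1 : G₁.map (ι j) ≫ α.app Y = α.app (X j) ≫ G₂.map (ι j) := α.naturality (ι j)
    have e2 := Cofan.IsColimit.fac h₂ (fun j => inv (α.app (X j)) ≫ G₁.map (ι j)) j
    show G₂.map (ι j) ≫ _ ≫ α.app Y = G₂.map (ι j) ≫ 𝟙 _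
    rw [← Category.assoc]
    erw [e2]
    rw [Category.assoc, e1, IsIso.inv_hom_id_assoc, Category.comp_id]

end Groth.Agent.Lib.CoprodD
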