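import Mathlib

/-!
# A functor preserving finite coproducts and filtered colimits preserves coproducts (helper7)
-/

set_option autoImplicit false
universe w v u v' u'
open CategoryTheory Limits

namespace Groth.Agent.Lib.CoprodPres

open CoproductsFromFiniteFiltered

section General

variable {C : Type u} [Category.{v} C] {D : Type u'} [Category.{v'} D] (F : C ⥤ D)
  {α : Type w} [HasFiniteCoproducts C] [HasColimitsOfShape (Finset (Discrete α)) C]
  [PreservesFiniteCoproducts F] [PreservesColimitsOfShape (Finset (Discrete α)) F]
  (f : α → C) [HasCoproduct f]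

/-- the finite subcoproduct diagram -/
noncomputable abbrev Kf : Finset (Discrete α) ⥤ C := liftToFinsetObj (Discrete.functor f)

/-- the summands of the finite subcoproducts -/
abbrev g (S : Finset (Discrete α)) : S → C := fun x => (Discrete.functor f).obj x

/-- the inclusion of a summand in a finite subcoproduct -/
noncomputable def ιS (S : Finset (Discrete α)) (x : S) : f x.1.as ⟶ (Kf f).obj S :=
  Sigma.ι (g f S) x

omit [HasColimitsOfShape (Finset (Discrete α)) C] in
set_option backward.isDefEq.respectTransparency false in
lemma ιS_cocone (S : Finset (Discrete α)) (x : S) :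
    ιS f S x ≫ (finiteSubcoproductsCocone f).ι.app S = Sigma.ι f x.1.as :=
  Sigma.ι_desc (f := g f S) (fun s : S => Sigma.ι f s.1.as) x

omit [HasColimitsOfShape (Finset (Discrete α)) C] [HasCoproduct f] in
set_option backward.isDefEq.respectTransparency false in
lemma ιS_map {S S' : Finset (Discrete α)} (h : S ⟶ S') (x : S) :
    ιS f S x ≫ (Kf f).map h = ιS f S' ⟨x.1, h.down.down x.2⟩ :=
  Sigma.ι_desc (f := g f S) (fun y : S => Sigma.ι (g f S') ⟨y.1, h.down.down y.2⟩) x

omit [HasColimitsOfShape (Finset (Discrete α)) C] [HasCoproduct f]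
  [PreservesColimitsOfShape (Finset (Discrete α)) F] in
set_option backward.isDefEq.respectTransparency false in
/-- `F` preserves the finite subcoproducts -/
noncomputable def hfin (S : Finset (Discrete α)) :
    IsColimit (Cofan.mk (F.obj ((Kf f).obj S)) (fun x : S => F.map (ιS f S x))) :=
  isColimitCofanMkObjOfIsColimit F _ _ (coproductIsCoproduct (g f S))

set_option backward.isDefEq.respectTransparency false in
/-- `F` preserves the coproduct of `f` -/
noncomputable def isColimitMapCofan :
    IsColimit (Cofan.mk (F.obj (∐ f)) (fun a => F.map (Sigma.ι f a))) := by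
  have hFc : IsColimit (F.mapCocone (finiteSubcoproductsCocone f)) :=
    isColimitOfPreserves F (isColimitFiniteSubproductsCocone f)
  let cc : ∀ _ : Cofan (fun a => F.obj (f a)), Cocone (Kf f ⋙ F) := fun t =>
    { pt := t.pt
      ι :=
        { app := fun S => Cofan.IsColimit.desc (hfin F f S) (fun x => t.inj x.1.as)
          naturality := fun S S' h => by
            apply Cofan.IsColimit.hom_ext (hfin F f S)
            intro x
            have e1 : F.map (ιS f S x) ≫
                Cofan.IsColimit.desc (hfin F f S) (fun x => t.inj x.1.as) = t.inj x.1.as :=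
              Cofan.IsColimit.fac (hfin F f S) (fun x => t.inj x.1.as) x
            have e2 : F.map (ιS f S' ⟨x.1, h.down.down x.2⟩) ≫
                Cofan.IsColimit.desc (hfin F f S') (fun x => t.inj x.1.as) = t.inj x.1.as :=
              Cofan.IsColimit.fac (hfin F f S') (fun x => t.inj x.1.as)
                ⟨x.1, h.down.down x.2⟩
            show F.map (ιS f S x) ≫ F.map ((Kf f).map h) ≫
                Cofan.IsColimit.desc (hfin F f S') (fun x => t.inj x.1.as) =
              F.map (ιS f S x) ≫
                Cofan.IsColimit.desc (hfin F f S) (fun x => t.inj x.1.as) ≫ 𝟙 _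
            rw [Category.comp_id, ← Category.assoc, ← F.map_comp, ιS_map, e1, e2] } }
  refine Cofan.IsColimit.mk _ (fun t => hFc.desc (cc t)) (fun t a => ?_) (fun t m hm => ?_)
  · have key : ∀ (S : Finset (Discrete α)) (x : S),
        F.map (Sigma.ι f x.1.as) ≫ hFc.desc (cc t) = t.inj x.1.as := by
      intro S x
      have e1 := ιS_cocone f S x
      have e2 : F.map ((finiteSubcoproductsCocone f).ι.app S) ≫ hFc.desc (cc t) =
          Cofan.IsColimit.desc (hfin F f S) (fun x => t.inj x.1.as) :=
        hFc.fac (cc t) S
      have e3 : F.map (ιS f S x) ≫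
          Cofan.IsColimit.desc (hfin F f S) (fun x => t.inj x.1.as) = t.inj x.1.as :=
        Cofan.IsColimit.fac (hfin F f S) (fun x => t.inj x.1.as) x
      rw [← e1, F.map_comp, Category.assoc, e2, e3]
    exact key {Discrete.mk a} ⟨Discrete.mk a, Finset.mem_singleton_self _⟩
  · apply hFc.uniq (cc t) m
    intro S
    apply Cofan.IsColimit.hom_ext (hfin F f S)
    intro x
    have e1 := ιS_cocone f S x
    have e3 : F.map (ιS f S x) ≫
        Cofan.IsColimit.desc (hfin F f S) (fun x => t.inj x.1.as) = t.inj x.1.as :=
      Cofan.IsColimit.fac (hfin F f S) (fun x => t.inj x.1.as) x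
    have e4 : F.map (Sigma.ι f x.1.as) ≫ m = t.inj x.1.as := hm x.1.as
    show F.map (ιS f S x) ≫ F.map ((finiteSubcoproductsCocone f).ι.app S) ≫ m =
      F.map (ιS f S x) ≫ Cofan.IsColimit.desc (hfin F f S) (fun x => t.inj x.1.as)
    rw [← Category.assoc, ← F.map_comp, e1, e3, e4]

end General

section Nat

variable {C : Type u} [Category.{v} C] {D : Type u'} [Category.{v'} D] (F : C ⥤ D)
  [HasFiniteCoproducts C] [HasColimitsOfShape (Finset (Discrete ℕ)) C]
  [HasColimitsOfShape (Discrete ℕ) C]
  [PreservesFiniteCoproducts F] [PreservesColimitsOfShape (Finset (Discrete ℕ)) F]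

/-- `F` preserves countable coproducts -/
theorem preservesNatCoproducts : PreservesColimitsOfShape (Discrete ℕ) F := by
  constructor
  intro K
  have e : K ≅ Discrete.functor (K.obj ∘ Discrete.mk) := Discrete.natIsoFunctor
  haveI : PreservesColimit (Discrete.functor (K.obj ∘ Discrete.mk)) F :=
    preservesColimit_of_preserves_colimit_cocone (coproductIsCoproduct (K.obj ∘ Discrete.mk))
      ((isColimitMapCoconeCofanMkEquiv F (K.obj ∘ Discrete.mk)
        (Sigma.ι (K.obj ∘ Discrete.mk))).symm (isColimitMapCofan F (K.obj ∘ Discrete.mk)))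
  exact preservesColimit_of_iso_diagram F e.symm

end Nat

section Ab

variable {A : Type u} [Category.{v} A] [Abelian A] [IsGrothendieckAbelian.{v} A]
  (F : A ⥤ AddCommGrpCat.{v}) [F.Additive] [PreservesFiniteLimits F]
  (hcolim : ∀ (J : Type v) [SmallCategory J] [IsFiltered J],
    PreservesColimitsOfShape J (F.rightDerived 0))

include hcolim in
lemma preservesFilteredSmall (J : Type v) [SmallCategory J] [IsFiltered J] :
    PreservesColimitsOfShape J F := by
  haveI := hcolim J
  exact preservesColimitsOfShape_of_natIso F.rightDerivedZeroIsoSelf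

include hcolim in
lemma preservesFinsetShape : PreservesColimitsOfShape (Finset (Discrete ℕ)) F := by
  haveI : IsFiltered (AsSmall.{v} (Finset (Discrete ℕ))) :=
    IsFiltered.of_equivalence AsSmall.equiv
  haveI : PreservesColimitsOfShape (AsSmall.{v} (Finset (Discrete ℕ))) F :=
    preservesFilteredSmall F hcolim _
  exact preservesColimitsOfShape_of_equiv (AsSmall.equiv (C := Finset (Discrete ℕ))).symm F

include hcolim in
/-- an additive left exact functor to abelian groups whose zeroth derived functor commutes with
filtered colimits preserves countable coproducts -/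
theorem preservesNatCoproducts_ab : PreservesColimitsOfShape (Discrete ℕ) F := by
  haveI := preservesFinsetShape F hcolim
  exact preservesNatCoproducts F

end Ab

end Groth.Agent.Lib.CoprodPres
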