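import Mathlib
import Groth.Agent.Lib.KInjGen8_helper7
import Groth.Agent.Lib.SheafOfModulesGrothendieck_helper2

/-!
# Total right derived functors on Grothendieck abelian categories (helper7)

* `isIso_unit`: the unit of the total right derived functor is an isomorphism on K-injectives.
* `isGE`: `RF` preserves `IsGE n` (for any additive `F`).
-/

set_option autoImplicit false
universe w w' v v' u u'
open CategoryTheory Limits

namespace Groth.Agent.Lib.RDerGE

variable {A : Type u} [Category.{v} A] [Abelian A] [IsGrothendieckAbelian.{v} A]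
  [HasDerivedCategory.{w} A]
  {B : Type u'} [Category.{v'} B] [Abelian B] [HasDerivedCategory.{w'} B] (F : A ⥤ B) [F.Additive]
  [(F.mapHomotopyCategory (ComplexShape.up ℤ) ⋙ DerivedCategory.Qh).HasRightDerivedFunctor
    (HomotopyCategory.quasiIso A (ComplexShape.up ℤ))]

/-- the total right derived functor -/
noncomputable abbrev RF : DerivedCategory A ⥤ DerivedCategory B :=
  (F.mapHomotopyCategory (ComplexShape.up ℤ) ⋙ DerivedCategory.Qh).totalRightDerived
    DerivedCategory.Qh (HomotopyCategory.quasiIso A (ComplexShape.up ℤ))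

lemma isIso_unit (I : CochainComplex A ℤ) [I.IsKInjective] :
    IsIso (((F.mapHomotopyCategory (ComplexShape.up ℤ) ⋙
      DerivedCategory.Qh).totalRightDerivedUnit
      DerivedCategory.Qh (HomotopyCategory.quasiIso A (ComplexShape.up ℤ))).app
        ((HomotopyCategory.quotient A (ComplexShape.up ℤ)).obj I)) :=
  (OrthDeriv.main (P := HomotopyCategory.subcategoryAcyclic A)
    (HomotopyCategory.quasiIso A (ComplexShape.up ℤ))
    (HomotopyCategory.quasiIso_eq_trW_subcategoryAcyclic A) KInjGen8.hP DerivedCategory.Qh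
    (F.mapHomotopyCategory (ComplexShape.up ℤ) ⋙ DerivedCategory.Qh)).2 _
    (CochainComplex.IsKInjective.rightOrthogonal I)

/-- `RF (Q I) ≅ Q (F I)` for `I` K-injective. -/
noncomputable def unitIso (I : CochainComplex A ℤ) [I.IsKInjective] :
    DerivedCategory.Q.obj ((F.mapHomologicalComplex (ComplexShape.up ℤ)).obj I) ≅
      (RF F).obj (DerivedCategory.Q.obj I) :=
  @asIso _ _ _ _ (((F.mapHomotopyCategory (ComplexShape.up ℤ) ⋙
      DerivedCategory.Qh).totalRightDerivedUnit
      DerivedCategory.Qh (HomotopyCategory.quasiIso A (ComplexShape.up ℤ))).app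
        ((HomotopyCategory.quotient A (ComplexShape.up ℤ)).obj I)) (isIso_unit F I)

theorem isGE (Z : DerivedCategory A) (n : ℤ) [Z.IsGE n] : ((RF F).obj Z).IsGE n := by
  obtain ⟨L, hL, ⟨e⟩⟩ := DerivedCategory.exists_iso_Q_obj_of_isGE Z n
  obtain ⟨I, i, hi, hinj, hI⟩ :=
    CochainComplex.Plus.modelCategoryQuillen.exists_quasiIso_injective L n
  haveI : I.IsKInjective := CochainComplex.isKInjective_of_injective I n
  let e1 : Z ≅ DerivedCategory.Q.obj I := e ≪≫ asIso (DerivedCategory.Q.map i)
  haveI : (DerivedCategory.Q.obj ((F.mapHomologicalComplex (ComplexShape.up ℤ)).obj I)).IsGE n :=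
    (DerivedCategory.isGE_Q_obj_iff _ n).2 inferInstance
  exact DerivedCategory.TStructure.t.isGE_of_iso
    (unitIso F I ≪≫ (RF F).mapIso e1.symm) n

end Groth.Agent.Lib.RDerGE
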