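import Mathlib
import Groth.Agent.Lib.FAcyc_helper9

/-!
# The right derived functor on the unbounded derived category of a left exact functor of finite
cohomological dimension (helper9)

The complexes with `F`-acyclic terms form a triangulated subcategory of the homotopy category,
which is right localizing (in the sense of Verdier) with respect to the acyclic complexes, and
gives a right derivability structure.
-/

namespace Groth.Agent.Lib.UnbRDer

open CategoryTheory CategoryTheory.Limits Pretriangulated ZeroObject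

universe w w' v u v' u'

variable {A : Type u} [Category.{v} A] [Abelian A] [HasInjectiveResolutions A]
  {B : Type u'} [Category.{v'} B] [Abelian B]
  (F : A ⥤ B) [F.Additive]

open FAcyc

lemma acyc_of_isZero {X : A} (h : IsZero X) : acyc F X :=
  fun i _ => (F.rightDerived i).map_isZero h

lemma acyc_of_iso {X Y : A} (e : X ≅ Y) (h : acyc F X) : acyc F Y :=
  fun i hi => IsZero.of_iso (h i hi) ((F.rightDerived i).mapIso e.symm)

lemma acyc_biprod {X Y : A} (hX : acyc F X) (hY : acyc F Y) : acyc F (X ⊞ Y) :=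
  FinDimRes.P_biprod (acyc F) (h2 F) hX hY

/-- complexes with `F`-acyclic terms -/
def acycCx : ObjectProperty (CochainComplex A ℤ) := fun K => ∀ m, acyc F (K.X m)

lemma acycCx_mappingCone {K L : CochainComplex A ℤ} (f : K ⟶ L) (hK : acycCx F K)
    (hL : acycCx F L) : acycCx F (CochainComplex.mappingCone f) := fun m =>
  acyc_of_iso F (HomologicalComplex.homotopyCofiber.XIsoBiprod f m (m + 1) rfl).symm
    (acyc_biprod F (hK (m + 1)) (hL m))

lemma acycCx_shift {K : CochainComplex A ℤ} (hK : acycCx F K) (n : ℤ) : acycCx F (K⟦n⟧) :=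
  fun m => hK (m + n)

/-- the corresponding property of objects of the homotopy category (not closed under
isomorphisms) -/
def hAcyc : ObjectProperty (HomotopyCategory A (ComplexShape.up ℤ)) :=
  (acycCx F).strictMap (HomotopyCategory.quotient _ _)

lemma hAcyc_quotient_obj_iff (K : CochainComplex A ℤ) :
    hAcyc F ((HomotopyCategory.quotient _ _).obj K) ↔ acycCx F K := by
  refine ⟨?_, fun h ↦ ⟨_, h⟩⟩
  simp only [hAcyc, ObjectProperty.strictMap_iff]
  rintro ⟨L, h, hL⟩
  obtain rfl : L = K := congr_arg Quotient.as hL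
  exact h

instance : (hAcyc F).ContainsZero where
  exists_zero :=
    ⟨(HomotopyCategory.quotient _ _).obj 0, Functor.map_isZero _ (isZero_zero _), by
      rw [hAcyc_quotient_obj_iff]
      intro m
      exact acyc_of_isZero F
        ((HomologicalComplex.eval A (ComplexShape.up ℤ) m).map_isZero (isZero_zero _))⟩

instance : (hAcyc F).IsStableUnderShift ℤ where
  isStableUnderShiftBy n :=
    { le_shift K hK := by
        obtain ⟨K : CochainComplex _ _, rfl⟩ := K.quotient_obj_surjective
        rw [hAcyc_quotient_obj_iff] at hK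
        rw [ObjectProperty.prop_shift_iff, HomotopyCategory.shift_quotient_obj,
          hAcyc_quotient_obj_iff]
        exact acycCx_shift F hK n }

instance : (hAcyc F).IsTriangulatedClosed₃ where
  ext₃' T hT h₁ h₂ := by
    have h₁' : acycCx F T.obj₁.as := by rwa [← hAcyc_quotient_obj_iff]
    have h₂' : acycCx F T.obj₂.as := by rwa [← hAcyc_quotient_obj_iff]
    obtain ⟨f : T.obj₁.as ⟶ T.obj₂.as, hf⟩ :=
      (HomotopyCategory.quotient _ _).map_surjective T.mor₁
    refine ⟨_, ?_,
      ⟨Triangle.π₃.mapIso (isoTriangleOfIso₁₂ T _ hT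
        (HomotopyCategory.mappingCone_triangleh_distinguished f)
        (Iso.refl _) (Iso.refl _) ?_)⟩⟩
    · change hAcyc F ((HomotopyCategory.quotient _ _).obj (CochainComplex.mappingCone f))
      rw [hAcyc_quotient_obj_iff]
      exact acycCx_mappingCone F f h₁' h₂'
    · exact (Category.comp_id T.mor₁).trans (hf.symm.trans (Category.id_comp _).symm)

instance : (hAcyc F).IsTriangulated where
  toIsTriangulatedClosed₂ := .of_isTriangulatedClosed₃

/-! ### Resolutions and the localizing property -/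

section

variable (n : ℕ) (hn : ∀ X : A, IsZero ((F.rightDerived n).obj X))

include hn

lemma exists_res (Y : HomotopyCategory A (ComplexShape.up ℤ)) :
    ∃ (Z : HomotopyCategory A (ComplexShape.up ℤ)) (b : Y ⟶ Z), hAcyc F Z ∧
      (HomotopyCategory.subcategoryAcyclic A).trW b := by
  obtain ⟨K, rfl⟩ := Y.quotient_obj_surjective
  obtain ⟨T, f, hf, hT⟩ := exists_resolution F n hn K
  refine ⟨(HomotopyCategory.quotient _ _).obj T, (HomotopyCategory.quotient _ _).map f,
    (hAcyc_quotient_obj_iff F T).2 hT, ?_⟩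
  rw [← HomotopyCategory.quasiIso_eq_trW_subcategoryAcyclic,
    HomotopyCategory.quotient_map_mem_quasiIso_iff]
  exact hf

lemma isVerdierRightLocalizing :
    (hAcyc F).IsVerdierRightLocalizing (HomotopyCategory.subcategoryAcyclic A) := by
  rw [ObjectProperty.isVerdierRightLocalizing_iff]
  intro X Y s hX hs
  obtain ⟨Z, b, hZ, hb⟩ := exists_res F n hn Y
  refine ⟨Z, s ≫ b, b, hZ, ?_, rfl⟩
  have hsb : (HomotopyCategory.subcategoryAcyclic A).trW (s ≫ b) :=
    MorphismProperty.comp_mem _ _ _ hs hb
  obtain ⟨K, rfl⟩ := X.quotient_obj_surjective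
  obtain ⟨L, rfl⟩ := Z.quotient_obj_surjective
  rw [hAcyc_quotient_obj_iff] at hX hZ
  obtain ⟨g, hg⟩ := (HomotopyCategory.quotient _ _).map_surjective (s ≫ b)
  rw [← hg] at hsb ⊢
  rw [ObjectProperty.trW_iff]
  refine ⟨_, _, _, HomotopyCategory.mappingCone_triangleh_distinguished g, ⟨?_, ?_⟩⟩
  · exact (hAcyc_quotient_obj_iff F _).2 (acycCx_mappingCone F g hX hZ)
  · exact ((HomotopyCategory.subcategoryAcyclic A).trW_iff_of_distinguished _
      (HomotopyCategory.mappingCone_triangleh_distinguished g)).1 hsb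

end

/-! ### The right derivability structure -/

/-- the localizer morphism given by the inclusion of complexes with `F`-acyclic terms -/
noncomputable abbrev Φ :=
  (hAcyc F).triangulatedLocalizerMorphism (HomotopyCategory.subcategoryAcyclic A)

section

variable (n : ℕ) (hn : ∀ X : A, IsZero ((F.rightDerived n).obj X))

include hn

lemma hasRightResolutions : (Φ F).HasRightResolutions := fun Y => by
  obtain ⟨Z, b, hZ, hb⟩ := exists_res F n hn Y
  exact ⟨{ X₁ := ⟨Z, hZ⟩, w := b, hw := hb }⟩

lemma isConnected_rightResolution (Y : HomotopyCategory A (ComplexShape.up ℤ)) :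
    IsConnected ((Φ F).RightResolution Y) := by
  haveI : Nonempty ((Φ F).RightResolution Y) := hasRightResolutions F n hn Y
  apply zigzag_isConnected
  intro R R'
  obtain ⟨ψ, hψ⟩ := (MorphismProperty.RightFraction.mk R.w R.hw R'.w).exists_leftFraction
  dsimp at hψ
  obtain ⟨Z, b, hZ, hb⟩ := exists_res F n hn ψ.Y'
  let R'' : (Φ F).RightResolution Y :=
    { X₁ := ⟨Z, hZ⟩
      w := R'.w ≫ ψ.s ≫ b
      hw := MorphismProperty.comp_mem _ _ _ R'.hw (MorphismProperty.comp_mem _ _ _ ψ.hs hb) }
  have z1 : Zigzag R R'' := Zigzag.of_hom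
    { f := ObjectProperty.homMk (ψ.f ≫ b)
      comm := by
        change R.w ≫ ψ.f ≫ b = R'.w ≫ ψ.s ≫ b
        rw [← Category.assoc, ← hψ, Category.assoc] }
  have z2 : Zigzag R'' R' := Zigzag.of_inv
    { f := ObjectProperty.homMk (ψ.s ≫ b)
      comm := rfl }
  exact z1.trans z2

lemma hasRightResolutions_arrow : (Φ F).arrow.HasRightResolutions := by
  intro f
  obtain ⟨Y₂, w₂, hY₂, hw₂⟩ := exists_res F n hn f.right
  obtain ⟨Y₁, w₁, hY₁, hw₁⟩ := exists_res F n hn f.left
  obtain ⟨ψ, hψ⟩ := (MorphismProperty.RightFraction.mk w₁ hw₁ (f.hom ≫ w₂)).exists_leftFraction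
  dsimp at hψ
  obtain ⟨Z, b, hZ, hb⟩ := exists_res F n hn ψ.Y'
  exact ⟨{ X₁ := Arrow.mk (ObjectProperty.homMk (ψ.f ≫ b) :
              (⟨Y₁, hY₁⟩ : (hAcyc F).FullSubcategory) ⟶ ⟨Z, hZ⟩)
           w := Arrow.homMk w₁ (w₂ ≫ ψ.s ≫ b) (by
              change w₁ ≫ ψ.f ≫ b = f.hom ≫ w₂ ≫ ψ.s ≫ b
              rw [← Category.assoc w₁, ← hψ]
              simp only [Category.assoc])
           hw := ⟨hw₁, MorphismProperty.comp_mem _ _ _ hw₂
              (MorphismProperty.comp_mem _ _ _ ψ.hs hb)⟩ }⟩

lemma isLocalizedEquivalence : (Φ F).IsLocalizedEquivalence := by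
  haveI := isVerdierRightLocalizing F n hn
  haveI := hasRightResolutions F n hn
  let L₁ := ((HomotopyCategory.subcategoryAcyclic A).inverseImage (hAcyc F).ι).trW.Q
  let L₂ := (HomotopyCategory.subcategoryAcyclic A).trW.Q
  let G := (Φ F).localizedFunctor L₁ L₂
  haveI : G.EssSurj := ⟨fun Y => by
    haveI := (Φ F).essSurj_of_hasRightResolutions L₂
    exact ⟨L₁.obj (((Φ F).functor ⋙ L₂).objPreimage Y),
      ⟨((CatCommSq.iso (Φ F).functor L₁ L₂ G).app _).symm ≪≫
        ((Φ F).functor ⋙ L₂).objObjPreimageIso Y⟩⟩⟩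
  haveI : G.IsEquivalence := { }
  exact ⟨inferInstanceAs G.IsEquivalence⟩

lemma isRightDerivabilityStructure : (Φ F).IsRightDerivabilityStructure := by
  haveI := isConnected_rightResolution F n hn
  haveI := hasRightResolutions_arrow F n hn
  haveI := isLocalizedEquivalence F n hn
  exact LocalizerMorphism.IsRightDerivabilityStructure.mk' (Φ F)

end

/-! ### Deriving `F` -/

section

variable [PreservesFiniteLimits F] [HasDerivedCategory.{w'} B]
  (n : ℕ) (hn : ∀ X : A, IsZero ((F.rightDerived n).obj X))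

include hn

lemma derives :
    (Φ F).Derives (F.mapHomotopyCategory (ComplexShape.up ℤ) ⋙ DerivedCategory.Qh) := by
  intro X Y f hf
  rw [ObjectProperty.trW_inverseImage_ι_iff, ObjectProperty.trW_iff] at hf
  obtain ⟨Z, g, h, hT, hZ₁, hZ₂⟩ := hf
  change IsIso (DerivedCategory.Qh.map
    ((F.mapHomotopyCategory (ComplexShape.up ℤ)).map f.hom))
  rw [DerivedCategory.isIso_Qh_map_iff, HomotopyCategory.quasiIso_eq_trW_subcategoryAcyclic,
    ObjectProperty.trW_iff]
  refine ⟨_, _, _, (F.mapHomotopyCategory (ComplexShape.up ℤ)).map_distinguished _ hT, ?_⟩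
  obtain ⟨K, rfl⟩ := Z.quotient_obj_surjective
  rw [hAcyc_quotient_obj_iff] at hZ₁
  rw [HomotopyCategory.quotient_obj_mem_subcategoryAcyclic_iff_acyclic] at hZ₂
  change HomotopyCategory.subcategoryAcyclic B
    ((HomotopyCategory.quotient _ _).obj ((F.mapHomologicalComplex (ComplexShape.up ℤ)).obj K))
  rw [HomotopyCategory.quotient_obj_mem_subcategoryAcyclic_iff_acyclic]
  exact acyclic_map F K n hn hZ₂ hZ₁

theorem hasRightDerivedFunctor :
    (F.mapHomotopyCategory (ComplexShape.up ℤ) ⋙ DerivedCategory.Qh).HasRightDerivedFunctor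
      (HomotopyCategory.quasiIso A (ComplexShape.up ℤ)) := by
  rw [HomotopyCategory.quasiIso_eq_trW_subcategoryAcyclic]
  haveI := isRightDerivabilityStructure F n hn
  haveI := (derives F n hn).hasPointwiseRightDerivedFunctor
  infer_instance

theorem isIso_unit [HasDerivedCategory.{w} A]
    (W : MorphismProperty (HomotopyCategory A (ComplexShape.up ℤ)))
    (hW : W = HomotopyCategory.quasiIso A (ComplexShape.up ℤ))
    [(DerivedCategory.Qh : _ ⥤ DerivedCategory A).IsLocalization W]
    [(F.mapHomotopyCategory (ComplexShape.up ℤ) ⋙ DerivedCategory.Qh).HasRightDerivedFunctor W]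
    (K : CochainComplex A ℤ) (hK : ∀ (m : ℤ) (i : ℕ), 0 < i → IsZero ((F.rightDerived i).obj (K.X m))) :
    IsIso (((F.mapHomotopyCategory (ComplexShape.up ℤ) ⋙ DerivedCategory.Qh).totalRightDerivedUnit
      DerivedCategory.Qh W).app ((HomotopyCategory.quotient A (ComplexShape.up ℤ)).obj K)) := by
  rw [HomotopyCategory.quasiIso_eq_trW_subcategoryAcyclic] at hW
  subst hW
  haveI := isRightDerivabilityStructure F n hn
  exact (derives F n hn).isIso_of_isRightDerivedFunctor
    ((F.mapHomotopyCategory (ComplexShape.up ℤ) ⋙ DerivedCategory.Qh).totalRightDerivedUnit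
      DerivedCategory.Qh _)
    ⟨(HomotopyCategory.quotient A (ComplexShape.up ℤ)).obj K, (hAcyc_quotient_obj_iff F K).2 hK⟩

end

end Groth.Agent.Lib.UnbRDer
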