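import Mathlib
import Groth.Agent.Lib.FAcyc_helper9
import Groth.Agent.Lib.UnbRDer_helper9
import Groth.Agent.Lib.RDerGE_helper7

/-!
# Leray's acyclicity lemma for bounded below complexes, for the total derived functor (helper7)
-/

set_option autoImplicit false
universe w w' v u v' u'
open CategoryTheory Limits

namespace Groth.Agent.Lib.LerayBB

section Acyc

variable {A : Type u} [Category.{v} A] [Abelian A] [HasInjectiveResolutions A]
  {B : Type u'} [Category.{v'} B] [Abelian B] (F : A ⥤ B) [F.Additive]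

open FAcyc

variable (K : CochainComplex A ℤ)

lemma acyc_Z_of_bddBelow (hK : K.Acyclic) (hT : ∀ m, acyc F (K.X m)) (a : ℤ)
    (hb : ∀ m, m < a → IsZero (K.X m)) (p : ℤ) : acyc F (Z K p) := by
  have hz : ∀ q, q < a → acyc F (Z K q) := fun q hq =>
    UnbRDer.acyc_of_isZero F (IsZero.of_mono (iZ K q) (hb q hq))
  have hk : ∀ k : ℕ, acyc F (Z K (a - 1 + k)) := by
    intro k
    induction k with
    | zero => exact hz _ (by omega)
    | succ k ih =>
      have e : a - 1 + ((k + 1 : ℕ) : ℤ) = (a - 1 + (k : ℤ)) + 1 := by push_cast; ring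
      rw [e]
      exact (h2 F (sesZ K (a - 1 + k)) (sesZ_shortExact K hK _) ih).1 (hT _)
  by_cases hp : p < a
  · exact hz p hp
  · obtain ⟨k, rfl⟩ : ∃ k : ℕ, p = a - 1 + k := ⟨(p - a + 1).toNat, by omega⟩
    exact hk k

variable [PreservesFiniteLimits F] (hK : K.Acyclic) (hZ : ∀ p, acyc F (Z K p))

include hK hZ in
lemma map_sesZ_shortExact (p : ℤ) : ((sesZ K p).map F).ShortExact := by
  have hS := sesZ_shortExact K hK p
  haveI := hS.mono_f
  haveI : Epi ((F.rightDerived 0).map (sesZ K p).g) :=
    epi_zero F (sesZ K p) hS (hZ p 1 (by omega))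
  have hepi : Epi (F.map (sesZ K p).g) := by
    rw [← NatIso.naturality_1 F.rightDerivedZeroIsoSelf (sesZ K p).g]
    infer_instance
  exact { exact := hS.exact.map_of_mono_of_preservesKernel F inferInstance inferInstance
          mono_f := inferInstanceAs (Mono (F.map (sesZ K p).f))
          epi_g := hepi }

include hK hZ in
theorem acyclic_map :
    ((F.mapHomologicalComplex (ComplexShape.up ℤ)).obj K).Acyclic := by
  intro q
  obtain ⟨p, rfl⟩ : ∃ p, q = p + 1 := ⟨q - 1, by omega⟩
  rw [HomologicalComplex.exactAt_iff' _ p (p + 1) (p + 1 + 1) (by simp) (by simp)]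
  have h1 := map_sesZ_shortExact F K hK hZ p
  have h2 := map_sesZ_shortExact F K hK hZ (p + 1)
  haveI : Epi (F.map (πZ K p)) := h1.epi_g
  haveI : Mono (F.map (iZ K (p + 1 + 1))) :=
    (map_sesZ_shortExact F K hK hZ (p + 1 + 1)).mono_f
  have w : F.map (iZ K (p + 1)) ≫ F.map (πZ K (p + 1)) = 0 := by
    rw [← F.map_comp, iZ_πZ, F.map_zero]
  have h3 := Horseshoe0.exact_splice (F.map (πZ K p)) (F.map (iZ K (p + 1)))
    (F.map (πZ K (p + 1))) w h2.exact (F.map (iZ K (p + 1 + 1)))
  refine Horseshoe0.exact_congr ?_ ?_ _ _ h3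
  · change F.map (K.d p (p + 1)) = _
    rw [← F.map_comp, πZ_iZ]
  · change F.map (K.d (p + 1) (p + 1 + 1)) = _
    rw [← F.map_comp, πZ_iZ]

end Acyc

section Der

variable {A : Type u} [Category.{v} A] [Abelian A] [IsGrothendieckAbelian.{v} A]
  [HasDerivedCategory.{w} A]
  {B : Type u'} [Category.{v'} B] [Abelian B] [HasDerivedCategory.{w'} B] (F : A ⥤ B) [F.Additive]

lemma isIso_of_bddBelow [PreservesFiniteLimits F] {X I : CochainComplex A ℤ} (i : X ⟶ I)
    (hi : QuasiIso i) (a : ℤ)
    (hX : ∀ m, m < a → IsZero (X.X m)) (hI : ∀ m, m < a → IsZero (I.X m))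
    (hXT : ∀ m, FAcyc.acyc F (X.X m)) (hinj : ∀ m, Injective (I.X m)) :
    IsIso (DerivedCategory.Qh.map ((F.mapHomotopyCategory (ComplexShape.up ℤ)).map
      ((HomotopyCategory.quotient A (ComplexShape.up ℤ)).map i))) := by
  have hT := HomotopyCategory.mappingCone_triangleh_distinguished i
  have hC : (CochainComplex.mappingCone i).Acyclic := by
    have h1 : (HomotopyCategory.subcategoryAcyclic A).trW
        ((HomotopyCategory.quotient A (ComplexShape.up ℤ)).map i) := by
      rw [← HomotopyCategory.quasiIso_eq_trW_subcategoryAcyclic,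
        HomotopyCategory.quotient_map_mem_quasiIso_iff, HomologicalComplex.mem_quasiIso_iff]
      exact hi
    have h2 := ((HomotopyCategory.subcategoryAcyclic A).trW_iff_of_distinguished _ hT).1 h1
    exact (HomotopyCategory.quotient_obj_mem_subcategoryAcyclic_iff_acyclic _).1 h2
  rw [DerivedCategory.isIso_Qh_map_iff, HomotopyCategory.quasiIso_eq_trW_subcategoryAcyclic,
    ObjectProperty.trW_iff]
  refine ⟨_, _, _, (F.mapHomotopyCategory (ComplexShape.up ℤ)).map_distinguished _ hT, ?_⟩
  change HomotopyCategory.subcategoryAcyclic B ((HomotopyCategory.quotient _ _).obj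
    ((F.mapHomologicalComplex (ComplexShape.up ℤ)).obj (CochainComplex.mappingCone i)))
  rw [HomotopyCategory.quotient_obj_mem_subcategoryAcyclic_iff_acyclic]
  have hterms : ∀ m, FAcyc.acyc F ((CochainComplex.mappingCone i).X m) :=
    UnbRDer.acycCx_mappingCone F i hXT (fun m => by
      haveI := hinj m
      exact FAcyc.acyc_of_injective F (I.X m))
  have hbdd : ∀ m, m < a - 1 → IsZero ((CochainComplex.mappingCone i).X m) := by
    intro m hm
    have hz : IsZero (X.X (m + 1) ⊞ I.X m) := by
      rw [IsZero.iff_id_eq_zero]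
      apply biprod.hom_ext
      · exact (hX (m + 1) (by omega)).eq_of_tgt _ _
      · exact (hI m (by omega)).eq_of_tgt _ _
    exact IsZero.of_iso hz (HomologicalComplex.homotopyCofiber.XIsoBiprod i m (m + 1) rfl)
  exact acyclic_map F _ hC (acyc_Z_of_bddBelow F _ hC hterms (a - 1) hbdd)

variable [(F.mapHomotopyCategory (ComplexShape.up ℤ) ⋙ DerivedCategory.Qh).HasRightDerivedFunctor
    (HomotopyCategory.quasiIso A (ComplexShape.up ℤ))]

/-- the unit of the total right derived functor -/
noncomputable abbrev α :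
    F.mapHomotopyCategory (ComplexShape.up ℤ) ⋙ DerivedCategory.Qh ⟶
      DerivedCategory.Qh ⋙ RDerGE.RF F :=
  (F.mapHomotopyCategory (ComplexShape.up ℤ) ⋙ DerivedCategory.Qh).totalRightDerivedUnit
    DerivedCategory.Qh (HomotopyCategory.quasiIso A (ComplexShape.up ℤ))

lemma isIso_unit_iff {X I : CochainComplex A ℤ} (i : X ⟶ I) [QuasiIso i] [I.IsKInjective] :
    IsIso ((α F).app ((HomotopyCategory.quotient A (ComplexShape.up ℤ)).obj X)) ↔
      IsIso (DerivedCategory.Qh.map ((F.mapHomotopyCategory (ComplexShape.up ℤ)).map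
        ((HomotopyCategory.quotient A (ComplexShape.up ℤ)).map i))) := by
  set q := (HomotopyCategory.quotient A (ComplexShape.up ℤ)).map i with hq
  have nat : (F.mapHomotopyCategory (ComplexShape.up ℤ) ⋙ DerivedCategory.Qh).map q ≫
      (α F).app ((HomotopyCategory.quotient A (ComplexShape.up ℤ)).obj I) =
      (α F).app ((HomotopyCategory.quotient A (ComplexShape.up ℤ)).obj X) ≫
        (DerivedCategory.Qh ⋙ RDerGE.RF F).map q := (α F).naturality q
  haveI : IsIso (DerivedCategory.Qh.map q) := inferInstanceAs (IsIso (DerivedCategory.Q.map i))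
  haveI hb : IsIso ((DerivedCategory.Qh ⋙ RDerGE.RF F).map q) := by
    rw [Functor.comp_map]; infer_instance
  haveI hd : IsIso ((α F).app ((HomotopyCategory.quotient A (ComplexShape.up ℤ)).obj I)) :=
    RDerGE.isIso_unit F I
  rw [Functor.comp_map] at nat
  constructor
  · intro ha
    have e : DerivedCategory.Qh.map ((F.mapHomotopyCategory (ComplexShape.up ℤ)).map q) =
        ((α F).app ((HomotopyCategory.quotient A (ComplexShape.up ℤ)).obj X) ≫
          (DerivedCategory.Qh ⋙ RDerGE.RF F).map q) ≫
          inv ((α F).app ((HomotopyCategory.quotient A (ComplexShape.up ℤ)).obj I)) := by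
      rw [← nat, Category.assoc, IsIso.hom_inv_id, Category.comp_id]
    rw [e]
    infer_instance
  · intro hc
    have e : (α F).app ((HomotopyCategory.quotient A (ComplexShape.up ℤ)).obj X) =
        (DerivedCategory.Qh.map ((F.mapHomotopyCategory (ComplexShape.up ℤ)).map q) ≫
          (α F).app ((HomotopyCategory.quotient A (ComplexShape.up ℤ)).obj I)) ≫
          inv ((DerivedCategory.Qh ⋙ RDerGE.RF F).map q) := by
      rw [nat, Category.assoc, IsIso.hom_inv_id, Category.comp_id]
    rw [e]
    infer_instance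

theorem isIso_unit_of_bddBelow [PreservesFiniteLimits F] (X : CochainComplex A ℤ) (a : ℤ)
    (hX : ∀ m, m < a → IsZero (X.X m)) (hXT : ∀ m, FAcyc.acyc F (X.X m)) :
    IsIso ((α F).app ((HomotopyCategory.quotient A (ComplexShape.up ℤ)).obj X)) := by
  haveI : X.IsStrictlyGE a := by
    rw [CochainComplex.isStrictlyGE_iff]
    exact hX
  obtain ⟨I, i, hi, hinj, hI⟩ :=
    CochainComplex.Plus.modelCategoryQuillen.exists_quasiIso_injective X a
  haveI : I.IsKInjective := CochainComplex.isKInjective_of_injective I a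
  rw [isIso_unit_iff F i]
  exact isIso_of_bddBelow F i hi a hX (fun m hm => I.isZero_of_isStrictlyGE a m hm) hXT hinj

end Der

end Groth.Agent.Lib.LerayBB
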