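import Mathlib

/-!
# Stupid truncations `σ_{≥ a} K` as subcomplexes, via kernels of idempotents (helper7)
-/

set_option autoImplicit false
open CategoryTheory Limits

namespace Groth.Agent.Lib.StupidTr

universe v u
variable {A : Type u} [Category.{v} A] [Abelian A] (K : CochainComplex A ℤ) (a : ℤ)

/-- zero in degrees `≥ a`, identity below -/
noncomputable def e (m : ℤ) : K.X m ⟶ K.X m := if a ≤ m then 0 else 𝟙 _

lemma e_pos {m : ℤ} (h : a ≤ m) : e K a m = 0 := if_pos h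

lemma e_neg {m : ℤ} (h : ¬ a ≤ m) : e K a m = 𝟙 _ := if_neg h

/-- the terms of the truncation -/
noncomputable def tX (m : ℤ) : A := kernel (e K a m)

/-- inclusion of the terms -/
noncomputable def ιX (m : ℤ) : tX K a m ⟶ K.X m := kernel.ι _

instance (m : ℤ) : Mono (ιX K a m) := inferInstanceAs (Mono (kernel.ι _))

lemma ιX_e (m : ℤ) : ιX K a m ≫ e K a m = 0 := kernel.condition _

lemma isZero_tX {m : ℤ} (h : ¬ a ≤ m) : IsZero (tX K a m) := by
  rw [IsZero.iff_id_eq_zero, ← cancel_mono (ιX K a m), Category.id_comp, zero_comp]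
  have h1 := ιX_e K a m
  rwa [e_neg K a h, Category.comp_id] at h1

/-- the inverse of the inclusion in degrees `≥ a` -/
noncomputable def πX (m : ℤ) : K.X m ⟶ tX K a m :=
  if h : a ≤ m then kernel.lift _ (𝟙 _) (by rw [Category.id_comp, e_pos K a h]) else 0

lemma πX_ιX {m : ℤ} (h : a ≤ m) : πX K a m ≫ ιX K a m = 𝟙 _ := by
  rw [πX, dif_pos h]
  exact kernel.lift_ι _ _ _

lemma ιX_πX {m : ℤ} (h : a ≤ m) : ιX K a m ≫ πX K a m = 𝟙 _ := by
  rw [← cancel_mono (ιX K a m), Category.assoc, πX_ιX K a h, Category.comp_id, Category.id_comp]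

lemma isIso_ιX {m : ℤ} (h : a ≤ m) : IsIso (ιX K a m) :=
  ⟨πX K a m, ιX_πX K a h, πX_ιX K a h⟩

/-- the differential -/
noncomputable def dX (m : ℤ) : tX K a m ⟶ tX K a (m + 1) :=
  kernel.lift _ (ιX K a m ≫ K.d m (m + 1)) (by
    by_cases h : a ≤ m + 1
    · rw [e_pos K a h, comp_zero]
    · have h' : ¬ a ≤ m := by omega
      rw [(isZero_tX K a h').eq_of_src (ιX K a m) 0, zero_comp, zero_comp])

lemma dX_ιX (m : ℤ) : dX K a m ≫ ιX K a (m + 1) = ιX K a m ≫ K.d m (m + 1) :=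
  kernel.lift_ι _ _ _

lemma dX_dX (m : ℤ) : dX K a m ≫ dX K a (m + 1) = 0 := by
  rw [← cancel_mono (ιX K a (m + 1 + 1)), Category.assoc, dX_ιX, ← Category.assoc, dX_ιX,
    Category.assoc, K.d_comp_d, comp_zero, zero_comp]

/-- the stupid truncation `σ_{≥ a} K` -/
noncomputable def tr : CochainComplex A ℤ := CochainComplex.of (tX K a) (dX K a) (dX_dX K a)

lemma tr_X (m : ℤ) : (tr K a).X m = tX K a m := rfl

lemma tr_d (m : ℤ) : (tr K a).d m (m + 1) = dX K a m :=
  CochainComplex.of_d (tX K a) (dX K a) m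

/-- the inclusion `σ_{≥ a} K ⟶ K` -/
noncomputable def trι : tr K a ⟶ K :=
  CochainComplex.ofHom (fun m => ιX K a m) (fun m => by
    rw [tr_d]
    exact (dX_ιX K a m).symm)

lemma trι_f (m : ℤ) : (trι K a).f m = ιX K a m := rfl

instance (m : ℤ) : Mono ((trι K a).f m) := inferInstanceAs (Mono (ιX K a m))

lemma isIso_trι_f {m : ℤ} (h : a ≤ m) : IsIso ((trι K a).f m) := isIso_ιX K a h

lemma isZero_tr_X {m : ℤ} (h : ¬ a ≤ m) : IsZero ((tr K a).X m) := isZero_tX K a h

variable {a} {b : ℤ} (hab : b ≤ a)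

include hab in
lemma ιX_e_of_le (m : ℤ) : ιX K a m ≫ e K b m = 0 := by
  by_cases h : b ≤ m
  · rw [e_pos K b h, comp_zero]
  · have h' : ¬ a ≤ m := by omega
    exact (isZero_tX K a h').eq_of_src _ _

/-- degreewise transition map -/
noncomputable def mapX (m : ℤ) : tX K a m ⟶ tX K b m :=
  kernel.lift _ (ιX K a m) (ιX_e_of_le K hab m)

lemma mapX_ιX (m : ℤ) : mapX K hab m ≫ ιX K b m = ιX K a m := kernel.lift_ι _ _ _

lemma mapX_dX (m : ℤ) : mapX K hab m ≫ dX K b m = dX K a m ≫ mapX K hab (m + 1) := by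
  rw [← cancel_mono (ιX K b (m + 1)), Category.assoc, dX_ιX, ← Category.assoc,
    mapX_ιX, Category.assoc, mapX_ιX, dX_ιX]

/-- the transition map `σ_{≥ a} K ⟶ σ_{≥ b} K` for `b ≤ a` -/
noncomputable def trMap : tr K a ⟶ tr K b :=
  CochainComplex.ofHom (fun m => mapX K hab m) (fun m => by
    rw [tr_d, tr_d]
    exact mapX_dX K hab m)

lemma trMap_f (m : ℤ) : (trMap K hab).f m = mapX K hab m := rfl

lemma trMap_trι : trMap K hab ≫ trι K b = trι K a := by
  ext m
  exact mapX_ιX K hab m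

end Groth.Agent.Lib.StupidTr
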