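import Mathlib

/-!
# The telescope of an eventually constant sequence is split exact (helper7)
-/

set_option autoImplicit false
open CategoryTheory Limits

namespace Groth.Agent.Lib.Telescope

lemma sum_Ico_telescope {M : Type*} [AddCommGroup M] (f : ℕ → M) (n₀ k : ℕ) (h : n₀ ≤ k) :
    ∑ n ∈ Finset.Ico n₀ k, (f n - f (n + 1)) = f n₀ - f k := by
  induction k, h using Nat.le_induction with
  | base => simp
  | succ k hk ih => rw [Finset.sum_Ico_succ_top hk, ih]; abel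

variable {C : Type*} [Category C] [Preadditive C]
variable {X : ℕ → C} {Y Sg : C} (s : ∀ n, X n ⟶ X (n + 1)) (u : ∀ n, X n ⟶ Y)
  (hsu : ∀ n, s n ≫ u (n + 1) = u n)
  (ι : ∀ n, X n ⟶ Sg) (hc : IsColimit (Cofan.mk Sg ι))
  (n₀ : ℕ) (hiso : ∀ n, n₀ ≤ n → IsIso (u n)) (hzero : ∀ n, n < n₀ → IsZero (X n))

/-- `1 - shift` -/
noncomputable def D : Sg ⟶ Sg := Cofan.IsColimit.desc hc (fun n => ι n - s n ≫ ι (n + 1))

/-- the canonical map to the colimit -/
noncomputable def P : Sg ⟶ Y := Cofan.IsColimit.desc hc u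

lemma ι_D (n : ℕ) : ι n ≫ D s ι hc = ι n - s n ≫ ι (n + 1) :=
  Cofan.IsColimit.fac hc _ n

lemma ι_P (n : ℕ) : ι n ≫ P u ι hc = u n := Cofan.IsColimit.fac hc _ n

include hsu in
lemma D_P : D s ι hc ≫ P u ι hc = 0 := by
  apply Cofan.IsColimit.hom_ext hc
  intro n
  show ι n ≫ D s ι hc ≫ P u ι hc = ι n ≫ 0
  rw [← Category.assoc, ι_D, Preadditive.sub_comp, Category.assoc, ι_P, ι_P, hsu, sub_self,
    comp_zero]

/-- the inverse of `u n` for `n ≥ n₀`, zero otherwise -/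
noncomputable def w (n : ℕ) : Y ⟶ X n :=
  if h : n₀ ≤ n then @inv _ _ _ _ (u n) (hiso n h) else 0

lemma u_w (n : ℕ) (h : n₀ ≤ n) : u n ≫ w u n₀ hiso n = 𝟙 _ := by
  haveI := hiso n h
  rw [w, dif_pos h]
  exact IsIso.hom_inv_id (u n)

lemma w_u (n : ℕ) (h : n₀ ≤ n) : w u n₀ hiso n ≫ u n = 𝟙 _ := by
  haveI := hiso n h
  rw [w, dif_pos h]
  exact IsIso.inv_hom_id (u n)

include hsu in
lemma w_s (n : ℕ) (h : n₀ ≤ n) : w u n₀ hiso n ≫ s n = w u n₀ hiso (n + 1) := by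
  have h1 : w u n₀ hiso n ≫ s n =
      (w u n₀ hiso n ≫ s n) ≫ (u (n + 1) ≫ w u n₀ hiso (n + 1)) := by
    rw [u_w u n₀ hiso (n + 1) (by omega), Category.comp_id]
  rw [h1, Category.assoc, ← Category.assoc (s n), hsu, ← Category.assoc, w_u u n₀ hiso n h,
    Category.id_comp]

/-- the retraction -/
noncomputable def R : Sg ⟶ Sg :=
  Cofan.IsColimit.desc hc (fun k => -∑ n ∈ Finset.Ico n₀ k, u k ≫ w u n₀ hiso n ≫ ι n)

lemma ι_R (k : ℕ) : ι k ≫ R u ι hc n₀ hiso =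
    -∑ n ∈ Finset.Ico n₀ k, u k ≫ w u n₀ hiso n ≫ ι n :=
  Cofan.IsColimit.fac hc _ k

include hzero in
/-- the telescope sequence is split -/
noncomputable def splitting :
    (ShortComplex.mk (D s ι hc) (P u ι hc) (D_P s u hsu ι hc)).Splitting where
  r := R u ι hc n₀ hiso
  s := w u n₀ hiso n₀ ≫ ι n₀
  f_r := by
    apply Cofan.IsColimit.hom_ext hc
    intro k
    show ι k ≫ D s ι hc ≫ R u ι hc n₀ hiso = ι k ≫ 𝟙 _
    by_cases hk : n₀ ≤ k
    · rw [← Category.assoc, ι_D, Preadditive.sub_comp, Category.assoc, ι_R, ι_R, Category.comp_id]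
      have e1 : s k ≫ (-∑ n ∈ Finset.Ico n₀ (k + 1), u (k + 1) ≫ w u n₀ hiso n ≫ ι n) =
          -(∑ n ∈ Finset.Ico n₀ k, u k ≫ w u n₀ hiso n ≫ ι n) - ι k := by
        rw [Preadditive.comp_neg, Preadditive.comp_sum, Finset.sum_Ico_succ_top hk]
        have e2 : ∀ n, s k ≫ u (k + 1) ≫ w u n₀ hiso n ≫ ι n = u k ≫ w u n₀ hiso n ≫ ι n :=
          fun n => by rw [← Category.assoc, hsu]
        simp only [e2]
        rw [← Category.assoc (u k) (w u n₀ hiso k), u_w u n₀ hiso k hk, Category.id_comp]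
        abel
      rw [e1]
      abel
    · exact (hzero k (by omega)).eq_of_src _ _
  s_g := by
    show (w u n₀ hiso n₀ ≫ ι n₀) ≫ P u ι hc = 𝟙 _
    rw [Category.assoc, ι_P, w_u u n₀ hiso n₀ le_rfl]
  id := by
    apply Cofan.IsColimit.hom_ext hc
    intro k
    show ι k ≫ (R u ι hc n₀ hiso ≫ D s ι hc + P u ι hc ≫ w u n₀ hiso n₀ ≫ ι n₀) = ι k ≫ 𝟙 _
    by_cases hk : n₀ ≤ k
    · rw [Preadditive.comp_add, ← Category.assoc, ι_R, ← Category.assoc (ι k), ι_P,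
        Category.comp_id, Preadditive.neg_comp, Preadditive.sum_comp]
      have e3 : ∀ n ∈ Finset.Ico n₀ k, (u k ≫ w u n₀ hiso n ≫ ι n) ≫ D s ι hc =
          u k ≫ w u n₀ hiso n ≫ ι n - u k ≫ w u n₀ hiso (n + 1) ≫ ι (n + 1) := by
        intro n hn
        have hn' : n₀ ≤ n := (Finset.mem_Ico.1 hn).1
        rw [Category.assoc, Category.assoc, ι_D, Preadditive.comp_sub, Preadditive.comp_sub,
          ← Category.assoc (w u n₀ hiso n) (s n), w_s s u hsu n₀ hiso n hn']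
      have e4 : ∑ n ∈ Finset.Ico n₀ k,
          (u k ≫ w u n₀ hiso n ≫ ι n - u k ≫ w u n₀ hiso (n + 1) ≫ ι (n + 1)) =
          u k ≫ w u n₀ hiso n₀ ≫ ι n₀ - u k ≫ w u n₀ hiso k ≫ ι k :=
        sum_Ico_telescope (fun n => u k ≫ w u n₀ hiso n ≫ ι n) n₀ k hk
      rw [Finset.sum_congr rfl e3, e4, ← Category.assoc (u k) (w u n₀ hiso k),
        u_w u n₀ hiso k hk, Category.id_comp]
      abel
    · exact (hzero k (by omega)).eq_of_src _ _

end Groth.Agent.Lib.Telescope
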