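import Mathlib
import Groth.Prelude.Def_SpSeq

/-!
# Filtered K-injective embeddings, part II (helper7)

Pure homological algebra in `CochainComplex A ℤ`: given a tower of degreewise split epimorphisms
`π p : J₀ ⟶ I p` between K-injective complexes (with `J₀` termwise injective) receiving
quasi-isomorphisms from `K` and its quotients `K / F^p K`, the filtered complex
`(J₀, ker (π p))` satisfies all the conclusions of S6533.
-/

set_option autoImplicit false
universe v u
open CategoryTheory CategoryTheory.Limits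

namespace Groth.Agent.Lib.FilKInj1

section Basic

variable {A : Type u} [Category.{v} A] [Abelian A]

lemma injective_of_retract {Q E : A} [Injective E] (s : Q ⟶ E) (π : E ⟶ Q) (h : s ≫ π = 𝟙 Q) :
    Injective Q where
  factors f g _ := ⟨Injective.factorThru (f ≫ s) g ≫ π, by
    rw [← Category.assoc, Injective.comp_factorThru, Category.assoc, h, Category.comp_id]⟩

lemma injective_cokernel {M E : A} (i : M ⟶ E) [Mono i] [Injective M] [Injective E] :
    Injective (cokernel i) := by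
  let r : E ⟶ M := Injective.factorThru (𝟙 M) i
  have hr : i ≫ r = 𝟙 M := Injective.comp_factorThru _ _
  let s : cokernel i ⟶ E := cokernel.desc i (𝟙 E - r ≫ i) (by
    rw [Preadditive.comp_sub, Category.comp_id, ← Category.assoc, hr, Category.id_comp, sub_self])
  have hs : cokernel.π i ≫ s = 𝟙 E - r ≫ i := cokernel.π_desc _ _ _
  refine injective_of_retract s (cokernel.π i) ?_
  rw [← cancel_epi (cokernel.π i), ← Category.assoc, hs, Preadditive.sub_comp, Category.id_comp,
    Category.assoc, cokernel.condition, comp_zero, sub_zero, Category.comp_id]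

lemma shortExact_cokernel {M E : A} (i : M ⟶ E) [Mono i] :
    (ShortComplex.mk i (cokernel.π i) (cokernel.condition i)).ShortExact :=
  ShortComplex.ShortExact.mk'
    (ShortComplex.exact_of_g_is_cokernel _ (cokernelIsCokernel i))
    (by dsimp; infer_instance) (by dsimp; infer_instance)

lemma shortExact_kernelSubobject {E Q : A} (π : E ⟶ Q) [Epi π] :
    (ShortComplex.mk (kernelSubobject π).arrow π (kernelSubobject_arrow_comp π)).ShortExact :=
  ShortComplex.ShortExact.mk'
    (ShortComplex.exact_of_f_is_kernel _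
      (KernelFork.IsLimit.ofι' _ _ (fun k hk =>
        ⟨factorThruKernelSubobject π k hk, factorThruKernelSubobject_comp_arrow π k hk⟩)))
    (by dsimp; infer_instance) (by dsimp; infer_instance)

lemma le_pullback_of_fac {X Y : A} (f : X ⟶ Y) (S : Subobject X) (T : Subobject Y)
    (u : (S : A) ⟶ (T : A)) (w : u ≫ T.arrow = S.arrow ≫ f) :
    S ≤ (Subobject.pullback f).obj T := by
  rw [Subobject.pullback_obj]
  exact Subobject.le_mk_of_comm (pullback.lift u S.arrow w) (pullback.lift_snd _ _ _)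

lemma isIso_cokernel_π_of_eq_zero {X Y : A} (f : X ⟶ Y) (h : f = 0) : IsIso (cokernel.π f) := by
  subst h
  infer_instance

end Basic

section Five

open ComposableArrows Abelian HomologicalComplex HomologicalComplex.HomologySequence

variable {A : Type u} [Category.{v} A] [Abelian A]
  {S₁ S₂ : ShortComplex (CochainComplex A ℤ)} (φ : S₁ ⟶ S₂)
  (hS₁ : S₁.ShortExact) (hS₂ : S₂.ShortExact)

include hS₁ hS₂ in
/-- Five lemma for the first term (copied from `AcycSES_helper9`). -/
lemma quasiIso_τ₁ (h₂ : QuasiIso φ.τ₂) (h₃ : QuasiIso φ.τ₃) : QuasiIso φ.τ₁ := by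
  rw [quasiIso_iff]
  intro j
  rw [quasiIsoAt_iff_isIso_homologyMap]
  have hij : (ComplexShape.up ℤ).Rel (j - 1) j := by simp
  have hm : Mono (homologyMap φ.τ₁ j) := by
    apply mono_of_epi_of_mono_of_mono
      ((δ₀Functor ⋙ δlastFunctor).map (mapComposableArrows₅ φ hS₁ hS₂ (j - 1) j hij))
    · exact (composableArrows₅_exact hS₁ (j - 1) j hij).δ₀.δlast
    · exact (composableArrows₅_exact hS₂ (j - 1) j hij).δ₀.δlast
    · exact (inferInstance : Epi (homologyMap φ.τ₂ (j - 1)))
    · exact (inferInstance : Mono (homologyMap φ.τ₃ (j - 1)))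
    · exact (inferInstance : Mono (homologyMap φ.τ₂ j))
  have he : Epi (homologyMap φ.τ₁ j) := by
    apply epi_of_epi_of_epi_of_mono
      ((δ₀Functor ⋙ δ₀Functor).map (mapComposableArrows₅ φ hS₁ hS₂ (j - 1) j hij))
    · exact (composableArrows₅_exact hS₁ (j - 1) j hij).δ₀.δ₀
    · exact (composableArrows₅_exact hS₂ (j - 1) j hij).δ₀.δ₀
    · exact (inferInstance : Epi (homologyMap φ.τ₃ (j - 1)))
    · exact (inferInstance : Epi (homologyMap φ.τ₂ j))
    · exact (inferInstance : Mono (homologyMap φ.τ₃ j))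
  exact isIso_of_mono_of_epi _

end Five

section KInj

open HomologicalComplex

variable {A : Type u} [Category.{v} A] [Abelian A]

lemma distinguished_of_split (S : ShortComplex (CochainComplex A ℤ))
    (σ : ∀ n, (S.map (eval A (ComplexShape.up ℤ) n)).Splitting) :
    CochainComplex.trianglehOfDegreewiseSplit S σ ∈
      distTriang (HomotopyCategory A (ComplexShape.up ℤ)) :=
  (HomotopyCategory.distinguished_iff_iso_trianglehOfDegreewiseSplit _).2 ⟨S, σ, ⟨Iso.refl _⟩⟩

lemma isKInjective_X₁ (S : ShortComplex (CochainComplex A ℤ))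
    (σ : ∀ n, Nonempty ((S.map (eval A (ComplexShape.up ℤ) n)).Splitting))
    [h₂ : S.X₂.IsKInjective] [h₃ : S.X₃.IsKInjective] : S.X₁.IsKInjective := by
  rw [CochainComplex.isKInjective_iff_rightOrthogonal] at h₂ h₃ ⊢
  exact (HomotopyCategory.subcategoryAcyclic A).rightOrthogonal.ext_of_isTriangulatedClosed₁ _
    (distinguished_of_split S (fun n => (σ n).some)) h₂ h₃

lemma isKInjective_X₃ (S : ShortComplex (CochainComplex A ℤ))
    (σ : ∀ n, Nonempty ((S.map (eval A (ComplexShape.up ℤ) n)).Splitting))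
    [h₁ : S.X₁.IsKInjective] [h₂ : S.X₂.IsKInjective] : S.X₃.IsKInjective := by
  rw [CochainComplex.isKInjective_iff_rightOrthogonal] at h₁ h₂ ⊢
  exact (HomotopyCategory.subcategoryAcyclic A).rightOrthogonal.ext_of_isTriangulatedClosed₃ _
    (distinguished_of_split S (fun n => (σ n).some)) h₁ h₂

lemma nonempty_splitting_of_injective (S : ShortComplex (CochainComplex A ℤ)) (hS : S.ShortExact)
    (n : ℤ) [Injective (S.X₁.X n)] :
    Nonempty ((S.map (eval A (ComplexShape.up ℤ) n)).Splitting) := by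
  have hS' := hS.map_of_exact (eval A (ComplexShape.up ℤ) n)
  haveI : Mono (S.f.f n) := hS'.mono_f
  haveI : Epi (S.map (eval A (ComplexShape.up ℤ) n)).g := hS'.epi_g
  let r : S.X₂.X n ⟶ S.X₁.X n := Injective.factorThru (𝟙 _) (S.f.f n)
  exact ⟨ShortComplex.Splitting.ofExactOfRetraction _ hS'.exact r
    (Injective.comp_factorThru (𝟙 (S.X₁.X n)) (S.f.f n)) inferInstance⟩

lemma nonempty_splitting_of_section (S : ShortComplex (CochainComplex A ℤ)) (hS : S.ShortExact)
    (n : ℤ) (s : S.X₃.X n ⟶ S.X₂.X n) (hs : s ≫ S.g.f n = 𝟙 _) :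
    Nonempty ((S.map (eval A (ComplexShape.up ℤ) n)).Splitting) := by
  have hS' := hS.map_of_exact (eval A (ComplexShape.up ℤ) n)
  exact ⟨ShortComplex.Splitting.ofExactOfSection _ hS'.exact s hs hS'.mono_f⟩

/-- The kernel of a degreewise split epimorphism between K-injective complexes is K-injective,
and termwise injective if the source is. -/
lemma kernel_props (S : ShortComplex (CochainComplex A ℤ)) (hS : S.ShortExact)
    (hs : ∀ n, ∃ s : S.X₃.X n ⟶ S.X₂.X n, s ≫ S.g.f n = 𝟙 _)
    [S.X₂.IsKInjective] [S.X₃.IsKInjective] (hinj : ∀ n, Injective (S.X₂.X n)) :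
    S.X₁.IsKInjective ∧ ∀ n, Injective (S.X₁.X n) := by
  have σ : ∀ n, Nonempty ((S.map (eval A (ComplexShape.up ℤ) n)).Splitting) := fun n => by
    obtain ⟨s, hs⟩ := hs n
    exact nonempty_splitting_of_section S hS n s hs
  refine ⟨isKInjective_X₁ S σ, fun n => ?_⟩
  obtain ⟨τ⟩ := σ n
  haveI := hinj n
  exact injective_of_retract (S.f.f n) τ.r τ.f_r

/-- The cokernel of a monomorphism from a termwise injective K-injective complex into a
K-injective complex is K-injective. -/
lemma isKInjective_cokernel {M E : CochainComplex A ℤ} (i : M ⟶ E) [Mono i]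
    [M.IsKInjective] [E.IsKInjective] (hM : ∀ n, Injective (M.X n)) :
    (cokernel i).IsKInjective := by
  let S := ShortComplex.mk i (cokernel.π i) (cokernel.condition i)
  have hS : S.ShortExact := shortExact_cokernel i
  haveI : S.X₁.IsKInjective := ‹M.IsKInjective›
  haveI : S.X₂.IsKInjective := ‹E.IsKInjective›
  exact isKInjective_X₃ S (fun n => by
    haveI : Injective (S.X₁.X n) := hM n
    exact nonempty_splitting_of_injective S hS n)

/-- The induced map on cokernels of monomorphisms is a quasi-isomorphism. -/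
lemma quasiIso_cokernel_desc {M₁ E₁ M₂ E₂ : CochainComplex A ℤ} (i₁ : M₁ ⟶ E₁) (i₂ : M₂ ⟶ E₂)
    [Mono i₁] [Mono i₂] (a : M₁ ⟶ M₂) (b : E₁ ⟶ E₂) (comm : a ≫ i₂ = i₁ ≫ b)
    (ha : QuasiIso a) (hb : QuasiIso b) (c : cokernel i₁ ⟶ cokernel i₂)
    (hc : cokernel.π i₁ ≫ c = b ≫ cokernel.π i₂) : QuasiIso c := by
  let S₁ := ShortComplex.mk i₁ (cokernel.π i₁) (cokernel.condition i₁)
  let S₂ := ShortComplex.mk i₂ (cokernel.π i₂) (cokernel.condition i₂)
  let φ : S₁ ⟶ S₂ := { τ₁ := a, τ₂ := b, τ₃ := c, comm₁₂ := comm, comm₂₃ := hc.symm }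
  exact HomologicalComplex.HomologySequence.quasiIso_τ₃ φ (shortExact_cokernel i₁)
    (shortExact_cokernel i₂) ha hb

end KInj

section Main

open SpSeq

variable {A : Type u} [Category.{v} A] [Abelian A]

/-- Conclusions (1) and (2) of S6533 from injectivity and K-injectivity of `J` and the `F^p J`. -/
lemma props_of_step (J : FilCx A) (h0 : ∀ n, Injective (J.obj.X n)) [J.obj.IsKInjective]
    (h1 : ∀ p n, Injective ((J.step p).X n)) (h2 : ∀ p, (J.step p).IsKInjective) :
    (∀ n p : ℤ, Injective (J.obj.X n) ∧ Injective ((J.XFil n).step p) ∧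
        Injective ((J.XFil n).quot p) ∧
        ∀ (p' : ℤ) (h : p ≤ p'), Injective (cokernel ((J.XFil n).stepLE h))) ∧
      (CochainComplex.IsKInjective J.obj ∧ ∀ p : ℤ, CochainComplex.IsKInjective (J.step p) ∧
        CochainComplex.IsKInjective (J.quot p) ∧
        ∀ (p' : ℤ) (h : p ≤ p'), CochainComplex.IsKInjective (cokernel (J.stepLE h))) := by
  have hstep : ∀ n p, Injective ((J.XFil n).step p) := fun n p =>
    Injective.of_iso (Subobject.underlyingIso ((J.fil p).arrow.f n)).symm (h1 p n)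
  refine ⟨fun n p => ⟨h0 n, hstep n p, ?_, fun p' h => ?_⟩, inferInstance, fun p => ⟨h2 p, ?_,
    fun p' h => ?_⟩⟩
  · haveI : Injective (J.XFil n).obj := h0 n
    haveI : Injective (((J.XFil n).fil p : A)) := hstep n p
    exact injective_cokernel ((J.XFil n).fil p).arrow
  · haveI := hstep n p
    haveI := hstep n p'
    exact injective_cokernel ((J.XFil n).stepLE h)
  · haveI := h2 p
    exact isKInjective_cokernel (J.fil p).arrow (h1 p)
  · haveI := h2 p
    haveI := h2 p'
    exact isKInjective_cokernel (J.stepLE h) (h1 p')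

/-- Conclusion (3) of S6533 from quasi-isomorphisms on `K → J` and `F^p K → F^p J`. -/
lemma quasiIso_props (K J : FilCx A) (j : K ⟶ J)
    (jp : ∀ p, K.step p ⟶ J.step p)
    (hjp : ∀ p, jp p ≫ (J.fil p).arrow = (K.fil p).arrow ≫ j.hom)
    (hj : QuasiIso j.hom) (hq : ∀ p, QuasiIso (jp p)) :
    (∀ p : ℤ, ∃ jp : K.step p ⟶ J.step p,
        jp ≫ (J.fil p).arrow = (K.fil p).arrow ≫ j.hom ∧ QuasiIso jp ∧
        (∀ (p' : ℤ) (h : p ≤ p'), ∃ (jp' : K.step p' ⟶ J.step p')
          (jg : cokernel (K.stepLE h) ⟶ cokernel (J.stepLE h)),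
          jp' ≫ (J.fil p').arrow = (K.fil p').arrow ≫ j.hom ∧
          jp' ≫ J.stepLE h = K.stepLE h ≫ jp ∧
          cokernel.π (K.stepLE h) ≫ jg = jp ≫ cokernel.π (J.stepLE h) ∧ QuasiIso jg)) ∧
      (∀ p : ℤ, ∃ jq : K.quot p ⟶ J.quot p,
        cokernel.π (K.fil p).arrow ≫ jq = j.hom ≫ cokernel.π (J.fil p).arrow ∧ QuasiIso jq) := by
  refine ⟨fun p => ⟨jp p, hjp p, hq p, fun p' h => ?_⟩, fun p => ?_⟩
  · have hle : jp p' ≫ J.stepLE h = K.stepLE h ≫ jp p := by
      rw [← cancel_mono (J.fil p).arrow, Category.assoc, Category.assoc, hjp p,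
        Subobject.ofLE_arrow, hjp p', ← Category.assoc, Subobject.ofLE_arrow]
    have w : K.stepLE h ≫ jp p ≫ cokernel.π (J.stepLE h) = 0 := by
      rw [← Category.assoc, ← hle, Category.assoc, cokernel.condition, comp_zero]
    refine ⟨jp p', cokernel.desc _ (jp p ≫ cokernel.π (J.stepLE h)) w, hjp p', hle,
      cokernel.π_desc _ _ _, ?_⟩
    exact quasiIso_cokernel_desc (K.stepLE h) (J.stepLE h) (jp p') (jp p) hle (hq p') (hq p) _
      (cokernel.π_desc _ _ _)
  · have w : (K.fil p).arrow ≫ j.hom ≫ cokernel.π (J.fil p).arrow = 0 := by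
      rw [← Category.assoc, ← hjp p, Category.assoc, cokernel.condition, comp_zero]
    refine ⟨cokernel.desc _ (j.hom ≫ cokernel.π (J.fil p).arrow) w, cokernel.π_desc _ _ _, ?_⟩
    exact quasiIso_cokernel_desc (K.fil p).arrow (J.fil p).arrow (jp p) j.hom (hjp p) (hq p) hj _
      (cokernel.π_desc _ _ _)

/-- The filtered complex `(J₀, ker (π p))`. -/
noncomputable def mkJ (J₀ : CochainComplex A ℤ) (I : ℤ → CochainComplex A ℤ)
    (π : ∀ p, J₀ ⟶ I p) (hmono : ∀ p p' : ℤ, p ≤ p' → ∃ t : I p' ⟶ I p, π p' ≫ t = π p) :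
    FilCx A :=
  ⟨J₀, fun p => kernelSubobject (π p), fun p p' h => by
    obtain ⟨t, ht⟩ := hmono p p' h
    exact (kernelSubobject_comp_le (π p') t).trans (le_of_eq (by rw [ht]))⟩

theorem partII (K : FilCx A) (J₀ : CochainComplex A ℤ) (I : ℤ → CochainComplex A ℤ)
    (π : ∀ p, J₀ ⟶ I p) (hπ : ∀ p n, ∃ s : (I p).X n ⟶ J₀.X n, s ≫ (π p).f n = 𝟙 _)
    (hmono : ∀ p p' : ℤ, p ≤ p' → ∃ t : I p' ⟶ I p, π p' ≫ t = π p)
    [J₀.IsKInjective] [∀ p, (I p).IsKInjective] (hinj : ∀ n, Injective (J₀.X n))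
    (j₀ : K.obj ⟶ J₀) (hj₀ : QuasiIso j₀) (q : ∀ p, K.quot p ⟶ I p) (hq : ∀ p, QuasiIso (q p))
    (hcomm : ∀ p, cokernel.π (K.fil p).arrow ≫ q p = j₀ ≫ π p) :
    ∃ (J : SpSeq.FilCx A) (j : K ⟶ J),
      (∀ n p : ℤ, Injective (J.obj.X n) ∧ Injective ((J.XFil n).step p) ∧
        Injective ((J.XFil n).quot p) ∧
        ∀ (p' : ℤ) (h : p ≤ p'), Injective (cokernel ((J.XFil n).stepLE h))) ∧
      (CochainComplex.IsKInjective J.obj ∧ ∀ p : ℤ, CochainComplex.IsKInjective (J.step p) ∧
        CochainComplex.IsKInjective (J.quot p) ∧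
        ∀ (p' : ℤ) (h : p ≤ p'), CochainComplex.IsKInjective (cokernel (J.stepLE h))) ∧
      QuasiIso j.hom ∧
      (∀ p : ℤ, ∃ jp : K.step p ⟶ J.step p,
        jp ≫ (J.fil p).arrow = (K.fil p).arrow ≫ j.hom ∧ QuasiIso jp ∧
        (∀ (p' : ℤ) (h : p ≤ p'), ∃ (jp' : K.step p' ⟶ J.step p')
          (jg : cokernel (K.stepLE h) ⟶ cokernel (J.stepLE h)),
          jp' ≫ (J.fil p').arrow = (K.fil p').arrow ≫ j.hom ∧
          jp' ≫ J.stepLE h = K.stepLE h ≫ jp ∧
          cokernel.π (K.stepLE h) ≫ jg = jp ≫ cokernel.π (J.stepLE h) ∧ QuasiIso jg)) ∧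
      (∀ p : ℤ, ∃ jq : K.quot p ⟶ J.quot p,
        cokernel.π (K.fil p).arrow ≫ jq = j.hom ≫ cokernel.π (J.fil p).arrow ∧ QuasiIso jq) := by
  have hepi : ∀ p, Epi (π p) := fun p => by
    haveI : ∀ n, Epi ((π p).f n) := fun n => by
      obtain ⟨s, hs⟩ := hπ p n
      haveI : Epi (s ≫ (π p).f n) := by rw [hs]; infer_instance
      exact epi_of_epi s _
    exact HomologicalComplex.epi_of_epi_f _ inferInstance
  let J : FilCx A := mkJ J₀ I π hmono
  let S : ∀ p, ShortComplex (CochainComplex A ℤ) := fun p =>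
    ShortComplex.mk (kernelSubobject (π p)).arrow (π p) (kernelSubobject_arrow_comp (π p))
  have hS : ∀ p, (S p).ShortExact := fun p => by
    haveI := hepi p
    exact shortExact_kernelSubobject (π p)
  have hk : ∀ p, (S p).X₁.IsKInjective ∧ ∀ n, Injective ((S p).X₁.X n) := fun p => by
    haveI : (S p).X₂.IsKInjective := ‹J₀.IsKInjective›
    haveI : (S p).X₃.IsKInjective := (inferInstance : (I p).IsKInjective)
    exact kernel_props (S p) (hS p) (hπ p) hinj
  have w : ∀ p, ((K.fil p).arrow ≫ j₀) ≫ π p = 0 := fun p => by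
    rw [Category.assoc, ← hcomm p, ← Category.assoc, cokernel.condition, zero_comp]
  let jp : ∀ p, K.step p ⟶ J.step p := fun p =>
    factorThruKernelSubobject (π p) ((K.fil p).arrow ≫ j₀) (w p)
  have hjp : ∀ p, jp p ≫ (J.fil p).arrow = (K.fil p).arrow ≫ j₀ := fun p =>
    factorThruKernelSubobject_comp_arrow (π p) _ (w p)
  let j : K ⟶ J := (⟨j₀, fun p => le_pullback_of_fac j₀ _ _ (jp p) (hjp p)⟩ : FilObj.Hom K J)
  have hqp : ∀ p, QuasiIso (jp p) := fun p => by
    let SK := ShortComplex.mk (K.fil p).arrow (cokernel.π (K.fil p).arrow)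
      (cokernel.condition (K.fil p).arrow)
    let φ : SK ⟶ S p :=
      { τ₁ := jp p, τ₂ := j₀, τ₃ := q p, comm₁₂ := hjp p, comm₂₃ := (hcomm p).symm }
    exact quasiIso_τ₁ φ (shortExact_cokernel (K.fil p).arrow) (hS p) hj₀ (hq p)
  haveI : J.obj.IsKInjective := ‹J₀.IsKInjective›
  have P12 := props_of_step J hinj (fun p n => (hk p).2 n) (fun p => (hk p).1)
  have P34 := quasiIso_props K J j jp hjp hj₀ hqp
  exact ⟨J, j, P12.1, P12.2, hj₀, P34.1, P34.2⟩

end Main

end Groth.Agent.Lib.FilKInj1
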