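import Mathlib
import Groth.Agent.Lib.FilKInj1_helper7

/-!
# Modifying a complex in one degree (helper7)

Given a cochain complex `K`, a degree `n` and a morphism `u : K.X n ⟶ I` which is a monomorphism on
the cycles in degree `n`, we construct a quasi-isomorphism `g : K ⟶ K'` which is an isomorphism in
degrees `< n` and such that `K'.X n ≅ I` (the pushout of `K` along `u`).
-/

set_option autoImplicit false
universe v u
open CategoryTheory Limits

namespace Groth.Agent.Lib.EssInj1

variable {A : Type u} [Category.{v} A] [Abelian A]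

lemma quasiIso_g_of_acyclic (S : ShortComplex (CochainComplex A ℤ)) (hS : S.ShortExact)
    (h₁ : S.X₁.Acyclic) : QuasiIso S.g := by
  have hz : ∀ j, IsZero (S.X₁.homology j) := fun j => (h₁ j).isZero_homology
  rw [quasiIso_iff]
  intro i
  rw [quasiIsoAt_iff_isIso_homologyMap]
  haveI : Mono (HomologicalComplex.homologyMap S.g i) :=
    (ShortComplex.exact_iff_mono _ ((hz i).eq_of_src _ _)).1 (hS.homology_exact₂ i)
  haveI : Epi (HomologicalComplex.homologyMap S.g i) :=
    (ShortComplex.exact_iff_epi _ ((hz (i + 1)).eq_of_tgt _ _)).1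
      (hS.homology_exact₃ i (i + 1) rfl)
  exact isIso_of_mono_of_epi _

lemma quasiIso_f_of_acyclic (S : ShortComplex (CochainComplex A ℤ)) (hS : S.ShortExact)
    (h₃ : S.X₃.Acyclic) : QuasiIso S.f := by
  have hz : ∀ j, IsZero (S.X₃.homology j) := fun j => (h₃ j).isZero_homology
  rw [quasiIso_iff]
  intro i
  rw [quasiIsoAt_iff_isIso_homologyMap]
  haveI : Mono (HomologicalComplex.homologyMap S.f i) :=
    (ShortComplex.exact_iff_mono _ ((hz (i - 1)).eq_of_src _ _)).1
      (hS.homology_exact₁ (i - 1) i (by simp))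
  haveI : Epi (HomologicalComplex.homologyMap S.f i) :=
    (ShortComplex.exact_iff_epi _ ((hz i).eq_of_tgt _ _)).1 (hS.homology_exact₂ i)
  exact isIso_of_mono_of_epi _

lemma quasiIso_inl (K D : CochainComplex A ℤ) (hD : D.Acyclic) :
    QuasiIso (biprod.inl : K ⟶ K ⊞ D) :=
  quasiIso_f_of_acyclic (ShortComplex.mk (biprod.inl : K ⟶ K ⊞ D) biprod.snd (by simp))
    (ShortComplex.Splitting.ofHasBinaryBiproduct K D).shortExact hD

section Abstract

variable {K D D' : CochainComplex A ℤ} (α : D ⟶ K) (β : D ⟶ D')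

/-- the map whose cokernel is the modified complex -/
noncomputable abbrev fmap : D ⟶ K ⊞ D' := biprod.lift α (-β)

/-- the modified complex -/
noncomputable abbrev newCx : CochainComplex A ℤ := cokernel (fmap α β)

/-- the map to the modified complex -/
noncomputable abbrev gmap : K ⟶ newCx α β := biprod.inl ≫ cokernel.π (fmap α β)

lemma quasiIso_gmap [Mono (fmap α β)] (hD : D.Acyclic) (hD' : D'.Acyclic) :
    QuasiIso (gmap α β) := by
  haveI := quasiIso_inl K D' hD'
  haveI : QuasiIso (cokernel.π (fmap α β)) :=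
    quasiIso_g_of_acyclic _ (FilKInj1.shortExact_cokernel (fmap α β)) hD
  infer_instance

variable (K D') in
lemma inl_f_fst_f (j : ℤ) : (biprod.inl : K ⟶ K ⊞ D').f j ≫ (biprod.fst : K ⊞ D' ⟶ K).f j = 𝟙 _ := by
  rw [← HomologicalComplex.comp_f, biprod.inl_fst, HomologicalComplex.id_f]

variable (K D') in
lemma inr_f_snd_f (j : ℤ) :
    (biprod.inr : D' ⟶ K ⊞ D').f j ≫ (biprod.snd : K ⊞ D' ⟶ D').f j = 𝟙 _ := by
  rw [← HomologicalComplex.comp_f, biprod.inr_snd, HomologicalComplex.id_f]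

variable (K D') in
lemma inr_f_fst_f (j : ℤ) :
    (biprod.inr : D' ⟶ K ⊞ D').f j ≫ (biprod.fst : K ⊞ D' ⟶ K).f j = 0 := by
  rw [← HomologicalComplex.comp_f, biprod.inr_fst, HomologicalComplex.zero_f]

variable (K D') in
lemma total_f (j : ℤ) : (biprod.fst : K ⊞ D' ⟶ K).f j ≫ (biprod.inl : K ⟶ K ⊞ D').f j +
    (biprod.snd : K ⊞ D' ⟶ D').f j ≫ (biprod.inr : D' ⟶ K ⊞ D').f j = 𝟙 _ := by
  rw [← HomologicalComplex.comp_f, ← HomologicalComplex.comp_f, ← HomologicalComplex.add_f_apply,
    biprod.total, HomologicalComplex.id_f]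

lemma fmap_f_fst (j : ℤ) : (fmap α β).f j ≫ (biprod.fst : K ⊞ D' ⟶ K).f j = α.f j := by
  rw [← HomologicalComplex.comp_f, biprod.lift_fst]

lemma fmap_f_snd (j : ℤ) : (fmap α β).f j ≫ (biprod.snd : K ⊞ D' ⟶ D').f j = -β.f j := by
  rw [← HomologicalComplex.comp_f, biprod.lift_snd, HomologicalComplex.neg_f_apply]

lemma fmap_f (j : ℤ) : (fmap α β).f j =
    α.f j ≫ (biprod.inl : K ⟶ K ⊞ D').f j - β.f j ≫ (biprod.inr : D' ⟶ K ⊞ D').f j := by
  have h := total_f K D' j
  calc (fmap α β).f j = (fmap α β).f j ≫ 𝟙 _ := (Category.comp_id _).symm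
    _ = _ := by
      rw [← h, Preadditive.comp_add, ← Category.assoc, fmap_f_fst, ← Category.assoc, fmap_f_snd,
        Preadditive.neg_comp, sub_eq_add_neg]

lemma isIso_gmap_f [Mono (fmap α β)] (j : ℤ) (h : IsZero (D.X j)) (h' : IsZero (D'.X j)) :
    IsIso ((gmap α β).f j) := by
  have hS := (FilKInj1.shortExact_cokernel (fmap α β)).map_of_exact
    (HomologicalComplex.eval A (ComplexShape.up ℤ) j)
  haveI : IsIso ((cokernel.π (fmap α β)).f j) := hS.isIso_g_iff.2 h
  haveI : IsIso ((biprod.inl : K ⟶ K ⊞ D').f j) :=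
    ⟨⟨(biprod.fst : K ⊞ D' ⟶ K).f j, inl_f_fst_f K D' j, by
      have := total_f K D' j
      rw [h'.eq_of_tgt ((biprod.snd : K ⊞ D' ⟶ D').f j) 0, zero_comp, add_zero] at this
      exact this⟩⟩
  rw [HomologicalComplex.comp_f]
  infer_instance

lemma isIso_inr_π [Mono (fmap α β)] (n : ℤ) (hα : IsIso (α.f n)) :
    IsIso ((biprod.inr : D' ⟶ K ⊞ D').f n ≫ (cokernel.π (fmap α β)).f n) := by
  have hS := (FilKInj1.shortExact_cokernel (fmap α β)).map_of_exact
    (HomologicalComplex.eval A (ComplexShape.up ℤ) n)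
  have hfπ : (fmap α β).f n ≫ (cokernel.π (fmap α β)).f n = 0 := by
    rw [← HomologicalComplex.comp_f, cokernel.condition, HomologicalComplex.zero_f]
  haveI : Epi ((cokernel.π (fmap α β)).f n) := hS.epi_g
  haveI : Mono ((fmap α β).f n) := hS.mono_f
  haveI := hS.mono_f
  haveI : Epi ((biprod.inr : D' ⟶ K ⊞ D').f n ≫ (cokernel.π (fmap α β)).f n) := by
    apply Preadditive.epi_of_cancel_zero
    intro R h hh
    rw [Category.assoc] at hh
    have e2 : (fmap α β).f n ≫ (cokernel.π (fmap α β)).f n ≫ h = 0 := by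
      rw [← Category.assoc, hfπ, zero_comp]
    have e3 : (biprod.inl : K ⟶ K ⊞ D').f n ≫ (cokernel.π (fmap α β)).f n ≫ h = 0 := by
      rw [fmap_f, Preadditive.sub_comp, Category.assoc, Category.assoc, hh, comp_zero,
        sub_zero] at e2
      exact (cancel_epi (α.f n)).1 (e2.trans comp_zero.symm)
    have e4 : (cokernel.π (fmap α β)).f n ≫ h = 0 := by
      calc (cokernel.π (fmap α β)).f n ≫ h = 𝟙 _ ≫ (cokernel.π (fmap α β)).f n ≫ h :=
            (Category.id_comp _).symm
        _ = 0 := by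
          rw [← total_f K D' n, Preadditive.add_comp, Category.assoc, e3, Category.assoc, hh,
            comp_zero, comp_zero, add_zero]
    exact (cancel_epi ((cokernel.π (fmap α β)).f n)).1 (e4.trans comp_zero.symm)
  haveI : Mono ((biprod.inr : D' ⟶ K ⊞ D').f n ≫ (cokernel.π (fmap α β)).f n) := by
    apply Preadditive.mono_of_cancel_zero
    intro R g' hg'
    have hk : (g' ≫ (biprod.inr : D' ⟶ K ⊞ D').f n) ≫
        ((ShortComplex.mk (fmap α β) (cokernel.π (fmap α β)) (cokernel.condition _)).map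
          (HomologicalComplex.eval A (ComplexShape.up ℤ) n)).g = 0 := by
      rw [Category.assoc]
      exact hg'
    obtain ⟨y, hy⟩ : ∃ y : R ⟶ D.X n, y ≫ (fmap α β).f n =
        g' ≫ (biprod.inr : D' ⟶ K ⊞ D').f n := ⟨hS.exact.lift _ hk, hS.exact.lift_f _ hk⟩
    have hy0 : y = 0 := by
      have h1 : y ≫ α.f n = 0 := by
        rw [← fmap_f_fst α β n, ← Category.assoc, hy, Category.assoc, inr_f_fst_f, comp_zero]
      exact (cancel_mono (α.f n)).1 (h1.trans zero_comp.symm)
    have h2 : g' ≫ (biprod.inr : D' ⟶ K ⊞ D').f n = 0 := by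
      rw [← hy, hy0, zero_comp]
    calc g' = g' ≫ (biprod.inr : D' ⟶ K ⊞ D').f n ≫ (biprod.snd : K ⊞ D' ⟶ D').f n := by
          rw [inr_f_snd_f, Category.comp_id]
      _ = 0 := by rw [← Category.assoc, h2, zero_comp]
  exact isIso_of_mono_of_epi _

end Abstract

section Disk

lemma rel (n : ℤ) : (ComplexShape.up ℤ).Rel n (n + 1) := rfl

lemma ne (n : ℤ) : n ≠ n + 1 := by omega

/-- the disk complex `X = X` in degrees `n`, `n + 1` -/
noncomputable abbrev disk (n : ℤ) (X : A) : CochainComplex A ℤ :=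
  HomologicalComplex.double (𝟙 X) (rel n)

lemma disk_acyclic (n : ℤ) (X : A) : (disk n X).Acyclic := by
  intro j
  by_cases h0 : j = n
  · subst h0
    rw [HomologicalComplex.exactAt_iff' _ (j - 1) j (j + 1) (by simp) (by simp)]
    refine (ShortComplex.exact_iff_mono _ ?_).2 ?_
    · show (disk j X).d (j - 1) j = 0
      exact HomologicalComplex.double_d_eq_zero₀ (𝟙 X) (rel j) _ _ (by omega)
    · show Mono ((disk j X).d j (j + 1))
      rw [HomologicalComplex.double_d _ _ (ne j)]
      infer_instance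
  · by_cases h1 : j = n + 1
    · subst h1
      rw [HomologicalComplex.exactAt_iff' _ n (n + 1) (n + 1 + 1) (by simp) (by simp)]
      refine (ShortComplex.exact_iff_epi _ ?_).2 ?_
      · show (disk n X).d (n + 1) (n + 1 + 1) = 0
        exact HomologicalComplex.double_d_eq_zero₀ (𝟙 X) (rel n) _ _ (by omega)
      · show Epi ((disk n X).d n (n + 1))
        rw [HomologicalComplex.double_d _ _ (ne n)]
        infer_instance
    · exact ShortComplex.exact_of_isZero_X₂ _ (HomologicalComplex.isZero_double_X (𝟙 X) (rel n) j h0 h1)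

variable (n : ℤ) (K : CochainComplex A ℤ) {I : A} (u : K.X n ⟶ I)

/-- the map from the disk on `K.X n` to `K` -/
noncomputable def αmap : disk n (K.X n) ⟶ K :=
  HomologicalComplex.mkHomFromDouble (rel n) (ne n) (𝟙 (K.X n)) (K.d n (n + 1)) (by simp)
    (fun k _ => K.d_comp_d _ _ _)

/-- the map of disks induced by `u` -/
noncomputable def βmap : disk n (K.X n) ⟶ disk n I :=
  HomologicalComplex.mkHomFromDouble (rel n) (ne n)
    (u ≫ (HomologicalComplex.doubleXIso₀ (𝟙 I) (rel n)).inv)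
    (u ≫ (HomologicalComplex.doubleXIso₁ (𝟙 I) (rel n) (ne n)).inv)
    (by rw [HomologicalComplex.double_d _ _ (ne n)]; simp)
    (fun k _ => by rw [HomologicalComplex.double_d_eq_zero₀ _ _ _ _ (by omega), comp_zero])

lemma αmap_f₀ : (αmap n K).f n =
    (HomologicalComplex.doubleXIso₀ (𝟙 (K.X n)) (rel n)).hom ≫ 𝟙 _ :=
  HomologicalComplex.mkHomFromDouble_f₀ _ _ _ _ _ _

lemma αmap_f₁ : (αmap n K).f (n + 1) =
    (HomologicalComplex.doubleXIso₁ (𝟙 (K.X n)) (rel n) (ne n)).hom ≫ K.d n (n + 1) :=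
  HomologicalComplex.mkHomFromDouble_f₁ _ _ _ _ _ _

lemma βmap_f₁ : (βmap n K u).f (n + 1) =
    (HomologicalComplex.doubleXIso₁ (𝟙 (K.X n)) (rel n) (ne n)).hom ≫
      u ≫ (HomologicalComplex.doubleXIso₁ (𝟙 I) (rel n) (ne n)).inv :=
  HomologicalComplex.mkHomFromDouble_f₁ _ _ _ _ _ _

lemma mono_fmap [Mono (K.iCycles n ≫ u)] : Mono (fmap (αmap n K) (βmap n K u)) := by
  apply HomologicalComplex.mono_of_mono_f
  intro j
  by_cases h0 : j = n
  · subst h0
    have e := fmap_f_fst (αmap j K) (βmap j K u) j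
    rw [αmap_f₀] at e
    exact mono_of_mono_fac e
  · by_cases h1 : j = n + 1
    · subst h1
      apply Preadditive.mono_of_cancel_zero
      intro R g hg
      have h1 : g ≫ (αmap n K).f (n + 1) = 0 := by
        rw [← fmap_f_fst (αmap n K) (βmap n K u) (n + 1), ← Category.assoc, hg, zero_comp]
      have h2 : g ≫ (βmap n K u).f (n + 1) = 0 := by
        have := fmap_f_snd (αmap n K) (βmap n K u) (n + 1)
        rw [← neg_eq_zero, ← Preadditive.comp_neg, ← this, ← Category.assoc, hg, zero_comp]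
      rw [αmap_f₁, ← Category.assoc] at h1
      rw [βmap_f₁, ← Category.assoc, ← Category.assoc] at h2
      have h2' : (g ≫ (HomologicalComplex.doubleXIso₁ (𝟙 (K.X n)) (rel n) (ne n)).hom) ≫ u = 0 :=
        (cancel_mono (HomologicalComplex.doubleXIso₁ (𝟙 I) (rel n) (ne n)).inv).1
          (h2.trans zero_comp.symm)
      have h3 : K.liftCycles _ (n + 1) (by simp) h1 = 0 := by
        apply (cancel_mono (K.iCycles n ≫ u)).1
        rw [zero_comp, ← Category.assoc, HomologicalComplex.liftCycles_i, h2']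
      have h4 : g ≫ (HomologicalComplex.doubleXIso₁ (𝟙 (K.X n)) (rel n) (ne n)).hom = 0 := by
        rw [← K.liftCycles_i _ (n + 1) (by simp) h1, h3, zero_comp]
      exact (cancel_mono (HomologicalComplex.doubleXIso₁ (𝟙 (K.X n)) (rel n) (ne n)).hom).1
        (h4.trans zero_comp.symm)
    · exact (HomologicalComplex.isZero_double_X _ _ j h0 h1).mono _

theorem step [Mono (K.iCycles n ≫ u)] :
    ∃ (K' : CochainComplex A ℤ) (g : K ⟶ K'), QuasiIso g ∧ (∀ j, j < n → IsIso (g.f j)) ∧
      Nonempty (K'.X n ≅ I) := by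
  haveI := mono_fmap n K u
  refine ⟨newCx (αmap n K) (βmap n K u), gmap _ _,
    quasiIso_gmap _ _ (disk_acyclic n _) (disk_acyclic n _),
    fun j hj => isIso_gmap_f _ _ j
      (HomologicalComplex.isZero_double_X _ _ j (by omega) (by omega))
      (HomologicalComplex.isZero_double_X _ _ j (by omega) (by omega)), ?_⟩
  haveI : IsIso ((αmap n K).f n) := by
    rw [αmap_f₀]
    infer_instance
  haveI := isIso_inr_π (αmap n K) (βmap n K u) n inferInstance
  exact ⟨(asIso ((biprod.inr : disk n I ⟶ K ⊞ disk n I).f n ≫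
    (cokernel.π (fmap (αmap n K) (βmap n K u))).f n)).symm ≪≫
    HomologicalComplex.doubleXIso₀ (𝟙 I) (rel n)⟩

end Disk

end Groth.Agent.Lib.EssInj1
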