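import Mathlib
import Groth.Agent.Lib.LerayBB_helper7
import Groth.Agent.Lib.KInjGen5_helper7
import Groth.Agent.Lib.FilKInj1_helper7
import Groth.Agent.Lib.EssInj1_helper7

/-!
# Two out of three for the unit of the total right derived functor along degreewise split
short exact sequences of complexes (helper7)
-/

set_option autoImplicit false
universe w w' v u v' u'
open CategoryTheory Limits

namespace Groth.Agent.Lib.TwoOfThree

section Res

variable {A : Type u} [Category.{v} A] [Abelian A] [IsGrothendieckAbelian.{v} A]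

/-- A short exact sequence of complexes admits a compatible short exact sequence of K-injective
resolutions whose first term is termwise injective. -/
theorem exists_resolution_ses (S : ShortComplex (CochainComplex A ℤ)) (hS : S.ShortExact) :
    ∃ (S₂ : ShortComplex (CochainComplex A ℤ)) (φ : S ⟶ S₂), S₂.ShortExact ∧
      S₂.X₁.IsKInjective ∧ S₂.X₂.IsKInjective ∧ S₂.X₃.IsKInjective ∧
      (∀ n, Injective (S₂.X₁.X n)) ∧ QuasiIso φ.τ₁ ∧ QuasiIso φ.τ₂ ∧ QuasiIso φ.τ₃ := by
  haveI := hS.mono_f
  haveI := hS.epi_g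
  obtain ⟨I', j', hI', hj', hmono', hinj'⟩ := KInjGen5.exists_resolution S.X₁
  haveI : Mono j' := HomologicalComplex.mono_of_mono_f j' hmono'
  haveI : Mono (pushout.inl S.f j') := Abelian.mono_pushout_of_mono_g S.f j'
  haveI : Mono (pushout.inr S.f j') := Abelian.mono_pushout_of_mono_f S.f j'
  -- the cokernel of `inl` is the cokernel of `j'`
  have hw : S.f ≫ (0 : S.X₂ ⟶ cokernel j') = j' ≫ cokernel.π j' := by
    rw [comp_zero, cokernel.condition]
  let c : pushout S.f j' ⟶ cokernel j' := pushout.desc 0 (cokernel.π j') hw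
  have hc1 : pushout.inl S.f j' ≫ c = 0 := pushout.inl_desc _ _ _
  have hc2 : pushout.inr S.f j' ≫ c = cokernel.π j' := pushout.inr_desc _ _ _
  have hcok : IsColimit (CokernelCofork.ofπ c hc1) :=
    CokernelCofork.IsColimit.ofπ _ _
      (fun {Z} g' hg' => cokernel.desc j' (pushout.inr S.f j' ≫ g') (by
        rw [← Category.assoc, ← pushout.condition, Category.assoc, hg', comp_zero]))
      (fun {Z} g' hg' => by
        apply pushout.hom_ext
        · rw [← Category.assoc, hc1, zero_comp, hg']
        · rw [← Category.assoc, hc2, cokernel.π_desc])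
      (fun {Z} g' hg' b hb => by
        rw [← cancel_epi (cokernel.π j'), cokernel.π_desc, ← hc2, Category.assoc, hb])
  haveI : Epi c := epi_of_epi_fac hc2
  have hT : (ShortComplex.mk (pushout.inl S.f j') c hc1).ShortExact :=
    ShortComplex.ShortExact.mk' (ShortComplex.exact_of_g_is_cokernel _ hcok)
      (by dsimp; infer_instance) (by dsimp; infer_instance)
  have hacyc : (cokernel j').Acyclic := (FilKInj1.shortExact_cokernel j').acyclic_X₃ hj'
  have hinl : QuasiIso (pushout.inl S.f j') :=
    EssInj1.quasiIso_f_of_acyclic _ hT hacyc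
  -- resolve the pushout
  obtain ⟨I, jI, hI, hjI, hmonoI, hinjI⟩ := KInjGen5.exists_resolution (pushout S.f j')
  haveI : Mono jI := HomologicalComplex.mono_of_mono_f jI hmonoI
  let i : I' ⟶ I := pushout.inr S.f j' ≫ jI
  let j : S.X₂ ⟶ I := pushout.inl S.f j' ≫ jI
  haveI : Mono i := mono_comp _ _
  have hj : QuasiIso j := by
    haveI := hinl
    haveI := hjI
    exact inferInstanceAs (QuasiIso (pushout.inl S.f j' ≫ jI))
  have hcomm : S.f ≫ j = j' ≫ i := by
    show S.f ≫ pushout.inl S.f j' ≫ jI = j' ≫ pushout.inr S.f j' ≫ jI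
    rw [← Category.assoc, pushout.condition, Category.assoc]
  haveI := hI'
  haveI := hI
  haveI : (cokernel i).IsKInjective := FilKInj1.isKInjective_cokernel i hinj'
  have hS₂ := FilKInj1.shortExact_cokernel i
  have hz : S.f ≫ j ≫ cokernel.π i = 0 := by
    rw [← Category.assoc, hcomm, Category.assoc, cokernel.condition, comp_zero]
  let j'' : S.X₃ ⟶ cokernel i := hS.exact.desc (j ≫ cokernel.π i) hz
  have hj'' : S.g ≫ j'' = j ≫ cokernel.π i := hS.exact.g_desc _ hz
  let φ : S ⟶ ShortComplex.mk i (cokernel.π i) (cokernel.condition i) :=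
    { τ₁ := j', τ₂ := j, τ₃ := j'', comm₁₂ := hcomm.symm, comm₂₃ := hj''.symm }
  have hτ₃ : QuasiIso φ.τ₃ :=
    HomologicalComplex.HomologySequence.quasiIso_τ₃ φ hS hS₂ hj' hj
  exact ⟨_, φ, hS₂, hI', hI, inferInstanceAs (cokernel i).IsKInjective, hinj', hj', hj, hτ₃⟩

end Res

section Main

variable {A : Type u} [Category.{v} A] [Abelian A] [IsGrothendieckAbelian.{v} A]
  [HasDerivedCategory.{w} A]
  {B : Type u'} [Category.{v'} B] [Abelian B] [HasDerivedCategory.{w'} B] (F : A ⥤ B) [F.Additive]

lemma isIso_iff_quasiIso {X Y : CochainComplex A ℤ} (f : X ⟶ Y) :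
    IsIso (DerivedCategory.Qh.map ((F.mapHomotopyCategory (ComplexShape.up ℤ)).map
      ((HomotopyCategory.quotient A (ComplexShape.up ℤ)).map f))) ↔
    QuasiIso ((F.mapHomologicalComplex (ComplexShape.up ℤ)).map f) := by
  show IsIso (DerivedCategory.Qh.map ((HomotopyCategory.quotient B (ComplexShape.up ℤ)).map
      ((F.mapHomologicalComplex (ComplexShape.up ℤ)).map f))) ↔ _
  rw [DerivedCategory.isIso_Qh_map_iff, HomotopyCategory.quotient_map_mem_quasiIso_iff,
    HomologicalComplex.mem_quasiIso_iff]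

lemma shortExact_map (S : ShortComplex (CochainComplex A ℤ))
    (hsp : ∀ n, Nonempty ((S.map (HomologicalComplex.eval A (ComplexShape.up ℤ) n)).Splitting)) :
    (S.map (F.mapHomologicalComplex (ComplexShape.up ℤ))).ShortExact := by
  apply HomologicalComplex.shortExact_of_degreewise_shortExact
  intro n
  obtain ⟨σ⟩ := hsp n
  have σ' : ((S.map (F.mapHomologicalComplex (ComplexShape.up ℤ))).map
      (HomologicalComplex.eval B (ComplexShape.up ℤ) n)).Splitting := σ.map F
  exact σ'.shortExact

variable [(F.mapHomotopyCategory (ComplexShape.up ℤ) ⋙ DerivedCategory.Qh).HasRightDerivedFunctor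
    (HomotopyCategory.quasiIso A (ComplexShape.up ℤ))]

/-- two out of three for the unit along a degreewise split short exact sequence -/
theorem isIso_unit_X₃ (S : ShortComplex (CochainComplex A ℤ)) (hS : S.ShortExact)
    (hsp : ∀ n, Nonempty ((S.map (HomologicalComplex.eval A (ComplexShape.up ℤ) n)).Splitting))
    (h₁ : IsIso ((LerayBB.α F).app ((HomotopyCategory.quotient A (ComplexShape.up ℤ)).obj S.X₁)))
    (h₂ : IsIso ((LerayBB.α F).app ((HomotopyCategory.quotient A (ComplexShape.up ℤ)).obj S.X₂))) :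
    IsIso ((LerayBB.α F).app ((HomotopyCategory.quotient A (ComplexShape.up ℤ)).obj S.X₃)) := by
  obtain ⟨S₂, φ, hS₂, hK₁, hK₂, hK₃, hinj, hq₁, hq₂, hq₃⟩ := exists_resolution_ses S hS
  haveI := hK₁
  haveI := hK₂
  haveI := hK₃
  haveI := hq₁
  haveI := hq₂
  haveI := hq₃
  rw [LerayBB.isIso_unit_iff F φ.τ₁, isIso_iff_quasiIso] at h₁
  rw [LerayBB.isIso_unit_iff F φ.τ₂, isIso_iff_quasiIso] at h₂
  rw [LerayBB.isIso_unit_iff F φ.τ₃, isIso_iff_quasiIso]
  have hGS : (S.map (F.mapHomologicalComplex (ComplexShape.up ℤ))).ShortExact :=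
    shortExact_map F S hsp
  have hGS₂ : (S₂.map (F.mapHomologicalComplex (ComplexShape.up ℤ))).ShortExact :=
    shortExact_map F S₂ (fun n => by
      haveI := hinj n
      exact FilKInj1.nonempty_splitting_of_injective S₂ hS₂ n)
  let ψ : S.map (F.mapHomologicalComplex (ComplexShape.up ℤ)) ⟶
      S₂.map (F.mapHomologicalComplex (ComplexShape.up ℤ)) :=
    { τ₁ := (F.mapHomologicalComplex (ComplexShape.up ℤ)).map φ.τ₁
      τ₂ := (F.mapHomologicalComplex (ComplexShape.up ℤ)).map φ.τ₂
      τ₃ := (F.mapHomologicalComplex (ComplexShape.up ℤ)).map φ.τ₃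
      comm₁₂ := by
        show (F.mapHomologicalComplex (ComplexShape.up ℤ)).map φ.τ₁ ≫
          (F.mapHomologicalComplex (ComplexShape.up ℤ)).map S₂.f =
          (F.mapHomologicalComplex (ComplexShape.up ℤ)).map S.f ≫
            (F.mapHomologicalComplex (ComplexShape.up ℤ)).map φ.τ₂
        rw [← Functor.map_comp, ← Functor.map_comp, φ.comm₁₂]
      comm₂₃ := by
        show (F.mapHomologicalComplex (ComplexShape.up ℤ)).map φ.τ₂ ≫
          (F.mapHomologicalComplex (ComplexShape.up ℤ)).map S₂.g =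
          (F.mapHomologicalComplex (ComplexShape.up ℤ)).map S.g ≫
            (F.mapHomologicalComplex (ComplexShape.up ℤ)).map φ.τ₃
        rw [← Functor.map_comp, ← Functor.map_comp, φ.comm₂₃] }
  exact HomologicalComplex.HomologySequence.quasiIso_τ₃ ψ hGS hGS₂ h₁ h₂

end Main

end Groth.Agent.Lib.TwoOfThree
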