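import Mathlib
import Groth.Agent.Lib.CoprodD_helper7
import Groth.Agent.Lib.Telescope_helper7
import Groth.Agent.Lib.StupidTr_helper7
import Groth.Agent.Lib.LerayBB_helper7
import Groth.Agent.Lib.TwoOfThree_helper7
import Groth.Agent.Lib.CoprodPres_helper7

/-!
# The unit of the total right derived functor on complexes of acyclic objects, when the derived
functor commutes with countable coproducts (helper7)
-/

set_option autoImplicit false
universe w w' v u
open CategoryTheory Limits

namespace Groth.Agent.Lib.AcycUnit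

lemma neg_succ_le (n : ℕ) : -(((n + 1 : ℕ)) : ℤ) ≤ -(n : ℤ) := by
  push_cast
  omega

section Sig

variable {A : Type u} [Category.{v} A] [Abelian A] {J : Type} [HasColimitsOfShape (Discrete J) A]
  (L : J → CochainComplex A ℤ)

/-- terms of the degreewise coproduct -/
noncomputable abbrev sigX (p : ℤ) : A := ∐ fun j => (L j).X p

/-- differential of the degreewise coproduct -/
noncomputable def sigD (p : ℤ) : sigX L p ⟶ sigX L (p + 1) :=
  Limits.Sigma.map (fun j => (L j).d p (p + 1))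

lemma sigD_sigD (p : ℤ) : sigD L p ≫ sigD L (p + 1) = 0 := by
  apply Limits.Sigma.hom_ext
  intro j
  rw [sigD, sigD, Limits.Sigma.ι_map_assoc, Limits.Sigma.ι_map, ← Category.assoc,
    HomologicalComplex.d_comp_d, zero_comp, comp_zero]

/-- the degreewise coproduct -/
noncomputable def sig : CochainComplex A ℤ := CochainComplex.of (sigX L) (sigD L) (sigD_sigD L)

lemma sig_d (p : ℤ) : (sig L).d p (p + 1) = sigD L p := CochainComplex.of_d _ _ p

/-- the inclusions -/
noncomputable def sigι (j : J) : L j ⟶ sig L :=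
  CochainComplex.ofHom (fun p => Sigma.ι (fun j => (L j).X p) j) (fun p => by
    rw [sig_d]
    exact Limits.Sigma.ι_map _ _)

/-- degreewise it is a coproduct -/
noncomputable def sigHc (p : ℤ) :
    IsColimit (Cofan.mk ((sig L).X p) (fun j => (sigι L j).f p)) :=
  coproductIsCoproduct (fun j => (L j).X p)

end Sig

section Tel

variable {A : Type u} [Category.{v} A] [Abelian A]
variable {L : ℕ → CochainComplex A ℤ} {Y Sg : CochainComplex A ℤ}
  (s : ∀ n, L n ⟶ L (n + 1)) (u : ∀ n, L n ⟶ Y) (hsu : ∀ n, s n ≫ u (n + 1) = u n)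
  (ι : ∀ n, L n ⟶ Sg) (hc : ∀ p : ℤ, IsColimit (Cofan.mk (Sg.X p) (fun n => (ι n).f p)))

/-- `1 - shift` on the coproduct -/
noncomputable def Dm : Sg ⟶ Sg := CoprodD.desc ι hc (fun n => ι n - s n ≫ ι (n + 1))

/-- the canonical map to the colimit -/
noncomputable def Pm : Sg ⟶ Y := CoprodD.desc ι hc u

lemma ι_Dm (n : ℕ) : ι n ≫ Dm s ι hc = ι n - s n ≫ ι (n + 1) := CoprodD.ι_desc ι hc _ n

lemma ι_Pm (n : ℕ) : ι n ≫ Pm u ι hc = u n := CoprodD.ι_desc ι hc _ n

include hsu in
lemma Dm_Pm : Dm s ι hc ≫ Pm u ι hc = 0 := by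
  apply CoprodD.hom_ext ι hc
  intro n
  rw [← Category.assoc, ι_Dm, Preadditive.sub_comp, Category.assoc, ι_Pm, ι_Pm, hsu, sub_self,
    comp_zero]

/-- the telescope short complex -/
noncomputable def telSC : ShortComplex (CochainComplex A ℤ) :=
  ShortComplex.mk (Dm s ι hc) (Pm u ι hc) (Dm_Pm s u hsu ι hc)

lemma Dm_f (m : ℤ) : (Dm s ι hc).f m =
    Telescope.D (fun n => (s n).f m) (fun n => (ι n).f m) (hc m) := by
  have hg : (fun n => (ι n - s n ≫ ι (n + 1)).f m) =
      (fun n => (ι n).f m - (s n).f m ≫ (ι (n + 1)).f m) := by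
    funext n
    rw [HomologicalComplex.sub_f_apply, HomologicalComplex.comp_f]
  exact congrArg (Cofan.IsColimit.desc (hc m)) hg

lemma Pm_f (m : ℤ) : (Pm u ι hc).f m =
    Telescope.P (fun n => (u n).f m) (fun n => (ι n).f m) (hc m) := rfl

/-- the telescope sequence is degreewise split -/
noncomputable def telSplitting (m : ℤ) (n₀ : ℕ) (hiso : ∀ n, n₀ ≤ n → IsIso ((u n).f m))
    (hzero : ∀ n, n < n₀ → IsZero ((L n).X m)) :
    ((telSC s u hsu ι hc).map (HomologicalComplex.eval A (ComplexShape.up ℤ) m)).Splitting := by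
  have hsu' : ∀ n, (s n).f m ≫ (u (n + 1)).f m = (u n).f m := fun n =>
    congrArg (fun φ => φ.f m) (hsu n)
  let σ := Telescope.splitting (fun n => (s n).f m) (fun n => (u n).f m) hsu'
    (fun n => (ι n).f m) (hc m) n₀ hiso hzero
  exact
    { r := σ.r
      s := σ.s
      f_r := by
        show (Dm s ι hc).f m ≫ σ.r = 𝟙 _
        rw [Dm_f]
        exact σ.f_r
      s_g := by
        show σ.s ≫ (Pm u ι hc).f m = 𝟙 _
        rw [Pm_f]
        exact σ.s_g
      id := by
        show σ.r ≫ (Dm s ι hc).f m + (Pm u ι hc).f m ≫ σ.s = 𝟙 _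
        rw [Dm_f, Pm_f]
        exact σ.id }

include hsu in
lemma telSC_shortExact (hn : ∀ m : ℤ, ∃ n₀ : ℕ, (∀ n, n₀ ≤ n → IsIso ((u n).f m)) ∧
    ∀ n, n < n₀ → IsZero ((L n).X m)) : (telSC s u hsu ι hc).ShortExact := by
  apply HomologicalComplex.shortExact_of_degreewise_shortExact
  intro m
  obtain ⟨n₀, h1, h2⟩ := hn m
  exact (telSplitting s u hsu ι hc m n₀ h1 h2).shortExact

end Tel

section Main

variable {A : Type u} [Category.{v} A] [Abelian A] [IsGrothendieckAbelian.{v} A]
  [HasDerivedCategory.{w} A] [HasDerivedCategory.{w'} AddCommGrpCat.{v}]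
  (F : A ⥤ AddCommGrpCat.{v}) [F.Additive] [PreservesFiniteLimits F]
  [(F.mapHomotopyCategory (ComplexShape.up ℤ) ⋙ DerivedCategory.Qh).HasRightDerivedFunctor
    (HomotopyCategory.quasiIso A (ComplexShape.up ℤ))]

/-- the unit is an isomorphism on the degreewise coproduct of bounded below complexes of acyclic
objects -/
theorem isIso_unit_sig [PreservesColimitsOfShape (Discrete ℕ) F]
    [PreservesColimitsOfShape (Discrete ℕ) (RDerGE.RF F)]
    (L : ℕ → CochainComplex A ℤ)
    (hα : ∀ n, IsIso ((LerayBB.α F).app ((HomotopyCategory.quotient A (ComplexShape.up ℤ)).obj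
      (L n)))) :
    IsIso ((LerayBB.α F).app ((HomotopyCategory.quotient A (ComplexShape.up ℤ)).obj (sig L))) := by
  have hcF : ∀ p : ℤ, IsColimit (Cofan.mk
      (((F.mapHomologicalComplex (ComplexShape.up ℤ)).obj (sig L)).X p)
      (fun n => ((F.mapHomologicalComplex (ComplexShape.up ℤ)).map (sigι L n)).f p)) := fun p =>
    isColimitCofanMkObjOfIsColimit F _ _ (sigHc L p)
  have h₁ := CoprodD.isColimitCofan (A := AddCommGrpCat.{v})
    (fun n => (F.mapHomologicalComplex (ComplexShape.up ℤ)).map (sigι L n)) hcF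
  have h₂ := isColimitCofanMkObjOfIsColimit (RDerGE.RF F) _ _
    (CoprodD.isColimitCofan (sigι L) (sigHc L))
  exact CoprodD.isIso_app_of_cofan (LerayBB.α F)
    (fun n => (HomotopyCategory.quotient A (ComplexShape.up ℤ)).map (sigι L n)) h₁ h₂ hα

theorem main
    (hcolim : ∀ (n : ℕ) (J : Type v) [SmallCategory J] [IsFiltered J],
      PreservesColimitsOfShape J (F.rightDerived n))
    [PreservesColimitsOfShape (Discrete ℕ) (RDerGE.RF F)]
    (K : CochainComplex A ℤ)
    (hK : ∀ (m : ℤ) (i : ℕ), 0 < i → IsZero ((F.rightDerived i).obj (K.X m))) :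
    IsIso ((LerayBB.α F).app ((HomotopyCategory.quotient A (ComplexShape.up ℤ)).obj K)) := by
  haveI : PreservesColimitsOfShape (Discrete ℕ) F :=
    CoprodPres.preservesNatCoproducts_ab F (hcolim 0)
  let L : ℕ → CochainComplex A ℤ := fun n => StupidTr.tr K (-(n : ℤ))
  let s : ∀ n, L n ⟶ L (n + 1) := fun n => StupidTr.trMap K (neg_succ_le n)
  let u : ∀ n, L n ⟶ K := fun n => StupidTr.trι K _
  have hsu : ∀ n, s n ≫ u (n + 1) = u n := fun n => StupidTr.trMap_trι K _
  have hn : ∀ m : ℤ, ∃ n₀ : ℕ, (∀ n, n₀ ≤ n → IsIso ((u n).f m)) ∧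
      ∀ n, n < n₀ → IsZero ((L n).X m) := fun m =>
    ⟨(-m).toNat, fun n h => StupidTr.isIso_trι_f K _ (by omega),
      fun n h => StupidTr.isZero_tr_X K _ (by omega)⟩
  have hT := telSC_shortExact s u hsu (sigι L) (sigHc L) hn
  have hsp : ∀ m, Nonempty (((telSC s u hsu (sigι L) (sigHc L)).map
      (HomologicalComplex.eval A (ComplexShape.up ℤ) m)).Splitting) := fun m => by
    obtain ⟨n₀, h1, h2⟩ := hn m
    exact ⟨telSplitting s u hsu (sigι L) (sigHc L) m n₀ h1 h2⟩
  have hterms : ∀ n m, FAcyc.acyc F ((L n).X m) := by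
    intro n m
    by_cases h : -(n : ℤ) ≤ m
    · haveI := StupidTr.isIso_trι_f K (-(n : ℤ)) h
      exact UnbRDer.acyc_of_iso F (asIso ((StupidTr.trι K (-(n : ℤ))).f m)).symm (hK m)
    · exact UnbRDer.acyc_of_isZero F (StupidTr.isZero_tr_X K _ h)
  have hαL : ∀ n, IsIso ((LerayBB.α F).app
      ((HomotopyCategory.quotient A (ComplexShape.up ℤ)).obj (L n))) := fun n =>
    LerayBB.isIso_unit_of_bddBelow F (L n) (-(n : ℤ))
      (fun m hm => StupidTr.isZero_tr_X K _ (by omega)) (hterms n)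
  have hSig := isIso_unit_sig F L hαL
  exact TwoOfThree.isIso_unit_X₃ F (telSC s u hsu (sigι L) (sigHc L)) hT hsp hSig hSig

end Main

end Groth.Agent.Lib.AcycUnit
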