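import Mathlib

namespace Groth.Agent.Lib.AcyclicTensorH8
open CategoryTheory Limits

variable {𝒜 ℬ : Type*} [Category 𝒜] [Category ℬ] [Abelian 𝒜] [Abelian ℬ]

section
variable (M : ChainComplex 𝒜 ℤ)

lemma iCycles_toCycles (i j : ℤ) : M.iCycles i ≫ M.toCycles i j = 0 := by
  rw [← cancel_mono (M.iCycles j), Category.assoc, M.toCycles_i, M.iCycles_d, zero_comp]

/-- the short complex `Z_i → M_i → Z_j` -/
noncomputable def cyclesSC (i j : ℤ) : ShortComplex 𝒜 :=
  ShortComplex.mk (M.iCycles i) (M.toCycles i j) (iCycles_toCycles M i j)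

lemma cyclesSC_shortExact (i j : ℤ) (hij : j + 1 = i) (hj : M.ExactAt j) :
    (cyclesSC M i j).ShortExact := by
  have hnext : (ComplexShape.down ℤ).next i = j := by
    rw [ChainComplex.next]; omega
  have hprev : (ComplexShape.down ℤ).prev j = i := by
    rw [ChainComplex.prev]; exact hij
  haveI : Mono (cyclesSC M i j).f := inferInstanceAs (Mono (M.iCycles i))
  haveI : Epi (cyclesSC M i j).g := by
    show Epi (M.toCycles i j)
    exact Preadditive.epi_of_isZero_cokernel' _ (M.homologyIsCokernel i j hprev)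
      hj.isZero_homology
  refine ShortComplex.ShortExact.mk ?_
  apply ShortComplex.exact_of_f_is_kernel
  exact isKernelOfComp (M.iCycles j) (M.d i j) (M.cyclesIsKernel i j hnext)
    (iCycles_toCycles M i j) (M.toCycles_i i j)

end

theorem acyclic_map_of_flat (T : 𝒜 ⥤ ℬ) [T.PreservesZeroMorphisms] (P : 𝒜 → Prop)
    (hzero : ∀ X, IsZero X → P X)
    (h23 : ∀ S : ShortComplex 𝒜, S.ShortExact → P S.X₂ → P S.X₃ → P S.X₁)
    (hT : ∀ S : ShortComplex 𝒜, S.ShortExact → P S.X₃ → (S.map T).ShortExact)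
    (M : ChainComplex 𝒜 ℤ) (hb : ∃ i₀ : ℤ, ∀ i, i < i₀ → IsZero (M.X i))
    (hM : ∀ i, P (M.X i)) (hac : M.Acyclic) :
    ((T.mapHomologicalComplex (ComplexShape.down ℤ)).obj M).Acyclic := by
  have hZ : ∀ k, P (M.cycles k) := by
    obtain ⟨i₀, h0⟩ := hb
    have base : ∀ k, k < i₀ → P (M.cycles k) := fun k hk =>
      hzero _ (IsZero.of_mono (M.iCycles k) (h0 k hk))
    have step : ∀ n : ℕ, P (M.cycles (i₀ - 1 + n)) := by
      intro n
      induction n with
      | zero => exact base _ (by simp)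
      | succ n ih =>
        have hrel : (i₀ - 1 + (n : ℤ)) + 1 = i₀ - 1 + ((n + 1 : ℕ) : ℤ) := by
          push_cast; ring
        exact h23 _ (cyclesSC_shortExact M _ _ hrel (hac _)) (hM _) ih
    intro k
    by_cases hk : k < i₀
    · exact base k hk
    · have hk' : k = i₀ - 1 + (((k - (i₀ - 1)).toNat : ℕ) : ℤ) := by
        rw [Int.toNat_of_nonneg (by omega)]; ring
      rw [hk']
      exact step _
  intro i
  rw [HomologicalComplex.exactAt_iff' _ (i + 1) i (i - 1) (by simp) (by simp)]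
  have h1 := hT _ (cyclesSC_shortExact M (i + 1) i rfl (hac i)) (hZ i)
  have h2 := hT _ (cyclesSC_shortExact M i (i - 1) (by ring) (hac (i - 1))) (hZ (i - 1))
  have h3 := hT _ (cyclesSC_shortExact M (i - 1) (i - 1 - 1) (by ring) (hac (i - 1 - 1)))
    (hZ (i - 1 - 1))
  haveI : Epi (T.map (M.toCycles (i + 1) i)) := h1.epi_g
  haveI : Mono (T.map (M.iCycles (i - 1))) := h3.mono_f
  have hz : T.map (M.d (i + 1) i) ≫ T.map (M.toCycles i (i - 1)) = 0 := by
    rw [← T.map_comp]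
    have : M.d (i + 1) i ≫ M.toCycles i (i - 1) = 0 := by
      rw [← cancel_mono (M.iCycles (i - 1)), Category.assoc, M.toCycles_i, M.d_comp_d, zero_comp]
    rw [this, T.map_zero]
  let Smid : ShortComplex ℬ := ShortComplex.mk _ _ hz
  let φ1 : Smid ⟶ ((T.mapHomologicalComplex (ComplexShape.down ℤ)).obj M).sc' (i + 1) i (i - 1) :=
    { τ₁ := 𝟙 _
      τ₂ := 𝟙 _
      τ₃ := T.map (M.iCycles (i - 1))
      comm₁₂ := by
        show 𝟙 _ ≫ T.map (M.d (i + 1) i) = T.map (M.d (i + 1) i) ≫ 𝟙 _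
        rw [Category.comp_id, Category.id_comp]
      comm₂₃ := by
        show 𝟙 _ ≫ T.map (M.d i (i - 1)) = T.map (M.toCycles i (i - 1)) ≫ T.map (M.iCycles (i - 1))
        rw [Category.id_comp, ← T.map_comp, M.toCycles_i] }
  let φ2 : Smid ⟶ (cyclesSC M i (i - 1)).map T :=
    { τ₁ := T.map (M.toCycles (i + 1) i)
      τ₂ := 𝟙 _
      τ₃ := 𝟙 _
      comm₁₂ := by
        show T.map (M.toCycles (i + 1) i) ≫ T.map (M.iCycles i) = T.map (M.d (i + 1) i) ≫ 𝟙 _
        rw [Category.comp_id, ← T.map_comp, M.toCycles_i]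
      comm₂₃ := by
        show 𝟙 _ ≫ T.map (M.toCycles i (i - 1)) = T.map (M.toCycles i (i - 1)) ≫ 𝟙 _
        rw [Category.comp_id, Category.id_comp] }
  haveI : Epi φ1.τ₁ := inferInstanceAs (Epi (𝟙 _))
  haveI : IsIso φ1.τ₂ := inferInstanceAs (IsIso (𝟙 _))
  haveI : Mono φ1.τ₃ := inferInstanceAs (Mono (T.map (M.iCycles (i - 1))))
  haveI : Epi φ2.τ₁ := inferInstanceAs (Epi (T.map (M.toCycles (i + 1) i)))
  haveI : IsIso φ2.τ₂ := inferInstanceAs (IsIso (𝟙 _))
  haveI : Mono φ2.τ₃ := inferInstanceAs (Mono (𝟙 _))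
  exact (ShortComplex.exact_iff_of_epi_of_isIso_of_mono φ1).1
    ((ShortComplex.exact_iff_of_epi_of_isIso_of_mono φ2).2 h2.exact)

end Groth.Agent.Lib.AcyclicTensorH8
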