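import Mathlib
import Groth.Prelude.Def_CAlg
import Groth.Agent.Lib.DepthHom_helper5

/-!
# The acyclicity lemma (Peskine–Szpiro) for complexes of finite free modules given by matrices
-/

set_option autoImplicit false

namespace Groth.Agent.Lib.AcyclicityH3

open Groth.Agent.DepthLib IsLocalRing

universe u

variable {R : Type u} [CommRing R] [IsLocalRing R] [IsNoetherianRing R]

/-- An element of a finite module `F` whose class in `F ⧸ B` is supported only at the closed point
lies in `B` as soon as `F ⧸ B` has positive depth. -/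
theorem mem_of_punctured {F : Type u} [AddCommGroup F] [Module R F] [Module.Finite R F]
    (B : Submodule R F)
    (hdep : 1 ≤ LocCoh.idealDepth (maximalIdeal R) (F ⧸ B)) (v : F)
    (hv : ∀ (p : Ideal R) [p.IsPrime], p ≠ maximalIdeal R → ∃ u ∉ p, u • v ∈ B) : v ∈ B := by
  rcases (one_le_idealDepth_iff (maximalIdeal R) (F ⧸ B)).mp hdep with htop | ⟨x, hxm, hxreg⟩
  · have h0 : (⊤ : Submodule R (F ⧸ B)) = ⊥ :=
      Submodule.eq_bot_of_le_smul_of_le_jacobson_bot (maximalIdeal R) ⊤ Module.Finite.fg_top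
        (by rw [htop]) (IsLocalRing.maximalIdeal_le_jacobson _)
    have : (Submodule.Quotient.mk v : F ⧸ B) ∈ (⊤ : Submodule R (F ⧸ B)) := trivial
    rw [h0, Submodule.mem_bot, Submodule.Quotient.mk_eq_zero] at this
    exact this
  · let 𝔞 : Ideal R := B.comap (LinearMap.toSpanSingleton R F v)
    have hmem : ∀ r, r ∈ 𝔞 ↔ r • v ∈ B := fun r => by
      simp only [𝔞, Submodule.mem_comap, LinearMap.toSpanSingleton_apply]
    have hx : x ∈ 𝔞.radical := by
      rw [Ideal.radical_eq_sInf, Ideal.mem_sInf]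
      rintro P ⟨hP, hPprime⟩
      haveI := hPprime
      by_cases hPm : P = maximalIdeal R
      · rw [hPm]; exact hxm
      · obtain ⟨u, hu, huv⟩ := hv P hPm
        exact absurd (hP ((hmem u).mpr huv)) hu
    obtain ⟨k, hk⟩ := hx
    have h1 : (x ^ k) • (Submodule.Quotient.mk v : F ⧸ B) = 0 := by
      rw [← Submodule.Quotient.mk_smul, Submodule.Quotient.mk_eq_zero]
      exact (hmem _).mp hk
    have h2 : IsSMulRegular (F ⧸ B) (x ^ k) := hxreg.pow k
    have h3 : (Submodule.Quotient.mk v : F ⧸ B) = 0 := h2 (by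
      change (x ^ k) • (Submodule.Quotient.mk v : F ⧸ B) = (x ^ k) • (0 : F ⧸ B)
      rw [h1, smul_zero])
    exact (Submodule.Quotient.mk_eq_zero B).mp h3

/-- One step of the acyclicity lemma. -/
theorem step {F G : Type u} [AddCommGroup F] [Module R F] [Module.Finite R F] [AddCommGroup G]
    [Module R G] [Module.Finite R G]
    (B : Submodule R F) (d : F →ₗ[R] G) (hB : B ≤ LinearMap.ker d) (k : ℕ)
    (hdep : ((k + 1 : ℕ) : ℕ∞) ≤ LocCoh.idealDepth (maximalIdeal R) (F ⧸ B))
    (hG : (k : ℕ∞) ≤ LocCoh.idealDepth (maximalIdeal R) G)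
    (hv : ∀ v ∈ LinearMap.ker d, ∀ (p : Ideal R) [p.IsPrime], p ≠ maximalIdeal R →
      ∃ u ∉ p, u • v ∈ B) :
    LinearMap.ker d = B ∧
      (k : ℕ∞) ≤ LocCoh.idealDepth (maximalIdeal R) (G ⧸ LinearMap.range d) := by
  have h1 : (1 : ℕ∞) ≤ LocCoh.idealDepth (maximalIdeal R) (F ⧸ B) := by
    refine le_trans ?_ hdep
    exact_mod_cast Nat.succ_le_succ (Nat.zero_le k)
  have hker : LinearMap.ker d = B :=
    le_antisymm (fun v hv' => mem_of_punctured B h1 v (fun p _ hp => hv v hv' p hp)) hB
  refine ⟨hker, ?_⟩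
  have e : (F ⧸ B) ≃ₗ[R] LinearMap.range d :=
    (Submodule.quotEquivOfEq _ _ hker.symm).trans d.quotKerEquivRange
  have hr : ((k + 1 : ℕ) : ℕ∞) ≤ LocCoh.idealDepth (maximalIdeal R) (LinearMap.range d) := by
    rw [← idealDepth_congr _ _ e]; exact hdep
  have hses := (depth_ses (maximalIdeal R) (LinearMap.range d) G (G ⧸ LinearMap.range d)
    (LinearMap.range d).subtype (LinearMap.range d).mkQ (Submodule.injective_subtype _)
    (Submodule.mkQ_surjective _) (LinearMap.exact_subtype_mkQ _)).2.1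
  refine le_trans (le_min hG ?_) hses
  refine ENat.le_sub_of_add_le_right ENat.one_ne_top ?_
  have : ((k + 1 : ℕ) : ℕ∞) = (k : ℕ∞) + 1 := by push_cast; rfl
  rw [← this]
  exact hr

/-- Exactness of localized matrices gives punctured exactness. -/
theorem punctured_of_matrix {a b c : ℕ} (M : Matrix (Fin a) (Fin b) R) (N : Matrix (Fin b) (Fin c) R)
    (p : Ideal R) [p.IsPrime]
    (h : LinearMap.ker (M.map (algebraMap R (Localization.AtPrime p))).mulVecLin ≤
      LinearMap.range (N.map (algebraMap R (Localization.AtPrime p))).mulVecLin)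
    (v : Fin b → R) (hv : v ∈ LinearMap.ker M.mulVecLin) :
    ∃ u ∉ p, u • v ∈ LinearMap.range N.mulVecLin := by
  classical
  set f := algebraMap R (Localization.AtPrime p) with hf
  have hv0 : M.mulVec v = 0 := hv
  have hv' : (f ∘ v) ∈ LinearMap.ker (M.map f).mulVecLin := by
    rw [LinearMap.mem_ker, Matrix.mulVecLin_apply]
    funext i
    rw [← RingHom.map_mulVec, hv0]
    simp
  obtain ⟨w, hw⟩ := h hv'
  rw [Matrix.mulVecLin_apply] at hw
  obtain ⟨s, hs⟩ := IsLocalization.exist_integer_multiples_of_finite p.primeCompl w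
  choose w₀ hw₀ using hs
  have key : ∀ j, f ((N.mulVec w₀ - (s : R) • v) j) = 0 := by
    intro j
    rw [Pi.sub_apply, map_sub, RingHom.map_mulVec]
    have h1 : (f ∘ w₀) = (s : R) • w := by
      funext i
      exact hw₀ i
    rw [h1, Matrix.mulVec_smul, hw]
    simp only [Pi.smul_apply, Function.comp_apply, smul_eq_mul, map_mul]
    rw [Algebra.smul_def, sub_self]
  have key2 : ∀ j, ∃ t : p.primeCompl, (t : R) * ((N.mulVec w₀ - (s : R) • v) j) = 0 := by
    intro j
    exact (IsLocalization.map_eq_zero_iff p.primeCompl (Localization.AtPrime p) _).mp (key j)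
  choose t ht using key2
  have hT : ∀ j, (∏ j', (t j' : R)) * ((N.mulVec w₀ - (s : R) • v) j) = 0 := by
    intro j
    rw [← Finset.mul_prod_erase Finset.univ (fun j' => (t j' : R)) (Finset.mem_univ j)]
    rw [mul_comm (t j : R), mul_assoc, ht j, mul_zero]
  refine ⟨(∏ j', (t j' : R)) * (s : R), ?_, ?_⟩
  · have h1 : (∏ j', (t j' : R)) ∈ p.primeCompl :=
      Submonoid.prod_mem _ (fun j' _ => (t j').2)
    exact p.primeCompl.mul_mem h1 s.2
  · refine ⟨(∏ j', (t j' : R)) • w₀, ?_⟩
    rw [Matrix.mulVecLin_apply, Matrix.mulVec_smul]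
    funext j
    have := hT j
    simp only [Pi.sub_apply, Pi.smul_apply, smul_eq_mul, mul_sub] at this ⊢
    rw [sub_eq_zero] at this
    rw [this, mul_assoc]

/-- **Acyclicity lemma** for a complex of finite free modules `0 → F_e → ⋯ → F_0` over a Noetherian
local ring of depth at least `e`, written with matrices and `A e = 0`. -/
theorem acyclic (e : ℕ) (n : ℕ → ℕ) (A : (i : ℕ) → Matrix (Fin (n i)) (Fin (n (i + 1))) R)
    (hA : ∀ i, i < e → A i * A (i + 1) = 0) (hAe : ∀ j, j = e → A j = 0)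
    (hdepth : (e : ℕ∞) ≤ LocCoh.idealDepth (maximalIdeal R) R)
    (hloc : ∀ (p : Ideal R) [p.IsPrime], p ≠ maximalIdeal R → ∀ i, i < e →
      LinearMap.ker ((A i).map (algebraMap R (Localization.AtPrime p))).mulVecLin ≤
        LinearMap.range ((A (i + 1)).map (algebraMap R (Localization.AtPrime p))).mulVecLin) :
    ∀ i, i < e → LinearMap.ker (A i).mulVecLin = LinearMap.range (A (i + 1)).mulVecLin := by
  have hF : ∀ k, (e : ℕ∞) ≤ LocCoh.idealDepth (maximalIdeal R) (Fin k → R) :=
    le_idealDepth_pi (maximalIdeal R) R e hdepth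
  have hstep : ∀ k, k < e →
      ((k + 1 : ℕ) : ℕ∞) ≤ LocCoh.idealDepth (maximalIdeal R)
        ((Fin (n (k + 1)) → R) ⧸ LinearMap.range (A (k + 1)).mulVecLin) →
      LinearMap.ker (A k).mulVecLin = LinearMap.range (A (k + 1)).mulVecLin ∧
        (k : ℕ∞) ≤ LocCoh.idealDepth (maximalIdeal R)
          ((Fin (n k) → R) ⧸ LinearMap.range (A k).mulVecLin) := by
    intro k hk hD
    refine step (LinearMap.range (A (k + 1)).mulVecLin) (A k).mulVecLin ?_ k hD ?_ ?_
    · rintro _ ⟨w, rfl⟩
      rw [LinearMap.mem_ker, Matrix.mulVecLin_apply, Matrix.mulVecLin_apply, Matrix.mulVec_mulVec,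
        hA k hk, Matrix.zero_mulVec]
    · refine le_trans ?_ (hF (n k))
      exact_mod_cast hk.le
    · intro v hv p _ hp
      exact punctured_of_matrix (A k) (A (k + 1)) p (hloc p hp k hk) v hv
  have D : ∀ j k, k + j = e → (k : ℕ∞) ≤ LocCoh.idealDepth (maximalIdeal R)
      ((Fin (n k) → R) ⧸ LinearMap.range (A k).mulVecLin) := by
    intro j
    induction j with
    | zero =>
      intro k hk
      have hk' : k = e := by omega
      have h0 : LinearMap.range (A k).mulVecLin = ⊥ := by
        rw [hAe k hk', Matrix.mulVecLin_zero, LinearMap.range_zero]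
      rw [idealDepth_congr _ _ (Submodule.quotEquivOfEqBot _ h0)]
      rw [hk']
      exact hF (n e)
    | succ j ih =>
      intro k hk
      exact (hstep k (by omega) (ih (k + 1) (by omega))).2
  intro i hi
  exact (hstep i hi (D (e - (i + 1)) (i + 1) (by omega))).1

end Groth.Agent.Lib.AcyclicityH3
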