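import Mathlib
import Groth.Prelude.Def_CAlg
import Groth.Agent.Lib.Depth_helper5

/-!
# The acyclicity lemma (helper7)
-/

set_option autoImplicit false
universe u
open CategoryTheory

namespace Groth.Agent.Lib.AcyclicityH7

open Groth.Agent.DepthLib

variable {R : Type u} [CommRing R]

/-- zero modules have infinite depth -/
theorem idealDepth_eq_top_of_subsingleton (I : Ideal R) (M : Type u) [AddCommGroup M] [Module R M]
    [Subsingleton M] : LocCoh.idealDepth I M = ⊤ := by
  unfold LocCoh.idealDepth
  rw [if_pos]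
  rw [Submodule.eq_top_iff']
  intro x
  rw [Subsingleton.elim x 0]
  exact zero_mem _

variable [IsLocalRing R] [IsNoetherianRing R]
variable (C : ChainComplex (ModuleCat.{u} R) ℕ)

/-- the differentials as linear maps -/
abbrev dd (j : ℕ) : C.X (j + 1) →ₗ[R] C.X j := (C.d (j + 1) j).hom

theorem exactAt_succ_iff (j : ℕ) :
    C.ExactAt (j + 1) ↔ LinearMap.range (dd C (j + 1)) = LinearMap.ker (dd C j) := by
  rw [HomologicalComplex.exactAt_iff' C (j + 2) (j + 1) j (by simp) (by simp)]
  rw [ShortComplex.moduleCat_exact_iff_range_eq_ker]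
  rfl

theorem depth_range_of_zero (j : ℕ) (h : Limits.IsZero (C.X (j + 1))) :
    LocCoh.idealDepth (IsLocalRing.maximalIdeal R) (LinearMap.range (dd C j)) = ⊤ := by
  haveI : Subsingleton (C.X (j + 1)) := ModuleCat.subsingleton_of_isZero h
  haveI : Subsingleton (LinearMap.range (dd C j)) := by
    refine ⟨fun a b => ?_⟩
    obtain ⟨x, hx⟩ := a.2
    obtain ⟨y, hy⟩ := b.2
    apply Subtype.ext
    rw [← hx, ← hy, Subsingleton.elim x y]
  exact idealDepth_eq_top_of_subsingleton _ _

theorem depth_range (e : ℕ) (hzero : ∀ j, e < j → Limits.IsZero (C.X j))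
    (hfin : ∀ j, Module.Finite R (C.X j))
    (hdepth : ∀ j, j ≤ e → (j : ℕ∞) ≤ LocCoh.depth R (C.X j))
    (i : ℕ) (habove : ∀ j, i < j → C.ExactAt j) :
    ∀ n j, i ≤ j → e ≤ j + n → ((j + 1 : ℕ) : ℕ∞) ≤
      LocCoh.idealDepth (IsLocalRing.maximalIdeal R) (LinearMap.range (dd C j)) := by
  intro n
  induction n with
  | zero =>
    intro j hij hej
    rw [depth_range_of_zero C j (hzero (j + 1) (by omega))]
    exact le_top
  | succ n ih =>
    intro j hij hej
    by_cases hje : e ≤ j
    · rw [depth_range_of_zero C j (hzero (j + 1) (by omega))]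
      exact le_top
    · have h1 := ih (j + 1) (by omega) (by omega)
      have hex := (exactAt_succ_iff C j).1 (habove (j + 1) (by omega))
      haveI := hfin (j + 1)
      haveI := hfin j
      have hses := depth_ses (IsLocalRing.maximalIdeal R) (LinearMap.ker (dd C j)) (C.X (j + 1))
        (LinearMap.range (dd C j)) (LinearMap.ker (dd C j)).subtype (dd C j).rangeRestrict
        Subtype.val_injective (LinearMap.surjective_rangeRestrict _)
        (by rw [LinearMap.exact_iff, LinearMap.ker_rangeRestrict, Submodule.range_subtype])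
      have h2 := hses.2.1
      have h3 : LocCoh.idealDepth (IsLocalRing.maximalIdeal R) (LinearMap.ker (dd C j)) =
          LocCoh.idealDepth (IsLocalRing.maximalIdeal R) (LinearMap.range (dd C (j + 1))) :=
        idealDepth_congr _ _ (LinearEquiv.ofEq _ _ hex.symm)
      have h4 := hdepth (j + 1) (by omega)
      unfold LocCoh.depth at h4
      refine le_trans ?_ h2
      rw [le_min_iff]
      refine ⟨h4, ?_⟩
      rw [h3]
      apply ENat.le_sub_of_add_le_right ENat.one_ne_top
      exact_mod_cast h1

theorem main (e : ℕ) (hzero : ∀ j, e < j → Limits.IsZero (C.X j))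
    (hfin : ∀ j, Module.Finite R (C.X j))
    (hdepth : ∀ j, j ≤ e → (j : ℕ∞) ≤ LocCoh.depth R (C.X j))
    (i : ℕ) (hi : 0 < i) (hnot : ¬ C.ExactAt i) (habove : ∀ j, i < j → C.ExactAt j) :
    1 ≤ LocCoh.depth R (C.homology i) := by
  have hie : i ≤ e := by
    by_contra h
    apply hnot
    exact ShortComplex.exact_of_isZero_X₂ _ (hzero i (by omega))
  obtain ⟨k, rfl⟩ : ∃ k, i = k + 1 := ⟨i - 1, by omega⟩
  have hB := depth_range C e hzero hfin hdepth (k + 1) habove e (k + 1) le_rfl (by omega)
  have hinj : Function.Injective (C.iCycles (k + 1)).hom :=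
    (ModuleCat.mono_iff_injective _).1 inferInstance
  have hsurj : Function.Surjective (C.homologyπ (k + 1)).hom :=
    (ModuleCat.epi_iff_surjective _).1 inferInstance
  haveI := hfin (k + 1)
  haveI : Module.Finite R (C.cycles (k + 1)) := Module.Finite.of_injective _ hinj
  haveI : Module.Finite R (C.homology (k + 1)) := Module.Finite.of_surjective _ hsurj
  have hX : (1 : ℕ∞) ≤ LocCoh.idealDepth (IsLocalRing.maximalIdeal R) (C.X (k + 1)) := by
    have := hdepth (k + 1) hie
    unfold LocCoh.depth at this
    refine le_trans ?_ this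
    exact_mod_cast Nat.succ_le_succ (Nat.zero_le k)
  have hZ : 1 ≤ LocCoh.idealDepth (IsLocalRing.maximalIdeal R) (C.cycles (k + 1)) :=
    one_le_idealDepth_of_injective _ _ _ _ hinj hX
  have hex : LinearMap.range (C.toCycles (k + 2) (k + 1)).hom =
      LinearMap.ker (C.homologyπ (k + 1)).hom := by
    have := ShortComplex.exact_of_g_is_cokernel
      (ShortComplex.mk (C.toCycles (k + 2) (k + 1)) (C.homologyπ (k + 1))
        (C.toCycles_comp_homologyπ (k + 2) (k + 1)))
      (C.homologyIsCokernel (k + 2) (k + 1) (by simp))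
    exact (ShortComplex.moduleCat_exact_iff_range_eq_ker _).1 this
  have hses := depth_ses (IsLocalRing.maximalIdeal R)
    (LinearMap.range (C.toCycles (k + 2) (k + 1)).hom) (C.cycles (k + 1))
    (C.homology (k + 1)) (LinearMap.range (C.toCycles (k + 2) (k + 1)).hom).subtype
    (C.homologyπ (k + 1)).hom Subtype.val_injective hsurj
    (by rw [LinearMap.exact_iff, Submodule.range_subtype, hex])
  have h2 := hses.2.1
  have hmap : Submodule.map (C.iCycles (k + 1)).hom
      (LinearMap.range (C.toCycles (k + 2) (k + 1)).hom) = LinearMap.range (dd C (k + 1)) := by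
    rw [← LinearMap.range_comp]
    show LinearMap.range (C.toCycles (k + 2) (k + 1) ≫ C.iCycles (k + 1)).hom = _
    rw [C.toCycles_i]
  have h3 : LocCoh.idealDepth (IsLocalRing.maximalIdeal R)
      (LinearMap.range (C.toCycles (k + 2) (k + 1)).hom) =
      LocCoh.idealDepth (IsLocalRing.maximalIdeal R) (LinearMap.range (dd C (k + 1))) :=
    idealDepth_congr _ _ ((Submodule.equivMapOfInjective (C.iCycles (k + 1)).hom hinj _).trans
      (LinearEquiv.ofEq _ _ hmap))
  unfold LocCoh.depth
  refine le_trans ?_ h2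
  rw [le_min_iff]
  refine ⟨hZ, ?_⟩
  rw [h3]
  apply ENat.le_sub_of_add_le_right ENat.one_ne_top
  refine le_trans ?_ hB
  exact_mod_cast Nat.succ_le_succ (Nat.succ_le_succ (Nat.zero_le k))

end Groth.Agent.Lib.AcyclicityH7
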