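import Mathlib
import Groth.Prelude.Def_W4bk4goldsch23FF

/-! Function fields of one variable, part A (helper2): valuation basics, the exchange lemma
`[K : k(t)] < ∞`, a linear-independence criterion over `k(t)`, finiteness of residue fields. -/

open Polynomial IntermediateField WithZero

namespace FunFld

variable {k K : Type*} [Field k] [Field K] [Algebra k K]

section Val

variable {Γ₀ : Type*} [LinearOrderedCommGroupWithZero Γ₀]

theorem val_algebraMap_eq_one (v : Valuation K Γ₀) (hv : ∀ c : k, v (algebraMap k K c) ≤ 1)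
    {c : k} (hc : c ≠ 0) : v (algebraMap k K c) = 1 := by
  refine le_antisymm (hv c) ?_
  have h2 := hv c⁻¹
  have h3 : v (algebraMap k K c) * v (algebraMap k K c⁻¹) = 1 := by
    rw [← map_mul, ← map_mul, mul_inv_cancel₀ hc, map_one, map_one]
  calc (1 : Γ₀) = v (algebraMap k K c) * v (algebraMap k K c⁻¹) := h3.symm
    _ ≤ v (algebraMap k K c) * 1 := mul_le_mul' le_rfl h2
    _ = _ := mul_one _

theorem val_aeval_le_one (v : Valuation K Γ₀) (hv : ∀ c : k, v (algebraMap k K c) ≤ 1)
    {t : K} (ht : v t ≤ 1) (q : k[X]) : v (aeval t q) ≤ 1 := by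
  rw [aeval_eq_sum_range]
  apply Valuation.map_sum_le
  intro i _
  rw [Algebra.smul_def, map_mul, map_pow]
  exact mul_le_one' (hv _) (pow_le_one' ht i)

theorem transcendental_of_val_ne_one (hK : IsFunctionField k K) (v : Valuation K Γ₀)
    (hv : ∀ c : k, v (algebraMap k K c) ≤ 1) {t : K} (ht0 : t ≠ 0) (ht : v t ≠ 1) :
    Transcendental k t := by
  intro halg
  obtain ⟨c, rfl⟩ := hK.2 t halg
  have hc : c ≠ 0 := by rintro rfl; exact ht0 (map_zero _)
  exact ht (val_algebraMap_eq_one v hv hc)

end Val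

section Descent

theorem exists_X_pow_mul_of_ne_zero {ι : Type*} [Fintype ι] :
    ∀ (N : ℕ) (q : ι → k[X]), (∑ i, (q i).natDegree) = N → (∃ i, q i ≠ 0) →
    ∃ (m : ℕ) (φ : ι → k[X]), (∀ i, q i = X ^ m * φ i) ∧ ∃ i, (φ i).coeff 0 ≠ 0 := by
  intro N
  induction N using Nat.strong_induction_on with
  | _ N ih =>
    intro q hN hq
    by_cases h0 : ∃ i, (q i).coeff 0 ≠ 0
    · exact ⟨0, q, fun i => by simp, h0⟩
    · push Not at h0
      have hdiv : ∀ i, q i = X * (q i).divX := fun i => by
        have h := (q i).X_mul_divX_add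
        rw [h0 i, C_0, add_zero] at h
        exact h.symm
      obtain ⟨i0, hi0⟩ := hq
      have hi0' : (q i0).divX ≠ 0 := fun h => hi0 (by rw [hdiv i0, h, mul_zero])
      have hpos : 0 < (q i0).natDegree := by
        rcases Nat.eq_zero_or_pos (q i0).natDegree with h | h
        · exfalso
          have h2 := eq_C_of_natDegree_eq_zero h
          rw [h0 i0, C_0] at h2
          exact hi0 h2
        · exact h
      have hlt : ∑ i, ((q i).divX).natDegree < N := by
        rw [← hN]
        apply Finset.sum_lt_sum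
        · intro i _
          rw [natDegree_divX_eq_natDegree_tsub_one]
          exact Nat.sub_le _ _
        · refine ⟨i0, Finset.mem_univ _, ?_⟩
          rw [natDegree_divX_eq_natDegree_tsub_one]
          omega
      obtain ⟨m, φ, h1, h2⟩ := ih _ hlt (fun i => (q i).divX) rfl ⟨i0, hi0'⟩
      refine ⟨m + 1, φ, fun i => ?_, h2⟩
      have h1' : (q i).divX = X ^ m * φ i := h1 i
      rw [hdiv i, h1', pow_succ]
      ring

end Descent

section LinIndep

open IntermediateField.algebraAdjoinAdjoin in
/-- Criterion for linear independence over `k(t)`: it suffices to exclude polynomial relations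
in which some coefficient has a nonzero constant term. -/
theorem linearIndependent_adjoin_simple {t : K} (ht : Transcendental k t) {ι : Type*} [Fintype ι]
    (z : ι → K)
    (H : ∀ φ : ι → k[X], (∃ i, (φ i).coeff 0 ≠ 0) → ∑ i, aeval t (φ i) * z i ≠ 0) :
    LinearIndependent k⟮t⟯ z := by
  classical
  rw [← LinearIndependent.iff_fractionRing (Algebra.adjoin k ({t} : Set K)) k⟮t⟯]
  rw [Fintype.linearIndependent_iff]
  intro c hc
  have hmem : ∀ i, ∃ q : k[X], aeval t q = (c i : K) := fun i => by
    have h : (c i : K) ∈ (aeval (R := k) t).range := by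
      rw [← Algebra.adjoin_singleton_eq_range_aeval]
      exact (c i).2
    exact (AlgHom.mem_range _).mp h
  choose q hq using hmem
  by_contra hne
  push Not at hne
  obtain ⟨i0, hi0⟩ := hne
  have hq0 : q i0 ≠ 0 := fun h => hi0 (Subtype.ext (by rw [← hq i0, h, map_zero]; rfl))
  obtain ⟨m, φ, h1, h2⟩ := exists_X_pow_mul_of_ne_zero _ q rfl ⟨i0, hq0⟩
  apply H φ h2
  have ht0 : t ≠ 0 := fun h => ht (h ▸ isAlgebraic_zero)
  have h3 : t ^ m * ∑ i, aeval t (φ i) * z i = 0 := by
    rw [Finset.mul_sum, ← hc]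
    apply Finset.sum_congr rfl
    intro i _
    rw [Subalgebra.smul_def, smul_eq_mul, ← hq i, h1 i, map_mul, map_pow, aeval_X]
    ring
  exact (mul_eq_zero.mp h3).resolve_left (pow_ne_zero _ ht0)

/-- Valuative criterion for linear independence over `k(t)`. -/
theorem linearIndependent_of_val {Γ₀ : Type*} [LinearOrderedCommGroupWithZero Γ₀]
    {t : K} (ht : Transcendental k t) {ι : Type*} [Fintype ι] (z : ι → K)
    (H : ∀ a : ι → k, a ≠ 0 → ∃ w : Valuation K Γ₀, (∀ c : k, w (algebraMap k K c) ≤ 1) ∧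
        w t ≤ 1 ∧ ∀ i, w (t * z i) < w (∑ j, algebraMap k K (a j) * z j)) :
    LinearIndependent k⟮t⟯ z := by
  classical
  apply linearIndependent_adjoin_simple ht
  intro φ hφ hsum
  obtain ⟨w, hw, hwt, hlt⟩ := H (fun i => (φ i).coeff 0) (by
    intro h
    obtain ⟨i, hi⟩ := hφ
    exact hi (congrFun h i))
  have hdecomp : ∀ i, aeval t (φ i) =
      algebraMap k K ((φ i).coeff 0) + aeval t (φ i).divX * t := by
    intro i
    conv_lhs => rw [← (φ i).divX_mul_X_add]
    rw [map_add, map_mul, aeval_X, aeval_C]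
    ring
  have hS : ∑ i, aeval t (φ i) * z i = ∑ j, algebraMap k K ((φ j).coeff 0) * z j +
      ∑ i, aeval t (φ i).divX * (t * z i) := by
    rw [← Finset.sum_add_distrib]
    apply Finset.sum_congr rfl
    intro i _
    rw [hdecomp i]
    ring
  have hS0 : w (∑ j, algebraMap k K ((φ j).coeff 0) * z j) ≠ 0 := by
    obtain ⟨i, _⟩ := hφ
    exact ne_of_gt (lt_of_le_of_lt zero_le (hlt i))
  have hrest : w (∑ i, aeval t (φ i).divX * (t * z i)) <
      w (∑ j, algebraMap k K ((φ j).coeff 0) * z j) := by
    apply Valuation.map_sum_lt w hS0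
    intro i _
    rw [map_mul]
    calc w (aeval t (φ i).divX) * w (t * z i) ≤ 1 * w (t * z i) :=
          mul_le_mul' (val_aeval_le_one w hw hwt _) le_rfl
      _ = w (t * z i) := one_mul _
      _ < _ := hlt i
  have h4 := Valuation.map_add_eq_of_lt_left w hrest
  rw [← hS, hsum, map_zero] at h4
  exact hS0 h4.symm

end LinIndep

section Exchange

/-- In a function field of one variable, `K` is finite over `k(t)` for every transcendental `t`. -/
theorem finiteDimensional_of_transcendental (hK : IsFunctionField k K) {t : K}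
    (ht : Transcendental k t) : FiniteDimensional k⟮t⟯ K := by
  classical
  obtain ⟨⟨x, hx, hfin⟩, -⟩ := hK
  haveI := hfin
  haveI h1 : Algebra.IsAlgebraic k⟮x⟯ K := Algebra.IsAlgebraic.of_finite _ _
  haveI h2 : Algebra.IsAlgebraic (Algebra.adjoin k ({x} : Set K)) K := by
    open IntermediateField.algebraAdjoinAdjoin in
    exact Algebra.IsAlgebraic.trans (Algebra.adjoin k ({x} : Set K)) k⟮x⟯ K
  have h3 : Algebra.trdeg k K ≤ Cardinal.mk ({x} : Set K) :=
    Algebra.IsAlgebraic.trdeg_le_cardinalMk k ({x} : Set K)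
  have h4 : IsTranscendenceBasis k (Subtype.val : ({t} : Set K) → K) := by
    apply AlgebraicIndependent.isTranscendenceBasis_of_trdeg_le_of_finite
    · rw [algebraicIndependent_unique_type_iff]
      exact ht
    · simpa using h3
  have h5 := h4.isAlgebraic_field
  rw [Subtype.range_coe] at h5
  haveI : Algebra.IsAlgebraic k⟮t⟯ K := h5
  obtain ⟨b, hb⟩ := (Module.finite_def.mp hfin)
  let L : IntermediateField k⟮t⟯ K := IntermediateField.adjoin k⟮t⟯ (insert x (b : Set K))
  have hL : L = ⊤ := by
    rw [eq_top_iff]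
    intro y _
    have hx_le : k⟮x⟯ ≤ L.restrictScalars k := by
      rw [IntermediateField.adjoin_le_iff]
      intro y hy
      rw [Set.mem_singleton_iff] at hy
      subst hy
      exact IntermediateField.subset_adjoin _ _ (Set.mem_insert _ _)
    have hy : y ∈ Submodule.span k⟮x⟯ (b : Set K) := by rw [hb]; trivial
    refine Submodule.span_induction ?_ ?_ ?_ ?_ hy
    · intro z hz
      exact IntermediateField.subset_adjoin _ _ (Set.mem_insert_of_mem _ hz)
    · exact L.zero_mem
    · intro a b _ _ ha hb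
      exact L.add_mem ha hb
    · intro c z _ hz
      have : c • z = (c : K) * z := rfl
      rw [this]
      exact L.mul_mem (hx_le c.2) hz
  haveI : Finite (insert x (b : Set K) : Set K) := Set.Finite.to_subtype (by
    exact (Finset.finite_toSet b).insert x)
  haveI h6 : FiniteDimensional k⟮t⟯ L :=
    IntermediateField.finiteDimensional_adjoin
      (fun y _ => (Algebra.IsAlgebraic.isAlgebraic y).isIntegral)
  rw [hL] at h6
  exact Module.Finite.equiv (IntermediateField.topEquiv (F := k⟮t⟯) (E := K)).toLinearEquiv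

end Exchange

namespace Place

variable (P : Place k K)

theorem val_algebraMap {c : k} (hc : c ≠ 0) : P.1 (algebraMap k K c) = 1 :=
  val_algebraMap_eq_one P.1 P.2.1 hc

theorem exists_uniformizer : ∃ t : K, P.1 t = exp (-1 : ℤ) := P.2.2 _

theorem val_eq_exp_neg_ord {x : K} (hx : x ≠ 0) : P.1 x = exp (-(P.ord x)) := by
  unfold ord
  rw [neg_neg, exp_log]
  exact (P.1.ne_zero_iff).mpr hx

theorem ord_zero : P.ord (0 : K) = 0 := by
  unfold ord
  rw [map_zero, log_zero, neg_zero]

theorem ord_algebraMap (c : k) : P.ord (algebraMap k K c) = 0 := by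
  by_cases hc : c = 0
  · rw [hc, map_zero, ord_zero]
  · unfold ord
    rw [P.val_algebraMap hc, log_one, neg_zero]

theorem ord_mul {x y : K} (hx : x ≠ 0) (hy : y ≠ 0) : P.ord (x * y) = P.ord x + P.ord y := by
  unfold ord
  rw [map_mul, log_mul ((P.1.ne_zero_iff).mpr hx) ((P.1.ne_zero_iff).mpr hy)]
  ring

theorem ord_inv (x : K) : P.ord x⁻¹ = -P.ord x := by
  unfold ord
  rw [map_inv₀, log_inv]

theorem val_le_exp_iff {x : K} (hx : x ≠ 0) (n : ℤ) : P.1 x ≤ exp n ↔ -n ≤ P.ord x := by
  unfold ord
  rw [← log_le_iff_le_exp ((P.1.ne_zero_iff).mpr hx)]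
  constructor <;> intro h <;> linarith

theorem val_lt_exp_iff {x : K} (hx : x ≠ 0) (n : ℤ) : P.1 x < exp n ↔ -n < P.ord x := by
  unfold ord
  rw [← log_lt_iff_lt_exp ((P.1.ne_zero_iff).mpr hx)]
  constructor <;> intro h <;> linarith

theorem ord_nonneg_iff {x : K} (hx : x ≠ 0) : 0 ≤ P.ord x ↔ P.1 x ≤ 1 := by
  have := P.val_le_exp_iff hx 0
  rw [exp_zero, neg_zero] at this
  exact this.symm

theorem ord_pos_iff {x : K} (hx : x ≠ 0) : 0 < P.ord x ↔ P.1 x < 1 := by
  have := P.val_lt_exp_iff hx 0
  rw [exp_zero, neg_zero] at this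
  exact this.symm

theorem ord_neg_iff {x : K} (hx : x ≠ 0) : P.ord x < 0 ↔ 1 < P.1 x := by
  rw [← not_le, ← not_le, P.ord_nonneg_iff hx]

theorem ord_eq_zero_iff {x : K} (hx : x ≠ 0) : P.ord x = 0 ↔ P.1 x = 1 := by
  rw [P.val_eq_exp_neg_ord hx, exp_eq_one, neg_eq_zero]

theorem residue_eq_zero_iff (u : P.O) :
    IsLocalRing.residue P.O u = 0 ↔ P.1 (u : K) < 1 := by
  have hu1 : P.1 (u : K) ≤ 1 := u.2
  rw [IsLocalRing.residue_eq_zero_iff, IsLocalRing.mem_maximalIdeal, mem_nonunits_iff]
  constructor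
  · intro h
    by_contra hlt
    push Not at hlt
    have hval : P.1 (u : K) = 1 := le_antisymm hu1 hlt
    have hu0 : (u : K) ≠ 0 := by
      intro h0
      rw [h0, map_zero] at hval
      exact zero_ne_one hval
    apply h
    refine IsUnit.of_mul_eq_one (⟨(u : K)⁻¹, ?_⟩ : P.O) ?_
    · show P.1 ((u : K)⁻¹) ≤ 1
      rw [map_inv₀, hval, inv_one]
    · exact Subtype.ext (mul_inv_cancel₀ hu0)
  · intro hlt hunit
    obtain ⟨w, hw⟩ := hunit.exists_right_inv
    have hw1 : P.1 (w : K) ≤ 1 := w.2
    have h1 : P.1 (u : K) * P.1 (w : K) = 1 := by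
      rw [← map_mul]
      have := congrArg (Subtype.val) hw
      have h2 : (u : K) * (w : K) = 1 := this
      rw [h2, map_one]
    have h3 : P.1 (u : K) * P.1 (w : K) ≤ P.1 (u : K) * 1 := mul_le_mul' le_rfl hw1
    rw [h1, mul_one] at h3
    exact absurd hlt (not_lt.mpr h3)

theorem val_eq_one_of_residue_ne_zero (u : P.O) (hu : IsLocalRing.residue P.O u ≠ 0) :
    P.1 (u : K) = 1 := by
  have hu1 : P.1 (u : K) ≤ 1 := u.2
  refine le_antisymm hu1 (not_lt.mp fun h => hu ((P.residue_eq_zero_iff u).mpr h))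

/-- Lifts of `k`-linearly independent residues are linearly independent over `k(t)`,
for `t` with `0 < v(t) < 1`. -/
theorem linearIndependent_of_residue (hK : IsFunctionField k K) {t : K} (ht0 : t ≠ 0)
    (ht1 : P.1 t < 1) {ι : Type*} [Fintype ι] (z : ι → P.O)
    (hz : LinearIndependent k (fun i => IsLocalRing.residue P.O (z i))) :
    LinearIndependent k⟮t⟯ (fun i => ((z i : P.O) : K)) := by
  classical
  have htr : Transcendental k t := transcendental_of_val_ne_one hK P.1 P.2.1 ht0 ht1.ne
  apply linearIndependent_of_val (Γ₀ := ℤᵐ⁰) htr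
  intro a ha
  refine ⟨P.1, P.2.1, ht1.le, fun i => ?_⟩
  set u : P.O := ∑ j, algebraMap k P.O (a j) * z j with hu
  have hres : IsLocalRing.residue P.O u = ∑ j, a j • IsLocalRing.residue P.O (z j) := by
    rw [hu, map_sum]
    apply Finset.sum_congr rfl
    intro j _
    rw [map_mul, Algebra.smul_def]
    rfl
  have hne : IsLocalRing.residue P.O u ≠ 0 := by
    rw [hres]
    intro h0
    exact ha (funext (Fintype.linearIndependent_iff.mp hz a h0))
  have hu1 : P.1 (u : K) = 1 := P.val_eq_one_of_residue_ne_zero u hne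
  have hcoe : (u : K) = ∑ j, algebraMap k K (a j) * ((z j : P.O) : K) := by
    rw [hu, AddSubmonoidClass.coe_finsetSum]
    rfl
  rw [← hcoe, hu1, map_mul]
  have hz1 : P.1 ((z i : P.O) : K) ≤ 1 := (z i).2
  calc P.1 t * P.1 ((z i : P.O) : K) ≤ P.1 t * 1 := mul_le_mul' le_rfl hz1
    _ = P.1 t := mul_one _
    _ < 1 := ht1

end Place

/-- The residue field of a place is finite over `k`. -/
theorem finiteDimensional_residueField (hK : IsFunctionField k K) (P : Place k K) :
    FiniteDimensional k (IsLocalRing.ResidueField P.O) := by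
  classical
  obtain ⟨t, ht⟩ := P.exists_uniformizer
  have ht1 : P.1 t < 1 := by
    rw [ht]
    exact (exp_lt_exp (a := (-1 : ℤ)) (b := 0)).mpr (by norm_num)
  have ht0 : t ≠ 0 := by
    rintro rfl
    rw [map_zero] at ht
    exact exp_ne_zero ht.symm
  have htr : Transcendental k t := transcendental_of_val_ne_one hK P.1 P.2.1 ht0 ht1.ne
  haveI := finiteDimensional_of_transcendental hK htr
  have hrank : Module.rank k (IsLocalRing.ResidueField P.O) ≤ (Module.finrank k⟮t⟯ K : ℕ) := by
    apply rank_le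
    intro s hs
    have hsurj := IsLocalRing.residue_surjective (R := P.O)
    choose z hz using fun i : s => hsurj (i : IsLocalRing.ResidueField P.O)
    have hli : LinearIndependent k⟮t⟯ (fun i : s => ((z i : P.O) : K)) := by
      apply P.linearIndependent_of_residue hK ht0 ht1 z
      have : (fun i : s => IsLocalRing.residue P.O (z i)) =
          fun i : s => (i : IsLocalRing.ResidueField P.O) := funext hz
      rw [this]
      exact hs
    have := hli.fintype_card_le_finrank
    simpa using this
  exact Module.rank_lt_aleph0_iff.mp (lt_of_le_of_lt hrank Cardinal.natCast_lt_aleph0)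

theorem Place.deg_pos (hK : IsFunctionField k K) (P : Place k K) : 0 < P.deg := by
  haveI := finiteDimensional_residueField hK P
  unfold Place.deg
  exact Module.finrank_pos

end FunFld
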