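import Mathlib
import Groth.Agent.Lib.FunFldA_helper2

/-! Function fields of one variable, part C (helper2): existence of places. -/

open Polynomial IntermediateField WithZero

namespace FunFld

variable {k K : Type*} [Field k] [Field K] [Algebra k K]

theorem mem_L {D : Divisor k K} {x : K} :
    x ∈ L D ↔ ∀ P : Place k K, P.1 x ≤ exp (D P) := Iff.rfl

theorem transcendental_inv (hK : IsFunctionField k K) {x : K} (hx : Transcendental k x) :
    Transcendental k x⁻¹ := by
  intro halg
  obtain ⟨c, hc⟩ := hK.2 _ halg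
  apply hx
  have h1 : x = algebraMap k K c⁻¹ := by rw [map_inv₀, hc, inv_inv]
  rw [h1]
  exact isAlgebraic_algebraMap _

theorem chain_card_le (hK : IsFunctionField k K) {Γ₀ : Type*}
    [LinearOrderedCommGroupWithZero Γ₀]
    (v : Valuation K Γ₀) (hv : ∀ c : k, v (algebraMap k K c) ≤ 1) {y : K} (hy0 : y ≠ 0)
    (hy1 : v y < 1) [FiniteDimensional k⟮y⟯ K] {r : ℕ} (z : Fin r → K)
    (hinj : Function.Injective (fun i => v (z i))) (hlo : ∀ i, v y ≤ v (z i))
    (hhi : ∀ i, v (z i) < 1) :
    r ≤ Module.finrank k⟮y⟯ K := by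
  classical
  have htr : Transcendental k y := transcendental_of_val_ne_one hK v hv hy0 (ne_of_lt hy1)
  have hypos : 0 < v y := zero_lt_iff.mpr ((v.ne_zero_iff).mpr hy0)
  have hli : LinearIndependent k⟮y⟯ z := by
    apply linearIndependent_of_val (Γ₀ := Γ₀) htr
    intro a ha
    refine ⟨v, hv, hy1.le, fun i => ?_⟩
    have hne : (Finset.univ.filter fun j => a j ≠ 0).Nonempty := by
      by_contra h
      rw [Finset.not_nonempty_iff_eq_empty] at h
      apply ha
      funext j
      by_contra hj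
      have hmem : j ∈ Finset.univ.filter fun j => a j ≠ 0 :=
        Finset.mem_filter.mpr ⟨Finset.mem_univ _, hj⟩
      rw [h] at hmem
      exact Finset.notMem_empty _ hmem
    obtain ⟨j0, hj0, hmax⟩ := Finset.exists_max_image _ (fun j => v (z j)) hne
    have haj0 : a j0 ≠ 0 := (Finset.mem_filter.mp hj0).2
    have hterm : v (algebraMap k K (a j0) * z j0) = v (z j0) := by
      rw [map_mul, val_algebraMap_eq_one v hv haj0, one_mul]
    have hsum : v (∑ j, algebraMap k K (a j) * z j) = v (z j0) := by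
      refine (Valuation.map_sum_eq_of_lt v (s := Finset.univ)
        (f := fun j => algebraMap k K (a j) * z j) (j := j0) (Finset.mem_univ _) ?_).trans hterm
      intro j hj
      have hjne : j ≠ j0 := by
        rw [Finset.mem_sdiff, Finset.mem_singleton] at hj
        exact hj.2
      show v (algebraMap k K (a j) * z j) < v (algebraMap k K (a j0) * z j0)
      rw [hterm]
      by_cases haj : a j = 0
      · rw [haj, map_zero, zero_mul, map_zero]
        exact lt_of_lt_of_le hypos (hlo j0)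
      · rw [map_mul, val_algebraMap_eq_one v hv haj, one_mul]
        have hle := hmax j (Finset.mem_filter.mpr ⟨Finset.mem_univ _, haj⟩)
        exact lt_of_le_of_ne hle (fun h => hjne (hinj h))
    rw [hsum, map_mul]
    calc v y * v (z i) = v (z i) * v y := mul_comm _ _
      _ < 1 * v y := mul_lt_mul_of_pos_right (hhi i) hypos
      _ = v y := one_mul _
      _ ≤ v (z j0) := hlo j0
  have h5 := hli.fintype_card_le_finrank
  simpa using h5

/-- Every valuation ring of `K` containing `k`, other than `K`, is the ring of a place. -/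
theorem exists_place_of_valuationSubring (hK : IsFunctionField k K) (B : ValuationSubring K)
    (hB : ∀ c : k, algebraMap k K c ∈ B) (hne : B ≠ ⊤) :
    ∃ P : Place k K, ∀ x : K, P.1 x ≤ 1 ↔ x ∈ B := by
  classical
  set v := B.valuation with hvdef
  have hv : ∀ c : k, v (algebraMap k K c) ≤ 1 := fun c =>
    (B.valuation_le_one_iff _).mpr (hB c)
  obtain ⟨x₀, hx₀⟩ : ∃ x, x ∉ B := by
    by_contra h
    push Not at h
    exact hne (SetLike.ext fun x => ⟨fun _ => ValuationSubring.mem_top x, fun _ => h x⟩)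
  have hx₀v : 1 < v x₀ := by
    rw [← not_le]
    intro h
    exact hx₀ ((B.valuation_le_one_iff _).mp h)
  have hx₀0 : v x₀ ≠ 0 := ne_of_gt (lt_trans zero_lt_one hx₀v)
  haveI : Nontrivial (B.ValueGroup)ˣ := ⟨⟨Units.mk0 (v x₀) hx₀0, 1, fun h => by
    have h1 := congrArg Units.val h
    rw [Units.val_mk0, Units.val_one] at h1
    exact (ne_of_gt hx₀v) h1⟩⟩
  have hwf : Set.WellFoundedOn {γ : B.ValueGroup | 1 ≤ γ} (· < ·) := by
    rw [Set.wellFoundedOn_iff_no_descending_seq]
    intro f hf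
    have hf' : ∀ n, 1 ≤ f n := hf
    have hdec : ∀ a b : ℕ, a < b → f b < f a := fun a b hab => f.map_rel_iff.mpr hab
    choose c hc using fun n => B.valuation_surjective (f n)
    have hf0 : 1 < f 0 := lt_of_le_of_lt (hf' 1) (hdec 0 1 Nat.zero_lt_one)
    have hf0pos : 0 < f 0 := lt_trans zero_lt_one hf0
    have hc0 : c 0 ≠ 0 := by
      intro h
      have h1 := hc 0
      rw [h, map_zero] at h1
      exact (ne_of_gt hf0pos) h1.symm
    have hy0 : (c 0)⁻¹ ≠ 0 := inv_ne_zero hc0
    have hvy : v (c 0)⁻¹ = (f 0)⁻¹ := by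
      rw [map_inv₀]
      congr 1
      exact hc 0
    have hvy1 : v (c 0)⁻¹ < 1 := by
      rw [hvy]
      exact inv_lt_one_of_one_lt₀ hf0
    have htr : Transcendental k (c 0)⁻¹ :=
      transcendental_of_val_ne_one hK v hv hy0 (ne_of_lt hvy1)
    haveI := finiteDimensional_of_transcendental hK htr
    have hvz : ∀ i : Fin (Module.finrank k⟮(c 0)⁻¹⟯ K + 1),
        v (c ((i : ℕ) + 1) * (c 0)⁻¹) = f ((i : ℕ) + 1) * (f 0)⁻¹ := fun i => by
      rw [map_mul, hvy]
      congr 1
      exact hc _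
    have h1 : Module.finrank k⟮(c 0)⁻¹⟯ K + 1 ≤ Module.finrank k⟮(c 0)⁻¹⟯ K := by
      apply chain_card_le hK v hv hy0 hvy1
        (fun i : Fin (Module.finrank k⟮(c 0)⁻¹⟯ K + 1) => c ((i : ℕ) + 1) * (c 0)⁻¹)
      · intro i j hij
        have h := hij
        simp only at h
        rw [hvz i, hvz j] at h
        have h2 := mul_right_cancel₀ (inv_ne_zero (ne_of_gt hf0pos)) h
        have h3 := f.injective h2
        exact Fin.ext (by omega)
      · intro i
        rw [hvz i, hvy]
        calc (f 0)⁻¹ = 1 * (f 0)⁻¹ := (one_mul _).symm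
          _ ≤ f ((i : ℕ) + 1) * (f 0)⁻¹ := mul_le_mul' (hf' _) le_rfl
      · intro i
        rw [hvz i]
        calc f ((i : ℕ) + 1) * (f 0)⁻¹ < f 0 * (f 0)⁻¹ :=
              mul_lt_mul_of_pos_right (hdec 0 ((i : ℕ) + 1) (Nat.succ_pos _))
                (zero_lt_iff.mpr (inv_ne_zero (ne_of_gt hf0pos)))
          _ = 1 := mul_inv_cancel₀ (ne_of_gt hf0pos)
    omega
  obtain ⟨e⟩ :=
    (LinearOrderedCommGroupWithZero.wellFoundedOn_setOfPred_le_lt_iff_nonempty_discrete_of_ne_zero
      (g := (1 : B.ValueGroup)) one_ne_zero).mp hwf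
  have he0 : e 0 = 0 := by
    obtain ⟨z, hz⟩ := EquivLike.surjective e 0
    have h1 : e 0 = e 0 * e z := by rw [← map_mul, zero_mul]
    rw [hz, mul_zero] at h1
    exact h1
  let f : B.ValueGroup →*₀ ℤᵐ⁰ :=
    { toFun := e, map_zero' := he0, map_one' := map_one e, map_mul' := map_mul e }
  have hf : Monotone f := fun a b hab => (map_le_map_iff e).mpr hab
  refine ⟨⟨v.map f hf, ⟨fun c => ?_, ?_⟩⟩, fun x => ?_⟩
  · show e (v (algebraMap k K c)) ≤ 1
    rw [← map_one e]
    exact (map_le_map_iff e).mpr (hv c)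
  · intro γ
    obtain ⟨γ', hγ'⟩ := EquivLike.surjective e γ
    obtain ⟨x, hx⟩ := B.valuation_surjective γ'
    refine ⟨x, ?_⟩
    show e (v x) = γ
    rw [← hγ']
    congr 1
  · show e (v x) ≤ 1 ↔ x ∈ B
    rw [← map_one e, map_le_map_iff e]
    exact B.valuation_le_one_iff x

/-- A transcendental element has a zero. -/
theorem exists_place_val_lt_one (hK : IsFunctionField k K) {x : K} (hx : Transcendental k x) :
    ∃ P : Place k K, P.1 x < 1 := by
  classical
  have hx0 : x ≠ 0 := fun h => hx (h ▸ isAlgebraic_zero)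
  let A : Subring K := (Algebra.adjoin k ({x} : Set K)).toSubring
  have hxA : x ∈ A := Algebra.subset_adjoin (Set.mem_singleton x)
  let I : Ideal A := Ideal.span {⟨x, hxA⟩}
  have hI : I ≠ ⊤ := by
    intro h
    rw [Ideal.eq_top_iff_one, Ideal.mem_span_singleton'] at h
    obtain ⟨a, ha⟩ := h
    have ha' : (a : K) * x = 1 := congrArg Subtype.val ha
    have hmem : (a : K) ∈ (aeval (R := k) x).range := by
      rw [← Algebra.adjoin_singleton_eq_range_aeval]
      exact a.2
    obtain ⟨q, hq⟩ := (AlgHom.mem_range _).mp hmem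
    have h0 : aeval x (q * X - 1) = 0 := by
      rw [map_sub, map_mul, aeval_X, map_one, hq, ha', sub_self]
    have h1 : q * X - 1 = 0 := by
      by_contra hne
      exact hx ⟨_, hne, h0⟩
    have h2 : (q * X - 1).coeff 0 = 0 := by rw [h1, coeff_zero]
    rw [coeff_sub, coeff_mul_X_zero, coeff_one_zero, zero_sub, neg_eq_zero] at h2
    exact one_ne_zero h2
  obtain ⟨B, hAB, hIB⟩ := Ideal.image_subset_nonunits_valuationSubring I hI
  have hxB : x ∈ B.nonunits :=
    hIB ⟨⟨x, hxA⟩, Ideal.subset_span (Set.mem_singleton _), rfl⟩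
  have hkB : ∀ c : k, algebraMap k K c ∈ B := fun c =>
    hAB (Subalgebra.algebraMap_mem (Algebra.adjoin k ({x} : Set K)) c)
  have hvx : B.valuation x < 1 := (B.mem_nonunits_iff).mp hxB
  have hinvB : x⁻¹ ∉ B := by
    intro hmem
    have h1 := (B.valuation_le_one_iff x⁻¹).mpr hmem
    rw [map_inv₀] at h1
    have h2 : B.valuation x * (B.valuation x)⁻¹ = 1 :=
      mul_inv_cancel₀ ((B.valuation.ne_zero_iff).mpr hx0)
    have h3 : B.valuation x * (B.valuation x)⁻¹ ≤ B.valuation x * 1 := mul_le_mul' le_rfl h1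
    rw [h2, mul_one] at h3
    exact absurd hvx (not_lt.mpr h3)
  have hBne : B ≠ ⊤ := by
    intro h
    apply hinvB
    rw [h]
    exact ValuationSubring.mem_top _
  obtain ⟨P, hP⟩ := exists_place_of_valuationSubring hK B hkB hBne
  refine ⟨P, ?_⟩
  by_contra h
  push Not at h
  apply hinvB
  rw [← hP, map_inv₀]
  exact inv_le_one_of_one_le₀ h

/-- A nonconstant element has a zero and a pole. -/
theorem exists_zero_and_pole (hK : IsFunctionField k K) {x : K}
    (hx : x ∉ Set.range (algebraMap k K)) :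
    (∃ P : Place k K, 0 < P.ord x) ∧ ∃ Q : Place k K, Q.ord x < 0 := by
  have htr : Transcendental k x := fun halg => hx (hK.2 x halg)
  have hx0 : x ≠ 0 := fun h => htr (h ▸ isAlgebraic_zero)
  constructor
  · obtain ⟨P, hP⟩ := exists_place_val_lt_one hK htr
    exact ⟨P, (P.ord_pos_iff hx0).mpr hP⟩
  · obtain ⟨Q, hQ⟩ := exists_place_val_lt_one hK (transcendental_inv hK htr)
    refine ⟨Q, ?_⟩
    have h1 := (Q.ord_pos_iff (inv_ne_zero hx0)).mpr hQ
    rw [Q.ord_inv] at h1
    omega

theorem exists_place (hK : IsFunctionField k K) : Nonempty (Place k K) := by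
  obtain ⟨x, hx, -⟩ := hK.1
  obtain ⟨P, -⟩ := exists_place_val_lt_one hK hx
  exact ⟨P⟩

/-- Elements without poles are constants. -/
theorem L_zero_eq_one (hK : IsFunctionField k K) : L (0 : Divisor k K) = 1 := by
  ext x
  rw [Submodule.mem_one]
  constructor
  · intro hxL
    by_contra hx
    have hx' : x ∉ Set.range (algebraMap k K) := hx
    obtain ⟨-, Q, hQ⟩ := exists_zero_and_pole hK hx'
    have hx0 : x ≠ 0 := by
      rintro rfl
      exact hx ⟨0, map_zero _⟩
    have h1 : Q.1 x ≤ exp ((0 : Divisor k K) Q) := hxL Q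
    rw [Finsupp.coe_zero, Pi.zero_apply, exp_zero] at h1
    rw [Q.ord_neg_iff hx0] at hQ
    exact absurd hQ (not_lt.mpr h1)
  · rintro ⟨c, rfl⟩ P
    rw [Finsupp.coe_zero, Pi.zero_apply, exp_zero]
    exact P.2.1 c

theorem exists_eq_smul_of_ord_eq (hK : IsFunctionField k K) (x y : K) (hx : x ≠ 0) (hy : y ≠ 0)
    (h : ∀ P : Place k K, P.ord x = P.ord y) : ∃ c : k, x = c • y := by
  by_cases hz : x * y⁻¹ ∈ Set.range (algebraMap k K)
  · obtain ⟨c, hc⟩ := hz
    refine ⟨c, ?_⟩
    rw [Algebra.smul_def, hc, mul_assoc, inv_mul_cancel₀ hy, mul_one]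
  · exfalso
    obtain ⟨⟨P, hP⟩, -⟩ := exists_zero_and_pole hK hz
    rw [P.ord_mul hx (inv_ne_zero hy), P.ord_inv, h P] at hP
    omega

end FunFld
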