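import Mathlib
import Groth.Agent.Lib.FunFldA_helper2

/-! Function fields of one variable, part B (helper2): distinct places are independent
(weak approximation), finiteness of zeros and poles. -/

open Polynomial IntermediateField WithZero
open scoped NNReal

namespace FunFld

variable {k K : Type*} [Field k] [Field K] [Algebra k K]

theorem lt_one_iff_le_exp_neg_one (x : ℤᵐ⁰) : x < 1 ↔ x ≤ exp (-1 : ℤ) := by
  have h := lt_mul_exp_iff_le (x := x) (y := exp (-1 : ℤ)) exp_ne_zero
  rw [← exp_add] at h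
  simpa using h

theorem one_lt_iff_exp_one_le (x : ℤᵐ⁰) : 1 < x ↔ exp (1 : ℤ) ≤ x := by
  have h := lt_mul_exp_iff_le (x := x) (y := 1) one_ne_zero
  rw [one_mul] at h
  rw [← not_le, ← h, not_lt]

theorem exp_neg_one_lt_one : exp (-1 : ℤ) < (1 : ℤᵐ⁰) :=
  (exp_lt_exp (a := (-1 : ℤ)) (b := 0)).mpr (by norm_num)

namespace Place

theorem ord_zpow (P : Place k K) (t : K) (n : ℤ) : P.ord (t ^ n) = n * P.ord t := by
  unfold ord
  rw [map_zpow₀, log_zpow, smul_eq_mul]
  ring

theorem ord_pow (P : Place k K) (t : K) (n : ℕ) : P.ord (t ^ n) = n * P.ord t := by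
  unfold ord
  rw [map_pow, log_pow, nsmul_eq_mul]
  ring

theorem eq_of_forall_le_one {P Q : Place k K} (h : ∀ a : K, P.1 a ≤ 1 → Q.1 a ≤ 1) :
    P = Q := by
  obtain ⟨t, ht⟩ := P.exists_uniformizer
  have ht0 : t ≠ 0 := by
    rintro rfl
    rw [map_zero] at ht
    exact exp_ne_zero ht.symm
  have hPt : P.ord t = 1 := by
    have h1 := P.val_eq_exp_neg_ord ht0
    rw [ht, exp_inj] at h1
    omega
  have key : ∀ x : K, x ≠ 0 → Q.ord x = Q.ord t * P.ord x := by
    intro x hx
    have htn : t ^ (P.ord x) ≠ 0 := zpow_ne_zero _ ht0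
    have hu0 : x * (t ^ (P.ord x))⁻¹ ≠ 0 := mul_ne_zero hx (inv_ne_zero htn)
    have hord : ∀ R : Place k K,
        R.ord (x * (t ^ (P.ord x))⁻¹) = R.ord x - P.ord x * R.ord t := by
      intro R
      rw [R.ord_mul hx (inv_ne_zero htn), R.ord_inv, R.ord_zpow]
      ring
    have hPu : P.ord (x * (t ^ (P.ord x))⁻¹) = 0 := by
      rw [hord P, hPt]
      ring
    have h1 : 0 ≤ Q.ord (x * (t ^ (P.ord x))⁻¹) := by
      rw [Q.ord_nonneg_iff hu0]
      apply h
      rw [← P.ord_nonneg_iff hu0, hPu]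
    have h2 : 0 ≤ Q.ord (x * (t ^ (P.ord x))⁻¹)⁻¹ := by
      rw [Q.ord_nonneg_iff (inv_ne_zero hu0)]
      apply h
      rw [← P.ord_nonneg_iff (inv_ne_zero hu0), P.ord_inv, hPu]
      norm_num
    rw [Q.ord_inv] at h2
    have hQu : Q.ord (x * (t ^ (P.ord x))⁻¹) = 0 := by omega
    rw [hord Q] at hQu
    linarith
  obtain ⟨y, hy⟩ := Q.2.2 (exp (-1 : ℤ))
  have hy0 : y ≠ 0 := by
    rintro rfl
    rw [map_zero] at hy
    exact exp_ne_zero hy.symm
  have hQy : Q.ord y = 1 := by
    have h1 := Q.val_eq_exp_neg_ord hy0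
    rw [hy, exp_inj] at h1
    omega
  have hQt : 0 ≤ Q.ord t := by
    rw [Q.ord_nonneg_iff ht0]
    apply h
    rw [ht]
    exact exp_neg_one_lt_one.le
  have hm : Q.ord t = 1 := by
    have h1 := key y hy0
    rw [hQy] at h1
    rcases Int.eq_one_or_neg_one_of_mul_eq_one h1.symm with h2 | h2
    · exact h2
    · omega
  apply Subtype.ext
  apply Valuation.ext
  intro x
  by_cases hx : x = 0
  · rw [hx, map_zero, map_zero]
  · rw [P.val_eq_exp_neg_ord hx, Q.val_eq_exp_neg_ord hx, key x hx, hm, one_mul]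

theorem exists_val_le_one_lt {P Q : Place k K} (h : P ≠ Q) :
    ∃ a : K, P.1 a ≤ 1 ∧ 1 < Q.1 a := by
  by_contra hcon
  push Not at hcon
  exact h (eq_of_forall_le_one hcon)

/-- The real absolute value `2 ^ (-ord_P)` attached to a place. -/
noncomputable def abv (P : Place k K) : AbsoluteValue K ℝ where
  toFun x := ((WithZeroMulInt.toNNReal (e := 2) two_ne_zero (P.1 x) : ℝ≥0) : ℝ)
  map_mul' x y := by rw [map_mul, map_mul, NNReal.coe_mul]
  nonneg' x := NNReal.coe_nonneg _
  eq_zero' x := by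
    rw [NNReal.coe_eq_zero, map_eq_zero, Valuation.zero_iff]
  add_le' x y := by
    have hmono := (WithZeroMulInt.toNNReal_strictMono (e := 2) (by norm_num)).monotone
    have h1 : P.1 (x + y) ≤ max (P.1 x) (P.1 y) := P.1.map_add x y
    have h2 := hmono h1
    rw [hmono.map_max] at h2
    have h3 : ((WithZeroMulInt.toNNReal (e := 2) two_ne_zero (P.1 (x + y)) : ℝ≥0) : ℝ) ≤
        max ((WithZeroMulInt.toNNReal (e := 2) two_ne_zero (P.1 x) : ℝ≥0) : ℝ)
          ((WithZeroMulInt.toNNReal (e := 2) two_ne_zero (P.1 y) : ℝ≥0) : ℝ) := by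
      exact_mod_cast h2
    exact h3.trans (max_le_add_of_nonneg (NNReal.coe_nonneg _) (NNReal.coe_nonneg _))

theorem abv_apply (P : Place k K) (x : K) :
    P.abv x = ((WithZeroMulInt.toNNReal (e := 2) two_ne_zero (P.1 x) : ℝ≥0) : ℝ) := rfl

theorem abv_lt_abv_iff (P : Place k K) (x y : K) : P.abv x < P.abv y ↔ P.1 x < P.1 y := by
  rw [abv_apply, abv_apply, NNReal.coe_lt_coe]
  exact (WithZeroMulInt.toNNReal_strictMono (e := 2) (by norm_num)).lt_iff_lt

theorem abv_le_abv_iff (P : Place k K) (x y : K) : P.abv x ≤ P.abv y ↔ P.1 x ≤ P.1 y := by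
  rw [abv_apply, abv_apply, NNReal.coe_le_coe]
  exact (WithZeroMulInt.toNNReal_strictMono (e := 2) (by norm_num)).le_iff_le

theorem abv_lt_one_iff (P : Place k K) (x : K) : P.abv x < 1 ↔ P.1 x < 1 := by
  have h := P.abv_lt_abv_iff x 1
  rwa [map_one, map_one] at h

theorem one_lt_abv_iff (P : Place k K) (x : K) : 1 < P.abv x ↔ 1 < P.1 x := by
  have h := P.abv_lt_abv_iff 1 x
  rwa [map_one, map_one] at h

theorem abv_le_one_iff (P : Place k K) (x : K) : P.abv x ≤ 1 ↔ P.1 x ≤ 1 := by
  have h := P.abv_le_abv_iff x 1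
  rwa [map_one, map_one] at h

end Place

section Approx

theorem exists_one_lt_lt_one {ι : Type*} [Finite ι] (P : ι → Place k K)
    (hP : Function.Injective P) (i : ι) :
    ∃ a : K, 1 < (P i).1 a ∧ ∀ j, j ≠ i → (P j).1 a < 1 := by
  have h1 : ∀ i, ((P i).abv).IsNontrivial := by
    intro i
    obtain ⟨t, ht⟩ := (P i).exists_uniformizer
    have ht0 : t ≠ 0 := by
      rintro rfl
      rw [map_zero] at ht
      exact exp_ne_zero ht.symm
    refine ⟨t, ht0, ne_of_lt ?_⟩
    rw [Place.abv_lt_one_iff, ht]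
    exact exp_neg_one_lt_one
  have h2 : Pairwise fun i j => ¬ ((P i).abv).IsEquiv ((P j).abv) := by
    intro i j hij heq
    obtain ⟨a, ha1, ha2⟩ := Place.exists_val_le_one_lt (hP.ne hij)
    have h3 := heq a 1
    rw [map_one, map_one, Place.abv_le_one_iff, Place.abv_le_one_iff] at h3
    exact absurd (h3.mp ha1) (not_le.mpr ha2)
  obtain ⟨a, ha, haj⟩ := AbsoluteValue.exists_one_lt_lt_one_pi_of_not_isEquiv h1 h2 i
  refine ⟨a, (Place.one_lt_abv_iff _ _).mp ha, fun j hj => (Place.abv_lt_one_iff _ _).mp (haj j hj)⟩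

theorem exists_approx_one {ι : Type*} [Finite ι] (P : ι → Place k K)
    (hP : Function.Injective P) (i : ι) (N : ℕ) :
    ∃ w : K, (P i).1 (w - 1) ≤ exp (-(N : ℤ)) ∧ ∀ j, j ≠ i → (P j).1 w ≤ exp (-(N : ℤ)) := by
  obtain ⟨a, ha, haj⟩ := exists_one_lt_lt_one P hP i
  set s : ℕ := N + 1 with hs
  set b : K := a ^ s with hb
  have e1 : exp (1 : ℤ) ^ s = exp ((s : ℕ) : ℤ) := by
    rw [← exp_nsmul, nsmul_eq_mul, mul_one]
  have e2 : exp (-1 : ℤ) ^ s = exp (-((s : ℕ) : ℤ)) := by
    rw [← exp_nsmul, nsmul_eq_mul, mul_neg, mul_one]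
  have hi : exp ((s : ℕ) : ℤ) ≤ (P i).1 b := by
    rw [← e1, hb, map_pow]
    exact pow_le_pow_left' ((one_lt_iff_exp_one_le _).mp ha) s
  have hj : ∀ j, j ≠ i → (P j).1 b ≤ exp (-((s : ℕ) : ℤ)) := by
    intro j hji
    rw [← e2, hb, map_pow]
    exact pow_le_pow_left' ((lt_one_iff_le_exp_neg_one _).mp (haj j hji)) s
  have hsN : exp (-((s : ℕ) : ℤ)) ≤ exp (-(N : ℤ)) := by
    rw [exp_le_exp, hs]
    push_cast
    omega
  have h1b : (1 : ℤᵐ⁰) < (P i).1 b := by
    refine lt_of_lt_of_le ?_ hi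
    exact (exp_lt_exp (a := (0 : ℤ)) (b := ((s : ℕ) : ℤ))).mpr (by rw [hs]; push_cast; omega)
  have hden_i : (P i).1 (1 + b) = (P i).1 b :=
    Valuation.map_add_eq_of_lt_right _ (by rw [map_one]; exact h1b)
  have hb0 : (P i).1 b ≠ 0 := ne_of_gt (lt_trans zero_lt_one h1b)
  have hden0 : (1 + b : K) ≠ 0 := by
    intro h
    rw [h, map_zero] at hden_i
    exact hb0 hden_i.symm
  refine ⟨b * (1 + b)⁻¹, ?_, ?_⟩
  · have hw1 : b * (1 + b)⁻¹ - 1 = -(1 + b)⁻¹ := by
      field_simp
      ring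
    rw [hw1, Valuation.map_neg, map_inv₀, hden_i]
    calc ((P i).1 b)⁻¹ ≤ (exp ((s : ℕ) : ℤ))⁻¹ := by
          rw [inv_le_inv₀ (zero_lt_iff.mpr hb0) exp_pos]
          exact hi
      _ = exp (-((s : ℕ) : ℤ)) := (exp_neg _).symm
      _ ≤ _ := hsN
  · intro j hji
    have hlt : (P j).1 b < (P j).1 (1 : K) := by
      rw [map_one]
      exact lt_of_le_of_lt (hj j hji) ((exp_lt_exp (a := -((s : ℕ) : ℤ)) (b := 0)).mpr
        (by rw [hs]; push_cast; omega))
    have hden_j : (P j).1 (1 + b) = 1 := by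
      rw [Valuation.map_add_eq_of_lt_left _ hlt, map_one]
    rw [map_mul, map_inv₀, hden_j, inv_one, mul_one]
    exact (hj j hji).trans hsN

theorem exists_approx {ι : Type*} [Fintype ι] (P : ι → Place k K)
    (hP : Function.Injective P) (y : ι → K) (N : ℤ) :
    ∃ z : K, ∀ i, (P i).1 (z - y i) ≤ exp (-N) := by
  classical
  obtain ⟨M, hM⟩ : ∃ M : ℤ, ∀ i j, (P i).1 (y j) ≤ exp M := by
    obtain ⟨M, hM⟩ := Finset.exists_le
      (Finset.univ.image (fun p : ι × ι => log ((P p.1).1 (y p.2))))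
    refine ⟨M, fun i j => ?_⟩
    apply le_exp_of_log_le
    exact hM _ (Finset.mem_image.mpr ⟨(i, j), Finset.mem_univ _, rfl⟩)
  set s : ℕ := (N + M).toNat with hs
  choose w hw1 hw2 using fun i => exists_approx_one P hP i s
  refine ⟨∑ j, w j * y j, fun i => ?_⟩
  have hdecomp : ∑ j, w j * y j - y i = ∑ j, (w j - if j = i then 1 else 0) * y j := by
    simp only [sub_mul, Finset.sum_sub_distrib, ite_mul, one_mul, zero_mul, Finset.sum_ite_eq',
      Finset.mem_univ, if_true]
  rw [hdecomp]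
  apply Valuation.map_sum_le
  intro j _
  rw [map_mul]
  have hbd : (P i).1 (w j - if j = i then 1 else 0) ≤ exp (-((s : ℕ) : ℤ)) := by
    by_cases hji : j = i
    · rw [if_pos hji, hji]
      exact hw1 i
    · rw [if_neg hji, sub_zero]
      exact hw2 j i (fun h => hji h.symm)
  calc (P i).1 (w j - if j = i then 1 else 0) * (P i).1 (y j)
      ≤ exp (-((s : ℕ) : ℤ)) * exp M := mul_le_mul' hbd (hM i j)
    _ = exp (-((s : ℕ) : ℤ) + M) := (exp_add _ _).symm
    _ ≤ exp (-N) := by
        rw [exp_le_exp]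
        have := Int.self_le_toNat (N + M)
        omega

/-- Weak approximation for finitely many distinct places. -/
theorem weak_approximation {ι : Type*} [Fintype ι] (P : ι → Place k K)
    (hP : Function.Injective P) (x : ι → K) (m : ι → ℤ) :
    ∃ y : K, ∀ i, (P i).1 (y - x i) = exp (-(m i)) := by
  classical
  choose z hz using fun i => (P i).2.2 (exp (-(m i)))
  obtain ⟨N, hN⟩ : ∃ N : ℤ, ∀ i, m i < N := by
    obtain ⟨M, hM⟩ := Finset.exists_le (Finset.univ.image m)
    exact ⟨M + 1, fun i => lt_of_le_of_lt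
      (hM _ (Finset.mem_image_of_mem _ (Finset.mem_univ i))) (lt_add_one M)⟩
  obtain ⟨y, hy⟩ := exists_approx P hP (fun i => x i + z i) N
  refine ⟨y, fun i => ?_⟩
  have h1 : (P i).1 (y - (x i + z i)) < (P i).1 (z i) := by
    rw [hz i]
    exact lt_of_le_of_lt (hy i) (exp_lt_exp.mpr (neg_lt_neg (hN i)))
  have h2 : y - x i = z i + (y - (x i + z i)) := by ring
  rw [h2, Valuation.map_add_eq_of_lt_left _ h1, hz i]

end Approx

section FiniteSupport

theorem finite_zeros (hK : IsFunctionField k K) {x : K} (hx : Transcendental k x) :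
    {P : Place k K | P.1 x < 1}.Finite := by
  classical
  haveI := finiteDimensional_of_transcendental hK hx
  by_contra hinf
  have hinf' : Set.Infinite {P : Place k K | P.1 x < 1} := hinf
  obtain ⟨s, hs, hcard⟩ := hinf'.exists_subset_card_eq (Module.finrank k⟮x⟯ K + 1)
  let P : s → Place k K := Subtype.val
  have hP : Function.Injective P := Subtype.val_injective
  choose w hw1 hw2 using fun i : s => exists_approx_one P hP i 1
  have hli : LinearIndependent k⟮x⟯ w := by
    apply linearIndependent_of_val (Γ₀ := ℤᵐ⁰) hx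
    intro a ha
    obtain ⟨i0, hi0⟩ : ∃ i, a i ≠ 0 := by
      by_contra h
      push Not at h
      exact ha (funext h)
    have hxlt : (P i0).1 x < 1 := hs (Finset.mem_coe.mpr i0.2)
    refine ⟨(P i0).1, (P i0).2.1, hxlt.le, fun i => ?_⟩
    have hw_i0 : (P i0).1 (w i0) = 1 := by
      have h := hw1 i0
      have hlt : (P i0).1 (w i0 - 1) < (P i0).1 (1 : K) := by
        rw [map_one]
        exact lt_of_le_of_lt h exp_neg_one_lt_one
      have h3 : w i0 = 1 + (w i0 - 1) := by ring
      rw [h3, Valuation.map_add_eq_of_lt_left _ hlt, map_one]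
    have hw_j : ∀ j, j ≠ i0 → (P i0).1 (w j) < 1 := fun j hj =>
      lt_of_le_of_lt (hw2 j i0 (fun h => hj h.symm)) exp_neg_one_lt_one
    have hterm : (P i0).1 (algebraMap k K (a i0) * w i0) = 1 := by
      rw [map_mul, (P i0).val_algebraMap hi0, hw_i0, one_mul]
    have hsum : (P i0).1 (∑ j, algebraMap k K (a j) * w j) = 1 := by
      refine (Valuation.map_sum_eq_of_lt (P i0).1 (s := Finset.univ)
        (f := fun j => algebraMap k K (a j) * w j) (j := i0) (Finset.mem_univ _) ?_).trans hterm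
      intro j hj
      have hji : j ≠ i0 := by
        rw [Finset.mem_sdiff, Finset.mem_singleton] at hj
        exact hj.2
      show (P i0).1 (algebraMap k K (a j) * w j) < (P i0).1 (algebraMap k K (a i0) * w i0)
      rw [hterm, map_mul]
      calc (P i0).1 (algebraMap k K (a j)) * (P i0).1 (w j) ≤ 1 * (P i0).1 (w j) :=
            mul_le_mul' ((P i0).2.1 _) le_rfl
        _ = (P i0).1 (w j) := one_mul _
        _ < 1 := hw_j j hji
    rw [hsum, map_mul]
    have hwi : (P i0).1 (w i) ≤ 1 := by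
      by_cases h : i = i0
      · rw [h, hw_i0]
      · exact (hw_j i h).le
    calc (P i0).1 x * (P i0).1 (w i) ≤ (P i0).1 x * 1 := mul_le_mul' le_rfl hwi
      _ = (P i0).1 x := mul_one _
      _ < 1 := hxlt
  have h5 := hli.fintype_card_le_finrank
  rw [Fintype.card_coe, hcard] at h5
  omega

/-- An element of a function field has finitely many zeros and poles. -/
theorem finite_support_ord (hK : IsFunctionField k K) (x : K) :
    (Function.support fun P : Place k K => P.ord x).Finite := by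
  by_cases hx : Transcendental k x
  · have hx0 : x ≠ 0 := fun h => hx (h ▸ isAlgebraic_zero)
    have hinv : Transcendental k x⁻¹ := by
      intro halg
      obtain ⟨c, hc⟩ := hK.2 _ halg
      apply hx
      have h1 : x = algebraMap k K c⁻¹ := by rw [map_inv₀, hc, inv_inv]
      rw [h1]
      exact isAlgebraic_algebraMap _
    refine ((finite_zeros hK hx).union (finite_zeros hK hinv)).subset ?_
    intro P hP
    rw [Function.mem_support] at hP
    rcases lt_trichotomy (P.ord x) 0 with h | h | h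
    · right
      show P.1 x⁻¹ < 1
      rw [← P.ord_pos_iff (inv_ne_zero hx0), P.ord_inv]
      omega
    · exact absurd h hP
    · left
      exact (P.ord_pos_iff hx0).mp h
  · have halg : IsAlgebraic k x := not_not.mp hx
    obtain ⟨c, rfl⟩ := hK.2 x halg
    have hempty : (Function.support fun P : Place k K => P.ord (algebraMap k K c)) = ∅ := by
      ext P
      simp [P.ord_algebraMap c]
    rw [hempty]
    exact Set.finite_empty

theorem div_apply (hK : IsFunctionField k K) (x : K) (P : Place k K) :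
    div k x P = P.ord x := by
  unfold div
  rw [dif_pos (finite_support_ord hK x)]
  rfl

end FiniteSupport

end FunFld
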