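import Mathlib
import Groth.Agent.Lib.FunFldB_helper2
import Groth.Agent.Lib.FunFldC_helper2

/-! Function fields of one variable, part D (helper2): degrees of divisors, the local residue map,
finite-dimensionality of `L(D)` and the bound `ℓ(D₂) - ℓ(D₁) ≤ deg D₂ - deg D₁`. -/

open Polynomial IntermediateField WithZero

namespace FunFld

variable {k K : Type*} [Field k] [Field K] [Algebra k K]

section Deg

/-- The degree as an additive map. -/
noncomputable def degAddHomH : Divisor k K →+ ℤ :=
  Finsupp.liftAddHom (fun P : Place k K => AddMonoidHom.mulRight ((P.deg : ℤ)))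

theorem deg_eq_degAddHomH (D : Divisor k K) : Divisor.deg D = degAddHomH D := by
  unfold Divisor.deg degAddHomH
  rw [Finsupp.liftAddHom_apply]
  rfl

theorem deg_add (D E : Divisor k K) : Divisor.deg (D + E) = Divisor.deg D + Divisor.deg E := by
  simp only [deg_eq_degAddHomH, map_add]

theorem deg_neg (D : Divisor k K) : Divisor.deg (-D) = -Divisor.deg D := by
  simp only [deg_eq_degAddHomH, map_neg]

theorem deg_sub (D E : Divisor k K) : Divisor.deg (D - E) = Divisor.deg D - Divisor.deg E := by
  simp only [deg_eq_degAddHomH, map_sub]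

theorem deg_zero : Divisor.deg (0 : Divisor k K) = 0 := by
  simp only [deg_eq_degAddHomH, map_zero]

theorem deg_single (P : Place k K) (n : ℤ) :
    Divisor.deg (Finsupp.single P n : Divisor k K) = n * P.deg := by
  unfold Divisor.deg
  rw [Finsupp.sum_single_index]
  rw [zero_mul]

theorem deg_nsmul (n : ℕ) (D : Divisor k K) : Divisor.deg (n • D) = n * Divisor.deg D := by
  simp only [deg_eq_degAddHomH, map_nsmul, nsmul_eq_mul]

theorem deg_nonneg_of_nonneg {F : Divisor k K} (h : 0 ≤ F) : 0 ≤ Divisor.deg F := by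
  unfold Divisor.deg Finsupp.sum
  apply Finset.sum_nonneg
  intro P _
  have hP : 0 ≤ F P := h P
  exact mul_nonneg hP (Int.natCast_nonneg _)

theorem deg_mono {D E : Divisor k K} (h : D ≤ E) : Divisor.deg D ≤ Divisor.deg E := by
  have h1 : 0 ≤ E - D := sub_nonneg.mpr h
  have h2 := deg_nonneg_of_nonneg h1
  rw [deg_sub] at h2
  linarith

theorem Divisor.induction_nonneg {p : Divisor k K → Prop} (h0 : p 0)
    (hadd : ∀ (E : Divisor k K) (P : Place k K), 0 ≤ E → p E → p (E + Finsupp.single P 1)) :
    ∀ E : Divisor k K, 0 ≤ E → p E := by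
  classical
  have hnn : ∀ F : Place k K →₀ ℕ,
      (0 : Divisor k K) ≤ F.mapRange (Nat.cast : ℕ → ℤ) Nat.cast_zero := by
    intro F P
    rw [Finsupp.mapRange_apply]
    exact Int.natCast_nonneg _
  have key : ∀ F : Place k K →₀ ℕ, p (F.mapRange (Nat.cast : ℕ → ℤ) Nat.cast_zero) := by
    intro F
    refine Finsupp.induction F ?_ ?_
    · rw [Finsupp.mapRange_zero]
      exact h0
    · intro a b f hnotin hb ih
      clear hnotin hb
      rw [Finsupp.mapRange_add (fun x y => Nat.cast_add x y), Finsupp.mapRange_single]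
      have hG := hnn f
      generalize f.mapRange (Nat.cast : ℕ → ℤ) Nat.cast_zero = G at ih hG
      induction b with
      | zero =>
        rw [Nat.cast_zero, Finsupp.single_zero, zero_add]
        exact ih
      | succ b ihb =>
        have h1 : (Finsupp.single a ((b + 1 : ℕ) : ℤ) + G : Divisor k K) =
            (Finsupp.single a (b : ℤ) + G) + Finsupp.single a 1 := by
          rw [Nat.cast_succ, Finsupp.single_add]
          abel
        rw [h1]
        apply hadd _ _ _ ihb
        apply add_nonneg _ hG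
        rw [Finsupp.single_nonneg]
        exact Int.natCast_nonneg _
  intro E hE
  have hEq : E = (E.mapRange Int.toNat Int.toNat_zero).mapRange (Nat.cast : ℕ → ℤ)
      Nat.cast_zero := by
    ext P
    rw [Finsupp.mapRange_apply, Finsupp.mapRange_apply, Int.toNat_of_nonneg]
    exact hE P
  rw [hEq]
  exact key _

end Deg

section Local

theorem exp_neg_mul_lt_one_iff (n : ℤ) (a : ℤᵐ⁰) : exp (-n) * a < 1 ↔ a ≤ exp (n - 1) := by
  rcases eq_or_ne a 0 with rfl | ha
  · simp
  · obtain ⟨m, rfl⟩ : ∃ m : ℤ, a = exp m := ⟨log a, (exp_log ha).symm⟩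
    rw [← exp_add, ← exp_zero (M := ℤ), exp_lt_exp, exp_le_exp]
    omega

theorem val_uniformizer_zpow (P : Place k K) {t : K} (ht : P.1 t = exp (-1 : ℤ)) (n : ℤ) :
    P.1 (t ^ n) = exp (-n) := by
  rw [map_zpow₀, ht, ← exp_zsmul, smul_eq_mul, mul_neg, mul_one]

theorem uniformizer_ne_zero (P : Place k K) {t : K} (ht : P.1 t = exp (-1 : ℤ)) : t ≠ 0 := by
  rintro rfl
  rw [map_zero] at ht
  exact exp_ne_zero ht.symm

theorem val_zpow_mul_le_one (P : Place k K) {t : K} (ht : P.1 t = exp (-1 : ℤ)) {n : ℤ} {x : K}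
    (hx : P.1 x ≤ exp n) : P.1 (t ^ n * x) ≤ 1 := by
  rw [map_mul, val_uniformizer_zpow P ht]
  calc exp (-n) * P.1 x ≤ exp (-n) * exp n := mul_le_mul' le_rfl hx
    _ = 1 := by rw [← exp_add, neg_add_cancel, exp_zero]

/-- The `k`-subspace `{x | v_P x ≤ exp n}` of `K`. -/
def ball (P : Place k K) (n : ℤ) : Submodule k K where
  carrier := {x | P.1 x ≤ exp n}
  add_mem' {x y} hx hy := (P.1.map_add x y).trans (max_le hx hy)
  zero_mem' := by simp
  smul_mem' c x hx := by
    rw [Set.mem_ofPred_eq, Algebra.smul_def, map_mul]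
    exact (mul_le_mul' (P.2.1 c) hx).trans_eq (one_mul _)

theorem mem_ball {P : Place k K} {n : ℤ} {x : K} : x ∈ ball P n ↔ P.1 x ≤ exp n := Iff.rfl

/-- `x ↦ residue of t^n x` on the ball of radius `exp n`. -/
noncomputable def resMap (P : Place k K) {t : K} (ht : P.1 t = exp (-1 : ℤ)) (n : ℤ) :
    ball P n →ₗ[k] IsLocalRing.ResidueField P.O where
  toFun x := IsLocalRing.residue P.O
    ⟨t ^ n * (x : K), val_zpow_mul_le_one P ht (mem_ball.mp x.2)⟩
  map_add' x y := by
    rw [← map_add]
    congr 1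
    apply Subtype.ext
    show t ^ n * ((x : K) + (y : K)) = t ^ n * (x : K) + t ^ n * (y : K)
    ring
  map_smul' c x := by
    have h1 : (⟨t ^ n * ((c • x : ball P n) : K),
        val_zpow_mul_le_one P ht (mem_ball.mp (c • x).2)⟩ : P.O) =
        algebraMap k P.O c * ⟨t ^ n * (x : K),
          val_zpow_mul_le_one P ht (mem_ball.mp x.2)⟩ := by
      apply Subtype.ext
      show t ^ n * (c • (x : K)) = algebraMap k K c * (t ^ n * (x : K))
      rw [Algebra.smul_def]
      ring
    rw [RingHom.id_apply, h1, map_mul]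
    exact (Algebra.smul_def c _).symm

theorem resMap_eq_zero_iff (P : Place k K) {t : K} (ht : P.1 t = exp (-1 : ℤ)) (n : ℤ)
    (x : ball P n) : resMap P ht n x = 0 ↔ P.1 (x : K) ≤ exp (n - 1) := by
  show IsLocalRing.residue P.O ⟨t ^ n * (x : K), _⟩ = 0 ↔ _
  rw [P.residue_eq_zero_iff]
  show P.1 (t ^ n * (x : K)) < 1 ↔ _
  rw [map_mul, val_uniformizer_zpow P ht, exp_neg_mul_lt_one_iff]

theorem resMap_surjective (P : Place k K) {t : K} (ht : P.1 t = exp (-1 : ℤ)) (n : ℤ) :
    Function.Surjective (resMap P ht n) := by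
  intro ξ
  obtain ⟨u, rfl⟩ := IsLocalRing.residue_surjective ξ
  have ht0 : t ≠ 0 := uniformizer_ne_zero P ht
  have hu : P.1 (u : K) ≤ 1 := u.2
  refine ⟨⟨t ^ (-n) * (u : K), ?_⟩, ?_⟩
  · show P.1 (t ^ (-n) * (u : K)) ≤ exp n
    rw [map_mul, val_uniformizer_zpow P ht, neg_neg]
    calc exp n * P.1 (u : K) ≤ exp n * 1 := mul_le_mul' le_rfl hu
      _ = exp n := mul_one _
  · show IsLocalRing.residue P.O ⟨t ^ n * (t ^ (-n) * (u : K)), _⟩ = IsLocalRing.residue P.O u
    congr 1
    apply Subtype.ext
    show t ^ n * (t ^ (-n) * (u : K)) = (u : K)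
    rw [← mul_assoc, ← zpow_add₀ ht0, add_neg_cancel, zpow_zero, one_mul]

end Local

section LinAlg

theorem finrank_le_of_ker {V W : Type*} [AddCommGroup V] [Module k V] [AddCommGroup W]
    [Module k W] (φ : V →ₗ[k] W) [FiniteDimensional k W]
    [FiniteDimensional k (LinearMap.ker φ)] :
    FiniteDimensional k V ∧
      Module.finrank k V ≤ Module.finrank k (LinearMap.ker φ) + Module.finrank k W := by
  haveI : FiniteDimensional k (V ⧸ LinearMap.ker φ) :=
    Module.Finite.equiv φ.quotKerEquivRange.symm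
  haveI : FiniteDimensional k V := Module.Finite.of_submodule_quotient (LinearMap.ker φ)
  refine ⟨inferInstance, ?_⟩
  have h := LinearMap.finrank_range_add_finrank_ker φ
  have h2 := Submodule.finrank_le (LinearMap.range φ)
  omega

theorem finrank_eq_of_ker_of_surjective {V W : Type*} [AddCommGroup V] [Module k V]
    [AddCommGroup W] [Module k W] (φ : V →ₗ[k] W) (hφ : Function.Surjective φ)
    [FiniteDimensional k W] [FiniteDimensional k (LinearMap.ker φ)] :
    Module.finrank k V = Module.finrank k (LinearMap.ker φ) + Module.finrank k W := by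
  haveI := (finrank_le_of_ker φ).1
  have h := LinearMap.finrank_range_add_finrank_ker φ
  rw [LinearMap.range_eq_top.mpr hφ, finrank_top] at h
  omega

end LinAlg

section LD

theorem L_le_ball (D : Divisor k K) (P : Place k K) : L D ≤ ball P (D P) := fun _ hx => hx P

theorem L_mono {D E : Divisor k K} (h : D ≤ E) : L D ≤ L E := fun _ hx P =>
  (hx P).trans (exp_le_exp.mpr (h P))

theorem L_step (hK : IsFunctionField k K) (D : Divisor k K) (P : Place k K)
    [FiniteDimensional k (L D)] :
    FiniteDimensional k (L (D + Finsupp.single P 1)) ∧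
      ell (D + Finsupp.single P 1) ≤ ell D + P.deg := by
  classical
  obtain ⟨t, ht⟩ := P.exists_uniformizer
  obtain ⟨D', hD'⟩ : ∃ D' : Divisor k K, D' = D + Finsupp.single P 1 := ⟨_, rfl⟩
  rw [← hD']
  have hD'P : D' P = D P + 1 := by
    rw [hD', Finsupp.add_apply, Finsupp.single_eq_same]
  have hD'Q : ∀ Q, Q ≠ P → D' Q = D Q := fun Q hQ => by
    rw [hD', Finsupp.add_apply, Finsupp.single_apply, if_neg (fun h => hQ h.symm), add_zero]
  have hle : L D ≤ L D' := by
    rw [hD']
    exact L_mono (le_add_of_nonneg_right (Finsupp.single_nonneg.mpr zero_le_one))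
  let φ : L D' →ₗ[k] IsLocalRing.ResidueField P.O :=
    (resMap P ht (D' P)).comp (Submodule.inclusion (L_le_ball D' P))
  have hker : LinearMap.ker φ = Submodule.comap (L D').subtype (L D) := by
    ext x
    rw [LinearMap.mem_ker, Submodule.mem_comap]
    show resMap P ht (D' P) (Submodule.inclusion (L_le_ball D' P) x) = 0 ↔ (x : K) ∈ L D
    rw [resMap_eq_zero_iff]
    show P.1 (x : K) ≤ exp (D' P - 1) ↔ _
    rw [hD'P, add_sub_cancel_right]
    constructor
    · intro h Q
      by_cases hQ : Q = P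
      · rw [hQ]
        exact h
      · have h3 := (mem_L.mp x.2) Q
        rw [hD'Q Q hQ] at h3
        exact h3
    · intro h
      exact h P
  haveI : FiniteDimensional k (LinearMap.ker φ) := by
    rw [hker]
    exact Module.Finite.equiv (Submodule.comapSubtypeEquivOfLe hle).symm
  have hkerrank : Module.finrank k (LinearMap.ker φ) = ell D := by
    rw [hker]
    exact (Submodule.comapSubtypeEquivOfLe hle).finrank_eq
  haveI := finiteDimensional_residueField hK P
  obtain ⟨h1, h2⟩ := finrank_le_of_ker φ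
  refine ⟨h1, ?_⟩
  rw [hkerrank] at h2
  exact h2

theorem ell_zero (hK : IsFunctionField k K) : ell (0 : Divisor k K) = 1 := by
  unfold ell
  rw [L_zero_eq_one hK, Submodule.one_eq_span]
  exact finrank_span_singleton one_ne_zero

theorem finiteDimensional_L_zero (hK : IsFunctionField k K) :
    FiniteDimensional k (L (0 : Divisor k K)) := by
  rw [L_zero_eq_one hK, Submodule.one_eq_span]
  infer_instance

/-- General step bound: adding an effective divisor `E` raises `ℓ` by at most `deg E`. -/
theorem L_add_nonneg (hK : IsFunctionField k K) :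
    ∀ E : Divisor k K, 0 ≤ E → ∀ D : Divisor k K, FiniteDimensional k (L D) →
      FiniteDimensional k (L (D + E)) ∧ (ell (D + E) : ℤ) ≤ ell D + Divisor.deg E := by
  refine Divisor.induction_nonneg ?_ ?_
  · intro D hD
    rw [add_zero, deg_zero, add_zero]
    exact ⟨hD, le_rfl⟩
  · intro E P _ ih D hD
    obtain ⟨h1, h2⟩ := ih D hD
    haveI := h1
    obtain ⟨h3, h4⟩ := L_step hK (D + E) P
    rw [← add_assoc]
    refine ⟨h3, ?_⟩
    rw [deg_add, deg_single, one_mul]
    have h5 : (ell (D + E + Finsupp.single P 1) : ℤ) ≤ ell (D + E) + P.deg := by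
      exact_mod_cast h4
    linarith

/-- `L(D)` is finite-dimensional. -/
theorem finiteDimensional_L (hK : IsFunctionField k K) (D : Divisor k K) :
    FiniteDimensional k (L D) := by
  have h0 : (0 : Divisor k K) ≤ D ⊔ 0 := le_sup_right
  obtain ⟨h1, -⟩ := L_add_nonneg hK (D ⊔ 0) h0 0 (finiteDimensional_L_zero hK)
  rw [zero_add] at h1
  haveI := h1
  exact Submodule.finiteDimensional_of_le (L_mono (le_sup_left : D ≤ D ⊔ 0))

theorem ell_sub_ell_le (hK : IsFunctionField k K) {D₁ D₂ : Divisor k K} (h : D₁ ≤ D₂) :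
    (ell D₂ : ℤ) - ell D₁ ≤ Divisor.deg D₂ - Divisor.deg D₁ := by
  have h1 : (0 : Divisor k K) ≤ D₂ - D₁ := sub_nonneg.mpr h
  obtain ⟨-, h2⟩ := L_add_nonneg hK (D₂ - D₁) h1 D₁ (finiteDimensional_L hK D₁)
  rw [add_sub_cancel, deg_sub] at h2
  linarith

theorem ell_mono (hK : IsFunctionField k K) {D₁ D₂ : Divisor k K} (h : D₁ ≤ D₂) :
    ell D₁ ≤ ell D₂ := by
  haveI := finiteDimensional_L hK D₂
  exact Submodule.finrank_mono (L_mono h)

end LD

end FunFld
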