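import Mathlib
import Groth.Agent.Lib.FunFldD_helper2

/-! Function fields of one variable, part E (helper2): relative quotients of submodules and a
generic chain lemma for divisor-indexed families of submodules. -/

open WithZero

namespace FunFld

variable {k K : Type*} [Field k] [Field K] [Algebra k K]

section RelQ

variable {V : Type*} [AddCommGroup V] [Module k V]

/-- The relative quotient `B / (A ∩ B)` of two submodules. -/
abbrev relQ (A B : Submodule k V) : Type _ := ↥B ⧸ Submodule.comap B.subtype A

/-- If `f : C → W` is onto with kernel `A ∩ C` then `C / A ≃ W`. -/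
noncomputable def relQEquivOfSurjective {W : Type*} [AddCommGroup W] [Module k W]
    (A C : Submodule k V) (f : C →ₗ[k] W) (hf : Function.Surjective f)
    (hker : LinearMap.ker f = Submodule.comap C.subtype A) : relQ A C ≃ₗ[k] W :=
  (Submodule.quotEquivOfEq _ _ hker.symm).trans (f.quotKerEquivOfSurjective hf)

theorem relQ_self (A : Submodule k V) :
    FiniteDimensional k (relQ A A) ∧ Module.finrank k (relQ A A) = 0 := by
  have h : Submodule.comap A.subtype A = ⊤ := Submodule.comap_subtype_self A
  haveI : Subsingleton (relQ A A) := Submodule.Quotient.subsingleton_iff.mpr h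
  exact ⟨inferInstance, Module.finrank_zero_of_subsingleton⟩

theorem relQ_tower (A B C : Submodule k V) (hAB : A ≤ B) (hBC : B ≤ C)
    [FiniteDimensional k (relQ A B)] [FiniteDimensional k (relQ B C)] :
    FiniteDimensional k (relQ A C) ∧
      Module.finrank k (relQ A C) =
        Module.finrank k (relQ A B) + Module.finrank k (relQ B C) := by
  have hq : Submodule.comap C.subtype A ≤ Submodule.comap C.subtype B :=
    Submodule.comap_mono hAB
  let π : (↥C ⧸ Submodule.comap C.subtype A) →ₗ[k] (↥C ⧸ Submodule.comap C.subtype B) :=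
    Submodule.factor hq
  have hπ : Function.Surjective π := Submodule.factor_surjective hq
  let g : ↥B →ₗ[k] (↥C ⧸ Submodule.comap C.subtype A) :=
    (Submodule.comap C.subtype A).mkQ.comp (Submodule.inclusion hBC)
  have hkerg : LinearMap.ker g = Submodule.comap B.subtype A := by
    ext b
    rw [LinearMap.mem_ker, Submodule.mem_comap]
    show (Submodule.comap C.subtype A).mkQ (Submodule.inclusion hBC b) = 0 ↔ _
    rw [Submodule.mkQ_apply, Submodule.Quotient.mk_eq_zero]
    rfl
  have hrange : LinearMap.range g = LinearMap.ker π := by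
    ext y
    constructor
    · rintro ⟨b, rfl⟩
      rw [LinearMap.mem_ker]
      show Submodule.factor hq ((Submodule.comap C.subtype A).mkQ (Submodule.inclusion hBC b)) = 0
      rw [Submodule.factor_mk, Submodule.mkQ_apply, Submodule.Quotient.mk_eq_zero]
      exact b.2
    · intro hy
      obtain ⟨c, rfl⟩ := Submodule.mkQ_surjective (Submodule.comap C.subtype A) y
      rw [LinearMap.mem_ker] at hy
      have hy' : Submodule.factor hq ((Submodule.comap C.subtype A).mkQ c) = 0 := hy
      rw [Submodule.factor_mk, Submodule.mkQ_apply, Submodule.Quotient.mk_eq_zero] at hy'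
      have hcB : (c : V) ∈ B := hy'
      refine ⟨⟨(c : V), hcB⟩, ?_⟩
      show (Submodule.comap C.subtype A).mkQ (Submodule.inclusion hBC ⟨(c : V), hcB⟩) =
        (Submodule.comap C.subtype A).mkQ c
      congr 1
  have e1 : relQ A B ≃ₗ[k] LinearMap.ker π :=
    ((Submodule.quotEquivOfEq _ _ hkerg.symm).trans g.quotKerEquivRange).trans
      (LinearEquiv.ofEq _ _ hrange)
  haveI : FiniteDimensional k (LinearMap.ker π) := Module.Finite.equiv e1
  obtain ⟨h1, -⟩ := finrank_le_of_ker π
  refine ⟨h1, ?_⟩
  have h2 := finrank_eq_of_ker_of_surjective π hπ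
  rw [← e1.finrank_eq] at h2
  exact h2

theorem relQ_eq_top_of_finrank_eq_zero (A B : Submodule k V) [FiniteDimensional k (relQ A B)]
    (h : Module.finrank k (relQ A B) = 0) : B ≤ A := by
  haveI : Subsingleton (relQ A B) := Module.finrank_zero_iff.mp h
  have h1 : Submodule.comap B.subtype A = ⊤ :=
    Submodule.Quotient.subsingleton_iff.mp inferInstance
  intro b hb
  have h2 : (⟨b, hb⟩ : B) ∈ Submodule.comap B.subtype A := by
    rw [h1]
    trivial
  exact h2

end RelQ

section Chain

variable {V : Type*} [AddCommGroup V] [Module k V]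

/-- Generic chain lemma: if adding a place `P ∈ T` to `D` enlarges `M D` by exactly `deg P`
dimensions, then adding an effective divisor `E` supported in `T` enlarges it by `deg E`. -/
theorem relQ_chain (M : Divisor k K → Submodule k V) (T : Set (Place k K))
    (hstep : ∀ (D : Divisor k K) (P : Place k K), P ∈ T →
      M D ≤ M (D + Finsupp.single P 1) ∧
      FiniteDimensional k (relQ (M D) (M (D + Finsupp.single P 1))) ∧
      Module.finrank k (relQ (M D) (M (D + Finsupp.single P 1))) = P.deg) :
    ∀ E : Divisor k K, 0 ≤ E → (∀ P, E P ≠ 0 → P ∈ T) → ∀ D : Divisor k K,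
      M D ≤ M (D + E) ∧ FiniteDimensional k (relQ (M D) (M (D + E))) ∧
      (Module.finrank k (relQ (M D) (M (D + E))) : ℤ) = Divisor.deg E := by
  intro E hE
  revert E
  refine Divisor.induction_nonneg ?_ ?_
  · intro _ D
    rw [add_zero, deg_zero]
    obtain ⟨h1, h2⟩ := relQ_self (M D)
    exact ⟨le_rfl, h1, by rw [h2]; rfl⟩
  · intro E P hE ih hsupp D
    have hP : P ∈ T := by
      apply hsupp
      rw [Finsupp.add_apply, Finsupp.single_eq_same]
      have : 0 ≤ E P := hE P
      omega
    have hsuppE : ∀ Q, E Q ≠ 0 → Q ∈ T := by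
      intro Q hQ
      apply hsupp
      rw [Finsupp.add_apply]
      have h1 : 0 ≤ E Q := hE Q
      have h2 : 0 ≤ (Finsupp.single P (1 : ℤ)) Q := by
        have := (Finsupp.single_nonneg (i := P) (a := (1 : ℤ))).mpr zero_le_one
        exact this Q
      omega
    obtain ⟨h1, h2, h3⟩ := ih hsuppE D
    obtain ⟨h4, h5, h6⟩ := hstep (D + E) P hP
    rw [← add_assoc]
    haveI := h2
    haveI := h5
    obtain ⟨h7, h8⟩ := relQ_tower (M D) (M (D + E)) (M (D + E + Finsupp.single P 1)) h1 h4
    refine ⟨h1.trans h4, h7, ?_⟩
    rw [h8, deg_add, deg_single, one_mul]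
    push_cast
    rw [h3, h6]

end Chain

end FunFld
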