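import Mathlib
import Groth.Agent.Lib.FunFldE_helper2

/-! Function fields of one variable, part F (helper2): the degree of the zero divisor of `x` is
`[K : k(x)]`; principal divisors have degree zero. -/

open Polynomial IntermediateField WithZero

namespace FunFld

variable {k K : Type*} [Field k] [Field K] [Algebra k K]

section LS

/-- `S`-local version of `L(D)` for a finite set of places. -/
def LS (S : Finset (Place k K)) (D : Divisor k K) : Submodule k K where
  carrier := {x | ∀ P ∈ S, P.1 x ≤ exp (D P)}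
  add_mem' {x y} hx hy P hP := (P.1.map_add x y).trans (max_le (hx P hP) (hy P hP))
  zero_mem' P _ := by simp
  smul_mem' c x hx P hP := by
    rw [Algebra.smul_def, map_mul]
    exact (mul_le_mul' (P.2.1 c) (hx P hP)).trans_eq (one_mul _)

theorem mem_LS {S : Finset (Place k K)} {D : Divisor k K} {x : K} :
    x ∈ LS S D ↔ ∀ P ∈ S, P.1 x ≤ exp (D P) := Iff.rfl

theorem LS_step (hK : IsFunctionField k K) (S : Finset (Place k K)) (D : Divisor k K)
    (P : Place k K) (hP : P ∈ S) :
    LS S D ≤ LS S (D + Finsupp.single P 1) ∧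
    FiniteDimensional k (relQ (LS S D) (LS S (D + Finsupp.single P 1))) ∧
    Module.finrank k (relQ (LS S D) (LS S (D + Finsupp.single P 1))) = P.deg := by
  classical
  obtain ⟨t, ht⟩ := P.exists_uniformizer
  obtain ⟨D', hD'⟩ : ∃ D' : Divisor k K, D' = D + Finsupp.single P 1 := ⟨_, rfl⟩
  rw [← hD']
  have hD'P : D' P = D P + 1 := by rw [hD', Finsupp.add_apply, Finsupp.single_eq_same]
  have hD'Q : ∀ Q, Q ≠ P → D' Q = D Q := fun Q hQ => by
    rw [hD', Finsupp.add_apply, Finsupp.single_apply, if_neg (fun h => hQ h.symm), add_zero]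
  have hDD' : D ≤ D' := by
    rw [hD']
    exact le_add_of_nonneg_right (Finsupp.single_nonneg.mpr zero_le_one)
  have hle : LS S D ≤ LS S D' := fun x hx Q hQ => (hx Q hQ).trans (exp_le_exp.mpr (hDD' Q))
  have hball : LS S D' ≤ ball P (D' P) := fun x hx => hx P hP
  let f : LS S D' →ₗ[k] IsLocalRing.ResidueField P.O :=
    (resMap P ht (D' P)).comp (Submodule.inclusion hball)
  have hker : LinearMap.ker f = Submodule.comap (LS S D').subtype (LS S D) := by
    ext x
    rw [LinearMap.mem_ker, Submodule.mem_comap]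
    show resMap P ht (D' P) (Submodule.inclusion hball x) = 0 ↔ (x : K) ∈ LS S D
    rw [resMap_eq_zero_iff]
    show P.1 (x : K) ≤ exp (D' P - 1) ↔ _
    rw [hD'P, add_sub_cancel_right]
    constructor
    · intro h Q hQS
      by_cases hQ : Q = P
      · rw [hQ]
        exact h
      · have h3 := (mem_LS.mp x.2) Q hQS
        rw [hD'Q Q hQ] at h3
        exact h3
    · intro h
      exact h P hP
  have hsurj : Function.Surjective f := by
    intro ξ
    obtain ⟨y₀, hy₀⟩ := resMap_surjective P ht (D' P) ξ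
    obtain ⟨N, hN⟩ : ∃ N : ℤ, ∀ Q ∈ S, -N ≤ D Q := by
      obtain ⟨M, hM⟩ := Finset.exists_le (S.image (fun Q => -D Q))
      refine ⟨M, fun Q hQ => ?_⟩
      have := hM _ (Finset.mem_image_of_mem _ hQ)
      linarith
    obtain ⟨z, hz⟩ := exists_approx (fun Q : S => (Q : Place k K)) Subtype.val_injective
      (fun Q : S => if (Q : Place k K) = P then (y₀ : K) else 0) N
    have hzP : P.1 (z - (y₀ : K)) ≤ exp (D P) := by
      have h1 : P.1 (z - if P = P then (y₀ : K) else 0) ≤ exp (-N) := hz ⟨P, hP⟩
      rw [if_pos rfl] at h1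
      exact h1.trans (exp_le_exp.mpr (hN P hP))
    have hzQ : ∀ Q ∈ S, Q ≠ P → Q.1 z ≤ exp (D Q) := by
      intro Q hQS hQ
      have h1 : Q.1 (z - if Q = P then (y₀ : K) else 0) ≤ exp (-N) := hz ⟨Q, hQS⟩
      rw [if_neg hQ, sub_zero] at h1
      exact h1.trans (exp_le_exp.mpr (hN Q hQS))
    have hdiff_mem : z - (y₀ : K) ∈ ball P (D' P) := by
      show P.1 (z - (y₀ : K)) ≤ exp (D' P)
      exact hzP.trans (exp_le_exp.mpr (hDD' P))
    have hz_ball : z ∈ ball P (D' P) := by
      have h1 : z = (y₀ : K) + (z - (y₀ : K)) := by ring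
      rw [h1]
      exact (ball P (D' P)).add_mem y₀.2 hdiff_mem
    have hzmem : z ∈ LS S D' := by
      intro Q hQS
      by_cases hQ : Q = P
      · rw [hQ]
        exact hz_ball
      · rw [hD'Q Q hQ]
        exact hzQ Q hQS hQ
    refine ⟨⟨z, hzmem⟩, ?_⟩
    show resMap P ht (D' P) (Submodule.inclusion hball ⟨z, hzmem⟩) = ξ
    have hsplit : Submodule.inclusion hball ⟨z, hzmem⟩ = y₀ + ⟨z - (y₀ : K), hdiff_mem⟩ := by
      apply Subtype.ext
      show z = (y₀ : K) + (z - (y₀ : K))
      ring
    rw [hsplit, map_add, hy₀]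
    have h0 : resMap P ht (D' P) ⟨z - (y₀ : K), hdiff_mem⟩ = 0 := by
      rw [resMap_eq_zero_iff]
      show P.1 (z - (y₀ : K)) ≤ exp (D' P - 1)
      have hDP1 : D' P - 1 = D P := by rw [hD'P]; ring
      rw [hDP1]
      exact hzP
    rw [h0, add_zero]
  haveI := finiteDimensional_residueField hK P
  let e := relQEquivOfSurjective (LS S D) (LS S D') f hsurj hker
  exact ⟨hle, Module.Finite.equiv e.symm, e.finrank_eq⟩

end LS

section ZeroPole

variable (k) in
/-- The divisor of zeros of `x`. -/
noncomputable def zeroDiv (x : K) : Divisor k K := div k x ⊔ 0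

variable (k) in
/-- The divisor of poles of `x`. -/
noncomputable def poleDiv (x : K) : Divisor k K := (-div k x) ⊔ 0

theorem zeroDiv_apply (hK : IsFunctionField k K) (x : K) (P : Place k K) :
    zeroDiv k x P = max (P.ord x) 0 := by
  unfold zeroDiv
  rw [Finsupp.sup_apply, div_apply hK]
  rfl

theorem poleDiv_apply (hK : IsFunctionField k K) (x : K) (P : Place k K) :
    poleDiv k x P = max (-(P.ord x)) 0 := by
  unfold poleDiv
  rw [Finsupp.sup_apply, Finsupp.neg_apply, div_apply hK]
  rfl

theorem zeroDiv_nonneg (x : K) : (0 : Divisor k K) ≤ zeroDiv k x := le_sup_right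

theorem poleDiv_nonneg (x : K) : (0 : Divisor k K) ≤ poleDiv k x := le_sup_right

theorem zeroDiv_sub_poleDiv (hK : IsFunctionField k K) (x : K) :
    zeroDiv k x - poleDiv k x = div k x := by
  ext P
  rw [Finsupp.sub_apply, zeroDiv_apply hK, poleDiv_apply hK, div_apply hK]
  rcases le_total (P.ord x) 0 with h | h
  · rw [max_eq_right h, max_eq_left (by omega)]
    ring
  · rw [max_eq_left h, max_eq_right (by omega)]
    ring

theorem div_inv (hK : IsFunctionField k K) (x : K) : div k x⁻¹ = -div k x := by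
  ext P
  rw [Finsupp.neg_apply, div_apply hK, div_apply hK, P.ord_inv]

theorem zeroDiv_inv (hK : IsFunctionField k K) (x : K) : zeroDiv k x⁻¹ = poleDiv k x := by
  unfold zeroDiv poleDiv
  rw [div_inv hK]

theorem poleDiv_inv (hK : IsFunctionField k K) (x : K) : poleDiv k x⁻¹ = zeroDiv k x := by
  unfold zeroDiv poleDiv
  rw [div_inv hK, neg_neg]

theorem adjoin_inv (x : K) : k⟮x⁻¹⟯ = k⟮x⟯ := by
  apply le_antisymm
  · rw [adjoin_simple_le_iff]
    exact inv_mem (mem_adjoin_simple_self k x)
  · rw [adjoin_simple_le_iff]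
    have h := inv_mem (mem_adjoin_simple_self k x⁻¹)
    rwa [inv_inv] at h

theorem finrank_adjoin_inv (x : K) :
    Module.finrank k⟮x⁻¹⟯ K = Module.finrank k⟮x⟯ K := by
  rw [adjoin_inv]

theorem mem_L_poleDiv (hK : IsFunctionField k K) (u : K) : u ∈ L (poleDiv k u) := by
  intro P
  by_cases hu : u = 0
  · rw [hu, map_zero]
    exact zero_le
  · rw [poleDiv_apply hK, P.val_eq_exp_neg_ord hu, exp_le_exp]
    exact le_max_left _ _

theorem mul_mem_L {D E : Divisor k K} {x y : K} (hx : x ∈ L D) (hy : y ∈ L E) :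
    x * y ∈ L (D + E) := by
  intro P
  rw [map_mul, Finsupp.add_apply, exp_add]
  exact mul_le_mul' (hx P) (hy P)

theorem mem_L_iff_div (hK : IsFunctionField k K) {x : K} (hx0 : x ≠ 0) (D : Divisor k K) :
    x ∈ L D ↔ 0 ≤ div k x + D := by
  constructor
  · intro hx P
    rw [Finsupp.coe_zero, Pi.zero_apply, Finsupp.add_apply, div_apply hK]
    have := (P.val_le_exp_iff hx0 (D P)).mp (hx P)
    linarith
  · intro h P
    have h1 : 0 ≤ (div k x + D) P := h P
    rw [Finsupp.add_apply, div_apply hK] at h1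
    rw [P.val_le_exp_iff hx0]
    linarith

end ZeroPole

section Upper

theorem deg_zeroDiv_le (hK : IsFunctionField k K) {x : K} (hx : Transcendental k x) :
    Divisor.deg (zeroDiv k x) ≤ (Module.finrank k⟮x⟯ K : ℤ) := by
  classical
  haveI := finiteDimensional_of_transcendental hK hx
  have hx0 : x ≠ 0 := fun h => hx (h ▸ isAlgebraic_zero)
  obtain ⟨Z, hZ⟩ : ∃ Z : Divisor k K, Z = zeroDiv k x := ⟨_, rfl⟩
  rw [← hZ]
  have hZnn : (0 : Divisor k K) ≤ Z := by
    rw [hZ]
    exact zeroDiv_nonneg x
  have hchain := relQ_chain (LS Z.support) (↑Z.support : Set (Place k K))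
    (fun D P hP => LS_step hK Z.support D P (Finset.mem_coe.mp hP)) Z hZnn
    (fun P hP => Finset.mem_coe.mpr (Finsupp.mem_support_iff.mpr hP)) (-Z)
  rw [neg_add_cancel] at hchain
  obtain ⟨-, hfd, hrank⟩ := hchain
  haveI := hfd
  rw [← hrank]
  let b := Module.finBasis k (relQ (LS Z.support (-Z)) (LS Z.support 0))
  have hlift : ∀ i, ∃ y : LS Z.support (0 : Divisor k K),
      (Submodule.comap (LS Z.support 0).subtype (LS Z.support (-Z))).mkQ y = b i :=
    fun i => Submodule.mkQ_surjective _ (b i)
  choose y hy using hlift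
  have hli : LinearIndependent k⟮x⟯
      (fun i => ((y i : LS Z.support (0 : Divisor k K)) : K)) := by
    apply linearIndependent_adjoin_simple hx
    intro φ hφ hsum
    have hdecomp : ∀ i, aeval x (φ i) =
        algebraMap k K ((φ i).coeff 0) + aeval x (φ i).divX * x := by
      intro i
      conv_lhs => rw [← (φ i).divX_mul_X_add]
      rw [map_add, map_mul, aeval_X, aeval_C]
      ring
    have hsplit : ∑ i, aeval x (φ i) * (y i : K) =
        ∑ i, ((φ i).coeff 0 • (y i : K)) +
          x * ∑ i, aeval x (φ i).divX * (y i : K) := by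
      rw [Finset.mul_sum, ← Finset.sum_add_distrib]
      apply Finset.sum_congr rfl
      intro i _
      rw [hdecomp i, Algebra.smul_def]
      ring
    rw [hsum] at hsplit
    have h2 : ∑ i, ((φ i).coeff 0 • (y i : K)) =
        -(x * ∑ i, aeval x (φ i).divX * (y i : K)) :=
      eq_neg_of_add_eq_zero_left hsplit.symm
    have hmem : (∑ i, (φ i).coeff 0 • y i : LS Z.support (0 : Divisor k K)) ∈
        Submodule.comap (LS Z.support 0).subtype (LS Z.support (-Z)) := by
      rw [Submodule.mem_comap]
      show ((∑ i, (φ i).coeff 0 • y i : LS Z.support (0 : Divisor k K)) : K) ∈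
        LS Z.support (-Z)
      have hcoe : ((∑ i, (φ i).coeff 0 • y i : LS Z.support (0 : Divisor k K)) : K) =
          -(x * ∑ i, aeval x (φ i).divX * (y i : K)) := by
        rw [Submodule.coe_sum]
        simp only [Submodule.coe_smul]
        exact h2
      rw [hcoe]
      intro P hPS
      rw [Valuation.map_neg, map_mul]
      have hZP : Z P ≠ 0 := Finsupp.mem_support_iff.mp hPS
      have hordpos : 0 < P.ord x := by
        rw [hZ, zeroDiv_apply hK] at hZP
        by_contra h
        push Not at h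
        exact hZP (max_eq_right h)
      have hZP' : Z P = P.ord x := by
        rw [hZ, zeroDiv_apply hK]
        exact max_eq_left hordpos.le
      have hvx : P.1 x = exp ((-Z) P) := by
        rw [Finsupp.neg_apply, hZP', P.val_eq_exp_neg_ord hx0]
      have hvx1 : P.1 x ≤ 1 := ((P.ord_pos_iff hx0).mp hordpos).le
      have hsum1 : P.1 (∑ i, aeval x (φ i).divX * (y i : K)) ≤ 1 := by
        apply Valuation.map_sum_le
        intro i _
        rw [map_mul]
        have h1 := val_aeval_le_one P.1 P.2.1 hvx1 (φ i).divX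
        have h3 : P.1 (y i : K) ≤ exp ((0 : Divisor k K) P) := (mem_LS.mp (y i).2) P hPS
        rw [Finsupp.coe_zero, Pi.zero_apply, exp_zero] at h3
        exact mul_le_one' h1 h3
      calc P.1 x * P.1 (∑ i, aeval x (φ i).divX * (y i : K)) ≤ P.1 x * 1 :=
            mul_le_mul' le_rfl hsum1
        _ = exp ((-Z) P) := by rw [mul_one, hvx]
    have hq : ∑ i, (φ i).coeff 0 • b i = 0 := by
      have h3 : (Submodule.comap (LS Z.support 0).subtype (LS Z.support (-Z))).mkQ
          (∑ i, (φ i).coeff 0 • y i) = 0 := by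
        rw [Submodule.mkQ_apply, Submodule.Quotient.mk_eq_zero]
        exact hmem
      rw [map_sum] at h3
      rw [← h3]
      apply Finset.sum_congr rfl
      intro i _
      rw [map_smul, hy i]
    have hcoef := Fintype.linearIndependent_iff.mp b.linearIndependent _ hq
    obtain ⟨i, hi⟩ := hφ
    exact hi (hcoef i)
  have h5 := hli.fintype_card_le_finrank
  rw [Fintype.card_fin] at h5
  exact_mod_cast h5

end Upper

section Lower

theorem val_aeval_le_pow {P : Place k K} {x : K} (hx1 : 1 ≤ P.1 x) {l : ℕ} (p : k[X])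
    (hp : p.natDegree ≤ l) : P.1 (aeval x p) ≤ P.1 x ^ l := by
  rw [aeval_eq_sum_range' (Nat.lt_succ_of_le hp)]
  apply Valuation.map_sum_le
  intro i hi
  rw [Finset.mem_range] at hi
  rw [Algebra.smul_def, map_mul, map_pow]
  calc P.1 (algebraMap k K (p.coeff i)) * P.1 x ^ i ≤ 1 * P.1 x ^ i :=
        mul_le_mul' (P.2.1 _) le_rfl
    _ = P.1 x ^ i := one_mul _
    _ ≤ P.1 x ^ l := pow_le_pow_right' hx1 (by omega)

theorem aeval_mem_L_nsmul_poleDiv (hK : IsFunctionField k K) {x : K} (hx0 : x ≠ 0) {l : ℕ}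
    (p : k[X]) (hp : p.natDegree ≤ l) : aeval x p ∈ L (l • poleDiv k x) := by
  intro P
  rw [Finsupp.smul_apply, poleDiv_apply hK, nsmul_eq_mul]
  rcases le_total (P.1 x) 1 with h | h
  · calc P.1 (aeval x p) ≤ 1 := val_aeval_le_one P.1 P.2.1 h p
      _ = exp (0 : ℤ) := exp_zero.symm
      _ ≤ _ := exp_le_exp.mpr (mul_nonneg (Int.natCast_nonneg _) (le_max_right _ _))
  · have hord : P.ord x ≤ 0 := by
      by_contra hh
      push Not at hh
      exact absurd ((P.ord_pos_iff hx0).mp hh) (not_lt.mpr h)
    calc P.1 (aeval x p) ≤ P.1 x ^ l := val_aeval_le_pow h p hp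
      _ = exp ((l : ℤ) * max (-(P.ord x)) 0) := by
          rw [P.val_eq_exp_neg_ord hx0, ← exp_nsmul, nsmul_eq_mul, max_eq_left (by omega)]

theorem finrank_le_deg_poleDiv (hK : IsFunctionField k K) {x : K} (hx : Transcendental k x) :
    (Module.finrank k⟮x⟯ K : ℤ) ≤ Divisor.deg (poleDiv k x) := by
  classical
  haveI := finiteDimensional_of_transcendental hK hx
  have hx0 : x ≠ 0 := fun h => hx (h ▸ isAlgebraic_zero)
  let b := Module.finBasis k⟮x⟯ K
  obtain ⟨C, hC⟩ : ∃ C : Divisor k K, C = ∑ j, poleDiv k (b j) := ⟨_, rfl⟩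
  have hCnn : (0 : Divisor k K) ≤ C := by
    rw [hC]
    exact Finset.sum_nonneg (fun j _ => poleDiv_nonneg _)
  have huC : ∀ j, b j ∈ L C := fun j => by
    rw [hC]
    exact L_mono (Finset.single_le_sum (fun i _ => poleDiv_nonneg (b i)) (Finset.mem_univ j))
      (mem_L_poleDiv hK (b j))
  have hBnn : (0 : Divisor k K) ≤ poleDiv k x := poleDiv_nonneg x
  have key : ∀ l : ℕ, ((Module.finrank k⟮x⟯ K : ℤ) * (l + 1)) ≤
      l * Divisor.deg (poleDiv k x) + Divisor.deg C + 1 := by
    intro l
    let Ψ₀ : (Fin (Module.finrank k⟮x⟯ K) → Polynomial.degreeLT k (l + 1)) →ₗ[k] K :=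
      { toFun := fun p => ∑ j, aeval x ((p j : k[X])) * b j
        map_add' := fun p q => by
          simp only [Pi.add_apply, Submodule.coe_add, map_add, add_mul, Finset.sum_add_distrib]
        map_smul' := fun c p => by
          simp only [Pi.smul_apply, Submodule.coe_smul, map_smul, RingHom.id_apply,
            Finset.smul_sum, smul_mul_assoc] }
    have hmem : ∀ p, Ψ₀ p ∈ L (l • poleDiv k x + C) := by
      intro p
      show ∑ j, aeval x ((p j : k[X])) * b j ∈ L (l • poleDiv k x + C)
      apply Submodule.sum_mem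
      intro j _
      apply mul_mem_L _ (huC j)
      apply aeval_mem_L_nsmul_poleDiv hK hx0
      have hdeg : (p j : k[X]).degree < ((l + 1 : ℕ) : WithBot ℕ) :=
        Polynomial.mem_degreeLT.mp (p j).2
      by_cases hp0 : (p j : k[X]) = 0
      · rw [hp0, natDegree_zero]
        exact Nat.zero_le _
      · have := (Polynomial.natDegree_lt_iff_degree_lt hp0).mpr hdeg
        omega
    have hinj : Function.Injective Ψ₀ := by
      rw [injective_iff_map_eq_zero]
      intro p hp
      have hp' : ∑ j, aeval x ((p j : k[X])) * b j = 0 := hp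
      have hmemj : ∀ j, aeval x ((p j : k[X])) ∈ k⟮x⟯ := fun j =>
        IntermediateField.algebra_adjoin_le_adjoin k {x}
          (Polynomial.aeval_mem_adjoin_singleton k x)
      have h1 : ∑ j, (⟨aeval x ((p j : k[X])), hmemj j⟩ : k⟮x⟯) • b j = 0 := by
        rw [← hp']
        rfl
      have h2 := Fintype.linearIndependent_iff.mp b.linearIndependent _ h1
      funext j
      have h3 : aeval x ((p j : k[X])) = 0 := congrArg Subtype.val (h2 j)
      have h4 : (p j : k[X]) = 0 :=
        (map_eq_zero_iff _ (transcendental_iff_injective.mp hx)).mp h3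
      exact Subtype.ext h4
    haveI := finiteDimensional_L hK (l • poleDiv k x + C)
    have hinj' : Function.Injective (LinearMap.codRestrict (L (l • poleDiv k x + C)) Ψ₀ hmem) :=
      fun p q h => hinj (congrArg Subtype.val h)
    have h6 := LinearMap.finrank_le_finrank_of_injective hinj'
    have h7 : Module.finrank k
        (Fin (Module.finrank k⟮x⟯ K) → Polynomial.degreeLT k (l + 1)) =
        Module.finrank k⟮x⟯ K * (l + 1) := by
      rw [Module.finrank_pi_fintype]
      simp only [(Polynomial.degreeLTEquiv k (l + 1)).finrank_eq, Module.finrank_fin_fun,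
        Finset.sum_const, Finset.card_univ, Fintype.card_fin, smul_eq_mul]
    rw [h7] at h6
    have hnn : (0 : Divisor k K) ≤ l • poleDiv k x + C :=
      add_nonneg (nsmul_nonneg hBnn l) hCnn
    obtain ⟨-, h8⟩ := L_add_nonneg hK (l • poleDiv k x + C) hnn 0 (finiteDimensional_L_zero hK)
    rw [zero_add, ell_zero hK, deg_add, deg_nsmul] at h8
    have h9 : ((Module.finrank k⟮x⟯ K * (l + 1) : ℕ) : ℤ) ≤
        (ell (l • poleDiv k x + C) : ℤ) := by
      exact_mod_cast h6
    push_cast at h9 h8
    linarith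
  by_contra hlt
  push Not at hlt
  have hBdeg : 0 ≤ Divisor.deg (poleDiv k x) := deg_nonneg_of_nonneg hBnn
  have hCdeg : 0 ≤ Divisor.deg C := deg_nonneg_of_nonneg hCnn
  have hk := key (Divisor.deg C + 1).toNat
  have hl : ((Divisor.deg C + 1).toNat : ℤ) = Divisor.deg C + 1 := Int.toNat_of_nonneg (by linarith)
  rw [hl] at hk
  have h10 : (Divisor.deg C + 1) * Divisor.deg (poleDiv k x) ≤
      (Divisor.deg C + 1) * ((Module.finrank k⟮x⟯ K : ℤ) - 1) :=
    mul_le_mul_of_nonneg_left (by linarith) (by linarith)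
  nlinarith

end Lower

section DegreeTheorem

theorem deg_zeroDiv_eq (hK : IsFunctionField k K) {x : K} (hx : Transcendental k x) :
    Divisor.deg (zeroDiv k x) = (Module.finrank k⟮x⟯ K : ℤ) := by
  apply le_antisymm (deg_zeroDiv_le hK hx)
  have h := finrank_le_deg_poleDiv hK (transcendental_inv hK hx)
  rw [poleDiv_inv hK, finrank_adjoin_inv] at h
  exact h

theorem deg_poleDiv_eq (hK : IsFunctionField k K) {x : K} (hx : Transcendental k x) :
    Divisor.deg (poleDiv k x) = (Module.finrank k⟮x⟯ K : ℤ) := by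
  apply le_antisymm _ (finrank_le_deg_poleDiv hK hx)
  have h := deg_zeroDiv_le hK (transcendental_inv hK hx)
  rw [zeroDiv_inv hK, finrank_adjoin_inv] at h
  exact h

/-- Principal divisors have degree zero. -/
theorem deg_div_eq_zero (hK : IsFunctionField k K) (x : K) : Divisor.deg (div k x) = 0 := by
  by_cases hx : Transcendental k x
  · rw [← zeroDiv_sub_poleDiv hK, deg_sub, deg_zeroDiv_eq hK hx, deg_poleDiv_eq hK hx, sub_self]
  · have halg : IsAlgebraic k x := not_not.mp hx
    obtain ⟨c, rfl⟩ := hK.2 x halg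
    have h0 : div k (algebraMap k K c) = 0 := by
      ext P
      rw [div_apply hK, P.ord_algebraMap, Finsupp.coe_zero, Pi.zero_apply]
    rw [h0, deg_zero]

theorem sum_zeros_eq_deg_zeroDiv (hK : IsFunctionField k K) (x : K) :
    (∑ P ∈ (div k x).support with 0 < div k x P, div k x P * (P.deg : ℤ)) =
      Divisor.deg (zeroDiv k x) := by
  classical
  unfold Divisor.deg Finsupp.sum
  have hsupp : (zeroDiv k x).support = (div k x).support.filter (fun P => 0 < div k x P) := by
    ext P
    rw [Finsupp.mem_support_iff, Finset.mem_filter, Finsupp.mem_support_iff, zeroDiv_apply hK,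
      div_apply hK]
    constructor
    · intro h
      have h1 : 0 < P.ord x := by
        by_contra hh
        push Not at hh
        exact h (max_eq_right hh)
      exact ⟨by omega, h1⟩
    · rintro ⟨-, h1⟩
      rw [max_eq_left h1.le]
      omega
  rw [hsupp]
  apply Finset.sum_congr rfl
  intro P hP
  rw [Finset.mem_filter] at hP
  rw [zeroDiv_apply hK, div_apply hK]
  have h1 : 0 < P.ord x := by
    have := hP.2
    rwa [div_apply hK] at this
  rw [max_eq_left h1.le]

theorem L_eq_bot_of_deg_neg (hK : IsFunctionField k K) (D : Divisor k K)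
    (h : Divisor.deg D < 0) : L D = ⊥ := by
  rw [eq_bot_iff]
  intro x hx
  rw [Submodule.mem_bot]
  by_contra hx0
  have h1 := (mem_L_iff_div hK hx0 D).mp hx
  have h2 := deg_nonneg_of_nonneg h1
  rw [deg_add, deg_div_eq_zero hK] at h2
  linarith

end DegreeTheorem

end FunFld
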