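import Mathlib
import Groth.Agent.Lib.FunFldF_helper2

/-! Function fields of one variable, part G (helper2): Riemann's theorem. -/

open Polynomial IntermediateField WithZero

namespace FunFld

variable {k K : Type*} [Field k] [Field K] [Algebra k K]

theorem mem_L_neg_div (hK : IsFunctionField k K) {z : K} (hz : z ≠ 0) : z ∈ L (-div k z) := by
  intro P
  rw [Finsupp.neg_apply, div_apply hK, P.val_eq_exp_neg_ord hz]

theorem inv_mem_L_div (hK : IsFunctionField k K) {z : K} (hz : z ≠ 0) : z⁻¹ ∈ L (div k z) := by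
  have h := mem_L_neg_div hK (inv_ne_zero hz)
  rwa [div_inv hK, neg_neg] at h

theorem ell_add_div (hK : IsFunctionField k K) (D : Divisor k K) {z : K} (hz : z ≠ 0) :
    ell (D + div k z) = ell D := by
  haveI := finiteDimensional_L hK D
  haveI := finiteDimensional_L hK (D + div k z)
  apply le_antisymm
  · have hmem : ∀ y : L (D + div k z),
        ((LinearMap.mulLeft k z).comp (L (D + div k z)).subtype) y ∈ L D := fun y => by
      have h := mul_mem_L (mem_L_neg_div hK hz) y.2
      have e : -div k z + (D + div k z) = D := by abel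
      rw [e] at h
      exact h
    have hf : Function.Injective (LinearMap.codRestrict (L D)
        ((LinearMap.mulLeft k z).comp (L (D + div k z)).subtype) hmem) := by
      intro a b hab
      have h1 : z * (a : K) = z * (b : K) := congrArg Subtype.val hab
      exact Subtype.ext (mul_left_cancel₀ hz h1)
    exact LinearMap.finrank_le_finrank_of_injective hf
  · have hmem : ∀ y : L D,
        ((LinearMap.mulLeft k z⁻¹).comp (L D).subtype) y ∈ L (D + div k z) := fun y => by
      have h := mul_mem_L (inv_mem_L_div hK hz) y.2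
      rw [add_comm] at h
      exact h
    have hf : Function.Injective (LinearMap.codRestrict (L (D + div k z))
        ((LinearMap.mulLeft k z⁻¹).comp (L D).subtype) hmem) := by
      intro a b hab
      have h1 : z⁻¹ * (a : K) = z⁻¹ * (b : K) := congrArg Subtype.val hab
      exact Subtype.ext (mul_left_cancel₀ (inv_ne_zero hz) h1)
    exact LinearMap.finrank_le_finrank_of_injective hf

theorem exists_ne_zero_mem_L_of_ell_pos (hK : IsFunctionField k K) {D : Divisor k K}
    (h : 0 < ell D) : ∃ z ∈ L D, z ≠ 0 := by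
  haveI := finiteDimensional_L hK D
  obtain ⟨⟨z, hz⟩, hne⟩ := Module.finrank_pos_iff_exists_ne_zero.mp h
  exact ⟨z, hz, fun h0 => hne (Subtype.ext h0)⟩

theorem exists_ell_ge (hK : IsFunctionField k K) {x : K} (hx : Transcendental k x) :
    ∃ C : Divisor k K, 0 ≤ C ∧ ∀ l : ℕ,
      Module.finrank k⟮x⟯ K * (l + 1) ≤ ell (l • poleDiv k x + C) := by
  classical
  haveI := finiteDimensional_of_transcendental hK hx
  have hx0 : x ≠ 0 := fun h => hx (h ▸ isAlgebraic_zero)
  let b := Module.finBasis k⟮x⟯ K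
  obtain ⟨C, hC⟩ : ∃ C : Divisor k K, C = ∑ j, poleDiv k (b j) := ⟨_, rfl⟩
  have hCnn : (0 : Divisor k K) ≤ C := by
    rw [hC]
    exact Finset.sum_nonneg (fun j _ => poleDiv_nonneg _)
  have huC : ∀ j, b j ∈ L C := fun j => by
    rw [hC]
    exact L_mono (Finset.single_le_sum (fun i _ => poleDiv_nonneg (b i)) (Finset.mem_univ j))
      (mem_L_poleDiv hK (b j))
  refine ⟨C, hCnn, fun l => ?_⟩
  let Ψ₀ : (Fin (Module.finrank k⟮x⟯ K) → Polynomial.degreeLT k (l + 1)) →ₗ[k] K :=
    { toFun := fun p => ∑ j, aeval x ((p j : k[X])) * b j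
      map_add' := fun p q => by
        simp only [Pi.add_apply, Submodule.coe_add, map_add, add_mul, Finset.sum_add_distrib]
      map_smul' := fun c p => by
        simp only [Pi.smul_apply, Submodule.coe_smul, map_smul, RingHom.id_apply,
          Finset.smul_sum, smul_mul_assoc] }
  have hmem : ∀ p, Ψ₀ p ∈ L (l • poleDiv k x + C) := by
    intro p
    show ∑ j, aeval x ((p j : k[X])) * b j ∈ L (l • poleDiv k x + C)
    apply Submodule.sum_mem
    intro j _
    apply mul_mem_L _ (huC j)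
    apply aeval_mem_L_nsmul_poleDiv hK hx0
    have hdeg : (p j : k[X]).degree < ((l + 1 : ℕ) : WithBot ℕ) :=
      Polynomial.mem_degreeLT.mp (p j).2
    by_cases hp0 : (p j : k[X]) = 0
    · rw [hp0, natDegree_zero]
      exact Nat.zero_le _
    · have := (Polynomial.natDegree_lt_iff_degree_lt hp0).mpr hdeg
      omega
  have hinj : Function.Injective Ψ₀ := by
    rw [injective_iff_map_eq_zero]
    intro p hp
    have hp' : ∑ j, aeval x ((p j : k[X])) * b j = 0 := hp
    have hmemj : ∀ j, aeval x ((p j : k[X])) ∈ k⟮x⟯ := fun j =>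
      IntermediateField.algebra_adjoin_le_adjoin k {x}
        (Polynomial.aeval_mem_adjoin_singleton k x)
    have h1 : ∑ j, (⟨aeval x ((p j : k[X])), hmemj j⟩ : k⟮x⟯) • b j = 0 := by
      rw [← hp']
      rfl
    have h2 := Fintype.linearIndependent_iff.mp b.linearIndependent _ h1
    funext j
    have h3 : aeval x ((p j : k[X])) = 0 := congrArg Subtype.val (h2 j)
    have h4 : (p j : k[X]) = 0 :=
      (map_eq_zero_iff _ (transcendental_iff_injective.mp hx)).mp h3
    exact Subtype.ext h4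
  haveI := finiteDimensional_L hK (l • poleDiv k x + C)
  have hinj' : Function.Injective (LinearMap.codRestrict (L (l • poleDiv k x + C)) Ψ₀ hmem) :=
    fun p q h => hinj (congrArg Subtype.val h)
  have h6 := LinearMap.finrank_le_finrank_of_injective hinj'
  have h7 : Module.finrank k
      (Fin (Module.finrank k⟮x⟯ K) → Polynomial.degreeLT k (l + 1)) =
      Module.finrank k⟮x⟯ K * (l + 1) := by
    rw [Module.finrank_pi_fintype]
    simp only [(Polynomial.degreeLTEquiv k (l + 1)).finrank_eq, Module.finrank_fin_fun,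
      Finset.sum_const, Finset.card_univ, Fintype.card_fin, smul_eq_mul]
  rw [h7] at h6
  exact h6

/-- `deg A - ℓ(A)` is bounded above. -/
theorem exists_riemann_bound (hK : IsFunctionField k K) :
    ∃ γ : ℤ, ∀ A : Divisor k K, Divisor.deg A - ell A ≤ γ := by
  classical
  obtain ⟨x, hx, -⟩ := hK.1
  haveI := finiteDimensional_of_transcendental hK hx
  obtain ⟨C, hCnn, hC⟩ := exists_ell_ge hK hx
  have hBnn : (0 : Divisor k K) ≤ poleDiv k x := poleDiv_nonneg x
  have hdegB : Divisor.deg (poleDiv k x) = (Module.finrank k⟮x⟯ K : ℤ) := deg_poleDiv_eq hK hx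
  have hnpos : 0 < Module.finrank k⟮x⟯ K := Module.finrank_pos
  have hnpos' : (1 : ℤ) ≤ (Module.finrank k⟮x⟯ K : ℤ) := by exact_mod_cast hnpos
  have h1 : ∀ l : ℕ, Divisor.deg (l • poleDiv k x) - ell (l • poleDiv k x) ≤
      Divisor.deg C - (Module.finrank k⟮x⟯ K : ℤ) := by
    intro l
    have h2 := ell_sub_ell_le hK (D₁ := l • poleDiv k x) (D₂ := l • poleDiv k x + C)
      (le_add_of_nonneg_right hCnn)
    rw [deg_add] at h2
    have h3 : ((Module.finrank k⟮x⟯ K * (l + 1) : ℕ) : ℤ) ≤ ell (l • poleDiv k x + C) := by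
      exact_mod_cast hC l
    rw [deg_nsmul, hdegB]
    push_cast at h3
    linarith
  refine ⟨Divisor.deg C - (Module.finrank k⟮x⟯ K : ℤ), fun A => ?_⟩
  have hAA₁ : A ≤ A ⊔ 0 := le_sup_left
  have hA₁nn : (0 : Divisor k K) ≤ A ⊔ 0 := le_sup_right
  have hdegA₁ : 0 ≤ Divisor.deg (A ⊔ 0) := deg_nonneg_of_nonneg hA₁nn
  obtain ⟨l, hl⟩ : ∃ l : ℕ, Divisor.deg C - (Module.finrank k⟮x⟯ K : ℤ) +
      Divisor.deg (A ⊔ 0) + 1 ≤ (l : ℤ) := ⟨_, Int.self_le_toNat _⟩
  have h4 : (1 : ℤ) ≤ ell (l • poleDiv k x - (A ⊔ 0)) := by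
    have h5 := ell_sub_ell_le hK (D₁ := l • poleDiv k x - (A ⊔ 0)) (D₂ := l • poleDiv k x)
      (sub_le_self _ hA₁nn)
    rw [deg_sub] at h5
    have h6 := h1 l
    rw [deg_nsmul, hdegB] at h6
    have h7 : (l : ℤ) ≤ l * (Module.finrank k⟮x⟯ K : ℤ) := by
      have : (0 : ℤ) ≤ l := Int.natCast_nonneg l
      nlinarith
    linarith
  have hpos : 0 < ell (l • poleDiv k x - (A ⊔ 0)) := by exact_mod_cast h4
  obtain ⟨z, hzL, hz0⟩ := exists_ne_zero_mem_L_of_ell_pos hK hpos
  have h8 := (mem_L_iff_div hK hz0 _).mp hzL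
  have hle : (A ⊔ 0) + div k z⁻¹ ≤ l • poleDiv k x := by
    rw [div_inv hK, ← sub_nonneg]
    convert h8 using 1
    abel
  have e1 := ell_sub_ell_le hK hAA₁
  have e2 := ell_sub_ell_le hK hle
  have e3 := h1 l
  rw [ell_add_div hK (A ⊔ 0) (inv_ne_zero hz0), deg_add, deg_div_eq_zero hK] at e2
  linarith

theorem bddAbove_delta (hK : IsFunctionField k K) :
    BddAbove (Set.range fun D : Divisor k K => (Divisor.deg D + 1 - (ell D : ℤ)).toNat) := by
  obtain ⟨γ, hγ⟩ := exists_riemann_bound hK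
  refine ⟨(γ + 1).toNat, ?_⟩
  rintro _ ⟨D, rfl⟩
  apply Int.toNat_le_toNat
  linarith [hγ D]

/-- Riemann's inequality. -/
theorem delta_le_genus (hK : IsFunctionField k K) (D : Divisor k K) :
    Divisor.deg D + 1 - (ell D : ℤ) ≤ genus k K := by
  have h1 : (Divisor.deg D + 1 - (ell D : ℤ)).toNat ≤ genus k K :=
    le_csSup (bddAbove_delta hK) ⟨D, rfl⟩
  have h2 := Int.self_le_toNat (Divisor.deg D + 1 - (ell D : ℤ))
  have h3 : ((Divisor.deg D + 1 - (ell D : ℤ)).toNat : ℤ) ≤ genus k K := by exact_mod_cast h1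
  linarith

theorem exists_delta_eq_genus (hK : IsFunctionField k K) :
    ∃ A₀ : Divisor k K, Divisor.deg A₀ + 1 - (ell A₀ : ℤ) = genus k K := by
  by_cases hg : genus k K = 0
  · refine ⟨0, ?_⟩
    rw [deg_zero, ell_zero hK, hg]
    norm_num
  · have hmem := Nat.sSup_mem
      (s := Set.range fun D : Divisor k K => (Divisor.deg D + 1 - (ell D : ℤ)).toNat)
      ⟨_, ⟨0, rfl⟩⟩ (bddAbove_delta hK)
    obtain ⟨A₀, hA₀⟩ := hmem
    refine ⟨A₀, ?_⟩
    have h1 : (Divisor.deg A₀ + 1 - (ell A₀ : ℤ)).toNat = genus k K := hA₀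
    have h2 : 0 < (Divisor.deg A₀ + 1 - (ell A₀ : ℤ)).toNat := by
      rw [h1]
      exact Nat.pos_of_ne_zero hg
    have h3 := Int.lt_toNat.mp h2
    have h4 := Int.toNat_of_nonneg h3.le
    rw [← h1]
    exact h4.symm

/-- Riemann's theorem. -/
theorem riemann (hK : IsFunctionField k K) :
    (∀ D : Divisor k K, Divisor.deg D + 1 - (ell D : ℤ) ≤ genus k K) ∧
    ∃ N : ℤ, ∀ D : Divisor k K, N ≤ Divisor.deg D →
      Divisor.deg D + 1 - (ell D : ℤ) = genus k K := by
  refine ⟨delta_le_genus hK, ?_⟩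
  obtain ⟨A₀, hA₀⟩ := exists_delta_eq_genus hK
  refine ⟨Divisor.deg A₀ + genus k K, fun A hA => ?_⟩
  apply le_antisymm (delta_le_genus hK A)
  have h1 := delta_le_genus hK (A - A₀)
  rw [deg_sub] at h1
  have h2 : (1 : ℤ) ≤ ell (A - A₀) := by linarith
  have hpos : 0 < ell (A - A₀) := by exact_mod_cast h2
  obtain ⟨z, hzL, hz0⟩ := exists_ne_zero_mem_L_of_ell_pos hK hpos
  have h3 := (mem_L_iff_div hK hz0 (A - A₀)).mp hzL
  have h4 : A₀ ≤ A + div k z := by
    rw [← sub_nonneg]
    convert h3 using 1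
    abel
  have h5 := ell_sub_ell_le hK h4
  rw [ell_add_div hK A hz0, deg_add, deg_div_eq_zero hK] at h5
  linarith

end FunFld
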