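import Mathlib
import Groth.Agent.Lib.FunFldG_helper2

/-! Function fields of one variable, part H (helper2): repartitions (adeles). -/

open WithZero

namespace FunFld

variable {k K : Type*} [Field k] [Field K] [Algebra k K]

section RelQExtra

variable {V : Type*} [AddCommGroup V] [Module k V]

noncomputable def relQCongrRight (A : Submodule k V) {C C' : Submodule k V} (h : C = C') :
    relQ A C ≃ₗ[k] relQ A C' := by
  subst h
  exact LinearEquiv.refl _ _

end RelQExtra

theorem mem_AD {D : Divisor k K} {a : Place k K → K} :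
    a ∈ AD D ↔ ∀ P : Place k K, P.1 (a P) ≤ exp (D P) := Iff.rfl

theorem AD_mono {D E : Divisor k K} (h : D ≤ E) : AD D ≤ AD E := fun _ ha P =>
  (ha P).trans (exp_le_exp.mpr (h P))

theorem diag_apply (x : K) (P : Place k K) : diag k K x P = x := rfl

theorem diag_mem_AD_iff {D : Divisor k K} {x : K} : diag k K x ∈ AD D ↔ x ∈ L D := Iff.rfl

theorem AD_step (hK : IsFunctionField k K) (D : Divisor k K) (P : Place k K) :
    AD D ≤ AD (D + Finsupp.single P 1) ∧
    FiniteDimensional k (relQ (AD D) (AD (D + Finsupp.single P 1))) ∧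
    Module.finrank k (relQ (AD D) (AD (D + Finsupp.single P 1))) = P.deg := by
  classical
  obtain ⟨t, ht⟩ := P.exists_uniformizer
  obtain ⟨D', hD'⟩ : ∃ D' : Divisor k K, D' = D + Finsupp.single P 1 := ⟨_, rfl⟩
  rw [← hD']
  have hD'P : D' P = D P + 1 := by rw [hD', Finsupp.add_apply, Finsupp.single_eq_same]
  have hD'Q : ∀ Q, Q ≠ P → D' Q = D Q := fun Q hQ => by
    rw [hD', Finsupp.add_apply, Finsupp.single_apply, if_neg (fun h => hQ h.symm), add_zero]
  have hDD' : D ≤ D' := by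
    rw [hD']
    exact le_add_of_nonneg_right (Finsupp.single_nonneg.mpr zero_le_one)
  have hle : AD D ≤ AD D' := AD_mono hDD'
  let g : AD D' →ₗ[k] ball P (D' P) :=
    LinearMap.codRestrict (ball P (D' P)) ((LinearMap.proj P).comp (AD D').subtype)
      (fun a => (mem_AD.mp a.2) P)
  let f : AD D' →ₗ[k] IsLocalRing.ResidueField P.O := (resMap P ht (D' P)).comp g
  have hDP1 : D' P - 1 = D P := by rw [hD'P]; ring
  have hker : LinearMap.ker f = Submodule.comap (AD D').subtype (AD D) := by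
    ext a
    rw [LinearMap.mem_ker, Submodule.mem_comap]
    show resMap P ht (D' P) (g a) = 0 ↔ (a : Place k K → K) ∈ AD D
    rw [resMap_eq_zero_iff]
    show P.1 ((a : Place k K → K) P) ≤ exp (D' P - 1) ↔ _
    rw [hDP1]
    constructor
    · intro h Q
      by_cases hQ : Q = P
      · rw [hQ]
        exact h
      · have h3 := (mem_AD.mp a.2) Q
        rw [hD'Q Q hQ] at h3
        exact h3
    · intro h
      exact h P
  have hsurj : Function.Surjective f := by
    intro ξ
    obtain ⟨y₀, hy₀⟩ := resMap_surjective P ht (D' P) ξ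
    have hmem : (Pi.single P (y₀ : K) : Place k K → K) ∈ AD D' := by
      intro Q
      by_cases hQ : Q = P
      · rw [hQ, Pi.single_eq_same]
        exact mem_ball.mp y₀.2
      · rw [Pi.single_eq_of_ne hQ, map_zero]
        exact zero_le
    refine ⟨⟨_, hmem⟩, ?_⟩
    show resMap P ht (D' P) (g ⟨_, hmem⟩) = ξ
    have h1 : g ⟨_, hmem⟩ = y₀ := by
      apply Subtype.ext
      show (Pi.single P (y₀ : K) : Place k K → K) P = (y₀ : K)
      simp
    rw [h1, hy₀]
  haveI := finiteDimensional_residueField hK P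
  let e := relQEquivOfSurjective (AD D) (AD D') f hsurj hker
  exact ⟨hle, Module.Finite.equiv e.symm, e.finrank_eq⟩

theorem finrank_relQ_AD (hK : IsFunctionField k K) {D₁ D₂ : Divisor k K} (h : D₁ ≤ D₂) :
    AD D₁ ≤ AD D₂ ∧ FiniteDimensional k (relQ (AD D₁) (AD D₂)) ∧
    (Module.finrank k (relQ (AD D₁) (AD D₂)) : ℤ) = Divisor.deg D₂ - Divisor.deg D₁ := by
  have h1 : (0 : Divisor k K) ≤ D₂ - D₁ := sub_nonneg.mpr h
  have h2 := relQ_chain (AD (k := k) (K := K)) Set.univ
    (fun D P _ => AD_step hK D P) (D₂ - D₁) h1 (fun _ _ => Set.mem_univ _) D₁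
  rw [add_sub_cancel, deg_sub] at h2
  exact h2

theorem finrank_relQ_L (hK : IsFunctionField k K) {D₁ D₂ : Divisor k K} (h : D₁ ≤ D₂) :
    FiniteDimensional k (relQ (L D₁) (L D₂)) ∧
    (Module.finrank k (relQ (L D₁) (L D₂)) : ℤ) = ell D₂ - ell D₁ := by
  haveI := finiteDimensional_L hK D₂
  refine ⟨inferInstance, ?_⟩
  have h1 : Module.finrank k (relQ (L D₁) (L D₂)) +
      Module.finrank k (Submodule.comap (L D₂).subtype (L D₁)) = Module.finrank k (L D₂) :=
    Submodule.finrank_quotient_add_finrank (Submodule.comap (L D₂).subtype (L D₁))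
  have h2 : Module.finrank k (Submodule.comap (L D₂).subtype (L D₁)) = ell D₁ :=
    (Submodule.comapSubtypeEquivOfLe (L_mono h)).finrank_eq
  rw [h2] at h1
  have h3 : Module.finrank k (L D₂) = ell D₂ := rfl
  rw [h3] at h1
  omega

theorem finrank_relQ_ADK (hK : IsFunctionField k K) {D₁ D₂ : Divisor k K} (h : D₁ ≤ D₂) :
    FiniteDimensional k (relQ (AD D₁ ⊔ LinearMap.range (diag k K))
      (AD D₂ ⊔ LinearMap.range (diag k K))) ∧
    (Module.finrank k (relQ (AD D₁ ⊔ LinearMap.range (diag k K))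
      (AD D₂ ⊔ LinearMap.range (diag k K))) : ℤ) =
      (Divisor.deg D₂ + 1 - ell D₂) - (Divisor.deg D₁ + 1 - ell D₁) := by
  obtain ⟨hA, hfdA, hrankA⟩ := finrank_relQ_AD hK h
  obtain ⟨hfdL, hrankL⟩ := finrank_relQ_L hK h
  obtain ⟨B, hB⟩ : ∃ B : Submodule k (Place k K → K),
      B = (AD D₁ ⊔ LinearMap.range (diag k K)) ⊓ AD D₂ := ⟨_, rfl⟩
  have hA₁B : AD D₁ ≤ B := by
    rw [hB]
    exact le_inf le_sup_left hA
  have hBA₂ : B ≤ AD D₂ := by
    rw [hB]
    exact inf_le_right
  -- the piece `B / A₁` is `L(D₂) / L(D₁)`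
  have hmemB : ∀ x : L D₂, ((diag k K).comp (L D₂).subtype) x ∈ B := fun x => by
    rw [hB]
    exact ⟨Submodule.mem_sup_right (LinearMap.mem_range_self _ _), diag_mem_AD_iff.mpr x.2⟩
  let g : L D₂ →ₗ[k] relQ (AD D₁) B :=
    (Submodule.comap B.subtype (AD D₁)).mkQ.comp
      (LinearMap.codRestrict B ((diag k K).comp (L D₂).subtype) hmemB)
  have hg : Function.Surjective g := by
    intro y
    obtain ⟨b, rfl⟩ := Submodule.mkQ_surjective _ y
    have hb : (b : Place k K → K) ∈ (AD D₁ ⊔ LinearMap.range (diag k K)) ⊓ AD D₂ := hB.le b.2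
    obtain ⟨hb1, hb2⟩ := hb
    obtain ⟨a₁, ha₁, d, ⟨x, rfl⟩, hsum⟩ := Submodule.mem_sup.mp hb1
    have hdx : diag k K x = (b : Place k K → K) - a₁ := by
      rw [← hsum]
      abel
    have hx : x ∈ L D₂ := by
      rw [← diag_mem_AD_iff, hdx]
      exact (AD D₂).sub_mem hb2 (hA ha₁)
    refine ⟨⟨x, hx⟩, ?_⟩
    show (Submodule.comap B.subtype (AD D₁)).mkQ
      (LinearMap.codRestrict B ((diag k K).comp (L D₂).subtype) hmemB ⟨x, hx⟩) =
      (Submodule.comap B.subtype (AD D₁)).mkQ b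
    rw [Submodule.mkQ_apply, Submodule.mkQ_apply, Submodule.Quotient.eq, Submodule.mem_comap]
    show diag k K x - (b : Place k K → K) ∈ AD D₁
    rw [hdx]
    have : (b : Place k K → K) - a₁ - (b : Place k K → K) = -a₁ := by abel
    rw [this]
    exact (AD D₁).neg_mem ha₁
  have hkerg : LinearMap.ker g = Submodule.comap (L D₂).subtype (L D₁) := by
    ext x
    rw [LinearMap.mem_ker, Submodule.mem_comap]
    show (Submodule.comap B.subtype (AD D₁)).mkQ
      (LinearMap.codRestrict B ((diag k K).comp (L D₂).subtype) hmemB x) = 0 ↔ _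
    rw [Submodule.mkQ_apply, Submodule.Quotient.mk_eq_zero, Submodule.mem_comap]
    exact diag_mem_AD_iff
  let e3 := relQEquivOfSurjective (L D₁) (L D₂) g hg hkerg
  haveI := hfdL
  haveI hfd3 : FiniteDimensional k (relQ (AD D₁) B) := Module.Finite.equiv e3
  have hrank3 : Module.finrank k (relQ (AD D₁) B) = Module.finrank k (relQ (L D₁) (L D₂)) :=
    e3.finrank_eq.symm
  -- `A₂ / B` is a quotient of `A₂ / A₁`
  haveI := hfdA
  have hq : Submodule.comap (AD D₂).subtype (AD D₁) ≤ Submodule.comap (AD D₂).subtype B :=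
    Submodule.comap_mono hA₁B
  haveI hfd4 : FiniteDimensional k (relQ B (AD D₂)) :=
    Module.Finite.of_surjective (Submodule.factor hq) (Submodule.factor_surjective hq)
  obtain ⟨-, htower⟩ := relQ_tower (AD D₁) B (AD D₂) hA₁B hBA₂
  -- `(A₂ + K) / (A₁ + K)` is `A₂ / B`
  let f : AD D₂ →ₗ[k] relQ (AD D₁ ⊔ LinearMap.range (diag k K))
      (AD D₂ ⊔ LinearMap.range (diag k K)) :=
    (Submodule.comap (AD D₂ ⊔ LinearMap.range (diag k K)).subtype
      (AD D₁ ⊔ LinearMap.range (diag k K))).mkQ.comp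
      (Submodule.inclusion (le_sup_left : AD D₂ ≤ AD D₂ ⊔ LinearMap.range (diag k K)))
  have hf : Function.Surjective f := by
    intro y
    obtain ⟨c, rfl⟩ := Submodule.mkQ_surjective _ y
    obtain ⟨a₂, ha₂, d, hd, hsum⟩ := Submodule.mem_sup.mp c.2
    refine ⟨⟨a₂, ha₂⟩, ?_⟩
    show (Submodule.comap (AD D₂ ⊔ LinearMap.range (diag k K)).subtype
      (AD D₁ ⊔ LinearMap.range (diag k K))).mkQ
      (Submodule.inclusion le_sup_left ⟨a₂, ha₂⟩) = _
    rw [Submodule.mkQ_apply, Submodule.mkQ_apply, Submodule.Quotient.eq, Submodule.mem_comap]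
    show a₂ - (c : Place k K → K) ∈ AD D₁ ⊔ LinearMap.range (diag k K)
    have : a₂ - (c : Place k K → K) = -d := by
      rw [← hsum]
      abel
    rw [this]
    exact Submodule.neg_mem _ (Submodule.mem_sup_right hd)
  have hkerf : LinearMap.ker f = Submodule.comap (AD D₂).subtype B := by
    ext a
    rw [LinearMap.mem_ker, Submodule.mem_comap]
    show (Submodule.comap (AD D₂ ⊔ LinearMap.range (diag k K)).subtype
      (AD D₁ ⊔ LinearMap.range (diag k K))).mkQ (Submodule.inclusion le_sup_left a) = 0 ↔ _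
    rw [Submodule.mkQ_apply, Submodule.Quotient.mk_eq_zero, Submodule.mem_comap, hB]
    show (a : Place k K → K) ∈ AD D₁ ⊔ LinearMap.range (diag k K) ↔
      (a : Place k K → K) ∈ (AD D₁ ⊔ LinearMap.range (diag k K)) ⊓ AD D₂
    rw [Submodule.mem_inf]
    exact ⟨fun h1 => ⟨h1, a.2⟩, fun h1 => h1.1⟩
  let e1 := relQEquivOfSurjective B (AD D₂) f hf hkerf
  refine ⟨Module.Finite.equiv e1, ?_⟩
  rw [← e1.finrank_eq]
  have h5 : (Module.finrank k (relQ (AD D₁) (AD D₂)) : ℤ) =
      Module.finrank k (relQ (AD D₁) B) + Module.finrank k (relQ B (AD D₂)) := by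
    exact_mod_cast htower
  rw [hrank3] at h5
  linarith

theorem AD_le_adele (D : Divisor k K) : AD D ≤ adele k K := by
  intro a ha
  show ∀ᶠ P : Place k K in Filter.cofinite, P.1 (a P) ≤ 1
  rw [Filter.eventually_cofinite]
  apply (Finset.finite_toSet D.support).subset
  intro P hP
  rw [Finset.mem_coe, Finsupp.mem_support_iff]
  intro h0
  apply hP
  have h1 := ha P
  rw [h0, exp_zero] at h1
  exact h1

theorem diag_mem_adele (hK : IsFunctionField k K) (x : K) : diag k K x ∈ adele k K := by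
  show ∀ᶠ P : Place k K in Filter.cofinite, P.1 x ≤ 1
  rw [Filter.eventually_cofinite]
  apply (finite_support_ord hK x).subset
  intro P hP
  rw [Function.mem_support]
  intro h0
  apply hP
  by_cases hx : x = 0
  · rw [hx, map_zero]
    exact zero_le
  · rw [← P.ord_nonneg_iff hx, h0]

theorem ADK_le_adele (hK : IsFunctionField k K) (D : Divisor k K) :
    AD D ⊔ LinearMap.range (diag k K) ≤ adele k K := by
  apply sup_le (AD_le_adele D)
  rintro _ ⟨x, rfl⟩
  exact diag_mem_adele hK x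

theorem exists_AD_mem {a : Place k K → K} (ha : a ∈ adele k K) (D₁ : Divisor k K) :
    ∃ D₂ : Divisor k K, D₁ ≤ D₂ ∧ a ∈ AD D₂ := by
  classical
  have hT : {P : Place k K | ¬ P.1 (a P) ≤ 1}.Finite := Filter.eventually_cofinite.mp ha
  let E : Divisor k K := Finsupp.onFinset hT.toFinset (fun P => max (log (P.1 (a P))) 0)
    (fun P hP => by
      rw [Set.Finite.mem_toFinset]
      intro hle
      apply hP
      apply max_eq_right
      by_cases h0 : P.1 (a P) = 0
      · rw [h0, log_zero]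
      · rw [log_le_iff_le_exp h0, exp_zero]
        exact hle)
  refine ⟨D₁ ⊔ E, le_sup_left, fun P => ?_⟩
  have h1 : P.1 (a P) ≤ exp (E P) := by
    apply le_exp_of_log_le
    exact le_max_left _ _
  exact h1.trans (exp_le_exp.mpr ((le_sup_right : E ≤ D₁ ⊔ E) P))

theorem adele_le_of_deg_ge (hK : IsFunctionField k K) {N : ℤ}
    (hN : ∀ D : Divisor k K, N ≤ Divisor.deg D →
      Divisor.deg D + 1 - (ell D : ℤ) = genus k K)
    {D₁ : Divisor k K} (h : N ≤ Divisor.deg D₁) :
    adele k K ≤ AD D₁ ⊔ LinearMap.range (diag k K) := by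
  intro a ha
  obtain ⟨D₂, h12, haD₂⟩ := exists_AD_mem ha D₁
  obtain ⟨hfd, hrank⟩ := finrank_relQ_ADK hK h12
  have e1 := hN D₁ h
  have e2 := hN D₂ (h.trans (deg_mono h12))
  have h0 : Module.finrank k (relQ (AD D₁ ⊔ LinearMap.range (diag k K))
      (AD D₂ ⊔ LinearMap.range (diag k K))) = 0 := by
    have h1 : (Module.finrank k (relQ (AD D₁ ⊔ LinearMap.range (diag k K))
      (AD D₂ ⊔ LinearMap.range (diag k K))) : ℤ) = 0 := by
      rw [hrank]
      linarith
    exact_mod_cast h1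
  haveI := hfd
  exact relQ_eq_top_of_finrank_eq_zero _ _ h0 (Submodule.mem_sup_left haD₂)

/-- For divisors of large degree `A = A(D) + K`. -/
theorem exists_adele_eq (hK : IsFunctionField k K) :
    ∃ N : ℤ, ∀ D : Divisor k K, N ≤ Divisor.deg D →
      adele k K = AD D ⊔ LinearMap.range (diag k K) := by
  obtain ⟨-, N, hN⟩ := riemann hK
  exact ⟨N, fun D hD => le_antisymm (adele_le_of_deg_ge hK hN hD) (ADK_le_adele hK D)⟩

theorem exists_ge_deg (hK : IsFunctionField k K) (D : Divisor k K) (N : ℤ) :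
    ∃ D₁ : Divisor k K, D ≤ D₁ ∧ N ≤ Divisor.deg D₁ := by
  obtain ⟨P₀⟩ := exists_place hK
  refine ⟨D + (N - Divisor.deg D).toNat • Finsupp.single P₀ 1,
    le_add_of_nonneg_right (nsmul_nonneg (Finsupp.single_nonneg.mpr zero_le_one) _), ?_⟩
  rw [deg_add, deg_nsmul, deg_single, one_mul]
  have h1 := Place.deg_pos hK P₀
  have h2 := Int.self_le_toNat (N - Divisor.deg D)
  have h3 : (1 : ℤ) ≤ (P₀.deg : ℤ) := by exact_mod_cast h1
  have h4 : (0 : ℤ) ≤ ((N - Divisor.deg D).toNat : ℤ) := Int.natCast_nonneg _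
  nlinarith

theorem finrank_adele_quot (hK : IsFunctionField k K) (D : Divisor k K) :
    FiniteDimensional k (↥(adele k K) ⧸ ADK D) ∧
    (Module.finrank k (↥(adele k K) ⧸ ADK D) : ℤ) =
      (genus k K : ℤ) - (Divisor.deg D + 1 - ell D) := by
  obtain ⟨-, N, hN⟩ := riemann hK
  obtain ⟨D₁, hDD₁, hdeg⟩ := exists_ge_deg hK D N
  have heq : adele k K = AD D₁ ⊔ LinearMap.range (diag k K) :=
    le_antisymm (adele_le_of_deg_ge hK hN hdeg) (ADK_le_adele hK D₁)
  obtain ⟨hfd, hrank⟩ := finrank_relQ_ADK hK hDD₁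
  let e : relQ (AD D ⊔ LinearMap.range (diag k K)) (adele k K) ≃ₗ[k]
      relQ (AD D ⊔ LinearMap.range (diag k K)) (AD D₁ ⊔ LinearMap.range (diag k K)) :=
    relQCongrRight (AD D ⊔ LinearMap.range (diag k K)) heq
  haveI := hfd
  refine ⟨Module.Finite.equiv e.symm, ?_⟩
  show (Module.finrank k (relQ (AD D ⊔ LinearMap.range (diag k K)) (adele k K)) : ℤ) = _
  rw [e.finrank_eq, hrank, hN D₁ hdeg]

theorem finrank_WD (hK : IsFunctionField k K) (D : Divisor k K) :
    FiniteDimensional k (WD D) ∧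
    (Module.finrank k (WD D) : ℤ) = (genus k K : ℤ) - (Divisor.deg D + 1 - ell D) := by
  obtain ⟨hfd, hrank⟩ := finrank_adele_quot hK D
  haveI := hfd
  let e := Submodule.dualQuotEquivDualAnnihilator (ADK D)
  refine ⟨Module.Finite.equiv e, ?_⟩
  have h1 : Module.finrank k (WD D) = Module.finrank k (↥(adele k K) ⧸ ADK D) := by
    rw [← Subspace.dual_finrank_eq (K := k) (V := ↥(adele k K) ⧸ ADK D)]
    exact e.finrank_eq.symm
  rw [h1, hrank]

end FunFld
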