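import Mathlib
import Groth.Agent.Lib.FunFldH_helper2

/-! Function fields of one variable, part I (helper2): Weil differentials, Riemann–Roch. -/

open WithZero

namespace FunFld

variable {k K : Type*} [Field k] [Field K] [Algebra k K]

theorem dual_congr (ω : Module.Dual k (adele k K)) {a b : Place k K → K}
    (ha : a ∈ adele k K) (hb : b ∈ adele k K) (h : a = b) :
    ω ⟨a, ha⟩ = ω ⟨b, hb⟩ := by
  subst h
  rfl

theorem smul_mem_adele (hK : IsFunctionField k K) (x : K) :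
    ∀ a ∈ adele k K, x • a ∈ adele k K := by
  intro a ha
  by_cases hx : x = 0
  · rw [hx, zero_smul]
    exact (adele k K).zero_mem
  · show ∀ᶠ P : Place k K in Filter.cofinite, P.1 ((x • a) P) ≤ 1
    have h1 : ∀ᶠ P : Place k K in Filter.cofinite, P.1 (a P) ≤ 1 := ha
    have h2 : ∀ᶠ P : Place k K in Filter.cofinite, P.ord x = 0 := by
      rw [Filter.eventually_cofinite]
      exact finite_support_ord hK x
    filter_upwards [h1, h2] with P hP1 hP2
    rw [Pi.smul_apply, smul_eq_mul, map_mul, (P.ord_eq_zero_iff hx).mp hP2, one_mul]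
    exact hP1

theorem mem_WD_iff (hK : IsFunctionField k K) {ω : Module.Dual k (adele k K)}
    {E : Divisor k K} :
    ω ∈ WD E ↔ (∀ (a : Place k K → K) (ha : a ∈ AD E), ω ⟨a, AD_le_adele E ha⟩ = 0) ∧
      (∀ x : K, ω ⟨diag k K x, diag_mem_adele hK x⟩ = 0) := by
  unfold WD
  rw [Submodule.mem_dualAnnihilator]
  constructor
  · intro h
    refine ⟨fun a ha => h _ ?_, fun x => h _ ?_⟩
    · show (a : Place k K → K) ∈ AD E ⊔ LinearMap.range (diag k K)
      exact Submodule.mem_sup_left ha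
    · show diag k K x ∈ AD E ⊔ LinearMap.range (diag k K)
      exact Submodule.mem_sup_right (LinearMap.mem_range_self _ _)
  · rintro ⟨h1, h2⟩ α hα
    have hα' : (α : Place k K → K) ∈ AD E ⊔ LinearMap.range (diag k K) := hα
    obtain ⟨a, ha, d, ⟨x, rfl⟩, hsum⟩ := Submodule.mem_sup.mp hα'
    have h3 : α = ⟨a, AD_le_adele E ha⟩ + ⟨diag k K x, diag_mem_adele hK x⟩ :=
      Subtype.ext hsum.symm
    rw [h3, map_add, h1 a ha, h2 x, add_zero]

theorem WD_anti {D E : Divisor k K} (h : D ≤ E) : WD E ≤ WD D := by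
  unfold WD
  apply Submodule.dualAnnihilator_anti
  unfold ADK
  exact Submodule.comap_mono (sup_le_sup_right (AD_mono h) _)

theorem mulW_apply (x : K) (hx : ∀ a ∈ adele k K, x • a ∈ adele k K)
    (ω : Module.Dual k (adele k K)) (α : adele k K) :
    mulW x hx ω α = ω ⟨x • (α : Place k K → K), hx _ α.2⟩ := rfl

/-- A nonzero Weil differential has a divisor. -/
theorem exists_isDivOf (hK : IsFunctionField k K) (ω : Module.Dual k (adele k K))
    (hω : IsWeil ω) (h0 : ω ≠ 0) : ∃ C : Divisor k K, IsDivOf ω C := by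
  classical
  obtain ⟨N, hN⟩ := exists_adele_eq hK
  have hbound : ∀ E : Divisor k K, ω ∈ WD E → Divisor.deg E < N := by
    intro E hE
    by_contra hge
    push Not at hge
    have heq := hN E hge
    apply h0
    ext α
    rw [LinearMap.zero_apply]
    have hmem : α ∈ ADK E := by
      show (α : Place k K → K) ∈ AD E ⊔ LinearMap.range (diag k K)
      rw [← heq]
      exact α.2
    exact (Submodule.mem_dualAnnihilator _).mp hE α hmem
  obtain ⟨D₀, hD₀⟩ := hω
  obtain ⟨ub, ⟨W, hW, hdegW⟩, hmax⟩ := Int.exists_greatest_of_bdd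
    (P := fun d => ∃ E : Divisor k K, ω ∈ WD E ∧ Divisor.deg E = d)
    ⟨N, fun z ⟨E, hE, hz⟩ => hz ▸ (hbound E hE).le⟩ ⟨_, D₀, hD₀, rfl⟩
  refine ⟨W, fun E => ⟨fun hE => ?_, fun hle => WD_anti hle hW⟩⟩
  by_contra hnot
  obtain ⟨Q, hQ⟩ : ∃ Q, W Q < E Q := by
    by_contra hcon
    push Not at hcon
    exact hnot hcon
  have hnew : ω ∈ WD (W + Finsupp.single Q 1) := by
    rw [mem_WD_iff hK]
    obtain ⟨hW1, hW2⟩ := (mem_WD_iff hK).mp hW
    obtain ⟨hE1, -⟩ := (mem_WD_iff hK).mp hE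
    refine ⟨fun a ha => ?_, hW2⟩
    have ha' : Function.update a Q 0 ∈ AD W := by
      intro P
      by_cases hP : P = Q
      · rw [hP, Function.update_self, map_zero]
        exact zero_le
      · rw [Function.update_of_ne hP]
        have h1 := ha P
        rw [Finsupp.add_apply, Finsupp.single_apply, if_neg (fun h => hP h.symm), add_zero] at h1
        exact h1
    have ha'' : (Pi.single Q (a Q) : Place k K → K) ∈ AD E := by
      intro P
      by_cases hP : P = Q
      · rw [hP, Pi.single_eq_same]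
        have h1 := ha Q
        rw [Finsupp.add_apply, Finsupp.single_eq_same] at h1
        exact h1.trans (exp_le_exp.mpr (by omega))
      · rw [Pi.single_eq_of_ne hP, map_zero]
        exact zero_le
    have hsplit : (⟨a, AD_le_adele _ ha⟩ : adele k K) =
        ⟨Function.update a Q 0, AD_le_adele _ ha'⟩ +
          ⟨Pi.single Q (a Q), AD_le_adele _ ha''⟩ := by
      apply Subtype.ext
      funext P
      show a P = Function.update a Q 0 P + (Pi.single Q (a Q) : Place k K → K) P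
      by_cases hP : P = Q
      · rw [hP, Function.update_self, Pi.single_eq_same, zero_add]
      · rw [Function.update_of_ne hP, Pi.single_eq_of_ne hP, add_zero]
    rw [hsplit, map_add, hW1 _ ha', hE1 _ ha'', add_zero]
  have h1 := hmax _ ⟨_, hnew, rfl⟩
  rw [deg_add, deg_single, one_mul, hdegW] at h1
  have h2 := Place.deg_pos hK Q
  omega

theorem isDivOf_unique {ω : Module.Dual k (adele k K)} {C C' : Divisor k K}
    (h : IsDivOf ω C) (h' : IsDivOf ω C') : C = C' :=
  le_antisymm ((h' C).mp ((h C).mpr le_rfl)) ((h C').mp ((h' C').mpr le_rfl))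

theorem ne_zero_of_isDivOf (hK : IsFunctionField k K) {ω : Module.Dual k (adele k K)}
    {C : Divisor k K} (hω : IsDivOf ω C) : ω ≠ 0 := by
  rintro rfl
  obtain ⟨P⟩ := exists_place hK
  have h1 := (hω (C + Finsupp.single P 1)).mp (Submodule.zero_mem _)
  have h2 := h1 P
  rw [Finsupp.add_apply, Finsupp.single_eq_same] at h2
  omega

theorem mulW_mem_WD' (hK : IsFunctionField k K) {C D : Divisor k K} {x : K} (hxD : x ∈ L D)
    (hx : ∀ a ∈ adele k K, x • a ∈ adele k K) {ω : Module.Dual k (adele k K)}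
    (hω : ω ∈ WD C) : mulW x hx ω ∈ WD (C - D) := by
  rw [mem_WD_iff hK] at hω ⊢
  obtain ⟨h1, h2⟩ := hω
  constructor
  · intro a ha
    rw [mulW_apply]
    have hmem : x • a ∈ AD C := by
      intro P
      rw [Pi.smul_apply, smul_eq_mul, map_mul]
      calc P.1 x * P.1 (a P) ≤ exp (D P) * exp ((C - D) P) := mul_le_mul' (hxD P) (ha P)
        _ = exp (C P) := by
            rw [← exp_add, Finsupp.sub_apply]
            congr 1
            ring
    exact h1 _ hmem
  · intro y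
    rw [mulW_apply, ← h2 (x * y)]
    apply dual_congr
    funext P
    rfl

theorem smul_mem_AD (hK : IsFunctionField k K) {x : K} (hx : x ≠ 0) {E : Divisor k K}
    {a : Place k K → K} (ha : a ∈ AD E) : x • a ∈ AD (E - div k x) := by
  intro P
  rw [Pi.smul_apply, smul_eq_mul, map_mul, Finsupp.sub_apply, div_apply hK,
    P.val_eq_exp_neg_ord hx]
  calc exp (-(P.ord x)) * P.1 (a P) ≤ exp (-(P.ord x)) * exp (E P) :=
        mul_le_mul' le_rfl (ha P)
    _ = exp (E P - P.ord x) := by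
        rw [← exp_add]
        congr 1
        ring

theorem mulW_mem_WD_iff (hK : IsFunctionField k K) {x : K} (hx0 : x ≠ 0)
    (hx : ∀ a ∈ adele k K, x • a ∈ adele k K) (ω : Module.Dual k (adele k K))
    (E : Divisor k K) : mulW x hx ω ∈ WD E ↔ ω ∈ WD (E - div k x) := by
  rw [mem_WD_iff hK, mem_WD_iff hK]
  constructor
  · rintro ⟨h1, h2⟩
    constructor
    · intro b hb
      have ha : x⁻¹ • b ∈ AD E := by
        have h3 := smul_mem_AD hK (inv_ne_zero hx0) hb
        rw [div_inv hK] at h3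
        have e : E - div k x - -div k x = E := by abel
        rw [e] at h3
        exact h3
      have h3 := h1 _ ha
      rw [mulW_apply] at h3
      rw [← h3]
      apply dual_congr
      rw [smul_smul, mul_inv_cancel₀ hx0, one_smul]
    · intro z
      have h3 := h2 (x⁻¹ * z)
      rw [mulW_apply] at h3
      rw [← h3]
      apply dual_congr
      funext P
      show z = x * (x⁻¹ * z)
      rw [← mul_assoc, mul_inv_cancel₀ hx0, one_mul]
  · rintro ⟨h1, h2⟩
    constructor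
    · intro a ha
      rw [mulW_apply]
      exact h1 _ (smul_mem_AD hK hx0 ha)
    · intro y
      rw [mulW_apply, ← h2 (x * y)]
      apply dual_congr
      funext P
      rfl

/-- `(xω) = (x) + (ω)`. -/
theorem isDivOf_mulW (hK : IsFunctionField k K) (x : K) (h0 : x ≠ 0)
    (hx : ∀ a ∈ adele k K, x • a ∈ adele k K) (ω : Module.Dual k (adele k K))
    (C : Divisor k K) (hω : IsDivOf ω C) : IsDivOf (mulW x hx ω) (C + div k x) := by
  intro E
  rw [mulW_mem_WD_iff hK h0, hω (E - div k x), sub_le_iff_le_add]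

section MulWAlgebra

theorem mulW_zero_right (x : K) (hx : ∀ a ∈ adele k K, x • a ∈ adele k K) :
    mulW x hx (0 : Module.Dual k (adele k K)) = 0 := by
  ext α
  rfl

theorem mulW_zero_left (hx : ∀ a ∈ adele k K, (0 : K) • a ∈ adele k K)
    (ω : Module.Dual k (adele k K)) : mulW (0 : K) hx ω = 0 := by
  ext α
  rw [mulW_apply, LinearMap.zero_apply]
  have h1 : (⟨(0 : K) • (α : Place k K → K), hx _ α.2⟩ : adele k K) = 0 :=
    Subtype.ext (zero_smul _ _)
  rw [h1, map_zero]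

theorem mulW_one (hx : ∀ a ∈ adele k K, (1 : K) • a ∈ adele k K)
    (ω : Module.Dual k (adele k K)) : mulW (1 : K) hx ω = ω := by
  ext α
  rw [mulW_apply]
  congr 1
  exact Subtype.ext (one_smul _ _)

theorem mulW_mul (x y : K) (hx : ∀ a ∈ adele k K, x • a ∈ adele k K)
    (hy : ∀ a ∈ adele k K, y • a ∈ adele k K)
    (hxy : ∀ a ∈ adele k K, (x * y) • a ∈ adele k K) (ω : Module.Dual k (adele k K)) :
    mulW (x * y) hxy ω = mulW y hy (mulW x hx ω) := by
  ext α
  rw [mulW_apply, mulW_apply, mulW_apply]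
  apply dual_congr
  exact mul_smul x y _

theorem mulW_eq_zero (hK : IsFunctionField k K) {x : K} (hx0 : x ≠ 0)
    (hx : ∀ a ∈ adele k K, x • a ∈ adele k K) {ω : Module.Dual k (adele k K)}
    (h : mulW x hx ω = 0) : ω = 0 := by
  have h1 := mulW_mul x x⁻¹ hx (smul_mem_adele hK x⁻¹) (smul_mem_adele hK (x * x⁻¹)) ω
  rw [h, mulW_zero_right] at h1
  have h2 : mulW (x * x⁻¹) (smul_mem_adele hK (x * x⁻¹)) ω = ω := by
    have e : x * x⁻¹ = 1 := mul_inv_cancel₀ hx0
    have h3 : ∀ (z : K) (hz : ∀ a ∈ adele k K, z • a ∈ adele k K), z = 1 → mulW z hz ω = ω := by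
      intro z hz hz1
      subst hz1
      exact mulW_one hz ω
    exact h3 _ _ e
  rw [h2] at h1
  exact h1

/-- `x ↦ xω` as a `k`-linear map. -/
noncomputable def mulWLin (h : ∀ (x : K), ∀ a ∈ adele k K, x • a ∈ adele k K)
    (ω : Module.Dual k (adele k K)) : K →ₗ[k] Module.Dual k (adele k K) where
  toFun x := mulW x (h x) ω
  map_add' x y := by
    ext α
    rw [LinearMap.add_apply, mulW_apply, mulW_apply, mulW_apply, ← map_add]
    congr 1
    apply Subtype.ext
    show (x + y) • (α : Place k K → K) = x • (α : Place k K → K) + y • (α : Place k K → K)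
    rw [add_smul]
  map_smul' c x := by
    ext α
    rw [RingHom.id_apply, LinearMap.smul_apply, mulW_apply, mulW_apply, ← map_smul]
    congr 1
    apply Subtype.ext
    show (c • x) • (α : Place k K → K) = c • (x • (α : Place k K → K))
    rw [smul_assoc]

theorem mulWLin_apply (h : ∀ (x : K), ∀ a ∈ adele k K, x • a ∈ adele k K)
    (ω : Module.Dual k (adele k K)) (x : K) : mulWLin h ω x = mulW x (h x) ω := rfl

theorem mulWLin_injective (hK : IsFunctionField k K)
    (h : ∀ (x : K), ∀ a ∈ adele k K, x • a ∈ adele k K)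
    {ω : Module.Dual k (adele k K)} (hω : ω ≠ 0) : Function.Injective (mulWLin h ω) := by
  rw [injective_iff_map_eq_zero]
  intro x hx
  by_contra hx0
  exact hω (mulW_eq_zero hK hx0 (h x) hx)

end MulWAlgebra

theorem exists_eq_of_finrank_lt {V₁ V₂ W : Type*} [AddCommGroup V₁] [Module k V₁]
    [AddCommGroup V₂] [Module k V₂] [AddCommGroup W] [Module k W] [FiniteDimensional k V₁]
    [FiniteDimensional k V₂] [FiniteDimensional k W]
    (φ₁ : V₁ →ₗ[k] W) (φ₂ : V₂ →ₗ[k] W) (h₁ : Function.Injective φ₁)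
    (h : Module.finrank k W < Module.finrank k V₁ + Module.finrank k V₂) :
    ∃ (x₁ : V₁) (x₂ : V₂), φ₁ x₁ = φ₂ x₂ ∧ x₂ ≠ 0 := by
  have hninj : ¬ Function.Injective (φ₁.coprod (-φ₂)) := by
    intro hinj
    have h3 := LinearMap.finrank_le_finrank_of_injective hinj
    rw [Module.finrank_prod] at h3
    omega
  rw [injective_iff_map_eq_zero] at hninj
  push Not at hninj
  obtain ⟨⟨x₁, x₂⟩, hx, hne⟩ := hninj
  rw [LinearMap.coprod_apply, LinearMap.neg_apply] at hx
  have heq : φ₁ x₁ = φ₂ x₂ := by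
    rw [← sub_eq_zero, sub_eq_add_neg]
    exact hx
  refine ⟨x₁, x₂, heq, ?_⟩
  rintro rfl
  rw [map_zero] at heq
  have h4 : x₁ = 0 := h₁ (by rw [heq, map_zero])
  exact hne (by rw [h4]; rfl)

/-- `dim_K W_K = 1`. -/
theorem exists_mulW_eq (hK : IsFunctionField k K)
    (h : ∀ (x : K), ∀ a ∈ adele k K, x • a ∈ adele k K)
    (ω₁ ω₂ : Module.Dual k (adele k K)) (h₁ : IsWeil ω₁) (h0 : ω₁ ≠ 0) (h₂ : IsWeil ω₂) :
    ∃ x : K, mulW x (h x) ω₁ = ω₂ := by
  classical
  by_cases h20 : ω₂ = 0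
  · exact ⟨0, by rw [h20]; exact mulW_zero_left (h 0) ω₁⟩
  obtain ⟨W₁, hW₁⟩ := exists_isDivOf hK ω₁ h₁ h0
  obtain ⟨W₂, hW₂⟩ := exists_isDivOf hK ω₂ h₂ h20
  have hω₁ : ω₁ ∈ WD W₁ := (hW₁ W₁).mpr le_rfl
  have hω₂ : ω₂ ∈ WD W₂ := (hW₂ W₂).mpr le_rfl
  obtain ⟨B, hBnn, hBdeg⟩ := exists_ge_deg hK (0 : Divisor k K)
    (max 1 (3 * (genus k K : ℤ) - Divisor.deg W₁ - Divisor.deg W₂))
  have hBpos : 0 < Divisor.deg B := lt_of_lt_of_le one_pos ((le_max_left _ _).trans hBdeg)
  have hBbig : 3 * (genus k K : ℤ) - Divisor.deg W₁ - Divisor.deg W₂ ≤ Divisor.deg B :=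
    (le_max_right _ _).trans hBdeg
  have hmem₁ : ∀ x : L (W₁ + B), ((mulWLin h ω₁).comp (L (W₁ + B)).subtype) x ∈ WD (-B) :=
    fun x => by
      have h3 := mulW_mem_WD' hK x.2 (h x) hω₁
      have e : W₁ - (W₁ + B) = -B := by abel
      rw [e] at h3
      exact h3
  have hmem₂ : ∀ x : L (W₂ + B), ((mulWLin h ω₂).comp (L (W₂ + B)).subtype) x ∈ WD (-B) :=
    fun x => by
      have h3 := mulW_mem_WD' hK x.2 (h x) hω₂
      have e : W₂ - (W₂ + B) = -B := by abel
      rw [e] at h3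
      exact h3
  obtain ⟨φ₁, hφ₁⟩ : ∃ φ : L (W₁ + B) →ₗ[k] WD (-B),
      ∀ x, (φ x : Module.Dual k (adele k K)) = mulWLin h ω₁ (x : K) :=
    ⟨LinearMap.codRestrict (WD (-B)) ((mulWLin h ω₁).comp (L (W₁ + B)).subtype) hmem₁,
      fun x => rfl⟩
  obtain ⟨φ₂, hφ₂⟩ : ∃ φ : L (W₂ + B) →ₗ[k] WD (-B),
      ∀ x, (φ x : Module.Dual k (adele k K)) = mulWLin h ω₂ (x : K) :=
    ⟨LinearMap.codRestrict (WD (-B)) ((mulWLin h ω₂).comp (L (W₂ + B)).subtype) hmem₂,
      fun x => rfl⟩
  have hinj₁ : Function.Injective φ₁ := by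
    intro x y hxy
    have h3 : mulWLin h ω₁ (x : K) = mulWLin h ω₁ (y : K) := by
      rw [← hφ₁, ← hφ₁, hxy]
    exact Subtype.ext (mulWLin_injective hK h h0 h3)
  have hinj₂ : Function.Injective φ₂ := by
    intro x y hxy
    have h3 : mulWLin h ω₂ (x : K) = mulWLin h ω₂ (y : K) := by
      rw [← hφ₂, ← hφ₂, hxy]
    exact Subtype.ext (mulWLin_injective hK h h20 h3)
  haveI := (finrank_WD hK (-B)).1
  haveI := finiteDimensional_L hK (W₁ + B)
  haveI := finiteDimensional_L hK (W₂ + B)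
  have hWD : (Module.finrank k (WD (-B)) : ℤ) = genus k K + Divisor.deg B - 1 := by
    rw [(finrank_WD hK (-B)).2, deg_neg]
    have h3 : ell (-B) = 0 := by
      unfold ell
      rw [L_eq_bot_of_deg_neg hK (-B) (by rw [deg_neg]; linarith)]
      exact finrank_bot k K
    rw [h3]
    push_cast
    ring
  have hr₁ := delta_le_genus hK (W₁ + B)
  have hr₂ := delta_le_genus hK (W₂ + B)
  rw [deg_add] at hr₁ hr₂
  have hlt : Module.finrank k (WD (-B)) <
      Module.finrank k (L (W₁ + B)) + Module.finrank k (L (W₂ + B)) := by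
    have e1 : (Module.finrank k (L (W₁ + B)) : ℤ) = ell (W₁ + B) := rfl
    have e2 : (Module.finrank k (L (W₂ + B)) : ℤ) = ell (W₂ + B) := rfl
    have h5 : (Module.finrank k (WD (-B)) : ℤ) <
        (Module.finrank k (L (W₁ + B)) : ℤ) + (Module.finrank k (L (W₂ + B)) : ℤ) := by
      rw [hWD, e1, e2]
      linarith
    exact_mod_cast h5
  obtain ⟨x₁, x₂, hx12, hx₂ne⟩ := exists_eq_of_finrank_lt (k := k) (V₁ := ↥(L (W₁ + B)))
    (V₂ := ↥(L (W₂ + B))) (W := ↥(WD (-B))) φ₁ φ₂ hinj₁ hlt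
  have hx₂0 : (x₂ : K) ≠ 0 := fun h' => hx₂ne (Subtype.ext h')
  have heq : mulW (x₂ : K) (h x₂) ω₂ = mulW (x₁ : K) (h x₁) ω₁ := by
    have h3 := congrArg Subtype.val hx12.symm
    rw [hφ₂, hφ₁] at h3
    exact h3
  refine ⟨(x₁ : K) * (x₂ : K)⁻¹, ?_⟩
  rw [mulW_mul (x₁ : K) (x₂ : K)⁻¹ (h _) (h _) (h _) ω₁, ← heq,
    ← mulW_mul (x₂ : K) (x₂ : K)⁻¹ (h _) (h _) (h _) ω₂]
  have h3 : ∀ (z : K) (hz : ∀ a ∈ adele k K, z • a ∈ adele k K), z = 1 → mulW z hz ω₂ = ω₂ := by
    intro z hz hz1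
    subst hz1
    exact mulW_one hz ω₂
  exact h3 _ _ (mul_inv_cancel₀ hx₂0)

/-- Any two canonical divisors are linearly equivalent. -/
theorem isCanonical_sub (hK : IsFunctionField k K) (C₁ C₂ : Divisor k K)
    (h₁ : IsCanonical k K C₁) (h₂ : IsCanonical k K C₂) :
    ∃ x : K, x ≠ 0 ∧ C₂ = C₁ + div k x := by
  obtain ⟨ω₁, h10, hd1⟩ := h₁
  obtain ⟨ω₂, h20, hd2⟩ := h₂
  have hw1 : IsWeil ω₁ := ⟨C₁, (hd1 C₁).mpr le_rfl⟩
  have hw2 : IsWeil ω₂ := ⟨C₂, (hd2 C₂).mpr le_rfl⟩
  obtain ⟨x, hx⟩ := exists_mulW_eq hK (smul_mem_adele hK) ω₁ ω₂ hw1 h10 hw2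
  have hx0 : x ≠ 0 := by
    rintro rfl
    rw [mulW_zero_left] at hx
    exact h20 hx.symm
  refine ⟨x, hx0, ?_⟩
  have h3 := isDivOf_mulW hK x hx0 (smul_mem_adele hK x) ω₁ C₁ hd1
  rw [hx] at h3
  exact isDivOf_unique hd2 h3

/-- Multiplication by `ω` is a bijection `L(C - D) → W(D)`. -/
theorem mulW_L_onto_WD (hK : IsFunctionField k K)
    (h : ∀ (x : K), ∀ a ∈ adele k K, x • a ∈ adele k K)
    (ω : Module.Dual k (adele k K)) (C : Divisor k K) (hω : IsDivOf ω C)
    (D : Divisor k K) (ω' : Module.Dual k (adele k K)) (hω' : ω' ∈ WD D) :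
    ∃! x : K, x ∈ L (C - D) ∧ mulW x (h x) ω = ω' := by
  have hω0 : ω ≠ 0 := ne_zero_of_isDivOf hK hω
  have hwω : IsWeil ω := ⟨C, (hω C).mpr le_rfl⟩
  have hex : ∃ x : K, x ∈ L (C - D) ∧ mulW x (h x) ω = ω' := by
    by_cases h0 : ω' = 0
    · exact ⟨0, Submodule.zero_mem _, by rw [h0]; exact mulW_zero_left (h 0) ω⟩
    · obtain ⟨x, hx⟩ := exists_mulW_eq hK h ω ω' hwω hω0 ⟨D, hω'⟩
      have hx0 : x ≠ 0 := by
        rintro rfl
        rw [mulW_zero_left] at hx
        exact h0 hx.symm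
      refine ⟨x, ?_, hx⟩
      have h3 := isDivOf_mulW hK x hx0 (h x) ω C hω
      rw [hx] at h3
      have h4 := (h3 D).mp hω'
      rw [mem_L_iff_div hK hx0]
      rw [← sub_nonneg] at h4
      convert h4 using 1
      abel
  obtain ⟨x, hxL, hx⟩ := hex
  refine ⟨x, ⟨hxL, hx⟩, fun y ⟨_, hy⟩ => ?_⟩
  apply mulWLin_injective hK h hω0
  rw [mulWLin_apply, mulWLin_apply, hy, hx]

/-- The Riemann–Roch theorem. -/
theorem riemann_roch (hK : IsFunctionField k K) (C : Divisor k K)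
    (hC : IsCanonical k K C) (D : Divisor k K) :
    (ell D : ℤ) = Divisor.deg D + 1 - genus k K + ell (C - D) := by
  obtain ⟨ω, hω0, hω⟩ := hC
  have h := smul_mem_adele hK
  have hωC : ω ∈ WD C := (hω C).mpr le_rfl
  have hmem : ∀ x : L (C - D), ((mulWLin h ω).comp (L (C - D)).subtype) x ∈ WD D := fun x => by
    have h3 := mulW_mem_WD' hK x.2 (h x) hωC
    have e : C - (C - D) = D := by abel
    rw [e] at h3
    exact h3
  have hinj : Function.Injective (LinearMap.codRestrict (WD D)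
      ((mulWLin h ω).comp (L (C - D)).subtype) hmem) := by
    intro x y hxy
    have h3 : mulWLin h ω (x : K) = mulWLin h ω (y : K) := congrArg Subtype.val hxy
    exact Subtype.ext (mulWLin_injective hK h hω0 h3)
  have hsurj : Function.Surjective (LinearMap.codRestrict (WD D)
      ((mulWLin h ω).comp (L (C - D)).subtype) hmem) := by
    intro η
    obtain ⟨x, ⟨hxL, hxeq⟩, -⟩ := mulW_L_onto_WD hK h ω C hω D η.1 η.2
    exact ⟨⟨x, hxL⟩, Subtype.ext hxeq⟩
  have e := LinearEquiv.ofBijective _ ⟨hinj, hsurj⟩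
  have h1 : ell (C - D) = Module.finrank k (WD D) := e.finrank_eq
  have h2 := (finrank_WD hK D).2
  rw [← h1] at h2
  linarith

end FunFld
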