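import Mathlib
import Groth.Agent.Lib.FunFldI_helper2

/-! Function fields of one variable, part J (helper2): consequences of Riemann–Roch. -/

open WithZero Polynomial IntermediateField

namespace FunFld

variable {k K : Type*} [Field k] [Field K] [Algebra k K]

theorem div_mul (hK : IsFunctionField k K) {x y : K} (hx : x ≠ 0) (hy : y ≠ 0) :
    div k (x * y) = div k x + div k y := by
  ext P
  rw [Finsupp.add_apply, div_apply hK, div_apply hK, div_apply hK, P.ord_mul hx hy]

theorem single_le_of_one_le {D : Divisor k K} (h : 0 ≤ D) {P : Place k K} (hP : 1 ≤ D P) :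
    Finsupp.single P 1 ≤ D := by
  classical
  intro Q
  by_cases hQ : Q = P
  · rw [hQ, Finsupp.single_eq_same]
    exact hP
  · rw [Finsupp.single_apply, if_neg (Ne.symm hQ)]
    exact h Q

theorem eq_zero_of_nonneg_of_deg_le_zero (hK : IsFunctionField k K) {D : Divisor k K}
    (h : 0 ≤ D) (hd : Divisor.deg D ≤ 0) : D = 0 := by
  by_contra hne
  obtain ⟨P, hP⟩ : ∃ P, D P ≠ 0 := by
    by_contra hall
    push Not at hall
    exact hne (Finsupp.ext hall)
  have h0 : (0 : ℤ) ≤ D P := h P
  have hP1 : 1 ≤ D P := by omega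
  have hle := single_le_of_one_le h hP1
  have h2 := deg_mono hle
  rw [deg_single] at h2
  have h3 := Place.deg_pos hK P
  omega

theorem exists_eq_single_of_deg_eq_one (hK : IsFunctionField k K) {D : Divisor k K}
    (h : 0 ≤ D) (hd : Divisor.deg D = 1) :
    ∃ P : Place k K, P.deg = 1 ∧ D = Finsupp.single P 1 := by
  obtain ⟨P, hP⟩ : ∃ P, D P ≠ 0 := by
    by_contra hall
    push Not at hall
    have h0 : D = 0 := Finsupp.ext hall
    rw [h0, deg_zero] at hd
    exact zero_ne_one hd
  have h0 : (0 : ℤ) ≤ D P := h P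
  have hP1 : 1 ≤ D P := by omega
  have hle := single_le_of_one_le h hP1
  have hE : 0 ≤ D - Finsupp.single P 1 := sub_nonneg.mpr hle
  have hdE : Divisor.deg (D - Finsupp.single P 1) = 1 - P.deg := by
    rw [deg_sub, hd, deg_single, one_mul]
  have hpos := Place.deg_pos hK P
  have hnn := deg_nonneg_of_nonneg hE
  have hdeg : P.deg = 1 := by
    rw [hdE] at hnn
    omega
  refine ⟨P, hdeg, ?_⟩
  have h5 := eq_zero_of_nonneg_of_deg_le_zero hK hE (by rw [hdE, hdeg]; simp)
  exact sub_eq_zero.mp h5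

theorem ell_eq_zero_of_deg_neg (hK : IsFunctionField k K) (D : Divisor k K)
    (h : Divisor.deg D < 0) : ell D = 0 := by
  unfold ell
  rw [L_eq_bot_of_deg_neg hK D h]
  exact finrank_bot k K

theorem exists_isCanonical (hK : IsFunctionField k K) : ∃ C : Divisor k K, IsCanonical k K C := by
  obtain ⟨P⟩ := exists_place hK
  have hpos := Place.deg_pos hK P
  obtain ⟨hfd, hfr⟩ := finrank_WD hK (Finsupp.single P (-2) : Divisor k K)
  have hdeg : Divisor.deg (Finsupp.single P (-2) : Divisor k K) = -2 * P.deg := deg_single P (-2)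
  have hell : ell (Finsupp.single P (-2) : Divisor k K) = 0 :=
    ell_eq_zero_of_deg_neg hK _ (by rw [hdeg]; omega)
  rw [hdeg, hell] at hfr
  have hpos' : 0 < Module.finrank k (WD (Finsupp.single P (-2) : Divisor k K)) := by
    have h3 : (0 : ℤ) < (Module.finrank k (WD (Finsupp.single P (-2) : Divisor k K)) : ℤ) := by
      rw [hfr]
      push_cast
      omega
    exact_mod_cast h3
  haveI := hfd
  obtain ⟨ω, hω⟩ := (Module.finrank_pos_iff_exists_ne_zero (R := k)
    (M := ↥(WD (Finsupp.single P (-2) : Divisor k K)))).mp hpos'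
  have hω0 : (ω : Module.Dual k (adele k K)) ≠ 0 := fun h => hω (Subtype.ext h)
  obtain ⟨C, hC⟩ := exists_isDivOf hK ω.1 ⟨_, ω.2⟩ hω0
  exact ⟨C, ω.1, hω0, hC⟩

theorem ell_of_isCanonical (hK : IsFunctionField k K) {C : Divisor k K}
    (hC : IsCanonical k K C) : ell C = genus k K := by
  have h := riemann_roch hK C hC 0
  rw [ell_zero hK, deg_zero, sub_zero] at h
  push_cast at h
  omega

theorem deg_of_isCanonical (hK : IsFunctionField k K) {C : Divisor k K}
    (hC : IsCanonical k K C) : Divisor.deg C = 2 * genus k K - 2 := by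
  have h := riemann_roch hK C hC C
  rw [sub_self, ell_zero hK, ell_of_isCanonical hK hC] at h
  push_cast at h
  omega

/-- S10992. -/
theorem isCanonical_iff (hK : IsFunctionField k K) (C : Divisor k K) :
    IsCanonical k K C ↔ (ell C = genus k K ∧ Divisor.deg C = 2 * genus k K - 2) := by
  constructor
  · intro h
    exact ⟨ell_of_isCanonical hK h, deg_of_isCanonical hK h⟩
  · rintro ⟨h1, h2⟩
    obtain ⟨W, hW⟩ := exists_isCanonical hK
    have hrr := riemann_roch hK W hW C
    have hdW := deg_of_isCanonical hK hW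
    have hl : ell (W - C) = 1 := by
      rw [h1, h2] at hrr
      omega
    obtain ⟨z, hzL, hz0⟩ := exists_ne_zero_mem_L_of_ell_pos hK (D := W - C) (by omega)
    rw [mem_L_iff_div hK hz0] at hzL
    have hdeg : Divisor.deg (div k z + (W - C)) = 0 := by
      rw [deg_add, deg_div_eq_zero hK, deg_sub, hdW, h2]
      ring
    have h0 := eq_zero_of_nonneg_of_deg_le_zero hK hzL hdeg.le
    have hC : C = W + div k z := by
      have h3 : W + div k z - C = 0 := by
        rw [← h0]
        abel
      exact (sub_eq_zero.mp h3).symm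
    obtain ⟨ω, hω0, hω⟩ := hW
    rw [hC]
    have h4 := isDivOf_mulW hK z hz0 (smul_mem_adele hK z) ω W hω
    exact ⟨mulW z (smul_mem_adele hK z) ω, ne_zero_of_isDivOf hK h4, h4⟩

/-- S10993. -/
theorem ell_eq_of_deg_ge (hK : IsFunctionField k K) (D : Divisor k K)
    (h : 2 * (genus k K : ℤ) - 1 ≤ Divisor.deg D) :
    (ell D : ℤ) = Divisor.deg D + 1 - genus k K := by
  obtain ⟨W, hW⟩ := exists_isCanonical hK
  have hrr := riemann_roch hK W hW D
  have hdW := deg_of_isCanonical hK hW
  have hl : ell (W - D) = 0 :=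
    ell_eq_zero_of_deg_neg hK _ (by rw [deg_sub, hdW]; linarith)
  rw [hl] at hrr
  push_cast at hrr
  linarith

theorem le_ell_nsmul_poleDiv (hK : IsFunctionField k K) {x : K} (hx : Transcendental k x)
    (l : ℕ) : l + 1 ≤ ell (l • poleDiv k x) := by
  have hx0 : x ≠ 0 := by
    rintro rfl
    exact hx isAlgebraic_zero
  haveI := finiteDimensional_L hK (l • poleDiv k x)
  have hdeg : ∀ p : degreeLT k (l + 1), (p : k[X]).natDegree ≤ l := fun p => by
    have h1 := Polynomial.mem_degreeLT.mp p.2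
    by_cases hp0 : (p : k[X]) = 0
    · rw [hp0, natDegree_zero]
      exact Nat.zero_le _
    · exact Nat.lt_succ_iff.mp ((natDegree_lt_iff_degree_lt hp0).mpr h1)
  obtain ⟨φ, hφ⟩ : ∃ φ : degreeLT k (l + 1) →ₗ[k] L (l • poleDiv k x),
      ∀ p, (φ p : K) = aeval x (p : k[X]) :=
    ⟨LinearMap.codRestrict (L (l • poleDiv k x))
      ((Polynomial.aeval x).toLinearMap.comp (degreeLT k (l + 1)).subtype)
      (fun p => aeval_mem_L_nsmul_poleDiv hK hx0 (p : k[X]) (hdeg p)), fun p => rfl⟩
  have hinj : Function.Injective φ := by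
    rw [injective_iff_map_eq_zero]
    intro p hp
    have h1 : aeval x (p : k[X]) = 0 := by
      rw [← hφ, hp]
      rfl
    exact Subtype.ext (transcendental_iff.mp hx _ h1)
  have h1 := LinearMap.finrank_le_finrank_of_injective hinj
  rw [(degreeLTEquiv k (l + 1)).finrank_eq, Module.finrank_fin_fun] at h1
  exact h1

theorem genus_eq_zero_of_deg_poleDiv (hK : IsFunctionField k K) {x : K}
    (hx : Transcendental k x) (h1 : Divisor.deg (poleDiv k x) = 1) : genus k K = 0 := by
  obtain ⟨_, N, hN⟩ := riemann hK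
  have h2 := hN (N.toNat • poleDiv k x) (by
    rw [deg_nsmul, h1, mul_one]
    exact Int.self_le_toNat N)
  rw [deg_nsmul, h1, mul_one] at h2
  have h3 := le_ell_nsmul_poleDiv hK hx N.toNat
  omega

theorem transcendental_of_ord_ne_zero (hK : IsFunctionField k K) {P : Place k K} {x : K}
    (h : P.ord x ≠ 0) : Transcendental k x := by
  intro halg
  obtain ⟨c, rfl⟩ := hK.2 x halg
  exact h (P.ord_algebraMap c)

theorem poleDiv_eq_single (hK : IsFunctionField k K) {P : Place k K} {x : K} {n : ℤ}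
    (hn : 0 ≤ n) (hx : P.ord x = -n) (hQ : ∀ Q : Place k K, Q ≠ P → 0 ≤ Q.ord x) :
    poleDiv k x = Finsupp.single P n := by
  classical
  ext Q
  rw [poleDiv_apply hK]
  by_cases h : Q = P
  · rw [h, Finsupp.single_eq_same, hx, neg_neg]
    exact max_eq_left hn
  · rw [Finsupp.single_apply, if_neg (Ne.symm h)]
    exact max_eq_right (by have := hQ Q h; omega)

/-- S10995, forward direction (and genus zero). -/
theorem adjoin_eq_top_of_simple_pole (hK : IsFunctionField k K) {x : K} {P : Place k K}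
    (hP : P.deg = 1) (hx : P.ord x = -1) (hQ : ∀ Q : Place k K, Q ≠ P → 0 ≤ Q.ord x) :
    k⟮x⟯ = ⊤ ∧ genus k K = 0 := by
  have hxt : Transcendental k x := transcendental_of_ord_ne_zero hK (P := P) (by omega)
  have hpd : poleDiv k x = Finsupp.single P 1 := poleDiv_eq_single hK zero_le_one hx hQ
  have hdeg : Divisor.deg (poleDiv k x) = 1 := by
    rw [hpd, deg_single, hP]
    norm_num
  have hfr : Module.finrank k⟮x⟯ K = 1 := by
    have h3 := deg_poleDiv_eq hK hxt
    rw [hdeg] at h3
    exact_mod_cast h3.symm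
  exact ⟨IntermediateField.finrank_eq_one_iff_eq_top.mp hfr,
    genus_eq_zero_of_deg_poleDiv hK hxt hdeg⟩

/-- S10995, backward direction. -/
theorem exists_simple_pole_of_adjoin_eq_top (hK : IsFunctionField k K) {x : K}
    (h : k⟮x⟯ = ⊤) :
    ∃ (P : Place k K), P.deg = 1 ∧ P.ord x = -1 ∧ ∀ Q : Place k K, Q ≠ P → 0 ≤ Q.ord x := by
  classical
  have hxt : Transcendental k x := by
    intro halg
    obtain ⟨⟨t, ht, _⟩, _⟩ := hK
    apply ht
    have htm : t ∈ k⟮x⟯ := by
      rw [h]
      trivial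
    haveI := IntermediateField.isAlgebraic_adjoin_simple halg.isIntegral
    exact (IntermediateField.isAlgebraic_iff (S := k⟮x⟯) (x := ⟨t, htm⟩)).mp
      (Algebra.IsAlgebraic.isAlgebraic _)
  have hfr : Module.finrank k⟮x⟯ K = 1 := IntermediateField.finrank_eq_one_iff_eq_top.mpr h
  have hdeg : Divisor.deg (poleDiv k x) = 1 := by
    rw [deg_poleDiv_eq hK hxt, hfr]
    rfl
  obtain ⟨P, hPdeg, hpd⟩ := exists_eq_single_of_deg_eq_one hK (poleDiv_nonneg x) hdeg
  refine ⟨P, hPdeg, ?_, fun Q hQ => ?_⟩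
  · have h3 := poleDiv_apply hK x P
    rw [hpd, Finsupp.single_eq_same] at h3
    omega
  · have h3 := poleDiv_apply hK x Q
    rw [hpd, Finsupp.single_apply, if_neg (Ne.symm hQ)] at h3
    omega

theorem exists_mem_L_not_mem (hK : IsFunctionField k K) {D E : Divisor k K}
    (hlt : ell D < ell E) : ∃ x ∈ L E, x ∉ L D := by
  by_contra hall
  push Not at hall
  have hle : L E ≤ L D := hall
  haveI := finiteDimensional_L hK D
  have h3 := LinearMap.finrank_le_finrank_of_injective (Submodule.inclusion_injective hle)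
  unfold ell at hlt
  omega

theorem ord_of_mem_L_single (hK : IsFunctionField k K) {P : Place k K} {n n' : ℤ}
    (hn : n = n' + 1) {x : K} (hx : x ∈ L (Finsupp.single P n : Divisor k K))
    (hnx : x ∉ L (Finsupp.single P n' : Divisor k K)) :
    x ≠ 0 ∧ P.ord x = -n ∧ ∀ Q : Place k K, Q ≠ P → 0 ≤ Q.ord x := by
  classical
  have hx0 : x ≠ 0 := by
    rintro rfl
    exact hnx (Submodule.zero_mem _)
  rw [mem_L] at hx hnx
  push Not at hnx
  obtain ⟨Q, hQ⟩ := hnx
  have hQP : Q = P := by
    by_contra hne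
    have h1 := hx Q
    rw [Finsupp.single_apply, if_neg (Ne.symm hne)] at h1 hQ
    exact absurd h1 (not_le.mpr hQ)
  rw [hQP, Finsupp.single_eq_same] at hQ
  have h1 := hx P
  rw [Finsupp.single_eq_same] at h1
  refine ⟨hx0, ?_, fun Q' hQ' => ?_⟩
  · have h2 := (P.val_le_exp_iff hx0 n).mp h1
    have h3 : ¬ (-n' ≤ P.ord x) := fun h =>
      absurd ((P.val_le_exp_iff hx0 n').mpr h) (not_le.mpr hQ)
    omega
  · have h2 := hx Q'
    rw [Finsupp.single_apply, if_neg (Ne.symm hQ'), exp_zero] at h2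
    exact (Q'.ord_nonneg_iff hx0).mpr h2

/-- S10994. -/
theorem genus_zero_iff (hK : IsFunctionField k K) :
    (genus k K = 0 ∧ ∃ P : Place k K, P.deg = 1) ↔ ∃ x : K, k⟮x⟯ = ⊤ := by
  constructor
  · rintro ⟨hg, P, hP⟩
    have h1 := delta_le_genus hK (Finsupp.single P 1 : Divisor k K)
    rw [deg_single, hP, hg] at h1
    have h2 : ell (Finsupp.single P 0 : Divisor k K) < ell (Finsupp.single P 1 : Divisor k K) := by
      rw [Finsupp.single_zero, ell_zero hK]
      push_cast at h1
      omega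
    obtain ⟨x, hxL, hxn⟩ := exists_mem_L_not_mem hK h2
    obtain ⟨hx0, hxo, hxQ⟩ := ord_of_mem_L_single hK (n := 1) (n' := 0) (by norm_num) hxL hxn
    exact ⟨x, (adjoin_eq_top_of_simple_pole hK hP hxo hxQ).1⟩
  · rintro ⟨x, hx⟩
    obtain ⟨P, hP, hxo, hxQ⟩ := exists_simple_pole_of_adjoin_eq_top hK hx
    exact ⟨(adjoin_eq_top_of_simple_pole hK hP hxo hxQ).2, P, hP⟩

/-- S10996. -/
theorem place_eq_of_div (hK : IsFunctionField k K) (hg : 0 < genus k K) (P P' : Place k K)
    (hP' : P'.deg = 1) (x : K)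
    (h : Finsupp.single P 1 - Finsupp.single P' 1 = div k x) : P = P' := by
  classical
  by_contra hne
  have hord : ∀ Q : Place k K, Q.ord x =
      (Finsupp.single P 1 : Divisor k K) Q - (Finsupp.single P' 1 : Divisor k K) Q := fun Q => by
    rw [← div_apply hK, ← h, Finsupp.sub_apply]
  have h1 : P'.ord x = -1 := by
    rw [hord, Finsupp.single_eq_same, Finsupp.single_apply, if_neg hne]
    norm_num
  have h2 : ∀ Q : Place k K, Q ≠ P' → 0 ≤ Q.ord x := fun Q hQ => by
    rw [hord, Finsupp.single_apply, Finsupp.single_apply, if_neg (Ne.symm hQ)]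
    split_ifs <;> norm_num
  have h3 := (adjoin_eq_top_of_simple_pole hK hP' h1 h2).2
  omega

/-- S10999. -/
theorem genus_one_class (hK : IsFunctionField k K) (hg : genus k K = 1) (P₀ : Place k K)
    (hP : P₀.deg = 1) (D : Divisor k K) (hD : Divisor.deg D = 0) :
    ∃! P : Place k K, P.deg = 1 ∧
      ∃ x : K, x ≠ 0 ∧ D = Finsupp.single P 1 - Finsupp.single P₀ 1 + div k x := by
  have hdeg : Divisor.deg (D + Finsupp.single P₀ 1) = 1 := by
    rw [deg_add, hD, deg_single, hP]
    norm_num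
  have hl := ell_eq_of_deg_ge hK (D + Finsupp.single P₀ 1) (by rw [hdeg, hg]; norm_num)
  rw [hdeg, hg] at hl
  have hl1 : ell (D + Finsupp.single P₀ 1) = 1 := by
    push_cast at hl
    omega
  obtain ⟨z, hzL, hz0⟩ := exists_ne_zero_mem_L_of_ell_pos hK
    (D := D + Finsupp.single P₀ 1) (by omega)
  rw [mem_L_iff_div hK hz0] at hzL
  have hdE : Divisor.deg (div k z + (D + Finsupp.single P₀ 1)) = 1 := by
    rw [deg_add, deg_div_eq_zero hK, hdeg, zero_add]
  obtain ⟨P, hPdeg, hPE⟩ := exists_eq_single_of_deg_eq_one hK hzL hdE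
  have hzi : z⁻¹ ≠ 0 := inv_ne_zero hz0
  have e1 : D = Finsupp.single P 1 - Finsupp.single P₀ 1 + -div k z := by
    rw [← hPE]
    abel
  refine ⟨P, ⟨hPdeg, z⁻¹, hzi, ?_⟩, ?_⟩
  · rw [div_inv hK]
    exact e1
  · rintro P' ⟨hP'deg, x', hx'0, hx'⟩
    apply place_eq_of_div hK (by omega) P' P hPdeg (z⁻¹ * x'⁻¹)
    rw [div_mul hK hzi (inv_ne_zero hx'0), div_inv hK, div_inv hK]
    have e := e1.symm.trans hx'
    have h4 : Finsupp.single P' 1 - Finsupp.single P 1 - (-div k z + -div k x') =
        -((Finsupp.single P 1 - Finsupp.single P₀ 1 + -div k z) -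
          (Finsupp.single P' 1 - Finsupp.single P₀ 1 + div k x')) := by
      abel
    rw [← sub_eq_zero, h4, sub_eq_zero.mpr e, neg_zero]

end FunFld
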