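import Mathlib
import Groth.Agent.Lib.FunFldJ_helper2

/-! Function fields of one variable, part K (helper2): strong approximation, Weierstrass form. -/

open WithZero Polynomial IntermediateField

namespace FunFld

variable {k K : Type*} [Field k] [Field K] [Algebra k K]

/-- S10997: strong approximation. -/
theorem strong_approximation (hK : IsFunctionField k K) (Pinf : Place k K) (n : ℕ)
    (P : Fin n → Place k K) (hP : Function.Injective P)
    (hinf : Pinf ∉ Set.range P) (x : Fin n → K) (m : Fin n → ℤ) :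
    ∃ y : K, (∀ i, (P i).1 (y - x i) = exp (-(m i))) ∧
      ∀ Q : Place k K, Q ≠ Pinf → Q ∉ Set.range P → Q.1 y ≤ 1 := by
  classical
  obtain ⟨N, hN⟩ := exists_adele_eq hK
  have hu : ∀ i, ∃ u : K, (P i).1 u = exp (-(m i)) := fun i => by
    obtain ⟨t, ht⟩ := (P i).exists_uniformizer
    exact ⟨t ^ (m i), val_uniformizer_zpow (P i) ht (m i)⟩
  choose u hu using hu
  -- the divisor
  obtain ⟨f, hfP, hfQ⟩ : ∃ f : Place k K → ℤ, (∀ i, f (P i) = -(m i + 1)) ∧
      ∀ Q, Q ∉ Set.range P → f Q = 0 :=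
    ⟨Function.extend P (fun i => -(m i + 1)) 0, fun i => hP.extend_apply _ _ i,
      fun Q hQ => Function.extend_apply' _ _ Q hQ⟩
  have hfs : (Function.support f).Finite := by
    apply (Set.finite_range P).subset
    intro Q hQ
    by_contra hn
    exact hQ (hfQ Q hn)
  obtain ⟨D₀, hD₀⟩ : ∃ D₀ : Divisor k K, ∀ Q, D₀ Q = f Q :=
    ⟨Finsupp.ofSupportFinite f hfs, fun Q => rfl⟩
  obtain ⟨D, hD⟩ : ∃ D : Divisor k K,
      D = D₀ + Finsupp.single Pinf (((N - Divisor.deg D₀).toNat : ℕ) : ℤ) := ⟨_, rfl⟩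
  have hdegD : N ≤ Divisor.deg D := by
    rw [hD, deg_add, deg_single]
    have h1 := Place.deg_pos hK Pinf
    have h2 : (N - Divisor.deg D₀) ≤ ((N - Divisor.deg D₀).toNat : ℤ) := Int.self_le_toNat _
    have h3 : (((N - Divisor.deg D₀).toNat : ℕ) : ℤ) ≤
        (((N - Divisor.deg D₀).toNat : ℕ) : ℤ) * (Pinf.deg : ℤ) :=
      le_mul_of_one_le_right (Int.natCast_nonneg _) (by exact_mod_cast h1)
    linarith
  have hDP : ∀ i, D (P i) = -(m i + 1) := by
    intro i
    rw [hD, Finsupp.add_apply, hD₀, hfP,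
      Finsupp.single_eq_of_ne (fun h => hinf ⟨i, h⟩), add_zero]
  have hDQ : ∀ Q, Q ≠ Pinf → Q ∉ Set.range P → D Q = 0 := by
    intro Q h1 h2
    rw [hD, Finsupp.add_apply, hD₀, hfQ Q h2, Finsupp.single_eq_of_ne h1, add_zero]
  -- the adele
  obtain ⟨a, haP, haQ⟩ : ∃ a : Place k K → K, (∀ i, a (P i) = x i + u i) ∧
      ∀ Q, Q ∉ Set.range P → a Q = 0 :=
    ⟨Function.extend P (fun i => x i + u i) 0, fun i => hP.extend_apply _ _ i,
      fun Q hQ => Function.extend_apply' _ _ Q hQ⟩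
  have ha : a ∈ adele k K := by
    show ∀ᶠ Q : Place k K in Filter.cofinite, Q.1 (a Q) ≤ 1
    rw [Filter.eventually_cofinite]
    apply (Set.finite_range P).subset
    intro Q hQ
    by_contra hn
    apply hQ
    rw [haQ Q hn, map_zero]
    exact zero_le_one
  rw [hN D hdegD] at ha
  obtain ⟨b, hb, c, ⟨y, rfl⟩, hbc⟩ := Submodule.mem_sup.mp ha
  have hby : ∀ Q, b Q = a Q - y := fun Q => by
    have h3 := congrFun hbc Q
    rw [Pi.add_apply, diag_apply] at h3
    rw [← h3]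
    ring
  rw [mem_AD] at hb
  refine ⟨y, fun i => ?_, fun Q h1 h2 => ?_⟩
  · have h3 := hb (P i)
    rw [hby, haP, hDP] at h3
    have h4 : (P i).1 (x i + u i - y) < (P i).1 (u i) := by
      rw [hu]
      exact lt_of_le_of_lt h3 (by rw [exp_lt_exp]; omega)
    have h5 : y - x i = u i - (x i + u i - y) := by ring
    rw [h5, Valuation.map_sub_eq_of_lt_left _ h4, hu]
  · have h3 := hb Q
    rw [hby, haQ Q h2, hDQ Q h1 h2, zero_sub, Valuation.map_neg, exp_zero] at h3
    exact h3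

theorem eq_zero_of_sum_eq_zero_of_val {Γ₀ : Type*} [LinearOrderedCommGroupWithZero Γ₀]
    (v : Valuation K Γ₀) {ι : Type*} (s : Finset ι) (f : ι → K) (hsum : ∑ i ∈ s, f i = 0)
    (hinj : ∀ i ∈ s, ∀ j ∈ s, f i ≠ 0 → f j ≠ 0 → v (f i) = v (f j) → i = j) :
    ∀ i ∈ s, f i = 0 := by
  classical
  by_contra hne
  push Not at hne
  obtain ⟨i₀, hi₀, hfi₀⟩ := hne
  obtain ⟨j, hj, hmax⟩ := Finset.exists_max_image s (fun i => v (f i)) ⟨i₀, hi₀⟩
  have hvj : v (f j) ≠ 0 := by
    intro h0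
    have h1 := hmax i₀ hi₀
    rw [h0] at h1
    exact hfi₀ (v.zero_iff.mp (le_zero_iff.mp h1))
  have hfj : f j ≠ 0 := fun h => hvj (by rw [h, map_zero])
  have hlt : ∀ i ∈ s \ {j}, v (f i) < v (f j) := by
    intro i hi
    rw [Finset.mem_sdiff, Finset.mem_singleton] at hi
    refine lt_of_le_of_ne (hmax i hi.1) (fun heq => hi.2 ?_)
    have hfi : f i ≠ 0 := fun h => hvj (by rw [← heq, h, map_zero])
    exact hinj i hi.1 j hj hfi hfj heq
  have h2 := Valuation.map_sum_eq_of_lt v (s := s) (f := f) (j := j) hj hlt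
  rw [hsum, map_zero] at h2
  exact hvj h2.symm

theorem fin7_cases (p : Fin 7 → Prop) (h0 : p 0) (h1 : p 1) (h2 : p 2) (h3 : p 3) (h4 : p 4)
    (h5 : p 5) (h6 : p 6) : ∀ i, p i := by
  intro i
  fin_cases i <;> assumption

theorem ell_single_of_genus_one (hK : IsFunctionField k K) (hg : genus k K = 1)
    (P₀ : Place k K) (hP : P₀.deg = 1) (n : ℤ) (hn : 1 ≤ n) :
    (ell (Finsupp.single P₀ n : Divisor k K) : ℤ) = n := by
  have h := ell_eq_of_deg_ge hK (Finsupp.single P₀ n) (by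
    rw [deg_single, hP, hg]
    push_cast
    linarith)
  rw [deg_single, hP, hg] at h
  push_cast at h
  linarith

theorem L_single_mono (P₀ : Place k K) {a b : ℤ} (h : a ≤ b) :
    L (Finsupp.single P₀ a : Divisor k K) ≤ L (Finsupp.single P₀ b : Divisor k K) := by
  classical
  apply L_mono
  intro Q
  rw [Finsupp.single_apply, Finsupp.single_apply]
  split_ifs
  · exact h
  · exact le_rfl

theorem mul_mem_L_single (P₀ : Place k K) {a b : ℤ} {u v : K}
    (hu : u ∈ L (Finsupp.single P₀ a : Divisor k K))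
    (hv : v ∈ L (Finsupp.single P₀ b : Divisor k K)) :
    u * v ∈ L (Finsupp.single P₀ (a + b) : Divisor k K) := by
  rw [Finsupp.single_add]
  exact mul_mem_L hu hv

/-- S10998: Weierstrass form of a genus-one function field with a rational place. -/
theorem weierstrass (hK : IsFunctionField k K) (hg : genus k K = 1) (P₀ : Place k K)
    (hP : P₀.deg = 1) :
    ∃ x y : K, x ∈ L (Finsupp.single P₀ 2 : Divisor k K) ∧
      y ∈ L (Finsupp.single P₀ 3 : Divisor k K) ∧
      P₀.ord x = -2 ∧ P₀.ord y = -3 ∧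
      IntermediateField.adjoin k ({x, y} : Set K) = ⊤ ∧
      ∃ f g : Polynomial k, f.natDegree ≤ 1 ∧ g.natDegree = 3 ∧
        y ^ 2 + Polynomial.aeval x f * y + Polynomial.aeval x g = 0 := by
  classical
  have hl1 := ell_single_of_genus_one hK hg P₀ hP 1 le_rfl
  have hl2 := ell_single_of_genus_one hK hg P₀ hP 2 (by norm_num)
  have hl3 := ell_single_of_genus_one hK hg P₀ hP 3 (by norm_num)
  have hl6 := ell_single_of_genus_one hK hg P₀ hP 6 (by norm_num)
  obtain ⟨x, hxL, hxn⟩ := exists_mem_L_not_mem hK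
    (D := (Finsupp.single P₀ 1 : Divisor k K)) (E := Finsupp.single P₀ 2) (by omega)
  obtain ⟨y, hyL, hyn⟩ := exists_mem_L_not_mem hK
    (D := (Finsupp.single P₀ 2 : Divisor k K)) (E := Finsupp.single P₀ 3) (by omega)
  obtain ⟨hx0, hxo, hxQ⟩ := ord_of_mem_L_single hK (n := 2) (n' := 1) (by norm_num) hxL hxn
  obtain ⟨hy0, hyo, hyQ⟩ := ord_of_mem_L_single hK (n := 3) (n' := 2) (by norm_num) hyL hyn
  have hxt : Transcendental k x := transcendental_of_ord_ne_zero hK (P := P₀) (by omega)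
  have hyt : Transcendental k y := transcendental_of_ord_ne_zero hK (P := P₀) (by omega)
  have hfx : Module.finrank k⟮x⟯ K = 2 := by
    have h3 := deg_poleDiv_eq hK hxt
    rw [poleDiv_eq_single hK (by norm_num) hxo hxQ, deg_single, hP] at h3
    have h4 : (Module.finrank k⟮x⟯ K : ℤ) = 2 := by rw [← h3]; norm_num
    exact_mod_cast h4
  have hfy : Module.finrank k⟮y⟯ K = 3 := by
    have h3 := deg_poleDiv_eq hK hyt
    rw [poleDiv_eq_single hK (by norm_num) hyo hyQ, deg_single, hP] at h3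
    have h4 : (Module.finrank k⟮y⟯ K : ℤ) = 3 := by rw [← h3]; norm_num
    exact_mod_cast h4
  have hF : IntermediateField.adjoin k ({x, y} : Set K) = ⊤ := by
    rw [← IntermediateField.finrank_eq_one_iff_eq_top]
    have hxle : k⟮x⟯ ≤ IntermediateField.adjoin k ({x, y} : Set K) :=
      IntermediateField.adjoin.mono k _ _ (by simp)
    have hyle : k⟮y⟯ ≤ IntermediateField.adjoin k ({x, y} : Set K) :=
      IntermediateField.adjoin.mono k _ _ (by simp)
    have h1 := IntermediateField.relfinrank_mul_finrank_top hxle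
    have h2 := IntermediateField.relfinrank_mul_finrank_top hyle
    rw [hfx] at h1
    rw [hfy] at h2
    have d1 : Module.finrank (IntermediateField.adjoin k ({x, y} : Set K)) K ∣ 2 :=
      Dvd.intro_left _ h1
    have d2 : Module.finrank (IntermediateField.adjoin k ({x, y} : Set K)) K ∣ 3 :=
      Dvd.intro_left _ h2
    have d3 := Nat.dvd_gcd d1 d2
    have e : Nat.gcd 2 3 = 1 := by norm_num
    rw [e] at d3
    exact Nat.dvd_one.mp d3
  -- valuations
  have hv0 : P₀.1 (1 : K) = exp (0 : ℤ) := by rw [map_one, exp_zero]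
  have hv1 : P₀.1 x = exp (2 : ℤ) := by rw [P₀.val_eq_exp_neg_ord hx0, hxo]; norm_num
  have hv2 : P₀.1 y = exp (3 : ℤ) := by rw [P₀.val_eq_exp_neg_ord hy0, hyo]; norm_num
  have hv3 : P₀.1 (x ^ 2) = exp (4 : ℤ) := by
    rw [pow_two, map_mul, hv1, ← exp_add]; norm_num
  have hv4 : P₀.1 (x * y) = exp (5 : ℤ) := by
    rw [map_mul, hv1, hv2, ← exp_add]; norm_num
  have hv5 : P₀.1 (x ^ 3) = exp (6 : ℤ) := by
    rw [pow_succ, map_mul, hv3, hv1, ← exp_add]; norm_num
  have hv6 : P₀.1 (y ^ 2) = exp (6 : ℤ) := by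
    rw [pow_two, map_mul, hv2, ← exp_add]; norm_num
  -- memberships in L(6 P₀)
  have hm0 : (1 : K) ∈ L (Finsupp.single P₀ 6 : Divisor k K) := by
    apply L_single_mono P₀ (show (0 : ℤ) ≤ 6 by norm_num)
    rw [Finsupp.single_zero, L_zero_eq_one hK]
    exact Submodule.one_le.mp le_rfl
  have hm1 : x ∈ L (Finsupp.single P₀ 6 : Divisor k K) :=
    L_single_mono P₀ (by norm_num) hxL
  have hm2 : y ∈ L (Finsupp.single P₀ 6 : Divisor k K) :=
    L_single_mono P₀ (by norm_num) hyL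
  have hx2 : x ^ 2 ∈ L (Finsupp.single P₀ (2 + 2) : Divisor k K) := by
    rw [pow_two]; exact mul_mem_L_single P₀ hxL hxL
  have hm3 : x ^ 2 ∈ L (Finsupp.single P₀ 6 : Divisor k K) :=
    L_single_mono P₀ (by norm_num) hx2
  have hm4 : x * y ∈ L (Finsupp.single P₀ 6 : Divisor k K) :=
    L_single_mono P₀ (by norm_num) (mul_mem_L_single P₀ hxL hyL)
  have hm5 : x ^ 3 ∈ L (Finsupp.single P₀ 6 : Divisor k K) := by
    rw [pow_succ]
    exact L_single_mono P₀ (by norm_num) (mul_mem_L_single P₀ hx2 hxL)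
  have hm6 : y ^ 2 ∈ L (Finsupp.single P₀ 6 : Divisor k K) := by
    rw [pow_two]
    exact L_single_mono P₀ (by norm_num) (mul_mem_L_single P₀ hyL hyL)
  -- the family
  obtain ⟨w, hw0, hw1, hw2, hw3, hw4, hw5, hw6⟩ : ∃ w : Fin 7 → K, w 0 = 1 ∧ w 1 = x ∧ w 2 = y ∧
      w 3 = x ^ 2 ∧ w 4 = x * y ∧ w 5 = x ^ 3 ∧ w 6 = y ^ 2 :=
    ⟨![1, x, y, x ^ 2, x * y, x ^ 3, y ^ 2], rfl, rfl, rfl, rfl, rfl, rfl, rfl⟩
  have hwL : ∀ i, w i ∈ L (Finsupp.single P₀ 6 : Divisor k K) :=
    fin7_cases _ (by rw [hw0]; exact hm0) (by rw [hw1]; exact hm1) (by rw [hw2]; exact hm2)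
      (by rw [hw3]; exact hm3) (by rw [hw4]; exact hm4) (by rw [hw5]; exact hm5)
      (by rw [hw6]; exact hm6)
  have hwv : ∀ i, P₀.1 (w i) = exp ((![0, 2, 3, 4, 5, 6, 6] : Fin 7 → ℤ) i) :=
    fin7_cases _ (by rw [hw0]; exact hv0) (by rw [hw1]; exact hv1) (by rw [hw2]; exact hv2)
      (by rw [hw3]; exact hv3) (by rw [hw4]; exact hv4) (by rw [hw5]; exact hv5)
      (by rw [hw6]; exact hv6)
  have hw_ne : ∀ i, w i ≠ 0 := fun i h => by
    have h3 := hwv i
    rw [h, map_zero] at h3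
    exact exp_ne_zero h3.symm
  have hdep : ¬ LinearIndependent k w := by
    intro hli
    haveI := finiteDimensional_L hK (Finsupp.single P₀ 6 : Divisor k K)
    have hli' : LinearIndependent k (fun i => (⟨w i, hwL i⟩ : L (Finsupp.single P₀ 6 : Divisor k K))) :=
      LinearIndependent.of_comp (L (Finsupp.single P₀ 6 : Divisor k K)).subtype hli
    have h3 := hli'.fintype_card_le_finrank
    rw [Fintype.card_fin] at h3
    unfold ell at hl6
    omega
  obtain ⟨a, hsum, ha⟩ := Fintype.not_linearIndependent_iff.mp hdep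
  have hval : ∀ i, a i ≠ 0 →
      P₀.1 (a i • w i) = exp ((![0, 2, 3, 4, 5, 6, 6] : Fin 7 → ℤ) i) := fun i hai => by
    rw [Algebra.smul_def, map_mul, P₀.val_algebraMap hai, one_mul]
    exact hwv i
  have hterm : ∀ i, a i • w i ≠ 0 → a i ≠ 0 := fun i h hai => h (by rw [hai, zero_smul])
  have hd6 : ∀ i j : Fin 7, (![0, 2, 3, 4, 5, 6, 6] : Fin 7 → ℤ) i =
      (![0, 2, 3, 4, 5, 6, 6] : Fin 7 → ℤ) j → i ≠ 6 → j ≠ 6 → i = j := by decide
  have hd5 : ∀ i j : Fin 7, (![0, 2, 3, 4, 5, 6, 6] : Fin 7 → ℤ) i =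
      (![0, 2, 3, 4, 5, 6, 6] : Fin 7 → ℤ) j → i ≠ 5 → j ≠ 5 → i = j := by decide
  have hkey : ∀ r : Fin 7, (∀ i j : Fin 7, (![0, 2, 3, 4, 5, 6, 6] : Fin 7 → ℤ) i =
      (![0, 2, 3, 4, 5, 6, 6] : Fin 7 → ℤ) j → i ≠ r → j ≠ r → i = j) → a r ≠ 0 := by
    intro r hr har
    have hall := eq_zero_of_sum_eq_zero_of_val P₀.1 Finset.univ (fun i => a i • w i) hsum
      (fun i _ j _ hi hj hij => by
        rw [hval i (hterm i hi), hval j (hterm j hj), exp_inj] at hij
        refine hr i j hij ?_ ?_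
        · rintro rfl
          exact hterm _ hi har
        · rintro rfl
          exact hterm _ hj har)
    obtain ⟨i, hi⟩ := ha
    have h3 := hall i (Finset.mem_univ i)
    rcases smul_eq_zero.mp h3 with h4 | h4
    · exact hi h4
    · exact hw_ne i h4
  have ha6 : a 6 ≠ 0 := hkey 6 hd6
  have ha5 : a 5 ≠ 0 := hkey 5 hd5
  rw [Fin.sum_univ_seven, hw0, hw1, hw2, hw3, hw4, hw5, hw6] at hsum
  simp only [Algebra.smul_def] at hsum
  have hA6 : algebraMap k K (a 6) ≠ 0 := (_root_.map_ne_zero _).mpr ha6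
  refine ⟨x, y, hxL, hyL, hxo, hyo, hF, C (a 4 / a 6) * X + C (a 2 / a 6),
    C (a 5 / a 6) * X ^ 3 + C (a 3 / a 6) * X ^ 2 + C (a 1 / a 6) * X + C (a 0 / a 6),
    natDegree_linear_le, natDegree_cubic (div_ne_zero ha5 ha6), ?_⟩
  simp only [map_add, map_mul, map_pow, aeval_C, aeval_X, map_div₀]
  field_simp
  linear_combination hsum

end FunFld
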