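import Mathlib
import Groth.Prelude.Def_AdFn
import Groth.Agent.S10997
import Groth.Agent.S10983
import Groth.Agent.S10978

/-!
# `K_P / (O_{P} + O_P) ` has dimension the genus (lead)
-/

namespace Groth.Agent.Lib.AdFnGenusL

universe u

open FunFld AdFn

variable {k K : Type u} [Field k] [Field K] [Algebra k K]

/-- The subspace `O_{\{P\}} + O_P` of `K_P`. -/
noncomputable abbrev W (P : FunFld.Place k K) : Submodule k (AdFn.Kv P) :=
  Subalgebra.toSubmodule ((AdFn.SInt ({P} : Set (FunFld.Place k K))).map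
      (IsScalarTower.toAlgHom k K (AdFn.Kv P))) ⊔
    Submodule.span k (AdFn.Ov P : Set (AdFn.Kv P))

theorem span_Ov (P : FunFld.Place k K) :
    ∀ z ∈ Submodule.span k (AdFn.Ov P : Set (AdFn.Kv P)), z ∈ AdFn.Ov P := by
  intro z hz
  induction hz using Submodule.span_induction with
  | mem x hx => exact hx
  | zero => exact zero_mem _
  | add x y _ _ hx hy => exact add_mem hx hy
  | smul c x _ hx =>
    rw [Algebra.smul_def, IsScalarTower.algebraMap_apply k K (AdFn.Kv P) c]
    exact mul_mem ((AdFn.toKv_mem_Ov P _).2 (P.2.1 c)) hx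

theorem mem_W (P : FunFld.Place k K) (z : AdFn.Kv P) :
    z ∈ W P ↔ ∃ f ∈ AdFn.SInt ({P} : Set (FunFld.Place k K)), z - AdFn.toKv P f ∈ AdFn.Ov P := by
  constructor
  · intro hz
    obtain ⟨y, hy, o, ho, rfl⟩ := Submodule.mem_sup.mp hz
    rw [Subalgebra.mem_toSubmodule, Subalgebra.mem_map] at hy
    obtain ⟨f, hf, rfl⟩ := hy
    refine ⟨f, hf, ?_⟩
    have e : (IsScalarTower.toAlgHom k K (AdFn.Kv P)) f + o - AdFn.toKv P f = o := by
      rw [IsScalarTower.toAlgHom_apply]; exact add_sub_cancel_left _ _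
    rw [e]; exact span_Ov P o ho
  · rintro ⟨f, hf, hz⟩
    have e : z = (IsScalarTower.toAlgHom k K (AdFn.Kv P)) f + (z - AdFn.toKv P f) := by
      rw [IsScalarTower.toAlgHom_apply]; abel
    rw [e]
    exact Submodule.add_mem _
      (Submodule.mem_sup_left ((Subalgebra.mem_toSubmodule _).2
        (Subalgebra.mem_map.2 ⟨f, hf, rfl⟩)))
      (Submodule.mem_sup_right (Submodule.subset_span hz))

theorem dense (v : FunFld.Place k K) (z : AdFn.Kv v) :
    ∃ b : K, z - AdFn.toKv v b ∈ AdFn.Ov v := by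
  have hU : IsOpen {w : AdFn.Kv v | z - w ∈ AdFn.Ov v} := by
    have hc : Continuous fun w : AdFn.Kv v => z - w := continuous_const.sub continuous_id
    exact (AdFn.isOpen_Ov v).preimage hc
  have hne : ({w : AdFn.Kv v | z - w ∈ AdFn.Ov v}).Nonempty :=
    ⟨z, by simp only [Set.mem_ofPred_eq, sub_self]; exact zero_mem _⟩
  obtain ⟨x, hwU⟩ :=
    (UniformSpace.Completion.denseRange_coe (α := WithVal v.1)).exists_mem_open hU hne
  refine ⟨x.ofVal, ?_⟩
  have e : AdFn.toKv v x.ofVal = ((x : WithVal v.1) : v.1.Completion) := by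
    rw [AdFn.toKv_apply, WithVal.toVal_ofVal]
  rw [e]
  exact hwU

/-- `x ↦ [x] ∈ K_P / W`. -/
noncomputable def Xi (P : FunFld.Place k K) : K →ₗ[k] (AdFn.Kv P ⧸ W P) :=
  (W P).mkQ.comp (IsScalarTower.toAlgHom k K (AdFn.Kv P)).toLinearMap

theorem Xi_apply (P : FunFld.Place k K) (x : K) :
    Xi P x = Submodule.Quotient.mk (AdFn.toKv P x) := rfl

theorem Xi_surjective (P : FunFld.Place k K) : Function.Surjective (Xi P) := by
  intro q
  obtain ⟨z, rfl⟩ := Submodule.Quotient.mk_surjective _ q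
  obtain ⟨b, hb⟩ := dense P z
  refine ⟨b, ?_⟩
  rw [Xi_apply, Submodule.Quotient.eq]
  have h : z - AdFn.toKv P b ∈ W P := (mem_W P _).2 ⟨0, zero_mem _, by simpa using hb⟩
  have := (W P).neg_mem h
  rwa [neg_sub] at this

theorem Xi_ker (P : FunFld.Place k K) (x : K) :
    Xi P x = 0 ↔ ∃ f ∈ AdFn.SInt ({P} : Set (FunFld.Place k K)), P.1 (x - f) ≤ 1 := by
  rw [Xi_apply, Submodule.Quotient.mk_eq_zero, mem_W]
  constructor
  · rintro ⟨f, hf, h⟩
    refine ⟨f, hf, ?_⟩
    rw [← map_sub] at h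
    exact (AdFn.toKv_mem_Ov P _).1 h
  · rintro ⟨f, hf, h⟩
    refine ⟨f, hf, ?_⟩
    rw [← map_sub]
    exact (AdFn.toKv_mem_Ov P _).2 h

section theta
open Classical

theorem single_mem_adele (P : FunFld.Place k K) (x : K) :
    (Pi.single P x : FunFld.Place k K → K) ∈ FunFld.adele k K := by
  show ∀ᶠ Q : FunFld.Place k K in Filter.cofinite, Q.1 ((Pi.single P x : FunFld.Place k K → K) Q) ≤ 1
  refine Filter.eventually_cofinite.mpr ((Set.finite_singleton P).subset fun Q hQ => ?_)
  by_contra hne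
  apply hQ
  rw [Pi.single_eq_of_ne hne]
  simp

/-- `x ↦ ` the repartition with `x` at `P` and `0` elsewhere. -/
noncomputable def sigma (P : FunFld.Place k K) : K →ₗ[k] FunFld.adele k K :=
  (LinearMap.single k (fun _ : FunFld.Place k K => K) P).codRestrict (FunFld.adele k K)
    (fun x => single_mem_adele P x)

theorem sigma_apply (P : FunFld.Place k K) (x : K) :
    ((sigma P x : FunFld.adele k K) : FunFld.Place k K → K) = Pi.single P x := rfl

noncomputable def Theta (P : FunFld.Place k K) :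
    K →ₗ[k] (FunFld.adele k K ⧸ FunFld.ADK (0 : FunFld.Divisor k K)) :=
  (FunFld.ADK (0 : FunFld.Divisor k K)).mkQ.comp (sigma P)

theorem mem_AD_zero (a : FunFld.Place k K → K) :
    a ∈ FunFld.AD (0 : FunFld.Divisor k K) ↔ ∀ Q : FunFld.Place k K, Q.1 (a Q) ≤ 1 := by
  show (∀ Q : FunFld.Place k K, Q.1 (a Q) ≤ WithZero.exp ((0 : FunFld.Divisor k K) Q)) ↔ _
  simp only [Finsupp.coe_zero, Pi.zero_apply, WithZero.exp_zero]

theorem diag_apply (f : K) (Q : FunFld.Place k K) : FunFld.diag k K f Q = f := rfl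

theorem Theta_ker (P : FunFld.Place k K) (x : K) :
    Theta P x = 0 ↔ ∃ f ∈ AdFn.SInt ({P} : Set (FunFld.Place k K)), P.1 (x - f) ≤ 1 := by
  have h0 : Theta P x = 0 ↔
      (Pi.single P x : FunFld.Place k K → K) ∈
        FunFld.AD (0 : FunFld.Divisor k K) ⊔ LinearMap.range (FunFld.diag k K) := by
    show Submodule.Quotient.mk (sigma P x) = 0 ↔ _
    rw [Submodule.Quotient.mk_eq_zero]
    rfl
  rw [h0]
  constructor
  · intro h
    obtain ⟨a, ha, d, ⟨f, rfl⟩, hsum⟩ := Submodule.mem_sup.mp h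
    rw [mem_AD_zero] at ha
    refine ⟨f, ?_, ?_⟩
    · intro Q hQ
      have hQP : Q ≠ P := hQ
      have h1 := congrFun hsum Q
      rw [Pi.add_apply, diag_apply, Pi.single_eq_of_ne hQP] at h1
      have h2 : f = -a Q := by linear_combination h1
      rw [h2, Valuation.map_neg]
      exact ha Q
    · have h1 := congrFun hsum P
      rw [Pi.add_apply, diag_apply, Pi.single_eq_same] at h1
      have h2 : x - f = a P := by linear_combination -h1
      rw [h2]
      exact ha P
  · rintro ⟨f, hf, hx⟩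
    refine Submodule.mem_sup.mpr ⟨Pi.single P x - FunFld.diag k K f, ?_, FunFld.diag k K f, ⟨f, rfl⟩,
      sub_add_cancel _ _⟩
    rw [mem_AD_zero]
    intro Q
    by_cases hQP : Q = P
    · subst hQP
      rw [Pi.sub_apply, diag_apply, Pi.single_eq_same]
      exact hx
    · rw [Pi.sub_apply, diag_apply, Pi.single_eq_of_ne hQP, zero_sub, Valuation.map_neg]
      exact hf Q hQP

theorem Theta_surjective (hK : FunFld.IsFunctionField k K) (P : FunFld.Place k K) :
    Function.Surjective (Theta P) := by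
  intro q
  obtain ⟨a, rfl⟩ := Submodule.Quotient.mk_surjective _ q
  have hfin : {Q : FunFld.Place k K | ¬ Q.1 (a.1 Q) ≤ 1}.Finite := Filter.eventually_cofinite.mp a.2
  have hB : {Q : FunFld.Place k K | Q ≠ P ∧ ¬ Q.1 (a.1 Q) ≤ 1}.Finite :=
    hfin.subset fun Q hQ => hQ.2
  let e := hB.toFinset.equivFin
  obtain ⟨y, hy1, hy2⟩ := Groth.Agent.S10997.result k K hK P hB.toFinset.card
    (fun i => ((e.symm i : hB.toFinset) : FunFld.Place k K))
    (fun i j hij => e.symm.injective (Subtype.ext hij))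
    (by
      rintro ⟨i, hi⟩
      have hmem : ((e.symm i : hB.toFinset) : FunFld.Place k K) ∈ hB.toFinset := (e.symm i).2
      have hi' : ((e.symm i : hB.toFinset) : FunFld.Place k K) = P := hi
      rw [hi', Set.Finite.mem_toFinset] at hmem
      exact hmem.1 rfl)
    (fun i => a.1 ((e.symm i : hB.toFinset) : FunFld.Place k K)) (fun _ => 0)
  have hint : ∀ Q : FunFld.Place k K, Q ≠ P → Q.1 (a.1 Q - y) ≤ 1 := by
    intro Q hQP
    by_cases hQB : Q.1 (a.1 Q) ≤ 1
    · have hQr : Q ∉ Set.range (fun i => ((e.symm i : hB.toFinset) : FunFld.Place k K)) := by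
        rintro ⟨i, hi⟩
        have hmem : ((e.symm i : hB.toFinset) : FunFld.Place k K) ∈ hB.toFinset := (e.symm i).2
        have hi' : ((e.symm i : hB.toFinset) : FunFld.Place k K) = Q := hi
        rw [hi', Set.Finite.mem_toFinset] at hmem
        exact hmem.2 hQB
      exact (Q.1.map_sub _ _).trans (max_le hQB (hy2 Q hQP hQr))
    · have hQmem : Q ∈ hB.toFinset := by
        rw [Set.Finite.mem_toFinset]; exact ⟨hQP, hQB⟩
      have hi := hy1 (e ⟨Q, hQmem⟩)
      simp only [Equiv.symm_apply_apply, neg_zero, WithZero.exp_zero] at hi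
      rw [Valuation.map_sub_swap]
      exact hi.le
  refine ⟨a.1 P - y, ?_⟩
  show Submodule.Quotient.mk (sigma P (a.1 P - y)) = Submodule.Quotient.mk a
  rw [Submodule.Quotient.eq]
  show ((sigma P (a.1 P - y) - a : FunFld.adele k K) : FunFld.Place k K → K) ∈
    FunFld.AD (0 : FunFld.Divisor k K) ⊔ LinearMap.range (FunFld.diag k K)
  refine Submodule.mem_sup.mpr ⟨(Pi.single P (a.1 P - y) - a.1) + FunFld.diag k K y, ?_,
    FunFld.diag k K (-y), ⟨-y, rfl⟩, ?_⟩
  · rw [mem_AD_zero]
    intro Q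
    by_cases hQP : Q = P
    · subst hQP
      rw [Pi.add_apply, Pi.sub_apply, diag_apply, Pi.single_eq_same]
      have e0 : a.1 Q - y - a.1 Q + y = 0 := by ring
      rw [e0]; simp
    · rw [Pi.add_apply, Pi.sub_apply, diag_apply, Pi.single_eq_of_ne hQP]
      have e0 : 0 - a.1 Q + y = -(a.1 Q - y) := by ring
      rw [e0, Valuation.map_neg]
      exact hint Q hQP
  · funext Q
    simp only [Pi.add_apply, Pi.sub_apply, diag_apply, Submodule.coe_sub, sigma_apply]
    ring

end theta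

theorem main (k K : Type u) [Field k] [Field K] [Algebra k K]
    (hK : FunFld.IsFunctionField k K) (P : FunFld.Place k K) :
    FiniteDimensional k (AdFn.Kv P ⧸ W P) ∧
      Module.finrank k (AdFn.Kv P ⧸ W P) = FunFld.genus k K := by
  have hkerEq : LinearMap.ker (Theta P) = LinearMap.ker (Xi P) := by
    ext x
    rw [LinearMap.mem_ker, LinearMap.mem_ker, Theta_ker, Xi_ker]
  let e1 := (Theta P).quotKerEquivOfSurjective (Theta_surjective hK P)
  let e2 := (Xi P).quotKerEquivOfSurjective (Xi_surjective P)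
  let e3 := Submodule.quotEquivOfEq _ _ hkerEq
  let e : (FunFld.adele k K ⧸ FunFld.ADK (0 : FunFld.Divisor k K)) ≃ₗ[k] (AdFn.Kv P ⧸ W P) :=
    e1.symm.trans (e3.trans e2)
  obtain ⟨hfd, hfr⟩ := Groth.Agent.S10983.result k K hK 0
  haveI := hfd
  refine ⟨e.finiteDimensional, ?_⟩
  rw [← e.finrank_eq]
  have hell : FunFld.ell (0 : FunFld.Divisor k K) = 1 := by
    unfold FunFld.ell
    rw [Groth.Agent.S10978.result k K hK, Submodule.one_eq_span,
      finrank_span_singleton (one_ne_zero)]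
  have hdeg : (0 : FunFld.Divisor k K).deg = 0 := by simp [FunFld.Divisor.deg]
  rw [hell, hdeg] at hfr
  have h : ((Module.finrank k (↥(FunFld.adele k K) ⧸ FunFld.ADK (0 : FunFld.Divisor k K)) : ℕ) : ℤ) =
      (FunFld.genus k K : ℤ) := by
    rw [hfr]; simp
  exact_mod_cast h

end Groth.Agent.Lib.AdFnGenusL
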