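import Mathlib

/-!
# A residue identity for `K[X]/(p)` under the substitution `X ↦ X^j` (helper1)

Let `p, Pj ∈ K[X]` be monic of degree `r + 1` with `Pj(X^j) = p · q`, `A = K[X]/(p)` with root `ℓ`,
`j` a unit of `K`, `ℓ - 1` nilpotent, `u · q(ℓ) = 1`, and `ρ : A → K` the `K`-linear "residue"
(`ρ(ℓ^b) = δ_{b,r}` for `b ≤ r`).  Then `ρ(j ℓ^{j-1} u · ℓ^{jb}) = δ_{b,r}` for `b ≤ r`
(`thmX`): the residue of `K[Y]/(Pj)` transported along `Y ↦ ℓ^j`.
-/

set_option autoImplicit false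

namespace Groth.Agent.Lib.AdamsRRH1

open Polynomial

universe u

section Nil
variable {A : Type*} [CommRing A]

theorem isUnit_of_sub_mem_nilradical {g c : A} (hc : IsUnit c) (h : g - c ∈ nilradical A) :
    IsUnit g := by
  have h1 := (mem_nilradical.mp h).isUnit_add_left_of_commute hc (Commute.all _ _)
  rwa [add_sub_cancel] at h1

theorem geom_sub_mem {x y : A} (hx : x - 1 ∈ nilradical A) (hy : y - 1 ∈ nilradical A) (j : ℕ) :
    (∑ i ∈ Finset.range j, x ^ i * y ^ (j - 1 - i)) - (j : A) ∈ nilradical A := by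
  have h1 : Ideal.Quotient.mk (nilradical A) x = 1 := by
    rw [← map_one (Ideal.Quotient.mk (nilradical A))]
    exact Ideal.Quotient.eq.mpr hx
  have h2 : Ideal.Quotient.mk (nilradical A) y = 1 := by
    rw [← map_one (Ideal.Quotient.mk (nilradical A))]
    exact Ideal.Quotient.eq.mpr hy
  rw [← Ideal.Quotient.eq, map_sum, map_natCast]
  simp only [map_mul, map_pow, h1, h2, one_pow, mul_one, Finset.sum_const, Finset.card_range,
    nsmul_eq_mul]

end Nil

section Gen

/-- If `A = K[x]` with `x - 1` nilpotent and `j` a unit of `K`, then `A = K[x^j]`. -/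
theorem gen_surj {K A : Type*} [CommRing K] [CommRing A] [Algebra K A] (x : A)
    (hgen : ∀ a : A, ∃ g : K[X], aeval x g = a) (j : ℕ) (hj : IsUnit (j : K))
    (hnil : IsNilpotent (x - 1)) : ∀ a : A, ∃ F : K[X], aeval (x ^ j) F = a := by
  have hxn : x - 1 ∈ nilradical A := mem_nilradical.mpr hnil
  have h1n : (1 : A) - 1 ∈ nilradical A := by rw [sub_self]; exact zero_mem _
  have hυ : IsUnit (∑ i ∈ Finset.range j, x ^ i) := by
    have h := geom_sub_mem hxn h1n j
    simp only [one_pow, mul_one] at h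
    refine isUnit_of_sub_mem_nilradical ?_ h
    rw [← map_natCast (algebraMap K A)]
    exact hj.map _
  obtain ⟨υ', hυ'⟩ := hυ.exists_right_inv
  have hgs := geom_sum_mul x j
  have hvx : (x ^ j - 1) * υ' = x - 1 := by
    rw [← hgs, mul_right_comm, hυ', one_mul]
  have hvnil : IsNilpotent (x ^ j - 1) := by
    rw [← hgs]
    exact mem_nilradical.mp (Ideal.mul_mem_left _ _ hxn)
  obtain ⟨M, hM⟩ := hvnil
  have key : ∀ a : A, ∃ (c : K) (t : A), a = algebraMap K A c + (x ^ j - 1) * t := by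
    intro a
    obtain ⟨g, rfl⟩ := hgen a
    obtain ⟨g', hg'⟩ := X_sub_C_dvd_sub_C_eval (a := (1 : K)) (p := g)
    refine ⟨g.eval 1, υ' * aeval x g', ?_⟩
    have h2 := congrArg (aeval x) hg'
    rw [map_sub, map_mul, map_sub, aeval_C, aeval_C, aeval_X, map_one] at h2
    rw [← mul_assoc, hvx, ← h2]
    ring
  have ind : ∀ (m : ℕ) (a : A), ∃ (F : K[X]) (t : A),
      a = aeval (x ^ j) F + (x ^ j - 1) ^ m * t := by
    intro m
    induction m with
    | zero => intro a; exact ⟨0, a, by simp⟩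
    | succ m ih =>
      intro a
      obtain ⟨F, t, hF⟩ := ih a
      obtain ⟨c, t', ht'⟩ := key t
      refine ⟨F + C c * (X - 1) ^ m, t', ?_⟩
      rw [hF, ht', map_add, map_mul, map_pow, map_sub, aeval_C, aeval_X, map_one]
      ring
  intro a
  obtain ⟨F, t, hF⟩ := ind M a
  exact ⟨F, by rw [hF, hM, zero_mul, add_zero]⟩

end Gen

section ThmX
variable {K : Type u} [CommRing K] (p Pj q : K[X]) (r j : ℕ)

theorem exists_rho (hp : p.Monic) (hd : p.natDegree = r + 1) :
    ∃ ρ : AdjoinRoot p →ₗ[K] K,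
      ∀ b, b ≤ r → ρ (AdjoinRoot.root p ^ b) = if b = r then 1 else 0 := by
  have hdim : (AdjoinRoot.powerBasis' hp).dim = r + 1 := by
    rw [AdjoinRoot.powerBasis'_dim, hd]
  refine ⟨(AdjoinRoot.powerBasis' hp).basis.coord ⟨r, by omega⟩, fun b hb => ?_⟩
  have h1 : AdjoinRoot.root p ^ b = (AdjoinRoot.powerBasis' hp).basis ⟨b, by omega⟩ := by
    rw [PowerBasis.basis_eq_pow, AdjoinRoot.powerBasis'_gen]
  rw [h1, Module.Basis.coord_apply, Module.Basis.repr_self, Finsupp.single_apply]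
  simp only [Fin.mk.injEq]

/-- Polynomials of degree `≤ r` are determined by their value at `ℓ^j`. -/
theorem eq_zero_of_aeval_pow (hp : p.Monic) (hd : p.natDegree = r + 1)
    (hPj : Pj.Monic) (hPd : Pj.natDegree = r + 1)
    (hroot : aeval (AdjoinRoot.root p ^ j) Pj = 0)
    (hsurj : ∀ a : AdjoinRoot p, ∃ F : K[X], aeval (AdjoinRoot.root p ^ j) F = a)
    (F : K[X]) (hF : F.natDegree ≤ r) (h0 : aeval (AdjoinRoot.root p ^ j) F = 0) : F = 0 := by
  haveI : Module.Finite K (AdjoinRoot p) := hp.finite_adjoinRoot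
  obtain ⟨ι, hι⟩ : ∃ ι : (Fin (r + 1) → K) →ₗ[K] AdjoinRoot p, Function.Injective ι := by
    have hdim : (AdjoinRoot.powerBasis' hp).dim = r + 1 := by
      rw [AdjoinRoot.powerBasis'_dim, hd]
    exact ⟨(((AdjoinRoot.powerBasis' hp).basis.reindex (finCongr hdim)).equivFun.symm :
      (Fin (r + 1) → K) ≃ₗ[K] AdjoinRoot p).toLinearMap, LinearEquiv.injective _⟩
  obtain ⟨Ψ, hΨdef⟩ : ∃ Ψ : (Fin (r + 1) → K) →ₗ[K] AdjoinRoot p,
      ∀ c, Ψ c = ∑ i : Fin (r + 1), c i • (AdjoinRoot.root p ^ j) ^ (i : ℕ) :=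
    ⟨Fintype.linearCombination K (fun i : Fin (r + 1) => (AdjoinRoot.root p ^ j) ^ (i : ℕ)),
      fun c => Fintype.linearCombination_apply _ _ _⟩
  have hΨ : ∀ G : K[X], G.natDegree < r + 1 →
      Ψ (fun i => G.coeff i) = aeval (AdjoinRoot.root p ^ j) G := by
    intro G hG
    rw [hΨdef, aeval_eq_sum_range' hG]
    exact Fin.sum_univ_eq_sum_range (fun i => G.coeff i • (AdjoinRoot.root p ^ j) ^ i) (r + 1)
  have hΨs : Function.Surjective Ψ := by
    intro a
    obtain ⟨G, hG⟩ := hsurj a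
    have hne : Pj ≠ 1 := by
      intro h
      rw [h, natDegree_one] at hPd
      omega
    have hlt : (G %ₘ Pj).natDegree < r + 1 := by
      rw [← hPd]
      exact natDegree_modByMonic_lt G hPj hne
    refine ⟨fun i => (G %ₘ Pj).coeff i, ?_⟩
    rw [hΨ _ hlt, ← hG]
    have h3 := congrArg (aeval (AdjoinRoot.root p ^ j)) (modByMonic_add_div G Pj)
    rw [map_add, map_mul, hroot, zero_mul, add_zero] at h3
    exact h3
  have hΨi : Function.Injective Ψ :=
    OrzechProperty.injective_of_surjective_of_injective ι Ψ hι hΨs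
  have hF' : F.natDegree < r + 1 := by omega
  have h1 : Ψ (fun i => F.coeff i) = Ψ 0 := by rw [hΨ F hF', h0, map_zero]
  have h2 := hΨi h1
  ext m
  rw [coeff_zero]
  by_cases hm : m < r + 1
  · exact congrFun h2 ⟨m, hm⟩
  · exact coeff_eq_zero_of_natDegree_lt (by omega)

/-- coefficientwise application of a linear functional -/
noncomputable def cmap {A : Type*} [CommRing A] [Algebra K A] (ρ : A →ₗ[K] K) (F : A[X]) : K[X] :=
  ∑ b ∈ Finset.range (F.natDegree + 1), monomial b (ρ (F.coeff b))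

theorem coeff_cmap {A : Type*} [CommRing A] [Algebra K A] (ρ : A →ₗ[K] K) (F : A[X]) (m : ℕ) :
    (cmap ρ F).coeff m = ρ (F.coeff m) := by
  unfold cmap
  rw [finsetSum_coeff]
  simp only [coeff_monomial]
  rw [Finset.sum_ite_eq']
  split_ifs with h
  · rfl
  · rw [Finset.mem_range, not_lt] at h
    rw [coeff_eq_zero_of_natDegree_lt (by omega), map_zero]

theorem coeff_div_X_sub_C' {S : Type*} [CommRing S] (F : S[X]) (a : S) (N m : ℕ)
    (hN : F.natDegree ≤ N) :
    (F /ₘ (X - C a)).coeff m = ∑ i ∈ Finset.Icc (m + 1) N, a ^ (i - (m + 1)) * F.coeff i := by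
  rw [coeff_divByMonic_X_sub_C]
  apply Finset.sum_subset
  · intro i hi
    rw [Finset.mem_Icc] at hi ⊢
    omega
  · intro i hi hi'
    rw [Finset.mem_Icc] at hi hi'
    rw [coeff_eq_zero_of_natDegree_lt (by omega), mul_zero]

theorem rho_coeff_div (τ : AdjoinRoot p →ₗ[K] K) (F : K[X]) (a : AdjoinRoot p) (N m : ℕ)
    (hN : F.natDegree ≤ N) :
    τ (((F.map (AdjoinRoot.of p)) /ₘ (X - C a)).coeff m) =
      ∑ i ∈ Finset.Icc (m + 1) N, F.coeff i * τ (a ^ (i - (m + 1))) := by
  rw [coeff_div_X_sub_C' _ _ N m (natDegree_map_le.trans hN), map_sum]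
  apply Finset.sum_congr rfl
  intro i _
  rw [coeff_map, mul_comm (a ^ (i - (m + 1))), ← AdjoinRoot.algebraMap_eq, ← Algebra.smul_def,
    map_smul, smul_eq_mul]


local notation "𝔸" => AdjoinRoot p
local notation "rt" => AdjoinRoot.root p
local notation "ofA" => AdjoinRoot.of p

/-- The residue of `K[Y]/(Pj)` transported along `Y ↦ ℓ^j` is `j ℓ^{j-1} q(ℓ)⁻¹` times the
residue of `K[X]/(p)`. -/
theorem thmX (hp : p.Monic) (hd : p.natDegree = r + 1) (hPj : Pj.Monic)
    (hPd : Pj.natDegree = r + 1) (hj0 : 0 < j) (hPq : expand K j Pj = p * q)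
    (hj : IsUnit (j : K)) (hnil : IsNilpotent (AdjoinRoot.root p - 1))
    (u : AdjoinRoot p) (hu : u * aeval (AdjoinRoot.root p) q = 1)
    (ρ : AdjoinRoot p →ₗ[K] K)
    (hρ : ∀ b, b ≤ r → ρ (AdjoinRoot.root p ^ b) = if b = r then 1 else 0) :
    ∀ b, b ≤ r → ρ ((j : AdjoinRoot p) * AdjoinRoot.root p ^ (j - 1) * u *
      (AdjoinRoot.root p ^ j) ^ b) = if b = r then 1 else 0 := by
  obtain ⟨a0, ha0⟩ : ∃ a0 : 𝔸, a0 = (j : 𝔸) * rt ^ (j - 1) := ⟨_, rfl⟩
  obtain ⟨z, hz⟩ : ∃ z : 𝔸, z = a0 * u := ⟨_, rfl⟩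
  rw [← ha0, ← hz]
  -- roots
  have hrootp : (p.map ofA).IsRoot rt := AdjoinRoot.isRoot_root p
  have hPjroot : aeval (rt ^ j) Pj = 0 := by
    have h := congrArg (aeval rt) hPq
    rw [expand_aeval, map_mul, AdjoinRoot.aeval_eq, AdjoinRoot.mk_self, zero_mul] at h
    exact h
  have hPjroot' : (Pj.map ofA).IsRoot (rt ^ j) := by
    rw [IsRoot.def, eval_map, ← AdjoinRoot.algebraMap_eq, ← aeval_def]
    exact hPjroot
  have hsurj := gen_surj (K := K) rt (fun a => by
      obtain ⟨g, rfl⟩ := AdjoinRoot.mk_surjective a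
      exact ⟨g, AdjoinRoot.aeval_eq g⟩) j hj hnil
  -- the polynomials over `𝔸`
  obtain ⟨pA, hpA⟩ : ∃ pA : 𝔸[X], pA = p.map ofA := ⟨_, rfl⟩
  obtain ⟨p1, hp1def⟩ : ∃ p1 : 𝔸[X], p1 = (p.map ofA) /ₘ (X - C rt) := ⟨_, rfl⟩
  obtain ⟨P1, hP1def⟩ : ∃ P1 : 𝔸[X], P1 = (Pj.map ofA) /ₘ (X - C (rt ^ j)) := ⟨_, rfl⟩
  have hp1 : (X - C rt) * p1 = p.map ofA := by
    rw [hp1def]
    exact mul_divByMonic_eq_iff_isRoot.mpr hrootp
  have hP1 : (X - C (rt ^ j)) * P1 = Pj.map ofA := by
    rw [hP1def]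
    exact mul_divByMonic_eq_iff_isRoot.mpr hPjroot'
  obtain ⟨G, hGdef⟩ : ∃ G : 𝔸[X], G = ∑ i ∈ Finset.range j, X ^ i * (C rt) ^ (j - 1 - i) :=
    ⟨_, rfl⟩
  have hG : G * (X - C rt) = X ^ j - C (rt ^ j) := by
    rw [hGdef, geom_sum₂_mul, C_pow]
  have hstar : G * expand 𝔸 j P1 = p1 * q.map ofA := by
    have h1 : expand 𝔸 j (Pj.map ofA) = (p.map ofA) * (q.map ofA) := by
      rw [← map_expand, hPq, Polynomial.map_mul]
    rw [← hP1, ← hp1, map_mul, map_sub, expand_X, expand_C, ← hG] at h1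
    have h2 : (X - C rt) * (G * expand 𝔸 j P1) = (X - C rt) * (p1 * q.map ofA) := by
      linear_combination h1
    exact (monic_X_sub_C rt).isRegular.left h2
  have hGeval : eval rt G = a0 := by
    have h : ∀ i ∈ Finset.range j, eval rt (X ^ i * C rt ^ (j - 1 - i)) = rt ^ (j - 1) := by
      intro i hi
      rw [Finset.mem_range] at hi
      rw [eval_mul, eval_pow, eval_pow, eval_X, eval_C, ← pow_add]
      congr 1
      omega
    rw [hGdef, eval_finsetSum, Finset.sum_congr rfl h, Finset.sum_const, Finset.card_range,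
      nsmul_eq_mul, ha0]
  have hBroot : (C a0 * q.map ofA - C (aeval rt q) * G).IsRoot rt := by
    have hq : eval rt (q.map ofA) = aeval rt q := by
      rw [eval_map, ← AdjoinRoot.algebraMap_eq, ← aeval_def]
    rw [IsRoot.def, eval_sub, eval_mul, eval_mul, eval_C, eval_C, hq, hGeval]
    ring
  obtain ⟨B', hB'⟩ := dvd_iff_isRoot.mpr hBroot
  -- the ring `D = 𝔸[X]/(pA)`
  have hlift : p.eval₂ ((AdjoinRoot.of pA).comp ofA) (AdjoinRoot.root pA) = 0 := by
    rw [← eval₂_map, ← hpA]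
    exact AdjoinRoot.eval₂_root pA
  have hXn : AdjoinRoot.root pA - 1 ∈ nilradical (AdjoinRoot pA) := by
    have h := hnil.map
      (AdjoinRoot.lift ((AdjoinRoot.of pA).comp ofA) (AdjoinRoot.root pA) hlift)
    rw [map_sub, AdjoinRoot.lift_root, map_one] at h
    exact mem_nilradical.mpr h
  have hCn : AdjoinRoot.mk pA (C rt) - 1 ∈ nilradical (AdjoinRoot pA) := by
    have h := hnil.map (AdjoinRoot.of pA)
    rw [map_sub, map_one] at h
    rw [AdjoinRoot.mk_C]
    exact mem_nilradical.mpr h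
  have hGunit : IsUnit (AdjoinRoot.mk pA G) := by
    have h := geom_sub_mem hXn hCn j
    have hmk : AdjoinRoot.mk pA G = ∑ i ∈ Finset.range j,
        AdjoinRoot.root pA ^ i * (AdjoinRoot.mk pA (C rt)) ^ (j - 1 - i) := by
      rw [hGdef, map_sum]
      apply Finset.sum_congr rfl
      intro i _
      rw [map_mul, map_pow, map_pow, AdjoinRoot.mk_X]
    rw [hmk]
    refine isUnit_of_sub_mem_nilradical ?_ h
    have hjD : ((j : ℕ) : AdjoinRoot pA) = AdjoinRoot.of pA (ofA (j : K)) := by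
      rw [map_natCast, map_natCast]
    rw [hjD]
    exact (hj.map ofA).map (AdjoinRoot.of pA)
  have h1' := congrArg (AdjoinRoot.mk pA) hstar
  rw [map_mul, map_mul] at h1'
  have h2' : AdjoinRoot.mk pA
      (p1 * (C a0 * q.map ofA - C (aeval rt q) * G)) = 0 := by
    rw [AdjoinRoot.mk_eq_zero, hB', hpA, ← hp1]
    exact ⟨B', by ring⟩
  rw [map_mul (AdjoinRoot.mk pA) p1, map_sub, map_mul (AdjoinRoot.mk pA) (C a0),
    map_mul (AdjoinRoot.mk pA) (C (aeval rt q))] at h2'
  have h3' : AdjoinRoot.mk pA (C u) * AdjoinRoot.mk pA (C (aeval rt q)) = 1 := by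
    rw [← map_mul, ← C_mul, hu, C_1, map_one]
  have hkey : AdjoinRoot.mk pA (C z * expand 𝔸 j P1) = AdjoinRoot.mk pA p1 := by
    apply hGunit.mul_left_cancel
    rw [hz, C_mul, map_mul (AdjoinRoot.mk pA) (C a0 * C u), map_mul (AdjoinRoot.mk pA) (C a0)]
    linear_combination (AdjoinRoot.mk pA (C a0) * AdjoinRoot.mk pA (C u)) * h1'
      + AdjoinRoot.mk pA (C u) * h2' + (AdjoinRoot.mk pA p1 * AdjoinRoot.mk pA G) * h3'
  rw [AdjoinRoot.mk_eq_mk] at hkey
  obtain ⟨ν, hν⟩ := hkey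
  -- apply `ρ` coefficientwise
  have hc1 : cmap ρ p1 = 1 := by
    ext m
    rw [coeff_cmap, hp1def, rho_coeff_div p ρ p rt (r + 1) m (by omega), coeff_one]
    by_cases hm : m = 0
    · subst hm
      rw [if_pos rfl, Finset.sum_eq_single (r + 1)]
      · rw [show r + 1 - (0 + 1) = r by omega, hρ r le_rfl, if_pos rfl, mul_one, ← hd]
        exact hp.coeff_natDegree
      · intro i hi hne
        rw [Finset.mem_Icc] at hi
        rw [hρ _ (by omega), if_neg (by omega), mul_zero]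
      · intro h
        exfalso
        apply h
        rw [Finset.mem_Icc]
        omega
    · rw [if_neg hm]
      apply Finset.sum_eq_zero
      intro i hi
      rw [Finset.mem_Icc] at hi
      rw [hρ _ (by omega), if_neg (by omega), mul_zero]
  obtain ⟨E, hEdef⟩ : ∃ E : K[X], E = cmap ρ (C z * P1) := ⟨_, rfl⟩
  have hE : expand K j E - 1 = p * cmap ρ ν := by
    have h := congrArg (cmap ρ) hν
    have hL : cmap ρ (C z * expand 𝔸 j P1 - p1) = expand K j E - 1 := by
      ext m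
      rw [coeff_cmap, coeff_sub, map_sub, ← coeff_cmap ρ p1, hc1, coeff_sub, coeff_C_mul,
        coeff_expand hj0, coeff_expand hj0, hEdef]
      split_ifs with hdiv
      · rw [coeff_cmap, coeff_C_mul]
      · rw [mul_zero, map_zero]
    have hR : cmap ρ (pA * ν) = p * cmap ρ ν := by
      ext m
      rw [coeff_cmap, coeff_mul, coeff_mul, map_sum]
      apply Finset.sum_congr rfl
      intro x _
      rw [hpA, coeff_map, coeff_cmap, ← AdjoinRoot.algebraMap_eq, ← Algebra.smul_def, map_smul,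
        smul_eq_mul]
    rw [hL, hR] at h
    exact h
  have hE1 : E = 1 := by
    have h := congrArg (aeval rt) hE
    rw [map_sub, expand_aeval, map_one, map_mul, AdjoinRoot.aeval_eq, AdjoinRoot.mk_self,
      zero_mul] at h
    have hEdeg : E.natDegree ≤ r := by
      rw [natDegree_le_iff_coeff_eq_zero]
      intro N hN
      rw [hEdef, coeff_cmap, coeff_C_mul, hP1def,
        coeff_div_X_sub_C' _ _ (r + 1) N (natDegree_map_le.trans (by omega)),
        Finset.Icc_eq_empty (by omega), Finset.sum_empty, mul_zero, map_zero]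
    have h0 : aeval (rt ^ j) (E - 1) = 0 := by
      rw [map_sub, map_one]
      exact h
    have h4 := eq_zero_of_aeval_pow p Pj r j hp hd hPj hPd hPjroot hsurj (E - 1)
      ((natDegree_sub_le _ _).trans (max_le hEdeg (by simp))) h0
    exact sub_eq_zero.mp h4
  have hEc : ∀ m, ∑ i ∈ Finset.Icc (m + 1) (r + 1),
      Pj.coeff i * ρ (z * (rt ^ j) ^ (i - (m + 1))) = if m = 0 then 1 else 0 := by
    intro m
    have h := rho_coeff_div p (ρ.comp (LinearMap.mulLeft K z)) Pj (rt ^ j) (r + 1) m (by omega)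
    rw [← hP1def] at h
    simp only [LinearMap.comp_apply, LinearMap.mulLeft_apply] at h
    rw [← h, ← coeff_C_mul, ← coeff_cmap ρ, ← hEdef, hE1, coeff_one]
  intro b
  induction b using Nat.strong_induction_on with
  | _ b ih =>
    intro hb
    have h := hEc (r - b)
    rw [Finset.sum_Icc_succ_top (by omega)] at h
    have hrest : ∑ i ∈ Finset.Icc (r - b + 1) r,
        Pj.coeff i * ρ (z * (rt ^ j) ^ (i - (r - b + 1))) = 0 := by
      apply Finset.sum_eq_zero
      intro i hi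
      rw [Finset.mem_Icc] at hi
      rw [ih (i - (r - b + 1)) (by omega) (by omega), if_neg (by omega), mul_zero]
    rw [hrest, zero_add, show r + 1 - (r - b + 1) = b by omega, ← hPd, hPj.coeff_natDegree,
      one_mul] at h
    rw [h]
    by_cases hbr : b = r
    · rw [if_pos hbr, if_pos (by omega)]
    · rw [if_neg hbr, if_neg (by omega)]

end ThmX

end Groth.Agent.Lib.AdamsRRH1
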