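import Groth.Prelude.Def_LambdaSp
import Mathlib.Tactic

/-!
# Basic lemmas on pre-λ-rings (helper1)

`lamSeries` is multiplicative, values of `lam` at `0`, natural numbers, `-1`, line-like elements.
APPEND-ONLY: do not change statements of landed lemmas.
-/

universe u

open PowerSeries Finset

namespace Groth.Agent.Lib.LambdaRingH1

open LambdaRing

variable {K : Type u} [CommRing K] [LambdaOps K]

theorem coeff_lamSeries (x : K) (i : ℕ) : PowerSeries.coeff i (lamSeries x) = LambdaOps.lam i x := by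
  simp [lamSeries]

theorem constantCoeff_lamSeries (x : K) : PowerSeries.constantCoeff (lamSeries x) = 1 := by
  rw [← PowerSeries.coeff_zero_eq_constantCoeff_apply, coeff_lamSeries, LambdaOps.lam_zero]

theorem isUnit_lamSeries (x : K) : IsUnit (lamSeries x) := by
  rw [PowerSeries.isUnit_iff_constantCoeff, constantCoeff_lamSeries]
  exact isUnit_one

theorem lamSeries_add (x y : K) : lamSeries (x + y) = lamSeries x * lamSeries y := by
  ext k
  rw [coeff_lamSeries, PowerSeries.coeff_mul, LambdaOps.lam_add,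
    Finset.Nat.sum_antidiagonal_eq_sum_range_succ_mk]
  simp only [coeff_lamSeries]

theorem lamSeries_zero : lamSeries (0 : K) = 1 := by
  have h := lamSeries_add (0 : K) 0
  rw [add_zero] at h
  have hu := isUnit_lamSeries (0 : K)
  have : lamSeries (0 : K) * 1 = lamSeries (0 : K) * lamSeries (0 : K) := by rw [mul_one]; exact h
  exact (hu.mul_left_cancel this).symm

theorem lam_zero_right (k : ℕ) : LambdaOps.lam k (0 : K) = if k = 0 then 1 else 0 := by
  rw [← coeff_lamSeries, lamSeries_zero, PowerSeries.coeff_one]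

theorem lamSeries_neg_mul (x : K) : lamSeries (-x) * lamSeries x = 1 := by
  rw [← lamSeries_add, neg_add_cancel, lamSeries_zero]

theorem lamSeries_mul_neg (x : K) : lamSeries x * lamSeries (-x) = 1 := by
  rw [mul_comm, lamSeries_neg_mul]

theorem lamSeries_sub (x y : K) : lamSeries (x - y) * lamSeries y = lamSeries x := by
  rw [← lamSeries_add, sub_add_cancel]

/-- A "line-like" element: `λ^j L = 0` for `j ≥ 2`; then `λ_t(L) = 1 + L t`. -/
theorem lamSeries_of_line {L : K} (hL : ∀ j : ℕ, 2 ≤ j → LambdaOps.lam j L = 0) :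
    lamSeries L = 1 + PowerSeries.C L * PowerSeries.X := by
  ext k
  rw [coeff_lamSeries]
  rcases k with _ | _ | k
  · simp [LambdaOps.lam_zero]
  · simp [LambdaOps.lam_one, PowerSeries.coeff_one]
  · rw [hL _ (by omega)]
    simp [PowerSeries.coeff_one]

theorem lamSeries_one (h1 : ∀ k : ℕ, 2 ≤ k → LambdaOps.lam k (1 : K) = 0) :
    lamSeries (1 : K) = 1 + PowerSeries.X := by
  rw [lamSeries_of_line h1]; simp

theorem lamSeries_natCast (h1 : ∀ k : ℕ, 2 ≤ k → LambdaOps.lam k (1 : K) = 0) (m : ℕ) :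
    lamSeries ((m : ℕ) : K) = (1 + PowerSeries.X) ^ m := by
  induction m with
  | zero => simp [lamSeries_zero]
  | succ m ih => rw [Nat.cast_succ, lamSeries_add, ih, lamSeries_one h1, pow_succ]

theorem lam_natCast (h1 : ∀ k : ℕ, 2 ≤ k → LambdaOps.lam k (1 : K) = 0) (m k : ℕ) :
    LambdaOps.lam k ((m : ℕ) : K) = (m.choose k : K) := by
  rw [← coeff_lamSeries, lamSeries_natCast h1, add_comm]
  have : ((PowerSeries.X + 1 : PowerSeries K)) ^ m = (((Polynomial.X + 1) ^ m : Polynomial K) : PowerSeries K) := by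
    simp
  rw [this, Polynomial.coeff_coe, Polynomial.coeff_X_add_one_pow]

/-- `λ_t(-L) = Σ (-L)^k t^k` for line-like `L`. -/
theorem lam_neg_of_line {L : K} (hL : ∀ j : ℕ, 2 ≤ j → LambdaOps.lam j L = 0) (k : ℕ) :
    LambdaOps.lam k (-L) = (-L) ^ k := by
  have h : lamSeries (-L) * (1 + PowerSeries.C L * PowerSeries.X) = 1 := by
    rw [← lamSeries_of_line hL, lamSeries_neg_mul]
  have h2 : (PowerSeries.mk fun k => (-L) ^ k) * (1 + PowerSeries.C L * PowerSeries.X) = 1 := by
    ext n
    rw [mul_add, mul_one, map_add, ← mul_assoc, PowerSeries.coeff_one]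
    rcases n with _ | n
    · simp
    · rw [PowerSeries.coeff_succ_mul_X, PowerSeries.coeff_mul_C, PowerSeries.coeff_mk,
        PowerSeries.coeff_mk]
      simp only [Nat.succ_ne_zero, if_false]
      ring
  have hu : IsUnit (1 + PowerSeries.C L * PowerSeries.X) := by
    rw [← lamSeries_of_line hL]; exact isUnit_lamSeries L
  have := hu.mul_left_injective (h.trans h2.symm)
  rw [← coeff_lamSeries, this, PowerSeries.coeff_mk]

theorem lam_neg_one (h1 : ∀ k : ℕ, 2 ≤ k → LambdaOps.lam k (1 : K) = 0) (k : ℕ) :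
    LambdaOps.lam k (-1 : K) = (-1) ^ k :=
  lam_neg_of_line h1 k

theorem invOfUnit_lamSeries (x : K) : (lamSeries x).invOfUnit 1 = lamSeries (-x) := by
  have h1 : lamSeries x * (lamSeries x).invOfUnit 1 = 1 :=
    PowerSeries.mul_invOfUnit _ _ (by rw [constantCoeff_lamSeries]; rfl)
  have h2 : lamSeries x * lamSeries (-x) = 1 := lamSeries_mul_neg x
  exact (isUnit_lamSeries x).mul_left_cancel (h1.trans h2.symm)

theorem logDerivSeries_eq (x : K) :
    logDerivSeries x = PowerSeries.derivative K (lamSeries x) * lamSeries (-x) := by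
  rw [logDerivSeries, invOfUnit_lamSeries]

theorem logDerivSeries_add (x y : K) :
    logDerivSeries (x + y) = logDerivSeries x + logDerivSeries y := by
  rw [logDerivSeries_eq, logDerivSeries_eq, logDerivSeries_eq, lamSeries_add, Derivation.leibniz,
    neg_add, lamSeries_add]
  have hx := lamSeries_mul_neg x
  have hy := lamSeries_mul_neg y
  simp only [smul_eq_mul]
  calc (lamSeries x * (PowerSeries.derivative K) (lamSeries y) +
          lamSeries y * (PowerSeries.derivative K) (lamSeries x)) * (lamSeries (-x) * lamSeries (-y))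
      = (lamSeries x * lamSeries (-x)) * ((PowerSeries.derivative K) (lamSeries y) * lamSeries (-y)) +
        (lamSeries y * lamSeries (-y)) * ((PowerSeries.derivative K) (lamSeries x) * lamSeries (-x)) := by
        ring
    _ = _ := by rw [hx, hy]; ring

theorem adamsOp_succ (k : ℕ) (x : K) :
    adamsOp (k + 1) x = (-1) ^ k * PowerSeries.coeff k (logDerivSeries x) := rfl

theorem adamsOp_add (k : ℕ) (x y : K) : adamsOp k (x + y) = adamsOp k x + adamsOp k y := by
  rcases k with _ | k
  · simp [adamsOp]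
  · rw [adamsOp_succ, adamsOp_succ, adamsOp_succ, logDerivSeries_add, map_add, mul_add]

theorem lam_succ_add_one (h1 : ∀ k : ℕ, 2 ≤ k → LambdaOps.lam k (1 : K) = 0) (k : ℕ) (x : K) :
    LambdaOps.lam (k + 1) (x + 1) = LambdaOps.lam (k + 1) x + LambdaOps.lam k x := by
  rw [← coeff_lamSeries, lamSeries_add, lamSeries_one h1, mul_add, mul_one, map_add,
    PowerSeries.coeff_succ_mul_X, coeff_lamSeries, coeff_lamSeries]

theorem lam_sub_line {L : K} (hL : ∀ j : ℕ, 2 ≤ j → LambdaOps.lam j L = 0) (m : ℕ) (x : K) :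
    LambdaOps.lam m (x - L) = ∑ j ∈ range (m + 1), LambdaOps.lam j x * (-L) ^ (m - j) := by
  rw [sub_eq_add_neg, LambdaOps.lam_add]
  refine Finset.sum_congr rfl (fun j _ => ?_)
  rw [lam_neg_of_line hL]

/-- Telescoping: `Σ_{i ≤ d} (-1)^i λ^i(G + 1) = (-1)^d λ^d(G)`. -/
theorem sum_alternating_lam_add_one (h1 : ∀ k : ℕ, 2 ≤ k → LambdaOps.lam k (1 : K) = 0) (d : ℕ)
    (G : K) :
    ∑ i ∈ range (d + 1), (-1 : K) ^ i * LambdaOps.lam i (G + 1) = (-1) ^ d * LambdaOps.lam d G := by
  induction d with
  | zero => simp [LambdaOps.lam_zero]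
  | succ d ih =>
    rw [Finset.sum_range_succ, ih, lam_succ_add_one h1]
    ring

end Groth.Agent.Lib.LambdaRingH1
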