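import Mathlib
import Groth.Prelude.Def_KRR
import Groth.Agent.Lib.LambdaRing_helper1

/-!
# Annihilator of `1 - ℓ` in the elementary extension `K[T]/(p_c)` (helper1)
-/

set_option autoImplicit false
set_option maxHeartbeats 1000000

universe v

namespace Groth.Agent.Lib.ElemExtAnnH1

open LambdaRing Groth.Agent.Lib.LambdaRingH1 Polynomial

/-- reindexing a triangular double sum -/
theorem tri_sum {M : Type*} [AddCommMonoid M] (F : ℕ → ℕ → M) (r : ℕ) :
    ∑ i ∈ Finset.range (r + 1), ∑ s ∈ Finset.range (i + 1), F s (i - s) =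
      ∑ s ∈ Finset.range (r + 1), ∑ k ∈ Finset.range (r + 1 - s), F s k := by
  induction r with
  | zero => simp
  | succ r ih =>
    rw [Finset.sum_range_succ, ih,
      Finset.sum_range_succ (fun s => ∑ k ∈ Finset.range (r + 1 + 1 - s), F s k)]
    have h1 : ∀ s ∈ Finset.range (r + 1), ∑ k ∈ Finset.range (r + 1 + 1 - s), F s k =
        ∑ k ∈ Finset.range (r + 1 - s), F s k + F s (r + 1 - s) := by
      intro s hs
      rw [Finset.mem_range] at hs
      have : r + 1 + 1 - s = (r + 1 - s) + 1 := by omega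
      rw [this, Finset.sum_range_succ]
    rw [Finset.sum_congr rfl h1, Finset.sum_add_distrib,
      Finset.sum_range_succ (fun s => F s (r + 1 - s))]
    have h2 : r + 1 + 1 - (r + 1) = 1 := by omega
    rw [h2, Finset.sum_range_one, Nat.sub_self, add_assoc]

section generic

variable {K : Type v} [CommRing K] [Nontrivial K]

theorem degree_rest_lt (a : ℕ → K) (r : ℕ) :
    (∑ i ∈ Finset.range (r + 1), C (a (i + 1)) * X ^ (r + 1 - (i + 1)) : K[X]).degree <
      ((r + 1 : ℕ) : WithBot ℕ) := by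
  refine lt_of_le_of_lt (Polynomial.degree_sum_le _ _) ?_
  rw [Finset.sup_lt_iff (WithBot.bot_lt_coe _)]
  intro i hi
  rw [Finset.mem_range] at hi
  refine lt_of_le_of_lt (Polynomial.degree_C_mul_X_pow_le _ _) ?_
  exact_mod_cast (by omega : r + 1 - (i + 1) < r + 1)

theorem poly_split (a : ℕ → K) (ha0 : a 0 = 1) (r : ℕ) :
    (∑ i ∈ Finset.range (r + 2), C (a i) * X ^ (r + 1 - i) : K[X]) =
      X ^ (r + 1) + ∑ i ∈ Finset.range (r + 1), C (a (i + 1)) * X ^ (r + 1 - (i + 1)) := by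
  rw [Finset.sum_range_succ', ha0, C_1, one_mul, Nat.sub_zero, add_comm]

theorem poly_monic (a : ℕ → K) (ha0 : a 0 = 1) (r : ℕ) :
    (∑ i ∈ Finset.range (r + 2), C (a i) * X ^ (r + 1 - i) : K[X]).Monic := by
  rw [poly_split a ha0 r]
  exact Polynomial.monic_X_pow_add (degree_rest_lt a r)

theorem poly_natDegree (a : ℕ → K) (ha0 : a 0 = 1) (r : ℕ) :
    (∑ i ∈ Finset.range (r + 2), C (a i) * X ^ (r + 1 - i) : K[X]).natDegree = r + 1 := by
  rw [poly_split a ha0 r, Polynomial.natDegree_add_eq_left_of_degree_lt, natDegree_X_pow]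
  rw [degree_X_pow]
  exact degree_rest_lt a r

/-- the annihilator of `1 - ℓ` in `K[T]/(p)` -/
theorem ann_one_sub_root (a σ : ℕ → K) (r : ℕ) (p : K[X])
    (hpe : p = ∑ i ∈ Finset.range (r + 2), C (a i) * X ^ (r + 1 - i)) (ha0 : a 0 = 1)
    (hσ : ∀ i, i ≤ r → ∑ s ∈ Finset.range (i + 1), a s * σ (i - s) = if i = 0 then 1 else 0)
    (f : AdjoinRoot p →ₗ[K] K) (hf : ∀ i, i ≤ r → f (AdjoinRoot.root p ^ i) = σ i)
    (z : AdjoinRoot p) (hz : z * (1 - AdjoinRoot.root p) = 0) :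
    z = AdjoinRoot.of p (f z) * ∑ s ∈ Finset.range (r + 1), AdjoinRoot.of p (a s) *
      ∑ k ∈ Finset.range (r + 1 - s), AdjoinRoot.root p ^ k := by
  have hmon : p.Monic := by rw [hpe]; exact poly_monic a ha0 r
  have hdeg : p.natDegree = r + 1 := by rw [hpe]; exact poly_natDegree a ha0 r
  let G : K[X] := ∑ s ∈ Finset.range (r + 2), C (a s) * ∑ k ∈ Finset.range (r + 1 - s), X ^ k
  have he1 : p.eval 1 = ∑ s ∈ Finset.range (r + 2), a s := by
    rw [hpe, eval_finset_sum]
    refine Finset.sum_congr rfl fun s _ => ?_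
    rw [eval_mul, eval_C, eval_pow, eval_X, one_pow, mul_one]
  have hG : (X - C 1) * G = p - C (p.eval 1) := by
    rw [he1, map_sum]
    conv_rhs => rw [hpe]
    rw [← Finset.sum_sub_distrib, Finset.mul_sum]
    refine Finset.sum_congr rfl fun s _ => ?_
    rw [mul_left_comm, C_1, mul_geom_sum, mul_sub, mul_one]
  obtain ⟨q₀, rfl⟩ := AdjoinRoot.mk_surjective z
  have hzq : AdjoinRoot.mk p q₀ = AdjoinRoot.mk p (q₀ %ₘ p) := by
    rw [AdjoinRoot.mk_eq_mk]
    refine ⟨q₀ /ₘ p, ?_⟩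
    have h := Polynomial.modByMonic_add_div q₀ p
    calc q₀ - q₀ %ₘ p = (q₀ %ₘ p + p * (q₀ /ₘ p)) - q₀ %ₘ p := by rw [h]
      _ = p * (q₀ /ₘ p) := by ring
  have h0 : AdjoinRoot.mk p ((X - C 1) * (q₀ %ₘ p)) = 0 := by
    rw [map_mul, map_sub, AdjoinRoot.mk_X, C_1, map_one, ← hzq]
    have : (AdjoinRoot.root p - 1) * AdjoinRoot.mk p q₀ =
        -(AdjoinRoot.mk p q₀ * (1 - AdjoinRoot.root p)) := by ring
    rw [this, hz, neg_zero]
  have hdvd : p ∣ (X - C 1) * (q₀ %ₘ p) := AdjoinRoot.mk_eq_zero.1 h0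
  have hmod : ((X - C 1) * (q₀ %ₘ p)) %ₘ p = 0 :=
    (Polynomial.modByMonic_eq_zero_iff_dvd hmon).2 hdvd
  have hts : (X - C 1) * (q₀ %ₘ p) = p * (((X - C 1) * (q₀ %ₘ p)) /ₘ p) := by
    have := Polynomial.modByMonic_add_div ((X - C 1) * (q₀ %ₘ p)) p
    rw [hmod, zero_add] at this
    exact this.symm
  have hp1 : p ≠ 1 := by
    intro h1
    rw [h1] at hdeg
    simp at hdeg
  have hsdeg : (((X - C 1) * (q₀ %ₘ p)) /ₘ p).natDegree ≤ 0 := by
    rw [Polynomial.natDegree_divByMonic _ hmon, hdeg]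
    have h1 : ((X - C 1) * (q₀ %ₘ p)).natDegree ≤ 1 + r := by
      refine le_trans Polynomial.natDegree_mul_le ?_
      have hq : (q₀ %ₘ p).natDegree ≤ r := by
        have := Polynomial.natDegree_modByMonic_lt q₀ hmon hp1
        omega
      have hx : (X - C (1 : K)).natDegree ≤ 1 := by rw [natDegree_X_sub_C]
      omega
    omega
  obtain ⟨κ, hκ⟩ : ∃ κ, ((X - C 1) * (q₀ %ₘ p)) /ₘ p = C κ :=
    ⟨_, Polynomial.eq_C_of_natDegree_le_zero hsdeg⟩
  rw [hκ] at hts
  have hev : κ * p.eval 1 = 0 := by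
    have := congrArg (Polynomial.eval 1) hts
    simp only [eval_mul, eval_sub, eval_X, eval_C, sub_self, zero_mul] at this
    rw [mul_comm]; exact this.symm
  have hq : q₀ %ₘ p = C κ * G := by
    have h1 : (X - C 1) * (q₀ %ₘ p) = (X - C 1) * (C κ * G) := by
      rw [hts]
      symm
      calc (X - C 1) * (C κ * G) = C κ * ((X - C 1) * G) := by ring
        _ = C κ * p - C (κ * p.eval 1) := by rw [hG, mul_sub, C_mul]
        _ = p * C κ := by rw [hev, C_0, sub_zero, mul_comm]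
    exact (Polynomial.monic_X_sub_C (1 : K)).isRegular.left h1
  have hmkG : AdjoinRoot.mk p G = ∑ s ∈ Finset.range (r + 1), AdjoinRoot.of p (a s) *
      ∑ k ∈ Finset.range (r + 1 - s), AdjoinRoot.root p ^ k := by
    simp only [G, map_sum, map_mul, map_pow, AdjoinRoot.mk_C, AdjoinRoot.mk_X]
    rw [Finset.sum_range_succ]
    simp
  have hfG : f (AdjoinRoot.mk p G) = 1 := by
    rw [hmkG, map_sum]
    have h1 : ∀ s ∈ Finset.range (r + 1), f (AdjoinRoot.of p (a s) *
        ∑ k ∈ Finset.range (r + 1 - s), AdjoinRoot.root p ^ k) =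
        ∑ k ∈ Finset.range (r + 1 - s), a s * σ k := by
      intro s hs
      rw [Finset.mem_range] at hs
      rw [← AdjoinRoot.algebraMap_eq, ← Algebra.smul_def, map_smul, smul_eq_mul, map_sum,
        Finset.mul_sum]
      refine Finset.sum_congr rfl fun k hk => ?_
      rw [Finset.mem_range] at hk
      rw [hf k (by omega)]
    rw [Finset.sum_congr rfl h1, ← tri_sum (fun s k => a s * σ k) r]
    have h2 : ∀ i ∈ Finset.range (r + 1), ∑ s ∈ Finset.range (i + 1), a s * σ (i - s) =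
        if i = 0 then 1 else 0 := by
      intro i hi
      rw [Finset.mem_range] at hi
      exact hσ i (by omega)
    rw [Finset.sum_congr rfl h2, Finset.sum_ite_eq' (Finset.range (r + 1)) 0 (fun _ => (1 : K))]
    simp
  have hzG : AdjoinRoot.mk p q₀ = AdjoinRoot.of p κ * AdjoinRoot.mk p G := by
    rw [hzq, hq, map_mul, AdjoinRoot.mk_C]
  have hfz : f (AdjoinRoot.mk p q₀) = κ := by
    rw [hzG, ← AdjoinRoot.algebraMap_eq, ← Algebra.smul_def, map_smul, smul_eq_mul, hfG, mul_one]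
  rw [hfz, ← hmkG]
  exact hzG

end generic

/-- S3802 -/
theorem main3802 (K : Type v) [CommRing K] [LambdaOps K] (P : PosStructure K) (c : K) (r : ℕ)
    (hr : P.aug c = r + 1)
    (inst : LambdaOps (AdjoinRoot (KRR.extPoly P c))) (Pc : @PosStructure _ _ inst)
    (hext : @IsExtension K _ _ _ _ inst P Pc (AdjoinRoot.of (KRR.extPoly P c)))
    (hroot : ∀ i : ℕ, 2 ≤ i →
      @LambdaOps.lam _ _ inst i (AdjoinRoot.root (KRR.extPoly P c)) = 0)
    (hline : @PosStructure.IsLine _ _ inst Pc (AdjoinRoot.root (KRR.extPoly P c)))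
    (f : AdjoinRoot (KRR.extPoly P c) →ₗ[K] K)
    (hf : ∀ i : ℕ, i ≤ r → f (AdjoinRoot.root (KRR.extPoly P c) ^ i) = KRR.sigma i c)
    (z : AdjoinRoot (KRR.extPoly P c))
    (hz : z * (1 - AdjoinRoot.root (KRR.extPoly P c)) = 0) :
    z = AdjoinRoot.of (KRR.extPoly P c) (f z) *
      @KRR.lamAlt _ _ inst Pc
        (AdjoinRoot.of (KRR.extPoly P c) c - AdjoinRoot.root (KRR.extPoly P c)) := by
  letI := inst
  haveI : Nontrivial K := RingHom.domain_nontrivial P.aug
  have htn : (P.aug c).toNat = r + 1 := by rw [hr]; omega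
  have hpe : KRR.extPoly P c = ∑ i ∈ Finset.range (r + 2),
      C ((-1 : K) ^ i * LambdaOps.lam i c) * X ^ (r + 1 - i) := by
    unfold KRR.extPoly
    rw [htn]
  have ha0 : (-1 : K) ^ 0 * LambdaOps.lam 0 c = 1 := by
    rw [pow_zero, one_mul, LambdaOps.lam_zero]
  have hone : PowerSeries.rescale (-1 : K) (lamSeries c) * KRR.sigmaSeries c = 1 := by
    unfold KRR.sigmaSeries
    apply PowerSeries.mul_invOfUnit
    rw [← PowerSeries.coeff_zero_eq_constantCoeff_apply, PowerSeries.coeff_rescale, pow_zero,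
      one_mul, coeff_lamSeries, LambdaOps.lam_zero, Units.val_one]
  have hσ : ∀ i, i ≤ r → ∑ s ∈ Finset.range (i + 1),
      ((-1 : K) ^ s * LambdaOps.lam s c) * KRR.sigma (i - s) c = if i = 0 then 1 else 0 := by
    intro i _
    have h1 := congrArg (PowerSeries.coeff i) hone
    rw [PowerSeries.coeff_mul, Finset.Nat.sum_antidiagonal_eq_sum_range_succ_mk,
      PowerSeries.coeff_one] at h1
    rw [← h1]
    refine Finset.sum_congr rfl fun s _ => ?_
    rw [PowerSeries.coeff_rescale, coeff_lamSeries]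
    rfl
  have key := ann_one_sub_root (fun s => (-1 : K) ^ s * LambdaOps.lam s c)
    (fun k => KRR.sigma k c) r (KRR.extPoly P c) hpe ha0 hσ f hf z hz
  refine key.trans ?_
  congr 1
  -- identify `lamAlt`
  have haug : Pc.aug (AdjoinRoot.of (KRR.extPoly P c) c - AdjoinRoot.root (KRR.extPoly P c)) =
      (r : ℤ) := by
    rw [map_sub, hext.aug_comp, hline.2, hr]; ring
  unfold KRR.lamAlt
  rw [haug, Int.toNat_natCast]
  have hterm : ∀ i ∈ Finset.range (r + 1),
      (-1 : AdjoinRoot (KRR.extPoly P c)) ^ i * LambdaOps.lam i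
        (AdjoinRoot.of (KRR.extPoly P c) c - AdjoinRoot.root (KRR.extPoly P c)) =
      ∑ s ∈ Finset.range (i + 1),
        AdjoinRoot.of (KRR.extPoly P c) ((-1 : K) ^ s * LambdaOps.lam s c) *
          AdjoinRoot.root (KRR.extPoly P c) ^ (i - s) := by
    intro i _
    rw [lam_sub_line hroot i, Finset.mul_sum]
    refine Finset.sum_congr rfl fun s hs => ?_
    rw [Finset.mem_range] at hs
    rw [← hext.isLambdaHom s c, map_mul, map_pow, map_neg, map_one, neg_pow (AdjoinRoot.root _)]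
    have h2 : ((-1 : AdjoinRoot (KRR.extPoly P c)) ^ (i - s)) * ((-1) ^ (i - s)) = 1 := by
      rw [← mul_pow]; simp
    have h3 : (-1 : AdjoinRoot (KRR.extPoly P c)) ^ i = (-1) ^ s * (-1) ^ (i - s) := by
      rw [← pow_add]; congr 1; omega
    rw [h3]
    linear_combination ((-1 : AdjoinRoot (KRR.extPoly P c)) ^ s *
      AdjoinRoot.of (KRR.extPoly P c) (LambdaOps.lam s c) *
      AdjoinRoot.root (KRR.extPoly P c) ^ (i - s)) * h2
  rw [Finset.sum_congr rfl hterm,
    tri_sum (fun s k => AdjoinRoot.of (KRR.extPoly P c) ((-1 : K) ^ s * LambdaOps.lam s c) *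
      AdjoinRoot.root (KRR.extPoly P c) ^ k) r]
  refine Finset.sum_congr rfl fun s _ => ?_
  rw [Finset.mul_sum]

end Groth.Agent.Lib.ElemExtAnnH1
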