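import Mathlib
import Groth.Agent.Lib.ElemExtAnn_helper1

/-!
# Power series lemmas for the elementary extension (helper1)

`PolyTop F d c`: the power series `F` is a polynomial of degree `≤ d` with coefficient `c` at `X^d`;
division by a linear factor; splitting a polynomial-like power series into linear factors in an
extension ring; coefficientwise ideal membership.
-/

set_option autoImplicit false
set_option maxHeartbeats 1000000

universe u

namespace Groth.Agent.Lib.ElemExtPSH1

open PowerSeries

section polytop
variable {R : Type*} [CommRing R]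

/-- `F` is a polynomial of degree `≤ d` whose coefficient of `X^d` is `c`. -/
def PolyTop (F : R⟦X⟧) (d : ℕ) (c : R) : Prop :=
  (∀ i, d < i → coeff i F = 0) ∧ coeff d F = c

theorem PolyTop.mul {F G : R⟦X⟧} {d d' : ℕ} {c c' : R} (hF : PolyTop F d c)
    (hG : PolyTop G d' c') : PolyTop (F * G) (d + d') (c * c') := by
  constructor
  · intro n hn
    rw [coeff_mul]
    apply Finset.sum_eq_zero
    intro ij hij
    rw [Finset.HasAntidiagonal.mem_antidiagonal] at hij
    by_cases h : d < ij.1
    · rw [hF.1 _ h, zero_mul]
    · rw [hG.1 _ (by omega), mul_zero]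
  · rw [coeff_mul, Finset.sum_eq_single (d, d')]
    · rw [hF.2, hG.2]
    · intro ij hij hne
      rw [Finset.HasAntidiagonal.mem_antidiagonal] at hij
      by_cases h : d < ij.1
      · rw [hF.1 _ h, zero_mul]
      · have : d' < ij.2 := by
          by_contra h'
          exact hne (Prod.ext (show ij.1 = d by omega) (show ij.2 = d' by omega))
        rw [hG.1 _ this, mul_zero]
    · intro h
      exact absurd (Finset.HasAntidiagonal.mem_antidiagonal.mpr (rfl : (d, d').1 + (d, d').2 = d + d')) h

theorem PolyTop.rescale {F : R⟦X⟧} {d : ℕ} {c : R} (hF : PolyTop F d c) (a : R) :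
    PolyTop (PowerSeries.rescale a F) d (a ^ d * c) := by
  constructor
  · intro i hi
    rw [coeff_rescale, hF.1 i hi, mul_zero]
  · rw [coeff_rescale, hF.2]

theorem PolyTop.map {R' : Type*} [CommRing R'] (h : R →+* R') {F : R⟦X⟧} {d : ℕ} {c : R}
    (hF : PolyTop F d c) : PolyTop (PowerSeries.map h F) d (h c) := by
  constructor
  · intro i hi
    rw [coeff_map, hF.1 i hi, map_zero]
  · rw [coeff_map, hF.2]

theorem PolyTop.of_map {R' : Type*} [CommRing R'] (h : R →+* R') (hinj : Function.Injective h)
    {F : R⟦X⟧} {d : ℕ} {c : R} (hF : PolyTop (PowerSeries.map h F) d (h c)) :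
    PolyTop F d c := by
  constructor
  · intro i hi
    apply hinj
    rw [← coeff_map, hF.1 i hi, map_zero]
  · apply hinj
    rw [← coeff_map, hF.2]

theorem PolyTop.congr {F : R⟦X⟧} {d d' : ℕ} {c c' : R} (hF : PolyTop F d c) (hd : d = d')
    (hc : c = c') : PolyTop F d' c' := by
  subst hd; subst hc; exact hF

theorem polyTop_one : PolyTop (1 : R⟦X⟧) 0 1 :=
  ⟨fun i hi => by rw [coeff_one, if_neg (by omega)], by rw [coeff_one, if_pos rfl]⟩

theorem polyTop_one_add_X : PolyTop (1 + X : R⟦X⟧) 1 1 := by
  constructor
  · intro i hi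
    rw [map_add, coeff_one, coeff_X, if_neg (by omega), if_neg (by omega), add_zero]
  · rw [map_add, coeff_one, coeff_X, if_neg (by omega), if_pos rfl, zero_add]

theorem rescale_one_add_X (w : R) : PowerSeries.rescale w (1 + X : R⟦X⟧) = 1 + C w * X := by
  rw [map_add, map_one, rescale_X]

theorem rescale_linear (a w : R) :
    PowerSeries.rescale a (1 + C w * X : R⟦X⟧) = 1 + C (w * a) * X := by
  rw [← rescale_one_add_X, rescale_rescale, rescale_one_add_X]

theorem polyTop_prod_rescale {G : R⟦X⟧} {d : ℕ} {c : R} (hG : PolyTop G d c) (W : Multiset R) :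
    PolyTop (W.map (fun w => PowerSeries.rescale w G)).prod (Multiset.card W * d)
      (W.prod ^ d * c ^ Multiset.card W) := by
  induction W using Multiset.induction_on with
  | empty =>
    simp only [Multiset.map_zero, Multiset.prod_zero, Multiset.card_zero, zero_mul, one_pow,
      pow_zero, mul_one]
    exact polyTop_one
  | cons w W ih =>
    rw [Multiset.map_cons, Multiset.prod_cons, Multiset.prod_cons, Multiset.card_cons]
    exact ((hG.rescale w).mul ih).congr (by ring) (by ring)

theorem polyTop_prod_linear (W : Multiset R) :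
    PolyTop (W.map (fun w => (1 + C w * X : R⟦X⟧))).prod (Multiset.card W) W.prod := by
  have := polyTop_prod_rescale (polyTop_one_add_X (R := R)) W
  simp only [rescale_one_add_X, mul_one, pow_one, one_pow] at this
  exact this

theorem constantCoeff_rescale (a : R) (F : R⟦X⟧) :
    constantCoeff (PowerSeries.rescale a F) = constantCoeff F := by
  rw [← coeff_zero_eq_constantCoeff_apply, coeff_rescale, pow_zero, one_mul,
    coeff_zero_eq_constantCoeff_apply]

theorem map_injective' {R' : Type*} [CommRing R'] (h : R →+* R') (hinj : Function.Injective h) :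
    Function.Injective (PowerSeries.map h) := by
  intro F G hFG
  ext n
  apply hinj
  rw [← coeff_map, ← coeff_map, hFG]

theorem map_map' {R' R'' : Type*} [CommRing R'] [CommRing R''] (h : R →+* R') (h' : R' →+* R'')
    (F : R⟦X⟧) : PowerSeries.map h' (PowerSeries.map h F) = PowerSeries.map (h'.comp h) F := by
  ext n
  simp [coeff_map]

/-- all coefficients lie in the ideal `J` -/
def CoefIn (J : Ideal R) (F : R⟦X⟧) : Prop := ∀ n, coeff n F ∈ J

theorem CoefIn.mul_right {J : Ideal R} {F : R⟦X⟧} (h : CoefIn J F) (G : R⟦X⟧) :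
    CoefIn J (F * G) := by
  intro n
  rw [coeff_mul]
  exact J.sum_mem (fun ij _ => J.mul_mem_right _ (h _))

theorem coefIn_rescale_sub {J : Ideal R} {F : R⟦X⟧} (h : CoefIn J (F - 1)) (a b : R) :
    CoefIn (J * Ideal.span {a - b}) (PowerSeries.rescale a F - PowerSeries.rescale b F) := by
  intro n
  rw [map_sub, coeff_rescale, coeff_rescale, ← sub_mul]
  rcases n with _ | n
  · simp
  · have h1 : coeff (n + 1) F ∈ J := by
      have := h (n + 1)
      rwa [map_sub, coeff_one, if_neg (by omega), sub_zero] at this
    have h2 : a ^ (n + 1) - b ^ (n + 1) ∈ Ideal.span {a - b} :=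
      Ideal.mem_span_singleton.mpr (sub_dvd_pow_sub_pow a b (n + 1))
    rw [mul_comm (a ^ (n + 1) - b ^ (n + 1))]
    exact Ideal.mul_mem_mul h1 h2

/-- division of a polynomial-like power series by a linear factor `1 + w X`, where `-w` is a root
of the reversed polynomial -/
theorem div_linear {F F' : R⟦X⟧} {d : ℕ} (w : R) (hF : ∀ i, d + 1 < i → coeff i F = 0)
    (hroot : ∑ i ∈ Finset.range (d + 2), coeff i F * (-w) ^ (d + 1 - i) = 0)
    (hmul : (1 + C w * X) * F' = F) :
    (∀ k, d < k → coeff k F' = 0) ∧ w * coeff d F' = coeff (d + 1) F := by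
  have hrec : ∀ k, coeff (k + 1) F = coeff (k + 1) F' + w * coeff k F' := by
    intro k
    rw [← hmul, add_mul, one_mul, map_add, mul_assoc, coeff_C_mul, coeff_succ_X_mul]
  have h0 : coeff 0 F = coeff 0 F' := by
    rw [← hmul, add_mul, one_mul, map_add, mul_assoc, coeff_C_mul, coeff_zero_X_mul, mul_zero,
      add_zero]
  have hform : ∀ k, coeff k F' = ∑ i ∈ Finset.range (k + 1), coeff i F * (-w) ^ (k - i) := by
    intro k
    induction k with
    | zero => simp [h0]
    | succ k ih =>
      have h1 : coeff (k + 1) F' = coeff (k + 1) F - w * coeff k F' := by rw [hrec k]; ring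
      rw [h1, ih, Finset.sum_range_succ _ (k + 1), Nat.sub_self, pow_zero, mul_one, Finset.mul_sum]
      have : ∀ i ∈ Finset.range (k + 1), coeff i F * (-w) ^ (k + 1 - i) =
          -(w * (coeff i F * (-w) ^ (k - i))) := by
        intro i hi
        rw [Finset.mem_range] at hi
        rw [show k + 1 - i = (k - i) + 1 by omega, pow_succ]
        ring
      rw [Finset.sum_congr rfl this, Finset.sum_neg_distrib]
      ring
  have hvan : ∀ k, d < k → coeff k F' = 0 := by
    intro k hk
    rw [hform k]
    have hsub : Finset.range (d + 2) ⊆ Finset.range (k + 1) := Finset.range_mono (by omega)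
    rw [← Finset.sum_subset hsub]
    · have : ∀ i ∈ Finset.range (d + 2), coeff i F * (-w) ^ (k - i) =
          (-w) ^ (k - (d + 1)) * (coeff i F * (-w) ^ (d + 1 - i)) := by
        intro i hi
        rw [Finset.mem_range] at hi
        rw [show k - i = (k - (d + 1)) + (d + 1 - i) by omega, pow_add]
        ring
      rw [Finset.sum_congr rfl this, ← Finset.mul_sum, hroot, mul_zero]
    · intro i _ hi
      rw [Finset.mem_range] at hi
      rw [hF i (by omega), zero_mul]
  refine ⟨hvan, ?_⟩
  have := hrec d
  rw [hvan (d + 1) (by omega), zero_add] at this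
  exact this.symm

theorem of_injective_of_monic {g : Polynomial R} (hg : g.Monic) (hd : 0 < g.natDegree) :
    Function.Injective (AdjoinRoot.of g) := by
  rw [injective_iff_map_eq_zero]
  intro x hx
  rw [← AdjoinRoot.mk_C x, AdjoinRoot.mk_eq_zero] at hx
  by_contra hne
  have hC : (Polynomial.C x) ≠ 0 := by rwa [Ne, Polynomial.C_eq_zero]
  exact hg.not_dvd_of_natDegree_lt hC (by rw [Polynomial.natDegree_C]; exact hd) hx

end polytop

/-- a polynomial-like power series with constant coefficient `1` splits into linear factors in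
some extension ring -/
theorem exists_split_series : ∀ (d : ℕ) (R : Type u) [CommRing R] (F : R⟦X⟧) (c : R),
    PolyTop F d c → constantCoeff F = 1 →
    ∃ (R' : Type u) (_ : CommRing R') (h : R →+* R') (W : Multiset R'),
      Function.Injective h ∧
      PowerSeries.map h F = (W.map (fun w => (1 + C w * X : R'⟦X⟧))).prod ∧
      Multiset.card W = d ∧ W.prod = h c := by
  intro d
  induction d with
  | zero =>
    intro R _ F c hF h0
    refine ⟨R, inferInstance, RingHom.id R, 0, Function.injective_id, ?_, rfl, ?_⟩
    · have : F = 1 := by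
        ext n
        rcases n with _ | n
        · rw [coeff_zero_eq_constantCoeff_apply, h0]; simp
        · rw [hF.1 (n + 1) (by omega), coeff_one, if_neg (by omega)]
      rw [this]; simp
    · have := hF.2
      rw [coeff_zero_eq_constantCoeff_apply, h0] at this
      simp [← this]
  | succ d ih =>
    intro R _ F c hF h0
    rcases subsingleton_or_nontrivial R with hsub | hnon
    · refine ⟨R, inferInstance, RingHom.id R, Multiset.replicate (d + 1) 0, Function.injective_id,
        ?_, by simp, Subsingleton.elim _ _⟩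
      ext n
      exact Subsingleton.elim _ _
    have ha0 : coeff 0 F = 1 := by rw [coeff_zero_eq_constantCoeff_apply, h0]
    have hmonic : (∑ i ∈ Finset.range (d + 2),
        Polynomial.C (coeff i F) * Polynomial.X ^ (d + 1 - i) : Polynomial R).Monic :=
      ElemExtAnnH1.poly_monic (fun i => coeff i F) ha0 d
    have hdeg : (∑ i ∈ Finset.range (d + 2),
        Polynomial.C (coeff i F) * Polynomial.X ^ (d + 1 - i) : Polynomial R).natDegree = d + 1 :=
      ElemExtAnnH1.poly_natDegree (fun i => coeff i F) ha0 d
    obtain ⟨M, hM⟩ : ∃ M : Polynomial R, M = ∑ i ∈ Finset.range (d + 2),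
        Polynomial.C (coeff i F) * Polynomial.X ^ (d + 1 - i) := ⟨_, rfl⟩
    rw [← hM] at hmonic hdeg
    have h₁inj : Function.Injective (AdjoinRoot.of M) :=
      of_injective_of_monic hmonic (by omega)
    have hroot : ∑ i ∈ Finset.range (d + 2),
        (AdjoinRoot.of M) (coeff i F) * (AdjoinRoot.root M) ^ (d + 1 - i) = 0 := by
      have h2 : Polynomial.eval₂ (AdjoinRoot.of M) (AdjoinRoot.root M)
          (∑ i ∈ Finset.range (d + 2),
            Polynomial.C (coeff i F) * Polynomial.X ^ (d + 1 - i)) = 0 := by
        rw [← hM]; exact AdjoinRoot.eval₂_root M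
      rw [Polynomial.eval₂_finsetSum] at h2
      rw [← h2]
      apply Finset.sum_congr rfl
      intro i _
      rw [Polynomial.eval₂_mul, Polynomial.eval₂_C, Polynomial.eval₂_pow, Polynomial.eval₂_X]
    have hU : IsUnit (1 + C (-(AdjoinRoot.root M)) * X : (AdjoinRoot M)⟦X⟧) := by
      rw [isUnit_iff_constantCoeff]; simp
    obtain ⟨F₁', hF₁'⟩ : ∃ F₁' : (AdjoinRoot M)⟦X⟧,
        F₁' = PowerSeries.map (AdjoinRoot.of M) F * ↑hU.unit⁻¹ := ⟨_, rfl⟩
    have hmul : (1 + C (-(AdjoinRoot.root M)) * X) * F₁' = PowerSeries.map (AdjoinRoot.of M) F := by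
      rw [hF₁', mul_comm, mul_assoc, IsUnit.val_inv_mul, mul_one]
    have hdiv := div_linear (F := PowerSeries.map (AdjoinRoot.of M) F) (F' := F₁') (d := d)
      (-(AdjoinRoot.root M))
      (by intro i hi; rw [coeff_map, hF.1 i hi, map_zero])
      (by
        rw [← hroot]
        apply Finset.sum_congr rfl
        intro i _
        rw [coeff_map, neg_neg])
      hmul
    have h0' : constantCoeff F₁' = 1 := by
      have := congrArg constantCoeff hmul
      rw [map_mul, map_add, map_one, map_mul, constantCoeff_X, mul_zero, add_zero, one_mul,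
        ← coeff_zero_eq_constantCoeff_apply, ← coeff_zero_eq_constantCoeff_apply (PowerSeries.map _ F),
        coeff_map, ha0, map_one] at this
      rw [← coeff_zero_eq_constantCoeff_apply, this]
    obtain ⟨R', instR', h', W', hinj', hmap', hcard', hprod'⟩ :=
      ih (AdjoinRoot M) F₁' (coeff d F₁') ⟨hdiv.1, rfl⟩ h0'
    refine ⟨R', instR', h'.comp (AdjoinRoot.of M), h' (-(AdjoinRoot.root M)) ::ₘ W',
      hinj'.comp h₁inj, ?_, ?_, ?_⟩
    · rw [← map_map', ← hmul, map_mul, hmap', Multiset.map_cons, Multiset.prod_cons, map_add,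
        map_one, map_mul, map_C, map_X]
    · rw [Multiset.card_cons, hcard']
    · rw [Multiset.prod_cons, hprod', ← map_mul, hdiv.2, coeff_map, hF.2, RingHom.comp_apply]

end Groth.Agent.Lib.ElemExtPSH1
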