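import Groth.Agent.Lib.LambdaAdams_helper1
import Groth.Agent.S3287
import Mathlib

/-!
# Adams operations of a λ-ring with positive structure and the splitting principle (helper1)

APPEND-ONLY: do not change statements of landed lemmas.
-/

universe u

open PowerSeries Finset

namespace Groth.Agent.Lib.LambdaSplitH1

open LambdaRing Groth.Agent.Lib.LambdaRingH1 Groth.Agent.Lib.LambdaAdamsH1

section bridge

theorem derivative_rescale {K : Type u} [CommRing K] (a : K) (s : PowerSeries K) :
    PowerSeries.derivative K (PowerSeries.rescale a s) =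
      PowerSeries.C a * PowerSeries.rescale a (PowerSeries.derivative K s) := by
  ext n
  rw [PowerSeries.coeff_derivative, PowerSeries.coeff_rescale, PowerSeries.coeff_C_mul,
    PowerSeries.coeff_rescale, PowerSeries.coeff_derivative, pow_succ]
  ring

theorem rescale_invOfUnit {K : Type u} [CommRing K] (a : K) (s : PowerSeries K)
    (hs : PowerSeries.constantCoeff s = 1) :
    (PowerSeries.rescale a s).invOfUnit 1 = PowerSeries.rescale a (s.invOfUnit 1) := by
  have h1 : s * s.invOfUnit 1 = 1 := PowerSeries.mul_invOfUnit _ _ (by rw [hs]; rfl)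
  have hc : PowerSeries.constantCoeff (PowerSeries.rescale a s) = ((1 : Kˣ) : K) := by
    rw [← PowerSeries.coeff_zero_eq_constantCoeff_apply, PowerSeries.coeff_rescale]
    simp [hs]
  have h2 : PowerSeries.rescale a s * (PowerSeries.rescale a s).invOfUnit 1 = 1 :=
    PowerSeries.mul_invOfUnit _ _ hc
  have h3 : PowerSeries.rescale a s * PowerSeries.rescale a (s.invOfUnit 1) = 1 := by
    rw [← map_mul, h1, map_one]
  have hu : IsUnit (PowerSeries.rescale a s) := IsUnit.of_mul_eq_one _ h3
  exact hu.mul_left_cancel (h2.trans h3.symm)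

variable {K : Type u} [CommRing K] [LambdaOps K] (P : PosStructure K)

theorem adamsSeries_eq (x : K) :
    adamsSeries P x = PowerSeries.C (P.aug x : K) +
      PowerSeries.X * PowerSeries.rescale (-1 : K) (logDerivSeries x) := by
  unfold adamsSeries logDerivSeries
  rw [derivative_rescale, rescale_invOfUnit _ _ (constantCoeff_lamSeries x), map_mul, map_neg,
    map_one]
  ring

theorem adams_zero (x : K) : adams P 0 x = (P.aug x : K) := by
  unfold adams
  rw [adamsSeries_eq, map_add]
  simp

theorem adams_succ (k : ℕ) (x : K) : adams P (k + 1) x = adamsOp (k + 1) x := by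
  unfold adams
  rw [adamsSeries_eq, map_add, PowerSeries.coeff_succ_X_mul, PowerSeries.coeff_rescale,
    PowerSeries.coeff_C, if_neg (by omega), zero_add, adamsOp_succ]

theorem adams_add (j : ℕ) (x y : K) : adams P j (x + y) = adams P j x + adams P j y := by
  rcases j with _ | k
  · simp [adams_zero]
  · rw [adams_succ, adams_succ, adams_succ, adamsOp_add]

theorem adams_ext {K' : Type u} [CommRing K'] [LambdaOps K'] (P' : PosStructure K')
    (f : K →+* K') (hf : IsExtension P P' f) (j : ℕ) (x : K) :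
    f (adams P j x) = adams P' j (f x) := by
  rcases j with _ | k
  · rw [adams_zero, adams_zero, map_intCast, hf.aug_comp]
  · rw [adams_succ, adams_succ]
    exact adams_comm_of_lambdaHom f hf.isLambdaHom (k + 1) (by omega) x

/-- `ψ^j` as an additive map -/
noncomputable def adamsHom (j : ℕ) : K →+ K where
  toFun := adams P j
  map_zero' := by
    have := adams_add P j 0 0
    rw [add_zero] at this
    exact left_eq_add.mp this
  map_add' := adams_add P j

theorem adamsHom_apply (j : ℕ) (x : K) : adamsHom P j x = adams P j x := rfl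

theorem adams_zero_arg (j : ℕ) : adams P j 0 = 0 := (adamsHom P j).map_zero

theorem adams_neg (j : ℕ) (x : K) : adams P j (-x) = - adams P j x := (adamsHom P j).map_neg x

theorem adams_sub (j : ℕ) (x y : K) : adams P j (x - y) = adams P j x - adams P j y :=
  (adamsHom P j).map_sub x y

theorem adams_multiset_sum (j : ℕ) (s : Multiset K) :
    adams P j s.sum = (s.map (adams P j)).sum :=
  map_multiset_sum (adamsHom P j) s

end bridge

section lines

variable {K : Type u} [CommRing K] [LambdaOps K] (P : PosStructure K)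

theorem isLine_one : P.IsLine 1 :=
  ⟨by have := P.natCast_mem 1 one_pos; simpa using this, map_one _⟩

theorem isLine_mul {u v : K} (hu : P.IsLine u) (hv : P.IsLine v) : P.IsLine (u * v) :=
  ⟨P.mul_mem u v hu.1 hv.1, by rw [map_mul, hu.2, hv.2, mul_one]⟩

theorem isLine_pow {u : K} (hu : P.IsLine u) (n : ℕ) : P.IsLine (u ^ n) := by
  induction n with
  | zero => simpa using isLine_one P
  | succ n ih => rw [pow_succ]; exact isLine_mul P ih hu

theorem isLine_map {K' : Type u} [CommRing K'] [LambdaOps K'] (P' : PosStructure K')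
    (f : K →+* K') (hf : IsExtension P P' f) {u : K} (hu : P.IsLine u) : P'.IsLine (f u) :=
  ⟨hf.pos_subset u hu.1, by rw [hf.aug_comp, hu.2]⟩

theorem adams_line {u : K} (hu : P.IsLine u) (j : ℕ) : adams P j u = u ^ j :=
  Groth.Agent.S3287.result K P u hu j

theorem lam_line_eq_zero {u : K} (hu : P.IsLine u) (j : ℕ) (hj : 2 ≤ j) :
    LambdaOps.lam j u = 0 :=
  P.lam_eq_zero u hu.1 j (by rw [hu.2]; exact_mod_cast (by omega : 1 < j))

theorem exists_split (hK : HasSplitting K P) (e : K) (he : e ∈ P.pos) :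
    ∃ (K' : Type u) (_ : CommRing K') (_ : LambdaOps K') (P' : PosStructure K') (f : K →+* K'),
      HasSplitting K' P' ∧ IsExtension P P' f ∧
        ∃ s : Multiset K', (∀ u ∈ s, P'.IsLine u) ∧ s.sum = f e := by
  obtain ⟨C, hKC, hC⟩ := hK
  obtain ⟨L', hL'C, f, hf, s, hs, hsum⟩ := hC ⟨K, P⟩ hKC e he
  exact ⟨L'.carrier, L'.commRing, L'.lambdaOps, L'.posStr, f, ⟨C, hL'C, hC⟩, hf, s, hs, hsum⟩

theorem adams_mul_of_lines (j : ℕ) (s t : Multiset K) (hs : ∀ u ∈ s, P.IsLine u)
    (ht : ∀ v ∈ t, P.IsLine v) :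
    adams P j (s.sum * t.sum) = adams P j s.sum * adams P j t.sum := by
  have h1 : ∀ v, P.IsLine v → adams P j (s.sum * v) = adams P j s.sum * v ^ j := by
    intro v hv
    induction s using Multiset.induction_on with
    | empty => simp [adams_zero_arg]
    | cons u s ih =>
      have hu := hs u (Multiset.mem_cons_self u s)
      rw [Multiset.sum_cons, add_mul, adams_add, adams_add,
        ih (fun w hw => hs w (Multiset.mem_cons_of_mem hw)), add_mul,
        adams_line P (isLine_mul P hu hv), adams_line P hu, mul_pow]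
  induction t using Multiset.induction_on with
  | empty => simp [adams_zero_arg]
  | cons v t ih =>
    have hv := ht v (Multiset.mem_cons_self v t)
    rw [Multiset.sum_cons, mul_add, adams_add, adams_add,
      ih (fun w hw => ht w (Multiset.mem_cons_of_mem hw)), mul_add, h1 v hv, adams_line P hv]

theorem adams_mul_pos (hK : HasSplitting K P) (j : ℕ) (e e' : K) (he : e ∈ P.pos)
    (he' : e' ∈ P.pos) : adams P j (e * e') = adams P j e * adams P j e' := by
  obtain ⟨K₁, _, _, P₁, f₁, hK₁, hf₁, s₁, hs₁, hsum₁⟩ := exists_split P hK e he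
  obtain ⟨K₂, _, _, P₂, f₂, hK₂, hf₂, s₂, hs₂, hsum₂⟩ :=
    exists_split P₁ hK₁ (f₁ e') (hf₁.pos_subset e' he')
  apply hf₁.injective
  apply hf₂.injective
  simp only [adams_ext P P₁ f₁ hf₁, adams_ext P₁ P₂ f₂ hf₂, map_mul]
  have h1 : f₂ (f₁ e) = (s₁.map f₂).sum := by rw [← hsum₁, map_multiset_sum]
  rw [h1, ← hsum₂]
  refine adams_mul_of_lines P₂ j _ _ ?_ hs₂
  intro u hu
  obtain ⟨w, hw, rfl⟩ := Multiset.mem_map.mp hu
  exact isLine_map P₁ P₂ f₂ hf₂ (hs₁ w hw)

theorem adams_mul (hK : HasSplitting K P) (j : ℕ) (x y : K) :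
    adams P j (x * y) = adams P j x * adams P j y := by
  obtain ⟨e₁, f₁, he₁, hf₁, rfl⟩ := P.exists_sub x
  obtain ⟨e₂, f₂, he₂, hf₂, rfl⟩ := P.exists_sub y
  have hx : (e₁ - f₁) * (e₂ - f₂) = e₁ * e₂ - e₁ * f₂ - f₁ * e₂ + f₁ * f₂ := by ring
  rw [hx, adams_add, adams_sub, adams_sub, adams_sub, adams_sub,
    adams_mul_pos P hK j _ _ he₁ he₂, adams_mul_pos P hK j _ _ he₁ hf₂,
    adams_mul_pos P hK j _ _ hf₁ he₂, adams_mul_pos P hK j _ _ hf₁ hf₂]
  ring

theorem adams_one (j : ℕ) : adams P j 1 = 1 := by
  rw [adams_line P (isLine_one P), one_pow]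

theorem adams_adams_pos (hK : HasSplitting K P) (i j : ℕ) (e : K) (he : e ∈ P.pos) :
    adams P i (adams P j e) = adams P (i * j) e := by
  obtain ⟨K₁, _, _, P₁, f₁, hK₁, hf₁, s, hs, hsum⟩ := exists_split P hK e he
  apply hf₁.injective
  rw [adams_ext P P₁ f₁ hf₁, adams_ext P P₁ f₁ hf₁, adams_ext P P₁ f₁ hf₁, ← hsum,
    adams_multiset_sum P₁ j, adams_multiset_sum P₁ (i * j), adams_multiset_sum P₁ i,
    Multiset.map_map]
  congr 1
  apply Multiset.map_congr rfl
  intro u hu
  simp only [Function.comp]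
  rw [adams_line P₁ (hs u hu), adams_line P₁ (isLine_pow P₁ (hs u hu) j),
    adams_line P₁ (hs u hu), ← pow_mul']

theorem adams_adams (hK : HasSplitting K P) (i j : ℕ) (x : K) :
    adams P i (adams P j x) = adams P (i * j) x := by
  obtain ⟨e, f, he, hf, rfl⟩ := P.exists_sub x
  rw [adams_sub, adams_sub, adams_sub, adams_adams_pos P hK i j e he,
    adams_adams_pos P hK i j f hf]

theorem aug_lam_lines (s : Multiset K) (hs : ∀ u ∈ s, P.IsLine u) (i : ℕ) :
    P.aug (LambdaOps.lam i s.sum) = ((Multiset.card s).choose i : ℤ) := by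
  induction s using Multiset.induction_on generalizing i with
  | empty => rcases i with _ | i <;> simp [lam_zero_right]
  | cons u s ih =>
    have hu := hs u (Multiset.mem_cons_self u s)
    have ih' := ih (fun w hw => hs w (Multiset.mem_cons_of_mem hw))
    rw [Multiset.sum_cons, Multiset.card_cons]
    rcases i with _ | i
    · simp [LambdaOps.lam_zero]
    · have h := congrArg (PowerSeries.coeff (i + 1)) (lamSeries_add u s.sum)
      rw [lamSeries_of_line (lam_line_eq_zero P hu), coeff_lamSeries, add_mul, one_mul, map_add,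
        mul_assoc, PowerSeries.coeff_C_mul, PowerSeries.coeff_succ_X_mul, coeff_lamSeries,
        coeff_lamSeries] at h
      rw [h, map_add, map_mul, hu.2, one_mul, ih', ih', Nat.choose_succ_succ]
      push_cast
      ring

theorem aug_lam_pos (hK : HasSplitting K P) (e : K) (he : e ∈ P.pos) (i : ℕ) :
    P.aug (LambdaOps.lam i e) = ((P.aug e).toNat.choose i : ℤ) := by
  obtain ⟨K₁, _, _, P₁, f₁, hK₁, hf₁, s, hs, hsum⟩ := exists_split P hK e he
  have h1 : P.aug (LambdaOps.lam i e) = P₁.aug (LambdaOps.lam i (f₁ e)) := by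
    rw [← hf₁.isLambdaHom, hf₁.aug_comp]
  have h2 : (Multiset.card s : ℤ) = P.aug e := by
    rw [← hf₁.aug_comp, ← hsum, map_multiset_sum,
      Multiset.map_congr rfl (fun u hu => (hs u hu).2)]
    simp
  have h3 : Multiset.card s = (P.aug e).toNat := by rw [← h2, Int.toNat_natCast]
  rw [h1, ← hsum, aug_lam_lines P₁ s hs i, h3]

end lines

end Groth.Agent.Lib.LambdaSplitH1
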