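import Mathlib
import Groth.Agent.Lib.ElemExtPS_helper1
import Groth.Agent.Lib.LambdaSplit_helper1

/-!
# The multiplicative map `Lgen` attached to a λ-ring, and line scaling (helper1)
-/

set_option autoImplicit false
set_option maxHeartbeats 1000000

universe u

namespace Groth.Agent.Lib.ElemExtLgenH1

open LambdaRing Groth.Agent.Lib.LambdaRingH1 Groth.Agent.Lib.LambdaSplitH1
  Groth.Agent.Lib.ElemExtPSH1

section gen
variable {K : Type*} [CommRing K] [LambdaOps K] {R : Type*} [CommRing R] (g : K →+* R) (u : R)

/-- `λ_{u^j t}(x)` pushed to `R` -/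
noncomputable def phi (j : ℕ) (x : K) : PowerSeries R :=
  PowerSeries.rescale (u ^ j) (PowerSeries.map g (lamSeries x))

theorem phi_zero (j : ℕ) : phi g u j 0 = 1 := by
  rw [phi, lamSeries_zero, map_one, map_one]

theorem phi_add (j : ℕ) (x y : K) : phi g u j (x + y) = phi g u j x * phi g u j y := by
  rw [phi, lamSeries_add, map_mul, map_mul]; rfl

/-- `L(Σ x_j T^j) = Π_j λ_{u^j t}(x_j)` -/
noncomputable def Lgen (q : Polynomial K) : PowerSeries R :=
  ∏ j ∈ q.support, phi g u j (q.coeff j)

theorem Lgen_eq_prod (q : Polynomial K) (s : Finset ℕ) (hs : q.support ⊆ s) :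
    Lgen g u q = ∏ j ∈ s, phi g u j (q.coeff j) := by
  rw [Lgen]
  apply Finset.prod_subset hs
  intro j _ hj
  rw [Polynomial.notMem_support_iff.mp hj, phi_zero]

theorem Lgen_add (q q' : Polynomial K) : Lgen g u (q + q') = Lgen g u q * Lgen g u q' := by
  classical
  have h1 := Lgen_eq_prod g u q (q.support ∪ q'.support) Finset.subset_union_left
  have h2 := Lgen_eq_prod g u q' (q.support ∪ q'.support) Finset.subset_union_right
  have h3 := Lgen_eq_prod g u (q + q') (q.support ∪ q'.support) Polynomial.support_add
  rw [h1, h2, h3, ← Finset.prod_mul_distrib]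
  apply Finset.prod_congr rfl
  intro j _
  rw [Polynomial.coeff_add, phi_add]

theorem Lgen_zero : Lgen g u 0 = 1 := by
  rw [Lgen, Polynomial.support_zero, Finset.prod_empty]

theorem Lgen_monomial (j : ℕ) (x : K) : Lgen g u (Polynomial.monomial j x) = phi g u j x := by
  rw [Lgen_eq_prod g u _ {j} (Polynomial.support_monomial' j x), Finset.prod_singleton,
    Polynomial.coeff_monomial, if_pos rfl]

theorem Lgen_sub (q q' : Polynomial K) : Lgen g u (q - q') * Lgen g u q' = Lgen g u q := by
  rw [← Lgen_add, sub_add_cancel]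

theorem constantCoeff_phi (j : ℕ) (x : K) : PowerSeries.constantCoeff (phi g u j x) = 1 := by
  rw [phi, constantCoeff_rescale, ← PowerSeries.coeff_zero_eq_constantCoeff_apply,
    PowerSeries.coeff_map, PowerSeries.coeff_zero_eq_constantCoeff_apply, constantCoeff_lamSeries,
    map_one]

theorem constantCoeff_Lgen (q : Polynomial K) : PowerSeries.constantCoeff (Lgen g u q) = 1 := by
  rw [Lgen, map_prod]
  exact Finset.prod_eq_one (fun j _ => constantCoeff_phi g u j _)

theorem isUnit_Lgen (q : Polynomial K) : IsUnit (Lgen g u q) := by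
  rw [PowerSeries.isUnit_iff_constantCoeff, constantCoeff_Lgen]; exact isUnit_one

theorem coeff_one_mul {F G : PowerSeries R} (hF : PowerSeries.constantCoeff F = 1)
    (hG : PowerSeries.constantCoeff G = 1) :
    PowerSeries.coeff 1 (F * G) = PowerSeries.coeff 1 F + PowerSeries.coeff 1 G := by
  have hF' : PowerSeries.coeff 0 F = 1 := by
    rw [PowerSeries.coeff_zero_eq_constantCoeff_apply, hF]
  have hG' : PowerSeries.coeff 0 G = 1 := by
    rw [PowerSeries.coeff_zero_eq_constantCoeff_apply, hG]
  rw [PowerSeries.coeff_mul]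
  have : (Finset.HasAntidiagonal.antidiagonal 1 : Finset (ℕ × ℕ)) = {(0, 1), (1, 0)} := by decide
  rw [this, Finset.sum_pair (by decide)]
  simp only [hF', hG', one_mul, mul_one]
  rw [add_comm]

theorem coeff_one_Lgen (q : Polynomial K) :
    PowerSeries.coeff 1 (Lgen g u q) = Polynomial.eval₂ g u q := by
  induction q using Polynomial.induction_on' with
  | add p q hp hq =>
    rw [Lgen_add, coeff_one_mul (constantCoeff_Lgen g u p) (constantCoeff_Lgen g u q), hp, hq,
      Polynomial.eval₂_add]
  | monomial j x =>
    rw [Lgen_monomial, phi, PowerSeries.coeff_rescale, PowerSeries.coeff_map, coeff_lamSeries,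
      LambdaOps.lam_one, Polynomial.eval₂_monomial, pow_one, mul_comm]

theorem Lgen_mul_X (q : Polynomial K) :
    Lgen g u (q * Polynomial.X) = PowerSeries.rescale u (Lgen g u q) := by
  induction q using Polynomial.induction_on' with
  | add p q hp hq => rw [add_mul, Lgen_add, hp, hq, Lgen_add, map_mul]
  | monomial j x =>
    rw [Polynomial.monomial_mul_X, Lgen_monomial, Lgen_monomial, phi, phi,
      PowerSeries.rescale_rescale, pow_succ]

theorem Lgen_C_mul (c : K) (v : R)
    (hc : ∀ x, PowerSeries.map g (lamSeries (c * x)) =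
      PowerSeries.rescale v (PowerSeries.map g (lamSeries x)))
    (q : Polynomial K) :
    Lgen g u (Polynomial.C c * q) = PowerSeries.rescale v (Lgen g u q) := by
  induction q using Polynomial.induction_on' with
  | add p q hp hq => rw [mul_add, Lgen_add, hp, hq, Lgen_add, map_mul]
  | monomial j x =>
    rw [Polynomial.C_mul_monomial, Lgen_monomial, Lgen_monomial, phi, phi, hc,
      PowerSeries.rescale_rescale, PowerSeries.rescale_rescale, mul_comm]

theorem map_Lgen {R' : Type*} [CommRing R'] (h : R →+* R') (q : Polynomial K) :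
    PowerSeries.map h (Lgen g u q) = Lgen (h.comp g) (h u) q := by
  induction q using Polynomial.induction_on' with
  | add p q hp hq => rw [Lgen_add, map_mul, hp, hq, Lgen_add]
  | monomial j x =>
    rw [Lgen_monomial, Lgen_monomial, phi, phi, ← PowerSeries.rescale_map, map_pow, map_map']

theorem Lgen_comp_lamHom {K' : Type*} [CommRing K'] [LambdaOps K'] (f : K →+* K')
    (hf : ∀ i x, f (LambdaOps.lam i x) = LambdaOps.lam i (f x)) (g' : K' →+* R)
    (q : Polynomial K) :
    Lgen (g'.comp f) u q = Lgen g' u (q.map f) := by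
  induction q using Polynomial.induction_on' with
  | add p q hp hq => rw [Lgen_add, hp, hq, Polynomial.map_add, Lgen_add]
  | monomial j x =>
    rw [Polynomial.map_monomial, Lgen_monomial, Lgen_monomial, phi, phi]
    congr 1
    ext n
    simp [PowerSeries.coeff_map, coeff_lamSeries, hf]

end gen

section scaling
variable {K : Type u} [CommRing K] [LambdaOps K] (P : PosStructure K)

theorem lamSeries_lines_sum (t : Multiset K) (ht : ∀ v ∈ t, P.IsLine v) :
    lamSeries t.sum =
      (t.map (fun v => (1 + PowerSeries.C v * PowerSeries.X : PowerSeries K))).prod := by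
  induction t using Multiset.induction_on with
  | empty => simp [lamSeries_zero]
  | cons v t ih =>
    rw [Multiset.sum_cons, lamSeries_add, Multiset.map_cons, Multiset.prod_cons,
      ih (fun w hw => ht w (Multiset.mem_cons_of_mem hw)),
      lamSeries_of_line (lam_line_eq_zero P (ht v (Multiset.mem_cons_self v t)))]

theorem lamSeries_line_mul_lines {u : K} (hu : P.IsLine u) (t : Multiset K)
    (ht : ∀ v ∈ t, P.IsLine v) :
    lamSeries (u * t.sum) = PowerSeries.rescale u (lamSeries t.sum) := by
  have h1 : u * t.sum = (t.map (fun v => u * v)).sum := by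
    rw [Multiset.sum_map_mul_left, Multiset.map_id']
  rw [h1, lamSeries_lines_sum P _ (by
    intro w hw
    obtain ⟨v, hv, rfl⟩ := Multiset.mem_map.mp hw
    exact isLine_mul P hu (ht v hv)), lamSeries_lines_sum P t ht, map_multiset_prod,
    Multiset.map_map, Multiset.map_map]
  congr 1
  apply Multiset.map_congr rfl
  intro v _
  simp only [Function.comp_apply]
  rw [rescale_linear, mul_comm u v]

theorem lamSeries_line_mul_pos (hK : HasSplitting K P) {u : K} (hu : P.IsLine u) (x : K)
    (hx : x ∈ P.pos) : lamSeries (u * x) = PowerSeries.rescale u (lamSeries x) := by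
  obtain ⟨K', _, _, P', f, hK', hf, t, ht, hsum⟩ := exists_split P hK x hx
  have hmap : ∀ y : K, PowerSeries.map f (lamSeries y) = lamSeries (f y) := by
    intro y; ext n
    rw [PowerSeries.coeff_map, coeff_lamSeries, coeff_lamSeries, hf.isLambdaHom]
  apply map_injective' f hf.injective
  rw [hmap, map_mul, ← hsum, lamSeries_line_mul_lines P' (isLine_map P P' f hf hu) t ht, hsum,
    ← hmap x, PowerSeries.rescale_map]

theorem lamSeries_line_mul (hK : HasSplitting K P) {u : K} (hu : P.IsLine u) (x : K) :
    lamSeries (u * x) = PowerSeries.rescale u (lamSeries x) := by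
  obtain ⟨a, b, ha, hb, rfl⟩ := P.exists_sub x
  have h1 := lamSeries_sub (u * a) (u * b)
  rw [← mul_sub, lamSeries_line_mul_pos P hK hu a ha, lamSeries_line_mul_pos P hK hu b hb,
    ← lamSeries_sub a b, map_mul] at h1
  have hunit : IsUnit (PowerSeries.rescale u (lamSeries b)) := by
    rw [PowerSeries.isUnit_iff_constantCoeff, constantCoeff_rescale, constantCoeff_lamSeries]
    exact isUnit_one
  exact hunit.mul_left_injective h1

theorem Lgen_C_line_mul (hK : HasSplitting K P) {R : Type*} [CommRing R] (g : K →+* R) (w : R)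
    {v : K} (hv : P.IsLine v) (q : Polynomial K) :
    Lgen g w (Polynomial.C v * q) = PowerSeries.rescale (g v) (Lgen g w q) := by
  apply Lgen_C_mul
  intro x
  rw [lamSeries_line_mul P hK hv, PowerSeries.rescale_map]

theorem Lgen_C_sum_lines (hK : HasSplitting K P) {R : Type*} [CommRing R] (g : K →+* R) (w : R)
    (t : Multiset K) (ht : ∀ v ∈ t, P.IsLine v) (q : Polynomial K) :
    Lgen g w (Polynomial.C t.sum * q) =
      (t.map (fun v => PowerSeries.rescale (g v) (Lgen g w q))).prod := by
  induction t using Multiset.induction_on with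
  | empty => simp [Lgen_zero]
  | cons v t ih =>
    rw [Multiset.sum_cons, Polynomial.C_add, add_mul, Lgen_add,
      Lgen_C_line_mul P hK g w (ht v (Multiset.mem_cons_self v t)),
      ih (fun w' hw => ht w' (Multiset.mem_cons_of_mem hw)), Multiset.map_cons,
      Multiset.prod_cons]

theorem lam_card_lines (t : Multiset K) (ht : ∀ v ∈ t, P.IsLine v) :
    LambdaOps.lam (Multiset.card t) t.sum = t.prod := by
  have := (polyTop_prod_linear t).2
  rw [← lamSeries_lines_sum P t ht, coeff_lamSeries] at this
  exact this

theorem card_lines (t : Multiset K) (ht : ∀ v ∈ t, P.IsLine v) :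
    P.aug t.sum = (Multiset.card t : ℤ) := by
  rw [map_multiset_sum, Multiset.map_congr rfl (fun u hu => (ht u hu).2)]
  simp

omit [LambdaOps K] in
theorem esymm_cons_succ' (a : K) (s : Multiset K) (j : ℕ) :
    (a ::ₘ s).esymm (j + 1) = s.esymm (j + 1) + a * s.esymm j := by
  unfold Multiset.esymm
  rw [Multiset.powersetCard_cons, Multiset.map_add, Multiset.sum_add, Multiset.map_map]
  congr 1
  rw [← Multiset.sum_map_mul_left]
  apply congrArg
  apply Multiset.map_congr rfl
  intro t _
  simp

theorem lam_lines_esymm (t : Multiset K) (ht : ∀ v ∈ t, P.IsLine v) (i : ℕ) :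
    LambdaOps.lam i t.sum = t.esymm i := by
  induction t using Multiset.induction_on generalizing i with
  | empty =>
    rcases i with _ | i
    · simp [LambdaOps.lam_zero, Multiset.esymm]
    · rw [Multiset.sum_zero, lam_zero_right, if_neg (by omega)]
      unfold Multiset.esymm
      rw [Multiset.powersetCard_eq_empty _ (by simp)]
      simp
  | cons v t ih =>
    have hv := ht v (Multiset.mem_cons_self v t)
    have ih' := ih (fun w hw => ht w (Multiset.mem_cons_of_mem hw))
    rcases i with _ | i
    · simp [LambdaOps.lam_zero, Multiset.esymm]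
    · have h := congrArg (PowerSeries.coeff (i + 1)) (lamSeries_add v t.sum)
      rw [lamSeries_of_line (lam_line_eq_zero P hv), coeff_lamSeries, add_mul, one_mul, map_add,
        mul_assoc, PowerSeries.coeff_C_mul, PowerSeries.coeff_succ_X_mul, coeff_lamSeries,
        coeff_lamSeries] at h
      rw [Multiset.sum_cons, h, ih', ih', esymm_cons_succ']

theorem extPoly_eq_prod (s : Multiset K) (hs : ∀ u ∈ s, P.IsLine u) :
    KRR.extPoly P s.sum = (s.map (fun u => Polynomial.X - Polynomial.C u)).prod := by
  have hcard : (P.aug s.sum).toNat = Multiset.card s := by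
    rw [card_lines P s hs, Int.toNat_natCast]
  rw [Multiset.prod_X_sub_X_eq_sum_esymm, KRR.extPoly, hcard]
  apply Finset.sum_congr rfl
  intro i _
  rw [lam_lines_esymm P s hs, Polynomial.C_mul, Polynomial.C_pow, Polynomial.C_neg,
    Polynomial.C_1, mul_assoc]

end scaling

end Groth.Agent.Lib.ElemExtLgenH1
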