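import Mathlib
import Groth.Agent.Lib.ElemExtLgen_helper1

/-!
# The λ-structure on the elementary extension `K[T]/(p_e)` (helper1)
-/

set_option autoImplicit false
set_option maxHeartbeats 1000000

universe u

namespace Groth.Agent.Lib.ElemExtLamH1

open LambdaRing Groth.Agent.Lib.LambdaRingH1 Groth.Agent.Lib.LambdaSplitH1
  Groth.Agent.Lib.ElemExtPSH1 Groth.Agent.Lib.ElemExtLgenH1

section basics
variable {K : Type u} [CommRing K] [LambdaOps K] (P : PosStructure K) (e : K)

theorem toNat_pos (he : e ∈ P.pos) : ∃ r : ℕ, (P.aug e).toNat = r + 1 := by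
  have := P.aug_pos e he
  exact ⟨(P.aug e).toNat - 1, by omega⟩

theorem toNat_cast (he : e ∈ P.pos) : ((P.aug e).toNat : ℤ) = P.aug e :=
  Int.toNat_of_nonneg (le_of_lt (P.aug_pos e he))

theorem extPoly_monic (he : e ∈ P.pos) : (KRR.extPoly P e).Monic := by
  haveI : Nontrivial K := RingHom.domain_nontrivial P.aug
  obtain ⟨r, hr⟩ := toNat_pos P e he
  unfold KRR.extPoly
  rw [hr]
  exact ElemExtAnnH1.poly_monic (fun i => (-1 : K) ^ i * LambdaOps.lam i e)
    (by simp [LambdaOps.lam_zero]) r

theorem extPoly_natDegree (he : e ∈ P.pos) :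
    (KRR.extPoly P e).natDegree = (P.aug e).toNat := by
  haveI : Nontrivial K := RingHom.domain_nontrivial P.aug
  obtain ⟨r, hr⟩ := toNat_pos P e he
  unfold KRR.extPoly
  rw [hr]
  exact ElemExtAnnH1.poly_natDegree (fun i => (-1 : K) ^ i * LambdaOps.lam i e)
    (by simp [LambdaOps.lam_zero]) r

variable {K' : Type u} [CommRing K'] [LambdaOps K'] (P' : PosStructure K') (f : K →+* K')

theorem extPoly_map (hf : IsExtension P P' f) :
    (KRR.extPoly P e).map f = KRR.extPoly P' (f e) := by
  unfold KRR.extPoly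
  rw [Polynomial.map_sum, hf.aug_comp]
  apply Finset.sum_congr rfl
  intro i _
  rw [Polynomial.map_mul, Polynomial.map_C, Polynomial.map_pow, Polynomial.map_X, map_mul, map_pow,
    map_neg, map_one, hf.isLambdaHom]

/-- the comparison map `K[T]/(p_e) → K'[T]/(p_{f e})` -/
noncomputable def jf (hf : IsExtension P P' f) :
    AdjoinRoot (KRR.extPoly P e) →+* AdjoinRoot (KRR.extPoly P' (f e)) :=
  AdjoinRoot.lift ((AdjoinRoot.of (KRR.extPoly P' (f e))).comp f) (AdjoinRoot.root _) (by
    rw [← Polynomial.eval₂_map, extPoly_map P e P' f hf, AdjoinRoot.eval₂_root])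

theorem jf_of (hf : IsExtension P P' f) (x : K) :
    jf P e P' f hf (AdjoinRoot.of _ x) = AdjoinRoot.of _ (f x) := by
  rw [jf, AdjoinRoot.lift_of]; rfl

theorem jf_root (hf : IsExtension P P' f) :
    jf P e P' f hf (AdjoinRoot.root _) = AdjoinRoot.root _ := by
  rw [jf, AdjoinRoot.lift_root]

theorem jf_mk (hf : IsExtension P P' f) (q : Polynomial K) :
    jf P e P' f hf (AdjoinRoot.mk _ q) = AdjoinRoot.mk _ (q.map f) := by
  rw [jf, AdjoinRoot.lift_mk, ← Polynomial.eval₂_map, ← AdjoinRoot.aeval_eq, Polynomial.aeval_def,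
    AdjoinRoot.algebraMap_eq]

theorem mk_modByMonic (he : e ∈ P.pos) (q : Polynomial K) :
    AdjoinRoot.mk (KRR.extPoly P e) q = AdjoinRoot.mk _ (q %ₘ KRR.extPoly P e) := by
  rw [AdjoinRoot.mk_eq_mk]
  refine ⟨q /ₘ KRR.extPoly P e, ?_⟩
  have h := Polynomial.modByMonic_add_div q (KRR.extPoly P e)
  linear_combination (-1 : Polynomial K) * h

theorem jf_injective (hf : IsExtension P P' f) (he : e ∈ P.pos) :
    Function.Injective (jf P e P' f hf) := by
  haveI : Nontrivial K := RingHom.domain_nontrivial P.aug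
  rw [injective_iff_map_eq_zero]
  intro a ha
  obtain ⟨q, rfl⟩ := AdjoinRoot.mk_surjective a
  have hmon := extPoly_monic P e he
  have hmon' := extPoly_monic P' (f e) (hf.pos_subset e he)
  obtain ⟨r, hr⟩ := toNat_pos P e he
  rw [mk_modByMonic P e he q] at ha ⊢
  rw [jf_mk, AdjoinRoot.mk_eq_zero] at ha
  have hne1 : KRR.extPoly P e ≠ 1 := by
    intro h1
    have := extPoly_natDegree P e he
    rw [h1, Polynomial.natDegree_one, hr] at this
    omega
  have hlt : ((q %ₘ KRR.extPoly P e).map f).natDegree < (KRR.extPoly P' (f e)).natDegree := by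
    refine lt_of_le_of_lt (Polynomial.natDegree_map_le) ?_
    rw [extPoly_natDegree P' (f e) (hf.pos_subset e he), hf.aug_comp, ← extPoly_natDegree P e he]
    exact Polynomial.natDegree_modByMonic_lt q hmon hne1
  have hzero : (q %ₘ KRR.extPoly P e).map f = 0 := by
    by_contra hne
    exact hmon'.not_dvd_of_natDegree_lt hne hlt ha
  rw [Polynomial.map_eq_zero_iff hf.injective] at hzero
  rw [hzero, map_zero]

theorem map_jf_Lgen (hf : IsExtension P P' f) (q : Polynomial K) :
    PowerSeries.map (jf P e P' f hf)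
        (Lgen (AdjoinRoot.of (KRR.extPoly P e)) (AdjoinRoot.root _) q) =
      Lgen (AdjoinRoot.of (KRR.extPoly P' (f e))) (AdjoinRoot.root _) (q.map f) := by
  rw [map_Lgen, jf_root, ← Lgen_comp_lamHom (AdjoinRoot.root (KRR.extPoly P' (f e))) f
    hf.isLambdaHom]
  congr 1
  ext x
  simp [jf_of]

end basics

section core
variable {K : Type u} [CommRing K] [LambdaOps K] (P : PosStructure K)

theorem coefIn_Lgen_prod (hK : HasSplitting K P) {R : Type*} [CommRing R] (g : K →+* R) (w : R)
    (t : Multiset K) (ht : ∀ v ∈ t, P.IsLine v) (q : Polynomial K) :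
    CoefIn (Ideal.span {(t.map (fun v => w - g v)).prod})
      (Lgen g w (q * (t.map (fun v => Polynomial.X - Polynomial.C v)).prod) - 1) := by
  induction t using Multiset.induction_on generalizing q with
  | empty =>
    intro n
    simp only [Multiset.map_zero, Multiset.prod_zero, Ideal.span_singleton_one]
    exact Submodule.mem_top
  | cons v t ih =>
    have hv := ht v (Multiset.mem_cons_self v t)
    have ih' := ih (fun w' hw => ht w' (Multiset.mem_cons_of_mem hw))
    obtain ⟨Q, hQ⟩ : ∃ Q : Polynomial K,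
        Q = q * (t.map (fun v => Polynomial.X - Polynomial.C v)).prod := ⟨_, rfl⟩
    have hq : q * ((v ::ₘ t).map (fun v => Polynomial.X - Polynomial.C v)).prod =
        Q * Polynomial.X - Polynomial.C v * Q := by
      rw [Multiset.map_cons, Multiset.prod_cons, hQ]; ring
    have ihQ := ih' q
    rw [← hQ] at ihQ
    rw [hq]
    have h1 : Lgen g w (Q * Polynomial.X - Polynomial.C v * Q) *
        PowerSeries.rescale (g v) (Lgen g w Q) = PowerSeries.rescale w (Lgen g w Q) := by
      rw [← Lgen_C_line_mul P hK g w hv, Lgen_sub, Lgen_mul_X]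
    have hU : IsUnit (PowerSeries.rescale (g v) (Lgen g w Q)) := by
      rw [PowerSeries.isUnit_iff_constantCoeff, constantCoeff_rescale, constantCoeff_Lgen]
      exact isUnit_one
    have h2' : (Lgen g w (Q * Polynomial.X - Polynomial.C v * Q) - 1) *
        PowerSeries.rescale (g v) (Lgen g w Q) =
        PowerSeries.rescale w (Lgen g w Q) - PowerSeries.rescale (g v) (Lgen g w Q) := by
      rw [sub_mul, one_mul, h1]
    have h2 : Lgen g w (Q * Polynomial.X - Polynomial.C v * Q) - 1 =
        (PowerSeries.rescale w (Lgen g w Q) - PowerSeries.rescale (g v) (Lgen g w Q)) *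
          ↑hU.unit⁻¹ := by
      rw [← h2', mul_assoc, IsUnit.mul_val_inv, mul_one]
    have h3 := (coefIn_rescale_sub ihQ w (g v)).mul_right (↑hU.unit⁻¹ : PowerSeries R)
    rw [← h2, Ideal.span_singleton_mul_span_singleton] at h3
    rw [Multiset.map_cons, Multiset.prod_cons, mul_comm]
    exact h3

theorem core_split (hK : HasSplitting K P) (s : Multiset K) (hs : ∀ u ∈ s, P.IsLine u) (e : K)
    (hsum : s.sum = e) (q : Polynomial K) :
    Lgen (AdjoinRoot.of (KRR.extPoly P e)) (AdjoinRoot.root _) (q * KRR.extPoly P e) = 1 := by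
  subst hsum
  have h := coefIn_Lgen_prod P hK (AdjoinRoot.of (KRR.extPoly P s.sum)) (AdjoinRoot.root _) s hs q
  have hz : (s.map (fun v => AdjoinRoot.root (KRR.extPoly P s.sum) -
      AdjoinRoot.of (KRR.extPoly P s.sum) v)).prod = 0 := by
    have h0 : Polynomial.eval₂ (AdjoinRoot.of (KRR.extPoly P s.sum))
        (AdjoinRoot.root (KRR.extPoly P s.sum))
        (s.map (fun u => Polynomial.X - Polynomial.C u)).prod = 0 := by
      rw [← extPoly_eq_prod P s hs]; exact AdjoinRoot.eval₂_root _
    rw [Polynomial.eval₂_multiset_prod, Multiset.map_map] at h0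
    rw [← h0]
    congr 1
    apply Multiset.map_congr rfl
    intro v _
    simp [Polynomial.eval₂_sub, Polynomial.eval₂_X, Polynomial.eval₂_C]
  rw [hz] at h
  rw [← extPoly_eq_prod P s hs] at h
  have : Lgen (AdjoinRoot.of (KRR.extPoly P s.sum)) (AdjoinRoot.root _)
      (q * KRR.extPoly P s.sum) - 1 = 0 := by
    ext n
    have := h n
    rw [Ideal.span_singleton_eq_bot.mpr rfl, Ideal.mem_bot] at this
    rw [this, map_zero]
  exact sub_eq_zero.mp this

variable (e : K)

theorem core (hK : HasSplitting K P) (he : e ∈ P.pos) (q : Polynomial K) :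
    Lgen (AdjoinRoot.of (KRR.extPoly P e)) (AdjoinRoot.root _) (q * KRR.extPoly P e) = 1 := by
  obtain ⟨K', _, _, P', f, hK', hf, s, hs, hsum⟩ := exists_split P hK e he
  apply map_injective' _ (jf_injective P e P' f hf he)
  rw [map_jf_Lgen, Polynomial.map_mul, extPoly_map P e P' f hf, map_one]
  exact core_split P' hK' s hs (f e) hsum _

/-- `λ_t` on the elementary extension -/
noncomputable def LA (a : AdjoinRoot (KRR.extPoly P e)) :
    PowerSeries (AdjoinRoot (KRR.extPoly P e)) :=
  Lgen (AdjoinRoot.of _) (AdjoinRoot.root _) (Classical.choose (AdjoinRoot.mk_surjective a))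

theorem LA_mk (hK : HasSplitting K P) (he : e ∈ P.pos) (q : Polynomial K) :
    LA P e (AdjoinRoot.mk _ q) = Lgen (AdjoinRoot.of _) (AdjoinRoot.root _) q := by
  have hspec := Classical.choose_spec
    (AdjoinRoot.mk_surjective (AdjoinRoot.mk (KRR.extPoly P e) q))
  rw [AdjoinRoot.mk_eq_mk] at hspec
  obtain ⟨r, hr⟩ := hspec
  have hc : Lgen (AdjoinRoot.of (KRR.extPoly P e)) (AdjoinRoot.root _)
      (KRR.extPoly P e * r) = 1 := by
    rw [mul_comm]; exact core P e hK he r
  rw [LA, ← Lgen_sub _ _ _ q, hr, hc, one_mul]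

theorem LA_add (hK : HasSplitting K P) (he : e ∈ P.pos)
    (a b : AdjoinRoot (KRR.extPoly P e)) : LA P e (a + b) = LA P e a * LA P e b := by
  obtain ⟨q, rfl⟩ := AdjoinRoot.mk_surjective a
  obtain ⟨q', rfl⟩ := AdjoinRoot.mk_surjective b
  rw [← map_add, LA_mk P e hK he, LA_mk P e hK he, LA_mk P e hK he, Lgen_add]

theorem LA_constantCoeff (a : AdjoinRoot (KRR.extPoly P e)) :
    PowerSeries.constantCoeff (LA P e a) = 1 := by
  rw [LA, constantCoeff_Lgen]

theorem LA_coeff_one (hK : HasSplitting K P) (he : e ∈ P.pos)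
    (a : AdjoinRoot (KRR.extPoly P e)) : PowerSeries.coeff 1 (LA P e a) = a := by
  obtain ⟨q, rfl⟩ := AdjoinRoot.mk_surjective a
  rw [LA_mk P e hK he, coeff_one_Lgen, ← AdjoinRoot.aeval_eq, Polynomial.aeval_def,
    AdjoinRoot.algebraMap_eq]

theorem LA_of (hK : HasSplitting K P) (he : e ∈ P.pos) (x : K) :
    LA P e (AdjoinRoot.of _ x) = PowerSeries.map (AdjoinRoot.of _) (lamSeries x) := by
  rw [← AdjoinRoot.mk_C x, LA_mk P e hK he, ← Polynomial.monomial_zero_left, Lgen_monomial, phi,
    pow_zero, PowerSeries.rescale_one, RingHom.id_apply]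

include P in
theorem lam_one_eq_zero (k : ℕ) (hk : 2 ≤ k) : LambdaOps.lam k (1 : K) = 0 :=
  lam_line_eq_zero P (isLine_one P) k hk

theorem LA_root (hK : HasSplitting K P) (he : e ∈ P.pos) :
    LA P e (AdjoinRoot.root _) = 1 + PowerSeries.C (AdjoinRoot.root _) * PowerSeries.X := by
  conv_lhs => rw [← AdjoinRoot.mk_X, LA_mk P e hK he, ← Polynomial.monomial_one_one_eq_X]
  rw [Lgen_monomial, phi, pow_one, lamSeries_one (lam_one_eq_zero P), map_add, map_one,
    PowerSeries.map_X, rescale_one_add_X]

theorem LA_root_mul (hK : HasSplitting K P) (he : e ∈ P.pos)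
    (a : AdjoinRoot (KRR.extPoly P e)) :
    LA P e (AdjoinRoot.root _ * a) = PowerSeries.rescale (AdjoinRoot.root _) (LA P e a) := by
  obtain ⟨q, rfl⟩ := AdjoinRoot.mk_surjective a
  conv_lhs => rw [← AdjoinRoot.mk_X, ← map_mul, LA_mk P e hK he, mul_comm, Lgen_mul_X]
  rw [LA_mk P e hK he]

theorem eval₂_aug_extPoly (hK : HasSplitting K P) (he : e ∈ P.pos) :
    Polynomial.eval₂ P.aug (1 : ℤ) (KRR.extPoly P e) = 0 := by
  obtain ⟨r, hr⟩ := toNat_pos P e he
  unfold KRR.extPoly
  rw [Polynomial.eval₂_finsetSum]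
  have : ∀ i ∈ Finset.range ((P.aug e).toNat + 1),
      Polynomial.eval₂ P.aug (1 : ℤ) (Polynomial.C ((-1 : K) ^ i * LambdaOps.lam i e) *
        Polynomial.X ^ ((P.aug e).toNat - i)) =
        (-1) ^ i * ((P.aug e).toNat.choose i : ℤ) := by
    intro i _
    rw [Polynomial.eval₂_mul, Polynomial.eval₂_C, Polynomial.eval₂_pow, Polynomial.eval₂_X, one_pow,
      mul_one, map_mul, map_pow, map_neg, map_one, aug_lam_pos P hK e he]
  rw [Finset.sum_congr rfl this, Int.alternating_sum_range_choose, if_neg (by omega)]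

/-- the augmentation of the elementary extension -/
noncomputable def augA (hK : HasSplitting K P) (he : e ∈ P.pos) :
    AdjoinRoot (KRR.extPoly P e) →+* ℤ :=
  AdjoinRoot.lift P.aug 1 (eval₂_aug_extPoly P e hK he)

theorem augA_of (hK : HasSplitting K P) (he : e ∈ P.pos) (x : K) :
    augA P e hK he (AdjoinRoot.of _ x) = P.aug x := by
  rw [augA, AdjoinRoot.lift_of]

theorem augA_root (hK : HasSplitting K P) (he : e ∈ P.pos) :
    augA P e hK he (AdjoinRoot.root _) = 1 := by
  rw [augA, AdjoinRoot.lift_root]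

end core

section generic

theorem neg_one_pow_sub {R : Type*} [CommRing R] {i n : ℕ} (h : i ≤ n) :
    (-1 : R) ^ (n - i) = (-1) ^ n * (-1) ^ i := by
  have h1 : (-1 : R) ^ n = (-1) ^ (n - i) * (-1) ^ i := by rw [← pow_add]; congr 1; omega
  rw [h1, mul_assoc, ← mul_pow, neg_mul_neg, one_mul, one_pow, mul_one]

theorem theta_split {B R'' : Type*} [CommRing B] [CommRing R''] (h : B →+* R'') (ℓ : B)
    (us : Multiset B) (T F G : PowerSeries B) (W : Multiset R'')
    (hstar : T * PowerSeries.rescale ℓ F = (us.map (fun u => PowerSeries.rescale u F)).prod)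
    (hdia : (1 + PowerSeries.C ℓ * PowerSeries.X) * G =
      (us.map (fun u => (1 + PowerSeries.C u * PowerSeries.X : PowerSeries B))).prod)
    (hW : PowerSeries.map h F =
      (W.map (fun w => (1 + PowerSeries.C w * PowerSeries.X : PowerSeries R''))).prod)
    (hF0 : PowerSeries.constantCoeff F = 1) :
    PowerSeries.map h T =
      (W.map (fun w => PowerSeries.rescale w (PowerSeries.map h G))).prod := by
  have key : ∀ w : R'', (us.map (fun u => PowerSeries.rescale (h u)
      (1 + PowerSeries.C w * PowerSeries.X : PowerSeries R''))).prod =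
      (1 + PowerSeries.C (w * h ℓ) * PowerSeries.X) *
        PowerSeries.rescale w (PowerSeries.map h G) := by
    intro w
    calc (us.map (fun u => PowerSeries.rescale (h u)
          (1 + PowerSeries.C w * PowerSeries.X : PowerSeries R''))).prod
        = (us.map (fun u => PowerSeries.rescale w
            (PowerSeries.map h (1 + PowerSeries.C u * PowerSeries.X)))).prod := by
          congr 1; apply Multiset.map_congr rfl; intro u _
          have e0 : PowerSeries.map h (1 + PowerSeries.C u * PowerSeries.X) =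
              1 + PowerSeries.C (h u) * PowerSeries.X := by
            rw [map_add, map_one, map_mul, PowerSeries.map_C, PowerSeries.map_X]
          rw [e0, rescale_linear, rescale_linear, mul_comm w (h u)]
      _ = PowerSeries.rescale w (PowerSeries.map h
            ((us.map (fun u => (1 + PowerSeries.C u * PowerSeries.X : PowerSeries B))).prod)) := by
          rw [map_multiset_prod, map_multiset_prod, Multiset.map_map, Multiset.map_map]; rfl
      _ = _ := by
          rw [← hdia, map_mul, map_mul, map_add, map_one, map_mul, PowerSeries.map_C,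
            PowerSeries.map_X, rescale_linear, mul_comm (h ℓ) w]
  have h1 := congrArg (PowerSeries.map h) hstar
  have hL : PowerSeries.map h (T * PowerSeries.rescale ℓ F) =
      PowerSeries.map h T * PowerSeries.rescale (h ℓ) (PowerSeries.map h F) := by
    rw [map_mul, PowerSeries.rescale_map]
  have hR : PowerSeries.map h ((us.map (fun u => PowerSeries.rescale u F)).prod) =
      (W.map (fun w => (1 + PowerSeries.C (w * h ℓ) * PowerSeries.X : PowerSeries R''))).prod *
        (W.map (fun w => PowerSeries.rescale w (PowerSeries.map h G))).prod := by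
    calc PowerSeries.map h ((us.map (fun u => PowerSeries.rescale u F)).prod)
        = (us.map (fun u => PowerSeries.rescale (h u) (PowerSeries.map h F))).prod := by
          rw [map_multiset_prod, Multiset.map_map]
          congr 1; apply Multiset.map_congr rfl; intro u _
          simp only [Function.comp_apply]; rw [PowerSeries.rescale_map]
      _ = (us.map (fun u => (W.map (fun w => PowerSeries.rescale (h u)
            (1 + PowerSeries.C w * PowerSeries.X : PowerSeries R''))).prod)).prod := by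
          congr 1; apply Multiset.map_congr rfl; intro u _
          rw [hW, map_multiset_prod, Multiset.map_map]; rfl
      _ = (W.map (fun w => (us.map (fun u => PowerSeries.rescale (h u)
            (1 + PowerSeries.C w * PowerSeries.X : PowerSeries R''))).prod)).prod :=
          Multiset.prod_map_prod_map us W
      _ = (W.map (fun w => (1 + PowerSeries.C (w * h ℓ) * PowerSeries.X) *
            PowerSeries.rescale w (PowerSeries.map h G))).prod := by
          congr 1; apply Multiset.map_congr rfl; intro w _; exact key w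
      _ = _ := Multiset.prod_map_mul
  have h4 : (W.map (fun w =>
      (1 + PowerSeries.C (w * h ℓ) * PowerSeries.X : PowerSeries R''))).prod =
      PowerSeries.rescale (h ℓ) (PowerSeries.map h F) := by
    rw [hW, map_multiset_prod, Multiset.map_map]
    congr 1; apply Multiset.map_congr rfl; intro w _
    simp only [Function.comp_apply]; rw [rescale_linear]
  rw [hL, hR, h4] at h1
  have hU : IsUnit (PowerSeries.rescale (h ℓ) (PowerSeries.map h F)) := by
    rw [PowerSeries.isUnit_iff_constantCoeff, constantCoeff_rescale,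
      ← PowerSeries.coeff_zero_eq_constantCoeff_apply, PowerSeries.coeff_map,
      PowerSeries.coeff_zero_eq_constantCoeff_apply, hF0, map_one]
    exact isUnit_one
  rw [mul_comm (PowerSeries.rescale (h ℓ) (PowerSeries.map h F))] at h1
  exact hU.mul_left_injective h1

end generic

section compare
variable {K : Type u} [CommRing K] [LambdaOps K] (P : PosStructure K) (e : K)
variable {K' : Type u} [CommRing K'] [LambdaOps K'] (P' : PosStructure K') (f : K →+* K')

theorem map_f_lamSeries (hf : IsExtension P P' f) (x : K) :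
    PowerSeries.map f (lamSeries x) = lamSeries (f x) := by
  ext n
  rw [PowerSeries.coeff_map, coeff_lamSeries, coeff_lamSeries, hf.isLambdaHom]

theorem star_eq (hK : HasSplitting K P) (he : e ∈ P.pos) (hf : IsExtension P P' f)
    (hK' : HasSplitting K' P') (s : Multiset K') (hs : ∀ u ∈ s, P'.IsLine u)
    (hsum : s.sum = f e) (q : Polynomial K) :
    PowerSeries.map (jf P e P' f hf)
        (LA P e ((AdjoinRoot.of _ e - AdjoinRoot.root _) * AdjoinRoot.mk _ q)) *
      PowerSeries.rescale (AdjoinRoot.root (KRR.extPoly P' (f e)))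
        (PowerSeries.map (jf P e P' f hf) (LA P e (AdjoinRoot.mk _ q))) =
      (s.map (fun u => PowerSeries.rescale (AdjoinRoot.of (KRR.extPoly P' (f e)) u)
        (PowerSeries.map (jf P e P' f hf) (LA P e (AdjoinRoot.mk _ q))))).prod := by
  have e1 : (AdjoinRoot.of (KRR.extPoly P e) e - AdjoinRoot.root _) * AdjoinRoot.mk _ q =
      AdjoinRoot.mk _ ((Polynomial.C e - Polynomial.X) * q) := by
    rw [map_mul, map_sub, AdjoinRoot.mk_C, AdjoinRoot.mk_X]
  rw [e1, LA_mk P e hK he, LA_mk P e hK he, map_jf_Lgen, map_jf_Lgen, Polynomial.map_mul,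
    Polynomial.map_sub, Polynomial.map_C, Polynomial.map_X, ← Lgen_mul_X,
    ← Lgen_C_sum_lines P' hK' _ _ s hs, hsum, ← Lgen_add]
  congr 1
  ring

theorem dia_eq (hK : HasSplitting K P) (he : e ∈ P.pos) (hf : IsExtension P P' f)
    (s : Multiset K') (hs : ∀ u ∈ s, P'.IsLine u) (hsum : s.sum = f e) :
    (1 + PowerSeries.C (AdjoinRoot.root (KRR.extPoly P' (f e))) * PowerSeries.X) *
      PowerSeries.map (jf P e P' f hf) (LA P e (AdjoinRoot.of _ e - AdjoinRoot.root _)) =
      (s.map (fun u => (1 + PowerSeries.C (AdjoinRoot.of (KRR.extPoly P' (f e)) u) *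
        PowerSeries.X : PowerSeries (AdjoinRoot (KRR.extPoly P' (f e)))))).prod := by
  have hspec : (1 + PowerSeries.C (AdjoinRoot.root (KRR.extPoly P e)) * PowerSeries.X) *
      LA P e (AdjoinRoot.of _ e - AdjoinRoot.root _) =
      PowerSeries.map (AdjoinRoot.of _) (lamSeries e) := by
    rw [← LA_root P e hK he, ← LA_add P e hK he, add_sub_cancel, LA_of P e hK he]
  have h1 := congrArg (PowerSeries.map (jf P e P' f hf)) hspec
  rw [map_mul, map_add, map_one, map_mul, PowerSeries.map_C, PowerSeries.map_X, jf_root] at h1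
  rw [h1, map_map']
  have h2 : (jf P e P' f hf).comp (AdjoinRoot.of (KRR.extPoly P e)) =
      (AdjoinRoot.of (KRR.extPoly P' (f e))).comp f := by
    ext x; simp [jf_of]
  rw [h2, ← map_map', map_f_lamSeries P P' f hf, ← hsum, lamSeries_lines_sum P' s hs,
    map_multiset_prod, Multiset.map_map]
  congr 1
  apply Multiset.map_congr rfl
  intro u _
  simp [PowerSeries.map_C, PowerSeries.map_X]

theorem mulA_eq (hK : HasSplitting K P) (he : e ∈ P.pos) (hf : IsExtension P P' f)
    (hK' : HasSplitting K' P') (a : K) (t : Multiset K') (ht : ∀ u ∈ t, P'.IsLine u)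
    (hsum : t.sum = f a) (q : Polynomial K) :
    PowerSeries.map (jf P e P' f hf) (LA P e (AdjoinRoot.of _ a * AdjoinRoot.mk _ q)) =
      (t.map (fun u => PowerSeries.rescale (AdjoinRoot.of (KRR.extPoly P' (f e)) u)
        (PowerSeries.map (jf P e P' f hf) (LA P e (AdjoinRoot.mk _ q))))).prod := by
  rw [← AdjoinRoot.mk_C a, ← map_mul, LA_mk P e hK he, LA_mk P e hK he, map_jf_Lgen, map_jf_Lgen,
    Polynomial.map_mul, Polynomial.map_C, ← hsum, Lgen_C_sum_lines P' hK' _ _ t ht]

end compare

section nice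
variable {K : Type u} [CommRing K] [LambdaOps K] (P : PosStructure K) (e : K)

theorem GA_polyTop (hK : HasSplitting K P) (he : e ∈ P.pos) (r : ℕ)
    (hr : (P.aug e).toNat = r + 1) :
    ∃ γ : AdjoinRoot (KRR.extPoly P e), IsUnit γ ∧ IsUnit (AdjoinRoot.root (KRR.extPoly P e)) ∧
      PolyTop (LA P e (AdjoinRoot.of _ e - AdjoinRoot.root _)) r γ := by
  have hspec : (1 + PowerSeries.C (AdjoinRoot.root (KRR.extPoly P e)) * PowerSeries.X) *
      LA P e (AdjoinRoot.of _ e - AdjoinRoot.root _) =
      PowerSeries.map (AdjoinRoot.of _) (lamSeries e) := by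
    rw [← LA_root P e hK he, ← LA_add P e hK he, add_sub_cancel, LA_of P e hK he]
  have hF : ∀ i, r + 1 < i →
      PowerSeries.coeff i (PowerSeries.map (AdjoinRoot.of (KRR.extPoly P e)) (lamSeries e)) = 0 := by
    intro i hi
    rw [PowerSeries.coeff_map, coeff_lamSeries,
      P.lam_eq_zero e he i (by rw [← toNat_cast P e he, hr]; exact_mod_cast hi), map_zero]
  have hroot : ∑ i ∈ Finset.range (r + 2),
      PowerSeries.coeff i (PowerSeries.map (AdjoinRoot.of (KRR.extPoly P e)) (lamSeries e)) *
        (-(AdjoinRoot.root (KRR.extPoly P e))) ^ (r + 1 - i) = 0 := by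
    have h1 : Polynomial.eval₂ (AdjoinRoot.of (KRR.extPoly P e)) (AdjoinRoot.root _)
        (∑ i ∈ Finset.range (r + 2), Polynomial.C ((-1 : K) ^ i * LambdaOps.lam i e) *
          Polynomial.X ^ (r + 1 - i)) = 0 := by
      have : KRR.extPoly P e = ∑ i ∈ Finset.range (r + 2),
          Polynomial.C ((-1 : K) ^ i * LambdaOps.lam i e) * Polynomial.X ^ (r + 1 - i) := by
        unfold KRR.extPoly; rw [hr]
      rw [← this]; exact AdjoinRoot.eval₂_root _
    rw [Polynomial.eval₂_finsetSum] at h1
    have h2 : ∀ i ∈ Finset.range (r + 2),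
        PowerSeries.coeff i (PowerSeries.map (AdjoinRoot.of (KRR.extPoly P e)) (lamSeries e)) *
          (-(AdjoinRoot.root (KRR.extPoly P e))) ^ (r + 1 - i) =
        (-1) ^ (r + 1) * Polynomial.eval₂ (AdjoinRoot.of (KRR.extPoly P e)) (AdjoinRoot.root _)
          (Polynomial.C ((-1 : K) ^ i * LambdaOps.lam i e) * Polynomial.X ^ (r + 1 - i)) := by
      intro i hi
      rw [Finset.mem_range] at hi
      rw [PowerSeries.coeff_map, coeff_lamSeries, Polynomial.eval₂_mul, Polynomial.eval₂_C,
        Polynomial.eval₂_pow, Polynomial.eval₂_X, map_mul, map_pow, map_neg, map_one,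
        neg_pow (AdjoinRoot.root (KRR.extPoly P e)), neg_one_pow_sub (show i ≤ r + 1 by omega)]
      ring
    rw [Finset.sum_congr rfl h2, ← Finset.mul_sum, h1, mul_zero]
  obtain ⟨hvan, htop⟩ := div_linear
    (F := PowerSeries.map (AdjoinRoot.of (KRR.extPoly P e)) (lamSeries e))
    (F' := LA P e (AdjoinRoot.of _ e - AdjoinRoot.root _)) (d := r)
    (AdjoinRoot.root (KRR.extPoly P e)) hF hroot hspec
  have hunit : IsUnit (AdjoinRoot.root (KRR.extPoly P e) *
      PowerSeries.coeff r (LA P e (AdjoinRoot.of _ e - AdjoinRoot.root _))) := by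
    rw [htop, PowerSeries.coeff_map, coeff_lamSeries, ← hr]
    exact (P.isUnit_lam e he).map _
  exact ⟨_, isUnit_of_mul_isUnit_right hunit, isUnit_of_mul_isUnit_left hunit, hvan, rfl⟩

/-- `λ_t(z)` is a polynomial of degree `ε(z) > 0` with unit top coefficient -/
def NiceA (hK : HasSplitting K P) (he : e ∈ P.pos) (z : AdjoinRoot (KRR.extPoly P e)) : Prop :=
  ∃ (d : ℕ) (c : AdjoinRoot (KRR.extPoly P e)), IsUnit c ∧ augA P e hK he z = (d : ℤ) ∧ 0 < d ∧
    PolyTop (LA P e z) d c

variable (hK : HasSplitting K P) (he : e ∈ P.pos)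

theorem nice_add {x y : AdjoinRoot (KRR.extPoly P e)} (hx : NiceA P e hK he x)
    (hy : NiceA P e hK he y) : NiceA P e hK he (x + y) := by
  obtain ⟨d, c, hc, hd, hpos, hp⟩ := hx
  obtain ⟨d', c', hc', hd', hpos', hp'⟩ := hy
  refine ⟨d + d', c * c', hc.mul hc', ?_, by omega, ?_⟩
  · rw [map_add, hd, hd']; push_cast; ring
  · rw [LA_add P e hK he]; exact hp.mul hp'

theorem nice_of_pos (a : K) (ha : a ∈ P.pos) : NiceA P e hK he (AdjoinRoot.of _ a) := by
  refine ⟨(P.aug a).toNat, AdjoinRoot.of _ (LambdaOps.lam (P.aug a).toNat a),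
    (P.isUnit_lam a ha).map _, ?_, ?_, ?_⟩
  · rw [augA_of, toNat_cast P a ha]
  · have := P.aug_pos a ha; omega
  · rw [LA_of P e hK he]
    apply PolyTop.map
    exact ⟨fun i hi => by
      rw [coeff_lamSeries]
      exact P.lam_eq_zero a ha i (by rw [← toNat_cast P a ha]; exact_mod_cast hi),
      coeff_lamSeries _ _⟩

theorem nice_root_mul {z : AdjoinRoot (KRR.extPoly P e)} (hz : NiceA P e hK he z) :
    NiceA P e hK he (AdjoinRoot.root _ * z) := by
  obtain ⟨d, c, hc, hd, hpos, hp⟩ := hz
  obtain ⟨r, hr⟩ := toNat_pos P e he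
  obtain ⟨γ, _, hℓ, _⟩ := GA_polyTop P e hK he r hr
  refine ⟨d, AdjoinRoot.root _ ^ d * c, (hℓ.pow d).mul hc, ?_, hpos, ?_⟩
  · rw [map_mul, augA_root, one_mul, hd]
  · rw [LA_root_mul P e hK he]; exact hp.rescale _

theorem nice_of_mul (a : K) (ha : a ∈ P.pos) {z : AdjoinRoot (KRR.extPoly P e)}
    (hz : NiceA P e hK he z) : NiceA P e hK he (AdjoinRoot.of _ a * z) := by
  obtain ⟨d, c, hc, hd, hpos, hp⟩ := hz
  obtain ⟨q, rfl⟩ := AdjoinRoot.mk_surjective z
  obtain ⟨K', _, _, P', f, hK', hf, t, ht, hsum⟩ := exists_split P hK a ha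
  obtain ⟨n, hn⟩ : ∃ n : ℕ, (P.aug a).toNat = n := ⟨_, rfl⟩
  have hcard : Multiset.card t = n := by
    have := card_lines P' t ht
    rw [hsum, hf.aug_comp] at this
    rw [← hn, this, Int.toNat_natCast]
  have hnpos : 0 < n := by
    have := P.aug_pos a ha; omega
  have hunit : IsUnit (AdjoinRoot.of (KRR.extPoly P e) (LambdaOps.lam n a)) := by
    rw [← hn]; exact (P.isUnit_lam a ha).map _
  refine ⟨n * d, AdjoinRoot.of _ (LambdaOps.lam n a) ^ d * c ^ n,
    (hunit.pow d).mul (hc.pow n), ?_, Nat.mul_pos hnpos hpos, ?_⟩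
  · rw [map_mul, augA_of, hd, ← toNat_cast P a ha, hn]; push_cast; rfl
  · apply PolyTop.of_map (jf P e P' f hf) (jf_injective P e P' f hf he)
    rw [mulA_eq P e P' f hK he hf hK' a t ht hsum q]
    have h2 := polyTop_prod_rescale (hp.map (jf P e P' f hf))
      (t.map (AdjoinRoot.of (KRR.extPoly P' (f e))))
    simp only [Multiset.map_map, Function.comp_def] at h2
    have htop : jf P e P' f hf (AdjoinRoot.of _ (LambdaOps.lam n a)) =
        (t.map (AdjoinRoot.of (KRR.extPoly P' (f e)))).prod := by
      rw [jf_of, hf.isLambdaHom, ← hsum, ← hcard, lam_card_lines P' t ht, map_multiset_prod]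
    refine h2.congr (by rw [Multiset.card_map, hcard]) ?_
    rw [map_mul, map_pow, map_pow, htop, Multiset.card_map, hcard]

theorem nice_sub_mul (h2m : 2 ≤ (P.aug e).toNat) {z : AdjoinRoot (KRR.extPoly P e)}
    (hz : NiceA P e hK he z) :
    NiceA P e hK he ((AdjoinRoot.of _ e - AdjoinRoot.root _) * z) := by
  obtain ⟨d, c, hc, hd, hpos, hp⟩ := hz
  obtain ⟨q, rfl⟩ := AdjoinRoot.mk_surjective z
  obtain ⟨r, hr⟩ := toNat_pos P e he
  obtain ⟨γ, hγ, hℓ, hG⟩ := GA_polyTop P e hK he r hr
  obtain ⟨K', _, _, P', f, hK', hf, s, hs, hsum⟩ := exists_split P hK e he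
  refine ⟨d * r, c ^ r * γ ^ d, (hc.pow r).mul (hγ.pow d), ?_, ?_, ?_⟩
  · rw [map_mul, map_sub, augA_of, augA_root, hd, ← toNat_cast P e he, hr]; push_cast; ring
  · exact Nat.mul_pos hpos (by omega)
  · apply PolyTop.of_map (jf P e P' f hf) (jf_injective P e P' f hf he)
    have hF' : PolyTop (PowerSeries.map (jf P e P' f hf) (LA P e (AdjoinRoot.mk _ q))) d
        (jf P e P' f hf c) := hp.map _
    have hF'0 : PowerSeries.constantCoeff
        (PowerSeries.map (jf P e P' f hf) (LA P e (AdjoinRoot.mk _ q))) = 1 := by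
      rw [← PowerSeries.coeff_zero_eq_constantCoeff_apply, PowerSeries.coeff_map,
        PowerSeries.coeff_zero_eq_constantCoeff_apply, LA_constantCoeff, map_one]
    obtain ⟨R'', instR'', h, W, hinj, hW, hWcard, hWprod⟩ :=
      exists_split_series d _ _ (jf P e P' f hf c) hF' hF'0
    apply PolyTop.of_map h hinj
    have hstar := star_eq P e P' f hK he hf hK' s hs hsum q
    have hdia := dia_eq P e P' f hK he hf s hs hsum
    have hstar' : PowerSeries.map (jf P e P' f hf)
        (LA P e ((AdjoinRoot.of _ e - AdjoinRoot.root _) * AdjoinRoot.mk _ q)) *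
        PowerSeries.rescale (AdjoinRoot.root (KRR.extPoly P' (f e)))
          (PowerSeries.map (jf P e P' f hf) (LA P e (AdjoinRoot.mk _ q))) =
        ((s.map (AdjoinRoot.of (KRR.extPoly P' (f e)))).map (fun u => PowerSeries.rescale u
          (PowerSeries.map (jf P e P' f hf) (LA P e (AdjoinRoot.mk _ q))))).prod := by
      rw [hstar, Multiset.map_map]; rfl
    have hdia' : (1 + PowerSeries.C (AdjoinRoot.root (KRR.extPoly P' (f e))) * PowerSeries.X) *
        PowerSeries.map (jf P e P' f hf) (LA P e (AdjoinRoot.of _ e - AdjoinRoot.root _)) =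
        ((s.map (AdjoinRoot.of (KRR.extPoly P' (f e)))).map (fun u =>
          (1 + PowerSeries.C u * PowerSeries.X :
            PowerSeries (AdjoinRoot (KRR.extPoly P' (f e)))))).prod := by
      rw [hdia, Multiset.map_map]; rfl
    rw [theta_split h _ _ _ _ _ W hstar' hdia' hW hF'0]
    have h2 := polyTop_prod_rescale ((hG.map (jf P e P' f hf)).map h) W
    refine h2.congr (by rw [hWcard]) ?_
    rw [hWprod, hWcard, map_mul, map_mul, map_pow, map_pow, map_pow, map_pow]

end nice

section final
variable {K : Type u} [CommRing K] [LambdaOps K] (P : PosStructure K) (e : K)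

/-- the generating monomials of the positive cone -/
def Mon : Set (AdjoinRoot (KRR.extPoly P e)) :=
  {y | ∃ a ∈ P.pos, ∃ i j : ℕ, (j = 0 ∨ 2 ≤ (P.aug e).toNat) ∧
    y = AdjoinRoot.of _ a *
      (AdjoinRoot.root _ ^ i * (AdjoinRoot.of _ e - AdjoinRoot.root _) ^ j)}

theorem mon_mul {y y' : AdjoinRoot (KRR.extPoly P e)} (hy : y ∈ Mon P e) (hy' : y' ∈ Mon P e) :
    y * y' ∈ Mon P e := by
  obtain ⟨a, ha, i, j, hj, rfl⟩ := hy
  obtain ⟨a', ha', i', j', hj', rfl⟩ := hy'
  refine ⟨a * a', P.mul_mem a a' ha ha', i + i', j + j', ?_, ?_⟩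
  · rcases hj with rfl | h
    · rcases hj' with rfl | h'
      · left; rfl
      · right; exact h'
    · right; exact h
  · rw [map_mul, pow_add, pow_add]; ring

theorem of_mem_mon (a : K) (ha : a ∈ P.pos) : AdjoinRoot.of _ a ∈ Mon P e :=
  ⟨a, ha, 0, 0, Or.inl rfl, by simp⟩

/-- the positive cone of the elementary extension -/
noncomputable def EA : AddSubsemigroup (AdjoinRoot (KRR.extPoly P e)) := AddSubsemigroup.closure (Mon P e)

theorem EA_mul {x y : AdjoinRoot (KRR.extPoly P e)} (hx : x ∈ EA P e) (hy : y ∈ EA P e) :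
    x * y ∈ EA P e := by
  unfold EA at hx hy ⊢
  induction hx using AddSubsemigroup.closure_induction with
  | mem x hx =>
    induction hy using AddSubsemigroup.closure_induction with
    | mem y hy => exact AddSubsemigroup.subset_closure (mon_mul P e hx hy)
    | add y z _ _ hy hz => rw [mul_add]; exact add_mem hy hz
  | add x z _ _ hx hz => rw [add_mul]; exact add_mem hx hz

theorem EA_exists_sub (x : AdjoinRoot (KRR.extPoly P e)) :
    ∃ a b, a ∈ EA P e ∧ b ∈ EA P e ∧ x = a - b := by
  obtain ⟨q, rfl⟩ := AdjoinRoot.mk_surjective x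
  induction q using Polynomial.induction_on' with
  | add p q hp hq =>
    obtain ⟨a, b, ha, hb, hab⟩ := hp
    obtain ⟨a', b', ha', hb', hab'⟩ := hq
    exact ⟨a + a', b + b', add_mem ha ha', add_mem hb hb', by rw [map_add, hab, hab']; ring⟩
  | monomial j x =>
    obtain ⟨a, b, ha, hb, rfl⟩ := P.exists_sub x
    refine ⟨AdjoinRoot.of _ a * AdjoinRoot.root _ ^ j, AdjoinRoot.of _ b * AdjoinRoot.root _ ^ j,
      ?_, ?_, ?_⟩
    · exact AddSubsemigroup.subset_closure ⟨a, ha, j, 0, Or.inl rfl, by simp⟩
    · exact AddSubsemigroup.subset_closure ⟨b, hb, j, 0, Or.inl rfl, by simp⟩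
    · rw [← Polynomial.C_mul_X_pow_eq_monomial, map_mul, map_pow, AdjoinRoot.mk_C,
        AdjoinRoot.mk_X, map_sub]
      ring

theorem EA_natCast (n : ℕ) : ((n + 1 : ℕ) : AdjoinRoot (KRR.extPoly P e)) ∈ EA P e := by
  have h1 : (1 : AdjoinRoot (KRR.extPoly P e)) ∈ EA P e := by
    have := AddSubsemigroup.subset_closure (of_mem_mon P e 1 (isLine_one P).1)
    rwa [map_one] at this
  induction n with
  | zero => simpa using h1
  | succ n ih => rw [Nat.cast_succ]; exact add_mem ih h1

variable (hK : HasSplitting K P) (he : e ∈ P.pos)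

theorem nice_one : NiceA P e hK he 1 := by
  have := nice_of_pos P e hK he 1 (isLine_one P).1
  rwa [map_one] at this

theorem nice_pow_sub (h2m : 2 ≤ (P.aug e).toNat) (j : ℕ) :
    NiceA P e hK he ((AdjoinRoot.of _ e - AdjoinRoot.root _) ^ j) := by
  induction j with
  | zero => rw [pow_zero]; exact nice_one P e hK he
  | succ j ih => rw [pow_succ']; exact nice_sub_mul P e hK he h2m ih

theorem nice_root_pow_mul (i : ℕ) {z : AdjoinRoot (KRR.extPoly P e)} (hz : NiceA P e hK he z) :
    NiceA P e hK he (AdjoinRoot.root _ ^ i * z) := by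
  induction i with
  | zero => rwa [pow_zero, one_mul]
  | succ i ih => rw [pow_succ', mul_assoc]; exact nice_root_mul P e hK he ih

theorem nice_mon {y : AdjoinRoot (KRR.extPoly P e)} (hy : y ∈ Mon P e) : NiceA P e hK he y := by
  obtain ⟨a, ha, i, j, hj, rfl⟩ := hy
  apply nice_of_mul P e hK he a ha
  apply nice_root_pow_mul
  rcases hj with rfl | h2m
  · rw [pow_zero]; exact nice_one P e hK he
  · exact nice_pow_sub P e hK he h2m j

theorem EA_nice {x : AdjoinRoot (KRR.extPoly P e)} (hx : x ∈ EA P e) : NiceA P e hK he x := by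
  unfold EA at hx
  induction hx using AddSubsemigroup.closure_induction with
  | mem x hx => exact nice_mon P e hK he hx
  | add x y _ _ hx hy => exact nice_add P e hK he hx hy

/-- the λ-operations of the elementary extension -/
noncomputable def lamInst : LambdaOps (AdjoinRoot (KRR.extPoly P e)) where
  lam i a := PowerSeries.coeff i (LA P e a)
  lam_zero a := by rw [PowerSeries.coeff_zero_eq_constantCoeff_apply, LA_constantCoeff]
  lam_one a := LA_coeff_one P e hK he a
  lam_add k x y := by
    rw [LA_add P e hK he, PowerSeries.coeff_mul, Finset.Nat.sum_antidiagonal_eq_sum_range_succ_mk]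

/-- the positive structure of the elementary extension -/
noncomputable def posInst :
    @PosStructure (AdjoinRoot (KRR.extPoly P e)) _ (lamInst P e hK he) :=
  letI := lamInst P e hK he
  { aug := augA P e hK he
    aug_surjective := by
      intro n
      obtain ⟨x, hx⟩ := P.aug_surjective n
      exact ⟨AdjoinRoot.of _ x, by rw [augA_of, hx]⟩
    pos := (EA P e : Set _)
    add_mem := fun x y hx hy => (EA P e).add_mem hx hy
    mul_mem := fun x y hx hy => EA_mul P e hx hy
    natCast_mem := by
      intro n hn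
      obtain ⟨m, rfl⟩ : ∃ m, n = m + 1 := ⟨n - 1, by omega⟩
      exact EA_natCast P e m
    exists_sub := fun x => EA_exists_sub P e x
    aug_pos := by
      intro x hx
      obtain ⟨d, c, hc, hd, hpos, hp⟩ := EA_nice P e hK he hx
      rw [hd]; exact_mod_cast hpos
    lam_eq_zero := by
      intro x hx i hi
      obtain ⟨d, c, hc, hd, hpos, hp⟩ := EA_nice P e hK he hx
      rw [hd] at hi
      exact hp.1 i (by exact_mod_cast hi)
    isUnit_lam := by
      intro x hx
      obtain ⟨d, c, hc, hd, hpos, hp⟩ := EA_nice P e hK he hx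
      rw [hd, Int.toNat_natCast]
      show IsUnit (PowerSeries.coeff d (LA P e x))
      rw [hp.2]; exact hc }

end final

/-- S3778 -/
theorem main3778 (K : Type u) [CommRing K] [LambdaOps K] (P : PosStructure K)
    (hK : HasSplitting K P) (e : K) (he : e ∈ P.pos) :
    ∃ (inst : LambdaOps (AdjoinRoot (KRR.extPoly P e))) (Pe : @PosStructure _ _ inst),
      (∀ (i : ℕ) (x : K), @LambdaOps.lam _ _ inst i (AdjoinRoot.of (KRR.extPoly P e) x) =
        AdjoinRoot.of (KRR.extPoly P e) (LambdaOps.lam i x)) ∧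
      (∀ i : ℕ, 2 ≤ i → @LambdaOps.lam _ _ inst i (AdjoinRoot.root (KRR.extPoly P e)) = 0) ∧
      @IsExtension K _ _ _ _ inst P Pe (AdjoinRoot.of (KRR.extPoly P e)) ∧
      @PosStructure.IsLine _ _ inst Pe (AdjoinRoot.root (KRR.extPoly P e)) ∧
      (2 ≤ P.aug e → AdjoinRoot.of (KRR.extPoly P e) e - AdjoinRoot.root (KRR.extPoly P e) ∈
        (@PosStructure.pos _ _ inst Pe)) := by
  have hlamof : ∀ (i : ℕ) (x : K), PowerSeries.coeff i (LA P e (AdjoinRoot.of _ x)) =
      AdjoinRoot.of _ (LambdaOps.lam i x) := by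
    intro i x; rw [LA_of P e hK he, PowerSeries.coeff_map, coeff_lamSeries]
  refine ⟨lamInst P e hK he, posInst P e hK he, hlamof, ?_, ?_, ?_, ?_⟩
  · intro i hi
    show PowerSeries.coeff i (LA P e (AdjoinRoot.root _)) = 0
    rw [LA_root P e hK he, map_add, PowerSeries.coeff_one, if_neg (by omega), zero_add,
      PowerSeries.coeff_C_mul, PowerSeries.coeff_X, if_neg (by omega), mul_zero]
  · letI := lamInst P e hK he
    refine ⟨fun i x => (hlamof i x).symm, ?_, fun x => augA_of P e hK he x,
      fun a ha => AddSubsemigroup.subset_closure (of_mem_mon P e a ha)⟩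
    haveI : Nontrivial K := RingHom.domain_nontrivial P.aug
    obtain ⟨r, hr⟩ := toNat_pos P e he
    exact of_injective_of_monic (extPoly_monic P e he) (by rw [extPoly_natDegree P e he]; omega)
  · exact ⟨AddSubsemigroup.subset_closure ⟨1, (isLine_one P).1, 1, 0, Or.inl rfl, by simp⟩,
      augA_root P e hK he⟩
  · intro h2
    exact AddSubsemigroup.subset_closure
      ⟨1, (isLine_one P).1, 0, 1, Or.inr (by omega), by simp⟩

end Groth.Agent.Lib.ElemExtLamH1
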