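import Groth.Agent.Lib.LambdaRing_helper1
import Mathlib.RingTheory.PowerSeries.Substitution
import Mathlib.RingTheory.PowerSeries.WellKnown

/-!
# γ-operations as the substitution `t ↦ t/(1-t)` in `λ_t` (helper1)

APPEND-ONLY: do not change statements of landed lemmas.
-/

universe u

open PowerSeries Finset

namespace Groth.Agent.Lib.LambdaRingH1

open LambdaRing

variable {K : Type u} [CommRing K] [LambdaOps K]

/-- the generating series `γ_t(x) = Σ γ^k(x) t^k` -/
noncomputable def gammaSeries (x : K) : PowerSeries K := PowerSeries.mk fun k => gamma k x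

theorem coeff_gammaSeries (x : K) (k : ℕ) : PowerSeries.coeff k (gammaSeries x) = gamma k x := by
  simp [gammaSeries]

variable (K) in
/-- the series `t/(1-t) = t + t^2 + ...` -/
noncomputable def tOverOneSub : PowerSeries K := PowerSeries.X * PowerSeries.mk 1

omit [LambdaOps K] in
theorem hasSubst_tOverOneSub : PowerSeries.HasSubst (tOverOneSub K) :=
  PowerSeries.HasSubst.of_constantCoeff_zero' (by simp [tOverOneSub])

omit [LambdaOps K] in
theorem coeff_tOverOneSub_pow_succ (k d : ℕ) :
    PowerSeries.coeff k ((tOverOneSub K) ^ (d + 1)) =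
      if d + 1 ≤ k then ((k - 1).choose d : K) else 0 := by
  rw [tOverOneSub, mul_pow, PowerSeries.mk_one_pow_eq_mk_choose_add, PowerSeries.coeff_X_pow_mul']
  split_ifs with h
  · rw [PowerSeries.coeff_mk]
    have : d + (k - (d + 1)) = k - 1 := by omega
    rw [this]
  · rfl

omit [LambdaOps K] in
theorem coeff_tOverOneSub_pow_of_lt (k d : ℕ) (h : k < d) :
    PowerSeries.coeff k ((tOverOneSub K) ^ d) = 0 := by
  obtain ⟨d, rfl⟩ : ∃ e, d = e + 1 := ⟨d - 1, by omega⟩
  rw [coeff_tOverOneSub_pow_succ, if_neg (by omega)]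

theorem gammaSeries_eq_subst (x : K) :
    gammaSeries x = (lamSeries x).subst (tOverOneSub K) := by
  ext k
  rw [coeff_gammaSeries, PowerSeries.coeff_subst' hasSubst_tOverOneSub,
    finsum_eq_sum_of_support_subset (s := range (k + 1))]
  · simp only [coeff_lamSeries, smul_eq_mul]
    rw [gamma]
    split_ifs with hk
    · subst hk
      simp [LambdaOps.lam_zero]
    · refine (Finset.sum_congr rfl (fun j hj => ?_)).symm
      rw [Finset.mem_range] at hj
      rcases j with _ | j
      · simp [PowerSeries.coeff_one, hk]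
      · rw [coeff_tOverOneSub_pow_succ, if_pos (by omega)]
        simp only [Nat.succ_ne_zero, if_false, Nat.add_sub_cancel]
        ring
  · intro d hd
    rw [Function.mem_support] at hd
    by_contra hlt
    apply hd
    have : k < d := by
      simp only [Finset.coe_range, Set.mem_Iio, not_lt] at hlt
      omega
    rw [coeff_tOverOneSub_pow_of_lt k d this, smul_zero]

theorem gammaSeries_add (x y : K) : gammaSeries (x + y) = gammaSeries x * gammaSeries y := by
  rw [gammaSeries_eq_subst, gammaSeries_eq_subst, gammaSeries_eq_subst, lamSeries_add,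
    PowerSeries.subst_mul hasSubst_tOverOneSub]

theorem gamma_add (k : ℕ) (x y : K) :
    gamma k (x + y) = ∑ i ∈ range (k + 1), gamma i x * gamma (k - i) y := by
  rw [← coeff_gammaSeries, gammaSeries_add, PowerSeries.coeff_mul,
    Finset.Nat.sum_antidiagonal_eq_sum_range_succ_mk]
  simp only [coeff_gammaSeries]

theorem gammaSeries_zero : gammaSeries (0 : K) = 1 := by
  rw [gammaSeries_eq_subst, lamSeries_zero]
  have : (1 : PowerSeries K) = PowerSeries.C (1 : K) := by simp
  rw [this, PowerSeries.subst_C]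
  simp

theorem gammaSeries_sum {ι : Type*} (s : Finset ι) (f : ι → K) :
    gammaSeries (∑ i ∈ s, f i) = ∏ i ∈ s, gammaSeries (f i) := by
  classical
  induction s using Finset.induction_on with
  | empty => simp [gammaSeries_zero]
  | insert a s ha ih => rw [Finset.sum_insert ha, Finset.prod_insert ha, gammaSeries_add, ih]

theorem gammaSeries_of_line {L : K} (hL : ∀ j : ℕ, 2 ≤ j → LambdaOps.lam j L = 0) :
    gammaSeries L = 1 + PowerSeries.C L * (tOverOneSub K) := by
  rw [gammaSeries_eq_subst, lamSeries_of_line hL, PowerSeries.subst_add hasSubst_tOverOneSub,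
    PowerSeries.subst_mul hasSubst_tOverOneSub, PowerSeries.subst_X hasSubst_tOverOneSub]
  have h1 : (1 : PowerSeries K) = PowerSeries.C (1 : K) := by simp
  rw [h1, PowerSeries.subst_C, PowerSeries.subst_C]
  simp only [map_one]
  rfl

omit [LambdaOps K] in
theorem one_add_tOverOneSub : (1 : PowerSeries K) + tOverOneSub K = PowerSeries.mk 1 := by
  have h := PowerSeries.mk_one_mul_one_sub_eq_one K
  rw [tOverOneSub]
  linear_combination (-1 : PowerSeries K) * h

/-- `γ_t(L - 1) = 1 + (L - 1) t` for a line-like `L`, when `λ_t(1) = 1 + t`. -/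
theorem gammaSeries_line_sub_one (h1 : ∀ k : ℕ, 2 ≤ k → LambdaOps.lam k (1 : K) = 0) {L : K}
    (hL : ∀ j : ℕ, 2 ≤ j → LambdaOps.lam j L = 0) :
    gammaSeries (L - 1) = 1 + PowerSeries.C (L - 1) * PowerSeries.X := by
  have hadd : gammaSeries (L - 1) * gammaSeries (1 : K) = gammaSeries L := by
    rw [← gammaSeries_add, sub_add_cancel]
  rw [gammaSeries_of_line hL, gammaSeries_of_line h1, map_one, one_mul, one_add_tOverOneSub] at hadd
  have h := PowerSeries.mk_one_mul_one_sub_eq_one K
  have h2 : gammaSeries (L - 1) = (1 + PowerSeries.C L * tOverOneSub K) * (1 - PowerSeries.X) := by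
    rw [← hadd, mul_assoc, h, mul_one]
  rw [h2, tOverOneSub, map_sub, map_one]
  linear_combination (PowerSeries.C L * PowerSeries.X) * h

theorem gamma_sum_line_sub_one (h1 : ∀ k : ℕ, 2 ≤ k → LambdaOps.lam k (1 : K) = 0)
    {ι : Type*} [DecidableEq ι] (s : Finset ι) (y : ι → K)
    (hy : ∀ i ∈ s, ∀ j : ℕ, 2 ≤ j → LambdaOps.lam j (y i) = 0) (k : ℕ) :
    gamma k (∑ i ∈ s, (y i - 1)) = ∑ t ∈ s.powersetCard k, ∏ i ∈ t, (y i - 1) := by
  rw [← coeff_gammaSeries, gammaSeries_sum]
  have : ∏ i ∈ s, gammaSeries (y i - 1) =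
      ∏ i ∈ s, (PowerSeries.C (y i - 1) * PowerSeries.X + 1) := by
    refine Finset.prod_congr rfl (fun i hi => ?_)
    rw [gammaSeries_line_sub_one h1 (hy i hi), add_comm]
  rw [this, Finset.prod_add]
  simp only [Finset.prod_const_one, mul_one, Finset.prod_mul_distrib, Finset.prod_const, map_sum]
  rw [← Finset.sum_filter_add_sum_filter_not s.powerset (fun t => t.card = k)]
  have hz : ∑ t ∈ s.powerset with ¬ t.card = k,
      PowerSeries.coeff k ((∏ i ∈ t, PowerSeries.C (y i - 1)) * PowerSeries.X ^ t.card) = 0 := by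
    refine Finset.sum_eq_zero (fun t ht => ?_)
    rw [Finset.mem_filter] at ht
    rw [← map_prod, PowerSeries.coeff_C_mul, PowerSeries.coeff_X_pow, if_neg (Ne.symm ht.2), mul_zero]
  rw [hz, add_zero]
  have hfil : s.powerset.filter (fun t => t.card = k) = s.powersetCard k := by
    ext t; simp [Finset.mem_powersetCard]
  rw [hfil]
  refine Finset.sum_congr rfl (fun t ht => ?_)
  rw [Finset.mem_powersetCard] at ht
  rw [← map_prod, PowerSeries.coeff_C_mul, PowerSeries.coeff_X_pow, if_pos ht.2.symm, mul_one]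

end Groth.Agent.Lib.LambdaRingH1
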