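import Mathlib
import Groth.Agent.Lib.LambdaRing_helper1
import Groth.Agent.Lib.LambdaGamma_helper1
import Groth.Agent.Lib.LambdaSplit_helper1
import Groth.Agent.S3291

/-!
# Adams operations and the γ-filtration (helper1)

`ψ^j x - j^n x ∈ F^{n+1}` for `x ∈ F^n`, via the fundamental theorem of symmetric polynomials
with weights.

APPEND-ONLY: do not change statements of landed lemmas.
-/

universe u

namespace Groth.Agent.Lib.LambdaGAH1

open MvPolynomial

section Poly

/-- weight function `w k = k + 1` on `Fin m` -/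
def wt (m : ℕ) : Fin m → ℕ := fun k => k.1 + 1

/-- `T = aeval esymm` -/
noncomputable def TT (m : ℕ) : MvPolynomial (Fin m) ℤ →ₐ[ℤ] MvPolynomial (Fin m) ℤ :=
  aeval (fun k : Fin m => esymm (Fin m) ℤ (k.1 + 1))

theorem TT_injective (m : ℕ) : Function.Injective (TT m) := by
  have h := esymmAlgHom_injective (σ := Fin m) ℤ (n := m) (by simp)
  intro p q hpq
  apply h
  apply Subtype.ext
  rw [esymmAlgHom_apply, esymmAlgHom_apply]
  exact hpq

theorem esymm_isHomogeneous' (m r : ℕ) : (esymm (Fin m) ℤ r).IsHomogeneous r := by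
  unfold esymm
  apply IsHomogeneous.sum
  intro A hA
  rw [Finset.mem_powersetCard] at hA
  have h := IsHomogeneous.prod A (fun i => (X i : MvPolynomial (Fin m) ℤ)) (fun _ => 1)
    (fun i _ => isHomogeneous_X ℤ i)
  rw [Finset.sum_const, smul_eq_mul, mul_one, hA.2] at h
  exact h

theorem TT_monomial_isHomogeneous (m : ℕ) (d : Fin m →₀ ℕ) (c : ℤ) :
    (TT m (monomial d c)).IsHomogeneous (Finsupp.weight (wt m) d) := by
  unfold TT
  rw [aeval_monomial, MvPolynomial.algebraMap_eq]
  apply IsHomogeneous.C_mul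
  rw [Finsupp.prod, Finsupp.weight_apply, Finsupp.sum]
  apply IsHomogeneous.prod
  intro k _
  have h1 : (esymm (Fin m) ℤ (k.1 + 1)).IsHomogeneous (k.1 + 1) := esymm_isHomogeneous' _ _
  have h2 := h1.pow (d k)
  rw [smul_eq_mul, mul_comm]
  exact h2

theorem hc_TT (m n : ℕ) (Q : MvPolynomial (Fin m) ℤ) :
    homogeneousComponent n (TT m Q) = TT m (weightedHomogeneousComponent (wt m) n Q) := by
  induction Q using MvPolynomial.induction_on' with
  | monomial d c =>
    rw [homogeneousComponent_of_mem (TT_monomial_isHomogeneous m d c),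
      weightedHomogeneousComponent_of_mem (isWeightedHomogeneous_monomial (wt m) d c rfl)]
    split_ifs <;> simp
  | add p q hp hq => rw [map_add, map_add, hp, hq, map_add, map_add]

theorem weight_ge_of_degree_ge (m N : ℕ) (Q : MvPolynomial (Fin m) ℤ)
    (h : ∀ d ∈ (TT m Q).support, N ≤ d.degree) :
    ∀ d ∈ Q.support, N ≤ Finsupp.weight (wt m) d := by
  intro d hd
  by_contra hlt
  push Not at hlt
  have h1 : homogeneousComponent (Finsupp.weight (wt m) d) (TT m Q) = 0 := by
    ext d'
    rw [coeff_homogeneousComponent, coeff_zero]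
    split_ifs with hdeg
    · by_contra hne
      have := h d' (mem_support_iff.2 hne)
      omega
    · rfl
  rw [hc_TT] at h1
  have h2 : weightedHomogeneousComponent (wt m) (Finsupp.weight (wt m) d) Q = 0 :=
    TT_injective m (by rw [h1, map_zero])
  have h3 := congrArg (coeff d) h2
  rw [coeff_weightedHomogeneousComponent, if_pos rfl, coeff_zero] at h3
  exact (mem_support_iff.1 hd) h3

theorem prod_sub_prod_mem {R : Type*} [CommRing R] (I : Ideal R) {ι : Type*} [DecidableEq ι]
    (A : Finset ι) (a b : ι → R)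
    (ha : ∀ i ∈ A, a i ∈ I) (hb : ∀ i ∈ A, b i ∈ I) (hab : ∀ i ∈ A, a i - b i ∈ I ^ 2) :
    ∏ i ∈ A, a i - ∏ i ∈ A, b i ∈ I ^ (A.card + 1) ∧ ∏ i ∈ A, b i ∈ I ^ A.card := by
  induction A using Finset.induction_on with
  | empty => simp
  | insert i A hi ih =>
    obtain ⟨ih1, ih2⟩ := ih (fun k hk => ha k (Finset.mem_insert_of_mem hk))
      (fun k hk => hb k (Finset.mem_insert_of_mem hk))
      (fun k hk => hab k (Finset.mem_insert_of_mem hk))
    rw [Finset.prod_insert hi, Finset.prod_insert hi, Finset.card_insert_of_notMem hi]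
    constructor
    · have e : a i * ∏ k ∈ A, a k - b i * ∏ k ∈ A, b k =
          a i * (∏ k ∈ A, a k - ∏ k ∈ A, b k) + (a i - b i) * ∏ k ∈ A, b k := by ring
      rw [e]
      apply Ideal.add_mem
      · rw [pow_succ']
        exact Ideal.mul_mem_mul (ha i (Finset.mem_insert_self i A)) ih1
      · have e2 : I ^ (A.card + 1 + 1) = I ^ 2 * I ^ A.card := by
          rw [← pow_add]; congr 1; omega
        rw [e2]
        exact Ideal.mul_mem_mul (hab i (Finset.mem_insert_self i A)) ih2
    · rw [pow_succ']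
      exact Ideal.mul_mem_mul (hb i (Finset.mem_insert_self i A)) ih2

theorem phi_mem {R : Type*} [CommRing R] (I : Ideal R) (y : R) (hy : y ∈ I) (j : ℕ) :
    (1 + y) ^ j - 1 - (j : R) * y ∈ I ^ 2 := by
  induction j with
  | zero => simp
  | succ j ih =>
    have e : (1 + y) ^ (j + 1) - 1 - ((j + 1 : ℕ) : R) * y =
        (1 + y) * ((1 + y) ^ j - 1 - (j : R) * y) + (j : R) * (y * y) := by
      push_cast; ring
    rw [e]
    apply Ideal.add_mem
    · exact Ideal.mul_mem_left _ _ ih
    · apply Ideal.mul_mem_left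
      rw [pow_two]
      exact Ideal.mul_mem_mul hy hy

/-- `S_r = e_r((1+Y)^j - 1) - j^r e_r(Y)` -/
noncomputable def SS (m j r : ℕ) : MvPolynomial (Fin m) ℤ :=
  aeval (fun i : Fin m => (1 + X i : MvPolynomial (Fin m) ℤ) ^ j - 1) (esymm (Fin m) ℤ r) -
    (j : MvPolynomial (Fin m) ℤ) ^ r * esymm (Fin m) ℤ r

theorem SS_eq (m j r : ℕ) : SS m j r =
    ∑ A ∈ (Finset.univ : Finset (Fin m)).powersetCard r,
      (∏ i ∈ A, ((1 + X i : MvPolynomial (Fin m) ℤ) ^ j - 1) -
        ∏ i ∈ A, ((j : MvPolynomial (Fin m) ℤ) * X i)) := by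
  unfold SS esymm
  rw [Finset.mul_sum, map_sum, ← Finset.sum_sub_distrib]
  apply Finset.sum_congr rfl
  intro A hA
  rw [Finset.mem_powersetCard] at hA
  rw [map_prod, Finset.prod_mul_distrib, Finset.prod_const, hA.2]
  simp only [aeval_X]

theorem SS_isSymmetric (m j r : ℕ) : (SS m j r).IsSymmetric := by
  intro e
  unfold SS
  have hs : rename e (esymm (Fin m) ℤ r) = esymm (Fin m) ℤ r := esymm_isSymmetric _ _ _ e
  rw [map_sub, map_mul, map_pow, map_natCast, hs]
  congr 1
  have h4 := AlgHom.congr_fun (MvPolynomial.comp_aeval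
    (f := fun i : Fin m => (1 + X i : MvPolynomial (Fin m) ℤ) ^ j - 1)
    (rename e : MvPolynomial (Fin m) ℤ →ₐ[ℤ] MvPolynomial (Fin m) ℤ)) (esymm (Fin m) ℤ r)
  rw [AlgHom.comp_apply] at h4
  rw [h4]
  have h5 : (fun i : Fin m => rename e ((1 + X i : MvPolynomial (Fin m) ℤ) ^ j - 1)) =
      (fun i : Fin m => (1 + X i : MvPolynomial (Fin m) ℤ) ^ j - 1) ∘ e := by
    funext i
    simp
  rw [h5, ← aeval_rename, hs]

theorem SS_mem (m j r : ℕ) : SS m j r ∈ (idealOfVars (Fin m) ℤ) ^ (r + 1) := by
  classical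
  rw [SS_eq]
  apply Ideal.sum_mem
  intro A hA
  rw [Finset.mem_powersetCard] at hA
  rw [← hA.2]
  have hX : ∀ i : Fin m, (X i : MvPolynomial (Fin m) ℤ) ∈ idealOfVars (Fin m) ℤ := by
    intro i
    exact Ideal.subset_span ⟨i, rfl⟩
  have hphi : ∀ i : Fin m, (1 + X i : MvPolynomial (Fin m) ℤ) ^ j - 1 -
      (j : MvPolynomial (Fin m) ℤ) * X i ∈ idealOfVars (Fin m) ℤ ^ 2 :=
    fun i => phi_mem _ _ (hX i) j
  refine (prod_sub_prod_mem _ A _ _ ?_ ?_ ?_).1
  · intro i _
    have e : (1 + X i : MvPolynomial (Fin m) ℤ) ^ j - 1 =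
        ((1 + X i : MvPolynomial (Fin m) ℤ) ^ j - 1 - (j : MvPolynomial (Fin m) ℤ) * X i) +
          (j : MvPolynomial (Fin m) ℤ) * X i := by ring
    rw [e]
    exact Ideal.add_mem _ (Ideal.pow_le_self two_ne_zero (hphi i))
      (Ideal.mul_mem_left _ _ (hX i))
  · intro i _
    exact Ideal.mul_mem_left _ _ (hX i)
  · intro i _
    exact hphi i

theorem exists_Q (m j r : ℕ) : ∃ Q : MvPolynomial (Fin m) ℤ, TT m Q = SS m j r ∧
    ∀ d ∈ Q.support, r + 1 ≤ Finsupp.weight (wt m) d := by
  obtain ⟨Q, hQ⟩ := esymmAlgHom_surjective (σ := Fin m) ℤ (n := m) (by simp)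
    ⟨SS m j r, SS_isSymmetric m j r⟩
  have hQ' : TT m Q = SS m j r := by
    have h := congrArg Subtype.val hQ
    rw [esymmAlgHom_apply] at h
    exact h
  refine ⟨Q, hQ', weight_ge_of_degree_ge m (r + 1) Q ?_⟩
  rw [hQ']
  exact (mem_pow_idealOfVars_iff _ _).1 (SS_mem m j r)

end Poly

open LambdaRing Groth.Agent.Lib.LambdaRingH1 Groth.Agent.Lib.LambdaSplitH1

section Lam
variable {K : Type u} [CommRing K] [LambdaOps K] (P : PosStructure K)

theorem filt_mono {a b : ℕ} (h : a ≤ b) : gammaFiltration P b ≤ gammaFiltration P a := by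
  rw [Groth.Agent.S3291.filt_eq, Groth.Agent.S3291.filt_eq]
  apply AddSubgroup.closure_mono
  rintro y ⟨l, h1, h2, h3⟩
  exact ⟨l, h1, h.trans h2, h3⟩

theorem gamma_mem (r : ℕ) (x : K) (hx : P.aug x = 0) : gamma r x ∈ gammaFiltration P r := by
  rw [Groth.Agent.S3291.filt_eq]
  exact AddSubgroup.subset_closure ⟨[(r, x)], by simpa using hx, by simp, by simp⟩

theorem mul_mem_filt {a b : ℕ} {x y : K} (hx : x ∈ gammaFiltration P a)
    (hy : y ∈ gammaFiltration P b) : x * y ∈ gammaFiltration P (a + b) :=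
  (Groth.Agent.S3291.result K P).2 a b x y hx hy

theorem smul_mem_filt {a : ℕ} (c x : K) (hx : x ∈ gammaFiltration P a) :
    c * x ∈ gammaFiltration P a :=
  (Groth.Agent.S3291.result K P).1 a c x hx

theorem one_mem_filt : (1 : K) ∈ gammaFiltration P 0 := by
  unfold gammaFiltration
  simp

theorem pow_mem_filt {a : ℕ} {y : K} (hy : y ∈ gammaFiltration P a) (n : ℕ) :
    y ^ n ∈ gammaFiltration P (n * a) := by
  induction n with
  | zero => simpa using one_mem_filt P
  | succ n ih =>
    rw [pow_succ, Nat.succ_mul]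
    exact mul_mem_filt P ih hy

theorem prod_mem_filt {ι : Type*} (s : Finset ι) (y : ι → K) (a : ι → ℕ)
    (h : ∀ i ∈ s, y i ∈ gammaFiltration P (a i)) :
    ∏ i ∈ s, y i ∈ gammaFiltration P (∑ i ∈ s, a i) := by
  classical
  induction s using Finset.induction_on with
  | empty => simpa using one_mem_filt P
  | insert i s hi ih =>
    rw [Finset.prod_insert hi, Finset.sum_insert hi]
    exact mul_mem_filt P (h i (Finset.mem_insert_self i s))
      (ih fun k hk => h k (Finset.mem_insert_of_mem hk))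

/-- `ψ^j` as a ring hom -/
noncomputable def adamsRingHom (hK : HasSplitting K P) (j : ℕ) : K →+* K where
  toFun := adams P j
  map_one' := adams_one P j
  map_mul' := adams_mul P hK j
  map_zero' := adams_zero_arg P j
  map_add' := adams_add P j

theorem adamsRingHom_apply (hK : HasSplitting K P) (j : ℕ) (x : K) :
    adamsRingHom P hK j x = adams P j x := rfl

/-- `A ≡ j^a A' mod F^{a+1}` with `A' ∈ F^a` -/
def Cong (j a : ℕ) (A A' : K) : Prop :=
  A' ∈ gammaFiltration P a ∧ A - (j : K) ^ a * A' ∈ gammaFiltration P (a + 1)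

variable {P}

theorem Cong.mem_left {j a : ℕ} {A A' : K} (h : Cong P j a A A') : A ∈ gammaFiltration P a := by
  have e : A = (A - (j : K) ^ a * A') + (j : K) ^ a * A' := by ring
  rw [e]
  exact add_mem (filt_mono P (Nat.le_succ a) h.2) (smul_mem_filt P _ _ h.1)

theorem Cong.mul {j a b : ℕ} {A A' B B' : K} (h1 : Cong P j a A A') (h2 : Cong P j b B B') :
    Cong P j (a + b) (A * B) (A' * B') := by
  refine ⟨mul_mem_filt P h1.1 h2.1, ?_⟩
  have e : A * B - (j : K) ^ (a + b) * (A' * B') =
      (A - (j : K) ^ a * A') * B + ((j : K) ^ a * A') * (B - (j : K) ^ b * B') := by ring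
  rw [e]
  apply add_mem
  · have h := mul_mem_filt P h1.2 h2.mem_left
    rwa [show a + 1 + b = a + b + 1 by omega] at h
  · have h := mul_mem_filt P (smul_mem_filt P ((j : K) ^ a) _ h1.1) h2.2
    rwa [show a + (b + 1) = a + b + 1 by omega] at h

theorem Cong.add {j a : ℕ} {A A' B B' : K} (h1 : Cong P j a A A') (h2 : Cong P j a B B') :
    Cong P j a (A + B) (A' + B') := by
  refine ⟨add_mem h1.1 h2.1, ?_⟩
  have e : A + B - (j : K) ^ a * (A' + B') =
      (A - (j : K) ^ a * A') + (B - (j : K) ^ a * B') := by ring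
  rw [e]
  exact add_mem h1.2 h2.2

theorem Cong.neg {j a : ℕ} {A A' : K} (h1 : Cong P j a A A') : Cong P j a (-A) (-A') := by
  refine ⟨neg_mem h1.1, ?_⟩
  have e : -A - (j : K) ^ a * (-A') = -(A - (j : K) ^ a * A') := by ring
  rw [e]
  exact neg_mem h1.2

theorem Cong.zero {j a : ℕ} : Cong P j a (0 : K) 0 := ⟨zero_mem _, by simp⟩

theorem Cong.one {j : ℕ} : Cong P j 0 (1 : K) 1 := ⟨one_mem_filt P, by simp⟩

theorem Cong.sum {j a : ℕ} {ι : Type*} (s : Finset ι) (A A' : ι → K)
    (h : ∀ i ∈ s, Cong P j a (A i) (A' i)) :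
    Cong P j a (∑ i ∈ s, A i) (∑ i ∈ s, A' i) := by
  classical
  induction s using Finset.induction_on with
  | empty => simpa using (Cong.zero (P := P) (j := j) (a := a))
  | insert i s hi ih =>
    rw [Finset.sum_insert hi, Finset.sum_insert hi]
    exact Cong.add (h i (Finset.mem_insert_self i s))
      (ih fun k hk => h k (Finset.mem_insert_of_mem hk))

theorem Cong.cast {j a b : ℕ} {A A' : K} (h : a = b) (h1 : Cong P j a A A') : Cong P j b A A' :=
  h ▸ h1

variable (P)

/-- `x` has augmentation zero and `ψ^j γ^r x ≡ j^r γ^r x mod F^{r+1}` for all `r` -/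
def Good (j : ℕ) (x : K) : Prop :=
  P.aug x = 0 ∧ ∀ r, Cong P j r (adams P j (gamma r x)) (gamma r x)

variable {P}

theorem Good.add (hK : HasSplitting K P) {j : ℕ} {x y : K} (hx : Good P j x) (hy : Good P j y) :
    Good P j (x + y) := by
  refine ⟨by rw [map_add, hx.1, hy.1, add_zero], fun r => ?_⟩
  rw [gamma_add]
  have e : adams P j (∑ i ∈ Finset.range (r + 1), gamma i x * gamma (r - i) y) =
      ∑ i ∈ Finset.range (r + 1), adams P j (gamma i x) * adams P j (gamma (r - i) y) := by
    rw [← adamsRingHom_apply P hK, map_sum]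
    simp only [map_mul]
    rfl
  rw [e]
  apply Cong.sum
  intro i hi
  rw [Finset.mem_range] at hi
  exact Cong.cast (by omega) (Cong.mul (hx.2 i) (hy.2 (r - i)))

omit P in
theorem gamma_zero_left (x : K) : gamma 0 x = 1 := by simp [gamma]

omit P in
theorem gamma_neg_rec (x : K) (r : ℕ) :
    gamma (r + 1) (-x) = -∑ a ∈ Finset.range (r + 1), gamma (a + 1) x * gamma (r - a) (-x) := by
  have h := gamma_add (r + 1) x (-x)
  rw [add_neg_cancel] at h
  have h0 : gamma (r + 1) (0 : K) = 0 := by
    rw [← coeff_gammaSeries, gammaSeries_zero, PowerSeries.coeff_one, if_neg (by omega)]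
  rw [h0, Finset.sum_range_succ'] at h
  rw [gamma_zero_left, one_mul, Nat.sub_zero] at h
  have h' : gamma (r + 1) (-x) =
      -∑ a ∈ Finset.range (r + 1), gamma (a + 1) x * gamma (r + 1 - (a + 1)) (-x) := by
    linear_combination -h
  rw [h']
  congr 1
  apply Finset.sum_congr rfl
  intro a _
  rw [Nat.add_sub_add_right]

theorem Good.neg (hK : HasSplitting K P) {j : ℕ} {x : K} (hx : Good P j x) : Good P j (-x) := by
  refine ⟨by rw [map_neg, hx.1, neg_zero], fun r => ?_⟩
  induction r using Nat.strong_induction_on with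
  | _ r ih =>
    rcases r with _ | r
    · rw [gamma_zero_left, adams_one]
      exact Cong.one
    · rw [gamma_neg_rec]
      have e : adams P j (-∑ a ∈ Finset.range (r + 1), gamma (a + 1) x * gamma (r - a) (-x)) =
          -∑ a ∈ Finset.range (r + 1),
            adams P j (gamma (a + 1) x) * adams P j (gamma (r - a) (-x)) := by
        rw [← adamsRingHom_apply P hK, map_neg, map_sum]
        simp only [map_mul]
        rfl
      rw [e]
      apply Cong.neg
      apply Cong.sum
      intro a ha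
      rw [Finset.mem_range] at ha
      exact Cong.cast (by omega) (Cong.mul (hx.2 (a + 1)) (ih (r - a) (by omega)))

omit P in
theorem map_gamma {K' : Type u} [CommRing K'] [LambdaOps K'] (f : K →+* K')
    (hf : IsLambdaHom f) (k : ℕ) (x : K) : f (gamma k x) = gamma k (f x) := by
  unfold gamma
  split_ifs with h
  · exact map_one f
  · rw [map_sum]
    apply Finset.sum_congr rfl
    intro i _
    rw [map_mul, map_natCast]
    split_ifs
    · rw [map_zero]
    · rw [hf i x]

variable (P)

theorem aeval_gamma_mem (m N : ℕ) (x : K) (hx : P.aug x = 0) (Q : MvPolynomial (Fin m) ℤ)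
    (hQ : ∀ d ∈ Q.support, N ≤ Finsupp.weight (wt m) d) :
    aeval (fun k : Fin m => gamma (k.1 + 1) x) Q ∈ gammaFiltration P N := by
  rw [Q.as_sum, map_sum]
  apply sum_mem
  intro d hd
  rw [aeval_monomial]
  apply smul_mem_filt P
  apply filt_mono P (hQ d hd)
  rw [Finsupp.prod, Finsupp.weight_apply, Finsupp.sum]
  apply prod_mem_filt
  intro k _
  have h := pow_mem_filt P (gamma_mem P (k.1 + 1) x hx) (d k)
  exact h

omit P in
theorem gamma_sum_eq_aeval (h1 : ∀ k : ℕ, 2 ≤ k → LambdaOps.lam k (1 : K) = 0) (m : ℕ)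
    (t : Fin m → K) (ht : ∀ (i : Fin m) (j : ℕ), 2 ≤ j → LambdaOps.lam j (t i) = 0) (k : ℕ) :
    gamma k (∑ i : Fin m, (t i - 1)) = aeval (fun i => t i - 1) (esymm (Fin m) ℤ k) := by
  classical
  rw [gamma_sum_line_sub_one h1 Finset.univ t (fun i _ => ht i) k]
  unfold esymm
  rw [map_sum]
  apply Finset.sum_congr rfl
  intro A _
  rw [map_prod]
  simp only [aeval_X]

theorem key_identity (hK : HasSplitting K P) (j m r : ℕ)
    (t : Fin m → K) (ht : ∀ i, P.IsLine (t i)) (Q : MvPolynomial (Fin m) ℤ)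
    (hTQ : TT m Q = SS m j r) (x : K) (hx : x = ∑ i : Fin m, (t i - 1)) :
    adams P j (gamma r x) - (j : K) ^ r * gamma r x =
      aeval (fun k : Fin m => gamma (k.1 + 1) x) Q := by
  subst hx
  have h1 : ∀ k : ℕ, 2 ≤ k → LambdaOps.lam k (1 : K) = 0 :=
    fun k hk => lam_line_eq_zero P (isLine_one P) k hk
  have ht' : ∀ (i : Fin m) (j : ℕ), 2 ≤ j → LambdaOps.lam j (t i) = 0 :=
    fun i j hj => lam_line_eq_zero P (ht i) j hj
  have hg : ∀ k, gamma k (∑ i : Fin m, (t i - 1)) =
      aeval (fun i => t i - 1) (esymm (Fin m) ℤ k) := gamma_sum_eq_aeval h1 m t ht'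
  have hR : aeval (fun k : Fin m => gamma (k.1 + 1) (∑ i : Fin m, (t i - 1))) Q =
      aeval (fun i => t i - 1) (SS m j r) := by
    rw [← hTQ]
    have h4 := AlgHom.congr_fun (comp_aeval (f := fun k : Fin m => esymm (Fin m) ℤ (k.1 + 1))
      (aeval (fun i => t i - 1) : MvPolynomial (Fin m) ℤ →ₐ[ℤ] K)) Q
    rw [AlgHom.comp_apply] at h4
    unfold TT
    rw [h4]
    have hfun : (fun k : Fin m => gamma (k.1 + 1) (∑ i : Fin m, (t i - 1))) =
        fun k : Fin m => aeval (fun i => t i - 1) (esymm (Fin m) ℤ (k.1 + 1)) := by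
      funext k
      exact hg (k.1 + 1)
    rw [hfun]
  rw [hR]
  unfold SS
  rw [map_sub, map_mul, map_pow, map_natCast, ← hg r]
  congr 1
  have h5 := AlgHom.congr_fun (comp_aeval
    (f := fun i : Fin m => (1 + X i : MvPolynomial (Fin m) ℤ) ^ j - 1)
    (aeval (fun i => t i - 1) : MvPolynomial (Fin m) ℤ →ₐ[ℤ] K)) (esymm (Fin m) ℤ r)
  rw [AlgHom.comp_apply] at h5
  rw [h5, hg r]
  unfold esymm
  simp only [map_sum, map_prod, aeval_X]
  rw [← adamsRingHom_apply P hK, map_sum]
  apply Finset.sum_congr rfl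
  intro A _
  rw [map_prod]
  apply Finset.prod_congr rfl
  intro i _
  rw [adamsRingHom_apply, adams_sub, adams_one, adams_line P (ht i)]
  simp

theorem good_pos (hK : HasSplitting K P) (j : ℕ) (e : K) (he : e ∈ P.pos) :
    Good P j (e - ((P.aug e).toNat : K)) := by
  have haug : P.aug (e - ((P.aug e).toNat : K)) = 0 := by
    rw [map_sub, map_natCast, Int.toNat_of_nonneg (P.aug_pos e he).le, sub_self]
  refine ⟨haug, fun r => ⟨gamma_mem P r _ haug, ?_⟩⟩
  obtain ⟨K', _, _, P', f, hK', hf, s, hs, hsum⟩ := exists_split P hK e he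
  have h2 : (Multiset.card s : ℤ) = P.aug e := by
    rw [← hf.aug_comp, ← hsum, map_multiset_sum,
      Multiset.map_congr rfl (fun u hu => (hs u hu).2)]
    simp
  have hcard : Multiset.card s = (P.aug e).toNat := by rw [← h2, Int.toNat_natCast]
  obtain ⟨l, rfl⟩ : ∃ l : List K', (l : Multiset K') = s := ⟨s.toList, Multiset.coe_toList s⟩
  have hlen : l.length = (P.aug e).toNat := by simpa using hcard
  generalize (P.aug e).toNat = m at hlen haug ⊢
  subst hlen
  obtain ⟨Q, hTQ, hQw⟩ := exists_Q l.length j r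
  have hx' : f (e - (l.length : K)) = ∑ i : Fin l.length, (l.get i - 1) := by
    rw [Finset.sum_sub_distrib, map_sub, map_natCast]
    have e1 : ∑ i : Fin l.length, l.get i = f e := by
      rw [← hsum, Multiset.sum_coe]
      simp [Fin.sum_univ_getElem]
    rw [e1]
    simp
  have hid := key_identity P' hK' j l.length r l.get
    (fun i => hs _ (Multiset.mem_coe.2 (List.get_mem l i))) Q hTQ _ hx'
  suffices h : adams P j (gamma r (e - (l.length : K))) -
      (j : K) ^ r * gamma r (e - (l.length : K)) =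
      aeval (fun k : Fin l.length => gamma (k.1 + 1) (e - (l.length : K))) Q by
    rw [h]
    exact aeval_gamma_mem P l.length (r + 1) _ haug Q hQw
  apply hf.injective
  rw [map_sub, map_mul, map_pow, map_natCast, adams_ext P P' f hf, map_gamma f hf.isLambdaHom]
  have h6 := AlgHom.congr_fun (comp_aeval
    (f := fun k : Fin l.length => gamma (k.1 + 1) (e - (l.length : K))) f.toIntAlgHom) Q
  rw [AlgHom.comp_apply] at h6
  refine Eq.trans ?_ h6.symm
  have h7 : (fun k : Fin l.length => f.toIntAlgHom (gamma (k.1 + 1) (e - (l.length : K)))) =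
      fun k : Fin l.length => gamma (k.1 + 1) (f (e - (l.length : K))) := by
    funext k
    exact map_gamma f hf.isLambdaHom _ _
  rw [h7]
  exact hid

theorem good_of_aug_zero (hK : HasSplitting K P) (j : ℕ) (x : K) (hx : P.aug x = 0) :
    Good P j x := by
  obtain ⟨e, f, he, hf, rfl⟩ := P.exists_sub x
  have hm : P.aug e = P.aug f := by
    rw [map_sub] at hx
    exact sub_eq_zero.1 hx
  have h1 := good_pos P hK j e he
  have h2 := (good_pos P hK j f hf).neg hK
  have h3 := h1.add hK h2
  have e1 : e - ((P.aug e).toNat : K) + -(f - ((P.aug f).toNat : K)) = e - f := by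
    rw [hm]; ring
  rwa [e1] at h3

theorem cong_list (hK : HasSplitting K P) (j : ℕ) (l : List (ℕ × K))
    (hl : ∀ p ∈ l, P.aug p.2 = 0) :
    Cong P j (l.map Prod.fst).sum (adams P j (l.map fun p => gamma p.1 p.2).prod)
      ((l.map fun p => gamma p.1 p.2).prod) := by
  induction l with
  | nil =>
    simp only [List.map_nil, List.sum_nil, List.prod_nil]
    rw [adams_one]
    exact Cong.one
  | cons p l ih =>
    rw [List.map_cons, List.map_cons, List.sum_cons, List.prod_cons, adams_mul P hK]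
    exact Cong.mul ((good_of_aug_zero P hK j p.2 (hl p List.mem_cons_self)).2 p.1)
      (ih fun q hq => hl q (List.mem_cons_of_mem _ hq))

theorem adams_sub_pow_mem (hK : HasSplitting K P) (j n : ℕ) (x : K)
    (hx : x ∈ gammaFiltration P n) :
    adams P j x - (j : K) ^ n * x ∈ gammaFiltration P (n + 1) := by
  rcases n with _ | n
  · have hx0 : P.aug (x - ((P.aug x : ℤ) : K)) = 0 := by simp
    have hg := (good_of_aug_zero P hK j _ hx0).2 1
    rw [Groth.Agent.S3291.gamma_one_arg] at hg
    have h1 := hg.mem_left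
    have h2 : adams P j x - (j : K) ^ 0 * x =
        adams P j (x - ((P.aug x : ℤ) : K)) - (x - ((P.aug x : ℤ) : K)) := by
      rw [adams_sub, ← adamsRingHom_apply P hK j ((P.aug x : ℤ) : K), map_intCast]
      ring
    rw [h2]
    exact sub_mem h1 hg.1
  · rw [Groth.Agent.S3291.filt_eq] at hx
    induction hx using AddSubgroup.closure_induction with
    | mem y hy =>
      obtain ⟨l, hl, hw, rfl⟩ := hy
      have hc := cong_list P hK j l hl
      by_cases hN : (l.map Prod.fst).sum = n + 1
      · rw [hN] at hc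
        exact hc.2
      · have h1 : (l.map fun p => gamma p.1 p.2).prod ∈ gammaFiltration P (n + 1 + 1) :=
          filt_mono P (by omega) hc.1
        have h2 : adams P j (l.map fun p => gamma p.1 p.2).prod ∈
            gammaFiltration P (n + 1 + 1) := filt_mono P (by omega) hc.mem_left
        exact sub_mem h2 (smul_mem_filt P _ _ h1)
    | zero =>
      rw [adams_zero_arg, mul_zero, sub_zero]
      exact zero_mem _
    | add y z _ _ hy hz =>
      rw [adams_add]
      have e : adams P j y + adams P j z - (j : K) ^ (n + 1) * (y + z) =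
          (adams P j y - (j : K) ^ (n + 1) * y) + (adams P j z - (j : K) ^ (n + 1) * z) := by
        ring
      rw [e]
      exact add_mem hy hz
    | neg y _ hy =>
      rw [adams_neg]
      have e : -adams P j y - (j : K) ^ (n + 1) * -y =
          -(adams P j y - (j : K) ^ (n + 1) * y) := by ring
      rw [e]
      exact neg_mem hy

end Lam

end Groth.Agent.Lib.LambdaGAH1
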