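import Mathlib
import Groth.Agent.Lib.ElemExtLam_helper1
import Groth.Agent.Lib.LambdaGammaAdams_helper1
import Groth.Agent.S3792
import Groth.Agent.S3779

/-!
# λ-ring inputs for Adams–Riemann–Roch on the elementary projection (helper1)
-/

set_option autoImplicit false
set_option maxHeartbeats 1000000

universe u

namespace Groth.Agent.Lib.AdamsRR2H1

open Polynomial LambdaRing Groth.Agent.Lib.LambdaRingH1 Groth.Agent.Lib.LambdaSplitH1
  Groth.Agent.Lib.ElemExtLgenH1 Groth.Agent.Lib.ElemExtLamH1 Groth.Agent.Lib.LambdaGAH1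
  Groth.Agent.S3779

section General
variable {L : Type u} [CommRing L] [LambdaOps L] (Q : PosStructure L)

omit Q in
theorem gamma_one (x : L) : gamma 1 x = x := by
  simp [gamma, Finset.sum_range_succ, LambdaOps.lam_one]

theorem isNilpotent_of_aug_zero (N : ℕ) (hN : gammaFiltration Q N = ⊥) (x : L)
    (hx : Q.aug x = 0) : IsNilpotent x := by
  refine ⟨N, ?_⟩
  have h1 : x ∈ gammaFiltration Q 1 := by
    have := gamma_mem Q 1 x hx
    rwa [gamma_one] at this
  have h2 := pow_mem_filt Q h1 N
  rw [mul_one, hN] at h2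
  exact (AddSubgroup.mem_bot).mp h2

theorem esymm_replicate_one (n k : ℕ) :
    (Multiset.replicate n (1 : ℤ)).esymm k = (n.choose k : ℤ) := by
  unfold Multiset.esymm
  have h : ∀ t ∈ (Multiset.replicate n (1 : ℤ)).powersetCard k, t.prod = 1 := by
    intro t ht
    rw [Multiset.mem_powersetCard] at ht
    apply Multiset.prod_eq_one
    intro x hx
    exact Multiset.eq_of_mem_replicate (Multiset.mem_of_le ht.1 hx)
  rw [Multiset.map_congr rfl h, Multiset.map_const', Multiset.sum_replicate,
    Multiset.card_powersetCard, Multiset.card_replicate, nsmul_eq_mul, mul_one]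

theorem aeval_bottPoly_choose (j n : ℕ) :
    MvPolynomial.aeval (fun i : Fin n => ((n.choose (i.1 + 1) : ℕ) : ℤ)) (KRR.bottPoly j n) =
      (j : ℤ) ^ n := by
  have h := Groth.Agent.S3792.aeval_bottPoly (R := ℤ) j n (fun _ => (1 : ℤ))
  have hrep : (Finset.univ : Finset (Fin n)).val.map (fun _ => (1 : ℤ)) =
      Multiset.replicate n 1 := by
    rw [Multiset.map_const']
    congr 1
    exact Finset.card_fin n
  rw [hrep] at h
  simp only [esymm_replicate_one] at h
  rw [h, Multiset.map_replicate, Multiset.prod_replicate]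
  simp

theorem bott_eq (j : ℕ) (y : L) (n : ℕ) (hn : (Q.aug y).toNat = n) :
    KRR.bott Q j y = MvPolynomial.aeval (fun i : Fin n => LambdaOps.lam (i.1 + 1) y)
      (KRR.bottPoly j n) := by
  subst hn
  rfl

theorem map_bott_gen {L' : Type u} [CommRing L'] (g : L →+* L') (j : ℕ) (y : L) (n : ℕ)
    (hn : (Q.aug y).toNat = n) :
    g (KRR.bott Q j y) = MvPolynomial.aeval (fun i : Fin n => g (LambdaOps.lam (i.1 + 1) y))
      (KRR.bottPoly j n) := by
  rw [bott_eq Q j y n hn]
  have h5 := AlgHom.congr_fun (MvPolynomial.comp_aeval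
    (f := fun i : Fin n => LambdaOps.lam (i.1 + 1) y) (g.toIntAlgHom)) (KRR.bottPoly j n)
  rw [AlgHom.comp_apply] at h5
  exact h5

theorem aug_bott (j : ℕ) (y : L) (n : ℕ) (hn : (Q.aug y).toNat = n)
    (hy : ∀ i, Q.aug (LambdaOps.lam i y) = (n.choose i : ℤ)) :
    Q.aug (KRR.bott Q j y) = (j : ℤ) ^ n := by
  rw [bott_eq Q j y n hn]
  have h5 := AlgHom.congr_fun (MvPolynomial.comp_aeval
    (f := fun i : Fin n => LambdaOps.lam (i.1 + 1) y) (Q.aug.toIntAlgHom)) (KRR.bottPoly j n)
  rw [AlgHom.comp_apply] at h5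
  have h6 : (fun i : Fin n => Q.aug.toIntAlgHom (LambdaOps.lam (i.1 + 1) y)) =
      fun i : Fin n => ((n.choose (i.1 + 1) : ℕ) : ℤ) := by
    funext i
    exact hy _
  rw [h6, aeval_bottPoly_choose] at h5
  exact h5

end General

section Comb

theorem esymm_map_mul {R S : Type u} [CommRing R] [CommRing S] (g : R →+* S) (c : S)
    (s : Multiset R) (k : ℕ) :
    (s.map (fun u => c * g u)).esymm k = c ^ k * g (s.esymm k) := by
  induction s using Multiset.induction_on generalizing k with
  | empty =>
    rcases k with _ | k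
    · simp [Multiset.esymm]
    · have h0 : ∀ (T : Type u) [CommRing T], (0 : Multiset T).esymm (k + 1) = 0 := by
        intro T _
        unfold Multiset.esymm
        rw [Multiset.powersetCard_eq_empty _ (by simp)]
        simp
      rw [Multiset.map_zero, h0, h0, map_zero, mul_zero]
  | cons a s ih =>
    rcases k with _ | k
    · simp [Multiset.esymm]
    · rw [Multiset.map_cons, esymm_cons_succ', esymm_cons_succ', ih, ih, map_add, map_mul]
      ring

theorem aeval_bottPoly_multiset {R : Type u} [CommRing R] (j m : ℕ) (S : Multiset R)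
    (hS : Multiset.card S = m) :
    MvPolynomial.aeval (fun i : Fin m => S.esymm (i.1 + 1)) (KRR.bottPoly j m) =
      (S.map (fun u => ∑ k ∈ Finset.range j, u ^ k)).prod := by
  obtain ⟨l, rfl⟩ : ∃ l : List R, (l : Multiset R) = S := ⟨S.toList, Multiset.coe_toList S⟩
  rw [Multiset.coe_card] at hS
  subst hS
  have h := Groth.Agent.S3792.aeval_bottPoly j l.length l.get
  have hl : Finset.univ.val.map l.get = (l : Multiset R) := by
    rw [Fin.univ_val_map, List.ofFn_get]
  rw [hl] at h
  exact h

theorem geom_twist {R : Type*} [CommRing R] (x y a : R) (hxy : y * x = 1) (j : ℕ) :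
    ∑ i ∈ Finset.range j, x ^ i * a ^ (j - 1 - i) =
      x ^ (j - 1) * ∑ k ∈ Finset.range j, (y * a) ^ k := by
  calc ∑ i ∈ Finset.range j, x ^ i * a ^ (j - 1 - i)
      = ∑ i ∈ Finset.range j, (fun k => x ^ (j - 1 - k) * a ^ k) (j - 1 - i) := by
        apply Finset.sum_congr rfl
        intro i hi
        rw [Finset.mem_range] at hi
        show x ^ i * a ^ (j - 1 - i) = x ^ (j - 1 - (j - 1 - i)) * a ^ (j - 1 - i)
        rw [show j - 1 - (j - 1 - i) = i by omega]
    _ = ∑ k ∈ Finset.range j, x ^ (j - 1 - k) * a ^ k :=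
        Finset.sum_range_reflect (fun k => x ^ (j - 1 - k) * a ^ k) j
    _ = x ^ (j - 1) * ∑ k ∈ Finset.range j, (y * a) ^ k := by
        rw [Finset.mul_sum]
        apply Finset.sum_congr rfl
        intro k hk
        rw [Finset.mem_range] at hk
        have h1 : x ^ (j - 1) = x ^ (j - 1 - k) * x ^ k := by
          rw [← pow_add]
          congr 1
          omega
        have h2 : x ^ k * y ^ k = 1 := by rw [← mul_pow, mul_comm, hxy, one_pow]
        rw [h1, mul_pow]
        linear_combination (-(x ^ (j - 1 - k) * a ^ k)) * h2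

theorem expand_prod {R : Type*} [CommRing R] (j : ℕ) (s : Multiset R) :
    expand R j ((s.map (fun u => X - C (u ^ j))).prod) =
      (s.map (fun u => X - C u)).prod *
        (s.map (fun u => ∑ i ∈ Finset.range j, X ^ i * C u ^ (j - 1 - i))).prod := by
  rw [map_multiset_prod, Multiset.map_map, ← Multiset.prod_map_mul]
  congr 1
  apply Multiset.map_congr rfl
  intro u _
  simp only [Function.comp_apply]
  rw [map_sub, expand_X, expand_C, C_pow, ← geom_sum₂_mul]
  exact mul_comm _ _

end Comb

section Split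
variable {K' : Type u} [CommRing K'] [LambdaOps K'] (P' : PosStructure K')
  (hK' : HasSplitting K' P')

theorem map_adams_prod (j : ℕ) (s : Multiset K') (hs : ∀ u ∈ s, P'.IsLine u) :
    ((s.map (fun u => X - C u)).prod).map (adamsRingHom P' hK' j) =
      (s.map (fun u => X - C (u ^ j))).prod := by
  rw [Polynomial.map_multiset_prod, Multiset.map_map]
  congr 1
  apply Multiset.map_congr rfl
  intro u hu
  simp only [Function.comp_apply]
  rw [Polynomial.map_sub, Polynomial.map_X, Polynomial.map_C, adamsRingHom_apply,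
    adams_line P' (hs u hu)]

end Split

section Main
variable {K : Type u} [CommRing K] [LambdaOps K] (P : PosStructure K) (hK : HasSplitting K P)
  (e : K) (he : e ∈ P.pos)

include he in
theorem exists_q (j : ℕ) : ∃ q : K[X],
    expand K j ((KRR.extPoly P e).map (adamsRingHom P hK j)) = KRR.extPoly P e * q := by
  obtain ⟨K', _, _, P', f, hK', hf, s, hs, hsum⟩ := exists_split P hK e he
  have hdvd : KRR.extPoly P e ∣ expand K j ((KRR.extPoly P e).map (adamsRingHom P hK j)) := by
    rw [← Polynomial.map_dvd_map f hf.injective (extPoly_monic P e he), map_expand,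
      Polynomial.map_map]
    have hcomm : f.comp (adamsRingHom P hK j) = (adamsRingHom P' hK' j).comp f :=
      RingHom.ext (fun x => adams_ext P P' f hf j x)
    rw [hcomm, ← Polynomial.map_map, extPoly_map P e P' f hf, ← hsum, extPoly_eq_prod P' s hs,
      map_adams_prod P' hK' j s hs, expand_prod]
    exact dvd_mul_right _ _
  exact hdvd

theorem extPoly_map_eq (r : ℕ) (hm : (P.aug e).toNat = r + 1) {S : Type*} [CommRing S]
    (g : K →+* S) :
    (KRR.extPoly P e).map g =
      ∑ i ∈ Finset.range (r + 1 + 1), C (g (cc e i)) * X ^ (r + 1 - i) := by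
  unfold KRR.extPoly cc
  rw [hm, Polynomial.map_sum]
  apply Finset.sum_congr rfl
  intro i _
  rw [Polynomial.map_mul, Polynomial.map_C, Polynomial.map_pow, Polynomial.map_X]

/-- the shifted `σ`-sequence: `s_a = σ^{a-r}(e)` (zero for `a < r`) -/
noncomputable def sseq (e : K) (r a : ℕ) : K := if a < r then 0 else KRR.sigma (a - r) e

theorem sigma_zero (e : K) : KRR.sigma 0 e = 1 := by
  unfold KRR.sigma KRR.sigmaSeries
  rw [PowerSeries.coeff_zero_eq_constantCoeff_apply, PowerSeries.constantCoeff_invOfUnit]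
  simp

include he in
theorem sseq_rel (r : ℕ) (hm : (P.aug e).toNat = r + 1) (n : ℕ) (hn : r + 1 ≤ n) :
    ∑ i ∈ Finset.range (r + 1 + 1), cc e i * sseq e r (n - i) = 0 := by
  unfold sseq
  by_cases h : r + 1 ≤ n - r
  · refine Eq.trans ?_ (sigma_rel' P e he (r + 1) hm (n - r) (by omega) h)
    apply Finset.sum_congr rfl
    intro i hi
    rw [Finset.mem_range] at hi
    rw [if_neg (by omega), show n - i - r = n - r - i by omega]
  · have h1 : ∑ i ∈ Finset.range (n - r + 1),
        cc e i * (if n - i < r then 0 else KRR.sigma (n - i - r) e) = 0 := by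
      refine Eq.trans ?_ (sigma_rel e (n - r) (by omega))
      apply Finset.sum_congr rfl
      intro i hi
      rw [Finset.mem_range] at hi
      rw [if_neg (by omega), show n - i - r = n - r - i by omega]
    refine Eq.trans ?_ h1
    symm
    apply Finset.sum_subset
    · intro i hi
      rw [Finset.mem_range] at hi ⊢
      omega
    · intro i hi hi'
      rw [Finset.mem_range] at hi hi'
      rw [if_pos (by omega), mul_zero]

end Main

section Ext
variable {K : Type u} [CommRing K] [LambdaOps K] (P : PosStructure K) (hK : HasSplitting K P)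
  (e : K) (he : e ∈ P.pos)
  [LambdaOps (AdjoinRoot (KRR.extPoly P e))] (Pe : PosStructure (AdjoinRoot (KRR.extPoly P e)))
  (hext : IsExtension P Pe (AdjoinRoot.of (KRR.extPoly P e)))
  (hline : Pe.IsLine (AdjoinRoot.root (KRR.extPoly P e)))
  (hsplit : HasSplitting (AdjoinRoot (KRR.extPoly P e)) Pe)
  (linv : AdjoinRoot (KRR.extPoly P e)) (hlinv : linv * AdjoinRoot.root (KRR.extPoly P e) = 1)

include hext hline hsplit hlinv in
theorem lam_twist (i : ℕ) :
    LambdaOps.lam i (AdjoinRoot.of (KRR.extPoly P e) e * linv) =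
      linv ^ i * AdjoinRoot.of (KRR.extPoly P e) (LambdaOps.lam i e) := by
  have h := lamSeries_line_mul Pe hsplit hline (AdjoinRoot.of (KRR.extPoly P e) e * linv)
  have h1 : AdjoinRoot.root (KRR.extPoly P e) * (AdjoinRoot.of (KRR.extPoly P e) e * linv) =
      AdjoinRoot.of (KRR.extPoly P e) e := by
    linear_combination (AdjoinRoot.of (KRR.extPoly P e) e) * hlinv
  rw [h1] at h
  have h2 := congrArg (PowerSeries.coeff i) h
  rw [PowerSeries.coeff_rescale, coeff_lamSeries, coeff_lamSeries, ← hext.isLambdaHom] at h2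
  rw [h2, ← mul_assoc, ← mul_pow, hlinv, one_pow, one_mul]

include hline hlinv in
theorem aug_linv : Pe.aug linv = 1 := by
  have := congrArg Pe.aug hlinv
  rwa [map_mul, hline.2, mul_one, map_one] at this

include hext hline hlinv in
theorem aug_y (r : ℕ) (hr : P.aug e = r + 1) :
    (Pe.aug (AdjoinRoot.of (KRR.extPoly P e) e * linv)).toNat = r + 1 := by
  rw [map_mul, aug_linv P e Pe hline linv hlinv, mul_one, hext.aug_comp, hr]
  omega

include hline in
theorem root_sub_one_nilpotent (N : ℕ) (hN : gammaFiltration Pe N = ⊥) :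
    IsNilpotent (AdjoinRoot.root (KRR.extPoly P e) - 1) :=
  isNilpotent_of_aug_zero Pe N hN _ (by rw [map_sub, hline.2, map_one, sub_self])

include hK he hext hline hsplit hlinv in
theorem bott_sub_nilpotent (r : ℕ) (hr : P.aug e = r + 1) (N : ℕ)
    (hN : gammaFiltration Pe N = ⊥) (j : ℕ) :
    IsNilpotent (KRR.bott Pe j (AdjoinRoot.of (KRR.extPoly P e) e * linv) -
      ((j : ℕ) : AdjoinRoot (KRR.extPoly P e)) ^ (r + 1)) := by
  apply isNilpotent_of_aug_zero Pe N hN
  have hm : (P.aug e).toNat = r + 1 := by rw [hr]; omega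
  have hy : ∀ i, Pe.aug (LambdaOps.lam i (AdjoinRoot.of (KRR.extPoly P e) e * linv)) =
      ((r + 1).choose i : ℤ) := by
    intro i
    rw [lam_twist P e Pe hext hline hsplit linv hlinv, map_mul, map_pow,
      aug_linv P e Pe hline linv hlinv, one_pow, one_mul, hext.aug_comp,
      aug_lam_pos P hK e he i, hm]
  rw [map_sub, map_pow, map_natCast,
    aug_bott Pe j _ (r + 1) (aug_y P e Pe hext hline linv hlinv r hr) hy, sub_self]

include hK he hext hline hsplit hlinv in
theorem aeval_q_eq (r : ℕ) (hr : P.aug e = r + 1) (j : ℕ) (q : K[X])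
    (hq : expand K j ((KRR.extPoly P e).map (adamsRingHom P hK j)) = KRR.extPoly P e * q) :
    aeval (AdjoinRoot.root (KRR.extPoly P e)) q =
      AdjoinRoot.root (KRR.extPoly P e) ^ ((j - 1) * (r + 1)) *
        KRR.bott Pe j (AdjoinRoot.of (KRR.extPoly P e) e * linv) := by
  obtain ⟨K', _, _, P', f, hK', hf, s, hs, hsum⟩ := exists_split P hK e he
  have hm : (P.aug e).toNat = r + 1 := by rw [hr]; omega
  have hcard : Multiset.card s = r + 1 := by
    have h := card_lines P' s hs
    rw [hsum, hf.aug_comp, hr] at h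
    exact_mod_cast h.symm
  apply jf_injective P e P' f hf he
  have hqmap : q.map f =
      (s.map (fun u => ∑ i ∈ Finset.range j, X ^ i * C u ^ (j - 1 - i))).prod := by
    have h1 := congrArg (Polynomial.map f) hq
    rw [map_expand, Polynomial.map_map, Polynomial.map_mul] at h1
    have hcomm : f.comp (adamsRingHom P hK j) = (adamsRingHom P' hK' j).comp f :=
      RingHom.ext (fun x => adams_ext P P' f hf j x)
    rw [hcomm, ← Polynomial.map_map, extPoly_map P e P' f hf, ← hsum, extPoly_eq_prod P' s hs,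
      map_adams_prod P' hK' j s hs, expand_prod] at h1
    have hmon : ((s.map (fun u => (X : K'[X]) - C u)).prod).Monic :=
      monic_multiset_prod_of_monic _ _ (fun u _ => monic_X_sub_C u)
    exact (hmon.isRegular.left h1).symm
  obtain ⟨Lv, hLvdef⟩ : ∃ Lv, Lv = jf P e P' f hf linv := ⟨_, rfl⟩
  have hLv : Lv * AdjoinRoot.root (KRR.extPoly P' (f e)) = 1 := by
    have h := congrArg (jf P e P' f hf) hlinv
    rwa [map_mul, jf_root, map_one, ← hLvdef] at h
  rw [AdjoinRoot.aeval_eq, jf_mk, hqmap, map_mul, map_pow, jf_root,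
    map_bott_gen Pe (jf P e P' f hf) j _ (r + 1) (aug_y P e Pe hext hline linv hlinv r hr)]
  have h6 : (fun i : Fin (r + 1) => jf P e P' f hf
        (LambdaOps.lam (i.1 + 1) (AdjoinRoot.of (KRR.extPoly P e) e * linv))) =
      fun i : Fin (r + 1) =>
        (s.map (fun u => Lv * AdjoinRoot.of (KRR.extPoly P' (f e)) u)).esymm (i.1 + 1) := by
    funext i
    have hlam : LambdaOps.lam (i.1 + 1) (f e) = s.esymm (i.1 + 1) := by
      rw [← hsum]
      exact lam_lines_esymm P' s hs _
    rw [lam_twist P e Pe hext hline hsplit linv hlinv, map_mul, map_pow, ← hLvdef, jf_of,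
      hf.isLambdaHom, hlam, esymm_map_mul]
  rw [h6, aeval_bottPoly_multiset j (r + 1) _ (by rw [Multiset.card_map, hcard]),
    Multiset.map_map, map_multiset_prod, Multiset.map_map]
  have hpow : AdjoinRoot.root (KRR.extPoly P' (f e)) ^ ((j - 1) * (r + 1)) =
      (s.map (fun _ => AdjoinRoot.root (KRR.extPoly P' (f e)) ^ (j - 1))).prod := by
    rw [Multiset.map_const', Multiset.prod_replicate, hcard, ← pow_mul]
  rw [hpow, ← Multiset.prod_map_mul]
  congr 1
  apply Multiset.map_congr rfl
  intro u _
  simp only [Function.comp_apply]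
  rw [map_sum, ← geom_twist _ Lv _ hLv j]
  apply Finset.sum_congr rfl
  intro i _
  rw [map_mul, map_pow, map_pow, AdjoinRoot.mk_X, AdjoinRoot.mk_C]

end Ext

end Groth.Agent.Lib.AdamsRR2H1
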