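import Mathlib
import Groth.Agent.Lib.AdamsRR1_helper1
import Groth.Agent.Lib.AdamsRR2_helper1

/-!
# Adams–Riemann–Roch for the elementary projection, over a base where `j` is invertible (helper1)
-/

set_option autoImplicit false
set_option maxHeartbeats 1000000

universe u

namespace Groth.Agent.Lib.AdamsRR3H1

open Polynomial LambdaRing Groth.Agent.Lib.LambdaRingH1 Groth.Agent.Lib.LambdaSplitH1
  Groth.Agent.Lib.ElemExtLgenH1 Groth.Agent.Lib.ElemExtLamH1 Groth.Agent.Lib.LambdaGAH1
  Groth.Agent.S3779 Groth.Agent.Lib.AdamsRRH1 Groth.Agent.Lib.AdamsRR2H1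

section BC
variable {K Kt : Type*} [CommRing K] [CommRing Kt] (ι : K →+* Kt) (p : K[X])

/-- base change `K[X]/(p) → Kt[X]/(p.map ι)` -/
noncomputable def bc : AdjoinRoot p →+* AdjoinRoot (p.map ι) :=
  AdjoinRoot.lift ((AdjoinRoot.of (p.map ι)).comp ι) (AdjoinRoot.root (p.map ι))
    (by rw [← eval₂_map]; exact AdjoinRoot.eval₂_root _)

theorem bc_of (c : K) : bc ι p (AdjoinRoot.of p c) = AdjoinRoot.of (p.map ι) (ι c) := by
  rw [bc, AdjoinRoot.lift_of]
  rfl

theorem bc_root : bc ι p (AdjoinRoot.root p) = AdjoinRoot.root (p.map ι) := by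
  rw [bc, AdjoinRoot.lift_root]

theorem bc_aeval (g : K[X]) :
    bc ι p (aeval (AdjoinRoot.root p) g) = aeval (AdjoinRoot.root (p.map ι)) (g.map ι) := by
  rw [AdjoinRoot.aeval_eq, bc, AdjoinRoot.lift_mk, aeval_def, eval₂_map, AdjoinRoot.algebraMap_eq]

end BC

section Assembly
variable {K : Type u} [CommRing K] [LambdaOps K] (P : PosStructure K) (hK : HasSplitting K P)
  (e : K) (he : e ∈ P.pos) (r : ℕ) (hr : P.aug e = r + 1)
  [LambdaOps (AdjoinRoot (KRR.extPoly P e))] (Pe : PosStructure (AdjoinRoot (KRR.extPoly P e)))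
  (hext : IsExtension P Pe (AdjoinRoot.of (KRR.extPoly P e)))
  (hline : Pe.IsLine (AdjoinRoot.root (KRR.extPoly P e)))
  (hsplit : HasSplitting (AdjoinRoot (KRR.extPoly P e)) Pe) (N : ℕ)
  (hN : gammaFiltration Pe N = ⊥)
  (f : AdjoinRoot (KRR.extPoly P e) →ₗ[K] K)
  (hf : ∀ i : ℕ, i ≤ r → f (AdjoinRoot.root (KRR.extPoly P e) ^ i) = KRR.sigma i e)
  (linv : AdjoinRoot (KRR.extPoly P e)) (hlinv : linv * AdjoinRoot.root (KRR.extPoly P e) = 1)
  (j : ℕ) (hj : 1 ≤ j)
  {Kt : Type u} [CommRing Kt] (ι : K →+* Kt) (hjt : IsUnit ((j : ℕ) : Kt))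

local notation "pe" => KRR.extPoly P e
local notation "Ke" => AdjoinRoot (KRR.extPoly P e)
local notation "pt" => Polynomial.map ι (KRR.extPoly P e)
local notation "At" => AdjoinRoot (Polynomial.map ι (KRR.extPoly P e))
local notation "rtt" => AdjoinRoot.root (Polynomial.map ι (KRR.extPoly P e))

include hK he hr hext hline hsplit hN hf hlinv hj hjt in
theorem abstract_main [Nontrivial Kt] :
    ∃ ρ' : At →ₗ[Kt] Kt,
      (∀ x : Ke, ρ' (rtt ^ r * bc ι pe x) = ι (f x)) ∧
      ∀ W : At, W * bc ι pe (KRR.bott Pe j (AdjoinRoot.of pe e * linv)) = 1 →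
        ∀ x : Ke, ρ' (rtt ^ r * ((j : At) * W * bc ι pe (adams Pe j x))) =
          ι (adams P j (f x)) := by
  classical
  haveI : Nontrivial K := RingHom.domain_nontrivial P.aug
  have hm : (P.aug e).toNat = r + 1 := by rw [hr]; omega
  have hmon : (pe).Monic := extPoly_monic P e he
  have hdeg : (pe).natDegree = r + 1 := by rw [extPoly_natDegree P e he, hm]
  have hmont : (pt).Monic := hmon.map ι
  have hdegt : (pt).natDegree = r + 1 := by rw [hmon.natDegree_map ι, hdeg]
  obtain ⟨ρ', hρ'⟩ := exists_rho pt r hmont hdegt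
  have hpart1 := Groth.Agent.S3779.part1 P e he r hr f hf
  -- (1) `ρ'(ℓ'^a) = ι (s_a)`
  have hρs : ∀ a, ρ' (rtt ^ a) = ι (sseq e r a) := by
    refine Groth.Agent.S3779.gen1 rtt (fun i => ι (cc e i)) (fun a => ι (sseq e r a)) (r + 1)
      ?_ ?_ ?_ ρ' ?_
    · have h := congrArg (bc ι pe) (root_rel P e (r + 1) hm)
      rw [map_sum, map_zero] at h
      refine Eq.trans ?_ h
      apply Finset.sum_congr rfl
      intro i _
      rw [map_mul, map_pow, bc_root, AdjoinRoot.algebraMap_eq, AdjoinRoot.algebraMap_eq, bc_of]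
    · show ι (cc e 0) = 1
      rw [cc_zero, map_one]
    · intro n hn
      have h := congrArg ι (sseq_rel P e he r hm n hn)
      rw [map_sum, map_zero] at h
      refine Eq.trans ?_ h
      apply Finset.sum_congr rfl
      intro i _
      rw [map_mul]
    · intro i hi
      rw [hρ' i (by omega)]
      unfold sseq
      by_cases hir : i = r
      · subst hir
        rw [if_pos rfl, if_neg (lt_irrefl _), Nat.sub_self, sigma_zero, map_one]
      · rw [if_neg hir, if_pos (by omega), map_zero]
  have hsr : ∀ i, sseq e r (r + i) = KRR.sigma i e := by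
    intro i
    unfold sseq
    rw [if_neg (by omega), show r + i - r = i by omega]
  refine ⟨ρ', ?_, ?_⟩
  · -- first part
    intro x
    induction x using AdjoinRoot.induction_on with
    | ih g =>
      induction g using Polynomial.induction_on' with
      | add g₁ g₂ h₁ h₂ =>
        simp only [map_add, mul_add, h₁, h₂]
      | monomial i c =>
        have hx : AdjoinRoot.mk pe (monomial i c) =
            AdjoinRoot.of pe c * AdjoinRoot.root pe ^ i := by
          rw [← C_mul_X_pow_eq_monomial, map_mul, map_pow, AdjoinRoot.mk_C, AdjoinRoot.mk_X]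
        have hb : bc ι pe (AdjoinRoot.of pe c * AdjoinRoot.root pe ^ i) =
            AdjoinRoot.of pt (ι c) * rtt ^ i := by
          rw [map_mul, map_pow, bc_of, bc_root]
        have h1 : rtt ^ r * (AdjoinRoot.of pt (ι c) * rtt ^ i) = (ι c) • rtt ^ (r + i) := by
          rw [Algebra.smul_def, AdjoinRoot.algebraMap_eq, pow_add]
          ring
        have h2 : AdjoinRoot.of pe c * AdjoinRoot.root pe ^ i = c • AdjoinRoot.root pe ^ i := by
          rw [Algebra.smul_def, AdjoinRoot.algebraMap_eq]
        rw [hx, hb, h1, h2, map_smul, map_smul, hρs, hsr, hpart1, smul_eq_mul, smul_eq_mul, map_mul]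
  · -- second part
    intro W hW
    obtain ⟨q, hq⟩ := exists_q P hK e he j
    have hPq : expand Kt j (((pe).map (adamsRingHom P hK j)).map ι) = pt * q.map ι := by
      rw [← map_expand, hq, Polynomial.map_mul]
    have hPjmon : (((pe).map (adamsRingHom P hK j)).map ι).Monic := (hmon.map _).map ι
    have hPjdeg : (((pe).map (adamsRingHom P hK j)).map ι).natDegree = r + 1 := by
      rw [(hmon.map _).natDegree_map ι, hmon.natDegree_map, hdeg]
    have hnil : IsNilpotent (rtt - 1) := by
      have h := (root_sub_one_nilpotent P e Pe hline N hN).map (bc ι pe)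
      rwa [map_sub, bc_root, map_one] at h
    obtain ⟨Lt, hLtdef⟩ : ∃ Lt, Lt = bc ι pe linv := ⟨_, rfl⟩
    have hLt : Lt * rtt = 1 := by
      have h := congrArg (bc ι pe) hlinv
      rwa [map_mul, bc_root, map_one, ← hLtdef] at h
    have hLM : Lt ^ ((j - 1) * (r + 1)) * rtt ^ ((j - 1) * (r + 1)) = 1 := by
      rw [← mul_pow, hLt, one_pow]
    have hu : W * Lt ^ ((j - 1) * (r + 1)) * aeval rtt (q.map ι) = 1 := by
      rw [← bc_aeval, aeval_q_eq P hK e he Pe hext hline hsplit linv hlinv r hr j q hq, map_mul,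
        map_pow, bc_root]
      linear_combination (W * bc ι pe (KRR.bott Pe j (AdjoinRoot.of pe e * linv))) * hLM + hW
    have hX := thmX pt (((pe).map (adamsRingHom P hK j)).map ι) (q.map ι) r j hmont hdegt hPjmon
      hPjdeg (by omega) hPq hjt hnil _ hu ρ' hρ'
    obtain ⟨z, hz⟩ : ∃ z : At,
        z = (j : At) * rtt ^ (j - 1) * (W * Lt ^ ((j - 1) * (r + 1))) := ⟨_, rfl⟩
    rw [← hz] at hX
    have hΛ : ∀ a, (ρ'.comp (LinearMap.mulLeft Kt z)) ((rtt ^ j) ^ a) =
        ι (adams P j (sseq e r a)) := by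
      refine Groth.Agent.S3779.gen1 (rtt ^ j) (fun i => ι (adams P j (cc e i)))
        (fun a => ι (adams P j (sseq e r a))) (r + 1) ?_ ?_ ?_ _ ?_
      · have h0 : aeval (rtt ^ j) (((pe).map (adamsRingHom P hK j)).map ι) = 0 := by
          have h := congrArg (aeval rtt) hPq
          rw [expand_aeval, map_mul, AdjoinRoot.aeval_eq, AdjoinRoot.mk_self, zero_mul] at h
          exact h
        rw [Polynomial.map_map, extPoly_map_eq P e r hm (ι.comp (adamsRingHom P hK j)), map_sum] at h0
        refine Eq.trans ?_ h0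
        apply Finset.sum_congr rfl
        intro i _
        rw [map_mul, aeval_C, map_pow, aeval_X]
        rfl
      · show ι (adams P j (cc e 0)) = 1
        rw [cc_zero, adams_one, map_one]
      · intro n hn
        have h := congrArg (ι.comp (adamsRingHom P hK j)) (sseq_rel P e he r hm n hn)
        rw [map_sum, map_zero] at h
        refine Eq.trans ?_ h
        apply Finset.sum_congr rfl
        intro i _
        rw [map_mul]
        rfl
      · intro i hi
        rw [LinearMap.comp_apply, LinearMap.mulLeft_apply, hX i (by omega)]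
        unfold sseq
        by_cases hir : i = r
        · subst hir
          rw [if_pos rfl, if_neg (lt_irrefl _), Nat.sub_self, sigma_zero, adams_one, map_one]
        · rw [if_neg hir, if_pos (by omega), adams_zero_arg, map_zero]
    have hpow : rtt ^ (j - 1) * (rtt ^ j) ^ r = rtt ^ ((j - 1) * (r + 1)) * rtt ^ r := by
      rw [← pow_mul, ← pow_add, ← pow_add]
      congr 1
      obtain ⟨j', rfl⟩ : ∃ j', j = j' + 1 := ⟨j - 1, by omega⟩
      simp only [Nat.add_sub_cancel]
      ring
    intro x
    induction x using AdjoinRoot.induction_on with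
    | ih g =>
      induction g using Polynomial.induction_on' with
      | add g₁ g₂ h₁ h₂ =>
        simp only [map_add, adams_add, mul_add, h₁, h₂]
      | monomial i c =>
        have hx : AdjoinRoot.mk pe (monomial i c) =
            AdjoinRoot.of pe c * AdjoinRoot.root pe ^ i := by
          rw [← C_mul_X_pow_eq_monomial, map_mul, map_pow, AdjoinRoot.mk_C, AdjoinRoot.mk_X]
        have hb2 : bc ι pe (AdjoinRoot.of pe (adams P j c) * (AdjoinRoot.root pe ^ j) ^ i) =
            AdjoinRoot.of pt (ι (adams P j c)) * (rtt ^ j) ^ i := by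
          rw [map_mul, map_pow, map_pow, bc_of, bc_root]
        have h2 : AdjoinRoot.of pe c * AdjoinRoot.root pe ^ i = c • AdjoinRoot.root pe ^ i := by
          rw [Algebra.smul_def, AdjoinRoot.algebraMap_eq]
        have h3 : adams Pe j (AdjoinRoot.of pe c * AdjoinRoot.root pe ^ i) =
            AdjoinRoot.of pe (adams P j c) * (AdjoinRoot.root pe ^ j) ^ i := by
          rw [← adamsRingHom_apply Pe hsplit, map_mul, map_pow, adamsRingHom_apply,
            adamsRingHom_apply, ← adams_ext P Pe _ hext, adams_line Pe hline]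
        have h4 : rtt ^ r * ((j : At) * W * (AdjoinRoot.of pt (ι (adams P j c)) * (rtt ^ j) ^ i)) =
            (ι (adams P j c)) • (z * (rtt ^ j) ^ (r + i)) := by
          rw [Algebra.smul_def, AdjoinRoot.algebraMap_eq, hz, pow_add]
          linear_combination (-(AdjoinRoot.of pt (ι (adams P j c)) * (j : At) * W * (rtt ^ j) ^ i *
            Lt ^ ((j - 1) * (r + 1)))) * hpow - (AdjoinRoot.of pt (ι (adams P j c)) * (j : At) * W *
            (rtt ^ j) ^ i * rtt ^ r) * hLM
        have h5 := hΛ (r + i)
        rw [LinearMap.comp_apply, LinearMap.mulLeft_apply, hsr] at h5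
        rw [hx, h3, hb2, h4, map_smul, h5, h2, map_smul, hpart1, smul_eq_mul, smul_eq_mul,
          adams_mul P hK, map_mul]

end Assembly

end Groth.Agent.Lib.AdamsRR3H1
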