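import Mathlib
import Groth.Agent.Lib.AdamsRR3_helper1

/-!
# Adams–Riemann–Roch for the elementary projection: the statement over `R₀ ⊗[ℤ] -` (helper1)
-/

set_option autoImplicit false
set_option maxHeartbeats 1000000

universe u

namespace Groth.Agent.Lib.AdamsRR4H1

open Polynomial LambdaRing Groth.Agent.Lib.LambdaSplitH1 Groth.Agent.Lib.AdamsRRH1
  Groth.Agent.Lib.AdamsRR2H1 Groth.Agent.Lib.AdamsRR3H1
open scoped TensorProduct

section Loc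

theorem isUnit_natCast_loc (j : ℕ) : IsUnit ((j : ℕ) : Localization.Away ((j : ℕ) : ℤ)) := by
  have h := IsLocalization.Away.algebraMap_isUnit (S := Localization.Away ((j : ℕ) : ℤ))
    ((j : ℕ) : ℤ)
  rwa [eq_intCast, Int.cast_natCast] at h

end Loc

section GenTens
variable {R₀ : Type} {K B C : Type u} [CommRing R₀] [CommRing K] [CommRing B] [Algebra K B] [CommRing C]
  [Algebra (R₀ ⊗[ℤ] K) C]
  (f : B →ₗ[K] K) (g : B →+* C) (ρ' : C →ₗ[R₀ ⊗[ℤ] K] (R₀ ⊗[ℤ] K)) (c₀ : C)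

/-- `c ↦ 1 ⊗ c` -/
noncomputable def ιK (R₀ : Type) (K : Type u) [CommRing R₀] [CommRing K] : K →+* R₀ ⊗[ℤ] K :=
  (Algebra.TensorProduct.includeRight : K →ₐ[ℤ] R₀ ⊗[ℤ] K).toRingHom

theorem ιK_apply (c : K) : ιK R₀ K c = (1 : R₀) ⊗ₜ[ℤ] c := rfl

theorem isUnit_natCast_tens (j : ℕ) (hj : IsUnit ((j : ℕ) : R₀)) :
    IsUnit ((j : ℕ) : R₀ ⊗[ℤ] K) := by
  have h := hj.map (Algebra.TensorProduct.includeLeftRingHom : R₀ →+* R₀ ⊗[ℤ] K)
  rwa [map_natCast] at h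

theorem tens_key (h1 : ∀ x : B, ρ' (c₀ * g x) = (1 : R₀) ⊗ₜ[ℤ] f x) :
    ∃ Φ : R₀ ⊗[ℤ] B →+* C,
      (∀ (a : R₀) (x : B),
        Φ (a ⊗ₜ[ℤ] x) = algebraMap (R₀ ⊗[ℤ] K) C (a ⊗ₜ[ℤ] (1 : K)) * g x) ∧
      ∀ y : R₀ ⊗[ℤ] B,
        LinearMap.lTensor R₀ f.toAddMonoidHom.toIntLinearMap y = ρ' (c₀ * Φ y) := by
  obtain ⟨Φ, hΦ⟩ : ∃ Φ : R₀ ⊗[ℤ] B →+* C, ∀ (a : R₀) (x : B),
      Φ (a ⊗ₜ[ℤ] x) = algebraMap (R₀ ⊗[ℤ] K) C (a ⊗ₜ[ℤ] (1 : K)) * g x :=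
    ⟨(Algebra.TensorProduct.lift
      (((algebraMap (R₀ ⊗[ℤ] K) C).comp
        (Algebra.TensorProduct.includeLeftRingHom : R₀ →+* R₀ ⊗[ℤ] K)).toIntAlgHom)
      g.toIntAlgHom (fun _ _ => Commute.all _ _)).toRingHom, fun a x => rfl⟩
  refine ⟨Φ, hΦ, fun y => ?_⟩
  induction y using TensorProduct.induction_on with
  | zero => rw [map_zero, map_zero, mul_zero, map_zero]
  | tmul a x =>
    rw [LinearMap.lTensor_tmul, hΦ, mul_left_comm, ← Algebra.smul_def, map_smul, h1 x, smul_eq_mul,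
      Algebra.TensorProduct.tmul_mul_tmul, mul_one, one_mul]
    rfl
  | add y₁ y₂ h₁ h₂ => rw [map_add, map_add, mul_add, map_add, h₁, h₂]

end GenTens

/-- the `ℤ`-algebra structure on `K[X]/(p)` compatible with `AddCommGroup.toIntModule` -/
noncomputable local instance (priority := 2000) instAlgIntAdj {K : Type*} [CommRing K]
    (p : K[X]) : Algebra ℤ (AdjoinRoot p) := Ring.toIntAlgebra _

section Main
variable {K : Type u} [CommRing K] [LambdaOps K] (P : PosStructure K) (hK : HasSplitting K P)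
  (e : K) (he : e ∈ P.pos) (r : ℕ) (hr : P.aug e = r + 1)
  [LambdaOps (AdjoinRoot (KRR.extPoly P e))] (Pe : PosStructure (AdjoinRoot (KRR.extPoly P e)))
  (hext : IsExtension P Pe (AdjoinRoot.of (KRR.extPoly P e)))
  (hline : Pe.IsLine (AdjoinRoot.root (KRR.extPoly P e)))
  (hsplit : HasSplitting (AdjoinRoot (KRR.extPoly P e)) Pe) (N : ℕ)
  (hN : gammaFiltration Pe N = ⊥)
  (f : AdjoinRoot (KRR.extPoly P e) →ₗ[K] K)
  (hf : ∀ i : ℕ, i ≤ r → f (AdjoinRoot.root (KRR.extPoly P e) ^ i) = KRR.sigma i e)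
  (linv : AdjoinRoot (KRR.extPoly P e)) (hlinv : linv * AdjoinRoot.root (KRR.extPoly P e) = 1)
  (j : ℕ) (hj : 1 ≤ j)
  {R₀ : Type} [CommRing R₀] (hjR : IsUnit ((j : ℕ) : R₀))

local notation "pe" => KRR.extPoly P e
local notation "Ke" => AdjoinRoot (KRR.extPoly P e)

include hK he hr hext hline hsplit hN hf hlinv hj hjR in
theorem main_gen :
    (∃ w : R₀ ⊗[ℤ] Ke, w * ((1 : R₀) ⊗ₜ[ℤ] KRR.bott Pe j (AdjoinRoot.of pe e * linv)) = 1) ∧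
    ∀ w : R₀ ⊗[ℤ] Ke, w * ((1 : R₀) ⊗ₜ[ℤ] KRR.bott Pe j (AdjoinRoot.of pe e * linv)) = 1 →
      ∀ x : Ke, (1 : R₀) ⊗ₜ[ℤ] adams P j (f x) =
        LinearMap.lTensor R₀ f.toAddMonoidHom.toIntLinearMap
          ((j : R₀ ⊗[ℤ] Ke) * w * ((1 : R₀) ⊗ₜ[ℤ] adams Pe j x)) := by
  classical
  constructor
  · have hnil := bott_sub_nilpotent P hK e he Pe hext hline hsplit linv hlinv r hr N hN j
    have hnil' := hnil.map (ιK R₀ Ke)
    rw [map_sub, map_pow, map_natCast, ιK_apply] at hnil'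
    have hu := isUnit_of_sub_mem_nilradical (A := R₀ ⊗[ℤ] Ke)
      ((isUnit_natCast_tens (K := Ke) j hjR).pow (r + 1)) (mem_nilradical.mpr hnil')
    exact hu.exists_left_inv
  · intro w hw x
    rcases subsingleton_or_nontrivial (R₀ ⊗[ℤ] K) with hs | hnt
    · exact Subsingleton.elim _ _
    obtain ⟨ρ', h1, h2⟩ := abstract_main P hK e he r hr Pe hext hline hsplit N hN f hf linv hlinv
      j hj (Kt := R₀ ⊗[ℤ] K) (ιK R₀ K) (isUnit_natCast_tens (K := K) j hjR)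
    obtain ⟨Φ, hΦ, key⟩ := tens_key (R₀ := R₀) f (bc (Kt := R₀ ⊗[ℤ] K) (ιK R₀ K) pe) ρ'
      (AdjoinRoot.root (Polynomial.map (ιK R₀ K) pe) ^ r) h1
    have hΦ1 : ∀ y : Ke, Φ ((1 : R₀) ⊗ₜ[ℤ] y) = bc (Kt := R₀ ⊗[ℤ] K) (ιK R₀ K) pe y := by
      intro y
      rw [hΦ, ← Algebra.TensorProduct.one_def, map_one, one_mul]
    have hW : Φ w * bc (Kt := R₀ ⊗[ℤ] K) (ιK R₀ K) pe
        (KRR.bott Pe j (AdjoinRoot.of pe e * linv)) = 1 := by
      have h := congrArg Φ hw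
      rwa [map_mul, hΦ1, map_one] at h
    rw [key, map_mul Φ, map_mul Φ, map_natCast Φ, hΦ1, h2 (Φ w) hW x, ιK_apply]

end Main

end Groth.Agent.Lib.AdamsRR4H1
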