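import Mathlib
import Groth.Agent.Lib.RDPlusSingle_helper9

/-!
# Objects of an adapted class are right acyclic (helper9)

`F : A ⥤ B` additive, `A` with enough injectives, `I` a class of objects such that every object
embeds into an object of `I`, and for a short exact sequence `0 → P → Q → R → 0` with `P, Q ∈ I`,
`R ∈ I` and `F` of the sequence is short exact.  Then the unit `Q(F X[0]) ⟶ RF(X[0])` is an
isomorphism for `X ∈ I` (`AdaptedAcyc.main`).  The proof uses the long exact sequence of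
`H^n ∘ RF` on single complexes (`RDPlusLES.les`).
-/

open CategoryTheory CategoryTheory.Limits HomologicalComplex

namespace AdaptedAcyc

universe w w' v v' u u'

variable {A : Type u} [Category.{v} A] [Abelian A] [HasDerivedCategory.{w} A] [EnoughInjectives A]
  {B : Type u'} [Category.{v'} B] [Abelian B] [HasDerivedCategory.{w'} B]
  (F : A ⥤ B) [F.Additive]

open RDPlusLES RDPlusSingle

omit [HasDerivedCategory A] [EnoughInjectives A] in
lemma isIso_of_isZero {𝒞 : Type*} [Category 𝒞] [HasZeroMorphisms 𝒞] {X Y : 𝒞} (f : X ⟶ Y)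
    (hX : IsZero X) (hY : IsZero Y) : IsIso f :=
  ⟨0, hX.eq_of_src _ _, hY.eq_of_src _ _⟩

/-- `X[0] ⟶ Y[0]` -/
noncomputable def singleMap {X Y : A} (u : X ⟶ Y) : singleObj X ⟶ singleObj Y :=
  ObjectProperty.homMk ((CochainComplex.singleFunctor A 0).map u)

omit [HasDerivedCategory A] [EnoughInjectives A] in
lemma singleMap_comp {X Y Z : A} (u : X ⟶ Y) (v : Y ⟶ Z) :
    singleMap (u ≫ v) = singleMap u ≫ singleMap v := by
  apply ObjectProperty.hom_ext
  exact Functor.map_comp (CochainComplex.singleFunctor A 0) u v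

/-- `H^n(RF(X[0]))` -/
noncomputable abbrev P (n : ℤ) (X : A) : B := (Phi F n).obj (singleObj X)

/-- functoriality of `P` -/
noncomputable abbrev Pmap (n : ℤ) {X Y : A} (u : X ⟶ Y) : P F n X ⟶ P F n Y :=
  (Phi F n).map (singleMap u)

lemma Pmap_comp (n : ℤ) {X Y Z : A} (u : X ⟶ Y) (v : Y ⟶ Z) :
    Pmap F n (u ≫ v) = Pmap F n u ≫ Pmap F n v := by
  change (Phi F n).map (singleMap (u ≫ v)) = (Phi F n).map (singleMap u) ≫ (Phi F n).map (singleMap v)
  rw [singleMap_comp, Functor.map_comp]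

/-- the functor `X ↦ H^0(Q(F(X[0])))` -/
noncomputable def G0 : A ⥤ B :=
  HomologicalComplex.single A (ComplexShape.up ℤ) 0 ⋙
    F.mapHomologicalComplex (ComplexShape.up ℤ) ⋙
      DerivedCategory.Q ⋙ DerivedCategory.homologyFunctor B 0

omit [HasDerivedCategory A] [EnoughInjectives A] in
instance : (G0 F).Additive := by
  unfold G0
  infer_instance

/-- `G0 ≅ F` -/
noncomputable def e0 : G0 F ≅ F :=
  (Functor.isoWhiskerLeft (HomologicalComplex.single A (ComplexShape.up ℤ) 0 ⋙
      F.mapHomologicalComplex (ComplexShape.up ℤ)) (DerivedCategory.homologyFunctorFactors B 0) :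
    G0 F ≅ (HomologicalComplex.single A (ComplexShape.up ℤ) 0 ⋙
      F.mapHomologicalComplex (ComplexShape.up ℤ)) ⋙
        HomologicalComplex.homologyFunctor B (ComplexShape.up ℤ) 0) ≪≫
  Functor.isoWhiskerRight (HomologicalComplex.singleMapHomologicalComplex F (ComplexShape.up ℤ) 0)
    (HomologicalComplex.homologyFunctor B (ComplexShape.up ℤ) 0) ≪≫
  Functor.associator _ _ _ ≪≫
  Functor.isoWhiskerLeft F (HomologicalComplex.homologyFunctorSingleIso B (ComplexShape.up ℤ) 0) ≪≫
  F.rightUnitor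

/-- the comparison `H^0(F X[0]) ⟶ H^0(RF(X[0]))` -/
noncomputable def a (X : A) : (G0 F).obj X ⟶ P F 0 X := beta F 0 (singleObj X)

lemma a_naturality {X Y : A} (u : X ⟶ Y) : (G0 F).map u ≫ a F Y = a F X ≫ Pmap F 0 u :=
  beta_naturality F 0 (singleMap u)

omit [HasDerivedCategory A] [EnoughInjectives A] in
lemma isZero_HQF (K : CochainComplex A ℤ) (n : ℤ) (h : IsZero (K.X n)) : IsZero (HQF F n K) := by
  have e := (DerivedCategory.homologyFunctorFactors B n).app
    ((F.mapHomologicalComplex (ComplexShape.up ℤ)).obj K)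
  refine IsZero.of_iso ?_ e
  change IsZero (((F.mapHomologicalComplex (ComplexShape.up ℤ)).obj K).homology n)
  rw [← exactAt_iff_isZero_homology]
  exact ExactAt.of_isZero (F.map_isZero h)

lemma isZero_P_neg (n : ℤ) (hn : n < 0) (X : A) : IsZero (P F n X) := by
  let I := injectiveResolution X
  let L : CochainComplex.Plus A := ⟨I.cochainComplex, 0, inferInstance⟩
  let p : singleObj X ⟶ L := ObjectProperty.homMk I.ι'
  have hp : QuasiIso p.hom := (inferInstance : QuasiIso I.ι')
  have hL : ∀ q, Injective (L.obj.X q) := fun q => (inferInstance : Injective (I.cochainComplex.X q))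
  refine IsZero.of_iso ?_ (theta F n p hp hL)
  exact isZero_HQF F _ n (I.cochainComplex.isZero_of_isStrictlyGE 0 n hn)

omit [HasDerivedCategory A] [EnoughInjectives A] in
lemma injective_single_X (J : A) [Injective J] (q : ℤ) :
    Injective (((CochainComplex.singleFunctor A 0).obj J).X q) := by
  by_cases hq : q = 0
  · subst hq
    exact Injective.of_iso (HomologicalComplex.singleObjXSelf (ComplexShape.up ℤ) 0 J).symm
      inferInstance
  · exact (isZero_single_obj_X (ComplexShape.up ℤ) 0 J q hq).injective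

lemma isIso_beta_of_injective (n : ℤ) (J : A) [Injective J] : IsIso (beta F n (singleObj J)) :=
  isIso_beta F n (singleObj J) (injective_single_X J)

lemma isIso_a_of_injective (J : A) [Injective J] : IsIso (a F J) :=
  isIso_beta_of_injective F 0 J

lemma isZero_P_injective (n : ℤ) (hn : n ≠ 0) (J : A) [Injective J] : IsZero (P F n J) := by
  haveI := isIso_beta_of_injective F n J
  exact IsZero.of_iso (isZero_HQF F _ n (isZero_single_obj_X (ComplexShape.up ℤ) 0 J n hn))
    (asIso (beta F n (singleObj J))).symm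

/-- the long exact sequence of `P` for a short exact sequence of objects -/
lemma les_single (S : ShortComplex A) (hS : S.ShortExact) (n₀ n₁ : ℤ) (h : n₀ + 1 = n₁) :
    ∃ (w₂ : Pmap F n₀ S.f ≫ Pmap F n₀ S.g = 0) (δ : P F n₀ S.X₃ ⟶ P F n₁ S.X₁)
      (w₃ : Pmap F n₀ S.g ≫ δ = 0) (w₁ : δ ≫ Pmap F n₁ S.f = 0),
      (ShortComplex.mk _ _ w₂).Exact ∧ (ShortComplex.mk _ _ w₃).Exact ∧
        (ShortComplex.mk _ _ w₁).Exact := by
  have hS0 : (S.map (HomologicalComplex.single A (ComplexShape.up ℤ) 0)).ShortExact :=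
    hS.map_of_exact _
  exact les F (singleMap S.f) (singleMap S.g)
    (S.map (HomologicalComplex.single A (ComplexShape.up ℤ) 0)).zero hS0 n₀ n₁ h

theorem main (I : ObjectProperty A)
    (h1 : ∀ X : A, ∃ (Y : A) (ι : X ⟶ Y), I Y ∧ Mono ι)
    (h2 : ∀ S : ShortComplex A, S.ShortExact → I S.X₁ → I S.X₂ → I S.X₃ ∧ (S.map F).ShortExact)
    (X : A) (hX : I X) :
    IsIso (F.rightDerivedFunctorPlusUnit.app ((HomotopyCategory.Plus.singleFunctor A 0).obj X)) := by
  -- the data attached to an object of `I`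
  have data : ∀ Z : A, I Z → ∃ (J Y R : A) (j : Z ⟶ J) (k : J ⟶ Y) (p : Y ⟶ R)
      (w : (j ≫ k) ≫ p = 0), Injective J ∧ I Y ∧ I R ∧
      (ShortComplex.mk (j ≫ k) p w).ShortExact ∧
      ((ShortComplex.mk (j ≫ k) p w).map (G0 F)).ShortExact := by
    intro Z hZ
    obtain ⟨Y, k, hY, hk⟩ := h1 (Injective.under Z)
    haveI := hk
    haveI : Mono (Injective.ι Z ≫ k) := mono_comp _ _
    let S : ShortComplex A := ShortComplex.mk (Injective.ι Z ≫ k) (cokernel.π (Injective.ι Z ≫ k))
      (cokernel.condition _)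
    have hS : S.ShortExact :=
      ShortComplex.ShortExact.mk' (S.exact_of_g_is_cokernel (cokernelIsCokernel _))
        (inferInstance : Mono (Injective.ι Z ≫ k))
        (inferInstance : Epi (cokernel.π (Injective.ι Z ≫ k)))
    obtain ⟨hR, hFS⟩ := h2 S hS hZ hY
    exact ⟨Injective.under Z, Y, _, Injective.ι Z, k, cokernel.π (Injective.ι Z ≫ k),
      cokernel.condition _, inferInstance, hY, hR, hS,
      ShortComplex.shortExact_of_iso (S.mapNatIso (e0 F)).symm hFS⟩
  -- `a` is a monomorphism on `I`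
  have claimM : ∀ Z : A, I Z → Mono (a F Z) := by
    intro Z hZ
    obtain ⟨J, Y, R, j, k, p, w, hJ, hY, hR, hS, hGS⟩ := data Z hZ
    haveI := hJ
    haveI h0 : Mono ((G0 F).map (j ≫ k)) := hGS.mono_f
    haveI : Mono ((G0 F).map j) := by
      rw [Functor.map_comp] at h0
      exact mono_of_mono ((G0 F).map j) ((G0 F).map k)
    haveI : IsIso (a F J) := isIso_a_of_injective F J
    have hn := a_naturality F j
    haveI : Mono (a F Z ≫ Pmap F 0 j) := by rw [← hn]; exact mono_comp _ _
    exact mono_of_mono (a F Z) (Pmap F 0 j)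
  -- `a` is an isomorphism on `I`
  have claimI : ∀ Z : A, I Z → IsIso (a F Z) := by
    intro Z hZ
    obtain ⟨J, Y, R, j, k, p, w, hJ, hY, hR, hS, hGS⟩ := data Z hZ
    haveI := hJ
    haveI : IsIso (a F J) := isIso_a_of_injective F J
    haveI : Mono (a F R) := claimM R hR
    haveI : Mono (a F Z) := claimM Z hZ
    obtain ⟨w₂, -, -, -, -, -, -⟩ := les_single F _ hS 0 1 (by norm_num)
    obtain ⟨-, δ, -, w₁, -, -, ex₁⟩ := les_single F _ hS (-1) 0 (by norm_num)
    haveI hmono : Mono (Pmap F 0 (j ≫ k)) := by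
      have hδ : δ = 0 := (isZero_P_neg F (-1) (by norm_num) R).eq_of_src _ _
      exact (ShortComplex.exact_iff_mono _ hδ).1 ex₁
    let t : P F 0 Z ⟶ (G0 F).obj Y := Pmap F 0 j ≫ inv (a F J) ≫ (G0 F).map k
    have ht : t ≫ a F Y = Pmap F 0 (j ≫ k) := by
      have hn := a_naturality F k
      simp only [t, Category.assoc]
      rw [hn, IsIso.inv_hom_id_assoc, ← Pmap_comp]
    have ht0 : t ≫ (G0 F).map p = 0 := by
      rw [← cancel_mono (a F R), Category.assoc, a_naturality F p, ← Category.assoc, ht, zero_comp]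
      exact w₂
    haveI : Mono ((ShortComplex.mk (j ≫ k) p w).map (G0 F)).f := hGS.mono_f
    let s : P F 0 Z ⟶ (G0 F).obj Z := hGS.exact.lift t ht0
    have hs : s ≫ (G0 F).map (j ≫ k) = t := hGS.exact.lift_f t ht0
    have hsa : s ≫ a F Z = 𝟙 _ := by
      have h3 : (s ≫ a F Z) ≫ Pmap F 0 (j ≫ k) = 𝟙 _ ≫ Pmap F 0 (j ≫ k) := by
        rw [Category.assoc, ← a_naturality F (j ≫ k), ← Category.assoc, hs, ht, Category.id_comp]
      exact (cancel_mono _).1 h3
    haveI : IsSplitEpi (a F Z) := IsSplitEpi.mk' ⟨s, hsa⟩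
    exact isIso_of_mono_of_isSplitEpi (a F Z)
  -- vanishing in positive degrees
  have claimV : ∀ m : ℕ, ∀ Z : A, I Z → IsZero (P F ((m : ℤ) + 1) Z) := by
    intro m
    induction m with
    | zero =>
      intro Z hZ
      obtain ⟨J, Y, R, j, k, p, w, hJ, hY, hR, hS, hGS⟩ := data Z hZ
      haveI := hJ
      obtain ⟨-, δ, w₃, w₁, -, ex₃, ex₁⟩ := les_single F _ hS 0 (((0 : ℕ) : ℤ) + 1) (by norm_num)
      have hu0 : Pmap F (((0 : ℕ) : ℤ) + 1) (j ≫ k) = 0 := by
        have hj : Pmap F (((0 : ℕ) : ℤ) + 1) j = 0 :=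
          (isZero_P_injective F _ (by norm_num) J).eq_of_tgt _ _
        rw [Pmap_comp, hj, zero_comp]
      haveI hδepi : Epi δ := (ShortComplex.exact_iff_epi _ hu0).1 ex₁
      haveI : IsIso (a F R) := claimI R hR
      haveI : Epi ((G0 F).map p) := hGS.epi_g
      haveI : Epi (a F Y ≫ Pmap F 0 p) := by rw [← a_naturality F p]; exact epi_comp _ _
      haveI : Epi (Pmap F 0 p) := epi_of_epi (a F Y) (Pmap F 0 p)
      have hδ0 : δ = 0 := by rw [← cancel_epi (Pmap F 0 p), w₃, comp_zero]
      exact IsZero.of_epi_eq_zero δ hδ0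
    | succ m ih =>
      intro Z hZ
      obtain ⟨J, Y, R, j, k, p, w, hJ, hY, hR, hS, hGS⟩ := data Z hZ
      haveI := hJ
      obtain ⟨-, δ, w₃, w₁, -, ex₃, ex₁⟩ :=
        les_single F _ hS ((m : ℤ) + 1) (((m + 1 : ℕ) : ℤ) + 1) (by push_cast; ring)
      have hu0 : Pmap F (((m + 1 : ℕ) : ℤ) + 1) (j ≫ k) = 0 := by
        have hj : Pmap F (((m + 1 : ℕ) : ℤ) + 1) j = 0 :=
          (isZero_P_injective F _ (by omega) J).eq_of_tgt _ _
        rw [Pmap_comp, hj, zero_comp]
      haveI hδepi : Epi δ := (ShortComplex.exact_iff_epi _ hu0).1 ex₁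
      have hδ0 : δ = 0 := (ih R hR).eq_of_src _ _
      exact IsZero.of_epi_eq_zero δ hδ0
  -- conclusion
  change IsIso (F.rightDerivedFunctorPlusUnit.app
    ((HomotopyCategory.Plus.quotient A).obj (singleObj X)))
  rw [DerivedCategory.Plus.isIso_iff]
  intro n
  change IsIso (beta F n (singleObj X))
  rcases lt_trichotomy n 0 with hn | hn | hn
  · exact isIso_of_isZero _
      (isZero_HQF F _ n (isZero_single_obj_X (ComplexShape.up ℤ) 0 X n (by omega)))
      (isZero_P_neg F n hn X)
  · subst hn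
    exact claimI X hX
  · obtain ⟨m, rfl⟩ : ∃ m : ℕ, n = (m : ℤ) + 1 := ⟨(n - 1).toNat, by omega⟩
    exact isIso_of_isZero _
      (isZero_HQF F _ _ (isZero_single_obj_X (ComplexShape.up ℤ) 0 X _ (by omega)))
      (claimV m X hX)

end AdaptedAcyc
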