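import Mathlib
import Groth.Prelude.Def_Flat
import Groth.Prelude.Def_EGA41
import Groth.Agent.Lib.LocDim_helper8
import Groth.Agent.Lib.ImperfField_helper3
import Groth.Agent.Lib.Cartier_helper3
import Groth.Agent.Lib.DimFT_helper8

/-!
# Regular with separable residue field iff adapted germs exist (helper6)
-/

set_option autoImplicit false
set_option maxHeartbeats 400000
universe u
open TensorProduct IsLocalRing KaehlerDifferential

namespace Groth.Agent.Lib.AdaptedGerms_helper6

theorem card_filter_lt_le (n r : ℕ) :
    (Finset.univ.filter (fun i : Fin n => (i : ℕ) < r)).card ≤ r := by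
  refine le_trans (Finset.card_le_card_of_injOn (t := Finset.range r)
    (fun i : Fin n => (i : ℕ)) ?_ ?_) (by simp)
  · intro i hi
    simp only [Finset.coe_filter, Finset.mem_univ, true_and, Set.mem_setOf_eq] at hi
    simpa using hi
  · intro a _ b _ h
    exact Fin.ext h

theorem card_filter_ge_le (n r : ℕ) :
    (Finset.univ.filter (fun i : Fin n => r ≤ (i : ℕ))).card ≤ n - r := by
  refine le_trans (Finset.card_le_card_of_injOn (t := Finset.range (n - r))
    (fun i : Fin n => (i : ℕ) - r) ?_ ?_) (by simp)
  · intro i hi
    simp only [Finset.coe_filter, Finset.mem_univ, true_and, Set.mem_setOf_eq] at hi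
    have := i.2
    simp only [Finset.coe_range, Set.mem_Iio]
    omega
  · intro a ha b hb h
    simp only [Finset.coe_filter, Finset.mem_univ, true_and, Set.mem_setOf_eq] at ha hb
    apply Fin.ext
    simp only at h
    omega

theorem main (k A : Type u) [Field k] [CommRing A] [Algebra k A] [Algebra.FiniteType k A]
    (n r : ℕ) (p : Ideal A) [p.IsPrime]
    (hn : FlatMor.localDim (PrimeSpectrum A) ⟨p, inferInstance⟩ = (n : WithBot ℕ∞))
    (hr : ringKrullDim (Localization.AtPrime p) = (r : WithBot ℕ∞)) :
    (IsRegularLocalRing (Localization.AtPrime p) ∧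
        Algebra.IsGeometricallyReduced k p.ResidueField) ↔
      ∃ g : Fin n → Localization.AtPrime p,
        Ideal.span (g '' {i : Fin n | (i : ℕ) < r}) =
            IsLocalRing.maximalIdeal (Localization.AtPrime p) ∧
          Submodule.span p.ResidueField ((fun i : Fin n =>
            KaehlerDifferential.D k p.ResidueField
              (IsLocalRing.residue (Localization.AtPrime p) (g i))) ''
              {i : Fin n | r ≤ (i : ℕ)}) = ⊤ := by
  classical
  haveI : IsNoetherianRing A := Algebra.FiniteType.isNoetherianRing k A
  haveI : Algebra.EssFiniteType A (Localization.AtPrime p) :=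
    Algebra.EssFiniteType.of_isLocalization _ p.primeCompl
  haveI : Algebra.EssFiniteType k (Localization.AtPrime p) :=
    Algebra.EssFiniteType.comp k A (Localization.AtPrime p)
  haveI : Algebra.FiniteType (Localization.AtPrime p) p.ResidueField :=
    Algebra.FiniteType.of_surjective (Algebra.ofId (Localization.AtPrime p) p.ResidueField)
      IsLocalRing.residue_surjective
  haveI : Algebra.EssFiniteType k p.ResidueField :=
    Algebra.EssFiniteType.comp k (Localization.AtPrime p) p.ResidueField
  obtain ⟨d, hd1, hd2, -, -⟩ := Groth.Agent.DimFTH8.exists_dim_eq k (A ⧸ p)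
  have htr : Algebra.trdeg k p.ResidueField = d := by
    rw [← hd1]
    exact ((FractionRing.algEquiv (A ⧸ p) p.ResidueField).restrictScalars k).trdeg_eq.symm
  have hloc : FlatMor.localDim (PrimeSpectrum A) ⟨p, inferInstance⟩ =
      ((p.height + d : ℕ∞) : WithBot ℕ∞) :=
    Groth.Agent.LocDimH8.localDim_primeSpectrum k A ⟨p, inferInstance⟩ d hd2
  have hht : p.height = (r : ℕ∞) := by
    have h := IsLocalization.AtPrime.ringKrullDim_eq_height p (Localization.AtPrime p)
    rw [hr] at h
    exact_mod_cast h.symm
  have hnrd : n = r + d := by
    rw [hn, hht] at hloc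
    exact_mod_cast hloc
  obtain ⟨hΩfin, himpfin, hcart⟩ :=
    Groth.Agent.Lib.CartierH3.cartier (K := k) (L := p.ResidueField)
  rw [htr, Cardinal.toNat_natCast] at hcart
  haveI := hΩfin
  haveI := himpfin
  constructor
  · rintro ⟨hreg, hgr⟩
    haveI := hreg
    have hsp : (maximalIdeal (Localization.AtPrime p)).spanFinrank = r := by
      have := hreg.spanFinrank_maximalIdeal
      rw [hr] at this
      exact_mod_cast this
    obtain ⟨s, hscard, hsspan⟩ := Submodule.FG.exists_span_finset_card_eq_spanFinrank
      (IsNoetherian.noetherian (maximalIdeal (Localization.AtPrime p)))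
    rw [hsp] at hscard
    let es : Fin r ≃ s := (s.equivFinOfCardEq hscard).symm
    let a : Fin r → Localization.AtPrime p := fun i => (es i : Localization.AtPrime p)
    have himp0 :=
      (Groth.Agent.Lib.ImperfFieldH3.isGeometricallyReduced_iff_imperfection k p.ResidueField).1 hgr
    have hfr : Module.finrank p.ResidueField Ω[p.ResidueField⁄k] = d := by
      rw [himp0, finrank_bot] at hcart
      simpa using hcart
    obtain ⟨ι, b, -, hbspan, hbli⟩ := exists_linearIndependent' p.ResidueField
      (fun y : p.ResidueField => KaehlerDifferential.D k p.ResidueField y)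
    have hbtop : ⊤ ≤ Submodule.span p.ResidueField
        (Set.range ((fun y : p.ResidueField => KaehlerDifferential.D k p.ResidueField y) ∘ b)) := by
      rw [hbspan]
      exact (KaehlerDifferential.span_range_derivation k p.ResidueField).ge
    let B := Module.Basis.mk hbli hbtop
    haveI : Finite ι := Module.Finite.finite_basis B
    have hcard : Nat.card ι = d := by rw [← Module.finrank_eq_nat_card_basis B, hfr]
    haveI : Fintype ι := Fintype.ofFinite ι
    let eι : Fin d ≃ ι :=
      (Fintype.equivFinOfCardEq (by rw [← Nat.card_eq_fintype_card, hcard])).symm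
    choose c hc using fun j : Fin d =>
      IsLocalRing.residue_surjective (R := Localization.AtPrime p) (b (eι j))
    subst hnrd
    let G : Fin (r + d) → Localization.AtPrime p := fun i =>
      if h : (i : ℕ) < r then a ⟨i, h⟩ else c ⟨(i : ℕ) - r, by have := i.2; omega⟩
    refine ⟨G, ?_, ?_⟩
    · apply le_antisymm
      · rw [Ideal.span_le]
        rintro _ ⟨i, hi, rfl⟩
        have hi' : (i : ℕ) < r := hi
        have : G i = a ⟨i, hi'⟩ := dif_pos hi'
        rw [this, ← hsspan]
        exact Submodule.subset_span (es ⟨i, hi'⟩).2
      · rw [← hsspan]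
        apply Submodule.span_mono
        intro x hx
        let j : Fin r := es.symm ⟨x, hx⟩
        refine ⟨⟨j, by have := j.2; omega⟩, j.2, ?_⟩
        have h1 : G ⟨j, by have := j.2; omega⟩ = a ⟨((⟨j, by have := j.2; omega⟩ : Fin (r + d)) : ℕ), j.2⟩ :=
          dif_pos j.2
        rw [h1]
        show ((es j : s) : Localization.AtPrime p) = x
        simp [j]
    · rw [eq_top_iff]
      refine le_trans hbtop (Submodule.span_mono ?_)
      rintro _ ⟨x, rfl⟩
      let j : Fin d := eι.symm x
      have hj : ¬ (((⟨r + j, by have := j.2; omega⟩ : Fin (r + d)) : ℕ) < r) := by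
        simp
      refine ⟨⟨r + j, by have := j.2; omega⟩, by simp, ?_⟩
      have h1 : G ⟨r + j, by have := j.2; omega⟩ = c ⟨r + (j : ℕ) - r, by have := j.2; omega⟩ :=
        dif_neg hj
      have h2 : (⟨r + (j : ℕ) - r, by have := j.2; omega⟩ : Fin d) = j := Fin.ext (by simp)
      show KaehlerDifferential.D k p.ResidueField
        (IsLocalRing.residue (Localization.AtPrime p) (G ⟨r + j, _⟩)) = _
      rw [h1, h2, hc j]
      simp [j]
  · rintro ⟨g, hg1, hg2⟩
    refine ⟨?_, ?_⟩
    · apply IsRegularLocalRing.of_spanFinrank_maximalIdeal_le
      rw [hr, ← hg1]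
      have hfin : (g '' {i : Fin n | (i : ℕ) < r}).Finite := Set.toFinite _
      have h1 : (Submodule.span (Localization.AtPrime p)
          (g '' {i : Fin n | (i : ℕ) < r})).spanFinrank ≤
          (g '' {i : Fin n | (i : ℕ) < r}).ncard :=
        Submodule.spanFinrank_span_le_ncard_of_finite hfin
      have h2 : (g '' {i : Fin n | (i : ℕ) < r}).ncard ≤ r := by
        have : g '' {i : Fin n | (i : ℕ) < r} =
            ((Finset.univ.filter (fun i : Fin n => (i : ℕ) < r)).image g : Finset _) := by
          ext x
          simp
        rw [this, Set.ncard_coe_finset]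
        exact le_trans Finset.card_image_le (card_filter_lt_le n r)
      have h3 := le_trans h1 h2
      exact_mod_cast h3
    · rw [Groth.Agent.Lib.ImperfFieldH3.isGeometricallyReduced_iff_imperfection]
      have h1 : Module.finrank p.ResidueField Ω[p.ResidueField⁄k] ≤ d := by
        have hSeq : (fun i : Fin n => KaehlerDifferential.D k p.ResidueField
              (IsLocalRing.residue (Localization.AtPrime p) (g i))) '' {i : Fin n | r ≤ (i : ℕ)} =
            ((Finset.univ.filter (fun i : Fin n => r ≤ (i : ℕ))).image
              (fun i : Fin n => KaehlerDifferential.D k p.ResidueField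
                (IsLocalRing.residue (Localization.AtPrime p) (g i))) : Finset _) := by
          ext x
          simp
        rw [hSeq] at hg2
        have h3 := finrank_span_finset_le_card (R := p.ResidueField)
          ((Finset.univ.filter (fun i : Fin n => r ≤ (i : ℕ))).image
              (fun i : Fin n => KaehlerDifferential.D k p.ResidueField
                (IsLocalRing.residue (Localization.AtPrime p) (g i))))
        unfold Set.finrank at h3
        rw [hg2, finrank_top] at h3
        have h4 := le_trans h3 (le_trans Finset.card_image_le (card_filter_ge_le n r))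
        omega
      refine Submodule.finrank_eq_zero.1 ?_
      omega

end Groth.Agent.Lib.AdaptedGerms_helper6
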