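import Mathlib

set_option autoImplicit false
universe u

/-!
# Adapted submodules (helper3)

For a ring map `R → S`, an `R`-module `M` and a decomposition `S ⊗ M = ⨁ Q i` into countably
generated `S`-submodules, every countably generated submodule of `M` is contained in a countably
generated adapted one (Stacks 05A8).
-/

namespace Groth.Agent.Lib.AdaptedH3

open scoped TensorProduct

variable {R S : Type u} [CommRing R] [CommRing S] [Algebra R S]
  {M : Type u} [AddCommGroup M] [Module R M]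

variable (R S) in
/-- The `S`-span of `1 ⊗ T`. -/
def A (T : Set M) : Submodule S (S ⊗[R] M) :=
  Submodule.span S ((TensorProduct.mk R S M 1) '' T)

theorem A_mono {T T' : Set M} (h : T ⊆ T') : A R S T ≤ A R S T' :=
  Submodule.span_mono (Set.image_mono h)

theorem A_iUnion {ι : Type*} (T : ι → Set M) : A R S (⋃ n, T n) = ⨆ n, A R S (T n) := by
  unfold A
  rw [Set.image_iUnion, Submodule.span_iUnion]

theorem A_union (T T' : Set M) : A R S (T ∪ T') = A R S T ⊔ A R S T' := by
  unfold A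
  rw [Set.image_union, Submodule.span_union]

theorem A_span (T : Set M) : A R S (Submodule.span R T : Set M) = A R S T := by
  apply le_antisymm
  · unfold A
    rw [Submodule.span_le]
    rintro _ ⟨x, hx, rfl⟩
    have h1 : Submodule.map (TensorProduct.mk R S M 1) (Submodule.span R T) ≤
        (Submodule.span S ((TensorProduct.mk R S M 1) '' T)).restrictScalars R := by
      rw [Submodule.map_span]
      exact Submodule.span_le_restrictScalars R S _
    exact h1 ⟨x, hx, rfl⟩
  · exact A_mono Submodule.subset_span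

theorem A_coe_sup (N N' : Submodule R M) :
    A R S ((N ⊔ N' : Submodule R M) : Set M) = A R S (N : Set M) ⊔ A R S (N' : Set M) := by
  have h : (N ⊔ N' : Submodule R M) = Submodule.span R ((N : Set M) ∪ (N' : Set M)) := by
    rw [Submodule.span_union, Submodule.span_eq, Submodule.span_eq]
  rw [h, A_span, A_union]

theorem exists_finset_mem_A (y : S ⊗[R] M) : ∃ F : Finset M, y ∈ A R S (F : Set M) := by
  classical
  induction y using TensorProduct.induction_on with
  | zero => exact ⟨∅, Submodule.zero_mem _⟩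
  | tmul s m =>
    refine ⟨{m}, ?_⟩
    have h : s ⊗ₜ[R] m = s • (TensorProduct.mk R S M 1 m) := by
      rw [TensorProduct.mk_apply, TensorProduct.smul_tmul', smul_eq_mul, mul_one]
    rw [h]
    exact Submodule.smul_mem _ _ (Submodule.subset_span ⟨m, by simp, rfl⟩)
  | add y z hy hz =>
    obtain ⟨F, hF⟩ := hy
    obtain ⟨G, hG⟩ := hz
    refine ⟨F ∪ G, ?_⟩
    rw [Finset.coe_union, A_union]
    exact Submodule.add_mem_sup hF hG

variable {I : Type u} (Q : I → Submodule S (S ⊗[R] M))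

theorem biSup_iUnion {ι : Type*} (J : ι → Set I) :
    (⨆ i ∈ ⋃ n, J n, Q i) = ⨆ n, ⨆ i ∈ J n, Q i := by
  apply le_antisymm
  · refine iSup₂_le fun i hi => ?_
    obtain ⟨n, hn⟩ := Set.mem_iUnion.mp hi
    exact le_iSup_of_le n (le_iSup₂_of_le i hn le_rfl)
  · refine iSup_le fun n => iSup₂_le fun i hi => ?_
    exact le_iSup₂_of_le i (Set.mem_iUnion.mpr ⟨n, hi⟩) le_rfl

theorem biSup_mono' {J J' : Set I} (h : J ⊆ J') : (⨆ i ∈ J, Q i) ≤ ⨆ i ∈ J', Q i :=
  iSup₂_le fun i hi => le_iSup₂_of_le i (h hi) le_rfl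

theorem biSup_union' (J J' : Set I) :
    (⨆ i ∈ J ∪ J', Q i) = (⨆ i ∈ J, Q i) ⊔ ⨆ i ∈ J', Q i :=
  iSup_union

/-- (a): a countable set of elements lies in a countable sub-sum. -/
theorem exists_countable_index (htop : ⨆ i, Q i = ⊤) (T : Set M) (hT : T.Countable) :
    ∃ J : Set I, J.Countable ∧ A R S T ≤ ⨆ i ∈ J, Q i := by
  classical
  have h1 : ∀ m : M, ∃ F : Finset I, TensorProduct.mk R S M 1 m ∈ ⨆ i ∈ F, Q i := by
    intro m
    have : TensorProduct.mk R S M 1 m ∈ ⨆ i, Q i := by rw [htop]; trivial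
    exact (Submodule.mem_iSup_iff_exists_finset).mp this
  choose F hF using h1
  refine ⟨⋃ m ∈ T, (F m : Set I), hT.biUnion fun m _ => (F m).countable_toSet, ?_⟩
  unfold A
  rw [Submodule.span_le]
  rintro _ ⟨m, hm, rfl⟩
  have h2 : (⨆ i ∈ F m, Q i) ≤ ⨆ i ∈ ⋃ m ∈ T, (F m : Set I), Q i :=
    iSup₂_le fun i hi => le_iSup₂_of_le i (Set.mem_biUnion hm (Finset.mem_coe.mpr hi)) le_rfl
  exact h2 (hF m)

/-- (b): a countable sub-sum is generated by `1 ⊗ T` for a countable `T`. -/
theorem exists_countable_gens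
    (hQc : ∀ i, ∃ t : Set (S ⊗[R] M), t.Countable ∧ Submodule.span S t = Q i)
    (J : Set I) (hJ : J.Countable) :
    ∃ T : Set M, T.Countable ∧ (⨆ i ∈ J, Q i) ≤ A R S T := by
  classical
  choose t ht htQ using hQc
  choose F hF using fun y : S ⊗[R] M => exists_finset_mem_A (R := R) (S := S) (M := M) y
  refine ⟨⋃ i ∈ J, ⋃ y ∈ t i, (F y : Set M),
    hJ.biUnion fun i _ => (ht i).biUnion fun y _ => (F y).countable_toSet, ?_⟩
  refine iSup₂_le fun i hi => ?_
  rw [← htQ i, Submodule.span_le]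
  intro y hy
  have h1 : (F y : Set M) ⊆ ⋃ i ∈ J, ⋃ y ∈ t i, (F y : Set M) := by
    intro m hm
    exact Set.mem_biUnion hi (Set.mem_biUnion hy hm)
  exact A_mono h1 (hF y)

theorem exists_adapted (htop : ⨆ i, Q i = ⊤)
    (hQc : ∀ i, ∃ t : Set (S ⊗[R] M), t.Countable ∧ Submodule.span S t = Q i)
    (s : Set M) (hs : s.Countable) :
    ∃ (T : Set M) (J : Set I), s ⊆ T ∧ T.Countable ∧ A R S T = ⨆ i ∈ J, Q i := by
  classical
  choose Ja hJa1 hJa2 using exists_countable_index (R := R) (S := S) (M := M) Q htop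
  choose Tb hTb1 hTb2 using exists_countable_gens (R := R) (S := S) (M := M) Q hQc
  let P := {p : Set M × Set I // p.1.Countable ∧ p.2.Countable}
  let step : P → P := fun p =>
    ⟨(p.1.1 ∪ Tb p.1.2 p.2.2,
      p.1.2 ∪ Ja (p.1.1 ∪ Tb p.1.2 p.2.2) (p.2.1.union (hTb1 p.1.2 p.2.2))),
      p.2.1.union (hTb1 p.1.2 p.2.2),
      p.2.2.union (hJa1 _ (p.2.1.union (hTb1 p.1.2 p.2.2)))⟩
  let p0 : P := ⟨(s, ∅), hs, Set.countable_empty⟩
  let seq : ℕ → P := fun n => step^[n] p0
  have hseq : ∀ n, seq (n + 1) = step (seq n) := fun n => Function.iterate_succ_apply' step n p0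
  have hT1 : ∀ n, (seq n).1.1 ⊆ (seq (n + 1)).1.1 := by
    intro n
    rw [hseq]
    exact Set.subset_union_left
  have hA : ∀ n, A R S (seq (n + 1)).1.1 ≤ ⨆ i ∈ (seq (n + 1)).1.2, Q i := by
    intro n
    rw [hseq]
    exact (hJa2 _ _).trans (biSup_mono' Q Set.subset_union_right)
  have hB : ∀ n, (⨆ i ∈ (seq n).1.2, Q i) ≤ A R S (seq (n + 1)).1.1 := by
    intro n
    rw [hseq]
    exact (hTb2 _ _).trans (A_mono Set.subset_union_right)
  refine ⟨⋃ n, (seq n).1.1, ⋃ n, (seq n).1.2, ?_, ?_, ?_⟩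
  · exact Set.subset_iUnion (fun n => (seq n).1.1) 0
  · exact Set.countable_iUnion fun n => (seq n).2.1
  · rw [A_iUnion, biSup_iUnion]
    apply le_antisymm
    · refine iSup_le fun n => ?_
      exact (A_mono (hT1 n)).trans ((hA n).trans (le_iSup (fun n => ⨆ i ∈ (seq n).1.2, Q i) (n + 1)))
    · refine iSup_le fun n => ?_
      exact (hB n).trans (le_iSup (fun n => A R S (seq n).1.1) (n + 1))

end Groth.Agent.Lib.AdaptedH3
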