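import Mathlib

set_option backward.isDefEq.respectTransparency false

/-!
# Adapted classes are acyclic (helper7)

If `𝒪` is a class of objects stable under binary biproducts, such that `f` carries acyclic
`ℕ`-indexed complexes of `𝒪`-objects to acyclic complexes and every object embeds in an `𝒪`-object,
then `R^n f (X) = 0` for `X ∈ 𝒪`, `n > 0`.

Method: the augmented injective resolution `K` of `X` is termwise a retract of `𝒪`-objects `P n`.
With `e' = 1 - p ≫ i` the complementary idempotents and `δ = p ≫ d ≫ i`, the cocone `T` of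
`e' : (P, δ) ⟶ (P, δ)` is an acyclic complex with terms `P (n+1) ⊞ P n` (`P 0` in degree `0`), and
`K` is a retract of `T`.
-/

open CategoryTheory CategoryTheory.Limits

universe u v u' v'

namespace Groth.Agent.Lib.Adapted

section Alg

variable {A : Type u} [Category.{v} A] [Abelian A]
variable (K : CochainComplex A ℕ) (P : ℕ → A) (i : ∀ n, K.X n ⟶ P n) (p : ∀ n, P n ⟶ K.X n)

/-- the differential on `P` -/
noncomputable def δ (n : ℕ) : P n ⟶ P (n + 1) := p n ≫ K.d n (n + 1) ≫ i (n + 1)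

/-- complementary idempotent -/
noncomputable def e' (n : ℕ) : P n ⟶ P n := 𝟙 _ - p n ≫ i n

local notation "δ'" => δ K P i p
local notation "ε" => e' K P i p

/-- terms of the cocone -/
noncomputable abbrev TX : ℕ → A
  | 0 => P 0
  | (n + 1) => P (n + 1) ⊞ P n

/-- first projection -/
noncomputable def fstT (n : ℕ) : TX P (n + 1) ⟶ P (n + 1) :=
  (biprod.fst : P (n + 1) ⊞ P n ⟶ P (n + 1))
/-- second projection -/
noncomputable def sndT (n : ℕ) : TX P (n + 1) ⟶ P n :=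
  (biprod.snd : P (n + 1) ⊞ P n ⟶ P n)
/-- lift -/
noncomputable def liftT {Z : A} (n : ℕ) (a : Z ⟶ P (n + 1)) (b : Z ⟶ P n) : Z ⟶ TX P (n + 1) :=
  (biprod.lift a b : Z ⟶ P (n + 1) ⊞ P n)

@[reassoc (attr := simp)]
lemma liftT_fst {Z : A} (n : ℕ) (a : Z ⟶ P (n + 1)) (b : Z ⟶ P n) :
    liftT P n a b ≫ fstT P n = a := biprod.lift_fst _ _

@[reassoc (attr := simp)]
lemma liftT_snd {Z : A} (n : ℕ) (a : Z ⟶ P (n + 1)) (b : Z ⟶ P n) :
    liftT P n a b ≫ sndT P n = b := biprod.lift_snd _ _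

lemma hom_ext_T {Z : A} (n : ℕ) (x y : Z ⟶ TX P (n + 1))
    (h₁ : x ≫ fstT P n = y ≫ fstT P n) (h₂ : x ≫ sndT P n = y ≫ sndT P n) : x = y :=
  biprod.hom_ext _ _ h₁ h₂

/-- differential of the cocone -/
noncomputable def Td : ∀ n, TX P n ⟶ TX P (n + 1)
  | 0 => liftT P 0 (δ' 0) (ε 0)
  | (n + 1) => biprod.desc (liftT P (n + 1) (δ' (n + 1)) (ε (n + 1))) (liftT P (n + 1) 0 (δ' n))

@[reassoc]
lemma Td_zero_fst : Td K P i p 0 ≫ fstT P 0 = δ' 0 := liftT_fst P 0 _ _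

@[reassoc]
lemma Td_zero_snd : Td K P i p 0 ≫ sndT P 0 = ε 0 := liftT_snd P 0 _ _

@[reassoc]
lemma Td_succ_fst (n : ℕ) : Td K P i p (n + 1) ≫ fstT P (n + 1) = fstT P n ≫ δ' (n + 1) := by
  change biprod.desc (biprod.lift (δ' (n + 1)) (ε (n + 1))) (biprod.lift 0 (δ' n)) ≫ biprod.fst =
    biprod.fst ≫ δ' (n + 1)
  ext <;> simp

@[reassoc]
lemma Td_succ_snd (n : ℕ) :
    Td K P i p (n + 1) ≫ sndT P (n + 1) = fstT P n ≫ ε (n + 1) + sndT P n ≫ δ' n := by
  change biprod.desc (biprod.lift (δ' (n + 1)) (ε (n + 1))) (biprod.lift 0 (δ' n)) ≫ biprod.snd =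
    biprod.fst ≫ ε (n + 1) + biprod.snd ≫ δ' n
  ext <;> simp

lemma p_i_add_e' (n : ℕ) : p n ≫ i n + ε n = 𝟙 _ := by
  simp [e']

lemma p_i (n : ℕ) : p n ≫ i n = 𝟙 _ - ε n := by
  simp [e']

lemma K_refine (hK : K.Acyclic) (m : ℕ) {Z : A} (a : Z ⟶ K.X (m + 1))
    (ha : a ≫ K.d (m + 1) (m + 1 + 1) = 0) :
    ∃ (Z' : A) (π : Z' ⟶ Z) (_ : Epi π) (a' : Z' ⟶ K.X m), π ≫ a = a' ≫ K.d m (m + 1) :=
  ((K.exactAt_iff' m (m + 1) (m + 1 + 1) (by simp) (by simp)).1
    (hK (m + 1))).exact_up_to_refinements a ha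

lemma K_mono (hK : K.Acyclic) : Mono (K.d 0 (0 + 1)) :=
  (ShortComplex.exact_iff_mono (K.sc' 0 0 (0 + 1)) (K.shape 0 0 (by simp))).1
    ((K.exactAt_iff' 0 0 (0 + 1) (by simp) (by simp)).1 (hK 0))

variable (hip : ∀ n, i n ≫ p n = 𝟙 _)
include hip

@[reassoc]
lemma δ_δ (n : ℕ) : δ' n ≫ δ' (n + 1) = 0 := by
  simp only [δ, Category.assoc]
  rw [reassoc_of% (hip (n + 1)), K.d_comp_d_assoc, zero_comp, comp_zero]

@[reassoc]
lemma δ_e' (n : ℕ) : δ' n ≫ ε (n + 1) = 0 := by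
  simp only [δ, e', Preadditive.comp_sub, Category.comp_id, Category.assoc]
  rw [reassoc_of% (hip (n + 1)), sub_self]

@[reassoc]
lemma e'_δ (n : ℕ) : ε n ≫ δ' n = 0 := by
  simp only [δ, e', Preadditive.sub_comp, Category.id_comp, Category.assoc]
  rw [reassoc_of% (hip n), sub_self]

@[reassoc]
lemma e'_e' (n : ℕ) : ε n ≫ ε n = ε n := by
  simp only [e', Preadditive.sub_comp, Preadditive.comp_sub, Category.id_comp, Category.comp_id,
    Category.assoc]
  rw [reassoc_of% (hip n)]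
  simp

@[reassoc]
lemma i_e' (n : ℕ) : i n ≫ ε n = 0 := by
  simp only [e', Preadditive.comp_sub, Category.comp_id]
  rw [reassoc_of% (hip n), sub_self]

@[reassoc]
lemma i_δ (n : ℕ) : i n ≫ δ' n = K.d n (n + 1) ≫ i (n + 1) := by
  simp only [δ]
  rw [reassoc_of% (hip n)]

@[reassoc]
lemma δ_p (n : ℕ) : δ' n ≫ p (n + 1) = p n ≫ K.d n (n + 1) := by
  simp only [δ, Category.assoc]
  rw [hip (n + 1), Category.comp_id]

lemma Td_sq (n : ℕ) : Td K P i p n ≫ Td K P i p (n + 1) = 0 := by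
  apply hom_ext_T P (n + 1)
  · cases n with
    | zero =>
      simp only [Category.assoc, Td_succ_fst K P i p, Td_zero_fst_assoc K P i p,
        δ_δ K P i p hip, zero_comp]
    | succ n =>
      simp only [Category.assoc, Td_succ_fst K P i p, Td_succ_fst_assoc K P i p,
        δ_δ K P i p hip, zero_comp, comp_zero]
  · cases n with
    | zero =>
      simp only [Category.assoc, Td_succ_snd K P i p, Preadditive.comp_add,
        Td_zero_fst_assoc K P i p, Td_zero_snd_assoc K P i p,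
        δ_e' K P i p hip, e'_δ K P i p hip, zero_comp, add_zero]
    | succ n =>
      simp only [Category.assoc, Td_succ_snd K P i p, Preadditive.comp_add, Preadditive.add_comp,
        Td_succ_fst_assoc K P i p, Td_succ_snd_assoc K P i p,
        δ_e' K P i p hip, e'_δ K P i p hip, δ_δ K P i p hip, zero_comp, comp_zero, add_zero]

/-- the cocone complex -/
noncomputable abbrev Tc : CochainComplex A ℕ :=
  CochainComplex.of (TX P) (Td K P i p) (Td_sq K P i p hip)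

lemma Tc_d (n : ℕ) : (Tc K P i p hip).d n (n + 1) = Td K P i p n :=
  CochainComplex.of_d (TX P) (Td K P i p) n

lemma Tc_exactAt_succ_of (m : ℕ)
    (h : ∀ {Z : A} (x : Z ⟶ TX P (m + 1)), x ≫ Td K P i p (m + 1) = 0 →
      ∃ (Z' : A) (π : Z' ⟶ Z) (_ : Epi π) (x' : Z' ⟶ TX P m), π ≫ x = x' ≫ Td K P i p m) :
    (Tc K P i p hip).ExactAt (m + 1) := by
  rw [(Tc K P i p hip).exactAt_iff' m (m + 1) (m + 1 + 1) (by simp) (by simp),
    ShortComplex.exact_iff_exact_up_to_refinements]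
  intro Z x hx
  obtain ⟨Z', π, hπ, x', hx'⟩ := h x (by
    rw [← Tc_d K P i p hip (m + 1)]
    exact hx)
  exact ⟨Z', π, hπ, x', hx'.trans (congrArg (fun t => x' ≫ t) (Tc_d K P i p hip m).symm)⟩

lemma Tc_exactAt_zero (hK : K.Acyclic) : (Tc K P i p hip).ExactAt 0 := by
  rw [(Tc K P i p hip).exactAt_iff' 0 0 (0 + 1) (by simp) (by simp),
    ShortComplex.exact_iff_mono ((Tc K P i p hip).sc' 0 0 (0 + 1))
      ((Tc K P i p hip).shape 0 0 (by simp))]
  change Mono ((Tc K P i p hip).d 0 (0 + 1))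
  rw [Tc_d K P i p hip 0]
  haveI := K_mono K hK
  apply Preadditive.mono_of_cancel_zero
  intro Z x hx
  have hδ : x ≫ δ' 0 = 0 := by
    rw [← Td_zero_fst K P i p, ← Category.assoc, hx, zero_comp]
  have hε : x ≫ ε 0 = 0 := by
    rw [← Td_zero_snd K P i p, ← Category.assoc, hx, zero_comp]
  have hxp : x ≫ p 0 = 0 := by
    apply zero_of_comp_mono (K.d 0 (0 + 1))
    rw [Category.assoc, ← δ_p K P i p hip 0, ← Category.assoc, hδ, zero_comp]
  calc x = x ≫ (p 0 ≫ i 0 + ε 0) := by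
        rw [p_i_add_e' K P i p 0]; exact (Category.comp_id x).symm
    _ = (x ≫ p 0) ≫ i 0 + x ≫ ε 0 := by rw [Preadditive.comp_add, Category.assoc]
    _ = 0 := by rw [hxp, hε, zero_comp, add_zero]

lemma Tc_exactAt_succ (hK : K.Acyclic) (m : ℕ) : (Tc K P i p hip).ExactAt (m + 1) := by
  apply Tc_exactAt_succ_of
  intro Z x hx
  have h1 : x ≫ fstT P m ≫ δ' (m + 1) = 0 := by
    rw [← Td_succ_fst K P i p m, ← Category.assoc, hx, zero_comp]
  have h2 : x ≫ fstT P m ≫ ε (m + 1) + x ≫ sndT P m ≫ δ' m = 0 := by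
    rw [← Preadditive.comp_add, ← Td_succ_snd K P i p m, ← Category.assoc, hx, zero_comp]
  have h3 : x ≫ fstT P m ≫ ε (m + 1) = 0 := by
    have := congrArg (fun t => t ≫ ε (m + 1)) h2
    simpa only [Preadditive.add_comp, Category.assoc, e'_e' K P i p hip, δ_e' K P i p hip,
      comp_zero, add_zero, zero_comp] using this
  have h4 : x ≫ sndT P m ≫ δ' m = 0 := by
    rw [h3, zero_add] at h2; exact h2
  have ha : (x ≫ fstT P m ≫ p (m + 1)) ≫ K.d (m + 1) (m + 1 + 1) = 0 := by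
    simp only [Category.assoc]
    rw [← δ_p K P i p hip (m + 1), reassoc_of% h1, zero_comp]
  obtain ⟨Z₁, π₁, hπ₁, a', e1⟩ := K_refine K hK m _ ha
  have hb : (x ≫ sndT P m ≫ p m) ≫ K.d m (m + 1) = 0 := by
    simp only [Category.assoc]
    rw [← δ_p K P i p hip m, reassoc_of% h4, zero_comp]
  obtain ⟨c, hc⟩ : ∃ c : Z₁ ⟶ P m, c = a' ≫ i m + π₁ ≫ x ≫ sndT P m := ⟨_, rfl⟩
  have hc1 : c ≫ δ' m = π₁ ≫ x ≫ fstT P m := by
    rw [hc]
    calc (a' ≫ i m + π₁ ≫ x ≫ sndT P m) ≫ δ' m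
        = a' ≫ i m ≫ δ' m + π₁ ≫ x ≫ sndT P m ≫ δ' m := by
          simp only [Preadditive.add_comp, Category.assoc]
      _ = (a' ≫ K.d m (m + 1)) ≫ i (m + 1) := by
          rw [h4, comp_zero, add_zero, i_δ K P i p hip m, Category.assoc]
      _ = (π₁ ≫ x ≫ fstT P m ≫ p (m + 1)) ≫ i (m + 1) := by rw [e1]
      _ = π₁ ≫ x ≫ fstT P m ≫ (𝟙 _ - ε (m + 1)) := by
          simp only [Category.assoc, p_i K P i p (m + 1)]
      _ = π₁ ≫ x ≫ fstT P m := by
          simp only [Preadditive.comp_sub, Category.comp_id, h3, comp_zero, sub_zero]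
  have hc2 : c ≫ ε m = π₁ ≫ x ≫ sndT P m ≫ ε m := by
    rw [hc]
    simp only [Preadditive.add_comp, Category.assoc, i_e' K P i p hip m, comp_zero, zero_add]
  have hsnd : x ≫ sndT P m = x ≫ sndT P m ≫ ε m + (x ≫ sndT P m ≫ p m) ≫ i m := by
    simp only [Category.assoc]
    rw [← Preadditive.comp_add, ← Preadditive.comp_add, add_comm (ε m) _, p_i_add_e' K P i p m,
      Category.comp_id]
  clear hc
  cases m with
  | zero =>
    haveI := K_mono K hK
    have hb0 : x ≫ sndT P 0 ≫ p 0 = 0 := zero_of_comp_mono (K.d 0 (0 + 1)) hb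
    refine ⟨Z₁, π₁, hπ₁, c, ?_⟩
    apply hom_ext_T P 0
    · simp only [Category.assoc]
      rw [Td_zero_fst K P i p, hc1]
    · simp only [Category.assoc]
      rw [Td_zero_snd K P i p, hc2, hsnd, hb0, zero_comp, add_zero]
  | succ k =>
    obtain ⟨Z₂, π₂, hπ₂, b', e2⟩ := K_refine K hK k (π₁ ≫ x ≫ sndT P (k + 1) ≫ p (k + 1)) (by
      rw [Category.assoc, hb, comp_zero])
    refine ⟨Z₂, π₂ ≫ π₁, epi_comp π₂ π₁, liftT P k (π₂ ≫ c) (b' ≫ i k), ?_⟩
    apply hom_ext_T P (k + 1)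
    · simp only [Category.assoc]
      rw [Td_succ_fst K P i p k, liftT_fst_assoc, Category.assoc, hc1]
    · simp only [Category.assoc]
      rw [Td_succ_snd K P i p k, Preadditive.comp_add, liftT_fst_assoc, liftT_snd_assoc,
        Category.assoc, hc2, Category.assoc, i_δ K P i p hip k, ← Category.assoc b', ← e2, hsnd]
      simp only [Preadditive.comp_add, Category.assoc]

lemma Tc_acyclic (hK : K.Acyclic) : (Tc K P i p hip).Acyclic := by
  intro j
  cases j with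
  | zero => exact Tc_exactAt_zero K P i p hip hK
  | succ m => exact Tc_exactAt_succ K P i p hip hK m

lemma Tc_X_mem (𝒪 : ObjectProperty A) (h0 : ∀ X Y : A, 𝒪 X → 𝒪 Y → 𝒪 (X ⊞ Y))
    (hP : ∀ n, 𝒪 (P n)) (n : ℕ) : 𝒪 ((Tc K P i p hip).X n) := by
  cases n with
  | zero => exact hP 0
  | succ n => exact h0 _ _ (hP (n + 1)) (hP n)

/-- inclusion of `K` in the cocone -/
noncomputable def r (n : ℕ) : K.X (n + 1) ⟶ TX P (n + 1) := liftT P n (i (n + 1)) 0
/-- retraction -/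
noncomputable def s (n : ℕ) : TX P (n + 1) ⟶ K.X (n + 1) := fstT P n ≫ p (n + 1)

omit hip in
lemma r_s' (n : ℕ) (h : i (n + 1) ≫ p (n + 1) = 𝟙 _) : r K P i n ≫ s K P p n = 𝟙 _ := by
  simp only [r, s, liftT_fst_assoc, h]

lemma r_comm (n : ℕ) :
    K.d (n + 1) (n + 1 + 1) ≫ r K P i (n + 1) = r K P i n ≫ Td K P i p (n + 1) := by
  apply hom_ext_T P (n + 1)
  · simp only [Category.assoc, r, liftT_fst, Td_succ_fst K P i p n, liftT_fst_assoc,
      i_δ K P i p hip]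
  · simp only [Category.assoc, r, liftT_snd, Td_succ_snd K P i p n, Preadditive.comp_add,
      liftT_fst_assoc, liftT_snd_assoc, i_e' K P i p hip, zero_comp, comp_zero, add_zero]

lemma s_comm (n : ℕ) :
    Td K P i p (n + 1) ≫ s K P p (n + 1) = s K P p n ≫ K.d (n + 1) (n + 1 + 1) := by
  simp only [s, Category.assoc]
  rw [Td_succ_fst_assoc, δ_p K P i p hip]

end Alg

section Retract

variable {B : Type u'} [Category.{v'} B] [Abelian B]

lemma exact_of_retract {S₁ S₂ : ShortComplex B} (h : S₂.Exact)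
    (r₂ : S₁.X₂ ⟶ S₂.X₂) (r₃ : S₁.X₃ ⟶ S₂.X₃) (s₁ : S₂.X₁ ⟶ S₁.X₁) (s₂ : S₂.X₂ ⟶ S₁.X₂)
    (h23 : S₁.g ≫ r₃ = r₂ ≫ S₂.g) (h12 : S₂.f ≫ s₂ = s₁ ≫ S₁.f) (hrs : r₂ ≫ s₂ = 𝟙 _) :
    S₁.Exact := by
  rw [ShortComplex.exact_iff_exact_up_to_refinements]
  intro Z z hz
  obtain ⟨Z', π, hπ, w, hw⟩ := h.exact_up_to_refinements (z ≫ r₂) (by
    rw [Category.assoc, ← h23, ← Category.assoc, hz, zero_comp])
  refine ⟨Z', π, hπ, w ≫ s₁, ?_⟩
  calc π ≫ z = (π ≫ z ≫ r₂) ≫ s₂ := by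
        simp only [Category.assoc, hrs, Category.comp_id]
    _ = (w ≫ s₁) ≫ S₁.f := by rw [hw, Category.assoc, h12, Category.assoc]

end Retract

section Key

variable {A : Type u} [Category.{v} A] [Abelian A]
variable {B : Type u'} [Category.{v'} B] [Abelian B]

theorem key (K : CochainComplex A ℕ) (P : ℕ → A) (i : ∀ n, K.X n ⟶ P n) (p : ∀ n, P n ⟶ K.X n)
    (hip : ∀ n, i n ≫ p n = 𝟙 _)
    (f : A ⥤ B) [f.Additive] (𝒪 : ObjectProperty A)
    (h0 : ∀ X Y : A, 𝒪 X → 𝒪 Y → 𝒪 (X ⊞ Y))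
    (h1 : ∀ K : CochainComplex A ℕ, (∀ i, 𝒪 (K.X i)) → K.Acyclic →
      ((f.mapHomologicalComplex (ComplexShape.up ℕ)).obj K).Acyclic)
    (hK : K.Acyclic) (hP : ∀ n, 𝒪 (P n)) (k : ℕ) :
    (ShortComplex.mk (f.map (K.d (k + 1) (k + 1 + 1))) (f.map (K.d (k + 1 + 1) (k + 1 + 1 + 1)))
      (by rw [← f.map_comp, K.d_comp_d, f.map_zero])).Exact := by
  have hT : ((f.mapHomologicalComplex (ComplexShape.up ℕ)).obj (Tc K P i p hip)).Acyclic :=
    h1 _ (Tc_X_mem K P i p hip 𝒪 h0 hP) (Tc_acyclic K P i p hip hK)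
  have hS := (HomologicalComplex.exactAt_iff' _ (k + 1) (k + 1 + 1) (k + 1 + 1 + 1)
    (by simp) (by simp)).1 (hT (k + 1 + 1))
  have E1 : f.map (r K P i (k + 1)) ≫ f.map (Td K P i p (k + 1 + 1)) =
      f.map (K.d (k + 1 + 1) (k + 1 + 1 + 1)) ≫ f.map (r K P i (k + 1 + 1)) := by
    rw [← f.map_comp, ← f.map_comp, r_comm K P i p hip (k + 1)]
  have E2 : f.map (Td K P i p (k + 1)) ≫ f.map (s K P p (k + 1)) =
      f.map (s K P p k) ≫ f.map (K.d (k + 1) (k + 1 + 1)) := by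
    rw [← f.map_comp, ← f.map_comp, s_comm K P i p hip k]
  have E3 : f.map (r K P i (k + 1)) ≫ f.map (s K P p (k + 1)) = 𝟙 _ := by
    rw [← f.map_comp, r_s' K P i p (k + 1) (hip _), f.map_id]
  refine exact_of_retract hS (f.map (r K P i (k + 1))) (f.map (r K P i (k + 1 + 1)))
    (f.map (s K P p k)) (f.map (s K P p (k + 1))) ?_ ?_ E3
  · change f.map (K.d (k + 1 + 1) (k + 1 + 1 + 1)) ≫ f.map (r K P i (k + 1 + 1)) =
      f.map (r K P i (k + 1)) ≫ f.map ((Tc K P i p hip).d (k + 1 + 1) (k + 1 + 1 + 1))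
    rw [Tc_d K P i p hip (k + 1 + 1)]
    exact E1.symm
  · change f.map ((Tc K P i p hip).d (k + 1) (k + 1 + 1)) ≫ f.map (s K P p (k + 1)) =
      f.map (s K P p k) ≫ f.map (K.d (k + 1) (k + 1 + 1))
    rw [Tc_d K P i p hip (k + 1)]
    exact E2

end Key

section Main

variable {A : Type u} [Category.{v} A] [Abelian A] [EnoughInjectives A]
variable {B : Type u'} [Category.{v'} B] [Abelian B]

/-- augmented injective resolution -/
noncomputable def aug {X : A} (I : InjectiveResolution X) : CochainComplex A ℕ :=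
  I.cocomplex.augment (I.ι.f 0) I.ι_f_zero_comp_complex_d

lemma aug_acyclic {X : A} (I : InjectiveResolution X) : (aug I).Acyclic := by
  intro j
  rcases j with _ | _ | j
  · refine ((aug I).exactAt_iff' 0 0 (0 + 1) (by simp) (by simp)).2 ?_
    refine (ShortComplex.exact_iff_mono ((aug I).sc' 0 0 (0 + 1))
      ((aug I).shape 0 0 (by simp))).2 ?_
    exact inferInstanceAs (Mono (I.ι.f 0))
  · refine ((aug I).exactAt_iff' 0 (0 + 1) (0 + 1 + 1) (by simp) (by simp)).2 ?_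
    exact I.exact₀
  · refine ((aug I).exactAt_iff' (j + 1) (j + 1 + 1) (j + 1 + 1 + 1) (by simp) (by simp)).2 ?_
    exact I.exact_succ j

theorem main (f : A ⥤ B) [f.Additive] (𝒪 : ObjectProperty A)
    (h0 : ∀ X Y : A, 𝒪 X → 𝒪 Y → 𝒪 (X ⊞ Y))
    (h1 : ∀ K : CochainComplex A ℕ, (∀ i, 𝒪 (K.X i)) → K.Acyclic →
      ((f.mapHomologicalComplex (ComplexShape.up ℕ)).obj K).Acyclic)
    (h2 : ∀ X : A, ∃ (Y : A) (i : X ⟶ Y), 𝒪 Y ∧ Mono i)
    (X : A) (hX : 𝒪 X) (n : ℕ) (hn : 0 < n) :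
    IsZero ((f.rightDerived n).obj X) := by
  obtain ⟨m, rfl⟩ : ∃ m, n = m + 1 := ⟨n - 1, by omega⟩
  let I : InjectiveResolution X := injectiveResolution X
  refine IsZero.of_iso ?_ (I.isoRightDerivedObj f (m + 1))
  change IsZero (((f.mapHomologicalComplex (ComplexShape.up ℕ)).obj I.cocomplex).homology (m + 1))
  rw [← HomologicalComplex.exactAt_iff_isZero_homology,
    HomologicalComplex.exactAt_iff' _ m (m + 1) (m + 1 + 1) (by simp) (by simp)]
  have hex : ∀ n : ℕ, ∃ (Pn : A) (i : (aug I).X n ⟶ Pn) (p : Pn ⟶ (aug I).X n),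
      𝒪 Pn ∧ i ≫ p = 𝟙 _ := by
    intro n
    cases n with
    | zero => exact ⟨X, 𝟙 X, 𝟙 X, hX, Category.id_comp _⟩
    | succ n =>
      haveI : Injective ((aug I).X (n + 1)) := I.injective n
      obtain ⟨Y, j, hY, hj⟩ := h2 ((aug I).X (n + 1))
      haveI := hj
      exact ⟨Y, j, Injective.factorThru (𝟙 _) j, hY, Injective.comp_factorThru _ _⟩
  choose P i p hP hip using hex
  exact key (aug I) P i p hip f 𝒪 h0 h1 (aug_acyclic I) hP m

end Main

end Groth.Agent.Lib.Adapted
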