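import Mathlib
import Groth.Prelude.Def_Adeq

/-!
# Adequate functors: sectionwise API (helper3)
-/

set_option autoImplicit false
universe u

open CategoryTheory Limits TensorProduct Adeq

namespace Groth.Agent.Lib.AdeqH3

noncomputable section

variable {A : Type u} [CommRing A]

/-- View a section of `underline M` over `B` as an element of `B ⊗ M`. -/
def toT {M : ModuleCat.{u+1} A} {B : Alg A} (x : ((underline A).obj M).obj (pt B)) : B ⊗[A] M := x

/-- View an element of `B ⊗ M` as a section of `underline M` over `B`. -/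
def ofT {M : ModuleCat.{u+1} A} {B : Alg A} (x : B ⊗[A] M) : ((underline A).obj M).obj (pt B) := x

@[simp] lemma toT_ofT {M : ModuleCat.{u+1} A} {B : Alg A} (x : B ⊗[A] M) :
    toT (ofT (B := B) x) = x := rfl

@[simp] lemma ofT_toT {M : ModuleCat.{u+1} A} {B : Alg A} (x : ((underline A).obj M).obj (pt B)) :
    ofT (toT x) = x := rfl

lemma toT_injective {M : ModuleCat.{u+1} A} {B : Alg A} :
    Function.Injective (toT (M := M) (B := B)) := fun _ _ h => h

lemma toT_app {M N : ModuleCat.{u+1} A} (g : M ⟶ N) (B : Alg A)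
    (x : ((underline A).obj M).obj (pt B)) :
    toT (((underline A).map g).app (pt B) x) = g.hom.baseChange B (toT x) := rfl


lemma toT_smul {M : ModuleCat.{u+1} A} {B : Alg A} (b : B)
    (x : ((underline A).obj M).obj (pt B)) : toT (b • x) = b • toT x := rfl

lemma toT_add {M : ModuleCat.{u+1} A} {B : Alg A} (x y : ((underline A).obj M).obj (pt B)) :
    toT (x + y) = toT x + toT y := rfl

lemma toT_zero {M : ModuleCat.{u+1} A} {B : Alg A} :
    toT (0 : ((underline A).obj M).obj (pt B)) = 0 := rfl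

lemma toT_sub {M : ModuleCat.{u+1} A} {B : Alg A} (x y : ((underline A).obj M).obj (pt B)) :
    toT (x - y) = toT x - toT y := rfl

lemma toT_eq_zero_iff {M : ModuleCat.{u+1} A} {B : Alg A}
    (x : ((underline A).obj M).obj (pt B)) : toT x = 0 ↔ x = 0 := Iff.rfl

/-- Sectionwise exactness at a kernel. -/
theorem ker_exact {F G : MVF A} (f : F ⟶ G) (B : Alg A) (x : F.obj (pt B))
    (hx : f.app (pt B) x = 0) :
    ∃ y : (kernel f).obj (pt B), (kernel.ι f).app (pt B) y = x := by
  let S : ShortComplex (MVF A) := ShortComplex.mk (kernel.ι f) f (kernel.condition f)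
  have hS : S.Exact := S.exact_of_f_is_kernel (kernelIsKernel f)
  have := PresheafOfModules.evaluation_preservesFiniteLimits.{u+1} (ringOf A) (pt B)
  have := PresheafOfModules.Finite.evaluation_preservesFiniteColimits.{u+1} (ringOf A) (pt B)
  have hS' := hS.map (PresheafOfModules.evaluation.{u+1} (ringOf A) (pt B))
  rw [ShortComplex.moduleCat_exact_iff] at hS'
  exact hS' x hx

/-- Sectionwise exactness at a cokernel. -/
theorem coker_exact {F G : MVF A} (f : F ⟶ G) (B : Alg A) (x : G.obj (pt B))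
    (hx : (cokernel.π f).app (pt B) x = 0) :
    ∃ y : F.obj (pt B), f.app (pt B) y = x := by
  let S : ShortComplex (MVF A) := ShortComplex.mk f (cokernel.π f) (cokernel.condition f)
  have hS : S.Exact := S.exact_of_g_is_cokernel (cokernelIsCokernel f)
  have := PresheafOfModules.evaluation_preservesFiniteLimits.{u+1} (ringOf A) (pt B)
  have := PresheafOfModules.Finite.evaluation_preservesFiniteColimits.{u+1} (ringOf A) (pt B)
  have hS' := hS.map (PresheafOfModules.evaluation.{u+1} (ringOf A) (pt B))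
  rw [ShortComplex.moduleCat_exact_iff] at hS'
  exact hS' x hx

lemma comp_app_apply {F G H : MVF A} (f : F ⟶ G) (g : G ⟶ H) (B : Alg A) (x : F.obj (pt B)) :
    (f ≫ g).app (pt B) x = g.app (pt B) (f.app (pt B) x) := rfl

lemma zero_app_apply {F G : MVF A} (B : Alg A) (x : F.obj (pt B)) :
    (0 : F ⟶ G).app (pt B) x = 0 := rfl

lemma add_app_apply {F G : MVF A} (f g : F ⟶ G) (B : Alg A) (x : F.obj (pt B)) :
    (f + g).app (pt B) x = f.app (pt B) x + g.app (pt B) x := rfl

lemma app_smul {F G : MVF A} (f : F ⟶ G) (B : Alg A) (b : B) (x : F.obj (pt B)) :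
    f.app (pt B) (b • x) = b • f.app (pt B) x := (f.app (pt B)).hom.map_smul b x

lemma app_add {F G : MVF A} (f : F ⟶ G) (B : Alg A) (x y : F.obj (pt B)) :
    f.app (pt B) (x + y) = f.app (pt B) x + f.app (pt B) y := (f.app (pt B)).hom.map_add x y

lemma app_zero {F G : MVF A} (f : F ⟶ G) (B : Alg A) :
    f.app (pt B) (0 : F.obj (pt B)) = 0 := (f.app (pt B)).hom.map_zero

lemma app_sub {F G : MVF A} (f : F ⟶ G) (B : Alg A) (x y : F.obj (pt B)) :
    f.app (pt B) (x - y) = f.app (pt B) x - f.app (pt B) y := (f.app (pt B)).hom.map_sub x y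

lemma app_neg {F G : MVF A} (f : F ⟶ G) (B : Alg A) (x : F.obj (pt B)) :
    f.app (pt B) (-x) = -f.app (pt B) x := (f.app (pt B)).hom.map_neg x

/-- The transition map of a module-valued functor as a plain function with the expected type. -/
def mp (F : MVF A) {B B' : Alg A} (g : B ⟶ B') (x : F.obj (pt B)) : F.obj (pt B') :=
  F.map (ptHom g) x

lemma naturality {F G : MVF A} (f : F ⟶ G) {B B' : Alg A} (g : B ⟶ B') (x : F.obj (pt B)) :
    f.app (pt B') (mp F g x) = mp G g (f.app (pt B) x) :=
  PresheafOfModules.naturality_apply f (ptHom g) x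

lemma mp_smul (F : MVF A) {B B' : Alg A} (g : B ⟶ B') (b : B) (x : F.obj (pt B)) :
    mp F g (b • x) = (g.hom b : B') • mp F g x :=
  PresheafOfModules.map_smul F (ptHom g) b x

lemma mp_add (F : MVF A) {B B' : Alg A} (g : B ⟶ B') (x y : F.obj (pt B)) :
    mp F g (x + y) = mp F g x + mp F g y :=
  (F.map (ptHom g)).hom.map_add x y

lemma mp_zero (F : MVF A) {B B' : Alg A} (g : B ⟶ B') :
    mp F g (0 : F.obj (pt B)) = 0 :=
  (F.map (ptHom g)).hom.map_zero

lemma mp_sub (F : MVF A) {B B' : Alg A} (g : B ⟶ B') (x y : F.obj (pt B)) :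
    mp F g (x - y) = mp F g x - mp F g y :=
  (F.map (ptHom g)).hom.map_sub x y

lemma mp_neg (F : MVF A) {B B' : Alg A} (g : B ⟶ B') (x : F.obj (pt B)) :
    mp F g (-x) = -mp F g x :=
  (F.map (ptHom g)).hom.map_neg x

lemma mp_comp (F : MVF A) {B B' B'' : Alg A} (g : B ⟶ B') (g' : B' ⟶ B'') (x : F.obj (pt B)) :
    mp F (g ≫ g') x = mp F g' (mp F g x) :=
  F.map_comp_apply (ptHom g) (ptHom g') x

lemma mp_id (F : MVF A) {B : Alg A} (x : F.obj (pt B)) : mp F (𝟙 B) x = x := by
  change F.map (𝟙 (pt B)) x = x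
  rw [F.map_id]
  rfl

/-- Morphisms of module-valued functors are equal when they agree on all sections. -/
theorem hom_ext' {F G : MVF A} {f g : F ⟶ G}
    (h : ∀ (B : Alg A) (x : F.obj (pt B)), f.app (pt B) x = g.app (pt B) x) : f = g := by
  ext ⟨⟨B⟩⟩ x
  exact h B x

lemma toT_mp {M : ModuleCat.{u+1} A} {B B' : Alg A} (f : B ⟶ B')
    (x : ((underline A).obj M).obj (pt B)) :
    toT (mp ((underline A).obj M) f x) = f.hom.toLinearMap.rTensor M (toT x) := rfl

/-- Sectionwise kernel condition: `i : F ⟶ underline M` identifies `F` with the kernel of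
`underline φ`. -/
structure IsKer {F : MVF A} {M N : ModuleCat.{u+1} A} (φ : M ⟶ N)
    (i : F ⟶ (underline A).obj M) : Prop where
  inj : ∀ B : Alg A, Function.Injective (i.app (pt B))
  zero : i ≫ (underline A).map φ = 0
  exact : ∀ (B : Alg A) (x : ((underline A).obj M).obj (pt B)),
    ((underline A).map φ).app (pt B) x = 0 → ∃ y, i.app (pt B) y = x

theorem isKer_kernel {M N : ModuleCat.{u+1} A} (φ : M ⟶ N) :
    IsKer φ (kernel.ι ((underline A).map φ)) where
  inj B := PresheafOfModules.injective_of_mono _ _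
  zero := kernel.condition _
  exact B x hx := ker_exact _ B x hx

namespace IsKer

variable {F : MVF A} {M N : ModuleCat.{u+1} A} {φ : M ⟶ N} {i : F ⟶ (underline A).obj M}

lemma zero_apply (h : IsKer φ i) (B : Alg A) (y : F.obj (pt B)) :
    ((underline A).map φ).app (pt B) (i.app (pt B) y) = 0 := by
  rw [← comp_app_apply, h.zero]
  rfl

lemma mono (h : IsKer φ i) : Mono i :=
  PresheafOfModules.mono_of_injective (fun ⟨⟨B⟩⟩ => h.inj B)

lemma isIso_lift (h : IsKer φ i) : IsIso (kernel.lift ((underline A).map φ) i h.zero) := by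
  have hm : Mono (kernel.lift ((underline A).map φ) i h.zero) := by
    have := h.mono
    apply mono_of_mono_fac (kernel.lift_ι _ i h.zero)
  have he : Epi (kernel.lift ((underline A).map φ) i h.zero) := by
    apply PresheafOfModules.epi_of_surjective
    rintro ⟨⟨B⟩⟩ z
    have hz : ((underline A).map φ).app (pt B) ((kernel.ι ((underline A).map φ)).app (pt B) z) = 0 :=
      (isKer_kernel φ).zero_apply B z
    obtain ⟨y, hy⟩ := h.exact B _ hz
    refine ⟨y, ?_⟩
    apply (isKer_kernel φ).inj B
    rw [← hy, ← comp_app_apply, kernel.lift_ι]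
  exact isIso_of_mono_of_epi _

lemma adequate (h : IsKer φ i) : Adeq.adequate A F := by
  have := h.isIso_lift
  exact ⟨M, N, φ, ⟨asIso (kernel.lift ((underline A).map φ) i h.zero)⟩⟩

lemma exists_lift (h : IsKer φ i) {G : MVF A} (χ : G ⟶ (underline A).obj M)
    (hχ : χ ≫ (underline A).map φ = 0) : ∃ τ : G ⟶ F, τ ≫ i = χ := by
  have := h.isIso_lift
  refine ⟨kernel.lift _ χ hχ ≫ inv (kernel.lift ((underline A).map φ) i h.zero), ?_⟩
  have h1 : inv (kernel.lift ((underline A).map φ) i h.zero) ≫ i = kernel.ι _ := by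
    rw [IsIso.inv_comp_eq, kernel.lift_ι]
  rw [Category.assoc, h1, kernel.lift_ι]

lemma hom_ext (h : IsKer φ i) {G : MVF A} {τ τ' : G ⟶ F} (e : τ ≫ i = τ' ≫ i) : τ = τ' := by
  have := h.mono
  exact (cancel_mono i).1 e

/-- transport along an isomorphism -/
lemma of_iso (h : IsKer φ i) {F' : MVF A} (e : F' ≅ F) : IsKer φ (e.hom ≫ i) where
  inj B := by
    have h1 : Function.Injective (e.hom.app (pt B)) := by
      have : Mono e.hom := inferInstance
      exact PresheafOfModules.injective_of_mono _ _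
    intro x y hxy
    rw [comp_app_apply, comp_app_apply] at hxy
    exact h1 (h.inj B hxy)
  zero := by rw [Category.assoc, h.zero, comp_zero]
  exact B x hx := by
    obtain ⟨y, hy⟩ := h.exact B x hx
    refine ⟨e.inv.app (pt B) y, ?_⟩
    rw [comp_app_apply, ← comp_app_apply e.inv e.hom, e.inv_hom_id]
    exact hy

end IsKer

theorem adequate_iff (F : MVF A) :
    Adeq.adequate A F ↔ ∃ (M N : ModuleCat.{u+1} A) (φ : M ⟶ N) (i : F ⟶ (underline A).obj M),
      IsKer φ i := by
  constructor
  · rintro ⟨M, N, φ, ⟨e⟩⟩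
    exact ⟨M, N, φ, e.hom ≫ kernel.ι _, (isKer_kernel φ).of_iso e⟩
  · rintro ⟨M, N, φ, i, h⟩
    exact h.adequate

/-- The `A`-algebra `A` itself. -/
abbrev baseAlg (A : Type u) [CommRing A] : Alg A := algOf A A

/-- The unique map from the base algebra. -/
def fromBase (B : Alg A) : baseAlg A ⟶ B := CommAlgCat.ofHom (Algebra.ofId A B)

lemma fromBase_hom_apply (B : Alg A) (a : A) : (fromBase B).hom a = algebraMap A B a := rfl

/-- `underline` is full. -/
theorem underline_map_surjective {M N : ModuleCat.{u+1} A}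
    (ψ : (underline A).obj M ⟶ (underline A).obj N) : ∃ g : M ⟶ N, (underline A).map g = ψ := by
  let g₀ : M → N := fun m =>
    TensorProduct.lid A N (toT (ψ.app (pt (baseAlg A)) (ofT ((1 : A) ⊗ₜ[A] m))))
  have hg₀ : ∀ m, toT (ψ.app (pt (baseAlg A)) (ofT ((1 : A) ⊗ₜ[A] m))) = (1 : A) ⊗ₜ[A] g₀ m := by
    intro m
    have h0 : (1 : A) ⊗ₜ[A] g₀ m = (TensorProduct.lid A N).symm (g₀ m) :=
      (TensorProduct.lid_symm_apply _).symm
    rw [h0]
    exact ((TensorProduct.lid A N).symm_apply_apply _).symm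
  let g : M →ₗ[A] N :=
    { toFun := g₀
      map_add' := fun m m' => by
        change TensorProduct.lid A N _ = TensorProduct.lid A N _ + TensorProduct.lid A N _
        rw [← map_add, TensorProduct.tmul_add]
        congr 1
        change toT (ψ.app (pt (baseAlg A)) (ofT ((1 : A) ⊗ₜ[A] m) + ofT ((1 : A) ⊗ₜ[A] m'))) = _
        rw [map_add]
        rfl
      map_smul' := fun a m => by
        change TensorProduct.lid A N _ = a • TensorProduct.lid A N _
        rw [← map_smul]
        congr 1
        have h1 : ofT (B := baseAlg A) ((1 : A) ⊗ₜ[A] (a • m)) =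
            (a : baseAlg A) • ofT (B := baseAlg A) ((1 : A) ⊗ₜ[A] m) := by
          apply toT_injective
          rw [toT_smul, toT_ofT, toT_ofT, TensorProduct.tmul_smul]
        rw [h1, map_smul]
        rfl }
  refine ⟨ModuleCat.ofHom g, ?_⟩
  apply hom_ext'
  intro B x
  apply toT_injective
  rw [toT_app]
  have key : ∀ m : M, toT (ψ.app (pt B) (ofT ((1 : B) ⊗ₜ[A] m))) = (1 : B) ⊗ₜ[A] g m := by
    intro m
    have h1 : ofT (B := B) ((1 : B) ⊗ₜ[A] m) =
        mp ((underline A).obj M) (fromBase B) (ofT ((1 : A) ⊗ₜ[A] m)) := by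
      apply toT_injective
      rw [toT_mp, toT_ofT, toT_ofT, LinearMap.rTensor_tmul]
      simp
    rw [h1, naturality, toT_mp, hg₀, LinearMap.rTensor_tmul]
    simp
    rfl
  induction hx : toT x using TensorProduct.induction_on generalizing x with
  | zero =>
    have : x = 0 := hx
    rw [this, map_zero, map_zero]; rfl
  | tmul b m =>
    have h1 : x = b • ofT (B := B) ((1 : B) ⊗ₜ[A] m) := by
      apply toT_injective
      rw [hx, toT_smul, toT_ofT, TensorProduct.smul_tmul', smul_eq_mul, mul_one]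
    rw [h1, map_smul, toT_smul, key, LinearMap.baseChange_tmul, TensorProduct.smul_tmul',
      smul_eq_mul, mul_one]
    rfl
  | add y z hy hz =>
    have h1 : x = ofT y + ofT z := by
      apply toT_injective
      rw [hx]; rfl
    rw [h1, map_add, map_add, toT_add, ← hy (ofT y) rfl, ← hz (ofT z) rfl]

end

end Groth.Agent.Lib.AdeqH3
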