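import Mathlib
import Groth.Prelude.Def_Adeq
import Groth.Agent.Lib.AdeqBasic_helper3

/-!
# Adequate functors are covered by linearly adequate functors (helper3)
-/

set_option autoImplicit false
universe u

open CategoryTheory Limits TensorProduct Adeq

namespace Groth.Agent.Lib.AdeqH3

noncomputable section

variable {A : Type u} [CommRing A]

section PureAlgebra

variable {M N : Type (u+1)} [AddCommGroup M] [Module A M] [AddCommGroup N] [Module A N]

/-- every element of `Q ⊗ M` is a combination of generators of `Q` -/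
lemma exists_sum_tmul_of_span_eq_top {Q : Type u} [AddCommGroup Q] [Module A Q] {n : ℕ}
    (b : Fin n → Q) (hb : Submodule.span A (Set.range b) = ⊤) (z : Q ⊗[A] M) :
    ∃ μ : Fin n → M, z = ∑ i, b i ⊗ₜ[A] μ i := by
  induction z using TensorProduct.induction_on with
  | zero => exact ⟨0, by simp⟩
  | tmul q x =>
    have hq : q ∈ Submodule.span A (Set.range b) := by rw [hb]; trivial
    obtain ⟨c, hc⟩ := Submodule.mem_span_range_iff_exists_fun A |>.1 hq
    refine ⟨fun i => c i • x, ?_⟩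
    rw [← hc, TensorProduct.sum_tmul]
    refine Finset.sum_congr rfl fun i _ => ?_
    rw [TensorProduct.smul_tmul]
  | add y z hy hz =>
    obtain ⟨μ, rfl⟩ := hy
    obtain ⟨μ', rfl⟩ := hz
    refine ⟨μ + μ', ?_⟩
    rw [← Finset.sum_add_distrib]
    refine Finset.sum_congr rfl fun i _ => ?_
    rw [Pi.add_apply, TensorProduct.tmul_add]

/-- The equational criterion in the form needed: a section of the kernel of `B ⊗ φ`
comes from a finite matrix of relations. -/
theorem exists_matrix (φ : M →ₗ[A] N) (B : Type u) [CommRing B] [Algebra A B]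
    (x : B ⊗[A] M) (hx : φ.baseChange B x = 0) :
    ∃ (n k : ℕ) (a : Fin n → Fin k → A) (b : Fin n → B) (μ : Fin n → M) (ν : Fin k → N),
      x = ∑ i, b i ⊗ₜ[A] μ i ∧ (∀ i, φ (μ i) = ∑ j, a i j • ν j) ∧
        ∀ j, ∑ i, a i j • b i = 0 := by
  obtain ⟨P₀, hP₀, t, ht⟩ := TensorProduct.exists_of_fg x
  have h1 : (P₀.subtype.rTensor N) (φ.lTensor P₀ t) = 0 := by
    rw [← LinearMap.comp_apply, LinearMap.rTensor_comp_lTensor, ← LinearMap.lTensor_comp_rTensor,
      LinearMap.comp_apply, ht]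
    rw [← LinearMap.baseChange_eq_ltensor]
    exact hx
  obtain ⟨Q, hPQ, hQ, h2⟩ := TensorProduct.eq_zero_of_fg_of_subtype_eq_zero hP₀ h1
  obtain ⟨n, b', hb'⟩ := Submodule.fg_iff_exists_fin_generating_family.1 hQ
  have hb'mem : ∀ i, b' i ∈ Q := fun i => by
    rw [← hb']; exact Submodule.subset_span ⟨i, rfl⟩
  let b : Fin n → Q := fun i => ⟨b' i, hb'mem i⟩
  have hb : Submodule.span A (Set.range b) = ⊤ := by
    rw [eq_top_iff]
    rintro ⟨q, hq⟩ -
    have hq' : q ∈ Submodule.span A (Set.range b') := by rw [hb']; exact hq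
    obtain ⟨c, hc⟩ := Submodule.mem_span_range_iff_exists_fun A |>.1 hq'
    have : (⟨q, hq⟩ : Q) = ∑ i, c i • b i := by
      apply Subtype.ext
      have h5 : ((∑ i, c i • b i : Q) : B) = ∑ i, c i • b' i := by simp [b]
      rw [h5]
      exact hc.symm
    rw [this]
    exact Submodule.sum_mem _ fun i _ => Submodule.smul_mem _ _ (Submodule.subset_span ⟨i, rfl⟩)
  obtain ⟨μ, hμ⟩ := exists_sum_tmul_of_span_eq_top b hb ((Submodule.inclusion hPQ).rTensor M t)
  have h3 : ∑ i, b i ⊗ₜ[A] φ (μ i) = 0 := by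
    have : φ.lTensor Q ((Submodule.inclusion hPQ).rTensor M t) = 0 := by
      rw [← LinearMap.comp_apply, LinearMap.lTensor_comp_rTensor, ← LinearMap.rTensor_comp_lTensor,
        LinearMap.comp_apply, h2]
    rw [hμ, map_sum] at this
    simpa using this
  obtain ⟨k, a, ν, hν, ha⟩ := TensorProduct.vanishesTrivially_of_sum_tmul_eq_zero A hb h3
  refine ⟨n, k, a, fun i => (b i : B), μ, ν, ?_, hν, ?_⟩
  · have h4 : x = Q.subtype.rTensor M ((Submodule.inclusion hPQ).rTensor M t) := by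
      rw [← LinearMap.comp_apply, ← LinearMap.rTensor_comp]
      rw [← ht]
      rfl
    rw [h4, hμ, map_sum]
    simp
  · intro j
    have := congrArg Q.subtype (ha j)
    simpa using this

end PureAlgebra

/-- The free module on `Fin n`, one universe up. -/
abbrev Fr (A : Type u) [CommRing A] (n : ℕ) : Type (u+1) := ULift.{u+1} (Fin n) → A

/-- basis vector -/
def bv (A : Type u) [CommRing A] (n : ℕ) (i : Fin n) : Fr A n :=
  (Pi.single (ULift.up i) (1 : A) : ULift.{u+1} (Fin n) → A)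

/-- linear map out of the free module -/
def frLift (A : Type u) [CommRing A] {M : Type (u+1)} [AddCommGroup M] [Module A M] {n : ℕ}
    (μ : Fin n → M) : Fr A n →ₗ[A] M :=
  Fintype.linearCombination A (fun i : ULift.{u+1} (Fin n) => μ i.down)

@[simp] lemma frLift_bv {M : Type (u+1)} [AddCommGroup M] [Module A M] {n : ℕ} (μ : Fin n → M)
    (i : Fin n) : frLift A μ (bv A n i) = μ i := by
  unfold frLift bv
  rw [Fintype.linearCombination_apply_single, one_smul]

/-- the matrix map -/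
def frMat {n k : ℕ} (a : Fin n → Fin k → A) : Fr A n →ₗ[A] Fr A k :=
  frLift A (fun i => ∑ j, a i j • bv A k j)

lemma frMat_bv {n k : ℕ} (a : Fin n → Fin k → A) (i : Fin n) :
    frMat a (bv A n i) = ∑ j, a i j • bv A k j := frLift_bv _ i

/-- A chart for a linear map `φ : M → N`: a finite matrix of relations. -/
structure Chart {M N : Type (u+1)} [AddCommGroup M] [Module A M] [AddCommGroup N] [Module A N]
    (φ : M →ₗ[A] N) where
  n : ℕ
  k : ℕ
  a : Fin n → Fin k → A
  μ : Fin n → M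
  ν : Fin k → N
  comm : ∀ i, φ (μ i) = ∑ j, a i j • ν j

namespace Chart

variable {M N : ModuleCat.{u+1} A} {φ : M ⟶ N} (c : Chart φ.hom)

/-- source module of the chart -/
abbrev P : ModuleCat.{u+1} A := ModuleCat.of A (Fr A c.n)
/-- target module of the chart -/
abbrev P' : ModuleCat.{u+1} A := ModuleCat.of A (Fr A c.k)
/-- matrix map -/
def φ₀ : c.P ⟶ c.P' := ModuleCat.ofHom (frMat c.a)
/-- map to `M` -/
def gμ : c.P ⟶ M := ModuleCat.ofHom (frLift A c.μ)
/-- map to `N` -/
def gν : c.P' ⟶ N := ModuleCat.ofHom (frLift A c.ν)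

lemma square : c.gμ ≫ φ = c.φ₀ ≫ c.gν := by
  ext : 1
  apply LinearMap.pi_ext'
  intro i
  ext
  change φ.hom (frLift A c.μ (Pi.single i 1)) = frLift A c.ν (frMat c.a (Pi.single i 1))
  obtain ⟨i⟩ := i
  change φ.hom (frLift A c.μ (bv A c.n i)) = frLift A c.ν (frMat c.a (bv A c.n i))
  rw [frLift_bv, frMat_bv, map_sum, c.comm]
  refine Finset.sum_congr rfl fun j _ => ?_
  rw [map_smul, frLift_bv]

/-- the linearly adequate functor of the chart -/
def L : MVF A := kernel ((underline A).map c.φ₀)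

lemma linAdequate_L : linAdequate A c.L :=
  ⟨c.P, c.P', c.φ₀, inferInstance, inferInstance, inferInstance, inferInstance, ⟨Iso.refl _⟩⟩

/-- inclusion of `L` -/
def ιL : c.L ⟶ (underline A).obj c.P := kernel.ι _

lemma isKer_ιL : IsKer c.φ₀ c.ιL := isKer_kernel _

/-- the tensor `∑ b_i ⊗ e_i` -/
def tens (B : Alg A) (b : Fin c.n → B) : B ⊗[A] c.P := ∑ i, b i ⊗ₜ[A] bv A c.n i

lemma baseChange_tens (B : Alg A) (b : Fin c.n → B) (hb : ∀ j, ∑ i, c.a i j • b i = 0) :
    c.φ₀.hom.baseChange B (c.tens B b) = 0 := by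
  unfold tens
  rw [map_sum]
  have h1 : ∀ i, c.φ₀.hom.baseChange B (b i ⊗ₜ[A] bv A c.n i) =
      ∑ j, (c.a i j • b i) ⊗ₜ[A] bv A c.k j := by
    intro i
    rw [LinearMap.baseChange_tmul]
    change b i ⊗ₜ[A] frMat c.a (bv A c.n i) = _
    rw [frMat_bv, TensorProduct.tmul_sum]
    refine Finset.sum_congr rfl fun j _ => ?_
    rw [TensorProduct.tmul_smul, TensorProduct.smul_tmul']
  simp_rw [h1]
  rw [Finset.sum_comm]
  apply Finset.sum_eq_zero
  intro j _
  rw [← TensorProduct.sum_tmul, hb j, TensorProduct.zero_tmul]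

lemma gμ_tens (B : Alg A) (b : Fin c.n → B) :
    c.gμ.hom.baseChange B (c.tens B b) = ∑ i, b i ⊗ₜ[A] c.μ i := by
  unfold tens
  rw [map_sum]
  refine Finset.sum_congr rfl fun i _ => ?_
  rw [LinearMap.baseChange_tmul]
  change b i ⊗ₜ[A] frLift A c.μ (bv A c.n i) = _
  rw [frLift_bv]

variable {F : MVF A} {i : F ⟶ (underline A).obj M} (hi : IsKer φ i)

include hi in
lemma exists_toF : ∃ π : c.L ⟶ F, π ≫ i = c.ιL ≫ (underline A).map c.gμ := by
  apply hi.exists_lift
  rw [Category.assoc, ← Functor.map_comp, c.square, Functor.map_comp, ← Category.assoc]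
  have : c.ιL ≫ (underline A).map c.φ₀ = 0 := kernel.condition _
  rw [this, zero_comp]

/-- the map `L → F` -/
def toF : c.L ⟶ F := (c.exists_toF hi).choose

lemma toF_comp : c.toF hi ≫ i = c.ιL ≫ (underline A).map c.gμ := (c.exists_toF hi).choose_spec

include hi in
/-- a section with a matrix presentation is hit by the chart -/
lemma hits (B : Alg A) (ξ : F.obj (pt B)) (b : Fin c.n → B)
    (hξ : toT (i.app (pt B) ξ) = ∑ j, b j ⊗ₜ[A] c.μ j) (hb : ∀ j, ∑ i, c.a i j • b i = 0) :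
    ∃ l : c.L.obj (pt B), (c.toF hi).app (pt B) l = ξ ∧
      toT (c.ιL.app (pt B) l) = c.tens B b := by
  have h0 : ((underline A).map c.φ₀).app (pt B) (ofT (c.tens B b)) = 0 := by
    apply toT_injective
    rw [toT_app, toT_ofT, toT_zero]
    exact c.baseChange_tens B b hb
  obtain ⟨l, hl⟩ := c.isKer_ιL.exact B _ h0
  refine ⟨l, ?_, by rw [hl, toT_ofT]⟩
  apply hi.inj B
  rw [← comp_app_apply, c.toF_comp hi, comp_app_apply, hl]
  apply toT_injective
  rw [toT_app, toT_ofT, hξ, c.gμ_tens]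

end Chart

/-- existence of a chart hitting a given section -/
theorem exists_chart {F : MVF A} {M N : ModuleCat.{u+1} A} {φ : M ⟶ N}
    {i : F ⟶ (underline A).obj M} (hi : IsKer φ i) (B : Alg A) (ξ : F.obj (pt B)) :
    ∃ (c : Chart φ.hom) (l : c.L.obj (pt B)), (c.toF hi).app (pt B) l = ξ := by
  have hx : φ.hom.baseChange B (toT (i.app (pt B) ξ)) = 0 := by
    rw [← toT_app, hi.zero_apply]
    rfl
  obtain ⟨n, k, a, b, μ, ν, h1, h2, h3⟩ := exists_matrix φ.hom B _ hx
  let c : Chart φ.hom := ⟨n, k, a, μ, ν, h2⟩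
  obtain ⟨l, hl, -⟩ := c.hits hi B ξ b h1 h3
  exact ⟨c, l, hl⟩

/-- Stacks, Adequate modules: an adequate functor is a quotient of a direct sum of linearly
adequate functors. -/
theorem exists_epi_cofan (F : MVF A) (hF : Adeq.adequate A F) :
    ∃ (ι : Type (u + 1)) (L : ι → MVF A), (∀ i, Adeq.linAdequate A (L i)) ∧
      ∃ (c : Cofan L) (_ : IsColimit c) (π : c.pt ⟶ F), Epi π := by
  obtain ⟨M, N, φ, i, hi⟩ := (adequate_iff F).1 hF
  let ι : Type (u+1) := Σ B : Alg A, F.obj (pt B)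
  have hch : ∀ idx : ι, ∃ (c : Chart φ.hom) (l : c.L.obj (pt idx.1)),
      (c.toF hi).app (pt idx.1) l = idx.2 := fun idx => exists_chart hi idx.1 idx.2
  choose ch l hl using hch
  let L : ι → MVF A := fun idx => (ch idx).L
  refine ⟨ι, L, fun idx => (ch idx).linAdequate_L, ?_⟩
  let c : Cofan L := Cofan.mk (∐ L) (Sigma.ι L)
  have hc : IsColimit c := coproductIsCoproduct L
  let π : c.pt ⟶ F := Sigma.desc (fun idx => (ch idx).toF hi)
  refine ⟨c, hc, π, ?_⟩
  apply PresheafOfModules.epi_of_surjective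
  rintro ⟨⟨B⟩⟩ ξ
  refine ⟨(Sigma.ι L ⟨B, ξ⟩).app (pt B) (l ⟨B, ξ⟩), ?_⟩
  have h1 : Sigma.ι L ⟨B, ξ⟩ ≫ π = (ch ⟨B, ξ⟩).toF hi := Sigma.ι_desc _ _
  rw [← comp_app_apply, h1]
  exact hl ⟨B, ξ⟩

end

end Groth.Agent.Lib.AdeqH3
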