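import Mathlib
import Groth.Prelude.Def_Adeq
import Groth.Agent.Lib.AdeqBasic_helper3

/-!
# Adequate functors: extension of maps from linearly adequate functors (helper3)

Stacks "Adequate modules", the extension lemma: a map `L → underline M` from
`L = Ker(underline P → underline P')` (`P`, `P'` finite free) extends to `underline P`.
The proof uses the first order thickening `A ⊕ Q` and dual numbers.
-/

set_option autoImplicit false
universe u

open CategoryTheory Limits TensorProduct Adeq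

namespace Groth.Agent.Lib.AdeqH3

noncomputable section

variable {A : Type u} [CommRing A]

section PureAlgebra

variable {P P' : Type (u+1)} [AddCommGroup P] [Module A P] [AddCommGroup P'] [Module A P']
  {n m : ℕ} (e : Module.Basis (Fin n) A P) (e' : Module.Basis (Fin m) A P') (φ₀ : P →ₗ[A] P')

/-- matrix coefficients of `φ₀` -/
def coef (i : Fin n) (j : Fin m) : A := e'.repr (φ₀ (e i)) j

lemma phi_e (i : Fin n) : φ₀ (e i) = ∑ j, coef e e' φ₀ i j • e' j := by
  unfold coef
  exact (e'.sum_repr _).symm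

section T

variable (B : Type u) [CommRing B] [Algebra A B]

/-- the tensor `∑ c_i ⊗ e_i` -/
def T (c : Fin n → B) : B ⊗[A] P := ∑ i, c i ⊗ₜ[A] e i

lemma T_surjective (η : B ⊗[A] P) : ∃ c, T e B c = η := by
  induction η using TensorProduct.induction_on with
  | zero => exact ⟨0, by simp [T]⟩
  | tmul b p =>
    refine ⟨fun i => e.repr p i • b, ?_⟩
    unfold T
    conv_rhs => rw [← e.sum_repr p]
    rw [TensorProduct.tmul_sum]
    refine Finset.sum_congr rfl fun i _ => ?_
    rw [TensorProduct.tmul_smul, TensorProduct.smul_tmul']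
  | add x y hx hy =>
    obtain ⟨c, rfl⟩ := hx
    obtain ⟨c', rfl⟩ := hy
    exact ⟨c + c', by simp [T, TensorProduct.add_tmul, Finset.sum_add_distrib]⟩

lemma baseChange_T (c : Fin n → B) :
    φ₀.baseChange B (T e B c) = ∑ j, (∑ i, coef e e' φ₀ i j • c i) ⊗ₜ[A] e' j := by
  unfold T
  rw [map_sum]
  have h1 : ∀ i, φ₀.baseChange B (c i ⊗ₜ[A] e i) =
      ∑ j, (coef e e' φ₀ i j • c i) ⊗ₜ[A] e' j := by
    intro i
    rw [LinearMap.baseChange_tmul, phi_e e e' φ₀, TensorProduct.tmul_sum]
    refine Finset.sum_congr rfl fun j _ => ?_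
    rw [TensorProduct.tmul_smul, TensorProduct.smul_tmul']
  simp_rw [h1]
  rw [Finset.sum_comm]
  refine Finset.sum_congr rfl fun j _ => ?_
  rw [TensorProduct.sum_tmul]

/-- coordinate functional on `B ⊗ P'` -/
def coordB (j : Fin m) : B ⊗[A] P' →ₗ[A] B :=
  (TensorProduct.rid A B).toLinearMap ∘ₗ (e'.coord j).lTensor B

lemma coordB_tmul (j j' : Fin m) (d : B) :
    coordB e' B j (d ⊗ₜ[A] e' j') = if j' = j then d else 0 := by
  unfold coordB
  rw [LinearMap.comp_apply, LinearMap.lTensor_tmul]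
  simp only [LinearEquiv.coe_coe, TensorProduct.rid_tmul, Module.Basis.coord_apply,
    Module.Basis.repr_self, Finsupp.single_apply]
  split_ifs <;> simp

lemma coordB_sum (d : Fin m → B) (j : Fin m) :
    coordB e' B j (∑ j', d j' ⊗ₜ[A] e' j') = d j := by
  rw [map_sum]
  simp_rw [coordB_tmul]
  rw [Finset.sum_ite_eq']
  simp

lemma rel_of_baseChange_T_eq_zero (c : Fin n → B) (h : φ₀.baseChange B (T e B c) = 0)
    (j : Fin m) : ∑ i, coef e e' φ₀ i j • c i = 0 := by
  have := congrArg (coordB e' B j) h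
  rwa [baseChange_T, coordB_sum, map_zero] at this

lemma baseChange_T_eq_zero_of_rel (c : Fin n → B)
    (h : ∀ j, ∑ i, coef e e' φ₀ i j • c i = 0) : φ₀.baseChange B (T e B c) = 0 := by
  rw [baseChange_T]
  apply Finset.sum_eq_zero
  intro j _
  rw [h j, TensorProduct.zero_tmul]

lemma T_rTensor {B' : Type u} [CommRing B'] [Algebra A B'] (f : B →ₗ[A] B') (c : Fin n → B) :
    f.rTensor P (T e B c) = T e B' (fun i => f (c i)) := by
  unfold T
  rw [map_sum]
  simp_rw [LinearMap.rTensor_tmul]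

lemma smul_T (b : B) (c : Fin n → B) : b • T e B c = T e B (fun i => b * c i) := by
  unfold T
  rw [Finset.smul_sum]
  simp_rw [TensorProduct.smul_tmul', smul_eq_mul]

lemma baseChange_T' {M : Type (u+1)} [AddCommGroup M] [Module A M] (g : P →ₗ[A] M)
    (c : Fin n → B) : g.baseChange B (T e B c) = ∑ i, c i ⊗ₜ[A] g (e i) := by
  unfold T
  rw [map_sum]
  simp_rw [LinearMap.baseChange_tmul]

end T

/-- The relation vectors. -/
def rel (j : Fin m) : Fin n → A := fun i => coef e e' φ₀ i j

/-- The cokernel of the transposed matrix: a small model of `Coker(P'^* → P^*)`. -/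
def Qm : Type u := (Fin n → A) ⧸ Submodule.span A (Set.range (rel e e' φ₀))

instance : AddCommGroup (Qm e e' φ₀) :=
  inferInstanceAs (AddCommGroup ((Fin n → A) ⧸ Submodule.span A (Set.range (rel e e' φ₀))))

instance : Module A (Qm e e' φ₀) :=
  inferInstanceAs (Module A ((Fin n → A) ⧸ Submodule.span A (Set.range (rel e e' φ₀))))

instance : Module Aᵐᵒᵖ (Qm e e' φ₀) :=
  Module.compHom _ ((RingHom.id A).fromOpposite fun _ _ => mul_comm _ _)

instance : IsCentralScalar A (Qm e e' φ₀) := ⟨fun _ _ => rfl⟩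

/-- the quotient map -/
def qmk : (Fin n → A) →ₗ[A] Qm e e' φ₀ :=
  Submodule.mkQ (Submodule.span A (Set.range (rel e e' φ₀)))

lemma qmk_surjective : Function.Surjective (qmk e e' φ₀) :=
  Submodule.mkQ_surjective _

lemma qmk_rel (j : Fin m) : qmk e e' φ₀ (rel e e' φ₀ j) = 0 := by
  exact (Submodule.Quotient.mk_eq_zero _).2 (Submodule.subset_span ⟨j, rfl⟩)

/-- The first order thickening `A ⊕ Q`. -/
abbrev Calg : Type u := TrivSqZeroExt A (Qm e e' φ₀)

/-- the universal first order element -/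
def c0 (i : Fin n) : Calg e e' φ₀ :=
  TrivSqZeroExt.inrHom A (Qm e e' φ₀) (qmk e e' φ₀ (Pi.single i 1))

lemma sum_coef_single (j : Fin m) :
    ∑ i, coef e e' φ₀ i j • (Pi.single i (1 : A) : Fin n → A) = rel e e' φ₀ j := by
  funext i'
  rw [Finset.sum_apply]
  simp only [Pi.smul_apply, Pi.single_apply, smul_eq_mul, mul_ite, mul_one, mul_zero]
  rw [Finset.sum_ite_eq]
  simp [rel]

lemma c0_rel (j : Fin m) : ∑ i, coef e e' φ₀ i j • c0 e e' φ₀ i = 0 := by
  unfold c0
  simp_rw [← map_smul]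
  rw [← map_sum, ← map_sum, sum_coef_single, qmk_rel, map_zero]

section hmap

variable {B : Type u} [CommRing B] [Algebra A B] (c : Fin n → B)
  (hc : ∀ j, ∑ i, coef e e' φ₀ i j • c i = 0)

/-- The linear map `Q → B` classified by a solution `c`. -/
def hmap : Qm e e' φ₀ →ₗ[A] B :=
  Submodule.liftQ _ (Fintype.linearCombination A c) (by
    rw [Submodule.span_le]
    rintro _ ⟨j, rfl⟩
    rw [SetLike.mem_coe, LinearMap.mem_ker, Fintype.linearCombination_apply]
    exact hc j)

lemma hmap_qmk (v : Fin n → A) : hmap e e' φ₀ c hc (qmk e e' φ₀ v) = ∑ i, v i • c i := by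
  change Fintype.linearCombination A c v = _
  rw [Fintype.linearCombination_apply]

lemma hmap_single (i : Fin n) : hmap e e' φ₀ c hc (qmk e e' φ₀ (Pi.single i 1)) = c i := by
  rw [hmap_qmk]
  simp [Pi.single_apply]

/-- The algebra map `A ⊕ Q → B[ε]`. -/
def kap : Calg e e' φ₀ →ₐ[A] TrivSqZeroExt B B :=
  TrivSqZeroExt.liftEquivOfComm
    ⟨((TrivSqZeroExt.inrHom B B).restrictScalars A) ∘ₗ hmap e e' φ₀ c hc, fun x y => by
      simp [TrivSqZeroExt.inr_mul_inr]⟩

lemma kap_apply (x : Calg e e' φ₀) :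
    kap e e' φ₀ c hc x = algebraMap A (TrivSqZeroExt B B) x.fst +
      TrivSqZeroExt.inr (hmap e e' φ₀ c hc x.snd) := by
  unfold kap
  rw [TrivSqZeroExt.liftEquivOfComm_apply, TrivSqZeroExt.lift_def]
  rfl

lemma kap_c0 (i : Fin n) : kap e e' φ₀ c hc (c0 e e' φ₀ i) = TrivSqZeroExt.inr (c i) := by
  rw [kap_apply]
  unfold c0
  simp only [TrivSqZeroExt.inrHom_apply, TrivSqZeroExt.fst_inr, map_zero, TrivSqZeroExt.snd_inr,
    zero_add]
  rw [hmap_single]

lemma snd_kap (x : Calg e e' φ₀) :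
    (kap e e' φ₀ c hc x).snd = hmap e e' φ₀ c hc x.snd := by
  rw [kap_apply]
  simp [TrivSqZeroExt.algebraMap_eq_inl']

end hmap

section tensorM

variable {M : Type (u+1)} [AddCommGroup M] [Module A M]

/-- the `ε`-coefficient on `B[ε] ⊗ M` -/
def sndT (B : Type u) [CommRing B] [Algebra A B] :
    TrivSqZeroExt B B ⊗[A] M →ₗ[A] B ⊗[A] M :=
  ((TrivSqZeroExt.sndHom B B).restrictScalars A).rTensor M

lemma sndT_eps (B : Type u) [CommRing B] [Algebra A B] (y : B ⊗[A] M) :
    sndT B ((TrivSqZeroExt.inr (1 : B) : TrivSqZeroExt B B) •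
      ((TrivSqZeroExt.inlAlgHom A B B).toLinearMap.rTensor M y)) = y := by
  induction y using TensorProduct.induction_on with
  | zero => simp
  | tmul b x =>
    rw [LinearMap.rTensor_tmul, TensorProduct.smul_tmul']
    unfold sndT
    rw [LinearMap.rTensor_tmul]
    congr 1
    simp [TrivSqZeroExt.inr_mul_inl]
  | add y z hy hz =>
    rw [map_add, smul_add, map_add, hy, hz]

variable {B : Type u} [CommRing B] [Algebra A B] (c : Fin n → B)
  (hc : ∀ j, ∑ i, coef e e' φ₀ i j • c i = 0)

lemma sndT_kap (θ : Calg e e' φ₀ ⊗[A] M) :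
    sndT B ((kap e e' φ₀ c hc).toLinearMap.rTensor M θ) =
      (hmap e e' φ₀ c hc).rTensor M ((TrivSqZeroExt.sndHom A (Qm e e' φ₀)).rTensor M θ) := by
  unfold sndT
  rw [← LinearMap.rTensor_comp_apply, ← LinearMap.rTensor_comp_apply]
  congr 2
  ext x
  exact snd_kap e e' φ₀ c hc x

/-- coordinates of an element of `(Fin n → A) ⊗ M` -/
def mvec (θ : (Fin n → A) ⊗[A] M) (i : Fin n) : M :=
  TensorProduct.lid A M ((LinearMap.proj i : (Fin n → A) →ₗ[A] A).rTensor M θ)

lemma expand (h' : (Fin n → A) →ₗ[A] B) (θ : (Fin n → A) ⊗[A] M) :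
    h'.rTensor M θ = ∑ i, h' (Pi.single i 1) ⊗ₜ[A] mvec θ i := by
  induction θ using TensorProduct.induction_on with
  | zero => simp [mvec]
  | tmul v x =>
    rw [LinearMap.rTensor_tmul]
    have hv : v = ∑ i, v i • (Pi.single i (1 : A) : Fin n → A) := by
      funext i'
      rw [Finset.sum_apply]
      simp [Pi.single_apply]
    conv_lhs => rw [hv, map_sum, TensorProduct.sum_tmul]
    refine Finset.sum_congr rfl fun i _ => ?_
    unfold mvec
    rw [LinearMap.rTensor_tmul, TensorProduct.lid_tmul, map_smul, TensorProduct.smul_tmul]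
    rfl
  | add y z hy hz =>
    rw [map_add, hy, hz, ← Finset.sum_add_distrib]
    refine Finset.sum_congr rfl fun i _ => ?_
    rw [← TensorProduct.tmul_add]
    congr 1
    unfold mvec
    rw [map_add, map_add]

end tensorM

end PureAlgebra

section Main

theorem ext_core {L : MVF A} {P P' M : ModuleCat.{u+1} A} {n m : ℕ}
    (e : Module.Basis (Fin n) A P) (e' : Module.Basis (Fin m) A P')
    (φ₀ : P ⟶ P') (i : L ⟶ (underline A).obj P) (hi : IsKer φ₀ i)
    (φ : L ⟶ (underline A).obj M) : ∃ g : P ⟶ M, i ≫ (underline A).map g = φ := by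
  -- the universal first order element
  let C : Alg A := algOf A (Calg e e' φ₀.hom)
  have h0 : ((underline A).map φ₀).app (pt C) (ofT (T e (Calg e e' φ₀.hom) (c0 e e' φ₀.hom))) = 0 := by
    apply toT_injective
    rw [toT_app, toT_ofT, toT_zero]
    exact baseChange_T_eq_zero_of_rel e e' φ₀.hom _ _ (c0_rel e e' φ₀.hom)
  obtain ⟨x0, hx0⟩ := hi.exact C _ h0
  let θ : Calg e e' φ₀.hom ⊗[A] M := toT (φ.app (pt C) x0)
  let θ₁ : Qm e e' φ₀.hom ⊗[A] M :=
    (TrivSqZeroExt.sndHom A (Qm e e' φ₀.hom)).rTensor M θ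
  obtain ⟨θt, hθt⟩ := LinearMap.rTensor_surjective M (qmk_surjective e e' φ₀.hom) θ₁
  let g : P →ₗ[A] M := e.constr A (mvec θt)
  have hg : ∀ i, g (e i) = mvec θt i := fun i => e.constr_basis A _ i
  refine ⟨ModuleCat.ofHom g, ?_⟩
  apply hom_ext'
  intro B x
  apply toT_injective
  rw [comp_app_apply, toT_app]
  change g.baseChange B (toT (i.app (pt B) x)) = toT (φ.app (pt B) x)
  obtain ⟨c, hcT⟩ := T_surjective e B (toT (i.app (pt B) x))
  have hzero : φ₀.hom.baseChange B (T e B c) = 0 := by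
    rw [hcT, ← toT_app, hi.zero_apply]
    rfl
  have hc := rel_of_baseChange_T_eq_zero e e' φ₀.hom B c hzero
  let Bε : Alg A := algOf A (TrivSqZeroExt B B)
  let ιB : B ⟶ Bε := CommAlgCat.ofHom (TrivSqZeroExt.inlAlgHom A B B)
  let κ : C ⟶ Bε := CommAlgCat.ofHom (kap e e' φ₀.hom c hc)
  have key : mp L κ x0 =
      (TrivSqZeroExt.inr (1 : B) : TrivSqZeroExt B B) • mp L ιB x := by
    apply hi.inj Bε
    rw [naturality, app_smul, naturality]
    apply toT_injective
    rw [toT_mp, toT_smul, toT_mp, hx0, toT_ofT, ← hcT]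
    change (kap e e' φ₀.hom c hc).toLinearMap.rTensor P (T e _ (c0 e e' φ₀.hom)) =
      (TrivSqZeroExt.inr (1 : B) : TrivSqZeroExt B B) •
        ((TrivSqZeroExt.inlAlgHom A B B).toLinearMap.rTensor P (T e B c))
    rw [T_rTensor, T_rTensor, smul_T]
    congr 1
    funext i
    change kap e e' φ₀.hom c hc (c0 e e' φ₀.hom i) = _
    rw [kap_c0]
    change TrivSqZeroExt.inr (c i) = TrivSqZeroExt.inr (1 : B) * TrivSqZeroExt.inl (c i)
    rw [TrivSqZeroExt.inr_mul_inl]
    simp
  have key2 := congrArg (fun z => toT (φ.app (pt Bε) z)) key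
  simp only at key2
  rw [naturality, app_smul, naturality, toT_mp, toT_smul, toT_mp] at key2
  have key3 := congrArg (sndT (M := M) B) key2
  change sndT B ((kap e e' φ₀.hom c hc).toLinearMap.rTensor M θ) =
    sndT B ((TrivSqZeroExt.inr (1 : B) : TrivSqZeroExt B B) •
      ((TrivSqZeroExt.inlAlgHom A B B).toLinearMap.rTensor M (toT (φ.app (pt B) x)))) at key3
  rw [sndT_eps, sndT_kap] at key3
  rw [← key3]
  change g.baseChange B (toT (i.app (pt B) x)) = (hmap e e' φ₀.hom c hc).rTensor M θ₁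
  rw [← hθt, ← LinearMap.rTensor_comp_apply, expand, ← hcT, baseChange_T']
  refine Finset.sum_congr rfl fun i _ => ?_
  rw [hg, LinearMap.comp_apply, hmap_single]

end Main

/-- The extension lemma for a kernel presentation with finite free modules. -/
theorem exists_extension {L : MVF A} {P P' M : ModuleCat.{u+1} A}
    [Module.Finite A P] [Module.Free A P] [Module.Finite A P'] [Module.Free A P']
    (φ₀ : P ⟶ P') (i : L ⟶ (underline A).obj P) (hi : IsKer φ₀ i)
    (φ : L ⟶ (underline A).obj M) : ∃ g : P ⟶ M, i ≫ (underline A).map g = φ := by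
  rcases subsingleton_or_nontrivial A with hA | hA
  · refine ⟨0, ?_⟩
    apply hom_ext'
    intro B x
    apply toT_injective
    have : Subsingleton M := Module.subsingleton A M
    have : Subsingleton (B ⊗[A] M) := inferInstance
    exact Subsingleton.elim _ _
  · exact ext_core (Module.finBasis A P) (Module.finBasis A P') φ₀ i hi φ

end

end Groth.Agent.Lib.AdeqH3
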