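import Mathlib
import Groth.Prelude.Def_Adeq
import Groth.Agent.Lib.AdeqBasic_helper3
import Groth.Agent.Lib.AdeqExt_helper3
import Groth.Agent.Lib.AdeqCover_helper3

/-!
# Cokernels of maps of adequate functors are adequate (helper3)
-/

set_option autoImplicit false
universe u

open CategoryTheory Limits TensorProduct Adeq

namespace Groth.Agent.Lib.AdeqH3

noncomputable section

variable {A : Type u} [CommRing A]

section Exactness

variable {X Y : Type (u+1)} [AddCommGroup X] [Module A X] [AddCommGroup Y] [Module A Y]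
  (B : Type u) [CommRing B] [Algebra A B]

/-- right exactness of base change for the cokernel of a map -/
lemma exists_of_mkQ_baseChange_eq_zero (f : X →ₗ[A] Y) (y : B ⊗[A] Y)
    (hy : (LinearMap.range f).mkQ.baseChange B y = 0) : ∃ x, f.baseChange B x = y := by
  have hex := lTensor_exact B (LinearMap.exact_map_mkQ_range f) (Submodule.mkQ_surjective _)
  have hy' : (LinearMap.range f).mkQ.lTensor B y = 0 := hy
  obtain ⟨x, hx⟩ := (hex y).1 hy'
  exact ⟨x, hx⟩

lemma baseChange_surjective {f : X →ₗ[A] Y} (hf : Function.Surjective f) :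
    Function.Surjective (f.baseChange B) := by
  intro y
  obtain ⟨x, hx⟩ := LinearMap.lTensor_surjective B hf y
  exact ⟨x, hx⟩

lemma bc_comp {Z : Type (u+1)} [AddCommGroup Z] [Module A Z] (g : Y →ₗ[A] Z) (f : X →ₗ[A] Y)
    (x : B ⊗[A] X) : g.baseChange B (f.baseChange B x) = (g ∘ₗ f).baseChange B x := by
  rw [LinearMap.baseChange_comp]
  rfl

lemma prod_decomp (y : B ⊗[A] (X × Y)) :
    y = (LinearMap.inl A X Y).baseChange B ((LinearMap.fst A X Y).baseChange B y) +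
      (LinearMap.inr A X Y).baseChange B ((LinearMap.snd A X Y).baseChange B y) := by
  rw [bc_comp, bc_comp, ← LinearMap.add_apply, ← LinearMap.baseChange_add]
  have : LinearMap.inl A X Y ∘ₗ LinearMap.fst A X Y + LinearMap.inr A X Y ∘ₗ LinearMap.snd A X Y =
      LinearMap.id := by
    ext x <;> simp
  rw [this, LinearMap.baseChange_id]
  rfl

end Exactness

section Block

variable {ι : Type (u+1)} [DecidableEq ι] {X Y : ι → Type (u+1)}
  [∀ i, AddCommGroup (X i)] [∀ i, Module A (X i)] [∀ i, AddCommGroup (Y i)] [∀ i, Module A (Y i)]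
  (f : ∀ i, X i →ₗ[A] Y i) (B : Type u) [CommRing B] [Algebra A B]

open DirectSum

lemma exists_finset_decomp (z : B ⊗[A] (⨁ i, X i)) :
    ∃ s : Finset ι, ∀ s', s ⊆ s' →
      z = ∑ i ∈ s', (lof A ι X i ∘ₗ component A ι X i).baseChange B z := by
  classical
  induction z using TensorProduct.induction_on with
  | zero => exact ⟨∅, fun s' _ => by simp⟩
  | tmul b p =>
    refine ⟨DFinsupp.support p, fun s' hs' => ?_⟩
    simp_rw [LinearMap.baseChange_tmul]
    rw [← TensorProduct.tmul_sum]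
    congr 1
    have h1 : ∑ i ∈ s', (lof A ι X i ∘ₗ component A ι X i) p =
        ∑ i ∈ DFinsupp.support p, (lof A ι X i ∘ₗ component A ι X i) p := by
      symm
      apply Finset.sum_subset hs'
      intro i _ hi
      rw [DFinsupp.mem_support_toFun, not_not] at hi
      rw [LinearMap.comp_apply]
      change lof A ι X i (p i) = 0
      rw [hi, map_zero]
    rw [h1]
    exact (DirectSum.sum_support_of p).symm
  | add y z hy hz =>
    obtain ⟨s₁, h₁⟩ := hy
    obtain ⟨s₂, h₂⟩ := hz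
    refine ⟨s₁ ∪ s₂, fun s' hs' => ?_⟩
    simp_rw [map_add]
    rw [Finset.sum_add_distrib, ← h₁ s' (Finset.union_subset_left hs'),
      ← h₂ s' (Finset.union_subset_right hs')]

lemma block (z : B ⊗[A] (⨁ i, X i)) (hz : (lmap f).baseChange B z = 0) :
    ∃ (s : Finset ι) (w : ∀ i, B ⊗[A] X i),
      z = ∑ i ∈ s, (lof A ι X i).baseChange B (w i) ∧ ∀ i, (f i).baseChange B (w i) = 0 := by
  obtain ⟨s, hs⟩ := exists_finset_decomp B z
  refine ⟨s, fun i => (component A ι X i).baseChange B z, ?_, ?_⟩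
  · conv_lhs => rw [hs s (Finset.Subset.refl _)]
    refine Finset.sum_congr rfl fun i _ => ?_
    rw [bc_comp]
  · intro i
    rw [bc_comp]
    have : f i ∘ₗ component A ι X i = component A ι Y i ∘ₗ lmap f := by
      ext x
      rfl
    rw [this, ← bc_comp, hz, map_zero]

end Block

section QConstruction

variable {Pb P'b M' N' : Type (u+1)} [AddCommGroup Pb] [Module A Pb] [AddCommGroup P'b]
  [Module A P'b] [AddCommGroup M'] [Module A M'] [AddCommGroup N'] [Module A N']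
  (φb : Pb →ₗ[A] P'b) (gb : Pb →ₗ[A] M') (φ' : M' →ₗ[A] N')

/-- `p ↦ (g p, φ p)` -/
def Tm : Pb →ₗ[A] (M' × P'b) := gb.prod φb
/-- `p ↦ (φ' g p, φ p)` -/
def T2 : Pb →ₗ[A] (N' × P'b) := (φ' ∘ₗ gb).prod φb

/-- cokernel of `Tm` -/
abbrev Qb : Type (u+1) := (M' × P'b) ⧸ LinearMap.range (Tm φb gb)
/-- cokernel of `φb` -/
abbrev Rb : Type (u+1) := P'b ⧸ LinearMap.range φb
/-- cokernel of `T2` -/
abbrev N2 : Type (u+1) := (N' × P'b) ⧸ LinearMap.range (T2 φb gb φ')

/-- quotient maps -/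
def qQ : (M' × P'b) →ₗ[A] Qb φb gb := (LinearMap.range (Tm φb gb)).mkQ
def qR : P'b →ₗ[A] Rb φb := (LinearMap.range φb).mkQ
def qN : (N' × P'b) →ₗ[A] N2 φb gb φ' := (LinearMap.range (T2 φb gb φ')).mkQ

lemma qQ_Tm : qQ φb gb ∘ₗ Tm φb gb = 0 := by
  ext p
  exact (Submodule.Quotient.mk_eq_zero _).2 ⟨p, rfl⟩

lemma qR_φb : qR φb ∘ₗ φb = 0 := by
  ext p
  exact (Submodule.Quotient.mk_eq_zero _).2 ⟨p, rfl⟩

lemma qN_T2 : qN φb gb φ' ∘ₗ T2 φb gb φ' = 0 := by
  ext p
  exact (Submodule.Quotient.mk_eq_zero _).2 ⟨p, rfl⟩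

/-- `M' → Q` -/
def uQ : M' →ₗ[A] Qb φb gb := qQ φb gb ∘ₗ LinearMap.inl A M' P'b

/-- `Q → R` -/
def ψR : Qb φb gb →ₗ[A] Rb φb :=
  Submodule.liftQ _ (qR φb ∘ₗ LinearMap.snd A M' P'b) (by
    rintro _ ⟨p, rfl⟩
    rw [LinearMap.mem_ker, LinearMap.comp_apply]
    change qR φb (φb p) = 0
    exact LinearMap.congr_fun (qR_φb φb) p)

/-- `Q → N2` -/
def ψN : Qb φb gb →ₗ[A] N2 φb gb φ' :=
  Submodule.liftQ _ (qN φb gb φ' ∘ₗ (φ'.prodMap LinearMap.id)) (by
    rintro _ ⟨p, rfl⟩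
    rw [LinearMap.mem_ker, LinearMap.comp_apply]
    exact LinearMap.congr_fun (qN_T2 φb gb φ') p)

/-- `Q → R × N2` -/
def ψQ : Qb φb gb →ₗ[A] (Rb φb × N2 φb gb φ') := (ψR φb gb).prod (ψN φb gb φ')

/-- `N' → R × N2` -/
def vQ : N' →ₗ[A] (Rb φb × N2 φb gb φ') :=
  (0 : N' →ₗ[A] Rb φb).prod (qN φb gb φ' ∘ₗ LinearMap.inl A N' P'b)

lemma ψR_qQ : ψR φb gb ∘ₗ qQ φb gb = qR φb ∘ₗ LinearMap.snd A M' P'b := by
  ext x <;> rfl

lemma ψN_qQ : ψN φb gb φ' ∘ₗ qQ φb gb = qN φb gb φ' ∘ₗ (φ'.prodMap LinearMap.id) := by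
  ext x <;> rfl

lemma ψQ_uQ : ψQ φb gb φ' ∘ₗ uQ φb gb = vQ φb gb φ' ∘ₗ φ' := by
  ext m
  · change ψR φb gb (qQ φb gb (m, 0)) = 0
    change qR φb (0 : P'b) = 0
    exact map_zero _
  · change ψN φb gb φ' (qQ φb gb (m, 0)) = qN φb gb φ' (φ' m, 0)
    rfl

variable (B : Type u) [CommRing B] [Algebra A B]

lemma fst_Tm : LinearMap.fst A M' P'b ∘ₗ Tm φb gb = gb := by ext; rfl
lemma snd_Tm : LinearMap.snd A M' P'b ∘ₗ Tm φb gb = φb := by ext; rfl
lemma fst_T2 : LinearMap.fst A N' P'b ∘ₗ T2 φb gb φ' = φ' ∘ₗ gb := by ext; rfl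
lemma snd_T2 : LinearMap.snd A N' P'b ∘ₗ T2 φb gb φ' = φb := by ext; rfl

lemma Tm_eq : Tm φb gb = LinearMap.inl A M' P'b ∘ₗ gb + LinearMap.inr A M' P'b ∘ₗ φb := by
  ext p <;> simp [Tm]

/-- (Q1) -/
lemma uQ_gb_eq_zero (z : B ⊗[A] Pb) (hz : φb.baseChange B z = 0) :
    (uQ φb gb).baseChange B (gb.baseChange B z) = 0 := by
  have h1 : uQ φb gb ∘ₗ gb = - (qQ φb gb ∘ₗ LinearMap.inr A M' P'b ∘ₗ φb) := by
    have h2 : qQ φb gb ∘ₗ (LinearMap.inl A M' P'b ∘ₗ gb + LinearMap.inr A M' P'b ∘ₗ φb) = 0 := by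
      rw [← Tm_eq]; exact qQ_Tm φb gb
    rw [LinearMap.comp_add] at h2
    rw [eq_neg_iff_add_eq_zero]
    exact h2
  rw [bc_comp, h1, LinearMap.baseChange_neg, LinearMap.neg_apply, ← LinearMap.comp_assoc,
    ← bc_comp, hz, map_zero, neg_zero]

/-- (Q2) -/
lemma exists_of_uQ_eq_zero (w : B ⊗[A] M') (hw : (uQ φb gb).baseChange B w = 0) :
    ∃ z : B ⊗[A] Pb, φb.baseChange B z = 0 ∧ gb.baseChange B z = w := by
  have h1 : (LinearMap.range (Tm φb gb)).mkQ.baseChange B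
      ((LinearMap.inl A M' P'b).baseChange B w) = 0 := by
    rw [bc_comp]
    exact hw
  obtain ⟨z, hz⟩ := exists_of_mkQ_baseChange_eq_zero B (Tm φb gb) _ h1
  refine ⟨z, ?_, ?_⟩
  · have := congrArg ((LinearMap.snd A M' P'b).baseChange B) hz
    rw [bc_comp, bc_comp, snd_Tm] at this
    rw [this]
    have h0 : LinearMap.snd A M' P'b ∘ₗ LinearMap.inl A M' P'b = 0 := by ext; simp
    rw [h0, LinearMap.baseChange_zero]
    rfl
  · have := congrArg ((LinearMap.fst A M' P'b).baseChange B) hz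
    rw [bc_comp, bc_comp, fst_Tm] at this
    rw [this]
    have h0 : LinearMap.fst A M' P'b ∘ₗ LinearMap.inl A M' P'b = LinearMap.id := by ext; simp
    rw [h0, LinearMap.baseChange_id]
    rfl

/-- (Q3) -/
lemma exists_of_ψQ_eq_zero (q : B ⊗[A] Qb φb gb) (hq : (ψQ φb gb φ').baseChange B q = 0) :
    ∃ (w₁ : B ⊗[A] M') (z₂ : B ⊗[A] Pb), q = (uQ φb gb).baseChange B w₁ ∧
      φb.baseChange B z₂ = 0 ∧ φ'.baseChange B w₁ = (φ' ∘ₗ gb).baseChange B z₂ := by
  obtain ⟨y, rfl⟩ := baseChange_surjective B (Submodule.mkQ_surjective (LinearMap.range (Tm φb gb))) q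
  change (ψQ φb gb φ').baseChange B ((qQ φb gb).baseChange B y) = 0 at hq
  set w := (LinearMap.fst A M' P'b).baseChange B y with hw
  set p' := (LinearMap.snd A M' P'b).baseChange B y with hp'
  -- first component
  have hR : (qR φb).baseChange B p' = 0 := by
    have := congrArg ((LinearMap.fst A (Rb φb) (N2 φb gb φ')).baseChange B) hq
    rw [map_zero, bc_comp, bc_comp] at this
    have h1 : (LinearMap.fst A (Rb φb) (N2 φb gb φ') ∘ₗ ψQ φb gb φ') ∘ₗ qQ φb gb =
        qR φb ∘ₗ LinearMap.snd A M' P'b := by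
      rw [← ψR_qQ φb gb]; rfl
    rw [h1, ← bc_comp] at this
    exact this
  obtain ⟨z, hz⟩ := exists_of_mkQ_baseChange_eq_zero B φb p' hR
  refine ⟨w - gb.baseChange B z, ?_⟩
  have hq1 : (qQ φb gb).baseChange B y = (uQ φb gb).baseChange B (w - gb.baseChange B z) := by
    conv_lhs => rw [prod_decomp B y]
    rw [← hw, ← hp', ← hz, map_add, map_sub]
    unfold uQ
    rw [← bc_comp B (qQ φb gb) (LinearMap.inl A M' P'b) w]
    have h2 : (qQ φb gb).baseChange B ((LinearMap.inr A M' P'b).baseChange B (φb.baseChange B z)) =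
        - (qQ φb gb ∘ₗ LinearMap.inl A M' P'b).baseChange B (gb.baseChange B z) := by
      rw [bc_comp, bc_comp, bc_comp, ← LinearMap.neg_apply, ← LinearMap.baseChange_neg]
      congr 2
      have h3 : qQ φb gb ∘ₗ (LinearMap.inl A M' P'b ∘ₗ gb + LinearMap.inr A M' P'b ∘ₗ φb) = 0 := by
        rw [← Tm_eq]; exact qQ_Tm φb gb
      rw [LinearMap.comp_add] at h3
      rw [eq_neg_iff_add_eq_zero, add_comm]
      rw [LinearMap.comp_assoc, LinearMap.comp_assoc]
      exact h3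
    rw [h2]
    abel
  -- second component
  have hN : (qN φb gb φ').baseChange B ((LinearMap.inl A N' P'b).baseChange B
      (φ'.baseChange B (w - gb.baseChange B z))) = 0 := by
    have := congrArg ((LinearMap.snd A (Rb φb) (N2 φb gb φ')).baseChange B) hq
    rw [map_zero, hq1, bc_comp, bc_comp] at this
    have h1 : (LinearMap.snd A (Rb φb) (N2 φb gb φ') ∘ₗ ψQ φb gb φ') ∘ₗ uQ φb gb =
        qN φb gb φ' ∘ₗ LinearMap.inl A N' P'b ∘ₗ φ' := by
      rw [LinearMap.comp_assoc, ψQ_uQ]; rfl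
    rw [h1, ← bc_comp, ← bc_comp] at this
    exact this
  obtain ⟨z₂, hz₂⟩ := exists_of_mkQ_baseChange_eq_zero B (T2 φb gb φ') _ hN
  refine ⟨z₂, hq1, ?_, ?_⟩
  · have := congrArg ((LinearMap.snd A N' P'b).baseChange B) hz₂
    rw [bc_comp, bc_comp, snd_T2] at this
    rw [this]
    have h0 : LinearMap.snd A N' P'b ∘ₗ LinearMap.inl A N' P'b = 0 := by ext; simp
    rw [h0, LinearMap.baseChange_zero]
    rfl
  · have := congrArg ((LinearMap.fst A N' P'b).baseChange B) hz₂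
    rw [bc_comp, bc_comp, fst_T2] at this
    rw [this]
    have h0 : LinearMap.fst A N' P'b ∘ₗ LinearMap.inl A N' P'b = LinearMap.id := by ext; simp
    rw [h0, LinearMap.baseChange_id]
    rfl

end QConstruction

end

end Groth.Agent.Lib.AdeqH3
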