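import Mathlib
import Groth.Prelude.Def_Adeq
import Groth.Agent.Lib.AdeqBasic_helper3
import Groth.Agent.Lib.AdeqExt_helper3
import Groth.Agent.Lib.AdeqCover_helper3
import Groth.Agent.Lib.AdeqCoker_helper3

/-!
# Cokernels and kernels of maps of adequate functors are adequate (helper3)
-/

set_option autoImplicit false
universe u

open CategoryTheory Limits TensorProduct Adeq

namespace Groth.Agent.Lib.AdeqH3

noncomputable section

variable {A : Type u} [CommRing A]

open DirectSum in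
/-- Stacks, Adequate modules: the cokernel of a map of adequate functors is adequate. -/
theorem adequate_cokernel {F G : MVF A} (a : F ⟶ G) (hF : Adeq.adequate A F)
    (hG : Adeq.adequate A G) : Adeq.adequate A (cokernel a) := by
  classical
  obtain ⟨M, N, φ, i, hi⟩ := (adequate_iff F).1 hF
  obtain ⟨M', N', φ', i', hi'⟩ := (adequate_iff G).1 hG
  let 𝒞 : Type (u+1) := Σ B : Alg A, F.obj (pt B)
  have hch : ∀ idx : 𝒞, ∃ (c : Chart φ.hom) (l : c.L.obj (pt idx.1)),
      (c.toF hi).app (pt idx.1) l = idx.2 := fun idx => exists_chart hi idx.1 idx.2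
  choose ch l hl using hch
  have hg : ∀ idx : 𝒞, ∃ g : (ch idx).P ⟶ M',
      (ch idx).ιL ≫ (underline A).map g = (ch idx).toF hi ≫ a ≫ i' :=
    fun idx => exists_extension (ch idx).φ₀ (ch idx).ιL (ch idx).isKer_ιL _
  choose g hg using hg
  let X : 𝒞 → Type (u+1) := fun idx => Fr A (ch idx).n
  let Y : 𝒞 → Type (u+1) := fun idx => Fr A (ch idx).k
  let fX : ∀ idx, X idx →ₗ[A] Y idx := fun idx => (ch idx).φ₀.hom
  let gX : ∀ idx, X idx →ₗ[A] M' := fun idx => (g idx).hom
  let φb : (⨁ idx, X idx) →ₗ[A] (⨁ idx, Y idx) := DirectSum.lmap fX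
  let gb : (⨁ idx, X idx) →ₗ[A] M' := DirectSum.toModule A 𝒞 M' gX
  have hgb : ∀ idx, gb ∘ₗ DirectSum.lof A 𝒞 X idx = gX idx := fun idx =>
    LinearMap.ext fun x => DirectSum.toModule_lof A idx x
  have hφb : ∀ idx, φb ∘ₗ DirectSum.lof A 𝒞 X idx = DirectSum.lof A 𝒞 Y idx ∘ₗ fX idx :=
    fun idx => LinearMap.ext fun x => DirectSum.lmap_lof fX idx x
  -- single chart computation
  have single : ∀ (B : Alg A) (idx : 𝒞) (l' : (ch idx).L.obj (pt B)),
      toT (i'.app (pt B) (a.app (pt B) (((ch idx).toF hi).app (pt B) l'))) =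
        (gX idx).baseChange B (toT ((ch idx).ιL.app (pt B) l')) := by
    intro B idx l'
    rw [← comp_app_apply, ← comp_app_apply, ← hg idx, comp_app_apply, toT_app]
  -- key claim
  have key : ∀ (B : Alg A) (z : B ⊗[A] (⨁ idx, X idx)), φb.baseChange B z = 0 →
      ∃ ξ : F.obj (pt B), toT (i'.app (pt B) (a.app (pt B) ξ)) = gb.baseChange B z := by
    intro B z hz
    obtain ⟨s, w, hzw, hw⟩ := block fX B z hz
    rw [hzw]
    apply Finset.sum_induction _ (fun z => ∃ ξ : F.obj (pt B),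
      toT (i'.app (pt B) (a.app (pt B) ξ)) = gb.baseChange B z)
    · rintro z₁ z₂ ⟨ξ₁, h₁⟩ ⟨ξ₂, h₂⟩
      refine ⟨ξ₁ + ξ₂, ?_⟩
      rw [app_add, app_add, toT_add, h₁, h₂, map_add]
    · refine ⟨0, ?_⟩
      rw [app_zero, app_zero, toT_zero, map_zero]
    · intro idx _
      have h0 : ((underline A).map (ch idx).φ₀).app (pt B) (ofT (w idx)) = 0 := by
        apply toT_injective
        rw [toT_app, toT_ofT, toT_zero]
        exact hw idx
      obtain ⟨l', hl'⟩ := (ch idx).isKer_ιL.exact B _ h0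
      refine ⟨((ch idx).toF hi).app (pt B) l', ?_⟩
      rw [single, hl', toT_ofT, bc_comp, hgb]
  -- the modules
  let Qm' : ModuleCat.{u+1} A := ModuleCat.of A (Qb φb gb)
  let Rm' : ModuleCat.{u+1} A := ModuleCat.of A (Rb φb × N2 φb gb φ'.hom)
  let u : M' ⟶ Qm' := ModuleCat.ofHom (uQ φb gb)
  let ψ : Qm' ⟶ Rm' := ModuleCat.ofHom (ψQ φb gb φ'.hom)
  let v : N' ⟶ Rm' := ModuleCat.ofHom (vQ φb gb φ'.hom)
  have huψ : u ≫ ψ = φ' ≫ v := by
    ext : 1
    exact ψQ_uQ φb gb φ'.hom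
  -- the map from the cokernel
  have h0 : a ≫ i' ≫ (underline A).map u = 0 := by
    apply hom_ext'
    intro B ξ
    apply toT_injective
    rw [comp_app_apply, comp_app_apply, toT_app, zero_app_apply, toT_zero]
    obtain ⟨l', hl'⟩ : ∃ l' : (ch ⟨B, ξ⟩).L.obj (pt B),
        ((ch ⟨B, ξ⟩).toF hi).app (pt B) l' = ξ := ⟨l ⟨B, ξ⟩, hl ⟨B, ξ⟩⟩
    rw [← hl', single, ← hgb, ← bc_comp]
    apply uQ_gb_eq_zero
    rw [bc_comp, hφb, ← bc_comp]
    have : (fX ⟨B, ξ⟩).baseChange B (toT ((ch ⟨B, ξ⟩).ιL.app (pt B) l')) = 0 := by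
      rw [← toT_app, (ch ⟨B, ξ⟩).isKer_ιL.zero_apply]
      rfl
    rw [this, map_zero]
  let j : cokernel a ⟶ (underline A).obj Qm' := cokernel.desc a (i' ≫ (underline A).map u) h0
  have hπj : cokernel.π a ≫ j = i' ≫ (underline A).map u := cokernel.π_desc _ _ _
  have hπsurj : ∀ B : Alg A, Function.Surjective ((cokernel.π a).app (pt B)) :=
    fun B => PresheafOfModules.surjective_of_epi _ _
  have hjπ : ∀ (B : Alg A) (x : G.obj (pt B)),
      toT (j.app (pt B) ((cokernel.π a).app (pt B) x)) =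
        (uQ φb gb).baseChange B (toT (i'.app (pt B) x)) := by
    intro B x
    rw [← comp_app_apply, hπj, comp_app_apply, toT_app]
    rfl
  have hker : IsKer ψ j := by
    refine ⟨?_, ?_, ?_⟩
    · intro B y y' hyy'
      have hsub : j.app (pt B) (y - y') = 0 := by rw [app_sub, hyy', sub_self]
      obtain ⟨x, hx⟩ := hπsurj B (y - y')
      have h1 : (uQ φb gb).baseChange B (toT (i'.app (pt B) x)) = 0 := by
        rw [← hjπ, hx, hsub]; rfl
      obtain ⟨z, hz1, hz2⟩ := exists_of_uQ_eq_zero φb gb B _ h1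
      obtain ⟨ξ, hξ⟩ := key B z hz1
      have h2 : a.app (pt B) ξ = x := by
        apply hi'.inj B
        apply toT_injective
        rw [hξ, hz2]
      have h3 : y - y' = 0 := by
        rw [← hx, ← h2, ← comp_app_apply, cokernel.condition]; rfl
      exact sub_eq_zero.1 h3
    · rw [← cancel_epi (cokernel.π a), ← Category.assoc, hπj, Category.assoc, ← Functor.map_comp,
        huψ, Functor.map_comp, ← Category.assoc, hi'.zero, zero_comp, comp_zero]
    · intro B q hq
      have hq' : (ψQ φb gb φ'.hom).baseChange B (toT q) = 0 := congrArg toT hq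
      obtain ⟨w₁, z₂, hq1, hz₂, hw₁⟩ := exists_of_ψQ_eq_zero φb gb φ'.hom B (toT q) hq'
      obtain ⟨ξ₂, hξ₂⟩ := key B z₂ hz₂
      have h1 : φ'.hom.baseChange B w₁ = 0 := by
        rw [hw₁, ← bc_comp, ← hξ₂, ← toT_app, hi'.zero_apply]
        rfl
      have h2 : ((underline A).map φ').app (pt B) (ofT w₁) = 0 := by
        apply toT_injective
        rw [toT_app, toT_ofT, toT_zero, h1]
      obtain ⟨x, hx⟩ := hi'.exact B _ h2
      refine ⟨(cokernel.π a).app (pt B) x, ?_⟩
      apply toT_injective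
      rw [hjπ, hx, toT_ofT, hq1]
  exact hker.adequate

end

end Groth.Agent.Lib.AdeqH3
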