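import Mathlib
import Groth.Prelude.Def_Adeq
import Groth.Agent.Lib.AdeqBasic_helper3
import Groth.Agent.Lib.AdeqCoker_helper3
import Groth.Agent.Lib.AdeqCoker2_helper3

/-!
# Colimits of adequate functors are adequate (helper3)
-/

set_option autoImplicit false
universe u

open CategoryTheory Limits TensorProduct Adeq

namespace Groth.Agent.Lib.AdeqH3

noncomputable section

variable {A : Type u} [CommRing A]

lemma toT_sum {M : ModuleCat.{u+1} A} {B : Alg A} {κ : Type*} (s : Finset κ)
    (f : κ → ((underline A).obj M).obj (pt B)) :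
    toT (∑ j ∈ s, f j) = ∑ j ∈ s, toT (f j) := by
  classical
  induction s using Finset.induction_on with
  | empty => simp [toT_zero]
  | insert a s ha ih => rw [Finset.sum_insert ha, Finset.sum_insert ha, toT_add, ih]

lemma app_sum {F G : MVF A} (f : F ⟶ G) (B : Alg A) {κ : Type*} (s : Finset κ)
    (x : κ → F.obj (pt B)) :
    f.app (pt B) (∑ j ∈ s, x j) = ∑ j ∈ s, f.app (pt B) (x j) :=
  map_sum (f.app (pt B)).hom x s

section Coprod

variable {ι : Type (u+1)} (F : ι → MVF A)

theorem iSup_range_sigma_ι (B : Alg A) :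
    ⨆ j, LinearMap.range ((Sigma.ι F j).app (pt B)).hom = ⊤ := by
  have hp : PreservesColimitsOfShape (Discrete ι)
      (PresheafOfModules.evaluation.{u+1} (ringOf A) (pt B)) :=
    PresheafOfModules.evaluation_preservesColimitsOfShape.{u+1} (ringOf A) (Discrete ι) (pt B)
  have hc := isColimitOfPreserves (PresheafOfModules.evaluation.{u+1} (ringOf A) (pt B))
    (colimit.isColimit (Discrete.functor F))
  set S := ⨆ j, LinearMap.range ((Sigma.ι F j).app (pt B)).hom with hS
  have h : ModuleCat.ofHom S.mkQ = 0 := by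
    apply hc.hom_ext
    rintro ⟨j⟩
    ext x
    change S.mkQ ((Sigma.ι F j).app (pt B) x) = 0
    rw [Submodule.mkQ_apply, Submodule.Quotient.mk_eq_zero]
    exact Submodule.mem_iSup_of_mem j ⟨x, rfl⟩
  rw [eq_top_iff]
  intro x _
  have h2 : S.mkQ x = 0 := by
    have := congrArg (fun f => f.hom x) h
    exact this
  rwa [Submodule.mkQ_apply, Submodule.Quotient.mk_eq_zero] at h2

variable [DecidableEq ι]

lemma pi_ι_apply_self (B : Alg A) (j : ι) (y : (F j).obj (pt B)) :
    (Sigma.π F j).app (pt B) ((Sigma.ι F j).app (pt B) y) = y := by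
  rw [← comp_app_apply, Sigma.ι_π_eq_id]
  rfl

lemma pi_ι_apply_ne (B : Alg A) {j k : ι} (h : j ≠ k) (y : (F j).obj (pt B)) :
    (Sigma.π F k).app (pt B) ((Sigma.ι F j).app (pt B) y) = 0 := by
  rw [← comp_app_apply, Sigma.ι_π_of_ne F h]
  rfl

theorem exists_finset_sum (B : Alg A) (z : (∐ F).obj (pt B)) :
    ∃ s : Finset ι, ∀ s', s ⊆ s' →
      z = ∑ j ∈ s', (Sigma.ι F j).app (pt B) ((Sigma.π F j).app (pt B) z) := by
  have hz : z ∈ ⨆ j, LinearMap.range ((Sigma.ι F j).app (pt B)).hom := by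
    rw [iSup_range_sigma_ι]; trivial
  refine Submodule.iSup_induction (fun j => LinearMap.range ((Sigma.ι F j).app (pt B)).hom)
    (motive := fun z => ∃ s : Finset ι, ∀ s', s ⊆ s' →
      z = ∑ j ∈ s', (Sigma.ι F j).app (pt B) ((Sigma.π F j).app (pt B) z)) hz ?_ ?_ ?_
  · rintro j _ ⟨y, rfl⟩
    refine ⟨{j}, fun s' hs' => ?_⟩
    have hj : j ∈ s' := hs' (Finset.mem_singleton_self j)
    rw [Finset.sum_eq_single j]
    · change (Sigma.ι F j).app (pt B) y = _
      rw [pi_ι_apply_self]
    · intro k _ hk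
      change (Sigma.ι F k).app (pt B) ((Sigma.π F k).app (pt B) ((Sigma.ι F j).app (pt B) y)) = 0
      rw [pi_ι_apply_ne F B (Ne.symm hk), app_zero]
    · intro h
      exact absurd hj h
  · refine ⟨∅, fun s' _ => ?_⟩
    symm
    apply Finset.sum_eq_zero
    intro j _
    rw [app_zero, app_zero]
  · rintro x y ⟨s₁, h₁⟩ ⟨s₂, h₂⟩
    refine ⟨s₁ ∪ s₂, fun s' hs' => ?_⟩
    have e : ∀ j, (Sigma.ι F j).app (pt B) ((Sigma.π F j).app (pt B) (x + y)) =
        (Sigma.ι F j).app (pt B) ((Sigma.π F j).app (pt B) x) +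
        (Sigma.ι F j).app (pt B) ((Sigma.π F j).app (pt B) y) := fun j => by
      rw [app_add, app_add]
    change x + y = ∑ j ∈ s', (Sigma.ι F j).app (pt B) ((Sigma.π F j).app (pt B) (x + y))
    rw [Finset.sum_congr rfl (fun j _ => e j), Finset.sum_add_distrib,
      ← h₁ s' (Finset.union_subset_left hs'), ← h₂ s' (Finset.union_subset_right hs')]

theorem eq_zero_of_pi_eq_zero (B : Alg A) (z : (∐ F).obj (pt B))
    (h : ∀ j, (Sigma.π F j).app (pt B) z = 0) : z = 0 := by
  obtain ⟨s, hs⟩ := exists_finset_sum F B z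
  rw [hs s (Finset.Subset.refl _)]
  apply Finset.sum_eq_zero
  intro j _
  rw [h j, app_zero]

open DirectSum

variable {M N : ι → ModuleCat.{u+1} A} (φ : ∀ j, M j ⟶ N j)
  (i : ∀ j, F j ⟶ (underline A).obj (M j))

/-- direct sum of modules -/
abbrev sumM (M : ι → ModuleCat.{u+1} A) : ModuleCat.{u+1} A := ModuleCat.of A (⨁ j, M j)

/-- direct sum of maps -/
def sumφ : sumM M ⟶ sumM N := ModuleCat.ofHom (lmap fun j => (φ j).hom)

/-- inclusion of a summand -/
def lofM (M : ι → ModuleCat.{u+1} A) (j : ι) : M j ⟶ sumM M :=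
  ModuleCat.ofHom (lof A ι (fun j => M j) j)

/-- projection to a summand -/
def compM (M : ι → ModuleCat.{u+1} A) (j : ι) : sumM M ⟶ M j :=
  ModuleCat.ofHom (component A ι (fun j => M j) j)

/-- the comparison map -/
def sumI : ∐ F ⟶ (underline A).obj (sumM M) :=
  Sigma.desc fun j => i j ≫ (underline A).map (lofM M j)

lemma ι_sumI (j : ι) : Sigma.ι F j ≫ sumI F i = i j ≫ (underline A).map (lofM M j) := by
  unfold sumI
  rw [Sigma.ι_desc]

lemma lofM_sumφ (j : ι) : lofM M j ≫ sumφ φ = φ j ≫ lofM N j := by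
  refine ModuleCat.hom_ext (LinearMap.ext fun x => ?_)
  change (lmap fun j => (φ j).hom) (lof A ι (fun j => M j) j x) = lof A ι (fun j => N j) j ((φ j).hom x)
  rw [lmap_lof]

lemma lofM_compM_self (j : ι) : lofM M j ≫ compM M j = 𝟙 _ := by
  ext x
  change component A ι (fun j => M j) j (lof A ι (fun j => M j) j x) = x
  rw [component.lof_self]

lemma lofM_compM_ne {j k : ι} (h : j ≠ k) : lofM M j ≫ compM M k = 0 := by
  ext x
  change component A ι (fun j => M j) k (lof A ι (fun j => M j) j x) = 0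
  rw [component.of]
  simp [h]

lemma sumI_compM (j₀ : ι) :
    sumI F i ≫ (underline A).map (compM M j₀) = Sigma.π F j₀ ≫ i j₀ := by
  apply Sigma.hom_ext
  intro j
  rw [← Category.assoc, ι_sumI, Category.assoc, ← (underline A).map_comp, ← Category.assoc]
  by_cases h : j = j₀
  · subst h
    rw [lofM_compM_self, CategoryTheory.Functor.map_id, Category.comp_id, Sigma.ι_π_eq_id,
      Category.id_comp]
  · rw [lofM_compM_ne h, Sigma.ι_π_of_ne F h, zero_comp, Functor.map_zero, comp_zero]

theorem isKer_sum (h : ∀ j, IsKer (φ j) (i j)) : IsKer (sumφ φ) (sumI F i) where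
  inj B := by
    rw [injective_iff_map_eq_zero]
    intro z hz
    apply eq_zero_of_pi_eq_zero F B z
    intro j
    apply (h j).inj B
    rw [app_zero, ← comp_app_apply, ← sumI_compM, comp_app_apply, hz, app_zero]
  zero := by
    apply Sigma.hom_ext
    intro j
    rw [comp_zero, ← Category.assoc, ι_sumI, Category.assoc, ← (underline A).map_comp,
      lofM_sumφ, (underline A).map_comp, ← Category.assoc, (h j).zero, zero_comp]
  exact B x hx := by
    have hx' : (lmap fun j => (φ j).hom).baseChange B (toT x) = 0 := hx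
    obtain ⟨s, w, hw, hw0⟩ := block (fun j => (φ j).hom) B (toT x) hx'
    have hy : ∀ j, ∃ y : (F j).obj (pt B), (i j).app (pt B) y = ofT (w j) :=
      fun j => (h j).exact B (ofT (w j)) (hw0 j)
    choose y hy using hy
    refine ⟨∑ j ∈ s, (Sigma.ι F j).app (pt B) (y j), ?_⟩
    rw [app_sum]
    apply toT_injective
    rw [hw, toT_sum]
    refine Finset.sum_congr rfl fun j _ => ?_
    rw [← comp_app_apply, ι_sumI, comp_app_apply, hy j]
    rfl

end Coprod

theorem adequate_coproduct {ι : Type (u+1)} (F : ι → MVF A)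
    (hF : ∀ j, Adeq.adequate A (F j)) : Adeq.adequate A (∐ F) := by
  classical
  have h := fun j => (adequate_iff (F j)).1 (hF j)
  choose M N φ i hi using h
  exact (isKer_sum F φ i hi).adequate

theorem adequate_colimit {J : Type (u+1)} [SmallCategory J] (D : J ⥤ MVF A)
    (hD : ∀ j, Adeq.adequate A (D.obj j)) : Adeq.adequate A (colimit D) := by
  let F₁ : (Σ p : J × J, p.1 ⟶ p.2) → MVF A := fun f => D.obj f.1.1
  let s : ∐ F₁ ⟶ ∐ D.obj := Sigma.desc fun f => D.map f.2 ≫ Sigma.ι D.obj f.1.2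
  let t : ∐ F₁ ⟶ ∐ D.obj := Sigma.desc fun f => Sigma.ι D.obj f.1.1
  have hc := HasColimitOfHasCoproductsOfHasCoequalizers.buildIsColimit (F := D)
    (c₁ := colimit.cocone (Discrete.functor F₁)) (c₂ := colimit.cocone (Discrete.functor D.obj))
    s t (by intro f; simp [s, F₁]) (by intro f; simp [t, F₁]) (colimit.isColimit _)
    (colimit.isColimit _)
    (Preadditive.isColimitCoforkOfCokernelCofork (cokernelIsCokernel (s - t)))
  let e := IsColimit.coconePointUniqueUpToIso (colimit.isColimit D) hc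
  have h1 : Adeq.adequate A (cokernel (s - t)) :=
    adequate_cokernel (s - t) (adequate_coproduct _ fun f => hD _) (adequate_coproduct _ hD)
  exact (Adeq.adequate A).prop_of_iso e.symm h1

end

end Groth.Agent.Lib.AdeqH3
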