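import Mathlib
import Groth.Prelude.Def_Adeq
import Groth.Agent.Lib.AdeqBasic_helper3
import Groth.Agent.Lib.AdeqCoker_helper3
import Groth.Agent.Lib.AdeqCoker2_helper3

/-!
# Kernels of maps of adequate functors are adequate (helper3)
-/

set_option autoImplicit false
universe u

open CategoryTheory Limits TensorProduct Adeq

namespace Groth.Agent.Lib.AdeqH3

noncomputable section

variable {A : Type u} [CommRing A]

/-- `underline M` is adequate. -/
theorem isKer_id (M : ModuleCat.{u+1} A) :
    IsKer (0 : M ⟶ ModuleCat.of A PUnit.{u+2}) (𝟙 ((underline A).obj M)) where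
  inj B := fun x y h => h
  zero := by rw [Functor.map_zero, comp_zero]
  exact B x _ := ⟨x, rfl⟩

theorem adequate_underline (M : ModuleCat.{u+1} A) : Adeq.adequate A ((underline A).obj M) :=
  (isKer_id M).adequate

section prod

variable (M M' : ModuleCat.{u+1} A)

/-- product module -/
abbrev prodM : ModuleCat.{u+1} A := ModuleCat.of A (M × M')

def inlM : M ⟶ prodM M M' := ModuleCat.ofHom (LinearMap.inl A M M')
def inrM : M' ⟶ prodM M M' := ModuleCat.ofHom (LinearMap.inr A M M')
def fstM : prodM M M' ⟶ M := ModuleCat.ofHom (LinearMap.fst A M M')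
def sndM : prodM M M' ⟶ M' := ModuleCat.ofHom (LinearMap.snd A M M')

lemma inl_fst : inlM M M' ≫ fstM M M' = 𝟙 M := by ext; rfl
lemma inl_snd : inlM M M' ≫ sndM M M' = 0 := by ext; rfl
lemma inr_fst : inrM M M' ≫ fstM M M' = 0 := by ext; rfl
lemma inr_snd : inrM M M' ≫ sndM M M' = 𝟙 M' := by ext; rfl

variable {M M'}

/-- a section of `underline (M × M')` vanishes iff both components do -/
lemma eq_zero_of_fst_snd (B : Alg A) (y : ((underline A).obj (prodM M M')).obj (pt B))
    (h1 : ((underline A).map (fstM M M')).app (pt B) y = 0)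
    (h2 : ((underline A).map (sndM M M')).app (pt B) y = 0) : y = 0 := by
  apply toT_injective
  have h1' : (LinearMap.fst A M M').baseChange B (toT y) = 0 := congrArg toT h1
  have h2' : (LinearMap.snd A M M').baseChange B (toT y) = 0 := congrArg toT h2
  rw [prod_decomp B (toT y), h1', h2', map_zero, map_zero, add_zero]
  rfl

end prod

/-- Stacks, Adequate modules: the kernel of a map of adequate functors is adequate. -/
theorem adequate_kernel {F G : MVF A} (a : F ⟶ G) (hF : Adeq.adequate A F)
    (hG : Adeq.adequate A G) : Adeq.adequate A (kernel a) := by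
  obtain ⟨M, N, φ, i, hi⟩ := (adequate_iff F).1 hF
  obtain ⟨M', N', φ', i', hi'⟩ := (adequate_iff G).1 hG
  -- the diagonal
  let d : F ⟶ (underline A).obj (prodM M M') :=
    i ≫ (underline A).map (inlM M M') + a ≫ i' ≫ (underline A).map (inrM M M')
  have hd1 : d ≫ (underline A).map (fstM M M') = i := by
    change (i ≫ (underline A).map (inlM M M') + a ≫ i' ≫ (underline A).map (inrM M M')) ≫ _ = _
    rw [Preadditive.add_comp, Category.assoc, Category.assoc, Category.assoc, ← Functor.map_comp,
      ← Functor.map_comp, inl_fst, inr_fst, CategoryTheory.Functor.map_id, Functor.map_zero, Category.comp_id,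
      comp_zero, comp_zero, add_zero]
  have hd2 : d ≫ (underline A).map (sndM M M') = a ≫ i' := by
    change (i ≫ (underline A).map (inlM M M') + a ≫ i' ≫ (underline A).map (inrM M M')) ≫ _ = _
    rw [Preadditive.add_comp, Category.assoc, Category.assoc, Category.assoc, ← Functor.map_comp,
      ← Functor.map_comp, inl_snd, inr_snd, CategoryTheory.Functor.map_id, Functor.map_zero, Category.comp_id,
      comp_zero, zero_add]
  have hdinj : ∀ B : Alg A, Function.Injective (d.app (pt B)) := by
    intro B x y hxy
    apply hi.inj B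
    rw [← hd1, comp_app_apply, comp_app_apply, hxy]
  -- cokernel of the diagonal
  have hcok : Adeq.adequate A (cokernel d) :=
    adequate_cokernel d hF (adequate_underline _)
  obtain ⟨K, K', κ, j, hj⟩ := (adequate_iff _).1 hcok
  obtain ⟨ρ, hρ⟩ := underline_map_surjective (cokernel.π d ≫ j)
  have hρ0 : d ≫ (underline A).map ρ = 0 := by
    rw [hρ, ← Category.assoc, cokernel.condition, zero_comp]
  have hρex : ∀ (B : Alg A) (y : ((underline A).obj (prodM M M')).obj (pt B)),
      ((underline A).map ρ).app (pt B) y = 0 → ∃ x : F.obj (pt B), d.app (pt B) x = y := by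
    intro B y hy
    rw [hρ, comp_app_apply] at hy
    have h1 : (cokernel.π d).app (pt B) y = 0 := by
      apply hj.inj B
      rw [hy, app_zero]
    exact coker_exact d B y h1
  -- the kernel
  let Tgt : ModuleCat.{u+1} A := prodM K M'
  let ρ2 : prodM M M' ⟶ Tgt :=
    ρ ≫ inlM K M' + sndM M M' ≫ inrM K M'
  have hρ2a : ρ2 ≫ fstM K M' = ρ := by
    change (ρ ≫ inlM K M' + sndM M M' ≫ inrM K M') ≫ _ = _
    rw [Preadditive.add_comp, Category.assoc, Category.assoc, inl_fst, inr_fst, Category.comp_id,
      comp_zero, add_zero]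
  have hρ2b : ρ2 ≫ sndM K M' = sndM M M' := by
    change (ρ ≫ inlM K M' + sndM M M' ≫ inrM K M') ≫ _ = _
    rw [Preadditive.add_comp, Category.assoc, Category.assoc, inl_snd, inr_snd, Category.comp_id,
      comp_zero, zero_add]
  have hker : IsKer ρ2 (kernel.ι a ≫ d) := by
    refine ⟨?_, ?_, ?_⟩
    · intro B x y hxy
      rw [comp_app_apply, comp_app_apply] at hxy
      have h1 := hdinj B hxy
      exact PresheafOfModules.injective_of_mono (kernel.ι a) _ h1
    · apply hom_ext'
      intro B x
      rw [zero_app_apply]
      apply eq_zero_of_fst_snd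
      · rw [← comp_app_apply, Category.assoc, Category.assoc, ← Functor.map_comp, hρ2a, hρ0,
          comp_zero]
        rfl
      · rw [← comp_app_apply, Category.assoc, Category.assoc, ← Functor.map_comp, hρ2b, hd2,
          ← Category.assoc, kernel.condition, zero_comp]
        rfl
    · intro B y hy
      have hy1 : ((underline A).map ρ).app (pt B) y = 0 := by
        rw [← hρ2a, Functor.map_comp, comp_app_apply, hy, app_zero]
      have hy2 : ((underline A).map (sndM M M')).app (pt B) y = 0 := by
        rw [← hρ2b, Functor.map_comp, comp_app_apply, hy, app_zero]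
      obtain ⟨x, hx⟩ := hρex B y hy1
      have hax : a.app (pt B) x = 0 := by
        apply hi'.inj B
        rw [← comp_app_apply, ← hd2, comp_app_apply, hx, hy2, app_zero]
      obtain ⟨x', hx'⟩ := ker_exact a B x hax
      refine ⟨x', ?_⟩
      rw [comp_app_apply, hx', hx]
  exact hker.adequate

end

end Groth.Agent.Lib.AdeqH3
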