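import Mathlib
import Groth.Prelude.Def_Adeq
import Groth.Agent.Lib.AdeqBasic_helper3

/-!
# Dual numbers and the tangent decomposition for module-valued functors (helper3)
-/

set_option autoImplicit false
universe u
open CategoryTheory Limits TensorProduct Adeq
namespace Groth.Agent.Lib.AdeqH3
noncomputable section
variable {A : Type u} [CommRing A]

/-- dual numbers in two variables -/
abbrev E2 (B : Alg A) : Alg A := algOf A (TrivSqZeroExt B (B × B))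


/-- inclusion of constants -/
def ι2 (B : Alg A) : B ⟶ E2 B := CommAlgCat.ofHom (TrivSqZeroExt.inlAlgHom A B (B × B))

def ε₁ (B : Alg A) : E2 B := (TrivSqZeroExt.inr ((1 : B), (0 : B)) : TrivSqZeroExt B (B × B))
def ε₂ (B : Alg A) : E2 B := (TrivSqZeroExt.inr ((0 : B), (1 : B)) : TrivSqZeroExt B (B × B))

/-- the decomposition map -/
def Φ (F : MVF A) (B : Alg A) (u v₁ v₂ : F.obj (pt B)) : F.obj (pt (E2 B)) :=
  mp F (ι2 B) u + ε₁ B • mp F (ι2 B) v₁ + ε₂ B • mp F (ι2 B) v₂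

lemma Φ_add (F : MVF A) (B : Alg A) (u v₁ v₂ u' v₁' v₂' : F.obj (pt B)) :
    Φ F B (u + u') (v₁ + v₁') (v₂ + v₂') = Φ F B u v₁ v₂ + Φ F B u' v₁' v₂' := by
  unfold Φ
  rw [mp_add, mp_add, mp_add, smul_add, smul_add]
  abel

lemma Φ_zero (F : MVF A) (B : Alg A) : Φ F B 0 0 0 = 0 := by
  unfold Φ
  rw [mp_zero, smul_zero, smul_zero, add_zero, add_zero]

lemma Φ_sub (F : MVF A) (B : Alg A) (u v₁ v₂ u' v₁' v₂' : F.obj (pt B)) :
    Φ F B (u - u') (v₁ - v₁') (v₂ - v₂') = Φ F B u v₁ v₂ - Φ F B u' v₁' v₂' := by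
  unfold Φ
  rw [mp_sub, mp_sub, mp_sub, smul_sub, smul_sub]
  abel

lemma Φ_natural {F G : MVF A} (θ : F ⟶ G) (B : Alg A) (u v₁ v₂ : F.obj (pt B)) :
    θ.app (pt (E2 B)) (Φ F B u v₁ v₂) =
      Φ G B (θ.app (pt B) u) (θ.app (pt B) v₁) (θ.app (pt B) v₂) := by
  unfold Φ
  rw [app_add, app_add, app_smul, app_smul, naturality, naturality, naturality]

/-- endomorphism of the dual numbers induced by a linear map -/
def mT (B : Alg A) (T : (B × B) →ₗ[B] (B × B)) : E2 B ⟶ E2 B :=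
  CommAlgCat.ofHom ((TrivSqZeroExt.map T).restrictScalars A)

lemma ι2_mT (B : Alg A) (T : (B × B) →ₗ[B] (B × B)) : ι2 B ≫ mT B T = ι2 B := by
  refine CommAlgCat.hom_ext (AlgHom.ext fun x => ?_)
  change TrivSqZeroExt.map T (TrivSqZeroExt.inl x) = TrivSqZeroExt.inl x
  rw [TrivSqZeroExt.map_inl]

lemma ι2_hom_apply (B : Alg A) (b : B) : (ι2 B).hom b = (TrivSqZeroExt.inl b : TrivSqZeroExt B (B × B)) := rfl

lemma inr_eq (B : Alg A) (a c : B) :
    (TrivSqZeroExt.inr (a, c) : TrivSqZeroExt B (B × B)) =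
      (ι2 B).hom a * ε₁ B + (ι2 B).hom c * ε₂ B := by
  rw [ι2_hom_apply, ι2_hom_apply]
  unfold ε₁ ε₂
  rw [TrivSqZeroExt.inl_mul_inr, TrivSqZeroExt.inl_mul_inr, ← TrivSqZeroExt.inr_add]
  simp

lemma Φ_mT (F : MVF A) (B : Alg A) (T : (B × B) →ₗ[B] (B × B)) (u v₁ v₂ : F.obj (pt B)) :
    mp F (mT B T) (Φ F B u v₁ v₂) =
      Φ F B u ((T (1, 0)).1 • v₁ + (T (0, 1)).1 • v₂) ((T (1, 0)).2 • v₁ + (T (0, 1)).2 • v₂) := by
  unfold Φ
  rw [mp_add, mp_add, mp_smul, mp_smul, ← mp_comp, ← mp_comp, ← mp_comp, ι2_mT]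
  have h1 : (mT B T).hom (ε₁ B) = (ι2 B).hom (T (1, 0)).1 * ε₁ B + (ι2 B).hom (T (1, 0)).2 * ε₂ B := by
    rw [← inr_eq]
    change TrivSqZeroExt.map T (TrivSqZeroExt.inr (1, 0)) = _
    rw [TrivSqZeroExt.map_inr]
  have h2 : (mT B T).hom (ε₂ B) = (ι2 B).hom (T (0, 1)).1 * ε₁ B + (ι2 B).hom (T (0, 1)).2 * ε₂ B := by
    rw [← inr_eq]
    change TrivSqZeroExt.map T (TrivSqZeroExt.inr (0, 1)) = _
    rw [TrivSqZeroExt.map_inr]
  rw [h1, h2, mp_add, mp_add, mp_smul, mp_smul, mp_smul, mp_smul]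
  simp only [add_smul, smul_add, mul_smul]
  rw [smul_comm ((ι2 B).hom (T (1, 0)).1) (ε₁ B), smul_comm ((ι2 B).hom (T (0, 1)).1) (ε₁ B),
    smul_comm ((ι2 B).hom (T (1, 0)).2) (ε₂ B), smul_comm ((ι2 B).hom (T (0, 1)).2) (ε₂ B)]
  abel


/-- functoriality of the dual numbers -/
def E2alg {B B' : Alg A} (f : B ⟶ B') :
    TrivSqZeroExt B (B × B) →ₐ[A] TrivSqZeroExt B' (B' × B') :=
  TrivSqZeroExt.lift ((TrivSqZeroExt.inlAlgHom A B' (B' × B')).comp f.hom)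
    (((TrivSqZeroExt.inrHom B' (B' × B')).restrictScalars A) ∘ₗ
      (f.hom.toLinearMap.prodMap f.hom.toLinearMap))
    (fun x y => by simp [TrivSqZeroExt.inr_mul_inr])
    (fun r x => by
      simp only [LinearMap.coe_comp, LinearMap.coe_restrictScalars, Function.comp_apply,
        LinearMap.prodMap_apply, AlgHom.toLinearMap_apply, TrivSqZeroExt.inrHom_apply,
        AlgHom.coe_comp, TrivSqZeroExt.inlAlgHom_apply]
      rw [TrivSqZeroExt.inl_mul_inr]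
      congr 1
      simp [Prod.smul_def, map_mul])
    (fun r x => by
      simp only [LinearMap.coe_comp, LinearMap.coe_restrictScalars, Function.comp_apply,
        LinearMap.prodMap_apply, AlgHom.toLinearMap_apply, TrivSqZeroExt.inrHom_apply,
        AlgHom.coe_comp, TrivSqZeroExt.inlAlgHom_apply]
      rw [TrivSqZeroExt.inr_mul_inl]
      congr 1
      simp [Prod.smul_def, map_mul, mul_comm])

def E2map {B B' : Alg A} (f : B ⟶ B') : E2 B ⟶ E2 B' := CommAlgCat.ofHom (E2alg f)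

lemma E2map_inl {B B' : Alg A} (f : B ⟶ B') (b : B) :
    (E2map f).hom (TrivSqZeroExt.inl b : TrivSqZeroExt B (B × B)) =
      (TrivSqZeroExt.inl (f.hom b) : TrivSqZeroExt B' (B' × B')) := by
  change E2alg f _ = _
  unfold E2alg
  rw [TrivSqZeroExt.lift_apply_inl]
  rfl

lemma E2map_inr {B B' : Alg A} (f : B ⟶ B') (x : B × B) :
    (E2map f).hom (TrivSqZeroExt.inr x : TrivSqZeroExt B (B × B)) =
      (TrivSqZeroExt.inr (f.hom x.1, f.hom x.2) : TrivSqZeroExt B' (B' × B')) := by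
  change E2alg f _ = _
  unfold E2alg
  rw [TrivSqZeroExt.lift_apply_inr]
  rfl

lemma ι2_E2map {B B' : Alg A} (f : B ⟶ B') : ι2 B ≫ E2map f = f ≫ ι2 B' := by
  refine CommAlgCat.hom_ext (AlgHom.ext fun x => ?_)
  exact E2map_inl f x

lemma Φ_E2map (F : MVF A) {B B' : Alg A} (f : B ⟶ B') (u v₁ v₂ : F.obj (pt B)) :
    mp F (E2map f) (Φ F B u v₁ v₂) = Φ F B' (mp F f u) (mp F f v₁) (mp F f v₂) := by
  unfold Φ
  rw [mp_add, mp_add, mp_smul, mp_smul, ← mp_comp, ← mp_comp, ← mp_comp, ι2_E2map, mp_comp,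
    mp_comp, mp_comp]
  have h1 : (E2map f).hom (ε₁ B) = ε₁ B' := by
    unfold ε₁
    rw [E2map_inr]
    simp
  have h2 : (E2map f).hom (ε₂ B) = ε₂ B' := by
    unfold ε₂
    rw [E2map_inr]
    simp
  rw [h1, h2]

/-- the tangent decomposition property -/
structure Dual (F : MVF A) : Prop where
  inj : ∀ (B : Alg A) (u v₁ v₂ : F.obj (pt B)), Φ F B u v₁ v₂ = 0 → u = 0 ∧ v₁ = 0 ∧ v₂ = 0
  surj : ∀ (B : Alg A) (z : F.obj (pt (E2 B))), ∃ u v₁ v₂, Φ F B u v₁ v₂ = z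

lemma Dual.inj' {F : MVF A} (h : Dual F) (B : Alg A) {u v₁ v₂ u' v₁' v₂' : F.obj (pt B)}
    (e : Φ F B u v₁ v₂ = Φ F B u' v₁' v₂') : u = u' ∧ v₁ = v₁' ∧ v₂ = v₂' := by
  have := h.inj B (u - u') (v₁ - v₁') (v₂ - v₂') (by rw [Φ_sub, e, sub_self])
  exact ⟨sub_eq_zero.1 this.1, sub_eq_zero.1 this.2.1, sub_eq_zero.1 this.2.2⟩

section underlineDual

variable (M : ModuleCat.{u+1} A) (B : Alg A)

lemma toT_Φ (u v₁ v₂ : ((underline A).obj M).obj (pt B)) :
    toT (Φ ((underline A).obj M) B u v₁ v₂) =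
      (ι2 B).hom.toLinearMap.rTensor M (toT u) +
      ε₁ B • (ι2 B).hom.toLinearMap.rTensor M (toT v₁) +
      ε₂ B • (ι2 B).hom.toLinearMap.rTensor M (toT v₂) := rfl

lemma rT_smul_ι (p : TrivSqZeroExt B (B × B) →ₗ[A] B) (ε : TrivSqZeroExt B (B × B)) (r : B)
    (hp : ∀ b : B, p (ε * TrivSqZeroExt.inl b) = r * b) (t : B ⊗[A] M) :
    p.rTensor M (ε • (ι2 B).hom.toLinearMap.rTensor M t) = r • t := by
  induction t using TensorProduct.induction_on with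
  | zero => simp
  | tmul b x =>
    rw [LinearMap.rTensor_tmul, TensorProduct.smul_tmul', LinearMap.rTensor_tmul,
      TensorProduct.smul_tmul']
    congr 1
    exact hp b
  | add y z hy hz =>
    rw [map_add, smul_add, map_add, hy, hz, smul_add]

/-- coordinate functionals -/
def p0 : TrivSqZeroExt B (B × B) →ₗ[A] B := (TrivSqZeroExt.fstHom A B (B × B)).toLinearMap
def p1 : TrivSqZeroExt B (B × B) →ₗ[A] B :=
  ((LinearMap.fst B B B).restrictScalars A) ∘ₗ ((TrivSqZeroExt.sndHom B (B × B)).restrictScalars A)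
def p2 : TrivSqZeroExt B (B × B) →ₗ[A] B :=
  ((LinearMap.snd B B B).restrictScalars A) ∘ₗ ((TrivSqZeroExt.sndHom B (B × B)).restrictScalars A)

lemma coords (t₀ t₁ t₂ : B ⊗[A] M) :
    let z := (ι2 B).hom.toLinearMap.rTensor M t₀ +
      ε₁ B • (ι2 B).hom.toLinearMap.rTensor M t₁ +
      ε₂ B • (ι2 B).hom.toLinearMap.rTensor M t₂
    (p0 B).rTensor M z = t₀ ∧ (p1 B).rTensor M z = t₁ ∧ (p2 B).rTensor M z = t₂ := by
  intro z
  have e0 : (ι2 B).hom.toLinearMap.rTensor M t₀ =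
      (1 : TrivSqZeroExt B (B × B)) • (ι2 B).hom.toLinearMap.rTensor M t₀ := (one_smul _ _).symm
  refine ⟨?_, ?_, ?_⟩
  · change (p0 B).rTensor M (_ + _ + _) = _
    rw [map_add, map_add, e0, rT_smul_ι M B (p0 B) 1 1, rT_smul_ι M B (p0 B) (ε₁ B) 0,
      rT_smul_ι M B (p0 B) (ε₂ B) 0]
    · simp
    · intro b; simp [p0, ε₂]
    · intro b; simp [p0, ε₁]
    · intro b; simp [p0]
  · change (p1 B).rTensor M (_ + _ + _) = _
    rw [map_add, map_add, e0, rT_smul_ι M B (p1 B) 1 0, rT_smul_ι M B (p1 B) (ε₁ B) 1,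
      rT_smul_ι M B (p1 B) (ε₂ B) 0]
    · simp
    · intro b; simp [p1, ε₂]
    · intro b; simp [p1, ε₁]
    · intro b; simp [p1]
  · change (p2 B).rTensor M (_ + _ + _) = _
    rw [map_add, map_add, e0, rT_smul_ι M B (p2 B) 1 0, rT_smul_ι M B (p2 B) (ε₁ B) 0,
      rT_smul_ι M B (p2 B) (ε₂ B) 1]
    · simp
    · intro b; simp [p2, ε₂]
    · intro b; simp [p2, ε₁]
    · intro b; simp [p2]

theorem dual_underline : Dual ((underline A).obj M) where
  inj B u v₁ v₂ h := by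
    have h' := congrArg toT h
    rw [toT_Φ, toT_zero] at h'
    obtain ⟨c0, c1, c2⟩ := coords M B (toT u) (toT v₁) (toT v₂)
    simp only at c0 c1 c2
    rw [h', map_zero] at c0 c1 c2
    exact ⟨toT_injective (c0.symm.trans toT_zero.symm), toT_injective (c1.symm.trans toT_zero.symm),
      toT_injective (c2.symm.trans toT_zero.symm)⟩
  surj B z := by
    suffices h : ∀ t : TrivSqZeroExt B (B × B) ⊗[A] M, ∃ u v₁ v₂ : ((underline A).obj M).obj (pt B),
        toT (Φ ((underline A).obj M) B u v₁ v₂) = t by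
      obtain ⟨u, v₁, v₂, h⟩ := h (toT z)
      exact ⟨u, v₁, v₂, toT_injective h⟩
    intro t
    induction t using TensorProduct.induction_on with
    | zero => exact ⟨0, 0, 0, by rw [Φ_zero]; rfl⟩
    | tmul w x =>
      refine ⟨ofT (w.fst ⊗ₜ[A] x), ofT (w.snd.1 ⊗ₜ[A] x), ofT (w.snd.2 ⊗ₜ[A] x), ?_⟩
      rw [toT_Φ, toT_ofT, toT_ofT, toT_ofT, LinearMap.rTensor_tmul, LinearMap.rTensor_tmul,
        LinearMap.rTensor_tmul, TensorProduct.smul_tmul', TensorProduct.smul_tmul',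
        ← TensorProduct.add_tmul, ← TensorProduct.add_tmul]
      congr 1
      simp only [AlgHom.toLinearMap_apply, smul_eq_mul]
      rw [mul_comm (ε₁ B), mul_comm (ε₂ B), add_assoc, ← inr_eq, ι2_hom_apply]
      exact TrivSqZeroExt.inl_fst_add_inr_snd_eq w
    | add y z hy hz =>
      obtain ⟨u, v₁, v₂, h⟩ := hy
      obtain ⟨u', v₁', v₂', h'⟩ := hz
      exact ⟨u + u', v₁ + v₁', v₂ + v₂', by rw [Φ_add, toT_add, h, h']⟩

end underlineDual


theorem dual_of_ker {F F' F'' : MVF A} (i : F ⟶ F') (φ : F' ⟶ F'')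
    (hinj : ∀ B : Alg A, Function.Injective (i.app (pt B)))
    (hzero : i ≫ φ = 0)
    (hexact : ∀ (B : Alg A) (x : F'.obj (pt B)), φ.app (pt B) x = 0 → ∃ y, i.app (pt B) y = x)
    (h' : Dual F') (h'' : Dual F'') : Dual F where
  inj B u v₁ v₂ h := by
    have := h'.inj B (i.app (pt B) u) (i.app (pt B) v₁) (i.app (pt B) v₂)
      (by rw [← Φ_natural, h, app_zero])
    exact ⟨hinj B (this.1.trans (app_zero i B).symm), hinj B (this.2.1.trans (app_zero i B).symm),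
      hinj B (this.2.2.trans (app_zero i B).symm)⟩
  surj B z := by
    obtain ⟨u', v₁', v₂', h⟩ := h'.surj B (i.app _ z)
    have hφ : Φ F'' B (φ.app (pt B) u') (φ.app (pt B) v₁') (φ.app (pt B) v₂') = 0 := by
      rw [← Φ_natural, h, ← comp_app_apply, hzero]
      rfl
    obtain ⟨hu, hv1, hv2⟩ := h''.inj B _ _ _ hφ
    obtain ⟨u, rfl⟩ := hexact B u' hu
    obtain ⟨v₁, rfl⟩ := hexact B v₁' hv1
    obtain ⟨v₂, rfl⟩ := hexact B v₂' hv2
    refine ⟨u, v₁, v₂, hinj (E2 B) ?_⟩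
    rw [Φ_natural, h]

theorem dual_of_isKer {F : MVF A} {M N : ModuleCat.{u+1} A} {φ : M ⟶ N}
    {i : F ⟶ (underline A).obj M} (hi : IsKer φ i) : Dual F :=
  dual_of_ker i ((underline A).map φ) hi.inj hi.zero hi.exact (dual_underline M) (dual_underline N)

theorem dual_of_adequate {F : MVF A} (h : Adeq.adequate A F) : Dual F := by
  obtain ⟨M, N, φ, i, hi⟩ := (adequate_iff F).1 h
  exact dual_of_isKer hi

theorem dual_of_ext {F' F F'' : MVF A} (f : F' ⟶ F) (g : F ⟶ F'')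
    (hf : ∀ B : Alg A, Function.Injective (f.app (pt B)))
    (hg : ∀ B : Alg A, Function.Surjective (g.app (pt B)))
    (hzero : f ≫ g = 0)
    (hexact : ∀ (B : Alg A) (x : F.obj (pt B)), g.app (pt B) x = 0 → ∃ y, f.app (pt B) y = x)
    (h' : Dual F') (h'' : Dual F'') : Dual F where
  inj B u v₁ v₂ h := by
    have h1 := h''.inj B (g.app (pt B) u) (g.app (pt B) v₁) (g.app (pt B) v₂)
      (by rw [← Φ_natural, h, app_zero])
    obtain ⟨u', rfl⟩ := hexact B u h1.1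
    obtain ⟨v₁', rfl⟩ := hexact B v₁ h1.2.1
    obtain ⟨v₂', rfl⟩ := hexact B v₂ h1.2.2
    have h2 := h'.inj B u' v₁' v₂' (by
      apply hf (E2 B)
      rw [Φ_natural, h, app_zero])
    rw [h2.1, h2.2.1, h2.2.2, app_zero]
    exact ⟨rfl, rfl, rfl⟩
  surj B z := by
    obtain ⟨w, w₁, w₂, hw⟩ := h''.surj B (g.app _ z)
    obtain ⟨u, rfl⟩ := hg B w
    obtain ⟨v₁, rfl⟩ := hg B w₁
    obtain ⟨v₂, rfl⟩ := hg B w₂
    have hz : g.app (pt (E2 B)) (z - Φ F B u v₁ v₂) = 0 := by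
      rw [app_sub, Φ_natural, hw, sub_self]
    obtain ⟨y, hy⟩ := hexact (E2 B) _ hz
    obtain ⟨a, a₁, a₂, ha⟩ := h'.surj B y
    refine ⟨u + f.app (pt B) a, v₁ + f.app (pt B) a₁, v₂ + f.app (pt B) a₂, ?_⟩
    rw [Φ_add, ← Φ_natural, ha, hy]
    abel

end
end Groth.Agent.Lib.AdeqH3
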