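import Mathlib
import Groth.Prelude.Def_Adeq
import Groth.Agent.Lib.AdeqBasic_helper3
import Groth.Agent.Lib.AdeqExt_helper3
import Groth.Agent.Lib.AdeqDual_helper3

/-!
# Lifting maps from linearly adequate functors along extensions by `underline M` (helper3)
-/

set_option autoImplicit false
universe u

open CategoryTheory Limits TensorProduct Adeq

namespace Groth.Agent.Lib.AdeqH3

noncomputable section

variable {A : Type u} [CommRing A]

/-- build a morphism of module-valued functors from sectionwise data -/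
def mkHom {F G : MVF A} (s : ∀ B : Alg A, F.obj (pt B) → G.obj (pt B))
    (hadd : ∀ (B : Alg A) (x y : F.obj (pt B)), s B (x + y) = s B x + s B y)
    (hsmul : ∀ (B : Alg A) (b : B) (x : F.obj (pt B)), s B (b • x) = b • s B x)
    (hnat : ∀ {B B' : Alg A} (g : B ⟶ B') (x : F.obj (pt B)), s B' (mp F g x) = mp G g (s B x)) :
    F ⟶ G where
  app X := ModuleCat.ofHom
    { toFun := s X.unop.unop
      map_add' := hadd _
      map_smul' := hsmul _ }
  naturality {X Y} f := by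
    ext x
    exact hnat f.unop.unop x

lemma mkHom_app {F G : MVF A} (s : ∀ B : Alg A, F.obj (pt B) → G.obj (pt B))
    (hadd : ∀ (B : Alg A) (x y : F.obj (pt B)), s B (x + y) = s B x + s B y)
    (hsmul : ∀ (B : Alg A) (b : B) (x : F.obj (pt B)), s B (b • x) = b • s B x)
    (hnat : ∀ {B B' : Alg A} (g : B ⟶ B') (x : F.obj (pt B)), s B' (mp F g x) = mp G g (s B x))
    (B : Alg A) (x : F.obj (pt B)) : (mkHom s hadd hsmul hnat).app (pt B) x = s B x := rfl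

section PureAlgebra2

variable {P P' : Type (u+1)} [AddCommGroup P] [Module A P] [AddCommGroup P'] [Module A P']
  {n m : ℕ} (e : Module.Basis (Fin n) A P) (e' : Module.Basis (Fin m) A P') (φ₀ : P →ₗ[A] P')

lemma T_add (B : Type u) [CommRing B] [Algebra A B] (c d : Fin n → B) :
    T e B c + T e B d = T e B (c + d) := by
  unfold T
  rw [← Finset.sum_add_distrib]
  refine Finset.sum_congr rfl fun i _ => ?_
  rw [Pi.add_apply, TensorProduct.add_tmul]

lemma coordB_T (B : Type u) [CommRing B] [Algebra A B] (c : Fin n → B) (k : Fin n) :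
    coordB e B k (T e B c) = c k := by
  unfold T
  exact coordB_sum e B c k

variable {B : Type u} [CommRing B] [Algebra A B]

/-- algebra map `A ⊕ Q → B[ε₁, ε₂]` from a pair of linear maps -/
def kap2 (h₁ h₂ : Qm e e' φ₀ →ₗ[A] B) : Calg e e' φ₀ →ₐ[A] TrivSqZeroExt B (B × B) :=
  TrivSqZeroExt.liftEquivOfComm
    ⟨((TrivSqZeroExt.inrHom B (B × B)).restrictScalars A) ∘ₗ (h₁.prod h₂), fun x y => by
      simp [TrivSqZeroExt.inr_mul_inr]⟩

lemma kap2_inr (h₁ h₂ : Qm e e' φ₀ →ₗ[A] B) (q : Qm e e' φ₀) :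
    kap2 e e' φ₀ h₁ h₂ (TrivSqZeroExt.inr q) = TrivSqZeroExt.inr (h₁ q, h₂ q) := by
  unfold kap2
  rw [TrivSqZeroExt.liftEquivOfComm_apply, TrivSqZeroExt.lift_apply_inr]
  rfl

lemma map_comp_kap2 (T : (B × B) →ₗ[B] (B × B)) (h₁ h₂ g₁ g₂ : Qm e e' φ₀ →ₗ[A] B)
    (hT : ∀ q, T (h₁ q, h₂ q) = (g₁ q, g₂ q)) :
    ((TrivSqZeroExt.map T).restrictScalars A).comp (kap2 e e' φ₀ h₁ h₂) = kap2 e e' φ₀ g₁ g₂ := by
  apply TrivSqZeroExt.algHom_ext
  intro q
  rw [AlgHom.comp_apply, kap2_inr, kap2_inr, AlgHom.restrictScalars_apply, TrivSqZeroExt.map_inr, hT]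

end PureAlgebra2

section Lift

variable {L : MVF A} {P P' : ModuleCat.{u+1} A} {n m : ℕ}
  (e : Module.Basis (Fin n) A P) (e' : Module.Basis (Fin m) A P')
  (φ₀ : P ⟶ P') (i : L ⟶ (underline A).obj P) (hi : IsKer φ₀ i)

/-- the thickening as an object -/
abbrev Cobj : Alg A := algOf A (Calg e e' φ₀.hom)

/-- the classifying maps as morphisms of algebras -/
def κ2 (B : Alg A) (h₁ h₂ : Qm e e' φ₀.hom →ₗ[A] B) : Cobj e e' φ₀ ⟶ E2 B :=
  CommAlgCat.ofHom (kap2 e e' φ₀.hom h₁ h₂)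

lemma κ2_mT (B : Alg A) (T : (B × B) →ₗ[B] (B × B)) (h₁ h₂ g₁ g₂ : Qm e e' φ₀.hom →ₗ[A] B)
    (hT : ∀ q, T (h₁ q, h₂ q) = (g₁ q, g₂ q)) :
    κ2 e e' φ₀ B h₁ h₂ ≫ mT B T = κ2 e e' φ₀ B g₁ g₂ := by
  refine CommAlgCat.hom_ext ?_
  exact map_comp_kap2 e e' φ₀.hom T h₁ h₂ g₁ g₂ hT

lemma κ2_E2map {B B' : Alg A} (f : B ⟶ B') (h₁ h₂ : Qm e e' φ₀.hom →ₗ[A] B) :
    κ2 e e' φ₀ B h₁ h₂ ≫ E2map f =
      κ2 e e' φ₀ B' (f.hom.toLinearMap ∘ₗ h₁) (f.hom.toLinearMap ∘ₗ h₂) := by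
  refine CommAlgCat.hom_ext ?_
  apply TrivSqZeroExt.algHom_ext
  intro q
  change (E2map f).hom (kap2 e e' φ₀.hom h₁ h₂ (TrivSqZeroExt.inr q)) =
    kap2 e e' φ₀.hom _ _ (TrivSqZeroExt.inr q)
  rw [kap2_inr, kap2_inr, E2map_inr]
  rfl

/-- coordinates of a section of `L` -/
def cOf (B : Alg A) (x : L.obj (pt B)) : Fin n → B :=
  fun k => coordB e B k (toT (i.app (pt B) x))

lemma T_cOf (B : Alg A) (x : L.obj (pt B)) : T e B (cOf e i B x) = toT (i.app (pt B) x) := by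
  obtain ⟨c, hc⟩ := T_surjective e B (toT (i.app (pt B) x))
  have : cOf e i B x = c := by
    funext k
    unfold cOf
    rw [← hc, coordB_T]
  rw [this, hc]

lemma cOf_eq_of_T (B : Alg A) (x : L.obj (pt B)) (c : Fin n → B)
    (hc : T e B c = toT (i.app (pt B) x)) : cOf e i B x = c := by
  funext k
  unfold cOf
  rw [← hc, coordB_T]

include hi in
lemma cOf_rel (B : Alg A) (x : L.obj (pt B)) (j : Fin m) :
    ∑ k, coef e e' φ₀.hom k j • cOf e i B x k = 0 := by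
  apply rel_of_baseChange_T_eq_zero e e' φ₀.hom B
  rw [T_cOf, ← toT_app, hi.zero_apply]
  rfl

lemma cOf_add (B : Alg A) (x y : L.obj (pt B)) :
    cOf e i B (x + y) = cOf e i B x + cOf e i B y := by
  apply cOf_eq_of_T
  rw [← T_add, T_cOf, T_cOf, app_add, toT_add]

lemma cOf_zero (B : Alg A) : cOf e i B (0 : L.obj (pt B)) = 0 := by
  apply cOf_eq_of_T
  rw [app_zero, toT_zero]
  unfold T
  simp

lemma cOf_smul (B : Alg A) (b : B) (x : L.obj (pt B)) :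
    cOf e i B (b • x) = fun k => b * cOf e i B x k := by
  apply cOf_eq_of_T
  rw [← smul_T, T_cOf, app_smul, toT_smul]

lemma cOf_mp {B B' : Alg A} (f : B ⟶ B') (x : L.obj (pt B)) :
    cOf e i B' (mp L f x) = fun k => f.hom (cOf e i B x k) := by
  apply cOf_eq_of_T
  rw [naturality, toT_mp, ← T_cOf e i B x, T_rTensor]
  rfl

/-- the linear map `Q → B` attached to a section of `L` -/
def hx (B : Alg A) (x : L.obj (pt B)) : Qm e e' φ₀.hom →ₗ[A] B :=
  hmap e e' φ₀.hom (cOf e i B x) (cOf_rel e e' φ₀ i hi B x)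

lemma hx_qmk (B : Alg A) (x : L.obj (pt B)) (v : Fin n → A) :
    hx e e' φ₀ i hi B x (qmk e e' φ₀.hom v) = ∑ k, v k • cOf e i B x k :=
  hmap_qmk e e' φ₀.hom _ _ v

lemma hx_add (B : Alg A) (x y : L.obj (pt B)) (q : Qm e e' φ₀.hom) :
    hx e e' φ₀ i hi B (x + y) q = hx e e' φ₀ i hi B x q + hx e e' φ₀ i hi B y q := by
  obtain ⟨v, rfl⟩ := qmk_surjective e e' φ₀.hom q
  rw [hx_qmk, hx_qmk, hx_qmk, cOf_add, ← Finset.sum_add_distrib]
  refine Finset.sum_congr rfl fun k _ => ?_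
  rw [Pi.add_apply, smul_add]

lemma hx_zero (B : Alg A) : hx e e' φ₀ i hi B (0 : L.obj (pt B)) = 0 := by
  ext q
  obtain ⟨v, rfl⟩ := qmk_surjective e e' φ₀.hom q
  rw [hx_qmk, cOf_zero]
  simp

lemma hx_smul (B : Alg A) (b : B) (x : L.obj (pt B)) (q : Qm e e' φ₀.hom) :
    hx e e' φ₀ i hi B (b • x) q = b * hx e e' φ₀ i hi B x q := by
  obtain ⟨v, rfl⟩ := qmk_surjective e e' φ₀.hom q
  rw [hx_qmk, hx_qmk, cOf_smul, Finset.mul_sum]
  refine Finset.sum_congr rfl fun k _ => ?_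
  rw [mul_smul_comm]

lemma hx_mp {B B' : Alg A} (f : B ⟶ B') (x : L.obj (pt B)) (q : Qm e e' φ₀.hom) :
    hx e e' φ₀ i hi B' (mp L f x) q = f.hom (hx e e' φ₀ i hi B x q) := by
  obtain ⟨v, rfl⟩ := qmk_surjective e e' φ₀.hom q
  rw [hx_qmk, hx_qmk, cOf_mp, map_sum]
  refine Finset.sum_congr rfl fun k _ => ?_
  rw [map_smul]

lemma hx_single (B : Alg A) (x : L.obj (pt B)) (k : Fin n) :
    hx e e' φ₀ i hi B x (qmk e e' φ₀.hom (Pi.single k 1)) = cOf e i B x k :=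
  hmap_single e e' φ₀.hom _ _ k

include hi in
lemma exists_x0 : ∃ x0 : L.obj (pt (Cobj e e' φ₀)),
    i.app (pt (Cobj e e' φ₀)) x0 = ofT (T e (Calg e e' φ₀.hom) (c0 e e' φ₀.hom)) := by
  have h0 : ((underline A).map φ₀).app (pt (Cobj e e' φ₀))
      (ofT (T e (Calg e e' φ₀.hom) (c0 e e' φ₀.hom))) = 0 := by
    apply toT_injective
    rw [toT_app, toT_ofT, toT_zero]
    exact baseChange_T_eq_zero_of_rel e e' φ₀.hom _ _ (c0_rel e e' φ₀.hom)
  exact hi.exact _ _ h0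

lemma key2 (x0 : L.obj (pt (Cobj e e' φ₀)))
    (hx0 : i.app (pt (Cobj e e' φ₀)) x0 = ofT (T e (Calg e e' φ₀.hom) (c0 e e' φ₀.hom)))
    (B : Alg A) (x y : L.obj (pt B)) :
    mp L (κ2 e e' φ₀ B (hx e e' φ₀ i hi B x) (hx e e' φ₀ i hi B y)) x0 =
      ε₁ B • mp L (ι2 B) x + ε₂ B • mp L (ι2 B) y := by
  apply hi.inj (E2 B)
  rw [naturality, app_add, app_smul, app_smul, naturality, naturality]
  apply toT_injective
  rw [toT_mp, toT_add, toT_smul, toT_smul, toT_mp, toT_mp, hx0, toT_ofT, ← T_cOf e i B x,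
    ← T_cOf e i B y]
  change (kap2 e e' φ₀.hom _ _).toLinearMap.rTensor P (T e _ (c0 e e' φ₀.hom)) =
    ε₁ B • ((ι2 B).hom.toLinearMap.rTensor P (T e B (cOf e i B x))) +
    ε₂ B • ((ι2 B).hom.toLinearMap.rTensor P (T e B (cOf e i B y)))
  rw [T_rTensor, T_rTensor, T_rTensor, smul_T, smul_T, T_add]
  congr 1
  funext k
  change kap2 e e' φ₀.hom _ _ (c0 e e' φ₀.hom k) =
    ε₁ B * (ι2 B).hom (cOf e i B x k) + ε₂ B * (ι2 B).hom (cOf e i B y k)
  unfold c0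
  rw [TrivSqZeroExt.inrHom_apply, kap2_inr, hx_single, hx_single, inr_eq, mul_comm (ε₁ B),
    mul_comm (ε₂ B)]

include e e' hi in
/-- Lifting lemma: a map from a linearly adequate functor to the quotient of an extension by a
functor satisfying the tangent decomposition lifts to the extension. -/
theorem exists_lift_core {Mu G H : MVF A} (f : Mu ⟶ G) (g : G ⟶ H)
    (hf : ∀ B : Alg A, Function.Injective (f.app (pt B)))
    (hg : ∀ B : Alg A, Function.Surjective (g.app (pt B)))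
    (hzero : f ≫ g = 0)
    (hexact : ∀ (B : Alg A) (x : G.obj (pt B)), g.app (pt B) x = 0 → ∃ y, f.app (pt B) y = x)
    (hMu : Dual Mu) (hH : Dual H) (ℓ : L ⟶ H) : ∃ s : L ⟶ G, s ≫ g = ℓ := by
  have hG : Dual G := dual_of_ext f g hf hg hzero hexact hMu hH
  obtain ⟨x0, hx0⟩ := exists_x0 e e' φ₀ i hi
  obtain ⟨γ, hγ⟩ := hg (Cobj e e' φ₀) (ℓ.app _ x0)
  -- abbreviations
  set hX := hx e e' φ₀ i hi with hXdef
  have hdec : ∀ (B : Alg A) (x : L.obj (pt B)), ∃ v₁ u v₂,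
      mp G (κ2 e e' φ₀ B (hX B x) 0) γ = Φ G B u v₁ v₂ := by
    intro B x
    obtain ⟨u, v₁, v₂, h⟩ := hG.surj B (mp G (κ2 e e' φ₀ B (hX B x) 0) γ)
    exact ⟨v₁, u, v₂, h.symm⟩
  choose sfun su sv hs using hdec
  have sfun_eq : ∀ (B : Alg A) (x : L.obj (pt B)) (u v₁ v₂ : G.obj (pt B)),
      mp G (κ2 e e' φ₀ B (hX B x) 0) γ = Φ G B u v₁ v₂ → sfun B x = v₁ :=
    fun B x u v₁ v₂ h => (hG.inj' B ((hs B x).symm.trans h)).2.1
  have transform : ∀ (B : Alg A) (h₁ h₂ g₁ g₂ : Qm e e' φ₀.hom →ₗ[A] B)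
      (T : (B × B) →ₗ[B] (B × B)) (_ : ∀ q, T (h₁ q, h₂ q) = (g₁ q, g₂ q))
      (a b c d : B) (_ : T (1, 0) = (a, c)) (_ : T (0, 1) = (b, d))
      (u v₁ v₂ : G.obj (pt B)) (_ : mp G (κ2 e e' φ₀ B h₁ h₂) γ = Φ G B u v₁ v₂),
      mp G (κ2 e e' φ₀ B g₁ g₂) γ = Φ G B u (a • v₁ + b • v₂) (c • v₁ + d • v₂) := by
    intro B h₁ h₂ g₁ g₂ T hT a b c d h10 h01 u v₁ v₂ hz
    rw [← κ2_mT e e' φ₀ B T h₁ h₂ g₁ g₂ hT, mp_comp, hz, Φ_mT, h10, h01]
  -- the main decomposition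
  have main : ∀ (B : Alg A) (x y : L.obj (pt B)), ∃ u,
      mp G (κ2 e e' φ₀ B (hX B x) (hX B y)) γ = Φ G B u (sfun B x) (sfun B y) := by
    intro B x y
    obtain ⟨u, v₁, v₂, h⟩ := hG.surj B (mp G (κ2 e e' φ₀ B (hX B x) (hX B y)) γ)
    have h1 := transform B (hX B x) (hX B y) (hX B x) 0
      (LinearMap.prod (LinearMap.fst B B B) 0) (fun q => rfl) 1 0 0 0 (by simp) (by simp)
      u v₁ v₂ h.symm
    have h2 := transform B (hX B x) (hX B y) (hX B y) 0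
      (LinearMap.prod (LinearMap.snd B B B) 0) (fun q => rfl) 0 1 0 0 (by simp) (by simp)
      u v₁ v₂ h.symm
    have e1 := sfun_eq B x _ _ _ h1
    have e2 := sfun_eq B y _ _ _ h2
    rw [one_smul, zero_smul, add_zero] at e1
    rw [one_smul, zero_smul, zero_add] at e2
    exact ⟨u, by rw [e1, e2]; exact h.symm⟩
  have hadd : ∀ (B : Alg A) (x y : L.obj (pt B)), sfun B (x + y) = sfun B x + sfun B y := by
    intro B x y
    obtain ⟨u, h⟩ := main B x y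
    have h1 := transform B (hX B x) (hX B y) (hX B (x + y)) 0
      (LinearMap.prod (LinearMap.fst B B B + LinearMap.snd B B B) 0)
      (fun q => by
        change (hX B x q + hX B y q, (0 : B)) = (hX B (x + y) q, (0 : B))
        rw [hXdef, hx_add]) 1 1 0 0 (by simp) (by simp) u _ _ h
    have e1 := sfun_eq B (x + y) _ _ _ h1
    rw [one_smul, one_smul] at e1
    exact e1
  have hsmul : ∀ (B : Alg A) (b : B) (x : L.obj (pt B)), sfun B (b • x) = b • sfun B x := by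
    intro B b x
    have h1 := transform B (hX B x) 0 (hX B (b • x)) 0
      (LinearMap.prod (b • LinearMap.fst B B B) 0)
      (fun q => by
        change (b • hX B x q, (0 : B)) = (hX B (b • x) q, (0 : B))
        rw [hXdef, hx_smul, smul_eq_mul]) b 0 0 0 (by simp) (by simp) _ _ _ (hs B x)
    have e1 := sfun_eq B (b • x) _ _ _ h1
    rw [zero_smul, add_zero] at e1
    exact e1
  have hnat : ∀ {B B' : Alg A} (r : B ⟶ B') (x : L.obj (pt B)),
      sfun B' (mp L r x) = mp G r (sfun B x) := by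
    intro B B' r x
    apply sfun_eq B' (mp L r x) (mp G r (su B x)) _ (mp G r (sv B x))
    rw [← Φ_E2map, ← hs B x, ← mp_comp, κ2_E2map]
    congr 2
    · ext q
      rw [hXdef, hx_mp]
      rfl
    · simp
  refine ⟨mkHom sfun hadd hsmul hnat, ?_⟩
  apply hom_ext'
  intro B x
  rw [comp_app_apply, mkHom_app]
  have h1 := congrArg (g.app (pt (E2 B))) (hs B x)
  rw [naturality, hγ, ← naturality, Φ_natural] at h1
  have h2 : hX B x = hX B x ∧ (0 : Qm e e' φ₀.hom →ₗ[A] B) = hX B 0 :=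
    ⟨rfl, by rw [hXdef, hx_zero]⟩
  rw [h2.2, hXdef, key2 e e' φ₀ i hi x0 hx0 B x 0, app_add, app_smul, app_smul, naturality,
    naturality] at h1
  have h3 : ε₁ B • mp H (ι2 B) (ℓ.app (pt B) x) + ε₂ B • mp H (ι2 B) (ℓ.app (pt B) 0) =
      Φ H B 0 (ℓ.app (pt B) x) (ℓ.app (pt B) 0) := by
    unfold Φ
    rw [mp_zero, zero_add]
  rw [h3] at h1
  exact ((hH.inj' B h1).2.1).symm

end Lift

end

end Groth.Agent.Lib.AdeqH3
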