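import Mathlib
import Groth.Prelude.Def_Adeq
import Groth.Agent.Lib.AdeqBasic_helper3
import Groth.Agent.Lib.AdeqExt_helper3
import Groth.Agent.Lib.AdeqDual_helper3
import Groth.Agent.Lib.AdeqLift_helper3
import Groth.Agent.Lib.AdeqKer_helper3
import Groth.Agent.Lib.AdeqColim_helper3

/-!
# Splitting of extensions of linearly adequate functors by `underline M` (helper3)
-/

set_option autoImplicit false
universe u

open CategoryTheory Limits TensorProduct Adeq

namespace Groth.Agent.Lib.AdeqH3

noncomputable section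

variable {A : Type u} [CommRing A]

/-- Sectionwise exactness of an exact short complex. -/
theorem exact_sectionwise (S : ShortComplex (MVF A)) (hS : S.Exact) (B : Alg A)
    (x : S.X₂.obj (pt B)) (hx : S.g.app (pt B) x = 0) : ∃ y, S.f.app (pt B) y = x := by
  have := PresheafOfModules.evaluation_preservesFiniteLimits.{u+1} (ringOf A) (pt B)
  have := PresheafOfModules.Finite.evaluation_preservesFiniteColimits.{u+1} (ringOf A) (pt B)
  have hS' := hS.map (PresheafOfModules.evaluation.{u+1} (ringOf A) (pt B))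
  rw [ShortComplex.moduleCat_exact_iff] at hS'
  exact hS' x hx

lemma adequate_of_linAdequate {L : MVF A} (hL : Adeq.linAdequate A L) : Adeq.adequate A L := by
  obtain ⟨M, N, φ, _, _, _, _, ⟨i⟩⟩ := hL
  exact ⟨M, N, φ, ⟨i⟩⟩

/-- The lifting lemma for linearly adequate functors. -/
theorem exists_lift_linAdequate {L Mu G H : MVF A} (hL : Adeq.linAdequate A L)
    (f : Mu ⟶ G) (g : G ⟶ H)
    (hf : ∀ B : Alg A, Function.Injective (f.app (pt B)))
    (hg : ∀ B : Alg A, Function.Surjective (g.app (pt B)))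
    (hzero : f ≫ g = 0)
    (hexact : ∀ (B : Alg A) (x : G.obj (pt B)), g.app (pt B) x = 0 → ∃ y, f.app (pt B) y = x)
    (hMu : Dual Mu) (hH : Dual H) (ℓ : L ⟶ H) : ∃ s : L ⟶ G, s ≫ g = ℓ := by
  obtain ⟨P, P', φ₀, hP, hP', hQ, hQ', ⟨iso⟩⟩ := hL
  rcases subsingleton_or_nontrivial A with hA | hA
  · refine ⟨0, ?_⟩
    apply hom_ext'
    intro B x
    have : Subsingleton B := (algebraMap A B).codomain_trivial
    have : Subsingleton (H.obj (pt B)) := Module.subsingleton B _
    exact Subsingleton.elim _ _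
  · have hi : IsKer φ₀ (iso.hom ≫ kernel.ι _) := (isKer_kernel φ₀).of_iso iso
    exact exists_lift_core (Module.finBasis A P) (Module.finBasis A P') φ₀ _ hi f g hf hg hzero
      hexact hMu hH ℓ

/-- a family on two indices -/
def bF (X Y : MVF A) : ULift.{u+1} Bool → MVF A := fun b => cond b.down X Y

theorem adequate_biprod (X Y : MVF A) (hX : Adeq.adequate A X) (hY : Adeq.adequate A Y) :
    Adeq.adequate A (X ⊞ Y) := by
  have h : Adeq.adequate A (∐ bF X Y) := adequate_coproduct _ (by
    rintro ⟨_ | _⟩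
    · exact hY
    · exact hX)
  let a : X ⟶ ∐ bF X Y := Sigma.ι (bF X Y) ⟨true⟩
  let b : Y ⟶ ∐ bF X Y := Sigma.ι (bF X Y) ⟨false⟩
  let toS : X ⊞ Y ⟶ ∐ bF X Y := biprod.desc a b
  let fromS : ∐ bF X Y ⟶ X ⊞ Y := Sigma.desc (fun b => match b with
    | ⟨true⟩ => (biprod.inl : X ⟶ X ⊞ Y)
    | ⟨false⟩ => (biprod.inr : Y ⟶ X ⊞ Y))
  have h1 : toS ≫ fromS = 𝟙 _ := by
    apply biprod.hom_ext'
    · rw [biprod.inl_desc_assoc, Category.comp_id]
      exact Sigma.ι_desc _ _
    · rw [biprod.inr_desc_assoc, Category.comp_id]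
      exact Sigma.ι_desc _ _
  have h2 : fromS ≫ toS = 𝟙 _ := by
    apply Sigma.hom_ext
    rintro ⟨_ | _⟩
    · rw [Sigma.ι_desc_assoc, Category.comp_id]
      exact biprod.inr_desc _ _
    · rw [Sigma.ι_desc_assoc, Category.comp_id]
      exact biprod.inl_desc _ _
  exact (Adeq.adequate A).prop_of_iso (Iso.mk fromS toS h2 h1) h

/-- Stacks, Adequate modules: an extension of a linearly adequate functor by `underline M`
splits and is adequate. -/
theorem split_of_linAdequate (S : ShortComplex (MVF A)) (hS : S.ShortExact)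
    (M : ModuleCat.{u+1} A) (e : S.X₁ ≅ (underline A).obj M) (hL : Adeq.linAdequate A S.X₃) :
    Nonempty S.Splitting ∧ Adeq.adequate A S.X₂ := by
  have hX1 : Adeq.adequate A S.X₁ := (Adeq.adequate A).prop_of_iso e.symm (adequate_underline M)
  have hX3 : Adeq.adequate A S.X₃ := adequate_of_linAdequate hL
  have := hS.mono_f
  have := hS.epi_g
  obtain ⟨s, hs⟩ := exists_lift_linAdequate hL S.f S.g
    (fun B => PresheafOfModules.injective_of_mono _ _)
    (fun B => PresheafOfModules.surjective_of_epi _ _) S.zero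
    (exact_sectionwise S hS.exact) (dual_of_adequate hX1) (dual_of_adequate hX3) (𝟙 S.X₃)
  let σ := ShortComplex.Splitting.ofExactOfSection S hS.exact s hs hS.mono_f
  exact ⟨⟨σ⟩, (Adeq.adequate A).prop_of_iso σ.isoBinaryBiproduct.symm
    (adequate_biprod _ _ hX1 hX3)⟩

end

end Groth.Agent.Lib.AdeqH3
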