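import Mathlib

/-!
# Presheaves of modules have enough injectives (big-universe version)

`C : Type (u+1)` with `Category.{u} C`, `R : Cᵒᵖ ⥤ RingCat.{u}`, modules in `Type (u+1)`.
For a family `I X : ModuleCat (R.obj X)` we build the presheaf of modules
`Y ↦ ∏_X ∏_{f : Y ⟶ X} I X` and show it is injective when every `I X` is.
-/

universe u

open CategoryTheory

namespace Groth.Agent.Lib.PshModInjH3

noncomputable section

variable {C : Type (u+1)} [Category.{u} C] {R : Cᵒᵖ ⥤ RingCat.{u}}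

/-- The carrier `∏_X ∏_{f : Y ⟶ X} I X`. -/
def Coind (I : ∀ X : Cᵒᵖ, ModuleCat.{u+1} (R.obj X)) (Y : Cᵒᵖ) : Type (u+1) :=
  ∀ (X : Cᵒᵖ), (Y ⟶ X) → I X

variable (I : ∀ X : Cᵒᵖ, ModuleCat.{u+1} (R.obj X))

instance instACG (Y : Cᵒᵖ) : AddCommGroup (Coind I Y) :=
  inferInstanceAs (AddCommGroup (∀ (X : Cᵒᵖ), (Y ⟶ X) → I X))

@[simp] lemma coind_add_apply {Y : Cᵒᵖ} (a b : Coind I Y) (X : Cᵒᵖ) (f : Y ⟶ X) :
    (a + b) X f = a X f + b X f := rfl

@[simp] lemma coind_zero_apply {Y : Cᵒᵖ} (X : Cᵒᵖ) (f : Y ⟶ X) :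
    (0 : Coind I Y) X f = 0 := rfl

instance instModule (Y : Cᵒᵖ) : Module (R.obj Y) (Coind I Y) where
  smul r φ := fun X f => (R.map f).hom r • φ X f
  one_smul φ := by
    funext X f
    change (R.map f).hom 1 • φ X f = φ X f
    rw [map_one, one_smul]
  mul_smul r s φ := by
    funext X f
    change (R.map f).hom (r * s) • φ X f = (R.map f).hom r • ((R.map f).hom s • φ X f)
    rw [map_mul, mul_smul]
  smul_zero r := by
    funext X f
    change (R.map f).hom r • (0 : I X) = 0
    rw [smul_zero]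
  smul_add r φ ψ := by
    funext X f
    change (R.map f).hom r • (φ X f + ψ X f) = (R.map f).hom r • φ X f + (R.map f).hom r • ψ X f
    rw [smul_add]
  add_smul r s φ := by
    funext X f
    change (R.map f).hom (r + s) • φ X f = (R.map f).hom r • φ X f + (R.map f).hom s • φ X f
    rw [map_add, add_smul]
  zero_smul φ := by
    funext X f
    change (R.map f).hom 0 • φ X f = 0
    rw [map_zero, zero_smul]

lemma coind_smul_apply {Y : Cᵒᵖ} (r : R.obj Y) (a : Coind I Y) (X : Cᵒᵖ) (f : Y ⟶ X) :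
    (r • a) X f = (R.map f).hom r • a X f := rfl

/-- The underlying presheaf of abelian groups. -/
def coindAb : Cᵒᵖ ⥤ Ab.{u+1} where
  obj Y := AddCommGrpCat.of (Coind I Y)
  map {Y Z} g := AddCommGrpCat.ofHom
    { toFun := fun φ => (fun X f => φ X (g ≫ f) : Coind I Z)
      map_zero' := rfl
      map_add' := fun _ _ => rfl }
  map_id Y := by
    ext φ
    change (fun X f => φ X (𝟙 Y ≫ f) : Coind I Y) = φ
    funext X f
    rw [Category.id_comp]
  map_comp {Y Z W} g h := by
    ext φ
    change (fun X f => φ X ((g ≫ h) ≫ f) : Coind I W) = (fun X f => φ X (g ≫ (h ≫ f)) : Coind I W)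
    funext X f
    rw [Category.assoc]

instance (Y : Cᵒᵖ) : Module (R.obj Y) ((coindAb I).obj Y) :=
  inferInstanceAs (Module (R.obj Y) (Coind I Y))

/-- The presheaf of modules `Y ↦ ∏_X ∏_{f : Y ⟶ X} I X`. -/
def coind : PresheafOfModules.{u+1} R :=
  PresheafOfModules.ofPresheaf (coindAb I) (by
    intro Y Z g r φ
    change (fun X f => (R.map (g ≫ f)).hom r • φ X (g ≫ f) : Coind I Z) =
      (fun X f => (R.map f).hom ((R.map g).hom r) • φ X (g ≫ f) : Coind I Z)
    funext X f
    rw [R.map_comp]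
    rfl)

/-- view an element of `(coind I).obj Y` as a function. -/
def toC {Y : Cᵒᵖ} (y : (coind I).obj Y) : Coind I Y := y

/-- view a function as an element of `(coind I).obj Y`. -/
def ofC {Y : Cᵒᵖ} (y : Coind I Y) : (coind I).obj Y := y

lemma toC_map {Y Z : Cᵒᵖ} (g : Y ⟶ Z) (y : (coind I).obj Y) (X : Cᵒᵖ) (f : Z ⟶ X) :
    toC I ((coind I).map g y) X f = toC I y X (g ≫ f) := rfl

lemma toC_add {Y : Cᵒᵖ} (y y' : (coind I).obj Y) : toC I (y + y') = toC I y + toC I y' := rfl

lemma toC_smul {Y : Cᵒᵖ} (r : R.obj Y) (y : (coind I).obj Y) : toC I (r • y) = r • toC I y := rfl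

/-- The `R.obj X`-linear map `F.obj X → I X`, `x ↦ (φ x)(X, 𝟙)`. -/
def flat {F : PresheafOfModules.{u+1} R} (φ : F ⟶ coind I) (X : Cᵒᵖ) : F.obj X ⟶ I X :=
  ModuleCat.ofHom
    { toFun := fun x => toC I (φ.app X x) X (𝟙 X)
      map_add' := fun x y => by
        rw [map_add, toC_add]; rfl
      map_smul' := fun r x => by
        rw [map_smul, toC_smul, coind_smul_apply, R.map_id]
        rfl }

lemma flat_apply {F : PresheafOfModules.{u+1} R} (φ : F ⟶ coind I) (X : Cᵒᵖ) (x : F.obj X) :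
    flat I φ X x = toC I (φ.app X x) X (𝟙 X) := rfl

/-- restriction as a plain function -/
def res (F : PresheafOfModules.{u+1} R) {Y X : Cᵒᵖ} (f : Y ⟶ X) (y : F.obj Y) : F.obj X :=
  F.restrictₛₗ f y

lemma res_eq (F : PresheafOfModules.{u+1} R) {Y X : Cᵒᵖ} (f : Y ⟶ X) (y : F.obj Y) :
    res F f y = F.map f y := rfl

lemma res_zero (F : PresheafOfModules.{u+1} R) {Y X : Cᵒᵖ} (f : Y ⟶ X) :
    res F f (0 : F.obj Y) = 0 := map_zero (F.restrictₛₗ f)

lemma res_add (F : PresheafOfModules.{u+1} R) {Y X : Cᵒᵖ} (f : Y ⟶ X) (y y' : F.obj Y) :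
    res F f (y + y') = res F f y + res F f y' := map_add (F.restrictₛₗ f) y y'

lemma res_smul (F : PresheafOfModules.{u+1} R) {Y X : Cᵒᵖ} (f : Y ⟶ X) (r : R.obj Y)
    (y : F.obj Y) :
    res F f (r • y) = (R.map f).hom r • res F f y := map_smulₛₗ (F.restrictₛₗ f) r y

lemma res_comp (F : PresheafOfModules.{u+1} R) {Y Z X : Cᵒᵖ} (g : Y ⟶ Z) (f : Z ⟶ X)
    (y : F.obj Y) :
    res F (g ≫ f) y = res F f (res F g y) := F.map_comp_apply g f y

lemma res_id (F : PresheafOfModules.{u+1} R) {Y : Cᵒᵖ} (y : F.obj Y) :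
    res F (𝟙 Y) y = y := by
  rw [res_eq, F.map_id]
  rfl

/-- The morphism `F ⟶ coind I` attached to a family of linear maps `F.obj X ⟶ I X`. -/
def sharp {F : PresheafOfModules.{u+1} R} (ψ : ∀ X : Cᵒᵖ, F.obj X ⟶ I X) : F ⟶ coind I :=
  PresheafOfModules.homMk (M₂ := coind I)
    { app := fun Y => AddCommGrpCat.ofHom
        { toFun := fun y => ofC I (fun X f => ψ X (res F f y))
          map_zero' := by
            funext X f
            change ψ X (res F f 0) = 0
            rw [res_zero, map_zero]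
          map_add' := fun y y' => by
            funext X f
            change ψ X (res F f (y + y')) = ψ X (res F f y) + ψ X (res F f y')
            rw [res_add, map_add] }
      naturality := fun {Y Z} g => by
        ext y
        funext X f
        change ψ X (res F f (res F g y)) = ψ X (res F (g ≫ f) y)
        rw [res_comp] }
    (by
      intro Y r y
      funext X f
      change ψ X (res F f (r • y)) = (R.map f).hom r • ψ X (res F f y)
      rw [res_smul, map_smul])

lemma sharp_apply {F : PresheafOfModules.{u+1} R} (ψ : ∀ X : Cᵒᵖ, F.obj X ⟶ I X)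
    (Y : Cᵒᵖ) (y : F.obj Y) (X : Cᵒᵖ) (f : Y ⟶ X) :
    toC I ((sharp I ψ).app Y y) X f = ψ X (res F f y) := rfl

lemma sharp_flat {F : PresheafOfModules.{u+1} R} (φ : F ⟶ coind I) :
    sharp I (flat I φ) = φ := by
  ext Y y
  change toC I ((sharp I (flat I φ)).app Y y) = toC I (φ.app Y y)
  funext X f
  rw [sharp_apply, flat_apply, res_eq, PresheafOfModules.naturality_apply, toC_map,
    Category.comp_id]

theorem coind_injective (hI : ∀ X, Injective (I X)) : Injective (coind I) := by
  constructor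
  intro F F' φ i hi
  have h : ∀ X : Cᵒᵖ, ∃ ψ : F'.obj X ⟶ I X, i.app X ≫ ψ = flat I φ X := fun X =>
    (hI X).factors (flat I φ X) (i.app X)
  choose ψ hψ using h
  refine ⟨sharp I ψ, ?_⟩
  rw [← sharp_flat I φ]
  ext Y y
  change toC I ((sharp I ψ).app Y (i.app Y y)) = toC I ((sharp I (flat I φ)).app Y y)
  funext X f
  rw [sharp_apply, sharp_apply, ← hψ X, res_eq, ← PresheafOfModules.naturality_apply]
  rfl

theorem enoughInjectives : EnoughInjectives (PresheafOfModules.{u+1} R) := by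
  constructor
  intro F
  let I : ∀ X : Cᵒᵖ, ModuleCat.{u+1} (R.obj X) := fun X => Injective.under (F.obj X)
  let j : ∀ X : Cᵒᵖ, F.obj X ⟶ I X := fun X => Injective.ι (F.obj X)
  haveI : Injective (coind I) := coind_injective I (fun X => inferInstance)
  refine ⟨⟨coind I, inferInstance, sharp I j, ?_⟩⟩
  apply PresheafOfModules.mono_of_injective
  intro Y y y' h
  have h1 : toC I ((sharp I j).app Y y) Y (𝟙 Y) = toC I ((sharp I j).app Y y') Y (𝟙 Y) := by
    rw [h]
  rw [sharp_apply, sharp_apply] at h1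
  have hmono : Function.Injective (j Y) := (ModuleCat.mono_iff_injective _).1 inferInstance
  have h2 := hmono h1
  rw [res_id, res_id] at h2
  exact h2

end

end Groth.Agent.Lib.PshModInjH3
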