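import Mathlib
import Groth.Prelude.Def_Adeq
import Groth.Agent.Lib.AdeqBasic_helper3
import Groth.Agent.Lib.AdeqCover_helper3
import Groth.Agent.Lib.AdeqCoker2_helper3
import Groth.Agent.Lib.AdeqKer_helper3
import Groth.Agent.Lib.AdeqColim_helper3
import Groth.Agent.Lib.AdeqSplit_helper3
import Groth.Agent.Lib.PshModInj_helper3

/-!
# The category of adequate functors: abelian, cocomplete, coreflective (helper3)
-/

set_option autoImplicit false
universe u

open CategoryTheory Limits TensorProduct Adeq

namespace Groth.Agent.Lib.AdeqH3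

noncomputable section

variable {A : Type u} [CommRing A]

instance adequate_containsZero : (Adeq.adequate A).ContainsZero where
  exists_zero := ⟨kernel (𝟙 ((underline A).obj (ModuleCat.of A PUnit.{u+2}))),
    isZero_kernel_of_mono _, adequate_kernel _ (adequate_underline _) (adequate_underline _)⟩

instance adequate_closedKernels : (Adeq.adequate A).IsClosedUnderKernels where
  kernels_le := by
    rintro Z ⟨f, k, hk, ⟨hX, hY⟩⟩
    exact (Adeq.adequate A).prop_of_iso
      (IsLimit.conePointUniqueUpToIso (kernelIsKernel f) hk) (adequate_kernel f hX hY)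

instance adequate_closedCokernels : (Adeq.adequate A).IsClosedUnderCokernels where
  cokernels_le := by
    rintro Z ⟨f, k, hk, ⟨hX, hY⟩⟩
    exact (Adeq.adequate A).prop_of_iso
      (IsColimit.coconePointUniqueUpToIso (cokernelIsCokernel f) hk) (adequate_cokernel f hX hY)

instance adequate_closedBinaryProducts : (Adeq.adequate A).IsClosedUnderBinaryProducts :=
  ObjectProperty.IsClosedUnderLimitsOfShape.mk' (by
    rintro _ ⟨F, hF⟩
    have e1 : limit F ≅ limit (pair (F.obj ⟨.left⟩) (F.obj ⟨.right⟩)) :=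
      HasLimit.isoOfNatIso (diagramIsoPair F)
    have e2 : (F.obj ⟨.left⟩ ⨯ F.obj ⟨.right⟩) ≅ F.obj ⟨.left⟩ ⊞ F.obj ⟨.right⟩ :=
      (biprod.isoProd _ _).symm
    exact (Adeq.adequate A).prop_of_iso (e1 ≪≫ e2).symm (adequate_biprod _ _ (hF _) (hF _)))

instance adequate_closedFiniteProducts : (Adeq.adequate A).IsClosedUnderFiniteProducts :=
  ObjectProperty.IsClosedUnderFiniteProducts.mk'

instance adequate_closedColimits (J : Type (u+1)) [SmallCategory J] :
    (Adeq.adequate A).IsClosedUnderColimitsOfShape J :=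
  ObjectProperty.IsClosedUnderColimitsOfShape.mk' (by
    rintro _ ⟨F, hF⟩
    exact adequate_colimit F hF)

instance adequate_abelian : Abelian (Adeq.Adequate A) := inferInstance

instance adequate_hasColimits : HasColimitsOfSize.{u+1, u+1} (Adeq.Adequate A) :=
  ⟨fun J _ => inferInstance⟩

instance adequate_ι_preservesColimits :
    PreservesColimitsOfSize.{u+1, u+1} (Adeq.adequate A).ι :=
  ⟨fun {J} _ => inferInstance⟩

/-- the linearly adequate functor of a matrix -/
def Lmat (n k : ℕ) (a : Fin n → Fin k → A) : MVF A :=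
  kernel ((underline A).map (ModuleCat.ofHom (frMat a)))

lemma adequate_Lmat (n k : ℕ) (a : Fin n → Fin k → A) : Adeq.adequate A (Lmat n k a) :=
  ⟨_, _, _, ⟨Iso.refl _⟩⟩

/-- the separating family -/
def sepObj (p : Σ n k : ℕ, Fin n → Fin k → A) : Adeq.Adequate A :=
  ⟨Lmat p.1 p.2.1 p.2.2, adequate_Lmat _ _ _⟩

theorem isSeparating_sep : (ObjectProperty.ofObj (sepObj (A := A))).IsSeparating := by
  intro X Y f g h
  apply ObjectProperty.hom_ext
  apply hom_ext'
  intro B ξ
  obtain ⟨M, N, φ, i, hi⟩ := (adequate_iff X.obj).1 X.property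
  obtain ⟨c, l, hl⟩ := exists_chart hi B ξ
  let t : sepObj ⟨c.n, c.k, c.a⟩ ⟶ X := ObjectProperty.homMk (show Lmat c.n c.k c.a ⟶ X.obj from c.toF hi)
  have h1 := h (sepObj ⟨c.n, c.k, c.a⟩) ⟨_⟩ t
  have h2 := congrArg (fun t => t.hom) h1
  simp only [ObjectProperty.FullSubcategory.comp_hom] at h2
  have h3 := (by rw [h2] : (t.hom ≫ f.hom).app (pt B) l = (t.hom ≫ g.hom).app (pt B) l)
  rw [comp_app_apply, comp_app_apply] at h3
  rw [← hl]
  exact h3

instance adequate_wellPowered : WellPowered.{u+1} (Adeq.Adequate A) :=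
  wellPowered_of_isDetecting (isSeparating_sep.isDetecting)

instance adequate_op_wellPowered : WellPowered.{u+1} (Adeq.Adequate A)ᵒᵖ := inferInstance

theorem isLeftAdjoint_ι : (Adeq.adequate A).ι.IsLeftAdjoint :=
  isLeftAdjoint_of_preservesColimits_of_isSeparating isSeparating_sep _

end

end Groth.Agent.Lib.AdeqH3

namespace Groth.Agent.Lib.AdeqH3

open CategoryTheory Limits Adeq

theorem enoughInjectives_adequate {A : Type u} [CommRing A] :
    EnoughInjectives (Adeq.Adequate A) := by
  have hadj := isLeftAdjoint_ι (A := A)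
  have h1 : (Adeq.adequate A).ι.PreservesMonomorphisms :=
    (Adeq.adequate A).preservesMonomorphisms_ι_of_isNormalEpiCategory
  have h2 : EnoughInjectives (Adeq.MVF A) := Groth.Agent.Lib.PshModInjH3.enoughInjectives
  exact EnoughInjectives.of_adjunction (Adjunction.ofIsLeftAdjoint (Adeq.adequate A).ι)

end Groth.Agent.Lib.AdeqH3
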