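import Mathlib
import Groth.Prelude.Def_Adeq
import Groth.Agent.Lib.AdeqBasic_helper3
import Groth.Agent.Lib.AdeqLift_helper3

/-!
# Pushforward of adequate functors along a ring map (helper3)
-/

set_option autoImplicit false
universe u
open CategoryTheory Limits TensorProduct Adeq
namespace Groth.Agent.Lib.AdeqH3
noncomputable section

section PurePush

variable {A A' : Type u} [CommRing A] [CommRing A'] [Algebra A A']
  {B : Type u} [CommRing B] [Algebra A B]
  (M' : Type (u+1)) [AddCommGroup M'] [Module A' M'] [Module A M'] [IsScalarTower A A' M']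

/-- `(A' ⊗[A] B) ⊗[A'] M' ≃ B ⊗[A] M'` -/
def rhoE : (A' ⊗[A] B) ⊗[A'] M' ≃+ B ⊗[A] M' :=
  ((TensorProduct.comm A' (A' ⊗[A] B) M').toAddEquiv.trans
    (TensorProduct.AlgebraTensorModule.cancelBaseChange A A' A' M' B).toAddEquiv).trans
    (TensorProduct.comm A M' B).toAddEquiv

lemma rhoE_tmul (a' : A') (b : B) (m : M') :
    rhoE (A := A) M' ((a' ⊗ₜ[A] b) ⊗ₜ[A'] m) = b ⊗ₜ[A] (a' • m) := by
  change TensorProduct.comm A M' B (TensorProduct.AlgebraTensorModule.cancelBaseChange A A' A' M' B
    (TensorProduct.comm A' (A' ⊗[A] B) M' ((a' ⊗ₜ[A] b) ⊗ₜ[A'] m))) = _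
  rw [TensorProduct.comm_tmul, TensorProduct.AlgebraTensorModule.cancelBaseChange_tmul,
    TensorProduct.comm_tmul]

variable {M'}

omit [Module A M'] [IsScalarTower A A' M'] in
lemma induction2 {P : (A' ⊗[A] B) ⊗[A'] M' → Prop} (h0 : P 0)
    (hadd : ∀ x y, P x → P y → P (x + y))
    (ht : ∀ (a' : A') (b : B) (m : M'), P ((a' ⊗ₜ[A] b) ⊗ₜ[A'] m)) (z) : P z := by
  induction z using TensorProduct.induction_on with
  | zero => exact h0
  | tmul x m =>
    induction x using TensorProduct.induction_on with
    | zero => rw [TensorProduct.zero_tmul]; exact h0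
    | tmul a' b => exact ht a' b m
    | add x y hx hy => rw [TensorProduct.add_tmul]; exact hadd _ _ hx hy
  | add x y hx hy => exact hadd _ _ hx hy

lemma rhoE_smul (b₀ : B) (z : (A' ⊗[A] B) ⊗[A'] M') :
    rhoE (A := A) M' (((1 : A') ⊗ₜ[A] b₀ : A' ⊗[A] B) • z) = b₀ • rhoE (A := A) M' z := by
  induction z using induction2 with
  | h0 => simp
  | hadd x y hx hy => rw [smul_add, map_add, hx, hy, map_add, smul_add]
  | ht a' b m =>
    rw [TensorProduct.smul_tmul', smul_eq_mul, Algebra.TensorProduct.tmul_mul_tmul, one_mul,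
      rhoE_tmul, rhoE_tmul, TensorProduct.smul_tmul', smul_eq_mul]

lemma rhoE_rTensor {B₂ : Type u} [CommRing B₂] [Algebra A B₂] (g : B →ₐ[A] B₂)
    (z : (A' ⊗[A] B) ⊗[A'] M') :
    rhoE (A := A) M' ((Algebra.TensorProduct.map (AlgHom.id A' A') g).toLinearMap.rTensor M' z) =
      g.toLinearMap.rTensor M' (rhoE (A := A) M' z) := by
  induction z using induction2 with
  | h0 => simp
  | hadd x y hx hy => rw [map_add, map_add, hx, hy, map_add, map_add]
  | ht a' b m =>
    rw [LinearMap.rTensor_tmul, rhoE_tmul, LinearMap.rTensor_tmul]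
    simp only [AlgHom.toLinearMap_apply, Algebra.TensorProduct.map_tmul, AlgHom.coe_id, id_eq]
    rw [rhoE_tmul]

lemma rhoE_baseChange {N' : Type (u+1)} [AddCommGroup N'] [Module A' N'] [Module A N']
    [IsScalarTower A A' N'] (h : M' →ₗ[A'] N') (z : (A' ⊗[A] B) ⊗[A'] M') :
    rhoE (A := A) N' (h.baseChange (A' ⊗[A] B) z) =
      (h.restrictScalars A).baseChange B (rhoE (A := A) M' z) := by
  induction z using induction2 with
  | h0 => simp
  | hadd x y hx hy => rw [map_add, map_add, hx, hy, map_add, map_add]
  | ht a' b m =>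
    rw [LinearMap.baseChange_tmul, rhoE_tmul, rhoE_tmul, LinearMap.baseChange_tmul]
    simp

end PurePush

section Push

variable {A : Type u} [CommRing A] {A' : Type u} [CommRing A'] [Algebra A A']

/-- base change of an algebra -/
abbrev bA (B : Alg A) : Alg A' := (Alg.baseChange A A').obj B

/-- sections of the pushforward -/
def pIn (F' : MVF A') (B : Alg A) (x : F'.obj (pt (bA B))) : ((push A A').obj F').obj (pt B) := x
/-- sections of the pushforward -/
def pOut (F' : MVF A') (B : Alg A) (x : ((push A A').obj F').obj (pt B)) :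
    F'.obj (pt (bA B)) := x

lemma pOut_pIn (F' : MVF A') (B : Alg A) (x : F'.obj (pt (bA B))) : pOut F' B (pIn F' B x) = x := rfl

lemma pOut_injective (F' : MVF A') (B : Alg A) : Function.Injective (pOut F' B) := fun _ _ h => h

lemma pOut_smul (F' : MVF A') (B : Alg A) (b : B) (x : ((push A A').obj F').obj (pt B)) :
    pOut F' B (b • x) = (show (bA (A' := A') B : Type u) from (1 : A') ⊗ₜ[A] b) • pOut F' B x := rfl

lemma pOut_add (F' : MVF A') (B : Alg A) (x y : ((push A A').obj F').obj (pt B)) :
    pOut F' B (x + y) = pOut F' B x + pOut F' B y := rfl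

lemma pOut_map {F' G' : MVF A'} (f : F' ⟶ G') (B : Alg A) (x : ((push A A').obj F').obj (pt B)) :
    pOut G' B (((push A A').map f).app (pt B) x) = f.app (pt (bA B)) (pOut F' B x) := rfl

lemma pOut_mp (F' : MVF A') {B B₂ : Alg A} (g : B ⟶ B₂) (x : ((push A A').obj F').obj (pt B)) :
    pOut F' B₂ (mp ((push A A').obj F') g x) =
      mp F' ((Alg.baseChange A A').map g) (pOut F' B x) := rfl

lemma push_map_zero (F' G' : MVF A') : (push A A').map (0 : F' ⟶ G') = 0 := by
  apply hom_ext'
  intro B x
  rfl

/-- the `A`-module structure on an `A'`-module -/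
@[reducible] def restrMod (M' : ModuleCat.{u+1} A') : Module A M' :=
  Module.compHom M' (algebraMap A A')

attribute [local instance low] restrMod

theorem restrModTower (M' : ModuleCat.{u+1} A') : IsScalarTower A A' M' :=
  ⟨fun a a' m => by
    change (a • a') • m = (algebraMap A A' a) • (a' • m)
    rw [Algebra.smul_def, mul_smul]⟩

attribute [local instance low] restrModTower

variable (A) in
/-- restriction of scalars of a module -/
abbrev rM (M' : ModuleCat.{u+1} A') : ModuleCat.{u+1} A := ModuleCat.of A M'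

variable (A) in
/-- restriction of scalars of a map -/
def rMap {M' N' : ModuleCat.{u+1} A'} (φ' : M' ⟶ N') : rM A M' ⟶ rM A N' :=
  ModuleCat.ofHom (φ'.hom.restrictScalars A)

/-- the comparison, sectionwise -/
def rhoFun (M' : ModuleCat.{u+1} A') (B : Alg A)
    (x : ((push A A').obj ((underline A').obj M')).obj (pt B)) :
    ((underline A).obj (rM A M')).obj (pt B) :=
  ofT (rhoE (A := A) (B := B) M' (toT (pOut _ B x)))

/-- the comparison morphism `push (underline M') ⟶ underline (M'|_A)` -/
def rho (M' : ModuleCat.{u+1} A') :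
    (push A A').obj ((underline A').obj M') ⟶ (underline A).obj (rM A M') :=
  mkHom (rhoFun M')
    (fun B x y => by
      apply toT_injective
      change rhoE (A := A) (B := B) M' (toT (pOut _ B x) + toT (pOut _ B y)) = _
      rw [map_add]
      rfl)
    (fun B b x => by
      apply toT_injective
      change rhoE (A := A) (B := B) M' ((((1 : A') ⊗ₜ[A] b : A' ⊗[A] B)) • toT (pOut _ B x)) = _
      rw [rhoE_smul]
      rfl)
    (fun {B B₂} g x => by
      apply toT_injective
      rw [toT_mp]
      change rhoE (A := A) (B := B₂) M'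
        ((Algebra.TensorProduct.map (AlgHom.id A' A') g.hom).toLinearMap.rTensor M'
          (toT (pOut _ B x))) = _
      rw [rhoE_rTensor]
      rfl)

lemma toT_rho (M' : ModuleCat.{u+1} A') (B : Alg A)
    (x : ((push A A').obj ((underline A').obj M')).obj (pt B)) :
    toT ((rho M').app (pt B) x) = rhoE (A := A) (B := B) M' (toT (pOut _ B x)) := rfl

lemma rho_natural {M' N' : ModuleCat.{u+1} A'} (φ' : M' ⟶ N') :
    (push A A').map ((underline A').map φ') ≫ rho N' =
      rho M' ≫ (underline A).map (rMap A φ') := by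
  apply hom_ext'
  intro B x
  apply toT_injective
  rw [comp_app_apply, comp_app_apply, toT_rho, toT_app, toT_rho, pOut_map, toT_app]
  exact rhoE_baseChange φ'.hom _

lemma rho_bijective (M' : ModuleCat.{u+1} A') (B : Alg A) :
    Function.Bijective ((rho (A := A) M').app (pt B)) := by
  constructor
  · intro x y h
    have h1 := congrArg toT h
    rw [toT_rho, toT_rho] at h1
    exact (rhoE (A := A) (A' := A') (B := B) M').injective h1
  · intro y
    obtain ⟨z, hz⟩ := (rhoE (A := A) (A' := A') (B := B) M').surjective (toT y)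
    refine ⟨pIn _ B (ofT (B := bA B) z), ?_⟩
    apply toT_injective
    rw [toT_rho]
    exact hz

/-- pushforward of an adequate functor is adequate: the kernel presentation -/
theorem isKer_push {F' : MVF A'} {M' N' : ModuleCat.{u+1} A'} {φ' : M' ⟶ N'}
    {i' : F' ⟶ (underline A').obj M'} (hi : IsKer φ' i') :
    IsKer (rMap A φ') ((push A A').map i' ≫ rho M') where
  inj B := by
    intro x y hxy
    rw [comp_app_apply, comp_app_apply] at hxy
    have h1 := (rho_bijective M' B).1 hxy
    apply pOut_injective
    apply hi.inj (bA B)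
    rw [← pOut_map, ← pOut_map, h1]
  zero := by
    rw [Category.assoc, ← rho_natural, ← Category.assoc, ← Functor.map_comp, hi.zero,
      push_map_zero, zero_comp]
  exact B x hx := by
    obtain ⟨x₀, rfl⟩ := (rho_bijective M' B).2 x
    have h1 : (rho N').app (pt B) (((push A A').map ((underline A').map φ')).app (pt B) x₀) = 0 := by
      rw [← comp_app_apply, rho_natural, comp_app_apply, hx]
    have h2 : ((push A A').map ((underline A').map φ')).app (pt B) x₀ = 0 :=
      (rho_bijective N' B).1 (h1.trans (app_zero _ _).symm)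
    have h3 : ((underline A').map φ').app (pt (bA B)) (pOut _ B x₀) = 0 := by
      rw [← pOut_map, h2]
      rfl
    obtain ⟨y, hy⟩ := hi.exact (bA B) _ h3
    refine ⟨pIn F' B y, ?_⟩
    rw [comp_app_apply]
    congr 1

theorem adequate_push (F' : MVF A') (hF' : Adeq.adequate A' F') :
    Adeq.adequate A ((push A A').obj F') := by
  obtain ⟨M', N', φ', i', hi⟩ := (adequate_iff F').1 hF'
  exact (isKer_push (A := A) hi).adequate

end Push

end
end Groth.Agent.Lib.AdeqH3
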