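import Mathlib
import Groth.Prelude.Def_Adeq
import Groth.Agent.Lib.AdeqBasic_helper3
import Groth.Agent.Lib.AdeqLift_helper3

/-!
# Restriction of adequate functors along a ring map (helper3)
-/

set_option autoImplicit false
universe u
open CategoryTheory Limits TensorProduct Adeq
namespace Groth.Agent.Lib.AdeqH3
noncomputable section

section PureRestr

variable {A A' : Type u} [CommRing A] [CommRing A'] [Algebra A A']
  {B : Type u} [CommRing B] [Algebra A B] [Algebra A' B] [IsScalarTower A A' B]
  (M : Type (u+1)) [AddCommGroup M] [Module A M]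

/-- `B ⊗[A] M → B ⊗[A'] (A' ⊗[A] M)` -/
def thetaL : B ⊗[A] M →ₗ[B] B ⊗[A'] (A' ⊗[A] M) :=
  (TensorProduct.AlgebraTensorModule.cancelBaseChange A A' B B M).symm.toLinearMap

lemma thetaL_tmul (b : B) (m : M) :
    thetaL (A' := A') M (b ⊗ₜ[A] m) = b ⊗ₜ[A'] ((1 : A') ⊗ₜ[A] m) :=
  TensorProduct.AlgebraTensorModule.cancelBaseChange_symm_tmul A A' B b m

lemma thetaL_bijective : Function.Bijective (thetaL (A := A) (A' := A') (B := B) M) :=
  (TensorProduct.AlgebraTensorModule.cancelBaseChange A A' B B M).symm.bijective

variable {M}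

lemma thetaL_rTensor {B'' : Type u} [CommRing B''] [Algebra A B''] [Algebra A' B'']
    [IsScalarTower A A' B''] (g : B →ₐ[A'] B'') (g₀ : B →ₐ[A] B'') (hg : ∀ b, g₀ b = g b)
    (x : B ⊗[A] M) :
    thetaL (A' := A') M (g₀.toLinearMap.rTensor M x) =
      g.toLinearMap.rTensor (A' ⊗[A] M) (thetaL (A' := A') M x) := by
  induction x using TensorProduct.induction_on with
  | zero => simp
  | tmul b m =>
    rw [LinearMap.rTensor_tmul, thetaL_tmul, thetaL_tmul, LinearMap.rTensor_tmul]
    simp [hg]
  | add y z hy hz => rw [map_add, map_add, hy, hz, map_add, map_add]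

lemma thetaL_baseChange {N : Type (u+1)} [AddCommGroup N] [Module A N] (h : M →ₗ[A] N)
    (x : B ⊗[A] M) :
    thetaL (A' := A') N (h.baseChange B x) =
      (h.baseChange A').baseChange B (thetaL (A' := A') M x) := by
  induction x using TensorProduct.induction_on with
  | zero => simp
  | tmul b m =>
    rw [LinearMap.baseChange_tmul, thetaL_tmul, thetaL_tmul, LinearMap.baseChange_tmul,
      LinearMap.baseChange_tmul]
  | add y z hy hz => rw [map_add, map_add, hy, hz, map_add, map_add]

end PureRestr

section Restr

variable {A : Type u} [CommRing A] {A' : Type u} [CommRing A'] [Algebra A A']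

/-- restriction of an algebra -/
abbrev rA (B' : Alg A') : Alg A := (Alg.restr A A').obj B'

/-- sections of the restriction -/
def rIn (F : MVF A) (B' : Alg A') (x : F.obj (pt (rA B'))) : ((restr A A').obj F).obj (pt B') := x
/-- sections of the restriction -/
def rOut (F : MVF A) (B' : Alg A') (x : ((restr A A').obj F).obj (pt B')) :
    F.obj (pt (rA B')) := x

lemma rOut_rIn (F : MVF A) (B' : Alg A') (x : F.obj (pt (rA B'))) : rOut F B' (rIn F B' x) = x := rfl
lemma rIn_rOut (F : MVF A) (B' : Alg A') (x : ((restr A A').obj F).obj (pt B')) :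
    rIn F B' (rOut F B' x) = x := rfl

lemma rOut_injective (F : MVF A) (B' : Alg A') : Function.Injective (rOut F B') := fun _ _ h => h

lemma rOut_smul (F : MVF A) (B' : Alg A') (b : B') (x : ((restr A A').obj F).obj (pt B')) :
    rOut F B' (b • x) = (show (rA (A := A) B' : Type u) from b) • rOut F B' x := rfl

lemma rOut_add (F : MVF A) (B' : Alg A') (x y : ((restr A A').obj F).obj (pt B')) :
    rOut F B' (x + y) = rOut F B' x + rOut F B' y := rfl

lemma rOut_zero (F : MVF A) (B' : Alg A') :
    rOut F B' (0 : ((restr A A').obj F).obj (pt B')) = 0 := rfl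

lemma rOut_map {F G : MVF A} (f : F ⟶ G) (B' : Alg A') (x : ((restr A A').obj F).obj (pt B')) :
    rOut G B' (((restr A A').map f).app (pt B') x) = f.app (pt (rA B')) (rOut F B' x) := rfl

lemma rOut_mp (F : MVF A) {B' B'' : Alg A'} (g : B' ⟶ B'') (x : ((restr A A').obj F).obj (pt B')) :
    rOut F B'' (mp ((restr A A').obj F) g x) = mp F ((Alg.restr A A').map g) (rOut F B' x) := rfl

/-- the `A`-algebra structure on an `A'`-algebra -/
@[reducible] def restrAlg (B' : Alg A') : Algebra A B' :=
  ((algebraMap A' B').comp (algebraMap A A')).toAlgebra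

attribute [local instance low] restrAlg

/-- the tower -/
theorem restrTower (B' : Alg A') : IsScalarTower A A' B' :=
  IsScalarTower.of_algebraMap_eq (fun _ => rfl)

attribute [local instance low] restrTower

lemma restr_map_zero (F G : MVF A) : (restr A A').map (0 : F ⟶ G) = 0 := by
  apply hom_ext'
  intro B' x
  rfl

variable (A') in
/-- the base-changed module -/
abbrev bcM (M : ModuleCat.{u+1} A) : ModuleCat.{u+1} A' := ModuleCat.of A' (A' ⊗[A] M)

variable (A') in
/-- the base-changed map -/
def bcMap {M N : ModuleCat.{u+1} A} (φ : M ⟶ N) : bcM A' M ⟶ bcM A' N :=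
  ModuleCat.ofHom (φ.hom.baseChange A')

/-- the comparison, sectionwise -/
def thetaFun (M : ModuleCat.{u+1} A) (B' : Alg A')
    (x : ((restr A A').obj ((underline A).obj M)).obj (pt B')) :
    ((underline A').obj (bcM A' M)).obj (pt B') :=
  ofT (thetaL (A' := A') (B := B') M (toT (rOut _ B' x)))

/-- the comparison morphism `restr (underline M) ⟶ underline (A' ⊗ M)` -/
def theta (M : ModuleCat.{u+1} A) :
    (restr A A').obj ((underline A).obj M) ⟶ (underline A').obj (bcM A' M) :=
  mkHom (thetaFun M)
    (fun B' x y => by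
      apply toT_injective
      change thetaL (A' := A') (B := B') M (toT (rOut _ B' x) + toT (rOut _ B' y)) = _
      rw [map_add]
      rfl)
    (fun B' b x => by
      apply toT_injective
      change thetaL (A' := A') (B := B') M (b • toT (rOut _ B' x)) = _
      rw [map_smul]
      rfl)
    (fun {B' B''} g x => by
      apply toT_injective
      rw [toT_mp]
      change thetaL (A' := A') (B := B'') M
        (((Alg.restr A A').map g).hom.toLinearMap.rTensor M (toT (rOut _ B' x))) = _
      rw [thetaL_rTensor g.hom ((Alg.restr A A').map g).hom (fun _ => rfl)]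
      rfl)

lemma toT_theta (M : ModuleCat.{u+1} A) (B' : Alg A')
    (x : ((restr A A').obj ((underline A).obj M)).obj (pt B')) :
    toT ((theta M).app (pt B') x) = thetaL (A' := A') (B := B') M (toT (rOut _ B' x)) := rfl

lemma theta_natural {M N : ModuleCat.{u+1} A} (φ : M ⟶ N) :
    (restr A A').map ((underline A).map φ) ≫ theta N =
      theta M ≫ (underline A').map (bcMap A' φ) := by
  apply hom_ext'
  intro B' x
  apply toT_injective
  rw [comp_app_apply, comp_app_apply, toT_theta, toT_app, toT_theta, rOut_map, toT_app]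
  exact thetaL_baseChange φ.hom _

lemma theta_bijective (M : ModuleCat.{u+1} A) (B' : Alg A') :
    Function.Bijective ((theta (A' := A') M).app (pt B')) := by
  constructor
  · intro x y h
    have h1 := congrArg toT h
    rw [toT_theta, toT_theta] at h1
    exact (thetaL_bijective (A := A) (A' := A') (B := B') M).1 h1
  · intro y
    obtain ⟨z, hz⟩ := (thetaL_bijective (A := A) (A' := A') (B := B') M).2 (toT y)
    refine ⟨rIn _ B' (ofT (B := rA B') z), ?_⟩
    apply toT_injective
    rw [toT_theta]
    exact hz

/-- restriction of an adequate functor is adequate: the kernel presentation -/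
theorem isKer_restr {F : MVF A} {M N : ModuleCat.{u+1} A} {φ : M ⟶ N}
    {i : F ⟶ (underline A).obj M} (hi : IsKer φ i) :
    IsKer (bcMap A' φ) ((restr A A').map i ≫ theta M) where
  inj B' := by
    intro x y hxy
    rw [comp_app_apply, comp_app_apply] at hxy
    have h1 := (theta_bijective M B').1 hxy
    apply rOut_injective
    apply hi.inj (rA B')
    rw [← rOut_map, ← rOut_map, h1]
  zero := by
    rw [Category.assoc, ← theta_natural, ← Category.assoc, ← Functor.map_comp, hi.zero,
      restr_map_zero, zero_comp]
  exact B' x hx := by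
    obtain ⟨x₀, rfl⟩ := (theta_bijective M B').2 x
    have h1 : (theta N).app (pt B') (((restr A A').map ((underline A).map φ)).app (pt B') x₀) = 0 := by
      rw [← comp_app_apply, theta_natural, comp_app_apply, hx]
    have h2 : ((restr A A').map ((underline A).map φ)).app (pt B') x₀ = 0 :=
      (theta_bijective N B').1 (h1.trans (app_zero _ _).symm)
    have h3 : ((underline A).map φ).app (pt (rA B')) (rOut _ B' x₀) = 0 := by
      rw [← rOut_map, h2]
      rfl
    obtain ⟨y, hy⟩ := hi.exact (rA B') _ h3
    refine ⟨rIn F B' y, ?_⟩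
    rw [comp_app_apply]
    congr 1

theorem adequate_restr (F : MVF A) (hF : Adeq.adequate A F) :
    Adeq.adequate A' ((restr A A').obj F) := by
  obtain ⟨M, N, φ, i, hi⟩ := (adequate_iff F).1 hF
  exact (isKer_restr (A' := A') hi).adequate

end Restr

end
end Groth.Agent.Lib.AdeqH3
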