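import Mathlib
import Groth.Prelude.Def_Adeq
import Groth.Agent.Lib.AdeqBasic_helper3
import Groth.Agent.Lib.AdeqCover_helper3
import Groth.Agent.Lib.AdeqCoker2_helper3
import Groth.Agent.Lib.AdeqKer_helper3
import Groth.Agent.Lib.AdeqColim_helper3
import Groth.Agent.Lib.AdeqDual_helper3
import Groth.Agent.Lib.AdeqSplit_helper3

/-!
# Extensions of adequate functors are adequate (helper3)
-/

set_option autoImplicit false
universe u

open CategoryTheory Limits TensorProduct Adeq

namespace Groth.Agent.Lib.AdeqH3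

noncomputable section

variable {A : Type u} [CommRing A]

lemma sub_app_apply {F G : MVF A} (f g : F ⟶ G) (B : Alg A) (x : F.obj (pt B)) :
    (f - g).app (pt B) x = f.app (pt B) x - g.app (pt B) x := rfl

lemma neg_app_apply {F G : MVF A} (f : F ⟶ G) (B : Alg A) (x : F.obj (pt B)) :
    (-f).app (pt B) x = -f.app (pt B) x := rfl

lemma id_app_apply {F : MVF A} (B : Alg A) (x : F.obj (pt B)) :
    (𝟙 F : F ⟶ F).app (pt B) x = x := rfl

lemma congr_app_apply {F G : MVF A} {f g : F ⟶ G} (h : f = g) (B : Alg A) (x : F.obj (pt B)) :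
    f.app (pt B) x = g.app (pt B) x := by rw [h]

lemma inj_of_zero {F G : MVF A} (φ : F ⟶ G) (B : Alg A)
    (h : ∀ x : F.obj (pt B), φ.app (pt B) x = 0 → x = 0) : Function.Injective (φ.app (pt B)) :=
  fun x y hxy => sub_eq_zero.1 (h _ (by rw [app_sub, hxy, sub_self]))

section Criteria

variable {K X Y : MVF A} (k : K ⟶ X) (ψ : X ⟶ Y)

theorem isIso_kernel_lift (hk : ∀ B : Alg A, Function.Injective (k.app (pt B)))
    (hzero : k ≫ ψ = 0)
    (hexact : ∀ (B : Alg A) (x : X.obj (pt B)), ψ.app (pt B) x = 0 → ∃ y, k.app (pt B) y = x) :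
    IsIso (kernel.lift ψ k hzero) := by
  have hk' : Mono k := PresheafOfModules.mono_of_injective (fun ⟨⟨B⟩⟩ => hk B)
  have hm : Mono (kernel.lift ψ k hzero) := mono_of_mono_fac (kernel.lift_ι _ k hzero)
  have he : Epi (kernel.lift ψ k hzero) := by
    apply PresheafOfModules.epi_of_surjective
    rintro ⟨⟨B⟩⟩ z
    have hz : ψ.app (pt B) ((kernel.ι ψ).app (pt B) z) = 0 := by
      rw [← comp_app_apply, kernel.condition]
      rfl
    obtain ⟨y, hy⟩ := hexact B _ hz
    refine ⟨y, ?_⟩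
    have hinj : Function.Injective ((kernel.ι ψ).app (pt B)) :=
      PresheafOfModules.injective_of_mono _ _
    apply hinj
    rw [← hy, ← comp_app_apply, kernel.lift_ι]
  exact isIso_of_mono_of_epi _

theorem adequate_of_ker (hk : ∀ B : Alg A, Function.Injective (k.app (pt B)))
    (hzero : k ≫ ψ = 0)
    (hexact : ∀ (B : Alg A) (x : X.obj (pt B)), ψ.app (pt B) x = 0 → ∃ y, k.app (pt B) y = x)
    (hX : Adeq.adequate A X) (hY : Adeq.adequate A Y) : Adeq.adequate A K := by
  have := isIso_kernel_lift k ψ hk hzero hexact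
  exact (Adeq.adequate A).prop_of_iso (asIso (kernel.lift ψ k hzero)).symm
    (adequate_kernel ψ hX hY)

theorem exists_lift_of_ker (hk : ∀ B : Alg A, Function.Injective (k.app (pt B)))
    (hzero : k ≫ ψ = 0)
    (hexact : ∀ (B : Alg A) (x : X.obj (pt B)), ψ.app (pt B) x = 0 → ∃ y, k.app (pt B) y = x)
    {T : MVF A} (χ : T ⟶ X) (hχ : χ ≫ ψ = 0) : ∃ τ : T ⟶ K, τ ≫ k = χ := by
  have := isIso_kernel_lift k ψ hk hzero hexact
  refine ⟨kernel.lift ψ χ hχ ≫ inv (kernel.lift ψ k hzero), ?_⟩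
  have h1 : inv (kernel.lift ψ k hzero) ≫ k = kernel.ι ψ := by
    rw [IsIso.inv_comp_eq, kernel.lift_ι]
  rw [Category.assoc, h1, kernel.lift_ι]

variable {Q : MVF A} (δ : K ⟶ X) (p : X ⟶ Q)

theorem adequate_of_coker (hp : ∀ B : Alg A, Function.Surjective (p.app (pt B)))
    (hzero : δ ≫ p = 0)
    (hexact : ∀ (B : Alg A) (x : X.obj (pt B)), p.app (pt B) x = 0 → ∃ y, δ.app (pt B) y = x)
    (hK : Adeq.adequate A K) (hX : Adeq.adequate A X) : Adeq.adequate A Q := by
  have hp' : Epi p := PresheafOfModules.epi_of_surjective (fun ⟨⟨B⟩⟩ => hp B)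
  have he : Epi (cokernel.desc δ p hzero) := epi_of_epi_fac (cokernel.π_desc δ p hzero)
  have hm : Mono (cokernel.desc δ p hzero) := by
    apply PresheafOfModules.mono_of_injective
    rintro ⟨⟨B⟩⟩
    apply inj_of_zero
    intro z hz
    have hsurj : Function.Surjective ((cokernel.π δ).app (pt B)) :=
      PresheafOfModules.surjective_of_epi _ _
    obtain ⟨x, rfl⟩ := hsurj z
    rw [← comp_app_apply, cokernel.π_desc] at hz
    obtain ⟨y, rfl⟩ := hexact B x hz
    rw [← comp_app_apply, cokernel.condition]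
    rfl
  have : IsIso (cokernel.desc δ p hzero) := isIso_of_mono_of_epi _
  exact (Adeq.adequate A).prop_of_iso (asIso (cokernel.desc δ p hzero))
    (adequate_cokernel δ hK hX)

end Criteria

section Biprod

variable (X Y : MVF A) (B : Alg A)

lemma biprod_decomp (z : (X ⊞ Y).obj (pt B)) :
    z = (biprod.inl : X ⟶ X ⊞ Y).app (pt B) ((biprod.fst : X ⊞ Y ⟶ X).app (pt B) z) +
      (biprod.inr : Y ⟶ X ⊞ Y).app (pt B) ((biprod.snd : X ⊞ Y ⟶ Y).app (pt B) z) := by
  have h := congr_app_apply (biprod.total (X := X) (Y := Y)) B z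
  rw [add_app_apply, comp_app_apply, comp_app_apply, id_app_apply] at h
  exact h.symm

lemma fst_inl (m : X.obj (pt B)) :
    (biprod.fst : X ⊞ Y ⟶ X).app (pt B) ((biprod.inl : X ⟶ X ⊞ Y).app (pt B) m) = m := by
  rw [← comp_app_apply, biprod.inl_fst, id_app_apply]

lemma snd_inl (m : X.obj (pt B)) :
    (biprod.snd : X ⊞ Y ⟶ Y).app (pt B) ((biprod.inl : X ⟶ X ⊞ Y).app (pt B) m) = 0 := by
  rw [← comp_app_apply, biprod.inl_snd, zero_app_apply]

lemma fst_inr (w : Y.obj (pt B)) :
    (biprod.fst : X ⊞ Y ⟶ X).app (pt B) ((biprod.inr : Y ⟶ X ⊞ Y).app (pt B) w) = 0 := by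
  rw [← comp_app_apply, biprod.inr_fst, zero_app_apply]

lemma snd_inr (w : Y.obj (pt B)) :
    (biprod.snd : X ⊞ Y ⟶ Y).app (pt B) ((biprod.inr : Y ⟶ X ⊞ Y).app (pt B) w) = w := by
  rw [← comp_app_apply, biprod.inr_snd, id_app_apply]

end Biprod

/-- a cover by a coproduct of linearly adequate functors -/
theorem exists_epi_sigma (F : MVF A) (hF : Adeq.adequate A F) :
    ∃ (ι : Type (u + 1)) (L : ι → MVF A), (∀ i, Adeq.linAdequate A (L i)) ∧
      ∃ π : ∐ L ⟶ F, Epi π := by
  obtain ⟨ι, L, hL, c, hc, π, hπ⟩ := exists_epi_cofan F hF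
  refine ⟨ι, L, hL, (IsColimit.coconePointUniqueUpToIso (coproductIsCoproduct L) hc).hom ≫ π, ?_⟩
  exact epi_comp _ _

/-- Step 2: an extension of an adequate functor by `underline M` is adequate. -/
theorem adequate_ext_underline {M : ModuleCat.{u+1} A} {G' H : MVF A}
    (j : (underline A).obj M ⟶ G') (q : G' ⟶ H)
    (hj : ∀ B : Alg A, Function.Injective (j.app (pt B)))
    (hq : ∀ B : Alg A, Function.Surjective (q.app (pt B)))
    (hzero : j ≫ q = 0)
    (hexact : ∀ (B : Alg A) (x : G'.obj (pt B)), q.app (pt B) x = 0 → ∃ y, j.app (pt B) y = x)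
    (hH : Adeq.adequate A H) : Adeq.adequate A G' := by
  obtain ⟨ι, Lf, hLf, πH, hπH⟩ := exists_epi_sigma H hH
  have hlift : ∀ idx : ι, ∃ s : Lf idx ⟶ G', s ≫ q = Sigma.ι Lf idx ≫ πH := fun idx =>
    exists_lift_linAdequate (hLf idx) j q hj hq hzero hexact (dual_underline M)
      (dual_of_adequate hH) _
  choose sidx hsidx using hlift
  let s : ∐ Lf ⟶ G' := Sigma.desc sidx
  have hs : s ≫ q = πH := by
    apply Sigma.hom_ext
    intro idx
    rw [← Category.assoc, Sigma.ι_desc, hsidx]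
  have hLL : Adeq.adequate A (∐ Lf) :=
    adequate_coproduct _ fun idx => adequate_of_linAdequate (hLf idx)
  have hK : Adeq.adequate A (kernel πH) := adequate_kernel πH hLL hH
  let κ : kernel πH ⟶ ∐ Lf := kernel.ι πH
  have hκ : (κ ≫ s) ≫ q = 0 := by
    rw [Category.assoc, hs, kernel.condition]
  obtain ⟨t, ht⟩ := exists_lift_of_ker j q hj hzero hexact (κ ≫ s) hκ
  let Y : MVF A := (underline A).obj M ⊞ ∐ Lf
  let δ : kernel πH ⟶ Y := κ ≫ biprod.inr - t ≫ biprod.inl
  let p : Y ⟶ G' := biprod.fst ≫ j + biprod.snd ≫ s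
  have hπsurj : ∀ B : Alg A, Function.Surjective (πH.app (pt B)) :=
    fun B => PresheafOfModules.surjective_of_epi _ _
  have hinl : (biprod.inl : (underline A).obj M ⟶ Y) ≫ p = j := by
    change biprod.inl ≫ (biprod.fst ≫ j + biprod.snd ≫ s) = j
    rw [Preadditive.comp_add, biprod.inl_fst_assoc, biprod.inl_snd_assoc, zero_comp, add_zero]
  have hinr : (biprod.inr : ∐ Lf ⟶ Y) ≫ p = s := by
    change biprod.inr ≫ (biprod.fst ≫ j + biprod.snd ≫ s) = s
    rw [Preadditive.comp_add, biprod.inr_fst_assoc, biprod.inr_snd_assoc, zero_comp, zero_add]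
  have hjq : ∀ (B : Alg A) (m : ((underline A).obj M).obj (pt B)),
      q.app (pt B) (j.app (pt B) m) = 0 := by
    intro B m
    rw [← comp_app_apply, hzero, zero_app_apply]
  have hsq : ∀ (B : Alg A) (l : (∐ Lf).obj (pt B)),
      q.app (pt B) (s.app (pt B) l) = πH.app (pt B) l := by
    intro B l
    rw [← comp_app_apply, hs]
  refine adequate_of_coker δ p ?_ ?_ ?_ hK
    (adequate_biprod _ _ (adequate_underline M) hLL)
  · -- surjectivity
    intro B x
    obtain ⟨l, hl⟩ := hπsurj B (q.app (pt B) x)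
    have h0 : q.app (pt B) (x - s.app (pt B) l) = 0 := by
      rw [app_sub, hsq, hl, sub_self]
    obtain ⟨m, hm⟩ := hexact B _ h0
    refine ⟨(biprod.inl : (underline A).obj M ⟶ Y).app (pt B) m +
      (biprod.inr : ∐ Lf ⟶ Y).app (pt B) l, ?_⟩
    rw [app_add, ← comp_app_apply, ← comp_app_apply, hinl, hinr, hm]
    abel
  · -- composition zero
    change (κ ≫ biprod.inr - t ≫ biprod.inl) ≫ p = 0
    rw [Preadditive.sub_comp, Category.assoc, Category.assoc, hinl, hinr, ht, sub_self]
  · -- exactness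
    intro B y hy
    have hy' : j.app (pt B) ((biprod.fst : Y ⟶ _).app (pt B) y) +
        s.app (pt B) ((biprod.snd : Y ⟶ _).app (pt B) y) = 0 := by
      rw [← hy]
      rfl
    set m := (biprod.fst : Y ⟶ _).app (pt B) y with hm
    set l := (biprod.snd : Y ⟶ _).app (pt B) y with hl
    have h1 : πH.app (pt B) l = 0 := by
      have := congrArg (q.app (pt B)) hy'
      rwa [app_add, hjq, hsq, zero_add, app_zero] at this
    obtain ⟨c, hc⟩ := ker_exact πH B l h1
    have h2 : s.app (pt B) l = j.app (pt B) (t.app (pt B) c) := by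
      rw [← hc, ← comp_app_apply, ← comp_app_apply, ht]
    have h3 : m + t.app (pt B) c = 0 := by
      apply hj B
      rw [app_add, ← h2, hy', app_zero]
    refine ⟨c, ?_⟩
    change (κ ≫ biprod.inr - t ≫ biprod.inl).app (pt B) c = y
    rw [sub_app_apply, comp_app_apply, comp_app_apply]
    change (biprod.inr : ∐ Lf ⟶ Y).app (pt B) ((kernel.ι πH).app (pt B) c) - _ = _
    rw [hc, biprod_decomp _ _ B y, ← hm, ← hl]
    have h4 : t.app (pt B) c = -m := by
      rw [← add_eq_zero_iff_eq_neg, add_comm]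
      exact h3
    rw [h4, app_neg]
    abel

/-- Stacks, Adequate modules: an extension of adequate functors is adequate. -/
theorem adequate_ext (S : ShortComplex (MVF A)) (hS : S.ShortExact)
    (h₁ : Adeq.adequate A S.X₁) (h₃ : Adeq.adequate A S.X₃) : Adeq.adequate A S.X₂ := by
  obtain ⟨M, N, φ, i, hi⟩ := (adequate_iff S.X₁).1 h₁
  have := hS.mono_f
  have := hS.epi_g
  have hf : ∀ B : Alg A, Function.Injective (S.f.app (pt B)) :=
    fun B => PresheafOfModules.injective_of_mono _ _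
  have hg : ∀ B : Alg A, Function.Surjective (S.g.app (pt B)) :=
    fun B => PresheafOfModules.surjective_of_epi _ _
  have hex := exact_sectionwise S hS.exact
  let X : MVF A := (underline A).obj M ⊞ S.X₂
  let d : S.X₁ ⟶ X := i ≫ biprod.inl - S.f ≫ biprod.inr
  let π : X ⟶ cokernel d := cokernel.π d
  have hπ : ∀ B : Alg A, Function.Surjective (π.app (pt B)) :=
    fun B => PresheafOfModules.surjective_of_epi _ _
  let j : (underline A).obj M ⟶ cokernel d := biprod.inl ≫ π
  let k : S.X₂ ⟶ cokernel d := biprod.inr ≫ π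
  have hdq : d ≫ (biprod.snd ≫ S.g) = 0 := by
    change (i ≫ biprod.inl - S.f ≫ biprod.inr) ≫ (biprod.snd ≫ S.g) = 0
    rw [Preadditive.sub_comp, Category.assoc, Category.assoc, biprod.inl_snd_assoc,
      biprod.inr_snd_assoc, zero_comp, comp_zero, S.zero, sub_self]
  have hdψ : d ≫ (biprod.fst ≫ (underline A).map φ) = 0 := by
    change (i ≫ biprod.inl - S.f ≫ biprod.inr) ≫ (biprod.fst ≫ (underline A).map φ) = 0
    rw [Preadditive.sub_comp, Category.assoc, Category.assoc, biprod.inl_fst_assoc,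
      biprod.inr_fst_assoc, zero_comp, comp_zero, hi.zero, sub_self]
  let q : cokernel d ⟶ S.X₃ := cokernel.desc d (biprod.snd ≫ S.g) hdq
  let ψ : cokernel d ⟶ (underline A).obj N :=
    cokernel.desc d (biprod.fst ≫ (underline A).map φ) hdψ
  have hπq : π ≫ q = biprod.snd ≫ S.g := cokernel.π_desc _ _ _
  have hπψ : π ≫ ψ = biprod.fst ≫ (underline A).map φ := cokernel.π_desc _ _ _
  have hd_apply : ∀ (B : Alg A) (a : S.X₁.obj (pt B)), d.app (pt B) a =
      (biprod.inl : (underline A).obj M ⟶ X).app (pt B) (i.app (pt B) a) -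
      (biprod.inr : S.X₂ ⟶ X).app (pt B) (S.f.app (pt B) a) := fun B a => rfl
  have hπd : ∀ (B : Alg A) (a : S.X₁.obj (pt B)), π.app (pt B) (d.app (pt B) a) = 0 := by
    intro B a
    rw [← comp_app_apply, cokernel.condition, zero_app_apply]
  -- (A1)
  have hj : ∀ B : Alg A, Function.Injective (j.app (pt B)) := by
    intro B
    apply inj_of_zero
    intro m hm
    have hm' : π.app (pt B) ((biprod.inl : (underline A).obj M ⟶ X).app (pt B) m) = 0 := hm
    obtain ⟨a, ha⟩ := coker_exact d B _ hm'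
    have h1 := congrArg ((biprod.snd : X ⟶ S.X₂).app (pt B)) ha
    rw [hd_apply, app_sub, snd_inl, snd_inr, snd_inl, zero_sub, neg_eq_zero] at h1
    have ha0 : a = 0 := hf B (h1.trans (app_zero S.f B).symm)
    rw [ha0, app_zero] at ha
    have h2 := congrArg ((biprod.fst : X ⟶ (underline A).obj M).app (pt B)) ha
    rw [fst_inl, app_zero] at h2
    exact h2.symm
  -- (A2)
  have hkq : k ≫ q = S.g := by
    change (biprod.inr ≫ π) ≫ q = S.g
    rw [Category.assoc, hπq, biprod.inr_snd_assoc]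
  have hq : ∀ B : Alg A, Function.Surjective (q.app (pt B)) := by
    intro B h
    obtain ⟨w, rfl⟩ := hg B h
    exact ⟨k.app (pt B) w, by rw [← comp_app_apply, hkq]⟩
  -- (A3)
  have hjq : j ≫ q = 0 := by
    change (biprod.inl ≫ π) ≫ q = 0
    rw [Category.assoc, hπq, biprod.inl_snd_assoc, zero_comp]
  -- (A4)
  have hA4 : ∀ (B : Alg A) (x : (cokernel d).obj (pt B)), q.app (pt B) x = 0 →
      ∃ y, j.app (pt B) y = x := by
    intro B x hx
    obtain ⟨y, rfl⟩ := hπ B x
    rw [← comp_app_apply, hπq, comp_app_apply] at hx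
    obtain ⟨a, ha⟩ := hex B _ hx
    refine ⟨(biprod.fst : X ⟶ _).app (pt B) y + i.app (pt B) a, ?_⟩
    change π.app (pt B) ((biprod.inl : (underline A).obj M ⟶ X).app (pt B) _) = _
    have hy := biprod_decomp _ _ B y
    have h1 : (biprod.inl : (underline A).obj M ⟶ X).app (pt B)
        ((biprod.fst : X ⟶ _).app (pt B) y + i.app (pt B) a) = y + d.app (pt B) a := by
      rw [hd_apply, ha, app_add]
      calc _ = ((biprod.inl : (underline A).obj M ⟶ X).app (pt B)
              ((biprod.fst : X ⟶ _).app (pt B) y) +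
            (biprod.inr : S.X₂ ⟶ X).app (pt B) ((biprod.snd : X ⟶ _).app (pt B) y)) +
            ((biprod.inl : (underline A).obj M ⟶ X).app (pt B) (i.app (pt B) a) -
            (biprod.inr : S.X₂ ⟶ X).app (pt B) ((biprod.snd : X ⟶ _).app (pt B) y)) := by abel
        _ = _ := by rw [← hy]
    rw [h1, app_add, hπd, add_zero]
  have hG' : Adeq.adequate A (cokernel d) :=
    adequate_ext_underline j q hj hq hjq hA4 h₃
  -- (B)
  refine adequate_of_ker k ψ ?_ ?_ ?_ hG' (adequate_underline N)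
  · intro B
    apply inj_of_zero
    intro w hw
    have hw' : π.app (pt B) ((biprod.inr : S.X₂ ⟶ X).app (pt B) w) = 0 := hw
    obtain ⟨a, ha⟩ := coker_exact d B _ hw'
    have h1 := congrArg ((biprod.fst : X ⟶ (underline A).obj M).app (pt B)) ha
    rw [hd_apply, app_sub, fst_inl, fst_inr, fst_inr, sub_zero] at h1
    have ha0 : a = 0 := hi.inj B (h1.trans (app_zero i B).symm)
    rw [ha0, app_zero] at ha
    have h2 := congrArg ((biprod.snd : X ⟶ S.X₂).app (pt B)) ha
    rw [snd_inr, app_zero] at h2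
    exact h2.symm
  · change (biprod.inr ≫ π) ≫ ψ = 0
    rw [Category.assoc, hπψ, biprod.inr_fst_assoc, zero_comp]
  · intro B x hx
    obtain ⟨y, rfl⟩ := hπ B x
    rw [← comp_app_apply, hπψ, comp_app_apply] at hx
    obtain ⟨a, ha⟩ := hi.exact B _ hx
    refine ⟨S.f.app (pt B) a + (biprod.snd : X ⟶ _).app (pt B) y, ?_⟩
    change π.app (pt B) ((biprod.inr : S.X₂ ⟶ X).app (pt B) _) = _
    have hy := biprod_decomp _ _ B y
    have h1 : (biprod.inr : S.X₂ ⟶ X).app (pt B)
        (S.f.app (pt B) a + (biprod.snd : X ⟶ _).app (pt B) y) = y - d.app (pt B) a := by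
      rw [hd_apply, ha, app_add]
      calc _ = ((biprod.inl : (underline A).obj M ⟶ X).app (pt B)
              ((biprod.fst : X ⟶ _).app (pt B) y) +
            (biprod.inr : S.X₂ ⟶ X).app (pt B) ((biprod.snd : X ⟶ _).app (pt B) y)) -
            ((biprod.inl : (underline A).obj M ⟶ X).app (pt B)
              ((biprod.fst : X ⟶ _).app (pt B) y) -
            (biprod.inr : S.X₂ ⟶ X).app (pt B) (S.f.app (pt B) a)) := by abel
        _ = _ := by rw [← hy]
    rw [h1, app_sub, hπd, sub_zero]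

end

end Groth.Agent.Lib.AdeqH3
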