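import Mathlib
import Groth.Prelude.Def_Adeq
import Groth.Agent.Lib.AdeqBasic_helper3
import Groth.Agent.Lib.AdeqLift_helper3
import Groth.Agent.Lib.AdeqSES_helper3
import Groth.Agent.Lib.AdeqRestr_helper3
import Groth.Agent.Lib.AdeqPush_helper3

/-!
# Descent of adequacy along a ring map (helper3)
-/

set_option autoImplicit false
universe u

open CategoryTheory Limits TensorProduct Adeq

namespace Groth.Agent.Lib.AdeqH3

noncomputable section

variable {A : Type u} [CommRing A] {A' : Type u} [CommRing A'] [Algebra A A']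

/-- naturality of the unit `B → A' ⊗ B` -/
lemma unit_natural {B B₂ : Alg A} (g : B ⟶ B₂) :
    g ≫ Alg.unit A A' B₂ =
      Alg.unit A A' B ≫ (Alg.restr A A').map ((Alg.baseChange A A').map g) := by
  apply CommAlgCat.hom_ext
  apply DFunLike.coe_injective
  funext b
  change (1 : A') ⊗ₜ[A] g.hom b =
    Algebra.TensorProduct.map (AlgHom.id A' A') g.hom ((1 : A') ⊗ₜ[A] b)
  rw [Algebra.TensorProduct.map_tmul]
  rfl

lemma unit_hom_apply (B : Alg A) (b : B) :
    (Alg.unit A A' B).hom b = ((1 : A') ⊗ₜ[A] b : A' ⊗[A] B) := rfl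

variable (A') in
/-- the unit `F ⟶ push (restr F)` -/
def unitHom (F : MVF A) : F ⟶ (push A A').obj ((restr A A').obj F) :=
  mkHom (fun B x => pIn _ B (rIn F (bA B) (mp F (Alg.unit A A' B) x)))
    (fun B x y => by
      apply pOut_injective
      apply rOut_injective
      change mp F (Alg.unit A A' B) (x + y) = _
      rw [mp_add]
      rfl)
    (fun B b x => by
      apply pOut_injective
      apply rOut_injective
      change mp F (Alg.unit A A' B) (b • x) = _
      rw [mp_smul]
      rfl)
    (fun {B B₂} g x => by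
      apply pOut_injective
      apply rOut_injective
      change mp F (Alg.unit A A' B₂) (mp F g x) =
        mp F ((Alg.restr A A').map ((Alg.baseChange A A').map g)) (mp F (Alg.unit A A' B) x)
      rw [← mp_comp, ← mp_comp, unit_natural])

lemma unitHom_apply (F : MVF A) (B : Alg A) (x : F.obj (pt B)) :
    rOut F (bA B) (pOut _ B ((unitHom A' F).app (pt B) x)) = mp F (Alg.unit A A' B) x := rfl

/-- Stacks, Adequate modules: descent of adequacy along `A → A'`. -/
theorem adequate_descent (F : MVF A) (h₁ : Adeq.adequate A' ((restr A A').obj F))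
    (h₂ : ∀ B : Alg A, Function.Injective (F.map (ptHom (Alg.unit A A' B))) ∧
      ∀ y : F.obj (pt ((Alg.restr A A').obj ((Alg.baseChange A A').obj B))),
        F.map (ptHom (Alg.unit A A' ((Alg.restr A A').obj ((Alg.baseChange A A').obj B)))) y =
          F.map (ptHom ((Alg.restr A A').map ((Alg.baseChange A A').map (Alg.unit A A' B)))) y →
        y ∈ Set.range (F.map (ptHom (Alg.unit A A' B)))) :
    Adeq.adequate A F := by
  let G₁ : MVF A := (push A A').obj ((restr A A').obj F)
  have hG₁ : Adeq.adequate A G₁ := adequate_push _ h₁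
  let G₂ : MVF A := (push A A').obj ((restr A A').obj G₁)
  have hG₂ : Adeq.adequate A G₂ := adequate_push _ (adequate_restr _ hG₁)
  let d₀ : G₁ ⟶ G₂ := (push A A').map ((restr A A').map (unitHom A' F))
  let d₁ : G₁ ⟶ G₂ := unitHom A' G₁
  have hd₀ : ∀ (B : Alg A) (y : G₁.obj (pt B)),
      rOut F _ (pOut _ _ (rOut G₁ (bA B) (pOut _ B (d₀.app (pt B) y)))) =
        mp F (Alg.unit A A' (rA (bA B))) (rOut F (bA B) (pOut _ B y)) := fun B y => rfl
  have hd₁ : ∀ (B : Alg A) (y : G₁.obj (pt B)),
      rOut F _ (pOut _ _ (rOut G₁ (bA B) (pOut _ B (d₁.app (pt B) y)))) =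
        mp F ((Alg.restr A A').map ((Alg.baseChange A A').map (Alg.unit A A' B)))
          (rOut F (bA B) (pOut _ B y)) := fun B y => rfl
  refine adequate_of_ker (unitHom A' F) (d₀ - d₁) ?_ ?_ ?_ hG₁ hG₂
  · intro B x y hxy
    apply (h₂ B).1
    have := congrArg (fun z => rOut F (bA B) (pOut _ B z)) hxy
    exact this
  · apply hom_ext'
    intro B x
    rw [comp_app_apply, sub_app_apply, zero_app_apply, sub_eq_zero]
    apply pOut_injective
    apply rOut_injective
    apply pOut_injective
    apply rOut_injective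
    rw [hd₀, hd₁, unitHom_apply, ← mp_comp, ← mp_comp, unit_natural]
  · intro B y hy
    rw [sub_app_apply, sub_eq_zero] at hy
    have hy' := congrArg (fun z => rOut F _ (pOut _ _ (rOut G₁ (bA B) (pOut _ B z)))) hy
    simp only at hy'
    rw [hd₀, hd₁] at hy'
    obtain ⟨x, hx⟩ := (h₂ B).2 (rOut F (bA B) (pOut _ B y)) hy'
    refine ⟨x, ?_⟩
    apply pOut_injective
    apply rOut_injective
    rw [unitHom_apply]
    exact hx

end

end Groth.Agent.Lib.AdeqH3
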