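import Mathlib
import Groth.Prelude.Def_Adeq
import Groth.Agent.Lib.AdeqBasic_helper3

/-!
# Adequate functors commute with filtered colimits of algebras (helper3)
-/

set_option autoImplicit false
universe u
open CategoryTheory Limits TensorProduct Adeq
namespace Groth.Agent.Lib.AdeqH3
noncomputable section
variable {A : Type u} [CommRing A]

/-- the forgetful functor through `Under` -/
def fgt (A : Type u) [CommRing A] : Alg A ⥤ Type u :=
  (commAlgCatEquivUnder (CommRingCat.of A)).functor ⋙ Under.forget _ ⋙ forget CommRingCat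

/-- the legs of a cocone, with codomain the point -/
def cι {J : Type u} [SmallCategory J] {D : J ⥤ Alg A} (c : Cocone D) (j : J) : D.obj j ⟶ c.pt :=
  c.ι.app j

lemma cι_w {J : Type u} [SmallCategory J] {D : J ⥤ Alg A} (c : Cocone D) {j k : J} (f : j ⟶ k) :
    D.map f ≫ cι c k = cι c j := c.w f

section AlgColim

variable {J : Type u} [SmallCategory J] [IsFiltered J] {D : J ⥤ Alg A} {c : Cocone D}
  (hc : IsColimit c)

include hc in
def isColimit_fgt : IsColimit ((fgt A).mapCocone c) := by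
  have : IsConnected J := IsFiltered.isConnected J
  unfold fgt
  exact isColimitOfPreserves _ hc

include hc in
lemma alg_surj (b : c.pt) : ∃ (j : J) (x : D.obj j), (cι c j).hom x = b := by
  obtain ⟨j, x, hx⟩ := Types.jointly_surjective_of_isColimit (isColimit_fgt hc) b
  exact ⟨j, x, hx⟩

include hc in
lemma alg_inj {j : J} (x y : D.obj j) (h : (cι c j).hom x = (cι c j).hom y) :
    ∃ (k : J) (f : j ⟶ k), (D.map f).hom x = (D.map f).hom y :=
  (Types.FilteredColimit.isColimit_eq_iff' (isColimit_fgt hc) x y).1 h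

lemma cocone_w {j k : J} (f : j ⟶ k) (x : D.obj j) :
    (cι c k).hom ((D.map f).hom x) = (cι c j).hom x := by
  rw [← cι_w c f]
  rfl

include hc in
/-- maps out of a filtered colimit of algebras into a module of any universe -/
theorem exists_desc {W : Type*} [AddCommGroup W] [Module A W]
    (g : ∀ j, D.obj j →ₗ[A] W)
    (hg : ∀ {j k : J} (f : j ⟶ k) (x : D.obj j), g k ((D.map f).hom x) = g j x) :
    ∃ G : c.pt →ₗ[A] W, ∀ (j : J) (x : D.obj j), G ((cι c j).hom x) = g j x := by
  choose jb xb hb using alg_surj hc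
  have key : ∀ (j : J) (x : D.obj j), g (jb ((cι c j).hom x)) (xb ((cι c j).hom x)) = g j x := by
    intro j x
    set b := (cι c j).hom x with hbdef
    set j' := jb b
    set x' := xb b
    have hx' : (cι c j').hom x' = (cι c j).hom x := hb b
    let k := IsFiltered.max j j'
    let l : j ⟶ k := IsFiltered.leftToMax j j'
    let r : j' ⟶ k := IsFiltered.rightToMax j j'
    have h1 : (cι c k).hom ((D.map l).hom x) = (cι c k).hom ((D.map r).hom x') := by
      rw [cocone_w, cocone_w, hx']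
    obtain ⟨k', f, hf⟩ := alg_inj hc _ _ h1
    rw [← hg r x', ← hg l x, ← hg f, ← hg f, hf]
  let G₀ : c.pt → W := fun b => g (jb b) (xb b)
  have hadd : ∀ b b' : c.pt, G₀ (b + b') = G₀ b + G₀ b' := by
    intro b b'
    let k := IsFiltered.max (jb b) (jb b')
    let l : jb b ⟶ k := IsFiltered.leftToMax _ _
    let r : jb b' ⟶ k := IsFiltered.rightToMax _ _
    have h1 : b + b' = (cι c k).hom ((D.map l).hom (xb b) + (D.map r).hom (xb b')) := by
      rw [map_add, cocone_w, cocone_w, hb, hb]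
    change G₀ (b + b') = g (jb b) (xb b) + g (jb b') (xb b')
    rw [h1]
    change g _ (xb ((cι c k).hom _)) = _
    rw [key, map_add, hg, hg]
  have hsmul : ∀ (a : A) (b : c.pt), G₀ (a • b) = a • G₀ b := by
    intro a b
    have h1 : a • b = (cι c (jb b)).hom (a • xb b) := by
      rw [map_smul, hb]
    change G₀ (a • b) = a • g (jb b) (xb b)
    rw [h1]
    change g _ (xb ((cι c (jb b)).hom _)) = _
    rw [key, map_smul]
  exact ⟨{ toFun := G₀, map_add' := hadd, map_smul' := hsmul }, fun j x => key j x⟩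

end AlgColim

section Tensor

variable (M : Type (u+1)) [AddCommGroup M] [Module A M]

/-- functoriality of `B ↦ B ⊗ M` -/
def rT {B B' : Alg A} (f : B ⟶ B') : B ⊗[A] M →ₗ[A] B' ⊗[A] M := f.hom.toLinearMap.rTensor M

lemma rT_tmul {B B' : Alg A} (f : B ⟶ B') (b : B) (m : M) :
    rT M f (b ⊗ₜ[A] m) = f.hom b ⊗ₜ[A] m := rfl

lemma rT_comp {B B' B'' : Alg A} (f : B ⟶ B') (g : B' ⟶ B'') (x : B ⊗[A] M) :
    rT M (f ≫ g) x = rT M g (rT M f x) := by
  unfold rT
  rw [CommAlgCat.hom_comp, AlgHom.comp_toLinearMap, LinearMap.rTensor_comp]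
  rfl

lemma rT_id {B : Alg A} (x : B ⊗[A] M) : rT M (𝟙 B) x = x := by
  unfold rT
  rw [CommAlgCat.hom_id, AlgHom.toLinearMap_id, LinearMap.rTensor_id]
  rfl

variable {J : Type u} [SmallCategory J] [IsFiltered J] {D : J ⥤ Alg A} {c : Cocone D}
  (hc : IsColimit c)

omit [IsFiltered J] in
lemma rT_w {j k : J} (f : j ⟶ k) (s : D.obj j ⊗[A] M) :
    rT M (cι c k) (rT M (D.map f) s) = rT M (cι c j) s := by
  rw [← rT_comp, cι_w]

include hc in
lemma tens_surj (t : c.pt ⊗[A] M) :
    ∃ (j : J) (s : D.obj j ⊗[A] M), rT M (cι c j) s = t := by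
  induction t using TensorProduct.induction_on with
  | zero => exact ⟨IsFiltered.nonempty.some, 0, map_zero _⟩
  | tmul b m =>
    obtain ⟨j, x, rfl⟩ := alg_surj hc b
    exact ⟨j, x ⊗ₜ[A] m, rfl⟩
  | add t t' ht ht' =>
    obtain ⟨j, s, rfl⟩ := ht
    obtain ⟨j', s', rfl⟩ := ht'
    refine ⟨IsFiltered.max j j', rT M (D.map (IsFiltered.leftToMax j j')) s +
      rT M (D.map (IsFiltered.rightToMax j j')) s', ?_⟩
    rw [map_add, rT_w, rT_w]

/-- the diagram `j ↦ D j ⊗ M` -/
def Gf (D : J ⥤ Alg A) : J ⥤ ModuleCat.{u+1} A where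
  obj j := ModuleCat.of A (D.obj j ⊗[A] M)
  map f := ModuleCat.ofHom (rT M (D.map f))
  map_id j := by
    refine ModuleCat.hom_ext (LinearMap.ext fun x => ?_)
    change rT M (D.map (𝟙 j)) x = x
    rw [D.map_id, rT_id]
  map_comp f g := by
    refine ModuleCat.hom_ext (LinearMap.ext fun x => ?_)
    change rT M (D.map (f ≫ g)) x = rT M (D.map g) (rT M (D.map f) x)
    rw [D.map_comp, rT_comp]

include hc in
lemma tens_inj {j : J} (s : D.obj j ⊗[A] M) (hs : rT M (cι c j) s = 0) :
    ∃ (k : J) (f : j ⟶ k), rT M (D.map f) s = 0 := by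
  have hpres₂ : PreservesFilteredColimitsOfSize.{u+1, u+1}
      (forget₂ (ModuleCat.{u+1} A) AddCommGrpCat.{u+1}) :=
    { preserves_filtered_colimits := fun _ _ _ =>
        { preservesColimit := fun {F} =>
            preservesColimit_of_preserves_colimit_cocone
              (ModuleCat.FilteredColimits.colimitCoconeIsColimit F)
              (AddCommGrpCat.FilteredColimits.colimitCoconeIsColimit
                (F ⋙ forget₂ (ModuleCat.{u+1} A) AddCommGrpCat.{u+1})) } }
  have hpres₁ : PreservesFilteredColimitsOfSize.{u+1, u+1} (forget (ModuleCat.{u+1} A)) :=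
    Limits.comp_preservesFilteredColimits (forget₂ (ModuleCat.{u+1} A) AddCommGrpCat.{u+1})
      (forget AddCommGrpCat.{u+1})
  have hpres : PreservesFilteredColimitsOfSize.{u, u} (forget (ModuleCat.{u+1} A)) :=
    preservesFilteredColimitsOfSize_shrink.{u, u+1, u, u+1} _
  let Z := colimit (Gf M D)
  let ιZ : ∀ j, (Gf M D).obj j ⟶ Z := fun j => colimit.ι (Gf M D) j
  let g : ∀ j, D.obj j →ₗ[A] (M →ₗ[A] Z) := fun j =>
    (TensorProduct.mk A (D.obj j) M).compr₂ (ιZ j).hom
  have hg : ∀ {j k : J} (f : j ⟶ k) (x : D.obj j), g k ((D.map f).hom x) = g j x := by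
    intro j k f x
    ext m
    change (ιZ k).hom (((D.map f).hom x) ⊗ₜ[A] m) = (ιZ j).hom (x ⊗ₜ[A] m)
    have h1 := colimit.w (Gf M D) f
    have h2 := congrArg (fun φ => φ.hom (x ⊗ₜ[A] m)) h1
    exact h2
  obtain ⟨G, hG⟩ := exists_desc hc g hg
  let Ψ : c.pt ⊗[A] M →ₗ[A] Z := TensorProduct.lift G
  have hΨ : ∀ j : J, Ψ ∘ₗ rT M (cι c j) = (ιZ j).hom := by
    intro j
    apply TensorProduct.ext'
    intro x m
    change G ((cι c j).hom x) m = _
    rw [hG]
    rfl
  have h0 : (ιZ j).hom s = (ιZ j).hom 0 := by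
    have e1 := LinearMap.congr_fun (hΨ j) s
    have e2 : Ψ (rT M (cι c j) s) = 0 := by rw [hs, map_zero]
    exact (e1.symm.trans e2).trans (map_zero (ιZ j).hom).symm
  obtain ⟨k, f, hf⟩ := (IsColimit.eq_iff' (colimit.isColimit (Gf M D)) s 0).1 h0
  refine ⟨k, f, ?_⟩
  have : rT M (D.map f) s = rT M (D.map f) 0 := hf
  rw [this, map_zero]

end Tensor

section Main

variable {J : Type u} [SmallCategory J] [IsFiltered J] {D : J ⥤ Alg A} {c : Cocone D}
  (hc : IsColimit c) {F : MVF A} {M N : ModuleCat.{u+1} A} {φ : M ⟶ N}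
  {i : F ⟶ (underline A).obj M} (hi : IsKer φ i)

lemma toT_mp' {M : ModuleCat.{u+1} A} {B B' : Alg A} (f : B ⟶ B')
    (x : ((underline A).obj M).obj (pt B)) :
    toT (mp ((underline A).obj M) f x) = rT M f (toT x) := rfl

lemma baseChange_rT {M N : ModuleCat.{u+1} A} (φ : M ⟶ N) {B B' : Alg A} (f : B ⟶ B')
    (t : B ⊗[A] M) : φ.hom.baseChange B' (rT M f t) = rT N f (φ.hom.baseChange B t) := by
  induction t using TensorProduct.induction_on with
  | zero => simp
  | tmul b m => rfl
  | add x y hx hy => rw [map_add, map_add, hx, hy, map_add, map_add]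

include hc hi in
lemma F_inj0 {j : J} (x : F.obj (pt (D.obj j))) (hx : mp F (cι c j) x = 0) :
    ∃ (k : J) (f : j ⟶ k), mp F (D.map f) x = 0 := by
  have h1 : rT M (cι c j) (toT (i.app _ x)) = 0 := by
    rw [← toT_mp', ← naturality, hx, app_zero]
    rfl
  obtain ⟨k, f, hf⟩ := tens_inj M hc _ h1
  refine ⟨k, f, ?_⟩
  apply hi.inj
  rw [naturality, app_zero]
  apply toT_injective
  rw [toT_mp', hf]
  rfl

include hc hi in
lemma F_inj {j : J} (x y : F.obj (pt (D.obj j))) (h : mp F (cι c j) x = mp F (cι c j) y) :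
    ∃ (k : J) (f : j ⟶ k), mp F (D.map f) x = mp F (D.map f) y := by
  obtain ⟨k, f, hf⟩ := F_inj0 hc hi (x - y) (by rw [mp_sub, h, sub_self])
  exact ⟨k, f, sub_eq_zero.1 (by rw [← mp_sub, hf])⟩

include hc hi in
lemma F_surj (z : F.obj (pt c.pt)) :
    ∃ (j : J) (x : F.obj (pt (D.obj j))), mp F (cι c j) x = z := by
  obtain ⟨j, t, ht⟩ := tens_surj M hc (toT (i.app _ z))
  have h1 : rT N (cι c j) (φ.hom.baseChange _ t) = 0 := by
    rw [← baseChange_rT, ht, ← toT_app, hi.zero_apply]
    rfl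
  obtain ⟨k, f, hf⟩ := tens_inj N hc _ h1
  have h2 : ((underline A).map φ).app (pt (D.obj k)) (ofT (rT M (D.map f) t)) = 0 := by
    apply toT_injective
    rw [toT_app, toT_ofT, baseChange_rT, hf]
    rfl
  obtain ⟨x, hx⟩ := hi.exact _ _ h2
  refine ⟨k, x, ?_⟩
  apply hi.inj
  rw [naturality, hx]
  apply toT_injective
  rw [toT_mp', toT_ofT, rT_w, ht]

include hc hi in
theorem isColimit_of_isKer : Nonempty (IsColimit (F.toAb.mapCocone c)) := by
  have hpres₁ : PreservesFilteredColimitsOfSize.{u, u} (forget AddCommGrpCat.{u+1}) :=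
    preservesFilteredColimitsOfSize_shrink.{u, u+1, u, u+1} _
  have hrefl : ReflectsColimit (D ⋙ F.toAb) (forget AddCommGrpCat.{u+1}) :=
    reflectsColimit_of_reflectsIsomorphisms _ _
  refine ⟨isColimitOfReflects (forget AddCommGrpCat.{u+1})
    (Types.FilteredColimit.isColimitOf' _ _ ?_ ?_)⟩
  · intro z
    obtain ⟨j, x, hx⟩ := F_surj hc hi z
    exact ⟨j, x, hx.symm⟩
  · intro j x y h
    exact F_inj hc hi x y h

end Main

end
end Groth.Agent.Lib.AdeqH3

namespace Groth.Agent.Lib.AdeqH3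

open CategoryTheory Limits Adeq

theorem isColimit_of_adequate {A : Type u} [CommRing A] (F : Adeq.MVF A)
    (hF : Adeq.adequate A F) {J : Type u} [SmallCategory J] [IsFiltered J] (D : J ⥤ Adeq.Alg A)
    (c : Cocone D) (hc : IsColimit c) : Nonempty (IsColimit (F.toAb.mapCocone c)) := by
  obtain ⟨M, N, φ, i, hi⟩ := (adequate_iff F).1 hF
  exact isColimit_of_isKer hc hi

end Groth.Agent.Lib.AdeqH3
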