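import Mathlib
import Groth.Prelude.Def_Adeq
import Groth.Agent.Lib.AdeqBasic_helper3

/-!
# Adequate functors commute with flat base change (helper3)
-/

set_option autoImplicit false
universe u

open CategoryTheory Limits TensorProduct Adeq

namespace Groth.Agent.Lib.AdeqH3

noncomputable section

section Generic

variable {A B B' : Type u} [CommRing A] [CommRing B] [CommRing B'] [Algebra A B] [Algebra A B']
  [Algebra B B'] [IsScalarTower A B B']
  {M N : Type (u+1)} [AddCommGroup M] [Module A M] [AddCommGroup N] [Module A N]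

/-- `b ⊗ m ↦ f(b) ⊗ m` -/
def upT (A B B' : Type u) [CommRing A] [CommRing B] [CommRing B'] [Algebra A B] [Algebra A B']
    [Algebra B B'] [IsScalarTower A B B'] (M : Type (u+1)) [AddCommGroup M] [Module A M] :
    B ⊗[A] M →ₗ[A] B' ⊗[A] M :=
  ((Algebra.linearMap B B').restrictScalars A).rTensor M

lemma upT_tmul (b : B) (m : M) : upT A B B' M (b ⊗ₜ m) = algebraMap B B' b ⊗ₜ m := rfl

/-- the cancellation isomorphism -/
def cM (A B B' : Type u) [CommRing A] [CommRing B] [CommRing B'] [Algebra A B] [Algebra A B']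
    [Algebra B B'] [IsScalarTower A B B'] (M : Type (u+1)) [AddCommGroup M] [Module A M] :
    B' ⊗[B] (B ⊗[A] M) ≃ₗ[B'] B' ⊗[A] M :=
  TensorProduct.AlgebraTensorModule.cancelBaseChange A B B' B' M

lemma cM_tmul (s : B') (y : B ⊗[A] M) : cM A B B' M (s ⊗ₜ y) = s • upT A B B' M y := by
  induction y using TensorProduct.induction_on with
  | zero => simp
  | tmul b m =>
    unfold cM
    rw [TensorProduct.AlgebraTensorModule.cancelBaseChange_tmul, upT_tmul,
      TensorProduct.smul_tmul', Algebra.smul_def, smul_eq_mul, mul_comm]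
  | add y z hy hz =>
    rw [TensorProduct.tmul_add, map_add, map_add, smul_add, hy, hz]

lemma cM_natural (φ : M →ₗ[A] N) (w : B' ⊗[B] (B ⊗[A] M)) :
    cM A B B' N ((φ.baseChange B).lTensor B' w) = φ.baseChange B' (cM A B B' M w) := by
  induction w using TensorProduct.induction_on with
  | zero => simp
  | tmul s y =>
    rw [LinearMap.lTensor_tmul, cM_tmul, cM_tmul, map_smul]
    congr 1
    induction y using TensorProduct.induction_on with
    | zero => simp
    | tmul b m => rfl
    | add y z hy hz => rw [map_add, map_add, map_add, map_add, hy, hz]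
  | add w w' hw hw' => rw [map_add, map_add, map_add, map_add, hw, hw']

variable [Module.Flat B B'] (φ : M →ₗ[A] N)
  {X : Type (u+1)} [AddCommGroup X] [Module B X] {Y : Type (u+1)} [AddCommGroup Y] [Module B' Y]
  (iB : X →ₗ[B] B ⊗[A] M) (hiB : Function.Injective iB)
  (hexB : ∀ y, φ.baseChange B y = 0 → ∃ x, iB x = y) (hzB : ∀ x, φ.baseChange B (iB x) = 0)
  (iB' : Y →ₗ[B'] B' ⊗[A] M) (hiB' : Function.Injective iB')
  (hexB' : ∀ y, φ.baseChange B' y = 0 → ∃ x, iB' x = y) (hzB' : ∀ x, φ.baseChange B' (iB' x) = 0)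
  (β : B' ⊗[B] X →+ Y) (hβ : ∀ s x, iB' (β (s ⊗ₜ x)) = s • upT A B B' M (iB x))

include hiB hexB hzB hiB' hexB' hzB' hβ in
theorem bijective_generic : Function.Bijective β := by
  have hcomm : ∀ z, iB' (β z) = cM A B B' M (iB.lTensor B' z) := by
    intro z
    induction z using TensorProduct.induction_on with
    | zero => simp
    | tmul s x => rw [hβ, LinearMap.lTensor_tmul, cM_tmul]
    | add z z' hz hz' => rw [map_add, map_add, map_add, map_add, hz, hz']
  have hinj : Function.Injective (iB.lTensor B') :=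
    Module.Flat.lTensor_preserves_injective_linearMap iB hiB
  have hexact : Function.Exact (iB.lTensor B') ((φ.baseChange B).lTensor B') := by
    apply Module.Flat.lTensor_exact B'
    intro y
    constructor
    · intro hy
      exact hexB y hy
    · rintro ⟨x, rfl⟩
      exact hzB x
  constructor
  · rw [injective_iff_map_eq_zero]
    intro z hz
    have h1 : cM A B B' M (iB.lTensor B' z) = 0 := by rw [← hcomm, hz, map_zero]
    have h2 : iB.lTensor B' z = 0 := by
      have := (cM A B B' M).injective (h1.trans (map_zero _).symm)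
      exact this
    exact hinj (h2.trans (map_zero _).symm)
  · intro y
    let w := (cM A B B' M).symm (iB' y)
    have hw : cM A B B' M w = iB' y := (cM A B B' M).apply_symm_apply _
    have h1 : (φ.baseChange B).lTensor B' w = 0 := by
      apply (cM A B B' N).injective
      rw [cM_natural, hw, map_zero]
      exact hzB' y
    obtain ⟨z, hz⟩ := (hexact w).1 h1
    refine ⟨z, ?_⟩
    apply hiB'
    rw [hcomm, hz, hw]

end Generic

variable {A : Type u} [CommRing A]

open ChangeOfRings in
lemma bc_one_tmul (F : MVF A) {B B' : Alg A} (f : B ⟶ B') (x : F.obj (pt B)) :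
    (F.bc f).hom (((1 : B') : ((ModuleCat.restrictScalars f.hom.toRingHom).obj
      (ModuleCat.of (B' : Type u) (B' : Type u)))) ⊗ₜ[(B : Type u)] x) = mp F f x := by
  have h2 : (ModuleCat.extendRestrictScalarsAdj.{u+1,u,u} f.hom.toRingHom).homEquiv _ _ (F.bc f) =
      F.map (ptHom f) := by
    unfold Adeq.MVF.bc
    rw [Equiv.apply_symm_apply]
  change ((ModuleCat.extendRestrictScalarsAdj.{u+1,u,u} f.hom.toRingHom).homEquiv _ _ (F.bc f)) x = _
  rw [h2]
  rfl

open ChangeOfRings in
/-- pure tensors in the extension of scalars -/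
def tmk (F : MVF A) {B B' : Alg A} (f : B ⟶ B') (s : B') (x : F.obj (pt B)) :
    ((ModuleCat.extendScalars f.hom.toRingHom).obj (F.obj (pt B)) : Type (u+1)) :=
  ((s : ((ModuleCat.restrictScalars f.hom.toRingHom).obj
      (ModuleCat.of (B' : Type u) (B' : Type u)))) ⊗ₜ[(B : Type u)] x)

lemma tmk_smul (F : MVF A) {B B' : Alg A} (f : B ⟶ B') (s : B') (x : F.obj (pt B)) :
    tmk F f s x = s • tmk F f 1 x := by
  have h := ModuleCat.ExtendScalars.smul_tmul (f := f.hom.toRingHom) (M := F.obj (pt B)) s (1 : B') x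
  have h2 : s * (1 : B') = s := mul_one s
  calc tmk F f s x = tmk F f (s * 1) x := by rw [h2]
    _ = s • tmk F f 1 x := h.symm

lemma bc_tmk (F : MVF A) {B B' : Alg A} (f : B ⟶ B') (s : B') (x : F.obj (pt B)) :
    (F.bc f).hom (tmk F f s x) = s • mp F f x := by
  rw [tmk_smul, map_smul]
  congr 1
  exact bc_one_tmul F f x

/-- Stacks, Adequate modules: flat base change for adequate functors. -/
theorem isIso_bc (F : MVF A) (hF : Adeq.adequate A F) {B B' : Alg A} (f : B ⟶ B')
    (hf : f.hom.toRingHom.Flat) : IsIso (F.bc f) := by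
  obtain ⟨M, N, φ, i, hi⟩ := (adequate_iff F).1 hF
  letI alg : Algebra B B' := f.hom.toRingHom.toAlgebra
  haveI : Module.Flat B B' := hf
  haveI : IsScalarTower A B B' :=
    IsScalarTower.of_algebraMap_eq (fun a => (f.hom.commutes a).symm)
  let iB : F.obj (pt B) →ₗ[B] B ⊗[A] M := (i.app (pt B)).hom
  let iB' : F.obj (pt B') →ₗ[B'] B' ⊗[A] M := (i.app (pt B')).hom
  let β : B' ⊗[B] F.obj (pt B) →+ F.obj (pt B') := ((F.bc f).hom).toAddMonoidHom
  have hbij : Function.Bijective β := by
    refine bijective_generic φ.hom iB (hi.inj B) ?_ ?_ iB' (hi.inj B') ?_ ?_ β ?_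
    · intro y hy
      exact hi.exact B (ofT y) hy
    · intro x
      exact hi.zero_apply B x
    · intro y hy
      exact hi.exact B' (ofT y) hy
    · intro x
      exact hi.zero_apply B' x
    · intro s x
      have h3 : β (s ⊗ₜ[B] x) = s • mp F f x := bc_tmk F f s x
      rw [h3]
      change toT (i.app (pt B') (s • mp F f x)) = _
      rw [app_smul, naturality, toT_smul, toT_mp]
      rfl
  rw [ConcreteCategory.isIso_iff_bijective]
  exact hbij

end

end Groth.Agent.Lib.AdeqH3
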