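import Mathlib
import Groth.Prelude.Def_Adeq2
import Groth.Agent.Lib.AdeqDescent_helper3

/-!
# Sheaf-level adequate modules, part A (helper4)

Sectionwise access to `Adeq.toMVFPre`, and comparison isomorphisms between the module-valued
functors attached to one presheaf of modules through different "charts":

* `nonempty_iso_of_sections`: an isomorphism of module-valued functors from sectionwise data.
* `pm`: restriction maps of a presheaf of modules on the big site, as plain functions.
* `fOut`, `fIn`: the identity casts between `F_{P,R}(B)` and `P(Spec B → S)`.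
* `restr_iso`: `restr R R' F_{P,R,a} ≅ F_{P,R',a'}` for `a' = Spec(R → R') ≫ a`.
* `pull_iso`: `F_{f^*M,R,a} ≅ F_{M,R,a ≫ f}`.
* `toMVFPre_congr`: dependence on the chart only through the morphism `a`.
-/

set_option autoImplicit false
universe u

open CategoryTheory Limits TensorProduct Adeq AlgebraicGeometry Opposite
open Groth.Agent.Lib.AdeqH3

namespace Groth.Agent.Lib.AdeqShH4

noncomputable section

section Generic

variable {A : Type u} [CommRing A]

/-- An isomorphism of module-valued functors from sectionwise bijections. -/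
theorem nonempty_iso_of_sections (F G : MVF A)
    (s : ∀ B : Alg A, F.obj (pt B) → G.obj (pt B))
    (t : ∀ B : Alg A, G.obj (pt B) → F.obj (pt B))
    (hst : ∀ B x, t B (s B x) = x) (hts : ∀ B y, s B (t B y) = y)
    (hadd : ∀ B x y, s B (x + y) = s B x + s B y)
    (hsmul : ∀ (B : Alg A) (b : B) x, s B (b • x) = b • s B x)
    (hnat : ∀ {B B' : Alg A} (g : B ⟶ B') x, s B' (mp F g x) = mp G g (s B x)) :
    Nonempty (F ≅ G) := by
  have hinj : ∀ B, Function.Injective (s B) := fun B x y h => by
    rw [← hst B x, ← hst B y, h]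
  refine ⟨⟨mkHom s hadd hsmul hnat, mkHom t ?_ ?_ ?_, ?_, ?_⟩⟩
  · intro B x y
    apply hinj
    rw [hadd, hts, hts, hts]
  · intro B b x
    apply hinj
    rw [hsmul, hts, hts]
  · intro B B' g x
    apply hinj
    rw [hnat, hts, hts]
  · apply hom_ext'
    intro B x
    rw [comp_app_apply, mkHom_app, mkHom_app, hst]
    rfl
  · apply hom_ext'
    intro B x
    rw [comp_app_apply, mkHom_app, mkHom_app, hts]
    rfl

end Generic

variable (K : Precoverage Scheme.{u}) [BigSite.OSh K] {S : Scheme.{u}}

section Pm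

variable {K}
variable (P : PresheafOfModules.{u + 1} (BigSite.ORing K S).obj)

/-- restriction maps of a presheaf of modules as plain functions -/
def pm {X Y : Over S} (f : X ⟶ Y) (x : P.obj (op Y)) : P.obj (op X) := P.presheaf.map f.op x

lemma pm_add {X Y : Over S} (f : X ⟶ Y) (x y : P.obj (op Y)) :
    pm P f (x + y) = pm P f x + pm P f y := map_add (P.presheaf.map f.op).hom x y

lemma pm_zero {X Y : Over S} (f : X ⟶ Y) : pm P f (0 : P.obj (op Y)) = 0 :=
  map_zero (P.presheaf.map f.op).hom

lemma pm_comp {X Y Z : Over S} (f : X ⟶ Y) (g : Y ⟶ Z) (x : P.obj (op Z)) :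
    pm P f (pm P g x) = pm P (f ≫ g) x := by
  change P.presheaf.map f.op (P.presheaf.map g.op x) = P.presheaf.map (f ≫ g).op x
  rw [CategoryTheory.op_comp, CategoryTheory.Functor.map_comp]
  rfl

lemma pm_id {X : Over S} (x : P.obj (op X)) : pm P (𝟙 X) x = x := by
  have h : P.presheaf.map (𝟙 X).op = 𝟙 _ := by rw [CategoryTheory.op_id, CategoryTheory.Functor.map_id]
  exact congrArg (fun φ : P.presheaf.obj (op X) ⟶ P.presheaf.obj (op X) =>
    (ConcreteCategory.hom φ) x) h

lemma pm_smul {X Y : Over S} (f : X ⟶ Y) (r : (BigSite.ORing K S).obj.obj (op Y)) (x : P.obj (op Y)) :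
    pm P f (r • x) = ((BigSite.ORing K S).obj.map f.op r) • pm P f x :=
  P.map_smul f.op r x

lemma pm_iso_hom_inv {X Y : Over S} (e : X ≅ Y) (x : P.obj (op X)) :
    pm P e.hom (pm P e.inv x) = x := by
  rw [pm_comp, e.hom_inv_id, pm_id]

lemma pm_iso_inv_hom {X Y : Over S} (e : X ≅ Y) (x : P.obj (op Y)) :
    pm P e.inv (pm P e.hom x) = x := by
  rw [pm_comp, e.inv_hom_id, pm_id]

/-- the structure sheaf does not see morphisms whose underlying morphism of schemes is an
identity -/
lemma oring_map_of_left_eq_id {T : Scheme.{u}} {g g' : T ⟶ S} (f : Over.mk g ⟶ Over.mk g')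
    (hf : f.left = 𝟙 T) (r : (BigSite.ORing K S).obj.obj (op (Over.mk g'))) :
    (BigSite.ORing K S).obj.map f.op r = r := by
  have h0 : BigSite.gammaPre.map (𝟙 T : T ⟶ T).op = 𝟙 (BigSite.gammaPre.obj (op T)) := by
    rw [CategoryTheory.op_id, CategoryTheory.Functor.map_id]
  have h : BigSite.gammaPre.map f.left.op = 𝟙 (BigSite.gammaPre.obj (op T)) := by
    rw [hf]; exact h0
  exact congrArg (fun φ : BigSite.gammaPre.obj (op T) ⟶ BigSite.gammaPre.obj (op T) =>
    (ConcreteCategory.hom φ) r) h

end Pm

section Sections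

variable {R : CommRingCat.{u}} (a : Spec R ⟶ S)
  (P : PresheafOfModules.{u + 1} (BigSite.ORing K S).obj)

/-- the identity cast from `F_{P,R}(B)` to `P(Spec B → S)` -/
def fOut (B : Alg R) (x : ((toMVFPre K a).obj P).obj (pt B)) :
    P.obj (op ((specOver a).obj (op B))) := x

/-- the identity cast from `P(Spec B → S)` to `F_{P,R}(B)` -/
def fIn (B : Alg R) (x : P.obj (op ((specOver a).obj (op B)))) :
    ((toMVFPre K a).obj P).obj (pt B) := x

lemma fOut_fIn (B : Alg R) (x : P.obj (op ((specOver a).obj (op B)))) :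
    fOut K a P B (fIn K a P B x) = x := rfl

lemma fIn_fOut (B : Alg R) (x : ((toMVFPre K a).obj P).obj (pt B)) :
    fIn K a P B (fOut K a P B x) = x := rfl

lemma fOut_injective (B : Alg R) : Function.Injective (fOut K a P B) := fun _ _ h => h

lemma fOut_add (B : Alg R) (x y : ((toMVFPre K a).obj P).obj (pt B)) :
    fOut K a P B (x + y) = fOut K a P B x + fOut K a P B y := rfl

lemma fOut_zero (B : Alg R) : fOut K a P B 0 = 0 := rfl

lemma fOut_smul (B : Alg R) (b : B) (x : ((toMVFPre K a).obj P).obj (pt B)) :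
    fOut K a P B (b • x) = toSect K a B b • fOut K a P B x := rfl

lemma fOut_mp {B B' : Alg R} (f : B ⟶ B') (x : ((toMVFPre K a).obj P).obj (pt B)) :
    fOut K a P B' (mp _ f x) = pm P ((specOver a).map f.op) (fOut K a P B x) := rfl

lemma fOut_map {Q : PresheafOfModules.{u + 1} (BigSite.ORing K S).obj} (ψ : P ⟶ Q) (B : Alg R)
    (x : ((toMVFPre K a).obj P).obj (pt B)) :
    fOut K a Q B (((toMVFPre K a).map ψ).app (pt B) x) =
      ψ.app (op ((specOver a).obj (op B))) (fOut K a P B x) := rfl

end Sections

section Restr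

variable {R : CommRingCat.{u}} (a : Spec R ⟶ S) (R' : Type u) [CommRing R'] [Algebra R R']
  (P : PresheafOfModules.{u + 1} (BigSite.ORing K S).obj)

/-- the chart of an `R`-algebra `R'` -/
def aRestr : Spec (CommRingCat.of R') ⟶ S := Spec.map (CommRingCat.ofHom (algebraMap R R')) ≫ a

lemma restr_w (B : Alg R') :
    Spec.map (CommRingCat.ofHom (algebraMap R (rA (A := R) B))) ≫ a =
      Spec.map (CommRingCat.ofHom (algebraMap R' B)) ≫ aRestr a R' := by
  unfold aRestr
  rw [← Category.assoc, ← Spec.map_comp, ← CommRingCat.ofHom_comp]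

lemma restrObjIso_w (B : Alg R') :
    (Iso.refl (Spec (CommRingCat.of B))).hom ≫ ((specOver a).obj (op (rA (A := R) B))).hom =
      ((specOver (aRestr a R')).obj (op B)).hom :=
  (Category.id_comp _).trans (restr_w a R' B)

/-- the two objects of the big site attached to an `R'`-algebra -/
def restrObjIso (B : Alg R') :
    (specOver (aRestr a R')).obj (op B) ≅ (specOver a).obj (op (rA (A := R) B)) :=
  Over.isoMk (Iso.refl (Spec (CommRingCat.of B))) (restrObjIso_w a R' B)

lemma restrObjIso_hom_left (B : Alg R') :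
    (restrObjIso a R' B).hom.left = 𝟙 (Spec (CommRingCat.of B)) := rfl

lemma specOver_map_left {B B' : Alg R} (g : B ⟶ B') :
    ((specOver a).map g.op).left = Spec.map (CommRingCat.ofHom g.hom.toRingHom) := rfl

lemma restr_map_hom {B B' : Alg R'} (g : B ⟶ B') :
    ((Alg.restr R R').map g).hom.toRingHom = g.hom.toRingHom := rfl

lemma restrObjIso_natural_left {B B' : Alg R'} (g : B ⟶ B') :
    (restrObjIso a R' B').hom.left ≫ ((specOver a).map ((Alg.restr R R').map g).op).left =
      ((specOver (aRestr a R')).map g.op).left ≫ (restrObjIso a R' B).hom.left := by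
  rw [restrObjIso_hom_left, restrObjIso_hom_left, specOver_map_left, specOver_map_left,
    restr_map_hom]
  exact (Category.id_comp _).trans (Category.comp_id _).symm

lemma restrObjIso_natural {B B' : Alg R'} (g : B ⟶ B') :
    (restrObjIso a R' B').hom ≫ (specOver a).map ((Alg.restr R R').map g).op =
      (specOver (aRestr a R')).map g.op ≫ (restrObjIso a R' B).hom :=
  Over.OverMorphism.ext (restrObjIso_natural_left a R' g)

lemma toSect_restrObjIso (B : Alg R') (b : B) :
    (BigSite.ORing K S).obj.map (restrObjIso a R' B).hom.op (toSect K a (rA (A := R) B) b) =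
      toSect K (aRestr a R') B b :=
  oring_map_of_left_eq_id (K := K)
    (g := Spec.map (CommRingCat.ofHom (algebraMap R' B)) ≫ aRestr a R')
    (g' := Spec.map (CommRingCat.ofHom (algebraMap R (rA (A := R) B))) ≫ a)
    (restrObjIso a R' B).hom (restrObjIso_hom_left a R' B) (toSect K a (rA (A := R) B) b)

/-- `restr R R' F_{P,R,a} ≅ F_{P,R',a'}` for `a' = Spec(R → R') ≫ a`. -/
theorem restr_iso :
    Nonempty ((restr R R').obj ((toMVFPre K a).obj P) ≅ (toMVFPre K (aRestr a R')).obj P) := by
  refine nonempty_iso_of_sections _ _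
    (fun B x => fIn K (aRestr a R') P B
      (pm P (restrObjIso a R' B).hom (fOut K a P (rA B) (rOut _ B x))))
    (fun B y => rIn _ B (fIn K a P (rA B)
      (pm P (restrObjIso a R' B).inv (fOut K (aRestr a R') P B y)))) ?_ ?_ ?_ ?_ ?_
  · intro B x
    apply rOut_injective
    apply fOut_injective
    rw [rOut_rIn, fOut_fIn, fOut_fIn, pm_iso_inv_hom]
  · intro B y
    apply fOut_injective
    rw [fOut_fIn, rOut_rIn, fOut_fIn, pm_iso_hom_inv]
  · intro B x y
    apply fOut_injective
    rw [fOut_fIn, fOut_add, fOut_fIn, fOut_fIn, rOut_add, fOut_add, pm_add]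
  · intro B b x
    apply fOut_injective
    rw [fOut_fIn, fOut_smul, fOut_fIn, rOut_smul, fOut_smul, pm_smul]
    exact congrArg (fun r => r • pm P (restrObjIso a R' B).hom
      (fOut K a P (rA B) (rOut ((toMVFPre K a).obj P) B x))) (toSect_restrObjIso K a R' B b)
  · intro B B' g x
    apply fOut_injective
    rw [fOut_fIn, fOut_mp, fOut_fIn, rOut_mp, fOut_mp, pm_comp, pm_comp, restrObjIso_natural]

end Restr

section Pull

variable {T : Scheme.{u}} (f : T ⟶ S) {R : CommRingCat.{u}} (a : Spec R ⟶ T)
  (M : BigSite.Mod K S)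

/-- sections of the pullback `f^* M` over `U/T` are sections of `M` over `U/S` -/
def plOut (U : Over T) (x : ((BigSite.pullMod K f).obj M).val.obj (op U)) :
    M.val.obj (op ((Over.map f).obj U)) := x

/-- sections of the pullback `f^* M` over `U/T` are sections of `M` over `U/S` -/
def plIn (U : Over T) (x : M.val.obj (op ((Over.map f).obj U))) :
    ((BigSite.pullMod K f).obj M).val.obj (op U) := x

lemma plOut_plIn (U : Over T) (x : M.val.obj (op ((Over.map f).obj U))) :
    plOut K f M U (plIn K f M U x) = x := rfl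

lemma plIn_plOut (U : Over T) (x : ((BigSite.pullMod K f).obj M).val.obj (op U)) :
    plIn K f M U (plOut K f M U x) = x := rfl

lemma plOut_injective (U : Over T) : Function.Injective (plOut K f M U) := fun _ _ h => h

lemma plOut_add (U : Over T) (x y : ((BigSite.pullMod K f).obj M).val.obj (op U)) :
    plOut K f M U (x + y) = plOut K f M U x + plOut K f M U y := rfl

lemma plOut_pm {U V : Over T} (g : U ⟶ V) (x : ((BigSite.pullMod K f).obj M).val.obj (op V)) :
    plOut K f M U (pm _ g x) = pm M.val ((Over.map f).map g) (plOut K f M V x) := rfl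

/-- the ring of functions on `U/T` is the ring of functions on `U/S` -/
def oOut (U : Over T) (r : (BigSite.ORing K T).obj.obj (op U)) :
    (BigSite.ORing K S).obj.obj (op ((Over.map f).obj U)) := r

lemma plOut_smul (U : Over T) (r : (BigSite.ORing K T).obj.obj (op U))
    (x : ((BigSite.pullMod K f).obj M).val.obj (op U)) :
    plOut K f M U (r • x) = oOut K f U r • plOut K f M U x := rfl

lemma pullObjIso_w (B : Alg R) :
    (Iso.refl (Spec (CommRingCat.of B))).hom ≫
        ((Over.map f).obj ((specOver a).obj (op B))).hom =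
      ((specOver (a ≫ f)).obj (op B)).hom :=
  (Category.id_comp _).trans (Category.assoc _ _ _)

/-- the two objects of the big site of `S` attached to an `R`-algebra -/
def pullObjIso (B : Alg R) :
    (specOver (a ≫ f)).obj (op B) ≅ (Over.map f).obj ((specOver a).obj (op B)) :=
  Over.isoMk (Iso.refl (Spec (CommRingCat.of B))) (pullObjIso_w f a B)

lemma pullObjIso_hom_left (B : Alg R) :
    (pullObjIso f a B).hom.left = 𝟙 (Spec (CommRingCat.of B)) := rfl

lemma pullObjIso_natural_left {B B' : Alg R} (g : B ⟶ B') :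
    (pullObjIso f a B').hom.left ≫ ((Over.map f).map ((specOver a).map g.op)).left =
      ((specOver (a ≫ f)).map g.op).left ≫ (pullObjIso f a B).hom.left := by
  rw [pullObjIso_hom_left, pullObjIso_hom_left]
  exact (Category.id_comp _).trans (Category.comp_id _).symm

lemma pullObjIso_natural {B B' : Alg R} (g : B ⟶ B') :
    (pullObjIso f a B').hom ≫ (Over.map f).map ((specOver a).map g.op) =
      (specOver (a ≫ f)).map g.op ≫ (pullObjIso f a B).hom :=
  Over.OverMorphism.ext (pullObjIso_natural_left f a g)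

lemma toSect_pullObjIso (B : Alg R) (b : B) :
    (BigSite.ORing K S).obj.map (pullObjIso f a B).hom.op
        (oOut K f ((specOver a).obj (op B)) (toSect K a B b)) =
      toSect K (a ≫ f) B b :=
  oring_map_of_left_eq_id (K := K)
    (g := Spec.map (CommRingCat.ofHom (algebraMap R B)) ≫ a ≫ f)
    (g' := (Spec.map (CommRingCat.ofHom (algebraMap R B)) ≫ a) ≫ f)
    (pullObjIso f a B).hom (pullObjIso_hom_left f a B)
    (oOut K f ((specOver a).obj (op B)) (toSect K a B b))

/-- `F_{f^* M, R, a} ≅ F_{M, R, a ≫ f}`. -/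
theorem pull_iso :
    Nonempty ((toMVF K a).obj ((BigSite.pullMod K f).obj M) ≅ (toMVF K (a ≫ f)).obj M) := by
  change Nonempty ((toMVFPre K a).obj ((BigSite.pullMod K f).obj M).val ≅
    (toMVFPre K (a ≫ f)).obj M.val)
  refine nonempty_iso_of_sections _ _
    (fun B x => fIn K (a ≫ f) M.val B
      (pm M.val (pullObjIso f a B).hom (plOut K f M _ (fOut K a _ B x))))
    (fun B y => fIn K a _ B (plIn K f M _
      (pm M.val (pullObjIso f a B).inv (fOut K (a ≫ f) M.val B y)))) ?_ ?_ ?_ ?_ ?_
  · intro B x
    apply fOut_injective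
    apply plOut_injective
    rw [fOut_fIn, plOut_plIn, fOut_fIn, pm_iso_inv_hom]
  · intro B y
    apply fOut_injective
    rw [fOut_fIn, fOut_fIn, plOut_plIn, pm_iso_hom_inv]
  · intro B x y
    apply fOut_injective
    rw [fOut_fIn, fOut_add, fOut_add, fOut_fIn, fOut_fIn, plOut_add, pm_add]
  · intro B b x
    apply fOut_injective
    rw [fOut_fIn, fOut_smul, fOut_smul, fOut_fIn, plOut_smul, pm_smul]
    exact congrArg (fun r => r • pm M.val (pullObjIso f a B).hom
      (plOut K f M _ (fOut K a _ B x))) (toSect_pullObjIso K f a B b)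
  · intro B B' g x
    apply fOut_injective
    rw [fOut_fIn, fOut_mp, fOut_mp, fOut_fIn, plOut_pm, pm_comp, pm_comp, pullObjIso_natural]

end Pull

section Cover

/-- S8758: adequacy may be checked after pulling back to the members of a covering. -/
theorem main8758 [Precoverage.IsStableUnderComposition K] (S : Scheme.{u}) (M : BigSite.Mod K S)
    (ι : Type u) (T : ι → Scheme.{u}) (f : ∀ i, T i ⟶ S)
    (hcov : Presieve.ofArrows T f ∈ K.coverings S)
    (h : ∀ i, Adeq.adequateMod K (T i) ((BigSite.pullMod K (f i)).obj M)) :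
    Adeq.adequateMod K S M := by
  choose κ R a hc had using h
  refine ⟨Σ i, κ i, fun p => R p.1 p.2, fun p => a p.1 p.2 ≫ f p.1, ?_, ?_⟩
  · exact Precoverage.comp_mem_coverings f hcov (fun i j => a i j) (fun i => hc i)
  · rintro ⟨i, k⟩
    obtain ⟨e⟩ := pull_iso K (f i) (a i k) M
    exact (Adeq.adequate _).prop_of_iso e (had i k)

end Cover

end

end Groth.Agent.Lib.AdeqShH4
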