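import Mathlib
import Groth.Prelude.Def_Adeq
import Groth.Agent.Lib.AdeqDescent_helper3

/-!
# Sheaf-level adequate modules, part B (helper4): descent of adequacy along a finite family

`adequate_descent_family`: let `F` be a module-valued functor on `A`-algebras and `C j` a finite
family of `A`-algebras such that every restriction of `F` to `C j`-algebras is adequate and such
that `F` satisfies the sheaf condition for the families `B → C j ⊗ B`.  Then `F` is adequate.
-/

set_option autoImplicit false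
set_option linter.unusedSectionVars false
universe u

open CategoryTheory Limits TensorProduct Adeq
open Groth.Agent.Lib.AdeqH3

namespace Groth.Agent.Lib.AdeqShH4

noncomputable section

variable {A : Type u} [CommRing A]

lemma sum_app_apply {F G : MVF A} {κ : Type*} (s : Finset κ) (φ : κ → (F ⟶ G)) (B : Alg A)
    (x : F.obj (pt B)) :
    (∑ j ∈ s, φ j).app (pt B) x = ∑ j ∈ s, (φ j).app (pt B) x := by
  classical
  induction s using Finset.induction_on with
  | empty => simp only [Finset.sum_empty]; rfl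
  | insert a s ha ih => rw [Finset.sum_insert ha, Finset.sum_insert ha, add_app_apply, ih]

section Family

variable {J : Type (u + 1)} [Fintype J] [DecidableEq J]
  (C : J → Type u) [∀ j, CommRing (C j)] [∀ j, Algebra A (C j)] (F : MVF A)

/-- `B ↦ F(C j ⊗ B)` -/
abbrev Hf (j : J) : MVF A := (push A (C j)).obj ((restr A (C j)).obj F)

/-- `B ↦ F(C k ⊗ (C j ⊗ B))` -/
abbrev Tf (p : J × J) : MVF A := (push A (C p.1)).obj ((restr A (C p.1)).obj (Hf C F p.2))

/-- the algebra `C j ⊗ B` as an `A`-algebra -/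
abbrev Dj (j : J) (B : Alg A) : Alg A := rA (A := A) (bA (A' := C j) B)

/-- the values of `Hf` -/
def v1 (j : J) (B : Alg A) (y : (Hf C F j).obj (pt B)) : F.obj (pt (Dj C j B)) :=
  rOut F (bA B) (pOut _ B y)

/-- the values of `Tf` -/
def v2 (p : J × J) (B : Alg A) (t : (Tf C F p).obj (pt B)) :
    F.obj (pt (Dj C p.2 (Dj C p.1 B))) :=
  rOut F _ (pOut _ _ (rOut (Hf C F p.2) (bA B) (pOut _ B t)))

lemma v1_injective (j : J) (B : Alg A) : Function.Injective (v1 C F j B) := fun _ _ h => h

lemma v1_surjective (j : J) (B : Alg A) : Function.Surjective (v1 C F j B) := fun y => ⟨y, rfl⟩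

lemma v2_injective (p : J × J) (B : Alg A) : Function.Injective (v2 C F p B) := fun _ _ h => h

lemma v2_sub (p : J × J) (B : Alg A) (t t' : (Tf C F p).obj (pt B)) :
    v2 C F p B (t - t') = v2 C F p B t - v2 C F p B t' := rfl

lemma v2_zero (p : J × J) (B : Alg A) : v2 C F p B 0 = 0 := rfl

/-- `x ↦ 1 ⊗ x`, `F(B) → F(C j ⊗ B)` -/
abbrev uj (j : J) : F ⟶ Hf C F j := unitHom (C j) F

lemma v1_uj (j : J) (B : Alg A) (x : F.obj (pt B)) :
    v1 C F j B ((uj C F j).app (pt B) x) = mp F (Alg.unit A (C j) B) x := rfl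

/-- `F(C k ⊗ B) → F(C k ⊗ (C j ⊗ B))`, induced by `B → C j ⊗ B` -/
abbrev αf (p : J × J) : Hf C F p.2 ⟶ Tf C F p := unitHom (C p.1) (Hf C F p.2)

/-- `F(C j ⊗ B) → F(C k ⊗ (C j ⊗ B))`, `x ↦ 1 ⊗ x` -/
abbrev βf (p : J × J) : Hf C F p.1 ⟶ Tf C F p :=
  (push A (C p.1)).map ((restr A (C p.1)).map (unitHom (C p.2) F))

lemma v2_αf (p : J × J) (B : Alg A) (y : (Hf C F p.2).obj (pt B)) :
    v2 C F p B ((αf C F p).app (pt B) y) =
      mp F ((Alg.restr A (C p.2)).map ((Alg.baseChange A (C p.2)).map (Alg.unit A (C p.1) B)))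
        (v1 C F p.2 B y) := rfl

lemma v2_βf (p : J × J) (B : Alg A) (y : (Hf C F p.1).obj (pt B)) :
    v2 C F p B ((βf C F p).app (pt B) y) =
      mp F (Alg.unit A (C p.2) (Dj C p.1 B)) (v1 C F p.1 B y) := rfl

/-- the first term of the Cech presentation -/
abbrev G1 : MVF A := ∐ fun j => Hf C F j

/-- the second term of the Cech presentation -/
abbrev G2 : MVF A := ∐ fun p : J × J => Tf C F p

/-- `F → ∐ F(C j ⊗ -)` -/
def kf : F ⟶ G1 C F := ∑ j, uj C F j ≫ Sigma.ι (fun j => Hf C F j) j

/-- the Cech differential -/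
def df : G1 C F ⟶ G2 C F :=
  ∑ p : J × J, (Sigma.π (fun j => Hf C F j) p.1 ≫ βf C F p -
    Sigma.π (fun j => Hf C F j) p.2 ≫ αf C F p) ≫ Sigma.ι (fun p : J × J => Tf C F p) p

lemma pi_kf (i : J) (B : Alg A) (x : F.obj (pt B)) :
    (Sigma.π (fun j => Hf C F j) i).app (pt B) ((kf C F).app (pt B) x) =
      (uj C F i).app (pt B) x := by
  unfold kf
  rw [sum_app_apply, app_sum, Finset.sum_eq_single i]
  · rw [comp_app_apply, pi_ι_apply_self]
  · intro j _ hj
    rw [comp_app_apply, pi_ι_apply_ne _ _ hj]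
  · intro h
    exact absurd (Finset.mem_univ i) h

lemma pi_df (q : J × J) (B : Alg A) (y : (G1 C F).obj (pt B)) :
    (Sigma.π (fun p : J × J => Tf C F p) q).app (pt B) ((df C F).app (pt B) y) =
      (βf C F q).app (pt (B)) ((Sigma.π (fun j => Hf C F j) q.1).app (pt B) y) -
        (αf C F q).app (pt B) ((Sigma.π (fun j => Hf C F j) q.2).app (pt B) y) := by
  unfold df
  rw [sum_app_apply, app_sum, Finset.sum_eq_single q]
  · rw [comp_app_apply, pi_ι_apply_self, sub_app_apply, comp_app_apply, comp_app_apply]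
  · intro p _ hp
    rw [comp_app_apply, pi_ι_apply_ne _ _ hp]
  · intro h
    exact absurd (Finset.mem_univ q) h

/-- Descent of adequacy along a finite family of algebras. -/
theorem adequate_descent_family
    (h₁ : ∀ j, Adeq.adequate (C j) ((restr A (C j)).obj F))
    (hinj : ∀ (B : Alg A) (x : F.obj (pt B)),
      (∀ j, mp F (Alg.unit A (C j) B) x = 0) → x = 0)
    (hglue : ∀ (B : Alg A) (y : ∀ j, F.obj (pt (Dj C j B))),
      (∀ j k, mp F (Alg.unit A (C k) (Dj C j B)) (y j) =
        mp F ((Alg.restr A (C k)).map ((Alg.baseChange A (C k)).map (Alg.unit A (C j) B))) (y k)) →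
      ∃ x : F.obj (pt B), ∀ j, mp F (Alg.unit A (C j) B) x = y j) :
    Adeq.adequate A F := by
  have hH : ∀ j, Adeq.adequate A (Hf C F j) := fun j => adequate_push _ (h₁ j)
  have hG1 : Adeq.adequate A (G1 C F) := adequate_coproduct _ hH
  have hG2 : Adeq.adequate A (G2 C F) :=
    adequate_coproduct _ fun p => adequate_push _ (adequate_restr _ (hH p.2))
  refine adequate_of_ker (kf C F) (df C F) ?_ ?_ ?_ hG1 hG2
  · intro B
    apply inj_of_zero
    intro x hx
    apply hinj B x
    intro j
    rw [← v1_uj, ← pi_kf, hx, app_zero]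
    rfl
  · apply hom_ext'
    intro B x
    rw [comp_app_apply, zero_app_apply]
    apply eq_zero_of_pi_eq_zero
    intro q
    rw [pi_df, pi_kf, pi_kf, sub_eq_zero]
    apply v2_injective
    rw [v2_βf, v2_αf, v1_uj, v1_uj, ← mp_comp, ← mp_comp, unit_natural]
  · intro B y hy
    obtain ⟨x, hx⟩ := hglue B (fun j => v1 C F j B ((Sigma.π (fun j => Hf C F j) j).app (pt B) y))
      (by
        intro j k
        have h := congrArg (fun z => (Sigma.π (fun p : J × J => Tf C F p) (j, k)).app (pt B) z) hy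
        simp only at h
        rw [pi_df, app_zero, sub_eq_zero] at h
        have h' := congrArg (v2 C F (j, k) B) h
        rw [v2_βf, v2_αf] at h'
        exact h')
    refine ⟨x, ?_⟩
    obtain ⟨s, hs⟩ := exists_finset_sum (fun j => Hf C F j) B y
    rw [hs Finset.univ (Finset.subset_univ s)]
    unfold kf
    rw [sum_app_apply]
    refine Finset.sum_congr rfl fun j _ => ?_
    rw [comp_app_apply]
    congr 1
    apply v1_injective
    rw [v1_uj]
    exact hx j

end Family

end

end Groth.Agent.Lib.AdeqShH4
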