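import Mathlib
import Groth.Prelude.Def_Adeq2
import Groth.Agent.Lib.AdeqShA_helper4
import Groth.Agent.Lib.AdeqShB_helper4

/-!
# Sheaf-level adequate modules, part C (helper4): the sheaf condition on affine charts

* `sheaf_sep_glue`: separation and gluing of sections of a sheaf of modules along a covering family
  whose pairwise fibre products are given by pullback squares of schemes.
* `chart_sep_glue`: the same on the chart `B ↦ Spec B → Spec R → S`.
* `isPushout_units`: the square `B → C j ⊗ B`, `B → C k ⊗ B`, `C k ⊗ (C j ⊗ B)` is a pushout.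
-/

set_option autoImplicit false
set_option linter.unusedSectionVars false
universe u

open CategoryTheory Limits TensorProduct Adeq AlgebraicGeometry Opposite
open Groth.Agent.Lib.AdeqH3

namespace Groth.Agent.Lib.AdeqShH4

noncomputable section

variable (K : Precoverage Scheme.{u}) [BigSite.OSh K] {S : Scheme.{u}}

section Sheaf

variable (M : BigSite.Mod K S)

lemma isSheaf_forget_mod :
    Presieve.IsSheaf (QuotSh.J K S) (M.val.presheaf ⋙ forget AddCommGrpCat.{u + 1}) :=
  (isSheaf_iff_isSheaf_of_type _ _).1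
    ((Presheaf.isSheaf_iff_isSheaf_forget _ M.val.presheaf (forget AddCommGrpCat.{u + 1})).1
      M.isSheaf)

theorem sheaf_sep_glue {X : Over S} {J : Type*} (Xj : J → Over S) (π : ∀ j, Xj j ⟶ X)
    (Xjk : J → J → Over S) (pr1 : ∀ j k, Xjk j k ⟶ Xj j) (pr2 : ∀ j k, Xjk j k ⟶ Xj k)
    (hpb : ∀ j k, IsPullback (pr1 j k).left (pr2 j k).left (π j).left (π k).left)
    (hcov : Sieve.ofArrows Xj π ∈ QuotSh.J K S X) :
    (∀ x : M.val.obj (op X), (∀ j, pm M.val (π j) x = 0) → x = 0) ∧
    ∀ y : ∀ j, M.val.obj (op (Xj j)),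
      (∀ j k, pm M.val (pr1 j k) (y j) = pm M.val (pr2 j k) (y k)) →
      ∃ x : M.val.obj (op X), ∀ j, pm M.val (π j) x = y j := by
  have h1 := isSheaf_forget_mod K M
  have h2 : Presieve.IsSheafFor (M.val.presheaf ⋙ forget AddCommGrpCat.{u + 1})
      (Presieve.ofArrows Xj π) :=
    (Presieve.isSheafFor_iff_generate _).2 (h1 _ hcov)
  constructor
  · intro x hx
    refine h2.isSeparatedFor.ext ?_
    intro Y f hf
    obtain ⟨j⟩ := hf
    exact (hx j).trans (pm_zero M.val (π j)).symm
  · intro y hy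
    have hc : Presieve.Arrows.Compatible (M.val.presheaf ⋙ forget AddCommGrpCat.{u + 1}) π y := by
      intro i j Z gi gj hg
      have hgl : gi.left ≫ (π i).left = gj.left ≫ (π j).left := congrArg (fun φ => φ.left) hg
      have hl1 : (hpb i j).lift gi.left gj.left hgl ≫ (pr1 i j).left = gi.left :=
        (hpb i j).lift_fst _ _ _
      have hl2 : (hpb i j).lift gi.left gj.left hgl ≫ (pr2 i j).left = gj.left :=
        (hpb i j).lift_snd _ _ _
      have hw : (hpb i j).lift gi.left gj.left hgl ≫ (Xjk i j).hom = Z.hom := by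
        rw [← Over.w (pr1 i j), ← Category.assoc, hl1, Over.w gi]
      have e1 : Over.homMk ((hpb i j).lift gi.left gj.left hgl) hw ≫ pr1 i j = gi :=
        Over.OverMorphism.ext hl1
      have e2 : Over.homMk ((hpb i j).lift gi.left gj.left hgl) hw ≫ pr2 i j = gj :=
        Over.OverMorphism.ext hl2
      obtain ⟨l', e1', e2'⟩ : ∃ l' : Z ⟶ Xjk i j, l' ≫ pr1 i j = gi ∧ l' ≫ pr2 i j = gj :=
        ⟨_, e1, e2⟩
      change pm M.val gi (y i) = pm M.val gj (y j)
      rw [← e1', ← e2', ← pm_comp, ← pm_comp, hy i j]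
    obtain ⟨t, ht, -⟩ := (Presieve.isSheafFor_arrows_iff _ _).1 h2 y hc
    exact ⟨t, ht⟩

variable {R : CommRingCat.{u}} (a : Spec R ⟶ S)

theorem chart_sep_glue (B : Alg R) {J : Type*} (D : J → Alg R) (u : ∀ j, B ⟶ D j)
    (E : J → J → Alg R) (p : ∀ j k, D j ⟶ E j k) (q : ∀ j k, D k ⟶ E j k)
    (hpb : ∀ j k, IsPullback (Spec.map (CommRingCat.ofHom (p j k).hom.toRingHom))
      (Spec.map (CommRingCat.ofHom (q j k).hom.toRingHom))
      (Spec.map (CommRingCat.ofHom (u j).hom.toRingHom))
      (Spec.map (CommRingCat.ofHom (u k).hom.toRingHom)))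
    (hcov : Sieve.ofArrows (fun j => (specOver a).obj (op (D j)))
      (fun j => (specOver a).map (u j).op) ∈ QuotSh.J K S ((specOver a).obj (op B))) :
    (∀ x : ((toMVFPre K a).obj M.val).obj (pt B),
      (∀ j, mp ((toMVFPre K a).obj M.val) (u j) x = 0) → x = 0) ∧
    ∀ y : ∀ j, ((toMVFPre K a).obj M.val).obj (pt (D j)),
      (∀ j k, mp ((toMVFPre K a).obj M.val) (p j k) (y j) =
        mp ((toMVFPre K a).obj M.val) (q j k) (y k)) →
      ∃ x : ((toMVFPre K a).obj M.val).obj (pt B),
        ∀ j, mp ((toMVFPre K a).obj M.val) (u j) x = y j := by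
  obtain ⟨h1, h2⟩ := sheaf_sep_glue K M (fun j => (specOver a).obj (op (D j)))
    (fun j => (specOver a).map (u j).op) (fun j k => (specOver a).obj (op (E j k)))
    (fun j k => (specOver a).map (p j k).op) (fun j k => (specOver a).map (q j k).op)
    (fun j k => hpb j k) hcov
  exact ⟨fun x hx => h1 x hx, fun y hy => h2 y hy⟩

end Sheaf

section Pushout

variable {A : Type u} [CommRing A] (Ck : Type u) [CommRing Ck] [Algebra A Ck]

/-- the ring homomorphism underlying a map of algebras -/
def ringHomOf {B B' : Alg A} (f : B ⟶ B') : (B : Type u) →+* (B' : Type u) := f.hom.toRingHom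

lemma ringHomOf_apply {B B' : Alg A} (f : B ⟶ B') (b : B) : ringHomOf f b = f.hom b := rfl

/-- base change of `B → D` along `A → Ck` is a pushout square of rings -/
theorem isPushout_baseChange {B D : Alg A} (g : B ⟶ D) :
    IsPushout (CommRingCat.ofHom (ringHomOf g))
      (CommRingCat.ofHom (ringHomOf (Alg.unit A Ck B)))
      (CommRingCat.ofHom (ringHomOf (Alg.unit A Ck D)))
      (CommRingCat.ofHom
        (ringHomOf ((Alg.restr A Ck).map ((Alg.baseChange A Ck).map g)))) := by
  have t := (CommRingCat.isPushout_tensorProduct A Ck B).flip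
  have s := (CommRingCat.isPushout_tensorProduct A Ck D).flip
  have h1 : CommRingCat.ofHom (algebraMap A D) =
      CommRingCat.ofHom (algebraMap A B) ≫ CommRingCat.ofHom (ringHomOf g) := by
    ext x
    exact (g.hom.commutes x).symm
  have h2 : CommRingCat.ofHom (S := Ck ⊗[A] D) Algebra.TensorProduct.includeLeftRingHom =
      CommRingCat.ofHom (S := Ck ⊗[A] B) Algebra.TensorProduct.includeLeftRingHom ≫
        CommRingCat.ofHom
          (ringHomOf ((Alg.restr A Ck).map ((Alg.baseChange A Ck).map g))) := by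
    ext x
    change x ⊗ₜ[A] (1 : D) = Algebra.TensorProduct.map (AlgHom.id Ck Ck) g.hom (x ⊗ₜ[A] (1 : B))
    rw [Algebra.TensorProduct.map_tmul, map_one]
    rfl
  rw [h1, h2] at s
  refine IsPushout.of_left s ?_ t
  ext b
  change (1 : Ck) ⊗ₜ[A] g.hom b =
    Algebra.TensorProduct.map (AlgHom.id Ck Ck) g.hom ((1 : Ck) ⊗ₜ[A] b)
  rw [Algebra.TensorProduct.map_tmul]
  rfl

/-- the pullback square of spectra attached to `B → Ck ⊗ B` -/
theorem isPullback_unit (B : Alg A) :
    IsPullback
      (Spec.map (CommRingCat.ofHom (S := Ck ⊗[A] B) Algebra.TensorProduct.includeLeftRingHom))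
      (Spec.map (CommRingCat.ofHom (ringHomOf (Alg.unit A Ck B))))
      (Spec.map (CommRingCat.ofHom (algebraMap A Ck)))
      (Spec.map (CommRingCat.ofHom (algebraMap A B))) :=
  isPullback_SpecMap_of_isPushout _ _ _ _ (CommRingCat.isPushout_tensorProduct A Ck B)

end Pushout

section Topology

variable (P : MorphismProperty Scheme.{u}) [P.IsMultiplicative] [P.IsStableUnderBaseChange]

/-- membership in the big-site topology attached to a class of morphisms -/
theorem mem_J_iff {U : Over S} (R : Sieve U) :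
    R ∈ QuotSh.J (Scheme.precoverage P) S U ↔
      ∀ z : U.left, ∃ (Y : Over S) (f : Y ⟶ U), R f ∧ P f.left ∧ z ∈ Set.range f.left := by
  rw [GrothendieckTopology.mem_over_iff]
  change Sieve.overEquiv U R ∈ Scheme.grothendieckTopology P U.left ↔ _
  rw [Scheme.mem_grothendieckTopology_iff]
  constructor
  · rintro ⟨𝒰, h𝒰⟩ z
    obtain ⟨y, hy⟩ := 𝒰.covers z
    have h1 : Sieve.overEquiv U R (𝒰.f (𝒰.idx z)) := h𝒰 _ _ ⟨𝒰.idx z⟩
    rw [Sieve.overEquiv_iff] at h1
    have hP := 𝒰.map_prop (𝒰.idx z)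
    exact ⟨_, _, h1, hP, ⟨y, hy⟩⟩
  · intro h
    choose Y f hR hP hz using h
    refine ⟨Scheme.Cover.mkOfCovers U.left (fun z => (Y z).left) (fun z => (f z).left)
      (fun z => ⟨z, hz z⟩) (fun z => hP z), ?_⟩
    rw [Presieve.ofArrows_le_iff]
    intro z
    change Sieve.overEquiv U R (f z).left
    rw [Sieve.overEquiv_iff]
    have e : (Over.homMk (f z).left : Over.mk ((f z).left ≫ U.hom) ⟶ U) =
        (Over.isoMk (Iso.refl _) (by simp) : Over.mk ((f z).left ≫ U.hom) ≅ Y z).hom ≫ f z := by
      ext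
      simp
    rw [e]
    exact R.downward_closed (hR z) _

variable {R : CommRingCat.{u}} (a : Spec R ⟶ S) {J : Type (u + 1)}
  (C : J → Type u) [∀ j, CommRing (C j)] [∀ j, Algebra R (C j)]

/-- the base changes of a covering family of `Spec R` cover `Spec B` -/
theorem units_cover (hP : ∀ j, P (Spec.map (CommRingCat.ofHom (algebraMap R (C j)))))
    (hs : ∀ z : Spec R, ∃ j, z ∈ Set.range (Spec.map (CommRingCat.ofHom (algebraMap R (C j)))))
    (B : Alg R) :
    Sieve.ofArrows (fun j => (specOver a).obj (op (Dj C j B)))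
      (fun j => (specOver a).map (Alg.unit R (C j) B).op) ∈
        QuotSh.J (Scheme.precoverage P) S ((specOver a).obj (op B)) := by
  rw [mem_J_iff]
  intro z
  obtain ⟨j, y, hy⟩ := hs (Spec.map (CommRingCat.ofHom (algebraMap R B)) z)
  have sq := isPullback_unit (C j) B
  obtain ⟨w, -, hw⟩ := Scheme.exists_preimage_of_isPullback sq y z hy
  refine ⟨_, (specOver a).map (Alg.unit R (C j) B).op, Sieve.ofArrows_mk _ _ j, ?_, ⟨w, hw⟩⟩
  exact MorphismProperty.of_isPullback sq (hP j)

end Topology

end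

end Groth.Agent.Lib.AdeqShH4
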