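import Mathlib
import Groth.Prelude.Def_Adeq2
import Groth.Agent.Lib.AdeqShA_helper4
import Groth.Agent.Lib.AdeqShB_helper4
import Groth.Agent.Lib.AdeqShC_helper4

/-!
# Sheaf-level adequate modules, part D (helper4): adequacy on every affine chart

`adequate_chart`: if `M` is an adequate module on the big site of `S` (for a topology given by a
class `P` of open morphisms containing the open immersions), then `F_{M,R}` is adequate for every
affine object `Spec R → S`.
-/

set_option autoImplicit false
set_option linter.unusedSectionVars false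
set_option linter.style.haveILetI false
universe u

open CategoryTheory Limits TensorProduct Adeq AlgebraicGeometry Opposite
open Groth.Agent.Lib.AdeqH3

namespace Groth.Agent.Lib.AdeqShH4

noncomputable section

variable {S : Scheme.{u}}

section Refine

variable (P : MorphismProperty Scheme.{u}) [P.IsMultiplicative] [P.IsStableUnderBaseChange]

theorem exists_refinement
    (hopen : ∀ {X Y : Scheme.{u}} (f : X ⟶ Y), P f → IsOpenMap f)
    (hoi : ∀ {X Y : Scheme.{u}} (f : X ⟶ Y), IsOpenImmersion f → P f)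
    {ι : Type u} (Ri : ι → CommRingCat.{u}) (ai : ∀ i, Spec (Ri i) ⟶ S)
    (hcov : Presieve.ofArrows (fun i => Spec (Ri i)) ai ∈ (Scheme.precoverage P).coverings S)
    {R : CommRingCat.{u}} (a : Spec R ⟶ S) :
    ∃ (J : Type (u + 1)) (_ : Fintype J) (C : J → Type u) (_ : ∀ j, CommRing (C j))
      (γ : ∀ j, R →+* C j) (i : J → ι) (c : ∀ j, Ri (i j) →+* C j),
      (∀ j, Spec.map (CommRingCat.ofHom (c j)) ≫ ai (i j) =
        Spec.map (CommRingCat.ofHom (γ j)) ≫ a) ∧
      (∀ j, P (Spec.map (CommRingCat.ofHom (γ j)))) ∧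
      ∀ z : Spec R, ∃ j, z ∈ Set.range (Spec.map (CommRingCat.ofHom (γ j))) := by
  obtain ⟨hsurj, hPi⟩ := (Scheme.ofArrows_mem_precoverage_iff P).1 hcov
  have key : ∀ z : Spec R, ∃ (C : CommRingCat.{u}) (γ : R ⟶ C) (i : ι) (c : Ri i ⟶ C),
      Spec.map c ≫ ai i = Spec.map γ ≫ a ∧ P (Spec.map γ) ∧ z ∈ Set.range (Spec.map γ) := by
    intro z
    obtain ⟨i, y, hy⟩ := hsurj (a z)
    obtain ⟨w, hw1, hw2⟩ :=
      Scheme.Pullback.exists_preimage_pullback (f := a) (g := ai i) z y hy.symm
    obtain ⟨w', hw'⟩ := (pullback a (ai i)).affineOpenCover.covers w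
    refine ⟨(pullback a (ai i)).affineOpenCover.X ((pullback a (ai i)).affineOpenCover.idx w),
      Spec.preimage ((pullback a (ai i)).affineOpenCover.f _ ≫ pullback.fst a (ai i)), i,
      Spec.preimage ((pullback a (ai i)).affineOpenCover.f _ ≫ pullback.snd a (ai i)),
      ?_, ?_, ?_⟩
    · rw [Spec.map_preimage, Spec.map_preimage, Category.assoc, Category.assoc, pullback.condition]
    · rw [Spec.map_preimage]
      exact P.comp_mem _ _ (hoi _ inferInstance) (P.pullback_fst _ _ (hPi i))
    · rw [Spec.map_preimage]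
      refine ⟨w', ?_⟩
      rw [Scheme.Hom.comp_apply, hw', hw1]
  choose C γ i c h1 h2 h3 using key
  have hopen' : ∀ z, IsOpen (Set.range (Spec.map (γ z))) :=
    fun z => (hopen _ (h2 z)).isOpen_range
  obtain ⟨t, ht⟩ := isCompact_univ.elim_finite_subcover
    (fun z => Set.range (Spec.map (γ z))) hopen' (fun z _ => Set.mem_iUnion.2 ⟨z, h3 z⟩)
  refine ⟨ULift.{u + 1} t, inferInstance, fun j => C j.down.1, fun j => inferInstance,
    fun j => (γ j.down.1).hom, fun j => i j.down.1, fun j => (c j.down.1).hom, ?_, ?_, ?_⟩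
  · intro j
    exact h1 j.down.1
  · intro j
    exact h2 j.down.1
  · intro z
    obtain ⟨z', hz', hz⟩ := Set.mem_iUnion₂.1 (ht (Set.mem_univ z))
    exact ⟨⟨⟨z', hz'⟩⟩, hz⟩

end Refine

section Main

variable (K : Precoverage Scheme.{u}) [BigSite.OSh K]

lemma adequate_restr_of_factor {R R' : CommRingCat.{u}} (a : Spec R ⟶ S) (a' : Spec R' ⟶ S)
    (Pm : PresheafOfModules.{u + 1} (BigSite.ORing K S).obj)
    (C : Type u) [CommRing C] [Algebra R C] (c : R' →+* C)
    (hc : Spec.map (CommRingCat.ofHom c) ≫ a' =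
      Spec.map (CommRingCat.ofHom (algebraMap R C)) ≫ a)
    (h : Adeq.adequate R' ((toMVFPre K a').obj Pm)) :
    Adeq.adequate C ((restr R C).obj ((toMVFPre K a).obj Pm)) := by
  letI algR' : Algebra R' C := c.toAlgebra
  obtain ⟨e1⟩ := restr_iso K a C Pm
  obtain ⟨e2⟩ := restr_iso K a' C Pm
  have h2 : Adeq.adequate C ((restr R' C).obj ((toMVFPre K a').obj Pm)) := adequate_restr _ h
  have h3 := (Adeq.adequate C).prop_of_iso e2 h2
  have hch : aRestr a' C = aRestr a C := hc
  rw [hch] at h3
  exact (Adeq.adequate C).prop_of_iso e1.symm h3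

variable (P : MorphismProperty Scheme.{u}) [P.IsMultiplicative] [P.IsStableUnderBaseChange]
  [BigSite.OSh (Scheme.precoverage P)]

/-- Adequacy of a big-site module can be tested on every affine chart. -/
theorem adequate_chart
    (hopen : ∀ {X Y : Scheme.{u}} (f : X ⟶ Y), P f → IsOpenMap f)
    (hoi : ∀ {X Y : Scheme.{u}} (f : X ⟶ Y), IsOpenImmersion f → P f)
    (M : BigSite.Mod (Scheme.precoverage P) S)
    (hM : Adeq.adequateMod (Scheme.precoverage P) S M) (R : CommRingCat.{u}) (a : Spec R ⟶ S) :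
    Adeq.adequate R ((toMVF (Scheme.precoverage P) a).obj M) := by
  obtain ⟨ι, Ri, ai, hcov, hadq⟩ := hM
  obtain ⟨J, hJ, C, hC, γ, i, c, h1, h2, h3⟩ := exists_refinement P hopen hoi Ri ai hcov a
  classical
  letI : ∀ j, Algebra R (C j) := fun j => (γ j).toAlgebra
  change Adeq.adequate R ((toMVFPre (Scheme.precoverage P) a).obj M.val)
  have hsg := fun B : Alg R => chart_sep_glue (Scheme.precoverage P) M a B
    (fun j => Dj C j B) (fun j => Alg.unit R (C j) B)
    (fun j k => Dj C k (Dj C j B)) (fun j k => Alg.unit R (C k) (Dj C j B))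
    (fun j k => (Alg.restr R (C k)).map ((Alg.baseChange R (C k)).map (Alg.unit R (C j) B)))
    (fun j k => isPullback_SpecMap_of_isPushout _ _ _ _
      (isPushout_baseChange (C k) (Alg.unit R (C j) B)))
    (units_cover P a C h2 h3 B)
  refine adequate_descent_family C _ ?_ ?_ ?_
  · intro j
    exact adequate_restr_of_factor (Scheme.precoverage P) a (ai (i j)) M.val (C j) (c j) (h1 j)
      (hadq (i j))
  · intro B x hx
    exact (hsg B).1 x hx
  · intro B y hy
    exact (hsg B).2 y hy

end Main

section Instances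

instance lfp_isMultiplicative' :
    MorphismProperty.IsMultiplicative (@LocallyOfFinitePresentation.{u}) where
  id_mem _ := inferInstance

/-- S8755 -/
theorem main8755 (S : Scheme.{u}) (M : BigSite.Mod Scheme.fppfPrecoverage S)
    (hM : Adeq.adequateMod Scheme.fppfPrecoverage S M) (R : CommRingCat.{u}) (a : Spec R ⟶ S) :
    Adeq.adequate R ((Adeq.toMVF Scheme.fppfPrecoverage a).obj M) := by
  haveI : BigSite.OSh (Scheme.precoverage (@Flat.{u} ⊓ @LocallyOfFinitePresentation.{u})) :=
    inferInstanceAs (BigSite.OSh Scheme.fppfPrecoverage.{u})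
  refine adequate_chart (@Flat.{u} ⊓ @LocallyOfFinitePresentation.{u}) ?_ ?_ M hM R a
  · intro X Y f hf
    haveI : Flat f := hf.1
    haveI : LocallyOfFinitePresentation f := hf.2
    exact f.isOpenMap
  · intro X Y f hf
    exact ⟨inferInstance, inferInstance⟩

/-- S8756 -/
theorem main8756 (S : Scheme.{u}) (M : BigSite.Mod Scheme.zariskiPrecoverage S)
    (hM : Adeq.adequateMod Scheme.zariskiPrecoverage S M) (R : CommRingCat.{u}) (a : Spec R ⟶ S) :
    Adeq.adequate R ((Adeq.toMVF Scheme.zariskiPrecoverage a).obj M) := by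
  refine adequate_chart (@IsOpenImmersion.{u}) ?_ ?_ M hM R a
  · intro X Y f hf
    exact f.isOpenEmbedding.isOpenMap
  · intro X Y f hf
    exact hf

end Instances

end

end Groth.Agent.Lib.AdeqShH4
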