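import Mathlib
import Groth.Prelude.Def_Adeq2
import Groth.Agent.Lib.AdeqShD_helper4

/-!
# Sheaf-level adequate modules, part E (helper4): pullbacks, kernels
-/

set_option autoImplicit false
set_option linter.unusedSectionVars false
set_option linter.style.haveILetI false
universe u

open CategoryTheory Limits TensorProduct Adeq AlgebraicGeometry Opposite
open Groth.Agent.Lib.AdeqH3

namespace Groth.Agent.Lib.AdeqShH4

noncomputable section

/-- the affine open cover of a scheme is an fppf covering -/
theorem affineOpenCover_mem_fppf (T : Scheme.{u}) :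
    Presieve.ofArrows (fun i => Spec (T.affineOpenCover.X i)) T.affineOpenCover.f ∈
      Scheme.fppfPrecoverage.coverings T := by
  change _ ∈ (Scheme.precoverage (@Flat.{u} ⊓ @LocallyOfFinitePresentation.{u})).coverings T
  rw [Scheme.ofArrows_mem_precoverage_iff]
  refine ⟨fun x => ⟨T.affineOpenCover.idx x, T.affineOpenCover.covers x⟩, fun i => ?_⟩
  exact ⟨inferInstance, inferInstance⟩

/-- S8757 -/
theorem main8757 {S T : Scheme.{u}} (f : T ⟶ S) (M : BigSite.Mod Scheme.fppfPrecoverage S)
    (hM : Adeq.adequateMod Scheme.fppfPrecoverage S M) :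
    Adeq.adequateMod Scheme.fppfPrecoverage T ((BigSite.pullMod Scheme.fppfPrecoverage f).obj M) := by
  refine ⟨T.affineOpenCover.I₀, T.affineOpenCover.X, T.affineOpenCover.f,
    affineOpenCover_mem_fppf T, fun i => ?_⟩
  obtain ⟨e⟩ := pull_iso Scheme.fppfPrecoverage f (T.affineOpenCover.f i) M
  exact (Adeq.adequate _).prop_of_iso e.symm (main8755 S M hM _ _)

section Kernel

variable (K : Precoverage Scheme.{u}) [BigSite.OSh K] {S : Scheme.{u}}

/-- kernels of sheaves of modules are computed sectionwise -/
theorem sections_ker_exact {M N : BigSite.Mod K S} (φ : M ⟶ N) (X : Over S) :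
    Function.Injective ((kernel.ι φ).val.app (op X)) ∧
      ∀ x : M.val.obj (op X), φ.val.app (op X) x = 0 →
        ∃ y : (kernel φ).val.obj (op X), (kernel.ι φ).val.app (op X) y = x := by
  have hS : (ShortComplex.mk (kernel.ι φ) φ (kernel.condition φ)).Exact :=
    ShortComplex.exact_of_f_is_kernel _ (kernelIsKernel φ)
  haveI : (SheafOfModules.evaluation (BigSite.ORing K S) (op X)).PreservesZeroMorphisms :=
    ⟨fun _ _ => rfl⟩
  have hS' := hS.map_of_mono_of_preservesKernel
    (SheafOfModules.evaluation (BigSite.ORing K S) (op X)) inferInstance inferInstance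
  constructor
  · have hm : Mono ((SheafOfModules.evaluation (BigSite.ORing K S) (op X)).map (kernel.ι φ)) :=
      inferInstance
    exact (ModuleCat.mono_iff_injective _).1 hm
  · intro x hx
    exact (ShortComplex.moduleCat_exact_iff _).1 hS' x hx

/-- S8761 (general form) -/
theorem adequate_kernel_mod {M N : BigSite.Mod K S} (φ : M ⟶ N)
    (hM : Adeq.adequateMod K S M)
    (hN : ∀ (R : CommRingCat.{u}) (a : Spec R ⟶ S), Adeq.adequate R ((toMVF K a).obj N)) :
    Adeq.adequateMod K S (kernel φ) := by
  obtain ⟨ι, Ri, ai, hcov, hadq⟩ := hM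
  refine ⟨ι, Ri, ai, hcov, fun i => ?_⟩
  refine adequate_of_ker ((toMVF K (ai i)).map (kernel.ι φ)) ((toMVF K (ai i)).map φ)
    ?_ ?_ ?_ (hadq i) (hN _ (ai i))
  · intro B
    exact (sections_ker_exact K φ _).1
  · rw [← Functor.map_comp, kernel.condition, Functor.map_zero]
  · intro B x hx
    exact (sections_ker_exact K φ _).2 x hx

/-- S8761 -/
theorem main8761 (S : Scheme.{u}) {M N : BigSite.Mod Scheme.fppfPrecoverage S} (φ : M ⟶ N)
    (hM : Adeq.adequateMod Scheme.fppfPrecoverage S M)
    (hN : Adeq.adequateMod Scheme.fppfPrecoverage S N) :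
    Adeq.adequateMod Scheme.fppfPrecoverage S (kernel φ) :=
  adequate_kernel_mod Scheme.fppfPrecoverage φ hM (fun R a => main8755 S N hN R a)

end Kernel

end

end Groth.Agent.Lib.AdeqShH4
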