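import Mathlib
import Groth.Prelude.Def_Adeq2
import Groth.Agent.Lib.AdeqShD_helper4

/-!
# Sheaf-level adequate modules, part F (helper4): faithfully flat descent for adequate functors

* `amitsur0`: for a faithfully flat `A`-algebra `B` and an `A`-module `M` the sequence
  `M → B ⊗ M → (B ⊗ B) ⊗ M` is exact.
* `equalizer_of_adequate`: an adequate functor `F` satisfies `F(A) = eq(F(B) ⇉ F(B ⊗ B))`.
-/

set_option autoImplicit false
set_option linter.unusedSectionVars false
universe u v

open CategoryTheory Limits TensorProduct Adeq AlgebraicGeometry Opposite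
open Groth.Agent.Lib.AdeqH3

namespace Groth.Agent.Lib.AdeqShH4

noncomputable section

section Amitsur

variable (A : Type u) [CommRing A] (B : Type u) [CommRing B] [Algebra A B]
  (M : Type v) [AddCommGroup M] [Module A M]

/-- `m ↦ 1 ⊗ m` -/
def am0 : M →ₗ[A] B ⊗[A] M := TensorProduct.mk A B M 1

/-- `b ⊗ m ↦ (b ⊗ 1 - 1 ⊗ b) ⊗ m` -/
def am1 : B ⊗[A] M →ₗ[A] (B ⊗[A] B) ⊗[A] M :=
  (Algebra.TensorProduct.includeLeftSubRight A B).rTensor M

/-- `b' ⊗ (b ⊗ m) ↦ b'b ⊗ m` -/
def amS : B ⊗[A] (B ⊗[A] M) →ₗ[A] B ⊗[A] M :=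
  (LinearMap.mul' A B).rTensor M ∘ₗ (TensorProduct.assoc A B B M).symm.toLinearMap

/-- `b' ⊗ ((b₁ ⊗ b₂) ⊗ m) ↦ b'b₁ ⊗ (b₂ ⊗ m)` -/
def amS' : B ⊗[A] ((B ⊗[A] B) ⊗[A] M) →ₗ[A] B ⊗[A] (B ⊗[A] M) :=
  (TensorProduct.assoc A B B M).toLinearMap ∘ₗ
    (((LinearMap.mul' A B).rTensor B) ∘ₗ (TensorProduct.assoc A B B B).symm.toLinearMap).rTensor M ∘ₗ
      (TensorProduct.assoc A B (B ⊗[A] B) M).symm.toLinearMap

lemma am_homotopy :
    (am0 A B M).lTensor B ∘ₗ amS A B M - amS' A B M ∘ₗ (am1 A B M).lTensor B = LinearMap.id := by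
  ext b' b m
  simp [am0, am1, amS, amS', TensorProduct.sub_tmul, TensorProduct.tmul_sub]

lemma am1_am0 : am1 A B M ∘ₗ am0 A B M = 0 := by
  ext m
  simp [am0, am1]

theorem amitsur0 [Module.FaithfullyFlat A B] : Function.Exact (am0 A B M) (am1 A B M) := by
  apply Module.FaithfullyFlat.lTensor_reflects_exact A B
  intro z
  constructor
  · intro hz
    refine ⟨amS A B M z, ?_⟩
    have h := congrArg (fun f => f z) (am_homotopy A B M)
    simp only [LinearMap.sub_apply, LinearMap.comp_apply, LinearMap.id_apply] at h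
    rw [hz, map_zero, sub_zero] at h
    exact h
  · rintro ⟨w, rfl⟩
    rw [← LinearMap.comp_apply, ← LinearMap.lTensor_comp, am1_am0, LinearMap.lTensor_zero,
      LinearMap.zero_apply]

lemma am0_injective [Module.FaithfullyFlat A B] : Function.Injective (am0 A B M) :=
  Module.FaithfullyFlat.tensorProduct_mk_injective M

end Amitsur

section Equalizer

variable {A : Type u} [CommRing A] (B : Type u) [CommRing B] [Algebra A B]

/-- `A → B` -/
abbrev eA : algOf A A ⟶ algOf A B := CommAlgCat.ofHom (Algebra.ofId A B)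

/-- `b ↦ b ⊗ 1` -/
abbrev lA : algOf A B ⟶ algOf A (B ⊗[A] B) :=
  CommAlgCat.ofHom (Algebra.TensorProduct.includeLeft : B →ₐ[A] B ⊗[A] B)

/-- `b ↦ 1 ⊗ b` -/
abbrev rA' : algOf A B ⟶ algOf A (B ⊗[A] B) :=
  CommAlgCat.ofHom (Algebra.TensorProduct.includeRight : B →ₐ[A] B ⊗[A] B)

variable [Module.FaithfullyFlat A B]

lemma underline_eA_eq (M : ModuleCat.{u + 1} A) (x : ((underline A).obj M).obj (pt (algOf A A))) :
    toT (mp ((underline A).obj M) (eA B) x) = am0 A B M (TensorProduct.lid A M (toT x)) := by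
  rw [toT_mp]
  generalize toT x = w
  induction w using TensorProduct.induction_on with
  | zero => simp
  | tmul a m =>
    simp only [LinearMap.rTensor_tmul, TensorProduct.lid_tmul, am0, TensorProduct.mk_apply]
    change (algebraMap A B a) ⊗ₜ[A] m = (1 : B) ⊗ₜ[A] (a • m)
    rw [TensorProduct.tmul_smul, TensorProduct.smul_tmul', Algebra.algebraMap_eq_smul_one]
  | add w₁ w₂ h₁ h₂ => rw [map_add, map_add, map_add, h₁, h₂]

lemma underline_eA_injective (M : ModuleCat.{u + 1} A) :
    Function.Injective (mp ((underline A).obj M) (eA B)) := by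
  intro x y h
  have h' := congrArg toT h
  rw [underline_eA_eq, underline_eA_eq] at h'
  exact toT_injective ((TensorProduct.lid A M).injective (am0_injective A B M h'))

lemma underline_glue (M : ModuleCat.{u + 1} A) (z : ((underline A).obj M).obj (pt (algOf A B)))
    (hz : mp ((underline A).obj M) (lA B) z = mp ((underline A).obj M) (rA' B) z) :
    ∃ w, mp ((underline A).obj M) (eA B) w = z := by
  have h1 : am1 A B M (toT z) = 0 := by
    have h2 := congrArg toT hz
    rw [toT_mp, toT_mp] at h2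
    unfold am1 Algebra.TensorProduct.includeLeftSubRight
    rw [LinearMap.rTensor_sub, LinearMap.sub_apply, sub_eq_zero]
    exact h2
  obtain ⟨m, hm⟩ := (amitsur0 A B M (toT z)).1 h1
  refine ⟨ofT ((TensorProduct.lid A M).symm m), ?_⟩
  apply toT_injective
  rw [underline_eA_eq]
  change am0 A B M (TensorProduct.lid A M ((TensorProduct.lid A M).symm m)) = toT z
  rw [LinearEquiv.apply_symm_apply, hm]

/-- An adequate functor satisfies the sheaf condition for a faithfully flat algebra. -/
theorem equalizer_of_adequate (F : MVF A) (hF : Adeq.adequate A F) :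
    Function.Injective (mp F (eA B)) ∧
      ∀ y : F.obj (pt (algOf A B)), mp F (lA B) y = mp F (rA' B) y →
        ∃ x, mp F (eA B) x = y := by
  obtain ⟨M, N, φ, i, hi⟩ := (adequate_iff F).1 hF
  constructor
  · intro x x' h
    apply hi.inj
    apply underline_eA_injective B M
    rw [← naturality, ← naturality, h]
  · intro y hy
    obtain ⟨w, hw⟩ := underline_glue B M (i.app _ y) (by
      rw [← naturality, ← naturality, hy])
    have hφw : ((underline A).map φ).app _ w = 0 := by
      apply underline_eA_injective B N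
      rw [← naturality, hw, hi.zero_apply, mp_zero]
    obtain ⟨x, hx⟩ := hi.exact _ w hφw
    refine ⟨x, ?_⟩
    apply hi.inj
    rw [naturality, hx, hw]

end Equalizer

/-- S8768 -/
theorem main8768 (S : Scheme.{u}) (M : BigSite.Mod Scheme.fppfPrecoverage S)
    (hM : Adeq.adequateMod Scheme.fppfPrecoverage S M) (R : CommRingCat.{u}) (a : Spec R ⟶ S)
    (B : Type u) [CommRing B] [Algebra R B] [Module.FaithfullyFlat R B] :
    Function.Injective (((Adeq.toMVF Scheme.fppfPrecoverage a).obj M).map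
        (Adeq.ptHom (CommAlgCat.ofHom (Algebra.ofId R B) : Adeq.algOf R R ⟶ Adeq.algOf R B))) ∧
      ∀ y : ((Adeq.toMVF Scheme.fppfPrecoverage a).obj M).obj (Adeq.pt (Adeq.algOf R B)),
        ((Adeq.toMVF Scheme.fppfPrecoverage a).obj M).map (Adeq.ptHom (CommAlgCat.ofHom
            (Algebra.TensorProduct.includeLeft : B →ₐ[R] B ⊗[R] B) :
              Adeq.algOf R B ⟶ Adeq.algOf R (B ⊗[R] B))) y =
          ((Adeq.toMVF Scheme.fppfPrecoverage a).obj M).map (Adeq.ptHom (CommAlgCat.ofHom
            (Algebra.TensorProduct.includeRight : B →ₐ[R] B ⊗[R] B) :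
              Adeq.algOf R B ⟶ Adeq.algOf R (B ⊗[R] B))) y →
        y ∈ Set.range (((Adeq.toMVF Scheme.fppfPrecoverage a).obj M).map
          (Adeq.ptHom (CommAlgCat.ofHom (Algebra.ofId R B) :
            Adeq.algOf R R ⟶ Adeq.algOf R B))) := by
  obtain ⟨h1, h2⟩ := equalizer_of_adequate B _ (main8755 S M hM R a)
  exact ⟨h1, fun y hy => h2 y hy⟩

end

end Groth.Agent.Lib.AdeqShH4
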