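import Mathlib
import Groth.Prelude.Def_Adeq2
import Groth.Agent.Lib.AdeqFlat_helper3
import Groth.Agent.Lib.AdeqShF_helper4

/-!
# Sheaf-level adequate modules, part G (helper4): flat base change in tensor form

* `descent_exact'`: faithfully flat descent of exactness (helper8's `descent_exact`, universe
  polymorphic in the modules).
* `bc_bijective`: flat base change for adequate functors, as a bijection on tensor products.
* `bc_theta`: for a pushout `T' = T ⊗_A B` with `B` flat, `F(T) ⊗_A B ≃ F(T')`.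
-/

set_option autoImplicit false
set_option linter.unusedSectionVars false
set_option linter.style.haveILetI false
universe u v

open CategoryTheory Limits TensorProduct Adeq
open Groth.Agent.Lib.AdeqH3

namespace Groth.Agent.Lib.AdeqShH4

noncomputable section

section Descent

variable {A B : Type u} [CommRing A] [CommRing B] [Algebra A B] [Module.FaithfullyFlat A B]
  {M₀ M₁ M₂ : Type v} [AddCommGroup M₀] [AddCommGroup M₁] [AddCommGroup M₂]
  [Module A M₀] [Module A M₁] [Module A M₂]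
  {N₀ N₁ N₂ : Type v} [AddCommGroup N₀] [AddCommGroup N₁] [AddCommGroup N₂]

theorem descent_exact' (d₀ : M₀ →ₗ[A] M₁) (d₁ : M₁ →ₗ[A] M₂) (hd : d₁.comp d₀ = 0)
    (e₀ : N₀ →+ N₁) (e₁ : N₁ →+ N₂)
    (θ₀ : M₀ ⊗[A] B ≃+ N₀) (θ₁ : M₁ ⊗[A] B ≃+ N₁) (θ₂ : M₂ ⊗[A] B ≃+ N₂)
    (h₀ : ∀ (m : M₀) (b : B), θ₁ (d₀ m ⊗ₜ b) = e₀ (θ₀ (m ⊗ₜ b)))
    (h₁ : ∀ (m : M₁) (b : B), θ₂ (d₁ m ⊗ₜ b) = e₁ (θ₁ (m ⊗ₜ b)))
    (hex : ∀ x : N₁, e₁ x = 0 → ∃ y : N₀, e₀ y = x) :
    ∀ x : M₁, d₁ x = 0 → ∃ y : M₀, d₀ y = x := by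
  have H₀ : ∀ z : M₀ ⊗[A] B, θ₁ (d₀.rTensor B z) = e₀ (θ₀ z) := by
    intro z
    induction z using TensorProduct.induction_on with
    | zero => simp
    | tmul m b => rw [LinearMap.rTensor_tmul]; exact h₀ m b
    | add z w hz hw => rw [map_add, map_add, map_add, map_add, hz, hw]
  have H₁ : ∀ z : M₁ ⊗[A] B, θ₂ (d₁.rTensor B z) = e₁ (θ₁ z) := by
    intro z
    induction z using TensorProduct.induction_on with
    | zero => simp
    | tmul m b => rw [LinearMap.rTensor_tmul]; exact h₁ m b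
    | add z w hz hw => rw [map_add, map_add, map_add, map_add, hz, hw]
  have hE : Function.Exact (d₀.rTensor B) (d₁.rTensor B) := by
    intro z
    constructor
    · intro hz
      have h2 : e₁ (θ₁ z) = 0 := by rw [← H₁, hz, map_zero]
      obtain ⟨y, hy⟩ := hex _ h2
      refine ⟨θ₀.symm y, ?_⟩
      apply θ₁.injective
      rw [H₀, AddEquiv.apply_symm_apply, hy]
    · rintro ⟨w, rfl⟩
      have : (d₁.rTensor B) ((d₀.rTensor B) w) = ((d₁.comp d₀).rTensor B) w := by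
        rw [LinearMap.rTensor_comp]; rfl
      rw [this, hd, LinearMap.rTensor_zero, LinearMap.zero_apply]
  have hE' := Module.FaithfullyFlat.rTensor_reflects_exact A B d₀ d₁ hE
  intro x hx
  exact (hE' x).1 hx

end Descent

section BaseChange

variable {A : Type u} [CommRing A] (F : MVF A) (hF : Adeq.adequate A F)
include hF

/-- flat base change for adequate functors, on tensor products -/
theorem bc_bijective {T T' : Alg A} (f : T ⟶ T') (hf : f.hom.toRingHom.Flat) :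
    letI : Algebra T T' := f.hom.toRingHom.toAlgebra
    ∃ β₀ : (T' : Type u) ⊗[(T : Type u)] F.obj (pt T) →+ F.obj (pt T'),
      Function.Bijective β₀ ∧ ∀ (s : T') (x : F.obj (pt T)), β₀ (s ⊗ₜ x) = s • mp F f x := by
  letI : Algebra T T' := f.hom.toRingHom.toAlgebra
  have h := isIso_bc F hF f hf
  rw [ConcreteCategory.isIso_iff_bijective] at h
  exact ⟨((F.bc f).hom).toAddMonoidHom, h, fun s x => bc_tmk F f s x⟩

end BaseChange

section Theta

variable {A : Type u} [CommRing A]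

/-- the `A`-module structure on the value at an `A`-algebra -/
@[reducible] def modA (F : MVF A) (T : Alg A) : Module A (F.obj (pt T)) :=
  Module.compHom _ (algebraMap A T)

attribute [local instance] modA

lemma modA_smul (F : MVF A) (T : Alg A) (a : A) (x : F.obj (pt T)) :
    a • x = (algebraMap A T a) • x := rfl

instance modA_tower (F : MVF A) (T : Alg A) : IsScalarTower A T (F.obj (pt T)) :=
  IsScalarTower.of_algebraMap_smul fun _ _ => rfl

lemma mp_smulA (F : MVF A) {T T' : Alg A} (g : T ⟶ T') (a : A) (x : F.obj (pt T)) :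
    mp F g (a • x) = a • mp F g x := by
  rw [modA_smul, mp_smul, modA_smul]
  congr 1
  exact g.hom.commutes a

variable (F : MVF A) (hF : Adeq.adequate A F)
include hF

/-- For a pushout `T' = T ⊗_A B` with `B` flat over `A`: `F(T) ⊗_A B ≃ F(T')`. -/
theorem bc_theta {T T' B : Alg A} (ι : T ⟶ T') (β : B ⟶ T') [Module.Flat A B]
    (hpo : IsPushout (CommRingCat.ofHom (algebraMap A T)) (CommRingCat.ofHom (algebraMap A B))
      (CommRingCat.ofHom ι.hom.toRingHom) (CommRingCat.ofHom β.hom.toRingHom)) :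
    ∃ θ : F.obj (pt T) ⊗[A] (B : Type u) ≃+ F.obj (pt T'),
      ∀ (x : F.obj (pt T)) (b : B), θ (x ⊗ₜ b) = (β.hom b : T') • mp F ι x := by
  letI algTT' : Algebra T T' := ι.hom.toRingHom.toAlgebra
  letI algBT' : Algebra B T' := β.hom.toRingHom.toAlgebra
  haveI t1 : IsScalarTower A T T' :=
    IsScalarTower.of_algebraMap_eq fun a => (ι.hom.commutes a).symm
  haveI t2 : IsScalarTower A B T' :=
    IsScalarTower.of_algebraMap_eq fun a => (β.hom.commutes a).symm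
  haveI hpush : Algebra.IsPushout A B T T' := CommRingCat.isPushout_iff_isPushout.1 hpo.flip
  have hflat : ι.hom.toRingHom.Flat := by
    have hsymm : Algebra.IsPushout A T B T' := Algebra.IsPushout.symm hpush
    exact Module.Flat.isBaseChange (R := A) (S := T) (M := B) T' hsymm.out
  obtain ⟨β₀, hβ₀, hβ₀f⟩ := bc_bijective F hF ι hflat
  let e1 : F.obj (pt T) ⊗[A] (B : Type u) ≃+ (B : Type u) ⊗[A] F.obj (pt T) :=
    (TensorProduct.comm A (F.obj (pt T)) B).toAddEquiv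
  let e2 : (B : Type u) ⊗[A] F.obj (pt T) ≃+ (T' : Type u) ⊗[(T : Type u)] F.obj (pt T) :=
    (Algebra.IsPushout.cancelBaseChange A B T T' (F.obj (pt T))).symm.toAddEquiv
  let e3 : (T' : Type u) ⊗[(T : Type u)] F.obj (pt T) ≃+ F.obj (pt T') :=
    AddEquiv.ofBijective β₀ hβ₀
  refine ⟨(e1.trans e2).trans e3, fun x b => ?_⟩
  change β₀ ((Algebra.IsPushout.cancelBaseChange A B T T' (F.obj (pt T))).symm
    (TensorProduct.comm A (F.obj (pt T)) B (x ⊗ₜ b))) = _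
  rw [TensorProduct.comm_tmul, Algebra.IsPushout.cancelBaseChange_symm_tmul, hβ₀f]
  rfl

end Theta

section ACT

variable {A : Type u} [CommRing A]

attribute [local instance] modA

/-- the transition maps as `A`-linear maps -/
def mpLin (F : MVF A) {T T' : Alg A} (g : T ⟶ T') : F.obj (pt T) →ₗ[A] F.obj (pt T') where
  toFun := mp F g
  map_add' := mp_add F g
  map_smul' := mp_smulA F g

lemma mpLin_apply (F : MVF A) {T T' : Alg A} (g : T ⟶ T') (x : F.obj (pt T)) :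
    mpLin F g x = mp F g x := rfl

/-- the transition maps as additive maps -/
def mpAdd (F : MVF A) {T T' : Alg A} (g : T ⟶ T') : F.obj (pt T) →+ F.obj (pt T') where
  toFun := mp F g
  map_zero' := mp_zero F g
  map_add' := mp_add F g

lemma mpAdd_apply (F : MVF A) {T T' : Alg A} (g : T ⟶ T') (x : F.obj (pt T)) :
    mpAdd F g x = mp F g x := rfl

variable (F : MVF A) (hF : Adeq.adequate A F)
include hF

/-- The algebraic Čech theorem: descent of exactness for an adequate functor along a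
faithfully flat algebra. -/
theorem act (B : Alg A) [Module.FaithfullyFlat A B]
    {κ₀ κ₁ : Type} [Fintype κ₀] [Fintype κ₁] (s₀ : κ₀ → ℤ) (s₁ : κ₁ → ℤ)
    {T₀ T₁ T₂ T'₀ T'₁ T'₂ : Alg A}
    (δ₀ : κ₀ → (T₀ ⟶ T₁)) (δ₁ : κ₁ → (T₁ ⟶ T₂))
    (δ'₀ : κ₀ → (T'₀ ⟶ T'₁)) (δ'₁ : κ₁ → (T'₁ ⟶ T'₂))
    (ι₀ : T₀ ⟶ T'₀) (ι₁ : T₁ ⟶ T'₁) (ι₂ : T₂ ⟶ T'₂)
    (β₀ : B ⟶ T'₀) (β₁ : B ⟶ T'₁) (β₂ : B ⟶ T'₂)
    (hpo₀ : IsPushout (CommRingCat.ofHom (algebraMap A T₀)) (CommRingCat.ofHom (algebraMap A B))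
      (CommRingCat.ofHom ι₀.hom.toRingHom) (CommRingCat.ofHom β₀.hom.toRingHom))
    (hpo₁ : IsPushout (CommRingCat.ofHom (algebraMap A T₁)) (CommRingCat.ofHom (algebraMap A B))
      (CommRingCat.ofHom ι₁.hom.toRingHom) (CommRingCat.ofHom β₁.hom.toRingHom))
    (hpo₂ : IsPushout (CommRingCat.ofHom (algebraMap A T₂)) (CommRingCat.ofHom (algebraMap A B))
      (CommRingCat.ofHom ι₂.hom.toRingHom) (CommRingCat.ofHom β₂.hom.toRingHom))
    (hι₀ : ∀ k, ι₀ ≫ δ'₀ k = δ₀ k ≫ ι₁) (hβ₀ : ∀ k, β₀ ≫ δ'₀ k = β₁)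
    (hι₁ : ∀ k, ι₁ ≫ δ'₁ k = δ₁ k ≫ ι₂) (hβ₁ : ∀ k, β₁ ≫ δ'₁ k = β₂)
    (hdd : ∀ x : F.obj (pt T₀),
      ∑ k', s₁ k' • mp F (δ₁ k') (∑ k, s₀ k • mp F (δ₀ k) x) = 0)
    (hex : ∀ z : F.obj (pt T'₁), ∑ k, s₁ k • mp F (δ'₁ k) z = 0 →
      ∃ w : F.obj (pt T'₀), ∑ k, s₀ k • mp F (δ'₀ k) w = z) :
    ∀ x : F.obj (pt T₁), ∑ k, s₁ k • mp F (δ₁ k) x = 0 →
      ∃ y : F.obj (pt T₀), ∑ k, s₀ k • mp F (δ₀ k) y = x := by
  haveI : Module.Flat A B := inferInstance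
  obtain ⟨θ₀, hθ₀⟩ := bc_theta F hF ι₀ β₀ hpo₀
  obtain ⟨θ₁, hθ₁⟩ := bc_theta F hF ι₁ β₁ hpo₁
  obtain ⟨θ₂, hθ₂⟩ := bc_theta F hF ι₂ β₂ hpo₂
  let d₀ : F.obj (pt T₀) →ₗ[A] F.obj (pt T₁) := ∑ k, s₀ k • mpLin F (δ₀ k)
  let d₁ : F.obj (pt T₁) →ₗ[A] F.obj (pt T₂) := ∑ k, s₁ k • mpLin F (δ₁ k)
  let e₀ : F.obj (pt T'₀) →+ F.obj (pt T'₁) := ∑ k, s₀ k • mpAdd F (δ'₀ k)
  let e₁ : F.obj (pt T'₁) →+ F.obj (pt T'₂) := ∑ k, s₁ k • mpAdd F (δ'₁ k)
  have hd₀ : ∀ x, d₀ x = ∑ k, s₀ k • mp F (δ₀ k) x := fun x => by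
    simp only [d₀, LinearMap.sum_apply, LinearMap.smul_apply, mpLin_apply]
  have hd₁ : ∀ x, d₁ x = ∑ k, s₁ k • mp F (δ₁ k) x := fun x => by
    simp only [d₁, LinearMap.sum_apply, LinearMap.smul_apply, mpLin_apply]
  have he₀ : ∀ x, e₀ x = ∑ k, s₀ k • mp F (δ'₀ k) x := fun x => by
    simp only [e₀, AddMonoidHom.finsetSum_apply, AddMonoidHom.smul_apply, mpAdd_apply]
  have he₁ : ∀ x, e₁ x = ∑ k, s₁ k • mp F (δ'₁ k) x := fun x => by
    simp only [e₁, AddMonoidHom.finsetSum_apply, AddMonoidHom.smul_apply, mpAdd_apply]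
  have hd : d₁.comp d₀ = 0 := by
    ext x
    rw [LinearMap.comp_apply, hd₁, hd₀, LinearMap.zero_apply]
    exact hdd x
  have key := descent_exact' (B := (B : Type u)) d₀ d₁ hd e₀ e₁ θ₀ θ₁ θ₂ ?_ ?_ ?_
  · intro x hx
    obtain ⟨y, hy⟩ := key x (by rw [hd₁]; exact hx)
    exact ⟨y, by rw [← hd₀]; exact hy⟩
  · intro m b
    rw [hd₀, he₀, TensorProduct.sum_tmul, map_sum]
    refine Finset.sum_congr rfl fun k _ => ?_
    rw [← TensorProduct.smul_tmul', map_zsmul, hθ₁, hθ₀, mp_smul, ← mp_comp, ← mp_comp, hι₀ k,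
      ← hβ₀ k]
    rfl
  · intro m b
    rw [hd₁, he₁, TensorProduct.sum_tmul, map_sum]
    refine Finset.sum_congr rfl fun k _ => ?_
    rw [← TensorProduct.smul_tmul', map_zsmul, hθ₂, hθ₁, mp_smul, ← mp_comp, ← mp_comp, hι₁ k,
      ← hβ₁ k]
    rfl
  · intro z hz
    obtain ⟨w, hw⟩ := hex z (by rw [← he₁]; exact hz)
    exact ⟨w, by rw [he₀]; exact hw⟩

end ACT

end

end Groth.Agent.Lib.AdeqShH4
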