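import Mathlib
import Groth.Prelude.Def_Adeq2
import Groth.Agent.Lib.AdeqShA_helper4

/-!
# Sheaf-level adequate modules, part H (helper4): the chart of an affine object

For an affine object `U₀` of the big site of `S`, `A₀ = Γ(U₀)`, the chart `a₀ : Spec A₀ → S`, and
for every affine object `W` over `U₀` the `A₀`-algebra `ΓAlg W = Γ(W)` together with the
identification of `W` with the object `Spec (ΓAlg W) → Spec A₀ → S` (`kap`), natural in `W`
(`kap_natural`), and the induced identification of sections `tau`.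
-/

set_option autoImplicit false
set_option linter.unusedSectionVars false
set_option linter.style.haveILetI false
universe u

open CategoryTheory Limits TensorProduct Adeq AlgebraicGeometry Opposite
open Groth.Agent.Lib.AdeqH3

namespace Groth.Agent.Lib.AdeqShH4

noncomputable section

variable {S : Scheme.{u}} (U₀ : Over S) [IsAffine U₀.left]

/-- the ring of functions of the base object -/
abbrev A0 : CommRingCat.{u} := Γ(U₀.left, ⊤)

/-- the chart of the base object -/
def a0 : Spec (A0 U₀) ⟶ S := U₀.left.isoSpec.inv ≫ U₀.hom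

variable {U₀}

/-- the algebra structure on the functions of an object over `U₀` -/
@[reducible] def ΓAlgInst (W : Over U₀) : Algebra (A0 U₀) Γ(W.left.left, ⊤) :=
  (W.hom.left.appTop.hom).toAlgebra

/-- the algebra of functions of an object over `U₀` -/
def ΓAlg (W : Over U₀) : Alg (A0 U₀) :=
  @CommAlgCat.of (A0 U₀) _ Γ(W.left.left, ⊤) _ (ΓAlgInst W)

lemma ΓAlg_algebraMap (W : Over U₀) :
    CommRingCat.ofHom (algebraMap (A0 U₀) (ΓAlg W)) = W.hom.left.appTop := rfl

lemma Γmap_commutes {W W' : Over U₀} (g : W' ⟶ W) (r : A0 U₀) :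
    g.left.left.appTop.hom (W.hom.left.appTop.hom r) = W'.hom.left.appTop.hom r := by
  have h1 : g.left ≫ W.hom = W'.hom := Over.w g
  have h2 : g.left.left ≫ W.hom.left = W'.hom.left := congrArg (fun φ => φ.left) h1
  have h3 := congrArg (fun φ => φ.appTop.hom r) h2
  simpa using h3

/-- pullback of functions as a map of algebras -/
def Γmap {W W' : Over U₀} (g : W' ⟶ W) : ΓAlg W ⟶ ΓAlg W' := by
  letI := ΓAlgInst W
  letI := ΓAlgInst W'
  exact CommAlgCat.ofHom
    ({ g.left.left.appTop.hom with commutes' := Γmap_commutes g } :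
      Γ(W.left.left, ⊤) →ₐ[A0 U₀] Γ(W'.left.left, ⊤))

lemma Γmap_hom {W W' : Over U₀} (g : W' ⟶ W) :
    CommRingCat.ofHom (Γmap g).hom.toRingHom = g.left.left.appTop := rfl

lemma Γmap_apply {W W' : Over U₀} (g : W' ⟶ W) (x : ΓAlg W) :
    (Γmap g).hom x = g.left.left.appTop.hom x := rfl

lemma Γmap_comp {W W' W'' : Over U₀} (g : W' ⟶ W) (h : W'' ⟶ W') :
    Γmap (h ≫ g) = Γmap g ≫ Γmap h := by
  apply CommAlgCat.hom_ext
  apply DFunLike.coe_injective
  funext x
  change (h ≫ g).left.left.appTop.hom x = h.left.left.appTop.hom (g.left.left.appTop.hom x)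
  have : (h ≫ g).left.left = h.left.left ≫ g.left.left := rfl
  rw [this, Scheme.Hom.comp_appTop]
  rfl

lemma kap_w (W : Over U₀) [IsAffine W.left.left] :
    W.left.left.isoSpec.hom ≫ ((specOver (a0 U₀)).obj (op (ΓAlg W))).hom = W.left.hom := by
  change W.left.left.isoSpec.hom ≫ (Spec.map W.hom.left.appTop ≫ a0 U₀) = W.left.hom
  rw [a0, ← Category.assoc, ← Category.assoc,
    Scheme.isoSpec_hom_naturality, Category.assoc, Category.assoc, Iso.hom_inv_id_assoc]
  exact Over.w W.hom

/-- an affine object over `U₀` is the object of the chart attached to its algebra of functions -/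
def kap (W : Over U₀) [IsAffine W.left.left] :
    W.left ≅ (specOver (a0 U₀)).obj (op (ΓAlg W)) :=
  Over.isoMk W.left.left.isoSpec (kap_w W)

lemma kap_hom_left (W : Over U₀) [IsAffine W.left.left] :
    (kap W).hom.left = W.left.left.isoSpec.hom := rfl

lemma kap_natural_left {W W' : Over U₀} [IsAffine W.left.left] [IsAffine W'.left.left]
    (g : W' ⟶ W) :
    (kap W').hom.left ≫ ((specOver (a0 U₀)).map (Γmap g).op).left =
      g.left.left ≫ (kap W).hom.left := by
  rw [kap_hom_left, kap_hom_left]
  change W'.left.left.isoSpec.hom ≫ Spec.map g.left.left.appTop = _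
  exact Scheme.isoSpec_hom_naturality g.left.left

lemma kap_natural {W W' : Over U₀} [IsAffine W.left.left] [IsAffine W'.left.left]
    (g : W' ⟶ W) :
    (kap W').hom ≫ (specOver (a0 U₀)).map (Γmap g).op = g.left ≫ (kap W).hom :=
  Over.OverMorphism.ext (kap_natural_left g)

section Tau

variable (K : Precoverage Scheme.{u}) [BigSite.OSh K]
  (P : PresheafOfModules.{u + 1} (BigSite.ORing K S).obj)

lemma kap_inv_natural {W W' : Over U₀} [IsAffine W.left.left] [IsAffine W'.left.left]
    (g : W' ⟶ W) :
    (specOver (a0 U₀)).map (Γmap g).op ≫ (kap W).inv = (kap W').inv ≫ g.left := by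
  rw [Iso.comp_inv_eq, Category.assoc, ← kap_natural, Iso.inv_hom_id_assoc]

/-- sections over an affine object over `U₀` as a value of the functor of the chart of `U₀` -/
def tau (W : Over U₀) [IsAffine W.left.left] :
    P.obj (op W.left) ≃+ ((toMVFPre K (a0 U₀)).obj P).obj (pt (ΓAlg W)) where
  toFun x := fIn K (a0 U₀) P (ΓAlg W) (pm P (kap W).inv x)
  invFun y := pm P (kap W).hom (fOut K (a0 U₀) P (ΓAlg W) y)
  left_inv x := by
    change pm P (kap W).hom (fOut K (a0 U₀) P (ΓAlg W)
      (fIn K (a0 U₀) P (ΓAlg W) (pm P (kap W).inv x))) = x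
    rw [fOut_fIn, pm_iso_hom_inv]
  right_inv y := by
    change fIn K (a0 U₀) P (ΓAlg W) (pm P (kap W).inv
      (pm P (kap W).hom (fOut K (a0 U₀) P (ΓAlg W) y))) = y
    apply fOut_injective
    rw [fOut_fIn, pm_iso_inv_hom]
  map_add' x y := by
    apply fOut_injective
    rw [fOut_fIn, fOut_add, fOut_fIn, fOut_fIn, pm_add]

lemma fOut_tau (W : Over U₀) [IsAffine W.left.left] (x : P.obj (op W.left)) :
    fOut K (a0 U₀) P (ΓAlg W) (tau K P W x) = pm P (kap W).inv x := rfl

lemma tau_natural {W W' : Over U₀} [IsAffine W.left.left] [IsAffine W'.left.left]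
    (g : W' ⟶ W) (x : P.obj (op W.left)) :
    tau K P W' (pm P g.left x) = mp ((toMVFPre K (a0 U₀)).obj P) (Γmap g) (tau K P W x) := by
  apply fOut_injective
  rw [fOut_tau, fOut_mp, fOut_tau, pm_comp, pm_comp, kap_inv_natural]

end Tau

end

end Groth.Agent.Lib.AdeqShH4
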