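import Mathlib
import Groth.Prelude.Def_Adeq2
import Groth.Agent.Lib.AdeqShD_helper4
import Groth.Agent.Lib.AdeqShG_helper4
import Groth.Agent.Lib.AdeqShH_helper4
import Groth.Agent.Lib.GaCech1_helper8

/-!
# Sheaf-level adequate modules, part I (helper4): the Čech complex of a single affine cover

The general geometric Čech theorem: for a category `E` with finite products and a functor
`L : E ⥤ Over S` sending product squares to fibre squares of schemes, with `L(⊤)` affine, and an
object `V` with `L V` affine and `L V → L ⊤` flat and surjective, the Čech complex of an adequate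
module for the single cover `V` is exact in positive degrees.
-/

set_option autoImplicit false
set_option linter.unusedSectionVars false
set_option linter.style.haveILetI false
universe w v u

open CategoryTheory Limits TensorProduct Adeq AlgebraicGeometry Opposite
open Groth.Agent.Lib.AdeqH3 Groth.Agent.Lib.GaCechH8

namespace Groth.Agent.Lib.AdeqShH4

noncomputable section

section General

variable {S : Scheme.{u}} {E : Type w} [Category.{v} E] [HasFiniteProducts E]
  (L : E ⥤ Over S) {T : E} (hT : IsTerminal T)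

/-- the object over the base `L T` attached to an object of `E` -/
def Lp (W : E) : Over (L.obj T) := Over.mk (L.map (hT.from W))

lemma Lp_w {W W' : E} (g : W' ⟶ W) : L.map g ≫ (Lp L hT W).hom = (Lp L hT W').hom := by
  change L.map g ≫ L.map (hT.from W) = L.map (hT.from W')
  rw [← L.map_comp]
  congr 1
  exact hT.hom_ext _ _

/-- functoriality of `Lp` -/
def LpMap {W W' : E} (g : W' ⟶ W) : Lp L hT W' ⟶ Lp L hT W := Over.homMk (L.map g) (Lp_w L hT g)

lemma LpMap_left {W W' : E} (g : W' ⟶ W) : (LpMap L hT g).left = L.map g := rfl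

lemma LpMap_comp {W W' W'' : E} (g : W' ⟶ W) (h : W'' ⟶ W') :
    LpMap L hT (h ≫ g) = LpMap L hT h ≫ LpMap L hT g := by
  apply Over.OverMorphism.ext
  change L.map (h ≫ g) = L.map h ≫ L.map g
  exact L.map_comp h g

omit [HasFiniteProducts E] in
lemma isAffine_Lp (W : E) [h : IsAffine (L.obj W).left] : IsAffine (Lp L hT W).left.left := h

attribute [local instance] isAffine_Lp

variable [IsAffine (L.obj T).left]

/-- pullback of functions, contravariantly in `E` -/
def ΓE {W W' : E} (g : W' ⟶ W) : ΓAlg (Lp L hT W) ⟶ ΓAlg (Lp L hT W') := Γmap (LpMap L hT g)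

lemma ΓE_comp {W W' W'' : E} (g : W' ⟶ W) (h : W'' ⟶ W') :
    ΓE L hT (h ≫ g) = ΓE L hT g ≫ ΓE L hT h := by
  rw [ΓE, LpMap_comp, Γmap_comp]
  rfl

section Affine

variable (hpb : ∀ W V : E, IsPullback (L.map (prod.fst (X := W) (Y := V))).left
    (L.map (prod.snd (X := W) (Y := V))).left (L.map (hT.from W)).left (L.map (hT.from V)).left)
include hpb

lemma affine_prod (W V : E) [IsAffine (L.obj W).left] [IsAffine (L.obj V).left] :
    IsAffine (L.obj (W ⨯ V)).left :=
  IsAffine.of_isPullback (hpb W V)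

omit hpb [HasFiniteProducts E] [IsAffine (L.obj T).left] in
lemma affine_of_iso {W W' : E} (e : W ≅ W') [IsAffine (L.obj W).left] :
    IsAffine (L.obj W').left := by
  haveI : IsIso (L.map e.inv).left := inferInstanceAs
    (IsIso ((Over.forget S).map (L.map e.inv)))
  exact IsAffine.of_isIso (L.map e.inv).left

lemma affine_Pw (V : E) [IsAffine (L.obj V).left] : ∀ n : ℕ, IsAffine (L.obj (Pw V (n + 1))).left
  | 0 => affine_of_iso L (productUniqueIso (fun _ : Fin 1 => V)).symm
  | n + 1 => by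
    haveI := affine_Pw V n
    haveI : IsAffine (L.obj (V ⨯ Pw V (n + 1))).left := affine_prod L hT hpb V (Pw V (n + 1))
    let e : (V ⨯ Pw V (n + 1)) ≅ Pw V (n + 2) :=
      IsLimit.conePointUniqueUpToIso
        (extendFanIsLimit (fun _ : Fin (n + 2) => V) (limit.isLimit _) (prodIsProd V (Pw V (n + 1))))
        (limit.isLimit _)
    exact affine_of_iso L e

lemma isPushout_ΓE (W V : E) [IsAffine (L.obj W).left] [IsAffine (L.obj V).left] :
    IsPushout (CommRingCat.ofHom (algebraMap (A0 (L.obj T)) (ΓAlg (Lp L hT W))))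
      (CommRingCat.ofHom (algebraMap (A0 (L.obj T)) (ΓAlg (Lp L hT V))))
      (CommRingCat.ofHom (ΓE L hT (prod.fst (X := W) (Y := V))).hom.toRingHom)
      (CommRingCat.ofHom (ΓE L hT (prod.snd (X := W) (Y := V))).hom.toRingHom) :=
  isPushout_appTop_of_isPullback (hpb W V)

end Affine

omit [HasFiniteProducts E] in
lemma faithfullyFlat_ΓAlg (V : E) [IsAffine (L.obj V).left] (hfl : Flat (L.map (hT.from V)).left)
    (hsurj : Surjective (L.map (hT.from V)).left) :
    Module.FaithfullyFlat (A0 (L.obj T)) (ΓAlg (Lp L hT V)) :=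
  (Flat.flat_and_surjective_iff_faithfullyFlat_of_isAffine (L.map (hT.from V)).left).mp
    ⟨hfl, hsurj⟩

section Main

variable (M : BigSite.Mod Scheme.fppfPrecoverage S)

/-- the presheaf of abelian groups on `E` attached to a module -/
abbrev QE : Eᵒᵖ ⥤ AddCommGrpCat.{u + 1} :=
  L.op ⋙ ((BigSite.toAbMod Scheme.fppfPrecoverage S).obj M).obj

/-- the module-valued functor of the chart of the base -/
abbrev FE : MVF (A0 (L.obj T)) :=
  (toMVFPre Scheme.fppfPrecoverage (a0 (L.obj T))).obj M.val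

/-- sections over `W` as a value of the module-valued functor of the chart of the base -/
def tauE (W : E) [IsAffine (L.obj W).left] :
    (QE L M).obj (op W) ≃+ (FE L M).obj (pt (ΓAlg (Lp L hT W))) :=
  tau Scheme.fppfPrecoverage M.val (Lp L hT W)

lemma tauE_natural {W W' : E} [IsAffine (L.obj W).left] [IsAffine (L.obj W').left]
    (g : W' ⟶ W) (x : (QE L M).obj (op W)) :
    tauE L hT M W' (((QE L M).map g.op).hom x) =
      mp (FE L M) (ΓE L hT g) (tauE L hT M W x) :=
  tau_natural Scheme.fppfPrecoverage M.val (LpMap L hT g) x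

section Cech

variable (hpb : ∀ W V : E, IsPullback (L.map (prod.fst (X := W) (Y := V))).left
    (L.map (prod.snd (X := W) (Y := V))).left (L.map (hT.from W)).left (L.map (hT.from V)).left)
  (V : E) [IsAffine (L.obj V).left]

lemma tauE_d1 (n : ℕ) [IsAffine (L.obj (Pw V (n + 1))).left] [IsAffine (L.obj (Pw V (n + 2))).left]
    (x : C1 V (QE L M) n) :
    tauE L hT M (Pw V (n + 2)) (d1 V (QE L M) n x) =
      ∑ k : Fin (n + 2), (-1 : ℤ) ^ (k : ℕ) •
        mp (FE L M) (ΓE L hT (fc V n k)) (tauE L hT M (Pw V (n + 1)) x) := by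
  rw [d1_apply, map_sum]
  refine Finset.sum_congr rfl fun k _ => ?_
  rw [map_zsmul, tauE_natural]

lemma tauE_d2 (n : ℕ) [IsAffine (L.obj (Pw V (n + 1) ⨯ V)).left]
    [IsAffine (L.obj (Pw V (n + 2) ⨯ V)).left] (x : C2 V (QE L M) n) :
    tauE L hT M (Pw V (n + 2) ⨯ V) (d2 V (QE L M) n x) =
      ∑ k : Fin (n + 2), (-1 : ℤ) ^ (k : ℕ) •
        mp (FE L M) (ΓE L hT (prod.map (fc V n k) (𝟙 V))) (tauE L hT M (Pw V (n + 1) ⨯ V) x) := by
  rw [d2_apply, map_sum]
  refine Finset.sum_congr rfl fun k _ => ?_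
  rw [map_zsmul, tauE_natural]

include hpb in
/-- The Čech complex of an adequate module for a single flat surjective affine cover is exact in
positive degrees. -/
theorem cech_exact (hM : Adeq.adequateMod Scheme.fppfPrecoverage S M)
    (hfl : Flat (L.map (hT.from V)).left) (hsurj : Surjective (L.map (hT.from V)).left)
    (n : ℕ) (x : C1 V (QE L M) (n + 1)) (hx : d1 V (QE L M) (n + 1) x = 0) :
    ∃ y : C1 V (QE L M) n, d1 V (QE L M) n y = x := by
  haveI := faithfullyFlat_ΓAlg L hT V hfl hsurj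
  have hF : Adeq.adequate _ (FE L M) := main8755 S M hM _ (a0 (L.obj T))
  haveI a0 := affine_Pw L hT hpb V n
  haveI a1 := affine_Pw L hT hpb V (n + 1)
  haveI a2 := affine_Pw L hT hpb V (n + 2)
  haveI b0 := affine_prod L hT hpb (Pw V (n + 1)) V
  haveI b1 := affine_prod L hT hpb (Pw V (n + 2)) V
  haveI b2 := affine_prod L hT hpb (Pw V (n + 3)) V
  have key := act (FE L M) hF (ΓAlg (Lp L hT V))
    (fun k : Fin (n + 2) => (-1 : ℤ) ^ (k : ℕ)) (fun k : Fin (n + 3) => (-1 : ℤ) ^ (k : ℕ))
    (fun k => ΓE L hT (fc V n k)) (fun k => ΓE L hT (fc V (n + 1) k))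
    (fun k => ΓE L hT (prod.map (fc V n k) (𝟙 V)))
    (fun k => ΓE L hT (prod.map (fc V (n + 1) k) (𝟙 V)))
    (ΓE L hT prod.fst) (ΓE L hT prod.fst) (ΓE L hT prod.fst)
    (ΓE L hT prod.snd) (ΓE L hT prod.snd) (ΓE L hT prod.snd)
    (isPushout_ΓE L hT hpb _ V) (isPushout_ΓE L hT hpb _ V) (isPushout_ΓE L hT hpb _ V)
    ?_ ?_ ?_ ?_ ?_ ?_
  · obtain ⟨y', hy'⟩ := key (tauE L hT M (Pw V (n + 2)) x) (by
      rw [← tauE_d1, hx, map_zero])
    refine ⟨(tauE L hT M (Pw V (n + 1))).symm y', ?_⟩
    apply (tauE L hT M (Pw V (n + 2))).injective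
    rw [tauE_d1, AddEquiv.apply_symm_apply]
    exact hy'
  · intro k
    rw [← ΓE_comp, ← ΓE_comp, prod.map_fst]
  · intro k
    rw [← ΓE_comp, prod.map_snd, Category.comp_id]
  · intro k
    rw [← ΓE_comp, ← ΓE_comp, prod.map_fst]
  · intro k
    rw [← ΓE_comp, prod.map_snd, Category.comp_id]
  · intro x₀
    obtain ⟨x₁, rfl⟩ := (tauE L hT M (Pw V (n + 1))).surjective x₀
    rw [← tauE_d1, ← tauE_d1, d1_d1, map_zero]
  · intro z hz
    obtain ⟨z₁, rfl⟩ := (tauE L hT M (Pw V (n + 2) ⨯ V)).surjective z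
    rw [← tauE_d2] at hz
    have hz' : d2 V (QE L M) (n + 1) z₁ = 0 := by
      apply (tauE L hT M (Pw V (n + 3) ⨯ V)).injective
      rw [hz, map_zero]
    obtain ⟨w, hw⟩ := exact2 V (QE L M) n z₁ hz'
    refine ⟨tauE L hT M (Pw V (n + 1) ⨯ V) w, ?_⟩
    rw [← tauE_d2, hw]

end Cech

end Main

end General

end

end Groth.Agent.Lib.AdeqShH4
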