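import Mathlib
import Groth.Prelude.Def_Adeq2
import Groth.Agent.Lib.AdeqShI_helper4
import Groth.Agent.Lib.CechSite_helper2

/-!
# Sheaf-level adequate modules, part J (helper4): Čech complexes of adequate modules

* `main8788`: the Čech complex of an adequate module for `Spec B → Spec R` faithfully flat is
  exact in positive degrees.
-/

set_option autoImplicit false
set_option linter.unusedSectionVars false
set_option linter.style.haveILetI false
universe u

open CategoryTheory Limits TensorProduct Adeq AlgebraicGeometry Opposite
open Groth.Agent.Lib.AdeqH3 Groth.Agent.Lib.GaCechH8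

namespace Groth.Agent.Lib.AdeqShH4

noncomputable section

section OverScheme

variable {X : Scheme.{u}}

lemma from_left (W : Over X) : ((Over.mkIdTerminal (X := X)).from W).left = W.hom := by
  have h := Over.w ((Over.mkIdTerminal (X := X)).from W)
  exact (Category.comp_id _).symm.trans h

lemma isPullback_prod_over (W V : Over X) :
    IsPullback (prod.fst (X := W) (Y := V)).left (prod.snd (X := W) (Y := V)).left
      ((Over.mkIdTerminal (X := X)).from W).left ((Over.mkIdTerminal (X := X)).from V).left := by
  rw [from_left, from_left]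
  exact Over.isPullback_of_binaryFan_isLimit (BinaryFan.mk prod.fst prod.snd) (prodIsProd W V)

end OverScheme

/-- S8788 -/
theorem main8788 (S : Scheme.{u}) (M : BigSite.Mod Scheme.fppfPrecoverage S)
    (hM : Adeq.adequateMod Scheme.fppfPrecoverage S M) (R : CommRingCat.{u}) (a : Spec R ⟶ S)
    (B : Type u) [CommRing B] [Algebra R B] [Module.FaithfullyFlat R B] (n : ℕ) (hn : 0 < n) :
    ((cechComplexFunctor (A := AddCommGrpCat.{u + 1})
        (fun _ : PUnit.{u + 2} =>
          (Over.mk (Spec.map (CommRingCat.ofHom (algebraMap R B))) : Over (Spec R)))).obj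
      ((Over.map a).op ⋙
        ((BigSite.toAbMod Scheme.fppfPrecoverage S).obj M).obj)).ExactAt n := by
  obtain ⟨p, rfl⟩ : ∃ p, n = p + 1 := ⟨n - 1, by omega⟩
  rw [HomologicalComplex.exactAt_iff_isZero_homology]
  let V : Over (Spec R) := Over.mk (Spec.map (CommRingCat.ofHom (algebraMap R B)))
  change IsZero (((cechComplexFunctor (Y1.{u + 1} V)).obj
    ((Over.map a).op ⋙ ((BigSite.toAbMod Scheme.fppfPrecoverage S).obj M).obj)).homology (p + 1))
  rw [Groth.Agent.Lib.CechSite.isZero_homology_succ_iff]
  refine exact_of_single V _ p ?_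
  haveI : IsAffine ((Over.map a).obj (Over.mk (𝟙 (Spec R)))).left :=
    inferInstanceAs (IsAffine (Spec R))
  haveI : IsAffine ((Over.map a).obj V).left :=
    inferInstanceAs (IsAffine (Spec (CommRingCat.of B)))
  have hff : (CommRingCat.ofHom (algebraMap R B)).hom.FaithfullyFlat :=
    (RingHom.faithfullyFlat_algebraMap_iff).mpr inferInstance
  obtain ⟨hfl, hsurj⟩ := (flat_and_surjective_SpecMap_iff _).mpr hff
  refine cech_exact (Over.map a) Over.mkIdTerminal M (fun W V => isPullback_prod_over W V) V hM
    ?_ ?_ p
  · change Flat ((Over.mkIdTerminal (X := Spec R)).from V).left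
    rw [from_left]
    exact hfl
  · change Surjective ((Over.mkIdTerminal (X := Spec R)).from V).left
    rw [from_left]
    exact hsurj

end

end Groth.Agent.Lib.AdeqShH4
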