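import Mathlib
import Groth.Prelude.Def_BigSite
import Groth.Prelude.Def_CGrpSh
import Groth.Agent.Lib.CechSiteSheaf_helper2

/-!
# The big fppf site of a scheme: covering sieves, finite disjoint unions, affine refinements
(helper4)

* `mem_J_iff`: covering sieves of the big fppf site of `S` are those containing, around every
  point, a flat morphism locally of finite presentation.
* `glue_sigma`: abelian sheaves on the big fppf site turn finite disjoint unions into products.
* `exists_affine_surj`: a covering sieve of an affine object contains the summands of an affine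
  flat surjective lfp `V ⟶ Z` on which sheaves glue.
-/

set_option autoImplicit false
set_option linter.style.haveILetI false
set_option linter.unusedSectionVars false
universe u
open CategoryTheory CategoryTheory.Limits AlgebraicGeometry Opposite

namespace Groth.Agent.Lib.BigCartanH4

open Groth.Agent.Lib.CechSite

variable {S : Scheme.{u}}

/-- the big fppf topology -/
abbrev Jf (S : Scheme.{u}) : GrothendieckTopology (Over S) := QuotSh.J Scheme.fppfPrecoverage S

instance lfp_isMultiplicative :
    MorphismProperty.IsMultiplicative (@LocallyOfFinitePresentation.{u}) where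
  id_mem _ := inferInstance

theorem mem_Jf_iff {U : Over S} (R : Sieve U) :
    R ∈ Jf S U ↔ ∀ z : U.left, ∃ (Y : Over S) (f : Y ⟶ U), R f ∧ Flat f.left ∧
      LocallyOfFinitePresentation f.left ∧ z ∈ Set.range f.left := by
  rw [GrothendieckTopology.mem_over_iff]
  change Sieve.overEquiv U R ∈ Scheme.grothendieckTopology (@Flat ⊓ @LocallyOfFinitePresentation) U.left ↔ _
  rw [Scheme.mem_grothendieckTopology_iff]
  constructor
  · rintro ⟨𝒰, h𝒰⟩ z
    obtain ⟨y, hy⟩ := 𝒰.covers z
    have h1 : Sieve.overEquiv U R (𝒰.f (𝒰.idx z)) := h𝒰 _ _ ⟨𝒰.idx z⟩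
    rw [Sieve.overEquiv_iff] at h1
    have hP := 𝒰.map_prop (𝒰.idx z)
    exact ⟨_, _, h1, hP.1, hP.2, ⟨y, hy⟩⟩
  · intro h
    choose Y f hR hfl hfp hz using h
    refine ⟨Scheme.Cover.mkOfCovers U.left (fun z => (Y z).left) (fun z => (f z).left)
      (fun z => ⟨z, hz z⟩) (fun z => ⟨hfl z, hfp z⟩), ?_⟩
    rw [Presieve.ofArrows_le_iff]
    intro z
    change Sieve.overEquiv U R (f z).left
    rw [Sieve.overEquiv_iff]
    have e : (Over.homMk (f z).left : Over.mk ((f z).left ≫ U.hom) ⟶ U) =
        (Over.isoMk (Iso.refl _) (by simp) : Over.mk ((f z).left ≫ U.hom) ≅ Y z).hom ≫ f z := by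
      ext
      simp
    rw [e]
    exact R.downward_closed (hR z) _

theorem subsingleton_of_isEmpty (G : BigSite.Ab Scheme.fppfPrecoverage S) (Z : Over S)
    [IsEmpty Z.left] : Subsingleton (G.obj.obj (op Z)) := by
  have hcov : (⊥ : Sieve Z) ∈ Jf S Z := (mem_Jf_iff _).2 (fun w => isEmptyElim w)
  have h1 := isSheaf_forget (J := Jf S) G
  refine ⟨fun a b => ?_⟩
  exact (h1 _ hcov).isSeparatedFor.ext (fun Y f hf => hf.elim)

theorem mono_of_left_mono {A B : Over S} (f : A ⟶ B) [Mono f.left] : Mono f :=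
  ⟨fun g h e => by
    apply Over.OverMorphism.ext
    have e' : g.left ≫ f.left = h.left ≫ f.left := congrArg (fun φ => φ.left) e
    exact (cancel_mono f.left).1 e'⟩

section Sigma

variable {ι : Type u} (A : ι → Over S)

/-- the disjoint union as an object of the big site -/
noncomputable abbrev sigObj : Over S := Over.mk (Sigma.desc (fun j => (A j).hom))

/-- the inclusions of the summands -/
noncomputable abbrev sigι (j : ι) : A j ⟶ sigObj A :=
  Over.homMk (Sigma.ι (fun j => (A j).left) j) (Sigma.ι_desc _ _)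

theorem sig_cover : Sieve.ofArrows A (sigι A) ∈ Jf S (sigObj A) := by
  rw [mem_Jf_iff]
  intro w
  obtain ⟨j, a, ha⟩ := (sigmaOpenCover (fun j => (A j).left)).exists_eq w
  refine ⟨A j, sigι A j, Sieve.ofArrows_mk _ _ j, ?_, ?_, ⟨a, ha⟩⟩
  · exact inferInstanceAs (Flat (Sigma.ι (fun j => (A j).left) j))
  · exact inferInstanceAs (LocallyOfFinitePresentation (Sigma.ι (fun j => (A j).left) j))

theorem glue_sigma (G : BigSite.Ab Scheme.fppfPrecoverage S) (x : ∀ j, G.obj.obj (op (A j))) :
    ∃! s : G.obj.obj (op (sigObj A)), ∀ j, G.obj.map (sigι A j).op s = x j := by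
  classical
  have h1 := isSheaf_forget (J := Jf S) G
  have h2 : Presieve.IsSheafFor (G.obj ⋙ forget AddCommGrpCat.{u + 1})
      (Presieve.ofArrows A (sigι A)) :=
    (Presieve.isSheafFor_iff_generate _).2 (h1 _ (sig_cover A))
  refine (Presieve.isSheafFor_arrows_iff _ _).1 h2 x ?_
  intro i j Z gi gj hg
  by_cases hij : i = j
  · subst hij
    haveI : Mono (sigι A i) := by
      haveI : Mono (sigι A i).left := inferInstanceAs (Mono (Sigma.ι (fun j => (A j).left) i))
      exact mono_of_left_mono _
    rw [(cancel_mono (sigι A i)).1 hg]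
  · haveI : IsEmpty Z.left := by
      have hsq : CommSq gi.left gj.left (Sigma.ι (fun j => (A j).left) i)
          (Sigma.ι (fun j => (A j).left) j) :=
        ⟨congrArg (fun φ => φ.left) hg⟩
      exact isEmpty_of_commSq_sigmaι_of_ne (g := fun j => (A j).left) hsq hij
    haveI := subsingleton_of_isEmpty G Z
    exact Subsingleton.elim _ _

end Sigma

/-- an fppf covering sieve of an affine object contains the summands of an affine flat lfp
surjective `V ⟶ Z`, where `V` is a finite disjoint union on which sheaves glue -/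
theorem exists_affine_surj {Z : Over S} [IsAffine Z.left] {R : Sieve Z} (hR : R ∈ Jf S Z) :
    ∃ (V : Over S) (_ : IsAffine V.left) (d : V ⟶ Z) (_ : Surjective d.left) (_ : Flat d.left)
      (_ : LocallyOfFinitePresentation d.left) (ι : Type u)
      (Vj : ι → Over S) (ij : ∀ j, Vj j ⟶ V),
      (∀ j, R (ij j ≫ d)) ∧
      ∀ (G : BigSite.Ab Scheme.fppfPrecoverage S) (x : ∀ j, G.obj.obj (op (Vj j))),
        ∃! s : G.obj.obj (op V), ∀ j, G.obj.map (ij j).op s = x j := by
  rw [mem_Jf_iff] at hR
  choose Y f hf hfl hfp hy using hR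
  choose y hy using hy
  obtain ⟨O, hO⟩ : ∃ O : ∀ z : Z.left, Over S, O = fun z =>
      Over.mk ((Y z).left.affineCover.f ((Y z).left.affineCover.idx (y z)) ≫ (Y z).hom) := ⟨_, rfl⟩
  obtain ⟨o, ho⟩ : ∃ o : ∀ z, O z ⟶ Y z, ∀ z, (o z).left =
      hO ▸ (Y z).left.affineCover.f ((Y z).left.affineCover.idx (y z)) := by
    subst hO
    exact ⟨fun z => Over.homMk _ rfl, fun z => rfl⟩
  haveI hOaff : ∀ z, IsAffine (O z).left := by
    subst hO
    intro z
    exact inferInstanceAs (IsAffine ((Y z).left.affineCover.X _))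
  haveI hoI : ∀ z, IsOpenImmersion (o z).left := by
    subst hO
    intro z
    rw [ho z]
    exact (Y z).left.affineCover.map_prop _
  have hoy : ∀ z, y z ∈ Set.range (o z).left := by
    subst hO
    intro z
    rw [ho z]
    exact (Y z).left.affineCover.covers (y z)
  clear ho hO
  obtain ⟨g, hg⟩ : ∃ g : ∀ z, O z ⟶ Z, g = fun z => o z ≫ f z := ⟨_, rfl⟩
  haveI hgfl : ∀ z, Flat (g z).left := by
    intro z; rw [hg]
    haveI := hfl z
    exact inferInstanceAs (Flat ((o z).left ≫ (f z).left))
  haveI hgfp : ∀ z, LocallyOfFinitePresentation (g z).left := by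
    intro z; rw [hg]
    haveI := hfp z
    exact inferInstanceAs (LocallyOfFinitePresentation ((o z).left ≫ (f z).left))
  have hopen : ∀ z, IsOpen (Set.range (g z).left) := fun z => (g z).left.isOpenMap.isOpen_range
  have hmem : ∀ z, z ∈ Set.range (g z).left := by
    intro z
    obtain ⟨a, ha⟩ := hoy z
    refine ⟨a, ?_⟩
    rw [hg]
    calc (o z ≫ f z).left a = (f z).left ((o z).left a) := Scheme.Hom.comp_apply _ _ _
      _ = z := by rw [ha, hy]
  obtain ⟨t, ht⟩ := isCompact_univ.elim_finite_subcover (fun z => Set.range (g z).left) hopen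
    (fun z _ => Set.mem_iUnion.2 ⟨z, hmem z⟩)
  obtain ⟨A, hA⟩ : ∃ A : t → Over S, A = fun j => O j.1 := ⟨_, rfl⟩
  haveI : ∀ j, IsAffine (A j).left := by
    subst hA; exact fun j => hOaff j.1
  obtain ⟨dS, hdS⟩ : ∃ dS : (∐ fun j => (A j).left) ⟶ Z.left,
      ∀ j : t, Sigma.ι (fun j => (A j).left) j ≫ dS = hA ▸ (g j.1).left := by
    subst hA
    exact ⟨Sigma.desc (fun j : t => (g j.1).left), fun j => Sigma.ι_desc _ _⟩
  have hd : dS ≫ Z.hom = Sigma.desc (fun j => (A j).hom) := by
    subst hA
    apply Sigma.hom_ext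
    intro j
    rw [← Category.assoc, hdS j, Sigma.ι_desc]
    exact Over.w (g j.1)
  obtain ⟨d, hd'⟩ : ∃ d : sigObj A ⟶ Z, d.left = dS := ⟨Over.homMk dS hd, rfl⟩
  have hιd : ∀ j : t, sigι A j ≫ d = hA ▸ g j.1 := by
    subst hA
    intro j
    apply Over.OverMorphism.ext
    change Sigma.ι _ j ≫ d.left = _
    rw [hd', hdS j]
  have hR' : ∀ j : t, R (sigι A j ≫ d) := fun j => by
    subst hA
    rw [hιd j, hg]
    exact R.downward_closed (hf j.1) _
  have hsurj : Surjective d.left := ⟨fun z => by
    subst hA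
    obtain ⟨j, hj, a, ha⟩ : ∃ j ∈ t, ∃ a, (g j).left a = z := by
      have := ht (Set.mem_univ z)
      simpa only [Set.mem_iUnion, Set.mem_range, exists_prop] using this
    refine ⟨Sigma.ι (fun j : t => (O j.1).left) ⟨j, hj⟩ a, ?_⟩
    rw [hd']
    calc dS (Sigma.ι (fun j : t => (O j.1).left) ⟨j, hj⟩ a)
        = (Sigma.ι (fun j : t => (O j.1).left) ⟨j, hj⟩ ≫ dS) a :=
          (Scheme.Hom.comp_apply _ _ _).symm
      _ = (g j).left a := by rw [hdS ⟨j, hj⟩]
      _ = z := ha⟩
  haveI hdfl : Flat d.left := by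
    subst hA
    rw [hd']
    have e : dS = Sigma.desc (fun j : t => (g j.1).left) := by
      apply Sigma.hom_ext
      intro j
      rw [hdS j, Sigma.ι_desc]
    rw [e]
    exact IsZariskiLocalAtSource.sigmaDesc (P := @Flat) (fun j => hgfl j.1)
  haveI hdfp : LocallyOfFinitePresentation d.left := by
    subst hA
    rw [hd']
    have e : dS = Sigma.desc (fun j : t => (g j.1).left) := by
      apply Sigma.hom_ext
      intro j
      rw [hdS j, Sigma.ι_desc]
    rw [e]
    exact IsZariskiLocalAtSource.sigmaDesc (P := @LocallyOfFinitePresentation) (fun j => hgfp j.1)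
  exact ⟨sigObj A, inferInstanceAs (IsAffine (∐ fun j => (A j).left)), d, hsurj, hdfl, hdfp, t, A,
    sigι A, hR', fun G x => glue_sigma A G x⟩

end Groth.Agent.Lib.BigCartanH4
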