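import Mathlib
import Groth.Agent.Lib.BigCartanA_helper4
import Groth.Agent.Lib.EtCartan2_helper8
import Groth.Agent.Lib.GaCech1_helper8
import Groth.Agent.Lib.CechSiteSES_helper2
import Groth.Agent.Lib.CechSiteInj_helper2

/-!
# Cartan's criterion on the big fppf site, for affine objects and single affine covers (helper4)

Port of helper8's `EtCartan3_helper8` from the small étale site to the big fppf site.
-/

set_option autoImplicit false
set_option linter.style.haveILetI false
set_option linter.unusedSectionVars false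
universe u
open CategoryTheory CategoryTheory.Limits AlgebraicGeometry Opposite Abelian

namespace Groth.Agent.Lib.BigCartanH4

open Groth.Agent.Lib.CechSite Groth.Agent.Lib.GaCechH8 Groth.Agent.Lib.EtCartanH8

variable {S : Scheme.{u}}

/-- slices of the big site have finite products -/
theorem hasFiniteProducts_over (W : Over S) : HasFiniteProducts (Over W) := by
  have : HasBinaryProducts (Over W) := Over.ConstructProducts.over_binaryProduct_of_pullback
  have : HasTerminal (Over W) := Over.over_hasTerminal W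
  exact hasFiniteProducts_of_has_binary_and_terminal

attribute [local instance] hasFiniteProducts_over

/-- the abelian sheaves on the big fppf site -/
abbrev AbF (S : Scheme.{u}) : Type (u + 2) := BigSite.Ab Scheme.fppfPrecoverage S

/-- Čech acyclicity for single flat lfp surjective covers of affine objects by affine objects -/
def AffCech (F : AbF S) : Prop :=
  ∀ (U : Over S), IsAffine U.left → ∀ (V : Over U), IsAffine V.left.left →
    Surjective V.hom.left → Flat V.hom.left → LocallyOfFinitePresentation V.hom.left → ∀ p : ℕ,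
      IsZero (((cechComplexFunctor (Y1.{u + 1} V)).obj
        ((Over.forget U).op ⋙ F.obj)).homology (p + 1))

variable (Sx : ShortComplex (AbF S)) (hS : Sx.ShortExact)
include hS

theorem sections_surjective (h1 : AffCech Sx.X₁) (U : Over S) [IsAffine U.left] :
    Function.Surjective (Sx.g.hom.app (op U)).hom := by
  intro z
  haveI := hS.epi_g
  obtain ⟨V, hV, d, hd, hdfl, hdfp, ι, Vj, ij, hRj, hglue⟩ :=
    exists_affine_surj (imageSieve_mem_of_epi Sx.g U z)
  choose t ht using hRj
  obtain ⟨tV, htV, -⟩ := hglue Sx.X₂ t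
  have hgt : (Sx.g.hom.app (op V)).hom tV = rs Sx.X₃.obj d z := by
    apply (hglue Sx.X₃ (fun j => (Sx.g.hom.app (op (Vj j))).hom (t j))).unique
    · intro j
      have h := rs_app Sx.X₂.obj Sx.g.hom (ij j) tV
      have h2 : rs Sx.X₂.obj (ij j) tV = t j := htV j
      rw [h2] at h
      exact h.symm
    · intro j
      have h := rs_rs Sx.X₃.obj (ij j) d z
      exact h.trans (ht j).symm
  -- the Čech argument for the single cover `V ⟶ U`
  let V' : Over U := Over.mk d
  have hY : Sieve.ofArrows (fun i => ((Y1.{u + 1} V') i).left) (fun i => ((Y1.{u + 1} V') i).hom) ∈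
      Jf S U := by
    rw [mem_Jf_iff]
    intro x
    obtain ⟨v, hv⟩ := hd.surj x
    exact ⟨V, d, Sieve.ofArrows_mk _ _ PUnit.unit, hdfl, hdfp, v, hv⟩
  exact lift_of_cechH1 (Y1.{u + 1} V') Sx hS hY (h1 U inferInstance V' hV hd hdfl hdfp 0) z
    (fun _ => tV) (fun _ => hgt)

omit hS in
lemma isPullback_prod (U : Over S) (W V : Over U) :
    IsPullback (prod.fst (X := W) (Y := V)).left.left (prod.snd (X := W) (Y := V)).left.left
      W.hom.left V.hom.left :=
  (Over.isPullback_of_binaryFan_isLimit (BinaryFan.mk prod.fst prod.snd) (prodIsProd W V)).map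
    (Over.forget S)

omit hS in
lemma isAffine_prod (U : Over S) [IsAffine U.left] (W V : Over U)
    [IsAffine W.left.left] [IsAffine V.left.left] : IsAffine (W ⨯ V).left.left :=
  IsAffine.of_isPullback (isPullback_prod U W V)

omit hS in
lemma isAffine_of_iso (U : Over S) {W W' : Over U} (e : W ≅ W') [IsAffine W.left.left] :
    IsAffine W'.left.left := by
  haveI : IsIso e.inv.left.left := inferInstanceAs
    (IsIso ((Over.forget S).map ((Over.forget U).map e.inv)))
  exact IsAffine.of_isIso e.inv.left.left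

omit hS in
lemma isAffine_Pw (U : Over S) [IsAffine U.left] (V : Over U)
    [IsAffine V.left.left] : ∀ n : ℕ, IsAffine (Pw V (n + 1)).left.left
  | 0 => isAffine_of_iso U (productUniqueIso (fun _ : Fin 1 => V)).symm
  | n + 1 => by
    haveI := isAffine_Pw U V n
    haveI : IsAffine (V ⨯ Pw V (n + 1)).left.left := isAffine_prod U V (Pw V (n + 1))
    let e : (V ⨯ Pw V (n + 1)) ≅ Pw V (n + 2) :=
      IsLimit.conePointUniqueUpToIso
        (extendFanIsLimit (fun _ : Fin (n + 2) => V) (limit.isLimit _) (prodIsProd V (Pw V (n + 1))))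
        (limit.isLimit _)
    exact isAffine_of_iso U e

omit hS in
lemma injective_obj_big (I : AbF S) [Injective I] : Injective I.obj :=
  (Injective.injective_of_adjoint
    (sheafificationAdjunction (Jf S) AddCommGrpCat.{u + 1}) I :
    Injective ((sheafToPresheaf (Jf S) AddCommGrpCat.{u + 1}).obj I))

theorem affCech_X₃ [Injective Sx.X₂] (h1 : AffCech Sx.X₁) : AffCech Sx.X₃ := by
  intro U hU V hV hs hfl hfp p
  haveI := hU
  haveI := hV
  haveI : Injective Sx.X₂.obj := injective_obj_big Sx.X₂
  refine Groth.Agent.Lib.CechSiteSES.isZero_cechH_X₃ (Y1.{u + 1} V) Sx hS p ?_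
    (isZero_cech_of_injective (Y1.{u + 1} V) Sx.X₂.obj p) (h1 U hU V hV hs hfl hfp (p + 1))
  intro σ
  haveI : IsAffine (T (Y1.{u + 1} V) σ).left.left := isAffine_Pw U V (p + 1)
  exact sections_surjective Sx hS h1 (T (Y1.{u + 1} V) σ).left

omit hS in
/-- Cartan's criterion: Čech acyclic sheaves are acyclic over an affine base -/
theorem ext_vanish [IsAffine S] (q : ℕ) : ∀ (G : AbF S), AffCech G →
    ∀ x : BigSite.H Scheme.fppfPrecoverage S G (q + 1), x = 0 := by
  induction q with
  | zero =>
    intro G hG x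
    let Sx : ShortComplex (AbF S) :=
      ShortComplex.mk (Injective.ι G) (cokernel.π (Injective.ι G)) (cokernel.condition _)
    have hSx : Sx.ShortExact := { exact := ShortComplex.exact_cokernel (Injective.ι G) }
    haveI : Injective Sx.X₂ := inferInstanceAs (Injective (Injective.under G))
    obtain ⟨x₃, hx₃⟩ : ∃ x₃ : BigSite.H Scheme.fppfPrecoverage S Sx.X₃ 0,
        x₃.comp hSx.extClass (zero_add 1) = x :=
      Ext.covariant_sequence_exact₁ _ hSx x (Ext.eq_zero_of_injective _) (zero_add 1)
    have hT : IsTerminal (Over.mk (𝟙 S)) := Over.mkIdTerminal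
    haveI : IsAffine (Over.mk (𝟙 S)).left := ‹IsAffine S›
    obtain ⟨b, hb⟩ := sections_surjective Sx hSx hG (Over.mk (𝟙 S)) (Sheaf.H.equiv₀ Sx.X₃ hT x₃)
    have hy : Sheaf.H.map Sx.g 0 ((Sheaf.H.equiv₀ Sx.X₂ hT).symm b) = x₃ := by
      rw [Sheaf.H.equiv₀_symm_naturality]
      apply (Sheaf.H.equiv₀ Sx.X₃ hT).injective
      rw [AddEquiv.apply_symm_apply]
      exact hb
    rw [← hx₃, ← hy, Sheaf.H.map_apply]
    refine (Ext.comp_assoc_of_second_deg_zero _ (Ext.mk₀ Sx.g)
      hSx.extClass (zero_add 1)).trans ?_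
    exact (congrArg (fun t => ((Sheaf.H.equiv₀ Sx.X₂ hT).symm b).comp t (zero_add 1))
      hSx.comp_extClass).trans (Ext.comp_zero _ _ _ _ _)
  | succ q ih =>
    intro G hG x
    let Sx : ShortComplex (AbF S) :=
      ShortComplex.mk (Injective.ι G) (cokernel.π (Injective.ι G)) (cokernel.condition _)
    have hSx : Sx.ShortExact := { exact := ShortComplex.exact_cokernel (Injective.ι G) }
    haveI : Injective Sx.X₂ := inferInstanceAs (Injective (Injective.under G))
    have hQ : AffCech Sx.X₃ := affCech_X₃ Sx hSx hG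
    obtain ⟨x₃, hx₃⟩ : ∃ x₃ : BigSite.H Scheme.fppfPrecoverage S Sx.X₃ (q + 1),
        x₃.comp hSx.extClass rfl = x :=
      Ext.covariant_sequence_exact₁ _ hSx x (Ext.eq_zero_of_injective _) rfl
    rw [← hx₃, ih Sx.X₃ hQ x₃, Ext.zero_comp]

omit hS in
theorem subsingleton_H_of_affCech [IsAffine S] (G : AbF S) (hG : AffCech G) (p : ℕ)
    (hp : 1 ≤ p) : Subsingleton (BigSite.H Scheme.fppfPrecoverage S G p) := by
  obtain ⟨n, rfl⟩ : ∃ n, p = n + 1 := ⟨p - 1, by omega⟩
  exact ⟨fun a b => (ext_vanish n G hG a).trans (ext_vanish n G hG b).symm⟩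

end Groth.Agent.Lib.BigCartanH4
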