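import Mathlib
import Groth.Prelude.Def_Adeq2
import Groth.Agent.Lib.AdeqShJ_helper4
import Groth.Agent.Lib.BigCartanB_helper4

/-!
# Sheaf-level adequate modules, part K (helper4): cohomology of adequate modules over affines

* `affCech_pull`: the restriction of an adequate module to the big site of any `T → S` is Čech
  acyclic for single flat surjective finitely presented covers of affines by affines.
* `main8759`: `H^q(U, M) = 0` for `U` affine, `q > 0`, `M` adequate.
-/

set_option autoImplicit false
set_option linter.unusedSectionVars false
set_option linter.style.haveILetI false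
universe u

open CategoryTheory Limits TensorProduct Adeq AlgebraicGeometry Opposite
open Groth.Agent.Lib.AdeqH3 Groth.Agent.Lib.GaCechH8 Groth.Agent.Lib.BigCartanH4

namespace Groth.Agent.Lib.AdeqShH4

attribute [local instance] hasFiniteProducts_over

noncomputable section

lemma from_left_left {T : Scheme.{u}} {U : Over T} (W : Over U) :
    ((Over.mkIdTerminal (X := U)).from W).left.left = W.hom.left := by
  have h := Over.w ((Over.mkIdTerminal (X := U)).from W)
  have h2 : ((Over.mkIdTerminal (X := U)).from W).left = W.hom :=
    (Category.comp_id _).symm.trans h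
  rw [h2]

theorem affCech_pull {S T : Scheme.{u}} (f : T ⟶ S) (M : BigSite.Mod Scheme.fppfPrecoverage S)
    (hM : Adeq.adequateMod Scheme.fppfPrecoverage S M) :
    AffCech ((BigSite.pullBig Scheme.fppfPrecoverage f AddCommGrpCat.{u + 1}).obj
      ((BigSite.toAbMod Scheme.fppfPrecoverage S).obj M)) := by
  intro U hU V hV hs hfl hfp p
  haveI := hU
  haveI := hV
  rw [Groth.Agent.Lib.CechSite.isZero_homology_succ_iff]
  refine exact_of_single V _ p ?_
  haveI : IsAffine ((Over.forget U ⋙ Over.map f).obj (Over.mk (𝟙 U))).left := hU
  haveI : IsAffine ((Over.forget U ⋙ Over.map f).obj V).left := hV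
  refine cech_exact (Over.forget U ⋙ Over.map f) Over.mkIdTerminal M ?_ V hM ?_ ?_ p
  · intro W V'
    change IsPullback (prod.fst (X := W) (Y := V')).left.left (prod.snd (X := W) (Y := V')).left.left
      ((Over.mkIdTerminal (X := U)).from W).left.left
      ((Over.mkIdTerminal (X := U)).from V').left.left
    rw [from_left_left, from_left_left]
    exact isPullback_prod U W V'
  · change Flat ((Over.mkIdTerminal (X := U)).from V).left.left
    rw [from_left_left]
    exact hfl
  · change Surjective ((Over.mkIdTerminal (X := U)).from V).left.left
    rw [from_left_left]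
    exact hs

/-- S8759 -/
theorem main8759 (S : Scheme.{u}) (M : BigSite.Mod Scheme.fppfPrecoverage S)
    (hM : Adeq.adequateMod Scheme.fppfPrecoverage S M) (U : Over S) [IsAffine U.left] (q : ℕ)
    (hq : 0 < q) :
    Subsingleton (BigSite.HU Scheme.fppfPrecoverage
      ((BigSite.toAbMod Scheme.fppfPrecoverage S).obj M) q U) :=
  subsingleton_H_of_affCech (S := U.left) _ (affCech_pull U.hom M hM) q hq

end

end Groth.Agent.Lib.AdeqShH4
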