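import Mathlib
import Groth.Prelude.Def_Adeq2
import Groth.Agent.Lib.AdeqShK_helper4
import Groth.Agent.Lib.AdeqShE_helper4

/-!
# Sheaf-level adequate modules, part L (helper4): extensions

* `epi_toAbMod`: the forgetful functor from modules on the big site to abelian sheaves preserves
  epimorphisms (port of helper9's `EpiLoc.epi_toSheaf`).
-/

set_option autoImplicit false
set_option linter.unusedSectionVars false
set_option linter.style.haveILetI false
universe u

open CategoryTheory Limits TensorProduct Adeq AlgebraicGeometry Opposite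
open Groth.Agent.Lib.AdeqH3 Groth.Agent.Lib.GaCechH8 Groth.Agent.Lib.BigCartanH4

namespace Groth.Agent.Lib.AdeqShH4

noncomputable section

section Epi

variable (K : Precoverage Scheme.{u}) [BigSite.OSh K] {S : Scheme.{u}}

set_option backward.isDefEq.respectTransparency false in
theorem epi_toAbMod {F G : BigSite.Mod K S} (p : F ⟶ G) [Epi p] :
    Epi ((BigSite.toAbMod K S).map p) := by
  let α := 𝟙 (BigSite.ORing K S).obj
  let L := PresheafOfModules.sheafification.{u + 1} α
  let i := SheafOfModules.forget.{u + 1} (BigSite.ORing K S) ⋙ PresheafOfModules.restrictScalars α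
  let adj : L ⊣ i := PresheafOfModules.sheafificationAdjunction α
  let T := SheafOfModules.toSheaf.{u + 1} (BigSite.ORing K S)
  let e := Abelian.factorThruImage (i.map p)
  let m := Abelian.image.ι (i.map p)
  have hfac : e ≫ m = i.map p := Abelian.image.fac _
  haveI : Epi e := inferInstance
  haveI : Mono m := inferInstance
  haveI : IsIso (adj.counit.app F) := inferInstance
  haveI : IsIso (adj.counit.app G) := inferInstance
  have hnat : L.map (i.map p) ≫ adj.counit.app G = adj.counit.app F ≫ p :=
    adj.counit.naturality p
  haveI : Epi (L.map (i.map p)) := by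
    have h2 : L.map (i.map p) = (adj.counit.app F ≫ p) ≫ inv (adj.counit.app G) := by
      rw [← hnat, Category.assoc, IsIso.hom_inv_id, Category.comp_id]
    rw [h2]
    infer_instance
  have hLfac : L.map e ≫ L.map m = L.map (i.map p) := by rw [← L.map_comp, hfac]
  haveI : Epi (L.map m) := by
    haveI : Epi (L.map e ≫ L.map m) := by rw [hLfac]; infer_instance
    exact epi_of_epi (L.map e) (L.map m)
  haveI : Mono (L.map m) := inferInstance
  haveI : IsIso (L.map m) := isIso_of_mono_of_epi _
  haveI : Epi ((PresheafOfModules.toPresheaf _).map e) := inferInstance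
  haveI : Epi (T.map (L.map e)) := by
    show Epi ((presheafToSheaf _ _).map ((PresheafOfModules.toPresheaf _).map e))
    infer_instance
  have h3 : p = inv (adj.counit.app F) ≫ (L.map e ≫ L.map m) ≫ adj.counit.app G := by
    rw [hLfac, hnat, IsIso.inv_hom_id_assoc]
  have h4 : T.map p = T.map (inv (adj.counit.app F)) ≫ (T.map (L.map e) ≫ T.map (L.map m)) ≫
      T.map (adj.counit.app G) := by
    conv_lhs => rw [h3]
    simp only [Functor.map_comp]
  show Epi (T.map p)
  rw [h4]
  infer_instance

end Epi

section Ext

attribute [local instance] hasFiniteProducts_over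

variable {S : Scheme.{u}}

/-- adequate modules are Čech acyclic for single flat surjective covers of affines by affines -/
theorem affCech_mod (M : BigSite.Mod Scheme.fppfPrecoverage S)
    (hM : Adeq.adequateMod Scheme.fppfPrecoverage S M) :
    AffCech ((BigSite.toAbMod Scheme.fppfPrecoverage S).obj M) := by
  intro U hU V hV hs hfl hfp p
  haveI := hU
  haveI := hV
  rw [Groth.Agent.Lib.CechSite.isZero_homology_succ_iff]
  refine exact_of_single V _ p ?_
  haveI : IsAffine ((Over.forget U).obj (Over.mk (𝟙 U))).left := hU
  haveI : IsAffine ((Over.forget U).obj V).left := hV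
  refine cech_exact (Over.forget U) Over.mkIdTerminal M ?_ V hM ?_ ?_ p
  · intro W V'
    change IsPullback (prod.fst (X := W) (Y := V')).left.left (prod.snd (X := W) (Y := V')).left.left
      ((Over.mkIdTerminal (X := U)).from W).left.left
      ((Over.mkIdTerminal (X := U)).from V').left.left
    rw [from_left_left, from_left_left]
    exact isPullback_prod U W V'
  · change Flat ((Over.mkIdTerminal (X := U)).from V).left.left
    rw [from_left_left]
    exact hfl
  · change Surjective ((Over.mkIdTerminal (X := U)).from V).left.left
    rw [from_left_left]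
    exact hs

theorem shortExact_toAbMod (K : Precoverage Scheme.{u}) [BigSite.OSh K]
    (C : ShortComplex (BigSite.Mod K S)) (hC : C.ShortExact) :
    (C.map (BigSite.toAbMod K S)).ShortExact := by
  haveI := hC.mono_f
  haveI := hC.epi_g
  have hm : Mono ((BigSite.toAbMod K S).map C.f) := inferInstance
  have he : Epi ((BigSite.toAbMod K S).map C.g) := epi_toAbMod K C.g
  have hex : (C.map (BigSite.toAbMod K S)).Exact :=
    hC.exact.map_of_mono_of_preservesKernel (BigSite.toAbMod K S) hC.mono_f inferInstance
  exact ShortComplex.ShortExact.mk' hex hm he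

theorem shortExact_of_sectionwise {A : Type u} [CommRing A] (X : ShortComplex (MVF A))
    (hf : ∀ B : Alg A, Function.Injective (X.f.app (pt B)))
    (hg : ∀ B : Alg A, Function.Surjective (X.g.app (pt B)))
    (hex : ∀ (B : Alg A) (x : X.X₂.obj (pt B)), X.g.app (pt B) x = 0 →
      ∃ y, X.f.app (pt B) y = x) : X.ShortExact := by
  have hm : Mono X.f := PresheafOfModules.mono_of_injective (fun ⟨⟨B⟩⟩ => hf B)
  have he : Epi X.g := PresheafOfModules.epi_of_surjective (fun ⟨⟨B⟩⟩ => hg B)
  haveI := isIso_kernel_lift X.f X.g hf X.zero hex
  have hE : X.Exact := by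
    rw [ShortComplex.exact_iff_epi_kernel_lift]
    infer_instance
  exact ShortComplex.ShortExact.mk' hE hm he

/-- S8763 -/
theorem main8763 (S : Scheme.{u}) (C : ShortComplex (BigSite.Mod Scheme.fppfPrecoverage S))
    (hC : C.ShortExact) (h₁ : Adeq.adequateMod Scheme.fppfPrecoverage S C.X₁)
    (h₃ : Adeq.adequateMod Scheme.fppfPrecoverage S C.X₃) :
    Adeq.adequateMod Scheme.fppfPrecoverage S C.X₂ := by
  refine ⟨S.affineOpenCover.I₀, S.affineOpenCover.X, S.affineOpenCover.f,
    affineOpenCover_mem_fppf S, fun i => ?_⟩
  refine adequate_ext (C.map (toMVF Scheme.fppfPrecoverage (S.affineOpenCover.f i))) ?_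
    (main8755 S C.X₁ h₁ _ _) (main8755 S C.X₃ h₃ _ _)
  haveI := hC.mono_f
  apply shortExact_of_sectionwise
  · intro B
    haveI : (SheafOfModules.evaluation (BigSite.ORing Scheme.fppfPrecoverage S)
        (op ((specOver (S.affineOpenCover.f i)).obj (op B)))).PreservesZeroMorphisms :=
      ⟨fun _ _ => rfl⟩
    have hm : Mono ((SheafOfModules.evaluation (BigSite.ORing Scheme.fppfPrecoverage S)
        (op ((specOver (S.affineOpenCover.f i)).obj (op B)))).map C.f) := inferInstance
    exact fun x y hxy => (ModuleCat.mono_iff_injective _).1 hm hxy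
  · intro B
    haveI : IsAffine ((specOver (S.affineOpenCover.f i)).obj (op B)).left :=
      inferInstanceAs (IsAffine (Spec (CommRingCat.of B)))
    exact sections_surjective (C.map (BigSite.toAbMod Scheme.fppfPrecoverage S))
      (shortExact_toAbMod Scheme.fppfPrecoverage C hC) (affCech_mod C.X₁ h₁)
      ((specOver (S.affineOpenCover.f i)).obj (op B))
  · intro B x hx
    haveI : (SheafOfModules.evaluation (BigSite.ORing Scheme.fppfPrecoverage S)
        (op ((specOver (S.affineOpenCover.f i)).obj (op B)))).PreservesZeroMorphisms :=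
      ⟨fun _ _ => rfl⟩
    have hS' := hC.exact.map_of_mono_of_preservesKernel
      (SheafOfModules.evaluation (BigSite.ORing Scheme.fppfPrecoverage S)
        (op ((specOver (S.affineOpenCover.f i)).obj (op B)))) inferInstance inferInstance
    exact (ShortComplex.moduleCat_exact_iff _).1 hS' x hx

end Ext

end

end Groth.Agent.Lib.AdeqShH4
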