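import Mathlib
import Groth.Prelude.Def_Adeq2
import Groth.Agent.Lib.AdeqShL_helper4

/-!
# Sheaf-level adequate modules, part M (helper4): quotients and cokernels

* `adequate_quot`: in a short exact sequence of modules with `M₁`, `M₂` adequate, `M₃` is adequate.
* `main8762`: cokernels of maps of adequate modules are adequate.
-/

set_option autoImplicit false
set_option linter.unusedSectionVars false
set_option linter.style.haveILetI false
universe u

open CategoryTheory Limits TensorProduct Adeq AlgebraicGeometry Opposite
open Groth.Agent.Lib.AdeqH3 Groth.Agent.Lib.GaCechH8 Groth.Agent.Lib.BigCartanH4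

namespace Groth.Agent.Lib.AdeqShH4

noncomputable section

/-- quotients of adequate modules by adequate submodules are adequate -/
theorem adequate_quot (S : Scheme.{u}) (C : ShortComplex (BigSite.Mod Scheme.fppfPrecoverage S))
    (hC : C.ShortExact) (h₁ : Adeq.adequateMod Scheme.fppfPrecoverage S C.X₁)
    (h₂ : Adeq.adequateMod Scheme.fppfPrecoverage S C.X₂) :
    Adeq.adequateMod Scheme.fppfPrecoverage S C.X₃ := by
  refine ⟨S.affineOpenCover.I₀, S.affineOpenCover.X, S.affineOpenCover.f,
    affineOpenCover_mem_fppf S, fun i => ?_⟩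
  refine adequate_of_coker ((toMVF Scheme.fppfPrecoverage (S.affineOpenCover.f i)).map C.f)
    ((toMVF Scheme.fppfPrecoverage (S.affineOpenCover.f i)).map C.g) ?_ ?_ ?_
    (main8755 S C.X₁ h₁ _ _) (main8755 S C.X₂ h₂ _ _)
  · intro B
    haveI : IsAffine ((specOver (S.affineOpenCover.f i)).obj (op B)).left :=
      inferInstanceAs (IsAffine (Spec (CommRingCat.of B)))
    exact sections_surjective (C.map (BigSite.toAbMod Scheme.fppfPrecoverage S))
      (shortExact_toAbMod Scheme.fppfPrecoverage C hC) (affCech_mod C.X₁ h₁)
      ((specOver (S.affineOpenCover.f i)).obj (op B))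
  · rw [← Functor.map_comp, C.zero, Functor.map_zero]
  · intro B x hx
    haveI := hC.mono_f
    haveI : (SheafOfModules.evaluation (BigSite.ORing Scheme.fppfPrecoverage S)
        (op ((specOver (S.affineOpenCover.f i)).obj (op B)))).PreservesZeroMorphisms :=
      ⟨fun _ _ => rfl⟩
    have hS' := hC.exact.map_of_mono_of_preservesKernel
      (SheafOfModules.evaluation (BigSite.ORing Scheme.fppfPrecoverage S)
        (op ((specOver (S.affineOpenCover.f i)).obj (op B)))) inferInstance inferInstance
    exact (ShortComplex.moduleCat_exact_iff _).1 hS' x hx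

/-- S8762 -/
theorem main8762 (S : Scheme.{u}) {M N : BigSite.Mod Scheme.fppfPrecoverage S} (φ : M ⟶ N)
    (hM : Adeq.adequateMod Scheme.fppfPrecoverage S M)
    (hN : Adeq.adequateMod Scheme.fppfPrecoverage S N) :
    Adeq.adequateMod Scheme.fppfPrecoverage S (cokernel φ) := by
  have hK : Adeq.adequateMod Scheme.fppfPrecoverage S (kernel φ) := main8761 S φ hM hN
  -- the coimage
  have hCo : Adeq.adequateMod Scheme.fppfPrecoverage S (Abelian.coimage φ) := by
    refine adequate_quot S (ShortComplex.mk (kernel.ι φ) (cokernel.π (kernel.ι φ))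
      (cokernel.condition _)) ?_ hK hM
    exact { exact := ShortComplex.exact_cokernel (kernel.ι φ) }
  -- the image
  have hIm : Adeq.adequateMod Scheme.fppfPrecoverage S (Abelian.image φ) :=
    (Adeq.adequateMod Scheme.fppfPrecoverage S).prop_of_iso (Abelian.coimageIsoImage φ) hCo
  refine adequate_quot S (ShortComplex.mk (kernel.ι (cokernel.π φ)) (cokernel.π φ)
    (kernel.condition _)) ?_ hIm hN
  exact { exact := ShortComplex.exact_kernel (cokernel.π φ) }

end

end Groth.Agent.Lib.AdeqShH4
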