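import Mathlib
import Groth.Prelude.Def_Adeq2
import Groth.Agent.Lib.AdeqShM_helper4
import Groth.Agent.Lib.CechSiteSheaf_helper2

/-!
# Sheaf-level adequate modules, part N (helper4): parasitic modules

* `main8784`: parasitic modules are closed under extensions (in the middle of an exact sequence).
-/

set_option autoImplicit false
set_option linter.unusedSectionVars false
set_option linter.style.haveILetI false
universe u

open CategoryTheory Limits TensorProduct Adeq AlgebraicGeometry Opposite
open Groth.Agent.Lib.AdeqH3 Groth.Agent.Lib.GaCechH8 Groth.Agent.Lib.BigCartanH4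

namespace Groth.Agent.Lib.AdeqShH4

noncomputable section

section Sep

variable (K : Precoverage Scheme.{u}) [BigSite.OSh K] {S : Scheme.{u}}

lemma pm_app {P Q : PresheafOfModules.{u + 1} (BigSite.ORing K S).obj} (φ : P ⟶ Q)
    {X Y : Over S} (f : X ⟶ Y) (x : P.obj (op Y)) :
    φ.app (op X) (pm P f x) = pm Q f (φ.app (op Y) x) :=
  PresheafOfModules.naturality_apply φ f.op x

/-- a section of a sheaf of modules vanishing on a covering sieve vanishes -/
theorem sep_of_sieve (M : BigSite.Mod K S) {X : Over S} (R : Sieve X)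
    (hR : R ∈ QuotSh.J K S X) (x : M.val.obj (op X))
    (hx : ∀ (Y : Over S) (f : Y ⟶ X), R f → pm M.val f x = 0) : x = 0 :=
  ((isSheaf_forget_mod K M) R hR).isSeparatedFor.ext
    (fun Y f hf => (hx Y f hf).trans (pm_zero M.val f).symm)

/-- the sieve of morphisms along which a section vanishes -/
def zeroSieve (M : BigSite.Mod K S) {X : Over S} (x : M.val.obj (op X)) : Sieve X where
  arrows Y f := pm M.val f x = 0
  downward_closed := by
    intro Y Z f hf g
    rw [← pm_comp, hf, pm_zero]

theorem eq_zero_of_zeroSieve (M : BigSite.Mod K S) {X : Over S} (x : M.val.obj (op X))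
    (h : zeroSieve K M x ∈ QuotSh.J K S X) : x = 0 :=
  sep_of_sieve K M _ h x (fun _ _ hf => hf)

end Sep

/-- S8784 (adequacy is not needed) -/
theorem main8784 (S : Scheme.{u}) (C : ShortComplex (BigSite.Mod Scheme.fppfPrecoverage S))
    (hC : C.Exact) (p₁ : Adeq.parasitic Scheme.fppfPrecoverage S C.X₁)
    (p₃ : Adeq.parasitic Scheme.fppfPrecoverage S C.X₃) :
    Adeq.parasitic Scheme.fppfPrecoverage S C.X₂ := by
  intro U hU
  suffices h : ∀ x : C.X₂.val.obj (op U), x = 0 from ⟨fun x y => (h x).trans (h y).symm⟩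
  intro x
  have hgx : C.g.val.app (op U) x = 0 := (p₃ U hU).elim _ _
  obtain ⟨k, hk⟩ := (sections_ker_exact Scheme.fppfPrecoverage C.g U).2 x hgx
  haveI : Epi (kernel.lift C.g C.f C.zero) := (ShortComplex.exact_iff_epi_kernel_lift C).1 hC
  haveI := epi_toAbMod Scheme.fppfPrecoverage (kernel.lift C.g C.f C.zero)
  have hsv := Groth.Agent.Lib.CechSite.imageSieve_mem_of_epi
    ((BigSite.toAbMod Scheme.fppfPrecoverage S).map (kernel.lift C.g C.f C.zero)) U k
  apply eq_zero_of_zeroSieve Scheme.fppfPrecoverage C.X₂ x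
  rw [mem_Jf_iff] at hsv ⊢
  intro z
  obtain ⟨Y, f, hRf, hfl, hfp, hz⟩ := hsv z
  refine ⟨Y, f, ?_, hfl, hfp, hz⟩
  obtain ⟨t, ht⟩ := hRf
  have hYfl : Flat Y.hom := by
    rw [← Over.w f]
    haveI := hfl
    haveI := hU
    infer_instance
  have hk0 : pm (kernel C.g).val f k = 0 := by
    let t' : C.X₁.val.obj (op Y) := t
    have h2 : (kernel.lift C.g C.f C.zero).val.app (op Y) t' = pm (kernel C.g).val f k := ht
    have ht0 : t' = 0 := (p₁ Y hYfl).elim _ _
    rw [← h2, ht0, map_zero]
  change pm C.X₂.val f x = 0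
  rw [← hk, ← pm_app, hk0, map_zero]

end

end Groth.Agent.Lib.AdeqShH4
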