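import Mathlib

/-!
# Presheaves on a slice category as presheaves on the base (helper4)

For a presheaf of types `G` on `Over S`, the presheaf `sig G` on `C` with
`(sig G)(T) = Σ g : T ⟶ S, G(T, g)`.  If the representable presheaf of `S` is a sheaf for a
topology `J` on `C`, then `G` is a sheaf for `J.over S` if and only if `sig G` is a sheaf for `J`.
-/

set_option autoImplicit false
universe w v u

open CategoryTheory Limits Opposite

namespace Groth.Agent.Lib.SigOverH4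

variable {C : Type u} [Category.{v} C] {S : C} (G : (Over S)ᵒᵖ ⥤ Type w)

/-- morphisms of the slice with equal underlying morphisms induce the same map -/
lemma map_eq_of_left {X Y : Over S} (f f' : X ⟶ Y) (h : f.left = f'.left) :
    G.map f.op = G.map f'.op := by
  rw [Over.OverMorphism.ext h]

lemma map_apply_eq_of_left {X Y : Over S} (f f' : X ⟶ Y) (h : f.left = f'.left)
    (x : G.obj (op Y)) : G.map f.op x = G.map f'.op x := by
  rw [Over.OverMorphism.ext h]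

lemma map_map {X Y Z : Over S} (f : X ⟶ Y) (g : Y ⟶ Z) (x : G.obj (op Z)) :
    G.map f.op (G.map g.op x) = G.map (f ≫ g).op x := by
  rw [op_comp, Functor.map_comp_apply]

lemma map_id_of_left {X : Over S} (f : X ⟶ X) (h : f.left = 𝟙 X.left) (x : G.obj (op X)) :
    G.map f.op x = x := by
  have : f = 𝟙 X := Over.OverMorphism.ext h
  rw [this, op_id, Functor.map_id_apply]

/-- the comparison morphism between two structure maps which are equal -/
def ovEq {T : C} {g g' : T ⟶ S} (e : g = g') : Over.mk g ⟶ Over.mk g' :=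
  Over.homMk (𝟙 T) (by rw [e]; exact Category.id_comp _)

@[simp] lemma ovEq_left {T : C} {g g' : T ⟶ S} (e : g = g') : (ovEq e).left = 𝟙 T := rfl

/-- the action of the presheaf on the base on morphisms -/
def sigMap {T T' : C} (h : T' ⟶ T) (x : Σ g : T ⟶ S, G.obj (op (Over.mk g))) :
    Σ g : T' ⟶ S, G.obj (op (Over.mk g)) :=
  ⟨h ≫ x.1, G.map (Over.homMk h rfl : Over.mk (h ≫ x.1) ⟶ Over.mk x.1).op x.2⟩

lemma heq_map {T : C} {g₁ g₂ : T ⟶ S} (e : g₁ = g₂) {Y : Over S} (y : G.obj (op Y))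
    (k₁ : Over.mk g₁ ⟶ Y) (k₂ : Over.mk g₂ ⟶ Y) (hk : k₁.left = k₂.left) :
    HEq (G.map k₁.op y) (G.map k₂.op y) := by
  subst e
  rw [map_eq_of_left G k₁ k₂ hk]

/-- the presheaf on the base -/
def sig : Cᵒᵖ ⥤ Type (max v w) where
  obj T := Σ g : T.unop ⟶ S, G.obj (op (Over.mk g))
  map {T T'} h := ↾(sigMap G h.unop)
  map_id T := by
    refine ConcreteCategory.hom_ext _ _ fun x => ?_
    obtain ⟨g, y⟩ := x
    have e : 𝟙 T.unop ≫ g = g := Category.id_comp g
    change sigMap G (𝟙 T.unop) ⟨g, y⟩ = ⟨g, y⟩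
    refine Sigma.ext e ?_
    refine (heq_map G e y _ (𝟙 _) rfl).trans ?_
    rw [op_id, Functor.map_id_apply]
  map_comp {T T' T''} h h' := by
    refine ConcreteCategory.hom_ext _ _ fun x => ?_
    obtain ⟨g, y⟩ := x
    have e : (h ≫ h').unop ≫ g = h'.unop ≫ h.unop ≫ g := Category.assoc _ _ _
    change sigMap G (h ≫ h').unop ⟨g, y⟩ = sigMap G h'.unop (sigMap G h.unop ⟨g, y⟩)
    refine Sigma.ext e ?_
    refine (heq_map G e y _ ((Over.homMk h'.unop rfl : Over.mk (h'.unop ≫ h.unop ≫ g) ⟶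
      Over.mk (h.unop ≫ g)) ≫ (Over.homMk h.unop rfl : Over.mk (h.unop ≫ g) ⟶ Over.mk g)) rfl).trans ?_
    rw [← map_map]
    rfl

lemma sig_map_apply {T T' : C} (h : T' ⟶ T) (x : (sig G).obj (op T)) :
    (sig G).map h.op x = sigMap G h x := rfl

lemma sig_map_fst {T T' : C} (h : T' ⟶ T) (x : (sig G).obj (op T)) :
    ((sig G).map h.op x).1 = h ≫ x.1 := rfl

/-- equality in the sigma presheaf -/
lemma sig_ext {T : C} (x y : (sig G).obj (op T)) (e : y.1 = x.1)
    (h : G.map (ovEq e).op x.2 = y.2) : x = y := by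
  obtain ⟨g, a⟩ := x
  obtain ⟨g', b⟩ := y
  change g' = g at e
  subst e
  have : a = b := by
    change G.map (ovEq (rfl : g' = g')).op a = b at h
    rw [← h]
    exact (map_id_of_left G _ rfl a).symm
  rw [this]

lemma sig_ext_iff {T : C} (x y : (sig G).obj (op T)) (h : x = y) :
    ∃ e : y.1 = x.1, G.map (ovEq e).op x.2 = y.2 := by
  subst h
  exact ⟨rfl, map_id_of_left G _ rfl _⟩

section Transfer

variable (J : GrothendieckTopology C)

lemma sieve_homMk_left {Y : Over S} (R : Sieve Y) {Z : Over S} (f : Z ⟶ Y) (hf : R f) :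
    R (Over.homMk f.left rfl : Over.mk (f.left ≫ Y.hom) ⟶ Y) := by
  have e : (Over.homMk f.left rfl : Over.mk (f.left ≫ Y.hom) ⟶ Y) =
      (ovEq (Over.w f) : Over.mk (f.left ≫ Y.hom) ⟶ Over.mk Z.hom) ≫ f :=
    Over.OverMorphism.ext (Category.id_comp _).symm
  rw [e]
  exact R.downward_closed hf _

lemma mem_of_overEquiv {Y : Over S} (R : Sieve Y) {Z : C} (k : Z ⟶ Y.left)
    (hk : Sieve.overEquiv Y R k) : R (Over.homMk k rfl : Over.mk (k ≫ Y.hom) ⟶ Y) :=
  (Sieve.overEquiv_iff R k).1 hk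

/-- the family of the sigma presheaf attached to a family on the slice -/
def sigFam {Y : Over S} (R : Sieve Y) (x : Presieve.FamilyOfElements G R.arrows) :
    Presieve.FamilyOfElements (sig G) (Sieve.overEquiv Y R).arrows :=
  fun _ k hk => ⟨k ≫ Y.hom, x (Over.homMk k rfl) (mem_of_overEquiv R k hk)⟩

lemma sigFam_compatible {Y : Over S} (R : Sieve Y) (x : Presieve.FamilyOfElements G R.arrows)
    (hx : x.Compatible) : (sigFam G R x).Compatible := by
  intro Z₁ Z₂ W k₁ k₂ h₁ h₂ hh₁ hh₂ comm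
  have e : k₂ ≫ h₂ ≫ Y.hom = k₁ ≫ h₁ ≫ Y.hom := by
    rw [← Category.assoc, ← comm, Category.assoc]
  refine sig_ext G _ _ e ?_
  change G.map (ovEq e).op (G.map (Over.homMk k₁ rfl :
      Over.mk (k₁ ≫ h₁ ≫ Y.hom) ⟶ Over.mk (h₁ ≫ Y.hom)).op (x _ (mem_of_overEquiv R h₁ hh₁))) =
    G.map (Over.homMk k₂ rfl : Over.mk (k₂ ≫ h₂ ≫ Y.hom) ⟶ Over.mk (h₂ ≫ Y.hom)).op
      (x _ (mem_of_overEquiv R h₂ hh₂))
  rw [map_map]
  refine hx _ _ (mem_of_overEquiv R h₁ hh₁) (mem_of_overEquiv R h₂ hh₂)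
    (Over.OverMorphism.ext ?_)
  change (𝟙 _ ≫ k₁) ≫ h₁ = k₂ ≫ h₂
  rw [Category.id_comp, comm]

/-- a presheaf on the slice whose sigma presheaf is a sheaf is a sheaf for the induced topology -/
theorem isSheaf_over_of_sig (hsep : Presieve.IsSeparated J (yoneda.obj S))
    (h : Presieve.IsSheaf J (sig G)) : Presieve.IsSheaf (J.over S) G := by
  intro Y R hR
  rw [GrothendieckTopology.mem_over_iff] at hR
  intro x hx
  obtain ⟨t, ht, htu⟩ := h _ hR (sigFam G R x) (sigFam_compatible G R x hx)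
  -- the first component
  have hg : t.1 = Y.hom := by
    refine (hsep _ hR).ext ?_
    intro Z k hk
    exact congrArg Sigma.fst (ht k hk)
  refine ⟨G.map (ovEq hg.symm : Y ⟶ Over.mk t.1).op t.2, ?_, ?_⟩
  · intro Z f hf
    have hk : Sieve.overEquiv Y R f.left := (Sieve.overEquiv_iff R f.left).2
      (sieve_homMk_left R f hf)
    obtain ⟨e, he⟩ := sig_ext_iff G _ _ (ht f.left hk)
    change G.map (ovEq _).op (G.map (Over.homMk f.left rfl :
      Over.mk (f.left ≫ t.1) ⟶ Over.mk t.1).op t.2) =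
        x (Over.homMk f.left rfl : Over.mk (f.left ≫ Y.hom) ⟶ Y)
          (mem_of_overEquiv R f.left hk) at he
    have hc := hx (ovEq (Over.w f).symm : Z ⟶ Over.mk (f.left ≫ Y.hom)) (𝟙 Z)
      (mem_of_overEquiv R f.left hk) hf (Over.OverMorphism.ext
        ((Category.id_comp _).trans (Category.id_comp _).symm))
    rw [map_id_of_left G (𝟙 Z) rfl] at hc
    rw [← hc, ← he, map_map, map_map, map_map]
    refine map_apply_eq_of_left G _ _ ?_ t.2
    change f.left ≫ 𝟙 _ = (𝟙 _ ≫ 𝟙 _) ≫ f.left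
    simp
  · intro y₂ hy₂
    have ht₂ : (sigFam G R x).IsAmalgamation (⟨Y.hom, y₂⟩ : (sig G).obj (op Y.left)) := by
      intro Z k hk
      change sigMap G k ⟨Y.hom, y₂⟩ = _
      unfold sigMap sigFam
      exact congrArg (Sigma.mk (k ≫ Y.hom)) (hy₂ _ (mem_of_overEquiv R k hk))
    have h2 := htu _ ht₂
    obtain ⟨e, he⟩ := sig_ext_iff G _ _ h2
    rw [← he]
    change y₂ = G.map (ovEq hg.symm : Y ⟶ Over.mk t.1).op (G.map (ovEq e).op y₂)
    rw [map_map]
    exact (map_id_of_left G _ (by simp) y₂).symm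

/-- the family on the slice attached to a family of the sigma presheaf whose first components
are glued to `g` -/
def overFam {T : C} (R' : Sieve T) (x' : Presieve.FamilyOfElements (sig G) R'.arrows) (g : T ⟶ S)
    (hg : ∀ {Z : C} (k : Z ⟶ T) (hk : R' k), (x' k hk).1 = k ≫ g) :
    Presieve.FamilyOfElements G ((Sieve.overEquiv (Over.mk g)).symm R').arrows :=
  fun Z f hf => G.map (ovEq ((Over.w f).symm.trans
      (hg f.left ((Sieve.overEquiv_symm_iff R' f).1 hf)).symm) :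
        Z ⟶ Over.mk (x' f.left ((Sieve.overEquiv_symm_iff R' f).1 hf)).1).op
    (x' f.left ((Sieve.overEquiv_symm_iff R' f).1 hf)).2

lemma overFam_compatible {T : C} (R' : Sieve T) (x' : Presieve.FamilyOfElements (sig G) R'.arrows)
    (hx' : x'.Compatible) (g : T ⟶ S)
    (hg : ∀ {Z : C} (k : Z ⟶ T) (hk : R' k), (x' k hk).1 = k ≫ g) :
    (overFam G R' x' g hg).Compatible := by
  intro Z₁ Z₂ W k₁ k₂ f₁ f₂ h₁ h₂ comm
  have h₁' := (Sieve.overEquiv_symm_iff R' f₁).1 h₁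
  have h₂' := (Sieve.overEquiv_symm_iff R' f₂).1 h₂
  have comm' : k₁.left ≫ f₁.left = k₂.left ≫ f₂.left := by
    rw [← Over.comp_left, ← Over.comp_left, comm]
  obtain ⟨e, he⟩ := sig_ext_iff G _ _ (hx' k₁.left k₂.left h₁' h₂' comm')
  change G.map (ovEq _).op (G.map (Over.homMk k₁.left rfl :
      Over.mk (k₁.left ≫ (x' f₁.left h₁').1) ⟶ Over.mk (x' f₁.left h₁').1).op (x' f₁.left h₁').2) =
    G.map (Over.homMk k₂.left rfl :
      Over.mk (k₂.left ≫ (x' f₂.left h₂').1) ⟶ Over.mk (x' f₂.left h₂').1).op (x' f₂.left h₂').2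
    at he
  unfold overFam
  rw [map_map, map_map]
  have e₃ : W.hom = k₂.left ≫ (x' f₂.left h₂').1 := by
    rw [hg f₂.left h₂', ← Category.assoc, ← Over.comp_left]
    exact (Over.w (k₂ ≫ f₂)).symm
  have h2 : G.map (k₂ ≫ (ovEq ((Over.w f₂).symm.trans (hg f₂.left h₂').symm) :
        Z₂ ⟶ Over.mk (x' f₂.left h₂').1)).op (x' f₂.left h₂').2 =
      G.map (ovEq e₃ : W ⟶ Over.mk (k₂.left ≫ (x' f₂.left h₂').1)).op
        (G.map (Over.homMk k₂.left rfl :
          Over.mk (k₂.left ≫ (x' f₂.left h₂').1) ⟶ Over.mk (x' f₂.left h₂').1).op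
          (x' f₂.left h₂').2) := by
    rw [map_map]
    refine map_apply_eq_of_left G _ _ ?_ _
    change k₂.left ≫ 𝟙 _ = 𝟙 _ ≫ k₂.left
    simp
  rw [h2, ← he, map_map, map_map]
  refine map_apply_eq_of_left G _ _ ?_ _
  change k₁.left ≫ 𝟙 _ = (𝟙 _ ≫ 𝟙 _) ≫ k₁.left
  simp

/-- if the representable presheaf of `S` is a sheaf, the sigma presheaf of a sheaf on the slice
is a sheaf -/
theorem isSheaf_sig_of_over (hS : Presieve.IsSheaf J (yoneda.obj S))
    (h : Presieve.IsSheaf (J.over S) G) : Presieve.IsSheaf J (sig G) := by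
  intro T R' hR' x' hx'
  -- glue the first components
  let kf : Presieve.FamilyOfElements (yoneda.obj S) R'.arrows := fun Z k hk => (x' k hk).1
  have hfst : kf.Compatible := by
    intro Z₁ Z₂ W k₁ k₂ f₁ f₂ h₁ h₂ comm
    exact congrArg Sigma.fst (hx' k₁ k₂ h₁ h₂ comm)
  obtain ⟨g, hg', hgu⟩ := hS _ hR' kf hfst
  have hg : ∀ {Z : C} (k : Z ⟶ T) (hk : R' k), (x' k hk).1 = k ≫ g :=
    fun k hk => (hg' k hk).symm
  obtain ⟨y, hy, hyu⟩ := h _ (J.overEquiv_symm_mem_over (Over.mk g) R' hR')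
    (overFam G R' x' g hg) (overFam_compatible G R' x' hx' g hg)
  refine ⟨⟨g, y⟩, ?_, ?_⟩
  · intro Z k hk
    refine sig_ext G _ _ (hg k hk) ?_
    have hf : (Sieve.overEquiv (Over.mk g)).symm R'
        (Over.homMk k rfl : Over.mk (k ≫ g) ⟶ Over.mk g) :=
      (Sieve.overEquiv_symm_iff (Y := Over.mk g) R'
        (Over.homMk k rfl : Over.mk (k ≫ g) ⟶ Over.mk g)).2 hk
    have h1 := hy _ hf
    change G.map (ovEq (hg k hk)).op (G.map (Over.homMk k rfl :
      Over.mk (k ≫ g) ⟶ Over.mk g).op y) = (x' k hk).2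
    rw [h1]
    unfold overFam
    rw [map_map]
    exact map_id_of_left G _ (by simp) _
  · intro t₂ ht₂
    have e₂ : g = t₂.1 := by
      symm
      refine hgu t₂.1 ?_
      intro Z k hk
      exact congrArg Sigma.fst (ht₂ k hk)
    have hy₂ : (overFam G R' x' g hg).IsAmalgamation
        (G.map (ovEq e₂ : Over.mk g ⟶ Over.mk t₂.1).op t₂.2) := by
      intro Z f hf
      have hf' := (Sieve.overEquiv_symm_iff R' f).1 hf
      obtain ⟨e, he⟩ := sig_ext_iff G _ _ (ht₂ f.left hf')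
      change G.map (ovEq _).op (G.map (Over.homMk f.left rfl :
        Over.mk (f.left ≫ t₂.1) ⟶ Over.mk t₂.1).op t₂.2) = (x' f.left hf').2 at he
      unfold overFam
      rw [← he, map_map, map_map, map_map]
      refine map_apply_eq_of_left G _ _ ?_ _
      change f.left ≫ 𝟙 _ = (𝟙 _ ≫ 𝟙 _) ≫ f.left
      simp
    have h3 := hyu _ hy₂
    refine (sig_ext G _ _ e₂.symm ?_).symm
    change G.map (ovEq e₂.symm).op y = t₂.2
    rw [← h3, map_map]
    exact map_id_of_left G _ (by simp) _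

end Transfer

section Singleton

/-- the sheaf condition of the sigma presheaf for a single morphism `φ`, from descent of morphisms
to `S` along `φ` and the equalizer condition of `G` over every `a : Y ⟶ S`, tested against one pair
`p₁, p₂` -/
theorem isSheafFor_sig_singleton {X Y Z : C} (φ : X ⟶ Y) (p₁ p₂ : Z ⟶ X) (hp : p₁ ≫ φ = p₂ ≫ φ)
    (hyon : Presieve.IsSheafFor (yoneda.obj S) (Presieve.singleton φ))
    (hinj : ∀ a : Y ⟶ S, Function.Injective
      (G.map (Over.homMk φ rfl : Over.mk (φ ≫ a) ⟶ Over.mk a).op))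
    (hglue : ∀ (a : Y ⟶ S) (m : G.obj (op (Over.mk (φ ≫ a)))),
      G.map (Over.homMk p₁ rfl : Over.mk (p₁ ≫ φ ≫ a) ⟶ Over.mk (φ ≫ a)).op m =
        G.map (Over.homMk p₂ (show p₂ ≫ φ ≫ a = p₁ ≫ φ ≫ a by
            rw [← Category.assoc, ← hp, Category.assoc]) :
          Over.mk (p₁ ≫ φ ≫ a) ⟶ Over.mk (φ ≫ a)).op m →
      ∃ m₀, G.map (Over.homMk φ rfl : Over.mk (φ ≫ a) ⟶ Over.mk a).op m₀ = m) :
    Presieve.IsSheafFor (sig G) (Presieve.singleton φ) := by
  rw [Presieve.isSheafFor_singleton] at hyon ⊢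
  intro x hx
  obtain ⟨a, ha, hau⟩ := hyon x.1 (fun q₁ q₂ h => congrArg Sigma.fst (hx q₁ q₂ h))
  have ha' : φ ≫ a = x.1 := ha
  have hc : G.map (Over.homMk p₁ rfl : Over.mk (p₁ ≫ φ ≫ a) ⟶ Over.mk (φ ≫ a)).op
        (G.map (ovEq ha' : Over.mk (φ ≫ a) ⟶ Over.mk x.1).op x.2) =
      G.map (Over.homMk p₂ (show p₂ ≫ φ ≫ a = p₁ ≫ φ ≫ a by
            rw [← Category.assoc, ← hp, Category.assoc]) :
          Over.mk (p₁ ≫ φ ≫ a) ⟶ Over.mk (φ ≫ a)).op
        (G.map (ovEq ha' : Over.mk (φ ≫ a) ⟶ Over.mk x.1).op x.2) := by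
    obtain ⟨e, he⟩ := sig_ext_iff G _ _ (hx p₁ p₂ hp)
    change G.map (ovEq _).op (G.map (Over.homMk p₁ rfl :
        Over.mk (p₁ ≫ x.1) ⟶ Over.mk x.1).op x.2) =
      G.map (Over.homMk p₂ rfl : Over.mk (p₂ ≫ x.1) ⟶ Over.mk x.1).op x.2 at he
    have e₃ : p₁ ≫ φ ≫ a = p₂ ≫ x.1 := by
      rw [ha', ← ha', ← Category.assoc, hp, Category.assoc]
    have h2 : G.map (Over.homMk p₂ (show p₂ ≫ φ ≫ a = p₁ ≫ φ ≫ a by
            rw [← Category.assoc, ← hp, Category.assoc]) :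
          Over.mk (p₁ ≫ φ ≫ a) ⟶ Over.mk (φ ≫ a)).op
        (G.map (ovEq ha' : Over.mk (φ ≫ a) ⟶ Over.mk x.1).op x.2) =
        G.map (ovEq e₃ : Over.mk (p₁ ≫ φ ≫ a) ⟶ Over.mk (p₂ ≫ x.1)).op
          (G.map (Over.homMk p₂ rfl : Over.mk (p₂ ≫ x.1) ⟶ Over.mk x.1).op x.2) := by
      rw [map_map, map_map]
      refine map_apply_eq_of_left G _ _ ?_ _
      change p₂ ≫ 𝟙 _ = 𝟙 _ ≫ p₂
      simp
    rw [h2, ← he, map_map, map_map, map_map]
    refine map_apply_eq_of_left G _ _ ?_ _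
    change p₁ ≫ 𝟙 _ = (𝟙 _ ≫ 𝟙 _) ≫ p₁
    simp
  obtain ⟨m₀, hm₀⟩ := hglue a _ hc
  refine ⟨⟨a, m₀⟩, ?_, ?_⟩
  · refine sig_ext G _ _ ha'.symm ?_
    change G.map (ovEq _).op (G.map (Over.homMk φ rfl : Over.mk (φ ≫ a) ⟶ Over.mk a).op m₀) = x.2
    rw [hm₀, map_map]
    exact map_id_of_left G _ (by simp) _
  · intro y hy
    have e₂ : y.1 = a := hau y.1 (congrArg Sigma.fst hy)
    obtain ⟨e, he⟩ := sig_ext_iff G _ _ hy
    change G.map (ovEq _).op (G.map (Over.homMk φ rfl :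
        Over.mk (φ ≫ y.1) ⟶ Over.mk y.1).op y.2) = x.2 at he
    refine sig_ext G _ _ e₂.symm ?_
    change G.map (ovEq e₂.symm : Over.mk a ⟶ Over.mk y.1).op y.2 = m₀
    apply hinj a
    rw [hm₀, ← he, map_map, map_map, map_map]
    refine map_apply_eq_of_left G _ _ ?_ _
    change φ ≫ 𝟙 _ = (𝟙 _ ≫ 𝟙 _) ≫ φ
    simp

end Singleton

end Groth.Agent.Lib.SigOverH4
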