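import Mathlib
import Groth.Prelude.Def_Adeq2
import Groth.Agent.Lib.AdeqShF_helper4
import Groth.Agent.Lib.SigOver_helper4

/-!
# Sheaf-level adequate modules, part Q (helper4): adequate modules are fpqc sheaves

* `chart_equalizer`: the equalizer property of an adequate chart in terms of restriction maps.
* `isSheafFor_sig_affine`: the sigma presheaf of a presheaf of modules all of whose affine charts
  are adequate satisfies the sheaf condition for a faithfully flat map of affine schemes.
-/

set_option autoImplicit false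
set_option linter.unusedSectionVars false
universe u v

open CategoryTheory Limits TensorProduct Adeq AlgebraicGeometry Opposite
open Groth.Agent.Lib.AdeqH3 Groth.Agent.Lib.SigOverH4

namespace Groth.Agent.Lib.AdeqShH4

noncomputable section

section Chart

variable (K : Precoverage Scheme.{u}) [BigSite.OSh K] {S : Scheme.{u}}
  (P : PresheafOfModules.{u + 1} (BigSite.ORing K S).obj) {R : CommRingCat.{u}} (a : Spec R ⟶ S)
  (B : Type u) [CommRing B] [Algebra R B] [Module.FaithfullyFlat R B]

theorem chart_equalizer (hF : Adeq.adequate R ((toMVFPre K a).obj P)) :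
    Function.Injective (pm P ((specOver a).map (eA B).op)) ∧
    ∀ y : P.obj (op ((specOver a).obj (op (algOf R B)))),
      pm P ((specOver a).map (lA B).op) y = pm P ((specOver a).map (rA' B).op) y →
      ∃ x, pm P ((specOver a).map (eA B).op) x = y := by
  obtain ⟨h1, h2⟩ := equalizer_of_adequate B _ hF
  constructor
  · intro x x' h
    exact h1 (a₁ := fIn K a P _ x) (a₂ := fIn K a P _ x') h
  · intro y hy
    obtain ⟨x, hx⟩ := h2 (fIn K a P _ y) hy
    exact ⟨fOut K a P _ x, hx⟩

/-- the presheaf of types underlying a presheaf of modules -/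
abbrev GT : (Over S)ᵒᵖ ⥤ Type (u + 1) := P.presheaf ⋙ forget AddCommGrpCat.{u + 1}

lemma GT_map {X Y : Over S} (f : X ⟶ Y) (x : P.obj (op Y)) :
    (GT K P).map f.op x = pm P f x := rfl

variable (R) in
/-- `Spec B → Spec R` -/
abbrev phiE : Spec (CommRingCat.of B) ⟶ Spec R := Spec.map (CommRingCat.ofHom (algebraMap R B))

variable (R) in
/-- first projection `Spec (B ⊗ B) → Spec B` -/
abbrev p1E : Spec (CommRingCat.of (B ⊗[R] B)) ⟶ Spec (CommRingCat.of B) :=
  Spec.map (CommRingCat.ofHom
    (Algebra.TensorProduct.includeLeft : B →ₐ[R] B ⊗[R] B).toRingHom)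

variable (R) in
/-- second projection `Spec (B ⊗ B) → Spec B` -/
abbrev p2E : Spec (CommRingCat.of (B ⊗[R] B)) ⟶ Spec (CommRingCat.of B) :=
  Spec.map (CommRingCat.ofHom
    (Algebra.TensorProduct.includeRight : B →ₐ[R] B ⊗[R] B).toRingHom)

lemma p1E_phiE : p1E R B ≫ phiE R B = p2E R B ≫ phiE R B := by
  unfold p1E p2E phiE
  rw [← Spec.map_comp, ← Spec.map_comp, ← CommRingCat.ofHom_comp, ← CommRingCat.ofHom_comp]
  congr 2
  ext r
  simp [Algebra.algebraMap_eq_smul_one]

lemma e0 : Spec.map (CommRingCat.ofHom (algebraMap R R)) ≫ a = a := by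
  have : CommRingCat.ofHom (algebraMap R R) = 𝟙 R := rfl
  rw [this]
  exact (congrArg (fun k => k ≫ a) (Spec.map_id R)).trans (Category.id_comp a)

lemma GT_phi_eq (m : (GT K P).obj (op (Over.mk a))) :
    (GT K P).map (Over.homMk (phiE R B) rfl : Over.mk (phiE R B ≫ a) ⟶ Over.mk a).op m =
      pm P ((specOver a).map (eA B).op)
        ((GT K P).map (ovEq (e0 a) :
          Over.mk (Spec.map (CommRingCat.ofHom (algebraMap R R)) ≫ a) ⟶ Over.mk a).op m) := by
  refine Eq.trans ?_ (SigOverH4.map_map (GT K P) ((specOver a).map (eA B).op)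
    (ovEq (e0 a) : Over.mk (Spec.map (CommRingCat.ofHom (algebraMap R R)) ≫ a) ⟶ Over.mk a)
    m).symm
  refine map_apply_eq_of_left (GT K P) _ _ ?_ m
  change phiE R B = ((specOver a).map (eA B).op).left ≫ 𝟙 _
  rw [Category.comp_id]
  rfl

lemma eC : Spec.map (CommRingCat.ofHom (algebraMap R (B ⊗[R] B))) ≫ a =
    p1E R B ≫ phiE R B ≫ a := by
  rw [← Category.assoc]
  congr 1
  unfold p1E phiE
  rw [← Spec.map_comp, ← CommRingCat.ofHom_comp]
  rfl

lemma eC' : p2E R B ≫ phiE R B ≫ a = p1E R B ≫ phiE R B ≫ a := by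
  rw [← Category.assoc, ← p1E_phiE, Category.assoc]

lemma GT_l_eq (m : (GT K P).obj (op (Over.mk (phiE R B ≫ a)))) :
    pm P ((specOver a).map (lA B).op) m =
      (GT K P).map (ovEq (eC a B) :
          Over.mk (Spec.map (CommRingCat.ofHom (algebraMap R (B ⊗[R] B))) ≫ a) ⟶
            Over.mk (p1E R B ≫ phiE R B ≫ a)).op
        ((GT K P).map (Over.homMk (p1E R B) rfl :
          Over.mk (p1E R B ≫ phiE R B ≫ a) ⟶ Over.mk (phiE R B ≫ a)).op m) := by
  refine Eq.trans ?_ (SigOverH4.map_map (GT K P) (ovEq (eC a B) :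
          Over.mk (Spec.map (CommRingCat.ofHom (algebraMap R (B ⊗[R] B))) ≫ a) ⟶
            Over.mk (p1E R B ≫ phiE R B ≫ a))
    (Over.homMk (p1E R B) rfl :
          Over.mk (p1E R B ≫ phiE R B ≫ a) ⟶ Over.mk (phiE R B ≫ a)) m).symm
  refine map_apply_eq_of_left (GT K P) ((specOver a).map (lA B).op) _ ?_ m
  change ((specOver a).map (lA B).op).left = 𝟙 _ ≫ p1E R B
  rw [Category.id_comp]
  rfl

lemma GT_r_eq (m : (GT K P).obj (op (Over.mk (phiE R B ≫ a)))) :
    pm P ((specOver a).map (rA' B).op) m =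
      (GT K P).map (ovEq (eC a B) :
          Over.mk (Spec.map (CommRingCat.ofHom (algebraMap R (B ⊗[R] B))) ≫ a) ⟶
            Over.mk (p1E R B ≫ phiE R B ≫ a)).op
        ((GT K P).map (Over.homMk (p2E R B) (eC' a B) :
          Over.mk (p1E R B ≫ phiE R B ≫ a) ⟶ Over.mk (phiE R B ≫ a)).op m) := by
  refine Eq.trans ?_ (SigOverH4.map_map (GT K P) (ovEq (eC a B) :
          Over.mk (Spec.map (CommRingCat.ofHom (algebraMap R (B ⊗[R] B))) ≫ a) ⟶
            Over.mk (p1E R B ≫ phiE R B ≫ a))
    (Over.homMk (p2E R B) (eC' a B) :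
          Over.mk (p1E R B ≫ phiE R B ≫ a) ⟶ Over.mk (phiE R B ≫ a)) m).symm
  refine map_apply_eq_of_left (GT K P) ((specOver a).map (rA' B).op) _ ?_ m
  change ((specOver a).map (rA' B).op).left = 𝟙 _ ≫ p2E R B
  rw [Category.id_comp]
  rfl

instance flat_phiE : Flat (phiE R B) := by
  have h : (CommRingCat.ofHom (algebraMap R B)).hom.FaithfullyFlat :=
    (RingHom.faithfullyFlat_algebraMap_iff).2 inferInstance
  exact ((flat_and_surjective_SpecMap_iff _).2 h).1

instance surjective_phiE : Surjective (phiE R B) := by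
  have h : (CommRingCat.ofHom (algebraMap R B)).hom.FaithfullyFlat :=
    (RingHom.faithfullyFlat_algebraMap_iff).2 inferInstance
  exact ((flat_and_surjective_SpecMap_iff _).2 h).2

/-- the sheaf condition of the sigma presheaf for a faithfully flat map of affine schemes -/
theorem isSheafFor_sig_affine
    (hF : ∀ a : Spec R ⟶ S, Adeq.adequate R ((toMVFPre K a).obj P)) :
    Presieve.IsSheafFor (sig (GT K P)) (Presieve.singleton (phiE R B)) := by
  refine isSheafFor_sig_singleton (GT K P) (phiE R B) (p1E R B) (p2E R B) (p1E_phiE B) ?_ ?_ ?_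
  · exact (GrothendieckTopology.Subcanonical.isSheaf_of_isRepresentable
        (J := Scheme.fpqcTopology) (yoneda.obj S)).isSheafFor _
        (Precoverage.generate_mem_toGrothendieck (phiE R B).singleton_mem_fpqcPrecoverage)
  · intro a m m' h
    rw [GT_phi_eq, GT_phi_eq] at h
    have h2 := (chart_equalizer K P a B (hF a)).1 h
    have h3 := congrArg ((GT K P).map (ovEq (e0 a).symm :
      Over.mk a ⟶ Over.mk (Spec.map (CommRingCat.ofHom (algebraMap R R)) ≫ a)).op) h2
    rw [SigOverH4.map_map, SigOverH4.map_map, map_id_of_left (GT K P) _ rfl,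
      map_id_of_left (GT K P) _ rfl] at h3
    exact h3
  · intro a m hm
    obtain ⟨x, hx⟩ := (chart_equalizer K P a B (hF a)).2 m (by
      rw [GT_l_eq, GT_r_eq]
      exact congrArg _ hm)
    refine ⟨(GT K P).map (ovEq (e0 a).symm :
      Over.mk a ⟶ Over.mk (Spec.map (CommRingCat.ofHom (algebraMap R R)) ≫ a)).op x, ?_⟩
    rw [GT_phi_eq, SigOverH4.map_map, map_id_of_left (GT K P) _ rfl]
    exact hx

end Chart

section Main

variable (K : Precoverage Scheme.{u}) [BigSite.OSh K] {S : Scheme.{u}}

/-- a sheaf of modules on the big site all of whose affine charts are adequate is an fpqc sheaf -/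
theorem isSheaf_fpqc_of_charts (hzar : Scheme.zariskiTopology ≤ K.toGrothendieck)
    (M : BigSite.Mod K S)
    (hchart : ∀ (R : CommRingCat.{u}) (a : Spec R ⟶ S), Adeq.adequate R ((toMVF K a).obj M)) :
    Presheaf.IsSheaf (QuotSh.J Scheme.fpqcPrecoverage S) ((BigSite.toAbMod K S).obj M).obj := by
  rw [Presheaf.isSheaf_iff_isSheaf_forget _ _ (forget AddCommGrpCat.{u + 1}),
    isSheaf_iff_isSheaf_of_type]
  change Presieve.IsSheaf (Scheme.fpqcTopology.over S) (GT K M.val)
  refine isSheaf_over_of_sig (GT K M.val) Scheme.fpqcTopology ?_ ?_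
  · exact (GrothendieckTopology.Subcanonical.isSheaf_of_isRepresentable
      (J := Scheme.fpqcTopology) (yoneda.obj S)).isSeparated
  · rw [Scheme.fpqcTopology_eq_propQCTopology, isSheaf_type_propQCTopology_iff]
    refine ⟨?_, ?_⟩
    · refine isSheaf_sig_of_over (GT K M.val) Scheme.zariskiTopology
        (GrothendieckTopology.Subcanonical.isSheaf_of_isRepresentable
          (J := Scheme.zariskiTopology) (yoneda.obj S)) ?_
      refine Presieve.isSheaf_of_le _ ?_ (isSheaf_forget_mod K M)
      intro Y R hR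
      exact hzar _ hR
    · intro R B f hf hs
      let _ : Algebra R B := f.hom.toAlgebra
      have : Module.FaithfullyFlat R B := (RingHom.faithfullyFlat_algebraMap_iff).1
        ((flat_and_surjective_SpecMap_iff f).1 ⟨hf, hs⟩)
      exact isSheafFor_sig_affine K M.val B (fun a => hchart R a)

/-- S8786 -/
theorem main8786 (S : Scheme.{u}) (M : BigSite.Mod Scheme.zariskiPrecoverage S)
    (hM : Adeq.adequateMod Scheme.zariskiPrecoverage S M) :
    Presheaf.IsSheaf (QuotSh.J Scheme.fpqcPrecoverage S)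
      ((BigSite.toAbMod Scheme.zariskiPrecoverage S).obj M).obj :=
  isSheaf_fpqc_of_charts Scheme.zariskiPrecoverage le_rfl M (fun R a => main8756 S M hM R a)

/-- S8787 -/
theorem main8787 (S : Scheme.{u}) (M : BigSite.Mod Scheme.fppfPrecoverage S)
    (hM : Adeq.adequateMod Scheme.fppfPrecoverage S M) :
    Presheaf.IsSheaf (QuotSh.J Scheme.fpqcPrecoverage S)
      ((BigSite.toAbMod Scheme.fppfPrecoverage S).obj M).obj :=
  isSheaf_fpqc_of_charts Scheme.fppfPrecoverage
    (Precoverage.toGrothendieck_mono Scheme.zariskiPrecoverage_le_fppfPrecoverage) M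
    (fun R a => main8755 S M hM R a)

end Main

end

end Groth.Agent.Lib.AdeqShH4
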