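import Mathlib
import Groth.Prelude.Def_Adeq2
import Groth.Agent.Lib.AdeqShQ_helper4
import Groth.Agent.Lib.BigCartanA_helper4

/-!
# Sheaf-level adequate modules, part R (helper4): adequate functors and finite products of algebras

* `pp_injective`, `pp_surjective`: for an adequate functor `F` and a finite family of algebras
  `C j`, the map `F(∏ C j) → ∏ F(C j)` is bijective.
-/

set_option autoImplicit false
set_option linter.unusedSectionVars false
universe u v

open CategoryTheory Limits TensorProduct Adeq AlgebraicGeometry Opposite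
open Groth.Agent.Lib.AdeqH3 Groth.Agent.Lib.SigOverH4

namespace Groth.Agent.Lib.AdeqShH4

noncomputable section

section PP

variable {A : Type u} [CommRing A] {ι : Type u} [Fintype ι] [DecidableEq ι]
  (C : ι → Type u) [∀ j, CommRing (C j)] [∀ j, Algebra A (C j)]

/-- the projection of the product algebra -/
abbrev piPr (j : ι) : algOf A (∀ j, C j) ⟶ algOf A (C j) :=
  CommAlgCat.ofHom (Pi.evalAlgHom A C j)

lemma sum_single_proj :
    ∑ j, (LinearMap.single A C j) ∘ₗ (LinearMap.proj j : (∀ j, C j) →ₗ[A] C j) =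
      LinearMap.id := by
  ext x k
  simp [Finset.sum_apply]

variable (M : Type v) [AddCommGroup M] [Module A M]

lemma tensor_pi_ext (x y : (∀ j, C j) ⊗[A] M)
    (h : ∀ j, (LinearMap.proj j : (∀ j, C j) →ₗ[A] C j).rTensor M x =
      (LinearMap.proj j : (∀ j, C j) →ₗ[A] C j).rTensor M y) : x = y := by
  have key : ∀ w : (∀ j, C j) ⊗[A] M,
      w = ∑ j, (LinearMap.single A C j).rTensor M
        ((LinearMap.proj j : (∀ j, C j) →ₗ[A] C j).rTensor M w) := by
    intro w
    have h2 : (∑ j, (LinearMap.single A C j) ∘ₗ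
        (LinearMap.proj j : (∀ j, C j) →ₗ[A] C j)).rTensor M =
        ∑ j, ((LinearMap.single A C j) ∘ₗ
          (LinearMap.proj j : (∀ j, C j) →ₗ[A] C j)).rTensor M :=
      map_sum (LinearMap.rTensorHom M) _ _
    have h3 : ∑ j, (LinearMap.single A C j).rTensor M
        ((LinearMap.proj j : (∀ j, C j) →ₗ[A] C j).rTensor M w) =
        ((∑ j, (LinearMap.single A C j) ∘ₗ
          (LinearMap.proj j : (∀ j, C j) →ₗ[A] C j)).rTensor M) w := by
      rw [h2, LinearMap.sum_apply]
      refine Finset.sum_congr rfl fun j _ => ?_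
      rw [LinearMap.rTensor_comp, LinearMap.comp_apply]
    rw [h3, sum_single_proj, LinearMap.rTensor_id, LinearMap.id_apply]
  rw [key x, key y]
  exact Finset.sum_congr rfl fun j _ => by rw [h j]

lemma tensor_pi_surj (z : ∀ j, C j ⊗[A] M) :
    ∃ x : (∀ j, C j) ⊗[A] M, ∀ j,
      (LinearMap.proj j : (∀ j, C j) →ₗ[A] C j).rTensor M x = z j := by
  refine ⟨∑ j, (LinearMap.single A C j).rTensor M (z j), fun k => ?_⟩
  rw [map_sum]
  rw [Finset.sum_eq_single k]
  · rw [← LinearMap.comp_apply, ← LinearMap.rTensor_comp, LinearMap.proj_comp_single_same,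
      LinearMap.rTensor_id, LinearMap.id_apply]
  · intro j _ hjk
    rw [← LinearMap.comp_apply, ← LinearMap.rTensor_comp, LinearMap.proj_comp_single_ne _ _ _ _ hjk.symm,
      LinearMap.rTensor_zero, LinearMap.zero_apply]
  · intro hk
    exact absurd (Finset.mem_univ k) hk

lemma piPr_toLinearMap (j : ι) :
    (piPr (A := A) C j).hom.toLinearMap = (LinearMap.proj j : (∀ j, C j) →ₗ[A] C j) := rfl

variable (F : MVF A)

theorem pp_injective (hF : Adeq.adequate A F) (x y : F.obj (pt (algOf A (∀ j, C j))))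
    (h : ∀ j, mp F (piPr C j) x = mp F (piPr C j) y) : x = y := by
  obtain ⟨M, N, φ, i, hi⟩ := (adequate_iff F).1 hF
  apply hi.inj
  apply toT_injective
  refine tensor_pi_ext C M _ _ fun j => ?_
  have h1 : toT (i.app _ (mp F (piPr C j) x)) = toT (i.app _ (mp F (piPr C j) y)) := by
    rw [h j]
  rw [naturality, naturality, toT_mp, toT_mp] at h1
  exact h1

theorem pp_surjective (hF : Adeq.adequate A F) (z : ∀ j, F.obj (pt (algOf A (C j)))) :
    ∃ x : F.obj (pt (algOf A (∀ j, C j))), ∀ j, mp F (piPr C j) x = z j := by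
  obtain ⟨M, N, φ, i, hi⟩ := (adequate_iff F).1 hF
  obtain ⟨w, hw⟩ := tensor_pi_surj C M (fun j => toT (i.app _ (z j)))
  have hφ : ((underline A).map φ).app (pt (algOf A (∀ j, C j))) (ofT w) = 0 := by
    apply toT_injective
    refine tensor_pi_ext C N _ _ fun j => ?_
    rw [← piPr_toLinearMap, ← toT_mp, ← naturality, toT_zero, map_zero]
    have h2 : mp ((underline A).obj M) (piPr C j) (ofT w) = i.app _ (z j) := by
      apply toT_injective
      rw [toT_mp, toT_ofT]
      exact hw j
    rw [h2, hi.zero_apply, toT_zero]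
  obtain ⟨x, hx⟩ := hi.exact _ _ hφ
  refine ⟨x, fun j => ?_⟩
  apply hi.inj
  rw [naturality, hx]
  apply toT_injective
  rw [toT_mp, toT_ofT]
  exact hw j

end PP

section Refine

open Groth.Agent.Lib.BigCartanH4

variable {S : Scheme.{u}}

theorem exists_refinement_sieve {R : CommRingCat.{u}} (a : Spec R ⟶ S) (𝒮 : Sieve (Over.mk a))
    (h𝒮 : 𝒮 ∈ Jf S (Over.mk a)) :
    ∃ (J : Type u) (_ : Fintype J) (C : J → Type u) (_ : ∀ j, CommRing (C j))
      (γ : ∀ j, R →+* C j),
      (∀ j, 𝒮 (Over.homMk (Spec.map (CommRingCat.ofHom (γ j))) rfl :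
        Over.mk (Spec.map (CommRingCat.ofHom (γ j)) ≫ a) ⟶ Over.mk a)) ∧
      (∀ j, Flat (Spec.map (CommRingCat.ofHom (γ j)))) ∧
      (∀ j, LocallyOfFinitePresentation (Spec.map (CommRingCat.ofHom (γ j)))) ∧
      ∀ z : Spec R, ∃ j, z ∈ Set.range (Spec.map (CommRingCat.ofHom (γ j))) := by
  rw [mem_Jf_iff] at h𝒮
  have key : ∀ z : Spec R, ∃ (C : CommRingCat.{u}) (γ : R ⟶ C),
      𝒮 (Over.homMk (Spec.map γ) rfl : Over.mk (Spec.map γ ≫ a) ⟶ Over.mk a) ∧
      Flat (Spec.map γ) ∧ LocallyOfFinitePresentation (Spec.map γ) ∧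
      z ∈ Set.range (Spec.map γ) := by
    intro z
    obtain ⟨Y, f, hf, hfl, hfp, y, hy⟩ := h𝒮 z
    obtain ⟨y', hy'⟩ := Y.left.affineOpenCover.covers y
    let k := Y.left.affineOpenCover.idx y
    have hγ : Spec.map (Spec.preimage (Y.left.affineOpenCover.f k ≫ f.left)) =
        Y.left.affineOpenCover.f k ≫ f.left := Spec.map_preimage _
    refine ⟨Y.left.affineOpenCover.X k, Spec.preimage (Y.left.affineOpenCover.f k ≫ f.left),
      ?_, ?_, ?_, ?_⟩
    · have hw : Y.left.affineOpenCover.f k ≫ Y.hom =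
          Spec.map (Spec.preimage (Y.left.affineOpenCover.f k ≫ f.left)) ≫ a := by
        rw [hγ, Category.assoc]
        congr 1
        exact (Over.w f).symm
      have e : (Over.homMk (Spec.map (Spec.preimage (Y.left.affineOpenCover.f k ≫ f.left))) rfl :
          Over.mk (Spec.map (Spec.preimage (Y.left.affineOpenCover.f k ≫ f.left)) ≫ a) ⟶
            Over.mk a) =
          (Over.homMk (Y.left.affineOpenCover.f k) hw :
            Over.mk (Spec.map (Spec.preimage (Y.left.affineOpenCover.f k ≫ f.left)) ≫ a) ⟶ Y) ≫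
              f := Over.OverMorphism.ext hγ
      rw [e]
      exact 𝒮.downward_closed hf _
    · rw [hγ]
      infer_instance
    · rw [hγ]
      infer_instance
    · rw [hγ]
      refine ⟨y', ?_⟩
      rw [Scheme.Hom.comp_apply, hy', hy]
  choose C γ h1 h2 h3 h4 using key
  have hopen' : ∀ z, IsOpen (Set.range (Spec.map (γ z))) := fun z => by
    haveI := h2 z
    haveI := h3 z
    exact (Spec.map (γ z)).isOpenMap.isOpen_range
  obtain ⟨t, ht⟩ := isCompact_univ.elim_finite_subcover
    (fun z => Set.range (Spec.map (γ z))) hopen' (fun z _ => Set.mem_iUnion.2 ⟨z, h4 z⟩)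
  refine ⟨t, inferInstance, fun j => C j.1, fun j => inferInstance,
    fun j => (γ j.1).hom, fun j => h1 j.1, fun j => h2 j.1, fun j => h3 j.1, ?_⟩
  intro z
  obtain ⟨z', hz', hz⟩ := Set.mem_iUnion₂.1 (ht (Set.mem_univ z))
  exact ⟨⟨z', hz'⟩, hz⟩

end Refine

end

end Groth.Agent.Lib.AdeqShH4
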