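import Mathlib
import Groth.Prelude.Def_Adeq2
import Groth.Agent.Lib.AdeqShR_helper4
import Groth.Agent.Lib.AdeqShN_helper4

/-!
# Sheaf-level adequate modules, part S (helper4): sheafification of a presheaf of modules with
adequate charts

If all affine charts `F_{P,R,a}` of a presheaf of modules `P` on the big fppf site are adequate,
then `P → P^#` is bijective on sections over affine objects, and `P^#` is adequate.
-/

set_option autoImplicit false
set_option linter.unusedSectionVars false
universe u v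

open CategoryTheory Limits TensorProduct Adeq AlgebraicGeometry Opposite
open Groth.Agent.Lib.AdeqH3 Groth.Agent.Lib.SigOverH4 Groth.Agent.Lib.BigCartanH4

namespace Groth.Agent.Lib.AdeqShH4

noncomputable section

section Pi

variable {R : CommRingCat.{u}} {J : Type u} [Fintype J] [DecidableEq J] (C : J → Type u)
  [∀ j, CommRing (C j)] [∀ j, Algebra R (C j)]

lemma eval_phiE (j : J) :
    Spec.map (CommRingCat.ofHom (Pi.evalRingHom C j)) ≫ phiE R (∀ j, C j) = phiE R (C j) := by
  unfold phiE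
  rw [← Spec.map_comp, ← CommRingCat.ofHom_comp]
  rfl

theorem faithfullyFlat_pi
    (hfl : ∀ j, Flat (Spec.map (CommRingCat.ofHom (algebraMap R (C j)))))
    (hsurj : ∀ z : Spec R, ∃ j, z ∈ Set.range (Spec.map (CommRingCat.ofHom (algebraMap R (C j))))) :
    Module.FaithfullyFlat R (∀ j, C j) := by
  have hflat : ∀ j, Module.Flat R (C j) := fun j =>
    (RingHom.flat_algebraMap_iff).1 ((Flat.SpecMap_iff).1 (hfl j))
  have h1 : Module.Flat R (∀ j, C j) :=
    Module.Flat.of_linearEquiv (DirectSum.linearEquivFunOnFintype R J C).symm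
  have hs : Surjective (phiE R (∀ j, C j)) := ⟨fun z => by
    obtain ⟨j, w, hw⟩ := hsurj z
    refine ⟨(Spec.map (CommRingCat.ofHom (Pi.evalRingHom C j))) w, ?_⟩
    rw [← Scheme.Hom.comp_apply, eval_phiE]
    exact hw⟩
  have hfl' : Flat (phiE R (∀ j, C j)) :=
    (Flat.SpecMap_iff).2 ((RingHom.flat_algebraMap_iff).2 h1)
  exact (RingHom.faithfullyFlat_algebraMap_iff).1
    ((flat_and_surjective_SpecMap_iff _).1 ⟨hfl', hs⟩)

theorem exists_eval_range (z : Spec (CommRingCat.of (∀ j, C j))) :
    ∃ j, z ∈ Set.range (Spec.map (CommRingCat.ofHom (Pi.evalRingHom C j))) := by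
  let R' : J → CommRingCat.{u} := fun j => CommRingCat.of (C j)
  let w := (inv (sigmaSpec R')) z
  obtain ⟨y, hy⟩ := (sigmaOpenCover (fun j => Spec (R' j))).covers w
  refine ⟨(sigmaOpenCover (fun j => Spec (R' j))).idx w, y, ?_⟩
  have h2 := ι_sigmaSpec R' ((sigmaOpenCover (fun j => Spec (R' j))).idx w)
  have h3 : (Spec.map (CommRingCat.ofHom (Pi.evalRingHom (fun j => (R' j : Type u))
      ((sigmaOpenCover (fun j => Spec (R' j))).idx w)))) y = z := by
    rw [← h2, Scheme.Hom.comp_apply]
    change (sigmaSpec R') (((sigmaOpenCover (fun j => Spec (R' j))).f _) y) = z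
    rw [hy]
    change ((inv (sigmaSpec R')) ≫ sigmaSpec R') z = z
    rw [IsIso.inv_hom_id]
    rfl
  exact h3

end Pi

section Res

variable (K : Precoverage Scheme.{u}) [BigSite.OSh K] {S : Scheme.{u}}
  (P : PresheafOfModules.{u + 1} (BigSite.ORing K S).obj) {R : CommRingCat.{u}} (a : Spec R ⟶ S)
  (B : Type u) [CommRing B] [Algebra R B]

/-- restriction from the chart to an affine scheme over it -/
abbrev resE : Over.mk (phiE R B ≫ a) ⟶ Over.mk a := Over.homMk (phiE R B) rfl

/-- first projection -/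
abbrev pr1E : Over.mk (p1E R B ≫ phiE R B ≫ a) ⟶ Over.mk (phiE R B ≫ a) :=
  Over.homMk (p1E R B) rfl

variable [Module.FaithfullyFlat R B]

/-- second projection -/
abbrev pr2E : Over.mk (p1E R B ≫ phiE R B ≫ a) ⟶ Over.mk (phiE R B ≫ a) :=
  Over.homMk (p2E R B) (eC' a B)

lemma pr1E_resE : pr1E a B ≫ resE a B = pr2E a B ≫ resE a B :=
  Over.OverMorphism.ext (p1E_phiE B)

theorem res_inj (hF : Adeq.adequate R ((toMVFPre K a).obj P)) :
    Function.Injective (pm P (resE a B)) := by
  intro m m' h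
  have h' : (GT K P).map (resE a B).op m = (GT K P).map (resE a B).op m' := h
  rw [GT_phi_eq, GT_phi_eq] at h'
  have h2 := (chart_equalizer K P a B hF).1 h'
  have h3 := congrArg ((GT K P).map (ovEq (e0 a).symm :
    Over.mk a ⟶ Over.mk (Spec.map (CommRingCat.ofHom (algebraMap R R)) ≫ a)).op) h2
  rw [SigOverH4.map_map, SigOverH4.map_map, map_id_of_left (GT K P) _ rfl,
    map_id_of_left (GT K P) _ rfl] at h3
  exact h3

theorem res_glue (hF : Adeq.adequate R ((toMVFPre K a).obj P))
    (m : P.obj (op (Over.mk (phiE R B ≫ a))))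
    (hm : pm P (pr1E a B) m = pm P (pr2E a B) m) : ∃ m₀, pm P (resE a B) m₀ = m := by
  obtain ⟨x, hx⟩ := (chart_equalizer K P a B hF).2 m (by
    rw [GT_l_eq, GT_r_eq]
    exact congrArg _ hm)
  refine ⟨(GT K P).map (ovEq (e0 a).symm :
    Over.mk a ⟶ Over.mk (Spec.map (CommRingCat.ofHom (algebraMap R R)) ≫ a)).op x, ?_⟩
  change (GT K P).map (resE a B).op _ = m
  rw [GT_phi_eq, SigOverH4.map_map, map_id_of_left (GT K P) _ rfl]
  exact hx

end Res

section Sheafify

variable {S : Scheme.{u}}
  (P : PresheafOfModules.{u + 1} (BigSite.ORing Scheme.fppfPrecoverage S).obj)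

/-- the sheafification -/
abbrev Psh : BigSite.Mod Scheme.fppfPrecoverage S :=
  (PresheafOfModules.sheafification (𝟙 (BigSite.ORing Scheme.fppfPrecoverage S).obj)).obj P

/-- the unit of the sheafification adjunction -/
def eta0 := (PresheafOfModules.sheafificationAdjunction
  (𝟙 (BigSite.ORing Scheme.fppfPrecoverage S).obj)).unit.app P

/-- the canonical map to the sheafification, as a morphism of presheaves of modules -/
def eta : P ⟶ (Psh P).val :=
  PresheafOfModules.homMk (M₂ := (Psh P).val) ((PresheafOfModules.toPresheaf _).map (eta0 P))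
    (fun X r m => ((eta0 P).app X).hom.map_smul r m)

lemma eta_presheaf : (PresheafOfModules.toPresheaf _).map (eta P) =
    CategoryTheory.toSheafify (QuotSh.J Scheme.fppfPrecoverage S) P.presheaf :=
  PresheafOfModules.toPresheaf_map_sheafificationAdjunction_unit_app _ P

/-- separatedness of a sheaf of modules for a flat covering family -/
theorem sep_eq (M : BigSite.Mod Scheme.fppfPrecoverage S) {X : Over S} (x y : M.val.obj (op X))
    (hcov : ∀ z : X.left, ∃ (Y : Over S) (f : Y ⟶ X), pm M.val f x = pm M.val f y ∧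
      Flat f.left ∧ LocallyOfFinitePresentation f.left ∧ z ∈ Set.range f.left) : x = y := by
  let R : Sieve X :=
    { arrows := fun Y f => pm M.val f x = pm M.val f y
      downward_closed := by
        intro Y Z f hf g
        rw [← pm_comp, ← pm_comp, hf] }
  have hR : R ∈ Jf S X := (mem_Jf_iff R).2 hcov
  exact ((isSheaf_forget_mod _ M) R hR).isSeparatedFor.ext (fun Y f hf => hf)

variable (hP : ∀ (R : CommRingCat.{u}) (a : Spec R ⟶ S),
  Adeq.adequate R ((toMVFPre Scheme.fppfPrecoverage a).obj P))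

/-- the inclusion of a factor of a finite product of affine schemes over the chart -/
def sigE {R : CommRingCat.{u}} (a : Spec R ⟶ S) {J : Type u} [Fintype J] [DecidableEq J]
    (C : J → Type u) [∀ j, CommRing (C j)] [∀ j, Algebra R (C j)] (j : J) :
    Over.mk (phiE R (C j) ≫ a) ⟶ Over.mk (phiE R (∀ j, C j) ≫ a) :=
  (specOver a).map (piPr C j).op

lemma sigE_left {R : CommRingCat.{u}} (a : Spec R ⟶ S) {J : Type u} [Fintype J] [DecidableEq J]
    (C : J → Type u) [∀ j, CommRing (C j)] [∀ j, Algebra R (C j)] (j : J) :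
    (sigE a C j).left = Spec.map (CommRingCat.ofHom (Pi.evalRingHom C j)) := rfl

lemma mp_piPr_res {R : CommRingCat.{u}} (a : Spec R ⟶ S) {J : Type u} [Fintype J] [DecidableEq J]
    (C : J → Type u) [∀ j, CommRing (C j)] [∀ j, Algebra R (C j)] (j : J)
    (w : P.obj (op (Over.mk (phiE R (∀ j, C j) ≫ a)))) :
    fOut Scheme.fppfPrecoverage a P _ (mp ((toMVFPre Scheme.fppfPrecoverage a).obj P) (piPr C j)
      (fIn Scheme.fppfPrecoverage a P (algOf R (∀ j, C j)) w)) =
      pm P (sigE a C j) w := rfl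

lemma piPr_resE {R : CommRingCat.{u}} (a : Spec R ⟶ S) {J : Type u} [Fintype J] [DecidableEq J]
    (C : J → Type u) [∀ j, CommRing (C j)] [∀ j, Algebra R (C j)] (j : J) :
    sigE a C j ≫ resE a (∀ j, C j) = resE a (C j) :=
  Over.OverMorphism.ext (eval_phiE C j)

include hP in
theorem eta_injective {R : CommRingCat.{u}} (a : Spec R ⟶ S) :
    Function.Injective ((eta P).app (op (Over.mk a))) := by
  intro x y h
  have hs : Presheaf.equalizerSieve (F := P.presheaf) (X := op (Over.mk a)) x y ∈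
      Jf S (Over.mk a) := by
    refine Presheaf.equalizerSieve_mem (QuotSh.J Scheme.fppfPrecoverage S)
      (CategoryTheory.toSheafify (QuotSh.J Scheme.fppfPrecoverage S) P.presheaf) x y ?_
    rw [← eta_presheaf]
    exact h
  obtain ⟨J, hJ, C, hC, γ, h1, h2, h3, h4⟩ := exists_refinement_sieve a _ hs
  classical
  let _ : ∀ j, Algebra R (C j) := fun j => (γ j).toAlgebra
  have := faithfullyFlat_pi C h2 h4
  apply res_inj Scheme.fppfPrecoverage P a (∀ j, C j) (hP R a)
  have key : ∀ j, pm P (sigE a C j) (pm P (resE a (∀ j, C j)) x) =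
      pm P (sigE a C j) (pm P (resE a (∀ j, C j)) y) := fun j => by
    rw [pm_comp, pm_comp, piPr_resE]
    exact h1 j
  have h5 := pp_injective C ((toMVFPre Scheme.fppfPrecoverage a).obj P) (hP R a)
    (fIn Scheme.fppfPrecoverage a P (algOf R (∀ j, C j)) (pm P (resE a (∀ j, C j)) x))
    (fIn Scheme.fppfPrecoverage a P (algOf R (∀ j, C j)) (pm P (resE a (∀ j, C j)) y))
    (fun j => fOut_injective Scheme.fppfPrecoverage a P _
      ((mp_piPr_res P a C j _).trans ((key j).trans (mp_piPr_res P a C j _).symm)))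
  exact h5

include hP in
theorem eta_surjective {R : CommRingCat.{u}} (a : Spec R ⟶ S) :
    Function.Surjective ((eta P).app (op (Over.mk a))) := by
  intro t
  have hs : Presheaf.imageSieve
      (CategoryTheory.toSheafify (QuotSh.J Scheme.fppfPrecoverage S) P.presheaf)
      (U := Over.mk a) t ∈ Jf S (Over.mk a) :=
    Presheaf.imageSieve_mem (QuotSh.J Scheme.fppfPrecoverage S)
      (CategoryTheory.toSheafify (QuotSh.J Scheme.fppfPrecoverage S) P.presheaf)
      (U := op (Over.mk a)) t
  obtain ⟨J, hJ, C, hC, γ, h1, h2, h3, h4⟩ := exists_refinement_sieve a _ hs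
  classical
  let _ : ∀ j, Algebra R (C j) := fun j => (γ j).toAlgebra
  have := faithfullyFlat_pi C h2 h4
  choose s hs' using h1
  obtain ⟨s₂, hs''⟩ : ∃ s₂ : ∀ j, P.obj (op (Over.mk (phiE R (C j) ≫ a))),
      ∀ j, (eta P).app (op (Over.mk (phiE R (C j) ≫ a))) (s₂ j) =
        pm (Psh P).val (resE a (C j)) t := ⟨s, fun j => by
    have h5 := hs' j
    rw [← eta_presheaf] at h5
    exact h5⟩
  obtain ⟨s', hs3⟩ := pp_surjective C ((toMVFPre Scheme.fppfPrecoverage a).obj P) (hP R a)
    (fun j => fIn Scheme.fppfPrecoverage a P (algOf R (C j)) (s₂ j))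
  obtain ⟨sB, hsBdef⟩ : ∃ sB : P.obj (op (Over.mk (phiE R (∀ j, C j) ≫ a))),
      fIn Scheme.fppfPrecoverage a P (algOf R (∀ j, C j)) sB = s' := ⟨_, rfl⟩
  have hsB : ∀ j, pm P (sigE a C j) sB = s₂ j := fun j => by
    rw [← mp_piPr_res, hsBdef, hs3 j]
    rfl
  have c1 : (eta P).app _ sB = pm (Psh P).val (resE a (∀ j, C j)) t := by
    refine sep_eq (Psh P) _ _ fun z => ?_
    obtain ⟨j, hj⟩ := exists_eval_range C z
    refine ⟨_, sigE a C j, ?_, ?_, ?_, hj⟩
    · rw [← pm_app, hsB, hs'', pm_comp, piPr_resE]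
    · rw [sigE_left]
      infer_instance
    · rw [sigE_left]
      infer_instance
  have c2 : pm P (pr1E a (∀ j, C j)) sB = pm P (pr2E a (∀ j, C j)) sB := by
    apply eta_injective P hP (p1E R (∀ j, C j) ≫ phiE R (∀ j, C j) ≫ a)
    rw [pm_app, pm_app, c1, pm_comp, pm_comp, pr1E_resE]
  obtain ⟨m₀, hm₀⟩ := res_glue Scheme.fppfPrecoverage P a (∀ j, C j) (hP R a) sB c2
  refine ⟨m₀, ?_⟩
  refine sep_eq (Psh P) _ _ fun z => ?_
  obtain ⟨j, hj⟩ := h4 z
  refine ⟨_, resE a (C j), ?_, h2 j, h3 j, hj⟩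
  rw [← pm_app, ← piPr_resE a C j, ← pm_comp, hm₀, hsB, hs'', piPr_resE]

include hP in
theorem adequate_chart_sheafify {R : CommRingCat.{u}} (a : Spec R ⟶ S) :
    Adeq.adequate R ((toMVF Scheme.fppfPrecoverage a).obj (Psh P)) := by
  change Adeq.adequate R ((toMVFPre Scheme.fppfPrecoverage a).obj (Psh P).val)
  have hm : Mono ((toMVFPre Scheme.fppfPrecoverage a).map (eta P)) :=
    PresheafOfModules.mono_of_injective (fun ⟨⟨B⟩⟩ =>
      eta_injective P hP (R := CommRingCat.of B)
        (Spec.map (CommRingCat.ofHom (algebraMap R B)) ≫ a))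
  have he : Epi ((toMVFPre Scheme.fppfPrecoverage a).map (eta P)) :=
    PresheafOfModules.epi_of_surjective (fun ⟨⟨B⟩⟩ =>
      eta_surjective P hP (R := CommRingCat.of B)
        (Spec.map (CommRingCat.ofHom (algebraMap R B)) ≫ a))
  have hi : IsIso ((toMVFPre Scheme.fppfPrecoverage a).map (eta P)) := isIso_of_mono_of_epi _
  exact (Adeq.adequate R).prop_of_iso (asIso ((toMVFPre Scheme.fppfPrecoverage a).map (eta P)))
    (hP R a)

include hP in
/-- S8760 -/
theorem main8760 : Adeq.adequateMod Scheme.fppfPrecoverage S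
    ((PresheafOfModules.sheafification
      (𝟙 (BigSite.ORing Scheme.fppfPrecoverage S).obj)).obj P) :=
  ⟨S.affineOpenCover.I₀, S.affineOpenCover.X, S.affineOpenCover.f,
    affineOpenCover_mem_fppf S, fun i => adequate_chart_sheafify P hP _⟩

end Sheafify

end

end Groth.Agent.Lib.AdeqShH4
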