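import Mathlib
import Groth.Prelude.Def_Adeq2
import Groth.Agent.Lib.AdeqShS_helper4

/-!
# Sheaf-level adequate modules, part U (helper4): descent data for pushforwards

* `base_change_diag`: the relative diagonal commutes with base change.
* `descent_kernel`: sections of a sheaf of modules as a kernel along a flat covering.
* `affine_atlas`: a quasi-compact scheme receives a flat, locally finitely presented, surjective
  map from an affine scheme.
-/

set_option autoImplicit false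
set_option linter.unusedSectionVars false
universe u v

open CategoryTheory Limits TensorProduct Adeq AlgebraicGeometry Opposite
open Groth.Agent.Lib.AdeqH3 Groth.Agent.Lib.BigCartanH4

namespace Groth.Agent.Lib.AdeqShH4

noncomputable section

section Cat

variable {C : Type*} [Category C] [HasPullbacks C]

theorem base_change_diag {X Y V VY V' V'Y : C} (ξ : Y ⟶ X) (q : V ⟶ X) (l : VY ⟶ V) (ρ : VY ⟶ Y)
    (h1 : IsPullback l ρ q ξ) (r : V' ⟶ pullback q q) (l' : V'Y ⟶ V') (ρ' : V'Y ⟶ Y)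
    (h2 : IsPullback l' ρ' (r ≫ pullback.fst q q ≫ q) ξ) (θ₁ θ₂ : V'Y ⟶ VY)
    (hθ₁l : θ₁ ≫ l = l' ≫ r ≫ pullback.fst q q) (hθ₁ρ : θ₁ ≫ ρ = ρ')
    (hθ₂l : θ₂ ≫ l = l' ≫ r ≫ pullback.snd q q) (hθ₂ρ : θ₂ ≫ ρ = ρ') :
    IsPullback l' (pullback.lift θ₁ θ₂ (hθ₁ρ.trans hθ₂ρ.symm)) r
      (pullback.map ρ ρ q q l l ξ h1.w.symm h1.w.symm) := by
  -- step A
  have hA : IsPullback (pullback.snd ρ ρ ≫ l) (pullback.fst ρ ρ) q (ρ ≫ ξ) :=
    (IsPullback.of_hasPullback ρ ρ).flip.paste_horiz h1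
  -- step B
  have hB : IsPullback (pullback.map ρ ρ q q l l ξ h1.w.symm h1.w.symm ≫ pullback.snd q q)
      (pullback.fst ρ ρ) q (l ≫ q) := by
    rw [pullback.lift_snd, h1.w]
    exact hA
  have hB' : IsPullback (pullback.map ρ ρ q q l l ξ h1.w.symm h1.w.symm) (pullback.fst ρ ρ)
      (pullback.fst q q) l :=
    IsPullback.of_right hB (pullback.lift_fst _ _ _) (IsPullback.of_hasPullback q q).flip
  -- step C
  have hC : IsPullback (pullback.map ρ ρ q q l l ξ h1.w.symm h1.w.symm)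
      (pullback.fst ρ ρ ≫ ρ) (pullback.fst q q ≫ q) ξ := hB'.paste_vert h1
  -- step D
  refine IsPullback.of_bot ?_ ?_ hC
  · rw [pullback.lift_fst_assoc, hθ₁ρ]
    exact h2
  · apply pullback.hom_ext
    · rw [Category.assoc, Category.assoc, pullback.lift_fst, pullback.lift_fst_assoc, hθ₁l]
    · rw [Category.assoc, Category.assoc, pullback.lift_snd, pullback.lift_snd_assoc, hθ₂l]

end Cat

section Descent

variable {T : Scheme.{u}} (M : BigSite.Mod Scheme.fppfPrecoverage T)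

lemma pm_sub' {X Y : Over T} (f : X ⟶ Y) (x y : M.val.obj (op Y)) :
    pm M.val f (x - y) = pm M.val f x - pm M.val f y :=
  map_sub (M.val.presheaf.map f.op).hom x y

/-- sections over `Y` as the kernel of the two restrictions along a flat covering `V → Y` whose
double overlap is covered by `V'` -/
theorem descent_kernel {Y V V' : Over T} (ρ : V ⟶ Y) (θ₁ θ₂ : V' ⟶ V)
    (hρ : Flat ρ.left) (hρ' : LocallyOfFinitePresentation ρ.left) (hρs : Surjective ρ.left)
    (hθ : θ₁.left ≫ ρ.left = θ₂.left ≫ ρ.left)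
    (hc : Flat (pullback.lift θ₁.left θ₂.left hθ))
    (hc' : LocallyOfFinitePresentation (pullback.lift θ₁.left θ₂.left hθ))
    (hcs : Surjective (pullback.lift θ₁.left θ₂.left hθ)) :
    Function.Injective (pm M.val ρ) ∧
      ∀ x : M.val.obj (op V), pm M.val θ₁ x = pm M.val θ₂ x → ∃ y, pm M.val ρ y = x := by
  have hw : pullback.snd ρ.left ρ.left ≫ V.hom = pullback.fst ρ.left ρ.left ≫ V.hom := by
    rw [← Over.w ρ, ← Category.assoc, ← Category.assoc, pullback.condition]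
  obtain ⟨W', hW'⟩ : ∃ W' : Over T, W' = Over.mk (pullback.fst ρ.left ρ.left ≫ V.hom) := ⟨_, rfl⟩
  subst hW'
  let pr1 : Over.mk (pullback.fst ρ.left ρ.left ≫ V.hom) ⟶ V :=
    Over.homMk (pullback.fst ρ.left ρ.left) rfl
  let pr2 : Over.mk (pullback.fst ρ.left ρ.left ≫ V.hom) ⟶ V :=
    Over.homMk (pullback.snd ρ.left ρ.left) hw
  have ht : pullback.lift θ₁.left θ₂.left hθ ≫ pullback.fst ρ.left ρ.left ≫ V.hom = V'.hom := by
    rw [pullback.lift_fst_assoc]
    exact Over.w θ₁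
  let t : V' ⟶ Over.mk (pullback.fst ρ.left ρ.left ≫ V.hom) :=
    Over.homMk (pullback.lift θ₁.left θ₂.left hθ) ht
  have ht1 : t ≫ pr1 = θ₁ := Over.OverMorphism.ext (pullback.lift_fst _ _ _)
  have ht2 : t ≫ pr2 = θ₂ := Over.OverMorphism.ext (pullback.lift_snd _ _ _)
  have hcov : Sieve.ofArrows (fun _ : PUnit.{1} => V) (fun _ => ρ) ∈
      QuotSh.J Scheme.fppfPrecoverage T Y := by
    change _ ∈ Jf T Y
    rw [mem_Jf_iff]
    intro z
    obtain ⟨w, hw⟩ := hρs.surj z
    exact ⟨V, ρ, Sieve.ofArrows_mk _ _ PUnit.unit, hρ, hρ', w, hw⟩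
  obtain ⟨h1, h2⟩ := sheaf_sep_glue Scheme.fppfPrecoverage M (fun _ : PUnit.{1} => V)
    (fun _ => ρ) (fun _ _ => Over.mk (pullback.fst ρ.left ρ.left ≫ V.hom))
    (fun _ _ => pr1) (fun _ _ => pr2) (fun _ _ => IsPullback.of_hasPullback ρ.left ρ.left) hcov
  constructor
  · intro x x' h
    have h3 := h1 (x - x') (fun _ => by rw [pm_sub', h, sub_self])
    exact sub_eq_zero.1 h3
  · intro x hx
    have h4 : pm M.val pr1 x = pm M.val pr2 x := by
      refine sep_eq M _ _ fun z => ?_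
      obtain ⟨w, hw⟩ := hcs.surj z
      refine ⟨V', t, ?_, hc, hc', w, hw⟩
      rw [pm_comp, pm_comp, ht1, ht2, hx]
    obtain ⟨y, hy⟩ := h2 (fun _ => x) (fun _ _ => h4)
    exact ⟨y, hy PUnit.unit⟩

end Descent

section Atlas

theorem affine_atlas (X : Scheme.{u}) [CompactSpace X] :
    ∃ (A' : CommRingCat.{u}) (q : Spec A' ⟶ X), Flat q ∧ LocallyOfFinitePresentation q ∧
      Surjective q := by
  let 𝒰 := X.affineCover.finiteSubcover
  haveI : ∀ i, IsAffine (𝒰.X i) := fun i => by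
    dsimp [𝒰, Scheme.OpenCover.finiteSubcover]
    infer_instance
  haveI : IsAffine (∐ 𝒰.X) := inferInstance
  have hfl : Flat (Sigma.desc 𝒰.f) :=
    IsZariskiLocalAtSource.sigmaDesc (P := @Flat) (fun i => inferInstance)
  have hfp : LocallyOfFinitePresentation (Sigma.desc 𝒰.f) :=
    IsZariskiLocalAtSource.sigmaDesc (P := @LocallyOfFinitePresentation) (fun i => inferInstance)
  have hs : Surjective (Sigma.desc 𝒰.f) := inferInstance
  exact ⟨Γ(∐ 𝒰.X, ⊤), (∐ 𝒰.X).isoSpec.inv ≫ Sigma.desc 𝒰.f, inferInstance, inferInstance,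
    inferInstance⟩

end Atlas

end

end Groth.Agent.Lib.AdeqShH4
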