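import Mathlib
import Groth.Prelude.Def_Adeq2
import Groth.Agent.Lib.AdeqShU_helper4
import Groth.Agent.Lib.AdeqPush_helper3
import Groth.Agent.Lib.AdeqSES_helper3

/-!
# Sheaf-level adequate modules, part V (helper4): pushforward along a quasi-compact
quasi-separated morphism
-/

set_option autoImplicit false
set_option linter.unusedSectionVars false
universe u v

open CategoryTheory Limits TensorProduct Adeq AlgebraicGeometry Opposite
open Groth.Agent.Lib.AdeqH3 Groth.Agent.Lib.BigCartanH4

namespace Groth.Agent.Lib.AdeqShH4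

noncomputable section

section PushSections

variable (K : Precoverage Scheme.{u}) [BigSite.OSh K] {S T : Scheme.{u}} (f : T ⟶ S)
  (M : BigSite.Mod K T)

/-- sections of the pushforward `f_* M` over `U/S` are sections of `M` over `U ×_S T` -/
def psOut (U : Over S) (x : ((BigSite.pushMod K f).obj M).val.obj (op U)) :
    M.val.obj (op ((Over.pullback f).obj U)) := x

/-- sections of the pushforward `f_* M` over `U/S` are sections of `M` over `U ×_S T` -/
def psIn (U : Over S) (x : M.val.obj (op ((Over.pullback f).obj U))) :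
    ((BigSite.pushMod K f).obj M).val.obj (op U) := x

lemma psOut_psIn (U : Over S) (x : M.val.obj (op ((Over.pullback f).obj U))) :
    psOut K f M U (psIn K f M U x) = x := rfl

lemma psIn_psOut (U : Over S) (x : ((BigSite.pushMod K f).obj M).val.obj (op U)) :
    psIn K f M U (psOut K f M U x) = x := rfl

lemma psOut_injective (U : Over S) : Function.Injective (psOut K f M U) := fun _ _ h => h

lemma psOut_add (U : Over S) (x y : ((BigSite.pushMod K f).obj M).val.obj (op U)) :
    psOut K f M U (x + y) = psOut K f M U x + psOut K f M U y := rfl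

lemma psOut_pm {U V : Over S} (g : U ⟶ V) (x : ((BigSite.pushMod K f).obj M).val.obj (op V)) :
    psOut K f M U (pm _ g x) = pm M.val ((Over.pullback f).map g) (psOut K f M V x) := rfl

/-- the pullback of functions along the projection `U ×_S T → U` -/
def phiO (U : Over S) (r : (BigSite.ORing K S).obj.obj (op U)) :
    (BigSite.ORing K T).obj.obj (op ((Over.pullback f).obj U)) :=
  (BigSite.ORingAbs K).obj.map (pullback.fst U.hom f).op r

lemma psOut_smul (U : Over S) (r : (BigSite.ORing K S).obj.obj (op U))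
    (x : ((BigSite.pushMod K f).obj M).val.obj (op U)) :
    psOut K f M U (r • x) = phiO K f U r • psOut K f M U x := rfl

end PushSections

section Gsec

variable (K : Precoverage Scheme.{u}) [BigSite.OSh K]

/-- an element of a ring as a function on its spectrum -/
def gsec (B : Type u) [CommRing B] (b : B) :
    (BigSite.ORingAbs K).obj.obj (op (Spec (CommRingCat.of B))) :=
  ULift.up ((Scheme.ΓSpecIso (CommRingCat.of B)).inv b)

lemma toSect_eq_gsec {S : Scheme.{u}} {R : CommRingCat.{u}} (a : Spec R ⟶ S) (B : Alg R) (b : B) :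
    toSect K a B b = gsec K B b := rfl

lemma gsec_map (B B' : Type u) [CommRing B] [CommRing B'] (g : B →+* B') (b : B) :
    (BigSite.ORingAbs K).obj.map (Spec.map (CommRingCat.ofHom g)).op (gsec K B b) =
      gsec K B' (g b) := by
  apply ULift.ext
  change ((Scheme.ΓSpecIso (CommRingCat.of B)).inv ≫
      (Spec.map (CommRingCat.ofHom g)).appTop) b =
    (CommRingCat.ofHom g ≫ (Scheme.ΓSpecIso (CommRingCat.of B')).inv) b
  rw [Scheme.ΓSpecIso_inv_naturality]

lemma oabs_map_comp {X Y Z : Scheme.{u}} (h₁ : X ⟶ Y) (h₂ : Y ⟶ Z)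
    (r : (BigSite.ORingAbs K).obj.obj (op Z)) :
    (BigSite.ORingAbs K).obj.map h₁.op ((BigSite.ORingAbs K).obj.map h₂.op r) =
      (BigSite.ORingAbs K).obj.map (h₁ ≫ h₂).op r := by
  rw [op_comp, Functor.map_comp]
  rfl

end Gsec

section Chart

variable {S T : Scheme.{u}} (f : T ⟶ S) {R : CommRingCat.{u}} (a : Spec R ⟶ S)
  (A' : Type u) [CommRing A'] [Algebra R A'] (q : Spec (CommRingCat.of A') ⟶ pullback a f)
  (hq : q ≫ pullback.fst a f = Spec.map (CommRingCat.ofHom (algebraMap R A')))

/-- the chart of `T` attached to an affine scheme over `Spec R ×_S T` -/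
def cE : Spec (CommRingCat.of A') ⟶ T := q ≫ pullback.snd a f

include hq in
lemma cE_f : cE f a A' q ≫ f = Spec.map (CommRingCat.ofHom (algebraMap R A')) ≫ a := by
  unfold cE
  rw [Category.assoc, ← pullback.condition, ← Category.assoc, hq]

variable (B : Alg R)

/-- the structure map of the chart of an `R`-algebra -/
def uE : Spec (CommRingCat.of B) ⟶ S := Spec.map (CommRingCat.ofHom (algebraMap R B)) ≫ a

/-- `b ↦ 1 ⊗ b` -/
abbrev iR : (B : Type u) →+* A' ⊗[R] B :=
  (Algebra.TensorProduct.includeRight : B →ₐ[R] A' ⊗[R] B).toRingHom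

/-- `a ↦ a ⊗ 1` -/
abbrev iL : A' →+* A' ⊗[R] B := algebraMap A' (A' ⊗[R] B)

lemma iR_alg : (iR A' B).comp (algebraMap R B) = (iL A' B).comp (algebraMap R A') := by
  ext r
  exact ((Algebra.TensorProduct.includeRight : B →ₐ[R] A' ⊗[R] B).commutes r).trans
    (IsScalarTower.algebraMap_apply R A' (A' ⊗[R] B) r)

include hq in
lemma rhoL_cond : Spec.map (CommRingCat.ofHom (iR A' B)) ≫ uE a B =
    (Spec.map (CommRingCat.ofHom (iL A' B)) ≫ cE f a A' q) ≫ f := by
  rw [Category.assoc, cE_f f a A' q hq]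
  unfold uE
  rw [← Category.assoc, ← Category.assoc, ← Spec.map_comp, ← Spec.map_comp,
    ← CommRingCat.ofHom_comp, ← CommRingCat.ofHom_comp, iR_alg]

/-- `Spec (A' ⊗ B) → Spec B ×_S T` -/
def rhoL : Spec (CommRingCat.of (A' ⊗[R] B)) ⟶ pullback (uE a B) f :=
  pullback.lift (Spec.map (CommRingCat.ofHom (iR A' B)))
    (Spec.map (CommRingCat.ofHom (iL A' B)) ≫ cE f a A' q) (rhoL_cond f a A' q hq B)

@[reassoc]
lemma rhoL_fst : rhoL f a A' q hq B ≫ pullback.fst _ _ = Spec.map (CommRingCat.ofHom (iR A' B)) :=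
  pullback.lift_fst _ _ _

@[reassoc]
lemma rhoL_snd : rhoL f a A' q hq B ≫ pullback.snd _ _ =
    Spec.map (CommRingCat.ofHom (iL A' B)) ≫ cE f a A' q :=
  pullback.lift_snd _ _ _

/-- `Spec (A' ⊗ B) → Spec B ×_S T` over `T` -/
def rhoE : (specOver (cE f a A' q)).obj (op (bA B)) ⟶
    (Over.pullback f).obj ((specOver a).obj (op B)) :=
  Over.homMk (rhoL f a A' q hq B) (rhoL_snd f a A' q hq B)

lemma rhoE_left : (rhoE f a A' q hq B).left = rhoL f a A' q hq B := rfl

/-- `Spec B ×_S T → Spec R ×_S T` -/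
def xiE : pullback (uE a B) f ⟶ pullback a f :=
  pullback.lift (pullback.fst _ _ ≫ Spec.map (CommRingCat.ofHom (algebraMap R B)))
    (pullback.snd _ _) (by
      rw [Category.assoc]
      exact pullback.condition (f := uE a B) (g := f))

@[reassoc]
lemma xiE_fst : xiE f a B ≫ pullback.fst a f =
    pullback.fst _ _ ≫ Spec.map (CommRingCat.ofHom (algebraMap R B)) :=
  pullback.lift_fst _ _ _

@[reassoc]
lemma xiE_snd : xiE f a B ≫ pullback.snd a f = pullback.snd _ _ :=
  pullback.lift_snd _ _ _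

lemma isPullback_xiE : IsPullback (xiE f a B) (pullback.fst (uE a B) f)
    (pullback.fst a f) (Spec.map (CommRingCat.ofHom (algebraMap R B))) := by
  refine IsPullback.of_right ?_ (xiE_fst f a B) (IsPullback.of_hasPullback a f).flip
  rw [xiE_snd]
  exact (IsPullback.of_hasPullback (uE a B) f).flip

include hq in
lemma iL_q : Spec.map (CommRingCat.ofHom (iL A' B)) ≫ q = rhoL f a A' q hq B ≫ xiE f a B := by
  apply pullback.hom_ext
  · rw [Category.assoc, Category.assoc, hq, xiE_fst, rhoL_fst_assoc,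
      ← Spec.map_comp, ← Spec.map_comp, ← CommRingCat.ofHom_comp, ← CommRingCat.ofHom_comp, iR_alg]
  · rw [Category.assoc, Category.assoc, xiE_snd, rhoL_snd]
    rfl

theorem chart_pullback : IsPullback (Spec.map (CommRingCat.ofHom (iL A' B))) (rhoL f a A' q hq B)
    q (xiE f a B) := by
  refine IsPullback.of_bot ?_ (iL_q f a A' q hq B) (isPullback_xiE f a B)
  rw [rhoL_fst, hq]
  exact isPullback_SpecMap_of_isPushout _ _ _ _ (CommRingCat.isPushout_tensorProduct R A' B)

include hq in
lemma flat_rhoL (h : Flat q) : Flat (rhoL f a A' q hq B) :=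
  MorphismProperty.of_isPullback (P := @Flat) (chart_pullback f a A' q hq B) h

include hq in
lemma lfp_rhoL (h : LocallyOfFinitePresentation q) :
    LocallyOfFinitePresentation (rhoL f a A' q hq B) :=
  MorphismProperty.of_isPullback (P := @LocallyOfFinitePresentation)
    (chart_pullback f a A' q hq B) h

include hq in
lemma surjective_rhoL (h : Surjective q) : Surjective (rhoL f a A' q hq B) :=
  MorphismProperty.of_isPullback (P := @Surjective) (chart_pullback f a A' q hq B) h

lemma rhoE_smul (K : Precoverage Scheme.{u}) [BigSite.OSh K] (b : B) :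
    (BigSite.ORing K T).obj.map (rhoE f a A' q hq B).op
        (phiO K f ((specOver a).obj (op B)) (toSect K a B b)) =
      toSect K (cE f a A' q) (bA B) ((1 : A') ⊗ₜ[R] b) := by
  change (BigSite.ORingAbs K).obj.map (rhoL f a A' q hq B).op
    ((BigSite.ORingAbs K).obj.map (pullback.fst (uE a B) f).op (gsec K B b)) = gsec K _ _
  rw [oabs_map_comp, rhoL_fst, gsec_map]
  rfl

lemma ypE_cond {B B₂ : Alg R} (g : B ⟶ B₂) :
    (pullback.fst (uE a B₂) f ≫ Spec.map (CommRingCat.ofHom g.hom.toRingHom)) ≫ uE a B =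
      pullback.snd (uE a B₂) f ≫ f := by
  rw [← pullback.condition, Category.assoc]
  congr 1
  unfold uE
  rw [← Category.assoc, ← Spec.map_comp, ← CommRingCat.ofHom_comp]
  congr 3
  ext r
  exact g.hom.commutes r

/-- the base change of `Spec B₂ → Spec B` to `T` -/
def ypE {B B₂ : Alg R} (g : B ⟶ B₂) : pullback (uE a B₂) f ⟶ pullback (uE a B) f :=
  pullback.lift (pullback.fst (uE a B₂) f ≫ Spec.map (CommRingCat.ofHom g.hom.toRingHom))
    (pullback.snd (uE a B₂) f) (ypE_cond f a g)

lemma ypE_eq {B B₂ : Alg R} (g : B ⟶ B₂) :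
    ((Over.pullback f).map ((specOver a).map g.op)).left = ypE f a g := rfl

lemma rhoL_natural {B B₂ : Alg R} (g : B ⟶ B₂) :
    rhoL f a A' q hq B₂ ≫ ypE f a g =
      Spec.map (CommRingCat.ofHom ((Alg.baseChange R A').map g).hom.toRingHom) ≫
        rhoL f a A' q hq B := by
  apply pullback.hom_ext
  · unfold ypE
    rw [Category.assoc, Category.assoc, pullback.lift_fst, rhoL_fst_assoc, rhoL_fst,
      ← Spec.map_comp, ← Spec.map_comp, ← CommRingCat.ofHom_comp, ← CommRingCat.ofHom_comp]
    congr 2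
  · unfold ypE
    rw [Category.assoc, Category.assoc, pullback.lift_snd, rhoL_snd, rhoL_snd,
      ← Category.assoc, ← Spec.map_comp, ← CommRingCat.ofHom_comp]
    congr 3
    ext x
    simp

lemma rhoE_natural {B B₂ : Alg R} (g : B ⟶ B₂) :
    rhoE f a A' q hq B₂ ≫ (Over.pullback f).map ((specOver a).map g.op) =
      (specOver (cE f a A' q)).map ((Alg.baseChange R A').map g).op ≫ rhoE f a A' q hq B :=
  Over.OverMorphism.ext (rhoL_natural f a A' q hq g)

end Chart

section KHom

variable {S T : Scheme.{u}} (f : T ⟶ S) (M : BigSite.Mod Scheme.fppfPrecoverage T)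
  {R : CommRingCat.{u}} (a : Spec R ⟶ S)
  (A' : Type u) [CommRing A'] [Algebra R A'] (q : Spec (CommRingCat.of A') ⟶ pullback a f)
  (hq : q ≫ pullback.fst a f = Spec.map (CommRingCat.ofHom (algebraMap R A')))

/-- the chart functor of the pushforward -/
abbrev FN : MVF R :=
  (toMVFPre Scheme.fppfPrecoverage a).obj ((BigSite.pushMod Scheme.fppfPrecoverage f).obj M).val

/-- the pushed chart functor of an affine scheme over `Spec R ×_S T` -/
abbrev G0 : MVF R :=
  (Adeq.push R A').obj ((toMVFPre Scheme.fppfPrecoverage (cE f a A' q)).obj M.val)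

/-- restriction of sections along `Spec (A' ⊗ B) → Spec B ×_S T` -/
def kFun (B : Alg R) (x : (FN f M a).obj (pt B)) : (G0 f M a A' q).obj (pt B) :=
  pIn _ B (fIn Scheme.fppfPrecoverage (cE f a A' q) M.val (bA B)
    (pm M.val (rhoE f a A' q hq B)
      (psOut Scheme.fppfPrecoverage f M _ (fOut Scheme.fppfPrecoverage a _ B x))))

lemma kFun_out (B : Alg R) (x : (FN f M a).obj (pt B)) :
    fOut Scheme.fppfPrecoverage (cE f a A' q) M.val (bA B) (pOut _ B (kFun f M a A' q hq B x)) =
      pm M.val (rhoE f a A' q hq B)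
        (psOut Scheme.fppfPrecoverage f M _ (fOut Scheme.fppfPrecoverage a _ B x)) := rfl

/-- the morphism of module-valued functors `F_{f_* M} → push F_{M, A'}` -/
def kHom : FN f M a ⟶ G0 f M a A' q :=
  mkHom (kFun f M a A' q hq)
    (fun B x y => by
      apply pOut_injective
      apply fOut_injective
      rw [pOut_add, fOut_add, kFun_out, kFun_out, kFun_out, fOut_add, psOut_add, pm_add])
    (fun B b x => by
      apply pOut_injective
      apply fOut_injective
      rw [pOut_smul, fOut_smul, kFun_out, kFun_out, fOut_smul, psOut_smul, pm_smul, rhoE_smul])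
    (fun {B B₂} g x => by
      apply pOut_injective
      apply fOut_injective
      rw [pOut_mp, fOut_mp, kFun_out, kFun_out, fOut_mp, psOut_pm, pm_comp, pm_comp,
        rhoE_natural])

lemma kHom_app (B : Alg R) (x : (FN f M a).obj (pt B)) :
    (kHom f M a A' q hq).app (pt B) x = kFun f M a A' q hq B x := rfl

end KHom

section Theta

variable {S T : Scheme.{u}} (f : T ⟶ S) (M : BigSite.Mod Scheme.fppfPrecoverage T)
  {R : CommRingCat.{u}} (a : Spec R ⟶ S)
  (A' : Type u) [CommRing A'] [Algebra R A'] (q : Spec (CommRingCat.of A') ⟶ pullback a f)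
  (A'' : Type u) [CommRing A''] [Algebra R A''] (q'' : Spec (CommRingCat.of A'') ⟶ pullback a f)
  (d : A' →ₐ[R] A'')
  (hd : Spec.map (CommRingCat.ofHom d.toRingHom) ≫ cE f a A' q = cE f a A'' q'')

/-- `d ⊗ id` -/
abbrev tmE (B : Alg R) : A' ⊗[R] B →+* A'' ⊗[R] B :=
  (Algebra.TensorProduct.map d (AlgHom.id R B)).toRingHom

lemma tmE_iL (B : Alg R) : (tmE A' A'' d B).comp (iL A' B) = (iL A'' B).comp d.toRingHom := by
  ext x
  simp [Algebra.TensorProduct.algebraMap_apply]

lemma tmE_iR (B : Alg R) : (tmE A' A'' d B).comp (iR A' B) = iR A'' B := by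
  ext b
  simp

lemma tmE_natural {B B₂ : Alg R} (g : B ⟶ B₂) :
    ((Alg.baseChange R A'').map g).hom.toRingHom.comp (tmE A' A'' d B) =
      (tmE A' A'' d B₂).comp ((Alg.baseChange R A').map g).hom.toRingHom := by
  apply RingHom.ext
  intro z
  induction z using TensorProduct.induction_on with
  | zero => simp
  | tmul x y => simp
  | add x y hx hy => rw [map_add, map_add, hx, hy]

include hd in
lemma thetaE_cond (B : Alg R) :
    Spec.map (CommRingCat.ofHom (tmE A' A'' d B)) ≫
        ((specOver (cE f a A' q)).obj (op (bA B))).hom =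
      ((specOver (cE f a A'' q'')).obj (op (bA B))).hom := by
  change Spec.map (CommRingCat.ofHom (tmE A' A'' d B)) ≫
    Spec.map (CommRingCat.ofHom (iL A' B)) ≫ cE f a A' q =
      Spec.map (CommRingCat.ofHom (iL A'' B)) ≫ cE f a A'' q''
  rw [← hd, ← Category.assoc, ← Category.assoc, ← Spec.map_comp, ← Spec.map_comp,
    ← CommRingCat.ofHom_comp, ← CommRingCat.ofHom_comp, tmE_iL]

/-- `Spec (A'' ⊗ B) → Spec (A' ⊗ B)` over `T` -/
def thetaE (B : Alg R) : (specOver (cE f a A'' q'')).obj (op (bA B)) ⟶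
    (specOver (cE f a A' q)).obj (op (bA B)) :=
  Over.homMk (Spec.map (CommRingCat.ofHom (tmE A' A'' d B))) (thetaE_cond f a A' q A'' q'' d hd B)

lemma thetaE_left (B : Alg R) : (thetaE f a A' q A'' q'' d hd B).left =
    Spec.map (CommRingCat.ofHom (tmE A' A'' d B)) := rfl

lemma thetaE_smul (K : Precoverage Scheme.{u}) [BigSite.OSh K] (B : Alg R) (b : B) :
    (BigSite.ORing K T).obj.map (thetaE f a A' q A'' q'' d hd B).op
        (toSect K (cE f a A' q) (bA B) ((1 : A') ⊗ₜ[R] b)) =
      toSect K (cE f a A'' q'') (bA B) ((1 : A'') ⊗ₜ[R] b) := by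
  change (BigSite.ORingAbs K).obj.map (Spec.map (CommRingCat.ofHom (tmE A' A'' d B))).op
    (gsec K (A' ⊗[R] B) ((1 : A') ⊗ₜ[R] b)) = gsec K (A'' ⊗[R] B) ((1 : A'') ⊗ₜ[R] b)
  rw [gsec_map]
  congr 1
  simp

lemma thetaE_natural {B B₂ : Alg R} (g : B ⟶ B₂) :
    thetaE f a A' q A'' q'' d hd B₂ ≫
        (specOver (cE f a A' q)).map ((Alg.baseChange R A').map g).op =
      (specOver (cE f a A'' q'')).map ((Alg.baseChange R A'').map g).op ≫
        thetaE f a A' q A'' q'' d hd B := by
  apply Over.OverMorphism.ext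
  change Spec.map (CommRingCat.ofHom (tmE A' A'' d B₂)) ≫
      Spec.map (CommRingCat.ofHom ((Alg.baseChange R A').map g).hom.toRingHom) =
    Spec.map (CommRingCat.ofHom ((Alg.baseChange R A'').map g).hom.toRingHom) ≫
      Spec.map (CommRingCat.ofHom (tmE A' A'' d B))
  rw [← Spec.map_comp, ← Spec.map_comp, ← CommRingCat.ofHom_comp, ← CommRingCat.ofHom_comp,
    tmE_natural]

/-- restriction of sections along `Spec (A'' ⊗ B) → Spec (A' ⊗ B)` -/
def thFun (B : Alg R) (x : (G0 f M a A' q).obj (pt B)) : (G0 f M a A'' q'').obj (pt B) :=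
  pIn _ B (fIn Scheme.fppfPrecoverage (cE f a A'' q'') M.val (bA B)
    (pm M.val (thetaE f a A' q A'' q'' d hd B)
      (fOut Scheme.fppfPrecoverage (cE f a A' q) M.val (bA B) (pOut _ B x))))

lemma thFun_out (B : Alg R) (x : (G0 f M a A' q).obj (pt B)) :
    fOut Scheme.fppfPrecoverage (cE f a A'' q'') M.val (bA B)
        (pOut _ B (thFun f M a A' q A'' q'' d hd B x)) =
      pm M.val (thetaE f a A' q A'' q'' d hd B)
        (fOut Scheme.fppfPrecoverage (cE f a A' q) M.val (bA B) (pOut _ B x)) := rfl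

/-- the morphism of module-valued functors `push F_{M, A'} → push F_{M, A''}` -/
def thHom : G0 f M a A' q ⟶ G0 f M a A'' q'' :=
  mkHom (thFun f M a A' q A'' q'' d hd)
    (fun B x y => by
      apply pOut_injective
      apply fOut_injective
      rw [pOut_add, fOut_add, thFun_out, thFun_out, thFun_out, pOut_add, fOut_add, pm_add])
    (fun B b x => by
      apply pOut_injective
      apply fOut_injective
      rw [pOut_smul, fOut_smul, thFun_out, thFun_out, pOut_smul, fOut_smul, pm_smul,
        thetaE_smul])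
    (fun {B B₂} g x => by
      apply pOut_injective
      apply fOut_injective
      rw [pOut_mp, fOut_mp, thFun_out, thFun_out, pOut_mp, fOut_mp, pm_comp, pm_comp,
        thetaE_natural])

lemma thHom_app (B : Alg R) (x : (G0 f M a A' q).obj (pt B)) :
    (thHom f M a A' q A'' q'' d hd).app (pt B) x = thFun f M a A' q A'' q'' d hd B x := rfl

include hd in
lemma theta_rho (hq : q ≫ pullback.fst a f = Spec.map (CommRingCat.ofHom (algebraMap R A')))
    (hq'' : q'' ≫ pullback.fst a f = Spec.map (CommRingCat.ofHom (algebraMap R A'')))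
    (B : Alg R) :
    Spec.map (CommRingCat.ofHom (tmE A' A'' d B)) ≫ rhoL f a A' q hq B =
      rhoL f a A'' q'' hq'' B := by
  apply pullback.hom_ext
  · rw [Category.assoc, rhoL_fst, rhoL_fst, ← Spec.map_comp, ← CommRingCat.ofHom_comp, tmE_iR]
  · rw [Category.assoc, rhoL_snd, rhoL_snd, ← hd, ← Category.assoc, ← Category.assoc,
      ← Spec.map_comp, ← Spec.map_comp, ← CommRingCat.ofHom_comp, ← CommRingCat.ofHom_comp,
      tmE_iL]

include hd in
lemma thetaE_rhoE (hq : q ≫ pullback.fst a f = Spec.map (CommRingCat.ofHom (algebraMap R A')))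
    (hq'' : q'' ≫ pullback.fst a f = Spec.map (CommRingCat.ofHom (algebraMap R A'')))
    (B : Alg R) :
    thetaE f a A' q A'' q'' d hd B ≫ rhoE f a A' q hq B = rhoE f a A'' q'' hq'' B :=
  Over.OverMorphism.ext (theta_rho f a A' q A'' q'' d hd hq hq'' B)

end Theta

section Main

variable {S T : Scheme.{u}} (f : T ⟶ S) (M : BigSite.Mod Scheme.fppfPrecoverage T)
  (hM : Adeq.adequateMod Scheme.fppfPrecoverage T M)
  {R : CommRingCat.{u}} (a : Spec R ⟶ S)
  (A' : Type u) [CommRing A'] [Algebra R A'] (q : Spec (CommRingCat.of A') ⟶ pullback a f)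
  (hq : q ≫ pullback.fst a f = Spec.map (CommRingCat.ofHom (algebraMap R A')))
  (hqfl : Flat q) (hqfp : LocallyOfFinitePresentation q) (hqs : Surjective q)
  (A'' : Type u) [CommRing A''] [Algebra R A'']
  (r : Spec (CommRingCat.of A'') ⟶ pullback q q)
  (hrfl : Flat r) (hrfp : LocallyOfFinitePresentation r) (hrs : Surjective r)
  (hq'' : (r ≫ pullback.fst q q ≫ q) ≫ pullback.fst a f =
    Spec.map (CommRingCat.ofHom (algebraMap R A'')))
  (d₁ d₂ : A' →ₐ[R] A'')
  (hd₁ : Spec.map (CommRingCat.ofHom d₁.toRingHom) = r ≫ pullback.fst q q)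
  (hd₂ : Spec.map (CommRingCat.ofHom d₂.toRingHom) = r ≫ pullback.snd q q)

include hM hq hq'' hqfl hqfp hqs hrfl hrfp hrs hd₁ hd₂ in
theorem adequate_FN_of_data : Adeq.adequate R (FN f M a) := by
  have hdc₁ : Spec.map (CommRingCat.ofHom d₁.toRingHom) ≫ cE f a A' q =
      cE f a A'' (r ≫ pullback.fst q q ≫ q) := by
    unfold cE
    rw [hd₁]
    simp only [Category.assoc]
  have hdc₂ : Spec.map (CommRingCat.ofHom d₂.toRingHom) ≫ cE f a A' q =
      cE f a A'' (r ≫ pullback.fst q q ≫ q) := by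
    unfold cE
    rw [hd₂]
    simp only [Category.assoc]
    rw [← pullback.condition_assoc]
  have hdk : ∀ B : Alg R, Function.Injective (pm M.val (rhoE f a A' q hq B)) ∧
      ∀ x, pm M.val (thetaE f a A' q A'' (r ≫ pullback.fst q q ≫ q) d₁ hdc₁ B) x =
        pm M.val (thetaE f a A' q A'' (r ≫ pullback.fst q q ≫ q) d₂ hdc₂ B) x →
        ∃ y, pm M.val (rhoE f a A' q hq B) y = x := by
    intro B
    have hr1 := theta_rho f a A' q A'' (r ≫ pullback.fst q q ≫ q) d₁ hdc₁ hq hq'' B
    have hr2 := theta_rho f a A' q A'' (r ≫ pullback.fst q q ≫ q) d₂ hdc₂ hq hq'' B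
    have hθ₁l : Spec.map (CommRingCat.ofHom (tmE A' A'' d₁ B)) ≫
        Spec.map (CommRingCat.ofHom (iL A' B)) =
        Spec.map (CommRingCat.ofHom (iL A'' B)) ≫ r ≫ pullback.fst q q := by
      rw [← hd₁, ← Spec.map_comp, ← Spec.map_comp, ← CommRingCat.ofHom_comp,
        ← CommRingCat.ofHom_comp, tmE_iL]
    have hθ₂l : Spec.map (CommRingCat.ofHom (tmE A' A'' d₂ B)) ≫
        Spec.map (CommRingCat.ofHom (iL A' B)) =
        Spec.map (CommRingCat.ofHom (iL A'' B)) ≫ r ≫ pullback.snd q q := by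
      rw [← hd₂, ← Spec.map_comp, ← Spec.map_comp, ← CommRingCat.ofHom_comp,
        ← CommRingCat.ofHom_comp, tmE_iL]
    have hbc := base_change_diag (xiE f a B) q (Spec.map (CommRingCat.ofHom (iL A' B)))
      (rhoL f a A' q hq B) (chart_pullback f a A' q hq B) r
      (Spec.map (CommRingCat.ofHom (iL A'' B)))
      (rhoL f a A'' (r ≫ pullback.fst q q ≫ q) hq'' B)
      (chart_pullback f a A'' (r ≫ pullback.fst q q ≫ q) hq'' B)
      (Spec.map (CommRingCat.ofHom (tmE A' A'' d₁ B)))
      (Spec.map (CommRingCat.ofHom (tmE A' A'' d₂ B))) hθ₁l hr1 hθ₂l hr2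
    exact descent_kernel M (rhoE f a A' q hq B)
      (thetaE f a A' q A'' (r ≫ pullback.fst q q ≫ q) d₁ hdc₁ B)
      (thetaE f a A' q A'' (r ≫ pullback.fst q q ≫ q) d₂ hdc₂ B)
      (flat_rhoL f a A' q hq B hqfl) (lfp_rhoL f a A' q hq B hqfp)
      (surjective_rhoL f a A' q hq B hqs) (hr1.trans hr2.symm)
      (MorphismProperty.of_isPullback (P := @Flat) hbc hrfl)
      (MorphismProperty.of_isPullback (P := @LocallyOfFinitePresentation) hbc hrfp)
      (MorphismProperty.of_isPullback (P := @Surjective) hbc hrs)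
  refine adequate_of_ker (kHom f M a A' q hq)
    (thHom f M a A' q A'' (r ≫ pullback.fst q q ≫ q) d₁ hdc₁ -
      thHom f M a A' q A'' (r ≫ pullback.fst q q ≫ q) d₂ hdc₂) ?_ ?_ ?_ ?_ ?_
  · intro B x x' h
    rw [kHom_app, kHom_app] at h
    have h2 := congrArg (fun w => fOut Scheme.fppfPrecoverage (cE f a A' q) M.val (bA B)
      (pOut _ B w)) h
    exact (hdk B).1 h2
  · apply hom_ext'
    intro B x
    rw [comp_app_apply, zero_app_apply]
    change thFun f M a A' q A'' (r ≫ pullback.fst q q ≫ q) d₁ hdc₁ B (kFun f M a A' q hq B x) -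
      thFun f M a A' q A'' (r ≫ pullback.fst q q ≫ q) d₂ hdc₂ B (kFun f M a A' q hq B x) = 0
    rw [sub_eq_zero]
    apply pOut_injective
    apply fOut_injective
    rw [thFun_out, thFun_out, kFun_out, pm_comp, pm_comp, thetaE_rhoE f a A' q A'' _ d₁ hdc₁ hq hq'',
      thetaE_rhoE f a A' q A'' _ d₂ hdc₂ hq hq'']
  · intro B x hx
    have h1 : thFun f M a A' q A'' (r ≫ pullback.fst q q ≫ q) d₁ hdc₁ B x =
        thFun f M a A' q A'' (r ≫ pullback.fst q q ≫ q) d₂ hdc₂ B x := sub_eq_zero.1 hx
    have h2 := congrArg (fun w => fOut Scheme.fppfPrecoverage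
      (cE f a A'' (r ≫ pullback.fst q q ≫ q)) M.val (bA B) (pOut _ B w)) h1
    obtain ⟨y, hy⟩ := (hdk B).2 _ h2
    refine ⟨fIn Scheme.fppfPrecoverage a _ B (psIn Scheme.fppfPrecoverage f M _ y), ?_⟩
    apply pOut_injective
    apply fOut_injective
    rw [kHom_app, kFun_out]
    exact hy
  · exact adequate_push _ (main8755 T M hM (CommRingCat.of A') (cE f a A' q))
  · exact adequate_push _ (main8755 T M hM (CommRingCat.of A'')
      (cE f a A'' (r ≫ pullback.fst q q ≫ q)))

end Main

section Final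

variable {S T : Scheme.{u}} (f : T ⟶ S) [QuasiCompact f] [QuasiSeparated f]
  (M : BigSite.Mod Scheme.fppfPrecoverage T)
  (hM : Adeq.adequateMod Scheme.fppfPrecoverage T M)

include hM in
theorem adequate_push_chart {R : CommRingCat.{u}} (a : Spec R ⟶ S) :
    Adeq.adequate R (FN f M a) := by
  haveI : CompactSpace ↥(pullback a f) :=
    QuasiCompact.compactSpace_of_compactSpace (pullback.fst a f)
  haveI : QuasiSeparatedSpace ↥(pullback a f) :=
    quasiSeparatedSpace_of_quasiSeparated (pullback.fst a f)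
  obtain ⟨A'c, q, hqfl, hqfp, hqs⟩ := affine_atlas (pullback a f)
  haveI : QuasiCompact q := inferInstance
  haveI : CompactSpace ↥(pullback q q) :=
    QuasiCompact.compactSpace_of_compactSpace (pullback.fst q q)
  obtain ⟨A''c, r, hrfl, hrfp, hrs⟩ := affine_atlas (pullback q q)
  letI algA' : Algebra R A'c := (Spec.preimage (q ≫ pullback.fst a f)).hom.toAlgebra
  have hq : q ≫ pullback.fst a f = Spec.map (CommRingCat.ofHom (algebraMap R A'c)) :=
    (Spec.map_preimage _).symm
  obtain ⟨d₁r, hd₁⟩ : ∃ d₁r : A'c →+* A''c,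
      Spec.map (CommRingCat.ofHom d₁r) = r ≫ pullback.fst q q :=
    ⟨(Spec.preimage (r ≫ pullback.fst q q)).hom, Spec.map_preimage _⟩
  obtain ⟨d₂r, hd₂⟩ : ∃ d₂r : A'c →+* A''c,
      Spec.map (CommRingCat.ofHom d₂r) = r ≫ pullback.snd q q :=
    ⟨(Spec.preimage (r ≫ pullback.snd q q)).hom, Spec.map_preimage _⟩
  letI algA'' : Algebra R A''c := (d₁r.comp (algebraMap R A'c)).toAlgebra
  have hq'' : (r ≫ pullback.fst q q ≫ q) ≫ pullback.fst a f =
      Spec.map (CommRingCat.ofHom (algebraMap R A''c)) := by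
    change _ = Spec.map (CommRingCat.ofHom (d₁r.comp (algebraMap R A'c)))
    rw [CommRingCat.ofHom_comp, Spec.map_comp, hd₁, ← hq]
    simp only [Category.assoc]
  have hcomm : d₂r.comp (algebraMap R A'c) = d₁r.comp (algebraMap R A'c) := by
    have h1 : Spec.map (CommRingCat.ofHom (d₂r.comp (algebraMap R A'c))) =
        Spec.map (CommRingCat.ofHom (d₁r.comp (algebraMap R A'c))) := by
      rw [CommRingCat.ofHom_comp, CommRingCat.ofHom_comp, Spec.map_comp, Spec.map_comp, hd₁, hd₂,
        ← hq]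
      simp only [Category.assoc]
      rw [pullback.condition_assoc]
    exact congrArg CommRingCat.Hom.hom (Spec.map_injective h1)
  let d₁ : A'c →ₐ[R] A''c := { d₁r with commutes' := fun x => rfl }
  let d₂ : A'c →ₐ[R] A''c :=
    { d₂r with commutes' := fun x => congrFun (congrArg DFunLike.coe hcomm) x }
  exact adequate_FN_of_data f M hM a A'c q hq hqfl hqfp hqs A''c r hrfl hrfp hrs hq'' d₁ d₂
    hd₁ hd₂

include hM in
/-- S8765 -/
theorem main8765 : Adeq.adequateMod Scheme.fppfPrecoverage S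
    ((BigSite.pushMod Scheme.fppfPrecoverage f).obj M) :=
  ⟨S.affineOpenCover.I₀, S.affineOpenCover.X, S.affineOpenCover.f,
    affineOpenCover_mem_fppf S, fun _ => adequate_push_chart f M hM _⟩

end Final

end

end Groth.Agent.Lib.AdeqShH4
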