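import Mathlib
import Groth.Agent.Lib.CechSiteInj_helper2

/-!
# Čech cohomology of an injective presheaf of modules vanishes (helper4)

Module version of helper2's `CechSiteInj_helper2`: the underlying presheaf of abelian groups of an
injective presheaf of modules has vanishing Čech cohomology in positive degrees for any family.
-/

set_option autoImplicit false
set_option linter.unusedSectionVars false
universe w v u
open CategoryTheory Limits Opposite

namespace Groth.Agent.Lib.CechSiteMod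

open Groth.Agent.Lib.CechSite

variable {C : Type u} [Category.{v} C] [LocallySmall.{w} C] {U : C} [HasFiniteProducts (Over U)]
  {ι : Type w} (Y : ι → Over U) (R₀ : Cᵒᵖ ⥤ RingCat.{w})

/-- the presheaf of tuples -/
noncomputable def Kp (n : ℕ) : Cᵒᵖ ⥤ Type w where
  obj V := K Y n V.unop
  map h := ↾(K.pre h.unop)
  map_id V := by
    apply TypeCat.homEquiv.injective
    funext s
    exact K.pre_id s
  map_comp h h' := by
    apply TypeCat.homEquiv.injective
    funext s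
    exact K.pre_comp h'.unop h.unop s

/-- the face maps of the presheaves of tuples -/
noncomputable def faceN (n : ℕ) (k : Fin (n + 2)) : Kp Y (n + 1) ⟶ Kp Y n where
  app V := ↾(K.face k)
  naturality V V' h := by
    apply TypeCat.homEquiv.injective
    funext s
    rfl

/-- the free presheaf of modules on the tuples -/
noncomputable abbrev FM (n : ℕ) : PresheafOfModules.{w} R₀ := PresheafOfModules.freeObj (Kp Y n)

/-- the boundary -/
noncomputable def DM (n : ℕ) : FM Y R₀ (n + 1) ⟶ FM Y R₀ n :=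
  ∑ k : Fin (n + 2), (-1 : ℤ) ^ (k : ℕ) • (PresheafOfModules.free R₀).map (faceN Y n k)

lemma DM_app (n : ℕ) (V : Cᵒᵖ) : (DM Y R₀ n).app V =
    ∑ k : Fin (n + 2), (-1 : ℤ) ^ (k : ℕ) •
      (ModuleCat.free (R₀.obj V)).map (↾(K.face (Y := Y) (V := V.unop) k)) := by
  have h := (PresheafOfModules.evaluation R₀ V).map_sum
    (fun k : Fin (n + 2) => (-1 : ℤ) ^ (k : ℕ) • (PresheafOfModules.free R₀).map (faceN Y n k))
    Finset.univ
  refine h.trans ?_
  refine Finset.sum_congr rfl fun k _ => ?_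
  exact (PresheafOfModules.evaluation R₀ V).map_zsmul

/-- the sectionwise contracting homotopy -/
noncomputable def HH (n : ℕ) (V : Cᵒᵖ) :
    (ModuleCat.free (R₀.obj V)).obj (K Y n V.unop) ⟶
      (ModuleCat.free (R₀.obj V)).obj (K Y (n + 1) V.unop) :=
  (ModuleCat.free (R₀.obj V)).map (↾(cone (Y := Y) (V := V.unop) (n := n)))

/-- the faces, sectionwise -/
noncomputable abbrev fc (n : ℕ) (V : Cᵒᵖ) (k : Fin (n + 2)) :
    (ModuleCat.free (R₀.obj V)).obj (K Y (n + 1) V.unop) ⟶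
      (ModuleCat.free (R₀.obj V)).obj (K Y n V.unop) :=
  (ModuleCat.free (R₀.obj V)).map (↾(K.face (Y := Y) (V := V.unop) k))

lemma HH_fc_zero (n : ℕ) (V : Cᵒᵖ) : HH Y R₀ n V ≫ fc Y R₀ n V 0 = 𝟙 _ := by
  unfold HH fc
  rw [← Functor.map_comp]
  have h : (↾(cone (Y := Y) (V := V.unop) (n := n))) ≫ (↾(K.face (Y := Y) (V := V.unop) 0)) =
      𝟙 (K Y n V.unop) := by
    apply TypeCat.homEquiv.injective
    funext s
    exact face_zero_cone s
  rw [h, CategoryTheory.Functor.map_id]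

lemma HH_fc_succ (n : ℕ) (V : Cᵒᵖ) (k : Fin (n + 2)) :
    HH Y R₀ (n + 1) V ≫ fc Y R₀ (n + 1) V k.succ = fc Y R₀ n V k ≫ HH Y R₀ n V := by
  unfold HH fc
  rw [← Functor.map_comp, ← Functor.map_comp]
  congr 1
  apply TypeCat.homEquiv.injective
  funext s
  exact face_succ_cone k s

/-- the boundary, sectionwise -/
noncomputable def DMs (n : ℕ) (V : Cᵒᵖ) :
    (ModuleCat.free (R₀.obj V)).obj (K Y (n + 1) V.unop) ⟶
      (ModuleCat.free (R₀.obj V)).obj (K Y n V.unop) := (DM Y R₀ n).app V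

lemma DMs_eq (n : ℕ) (V : Cᵒᵖ) : DMs Y R₀ n V =
    ∑ k : Fin (n + 2), (-1 : ℤ) ^ (k : ℕ) • fc Y R₀ n V k := DM_app Y R₀ n V

lemma homotopyM (n : ℕ) (V : Cᵒᵖ) :
    HH Y R₀ (n + 1) V ≫ DMs Y R₀ (n + 1) V + DMs Y R₀ n V ≫ HH Y R₀ n V = 𝟙 _ := by
  rw [DMs_eq, DMs_eq, Preadditive.comp_sum, Preadditive.sum_comp, Fin.sum_univ_succ]
  simp only [Fin.val_zero, pow_zero, one_smul, Fin.val_succ, Preadditive.comp_zsmul,
    Preadditive.zsmul_comp]
  rw [HH_fc_zero]
  simp only [HH_fc_succ, pow_succ, mul_neg, mul_one, neg_smul, Finset.sum_neg_distrib]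
  abel

variable {Y R₀} (I₀ : PresheafOfModules.{w} R₀)

section Translate

variable {n : ℕ}

/-- a morphism from the free abelian presheaf gives a morphism from the free presheaf of modules -/
noncomputable def toMod (ψ : P Y n ⟶ I₀.presheaf) : FM Y R₀ n ⟶ I₀ :=
  PresheafOfModules.freeObjDesc
    { app := fun V => ↾(fun s : K Y n V.unop => (ψ.app V).hom (FreeAbelianGroup.of s))
      naturality := fun V V' h => by
        apply TypeCat.homEquiv.injective
        funext s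
        have h1 := nat_apply ψ h.unop (FreeAbelianGroup.of s)
        rw [P_map_of] at h1
        exact h1 }

lemma toMod_app_freeMk (ψ : P Y n ⟶ I₀.presheaf) (V : Cᵒᵖ) (s : K Y n V.unop) :
    ((toMod I₀ ψ).app V).hom (ModuleCat.freeMk s) = (ψ.app V).hom (FreeAbelianGroup.of s) :=
  ModuleCat.freeDesc_apply _ _

lemma FM_map_freeMk {V V' : Cᵒᵖ} (h : V ⟶ V') (s : K Y n V.unop) :
    ((FM Y R₀ n).map h).hom (ModuleCat.freeMk s) =
      (ModuleCat.freeMk (K.pre h.unop s) : (ModuleCat.free (R₀.obj V')).obj (K Y n V'.unop)) :=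
  ModuleCat.freeDesc_apply _ _

/-- a morphism from the free presheaf of modules gives a morphism from the free abelian presheaf -/
noncomputable def toAb (χ : FM Y R₀ n ⟶ I₀) : P Y n ⟶ I₀.presheaf where
  app V := AddCommGrpCat.ofHom (FreeAbelianGroup.lift
    (fun s : K Y n V.unop => ((χ.app V).hom (ModuleCat.freeMk s) : I₀.obj V)))
  naturality V V' h := by
    apply AddCommGrpCat.hom_ext
    apply FreeAbelianGroup.lift_ext
    intro s
    show FreeAbelianGroup.lift
        (fun s : K Y n V'.unop => ((χ.app V').hom (ModuleCat.freeMk s) : I₀.obj V'))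
        (FreeAbelianGroup.map (K.pre h.unop) (FreeAbelianGroup.of s)) =
      (I₀.map h).hom (FreeAbelianGroup.lift
        (fun s : K Y n V.unop => ((χ.app V).hom (ModuleCat.freeMk s) : I₀.obj V))
        (FreeAbelianGroup.of s))
    rw [FreeAbelianGroup.map_of_apply, FreeAbelianGroup.lift_apply_of,
      FreeAbelianGroup.lift_apply_of]
    refine Eq.trans ?_ (PresheafOfModules.naturality_apply χ h (ModuleCat.freeMk s))
    exact congrArg (fun t => (χ.app V').hom t) (FM_map_freeMk h s).symm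

lemma toAb_app_of (χ : FM Y R₀ n ⟶ I₀) (V : Cᵒᵖ) (s : K Y n V.unop) :
    ((toAb I₀ χ).app V).hom (FreeAbelianGroup.of s) = (χ.app V).hom (ModuleCat.freeMk s) :=
  FreeAbelianGroup.lift_apply_of _ _

lemma P_hom_ext {A : Cᵒᵖ ⥤ AddCommGrpCat.{w}} {ψ ψ' : P Y n ⟶ A}
    (h : ∀ (V : Cᵒᵖ) (s : K Y n V.unop), (ψ.app V).hom (FreeAbelianGroup.of s) =
      (ψ'.app V).hom (FreeAbelianGroup.of s)) : ψ = ψ' := by
  apply NatTrans.ext
  funext V
  apply AddCommGrpCat.hom_ext
  apply FreeAbelianGroup.lift_ext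
  intro s
  exact h V s

lemma toAb_toMod (ψ : P Y n ⟶ I₀.presheaf) : toAb I₀ (toMod I₀ ψ) = ψ :=
  P_hom_ext (fun V s => (toAb_app_of I₀ _ V s).trans (toMod_app_freeMk I₀ ψ V s))

lemma FM_hom_ext {χ χ' : FM Y R₀ n ⟶ I₀}
    (h : ∀ (V : Cᵒᵖ) (s : K Y n V.unop), (χ.app V).hom (ModuleCat.freeMk s) =
      (χ'.app V).hom (ModuleCat.freeMk s)) : χ = χ' := by
  apply PresheafOfModules.hom_ext
  intro V
  apply ModuleCat.free_hom_ext
  intro s
  exact h V s

lemma toAb_injective {χ χ' : FM Y R₀ n ⟶ I₀} (h : toAb I₀ χ = toAb I₀ χ') : χ = χ' :=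
  FM_hom_ext I₀ (fun V s => by
    rw [← toAb_app_of, ← toAb_app_of, h])

lemma toAb_zero : toAb I₀ (0 : FM Y R₀ n ⟶ I₀) = 0 :=
  P_hom_ext (fun V s => by
    rw [toAb_app_of]
    rfl)

lemma DMs_freeMk (V : Cᵒᵖ) (s : K Y (n + 1) V.unop) :
    (DMs Y R₀ n V).hom (ModuleCat.freeMk s) =
      ∑ k : Fin (n + 2), (-1 : ℤ) ^ (k : ℕ) •
        (ModuleCat.freeMk (K.face k s) : (ModuleCat.free (R₀.obj V)).obj (K Y n V.unop)) := by
  rw [DMs_eq]
  have h1 : ∀ (m : Finset (Fin (n + 2))),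
      (∑ k ∈ m, (-1 : ℤ) ^ (k : ℕ) • fc Y R₀ n V k).hom (ModuleCat.freeMk s) =
      ∑ k ∈ m, (-1 : ℤ) ^ (k : ℕ) •
        (ModuleCat.freeMk (K.face k s) : (ModuleCat.free (R₀.obj V)).obj (K Y n V.unop)) := by
    intro m
    classical
    induction m using Finset.induction_on with
    | empty => simp
    | insert a m ha ih =>
      rw [Finset.sum_insert ha, Finset.sum_insert ha, ModuleCat.hom_add, LinearMap.add_apply, ih,
        ModuleCat.hom_zsmul, LinearMap.smul_apply]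
      congr 2
      exact ModuleCat.free_map_apply _ _
  exact h1 Finset.univ

/-- components with explicit types -/
noncomputable def appS (χ : FM Y R₀ n ⟶ I₀) (V : Cᵒᵖ) :
    (ModuleCat.free (R₀.obj V)).obj (K Y n V.unop) ⟶ I₀.obj V := χ.app V

lemma toAb_DM (χ : FM Y R₀ n ⟶ I₀) : toAb I₀ (DM Y R₀ n ≫ χ) = d Y n ≫ toAb I₀ χ := by
  apply P_hom_ext
  intro V s
  rw [toAb_app_of]
  obtain ⟨g, hg⟩ : ∃ g : FreeAbelianGroup (K Y n V.unop) →+ I₀.obj V,
      g = ((toAb I₀ χ).app V).hom := ⟨_, rfl⟩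
  have hg' : ∀ s' : K Y n V.unop, g (FreeAbelianGroup.of s') =
      (appS I₀ χ V).hom (ModuleCat.freeMk s') := fun s' => by
    rw [hg]
    exact toAb_app_of I₀ χ V s'
  have e : ((d Y n ≫ toAb I₀ χ).app V).hom (FreeAbelianGroup.of s) =
      g (bd Y n V.unop (FreeAbelianGroup.of s)) := by
    rw [hg]
    rfl
  refine Eq.trans ?_ e.symm
  show (appS I₀ χ V).hom ((DMs Y R₀ n V).hom (ModuleCat.freeMk s)) =
    g (bd Y n V.unop (FreeAbelianGroup.of s))
  rw [DMs_freeMk, bd_of, map_sum, map_sum]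
  refine Finset.sum_congr rfl fun k _ => ?_
  rw [map_zsmul, map_zsmul, hg']

end Translate

/-- the extension property of injective presheaves of modules along the boundary -/
theorem ext_mod [Injective I₀] (p : ℕ) (ψ : P Y (p + 1) ⟶ I₀.presheaf)
    (hψ : d Y (p + 1) ≫ ψ = 0) : ∃ ψ' : P Y p ⟶ I₀.presheaf, d Y p ≫ ψ' = ψ := by
  have h1 : DM Y R₀ (p + 1) ≫ toMod I₀ ψ = 0 := by
    apply toAb_injective I₀
    rw [toAb_DM, toAb_toMod, hψ, toAb_zero]
  have h2 : kernel.ι (DM Y R₀ p) ≫ toMod I₀ ψ = 0 := by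
    apply PresheafOfModules.hom_ext
    intro V
    apply ModuleCat.hom_ext
    apply LinearMap.ext
    intro x
    obtain ⟨y, hy⟩ : ∃ y : (ModuleCat.free (R₀.obj V)).obj (K Y (p + 1) V.unop),
        y = ((kernel.ι (DM Y R₀ p)).app V).hom x := ⟨_, rfl⟩
    have hy0 : (DMs Y R₀ p V).hom y = 0 := by
      rw [hy]
      have := congrArg (fun t : kernel (DM Y R₀ p) ⟶ FM Y R₀ p => (t.app V).hom x)
        (kernel.condition (DM Y R₀ p))
      exact this
    have hh' := congrArg (fun t => t.hom y) (homotopyM Y R₀ p V)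
    have hh2 : (DMs Y R₀ (p + 1) V).hom ((HH Y R₀ (p + 1) V).hom y) +
        (HH Y R₀ p V).hom ((DMs Y R₀ p V).hom y) = y := hh'
    rw [hy0, map_zero, add_zero] at hh2
    show (appS I₀ (toMod I₀ ψ) V).hom (((kernel.ι (DM Y R₀ p)).app V).hom x) = 0
    rw [← hy, ← hh2]
    have := congrArg (fun t : FM Y R₀ (p + 2) ⟶ I₀ => (t.app V).hom ((HH Y R₀ (p + 1) V).hom y)) h1
    exact this
  have hS : (ShortComplex.mk (kernel.ι (DM Y R₀ p)) (DM Y R₀ p) (kernel.condition _)).Exact :=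
    ShortComplex.exact_of_f_is_kernel _ (kernelIsKernel _)
  have hχ : DM Y R₀ p ≫ hS.descToInjective (toMod I₀ ψ) h2 = toMod I₀ ψ :=
    hS.comp_descToInjective _ _
  refine ⟨toAb I₀ (hS.descToInjective (toMod I₀ ψ) h2), ?_⟩
  rw [← toAb_DM, hχ, toAb_toMod]

/-- Čech cocycles of an injective presheaf of modules in positive degree are coboundaries -/
theorem exists_primitive_mod [Injective I₀] (p : ℕ)
    (α : Coch (QrI I₀.presheaf) Y (p + 1)) (hα : Dd (QrI I₀.presheaf) Y (p + 1) α = 0) :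
    ∃ β : Coch (QrI I₀.presheaf) Y p, Dd (QrI I₀.presheaf) Y p β = α := by
  have h1 : d Y (p + 1) ≫ φ Y α = 0 := by
    rw [← φ_coch Y (d Y (p + 1) ≫ φ Y α), coch_d, coch_φ, hα, φ_zero]
  obtain ⟨ψ', hψ'⟩ := ext_mod I₀ p (φ Y α) h1
  refine ⟨coch Y ψ', ?_⟩
  rw [← coch_d, hψ', coch_φ]

/-- Čech cohomology of an injective presheaf of modules vanishes in positive degrees -/
theorem isZero_cech_of_injective_mod [Injective I₀] (p : ℕ) :
    IsZero (((cechComplexFunctor Y).obj ((Over.forget U).op ⋙ I₀.presheaf)).homology (p + 1)) := by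
  rw [isZero_homology_succ_iff]
  exact exists_primitive_mod I₀ p

end Groth.Agent.Lib.CechSiteMod
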