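import Mathlib
import Groth.Prelude.Def_Adeq2
import Groth.Agent.Lib.AdeqShW_helper4
import Groth.Agent.Lib.AdeqShL_helper4
import Groth.Agent.Lib.AdeqShS_helper4

/-!
# Sheaf-level adequate modules, part X (helper4): Cartan's criterion for resolutions by modules

* `isZero_cech_injective_mod`: injective sheaves of modules are Čech acyclic.
* `cartan_exact`: Cartan's induction along an injective resolution, for a class of sheaves.
* `FlCech`, `parasitic_exact`: over flat objects the injective resolution of a parasitic module is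
  exact.
* `subsingleton_homology_of_local`, `main8789`.
-/

set_option autoImplicit false
set_option linter.unusedSectionVars false
set_option linter.style.haveILetI false
universe u

open CategoryTheory Limits Adeq AlgebraicGeometry Opposite
open Groth.Agent.Lib.BigCartanH4

namespace Groth.Agent.Lib.AdeqShH4

noncomputable section

attribute [local instance] hasFiniteProducts_over

section InjVal

variable (K : Precoverage Scheme.{u}) [BigSite.OSh K] {T : Scheme.{u}}

/-- the underlying presheaf of modules of an injective sheaf of modules is injective -/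
theorem injective_val (I : BigSite.Mod K T) [Injective I] :
    Injective ((PresheafOfModules.restrictScalars (𝟙 (BigSite.ORing K T).obj)).obj I.val) :=
  Injective.injective_of_adjoint
    (PresheafOfModules.sheafificationAdjunction (𝟙 (BigSite.ORing K T).obj)) I

/-- injective sheaves of modules are Čech acyclic for every family -/
theorem isZero_cech_injective_mod (I : BigSite.Mod K T) [Injective I] {U : Over T}
    {ι : Type (u + 1)} (Y : ι → Over U) (p : ℕ) :
    IsZero (((cechComplexFunctor Y).obj ((Over.forget U).op ⋙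
      ((BigSite.toAbMod K T).obj I).obj)).homology (p + 1)) := by
  haveI := injective_val K I
  exact Groth.Agent.Lib.CechSiteMod.isZero_cech_of_injective_mod (Y := Y)
    ((PresheafOfModules.restrictScalars (𝟙 (BigSite.ORing K T).obj)).obj I.val) p

end InjVal

section Abstract

variable {𝒜 : Type*} [Category 𝒜] [Abelian 𝒜]

/-- from an exact sequence `X₀ ⟶ X₁ ⟶ X₂` and a kernel `W` of the first map, the short exact
sequence `0 ⟶ W ⟶ X₀ ⟶ ker (X₁ ⟶ X₂) ⟶ 0` -/
theorem shortExact_of_kernel {X₀ X₁ X₂ W : 𝒜} (d₀ : X₀ ⟶ X₁) (d₁ : X₁ ⟶ X₂) (hd : d₀ ≫ d₁ = 0)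
    (hex : (ShortComplex.mk d₀ d₁ hd).Exact) (k : W ⟶ X₀) (w : k ≫ d₀ = 0)
    (hk : IsLimit (KernelFork.ofι k w)) :
    (ShortComplex.mk k (kernel.lift d₁ d₀ hd) (by
      rw [← cancel_mono (kernel.ι d₁), Category.assoc, kernel.lift_ι, w, zero_comp])).ShortExact := by
  have hm : Mono k := mono_of_isLimit_fork hk
  have he : Epi (kernel.lift d₁ d₀ hd) := by
    have := (ShortComplex.exact_iff_epi_kernel_lift (ShortComplex.mk d₀ d₁ hd)).1 hex
    exact this
  have hz : k ≫ kernel.lift d₁ d₀ hd = 0 := by
    rw [← cancel_mono (kernel.ι d₁), Category.assoc, kernel.lift_ι, w, zero_comp]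
  have hl : IsLimit (KernelFork.ofι k hz) :=
    isKernelOfComp (kernel.ι d₁) d₀ hk hz (kernel.lift_ι _ _ _)
  exact ShortComplex.ShortExact.mk' (ShortComplex.exact_of_f_is_kernel _ hl) hm he

end Abstract

section Cartan

variable (K : Precoverage Scheme.{u}) [BigSite.OSh K] {T : Scheme.{u}}
  (𝒦 : BigSite.Ab K T → Prop) (𝓑 : Over T → Prop)
  (hsurj : ∀ (Sx : ShortComplex (BigSite.Ab K T)), Sx.ShortExact → 𝒦 Sx.X₁ → ∀ U, 𝓑 U →
    Function.Surjective (Sx.g.hom.app (op U)).hom)
  (hquot : ∀ (Sx : ShortComplex (BigSite.Ab K T)), Sx.ShortExact → 𝒦 Sx.X₁ → 𝒦 Sx.X₂ → 𝒦 Sx.X₃)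
  (X : ℕ → BigSite.Mod K T) (d : ∀ n, X n ⟶ X (n + 1)) (hd : ∀ n, d n ≫ d (n + 1) = 0)
  (hex : ∀ n, (ShortComplex.mk (d n) (d (n + 1)) (hd n)).Exact)
  (hX : ∀ n, 𝒦 ((BigSite.toAbMod K T).obj (X n)))
  {W : BigSite.Mod K T} (k : W ⟶ X 0) (w : k ≫ d 0 = 0) (hk : IsLimit (KernelFork.ofι k w))
  (hW : 𝒦 ((BigSite.toAbMod K T).obj W))

include hsurj hquot hex hX hk hW in
/-- Cartan's induction along a resolution by members of the class -/
theorem cartan_cycles (n : ℕ) : 𝒦 ((BigSite.toAbMod K T).obj (kernel (d (n + 1)))) ∧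
    ∀ U, 𝓑 U → Function.Surjective ((kernel.lift (d (n + 1)) (d n) (hd n)).val.app (op U)) := by
  induction n with
  | zero =>
    have hS := shortExact_of_kernel (d 0) (d 1) (hd 0) (hex 0) k w hk
    have hS' := shortExact_toAbMod K _ hS
    exact ⟨hquot _ hS' hW (hX 0), fun U hU => hsurj _ hS' hW U hU⟩
  | succ n ih =>
    have hS := shortExact_of_kernel (d (n + 1)) (d (n + 2)) (hd (n + 1)) (hex (n + 1))
      (kernel.ι (d (n + 1))) (kernel.condition _) (kernelIsKernel _)
    have hS' := shortExact_toAbMod K _ hS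
    exact ⟨hquot _ hS' ih.1 (hX (n + 1)), fun U hU => hsurj _ hS' ih.1 U hU⟩

include hsurj hquot hex hX hk hW in
/-- Cartan's criterion for a resolution: over objects of the class, cocycles are coboundaries -/
theorem cartan_exact (n : ℕ) (U : Over T) (hU : 𝓑 U) (z : (X (n + 1)).val.obj (op U))
    (hz : (d (n + 1)).val.app (op U) z = 0) :
    ∃ y : (X n).val.obj (op U), (d n).val.app (op U) y = z := by
  haveI : (SheafOfModules.evaluation (BigSite.ORing K T) (op U)).PreservesZeroMorphisms :=
    ⟨fun _ _ => rfl⟩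
  have hS : (ShortComplex.mk (kernel.ι (d (n + 1))) (d (n + 1)) (kernel.condition _)).Exact :=
    ShortComplex.exact_of_f_is_kernel _ (kernelIsKernel _)
  have hS' := hS.map_of_mono_of_preservesKernel
    (SheafOfModules.evaluation (BigSite.ORing K T) (op U)) inferInstance inferInstance
  obtain ⟨y, hy⟩ := (ShortComplex.moduleCat_exact_iff _).1 hS' z hz
  obtain ⟨x, hx⟩ := (cartan_cycles K 𝒦 𝓑 hsurj hquot X d hd hex hX k w hk hW n).2 U hU y
  refine ⟨x, ?_⟩
  have h1 := congrArg (fun t : X n ⟶ X (n + 1) => t.val.app (op U) x)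
    (kernel.lift_ι (d (n + 1)) (d n) (hd n))
  refine h1.symm.trans ?_
  show (kernel.ι (d (n + 1))).val.app (op U)
    ((kernel.lift (d (n + 1)) (d n) (hd n)).val.app (op U) x) = z
  rw [hx]
  exact hy

end Cartan

section FlatClass

open Groth.Agent.Lib.CechSite Groth.Agent.Lib.GaCechH8 Groth.Agent.Lib.EtCartanH8

variable {S : Scheme.{u}}

lemma prop_prod (P : MorphismProperty Scheme.{u}) [P.IsStableUnderBaseChange]
    [P.IsStableUnderComposition] (U : Over S) (W V : Over U) (hW : P W.hom.left)
    (hV : P V.hom.left) : P (W ⨯ V).hom.left := by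
  have h1 : (W ⨯ V).hom.left = (prod.fst (X := W) (Y := V)).left.left ≫ W.hom.left := by
    rw [← Over.comp_left, Over.w]
  rw [h1]
  exact P.comp_mem _ _ (P.of_isPullback (isPullback_prod U W V).flip hV) hW

lemma prop_of_iso (P : MorphismProperty Scheme.{u}) [P.RespectsIso] (U : Over S) {W W' : Over U}
    (e : W ≅ W') (hW : P W.hom.left) : P W'.hom.left := by
  haveI : IsIso e.inv.left.left := inferInstanceAs
    (IsIso ((Over.forget S).map ((Over.forget U).map e.inv)))
  have h1 : W'.hom.left = e.inv.left.left ≫ W.hom.left := by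
    rw [← Over.comp_left, Over.w]
  rw [h1]
  exact (P.cancel_left_of_respectsIso _ _).2 hW

lemma prop_pi (P : MorphismProperty Scheme.{u}) [P.IsStableUnderBaseChange]
    [P.IsStableUnderComposition] (U : Over S) :
    ∀ (n : ℕ) (f : Fin (n + 1) → Over U), (∀ k, P (f k).hom.left) → P (∏ᶜ f).hom.left
  | 0, f, hf => by
    haveI : Unique (Fin (0 + 1)) := inferInstanceAs (Unique (Fin 1))
    exact prop_of_iso P U (productUniqueIso f).symm (hf _)
  | n + 1, f, hf => by
    have h1 := prop_pi P U n (fun i : Fin (n + 1) => f i.succ) (fun k => hf k.succ)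
    have h2 := prop_prod P U (f 0) (∏ᶜ fun i : Fin (n + 1) => f i.succ) (hf 0) h1
    let e : (f 0 ⨯ ∏ᶜ fun i : Fin (n + 1) => f i.succ) ≅ ∏ᶜ f :=
      IsLimit.conePointUniqueUpToIso
        (extendFanIsLimit f (limit.isLimit _)
          (prodIsProd (f 0) (∏ᶜ fun i : Fin (n + 1) => f i.succ)))
        (limit.isLimit _)
    exact prop_of_iso P U e h2

/-- Čech acyclicity over flat objects, for families of flat morphisms -/
def FlCech (F : AbF S) : Prop :=
  ∀ (U : Over S), Flat U.hom → ∀ (ι : Type (u + 1)) (Y : ι → Over U),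
    (∀ i, Flat (Y i).hom.left) → ∀ p : ℕ,
      IsZero (((cechComplexFunctor Y).obj ((Over.forget U).op ⋙ F.obj)).homology (p + 1))

lemma flat_T {U : Over S} (hU : Flat U.hom) {ι : Type (u + 1)} (Y : ι → Over U)
    (hY : ∀ i, Flat (Y i).hom.left) {n : ℕ} (σ : Fin (n + 1) → ι) : Flat (T Y σ).left.hom := by
  have h1 : (T Y σ).left.hom = (T Y σ).hom.left ≫ U.hom := (Over.w (T Y σ).hom).symm
  rw [h1]
  have h2 : Flat (T Y σ).hom.left := prop_pi @Flat U n (Y ∘ σ) (fun k => hY (σ k))
  infer_instance

variable (Sx : ShortComplex (AbF S)) (hS : Sx.ShortExact)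

include hS in
theorem flat_sections_surjective (h1 : FlCech Sx.X₁) (U : Over S) (hU : Flat U.hom) :
    Function.Surjective (Sx.g.hom.app (op U)).hom := by
  intro z
  haveI := hS.epi_g
  have hR := imageSieve_mem_of_epi Sx.g U z
  have hR' := (mem_Jf_iff _).1 hR
  choose V f hRf hfl hfp hz using hR'
  let Y : ULift.{u + 1} U.left → Over U := fun i => Over.mk (f i.down)
  have hY : Sieve.ofArrows (fun i => (Y i).left) (fun i => (Y i).hom) ∈ Jf S U := by
    rw [mem_Jf_iff]
    intro x
    exact ⟨V x, f x, Sieve.ofArrows_mk _ _ (ULift.up x), hfl x, hfp x, hz x⟩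
  choose t ht using hRf
  exact lift_of_cechH1 Y Sx hS hY (h1 U hU _ Y (fun i => hfl i.down) 0) z
    (fun i => t i.down) (fun i => ht i.down)

include hS in
theorem flCech_X₃ (h1 : FlCech Sx.X₁) (h2 : FlCech Sx.X₂) : FlCech Sx.X₃ := by
  intro U hU ι Y hY p
  refine Groth.Agent.Lib.CechSiteSES.isZero_cechH_X₃ Y Sx hS p ?_ (h2 U hU ι Y hY p)
    (h1 U hU ι Y hY (p + 1))
  intro σ
  exact flat_sections_surjective Sx hS h1 (T Y σ).left (flat_T hU Y hY σ)

omit hS in
theorem flCech_of_parasitic (M : BigSite.Mod Scheme.fppfPrecoverage S)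
    (hP : Adeq.parasitic Scheme.fppfPrecoverage S M) :
    FlCech ((BigSite.toAbMod Scheme.fppfPrecoverage S).obj M) := by
  intro U hU ι Y hY p
  rw [isZero_homology_succ_iff]
  intro α hα
  refine ⟨0, ?_⟩
  funext σ
  haveI : Subsingleton (M.val.obj (op (T Y σ).left)) := hP _ (flat_T hU Y hY σ)
  exact Subsingleton.elim (α := M.val.obj (op (T Y σ).left)) _ _

omit hS in
theorem flCech_of_injective (I : BigSite.Mod Scheme.fppfPrecoverage S) [Injective I] :
    FlCech ((BigSite.toAbMod Scheme.fppfPrecoverage S).obj I) :=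
  fun _ _ _ Y _ p => isZero_cech_injective_mod Scheme.fppfPrecoverage I Y p

end FlatClass

section KV

variable {S : Scheme.{u}}

/-- the key vanishing: over flat objects, an injective resolution of a parasitic module is exact
in positive degrees -/
theorem parasitic_exact (M : BigSite.Mod Scheme.fppfPrecoverage S)
    (hP : Adeq.parasitic Scheme.fppfPrecoverage S M) (I : InjectiveResolution M) (n : ℕ)
    (U : Over S) (hU : Flat U.hom) (z : (I.cocomplex.X (n + 1)).val.obj (op U))
    (hz : (I.cocomplex.d (n + 1) (n + 2)).val.app (op U) z = 0) :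
    ∃ y : (I.cocomplex.X n).val.obj (op U), (I.cocomplex.d n (n + 1)).val.app (op U) y = z :=
  cartan_exact Scheme.fppfPrecoverage FlCech (fun U => Flat U.hom)
    (fun Sx hS h1 U hU => flat_sections_surjective Sx hS h1 U hU)
    (fun Sx hS h1 h2 => flCech_X₃ Sx hS h1 h2)
    (fun n => I.cocomplex.X n) (fun n => I.cocomplex.d n (n + 1))
    (fun n => I.cocomplex.d_comp_d n (n + 1) (n + 2)) (fun n => I.exact_succ n)
    (fun n => flCech_of_injective (I.cocomplex.X n))
    (I.ι.f 0) I.ι_f_zero_comp_complex_d I.isLimitKernelFork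
    (flCech_of_parasitic M hP) n U hU z hz

/-- in degree zero: cocycles over a flat object vanish -/
theorem parasitic_exact_zero (M : BigSite.Mod Scheme.fppfPrecoverage S)
    (hP : Adeq.parasitic Scheme.fppfPrecoverage S M) (I : InjectiveResolution M)
    (U : Over S) (hU : Flat U.hom) (z : (I.cocomplex.X 0).val.obj (op U))
    (hz : (I.cocomplex.d 0 1).val.app (op U) z = 0) : z = 0 := by
  haveI : (SheafOfModules.evaluation (BigSite.ORing Scheme.fppfPrecoverage S)
      (op U)).PreservesZeroMorphisms := ⟨fun _ _ => rfl⟩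
  have hS : (ShortComplex.mk (I.ι.f 0) (I.cocomplex.d 0 1) I.ι_f_zero_comp_complex_d).Exact :=
    ShortComplex.exact_of_f_is_kernel _ I.isLimitKernelFork
  have hS' := hS.map_of_mono_of_preservesKernel
    (SheafOfModules.evaluation (BigSite.ORing Scheme.fppfPrecoverage S) (op U))
    inferInstance inferInstance
  obtain ⟨y, hy⟩ := (ShortComplex.moduleCat_exact_iff _).1 hS' z hz
  haveI : Subsingleton (M.val.obj (op U)) := hP U hU
  have hy0 : y = 0 := Subsingleton.elim (α := M.val.obj (op U)) _ _
  rw [← hy, hy0]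
  exact map_zero _

end KV

section LocZero

variable {S : Scheme.{u}}

/-- if, flat locally, cocycles are coboundaries then the homology sheaf has no sections -/
theorem subsingleton_homology_of_local (C : ShortComplex (BigSite.Mod Scheme.fppfPrecoverage S))
    (U : Over S)
    (h : ∀ (V : Over S) (g : V ⟶ U), Flat g.left → ∀ z : C.X₂.val.obj (op V),
      C.g.val.app (op V) z = 0 → ∃ y : C.X₁.val.obj (op V), C.f.val.app (op V) y = z) :
    Subsingleton (C.homology.val.obj (op U)) := by
  have key : ∀ s : C.homology.val.obj (op U), s = 0 := by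
    intro s
    haveI : Epi ((BigSite.toAbMod Scheme.fppfPrecoverage S).map C.homologyπ) :=
      epi_toAbMod Scheme.fppfPrecoverage C.homologyπ
    have hR := Groth.Agent.Lib.CechSite.imageSieve_mem_of_epi
      ((BigSite.toAbMod Scheme.fppfPrecoverage S).map C.homologyπ) U s
    have hR' := (mem_Jf_iff _).1 hR
    apply sep_eq C.homology s 0
    intro x
    obtain ⟨V, g, ⟨t, ht⟩, hfl, hfp, hx⟩ := hR' x
    refine ⟨V, g, ?_, hfl, hfp, hx⟩
    rw [pm_zero]
    -- `t` is a cycle over `V` mapping to the restriction of `s`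
    have ht' : C.homologyπ.val.app (op V) t = pm C.homology.val g s := ht
    rw [← ht']
    have hz : C.g.val.app (op V) (C.iCycles.val.app (op V) t) = 0 :=
      congrArg (fun φ : C.cycles ⟶ C.X₃ => φ.val.app (op V) t) C.iCycles_g
    obtain ⟨y, hy⟩ := h V g hfl _ hz
    haveI : (SheafOfModules.evaluation (BigSite.ORing Scheme.fppfPrecoverage S)
        (op V)).PreservesZeroMorphisms := ⟨fun _ _ => rfl⟩
    have hm : Mono ((SheafOfModules.evaluation (BigSite.ORing Scheme.fppfPrecoverage S)
        (op V)).map C.iCycles) := inferInstance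
    have hinj := (ModuleCat.mono_iff_injective _).1 hm
    have h1 : C.iCycles.val.app (op V) (C.toCycles.val.app (op V) y) = C.f.val.app (op V) y :=
      congrArg (fun φ : C.X₁ ⟶ C.X₂ => φ.val.app (op V) y) C.toCycles_i
    have h2 : C.toCycles.val.app (op V) y = t := hinj (h1.trans hy)
    rw [← h2]
    exact congrArg (fun φ : C.X₁ ⟶ C.homology => φ.val.app (op V) y) C.toCycles_comp_homologyπ
  exact ⟨fun a b => (key a).trans (key b).symm⟩

end LocZero

section Main8789

variable {S T : Scheme.{u}} (f : T ⟶ S)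

lemma flat_pullback_obj (V : Over S) (hV : Flat V.hom) : Flat ((Over.pullback f).obj V).hom := by
  change Flat (pullback.snd V.hom f)
  infer_instance

/-- S8789 -/
theorem main8789 [HasInjectiveResolutions (BigSite.Mod Scheme.fppfPrecoverage T)]
    (M : BigSite.Mod Scheme.fppfPrecoverage T)
    (hP : Adeq.parasitic Scheme.fppfPrecoverage T M) (i : ℕ) :
    Adeq.parasitic Scheme.fppfPrecoverage S
      ((BigSite.RpushMod Scheme.fppfPrecoverage f i).obj M) := by
  intro U hU
  let I : InjectiveResolution M := (HasInjectiveResolution.out (Z := M)).some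
  let C := ((BigSite.pushMod Scheme.fppfPrecoverage f).mapHomologicalComplex
    (ComplexShape.up ℕ)).obj I.cocomplex
  have e : (BigSite.RpushMod Scheme.fppfPrecoverage f i).obj M ≅ C.homology i :=
    I.isoRightDerivedObj (BigSite.pushMod Scheme.fppfPrecoverage f) i
  refine Adeq.subsingleton_sectMod_of_iso Scheme.fppfPrecoverage S e.symm U ?_
  have hflat : ∀ (V : Over S) (g : V ⟶ U), Flat g.left →
      Flat ((Over.pullback f).obj V).hom := by
    intro V g hg
    apply flat_pullback_obj
    rw [← Over.w g]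
    infer_instance
  cases i with
  | zero =>
    have e2 : C.homology 0 ≅ (C.sc' 0 0 1).homology :=
      ShortComplex.homologyMapIso (C.isoSc' 0 0 1 (by simp) (by simp))
    refine Adeq.subsingleton_sectMod_of_iso Scheme.fppfPrecoverage S e2.symm U ?_
    apply subsingleton_homology_of_local
    intro V g hg z hz
    refine ⟨0, ?_⟩
    rw [map_zero]
    exact (parasitic_exact_zero M hP I _ (hflat V g hg) z hz).symm
  | succ n =>
    have e2 : C.homology (n + 1) ≅ (C.sc' n (n + 1) (n + 2)).homology :=
      ShortComplex.homologyMapIso (C.isoSc' n (n + 1) (n + 2) (by simp) (by simp))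
    refine Adeq.subsingleton_sectMod_of_iso Scheme.fppfPrecoverage S e2.symm U ?_
    apply subsingleton_homology_of_local
    intro V g hg z hz
    exact parasitic_exact M hP I n _ (hflat V g hg) z hz

end Main8789

end

end Groth.Agent.Lib.AdeqShH4
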