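import Mathlib
import Groth.Prelude.Def_Adeq2
import Groth.Agent.Lib.AdeqShX_helper4
import Groth.Agent.Lib.AdeqShV_helper4

/-!
# Sheaf-level adequate modules, part Y (helper4): sections over base changes of opens

* `CechSiteMod.surjective_map_of_mono`, `surjective_res_of_mono`: injective (pre)sheaves of modules
  are flasque for monomorphisms.
* `glue_two`: the sheaf condition for a cover by two opens.
* `GW`, `OB`, `gwOut`, `resW`: the module-valued functor `B ↦ N(V ×_R B)` attached to a scheme `V`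
  with maps to `T` and `Spec R`, and its restriction maps.
* `isPullback_jBl`, `isPullback_mv`: base change of open covers.
-/

set_option autoImplicit false
set_option linter.unusedSectionVars false
set_option linter.style.haveILetI false
universe w v u₁ u

open CategoryTheory Limits TensorProduct Adeq AlgebraicGeometry Opposite

namespace Groth.Agent.Lib.CechSiteMod

section Flasque

variable {C : Type u₁} [Category.{v} C] (R₀ : Cᵒᵖ ⥤ RingCat.{max w v})
  (I₀ : PresheafOfModules.{max w v} R₀)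

/-- the representable presheaf, lifted -/
abbrev yU (A : C) : Cᵒᵖ ⥤ Type (max w v) := yoneda.obj A ⋙ uliftFunctor.{w, v}

/-- the morphism of lifted representable presheaves -/
abbrev yUmap {A B : C} (j : A ⟶ B) : yU.{w} A ⟶ yU.{w} B :=
  Functor.whiskerRight (yoneda.map j) uliftFunctor.{w, v}

/-- the morphism from the free presheaf of modules on a representable presheaf attached to a
section -/
noncomputable def ofSection {A : C} (x : I₀.obj (op A)) :
    PresheafOfModules.freeObj (R := R₀) (yU.{w} A) ⟶ I₀ :=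
  PresheafOfModules.freeObjDesc
    { app := fun V => ↾(fun g : ULift.{w} (V.unop ⟶ A) => (I₀.map g.down.op).hom x)
      naturality := fun V V' h => by
        apply TypeCat.homEquiv.injective
        funext g
        show (I₀.map (h.unop ≫ g.down).op).hom x = (I₀.map h).hom ((I₀.map g.down.op).hom x)
        rw [op_comp, I₀.map_comp]
        rfl }

lemma ofSection_app {A : C} (x : I₀.obj (op A)) (V : Cᵒᵖ) (g : V.unop ⟶ A) :
    ((ofSection R₀ I₀ x).app V).hom (ModuleCat.freeMk (ULift.up g)) = (I₀.map g.op).hom x :=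
  ModuleCat.freeDesc_apply _ _

/-- injective presheaves of modules are flasque for monomorphisms -/
theorem surjective_map_of_mono [Injective I₀] {A B : C} (j : A ⟶ B) [Mono j]
    (x : I₀.obj (op A)) : ∃ y : I₀.obj (op B), (I₀.map j.op).hom y = x := by
  obtain ⟨m, hm⟩ : ∃ m : PresheafOfModules.freeObj (R := R₀) (yU.{w} A) ⟶
      PresheafOfModules.freeObj (R := R₀) (yU.{w} B),
      m = (PresheafOfModules.free R₀).map (yUmap.{w} j) := ⟨_, rfl⟩
  haveI : Mono m := by
    rw [hm]
    apply PresheafOfModules.mono_of_injective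
    intro V
    refine Finsupp.mapDomain_injective ?_
    intro g g' h
    apply ULift.ext
    have h' : g.down ≫ j = g'.down ≫ j := congrArg ULift.down h
    exact (cancel_mono j).1 h'
  let ψ := Injective.factorThru (ofSection R₀ I₀ x) m
  have hψ : m ≫ ψ = ofSection R₀ I₀ x := Injective.comp_factorThru _ _
  rw [hm] at hψ
  refine ⟨(ψ.app (op B)).hom (ModuleCat.freeMk (ULift.up (𝟙 B))), ?_⟩
  have h1 := PresheafOfModules.naturality_apply ψ j.op (ModuleCat.freeMk (ULift.up (𝟙 B)))
  refine h1.symm.trans ?_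
  have h2 : ((PresheafOfModules.freeObj (R := R₀) (yU.{w} B)).map j.op).hom
      (ModuleCat.freeMk (ULift.up (𝟙 B))) =
      (((PresheafOfModules.free R₀).map (yUmap.{w} j)).app (op A)).hom
        (ModuleCat.freeMk (ULift.up (𝟙 A))) := by
    refine (ModuleCat.freeDesc_apply _ _).trans ?_
    refine Eq.trans ?_ (ModuleCat.free_map_apply _ _).symm
    show ModuleCat.freeMk (ULift.up (j ≫ 𝟙 B)) = ModuleCat.freeMk (ULift.up (𝟙 A ≫ j))
    rw [Category.comp_id, Category.id_comp]
  have h3 := congrArg (fun t => (t.app (op A)).hom (ModuleCat.freeMk (ULift.up (𝟙 A)))) hψ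
  have h4 := ofSection_app R₀ I₀ x (op A) (𝟙 A)
  rw [CategoryTheory.op_id, I₀.map_id] at h4
  refine Eq.trans ?_ (h3.trans h4)
  exact congrArg (fun t => (ψ.app (op A)).hom t) h2

end Flasque

end Groth.Agent.Lib.CechSiteMod

namespace Groth.Agent.Lib.AdeqShH4

open Groth.Agent.Lib.AdeqH3 Groth.Agent.Lib.BigCartanH4

noncomputable section

section FlasqueMod

variable (K : Precoverage Scheme.{u}) [BigSite.OSh K] {T : Scheme.{u}}

/-- injective sheaves of modules on the big site are flasque for monomorphisms -/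
theorem surjective_res_of_mono (I : BigSite.Mod K T) [Injective I] {A B : Over T} (j : A ⟶ B)
    [Mono j] (x : I.val.obj (op A)) : ∃ y : I.val.obj (op B), pm I.val j y = x := by
  haveI := injective_val K I
  exact Groth.Agent.Lib.CechSiteMod.surjective_map_of_mono.{u + 1, u} (BigSite.ORing K T).obj
    ((PresheafOfModules.restrictScalars (𝟙 (BigSite.ORing K T).obj)).obj I.val) j x

end FlasqueMod

section GlueTwo

variable {T : Scheme.{u}} (N : BigSite.Mod Scheme.fppfPrecoverage T)
  {A A₁ A₂ A₁₂ : Over T} (i₁ : A₁ ⟶ A) (i₂ : A₂ ⟶ A) (q₁ : A₁₂ ⟶ A₁) (q₂ : A₁₂ ⟶ A₂)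
  (hpb : IsPullback q₁.left q₂.left i₁.left i₂.left)
  [IsOpenImmersion i₁.left] [IsOpenImmersion i₂.left]
  (hcov : ∀ x : A.left, x ∈ Set.range i₁.left ∨ x ∈ Set.range i₂.left)

include hpb hcov in
/-- the sheaf condition for a cover by two opens -/
theorem glue_two :
    (∀ x : N.val.obj (op A), pm N.val i₁ x = 0 → pm N.val i₂ x = 0 → x = 0) ∧
    (∀ (x₁ : N.val.obj (op A₁)) (x₂ : N.val.obj (op A₂)), pm N.val q₁ x₁ = pm N.val q₂ x₂ →
      ∃ x : N.val.obj (op A), pm N.val i₁ x = x₁ ∧ pm N.val i₂ x = x₂) := by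
  let Xj : Bool → Over T := fun b => match b with | true => A₁ | false => A₂
  let π : ∀ b, Xj b ⟶ A := fun b => match b with | true => i₁ | false => i₂
  let Xjk : Bool → Bool → Over T := fun b c => match b, c with
    | true, true => A₁ | true, false => A₁₂ | false, true => A₁₂ | false, false => A₂
  let pr1 : ∀ b c, Xjk b c ⟶ Xj b := fun b c => match b, c with
    | true, true => 𝟙 A₁ | true, false => q₁ | false, true => q₂ | false, false => 𝟙 A₂
  let pr2 : ∀ b c, Xjk b c ⟶ Xj c := fun b c => match b, c with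
    | true, true => 𝟙 A₁ | true, false => q₂ | false, true => q₁ | false, false => 𝟙 A₂
  have hpb' : ∀ b c, IsPullback (pr1 b c).left (pr2 b c).left (π b).left (π c).left := by
    intro b c
    match b, c with
    | true, true => exact IsKernelPair.id_of_mono i₁.left
    | true, false => exact hpb
    | false, true => exact hpb.flip
    | false, false => exact IsKernelPair.id_of_mono i₂.left
  have hc : Sieve.ofArrows Xj π ∈ Jf T A := by
    rw [mem_Jf_iff]
    intro x
    rcases hcov x with h | h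
    · exact ⟨A₁, i₁, Sieve.ofArrows_mk Xj π true, inferInstance, inferInstance, h⟩
    · exact ⟨A₂, i₂, Sieve.ofArrows_mk Xj π false, inferInstance, inferInstance, h⟩
  obtain ⟨h1, h2⟩ := sheaf_sep_glue Scheme.fppfPrecoverage N Xj π Xjk pr1 pr2 hpb' hc
  constructor
  · intro x hx₁ hx₂
    apply h1 x
    intro b
    match b with
    | true => exact hx₁
    | false => exact hx₂
  · intro x₁ x₂ hx
    let y : ∀ b, N.val.obj (op (Xj b)) := fun b => match b with | true => x₁ | false => x₂
    obtain ⟨x, hx'⟩ := h2 y (by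
      intro b c
      match b, c with
      | true, true => rfl
      | true, false => exact hx
      | false, true => exact hx.symm
      | false, false => rfl)
    exact ⟨x, hx' true, hx' false⟩

end GlueTwo

section GW

instance pullMod_additive (K : Precoverage Scheme.{u}) [BigSite.OSh K] {T V : Scheme.{u}}
    (g : V ⟶ T) : (BigSite.pullMod K g).Additive :=
  (BigSite.modAdj K g).left_adjoint_additive

variable {T : Scheme.{u}} {R : CommRingCat.{u}} (V : Scheme.{u}) (g : V ⟶ T) (c : V ⟶ Spec R)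

/-- sections over the base changes of `V`, as a module-valued functor -/
def GW : BigSite.Mod Scheme.fppfPrecoverage T ⥤ MVF R :=
  BigSite.pullMod Scheme.fppfPrecoverage g ⋙ BigSite.pushMod Scheme.fppfPrecoverage c ⋙
    toMVF Scheme.fppfPrecoverage (𝟙 (Spec R))

instance : (GW V g c).Additive := by
  unfold GW
  infer_instance

/-- the base change of `V` to an `R`-algebra, as an object over `T` -/
def OB (B : Alg R) : Over T :=
  (Over.map g).obj ((Over.pullback c).obj ((specOver (𝟙 (Spec R))).obj (op B)))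

lemma OB_left (B : Alg R) : (OB V g c B).left = pullback (uE (𝟙 (Spec R)) B) c := rfl

lemma OB_hom (B : Alg R) : (OB V g c B).hom = pullback.snd (uE (𝟙 (Spec R)) B) c ≫ g := rfl

/-- functoriality of the base change in the algebra -/
def OBmap {B B₂ : Alg R} (h : B ⟶ B₂) : OB V g c B₂ ⟶ OB V g c B :=
  (Over.map g).map ((Over.pullback c).map ((specOver (𝟙 (Spec R))).map h.op))

lemma OBmap_left {B B₂ : Alg R} (h : B ⟶ B₂) :
    (OBmap V g c h).left = ypE c (𝟙 (Spec R)) h := rfl

variable (N : BigSite.Mod Scheme.fppfPrecoverage T)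

/-- sections of `GW`, unfolded -/
def gwOut (B : Alg R) (x : ((GW V g c).obj N).obj (pt B)) : N.val.obj (op (OB V g c B)) :=
  plOut Scheme.fppfPrecoverage g N _
    (psOut Scheme.fppfPrecoverage c _ _ (fOut Scheme.fppfPrecoverage (𝟙 (Spec R)) _ B x))

/-- sections of `GW`, folded -/
def gwIn (B : Alg R) (x : N.val.obj (op (OB V g c B))) : ((GW V g c).obj N).obj (pt B) := x

lemma gwOut_gwIn (B : Alg R) (x : N.val.obj (op (OB V g c B))) :
    gwOut V g c N B (gwIn V g c N B x) = x := rfl

lemma gwIn_gwOut (B : Alg R) (x : ((GW V g c).obj N).obj (pt B)) :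
    gwIn V g c N B (gwOut V g c N B x) = x := rfl

lemma gwOut_injective (B : Alg R) : Function.Injective (gwOut V g c N B) := fun _ _ h => h

lemma gwOut_add (B : Alg R) (x y : ((GW V g c).obj N).obj (pt B)) :
    gwOut V g c N B (x + y) = gwOut V g c N B x + gwOut V g c N B y := rfl

lemma gwOut_zero (B : Alg R) : gwOut V g c N B 0 = 0 := rfl

/-- the function on the base change attached to an element of the algebra -/
def rhoB (B : Alg R) (b : B) : (BigSite.ORing Scheme.fppfPrecoverage T).obj.obj (op (OB V g c B)) :=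
  oOut Scheme.fppfPrecoverage g _
    (phiO Scheme.fppfPrecoverage c _ (toSect Scheme.fppfPrecoverage (𝟙 (Spec R)) B b))

lemma gwOut_smul (B : Alg R) (b : B) (x : ((GW V g c).obj N).obj (pt B)) :
    gwOut V g c N B (b • x) = rhoB V g c B b • gwOut V g c N B x := rfl

lemma gwOut_mp {B B₂ : Alg R} (h : B ⟶ B₂) (x : ((GW V g c).obj N).obj (pt B)) :
    gwOut V g c N B₂ (mp _ h x) = pm N.val (OBmap V g c h) (gwOut V g c N B x) := rfl

lemma gwOut_map {N N' : BigSite.Mod Scheme.fppfPrecoverage T} (φ : N ⟶ N') (B : Alg R)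
    (x : ((GW V g c).obj N).obj (pt B)) :
    gwOut V g c N' B (((GW V g c).map φ).app (pt B) x) =
      φ.val.app (op (OB V g c B)) (gwOut V g c N B x) := rfl

lemma rhoB_eq (B : Alg R) (b : B) : rhoB V g c B b =
    (BigSite.ORingAbs Scheme.fppfPrecoverage).obj.map (pullback.fst (uE (𝟙 (Spec R)) B) c).op
      (gsec Scheme.fppfPrecoverage B b) := rfl

end GW

section ResW

variable {T : Scheme.{u}} {R : CommRingCat.{u}} (V : Scheme.{u}) (g : V ⟶ T) (c : V ⟶ Spec R)
  (V' : Scheme.{u}) (g' : V' ⟶ T) (c' : V' ⟶ Spec R) (j : V' ⟶ V) (hg : j ≫ g = g')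
  (hc : j ≫ c = c')

include hc in
lemma jBl_cond (B : Alg R) : pullback.fst (uE (𝟙 (Spec R)) B) c' ≫ uE (𝟙 (Spec R)) B =
    (pullback.snd (uE (𝟙 (Spec R)) B) c' ≫ j) ≫ c := by
  rw [Category.assoc, hc, pullback.condition]

/-- the base change of `j` -/
def jBl (B : Alg R) : pullback (uE (𝟙 (Spec R)) B) c' ⟶ pullback (uE (𝟙 (Spec R)) B) c :=
  pullback.lift (pullback.fst _ _) (pullback.snd _ _ ≫ j) (jBl_cond V c V' c' j hc B)

@[reassoc]
lemma jBl_fst (B : Alg R) : jBl V c V' c' j hc B ≫ pullback.fst _ _ = pullback.fst _ _ :=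
  pullback.lift_fst _ _ _

@[reassoc]
lemma jBl_snd (B : Alg R) : jBl V c V' c' j hc B ≫ pullback.snd _ _ = pullback.snd _ _ ≫ j :=
  pullback.lift_snd _ _ _

/-- the base change of `j`, over `T` -/
def jB (B : Alg R) : OB V' g' c' B ⟶ OB V g c B :=
  Over.homMk (jBl V c V' c' j hc B) (by
    change jBl V c V' c' j hc B ≫ pullback.snd _ _ ≫ g = pullback.snd _ _ ≫ g'
    rw [jBl_snd_assoc, hg])

lemma jB_left (B : Alg R) : (jB V g c V' g' c' j hg hc B).left = jBl V c V' c' j hc B := rfl

lemma jB_natural {B B₂ : Alg R} (h : B ⟶ B₂) :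
    jB V g c V' g' c' j hg hc B₂ ≫ OBmap V g c h =
      OBmap V' g' c' h ≫ jB V g c V' g' c' j hg hc B := by
  apply Over.OverMorphism.ext
  change jBl V c V' c' j hc B₂ ≫ ypE c (𝟙 (Spec R)) h = ypE c' (𝟙 (Spec R)) h ≫ jBl V c V' c' j hc B
  apply pullback.hom_ext
  · unfold ypE
    rw [Category.assoc, Category.assoc, pullback.lift_fst, jBl_fst_assoc, jBl_fst, pullback.lift_fst]
  · unfold ypE
    rw [Category.assoc, Category.assoc, pullback.lift_snd, jBl_snd, jBl_snd,
      pullback.lift_snd_assoc]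

lemma jB_smul (B : Alg R) (b : B) :
    (BigSite.ORing Scheme.fppfPrecoverage T).obj.map (jB V g c V' g' c' j hg hc B).op
      (rhoB V g c B b) = rhoB V' g' c' B b := by
  change (BigSite.ORingAbs Scheme.fppfPrecoverage).obj.map (jBl V c V' c' j hc B).op
    ((BigSite.ORingAbs Scheme.fppfPrecoverage).obj.map (pullback.fst (uE (𝟙 (Spec R)) B) c).op
      (gsec Scheme.fppfPrecoverage B b)) = _
  rw [oabs_map_comp, jBl_fst]
  rfl

/-- the base change of `j` is a base change of `j` -/
lemma isPullback_jBl (B : Alg R) :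
    IsPullback (jBl V c V' c' j hc B) (pullback.snd (uE (𝟙 (Spec R)) B) c')
      (pullback.snd (uE (𝟙 (Spec R)) B) c) j := by
  refine IsPullback.of_right ?_ (jBl_snd V c V' c' j hc B)
    (IsPullback.of_hasPullback (uE (𝟙 (Spec R)) B) c)
  rw [jBl_fst, hc]
  exact IsPullback.of_hasPullback (uE (𝟙 (Spec R)) B) c'

instance isOpenImmersion_jBl [IsOpenImmersion j] (B : Alg R) :
    IsOpenImmersion (jBl V c V' c' j hc B) :=
  MorphismProperty.of_isPullback (P := @IsOpenImmersion) (isPullback_jBl V c V' c' j hc B).flip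
    inferInstance

instance isOpenImmersion_jB [IsOpenImmersion j] (B : Alg R) :
    IsOpenImmersion (jB V g c V' g' c' j hg hc B).left :=
  isOpenImmersion_jBl V c V' c' j hc B

lemma mem_range_jBl (B : Alg R) (x : ↥(pullback (uE (𝟙 (Spec R)) B) c))
    (hx : pullback.snd (uE (𝟙 (Spec R)) B) c x ∈ Set.range j) :
    x ∈ Set.range (jBl V c V' c' j hc B) := by
  obtain ⟨y, hy⟩ := hx
  obtain ⟨z, hz1, -⟩ := Scheme.exists_preimage_of_isPullback
    (isPullback_jBl V c V' c' j hc B) x y hy.symm
  exact ⟨z, hz1⟩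

variable (N : BigSite.Mod Scheme.fppfPrecoverage T)

/-- restriction of sections along the base changes of `j` -/
def resFun (B : Alg R) (x : ((GW V g c).obj N).obj (pt B)) : ((GW V' g' c').obj N).obj (pt B) :=
  gwIn V' g' c' N B (pm N.val (jB V g c V' g' c' j hg hc B) (gwOut V g c N B x))

lemma resFun_out (B : Alg R) (x : ((GW V g c).obj N).obj (pt B)) :
    gwOut V' g' c' N B (resFun V g c V' g' c' j hg hc N B x) =
      pm N.val (jB V g c V' g' c' j hg hc B) (gwOut V g c N B x) := rfl

/-- restriction, as a morphism of module-valued functors -/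
def resHom : (GW V g c).obj N ⟶ (GW V' g' c').obj N :=
  mkHom (resFun V g c V' g' c' j hg hc N)
    (fun B x y => by
      apply gwOut_injective
      rw [gwOut_add, resFun_out, resFun_out, resFun_out, gwOut_add, pm_add])
    (fun B b x => by
      apply gwOut_injective
      rw [gwOut_smul, resFun_out, resFun_out, gwOut_smul, pm_smul, jB_smul])
    (fun {B B₂} h x => by
      apply gwOut_injective
      rw [gwOut_mp, resFun_out, resFun_out, gwOut_mp, pm_comp, pm_comp, jB_natural])

lemma resHom_app (B : Alg R) (x : ((GW V g c).obj N).obj (pt B)) :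
    (resHom V g c V' g' c' j hg hc N).app (pt B) x = resFun V g c V' g' c' j hg hc N B x := rfl

/-- restriction, as a natural transformation -/
def resW : GW V g c ⟶ GW V' g' c' where
  app N := resHom V g c V' g' c' j hg hc N
  naturality N N' φ := by
    apply hom_ext'
    intro B x
    rw [comp_app_apply, comp_app_apply, resHom_app, resHom_app]
    apply gwOut_injective
    rw [resFun_out, gwOut_map, gwOut_map, resFun_out]
    exact (pm_app Scheme.fppfPrecoverage φ.val _ _).symm

end ResW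

section MV

variable {T : Scheme.{u}} {R : CommRingCat.{u}} (V : Scheme.{u}) (g : V ⟶ T) (c : V ⟶ Spec R)
  (V₁ V₂ V₁₂ : Scheme.{u}) (j₁ : V₁ ⟶ V) (j₂ : V₂ ⟶ V) (p₁ : V₁₂ ⟶ V₁) (p₂ : V₁₂ ⟶ V₂)
  (hp : IsPullback p₁ p₂ j₁ j₂)

include hp in
lemma mv_hg : p₂ ≫ j₂ ≫ g = p₁ ≫ j₁ ≫ g := by
  rw [← Category.assoc, ← hp.w, Category.assoc]

include hp in
lemma mv_hc : p₂ ≫ j₂ ≫ c = p₁ ≫ j₁ ≫ c := by
  rw [← Category.assoc, ← hp.w, Category.assoc]

/-- the base change of a cover by two opens: intersections -/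
lemma isPullback_mv (B : Alg R) :
    IsPullback (jBl V₁ (j₁ ≫ c) V₁₂ (p₁ ≫ j₁ ≫ c) p₁ rfl B)
      (jBl V₂ (j₂ ≫ c) V₁₂ (p₁ ≫ j₁ ≫ c) p₂ (mv_hc V c V₁ V₂ V₁₂ j₁ j₂ p₁ p₂ hp) B)
      (jBl V c V₁ (j₁ ≫ c) j₁ rfl B) (jBl V c V₂ (j₂ ≫ c) j₂ rfl B) := by
  have top := isPullback_jBl V₂ (j₂ ≫ c) V₁₂ (p₁ ≫ j₁ ≫ c) p₂
    (mv_hc V c V₁ V₂ V₁₂ j₁ j₂ p₁ p₂ hp) B
  have total := top.paste_vert hp.flip
  rw [← jBl_snd V₁ (j₁ ≫ c) V₁₂ (p₁ ≫ j₁ ≫ c) p₁ rfl B,
    ← jBl_snd V c V₂ (j₂ ≫ c) j₂ rfl B] at total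
  refine (IsPullback.of_bot total ?_ (isPullback_jBl V c V₁ (j₁ ≫ c) j₁ rfl B)).flip
  apply pullback.hom_ext
  · rw [Category.assoc, Category.assoc, jBl_fst, jBl_fst, jBl_fst, jBl_fst]
  · rw [Category.assoc, Category.assoc, jBl_snd, jBl_snd, jBl_snd_assoc, jBl_snd_assoc, hp.w]

end MV

end

end Groth.Agent.Lib.AdeqShH4
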