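import Mathlib
import Groth.Prelude.Def_Adeq2
import Groth.Agent.Lib.AdeqShL_helper4

/-!
# Sheaf-level adequate modules, part Z (helper4): Mayer–Vietoris, abstractly

* `prop_of_five_exact`: the middle term of a five term exact sequence, for a property closed under
  kernels, cokernels and extensions.
* `mvSC`, `mv_shortExact_complex`, `mv_homology`: the Mayer–Vietoris sequence of cochain complexes.
* `mv_shortExact`: the Mayer–Vietoris short complex of module-valued functors is short exact if it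
  is so sectionwise.
-/

set_option autoImplicit false
set_option linter.unusedSectionVars false
set_option linter.style.haveILetI false
universe v u

open CategoryTheory Limits Adeq Opposite
open Groth.Agent.Lib.AdeqH3

namespace Groth.Agent.Lib.AdeqShH4

noncomputable section

section Five

variable {𝒜 : Type u} [Category.{v} 𝒜] [Abelian 𝒜] (Pr : ObjectProperty 𝒜)
  [Pr.IsClosedUnderIsomorphisms]
  (hker : ∀ {X Y : 𝒜} (f : X ⟶ Y), Pr X → Pr Y → Pr (kernel f))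
  (hcoker : ∀ {X Y : 𝒜} (f : X ⟶ Y), Pr X → Pr Y → Pr (cokernel f))
  (hext : ∀ (S : ShortComplex 𝒜), S.ShortExact → Pr S.X₁ → Pr S.X₃ → Pr S.X₂)

include hker hcoker hext in
/-- the middle term of a five term exact sequence -/
theorem prop_of_five_exact {A B C D E : 𝒜} (a : A ⟶ B) (b : B ⟶ C) (c : C ⟶ D) (d : D ⟶ E)
    (hab : a ≫ b = 0) (hbc : b ≫ c = 0) (hcd : c ≫ d = 0)
    (h₁ : (ShortComplex.mk a b hab).Exact) (h₂ : (ShortComplex.mk b c hbc).Exact)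
    (h₃ : (ShortComplex.mk c d hcd).Exact) (hA : Pr A) (hB : Pr B) (hD : Pr D) (hE : Pr E) :
    Pr C := by
  have hm : Mono (cokernel.desc a b hab) :=
    (ShortComplex.exact_iff_mono_cokernel_desc (ShortComplex.mk a b hab)).1 h₁
  have he : Epi (kernel.lift d c hcd) :=
    (ShortComplex.exact_iff_epi_kernel_lift (ShortComplex.mk c d hcd)).1 h₃
  have hz : cokernel.desc a b hab ≫ kernel.lift d c hcd = 0 := by
    rw [← cancel_epi (cokernel.π a), ← cancel_mono (kernel.ι d)]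
    simp [hbc]
  have hz' : cokernel.desc a b hab ≫ c = 0 := by
    rw [← cancel_epi (cokernel.π a)]
    simp [hbc]
  -- exactness in the middle
  let S₁ : ShortComplex 𝒜 := ShortComplex.mk b c hbc
  let S₁' : ShortComplex 𝒜 := ShortComplex.mk (cokernel.desc a b hab) c hz'
  let S₂ : ShortComplex 𝒜 := ShortComplex.mk (cokernel.desc a b hab) (kernel.lift d c hcd) hz
  let φ : S₁ ⟶ S₁' :=
    { τ₁ := cokernel.π a
      τ₂ := 𝟙 _
      τ₃ := 𝟙 _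
      comm₁₂ := by simp [S₁, S₁']
      comm₂₃ := by simp [S₁, S₁'] }
  let ψ : S₂ ⟶ S₁' :=
    { τ₁ := 𝟙 _
      τ₂ := 𝟙 _
      τ₃ := kernel.ι d
      comm₁₂ := by simp [S₂, S₁']
      comm₂₃ := by simp [S₂, S₁'] }
  haveI : Epi φ.τ₁ := inferInstanceAs (Epi (cokernel.π a))
  haveI : IsIso φ.τ₂ := inferInstanceAs (IsIso (𝟙 C))
  haveI : Mono φ.τ₃ := inferInstanceAs (Mono (𝟙 D))
  haveI : Epi ψ.τ₁ := inferInstanceAs (Epi (𝟙 (cokernel a)))
  haveI : IsIso ψ.τ₂ := inferInstanceAs (IsIso (𝟙 C))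
  haveI : Mono ψ.τ₃ := inferInstanceAs (Mono (kernel.ι d))
  have e₁ : S₁'.Exact := (ShortComplex.exact_iff_of_epi_of_isIso_of_mono φ).1 h₂
  have e₂ : S₂.Exact := (ShortComplex.exact_iff_of_epi_of_isIso_of_mono ψ).2 e₁
  have hS : S₂.ShortExact := ShortComplex.ShortExact.mk' e₂ hm he
  exact hext S₂ hS (hcoker a hA hB) (hker d hD hE)

end Five

section MVHomology

variable {𝒜 : Type u} [Category.{v} 𝒜] [Abelian 𝒜]

/-- the Mayer–Vietoris short complex of a commutative square -/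
def mvSC {F F₁ F₂ F₁₂ : 𝒜} (r₁ : F ⟶ F₁) (r₂ : F ⟶ F₂) (s₁ : F₁ ⟶ F₁₂) (s₂ : F₂ ⟶ F₁₂)
    (w : r₁ ≫ s₁ = r₂ ≫ s₂) : ShortComplex 𝒜 :=
  ShortComplex.mk (biprod.lift r₁ r₂) (biprod.desc s₁ (-s₂)) (by simp [w])

variable (Pr : ObjectProperty 𝒜) [Pr.IsClosedUnderIsomorphisms]
  (hker : ∀ {X Y : 𝒜} (f : X ⟶ Y), Pr X → Pr Y → Pr (kernel f))
  (hcoker : ∀ {X Y : 𝒜} (f : X ⟶ Y), Pr X → Pr Y → Pr (cokernel f))
  (hext : ∀ (S : ShortComplex 𝒜), S.ShortExact → Pr S.X₁ → Pr S.X₃ → Pr S.X₂)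
  (hbiprod : ∀ X Y : 𝒜, Pr X → Pr Y → Pr (X ⊞ Y))
  {K K₁ K₂ K₁₂ : CochainComplex 𝒜 ℕ} (φ₁ : K ⟶ K₁) (φ₂ : K ⟶ K₂) (ψ₁ : K₁ ⟶ K₁₂)
  (ψ₂ : K₂ ⟶ K₁₂) (w : φ₁ ≫ ψ₁ = φ₂ ≫ ψ₂)

include w in
lemma mv_wf (j : ℕ) : φ₁.f j ≫ ψ₁.f j = φ₂.f j ≫ ψ₂.f j := by
  rw [← HomologicalComplex.comp_f, w, HomologicalComplex.comp_f]

/-- the Mayer–Vietoris short complex of complexes is short exact if it is degreewise -/
theorem mv_shortExact_complex
    (hdeg : ∀ j, (mvSC (φ₁.f j) (φ₂.f j) (ψ₁.f j) (ψ₂.f j) (mv_wf φ₁ φ₂ ψ₁ ψ₂ w j)).ShortExact) :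
    (mvSC φ₁ φ₂ ψ₁ ψ₂ w).ShortExact := by
  apply HomologicalComplex.shortExact_of_degreewise_shortExact
  intro j
  let E := HomologicalComplex.eval 𝒜 (ComplexShape.up ℕ) j
  let e : (mvSC φ₁ φ₂ ψ₁ ψ₂ w).map E ≅
      mvSC (φ₁.f j) (φ₂.f j) (ψ₁.f j) (ψ₂.f j) (mv_wf φ₁ φ₂ ψ₁ ψ₂ w j) :=
    ShortComplex.isoMk (Iso.refl _) (E.mapBiprod K₁ K₂) (Iso.refl _)
      (by
        change 𝟙 _ ≫ biprod.lift (E.map φ₁) (E.map φ₂) =
          E.map (biprod.lift φ₁ φ₂) ≫ (E.mapBiprod K₁ K₂).hom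
        rw [Category.id_comp, biprod.map_lift_mapBiprod])
      (by
        change (E.mapBiprod K₁ K₂).hom ≫ biprod.desc (E.map ψ₁) (-(E.map ψ₂)) =
          E.map (biprod.desc ψ₁ (-ψ₂)) ≫ 𝟙 _
        rw [Category.comp_id, ← Functor.map_neg, biprod.mapBiprod_hom_desc])
  exact ShortComplex.shortExact_of_iso e.symm (hdeg j)

include hker hcoker hext hbiprod in
/-- Mayer–Vietoris for a property closed under kernels, cokernels and extensions -/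
theorem mv_homology
    (hdeg : ∀ j, (mvSC (φ₁.f j) (φ₂.f j) (ψ₁.f j) (ψ₂.f j) (mv_wf φ₁ φ₂ ψ₁ ψ₂ w j)).ShortExact)
    (h₁ : ∀ p, Pr (K₁.homology p)) (h₂ : ∀ p, Pr (K₂.homology p))
    (h₁₂ : ∀ p, Pr (K₁₂.homology p)) : ∀ p, Pr (K.homology p) := by
  have hS := mv_shortExact_complex φ₁ φ₂ ψ₁ ψ₂ w hdeg
  obtain ⟨S, hSe⟩ : ∃ S : ShortComplex (CochainComplex 𝒜 ℕ), S = mvSC φ₁ φ₂ ψ₁ ψ₂ w := ⟨_, rfl⟩
  have hX₁ : S.X₁ = K := by rw [hSe]; rfl
  have hX₃ : S.X₃ = K₁₂ := by rw [hSe]; rfl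
  have hmid : ∀ p, Pr (S.X₂.homology p) := by
    intro p
    rw [hSe]
    haveI : PreservesBinaryBiproducts
        (HomologicalComplex.homologyFunctor 𝒜 (ComplexShape.up ℕ) p) :=
      preservesBinaryBiproducts_of_preservesBiproducts _
    exact Pr.prop_of_iso
      ((HomologicalComplex.homologyFunctor 𝒜 (ComplexShape.up ℕ) p).mapBiprod K₁ K₂).symm
      (hbiprod _ _ (h₁ p) (h₂ p))
  rw [← hSe] at hS
  have h₃ : ∀ p, Pr (S.X₃.homology p) := by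
    intro p
    rw [hX₃]
    exact h₁₂ p
  rw [← hX₁]
  intro p
  cases p with
  | zero =>
    haveI := hS.mono_f
    have hm0 : Mono (HomologicalComplex.cyclesMap S.f 0) := inferInstance
    have hfac := CochainComplex.isoHomologyπ₀_inv_naturality (φ := S.f)
    haveI : Mono (HomologicalComplex.homologyMap S.f 0 ≫ S.X₂.isoHomologyπ₀.inv) := by
      rw [hfac]
      infer_instance
    haveI hm : Mono (HomologicalComplex.homologyMap S.f 0) :=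
      mono_of_mono _ S.X₂.isoHomologyπ₀.inv
    have hex := hS.homology_exact₂ 0
    have hl := hex.fIsKernel
    let e : S.X₁.homology 0 ≅ kernel (HomologicalComplex.homologyMap S.g 0) :=
      IsLimit.conePointUniqueUpToIso hl
        (limit.isLimit (parallelPair (HomologicalComplex.homologyMap S.g 0) 0))
    exact Pr.prop_of_iso e.symm (hker _ (hmid 0) (h₃ 0))
  | succ n =>
    exact prop_of_five_exact Pr hker hcoker hext
      (HomologicalComplex.homologyMap S.g n) (hS.δ n (n + 1) rfl)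
      (HomologicalComplex.homologyMap S.f (n + 1)) (HomologicalComplex.homologyMap S.g (n + 1))
      (hS.comp_δ n (n + 1) rfl) (hS.δ_comp n (n + 1) rfl) _
      (hS.homology_exact₃ n (n + 1) rfl) (hS.homology_exact₁ n (n + 1) rfl)
      (hS.homology_exact₂ (n + 1)) (hmid n) (h₃ n) (hmid (n + 1)) (h₃ (n + 1))

end MVHomology

section MVFBiprod

variable {A : Type u} [CommRing A] {F F₁ F₂ F₁₂ : MVF A}

lemma biprod_elt (B : Alg A) (z : (F₁ ⊞ F₂).obj (pt B)) :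
    z = (biprod.inl : F₁ ⟶ F₁ ⊞ F₂).app (pt B) ((biprod.fst : F₁ ⊞ F₂ ⟶ F₁).app (pt B) z) +
      (biprod.inr : F₂ ⟶ F₁ ⊞ F₂).app (pt B) ((biprod.snd : F₁ ⊞ F₂ ⟶ F₂).app (pt B) z) :=
  (congrArg (fun φ : F₁ ⊞ F₂ ⟶ F₁ ⊞ F₂ => φ.app (pt B) z) (biprod.total (X := F₁) (Y := F₂))).symm

variable (r₁ : F ⟶ F₁) (r₂ : F ⟶ F₂) (s₁ : F₁ ⟶ F₁₂) (s₂ : F₂ ⟶ F₁₂) (w : r₁ ≫ s₁ = r₂ ≫ s₂)

theorem mv_shortExact
    (hsep : ∀ (B : Alg A) (x : F.obj (pt B)), r₁.app (pt B) x = 0 → r₂.app (pt B) x = 0 → x = 0)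
    (hglue : ∀ (B : Alg A) (x₁ : F₁.obj (pt B)) (x₂ : F₂.obj (pt B)),
      s₁.app (pt B) x₁ = s₂.app (pt B) x₂ → ∃ x, r₁.app (pt B) x = x₁ ∧ r₂.app (pt B) x = x₂)
    (hsurj : ∀ (B : Alg A) (y : F₁₂.obj (pt B)), ∃ x₁, s₁.app (pt B) x₁ = y) :
    (mvSC r₁ r₂ s₁ s₂ w).ShortExact := by
  have hfst : ∀ (B : Alg A) (x : F.obj (pt B)),
      (biprod.fst : F₁ ⊞ F₂ ⟶ F₁).app (pt B) ((biprod.lift r₁ r₂).app (pt B) x) = r₁.app (pt B) x :=
    fun B x => congrArg (fun φ : F ⟶ F₁ => φ.app (pt B) x) (biprod.lift_fst r₁ r₂)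
  have hsnd : ∀ (B : Alg A) (x : F.obj (pt B)),
      (biprod.snd : F₁ ⊞ F₂ ⟶ F₂).app (pt B) ((biprod.lift r₁ r₂).app (pt B) x) = r₂.app (pt B) x :=
    fun B x => congrArg (fun φ : F ⟶ F₂ => φ.app (pt B) x) (biprod.lift_snd r₁ r₂)
  have hinl : ∀ (B : Alg A) (y : F₁.obj (pt B)),
      (biprod.desc s₁ (-s₂)).app (pt B) ((biprod.inl : F₁ ⟶ F₁ ⊞ F₂).app (pt B) y) =
        s₁.app (pt B) y :=
    fun B y => congrArg (fun φ : F₁ ⟶ F₁₂ => φ.app (pt B) y) (biprod.inl_desc s₁ (-s₂))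
  have hinr : ∀ (B : Alg A) (y : F₂.obj (pt B)),
      (biprod.desc s₁ (-s₂)).app (pt B) ((biprod.inr : F₂ ⟶ F₁ ⊞ F₂).app (pt B) y) =
        -s₂.app (pt B) y :=
    fun B y => congrArg (fun φ : F₂ ⟶ F₁₂ => φ.app (pt B) y) (biprod.inr_desc s₁ (-s₂))
  apply shortExact_of_sectionwise
  · intro B (x : F.obj (pt B)) (x' : F.obj (pt B)) h
    have h0 : (biprod.lift r₁ r₂).app (pt B) (x - x') = 0 := by
      rw [app_sub]
      exact sub_eq_zero.2 h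
    apply sub_eq_zero.1
    apply hsep B
    · exact (hfst B (x - x')).symm.trans ((congrArg
        (fun t => (biprod.fst : F₁ ⊞ F₂ ⟶ F₁).app (pt B) t) h0).trans (app_zero _ B))
    · exact (hsnd B (x - x')).symm.trans ((congrArg
        (fun t => (biprod.snd : F₁ ⊞ F₂ ⟶ F₂).app (pt B) t) h0).trans (app_zero _ B))
  · intro B (y : F₁₂.obj (pt B))
    obtain ⟨x₁, hx₁⟩ := hsurj B y
    exact ⟨(biprod.inl : F₁ ⟶ F₁ ⊞ F₂).app (pt B) x₁, (hinl B x₁).trans hx₁⟩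
  · intro B (z : (F₁ ⊞ F₂).obj (pt B)) hz
    have hz' : (biprod.desc s₁ (-s₂)).app (pt B) z = 0 := hz
    rw [biprod_elt B z, app_add, hinl, hinr] at hz'
    obtain ⟨x, hx₁, hx₂⟩ := hglue B _ _ (by
      rw [← sub_eq_zero, sub_eq_add_neg]
      exact hz')
    refine ⟨x, ?_⟩
    show (biprod.lift r₁ r₂).app (pt B) x = z
    rw [biprod_elt B ((biprod.lift r₁ r₂).app (pt B) x), hfst, hsnd, hx₁, hx₂]
    exact (biprod_elt B z).symm

end MVFBiprod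

end

end Groth.Agent.Lib.AdeqShH4
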