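import Mathlib
import Groth.Prelude.Def_Adeq2
import Groth.Agent.Lib.AdeqShY_helper4
import Groth.Agent.Lib.AdeqShZ_helper4
import Groth.Agent.Lib.AdeqSplit_helper3
import Groth.Agent.Lib.AdeqCoker2_helper3
import Groth.Agent.Lib.AdeqKer_helper3
import Groth.Agent.Lib.AdeqSES_helper3

/-!
# Sheaf-level adequate modules, part AA (helper4): Mayer–Vietoris for the cohomology functors

* `mv_deg`, `mv_step`: the Mayer–Vietoris step for `B ↦ H^p(V ×_R B, M)`.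
* `adequate_exact`: over affine objects the injective resolution of an adequate module is exact.
* `adeqH_of_isAffine`: the base case.
-/

set_option autoImplicit false
set_option linter.unusedSectionVars false
set_option linter.style.haveILetI false
universe u

open CategoryTheory Limits TensorProduct Adeq AlgebraicGeometry Opposite
open Groth.Agent.Lib.AdeqH3 Groth.Agent.Lib.BigCartanH4

namespace Groth.Agent.Lib.AdeqShH4

noncomputable section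

section MVStep

variable {T : Scheme.{u}} {R : CommRingCat.{u}} (V : Scheme.{u}) (g : V ⟶ T) (c : V ⟶ Spec R)
  (V₁ V₂ V₁₂ : Scheme.{u}) (j₁ : V₁ ⟶ V) (j₂ : V₂ ⟶ V) (p₁ : V₁₂ ⟶ V₁) (p₂ : V₁₂ ⟶ V₂)
  (hp : IsPullback p₁ p₂ j₁ j₂) [IsOpenImmersion j₁] [IsOpenImmersion j₂]
  (hcov : ∀ x : V, x ∈ Set.range j₁ ∨ x ∈ Set.range j₂)

/-- restriction to the first open -/
abbrev rW₁ : GW V g c ⟶ GW V₁ (j₁ ≫ g) (j₁ ≫ c) := resW V g c V₁ _ _ j₁ rfl rfl

/-- restriction to the second open -/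
abbrev rW₂ : GW V g c ⟶ GW V₂ (j₂ ≫ g) (j₂ ≫ c) := resW V g c V₂ _ _ j₂ rfl rfl

/-- restriction from the first open to the intersection -/
abbrev sW₁ : GW V₁ (j₁ ≫ g) (j₁ ≫ c) ⟶ GW V₁₂ (p₁ ≫ j₁ ≫ g) (p₁ ≫ j₁ ≫ c) :=
  resW V₁ _ _ V₁₂ _ _ p₁ rfl rfl

include hp in
/-- restriction from the second open to the intersection -/
abbrev sW₂ : GW V₂ (j₂ ≫ g) (j₂ ≫ c) ⟶ GW V₁₂ (p₁ ≫ j₁ ≫ g) (p₁ ≫ j₁ ≫ c) :=
  resW V₂ _ _ V₁₂ _ _ p₂ (mv_hg V g V₁ V₂ V₁₂ j₁ j₂ p₁ p₂ hp) (mv_hc V c V₁ V₂ V₁₂ j₁ j₂ p₁ p₂ hp)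

lemma jB_comm (B : Alg R) :
    jB V₁ (j₁ ≫ g) (j₁ ≫ c) V₁₂ (p₁ ≫ j₁ ≫ g) (p₁ ≫ j₁ ≫ c) p₁ rfl rfl B ≫
        jB V g c V₁ (j₁ ≫ g) (j₁ ≫ c) j₁ rfl rfl B =
      jB V₂ (j₂ ≫ g) (j₂ ≫ c) V₁₂ (p₁ ≫ j₁ ≫ g) (p₁ ≫ j₁ ≫ c) p₂
          (mv_hg V g V₁ V₂ V₁₂ j₁ j₂ p₁ p₂ hp) (mv_hc V c V₁ V₂ V₁₂ j₁ j₂ p₁ p₂ hp) B ≫
        jB V g c V₂ (j₂ ≫ g) (j₂ ≫ c) j₂ rfl rfl B :=
  Over.OverMorphism.ext (isPullback_mv V c V₁ V₂ V₁₂ j₁ j₂ p₁ p₂ hp B).w

lemma mv_w : rW₁ V g c V₁ j₁ ≫ sW₁ V g c V₁ V₁₂ j₁ p₁ =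
    rW₂ V g c V₂ j₂ ≫ sW₂ V g c V₁ V₂ V₁₂ j₁ j₂ p₁ p₂ hp := by
  ext N : 2
  apply hom_ext'
  intro B x
  rw [NatTrans.comp_app, NatTrans.comp_app, comp_app_apply, comp_app_apply]
  apply gwOut_injective
  show pm N.val _ (pm N.val _ (gwOut V g c N B x)) = pm N.val _ (pm N.val _ (gwOut V g c N B x))
  rw [pm_comp, pm_comp, jB_comm V g c V₁ V₂ V₁₂ j₁ j₂ p₁ p₂ hp B]

include hcov in
lemma hcov_B (B : Alg R) (x : (OB V g c B).left) :
    x ∈ Set.range (jB V g c V₁ (j₁ ≫ g) (j₁ ≫ c) j₁ rfl rfl B).left ∨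
      x ∈ Set.range (jB V g c V₂ (j₂ ≫ g) (j₂ ≫ c) j₂ rfl rfl B).left := by
  rcases hcov (pullback.snd (uE (𝟙 (Spec R)) B) c x) with h | h
  · exact Or.inl (mem_range_jBl V c V₁ (j₁ ≫ c) j₁ rfl B x h)
  · exact Or.inr (mem_range_jBl V c V₂ (j₂ ≫ c) j₂ rfl B x h)

lemma mv_w_app (N : BigSite.Mod Scheme.fppfPrecoverage T) :
    (rW₁ V g c V₁ j₁).app N ≫ (sW₁ V g c V₁ V₁₂ j₁ p₁).app N =
      (rW₂ V g c V₂ j₂).app N ≫ (sW₂ V g c V₁ V₂ V₁₂ j₁ j₂ p₁ p₂ hp).app N := by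
  rw [← NatTrans.comp_app, ← NatTrans.comp_app, mv_w V g c V₁ V₂ V₁₂ j₁ j₂ p₁ p₂ hp]

include hcov in
/-- the Mayer–Vietoris sequence of an injective module is short exact -/
theorem mv_deg (N : BigSite.Mod Scheme.fppfPrecoverage T) [Injective N] :
    (mvSC ((rW₁ V g c V₁ j₁).app N) ((rW₂ V g c V₂ j₂).app N)
      ((sW₁ V g c V₁ V₁₂ j₁ p₁).app N) ((sW₂ V g c V₁ V₂ V₁₂ j₁ j₂ p₁ p₂ hp).app N)
      (mv_w_app V g c V₁ V₂ V₁₂ j₁ j₂ p₁ p₂ hp N)).ShortExact := by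
  have hglue := fun B : Alg R => glue_two N
    (jB V g c V₁ (j₁ ≫ g) (j₁ ≫ c) j₁ rfl rfl B) (jB V g c V₂ (j₂ ≫ g) (j₂ ≫ c) j₂ rfl rfl B)
    (jB V₁ (j₁ ≫ g) (j₁ ≫ c) V₁₂ (p₁ ≫ j₁ ≫ g) (p₁ ≫ j₁ ≫ c) p₁ rfl rfl B)
    (jB V₂ (j₂ ≫ g) (j₂ ≫ c) V₁₂ (p₁ ≫ j₁ ≫ g) (p₁ ≫ j₁ ≫ c) p₂
      (mv_hg V g V₁ V₂ V₁₂ j₁ j₂ p₁ p₂ hp) (mv_hc V c V₁ V₂ V₁₂ j₁ j₂ p₁ p₂ hp) B)
    (isPullback_mv V c V₁ V₂ V₁₂ j₁ j₂ p₁ p₂ hp B) (hcov_B V g c V₁ V₂ j₁ j₂ hcov B)
  apply mv_shortExact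
  · intro B x h₁ h₂
    exact (hglue B).1 (gwOut V g c N B x) h₁ h₂
  · intro B x₁ x₂ h
    obtain ⟨x, hx₁, hx₂⟩ := (hglue B).2 (gwOut _ _ _ N B x₁) (gwOut _ _ _ N B x₂) h
    exact ⟨gwIn V g c N B x, hx₁, hx₂⟩
  · intro B y
    haveI : IsOpenImmersion p₁ := MorphismProperty.of_isPullback (P := @IsOpenImmersion) hp.flip
      inferInstance
    haveI : Mono (jB V₁ (j₁ ≫ g) (j₁ ≫ c) V₁₂ (p₁ ≫ j₁ ≫ g) (p₁ ≫ j₁ ≫ c) p₁ rfl rfl B) :=
      mono_of_left_mono _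
    obtain ⟨x₁, hx₁⟩ := surjective_res_of_mono Scheme.fppfPrecoverage N
      (jB V₁ (j₁ ≫ g) (j₁ ≫ c) V₁₂ (p₁ ≫ j₁ ≫ g) (p₁ ≫ j₁ ≫ c) p₁ rfl rfl B)
      (gwOut _ _ _ N B y)
    exact ⟨gwIn _ _ _ N B x₁, hx₁⟩

end MVStep

section KW

variable {T : Scheme.{u}} {R : CommRingCat.{u}} {M : BigSite.Mod Scheme.fppfPrecoverage T}
  (I : InjectiveResolution M)

/-- the complex of module-valued functors computing the cohomology of the base changes of `V` -/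
def KW (V : Scheme.{u}) (g : V ⟶ T) (c : V ⟶ Spec R) : CochainComplex (MVF R) ℕ :=
  ((GW V g c).mapHomologicalComplex (ComplexShape.up ℕ)).obj I.cocomplex

/-- all cohomology functors of the base changes of `V` are adequate -/
def AdeqH (V : Scheme.{u}) (g : V ⟶ T) (c : V ⟶ Spec R) : Prop :=
  ∀ p : ℕ, Adeq.adequate R ((KW I V g c).homology p)

variable (V : Scheme.{u}) (g : V ⟶ T) (c : V ⟶ Spec R)
  (V₁ V₂ V₁₂ : Scheme.{u}) (j₁ : V₁ ⟶ V) (j₂ : V₂ ⟶ V) (p₁ : V₁₂ ⟶ V₁) (p₂ : V₁₂ ⟶ V₂)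
  (hp : IsPullback p₁ p₂ j₁ j₂) [IsOpenImmersion j₁] [IsOpenImmersion j₂]
  (hcov : ∀ x : V, x ∈ Set.range j₁ ∨ x ∈ Set.range j₂)

include hp hcov in
/-- the Mayer–Vietoris step -/
theorem mv_step (h₁ : AdeqH I V₁ (j₁ ≫ g) (j₁ ≫ c)) (h₂ : AdeqH I V₂ (j₂ ≫ g) (j₂ ≫ c))
    (h₁₂ : AdeqH I V₁₂ (p₁ ≫ j₁ ≫ g) (p₁ ≫ j₁ ≫ c)) : AdeqH I V g c := by
  let φ₁ : KW I V g c ⟶ KW I V₁ (j₁ ≫ g) (j₁ ≫ c) :=
    (NatTrans.mapHomologicalComplex (rW₁ V g c V₁ j₁) (ComplexShape.up ℕ)).app I.cocomplex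
  let φ₂ : KW I V g c ⟶ KW I V₂ (j₂ ≫ g) (j₂ ≫ c) :=
    (NatTrans.mapHomologicalComplex (rW₂ V g c V₂ j₂) (ComplexShape.up ℕ)).app I.cocomplex
  let ψ₁ : KW I V₁ (j₁ ≫ g) (j₁ ≫ c) ⟶ KW I V₁₂ (p₁ ≫ j₁ ≫ g) (p₁ ≫ j₁ ≫ c) :=
    (NatTrans.mapHomologicalComplex (sW₁ V g c V₁ V₁₂ j₁ p₁) (ComplexShape.up ℕ)).app I.cocomplex
  let ψ₂ : KW I V₂ (j₂ ≫ g) (j₂ ≫ c) ⟶ KW I V₁₂ (p₁ ≫ j₁ ≫ g) (p₁ ≫ j₁ ≫ c) :=
    (NatTrans.mapHomologicalComplex (sW₂ V g c V₁ V₂ V₁₂ j₁ j₂ p₁ p₂ hp)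
      (ComplexShape.up ℕ)).app I.cocomplex
  have w : φ₁ ≫ ψ₁ = φ₂ ≫ ψ₂ := by
    show (NatTrans.mapHomologicalComplex _ _).app _ ≫ (NatTrans.mapHomologicalComplex _ _).app _ =
      (NatTrans.mapHomologicalComplex _ _).app _ ≫ (NatTrans.mapHomologicalComplex _ _).app _
    rw [← NatTrans.comp_app, ← NatTrans.comp_app, ← NatTrans.mapHomologicalComplex_comp,
      ← NatTrans.mapHomologicalComplex_comp, mv_w V g c V₁ V₂ V₁₂ j₁ j₂ p₁ p₂ hp]
  exact mv_homology (Adeq.adequate R) (fun f hX hY => adequate_kernel f hX hY)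
    (fun f hX hY => adequate_cokernel f hX hY) (fun S hS h₁ h₃ => adequate_ext S hS h₁ h₃)
    (fun X Y hX hY => adequate_biprod X Y hX hY) φ₁ φ₂ ψ₁ ψ₂ w
    (fun j => mv_deg V g c V₁ V₂ V₁₂ j₁ j₂ p₁ p₂ hp hcov (I.cocomplex.X j)) h₁ h₂ h₁₂

end KW

section Exactness

variable {A : Type u} [CommRing A]

/-- exactness of a short complex of module-valued functors can be checked sectionwise -/
theorem exact_of_sectionwise (X : ShortComplex (MVF A))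
    (hex : ∀ (B : Alg A) (x : X.X₂.obj (pt B)), X.g.app (pt B) x = 0 →
      ∃ y, X.f.app (pt B) y = x) : X.Exact := by
  rw [ShortComplex.exact_iff_epi_kernel_lift]
  apply PresheafOfModules.epi_of_surjective
  rintro ⟨⟨B⟩⟩ z
  have hz : X.g.app (pt B) ((kernel.ι X.g).app (pt B) z) = 0 := by
    rw [← comp_app_apply, kernel.condition]
    rfl
  obtain ⟨y, hy⟩ := hex B _ hz
  refine ⟨y, ?_⟩
  have hinj : Function.Injective ((kernel.ι X.g).app (pt B)) :=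
    PresheafOfModules.injective_of_mono _ _
  apply hinj
  rw [← hy, ← comp_app_apply, kernel.lift_ι]

theorem adequate_of_isZero {X F : MVF A} (hX : Adeq.adequate A X) (hF : IsZero F) :
    Adeq.adequate A F := by
  have h1 : Adeq.adequate A (kernel (𝟙 X)) := adequate_kernel (𝟙 X) hX hX
  have h2 : IsZero (kernel (𝟙 X)) := by
    rw [IsZero.iff_id_eq_zero, ← cancel_mono (kernel.ι (𝟙 X))]
    have := kernel.condition (𝟙 X)
    rw [Category.comp_id] at this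
    rw [this, zero_comp, comp_zero]
  exact (Adeq.adequate A).prop_of_iso (h2.iso hF) h1

end Exactness

section AffClass

open Groth.Agent.Lib.CechSite Groth.Agent.Lib.GaCechH8 Groth.Agent.Lib.EtCartanH8

attribute [local instance] hasFiniteProducts_over

variable {S : Scheme.{u}}

/-- the quotient of a Čech acyclic sheaf by a Čech acyclic subsheaf is Čech acyclic -/
theorem affCech_X₃' (Sx : ShortComplex (AbF S)) (hS : Sx.ShortExact) (h1 : AffCech Sx.X₁)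
    (h2 : AffCech Sx.X₂) : AffCech Sx.X₃ := by
  intro U hU V hV hs hfl hfp p
  haveI := hU
  haveI := hV
  refine Groth.Agent.Lib.CechSiteSES.isZero_cechH_X₃ (Y1.{u + 1} V) Sx hS p ?_
    (h2 U hU V hV hs hfl hfp p) (h1 U hU V hV hs hfl hfp (p + 1))
  intro σ
  haveI : IsAffine (T (Y1.{u + 1} V) σ).left.left := isAffine_Pw U V (p + 1)
  exact sections_surjective Sx hS h1 (T (Y1.{u + 1} V) σ).left

theorem affCech_of_injective (I : BigSite.Mod Scheme.fppfPrecoverage S) [Injective I] :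
    AffCech ((BigSite.toAbMod Scheme.fppfPrecoverage S).obj I) :=
  fun _ _ V _ _ _ _ p => isZero_cech_injective_mod Scheme.fppfPrecoverage I (Y1.{u + 1} V) p

/-- over affine objects, an injective resolution of an adequate module is exact in positive
degrees -/
theorem adequate_exact (M : BigSite.Mod Scheme.fppfPrecoverage S)
    (hM : Adeq.adequateMod Scheme.fppfPrecoverage S M) (I : InjectiveResolution M) (n : ℕ)
    (U : Over S) [IsAffine U.left] (z : (I.cocomplex.X (n + 1)).val.obj (op U))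
    (hz : (I.cocomplex.d (n + 1) (n + 2)).val.app (op U) z = 0) :
    ∃ y : (I.cocomplex.X n).val.obj (op U), (I.cocomplex.d n (n + 1)).val.app (op U) y = z :=
  cartan_exact Scheme.fppfPrecoverage AffCech (fun U => IsAffine U.left)
    (fun Sx hS h1 U hU => by
      haveI := hU
      exact sections_surjective Sx hS h1 U)
    (fun Sx hS h1 h2 => affCech_X₃' Sx hS h1 h2)
    (fun n => I.cocomplex.X n) (fun n => I.cocomplex.d n (n + 1))
    (fun n => I.cocomplex.d_comp_d n (n + 1) (n + 2)) (fun n => I.exact_succ n)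
    (fun n => affCech_of_injective (I.cocomplex.X n))
    (I.ι.f 0) I.ι_f_zero_comp_complex_d I.isLimitKernelFork
    (affCech_mod M hM) n U inferInstance z hz

end AffClass

section Base

variable {T : Scheme.{u}} {R : CommRingCat.{u}} {M : BigSite.Mod Scheme.fppfPrecoverage T}
  (hM : Adeq.adequateMod Scheme.fppfPrecoverage T M) (I : InjectiveResolution M)
  (V : Scheme.{u}) (g : V ⟶ T) (c : V ⟶ Spec R)

include hM in
theorem adequate_GW [QuasiCompact c] [QuasiSeparated c] :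
    Adeq.adequate R ((GW V g c).obj M) :=
  adequate_push_chart c ((BigSite.pullMod Scheme.fppfPrecoverage g).obj M)
    (main8757 g M hM) (𝟙 (Spec R))

instance isAffine_OB [IsAffine V] (B : Alg R) : IsAffine (OB V g c B).left :=
  inferInstanceAs (IsAffine (pullback (uE (𝟙 (Spec R)) B) c))

include hM in
/-- the higher cohomology of the base changes of an affine scheme vanishes -/
theorem isZero_KW_succ [IsAffine V] (n : ℕ) : IsZero ((KW I V g c).homology (n + 1)) := by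
  rw [← HomologicalComplex.exactAt_iff_isZero_homology,
    HomologicalComplex.exactAt_iff' _ n (n + 1) (n + 2) (by simp) (by simp)]
  apply exact_of_sectionwise
  intro B x hx
  obtain ⟨y, hy⟩ := adequate_exact M hM I n (OB V g c B)
    (gwOut V g c (I.cocomplex.X (n + 1)) B x) hx
  exact ⟨gwIn V g c (I.cocomplex.X n) B y, hy⟩

include hM in
/-- the zeroth cohomology functor is the functor of sections -/
theorem adequate_KW_zero [QuasiCompact c] [QuasiSeparated c] :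
    Adeq.adequate R ((KW I V g c).homology 0) := by
  obtain ⟨K, hK⟩ : ∃ K : CochainComplex (MVF R) ℕ, K = KW I V g c := ⟨_, rfl⟩
  rw [← hK]
  have hl := K.cyclesIsKernel 0 1 (by simp)
  have hev : ∀ B : Alg R, Function.Injective ((I.ι.f 0).val.app (op (OB V g c B))) ∧
      ∀ z : (I.cocomplex.X 0).val.obj (op (OB V g c B)),
        (I.cocomplex.d 0 1).val.app (op (OB V g c B)) z = 0 →
          ∃ y, (I.ι.f 0).val.app (op (OB V g c B)) y = z := by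
    intro B
    haveI : (SheafOfModules.evaluation (BigSite.ORing Scheme.fppfPrecoverage T)
        (op (OB V g c B))).PreservesZeroMorphisms := ⟨fun _ _ => rfl⟩
    have hS : (ShortComplex.mk (I.ι.f 0) (I.cocomplex.d 0 1) I.ι_f_zero_comp_complex_d).Exact :=
      ShortComplex.exact_of_f_is_kernel _ I.isLimitKernelFork
    have hS' := hS.map_of_mono_of_preservesKernel
      (SheafOfModules.evaluation (BigSite.ORing Scheme.fppfPrecoverage T) (op (OB V g c B)))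
      inferInstance inferInstance
    have hm : Mono ((SheafOfModules.evaluation (BigSite.ORing Scheme.fppfPrecoverage T)
        (op (OB V g c B))).map (I.ι.f 0)) := inferInstance
    exact ⟨(ModuleCat.mono_iff_injective _).1 hm,
      fun z hz => (ShortComplex.moduleCat_exact_iff _).1 hS' z hz⟩
  let k : (GW V g c).obj (((CochainComplex.single₀ _).obj M).X 0) ⟶ (KW I V g c).X 0 :=
    (GW V g c).map (I.ι.f 0)
  have hzero : k ≫ (KW I V g c).d 0 1 = 0 := by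
    show (GW V g c).map (I.ι.f 0) ≫ (GW V g c).map (I.cocomplex.d 0 1) = 0
    rw [← Functor.map_comp, I.ι_f_zero_comp_complex_d, Functor.map_zero]
  haveI := isIso_kernel_lift k ((KW I V g c).d 0 1) (fun B => (hev B).1) hzero
    (fun B x hx => (hev B).2 x hx)
  let e2 : (GW V g c).obj (((CochainComplex.single₀ _).obj M).X 0) ≅
      kernel ((KW I V g c).d 0 1) := asIso (kernel.lift ((KW I V g c).d 0 1) k hzero)
  rw [hK] at hl
  let e3 : (KW I V g c).cycles 0 ≅ kernel ((KW I V g c).d 0 1) :=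
    IsLimit.conePointUniqueUpToIso hl (limit.isLimit (parallelPair ((KW I V g c).d 0 1) 0))
  rw [hK]
  exact (Adeq.adequate R).prop_of_iso
    (e2 ≪≫ e3.symm ≪≫ (KW I V g c).isoHomologyπ₀) (adequate_GW hM V g c)

include hM in
/-- the base case: affine schemes -/
theorem adeqH_of_isAffine [IsAffine V] : AdeqH I V g c := by
  intro p
  cases p with
  | zero => exact adequate_KW_zero hM I V g c
  | succ n => exact adequate_of_isZero (adequate_GW hM V g c) (isZero_KW_succ hM I V g c n)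

end Base

end

end Groth.Agent.Lib.AdeqShH4
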