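import Mathlib
import Groth.Prelude.Def_Adeq2
import Groth.Agent.Lib.AdeqShAA_helper4

set_option autoImplicit false
set_option linter.unusedSectionVars false
set_option linter.style.haveILetI false
universe u

open CategoryTheory Limits TensorProduct Adeq AlgebraicGeometry Opposite
open Groth.Agent.Lib.AdeqH3 Groth.Agent.Lib.BigCartanH4

namespace Groth.Agent.Lib.AdeqShH4

section MVInduction

variable {X : Scheme.{u}} (P : X.Opens → Prop)
  (h₁ : ∀ U : X.Opens, IsAffineOpen U → P U)
  (h₂ : ∀ U V : X.Opens, P U → P V → P (U ⊓ V) → P (U ⊔ V))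

include h₁ h₂ in
lemma mv_ind_basic {A : X.Opens} (hA : IsAffineOpen A) (s : Finset Γ(X, A)) :
    ∀ g : Γ(X, A), P ((⨆ f ∈ s, X.basicOpen f) ⊓ X.basicOpen g) := by
  classical
  induction s using Finset.induction_on with
  | empty =>
    intro g
    have e : (⨆ f ∈ (∅ : Finset Γ(X, A)), X.basicOpen f) ⊓ X.basicOpen g = ⊥ := by simp
    rw [e]
    exact h₁ _ (isAffineOpen_bot X)
  | insert f s hf ih =>
    intro g
    rw [Finset.iSup_insert, inf_sup_right]
    refine h₂ _ _ ?_ (ih g) ?_
    · rw [← Scheme.basicOpen_mul]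
      exact h₁ _ (hA.basicOpen _)
    · have e : X.basicOpen f ⊓ X.basicOpen g ⊓ ((⨆ f ∈ s, X.basicOpen f) ⊓ X.basicOpen g) =
          (⨆ f ∈ s, X.basicOpen f) ⊓ X.basicOpen (f * g) := by
        rw [Scheme.basicOpen_mul, ← inf_inf_distrib_right, inf_comm (X.basicOpen f), inf_assoc]
      rw [e]
      exact ih (f * g)

include h₁ h₂ in
lemma mv_ind_le_affine {A : X.Opens} (hA : IsAffineOpen A) (W : X.Opens) (hW : W ≤ A)
    (hc : IsCompact (W : Set X)) : P W := by
  classical
  have hcov : ∀ x : W, ∃ f : Γ(X, A), X.basicOpen f ≤ W ∧ (x : X) ∈ X.basicOpen f :=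
    fun x => hA.exists_basicOpen_le x (hW x.2)
  choose f hf₁ hf₂ using hcov
  obtain ⟨t, ht⟩ := hc.elim_finite_subcover (fun x : W => (X.basicOpen (f x) : Set X))
    (fun x => (X.basicOpen (f x)).isOpen) (fun x hx => Set.mem_iUnion.2 ⟨⟨x, hx⟩, hf₂ ⟨x, hx⟩⟩)
  have e : W = (⨆ r ∈ t.image f, X.basicOpen r) ⊓ X.basicOpen (1 : Γ(X, A)) := by
    apply le_antisymm
    · intro x hx
      refine ⟨?_, ?_⟩
      · obtain ⟨y, hy⟩ := Set.mem_iUnion.1 (ht hx)
        obtain ⟨hyt, hy'⟩ := Set.mem_iUnion.1 hy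
        have : X.basicOpen (f y) ≤ ⨆ r ∈ t.image f, X.basicOpen r :=
          le_iSup₂_of_le (f y) (Finset.mem_image_of_mem f hyt) le_rfl
        exact this hy'
      · rw [Scheme.basicOpen_of_isUnit _ isUnit_one]
        exact hW hx
    · refine inf_le_left.trans ?_
      refine iSup₂_le ?_
      intro r hr
      obtain ⟨y, -, rfl⟩ := Finset.mem_image.1 hr
      exact hf₁ y
  rw [e]
  exact mv_ind_basic P h₁ h₂ hA _ 1

include h₁ h₂ in
/-- the Mayer–Vietoris induction principle on a quasi-separated scheme -/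
theorem mv_induction [QuasiSeparatedSpace X] (U : X.Opens) (hU : IsCompact (U : Set X)) : P U := by
  refine compact_open_induction_on (P := P) U hU (h₁ _ (isAffineOpen_bot X)) ?_
  intro S hS A hPS
  refine h₂ S A hPS (h₁ _ A.2) ?_
  refine mv_ind_le_affine P h₁ h₂ A.2 (S ⊓ A) inf_le_right ?_
  exact QuasiSeparatedSpace.inter_isCompact _ _ S.isOpen hS A.1.isOpen A.2.isCompact

end MVInduction


noncomputable section

section Theta

variable {S T : Scheme.{u}} (f : T ⟶ S) {R : CommRingCat.{u}} (a : Spec R ⟶ S)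

lemma thL_cond (B : Alg R) : pullback.fst (uE a B) f ≫ uE (𝟙 (Spec R)) B =
    xiE f a B ≫ pullback.fst a f := by
  rw [xiE_fst]
  unfold uE
  exact congrArg (_ ≫ ·) (Category.comp_id _)

/-- `Spec B ×_S T → Spec B ×_{Spec R} (Spec R ×_S T)` -/
def thL (B : Alg R) : pullback (uE a B) f ⟶ pullback (uE (𝟙 (Spec R)) B) (pullback.fst a f) :=
  pullback.lift (pullback.fst _ _) (xiE f a B) (thL_cond f a B)

@[reassoc]
lemma thL_fst (B : Alg R) : thL f a B ≫ pullback.fst _ _ = pullback.fst _ _ :=
  pullback.lift_fst _ _ _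

@[reassoc]
lemma thL_snd (B : Alg R) : thL f a B ≫ pullback.snd _ _ = xiE f a B :=
  pullback.lift_snd _ _ _

lemma thLinv_cond (B : Alg R) :
    pullback.fst (uE (𝟙 (Spec R)) B) (pullback.fst a f) ≫ uE a B =
      (pullback.snd (uE (𝟙 (Spec R)) B) (pullback.fst a f) ≫ pullback.snd a f) ≫ f := by
  rw [Category.assoc, ← pullback.condition (f := a) (g := f), ← Category.assoc,
    ← pullback.condition]
  unfold uE
  rw [Category.assoc]
  exact congrArg (_ ≫ ·) (congrArg (_ ≫ ·) (Category.id_comp a).symm)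

/-- `Spec B ×_{Spec R} (Spec R ×_S T) → Spec B ×_S T` -/
def thLinv (B : Alg R) :
    pullback (uE (𝟙 (Spec R)) B) (pullback.fst a f) ⟶ pullback (uE a B) f :=
  pullback.lift (pullback.fst _ _) (pullback.snd _ _ ≫ pullback.snd a f) (thLinv_cond f a B)

@[reassoc]
lemma thLinv_fst (B : Alg R) : thLinv f a B ≫ pullback.fst _ _ = pullback.fst _ _ :=
  pullback.lift_fst _ _ _

@[reassoc]
lemma thLinv_snd (B : Alg R) :
    thLinv f a B ≫ pullback.snd _ _ = pullback.snd _ _ ≫ pullback.snd a f :=
  pullback.lift_snd _ _ _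

lemma thL_thLinv (B : Alg R) : thL f a B ≫ thLinv f a B = 𝟙 _ := by
  apply pullback.hom_ext
  · rw [Category.assoc, thLinv_fst, thL_fst, Category.id_comp]
  · rw [Category.assoc, thLinv_snd, thL_snd_assoc, xiE_snd, Category.id_comp]

lemma thLinv_thL (B : Alg R) : thLinv f a B ≫ thL f a B = 𝟙 _ := by
  apply pullback.hom_ext
  · rw [Category.assoc, thL_fst, thLinv_fst, Category.id_comp]
  · rw [Category.assoc, thL_snd, Category.id_comp]
    apply pullback.hom_ext
    · rw [Category.assoc, xiE_fst, thLinv_fst_assoc, ← pullback.condition]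
      unfold uE
      exact congrArg (_ ≫ ·) (Category.comp_id _).symm
    · rw [Category.assoc, xiE_snd, thLinv_snd]

/-- the comparison of the two base changes, over `T` -/
def thE (B : Alg R) : (Over.pullback f).obj ((specOver a).obj (op B)) ⟶
    OB (pullback a f) (pullback.snd a f) (pullback.fst a f) B :=
  Over.homMk (thL f a B) (by
    change thL f a B ≫ pullback.snd _ _ ≫ pullback.snd a f = pullback.snd (uE a B) f
    rw [thL_snd_assoc, xiE_snd])

/-- the inverse comparison -/
def thEinv (B : Alg R) : OB (pullback a f) (pullback.snd a f) (pullback.fst a f) B ⟶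
    (Over.pullback f).obj ((specOver a).obj (op B)) :=
  Over.homMk (thLinv f a B) (by
    change thLinv f a B ≫ pullback.snd (uE a B) f = pullback.snd _ _ ≫ pullback.snd a f
    rw [thLinv_snd])

lemma thE_thEinv (B : Alg R) : thE f a B ≫ thEinv f a B = 𝟙 _ :=
  Over.OverMorphism.ext (thL_thLinv f a B)

lemma thEinv_thE (B : Alg R) : thEinv f a B ≫ thE f a B = 𝟙 _ :=
  Over.OverMorphism.ext (thLinv_thL f a B)

lemma thE_smul (B : Alg R) (b : B) :
    (BigSite.ORing Scheme.fppfPrecoverage T).obj.map (thE f a B).op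
      (rhoB (pullback a f) (pullback.snd a f) (pullback.fst a f) B b) =
    phiO Scheme.fppfPrecoverage f ((specOver a).obj (op B))
      (toSect Scheme.fppfPrecoverage a B b) := by
  change (BigSite.ORingAbs Scheme.fppfPrecoverage).obj.map (thL f a B).op
    ((BigSite.ORingAbs Scheme.fppfPrecoverage).obj.map
      (pullback.fst (uE (𝟙 (Spec R)) B) (pullback.fst a f)).op
      (gsec Scheme.fppfPrecoverage B b)) = _
  rw [oabs_map_comp, thL_fst]
  rfl

lemma thE_natural {B B₂ : Alg R} (h : B ⟶ B₂) :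
    thE f a B₂ ≫ OBmap (pullback a f) (pullback.snd a f) (pullback.fst a f) h =
      (Over.pullback f).map ((specOver a).map h.op) ≫ thE f a B := by
  apply Over.OverMorphism.ext
  change thL f a B₂ ≫ ypE (pullback.fst a f) (𝟙 (Spec R)) h = ypE f a h ≫ thL f a B
  apply pullback.hom_ext
  · unfold ypE
    rw [Category.assoc, Category.assoc, pullback.lift_fst, thL_fst_assoc, thL_fst,
      pullback.lift_fst]
  · unfold ypE
    rw [Category.assoc, Category.assoc, pullback.lift_snd, thL_snd, thL_snd]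
    apply pullback.hom_ext
    · rw [Category.assoc, xiE_fst, xiE_fst, pullback.lift_fst_assoc, Category.assoc,
        ← Spec.map_comp, ← CommRingCat.ofHom_comp]
      congr 3
      ext r
      exact (h.hom.commutes r).symm
    · rw [Category.assoc, xiE_snd, xiE_snd, pullback.lift_snd]

end Theta

end

end Groth.Agent.Lib.AdeqShH4
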