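import Mathlib
import Groth.Prelude.Def_Adeq2
import Groth.Agent.Lib.AdeqShAB_helper4

set_option autoImplicit false
set_option linter.unusedSectionVars false
set_option linter.style.haveILetI false
universe u

open CategoryTheory Limits TensorProduct Adeq AlgebraicGeometry Opposite
open Groth.Agent.Lib.AdeqH3 Groth.Agent.Lib.BigCartanH4

namespace Groth.Agent.Lib.AdeqShH4

noncomputable section

section ThetaNat

variable {S T : Scheme.{u}} (f : T ⟶ S) {R : CommRingCat.{u}} (a : Spec R ⟶ S)
  (N : BigSite.Mod Scheme.fppfPrecoverage T)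

/-- the target functor -/
abbrev PW : BigSite.Mod Scheme.fppfPrecoverage T ⥤ MVF R :=
  BigSite.pushMod Scheme.fppfPrecoverage f ⋙ toMVF Scheme.fppfPrecoverage a

/-- unfolding sections of `PW` -/
def pwOut (B : Alg R) (x : ((PW f a).obj N).obj (pt B)) :
    N.val.obj (op ((Over.pullback f).obj ((specOver a).obj (op B)))) :=
  psOut Scheme.fppfPrecoverage f N _
    (fOut Scheme.fppfPrecoverage a ((BigSite.pushMod Scheme.fppfPrecoverage f).obj N).val B x)

def pwIn (B : Alg R) (x : N.val.obj (op ((Over.pullback f).obj ((specOver a).obj (op B))))) :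
    ((PW f a).obj N).obj (pt B) := x

lemma pwOut_pwIn (B : Alg R) (x : N.val.obj (op ((Over.pullback f).obj ((specOver a).obj (op B))))) :
    pwOut f a N B (pwIn f a N B x) = x := rfl

lemma pwIn_pwOut (B : Alg R) (x : ((PW f a).obj N).obj (pt B)) :
    pwIn f a N B (pwOut f a N B x) = x := rfl

lemma pwOut_injective (B : Alg R) : Function.Injective (pwOut f a N B) := fun _ _ h => h

lemma pwOut_add (B : Alg R) (x y : ((PW f a).obj N).obj (pt B)) :
    pwOut f a N B (x + y) = pwOut f a N B x + pwOut f a N B y := rfl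

lemma pwOut_smul (B : Alg R) (b : B) (x : ((PW f a).obj N).obj (pt B)) :
    pwOut f a N B (b • x) =
      phiO Scheme.fppfPrecoverage f ((specOver a).obj (op B))
        (toSect Scheme.fppfPrecoverage a B b) • pwOut f a N B x := rfl

lemma pwOut_mp {B B₂ : Alg R} (h : B ⟶ B₂) (x : ((PW f a).obj N).obj (pt B)) :
    pwOut f a N B₂ (mp _ h x) =
      pm N.val ((Over.pullback f).map ((specOver a).map h.op)) (pwOut f a N B x) := rfl

lemma pwOut_map {N N' : BigSite.Mod Scheme.fppfPrecoverage T} (φ : N ⟶ N') (B : Alg R)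
    (x : ((PW f a).obj N).obj (pt B)) :
    pwOut f a N' B (((PW f a).map φ).app (pt B) x) =
      φ.val.app (op ((Over.pullback f).obj ((specOver a).obj (op B)))) (pwOut f a N B x) := rfl

/-- the comparison on sections -/
def cmpFun (B : Alg R)
    (x : ((GW (pullback a f) (pullback.snd a f) (pullback.fst a f)).obj N).obj (pt B)) :
    ((PW f a).obj N).obj (pt B) :=
  pwIn f a N B (pm N.val (thE f a B) (gwOut _ _ _ N B x))

lemma cmpFun_out (B : Alg R)
    (x : ((GW (pullback a f) (pullback.snd a f) (pullback.fst a f)).obj N).obj (pt B)) :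
    pwOut f a N B (cmpFun f a N B x) = pm N.val (thE f a B) (gwOut _ _ _ N B x) := rfl

/-- the comparison, as a morphism of module-valued functors -/
def cmpHom : (GW (pullback a f) (pullback.snd a f) (pullback.fst a f)).obj N ⟶ (PW f a).obj N :=
  mkHom (cmpFun f a N)
    (fun B x y => by
      apply pwOut_injective
      rw [pwOut_add, cmpFun_out, cmpFun_out, cmpFun_out, gwOut_add, pm_add])
    (fun B b x => by
      apply pwOut_injective
      rw [pwOut_smul, cmpFun_out, cmpFun_out, gwOut_smul, pm_smul, thE_smul])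
    (fun {B B₂} h x => by
      apply pwOut_injective
      rw [pwOut_mp, cmpFun_out, cmpFun_out, gwOut_mp, pm_comp, pm_comp, thE_natural])

lemma cmpHom_app (B : Alg R)
    (x : ((GW (pullback a f) (pullback.snd a f) (pullback.fst a f)).obj N).obj (pt B)) :
    (cmpHom f a N).app (pt B) x = cmpFun f a N B x := rfl

/-- the inverse comparison on sections -/
def cmpFunInv (B : Alg R) (x : ((PW f a).obj N).obj (pt B)) :
    ((GW (pullback a f) (pullback.snd a f) (pullback.fst a f)).obj N).obj (pt B) :=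
  gwIn _ _ _ N B (pm N.val (thEinv f a B) (pwOut f a N B x))

lemma cmpFun_cmpFunInv (B : Alg R) (x : ((PW f a).obj N).obj (pt B)) :
    cmpFun f a N B (cmpFunInv f a N B x) = x := by
  apply pwOut_injective
  rw [cmpFun_out]
  unfold cmpFunInv
  rw [gwOut_gwIn, pm_comp, thE_thEinv, pm_id]

lemma cmpFunInv_cmpFun (B : Alg R)
    (x : ((GW (pullback a f) (pullback.snd a f) (pullback.fst a f)).obj N).obj (pt B)) :
    cmpFunInv f a N B (cmpFun f a N B x) = x := by
  apply gwOut_injective
  unfold cmpFunInv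
  rw [gwOut_gwIn, cmpFun_out, pm_comp, thEinv_thE, pm_id]

instance isIso_cmpHom : IsIso (cmpHom f a N) := by
  haveI : Mono (cmpHom f a N) := by
    refine PresheafOfModules.mono_of_injective (fun ⟨⟨B⟩⟩ => ?_)
    intro x y hxy
    have := congrArg (cmpFunInv f a N B) hxy
    rwa [cmpHom_app, cmpHom_app, cmpFunInv_cmpFun, cmpFunInv_cmpFun] at this
  haveI : Epi (cmpHom f a N) := by
    refine PresheafOfModules.epi_of_surjective (fun ⟨⟨B⟩⟩ => ?_)
    intro y
    exact ⟨cmpFunInv f a N B y, cmpFun_cmpFunInv f a N B y⟩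
  exact isIso_of_mono_of_epi _

/-- the comparison, as a natural transformation -/
def cmpW : GW (pullback a f) (pullback.snd a f) (pullback.fst a f) ⟶ PW f a where
  app N := cmpHom f a N
  naturality N N' φ := by
    apply hom_ext'
    intro B x
    rw [comp_app_apply, comp_app_apply, cmpHom_app, cmpHom_app]
    apply pwOut_injective
    rw [cmpFun_out, pwOut_map, gwOut_map, cmpFun_out]
    exact (pm_app Scheme.fppfPrecoverage φ.val _ _).symm

instance isIso_cmpW : IsIso (cmpW f a) := by
  haveI : ∀ N, IsIso ((cmpW f a).app N) := fun N => isIso_cmpHom f a N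
  exact NatIso.isIso_of_isIso_app _

/-- the comparison isomorphism `GW (Spec R ×_S T) ≅ f_* then evaluate on `a`` -/
def cmpWIso : GW (pullback a f) (pullback.snd a f) (pullback.fst a f) ≅ PW f a := asIso (cmpW f a)

end ThetaNat


section QCQS

variable {T : Scheme.{u}} {R : CommRingCat.{u}} {M : BigSite.Mod Scheme.fppfPrecoverage T}
  (hM : Adeq.adequateMod Scheme.fppfPrecoverage T M) (I : InjectiveResolution M)
  (X : Scheme.{u}) (gX : X ⟶ T) (cX : X ⟶ Spec R)

lemma adeqH_congr {V : Scheme.{u}} {g g' : V ⟶ T} {c c' : V ⟶ Spec R} (hg : g = g') (hc : c = c')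
    (h : AdeqH I V g c) : AdeqH I V g' c' := by
  subst hg hc
  exact h

include hM in
theorem adeqH_opens [QuasiSeparatedSpace X] (U : X.Opens) (hU : IsCompact (U : Set X)) :
    AdeqH I U.toScheme (U.ι ≫ gX) (U.ι ≫ cX) := by
  refine mv_induction (fun W : X.Opens => AdeqH I W.toScheme (W.ι ≫ gX) (W.ι ≫ cX)) ?_ ?_ U hU
  · intro W hW
    haveI : IsAffine W.toScheme := hW
    exact adeqH_of_isAffine hM I _ _ _
  · intro U V hU hV hUV
    have hp := isPullback_opens_inf_le (le_sup_left : U ≤ U ⊔ V) (le_sup_right : V ≤ U ⊔ V)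
    refine mv_step I (U ⊔ V).toScheme ((U ⊔ V).ι ≫ gX) ((U ⊔ V).ι ≫ cX) U.toScheme V.toScheme
      (U ⊓ V).toScheme (X.homOfLE le_sup_left) (X.homOfLE le_sup_right) (X.homOfLE inf_le_left)
      (X.homOfLE inf_le_right) hp ?_ ?_ ?_ ?_
    · intro x
      have hx : ((U ⊔ V).ι x) ∈ ((U ⊔ V : X.Opens) : Set X) := by
        have := x.2
        exact this
      rcases hx with hx | hx
      · left
        refine ⟨⟨_, hx⟩, ?_⟩
        apply (U ⊔ V).ι.isOpenEmbedding.injective
        rw [← Scheme.Hom.comp_apply, Scheme.homOfLE_ι]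
        rfl
      · right
        refine ⟨⟨_, hx⟩, ?_⟩
        apply (U ⊔ V).ι.isOpenEmbedding.injective
        rw [← Scheme.Hom.comp_apply, Scheme.homOfLE_ι]
        rfl
    · refine adeqH_congr I ?_ ?_ hU
      · rw [← Category.assoc, Scheme.homOfLE_ι]
      · rw [← Category.assoc, Scheme.homOfLE_ι]
    · refine adeqH_congr I ?_ ?_ hV
      · rw [← Category.assoc, Scheme.homOfLE_ι]
      · rw [← Category.assoc, Scheme.homOfLE_ι]
    · refine adeqH_congr I ?_ ?_ hUV
      · rw [← Category.assoc, ← Category.assoc, Scheme.homOfLE_homOfLE, Scheme.homOfLE_ι]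
      · rw [← Category.assoc, ← Category.assoc, Scheme.homOfLE_homOfLE, Scheme.homOfLE_ι]

include hM in
theorem adeqH_of_qcqs [CompactSpace X] [QuasiSeparatedSpace X] : AdeqH I X gX cX := by
  have h := adeqH_opens hM I X gX cX ⊤ isCompact_univ
  haveI : IsIso (⊤ : X.Opens).ι := by
    have e : (⊤ : X.Opens).ι = X.topIso.hom := rfl
    rw [e]
    infer_instance
  refine mv_step I X gX cX (⊤ : X.Opens).toScheme (⊤ : X.Opens).toScheme (⊤ : X.Opens).toScheme
    (⊤ : X.Opens).ι (⊤ : X.Opens).ι (𝟙 _) (𝟙 _) (IsKernelPair.id_of_mono _) ?_ h h ?_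
  · intro x
    left
    exact ⟨(inv (⊤ : X.Opens).ι) x, by
      rw [← Scheme.Hom.comp_apply, IsIso.inv_hom_id]; rfl⟩
  · refine adeqH_congr I ?_ ?_ h
    · rw [Category.id_comp]
    · rw [Category.id_comp]

end QCQS


section Exact

variable (K : Precoverage Scheme.{u}) [BigSite.OSh K] {S : Scheme.{u}} {R : CommRingCat.{u}}
  (a : Spec R ⟶ S)

/-- the chart functor preserves finite colimits -/
instance preservesFiniteColimits_toMVFPre : PreservesFiniteColimits (toMVFPre K a) := by
  refine ⟨fun J _ _ => ⟨fun {D'} => ?_⟩⟩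
  refine ⟨fun {c} hc => ⟨?_⟩⟩
  refine PresheafOfModules.evaluationJointlyReflectsColimits _ _ (fun X => ?_)
  refine isColimitOfReflects (forget₂ (ModuleCat _) AddCommGrpCat.{u + 1}) ?_
  exact isColimitOfPreserves (PresheafOfModules.evaluation _
    (op ((specOver a).obj (op X.unop.unop))) ⋙ forget₂ _ AddCommGrpCat.{u + 1}) hc

/-- the chart functor preserves finite limits -/
instance preservesFiniteLimits_toMVFPre : PreservesFiniteLimits (toMVFPre K a) := by
  refine ⟨fun J _ _ => ⟨fun {D'} => ?_⟩⟩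
  refine ⟨fun {c} hc => ⟨?_⟩⟩
  refine PresheafOfModules.evaluationJointlyReflectsLimits _ _ (fun X => ?_)
  refine isLimitOfReflects (forget₂ (ModuleCat _) AddCommGrpCat.{u + 1}) ?_
  exact isLimitOfPreserves (PresheafOfModules.evaluation _
    (op ((specOver a).obj (op X.unop.unop))) ⋙ forget₂ _ AddCommGrpCat.{u + 1}) hc

instance preservesHomology_toMVFPre : (toMVFPre K a).PreservesHomology := inferInstance

end Exact

end

end Groth.Agent.Lib.AdeqShH4
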