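import Mathlib
import Groth.Prelude.Def_Adeq2
import Groth.Agent.Lib.AdeqShAC_helper4

set_option autoImplicit false
set_option linter.unusedSectionVars false
set_option linter.style.haveILetI false
universe u

open CategoryTheory Limits TensorProduct Adeq AlgebraicGeometry Opposite
open Groth.Agent.Lib.AdeqH3 Groth.Agent.Lib.BigCartanH4

namespace Groth.Agent.Lib.AdeqShH4

noncomputable section

section Assembly

/-- an exact functor commutes with the homology of complexes -/
def mapHCHomologyIso {C D : Type*} [Category C] [Category D] [Abelian C] [Abelian D]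
    (G : C ⥤ D) [G.Additive] [G.PreservesHomology] (K : CochainComplex C ℕ) (i : ℕ) :
    ((G.mapHomologicalComplex (ComplexShape.up ℕ)).obj K).homology i ≅ G.obj (K.homology i) :=
  ShortComplex.mapHomologyIso (K.sc i) G

variable {S T : Scheme.{u}} (f : T ⟶ S)
  {M : BigSite.Mod Scheme.fppfPrecoverage T} (I : InjectiveResolution M)

/-- the complex computing the higher direct images -/
abbrev CW : CochainComplex (BigSite.Mod Scheme.fppfPrecoverage S) ℕ :=
  ((BigSite.pushMod Scheme.fppfPrecoverage f).mapHomologicalComplex (ComplexShape.up ℕ)).obj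
    I.cocomplex

/-- the underlying complex of presheaves of modules -/
abbrev CWp : CochainComplex
    (PresheafOfModules.{u + 1} (BigSite.ORing Scheme.fppfPrecoverage S).obj) ℕ :=
  ((SheafOfModules.forget (BigSite.ORing Scheme.fppfPrecoverage S)).mapHomologicalComplex
    (ComplexShape.up ℕ)).obj (CW f I)

/-- sheafification of presheaves of modules on the big site -/
abbrev ShF (S : Scheme.{u}) :
    PresheafOfModules.{u + 1} (BigSite.ORing Scheme.fppfPrecoverage S).obj ⥤
      BigSite.Mod Scheme.fppfPrecoverage S :=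
  PresheafOfModules.sheafification (𝟙 (BigSite.ORing Scheme.fppfPrecoverage S).obj)

instance shF_additive : (ShF S).Additive :=
  (PresheafOfModules.sheafificationAdjunction
    (𝟙 (BigSite.ORing Scheme.fppfPrecoverage S).obj)).left_adjoint_additive

/-- the counit of sheafification is an isomorphism -/
def shCounitIso : SheafOfModules.forget (BigSite.ORing Scheme.fppfPrecoverage S) ⋙ ShF S ≅ 𝟭 _ := by
  let e := asIso (PresheafOfModules.sheafificationAdjunction.{u + 1}
      (𝟙 (BigSite.ORing Scheme.fppfPrecoverage S).obj)).counit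
  exact e

/-- the cohomology sheaf is the sheafification of the cohomology presheaf -/
def homologyShIso (i : ℕ) : (CW f I).homology i ≅
    (PresheafOfModules.sheafification (𝟙 (BigSite.ORing Scheme.fppfPrecoverage S).obj)).obj
      ((CWp f I).homology i) := by
  let Sh := ShF S
  let Fg := SheafOfModules.forget (BigSite.ORing Scheme.fppfPrecoverage S)
  let e : Fg ⋙ Sh ≅ 𝟭 _ := shCounitIso
  haveI : PreservesFiniteColimits Sh := inferInstance
  haveI : Sh.PreservesHomology := inferInstance
  let e1 : ((Sh.mapHomologicalComplex (ComplexShape.up ℕ)).obj (CWp f I)).homology i ≅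
      Sh.obj ((CWp f I).homology i) := mapHCHomologyIso Sh (CWp f I) i
  let e2 : (Sh.mapHomologicalComplex (ComplexShape.up ℕ)).obj (CWp f I) ≅
      ((Fg ⋙ Sh).mapHomologicalComplex (ComplexShape.up ℕ)).obj (CW f I) :=
    HomologicalComplex.Hom.isoOfComponents (fun n => Iso.refl _) (fun n m _ => by
      dsimp only [Iso.refl_hom]
      exact (Category.id_comp _).trans (Category.comp_id _).symm)
  let e3 : ((Fg ⋙ Sh).mapHomologicalComplex (ComplexShape.up ℕ)).obj (CW f I) ≅
      ((𝟭 _ : BigSite.Mod Scheme.fppfPrecoverage S ⥤ _).mapHomologicalComplex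
        (ComplexShape.up ℕ)).obj (CW f I) :=
    (NatIso.mapHomologicalComplex e (ComplexShape.up ℕ)).app (CW f I)
  let e4 : ((𝟭 _ : BigSite.Mod Scheme.fppfPrecoverage S ⥤ _).mapHomologicalComplex
        (ComplexShape.up ℕ)).obj (CW f I) ≅ CW f I :=
    (Functor.mapHomologicalComplexIdIso _ (ComplexShape.up ℕ)).app (CW f I)
  exact ((HomologicalComplex.homologyFunctor _ _ i).mapIso (e2 ≪≫ e3 ≪≫ e4)).symm ≪≫ e1

/-- S8766 -/
theorem main8766 [QuasiCompact f] [QuasiSeparated f]
    [HasInjectiveResolutions (BigSite.Mod Scheme.fppfPrecoverage T)]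
    (M : BigSite.Mod Scheme.fppfPrecoverage T)
    (hM : Adeq.adequateMod Scheme.fppfPrecoverage T M) (i : ℕ) :
    Adeq.adequateMod Scheme.fppfPrecoverage S
      ((BigSite.RpushMod Scheme.fppfPrecoverage f i).obj M) := by
  let I : InjectiveResolution M := injectiveResolution M
  have e0 := I.isoRightDerivedObj (BigSite.pushMod Scheme.fppfPrecoverage f) i
  have e1 := homologyShIso f I i
  refine (Adeq.adequateMod _ S).prop_of_iso (e0 ≪≫ e1).symm ?_
  apply main8760
  intro R a
  have e2 := mapHCHomologyIso (toMVFPre Scheme.fppfPrecoverage a) (CWp f I) i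
  let e3 : ((toMVFPre Scheme.fppfPrecoverage a).mapHomologicalComplex (ComplexShape.up ℕ)).obj
      (CWp f I) ≅ ((PW f a).mapHomologicalComplex (ComplexShape.up ℕ)).obj I.cocomplex :=
    HomologicalComplex.Hom.isoOfComponents (fun n => Iso.refl _) (fun n m _ => by
      dsimp only [Iso.refl_hom]
      exact (Category.id_comp _).trans (Category.comp_id _).symm)
  let e4 : KW I (pullback a f) (pullback.snd a f) (pullback.fst a f) ≅
      ((PW f a).mapHomologicalComplex (ComplexShape.up ℕ)).obj I.cocomplex :=
    (NatIso.mapHomologicalComplex (cmpWIso f a) (ComplexShape.up ℕ)).app I.cocomplex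
  refine (Adeq.adequate R).prop_of_iso
    ((HomologicalComplex.homologyFunctor _ _ i).mapIso (e4 ≪≫ e3.symm) ≪≫ e2) ?_
  haveI : CompactSpace ↥(pullback a f) :=
    QuasiCompact.compactSpace_of_compactSpace (pullback.fst a f)
  haveI : QuasiSeparatedSpace ↥(pullback a f) :=
    quasiSeparatedSpace_of_quasiSeparated (pullback.fst a f)
  exact adeqH_of_qcqs hM I (pullback a f) _ _ i

end Assembly

end

end Groth.Agent.Lib.AdeqShH4
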