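import Mathlib
import Groth.Agent.Lib.ExtAdj_helper7

/-!
# The derived adjunction map on `Ext`, partial acyclicity (helper7)

For `L ⊣ R` with `L` exact: `Φ^k : Ext^k(A, R B) → Ext^k(L A, B)` is bijective when
`R^i R (B) = 0` for `1 ≤ i ≤ k` and injective when this holds for `1 ≤ i ≤ k - 1`.
-/

set_option autoImplicit false
universe w w' v u v' u'
open CategoryTheory CategoryTheory.Limits Abelian

namespace Groth.Agent.Lib.ExtAdj_helper7

open Groth.Agent.Lib

variable {C : Type u} [Category.{v} C] [Abelian C] {D : Type u'} [Category.{v'} D] [Abelian D]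
  [HasExt.{w} C] [HasExt.{w'} D] [EnoughInjectives D]
  (L : C ⥤ D) (R : D ⥤ C) (adj : L ⊣ R) [L.Additive] [PreservesFiniteLimits L]
  [PreservesFiniteColimits L] [R.Additive]

/-- compatibility with pre-composition by a morphism of `C` -/
theorem Φ_mk₀_comp {A A' : C} (a : A' ⟶ A) (B : D) (n : ℕ) (e : Ext.{w} A (R.obj B) n) :
    Φ L R adj A' B n ((Ext.mk₀ a).comp e (zero_add n)) =
      (Ext.mk₀ (L.map a)).comp (Φ L R adj A B n e) (zero_add n) := by
  rw [Φ_apply, Φ_apply, Ext.mapExactFunctor_comp, Ext.mapExactFunctor_mk₀]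
  exact Ext.comp_assoc_of_third_deg_zero _ _ _ _

include adj in
/-- `Φ` is injective in degree one -/
theorem Φ_injective_one (A : C) (B : D) : Function.Injective (Φ L R adj A B 1) := by
  haveI : PreservesLimitsOfSize.{0, 0} R := adj.rightAdjoint_preservesLimits
  haveI : PreservesFiniteLimits R := PreservesLimitsOfSize.preservesFiniteLimits _
  intro x x' hxx'
  rw [← sub_eq_zero]
  have hx0 : Φ L R adj A B 1 (x - x') = 0 := by
    rw [map_sub]; exact sub_eq_zero.2 hxx'
  generalize x - x' = x at hx0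
  let I : InjectivePresentation B := Classical.arbitrary _
  let S := ShortComplex.mk _ _ (cokernel.condition I.f)
  have hS : S.ShortExact := { exact := ShortComplex.exact_cokernel I.f }
  haveI : Injective S.X₂ := I.injective
  haveI : Mono S.f := hS.mono_f
  haveI : Mono (R.map S.f) := inferInstance
  -- the short exact sequence `0 → R B → R I → N₀ → 0`
  let S1 := ShortComplex.mk (R.map S.f) (cokernel.π (R.map S.f)) (cokernel.condition _)
  have hS1 : S1.ShortExact := { exact := ShortComplex.exact_cokernel (R.map S.f) }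
  haveI : Injective S1.X₂ :=
    (Injective.injective_of_adjoint adj S.X₂ : Injective (R.obj S.X₂))
  -- `j : N₀ → R N`
  let j : S1.X₃ ⟶ R.obj S.X₃ := cokernel.desc (R.map S.f) (R.map S.g)
    (by rw [← R.map_comp, S.zero, R.map_zero])
  have hj : S1.g ≫ j = R.map S.g := cokernel.π_desc _ _ _
  haveI : Mono j := by
    have hex : (S.map R).Exact :=
      ((Functor.preservesFiniteLimits_iff_forall_exact_map_and_mono R).1 inferInstance S hS).1
    exact hex.mono_cokernelDesc
  obtain ⟨y, hy⟩ : ∃ y : Ext.{w} A S1.X₃ 0, y.comp hS1.extClass (zero_add 1) = x :=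
    Ext.covariant_sequence_exact₁ A hS1 x (Ext.eq_zero_of_injective _) (zero_add 1)
  obtain ⟨y₀, rfl⟩ := (Ext.mk₀_bijective _ _).2 y
  let φ : S1.map L ⟶ S :=
    { τ₁ := adj.counit.app _
      τ₂ := adj.counit.app _
      τ₃ := L.map j ≫ adj.counit.app _
      comm₁₂ := (adj.counit.naturality S.f).symm
      comm₂₃ := by
        show adj.counit.app _ ≫ S.g = L.map S1.g ≫ L.map j ≫ adj.counit.app _
        rw [← L.map_comp_assoc, hj]
        exact (adj.counit.naturality S.g).symm }
  have hnat := ShortComplex.ShortExact.extClass_naturality (hS1.map_of_exact L) hS φ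
  have h2 : (hS1.extClass.mapExactFunctor L).comp (Ext.mk₀ (adj.counit.app S.X₁)) (add_zero 1) =
      (Ext.mk₀ (L.map j ≫ adj.counit.app S.X₃)).comp hS.extClass (zero_add 1) := by
    rw [Ext.mapExactFunctor_extClass]; exact hnat
  have h3 : Φ L R adj A B 1 x =
      (Ext.mk₀ (L.map y₀ ≫ L.map j ≫ adj.counit.app S.X₃)).comp hS.extClass (zero_add 1) := by
    rw [← hy, Φ_apply, Ext.mapExactFunctor_comp, Ext.mapExactFunctor_mk₀,
      Ext.comp_assoc_of_third_deg_zero, h2, ← Ext.comp_assoc_of_second_deg_zero,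
      Ext.mk₀_comp_mk₀]
  rw [h3] at hx0
  obtain ⟨z, hz⟩ := Ext.covariant_sequence_exact₃ (L.obj A) hS _ (zero_add 1) hx0
  obtain ⟨z₀, rfl⟩ := (Ext.mk₀_bijective _ _).2 z
  rw [Ext.mk₀_comp_mk₀] at hz
  have hz' : z₀ ≫ S.g = L.map y₀ ≫ L.map j ≫ adj.counit.app S.X₃ := (Ext.mk₀_bijective _ _).1 hz
  -- transpose
  have h4 : adj.homEquiv _ _ z₀ ≫ R.map S.g = y₀ ≫ j := by
    rw [← adj.homEquiv_naturality_right, hz', ← L.map_comp_assoc,
      show L.map (y₀ ≫ j) ≫ adj.counit.app S.X₃ = (adj.homEquiv A S.X₃).symm (y₀ ≫ j) from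
        (Adjunction.homEquiv_counit adj _ _ _).symm, Equiv.apply_symm_apply]
  have h5 : adj.homEquiv _ _ z₀ ≫ S1.g = y₀ := by
    rw [← cancel_mono j, Category.assoc, hj, h4]
  rw [← hy, ← h5, ← Ext.mk₀_comp_mk₀, Ext.comp_assoc_of_second_deg_zero, hS1.comp_extClass,
    Ext.comp_zero]

include adj in
theorem Φ_partial (A : C) (k : ℕ) : ∀ (B : D),
    ((∀ i : ℕ, 1 ≤ i → i ≤ k → IsZero ((R.rightDerived i).obj B)) →
      Function.Bijective (Φ L R adj A B k)) ∧
    ((∀ i : ℕ, 1 ≤ i → i + 1 ≤ k → IsZero ((R.rightDerived i).obj B)) →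
      Function.Injective (Φ L R adj A B k)) := by
  induction k with
  | zero =>
    intro B
    have hb : Function.Bijective (Φ L R adj A B 0) := by
      constructor
      · intro x y hxy
        obtain ⟨g, rfl⟩ := (Ext.mk₀_bijective _ _).2 x
        obtain ⟨g', rfl⟩ := (Ext.mk₀_bijective _ _).2 y
        rw [Φ_mk₀, Φ_mk₀] at hxy
        have := (Ext.mk₀_bijective _ _).1 hxy
        rw [(adj.homEquiv A B).symm.injective this]
      · intro y
        obtain ⟨g, rfl⟩ := (Ext.mk₀_bijective _ _).2 y
        exact ⟨Ext.mk₀ (adj.homEquiv A B g), by rw [Φ_mk₀, Equiv.symm_apply_apply]⟩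
    exact ⟨fun _ => hb, fun _ => hb.1⟩
  | succ k ih =>
    intro B
    have hinj : (∀ i : ℕ, 1 ≤ i → i + 1 ≤ k + 1 → IsZero ((R.rightDerived i).obj B)) →
        Function.Injective (Φ L R adj A B (k + 1)) := by
      intro hB
      rcases Nat.eq_zero_or_pos k with hk | hk
      · subst hk
        exact Φ_injective_one L R adj A B
      · let I : InjectivePresentation B := Classical.arbitrary _
        let S := ShortComplex.mk _ _ (cokernel.condition I.f)
        have hS : S.ShortExact := { exact := ShortComplex.exact_cokernel I.f }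
        haveI : Injective S.X₂ := I.injective
        haveI : L.PreservesMonomorphisms := inferInstance
        have hRS : (S.map R).ShortExact :=
          shortExact_map_of_acyc L R adj S hS (hB 1 le_rfl (by omega))
        haveI : Injective (S.map R).X₂ :=
          (Injective.injective_of_adjoint adj S.X₂ : Injective (R.obj S.X₂))
        have hN : ∀ i : ℕ, 1 ≤ i → i + 1 ≤ k → IsZero ((R.rightDerived i).obj S.X₃) := by
          intro i hi hik
          exact FAcyc.isZero_X₃ R S hS i
            (FAcyc.acyc_of_injective R S.X₂ i (by omega)) (hB (i + 1) (by omega) (by omega))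
        intro x x' hxx'
        rw [← sub_eq_zero]
        have hx0 : Φ L R adj A S.X₁ (k + 1) (x - x') = 0 := by
          rw [map_sub]; exact sub_eq_zero.2 hxx'
        generalize x - x' = x at hx0
        obtain ⟨y, hy⟩ : ∃ y : Ext.{w} A (R.obj S.X₃) k, y.comp hRS.extClass rfl = x :=
          Ext.covariant_sequence_exact₁ A hRS x (Ext.eq_zero_of_injective _) rfl
        have hx0' : (Φ L R adj A S.X₃ k y).comp hS.extClass rfl = 0 :=
          (Φ_comp_extClass L R adj A S hS hRS k y).symm.trans
            ((congrArg (Φ L R adj A S.X₁ (k + 1)) hy).trans hx0)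
        obtain ⟨z, hz⟩ := Ext.covariant_sequence_exact₃ (L.obj A) hS _ rfl hx0'
        obtain ⟨k', rfl⟩ : ∃ k', k = k' + 1 := ⟨k - 1, by omega⟩
        have hz0 : z = 0 := Ext.eq_zero_of_injective _
        rw [hz0, Ext.zero_comp] at hz
        have hy0 : y = 0 := by
          apply ((ih S.X₃).2 hN)
          rw [map_zero]
          exact hz.symm
        rw [← hy, hy0]
        exact Abelian.Ext.zero_comp (X := A) (n := k' + 1) hRS.extClass _ rfl
    refine ⟨fun hB => ⟨hinj (fun i hi hik => hB i hi (by omega)), ?_⟩, hinj⟩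
    let I : InjectivePresentation B := Classical.arbitrary _
    let S := ShortComplex.mk _ _ (cokernel.condition I.f)
    have hS : S.ShortExact := { exact := ShortComplex.exact_cokernel I.f }
    haveI : Injective S.X₂ := I.injective
    haveI : L.PreservesMonomorphisms := inferInstance
    have hRS : (S.map R).ShortExact :=
      shortExact_map_of_acyc L R adj S hS (hB 1 le_rfl (by omega))
    have hN : ∀ i : ℕ, 1 ≤ i → i ≤ k → IsZero ((R.rightDerived i).obj S.X₃) := by
      intro i hi hik
      exact FAcyc.isZero_X₃ R S hS i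
        (FAcyc.acyc_of_injective R S.X₂ i (by omega)) (hB (i + 1) (by omega) (by omega))
    intro y
    obtain ⟨y₃, rfl⟩ := Ext.covariant_sequence_exact₁ (L.obj A) hS y
      (Ext.eq_zero_of_injective _) rfl
    obtain ⟨e, rfl⟩ := ((ih S.X₃).1 hN).2 y₃
    exact ⟨e.comp hRS.extClass rfl, Φ_comp_extClass L R adj A S hS hRS k e⟩

end Groth.Agent.Lib.ExtAdj_helper7
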