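import Mathlib
import Groth.Prelude.Def_Adeq2
import Groth.Agent.Lib.AdeqShL_helper4
import Groth.Agent.Lib.BigSmallZar_helper7
import Groth.Agent.Lib.ExtAdjPartial_helper7
import Groth.Agent.Lib.EtZarAcyc_helper7
import Groth.Agent.Lib.FAcyc_helper9
import Groth.Agent.Lib.Horseshoe0_helper9

/-!
# Sheaf-level adequate modules, part O (helper4): Zariski cohomology of adequate modules

* `isZero_RresZar`: abelian sheaves on the big fppf site which are Čech acyclic on affines
  (`BigCartanH4.AffCech`) are acyclic for the restriction to the small Zariski site.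
* `main8785`: `H^q_Zar(S, M|_{S_Zar}) ≅ H^q_fppf(S, M)` for adequate `M`.
-/

set_option autoImplicit false
set_option linter.unusedSectionVars false
set_option linter.style.haveILetI false
universe u

open CategoryTheory Limits TensorProduct Adeq AlgebraicGeometry Opposite
open Groth.Agent.Lib.AdeqH3 Groth.Agent.Lib.GaCechH8 Groth.Agent.Lib.BigCartanH4

namespace Groth.Agent.Lib.AdeqShH4

noncomputable section

section Zar

variable {S : Scheme.{u}} [BigSite.ZarCont Scheme.fppfPrecoverage S]

open Groth.Agent.Lib.BigSmallZar_helper7 Groth.Agent.Lib.EtZarAcyc_helper7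
  Groth.Agent.Lib.ExtAdj_helper7 Groth.Agent.Lib.EtZarEquiv_helper7

theorem epi_resZar_g (Sx : ShortComplex (AbF S)) (hS : Sx.ShortExact) (h1 : AffCech Sx.X₁) :
    Epi ((BigSite.resZar Scheme.fppfPrecoverage S).map Sx.g) := by
  apply epi_zar
  intro U c x hxU
  obtain ⟨_, ⟨V, hV, rfl⟩, hxV, hVU⟩ :=
    S.isBasis_affineOpens.exists_subset_of_mem_open hxU U.2
  have hVU' : V ≤ U := hVU
  haveI : IsAffine ((BigSite.zarIncl S).obj V).left := hV
  obtain ⟨b, hb⟩ := sections_surjective Sx hS h1 ((BigSite.zarIncl S).obj V)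
    (Sx.X₃.obj.map ((BigSite.zarIncl S).map (homOfLE hVU')).op c)
  exact ⟨V, hVU', hxV, b, hb⟩

theorem isZero_R1 (F : AbF S) (hF : AffCech F) :
    IsZero (((BigSite.resZar Scheme.fppfPrecoverage S).rightDerived 1).obj F) := by
  let R := BigSite.resZar Scheme.fppfPrecoverage S
  let Sx : ShortComplex (AbF S) :=
    ShortComplex.mk (Injective.ι F) (cokernel.π (Injective.ι F)) (cokernel.condition _)
  have hS : Sx.ShortExact := { exact := ShortComplex.exact_cokernel (Injective.ι F) }
  haveI : Injective Sx.X₂ := inferInstanceAs (Injective (Injective.under F))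
  have hepi : Epi (R.map Sx.g) := epi_resZar_g Sx hS hF
  have hepi0 : Epi ((R.rightDerived 0).map Sx.g) := by
    have e : (R.rightDerived 0).map Sx.g = (R.rightDerivedZeroIsoSelf).hom.app _ ≫ R.map Sx.g ≫
        (R.rightDerivedZeroIsoSelf).inv.app _ := by
      rw [← (R.rightDerivedZeroIsoSelf).hom.naturality_assoc, Iso.hom_inv_id_app,
        Category.comp_id]
    rw [e]
    infer_instance
  let Δ := Groth.Agent.Lib.Horseshoe0.derivedLES R
  have hδ0 : Δ.δ Sx hS 0 1 rfl = 0 := by
    rw [← cancel_epi ((R.rightDerived 0).map Sx.g), Δ.comp_δ, comp_zero]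
  have hz2 : IsZero ((R.rightDerived 1).obj Sx.X₂) :=
    Functor.isZero_rightDerived_obj_injective_succ R 0 _
  have hex := Δ.exact₁ Sx hS 0 1 rfl
  haveI : Epi (Δ.δ Sx hS 0 1 rfl) := hex.epi_f (hz2.eq_of_tgt _ _)
  exact IsZero.of_epi_eq_zero _ hδ0

theorem isZero_Rsucc : ∀ (i : ℕ) (F : AbF S), AffCech F →
    IsZero (((BigSite.resZar Scheme.fppfPrecoverage S).rightDerived (i + 1)).obj F)
  | 0, F, hF => isZero_R1 F hF
  | i + 1, F, hF => by
    let Sx : ShortComplex (AbF S) :=
      ShortComplex.mk (Injective.ι F) (cokernel.π (Injective.ι F)) (cokernel.condition _)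
    have hS : Sx.ShortExact := { exact := ShortComplex.exact_cokernel (Injective.ι F) }
    haveI : Injective Sx.X₂ := inferInstanceAs (Injective (Injective.under F))
    exact Groth.Agent.Lib.FAcyc.isZero_X₁ (BigSite.resZar Scheme.fppfPrecoverage S) Sx hS (i + 1)
      (isZero_Rsucc i Sx.X₃ (affCech_X₃ Sx hS hF))
      (Functor.isZero_rightDerived_obj_injective_succ _ (i + 1) _)

/-- comparison of Zariski and fppf cohomology for sheaves which are Čech acyclic on affines -/
theorem zar_equiv_of_affCech (F : AbF S) (hF : AffCech F) (q : ℕ) :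
    Nonempty (EtZar.H ((BigSite.resZar Scheme.fppfPrecoverage S).obj F) q ≃+
      BigSite.H Scheme.fppfPrecoverage S F q) := by
  let Mz : AddCommGrpCat.{u + 1} := AddCommGrpCat.of (ULift.{u + 1} ℤ)
  let A := (constantSheaf (Opens.grothendieckTopology S) AddCommGrpCat.{u + 1}).obj Mz
  haveI : (BigSite.piZarPull Scheme.fppfPrecoverage S).Additive :=
    (BigSite.piZarAdj Scheme.fppfPrecoverage S).left_adjoint_additive
  haveI : PreservesFiniteColimits (BigSite.piZarPull Scheme.fppfPrecoverage S) := by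
    haveI : PreservesColimitsOfSize.{0, 0} (BigSite.piZarPull Scheme.fppfPrecoverage S) :=
      (BigSite.piZarAdj Scheme.fppfPrecoverage S).leftAdjoint_preservesColimits
    exact PreservesColimitsOfSize.preservesFiniteColimits _
  have hb := (Φ_partial.{u + 1, u + 1} (BigSite.piZarPull Scheme.fppfPrecoverage S)
    (BigSite.resZar Scheme.fppfPrecoverage S) (BigSite.piZarAdj Scheme.fppfPrecoverage S) A q F).1
    (fun i hi _ => by
      obtain ⟨j, rfl⟩ : ∃ j, i = j + 1 := ⟨i - 1, by omega⟩
      exact isZero_Rsucc j F hF)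
  let e := AddEquiv.ofBijective (Φ (BigSite.piZarPull Scheme.fppfPrecoverage S)
    (BigSite.resZar Scheme.fppfPrecoverage S) (BigSite.piZarAdj Scheme.fppfPrecoverage S) A F q) hb
  let κ : (BigSite.piZarPull Scheme.fppfPrecoverage S).obj A ≅
      (constantSheaf (QuotSh.J Scheme.fppfPrecoverage S) AddCommGrpCat.{u + 1}).obj Mz :=
    (constIso S Scheme.fppfPrecoverage).app Mz
  exact ⟨e.trans (extCongrLeft κ _ q)⟩

end Zar

/-- S8785 -/
theorem main8785 (S : Scheme.{u}) [BigSite.ZarCont Scheme.fppfPrecoverage S]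
    (M : BigSite.Mod Scheme.fppfPrecoverage S) (hM : Adeq.adequateMod Scheme.fppfPrecoverage S M)
    (q : ℕ) :
    Nonempty (EtZar.H ((BigSite.resZar Scheme.fppfPrecoverage S).obj
        ((BigSite.toAbMod Scheme.fppfPrecoverage S).obj M)) q ≃+
      BigSite.HMod Scheme.fppfPrecoverage S M q) :=
  zar_equiv_of_affCech _ (affCech_mod M hM) q

end

end Groth.Agent.Lib.AdeqShH4
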