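import Mathlib
import Groth.Prelude.Def_Adeq2
import Groth.Agent.Lib.AdeqShN_helper4

/-!
# Sheaf-level adequate modules, part P (helper4): characterisations of parasitic adequate modules

* `subsingleton_of_flat_over`: if an adequate module vanishes on an affine object `U₀`, it vanishes
  on every affine object flat over `U₀`.
* `main8767`: the equivalent conditions for an adequate module to be parasitic.
-/

set_option autoImplicit false
set_option linter.unusedSectionVars false
set_option linter.style.haveILetI false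
universe u

open CategoryTheory Limits TensorProduct Adeq AlgebraicGeometry Opposite
open Groth.Agent.Lib.AdeqH3 Groth.Agent.Lib.GaCechH8 Groth.Agent.Lib.BigCartanH4

namespace Groth.Agent.Lib.AdeqShH4

noncomputable section

variable {S : Scheme.{u}}

/-- the structure morphism to the terminal object of a slice -/
def toTop {U₀ : Over S} (W : Over U₀) : W ⟶ Over.mk (𝟙 U₀) :=
  Over.homMk W.hom (Category.comp_id _)

lemma toTop_left {U₀ : Over S} (W : Over U₀) : (toTop W).left = W.hom := rfl

theorem subsingleton_of_flat_over (M : BigSite.Mod Scheme.fppfPrecoverage S)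
    (hM : Adeq.adequateMod Scheme.fppfPrecoverage S M) (U₀ : Over S) [IsAffine U₀.left]
    (h0 : Subsingleton (M.val.obj (op U₀))) (W : Over U₀) [IsAffine W.left.left]
    (hfl : Flat W.hom.left) : Subsingleton (M.val.obj (op W.left)) := by
  let F : MVF (A0 U₀) := (toMVFPre Scheme.fppfPrecoverage (a0 U₀)).obj M.val
  have hF : Adeq.adequate _ F := main8755 S M hM _ (a0 U₀)
  haveI : IsAffine (Over.mk (𝟙 U₀)).left.left := ‹IsAffine U₀.left›
  have hf : (Γmap (toTop W)).hom.toRingHom.Flat := by
    haveI := hfl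
    exact Scheme.Hom.flat_appTop W.hom.left
  obtain ⟨β₀, hb, -⟩ := bc_bijective F hF (Γmap (toTop W)) hf
  letI : Algebra (ΓAlg (Over.mk (𝟙 U₀))) (ΓAlg W) := (Γmap (toTop W)).hom.toRingHom.toAlgebra
  haveI h0' : Subsingleton (M.val.obj (op (Over.mk (𝟙 U₀)).left)) := h0
  haveI hs0 : Subsingleton (F.obj (pt (ΓAlg (Over.mk (𝟙 U₀))))) :=
    (tau Scheme.fppfPrecoverage M.val (Over.mk (𝟙 U₀))).symm.toEquiv.subsingleton
  have hz : ∀ t : (ΓAlg W : Type u) ⊗[(ΓAlg (Over.mk (𝟙 U₀)) : Type u)]
      F.obj (pt (ΓAlg (Over.mk (𝟙 U₀)))), t = 0 := by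
    intro t
    induction t using TensorProduct.induction_on with
    | zero => rfl
    | tmul s x => rw [Subsingleton.elim x 0, TensorProduct.tmul_zero]
    | add a b ha hb => rw [ha, hb, add_zero]
  have hs1 : Subsingleton (F.obj (pt (ΓAlg W))) := by
    refine ⟨fun y y' => ?_⟩
    obtain ⟨t, rfl⟩ := hb.2 y
    obtain ⟨t', rfl⟩ := hb.2 y'
    rw [hz t, hz t']
  haveI := hs1
  exact (tau Scheme.fppfPrecoverage M.val W).toEquiv.subsingleton

/-- vanishing on an affine open covering implies parasitic -/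
theorem parasitic_of_affine_cover (M : BigSite.Mod Scheme.fppfPrecoverage S)
    (hM : Adeq.adequateMod Scheme.fppfPrecoverage S M) {ι : Type u} (U : ι → S.Opens)
    (haff : ∀ i, IsAffineOpen (U i)) (hsup : (⨆ i, U i) = ⊤)
    (hvan : ∀ i, Subsingleton
      (BigSite.sectMod Scheme.fppfPrecoverage M ((BigSite.zarIncl S).obj (U i)))) :
    Adeq.parasitic Scheme.fppfPrecoverage S M := by
  intro X hX
  suffices h : ∀ x : M.val.obj (op X), x = 0 from ⟨fun x y => (h x).trans (h y).symm⟩
  intro x
  apply eq_zero_of_zeroSieve Scheme.fppfPrecoverage M x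
  rw [mem_Jf_iff]
  intro z
  have hs : X.hom z ∈ (⨆ i, U i) := by rw [hsup]; trivial
  obtain ⟨i, hi⟩ := TopologicalSpace.Opens.mem_iSup.1 hs
  have hz : z ∈ X.hom ⁻¹ᵁ (U i) := hi
  obtain ⟨_, ⟨(W' : X.left.Opens), hW', rfl⟩, hzW, hWV⟩ :=
    X.left.isBasis_affineOpens.exists_subset_of_mem_open hz (X.hom ⁻¹ᵁ (U i)).2
  let Y : Over S := Over.mk (W'.ι ≫ X.hom)
  let f : Y ⟶ X := Over.homMk W'.ι rfl
  have hrange : Set.range (W'.ι ≫ X.hom) ⊆ Set.range (U i).ι := by
    rintro _ ⟨w, rfl⟩
    rw [Scheme.Opens.range_ι]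
    have hw : (W'.ι w) ∈ (W' : Set X.left) := by
      have := Set.mem_range_self (f := W'.ι) w
      rw [Scheme.Opens.range_ι] at this
      exact this
    exact hWV hw
  let l : W'.toScheme ⟶ (U i).toScheme := IsOpenImmersion.lift (U i).ι (W'.ι ≫ X.hom) hrange
  have hl : l ≫ (U i).ι = W'.ι ≫ X.hom := IsOpenImmersion.lift_fac _ _ _
  haveI hU₀ : IsAffine ((BigSite.zarIncl S).obj (U i)).left := haff i
  let g : Y ⟶ (BigSite.zarIncl S).obj (U i) := Over.homMk l hl
  let W : Over ((BigSite.zarIncl S).obj (U i)) := Over.mk g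
  haveI : IsAffine W.left.left := hW'
  have hfl : Flat W.hom.left := by
    haveI := hX
    have h1 : Flat (l ≫ (U i).ι) := by rw [hl]; infer_instance
    exact MorphismProperty.of_postcomp (W := @Flat) (W' := @IsOpenImmersion) l (U i).ι
      inferInstance h1
  haveI hsub : Subsingleton (M.val.obj (op Y)) :=
    subsingleton_of_flat_over M hM ((BigSite.zarIncl S).obj (U i)) (hvan i) W hfl
  refine ⟨Y, f, Subsingleton.elim _ _, inferInstanceAs (Flat W'.ι),
    inferInstanceAs (LocallyOfFinitePresentation W'.ι), ?_⟩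
  change z ∈ Set.range W'.ι
  rw [Scheme.Opens.range_ι]
  exact hzW

/-- S8767 -/
theorem main8767 (S : Scheme.{u}) (M : BigSite.Mod Scheme.fppfPrecoverage S)
    (hM : Adeq.adequateMod Scheme.fppfPrecoverage S M) :
    List.TFAE [Adeq.parasitic Scheme.fppfPrecoverage S M,
      Adeq.parasiticFor Scheme.fppfPrecoverage S M,
      ∀ U : S.Opens, Subsingleton
        (BigSite.sectMod Scheme.fppfPrecoverage M ((BigSite.zarIncl S).obj U)),
      ∃ (ι : Type u) (U : ι → S.Opens), (∀ i, IsAffineOpen (U i)) ∧ (⨆ i, U i) = ⊤ ∧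
        ∀ i, Subsingleton
          (BigSite.sectMod Scheme.fppfPrecoverage M ((BigSite.zarIncl S).obj (U i)))] := by
  tfae_have 1 → 2 := by
    intro h P hP V g hg
    have hP' : P ∈ (Scheme.precoverage (@Flat.{u} ⊓ @LocallyOfFinitePresentation.{u})).coverings S :=
      hP
    exact h (Over.mk g) (hP'.2 hg).1
  tfae_have 2 → 3 := by
    intro h U
    have hcov : Presieve.ofArrows (fun V : S.Opens => V.toScheme) (fun V => V.ι) ∈
        Scheme.fppfPrecoverage.coverings S := by
      change _ ∈ (Scheme.precoverage (@Flat.{u} ⊓ @LocallyOfFinitePresentation.{u})).coverings S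
      rw [Scheme.ofArrows_mem_precoverage_iff]
      refine ⟨fun x => ⟨⊤, ?_⟩, fun V => ⟨inferInstance, inferInstance⟩⟩
      rw [Scheme.Opens.range_ι]
      trivial
    exact h hcov U.ι (Presieve.ofArrows.mk U)
  tfae_have 3 → 4 := by
    intro h
    exact ⟨S.affineOpens, fun i => i.1, fun i => i.2, iSup_affineOpens_eq_top S, fun i => h i.1⟩
  tfae_have 4 → 1 := by
    rintro ⟨ι, U, haff, hsup, hvan⟩
    exact parasitic_of_affine_cover M hM U haff hsup hvan
  tfae_finish

end

end Groth.Agent.Lib.AdeqShH4
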