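import Mathlib
import Groth.Prelude.Def_Adeq2
import Groth.Agent.Lib.AdeqShS_helper4
import Groth.Agent.Lib.AdeqColim_helper3

/-!
# Sheaf-level adequate modules, part T (helper4): colimits of adequate modules
-/

set_option autoImplicit false
set_option linter.unusedSectionVars false
universe u v

open CategoryTheory Limits TensorProduct Adeq AlgebraicGeometry Opposite
open Groth.Agent.Lib.AdeqH3

namespace Groth.Agent.Lib.AdeqShH4

noncomputable section

section Colim

variable (K : Precoverage Scheme.{u}) [BigSite.OSh K] {S : Scheme.{u}} {R : CommRingCat.{u}}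
  (a : Spec R ⟶ S) {J : Type (u + 1)} [SmallCategory J]

/-- the chart functor preserves colimits -/
theorem preservesColimit_toMVFPre (D' : J ⥤ PresheafOfModules.{u + 1} (BigSite.ORing K S).obj) :
    PreservesColimit D' (toMVFPre K a) := by
  refine ⟨fun {c} hc => ⟨?_⟩⟩
  refine PresheafOfModules.evaluationJointlyReflectsColimits _ _ (fun X => ?_)
  refine isColimitOfReflects (forget₂ (ModuleCat _) AddCommGrpCat.{u + 1}) ?_
  exact isColimitOfPreserves (PresheafOfModules.evaluation _
    (op ((specOver a).obj (op X.unop.unop))) ⋙ forget₂ _ AddCommGrpCat.{u + 1}) hc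

end Colim

/-- S8764 -/
theorem main8764 (S : Scheme.{u}) {J : Type (u + 1)} [SmallCategory J]
    (D : J ⥤ BigSite.Mod Scheme.fppfPrecoverage S)
    (hD : ∀ j, Adeq.adequateMod Scheme.fppfPrecoverage S (D.obj j)) :
    Adeq.adequateMod Scheme.fppfPrecoverage S (colimit D) := by
  let e : D ≅ (D ⋙ SheafOfModules.forget (BigSite.ORing Scheme.fppfPrecoverage S)) ⋙
      PresheafOfModules.sheafification (𝟙 (BigSite.ORing Scheme.fppfPrecoverage S).obj) :=
    Functor.isoWhiskerLeft D (asIso (PresheafOfModules.sheafificationAdjunction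
      (𝟙 (BigSite.ORing Scheme.fppfPrecoverage S).obj)).counit).symm
  let e2 : colimit D ≅ (PresheafOfModules.sheafification
      (𝟙 (BigSite.ORing Scheme.fppfPrecoverage S).obj)).obj
        (colimit (D ⋙ SheafOfModules.forget (BigSite.ORing Scheme.fppfPrecoverage S))) :=
    HasColimit.isoOfNatIso e ≪≫ (preservesColimitIso (PresheafOfModules.sheafification
      (𝟙 (BigSite.ORing Scheme.fppfPrecoverage S).obj))
      (D ⋙ SheafOfModules.forget (BigSite.ORing Scheme.fppfPrecoverage S))).symm
  have hP : ∀ (R : CommRingCat.{u}) (a : Spec R ⟶ S),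
      Adeq.adequate R ((toMVFPre Scheme.fppfPrecoverage a).obj
        (colimit (D ⋙ SheafOfModules.forget (BigSite.ORing Scheme.fppfPrecoverage S)))) := by
    intro R a
    have := preservesColimit_toMVFPre Scheme.fppfPrecoverage a
      (D ⋙ SheafOfModules.forget (BigSite.ORing Scheme.fppfPrecoverage S))
    have e3 := preservesColimitIso (toMVFPre Scheme.fppfPrecoverage a)
      (D ⋙ SheafOfModules.forget (BigSite.ORing Scheme.fppfPrecoverage S))
    exact (Adeq.adequate R).prop_of_iso e3.symm
      (adequate_colimit _ (fun j => main8755 S (D.obj j) (hD j) R a))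
  exact (Adeq.adequateMod Scheme.fppfPrecoverage S).prop_of_iso e2.symm (main8760 _ hP)

end

end Groth.Agent.Lib.AdeqShH4
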