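import Mathlib
import Groth.Agent.S8783

set_option autoImplicit false
universe u
open CategoryTheory Limits

namespace Groth.Agent.Lib.AdeqTFH1

section diagram

variable {F₁ F₀ F₂ G₁ G₀ G₂ H₁ H₀ H₂ : Type*}
  [AddCommGroup F₁] [AddCommGroup F₀] [AddCommGroup F₂]
  [AddCommGroup G₁] [AddCommGroup G₀] [AddCommGroup G₂]
  [AddCommGroup H₁] [AddCommGroup H₀] [AddCommGroup H₂]

lemma bottom_row
    (aF : F₁ →+ F₀) (bF : F₀ →+ F₂) (aG : G₁ →+ G₀) (bG : G₀ →+ G₂)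
    (aH : H₁ →+ H₀) (bH : H₀ →+ H₂)
    (φ₀ : F₀ →+ G₀) (φ₂ : F₂ →+ G₂)
    (ψ₁ : G₁ →+ H₁) (ψ₀ : G₀ →+ H₀) (ψ₂ : G₂ →+ H₂)
    (cφb : ∀ x, φ₂ (bF x) = bG (φ₀ x))
    (cψa : ∀ x, ψ₀ (aG x) = aH (ψ₁ x)) (cψb : ∀ x, ψ₂ (bG x) = bH (ψ₀ x))
    (sψ₀ : Function.Surjective ψ₀) (sψ₂ : Function.Surjective ψ₂)
    (zψφ₀ : ∀ x, ψ₀ (φ₀ x) = 0)
    (eψφ₂ : ∀ x, ψ₂ x = 0 → ∃ y, φ₂ y = x)
    (zH : ∀ x, bH (aH x) = 0)
    (hF : Function.Surjective bF ∧ bF.ker = aF.range)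
    (hG : Function.Surjective bG ∧ bG.ker = aG.range) :
    Function.Surjective bH ∧ bH.ker = aH.range := by
  obtain ⟨sF, -⟩ := hF
  obtain ⟨sG, eG⟩ := hG
  constructor
  · intro h₂
    obtain ⟨g₂, rfl⟩ := sψ₂ h₂
    obtain ⟨g, rfl⟩ := sG g₂
    exact ⟨ψ₀ g, (cψb g).symm⟩
  · ext h
    rw [AddMonoidHom.mem_ker, AddMonoidHom.mem_range]
    constructor
    · intro hh
      obtain ⟨g, rfl⟩ := sψ₀ h
      have h1 : ψ₂ (bG g) = 0 := by rw [cψb, hh]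
      obtain ⟨f₂, hf₂⟩ := eψφ₂ _ h1
      obtain ⟨f, rfl⟩ := sF f₂
      have h2 : g - φ₀ f ∈ bG.ker := by
        rw [AddMonoidHom.mem_ker, map_sub, ← cφb, hf₂, sub_self]
      rw [eG] at h2
      obtain ⟨g₁, hg₁⟩ := h2
      refine ⟨ψ₁ g₁, ?_⟩
      rw [← cψa, hg₁, map_sub, zψφ₀, sub_zero]
    · rintro ⟨h₁, rfl⟩
      exact zH h₁

lemma middle_row
    (aF : F₁ →+ F₀) (bF : F₀ →+ F₂) (aG : G₁ →+ G₀) (bG : G₀ →+ G₂)
    (aH : H₁ →+ H₀) (bH : H₀ →+ H₂)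
    (φ₁ : F₁ →+ G₁) (φ₀ : F₀ →+ G₀) (φ₂ : F₂ →+ G₂)
    (ψ₁ : G₁ →+ H₁) (ψ₀ : G₀ →+ H₀) (ψ₂ : G₂ →+ H₂)
    (cφa : ∀ x, φ₀ (aF x) = aG (φ₁ x)) (cφb : ∀ x, φ₂ (bF x) = bG (φ₀ x))
    (cψa : ∀ x, ψ₀ (aG x) = aH (ψ₁ x)) (cψb : ∀ x, ψ₂ (bG x) = bH (ψ₀ x))
    (sψ₁ : Function.Surjective ψ₁) (sψ₀ : Function.Surjective ψ₀)
    (iφ₂ : Function.Injective φ₂)
    (eψφ₀ : ∀ x, ψ₀ x = 0 → ∃ y, φ₀ y = x) (eψφ₂ : ∀ x, ψ₂ x = 0 → ∃ y, φ₂ y = x)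
    (zG : ∀ x, bG (aG x) = 0)
    (hF : Function.Surjective bF ∧ bF.ker = aF.range)
    (hH : Function.Surjective bH ∧ bH.ker = aH.range) :
    Function.Surjective bG ∧ bG.ker = aG.range := by
  obtain ⟨sF, eF⟩ := hF
  obtain ⟨sH, eH⟩ := hH
  constructor
  · intro g₂
    obtain ⟨h, hh⟩ := sH (ψ₂ g₂)
    obtain ⟨g, rfl⟩ := sψ₀ h
    have h1 : ψ₂ (g₂ - bG g) = 0 := by rw [map_sub, cψb, hh, sub_self]
    obtain ⟨f₂, hf₂⟩ := eψφ₂ _ h1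
    obtain ⟨f, rfl⟩ := sF f₂
    refine ⟨g + φ₀ f, ?_⟩
    rw [map_add, ← cφb, hf₂]; abel
  · ext g
    rw [AddMonoidHom.mem_ker, AddMonoidHom.mem_range]
    constructor
    · intro hg
      have h1 : ψ₀ g ∈ bH.ker := by rw [AddMonoidHom.mem_ker, ← cψb, hg, map_zero]
      rw [eH] at h1
      obtain ⟨h₁, hh₁⟩ := h1
      obtain ⟨g₁, rfl⟩ := sψ₁ h₁
      have h2 : ψ₀ (g - aG g₁) = 0 := by rw [map_sub, cψa, hh₁, sub_self]
      obtain ⟨f, hf⟩ := eψφ₀ _ h2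
      have h3 : φ₂ (bF f) = φ₂ 0 := by rw [cφb, hf, map_sub, hg, zG, sub_self, map_zero]
      have h4 : f ∈ bF.ker := by rw [AddMonoidHom.mem_ker]; exact iφ₂ h3
      rw [eF] at h4
      obtain ⟨f₁, rfl⟩ := h4
      refine ⟨g₁ + φ₁ f₁, ?_⟩
      rw [map_add, ← cφa, hf]; abel
    · rintro ⟨g₁, rfl⟩
      exact zG g₁

end diagram

section gen

universe v₀ v₁' u₁' u₀
variable {D : Type u₁'} [Category.{v₁'} D] {R : Dᵒᵖ ⥤ RingCat.{u₀}}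
  (S : ShortComplex (PresheafOfModules.{v₀} R))

lemma gen_inj (hS : S.ShortExact) (X : Dᵒᵖ) : Function.Injective (S.f.app X) :=
  (hS.map_of_exact (PresheafOfModules.evaluation.{v₀} R X)).moduleCat_injective_f

lemma gen_surj (hS : S.ShortExact) (X : Dᵒᵖ) : Function.Surjective (S.g.app X) :=
  (hS.map_of_exact (PresheafOfModules.evaluation.{v₀} R X)).moduleCat_surjective_g

lemma gen_exact (hS : S.ShortExact) (X : Dᵒᵖ) (x : S.X₂.obj X) (h : S.g.app X x = 0) :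
    ∃ y, S.f.app X y = x :=
  (ShortComplex.moduleCat_exact_iff _).mp
    (hS.map_of_exact (PresheafOfModules.evaluation.{v₀} R X)).exact x h

lemma gen_zero (X : Dᵒᵖ) (y : S.X₁.obj X) : S.g.app X (S.f.app X y) = 0 :=
  (S.map (PresheafOfModules.evaluation.{v₀} R X)).moduleCat_zero_apply y

end gen

section tf

variable {A : Type u} [CommRing A] (B : Adeq.Alg A)

lemma inl_fst (N : ModuleCat.{u} B) : AdeqTF.inl B N ≫ AdeqTF.fst B N = 𝟙 B := by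
  apply CommAlgCat.hom_ext
  refine AlgHom.ext fun x => ?_
  show TrivSqZeroExt.fst (algebraMap (B : Type u) (TrivSqZeroExt (B : Type u) N) x) = x
  rw [TrivSqZeroExt.algebraMap_eq_inl, TrivSqZeroExt.fst_inl]

/-- additive version of `F.map` -/
noncomputable def mapAdd (F : Adeq.MVF A) {X Y : (Adeq.Alg A)ᵒᵖᵒᵖ} (f : X ⟶ Y) :
    F.obj X →+ F.obj Y :=
  (F.map f).hom.toAddMonoidHom

lemma mapAdd_apply (F : Adeq.MVF A) {X Y : (Adeq.Alg A)ᵒᵖᵒᵖ} (f : X ⟶ Y) (x : F.obj X) :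
    mapAdd F f x = F.map f x := rfl

/-- additive version of `φ.app` -/
noncomputable def appAdd {F G : Adeq.MVF A} (φ : F ⟶ G) (X : (Adeq.Alg A)ᵒᵖᵒᵖ) :
    F.obj X →+ G.obj X :=
  (φ.app X).hom.toAddMonoidHom

lemma appAdd_apply {F G : Adeq.MVF A} (φ : F ⟶ G) (X : (Adeq.Alg A)ᵒᵖᵒᵖ) (x : F.obj X) :
    appAdd φ X x = φ.app X x := rfl

lemma appAdd_natural {F G : Adeq.MVF A} (φ : F ⟶ G) {X Y : (Adeq.Alg A)ᵒᵖᵒᵖ} (f : X ⟶ Y)
    (x : F.obj X) : appAdd φ Y (mapAdd F f x) = mapAdd G f (appAdd φ X x) :=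
  PresheafOfModules.naturality_apply φ f x

lemma mapAdd_comp (F : Adeq.MVF A) {X Y Z : (Adeq.Alg A)ᵒᵖᵒᵖ} (f : X ⟶ Y) (g : Y ⟶ Z)
    (x : F.obj X) : mapAdd F (f ≫ g) x = mapAdd F g (mapAdd F f x) :=
  F.map_comp_apply f g x

lemma mapAdd_id (F : Adeq.MVF A) (X : (Adeq.Alg A)ᵒᵖᵒᵖ) (x : F.obj X) :
    mapAdd F (𝟙 X) x = x := by
  show F.map (𝟙 X) x = x
  rw [F.map_id]
  rfl

lemma mapAdd_congr (F : Adeq.MVF A) {X Y : (Adeq.Alg A)ᵒᵖᵒᵖ} {f g : X ⟶ Y} (h : f = g)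
    (x : F.obj X) : mapAdd F f x = mapAdd F g x := by rw [h]

lemma mem_tangent {F : Adeq.MVF A} {N : ModuleCat.{u} B}
    (x : F.obj (Adeq.pt (AdeqTF.ext B N))) :
    x ∈ AdeqTF.tangent B N F ↔ mapAdd F (Adeq.ptHom (AdeqTF.fst B N)) x = 0 := Iff.rfl

/-- the map on tangent modules induced by a morphism of functors -/
noncomputable def col {F G : Adeq.MVF A} (φ : F ⟶ G) (N : ModuleCat.{u} B) :
    AdeqTF.tangent B N F →+ AdeqTF.tangent B N G :=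
  ((appAdd φ (Adeq.pt (AdeqTF.ext B N))).comp (AdeqTF.tangent B N F).subtype).codRestrict _
    (fun x => by
      have hx : mapAdd F (Adeq.ptHom (AdeqTF.fst B N)) x.1 = 0 := x.2
      show mapAdd G (Adeq.ptHom (AdeqTF.fst B N)) (appAdd φ _ x.1) = 0
      rw [← appAdd_natural, hx, map_zero])

lemma col_val {F G : Adeq.MVF A} (φ : F ⟶ G) (N : ModuleCat.{u} B)
    (x : AdeqTF.tangent B N F) :
    ((col B φ N x : AdeqTF.tangent B N G) : G.obj (Adeq.pt (AdeqTF.ext B N))) =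
      appAdd φ _ x.1 := rfl

lemma col_natural {F G : Adeq.MVF A} (φ : F ⟶ G) {N N' : ModuleCat.{u} B} (g : N ⟶ N')
    (x : AdeqTF.tangent B N F) :
    col B φ N' (AdeqTF.tangentMap B F g x) = AdeqTF.tangentMap B G g (col B φ N x) := by
  apply Subtype.ext
  show appAdd φ _ (mapAdd F (Adeq.ptHom (AdeqTF.map B g)) x.1) =
    mapAdd G (Adeq.ptHom (AdeqTF.map B g)) (appAdd φ _ x.1)
  exact appAdd_natural φ _ x.1

variable (C : ShortComplex (Adeq.MVF A)) (hC : C.ShortExact)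

include hC in
lemma app_inj (X : (Adeq.Alg A)ᵒᵖᵒᵖ) : Function.Injective (appAdd C.f X) :=
  gen_inj C hC X

include hC in
lemma app_surj (X : (Adeq.Alg A)ᵒᵖᵒᵖ) : Function.Surjective (appAdd C.g X) :=
  gen_surj C hC X

include hC in
lemma app_exact (X : (Adeq.Alg A)ᵒᵖᵒᵖ) (x : C.X₂.obj X) (h : appAdd C.g X x = 0) :
    ∃ y, appAdd C.f X y = x :=
  gen_exact C hC X x h

lemma app_zero (X : (Adeq.Alg A)ᵒᵖᵒᵖ) (y : C.X₁.obj X) : appAdd C.g X (appAdd C.f X y) = 0 :=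
  gen_zero C X y

include hC in
lemma col_injective (N : ModuleCat.{u} B) : Function.Injective (col B C.f N) := by
  intro x y h
  apply Subtype.ext
  apply app_inj C hC
  exact congrArg Subtype.val h

lemma col_zero (N : ModuleCat.{u} B) (x : AdeqTF.tangent B N C.X₁) :
    col B C.g N (col B C.f N x) = 0 := by
  apply Subtype.ext
  exact app_zero C _ x.1

include hC in
lemma col_exact (N : ModuleCat.{u} B) (x : AdeqTF.tangent B N C.X₂)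
    (h : col B C.g N x = 0) : ∃ y, col B C.f N y = x := by
  have h1 : appAdd C.g _ x.1 = 0 := congrArg Subtype.val h
  obtain ⟨y₀, hy₀⟩ := app_exact C hC _ x.1 h1
  have hy : y₀ ∈ AdeqTF.tangent B N C.X₁ := by
    rw [mem_tangent]
    apply app_inj C hC
    rw [appAdd_natural, hy₀, map_zero]
    exact x.2
  exact ⟨⟨y₀, hy⟩, Subtype.ext hy₀⟩

include hC in
lemma col_surjective (N : ModuleCat.{u} B) : Function.Surjective (col B C.g N) := by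
  intro h
  obtain ⟨g₀, hg₀⟩ := app_surj C hC (Adeq.pt (AdeqTF.ext B N)) h.1
  obtain ⟨r, hr⟩ : ∃ r, r = mapAdd C.X₂ (Adeq.ptHom (AdeqTF.inl B N))
      (mapAdd C.X₂ (Adeq.ptHom (AdeqTF.fst B N)) g₀) := ⟨_, rfl⟩
  have e : Adeq.ptHom (AdeqTF.inl B N) ≫ Adeq.ptHom (AdeqTF.fst B N) = 𝟙 _ :=
    congrArg Adeq.ptHom (inl_fst B N)
  have hmem : g₀ - r ∈ AdeqTF.tangent B N C.X₂ := by
    rw [mem_tangent, map_sub, hr, ← mapAdd_comp, mapAdd_congr _ e, mapAdd_id, sub_self]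
  refine ⟨⟨g₀ - r, hmem⟩, Subtype.ext ?_⟩
  show appAdd C.g _ (g₀ - r) = h.1
  have h2 : mapAdd C.X₃ (Adeq.ptHom (AdeqTF.fst B N)) h.1 = 0 := h.2
  rw [map_sub, hr, appAdd_natural, appAdd_natural, hg₀, h2, map_zero, sub_zero]

end tf

end Groth.Agent.Lib.AdeqTFH1
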