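import Mathlib.Algebra.Homology.HomologicalComplexAbelian
import Mathlib.Algebra.Homology.Single
import Mathlib.Algebra.Homology.HomologicalComplexLimits
import Mathlib.CategoryTheory.Limits.Constructions.EventuallyConstant
import Mathlib.Algebra.Homology.ShortComplex.ShortExact
import Mathlib.CategoryTheory.Filtered.Basic

/-!
# Brutal truncations `σ_{≥ m} K` of cochain complexes, as subcomplexes (helper2)

`sigmaGE K m` has `K.X n` in degrees `n ≥ m` and `0` below; `incl : sigmaGE K m ⟶ K`,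
transition maps `trans : sigmaGE K m' ⟶ sigmaGE K m` for `m ≤ m'`,
the short exact sequence `0 → σ_{≥ m+1} K → σ_{≥ m} K → K^m[-m] → 0`,
and `K = colim_k σ_{≥ b-k} K`.
-/

open CategoryTheory Limits ZeroObject

namespace Groth.Agent.Lib.BrutalTrunc

section

variable {A : Type*} [Category A] [HasZeroMorphisms A] [HasZeroObject A]
variable (K : CochainComplex A ℤ)

namespace Aux

/-- the degree `n` object of `σ_{≥ m} K` -/
noncomputable def X (m n : ℤ) : A := if m ≤ n then K.X n else 0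

noncomputable def ι (m n : ℤ) : X K m n ⟶ K.X n :=
  if h : m ≤ n then eqToHom (if_pos h) else 0

noncomputable def ρ (m n : ℤ) : K.X n ⟶ X K m n :=
  if h : m ≤ n then eqToHom (if_pos h).symm else 0

variable {m n : ℤ}

lemma isZero_X (h : ¬ m ≤ n) : IsZero (X K m n) := by
  unfold X
  rw [if_neg h]
  exact isZero_zero A

lemma ι_eq_zero (h : ¬ m ≤ n) : ι K m n = 0 := dif_neg h

lemma ρ_eq_zero (h : ¬ m ≤ n) : ρ K m n = 0 := dif_neg h

@[reassoc]
lemma ρ_ι (h : m ≤ n) : ρ K m n ≫ ι K m n = 𝟙 _ := by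
  simp [ρ, ι, h]

variable (m n) in
@[reassoc]
lemma ι_ρ : ι K m n ≫ ρ K m n = 𝟙 _ := by
  by_cases h : m ≤ n
  · simp [ρ, ι, h]
  · exact (isZero_X K h).eq_of_src _ _

variable (m) in
@[reassoc]
lemma ι_d_ρ_ι (i j : ℤ) :
    ι K m i ≫ K.d i j ≫ ρ K m j ≫ ι K m j = ι K m i ≫ K.d i j := by
  by_cases hj : m ≤ j
  · rw [ρ_ι K hj, Category.comp_id]
  · by_cases hij : i + 1 = j
    · have hi : ¬ m ≤ i := by omega
      simp [ι_eq_zero K hi]
    · have : K.d i j = 0 := K.shape i j (fun h => hij h)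
      simp [this]

@[reassoc]
lemma ι_ρ_ι {m m' : ℤ} (h : m ≤ m') (n : ℤ) :
    ι K m' n ≫ ρ K m n ≫ ι K m n = ι K m' n := by
  by_cases hn : m ≤ n
  · rw [ρ_ι K hn, Category.comp_id]
  · have : ¬ m' ≤ n := by omega
    simp [ι_eq_zero K this]

end Aux

/-- the brutal truncation `σ_{≥ m} K` -/
noncomputable def sigmaGE (m : ℤ) : CochainComplex A ℤ where
  X n := Aux.X K m n
  d i j := Aux.ι K m i ≫ K.d i j ≫ Aux.ρ K m j
  shape i j hij := by
    rw [K.shape i j hij]
    simp
  d_comp_d' i j k _ _ := by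
    simp only [Category.assoc]
    rw [Aux.ι_d_ρ_ι_assoc]
    simp

/-- the inclusion `(σ_{≥ m} K)^n ⟶ K^n` -/
noncomputable def ι (m n : ℤ) : (sigmaGE K m).X n ⟶ K.X n := Aux.ι K m n

/-- the retraction `K^n ⟶ (σ_{≥ m} K)^n` -/
noncomputable def ρ (m n : ℤ) : K.X n ⟶ (sigmaGE K m).X n := Aux.ρ K m n

lemma sigmaGE_d (m i j : ℤ) : (sigmaGE K m).d i j = ι K m i ≫ K.d i j ≫ ρ K m j := rfl

variable {m n : ℤ}

lemma isZero_sigmaGE_X (h : ¬ m ≤ n) : IsZero ((sigmaGE K m).X n) := Aux.isZero_X K h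

lemma ι_eq_zero (h : ¬ m ≤ n) : ι K m n = 0 := Aux.ι_eq_zero K h

lemma ρ_eq_zero (h : ¬ m ≤ n) : ρ K m n = 0 := Aux.ρ_eq_zero K h

@[reassoc]
lemma ρ_ι (h : m ≤ n) : ρ K m n ≫ ι K m n = 𝟙 _ := Aux.ρ_ι K h

variable (m n) in
@[reassoc (attr := simp)]
lemma ι_ρ : ι K m n ≫ ρ K m n = 𝟙 _ := Aux.ι_ρ K m n

lemma isIso_ι (h : m ≤ n) : IsIso (ι K m n) := ⟨ρ K m n, ι_ρ K m n, ρ_ι K h⟩

lemma isIso_ρ (h : m ≤ n) : IsIso (ρ K m n) := ⟨ι K m n, ρ_ι K h, ι_ρ K m n⟩

variable (m) in
@[reassoc]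
lemma ι_d_ρ_ι (i j : ℤ) :
    ι K m i ≫ K.d i j ≫ ρ K m j ≫ ι K m j = ι K m i ≫ K.d i j := Aux.ι_d_ρ_ι K m i j

@[reassoc]
lemma ι_ρ_ι {m m' : ℤ} (h : m ≤ m') (n : ℤ) :
    ι K m' n ≫ ρ K m n ≫ ι K m n = ι K m' n := Aux.ι_ρ_ι K h n

/-- the inclusion `σ_{≥ m} K ⟶ K` -/
noncomputable def incl (m : ℤ) : sigmaGE K m ⟶ K where
  f n := ι K m n
  comm' i j _ := by
    rw [sigmaGE_d]
    simp only [Category.assoc]
    rw [ι_d_ρ_ι]

@[simp] lemma incl_f (m n : ℤ) : (incl K m).f n = ι K m n := rfl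

/-- the transition map `σ_{≥ m'} K ⟶ σ_{≥ m} K` for `m ≤ m'` -/
noncomputable def trans {m m' : ℤ} (h : m ≤ m') : sigmaGE K m' ⟶ sigmaGE K m where
  f n := ι K m' n ≫ ρ K m n
  comm' i j _ := by
    rw [sigmaGE_d, sigmaGE_d]
    simp only [Category.assoc]
    rw [ι_ρ_ι_assoc K h, ι_d_ρ_ι_assoc]

@[simp] lemma trans_f {m m' : ℤ} (h : m ≤ m') (n : ℤ) :
    (trans K h).f n = ι K m' n ≫ ρ K m n := rfl

@[reassoc (attr := simp)]
lemma trans_incl {m m' : ℤ} (h : m ≤ m') : trans K h ≫ incl K m = incl K m' := by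
  ext n
  simp [ι_ρ_ι K h n]

lemma trans_refl (m : ℤ) : trans K (le_refl m) = 𝟙 _ := by
  ext n
  simp

lemma trans_trans {m m' m'' : ℤ} (h : m ≤ m') (h' : m' ≤ m'') :
    trans K h' ≫ trans K h = trans K (h.trans h') := by
  ext n
  simp [ι_ρ_ι_assoc K h' n]

lemma isIso_trans_f {m m' : ℤ} (h : m ≤ m') (n : ℤ) (hn : m' ≤ n) :
    IsIso ((trans K h).f n) := by
  haveI := isIso_ι K hn
  haveI := isIso_ρ K (h.trans hn)
  rw [trans_f]
  infer_instance

lemma isZero_sigmaGE_X' (m n : ℤ) (h : IsZero (K.X n)) : IsZero ((sigmaGE K m).X n) := by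
  by_cases hn : m ≤ n
  · haveI := isIso_ι K hn
    exact h.of_iso (asIso (ι K m n))
  · exact isZero_sigmaGE_X K hn

/-- the projection `σ_{≥ m} K ⟶ K^m[-m]` -/
noncomputable def proj (m : ℤ) :
    sigmaGE K m ⟶ (HomologicalComplex.single A (ComplexShape.up ℤ) m).obj (K.X m) :=
  HomologicalComplex.mkHomToSingle (ι K m m) (by
    intro i hi
    have hi' : i + 1 = m := hi
    have : ¬ m ≤ i := by omega
    rw [sigmaGE_d]
    simp [ι_eq_zero K this])

@[simp] lemma proj_f (m : ℤ) :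
    (proj K m).f m = ι K m m ≫ (HomologicalComplex.singleObjXSelf (ComplexShape.up ℤ) m (K.X m)).inv :=
  HomologicalComplex.mkHomToSingle_f _ _

lemma isIso_proj_f (m : ℤ) : IsIso ((proj K m).f m) := by
  haveI := isIso_ι K (le_refl m)
  rw [proj_f]
  infer_instance

/-- the tower `k ↦ σ_{≥ b - k} K` -/
noncomputable def tower (b : ℤ) : ℕ ⥤ CochainComplex A ℤ where
  obj k := sigmaGE K (b - k)
  map {k k'} f := trans K (show b - (k' : ℤ) ≤ b - (k : ℤ) by have := leOfHom f; omega)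
  map_id k := trans_refl K _
  map_comp f g := (trans_trans K _ _).symm

/-- the cocone with point `K` over `tower K b` -/
noncomputable def towerCocone (b : ℤ) : Cocone (tower K b) where
  pt := K
  ι :=
    { app := fun k => incl K (b - k)
      naturality := fun k k' f => by
        dsimp [tower]
        rw [Category.comp_id]
        exact trans_incl K _ }

/-- `K` is the colimit of its brutal truncations `σ_{≥ b - k} K`. -/
noncomputable def isColimitTowerCocone (b : ℤ) : IsColimit (towerCocone K b) := by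
  apply HomologicalComplex.isColimitOfEval
  intro n
  have hconst : (tower K b ⋙ HomologicalComplex.eval A (ComplexShape.up ℤ) n).IsEventuallyConstantFrom
      (b - n).toNat := by
    intro j f
    have hj := leOfHom f
    exact isIso_trans_f K (show b - (j : ℤ) ≤ b - ((b - n).toNat : ℤ) by omega) n (by omega)
  haveI : IsIso (((HomologicalComplex.eval A (ComplexShape.up ℤ) n).mapCocone
      (towerCocone K b)).ι.app (b - n).toNat) :=
    isIso_ι K (by omega)
  exact hconst.isColimitOfIsIso _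

end

section Abelian

variable {A : Type*} [Category A] [Abelian A]
variable (K : CochainComplex A ℤ)

/-- the short complex `σ_{≥ m+1} K ⟶ σ_{≥ m} K ⟶ K^m[-m]` -/
noncomputable def sc (m m' : ℤ) (h : m + 1 = m') : ShortComplex (CochainComplex A ℤ) :=
  ShortComplex.mk (trans K (show m ≤ m' by omega)) (proj K m) (by
    apply HomologicalComplex.to_single_hom_ext
    have : ¬ m' ≤ m := by omega
    simp [ι_eq_zero K this])

lemma sc_shortExact (m m' : ℤ) (h : m + 1 = m') : (sc K m m' h).ShortExact := by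
  refine (HomologicalComplex.shortExact_iff_degreewise_shortExact _).2 (fun n => ?_)
  by_cases h1 : m' ≤ n
  · -- `f` iso, `X₃` zero
    have hZ : IsZero ((sc K m m' h).map (HomologicalComplex.eval A (ComplexShape.up ℤ) n)).X₃ :=
      HomologicalComplex.isZero_single_obj_X (ComplexShape.up ℤ) _ _ _ (by omega)
    haveI : IsIso ((sc K m m' h).map (HomologicalComplex.eval A (ComplexShape.up ℤ) n)).f :=
      isIso_trans_f K (show m ≤ m' by omega) n h1
    exact
      { exact := (ShortComplex.exact_iff_epi _ (hZ.eq_of_tgt _ _)).2 inferInstance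
        mono_f := inferInstance
        epi_g := hZ.epi _ }
  · by_cases h2 : n = m
    · subst h2
      have hZ : IsZero ((sc K n m' h).map (HomologicalComplex.eval A (ComplexShape.up ℤ) n)).X₁ :=
        isZero_sigmaGE_X K h1
      haveI : IsIso ((sc K n m' h).map (HomologicalComplex.eval A (ComplexShape.up ℤ) n)).g :=
        isIso_proj_f K n
      exact
        { exact := (ShortComplex.exact_iff_mono _ (hZ.eq_of_src _ _)).2 inferInstance
          mono_f := hZ.mono _
          epi_g := inferInstance }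
    · have hZ1 : IsZero ((sc K m m' h).map (HomologicalComplex.eval A (ComplexShape.up ℤ) n)).X₁ :=
        isZero_sigmaGE_X K h1
      have hZ2 : IsZero ((sc K m m' h).map (HomologicalComplex.eval A (ComplexShape.up ℤ) n)).X₂ :=
        isZero_sigmaGE_X K (by omega)
      have hZ3 : IsZero ((sc K m m' h).map (HomologicalComplex.eval A (ComplexShape.up ℤ) n)).X₃ :=
        HomologicalComplex.isZero_single_obj_X (ComplexShape.up ℤ) _ _ _ h2
      exact
        { exact := ShortComplex.exact_of_isZero_X₂ _ hZ2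
          mono_f := hZ1.mono _
          epi_g := hZ3.epi _ }

end Abelian

end Groth.Agent.Lib.BrutalTrunc
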