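import Groth.Agent.Lib.DRingLT_helper2

/-!
# Terms of the tensor product of two complexes of modules (helper2)
-/

set_option autoImplicit false
universe u
open CategoryTheory Limits MonoidalCategory

namespace Groth.Agent.Lib.DRingLT

section Cat

universe w v' u'

variable {C : Type u'} [Category.{v'} C] [Preadditive C] [HasFiniteBiproducts C]

open Classical in
/-- a coproduct with finite support is a finite biproduct -/
theorem nonempty_sigma_iso_biproduct {I : Type w} (f : I → C) [HasCoproduct f] (S : Finset I)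
    (hz : ∀ i, i ∉ S → IsZero (f i)) : Nonempty (∐ f ≅ ⨁ (fun i : S => f i.1)) := by
  refine ⟨⟨Sigma.desc (fun i => if h : i ∈ S then biproduct.ι (fun i : S => f i.1) ⟨i, h⟩ else 0),
    biproduct.desc (fun i : S => Sigma.ι f i.1), ?_, ?_⟩⟩
  · apply Sigma.hom_ext
    intro i
    rw [Sigma.ι_desc_assoc]
    by_cases h : i ∈ S
    · rw [dif_pos h, biproduct.ι_desc, Category.comp_id]
    · exact (hz i h).eq_of_src _ _
  · apply biproduct.hom_ext'
    rintro ⟨i, hi⟩
    rw [biproduct.ι_desc_assoc, Sigma.ι_desc, dif_pos hi, Category.comp_id]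

omit [Preadditive C] [HasFiniteBiproducts C] in
/-- a coproduct of zero objects is zero -/
theorem isZero_sigma [HasZeroMorphisms C] {I : Type w} (f : I → C) [HasCoproduct f]
    (hz : ∀ i, IsZero (f i)) : IsZero (∐ f) := by
  rw [IsZero.iff_id_eq_zero]
  apply Sigma.hom_ext
  intro i
  exact (hz i).eq_of_src _ _

omit [Preadditive C] [HasFiniteBiproducts C] in
/-- a coproduct of projective objects is projective (any index universe) -/
theorem projective_sigma_cat {I : Type w} (f : I → C) [HasCoproduct f]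
    (hf : ∀ i, Projective (f i)) : Projective (∐ f) where
  factors g e _ := ⟨Sigma.desc fun b => Projective.factorThru (Sigma.ι f b ≫ g) e, by
    apply Sigma.hom_ext
    intro b
    rw [Sigma.ι_desc_assoc, Projective.factorThru_comp]⟩

end Cat

variable {R : Type u} [CommRing R]

section Mod

variable {I : Type} (f : I → ModuleCat.{u} R) [HasCoproduct f]

theorem finite_sigma (S : Finset I) (hz : ∀ i, i ∉ S → IsZero (f i))
    (hf : ∀ i, Module.Finite R (f i)) : Module.Finite R (∐ f : ModuleCat.{u} R) := by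
  obtain ⟨e⟩ := nonempty_sigma_iso_biproduct f S hz
  let e' := e ≪≫ ModuleCat.biproductIsoPi (fun i : S => f i.1)
  haveI : ∀ i : S, Module.Finite R (f i.1) := fun i => hf i.1
  exact Module.Finite.equiv e'.toLinearEquiv.symm

theorem free_sigma (S : Finset I) (hz : ∀ i, i ∉ S → IsZero (f i))
    (hf : ∀ i, Module.Free R (f i)) : Module.Free R (∐ f : ModuleCat.{u} R) := by
  obtain ⟨e⟩ := nonempty_sigma_iso_biproduct f S hz
  let e' := e ≪≫ ModuleCat.biproductIsoPi (fun i : S => f i.1)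
  haveI : ∀ i : S, Module.Free R (f i.1) := fun i => hf i.1
  exact Module.Free.of_equiv e'.toLinearEquiv.symm

theorem projective_sigma (hf : ∀ i, Module.Projective R (f i)) :
    Module.Projective R (∐ f : ModuleCat.{u} R) := by
  haveI : ∀ i, Projective (f i) := fun i => by
    haveI := hf i
    have h := (IsProjective.iff_projective (R := R) (P := f i)).1 inferInstance
    exact h
  have h : Projective (∐ f : ModuleCat.{u} R) := projective_sigma_cat f inferInstance
  exact (IsProjective.iff_projective (R := R) (P := (∐ f : ModuleCat.{u} R))).2 h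

end Mod

section Tensor

variable (E₁ E₂ : DRing.Cx R) (n : ℤ)

/-- index type of the summands of `(E₁ ⊗ E₂)^n` -/
abbrev Idx : Type :=
  (ComplexShape.π (ComplexShape.up ℤ) (ComplexShape.up ℤ) (ComplexShape.up ℤ)) ⁻¹' {n}

/-- the summands of `(E₁ ⊗ E₂)^n` -/
noncomputable abbrev summand (i : Idx n) : ModuleCat.{u} R := E₁.X i.1.1 ⊗ E₂.X i.1.2

lemma idx_sum (i : Idx n) : i.1.1 + i.1.2 = n := i.2

lemma tensor_X_eq : (E₁ ⊗ E₂).X n = ∐ (summand E₁ E₂ n) := rfl

/-- finite support -/
theorem exists_finset (lo hi : ℤ)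
    (hz : ∀ p q : ℤ, p + q = n → (p < lo ∨ hi < p) → IsZero (E₁.X p ⊗ E₂.X q)) :
    ∃ S : Finset (Idx n), ∀ i, i ∉ S → IsZero (summand E₁ E₂ n i) := by
  have hA : {i : Idx n | lo ≤ i.1.1 ∧ i.1.1 ≤ hi}.Finite := by
    refine Set.Finite.of_injOn (f := fun i : Idx n => i.1.1) (t := Set.Icc lo hi)
      (fun i hi => hi) ?_ (Set.finite_Icc lo hi)
    intro i _ j _ hij
    have h1 := idx_sum n i
    have h2 := idx_sum n j
    apply Subtype.ext
    apply Prod.ext
    · exact hij
    · dsimp only at hij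
      omega
  refine ⟨hA.toFinset, fun i hi => ?_⟩
  rw [Set.Finite.mem_toFinset] at hi
  apply hz i.1.1 i.1.2 (idx_sum n i)
  simp only [Set.mem_setOf_eq, not_and, not_le] at hi
  by_cases h : i.1.1 < lo
  · exact Or.inl h
  · exact Or.inr (hi (not_lt.1 h))

lemma isZero_tensor_left {M : ModuleCat.{u} R} (N : ModuleCat.{u} R) (h : IsZero M) :
    IsZero (M ⊗ N) := (tensorRight N).map_isZero h

lemma isZero_tensor_right (M : ModuleCat.{u} R) {N : ModuleCat.{u} R} (h : IsZero N) :
    IsZero (M ⊗ N) := (tensorLeft M).map_isZero h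

theorem isZero_tensor_X (hz : ∀ p q : ℤ, p + q = n → IsZero (E₁.X p) ∨ IsZero (E₂.X q)) :
    IsZero ((E₁ ⊗ E₂).X n) := by
  show IsZero (∐ (summand E₁ E₂ n))
  apply isZero_sigma
  intro i
  obtain h | h := hz i.1.1 i.1.2 (idx_sum n i)
  · exact isZero_tensor_left _ h
  · exact isZero_tensor_right _ h

theorem finite_tensor_X (lo hi : ℤ)
    (hz : ∀ p q : ℤ, p + q = n → (p < lo ∨ hi < p) → IsZero (E₁.X p ⊗ E₂.X q))
    (h₁ : ∀ p, Module.Finite R (E₁.X p)) (h₂ : ∀ q, Module.Finite R (E₂.X q)) :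
    Module.Finite R ((E₁ ⊗ E₂).X n) := by
  obtain ⟨S, hS⟩ := exists_finset E₁ E₂ n lo hi hz
  exact finite_sigma (summand E₁ E₂ n) S hS (fun i => by
    haveI := h₁ i.1.1
    haveI := h₂ i.1.2
    show Module.Finite R (TensorProduct R (E₁.X i.1.1) (E₂.X i.1.2))
    infer_instance)

theorem free_tensor_X (lo hi : ℤ)
    (hz : ∀ p q : ℤ, p + q = n → (p < lo ∨ hi < p) → IsZero (E₁.X p ⊗ E₂.X q))
    (h₁ : ∀ p, Module.Free R (E₁.X p)) (h₂ : ∀ q, Module.Free R (E₂.X q)) :
    Module.Free R ((E₁ ⊗ E₂).X n) := by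
  obtain ⟨S, hS⟩ := exists_finset E₁ E₂ n lo hi hz
  exact free_sigma (summand E₁ E₂ n) S hS (fun i => by
    haveI := h₁ i.1.1
    haveI := h₂ i.1.2
    show Module.Free R (TensorProduct R (E₁.X i.1.1) (E₂.X i.1.2))
    infer_instance)

theorem projective_tensor_X
    (h₁ : ∀ p, Module.Projective R (E₁.X p)) (h₂ : ∀ q, Module.Projective R (E₂.X q)) :
    Module.Projective R ((E₁ ⊗ E₂).X n) :=
  projective_sigma (summand E₁ E₂ n) (fun i => by
    haveI := h₁ i.1.1
    haveI := h₂ i.1.2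
    show Module.Projective R (TensorProduct R (E₁.X i.1.1) (E₂.X i.1.2))
    infer_instance)

theorem vanishesOutside_tensor (a b a' b' : ℤ) (h1 : DRing.VanishesOutside E₁ a b)
    (h2 : DRing.VanishesOutside E₂ a' b') : DRing.VanishesOutside (E₁ ⊗ E₂) (a + a') (b + b') := by
  intro i hi
  apply isZero_tensor_X
  intro p q hpq
  by_cases hp : p < a ∨ b < p
  · exact Or.inl (h1 p hp)
  · refine Or.inr (h2 q ?_)
    omega

theorem vanishesAbove_tensor (b b' : ℤ) (h1 : DRing.VanishesAbove E₁ b)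
    (h2 : DRing.VanishesAbove E₂ b') : DRing.VanishesAbove (E₁ ⊗ E₂) (b + b') := by
  intro i hi
  apply isZero_tensor_X
  intro p q hpq
  by_cases hp : b < p
  · exact Or.inl (h1 p hp)
  · refine Or.inr (h2 q ?_)
    omega

theorem termwiseFiniteProjective_tensor (a b : ℤ) (h1 : DRing.VanishesOutside E₁ a b)
    (hp1 : DRing.TermwiseFiniteProjective E₁) (hp2 : DRing.TermwiseFiniteProjective E₂) :
    DRing.TermwiseFiniteProjective (E₁ ⊗ E₂) := by
  intro n
  refine ⟨finite_tensor_X E₁ E₂ n a b (fun p q _ hp => isZero_tensor_left _ (h1 p hp))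
    (fun p => (hp1 p).1) (fun q => (hp2 q).1), ?_⟩
  exact projective_tensor_X E₁ E₂ n (fun p => (hp1 p).2) (fun q => (hp2 q).2)

theorem termwiseFiniteFree_tensor (b b' : ℤ) (h1 : DRing.VanishesAbove E₁ b)
    (h2 : DRing.VanishesAbove E₂ b')
    (hp1 : DRing.TermwiseFiniteFree E₁) (hp2 : DRing.TermwiseFiniteFree E₂) :
    DRing.TermwiseFiniteFree (E₁ ⊗ E₂) := by
  intro n
  have hz : ∀ p q : ℤ, p + q = n → (p < n - b' ∨ b < p) → IsZero (E₁.X p ⊗ E₂.X q) := by
    intro p q hpq hp
    obtain hp | hp := hp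
    · exact isZero_tensor_right _ (h2 q (by omega))
    · exact isZero_tensor_left _ (h1 p hp)
  exact ⟨finite_tensor_X E₁ E₂ n (n - b') b hz (fun p => (hp1 p).1) (fun q => (hp2 q).1),
    free_tensor_X E₁ E₂ n (n - b') b hz (fun p => (hp1 p).2) (fun q => (hp2 q).2)⟩

end Tensor

end Groth.Agent.Lib.DRingLT
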