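import Mathlib
import Groth.Prelude.Def_DRing2

/-!
# Dévissage for natural transformations between "exact" functors on triangulated categories (helper2)

* `CoyonedaExact F`: `Hom(W, F -)` is exact in the middle of every distinguished triangle.
* `isIso_app_obj₂`: a five lemma for a natural transformation between two such functors (no compatibility
  with shifts is needed).
* `Good τ`: objects all of whose shifts are sent to isomorphisms by `τ`; stable under isomorphisms,
  shifts, retracts and extensions.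
* `perfect_induction`: a property of objects of `D(A)` that holds for zero objects and `A[a]`, and is stable
  under isomorphisms, retracts and extensions, holds for all perfect complexes.
-/

set_option autoImplicit false
universe u
open CategoryTheory Limits Pretriangulated ZeroObject

namespace Groth.Agent.Lib.Devissage

section Abstract

variable {C D : Type*} [Category C] [Category D] [Preadditive C] [HasZeroObject C] [HasShift C ℤ]
  [∀ n : ℤ, (shiftFunctor C n).Additive] [Pretriangulated C] [Preadditive D]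

/-- exactness of `Hom(W, F -)` in the middle of distinguished triangles -/
def CoyonedaExact (F : C ⥤ D) : Prop :=
  ∀ (T : Triangle C), T ∈ distTriang C → ∀ ⦃W : D⦄ (x : W ⟶ F.obj T.obj₂),
    x ≫ F.map T.mor₂ = 0 → ∃ y : W ⟶ F.obj T.obj₁, x = y ≫ F.map T.mor₁

lemma coyonedaExact_of_iso {F F' : C ⥤ D} (e : F ≅ F') (h : CoyonedaExact F) :
    CoyonedaExact F' := by
  intro T hT W x hx
  obtain ⟨y, hy⟩ := h T hT (x ≫ e.inv.app _) (by
    rw [Category.assoc, ← e.inv.naturality, ← Category.assoc, hx, zero_comp])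
  refine ⟨y ≫ e.hom.app _, ?_⟩
  rw [Category.assoc, ← e.hom.naturality, ← Category.assoc, ← hy, Category.assoc,
    Iso.inv_hom_id_app, Category.comp_id]

lemma coyonedaExact_comp_rightAdjoint {E : Type*} [Category E] [Preadditive E] {F : C ⥤ D}
    {L : E ⥤ D} {R : D ⥤ E} (adj : L ⊣ R) [L.PreservesZeroMorphisms]
    (h : CoyonedaExact F) : CoyonedaExact (F ⋙ R) := by
  intro T hT W x hx
  have hx' : (adj.homEquiv W _).symm x ≫ F.map T.mor₂ = 0 := by
    rw [← adj.homEquiv_naturality_right_symm]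
    have hx2 : x ≫ R.map (F.map T.mor₂) = 0 := hx
    rw [hx2, adj.homEquiv_counit, Functor.map_zero, zero_comp]
  obtain ⟨y, hy⟩ := h T hT _ hx'
  refine ⟨adj.homEquiv _ _ y, ?_⟩
  show x = adj.homEquiv _ _ y ≫ R.map (F.map T.mor₁)
  rw [← adj.homEquiv_naturality_right, ← hy, Equiv.apply_symm_apply]

/-- transport along an isomorphism of triangles -/
lemma coyoneda_of_iso_triangle (F : C ⥤ D) {T T' : Triangle C} (e : T ≅ T')
    (h : ∀ ⦃W : D⦄ (x : W ⟶ F.obj T'.obj₂), x ≫ F.map T'.mor₂ = 0 →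
      ∃ y : W ⟶ F.obj T'.obj₁, x = y ≫ F.map T'.mor₁)
    ⦃W : D⦄ (x : W ⟶ F.obj T.obj₂) (hx : x ≫ F.map T.mor₂ = 0) :
    ∃ y : W ⟶ F.obj T.obj₁, x = y ≫ F.map T.mor₁ := by
  obtain ⟨y', hy'⟩ := h (x ≫ F.map e.hom.hom₂) (by
    rw [Category.assoc, ← F.map_comp, ← e.hom.comm₂, F.map_comp, ← Category.assoc, hx, zero_comp])
  refine ⟨y' ≫ F.map e.inv.hom₁, ?_⟩
  have h1 : e.hom.hom₂ ≫ e.inv.hom₂ = 𝟙 _ := congrArg TriangleMorphism.hom₂ e.hom_inv_id
  rw [Category.assoc, ← F.map_comp, ← e.inv.comm₁, F.map_comp, ← Category.assoc, ← hy',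
    Category.assoc, ← F.map_comp, h1, F.map_id, Category.comp_id]

/-- **five lemma** for a natural transformation between coyoneda-exact functors -/
theorem isIso_app_obj₂ {F G : C ⥤ D} (τ : F ⟶ G) [F.PreservesZeroMorphisms]
    [G.PreservesZeroMorphisms] (hF : CoyonedaExact F) (hG : CoyonedaExact G)
    (T : Triangle C) (hT : T ∈ distTriang C)
    (h₁ : IsIso (τ.app T.obj₁)) (h₃ : IsIso (τ.app T.obj₃))
    (h₁' : IsIso (τ.app (T.obj₁⟦(1 : ℤ)⟧))) (h₃' : IsIso (τ.app (T.obj₃⟦(-1 : ℤ)⟧))) :
    IsIso (τ.app T.obj₂) := by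
  have hTr := rot_of_distTriang T hT
  have hTi := inv_rot_of_distTriang T hT
  have z23 : T.mor₂ ≫ T.mor₃ = 0 := comp_distTriang_mor_zero₂₃ _ hT
  obtain ⟨a, z12, hGa⟩ : ∃ a : T.obj₃⟦(-1 : ℤ)⟧ ⟶ T.obj₁, a ≫ T.mor₁ = 0 ∧
      (∀ ⦃W : D⦄ (x : W ⟶ G.obj T.obj₁), x ≫ G.map T.mor₁ = 0 →
        ∃ y : W ⟶ G.obj (T.obj₃⟦(-1 : ℤ)⟧), x = y ≫ G.map a) :=
    ⟨T.invRotate.mor₁, comp_distTriang_mor_zero₁₂ _ hTi, fun W x hx => hG T.invRotate hTi x hx⟩
  have hFr : ∀ ⦃W : D⦄ (x : W ⟶ F.obj T.obj₃), x ≫ F.map T.mor₃ = 0 →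
      ∃ y : W ⟶ F.obj T.obj₂, x = y ≫ F.map T.mor₂ := fun W x hx => hF T.rotate hTr x hx
  obtain ⟨i₃, hi₃, hi₃'⟩ := h₃'.out
  apply isIso_of_yoneda_map_bijective
  intro W
  constructor
  · intro x x' hxx
    have hxx' : x ≫ τ.app T.obj₂ = x' ≫ τ.app T.obj₂ := hxx
    rw [← sub_eq_zero]
    generalize hz : x - x' = z
    have hz0 : z ≫ τ.app T.obj₂ = 0 := by
      rw [← hz, Preadditive.sub_comp, hxx', sub_self]
    have e1 : z ≫ F.map T.mor₂ = 0 := by
      have : (z ≫ F.map T.mor₂) ≫ τ.app T.obj₃ = 0 := by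
        rw [Category.assoc, τ.naturality, ← Category.assoc, hz0, zero_comp]
      exact (cancel_mono (τ.app T.obj₃)).1 (by rw [this, zero_comp])
    obtain ⟨y, hy⟩ := hF T hT z e1
    have e2 : (y ≫ τ.app T.obj₁) ≫ G.map T.mor₁ = 0 := by
      rw [Category.assoc, ← τ.naturality, ← Category.assoc, ← hy, hz0]
    obtain ⟨w, hw⟩ := hGa (y ≫ τ.app T.obj₁) e2
    have e3 : y = (w ≫ i₃) ≫ F.map a := by
      apply (cancel_mono (τ.app T.obj₁)).1
      rw [hw, Category.assoc, Category.assoc, τ.naturality, reassoc_of% hi₃']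
    rw [hy, e3, Category.assoc, ← F.map_comp, z12, F.map_zero, comp_zero]
  · intro y
    let u : W ⟶ F.obj T.obj₃ := y ≫ G.map T.mor₂ ≫ inv (τ.app T.obj₃)
    have hu : u ≫ τ.app T.obj₃ = y ≫ G.map T.mor₂ := by
      simp only [u, Category.assoc, IsIso.inv_hom_id, Category.comp_id]
    have e1 : u ≫ F.map T.mor₃ = 0 := by
      have : (u ≫ F.map T.mor₃) ≫ τ.app (T.obj₁⟦(1 : ℤ)⟧) = 0 := by
        rw [Category.assoc, τ.naturality, ← Category.assoc, hu, Category.assoc, ← G.map_comp, z23,
          G.map_zero, comp_zero]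
      exact (cancel_mono (τ.app (T.obj₁⟦(1 : ℤ)⟧))).1 (by rw [this, zero_comp])
    obtain ⟨v, hv'⟩ := hFr u e1
    have e2 : (y - v ≫ τ.app T.obj₂) ≫ G.map T.mor₂ = 0 := by
      rw [Preadditive.sub_comp, Category.assoc, ← τ.naturality, ← Category.assoc, ← hv', hu,
        sub_self]
    obtain ⟨s, hs⟩ := hG T hT _ e2
    refine ⟨v + (s ≫ inv (τ.app T.obj₁)) ≫ F.map T.mor₁, ?_⟩
    show (v + (s ≫ inv (τ.app T.obj₁)) ≫ F.map T.mor₁) ≫ τ.app T.obj₂ = y
    rw [Preadditive.add_comp, Category.assoc, Category.assoc, τ.naturality,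
      IsIso.inv_hom_id_assoc, ← hs]
    abel

/-- a natural transformation which is an isomorphism at `X` is one at every object isomorphic to `X` -/
lemma isIso_app_of_iso {F G : C ⥤ D} (τ : F ⟶ G) {X Y : C} (e : X ≅ Y) (h : IsIso (τ.app X)) :
    IsIso (τ.app Y) := by
  have : τ.app Y = F.map e.inv ≫ τ.app X ≫ G.map e.hom := by
    rw [τ.naturality_assoc, ← G.map_comp, e.inv_hom_id, G.map_id, Category.comp_id]
  rw [this]
  infer_instance

/-- a natural transformation which is an isomorphism at `Y` is one at every retract of `Y` -/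
lemma isIso_app_of_retract {F G : C ⥤ D} (τ : F ⟶ G) {X Y : C} (i : X ⟶ Y) (r : Y ⟶ X)
    (hir : i ≫ r = 𝟙 X) (h : IsIso (τ.app Y)) : IsIso (τ.app X) := by
  refine ⟨G.map i ≫ inv (τ.app Y) ≫ F.map r, ?_, ?_⟩
  · rw [← τ.naturality_assoc, IsIso.hom_inv_id_assoc, ← F.map_comp, hir, F.map_id]
  · rw [Category.assoc, Category.assoc, τ.naturality, IsIso.inv_hom_id_assoc, ← G.map_comp, hir,
      G.map_id]

/-- the objects all of whose shifts are sent to isomorphisms by `τ` -/
def Good {F G : C ⥤ D} (τ : F ⟶ G) (K : C) : Prop := ∀ n : ℤ, IsIso (τ.app (K⟦n⟧))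

variable {F G : C ⥤ D} (τ : F ⟶ G)

lemma good_of_iso {K K' : C} (e : K ≅ K') (h : Good τ K) : Good τ K' := fun n =>
  isIso_app_of_iso τ ((shiftFunctor C n).mapIso e) (h n)

lemma good_of_retract {K K' : C} (i : K ⟶ K') (r : K' ⟶ K) (hir : i ≫ r = 𝟙 K)
    (h : Good τ K') : Good τ K := fun n =>
  isIso_app_of_retract τ (i⟦n⟧') (r⟦n⟧') (by rw [← Functor.map_comp, hir, CategoryTheory.Functor.map_id]) (h n)

lemma good_shift {K : C} (h : Good τ K) (m : ℤ) : Good τ (K⟦m⟧) := fun n =>
  isIso_app_of_iso τ ((shiftFunctorAdd' C m n (m + n) rfl).app K) (h (m + n))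

lemma isIso_app_of_good {K : C} (h : Good τ K) : IsIso (τ.app K) :=
  isIso_app_of_iso τ ((shiftFunctorZero C ℤ).app K) (h 0)

lemma good_of_isZero [F.PreservesZeroMorphisms] [G.PreservesZeroMorphisms] {K : C}
    (hK : IsZero K) : Good τ K := fun n => by
  have h0 : IsZero (K⟦n⟧) := (shiftFunctor C n).map_isZero hK
  have hF : IsZero (F.obj (K⟦n⟧)) := F.map_isZero h0
  have hG : IsZero (G.obj (K⟦n⟧)) := G.map_isZero h0
  exact ⟨0, hF.eq_of_src _ _, hG.eq_of_src _ _⟩

theorem good_ext [F.PreservesZeroMorphisms] [G.PreservesZeroMorphisms]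
    (hF : CoyonedaExact F) (hG : CoyonedaExact G) (T : Triangle C) (hT : T ∈ distTriang C)
    (h₁ : Good τ T.obj₁) (h₃ : Good τ T.obj₃) : Good τ T.obj₂ := fun n =>
  isIso_app_obj₂ τ hF hG _ (Triangle.shift_distinguished T hT n) (h₁ n) (h₃ n)
    (good_shift τ h₁ n 1) (good_shift τ h₃ n (-1))

end Abstract

section Perfect

open DerivedCategory DRing
attribute [local instance] HasDerivedCategory.standard

variable {A : Type u} [CommRing A]

/-- the functor `X ↦ X[-a]` from modules to `D(A)` -/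
noncomputable abbrev sD (a : ℤ) : ModuleCat.{u} A ⥤ Dual.D A :=
  HomologicalComplex.single (ModuleCat.{u} A) (ComplexShape.up ℤ) a ⋙ DerivedCategory.Q

instance (a : ℤ) : (sD (A := A) a).Additive := by
  dsimp only [sD]; infer_instance

/-- induction along the brutal filtration -/
theorem perfect_induction₀ (P : Dual.D A → Prop)
    (hiso : ∀ {K K' : Dual.D A}, (K ≅ K') → P K → P K')
    (h0 : ∀ K : Dual.D A, IsZero K → P K)
    (hsingle : ∀ (X : ModuleCat.{u} A) (a : ℤ), Module.Finite A X → Module.Projective A X →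
      P ((sD a).obj X))
    (hext : ∀ T : Triangle (Dual.D A), T ∈ distTriang _ → P T.obj₁ → P T.obj₃ → P T.obj₂)
    (n : ℕ) : ∀ (a : ℤ) (E : Cx A), TermwiseFiniteProjective E → (∀ i, i < a → IsZero (E.X i)) →
      (∀ i, a + n ≤ i → IsZero (E.X i)) → P (toD E) := by
  induction n with
  | zero =>
    intro a E _ ha hb
    apply h0
    have hE : IsZero E := by
      rw [IsZero.iff_id_eq_zero]
      ext i : 1
      by_cases hi : i < a
      · exact (ha i hi).eq_of_src _ _
      · exact (hb i (by push_cast; omega)).eq_of_src _ _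
    exact (DerivedCategory.Q).map_isZero hE
  | succ n ih =>
    intro a E hfp ha hb
    let f : E ⟶ (HomologicalComplex.single _ (ComplexShape.up ℤ) a).obj (E.X a) :=
      HomologicalComplex.mkHomToSingle (𝟙 _)
        (fun i hi => (ha i (by simp at hi; omega)).eq_of_src _ _)
    have hfa : IsIso (f.f a) := by
      rw [HomologicalComplex.mkHomToSingle_f]
      infer_instance
    have htgt : ∀ i, i ≠ a →
        IsZero (((HomologicalComplex.single (ModuleCat.{u} A) (ComplexShape.up ℤ) a).obj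
          (E.X a)).X i) :=
      fun i hi => HomologicalComplex.isZero_single_obj_X _ a _ i hi
    haveI : Epi f := by
      refine HomologicalComplex.epi_of_epi_f f (fun i => ?_)
      by_cases h : i = a
      · subst h; infer_instance
      · exact ⟨fun g h' _ => (htgt i h).eq_of_src g h'⟩
    have hS : (ShortComplex.kernelSequence f).ShortExact :=
      ShortComplex.ShortExact.mk' (ShortComplex.kernelSequence_exact f) inferInstance
        (by show Epi f; infer_instance)
    let e : ∀ i, (kernel f).X i ≅ kernel (f.f i) := fun i =>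
      PreservesKernel.iso (HomologicalComplex.eval _ _ i) f
    have hker_zero : ∀ i, IsZero (E.X i) → IsZero ((kernel f).X i) := fun i hi =>
      IsZero.of_iso (IsZero.of_mono (kernel.ι (f.f i)) hi) (e i)
    have hker_a : IsZero ((kernel f).X a) :=
      IsZero.of_iso (isZero_kernel_of_mono (f.f a)) (e a)
    have hker_iso : ∀ i, i ≠ a → Nonempty ((kernel f).X i ≅ E.X i) := fun i hi => by
      have h0' : f.f i = 0 := (htgt i hi).eq_of_tgt _ _
      refine ⟨e i ≪≫ ?_⟩
      rw [h0']
      exact asIso (kernel.ι (0 : E.X i ⟶ _))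
    have hfpk : TermwiseFiniteProjective (kernel f) := by
      intro i
      by_cases h : i = a
      · subst h
        haveI : Subsingleton ((kernel f).X i) := ModuleCat.subsingleton_of_isZero hker_a
        exact ⟨inferInstance, inferInstance⟩
      · obtain ⟨e'⟩ := hker_iso i h
        haveI := (hfp i).1
        haveI := (hfp i).2
        exact ⟨Module.Finite.equiv e'.toLinearEquiv.symm,
          Module.Projective.of_equiv e'.toLinearEquiv.symm⟩
    have h1 : P (toD (kernel f)) := by
      refine ih (a + 1) (kernel f) hfpk (fun i hi => ?_) (fun i hi => ?_)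
      · by_cases h : i = a
        · subst h; exact hker_a
        · exact hker_zero i (ha i (by omega))
      · exact hker_zero i (hb i (by push_cast; omega))
    have h3 : P (toD ((HomologicalComplex.single _ (ComplexShape.up ℤ) a).obj (E.X a))) :=
      hsingle (E.X a) a (hfp a).1 (hfp a).2
    exact hext (triangleOfSES hS) (triangleOfSES_distinguished hS) h1 h3

/-- a property of objects of `D(A)` which holds for zero objects and the finite projective modules
placed in any degree, and is stable under isomorphisms and extensions, holds for every perfect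
complex -/
theorem perfect_induction₁ (P : Dual.D A → Prop)
    (hiso : ∀ {K K' : Dual.D A}, (K ≅ K') → P K → P K')
    (h0 : ∀ K : Dual.D A, IsZero K → P K)
    (hsingle : ∀ (X : ModuleCat.{u} A) (a : ℤ), Module.Finite A X → Module.Projective A X →
      P ((sD a).obj X))
    (hext : ∀ T : Triangle (Dual.D A), T ∈ distTriang _ → P T.obj₁ → P T.obj₃ → P T.obj₂)
    (K : Dual.D A) (hK : IsPerfect A K) : P K := by
  obtain ⟨E, a, b, hv, hfp, ⟨e⟩⟩ := hK
  refine hiso e ?_
  refine perfect_induction₀ P hiso h0 hsingle hext (b + 1 - a).toNat a E hfp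
    (fun i hi => hv i (Or.inl hi)) (fun i hi => ?_)
  by_cases hab : a ≤ b + 1
  · exact hv i (Or.inr (by rw [Int.toNat_of_nonneg (by omega)] at hi; omega))
  · by_cases hi' : i < a
    · exact hv i (Or.inl hi')
    · exact hv i (Or.inr (by omega))

/-- the same, with the finite projective modules replaced by `A` itself and stability under retracts -/
theorem perfect_induction (P : Dual.D A → Prop)
    (hiso : ∀ {K K' : Dual.D A}, (K ≅ K') → P K → P K')
    (h0 : ∀ K : Dual.D A, IsZero K → P K)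
    (hret : ∀ {K K' : Dual.D A} (i : K ⟶ K') (r : K' ⟶ K), i ≫ r = 𝟙 K → P K' → P K)
    (hA : ∀ a : ℤ, P ((sD a).obj (ModuleCat.of A A)))
    (hext : ∀ T : Triangle (Dual.D A), T ∈ distTriang _ → P T.obj₁ → P T.obj₃ → P T.obj₂)
    (K : Dual.D A) (hK : IsPerfect A K) : P K := by
  have hsum : ∀ K₁ K₂ : Dual.D A, P K₁ → P K₂ → P (K₁ ⊞ K₂) := fun K₁ K₂ h1 h2 =>
    hext _ (binaryBiproductTriangle_distinguished K₁ K₂) h1 h2
  have hfree : ∀ (α : Type) [Fintype α] (a : ℤ), P ((sD a).obj (ModuleCat.of A (α → A))) := by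
    intro α _
    refine Fintype.induction_empty_option
      (P := fun α _ => ∀ a : ℤ, P ((sD a).obj (ModuleCat.of A (α → A)))) ?_ ?_ ?_ α
    · intro α β _ e h a
      exact hiso ((sD a).mapIso (LinearEquiv.funCongrLeft A A e.symm).toModuleIso) (h a)
    · intro a
      apply h0
      apply (sD a).map_isZero
      exact ModuleCat.isZero_of_subsingleton _
    · intro α _ h a
      have e1 : ModuleCat.of A (Option α → A) ≅ ModuleCat.of A A ⊞ ModuleCat.of A (α → A) :=
        (LinearEquiv.piOptionEquivProd (R := A) (M := fun _ : Option α => A)).toModuleIso ≪≫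
          (ModuleCat.biprodIsoProd (ModuleCat.of A A) (ModuleCat.of A (α → A))).symm
      haveI : PreservesBinaryBiproducts (sD (A := A) a) :=
        preservesBinaryBiproducts_of_preservesBiproducts _
      exact hiso (((sD a).mapIso e1) ≪≫ (sD a).mapBiprod _ _).symm (hsum _ _ (hA a) (h a))
  apply perfect_induction₁ P hiso h0 ?_ hext K hK
  intro X a hfin hproj
  obtain ⟨n, f, hf⟩ := Module.Finite.exists_fin' A X
  obtain ⟨g, hg⟩ := Module.projective_lifting_property f LinearMap.id hf
  refine hret ((sD a).map (ModuleCat.ofHom g)) ((sD a).map (ModuleCat.ofHom f)) ?_ (hfree (Fin n) a)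
  rw [← Functor.map_comp, ← ModuleCat.ofHom_comp, hg]
  exact (sD a).map_id _

end Perfect

end Groth.Agent.Lib.Devissage
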