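import Groth.Agent.Lib.KFlatMod_helper2

/-!
# K-flat complexes of modules over a commutative ring, II (helper2)

The results in the form used by the `DRing` statements: K-flatness is phrased as
`∀ L, (∀ i, IsZero (L.homology i)) → ∀ i, IsZero ((L ⊗ K).homology i)`.
-/

set_option autoImplicit false
universe u
open CategoryTheory Limits MonoidalCategory

namespace Groth.Agent.Lib.KFlatMod

open Groth.Agent.Lib.KFlatGen

variable (R : Type u) [CommRing R]

/-- K-flatness in the form used in statements -/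
def KF (K : CochainComplex (ModuleCat.{u} R) ℤ) : Prop :=
  ∀ L : CochainComplex (ModuleCat.{u} R) ℤ, (∀ i : ℤ, IsZero (L.homology i)) →
    ∀ i : ℤ, IsZero ((L ⊗ K).homology i)

variable {R}

lemma kf_iff (K : CochainComplex (ModuleCat.{u} R) ℤ) : KF R K ↔ IsKFlat (T R) K := by
  constructor
  · intro hE L hL i
    rw [HomologicalComplex.exactAt_iff_isZero_homology]
    exact hE L (fun j => (HomologicalComplex.exactAt_iff_isZero_homology _ _).1 (hL j)) i
  · intro hE L hL i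
    have hL' : L.Acyclic := fun j => (HomologicalComplex.exactAt_iff_isZero_homology _ _).2 (hL j)
    exact (HomologicalComplex.exactAt_iff_isZero_homology _ _).1 (hE L hL' i)

theorem kf_shortExact (S : ShortComplex (CochainComplex (ModuleCat.{u} R) ℤ)) (hS : S.ShortExact)
    (h3 : ∀ n : ℤ, Module.Flat R (S.X₃.X n)) :
    (KF R S.X₁ → KF R S.X₂ → KF R S.X₃) ∧ (KF R S.X₁ → KF R S.X₃ → KF R S.X₂) ∧
    (KF R S.X₂ → KF R S.X₃ → KF R S.X₁) := by
  simp only [kf_iff]
  exact isKFlat_shortExact (flatClass R) S hS h3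

theorem kf_of_vanishesAbove (P : CochainComplex (ModuleCat.{u} R) ℤ) (b : ℤ)
    (hb : ∀ i : ℤ, b < i → IsZero (P.X i)) (hP : ∀ i : ℤ, Module.Flat R (P.X i)) : KF R P := by
  rw [kf_iff]
  haveI : P.IsStrictlyLE b := by
    rw [CochainComplex.isStrictlyLE_iff]
    exact hb
  exact isKFlat_of_isStrictlyLE (flatClass R) P b hP

theorem kf_colimit (J : Type u) [SmallCategory J] [IsFiltered J]
    (F : J ⥤ CochainComplex (ModuleCat.{u} R) ℤ) (hF : ∀ j, KF R (F.obj j)) :
    KF R (colimit F) := by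
  simp only [kf_iff] at hF ⊢
  intro L hL
  haveI := Groth.Agent.Lib.BifColim.preservesColimitsOfShape_map₂_obj (T R) J L
  exact Groth.Agent.Lib.BifColim.acyclic_of_isColimit (F ⋙ (T R).map₂CochainComplex.obj L)
    (fun j => hF j L hL)
    (isColimitOfPreserves ((T R).map₂CochainComplex.obj L) (colimit.isColimit F))

theorem exists_kf_resolution (M : CochainComplex (ModuleCat.{u} R) ℤ) :
    ∃ (K : CochainComplex (ModuleCat.{u} R) ℤ) (f : K ⟶ M), KF R K ∧
      (∀ i : ℤ, Module.Flat R (K.X i)) ∧ QuasiIso f ∧ ∀ i : ℤ, Function.Surjective (f.f i) := by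
  obtain ⟨K, q, hK, hfl, hq, hepi⟩ := exists_kflat_resolution (flatClass R) (resClass R) M
  refine ⟨K, q, (kf_iff K).2 hK, hfl, hq, fun i => ?_⟩
  exact (ModuleCat.epi_iff_surjective _).1 (hepi i)

theorem exists_kf_factor {K L : CochainComplex (ModuleCat.{u} R) ℤ} (a : K ⟶ L) (hK : KF R K) :
    ∃ (N : CochainComplex (ModuleCat.{u} R) ℤ) (b : K ⟶ N) (c : N ⟶ L), KF R N ∧ QuasiIso c ∧
      b ≫ c = a ∧
      ((∀ n : ℤ, Module.Flat R (K.X n)) → ∀ n : ℤ, Module.Flat R (N.X n)) := by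
  obtain ⟨N, b, c, hN, hc, hbc, hfl⟩ :=
    exists_kflat_factor (flatClass R) (resClass R) a ((kf_iff K).1 hK)
  exact ⟨N, b, c, (kf_iff N).2 hN, hc, hbc, hfl⟩

theorem quasiIso_whiskerRight (K : CochainComplex (ModuleCat.{u} R) ℤ) (hK : KF R K)
    {L₁ L₂ : CochainComplex (ModuleCat.{u} R) ℤ} (f : L₁ ⟶ L₂) [QuasiIso f] :
    QuasiIso (f ▷ K) :=
  Groth.Agent.Lib.BifCone.quasiIso_mapBifunctorMap₁ (T R) K ((kf_iff K).1 hK) f

theorem quasiIso_whiskerLeft (P Q : CochainComplex (ModuleCat.{u} R) ℤ) (hP : KF R P)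
    (hQ : KF R Q) (α : P ⟶ Q) [QuasiIso α] (L : CochainComplex (ModuleCat.{u} R) ℤ) :
    QuasiIso (L ◁ α) :=
  quasiIso_tensor_left_of_kflat (BraidedCategory.curriedBraidingNatIso (ModuleCat.{u} R))
    (flatClass R) (resClass R) P Q ((kf_iff P).1 hP) ((kf_iff Q).1 hQ) α L

end Groth.Agent.Lib.KFlatMod
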