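import Mathlib
import Groth.Agent.Lib.KFlatMod2_helper2
import Groth.Agent.Lib.DMod41_helper6

/-!
# K-projective, K-flat resolutions of unbounded complexes of modules (helper2)

For a sequence `D : ℕ ⥤ Cx R` of complexes we build the telescope
`Tel D = cone (1 - shift : ⊕ D_n ⟶ ⊕ D_n)` with its quasi-isomorphism to the colimit, and deduce that
every complex of modules receives a quasi-isomorphism from a complex which is at the same time
K-projective, K-flat and termwise flat.
-/

set_option autoImplicit false
universe u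
open CategoryTheory Limits DirectSum

namespace Groth.Agent.Lib.KProjRes

open Groth.Agent.Lib.KFlatMod Groth.Agent.Lib.KFlatGen

variable {R : Type u} [CommRing R]

section Mod

variable {M : ℕ → Type u} [∀ n, AddCommGroup (M n)] [∀ n, Module R (M n)]
  (t : ∀ n, M n →ₗ[R] M (n + 1))

/-- the shift endomorphism of a direct sum of a sequence of modules -/
noncomputable def shiftLin : (⨁ n, M n) →ₗ[R] ⨁ n, M n :=
  DirectSum.toModule R ℕ _ fun n => (DirectSum.lof R ℕ M (n + 1)) ∘ₗ t n

lemma shiftLin_lof (n : ℕ) (x : M n) :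
    shiftLin t (DirectSum.lof R ℕ M n x) = DirectSum.lof R ℕ M (n + 1) (t n x) := by
  rw [shiftLin, DirectSum.toModule_lof]
  rfl

lemma shiftLin_zero (y : ⨁ n, M n) : (shiftLin t y) 0 = 0 := by
  induction y using DirectSum.induction_on with
  | zero => simp
  | of n x =>
    show (shiftLin t (DirectSum.lof R ℕ M n x)) 0 = 0
    rw [shiftLin_lof, DirectSum.lof_eq_of, DirectSum.of_eq_of_ne]
    exact (Nat.succ_ne_zero n).symm
  | add a b ha hb => rw [map_add, DirectSum.add_apply, ha, hb, add_zero]

lemma shiftLin_succ (y : ⨁ n, M n) (k : ℕ) : (shiftLin t y) (k + 1) = t k (y k) := by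
  induction y using DirectSum.induction_on with
  | zero => simp
  | of n x =>
    show (shiftLin t (DirectSum.lof R ℕ M n x)) (k + 1) = t k ((DirectSum.of M n x) k)
    rw [shiftLin_lof, DirectSum.lof_eq_of]
    by_cases h : n = k
    · subst h
      rw [DirectSum.of_eq_same, DirectSum.of_eq_same]
    · rw [DirectSum.of_eq_of_ne _ _ _ (fun h' => h (Nat.succ_injective h').symm),
        DirectSum.of_eq_of_ne _ _ _ (fun h' => h h'.symm), map_zero]
  | add a b ha hb => rw [map_add, DirectSum.add_apply, DirectSum.add_apply, ha, hb, map_add]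

lemma eq_zero_of_eq_shiftLin (y : ⨁ n, M n) (h : y = shiftLin t y) : y = 0 := by
  have h0 : ∀ k, y k = 0 := by
    intro k
    induction k with
    | zero => rw [h, shiftLin_zero]
    | succ k ih => rw [h, shiftLin_succ, ih, map_zero]
  exact DirectSum.ext (fun k => by rw [h0 k]; rfl)

end Mod

section DSum

variable (K : ℕ → CochainComplex (ModuleCat.{u} R) ℤ)

lemma d_d_apply (n : ℕ) (i j k : ℤ) (x : (K n).X i) :
    ((K n).d j k).hom (((K n).d i j).hom x) = 0 := by
  rw [← LinearMap.comp_apply, ← ModuleCat.hom_comp, HomologicalComplex.d_comp_d]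
  rfl

/-- direct sum of a sequence of complexes of modules -/
noncomputable def dsum : CochainComplex (ModuleCat.{u} R) ℤ where
  X i := ModuleCat.of R (⨁ n, (K n).X i)
  d i j := ModuleCat.ofHom (DirectSum.lmap fun n => ((K n).d i j).hom)
  shape i j h := by
    refine ModuleCat.hom_ext (DirectSum.linearMap_ext R fun n => LinearMap.ext fun x => ?_)
    show (DirectSum.lmap fun n => ((K n).d i j).hom) (DirectSum.lof R ℕ _ n x) = 0
    rw [DirectSum.lmap_lof, (K n).shape i j h]
    simp
  d_comp_d' i j k _ _ := by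
    refine ModuleCat.hom_ext (DirectSum.linearMap_ext R fun n => LinearMap.ext fun x => ?_)
    show (DirectSum.lmap fun n => ((K n).d j k).hom)
      ((DirectSum.lmap fun n => ((K n).d i j).hom) (DirectSum.lof R ℕ _ n x)) = 0
    rw [DirectSum.lmap_lof, DirectSum.lmap_lof, d_d_apply, map_zero]

lemma dsum_d_lof (i j : ℤ) (n : ℕ) (x : (K n).X i) :
    ((dsum K).d i j).hom (DirectSum.lof R ℕ (fun n => (K n).X i) n x) =
      DirectSum.lof R ℕ (fun n => (K n).X j) n (((K n).d i j).hom x) :=
  DirectSum.lmap_lof _ _ _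

/-- the inclusions -/
noncomputable def dsumι (n : ℕ) : K n ⟶ dsum K where
  f i := ModuleCat.ofHom (DirectSum.lof R ℕ (fun n => (K n).X i) n)
  comm' i j _ := by
    refine ModuleCat.hom_ext (LinearMap.ext fun x => ?_)
    exact dsum_d_lof K i j n x

variable {K}

/-- the universal property -/
noncomputable def dsumDesc {L : CochainComplex (ModuleCat.{u} R) ℤ} (g : ∀ n, K n ⟶ L) :
    dsum K ⟶ L where
  f i := ModuleCat.ofHom (DirectSum.toModule R ℕ _ fun n => ((g n).f i).hom)
  comm' i j _ := by
    refine ModuleCat.hom_ext (DirectSum.linearMap_ext R fun n => LinearMap.ext fun x => ?_)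
    show (L.d i j).hom (DirectSum.toModule R ℕ _ (fun n => ((g n).f i).hom)
        (DirectSum.lof R ℕ _ n x)) =
      DirectSum.toModule R ℕ _ (fun n => ((g n).f j).hom)
        (((dsum K).d i j).hom (DirectSum.lof R ℕ _ n x))
    rw [dsum_d_lof, DirectSum.toModule_lof, DirectSum.toModule_lof]
    exact congrArg (fun f => f.hom x) ((g n).comm i j)

@[reassoc (attr := simp)]
lemma dsumι_desc {L : CochainComplex (ModuleCat.{u} R) ℤ} (g : ∀ n, K n ⟶ L) (n : ℕ) :
    dsumι K n ≫ dsumDesc g = g n := by
  refine HomologicalComplex.hom_ext _ _ fun i => ModuleCat.hom_ext (LinearMap.ext fun x => ?_)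
  show DirectSum.toModule R ℕ _ (fun n => ((g n).f i).hom) (DirectSum.lof R ℕ _ n x) =
    ((g n).f i).hom x
  exact DirectSum.toModule_lof _ _ _

lemma dsum_hom_ext {L : CochainComplex (ModuleCat.{u} R) ℤ} {a b : dsum K ⟶ L}
    (h : ∀ n, dsumι K n ≫ a = dsumι K n ≫ b) : a = b := by
  refine HomologicalComplex.hom_ext _ _ fun i =>
    ModuleCat.hom_ext (DirectSum.linearMap_ext R fun n => LinearMap.ext fun x => ?_)
  exact congrArg (fun f => (f.f i).hom x) (h n)

variable (K)

/-- the cofan -/
noncomputable def dsumCofan : Cofan K := Cofan.mk (dsum K) (dsumι K)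

/-- `dsum K` is a coproduct of the `K n` -/
noncomputable def dsumIsColimit : IsColimit (dsumCofan K) :=
  mkCofanColimit _ (fun s => dsumDesc (fun n => s.inj n))
    (fun s n => dsumι_desc _ n)
    (fun s m hm => dsum_hom_ext fun n => by
      rw [dsumι_desc]
      exact hm n)

/-- a direct sum of K-projective complexes is K-projective -/
theorem isKProjective_dsum (h : ∀ n, (K n).IsKProjective) : (dsum K).IsKProjective where
  nonempty_homotopy_zero {L} f hL := by
    have H : ∀ n, Homotopy (dsumι K n ≫ f) 0 := fun n =>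
      CochainComplex.IsKProjective.homotopyZero _ hL
    refine ⟨{ hom := fun i j => ModuleCat.ofHom
                (DirectSum.toModule R ℕ _ fun n => ((H n).hom i j).hom)
              zero := fun i j hij => ?_
              comm := fun i => ?_ }⟩
    · refine ModuleCat.hom_ext (DirectSum.linearMap_ext R fun n => LinearMap.ext fun x => ?_)
      show DirectSum.toModule R ℕ _ (fun n => ((H n).hom i j).hom) (DirectSum.lof R ℕ _ n x) = 0
      rw [DirectSum.toModule_lof, (H n).zero i j hij]
      rfl
    · rw [dNext_eq _ (show (ComplexShape.up ℤ).Rel i (i + 1) from rfl),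
        prevD_eq _ (show (ComplexShape.up ℤ).Rel (i - 1) i from by simp),
        HomologicalComplex.zero_f, add_zero]
      refine ModuleCat.hom_ext (DirectSum.linearMap_ext R fun n => LinearMap.ext fun x => ?_)
      have hn := (H n).comm i
      rw [dNext_eq _ (show (ComplexShape.up ℤ).Rel i (i + 1) from rfl),
        prevD_eq _ (show (ComplexShape.up ℤ).Rel (i - 1) i from by simp),
        HomologicalComplex.zero_f, add_zero] at hn
      have hn' := congrArg (fun g => g.hom x) hn
      show (f.f i).hom (DirectSum.lof R ℕ _ n x) =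
        DirectSum.toModule R ℕ _ (fun n => ((H n).hom (i + 1) i).hom)
          (((dsum K).d i (i + 1)).hom (DirectSum.lof R ℕ _ n x)) +
        (L.d (i - 1) i).hom (DirectSum.toModule R ℕ _ (fun n => ((H n).hom i (i - 1)).hom)
          (DirectSum.lof R ℕ _ n x))
      rw [dsum_d_lof, DirectSum.toModule_lof, DirectSum.toModule_lof]
      exact hn'

/-- a direct sum of K-flat complexes is K-flat -/
theorem kf_dsum (h : ∀ n, KF R (K n)) : KF R (dsum K) := by
  rw [kf_iff]
  exact isKFlat_of_isColimit (J := Discrete ℕ) (Discrete.functor K)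
    (fun j => (kf_iff _).1 (h j.as)) (c := dsumCofan K) (dsumIsColimit K)

lemma flat_dsum (h : ∀ n i, Module.Flat R ((K n).X i)) (i : ℤ) :
    Module.Flat R ((dsum K).X i) := by
  haveI : ∀ n, Module.Flat R ((K n).X i) := fun n => h n i
  exact inferInstanceAs (Module.Flat R (⨁ n, (K n).X i))

end DSum

/-- the mapping cone of a morphism of K-projective complexes is K-projective -/
theorem isKProjective_mappingCone {C : Type*} [Category C] [Abelian C]
    {K L : CochainComplex C ℤ} (φ : K ⟶ L) [K.IsKProjective] [L.IsKProjective] :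
    (CochainComplex.mappingCone φ).IsKProjective := by
  rw [CochainComplex.isKProjective_iff_leftOrthogonal]
  exact (HomotopyCategory.subcategoryAcyclic C).leftOrthogonal.ext_of_isTriangulatedClosed₃ _
    (HomotopyCategory.mappingCone_triangleh_distinguished φ)
    (CochainComplex.IsKProjective.leftOrthogonal K) (CochainComplex.IsKProjective.leftOrthogonal L)

section Tel

variable (D : ℕ ⥤ CochainComplex (ModuleCat.{u} R) ℤ)

/-- the shift `⊕ D_n ⟶ ⊕ D_n` -/
noncomputable def shiftMap : dsum D.obj ⟶ dsum D.obj :=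
  dsumDesc fun n => D.map (homOfLE (Nat.le_succ n)) ≫ dsumι D.obj (n + 1)

/-- `1 - shift` -/
noncomputable def telMap : dsum D.obj ⟶ dsum D.obj := 𝟙 _ - shiftMap D

/-- the map to the point of a cocone -/
noncomputable def toPt (c : Cocone D) : dsum D.obj ⟶ c.pt := dsumDesc fun n => c.ι.app n

lemma ι_telMap (n : ℕ) : dsumι D.obj n ≫ telMap D =
    dsumι D.obj n - D.map (homOfLE (Nat.le_succ n)) ≫ dsumι D.obj (n + 1) := by
  rw [telMap, Preadditive.comp_sub, Category.comp_id, shiftMap, dsumι_desc]

lemma telMap_toPt (c : Cocone D) : telMap D ≫ toPt D c = 0 := by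
  apply dsum_hom_ext
  intro n
  rw [← Category.assoc, ι_telMap, Preadditive.sub_comp, comp_zero, toPt, dsumι_desc,
    Category.assoc, dsumι_desc, Cocone.w, sub_self]

lemma map_le_comp {T : CochainComplex (ModuleCat.{u} R) ℤ} (a : ∀ n, D.obj n ⟶ T)
    (ha : ∀ n, D.map (homOfLE (Nat.le_succ n)) ≫ a (n + 1) = a n) {n m : ℕ} (h : n ≤ m) :
    D.map (homOfLE h) ≫ a m = a n := by
  induction m, h using Nat.le_induction with
  | base =>
    have : ∀ p : n ⟶ n, p = 𝟙 n := fun p => Subsingleton.elim _ _
    rw [this (homOfLE _), D.map_id, Category.id_comp]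
  | succ m hnm ih =>
    have : ∀ p : n ⟶ m + 1, p = homOfLE hnm ≫ homOfLE (Nat.le_succ m) :=
      fun p => Subsingleton.elim _ _
    rw [this (homOfLE _), D.map_comp, Category.assoc, ha, ih]

/-- a cocone from a compatible family -/
noncomputable def coconeOf {T : CochainComplex (ModuleCat.{u} R) ℤ} (a : ∀ n, D.obj n ⟶ T)
    (ha : ∀ n, D.map (homOfLE (Nat.le_succ n)) ≫ a (n + 1) = a n) : Cocone D where
  pt := T
  ι :=
    { app := a
      naturality := fun n m f => by
        have : f = homOfLE (leOfHom f) := Subsingleton.elim _ _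
        dsimp
        rw [Category.comp_id, this]
        exact map_le_comp D a ha (leOfHom f) }

lemma key {T : CochainComplex (ModuleCat.{u} R) ℤ} (g : dsum D.obj ⟶ T) (hg : telMap D ≫ g = 0)
    (n : ℕ) : D.map (homOfLE (Nat.le_succ n)) ≫ dsumι D.obj (n + 1) ≫ g = dsumι D.obj n ≫ g := by
  have h := congrArg (fun t => dsumι D.obj n ≫ t) hg
  simp only [comp_zero] at h
  rw [← Category.assoc, ι_telMap, Preadditive.sub_comp, sub_eq_zero, Category.assoc] at h
  exact h.symm

/-- the point of a colimit cocone is a cokernel of `1 - shift` -/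
noncomputable def isColimitCofork (c : Cocone D) (hc : IsColimit c) :
    IsColimit (CokernelCofork.ofπ (toPt D c) (telMap_toPt D c)) :=
  CokernelCofork.IsColimit.ofπ _ _
    (fun {T} g hg => hc.desc (coconeOf D (fun n => dsumι D.obj n ≫ g) (key D g hg)))
    (fun {T} g hg => dsum_hom_ext fun n => by
      rw [toPt, dsumι_desc_assoc]
      exact hc.fac _ n)
    (fun {T} g hg m hm => hc.hom_ext fun n => by
      refine Eq.trans ?_ (hc.fac (coconeOf D (fun n => dsumι D.obj n ≫ g) (key D g hg)) n).symm
      show c.ι.app n ≫ m = dsumι D.obj n ≫ g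
      rw [← hm, toPt, dsumι_desc_assoc])

lemma mono_telMap : Mono (telMap D) := by
  refine HomologicalComplex.mono_of_mono_f _ fun i => (ModuleCat.mono_iff_injective _).2 ?_
  refine (injective_iff_map_eq_zero _).2 fun (y : ⨁ n, (D.obj n).X i) hy => ?_
  apply eq_zero_of_eq_shiftLin (fun n => ((D.map (homOfLE (Nat.le_succ n))).f i).hom) y
  have h1 : ((telMap D).f i).hom y =
      y - shiftLin (fun n => ((D.map (homOfLE (Nat.le_succ n))).f i).hom) y := rfl
  exact sub_eq_zero.1 (h1.symm.trans hy)

/-- the short complex `⊕ D_n ⟶ ⊕ D_n ⟶ c.pt` -/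
noncomputable def telSC (c : Cocone D) : ShortComplex (CochainComplex (ModuleCat.{u} R) ℤ) :=
  ShortComplex.mk (telMap D) (toPt D c) (telMap_toPt D c)

lemma telSC_shortExact (c : Cocone D) (hc : IsColimit c) : (telSC D c).ShortExact := by
  haveI : Mono (telSC D c).f := mono_telMap D
  have hcok := isColimitCofork D c hc
  haveI : Epi (telSC D c).g := epi_of_isColimit_cofork hcok
  exact ShortComplex.ShortExact.mk' ((telSC D c).exact_of_g_is_cokernel hcok) inferInstance
    inferInstance

/-- the telescope -/
noncomputable abbrev Tel : CochainComplex (ModuleCat.{u} R) ℤ :=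
  CochainComplex.mappingCone (telMap D)

/-- the map from the telescope to the point of a cocone -/
noncomputable def telπ (c : Cocone D) : Tel D ⟶ c.pt :=
  CochainComplex.mappingCone.descShortComplex (telSC D c)

lemma quasiIso_telπ (c : Cocone D) (hc : IsColimit c) : QuasiIso (telπ D c) :=
  CochainComplex.mappingCone.quasiIso_descShortComplex (telSC_shortExact D c hc)

theorem isKProjective_tel (h : ∀ n, (D.obj n).IsKProjective) : (Tel D).IsKProjective := by
  haveI := isKProjective_dsum D.obj h
  exact isKProjective_mappingCone (telMap D)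

theorem kf_tel (h : ∀ n, KF R (D.obj n)) : KF R (Tel D) := by
  have h1 := kf_dsum D.obj h
  rw [kf_iff] at h1 ⊢
  exact (isKFlat_mappingCone (telMap D)).1 h1 h1

theorem flat_tel (h : ∀ n i, Module.Flat R ((D.obj n).X i)) (i : ℤ) :
    Module.Flat R ((Tel D).X i) := by
  haveI : Module.Flat R (((dsum D.obj).X (i + 1) ⊞ (dsum D.obj).X i : ModuleCat.{u} R)) :=
    Groth.Agent.Lib.DMod_helper6.flat_biprod (flat_dsum D.obj h (i + 1)) (flat_dsum D.obj h i)
  exact Module.Flat.of_linearEquiv
    (Groth.Agent.Lib.DMod_helper6.coneXIso (telMap D) i).toLinearEquiv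

end Tel

/-- **every complex of modules has a K-projective, K-flat, termwise flat resolution** -/
theorem exists_kproj_resolution (X : CochainComplex (ModuleCat.{u} R) ℤ) :
    ∃ (P : CochainComplex (ModuleCat.{u} R) ℤ) (π : P ⟶ X), QuasiIso π ∧ P.IsKProjective ∧
      KF R P ∧ ∀ i : ℤ, Module.Flat R (P.X i) := by
  obtain ⟨Kc, π, _, _, hb, hfree, _, c, _, hq⟩ :=
    Groth.Agent.Lib.ResSystem.exists_system (fun M : ModuleCat.{u} R => Module.Free R M) X
      (resClass R).cover (resClass R).zero (fun e h => (resClass R).of_iso e h)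
      (fun h1 h2 => (resClass R).biprod h1 h2)
  have hfl : ∀ n i, Module.Flat R ((Kc.obj n).X i) := fun n i => by
    haveI := hfree n i
    infer_instance
  have hkp : ∀ n, (Kc.obj n).IsKProjective := fun n => by
    obtain ⟨b, hb'⟩ := hb n
    haveI := hb'
    exact Groth.Agent.Lib.DMod_helper6.isKProjective_of_projective_bounded (Kc.obj n) b
      (fun i hi => (Kc.obj n).isZero_of_isStrictlyLE b i hi)
      (fun i => by haveI := hfree n i; infer_instance)
  have hkf : ∀ n, KF R (Kc.obj n) := fun n => by
    obtain ⟨b, hb'⟩ := hb n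
    haveI := hb'
    exact kf_of_vanishesAbove (Kc.obj n) b
      (fun i hi => (Kc.obj n).isZero_of_isStrictlyLE b i hi) (hfl n)
  haveI := quasiIso_telπ Kc (colimit.cocone Kc) (colimit.isColimit Kc)
  haveI := hq
  exact ⟨Tel Kc, telπ Kc (colimit.cocone Kc) ≫ c, inferInstance, isKProjective_tel Kc hkp,
    kf_tel Kc hkf, flat_tel Kc hfl⟩

end Groth.Agent.Lib.KProjRes
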