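import Mathlib

/-!
# Left derived functors via a comparison functor

Let `L : C ⥤ D` be a localization functor for `W` (with a right calculus of fractions), `F G : C ⥤ H`
functors with `G` inverting `W`, and `τ : G ⟶ F` a natural transformation which is an isomorphism on a
class `P` of objects such that every object receives a `W`-morphism from an object of `P`.  Then the
functor `LG : D ⥤ H` induced by `G`, together with `L ⋙ LG ≅ G ⟶ F`, is a left derived functor of `F`;
consequently the counit of *any* left derived functor of `F` is an isomorphism at objects of `P`.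
-/

namespace Groth.Agent.Lib.DerivedCmp

open CategoryTheory Category

universe v₁ v₂ v₃ u₁ u₂ u₃

variable {C : Type u₁} {D : Type u₂} {H : Type u₃} [Category.{v₁} C] [Category.{v₂} D]
  [Category.{v₃} H]
  (L : C ⥤ D) (W : MorphismProperty C) [L.IsLocalization W]
  {F G : C ⥤ H} (τ : G ⟶ F) (P : C → Prop)

/-- the hypotheses -/
structure ResData : Prop where
  iso : ∀ X, P X → IsIso (τ.app X)
  res : ∀ X, ∃ (X' : C) (s : X' ⟶ X), W s ∧ P X'

variable {W τ P}

lemma ResData.roof [W.HasRightCalculusOfFractions] (h : ResData W τ P) {X Y : C} (f : X ⟶ Y)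
    {X' Y' : C} (s : X' ⟶ X) (t : Y' ⟶ Y) (ht : W t) :
    ∃ (X'' : C) (u : X'' ⟶ X') (g : X'' ⟶ Y'), W u ∧ P X'' ∧ u ≫ s ≫ f = g ≫ t := by
  obtain ⟨ψ, hψ⟩ := (MorphismProperty.LeftFraction.mk (s ≫ f) t ht).exists_rightFraction
  obtain ⟨X'', r, hr, hP⟩ := h.res ψ.X'
  refine ⟨X'', r ≫ ψ.s, r ≫ ψ.f, W.comp_mem _ _ hr ψ.hs, hP, ?_⟩
  have hψ' : ψ.s ≫ s ≫ f = ψ.f ≫ t := hψ
  rw [assoc, hψ', assoc]

section

variable (h : ResData W τ P) (E : D ⥤ H) (β : L ⋙ E ⟶ F)

/-- `δ` on objects of `P` -/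
noncomputable def delta (X' : C) (hX' : P X') : E.obj (L.obj X') ⟶ G.obj X' :=
  haveI := h.iso X' hX'
  β.app X' ≫ inv (τ.app X')

lemma delta_nat {X'' Y' : C} (g : X'' ⟶ Y') (h1 : P X'') (h2 : P Y') :
    E.map (L.map g) ≫ delta L h E β Y' h2 = delta L h E β X'' h1 ≫ G.map g := by
  haveI := h.iso X'' h1
  haveI := h.iso Y' h2
  dsimp only [delta]
  have e1 : E.map (L.map g) ≫ β.app Y' = β.app X'' ≫ F.map g := β.naturality g
  have e2 : G.map g ≫ τ.app Y' = τ.app X'' ≫ F.map g := τ.naturality g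
  rw [← assoc, e1, assoc, assoc]
  congr 1
  rw [IsIso.eq_inv_comp, ← assoc, ← e2, assoc, IsIso.hom_inv_id, comp_id]

/-- `θ` attached to a resolution -/
noncomputable def theta {X X' : C} (s : X' ⟶ X) (hs : W s) (hX' : P X') :
    E.obj (L.obj X) ⟶ G.obj X :=
  haveI := Localization.inverts L W s hs
  inv (E.map (L.map s)) ≫ delta L h E β X' hX' ≫ G.map s

lemma theta_nat [W.HasRightCalculusOfFractions] {X Y : C} (f : X ⟶ Y) {X' Y' : C}
    (s : X' ⟶ X) (hs : W s) (hX' : P X') (t : Y' ⟶ Y) (ht : W t) (hY' : P Y') :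
    theta L h E β s hs hX' ≫ G.map f = E.map (L.map f) ≫ theta L h E β t ht hY' := by
  obtain ⟨X'', u, g, hu, hX'', fac⟩ := h.roof f s t ht
  haveI := Localization.inverts L W s hs
  haveI := Localization.inverts L W t ht
  haveI := Localization.inverts L W u hu
  dsimp only [theta]
  have d1 := delta_nat L h E β u hX'' hX'
  have d2 := delta_nat L h E β g hX'' hY'
  -- express `δ_{X'}` through `δ_{X''}`
  have d1' : delta L h E β X' hX' = inv (E.map (L.map u)) ≫ delta L h E β X'' hX'' ≫ G.map u := by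
    rw [IsIso.eq_inv_comp, d1]
  have fac' : E.map (L.map u) ≫ E.map (L.map s) ≫ E.map (L.map f) =
      E.map (L.map g) ≫ E.map (L.map t) := by
    rw [← E.map_comp, ← E.map_comp, ← L.map_comp, ← L.map_comp, fac, L.map_comp, E.map_comp]
  have facG : G.map u ≫ G.map s ≫ G.map f = G.map g ≫ G.map t := by
    rw [← G.map_comp, ← G.map_comp, fac, G.map_comp]
  rw [d1']
  simp only [assoc]
  rw [facG, ← reassoc_of% d2]
  rw [IsIso.inv_comp_eq, IsIso.inv_comp_eq, reassoc_of% fac', IsIso.hom_inv_id_assoc]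

lemma theta_fac {X X' : C} (s : X' ⟶ X) (hs : W s) (hX' : P X') :
    theta L h E β s hs hX' ≫ τ.app X = β.app X := by
  haveI := Localization.inverts L W s hs
  haveI := h.iso X' hX'
  dsimp only [theta, delta]
  have e1 : E.map (L.map s) ≫ β.app X = β.app X' ≫ F.map s := β.naturality s
  have e2 : G.map s ≫ τ.app X = τ.app X' ≫ F.map s := τ.naturality s
  rw [assoc, assoc, assoc, e2, IsIso.inv_hom_id_assoc, ← e1, IsIso.inv_hom_id_assoc]

/-- the natural transformation `L ⋙ E ⟶ G` -/
noncomputable def gamma' [W.HasRightCalculusOfFractions] : L ⋙ E ⟶ G where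
  app X := theta L h E β (h.res X).choose_spec.choose (h.res X).choose_spec.choose_spec.1
    (h.res X).choose_spec.choose_spec.2
  naturality X Y f := (theta_nat L h E β f _ _ _ _ _ _).symm

lemma gamma'_fac [W.HasRightCalculusOfFractions] : gamma' L h E β ≫ τ = β := by
  ext X
  rw [NatTrans.comp_app]
  exact theta_fac L h E β (h.res X).choose_spec.choose (h.res X).choose_spec.choose_spec.1
    (h.res X).choose_spec.choose_spec.2

variable (LG : D ⥤ H) (eG : L ⋙ LG ≅ G)

/-- the lift `E ⟶ LG` -/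
noncomputable def gammaLift [W.HasRightCalculusOfFractions] : E ⟶ LG :=
  letI : Localization.Lifting L W G LG := ⟨eG⟩
  Localization.liftNatTrans L W (L ⋙ E) G E LG (gamma' L h E β)

lemma gammaLift_fac [W.HasRightCalculusOfFractions] :
    Functor.whiskerLeft L (gammaLift L h E β LG eG) ≫ (eG.hom ≫ τ) = β := by
  letI : Localization.Lifting L W G LG := ⟨eG⟩
  ext X
  have h1 : (gammaLift L h E β LG eG).app (L.obj X) =
      𝟙 _ ≫ (gamma' L h E β).app X ≫ eG.inv.app X :=
    Localization.liftNatTrans_app L W (L ⋙ E) G E LG (gamma' L h E β) X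
  have h2 := congrArg (fun t => t.app X) (gamma'_fac L h E β)
  simp only [NatTrans.comp_app] at h2
  rw [NatTrans.comp_app, Functor.whiskerLeft_app, h1, NatTrans.comp_app, id_comp, assoc,
    Iso.inv_hom_id_app_assoc]
  exact h2

include h in
lemma lift_unique (γ₁ γ₂ : E ⟶ LG)
    (h₁ : Functor.whiskerLeft L γ₁ ≫ (eG.hom ≫ τ) = β)
    (h₂ : Functor.whiskerLeft L γ₂ ≫ (eG.hom ≫ τ) = β) : γ₁ = γ₂ := by
  apply Localization.natTrans_ext L W
  intro X
  obtain ⟨X', s, hs, hX'⟩ := h.res X
  haveI := Localization.inverts L W s hs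
  haveI := h.iso X' hX'
  have n1 := γ₁.naturality (L.map s)
  have n2 := γ₂.naturality (L.map s)
  have a1 := congrArg (fun t => t.app X') h₁
  have a2 := congrArg (fun t => t.app X') h₂
  simp only [NatTrans.comp_app, Functor.whiskerLeft_app] at a1 a2
  have e : γ₁.app (L.obj X') = γ₂.app (L.obj X') := by
    rw [← cancel_mono (eG.hom.app X' ≫ τ.app X'), a1, a2]
  rw [← cancel_epi (E.map (L.map s)), n1, n2, e]

end

variable (W) in
/-- **the comparison functor is a left derived functor** -/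
theorem isLeftDerivedFunctor [W.HasRightCalculusOfFractions] (h : ResData W τ P)
    (LG : D ⥤ H) (eG : L ⋙ LG ≅ G) :
    LG.IsLeftDerivedFunctor (eG.hom ≫ τ) W := by
  refine ⟨⟨⟨Limits.IsTerminal.ofUniqueHom (fun E => CostructuredArrow.homMk
    (gammaLift L h E.left E.hom LG eG) (gammaLift_fac L h E.left E.hom LG eG))
    (fun E m => ?_)⟩⟩⟩
  apply CostructuredArrow.hom_ext
  exact lift_unique L h E.left E.hom LG eG _ _ (CostructuredArrow.w m)
    (gammaLift_fac L h E.left E.hom LG eG)

variable (W) in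
/-- the counit of any left derived functor is an isomorphism on `P` -/
theorem isIso_counit [W.HasRightCalculusOfFractions] (h : ResData W τ P)
    (hG : W.IsInvertedBy G) (LF : D ⥤ H) (α : L ⋙ LF ⟶ F) [LF.IsLeftDerivedFunctor α W]
    (X : C) (hX : P X) : IsIso (α.app X) := by
  let LG := Localization.lift G hG L
  let eG : L ⋙ LG ≅ G := Localization.fac G hG L
  haveI := isLeftDerivedFunctor L W h LG eG
  let a : LF ⟶ LG := LG.leftDerivedLift (eG.hom ≫ τ) W LF α
  let b : LG ⟶ LF := LF.leftDerivedLift α W LG (eG.hom ≫ τ)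
  have ha : Functor.whiskerLeft L a ≫ (eG.hom ≫ τ) = α := LG.leftDerived_fac (eG.hom ≫ τ) W LF α
  have hb : Functor.whiskerLeft L b ≫ α = eG.hom ≫ τ := LF.leftDerived_fac α W LG (eG.hom ≫ τ)
  have hab : a ≫ b = 𝟙 LF := by
    apply LF.leftDerived_ext α W
    rw [Functor.whiskerLeft_comp, assoc, hb, ha, Functor.whiskerLeft_id', id_comp]
  have hba : b ≫ a = 𝟙 LG := by
    apply LG.leftDerived_ext (eG.hom ≫ τ) W
    rw [Functor.whiskerLeft_comp, assoc, ha, hb, Functor.whiskerLeft_id', id_comp]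
  haveI : IsIso (a.app (L.obj X)) := ⟨b.app (L.obj X), by
    rw [← NatTrans.comp_app, hab]; rfl, by rw [← NatTrans.comp_app, hba]; rfl⟩
  haveI := h.iso X hX
  have he : a.app (L.obj X) ≫ (eG.hom.app X ≫ τ.app X) = α.app X := by
    have := congrArg (fun t => t.app X) ha
    simpa using this
  rw [← he]
  infer_instance

end Groth.Agent.Lib.DerivedCmp
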