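import Groth.Agent.Lib.KFlatGen4_helper2

/-!
# K-flat complexes with respect to a bifunctor (helper2), part VII:
the left derived functor of `Tot F(-, N)` for a complex `N`, derived along `Q`, is computed by
K-flat complexes
-/

set_option autoImplicit false
universe w v u
open CategoryTheory Limits

namespace Groth.Agent.Lib.KFlatGen

open Groth.Agent.Lib.BifCone

section Transfer

variable {C D H : Type*} [Category C] [Category D] [Category H] (r : HomRel C)
  (Lh : CategoryTheory.Quotient r ⥤ D) (ΦH : CategoryTheory.Quotient r ⥤ H) (LF : D ⥤ H)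

/-- a right Kan extension along `functor r ⋙ Lh` of a functor factoring through the quotient is a
right Kan extension along `Lh` -/
theorem isRightKanExtension_of_quotient
    (α : (CategoryTheory.Quotient.functor r ⋙ Lh) ⋙ LF ⟶ CategoryTheory.Quotient.functor r ⋙ ΦH)
    [LF.IsRightKanExtension α] :
    LF.IsRightKanExtension
      (CategoryTheory.Quotient.natTransLift r ((Functor.associator _ _ _).inv ≫ α) :
        Lh ⋙ LF ⟶ ΦH) := by
  refine ⟨⟨Limits.IsTerminal.ofUniqueHom (fun E => CostructuredArrow.homMk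
    (LF.liftOfIsRightKanExtension α E.left
      ((Functor.associator _ _ _).hom ≫ Functor.whiskerLeft (CategoryTheory.Quotient.functor r) E.hom))
    ?_) (fun E m => ?_)⟩⟩
  · apply CategoryTheory.Quotient.natTrans_ext
    ext X
    have h := LF.liftOfIsRightKanExtension_fac_app α E.left
      ((Functor.associator _ _ _).hom ≫ Functor.whiskerLeft (CategoryTheory.Quotient.functor r) E.hom) X
    change (LF.liftOfIsRightKanExtension α E.left _).app
        (Lh.obj ((CategoryTheory.Quotient.functor r).obj X)) ≫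
      (CategoryTheory.Quotient.natTransLift r ((Functor.associator _ _ _).inv ≫ α)).app
        ((CategoryTheory.Quotient.functor r).obj X) = _
    rw [CategoryTheory.Quotient.natTransLift_app]
    simpa using h
  · apply CostructuredArrow.hom_ext
    apply LF.hom_ext_of_isRightKanExtension α
    ext X
    have h := LF.liftOfIsRightKanExtension_fac_app α E.left
      ((Functor.associator _ _ _).hom ≫ Functor.whiskerLeft (CategoryTheory.Quotient.functor r) E.hom) X
    have hm := congrArg (fun t => t.app ((CategoryTheory.Quotient.functor r).obj X))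
      (CostructuredArrow.w m)
    replace hm : m.left.app (Lh.obj ((CategoryTheory.Quotient.functor r).obj X)) ≫
        (CategoryTheory.Quotient.natTransLift r ((Functor.associator _ _ _).inv ≫ α)).app
          ((CategoryTheory.Quotient.functor r).obj X) =
        E.hom.app ((CategoryTheory.Quotient.functor r).obj X) := hm
    rw [CategoryTheory.Quotient.natTransLift_app] at hm
    change m.left.app (Lh.obj ((CategoryTheory.Quotient.functor r).obj X)) ≫ α.app X =
      (LF.liftOfIsRightKanExtension α E.left _).app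
        (Lh.obj ((CategoryTheory.Quotient.functor r).obj X)) ≫ α.app X
    have e1 : m.left.app (Lh.obj ((CategoryTheory.Quotient.functor r).obj X)) ≫ α.app X =
        E.hom.app ((CategoryTheory.Quotient.functor r).obj X) := by simpa using hm
    have e2 : (((CategoryTheory.Quotient.functor r).associator Lh E.left).hom ≫
        (CategoryTheory.Quotient.functor r).whiskerLeft E.hom).app X =
        E.hom.app ((CategoryTheory.Quotient.functor r).obj X) := by simp
    exact e1.trans (e2.symm.trans h.symm)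

end Transfer

section Derived

variable {𝒜 : Type u} [Category.{v} 𝒜] [Abelian 𝒜]
  (F : 𝒜 ⥤ 𝒜 ⥤ 𝒜) [F.Additive] [∀ X, (F.obj X).Additive]
  [∀ (K₁ K₂ : CochainComplex 𝒜 ℤ), CochainComplex.HasMapBifunctor K₁ K₂ F]
variable [HasDerivedCategory.{w} 𝒜]

/-- inversion of quasi-isomorphisms by `Qh ∘ quotient` -/
lemma isIso_Qh_quotient_map {K L : CochainComplex 𝒜 ℤ} (f : K ⟶ L) (hf : QuasiIso f) :
    IsIso (DerivedCategory.Qh.map
      ((HomotopyCategory.quotient 𝒜 (ComplexShape.up ℤ)).map f)) :=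
  Localization.inverts DerivedCategory.Qh
    (HomotopyCategory.quasiIso 𝒜 (ComplexShape.up ℤ)) _
    ((HomotopyCategory.quotient_map_mem_quasiIso_iff f).2
      ((HomologicalComplex.mem_quasiIso_iff f).2 hf))

/-- if `N` is K-flat, `X ↦ Tot F(X, N)` inverts quasi-isomorphisms -/
lemma isInvertedBy_phiH (N : CochainComplex 𝒜 ℤ) (hN : IsKFlat F N) :
    (HomotopyCategory.quasiIso 𝒜 (ComplexShape.up ℤ)).IsInvertedBy
      (phiH F N ⋙ DerivedCategory.Qh) := by
  rintro ⟨K⟩ ⟨L⟩ f hf
  rw [← HomotopyCategory.quotient_map_out f] at hf ⊢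
  have hq : QuasiIso f.out :=
    (HomologicalComplex.mem_quasiIso_iff _).1
      ((HomotopyCategory.quotient_map_mem_quasiIso_iff _).1 hf)
  haveI := hq
  have hq' : QuasiIso (HomologicalComplex.mapBifunctorMap f.out (𝟙 N) F (ComplexShape.up ℤ)) :=
    quasiIso_mapBifunctorMap₁ F N hN f.out
  exact isIso_Qh_quotient_map _ hq'

/-- a left derived functor along `Q` of `X ↦ Q (Tot F(X, N))` is a left derived functor along `Qh` -/
theorem isLeftDerivedFunctor_Qh_of_Q (N : CochainComplex 𝒜 ℤ)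
    (LF : DerivedCategory 𝒜 ⥤ DerivedCategory 𝒜)
    (α : DerivedCategory.Q ⋙ LF ⟶ F.map₂CochainComplex.flip.obj N ⋙ DerivedCategory.Q)
    [hα : LF.IsLeftDerivedFunctor α (HomologicalComplex.quasiIso 𝒜 (ComplexShape.up ℤ))] :
    ∃ α' : DerivedCategory.Qh ⋙ LF ⟶ phiH F N ⋙ DerivedCategory.Qh,
      LF.IsLeftDerivedFunctor α' (HomotopyCategory.quasiIso 𝒜 (ComplexShape.up ℤ)) ∧
      ∀ X : CochainComplex 𝒜 ℤ,
        α'.app ((HomotopyCategory.quotient 𝒜 (ComplexShape.up ℤ)).obj X) = α.app X := by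
  let α₂ : (CategoryTheory.Quotient.functor (homotopic 𝒜 (ComplexShape.up ℤ)) ⋙
        DerivedCategory.Qh) ⋙ LF ⟶
      CategoryTheory.Quotient.functor (homotopic 𝒜 (ComplexShape.up ℤ)) ⋙
        (phiH F N ⋙ DerivedCategory.Qh) := α
  haveI : LF.IsRightKanExtension α₂ :=
    Functor.IsLeftDerivedFunctor.isRightKanExtension LF α
      (HomologicalComplex.quasiIso 𝒜 (ComplexShape.up ℤ))
  have h := isRightKanExtension_of_quotient (homotopic 𝒜 (ComplexShape.up ℤ))
    DerivedCategory.Qh (phiH F N ⋙ DerivedCategory.Qh) LF α₂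
  refine ⟨_, ⟨h⟩, fun X => ?_⟩
  refine (CategoryTheory.Quotient.natTransLift_app _ _ _ _ X).trans ?_
  simp only [NatTrans.comp_app, Functor.associator_inv_app]
  exact Category.id_comp _

variable (σ : F ≅ F.flip) {Fl P : 𝒜 → Prop} (hFl : FlatClass F Fl) (hP : ResClass Fl P)
  [HasCoproducts.{0} 𝒜]
  [∀ n : ℤ, HasExactColimitsOfShape (Discrete (BifSES.Idx n)) 𝒜]
  [HasColimitsOfShape ℕ 𝒜] [HasExactColimitsOfShape ℕ 𝒜]
  [∀ X : 𝒜, PreservesColimitsOfShape ℕ (F.obj X)]

include σ hFl hP in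
/-- **the counit of any left derived functor (along `Qh`) of `Tot F(-, N)` is an isomorphism on
K-flat complexes** -/
theorem isIso_counitH_of_isKFlat (N : CochainComplex 𝒜 ℤ)
    (LF : DerivedCategory 𝒜 ⥤ DerivedCategory 𝒜)
    (α : DerivedCategory.Qh ⋙ LF ⟶ phiH F N ⋙ DerivedCategory.Qh)
    [LF.IsLeftDerivedFunctor α (HomotopyCategory.quasiIso 𝒜 (ComplexShape.up ℤ))]
    (X : CochainComplex 𝒜 ℤ) (hX : IsKFlat F X) :
    IsIso (α.app ((HomotopyCategory.quotient 𝒜 (ComplexShape.up ℤ)).obj X)) := by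
  obtain ⟨PN, π, hPN, -, hπ, -⟩ := exists_kflat_resolution hFl hP N
  haveI := hπ
  have hdata : Groth.Agent.Lib.DerivedCmp.ResData
      (HomotopyCategory.quasiIso 𝒜 (ComplexShape.up ℤ))
      (Functor.whiskerRight (phiHMap F π) DerivedCategory.Qh)
      (fun Z => IsKFlat F Z.as) := by
    constructor
    · rintro ⟨Z⟩ hZ
      have hq : QuasiIso (HomologicalComplex.mapBifunctorMap (𝟙 Z) π F (ComplexShape.up ℤ)) :=
        quasiIso_mapBifunctorMap₂ F Z (acyclic_tensor_left_of_isKFlat σ Z hZ) π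
      exact isIso_Qh_quotient_map _ hq
    · rintro ⟨Z⟩
      obtain ⟨K, q, hK, -, hq, -⟩ := exists_kflat_resolution hFl hP Z
      exact ⟨(HomotopyCategory.quotient 𝒜 (ComplexShape.up ℤ)).obj K,
        (HomotopyCategory.quotient 𝒜 (ComplexShape.up ℤ)).map q,
        (HomotopyCategory.quotient_map_mem_quasiIso_iff q).2
          ((HomologicalComplex.mem_quasiIso_iff q).2 hq), hK⟩
  exact Groth.Agent.Lib.DerivedCmp.isIso_counit DerivedCategory.Qh
    (HomotopyCategory.quasiIso 𝒜 (ComplexShape.up ℤ)) hdata (isInvertedBy_phiH F PN hPN) LF α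
    ((HomotopyCategory.quotient 𝒜 (ComplexShape.up ℤ)).obj X) hX

omit [HasCoproducts.{0} 𝒜] [∀ n : ℤ, HasExactColimitsOfShape (Discrete (BifSES.Idx n)) 𝒜]
  [HasColimitsOfShape ℕ 𝒜] [HasExactColimitsOfShape ℕ 𝒜]
  [∀ X : 𝒜, PreservesColimitsOfShape ℕ (F.obj X)] in
/-- if `N` is K-flat, the counit of any left derived functor (along `Qh`) of `Tot F(-, N)` is an
isomorphism -/
theorem isIso_counitH_of_isKFlat_right (N : CochainComplex 𝒜 ℤ) (hN : IsKFlat F N)
    (LF : DerivedCategory 𝒜 ⥤ DerivedCategory 𝒜)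
    (α : DerivedCategory.Qh ⋙ LF ⟶ phiH F N ⋙ DerivedCategory.Qh)
    [LF.IsLeftDerivedFunctor α (HomotopyCategory.quasiIso 𝒜 (ComplexShape.up ℤ))]
    (X : CochainComplex 𝒜 ℤ) :
    IsIso (α.app ((HomotopyCategory.quotient 𝒜 (ComplexShape.up ℤ)).obj X)) := by
  have hdata : Groth.Agent.Lib.DerivedCmp.ResData
      (HomotopyCategory.quasiIso 𝒜 (ComplexShape.up ℤ))
      (𝟙 (phiH F N ⋙ DerivedCategory.Qh))
      (fun _ => True) := by
    constructor
    · intro Z _
      exact inferInstanceAs (IsIso (𝟙 _))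
    · intro Z
      exact ⟨Z, 𝟙 Z, MorphismProperty.id_mem _ _, trivial⟩
  exact Groth.Agent.Lib.DerivedCmp.isIso_counit DerivedCategory.Qh
    (HomotopyCategory.quasiIso 𝒜 (ComplexShape.up ℤ)) hdata (isInvertedBy_phiH F N hN) LF α
    ((HomotopyCategory.quotient 𝒜 (ComplexShape.up ℤ)).obj X) trivial

end Derived

section DerivedQ

variable {𝒜 : Type u} [Category.{v} 𝒜] [Abelian 𝒜]
  (F : 𝒜 ⥤ 𝒜 ⥤ 𝒜) [F.Additive] [∀ X, (F.obj X).Additive]
  [∀ (K₁ K₂ : CochainComplex 𝒜 ℤ), CochainComplex.HasMapBifunctor K₁ K₂ F]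
variable [HasDerivedCategory.{w} 𝒜]
variable (σ : F ≅ F.flip) {Fl P : 𝒜 → Prop} (hFl : FlatClass F Fl) (hP : ResClass Fl P)
  [HasCoproducts.{0} 𝒜]
  [∀ n : ℤ, HasExactColimitsOfShape (Discrete (BifSES.Idx n)) 𝒜]
  [HasColimitsOfShape ℕ 𝒜] [HasExactColimitsOfShape ℕ 𝒜]
  [∀ X : 𝒜, PreservesColimitsOfShape ℕ (F.obj X)]

include σ hFl hP in
/-- **the counit of any left derived functor (along `Q`) of `X ↦ Q (Tot F(X, N))` is an isomorphism
on K-flat complexes** -/
theorem isIso_counitQ_of_isKFlat (N : CochainComplex 𝒜 ℤ)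
    (LF : DerivedCategory 𝒜 ⥤ DerivedCategory 𝒜)
    (α : DerivedCategory.Q ⋙ LF ⟶ F.map₂CochainComplex.flip.obj N ⋙ DerivedCategory.Q)
    [LF.IsLeftDerivedFunctor α (HomologicalComplex.quasiIso 𝒜 (ComplexShape.up ℤ))]
    (X : CochainComplex 𝒜 ℤ) (hX : IsKFlat F X) : IsIso (α.app X) := by
  obtain ⟨α', hα', h⟩ := isLeftDerivedFunctor_Qh_of_Q F N LF α
  haveI := hα'
  rw [← h X]
  exact isIso_counitH_of_isKFlat F σ hFl hP N LF α' X hX

omit [HasCoproducts.{0} 𝒜] [∀ n : ℤ, HasExactColimitsOfShape (Discrete (BifSES.Idx n)) 𝒜]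
  [HasColimitsOfShape ℕ 𝒜] [HasExactColimitsOfShape ℕ 𝒜]
  [∀ X : 𝒜, PreservesColimitsOfShape ℕ (F.obj X)] in
/-- if `N` is K-flat, the counit of any left derived functor (along `Q`) of `X ↦ Q (Tot F(X, N))`
is an isomorphism -/
theorem isIso_counitQ_of_isKFlat_right (N : CochainComplex 𝒜 ℤ) (hN : IsKFlat F N)
    (LF : DerivedCategory 𝒜 ⥤ DerivedCategory 𝒜)
    (α : DerivedCategory.Q ⋙ LF ⟶ F.map₂CochainComplex.flip.obj N ⋙ DerivedCategory.Q)
    [LF.IsLeftDerivedFunctor α (HomologicalComplex.quasiIso 𝒜 (ComplexShape.up ℤ))]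
    (X : CochainComplex 𝒜 ℤ) : IsIso (α.app X) := by
  obtain ⟨α', hα', h⟩ := isLeftDerivedFunctor_Qh_of_Q F N LF α
  haveI := hα'
  rw [← h X]
  exact isIso_counitH_of_isKFlat_right F N hN LF α' X

end DerivedQ

end Groth.Agent.Lib.KFlatGen
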