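import Mathlib
import Groth.Agent.Lib.KProjRes_helper2
import Groth.Agent.Lib.KFlatMod2_helper2

/-!
# The K-projective resolution functor `D(R) ⥤ K(R)` (helper2)

The functor `Qh` restricted to the full subcategory of `K(R)` of K-projective (and K-flat)
complexes is an equivalence; its inverse gives a functor `kprojInv : D(R) ⥤ K(R)` with
`kprojInv ⋙ Qh ≅ 𝟭`, and a natural transformation `πρ : Qh ⋙ kprojInv ⟶ 𝟭` of endofunctors of `K(R)`
whose components are quasi-isomorphisms.
-/

set_option autoImplicit false
universe u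
open CategoryTheory Limits

namespace Groth.Agent.Lib.KProjInv

open DerivedCategory Groth.Agent.Lib.KFlatMod

attribute [local instance] HasDerivedCategory.standard

variable (R : Type u) [CommRing R]

/-- the homotopy category -/
abbrev KR := HomotopyCategory (ModuleCat.{u} R) (ComplexShape.up ℤ)

/-- the derived category -/
abbrev DR := DerivedCategory (ModuleCat.{u} R)

/-- K-projective and K-flat objects of the homotopy category -/
def KP : ObjectProperty (KR R) := fun X => CochainComplex.IsKProjective X.as ∧ KF R X.as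

/-- `Qh` restricted to K-projective objects -/
noncomputable abbrev Φ : (KP R).FullSubcategory ⥤ DR R := (KP R).ι ⋙ Qh

instance faithful_Φ : (Φ R).Faithful where
  map_injective {X Y} f g h := by
    haveI : CochainComplex.IsKProjective X.obj.as := X.property.1
    apply ObjectProperty.hom_ext
    exact (CochainComplex.IsKProjective.Qh_map_bijective X.obj.as Y.obj).1 h

instance full_Φ : (Φ R).Full where
  map_surjective {X Y} f := by
    haveI : CochainComplex.IsKProjective X.obj.as := X.property.1
    obtain ⟨g, hg⟩ := (CochainComplex.IsKProjective.Qh_map_bijective X.obj.as Y.obj).2 f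
    exact ⟨ObjectProperty.homMk g, hg⟩

instance essSurj_Φ : (Φ R).EssSurj where
  mem_essImage E := by
    obtain ⟨P, π, hπ, hkp, hkf, -⟩ :=
      Groth.Agent.Lib.KProjRes.exists_kproj_resolution (Q.objPreimage E)
    haveI := hπ
    haveI : IsIso (Q.map π) := (DerivedCategory.isIso_Q_map_iff_quasiIso _ _).2 inferInstance
    exact ⟨⟨(HomotopyCategory.quotient _ _).obj P, ⟨hkp, hkf⟩⟩,
      ⟨(quotientCompQhIso _).app P ≪≫ asIso (Q.map π) ≪≫ Q.objObjPreimageIso E⟩⟩

instance isEquivalence_Φ : (Φ R).IsEquivalence where

/-- the K-projective resolution functor -/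
noncomputable def kprojInv : DR R ⥤ KR R := (Φ R).inv ⋙ (KP R).ι

lemma kprojInv_prop (E : DR R) :
    CochainComplex.IsKProjective ((kprojInv R).obj E).as ∧ KF R ((kprojInv R).obj E).as :=
  ((Φ R).inv.obj E).property

/-- `kprojInv` is a section of `Qh` -/
noncomputable def kprojInvIso : kprojInv R ⋙ Qh ≅ 𝟭 (DR R) :=
  Functor.associator _ _ _ ≪≫ (Φ R).asEquivalence.counitIso

/-- the resolution functor on the homotopy category -/
noncomputable abbrev ρ : KR R ⥤ KR R := Qh ⋙ kprojInv R

lemma ρ_prop (X : KR R) : CochainComplex.IsKProjective ((ρ R).obj X).as ∧ KF R ((ρ R).obj X).as :=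
  kprojInv_prop R _

lemma exists_πρApp (X : KR R) :
    ∃ p : (ρ R).obj X ⟶ X, Qh.map p = (kprojInvIso R).hom.app (Qh.obj X) := by
  haveI : CochainComplex.IsKProjective ((ρ R).obj X).as := (ρ_prop R X).1
  exact (CochainComplex.IsKProjective.Qh_map_bijective ((ρ R).obj X).as X).2
    ((kprojInvIso R).hom.app (Qh.obj X))

/-- the resolution map `ρ X ⟶ X` -/
noncomputable def πρApp (X : KR R) : (ρ R).obj X ⟶ X := (exists_πρApp R X).choose

lemma Qh_map_πρApp (X : KR R) : Qh.map (πρApp R X) = (kprojInvIso R).hom.app (Qh.obj X) :=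
  (exists_πρApp R X).choose_spec

/-- the resolution maps form a natural transformation -/
noncomputable def πρ : ρ R ⟶ 𝟭 (KR R) where
  app := πρApp R
  naturality X Y f := by
    haveI : CochainComplex.IsKProjective ((ρ R).obj X).as := (ρ_prop R X).1
    apply (CochainComplex.IsKProjective.Qh_map_bijective ((ρ R).obj X).as Y).1
    show Qh.map ((ρ R).map f ≫ πρApp R Y) = Qh.map (πρApp R X ≫ f)
    rw [Functor.map_comp, Functor.map_comp, Qh_map_πρApp, Qh_map_πρApp]
    exact (kprojInvIso R).hom.naturality (Qh.map f)

instance isIso_Qh_map_πρ (X : KR R) : IsIso (Qh.map ((πρ R).app X)) := by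
  show IsIso (Qh.map (πρApp R X))
  rw [Qh_map_πρApp]
  infer_instance

variable {R}

/-- a chain map whose image in the derived category is invertible is a quasi-isomorphism -/
lemma quasiIso_of_isIso_Qh_map {K L : CochainComplex (ModuleCat.{u} R) ℤ} (p : K ⟶ L)
    (h : IsIso (Qh.map ((HomotopyCategory.quotient _ _).map p))) : QuasiIso p := by
  rw [← DerivedCategory.isIso_Q_map_iff_quasiIso]
  exact (NatIso.isIso_map_iff (quotientCompQhIso (ModuleCat.{u} R)) p).1 h

/-- a representative of the resolution map is a quasi-isomorphism -/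
lemma quasiIso_out_πρ (X : KR R) : QuasiIso ((πρ R).app X).out := by
  apply quasiIso_of_isIso_Qh_map
  rw [HomotopyCategory.quotient_map_out]
  exact isIso_Qh_map_πρ R X

lemma mem_quasiIso_πρ (X : KR R) :
    HomotopyCategory.quasiIso (ModuleCat.{u} R) (ComplexShape.up ℤ) ((πρ R).app X) := by
  rw [← HomotopyCategory.quotient_map_out ((πρ R).app X)]
  exact (HomotopyCategory.quotient_map_mem_quasiIso_iff _).2
    ((HomologicalComplex.mem_quasiIso_iff _).2 (quasiIso_out_πρ X))

end Groth.Agent.Lib.KProjInv
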