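import Mathlib

/-!
# Products of localizations and left derived functors of bifunctors (helper2)

* the product of two classes of morphisms with right calculus of fractions has a right calculus of
  fractions;
* whiskering by the product of the two quotient functors to homotopy categories is fully faithful;
* a functor on a product of categories of complexes which identifies homotopic maps descends to the
  product of the homotopy categories;
* a left derived functor along `Q × Q` is a left derived functor along `Qh × Qh`.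
-/

set_option autoImplicit false
universe w v u
open CategoryTheory Limits

namespace Groth.Agent.Lib.ProdLoc

section CalcFrac

variable {C₁ C₂ : Type*} [Category C₁] [Category C₂] (W₁ : MorphismProperty C₁)
  (W₂ : MorphismProperty C₂)

instance prod_isStableUnderComposition [W₁.IsStableUnderComposition]
    [W₂.IsStableUnderComposition] : (W₁.prod W₂).IsStableUnderComposition where
  comp_mem f g hf hg := ⟨W₁.comp_mem _ _ hf.1 hg.1, W₂.comp_mem _ _ hf.2 hg.2⟩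

instance prod_isMultiplicative [W₁.IsMultiplicative] [W₂.IsMultiplicative] :
    (W₁.prod W₂).IsMultiplicative where

instance prod_hasRightCalculusOfFractions [W₁.HasRightCalculusOfFractions]
    [W₂.HasRightCalculusOfFractions] : (W₁.prod W₂).HasRightCalculusOfFractions where
  exists_rightFraction := by
    intro X Y φ
    obtain ⟨ψ₁, h₁⟩ := (MorphismProperty.LeftFraction.mk φ.f.1 φ.s.1 φ.hs.1).exists_rightFraction
    obtain ⟨ψ₂, h₂⟩ := (MorphismProperty.LeftFraction.mk φ.f.2 φ.s.2 φ.hs.2).exists_rightFraction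
    refine ⟨MorphismProperty.RightFraction.mk (X' := (ψ₁.X', ψ₂.X')) (ψ₁.s, ψ₂.s)
      ⟨ψ₁.hs, ψ₂.hs⟩ (ψ₁.f, ψ₂.f), ?_⟩
    exact Prod.ext h₁ h₂
  ext := by
    intro X Y Y' f₁ f₂ s hs h
    have h₁ : f₁.1 ≫ s.1 = f₂.1 ≫ s.1 := congrArg Prod.fst h
    have h₂ : f₁.2 ≫ s.2 = f₂.2 ≫ s.2 := congrArg Prod.snd h
    obtain ⟨X₁', t₁, ht₁, e₁⟩ := MorphismProperty.HasRightCalculusOfFractions.ext _ _ _ hs.1 h₁
    obtain ⟨X₂', t₂, ht₂, e₂⟩ := MorphismProperty.HasRightCalculusOfFractions.ext _ _ _ hs.2 h₂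
    exact ⟨(X₁', X₂'), (t₁, t₂), ⟨ht₁, ht₂⟩, Prod.ext e₁ e₂⟩

end CalcFrac

section Transfer

variable {C C' D H : Type*} [Category C] [Category C'] [Category D] [Category H]

/-- whiskering by `π` is bijective on natural transformations between functors to `H` -/
def WhiskerFF (π : C ⥤ C') (H : Type*) [Category H] : Prop :=
  ∀ (G₁ G₂ : C' ⥤ H), Function.Bijective (fun τ : G₁ ⟶ G₂ => Functor.whiskerLeft π τ)

variable (π : C ⥤ C') (Lh : C' ⥤ D) (F' : C' ⥤ H) (LF : D ⥤ H)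

/-- a right Kan extension along `π ⋙ Lh` of a functor factoring through `π` is a right Kan extension
along `Lh`, if whiskering by `π` is fully faithful -/
theorem isRightKanExtension_of_whiskerFF (hπ : WhiskerFF π H)
    (α : (π ⋙ Lh) ⋙ LF ⟶ π ⋙ F') [LF.IsRightKanExtension α] :
    ∃ α' : Lh ⋙ LF ⟶ F', LF.IsRightKanExtension α' ∧ ∀ X, α'.app (π.obj X) = α.app X := by
  obtain ⟨α', hα'⟩ := (hπ (Lh ⋙ LF) F').2 ((Functor.associator _ _ _).inv ≫ α)
  have happ : ∀ X, α'.app (π.obj X) = α.app X := fun X => by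
    have := congrArg (fun t => t.app X) hα'
    simpa using this
  refine ⟨α', ⟨⟨Limits.IsTerminal.ofUniqueHom (fun E => CostructuredArrow.homMk
    (LF.liftOfIsRightKanExtension α E.left
      ((Functor.associator _ _ _).hom ≫ Functor.whiskerLeft π E.hom)) ?_) (fun E m => ?_)⟩⟩, happ⟩
  · apply (hπ _ _).1
    ext X
    have h := LF.liftOfIsRightKanExtension_fac_app α E.left
      ((Functor.associator _ _ _).hom ≫ Functor.whiskerLeft π E.hom) X
    change (LF.liftOfIsRightKanExtension α E.left _).app (Lh.obj (π.obj X)) ≫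
      α'.app (π.obj X) = E.hom.app (π.obj X)
    rw [happ]
    simpa using h
  · apply CostructuredArrow.hom_ext
    apply LF.hom_ext_of_isRightKanExtension α
    ext X
    have h := LF.liftOfIsRightKanExtension_fac_app α E.left
      ((Functor.associator _ _ _).hom ≫ Functor.whiskerLeft π E.hom) X
    have hm := congrArg (fun t => t.app (π.obj X)) (CostructuredArrow.w m)
    replace hm : m.left.app (Lh.obj (π.obj X)) ≫ α'.app (π.obj X) = E.hom.app (π.obj X) := hm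
    rw [happ] at hm
    change m.left.app (Lh.obj (π.obj X)) ≫ α.app X =
      (LF.liftOfIsRightKanExtension α E.left _).app (Lh.obj (π.obj X)) ≫ α.app X
    have e2 : ((Functor.associator π Lh E.left).hom ≫ Functor.whiskerLeft π E.hom).app X =
        E.hom.app (π.obj X) := by simp
    exact hm.trans (e2.symm.trans h.symm)

end Transfer

section Quotient

variable {V₁ V₂ : Type u} [Category.{v} V₁] [Category.{v} V₂] [Preadditive V₁]
  [Preadditive V₂] (c₁ c₂ : ComplexShape ℤ)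

/-- the product of the two quotient functors -/
abbrev ππ : HomologicalComplex V₁ c₁ × HomologicalComplex V₂ c₂ ⥤
    HomotopyCategory V₁ c₁ × HomotopyCategory V₂ c₂ :=
  (HomotopyCategory.quotient V₁ c₁).prod (HomotopyCategory.quotient V₂ c₂)

lemma map_eq_ππ_map_out {X Y : HomotopyCategory V₁ c₁ × HomotopyCategory V₂ c₂} (f : X ⟶ Y) :
    f = (ππ c₁ c₂).map ((f.1.out, f.2.out) : (X.1.as, X.2.as) ⟶ (Y.1.as, Y.2.as)) :=
  Prod.ext (HomotopyCategory.quotient_map_out f.1).symm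
    (HomotopyCategory.quotient_map_out f.2).symm

theorem whiskerFF_ππ (H : Type*) [Category H] : WhiskerFF (ππ (V₁ := V₁) (V₂ := V₂) c₁ c₂) H := by
  intro G₁ G₂
  constructor
  · intro τ₁ τ₂ h
    ext ⟨⟨X⟩, ⟨Y⟩⟩
    exact congrArg (fun t => t.app (X, Y)) h
  · intro τ
    refine ⟨{ app := fun X => τ.app (X.1.as, X.2.as), naturality := ?_ }, ?_⟩
    · intro X Y f
      rw [map_eq_ππ_map_out c₁ c₂ f]
      exact τ.naturality ((f.1.out, f.2.out) : (X.1.as, X.2.as) ⟶ (Y.1.as, Y.2.as))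
    · ext ⟨X, Y⟩
      rfl

variable {E : Type*} [Category E]

/-- a functor on pairs of complexes which identifies homotopic maps descends to the product of the
homotopy categories -/
noncomputable def prodLift (G : HomologicalComplex V₁ c₁ × HomologicalComplex V₂ c₂ ⥤ E)
    (hG : ∀ {X₁ Y₁ : HomologicalComplex V₁ c₁} {X₂ Y₂ : HomologicalComplex V₂ c₂}
      (f f' : X₁ ⟶ Y₁) (g g' : X₂ ⟶ Y₂), Homotopy f f' → Homotopy g g' →
        G.map ((f, g) : (X₁, X₂) ⟶ (Y₁, Y₂)) = G.map ((f', g') : (X₁, X₂) ⟶ (Y₁, Y₂))) :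
    HomotopyCategory V₁ c₁ × HomotopyCategory V₂ c₂ ⥤ E where
  obj X := G.obj (X.1.as, X.2.as)
  map {X Y} f := G.map ((f.1.out, f.2.out) : (X.1.as, X.2.as) ⟶ (Y.1.as, Y.2.as))
  map_id X := by
    rw [← G.map_id]
    exact hG _ _ _ _
      (HomotopyCategory.homotopyOfEq _ _ (by
        rw [HomotopyCategory.quotient_map_out, CategoryTheory.Functor.map_id]; rfl))
      (HomotopyCategory.homotopyOfEq _ _ (by
        rw [HomotopyCategory.quotient_map_out, CategoryTheory.Functor.map_id]; rfl))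
  map_comp {X Y Z} f g := by
    rw [← G.map_comp]
    exact hG _ _ _ _
      (HomotopyCategory.homotopyOfEq _ _ (by
        rw [HomotopyCategory.quotient_map_out, Functor.map_comp,
          HomotopyCategory.quotient_map_out, HomotopyCategory.quotient_map_out]; rfl))
      (HomotopyCategory.homotopyOfEq _ _ (by
        rw [HomotopyCategory.quotient_map_out, Functor.map_comp,
          HomotopyCategory.quotient_map_out, HomotopyCategory.quotient_map_out]; rfl))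

variable (G : HomologicalComplex V₁ c₁ × HomologicalComplex V₂ c₂ ⥤ E)
    (hG : ∀ {X₁ Y₁ : HomologicalComplex V₁ c₁} {X₂ Y₂ : HomologicalComplex V₂ c₂}
      (f f' : X₁ ⟶ Y₁) (g g' : X₂ ⟶ Y₂), Homotopy f f' → Homotopy g g' →
        G.map ((f, g) : (X₁, X₂) ⟶ (Y₁, Y₂)) = G.map ((f', g') : (X₁, X₂) ⟶ (Y₁, Y₂)))

lemma prodLift_map {X₁ Y₁ : HomologicalComplex V₁ c₁} {X₂ Y₂ : HomologicalComplex V₂ c₂}
    (f : X₁ ⟶ Y₁) (g : X₂ ⟶ Y₂) :
    (prodLift c₁ c₂ G hG).map ((ππ c₁ c₂).map ((f, g) : (X₁, X₂) ⟶ (Y₁, Y₂))) =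
      G.map ((f, g) : (X₁, X₂) ⟶ (Y₁, Y₂)) :=
  hG _ _ _ _ (HomotopyCategory.homotopyOutMap f) (HomotopyCategory.homotopyOutMap g)

/-- `prodLift` factors `G` -/
noncomputable def prodLiftIso : ππ c₁ c₂ ⋙ prodLift c₁ c₂ G hG ≅ G :=
  NatIso.ofComponents (fun X => Iso.refl _) (by
    rintro ⟨X₁, X₂⟩ ⟨Y₁, Y₂⟩ ⟨f, g⟩
    have h := prodLift_map c₁ c₂ G hG f g
    show (prodLift c₁ c₂ G hG).map ((ππ c₁ c₂).map ((f, g) : (X₁, X₂) ⟶ (Y₁, Y₂))) ≫ 𝟙 _ =
      𝟙 _ ≫ G.map ((f, g) : (X₁, X₂) ⟶ (Y₁, Y₂))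
    rw [h]
    exact (Category.comp_id _).trans (Category.id_comp _).symm)

end Quotient

section Derived

variable {𝒜₁ 𝒜₂ : Type u} [Category.{v} 𝒜₁] [Category.{v} 𝒜₂] [Abelian 𝒜₁] [Abelian 𝒜₂]
  [HasDerivedCategory.{w} 𝒜₁] [HasDerivedCategory.{w} 𝒜₂] {H : Type*} [Category H]

variable (𝒜₁ 𝒜₂) in
/-- pairs of quasi-isomorphisms in the homotopy categories -/
abbrev WK : MorphismProperty (HomotopyCategory 𝒜₁ (ComplexShape.up ℤ) ×
    HomotopyCategory 𝒜₂ (ComplexShape.up ℤ)) :=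
  (HomotopyCategory.quasiIso 𝒜₁ (ComplexShape.up ℤ)).prod
    (HomotopyCategory.quasiIso 𝒜₂ (ComplexShape.up ℤ))

variable (𝒜₁ 𝒜₂) in
/-- pairs of quasi-isomorphisms of complexes -/
abbrev WC : MorphismProperty (CochainComplex 𝒜₁ ℤ × CochainComplex 𝒜₂ ℤ) :=
  (HomologicalComplex.quasiIso 𝒜₁ (ComplexShape.up ℤ)).prod
    (HomologicalComplex.quasiIso 𝒜₂ (ComplexShape.up ℤ))

variable (𝒜₁ 𝒜₂) in
/-- `Qh × Qh` -/
noncomputable abbrev QhQh : HomotopyCategory 𝒜₁ (ComplexShape.up ℤ) ×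
    HomotopyCategory 𝒜₂ (ComplexShape.up ℤ) ⥤ DerivedCategory 𝒜₁ × DerivedCategory 𝒜₂ :=
  DerivedCategory.Qh.prod DerivedCategory.Qh

variable (𝒜₁ 𝒜₂) in
/-- `Q × Q` -/
noncomputable abbrev QQ : CochainComplex 𝒜₁ ℤ × CochainComplex 𝒜₂ ℤ ⥤
    DerivedCategory 𝒜₁ × DerivedCategory 𝒜₂ :=
  DerivedCategory.Q.prod DerivedCategory.Q

/-- a left derived functor along `Q × Q` is a left derived functor along `Qh × Qh` -/
theorem isLeftDerivedFunctor_QhQh_of_QQ
    (F' : HomotopyCategory 𝒜₁ (ComplexShape.up ℤ) × HomotopyCategory 𝒜₂ (ComplexShape.up ℤ) ⥤ H)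
    (LF : DerivedCategory 𝒜₁ × DerivedCategory 𝒜₂ ⥤ H)
    (α : QQ 𝒜₁ 𝒜₂ ⋙ LF ⟶ ππ (ComplexShape.up ℤ) (ComplexShape.up ℤ) ⋙ F')
    [hα : LF.IsLeftDerivedFunctor α (WC 𝒜₁ 𝒜₂)] :
    ∃ α' : QhQh 𝒜₁ 𝒜₂ ⋙ LF ⟶ F', LF.IsLeftDerivedFunctor α' (WK 𝒜₁ 𝒜₂) ∧
      ∀ X, α'.app ((ππ (ComplexShape.up ℤ) (ComplexShape.up ℤ)).obj X) = α.app X := by
  let α₂ : (ππ (ComplexShape.up ℤ) (ComplexShape.up ℤ) ⋙ QhQh 𝒜₁ 𝒜₂) ⋙ LF ⟶
      ππ (ComplexShape.up ℤ) (ComplexShape.up ℤ) ⋙ F' := α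
  haveI : LF.IsRightKanExtension α₂ :=
    Functor.IsLeftDerivedFunctor.isRightKanExtension LF α (WC 𝒜₁ 𝒜₂)
  obtain ⟨α', h1, h2⟩ := isRightKanExtension_of_whiskerFF
    (ππ (ComplexShape.up ℤ) (ComplexShape.up ℤ)) (QhQh 𝒜₁ 𝒜₂) F' LF
    (whiskerFF_ππ (ComplexShape.up ℤ) (ComplexShape.up ℤ) H) α₂
  exact ⟨α', ⟨h1⟩, h2⟩

end Derived

end Groth.Agent.Lib.ProdLoc
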