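import Mathlib
import Groth.Prelude.Def_DTen
import Groth.Agent.Lib.ProdLoc_helper2
import Groth.Agent.Lib.KProjInv_helper2
import Groth.Agent.Lib.DerivedCmp_helper2
import Groth.Agent.Lib.KFlatMod2_helper2
import Groth.Agent.Lib.KFlatGen7_helper2

/-!
# The jointly derived tensor product is computed by K-flat complexes (helper2)

`DTen.ε A : LTen₂(QK, QL) ⟶ Q(K ⊗ L)` is an isomorphism as soon as `K` or `L` is K-flat.
-/

set_option autoImplicit false
universe u
open CategoryTheory Limits MonoidalCategory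

namespace Groth.Agent.Lib.LTen2

open DerivedCategory Groth.Agent.Lib.KFlatMod Groth.Agent.Lib.KFlatGen Groth.Agent.Lib.ProdLoc
  Groth.Agent.Lib.KProjInv Groth.Agent.Lib.BifCone

attribute [local instance] HasDerivedCategory.standard

variable (A : Type u) [CommRing A]

section WhiskerLeft

variable {A}

/-- tensoring on the left with a K-flat complex preserves quasi-isomorphisms -/
theorem quasiIso_whiskerLeft_of_kf (K : DRing.Cx A) (hK : KF A K) {L₁ L₂ : DRing.Cx A}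
    (f : L₁ ⟶ L₂) [QuasiIso f] : QuasiIso (K ◁ f) :=
  quasiIso_mapBifunctorMap₂ (T A) K
    (acyclic_tensor_left_of_isKFlat (BraidedCategory.curriedBraidingNatIso (ModuleCat.{u} A)) K
      ((kf_iff K).1 hK)) f

/-- the tensor product of two quasi-isomorphisms `p : P ⟶ X`, `q : P' ⟶ Y` with `P'` and `X`
K-flat is a quasi-isomorphism -/
theorem quasiIso_tensorHom {P X P' Y : DRing.Cx A} (p : P ⟶ X) (q : P' ⟶ Y) [QuasiIso p]
    [QuasiIso q] (hP' : KF A P') (hX : KF A X) : QuasiIso (p ⊗ₘ q) := by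
  rw [MonoidalCategory.tensorHom_def]
  haveI := quasiIso_whiskerRight P' hP' p
  haveI := quasiIso_whiskerLeft_of_kf X hX q
  infer_instance

/-- variant: `P` and `Y` K-flat -/
theorem quasiIso_tensorHom' {P X P' Y : DRing.Cx A} (p : P ⟶ X) (q : P' ⟶ Y) [QuasiIso p]
    [QuasiIso q] (hP : KF A P) (hY : KF A Y) : QuasiIso (p ⊗ₘ q) := by
  rw [MonoidalCategory.tensorHom_def']
  haveI := quasiIso_whiskerRight Y hY p
  haveI := quasiIso_whiskerLeft_of_kf P hP q
  infer_instance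

end WhiskerLeft

/-- the tensor product identifies homotopic maps -/
lemma tensorT_map_eq_of_homotopy {X₁ Y₁ X₂ Y₂ : DRing.Cx A} (f f' : X₁ ⟶ Y₁) (g g' : X₂ ⟶ Y₂)
    (h₁ : Homotopy f f') (h₂ : Homotopy g g') :
    (DTen.tensorT A ⋙ HomotopyCategory.quotient _ _).map ((f, g) : (X₁, X₂) ⟶ (Y₁, Y₂)) =
      (DTen.tensorT A ⋙ HomotopyCategory.quotient _ _).map ((f', g') : (X₁, X₂) ⟶ (Y₁, Y₂)) := by
  have e1 : (DTen.tensorT A).map ((f, g) : (X₁, X₂) ⟶ (Y₁, Y₂)) = f ⊗ₘ g :=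
    (MonoidalCategory.tensorHom_def f g).symm
  have e2 : (DTen.tensorT A).map ((f', g') : (X₁, X₂) ⟶ (Y₁, Y₂)) = f' ⊗ₘ g' :=
    (MonoidalCategory.tensorHom_def f' g').symm
  rw [Functor.comp_map, Functor.comp_map, e1, e2]
  apply HomotopyCategory.eq_of_homotopy
  exact (HomologicalComplex.mapBifunctorMapHomotopy₁ h₁ g
      (curriedTensor (ModuleCat.{u} A)) (ComplexShape.up ℤ)).trans
    (HomologicalComplex.mapBifunctorMapHomotopy₂ f' h₂
      (curriedTensor (ModuleCat.{u} A)) (ComplexShape.up ℤ))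

/-- the tensor product on the homotopy category -/
noncomputable def tensorH : KR A × KR A ⥤ KR A :=
  prodLift (ComplexShape.up ℤ) (ComplexShape.up ℤ)
    (DTen.tensorT A ⋙ HomotopyCategory.quotient _ _)
    (fun f f' g g' h₁ h₂ => tensorT_map_eq_of_homotopy A f f' g g' h₁ h₂)

/-- `tensorH` is induced by the tensor product of complexes -/
noncomputable def tensorHIso :
    ππ (ComplexShape.up ℤ) (ComplexShape.up ℤ) ⋙ tensorH A ≅
      DTen.tensorT A ⋙ HomotopyCategory.quotient _ _ :=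
  prodLiftIso _ _ _ _

lemma tensorH_map {X₁ Y₁ X₂ Y₂ : DRing.Cx A} (f : X₁ ⟶ Y₁) (g : X₂ ⟶ Y₂) :
    (tensorH A).map ((ππ (ComplexShape.up ℤ) (ComplexShape.up ℤ)).map
        ((f, g) : (X₁, X₂) ⟶ (Y₁, Y₂))) =
      (HomotopyCategory.quotient _ _).map (f ⊗ₘ g) := by
  have e1 : (DTen.tensorT A).map ((f, g) : (X₁, X₂) ⟶ (Y₁, Y₂)) = f ⊗ₘ g :=
    (MonoidalCategory.tensorHom_def f g).symm
  rw [← e1]
  exact prodLift_map _ _ _ _ f g

/-- `(X, Y) ↦ Qh (X ⊗ Y)` on the homotopy categories -/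
noncomputable abbrev tensorHQ : KR A × KR A ⥤ DR A := tensorH A ⋙ Qh

/-- `tensorHQ` is induced by `tensor₂` -/
noncomputable def tensorHQIso :
    ππ (ComplexShape.up ℤ) (ComplexShape.up ℤ) ⋙ tensorHQ A ≅ DTen.tensor₂ A :=
  (Functor.associator _ _ _).symm ≪≫ Functor.isoWhiskerRight (tensorHIso A) Qh ≪≫
    Functor.associator _ _ _ ≪≫ Functor.isoWhiskerLeft (DTen.tensorT A) (quotientCompQhIso _)

/-- the comparison functor: tensor product of the K-projective resolutions -/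
noncomputable abbrev Gfun : KR A × KR A ⥤ DR A := ((ρ A).prod (ρ A)) ⋙ tensorHQ A

/-- the comparison map -/
noncomputable def τ : Gfun A ⟶ tensorHQ A where
  app X := (tensorHQ A).map
    (((πρ A).app X.1, (πρ A).app X.2) : ((ρ A).obj X.1, (ρ A).obj X.2) ⟶ X)
  naturality X Y f := by
    show (tensorHQ A).map (((ρ A).map f.1, (ρ A).map f.2) :
        ((ρ A).obj X.1, (ρ A).obj X.2) ⟶ ((ρ A).obj Y.1, (ρ A).obj Y.2)) ≫
        (tensorHQ A).map
          (((πρ A).app Y.1, (πρ A).app Y.2) : ((ρ A).obj Y.1, (ρ A).obj Y.2) ⟶ Y) =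
      (tensorHQ A).map
          (((πρ A).app X.1, (πρ A).app X.2) : ((ρ A).obj X.1, (ρ A).obj X.2) ⟶ X) ≫
        (tensorHQ A).map f
    rw [← Functor.map_comp, ← Functor.map_comp]
    congr 1
    exact Prod.ext ((πρ A).naturality f.1) ((πρ A).naturality f.2)

/-- the comparison map is an isomorphism when the first complex is K-flat -/
lemma isIso_τ_left (X : KR A × KR A) (hX : KF A X.1.as) : IsIso ((τ A).app X) := by
  show IsIso (Qh.map ((tensorH A).map
    (((πρ A).app X.1, (πρ A).app X.2) : ((ρ A).obj X.1, (ρ A).obj X.2) ⟶ X)))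
  rw [map_eq_ππ_map_out (ComplexShape.up ℤ) (ComplexShape.up ℤ)
    (((πρ A).app X.1, (πρ A).app X.2) : ((ρ A).obj X.1, (ρ A).obj X.2) ⟶ X)]
  erw [tensorH_map]
  haveI := quasiIso_out_πρ X.1
  haveI := quasiIso_out_πρ X.2
  haveI : QuasiIso (((πρ A).app X.1).out ⊗ₘ ((πρ A).app X.2).out) :=
    quasiIso_tensorHom _ _ (ρ_prop A X.2).2 hX
  exact Groth.Agent.Lib.KFlatGen.isIso_Qh_quotient_map _ inferInstance

/-- the comparison map is an isomorphism when the second complex is K-flat -/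
lemma isIso_τ_right (X : KR A × KR A) (hX : KF A X.2.as) : IsIso ((τ A).app X) := by
  show IsIso (Qh.map ((tensorH A).map
    (((πρ A).app X.1, (πρ A).app X.2) : ((ρ A).obj X.1, (ρ A).obj X.2) ⟶ X)))
  rw [map_eq_ππ_map_out (ComplexShape.up ℤ) (ComplexShape.up ℤ)
    (((πρ A).app X.1, (πρ A).app X.2) : ((ρ A).obj X.1, (ρ A).obj X.2) ⟶ X)]
  erw [tensorH_map]
  haveI := quasiIso_out_πρ X.1
  haveI := quasiIso_out_πρ X.2
  haveI : QuasiIso (((πρ A).app X.1).out ⊗ₘ ((πρ A).app X.2).out) :=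
    quasiIso_tensorHom' _ _ (ρ_prop A X.1).2 hX
  exact Groth.Agent.Lib.KFlatGen.isIso_Qh_quotient_map _ inferInstance

lemma isInvertedBy_Gfun :
    (WK (ModuleCat.{u} A) (ModuleCat.{u} A)).IsInvertedBy (Gfun A) := by
  have h : (WK (ModuleCat.{u} A) (ModuleCat.{u} A)).IsInvertedBy
      (QhQh (ModuleCat.{u} A) (ModuleCat.{u} A) ⋙
        (((kprojInv A).prod (kprojInv A)) ⋙ tensorHQ A)) :=
    MorphismProperty.IsInvertedBy.of_comp _ _ (Localization.inverts _ _) _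
  exact h

lemma resData_left : Groth.Agent.Lib.DerivedCmp.ResData
    (WK (ModuleCat.{u} A) (ModuleCat.{u} A)) (τ A) (fun X => KF A X.1.as) where
  iso X hX := isIso_τ_left A X hX
  res X := ⟨((ρ A).obj X.1, X.2), (((πρ A).app X.1, 𝟙 X.2) : ((ρ A).obj X.1, X.2) ⟶ X),
    ⟨mem_quasiIso_πρ X.1, MorphismProperty.id_mem _ _⟩, (ρ_prop A X.1).2⟩

lemma resData_right : Groth.Agent.Lib.DerivedCmp.ResData
    (WK (ModuleCat.{u} A) (ModuleCat.{u} A)) (τ A) (fun X => KF A X.2.as) where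
  iso X hX := isIso_τ_right A X hX
  res X := ⟨(X.1, (ρ A).obj X.2), ((𝟙 X.1, (πρ A).app X.2) : (X.1, (ρ A).obj X.2) ⟶ X),
    ⟨MorphismProperty.id_mem _ _, mem_quasiIso_πρ X.2⟩, (ρ_prop A X.2).2⟩

variable [DTen.HasLTen A]

/-- the counit of `LTen₂`, with target rewritten through the homotopy category -/
noncomputable def ε₀ : QQ (ModuleCat.{u} A) (ModuleCat.{u} A) ⋙ DTen.LTen₂ A ⟶
    ππ (ComplexShape.up ℤ) (ComplexShape.up ℤ) ⋙ tensorHQ A :=
  DTen.ε A ≫ (tensorHQIso A).inv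

instance isLeftDerivedFunctor_ε₀ :
    (DTen.LTen₂ A).IsLeftDerivedFunctor (ε₀ A) (WC (ModuleCat.{u} A) (ModuleCat.{u} A)) := by
  have h : (DTen.LTen₂ A).IsLeftDerivedFunctor (DTen.ε A) (DTen.qis₂ A) := inferInstance
  rw [Functor.isLeftDerivedFunctor_iff_isRightKanExtension] at h ⊢
  refine (Functor.isRightKanExtension_iff_of_iso₂ (DTen.ε A) (ε₀ A) (tensorHQIso A).symm
    (Iso.refl _) ?_).1 h
  ext X
  simp [ε₀]

/-- **the counit `LTen₂(QK, QL) ⟶ Q(K ⊗ L)` is an isomorphism if `K` is K-flat** -/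
theorem isIso_ε_of_kf_left (K L : DRing.Cx A) (hK : KF A K) : IsIso ((DTen.ε A).app (K, L)) := by
  obtain ⟨α', hα', happ⟩ := isLeftDerivedFunctor_QhQh_of_QQ (tensorHQ A) (DTen.LTen₂ A) (ε₀ A)
  haveI := hα'
  have h1 : IsIso (α'.app ((ππ (ComplexShape.up ℤ) (ComplexShape.up ℤ)).obj (K, L))) :=
    Groth.Agent.Lib.DerivedCmp.isIso_counit (QhQh (ModuleCat.{u} A) (ModuleCat.{u} A))
      (WK (ModuleCat.{u} A) (ModuleCat.{u} A)) (resData_left A) (isInvertedBy_Gfun A)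
      (DTen.LTen₂ A) α' ((ππ (ComplexShape.up ℤ) (ComplexShape.up ℤ)).obj (K, L)) hK
  rw [happ] at h1
  have h3 : (DTen.ε A).app (K, L) = (ε₀ A).app (K, L) ≫ (tensorHQIso A).hom.app (K, L) := by
    show _ = ((DTen.ε A).app (K, L) ≫ (tensorHQIso A).inv.app (K, L)) ≫ _
    rw [Category.assoc, Iso.inv_hom_id_app]
    exact (Category.comp_id _).symm
  rw [h3]
  exact @IsIso.comp_isIso _ _ _ _ _ ((ε₀ A).app (K, L)) ((tensorHQIso A).hom.app (K, L)) h1
    inferInstance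

/-- **the counit `LTen₂(QK, QL) ⟶ Q(K ⊗ L)` is an isomorphism if `L` is K-flat** -/
theorem isIso_ε_of_kf_right (K L : DRing.Cx A) (hL : KF A L) : IsIso ((DTen.ε A).app (K, L)) := by
  obtain ⟨α', hα', happ⟩ := isLeftDerivedFunctor_QhQh_of_QQ (tensorHQ A) (DTen.LTen₂ A) (ε₀ A)
  haveI := hα'
  have h1 : IsIso (α'.app ((ππ (ComplexShape.up ℤ) (ComplexShape.up ℤ)).obj (K, L))) :=
    Groth.Agent.Lib.DerivedCmp.isIso_counit (QhQh (ModuleCat.{u} A) (ModuleCat.{u} A))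
      (WK (ModuleCat.{u} A) (ModuleCat.{u} A)) (resData_right A) (isInvertedBy_Gfun A)
      (DTen.LTen₂ A) α' ((ππ (ComplexShape.up ℤ) (ComplexShape.up ℤ)).obj (K, L)) hL
  rw [happ] at h1
  have h3 : (DTen.ε A).app (K, L) = (ε₀ A).app (K, L) ≫ (tensorHQIso A).hom.app (K, L) := by
    show _ = ((DTen.ε A).app (K, L) ≫ (tensorHQIso A).inv.app (K, L)) ≫ _
    rw [Category.assoc, Iso.inv_hom_id_app]
    exact (Category.comp_id _).symm
  rw [h3]
  exact @IsIso.comp_isIso _ _ _ _ _ ((ε₀ A).app (K, L)) ((tensorHQIso A).hom.app (K, L)) h1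
    inferInstance

/-- the binder `KFlatComputes` holds -/
theorem kFlatComputes : DTen.KFlatComputes A where
  isIso_counit K L h := by
    rcases h with h | h
    · exact isIso_ε_of_kf_left A K L h
    · exact isIso_ε_of_kf_right A K L h

end Groth.Agent.Lib.LTen2
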