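import Mathlib
import Groth.Prelude.Def_DTen3
import Groth.Agent.Lib.LTen2_helper2
import Groth.Agent.Lib.BifCone_helper2
import Groth.Agent.Lib.KProjRes_helper2
import Groth.Agent.Lib.Devissage_helper2

/-!
# Exactness of the derived tensor product in one variable; the shifted units are invertible (helper2)

* `coyonedaExact_tensorRightD X`: `Hom(W, - ⊗^L X)` is exact in the middle of distinguished triangles.
* `I m = Q(𝟙[m])`, `II m m' h : I m ⊗^L I m' ≅ unit` for `m' + m = 0`.
* `sDIso a n : (A[-a])[n] ≅ I (n - a)`.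
-/

set_option autoImplicit false
universe u
open CategoryTheory Limits MonoidalCategory Pretriangulated

namespace Groth.Agent.Lib.TenExact

open DerivedCategory Groth.Agent.Lib.KFlatMod Groth.Agent.Lib.Devissage DTen
attribute [local instance] HasDerivedCategory.standard

variable {A : Type u} [CommRing A]

/-- tensoring with a complex commutes with mapping cones -/
noncomputable def coneTensorIso (X : DRing.Cx A) {K L : DRing.Cx A} (f : K ⟶ L) :
    CochainComplex.mappingCone f ⊗ X ≅ CochainComplex.mappingCone (f ▷ X) :=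
  Groth.Agent.Lib.BifCone.mapBifunctorConeIso₁ (T A) X f

lemma inr_coneTensorIso (X : DRing.Cx A) {K L : DRing.Cx A} (f : K ⟶ L) :
    (CochainComplex.mappingCone.inr f ▷ X) ≫ (coneTensorIso X f).hom =
      CochainComplex.mappingCone.inr (f ▷ X) := by
  have h := (Groth.Agent.Lib.BifCone.action₁ (T A) X).inr_coneIso_inv f
  rw [← cancel_mono (coneTensorIso X f).inv, Category.assoc, Iso.hom_inv_id, Category.comp_id]
  exact h.symm

section Exact

/-- a functor on `D(A)` which is computed, on complexes, by a functor commuting with mapping cones is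
coyoneda-exact -/
theorem coyonedaExact_of_cone {F : Dual.D A ⥤ Dual.D A} {Φ : DRing.Cx A ⥤ DRing.Cx A}
    (ν : Q ⋙ F ≅ Φ ⋙ Q)
    (c : ∀ {K L : DRing.Cx A} (f : K ⟶ L),
      Φ.obj (CochainComplex.mappingCone f) ≅ CochainComplex.mappingCone (Φ.map f))
    (hc : ∀ {K L : DRing.Cx A} (f : K ⟶ L),
      Φ.map (CochainComplex.mappingCone.inr f) ≫ (c f).hom =
        CochainComplex.mappingCone.inr (Φ.map f)) : CoyonedaExact F := by
  intro T hT
  rw [mem_distTriang_iff] at hT
  obtain ⟨K, L, f, ⟨e⟩⟩ := hT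
  refine coyoneda_of_iso_triangle _ e (fun W x hx => ?_)
  change W ⟶ (Q ⋙ F).obj L at x
  change x ≫ (Q ⋙ F).map (CochainComplex.mappingCone.inr f) = 0 at hx
  show ∃ y : W ⟶ (Q ⋙ F).obj K, x = y ≫ (Q ⋙ F).map f
  have hT' : Q.mapTriangle.obj (CochainComplex.mappingCone.triangle (Φ.map f)) ∈
      distTriang (Dual.D A) := by
    rw [mem_distTriang_iff]
    exact ⟨_, _, Φ.map f, ⟨Iso.refl _⟩⟩
  have h0 : (x ≫ ν.hom.app L) ≫ Q.map (CochainComplex.mappingCone.inr (Φ.map f)) = 0 := by
    have h1 := ν.hom.naturality (CochainComplex.mappingCone.inr f)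
    have h2 : (Φ ⋙ Q).map (CochainComplex.mappingCone.inr f) ≫ Q.map (c f).hom =
        Q.map (CochainComplex.mappingCone.inr (Φ.map f)) := by
      rw [← hc f, Q.map_comp]; rfl
    rw [← h2, Category.assoc, ← Category.assoc (ν.hom.app L), ← h1, Category.assoc,
      ← Category.assoc x, hx, zero_comp]
  obtain ⟨y', hy'⟩ : ∃ y' : W ⟶ (Φ ⋙ Q).obj K, x ≫ ν.hom.app L = y' ≫ (Φ ⋙ Q).map f :=
    Triangle.coyoneda_exact₂ _ hT' _ h0
  refine ⟨y' ≫ ν.inv.app K, ?_⟩
  rw [Category.assoc, ← ν.inv.naturality, ← Category.assoc, ← hy', Category.assoc,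
    Iso.hom_inv_id_app, Category.comp_id]

variable [HasLTen A]

theorem coyonedaExact_tensorRightD_Q (X : DRing.Cx A) (hX : KF A X) :
    CoyonedaExact (tensorRightD A (Q.obj X)) := by
  haveI : ∀ K : DRing.Cx A, IsIso ((εRight A X).app K) := fun K =>
    Groth.Agent.Lib.LTen2.isIso_ε_of_kf_right A K X hX
  haveI : IsIso (εRight A X) := NatIso.isIso_of_isIso_app _
  exact coyonedaExact_of_cone (Φ := tensorRight X) (asIso (εRight A X))
    (fun f => coneTensorIso X f) (fun f => inr_coneTensorIso X f)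

/-- **`Hom(W, - ⊗^L X)` is exact in the middle of distinguished triangles** -/
theorem coyonedaExact_tensorRightD (X : Dual.D A) : CoyonedaExact (tensorRightD A X) := by
  obtain ⟨P, π, hπ, _, hP, _⟩ :=
    Groth.Agent.Lib.KProjRes.exists_kproj_resolution (Q.objPreimage X)
  haveI : IsIso (Q.map π) := (isIso_Q_map_iff_quasiIso (C := ModuleCat.{u} A) π).2 hπ
  have e : Q.obj P ≅ X := asIso (Q.map π) ≪≫ Q.objObjPreimageIso X
  exact coyonedaExact_of_iso ((LTen A).flip.mapIso e) (coyonedaExact_tensorRightD_Q P hP)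

end Exact

section Units

/-- the unit complex shifted -/
noncomputable abbrev U (m : ℤ) : DRing.Cx A := (𝟙_ (DRing.Cx A))⟦m⟧

lemma isZero_U_X (m i : ℤ) (h : i + m ≠ 0) : IsZero ((U (A := A) m).X i) :=
  HomologicalComplex.isZero_single_obj_X (ComplexShape.up ℤ) 0 _ (i + m) h

lemma kf_U (m : ℤ) : KF A (U (A := A) m) := by
  apply kf_of_vanishesAbove _ (-m)
  · intro i hi
    exact isZero_U_X m i (by omega)
  · intro i
    by_cases h : i + m = 0
    · have e : (U (A := A) m).X i ≅ 𝟙_ (ModuleCat.{u} A) :=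
        HomologicalComplex.singleObjXIsoOfEq (ComplexShape.up ℤ) 0 _ (i + m) h
      haveI : Module.Flat A (𝟙_ (ModuleCat.{u} A)) := inferInstanceAs (Module.Flat A A)
      exact Module.Flat.of_linearEquiv e.toLinearEquiv
    · haveI : Subsingleton ((U (A := A) m).X i) :=
        ModuleCat.subsingleton_of_isZero (isZero_U_X m i h)
      infer_instance

/-- `𝟙[m] ⊗ 𝟙[m'] ≅ 𝟙` for `m' + m = 0` -/
noncomputable def UU (m m' : ℤ) (h : m' + m = 0) :
    U (A := A) m ⊗ U m' ≅ 𝟙_ (DRing.Cx A) :=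
  CochainComplex.mapBifunctorShift₁Iso (𝟙_ (DRing.Cx A)) (U m') (T A) m ≪≫
    (shiftFunctor (DRing.Cx A) m).mapIso (λ_ (U m')) ≪≫
      (shiftFunctorCompIsoId (DRing.Cx A) m' m h).app _

/-- `A[m]` in `D(A)` -/
noncomputable abbrev I (m : ℤ) : Dual.D A := Q.obj (U m)

/-- `A[m] ⊗^L A[m'] ≅ A` for `m' + m = 0` -/
noncomputable def II [HasLTen A] (m m' : ℤ) (h : m' + m = 0) :
    (LTen₂ A).obj (I m, I m') ≅ DTen.unit A :=
  haveI := Groth.Agent.Lib.LTen2.isIso_ε_of_kf_right A (U m) (U m') (kf_U m')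
  asIso ((ε A).app (U m, U m')) ≪≫ Q.mapIso (UU m m' h)

/-- `(A[-a])[n] ≅ A[n - a]` -/
noncomputable def sDIso (a n : ℤ) :
    ((sD a).obj (ModuleCat.of A A))⟦n⟧ ≅ I (A := A) (n - a) :=
  ((Q.commShiftIso n).app _).symm ≪≫
    Q.mapIso (((CochainComplex.singleFunctors (ModuleCat.{u} A)).shiftIso n (a - n) a
      (by omega)).app (ModuleCat.of A A) ≪≫
      (((CochainComplex.singleFunctors (ModuleCat.{u} A)).shiftIso (n - a) (a - n) 0
        (by omega)).app (ModuleCat.of A A)).symm)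

end Units

end Groth.Agent.Lib.TenExact
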