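import Mathlib
import Groth.Prelude.Def_DTen3
import Groth.Agent.Lib.TenExact_helper2

/-!
# `K ⊗^L RHom(M, L) ⟶ RHom(M, K ⊗^L L)` is an isomorphism for `K` perfect (helper2)

* `associator_naturality`: the associator of `Def_DTen3` is natural in its three variables.
* `evalTenNat L M`: `DTen.evalTen - L M` as a natural transformation.
* `isIso_evalTen_of_invData`: `evalTen I L M` is an isomorphism if `I` is invertible (no coherence needed:
  `I ⊗^L -` is an equivalence).
* `isIso_evalTen_of_isPerfect`.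
-/

set_option autoImplicit false
universe u
open CategoryTheory Limits MonoidalCategory Pretriangulated

namespace Groth.Agent.Lib.EvalTen

open DerivedCategory Groth.Agent.Lib.Devissage Groth.Agent.Lib.TenExact DTen
attribute [local instance] HasDerivedCategory.standard

variable {A : Type u} [CommRing A] [HasLTen A]

/-- `f ⊗^L g` -/
noncomputable abbrev ten {a a' b b' : Dual.D A} (f : a ⟶ a') (g : b ⟶ b') :
    (LTen₂ A).obj (a, b) ⟶ (LTen₂ A).obj (a', b') := (LTen₂ A).map (Prod.mkHom f g)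

lemma ten_comp {a a' a'' b b' b'' : Dual.D A} (f : a ⟶ a') (f' : a' ⟶ a'') (g : b ⟶ b')
    (g' : b' ⟶ b'') : ten f g ≫ ten f' g' = ten (f ≫ f') (g ≫ g') := by
  show (LTen₂ A).map _ ≫ (LTen₂ A).map _ = (LTen₂ A).map _
  rw [← Functor.map_comp]
  rfl

lemma ten_id (a b : Dual.D A) : ten (𝟙 a) (𝟙 b) = 𝟙 ((LTen₂ A).obj (a, b)) := by
  have : (Prod.mkHom (𝟙 a) (𝟙 b) : ((a, b) : Dual.D A × Dual.D A) ⟶ (a, b)) =
      𝟙 ((a, b) : Dual.D A × Dual.D A) := rfl
  show (LTen₂ A).map _ = _
  rw [this, CategoryTheory.Functor.map_id]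

variable [HasLTen₃ A] [IsSymMonoidal A]

lemma associator_naturality {a a' b b' c c' : Dual.D A} (f : a ⟶ a') (g : b ⟶ b') (h : c ⟶ c') :
    ten (ten f g) h ≫ (associator a' b' c').hom = (associator a b c).hom ≫ ten f (ten g h) := by
  have h1 := (assocL A).naturality (X := (a, (b, c))) (Y := (a', (b', c')))
    (Prod.mkHom f (Prod.mkHom g h))
  have h2 := (assocR A).naturality (X := (a, (b, c))) (Y := (a', (b', c')))
    (Prod.mkHom f (Prod.mkHom g h))
  have e1 : (LTenL A).map (X := (a, (b, c))) (Y := (a', (b', c')))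
      (Prod.mkHom f (Prod.mkHom g h)) = ten (ten f g) h := rfl
  have e2 : (LTenR A).map (X := (a, (b, c))) (Y := (a', (b', c')))
      (Prod.mkHom f (Prod.mkHom g h)) = ten f (ten g h) := rfl
  rw [e1] at h1
  rw [e2] at h2
  have hR : IsIso ((assocR A).app (a', (b', c'))) := inferInstance
  rw [← cancel_mono ((assocR A).app (a', (b', c'))), Category.assoc, Category.assoc, h2,
    associator_hom_assocR_assoc, associator_hom_assocR]
  exact h1

lemma associator_inv_naturality {a a' b b' c c' : Dual.D A} (f : a ⟶ a') (g : b ⟶ b')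
    (h : c ⟶ c') :
    ten f (ten g h) ≫ (associator a' b' c').inv = (associator a b c).inv ≫ ten (ten f g) h := by
  rw [Iso.comp_inv_eq, Category.assoc, associator_naturality, Iso.inv_hom_id_assoc]

section Invertible

/-- invertibility data for an object of `D(A)` -/
structure InvData (I : Dual.D A) where
  /-- the inverse -/
  J : Dual.D A
  /-- `I ⊗^L J ≅ A` -/
  u : (LTen₂ A).obj (I, J) ≅ DTen.unit A
  /-- `J ⊗^L I ≅ A` -/
  v : (LTen₂ A).obj (J, I) ≅ DTen.unit A

/-- `J ⊗^L (I ⊗^L X) ≅ X`, naturally in `X`, if `J ⊗^L I ≅ A` -/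
noncomputable def cancelIso {I J : Dual.D A} (v : (LTen₂ A).obj (J, I) ≅ DTen.unit A) :
    (LTen A).obj I ⋙ (LTen A).obj J ≅ 𝟭 (Dual.D A) :=
  NatIso.ofComponents
    (fun X => (associator J I X).symm ≪≫ ((LTen A).flip.obj X).mapIso v ≪≫ leftUnitor X) (by
    intro X Y g
    show ten (𝟙 J) (ten (𝟙 I) g) ≫ (associator J I Y).inv ≫ ten v.hom (𝟙 Y) ≫ (unitL A).app Y =
      ((associator J I X).inv ≫ ten v.hom (𝟙 X) ≫ (unitL A).app X) ≫ g
    have h1 : ten (𝟙 J) (ten (𝟙 I) g) ≫ (associator J I Y).inv =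
        (associator J I X).inv ≫ ten (𝟙 ((LTen₂ A).obj (J, I))) g := by
      rw [associator_inv_naturality, ten_id]
    have h2 : ten (𝟙 (DTen.unit A)) g ≫ (unitL A).app Y = (unitL A).app X ≫ g :=
      (unitL A).naturality g
    have h3 : ten (𝟙 ((LTen₂ A).obj (J, I))) g ≫ ten v.hom (𝟙 Y) =
        ten v.hom (𝟙 X) ≫ ten (𝟙 (DTen.unit A)) g := by
      rw [ten_comp, ten_comp, Category.id_comp, Category.comp_id, Category.id_comp,
        Category.comp_id]
    calc ten (𝟙 J) (ten (𝟙 I) g) ≫ (associator J I Y).inv ≫ ten v.hom (𝟙 Y) ≫ (unitL A).app Y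
        = ((ten (𝟙 J) (ten (𝟙 I) g) ≫ (associator J I Y).inv) ≫ ten v.hom (𝟙 Y)) ≫
            (unitL A).app Y := by simp only [Category.assoc]
      _ = (((associator J I X).inv ≫ ten (𝟙 _) g) ≫ ten v.hom (𝟙 Y)) ≫ (unitL A).app Y := by
          rw [h1]
      _ = ((associator J I X).inv ≫ ten v.hom (𝟙 X) ≫ ten (𝟙 _) g) ≫ (unitL A).app Y := by
          simp only [Category.assoc]
          rw [reassoc_of% h3]
      _ = (associator J I X).inv ≫ ten v.hom (𝟙 X) ≫ (unitL A).app X ≫ g := by
          rw [Category.assoc, Category.assoc, h2]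
      _ = _ := by simp only [Category.assoc])

/-- tensoring with an invertible object is an equivalence -/
noncomputable def tensorEquiv {I : Dual.D A} (d : InvData I) : Dual.D A ≌ Dual.D A :=
  CategoryTheory.Equivalence.mk ((LTen A).obj I) ((LTen A).obj d.J) (cancelIso d.v).symm
    (cancelIso d.u)

lemma isEquivalence_tensorLeft {I : Dual.D A} (d : InvData I) :
    ((LTen A).obj I).IsEquivalence :=
  (tensorEquiv d).isEquivalence_functor

variable [HasRHom A]

/-- **`evalTen I L M` is an isomorphism for `I` invertible** -/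
theorem isIso_evalTen_of_invData {I : Dual.D A} (d : InvData I) (L M : Dual.D A) :
    IsIso (evalTen I L M) := by
  haveI : ((LTen A).obj I).IsEquivalence := isEquivalence_tensorLeft d
  apply isIso_of_yoneda_map_bijective
  intro W
  obtain ⟨W', ⟨e⟩⟩ : ∃ W' : Dual.D A, Nonempty ((LTen₂ A).obj (I, W') ≅ W) :=
    ⟨((LTen A).obj I).objPreimage W, ⟨((LTen A).obj I).objObjPreimageIso W⟩⟩
  have hff : ∀ X Y : Dual.D A, Function.Bijective
      (fun g : X ⟶ Y => (ten (𝟙 I) g : (LTen₂ A).obj (I, X) ⟶ (LTen₂ A).obj (I, Y))) :=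
    fun X Y => (Functor.FullyFaithful.ofFullyFaithful ((LTen A).obj I)).homEquiv.bijective
  let Φ : (W' ⟶ (RHomR A M).obj L) → (W ⟶ (LTen₂ A).obj (I, (RHomR A M).obj L)) :=
    fun y => e.inv ≫ ten (𝟙 I) y
  have hΦ : Function.Bijective Φ :=
    (Iso.homFromEquiv e).bijective.comp (hff W' ((RHomR A M).obj L))
  let Ψ : (W' ⟶ (RHomR A M).obj L) → (W ⟶ (RHomR A M).obj ((LTen₂ A).obj (I, L))) :=
    fun y => e.inv ≫ rhomHomEquiv ((LTen₂ A).obj (I, W')) M ((LTen₂ A).obj (I, L))
      ((associator I W' M).hom ≫ ten (𝟙 I) ((rhomHomEquiv W' M L).symm y))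
  have hΨ : Function.Bijective Ψ :=
    (Iso.homFromEquiv e).bijective.comp
      ((rhomHomEquiv ((LTen₂ A).obj (I, W')) M ((LTen₂ A).obj (I, L))).bijective.comp
        ((Iso.homFromEquiv (associator I W' M)).symm.bijective.comp
          ((hff ((LTen₂ A).obj (W', M)) L).comp (rhomHomEquiv W' M L).symm.bijective)))
  have key : ∀ y : W' ⟶ (RHomR A M).obj L, Φ y ≫ evalTen I L M = Ψ y := by
    intro y
    have n1 : ten (𝟙 I) y ≫ evalTen I L M = rhomHomEquiv ((LTen₂ A).obj (I, W')) M _
        (ten (ten (𝟙 I) y) (𝟙 M) ≫ evalTenAux I L M) :=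
      ((rhomAdj A M).homEquiv_naturality_left (ten (𝟙 I) y) (evalTenAux I L M)).symm
    have n3 : (rhomHomEquiv W' M L).symm y = ten y (𝟙 M) ≫ ev M L :=
      (rhomAdj A M).homEquiv_counit _ _ _
    show (e.inv ≫ ten (𝟙 I) y) ≫ evalTen I L M = e.inv ≫ _
    rw [Category.assoc, n1, n3]
    congr 2
    unfold evalTenAux
    rw [← Category.assoc, associator_naturality, Category.assoc, ten_comp, Category.comp_id]
  have hfun : (fun x : W ⟶ (LTen₂ A).obj (I, (RHomR A M).obj L) => x ≫ evalTen I L M) =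
      Ψ ∘ (Equiv.ofBijective Φ hΦ).symm := by
    funext x
    obtain ⟨y, rfl⟩ := hΦ.surjective x
    have : (Equiv.ofBijective Φ hΦ).symm (Φ y) = y :=
      (Equiv.ofBijective Φ hΦ).symm_apply_apply y
    show Φ y ≫ evalTen I L M = Ψ ((Equiv.ofBijective Φ hΦ).symm (Φ y))
    rw [this, key]
  rw [hfun]
  exact hΨ.comp (Equiv.ofBijective Φ hΦ).symm.bijective

end Invertible

section Nat

variable [HasRHom A] (L M : Dual.D A)

/-- `K ↦ K ⊗^L RHom(M, L)` -/
noncomputable abbrev FF : Dual.D A ⥤ Dual.D A := tensorRightD A ((RHomR A M).obj L)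

/-- `K ↦ RHom(M, K ⊗^L L)` -/
noncomputable abbrev GG : Dual.D A ⥤ Dual.D A := tensorRightD A L ⋙ RHomR A M

/-- `evalTen - L M` as a natural transformation -/
noncomputable def evalTenNat : FF L M ⟶ GG L M where
  app K := evalTen K L M
  naturality K K' f := by
    show ten f (𝟙 _) ≫ evalTen K' L M = evalTen K L M ≫ (RHomR A M).map (ten f (𝟙 L))
    have n1 : ten f (𝟙 _) ≫ evalTen K' L M = rhomHomEquiv _ M _
        (ten (ten f (𝟙 ((RHomR A M).obj L))) (𝟙 M) ≫ evalTenAux K' L M) :=
      ((rhomAdj A M).homEquiv_naturality_left (ten f (𝟙 _)) (evalTenAux K' L M)).symm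
    have n2 : evalTen K L M ≫ (RHomR A M).map (ten f (𝟙 L)) = rhomHomEquiv _ M _
        (evalTenAux K L M ≫ ten f (𝟙 L)) :=
      ((rhomAdj A M).homEquiv_naturality_right (evalTenAux K L M) (ten f (𝟙 L))).symm
    rw [n1, n2]
    congr 1
    unfold evalTenAux
    rw [← Category.assoc, associator_naturality, Category.assoc, ten_id, ten_comp, Category.assoc,
      ten_comp]
    simp only [Category.comp_id, Category.id_comp]

/-- invertibility of `A[m]` -/
noncomputable def invDataI (m : ℤ) : InvData (I (A := A) m) where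
  J := I (-m)
  u := II m (-m) (by omega)
  v := II (-m) m (by omega)

/-- **`K ⊗^L RHom(M, L) ⟶ RHom(M, K ⊗^L L)` is an isomorphism for `K` perfect** -/
theorem isIso_evalTen_of_isPerfect (K : Dual.D A) (hK : DRing.IsPerfect A K) :
    IsIso (evalTen K L M) := by
  have hF : CoyonedaExact (FF L M) := coyonedaExact_tensorRightD _
  have hG : CoyonedaExact (GG L M) :=
    coyonedaExact_comp_rightAdjoint (rhomAdj A M) (coyonedaExact_tensorRightD L)
  have hgood : Good (evalTenNat L M) K := by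
    refine perfect_induction (Good (evalTenNat L M)) (fun e h => good_of_iso _ e h)
      (fun K hK => good_of_isZero _ hK) (fun i r hir h => good_of_retract _ i r hir h) ?_
      (fun T hT h1 h3 => good_ext _ hF hG T hT h1 h3) K hK
    intro a n
    refine isIso_app_of_iso (evalTenNat L M) (sDIso a n).symm ?_
    exact isIso_evalTen_of_invData (invDataI (n - a)) L M
  exact isIso_app_of_good _ hgood

end Nat

end Groth.Agent.Lib.EvalTen
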