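import Mathlib
import Groth.Prelude.Def_DTen3
import Groth.Agent.Lib.EvalTen_helper2

/-!
# Weak exactness, a functor-free five lemma, and exactness of `RHom` in its first variable (helper2)

* `WExact a b`: `a ≫ b = 0` and `Hom(W, -)` is exact in the middle.
* `five`: a five lemma for two weakly exact five-term sequences.
* `WeakTri Φ`: `Φ` sends distinguished triangles to triangles which can be completed to distinguished
  ones; such functors preserve weak exactness (`wExact_map`, `wExact_yoneda`).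
* `wExact_RHomMap`: `RHom(-, M)` turns weakly exact sequences into weakly exact sequences.
* `GoodOp`: dévissage for a natural transformation between contravariant functors.
* `isIso_evalTen_of_isPerfect_right`, `isIso_evalHom_of_isPerfect`.
-/

set_option autoImplicit false
universe u
open CategoryTheory Limits MonoidalCategory Pretriangulated Opposite

namespace Groth.Agent.Lib.WExact

section Five

variable {D : Type*} [Category D] [Preadditive D]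

/-- weak exactness: `a ≫ b = 0` and `Hom(W, -)` is exact in the middle -/
def WExact {X Y Z : D} (a : X ⟶ Y) (b : Y ⟶ Z) : Prop :=
  a ≫ b = 0 ∧ ∀ ⦃W : D⦄ (w : W ⟶ Y), w ≫ b = 0 → ∃ v : W ⟶ X, v ≫ a = w

/-- functor-free five lemma -/
theorem five {X₁ X₂ X₃ X₄ X₅ Y₁ Y₂ Y₃ Y₄ Y₅ : D}
    (u₁ : X₁ ⟶ X₂) (u₂ : X₂ ⟶ X₃) (u₃ : X₃ ⟶ X₄) (u₄ : X₄ ⟶ X₅)
    (v₁ : Y₁ ⟶ Y₂) (v₂ : Y₂ ⟶ Y₃) (v₃ : Y₃ ⟶ Y₄) (v₄ : Y₄ ⟶ Y₅)
    (τ₁ : X₁ ⟶ Y₁) (τ₂ : X₂ ⟶ Y₂) (τ₃ : X₃ ⟶ Y₃) (τ₄ : X₄ ⟶ Y₄) (τ₅ : X₅ ⟶ Y₅)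
    (c₁ : u₁ ≫ τ₂ = τ₁ ≫ v₁) (c₂ : u₂ ≫ τ₃ = τ₂ ≫ v₂) (c₃ : u₃ ≫ τ₄ = τ₃ ≫ v₃)
    (c₄ : u₄ ≫ τ₅ = τ₄ ≫ v₄)
    (hX₁ : WExact u₁ u₂) (hX₂ : WExact u₂ u₃) (hX₃ : WExact u₃ u₄)
    (hY₁ : WExact v₁ v₂) (hY₂ : WExact v₂ v₃) (hY₃ : WExact v₃ v₄)
    (i₁ : IsIso τ₁) (i₂ : IsIso τ₂) (i₄ : IsIso τ₄) (i₅ : IsIso τ₅) : IsIso τ₃ := by
  apply isIso_of_yoneda_map_bijective
  intro W
  constructor
  · intro x x' hxx
    have hxx' : x ≫ τ₃ = x' ≫ τ₃ := hxx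
    rw [← sub_eq_zero]
    generalize hz : x - x' = z
    have hz0 : z ≫ τ₃ = 0 := by rw [← hz, Preadditive.sub_comp, hxx', sub_self]
    have e1 : z ≫ u₃ = 0 := by
      have : (z ≫ u₃) ≫ τ₄ = 0 := by rw [Category.assoc, c₃, ← Category.assoc, hz0, zero_comp]
      exact (cancel_mono τ₄).1 (by rw [this, zero_comp])
    obtain ⟨y, hy⟩ := hX₂.2 z e1
    have e2 : (y ≫ τ₂) ≫ v₂ = 0 := by rw [Category.assoc, ← c₂, ← Category.assoc, hy, hz0]
    obtain ⟨w, hw⟩ := hY₁.2 (y ≫ τ₂) e2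
    have e3 : y = (w ≫ inv τ₁) ≫ u₁ := by
      apply (cancel_mono τ₂).1
      rw [Category.assoc, Category.assoc, c₁, IsIso.inv_hom_id_assoc, hw]
    rw [← hy, e3, Category.assoc, hX₁.1, comp_zero]
  · intro y
    let u : W ⟶ X₄ := y ≫ v₃ ≫ inv τ₄
    have hu : u ≫ τ₄ = y ≫ v₃ := by
      simp only [u, Category.assoc, IsIso.inv_hom_id, Category.comp_id]
    have e1 : u ≫ u₄ = 0 := by
      have : (u ≫ u₄) ≫ τ₅ = 0 := by
        rw [Category.assoc, c₄, ← Category.assoc, hu, Category.assoc, hY₃.1, comp_zero]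
      exact (cancel_mono τ₅).1 (by rw [this, zero_comp])
    obtain ⟨v, hv⟩ := hX₃.2 u e1
    have e2 : (y - v ≫ τ₃) ≫ v₃ = 0 := by
      rw [Preadditive.sub_comp, Category.assoc, ← c₃, ← Category.assoc, hv, hu, sub_self]
    obtain ⟨s, hs⟩ := hY₂.2 _ e2
    refine ⟨v + (s ≫ inv τ₂) ≫ u₂, ?_⟩
    show (v + (s ≫ inv τ₂) ≫ u₂) ≫ τ₃ = y
    rw [Preadditive.add_comp, Category.assoc, Category.assoc, c₂, IsIso.inv_hom_id_assoc, hs]
    abel

end Five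

section NatPlain

variable {C D : Type*} [Category C] [Category D]

lemma isIso_app_of_iso' {F G : C ⥤ D} (τ : F ⟶ G) {X Y : C} (e : X ≅ Y) (h : IsIso (τ.app X)) :
    IsIso (τ.app Y) := by
  have : τ.app Y = F.map e.inv ≫ τ.app X ≫ G.map e.hom := by
    rw [τ.naturality_assoc, ← G.map_comp, e.inv_hom_id, G.map_id, Category.comp_id]
  rw [this]
  infer_instance

lemma isIso_app_of_retract' {F G : C ⥤ D} (τ : F ⟶ G) {X Y : C} (i : X ⟶ Y) (r : Y ⟶ X)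
    (hir : i ≫ r = 𝟙 X) (h : IsIso (τ.app Y)) : IsIso (τ.app X) := by
  refine ⟨G.map i ≫ inv (τ.app Y) ≫ F.map r, ?_, ?_⟩
  · rw [← τ.naturality_assoc, IsIso.hom_inv_id_assoc, ← F.map_comp, hir, F.map_id]
  · rw [Category.assoc, Category.assoc, τ.naturality, IsIso.inv_hom_id_assoc, ← G.map_comp, hir,
      G.map_id]

end NatPlain

section Tri

variable {C D : Type*} [Category C] [Category D] [Preadditive C] [HasZeroObject C] [HasShift C ℤ]
  [∀ n : ℤ, (shiftFunctor C n).Additive] [Pretriangulated C]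

lemma wExact_of_distinguished (T : Triangle C) (hT : T ∈ distTriang C) : WExact T.mor₁ T.mor₂ :=
  ⟨comp_distTriang_mor_zero₁₂ _ hT, fun W w hw => by
    obtain ⟨v, hv⟩ := Triangle.coyoneda_exact₂ T hT w hw
    exact ⟨v, hv.symm⟩⟩

section Op

variable [Preadditive D] {F G : Cᵒᵖ ⥤ D} (τ : F ⟶ G)

/-- five lemma for a natural transformation between contravariant functors -/
theorem isIso_app_obj₂_op
    (hF : ∀ T : Triangle C, T ∈ distTriang C → WExact (F.map T.mor₂.op) (F.map T.mor₁.op))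
    (hG : ∀ T : Triangle C, T ∈ distTriang C → WExact (G.map T.mor₂.op) (G.map T.mor₁.op))
    (T : Triangle C) (hT : T ∈ distTriang C)
    (h₁ : IsIso (τ.app (op T.obj₁))) (h₃ : IsIso (τ.app (op T.obj₃)))
    (h₁' : IsIso (τ.app (op (T.obj₁⟦(1 : ℤ)⟧)))) (h₃' : IsIso (τ.app (op (T.obj₃⟦(-1 : ℤ)⟧)))) :
    IsIso (τ.app (op T.obj₂)) := by
  have hTr := rot_of_distTriang T hT
  have hTi := inv_rot_of_distTriang T hT
  exact five (F.map T.mor₃.op) (F.map T.mor₂.op) (F.map T.mor₁.op) (F.map T.invRotate.mor₁.op)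
    (G.map T.mor₃.op) (G.map T.mor₂.op) (G.map T.mor₁.op) (G.map T.invRotate.mor₁.op)
    (τ.app _) (τ.app _) (τ.app _) (τ.app _) (τ.app _)
    (τ.naturality _) (τ.naturality _) (τ.naturality _) (τ.naturality _)
    (hF T.rotate hTr) (hF T hT) (hF T.invRotate hTi) (hG T.rotate hTr) (hG T hT)
    (hG T.invRotate hTi) h₁' h₃ h₁ h₃'

/-- the objects all of whose shifts are sent to isomorphisms by `τ` -/
def GoodOp (K : C) : Prop := ∀ n : ℤ, IsIso (τ.app (op (K⟦n⟧)))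

lemma goodOp_of_iso {K K' : C} (e : K ≅ K') (h : GoodOp τ K) : GoodOp τ K' := fun n =>
  isIso_app_of_iso' τ (((shiftFunctor C n).mapIso e).op.symm) (h n)

lemma goodOp_of_retract {K K' : C} (i : K ⟶ K') (r : K' ⟶ K) (hir : i ≫ r = 𝟙 K)
    (h : GoodOp τ K') : GoodOp τ K := fun n =>
  isIso_app_of_retract' τ (r⟦n⟧').op (i⟦n⟧').op (by
    rw [← op_comp, ← Functor.map_comp, hir, CategoryTheory.Functor.map_id]; rfl) (h n)

lemma goodOp_shift {K : C} (h : GoodOp τ K) (m : ℤ) : GoodOp τ (K⟦m⟧) := fun n =>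
  isIso_app_of_iso' τ (((shiftFunctorAdd' C m n (m + n) rfl).app K).op.symm) (h (m + n))

lemma isIso_app_of_goodOp {K : C} (h : GoodOp τ K) : IsIso (τ.app (op K)) :=
  isIso_app_of_iso' τ (((shiftFunctorZero C ℤ).app K).op.symm) (h 0)

lemma goodOp_of_isZero (hF0 : ∀ X : C, IsZero X → IsZero (F.obj (op X)))
    (hG0 : ∀ X : C, IsZero X → IsZero (G.obj (op X))) {K : C} (hK : IsZero K) :
    GoodOp τ K := fun n => by
  have h0 : IsZero (K⟦n⟧) := (shiftFunctor C n).map_isZero hK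
  exact ⟨0, (hF0 _ h0).eq_of_src _ _, (hG0 _ h0).eq_of_src _ _⟩

theorem goodOp_ext
    (hF : ∀ T : Triangle C, T ∈ distTriang C → WExact (F.map T.mor₂.op) (F.map T.mor₁.op))
    (hG : ∀ T : Triangle C, T ∈ distTriang C → WExact (G.map T.mor₂.op) (G.map T.mor₁.op))
    (T : Triangle C) (hT : T ∈ distTriang C)
    (h₁ : GoodOp τ T.obj₁) (h₃ : GoodOp τ T.obj₃) : GoodOp τ T.obj₂ := fun n =>
  isIso_app_obj₂_op τ hF hG _ (Triangle.shift_distinguished T hT n) (h₁ n) (h₃ n)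
    (goodOp_shift τ h₁ n 1) (goodOp_shift τ h₃ n (-1))

end Op

section Weak

variable [Preadditive D] [HasZeroObject D] [HasShift D ℤ]
  [∀ n : ℤ, (shiftFunctor D n).Additive] [Pretriangulated D]

/-- `Φ` sends distinguished triangles to triangles which can be completed to distinguished ones -/
def WeakTri (Φ : C ⥤ D) : Prop :=
  ∀ T : Triangle C, T ∈ distTriang C → ∃ δ : Φ.obj T.obj₃ ⟶ (Φ.obj T.obj₁)⟦(1 : ℤ)⟧,
    Triangle.mk (Φ.map T.mor₁) (Φ.map T.mor₂) δ ∈ distTriang D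

lemma weakTri_of_iso {Φ Φ' : C ⥤ D} (e : Φ ≅ Φ') (h : WeakTri Φ) : WeakTri Φ' := by
  intro T hT
  obtain ⟨δ, hδ⟩ := h T hT
  refine ⟨e.inv.app _ ≫ δ ≫ (e.hom.app _)⟦(1 : ℤ)⟧', ?_⟩
  refine isomorphic_distinguished _ hδ _ ?_
  refine Triangle.isoMk _ _ (e.symm.app _) (e.symm.app _) (e.symm.app _) ?_ ?_ ?_
  · exact e.inv.naturality T.mor₁
  · exact e.inv.naturality T.mor₂
  · show (e.inv.app _ ≫ δ ≫ (e.hom.app _)⟦(1 : ℤ)⟧') ≫ (e.inv.app _)⟦(1 : ℤ)⟧' = e.inv.app _ ≫ δ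
    rw [Category.assoc, Category.assoc, ← Functor.map_comp, Iso.hom_inv_id_app,
      CategoryTheory.Functor.map_id, Category.comp_id]

lemma wExact_map {Φ : C ⥤ D} (hΦ : WeakTri Φ) [Φ.PreservesZeroMorphisms] {X Y Z : C}
    {a : X ⟶ Y} {b : Y ⟶ Z} (h : WExact a b) : WExact (Φ.map a) (Φ.map b) := by
  obtain ⟨C', c, δ, hT⟩ := distinguished_cocone_triangle₁ b
  obtain ⟨c', hc'⟩ := h.2 c (comp_distTriang_mor_zero₁₂ _ hT)
  obtain ⟨δ', hT'⟩ := hΦ _ hT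
  refine ⟨by rw [← Φ.map_comp, h.1, Φ.map_zero], fun W w hw => ?_⟩
  obtain ⟨y, hy⟩ : ∃ y : W ⟶ Φ.obj C', w = y ≫ Φ.map c :=
    Triangle.coyoneda_exact₂ _ hT' w hw
  refine ⟨y ≫ Φ.map c', ?_⟩
  rw [Category.assoc, ← Φ.map_comp, hc']
  exact hy.symm

lemma wExact_yoneda {Φ : C ⥤ D} (hΦ : WeakTri Φ) {X Y Z : C}
    {a : X ⟶ Y} {b : Y ⟶ Z} (h : WExact a b) {M : D} (φ : Φ.obj Y ⟶ M)
    (hφ : Φ.map a ≫ φ = 0) : ∃ ψ : Φ.obj Z ⟶ M, Φ.map b ≫ ψ = φ := by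
  obtain ⟨C', c, δ, hT⟩ := distinguished_cocone_triangle₁ b
  obtain ⟨c', hc'⟩ := h.2 c (comp_distTriang_mor_zero₁₂ _ hT)
  obtain ⟨δ', hT'⟩ := hΦ _ hT
  obtain ⟨ψ, hψ⟩ : ∃ ψ : Φ.obj Z ⟶ M, φ = Φ.map b ≫ ψ :=
    Triangle.yoneda_exact₂ _ hT' φ (by
      show Φ.map c ≫ φ = 0
      rw [← hc', Φ.map_comp, Category.assoc, hφ, comp_zero])
  exact ⟨ψ, hψ.symm⟩

end Weak

end Tri

section Concrete

open DerivedCategory Groth.Agent.Lib.KFlatMod Groth.Agent.Lib.Devissage Groth.Agent.Lib.TenExact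
  Groth.Agent.Lib.EvalTen DTen
attribute [local instance] HasDerivedCategory.standard

variable {A : Type u} [CommRing A]

/-- a functor on `D(A)` which is computed, on complexes, by a functor commuting with mapping cones
weakly preserves distinguished triangles -/
theorem weakTri_of_cone {F : Dual.D A ⥤ Dual.D A} {Φ : DRing.Cx A ⥤ DRing.Cx A}
    (ν : Q ⋙ F ≅ Φ ⋙ Q)
    (c : ∀ {K L : DRing.Cx A} (f : K ⟶ L),
      Φ.obj (CochainComplex.mappingCone f) ≅ CochainComplex.mappingCone (Φ.map f))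
    (hc : ∀ {K L : DRing.Cx A} (f : K ⟶ L),
      Φ.map (CochainComplex.mappingCone.inr f) ≫ (c f).hom =
        CochainComplex.mappingCone.inr (Φ.map f)) : WeakTri F := by
  intro T hT
  rw [mem_distTriang_iff] at hT
  obtain ⟨K, L, f, ⟨e⟩⟩ := hT
  have hT' : Q.mapTriangle.obj (CochainComplex.mappingCone.triangle (Φ.map f)) ∈
      distTriang (Dual.D A) := by
    rw [mem_distTriang_iff]
    exact ⟨_, _, Φ.map f, ⟨Iso.refl _⟩⟩
  obtain ⟨δ₀, hδ₀⟩ : ∃ δ₀ : Q.obj (CochainComplex.mappingCone (Φ.map f)) ⟶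
      (Q.obj (Φ.obj K))⟦(1 : ℤ)⟧, Triangle.mk (Q.map (Φ.map f))
        (Q.map (CochainComplex.mappingCone.inr (Φ.map f))) δ₀ ∈ distTriang (Dual.D A) :=
    ⟨_, hT'⟩
  obtain ⟨e₁, e₂, e₃, h1, h2⟩ : ∃ (e₁ : T.obj₁ ≅ Q.obj K) (e₂ : T.obj₂ ≅ Q.obj L)
      (e₃ : T.obj₃ ≅ Q.obj (CochainComplex.mappingCone f)),
      T.mor₁ ≫ e₂.hom = e₁.hom ≫ Q.map f ∧
        T.mor₂ ≫ e₃.hom = e₂.hom ≫ Q.map (CochainComplex.mappingCone.inr f) :=
    ⟨Triangle.π₁.mapIso e, Triangle.π₂.mapIso e, Triangle.π₃.mapIso e, e.hom.comm₁, e.hom.comm₂⟩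
  obtain ⟨i₁, hi₁⟩ : ∃ i₁ : F.obj T.obj₁ ≅ Q.obj (Φ.obj K),
      i₁.hom = F.map e₁.hom ≫ ν.hom.app K := ⟨F.mapIso e₁ ≪≫ ν.app K, rfl⟩
  obtain ⟨i₂, hi₂⟩ : ∃ i₂ : F.obj T.obj₂ ≅ Q.obj (Φ.obj L),
      i₂.hom = F.map e₂.hom ≫ ν.hom.app L := ⟨F.mapIso e₂ ≪≫ ν.app L, rfl⟩
  obtain ⟨i₃, hi₃⟩ : ∃ i₃ : F.obj T.obj₃ ≅ Q.obj (CochainComplex.mappingCone (Φ.map f)),
      i₃.hom = F.map e₃.hom ≫ ν.hom.app (CochainComplex.mappingCone f) ≫ Q.map (c f).hom :=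
    ⟨F.mapIso e₃ ≪≫ ν.app (CochainComplex.mappingCone f) ≪≫ Q.mapIso (c f), rfl⟩
  refine ⟨i₃.hom ≫ δ₀ ≫ (i₁.inv)⟦(1 : ℤ)⟧', ?_⟩
  refine isomorphic_distinguished _ hδ₀ _ (Triangle.isoMk _ _ i₁ i₂ i₃ ?_ ?_ ?_)
  · show F.map T.mor₁ ≫ i₂.hom = i₁.hom ≫ Q.map (Φ.map f)
    have h3 : F.map (Q.map f) ≫ ν.hom.app L = ν.hom.app K ≫ Q.map (Φ.map f) :=
      ν.hom.naturality f
    rw [hi₁, hi₂, ← Category.assoc, ← F.map_comp, h1, F.map_comp, Category.assoc, h3,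
      Category.assoc]
  · show F.map T.mor₂ ≫ i₃.hom = i₂.hom ≫ Q.map (CochainComplex.mappingCone.inr (Φ.map f))
    have h3 : F.map (Q.map (CochainComplex.mappingCone.inr f)) ≫
        ν.hom.app (CochainComplex.mappingCone f) =
          ν.hom.app L ≫ Q.map (Φ.map (CochainComplex.mappingCone.inr f)) :=
      ν.hom.naturality (CochainComplex.mappingCone.inr f)
    rw [hi₂, hi₃, ← Category.assoc, ← F.map_comp, h2, F.map_comp, Category.assoc,
      ← Category.assoc (F.map (Q.map _)), h3, Category.assoc, Category.assoc, ← Q.map_comp, hc]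
  · show (i₃.hom ≫ δ₀ ≫ (i₁.inv)⟦(1 : ℤ)⟧') ≫ (i₁.hom)⟦(1 : ℤ)⟧' = i₃.hom ≫ δ₀
    rw [Category.assoc, Category.assoc, ← Functor.map_comp, Iso.inv_hom_id,
      CategoryTheory.Functor.map_id, Category.comp_id]

variable [HasLTen A]

theorem weakTri_tensorRightD_Q (X : DRing.Cx A) (hX : KF A X) :
    WeakTri (tensorRightD A (Q.obj X)) := by
  haveI : ∀ K : DRing.Cx A, IsIso ((εRight A X).app K) := fun K =>
    Groth.Agent.Lib.LTen2.isIso_ε_of_kf_right A K X hX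
  haveI : IsIso (εRight A X) := NatIso.isIso_of_isIso_app _
  exact weakTri_of_cone (Φ := tensorRight X) (asIso (εRight A X))
    (fun f => coneTensorIso X f) (fun f => inr_coneTensorIso X f)

/-- `- ⊗^L X` weakly preserves distinguished triangles -/
theorem weakTri_tensorRightD (X : Dual.D A) : WeakTri (tensorRightD A X) := by
  obtain ⟨P, π, hπ, _, hP, _⟩ :=
    Groth.Agent.Lib.KProjRes.exists_kproj_resolution (Q.objPreimage X)
  haveI : IsIso (Q.map π) := (isIso_Q_map_iff_quasiIso (C := ModuleCat.{u} A) π).2 hπ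
  have e : Q.obj P ≅ X := asIso (Q.map π) ≪≫ Q.objObjPreimageIso X
  exact weakTri_of_iso ((LTen A).flip.mapIso e) (weakTri_tensorRightD_Q P hP)

variable [HasLTen₃ A] [IsSymMonoidal A]

/-- the symmetry as an isomorphism of functors `- ⊗^L X ≅ X ⊗^L -` -/
noncomputable def symmIso (X : Dual.D A) : tensorRightD A X ≅ (LTen A).obj X :=
  NatIso.ofComponents (fun K => braiding X K) (by
    intro K K' f
    exact (symm A).naturality (X := (X, K)) (Y := (X, K')) (Prod.mkHom (𝟙 X) f))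

/-- `X ⊗^L -` weakly preserves distinguished triangles -/
theorem weakTri_tensorLeftD (X : Dual.D A) : WeakTri ((LTen A).obj X) :=
  weakTri_of_iso (symmIso X) (weakTri_tensorRightD X)

lemma symm_naturality {a a' b b' : Dual.D A} (f : a ⟶ a') (g : b ⟶ b') :
    ten g f ≫ (symm A).app (a', b') = (symm A).app (a, b) ≫ ten f g :=
  (symm A).naturality (X := (a, b)) (Y := (a', b')) (Prod.mkHom f g)

variable [HasRHom A]

instance isLeftAdjoint_tensorLeftD (X : Dual.D A) : ((LTen A).obj X).IsLeftAdjoint :=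
  Functor.isLeftAdjoint_of_iso (symmIso X)

lemma ten_zero_right (a : Dual.D A) {b b' : Dual.D A} : ten (𝟙 a) (0 : b ⟶ b') = 0 :=
  ((LTen A).obj a).map_zero _ _

lemma ten_zero_left {a a' : Dual.D A} (b : Dual.D A) : ten (0 : a ⟶ a') (𝟙 b) = 0 :=
  (tensorRightD A b).map_zero _ _

/-! ### `RHom` in its first variable -/

lemma RHomMap_comp {M M' M'' : Dual.D A} (g : M' ⟶ M) (g' : M'' ⟶ M') (L : Dual.D A) :
    RHomMap g L ≫ RHomMap g' L = RHomMap (g' ≫ g) L := by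
  show ((RHom A).map g.op).app L ≫ ((RHom A).map g'.op).app L = ((RHom A).map (g' ≫ g).op).app L
  rw [← NatTrans.comp_app, ← Functor.map_comp, ← op_comp]

lemma RHomMap_id (M L : Dual.D A) : RHomMap (𝟙 M) L = 𝟙 _ := by
  show ((RHom A).map (𝟙 M).op).app L = _
  rw [op_id, CategoryTheory.Functor.map_id]
  rfl

lemma adjunct_comp_RHomMap {W M M' L : Dual.D A} (w : W ⟶ (RHomR A M).obj L) (g : M' ⟶ M) :
    ten (w ≫ RHomMap g L) (𝟙 M') ≫ ev M' L = ten (𝟙 W) g ≫ ten w (𝟙 M) ≫ ev M L := by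
  have h : ten (RHomMap g L) (𝟙 M') ≫ ev M' L = ten (𝟙 _) g ≫ ev M L := RHom_map_ev g L
  calc ten (w ≫ RHomMap g L) (𝟙 M') ≫ ev M' L
      = ten w (𝟙 M') ≫ ten (RHomMap g L) (𝟙 M') ≫ ev M' L := by
        rw [← Category.assoc, ten_comp, Category.comp_id]
    _ = ten w (𝟙 M') ≫ ten (𝟙 _) g ≫ ev M L := by rw [h]
    _ = ten w g ≫ ev M L := by
        rw [← Category.assoc, ten_comp, Category.comp_id, Category.id_comp]
    _ = ten (𝟙 W) g ≫ ten w (𝟙 M) ≫ ev M L := by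
        rw [← Category.assoc, ten_comp, Category.comp_id, Category.id_comp]

lemma adjunct_eq {W M L : Dual.D A} (w : W ⟶ (RHomR A M).obj L) :
    (rhomHomEquiv W M L).symm w = ten w (𝟙 M) ≫ ev M L :=
  (rhomAdj A M).homEquiv_counit _ _ _

lemma RHomMap_zero (M M' L : Dual.D A) : RHomMap (0 : M' ⟶ M) L = 0 := by
  apply (rhomHomEquiv _ M' L).symm.injective
  rw [adjunct_eq, adjunct_eq, ten_zero_left, zero_comp]
  have h : ten (RHomMap (0 : M' ⟶ M) L) (𝟙 M') ≫ ev M' L = ten (𝟙 _) (0 : M' ⟶ M) ≫ ev M L :=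
    RHom_map_ev _ L
  rw [h, ten_zero_right, zero_comp]

lemma isZero_RHom_of_isZero {X : Dual.D A} (hX : IsZero X) (L : Dual.D A) :
    IsZero ((RHomR A X).obj L) := by
  rw [IsZero.iff_id_eq_zero, ← RHomMap_id, hX.eq_of_src (𝟙 X) 0, RHomMap_zero]

/-- **`RHom(-, M)` turns weakly exact sequences into weakly exact sequences** -/
theorem wExact_RHomMap {X Y Z : Dual.D A} {a : X ⟶ Y} {b : Y ⟶ Z} (h : WExact a b)
    (M : Dual.D A) : WExact (RHomMap b M) (RHomMap a M) := by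
  refine ⟨by rw [RHomMap_comp, h.1, RHomMap_zero], fun W w hw => ?_⟩
  have hφ : ((LTen A).obj W).map a ≫ (ten w (𝟙 Y) ≫ ev Y M) = 0 := by
    show ten (𝟙 W) a ≫ ten w (𝟙 Y) ≫ ev Y M = 0
    rw [← adjunct_comp_RHomMap, hw, ten_zero_left, zero_comp]
  obtain ⟨ψ, hψ⟩ := wExact_yoneda (weakTri_tensorLeftD W) h _ hφ
  have hψ' : ten (𝟙 W) b ≫ ψ = ten w (𝟙 Y) ≫ ev Y M := hψ
  refine ⟨rhomHomEquiv W Z M ψ, ?_⟩
  apply (rhomHomEquiv W Y M).symm.injective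
  rw [adjunct_eq, adjunct_eq, adjunct_comp_RHomMap, ← adjunct_eq, Equiv.symm_apply_apply, hψ']

end Concrete

end Groth.Agent.Lib.WExact
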