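import Mathlib
import Groth.Prelude.Def_DTen3
import Groth.Agent.Lib.WExact_helper2

/-!
# `evalTen K L M` for `M` perfect and `evalHom K L M` for `K` perfect are isomorphisms (helper2)
-/

set_option autoImplicit false
universe u
open CategoryTheory Limits MonoidalCategory Pretriangulated Opposite

namespace Groth.Agent.Lib.EvalHom

open DerivedCategory Groth.Agent.Lib.Devissage Groth.Agent.Lib.TenExact
  Groth.Agent.Lib.EvalTen Groth.Agent.Lib.WExact DTen
attribute [local instance] HasDerivedCategory.standard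

variable {A : Type u} [CommRing A] [HasLTen A] [HasLTen₃ A] [IsSymMonoidal A] [HasRHom A]

lemma ten_comp_id_right {a a' a'' : Dual.D A} (f : a ⟶ a') (f' : a' ⟶ a'') (b : Dual.D A) :
    ten (f ≫ f') (𝟙 b) = ten f (𝟙 b) ≫ ten f' (𝟙 b) := by
  rw [ten_comp, Category.comp_id]

lemma ten_id_comp_left (a : Dual.D A) {b b' b'' : Dual.D A} (g : b ⟶ b') (g' : b' ⟶ b'') :
    ten (𝟙 a) (g ≫ g') = ten (𝟙 a) g ≫ ten (𝟙 a) g' := by
  rw [ten_comp, Category.comp_id]

/-! ### Invertible objects -/

lemma isEquivalence_tensorRightD {I : Dual.D A} (d : InvData I) :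
    (tensorRightD A I).IsEquivalence := by
  haveI := isEquivalence_tensorLeft d
  exact Functor.isEquivalence_of_iso (symmIso I).symm

lemma isIso_ev_of_invData {I : Dual.D A} (d : InvData I) (L : Dual.D A) : IsIso (ev I L) := by
  haveI := isEquivalence_tensorRightD d
  infer_instance

lemma isIso_coev_of_invData {I : Dual.D A} (d : InvData I) (K : Dual.D A) : IsIso (coev I K) := by
  haveI := isEquivalence_tensorRightD d
  infer_instance

/-- **`evalTen K L I` is an isomorphism for `I` invertible** -/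
theorem isIso_evalTen_of_invData_right {I : Dual.D A} (d : InvData I) (K L : Dual.D A) :
    IsIso (evalTen K L I) := by
  haveI := isIso_ev_of_invData d L
  haveI := isIso_coev_of_invData d ((LTen₂ A).obj (K, (RHomR A I).obj L))
  have h : evalTen K L I = coev I _ ≫ (RHomR A I).map (evalTenAux K L I) :=
    (rhomAdj A I).homEquiv_unit _ _ _
  haveI : IsIso (ten (𝟙 K) (ev I L)) :=
    (inferInstance : IsIso (((LTen A).obj K).map (ev I L)))
  haveI : IsIso (evalTenAux K L I) := by
    unfold evalTenAux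
    infer_instance
  rw [h]
  infer_instance

/-- **`evalHom I L M` is an isomorphism for `I` invertible** -/
theorem isIso_evalHom_of_invData {I : Dual.D A} (d : InvData I) (L M : Dual.D A) :
    IsIso (evalHom I L M) := by
  haveI : (tensorRightD A I).IsEquivalence := isEquivalence_tensorRightD d
  haveI := isIso_ev_of_invData d L
  obtain ⟨N, hN⟩ : ∃ N : Dual.D A, N = (RHomR A I).obj L := ⟨_, rfl⟩
  obtain ⟨R, hR⟩ : ∃ R : Dual.D A, R = (RHomR A L).obj M := ⟨_, rfl⟩
  let e₀ : (LTen₂ A).obj (I, (RHomR A I).obj L) ⟶ L := (symm A).app ((RHomR A I).obj L, I) ≫ ev I L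
  haveI : IsIso e₀ := by
    haveI : IsIso ((symm A).app ((RHomR A I).obj L, I)) := inferInstance
    exact IsIso.comp_isIso
  apply isIso_of_yoneda_map_bijective
  intro W
  obtain ⟨W', ⟨e⟩⟩ : ∃ W' : Dual.D A, Nonempty ((LTen₂ A).obj (W', I) ≅ W) :=
    ⟨(tensorRightD A I).objPreimage W, ⟨(tensorRightD A I).objObjPreimageIso W⟩⟩
  have hff : ∀ X Y : Dual.D A, Function.Bijective
      (fun g : X ⟶ Y => (ten g (𝟙 I) : (LTen₂ A).obj (X, I) ⟶ (LTen₂ A).obj (Y, I))) :=
    fun X Y => (Functor.FullyFaithful.ofFullyFaithful (tensorRightD A I)).homEquiv.bijective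
  let j : (LTen₂ A).obj ((LTen₂ A).obj (W', I), (RHomR A I).obj L) ≅ (LTen₂ A).obj (W', L) :=
    associator W' I ((RHomR A I).obj L) ≪≫ ((LTen A).obj W').mapIso (asIso e₀)
  have hj : j.hom = (associator W' I ((RHomR A I).obj L)).hom ≫ ten (𝟙 W') e₀ := rfl
  let Φ : (W' ⟶ (RHomR A L).obj M) → (W ⟶ (LTen₂ A).obj ((RHomR A L).obj M, I)) :=
    fun y => e.inv ≫ ten y (𝟙 I)
  have hΦ : Function.Bijective Φ :=
    (Iso.homFromEquiv e).bijective.comp (hff W' ((RHomR A L).obj M))
  let Ψ : (W' ⟶ (RHomR A L).obj M) → (W ⟶ (RHomR A ((RHomR A I).obj L)).obj M) :=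
    fun y => e.inv ≫ rhomHomEquiv ((LTen₂ A).obj (W', I)) ((RHomR A I).obj L) M
      (j.hom ≫ (rhomHomEquiv W' L M).symm y)
  have hΨ : Function.Bijective Ψ :=
    (Iso.homFromEquiv e).bijective.comp
      ((rhomHomEquiv ((LTen₂ A).obj (W', I)) ((RHomR A I).obj L) M).bijective.comp
        ((Iso.homFromEquiv j).symm.bijective.comp (rhomHomEquiv W' L M).symm.bijective))
  have key : ∀ y : W' ⟶ (RHomR A L).obj M, Φ y ≫ evalHom I L M = Ψ y := by
    intro y
    have n1 : ten y (𝟙 I) ≫ evalHom I L M = rhomHomEquiv ((LTen₂ A).obj (W', I)) _ M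
        (ten (ten y (𝟙 I)) (𝟙 ((RHomR A I).obj L)) ≫ evalHomAux I L M) :=
      ((rhomAdj A ((RHomR A I).obj L)).homEquiv_naturality_left (ten y (𝟙 I))
        (evalHomAux I L M)).symm
    show (e.inv ≫ ten y (𝟙 I)) ≫ evalHom I L M = e.inv ≫ _
    rw [Category.assoc, n1, adjunct_eq, hj]
    congr 2
    unfold evalHomAux
    show ten (ten y (𝟙 I)) (𝟙 _) ≫ (associator _ I _).hom ≫ ten (𝟙 _) e₀ ≫ ev L M =
      ((associator W' I _).hom ≫ ten (𝟙 W') e₀) ≫ ten y (𝟙 L) ≫ ev L M
    rw [← Category.assoc, EvalTen.associator_naturality, Category.assoc, Category.assoc, ten_id,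
      ← Category.assoc (ten y _), ten_comp, ← Category.assoc (ten (𝟙 W') e₀), ten_comp]
    simp only [Category.comp_id, Category.id_comp]
  have hfun : (fun x : W ⟶ (LTen₂ A).obj ((RHomR A L).obj M, I) => x ≫ evalHom I L M) =
      Ψ ∘ (Equiv.ofBijective Φ hΦ).symm := by
    funext x
    obtain ⟨y, rfl⟩ := hΦ.surjective x
    have : (Equiv.ofBijective Φ hΦ).symm (Φ y) = y :=
      (Equiv.ofBijective Φ hΦ).symm_apply_apply y
    show Φ y ≫ evalHom I L M = Ψ ((Equiv.ofBijective Φ hΦ).symm (Φ y))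
    rw [this, key]
  rw [hfun]
  exact hΨ.comp (Equiv.ofBijective Φ hΦ).symm.bijective

/-! ### `evalTen K L -` as a natural transformation of contravariant functors -/

section M

variable (K L : Dual.D A)

/-- `M ↦ K ⊗^L RHom(M, L)` -/
noncomputable abbrev FM : (Dual.D A)ᵒᵖ ⥤ Dual.D A := (RHom A).flip.obj L ⋙ (LTen A).obj K

/-- `M ↦ RHom(M, K ⊗^L L)` -/
noncomputable abbrev GM : (Dual.D A)ᵒᵖ ⥤ Dual.D A := (RHom A).flip.obj ((LTen₂ A).obj (K, L))

/-- `evalTen K L -` as a natural transformation -/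
noncomputable def evalTenNatM : FM K L ⟶ GM K L where
  app M := evalTen K L (unop M)
  naturality M M' g := by
    obtain ⟨M₀⟩ := M
    obtain ⟨M₁⟩ := M'
    obtain ⟨h, rfl⟩ : ∃ h : M₁ ⟶ M₀, g = h.op := ⟨g.unop, rfl⟩
    show ten (𝟙 K) (RHomMap h L) ≫ evalTen K L M₁ =
      evalTen K L M₀ ≫ RHomMap h ((LTen₂ A).obj (K, L))
    apply (rhomHomEquiv _ M₁ _).symm.injective
    rw [adjunct_eq, adjunct_eq, adjunct_comp_RHomMap, evalTen_fac, ten_comp_id_right,
      Category.assoc, evalTen_fac]
    have e1 : ten (𝟙 ((LTen₂ A).obj (K, (RHomR A M₀).obj L))) h =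
        ten (ten (𝟙 K) (𝟙 ((RHomR A M₀).obj L))) h := by rw [ten_id]
    have e2 : ten (RHomMap h L) (𝟙 M₁) ≫ ev M₁ L = ten (𝟙 _) h ≫ ev M₀ L := RHom_map_ev h L
    have hL : ten (ten (𝟙 K) (RHomMap h L)) (𝟙 M₁) ≫ evalTenAux K L M₁ =
        (associator K ((RHomR A M₀).obj L) M₁).hom ≫
          ten (𝟙 K) (ten (𝟙 ((RHomR A M₀).obj L)) h ≫ ev M₀ L) := by
      unfold evalTenAux
      rw [← Category.assoc, EvalTen.associator_naturality, Category.assoc, ten_comp,
        Category.comp_id, e2]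
    have hR : ten (𝟙 ((LTen₂ A).obj (K, (RHomR A M₀).obj L))) h ≫ evalTenAux K L M₀ =
        (associator K ((RHomR A M₀).obj L) M₁).hom ≫
          ten (𝟙 K) (ten (𝟙 ((RHomR A M₀).obj L)) h ≫ ev M₀ L) := by
      unfold evalTenAux
      rw [e1, ← Category.assoc, EvalTen.associator_naturality, Category.assoc, ten_comp,
        Category.comp_id]
    rw [hL, hR]

/-- **`K ⊗^L RHom(M, L) ⟶ RHom(M, K ⊗^L L)` is an isomorphism for `M` perfect** -/
theorem isIso_evalTen_of_isPerfect_right (M : Dual.D A) (hM : DRing.IsPerfect A M) :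
    IsIso (evalTen K L M) := by
  have hF : ∀ T : Triangle (Dual.D A), T ∈ distTriang _ →
      WExact ((FM K L).map T.mor₂.op) ((FM K L).map T.mor₁.op) := fun T hT =>
    wExact_map (weakTri_tensorLeftD K) (wExact_RHomMap (wExact_of_distinguished T hT) L)
  have hG : ∀ T : Triangle (Dual.D A), T ∈ distTriang _ →
      WExact ((GM K L).map T.mor₂.op) ((GM K L).map T.mor₁.op) := fun T hT =>
    wExact_RHomMap (wExact_of_distinguished T hT) _
  have hgood : GoodOp (evalTenNatM K L) M := by
    refine perfect_induction (GoodOp (evalTenNatM K L)) (fun e h => goodOp_of_iso _ e h)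
      (fun X hX => goodOp_of_isZero _ (fun Y hY => ?_) (fun Y hY => ?_) hX)
      (fun i r hir h => goodOp_of_retract _ i r hir h) ?_
      (fun T hT h1 h3 => goodOp_ext _ hF hG T hT h1 h3) M hM
    · exact ((LTen A).obj K).map_isZero (isZero_RHom_of_isZero hY L)
    · exact isZero_RHom_of_isZero hY _
    · intro a n
      refine isIso_app_of_iso' (evalTenNatM K L) (sDIso a n).op ?_
      exact isIso_evalTen_of_invData_right (invDataI (n - a)) K L
  exact isIso_app_of_goodOp _ hgood

end M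

/-! ### `evalHom - L M` as a natural transformation -/

section K

variable (L M : Dual.D A)

/-- `K ↦ RHom(RHom(K, L), M)` -/
noncomputable def GK : Dual.D A ⥤ Dual.D A where
  obj K := (RHomR A ((RHomR A K).obj L)).obj M
  map f := RHomMap (RHomMap f L) M
  map_id K := by rw [RHomMap_id, RHomMap_id]
  map_comp f g := by rw [← RHomMap_comp g f L, ← RHomMap_comp]

instance : (GK L M).PreservesZeroMorphisms where
  map_zero K K' := by
    show RHomMap (RHomMap (0 : K ⟶ K') L) M = 0
    rw [RHomMap_zero, RHomMap_zero]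

/-- `evalHom - L M` as a natural transformation -/
noncomputable def evalHomNat : (LTen A).obj ((RHomR A L).obj M) ⟶ GK L M where
  app K := evalHom K L M
  naturality K K' f := by
    show ten (𝟙 _) f ≫ evalHom K' L M = evalHom K L M ≫ RHomMap (RHomMap f L) M
    apply (rhomHomEquiv _ ((RHomR A K').obj L) M).symm.injective
    rw [adjunct_eq, adjunct_eq, adjunct_comp_RHomMap, evalHom_fac, ten_comp_id_right,
      Category.assoc, evalHom_fac]
    have e1 : ten (𝟙 ((LTen₂ A).obj ((RHomR A L).obj M, K))) (RHomMap f L) =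
        ten (ten (𝟙 ((RHomR A L).obj M)) (𝟙 K)) (RHomMap f L) := by rw [ten_id]
    have e2 : ten (RHomMap f L) (𝟙 K) ≫ ev K L = ten (𝟙 _) f ≫ ev K' L := RHom_map_ev f L
    have e3 : ten f (𝟙 ((RHomR A K').obj L)) ≫ (symm A).app ((RHomR A K').obj L, K') ≫ ev K' L =
        ten (𝟙 K) (RHomMap f L) ≫ (symm A).app ((RHomR A K).obj L, K) ≫ ev K L := by
      rw [← Category.assoc, symm_naturality, Category.assoc, ← Category.assoc (ten (𝟙 K) _),
        symm_naturality, Category.assoc, e2]
    have hL : ten (ten (𝟙 ((RHomR A L).obj M)) f) (𝟙 ((RHomR A K').obj L)) ≫ evalHomAux K' L M =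
        (associator ((RHomR A L).obj M) K ((RHomR A K').obj L)).hom ≫
          ten (𝟙 ((RHomR A L).obj M)) (ten f (𝟙 ((RHomR A K').obj L)) ≫
            (symm A).app ((RHomR A K').obj L, K') ≫ ev K' L) ≫ ev L M := by
      unfold evalHomAux
      rw [← Category.assoc, EvalTen.associator_naturality, Category.assoc,
        ← Category.assoc (ten _ _), ten_comp, Category.comp_id]
    have hR : ten (𝟙 ((LTen₂ A).obj ((RHomR A L).obj M, K))) (RHomMap f L) ≫ evalHomAux K L M =
        (associator ((RHomR A L).obj M) K ((RHomR A K').obj L)).hom ≫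
          ten (𝟙 ((RHomR A L).obj M)) (ten (𝟙 K) (RHomMap f L) ≫
            (symm A).app ((RHomR A K).obj L, K) ≫ ev K L) ≫ ev L M := by
      unfold evalHomAux
      rw [e1, ← Category.assoc, EvalTen.associator_naturality, Category.assoc,
        ← Category.assoc (ten _ _), ten_comp, Category.comp_id]
    rw [hL, hR, e3]

/-- **`RHom(L, M) ⊗^L K ⟶ RHom(RHom(K, L), M)` is an isomorphism for `K` perfect** -/
theorem isIso_evalHom_of_isPerfect (K : Dual.D A) (hK : DRing.IsPerfect A K) :
    IsIso (evalHom K L M) := by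
  have hF : CoyonedaExact ((LTen A).obj ((RHomR A L).obj M)) :=
    coyonedaExact_of_iso (symmIso _) (coyonedaExact_tensorRightD _)
  have hG : CoyonedaExact (GK L M) := by
    intro T hT W x hx
    obtain ⟨y, hy⟩ :=
      (wExact_RHomMap (wExact_RHomMap (wExact_of_distinguished T hT) L) M).2 x hx
    exact ⟨y, hy.symm⟩
  have hgood : Good (evalHomNat L M) K := by
    refine perfect_induction (Good (evalHomNat L M)) (fun e h => good_of_iso _ e h)
      (fun K hK => good_of_isZero _ hK) (fun i r hir h => good_of_retract _ i r hir h) ?_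
      (fun T hT h1 h3 => good_ext _ hF hG T hT h1 h3) K hK
    intro a n
    refine isIso_app_of_iso (evalHomNat L M) (sDIso a n).symm ?_
    exact isIso_evalHom_of_invData (invDataI (n - a)) L M
  exact isIso_app_of_good _ hgood

end K

end Groth.Agent.Lib.EvalHom
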