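import Mathlib
import Groth.Agent.Lib.HorseshoeCx_helper9

/-!
# Injective amplitude (helper9)

Vanishing of `Hom(F[0], X[i])` versus bounded complexes of injectives.
-/

open CategoryTheory CategoryTheory.Limits

namespace Groth.Agent.Lib.InjAmp

universe w v u

variable {C : Type u} [Category.{v} C] [Abelian C]

/-- The canonical morphism from the cycles in degree `j`, seen as a complex in degree `j`. -/
noncomputable def cycMap (K : CochainComplex C ℤ) (j : ℤ) :
    (HomologicalComplex.single C (ComplexShape.up ℤ) j).obj (K.cycles j) ⟶ K :=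
  HomologicalComplex.mkHomFromSingle (K.iCycles j) (fun k _ => K.iCycles_d j k)

lemma cycMap_f (K : CochainComplex C ℤ) (j : ℤ) :
    (cycMap K j).f j =
      (HomologicalComplex.singleObjXSelf (ComplexShape.up ℤ) j (K.cycles j)).hom ≫ K.iCycles j :=
  HomologicalComplex.mkHomFromSingle_f _ _

/-- If the cycle map induces zero on `H^j`, then `H^j` vanishes. -/
lemma isZero_homology_of_homologyMap_cycMap (K : CochainComplex C ℤ) (j : ℤ)
    (h : HomologicalComplex.homologyMap (cycMap K j) j = 0) : IsZero (K.homology j) := by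
  haveI hS : IsIso (((HomologicalComplex.single C (ComplexShape.up ℤ) j).obj
      (K.cycles j)).iCycles j) :=
    HomologicalComplex.isIso_iCycles _ j (j + 1) (by simp) (by simp)
  have h1 : HomologicalComplex.cyclesMap (cycMap K j) j ≫ K.iCycles j =
      ((HomologicalComplex.single C (ComplexShape.up ℤ) j).obj (K.cycles j)).iCycles j ≫
        (cycMap K j).f j :=
    HomologicalComplex.cyclesMap_i (cycMap K j) j
  have h2 : HomologicalComplex.cyclesMap (cycMap K j) j =
      ((HomologicalComplex.single C (ComplexShape.up ℤ) j).obj (K.cycles j)).iCycles j ≫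
        (HomologicalComplex.singleObjXSelf (ComplexShape.up ℤ) j (K.cycles j)).hom := by
    rw [← cancel_mono (K.iCycles j), h1, cycMap_f, Category.assoc]
  haveI : IsIso (HomologicalComplex.cyclesMap (cycMap K j) j) := by
    rw [h2]; infer_instance
  have h3 := HomologicalComplex.homologyπ_naturality (cycMap K j) j
  rw [h, comp_zero] at h3
  have h4 : K.homologyπ j = 0 := by
    rw [← cancel_epi (HomologicalComplex.cyclesMap (cycMap K j) j), ← h3, comp_zero]
  exact IsZero.of_epi_eq_zero _ h4

/-- A null-homotopy of the cycle map gives a splitting of the differential on cycles. -/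
lemma exists_of_homotopy (I : CochainComplex C ℤ) (i j : ℤ) (hij : i + 1 = j)
    (H : Homotopy (cycMap I j) 0) :
    ∃ h : I.cycles j ⟶ I.X i, h ≫ I.d i j = I.iCycles j := by
  have h1 := H.comm j
  rw [prevD_eq _ (show (ComplexShape.up ℤ).Rel i j from hij),
    dNext_eq _ (show (ComplexShape.up ℤ).Rel j (j + 1) from rfl),
    HomologicalComplex.single_obj_d, zero_comp, zero_add, HomologicalComplex.zero_f, add_zero,
    cycMap_f] at h1
  refine ⟨(HomologicalComplex.singleObjXSelf (ComplexShape.up ℤ) j (I.cycles j)).inv ≫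
    H.hom j i, ?_⟩
  rw [Category.assoc, ← h1, Iso.inv_hom_id_assoc]

section split

variable (I : CochainComplex C ℤ) (i j : ℤ) (hij : i + 1 = j)
  (h : I.cycles j ⟶ I.X i) (hh : h ≫ I.d i j = I.iCycles j)

include hij hh

lemma comp_toCycles : h ≫ I.toCycles i j = 𝟙 _ := by
  rw [← cancel_mono (I.iCycles j), Category.assoc, HomologicalComplex.toCycles_i, hh,
    Category.id_comp]

lemma isZero_homology_of_split : IsZero (I.homology j) := by
  haveI : Epi (I.toCycles i j) := epi_of_epi_fac (comp_toCycles I i j hij h hh)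
  exact CokernelCofork.IsColimit.isZero_of_epi
    (I.homologyIsCokernel i j (by simp [← hij]))

lemma injective_cycles_of_split [Injective (I.X i)] : Injective (I.cycles i) := by
  have hrel : (ComplexShape.up ℤ).Rel i j := hij
  have hnext : (ComplexShape.up ℤ).next i = j := by simp [← hij]
  have h0 : (𝟙 (I.X i) - I.toCycles i j ≫ h) ≫ I.d i j = 0 := by
    rw [Preadditive.sub_comp, Category.id_comp, Category.assoc, hh,
      HomologicalComplex.toCycles_i, sub_self]
  have h1 : I.iCycles i ≫ I.toCycles i j = 0 := by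
    rw [← cancel_mono (I.iCycles j), Category.assoc, HomologicalComplex.toCycles_i,
      HomologicalComplex.iCycles_d, zero_comp]
  refine HorseshoeCx.injective_of_retract (I.iCycles i)
    (I.liftCycles (𝟙 (I.X i) - I.toCycles i j ≫ h) j hnext h0) ?_
  rw [← cancel_mono (I.iCycles i), Category.assoc, HomologicalComplex.liftCycles_i,
    Preadditive.comp_sub, Category.comp_id, reassoc_of% h1, zero_comp, sub_zero,
    Category.id_comp]

end split

section derived

variable [HasDerivedCategory.{w} C]

open DerivedCategory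

lemma homologyMap_eq_zero_of_Q_map_eq_zero {K L : CochainComplex C ℤ} (φ : K ⟶ L)
    (h : Q.map φ = 0) (j : ℤ) : HomologicalComplex.homologyMap φ j = 0 := by
  have h1 : ((homologyFunctorFactors C j).app K).hom ≫ HomologicalComplex.homologyMap φ j ≫
      ((homologyFunctorFactors C j).app L).inv =
        (DerivedCategory.homologyFunctor C j).map (Q.map φ) :=
    (NatIso.naturality_2 (homologyFunctorFactors C j) φ)
  rw [h, Functor.map_zero] at h1
  have h3 : (((homologyFunctorFactors C j).app K).hom ≫ HomologicalComplex.homologyMap φ j) ≫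
      ((homologyFunctorFactors C j).app L).inv = 0 ≫ ((homologyFunctorFactors C j).app L).inv := by
    rw [Category.assoc, h1, zero_comp]
  have h4 := (cancel_mono _).1 h3
  have h5 : ((homologyFunctorFactors C j).app K).hom ≫ HomologicalComplex.homologyMap φ j =
      ((homologyFunctorFactors C j).app K).hom ≫ 0 := by rw [comp_zero]; exact h4
  exact (cancel_epi _).1 h5

lemma homotopy_zero_of_Q_map_eq_zero {K L : CochainComplex C ℤ} [L.IsKInjective] (φ : K ⟶ L)
    (h : Q.map φ = 0) : Nonempty (Homotopy φ 0) := by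
  have h1 : Qh.map ((HomotopyCategory.quotient C (ComplexShape.up ℤ)).map φ) = 0 := by
    have h2 := (quotientCompQhIso C).hom.naturality φ
    rw [h, comp_zero] at h2
    rw [← cancel_mono ((quotientCompQhIso C).hom.app L), zero_comp]
    exact h2
  have h2 : (HomotopyCategory.quotient C (ComplexShape.up ℤ)).map φ = 0 :=
    (CochainComplex.IsKInjective.Qh_map_bijective _ L).1 (by rw [h1, Functor.map_zero])
  exact ⟨HomotopyCategory.homotopyOfEq _ _ (by rw [h2, Functor.map_zero])⟩

/-- Vanishing of maps from `F[0]` to `X[i]` gives vanishing of maps from `F[-i]` to `X`. -/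
lemma eq_zero_of_shift (X : DerivedCategory C) (i : ℤ)
    (hX : ∀ (F : C) (φ : (DerivedCategory.singleFunctor C 0).obj F ⟶
      (shiftFunctor (DerivedCategory C) i).obj X), φ = 0)
    (F : C) (ψ : (DerivedCategory.singleFunctor C i).obj F ⟶ X) : ψ = 0 := by
  have h := hX F ((((DerivedCategory.singleFunctors C).shiftIso i 0 i (add_zero i)).app F).inv ≫
    (shiftFunctor (DerivedCategory C) i).map ψ)
  have h2 : (shiftFunctor (DerivedCategory C) i).map ψ = 0 := by
    have h3 : (((DerivedCategory.singleFunctors C).shiftIso i 0 i (add_zero i)).app F).inv ≫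
        (shiftFunctor (DerivedCategory C) i).map ψ =
        (((DerivedCategory.singleFunctors C).shiftIso i 0 i (add_zero i)).app F).inv ≫ 0 := by
      rw [comp_zero]; exact h
    exact (cancel_epi _).1 h3
  exact (shiftFunctor (DerivedCategory C) i).map_injective (by rw [h2, Functor.map_zero])

/-- Converse of `eq_zero_of_shift`. -/
lemma eq_zero_of_unshift (X : DerivedCategory C) (i : ℤ) (F : C)
    (hX : ∀ (ψ : (DerivedCategory.singleFunctor C i).obj F ⟶ X), ψ = 0)
    (φ : (DerivedCategory.singleFunctor C 0).obj F ⟶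
      (shiftFunctor (DerivedCategory C) i).obj X) : φ = 0 := by
  obtain ⟨ψ, hψ⟩ := (shiftFunctor (DerivedCategory C) i).map_surjective
    ((((DerivedCategory.singleFunctors C).shiftIso i 0 i (add_zero i)).app F).hom ≫ φ)
  rw [hX ψ, Functor.map_zero] at hψ
  have h3 : (((DerivedCategory.singleFunctors C).shiftIso i 0 i (add_zero i)).app F).hom ≫ φ =
      (((DerivedCategory.singleFunctors C).shiftIso i 0 i (add_zero i)).app F).hom ≫ 0 := by
    rw [comp_zero]; exact hψ.symm
  exact (cancel_epi _).1 h3

/-- Under the vanishing hypothesis in degree `i`, the cycle map in degree `i` vanishes in the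
derived category. -/
lemma Q_map_cycMap_eq_zero (X : DerivedCategory C) (i : ℤ)
    (hX : ∀ (F : C) (φ : (DerivedCategory.singleFunctor C 0).obj F ⟶
      (shiftFunctor (DerivedCategory C) i).obj X), φ = 0)
    (K : CochainComplex C ℤ) (e : Q.obj K ≅ X) : Q.map (cycMap K i) = 0 := by
  let g₁ : (CochainComplex.singleFunctor C i).obj (K.cycles i) ⟶ K := cycMap K i
  have h := eq_zero_of_shift X i hX (K.cycles i)
    (((singleFunctorIsoCompQ C i).app (K.cycles i)).hom ≫ Q.map g₁ ≫ e.hom)
  have h2 : Q.map g₁ ≫ e.hom = 0 := by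
    have h3 : ((singleFunctorIsoCompQ C i).app (K.cycles i)).hom ≫ Q.map g₁ ≫ e.hom =
        ((singleFunctorIsoCompQ C i).app (K.cycles i)).hom ≫ 0 := by
      rw [comp_zero]; exact h
    exact (cancel_epi _).1 h3
  have h4 : Q.map g₁ = 0 := by
    have h5 : Q.map g₁ ≫ e.hom = 0 ≫ e.hom := by rw [zero_comp]; exact h2
    exact (cancel_mono _).1 h5
  exact h4

/-- Terms of the truncation of a bounded below complex of injectives whose cycles in degree `b`
are injective. -/
lemma truncLE_props (L : CochainComplex C ℤ) (a b : ℤ) [L.IsStrictlyGE a]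
    (hinj : ∀ q, Injective (L.X q)) (hcyc : Injective (L.cycles b)) :
    (∀ q, Injective ((L.truncLE b).X q)) ∧
      (∀ q, (q < a ∨ b < q) → IsZero ((L.truncLE b).X q)) := by
  constructor
  · intro q
    rcases lt_trichotomy q b with hq | rfl | hq
    · exact Injective.of_iso (L.truncLEXIso b q hq).symm (hinj q)
    · exact Injective.of_iso (L.truncLEXIsoCycles q).symm hcyc
    · exact ((L.truncLE b).isZero_of_isStrictlyLE b q hq).injective
  · rintro q (hq | hq)
    · exact (L.truncLE b).isZero_of_isStrictlyGE a q hq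
    · exact (L.truncLE b).isZero_of_isStrictlyLE b q hq

/-- Data extracted from the vanishing hypothesis in degrees `> b` for a bounded below complex of
injectives. -/
lemma split_of_vanishing (X : DerivedCategory C) (b : ℤ)
    (hX : ∀ (F : C) (i : ℤ), b < i →
      ∀ φ : (DerivedCategory.singleFunctor C 0).obj F ⟶
        (shiftFunctor (DerivedCategory C) i).obj X, φ = 0)
    (L : CochainComplex C ℤ) (a : ℤ) [L.IsStrictlyGE a] (hinj : ∀ q, Injective (L.X q))
    (eL : Q.obj L ≅ X) :
    L.IsLE b ∧ Injective (L.cycles b) := by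
  haveI : L.IsKInjective := CochainComplex.isKInjective_of_injective L a
  have hsplit : ∀ i j, i + 1 = j → b < j →
      ∃ h : L.cycles j ⟶ L.X i, h ≫ L.d i j = L.iCycles j := fun i j hij hj => by
    obtain ⟨H⟩ := homotopy_zero_of_Q_map_eq_zero _
      (Q_map_cycMap_eq_zero X j (fun F φ => hX F j hj φ) L eL)
    exact exists_of_homotopy L i j hij H
  constructor
  · rw [L.isLE_iff]
    intro j hj
    rw [HomologicalComplex.exactAt_iff_isZero_homology]
    obtain ⟨h, hh⟩ := hsplit (j - 1) j (by omega) hj
    exact isZero_homology_of_split L (j - 1) j (by omega) h hh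
  · obtain ⟨h, hh⟩ := hsplit b (b + 1) rfl (by omega)
    exact injective_cycles_of_split L b (b + 1) rfl h hh

/-- Vanishing of `Hom(F[0], X[i])` outside `[a, b]` gives a representative by injectives
concentrated in `[a, b]`. -/
theorem exists_of_vanishing [EnoughInjectives C] (X : DerivedCategory C) (a b : ℤ)
    (hX : ∀ (F : C) (i : ℤ), (i < a ∨ b < i) →
      ∀ φ : (DerivedCategory.singleFunctor C 0).obj F ⟶
        (shiftFunctor (DerivedCategory C) i).obj X, φ = 0) :
    ∃ I : CochainComplex C ℤ, (∀ i, Injective (I.X i)) ∧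
      (∀ i, (i < a ∨ b < i) → IsZero (I.X i)) ∧ Nonempty (Q.obj I ≅ X) := by
  obtain ⟨K, ⟨eK⟩⟩ : ∃ K : CochainComplex C ℤ, Nonempty (Q.obj K ≅ X) :=
    ⟨_, ⟨Q.objObjPreimageIso X⟩⟩
  have hK : ∀ j, (j < a ∨ b < j) → IsZero (K.homology j) := fun j hj =>
    isZero_homology_of_homologyMap_cycMap K j (homologyMap_eq_zero_of_Q_map_eq_zero _
      (Q_map_cycMap_eq_zero X j (fun F φ => hX F j hj φ) K eK) j)
  haveI : K.IsGE a := by
    rw [K.isGE_iff]
    intro i hi
    rw [HomologicalComplex.exactAt_iff_isZero_homology]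
    exact hK i (Or.inl hi)
  obtain ⟨L, ι, _, hι, hL, hLa⟩ :=
    HorseshoeCx.exists_mono_quasiIso_injective_ge (K.truncGE a) a
  haveI := hLa
  haveI := hι
  let eL : Q.obj L ≅ X :=
    (asIso (Q.map ι)).symm ≪≫ (asIso (Q.map (K.πTruncGE a))).symm ≪≫ eK
  obtain ⟨h1, h2⟩ := split_of_vanishing X b (fun F i hi φ => hX F i (Or.inr hi) φ) L a hL eL
  haveI := h1
  obtain ⟨h3, h4⟩ := truncLE_props L a b hL h2
  exact ⟨L.truncLE b, h3, h4, ⟨asIso (Q.map (L.ιTruncLE b)) ≪≫ eL⟩⟩

/-- Morphisms in the derived category to a K-injective complex are represented by morphisms of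
complexes. -/
lemma exists_Q_map_eq {K L : CochainComplex C ℤ} [L.IsKInjective] (ψ : Q.obj K ⟶ Q.obj L) :
    ∃ g : K ⟶ L, Q.map g = ψ := by
  obtain ⟨g', hg'⟩ := (CochainComplex.IsKInjective.Qh_map_bijective
    ((HomotopyCategory.quotient C (ComplexShape.up ℤ)).obj K) L).2
      (((quotientCompQhIso C).app K).hom ≫ ψ ≫ ((quotientCompQhIso C).app L).inv)
  obtain ⟨g, rfl⟩ := (HomotopyCategory.quotient C (ComplexShape.up ℤ)).map_surjective g'
  refine ⟨g, ?_⟩
  have h2 : ((quotientCompQhIso C).app K).hom ≫ Q.map g =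
      Qh.map ((HomotopyCategory.quotient C (ComplexShape.up ℤ)).map g) ≫
        ((quotientCompQhIso C).app L).hom := ((quotientCompQhIso C).hom.naturality g).symm
  rw [hg', Category.assoc, Category.assoc, Iso.inv_hom_id, Category.comp_id] at h2
  exact (cancel_epi _).1 h2

/-- A complex of injectives concentrated in `[a, b]` has injective amplitude in `[a, b]`. -/
theorem vanishing_of_exists (X : DerivedCategory C) (a b : ℤ) (I : CochainComplex C ℤ)
    (hI : ∀ i, Injective (I.X i)) (hI' : ∀ i, (i < a ∨ b < i) → IsZero (I.X i))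
    (e : Q.obj I ≅ X) (F : C) (i : ℤ) (hi : i < a ∨ b < i)
    (φ : (DerivedCategory.singleFunctor C 0).obj F ⟶
      (shiftFunctor (DerivedCategory C) i).obj X) : φ = 0 := by
  haveI : I.IsStrictlyGE a := by
    rw [I.isStrictlyGE_iff]
    intro j hj
    exact hI' j (Or.inl hj)
  haveI : I.IsKInjective := CochainComplex.isKInjective_of_injective I a
  refine eq_zero_of_unshift X i F (fun ψ => ?_) φ
  obtain ⟨g, hg⟩ := exists_Q_map_eq (K := (CochainComplex.singleFunctor C i).obj F) (L := I)
    (((singleFunctorIsoCompQ C i).app F).inv ≫ ψ ≫ e.inv)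
  have hg0 : g = 0 := by
    apply HomologicalComplex.from_single_hom_ext
    exact (hI' i hi).eq_of_tgt _ _
  rw [hg0, Functor.map_zero] at hg
  have h1 : ψ ≫ e.inv = 0 := by
    have h2 : ((singleFunctorIsoCompQ C i).app F).inv ≫ ψ ≫ e.inv =
        ((singleFunctorIsoCompQ C i).app F).inv ≫ 0 := by rw [comp_zero]; exact hg.symm
    exact (cancel_epi _).1 h2
  have h3 : ψ ≫ e.inv = 0 ≫ e.inv := by rw [zero_comp]; exact h1
  exact (cancel_mono _).1 h3

/-- Injective amplitude in `[a, b]` is equivalent to being represented by a complex of injectives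
concentrated in `[a, b]`. -/
theorem main [EnoughInjectives C] (X : DerivedCategory C) (a b : ℤ) :
    (∀ (F : C) (i : ℤ), (i < a ∨ b < i) →
        ∀ φ : (DerivedCategory.singleFunctor C 0).obj F ⟶
          (shiftFunctor (DerivedCategory C) i).obj X, φ = 0) ↔
      ∃ I : CochainComplex C ℤ, (∀ i, Injective (I.X i)) ∧
        (∀ i, (i < a ∨ b < i) → IsZero (I.X i)) ∧ Nonempty (DerivedCategory.Q.obj I ≅ X) := by
  constructor
  · exact exists_of_vanishing X a b
  · rintro ⟨I, hI, hI', ⟨e⟩⟩ F i hi φ
    exact vanishing_of_exists X a b I hI hI' e F i hi φ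

/-- A bounded below complex admits a quasi-isomorphism to a bounded complex of injectives iff
`Hom(Y[0], K[i])` vanishes for `i` large. -/
theorem main_bounded [EnoughInjectives C] (K : CochainComplex C ℤ) (a : ℤ) [K.IsStrictlyGE a] :
    (∃ (I : CochainComplex C ℤ) (b c : ℤ) (f : K ⟶ I), I.IsStrictlyGE b ∧ I.IsStrictlyLE c ∧
        (∀ n : ℤ, Injective (I.X n)) ∧ QuasiIso f) ↔
      ∃ n₀ : ℤ, ∀ (Y : C) (i : ℤ), n₀ < i →
        ∀ φ : (DerivedCategory.singleFunctor C 0).obj Y ⟶
          (shiftFunctor (DerivedCategory C) i).obj (DerivedCategory.Q.obj K), φ = 0 := by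
  constructor
  · rintro ⟨I, b, c, f, hb, hc, hI, hf⟩
    refine ⟨c, fun Y i hi φ => ?_⟩
    haveI := hf
    refine vanishing_of_exists (Q.obj K) b c I hI ?_ (asIso (Q.map f)).symm Y i (Or.inr hi) φ
    rintro j (hj | hj)
    · exact I.isZero_of_isStrictlyGE b j hj
    · exact I.isZero_of_isStrictlyLE c j hj
  · rintro ⟨n₀, hn₀⟩
    obtain ⟨L, ι, _, hι, hL, hLa⟩ := HorseshoeCx.exists_mono_quasiIso_injective_ge K a
    haveI := hLa
    haveI := hι
    obtain ⟨h1, h2⟩ := split_of_vanishing (Q.obj K) n₀ hn₀ L a hL (asIso (Q.map ι)).symm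
    haveI := h1
    obtain ⟨h3, h4⟩ := truncLE_props L a n₀ hL h2
    haveI : L.IsKInjective := CochainComplex.isKInjective_of_injective L a
    haveI : ∀ n, Injective ((L.truncLE n₀).X n) := h3
    haveI : (L.truncLE n₀).IsKInjective := CochainComplex.isKInjective_of_injective _ a
    obtain ⟨e, he⟩ := (CochainComplex.IsKInjective.quasiIso_iff (L.ιTruncLE n₀)).1 inferInstance
    exact ⟨L.truncLE n₀, a, n₀, ι ≫ e.inv, inferInstance, inferInstance, h3, inferInstance⟩

end derived

end Groth.Agent.Lib.InjAmp
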