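import Mathlib.Algebra.Homology.Embedding.CochainComplex
import Mathlib.Algebra.Homology.Embedding.ExtendHomology
import Mathlib.Algebra.Homology.Embedding.TruncLEHomology
import Mathlib.Algebra.Homology.QuasiIso
import Mathlib.Algebra.Homology.Refinements
import Mathlib.CategoryTheory.Abelian.Basic
import Mathlib.CategoryTheory.Abelian.Refinements

/-!
# Left resolutions of bounded above complexes by objects in a class `P`

If every object of an abelian category is a quotient of an object in `P`, every
`ℕ`-indexed chain complex `K` receives a termwise epimorphic quasi-isomorphism from a chain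
complex with terms in `P` (Stacks 05T6 / 13.15.4). We then transport this to `ℤ`-indexed
cochain complexes which are strictly `≤ a`.
-/

set_option autoImplicit false
universe v u
open CategoryTheory Limits

namespace Groth.Agent.Lib.LeftRes

variable {A : Type u} [Category.{v} A] [Abelian A] (P : A → Prop)
  (hP : ∀ X : A, ∃ (Y : A) (π : Y ⟶ X), P Y ∧ Epi π)

/-- chosen cover -/
noncomputable def cov (X : A) : A := (hP X).choose

/-- chosen cover map -/
noncomputable def covπ (X : A) : cov P hP X ⟶ X := (hP X).choose_spec.choose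

lemma cov_P (X : A) : P (cov P hP X) := (hP X).choose_spec.choose_spec.1

instance covπ_epi (X : A) : Epi (covπ P hP X) := (hP X).choose_spec.choose_spec.2

variable (K : ChainComplex A ℕ)

/-- state of the inductive construction -/
structure St (n : ℕ) where
  Q : A
  α : Q ⟶ K.X n
  Z : A
  i : Z ⟶ Q

variable {K}

/-- the next state -/
noncomputable def next {n : ℕ} (s : St K n) : St K (n + 1) where
  Q := cov P hP (pullback (s.i ≫ s.α) (K.d (n + 1) n))
  α := covπ P hP _ ≫ pullback.snd _ _
  Z := kernel (covπ P hP (pullback (s.i ≫ s.α) (K.d (n + 1) n)) ≫ pullback.fst _ _ ≫ s.i)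
  i := kernel.ι _

/-- the differential -/
noncomputable def dnext {n : ℕ} (s : St K n) : (next P hP s).Q ⟶ s.Q :=
  covπ P hP _ ≫ pullback.fst _ _ ≫ s.i

variable (K)

/-- the initial state -/
noncomputable def init : St K 0 where
  Q := cov P hP (K.X 0)
  α := covπ P hP _
  Z := cov P hP (K.X 0)
  i := 𝟙 _

/-- the sequence of states -/
noncomputable def seq : ∀ n : ℕ, St K n
  | 0 => init P hP K
  | n + 1 => next P hP (seq n)

lemma seq_succ (n : ℕ) : seq P hP K (n + 1) = next P hP (seq P hP K n) := rfl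

lemma seq_i_dnext (n : ℕ) : (seq P hP K (n + 1)).i ≫ dnext P hP (seq P hP K n) = 0 := by
  show kernel.ι (dnext P hP (seq P hP K n)) ≫ dnext P hP (seq P hP K n) = 0
  exact kernel.condition _

lemma dnext_comp (n : ℕ) :
    dnext P hP (seq P hP K (n + 1)) ≫ dnext P hP (seq P hP K n) = 0 := by
  have := seq_i_dnext P hP K n
  simp only [dnext, Category.assoc] at this ⊢
  rw [this, comp_zero, comp_zero]

/-- the resolving complex -/
noncomputable def Qc : ChainComplex A ℕ :=
  ChainComplex.of (fun n => (seq P hP K n).Q) (fun n => dnext P hP (seq P hP K n))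
    (dnext_comp P hP K)

lemma Qc_d (n : ℕ) : (Qc P hP K).d (n + 1) n = dnext P hP (seq P hP K n) := by
  dsimp [Qc]
  exact ChainComplex.of_d _ _ n

lemma dnext_α (n : ℕ) :
    dnext P hP (seq P hP K n) ≫ (seq P hP K n).α = (seq P hP K (n + 1)).α ≫ K.d (n + 1) n := by
  show (covπ P hP _ ≫ pullback.fst _ _ ≫ (seq P hP K n).i) ≫ (seq P hP K n).α =
    (covπ P hP _ ≫ pullback.snd _ _) ≫ K.d (n + 1) n
  simp only [Category.assoc]
  rw [pullback.condition]

/-- the resolution map -/
noncomputable def αc : Qc P hP K ⟶ K where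
  f n := (seq P hP K n).α
  comm' i j hij := by
    obtain rfl : j + 1 = i := hij
    rw [Qc_d]
    exact (dnext_α P hP K j).symm

lemma Qc_P (n : ℕ) : P ((Qc P hP K).X n) := by
  cases n with
  | zero => exact cov_P P hP _
  | succ n => exact cov_P P hP _

lemma next_zero : (ComplexShape.down ℕ).next 0 = 0 := by simp

lemma next_succ (n : ℕ) : (ComplexShape.down ℕ).next (n + 1) = n := by simp

/-- `(seq n).i` composed with the differential is zero -/
lemma seq_i_d (n : ℕ) :
    (seq P hP K n).i ≫ (Qc P hP K).d n ((ComplexShape.down ℕ).next n) = 0 := by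
  cases n with
  | zero =>
    rw [next_zero, (Qc P hP K).shape 0 0 (by simp)]
    exact comp_zero
  | succ n =>
    rw [next_succ, Qc_d]
    exact seq_i_dnext P hP K n

/-- `(seq n).i` is a kernel of the differential -/
lemma seq_i_lift (n : ℕ) {T : A} (x : T ⟶ (Qc P hP K).X n)
    (hx : x ≫ (Qc P hP K).d n ((ComplexShape.down ℕ).next n) = 0) :
    ∃ z : T ⟶ (seq P hP K n).Z, z ≫ (seq P hP K n).i = x := by
  cases n with
  | zero => exact ⟨x, Category.comp_id _⟩
  | succ n =>
    rw [next_succ, Qc_d] at hx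
    exact ⟨kernel.lift (dnext P hP (seq P hP K n)) x hx, kernel.lift_ι _ _ _⟩

/-- abbreviation for the pullback used at step `n` -/
noncomputable abbrev pb (n : ℕ) : A :=
  pullback ((seq P hP K n).i ≫ (seq P hP K n).α) (K.d (n + 1) n)

lemma seq_succ_α (n : ℕ) : (seq P hP K (n + 1)).α =
    covπ P hP (pb P hP K n) ≫ pullback.snd _ _ := rfl

lemma dnext_eq (n : ℕ) : dnext P hP (seq P hP K n) =
    covπ P hP (pb P hP K n) ≫ pullback.fst _ _ ≫ (seq P hP K n).i := rfl

lemma ih (n : ℕ) : Epi (seq P hP K n).α ∧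
    ∀ ⦃T : A⦄ (x : T ⟶ K.X n), x ≫ K.d n ((ComplexShape.down ℕ).next n) = 0 →
      ∃ (T' : A) (π : T' ⟶ T) (_ : Epi π) (z : T' ⟶ (seq P hP K n).Z),
        π ≫ x = z ≫ (seq P hP K n).i ≫ (seq P hP K n).α := by
  induction n with
  | zero =>
    refine ⟨covπ_epi P hP _, fun T x _ => ?_⟩
    obtain ⟨T', π, hπ, y, hy⟩ := surjective_up_to_refinements_of_epi (covπ P hP (K.X 0)) x
    refine ⟨T', π, hπ, y, ?_⟩
    show π ≫ x = y ≫ 𝟙 _ ≫ covπ P hP (K.X 0)
    rw [Category.id_comp]
    exact hy
  | succ n ihn =>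
    obtain ⟨_, h2⟩ := ihn
    constructor
    · rw [epi_iff_surjective_up_to_refinements]
      intro T x
      obtain ⟨T1, π1, hπ1, z, hz⟩ := h2 (x ≫ K.d (n + 1) n) (by simp)
      obtain ⟨T2, π2, hπ2, w, hw⟩ := surjective_up_to_refinements_of_epi
        (covπ P hP (pb P hP K n))
        (pullback.lift z (π1 ≫ x) (by rw [Category.assoc]; exact hz.symm))
      refine ⟨T2, π2 ≫ π1, epi_comp _ _, w, ?_⟩
      have h3 := congrArg (fun f => f ≫ pullback.snd _ _) hw
      simp only [Category.assoc, pullback.lift_snd] at h3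
      rw [seq_succ_α, Category.assoc]
      exact h3
    · intro T x hx
      rw [next_succ] at hx
      obtain ⟨T2, π2, hπ2, w, hw⟩ := surjective_up_to_refinements_of_epi
        (covπ P hP (pb P hP K n))
        (pullback.lift 0 x (by rw [zero_comp, hx]))
      have h3 := congrArg (fun f => f ≫ pullback.snd _ _) hw
      simp only [Category.assoc, pullback.lift_snd] at h3
      have h4 := congrArg (fun f => f ≫ pullback.fst _ _) hw
      simp only [Category.assoc, pullback.lift_fst, comp_zero] at h4
      have hw' : w ≫ dnext P hP (seq P hP K n) = 0 := by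
        rw [dnext_eq, ← reassoc_of% h4, zero_comp]
      refine ⟨T2, π2, hπ2, kernel.lift (dnext P hP (seq P hP K n)) w hw', ?_⟩
      show _ = kernel.lift (dnext P hP (seq P hP K n)) w hw' ≫
        kernel.ι (dnext P hP (seq P hP K n)) ≫ covπ P hP (pb P hP K n) ≫ pullback.snd _ _
      rw [kernel.lift_ι_assoc]
      exact h3

instance αc_epi (n : ℕ) : Epi ((αc P hP K).f n) := (ih P hP K n).1

instance αc_quasiIso : QuasiIso (αc P hP K) := by
  rw [quasiIso_iff]
  intro n
  rw [quasiIsoAt_iff_isIso_homologyMap]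
  have : Mono (HomologicalComplex.homologyMap (αc P hP K) n) := by
    rw [HomologicalComplex.mono_homologyMap_iff_up_to_refinements (αc P hP K) (n + 1) n
      ((ComplexShape.down ℕ).next n) (by simp) rfl]
    intro T x₂ hx₂ y₁ hy₁
    obtain ⟨z, hz⟩ := seq_i_lift P hP K n x₂ hx₂
    obtain ⟨T2, π2, hπ2, w, hw⟩ := surjective_up_to_refinements_of_epi
      (covπ P hP (pb P hP K n))
      (pullback.lift z y₁ (by
        rw [← hy₁, ← hz]
        exact (Category.assoc _ _ _).symm))
    refine ⟨T2, π2, hπ2, w, ?_⟩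
    have h4 := congrArg (fun f => f ≫ pullback.fst _ _ ≫ (seq P hP K n).i) hw
    simp only [Category.assoc, pullback.lift_fst_assoc] at h4
    rw [Qc_d, dnext_eq, ← hz]
    exact h4
  have : Epi (HomologicalComplex.homologyMap (αc P hP K) n) := by
    rw [HomologicalComplex.epi_homologyMap_iff_up_to_refinements (αc P hP K) (n + 1) n
      ((ComplexShape.down ℕ).next n) (by simp) rfl]
    intro T y₂ hy₂
    obtain ⟨T', π, hπ, z, hz⟩ := (ih P hP K n).2 y₂ hy₂
    refine ⟨T', π, hπ, z ≫ (seq P hP K n).i, ?_, 0, ?_⟩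
    · exact (Category.assoc _ _ _).trans
        ((congrArg (fun f => z ≫ f) (seq_i_d P hP K n)).trans comp_zero)
    · rw [zero_comp, add_zero, hz]
      exact (Category.assoc _ _ _).symm
  exact isIso_of_mono_of_epi _

include hP in
theorem exists_resolution_nat :
    ∃ (Q : ChainComplex A ℕ) (α : Q ⟶ K), (∀ n, P (Q.X n)) ∧ (∀ n, Epi (α.f n)) ∧ QuasiIso α :=
  ⟨Qc P hP K, αc P hP K, Qc_P P hP K, fun n => inferInstance, inferInstance⟩

section Replace

variable {ι : Type*} {c : ComplexShape ι} (Q : HomologicalComplex A c) (Y : ι → A)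
  (e : ∀ n, Y n ≅ Q.X n)

/-- replace the terms of a complex by isomorphic objects -/
@[simps]
def replaceX : HomologicalComplex A c where
  X := Y
  d i j := (e i).hom ≫ Q.d i j ≫ (e j).inv
  shape i j h := by simp [Q.shape i j h]
  d_comp_d' i j k _ _ := by simp

/-- the replaced complex is isomorphic to the original one -/
def replaceXIso : replaceX Q Y e ≅ Q :=
  HomologicalComplex.Hom.isoOfComponents e (by
    intro i j _
    change (e i).hom ≫ Q.d i j = ((e i).hom ≫ Q.d i j ≫ (e j).inv) ≫ (e j).hom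
    simp only [Category.assoc, Iso.inv_hom_id, Category.comp_id])

end Replace

include hP in
theorem exists_resolution_int (hP0 : ∃ Z : A, IsZero Z ∧ P Z)
    (K : CochainComplex A ℤ) (a : ℤ) [K.IsStrictlyLE a] :
    ∃ (Q : CochainComplex A ℤ) (α : Q ⟶ K), Q.IsStrictlyLE a ∧ (∀ n, P (Q.X n)) ∧
      (∀ n, Epi (α.f n)) ∧ QuasiIso α := by
  let e := ComplexShape.embeddingUpIntLE a
  obtain ⟨Qc, αc, hQP, hepi, hqi⟩ := exists_resolution_nat P hP (HomologicalComplex.truncLE' K e)
  let α' : Qc.extend e ⟶ K :=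
    HomologicalComplex.extendMap αc e ≫ (HomologicalComplex.truncLEIso K e).inv ≫
      HomologicalComplex.ιTruncLE K e
  have hY : ∀ n : ℤ, ∃ Y : A, P Y ∧ Nonempty (Y ≅ (Qc.extend e).X n) := by
    intro n
    by_cases hn : ∃ k, e.f k = n
    · obtain ⟨k, hk⟩ := hn
      exact ⟨Qc.X k, hQP k, ⟨(Qc.extendXIso e hk).symm⟩⟩
    · obtain ⟨Z, hZ, hPZ⟩ := hP0
      exact ⟨Z, hPZ, ⟨hZ.iso (Qc.isZero_extend_X e n (by simpa using hn))⟩⟩
  choose Y hPY hYe using hY
  let eY := fun n => (hYe n).some
  have hepi' : ∀ n, Epi ((HomologicalComplex.extendMap αc e).f n) := by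
    intro n
    by_cases hn : ∃ k, e.f k = n
    · obtain ⟨k, hk⟩ := hn
      rw [HomologicalComplex.extendMap_f αc e hk]
      infer_instance
    · exact (HomologicalComplex.isZero_extend_X _ e n (by simpa using hn)).epi _
  refine ⟨replaceX (Qc.extend e) Y eY, (replaceXIso (Qc.extend e) Y eY).hom ≫ α', ?_, hPY, ?_, ?_⟩
  · exact HomologicalComplex.isStrictlySupported_of_iso (replaceXIso (Qc.extend e) Y eY).symm e
  · intro n
    have : Epi (α'.f n) := by
      dsimp only [α']
      rw [HomologicalComplex.comp_f, HomologicalComplex.comp_f]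
      infer_instance
    rw [HomologicalComplex.comp_f]
    infer_instance
  · have : QuasiIso α' := by
      dsimp only [α']
      infer_instance
    infer_instance

end Groth.Agent.Lib.LeftRes
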