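import Mathlib
import Groth.Prelude.Def_DTen3
import Groth.Agent.Lib.EvalHom_helper2
import Groth.Agent.Lib.DMod1_helper6
import Groth.Agent.Lib.InjAmp_helper9
import Groth.Agent.Lib.LeftResolution_helper2
import Groth.Agent.Lib.DRingLT2_helper2
import Groth.Agent.Lib.BrutalTrunc_helper2
import Groth.Agent.Lib.KFlatMod2_helper2

/-!
# Cohomological amplitude of `⊗^L` and `RHom` on `D(A)`, detected by maps from the shifted units (helper2)

* `S i`, `J i = Q (S i)`: the ring placed in degree `i`.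
* `hom_J_eq_zero_of_isLE/isGE`, `isLE_of_hom_J`, `isGE_of_hom_J`: the t-structure is detected by maps out of
  the `J i`.
* `isLE_tensor`, `isGE_J_tensor`: amplitude of the derived tensor product.
* `isLE_RHom`, `isGE_RHom`: amplitude of `RHom`.
* `isIso_of_bijective_hom_J`: a morphism inducing bijections on `Hom(J i, -)` is an isomorphism.
-/

set_option autoImplicit false
universe u
open CategoryTheory Limits MonoidalCategory Pretriangulated Opposite

namespace Groth.Agent.Lib.Amp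

open DerivedCategory Groth.Agent.Lib.KFlatMod Groth.Agent.Lib.Devissage Groth.Agent.Lib.TenExact
  Groth.Agent.Lib.EvalTen Groth.Agent.Lib.WExact Groth.Agent.Lib.EvalHom DTen
attribute [local instance] HasDerivedCategory.standard

variable {A : Type u} [CommRing A]

/-! ### The ring placed in degree `i` -/

/-- `A` placed in degree `i` -/
noncomputable abbrev S (i : ℤ) : DRing.Cx A :=
  (HomologicalComplex.single (ModuleCat.{u} A) (ComplexShape.up ℤ) i).obj (ModuleCat.of A A)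

lemma isZero_S_X (i j : ℤ) (h : j ≠ i) : IsZero ((S (A := A) i).X j) :=
  HomologicalComplex.isZero_single_obj_X (ComplexShape.up ℤ) i _ j h

lemma free_S_X (i j : ℤ) : Module.Free A ((S (A := A) i).X j) := by
  by_cases h : j = i
  · subst h
    have e : (S (A := A) j).X j ≅ ModuleCat.of A A :=
      HomologicalComplex.singleObjXSelf (ComplexShape.up ℤ) j _
    exact Module.Free.of_equiv e.toLinearEquiv.symm
  · haveI : Subsingleton ((S (A := A) i).X j) :=
      ModuleCat.subsingleton_of_isZero (isZero_S_X i j h)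
    infer_instance

instance isStrictlyLE_S (i : ℤ) : (S (A := A) i).IsStrictlyLE i := by
  rw [CochainComplex.isStrictlyLE_iff]
  intro j hj
  exact isZero_S_X i j (by omega)

instance isStrictlyGE_S (i : ℤ) : (S (A := A) i).IsStrictlyGE i := by
  rw [CochainComplex.isStrictlyGE_iff]
  intro j hj
  exact isZero_S_X i j (by omega)

instance isKProjective_S (i : ℤ) : (S (A := A) i).IsKProjective := by
  haveI : ∀ n, Projective ((S (A := A) i).X n) := fun n => by
    haveI := free_S_X (A := A) i n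
    have hp : Module.Projective A ((S (A := A) i).X n) := Module.Projective.of_free
    exact (IsProjective.iff_projective ((S (A := A) i).X n)).1 hp
  exact CochainComplex.isKProjective_of_projective _ i

lemma kf_S (i : ℤ) : KF A (S (A := A) i) :=
  kf_of_vanishesAbove _ i (fun j hj => isZero_S_X i j (by omega)) (fun j => by
    haveI := free_S_X (A := A) i j
    infer_instance)

/-- `A[-i]` in `D(A)` -/
noncomputable abbrev J (i : ℤ) : Dual.D A := Q.obj (S i)

/-! ### The t-structure is detected by the `J i` -/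

lemma hom_J_eq_zero_of_isLE (Y : Dual.D A) (p i : ℤ) [Y.IsLE p] (h : p < i) (φ : J i ⟶ Y) :
    φ = 0 := by
  obtain ⟨Y₀, hY₀, ⟨e⟩⟩ := exists_iso_Q_obj_of_isLE Y p
  obtain ⟨g, hg⟩ := Groth.Agent.Lib.DMod_helper6.exists_Q_map_eq_of_isKProjective (φ ≫ e.hom)
  have hg0 : g = 0 := by
    apply HomologicalComplex.from_single_hom_ext
    exact (Y₀.isZero_of_isStrictlyLE p i h).eq_of_tgt _ _
  rw [hg0, Functor.map_zero] at hg
  rw [← cancel_mono e.hom, zero_comp]
  exact hg.symm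

lemma hom_J_eq_zero_of_isGE (Y : Dual.D A) (s i : ℤ) [Y.IsGE s] (h : i < s) (φ : J i ⟶ Y) :
    φ = 0 := by
  obtain ⟨Y₀, hY₀, ⟨e⟩⟩ := exists_iso_Q_obj_of_isGE Y s
  obtain ⟨g, hg⟩ := Groth.Agent.Lib.DMod_helper6.exists_Q_map_eq_of_isKProjective (φ ≫ e.hom)
  have hg0 : g = 0 := by
    apply HomologicalComplex.from_single_hom_ext
    exact (Y₀.isZero_of_isStrictlyGE s i h).eq_of_tgt _ _
  rw [hg0, Functor.map_zero] at hg
  rw [← cancel_mono e.hom, zero_comp]
  exact hg.symm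

lemma isZero_homology_of_hom_J (Z : Dual.D A) (i : ℤ) (h : ∀ φ : J i ⟶ Z, φ = 0) :
    IsZero ((homologyFunctor (ModuleCat.{u} A) i).obj Z) := by
  obtain ⟨Z₀, ⟨e⟩⟩ : ∃ Z₀ : DRing.Cx A, Nonempty (Q.obj Z₀ ≅ Z) :=
    ⟨Q.objPreimage Z, ⟨Q.objObjPreimageIso Z⟩⟩
  suffices hz : IsZero (Z₀.homology i) from
    hz.of_iso ((homologyFunctor _ i).mapIso e.symm ≪≫ (homologyFunctorFactors _ i).app Z₀)
  apply Groth.Agent.Lib.InjAmp.isZero_homology_of_homologyMap_cycMap
  obtain ⟨σ, hσ⟩ : ∃ σ : ((HomologicalComplex.single (ModuleCat.{u} A) (ComplexShape.up ℤ) i).obj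
      (Z₀.cycles i)).homology i ≅ Z₀.cycles i,
      ∀ (a : ModuleCat.of A A ⟶ Z₀.cycles i),
        (HomologicalComplex.singleObjHomologySelfIso (ComplexShape.up ℤ) i (ModuleCat.of A A)).inv ≫
          HomologicalComplex.homologyMap
            ((HomologicalComplex.single (ModuleCat.{u} A) (ComplexShape.up ℤ) i).map a) i =
          a ≫ σ.inv :=
    ⟨HomologicalComplex.singleObjHomologySelfIso (ComplexShape.up ℤ) i (Z₀.cycles i), fun a =>
      HomologicalComplex.singleObjHomologySelfIso_inv_naturality (ComplexShape.up ℤ) i a⟩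
  rw [← cancel_epi σ.inv, comp_zero]
  ext x
  obtain ⟨a, ha⟩ : ∃ a : ModuleCat.of A A ⟶ Z₀.cycles i, a.hom (1 : A) = x :=
    ⟨ModuleCat.ofHom (LinearMap.toSpanSingleton A _ x), by
      show (1 : A) • x = x
      exact one_smul _ _⟩
  have h0 : Q.map ((HomologicalComplex.single (ModuleCat.{u} A) (ComplexShape.up ℤ) i).map a ≫
      Groth.Agent.Lib.InjAmp.cycMap Z₀ i) = 0 := by
    rw [← cancel_mono e.hom, zero_comp]
    exact h _
  have h1 := Groth.Agent.Lib.InjAmp.homologyMap_eq_zero_of_Q_map_eq_zero _ h0 i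
  rw [HomologicalComplex.homologyMap_comp] at h1
  have h2 : a ≫ σ.inv ≫ HomologicalComplex.homologyMap (Groth.Agent.Lib.InjAmp.cycMap Z₀ i) i =
      0 := by
    rw [← Category.assoc, ← hσ a, Category.assoc, h1, comp_zero]
  have h3 := congrArg (fun f => f.hom (1 : A)) h2
  simp only [ModuleCat.hom_comp, LinearMap.comp_apply, ha] at h3
  exact h3

lemma isLE_of_hom_J (Z : Dual.D A) (p : ℤ) (h : ∀ i : ℤ, p < i → ∀ φ : J i ⟶ Z, φ = 0) :
    Z.IsLE p := by
  rw [isLE_iff]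
  intro i hi
  exact isZero_homology_of_hom_J Z i (h i hi)

lemma isGE_of_hom_J (Z : Dual.D A) (s : ℤ) (h : ∀ i : ℤ, i < s → ∀ φ : J i ⟶ Z, φ = 0) :
    Z.IsGE s := by
  rw [isGE_iff]
  intro i hi
  exact isZero_homology_of_hom_J Z i (h i hi)

lemma isZero_of_hom_J (Z : Dual.D A) (h : ∀ (i : ℤ) (φ : J i ⟶ Z), φ = 0) : IsZero Z := by
  haveI := isLE_of_hom_J Z 0 (fun i _ => h i)
  haveI := isGE_of_hom_J Z 1 (fun i _ => h i)
  rw [IsZero.iff_id_eq_zero]
  exact TStructure.t.zero (𝟙 Z) 0 1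

/-! ### Amplitude of the derived tensor product -/

variable [HasLTen A]

theorem isLE_tensor (X Y : Dual.D A) (p q : ℤ) [X.IsLE p] [Y.IsLE q] :
    ((LTen₂ A).obj (X, Y)).IsLE (p + q) := by
  obtain ⟨X₀, hX₀, ⟨eX⟩⟩ := exists_iso_Q_obj_of_isLE X p
  obtain ⟨Y₀, hY₀, ⟨eY⟩⟩ := exists_iso_Q_obj_of_isLE Y q
  obtain ⟨X₁, α, hX₁, hfree, _, hα⟩ := Groth.Agent.Lib.LeftRes.exists_resolution_int
    (fun M : ModuleCat.{u} A => Module.Free A M) (resClass A).cover (resClass A).zero X₀ p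
  have hkf : KF A X₁ := kf_of_vanishesAbove X₁ p (fun i hi => X₁.isZero_of_isStrictlyLE p i hi)
    (fun i => by haveI := hfree i; infer_instance)
  haveI : IsIso (Q.map α) := (isIso_Q_map_iff_quasiIso (C := ModuleCat.{u} A) α).2 hα
  have e1 : X ≅ Q.obj X₁ := eX ≪≫ (asIso (Q.map α)).symm
  haveI := Groth.Agent.Lib.LTen2.isIso_ε_of_kf_left A X₁ Y₀ hkf
  have e2 : (LTen₂ A).obj (X, Y) ≅ Q.obj (X₁ ⊗ Y₀) :=
    (LTen₂ A).mapIso (Iso.prod e1 eY) ≪≫ asIso ((ε A).app (X₁, Y₀))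
  haveI : (X₁ ⊗ Y₀).IsStrictlyLE (p + q) := by
    rw [CochainComplex.isStrictlyLE_iff]
    exact Groth.Agent.Lib.DRingLT.vanishesAbove_tensor X₁ Y₀ p q
      (fun i hi => X₁.isZero_of_isStrictlyLE p i hi) (fun i hi => Y₀.isZero_of_isStrictlyLE q i hi)
  exact TStructure.t.isLE_of_iso e2.symm (p + q)

theorem isGE_J_tensor (i n : ℤ) (L : Dual.D A) [L.IsGE n] :
    ((LTen₂ A).obj (J i, L)).IsGE (i + n) := by
  obtain ⟨L₀, hL₀, ⟨eL⟩⟩ := exists_iso_Q_obj_of_isGE L n
  haveI := Groth.Agent.Lib.LTen2.isIso_ε_of_kf_left A (S i) L₀ (kf_S i)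
  have e2 : (LTen₂ A).obj (J i, L) ≅ Q.obj (S i ⊗ L₀) :=
    (LTen₂ A).mapIso (Iso.prod (Iso.refl (J i)) eL) ≪≫ asIso ((ε A).app (S i, L₀))
  haveI : (S (A := A) i ⊗ L₀).IsStrictlyGE (i + n) := by
    rw [CochainComplex.isStrictlyGE_iff]
    intro k hk
    apply Groth.Agent.Lib.DRingLT.isZero_tensor_X
    intro p q hpq
    by_cases hp : p = i
    · exact Or.inr (L₀.isZero_of_isStrictlyGE n q (by omega))
    · exact Or.inl (isZero_S_X i p hp)
  exact TStructure.t.isGE_of_iso e2.symm (i + n)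

instance isLE_J (i : ℤ) : (J (A := A) i).IsLE i := by
  dsimp only [J]
  infer_instance

theorem isLE_J_tensor (i p : ℤ) (X : Dual.D A) [X.IsLE p] :
    ((LTen₂ A).obj (J i, X)).IsLE (i + p) := isLE_tensor (J i) X i p

/-! ### Amplitude of `RHom` -/

variable [HasLTen₃ A] [IsSymMonoidal A] [HasRHom A]

/-- injective amplitude `≤ d` -/
def InjLE (M : Dual.D A) (d : ℤ) : Prop :=
  ∃ (J₀ : DRing.Cx A) (c : ℤ), DRing.VanishesOutside J₀ c d ∧ DRing.TermwiseInjective J₀ ∧
    Nonempty (DRing.toD J₀ ≅ M)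

omit [HasLTen A] [HasLTen₃ A] [IsSymMonoidal A] [HasRHom A] in
lemma hom_eq_zero_of_injLE (X M : Dual.D A) (s d : ℤ) [X.IsGE s] (hsd : d < s) (hM : InjLE M d)
    (φ : X ⟶ M) : φ = 0 := by
  obtain ⟨J₀, c, hJ, hinj, ⟨e⟩⟩ := hM
  obtain ⟨X₀, hX₀, ⟨eX⟩⟩ := exists_iso_Q_obj_of_isGE X s
  haveI : J₀.IsStrictlyGE c := by
    rw [CochainComplex.isStrictlyGE_iff]
    intro j hj
    exact hJ j (Or.inl hj)
  haveI : ∀ n, Injective (J₀.X n) := fun n => by
    haveI := hinj n
    exact Module.injective_object_of_injective_module A (J₀.X n)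
  haveI : J₀.IsKInjective := CochainComplex.isKInjective_of_injective J₀ c
  obtain ⟨g, hg⟩ := Groth.Agent.Lib.DMod_helper6.exists_Q_map_eq_of_isKInjective
    (eX.inv ≫ φ ≫ e.inv)
  have hg0 : g = 0 := by
    ext j : 1
    by_cases hj : j < s
    · exact (X₀.isZero_of_isStrictlyGE s j hj).eq_of_src _ _
    · exact (hJ j (Or.inr (by omega))).eq_of_tgt _ _
  rw [hg0, Functor.map_zero] at hg
  have h1 : φ ≫ e.inv = 0 := by
    rw [← cancel_epi eX.inv, comp_zero]
    exact hg.symm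
  rw [← cancel_mono e.inv, zero_comp]
  exact h1

lemma eq_zero_of_adjunct {W X Y : Dual.D A} (φ : W ⟶ (RHomR A X).obj Y)
    (h : ten φ (𝟙 X) ≫ ev X Y = 0) : φ = 0 := by
  apply (rhomHomEquiv W X Y).symm.injective
  rw [adjunct_eq, adjunct_eq, h, ten_zero_left, zero_comp]

theorem isLE_RHom (L M : Dual.D A) (n d : ℤ) [L.IsGE n] (hM : InjLE M d) :
    ((RHomR A L).obj M).IsLE (d - n) := by
  apply isLE_of_hom_J
  intro i hi φ
  apply eq_zero_of_adjunct
  haveI := isGE_J_tensor i n L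
  exact hom_eq_zero_of_injLE _ M (i + n) d (by omega) hM _

theorem isGE_RHom (C L : Dual.D A) (p n : ℤ) [C.IsLE p] [L.IsGE n] :
    ((RHomR A C).obj L).IsGE (n - p) := by
  apply isGE_of_hom_J
  intro i hi φ
  apply eq_zero_of_adjunct
  haveI := isLE_J_tensor i p C
  exact TStructure.t.zero _ (i + p) n (by omega)

end Groth.Agent.Lib.Amp
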