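import Mathlib
import Groth.Prelude.Def_DRing3

/-!
# Derived complete modules, concretely (helper9)

`DRing.IsDerivedComplete I (Dual.inD A M)` is translated into the concrete condition
`Conc f M` for all `f ∈ I`: the map `(xᵢ) ↦ (xᵢ - f xᵢ₊₁)` on `ℕ → M` is bijective.
-/

set_option autoImplicit false
universe u
attribute [local instance] HasDerivedCategory.standard
open CategoryTheory Polynomial

namespace DerComp9

variable {A : Type u} [CommRing A]

/-- Concrete derived `f`-completeness of a module. -/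
def Conc (f : A) (M : Type u) [AddCommGroup M] [Module A M] : Prop :=
  (∀ x : ℕ → M, (∀ i, x i = f • x (i + 1)) → x 0 = 0) ∧
  (∀ m : ℕ → M, ∃ x : ℕ → M, ∀ i, x i - f • x (i + 1) = m i)

section SES
variable (f : A)

theorem eq_zero_of_mul_eq_zero (p : A[X]) (h : (C f * X - 1) * p = 0) : p = 0 := by
  have hu : IsUnit ((C f * X - 1 : A[X]) : PowerSeries A) := by
    rw [PowerSeries.isUnit_iff_constantCoeff]
    simp
  have h2 : ((C f * X - 1 : A[X]) : PowerSeries A) * (p : PowerSeries A) = 0 := by
    rw [← Polynomial.coe_mul, h, Polynomial.coe_zero]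
  have := (hu.mul_right_eq_zero).mp h2
  exact_mod_cast this

/-- the short complex `0 → A[X] → A[X] → A_f → 0`. -/
noncomputable def S : ShortComplex (ModuleCat.{u} A) :=
  ShortComplex.mk
    (ModuleCat.ofHom (LinearMap.mulLeft A (C f * X - 1 : A[X])))
    (ModuleCat.ofHom ((Localization.awayEquivAdjoin f).symm.toLinearMap ∘ₗ
      (AdjoinRoot.mkₐ (C f * X - 1 : A[X])).toLinearMap))
    (by
      apply ModuleCat.hom_ext
      apply LinearMap.ext
      intro p
      show (Localization.awayEquivAdjoin f).symm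
        (AdjoinRoot.mk (C f * X - 1 : A[X]) ((C f * X - 1) * p)) = 0
      rw [AdjoinRoot.mk_eq_zero.mpr (dvd_mul_right _ _), map_zero])

theorem S_f_apply (p : A[X]) : (S f).f.hom p = (C f * X - 1) * p := rfl

theorem S_g_apply (p : A[X]) : (S f).g.hom p =
    (Localization.awayEquivAdjoin f).symm (AdjoinRoot.mk (C f * X - 1 : A[X]) p) := rfl

theorem S_shortExact : (S f).ShortExact := by
  refine ShortComplex.ShortExact.mk' ?_ ?_ ?_
  · rw [ShortComplex.moduleCat_exact_iff]
    intro p hp
    have hp' : (Localization.awayEquivAdjoin f).symm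
        (AdjoinRoot.mk (C f * X - 1 : A[X]) p) = 0 := hp
    rw [EmbeddingLike.map_eq_zero_iff, AdjoinRoot.mk_eq_zero] at hp'
    obtain ⟨q, hq⟩ := hp'
    exact ⟨q, hq.symm⟩
  · rw [ModuleCat.mono_iff_injective]
    intro (p : A[X]) (q : A[X]) hpq
    have h1 : (C f * X - 1) * p = (C f * X - 1) * q := hpq
    have h2 : (C f * X - 1) * (p - q) = 0 := by rw [mul_sub, h1, sub_self]
    exact sub_eq_zero.mp (eq_zero_of_mul_eq_zero f _ h2)
  · rw [ModuleCat.epi_iff_surjective]
    intro y
    obtain ⟨p, hp⟩ := AdjoinRoot.mk_surjective ((Localization.awayEquivAdjoin f) y)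
    refine ⟨p, ?_⟩
    show (Localization.awayEquivAdjoin f).symm (AdjoinRoot.mk (C f * X - 1 : A[X]) p) = y
    rw [hp]; simp

instance : Projective (S f).X₁ :=
  ModuleCat.projective_of_free (M := ModuleCat.of A A[X]) (Polynomial.basisMonomials A)

instance : Projective (S f).X₂ :=
  ModuleCat.projective_of_free (M := ModuleCat.of A A[X]) (Polynomial.basisMonomials A)

end SES

section ExtLemmas
variable (f : A) (M : Type u) [AddCommGroup M] [Module A M]

open Abelian

/-- linear map `A[X] → M` with `X^i ↦ x i`. -/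
noncomputable def seqMap (x : ℕ → M) : A[X] →ₗ[A] M :=
  Polynomial.lsum (fun i => LinearMap.toSpanSingleton A M (x i))

theorem seqMap_monomial (x : ℕ → M) (n : ℕ) (a : A) :
    seqMap M x (monomial n a) = a • x n := by
  simp [seqMap, Polynomial.lsum, Polynomial.sum_monomial_index]

theorem mul_monomial (n : ℕ) (a : A) :
    (C f * X - 1 : A[X]) * monomial n a = monomial (n + 1) (f * a) - monomial n a := by
  rw [sub_mul, one_mul, C_mul_X_eq_monomial, monomial_mul_monomial, add_comm 1 n]

theorem monomial_eq_smul (n : ℕ) (a : A) : (monomial n a : A[X]) = a • monomial n 1 := by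
  rw [smul_monomial, smul_eq_mul, mul_one]

theorem comp_f_apply_monomial (φ : A[X] →ₗ[A] M) (n : ℕ) (a : A) :
    φ ((C f * X - 1) * monomial n a) =
      a • (f • φ (monomial (n + 1) 1) - φ (monomial n 1)) := by
  rw [mul_monomial, map_sub, monomial_eq_smul (n + 1) (f * a), monomial_eq_smul n a,
    map_smul, map_smul, smul_sub, mul_comm f a, mul_smul]

theorem seqMap_comp_eq_zero (x : ℕ → M) (hx : ∀ i, x i = f • x (i + 1)) (p : A[X]) :
    seqMap M x ((C f * X - 1) * p) = 0 := by
  have : (seqMap M x) ∘ₗ (LinearMap.mulLeft A (C f * X - 1 : A[X])) = 0 := by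
    apply Polynomial.lhom_ext'
    intro n
    apply LinearMap.ext
    intro a
    simp only [LinearMap.comp_apply, LinearMap.mulLeft_apply, LinearMap.zero_apply]
    rw [comp_f_apply_monomial, seqMap_monomial, seqMap_monomial, one_smul, one_smul, ← hx n,
      sub_self, smul_zero]
  exact LinearMap.congr_fun this p

theorem concA_of_ext0 (h0 : Subsingleton (Ext.{u} (S f).X₃ (ModuleCat.of A M) 0))
    (x : ℕ → M) (hx : ∀ i, x i = f • x (i + 1)) : x 0 = 0 := by
  have hcomp : (S f).f ≫ ModuleCat.ofHom (seqMap M x) = 0 := by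
    apply ModuleCat.hom_ext
    apply LinearMap.ext
    intro (p : A[X])
    exact seqMap_comp_eq_zero f M x hx p
  have h1 : (Ext.mk₀ (S f).f).comp (Ext.mk₀ (ModuleCat.ofHom (seqMap M x))) (zero_add 0) = 0 := by
    rw [Ext.mk₀_comp_mk₀, hcomp, Ext.mk₀_zero]
  obtain ⟨x₁, hx₁⟩ := Ext.contravariant_sequence_exact₂ (S_shortExact f) (ModuleCat.of A M) _ h1
  have hx₁0 : x₁ = 0 := Subsingleton.elim _ _
  rw [hx₁0, Ext.comp_zero] at hx₁
  have h2 : ModuleCat.ofHom (seqMap M x) = 0 := (Ext.mk₀_eq_zero_iff _).mp hx₁.symm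
  have h3 : seqMap M x (monomial 0 (1 : A)) = 0 := by
    have := congrArg (fun g => g.hom (monomial 0 (1 : A) : A[X])) h2
    simpa using this
  rwa [seqMap_monomial, one_smul] at h3

theorem ext0_of_concA (ha : ∀ x : ℕ → M, (∀ i, x i = f • x (i + 1)) → x 0 = 0) :
    Subsingleton (Ext.{u} (S f).X₃ (ModuleCat.of A M) 0) := by
  refine subsingleton_of_forall_eq 0 fun e => ?_
  obtain ⟨θ, rfl⟩ := (Ext.mk₀_bijective _ _).surjective e
  rw [Ext.mk₀_eq_zero_iff]
  let χ : A[X] →ₗ[A] M := ((S f).g ≫ θ).hom
  have hχ : ∀ p : A[X], χ ((C f * X - 1) * p) = 0 := by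
    intro p
    have h2 : ((S f).f ≫ (S f).g ≫ θ) = 0 := by
      rw [← Category.assoc, (S f).zero, Limits.zero_comp]
    have := congrArg (fun g => g.hom p) h2
    exact this
  have hx : ∀ i, χ (monomial i 1) = f • χ (monomial (i + 1) 1) := by
    intro i
    have := hχ (monomial i 1)
    rw [comp_f_apply_monomial, one_smul, sub_eq_zero] at this
    exact this.symm
  have hx0 : ∀ j, χ (monomial j 1) = 0 := fun j => by
    have := ha (fun i => χ (monomial (i + j) 1)) (fun i => by
      have h := hx (i + j)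
      rw [show i + j + 1 = i + 1 + j by omega] at h
      exact h)
    simpa using this
  have hχ0 : χ = 0 := by
    apply Polynomial.lhom_ext'
    intro n
    apply LinearMap.ext
    intro a
    simp only [LinearMap.comp_apply, LinearMap.zero_apply]
    rw [monomial_eq_smul, map_smul, hx0, smul_zero]
  have hgθ : (S f).g ≫ θ = 0 := ModuleCat.hom_ext hχ0
  haveI := (S_shortExact f).epi_g
  exact (cancel_epi (S f).g).mp (by rw [hgθ, Limits.comp_zero])

theorem concB_of_ext1 (h1 : Subsingleton (Ext.{u} (S f).X₃ (ModuleCat.of A M) 1))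
    (m : ℕ → M) : ∃ x : ℕ → M, ∀ i, x i - f • x (i + 1) = m i := by
  obtain ⟨x₂, hx₂⟩ := Ext.contravariant_sequence_exact₁ (S_shortExact f) (ModuleCat.of A M)
    (Ext.mk₀ (ModuleCat.ofHom (seqMap M m))) (n₁ := 1) (by norm_num) (Subsingleton.elim _ _)
  obtain ⟨ψ, rfl⟩ := (Ext.mk₀_bijective _ _).surjective x₂
  rw [Ext.mk₀_comp_mk₀] at hx₂
  have h2 : (S f).f ≫ ψ = ModuleCat.ofHom (seqMap M m) := (Ext.mk₀_bijective _ _).injective hx₂
  let ψ' : A[X] →ₗ[A] M := ψ.hom
  have h3 : ∀ p : A[X], ψ' ((C f * X - 1) * p) = seqMap M m p := fun p => by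
    have := congrArg (fun g => g.hom p) h2
    exact this
  refine ⟨fun i => - ψ' (monomial i 1), fun i => ?_⟩
  have := h3 (monomial i 1)
  rw [comp_f_apply_monomial, one_smul, seqMap_monomial, one_smul] at this
  rw [← this, smul_neg]; abel

theorem ext1_of_concB (hb : ∀ m : ℕ → M, ∃ x : ℕ → M, ∀ i, x i - f • x (i + 1) = m i) :
    Subsingleton (Ext.{u} (S f).X₃ (ModuleCat.of A M) 1) := by
  refine subsingleton_of_forall_eq 0 fun e => ?_
  have h0 : (Ext.mk₀ (S f).g).comp e (zero_add 1) = 0 := Ext.eq_zero_of_projective (n := 0) _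
  obtain ⟨x₁, hx₁⟩ := Ext.contravariant_sequence_exact₃ (S_shortExact f) (ModuleCat.of A M) e h0
    (n₀ := 0) (by norm_num)
  obtain ⟨φ, rfl⟩ := (Ext.mk₀_bijective _ _).surjective x₁
  let φ' : A[X] →ₗ[A] M := φ.hom
  obtain ⟨x, hx⟩ := hb (fun i => φ' (monomial i 1))
  have hlin : (seqMap M (fun i => - x i)) ∘ₗ (LinearMap.mulLeft A (C f * X - 1 : A[X])) = φ' := by
    apply Polynomial.lhom_ext'
    intro n; apply LinearMap.ext; intro a
    simp only [LinearMap.comp_apply, LinearMap.mulLeft_apply]
    rw [comp_f_apply_monomial, seqMap_monomial, seqMap_monomial, one_smul, one_smul,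
      monomial_eq_smul n a, map_smul, ← hx n, smul_neg]
    congr 1; abel
  have hfac : (S f).f ≫ ModuleCat.ofHom (seqMap M (fun i => - x i)) = φ :=
    ModuleCat.hom_ext hlin
  rw [← hx₁, ← hfac, ← Ext.mk₀_comp_mk₀]
  exact (S_shortExact f).extClass_comp_assoc _

theorem ext_succ_succ (k : ℕ) :
    Subsingleton (Ext.{u} (S f).X₃ (ModuleCat.of A M) (k + 2)) := by
  refine subsingleton_of_forall_eq 0 fun e => ?_
  have h0 : (Ext.mk₀ (S f).g).comp e (zero_add (k + 2)) = 0 :=
    Ext.eq_zero_of_projective (n := k + 1) _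
  obtain ⟨x₁, hx₁⟩ := Ext.contravariant_sequence_exact₃ (S_shortExact f) (ModuleCat.of A M) e h0
    (n₀ := k + 1) (by omega)
  have : x₁ = 0 := Ext.eq_zero_of_projective (n := k) x₁
  rw [← hx₁, this, Ext.comp_zero]

end ExtLemmas

section Main
variable (I : Ideal A) (M : Type u) [AddCommGroup M] [Module A M]
open Abelian

theorem conc_of_isDerivedComplete (hc : DRing.IsDerivedComplete I (Dual.inD A M))
    (f : A) (hf : f ∈ I) : Conc f M := by
  have e0 : Subsingleton (Ext.{u} (S f).X₃ (ModuleCat.of A M) 0) :=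
    (Ext.homEquiv (X := (S f).X₃) (Y := ModuleCat.of A M) (n := 0)).subsingleton_congr.mpr
      (hc f hf ((0 : ℕ) : ℤ))
  have e1 : Subsingleton (Ext.{u} (S f).X₃ (ModuleCat.of A M) 1) :=
    (Ext.homEquiv (X := (S f).X₃) (Y := ModuleCat.of A M) (n := 1)).subsingleton_congr.mpr
      (hc f hf ((1 : ℕ) : ℤ))
  exact ⟨concA_of_ext0 f M e0, concB_of_ext1 f M e1⟩

theorem isDerivedComplete_of_conc (h : ∀ f ∈ I, Conc f M) :
    DRing.IsDerivedComplete I (Dual.inD A M) := by
  intro f hf n
  rcases lt_or_ge n 0 with hn | hn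
  · refine subsingleton_of_forall_eq 0 fun φ => ?_
    haveI : DerivedCategory.TStructure.t.IsGE ((Dual.inD A M)⟦n⟧) (-n) :=
      DerivedCategory.TStructure.t.isGE_shift (Dual.inD A M) 0 n (-n) (by omega)
    exact DerivedCategory.TStructure.t.zero φ 0 (-n) (by omega)
  · obtain ⟨k, rfl⟩ := Int.eq_ofNat_of_zero_le hn
    refine (Ext.homEquiv (X := (S f).X₃) (Y := ModuleCat.of A M)
      (n := k)).subsingleton_congr.mp ?_
    match k with
    | 0 => exact ext0_of_concA f M (h f hf).1
    | 1 => exact ext1_of_concB f M (h f hf).2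
    | (k + 2) => exact ext_succ_succ f M k

theorem isDerivedComplete_iff :
    DRing.IsDerivedComplete I (Dual.inD A M) ↔ ∀ f ∈ I, Conc f M :=
  ⟨fun hc f hf => conc_of_isDerivedComplete I M hc f hf, isDerivedComplete_of_conc I M⟩

end Main

section Concrete
variable {f : A} {M : Type u} [AddCommGroup M] [Module A M]

theorem Conc.all_zero (h : Conc f M) (x : ℕ → M) (hx : ∀ i, x i = f • x (i + 1)) (j : ℕ) :
    x j = 0 := by
  have := h.1 (fun i => x (i + j)) (fun i => by
    have h' := hx (i + j)
    rw [show i + j + 1 = i + 1 + j by omega] at h'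
    exact h')
  simpa using this

theorem sol_eq_sum (x m : ℕ → M) (hx : ∀ i, x i - f • x (i + 1) = m i) (j K : ℕ) :
    x j = (∑ k ∈ Finset.range K, f ^ k • m (j + k)) + f ^ K • x (j + K) := by
  induction K with
  | zero => simp
  | succ K ih =>
    have h1 : x (j + K) = m (j + K) + f • x (j + K + 1) := by rw [← hx (j + K)]; abel
    rw [Finset.sum_range_succ, ih, h1, smul_add, pow_succ, mul_smul, ← add_assoc j K 1]
    abel

theorem Conc.quotient (N : Submodule A M) (hM : Conc f M)
    (hN : ∀ w : ℕ → M, (∀ i, w i ∈ N) →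
      ∃ y : ℕ → M, (∀ i, y i ∈ N) ∧ ∀ i, y i - f • y (i + 1) = w i) :
    Conc f (M ⧸ N) := by
  constructor
  · intro x hx
    choose x' hx' using fun i => Submodule.Quotient.mk_surjective N (x i)
    have hw : ∀ i, x' i - f • x' (i + 1) ∈ N := by
      intro i
      rw [← Submodule.Quotient.mk_eq_zero N, Submodule.Quotient.mk_sub,
        Submodule.Quotient.mk_smul, hx', hx', ← hx i, sub_self]
    obtain ⟨y, hyN, hy⟩ := hN _ hw
    have hz : ∀ i, x' i - y i = f • (x' (i + 1) - y (i + 1)) := by
      intro i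
      have h1 := hy i
      rw [smul_sub]
      have h2 : x' i - y i - (f • x' (i + 1) - f • y (i + 1)) =
          (x' i - f • x' (i + 1)) - (y i - f • y (i + 1)) := by abel
      rw [← sub_eq_zero, h2, h1, sub_self]
    have hz0 := hM.1 (fun i => x' i - y i) hz
    have h0 : x' 0 = y 0 := sub_eq_zero.mp hz0
    rw [← hx' 0, Submodule.Quotient.mk_eq_zero, h0]
    exact hyN 0
  · intro m
    choose m' hm' using fun i => Submodule.Quotient.mk_surjective N (m i)
    obtain ⟨x, hx⟩ := hM.2 m'
    refine ⟨fun i => Submodule.Quotient.mk (x i), fun i => ?_⟩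
    rw [← Submodule.Quotient.mk_smul, ← Submodule.Quotient.mk_sub, hx i, hm']

variable {N : Type u} [AddCommGroup N] [Module A N]

theorem Conc.range (u : M →ₗ[A] N) (hM : Conc f M) (hN : Conc f N) :
    Conc f (LinearMap.range u) := by
  constructor
  · intro x hx
    have := hN.1 (fun i => (x i : N)) (fun i => by
      have := congrArg Subtype.val (hx i)
      simpa using this)
    exact Subtype.ext this
  · intro m
    choose m' hm' using fun i => (m i).2
    obtain ⟨x', hx'⟩ := hM.2 m'
    refine ⟨fun i => ⟨u (x' i), ⟨_, rfl⟩⟩, fun i => Subtype.ext ?_⟩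
    simp only [Submodule.coe_sub, Submodule.coe_smul]
    rw [← map_smul, ← map_sub, hx' i, hm']

theorem Conc.ker (u : M →ₗ[A] N) (hM : Conc f M) (hN : Conc f N) :
    Conc f (LinearMap.ker u) := by
  constructor
  · intro x hx
    have := hM.1 (fun i => (x i : M)) (fun i => by
      have := congrArg Subtype.val (hx i)
      simpa using this)
    exact Subtype.ext this
  · intro m
    obtain ⟨x, hx⟩ := hM.2 (fun i => (m i : M))
    have hux : ∀ j, u (x j) = 0 := by
      apply hN.all_zero (fun i => u (x i))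
      intro i
      have := congrArg u (hx i)
      rw [map_sub, map_smul, LinearMap.mem_ker.mp (m i).2, sub_eq_zero] at this
      exact this
    refine ⟨fun i => ⟨x i, LinearMap.mem_ker.mpr (hux i)⟩, fun i => Subtype.ext ?_⟩
    simp only [Submodule.coe_sub, Submodule.coe_smul]
    exact hx i

theorem Conc.coker (u : M →ₗ[A] N) (hM : Conc f M) (hN : Conc f N) :
    Conc f (N ⧸ LinearMap.range u) := by
  apply Conc.quotient _ hN
  intro w hw
  choose w' hw' using hw
  obtain ⟨y, hy⟩ := hM.2 w'
  exact ⟨fun i => u (y i), fun i => ⟨_, rfl⟩, fun i => by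
    rw [← map_smul, ← map_sub, hy i, hw']⟩

theorem Conc.eq_zero_of_divisible (h : Conc f M) (hdiv : ∀ m : M, ∃ m', m = f • m') (m : M) :
    m = 0 := by
  choose g hg using hdiv
  let x : ℕ → M := fun i => Nat.rec m (fun _ y => g y) i
  have hx : ∀ i, x i = f • x (i + 1) := fun i => hg (x i)
  exact h.1 x hx

/-- derived Nakayama. -/
theorem subsingleton_of_smul_top_eq_top (s : Finset A) :
    ∀ (M : Type u) [AddCommGroup M] [Module A M], (∀ f ∈ s, Conc f M) →
      (Ideal.span (s : Set A)) • (⊤ : Submodule A M) = ⊤ → Subsingleton M := by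
  classical
  induction s using Finset.induction_on with
  | empty =>
    intro M _ _ _ h
    simp only [Finset.coe_empty, Ideal.span_empty, Submodule.bot_smul] at h
    haveI := subsingleton_of_bot_eq_top h
    exact (Submodule.subsingleton_iff A).mp inferInstance
  | insert g s hg ih =>
    intro M _ _ hc htop
    have hM' : Subsingleton (M ⧸ LinearMap.range (LinearMap.lsmul A M g)) := by
      apply ih (M ⧸ LinearMap.range (LinearMap.lsmul A M g))
      · intro f hf
        exact Conc.coker _ (hc f (Finset.mem_insert_of_mem hf))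
          (hc f (Finset.mem_insert_of_mem hf))
      · rw [eq_top_iff]
        rintro x -
        obtain ⟨m, rfl⟩ := Submodule.Quotient.mk_surjective _ x
        have hm : m ∈ (Ideal.span ((insert g s : Finset A) : Set A)) • (⊤ : Submodule A M) := by
          rw [htop]; trivial
        refine Submodule.smul_induction_on
          (p := fun m => (Submodule.Quotient.mk m : M ⧸ LinearMap.range (LinearMap.lsmul A M g)) ∈
            (Ideal.span (s : Set A)) • (⊤ : Submodule A _)) hm ?_ ?_
        · intro r hr n _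
          rw [Finset.coe_insert, Ideal.mem_span_insert] at hr
          obtain ⟨a, r', hr', rfl⟩ := hr
          have h0 : (Submodule.Quotient.mk ((a * g) • n) :
              M ⧸ LinearMap.range (LinearMap.lsmul A M g)) = 0 := by
            rw [Submodule.Quotient.mk_eq_zero]
            exact ⟨a • n, by simp [mul_smul, smul_comm g a n]⟩
          have h1 : (Submodule.Quotient.mk ((a * g + r') • n) :
              M ⧸ LinearMap.range (LinearMap.lsmul A M g)) = r' • Submodule.Quotient.mk n := by
            rw [add_smul, Submodule.Quotient.mk_add, h0, zero_add, Submodule.Quotient.mk_smul]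
          show (Submodule.Quotient.mk ((a * g + r') • n) :
              M ⧸ LinearMap.range (LinearMap.lsmul A M g)) ∈ _
          rw [h1]
          exact Submodule.smul_mem_smul hr' Submodule.mem_top
        · intro x y hx hy
          show (Submodule.Quotient.mk (x + y) :
              M ⧸ LinearMap.range (LinearMap.lsmul A M g)) ∈ _
          rw [Submodule.Quotient.mk_add]; exact Submodule.add_mem _ hx hy
    have hdiv : ∀ m : M, ∃ m', m = g • m' := by
      intro m
      have : (Submodule.Quotient.mk m : M ⧸ LinearMap.range (LinearMap.lsmul A M g)) = 0 :=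
        Subsingleton.elim _ _
      rw [Submodule.Quotient.mk_eq_zero] at this
      obtain ⟨m', hm'⟩ := this
      exact ⟨m', hm'.symm⟩
    have hz := Conc.eq_zero_of_divisible (hc g (Finset.mem_insert_self g s)) hdiv
    exact ⟨fun a b => by rw [hz a, hz b]⟩

theorem Conc.smul_eq_zero_of_mem_iInf (h : Conc f M) (a : A) (ha : ∀ n, ∃ b, a = f ^ n * b)
    (m : M) (hm : ∀ n, ∃ m', m = f ^ n • m') : a • m = 0 := by
  choose b hb using ha
  choose m' hm' using hm
  have key : ∀ n, b n • m = f • (b (n + 1) • m) := by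
    intro n
    have h1 : f ^ n * (b n - f * b (n + 1)) = 0 := by
      rw [mul_sub, ← hb n, ← mul_assoc, ← pow_succ, ← hb (n + 1), sub_self]
    have h2 : (b n - f * b (n + 1)) • m = 0 := by
      rw [hm' n, smul_smul, mul_comm (b n - f * b (n + 1)) (f ^ n), h1, zero_smul]
    rw [sub_smul, sub_eq_zero, mul_smul] at h2
    exact h2
  have := h.1 (fun n => b n • m) key
  have ha0 : a = b 0 := by simpa using hb 0
  rw [ha0]; exact this

end Concrete

end DerComp9
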