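import Mathlib
import Groth.Prelude.Def_DTen3
import Groth.Agent.Lib.Amp_helper2

/-!
# `evalHom K L M` is an isomorphism for `K` pseudo-coherent, `L` bounded below, `M` of finite injective
dimension (helper2)
-/

set_option autoImplicit false
universe u
open CategoryTheory Limits MonoidalCategory Pretriangulated Opposite

namespace Groth.Agent.Lib.Amp

open DerivedCategory Groth.Agent.Lib.KFlatMod Groth.Agent.Lib.Devissage Groth.Agent.Lib.TenExact
  Groth.Agent.Lib.EvalTen Groth.Agent.Lib.WExact Groth.Agent.Lib.EvalHom DTen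
attribute [local instance] HasDerivedCategory.standard

section Abstract

variable {C D : Type*} [Category C] [Category D] [Preadditive C] [HasZeroObject C] [HasShift C ℤ]
  [∀ n : ℤ, (shiftFunctor C n).Additive] [Pretriangulated C] [Preadditive D]

/-- comparison through an approximation -/
lemma bijective_of_approx {F G : C ⥤ D} (τ : F ⟶ G) (hF : CoyonedaExact F) (hG : CoyonedaExact G)
    (T : Triangle C) (hT : T ∈ distTriang C) (h₁ : IsIso (τ.app T.obj₁)) (W : D)
    (hF3 : ∀ φ : W ⟶ F.obj T.obj₃, φ = 0) (hF3' : ∀ φ : W ⟶ F.obj (T.obj₃⟦(-1 : ℤ)⟧), φ = 0)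
    (hG3 : ∀ φ : W ⟶ G.obj T.obj₃, φ = 0) (hG3' : ∀ φ : W ⟶ G.obj (T.obj₃⟦(-1 : ℤ)⟧), φ = 0) :
    Function.Bijective (fun x : W ⟶ F.obj T.obj₂ => x ≫ τ.app T.obj₂) := by
  have hTi := inv_rot_of_distTriang T hT
  have key : ∀ (H : C ⥤ D) (_ : CoyonedaExact H) (_ : ∀ φ : W ⟶ H.obj T.obj₃, φ = 0)
      (_ : ∀ φ : W ⟶ H.obj (T.obj₃⟦(-1 : ℤ)⟧), φ = 0),
      Function.Bijective (fun y : W ⟶ H.obj T.obj₁ => y ≫ H.map T.mor₁) := by
    intro H hH h3 h3'
    constructor
    · intro y y' hyy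
      have hyy' : y ≫ H.map T.mor₁ = y' ≫ H.map T.mor₁ := hyy
      rw [← sub_eq_zero]
      have hz : (y - y') ≫ H.map T.invRotate.mor₂ = 0 := by
        show (y - y') ≫ H.map T.mor₁ = 0
        rw [Preadditive.sub_comp, hyy', sub_self]
      obtain ⟨w, hw⟩ : ∃ w : W ⟶ H.obj (T.obj₃⟦(-1 : ℤ)⟧),
          y - y' = w ≫ H.map T.invRotate.mor₁ := hH T.invRotate hTi (y - y') hz
      rw [hw, h3' w, zero_comp]
      rfl
    · intro x
      obtain ⟨y, hy⟩ := hH T hT x (h3 _)
      exact ⟨y, hy.symm⟩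
  have bF := key F hF hF3 hF3'
  have bG := key G hG hG3 hG3'
  have bτ : Function.Bijective (fun y : W ⟶ F.obj T.obj₁ => y ≫ τ.app T.obj₁) :=
    ⟨fun y y' h => (cancel_mono (τ.app T.obj₁)).1 h, fun z => ⟨z ≫ inv (τ.app T.obj₁), by simp⟩⟩
  have hcomp : (fun x : W ⟶ F.obj T.obj₂ => x ≫ τ.app T.obj₂) ∘
      (fun y : W ⟶ F.obj T.obj₁ => y ≫ F.map T.mor₁) =
      (fun z : W ⟶ G.obj T.obj₁ => z ≫ G.map T.mor₁) ∘
        (fun y : W ⟶ F.obj T.obj₁ => y ≫ τ.app T.obj₁) := by
    funext y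
    simp only [Function.comp_apply, Category.assoc, τ.naturality]
  exact (Function.Bijective.of_comp_iff _ bF).1 (hcomp ▸ bG.comp bτ)

end Abstract

variable {A : Type u} [CommRing A]

/-- `(A[-i])[-1] ≅ A[-i-1]` -/
noncomputable def Jshift (i : ℤ) : (J (A := A) i)⟦(-1 : ℤ)⟧ ≅ J (i + 1) :=
  ((Q.commShiftIso (-1 : ℤ)).app (S i)).symm ≪≫
    Q.mapIso (((CochainComplex.singleFunctors (ModuleCat.{u} A)).shiftIso (-1) (i + 1) i
      (by omega)).app (ModuleCat.of A A))

/-- a morphism inducing bijections on `Hom(A[-i], -)` for all `i` is an isomorphism -/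
theorem isIso_of_bijective_hom_J {X Y : Dual.D A} (f : X ⟶ Y)
    (h : ∀ i : ℤ, Function.Bijective (fun x : J i ⟶ X => x ≫ f)) : IsIso f := by
  obtain ⟨Z, g, δ, hT⟩ := distinguished_cocone_triangle f
  have z31 : δ ≫ f⟦(1 : ℤ)⟧' = 0 := comp_distTriang_mor_zero₃₁ _ hT
  have z12 : f ≫ g = 0 := comp_distTriang_mor_zero₁₂ _ hT
  have hZ : IsZero Z := by
    apply isZero_of_hom_J
    intro i φ
    have h1 : φ ≫ δ = 0 := by
      have h2 : (φ ≫ δ) ≫ f⟦(1 : ℤ)⟧' = 0 := by rw [Category.assoc, z31, comp_zero]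
      have nat := (shiftFunctorCompIsoId (Dual.D A) (1 : ℤ) (-1) (by omega)).hom.naturality f
      have nat' : (f⟦(1 : ℤ)⟧')⟦(-1 : ℤ)⟧' ≫
          (shiftFunctorCompIsoId (Dual.D A) (1 : ℤ) (-1) (by omega)).hom.app Y =
          (shiftFunctorCompIsoId (Dual.D A) (1 : ℤ) (-1) (by omega)).hom.app X ≫ f := nat
      have h3 : ((Jshift i).inv ≫ (φ ≫ δ)⟦(-1 : ℤ)⟧' ≫
          (shiftFunctorCompIsoId (Dual.D A) (1 : ℤ) (-1) (by omega)).hom.app X) ≫ f = 0 := by
        rw [Category.assoc, Category.assoc, ← nat', ← Category.assoc ((φ ≫ δ)⟦(-1 : ℤ)⟧'),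
          ← Functor.map_comp, h2, Functor.map_zero, zero_comp, comp_zero]
      have h4 : (Jshift i).inv ≫ (φ ≫ δ)⟦(-1 : ℤ)⟧' ≫
          (shiftFunctorCompIsoId (Dual.D A) (1 : ℤ) (-1) (by omega)).hom.app X = 0 :=
        (h (i + 1)).1 (by
          show _ ≫ f = 0 ≫ f
          rw [h3, zero_comp])
      have h5 : (φ ≫ δ)⟦(-1 : ℤ)⟧' = 0 := by
        have h6 : (φ ≫ δ)⟦(-1 : ℤ)⟧' ≫
            (shiftFunctorCompIsoId (Dual.D A) (1 : ℤ) (-1) (by omega)).hom.app X = 0 := by
          rw [← cancel_epi (Jshift i).inv, comp_zero]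
          exact h4
        rw [← cancel_mono ((shiftFunctorCompIsoId (Dual.D A) (1 : ℤ) (-1) (by omega)).hom.app X),
          zero_comp]
        exact h6
      exact (shiftFunctor (Dual.D A) (-1 : ℤ)).map_injective (by rw [h5, Functor.map_zero])
    obtain ⟨φ', hφ'⟩ : ∃ φ' : J i ⟶ Y, φ = φ' ≫ g := Triangle.coyoneda_exact₃ _ hT φ h1
    obtain ⟨φ'', hφ''⟩ := (h i).2 φ'
    have hφ3 : φ'' ≫ f = φ' := hφ''
    rw [hφ', ← hφ3, Category.assoc, z12, comp_zero]
  exact (Triangle.isZero₃_iff_isIso₁ _ hT).1 hZ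

/-! ### Perfect approximations of pseudo-coherent objects -/

open Groth.Agent.Lib.BrutalTrunc in
lemma exists_approx (E : DRing.Cx A) (b : ℤ) (hb : DRing.VanishesAbove E b)
    (hE : DRing.TermwiseFiniteFree E) (m : ℤ) :
    ∃ (P C : Dual.D A) (u : P ⟶ DRing.toD E) (v : DRing.toD E ⟶ C) (w : C ⟶ P⟦(1 : ℤ)⟧),
      Triangle.mk u v w ∈ distTriang (Dual.D A) ∧ DRing.IsPerfect A P ∧ C.IsLE (m - 1) := by
  haveI : Mono (incl E m) := by
    haveI : ∀ n, Mono ((incl E m).f n) := fun n => by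
      rw [incl_f]
      exact mono_of_mono_fac (ι_ρ E m n)
    exact HomologicalComplex.mono_of_mono_f _ inferInstance
  have hS : (ShortComplex.mk (incl E m) (cokernel.π (incl E m)) (cokernel.condition _)).ShortExact :=
    ShortComplex.ShortExact.mk' (ShortComplex.exact_cokernel (incl E m)) inferInstance
      (by show Epi (cokernel.π (incl E m)); infer_instance)
  refine ⟨_, _, _, _, _, triangleOfSES_distinguished hS, ?_, ?_⟩
  · -- perfect
    refine ⟨sigmaGE E m, m, b, ?_, ?_, ⟨Iso.refl _⟩⟩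
    · intro j hj
      by_cases h : m ≤ j
      · exact isZero_sigmaGE_X' E m j (hb j (by omega))
      · exact isZero_sigmaGE_X E h
    · intro j
      by_cases h : m ≤ j
      · haveI := isIso_ι E h
        have e : (sigmaGE E m).X j ≅ E.X j := asIso (ι E m j)
        haveI := (hE j).1
        haveI := (hE j).2
        haveI : Module.Free A ((sigmaGE E m).X j) := Module.Free.of_equiv e.toLinearEquiv.symm
        exact ⟨Module.Finite.equiv e.toLinearEquiv.symm, Module.Projective.of_free⟩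
      · haveI : Subsingleton ((sigmaGE E m).X j) :=
          ModuleCat.subsingleton_of_isZero (isZero_sigmaGE_X E h)
        exact ⟨inferInstance, inferInstance⟩
  · -- amplitude of the cokernel
    haveI : (cokernel (incl E m)).IsStrictlyLE (m - 1) := by
      rw [CochainComplex.isStrictlyLE_iff]
      intro j hj
      have e : (cokernel (incl E m)).X j ≅ cokernel ((incl E m).f j) :=
        PreservesCokernel.iso (HomologicalComplex.eval _ _ j) (incl E m)
      haveI : IsIso ((incl E m).f j) := by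
        rw [incl_f]
        exact isIso_ι E (by omega)
      exact IsZero.of_iso (isZero_cokernel_of_epi _) e
    show (Q.obj (cokernel (incl E m))).IsLE (m - 1)
    infer_instance

/-! ### The main theorem -/

variable [HasLTen A] [HasLTen₃ A] [IsSymMonoidal A] [HasRHom A]

/-- **`RHom(L, M) ⊗^L K ⟶ RHom(RHom(K, L), M)` is an isomorphism for `K` pseudo-coherent, `L` bounded
below and `M` of finite injective dimension** -/
theorem isIso_evalHom_of_isPseudoCoherent (K L M : Dual.D A) (hK : DRing.IsPseudoCoherent' A K)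
    (n : ℤ) [L.IsGE n] (hM : DRing.HasFiniteInjDim A M) : IsIso (evalHom K L M) := by
  obtain ⟨E, b, hb, hE, ⟨eK⟩⟩ := hK
  obtain ⟨c, d, J₀, hJ, hinj, eM⟩ := hM
  have hM' : InjLE M d := ⟨J₀, c, hJ, hinj, eM⟩
  refine isIso_app_of_iso (evalHomNat L M) eK ?_
  show IsIso (evalHom (DRing.toD E) L M)
  have hF : CoyonedaExact ((LTen A).obj ((RHomR A L).obj M)) :=
    coyonedaExact_of_iso (symmIso _) (coyonedaExact_tensorRightD _)
  have hG : CoyonedaExact (GK L M) := by
    intro T hT W x hx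
    obtain ⟨y, hy⟩ :=
      (wExact_RHomMap (wExact_RHomMap (wExact_of_distinguished T hT) L) M).2 x hx
    exact ⟨y, hy.symm⟩
  haveI hR : ((RHomR A L).obj M).IsLE (d - n) := isLE_RHom L M n d hM'
  apply isIso_of_bijective_hom_J
  intro i
  obtain ⟨P, C, u, v, w, hT, hP, hC⟩ := exists_approx E b hb hE (i - d + n - 1)
  haveI := hC
  haveI hC' : (C⟦(-1 : ℤ)⟧).IsLE (i - d + n - 1) :=
    TStructure.t.isLE_shift C (i - d + n - 1 - 1) (-1) (i - d + n - 1) (by omega)
  have h₁ : IsIso ((evalHomNat L M).app P) := isIso_evalHom_of_isPerfect L M P hP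
  refine bijective_of_approx (evalHomNat L M) hF hG (Triangle.mk u v w) hT h₁ (J i) ?_ ?_ ?_ ?_
  · intro φ
    have hle := isLE_tensor ((RHomR A L).obj M) C (d - n) (i - d + n - 1 - 1)
    exact @hom_J_eq_zero_of_isLE A _ _ ((d - n) + (i - d + n - 1 - 1)) i hle (by omega) φ
  · intro φ
    have hle := isLE_tensor ((RHomR A L).obj M) (C⟦(-1 : ℤ)⟧) (d - n) (i - d + n - 1)
    exact @hom_J_eq_zero_of_isLE A _ _ ((d - n) + (i - d + n - 1)) i hle (by omega) φ
  · intro φ
    haveI := isGE_RHom C L (i - d + n - 1 - 1) n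
    have hle := isLE_RHom ((RHomR A C).obj L) M (n - (i - d + n - 1 - 1)) d hM'
    exact @hom_J_eq_zero_of_isLE A _ _ (d - (n - (i - d + n - 1 - 1))) i hle (by omega) φ
  · intro φ
    haveI := isGE_RHom (C⟦(-1 : ℤ)⟧) L (i - d + n - 1) n
    have hle := isLE_RHom ((RHomR A (C⟦(-1 : ℤ)⟧)).obj L) M (n - (i - d + n - 1)) d hM'
    exact @hom_J_eq_zero_of_isLE A _ _ (d - (n - (i - d + n - 1))) i hle (by omega) φ

end Groth.Agent.Lib.Amp
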