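import Groth.Agent.Lib.BifSingleL_helper2

/-!
# The functors `M ↦ H^i(F(M, P^•))` for a complex `P` with "flat" terms (helper2)

For a bifunctor `F : A ⥤ B ⥤ D` (right exact in each variable) and a cochain complex `P` in `B`
such that every `F(-, P^q)` is exact, the functors `T^i = H^i(F(-, P^•))` form a cohomological
δ-functor; hence `T^p` is right exact iff `T^{p+1}` is left exact, and `T^{p+1}` is left exact iff
`F(-, coker(P^p → P^{p+1}))` is left exact.
-/

set_option autoImplicit false
open CategoryTheory Limits

namespace Groth.Agent.Lib.TorFun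

open Groth.Agent.Lib.BifSingleL

section General

variable {𝒜 ℬ : Type*} [Category 𝒜] [Category ℬ] [Abelian 𝒜] [Abelian ℬ]

/-- a right exact additive functor between abelian categories preserving monomorphisms is exact -/
theorem preservesFiniteLimits_of_preservesMono (T : 𝒜 ⥤ ℬ) [T.Additive]
    [PreservesFiniteColimits T]
    (h : ∀ {X Y : 𝒜} (f : X ⟶ Y), Mono f → Mono (T.map f)) : PreservesFiniteLimits T := by
  rw [Functor.preservesFiniteLimits_iff_forall_exact_map_and_mono]
  intro S hS
  have h3 : PreservesFiniteColimits T := inferInstance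
  have h4 : ∀ (S : ShortComplex 𝒜), S.ShortExact → (S.map T).Exact ∧ Epi (T.map S.g) :=
    ((Functor.preservesFiniteColimits_tfae T).out 3 0).1 h3
  exact ⟨(h4 S hS).1, h S.f hS.mono_f⟩

lemma opcyclesMap_fromOpcycles {K L : CochainComplex 𝒜 ℤ} (φ : K ⟶ L) (i j : ℤ) :
    HomologicalComplex.opcyclesMap φ i ≫ L.fromOpcycles i j = K.fromOpcycles i j ≫ φ.f j := by
  rw [← cancel_epi (K.pOpcycles i), HomologicalComplex.p_opcyclesMap_assoc,
    HomologicalComplex.p_fromOpcycles, HomologicalComplex.p_fromOpcycles_assoc, φ.comm]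

/-- if `H^a(φ)` and `φ^{a+1}` are monomorphisms, so is the map induced by `φ` on
`coker d^{a-1}` -/
theorem mono_opcyclesMap {K L : CochainComplex 𝒜 ℤ} (φ : K ⟶ L) (a b : ℤ) (hab : a + 1 = b)
    (h1 : Mono (HomologicalComplex.homologyMap φ a)) (h2 : Mono (φ.f b)) :
    Mono (HomologicalComplex.opcyclesMap φ a) := by
  apply Preadditive.mono_of_cancel_zero
  intro Z k hk
  have hk0 : k ≫ K.fromOpcycles a b = 0 := by
    rw [← cancel_mono (φ.f b), Category.assoc, zero_comp,
      ← opcyclesMap_fromOpcycles, reassoc_of% hk, zero_comp]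
  have hnext : (ComplexShape.up ℤ).next a = b := by
    subst hab
    simp
  let k' := (K.homologyIsKernel a b hnext).lift (KernelFork.ofι k hk0)
  have hk' : k' ≫ K.homologyι a = k :=
    Fork.IsLimit.lift_ι (K.homologyIsKernel a b hnext)
  have h1' : k' ≫ HomologicalComplex.homologyMap φ a = 0 := by
    rw [← cancel_mono (L.homologyι a), Category.assoc,
      HomologicalComplex.homologyι_naturality, reassoc_of% hk', hk, zero_comp]
  have h2' : k' = 0 := by
    rw [← cancel_mono (HomologicalComplex.homologyMap φ a), h1', zero_comp]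
  rw [← hk', h2', zero_comp]

end General

variable {A B D : Type*} [Category A] [Category B] [Category D] [Abelian A] [Abelian B]
  [Abelian D] (F : A ⥤ B ⥤ D) [F.Additive] [∀ M, (F.obj M).Additive] (P : CochainComplex B ℤ)

lemma SP_map_f' {M M' : A} (f : M ⟶ M') (i : ℤ) :
    ((SP F P).map f).f i = (F.map f).app (P.X i) := rfl

lemma SP_obj_d (M : A) (i j : ℤ) :
    ((SP F P).obj M).d i j = (F.obj M).map (P.d i j) := rfl

instance additive_flip_obj (N : B) : (F.flip.obj N).Additive where
  map_add {X Y f g} := by
    change (F.map (f + g)).app N = (F.map f).app N + (F.map g).app N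
    rw [Functor.map_add, NatTrans.app_add]

instance additive_SP : (SP F P).Additive where
  map_add {X Y f g} := by
    ext i
    rw [HomologicalComplex.add_f_apply, SP_map_f', SP_map_f', SP_map_f', Functor.map_add,
      NatTrans.app_add]
    rfl

/-- `T^i(M) = H^i(F(M, P^•))` -/
noncomputable def T (i : ℤ) : A ⥤ D :=
  SP F P ⋙ HomologicalComplex.homologyFunctor D (ComplexShape.up ℤ) i

instance additive_T (i : ℤ) : (T F P i).Additive := by
  dsimp only [T]
  infer_instance

lemma T_map {M M' : A} (f : M ⟶ M') (i : ℤ) :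
    (T F P i).map f = HomologicalComplex.homologyMap ((SP F P).map f) i := rfl

section Exact

variable [∀ N, PreservesFiniteColimits (F.flip.obj N)]
  (hP : ∀ q, PreservesFiniteLimits (F.flip.obj (P.X q)))

include hP in
/-- `M ↦ F(M, P^•)` sends short exact sequences to short exact sequences of complexes -/
lemma shortExact_map_SP (S : ShortComplex A) (hS : S.ShortExact) :
    (S.map (SP F P)).ShortExact := by
  rw [HomologicalComplex.shortExact_iff_degreewise_shortExact]
  intro q
  haveI := hP q
  have h : (S.map (F.flip.obj (P.X q))).ShortExact := hS.map_of_exact (F.flip.obj (P.X q))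
  exact ShortComplex.shortExact_of_iso
    (ShortComplex.isoMk (Iso.refl _) (Iso.refl _) (Iso.refl _)
      (by
        dsimp
        rw [Category.comp_id, Category.id_comp])
      (by
        dsimp
        rw [Category.comp_id, Category.id_comp])) h

include hP in
/-- the functors `T^i` are exact in the middle -/
lemma exact_map_T (S : ShortComplex A) (hS : S.ShortExact) (i : ℤ) :
    (S.map (T F P i)).Exact :=
  (shortExact_map_SP F P hP S hS).homology_exact₂ i

include hP in
/-- **`T^p` is right exact iff `T^{p+1}` is left exact** -/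
theorem preservesFiniteColimits_T_iff_succ (p q : ℤ) (hpq : p + 1 = q) :
    PreservesFiniteColimits (T F P p) ↔ PreservesFiniteLimits (T F P q) := by
  rw [Functor.preservesFiniteColimits_iff_forall_exact_map_and_epi,
    Functor.preservesFiniteLimits_iff_forall_exact_map_and_mono]
  have hrel : (ComplexShape.up ℤ).Rel p q := hpq
  constructor
  · intro h S hS
    have hS' := shortExact_map_SP F P hP S hS
    refine ⟨exact_map_T F P hP S hS q, ?_⟩
    have hepi : Epi (HomologicalComplex.homologyMap (S.map (SP F P)).g p) := (h S hS).2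
    have h3 := hS'.homology_exact₃ p q hrel
    have hδ : hS'.δ p q hrel = 0 := (h3.epi_f_iff).1 hepi
    have h1 := hS'.homology_exact₁ p q hrel
    exact (h1.mono_g_iff).2 hδ
  · intro h S hS
    have hS' := shortExact_map_SP F P hP S hS
    refine ⟨exact_map_T F P hP S hS p, ?_⟩
    have hmono : Mono (HomologicalComplex.homologyMap (S.map (SP F P)).f q) := (h S hS).2
    have h1 := hS'.homology_exact₁ p q hrel
    have hδ : hS'.δ p q hrel = 0 := (h1.mono_g_iff).1 hmono
    have h3 := hS'.homology_exact₃ p q hrel
    exact (h3.epi_f_iff).2 hδ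

end Exact

section Coker

variable [∀ M, PreservesFiniteColimits (F.obj M)]

/-- the comparison `coker(d^{p}_{F(M, P)}) ≅ F(M, coker(d^{p}_P))` -/
noncomputable def opcyclesIso (p q : ℤ) (hpq : p + 1 = q) (M : A) :
    ((SP F P).obj M).opcycles q ≅ (F.obj M).obj (cokernel (P.d p q)) :=
  IsColimit.coconePointUniqueUpToIso
    (((SP F P).obj M).opcyclesIsCokernel p q (by subst hpq; simp))
    (CokernelCofork.mapIsColimit _ (cokernelIsCokernel (P.d p q)) (F.obj M))

lemma p_opcyclesIso_hom (p q : ℤ) (hpq : p + 1 = q) (M : A) :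
    ((SP F P).obj M).pOpcycles q ≫ (opcyclesIso F P p q hpq M).hom =
      (F.obj M).map (cokernel.π (P.d p q)) :=
  IsColimit.comp_coconePointUniqueUpToIso_hom
    (((SP F P).obj M).opcyclesIsCokernel p q (by subst hpq; simp))
    (CokernelCofork.mapIsColimit _ (cokernelIsCokernel (P.d p q)) (F.obj M))
    WalkingParallelPair.one

lemma opcyclesIso_naturality (p q : ℤ) (hpq : p + 1 = q) {M' M : A} (f : M' ⟶ M) :
    (opcyclesIso F P p q hpq M').hom ≫ (F.map f).app (cokernel (P.d p q)) =
      HomologicalComplex.opcyclesMap ((SP F P).map f) q ≫ (opcyclesIso F P p q hpq M).hom := by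
  rw [← cancel_epi (((SP F P).obj M').pOpcycles q), reassoc_of% (p_opcyclesIso_hom F P p q hpq M'),
    HomologicalComplex.p_opcyclesMap_assoc, p_opcyclesIso_hom, SP_map_f']
  exact (F.map f).naturality (cokernel.π (P.d p q))

lemma map_app_eq (p q : ℤ) (hpq : p + 1 = q) {M' M : A} (f : M' ⟶ M) :
    (F.map f).app (cokernel (P.d p q)) =
      (opcyclesIso F P p q hpq M').inv ≫
        HomologicalComplex.opcyclesMap ((SP F P).map f) q ≫ (opcyclesIso F P p q hpq M).hom := by
  rw [← opcyclesIso_naturality, Iso.inv_hom_id_assoc]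

lemma opcyclesMap_eq (p q : ℤ) (hpq : p + 1 = q) {M' M : A} (f : M' ⟶ M) :
    HomologicalComplex.opcyclesMap ((SP F P).map f) q =
      (opcyclesIso F P p q hpq M').hom ≫ (F.map f).app (cokernel (P.d p q)) ≫
        (opcyclesIso F P p q hpq M).inv := by
  rw [← Category.assoc, opcyclesIso_naturality, Category.assoc, Iso.hom_inv_id, Category.comp_id]

variable [∀ N, PreservesFiniteColimits (F.flip.obj N)]
  (hP : ∀ q, PreservesFiniteLimits (F.flip.obj (P.X q)))

include hP in
/-- if `F(-, coker d^p)` preserves monomorphisms, then `T^{p+1}` is left exact -/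
theorem preservesFiniteLimits_T_of_mono (p q : ℤ) (hpq : p + 1 = q)
    (hC : ∀ {M' M : A} (f : M' ⟶ M), Mono f → Mono ((F.map f).app (cokernel (P.d p q)))) :
    PreservesFiniteLimits (T F P q) := by
  rw [Functor.preservesFiniteLimits_iff_forall_exact_map_and_mono]
  intro S hS
  refine ⟨exact_map_T F P hP S hS q, ?_⟩
  haveI : Mono ((F.map S.f).app (cokernel (P.d p q))) := hC S.f hS.mono_f
  haveI hm : Mono (HomologicalComplex.opcyclesMap ((SP F P).map S.f) q) := by
    rw [opcyclesMap_eq F P p q hpq S.f]
    infer_instance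
  have hnat := HomologicalComplex.homologyι_naturality ((SP F P).map S.f) q
  haveI : Mono (HomologicalComplex.homologyMap ((SP F P).map S.f) q ≫
      ((SP F P).obj S.X₂).homologyι q) := by
    rw [hnat]
    infer_instance
  exact mono_of_mono (HomologicalComplex.homologyMap ((SP F P).map S.f) q)
    (((SP F P).obj S.X₂).homologyι q)

include hP in
/-- if `T^{p+1}` is left exact, then `F(-, coker d^p)` preserves monomorphisms -/
theorem mono_of_preservesFiniteLimits_T (p q : ℤ) (hpq : p + 1 = q)
    [PreservesFiniteLimits (T F P q)] {M' M : A} (f : M' ⟶ M) [Mono f] :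
    Mono ((F.map f).app (cokernel (P.d p q))) := by
  have h1 : Mono ((T F P q).map f) := inferInstance
  haveI := hP (q + 1)
  have h2 : Mono ((F.flip.obj (P.X (q + 1))).map f) := inferInstance
  haveI hm : Mono (HomologicalComplex.opcyclesMap ((SP F P).map f) q) :=
    mono_opcyclesMap ((SP F P).map f) q (q + 1) rfl h1 h2
  rw [map_app_eq F P p q hpq f]
  infer_instance

include hP in
/-- **`T^{p+1}` is left exact iff `F(-, coker(P^p → P^{p+1}))` is left exact** -/
theorem preservesFiniteLimits_T_iff (p q : ℤ) (hpq : p + 1 = q) :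
    PreservesFiniteLimits (T F P q) ↔
      PreservesFiniteLimits (F.flip.obj (cokernel (P.d p q))) := by
  constructor
  · intro h
    haveI := h
    apply preservesFiniteLimits_of_preservesMono
    intro M' M f hf
    haveI := hf
    exact mono_of_preservesFiniteLimits_T F P hP p q hpq f
  · intro h
    haveI := h
    apply preservesFiniteLimits_T_of_mono F P hP p q hpq
    intro M' M f hf
    haveI := hf
    exact inferInstanceAs (Mono ((F.flip.obj (cokernel (P.d p q))).map f))

end Coker

end Groth.Agent.Lib.TorFun
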