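import Groth.Agent.Lib.KFlatGen8_helper2
import Groth.Agent.Lib.TorFun_helper2

/-!
# `H^p(M ⊗^L E)` for a module `M` is `H^p(M ⊗ R^•)` for a K-flat resolution `R → E` (helper2)
-/

set_option autoImplicit false
universe w v u
open CategoryTheory Limits

namespace Groth.Agent.Lib.TorFun

open Groth.Agent.Lib.KFlatGen Groth.Agent.Lib.BifSingleL

variable {𝒜 : Type u} [Category.{v} 𝒜] [Abelian 𝒜]
  (F : 𝒜 ⥤ 𝒜 ⥤ 𝒜) [F.Additive] [∀ X, (F.obj X).Additive]
  [∀ (K₁ K₂ : CochainComplex 𝒜 ℤ), CochainComplex.HasMapBifunctor K₁ K₂ F]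
variable [HasDerivedCategory.{w} 𝒜]

/-- `H^p(M[0] ⊗^L -) ≅ H^p(M ⊗ R^•)` from an identification of `Q ⋙ LF` with `Tot(- ⊗ R) ⋙ Q` -/
noncomputable def singleIso (R : CochainComplex 𝒜 ℤ)
    (LF : DerivedCategory 𝒜 ⥤ DerivedCategory 𝒜)
    (e : DerivedCategory.Q ⋙ LF ≅ F.map₂CochainComplex.flip.obj R ⋙ DerivedCategory.Q) (p : ℤ) :
    DerivedCategory.singleFunctor 𝒜 0 ⋙ LF ⋙ DerivedCategory.homologyFunctor 𝒜 p ≅ T F R p :=
  Functor.isoWhiskerRight (DerivedCategory.singleFunctorIsoCompQ 𝒜 0)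
      (LF ⋙ DerivedCategory.homologyFunctor 𝒜 p) ≪≫
    Functor.associator (CochainComplex.singleFunctor 𝒜 0) DerivedCategory.Q
      (LF ⋙ DerivedCategory.homologyFunctor 𝒜 p) ≪≫
    Functor.isoWhiskerLeft (CochainComplex.singleFunctor 𝒜 0)
      ((Functor.associator DerivedCategory.Q LF (DerivedCategory.homologyFunctor 𝒜 p)).symm ≪≫
        Functor.isoWhiskerRight e (DerivedCategory.homologyFunctor 𝒜 p) ≪≫
        Functor.associator (F.map₂CochainComplex.flip.obj R) DerivedCategory.Q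
          (DerivedCategory.homologyFunctor 𝒜 p) ≪≫
        Functor.isoWhiskerLeft (F.map₂CochainComplex.flip.obj R)
          (DerivedCategory.homologyFunctorFactors 𝒜 p)) ≪≫
    (Functor.associator (HomologicalComplex.single 𝒜 (ComplexShape.up ℤ) 0)
      (F.map₂CochainComplex.flip.obj R)
      (HomologicalComplex.homologyFunctor 𝒜 (ComplexShape.up ℤ) p)).symm ≪≫
    Functor.isoWhiskerRight (xiIso F R).symm
      (HomologicalComplex.homologyFunctor 𝒜 (ComplexShape.up ℤ) p)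

variable (σ : F ≅ F.flip) {Fl P : 𝒜 → Prop} (hFl : FlatClass F Fl) (hP : ResClass Fl P)
  [HasCoproducts.{0} 𝒜]
  [∀ n : ℤ, HasExactColimitsOfShape (Discrete (BifSES.Idx n)) 𝒜]
  [HasColimitsOfShape ℕ 𝒜] [HasExactColimitsOfShape ℕ 𝒜]
  [∀ X : 𝒜, PreservesColimitsOfShape ℕ (F.obj X)]

include σ hFl hP in
/-- **`H^p(M ⊗^L E) ≅ H^p(M ⊗ R^•)` for a K-flat resolution `R → E`, naturally in the object
`M`** -/
theorem nonempty_singleIso (E R : CochainComplex 𝒜 ℤ) (π : R ⟶ E) [QuasiIso π]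
    (hR : IsKFlat F R) (LF : DerivedCategory 𝒜 ⥤ DerivedCategory 𝒜)
    (α : DerivedCategory.Q ⋙ LF ⟶ F.map₂CochainComplex.flip.obj E ⋙ DerivedCategory.Q)
    [LF.IsLeftDerivedFunctor α (HomologicalComplex.quasiIso 𝒜 (ComplexShape.up ℤ))] (p : ℤ) :
    Nonempty (DerivedCategory.singleFunctor 𝒜 0 ⋙ LF ⋙ DerivedCategory.homologyFunctor 𝒜 p ≅
      T F R p) := by
  obtain ⟨e⟩ := nonempty_natIso_of_kflat_resolution F σ hFl hP E R π hR LF α
  exact ⟨singleIso F R LF e p⟩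

end Groth.Agent.Lib.TorFun
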