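import Groth.Agent.Lib.KFlatMod2_helper2
import Groth.Agent.Lib.TorFun2_helper2
import Groth.Prelude.Def_DRing4

/-!
# `- ⊗^L E` on `D(R)` for a complex `E` of modules over a commutative ring (helper2)

Instantiation of the generic K-flat machinery for `DRing.LTensorCx`.
-/

set_option autoImplicit false
universe u
open CategoryTheory Limits MonoidalCategory

namespace Groth.Agent.Lib.DRingLT

attribute [local instance] HasDerivedCategory.standard

open Groth.Agent.Lib.KFlatGen Groth.Agent.Lib.KFlatMod Groth.Agent.Lib.TorFun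
  Groth.Agent.Lib.BifCone

variable (R : Type u) [CommRing R]

/-- the braiding of the tensor bifunctor -/
noncomputable abbrev σ : T R ≅ (T R).flip :=
  BraidedCategory.curriedBraidingNatIso (ModuleCat.{u} R)

/-- `tensorRight E` is `Tot(- ⊗ E)` -/
noncomputable def tensorRightIso (E : DRing.Cx R) :
    tensorRight E ≅ (T R).map₂CochainComplex.flip.obj E :=
  NatIso.ofComponents (fun _ => Iso.refl _)

/-- the counit of `- ⊗^L E` -/
noncomputable def counitCx (E : DRing.Cx R) [DRing.HasLTensorCx R E] :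
    DerivedCategory.Q ⋙ DRing.LTensorCx R E ⟶
      (T R).map₂CochainComplex.flip.obj E ⋙ DerivedCategory.Q :=
  (DRing.tensorCxQ R E).totalLeftDerivedCounit DerivedCategory.Q
    (HomologicalComplex.quasiIso (ModuleCat.{u} R) (ComplexShape.up ℤ))

instance (E : DRing.Cx R) [DRing.HasLTensorCx R E] :
    (DRing.LTensorCx R E).IsLeftDerivedFunctor (counitCx R E)
      (HomologicalComplex.quasiIso (ModuleCat.{u} R) (ComplexShape.up ℤ)) :=
  inferInstanceAs ((DRing.LTensorCx R E).IsLeftDerivedFunctor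
    ((DRing.tensorCxQ R E).totalLeftDerivedCounit DerivedCategory.Q
    (HomologicalComplex.quasiIso (ModuleCat.{u} R) (ComplexShape.up ℤ))) _)

/-- the counit of `- ⊗^L E` is invertible at K-flat complexes -/
theorem isIso_counit_of_kf (E X : DRing.Cx R) [DRing.HasLTensorCx R E] (hX : KF R X) :
    IsIso ((counitCx R E).app X) :=
  isIso_counitQ_of_isKFlat (T R) (σ R) (flatClass R) (resClass R) E (DRing.LTensorCx R E)
    (counitCx R E) X ((kf_iff X).1 hX)

/-- the counit of `- ⊗^L E` is invertible if `E` is K-flat -/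
theorem isIso_counit_of_kf_right (E X : DRing.Cx R) [DRing.HasLTensorCx R E] (hE : KF R E) :
    IsIso ((counitCx R E).app X) :=
  isIso_counitQ_of_isKFlat_right (T R) E ((kf_iff E).1 hE) (DRing.LTensorCx R E)
    (counitCx R E) X

/-- `Q X ⊗^L E ≅ Q (X ⊗ E)` for K-flat `X` -/
theorem nonempty_objIso (E X : DRing.Cx R) [DRing.HasLTensorCx R E] (hX : KF R X) :
    Nonempty ((DRing.LTensorCx R E).obj (DRing.toD X) ≅ DRing.toD (X ⊗ E)) := by
  haveI := isIso_counit_of_kf R E X hX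
  let e := asIso ((counitCx R E).app X)
  exact ⟨e⟩

/-- `Q ⋙ (- ⊗^L E) ≅ (- ⊗ P) ⋙ Q` for a K-flat resolution `P → E` -/
theorem nonempty_iso_of_resolution (E P : DRing.Cx R) (π : P ⟶ E) [QuasiIso π] (hP : KF R P)
    [DRing.HasLTensorCx R E] :
    Nonempty (DerivedCategory.Q ⋙ DRing.LTensorCx R E ≅
      (T R).map₂CochainComplex.flip.obj P ⋙ DerivedCategory.Q) :=
  nonempty_natIso_of_kflat_resolution (T R) (σ R) (flatClass R) (resClass R) E P π
    ((kf_iff P).1 hP) (DRing.LTensorCx R E) (counitCx R E)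

variable {R}

/-- an isomorphism in `D(R)` is a roof of quasi-isomorphisms -/
theorem exists_roof {E K : DRing.Cx R} (φ : DRing.toD E ≅ DRing.toD K) :
    ∃ (Z : DRing.Cx R) (s : Z ⟶ E) (g : Z ⟶ K), QuasiIso s ∧ QuasiIso g := by
  obtain ⟨Z, s, hs, g, hg⟩ := DerivedCategory.right_fac φ.hom
  have hs' : QuasiIso s := (DerivedCategory.isIso_Q_map_iff_quasiIso _ s).1 hs
  have hg' : QuasiIso g := by
    rw [← DerivedCategory.isIso_Q_map_iff_quasiIso _ g]
    have h : DerivedCategory.Q.map g = DerivedCategory.Q.map s ≫ φ.hom := by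
      rw [hg, IsIso.hom_inv_id_assoc]
    rw [h]
    infer_instance
  exact ⟨Z, s, g, hs', hg'⟩

/-- an isomorphism in `D(R)` is a roof of quasi-isomorphisms with K-flat, termwise flat top -/
theorem exists_kf_roof {E K : DRing.Cx R} (φ : DRing.toD E ≅ DRing.toD K) :
    ∃ (P : DRing.Cx R) (s : P ⟶ E) (g : P ⟶ K), KF R P ∧ (∀ i : ℤ, Module.Flat R (P.X i)) ∧
      QuasiIso s ∧ QuasiIso g := by
  obtain ⟨Z, s, g, hs, hg⟩ := exists_roof φ
  obtain ⟨P, p, hP, hfl, hp, -⟩ := exists_kf_resolution Z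
  haveI := hs
  haveI := hg
  haveI := hp
  exact ⟨P, p ≫ s, p ≫ g, hP, hfl, inferInstance, inferInstance⟩

/-- tensoring a quasi-isomorphism on the left with a K-flat complex -/
theorem quasiIso_whiskerLeft_of_kf (X : DRing.Cx R) (hX : KF R X) {L₁ L₂ : DRing.Cx R}
    (f : L₁ ⟶ L₂) [QuasiIso f] : QuasiIso (X ◁ f) :=
  quasiIso_mapBifunctorMap₂ (T R) X
    (acyclic_tensor_left_of_isKFlat (σ R) X ((kf_iff X).1 hX)) f

/-- for K-flat `X`, `Q (X ⊗ L)` only depends on `Q L` -/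
theorem nonempty_tensor_iso_of_iso (X : DRing.Cx R) (hX : KF R X) {L L' : DRing.Cx R}
    (φ : DRing.toD L ≅ DRing.toD L') : Nonempty (DRing.toD (X ⊗ L) ≅ DRing.toD (X ⊗ L')) := by
  obtain ⟨Z, s, g, hs, hg⟩ := exists_roof φ
  haveI := hs
  haveI := hg
  haveI := quasiIso_whiskerLeft_of_kf X hX s
  haveI := quasiIso_whiskerLeft_of_kf X hX g
  haveI : IsIso (DerivedCategory.Q.map (X ◁ s)) :=
    (DerivedCategory.isIso_Q_map_iff_quasiIso _ _).2 inferInstance
  haveI : IsIso (DerivedCategory.Q.map (X ◁ g)) :=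
    (DerivedCategory.isIso_Q_map_iff_quasiIso _ _).2 inferInstance
  exact ⟨(asIso (DerivedCategory.Q.map (X ◁ s))).symm ≪≫ asIso (DerivedCategory.Q.map (X ◁ g))⟩

/-- `K ⊗^L L ≅ Q (E₁ ⊗ E₂)` if `K ≅ Q E₁` with `E₁` K-flat and `Q L ≅ Q E₂` -/
theorem nonempty_LTensorCx_iso (L : DRing.Cx R) [DRing.HasLTensorCx R L] (K : Dual.D R)
    (E₁ E₂ : DRing.Cx R) (hE₁ : KF R E₁) (φ₁ : DRing.toD E₁ ≅ K)
    (φ₂ : DRing.toD E₂ ≅ DRing.toD L) :
    Nonempty (DRing.toD (E₁ ⊗ E₂) ≅ (DRing.LTensorCx R L).obj K) := by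
  obtain ⟨e₁⟩ := nonempty_objIso R L E₁ hE₁
  obtain ⟨e₂⟩ := nonempty_tensor_iso_of_iso E₁ hE₁ φ₂
  exact ⟨e₂ ≪≫ e₁.symm ≪≫ (DRing.LTensorCx R L).mapIso φ₁⟩

end Groth.Agent.Lib.DRingLT
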