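import Mathlib
import Groth.Prelude.Def_DRing4
import Groth.Agent.Lib.BifCone_helper2
import Groth.Agent.Lib.KFlatMod2_helper2

/-!
# The Hom complex of complexes of modules: tensor-hom adjunction (helper2)

* `unc`, `cur`: `Cochain K (Hom•(L, M)) n ≃ Cochain (K ⊗ L) M n`, compatible with `δ` (no signs).
* `homHomIso K L M : Hom•(K, Hom•(L, M)) ≅ Hom•(K ⊗ L, M)`.
-/

set_option autoImplicit false
universe u
open CategoryTheory Limits MonoidalCategory CochainComplex CochainComplex.HomComplex

namespace Groth.Agent.Lib.HomCx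

open Groth.Agent.Lib.KFlatMod

variable {A : Type u} [CommRing A]

section Basic

variable (L M : DRing.Cx A)

/-- evaluation of a cochain at a pair of indices, as a linear map -/
noncomputable def evL (m q j : ℤ) (h : q + m = j) : Cochain L M m →ₗ[A] (L.X q →ₗ[A] M.X j) where
  toFun z := (z.v q j h).hom
  map_add' z z' := by simp
  map_smul' a z := by simp

@[simp] lemma evL_apply (m q j : ℤ) (h : q + m = j) (z : Cochain L M m) (y : L.X q) :
    evL L M m q j h z y = (z.v q j h).hom y := rfl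

end Basic

variable {K L M : DRing.Cx A}

/-- the inclusion of a pure tensor in the tensor product of complexes -/
noncomputable def ιt (K L : DRing.Cx A) (p q i : ℤ) (h : p + q = i) (x : K.X p) (y : L.X q) :
    ((K ⊗ L : DRing.Cx A)).X i :=
  (HomologicalComplex.ιTensorObj K L p q i h).hom (x ⊗ₜ[A] y)

/-- morphisms out of a term of the tensor product are determined on pure tensors -/
lemma hom_ext_tensor {i : ℤ} {N : ModuleCat.{u} A} {f g : ((K ⊗ L : DRing.Cx A)).X i ⟶ N}
    (h : ∀ (p q : ℤ) (hpq : p + q = i) (x : K.X p) (y : L.X q),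
      f.hom (ιt K L p q i hpq x y) = g.hom (ιt K L p q i hpq x y)) : f = g := by
  apply HomologicalComplex.mapBifunctor.hom_ext
  intro p q hpq
  apply ModuleCat.MonoidalCategory.tensor_ext
  intro x y
  exact h p q hpq x y

/-- uncurrying of cochains -/
noncomputable def unc {n : ℤ} (z : Cochain K (DRing.homCx L M) n) : Cochain (K ⊗ L) M n :=
  Cochain.mk (fun i j hij => HomologicalComplex.mapBifunctorDesc (fun p q hpq =>
    (ModuleCat.ofHom (TensorProduct.lift ((evL L M (p + n) q j (by
      have : p + q = i := hpq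
      omega)).comp (z.v p (p + n) rfl).hom)) : (K.X p ⊗ L.X q : ModuleCat.{u} A) ⟶ M.X j)))

lemma unc_v_ιt {n : ℤ} (z : Cochain K (DRing.homCx L M) n) (p q i j p' : ℤ) (hpq : p + q = i)
    (hij : i + n = j) (hp' : p + n = p') (x : K.X p) (y : L.X q) :
    ((unc z).v i j hij).hom (ιt K L p q i hpq x y) =
      (((z.v p p' hp').hom x : Cochain L M p').v q j (by omega)).hom y := by
  subst hp'
  dsimp only [unc, ιt]
  rw [Cochain.mk_v]
  have h := HomologicalComplex.ι_mapBifunctorDesc (K₁ := K) (K₂ := L) (F := curriedTensor _)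
    (c := ComplexShape.up ℤ) (j := i) (fun p q hpq =>
    (ModuleCat.ofHom (TensorProduct.lift ((evL L M (p + n) q j (by
      have : p + q = i := hpq
      omega)).comp (z.v p (p + n) rfl).hom)) : (K.X p ⊗ L.X q : ModuleCat.{u} A) ⟶ M.X j)) p q hpq
  have h2 := congrArg (fun f => f.hom (x ⊗ₜ[A] y)) h
  dsimp only at h2
  rw [ModuleCat.hom_comp, LinearMap.comp_apply] at h2
  exact h2


/-- the linear map `y ↦ w (x ⊗ y)` -/
noncomputable def curLin {n : ℤ} (w : Cochain (K ⊗ L) M n) (p q j : ℤ) (h : p + q + n = j)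
    (x : K.X p) : L.X q →ₗ[A] M.X j :=
  (w.v (p + q) j h).hom ∘ₗ (HomologicalComplex.ιTensorObj K L p q (p + q) rfl).hom ∘ₗ
    (TensorProduct.mk A (K.X p) (L.X q) x)

lemma curLin_apply {n : ℤ} (w : Cochain (K ⊗ L) M n) (p q j : ℤ) (h : p + q + n = j)
    (x : K.X p) (y : L.X q) :
    curLin w p q j h x y = (w.v (p + q) j h).hom (ιt K L p q (p + q) rfl x y) := rfl

/-- the cochain `y ↦ w (x ⊗ y)` of degree `p'` -/
noncomputable def curCochain {n : ℤ} (w : Cochain (K ⊗ L) M n) (p p' : ℤ) (hp : p + n = p')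
    (x : K.X p) : Cochain L M p' :=
  Cochain.mk (fun q j hq => ModuleCat.ofHom (curLin w p q j (by omega) x))

lemma curCochain_v {n : ℤ} (w : Cochain (K ⊗ L) M n) (p p' : ℤ) (hp : p + n = p')
    (x : K.X p) (q j : ℤ) (hq : q + p' = j) (i : ℤ) (hpq : p + q = i) (y : L.X q) :
    ((curCochain w p p' hp x).v q j hq).hom y =
      (w.v i j (by omega)).hom (ιt K L p q i hpq x y) := by
  subst hpq
  dsimp only [curCochain]
  rw [Cochain.mk_v]
  rfl

/-- currying of cochains -/
noncomputable def cur {n : ℤ} (w : Cochain (K ⊗ L) M n) : Cochain K (DRing.homCx L M) n :=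
  Cochain.mk (fun p p' hp => ModuleCat.ofHom
    { toFun := fun x => curCochain w p p' hp x
      map_add' := fun x x' => by
        ext q j hq : 1
        apply ModuleCat.hom_ext
        apply LinearMap.ext
        intro y
        rw [Cochain.add_v, ModuleCat.hom_add, LinearMap.add_apply,
          curCochain_v _ _ _ _ _ _ _ _ (p + q) rfl, curCochain_v _ _ _ _ _ _ _ _ (p + q) rfl,
          curCochain_v _ _ _ _ _ _ _ _ (p + q) rfl]
        dsimp only [ιt]
        rw [TensorProduct.add_tmul, map_add, map_add]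
      map_smul' := fun a x => by
        ext q j hq : 1
        apply ModuleCat.hom_ext
        apply LinearMap.ext
        intro y
        rw [RingHom.id_apply, Cochain.smul_v, ModuleCat.hom_smul, LinearMap.smul_apply,
          curCochain_v _ _ _ _ _ _ _ _ (p + q) rfl, curCochain_v _ _ _ _ _ _ _ _ (p + q) rfl]
        dsimp only [ιt]
        rw [← TensorProduct.smul_tmul', map_smul, map_smul] })

lemma cur_v_apply {n : ℤ} (w : Cochain (K ⊗ L) M n) (p p' : ℤ) (hp : p + n = p') (x : K.X p) :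
    (((cur w).v p p' hp).hom x : Cochain L M p') = curCochain w p p' hp x := by
  dsimp only [cur]
  rw [Cochain.mk_v]
  rfl

lemma unc_cur {n : ℤ} (w : Cochain (K ⊗ L) M n) : unc (cur w) = w := by
  ext i j hij : 1
  apply hom_ext_tensor
  intro p q hpq x y
  rw [unc_v_ιt (cur w) p q i j (p + n) hpq hij rfl x y, cur_v_apply,
    curCochain_v _ _ _ _ _ _ _ _ i hpq]

lemma cur_unc {n : ℤ} (z : Cochain K (DRing.homCx L M) n) : cur (unc z) = z := by
  ext p p' hp : 1
  apply ModuleCat.hom_ext
  apply LinearMap.ext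
  intro x
  rw [cur_v_apply]
  apply Cochain.ext
  intro q j hq
  apply ModuleCat.hom_ext
  apply LinearMap.ext
  intro y
  rw [curCochain_v _ _ _ _ _ _ _ _ (p + q) rfl, unc_v_ιt z p q (p + q) j p' rfl (by omega) hp x y]

lemma unc_add {n : ℤ} (z z' : Cochain K (DRing.homCx L M) n) : unc (z + z') = unc z + unc z' := by
  ext i j hij : 1
  apply hom_ext_tensor
  intro p q hpq x y
  rw [Cochain.add_v, ModuleCat.hom_add, LinearMap.add_apply,
    unc_v_ιt _ p q i j (p + n) hpq hij rfl x y, unc_v_ιt _ p q i j (p + n) hpq hij rfl x y,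
    unc_v_ιt _ p q i j (p + n) hpq hij rfl x y, Cochain.add_v, ModuleCat.hom_add,
    LinearMap.add_apply]
  rfl

lemma unc_smul {n : ℤ} (a : A) (z : Cochain K (DRing.homCx L M) n) : unc (a • z) = a • unc z := by
  ext i j hij : 1
  apply hom_ext_tensor
  intro p q hpq x y
  rw [Cochain.smul_v, ModuleCat.hom_smul, LinearMap.smul_apply,
    unc_v_ιt _ p q i j (p + n) hpq hij rfl x y, unc_v_ιt _ p q i j (p + n) hpq hij rfl x y,
    Cochain.smul_v, ModuleCat.hom_smul, LinearMap.smul_apply]
  rfl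

/-- the linear equivalence `Cochain K (Hom•(L, M)) n ≃ Cochain (K ⊗ L) M n` -/
noncomputable def uncEquiv (K L M : DRing.Cx A) (n : ℤ) :
    Cochain K (DRing.homCx L M) n ≃ₗ[A] Cochain (K ⊗ L) M n where
  toFun := unc
  invFun := cur
  map_add' := unc_add
  map_smul' := unc_smul
  left_inv := cur_unc
  right_inv := unc_cur


lemma units_smul_hom_apply {X Y : ModuleCat.{u} A} (f : X ⟶ Y) (a : ℤˣ) (v : X) :
    (a • f).hom v = a • f.hom v := by
  rcases Int.units_eq_one_or a with rfl | rfl
  · simp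
  · simp

lemma ιt_add_left (p q i : ℤ) (h : p + q = i) (x x' : K.X p) (y : L.X q) :
    ιt K L p q i h (x + x') y = ιt K L p q i h x y + ιt K L p q i h x' y := by
  dsimp only [ιt]
  rw [TensorProduct.add_tmul, map_add]

/-- the differential of the tensor product on pure tensors -/
lemma d_ιt (p q i i' : ℤ) (hpq : p + q = i) (hi : i + 1 = i') (x : K.X p) (y : L.X q) :
    ((K ⊗ L : DRing.Cx A).d i i').hom (ιt K L p q i hpq x y) =
      ιt K L (p + 1) q i' (by omega) ((K.d p (p + 1)).hom x) y +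
        (p.negOnePow : ℤˣ) • ιt K L p (q + 1) i' (by omega) x ((L.d q (q + 1)).hom y) := by
  have h := Groth.Agent.Lib.BifCone.ι_d (T A) L (K₁ := K) p q i i' (p + 1) (q + 1) hpq hi rfl rfl
  have h2 := congrArg (fun f => f.hom (x ⊗ₜ[A] y)) h
  rw [ModuleCat.hom_comp, LinearMap.comp_apply] at h2
  refine h2.trans ?_
  rw [ModuleCat.hom_add, LinearMap.add_apply, units_smul_hom_apply, ModuleCat.hom_comp,
    ModuleCat.hom_comp, LinearMap.comp_apply, LinearMap.comp_apply]
  rfl

lemma unc_zero {n : ℤ} : unc (0 : Cochain K (DRing.homCx L M) n) = 0 :=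
  (uncEquiv K L M n).map_zero

/-- the value of a cochain with values in `Hom•(L, M)` at an element, as a cochain -/
noncomputable def zx {n : ℤ} (z : Cochain K (DRing.homCx L M) n) (p p' : ℤ) (hp : p + n = p')
    (x : K.X p) : Cochain L M p' := (z.v p p' hp).hom x

lemma unc_v_ιt' {n : ℤ} (z : Cochain K (DRing.homCx L M) n) (p q i j p' : ℤ) (hpq : p + q = i)
    (hij : i + n = j) (hp' : p + n = p') (x : K.X p) (y : L.X q) :
    ((unc z).v i j hij).hom (ιt K L p q i hpq x y) =
      ((zx z p p' hp' x).v q j (by omega)).hom y :=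
  unc_v_ιt z p q i j p' hpq hij hp' x y

lemma zx_δ (n : ℤ) (z : Cochain K (DRing.homCx L M) n) (p p' p'' : ℤ) (hp' : p + n = p')
    (hp'' : p + (n + 1) = p'') (x : K.X p) :
    zx (δ n (n + 1) z) p p'' hp'' x = δ p' p'' (zx z p p' hp' x) +
      ((n + 1).negOnePow : ℤˣ) • zx z (p + 1) p'' (by omega) ((K.d p (p + 1)).hom x) := by
  dsimp only [zx]
  rw [δ_v n (n + 1) rfl z p p'' hp'' p' (p + 1) (by omega) rfl]
  rw [ModuleCat.hom_add, LinearMap.add_apply, units_smul_hom_apply, ModuleCat.hom_comp,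
    ModuleCat.hom_comp, LinearMap.comp_apply, LinearMap.comp_apply]
  rfl

/-- `unc` commutes with the differentials (no sign) -/
lemma δ_unc (n m : ℤ) (z : Cochain K (DRing.homCx L M) n) : δ n m (unc z) = unc (δ n m z) := by
  by_cases hnm : n + 1 = m
  swap
  · rw [δ_shape _ _ hnm, δ_shape _ _ hnm, unc_zero]
  subst hnm
  ext i j hij : 1
  apply hom_ext_tensor
  intro p q hpq x y
  obtain rfl : j = i + (n + 1) := by omega
  rw [unc_v_ιt' (δ n (n + 1) z) p q i (i + (n + 1)) (p + (n + 1)) hpq rfl rfl x y,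
    zx_δ n z p (p + n) (p + (n + 1)) rfl rfl x]
  rw [δ_v n (n + 1) rfl (unc z) i (i + (n + 1)) rfl (i + n) (i + 1) (by omega) rfl]
  rw [ModuleCat.hom_add, LinearMap.add_apply, units_smul_hom_apply, ModuleCat.hom_comp,
    ModuleCat.hom_comp, LinearMap.comp_apply, LinearMap.comp_apply,
    d_ιt p q i (i + 1) hpq rfl x y, map_add,
    unc_v_ιt' z p q i (i + n) (p + n) hpq rfl rfl x y,
    unc_v_ιt' z (p + 1) q (i + 1) (i + (n + 1)) (p + (n + 1)) (by omega) (by omega) (by omega)
      ((K.d p (p + 1)).hom x) y]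
  have e1 : ((unc z).v (i + 1) (i + (n + 1)) (by omega)).hom
      ((p.negOnePow : ℤˣ) • ιt K L p (q + 1) (i + 1) (by omega) x ((L.d q (q + 1)).hom y)) =
      (p.negOnePow : ℤˣ) • ((zx z p (p + n) rfl x).v (q + 1)
        (i + (n + 1)) (by omega)).hom ((L.d q (q + 1)).hom y) := by
    rw [Units.smul_def, map_zsmul, ← Units.smul_def,
      unc_v_ιt' z p (q + 1) (i + 1) (i + (n + 1)) (p + n) (by omega) (by omega) rfl x
        ((L.d q (q + 1)).hom y)]
  rw [e1]
  rw [Cochain.add_v, ModuleCat.hom_add, LinearMap.add_apply, Cochain.units_smul_v,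
    units_smul_hom_apply,
    δ_v (p + n) (p + (n + 1)) (by omega) _ q (i + (n + 1)) (by omega) (i + n) (q + 1) (by omega) rfl,
    ModuleCat.hom_add, LinearMap.add_apply, units_smul_hom_apply, ModuleCat.hom_comp,
    ModuleCat.hom_comp, LinearMap.comp_apply, LinearMap.comp_apply]
  have hs : ((n + 1).negOnePow : ℤˣ) * p.negOnePow = (p + (n + 1)).negOnePow := by
    rw [← Int.negOnePow_add, add_comm]
  rw [smul_add, smul_smul, hs]
  abel

/-- **`Hom•(K, Hom•(L, M)) ≅ Hom•(K ⊗ L, M)`** -/
noncomputable def homHomIso (K L M : DRing.Cx A) :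
    DRing.homCx K (DRing.homCx L M) ≅ DRing.homCx (K ⊗ L) M :=
  HomologicalComplex.Hom.isoOfComponents (fun n => (uncEquiv K L M n).toModuleIso) (by
    intro i j _
    apply ModuleCat.hom_ext
    apply LinearMap.ext
    intro z
    exact δ_unc i j z)

end Groth.Agent.Lib.HomCx
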