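import Mathlib
import Groth.Prelude.Def_DRing4
import Groth.Agent.Lib.HomCx_helper2

/-!
# The Hom complex, II: naturality, the adjunction `- ⊗ P ⊣ Hom•(P, -)`, K-projective sources (helper2)
-/

set_option autoImplicit false
universe u
open CategoryTheory Limits MonoidalCategory CochainComplex CochainComplex.HomComplex

namespace Groth.Agent.Lib.HomCx

open Groth.Agent.Lib.KFlatMod

variable {A : Type u} [CommRing A]

section Whisker

variable {K K' L L' : DRing.Cx A}

lemma tensorHom_ιt (f : K' ⟶ K) (g : L' ⟶ L) (p q i : ℤ) (h : p + q = i) (x : K'.X p)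
    (y : L'.X q) :
    ((f ⊗ₘ g).f i).hom (ιt K' L' p q i h x y) = ιt K L p q i h ((f.f p).hom x) ((g.f q).hom y) := by
  have h1 := HomologicalComplex.ι_mapBifunctorMap f g (T A) (ComplexShape.up ℤ) p q i h
  have h2 := congrArg (fun φ => φ.hom (x ⊗ₜ[A] y)) h1
  rw [ModuleCat.hom_comp, LinearMap.comp_apply] at h2
  refine h2.trans ?_
  rw [ModuleCat.hom_comp, ModuleCat.hom_comp, LinearMap.comp_apply, LinearMap.comp_apply]
  rfl

lemma whiskerRight_ιt (f : K' ⟶ K) (L : DRing.Cx A) (p q i : ℤ) (h : p + q = i) (x : K'.X p)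
    (y : L.X q) :
    ((f ▷ L).f i).hom (ιt K' L p q i h x y) = ιt K L p q i h ((f.f p).hom x) y := by
  rw [← MonoidalCategory.tensorHom_id, tensorHom_ιt]
  rfl

lemma whiskerLeft_ιt (K : DRing.Cx A) (g : L' ⟶ L) (p q i : ℤ) (h : p + q = i) (x : K.X p)
    (y : L'.X q) :
    ((K ◁ g).f i).hom (ιt K L' p q i h x y) = ιt K L p q i h x ((g.f q).hom y) := by
  rw [← MonoidalCategory.id_tensorHom, tensorHom_ιt]
  rfl

end Whisker

section Pre

variable {L L' : DRing.Cx A}

/-- precomposition with `f` as a linear map on cochains -/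
noncomputable def precompLin (f : L' ⟶ L) (M : DRing.Cx A) (i : ℤ) :
    Cochain L M i →ₗ[A] Cochain L' M i where
  toFun z := (Cochain.ofHom f).comp z (zero_add i)
  map_add' z z' := by simp
  map_smul' a z := by simp

/-- `Hom•(f, M) : Hom•(L, M) ⟶ Hom•(L', M)` -/
noncomputable def homCxPre (f : L' ⟶ L) (M : DRing.Cx A) : DRing.homCx L M ⟶ DRing.homCx L' M where
  f i := ModuleCat.ofHom (precompLin f M i)
  comm' i j _ := by
    ext z
    change δ i j ((Cochain.ofHom f).comp z (zero_add i)) = (Cochain.ofHom f).comp (δ i j z) (zero_add j)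
    exact δ_ofHom_comp f z j

lemma homCxPre_f_apply (f : L' ⟶ L) (M : DRing.Cx A) (i : ℤ) (z : Cochain L M i) :
    (((homCxPre f M).f i).hom z : Cochain L' M i) = (Cochain.ofHom f).comp z (zero_add i) := rfl

lemma homCxMap_f_apply (P : DRing.Cx A) {M M' : DRing.Cx A} (g : M ⟶ M') (i : ℤ)
    (z : Cochain P M i) :
    (((DRing.homCxMap P g).f i).hom z : Cochain P M' i) = z.comp (Cochain.ofHom g) (add_zero i) :=
  rfl

end Pre

section Naturality

variable {K K' L L' M M' : DRing.Cx A}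

lemma unc_ofHom_comp {n : ℤ} (f : K' ⟶ K) (z : Cochain K (DRing.homCx L M) n) :
    unc ((Cochain.ofHom f).comp z (zero_add n)) = (Cochain.ofHom (f ▷ L)).comp (unc z) (zero_add n) := by
  ext i j hij : 1
  apply hom_ext_tensor
  intro p q hpq x y
  rw [unc_v_ιt _ p q i j (p + n) hpq hij rfl x y, Cochain.zero_cochain_comp_v,
    Cochain.zero_cochain_comp_v, Cochain.ofHom_v, Cochain.ofHom_v, ModuleCat.hom_comp,
    LinearMap.comp_apply, ModuleCat.hom_comp, LinearMap.comp_apply, whiskerRight_ιt,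
    unc_v_ιt _ p q i j (p + n) hpq hij rfl]

lemma unc_comp_ofHom {n : ℤ} (z : Cochain K (DRing.homCx L M) n) (g : M ⟶ M') :
    unc (z.comp (Cochain.ofHom (DRing.homCxMap L g)) (add_zero n)) =
      (unc z).comp (Cochain.ofHom g) (add_zero n) := by
  ext i j hij : 1
  apply hom_ext_tensor
  intro p q hpq x y
  rw [unc_v_ιt _ p q i j (p + n) hpq hij rfl x y, Cochain.comp_zero_cochain_v,
    Cochain.comp_zero_cochain_v, Cochain.ofHom_v, Cochain.ofHom_v, ModuleCat.hom_comp,
    LinearMap.comp_apply, ModuleCat.hom_comp, LinearMap.comp_apply, homCxMap_f_apply,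
    Cochain.comp_zero_cochain_v, Cochain.ofHom_v, ModuleCat.hom_comp, LinearMap.comp_apply,
    unc_v_ιt _ p q i j (p + n) hpq hij rfl]

lemma unc_comp_pre {n : ℤ} (z : Cochain K (DRing.homCx L M) n) (h : L' ⟶ L) :
    unc (z.comp (Cochain.ofHom (homCxPre h M)) (add_zero n)) =
      (Cochain.ofHom (K ◁ h)).comp (unc z) (zero_add n) := by
  ext i j hij : 1
  apply hom_ext_tensor
  intro p q hpq x y
  rw [unc_v_ιt _ p q i j (p + n) hpq hij rfl x y, Cochain.comp_zero_cochain_v,
    Cochain.zero_cochain_comp_v, Cochain.ofHom_v, Cochain.ofHom_v, ModuleCat.hom_comp,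
    LinearMap.comp_apply, ModuleCat.hom_comp, LinearMap.comp_apply, homCxPre_f_apply,
    Cochain.zero_cochain_comp_v, Cochain.ofHom_v, ModuleCat.hom_comp, LinearMap.comp_apply,
    whiskerLeft_ιt, unc_v_ιt _ p q i j (p + n) hpq hij rfl]

lemma δ_cur (n m : ℤ) (w : Cochain (K ⊗ L) M n) : δ n m (cur w) = cur (δ n m w) := by
  apply (uncEquiv K L M m).injective
  show unc (δ n m (cur w)) = unc (cur (δ n m w))
  rw [← δ_unc, unc_cur, unc_cur]

end Naturality

section Adjunction

/-- the bijection `Hom(K ⊗ P, L) ≃ Hom(K, Hom•(P, L))` -/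
noncomputable def homEquivC (K P L : DRing.Cx A) : (K ⊗ P ⟶ L) ≃ (K ⟶ DRing.homCx P L) where
  toFun g := Cocycle.homOf (Cocycle.mk (cur (Cochain.ofHom g)) 1 (zero_add 1) (by
    rw [δ_cur, δ_ofHom]
    exact (uncEquiv K P L 1).symm.map_zero))
  invFun h := Cocycle.homOf (Cocycle.mk (unc (Cochain.ofHom h)) 1 (zero_add 1) (by
    rw [δ_unc, δ_ofHom, unc_zero]))
  left_inv g := by
    apply Cochain.ofHom_injective
    rw [Cocycle.cochain_ofHom_homOf_eq_coe, Cocycle.mk_coe, Cocycle.cochain_ofHom_homOf_eq_coe,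
      Cocycle.mk_coe, unc_cur]
  right_inv h := by
    apply Cochain.ofHom_injective
    rw [Cocycle.cochain_ofHom_homOf_eq_coe, Cocycle.mk_coe, Cocycle.cochain_ofHom_homOf_eq_coe,
      Cocycle.mk_coe, cur_unc]

lemma ofHom_homEquivC_symm {K P L : DRing.Cx A} (h : K ⟶ DRing.homCx P L) :
    Cochain.ofHom ((homEquivC K P L).symm h) = unc (Cochain.ofHom h) := by
  show Cochain.ofHom (Cocycle.homOf _) = _
  rw [Cocycle.cochain_ofHom_homOf_eq_coe, Cocycle.mk_coe]

lemma ofHom_homEquivC {K P L : DRing.Cx A} (g : K ⊗ P ⟶ L) :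
    Cochain.ofHom (homEquivC K P L g) = cur (Cochain.ofHom g) := by
  show Cochain.ofHom (Cocycle.homOf _) = _
  rw [Cocycle.cochain_ofHom_homOf_eq_coe, Cocycle.mk_coe]

lemma homEquivC_symm_naturality_left {K' K P L : DRing.Cx A} (f : K' ⟶ K)
    (g : K ⟶ DRing.homCx P L) :
    (homEquivC K' P L).symm (f ≫ g) = (f ▷ P) ≫ (homEquivC K P L).symm g := by
  apply Cochain.ofHom_injective
  rw [ofHom_homEquivC_symm, Cochain.ofHom_comp, unc_ofHom_comp, Cochain.ofHom_comp,
    ofHom_homEquivC_symm]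

lemma homEquivC_naturality_right {K P L L' : DRing.Cx A} (f : K ⊗ P ⟶ L) (g : L ⟶ L') :
    homEquivC K P L' (f ≫ g) = homEquivC K P L f ≫ DRing.homCxMap P g := by
  apply Cochain.ofHom_injective
  apply (uncEquiv K P L' 0).injective
  show unc _ = unc _
  rw [ofHom_homEquivC, unc_cur, Cochain.ofHom_comp, Cochain.ofHom_comp, unc_comp_ofHom,
    ofHom_homEquivC, unc_cur]

/-- **the adjunction `- ⊗ P ⊣ Hom•(P, -)` on complexes** -/
noncomputable def adjC (P : DRing.Cx A) : tensorRight P ⊣ DRing.homCxFunctor P :=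
  Adjunction.mkOfHomEquiv
    { homEquiv := fun K L => homEquivC K P L
      homEquiv_naturality_left_symm := by
        intro K' K L f g
        exact homEquivC_symm_naturality_left f g
      homEquiv_naturality_right := by
        intro K L L' f g
        exact homEquivC_naturality_right f g }

/-- evaluation `Hom•(P, L) ⊗ P ⟶ L` -/
noncomputable def ev₀ (P L : DRing.Cx A) : DRing.homCx P L ⊗ P ⟶ L := (adjC P).counit.app L

lemma ofHom_ev₀ (P L : DRing.Cx A) :
    Cochain.ofHom (ev₀ P L) = unc (Cochain.ofHom (𝟙 (DRing.homCx P L))) := by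
  show Cochain.ofHom ((homEquivC _ P L).symm (𝟙 _)) = _
  exact ofHom_homEquivC_symm _

/-- dinaturality of the evaluation -/
lemma ev₀_dinat {P P' : DRing.Cx A} (f : P' ⟶ P) (L : DRing.Cx A) :
    (DRing.homCx P L ◁ f) ≫ ev₀ P L = (homCxPre f L ▷ P') ≫ ev₀ P' L := by
  apply Cochain.ofHom_injective
  rw [Cochain.ofHom_comp, Cochain.ofHom_comp, ofHom_ev₀, ofHom_ev₀, ← unc_comp_pre,
    ← unc_ofHom_comp, Cochain.id_comp, Cochain.comp_id]

end Adjunction

end Groth.Agent.Lib.HomCx
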