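import Mathlib
import Groth.Prelude.Def_DRing4
import Groth.Agent.Lib.HomCx2_helper2

/-!
# The dual `Hom•(P, A)` of a complex of finite projective modules; double duality (helper2)

* `S0 A`: `A` in degree `0`.
* `κ K n p h : Cochain K (S0 A) n ≃ₗ[A] (K.X p →ₗ[A] A)` for `p + n = 0`.
* `κ_δ`: the differential of `Hom•(K, A)` through `κ`.
* `dual P = Hom•(P, A)`: `dual_finite_projective`, `dual_isZero`.
* `ddIso`: `P ≅ Hom•(Hom•(P, A), A)` for `P` termwise finite projective.
-/

set_option autoImplicit false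
universe u
open CategoryTheory Limits CochainComplex CochainComplex.HomComplex

namespace Groth.Agent.Lib.DualCx

variable (A : Type u) [CommRing A]

/-- `A` in degree `0` -/
noncomputable abbrev S0 : DRing.Cx A :=
  (CochainComplex.singleFunctor (ModuleCat.{u} A) 0).obj (ModuleCat.of A A)

/-- the degree `0` term of `S0 A` -/
noncomputable abbrev i0 : (S0 A).X 0 ≅ ModuleCat.of A A :=
  HomologicalComplex.singleObjXSelf (ComplexShape.up ℤ) 0 (ModuleCat.of A A)

variable {A}

/-- cochains of degree `n` to `A[0]` are linear forms on `K^p`, `p + n = 0` -/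
noncomputable def κ (K : DRing.Cx A) (n p : ℤ) (h : p + n = 0) :
    Cochain K (S0 A) n ≃ₗ[A] (K.X p →ₗ[A] A) where
  toFun α := (α.v p 0 h ≫ (i0 A).hom).hom
  invFun f := Cochain.toSingleMk (ModuleCat.ofHom f) h
  left_inv α := (Cochain.toSingleEquiv (X := ModuleCat.of A A) (K := K) h).left_inv α
  right_inv f := congrArg ModuleCat.Hom.hom
    (Cochain.toSingleEquiv_toSingleMk (K := K) (X := ModuleCat.of A A) (ModuleCat.ofHom f) h)
  map_add' α β := by
    rw [Cochain.add_v, Preadditive.add_comp, ModuleCat.hom_add]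
  map_smul' a α := by
    rw [Cochain.smul_v, Linear.smul_comp, ModuleCat.hom_smul]
    rfl

lemma κ_apply (K : DRing.Cx A) (n p : ℤ) (h : p + n = 0) (α : Cochain K (S0 A) n) (x : K.X p) :
    κ K n p h α x = (α.v p 0 h ≫ (i0 A).hom).hom x := rfl

lemma κ_δ (K : DRing.Cx A) (n m p p' : ℤ) (hnm : n + 1 = m) (hp : p + m = 0) (hp' : p' + n = 0)
    (z : Cochain K (S0 A) n) (x : K.X p) :
    κ K m p hp (δ n m z) x = m.negOnePow • κ K n p' hp' z (K.d p p' x) := by
  rw [κ_apply, κ_apply, δ_v n m hnm z p 0 hp (-1) p' (by omega) (by omega)]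
  have hd : (S0 A).d (-1) 0 = 0 := rfl
  rw [hd, comp_zero, zero_add, Linear.units_smul_comp, Category.assoc]
  rfl

section Dual

variable (P : DRing.Cx A)

/-- the dual complex `Hom•(P, A)` -/
noncomputable abbrev dual : DRing.Cx A := DRing.homCx P (S0 A)

lemma dual_finite_projective (n : ℤ)
    (hP : Module.Finite A (P.X (-n)) ∧ Module.Projective A (P.X (-n))) :
    Module.Finite A ((dual P).X n) ∧ Module.Projective A ((dual P).X n) := by
  haveI := hP.1
  haveI := hP.2
  have e : (P.X (-n) →ₗ[A] A) ≃ₗ[A] Cochain P (S0 A) n := (κ P n (-n) (by omega)).symm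
  have h1 : Module.Finite A (Module.Dual A (P.X (-n))) := inferInstance
  have h2 : Module.Projective A (Module.Dual A (P.X (-n))) := inferInstance
  exact ⟨Module.Finite.equiv e, Module.Projective.of_equiv e⟩

lemma dual_isZero (n : ℤ) (h : IsZero (P.X (-n))) : IsZero ((dual P).X n) := by
  haveI : Subsingleton (P.X (-n)) := ModuleCat.subsingleton_of_isZero h
  haveI : Subsingleton (P.X (-n) →ₗ[A] A) :=
    ⟨fun f g => LinearMap.ext fun x => by rw [Subsingleton.elim x 0, map_zero, map_zero]⟩
  have hs : Subsingleton (Cochain P (S0 A) n) := (κ P n (-n) (by omega)).toEquiv.subsingleton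
  haveI : Subsingleton ((dual P).X n) := hs
  exact ModuleCat.isZero_of_subsingleton _

/-- the termwise double duality isomorphism (with the sign making it a morphism of complexes) -/
noncomputable def ddEquiv (n : ℤ)
    (hP : Module.Finite A (P.X n) ∧ Module.Projective A (P.X n)) :
    P.X n ≃ₗ[A] Cochain (dual P) (S0 A) n :=
  haveI := hP.1
  haveI := hP.2
  (DistribMulAction.toLinearEquiv A (P.X n) (n.negOnePow : ℤˣ)) ≪≫ₗ
    (Module.evalEquiv A (P.X n)) ≪≫ₗ
    (κ P (-n) n (by omega)).dualMap ≪≫ₗ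
    ((κ (dual P) n (-n) (by omega) :
      Cochain (dual P) (S0 A) n ≃ₗ[A] (Cochain P (S0 A) (-n) →ₗ[A] A))).symm

lemma ddEquiv_apply (n : ℤ) (hP : Module.Finite A (P.X n) ∧ Module.Projective A (P.X n))
    (x : P.X n) (α : Cochain P (S0 A) (-n)) :
    κ (dual P) n (-n) (by omega) (ddEquiv P n hP x) α =
      n.negOnePow • κ P (-n) n (by omega) α x := by
  haveI := hP.1
  haveI := hP.2
  have h1 : (κ (dual P) n (-n) (by omega) (ddEquiv P n hP x) :
        Cochain P (S0 A) (-n) →ₗ[A] A) =
      (κ P (-n) n (by omega)).dualMap (Module.evalEquiv A (P.X n) ((n.negOnePow : ℤˣ) • x)) :=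
    LinearEquiv.apply_symm_apply _ _
  have h2 : ((κ P (-n) n (by omega)).dualMap
      (Module.evalEquiv A (P.X n) ((n.negOnePow : ℤˣ) • x))) α =
      n.negOnePow • κ P (-n) n (by omega) α x := by
    rw [LinearEquiv.dualMap_apply, Module.evalEquiv_apply, Module.Dual.eval_apply]
    rw [Units.smul_def, Units.smul_def, map_zsmul]
  exact (LinearMap.congr_fun h1 α).trans h2

/-- **double duality**: `P ≅ Hom•(Hom•(P, A), A)` for `P` termwise finite projective -/
noncomputable def ddIso (hP : ∀ n : ℤ, Module.Finite A (P.X n) ∧ Module.Projective A (P.X n)) :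
    P ≅ DRing.homCx (dual P) (S0 A) :=
  HomologicalComplex.Hom.isoOfComponents (fun n => (ddEquiv P n (hP n)).toModuleIso) (by
    intro n n' hnn'
    obtain rfl : n + 1 = n' := hnn'
    refine ModuleCat.hom_ext (LinearMap.ext fun x => ?_)
    show δ n (n + 1) (ddEquiv P n (hP n) x) = ddEquiv P (n + 1) (hP (n + 1)) (P.d n (n + 1) x)
    apply (κ (dual P) (n + 1) (-(n + 1)) (by omega)).injective
    refine LinearMap.ext fun (β : Cochain P (S0 A) (-(n + 1))) => ?_
    rw [ddEquiv_apply]
    have h1 := κ_δ (dual P) n (n + 1) (-(n + 1)) (-n) rfl (by omega) (by omega)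
      (ddEquiv P n (hP n) x) β
    have h2 : (dual P).d (-(n + 1)) (-n) β = δ (-(n + 1)) (-n) β := rfl
    rw [h2, ddEquiv_apply] at h1
    have h3 := κ_δ P (-(n + 1)) (-n) n (n + 1) (by omega) (by omega) (by omega) β x
    rw [h3] at h1
    rw [h1, smul_smul, smul_smul, Int.negOnePow_neg, mul_assoc, Int.units_mul_self, mul_one])

end Dual

end Groth.Agent.Lib.DualCx
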