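import Mathlib
import Groth.Prelude.Def_DRing4
import Groth.Prelude.Def_DerCA
import Groth.Agent.Lib.HomCx2_helper2
import Groth.Agent.Lib.DualCx_helper2

/-!
# Chain-level lemmas for derived completion via the extended Cech complex (helper2)

* `sesCocone φ J`: the short exact sequence of complexes
  `0 → Hom•(X, J) → Hom•(cocone φ, J) → Hom•(Y, J)[1]' → 0` for `φ : X ⟶ Y`.
* `ActsBij f Y`: `f` acts bijectively on every term of `Y`; stability under `Hom•(-, J)`.
* `ev1Iso J : Hom•(A[0], J) ≅ J`.
-/

set_option autoImplicit false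
universe u
open CategoryTheory Limits CochainComplex CochainComplex.HomComplex

namespace Groth.Agent.Lib.DerCompl

open Groth.Agent.Lib.HomCx Groth.Agent.Lib.DualCx

variable {A : Type u} [CommRing A]

section Cocone

variable {X Y : DRing.Cx A} (φ : X ⟶ Y) (J : DRing.Cx A)

open CochainComplex.mappingCocone

lemma inl_comp_fst :
    (inl φ).comp (Cochain.ofHom (fst φ)) (add_zero 0) = Cochain.ofHom (𝟙 X) := by
  apply Cochain.ext₀
  intro p
  rw [Cochain.comp_zero_cochain_v, Cochain.ofHom_v, Cochain.ofHom_v, inl_v_fst_f]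
  rfl

lemma inr_comp_fst :
    (inr φ).1.comp (Cochain.ofHom (fst φ)) (add_zero 1) = 0 := by
  ext p q hpq
  rw [Cochain.comp_zero_cochain_v, Cochain.ofHom_v, inr_v_fst_f, Cochain.zero_v]

lemma inr_comp_snd :
    (inr φ).1.comp (snd φ) (add_neg_cancel 1) = Cochain.ofHom (𝟙 Y) := by
  apply Cochain.ext₀
  intro p
  rw [Cochain.comp_v _ _ (add_neg_cancel 1) p (p + 1) p rfl (by omega), inr_v_snd_v,
    Cochain.ofHom_v]
  rfl

lemma fst_inl_add_snd_inr :
    (Cochain.ofHom (fst φ)).comp (inl φ) (zero_add 0) +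
      (snd φ).comp (inr φ).1 (neg_add_cancel 1) = Cochain.ofHom (𝟙 (mappingCocone φ)) := by
  apply Cochain.ext₀
  intro p
  rw [Cochain.add_v, Cochain.zero_cochain_comp_v, Cochain.ofHom_v,
    Cochain.comp_v _ _ (neg_add_cancel 1) p (p + -1) p rfl (by omega), Cochain.ofHom_v,
    id_X φ p (p + -1) rfl]
  rfl

/-- `Hom•(Y, J)` shifted by one (without sign change of the differential) -/
noncomputable def homSh (Y J : DRing.Cx A) : DRing.Cx A where
  X n := ModuleCat.of A (Cochain Y J (n + 1))
  d i j := ModuleCat.ofHom (δ_hom A Y J (i + 1) (j + 1))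
  shape i j hij := by
    have h : ¬ (i + 1) + 1 = j + 1 := fun h => hij (by simp only [ComplexShape.up_Rel]; omega)
    refine ModuleCat.hom_ext (LinearMap.ext fun z => ?_)
    exact δ_shape _ _ h z
  d_comp_d' _ _ _ _ _ := by ext; simp [δ_δ]

/-- composition with `inr` as a linear map on cochains -/
noncomputable def inrLin (n : ℤ) :
    Cochain (mappingCocone φ) J n →ₗ[A] Cochain Y J (n + 1) where
  toFun z := (inr φ).1.comp z (add_comm 1 n)
  map_add' z z' := by simp
  map_smul' a z := by simp

/-- the map `Hom•(cocone φ, J) ⟶ Hom•(Y, J)[1]'` -/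
noncomputable def gMap : DRing.homCx (mappingCocone φ) J ⟶ homSh Y J where
  f n := ModuleCat.ofHom (inrLin φ J n)
  comm' i j hij := by
    obtain rfl : i + 1 = j := hij
    refine ModuleCat.hom_ext (LinearMap.ext fun (z : Cochain (mappingCocone φ) J i) => ?_)
    show δ (i + 1) (i + 1 + 1) ((inr φ).1.comp z (add_comm 1 i)) =
      (inr φ).1.comp (δ i (i + 1) z) (add_comm 1 (i + 1))
    rw [δ_comp (inr φ).1 z (add_comm 1 i) 2 (i + 1) (i + 1 + 1) rfl rfl rfl,
      (inr φ).δ_eq_zero 2, Cochain.zero_comp, smul_zero, add_zero]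

/-- the short complex `Hom•(X, J) → Hom•(cocone φ, J) → Hom•(Y, J)[1]'` -/
noncomputable def sesCocone : ShortComplex (DRing.Cx A) :=
  ShortComplex.mk (homCxPre (fst φ) J) (gMap φ J) (by
    refine HomologicalComplex.hom_ext _ _ fun n => ModuleCat.hom_ext
      (LinearMap.ext fun (z : Cochain X J n) => ?_)
    show (inr φ).1.comp ((Cochain.ofHom (fst φ)).comp z (zero_add n)) (add_comm 1 n) = 0
    rw [← Cochain.comp_assoc_of_second_is_zero_cochain, inr_comp_fst, Cochain.zero_comp])

theorem sesCocone_shortExact : (sesCocone φ J).ShortExact := by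
  apply HomologicalComplex.shortExact_of_degreewise_shortExact
  intro n
  apply ModuleCat.shortComplex_shortExact
  · intro (z : Cochain (mappingCocone φ) J n)
    constructor
    · intro hz
      have hz' : (inr φ).1.comp z (add_comm 1 n) = 0 := hz
      refine ⟨(inl φ).comp z (zero_add n), ?_⟩
      show (Cochain.ofHom (fst φ)).comp ((inl φ).comp z (zero_add n)) (zero_add n) = z
      have h1 : z = (Cochain.ofHom (𝟙 (mappingCocone φ))).comp z (zero_add n) :=
        (Cochain.id_comp z).symm
      rw [← fst_inl_add_snd_inr, Cochain.add_comp,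
        Cochain.comp_assoc_of_first_is_zero_cochain,
        Cochain.comp_assoc (snd φ) (inr φ).1 z (neg_add_cancel 1) (add_comm 1 n) (by omega),
        hz', Cochain.comp_zero, add_zero] at h1
      exact h1.symm
    · rintro ⟨(w : Cochain X J n), rfl⟩
      show (inr φ).1.comp ((Cochain.ofHom (fst φ)).comp w (zero_add n)) (add_comm 1 n) = 0
      rw [← Cochain.comp_assoc_of_second_is_zero_cochain, inr_comp_fst, Cochain.zero_comp]
  · intro (z : Cochain X J n) (z' : Cochain X J n) h
    have h' : (Cochain.ofHom (fst φ)).comp z (zero_add n) =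
        (Cochain.ofHom (fst φ)).comp z' (zero_add n) := h
    have h2 := congrArg (fun t => (inl φ).comp t (zero_add n)) h'
    simp only [← Cochain.comp_assoc_of_first_is_zero_cochain, inl_comp_fst,
      Cochain.id_comp] at h2
    exact h2
  · intro (w : Cochain Y J (n + 1))
    refine ⟨(snd φ).comp w (by omega), ?_⟩
    show (inr φ).1.comp ((snd φ).comp w _) (add_comm 1 n) = w
    rw [← Cochain.comp_assoc (inr φ).1 (snd φ) w (add_neg_cancel 1) (by omega) (by omega),
      inr_comp_snd, Cochain.id_comp]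

end Cocone

section ActsBij

/-- `f` acts bijectively on every term of `Y` -/
def ActsBij (f : A) (Y : DRing.Cx A) : Prop :=
  ∀ p : ℤ, Function.Bijective (fun y : Y.X p => f • y)

/-- multiplication by `f` as an automorphism of a module on which it acts bijectively -/
noncomputable def smulIso (f : A) (M : ModuleCat.{u} A)
    (h : Function.Bijective (fun y : M => f • y)) : M ≅ M :=
  (LinearEquiv.ofBijective (f • (LinearMap.id : M →ₗ[A] M)) h).toModuleIso

lemma smulIso_hom_comp (f : A) {M N : ModuleCat.{u} A}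
    (h : Function.Bijective (fun y : M => f • y)) (g : M ⟶ N) :
    (smulIso f M h).hom ≫ g = f • g := by
  refine ModuleCat.hom_ext (LinearMap.ext fun y => ?_)
  show g.hom (f • y) = f • g.hom y
  exact g.hom.map_smul f y

lemma bijective_smul_cochain (f : A) (Y J : DRing.Cx A) (hY : ActsBij f Y) (n : ℤ) :
    Function.Bijective (fun z : Cochain Y J n => f • z) := by
  constructor
  · intro z z' h
    refine Cochain.ext _ _ fun p q hpq => ?_
    have h1 := Cochain.congr_v h p q hpq
    simp only [Cochain.smul_v] at h1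
    rw [← smulIso_hom_comp f (hY p), ← smulIso_hom_comp f (hY p)] at h1
    exact (cancel_epi _).1 h1
  · intro w
    refine ⟨Cochain.mk (fun p q hpq => (smulIso f (Y.X p) (hY p)).inv ≫ w.v p q hpq), ?_⟩
    refine Cochain.ext _ _ fun p q hpq => ?_
    show (f • Cochain.mk _).v p q hpq = _
    rw [Cochain.smul_v, Cochain.mk_v, ← smulIso_hom_comp f (hY p), Iso.hom_inv_id_assoc]

lemma actsBij_homCx (f : A) (Y J : DRing.Cx A) (hY : ActsBij f Y) :
    ActsBij f (DRing.homCx Y J) := fun n => bijective_smul_cochain f Y J hY n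

lemma actsBij_homSh (f : A) (Y J : DRing.Cx A) (hY : ActsBij f Y) :
    ActsBij f (homSh Y J) := fun n => bijective_smul_cochain f Y J hY (n + 1)

lemma actsBij_locCx (f : A) (X : DRing.Cx A) :
    ActsBij f ((DerCA.locCx (Submonoid.powers f)).obj X) := by
  intro p
  have h := IsLocalizedModule.map_units
    (LocalizedModule.mkLinearMap (Submonoid.powers f) (X.X p)) ⟨f, Submonoid.mem_powers f⟩
  rw [Module.End.isUnit_iff] at h
  exact h

end ActsBij

section Unit

/-- evaluation at `1`: `Hom^n(A[0], J) ≃ J^n` -/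
noncomputable def ev1 (J : DRing.Cx A) (n : ℤ) : Cochain (S0 A) J n ≃ₗ[A] J.X n where
  toFun α := ((i0 A).inv ≫ α.v 0 n (zero_add n)).hom (1 : A)
  invFun x := Cochain.fromSingleMk (ModuleCat.ofHom (LinearMap.toSpanSingleton A (J.X n) x))
    (zero_add n)
  left_inv α := by
    have h1 := (Cochain.fromSingleEquiv (X := ModuleCat.of A A) (K := J) (zero_add n)).left_inv α
    have key : ∀ g : ModuleCat.of A A ⟶ J.X n,
        ModuleCat.ofHom (LinearMap.toSpanSingleton A (J.X n) (g.hom (1 : A))) = g := fun g =>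
      ModuleCat.hom_ext (by
        rw [ModuleCat.hom_ofHom]
        exact LinearMap.ext_ring (by simp [LinearMap.toSpanSingleton_apply]))
    show Cochain.fromSingleMk (ModuleCat.ofHom (LinearMap.toSpanSingleton A (J.X n)
      (((i0 A).inv ≫ α.v 0 n (zero_add n)).hom (1 : A)))) (zero_add n) = α
    rw [key]
    exact h1
  right_inv x := by
    have h1 := Cochain.fromSingleEquiv_fromSingleMk (K := J) (X := ModuleCat.of A A)
      (ModuleCat.ofHom (LinearMap.toSpanSingleton A (J.X n) x)) (zero_add n)
    have h2 := ConcreteCategory.congr_hom h1 (1 : A)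
    refine Eq.trans h2 ?_
    show (1 : A) • x = x
    exact one_smul A x
  map_add' α β := by
    rw [Cochain.add_v, Preadditive.comp_add, ModuleCat.hom_add, LinearMap.add_apply]
  map_smul' a α := by
    rw [Cochain.smul_v, Linear.comp_smul, ModuleCat.hom_smul, LinearMap.smul_apply]
    rfl

lemma ev1_δ (J : DRing.Cx A) (n : ℤ) (α : Cochain (S0 A) J n) :
    ev1 J (n + 1) (δ n (n + 1) α) = J.d n (n + 1) (ev1 J n α) := by
  show ((i0 A).inv ≫ (δ n (n + 1) α).v 0 (n + 1) (zero_add (n + 1))).hom (1 : A) = _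
  rw [δ_v n (n + 1) rfl α 0 (n + 1) (zero_add (n + 1)) n 1 (by omega) (by omega)]
  have hd : (S0 A).d 0 1 = 0 := rfl
  rw [hd, zero_comp, smul_zero, add_zero, ← Category.assoc]
  rfl

/-- `Hom•(A[0], J) ≅ J` -/
noncomputable def ev1Iso (J : DRing.Cx A) : DRing.homCx (S0 A) J ≅ J :=
  HomologicalComplex.Hom.isoOfComponents (fun n => (ev1 J n).toModuleIso) (by
    intro n n' hnn'
    obtain rfl : n + 1 = n' := hnn'
    refine ModuleCat.hom_ext (LinearMap.ext fun (α : Cochain (S0 A) J n) => ?_)
    exact (ev1_δ J n α).symm)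

end Unit

end Groth.Agent.Lib.DerCompl
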