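import Mathlib
import Groth.Agent.Lib.DerivedCmp_helper2
import Groth.Agent.Lib.KProjRes_helper2
import Groth.Agent.Lib.DMod46_helper6

/-!
# The derived adjunction `- ⊗^L_R A ⊣ restriction of scalars` (helper2)

* an adjunction between additive functors induces adjunctions on categories of complexes and on
  homotopy categories;
* a functor `LF` with `α : L ⋙ LF ⟶ F` which is an isomorphism on a class of objects admitting
  enough `W`-resolutions is a left derived functor;
* `DRing.LBaseChange φ ⊣ DRing.restrictD φ`.
-/

set_option autoImplicit false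
universe u
open CategoryTheory

namespace Groth.Agent.Lib.DerivedAdj

section HoAdj

variable {ι : Type*} {V W : Type*} [Category V] [Category W] [Preadditive V] [Preadditive W]
  {G : V ⥤ W} {F : W ⥤ V} [G.Additive] [F.Additive] (adj : G ⊣ F) (c : ComplexShape ι)

/-- the unit on complexes -/
@[simps]
def unitC : 𝟭 (HomologicalComplex V c) ⟶
    G.mapHomologicalComplex c ⋙ F.mapHomologicalComplex c where
  app K :=
    { f := fun i => adj.unit.app (K.X i)
      comm' := fun i j _ => (adj.unit.naturality (K.d i j)).symm }
  naturality K L f := by
    ext i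
    exact adj.unit.naturality (f.f i)

/-- the counit on complexes -/
@[simps]
def counitC : F.mapHomologicalComplex c ⋙ G.mapHomologicalComplex c ⟶
    𝟭 (HomologicalComplex W c) where
  app K :=
    { f := fun i => adj.counit.app (K.X i)
      comm' := fun i j _ => (adj.counit.naturality (K.d i j)).symm }
  naturality K L f := by
    ext i
    exact adj.counit.naturality (f.f i)

/-- the adjunction on complexes -/
def adjC : G.mapHomologicalComplex c ⊣ F.mapHomologicalComplex c where
  unit := unitC adj c
  counit := counitC adj c
  left_triangle_components K := by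
    ext i
    exact adj.left_triangle_components (K.X i)
  right_triangle_components K := by
    ext i
    exact adj.right_triangle_components (K.X i)

/-- the unit on homotopy categories -/
def unitK : 𝟭 (HomotopyCategory V c) ⟶
    G.mapHomotopyCategory c ⋙ F.mapHomotopyCategory c :=
  Quotient.natTransLift _
    { app := fun K => (HomotopyCategory.quotient V c).map ((unitC adj c).app K)
      naturality := fun K L f => by
        show (HomotopyCategory.quotient V c).map f ≫
            (HomotopyCategory.quotient V c).map ((unitC adj c).app L) =
          (HomotopyCategory.quotient V c).map ((unitC adj c).app K) ≫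
            (HomotopyCategory.quotient V c).map
              ((F.mapHomologicalComplex c).map ((G.mapHomologicalComplex c).map f))
        rw [← Functor.map_comp, ← Functor.map_comp]
        congr 1
        exact (unitC adj c).naturality f }

/-- the counit on homotopy categories -/
def counitK : F.mapHomotopyCategory c ⋙ G.mapHomotopyCategory c ⟶
    𝟭 (HomotopyCategory W c) :=
  Quotient.natTransLift _
    { app := fun K => (HomotopyCategory.quotient W c).map ((counitC adj c).app K)
      naturality := fun K L f => by
        show (HomotopyCategory.quotient W c).map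
              ((G.mapHomologicalComplex c).map ((F.mapHomologicalComplex c).map f)) ≫
            (HomotopyCategory.quotient W c).map ((counitC adj c).app L) =
          (HomotopyCategory.quotient W c).map ((counitC adj c).app K) ≫
            (HomotopyCategory.quotient W c).map f
        rw [← Functor.map_comp, ← Functor.map_comp]
        congr 1
        exact (counitC adj c).naturality f }

lemma unitK_app (K : HomologicalComplex V c) :
    (unitK adj c).app ((HomotopyCategory.quotient V c).obj K) =
      (HomotopyCategory.quotient V c).map ((unitC adj c).app K) := rfl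

lemma counitK_app (K : HomologicalComplex W c) :
    (counitK adj c).app ((HomotopyCategory.quotient W c).obj K) =
      (HomotopyCategory.quotient W c).map ((counitC adj c).app K) := rfl

/-- the adjunction on homotopy categories -/
def adjK : G.mapHomotopyCategory c ⊣ F.mapHomotopyCategory c where
  unit := unitK adj c
  counit := counitK adj c
  left_triangle_components X := by
    obtain ⟨K⟩ := X
    show (HomotopyCategory.quotient W c).map
          ((G.mapHomologicalComplex c).map ((unitC adj c).app K)) ≫
        (HomotopyCategory.quotient W c).map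
          ((counitC adj c).app ((G.mapHomologicalComplex c).obj K)) = 𝟙 _
    rw [← Functor.map_comp]
    have := (adjC adj c).left_triangle_components K
    have h2 : (G.mapHomologicalComplex c).map ((unitC adj c).app K) ≫
        (counitC adj c).app ((G.mapHomologicalComplex c).obj K) = 𝟙 _ := this
    rw [h2]
    exact (HomotopyCategory.quotient W c).map_id _
  right_triangle_components X := by
    obtain ⟨K⟩ := X
    show (HomotopyCategory.quotient V c).map
          ((unitC adj c).app ((F.mapHomologicalComplex c).obj K)) ≫
        (HomotopyCategory.quotient V c).map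
          ((F.mapHomologicalComplex c).map ((counitC adj c).app K)) = 𝟙 _
    rw [← Functor.map_comp]
    have := (adjC adj c).right_triangle_components K
    have h2 : (unitC adj c).app ((F.mapHomologicalComplex c).obj K) ≫
        (F.mapHomologicalComplex c).map ((counitC adj c).app K) = 𝟙 _ := this
    rw [h2]
    exact (HomotopyCategory.quotient V c).map_id _

end HoAdj

section Criterion

universe v₁ v₂ v₃ u₁ u₂ u₃

variable {C : Type u₁} {D : Type u₂} {H : Type u₃} [Category.{v₁} C] [Category.{v₂} D]
  [Category.{v₃} H]

/-- a functor with a comparison map which is an isomorphism on a class of objects admitting enough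
resolutions is a left derived functor -/
theorem isLeftDerivedFunctor_of_isIso_on (L : C ⥤ D) (W : MorphismProperty C)
    [L.IsLocalization W] [W.HasRightCalculusOfFractions] {F : C ⥤ H} (LF : D ⥤ H)
    (α : L ⋙ LF ⟶ F) (P : C → Prop) (hiso : ∀ X, P X → IsIso (α.app X))
    (hres : ∀ X, ∃ (X' : C) (s : X' ⟶ X), W s ∧ P X') : LF.IsLeftDerivedFunctor α W := by
  have h : Groth.Agent.Lib.DerivedCmp.ResData W α P := ⟨hiso, hres⟩
  have h2 := Groth.Agent.Lib.DerivedCmp.isLeftDerivedFunctor L W h LF (Iso.refl _)
  have h3 : (Iso.refl (L ⋙ LF)).hom ≫ α = α := Category.id_comp _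
  rwa [h3] at h2

end Criterion

section Main

open DerivedCategory Groth.Agent.Lib.DMod_helper6

attribute [local instance] HasDerivedCategory.standard

variable {R A : Type u} [CommRing R] [CommRing A] (φ : R →+* A) [DRing.HasLBaseChange φ]

/-- enough K-projective resolutions in the homotopy category -/
lemma exists_kproj_res_K (X : HomotopyCategory (ModuleCat.{u} R) (ComplexShape.up ℤ)) :
    ∃ (X' : HomotopyCategory (ModuleCat.{u} R) (ComplexShape.up ℤ)) (s : X' ⟶ X),
      HomotopyCategory.quasiIso (ModuleCat.{u} R) (ComplexShape.up ℤ) s ∧
        CochainComplex.IsKProjective X'.as := by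
  obtain ⟨K⟩ := X
  obtain ⟨P, π, hπ, hPkp, -, -⟩ := Groth.Agent.Lib.KProjRes.exists_kproj_resolution K
  refine ⟨(HomotopyCategory.quotient _ _).obj P, (HomotopyCategory.quotient _ _).map π, ?_, hPkp⟩
  exact (HomotopyCategory.quotient_map_mem_quasiIso_iff π).2
    ((HomologicalComplex.mem_quasiIso_iff π).2 hπ)

/-- **the derived adjunction between base change and restriction of scalars** -/
theorem nonempty_adj : Nonempty (DRing.LBaseChange φ ⊣ DRing.restrictD φ) := by
  let W₁ := HomotopyCategory.quasiIso (ModuleCat.{u} R) (ComplexShape.up ℤ)
  let W₂ := HomotopyCategory.quasiIso (ModuleCat.{u} A) (ComplexShape.up ℤ)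
  let GK := (ModuleCat.extendScalars.{u, u, u} φ).mapHomotopyCategory (ComplexShape.up ℤ)
  let FK := (ModuleCat.restrictScalars.{u} φ).mapHomotopyCategory (ComplexShape.up ℤ)
  let adj : GK ⊣ FK := adjK (ModuleCat.extendRestrictScalarsAdj.{u} φ) (ComplexShape.up ℤ)
  let α : Qh ⋙ DRing.LBaseChange φ ⟶ GK ⋙ Qh :=
    (DRing.baseChangeKh φ).totalLeftDerivedCounit Qh W₁
  let βi : Qh ⋙ DRing.restrictD φ ≅ FK ⋙ Qh :=
    (ModuleCat.restrictScalars.{u} φ).mapDerivedCategoryFactorsh
  let β : FK ⋙ Qh ⟶ Qh ⋙ DRing.restrictD φ := βi.inv
  haveI : (DRing.LBaseChange φ).IsLeftDerivedFunctor α W₁ :=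
    inferInstanceAs (((DRing.baseChangeKh φ).totalLeftDerived Qh W₁).IsLeftDerivedFunctor
      ((DRing.baseChangeKh φ).totalLeftDerivedCounit Qh W₁) W₁)
  haveI : (DRing.restrictD φ).IsRightDerivedFunctor β W₂ :=
    Functor.isRightDerivedFunctor_of_inverts W₂ _ βi
  haveI h1 : (DRing.LBaseChange φ ⋙ DRing.restrictD φ).IsLeftDerivedFunctor
      ((Functor.associator _ _ _).inv ≫ Functor.whiskerRight α (DRing.restrictD φ)) W₁ := by
    refine isLeftDerivedFunctor_of_isIso_on Qh W₁ _ _ (fun X => CochainComplex.IsKProjective X.as)
      (fun X hX => ?_) (exists_kproj_res_K)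
    haveI : CochainComplex.IsKProjective X.as := hX
    haveI : IsIso (α.app X) :=
      isIso_leftDerived_counit_of_isKProjective (DRing.baseChangeKh φ) (DRing.LBaseChange φ) α X.as
    rw [NatTrans.comp_app]
    dsimp
    infer_instance
  haveI h2 : (DRing.restrictD φ ⋙ DRing.LBaseChange φ).IsRightDerivedFunctor
      (Functor.whiskerRight β (DRing.LBaseChange φ) ≫ (Functor.associator _ _ _).hom) W₂ := by
    rw [Functor.isRightDerivedFunctor_iff_of_inverts]
    · infer_instance
    · have h3 : W₂.IsInvertedBy (Qh ⋙ (DRing.restrictD φ ⋙ DRing.LBaseChange φ)) :=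
        MorphismProperty.IsInvertedBy.of_comp W₂ Qh (Localization.inverts Qh W₂) _
      exact (MorphismProperty.IsInvertedBy.iff_of_iso W₂
        ((Functor.associator _ _ _).symm ≪≫
          Functor.isoWhiskerRight βi (DRing.LBaseChange φ) ≪≫ Functor.associator _ _ _)).1 h3
  exact ⟨adj.derived W₁ W₂ α β⟩

end Main

end Groth.Agent.Lib.DerivedAdj
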