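import Groth.Agent.Lib.TotalMap_helper2
import Groth.Agent.Lib.BifNat_helper2

/-!
# Functors commuting with `Tot F(K₁, K₂)` (helper2)

If `G(F(X, Y)) ≅ F'(G₁ X, G₂ Y)` naturally in both variables and `G` preserves coproducts, then
`G(Tot F(K₁, K₂)) ≅ Tot F'(G₁ K₁, G₂ K₂)`.
-/

set_option autoImplicit false
open CategoryTheory Limits

namespace Groth.Agent.Lib.TotalMap

variable {C₁ C₂ C₁' C₂' D D' : Type*} [Category C₁] [Category C₂] [Category D] [Category D']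
  [Category C₁'] [Category C₂']
  [Preadditive C₁] [Preadditive C₂] [Preadditive D] [Preadditive D'] [Preadditive C₁']
  [Preadditive C₂']
  (F : C₁ ⥤ C₂ ⥤ D) [F.Additive] [∀ X₁, (F.obj X₁).Additive]
  (G : D ⥤ D') [G.Additive]
  (G₁ : C₁ ⥤ C₁') (G₂ : C₂ ⥤ C₂') [G₁.Additive] [G₂.Additive]
  (F' : C₁' ⥤ C₂' ⥤ D') [F'.Additive] [∀ X₁, (F'.obj X₁).Additive]

instance additive_comp_whiskeringRight :
    (F ⋙ (Functor.whiskeringRight C₂ D D').obj G).Additive where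
  map_add {X Y f g} := by
    ext Z
    simp

instance additive_comp_whiskeringRight_obj (X : C₁) :
    ((F ⋙ (Functor.whiskeringRight C₂ D D').obj G).obj X).Additive :=
  inferInstanceAs ((F.obj X ⋙ G).Additive)

instance additive_comp_whiskeringLeft :
    (G₁ ⋙ F' ⋙ (Functor.whiskeringLeft C₂ C₂' D').obj G₂).Additive where
  map_add {X Y f g} := by
    ext Z
    simp

instance additive_comp_whiskeringLeft_obj (X : C₁) :
    ((G₁ ⋙ F' ⋙ (Functor.whiskeringLeft C₂ C₂' D').obj G₂).obj X).Additive :=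
  inferInstanceAs ((G₂ ⋙ F'.obj (G₁.obj X)).Additive)

variable (K₁ : CochainComplex C₁ ℤ) (K₂ : CochainComplex C₂ ℤ)
  [CochainComplex.HasMapBifunctor K₁ K₂ F]
  [CochainComplex.HasMapBifunctor K₁ K₂ (F ⋙ (Functor.whiskeringRight C₂ D D').obj G)]
  [CochainComplex.HasMapBifunctor K₁ K₂ (G₁ ⋙ F' ⋙ (Functor.whiskeringLeft C₂ C₂' D').obj G₂)]
  [∀ J : Type, PreservesColimitsOfShape (Discrete J) G]
  (e : F ⋙ (Functor.whiskeringRight C₂ D D').obj G ≅
    G₁ ⋙ F' ⋙ (Functor.whiskeringLeft C₂ C₂' D').obj G₂)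

/-- `G(Tot F(K₁, K₂)) ≅ Tot (G ∘ F)(K₁, K₂)` -/
noncomputable def mapIso₁ :
    (G.mapHomologicalComplex (ComplexShape.up ℤ)).obj (CochainComplex.mapBifunctor K₁ K₂ F) ≅
      CochainComplex.mapBifunctor K₁ K₂ (F ⋙ (Functor.whiskeringRight C₂ D D').obj G) :=
  haveI : (mapBi (((F.mapBifunctorHomologicalComplex (ComplexShape.up ℤ)
      (ComplexShape.up ℤ)).obj K₁).obj K₂) G).HasTotal (ComplexShape.up ℤ) :=
    inferInstanceAs (CochainComplex.HasMapBifunctor K₁ K₂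
      (F ⋙ (Functor.whiskeringRight C₂ D D').obj G))
  totalIso (((F.mapBifunctorHomologicalComplex (ComplexShape.up ℤ) (ComplexShape.up ℤ)).obj
    K₁).obj K₂) (ComplexShape.up ℤ) G

instance hasMapBifunctor_map :
    CochainComplex.HasMapBifunctor ((G₁.mapHomologicalComplex (ComplexShape.up ℤ)).obj K₁)
      ((G₂.mapHomologicalComplex (ComplexShape.up ℤ)).obj K₂) F' :=
  inferInstanceAs (CochainComplex.HasMapBifunctor K₁ K₂
    (G₁ ⋙ F' ⋙ (Functor.whiskeringLeft C₂ C₂' D').obj G₂))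

/-- **`G(Tot F(K₁, K₂)) ≅ Tot F'(G₁ K₁, G₂ K₂)`** -/
noncomputable def mapIso :
    (G.mapHomologicalComplex (ComplexShape.up ℤ)).obj (CochainComplex.mapBifunctor K₁ K₂ F) ≅
      CochainComplex.mapBifunctor ((G₁.mapHomologicalComplex (ComplexShape.up ℤ)).obj K₁)
        ((G₂.mapHomologicalComplex (ComplexShape.up ℤ)).obj K₂) F' :=
  mapIso₁ F G K₁ K₂ ≪≫ Groth.Agent.Lib.BifNat.mapNatIso K₁ K₂ e

end Groth.Agent.Lib.TotalMap
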