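import Mathlib
import Groth.Prelude.Def_DDual2
import Groth.Prelude.Def_DRing4
import Groth.Agent.Lib.ExtendScalars_helper2
import Groth.Agent.Lib.TotalMap2_helper2
import Groth.Agent.Lib.KFlatMod2_helper2

/-!
# Extension of scalars preserves K-flat complexes (helper2)
-/

set_option autoImplicit false
universe u
open CategoryTheory Limits MonoidalCategory TensorProduct ChangeOfRings

namespace Groth.Agent.Lib.ExtKFlat

open Groth.Agent.ExtendScalarsLib Groth.Agent.Lib.KFlatMod Groth.Agent.Lib.KFlatGen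
  Groth.Agent.Lib.TotalMap

variable (R R' : Type u) [CommRing R] [CommRing R'] [Algebra R R']

/-- restriction of scalars -/
noncomputable abbrev res : ModuleCat.{u} R' ⥤ ModuleCat.{u} R :=
  ModuleCat.restrictScalars.{u} (algebraMap R R')

/-- extension of scalars -/
noncomputable abbrev ext : ModuleCat.{u} R ⥤ ModuleCat.{u} R' :=
  ModuleCat.extendScalars.{u, u, u} (algebraMap R R')

variable {R R'}

section
variable (L : ModuleCat.{u} R') (K : ModuleCat.{u} R)

/-- the `R`-module structure on `L` -/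
@[reducible] def modL : Module R L := Module.compHom L (algebraMap R R')

attribute [local instance] modL

instance towerL : IsScalarTower R R' L := IsScalarTower.of_algebraMap_smul (fun _ _ => rfl)

/-- `L ⊗_{R'} (R' ⊗_R K) ≃ L ⊗_R K`, `R'`-linearly -/
noncomputable def cbEquiv : (L ⊗[R'] ((ext R R').obj K)) ≃ₗ[R'] (L ⊗[R] K) :=
  (TensorProduct.congr (LinearEquiv.refl R' L) (extendScalarsEquivTensor (S := R') K)) ≪≫ₗ
    TensorProduct.AlgebraTensorModule.cancelBaseChange R R' R' L K

lemma cbEquiv_symm_tmul (l : L) (k : K) :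
    (cbEquiv L K).symm (l ⊗ₜ[R] k) =
      l ⊗ₜ[R'] (show (ext R R').obj K from (1 : R') ⊗ₜ[R, algebraMap R R'] k) := rfl

/-- the `R`-linear form -/
noncomputable def cbEquivR :
    ((res R R').obj (L ⊗ (ext R R').obj K)) ≃ₗ[R] (((res R R').obj L ⊗ K : ModuleCat.{u} R)) where
  toFun x := cbEquiv L K x
  invFun y := (cbEquiv L K).symm y
  map_add' x y := (cbEquiv L K).map_add x y
  map_smul' r x := by
    change cbEquiv L K ((algebraMap R R' r) • (show L ⊗[R'] ((ext R R').obj K) from x)) = _
    rw [(cbEquiv L K).map_smul, algebraMap_smul]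
    rfl
  left_inv x := (cbEquiv L K).left_inv x
  right_inv y := (cbEquiv L K).right_inv y

/-- the isomorphism in `ModuleCat R` -/
noncomputable def cbIso :
    (res R R').obj (L ⊗ (ext R R').obj K) ≅ ((res R R').obj L ⊗ K : ModuleCat.{u} R) :=
  (cbEquivR L K).toModuleIso

lemma cbIso_inv_tmul (l : L) (k : K) :
    (cbIso L K).inv.hom (l ⊗ₜ[R] k) =
      (show L ⊗[R'] ((ext R R').obj K) from
        l ⊗ₜ[R'] (show (ext R R').obj K from (1 : R') ⊗ₜ[R, algebraMap R R'] k)) := rfl

end

lemma cbIso_inv_nat₂ (L : ModuleCat.{u} R') {K K' : ModuleCat.{u} R} (g : K ⟶ K') :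
    ((res R R').obj L ◁ g) ≫ (cbIso L K').inv =
      (cbIso L K).inv ≫ (res R R').map (L ◁ (ext R R').map g) := by
  apply ModuleCat.MonoidalCategory.tensor_ext
  intro l k
  rfl

lemma cbIso_inv_nat₁ {L L' : ModuleCat.{u} R'} (f : L ⟶ L') (K : ModuleCat.{u} R) :
    ((res R R').map f ▷ K) ≫ (cbIso L' K).inv =
      (cbIso L K).inv ≫ (res R R').map (f ▷ (ext R R').obj K) := by
  apply ModuleCat.MonoidalCategory.tensor_ext
  intro l k
  rfl

variable (R R')

/-- the bifunctor `(L, K) ↦ L ⊗_{R'} (R' ⊗_R K)` -/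
noncomputable abbrev FF : ModuleCat.{u} R' ⥤ ModuleCat.{u} R ⥤ ModuleCat.{u} R' :=
  curriedTensor (ModuleCat.{u} R') ⋙
    (Functor.whiskeringLeft (ModuleCat.{u} R) (ModuleCat.{u} R') (ModuleCat.{u} R')).obj (ext R R')

instance additive_FF_obj (X : ModuleCat.{u} R') : ((FF R R').obj X).Additive :=
  inferInstanceAs ((ext R R' ⋙ (curriedTensor (ModuleCat.{u} R')).obj X).Additive)

/-- the binatural isomorphism `(L ⊗_{R'} (R' ⊗_R K))|_R ≅ L|_R ⊗_R K` -/
noncomputable def cbNatIso :
    FF R R' ⋙ (Functor.whiskeringRight (ModuleCat.{u} R) (ModuleCat.{u} R') (ModuleCat.{u} R)).obj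
        (res R R') ≅
      res R R' ⋙ curriedTensor (ModuleCat.{u} R) ⋙
        (Functor.whiskeringLeft (ModuleCat.{u} R) (ModuleCat.{u} R) (ModuleCat.{u} R)).obj
          (𝟭 (ModuleCat.{u} R)) :=
  (NatIso.ofComponents (fun L => NatIso.ofComponents (fun K => (cbIso L K).symm)
    (fun {K K'} g => cbIso_inv_nat₂ L g))
    (fun {L L'} f => NatTrans.ext (funext fun K => cbIso_inv_nat₁ f K))).symm


/-- an exact functor preserves acyclic complexes -/
lemma acyclic_map {A B : Type*} [Category A] [Category B] [Abelian A] [Abelian B] (G : A ⥤ B)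
    [G.Additive] [PreservesFiniteLimits G] [PreservesFiniteColimits G]
    (K : CochainComplex A ℤ) (hK : K.Acyclic) :
    ((G.mapHomologicalComplex (ComplexShape.up ℤ)).obj K).Acyclic := by
  intro n
  rw [HomologicalComplex.exactAt_iff]
  exact ((HomologicalComplex.exactAt_iff _ _).1 (hK n)).map G

/-- a faithful exact functor reflects acyclic complexes -/
lemma acyclic_of_map {A B : Type*} [Category A] [Category B] [Abelian A] [Abelian B] (G : A ⥤ B)
    [G.Additive] [PreservesFiniteLimits G] [PreservesFiniteColimits G] [G.Faithful]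
    (K : CochainComplex A ℤ)
    (hK : ((G.mapHomologicalComplex (ComplexShape.up ℤ)).obj K).Acyclic) : K.Acyclic := by
  intro n
  rw [HomologicalComplex.exactAt_iff]
  exact (ShortComplex.exact_map_iff_of_faithful _ G).1 ((HomologicalComplex.exactAt_iff _ _).1 (hK n))

/-- **extension of scalars preserves K-flat complexes** -/
theorem kf_ext (K : CochainComplex (ModuleCat.{u} R) ℤ) (hK : KF R K) :
    KF R' (((ext R R').mapHomologicalComplex (ComplexShape.up ℤ)).obj K) := by
  rw [kf_iff] at hK ⊢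
  intro L hL
  have iso := mapIso (FF R R') (res R R') (res R R') (𝟭 (ModuleCat.{u} R))
    (curriedTensor (ModuleCat.{u} R)) L K (cbNatIso R R')
  have hL' : (((res R R').mapHomologicalComplex (ComplexShape.up ℤ)).obj L).Acyclic :=
    acyclic_map (res R R') L hL
  have hK' : IsKFlat (T R)
      (((𝟭 (ModuleCat.{u} R)).mapHomologicalComplex (ComplexShape.up ℤ)).obj K) :=
    KFlatGen.isKFlat_of_iso (F := T R)
      ((Functor.mapHomologicalComplexIdIso (ModuleCat.{u} R) (ComplexShape.up ℤ)).app K).symm hK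
  have h1 := Groth.Agent.Lib.BifCone.acyclic_of_iso iso.symm (hK' _ hL')
  exact acyclic_of_map (res R R') _ h1

end Groth.Agent.Lib.ExtKFlat
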