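import Mathlib
import Groth.Agent.Lib.DerivedAdj_helper2
import Groth.Agent.Lib.ExtKFlat_helper2

/-!
# A left adjoint of an exact functor preserves K-projective complexes (helper2)
-/

set_option autoImplicit false
universe u
open CategoryTheory Limits

namespace Groth.Agent.Lib.KProjAdj

open Groth.Agent.Lib.DerivedAdj

variable {V W : Type*} [Category V] [Category W] [Abelian V] [Abelian W]
  {G : V ⥤ W} {F : W ⥤ V} [G.Additive] [F.Additive] (adj : G ⊣ F)
  [PreservesFiniteLimits F] [PreservesFiniteColimits F]

include adj in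
theorem isKProjective_map (P : CochainComplex V ℤ) [P.IsKProjective] :
    CochainComplex.IsKProjective ((G.mapHomologicalComplex (ComplexShape.up ℤ)).obj P) := by
  refine ⟨fun {L} f hL => ?_⟩
  let adjc := adjC adj (ComplexShape.up ℤ)
  let f' : P ⟶ (F.mapHomologicalComplex (ComplexShape.up ℤ)).obj L := adjc.homEquiv _ _ f
  have hL' : ((F.mapHomologicalComplex (ComplexShape.up ℤ)).obj L).Acyclic :=
    Groth.Agent.Lib.ExtKFlat.acyclic_map F L hL
  obtain ⟨h⟩ := CochainComplex.IsKProjective.nonempty_homotopy_zero f' hL'
  have hf : f = (G.mapHomologicalComplex (ComplexShape.up ℤ)).map f' ≫ adjc.counit.app L :=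
    ((adjc.homEquiv _ _).symm_apply_apply f).symm.trans (adjc.homEquiv_counit _ _ _)
  rw [hf]
  exact ⟨((G.mapHomotopy h).compRight (adjc.counit.app L)).trans (Homotopy.ofEq (by simp))⟩

/-- extension of scalars preserves K-projective complexes -/
theorem isKProjective_extendScalars {A B : Type u} [CommRing A] [CommRing B] (φ : A →+* B)
    (P : CochainComplex (ModuleCat.{u} A) ℤ) [P.IsKProjective] :
    CochainComplex.IsKProjective
      (((ModuleCat.extendScalars.{u, u, u} φ).mapHomologicalComplex (ComplexShape.up ℤ)).obj P) :=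
  isKProjective_map (ModuleCat.extendRestrictScalarsAdj.{u} φ) P

end Groth.Agent.Lib.KProjAdj
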