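import Groth.Agent.Lib.KFlatGen1_helper2
import Groth.Agent.Lib.CyclesFlat_helper2

/-!
# K-flat complexes with respect to a bifunctor (helper2), part IX:
the canonical truncation `τ_{≥ a} P` of a K-flat complex with flat terms and flat `coker d^{a-1}`
is K-flat
-/

set_option autoImplicit false
universe v u
open CategoryTheory Limits ZeroObject

namespace Groth.Agent.Lib.KFlatGen

variable {𝒜 : Type u} [Category.{v} 𝒜] [Abelian 𝒜]

set_option backward.isDefEq.respectTransparency false in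
/-- `(π K)^{i'}` is an isomorphism away from the boundary -/
lemma isIso_πTruncGE_f' {ι ι' : Type*} {c : ComplexShape ι} {c' : ComplexShape ι'}
    (K : HomologicalComplex 𝒜 c') (e : c.Embedding c') [e.IsTruncGE]
    [∀ i', K.HasHomology i'] (i : ι) (i' : ι')
    (hi : e.f i = i') (hb : ¬ e.BoundaryGE i) : IsIso ((K.πTruncGE e).f i') := by
  dsimp [HomologicalComplex.πTruncGE]
  rw [e.isIso_liftExtend_f_iff _ _ hi]
  exact HomologicalComplex.isIso_restrictionToTruncGE' K e i hb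

/-- `(π_{≥ a} K)^i` is an isomorphism for `i > a` -/
lemma isIso_πTruncGE_f (K : CochainComplex 𝒜 ℤ) (a i : ℤ) (hi : a < i) :
    IsIso ((K.πTruncGE a).f i) := by
  have hk : (ComplexShape.embeddingUpIntGE a).f (i - a).toNat = i := by
    show a + ((i - a).toNat : ℤ) = i
    omega
  have hk' : (i - a).toNat ≠ 0 := by omega
  exact isIso_πTruncGE_f' K (ComplexShape.embeddingUpIntGE a) (i - a).toNat i hk
    (by rw [ComplexShape.boundaryGE_embeddingUpIntGE_iff]; exact hk')

variable (F : 𝒜 ⥤ 𝒜 ⥤ 𝒜) [F.Additive] [∀ X, (F.obj X).Additive]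
  [∀ (K₁ K₂ : CochainComplex 𝒜 ℤ), CochainComplex.HasMapBifunctor K₁ K₂ F]

variable {F} {Fl : 𝒜 → Prop} (hFl : FlatClass F Fl) [HasCoproducts.{0} 𝒜]
  [∀ n : ℤ, HasExactColimitsOfShape (Discrete (BifSES.Idx n)) 𝒜]
  [HasColimitsOfShape ℕ 𝒜] [HasExactColimitsOfShape ℕ 𝒜]
  [∀ X : 𝒜, PreservesColimitsOfShape ℕ (F.obj X)]

include hFl in
/-- **`τ_{≥ a} P` is K-flat** if `P` is K-flat with flat terms and `coker d^{a-1}` is flat -/
theorem isKFlat_truncGE
    (hker : ∀ S : ShortComplex 𝒜, S.ShortExact → Fl S.X₂ → Fl S.X₃ → Fl S.X₁)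
    (P : CochainComplex 𝒜 ℤ) (hP : IsKFlat F P) (hfl : ∀ i, Fl (P.X i)) (a : ℤ)
    (hC : Fl (cokernel (P.d (a - 1) a))) : IsKFlat F (P.truncGE a) := by
  let π := P.πTruncGE a
  let S : ShortComplex (CochainComplex 𝒜 ℤ) := ShortComplex.mk (kernel.ι π) π (kernel.condition π)
  have hS : S.ShortExact :=
    { exact := ShortComplex.exact_of_f_is_kernel _ (kernelIsKernel π)
      mono_f := inferInstanceAs (Mono (kernel.ι π))
      epi_g := inferInstanceAs
        (Epi (HomologicalComplex.πTruncGE P (ComplexShape.embeddingUpIntGE a))) }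
  have h3 : ∀ n : ℤ, Fl (S.X₃.X n) :=
    Groth.Agent.Lib.CyclesFlat.truncGE_mem hFl.of_isZero hFl.of_iso P hfl a hC
  have hdeg : ∀ i : ℤ, (S.map (HomologicalComplex.eval 𝒜 (ComplexShape.up ℤ) i)).ShortExact :=
    (HomologicalComplex.shortExact_iff_degreewise_shortExact S).1 hS
  have hN : ∀ i : ℤ, Fl (S.X₁.X i) := fun i => hker _ (hdeg i) (hfl i) (h3 i)
  haveI : S.X₁.IsStrictlyLE a := by
    rw [CochainComplex.isStrictlyLE_iff]
    intro i hi
    have hd := hdeg i
    haveI : IsIso (S.map (HomologicalComplex.eval 𝒜 (ComplexShape.up ℤ) i)).g :=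
      isIso_πTruncGE_f P a i hi
    have hmono := hd.mono_f
    have hz : (S.map (HomologicalComplex.eval 𝒜 (ComplexShape.up ℤ) i)).f = 0 := by
      rw [← cancel_mono (S.map (HomologicalComplex.eval 𝒜 (ComplexShape.up ℤ) i)).g,
        (S.map (HomologicalComplex.eval 𝒜 (ComplexShape.up ℤ) i)).zero, zero_comp]
    exact @IsZero.of_mono_eq_zero _ _ _ _ _
      (S.map (HomologicalComplex.eval 𝒜 (ComplexShape.up ℤ) i)).f hmono hz
  have hNK : IsKFlat F S.X₁ := isKFlat_of_isStrictlyLE hFl S.X₁ a hN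
  exact (isKFlat_shortExact hFl S hS h3).1 hNK hP

end Groth.Agent.Lib.KFlatGen
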