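import Groth.Agent.Lib.DRingLT_helper2
import Groth.Agent.Lib.KFlatGen9_helper2
import Groth.Agent.Lib.DMod40_helper6

/-!
# Tor amplitude `[a, ∞)` over a commutative ring (helper2)
-/

set_option autoImplicit false
universe u
open CategoryTheory Limits MonoidalCategory

namespace Groth.Agent.Lib.DRingLT

attribute [local instance] HasDerivedCategory.standard

open Groth.Agent.Lib.KFlatGen Groth.Agent.Lib.KFlatMod Groth.Agent.Lib.BifCone

variable (R : Type u) [CommRing R]

instance preservesFiniteColimits_T_flip_obj (N : ModuleCat.{u} R) :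
    PreservesFiniteColimits ((T R).flip.obj N) :=
  preservesFiniteColimits_of_natIso (flipObjIso R N).symm

instance preservesFiniteColimits_T_obj (M : ModuleCat.{u} R) :
    PreservesFiniteColimits ((T R).obj M) :=
  inferInstanceAs (PreservesFiniteColimits (tensorLeft M))

variable {R}

/-- the kernel of an epimorphism of flat modules is flat -/
lemma flat_ker (S : ShortComplex (ModuleCat.{u} R)) (hS : S.ShortExact)
    (h2 : Module.Flat R S.X₂) (h3 : Module.Flat R S.X₃) : Module.Flat R S.X₁ := by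
  have hf : Function.Injective S.f.hom := (ModuleCat.mono_iff_injective _).1 hS.mono_f
  have hg : Function.Surjective S.g.hom := (ModuleCat.epi_iff_surjective _).1 hS.epi_g
  have hfg : Function.Exact S.f.hom S.g.hom :=
    (ShortComplex.ShortExact.moduleCat_exact_iff_function_exact S).1 hS.exact
  exact Groth.Agent.Lib.DMod_helper6.flat_of_flat_of_flat_coker S.f.hom S.g.hom hf hfg hg

/-- an additive functor with zero values is right exact -/
theorem preservesFiniteColimits_of_isZero_obj {A B : Type*} [Category A] [Category B]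
    [Abelian A] [Abelian B] (G : A ⥤ B) [G.Additive] (h : ∀ X, IsZero (G.obj X)) :
    PreservesFiniteColimits G := by
  rw [Functor.preservesFiniteColimits_iff_forall_exact_map_and_epi]
  intro S _
  exact ⟨ShortComplex.exact_of_isZero_X₂ _ (h S.X₂), ⟨fun f g _ => (h S.X₃).eq_of_src _ _⟩⟩

/-- `R ⊗ P^• ≅ P` -/
noncomputable def spUnitIso (P : DRing.Cx R) :
    (Groth.Agent.Lib.BifSingleL.SP (T R) P).obj (𝟙_ (ModuleCat.{u} R)) ≅ P :=
  (NatIso.mapHomologicalComplex (leftUnitorNatIso (ModuleCat.{u} R)) (ComplexShape.up ℤ)).app P ≪≫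
    (Functor.mapHomologicalComplexIdIso (ModuleCat.{u} R) (ComplexShape.up ℤ)).app P

/-- `H^i(M ⊗^L K) ≅ H^i(M ⊗ P^•)` for a K-flat resolution `P → K` -/
theorem nonempty_HL_iso (K P : DRing.Cx R) (π : P ⟶ K) [QuasiIso π] (hP : KF R P)
    [DRing.HasLTensorCx R K] (i : ℤ) :
    Nonempty (DerivedCategory.singleFunctor (ModuleCat.{u} R) 0 ⋙ DRing.LTensorCx R K ⋙
      DerivedCategory.homologyFunctor (ModuleCat.{u} R) i ≅ TorFun.T (T R) P i) := by
  obtain ⟨e⟩ := nonempty_iso_of_resolution R K P π hP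
  exact ⟨TorFun.singleIso (T R) P _ e i⟩

/-- tor amplitude `[a, ∞)` gives a K-flat representative with flat terms vanishing below `a` -/
theorem exists_rep_of_vanishing (a : ℤ) (K : DRing.Cx R) [DRing.HasLTensorCx R K]
    (h : ∀ (M : ModuleCat.{u} R) (i : ℤ), i < a →
      IsZero ((DerivedCategory.homologyFunctor (ModuleCat.{u} R) i).obj
        ((DRing.LTensorCx R K).obj ((DerivedCategory.singleFunctor (ModuleCat.{u} R) 0).obj M)))) :
    ∃ E : DRing.Cx R, KF R E ∧ DRing.TermwiseFlat E ∧ (∀ i : ℤ, i < a → IsZero (E.X i)) ∧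
      Nonempty (DRing.toD E ≅ DRing.toD K) := by
  obtain ⟨P, π, hP, hfl, hπ, -⟩ := exists_kf_resolution K
  haveI := hπ
  have hT : ∀ (M : ModuleCat.{u} R) (i : ℤ), i < a → IsZero ((TorFun.T (T R) P i).obj M) := by
    intro M i hi
    obtain ⟨e⟩ := nonempty_HL_iso K P π hP i
    exact (h M i hi).of_iso (e.app M).symm
  have hPfl : ∀ q, PreservesFiniteLimits ((T R).flip.obj (P.X q)) :=
    fun q => (flat_iff_preservesFiniteLimits R _).1 (hfl q)
  have h1 : PreservesFiniteColimits (TorFun.T (T R) P (a - 1)) :=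
    preservesFiniteColimits_of_isZero_obj _ (fun M => hT M (a - 1) (by omega))
  have h2 : PreservesFiniteLimits (TorFun.T (T R) P a) :=
    (TorFun.preservesFiniteColimits_T_iff_succ (T R) P hPfl (a - 1) a (by omega)).1 h1
  have h3 : PreservesFiniteLimits ((T R).flip.obj (cokernel (P.d (a - 1) a))) :=
    (TorFun.preservesFiniteLimits_T_iff (T R) P hPfl (a - 1) a (by omega)).1 h2
  have hC : Module.Flat R (cokernel (P.d (a - 1) a) : ModuleCat.{u} R) := (flat_iff_preservesFiniteLimits R _).2 h3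
  have hex : ∀ i : ℤ, i < a → P.ExactAt i := by
    intro i hi
    rw [HomologicalComplex.exactAt_iff_isZero_homology]
    exact (hT (𝟙_ (ModuleCat.{u} R)) i hi).of_iso
      ((HomologicalComplex.homologyFunctor (ModuleCat.{u} R) (ComplexShape.up ℤ) i).mapIso
        (spUnitIso P)).symm
  haveI : P.IsGE a := (CochainComplex.isGE_iff P a).2 hex
  have hKF : KF R (P.truncGE a) :=
    (kf_iff _).2 (isKFlat_truncGE (flatClass R) (fun S hS h2 h3 => flat_ker S hS h2 h3) P
      ((kf_iff P).1 hP) hfl a hC)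
  have hfl' : ∀ i : ℤ, Module.Flat R ((P.truncGE a).X i) :=
    Groth.Agent.Lib.CyclesFlat.truncGE_mem (Fl := fun M : ModuleCat.{u} R => Module.Flat R M)
      (flatClass R).of_isZero (flatClass R).of_iso P hfl a hC
  haveI : IsIso (DerivedCategory.Q.map (P.πTruncGE a)) :=
    (DerivedCategory.isIso_Q_map_iff_quasiIso _ _).2 inferInstance
  haveI : IsIso (DerivedCategory.Q.map π) :=
    (DerivedCategory.isIso_Q_map_iff_quasiIso _ _).2 inferInstance
  exact ⟨P.truncGE a, hKF, hfl', fun i hi => (P.truncGE a).isZero_of_isStrictlyGE a i hi,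
    ⟨(asIso (DerivedCategory.Q.map (P.πTruncGE a))).symm ≪≫ asIso (DerivedCategory.Q.map π)⟩⟩

/-- a K-flat representative vanishing below `a` gives tor amplitude `[a, ∞)` -/
theorem vanishing_of_rep (a : ℤ) (K : DRing.Cx R) [DRing.HasLTensorCx R K] (E : DRing.Cx R)
    (hE : KF R E) (hz : ∀ i : ℤ, i < a → IsZero (E.X i)) (φ : DRing.toD E ≅ DRing.toD K)
    (M : ModuleCat.{u} R) (i : ℤ) (hi : i < a) :
    IsZero ((DerivedCategory.homologyFunctor (ModuleCat.{u} R) i).obj
      ((DRing.LTensorCx R K).obj ((DerivedCategory.singleFunctor (ModuleCat.{u} R) 0).obj M))) := by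
  obtain ⟨P, s, g, hP, -, hs, hg⟩ := exists_kf_roof φ
  haveI := hs
  haveI := hg
  obtain ⟨e⟩ := nonempty_iso_of_resolution R K P g hP
  let τ := Functor.whiskerRight ((T R).map₂CochainComplex.flip.map s) DerivedCategory.Q
  haveI : ∀ X, IsIso (τ.app X) := fun X => by
    haveI := quasiIso_whiskerLeft P E hP hE s X
    show IsIso (DerivedCategory.Q.map (X ◁ s))
    exact (DerivedCategory.isIso_Q_map_iff_quasiIso _ _).2 inferInstance
  haveI : IsIso τ := NatIso.isIso_of_isIso_app τ
  let e' := e ≪≫ asIso τ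
  have e₂ := TorFun.singleIso (T R) E _ e' i
  refine IsZero.of_iso ?_ (e₂.app M)
  show IsZero (((Groth.Agent.Lib.BifSingleL.SP (T R) E).obj M).homology i)
  apply ShortComplex.isZero_homology_of_isZero_X₂
  exact ((T R).obj M).map_isZero (hz i hi)

end Groth.Agent.Lib.DRingLT
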