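import Mathlib
import Groth.Agent.Lib.KProjRes_helper2
import Groth.Agent.Lib.ExtKFlat_helper2
import Groth.Agent.Lib.DRingLT3_helper2
import Groth.Agent.Lib.DMod48_helper6

/-!
# Tor vanishing along a surjection with nilpotent kernel (helper2)

Dévissage: a middle-exact additive functor on modules which kills the modules annihilated by a
nilpotent ideal `I` kills every module.  Applied to `M ↦ H^i(M ⊗ P^•)` this gives: for `A → B`
surjective with nilpotent kernel and `K' ∈ D(A)`, the tor amplitude of `K'` can be read off from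
`K' ⊗^L B`.
-/

set_option autoImplicit false
universe u
open CategoryTheory Limits MonoidalCategory

namespace Groth.Agent.Lib.NilpTor

open Groth.Agent.Lib.KFlatMod Groth.Agent.Lib.KFlatGen Groth.Agent.Lib.ExtKFlat
  Groth.Agent.Lib.DRingLT Groth.Agent.Lib.BifSingleL Groth.Agent.Lib.DMod_helper6

attribute [local instance] HasDerivedCategory.standard

section Gen

variable {A : Type u} [CommRing A] {𝒟 : Type*} [Category 𝒟] [Abelian 𝒟]

/-- dévissage along a nilpotent ideal -/
theorem devissage_gen (Tf : ModuleCat.{u} A ⥤ 𝒟) [Tf.Additive]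
    (hex : ∀ S : ShortComplex (ModuleCat.{u} A), S.ShortExact → (S.map Tf).Exact)
    (I : Ideal A) (hnil : IsNilpotent I)
    (h : ∀ Q : ModuleCat.{u} A, (∀ a ∈ I, ∀ q : Q, a • q = 0) → IsZero (Tf.obj Q))
    (M : ModuleCat.{u} A) : IsZero (Tf.obj M) := by
  obtain ⟨k, hk⟩ := hnil
  have key : ∀ (k : ℕ) (M : ModuleCat.{u} A), (∀ a ∈ I ^ k, ∀ m : M, a • m = 0) →
      IsZero (Tf.obj M) := by
    intro k
    induction k with
    | zero =>
      intro M hM
      apply Tf.map_isZero
      have h1 : (1 : A) ∈ I ^ 0 := by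
        rw [pow_zero, Ideal.one_eq_top]
        trivial
      haveI : Subsingleton M := ⟨fun x y => by
        have hx := hM 1 h1 x
        have hy := hM 1 h1 y
        rw [one_smul] at hx hy
        rw [hx, hy]⟩
      exact ModuleCat.isZero_of_subsingleton M
    | succ k ih =>
      intro M hM
      let M' : Submodule A M := I • ⊤
      let S : ShortComplex (ModuleCat.{u} A) :=
        ShortComplex.mk (ModuleCat.ofHom M'.subtype) (ModuleCat.ofHom M'.mkQ) (by
          refine ModuleCat.hom_ext (LinearMap.ext fun x => ?_)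
          exact (Submodule.Quotient.mk_eq_zero M').2 x.2)
      have hS : S.ShortExact :=
        ModuleCat.shortComplex_shortExact S (LinearMap.exact_subtype_mkQ M')
          M'.injective_subtype M'.mkQ_surjective
      have h1 : IsZero (Tf.obj S.X₁) := by
        refine ih (ModuleCat.of A M') (fun a ha m' => ?_)
        apply Subtype.ext
        show a • (m' : M) = 0
        have hm : (m' : M) ∈ I • (⊤ : Submodule A M) := m'.2
        refine Submodule.smul_induction_on hm (fun r hr n _ => ?_) (fun x y hx hy => ?_)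
        · rw [smul_smul]
          refine hM (a * r) ?_ n
          rw [pow_succ]
          exact Ideal.mul_mem_mul ha hr
        · rw [smul_add, hx, hy, add_zero]
      have h3 : IsZero (Tf.obj S.X₃) := by
        refine h (ModuleCat.of A (M ⧸ M')) (fun a ha q => ?_)
        obtain ⟨m, rfl⟩ := M'.mkQ_surjective q
        rw [← map_smul]
        exact (Submodule.Quotient.mk_eq_zero M').2 (Submodule.smul_mem_smul ha Submodule.mem_top)
      exact (hex S hS).isZero_of_both_isZero h1 h3
  refine key k M (fun a ha m => ?_)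
  rw [hk] at ha
  have : a = 0 := by simpa using ha
  rw [this, zero_smul]

end Gen

variable {A B : Type u} [CommRing A] [CommRing B] [Algebra A B]

/-- a module killed by the kernel of a surjection `A → B` is a restriction of scalars -/
lemma exists_res_iso (hsurj : Function.Surjective (algebraMap A B)) (Q : ModuleCat.{u} A)
    (hQ : ∀ a ∈ RingHom.ker (algebraMap A B), ∀ q : Q, a • q = 0) :
    ∃ N : ModuleCat.{u} B, Nonempty ((res A B).obj N ≅ Q) := by
  letI sm : SMul B Q := ⟨fun b q => (Function.surjInv hsurj b) • q⟩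
  have hsmul : ∀ (c : A) (x : Q), (algebraMap A B c) • x = c • x := fun c x => by
    show (Function.surjInv hsurj (algebraMap A B c)) • x = c • x
    have hmem : Function.surjInv hsurj (algebraMap A B c) - c ∈ RingHom.ker (algebraMap A B) := by
      rw [RingHom.mem_ker, map_sub, Function.surjInv_eq hsurj, sub_self]
    have := hQ _ hmem x
    rwa [sub_smul, sub_eq_zero] at this
  letI mB : Module B Q := Function.Surjective.moduleLeft (algebraMap A B) hsurj hsmul
  let N : ModuleCat.{u} B := ModuleCat.of B Q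
  let e : ((res A B).obj N) ≃ₗ[A] Q :=
    { toFun := fun x => x
      invFun := fun x => x
      map_add' := fun _ _ => rfl
      map_smul' := fun a x => hsmul a x
      left_inv := fun _ => rfl
      right_inv := fun _ => rfl }
  exact ⟨N, ⟨e.toModuleIso⟩⟩

/-- dévissage for the functors `M ↦ H^i(M ⊗ P^•)` -/
theorem devissage (hsurj : Function.Surjective (algebraMap A B))
    (hnil : IsNilpotent (RingHom.ker (algebraMap A B)))
    (P : DRing.Cx A) (hfl : ∀ q, Module.Flat A (P.X q)) (i : ℤ)
    (h : ∀ N : ModuleCat.{u} B, IsZero ((TorFun.T (T A) P i).obj ((res A B).obj N)))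
    (M : ModuleCat.{u} A) : IsZero ((TorFun.T (T A) P i).obj M) := by
  have hPfl : ∀ q, PreservesFiniteLimits ((T A).flip.obj (P.X q)) :=
    fun q => (flat_iff_preservesFiniteLimits A _).1 (hfl q)
  refine devissage_gen (TorFun.T (T A) P i)
    (fun S hS => TorFun.exact_map_T (T A) P hPfl S hS i) _ hnil (fun Q hQ => ?_) M
  obtain ⟨N, ⟨e⟩⟩ := exists_res_iso hsurj Q hQ
  exact (h N).of_iso ((TorFun.T (T A) P i).mapIso e.symm)

/-- `(N ⊗_B (B ⊗_A P^•))|_A ≅ N|_A ⊗_A P^•` -/
noncomputable def compIso (N : ModuleCat.{u} B) (P : DRing.Cx A) :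
    (SP (T A) P).obj ((res A B).obj N) ≅
      ((res A B).mapHomologicalComplex (ComplexShape.up ℤ)).obj
        ((SP (T B) (((ext A B).mapHomologicalComplex (ComplexShape.up ℤ)).obj P)).obj N) :=
  HomologicalComplex.Hom.isoOfComponents (fun q => (cbIso N (P.X q)).symm)
    (fun q q' _ => (cbIso_inv_nat₂ N (P.d q q')).symm)

lemma isZero_T_res (N : ModuleCat.{u} B) (P : DRing.Cx A) (i : ℤ)
    (h : IsZero ((TorFun.T (T B)
      (((ext A B).mapHomologicalComplex (ComplexShape.up ℤ)).obj P) i).obj N)) :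
    IsZero ((TorFun.T (T A) P i).obj ((res A B).obj N)) := by
  have h1 : ((SP (T B) (((ext A B).mapHomologicalComplex (ComplexShape.up ℤ)).obj P)).obj
      N).ExactAt i := (HomologicalComplex.exactAt_iff_isZero_homology _ _).2 h
  have h2 : (((res A B).mapHomologicalComplex (ComplexShape.up ℤ)).obj
      ((SP (T B) (((ext A B).mapHomologicalComplex (ComplexShape.up ℤ)).obj P)).obj
        N)).ExactAt i := by
    rw [HomologicalComplex.exactAt_iff] at h1 ⊢
    exact h1.map (res A B)
  have h3 := (HomologicalComplex.exactAt_iff_isZero_homology _ _).1 h2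
  exact h3.of_iso ((HomologicalComplex.homologyFunctor _ _ i).mapIso (compIso N P))

section OneRing

variable {R : Type u} [CommRing R]

lemma isZero_T_iff_of_quasiIso {X Y : DRing.Cx R} (hX : KF R X) (hY : KF R Y) (s : X ⟶ Y)
    [QuasiIso s] (N : ModuleCat.{u} R) (i : ℤ) :
    IsZero ((TorFun.T (T R) X i).obj N) ↔ IsZero ((TorFun.T (T R) Y i).obj N) := by
  let N0 : DRing.Cx R := (HomologicalComplex.single (ModuleCat.{u} R) (ComplexShape.up ℤ) 0).obj N
  let f := N0 ◁ s
  haveI : QuasiIso f := quasiIso_whiskerLeft X Y hX hY s N0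
  let hm := HomologicalComplex.homologyMap f i
  haveI : IsIso hm := (quasiIsoAt_iff_isIso_homologyMap f i).1 inferInstance
  let e1 := (HomologicalComplex.homologyFunctor (ModuleCat.{u} R) (ComplexShape.up ℤ) i).mapIso
    ((xiIso (T R) X).app N)
  let e2 := (HomologicalComplex.homologyFunctor (ModuleCat.{u} R) (ComplexShape.up ℤ) i).mapIso
    ((xiIso (T R) Y).app N)
  exact e1.isZero_iff.trans ((asIso hm).isZero_iff.trans e2.isZero_iff.symm)

lemma isZero_T_of_iso {E K : DRing.Cx R} (hE : KF R E) (hK : KF R K)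
    (φ : DRing.toD E ≅ DRing.toD K) (N : ModuleCat.{u} R) (i : ℤ)
    (h : IsZero ((TorFun.T (T R) E i).obj N)) : IsZero ((TorFun.T (T R) K i).obj N) := by
  obtain ⟨P, s, g, hP, -, hs, hg⟩ := exists_kf_roof φ
  haveI := hs
  haveI := hg
  exact (isZero_T_iff_of_quasiIso hP hK g N i).1 ((isZero_T_iff_of_quasiIso hP hE s N i).2 h)

lemma isZero_T_of_isZero_X (E : DRing.Cx R) (N : ModuleCat.{u} R) (i : ℤ) (h : IsZero (E.X i)) :
    IsZero ((TorFun.T (T R) E i).obj N) := by
  show IsZero (((SP (T R) E).obj N).homology i)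
  apply ShortComplex.isZero_homology_of_isZero_X₂
  exact ((T R).obj N).map_isZero h

lemma exactAt_of_isZero_T_unit (P : DRing.Cx R) (i : ℤ)
    (h : IsZero ((TorFun.T (T R) P i).obj (𝟙_ (ModuleCat.{u} R)))) : P.ExactAt i := by
  rw [HomologicalComplex.exactAt_iff_isZero_homology]
  exact h.of_iso
    ((HomologicalComplex.homologyFunctor (ModuleCat.{u} R) (ComplexShape.up ℤ) i).mapIso
      (spUnitIso P)).symm

/-- `N ⊗ P^• ≅ P^• ⊗ N` -/
noncomputable def spTNIso (P : DRing.Cx R) (N : ModuleCat.{u} R) :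
    (SP (T R) P).obj N ≅ (TN N).obj P :=
  (NatIso.mapHomologicalComplex (BraidedCategory.tensorLeftIsoTensorRight N)
    (ComplexShape.up ℤ)).app P

lemma exactAt_TN_of_isZero_T (P : DRing.Cx R) (N : ModuleCat.{u} R) (i : ℤ)
    (h : IsZero ((TorFun.T (T R) P i).obj N)) : ((TN N).obj P).ExactAt i := by
  rw [HomologicalComplex.exactAt_iff_isZero_homology]
  exact h.of_iso
    ((HomologicalComplex.homologyFunctor (ModuleCat.{u} R) (ComplexShape.up ℤ) i).mapIso
      (spTNIso P N)).symm

end OneRing

/-- the basic vanishing statement: if `K' ⊗^L B` is represented by a K-flat complex `E` with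
`E^i = 0`, then `H^i(M ⊗ P^•) = 0` for every `A`-module `M` and every K-projective, K-flat,
termwise flat representative `P` of `K'` -/
theorem isZero_T_of_lBaseChange (hsurj : Function.Surjective (algebraMap A B))
    (hnil : IsNilpotent (RingHom.ker (algebraMap A B))) [DRing.HasLBaseChange (algebraMap A B)]
    (K' : Dual.D A) (P : DRing.Cx A) [P.IsKProjective] (hPkf : KF A P)
    (hPfl : ∀ q, Module.Flat A (P.X q)) (eP : DRing.toD P ≅ K')
    (E : DRing.Cx B) (hE : KF B E)
    (eE : DRing.toD E ≅ (DRing.LBaseChange (algebraMap A B)).obj K') (i : ℤ)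
    (hEi : IsZero (E.X i)) (M : ModuleCat.{u} A) : IsZero ((TorFun.T (T A) P i).obj M) := by
  obtain ⟨eL⟩ := nonempty_lBaseChange_iso_of_isKProjective (algebraMap A B) P
  refine devissage hsurj hnil P hPfl i (fun N => isZero_T_res N P i ?_) M
  exact isZero_T_of_iso hE (kf_ext (R := A) (R' := B) P hPkf)
    (eE ≪≫ (DRing.LBaseChange (algebraMap A B)).mapIso eP.symm ≪≫ eL) N i
    (isZero_T_of_isZero_X E N i hEi)

/-- **tor amplitude descends along a surjection with nilpotent kernel** -/
theorem hasTorAmplitudeIn_of_lBaseChange (hsurj : Function.Surjective (algebraMap A B))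
    (hnil : IsNilpotent (RingHom.ker (algebraMap A B))) [DRing.HasLBaseChange (algebraMap A B)]
    (K' : Dual.D A) (a b : ℤ)
    (hT : DRing.HasTorAmplitudeIn B a b ((DRing.LBaseChange (algebraMap A B)).obj K')) :
    DRing.HasTorAmplitudeIn A a b K' := by
  obtain ⟨E, hEv, hEfl, ⟨eE⟩⟩ := hT
  have hE : KF B E := kf_of_vanishesAbove E b (fun i hi => hEv i (Or.inr hi)) hEfl
  obtain ⟨P, π, hπ, hPkp, hPkf, hPfl⟩ :=
    Groth.Agent.Lib.KProjRes.exists_kproj_resolution (DerivedCategory.Q.objPreimage K')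
  haveI := hπ
  haveI := hPkp
  haveI : IsIso (DerivedCategory.Q.map π) :=
    (DerivedCategory.isIso_Q_map_iff_quasiIso _ _).2 inferInstance
  let eP : DRing.toD P ≅ K' :=
    asIso (DerivedCategory.Q.map π) ≪≫ DerivedCategory.Q.objObjPreimageIso K'
  have hvan : ∀ (i : ℤ), (i < a ∨ b < i) → ∀ M : ModuleCat.{u} A,
      IsZero ((TorFun.T (T A) P i).obj M) := fun i hi M =>
    isZero_T_of_lBaseChange hsurj hnil K' P hPkf hPfl eP E hE eE i (hEv i hi) M
  haveI : DerivedCategory.IsLE K' b := isLE_of_subsingleton_HD K' b (fun i hi =>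
    (exactAt_iff_subsingleton_HD eP i).1
      (exactAt_of_isZero_T_unit P i (hvan i (Or.inr hi) _)))
  obtain ⟨P₂, hP₂free, hP₂b, ⟨e₂⟩⟩ := exists_free_resolution K' b
  have hP₂fl : DRing.TermwiseFlat P₂ := fun j => by
    haveI := hP₂free j
    exact Module.Flat.of_free
  have hP₂kf : KF A P₂ := kf_of_vanishesAbove P₂ b hP₂b hP₂fl
  have hvan₂ : ∀ (i : ℤ), (i < a ∨ b < i) → ∀ M : ModuleCat.{u} A,
      IsZero ((TorFun.T (T A) P₂ i).obj M) := fun i hi M =>
    isZero_T_of_iso hPkf hP₂kf (eP ≪≫ e₂.symm) M i (hvan i hi M)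
  exact hasTorAmplitudeIn_of_iso e₂ a b
    (hasTorAmplitudeIn_of_TN_exact' P₂ a b hP₂b hP₂fl
      (fun i hi => exactAt_of_isZero_T_unit P₂ i (hvan₂ i (Or.inl hi) _))
      (fun N => exactAt_TN_of_isZero_T P₂ N (a - 1) (hvan₂ (a - 1) (Or.inl (by omega)) N)))

end Groth.Agent.Lib.NilpTor
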