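import Mathlib
import Groth.Agent.Lib.NilpTor_helper2

/-!
# Dévissage for `M ↦ H^i(K ⊗^L M)` (helper2)

* `devissage_pow`: a middle-exact additive functor killing the modules annihilated by `I` kills
  the modules annihilated by a power of `I`;
* `devissage_finiteLength`: a middle-exact additive functor killing the simple modules kills the
  modules of finite length;
* `H^i(K ⊗^L M)` computed through a K-projective resolution;
* if `K ⊗^L R/I` has no cohomology above `c`, so has `K ⊗^L N` for `N` killed by a power of `I`;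
* over a local ring, if `K ⊗^L κ` has no cohomology in degree `i`, so has `K ⊗^L N` for `N` of
  finite length.
-/

set_option autoImplicit false
universe u
open CategoryTheory Limits MonoidalCategory

namespace Groth.Agent.Lib.TorDev

open Groth.Agent.Lib.KFlatMod Groth.Agent.Lib.KFlatGen Groth.Agent.Lib.ExtKFlat
  Groth.Agent.Lib.DRingLT Groth.Agent.Lib.BifSingleL Groth.Agent.Lib.DMod_helper6
  Groth.Agent.Lib.NilpTor

attribute [local instance] HasDerivedCategory.standard

section Gen

variable {A : Type u} [CommRing A] {𝒟 : Type*} [Category 𝒟] [Abelian 𝒟]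

/-- dévissage along the powers of an ideal -/
theorem devissage_pow (Tf : ModuleCat.{u} A ⥤ 𝒟) [Tf.Additive]
    (hex : ∀ S : ShortComplex (ModuleCat.{u} A), S.ShortExact → (S.map Tf).Exact)
    (I : Ideal A)
    (h : ∀ Q : ModuleCat.{u} A, (∀ a ∈ I, ∀ q : Q, a • q = 0) → IsZero (Tf.obj Q))
    (k : ℕ) (M : ModuleCat.{u} A) (hM : ∀ a ∈ I ^ k, ∀ m : M, a • m = 0) :
    IsZero (Tf.obj M) := by
  induction k generalizing M with
  | zero =>
    apply Tf.map_isZero
    have h1 : (1 : A) ∈ I ^ 0 := by
      rw [pow_zero, Ideal.one_eq_top]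
      trivial
    haveI : Subsingleton M := ⟨fun x y => by
      have hx := hM 1 h1 x
      have hy := hM 1 h1 y
      rw [one_smul] at hx hy
      rw [hx, hy]⟩
    exact ModuleCat.isZero_of_subsingleton M
  | succ k ih =>
    let M' : Submodule A M := I • ⊤
    let S : ShortComplex (ModuleCat.{u} A) :=
      ShortComplex.mk (ModuleCat.ofHom M'.subtype) (ModuleCat.ofHom M'.mkQ) (by
        refine ModuleCat.hom_ext (LinearMap.ext fun x => ?_)
        exact (Submodule.Quotient.mk_eq_zero M').2 x.2)
    have hS : S.ShortExact :=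
      ModuleCat.shortComplex_shortExact S (LinearMap.exact_subtype_mkQ M')
        M'.injective_subtype M'.mkQ_surjective
    have h1 : IsZero (Tf.obj S.X₁) := by
      refine ih (ModuleCat.of A M') (fun a ha m' => ?_)
      apply Subtype.ext
      show a • (m' : M) = 0
      have hm : (m' : M) ∈ I • (⊤ : Submodule A M) := m'.2
      refine Submodule.smul_induction_on hm (fun r hr n _ => ?_) (fun x y hx hy => ?_)
      · rw [smul_smul]
        refine hM (a * r) ?_ n
        rw [pow_succ]
        exact Ideal.mul_mem_mul ha hr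
      · rw [smul_add, hx, hy, add_zero]
    have h3 : IsZero (Tf.obj S.X₃) := by
      refine h (ModuleCat.of A (M ⧸ M')) (fun a ha q => ?_)
      obtain ⟨m, rfl⟩ := M'.mkQ_surjective q
      rw [← map_smul]
      exact (Submodule.Quotient.mk_eq_zero M').2 (Submodule.smul_mem_smul ha Submodule.mem_top)
    exact (hex S hS).isZero_of_both_isZero h1 h3

/-- dévissage for modules of finite length -/
theorem devissage_finiteLength (Tf : ModuleCat.{u} A ⥤ 𝒟) [Tf.Additive]
    (hex : ∀ S : ShortComplex (ModuleCat.{u} A), S.ShortExact → (S.map Tf).Exact)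
    (h : ∀ Q : ModuleCat.{u} A, IsSimpleModule A Q → IsZero (Tf.obj Q))
    (M : Type u) [AddCommGroup M] [Module A M] (hM : IsFiniteLength A M) :
    IsZero (Tf.obj (ModuleCat.of A M)) := by
  induction hM with
  | of_subsingleton => exact Tf.map_isZero (ModuleCat.isZero_of_subsingleton _)
  | @of_simple_quotient M _ _ N hs _ ih =>
    let S : ShortComplex (ModuleCat.{u} A) :=
      ShortComplex.mk (ModuleCat.ofHom N.subtype) (ModuleCat.ofHom N.mkQ) (by
        refine ModuleCat.hom_ext (LinearMap.ext fun x => ?_)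
        exact (Submodule.Quotient.mk_eq_zero N).2 x.2)
    have hS : S.ShortExact :=
      ModuleCat.shortComplex_shortExact S (LinearMap.exact_subtype_mkQ N)
        N.injective_subtype N.mkQ_surjective
    exact (hex S hS).isZero_of_both_isZero ih (h (ModuleCat.of A (M ⧸ N)) hs)

end Gen

section One

variable {R : Type u} [CommRing R]

/-- `H^i(K ⊗^L M)` through a K-projective representative -/
theorem subsingleton_HD_lTensor_iff (K : Dual.D R) (P : DRing.Cx R) [P.IsKProjective]
    (eP : DRing.toD P ≅ K) (M : ModuleCat.{u} R) [DRing.HasLTensor R M] (i : ℤ) :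
    Subsingleton (Dual.HD R ((DRing.LTensor R M).obj K) i) ↔
      IsZero ((TorFun.T (T R) P i).obj M) := by
  obtain ⟨eL⟩ := nonempty_lTensor_iso_of_isKProjective M P
  have e1 : DRing.toD ((TN M).obj P) ≅ (DRing.LTensor R M).obj K :=
    eL.symm ≪≫ (DRing.LTensor R M).mapIso eP
  rw [← exactAt_iff_subsingleton_HD e1 i, HomologicalComplex.exactAt_iff_isZero_homology]
  exact ((HomologicalComplex.homologyFunctor (ModuleCat.{u} R) (ComplexShape.up ℤ) i).mapIso
      (spTNIso P M)).symm.isZero_iff

lemma isZero_T_unit_of_exactAt (P : DRing.Cx R) (i : ℤ) (h : P.ExactAt i) :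
    IsZero ((TorFun.T (T R) P i).obj (𝟙_ (ModuleCat.{u} R))) := by
  rw [HomologicalComplex.exactAt_iff_isZero_homology] at h
  exact h.of_iso
    ((HomologicalComplex.homologyFunctor (ModuleCat.{u} R) (ComplexShape.up ℤ) i).mapIso
      (spUnitIso P))

end One

section Two

variable {A B : Type u} [CommRing A] [CommRing B] [Algebra A B]

lemma isZero_T_of_res (N : ModuleCat.{u} B) (P : DRing.Cx A) (i : ℤ)
    (h : IsZero ((TorFun.T (T A) P i).obj ((res A B).obj N))) :
    IsZero ((TorFun.T (T B)
      (((ext A B).mapHomologicalComplex (ComplexShape.up ℤ)).obj P) i).obj N) := by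
  have h3 : IsZero ((((res A B).mapHomologicalComplex (ComplexShape.up ℤ)).obj
      ((SP (T B) (((ext A B).mapHomologicalComplex (ComplexShape.up ℤ)).obj P)).obj
        N)).homology i) :=
    h.of_iso ((HomologicalComplex.homologyFunctor _ _ i).mapIso (compIso N P).symm)
  have h2 := (HomologicalComplex.exactAt_iff_isZero_homology _ _).2 h3
  have h1 : ((SP (T B) (((ext A B).mapHomologicalComplex (ComplexShape.up ℤ)).obj P)).obj
      N).ExactAt i := by
    rw [HomologicalComplex.exactAt_iff] at h2 ⊢
    exact (ShortComplex.exact_map_iff_of_faithful _ (res A B)).1 h2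
  exact (HomologicalComplex.exactAt_iff_isZero_homology _ _).1 h1

/-- `B` as an `A`-module is the restriction of scalars of the unit -/
noncomputable def resUnitIso :
    (res A B).obj (𝟙_ (ModuleCat.{u} B)) ≅ ModuleCat.of A B := by
  let e : ((res A B).obj (𝟙_ (ModuleCat.{u} B))) ≃ₗ[A] B :=
    { toFun := fun x => x
      invFun := fun x => x
      map_add' := fun _ _ => rfl
      map_smul' := fun a x => algebraMap_smul B a (show B from x)
      left_inv := fun _ => rfl
      right_inv := fun _ => rfl }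
  exact e.toModuleIso

end Two

section Pow

variable {R : Type u} [CommRing R]

/-- if `K ⊗^L R/I` has no cohomology above `c`, so has `K ⊗^L N` for `N` killed by a power of `I` -/
theorem lTensor_killed_by_pow (I : Ideal R)
    [DRing.HasLTensor R (ModuleCat.of R (R ⧸ I))] (K : Dual.D R) (c : ℤ)
    (hK : ∀ i : ℤ, c < i →
      Subsingleton (Dual.HD R ((DRing.LTensor R (ModuleCat.of R (R ⧸ I))).obj K) i))
    (N : Type u) [AddCommGroup N] [Module R N] (n : ℕ) (hN : I ^ n • (⊤ : Submodule R N) = ⊥)
    [DRing.HasLTensor R (ModuleCat.of R N)] (i : ℤ) (hi : c < i) :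
    Subsingleton (Dual.HD R ((DRing.LTensor R (ModuleCat.of R N)).obj K) i) := by
  obtain ⟨P, π, hπ, hPkp, hPkf, hPfl⟩ :=
    Groth.Agent.Lib.KProjRes.exists_kproj_resolution (DerivedCategory.Q.objPreimage K)
  haveI := hπ
  haveI := hPkp
  haveI : IsIso (DerivedCategory.Q.map π) :=
    (DerivedCategory.isIso_Q_map_iff_quasiIso _ _).2 inferInstance
  let eP : DRing.toD P ≅ K :=
    asIso (DerivedCategory.Q.map π) ≪≫ DerivedCategory.Q.objObjPreimageIso K
  rw [subsingleton_HD_lTensor_iff K P eP]
  let Qc : DRing.Cx (R ⧸ I) :=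
    ((ext R (R ⧸ I)).mapHomologicalComplex (ComplexShape.up ℤ)).obj P
  have hQkf : KF (R ⧸ I) Qc := kf_ext (R := R) (R' := R ⧸ I) P hPkf
  have hQex : ∀ j, c < j → Qc.ExactAt j := fun j hj => by
    have h1 := (subsingleton_HD_lTensor_iff K P eP (ModuleCat.of R (R ⧸ I)) j).1 (hK j hj)
    have h2 : IsZero ((TorFun.T (T R) P j).obj
        ((res R (R ⧸ I)).obj (𝟙_ (ModuleCat.{u} (R ⧸ I))))) :=
      h1.of_iso ((TorFun.T (T R) P j).mapIso (resUnitIso (A := R) (B := R ⧸ I)))
    exact exactAt_of_isZero_T_unit Qc j (isZero_T_of_res _ P j h2)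
  haveI : DerivedCategory.IsLE (DRing.toD Qc) c := isLE_of_subsingleton_HD _ c
    (fun j hj => (exactAt_iff_subsingleton_HD (Iso.refl _) j).1 (hQex j hj))
  obtain ⟨F, hFfree, hFb, ⟨eF⟩⟩ := exists_free_resolution (DRing.toD Qc) c
  have hFkf : KF (R ⧸ I) F := kf_of_vanishesAbove F c hFb
    (fun j => by haveI := hFfree j; exact Module.Flat.of_free)
  have hvanB : ∀ M : ModuleCat.{u} (R ⧸ I), IsZero ((TorFun.T (T (R ⧸ I)) Qc i).obj M) :=
    fun M => isZero_T_of_iso hFkf hQkf eF M i (isZero_T_of_isZero_X F M i (hFb i hi))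
  have hPfl' : ∀ q, PreservesFiniteLimits ((T R).flip.obj (P.X q)) :=
    fun q => (flat_iff_preservesFiniteLimits R _).1 (hPfl q)
  refine devissage_pow (TorFun.T (T R) P i)
    (fun S hS => TorFun.exact_map_T (T R) P hPfl' S hS i) I (fun Q hQ => ?_) n
    (ModuleCat.of R N) (fun a ha m => ?_)
  · have hker : RingHom.ker (algebraMap R (R ⧸ I)) = I := Ideal.mk_ker
    obtain ⟨N', ⟨e⟩⟩ := exists_res_iso (A := R) (B := R ⧸ I) Ideal.Quotient.mk_surjective Q
      (fun a ha q => hQ a (by rwa [hker] at ha) q)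
    exact (isZero_T_res N' P i (hvanB N')).of_iso ((TorFun.T (T R) P i).mapIso e.symm)
  · have hm : a • m ∈ I ^ n • (⊤ : Submodule R N) :=
      Submodule.smul_mem_smul ha Submodule.mem_top
    rw [hN] at hm
    exact (Submodule.mem_bot R).1 hm

end Pow

section Local

variable (R : Type u) [CommRing R] [IsLocalRing R]

/-- over a local ring: if `H^i(P ⊗^L κ) = 0` then `H^i(P ⊗^L N) = 0` for `N` of finite length -/
theorem lTensor_finiteLength [DRing.HasLBaseChange (IsLocalRing.residue R)]
    (P : Dual.D R) (i : ℤ)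
    (h : Subsingleton (Dual.HD (IsLocalRing.ResidueField R)
      ((DRing.LBaseChange (IsLocalRing.residue R)).obj P) i))
    (N : Type u) [AddCommGroup N] [Module R N] (hN : IsFiniteLength R N)
    [DRing.HasLTensor R (ModuleCat.of R N)] :
    Subsingleton (Dual.HD R ((DRing.LTensor R (ModuleCat.of R N)).obj P) i) := by
  obtain ⟨P', π, hπ, hPkp, hPkf, hPfl⟩ :=
    Groth.Agent.Lib.KProjRes.exists_kproj_resolution (DerivedCategory.Q.objPreimage P)
  haveI := hπ
  haveI := hPkp
  haveI : IsIso (DerivedCategory.Q.map π) :=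
    (DerivedCategory.isIso_Q_map_iff_quasiIso _ _).2 inferInstance
  let eP : DRing.toD P' ≅ P :=
    asIso (DerivedCategory.Q.map π) ≪≫ DerivedCategory.Q.objObjPreimageIso P
  rw [subsingleton_HD_lTensor_iff P P' eP]
  haveI : DRing.HasLBaseChange (algebraMap R (IsLocalRing.ResidueField R)) :=
    (inferInstance : DRing.HasLBaseChange (IsLocalRing.residue R))
  obtain ⟨eL⟩ := nonempty_lBaseChange_iso_of_isKProjective
    (algebraMap R (IsLocalRing.ResidueField R)) P'
  let Qc : DRing.Cx (IsLocalRing.ResidueField R) :=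
    ((ext R (IsLocalRing.ResidueField R)).mapHomologicalComplex (ComplexShape.up ℤ)).obj P'
  have hQex : Qc.ExactAt i :=
    (exactAt_iff_subsingleton_HD (eL.symm ≪≫
      (DRing.LBaseChange (algebraMap R (IsLocalRing.ResidueField R))).mapIso eP) i).2 h
  have h0 : IsZero ((TorFun.T (T R) P' i).obj
      ((res R (IsLocalRing.ResidueField R)).obj
        (𝟙_ (ModuleCat.{u} (IsLocalRing.ResidueField R))))) :=
    isZero_T_res _ P' i (isZero_T_unit_of_exactAt Qc i hQex)
  have hPfl' : ∀ q, PreservesFiniteLimits ((T R).flip.obj (P'.X q)) :=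
    fun q => (flat_iff_preservesFiniteLimits R _).1 (hPfl q)
  refine devissage_finiteLength (TorFun.T (T R) P' i)
    (fun S hS => TorFun.exact_map_T (T R) P' hPfl' S hS i) (fun Q hQ => ?_) N hN
  obtain ⟨m, hm, ⟨e⟩⟩ := isSimpleModule_iff_quot_maximal.1 hQ
  have hmm : m = IsLocalRing.maximalIdeal R := IsLocalRing.eq_maximalIdeal hm
  subst hmm
  have e2 : Q ≅ (res R (IsLocalRing.ResidueField R)).obj
      (𝟙_ (ModuleCat.{u} (IsLocalRing.ResidueField R))) :=
    e.toModuleIso ≪≫ (resUnitIso (A := R) (B := IsLocalRing.ResidueField R)).symm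
  exact h0.of_iso ((TorFun.T (T R) P' i).mapIso e2)

end Local

end Groth.Agent.Lib.TorDev
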