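import Mathlib
import Groth.Prelude.Def_DTen4
import Groth.Agent.Lib.DerivedAdj_helper2
import Groth.Agent.Lib.KProjAdj_helper2
import Groth.Agent.Lib.TorDev_helper2
import Groth.Agent.Lib.BifCone_helper2

/-!
# Derived base change is computed termwise on K-flat complexes (helper2)

`DTen.baseCmp φ : (Q K) ⊗^L_R A ⟶ Q(K ⊗_R A)` is an isomorphism for `K` K-flat, where `- ⊗^L_R A` is
the (chosen) left adjoint of restriction of scalars `D(A) ⥤ D(R)`.
-/

set_option autoImplicit false
universe w v u
open CategoryTheory Limits MonoidalCategory ZeroObject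

namespace Groth.Agent.Lib.BaseCmp

open DerivedCategory Groth.Agent.Lib.DMod_helper6 Groth.Agent.Lib.DerivedAdj
  Groth.Agent.Lib.KFlatMod Groth.Agent.Lib.KFlatGen Groth.Agent.Lib.ExtKFlat
  Groth.Agent.Lib.NilpTor Groth.Agent.Lib.BifCone Groth.Agent.Lib.DRingLT
  Groth.Agent.Lib.BifSingleL

section Generic

variable {C : Type u} [Category.{v} C] [Abelian C] [HasDerivedCategory.{w} C]

/-- for `E` K-projective, `Q.map` is injective up to homotopy -/
lemma quotient_map_eq_of_Q_map_eq {E F : CochainComplex C ℤ} [E.IsKProjective] (a b : E ⟶ F)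
    (h : Q.map a = Q.map b) :
    (HomotopyCategory.quotient C (ComplexShape.up ℤ)).map a =
      (HomotopyCategory.quotient C (ComplexShape.up ℤ)).map b := by
  apply (CochainComplex.IsKProjective.Qh_map_bijective E
    ((HomotopyCategory.quotient _ _).obj F)).injective
  have h1 := (quotientCompQhIso C).hom.naturality a
  have h2 := (quotientCompQhIso C).hom.naturality b
  simp only [Functor.comp_map] at h1 h2
  rw [h] at h1
  exact (cancel_mono _).1 (h1.trans h2.symm)

omit [HasDerivedCategory C] in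
lemma quasiIso_of_acyclic {K L : CochainComplex C ℤ} (g : K ⟶ L) (hK : K.Acyclic)
    (hL : L.Acyclic) : QuasiIso g := by
  rw [quasiIso_iff_acyclic_mappingCone]
  exact acyclic_mappingCone_of_acyclic g hK hL

omit [HasDerivedCategory C] in
lemma acyclic_zero : (0 : CochainComplex C ℤ).Acyclic := by
  intro i
  rw [HomologicalComplex.exactAt_iff_isZero_homology]
  exact (HomologicalComplex.homologyFunctor C (ComplexShape.up ℤ) i).map_isZero (isZero_zero _)

end Generic

attribute [local instance] HasDerivedCategory.standard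

section KFlat

variable {R A : Type u} [CommRing R] [CommRing A] [Algebra R A]

lemma kf_zero : KF R (0 : DRing.Cx R) := by
  refine kf_of_vanishesAbove 0 0 (fun i _ => isZero_X_of_isZero (isZero_zero _) i) (fun i => ?_)
  haveI : Subsingleton ((0 : DRing.Cx R).X i) :=
    ModuleCat.subsingleton_of_isZero (isZero_X_of_isZero (isZero_zero _) i)
  infer_instance

/-- for an acyclic K-flat complex `C`, all `M ⊗ C^•` are acyclic -/
lemma isZero_T_of_acyclic (C : DRing.Cx R) (hC : KF R C) (hac : C.Acyclic)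
    (N : ModuleCat.{u} R) (i : ℤ) : IsZero ((TorFun.T (T R) C i).obj N) := by
  haveI : QuasiIso (0 : C ⟶ 0) := quasiIso_of_acyclic _ hac acyclic_zero
  exact (isZero_T_iff_of_quasiIso hC kf_zero (0 : C ⟶ 0) N i).2
    (isZero_T_of_isZero_X 0 N i (isZero_X_of_isZero (isZero_zero _) i))

/-- extension of scalars preserves acyclic K-flat complexes -/
theorem acyclic_ext_of_kf (C : DRing.Cx R) (hC : KF R C) (hac : C.Acyclic) :
    (((ext R A).mapHomologicalComplex (ComplexShape.up ℤ)).obj C).Acyclic := by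
  intro i
  exact exactAt_of_isZero_T_unit _ i
    (Groth.Agent.Lib.TorDev.isZero_T_of_res (𝟙_ (ModuleCat.{u} A)) C i
      (isZero_T_of_acyclic C hC hac _ i))

/-- extension of scalars preserves quasi-isomorphisms between K-flat complexes -/
theorem quasiIso_ext_of_kf {P K : DRing.Cx R} (hP : KF R P) (hK : KF R K) (s : P ⟶ K)
    [hs : QuasiIso s] :
    QuasiIso (((ext R A).mapHomologicalComplex (ComplexShape.up ℤ)).map s) := by
  rw [quasiIso_iff_acyclic_mappingCone] at hs ⊢
  have hcone : KF R (CochainComplex.mappingCone s) := by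
    rw [kf_iff] at hP hK ⊢
    exact (isKFlat_mappingCone s).1 hP hK
  exact acyclic_of_iso (CochainComplex.mappingCone.mapHomologicalComplexIso s (ext R A))
    (acyclic_ext_of_kf _ hcone hs)

end KFlat

section Main

variable {R A : Type u} [CommRing R] [CommRing A] (φ : R →+* A)

/-- the adjunction `extendScalars ⊣ restrictScalars` -/
noncomputable abbrev adj0 : ModuleCat.extendScalars.{u, u, u} φ ⊣ ModuleCat.restrictScalars.{u} φ :=
  ModuleCat.extendRestrictScalarsAdj.{u, u, u} φ

lemma unitCx_app (P : DRing.Cx R) :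
    (DTen.unitCx φ).app P = (unitC (adj0 φ) (ComplexShape.up ℤ)).app P := rfl

variable [DTen.HasLBase φ]

lemma baseγ_comp_map (P : DRing.Cx R) (Z : DRing.Cx A) (g0 : (DTen.extCx φ).obj P ⟶ Z) :
    (DTen.baseγ φ).app P ≫ (DRing.restrictD φ).map (Q.map g0) =
      Q.map ((unitC (adj0 φ) (ComplexShape.up ℤ)).app P ≫ (DTen.resCx φ).map g0) ≫
        (DTen.resFactors φ).inv.app Z := by
  have h := (DTen.resFactors φ).inv.naturality g0
  simp only [Functor.comp_map] at h
  show (Q.map ((DTen.unitCx φ).app P) ≫ (DTen.resFactors φ).inv.app ((DTen.extCx φ).obj P)) ≫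
    (DRing.restrictD φ).map (Q.map g0) = _
  rw [Category.assoc, ← h, ← Category.assoc, ← Functor.map_comp, unitCx_app]

theorem bijective_Φ (P : DRing.Cx R) [P.IsKProjective] (Z : DRing.Cx A) :
    Function.Bijective (fun g : Q.obj ((DTen.extCx φ).obj P) ⟶ Q.obj Z =>
      (DTen.baseγ φ).app P ≫ (DRing.restrictD φ).map g) := by
  haveI : ((DTen.extCx φ).obj P).IsKProjective :=
    Groth.Agent.Lib.KProjAdj.isKProjective_extendScalars φ P
  constructor
  · intro g1 g2 h
    obtain ⟨g10, rfl⟩ := exists_Q_map_eq_of_isKProjective g1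
    obtain ⟨g20, rfl⟩ := exists_Q_map_eq_of_isKProjective g2
    simp only [baseγ_comp_map] at h
    have h1 := (cancel_mono _).1 h
    have h2 := quotient_map_eq_of_Q_map_eq (E := P) _ _ h1
    have h3 : (adjK (adj0 φ) (ComplexShape.up ℤ)).homEquiv _ _
          ((HomotopyCategory.quotient _ _).map g10) =
        (adjK (adj0 φ) (ComplexShape.up ℤ)).homEquiv _ _
          ((HomotopyCategory.quotient _ _).map g20) := by
      rw [Adjunction.homEquiv_unit, Adjunction.homEquiv_unit]
      show (HomotopyCategory.quotient _ _).map ((unitC (adj0 φ) (ComplexShape.up ℤ)).app P) ≫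
          (HomotopyCategory.quotient _ _).map ((DTen.resCx φ).map g10) =
        (HomotopyCategory.quotient _ _).map ((unitC (adj0 φ) (ComplexShape.up ℤ)).app P) ≫
          (HomotopyCategory.quotient _ _).map ((DTen.resCx φ).map g20)
      rw [← Functor.map_comp, ← Functor.map_comp]
      exact h2
    have h4 := ((adjK (adj0 φ) (ComplexShape.up ℤ)).homEquiv _ _).injective h3
    exact DerivedCategory.Q_map_eq_of_homotopy (C := ModuleCat.{u} A)
      (HomotopyCategory.homotopyOfEq _ _ h4)
  · intro h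
    obtain ⟨h0, hh0⟩ := exists_Q_map_eq_of_isKProjective (h ≫ (DTen.resFactors φ).hom.app Z)
    let g0 : (DTen.extCx φ).obj P ⟶ Z :=
      ((adjC (adj0 φ) (ComplexShape.up ℤ)).homEquiv P Z).symm h0
    have e1 : (unitC (adj0 φ) (ComplexShape.up ℤ)).app P ≫ (DTen.resCx φ).map g0 = h0 := by
      have := ((adjC (adj0 φ) (ComplexShape.up ℤ)).homEquiv P Z).apply_symm_apply h0
      rwa [Adjunction.homEquiv_unit] at this
    refine ⟨Q.map g0, ?_⟩
    show (DTen.baseγ φ).app P ≫ (DRing.restrictD φ).map (Q.map g0) = h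
    rw [baseγ_comp_map, e1, hh0, Category.assoc, Iso.hom_inv_id_app]
    exact Category.comp_id h

/-- `baseCmp` is an isomorphism at K-projective complexes -/
theorem isIso_baseCmp_of_isKProjective (P : DRing.Cx R) [P.IsKProjective] :
    IsIso ((DTen.baseCmp φ).app P) := by
  apply isIso_of_coyoneda_map_bijective
  intro T
  let Z := Q.objPreimage T
  let e : Q.obj Z ≅ T := Q.objObjPreimageIso T
  have key : ∀ g : Q.obj ((DTen.extCx φ).obj P) ⟶ T,
      (DTen.baseAdj φ).homEquiv _ _ ((DTen.baseCmp φ).app P ≫ g) =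
        (DTen.baseγ φ).app P ≫ (DRing.restrictD φ).map g := by
    intro g
    rw [Adjunction.homEquiv_unit, Functor.map_comp, ← Category.assoc, DTen.baseCmp_fac]
  obtain ⟨hinj, hsurj⟩ := bijective_Φ φ P Z
  constructor
  · intro g1 g2 h
    have h' : (DTen.baseCmp φ).app P ≫ g1 = (DTen.baseCmp φ).app P ≫ g2 := h
    have h1 := congrArg ((DTen.baseAdj φ).homEquiv _ _) h'
    rw [key, key] at h1
    have h2 : (DTen.baseγ φ).app P ≫ (DRing.restrictD φ).map (g1 ≫ e.inv) =
        (DTen.baseγ φ).app P ≫ (DRing.restrictD φ).map (g2 ≫ e.inv) := by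
      rw [Functor.map_comp, Functor.map_comp, ← Category.assoc, ← Category.assoc, h1]
    exact (cancel_mono e.inv).1 (hinj h2)
  · intro k
    obtain ⟨g', hg'⟩ := hsurj ((DTen.baseAdj φ).homEquiv _ _ k ≫ (DRing.restrictD φ).map e.inv)
    refine ⟨g' ≫ e.hom, ?_⟩
    show (DTen.baseCmp φ).app P ≫ g' ≫ e.hom = k
    apply ((DTen.baseAdj φ).homEquiv _ _).injective
    rw [key, Functor.map_comp, ← Category.assoc]
    have hg'' : (DTen.baseγ φ).app P ≫ (DRing.restrictD φ).map g' =
      (DTen.baseAdj φ).homEquiv _ _ k ≫ (DRing.restrictD φ).map e.inv := hg'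
    rw [hg'', Category.assoc, ← Functor.map_comp, Iso.inv_hom_id, CategoryTheory.Functor.map_id,
      Category.comp_id]

/-- **`baseCmp` is an isomorphism at K-flat complexes** -/
theorem isIso_baseCmp_of_kf (K : DRing.Cx R) (hK : KF R K) :
    IsIso ((DTen.baseCmp φ).app K) := by
  obtain ⟨P, π, hπ, hPkp, hPkf, -⟩ := Groth.Agent.Lib.KProjRes.exists_kproj_resolution K
  haveI := hπ
  haveI := hPkp
  haveI : IsIso (Q.map π) := (DerivedCategory.isIso_Q_map_iff_quasiIso _ _).2 inferInstance
  haveI := isIso_baseCmp_of_isKProjective φ P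
  letI : Algebra R A := φ.toAlgebra
  haveI hq : QuasiIso ((DTen.extCx φ).map π) := quasiIso_ext_of_kf (A := A) hPkf hK π
  haveI : IsIso (Q.map ((DTen.extCx φ).map π)) :=
    (DerivedCategory.isIso_Q_map_iff_quasiIso _ _).2 hq
  have hnat := (DTen.baseCmp φ).naturality π
  simp only [Functor.comp_map] at hnat
  haveI : IsIso ((DTen.LBase φ).map (Q.map π)) := inferInstance
  have : (DTen.baseCmp φ).app K = inv ((DTen.LBase φ).map (Q.map π)) ≫
      (DTen.baseCmp φ).app P ≫ Q.map ((DTen.extCx φ).map π) := by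
    rw [← hnat, IsIso.inv_hom_id_assoc]
  rw [this]
  infer_instance

end Main

end Groth.Agent.Lib.BaseCmp
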