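import Groth.Agent.Lib.BifSES_helper2

/-!
# The total tensor complex with a complex concentrated in one degree (helper2)

`acyclic_mapBifunctor_single`: if `F(-, M)` is exact and `L` is acyclic, then
`Tot(F(L, M[-a]))` is acyclic.
-/

open CategoryTheory Limits HomologicalComplex

namespace Groth.Agent.Lib.BifSingle

variable {C₁ C₂ D : Type*} [Category C₁] [Category C₂] [Category D]
  [Abelian C₁] [Preadditive C₂] [HasZeroObject C₂] [Abelian D]
  (F : C₁ ⥤ C₂ ⥤ D) [F.Additive] [∀ X₁, (F.obj X₁).Additive]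
  [∀ (K₁ : CochainComplex C₁ ℤ) (K₂ : CochainComplex C₂ ℤ),
    CochainComplex.HasMapBifunctor K₁ K₂ F]
  (L : CochainComplex C₁ ℤ) (M : C₂) (a : ℤ)

/-- the comparison map `F(L^p, M) ⟶ Tot(F(L, M[-a]))^n` for `p + a = n`. -/
noncomputable def θ (p n : ℤ) (hp : p + a = n) : (F.obj (L.X p)).obj M ⟶
    (HomologicalComplex.mapBifunctor L ((HomologicalComplex.single C₂ (ComplexShape.up ℤ) a).obj M) F
      (ComplexShape.up ℤ)).X n :=
  (F.obj (L.X p)).map (HomologicalComplex.singleObjXSelf (ComplexShape.up ℤ) a M).inv ≫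
    HomologicalComplex.ιMapBifunctor L _ F (ComplexShape.up ℤ) p a n hp

instance isIso_θ (p n : ℤ) (hp : p + a = n) : IsIso (θ F L M a p n hp) := by
  have h1 : IsIso (HomologicalComplex.ιMapBifunctor L
      ((HomologicalComplex.single C₂ (ComplexShape.up ℤ) a).obj M) F (ComplexShape.up ℤ) p a n hp) := by
    have := ColimExact.isIso_inj_of_isZero (BifSES.isColimitTotCofan F L
      ((HomologicalComplex.single C₂ (ComplexShape.up ℤ) a).obj M) n) ⟨(p, a), hp⟩ (by
        rintro ⟨⟨p', q'⟩, hx⟩ hne
        have hx' : p' + q' = n := hx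
        have hq : q' ≠ a := by
          rintro rfl
          apply hne
          have : p' = p := by omega
          subst this
          rfl
        exact Functor.map_isZero _ (HomologicalComplex.isZero_single_obj_X _ _ _ _ hq))
    exact this
  dsimp only [θ]
  infer_instance

lemma θ_d (p n p' n' : ℤ) (hp : p + a = n) (hpp' : p + 1 = p') (hnn' : n + 1 = n') :
    θ F L M a p n hp ≫ (HomologicalComplex.mapBifunctor L
      ((HomologicalComplex.single C₂ (ComplexShape.up ℤ) a).obj M) F (ComplexShape.up ℤ)).d n n' =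
      (F.map (L.d p p')).app M ≫ θ F L M a p' n' (by omega) := by
  dsimp only [θ]
  rw [Category.assoc]
  erw [BifCone.ι_d F ((HomologicalComplex.single C₂ (ComplexShape.up ℤ) a).obj M) (K₁ := L)
    p a n n' p' (a + 1) hp hnn' hpp' rfl]
  rw [HomologicalComplex.single_obj_d, Functor.map_zero, zero_comp, smul_zero, add_zero,
    ← Category.assoc, NatTrans.naturality, Category.assoc]

theorem acyclic_mapBifunctor_single (hL : L.Acyclic)
    [PreservesFiniteLimits (F.flip.obj M)] [PreservesFiniteColimits (F.flip.obj M)] :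
    (HomologicalComplex.mapBifunctor L ((HomologicalComplex.single C₂ (ComplexShape.up ℤ) a).obj M) F
      (ComplexShape.up ℤ)).Acyclic := by
  intro n
  rw [HomologicalComplex.exactAt_iff' _ (n - 1) n (n + 1) (by simp) (by simp)]
  have hLe : (L.sc' (n - a - 1) (n - a) (n - a + 1)).Exact :=
    (L.exactAt_iff' (n - a - 1) (n - a) (n - a + 1) (by simp) (by simp)).1 (hL (n - a))
  haveI : (F.flip.obj M).PreservesZeroMorphisms := ⟨fun X Y => by simp⟩
  have hLe' := hLe.map (F.flip.obj M)
  have h1 : n - a - 1 + a = n - 1 := by omega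
  have h2 : n - a + a = n := by omega
  have h3 : n - a + 1 + a = n + 1 := by omega
  haveI := isIso_θ F L M a _ _ h1
  haveI := isIso_θ F L M a _ _ h2
  haveI := isIso_θ F L M a _ _ h3
  let e1 := asIso (θ F L M a (n - a - 1) (n - 1) h1)
  let e2 := asIso (θ F L M a (n - a) n h2)
  let e3 := asIso (θ F L M a (n - a + 1) (n + 1) h3)
  refine ShortComplex.exact_of_iso (ShortComplex.isoMk e1 e2 e3 ?_ ?_) hLe'
  · exact θ_d F L M a (n - a - 1) (n - 1) (n - a) n h1 (by omega) (by omega)
  · exact θ_d F L M a (n - a) n (n - a + 1) (n + 1) h2 (by omega) (by omega)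

end Groth.Agent.Lib.BifSingle
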