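import Mathlib
import Groth.Prelude.Def_DRing4
import Groth.Agent.Lib.HomCx2_helper2
import Groth.Agent.Lib.BifCone_helper2
import Groth.Agent.Lib.KInjLift_helper2

/-!
# `Hom•(P, -)` for a K-projective complex `P` (helper2)

* `homAction P`: the action of `Hom•(P, -)` on cochains (postcomposition).
* `acyclic_homCx`: `Hom•(P, C)` is acyclic for `P` K-projective and `C` acyclic.
* `quasiIso_homCxMap`: `Hom•(P, -)` preserves quasi-isomorphisms for `P` K-projective.
* `homR P`, `tenR P`, `adjD P`: the induced functors on `D(A)` and the adjunction `- ⊗ P ⊣ Hom•(P, -)`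
  on `D(A)`, for `P` K-projective and K-flat.
-/

set_option autoImplicit false
universe u
open CategoryTheory Limits MonoidalCategory CochainComplex CochainComplex.HomComplex

namespace Groth.Agent.Lib.RHomK

open Groth.Agent.Lib.KFlatMod Groth.Agent.Lib.HomCx Groth.Agent.Lib.BifCone DerivedCategory
attribute [local instance] HasDerivedCategory.standard

variable {A : Type u} [CommRing A]

section Action

variable (P : DRing.Cx A)

/-- postcomposition with a cochain of degree `n`, as a linear map -/
noncomputable def postLin {K L : DRing.Cx A} {n : ℤ} (z : Cochain K L n) (p q : ℤ)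
    (h : p + n = q) : Cochain P K p →ₗ[A] Cochain P L q where
  toFun w := w.comp z h
  map_add' w w' := by simp
  map_smul' a w := by simp

/-- the action of `Hom•(P, -)` on cochains -/
noncomputable def actMap {K L : DRing.Cx A} {n : ℤ} (z : Cochain K L n) :
    Cochain ((DRing.homCxFunctor P).obj K) ((DRing.homCxFunctor P).obj L) n :=
  Cochain.mk (fun p q h => ModuleCat.ofHom (postLin P z p q h))

lemma actMap_v_apply {K L : DRing.Cx A} {n : ℤ} (z : Cochain K L n) (p q : ℤ) (h : p + n = q)
    (w : Cochain P K p) :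
    (((actMap P z).v p q h).hom w : Cochain P L q) = w.comp z h := rfl

lemma homCx_d_apply (K : DRing.Cx A) (i j : ℤ) (w : Cochain P K i) :
    ((((DRing.homCxFunctor P).obj K).d i j).hom w : Cochain P K j) = δ i j w := rfl

lemma actMap_δ {K L : DRing.Cx A} (n m : ℤ) (z : Cochain K L n) :
    δ n m (actMap P z) = actMap P (δ n m z) := by
  by_cases hnm : n + 1 = m
  · subst hnm
    ext p q hpq : 1
    rw [δ_v n (n + 1) rfl _ p q hpq (p + n) (p + 1) (by omega) rfl]
    refine ModuleCat.hom_ext (LinearMap.ext fun (w : Cochain P K p) => ?_)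
    rw [ModuleCat.hom_add, LinearMap.add_apply, ModuleCat.hom_comp, LinearMap.comp_apply,
      units_smul_hom_apply, ModuleCat.hom_comp, LinearMap.comp_apply]
    erw [actMap_v_apply, actMap_v_apply, actMap_v_apply, homCx_d_apply, homCx_d_apply]
    rw [δ_comp w z (show p + n = p + n from rfl) (p + 1) (n + 1) q (by omega) rfl rfl,
      Int.negOnePow_succ, Units.neg_smul]
    exact add_neg_cancel_right _ _
  · rw [δ_shape _ _ hnm, δ_shape _ _ hnm]
    ext p q hpq : 1
    refine ModuleCat.hom_ext (LinearMap.ext fun (w : Cochain P K p) => ?_)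
    erw [actMap_v_apply]
    simp
    rfl

/-- the action of `Hom•(P, -)` on cochains -/
noncomputable def homAction : CochainAction (DRing.homCxFunctor P) where
  map z := actMap P z
  map_add {K L n} z z' := by
    ext p q hpq : 1
    rw [Cochain.add_v]
    refine ModuleCat.hom_ext (LinearMap.ext fun (w : Cochain P K p) => ?_)
    rw [ModuleCat.hom_add, LinearMap.add_apply]
    erw [actMap_v_apply, actMap_v_apply, actMap_v_apply]
    exact Cochain.comp_add _ _ _ _
  map_ofHom {K L} f := by
    ext p : 1
    rw [Cochain.ofHom_v]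
    refine ModuleCat.hom_ext (LinearMap.ext fun (w : Cochain P K p) => ?_)
    erw [actMap_v_apply]
  map_comp {K L M n n' n''} z z' h := by
    ext p q hpq : 1
    rw [Cochain.comp_v _ _ h p (p + n) q rfl (by omega)]
    refine ModuleCat.hom_ext (LinearMap.ext fun (w : Cochain P K p) => ?_)
    rw [ModuleCat.hom_comp, LinearMap.comp_apply]
    erw [actMap_v_apply, actMap_v_apply, actMap_v_apply]
    exact (Cochain.comp_assoc w z z' rfl h (by omega)).symm
  map_δ n m z := actMap_δ P n m z

end Action

section KProjective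

variable (P : DRing.Cx A) [P.IsKProjective]

/-- `Hom•(P, C)` is acyclic for `P` K-projective and `C` acyclic -/
theorem acyclic_homCx (C : DRing.Cx A) (hC : C.Acyclic) : (DRing.homCx P C).Acyclic := by
  intro i
  rw [HomologicalComplex.exactAt_iff' _ (i - 1) i (i + 1) (by simp) (by simp),
    ShortComplex.moduleCat_exact_iff]
  intro (x : Cochain P C i) hx
  have hx' : δ i (i + 1) x = 0 := hx
  let z : Cocycle P C i := Cocycle.mk x (i + 1) rfl hx'
  have h0 : CohomologyClass.toHom (CohomologyClass.mk z) = 0 := by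
    rw [CohomologyClass.toHom_mk, HomotopyCategory.quotient_map_eq_zero_iff]
    exact ⟨IsKProjective.homotopyZero _ (Groth.Agent.Lib.KInjLift.acyclic_shift C hC i)⟩
  rw [CohomologyClass.toHom_mk_eq_zero_iff, mem_coboundaries_iff z (i - 1) (by omega)] at h0
  obtain ⟨β, hβ⟩ := h0
  exact ⟨β, hβ⟩

/-- **`Hom•(P, -)` preserves quasi-isomorphisms for `P` K-projective** -/
theorem quasiIso_homCxMap {L L' : DRing.Cx A} (f : L ⟶ L') [QuasiIso f] :
    QuasiIso ((DRing.homCxFunctor P).map f) :=
  (homAction P).quasiIso_map_of_acyclic (fun C hC => acyclic_homCx P C hC) f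

lemma inverts_homCxQ :
    (HomologicalComplex.quasiIso (ModuleCat.{u} A) (ComplexShape.up ℤ)).IsInvertedBy
      (DRing.homCxQ P) := by
  intro K L f hf
  rw [HomologicalComplex.mem_quasiIso_iff] at hf
  haveI := hf
  haveI := quasiIso_homCxMap P f
  exact (isIso_Q_map_iff_quasiIso (C := ModuleCat.{u} A) ((DRing.homCxFunctor P).map f)).2
    inferInstance

/-- `RHom(P, Q L) ≅ Q (Hom•(P, L))` for `P` K-projective -/
theorem nonempty_RHomCx_iso [DRing.HasRHomCx P] (L : DRing.Cx A) :
    Nonempty ((DRing.RHomCx P).obj (DRing.toD L) ≅ DRing.toD (DRing.homCx P L)) := by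
  haveI : IsIso ((DRing.homCxQ P).totalRightDerivedUnit Q
      (HomologicalComplex.quasiIso (ModuleCat.{u} A) (ComplexShape.up ℤ))) :=
    Functor.isIso_of_isRightDerivedFunctor_of_inverts (DRing.RHomCx P) _ (inverts_homCxQ P)
  exact ⟨((asIso ((DRing.homCxQ P).totalRightDerivedUnit Q
      (HomologicalComplex.quasiIso (ModuleCat.{u} A) (ComplexShape.up ℤ)))).app L).symm⟩

/-- `Hom•(P, -)` on `D(A)` -/
noncomputable def homR : Dual.D A ⥤ Dual.D A :=
  Localization.lift (DRing.homCxQ P) (inverts_homCxQ P) Q

/-- `homR` is computed by `Hom•(P, -)` -/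
noncomputable def homRIso : Q ⋙ homR P ≅ DRing.homCxFunctor P ⋙ Q :=
  Localization.fac _ _ _

end KProjective

section Tensor

variable (P : DRing.Cx A) (hP : KF A P)

include hP in
lemma inverts_tensorRight :
    (HomologicalComplex.quasiIso (ModuleCat.{u} A) (ComplexShape.up ℤ)).IsInvertedBy
      (tensorRight P ⋙ Q) := by
  intro K L f hf
  rw [HomologicalComplex.mem_quasiIso_iff] at hf
  haveI := hf
  haveI : QuasiIso (f ▷ P) := quasiIso_whiskerRight P hP f
  exact (isIso_Q_map_iff_quasiIso (C := ModuleCat.{u} A) (f ▷ P)).2 inferInstance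

/-- `- ⊗ P` on `D(A)` for a K-flat complex `P` -/
noncomputable def tenR : Dual.D A ⥤ Dual.D A :=
  Localization.lift (tensorRight P ⋙ Q) (inverts_tensorRight P hP) Q

/-- `tenR` is computed by `- ⊗ P` -/
noncomputable def tenRIso : Q ⋙ tenR P hP ≅ tensorRight P ⋙ Q :=
  Localization.fac _ _ _

variable [P.IsKProjective]

/-- **the adjunction `- ⊗ P ⊣ Hom•(P, -)` on `D(A)`**, for `P` K-projective and K-flat -/
noncomputable def adjD : tenR P hP ⊣ homR P :=
  letI : CatCommSq (tensorRight P) (Q : DRing.Cx A ⥤ Dual.D A) Q (tenR P hP) :=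
    ⟨(tenRIso P hP).symm⟩
  letI : CatCommSq (DRing.homCxFunctor P) (Q : DRing.Cx A ⥤ Dual.D A) Q (homR P) :=
    ⟨(homRIso P).symm⟩
  (adjC P).localization Q
    (HomologicalComplex.quasiIso (ModuleCat.{u} A) (ComplexShape.up ℤ)) Q
    (HomologicalComplex.quasiIso (ModuleCat.{u} A) (ComplexShape.up ℤ)) (tenR P hP) (homR P)

end Tensor

end Groth.Agent.Lib.RHomK
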