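import Mathlib
import Groth.Prelude.Def_DRing4
import Groth.Prelude.Def_DDual2
import Groth.Prelude.Def_Wider
import Groth.Agent.Lib.RHomK_helper2
import Groth.Agent.Lib.ExtKFlat_helper2
import Groth.Agent.Lib.BifSingle_helper2
import Groth.Agent.Lib.KProjRes_helper2
import Groth.Agent.Lib.BaseCmp_helper2

/-!
# Morphisms from objects restricted from a localization (helper2)

For a localization `A → B` and `K ∈ D(A)`: if `Hom(B, K[n]) = 0` for all `n`, then `Hom(E|_A, K) = 0`
for every `E ∈ D(B)`.  The proof uses the adjunction `- ⊗ T ⊣ Hom•(T, -)` on `D(A)` for a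
K-projective, K-flat resolution `T` of `B`.
-/

set_option autoImplicit false
universe u
open CategoryTheory Limits MonoidalCategory CochainComplex CochainComplex.HomComplex
open scoped TensorProduct ZeroObject

namespace Groth.Agent.Lib.LocHom

open Groth.Agent.Lib.KFlatMod Groth.Agent.Lib.HomCx Groth.Agent.Lib.RHomK DerivedCategory
  Groth.Agent.Lib.ExtKFlat
attribute [local instance] HasDerivedCategory.standard

section General

variable {A : Type u} [CommRing A]

lemma isZero_Q_obj_of_acyclic (X : DRing.Cx A) (hX : X.Acyclic) : IsZero (Q.obj X) := by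
  haveI : QuasiIso (0 : X ⟶ (0 : DRing.Cx A)) :=
    Groth.Agent.Lib.BaseCmp.quasiIso_of_acyclic _ hX Groth.Agent.Lib.BaseCmp.acyclic_zero
  haveI : IsIso (Q.map (0 : X ⟶ (0 : DRing.Cx A))) :=
    (isIso_Q_map_iff_quasiIso (C := ModuleCat.{u} A) _).2 inferInstance
  exact IsZero.of_iso (Q.map_isZero (isZero_zero _)) (asIso (Q.map (0 : X ⟶ (0 : DRing.Cx A))))

/-- exactness of `Hom•(P, Z)` in degree `i` from the vanishing of homotopy classes `P ⟶ Z[i]` -/
lemma exactAt_homCx (P Z : DRing.Cx A) (i : ℤ)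
    (h : ∀ g : P ⟶ Z⟦i⟧, (HomotopyCategory.quotient _ (ComplexShape.up ℤ)).map g = 0) :
    (DRing.homCx P Z).ExactAt i := by
  rw [HomologicalComplex.exactAt_iff' _ (i - 1) i (i + 1) (by simp) (by simp),
    ShortComplex.moduleCat_exact_iff]
  intro (x : Cochain P Z i) hx
  have hx' : δ i (i + 1) x = 0 := hx
  let z : Cocycle P Z i := Cocycle.mk x (i + 1) rfl hx'
  have h0 : CohomologyClass.toHom (CohomologyClass.mk z) = 0 := by
    rw [CohomologyClass.toHom_mk]
    exact h _
  rw [CohomologyClass.toHom_mk_eq_zero_iff, mem_coboundaries_iff z (i - 1) (by omega)] at h0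
  obtain ⟨β, hβ⟩ := h0
  exact ⟨β, hβ⟩

/-- `Hom•(T, -)` kills `K` on `D(A)` as soon as `Hom(Q T, K[n]) = 0` for all `n` -/
theorem isZero_homR (T : DRing.Cx A) [T.IsKProjective] (K : Dual.D A)
    (h : ∀ n : ℤ, Subsingleton (Q.obj T ⟶ K⟦n⟧)) : IsZero ((homR T).obj K) := by
  let Z := Q.objPreimage K
  let eZ : Q.obj Z ≅ K := Q.objObjPreimageIso K
  have hac : (DRing.homCx T Z).Acyclic := by
    intro i
    apply exactAt_homCx
    intro g
    have e' : Q.obj (Z⟦i⟧) ≅ K⟦i⟧ :=
      (Q.commShiftIso i).app Z ≪≫ (CategoryTheory.shiftFunctor (Dual.D A) i).mapIso eZ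
    haveI := h i
    have hsub : Subsingleton (Q.obj T ⟶ Q.obj (Z⟦i⟧)) :=
      (Iso.homCongr (Iso.refl (Q.obj T)) e').subsingleton
    have h1 : Q.map g = Q.map (0 : T ⟶ Z⟦i⟧) := Subsingleton.elim _ _
    have h2 := Groth.Agent.Lib.BaseCmp.quotient_map_eq_of_Q_map_eq g 0 h1
    rw [h2, Functor.map_zero]
  have h3 : IsZero (Q.obj (DRing.homCx T Z)) := isZero_Q_obj_of_acyclic _ hac
  exact IsZero.of_iso h3 ((homR T).mapIso eZ.symm ≪≫ (homRIso T).app Z)

/-- the basic vanishing: `Hom(W ⊗ T, K) = 0` if `Hom(Q T, K[n]) = 0` for all `n` -/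
theorem subsingleton_hom_tenR (T : DRing.Cx A) [T.IsKProjective] (hT : KF A T) (K : Dual.D A)
    (h : ∀ n : ℤ, Subsingleton (Q.obj T ⟶ K⟦n⟧)) (W : Dual.D A) :
    Subsingleton ((tenR T hT).obj W ⟶ K) := by
  have hz := isZero_homR T K h
  haveI : Subsingleton (W ⟶ (homR T).obj K) := ⟨fun a b => hz.eq_of_tgt a b⟩
  exact ((adjD T hT).homEquiv W K).subsingleton

end General

section Localization

variable {A B : Type u} [CommRing A] [CommRing B] [Algebra A B] (S : Submonoid A)
  [IsLocalization S B]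

section Unit

variable (L : ModuleCat.{u} B)

attribute [local instance] modL

/-- `L ⊗_A B ≃ L` for a module `L` over a localization `B` of `A` -/
noncomputable def unitEquiv₀ : (L ⊗[A] B) ≃ₗ[A] L :=
  (TensorProduct.comm A L B).trans
    (((isLocalizedModule_iff_isBaseChange S B (LinearMap.id : L →ₗ[A] L)).1
      (isLocalizedModule_id S L B)).equiv.restrictScalars A)

lemma unitEquiv₀_tmul (l : L) (b : B) : unitEquiv₀ S L (l ⊗ₜ[A] b) = b • l := rfl

/-- the same in `ModuleCat A` -/
noncomputable def unitEquivR :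
    (((res A B).obj L ⊗ ModuleCat.of A B : ModuleCat.{u} A)) ≃ₗ[A] ((res A B).obj L) where
  toFun x := unitEquiv₀ S L x
  invFun y := (unitEquiv₀ S L).symm y
  map_add' x y := (unitEquiv₀ S L).map_add x y
  map_smul' r x := (unitEquiv₀ S L).map_smul r x
  left_inv x := (unitEquiv₀ S L).left_inv x
  right_inv y := (unitEquiv₀ S L).right_inv y

/-- `L|_A ⊗_A B ≅ L|_A` -/
noncomputable def unitIso :
    ((res A B).obj L ⊗ ModuleCat.of A B : ModuleCat.{u} A) ≅ (res A B).obj L :=
  (unitEquivR S L).toModuleIso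

lemma unitIso_hom_tmul (l : L) (b : B) :
    (unitIso S L).hom.hom (l ⊗ₜ[A] b) = (b • l : L) := rfl

end Unit

lemma unitIso_naturality {L L' : ModuleCat.{u} B} (g : L ⟶ L') :
    ((res A B).map g ▷ ModuleCat.of A B) ≫ (unitIso S L').hom =
      (unitIso S L).hom ≫ (res A B).map g := by
  apply ModuleCat.MonoidalCategory.tensor_ext
  intro l b
  show (b • (g.hom l) : L') = g.hom (b • l)
  exact (g.hom.map_smul b l).symm

/-- `B` in degree `0`, as a complex of `A`-modules -/
noncomputable abbrev NB : DRing.Cx A :=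
  (HomologicalComplex.single (ModuleCat.{u} A) (ComplexShape.up ℤ) 0).obj (ModuleCat.of A B)

/-- termwise restriction of scalars -/
noncomputable abbrev resC (X : DRing.Cx B) : DRing.Cx A :=
  ((res A B).mapHomologicalComplex (ComplexShape.up ℤ)).obj X

/-- `X|_A ⊗ B[0] ≅ X|_A` for a complex `X` of `B`-modules -/
noncomputable def tensorNBIso (X : DRing.Cx B) :
    resC (A := A) X ⊗ NB (A := A) (B := B) ≅ resC (A := A) X :=
  HomologicalComplex.Hom.isoOfComponents
    (fun p => (asIso (Groth.Agent.Lib.BifSingle.θ (T A) (resC (A := A) X) (ModuleCat.of A B) 0 p p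
      (add_zero p))).symm ≪≫ unitIso S (X.X p))
    (by
      intro p p' hpp'
      have hpp : p + 1 = p' := hpp'
      have hθ := Groth.Agent.Lib.BifSingle.θ_d (T A) (resC (A := A) X) (ModuleCat.of A B) 0
        p p p' p' (add_zero p) hpp hpp
      have hn := unitIso_naturality S (X.d p p')
      dsimp only [Iso.trans_hom, Iso.symm_hom, asIso_inv]
      rw [Category.assoc, IsIso.inv_comp_eq]
      erw [← Category.assoc, hθ]
      rw [Category.assoc, IsIso.hom_inv_id_assoc]
      exact hn.symm)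

include S in
lemma kf_NB : KF A (NB (A := A) (B := B)) := by
  haveI : Module.Flat A B := IsLocalization.flat B S
  apply kf_of_vanishesAbove _ 0
  · intro i hi
    exact HomologicalComplex.isZero_single_obj_X (ComplexShape.up ℤ) 0 _ i (by omega)
  · intro i
    by_cases h : i = 0
    · subst h
      have e : (NB (A := A) (B := B)).X 0 ≅ ModuleCat.of A B :=
        HomologicalComplex.singleObjXSelf (ComplexShape.up ℤ) 0 _
      exact Module.Flat.of_linearEquiv e.toLinearEquiv
    · haveI : Subsingleton ((NB (A := A) (B := B)).X i) := ModuleCat.subsingleton_of_isZero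
        (HomologicalComplex.isZero_single_obj_X (ComplexShape.up ℤ) 0 _ i h)
      infer_instance

include S in
/-- every object restricted from `D(B)` is of the form `W ⊗ T` for a resolution `T` of `B` -/
theorem nonempty_tenR_iso (T : DRing.Cx A) (hT : KF A T) (π : T ⟶ NB (A := A) (B := B))
    [QuasiIso π] (E : Dual.D B) :
    Nonempty ((tenR T hT).obj ((DRing.restrictD (algebraMap A B)).obj E) ≅
      (DRing.restrictD (algebraMap A B)).obj E) := by
  let X := Q.objPreimage E
  let eX : Q.obj X ≅ E := Q.objObjPreimageIso E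
  let Y : DRing.Cx A := resC (A := A) X
  have e1 : (DRing.restrictD (algebraMap A B)).obj E ≅ Q.obj Y :=
    (DRing.restrictD (algebraMap A B)).mapIso eX.symm ≪≫
      ((ModuleCat.restrictScalars.{u} (algebraMap A B)).mapDerivedCategoryFactors).app X
  haveI : QuasiIso (Y ◁ π) := quasiIso_whiskerLeft T _ hT (kf_NB S) π Y
  haveI : IsIso (Q.map (Y ◁ π)) :=
    (isIso_Q_map_iff_quasiIso (C := ModuleCat.{u} A) (Y ◁ π)).2 inferInstance
  have e2 : (tenR T hT).obj (Q.obj Y) ≅ Q.obj Y :=
    (tenRIso T hT).app Y ≪≫ asIso (Q.map (Y ◁ π)) ≪≫ Q.mapIso (tensorNBIso S X)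
  exact ⟨(tenR T hT).mapIso e1 ≪≫ e2 ≪≫ e1.symm⟩

/-- `B[0]` in `D(A)` -/
noncomputable def singleIso : Dual.inD A B ≅ Q.obj (NB (A := A) (B := B)) :=
  (DerivedCategory.singleFunctorIsoCompQ (ModuleCat.{u} A) 0).app (ModuleCat.of A B)

include S in
/-- **if `Hom(B, K[n]) = 0` for all `n` then `Hom(E|_A, K) = 0` for all `E ∈ D(B)`** -/
theorem subsingleton_hom_restrictD (K : Dual.D A)
    (h : ∀ n : ℤ, Subsingleton (Dual.inD A B ⟶ K⟦n⟧)) (E : Dual.D B) :
    Subsingleton ((DRing.restrictD (algebraMap A B)).obj E ⟶ K) := by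
  obtain ⟨T, π, hπ, hTp, hT, -⟩ :=
    Groth.Agent.Lib.KProjRes.exists_kproj_resolution (NB (A := A) (B := B))
  haveI := hπ
  haveI := hTp
  haveI : IsIso (Q.map π) := (isIso_Q_map_iff_quasiIso (C := ModuleCat.{u} A) π).2 inferInstance
  have eT : Q.obj T ≅ Dual.inD A B := asIso (Q.map π) ≪≫ (singleIso (A := A) (B := B)).symm
  have h' : ∀ n : ℤ, Subsingleton (Q.obj T ⟶ K⟦n⟧) := fun n => by
    haveI := h n
    exact (Iso.homCongr eT (Iso.refl (K⟦n⟧))).subsingleton
  obtain ⟨e⟩ := nonempty_tenR_iso S T hT π E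
  haveI := subsingleton_hom_tenR T hT K h' ((DRing.restrictD (algebraMap A B)).obj E)
  exact (Iso.homCongr e.symm (Iso.refl K)).subsingleton

end Localization

section Converse

variable {A B : Type u} [CommRing A] [CommRing B] [Algebra A B]

/-- `B|_A ≃ B` -/
noncomputable def resSelfEquiv : ((res A B).obj (ModuleCat.of B B)) ≃ₗ[A] B where
  toFun x := x
  invFun x := x
  map_add' _ _ := rfl
  map_smul' r x := by
    show (algebraMap A B r) * (show B from x) = r • (show B from x)
    exact (Algebra.smul_def r _).symm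
  left_inv _ := rfl
  right_inv _ := rfl

/-- `B|_A ≅ B` -/
noncomputable def resSelfIso : (res A B).obj (ModuleCat.of B B) ≅ ModuleCat.of A B :=
  (resSelfEquiv (A := A) (B := B)).toModuleIso

/-- `(B[0])|_A ≅ B[0]` in `D(A)` -/
noncomputable def restrictInDIso :
    (DRing.restrictD (algebraMap A B)).obj (Dual.inD B B) ≅ Dual.inD A B :=
  (DRing.restrictD (algebraMap A B)).mapIso
      ((DerivedCategory.singleFunctorIsoCompQ (ModuleCat.{u} B) 0).app (ModuleCat.of B B)) ≪≫
    ((ModuleCat.restrictScalars.{u} (algebraMap A B)).mapDerivedCategoryFactors).app _ ≪≫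
    Q.mapIso ((HomologicalComplex.singleMapHomologicalComplex (res A B) (ComplexShape.up ℤ) 0).app
      (ModuleCat.of B B) ≪≫
      (HomologicalComplex.single (ModuleCat.{u} A) (ComplexShape.up ℤ) 0).mapIso resSelfIso) ≪≫
    ((DerivedCategory.singleFunctorIsoCompQ (ModuleCat.{u} A) 0).app (ModuleCat.of A B)).symm

/-- the easy direction: `B[-n]` is restricted from `D(B)` -/
theorem subsingleton_hom_inD_shift (K : Dual.D A)
    (h : ∀ E : Dual.D B, Subsingleton ((DRing.restrictD (algebraMap A B)).obj E ⟶ K)) (n : ℤ) :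
    Subsingleton (Dual.inD A B ⟶ K⟦n⟧) := by
  let E : Dual.D B := (Dual.inD B B)⟦-n⟧
  have eE : (DRing.restrictD (algebraMap A B)).obj E ≅ (Dual.inD A B)⟦-n⟧ :=
    ((DRing.restrictD (algebraMap A B)).commShiftIso (-n)).app (Dual.inD B B) ≪≫
      (CategoryTheory.shiftFunctor (Dual.D A) (-n)).mapIso restrictInDIso
  haveI := h E
  refine ⟨fun g₁ g₂ => ?_⟩
  apply (CategoryTheory.shiftFunctor (Dual.D A) (-n)).map_injective
  rw [← cancel_mono ((shiftFunctorCompIsoId (Dual.D A) n (-n) (by omega)).hom.app K),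
    ← cancel_epi eE.hom]
  exact @Subsingleton.elim _ (h E) _ _

end Converse

end Groth.Agent.Lib.LocHom
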