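import Mathlib.Algebra.Homology.DerivedCategory.KProjective
import Mathlib.Algebra.Homology.DerivedCategory.Basic
import Mathlib.Algebra.Homology.HomotopyCategory.KProjective
import Mathlib.Algebra.Homology.Embedding.CochainComplex
import Mathlib.CategoryTheory.ObjectProperty.ContainsZero
import Mathlib.CategoryTheory.Abelian.Basic

/-!
# Helper lemmas on (strictly) perfect complexes relative to a class of projective objects
(helper2)
-/

universe w v u

open CategoryTheory CategoryTheory.Limits

namespace Groth.Agent.PerfectCx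

variable {C : Type u} [Category.{v} C] [Abelian C]

/-- An object all of whose epimorphic covers split is projective. -/
lemma projective_of_splits (X : C)
    (h : ∀ (E : C) (u : E ⟶ X), Epi u → IsSplitEpi u) : Projective X := by
  refine ⟨fun {E Y} f e he => ?_⟩
  have : Epi (pullback.snd e f) := inferInstance
  obtain ⟨⟨s, hs⟩⟩ := h _ (pullback.snd e f) this
  refine ⟨s ≫ pullback.fst e f, ?_⟩
  rw [Category.assoc, pullback.condition, ← Category.assoc, hs, Category.id_comp]

/-- Under the liftability hypothesis, the objects of `P` are projective. -/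
lemma projective_of_hlift (P : ObjectProperty C)
    (hlift : ∀ (E F : C) (u : E ⟶ F), Epi u → P F → IsSplitEpi u) (X : C) (hX : P X) :
    Projective X :=
  projective_of_splits X (fun E u hu => hlift E X u hu hX)

/-- A complex which is zero above degree `b` is strictly `≤ b`. -/
lemma isStrictlyLE_of_isZero (K : CochainComplex C ℤ) (b : ℤ)
    (h : ∀ i : ℤ, b < i → IsZero (K.X i)) : K.IsStrictlyLE b := by
  rw [CochainComplex.isStrictlyLE_iff]
  exact h

/-- A complex which is zero below degree `a` is strictly `≥ a`. -/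
lemma isStrictlyGE_of_isZero (K : CochainComplex C ℤ) (a : ℤ)
    (h : ∀ i : ℤ, i < a → IsZero (K.X i)) : K.IsStrictlyGE a := by
  rw [CochainComplex.isStrictlyGE_iff]
  exact h

/-- A bounded above complex with terms in a liftable class is K-projective. -/
lemma isKProjective_of_hlift (P : ObjectProperty C)
    (hlift : ∀ (E F : C) (u : E ⟶ F), Epi u → P F → IsSplitEpi u)
    (K : CochainComplex C ℤ) (b : ℤ) (hb : ∀ i : ℤ, b < i → IsZero (K.X i))
    (hK : ∀ i : ℤ, P (K.X i)) : K.IsKProjective := by
  have := isStrictlyLE_of_isZero K b hb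
  have : ∀ n : ℤ, Projective (K.X n) := fun n => projective_of_hlift P hlift _ (hK n)
  exact CochainComplex.isKProjective_of_projective K b

variable [HasDerivedCategory.{w} C]

/-- Morphisms in the derived category out of a K-projective complex are represented by
morphisms of complexes. -/
lemma exists_Q_map_eq (K L : CochainComplex C ℤ) [K.IsKProjective]
    (φ : DerivedCategory.Q.obj K ⟶ DerivedCategory.Q.obj L) :
    ∃ f : K ⟶ L, DerivedCategory.Q.map f = φ := by
  obtain ⟨g, hg⟩ := (CochainComplex.IsKProjective.Qh_map_bijective K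
    ((HomotopyCategory.quotient C (ComplexShape.up ℤ)).obj L)).surjective
    ((DerivedCategory.quotientCompQhIso C).hom.app K ≫ φ ≫
      (DerivedCategory.quotientCompQhIso C).inv.app L)
  obtain ⟨f, rfl⟩ := (HomotopyCategory.quotient C (ComplexShape.up ℤ)).map_surjective g
  refine ⟨f, ?_⟩
  have h := DerivedCategory.quotientCompQhIso_hom_naturality f
  rw [hg] at h
  simp only [Category.assoc, Iso.inv_hom_id_app, Functor.comp_obj] at h
  rw [← cancel_epi ((DerivedCategory.quotientCompQhIso C).hom.app K)]
  rw [← h]
  simp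

/-- Two K-projective-type representatives: an isomorphism in the derived category between
`Q.obj K` and `Q.obj L` with `K` K-projective is induced by a quasi-isomorphism `K ⟶ L`. -/
lemma exists_quasiIso_of_iso (K L : CochainComplex C ℤ) [K.IsKProjective]
    (e : DerivedCategory.Q.obj K ≅ DerivedCategory.Q.obj L) :
    ∃ f : K ⟶ L, QuasiIso f ∧ DerivedCategory.Q.map f = e.hom := by
  obtain ⟨f, hf⟩ := exists_Q_map_eq K L e.hom
  refine ⟨f, ?_, hf⟩
  rw [← DerivedCategory.isIso_Q_map_iff_quasiIso, hf]
  infer_instance

end Groth.Agent.PerfectCx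

namespace Groth.Agent.PerfectCx

variable {C : Type u} [Category.{v} C] [Abelian C]

/-- The terms of a mapping cone are biproducts. -/
noncomputable def mappingConeXIso {K L : CochainComplex C ℤ} (f : K ⟶ L) (i : ℤ) :
    (CochainComplex.mappingCone f).X i ≅ K.X (i + 1) ⊞ L.X i :=
  HomologicalComplex.homotopyCofiber.XIsoBiprod f i (i + 1) (by simp)

/-- A class closed under isomorphisms and binary products is closed under biproducts. -/
lemma prop_biprod (P : ObjectProperty C) [P.IsClosedUnderIsomorphisms]
    (hsum : ∀ X Y : C, P X → P Y → P (X ⨯ Y)) (X Y : C) (hX : P X) (hY : P Y) : P (X ⊞ Y) :=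
  P.prop_of_iso (biprod.isoProd X Y).symm (hsum X Y hX hY)

lemma prop_mappingCone (P : ObjectProperty C) [P.IsClosedUnderIsomorphisms]
    (hsum : ∀ X Y : C, P X → P Y → P (X ⨯ Y)) {K L : CochainComplex C ℤ} (f : K ⟶ L)
    (hK : ∀ i, P (K.X i)) (hL : ∀ i, P (L.X i)) (i : ℤ) :
    P ((CochainComplex.mappingCone f).X i) :=
  P.prop_of_iso (mappingConeXIso f i).symm (prop_biprod P hsum _ _ (hK _) (hL _))

lemma isZero_mappingCone_X {K L : CochainComplex C ℤ} (f : K ⟶ L) (i : ℤ)
    (hK : IsZero (K.X (i + 1))) (hL : IsZero (L.X i)) :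
    IsZero ((CochainComplex.mappingCone f).X i) := by
  refine IsZero.of_iso ?_ (mappingConeXIso f i)
  rw [biprod_isZero_iff]
  exact ⟨hK, hL⟩

variable [HasDerivedCategory.{w} C]

open Pretriangulated in
/-- If the first two vertices of a distinguished triangle `T` of the derived category are
represented by complexes `K` (K-projective) and `L`, then there is a morphism `f : K ⟶ L` such
that `T.obj₃` is represented by the mapping cone of `f`. -/
lemma exists_mappingCone_iso (T : Triangle (DerivedCategory C))
    (hT : T ∈ distinguishedTriangles) (K L : CochainComplex C ℤ) [K.IsKProjective]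
    (e₁ : DerivedCategory.Q.obj K ≅ T.obj₁) (e₂ : DerivedCategory.Q.obj L ≅ T.obj₂) :
    ∃ f : K ⟶ L, Nonempty (DerivedCategory.Q.obj (CochainComplex.mappingCone f) ≅ T.obj₃) := by
  obtain ⟨f, hf⟩ := exists_Q_map_eq K L (e₁.hom ≫ T.mor₁ ≫ e₂.inv)
  refine ⟨f, ⟨?_⟩⟩
  have hT' := DerivedCategory.mappingCone_triangle_distinguished f
  have iso := isoTriangleOfIso₁₂ _ _ hT' hT e₁ e₂ (by
    show DerivedCategory.Q.map f ≫ e₂.hom = e₁.hom ≫ T.mor₁
    rw [hf]
    simp)
  exact Triangle.π₃.mapIso iso

end Groth.Agent.PerfectCx
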