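import Mathlib

/-!
# A limit of a tower of K-injective complexes with degreewise split epimorphic transition maps
is K-injective
-/

set_option autoImplicit false
universe v u
open CategoryTheory Limits HomologicalComplex CochainComplex Opposite
open CochainComplex.HomComplex

namespace Groth.Agent.Lib.KInjTower

variable {A : Type u} [Category.{v} A] [Abelian A] [HasLimitsOfShape ℕᵒᵖ A]

/-- The transition morphism `n+1 ⟶ n` in `ℕᵒᵖ`. -/
abbrev tr (n : ℕ) : (op (n + 1) : ℕᵒᵖ) ⟶ op n := (homOfLE (Nat.le_succ n)).op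

variable (I : ℕᵒᵖ ⥤ CochainComplex A ℤ)

/-- the inductive step -/
theorem step (h1 : ∀ n : ℕ, (I.obj (op n)).IsKInjective)
    (h2 : ∀ (n : ℕ) (m : ℤ), IsSplitEpi ((I.map (tr n)).f m))
    {K : CochainComplex A ℤ} (hK : K.Acyclic) (f : K ⟶ limit I) (n : ℕ)
    (h : Cochain K (I.obj (op n)) (-1))
    (hh : δ (-1) 0 h = Cochain.ofHom (f ≫ limit.π I (op n))) :
    ∃ h' : Cochain K (I.obj (op (n + 1))) (-1),
      δ (-1) 0 h' = Cochain.ofHom (f ≫ limit.π I (op (n + 1))) ∧
      h'.comp (Cochain.ofHom (I.map (tr n))) (add_zero (-1)) = h := by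
  haveI := h1 n
  haveI := h1 (n + 1)
  obtain ⟨g, hg⟩ := IsKInjective.eq_δ_of_cocycle
    (Cocycle.ofHom (f ≫ limit.π I (op (n + 1)))) hK (-1) (by simp)
  replace hg : δ (-1) 0 g = Cochain.ofHom (f ≫ limit.π I (op (n + 1))) := hg
  let c : Cochain K (I.obj (op n)) (-1) :=
    g.comp (Cochain.ofHom (I.map (tr n))) (add_zero (-1)) - h
  have hc : δ (-1) 0 c = 0 := by
    dsimp only [c]
    rw [δ_sub, δ_comp_ofHom, hg, hh, ← Cochain.ofHom_comp, Category.assoc, limit.w, sub_self]
  obtain ⟨u, hu⟩ := IsKInjective.eq_δ_of_cocycle (Cocycle.mk c 0 (by simp) hc) hK (-2) (by simp)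
  replace hu : δ (-2) (-1) u = c := hu
  let u' : Cochain K (I.obj (op (n + 1))) (-2) :=
    Cochain.mk (fun p q hpq => u.v p q hpq ≫ @section_ _ _ _ _ ((I.map (tr n)).f q) (h2 n q))
  have hu' : u'.comp (Cochain.ofHom (I.map (tr n))) (add_zero (-2)) = u := by
    ext p q hpq
    rw [Cochain.comp_zero_cochain_v, Cochain.ofHom_v, Cochain.mk_v, Category.assoc]
    haveI := h2 n q
    rw [IsSplitEpi.id, Category.comp_id]
  refine ⟨g - δ (-2) (-1) u', ?_, ?_⟩
  · rw [δ_sub, δ_δ, sub_zero, hg]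
  · rw [Cochain.sub_comp, ← δ_comp_ofHom, hu', hu]
    dsimp only [c]
    abel

theorem main (h1 : ∀ n : ℕ, (I.obj (op n)).IsKInjective)
    (h2 : ∀ (n : ℕ) (m : ℤ), IsSplitEpi ((I.map (tr n)).f m)) :
    (limit I).IsKInjective := by
  constructor
  intro K f hK
  haveI := h1 0
  have base : ∃ h : Cochain K (I.obj (op 0)) (-1),
      δ (-1) 0 h = Cochain.ofHom (f ≫ limit.π I (op 0)) :=
    IsKInjective.eq_δ_of_cocycle (Cocycle.ofHom (f ≫ limit.π I (op 0))) hK (-1) (by simp)
  let Y : ∀ n : ℕ, {h : Cochain K (I.obj (op n)) (-1) //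
      δ (-1) 0 h = Cochain.ofHom (f ≫ limit.π I (op n))} := fun n =>
    Nat.rec ⟨base.choose, base.choose_spec⟩
      (fun n y => ⟨(step I h1 h2 hK f n y.1 y.2).choose,
        (step I h1 h2 hK f n y.1 y.2).choose_spec.1⟩) n
  have hY : ∀ n, (Y (n + 1)).1.comp (Cochain.ofHom (I.map (tr n))) (add_zero (-1)) = (Y n).1 :=
    fun n => (step I h1 h2 hK f n (Y n).1 (Y n).2).choose_spec.2
  have hlim : ∀ j : ℤ, IsLimit ((eval A (ComplexShape.up ℤ) j).mapCone (limit.cone I)) :=
    fun j => isLimitOfPreserves _ (limit.isLimit I)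
  let cn : ∀ (p q : ℤ) (hpq : p + (-1) = q), Cone (I ⋙ eval A (ComplexShape.up ℤ) q) :=
    fun p q hpq =>
      { pt := K.X p
        π := NatTrans.ofOpSequence (fun n => (Y n).1.v p q hpq) (by
          intro n
          have := congrArg (fun z => z.v p q hpq) (hY n)
          simp only [Cochain.comp_zero_cochain_v, Cochain.ofHom_v] at this
          dsimp
          rw [Category.id_comp]
          exact this.symm) }
  let h : Cochain K (limit I) (-1) := Cochain.mk (fun p q hpq => (hlim q).lift (cn p q hpq))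
  have hcomp : ∀ n : ℕ, h.comp (Cochain.ofHom (limit.π I (op n))) (add_zero (-1)) = (Y n).1 := by
    intro n
    ext p q hpq
    rw [Cochain.comp_zero_cochain_v, Cochain.ofHom_v, Cochain.mk_v]
    exact (hlim q).fac (cn p q hpq) (op n)
  have hδ : δ (-1) 0 h = Cochain.ofHom f := by
    ext p
    apply (hlim p).hom_ext
    rintro ⟨n⟩
    have e1 := congrArg (fun z => z.v p p (add_zero p)) (δ_comp_ofHom h (limit.π I (op n)) 0)
    simp only [Cochain.comp_zero_cochain_v, Cochain.ofHom_v] at e1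
    have e2 := congrArg (fun z => z.v p p (add_zero p)) (Y n).2
    simp only [Cochain.ofHom_v, HomologicalComplex.comp_f] at e2
    change (δ (-1) 0 h).v p p (add_zero p) ≫ (limit.π I (op n)).f p =
      (Cochain.ofHom f).v p p (add_zero p) ≫ (limit.π I (op n)).f p
    rw [← e1, hcomp n, e2, Cochain.ofHom_v]
  exact ⟨(Cochain.equivHomotopy f 0).symm ⟨h, by rw [hδ, Cochain.ofHom_zero, add_zero]⟩⟩

end Groth.Agent.Lib.KInjTower
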