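import Mathlib
import Groth.Agent.Lib.KInjTower_helper2

/-!
# K-injective resolutions of unbounded complexes (helper2)

Let `C` be an abelian category with enough injectives, enough projectives and limits of towers
(for instance a category of modules).  Every cochain complex `X` in `C` admits a quasi-isomorphism
`X ⟶ I` to a K-injective complex (Spaltenstein's construction: `I` is the limit of a tower of
bounded below complexes of injectives resolving the canonical truncations `τ^{≥ -n} X`, with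
degreewise split epimorphic transition maps).

* `quasiIsoAt_π`: for a tower of complexes with degreewise epimorphic transition maps which are
  quasi-isomorphisms in degrees `k-1, k, k+1` from the stage `N` on, the projection from the limit to
  the `N`-th stage is a quasi-isomorphism in degree `k` (tested against projective objects).
* `exists_kinj_resolution`: the existence theorem.
-/

set_option autoImplicit false
universe v u
open CategoryTheory Category Limits HomologicalComplex CochainComplex Opposite Abelian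

namespace Groth.Agent.Lib.KInjRes

open Groth.Agent.Lib.KInjTower (tr)

variable {C : Type u} [Category.{v} C] [Abelian C]

theorem hom_eq {a b : ℕᵒᵖ} (f g : a ⟶ b) : f = g :=
  Quiver.Hom.unop_inj (Subsingleton.elim _ _)

section Chase

variable {K L : CochainComplex C ℤ} (φ : K ⟶ L)

lemma mono_proj (i j k : ℤ) (hi : i + 1 = j) (hk : j + 1 = k)
    [Mono (homologyMap φ j)] {A : C} [Projective A] (x₂ : A ⟶ K.X j) (hx₂ : x₂ ≫ K.d j k = 0)
    (y₁ : A ⟶ L.X i) (h : x₂ ≫ φ.f j = y₁ ≫ L.d i j) :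
    ∃ x₁ : A ⟶ K.X i, x₂ = x₁ ≫ K.d i j := by
  have hi' : (ComplexShape.up ℤ).prev j = i := by rw [CochainComplex.prev]; omega
  have hk' : (ComplexShape.up ℤ).next j = k := by rw [CochainComplex.next]; omega
  obtain ⟨A', π, hπ, x₁, hx₁⟩ :=
    (mono_homologyMap_iff_up_to_refinements φ i j k hi' hk').1 inferInstance x₂ hx₂ y₁ h
  haveI := hπ
  refine ⟨Projective.factorThru (𝟙 A) π ≫ x₁, ?_⟩
  rw [assoc, ← hx₁, ← assoc, Projective.factorThru_comp, id_comp]

lemma epi_proj (i j k : ℤ) (hi : i + 1 = j) (hk : j + 1 = k)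
    [Epi (homologyMap φ j)] {A : C} [Projective A] (y₂ : A ⟶ L.X j) (hy₂ : y₂ ≫ L.d j k = 0) :
    ∃ (x₂ : A ⟶ K.X j) (_ : x₂ ≫ K.d j k = 0) (y₁ : A ⟶ L.X i),
      y₂ = x₂ ≫ φ.f j + y₁ ≫ L.d i j := by
  have hi' : (ComplexShape.up ℤ).prev j = i := by rw [CochainComplex.prev]; omega
  have hk' : (ComplexShape.up ℤ).next j = k := by rw [CochainComplex.next]; omega
  obtain ⟨A', π, hπ, x₂, hx₂, y₁, h⟩ :=
    (epi_homologyMap_iff_up_to_refinements φ i j k hi' hk').1 inferInstance y₂ hy₂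
  haveI := hπ
  refine ⟨Projective.factorThru (𝟙 A) π ≫ x₂, by rw [assoc, hx₂, comp_zero],
    Projective.factorThru (𝟙 A) π ≫ y₁, ?_⟩
  have h' := Projective.factorThru (𝟙 A) π ≫= h
  rw [← assoc, Projective.factorThru_comp, id_comp, Preadditive.comp_add] at h'
  simpa only [assoc] using h'

/-- a cocycle of the kernel of a degreewise epimorphism `p` is a coboundary of the kernel, if `p` is
injective on `H^j` and surjective on `H^{j-1}` (tested on a projective object) -/
lemma exists_lift_ker (j'' j' j k : ℤ) (h'' : j'' + 1 = j') (h' : j' + 1 = j) (hk : j + 1 = k)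
    [Mono (homologyMap φ j)] [Epi (homologyMap φ j')] [Epi (φ.f j'')]
    {A : C} [Projective A] (y : A ⟶ K.X j) (hy : y ≫ K.d j k = 0) (hy' : y ≫ φ.f j = 0) :
    ∃ c : A ⟶ K.X j', c ≫ φ.f j' = 0 ∧ c ≫ K.d j' j = y := by
  obtain ⟨c', hc'⟩ := mono_proj φ j' j k h' hk y hy 0 (by rw [hy', zero_comp])
  have hcoc : (c' ≫ φ.f j') ≫ L.d j' j = 0 := by
    rw [assoc, φ.comm, ← assoc, ← hc', hy']
  obtain ⟨z, hz, w, hw⟩ := epi_proj φ j'' j' j h'' h' (c' ≫ φ.f j') hcoc
  have hw' : Projective.factorThru w (φ.f j'') ≫ φ.f j'' = w := Projective.factorThru_comp _ _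
  refine ⟨c' - z - Projective.factorThru w (φ.f j'') ≫ K.d j'' j', ?_, ?_⟩
  · simp only [Preadditive.sub_comp, assoc]
    rw [← φ.comm, ← assoc (Projective.factorThru w (φ.f j'')), hw', hw]
    abel
  · simp only [Preadditive.sub_comp, assoc, K.d_comp_d, comp_zero, hz, sub_zero]
    exact hc'.symm

end Chase

section Tower

variable [HasLimitsOfShape ℕᵒᵖ C]
variable (I : ℕᵒᵖ ⥤ CochainComplex C ℤ) (c : Cone I) (hc : IsLimit c)

/-- the degreewise limit cones -/
noncomputable def hlim (j : ℤ) : IsLimit ((eval C (ComplexShape.up ℤ) j).mapCone c) :=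
  isLimitOfPreserves _ hc

/-- the projections of the cone, with source displayed as `c.pt` -/
abbrev pr (n : ℕ) : c.pt ⟶ I.obj (op n) := c.π.app (op n)

include hc in
lemma exists_lift (j : ℤ) {A : C} (z : ∀ n : ℕ, A ⟶ (I.obj (op n)).X j)
    (hz : ∀ n, z (n + 1) ≫ (I.map (tr n)).f j = z n) :
    ∃ x : A ⟶ c.pt.X j, ∀ n, x ≫ (pr I c n).f j = z n := by
  let cn : Cone (I ⋙ eval C (ComplexShape.up ℤ) j) :=
    { pt := A
      π := NatTrans.ofOpSequence (fun n => z n) (by
        intro n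
        dsimp
        rw [id_comp]
        exact (hz n).symm) }
  exact ⟨(hlim I c hc j).lift cn, fun n => (hlim I c hc j).fac cn (op n)⟩

include hc in
lemma hom_ext_lim (j : ℤ) {A : C} (x y : A ⟶ c.pt.X j)
    (h : ∀ n : ℕ, x ≫ (pr I c n).f j = y ≫ (pr I c n).f j) : x = y := by
  apply (hlim I c hc j).hom_ext
  rintro ⟨n⟩
  exact h n

variable [EnoughProjectives C]

include hc in
theorem epi_homologyMap_π_zero (k₁ k kp kpp : ℤ) (h₁ : k₁ + 1 = k) (hk : k + 1 = kp)
    (hkp : kp + 1 = kpp)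
    (hepi : ∀ (n : ℕ) (j : ℤ), Epi ((I.map (tr n)).f j))
    (hm : ∀ n : ℕ, Mono (homologyMap (I.map (tr n)) kp))
    (he : ∀ n : ℕ, Epi (homologyMap (I.map (tr n)) k)) :
    Epi (homologyMap (pr I c 0) k) := by
  have hprev : (ComplexShape.up ℤ).prev k = k₁ := by rw [CochainComplex.prev]; omega
  have hnext : (ComplexShape.up ℤ).next k = kp := by rw [CochainComplex.next]; omega
  rw [epi_homologyMap_iff_up_to_refinements _ k₁ k kp hprev hnext]
  intro A₀ y₂ hy₂
  have step : ∀ (n : ℕ) (z : Projective.over A₀ ⟶ (I.obj (op n)).X k),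
      z ≫ (I.obj (op n)).d k kp = 0 →
      ∃ z' : Projective.over A₀ ⟶ (I.obj (op (n + 1))).X k,
        z' ≫ (I.obj (op (n + 1))).d k kp = 0 ∧ z' ≫ (I.map (tr n)).f k = z := by
    intro n z hz
    haveI := hepi n k
    haveI := hepi n k₁
    haveI := hm n
    haveI := he n
    have hu : Projective.factorThru z ((I.map (tr n)).f k) ≫ (I.map (tr n)).f k = z :=
      Projective.factorThru_comp _ _
    have e1 : (Projective.factorThru z ((I.map (tr n)).f k) ≫ (I.obj (op (n + 1))).d k kp) ≫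
        (I.obj (op (n + 1))).d kp kpp = 0 := by rw [assoc, d_comp_d, comp_zero]
    have e2 : (Projective.factorThru z ((I.map (tr n)).f k) ≫ (I.obj (op (n + 1))).d k kp) ≫
        (I.map (tr n)).f kp = 0 := by
      rw [assoc, ← (I.map (tr n)).comm, ← assoc, hu, hz]
    obtain ⟨cc, hcc1, hcc2⟩ := exists_lift_ker (I.map (tr n)) k₁ k kp kpp h₁ hk hkp _ e1 e2
    exact ⟨Projective.factorThru z ((I.map (tr n)).f k) - cc,
      by rw [Preadditive.sub_comp, hcc2, sub_self],
      by rw [Preadditive.sub_comp, hu, hcc1, sub_zero]⟩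
  let Z : ∀ n : ℕ, {z : Projective.over A₀ ⟶ (I.obj (op n)).X k //
      z ≫ (I.obj (op n)).d k kp = 0} := fun n =>
    Nat.rec ⟨Projective.π A₀ ≫ y₂, by rw [assoc, hy₂, comp_zero]⟩
      (fun n z => ⟨(step n z.1 z.2).choose, (step n z.1 z.2).choose_spec.1⟩) n
  have hZ : ∀ n, (Z (n + 1)).1 ≫ (I.map (tr n)).f k = (Z n).1 :=
    fun n => (step n (Z n).1 (Z n).2).choose_spec.2
  obtain ⟨x, hx⟩ := exists_lift I c hc k (fun n => (Z n).1) hZ
  have hxd : x ≫ c.pt.d k kp = 0 := by
    apply hom_ext_lim I c hc kp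
    intro n
    rw [assoc, ← (pr I c n).comm, ← assoc, hx n, (Z n).2, zero_comp]
  refine ⟨Projective.over A₀, Projective.π A₀, inferInstance, x, hxd, 0, ?_⟩
  rw [zero_comp, add_zero, hx 0]
  rfl

include hc in
theorem mono_homologyMap_π_zero (k₂ k₁ k kp : ℤ) (h₂ : k₂ + 1 = k₁) (h₁ : k₁ + 1 = k)
    (hk : k + 1 = kp)
    (hepi : ∀ (n : ℕ) (j : ℤ), Epi ((I.map (tr n)).f j))
    (hm : ∀ n : ℕ, Mono (homologyMap (I.map (tr n)) k))
    (he : ∀ n : ℕ, Epi (homologyMap (I.map (tr n)) k₁)) :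
    Mono (homologyMap (pr I c 0) k) := by
  have hprev : (ComplexShape.up ℤ).prev k = k₁ := by rw [CochainComplex.prev]; omega
  have hnext : (ComplexShape.up ℤ).next k = kp := by rw [CochainComplex.next]; omega
  rw [mono_homologyMap_iff_up_to_refinements _ k₁ k kp hprev hnext]
  intro A₀ x₂ hx₂ y₁ hy₁
  have hxd : (Projective.π A₀ ≫ x₂) ≫ c.pt.d k kp = 0 := by rw [assoc, hx₂, comp_zero]
  have step : ∀ (n : ℕ) (w : Projective.over A₀ ⟶ (I.obj (op n)).X k₁),
      (Projective.π A₀ ≫ x₂) ≫ (pr I c n).f k = w ≫ (I.obj (op n)).d k₁ k →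
      ∃ w' : Projective.over A₀ ⟶ (I.obj (op (n + 1))).X k₁,
        (Projective.π A₀ ≫ x₂) ≫ (pr I c (n + 1)).f k = w' ≫ (I.obj (op (n + 1))).d k₁ k ∧
          w' ≫ (I.map (tr n)).f k₁ = w := by
    intro n w hw
    haveI := hepi n k₁
    haveI := hepi n k₂
    haveI := hm n
    haveI := he n
    have hv : Projective.factorThru w ((I.map (tr n)).f k₁) ≫ (I.map (tr n)).f k₁ = w :=
      Projective.factorThru_comp _ _
    have he1 : ((Projective.π A₀ ≫ x₂) ≫ (pr I c (n + 1)).f k -
        Projective.factorThru w ((I.map (tr n)).f k₁) ≫ (I.obj (op (n + 1))).d k₁ k) ≫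
        (I.obj (op (n + 1))).d k kp = 0 := by
      simp only [Preadditive.sub_comp, assoc, d_comp_d, comp_zero, sub_zero]
      rw [(pr I c (n + 1)).comm, ← assoc, ← assoc, hxd, zero_comp]
    have he2 : ((Projective.π A₀ ≫ x₂) ≫ (pr I c (n + 1)).f k -
        Projective.factorThru w ((I.map (tr n)).f k₁) ≫ (I.obj (op (n + 1))).d k₁ k) ≫
        (I.map (tr n)).f k = 0 := by
      have hcw : (pr I c (n + 1)).f k ≫ (I.map (tr n)).f k = (pr I c n).f k := by
        rw [← comp_f]
        exact congrArg (fun t => t.f k) (c.w (tr n))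
      simp only [Preadditive.sub_comp, assoc]
      rw [hcw, ← (I.map (tr n)).comm, ← assoc (Projective.factorThru w ((I.map (tr n)).f k₁)), hv,
        ← assoc, hw, sub_self]
    obtain ⟨cc, hcc1, hcc2⟩ := exists_lift_ker (I.map (tr n)) k₂ k₁ k kp h₂ h₁ hk _ he1 he2
    refine ⟨Projective.factorThru w ((I.map (tr n)).f k₁) + cc, ?_, ?_⟩
    · rw [Preadditive.add_comp, hcc2]
      abel
    · rw [Preadditive.add_comp, hv, hcc1, add_zero]
  let Z : ∀ n : ℕ, {w : Projective.over A₀ ⟶ (I.obj (op n)).X k₁ //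
      (Projective.π A₀ ≫ x₂) ≫ (pr I c n).f k = w ≫ (I.obj (op n)).d k₁ k} := fun n =>
    Nat.rec ⟨Projective.π A₀ ≫ y₁, by rw [assoc, hy₁, assoc]⟩
      (fun n w => ⟨(step n w.1 w.2).choose, (step n w.1 w.2).choose_spec.1⟩) n
  have hZ : ∀ n, (Z (n + 1)).1 ≫ (I.map (tr n)).f k₁ = (Z n).1 :=
    fun n => (step n (Z n).1 (Z n).2).choose_spec.2
  obtain ⟨vv, hvv⟩ := exists_lift I c hc k₁ (fun n => (Z n).1) hZ
  refine ⟨Projective.over A₀, Projective.π A₀, inferInstance, vv, ?_⟩
  apply hom_ext_lim I c hc k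
  intro n
  rw [assoc vv, ← (pr I c n).comm, ← assoc vv, hvv n]
  exact (Z n).2

include hc in
/-- the projection from the limit of a tower to its zeroth stage is a quasi-isomorphism in degree
`k`, if the transition maps are degreewise epimorphisms and quasi-isomorphisms in degrees
`k - 1`, `k`, `k + 1` -/
theorem quasiIsoAt_π_zero (k₂ k₁ k kp kpp : ℤ) (h₂ : k₂ + 1 = k₁) (h₁ : k₁ + 1 = k)
    (hk : k + 1 = kp) (hkp : kp + 1 = kpp)
    (hepi : ∀ (n : ℕ) (j : ℤ), Epi ((I.map (tr n)).f j))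
    (hq : ∀ n : ℕ, QuasiIsoAt (I.map (tr n)) k₁ ∧ QuasiIsoAt (I.map (tr n)) k ∧
      QuasiIsoAt (I.map (tr n)) kp) :
    QuasiIsoAt (pr I c 0) k := by
  have iso1 : ∀ n : ℕ, IsIso (homologyMap (I.map (tr n)) k₁) :=
    fun n => (quasiIsoAt_iff_isIso_homologyMap _ _).1 (hq n).1
  have iso2 : ∀ n : ℕ, IsIso (homologyMap (I.map (tr n)) k) :=
    fun n => (quasiIsoAt_iff_isIso_homologyMap _ _).1 (hq n).2.1
  have iso3 : ∀ n : ℕ, IsIso (homologyMap (I.map (tr n)) kp) :=
    fun n => (quasiIsoAt_iff_isIso_homologyMap _ _).1 (hq n).2.2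
  haveI := epi_homologyMap_π_zero I c hc k₁ k kp kpp h₁ hk hkp hepi
    (fun n => by haveI := iso3 n; infer_instance) (fun n => by haveI := iso2 n; infer_instance)
  haveI := mono_homologyMap_π_zero I c hc k₂ k₁ k kp h₂ h₁ hk hepi
    (fun n => by haveI := iso2 n; infer_instance) (fun n => by haveI := iso1 n; infer_instance)
  rw [quasiIsoAt_iff_isIso_homologyMap]
  exact isIso_of_mono_of_epi _

/-- the shift `n ↦ N + n` of the indexing category of towers -/
def shiftF (N : ℕ) : ℕᵒᵖ ⥤ ℕᵒᵖ :=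
  (Monotone.functor (f := fun n : ℕ => N + n) (fun _ _ h => Nat.add_le_add_left h N)).op

instance (N : ℕ) : (shiftF N).Initial := by
  apply Functor.initial_of_exists_of_isCofiltered
  · rintro ⟨m⟩
    exact ⟨op m, ⟨(homOfLE (Nat.le_add_left m N)).op⟩⟩
  · intro d c s s'
    exact ⟨c, 𝟙 c, by rw [hom_eq s s']⟩

include hc in
/-- the projection from the limit of a tower to its `N`-th stage is a quasi-isomorphism in degree
`k`, if from the stage `N` on the transition maps are degreewise epimorphisms and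
quasi-isomorphisms in degrees `k - 1`, `k`, `k + 1` -/
theorem quasiIsoAt_π (N : ℕ) (k₂ k₁ k kp kpp : ℤ) (h₂ : k₂ + 1 = k₁) (h₁ : k₁ + 1 = k)
    (hk : k + 1 = kp) (hkp : kp + 1 = kpp)
    (hepi : ∀ (n : ℕ) (j : ℤ), Epi ((I.map (tr n)).f j))
    (hq : ∀ n : ℕ, N ≤ n → QuasiIsoAt (I.map (tr n)) k₁ ∧ QuasiIsoAt (I.map (tr n)) k ∧
      QuasiIsoAt (I.map (tr n)) kp) :
    QuasiIsoAt (pr I c N) k := by
  have hc' : IsLimit (c.whisker (shiftF N)) :=
    (Functor.Initial.isLimitWhiskerEquiv (shiftF N) c).symm hc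
  have key : ∀ n : ℕ, (shiftF N ⋙ I).map (tr n) = I.map (tr (N + n)) :=
    fun n => congrArg I.map (hom_eq _ _)
  have := quasiIsoAt_π_zero (shiftF N ⋙ I) (c.whisker (shiftF N)) hc' k₂ k₁ k kp kpp h₂ h₁ hk hkp
    (fun n j => by rw [key]; exact hepi _ j)
    (fun n => by rw [key]; exact hq _ (Nat.le_add_right N n))
  exact this

end Tower

section Resolution

open CochainComplex.Plus.modelCategoryQuillen

lemma injective_of_epiWithInjectiveKernel {Y Z : C} (g : Y ⟶ Z) (hg : epiWithInjectiveKernel g)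
    [Injective Z] : Injective Y := by
  rw [epiWithInjectiveKernel_iff] at hg
  obtain ⟨J, _, f, w, ⟨σ⟩⟩ := hg
  exact Injective.of_iso σ.isoBinaryBiproduct.symm inferInstance

lemma isSplitEpi_of_epiWithInjectiveKernel {Y Z : C} (g : Y ⟶ Z)
    (hg : epiWithInjectiveKernel g) : IsSplitEpi g := by
  rw [epiWithInjectiveKernel_iff] at hg
  obtain ⟨J, _, f, w, ⟨σ⟩⟩ := hg
  exact IsSplitEpi.mk' ⟨σ.s, σ.s_g⟩

variable (X : CochainComplex C ℤ)

/-- the tower of canonical truncations `τ^{≥ -n} X` -/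
noncomputable abbrev T (n : ℕ) : CochainComplex C ℤ := X.truncGE (-(n : ℤ))

/-- the projections `X ⟶ τ^{≥ -n} X` -/
noncomputable abbrev πT (n : ℕ) : X ⟶ T X n := X.πTruncGE (-(n : ℤ))

instance (n : ℕ) : (T X n).IsStrictlyGE (-((n + 1 : ℕ) : ℤ)) :=
  (T X n).isStrictlyGE_of_ge (-((n + 1 : ℕ) : ℤ)) (-(n : ℤ)) (by push_cast; omega)

/-- the transition maps `τ^{≥ -n-1} X ⟶ τ^{≥ -n} X` -/
noncomputable def tT (n : ℕ) : T X (n + 1) ⟶ T X n :=
  truncGEMap (πT X n) (-((n + 1 : ℕ) : ℤ)) ≫ inv ((T X n).πTruncGE (-((n + 1 : ℕ) : ℤ)))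

lemma πT_tT (n : ℕ) : πT X (n + 1) ≫ tT X n = πT X n := by
  dsimp only [tT, πT]
  rw [← assoc, CochainComplex.πTruncGE_naturality, assoc, IsIso.hom_inv_id, comp_id]

lemma quasiIsoAt_πT (n : ℕ) (j : ℤ) (hj : -(n : ℤ) ≤ j) : QuasiIsoAt (πT X n) j :=
  X.quasiIsoAt_πTruncGE _ _ hj

lemma quasiIsoAt_tT (n : ℕ) (j : ℤ) (hj : -(n : ℤ) ≤ j) : QuasiIsoAt (tT X n) j := by
  haveI := quasiIsoAt_πT X (n + 1) j (by push_cast; omega)
  haveI : QuasiIsoAt (πT X (n + 1) ≫ tT X n) j := by
    rw [πT_tT]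
    exact quasiIsoAt_πT X n j hj
  exact quasiIsoAt_of_comp_left (πT X (n + 1)) (tT X n) j

variable [EnoughInjectives C]

/-- a stage of the tower of resolutions -/
structure St (n : ℕ) where
  /-- the complex of injectives -/
  I : CochainComplex C ℤ
  /-- a lower bound -/
  m : ℤ
  hI : I.IsStrictlyGE m
  inj : ∀ k, Injective (I.X k)
  /-- the resolution of the truncation -/
  b : T X n ⟶ I
  qb : QuasiIso b

lemma exists_next {n : ℕ} (s : St X n) :
    ∃ (s' : St X (n + 1)) (p : s'.I ⟶ s.I),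
      degreewiseEpiWithInjectiveKernel p ∧ s'.b ≫ p = tT X n ≫ s.b := by
  haveI := s.hI
  haveI : s.I.IsStrictlyGE (min s.m (-(n : ℤ) - 2)) :=
    s.I.isStrictlyGE_of_ge _ s.m (min_le_left _ _)
  haveI : (T X (n + 1)).IsStrictlyGE (min s.m (-(n : ℤ) - 2) + 1) :=
    (T X (n + 1)).isStrictlyGE_of_ge _ (-((n + 1 : ℕ) : ℤ)) (by
      have := min_le_right s.m (-(n : ℤ) - 2)
      push_cast
      omega)
  obtain ⟨K', hK', ι, π, hι, hqι, hπ, fac⟩ := cm5a (tT X n ≫ s.b) (min s.m (-(n : ℤ) - 2))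
  exact ⟨{ I := K', m := _, hI := hK',
           inj := fun k => by
            haveI := s.inj k
            exact injective_of_epiWithInjectiveKernel (π.f k) (hπ k)
           b := ι, qb := hqι }, π, hπ, fac⟩

/-- the next stage -/
noncomputable def next {n : ℕ} (s : St X n) : St X (n + 1) := (exists_next X s).choose

/-- the transition map -/
noncomputable def proj {n : ℕ} (s : St X n) : (next X s).I ⟶ s.I :=
  (exists_next X s).choose_spec.choose

lemma proj_fib {n : ℕ} (s : St X n) : degreewiseEpiWithInjectiveKernel (proj X s) :=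
  (exists_next X s).choose_spec.choose_spec.1

lemma proj_fac {n : ℕ} (s : St X n) : (next X s).b ≫ proj X s = tT X n ≫ s.b :=
  (exists_next X s).choose_spec.choose_spec.2

lemma quasiIsoAt_proj {n : ℕ} (s : St X n) (j : ℤ) (hj : -(n : ℤ) ≤ j) :
    QuasiIsoAt (proj X s) j := by
  haveI := s.qb
  haveI := (next X s).qb
  haveI := quasiIsoAt_tT X n j hj
  haveI : QuasiIsoAt ((next X s).b ≫ proj X s) j := by
    rw [proj_fac]
    infer_instance
  exact quasiIsoAt_of_comp_left (next X s).b (proj X s) j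

lemma exists_zero : Nonempty (St X 0) := by
  obtain ⟨L, i, _, hi', hL, hL'⟩ :=
    exists_mono_quasiIso_injective (T X 0) (-((0 : ℕ) : ℤ) - 1) (-((0 : ℕ) : ℤ)) (by omega)
  exact ⟨{ I := L, m := _, hI := hL', inj := hL, b := i, qb := hi' }⟩

/-- the sequence of stages -/
noncomputable def seq (n : ℕ) : St X n :=
  Nat.rec (exists_zero X).some (fun _ s => next X s) n

/-- the tower of bounded below complexes of injectives -/
noncomputable def tower : ℕᵒᵖ ⥤ CochainComplex C ℤ :=
  Functor.ofOpSequence (X := fun n => (seq X n).I) (fun n => proj X (seq X n))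

lemma tower_map_tr (n : ℕ) : (tower X).map (tr n) = proj X (seq X n) :=
  Functor.ofOpSequence_map_homOfLE_succ _ n

/-- the maps from `X` to the stages of the tower -/
noncomputable def aT (n : ℕ) : X ⟶ (seq X n).I := πT X n ≫ (seq X n).b

lemma aT_comp' (n : ℕ) : aT X (n + 1) ≫ proj X (seq X n) = aT X n := by
  show (πT X (n + 1) ≫ (next X (seq X n)).b) ≫ proj X (seq X n) = πT X n ≫ (seq X n).b
  rw [assoc, proj_fac, ← assoc, πT_tT]

lemma aT_comp (n : ℕ) : aT X (n + 1) ≫ (tower X).map (tr n) = aT X n := by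
  rw [tower_map_tr]
  exact aT_comp' X n

/-- the cone over the tower with vertex `X` -/
noncomputable def coneT : Cone (tower X) where
  pt := X
  π := NatTrans.ofOpSequence (fun n => aT X n) (by
    intro n
    dsimp
    rw [id_comp]
    exact (aT_comp X n).symm)

variable [HasLimitsOfShape ℕᵒᵖ C]

lemma isKInjective_limit_tower : (limit (tower X)).IsKInjective := by
  apply Groth.Agent.Lib.KInjTower.main
  · intro n
    haveI := (seq X n).hI
    haveI := (seq X n).inj
    show ((seq X n).I).IsKInjective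
    exact isKInjective_of_injective (seq X n).I (seq X n).m
  · intro n m
    rw [tower_map_tr]
    exact isSplitEpi_of_epiWithInjectiveKernel _ (proj_fib X (seq X n) m)

variable [EnoughProjectives C]

lemma quasiIso_lift : QuasiIso (limit.lift (tower X) (coneT X)) := by
  constructor
  intro k
  have hN : -(((1 - k).toNat : ℕ) : ℤ) ≤ k - 1 := by
    have := Int.self_le_toNat (1 - k)
    omega
  have h1 : QuasiIsoAt (pr (tower X) (limit.cone (tower X)) (1 - k).toNat) k := by
    apply quasiIsoAt_π (tower X) (limit.cone (tower X)) (limit.isLimit _) (1 - k).toNat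
      (k - 2) (k - 1) k (k + 1) (k + 2) (by omega) (by omega) rfl (by omega)
    · intro n j
      rw [tower_map_tr]
      exact (proj_fib X (seq X n) j).1
    · intro n hn
      rw [tower_map_tr]
      have hn' : ((1 - k).toNat : ℤ) ≤ (n : ℤ) := by exact_mod_cast hn
      exact ⟨quasiIsoAt_proj X _ _ (by omega), quasiIsoAt_proj X _ _ (by omega),
        quasiIsoAt_proj X _ _ (by omega)⟩
  have h2 : QuasiIsoAt (aT X (1 - k).toNat) k := by
    haveI := quasiIsoAt_πT X (1 - k).toNat k (by omega)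
    haveI := (seq X (1 - k).toNat).qb
    exact quasiIsoAt_comp (πT X (1 - k).toNat) (seq X (1 - k).toNat).b k
  have h3 : limit.lift (tower X) (coneT X) ≫ pr (tower X) (limit.cone (tower X)) (1 - k).toNat =
      aT X (1 - k).toNat := limit.lift_π _ _
  haveI := h1
  haveI : QuasiIsoAt (limit.lift (tower X) (coneT X) ≫
      pr (tower X) (limit.cone (tower X)) (1 - k).toNat) k := by
    rw [h3]
    exact h2
  exact quasiIsoAt_of_comp_right _ (pr (tower X) (limit.cone (tower X)) (1 - k).toNat) k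

/-- **Every complex admits a K-injective resolution.** -/
theorem exists_kinj_resolution :
    ∃ (I : CochainComplex C ℤ) (a : X ⟶ I), I.IsKInjective ∧ QuasiIso a :=
  ⟨limit (tower X), limit.lift (tower X) (coneT X), isKInjective_limit_tower X, quasiIso_lift X⟩

end Resolution

end Groth.Agent.Lib.KInjRes
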