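import Mathlib

/-!
# Right derived functors are computed on K-injective complexes (helper2)

* `unitF`, `isLeftKanExtension_unitF`: for an adjunction `L ⊣ ρ` and any functor `F`, the functor
  `ρ ⋙ F` with `F η` is a left Kan extension of `F` along `L`.
* `isLeftKanExtension_of_quotient`: a left Kan extension along `functor r ⋙ Lh` of a functor which
  factors through the quotient is a left Kan extension along `Lh`.
* `rightAdj`, `adj`, `isIso_unit_of_P`: construction of a right adjoint of `L` from a class `P` of
  objects into which `L` is bijective on morphisms and which hits every object of the target.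
* `isIso_unit_app_of_isKInjective`: if every complex has a K-injective resolution, the unit of any
  right derived functor (along `Q`) of a homotopy invariant functor on cochain complexes is an
  isomorphism at K-injective complexes.
-/

set_option autoImplicit false
universe w v u
open CategoryTheory Category Limits

namespace Groth.Agent.Lib.RDerK

section KanAdj

variable {C D H : Type*} [Category C] [Category D] [Category H]
  {L : C ⥤ D} {ρ : D ⥤ C} (adj : L ⊣ ρ) (F : C ⥤ H)

/-- the unit `F ⟶ L ⋙ ρ ⋙ F` -/
@[simps]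
def unitF : F ⟶ L ⋙ ρ ⋙ F where
  app X := F.map (adj.unit.app X)
  naturality X Y f := by
    dsimp
    rw [← F.map_comp, ← F.map_comp]
    congr 1
    exact adj.unit.naturality f

/-- the morphism `ρ ⋙ F ⟶ G` induced by `β : F ⟶ L ⋙ G` -/
@[simps]
def descF (G : D ⥤ H) (β : F ⟶ L ⋙ G) : ρ ⋙ F ⟶ G where
  app Y := β.app (ρ.obj Y) ≫ G.map (adj.counit.app Y)
  naturality Y Y' g := by
    have h1 : F.map (ρ.map g) ≫ β.app (ρ.obj Y') = β.app (ρ.obj Y) ≫ G.map (L.map (ρ.map g)) :=
      β.naturality (ρ.map g)
    have h2 : L.map (ρ.map g) ≫ adj.counit.app Y' = adj.counit.app Y ≫ g :=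
      adj.counit.naturality g
    dsimp
    rw [← assoc, h1, assoc, assoc, ← G.map_comp, ← G.map_comp, h2]

lemma unitF_descF (G : D ⥤ H) (β : F ⟶ L ⋙ G) :
    unitF adj F ≫ Functor.whiskerLeft L (descF adj F G β) = β := by
  ext X
  have h1 : F.map (adj.unit.app X) ≫ β.app (ρ.obj (L.obj X)) =
      β.app X ≫ G.map (L.map (adj.unit.app X)) := β.naturality (adj.unit.app X)
  rw [NatTrans.comp_app, Functor.whiskerLeft_app, unitF_app, descF_app, ← assoc, h1, assoc,
    ← G.map_comp, adj.left_triangle_components, G.map_id]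
  exact comp_id _

lemma descF_unique (G : D ⥤ H) (β : F ⟶ L ⋙ G) (γ : ρ ⋙ F ⟶ G)
    (h : unitF adj F ≫ Functor.whiskerLeft L γ = β) : γ = descF adj F G β := by
  ext Y
  have h1 : F.map (adj.unit.app (ρ.obj Y)) ≫ γ.app (L.obj (ρ.obj Y)) = β.app (ρ.obj Y) := by
    have := congrArg (fun t => t.app (ρ.obj Y)) h
    simpa using this
  have h2 : F.map (ρ.map (adj.counit.app Y)) ≫ γ.app Y =
      γ.app (L.obj (ρ.obj Y)) ≫ G.map (adj.counit.app Y) := γ.naturality (adj.counit.app Y)
  rw [descF_app, ← h1, assoc, ← h2, ← assoc, ← F.map_comp, adj.right_triangle_components]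
  erw [F.map_id, id_comp]

/-- **Kan extension along a left adjoint is precomposition with the right adjoint** -/
theorem isLeftKanExtension_unitF : (ρ ⋙ F).IsLeftKanExtension (unitF adj F) := by
  refine ⟨⟨Limits.IsInitial.ofUniqueHom (fun E => StructuredArrow.homMk
    (descF adj F E.right E.hom) (unitF_descF adj F E.right E.hom)) (fun E m => ?_)⟩⟩
  apply StructuredArrow.ext
  exact descF_unique adj F E.right E.hom m.right (StructuredArrow.w m)

end KanAdj

section Transfer

variable {C D H : Type*} [Category C] [Category D] [Category H] (r : HomRel C)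
  (Lh : CategoryTheory.Quotient r ⥤ D) (ΦH : CategoryTheory.Quotient r ⥤ H) (RF : D ⥤ H)

/-- a left Kan extension along `functor r ⋙ Lh` of a functor factoring through the quotient is a
left Kan extension along `Lh` -/
theorem isLeftKanExtension_of_quotient
    (α : CategoryTheory.Quotient.functor r ⋙ ΦH ⟶ (CategoryTheory.Quotient.functor r ⋙ Lh) ⋙ RF)
    [RF.IsLeftKanExtension α] :
    RF.IsLeftKanExtension
      (CategoryTheory.Quotient.natTransLift r (α ≫ (Functor.associator _ _ _).hom) :
        ΦH ⟶ Lh ⋙ RF) := by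
  refine ⟨⟨Limits.IsInitial.ofUniqueHom (fun E => StructuredArrow.homMk
    (RF.descOfIsLeftKanExtension α E.right
      (Functor.whiskerLeft (CategoryTheory.Quotient.functor r) E.hom ≫
        (Functor.associator _ _ _).inv)) ?_) (fun E m => ?_)⟩⟩
  · apply CategoryTheory.Quotient.natTrans_ext
    ext X
    have h := RF.descOfIsLeftKanExtension_fac_app α E.right
      (Functor.whiskerLeft (CategoryTheory.Quotient.functor r) E.hom ≫
        (Functor.associator _ _ _).inv) X
    change (CategoryTheory.Quotient.natTransLift r (α ≫ (Functor.associator _ _ _).hom)).app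
        ((CategoryTheory.Quotient.functor r).obj X) ≫
      (RF.descOfIsLeftKanExtension α E.right _).app
        (Lh.obj ((CategoryTheory.Quotient.functor r).obj X)) = _
    rw [CategoryTheory.Quotient.natTransLift_app]
    simpa using h
  · apply StructuredArrow.ext
    apply RF.hom_ext_of_isLeftKanExtension α
    ext X
    have h := RF.descOfIsLeftKanExtension_fac_app α E.right
      (Functor.whiskerLeft (CategoryTheory.Quotient.functor r) E.hom ≫
        (Functor.associator _ _ _).inv) X
    have hm := congrArg (fun t => t.app ((CategoryTheory.Quotient.functor r).obj X))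
      (StructuredArrow.w m)
    replace hm : (CategoryTheory.Quotient.natTransLift r
          (α ≫ (Functor.associator _ _ _).hom)).app ((CategoryTheory.Quotient.functor r).obj X) ≫
        m.right.app (Lh.obj ((CategoryTheory.Quotient.functor r).obj X)) =
        E.hom.app ((CategoryTheory.Quotient.functor r).obj X) := hm
    rw [CategoryTheory.Quotient.natTransLift_app] at hm
    change α.app X ≫ m.right.app (Lh.obj ((CategoryTheory.Quotient.functor r).obj X)) =
      α.app X ≫ (RF.descOfIsLeftKanExtension α E.right _).app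
        (Lh.obj ((CategoryTheory.Quotient.functor r).obj X))
    have e1 : α.app X ≫ m.right.app (Lh.obj ((CategoryTheory.Quotient.functor r).obj X)) =
        E.hom.app ((CategoryTheory.Quotient.functor r).obj X) := by simpa using hm
    have e2 : ((CategoryTheory.Quotient.functor r).whiskerLeft E.hom ≫
        ((CategoryTheory.Quotient.functor r).associator Lh E.right).inv).app X =
        E.hom.app ((CategoryTheory.Quotient.functor r).obj X) := by simp
    exact e1.trans (e2.symm.trans h.symm)

end Transfer

section RightAdjoint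

variable {C D : Type*} [Category C] [Category D] (L : C ⥤ D) (P : C → Prop)
  (hbij : ∀ (X J : C), P J → Function.Bijective (L.map : (X ⟶ J) → (L.obj X ⟶ L.obj J)))
  (hres : ∀ Y : D, ∃ J : C, P J ∧ Nonempty (L.obj J ≅ Y))

/-- the chosen object -/
noncomputable def ρobj (Y : D) : C := (hres Y).choose

lemma ρobj_prop (Y : D) : P (ρobj L P hres Y) := (hres Y).choose_spec.1

/-- the chosen isomorphism -/
noncomputable def ρiso (Y : D) : L.obj (ρobj L P hres Y) ≅ Y := (hres Y).choose_spec.2.some

/-- the bijection defining the adjunction -/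
noncomputable def homEquiv (X : C) (Y : D) : (L.obj X ⟶ Y) ≃ (X ⟶ ρobj L P hres Y) :=
  (ρiso L P hres Y).symm.homToEquiv.trans
    (Equiv.ofBijective _ (hbij X _ (ρobj_prop L P hres Y))).symm

lemma map_homEquiv (X : C) (Y : D) (g : L.obj X ⟶ Y) :
    L.map (homEquiv L P hbij hres X Y g) = g ≫ (ρiso L P hres Y).inv :=
  (Equiv.ofBijective _ (hbij X _ (ρobj_prop L P hres Y))).apply_symm_apply _

lemma homEquiv_naturality (X' X : C) (Y : D) (f : X' ⟶ X) (g : L.obj X ⟶ Y) :
    homEquiv L P hbij hres X' Y (L.map f ≫ g) = f ≫ homEquiv L P hbij hres X Y g := by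
  apply (hbij X' _ (ρobj_prop L P hres Y)).injective
  rw [map_homEquiv, L.map_comp, map_homEquiv, assoc]

/-- the right adjoint -/
noncomputable def rightAdj : D ⥤ C :=
  Adjunction.rightAdjointOfEquiv (homEquiv L P hbij hres) (homEquiv_naturality L P hbij hres)

/-- the adjunction -/
noncomputable def adj : L ⊣ rightAdj L P hbij hres :=
  Adjunction.adjunctionOfEquivRight (homEquiv L P hbij hres) (homEquiv_naturality L P hbij hres)

lemma rightAdj_obj_prop (Y : D) : P ((rightAdj L P hbij hres).obj Y) := ρobj_prop L P hres Y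

lemma map_unit (X : C) :
    L.map ((adj L P hbij hres).unit.app X) = (ρiso L P hres (L.obj X)).inv := by
  have h : (adj L P hbij hres).unit.app X = homEquiv L P hbij hres X (L.obj X) (𝟙 _) :=
    Adjunction.adjunctionOfEquivRight_unit_app _ _ X
  have h' := map_homEquiv L P hbij hres X (L.obj X) (𝟙 _)
  rw [id_comp] at h'
  exact (congrArg (fun t : X ⟶ ρobj L P hres (L.obj X) => L.map t) h).trans h'

/-- the unit is an isomorphism on `P` -/
theorem isIso_unit_of_P (X : C) (hX : P X) : IsIso ((adj L P hbij hres).unit.app X) := by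
  have hiso : IsIso (L.map ((adj L P hbij hres).unit.app X)) := by
    rw [map_unit]
    infer_instance
  obtain ⟨g, hg⟩ := (hbij ((rightAdj L P hbij hres).obj (L.obj X)) X hX).surjective
    (inv (L.map ((adj L P hbij hres).unit.app X)))
  refine ⟨g, ?_, ?_⟩
  · apply (hbij X X hX).injective
    rw [L.map_comp, hg, IsIso.hom_inv_id]
    exact (L.map_id _).symm
  · apply (hbij _ _ (rightAdj_obj_prop L P hbij hres (L.obj X))).injective
    rw [L.map_comp, hg, IsIso.inv_hom_id]
    exact (L.map_id _).symm

end RightAdjoint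

section Main

open DerivedCategory

variable {C : Type u} [Category.{v} C] [Abelian C] [HasDerivedCategory.{w} C]
  {H : Type*} [Category H]

/-- K-injectivity of the underlying complex -/
abbrev PK : HomotopyCategory C (ComplexShape.up ℤ) → Prop :=
  fun X => CochainComplex.IsKInjective X.as

lemma hbijK (X J : HomotopyCategory C (ComplexShape.up ℤ)) (hJ : PK J) :
    Function.Bijective (Qh.map : (X ⟶ J) → (Qh.obj X ⟶ Qh.obj J)) := by
  haveI : CochainComplex.IsKInjective J.as := hJ
  exact CochainComplex.IsKInjective.Qh_map_bijective X J.as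

variable (hres : ∀ X : CochainComplex C ℤ, ∃ (I : CochainComplex C ℤ) (a : X ⟶ I),
  I.IsKInjective ∧ QuasiIso a)

include hres in
lemma hresK (Y : DerivedCategory C) :
    ∃ J : HomotopyCategory C (ComplexShape.up ℤ), PK J ∧ Nonempty (Qh.obj J ≅ Y) := by
  obtain ⟨I, a, hI, ha⟩ := hres (Q.objPreimage Y)
  haveI := ha
  exact ⟨(HomotopyCategory.quotient C (ComplexShape.up ℤ)).obj I, hI,
    ⟨(asIso (Q.map a)).symm ≪≫ Q.objObjPreimageIso Y⟩⟩

include hres in
/-- **the unit of a right derived functor of a homotopy invariant functor is an isomorphism at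
K-injective complexes**, provided every complex has a K-injective resolution -/
theorem isIso_unit_app_of_isKInjective
    (F : CochainComplex C ℤ ⥤ H)
    (hF : ∀ {K L : CochainComplex C ℤ} (f g : K ⟶ L), Homotopy f g → F.map f = F.map g)
    (RF : DerivedCategory C ⥤ H) (α : F ⟶ Q ⋙ RF)
    [RF.IsRightDerivedFunctor α (HomologicalComplex.quasiIso C (ComplexShape.up ℤ))]
    (J : CochainComplex C ℤ) [hJ : J.IsKInjective] : IsIso (α.app J) := by
  let r := homotopic C (ComplexShape.up ℤ)
  let Fh : HomotopyCategory C (ComplexShape.up ℤ) ⥤ H :=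
    CategoryTheory.Quotient.lift r F (fun _ _ f g h => hF f g h.some)
  let α₂ : CategoryTheory.Quotient.functor r ⋙ Fh ⟶
      (CategoryTheory.Quotient.functor r ⋙ Qh) ⋙ RF := α
  haveI : RF.IsLeftKanExtension α₂ :=
    Functor.IsRightDerivedFunctor.isLeftKanExtension RF α
      (HomologicalComplex.quasiIso C (ComplexShape.up ℤ))
  let α' : Fh ⟶ Qh ⋙ RF :=
    CategoryTheory.Quotient.natTransLift r (α₂ ≫ (Functor.associator _ _ _).hom)
  haveI h1 : RF.IsLeftKanExtension α' := isLeftKanExtension_of_quotient r Qh Fh RF α₂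
  let ad := adj (Qh : HomotopyCategory C (ComplexShape.up ℤ) ⥤ DerivedCategory C) PK hbijK
    (hresK hres)
  haveI h2 := isLeftKanExtension_unitF ad Fh
  let d := RF.descOfIsLeftKanExtension α' _ (unitF ad Fh)
  let d' := (rightAdj Qh PK hbijK (hresK hres) ⋙ Fh).descOfIsLeftKanExtension (unitF ad Fh) RF α'
  have hd : α' ≫ Functor.whiskerLeft Qh d = unitF ad Fh :=
    RF.descOfIsLeftKanExtension_fac α' _ (unitF ad Fh)
  have hd' : unitF ad Fh ≫ Functor.whiskerLeft Qh d' = α' :=
    (rightAdj Qh PK hbijK (hresK hres) ⋙ Fh).descOfIsLeftKanExtension_fac (unitF ad Fh) RF α'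
  have hdd' : d ≫ d' = 𝟙 RF := by
    apply RF.hom_ext_of_isLeftKanExtension α'
    rw [Functor.whiskerLeft_comp, ← assoc, hd, hd', Functor.whiskerLeft_id', comp_id]
  have hd'd : d' ≫ d = 𝟙 _ := by
    apply (rightAdj Qh PK hbijK (hresK hres) ⋙ Fh).hom_ext_of_isLeftKanExtension (unitF ad Fh)
    rw [Functor.whiskerLeft_comp, ← assoc, hd', hd, Functor.whiskerLeft_id', comp_id]
  let X₀ := (HomotopyCategory.quotient C (ComplexShape.up ℤ)).obj J
  haveI : IsIso (d.app (Qh.obj X₀)) := ⟨d'.app (Qh.obj X₀), by
    rw [← NatTrans.comp_app, hdd']; rfl, by rw [← NatTrans.comp_app, hd'd]; rfl⟩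
  haveI : IsIso (ad.unit.app X₀) := isIso_unit_of_P Qh PK hbijK (hresK hres) X₀ hJ
  have e1 : α'.app X₀ ≫ d.app (Qh.obj X₀) = Fh.map (ad.unit.app X₀) := by
    have := congrArg (fun t => t.app X₀) hd
    simpa using this
  have e2 : α'.app X₀ = α.app J := by
    refine (CategoryTheory.Quotient.natTransLift_app _ _ _ _ J).trans ?_
    simp only [NatTrans.comp_app, Functor.associator_hom_app]
    exact comp_id _
  rw [← e2]
  haveI e4 : IsIso (α'.app X₀ ≫ d.app (Qh.obj X₀)) := by
    rw [e1]
    exact Functor.map_isIso Fh (ad.unit.app X₀)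
  exact IsIso.of_isIso_comp_right (α'.app X₀) (d.app (Qh.obj X₀))

end Main

end Groth.Agent.Lib.RDerK
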