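import Mathlib
import Groth.Prelude.Def_DRing4
import Groth.Agent.Lib.KInjRes_helper2
import Groth.Agent.Lib.RDerK_helper2
import Groth.Agent.Lib.RHomK_helper2
import Groth.Agent.Lib.LocHom_helper2

/-!
# `RHom(E, -)` is computed on K-injective complexes (helper2)

* `homotopyMap`: a functor with a cochain action preserves homotopies.
* `isIso_unit_RHomCx`: the unit `Q Hom•(E, J) ⟶ RHom(E, Q J)` is an isomorphism for `J` K-injective.
* `nonempty_RHomCx_iso_of_kinj`, `nonempty_RHomCx_iso_of_resolution`.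
* `isKInjective_homCx`: `Hom•(F, I)` is K-injective for `F` K-flat and `I` K-injective.
* `homCxPreIso`: `Hom•(L, M) ≅ Hom•(L', M)` for `L' ≅ L`.
* `tensorSingle₀Iso`, `singleTensorSingleIso`: `M[0] ⊗ N[0] ≅ (M ⊗ N)[0]`.
-/

set_option autoImplicit false
universe u
open CategoryTheory Limits MonoidalCategory CochainComplex CochainComplex.HomComplex
open scoped TensorProduct

namespace Groth.Agent.Lib.RHomKInj

open Groth.Agent.Lib.KFlatMod Groth.Agent.Lib.HomCx Groth.Agent.Lib.RHomK DerivedCategory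
  Groth.Agent.Lib.BifCone
attribute [local instance] HasDerivedCategory.standard

section Homotopy

variable {𝒜 ℬ : Type*} [Category 𝒜] [Category ℬ] [Preadditive 𝒜] [Preadditive ℬ]
  {Φ : CochainComplex 𝒜 ℤ ⥤ CochainComplex ℬ ℤ} (T : CochainAction Φ)

/-- a functor with a cochain action preserves homotopies -/
noncomputable def homotopyMap {K L : CochainComplex 𝒜 ℤ} (f g : K ⟶ L) (h : Homotopy f g) :
    Homotopy (Φ.map f) (Φ.map g) :=
  (Cochain.equivHomotopy _ _).symm ⟨T.map (Cochain.equivHomotopy f g h).1, by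
    have hz := (Cochain.equivHomotopy f g h).2
    rw [T.map_δ, ← T.map_ofHom g, ← T.map_add, ← hz, T.map_ofHom]⟩

end Homotopy

variable {A : Type u} [CommRing A]

lemma homCxQ_map_eq_of_homotopy (E : DRing.Cx A) {K L : DRing.Cx A} (f g : K ⟶ L)
    (h : Homotopy f g) : (DRing.homCxQ E).map f = (DRing.homCxQ E).map g := by
  have h' := HomotopyCategory.eq_of_homotopy _ _ (homotopyMap (homAction E) f g h)
  exact congrArg (fun t => Qh.map t) h'

/-- **the unit `Q Hom•(E, J) ⟶ RHom(E, Q J)` is an isomorphism for `J` K-injective** -/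
theorem isIso_unit_RHomCx (E : DRing.Cx A) [DRing.HasRHomCx E] (J : DRing.Cx A)
    [J.IsKInjective] :
    IsIso (((DRing.homCxQ E).totalRightDerivedUnit Q
      (HomologicalComplex.quasiIso (ModuleCat.{u} A) (ComplexShape.up ℤ))).app J) :=
  Groth.Agent.Lib.RDerK.isIso_unit_app_of_isKInjective
    (fun X => Groth.Agent.Lib.KInjRes.exists_kinj_resolution X) (DRing.homCxQ E)
    (fun f g h => homCxQ_map_eq_of_homotopy E f g h) (DRing.RHomCx E) _ J

/-- `RHom(E, Q J) ≅ Q Hom•(E, J)` for `J` K-injective -/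
theorem nonempty_RHomCx_iso_of_kinj (E : DRing.Cx A) [DRing.HasRHomCx E] (J : DRing.Cx A)
    [J.IsKInjective] :
    Nonempty ((DRing.RHomCx E).obj (Q.obj J) ≅ Q.obj ((DRing.homCxFunctor E).obj J)) := by
  haveI := isIso_unit_RHomCx E J
  exact ⟨(asIso (((DRing.homCxQ E).totalRightDerivedUnit Q
      (HomologicalComplex.quasiIso (ModuleCat.{u} A) (ComplexShape.up ℤ))).app J)).symm⟩

/-- `RHom(E, Q X) ≅ Q Hom•(E, J)` for a K-injective resolution `X ⟶ J` -/
theorem nonempty_RHomCx_iso_of_resolution (E : DRing.Cx A) [DRing.HasRHomCx E]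
    {X J : DRing.Cx A} (a : X ⟶ J) [QuasiIso a] [J.IsKInjective] :
    Nonempty ((DRing.RHomCx E).obj (Q.obj X) ≅ Q.obj ((DRing.homCxFunctor E).obj J)) := by
  obtain ⟨e⟩ := nonempty_RHomCx_iso_of_kinj E J
  exact ⟨(DRing.RHomCx E).mapIso (asIso (Q.map a)) ≪≫ e⟩

/-- every object of `D(A)` is the image of a K-injective complex -/
theorem exists_kinj_iso (K : Dual.D A) :
    ∃ (J : DRing.Cx A), J.IsKInjective ∧ Nonempty (K ≅ Q.obj J) := by
  obtain ⟨J, a, hJ, ha⟩ := Groth.Agent.Lib.KInjRes.exists_kinj_resolution (Q.objPreimage K)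
  haveI := ha
  exact ⟨J, hJ, ⟨(Q.objObjPreimageIso K).symm ≪≫ asIso (Q.map a)⟩⟩

/-- **`Hom•(F, I)` is K-injective for `F` K-flat and `I` K-injective** -/
theorem isKInjective_homCx (F I : DRing.Cx A) (hF : KF A F) [I.IsKInjective] :
    ((DRing.homCxFunctor F).obj I).IsKInjective := by
  show (DRing.homCx F I).IsKInjective
  constructor
  intro C f hC
  have hCF : (C ⊗ F).Acyclic := fun i =>
    (HomologicalComplex.exactAt_iff_isZero_homology _ _).2
      (hF C (fun j => (HomologicalComplex.exactAt_iff_isZero_homology _ _).1 (hC j)) i)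
  obtain ⟨h⟩ := IsKInjective.nonempty_homotopy_zero ((homEquivC C F I).symm f) hCF
  obtain ⟨z, hz⟩ := Cochain.equivHomotopy _ _ h
  rw [Cochain.ofHom_zero, add_zero, ofHom_homEquivC_symm] at hz
  refine ⟨(Cochain.equivHomotopy f 0).symm ⟨cur z, ?_⟩⟩
  rw [Cochain.ofHom_zero, add_zero, δ_cur, ← hz, cur_unc]

section Pre

variable {L L' : DRing.Cx A}

lemma homCxPre_comp {L'' : DRing.Cx A} (f : L' ⟶ L) (g : L'' ⟶ L') (M : DRing.Cx A) :
    homCxPre (g ≫ f) M = homCxPre f M ≫ homCxPre g M := by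
  refine HomologicalComplex.hom_ext _ _ fun i => ModuleCat.hom_ext
    (LinearMap.ext fun (z : Cochain L M i) => ?_)
  rw [HomologicalComplex.comp_f, ModuleCat.hom_comp, LinearMap.comp_apply]
  erw [homCxPre_f_apply, homCxPre_f_apply, homCxPre_f_apply]
  rw [Cochain.ofHom_comp]
  exact Cochain.comp_assoc_of_first_is_zero_cochain _ _ _ _

lemma homCxPre_id (M : DRing.Cx A) : homCxPre (𝟙 L) M = 𝟙 _ := by
  refine HomologicalComplex.hom_ext _ _ fun i => ModuleCat.hom_ext
    (LinearMap.ext fun (z : Cochain L M i) => ?_)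
  erw [homCxPre_f_apply]
  rw [Cochain.id_comp]
  rfl

/-- `Hom•(L, M) ≅ Hom•(L', M)` for `L' ≅ L` -/
noncomputable def homCxPreIso (e : L' ≅ L) (M : DRing.Cx A) :
    DRing.homCx L M ≅ DRing.homCx L' M where
  hom := homCxPre e.hom M
  inv := homCxPre e.inv M
  hom_inv_id := by rw [← homCxPre_comp, e.inv_hom_id, homCxPre_id]
  inv_hom_id := by rw [← homCxPre_comp, e.hom_inv_id, homCxPre_id]

end Pre

section Single

/-- `K ⊗ N[0]` is `K` tensored termwise with `N` -/
noncomputable def tensorSingle₀Iso (K : DRing.Cx A) (N : ModuleCat.{u} A) :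
    K ⊗ (HomologicalComplex.single (ModuleCat.{u} A) (ComplexShape.up ℤ) 0).obj N ≅
      ((tensorRight N).mapHomologicalComplex (ComplexShape.up ℤ)).obj K :=
  HomologicalComplex.Hom.isoOfComponents
    (fun p => (asIso (Groth.Agent.Lib.BifSingle.θ (T A) K N 0 p p (add_zero p))).symm)
    (by
      intro p p' hpp'
      have hpp : p + 1 = p' := hpp'
      have hθ := Groth.Agent.Lib.BifSingle.θ_d (T A) K N 0 p p p' p' (add_zero p) hpp hpp
      have key : inv (Groth.Agent.Lib.BifSingle.θ (T A) K N 0 p p (add_zero p)) ≫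
          ((T A).map (K.d p p')).app N =
          (HomologicalComplex.mapBifunctor K
            ((HomologicalComplex.single (ModuleCat.{u} A) (ComplexShape.up ℤ) 0).obj N) (T A)
            (ComplexShape.up ℤ)).d p p' ≫
          inv (Groth.Agent.Lib.BifSingle.θ (T A) K N 0 p' p' (add_zero p')) := by
        rw [IsIso.inv_comp_eq, ← Category.assoc, hθ, Category.assoc, IsIso.hom_inv_id,
          Category.comp_id]
      exact key)

/-- `M[0] ⊗ N[0] ≅ (M ⊗ N)[0]` -/
noncomputable def singleTensorSingleIso (M N : ModuleCat.{u} A) :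
    (HomologicalComplex.single (ModuleCat.{u} A) (ComplexShape.up ℤ) 0).obj M ⊗
      (HomologicalComplex.single (ModuleCat.{u} A) (ComplexShape.up ℤ) 0).obj N ≅
    (HomologicalComplex.single (ModuleCat.{u} A) (ComplexShape.up ℤ) 0).obj (M ⊗ N) :=
  tensorSingle₀Iso _ N ≪≫
    (HomologicalComplex.singleMapHomologicalComplex (tensorRight N) (ComplexShape.up ℤ) 0).app M

end Single

end Groth.Agent.Lib.RHomKInj
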