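import Mathlib
import Groth.Prelude.Def_DRing3
import Groth.Prelude.Def_DRing4
import Groth.Prelude.Def_DerCA
import Groth.Agent.Lib.DerCompl1_helper2
import Groth.Agent.Lib.LocHom_helper2
import Groth.Agent.Lib.RHomKInj_helper2
import Groth.Agent.Lib.KFlatMod2_helper2
import Groth.Agent.Lib.KProjRes_helper2
import Groth.Agent.Lib.DRingLT_helper2
import Groth.Agent.Lib.PerfectCx_helper2

/-!
# Derived-category lemmas for derived completion via the extended Cech complex (helper2)

* `bijective_precomp_of_distinguished`: orthogonality step in a triangulated category.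
* `subsingleton_hom_of_actsBij`: `Hom(Q Z, E) = 0` if `f` acts bijectively on the terms of `Z` and
  `Hom(A_f, E[n]) = 0` for all `n`.
* `acyclic_tensor_NB_of_torsion`: `C ⊗ A_f` is acyclic if the cohomology of `C` is `f`-power torsion.
* `subsingleton_hom_inD_homCx`: `Hom(A_f, Q Hom•(C, J)[n]) = 0` for such `C` and `J` K-injective.
-/

set_option autoImplicit false
universe u
open CategoryTheory Limits MonoidalCategory CochainComplex CochainComplex.HomComplex
open scoped TensorProduct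

namespace Groth.Agent.Lib.DerCompl

open Groth.Agent.Lib.KFlatMod Groth.Agent.Lib.HomCx Groth.Agent.Lib.RHomK DerivedCategory
  Groth.Agent.Lib.LocHom Groth.Agent.Lib.BifCone Pretriangulated
attribute [local instance] HasDerivedCategory.standard

section Tri

variable {C : Type*} [Category C] [Preadditive C] [HasZeroObject C] [HasShift C ℤ]
  [∀ n : ℤ, (CategoryTheory.shiftFunctor C n).Additive] [Pretriangulated C]

lemma eq_zero_of_shift_neg_one {X E : C} (h : ∀ a : X ⟶ E⟦(1 : ℤ)⟧, a = 0)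
    (a : X⟦(-1 : ℤ)⟧ ⟶ E) : a = 0 := by
  apply (CategoryTheory.shiftFunctor C (1 : ℤ)).map_injective
  rw [Functor.map_zero]
  have h1 := h ((shiftFunctorCompIsoId C (-1 : ℤ) 1 (by omega)).inv.app X ≫ a⟦(1 : ℤ)⟧')
  rw [← cancel_epi ((shiftFunctorCompIsoId C (-1 : ℤ) 1 (by omega)).inv.app X), h1, comp_zero]

/-- if the third vertex of a distinguished triangle is left orthogonal to `E` and `E[1]`, then
maps from the second vertex to `E` are the same as maps from the first vertex -/
theorem bijective_precomp_of_distinguished (T : Triangle C) (hT : T ∈ distTriang C) (E : C)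
    (h0 : ∀ a : T.obj₃ ⟶ E, a = 0) (h1 : ∀ a : T.obj₃ ⟶ E⟦(1 : ℤ)⟧, a = 0) :
    Function.Bijective (fun φ : T.obj₂ ⟶ E => T.mor₁ ≫ φ) := by
  constructor
  · intro φ φ' h
    have h' : T.mor₁ ≫ (φ - φ') = 0 := by
      rw [Preadditive.comp_sub]
      exact sub_eq_zero.2 h
    obtain ⟨a, ha⟩ := Triangle.yoneda_exact₂ T hT (φ - φ') h'
    rw [h0 a, comp_zero] at ha
    exact sub_eq_zero.1 ha
  · intro g
    have hg : T.invRotate.mor₁ ≫ g = 0 := eq_zero_of_shift_neg_one h1 _
    obtain ⟨φ, hφ⟩ := Triangle.yoneda_exact₂ T.invRotate (inv_rot_of_distTriang _ hT) g hg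
    exact ⟨φ, hφ.symm⟩

end Tri

variable {A : Type u} [CommRing A]

section Local

variable (f : A)

/-- the localisation `A_f` -/
local notation "Bf" => Localization.Away f

lemma bijective_pow_smul {M : Type*} [AddCommGroup M] [Module A M]
    (h : Function.Bijective (fun y : M => f • y)) (k : ℕ) :
    Function.Bijective (fun y : M => f ^ k • y) := by
  induction k with
  | zero =>
    simp only [pow_zero, one_smul]
    exact Function.bijective_id
  | succ k ih =>
    have : (fun y : M => f ^ (k + 1) • y) = (fun y : M => f ^ k • y) ∘ (fun y : M => f • y) := by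
      funext y
      simp [pow_succ, mul_smul]
    rw [this]
    exact ih.comp h

lemma isLocalizedModule_id {M : Type u} [AddCommGroup M] [Module A M]
    (h : Function.Bijective (fun y : M => f • y)) :
    IsLocalizedModule (Submonoid.powers f) (LinearMap.id : M →ₗ[A] M) where
  map_units x := by
    obtain ⟨k, hk⟩ := x.2
    rw [Module.End.isUnit_iff]
    have hb := bijective_pow_smul f h k
    have : (fun y : M => f ^ k • y) = ⇑((algebraMap A (Module.End A M)) x) := by
      funext y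
      rw [Module.algebraMap_end_apply, ← hk]
    rw [← this]
    exact hb
  surj y := ⟨(y, 1), by simp⟩
  exists_of_eq {x₁ x₂} hx := ⟨1, by simpa using hx⟩

/-- `m ↦ m ⊗ 1 : M → M ⊗ A_f` is bijective if `f` acts bijectively on `M` -/
lemma bijective_tmul_one {M : Type u} [AddCommGroup M] [Module A M]
    (h : Function.Bijective (fun y : M => f • y)) :
    Function.Bijective (fun m : M => m ⊗ₜ[A] (1 : Bf)) := by
  haveI := isLocalizedModule_id f h
  let e := IsLocalizedModule.linearEquiv (Submonoid.powers f) (LinearMap.id : M →ₗ[A] M)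
    (TensorProduct.mk A Bf M 1)
  have he : ∀ m : M, e m = (1 : Bf) ⊗ₜ[A] m := fun m =>
    IsLocalizedModule.linearEquiv_apply (Submonoid.powers f) (LinearMap.id : M →ₗ[A] M)
      (TensorProduct.mk A Bf M 1) m
  have h2 : (fun m : M => m ⊗ₜ[A] (1 : Bf)) = ⇑((e.trans (TensorProduct.comm A Bf M))) := by
    funext m
    rw [LinearEquiv.trans_apply, he, TensorProduct.comm_tmul]
  rw [h2]
  exact LinearEquiv.bijective _

/-- the natural map `M ⟶ M ⊗ A_f` -/
noncomputable def νApp (M : ModuleCat.{u} A) : M ⟶ (tensorRight (ModuleCat.of A Bf)).obj M :=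
  ModuleCat.ofHom ((TensorProduct.mk A M Bf).flip 1)

lemma νApp_naturality {M N : ModuleCat.{u} A} (g : M ⟶ N) :
    νApp f M ≫ (tensorRight (ModuleCat.of A Bf)).map g = g ≫ νApp f N := by
  refine ModuleCat.hom_ext (LinearMap.ext fun m => ?_)
  show (g ▷ ModuleCat.of A Bf).hom (m ⊗ₜ[A] (1 : Bf)) = (g.hom m) ⊗ₜ[A] (1 : Bf)
  exact ModuleCat.MonoidalCategory.whiskerRight_apply g (ModuleCat.of A Bf) m (1 : Bf)

/-- the natural map `Z ⟶ Z ⊗ A_f` termwise -/
noncomputable def νCx (Z : DRing.Cx A) :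
    Z ⟶ ((tensorRight (ModuleCat.of A Bf)).mapHomologicalComplex (ComplexShape.up ℤ)).obj Z where
  f i := νApp f (Z.X i)
  comm' i j _ := (νApp_naturality f (Z.d i j)).symm

lemma isIso_νCx (Z : DRing.Cx A) (hZ : ActsBij f Z) : IsIso (νCx f Z) := by
  haveI : ∀ i, IsIso ((νCx f Z).f i) := fun i =>
    (ConcreteCategory.isIso_iff_bijective _).2 (bijective_tmul_one f (hZ i))
  exact HomologicalComplex.Hom.isIso_of_components _

/-- `Z ⊗ A_f[0] ≅ Z` if `f` acts bijectively on the terms of `Z` -/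
noncomputable def tensorNBIso' (Z : DRing.Cx A) (hZ : ActsBij f Z) :
    Z ⊗ NB (A := A) (B := Bf) ≅ Z :=
  haveI := isIso_νCx f Z hZ
  Groth.Agent.Lib.RHomKInj.tensorSingle₀Iso Z (ModuleCat.of A Bf) ≪≫ (asIso (νCx f Z)).symm

/-- **`Hom(Q Z, E) = 0` if `f` acts bijectively on the terms of `Z` and `Hom(A_f, E[n]) = 0`
for all `n`** -/
theorem subsingleton_hom_of_actsBij (Z : DRing.Cx A) (hZ : ActsBij f Z) (E : Dual.D A)
    (h : ∀ n : ℤ, Subsingleton (Dual.inD A Bf ⟶ E⟦n⟧)) : Subsingleton (Q.obj Z ⟶ E) := by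
  obtain ⟨T, π, hπ, hTp, hT, -⟩ :=
    Groth.Agent.Lib.KProjRes.exists_kproj_resolution (NB (A := A) (B := Bf))
  haveI := hπ
  haveI := hTp
  haveI : IsIso (Q.map π) := (isIso_Q_map_iff_quasiIso (C := ModuleCat.{u} A) π).2 inferInstance
  have eT : Q.obj T ≅ Dual.inD A Bf := asIso (Q.map π) ≪≫ (singleIso (A := A) (B := Bf)).symm
  have h' : ∀ n : ℤ, Subsingleton (Q.obj T ⟶ E⟦n⟧) := fun n => by
    haveI := h n
    exact (Iso.homCongr eT (Iso.refl (E⟦n⟧))).subsingleton
  haveI : QuasiIso (Z ◁ π) :=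
    quasiIso_whiskerLeft T _ hT (kf_NB (Submonoid.powers f)) π Z
  haveI : IsIso (Q.map (Z ◁ π)) :=
    (isIso_Q_map_iff_quasiIso (C := ModuleCat.{u} A) (Z ◁ π)).2 inferInstance
  have e2 : (tenR T hT).obj (Q.obj Z) ≅ Q.obj Z :=
    (tenRIso T hT).app Z ≪≫ asIso (Q.map (Z ◁ π)) ≪≫ Q.mapIso (tensorNBIso' f Z hZ)
  haveI := subsingleton_hom_tenR T hT E h' (Q.obj Z)
  exact (Iso.homCongr e2.symm (Iso.refl E)).subsingleton

/-- `H ⊗ A_f = 0` if `H` is `f`-power torsion -/
lemma subsingleton_tensor_of_torsion (H : Type u) [AddCommGroup H] [Module A H]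
    (hH : ∀ x : H, ∃ n : ℕ, f ^ n • x = 0) : Subsingleton (H ⊗[A] Bf) := by
  refine ⟨fun a b => ?_⟩
  have key : ∀ t : H ⊗[A] Bf, t = 0 := by
    intro t
    induction t using TensorProduct.induction_on with
    | zero => rfl
    | tmul x b =>
      obtain ⟨n, hn⟩ := hH x
      have hu : IsUnit (algebraMap A Bf (f ^ n)) :=
        IsLocalization.map_units Bf (⟨f ^ n, n, rfl⟩ : Submonoid.powers f)
      obtain ⟨u, hu'⟩ := hu
      have hb : b = f ^ n • ((↑u⁻¹ : Bf) * b) := by
        rw [Algebra.smul_def, ← hu', ← mul_assoc, Units.mul_inv, one_mul]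
      rw [hb, ← TensorProduct.smul_tmul, hn, TensorProduct.zero_tmul]
    | add x y hx hy => rw [hx, hy, add_zero]
  rw [key a, key b]

/-- **`C ⊗ A_f[0]` is acyclic if the cohomology of `C` is `f`-power torsion** -/
theorem acyclic_tensor_NB_of_torsion (C : DRing.Cx A)
    (hC : ∀ (q : ℤ) (x : C.homology q), ∃ n : ℕ, f ^ n • x = 0) :
    (C ⊗ NB (A := A) (B := Bf)).Acyclic := by
  haveI : Module.Flat A Bf := IsLocalization.flat Bf (Submonoid.powers f)
  refine acyclic_of_iso (Groth.Agent.Lib.RHomKInj.tensorSingle₀Iso C (ModuleCat.of A Bf)).symm ?_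
  intro q
  rw [HomologicalComplex.exactAt_iff_isZero_homology]
  have e : (((tensorRight (ModuleCat.of A Bf)).mapHomologicalComplex (ComplexShape.up ℤ)).obj
      C).homology q ≅ (tensorRight (ModuleCat.of A Bf)).obj (C.homology q) :=
    ShortComplex.mapHomologyIso (C.sc q) (tensorRight (ModuleCat.of A Bf))
  refine IsZero.of_iso ?_ e
  have hs : Subsingleton ((C.homology q : ModuleCat.{u} A) ⊗[A] Bf) :=
    subsingleton_tensor_of_torsion f _ (hC q)
  haveI : Subsingleton ((tensorRight (ModuleCat.of A Bf)).obj (C.homology q)) := hs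
  exact ModuleCat.isZero_of_subsingleton _

/-- homotopy classes of maps `T ⟶ Hom•(C, J)[n]` vanish if `T ⊗ C` is acyclic and `J` is
K-injective -/
lemma quotient_map_eq_zero_of_acyclic_tensor (T C J : DRing.Cx A) [J.IsKInjective]
    (hTC : (T ⊗ C).Acyclic) (n : ℤ) (g : T ⟶ (DRing.homCx C J)⟦n⟧) :
    (HomotopyCategory.quotient _ (ComplexShape.up ℤ)).map g = 0 := by
  let zc : Cocycle T (DRing.homCx C J) n := Cocycle.equivHomShift g
  have hg : g = Cocycle.equivHomShift.symm zc := (Cocycle.equivHomShift.symm_apply_apply g).symm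
  have hex : (DRing.homCx (T ⊗ C) J).ExactAt n := by
    apply exactAt_homCx
    intro g'
    rw [HomotopyCategory.quotient_map_eq_zero_iff]
    exact IsKInjective.nonempty_homotopy_zero g' hTC
  rw [HomologicalComplex.exactAt_iff' _ (n - 1) n (n + 1) (by simp) (by simp),
    ShortComplex.moduleCat_exact_iff] at hex
  have hw : δ n (n + 1) (unc zc.1) = 0 := by
    rw [δ_unc, zc.δ_eq_zero (n + 1), unc_zero]
  obtain ⟨(w' : Cochain (T ⊗ C) J (n - 1)), hw'⟩ := hex (unc zc.1) hw
  have hw'' : δ (n - 1) n w' = unc zc.1 := hw'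
  have hβ : δ (n - 1) n (cur w') = zc.1 := by
    rw [δ_cur, hw'', cur_unc]
  have h0 : CohomologyClass.toHom (CohomologyClass.mk zc) = 0 :=
    (CohomologyClass.toHom_mk_eq_zero_iff zc).2
      ((mem_coboundaries_iff zc (n - 1) (by omega)).2 ⟨cur w', hβ⟩)
  rw [CohomologyClass.toHom_mk, ← hg] at h0
  exact h0

/-- **`Hom(A_f, Q Hom•(C, J)[n]) = 0`** if the cohomology of `C` is `f`-power torsion and `J` is
K-injective -/
theorem subsingleton_hom_inD_homCx (C J : DRing.Cx A) [J.IsKInjective]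
    (hC : ∀ (q : ℤ) (x : C.homology q), ∃ n : ℕ, f ^ n • x = 0) (n : ℤ) :
    Subsingleton (Dual.inD A Bf ⟶ (Q.obj (DRing.homCx C J))⟦n⟧) := by
  obtain ⟨T, π, hπ, hTp, hT, -⟩ :=
    Groth.Agent.Lib.KProjRes.exists_kproj_resolution (NB (A := A) (B := Bf))
  haveI := hπ
  haveI := hTp
  haveI : IsIso (Q.map π) := (isIso_Q_map_iff_quasiIso (C := ModuleCat.{u} A) π).2 inferInstance
  have eT : Q.obj T ≅ Dual.inD A Bf := asIso (Q.map π) ≪≫ (singleIso (A := A) (B := Bf)).symm
  haveI : QuasiIso (C ◁ π) :=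
    quasiIso_whiskerLeft T _ hT (kf_NB (Submonoid.powers f)) π C
  have hCT : (C ⊗ T).Acyclic := fun i =>
    (exactAt_iff_of_quasiIsoAt (C ◁ π) i).2
      (acyclic_tensor_NB_of_torsion f C hC i)
  have hTC : (T ⊗ C).Acyclic :=
    acyclic_of_iso (Groth.Agent.Lib.KFlatGen.tensorCxSymm (Groth.Agent.Lib.DRingLT.σ A) C T) hCT
  have e' : Q.obj ((DRing.homCx C J)⟦n⟧) ≅ (Q.obj (DRing.homCx C J))⟦n⟧ :=
    (Q.commShiftIso n).app (DRing.homCx C J)
  have hsub : Subsingleton (Q.obj T ⟶ Q.obj ((DRing.homCx C J)⟦n⟧)) := by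
    refine ⟨fun a b => ?_⟩
    have key : ∀ a : Q.obj T ⟶ Q.obj ((DRing.homCx C J)⟦n⟧), a = 0 := by
      intro a
      obtain ⟨g, rfl⟩ := Groth.Agent.PerfectCx.exists_Q_map_eq T _ a
      have hg := quotient_map_eq_zero_of_acyclic_tensor T C J hTC n g
      show Qh.map ((HomotopyCategory.quotient _ (ComplexShape.up ℤ)).map g) = 0
      rw [hg, Functor.map_zero]
    rw [key a, key b]
  haveI := hsub
  exact (Iso.homCongr eT.symm e'.symm).subsingleton

end Local

end Groth.Agent.Lib.DerCompl
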