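import Mathlib
import Groth.Prelude.Def_DRing3
import Groth.Prelude.Def_DRing4
import Groth.Prelude.Def_DerCA
import Groth.Agent.Lib.DerCompl2_helper2
import Groth.Agent.Lib.ExtCech2_helper7

/-!
# Derived completion is `RHom(Č, -)` for the extended Cech complex `Č` (helper2)

* `exists_completion`: for a list `fs` and `K ∈ D(A)`, with `J` a K-injective complex representing
  `K`, the object `Q Hom•(Č, J)` is derived complete with respect to `span fs` and receives a
  universal morphism from `K`.
* `hasDerivedCompletion`: derived completion exists for finitely generated ideals.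
* `nonempty_iso_of_universal`: uniqueness of universal arrows.
-/

set_option autoImplicit false
universe u
open CategoryTheory Limits MonoidalCategory CochainComplex CochainComplex.HomComplex

namespace Groth.Agent.Lib.DerCompl

open Groth.Agent.Lib.KFlatMod Groth.Agent.Lib.HomCx DerivedCategory Pretriangulated
attribute [local instance] HasDerivedCategory.standard

variable {A : Type u} [CommRing A]

/-- one step: adding an element `f` to the list -/
theorem bijective_precomp_cocone (f : A) (X J : DRing.Cx A) (E : Dual.D A)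
    (h : ∀ n : ℤ, Subsingleton (Dual.inD A (Localization.Away f) ⟶ E⟦n⟧)) :
    Function.Bijective
      (fun a : Q.obj (DRing.homCx
          (mappingCocone (DerCA.locCxUnit (Submonoid.powers f) X)) J) ⟶ E =>
        Q.map (homCxPre (mappingCocone.fst (DerCA.locCxUnit (Submonoid.powers f) X)) J) ≫ a) := by
  let φ := DerCA.locCxUnit (Submonoid.powers f) X
  have hS := sesCocone_shortExact φ J
  have hT := DerivedCategory.triangleOfSES_distinguished hS
  have hY : ActsBij f (homSh ((DerCA.locCx (Submonoid.powers f)).obj X) J) :=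
    actsBij_homSh f _ J (actsBij_locCx f X)
  have h0 : ∀ a : (DerivedCategory.triangleOfSES hS).obj₃ ⟶ E, a = 0 := by
    intro a
    have hs : Subsingleton (Q.obj (homSh ((DerCA.locCx (Submonoid.powers f)).obj X) J) ⟶ E) :=
      subsingleton_hom_of_actsBij f _ hY E h
    exact @Subsingleton.elim _ hs a 0
  have h1 : ∀ a : (DerivedCategory.triangleOfSES hS).obj₃ ⟶ E⟦(1 : ℤ)⟧, a = 0 := by
    intro a
    have h' : ∀ n : ℤ, Subsingleton (Dual.inD A (Localization.Away f) ⟶ (E⟦(1 : ℤ)⟧)⟦n⟧) := by
      intro n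
      haveI := h (1 + n)
      exact (Iso.homCongr (Iso.refl _)
        ((CategoryTheory.shiftFunctorAdd' (Dual.D A) (1 : ℤ) n (1 + n) rfl).app E).symm).subsingleton
    have hs : Subsingleton (Q.obj (homSh ((DerCA.locCx (Submonoid.powers f)).obj X) J) ⟶
        E⟦(1 : ℤ)⟧) := subsingleton_hom_of_actsBij f _ hY (E⟦(1 : ℤ)⟧) h'
    exact @Subsingleton.elim _ hs a 0
  exact bijective_precomp_of_distinguished _ hT E h0 h1

/-- the projection of the extended Cech complex onto its degree `0` part `M[0]` -/
noncomputable def cechπ (M : ModuleCat.{u} A) :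
    (fs : List A) → (DerCA.extCech M fs ⟶ DerCA.extCech M [])
  | [] => 𝟙 _
  | f :: fs =>
    (mappingCocone.fst (DerCA.locCxUnit (Submonoid.powers f) (DerCA.extCech M fs)) :
      DerCA.extCech M (f :: fs) ⟶ DerCA.extCech M fs) ≫ cechπ M fs

theorem bijective_precomp_cech (M : ModuleCat.{u} A) (J : DRing.Cx A) (E : Dual.D A) :
    ∀ (fs : List A),
      (∀ f ∈ fs, ∀ n : ℤ, Subsingleton (Dual.inD A (Localization.Away f) ⟶ E⟦n⟧)) →
      Function.Bijective (fun a : Q.obj (DRing.homCx (DerCA.extCech M fs) J) ⟶ E =>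
        Q.map (homCxPre (cechπ M fs) J) ≫ a)
  | [] => fun _ => by
    have : (fun a : Q.obj (DRing.homCx (DerCA.extCech M []) J) ⟶ E =>
        Q.map (homCxPre (cechπ M []) J) ≫ a) = id := by
      funext a
      show Q.map (homCxPre (𝟙 _) J) ≫ a = a
      rw [Groth.Agent.Lib.RHomKInj.homCxPre_id, CategoryTheory.Functor.map_id, Category.id_comp]
    rw [this]
    exact Function.bijective_id
  | f :: fs => fun h => by
    have ih := bijective_precomp_cech M J E fs (fun g hg => h g (List.mem_cons_of_mem f hg))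
    have hstep := bijective_precomp_cocone f (DerCA.extCech M fs) J E (h f (List.mem_cons_self))
    have : (fun a : Q.obj (DRing.homCx (DerCA.extCech M (f :: fs)) J) ⟶ E =>
        Q.map (homCxPre (cechπ M (f :: fs)) J) ≫ a) =
        (fun a : Q.obj (DRing.homCx (DerCA.extCech M fs) J) ⟶ E =>
          Q.map (homCxPre (cechπ M fs) J) ≫ a) ∘
        (fun a : Q.obj (DRing.homCx
          (mappingCocone (DerCA.locCxUnit (Submonoid.powers f) (DerCA.extCech M fs))) J) ⟶ E =>
        Q.map (homCxPre (mappingCocone.fst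
          (DerCA.locCxUnit (Submonoid.powers f) (DerCA.extCech M fs))) J) ≫ a) := by
      funext a
      show Q.map (homCxPre (mappingCocone.fst
          (DerCA.locCxUnit (Submonoid.powers f) (DerCA.extCech M fs)) ≫ cechπ M fs) J) ≫ a = _
      rw [Groth.Agent.Lib.RHomKInj.homCxPre_comp, Functor.map_comp, Category.assoc]
      rfl
    rw [this]
    exact ih.comp hstep

/-- the cohomology of the extended Cech complex is `f`-power torsion for `f` in the ideal -/
lemma torsion_of_mem_span (fs : List A) (M : ModuleCat.{u} A) (f : A)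
    (hf : f ∈ Ideal.span {x : A | x ∈ fs}) (q : ℤ) (x : DerCA.extCechH fs M q) :
    ∃ n : ℕ, f ^ n • x = 0 := by
  have hle : Ideal.span {x : A | x ∈ fs} ≤ (Ideal.torsionOf A _ x).radical := by
    rw [Ideal.span_le]
    intro g hg
    obtain ⟨n, hn⟩ := Groth.Agent.Lib.ExtCechH7.torsion_all fs M g hg q x
    exact ⟨n, (Ideal.mem_torsionOf_iff x _).2 hn⟩
  obtain ⟨n, hn⟩ := hle hf
  exact ⟨n, (Ideal.mem_torsionOf_iff x _).1 hn⟩

/-- **the derived completion of `K`**: `Q Hom•(Č, J)` for a K-injective representative `J` -/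
theorem exists_completion (fs : List A) (K : Dual.D A) :
    ∃ (J : DRing.Cx A) (_ : J.IsKInjective) (_ : K ≅ Q.obj J)
      (u : K ⟶ Q.obj (DRing.homCx (DerCA.extCech (ModuleCat.of A A) fs) J)),
      DRing.IsDerivedComplete (Ideal.span {x : A | x ∈ fs})
        (Q.obj (DRing.homCx (DerCA.extCech (ModuleCat.of A A) fs) J)) ∧
      ∀ E : Dual.D A, DRing.IsDerivedComplete (Ideal.span {x : A | x ∈ fs}) E →
        Function.Bijective
          (fun a : Q.obj (DRing.homCx (DerCA.extCech (ModuleCat.of A A) fs) J) ⟶ E => u ≫ a) := by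
  obtain ⟨J, hJ, ⟨e⟩⟩ := Groth.Agent.Lib.RHomKInj.exists_kinj_iso K
  haveI := hJ
  let e0 : J ≅ DRing.homCx (DerCA.extCech (ModuleCat.of A A) []) J := (ev1Iso J).symm
  refine ⟨J, hJ, e, e.hom ≫ Q.map e0.hom ≫
    Q.map (homCxPre (cechπ (ModuleCat.of A A) fs) J), ?_, ?_⟩
  · intro f hf n
    exact subsingleton_hom_inD_homCx f _ J
      (fun q x => torsion_of_mem_span fs (ModuleCat.of A A) f hf q x) n
  · intro E hE
    have hb := bijective_precomp_cech (ModuleCat.of A A) J E fs
      (fun f hf n => hE f (Ideal.subset_span hf) n)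
    have hiso : Function.Bijective
        (fun a : Q.obj (DRing.homCx (DerCA.extCech (ModuleCat.of A A) []) J) ⟶ E =>
          (e.hom ≫ Q.map e0.hom) ≫ a) := by
      have : IsIso (e.hom ≫ Q.map e0.hom) := inferInstance
      constructor
      · intro a b hab
        exact (cancel_epi _).1 hab
      · intro g
        exact ⟨inv (e.hom ≫ Q.map e0.hom) ≫ g, by simp⟩
    have := hiso.comp hb
    convert this using 2
    simp [Category.assoc]

/-- uniqueness of universal arrows to a reflective-type full subcategory -/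
theorem nonempty_iso_of_universal {C : Type*} [Category C] (P : ObjectProperty C)
    {L : C ⥤ P.FullSubcategory} (adj : L ⊣ P.ι) (K X : C) (hX : P X) (u : K ⟶ X)
    (hu : ∀ E : C, P E → Function.Bijective (fun a : X ⟶ E => u ≫ a)) :
    Nonempty ((L.obj K).obj ≅ X) := by
  let η : K ⟶ (L.obj K).obj := adj.unit.app K
  obtain ⟨a, ha⟩ := (hu (L.obj K).obj (L.obj K).property).2 η
  have ha' : u ≫ a = η := ha
  let b' : L.obj K ⟶ ⟨X, hX⟩ := (adj.homEquiv K ⟨X, hX⟩).symm u
  have hb' : η ≫ b'.hom = u := by
    have := (adj.homEquiv K ⟨X, hX⟩).apply_symm_apply u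
    rw [Adjunction.homEquiv_unit] at this
    exact this
  refine ⟨⟨b'.hom, a, ?_, ?_⟩⟩
  · have hc : η ≫ (b' ≫ ObjectProperty.homMk a : L.obj K ⟶ L.obj K).hom = η := by
      show η ≫ b'.hom ≫ a = η
      rw [← Category.assoc, hb', ha']
    have h1 : (adj.homEquiv K (L.obj K)) (b' ≫ ObjectProperty.homMk a) =
        (adj.homEquiv K (L.obj K)) (𝟙 _) := by
      rw [Adjunction.homEquiv_unit, Adjunction.homEquiv_unit]
      show η ≫ (b' ≫ ObjectProperty.homMk a).hom = η ≫ 𝟙 _
      rw [hc, Category.comp_id]
    have h2 := (adj.homEquiv K (L.obj K)).injective h1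
    exact congrArg (fun t => t.hom) h2
  · apply (hu X hX).1
    show u ≫ a ≫ b'.hom = u ≫ 𝟙 X
    rw [← Category.assoc, ha', hb', Category.comp_id]

/-- **derived completion exists for ideals generated by a finite list** -/
theorem hasDerivedCompletion_span (fs : List A) :
    DRing.HasDerivedCompletion (Ideal.span {x : A | x ∈ fs}) := by
  apply Functor.isRightAdjoint_of_leftAdjointObjIsDefined_eq_top
  refine eq_top_iff.2 (fun K _ => ?_)
  obtain ⟨J, hJ, e, u, hdc, huniv⟩ := exists_completion fs K
  rw [Functor.leftAdjointObjIsDefined_iff]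
  let X : (DRing.IsDerivedComplete (Ideal.span {x : A | x ∈ fs})).FullSubcategory :=
    ⟨Q.obj (DRing.homCx (DerCA.extCech (ModuleCat.of A A) fs) J), hdc⟩
  refine Functor.CorepresentableBy.isCorepresentable (X := X)
    { homEquiv := fun {E} => Equiv.ofBijective (fun a : X ⟶ E => u ≫ a.hom) ?_
      homEquiv_comp := ?_ }
  · have hb := huniv E.obj E.property
    constructor
    · intro a b hab
      exact ObjectProperty.hom_ext _ (hb.1 hab)
    · intro g
      obtain ⟨a, ha⟩ := hb.2 g
      exact ⟨ObjectProperty.homMk a, ha⟩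
  · intro E E' g a
    show u ≫ (a ≫ g).hom = (u ≫ a.hom) ≫ g.hom
    rw [ObjectProperty.FullSubcategory.comp_hom, Category.assoc]

end Groth.Agent.Lib.DerCompl
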