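import Mathlib
import Groth.Prelude.Def_DRing4
import Groth.Agent.Lib.HomCx2_helper2
import Groth.Agent.Lib.RHomKInj_helper2
import Groth.Agent.Lib.PerfectCx_helper2

/-!
# `Hom•(-, J)` sends quasi-isomorphisms to quasi-isomorphisms for `J` K-injective (helper2)

* `mono_homologyMap_of_elementwise`, `epi_homologyMap_of_elementwise`: elementwise criteria for
  complexes of modules.
* `bijective_precomp_of_quasiIso`: precomposition with a quasi-isomorphism is bijective on homotopy
  classes of maps to a K-injective complex.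
* `quasiIso_homCxPre`.
* `nonempty_RHomCx_iso_of_kproj`: `RHom(E, Q X) ≅ Q Hom•(P, X)` for `P` K-projective with `Q P ≅ Q E`.
-/

set_option autoImplicit false
universe u
open CategoryTheory Limits CochainComplex CochainComplex.HomComplex

namespace Groth.Agent.Lib.HomCxPreQis

open Groth.Agent.Lib.HomCx DerivedCategory
attribute [local instance] HasDerivedCategory.standard

section Bridge

variable {R : Type u} [Ring R] {K L : CochainComplex (ModuleCat.{u} R) ℤ} (φ : K ⟶ L)

lemma mono_homologyMap_of_elementwise (j : ℤ)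
    (H : ∀ (x : K.X j), K.d j (j + 1) x = 0 → ∀ (y : L.X (j - 1)), φ.f j x = L.d (j - 1) j y →
      ∃ x₁ : K.X (j - 1), K.d (j - 1) j x₁ = x) :
    Mono (HomologicalComplex.homologyMap φ j) := by
  rw [HomologicalComplex.mono_homologyMap_iff_up_to_refinements φ (j - 1) j (j + 1) (by simp)
    (by simp)]
  intro M x₂ hx₂ y₁ hy₁
  have H' : ∀ m : M, ∃ x₁ : K.X (j - 1), K.d (j - 1) j x₁ = x₂ m := by
    intro m
    refine H (x₂ m) ?_ (y₁ m) ?_
    · simpa using ConcreteCategory.congr_hom hx₂ m
    · simpa using ConcreteCategory.congr_hom hy₁ m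
  choose s hs using H'
  refine ⟨ModuleCat.of R (M →₀ R), ModuleCat.ofHom (Finsupp.linearCombination R (id : M → M)), ?_,
    ModuleCat.ofHom (Finsupp.linearCombination R s), ?_⟩
  · rw [ModuleCat.epi_iff_surjective]
    intro m
    exact ⟨Finsupp.single m 1, by simp⟩
  · refine ModuleCat.hom_ext (Finsupp.lhom_ext' fun m => LinearMap.ext_ring ?_)
    simp [hs]

lemma epi_homologyMap_of_elementwise (j : ℤ)
    (H : ∀ (y : L.X j), L.d j (j + 1) y = 0 → ∃ (x : K.X j), K.d j (j + 1) x = 0 ∧
      ∃ y₁ : L.X (j - 1), y = φ.f j x + L.d (j - 1) j y₁) :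
    Epi (HomologicalComplex.homologyMap φ j) := by
  rw [HomologicalComplex.epi_homologyMap_iff_up_to_refinements φ (j - 1) j (j + 1) (by simp)
    (by simp)]
  intro M y₂ hy₂
  have H' : ∀ m : M, ∃ (x : K.X j), K.d j (j + 1) x = 0 ∧
      ∃ y₁ : L.X (j - 1), y₂ m = φ.f j x + L.d (j - 1) j y₁ := fun m =>
    H (y₂ m) (by simpa using ConcreteCategory.congr_hom hy₂ m)
  choose s hs t ht using H'
  refine ⟨ModuleCat.of R (M →₀ R), ModuleCat.ofHom (Finsupp.linearCombination R (id : M → M)), ?_,
    ModuleCat.ofHom (Finsupp.linearCombination R s), ?_,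
    ModuleCat.ofHom (Finsupp.linearCombination R t), ?_⟩
  · rw [ModuleCat.epi_iff_surjective]
    intro m
    exact ⟨Finsupp.single m 1, by simp⟩
  · refine ModuleCat.hom_ext (Finsupp.lhom_ext' fun m => LinearMap.ext_ring ?_)
    simp [hs]
  · refine ModuleCat.hom_ext (Finsupp.lhom_ext' fun m => LinearMap.ext_ring ?_)
    simp [ht]

end Bridge

section Precomp

variable {C : Type*} [Category C] [Abelian C] [HasDerivedCategory C]

/-- precomposition with a quasi-isomorphism is bijective on homotopy classes of maps to a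
K-injective complex -/
lemma bijective_precomp_of_quasiIso {P E : CochainComplex C ℤ} (φ : P ⟶ E) [QuasiIso φ]
    (L : CochainComplex C ℤ) [L.IsKInjective] :
    Function.Bijective (fun g : (HomotopyCategory.quotient C (ComplexShape.up ℤ)).obj E ⟶
        (HomotopyCategory.quotient C (ComplexShape.up ℤ)).obj L =>
      (HomotopyCategory.quotient C (ComplexShape.up ℤ)).map φ ≫ g) := by
  haveI hiso : IsIso (Qh.map ((HomotopyCategory.quotient C (ComplexShape.up ℤ)).map φ)) :=
    (NatIso.isIso_map_iff (quotientCompQhIso C) φ).2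
      ((isIso_Q_map_iff_quasiIso (C := C) φ).2 inferInstance)
  constructor
  · intro g g' h
    apply (IsKInjective.Qh_map_bijective _ L).injective
    have h' := congrArg (fun t => Qh.map t) h
    simp only [Functor.map_comp] at h'
    exact (cancel_epi _).1 h'
  · intro f
    obtain ⟨g, hg⟩ := (IsKInjective.Qh_map_bijective _ L).surjective
      (inv (Qh.map ((HomotopyCategory.quotient C (ComplexShape.up ℤ)).map φ)) ≫ Qh.map f)
    refine ⟨g, (IsKInjective.Qh_map_bijective _ L).injective ?_⟩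
    show Qh.map (_ ≫ g) = _
    rw [Functor.map_comp, hg, IsIso.hom_inv_id_assoc]

end Precomp

variable {A : Type u} [CommRing A]

lemma toHom_precomp {P E J : DRing.Cx A} (φ : P ⟶ E) {n : ℤ} (z : Cocycle E J n) :
    CohomologyClass.toHom (CohomologyClass.mk (z.precomp φ)) =
      (HomotopyCategory.quotient _ _).map φ ≫ CohomologyClass.toHom (CohomologyClass.mk z) := by
  rw [CohomologyClass.toHom_mk, CohomologyClass.toHom_mk, Cocycle.equivHomShift_symm_precomp,
    Functor.map_comp]

/-- **`Hom•(φ, J)` is a quasi-isomorphism for `φ` a quasi-isomorphism and `J` K-injective** -/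
theorem quasiIso_homCxPre {P E : DRing.Cx A} (φ : P ⟶ E) [QuasiIso φ] (J : DRing.Cx A)
    [J.IsKInjective] : QuasiIso (homCxPre φ J) := by
  rw [quasiIso_iff]
  intro n
  rw [quasiIsoAt_iff_isIso_homologyMap]
  haveI : Mono (HomologicalComplex.homologyMap (homCxPre φ J) n) := by
    apply mono_homologyMap_of_elementwise
    intro (z : Cochain E J n) hz (y : Cochain P J (n - 1)) hy
    have hz' : δ n (n + 1) z = 0 := hz
    have hy' : (Cochain.ofHom φ).comp z (zero_add n) = δ (n - 1) n y := hy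
    let zc : Cocycle E J n := Cocycle.mk z (n + 1) rfl hz'
    have h1 : zc.precomp φ ∈ coboundaries P J n :=
      (mem_coboundaries_iff _ (n - 1) (by omega)).2 ⟨y, hy'.symm⟩
    have h2 : CohomologyClass.toHom (CohomologyClass.mk (zc.precomp φ)) = 0 :=
      (CohomologyClass.toHom_mk_eq_zero_iff _).2 h1
    rw [toHom_precomp] at h2
    have h3 : CohomologyClass.toHom (CohomologyClass.mk zc) = 0 :=
      (bijective_precomp_of_quasiIso φ (J⟦n⟧)).1 (by
        show _ ≫ _ = _ ≫ 0
        rw [h2, comp_zero])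
    rw [CohomologyClass.toHom_mk_eq_zero_iff, mem_coboundaries_iff zc (n - 1) (by omega)] at h3
    obtain ⟨β, hβ⟩ := h3
    exact ⟨β, hβ⟩
  haveI : Epi (HomologicalComplex.homologyMap (homCxPre φ J) n) := by
    apply epi_homologyMap_of_elementwise
    intro (w : Cochain P J n) hw
    have hw' : δ n (n + 1) w = 0 := hw
    let wc : Cocycle P J n := Cocycle.mk w (n + 1) rfl hw'
    obtain ⟨g, hg⟩ := (bijective_precomp_of_quasiIso φ (J⟦n⟧)).2
      (CohomologyClass.toHom (CohomologyClass.mk wc))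
    obtain ⟨c, hc⟩ := (CohomologyClass.toHom_bijective E J n).2 g
    obtain ⟨zc, rfl⟩ := c.mk_surjective
    have h0 : CohomologyClass.toHom (CohomologyClass.mk (wc - zc.precomp φ)) = 0 := by
      rw [CohomologyClass.mk_sub, map_sub, toHom_precomp, hc]
      exact sub_eq_zero.2 hg.symm
    rw [CohomologyClass.toHom_mk_eq_zero_iff, mem_coboundaries_iff _ (n - 1) (by omega)] at h0
    obtain ⟨y, hy⟩ := h0
    refine ⟨zc.1, zc.δ_eq_zero (n + 1), y, ?_⟩
    show w = (Cochain.ofHom φ).comp zc.1 (zero_add n) + δ (n - 1) n y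
    rw [hy]
    show w = _ + (w - (Cochain.ofHom φ).comp zc.1 (zero_add n))
    abel
  exact isIso_of_mono_of_epi _

/-- `RHom(E, Q X) ≅ Q Hom•(P, X)` for `P` K-projective with `Q P ≅ Q E` -/
theorem nonempty_RHomCx_iso_of_kproj (E P X : DRing.Cx A) [DRing.HasRHomCx E] [P.IsKProjective]
    (e : Q.obj P ≅ Q.obj E) :
    Nonempty ((DRing.RHomCx E).obj (Q.obj X) ≅ Q.obj (DRing.homCx P X)) := by
  obtain ⟨φ, hφ, -⟩ := Groth.Agent.PerfectCx.exists_quasiIso_of_iso P E e
  obtain ⟨J, a, hJ, ha⟩ := Groth.Agent.Lib.KInjRes.exists_kinj_resolution X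
  haveI := hφ
  haveI := hJ
  haveI := ha
  obtain ⟨e1⟩ := Groth.Agent.Lib.RHomKInj.nonempty_RHomCx_iso_of_resolution E a
  haveI := quasiIso_homCxPre φ J
  haveI := Groth.Agent.Lib.RHomK.quasiIso_homCxMap P a
  haveI : IsIso (Q.map (homCxPre φ J)) :=
    (isIso_Q_map_iff_quasiIso (C := ModuleCat.{u} A) (homCxPre φ J)).2 inferInstance
  haveI : IsIso (Q.map ((DRing.homCxFunctor P).map a)) :=
    (isIso_Q_map_iff_quasiIso (C := ModuleCat.{u} A) ((DRing.homCxFunctor P).map a)).2 inferInstance
  have e2 : Q.obj (DRing.homCx E J) ≅ Q.obj (DRing.homCx P J) := asIso (Q.map (homCxPre φ J))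
  have e3 : Q.obj ((DRing.homCxFunctor P).obj X) ≅ Q.obj ((DRing.homCxFunctor P).obj J) :=
    asIso (Q.map ((DRing.homCxFunctor P).map a))
  exact ⟨e1 ≪≫ e2 ≪≫ e3.symm⟩

end Groth.Agent.Lib.HomCxPreQis
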