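import Mathlib
import Groth.Prelude.Def_DRing3
import Groth.Prelude.Def_DRing4
import Groth.Prelude.Def_DerCA
import Groth.Agent.Lib.DerCompl3_helper2
import Groth.Agent.Lib.HomCxPreQis_helper2

/-!
# Derived completion commutes with `RHom(K, -)` (helper2)

* `u₀ P ε X : X ⟶ Hom•(P, X)` for `ε : P ⟶ A[0]`, natural in `X`.
* for a K-projective resolution `p : P ⟶ Č` of the extended Cech complex: `Q Hom•(P, X)` is derived
  complete and `Q (u₀ X)` is universal, for every complex `X` (`bijective_precomp_u₀`,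
  `isDerivedComplete_homCx_P`).
* `swapIso`: `Hom•(P, Hom•(K, M)) ≅ Hom•(K, Hom•(P, M))`, natural in `M`.
* `completion_RHom`: `RHom(K, L^)` is the derived completion of `RHom(K, L)`.
-/

set_option autoImplicit false
universe u
open CategoryTheory Limits MonoidalCategory CochainComplex CochainComplex.HomComplex

namespace Groth.Agent.Lib.DerCompl

open Groth.Agent.Lib.KFlatMod Groth.Agent.Lib.HomCx DerivedCategory Groth.Agent.Lib.DualCx
  Groth.Agent.Lib.RHomKInj
attribute [local instance] HasDerivedCategory.standard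

variable {A : Type u} [CommRing A]

section Nat

lemma ev1Iso_hom_naturality {X Y : DRing.Cx A} (g : X ⟶ Y) :
    DRing.homCxMap (S0 A) g ≫ (ev1Iso Y).hom = (ev1Iso X).hom ≫ g := by
  refine HomologicalComplex.hom_ext _ _ fun n => ModuleCat.hom_ext
    (LinearMap.ext fun (α : Cochain (S0 A) X n) => ?_)
  show ((i0 A).inv ≫ (α.comp (Cochain.ofHom g) (add_zero n)).v 0 n (zero_add n)).hom (1 : A) =
    (g.f n).hom (((i0 A).inv ≫ α.v 0 n (zero_add n)).hom (1 : A))
  rw [Cochain.comp_zero_cochain_v, Cochain.ofHom_v, ← Category.assoc]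
  rfl

lemma ev1Iso_inv_naturality {X Y : DRing.Cx A} (g : X ⟶ Y) :
    (ev1Iso X).inv ≫ DRing.homCxMap (S0 A) g = g ≫ (ev1Iso Y).inv := by
  rw [Iso.inv_comp_eq, ← Category.assoc, Iso.eq_comp_inv, ev1Iso_hom_naturality]

lemma homCxPre_naturality {L L' : DRing.Cx A} (f : L' ⟶ L) {M M' : DRing.Cx A} (g : M ⟶ M') :
    homCxPre f M ≫ DRing.homCxMap L' g = DRing.homCxMap L g ≫ homCxPre f M' := by
  refine HomologicalComplex.hom_ext _ _ fun n => ModuleCat.hom_ext
    (LinearMap.ext fun (z : Cochain L M n) => ?_)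
  show ((Cochain.ofHom f).comp z (zero_add n)).comp (Cochain.ofHom g) (add_zero n) =
    (Cochain.ofHom f).comp (z.comp (Cochain.ofHom g) (add_zero n)) (zero_add n)
  exact Cochain.comp_assoc_of_first_is_zero_cochain _ _ _ _

variable (P : DRing.Cx A) (ε : P ⟶ S0 A)

/-- the unit `X ⟶ Hom•(P, X)` induced by `ε : P ⟶ A[0]` -/
noncomputable def u₀ (X : DRing.Cx A) : X ⟶ DRing.homCx P X :=
  (ev1Iso X).inv ≫ homCxPre ε X

lemma u₀_naturality {X Y : DRing.Cx A} (g : X ⟶ Y) :
    u₀ P ε X ≫ DRing.homCxMap P g = g ≫ u₀ P ε Y := by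
  unfold u₀
  rw [Category.assoc, homCxPre_naturality, ← Category.assoc, ev1Iso_inv_naturality,
    Category.assoc]

end Nat

section Swap

variable (P K : DRing.Cx A)

lemma homHomIso_naturality (K L : DRing.Cx A) {M M' : DRing.Cx A} (g : M ⟶ M') :
    DRing.homCxMap K (DRing.homCxMap L g) ≫ (homHomIso K L M').hom =
      (homHomIso K L M).hom ≫ DRing.homCxMap (K ⊗ L) g := by
  refine HomologicalComplex.hom_ext _ _ fun n => ModuleCat.hom_ext
    (LinearMap.ext fun (z : Cochain K (DRing.homCx L M) n) => ?_)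
  show unc (z.comp (Cochain.ofHom (DRing.homCxMap L g)) (add_zero n)) =
    (unc z).comp (Cochain.ofHom g) (add_zero n)
  exact unc_comp_ofHom z g

/-- `Hom•(P, Hom•(K, M)) ≅ Hom•(K, Hom•(P, M))` -/
noncomputable def swapIso (M : DRing.Cx A) :
    DRing.homCx P (DRing.homCx K M) ≅ DRing.homCx K (DRing.homCx P M) :=
  homHomIso P K M ≪≫
    homCxPreIso (Groth.Agent.Lib.KFlatGen.tensorCxSymm (Groth.Agent.Lib.DRingLT.σ A) K P) M ≪≫
    (homHomIso K P M).symm

lemma swapIso_naturality {M M' : DRing.Cx A} (g : M ⟶ M') :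
    DRing.homCxMap P (DRing.homCxMap K g) ≫ (swapIso P K M').hom =
      (swapIso P K M).hom ≫ DRing.homCxMap K (DRing.homCxMap P g) := by
  have h3 : DRing.homCxMap (K ⊗ P) g ≫ (homHomIso K P M').inv =
      (homHomIso K P M).inv ≫ DRing.homCxMap K (DRing.homCxMap P g) := by
    rw [Iso.comp_inv_eq, Category.assoc, homHomIso_naturality, Iso.inv_hom_id_assoc]
  dsimp only [swapIso, Iso.trans_hom, Iso.symm_hom, homCxPreIso]
  simp only [Category.assoc]
  rw [← Category.assoc (DRing.homCxMap P (DRing.homCxMap K g)), homHomIso_naturality,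
    Category.assoc, ← Category.assoc (DRing.homCxMap (P ⊗ K) g), ← homCxPre_naturality,
    Category.assoc]
  erw [h3]

end Swap

section Compl

variable (fs : List A) (P : DRing.Cx A) (p : P ⟶ DerCA.extCech (ModuleCat.of A A) fs)
  [QuasiIso p] [P.IsKProjective]

/-- the augmentation `P ⟶ Č ⟶ A[0]` -/
noncomputable abbrev εP : P ⟶ S0 A := p ≫ cechπ (ModuleCat.of A A) fs

/-- `Q (u₀ X)` is universal among maps to derived complete objects, for every complex `X` -/
theorem bijective_precomp_u₀ (X : DRing.Cx A) (E : Dual.D A)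
    (hE : DRing.IsDerivedComplete (Ideal.span {x : A | x ∈ fs}) E) :
    Function.Bijective (fun a : Q.obj (DRing.homCx P X) ⟶ E =>
      Q.map (u₀ P (εP fs P p) X) ≫ a) := by
  obtain ⟨J, a, hJ, ha⟩ := Groth.Agent.Lib.KInjRes.exists_kinj_resolution X
  haveI := hJ
  haveI := ha
  let πJ : DRing.homCx (S0 A) J ⟶ DRing.homCx (DerCA.extCech (ModuleCat.of A A) fs) J :=
    homCxPre (cechπ (ModuleCat.of A A) fs) J
  have hb1 : Function.Bijective
      (fun a' : Q.obj (DRing.homCx (DerCA.extCech (ModuleCat.of A A) fs) J) ⟶ E =>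
        Q.map πJ ≫ a') :=
    bijective_precomp_cech (ModuleCat.of A A) J E fs
      (fun f hf n => hE f (Ideal.subset_span hf) n)
  haveI := Groth.Agent.Lib.HomCxPreQis.quasiIso_homCxPre p J
  haveI : IsIso (Q.map (homCxPre p J)) :=
    (isIso_Q_map_iff_quasiIso (C := ModuleCat.{u} A) (homCxPre p J)).2 inferInstance
  haveI hq2 : QuasiIso (DRing.homCxMap P a) := Groth.Agent.Lib.RHomK.quasiIso_homCxMap P a
  haveI : IsIso (Q.map (DRing.homCxMap P a)) :=
    (isIso_Q_map_iff_quasiIso (C := ModuleCat.{u} A) (DRing.homCxMap P a)).2 inferInstance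
  haveI : IsIso (Q.map a) := (isIso_Q_map_iff_quasiIso (C := ModuleCat.{u} A) a).2 inferInstance
  have key : Q.map (u₀ P (εP fs P p) X) ≫ Q.map (DRing.homCxMap P a) =
      Q.map a ≫ Q.map (ev1Iso J).inv ≫
        Q.map πJ ≫ Q.map (homCxPre p J) := by
    rw [← Q.map_comp, u₀_naturality, ← Q.map_comp, ← Q.map_comp, ← Q.map_comp]
    congr 2
    unfold u₀
    rw [homCxPre_comp]
    rfl
  constructor
  · intro a₁ a₂ h
    have h' : Q.map (u₀ P (εP fs P p) X) ≫ a₁ = Q.map (u₀ P (εP fs P p) X) ≫ a₂ := h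
    have e1 : ∀ t : Q.obj (DRing.homCx P X) ⟶ E,
        Q.map (u₀ P (εP fs P p) X) ≫ t =
          Q.map a ≫ Q.map (ev1Iso J).inv ≫
            Q.map πJ ≫ Q.map (homCxPre p J) ≫
              inv (Q.map (DRing.homCxMap P a)) ≫ t := by
      intro t
      have : t = Q.map (DRing.homCxMap P a) ≫ inv (Q.map (DRing.homCxMap P a)) ≫ t := by
        rw [IsIso.hom_inv_id_assoc]
      conv_lhs => rw [this]
      rw [← Category.assoc, key]
      simp only [Category.assoc]
    rw [e1 a₁, e1 a₂] at h'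
    have h2 := (cancel_epi _).1 ((cancel_epi _).1 h')
    have h3 := hb1.1 h2
    exact (cancel_epi _).1 ((cancel_epi _).1 h3)
  · intro g
    obtain ⟨a', ha'⟩ := hb1.2 (inv (Q.map (ev1Iso J).inv) ≫ inv (Q.map a) ≫ g)
    have ha'' : Q.map πJ ≫ a' =
        inv (Q.map (ev1Iso J).inv) ≫ inv (Q.map a) ≫ g := ha'
    refine ⟨Q.map (DRing.homCxMap P a) ≫ inv (Q.map (homCxPre p J)) ≫ a', ?_⟩
    show Q.map (u₀ P (εP fs P p) X) ≫ Q.map (DRing.homCxMap P a) ≫
      inv (Q.map (homCxPre p J)) ≫ a' = g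
    rw [← Category.assoc, key]
    simp only [Category.assoc, IsIso.hom_inv_id_assoc]
    rw [ha'']
    simp

lemma isDerivedComplete_of_iso (I : Ideal A) {X Y : Dual.D A} (e : X ≅ Y)
    (h : DRing.IsDerivedComplete I X) : DRing.IsDerivedComplete I Y := by
  intro f hf n
  haveI := h f hf n
  exact (Iso.homCongr (Iso.refl _)
    ((CategoryTheory.shiftFunctor (Dual.D A) n).mapIso e.symm)).subsingleton

include p in
/-- `Q Hom•(P, X)` is derived complete for every complex `X` -/
theorem isDerivedComplete_homCx_P (X : DRing.Cx A) :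
    DRing.IsDerivedComplete (Ideal.span {x : A | x ∈ fs}) (Q.obj (DRing.homCx P X)) := by
  obtain ⟨J, a, hJ, ha⟩ := Groth.Agent.Lib.KInjRes.exists_kinj_resolution X
  haveI := hJ
  haveI := ha
  haveI := Groth.Agent.Lib.HomCxPreQis.quasiIso_homCxPre p J
  haveI : IsIso (Q.map (homCxPre p J)) :=
    (isIso_Q_map_iff_quasiIso (C := ModuleCat.{u} A) (homCxPre p J)).2 inferInstance
  haveI hq2 : QuasiIso (DRing.homCxMap P a) := Groth.Agent.Lib.RHomK.quasiIso_homCxMap P a
  haveI : IsIso (Q.map (DRing.homCxMap P a)) :=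
    (isIso_Q_map_iff_quasiIso (C := ModuleCat.{u} A) (DRing.homCxMap P a)).2 inferInstance
  have e : Q.obj (DRing.homCx (DerCA.extCech (ModuleCat.of A A) fs) J) ≅
      Q.obj (DRing.homCx P X) :=
    asIso (Q.map (homCxPre p J)) ≪≫ (asIso (Q.map (DRing.homCxMap P a))).symm
  refine isDerivedComplete_of_iso _ e ?_
  intro f hf n
  exact subsingleton_hom_inD_homCx f _ J
    (fun q x => torsion_of_mem_span fs (ModuleCat.of A A) f hf q x) n

end Compl

section Abstract

/-- a universal arrow between derived complete objects is an isomorphism -/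
lemma isIso_of_universal (I : Ideal A) {X V : Dual.D A} (hX : DRing.IsDerivedComplete I X)
    (hV : DRing.IsDerivedComplete I V) (v : X ⟶ V)
    (hv : ∀ E : Dual.D A, DRing.IsDerivedComplete I E →
      Function.Bijective (fun a : V ⟶ E => v ≫ a)) : IsIso v := by
  obtain ⟨w, hw⟩ := (hv X hX).2 (𝟙 X)
  have hw' : v ≫ w = 𝟙 X := hw
  refine ⟨w, hw', ?_⟩
  apply (hv V hV).1
  show v ≫ w ≫ v = v ≫ 𝟙 V
  rw [← Category.assoc, hw', Category.id_comp, Category.comp_id]

/-- uniqueness of universal arrows, with compatibility -/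
theorem exists_iso_of_universal {C : Type*} [Category C] (P : ObjectProperty C)
    {L : C ⥤ P.FullSubcategory} (adj : L ⊣ P.ι) (K X : C) (hX : P X) (u : K ⟶ X)
    (hu : ∀ E : C, P E → Function.Bijective (fun a : X ⟶ E => u ≫ a)) :
    ∃ e : (L.obj K).obj ≅ X, adj.unit.app K ≫ e.hom = u := by
  let η : K ⟶ (L.obj K).obj := adj.unit.app K
  obtain ⟨a, ha⟩ := (hu (L.obj K).obj (L.obj K).property).2 η
  have ha' : u ≫ a = η := ha
  let b' : L.obj K ⟶ ⟨X, hX⟩ := (adj.homEquiv K ⟨X, hX⟩).symm u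
  have hb' : η ≫ b'.hom = u := by
    have := (adj.homEquiv K ⟨X, hX⟩).apply_symm_apply u
    rw [Adjunction.homEquiv_unit] at this
    exact this
  refine ⟨⟨b'.hom, a, ?_, ?_⟩, hb'⟩
  · have hc : η ≫ (b' ≫ ObjectProperty.homMk a : L.obj K ⟶ L.obj K).hom = η := by
      show η ≫ b'.hom ≫ a = η
      rw [← Category.assoc, hb', ha']
    have h1 : (adj.homEquiv K (L.obj K)) (b' ≫ ObjectProperty.homMk a) =
        (adj.homEquiv K (L.obj K)) (𝟙 _) := by
      rw [Adjunction.homEquiv_unit, Adjunction.homEquiv_unit]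
      show η ≫ (b' ≫ ObjectProperty.homMk a).hom = η ≫ 𝟙 _
      rw [hc, Category.comp_id]
    have h2 := (adj.homEquiv K (L.obj K)).injective h1
    exact congrArg (fun t => t.hom) h2
  · apply (hu X hX).1
    show u ≫ a ≫ b'.hom = u ≫ 𝟙 X
    rw [← Category.assoc, ha', hb', Category.comp_id]

end Abstract

end Groth.Agent.Lib.DerCompl
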