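import Mathlib
import Groth.Prelude.Def_DRing3
import Groth.Prelude.Def_DRing4
import Groth.Prelude.Def_DerCA
import Groth.Agent.Lib.DerCompl4_helper2

/-!
# `RHom(K, L^)` is the derived completion of `RHom(K, L)` (helper2)
-/

set_option autoImplicit false
universe u
open CategoryTheory Limits MonoidalCategory CochainComplex CochainComplex.HomComplex

namespace Groth.Agent.Lib.DerCompl

open Groth.Agent.Lib.KFlatMod Groth.Agent.Lib.HomCx DerivedCategory Groth.Agent.Lib.DualCx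
  Groth.Agent.Lib.RHomKInj
attribute [local instance] HasDerivedCategory.standard

variable {A : Type u} [CommRing A]

section

variable (fs : List A) (P : DRing.Cx A) (p : P ⟶ DerCA.extCech (ModuleCat.of A A) fs)
  [QuasiIso p] [P.IsKProjective]

include p in
/-- if `Hom•(P, ρ₀)` is a quasi-isomorphism, then `ρ₀` induces bijections on maps to derived
complete objects -/
theorem bijective_precomp_of_isIso_P {X₀ Y₀ : DRing.Cx A} (ρ₀ : X₀ ⟶ Y₀)
    (h : IsIso (Q.map (DRing.homCxMap P ρ₀))) (E : Dual.D A)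
    (hE : DRing.IsDerivedComplete (Ideal.span {x : A | x ∈ fs}) E) :
    Function.Bijective (fun a : Q.obj Y₀ ⟶ E => Q.map ρ₀ ≫ a) := by
  have hX := bijective_precomp_u₀ fs P p X₀ E hE
  have hY := bijective_precomp_u₀ fs P p Y₀ E hE
  have hnat : Q.map (u₀ P (εP fs P p) X₀) ≫ Q.map (DRing.homCxMap P ρ₀) =
      Q.map ρ₀ ≫ Q.map (u₀ P (εP fs P p) Y₀) := by
    rw [← Q.map_comp, u₀_naturality, Q.map_comp]
  constructor
  · intro a₁ a₂ h12
    have h12' : Q.map ρ₀ ≫ a₁ = Q.map ρ₀ ≫ a₂ := h12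
    obtain ⟨b₁, hb₁⟩ := hY.2 a₁
    obtain ⟨b₂, hb₂⟩ := hY.2 a₂
    have hb₁' : Q.map (u₀ P (εP fs P p) Y₀) ≫ b₁ = a₁ := hb₁
    have hb₂' : Q.map (u₀ P (εP fs P p) Y₀) ≫ b₂ = a₂ := hb₂
    rw [← hb₁', ← hb₂', ← Category.assoc, ← Category.assoc, ← hnat, Category.assoc,
      Category.assoc] at h12'
    have h3 := hX.1 h12'
    have h4 := (cancel_epi _).1 h3
    rw [← hb₁', ← hb₂', h4]
  · intro g
    obtain ⟨b, hb⟩ := hX.2 g
    have hb' : Q.map (u₀ P (εP fs P p) X₀) ≫ b = g := hb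
    refine ⟨Q.map (u₀ P (εP fs P p) Y₀) ≫ inv (Q.map (DRing.homCxMap P ρ₀)) ≫ b, ?_⟩
    show Q.map ρ₀ ≫ Q.map (u₀ P (εP fs P p) Y₀) ≫ inv (Q.map (DRing.homCxMap P ρ₀)) ≫ b = g
    rw [← Category.assoc, ← hnat, Category.assoc, IsIso.hom_inv_id_assoc, hb']

end

section UnitIso

variable (K : DRing.Cx A) [DRing.HasRHomCx K]

/-- `Q Hom•(K, I) ≅ RHom(K, Q I)` for `I` K-injective -/
noncomputable def unitIso (I : DRing.Cx A) [I.IsKInjective] :
    Q.obj (DRing.homCx K I) ≅ (DRing.RHomCx K).obj (Q.obj I) :=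
  @asIso _ _ _ _ (((DRing.homCxQ K).totalRightDerivedUnit Q
      (HomologicalComplex.quasiIso (ModuleCat.{u} A) (ComplexShape.up ℤ))).app I)
    (isIso_unit_RHomCx K I)

lemma unitIso_naturality {I₁ I₂ : DRing.Cx A} [I₁.IsKInjective] [I₂.IsKInjective]
    (g : I₁ ⟶ I₂) :
    Q.map (DRing.homCxMap K g) ≫ (unitIso K I₂).hom =
      (unitIso K I₁).hom ≫ (DRing.RHomCx K).map (Q.map g) :=
  ((DRing.homCxQ K).totalRightDerivedUnit Q
      (HomologicalComplex.quasiIso (ModuleCat.{u} A) (ComplexShape.up ℤ))).naturality g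

lemma isIso_Q_homCxMap {I₁ I₂ : DRing.Cx A} [I₁.IsKInjective] [I₂.IsKInjective]
    (g : I₁ ⟶ I₂) (hg : IsIso (Q.map g)) : IsIso (Q.map (DRing.homCxMap K g)) := by
  have h3 : IsIso (Q.map (DRing.homCxMap K g) ≫ (unitIso K I₂).hom) := by
    rw [unitIso_naturality]
    infer_instance
  exact IsIso.of_isIso_comp_right _ (unitIso K I₂).hom

end UnitIso

/-- **`RHom(K, L^)` is the derived completion of `RHom(K, L)`** -/
theorem completion_RHom (fs : List A)
    [DRing.HasDerivedCompletion (Ideal.span {x : A | x ∈ fs})]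
    (K : DRing.Cx A) [DRing.HasRHomCx K] (L : Dual.D A) :
    DRing.IsDerivedComplete (Ideal.span {x : A | x ∈ fs})
        ((DRing.RHomCx K).obj
          ((DRing.derivedCompletion (Ideal.span {x : A | x ∈ fs})).obj L).obj) ∧
      ∀ E : Dual.D A, DRing.IsDerivedComplete (Ideal.span {x : A | x ∈ fs}) E →
        Function.Bijective (fun φ : (DRing.RHomCx K).obj
            ((DRing.derivedCompletion (Ideal.span {x : A | x ∈ fs})).obj L).obj ⟶ E =>
          (DRing.RHomCx K).map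
            (DRing.toDerivedCompletion (Ideal.span {x : A | x ∈ fs}) L) ≫ φ) := by
  obtain ⟨P, p, hp, hPp, hPf, -⟩ :=
    Groth.Agent.Lib.KProjRes.exists_kproj_resolution (DerCA.extCech (ModuleCat.of A A) fs)
  haveI := hp
  haveI := hPp
  obtain ⟨J, hJ, ⟨eL⟩⟩ := exists_kinj_iso L
  haveI := hJ
  haveI hJc : (DRing.homCx P J).IsKInjective := isKInjective_homCx P J hPf
  haveI hJcc : (DRing.homCx P (DRing.homCx P J)).IsKInjective :=
    isKInjective_homCx P (DRing.homCx P J) hPf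
  have huniv := bijective_precomp_u₀ fs P p
  have hdc := isDerivedComplete_homCx_P fs P p
  obtain ⟨uJ, huJ⟩ : ∃ uJ : J ⟶ DRing.homCx P J, uJ = u₀ P (εP fs P p) J := ⟨_, rfl⟩
  -- the comparison with the chosen derived completion
  have hu' : ∀ E : Dual.D A, DRing.IsDerivedComplete (Ideal.span {x : A | x ∈ fs}) E →
      Function.Bijective (fun a : Q.obj (DRing.homCx P J) ⟶ E => (eL.hom ≫ Q.map uJ) ≫ a) := by
    intro E hE
    have h1 := huniv J E hE
    rw [← huJ] at h1
    constructor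
    · intro a₁ a₂ h12
      have h12' : (eL.hom ≫ Q.map uJ) ≫ a₁ = (eL.hom ≫ Q.map uJ) ≫ a₂ := h12
      rw [Category.assoc, Category.assoc] at h12'
      exact h1.1 ((cancel_epi _).1 h12')
    · intro g
      obtain ⟨b, hb⟩ := h1.2 (eL.inv ≫ g)
      have hb' : Q.map uJ ≫ b = eL.inv ≫ g := hb
      refine ⟨b, ?_⟩
      show (eL.hom ≫ Q.map uJ) ≫ b = g
      rw [Category.assoc, hb', Iso.hom_inv_id_assoc]
  obtain ⟨θ, hθ⟩ := exists_iso_of_universal
    (DRing.IsDerivedComplete (Ideal.span {x : A | x ∈ fs}))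
    (DRing.derivedCompletionAdj (Ideal.span {x : A | x ∈ fs})) L (Q.obj (DRing.homCx P J)) (hdc J)
    (eL.hom ≫ Q.map uJ) hu'
  have hθ' : DRing.toDerivedCompletion (Ideal.span {x : A | x ∈ fs}) L ≫ θ.hom =
      eL.hom ≫ Q.map uJ := hθ
  have hnat := unitIso_naturality K uJ
  -- `Hom•(P, uJ)` is a quasi-isomorphism
  have hPu : IsIso (Q.map (DRing.homCxMap P uJ)) := by
    have h1 : Q.map (DRing.homCxMap P uJ) = Q.map (u₀ P (εP fs P p) (DRing.homCx P J)) := by
      apply (huniv J (Q.obj (DRing.homCx P (DRing.homCx P J))) (hdc (DRing.homCx P J))).1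
      show Q.map (u₀ P (εP fs P p) J) ≫ Q.map (DRing.homCxMap P uJ) =
        Q.map (u₀ P (εP fs P p) J) ≫ Q.map (u₀ P (εP fs P p) (DRing.homCx P J))
      rw [← Q.map_comp, u₀_naturality, Q.map_comp, huJ]
    rw [h1]
    exact isIso_of_universal _ (hdc J) (hdc (DRing.homCx P J)) _
      (fun E hE => huniv (DRing.homCx P J) E hE)
  -- hence so is `Hom•(K, Hom•(P, uJ))`
  have hKPu : IsIso (Q.map (DRing.homCxMap K (DRing.homCxMap P uJ))) :=
    isIso_Q_homCxMap K (DRing.homCxMap P uJ) hPu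
  -- and `Hom•(P, Hom•(K, uJ))`
  have hPKu : IsIso (Q.map (DRing.homCxMap P (DRing.homCxMap K uJ))) := by
    have hs := swapIso_naturality P K uJ
    have h2 : Q.map (DRing.homCxMap P (DRing.homCxMap K uJ)) =
        Q.map (swapIso P K J).hom ≫ Q.map (DRing.homCxMap K (DRing.homCxMap P uJ)) ≫
          Q.map (swapIso P K (DRing.homCx P J)).inv := by
      rw [← Q.map_comp, ← Q.map_comp, ← Category.assoc, ← hs, Category.assoc,
        Iso.hom_inv_id, Category.comp_id]
    rw [h2]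
    infer_instance
  have e_a : (DRing.RHomCx K).obj
      ((DRing.derivedCompletion (Ideal.span {x : A | x ∈ fs})).obj L).obj ≅
      Q.obj (DRing.homCx P (DRing.homCx K J)) :=
    (DRing.RHomCx K).mapIso θ ≪≫ (unitIso K (DRing.homCx P J)).symm ≪≫
      Q.mapIso (swapIso P K J).symm
  refine ⟨isDerivedComplete_of_iso _ e_a.symm (hdc _), ?_⟩
  intro E hE
  have hmid := bijective_precomp_of_isIso_P fs P p (DRing.homCxMap K uJ) hPKu E hE
  have hη : DRing.toDerivedCompletion (Ideal.span {x : A | x ∈ fs}) L =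
      eL.hom ≫ Q.map uJ ≫ θ.inv := by
    rw [← Category.assoc, ← hθ', Category.assoc, Iso.hom_inv_id, Category.comp_id]
  have hR : (DRing.RHomCx K).map
      (DRing.toDerivedCompletion (Ideal.span {x : A | x ∈ fs}) L) =
      (DRing.RHomCx K).map eL.hom ≫ (unitIso K J).inv ≫ Q.map (DRing.homCxMap K uJ) ≫
        (unitIso K (DRing.homCx P J)).hom ≫ (DRing.RHomCx K).map θ.inv := by
    rw [hη, CategoryTheory.Functor.map_comp, CategoryTheory.Functor.map_comp]
    congr 1
    rw [← Category.assoc (Q.map (DRing.homCxMap K uJ)), hnat, Category.assoc,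
      Iso.inv_hom_id_assoc]
  constructor
  · intro φ₁ φ₂ h12
    have h12' : (DRing.RHomCx K).map
        (DRing.toDerivedCompletion (Ideal.span {x : A | x ∈ fs}) L) ≫ φ₁ =
        (DRing.RHomCx K).map
        (DRing.toDerivedCompletion (Ideal.span {x : A | x ∈ fs}) L) ≫ φ₂ := h12
    rw [hR] at h12'
    simp only [Category.assoc] at h12'
    have h3 := (cancel_epi _).1 ((cancel_epi _).1 h12')
    have h4 := hmid.1 h3
    exact (cancel_epi _).1 ((cancel_epi _).1 h4)
  · intro g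
    obtain ⟨ψ, hψ⟩ := hmid.2 ((unitIso K J).hom ≫ (DRing.RHomCx K).map eL.inv ≫ g)
    have hψ' : Q.map (DRing.homCxMap K uJ) ≫ ψ =
        (unitIso K J).hom ≫ (DRing.RHomCx K).map eL.inv ≫ g := hψ
    refine ⟨(DRing.RHomCx K).map θ.hom ≫ (unitIso K (DRing.homCx P J)).inv ≫ ψ, ?_⟩
    show (DRing.RHomCx K).map
        (DRing.toDerivedCompletion (Ideal.span {x : A | x ∈ fs}) L) ≫
      (DRing.RHomCx K).map θ.hom ≫ (unitIso K (DRing.homCx P J)).inv ≫ ψ = g
    rw [hR]
    simp only [Category.assoc]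
    rw [← CategoryTheory.Functor.map_comp_assoc, Iso.inv_hom_id, CategoryTheory.Functor.map_id,
      Category.id_comp, Iso.hom_inv_id_assoc, hψ', Iso.inv_hom_id_assoc,
      ← CategoryTheory.Functor.map_comp_assoc, Iso.hom_inv_id, CategoryTheory.Functor.map_id,
      Category.id_comp]

end Groth.Agent.Lib.DerCompl
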