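import Mathlib
import Groth.Prelude.Def_DRing3
import Groth.Prelude.Def_DRing4
import Groth.Prelude.Def_DerCA
import Groth.Agent.Lib.DerCompl3_helper2
import Groth.Agent.Lib.DerComplOld_helper9

/-!
# Amplitude of derived completion (helper2)

* `bijective_precomp_of_triangles`: five lemma for `Hom(-, E)` and a morphism of distinguished
  triangles.
* `isDerivedComplete_of_distinguished`: derived complete objects are closed under cones.
* `eq_zero_of_away_of_isLE`: `Hom(A_f, W) = 0` for `W ∈ D^{≤ -2}`.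
* `locCxNBIso`: `X_f ≅ X ⊗ A_f[0]`.
* `hom_cech_eq_zero_of_isLE`: `Hom(Č, X) = 0` for `X ∈ D^{≤ -1}`.
* `completion_isLE`, `completion_isGE`: amplitude of the derived completion.
* `exists_completion_triangle`: derived completion of a distinguished triangle.
* `completion_map_pos`, `completion_map_neg`.
-/

set_option autoImplicit false
universe u
open CategoryTheory Limits MonoidalCategory CochainComplex CochainComplex.HomComplex
open scoped TensorProduct

namespace Groth.Agent.Lib.DerCompl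

open Groth.Agent.Lib.KFlatMod Groth.Agent.Lib.HomCx Groth.Agent.Lib.RHomK DerivedCategory
  Groth.Agent.Lib.LocHom Groth.Agent.Lib.BifCone Pretriangulated
attribute [local instance] HasDerivedCategory.standard

section Tri

variable {C : Type*} [Category C] [Preadditive C] [HasZeroObject C] [HasShift C ℤ]
  [∀ n : ℤ, (CategoryTheory.shiftFunctor C n).Additive] [Pretriangulated C]

/-- maps `X[1] ⟶ E` vanish if maps `X ⟶ E[-1]` do -/
lemma eq_zero_of_shift_one {X E : C} (h : ∀ a : X ⟶ E⟦(-1 : ℤ)⟧, a = 0)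
    (a : X⟦(1 : ℤ)⟧ ⟶ E) : a = 0 := by
  apply (CategoryTheory.shiftFunctor C (-1 : ℤ)).map_injective
  rw [Functor.map_zero]
  have h1 := h ((shiftFunctorCompIsoId C (1 : ℤ) (-1) (by omega)).inv.app X ≫ a⟦(-1 : ℤ)⟧')
  rw [← cancel_epi ((shiftFunctorCompIsoId C (1 : ℤ) (-1) (by omega)).inv.app X), h1, comp_zero]

/-- the first vertex of a distinguished triangle is left orthogonal to `E` if the second is and
the third is left orthogonal to `E[1]` -/
lemma eq_zero_of_distinguished₁ (T : Triangle C) (hT : T ∈ distTriang C) (E : C)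
    (h2 : ∀ a : T.obj₂ ⟶ E, a = 0) (h3 : ∀ a : T.obj₃ ⟶ E⟦(1 : ℤ)⟧, a = 0)
    (a : T.obj₁ ⟶ E) : a = 0 := by
  have h0 : T.invRotate.mor₁ ≫ a = 0 := eq_zero_of_shift_neg_one h3 _
  obtain ⟨b, hb⟩ := Triangle.yoneda_exact₂ T.invRotate (inv_rot_of_distTriang _ hT) a h0
  have hb' : a = T.mor₁ ≫ b := hb
  rw [hb', h2 b, comp_zero]

/-- transport of bijectivity of precomposition along the shift -/
lemma bijective_shift_precomp {X X' : C} (u : X ⟶ X') (E : C)
    (h : Function.Bijective (fun a : X' ⟶ E⟦(-1 : ℤ)⟧ => u ≫ a)) :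
    Function.Bijective (fun a : X'⟦(1 : ℤ)⟧ ⟶ E => u⟦(1 : ℤ)⟧' ≫ a) := by
  let e : (E⟦(-1 : ℤ)⟧)⟦(1 : ℤ)⟧ ≅ E := (shiftFunctorCompIsoId C (-1 : ℤ) 1 (by omega)).app E
  have hΦ : ∀ Y : C, Function.Bijective (fun a : Y ⟶ E⟦(-1 : ℤ)⟧ => a⟦(1 : ℤ)⟧' ≫ e.hom) := by
    intro Y
    constructor
    · intro a b hab
      apply (CategoryTheory.shiftFunctor C (1 : ℤ)).map_injective
      exact (cancel_mono e.hom).1 hab
    · intro g
      obtain ⟨a, ha⟩ := (CategoryTheory.shiftFunctor C (1 : ℤ)).map_surjective (g ≫ e.inv)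
      refine ⟨a, ?_⟩
      show a⟦(1 : ℤ)⟧' ≫ e.hom = g
      rw [ha, Category.assoc, Iso.inv_hom_id, Category.comp_id]
  constructor
  · intro g g' hgg
    obtain ⟨a, rfl⟩ := (hΦ X').2 g
    obtain ⟨a', rfl⟩ := (hΦ X').2 g'
    have hgg' : u⟦(1 : ℤ)⟧' ≫ a⟦(1 : ℤ)⟧' ≫ e.hom = u⟦(1 : ℤ)⟧' ≫ a'⟦(1 : ℤ)⟧' ≫ e.hom := hgg
    have : u ≫ a = u ≫ a' := by
      apply (hΦ X).1
      show (u ≫ a)⟦(1 : ℤ)⟧' ≫ e.hom = (u ≫ a')⟦(1 : ℤ)⟧' ≫ e.hom
      rw [CategoryTheory.Functor.map_comp, CategoryTheory.Functor.map_comp, Category.assoc,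
        Category.assoc]
      exact hgg'
    have haa : a = a' := h.1 this
    rw [haa]
  · intro g
    obtain ⟨b, hb⟩ := (hΦ X).2 g
    have hb' : b⟦(1 : ℤ)⟧' ≫ e.hom = g := hb
    obtain ⟨a, ha⟩ := h.2 b
    have ha' : u ≫ a = b := ha
    refine ⟨a⟦(1 : ℤ)⟧' ≫ e.hom, ?_⟩
    show u⟦(1 : ℤ)⟧' ≫ a⟦(1 : ℤ)⟧' ≫ e.hom = g
    rw [← Category.assoc, ← CategoryTheory.Functor.map_comp, ha', hb']

/-- five lemma for `Hom(-, E)` applied to a morphism of distinguished triangles -/
theorem bijective_precomp_of_triangles (T T' : Triangle C) (hT : T ∈ distTriang C)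
    (hT' : T' ∈ distTriang C) (u : T.obj₁ ⟶ T'.obj₁) (v : T.obj₂ ⟶ T'.obj₂)
    (w : T.obj₃ ⟶ T'.obj₃)
    (c1 : T.mor₁ ≫ v = u ≫ T'.mor₁) (c2 : T.mor₂ ≫ w = v ≫ T'.mor₂)
    (c3 : T.mor₃ ≫ u⟦(1 : ℤ)⟧' = w ≫ T'.mor₃) (E : C)
    (h1 : Function.Injective (fun a : T'.obj₁ ⟶ E => u ≫ a))
    (h2 : Function.Bijective (fun a : T'.obj₂ ⟶ E => v ≫ a))
    (h1s : Function.Bijective (fun a : T'.obj₁⟦(1 : ℤ)⟧ ⟶ E => u⟦(1 : ℤ)⟧' ≫ a))
    (h2s : Function.Surjective (fun a : T'.obj₂⟦(1 : ℤ)⟧ ⟶ E => v⟦(1 : ℤ)⟧' ≫ a)) :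
    Function.Bijective (fun a : T'.obj₃ ⟶ E => w ≫ a) := by
  constructor
  · intro g g' hgg
    have hgg' : w ≫ g = w ≫ g' := hgg
    have hd : w ≫ (g - g') = 0 := by
      rw [Preadditive.comp_sub]
      exact sub_eq_zero.2 hgg'
    suffices hz : g - g' = 0 from sub_eq_zero.1 hz
    generalize g - g' = d at hd ⊢
    have e1 : T'.mor₂ ≫ d = 0 := by
      apply h2.1
      show v ≫ T'.mor₂ ≫ d = v ≫ 0
      rw [← Category.assoc, ← c2, Category.assoc, hd, comp_zero, comp_zero]
    obtain ⟨h, hh⟩ := Triangle.yoneda_exact₃ T' hT' d e1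
    have e2 : T.mor₃ ≫ (u⟦(1 : ℤ)⟧' ≫ h) = 0 := by
      rw [← Category.assoc, c3, Category.assoc, ← hh, hd]
    obtain ⟨k, hk'⟩ : ∃ k : T.obj₂⟦(1 : ℤ)⟧ ⟶ E,
        u⟦(1 : ℤ)⟧' ≫ h = -(T.mor₁⟦(1 : ℤ)⟧' ≫ k) := by
      obtain ⟨k, hk⟩ := Triangle.yoneda_exact₃ T.rotate (rot_of_distTriang _ hT)
        (u⟦(1 : ℤ)⟧' ≫ h) e2
      refine ⟨k, ?_⟩
      rw [← Preadditive.neg_comp]
      exact hk
    obtain ⟨k', hk''⟩ := h2s k
    have hk3 : v⟦(1 : ℤ)⟧' ≫ k' = k := hk''
    have e3 : T.mor₁⟦(1 : ℤ)⟧' ≫ v⟦(1 : ℤ)⟧' = u⟦(1 : ℤ)⟧' ≫ T'.mor₁⟦(1 : ℤ)⟧' := by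
      rw [← CategoryTheory.Functor.map_comp, ← CategoryTheory.Functor.map_comp, c1]
    have hh2 : h = -(T'.mor₁⟦(1 : ℤ)⟧' ≫ k') := by
      apply h1s.1
      show u⟦(1 : ℤ)⟧' ≫ h = u⟦(1 : ℤ)⟧' ≫ (-(T'.mor₁⟦(1 : ℤ)⟧' ≫ k'))
      rw [hk', ← hk3, Preadditive.comp_neg, ← Category.assoc, e3, Category.assoc]
    rw [hh, hh2, Preadditive.comp_neg, ← Category.assoc, comp_distTriang_mor_zero₃₁ _ hT',
      zero_comp, neg_zero]
  · intro g
    obtain ⟨g₁, hg₁⟩ := h2.2 (T.mor₂ ≫ g)
    have hg₁' : v ≫ g₁ = T.mor₂ ≫ g := hg₁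
    have e1 : T'.mor₁ ≫ g₁ = 0 := by
      apply h1
      show u ≫ T'.mor₁ ≫ g₁ = u ≫ 0
      rw [← Category.assoc, ← c1, Category.assoc, hg₁', ← Category.assoc,
        comp_distTriang_mor_zero₁₂ _ hT, zero_comp, comp_zero]
    obtain ⟨g₂, hg₂⟩ := Triangle.yoneda_exact₂ T' hT' g₁ e1
    have e2 : T.mor₂ ≫ (g - w ≫ g₂) = 0 := by
      rw [Preadditive.comp_sub, ← Category.assoc, c2, Category.assoc, ← hg₂, hg₁', sub_self]
    obtain ⟨h, hh⟩ := Triangle.yoneda_exact₃ T hT (g - w ≫ g₂) e2
    obtain ⟨h', hh'⟩ := h1s.2 h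
    have hh'' : u⟦(1 : ℤ)⟧' ≫ h' = h := hh'
    refine ⟨g₂ + T'.mor₃ ≫ h', ?_⟩
    show w ≫ (g₂ + T'.mor₃ ≫ h') = g
    rw [Preadditive.comp_add, ← Category.assoc, ← c3, Category.assoc, hh'', ← hh]
    abel

end Tri

section Abstract

/-- the unit of a reflection is universal -/
theorem bijective_unit_precomp {C : Type*} [Category C] (P : ObjectProperty C)
    {L : C ⥤ P.FullSubcategory} (adj : L ⊣ P.ι) (K E : C) (hE : P E) :
    Function.Bijective (fun a : (L.obj K).obj ⟶ E => adj.unit.app K ≫ a) := by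
  have hb := (adj.homEquiv K ⟨E, hE⟩).bijective
  constructor
  · intro a b hab
    have hab' : adj.unit.app K ≫ a = adj.unit.app K ≫ b := hab
    have h1 : (adj.homEquiv K ⟨E, hE⟩) (ObjectProperty.homMk a) =
        (adj.homEquiv K ⟨E, hE⟩) (ObjectProperty.homMk b) := by
      rw [Adjunction.homEquiv_unit, Adjunction.homEquiv_unit]
      exact hab'
    have h2 := hb.1 h1
    exact congrArg (fun t => t.hom) h2
  · intro g
    obtain ⟨a', ha'⟩ := hb.2 g
    rw [Adjunction.homEquiv_unit] at ha'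
    exact ⟨a'.hom, ha'⟩

end Abstract

variable {A : Type u} [CommRing A]

section Complete

lemma isDerivedComplete_shift (I : Ideal A) (E : Dual.D A) (hE : DRing.IsDerivedComplete I E)
    (m : ℤ) : DRing.IsDerivedComplete I (E⟦m⟧) := by
  intro f hf n
  haveI := hE f hf (m + n)
  exact (Iso.homCongr (Iso.refl _)
    ((CategoryTheory.shiftFunctorAdd' (Dual.D A) m n (m + n) rfl).app E).symm).subsingleton

/-- derived complete objects are closed under cones -/
lemma isDerivedComplete_of_distinguished (I : Ideal A) (T : Triangle (Dual.D A))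
    (hT : T ∈ distTriang (Dual.D A)) (h1 : DRing.IsDerivedComplete I T.obj₁)
    (h2 : DRing.IsDerivedComplete I T.obj₂) : DRing.IsDerivedComplete I T.obj₃ := by
  intro f hf n
  have hTn : (Triangle.shiftFunctor (Dual.D A) n).obj T ∈ distTriang (Dual.D A) :=
    Triangle.shift_distinguished T hT n
  have key : ∀ a : Dual.inD A (Localization.Away f) ⟶ T.obj₃⟦n⟧, a = 0 := by
    intro a
    have hs1 : Subsingleton (Dual.inD A (Localization.Away f) ⟶ (T.obj₁⟦n⟧)⟦(1 : ℤ)⟧) :=
      (isDerivedComplete_shift I _ h1 n) f hf 1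
    have h3 : a ≫ ((Triangle.shiftFunctor (Dual.D A) n).obj T).mor₃ = 0 :=
      @Subsingleton.elim _ hs1 _ _
    obtain ⟨b, hb⟩ := Triangle.coyoneda_exact₃ _ hTn a h3
    have hb0 : b = 0 := @Subsingleton.elim _ (h2 f hf n) b 0
    subst hb0
    exact hb.trans zero_comp
  exact ⟨fun a b => by rw [key a, key b]⟩

end Complete

lemma isLE_of_iso' {X Y : Dual.D A} (e : X ≅ Y) (n : ℤ) (h : DerivedCategory.IsLE X n) :
    DerivedCategory.IsLE Y n := by
  rw [DerivedCategory.isLE_iff] at h ⊢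
  intro i hi
  exact (h i hi).of_iso ((DerivedCategory.homologyFunctor (ModuleCat.{u} A) i).mapIso e.symm)

lemma isGE_of_iso' {X Y : Dual.D A} (e : X ≅ Y) (n : ℤ) (h : DerivedCategory.IsGE X n) :
    DerivedCategory.IsGE Y n := by
  rw [DerivedCategory.isGE_iff] at h ⊢
  intro i hi
  exact (h i hi).of_iso ((DerivedCategory.homologyFunctor (ModuleCat.{u} A) i).mapIso e.symm)

section Vanishing

/-- maps from a projective module in degree `0` to an object of `D^{≤ -1}` vanish -/
lemma eq_zero_of_single_projective (P : ModuleCat.{u} A) [Projective P] (W : Dual.D A)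
    [DerivedCategory.IsLE W (-1)]
    (a : Q.obj ((HomologicalComplex.single (ModuleCat.{u} A) (ComplexShape.up ℤ) 0).obj P) ⟶ W) :
    a = 0 := by
  obtain ⟨Z, hZ, ⟨e⟩⟩ := DerivedCategory.exists_iso_Q_obj_of_isLE W (-1)
  haveI := hZ
  let SP : DRing.Cx A := (HomologicalComplex.single (ModuleCat.{u} A) (ComplexShape.up ℤ) 0).obj P
  haveI : SP.IsStrictlyLE 0 := inferInstanceAs
    (CochainComplex.IsStrictlyLE
      ((HomologicalComplex.single (ModuleCat.{u} A) (ComplexShape.up ℤ) 0).obj P) 0)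
  haveI : ∀ n : ℤ, Projective (SP.X n) := by
    intro n
    by_cases h : n = 0
    · subst h
      exact Projective.of_iso (HomologicalComplex.singleObjXSelf (ComplexShape.up ℤ) 0 P).symm
        inferInstance
    · exact (HomologicalComplex.isZero_single_obj_X (ComplexShape.up ℤ) 0 P n h).projective
  haveI : SP.IsKProjective := isKProjective_of_projective SP 0
  obtain ⟨g, hg⟩ := Groth.Agent.PerfectCx.exists_Q_map_eq SP Z (a ≫ e.hom)
  have hg0 : g = 0 := by
    apply HomologicalComplex.from_single_hom_ext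
    exact (Z.isZero_of_isStrictlyLE (-1) 0 (by omega)).eq_of_tgt _ _
  rw [← cancel_mono e.hom, ← hg, hg0, Functor.map_zero, zero_comp]

/-- maps from a projective module (as an object of `D(A)`) to an object of `D^{≤ -1}` vanish -/
lemma eq_zero_of_projective_of_isLE (P : ModuleCat.{u} A) [Projective P] (W : Dual.D A)
    [DerivedCategory.IsLE W (-1)]
    (a : (DerivedCategory.singleFunctor (ModuleCat.{u} A) 0).obj P ⟶ W) : a = 0 := by
  have eP : (DerivedCategory.singleFunctor (ModuleCat.{u} A) 0).obj P ≅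
      Q.obj ((HomologicalComplex.single (ModuleCat.{u} A) (ComplexShape.up ℤ) 0).obj P) :=
    (DerivedCategory.singleFunctorIsoCompQ (ModuleCat.{u} A) 0).app P
  have h := eq_zero_of_single_projective P W (eP.inv ≫ a)
  rw [← cancel_epi eP.inv, h, comp_zero]

/-- **`Hom_D(A_f, W) = 0` for `W ∈ D^{≤ -2}`**: `A_f` has projective dimension at most one -/
lemma eq_zero_of_away_of_isLE (f : A) (W : Dual.D A) [DerivedCategory.IsLE W (-2)]
    (a : Dual.inD A (Localization.Away f) ⟶ W) : a = 0 := by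
  have hS := DerComp9.S_shortExact f
  have hT := hS.singleTriangle_distinguished
  haveI : DerivedCategory.IsLE W (-1) :=
    DerivedCategory.TStructure.t.isLE_of_le W (-2) (-1) (by omega)
  have h0 : hS.singleTriangle.mor₂ ≫ a = 0 :=
    eq_zero_of_projective_of_isLE (DerComp9.S f).X₂ W _
  obtain ⟨b, hb⟩ := Triangle.yoneda_exact₃ _ hT a h0
  have hb0 : b = 0 := by
    apply eq_zero_of_shift_one
    intro c
    haveI : DerivedCategory.IsLE (W⟦(-1 : ℤ)⟧) (-1) :=
      DerivedCategory.TStructure.t.isLE_shift W (-2) (-1) (-1) (by omega)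
    exact eq_zero_of_projective_of_isLE (DerComp9.S f).X₁ _ c
  subst hb0
  exact hb.trans comp_zero

lemma quotient_map_eq_zero_of_kinj {E F : DRing.Cx A} [F.IsKInjective] (g : E ⟶ F)
    (h : Q.map g = 0) :
    (HomotopyCategory.quotient (ModuleCat.{u} A) (ComplexShape.up ℤ)).map g = 0 := by
  apply (IsKInjective.Qh_map_bijective ((HomotopyCategory.quotient _ _).obj E) F).injective
  have h1 := (quotientCompQhIso (ModuleCat.{u} A)).hom.naturality g
  simp only [Functor.comp_map] at h1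
  rw [h, comp_zero] at h1
  rw [Functor.map_zero]
  exact (cancel_mono _).1 (h1.trans zero_comp.symm)

end Vanishing

section Loc

variable (f : A)

/-- the localisation `A_f` -/
local notation "Bf" => Localization.Away f

/-- `M_f ≃ M ⊗ A_f` -/
noncomputable def locTensEquiv (M : ModuleCat.{u} A) :
    LocalizedModule (Submonoid.powers f) M ≃ₗ[A] (M ⊗[A] Bf) :=
  (IsLocalizedModule.linearEquiv (Submonoid.powers f)
      (LocalizedModule.mkLinearMap (Submonoid.powers f) M) (TensorProduct.mk A Bf M 1)).trans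
    (TensorProduct.comm A Bf M)

lemma locTensEquiv_mk (M : ModuleCat.{u} A) (m : M) :
    locTensEquiv f M (LocalizedModule.mkLinearMap (Submonoid.powers f) M m) =
      m ⊗ₜ[A] (1 : Bf) := by
  rw [locTensEquiv, LinearEquiv.trans_apply, IsLocalizedModule.linearEquiv_apply,
    TensorProduct.mk_apply, TensorProduct.comm_tmul]

/-- `M_f ≅ M ⊗ A_f` in `ModuleCat A` -/
noncomputable def locTensIso (M : ModuleCat.{u} A) :
    (DerCA.locFunctor (Submonoid.powers f)).obj M ≅ (tensorRight (ModuleCat.of A Bf)).obj M :=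
  (locTensEquiv f M).toModuleIso

lemma locTens_naturality {M N : ModuleCat.{u} A} (g : M ⟶ N) :
    (DerCA.locFunctor (Submonoid.powers f)).map g ≫ (locTensIso f N).hom =
      (locTensIso f M).hom ≫ (tensorRight (ModuleCat.of A Bf)).map g := by
  refine ModuleCat.hom_ext ?_
  haveI := IsLocalizedModule.of_linearEquiv (Submonoid.powers f) (TensorProduct.mk A Bf N 1)
    (TensorProduct.comm A Bf N)
  refine IsLocalizedModule.ext (Submonoid.powers f)
    (LocalizedModule.mkLinearMap (Submonoid.powers f) M)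
    (IsLocalizedModule.map_units
      ((TensorProduct.comm A Bf N).toLinearMap ∘ₗ TensorProduct.mk A Bf N 1)) ?_
  refine LinearMap.ext fun m => ?_
  show locTensEquiv f N
      ((IsLocalizedModule.map (Submonoid.powers f)
        (LocalizedModule.mkLinearMap (Submonoid.powers f) M)
        (LocalizedModule.mkLinearMap (Submonoid.powers f) N) g.hom)
        (LocalizedModule.mkLinearMap (Submonoid.powers f) M m)) =
    (g ▷ ModuleCat.of A Bf).hom
      (locTensEquiv f M (LocalizedModule.mkLinearMap (Submonoid.powers f) M m))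
  rw [IsLocalizedModule.map_apply, locTensEquiv_mk, locTensEquiv_mk]
  exact (ModuleCat.MonoidalCategory.whiskerRight_apply g (ModuleCat.of A Bf) m (1 : Bf)).symm

/-- `X_f ≅ X ⊗ A_f` termwise -/
noncomputable def locCxTensIso (X : DRing.Cx A) :
    (DerCA.locCx (Submonoid.powers f)).obj X ≅
      ((tensorRight (ModuleCat.of A Bf)).mapHomologicalComplex (ComplexShape.up ℤ)).obj X :=
  HomologicalComplex.Hom.isoOfComponents (fun p => locTensIso f (X.X p))
    (fun p q _ => (locTens_naturality f (X.d p q)).symm)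

/-- `X_f ≅ X ⊗ A_f[0]` -/
noncomputable def locCxNBIso (X : DRing.Cx A) :
    (DerCA.locCx (Submonoid.powers f)).obj X ≅ X ⊗ NB (A := A) (B := Bf) :=
  locCxTensIso f X ≪≫ (Groth.Agent.Lib.RHomKInj.tensorSingle₀Iso X (ModuleCat.of A Bf)).symm

/-- `RHom(A_f, W) ∈ D^{≤ -1}` for `W ∈ D^{≤ -2}` -/
lemma isLE_homR (T : DRing.Cx A) [T.IsKProjective] (eT : Q.obj T ≅ Dual.inD A Bf)
    (W : Dual.D A) [DerivedCategory.IsLE W (-2)] :
    DerivedCategory.IsLE ((homR T).obj W) (-1) := by
  let Z := Q.objPreimage W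
  let eZ : Q.obj Z ≅ W := Q.objObjPreimageIso W
  have e1 : (homR T).obj W ≅ Q.obj (DRing.homCx T Z) :=
    (homR T).mapIso eZ.symm ≪≫ (homRIso T).app Z
  haveI : (DRing.homCx T Z).IsLE (-1) := by
    rw [CochainComplex.isLE_iff]
    intro i hi
    apply exactAt_homCx
    intro g
    have e' : Q.obj (Z⟦i⟧) ≅ W⟦i⟧ :=
      (Q.commShiftIso i).app Z ≪≫ (CategoryTheory.shiftFunctor (Dual.D A) i).mapIso eZ
    haveI : DerivedCategory.IsLE (W⟦i⟧) (-2) := by
      haveI : DerivedCategory.IsLE (W⟦i⟧) (-2 - i) :=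
        DerivedCategory.TStructure.t.isLE_shift W (-2) i (-2 - i) (by omega)
      exact DerivedCategory.TStructure.t.isLE_of_le (W⟦i⟧) (-2 - i) (-2) (by omega)
    have h0 : eT.inv ≫ Q.map g ≫ e'.hom = 0 := eq_zero_of_away_of_isLE f (W⟦i⟧) _
    have h1 : Q.map g = Q.map (0 : T ⟶ Z⟦i⟧) := by
      rw [Functor.map_zero, ← cancel_epi eT.inv, ← cancel_mono e'.hom, Category.assoc, h0,
        comp_zero, zero_comp]
    have h2 := Groth.Agent.Lib.BaseCmp.quotient_map_eq_of_Q_map_eq g 0 h1
    rw [h2, Functor.map_zero]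
  exact isLE_of_iso' e1.symm (-1) inferInstance

/-- the localisation step of the amplitude induction -/
theorem subsingleton_hom_locCx (X : DRing.Cx A)
    (IH : ∀ (Y : Dual.D A), DerivedCategory.IsLE Y (-1) → ∀ (a : Q.obj X ⟶ Y), a = 0)
    (W : Dual.D A) [DerivedCategory.IsLE W (-2)] :
    Subsingleton (Q.obj ((DerCA.locCx (Submonoid.powers f)).obj X) ⟶ W) := by
  obtain ⟨T, π, hπ, hTp, hT, -⟩ :=
    Groth.Agent.Lib.KProjRes.exists_kproj_resolution (NB (A := A) (B := Bf))
  haveI := hπ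
  haveI := hTp
  haveI : IsIso (Q.map π) := (isIso_Q_map_iff_quasiIso (C := ModuleCat.{u} A) π).2 inferInstance
  have eT : Q.obj T ≅ Dual.inD A Bf := asIso (Q.map π) ≪≫ (singleIso (A := A) (B := Bf)).symm
  haveI : QuasiIso (X ◁ π) :=
    quasiIso_whiskerLeft T _ hT (kf_NB (Submonoid.powers f)) π X
  haveI : IsIso (Q.map (X ◁ π)) :=
    (isIso_Q_map_iff_quasiIso (C := ModuleCat.{u} A) (X ◁ π)).2 inferInstance
  have eY : (tenR T hT).obj (Q.obj X) ≅ Q.obj ((DerCA.locCx (Submonoid.powers f)).obj X) :=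
    (tenRIso T hT).app X ≪≫ asIso (Q.map (X ◁ π)) ≪≫ Q.mapIso (locCxNBIso f X).symm
  have hle := isLE_homR f T eT W
  haveI : Subsingleton (Q.obj X ⟶ (homR T).obj W) :=
    ⟨fun a b => by rw [IH _ hle a, IH _ hle b]⟩
  haveI : Subsingleton ((tenR T hT).obj (Q.obj X) ⟶ W) :=
    ((adjD T hT).homEquiv (Q.obj X) W).subsingleton
  exact (Iso.homCongr eY.symm (Iso.refl W)).subsingleton

end Loc

section Cech

/-- **`Hom_D(Č(fs), X) = 0` for `X ∈ D^{≤ -1}`** -/
theorem hom_cech_eq_zero_of_isLE : ∀ (fs : List A) (X : Dual.D A),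
    DerivedCategory.IsLE X (-1) →
    ∀ (a : Q.obj (DerCA.extCech (ModuleCat.of A A) fs) ⟶ X), a = 0
  | [], X, hX, a => by
    haveI := hX
    haveI : Projective (ModuleCat.of A A) := (IsProjective.iff_projective A).1 inferInstance
    exact eq_zero_of_single_projective (ModuleCat.of A A) X a
  | f :: fs, X, hX, a => by
    haveI := hX
    have hT := DerivedCategory.mappingCocone_triangle_distinguished
      (DerCA.locCxUnit (Submonoid.powers f) (DerCA.extCech (ModuleCat.of A A) fs))
    haveI : DerivedCategory.IsLE (X⟦(1 : ℤ)⟧) (-2) :=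
      DerivedCategory.TStructure.t.isLE_shift X (-1) 1 (-2) (by omega)
    have hs := subsingleton_hom_locCx f (DerCA.extCech (ModuleCat.of A A) fs)
      (fun Y hY b => hom_cech_eq_zero_of_isLE fs Y hY b) (X⟦(1 : ℤ)⟧)
    exact eq_zero_of_distinguished₁ _ hT X
      (fun b => hom_cech_eq_zero_of_isLE fs X hX b)
      (fun b => @Subsingleton.elim _ hs b 0) a

lemma isZero_biprod_of_isZero {X Y : ModuleCat.{u} A} (hX : IsZero X) (hY : IsZero Y) :
    IsZero (X ⊞ Y) := by
  rw [IsZero.iff_id_eq_zero]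
  apply biprod.hom_ext
  · exact hX.eq_of_tgt _ _
  · exact hY.eq_of_tgt _ _

/-- the extended Cech complex on `r` elements lives in degrees `≤ r` -/
lemma isStrictlyLE_extCech (M : ModuleCat.{u} A) :
    ∀ fs : List A, (DerCA.extCech M fs).IsStrictlyLE (fs.length : ℤ)
  | [] => inferInstanceAs
      (CochainComplex.IsStrictlyLE
        ((HomologicalComplex.single (ModuleCat.{u} A) (ComplexShape.up ℤ) 0).obj M) 0)
  | f :: fs => by
    haveI := isStrictlyLE_extCech M fs
    rw [CochainComplex.isStrictlyLE_iff]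
    intro i hi
    have hi' : (fs.length : ℤ) + 1 < i := by
      simpa [List.length_cons] using hi
    refine IsZero.of_iso ?_ (DerCA.mappingCoconeXIso
      (DerCA.locCxUnit (Submonoid.powers f) (DerCA.extCech M fs)) i)
    apply isZero_biprod_of_isZero
    · exact (DerCA.extCech M fs).isZero_of_isStrictlyLE (fs.length : ℤ) i (by omega)
    · exact (DerCA.locFunctor (Submonoid.powers f)).map_isZero
        ((DerCA.extCech M fs).isZero_of_isStrictlyLE (fs.length : ℤ) (i - 1) (by omega))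

end Cech

section Amplitude

variable (fs : List A) [DRing.HasDerivedCompletion (Ideal.span {x : A | x ∈ fs})]

/-- vanishing of a cohomology module of the derived completion -/
theorem isZero_homology_completion (K : Dual.D A) (n : ℤ)
    (h : ∀ a : Q.obj (DerCA.extCech (ModuleCat.of A A) fs) ⟶ K⟦n⟧, a = 0) :
    IsZero ((DerivedCategory.homologyFunctor (ModuleCat.{u} A) n).obj
      ((DRing.derivedCompletion (Ideal.span {x : A | x ∈ fs})).obj K).obj) := by
  obtain ⟨J, hJ, e, u, hdc, huniv⟩ := exists_completion fs K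
  haveI := hJ
  obtain ⟨iso⟩ := nonempty_iso_of_universal
    (DRing.IsDerivedComplete (Ideal.span {x : A | x ∈ fs}))
    (DRing.derivedCompletionAdj (Ideal.span {x : A | x ∈ fs})) K _ hdc u huniv
  have hex : (DRing.homCx (DerCA.extCech (ModuleCat.of A A) fs) J).ExactAt n := by
    apply exactAt_homCx
    intro g
    apply quotient_map_eq_zero_of_kinj
    have e' : Q.obj (J⟦n⟧) ≅ K⟦n⟧ :=
      (Q.commShiftIso n).app J ≪≫ (CategoryTheory.shiftFunctor (Dual.D A) n).mapIso e.symm
    have h0 := h (Q.map g ≫ e'.hom)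
    rw [← cancel_mono e'.hom, h0, zero_comp]
  rw [HomologicalComplex.exactAt_iff_isZero_homology] at hex
  exact hex.of_iso ((DerivedCategory.homologyFunctor (ModuleCat.{u} A) n).mapIso iso ≪≫
    (DerivedCategory.homologyFunctorFactors (ModuleCat.{u} A) n).app _)

/-- **derived completion preserves `D^{≤ -1}`** -/
theorem completion_isLE (K : Dual.D A) [DerivedCategory.IsLE K (-1)] :
    DerivedCategory.IsLE
      ((DRing.derivedCompletion (Ideal.span {x : A | x ∈ fs})).obj K).obj (-1) := by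
  rw [DerivedCategory.isLE_iff]
  intro i hi
  apply isZero_homology_completion fs K i
  intro a
  have hle : DerivedCategory.IsLE (K⟦i⟧) (-1) := by
    haveI : DerivedCategory.IsLE (K⟦i⟧) (-1 - i) :=
      DerivedCategory.TStructure.t.isLE_shift K (-1) i (-1 - i) (by omega)
    exact DerivedCategory.TStructure.t.isLE_of_le (K⟦i⟧) (-1 - i) (-1) (by omega)
  exact hom_cech_eq_zero_of_isLE fs (K⟦i⟧) hle a

/-- **derived completion sends `D^{≥ 0}` to `D^{≥ -r}`** -/
theorem completion_isGE (K : Dual.D A) [DerivedCategory.IsGE K 0] :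
    DerivedCategory.IsGE
      ((DRing.derivedCompletion (Ideal.span {x : A | x ∈ fs})).obj K).obj
      (-(fs.length : ℤ)) := by
  rw [DerivedCategory.isGE_iff]
  intro i hi
  apply isZero_homology_completion fs K i
  intro a
  haveI : (DerCA.extCech (ModuleCat.of A A) fs).IsStrictlyLE (fs.length : ℤ) :=
    isStrictlyLE_extCech (ModuleCat.of A A) fs
  haveI : DerivedCategory.IsGE (K⟦i⟧) (-i) :=
    DerivedCategory.TStructure.t.isGE_shift K 0 i (-i) (by omega)
  exact DerivedCategory.TStructure.t.zero a (fs.length : ℤ) (-i) (by omega)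

end Amplitude

section Triangle

variable (I : Ideal A) [DRing.HasDerivedCompletion I]

/-- **the derived completion of a distinguished triangle** -/
theorem exists_completion_triangle {K L : Dual.D A} (φ : K ⟶ L) (M : Dual.D A) (α : L ⟶ M)
    (β : M ⟶ K⟦(1 : ℤ)⟧) (hT : Triangle.mk φ α β ∈ distTriang (Dual.D A)) :
    ∃ (M' : Dual.D A) (α' : ((DRing.derivedCompletion I).obj L).obj ⟶ M')
      (β' : M' ⟶ (((DRing.derivedCompletion I).obj K).obj)⟦(1 : ℤ)⟧),
      Triangle.mk ((DRing.derivedCompletion I).map φ).hom α' β' ∈ distTriang (Dual.D A) ∧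
      Nonempty (((DRing.derivedCompletion I).obj M).obj ≅ M') := by
  obtain ⟨M', α', β', hT'⟩ :=
    distinguished_cocone_triangle ((DRing.derivedCompletion I).map φ).hom
  refine ⟨M', α', β', hT', ?_⟩
  have comm : φ ≫ DRing.toDerivedCompletion I L =
      DRing.toDerivedCompletion I K ≫ ((DRing.derivedCompletion I).map φ).hom :=
    (DRing.derivedCompletionAdj I).unit.naturality φ
  obtain ⟨w, hw1, hw2⟩ := complete_distinguished_triangle_morphism _ _ hT hT'
    (DRing.toDerivedCompletion I K) (DRing.toDerivedCompletion I L) comm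
  have hM' : DRing.IsDerivedComplete I M' :=
    isDerivedComplete_of_distinguished I _ hT' ((DRing.derivedCompletion I).obj K).property
      ((DRing.derivedCompletion I).obj L).property
  refine nonempty_iso_of_universal (DRing.IsDerivedComplete I) (DRing.derivedCompletionAdj I)
    M M' hM' w ?_
  intro E hE
  have hE1 : DRing.IsDerivedComplete I (E⟦(-1 : ℤ)⟧) := isDerivedComplete_shift I E hE (-1)
  exact bijective_precomp_of_triangles _ _ hT hT' (DRing.toDerivedCompletion I K)
    (DRing.toDerivedCompletion I L) w comm hw1 hw2 E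
    (bijective_unit_precomp _ (DRing.derivedCompletionAdj I) K E hE).1
    (bijective_unit_precomp _ (DRing.derivedCompletionAdj I) L E hE)
    (bijective_shift_precomp _ E
      (bijective_unit_precomp _ (DRing.derivedCompletionAdj I) K _ hE1))
    (bijective_shift_precomp _ E
      (bijective_unit_precomp _ (DRing.derivedCompletionAdj I) L _ hE1)).2

end Triangle

section Main

variable (fs : List A) [DRing.HasDerivedCompletion (Ideal.span {x : A | x ∈ fs})]

theorem completion_map_pos {K L : Dual.D A} (φ : K ⟶ L)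
    (hiso : ∀ i : ℤ, 1 ≤ i → IsIso ((DerivedCategory.homologyFunctor (ModuleCat.{u} A) i).map φ))
    (hepi : Epi ((DerivedCategory.homologyFunctor (ModuleCat.{u} A) 0).map φ)) :
    (∀ i : ℤ, 1 ≤ i → IsIso ((DerivedCategory.homologyFunctor (ModuleCat.{u} A) i).map
        ((DRing.derivedCompletion (Ideal.span {x : A | x ∈ fs})).map φ).hom)) ∧
      Epi ((DerivedCategory.homologyFunctor (ModuleCat.{u} A) 0).map
        ((DRing.derivedCompletion (Ideal.span {x : A | x ∈ fs})).map φ).hom) := by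
  obtain ⟨M, α, β, hT⟩ := distinguished_cocone_triangle φ
  haveI : DerivedCategory.IsLE M (-1) := by
    rw [DerivedCategory.isLE_iff]
    intro i hi
    have hex := DerivedCategory.HomologySequence.exact₃ _ hT i (i + 1) rfl
    have hepi_i : Epi ((DerivedCategory.homologyFunctor (ModuleCat.{u} A) i).map φ) := by
      by_cases h0 : i = 0
      · subst h0
        exact hepi
      · haveI := hiso i (by omega)
        infer_instance
    have h1 : (DerivedCategory.homologyFunctor (ModuleCat.{u} A) i).map α = 0 :=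
      (DerivedCategory.HomologySequence.epi_homologyMap_mor₁_iff _ hT i).1 hepi_i
    have hm : Mono ((DerivedCategory.homologyFunctor (ModuleCat.{u} A) (i + 1)).map φ) := by
      haveI := hiso (i + 1) (by omega)
      infer_instance
    have h2 : DerivedCategory.HomologySequence.δ (Triangle.mk φ α β) i (i + 1) rfl = 0 :=
      (DerivedCategory.HomologySequence.mono_homologyMap_mor₁_iff _ hT i (i + 1) rfl).1 hm
    exact hex.isZero_of_both_zeros h1 h2
  obtain ⟨M', α', β', hT', ⟨eM⟩⟩ := exists_completion_triangle (Ideal.span {x : A | x ∈ fs}) φ M α β hT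
  have hM' : DerivedCategory.IsLE M' (-1) := isLE_of_iso' eM (-1) (completion_isLE fs M)
  have hz : ∀ i : ℤ, 0 ≤ i →
      IsZero ((DerivedCategory.homologyFunctor (ModuleCat.{u} A) i).obj M') :=
    fun i hi => (DerivedCategory.isLE_iff M' (-1)).1 hM' i (by omega)
  constructor
  · intro i hi
    haveI : Mono ((DerivedCategory.homologyFunctor (ModuleCat.{u} A) i).map
        ((DRing.derivedCompletion (Ideal.span {x : A | x ∈ fs})).map φ).hom) :=
      (DerivedCategory.HomologySequence.mono_homologyMap_mor₁_iff _ hT' (i - 1) i (by omega)).2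
        ((hz (i - 1) (by omega)).eq_of_src _ _)
    haveI : Epi ((DerivedCategory.homologyFunctor (ModuleCat.{u} A) i).map
        ((DRing.derivedCompletion (Ideal.span {x : A | x ∈ fs})).map φ).hom) :=
      (DerivedCategory.HomologySequence.epi_homologyMap_mor₁_iff _ hT' i).2
        ((hz i (by omega)).eq_of_tgt _ _)
    exact isIso_of_mono_of_epi _
  · exact (DerivedCategory.HomologySequence.epi_homologyMap_mor₁_iff _ hT' 0).2
      ((hz 0 le_rfl).eq_of_tgt _ _)

theorem completion_map_neg {K L : Dual.D A} (φ : K ⟶ L)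
    (hiso : ∀ i : ℤ, i ≤ -1 → IsIso ((DerivedCategory.homologyFunctor (ModuleCat.{u} A) i).map φ))
    (hmono : Mono ((DerivedCategory.homologyFunctor (ModuleCat.{u} A) 0).map φ)) :
    (∀ i : ℤ, i ≤ -(fs.length : ℤ) - 1 →
        IsIso ((DerivedCategory.homologyFunctor (ModuleCat.{u} A) i).map
          ((DRing.derivedCompletion (Ideal.span {x : A | x ∈ fs})).map φ).hom)) ∧
      Mono ((DerivedCategory.homologyFunctor (ModuleCat.{u} A) (-(fs.length : ℤ))).map
        ((DRing.derivedCompletion (Ideal.span {x : A | x ∈ fs})).map φ).hom) := by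
  obtain ⟨M, α, β, hT⟩ := distinguished_cocone_triangle φ
  haveI : DerivedCategory.IsGE M 0 := by
    rw [DerivedCategory.isGE_iff]
    intro i hi
    have hex := DerivedCategory.HomologySequence.exact₃ _ hT i (i + 1) rfl
    have hmono_i : Mono ((DerivedCategory.homologyFunctor (ModuleCat.{u} A) (i + 1)).map φ) := by
      by_cases h0 : i + 1 = 0
      · rw [h0]
        exact hmono
      · haveI := hiso (i + 1) (by omega)
        infer_instance
    have he : Epi ((DerivedCategory.homologyFunctor (ModuleCat.{u} A) i).map φ) := by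
      haveI := hiso i (by omega)
      infer_instance
    have h1 : (DerivedCategory.homologyFunctor (ModuleCat.{u} A) i).map α = 0 :=
      (DerivedCategory.HomologySequence.epi_homologyMap_mor₁_iff _ hT i).1 he
    have h2 : DerivedCategory.HomologySequence.δ (Triangle.mk φ α β) i (i + 1) rfl = 0 :=
      (DerivedCategory.HomologySequence.mono_homologyMap_mor₁_iff _ hT i (i + 1) rfl).1 hmono_i
    exact hex.isZero_of_both_zeros h1 h2
  obtain ⟨M', α', β', hT', ⟨eM⟩⟩ := exists_completion_triangle (Ideal.span {x : A | x ∈ fs}) φ M α β hT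
  have hM' : DerivedCategory.IsGE M' (-(fs.length : ℤ)) :=
    isGE_of_iso' eM (-(fs.length : ℤ)) (completion_isGE fs M)
  have hz : ∀ i : ℤ, i < -(fs.length : ℤ) →
      IsZero ((DerivedCategory.homologyFunctor (ModuleCat.{u} A) i).obj M') :=
    fun i hi => (DerivedCategory.isGE_iff M' (-(fs.length : ℤ))).1 hM' i hi
  constructor
  · intro i hi
    haveI : Mono ((DerivedCategory.homologyFunctor (ModuleCat.{u} A) i).map
        ((DRing.derivedCompletion (Ideal.span {x : A | x ∈ fs})).map φ).hom) :=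
      (DerivedCategory.HomologySequence.mono_homologyMap_mor₁_iff _ hT' (i - 1) i (by omega)).2
        ((hz (i - 1) (by omega)).eq_of_src _ _)
    haveI : Epi ((DerivedCategory.homologyFunctor (ModuleCat.{u} A) i).map
        ((DRing.derivedCompletion (Ideal.span {x : A | x ∈ fs})).map φ).hom) :=
      (DerivedCategory.HomologySequence.epi_homologyMap_mor₁_iff _ hT' i).2
        ((hz i (by omega)).eq_of_tgt _ _)
    exact isIso_of_mono_of_epi _
  · exact (DerivedCategory.HomologySequence.mono_homologyMap_mor₁_iff _ hT'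
        (-(fs.length : ℤ) - 1) (-(fs.length : ℤ)) (by omega)).2
      ((hz (-(fs.length : ℤ) - 1) (by omega)).eq_of_src _ _)

end Main

end Groth.Agent.Lib.DerCompl
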