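import Mathlib
import Groth.Prelude.Def_DRing2
import Groth.Prelude.Def_DDual2
import Groth.Agent.Lib.DMod50_helper6

/-!
# Derived category toolkit (helper6), part 52: trimming a complex from above (canonical truncation
`τ_{≤ c}` as a subcomplex), kernels in complexes exact above a degree, and the characterisation of
perfect amplitude `[m, n]` as `(m-1)`-pseudo-coherent + tor amplitude `[m, n]` (S5611).
-/

set_option autoImplicit false
universe u
open CategoryTheory CategoryTheory.Limits Pretriangulated DerivedCategory ZeroObject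
attribute [local instance] HasDerivedCategory.standard

namespace Groth.Agent.Lib.DMod_helper6

open DRing CochainComplex

variable {A : Type u} [CommRing A]

lemma quotCx_exactAt_of_forall (E : Cx A) (N : ∀ i, Submodule A (E.X i))
    (hN : ∀ i j, N i ≤ (N j).comap (E.d i j).hom) (i j k : ℤ) (hij : i + 1 = j)
    (hjk : j + 1 = k)
    (h : ∀ y : E.X j, (E.d j k).hom y ∈ N k → ∃ x : E.X i, (E.d i j).hom x - y ∈ N j) :
    (quotCx E N hN).ExactAt j := by
  refine exactAt_of_forall _ i j k hij hjk (fun y hy => ?_)
  obtain ⟨p, rfl⟩ := Submodule.mkQ_surjective (N j) y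
  have hy' : (Submodule.Quotient.mk ((E.d j k).hom p) : E.X k ⧸ N k) = 0 := hy
  have hp : (E.d j k).hom p ∈ N k := (Submodule.Quotient.mk_eq_zero _).1 hy'
  obtain ⟨x, hx⟩ := h p hp
  refine ⟨(Submodule.Quotient.mk x : E.X i ⧸ N i), ?_⟩
  show (Submodule.Quotient.mk ((E.d i j).hom x) : E.X j ⧸ N j) = Submodule.Quotient.mk p
  exact (Submodule.Quotient.eq _).2 hx

/-! ### the subcomplex `… → P^{c-1} → Z^c → 0` -/

/-- submodules defining the subcomplex `… → P^{c-1} → Z^c → 0` -/
def topN (P : Cx A) (c : ℤ) (i : ℤ) : Submodule A (P.X i) :=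
  if i < c then ⊤ else if i = c then LinearMap.ker (P.d i (c + 1)).hom else ⊥

lemma topN_of_lt (P : Cx A) (c i : ℤ) (h : i < c) : topN P c i = ⊤ := if_pos h

lemma topN_self (P : Cx A) (c : ℤ) : topN P c c = LinearMap.ker (P.d c (c + 1)).hom := by
  unfold topN
  rw [if_neg (lt_irrefl c), if_pos rfl]

lemma topN_of_gt (P : Cx A) (c i : ℤ) (h : c < i) : topN P c i = ⊥ := by
  unfold topN
  rw [if_neg (by omega), if_neg (by omega)]

lemma topN_stable (P : Cx A) (c : ℤ) (i j : ℤ) :
    topN P c i ≤ (topN P c j).comap (P.d i j).hom := by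
  by_cases hij : (ComplexShape.up ℤ).Rel i j
  · have hij' : i + 1 = j := hij
    rcases lt_trichotomy j c with hj | hj | hj
    · rw [topN_of_lt P c j hj]
      intro x _
      exact Submodule.mem_top
    · subst hj
      rw [topN_self]
      intro x _
      show (P.d i j).hom x ∈ LinearMap.ker (P.d j (j + 1)).hom
      rw [LinearMap.mem_ker]
      exact LinearMap.congr_fun (congrArg ModuleCat.Hom.hom (P.d_comp_d i j (j + 1))) x
    · rw [topN_of_gt P c j hj]
      by_cases hi : c < i
      · rw [topN_of_gt P c i hi]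
        intro x hx
        rw [Submodule.mem_bot] at hx
        show (P.d i j).hom x ∈ (⊥ : Submodule A (P.X j))
        rw [hx, map_zero]
        exact Submodule.zero_mem _
      · obtain rfl : i = c := by omega
        obtain rfl : j = i + 1 := by omega
        rw [topN_self]
        intro x hx
        show (P.d i (i + 1)).hom x ∈ (⊥ : Submodule A (P.X (i + 1)))
        rw [Submodule.mem_bot]
        exact LinearMap.mem_ker.1 hx
  · intro x _
    show (P.d i j).hom x ∈ topN P c j
    rw [P.shape i j hij]
    exact Submodule.zero_mem _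

lemma quotCx_topN_exactAt (P : Cx A) (c : ℤ) (hex : ∀ i, c < i → P.ExactAt i) (i : ℤ) :
    (quotCx P (topN P c) (topN_stable P c)).ExactAt i := by
  refine quotCx_exactAt_of_forall _ _ _ (i - 1) i (i + 1) (by omega) rfl (fun y hy => ?_)
  rcases lt_trichotomy i c with hi | hi | hi
  · refine ⟨0, ?_⟩
    rw [topN_of_lt P c i hi]
    exact Submodule.mem_top
  · subst hi
    rw [topN_of_gt P i (i + 1) (by omega), Submodule.mem_bot] at hy
    refine ⟨0, ?_⟩
    rw [map_zero, zero_sub, topN_self]
    exact Submodule.neg_mem _ (LinearMap.mem_ker.2 hy)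
  · rw [topN_of_gt P c (i + 1) (by omega), Submodule.mem_bot] at hy
    obtain ⟨x, hx⟩ := exists_d_eq_of_exactAt P (i - 1) i (i + 1) (by omega) rfl (hex i hi) y hy
    refine ⟨x, ?_⟩
    rw [hx, sub_self]
    exact Submodule.zero_mem _

/-- canonical truncation `τ_{≤ c}` of a complex exact above `c`, with an explicit description of
its terms -/
theorem exists_top_trunc (P : Cx A) (c : ℤ) (hex : ∀ i, c < i → P.ExactAt i) :
    ∃ (T : Cx A) (ι : T ⟶ P), IsIso (Q.map ι) ∧ (∀ i, c < i → IsZero (T.X i)) ∧
      (∀ i, i < c → Nonempty (T.X i ≅ P.X i)) ∧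
      Nonempty (T.X c ≅ ModuleCat.of A (LinearMap.ker (P.d c (c + 1)).hom)) := by
  have hS := subQuot_shortExact P (topN P c) (topN_stable P c)
  have hz : IsZero (toD (quotCx P (topN P c) (topN_stable P c))) :=
    isZero_toD_of_exactAt _ (quotCx_topN_exactAt P c hex)
  have hT := triangleOfSES_distinguished hS
  have hiso : IsIso (Q.map (subι P (topN P c) (topN_stable P c))) :=
    (Triangle.isZero₃_iff_isIso₁ (triangleOfSES hS) hT).1 hz
  refine ⟨subCx P (topN P c) (topN_stable P c), subι P _ _, hiso, ?_, ?_, ?_⟩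
  · intro i hi
    have : Subsingleton (topN P c i) := by
      rw [topN_of_gt P c i hi]
      infer_instance
    exact @ModuleCat.isZero_of_subsingleton _ _ (ModuleCat.of A (topN P c i)) this
  · intro i hi
    exact ⟨((LinearEquiv.ofEq _ _ (topN_of_lt P c i hi)).trans Submodule.topEquiv).toModuleIso⟩
  · exact ⟨(LinearEquiv.ofEq _ _ (topN_self P c)).toModuleIso⟩

/-! ### kernels in a bounded above complex which is exact above a degree -/

/-- Generic descending induction: in a bounded above complex, exact in degrees `> c`, whose terms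
satisfy a property `PP` stable under kernels of surjections, all the kernels `Z^i`, `i ≥ c`,
satisfy `PP`. -/
theorem ker_prop_of_exact_above
    (PP : ∀ (M : Type u) [AddCommGroup M] [Module A M], Prop)
    (h0 : ∀ (M : Type u) [AddCommGroup M] [Module A M], Subsingleton M → PP M)
    (hker : ∀ (M M'' : Type u) [AddCommGroup M] [Module A M] [AddCommGroup M'']
      [Module A M''] (g : M →ₗ[A] M''), Function.Surjective g → PP M → PP M'' →
      PP (LinearMap.ker g))
    (P : Cx A) (b c : ℤ) (hb : VanishesAbove P b) (hP : ∀ i, PP (P.X i))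
    (hex : ∀ i, c < i → P.ExactAt i) :
    ∀ (n : ℕ) (i : ℤ), c ≤ i → b < i + (n : ℤ) → PP (LinearMap.ker (P.d i (i + 1)).hom) := by
  intro n
  induction n with
  | zero =>
    intro i _ hi
    haveI : Subsingleton (P.X i) :=
      ModuleCat.subsingleton_of_isZero (hb i (by push_cast at hi; omega))
    exact h0 _ inferInstance
  | succ n ih =>
    intro i hci hi
    have h1 := ih (i + 1) (by omega) (by push_cast at hi ⊢; omega)
    have hdd : ∀ x, (P.d i (i + 1)).hom x ∈ LinearMap.ker (P.d (i + 1) (i + 1 + 1)).hom := by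
      intro x
      rw [LinearMap.mem_ker]
      exact LinearMap.congr_fun (congrArg ModuleCat.Hom.hom (P.d_comp_d i (i + 1) (i + 1 + 1))) x
    let g : P.X i →ₗ[A] LinearMap.ker (P.d (i + 1) (i + 1 + 1)).hom :=
      (P.d i (i + 1)).hom.codRestrict _ hdd
    have hg : Function.Surjective g := by
      rintro ⟨y, hy⟩
      obtain ⟨x, hx⟩ := exists_d_eq_of_exactAt P i (i + 1) (i + 1 + 1) rfl rfl
        (hex (i + 1) (by omega)) y (LinearMap.mem_ker.1 hy)
      exact ⟨x, Subtype.ext hx⟩
    have h2 := hker _ _ g hg (hP i) h1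
    have hk : LinearMap.ker g = LinearMap.ker (P.d i (i + 1)).hom :=
      LinearMap.ker_codRestrict _ _ _
    rw [hk] at h2
    exact h2

lemma finite_projective_ker {M M'' : Type u} [AddCommGroup M] [Module A M] [AddCommGroup M'']
    [Module A M''] (g : M →ₗ[A] M'') (hg : Function.Surjective g)
    (hM : Module.Finite A M ∧ Module.Projective A M)
    (hM'' : Module.Finite A M'' ∧ Module.Projective A M'') :
    Module.Finite A (LinearMap.ker g) ∧ Module.Projective A (LinearMap.ker g) := by
  haveI := hM.1
  haveI := hM.2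
  haveI := hM''.2
  obtain ⟨s, hs⟩ := Module.projective_lifting_property g LinearMap.id hg
  have hgs : ∀ y, g (s y) = y := fun y => LinearMap.congr_fun hs y
  let r : M →ₗ[A] LinearMap.ker g := (LinearMap.id - s ∘ₗ g).codRestrict _ (fun x => by
    rw [LinearMap.mem_ker]
    simp [hgs])
  have hr : r ∘ₗ (LinearMap.ker g).subtype = LinearMap.id := by
    apply LinearMap.ext
    rintro ⟨x, hx⟩
    apply Subtype.ext
    have hx' : g x = 0 := LinearMap.mem_ker.1 hx
    simp [r, hx']
  refine ⟨Module.Finite.of_surjective r ?_,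
    Module.Projective.of_split (LinearMap.ker g).subtype r hr⟩
  intro y
  exact ⟨y.1, LinearMap.congr_fun hr y⟩

lemma flat_ker {M M'' : Type u} [AddCommGroup M] [Module A M] [AddCommGroup M'']
    [Module A M''] (g : M →ₗ[A] M'') (hg : Function.Surjective g)
    (hM : Module.Flat A M) (hM'' : Module.Flat A M'') : Module.Flat A (LinearMap.ker g) :=
  flat_of_flat_of_flat_coker (LinearMap.ker g).subtype g (Submodule.injective_subtype _)
    (LinearMap.exact_subtype_ker_map g) hg

/-- Trimming from above a bounded complex of finite projective modules which is exact above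
`c`. -/
theorem exists_finite_projective_top_trunc (P : Cx A) (a b c : ℤ) (hP : VanishesOutside P a b)
    (hfp : TermwiseFiniteProjective P) (hex : ∀ i, c < i → P.ExactAt i) :
    ∃ T : Cx A, VanishesOutside T a c ∧ TermwiseFiniteProjective T ∧
      Nonempty (toD T ≅ toD P) := by
  obtain ⟨T, ι, hι, hT0, hT1, ⟨eT⟩⟩ := exists_top_trunc P c hex
  have hker : Module.Finite A (LinearMap.ker (P.d c (c + 1)).hom) ∧
      Module.Projective A (LinearMap.ker (P.d c (c + 1)).hom) :=
    ker_prop_of_exact_above
      (fun (M : Type u) [AddCommGroup M] [Module A M] =>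
        Module.Finite A M ∧ Module.Projective A M)
      (fun M _ _ hM => by
        haveI := hM
        exact ⟨Module.Finite.of_finite, inferInstance⟩)
      (fun M M'' _ _ _ _ g hg h1 h2 => finite_projective_ker g hg h1 h2)
      P b c (fun i hi => hP i (Or.inr hi)) hfp hex (b + 1 - c).toNat c le_rfl (by omega)
  haveI := hι
  refine ⟨T, ?_, ?_, ⟨asIso (Q.map ι)⟩⟩
  · rintro i (hi | hi)
    · rcases lt_trichotomy i c with h | h | h
      · obtain ⟨e⟩ := hT1 i h
        exact IsZero.of_iso (hP i (Or.inl hi)) e
      · subst h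
        haveI : Subsingleton (P.X i) := ModuleCat.subsingleton_of_isZero (hP i (Or.inl hi))
        have : Subsingleton (LinearMap.ker (P.d i (i + 1)).hom) := inferInstance
        exact IsZero.of_iso (@ModuleCat.isZero_of_subsingleton _ _
          (ModuleCat.of A (LinearMap.ker (P.d i (i + 1)).hom)) this) eT
      · exact hT0 i h
    · exact hT0 i hi
  · intro i
    rcases lt_trichotomy i c with h | h | h
    · obtain ⟨e⟩ := hT1 i h
      exact ⟨finite_of_iso e.symm (hfp i).1, projective_of_iso e.symm (hfp i).2⟩
    · subst h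
      exact ⟨finite_of_iso eT.symm hker.1, projective_of_iso eT.symm hker.2⟩
    · obtain ⟨h1, h2⟩ := finite_free_of_isZero (hT0 i h)
      haveI := h2
      exact ⟨h1, inferInstance⟩

/-! ### `c`-pseudo-coherent + tor amplitude `[c+1, n]` implies perfect -/

/-- A `c`-pseudo-coherent object of tor amplitude `[c + 1, n]` is represented by a bounded complex
of finite projective modules vanishing below `c + 1`. -/
theorem exists_finite_projective_of_pcm_of_torAmp (K : Dual.D A) (c n : ℤ)
    (hpc : IsPseudoCoherent A c K) (hamp : HasTorAmplitudeIn A (c + 1) n K) :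
    ∃ (T : Cx A) (b' : ℤ), VanishesOutside T (c + 1) b' ∧ TermwiseFiniteProjective T ∧
      Nonempty (toD T ≅ K) := by
  obtain ⟨E, a, b, α, hab, hff, hiso, _⟩ := hpc
  have hS := subQuot_shortExact E (splitN E c) (splitN_stable E c)
  have hT := triangleOfSES_distinguished hS
  have hSle : DerivedCategory.IsLE (toD (splitS E c)) c := by
    rw [DerivedCategory.isLE_iff]
    intro i hi
    exact isZero_homology_toD_of_exactAt _ i
      (subCx_splitN_exactAt' E c i (fun h => absurd h (by omega)))
  have hKge : DerivedCategory.IsGE K (c + 1) :=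
    isGE_of_subsingleton_HD K (c + 1)
      (fun i hi => subsingleton_HD_of_hasTorAmplitudeIn K (c + 1) n hamp i (Or.inl hi))
  have hzero : Q.map (subι E (splitN E c) (splitN_stable E c)) ≫ α = 0 :=
    TStructure.t.zero_of_isLE_of_isGE _ c (c + 1) (by omega) hSle hKge
  obtain ⟨β, hβ⟩ : ∃ β : toD (splitT E c) ⟶ K,
      α = Q.map (quotπ E (splitN E c) (splitN_stable E c)) ≫ β :=
    Triangle.yoneda_exact₂ (triangleOfSES hS) hT α hzero
  have hβiso : IsIso β := by
    rw [DerivedCategory.isIso_iff]
    intro i
    by_cases hi : i ≤ c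
    · have h1 : IsZero ((DerivedCategory.homologyFunctor (ModuleCat.{u} A) i).obj
          (toD (splitT E c))) :=
        isZero_homology_toD_of_exactAt _ i (exactAt_of_isZero_X _ i (splitT_isZero E c i hi))
      have h2 : IsZero ((DerivedCategory.homologyFunctor (ModuleCat.{u} A) i).obj K) :=
        DerivedCategory.isZero_of_isGE K (c + 1) i (by omega)
      exact ⟨⟨0, h1.eq_of_src _ _, h2.eq_of_src _ _⟩⟩
    · have hi' : c < i := by omega
      haveI := hiso i hi'
      haveI hmono : Mono ((DerivedCategory.homologyFunctor (ModuleCat.{u} A) i).map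
          (triangleOfSES hS).mor₂) :=
        (HomologySequence.mono_homologyMap_mor₂_iff _ hT i).2
          ((DerivedCategory.isZero_of_isLE (toD (splitS E c)) c i hi').eq_of_src _ _)
      haveI hepi : Epi ((DerivedCategory.homologyFunctor (ModuleCat.{u} A) i).map
          (triangleOfSES hS).mor₂) :=
        (HomologySequence.epi_homologyMap_mor₂_iff _ hT i (i + 1) rfl).2
          ((DerivedCategory.isZero_of_isLE (toD (splitS E c)) c (i + 1) (by omega)).eq_of_tgt _ _)
      haveI hπ : IsIso ((DerivedCategory.homologyFunctor (ModuleCat.{u} A) i).map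
          (Q.map (quotπ E (splitN E c) (splitN_stable E c)))) :=
        isIso_of_mono_of_epi ((DerivedCategory.homologyFunctor (ModuleCat.{u} A) i).map
          (triangleOfSES hS).mor₂)
      have hcomp : (DerivedCategory.homologyFunctor (ModuleCat.{u} A) i).map α =
          (DerivedCategory.homologyFunctor (ModuleCat.{u} A) i).map
            (Q.map (quotπ E (splitN E c) (splitN_stable E c))) ≫
          (DerivedCategory.homologyFunctor (ModuleCat.{u} A) i).map β := by
        rw [hβ, Functor.map_comp]
      haveI : IsIso ((DerivedCategory.homologyFunctor (ModuleCat.{u} A) i).map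
            (Q.map (quotπ E (splitN E c) (splitN_stable E c))) ≫
          (DerivedCategory.homologyFunctor (ModuleCat.{u} A) i).map β) := by
        rw [← hcomp]
        infer_instance
      exact IsIso.of_isIso_comp_left ((DerivedCategory.homologyFunctor (ModuleCat.{u} A) i).map
        (Q.map (quotπ E (splitN E c) (splitN_stable E c)))) _
  haveI := hβiso
  have hE'0 : ∀ i, i ≤ c → IsZero ((splitT E c).X i) := splitT_isZero E c
  have hE'b : ∀ i, b < i → IsZero ((splitT E c).X i) := fun i hi =>
    splitT_isZero_of_isZero E c i (hab i (Or.inr hi))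
  have hampE' : HasTorAmplitudeIn A (c + 1) (max b n) (toD (splitT E c)) :=
    hasTorAmplitudeIn_of_iso (asIso β).symm _ _
      (hasTorAmplitudeIn_mono K (c + 1) n (c + 1) (max b n) le_rfl (le_max_right _ _) hamp)
  -- the brutal truncation of `E' = splitT E c` in degrees `≥ c + 2`
  have hS₂ := subQuot_shortExact (splitT E c) (truncN (splitT E c) (c + 2))
    (truncN_le (splitT E c) (c + 2))
  have hT₂ := triangleOfSES_distinguished hS₂
  have h1 : HasTorAmplitudeIn A (c + 1 + 1) (max b n + 1)
      (toD (subCx (splitT E c) (truncN (splitT E c) (c + 2))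
        (truncN_le (splitT E c) (c + 2)))) := by
    refine ⟨_, ?_, ?_, ⟨Iso.refl _⟩⟩
    · rintro i (hi | hi)
      · have : Subsingleton (truncN (splitT E c) (c + 2) i) := by
          rw [truncN_of_lt (splitT E c) (c + 2) i (by omega)]
          infer_instance
        exact @ModuleCat.isZero_of_subsingleton _ _
          (ModuleCat.of A (truncN (splitT E c) (c + 2) i)) this
      · haveI : Subsingleton ((splitT E c).X i) :=
          ModuleCat.subsingleton_of_isZero (hE'b i (by have := le_max_left b n; omega))
        have : Subsingleton (truncN (splitT E c) (c + 2) i) := inferInstance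
        exact @ModuleCat.isZero_of_subsingleton _ _
          (ModuleCat.of A (truncN (splitT E c) (c + 2) i)) this
    · intro i
      show Module.Flat A (truncN (splitT E c) (c + 2) i)
      by_cases hi : c + 2 ≤ i
      · rw [truncN_of_le (splitT E c) (c + 2) i hi]
        obtain ⟨e'⟩ := splitT_iso E c i (by omega)
        haveI := (hff i).2
        haveI : Module.Flat A ((splitT E c).X i) := Module.Flat.of_linearEquiv e'.toLinearEquiv
        exact Module.Flat.of_linearEquiv Submodule.topEquiv
      · rw [truncN_of_lt (splitT E c) (c + 2) i (by omega)]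
        infer_instance
  have h3 : HasTorAmplitudeIn A (c + 1) (max b n)
      (toD (quotCx (splitT E c) (truncN (splitT E c) (c + 2))
        (truncN_le (splitT E c) (c + 2)))) :=
    hasTorAmplitudeIn_cone (triangleOfSES hS₂) hT₂ (c + 1) (max b n) h1 hampE'
  obtain ⟨F, hF, hFf, ⟨eF⟩⟩ := h3
  have hQ₂z : ∀ i, i ≠ c + 1 → IsZero ((quotCx (splitT E c) (truncN (splitT E c) (c + 2))
        (truncN_le (splitT E c) (c + 2))).X i) := by
    intro i hi
    rcases lt_or_gt_of_ne hi with h | h
    · haveI : Subsingleton ((splitT E c).X i) :=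
        ModuleCat.subsingleton_of_isZero (hE'0 i (by omega))
      have : Subsingleton ((splitT E c).X i ⧸ truncN (splitT E c) (c + 2) i) :=
        (Submodule.mkQ_surjective _).subsingleton
      exact @ModuleCat.isZero_of_subsingleton _ _
        (ModuleCat.of A ((splitT E c).X i ⧸ truncN (splitT E c) (c + 2) i)) this
    · have : Subsingleton ((splitT E c).X i ⧸ truncN (splitT E c) (c + 2) i) := by
        refine subsingleton_of_forall_eq 0 (fun y => ?_)
        obtain ⟨x, rfl⟩ := Submodule.mkQ_surjective _ y
        exact (Submodule.Quotient.mk_eq_zero _).2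
          (by rw [truncN_of_le (splitT E c) (c + 2) i (by omega)]; exact Submodule.mem_top)
      exact @ModuleCat.isZero_of_subsingleton _ _
        (ModuleCat.of A ((splitT E c).X i ⧸ truncN (splitT E c) (c + 2) i)) this
  have hFex : ∀ i, c + 1 < i → F.ExactAt i := fun i hi =>
    exactAt_of_iso_toD F _ eF i (exactAt_of_isZero_X _ i (hQ₂z i (by omega)))
  have hkerflat : Module.Flat A (LinearMap.ker (F.d (c + 1) (c + 1 + 1)).hom) :=
    ker_prop_of_exact_above
      (fun (M : Type u) [AddCommGroup M] [Module A M] => Module.Flat A M)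
      (fun M _ _ hM => by
        haveI := hM
        infer_instance)
      (fun M M'' _ _ _ _ g hg h1 h2 => flat_ker g hg h1 h2)
      F (max b n) (c + 1) (fun i hi => hF i (Or.inr hi)) hFf hFex
      (max b n + 1 - (c + 1)).toNat (c + 1) le_rfl (by omega)
  have hd1 : F.d c (c + 1) = 0 := (hF c (Or.inl (by omega))).eq_of_src _ _
  have hq1 : (quotCx (splitT E c) (truncN (splitT E c) (c + 2))
      (truncN_le (splitT E c) (c + 2))).d c (c + 1) = 0 := (hQ₂z c (by omega)).eq_of_src _ _
  have hq2 : (quotCx (splitT E c) (truncN (splitT E c) (c + 2))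
      (truncN_le (splitT E c) (c + 2))).d (c + 1) (c + 1 + 1) = 0 :=
    (hQ₂z (c + 1 + 1) (by omega)).eq_of_tgt _ _
  have iso : (quotCx (splitT E c) (truncN (splitT E c) (c + 2))
      (truncN_le (splitT E c) (c + 2))).X (c + 1) ≅
      ModuleCat.of A (LinearMap.ker (F.d (c + 1) (c + 1 + 1)).hom) :=
    (HomologicalComplex.iCyclesIso _ (c + 1) (c + 1 + 1) (by simp) hq2).symm ≪≫
      HomologicalComplex.isoHomologyπ _ c (c + 1) (by simp) hq1 ≪≫
      ((homologyFunctorFactors (ModuleCat.{u} A) (c + 1)).app _).symm ≪≫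
      (DerivedCategory.homologyFunctor _ (c + 1)).mapIso eF.symm ≪≫
      (homologyFunctorFactors (ModuleCat.{u} A) (c + 1)).app F ≪≫
      (F.isoHomologyπ c (c + 1) (by simp) hd1).symm ≪≫
      IsLimit.conePointUniqueUpToIso (F.cyclesIsKernel (c + 1) (c + 1 + 1) (by simp))
        (ModuleCat.kernelIsLimit (F.d (c + 1) (c + 1 + 1)))
  haveI := hkerflat
  have hflatQ : Module.Flat A
      ((splitT E c).X (c + 1) ⧸ truncN (splitT E c) (c + 2) (c + 1)) :=
    Module.Flat.of_linearEquiv iso.toLinearEquiv
  haveI := hflatQ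
  have hflatM : Module.Flat A (E.X (c + 1) ⧸ splitN E c (c + 1)) :=
    Module.Flat.of_linearEquiv (Submodule.quotEquivOfEqBot _
      (truncN_of_lt (splitT E c) (c + 2) (c + 1) (by omega))).symm
  have hprojM : Module.Finite A (E.X (c + 1) ⧸ splitN E c (c + 1)) ∧
      Module.Projective A (E.X (c + 1) ⧸ splitN E c (c + 1)) := by
    haveI := (hff (c + 1)).1
    haveI := (hff (c + 1)).2
    haveI := (hff c).1
    haveI : Module.FinitePresentation A (E.X (c + 1)) :=
      Module.finitePresentation_of_projective A _
    have hfp : Module.FinitePresentation A (E.X (c + 1) ⧸ splitN E c (c + 1)) := by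
      refine Module.finitePresentation_of_surjective (splitN E c (c + 1)).mkQ
        (Submodule.mkQ_surjective _) ?_
      rw [Submodule.ker_mkQ, splitN_succ, LinearMap.range_eq_map]
      exact (Module.Finite.fg_top).map _
    haveI := hfp
    haveI := hflatM
    exact ⟨Module.Finite.of_surjective (splitN E c (c + 1)).mkQ (Submodule.mkQ_surjective _),
      Module.Flat.projective_of_finitePresentation⟩
  refine ⟨splitT E c, b, ?_, ?_, ⟨asIso β⟩⟩
  · rintro i (hi | hi)
    · exact splitT_isZero E c i (by omega)
    · exact hE'b i hi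
  · intro i
    rcases lt_trichotomy i (c + 1) with h | h | h
    · obtain ⟨h1, h2⟩ := finite_free_of_isZero (splitT_isZero E c i (by omega))
      haveI := h2
      exact ⟨h1, inferInstance⟩
    · subst h
      exact hprojM
    · obtain ⟨e'⟩ := splitT_iso E c i h
      haveI := (hff i).2
      exact ⟨finite_of_iso e'.symm (hff i).1, projective_of_iso e'.symm inferInstance⟩

/-- S5611: perfect amplitude `[m, n]` = `(m-1)`-pseudo-coherent + tor amplitude `[m, n]`. -/
theorem pc_and_torAmp_iff_finite_projective (K : Dual.D A) (m n : ℤ) :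
    (IsPseudoCoherent A (m - 1) K ∧ HasTorAmplitudeIn A m n K) ↔
      ∃ E : Cx A, VanishesOutside E m n ∧ TermwiseFiniteProjective E ∧
        Nonempty (toD E ≅ K) := by
  constructor
  · rintro ⟨hpc, hamp⟩
    have hamp' : HasTorAmplitudeIn A (m - 1 + 1) n K := by
      rw [sub_add_cancel]
      exact hamp
    obtain ⟨T, b', hT, hTfp, ⟨e⟩⟩ :=
      exists_finite_projective_of_pcm_of_torAmp K (m - 1) n hpc hamp'
    rw [sub_add_cancel] at hT
    have hex : ∀ i, n < i → T.ExactAt i := fun i hi =>
      (exactAt_iff_subsingleton_HD e i).2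
        (subsingleton_HD_of_hasTorAmplitudeIn K m n hamp i (Or.inr hi))
    obtain ⟨T', hT', hT'fp, ⟨e'⟩⟩ := exists_finite_projective_top_trunc T m b' n hT hTfp hex
    exact ⟨T', hT', hT'fp, ⟨e' ≪≫ e⟩⟩
  · rintro ⟨E, hE, hfp, ⟨e⟩⟩
    refine ⟨?_, ⟨E, hE, fun i => by haveI := (hfp i).2; infer_instance, ⟨e⟩⟩⟩
    exact (isPseudoCoherent'_iff_forall K).1
      (isPseudoCoherent'_of_isPerfect K ⟨E, m, n, hE, hfp, ⟨e⟩⟩) (m - 1)

end Groth.Agent.Lib.DMod_helper6
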