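import Mathlib
import Groth.Prelude.Def_DRing2
import Groth.Prelude.Def_DDual2
import Groth.Agent.Lib.DMod52_helper6

/-!
# Derived category toolkit (helper6), part 53: derived base change preserves `m`-pseudo-coherence
(S2137) and related right t-exactness statements for bounded above objects.
-/

set_option autoImplicit false
universe u
open CategoryTheory CategoryTheory.Limits Pretriangulated DerivedCategory ZeroObject
attribute [local instance] HasDerivedCategory.standard

namespace Groth.Agent.Lib.DMod_helper6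

open DRing CochainComplex

variable {A B : Type u} [CommRing A] [CommRing B]

/-- the termwise extension of scalars of complexes -/
noncomputable abbrev ESc (φ : A →+* B) : Cx A ⥤ Cx B :=
  (ModuleCat.extendScalars.{u, u, u} φ).mapHomologicalComplex (ComplexShape.up ℤ)

/-- Derived base change is right t-exact on objects represented by bounded above flat complexes. -/
theorem isLE_toD_ESc_of_flat (φ : A →+* B) [HasLBaseChange φ] (W : Cx A) (b : ℤ)
    (hWb : VanishesAbove W b) (hWf : TermwiseFlat W) (n : ℤ)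
    [hW : DerivedCategory.IsLE (toD W) n] :
    DerivedCategory.IsLE (toD ((ESc φ).obj W)) n := by
  obtain ⟨R, hRfree, hRb, ⟨eR⟩⟩ := exists_free_resolution (toD W) n
  have hRf : TermwiseFlat R := fun i => by haveI := hRfree i; infer_instance
  obtain ⟨e1⟩ := nonempty_lBaseChange_iso_of_flat φ W b hWb hWf
  obtain ⟨e2⟩ := nonempty_lBaseChange_iso_of_flat φ R n hRb hRf
  have e3 : toD ((ESc φ).obj W) ≅ toD ((ESc φ).obj R) :=
    e1.symm ≪≫ (LBaseChange φ).mapIso eR.symm ≪≫ e2
  haveI : DerivedCategory.IsLE (toD ((ESc φ).obj R)) n :=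
    isLE_toD_of_vanishesAbove _ n
      (fun i hi => (ModuleCat.extendScalars.{u, u, u} φ).map_isZero (hRb i hi))
  exact TStructure.t.isLE_of_iso e3.symm n

/-- derived base change preserves `m`-pseudo-coherence (S2137) -/
theorem isPseudoCoherent_lBaseChange (φ : A →+* B) [HasLBaseChange φ] (K : Dual.D A) (m : ℤ)
    (hK : IsPseudoCoherent A m K) : IsPseudoCoherent B m ((LBaseChange φ).obj K) := by
  have hpc := (isPseudoCoherent_iff_pcmP m K).1 hK
  obtain ⟨N, hN⟩ := exists_isLE_of_pcmP m K hpc
  obtain ⟨X, Z, f, g, h, hT, ⟨E, ⟨a, b, hab, hff⟩, ⟨eX⟩⟩, hZ⟩ := hpc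
  haveI := hN
  obtain ⟨P, hPfree, hPb, ⟨eP⟩⟩ := exists_free_resolution K N
  have hEproj : ∀ i, Module.Projective A (E.X i) := fun i => by
    haveI := (hff i).2
    infer_instance
  have hPproj : ∀ i, Module.Projective A (P.X i) := fun i => by
    haveI := hPfree i
    infer_instance
  haveI : E.IsKProjective :=
    isKProjective_of_projective_bounded E b (fun i hi => hab i (Or.inr hi)) hEproj
  haveI : P.IsKProjective := isKProjective_of_projective_bounded P N hPb hPproj
  obtain ⟨γ, ⟨eW⟩⟩ := exists_cone_iso (T := Triangle.mk f g h) hT (E := E) (F := P) eX eP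
    (exists_Q_map_eq_of_isKProjective _)
  haveI : DerivedCategory.IsLE (Triangle.mk f g h).obj₃ (m - 1) := hZ
  haveI hWle : DerivedCategory.IsLE (toD (mappingCone γ)) (m - 1) :=
    TStructure.t.isLE_of_iso eW.symm (m - 1)
  have hWb : VanishesAbove (mappingCone γ) (max b N) := fun i hi =>
    IsZero.of_iso (isZero_biprod (hab (i + 1) (Or.inr (by have := le_max_left b N; omega)))
      (hPb i (by have := le_max_right b N; omega))) (coneXIso γ i)
  have hWf : TermwiseFlat (mappingCone γ) := fun i => by
    haveI := hEproj (i + 1)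
    haveI := hPproj i
    haveI : Module.Flat A (E.X (i + 1) ⊞ P.X i : ModuleCat.{u} A) :=
      flat_biprod inferInstance inferInstance
    exact Module.Flat.of_linearEquiv (coneXIso γ i).toLinearEquiv
  haveI hle2 : DerivedCategory.IsLE (toD ((ESc φ).obj (mappingCone γ))) (m - 1) :=
    isLE_toD_ESc_of_flat φ (mappingCone γ) (max b N) hWb hWf (m - 1)
  have eC : (ESc φ).obj (mappingCone γ) ≅ mappingCone ((ESc φ).map γ) :=
    mappingCone.mapHomologicalComplexIso γ (ModuleCat.extendScalars.{u, u, u} φ)
  haveI hle3 : DerivedCategory.IsLE (toD (mappingCone ((ESc φ).map γ))) (m - 1) :=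
    TStructure.t.isLE_of_iso (Q.mapIso eC) (m - 1)
  have hT' := mappingCone_triangle_distinguished ((ESc φ).map γ)
  obtain ⟨e4⟩ := nonempty_lBaseChange_iso_of_isKProjective φ P
  refine (isPseudoCoherent_iff_pcmP m _).2
    ((pcmP B m).prop_of_iso (e4.symm ≪≫ (LBaseChange φ).mapIso eP) ?_)
  refine ⟨toD ((ESc φ).obj E), toD (mappingCone ((ESc φ).map γ)), _, _, _, hT',
    ⟨(ESc φ).obj E, ⟨a, b, ?_, ?_⟩, ⟨Iso.refl _⟩⟩, hle3⟩
  · intro i hi
    exact (ModuleCat.extendScalars.{u, u, u} φ).map_isZero (hab i hi)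
  · intro i
    letI := φ.toAlgebra
    exact ⟨finite_ES (B := B) (E.X i) (hff i).1, free_ES (B := B) (E.X i) (hff i).2⟩

end Groth.Agent.Lib.DMod_helper6
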