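import Mathlib
import Groth.Prelude.Def_DRing2
import Groth.Prelude.Def_DDual2
import Groth.Agent.Lib.DMod53_helper6
import Groth.Agent.Lib.DMod51_helper6

/-!
# Derived category toolkit (helper6), part 54: a local-global three-term lemma (exactness modulo
all maximal ideals implies exactness and flatness of the cokernel) and the global residue field
criterion for perfectness (S6974).
-/

set_option autoImplicit false
universe u
open CategoryTheory CategoryTheory.Limits Pretriangulated DerivedCategory ZeroObject
open scoped TensorProduct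
attribute [local instance] HasDerivedCategory.standard

namespace Groth.Agent.Lib.DMod_helper6

open DRing CochainComplex

section LocalGlobal

variable {R : Type u} [CommRing R]

/-- the map induced on localizations, in the base change model -/
lemma isLocalizedModule_map_mk_eq_baseChange (S : Submonoid R) (B : Type u) [CommRing B]
    [Algebra R B] [IsLocalization S B] {M N : Type u} [AddCommGroup M] [AddCommGroup N]
    [Module R M] [Module R N] (F : M →ₗ[R] N) :
    IsLocalizedModule.map S (TensorProduct.mk R B M 1) (TensorProduct.mk R B N 1) F =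
      (F.baseChange B).restrictScalars R := by
  apply IsLocalizedModule.linearMap_ext S (TensorProduct.mk R B M 1) (TensorProduct.mk R B N 1)
  apply LinearMap.ext
  intro x
  rw [LinearMap.comp_apply, LinearMap.comp_apply, IsLocalizedModule.map_apply]
  rfl

/-- A three-term complex `M₁ → M₂ → M₃` of finite modules with `M₃` free which is exact modulo
every maximal ideal is exact, and the cokernel of `M₂ → M₃` is flat. -/
theorem exact_and_flat_coker_of_exact_lTensor_quotient_maximal
    {M₁ M₂ M₃ : Type u} [AddCommGroup M₁] [AddCommGroup M₂] [AddCommGroup M₃]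
    [Module R M₁] [Module R M₂] [Module R M₃] [Module.Finite R M₂] [Module.Finite R M₃]
    [Module.Free R M₃]
    (f : M₁ →ₗ[R] M₂) (g : M₂ →ₗ[R] M₃) (hgf : g ∘ₗ f = 0)
    (h : ∀ m : Ideal R, m.IsMaximal →
      Function.Exact (f.lTensor (R ⧸ m)) (g.lTensor (R ⧸ m))) :
    Function.Exact f g ∧ Module.Flat R (M₃ ⧸ LinearMap.range g) := by
  have key : ∀ (m : Ideal R) [m.IsMaximal],
      Function.Exact (f.baseChange (Localization.AtPrime m))
        (g.baseChange (Localization.AtPrime m)) ∧
      Module.Free (Localization.AtPrime m) ((Localization.AtPrime m ⊗[R] M₃) ⧸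
        LinearMap.range (g.baseChange (Localization.AtPrime m))) := by
    intro m hm
    haveI : Module.Flat (R ⧸ m) m.ResidueField :=
      IsLocalization.flat m.ResidueField (nonZeroDivisors (R ⧸ m))
    have ha : Function.Exact (f.lTensor m.ResidueField) (g.lTensor m.ResidueField) :=
      exact_lTensor_of_flat_algebra (A := R) (B := R ⧸ m) m.ResidueField f g (h m hm)
    have hb : Function.Exact
        ((f.baseChange (Localization.AtPrime m)).lTensor m.ResidueField)
        ((g.baseChange (Localization.AtPrime m)).lTensor m.ResidueField) :=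
      (function_exact_iff_of_equiv
        (TensorProduct.AlgebraTensorModule.cancelBaseChange R (Localization.AtPrime m)
          (Localization.AtPrime m) m.ResidueField M₁).toEquiv
        (TensorProduct.AlgebraTensorModule.cancelBaseChange R (Localization.AtPrime m)
          (Localization.AtPrime m) m.ResidueField M₂).toEquiv
        (TensorProduct.AlgebraTensorModule.cancelBaseChange R (Localization.AtPrime m)
          (Localization.AtPrime m) m.ResidueField M₃).toEquiv
        (map_zero (TensorProduct.AlgebraTensorModule.cancelBaseChange R (Localization.AtPrime m)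
          (Localization.AtPrime m) m.ResidueField M₃)) _ _ _ _
        (cancelBaseChange_comm m.ResidueField f) (cancelBaseChange_comm m.ResidueField g)).2 ha
    have hcomp : g.baseChange (Localization.AtPrime m) ∘ₗ
        f.baseChange (Localization.AtPrime m) = 0 := by
      rw [← LinearMap.baseChange_comp, hgf, LinearMap.baseChange_zero]
    exact ⟨exact_of_exact_lTensor_residueField _ _ hcomp hb,
      free_coker_of_exact_lTensor_residueField _ _ hcomp hb⟩
  constructor
  · refine exact_of_isLocalized_maximal
      (fun P _ => Localization.AtPrime P ⊗[R] M₁)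
      (fun P _ => TensorProduct.mk R (Localization.AtPrime P) M₁ 1)
      (fun P _ => Localization.AtPrime P ⊗[R] M₂)
      (fun P _ => TensorProduct.mk R (Localization.AtPrime P) M₂ 1)
      (fun P _ => Localization.AtPrime P ⊗[R] M₃)
      (fun P _ => TensorProduct.mk R (Localization.AtPrime P) M₃ 1) f g ?_
    intro J hJ
    rw [isLocalizedModule_map_mk_eq_baseChange, isLocalizedModule_map_mk_eq_baseChange]
    exact (key J).1
  · refine Module.flat_of_isLocalized_maximal R (M₃ ⧸ LinearMap.range g)
      (fun P _ => Localization.AtPrime P ⊗[R] (M₃ ⧸ LinearMap.range g))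
      (fun P _ => TensorProduct.mk R (Localization.AtPrime P) (M₃ ⧸ LinearMap.range g) 1) ?_
    intro P hP
    haveI := (key P).2
    haveI : Module.Flat (Localization.AtPrime P) ((Localization.AtPrime P ⊗[R] M₃) ⧸
        LinearMap.range (g.baseChange (Localization.AtPrime P))) := Module.Flat.of_free
    haveI : Module.Flat R (Localization.AtPrime P) := IsLocalization.flat _ P.primeCompl
    haveI hX : Module.Flat R ((Localization.AtPrime P ⊗[R] M₃) ⧸
        LinearMap.range (g.baseChange (Localization.AtPrime P))) :=
      Module.Flat.trans R (Localization.AtPrime P) _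
    have hex : Function.Exact g (LinearMap.range g).mkQ := LinearMap.exact_map_mkQ_range g
    let e1 := lTensor.equiv (Localization.AtPrime P) hex (Submodule.mkQ_surjective _)
    have hrange : (LinearMap.range (g.baseChange (Localization.AtPrime P))).restrictScalars R =
        LinearMap.range (g.lTensor (Localization.AtPrime P)) := by
      ext x
      simp only [Submodule.restrictScalars_mem, LinearMap.mem_range]
      rfl
    let e2 := Submodule.Quotient.restrictScalarsEquiv R
      (LinearMap.range (g.baseChange (Localization.AtPrime P)))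
    let e3 := Submodule.quotEquivOfEq _ _ hrange
    exact Module.Flat.of_linearEquiv (e1.symm ≪≫ₗ e3.symm ≪≫ₗ e2)

end LocalGlobal

section Global

variable {R : Type u} [CommRing R]

/-- S6974: a pseudo-coherent object whose derived fibres at all maximal ideals have cohomology
only in `[a, b]` is perfect of tor amplitude `[a, b]`. -/
theorem isPerfect_of_fibres_vanishing [∀ m : Ideal R, HasLBaseChange (Ideal.Quotient.mk m)]
    (K : Dual.D R) (hK : IsPseudoCoherent' R K) (a b : ℤ)
    (h : ∀ (m : Ideal R), m.IsMaximal → ∀ i : ℤ, (i < a ∨ b < i) →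
      Subsingleton (Dual.HD (R ⧸ m) ((LBaseChange (Ideal.Quotient.mk m)).obj K) i)) :
    IsPerfect R K ∧ HasTorAmplitudeIn R a b K := by
  obtain ⟨P, b₁, hPb, hPff, ⟨e⟩⟩ := hK
  haveI : P.IsKProjective := isKProjective_of_projective_bounded P b₁ hPb
    (fun j => by haveI := (hPff j).2; infer_instance)
  have hq : ∀ (m : Ideal R), m.IsMaximal → ∀ i : ℤ, (i < a ∨ b < i) →
      Function.Exact ((P.d (i - 1) i).hom.lTensor (R ⧸ m))
        ((P.d i (i + 1)).hom.lTensor (R ⧸ m)) := by
    intro m hm i hi
    obtain ⟨eL⟩ := nonempty_lBaseChange_iso_of_isKProjective (Ideal.Quotient.mk m) P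
    have e1 : toD ((ESc (Ideal.Quotient.mk m)).obj P) ≅
        (LBaseChange (Ideal.Quotient.mk m)).obj K :=
      eL.symm ≪≫ (LBaseChange (Ideal.Quotient.mk m)).mapIso e
    have hES : ((ESc (Ideal.Quotient.mk m)).obj P).ExactAt i :=
      (exactAt_iff_subsingleton_HD e1 i).2 (h m hm i hi)
    exact (exact_ES_map_iff (A := R) (B := R ⧸ m) (P.d (i - 1) i) (P.d i (i + 1))).1
      (function_exact_of_exactAt _ (i - 1) i (i + 1) (by omega) rfl hES)
  have hcomp : ∀ i, (P.d i (i + 1)).hom ∘ₗ (P.d (i - 1) i).hom = 0 := fun i => by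
    rw [← ModuleCat.hom_comp, P.d_comp_d]
    rfl
  haveI : ∀ i, Module.Finite R (P.X i) := fun i => (hPff i).1
  haveI : ∀ i, Module.Free R (P.X i) := fun i => (hPff i).2
  have hkey : ∀ i : ℤ, (i < a ∨ b < i) →
      Function.Exact (P.d (i - 1) i).hom (P.d i (i + 1)).hom ∧
      Module.Flat R (P.X (i + 1) ⧸ LinearMap.range (P.d i (i + 1)).hom) := fun i hi =>
    exact_and_flat_coker_of_exact_lTensor_quotient_maximal _ _ (hcomp i)
      (fun m hm => hq m hm i hi)
  have hex : ∀ i, (i < a ∨ b < i) → P.ExactAt i := fun i hi =>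
    exactAt_of_function_exact P (i - 1) i (i + 1) (by omega) rfl (hkey i hi).1
  obtain ⟨c, rfl⟩ : ∃ c, a = c + 1 := ⟨a - 1, by ring⟩
  have hflat : TermwiseFlat P := fun i => Module.Flat.of_free
  obtain ⟨T, π, hπ, hT0, hTf, hTz⟩ := exists_flat_trunc P c
    (fun i hi => hex i (Or.inl (by omega))) hflat (hkey c (Or.inl (by omega))).2
  have hamp : HasTorAmplitudeIn R (c + 1) b₁ K :=
    ⟨T, fun i hi => by
      rcases hi with hi | hi
      · exact hT0 i (by omega)
      · exact hTz i (hPb i hi), hTf, ⟨(asIso (Q.map π)).symm ≪≫ e⟩⟩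
  obtain ⟨T₂, b₂, hT₂, hT₂fp, ⟨e₂⟩⟩ :=
    exists_finite_projective_of_pc_of_torAmp K ⟨P, b₁, hPb, hPff, ⟨e⟩⟩ (c + 1) b₁ hamp
  have hex₂ : ∀ i, b < i → T₂.ExactAt i := fun i hi =>
    exactAt_of_iso_toD T₂ P (e₂ ≪≫ e.symm) i (hex i (Or.inr hi))
  obtain ⟨T₃, hT₃, hT₃fp, ⟨e₃⟩⟩ :=
    exists_finite_projective_top_trunc T₂ (c + 1) b₂ b hT₂ hT₂fp hex₂
  exact ⟨⟨T₃, c + 1, b, hT₃, hT₃fp, ⟨e₃ ≪≫ e₂⟩⟩,
    ⟨T₃, hT₃, fun i => by haveI := (hT₃fp i).2; infer_instance, ⟨e₃ ≪≫ e₂⟩⟩⟩

end Global

end Groth.Agent.Lib.DMod_helper6
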