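import Mathlib
import Groth.Prelude.Def_DRing2
import Groth.Prelude.Def_DDual2
import Groth.Agent.Lib.DMod54_helper6

/-!
# Derived category toolkit (helper6), part 55: descent of `m`-pseudo-coherence along a finite
family of flat ring maps for which exactness and finiteness of modules descend.
-/

set_option autoImplicit false
universe u
open CategoryTheory CategoryTheory.Limits Pretriangulated DerivedCategory ZeroObject
open scoped TensorProduct
attribute [local instance] HasDerivedCategory.standard

namespace Groth.Agent.Lib.DMod_helper6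

open DRing CochainComplex

section Top

variable {R : Type u} [CommRing R]

/-- The top cohomology module of an `m`-pseudo-coherent complex (in degree `b ≥ m`) is finite. -/
lemma finite_homology_top_of_isPseudoCoherent (L : Cx R) (m b : ℤ) (hmb : m ≤ b)
    (hex : ∀ i, b < i → L.ExactAt i) (h : IsPseudoCoherent R m (toD L)) :
    Module.Finite R (L.homology b) := by
  obtain ⟨E, a, b', α, hab, hff, hiso, hepi⟩ := h
  have hEex : ∀ i, b < i → E.ExactAt i := fun i hi => by
    haveI := hiso i (by omega)
    apply exactAt_of_isZero_homology_toD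
    exact IsZero.of_iso (isZero_homology_toD_of_exactAt L i (hex i hi))
      (asIso ((DerivedCategory.homologyFunctor (ModuleCat.{u} R) i).map α))
  have hker : Module.Finite R (LinearMap.ker (E.d b (b + 1)).hom) ∧
      Module.Projective R (LinearMap.ker (E.d b (b + 1)).hom) :=
    ker_prop_of_exact_above
      (fun (M : Type u) [AddCommGroup M] [Module R M] =>
        Module.Finite R M ∧ Module.Projective R M)
      (fun M _ _ hM => by
        haveI := hM
        exact ⟨Module.Finite.of_finite, inferInstance⟩)
      (fun M M'' _ _ _ _ g hg h1 h2 => finite_projective_ker g hg h1 h2)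
      E b' b (fun i hi => hab i (Or.inr hi))
      (fun i => ⟨(hff i).1, by haveI := (hff i).2; infer_instance⟩) hEex
      (b' + 1 - b).toNat b le_rfl (by omega)
  have e1 : E.cycles b ≅ ModuleCat.of R (LinearMap.ker (E.d b (b + 1)).hom) :=
    IsLimit.conePointUniqueUpToIso (E.cyclesIsKernel b (b + 1) (by simp))
      (ModuleCat.kernelIsLimit (E.d b (b + 1)))
  have hcyc : Module.Finite R (E.cycles b) := finite_of_iso e1.symm hker.1
  have hEh : Module.Finite R (E.homology b) := by
    haveI := hcyc
    haveI : Epi (E.homologyπ b) := inferInstanceAs (Epi ((E.sc b).homologyπ))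
    exact Module.Finite.of_surjective (E.homologyπ b).hom
      ((ModuleCat.epi_iff_surjective _).1 inferInstance)
  have hepi_b : Epi ((DerivedCategory.homologyFunctor (ModuleCat.{u} R) b).map α) := by
    rcases eq_or_lt_of_le hmb with h | h
    · subst h
      exact hepi
    · haveI := hiso b h
      infer_instance
  have hD : Module.Finite R
      ((DerivedCategory.homologyFunctor (ModuleCat.{u} R) b).obj (toD E)) :=
    finite_of_iso ((homologyFunctorFactors (ModuleCat.{u} R) b).app E).symm hEh
  have hDL : Module.Finite R
      ((DerivedCategory.homologyFunctor (ModuleCat.{u} R) b).obj (toD L)) := by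
    haveI := hD
    exact Module.Finite.of_surjective
      ((DerivedCategory.homologyFunctor (ModuleCat.{u} R) b).map α).hom
      ((ModuleCat.epi_iff_surjective _).1 hepi_b)
  exact finite_of_iso ((homologyFunctorFactors (ModuleCat.{u} R) b).app L) hDL

end Top

section Descent

variable {R : Type u} [CommRing R] {ι : Type*} (B : ι → Type u) [∀ j, CommRing (B j)]
  [∀ j, Algebra R (B j)] [∀ j, Module.Flat R (B j)]

/-- termwise base change to the `j`-th ring -/
noncomputable abbrev EScA (j : ι) : Cx R ⥤ Cx (B j) :=
  (ES R (B j)).mapHomologicalComplex (ComplexShape.up ℤ)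

/-- homology commutes with flat base change -/
noncomputable def homologyEScAIso (j : ι) (K : Cx R) (i : ℤ) :
    ((EScA B j).obj K).homology i ≅ (ES R (B j)).obj (K.homology i) :=
  (K.sc i).mapHomologyIso (ES R (B j))

lemma exactAt_EScA_of_exactAt (j : ι) (K : Cx R) (i : ℤ) (h : K.ExactAt i) :
    ((EScA B j).obj K).ExactAt i := by
  rw [HomologicalComplex.exactAt_iff_isZero_homology] at h ⊢
  exact IsZero.of_iso ((ES R (B j)).map_isZero h) (homologyEScAIso B j K i)

variable (R) in
/-- descent of exactness of three term complexes along the family -/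
def DescendsExact : Prop :=
  ∀ {M₁ M₂ M₃ : ModuleCat.{u} R} (f : M₁ ⟶ M₂) (g : M₂ ⟶ M₃),
    (∀ j, Function.Exact ((ES R (B j)).map f).hom ((ES R (B j)).map g).hom) →
    Function.Exact f.hom g.hom

variable (R) in
/-- descent of finiteness of modules along the family -/
def DescendsFinite : Prop :=
  ∀ M : ModuleCat.{u} R, (∀ j, Module.Finite (B j) ((ES R (B j)).obj M)) → Module.Finite R M

variable {B}

lemma exactAt_of_forall_exactAt_EScA (D1 : DescendsExact R B) (K : Cx R) (i : ℤ)
    (h : ∀ j, ((EScA B j).obj K).ExactAt i) : K.ExactAt i :=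
  exactAt_of_function_exact K (i - 1) i (i + 1) (by omega) rfl
    (D1 _ _ (fun j => function_exact_of_exactAt _ (i - 1) i (i + 1) (by omega) rfl (h j)))

theorem isPseudoCoherent_descent_aux (D2 : DescendsFinite R B) (m : ℤ) (n : ℕ) :
    ∀ (K : Cx R) (b : ℤ), b + 1 ≤ m + n → (∀ i, b < i → K.ExactAt i) →
      (∀ j, IsPseudoCoherent (B j) m (toD ((EScA B j).obj K))) →
      IsPseudoCoherent R m (toD K) := by
  induction n with
  | zero =>
    intro K b hb hex _
    rw [isPseudoCoherent_iff_pcmP]
    refine leP_le_pcmP m _ ?_
    show DerivedCategory.IsLE (toD K) (m - 1)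
    rw [DerivedCategory.isLE_iff]
    intro i hi
    exact isZero_homology_toD_of_exactAt K i (hex i (by push_cast at hb; omega))
  | succ n ih =>
    intro K b hb hex hK
    by_cases hb' : b + 1 ≤ m + n
    · exact ih K b hb' hex hK
    · have hbm : b = m + n := by push_cast at hb; omega
      have hfin : Module.Finite R (K.homology b) := by
        apply D2
        intro j
        have hexj : ∀ i, b < i → ((EScA B j).obj K).ExactAt i := fun i hi =>
          exactAt_EScA_of_exactAt B j K i (hex i hi)
        have h1 := finite_homology_top_of_isPseudoCoherent ((EScA B j).obj K) m b (by omega)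
          hexj (hK j)
        exact finite_of_iso (homologyEScAIso B j K b) h1
      obtain ⟨r, ψ, hψ⟩ := exists_single_hom_epi K b hfin
      have hX1 : Module.Finite R (ModuleCat.of R (Fin r → R)) :=
        inferInstanceAs (Module.Finite R (Fin r → R))
      have hX2 : Module.Free R (ModuleCat.of R (Fin r → R)) :=
        inferInstanceAs (Module.Free R (Fin r → R))
      have hT := mappingCone_triangle_distinguished ψ
      haveI : DerivedCategory.IsLE (Q.mapTriangle.obj (mappingCone.triangle ψ)).obj₁ b :=
        leP_single _ b b le_rfl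
      haveI : DerivedCategory.IsLE (Q.mapTriangle.obj (mappingCone.triangle ψ)).obj₂ b := by
        show DerivedCategory.IsLE (toD K) b
        rw [DerivedCategory.isLE_iff]
        intro i hi
        exact isZero_homology_toD_of_exactAt K i (hex i hi)
      have hepi : Epi ((DerivedCategory.homologyFunctor (ModuleCat.{u} R) b).map
          (Q.mapTriangle.obj (mappingCone.triangle ψ)).mor₁) :=
        (epi_homology_Q_map_iff ψ b).2 hψ
      have hCle : DerivedCategory.IsLE (toD (mappingCone ψ)) (b - 1) :=
        isLE_cone_of_epi _ hT b hepi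
      have hCex : ∀ i, b - 1 < i → (mappingCone ψ).ExactAt i := fun i hi =>
        exactAt_of_isZero_homology_toD _ i
          (DerivedCategory.isZero_of_isLE (toD (mappingCone ψ)) (b - 1) i hi)
      obtain ⟨a', b'', hSv, hSff⟩ := bfCls_single (ModuleCat.of R (Fin r → R)) hX1 hX2 b
      have hCj : ∀ j, IsPseudoCoherent (B j) m (toD ((EScA B j).obj (mappingCone ψ))) := by
        intro j
        have eC : (EScA B j).obj (mappingCone ψ) ≅ mappingCone ((EScA B j).map ψ) :=
          mappingCone.mapHomologicalComplexIso ψ (ES R (B j))
        have hTj := mappingCone_triangle_distinguished ((EScA B j).map ψ)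
        have hSj : IsPseudoCoherent (B j) (m + 1)
            (toD ((EScA B j).obj ((HomologicalComplex.single (ModuleCat.{u} R)
              (ComplexShape.up ℤ) b).obj (ModuleCat.of R (Fin r → R))))) := by
          rw [isPseudoCoherent_iff_pcmP]
          refine bfProp_le_pcmP (m + 1) _ ⟨_, ⟨a', b'', ?_, ?_⟩, ⟨Iso.refl _⟩⟩
          · intro i hi
            exact (ES R (B j)).map_isZero (hSv i hi)
          · intro i
            exact ⟨finite_ES _ (hSff i).1, free_ES _ (hSff i).2⟩
        have h3 := (isPseudoCoherent_two_of_three _ hTj m).1 hSj (hK j)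
        exact (isPseudoCoherent_iff_pcmP m _).2 ((pcmP (B j) m).prop_of_iso (Q.mapIso eC).symm
          ((isPseudoCoherent_iff_pcmP m _).1 h3))
      have hC := ih (mappingCone ψ) (b - 1) (by omega) hCex hCj
      have hS : IsPseudoCoherent R m (toD ((HomologicalComplex.single (ModuleCat.{u} R)
          (ComplexShape.up ℤ) b).obj (ModuleCat.of R (Fin r → R)))) :=
        (isPseudoCoherent_iff_pcmP _ _).2 (bfProp_le_pcmP m _
          ⟨_, bfCls_single _ hX1 hX2 b, ⟨Iso.refl _⟩⟩)
      exact (isPseudoCoherent_two_of_three _ hT m).2.1 hS hC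

/-- Descent of `m`-pseudo-coherence along a finite family of flat ring maps along which exactness
and finiteness descend. -/
theorem isPseudoCoherent_descent [Finite ι] (D1 : DescendsExact R B) (D2 : DescendsFinite R B)
    (K : Cx R) (m : ℤ)
    (hK : ∀ j, IsPseudoCoherent (B j) m (toD ((EScA B j).obj K))) :
    IsPseudoCoherent R m (toD K) := by
  have hbj : ∀ j, ∃ b : ℤ, DerivedCategory.IsLE (toD ((EScA B j).obj K)) b := fun j =>
    exists_isLE_of_pcmP m _ ((isPseudoCoherent_iff_pcmP m _).1 (hK j))
  choose bj hbj using hbj
  obtain ⟨b, hb⟩ := (Set.finite_range bj).bddAbove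
  have hex : ∀ i, b < i → K.ExactAt i := by
    intro i hi
    refine exactAt_of_forall_exactAt_EScA D1 K i (fun j => ?_)
    have hji : bj j < i := lt_of_le_of_lt (hb (Set.mem_range_self j)) hi
    haveI := hbj j
    exact exactAt_of_isZero_homology_toD _ i
      (DerivedCategory.isZero_of_isLE (toD ((EScA B j).obj K)) (bj j) i hji)
  obtain ⟨a, hba, hma⟩ : ∃ a : ℤ, b ≤ a ∧ m - 1 ≤ a :=
    ⟨max b (m - 1), le_max_left _ _, le_max_right _ _⟩
  exact isPseudoCoherent_descent_aux D2 m (a + 1 - m).toNat K a (by omega)
    (fun i hi => hex i (by omega)) hK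

end Descent

end Groth.Agent.Lib.DMod_helper6
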