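import Mathlib
import Groth.Prelude.Def_DRing2
import Groth.Prelude.Def_DDual2
import Groth.Agent.Lib.DMod55_helper6

/-!
# Derived category toolkit (helper6), part 56: descent of tor amplitude and of perfectness along a
finite family of flat ring maps for which exactness and finiteness of modules descend.
-/

set_option autoImplicit false
universe u
open CategoryTheory CategoryTheory.Limits Pretriangulated DerivedCategory ZeroObject
open MonoidalCategory
open scoped TensorProduct
attribute [local instance] HasDerivedCategory.standard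

namespace Groth.Agent.Lib.DMod_helper6

open DRing CochainComplex

section TorDescent

variable {R : Type u} [CommRing R] {ι : Type*} {B : ι → Type u} [∀ j, CommRing (B j)]
  [∀ j, Algebra R (B j)] [∀ j, Module.Flat R (B j)]

/-- base change commutes with the termwise tensor product with a module -/
noncomputable def TN_EScA_iso (j : ι) (N : ModuleCat.{u} R) (P : Cx R) :
    (TN ((ES R (B j)).obj N)).obj ((EScA B j).obj P) ≅ (EScA B j).obj ((TN N).obj P) :=
  HomologicalComplex.Hom.isoOfComponents
    (fun i => Functor.Monoidal.μIso (ES R (B j)) (P.X i) N)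
    (fun i k _ => (Functor.LaxMonoidal.μ_natural_left (ES R (B j)) (P.d i k) N).symm)

/-- Descent of tor amplitude along a family of flat ring maps along which exactness descends. -/
theorem hasTorAmplitudeIn_descent (D1 : DescendsExact R B) (K : Cx R) (a b : ℤ)
    (hK : ∀ j, HasTorAmplitudeIn (B j) a b (toD ((EScA B j).obj K))) :
    HasTorAmplitudeIn R a b (toD K) := by
  have hex : ∀ i, (i < a ∨ b < i) → K.ExactAt i := fun i hi =>
    exactAt_of_forall_exactAt_EScA D1 K i (fun j =>
      (exactAt_iff_subsingleton_HD (Iso.refl (toD ((EScA B j).obj K))) i).2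
        (subsingleton_HD_of_hasTorAmplitudeIn _ a b (hK j) i hi))
  haveI : DerivedCategory.IsLE (toD K) b := by
    rw [DerivedCategory.isLE_iff]
    intro i hi
    exact isZero_homology_toD_of_exactAt K i (hex i (Or.inr hi))
  obtain ⟨P, hPfree, hPb, ⟨eP⟩⟩ := exists_free_resolution (toD K) b
  have hPproj : ∀ i, Module.Projective R (P.X i) := fun i => by
    haveI := hPfree i
    infer_instance
  haveI : P.IsKProjective := isKProjective_of_projective_bounded P b hPb hPproj
  obtain ⟨p, hp⟩ := exists_Q_map_eq_of_isKProjective (E := P) (F := K) eP.hom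
  haveI hpq : QuasiIso p := by
    rw [← isIso_Q_map_iff_quasiIso, hp]
    infer_instance
  have hPf : TermwiseFlat P := fun i => by
    haveI := hPfree i
    infer_instance
  have hpj : ∀ j, IsIso (Q.map ((EScA B j).map p)) := fun j => by
    rw [isIso_Q_map_iff_quasiIso]
    infer_instance
  have hPj : ∀ j, HasTorAmplitudeIn (B j) a b (toD ((EScA B j).obj P)) := fun j => by
    haveI := hpj j
    exact hasTorAmplitudeIn_of_iso (asIso (Q.map ((EScA B j).map p))).symm a b (hK j)
  refine hasTorAmplitudeIn_of_iso eP a b (hasTorAmplitudeIn_of_TN_exact' P a b hPb hPf ?_ ?_)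
  · intro i hi
    exact exactAt_of_iso_toD P K eP i (hex i (Or.inl hi))
  · intro N
    refine exactAt_of_forall_exactAt_EScA D1 _ (a - 1) (fun j => ?_)
    have h1 : ((TN ((ES R (B j)).obj N)).obj ((EScA B j).obj P)).ExactAt (a - 1) :=
      exactAt_TN_of_hasTorAmplitudeIn ((EScA B j).obj P) b
        (fun i hi => (ES R (B j)).map_isZero (hPb i hi))
        (fun i => flat_ES _ (hPf i)) a b (hPj j) _ (a - 1) (by omega)
    exact HomologicalComplex.ExactAt.of_iso h1 (TN_EScA_iso j N P)

/-- Descent of perfectness along a finite family of flat ring maps along which exactness and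
finiteness descend. -/
theorem isPerfect_descent [Finite ι] (D1 : DescendsExact R B) (D2 : DescendsFinite R B)
    (K : Cx R) (hK : ∀ j, IsPerfect (B j) (toD ((EScA B j).obj K))) :
    IsPerfect R (toD K) := by
  rw [isPerfect_iff_pc_and_finiteTorDim]
  constructor
  · rw [isPseudoCoherent'_iff_forall]
    intro m
    refine isPseudoCoherent_descent D1 D2 K m (fun j => ?_)
    exact (isPseudoCoherent'_iff_forall _).1
      ((isPerfect_iff_pc_and_finiteTorDim _).1 (hK j)).1 m
  · have hab : ∀ j, ∃ a b : ℤ, HasTorAmplitudeIn (B j) a b (toD ((EScA B j).obj K)) := fun j =>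
      ((isPerfect_iff_pc_and_finiteTorDim _).1 (hK j)).2
    choose aj bj habj using hab
    obtain ⟨b, hb⟩ := (Set.finite_range bj).bddAbove
    obtain ⟨a, ha⟩ := (Set.finite_range aj).bddBelow
    refine ⟨a, b, hasTorAmplitudeIn_descent D1 K a b (fun j => ?_)⟩
    exact hasTorAmplitudeIn_mono _ (aj j) (bj j) a b (ha (Set.mem_range_self j))
      (hb (Set.mem_range_self j)) (habj j)

end TorDescent

end Groth.Agent.Lib.DMod_helper6
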