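import Mathlib
import Groth.Prelude.Def_DRing2
import Groth.Prelude.Def_DDual2
import Groth.Agent.Lib.DMod56_helper6

/-!
# Derived category toolkit (helper6), part 57: faithfully flat descent and Zariski descent of
`m`-pseudo-coherence, tor amplitude and perfectness (S2087, S6941, S6949, S6950, S6960, S6961).
-/

set_option autoImplicit false
universe u
open CategoryTheory CategoryTheory.Limits Pretriangulated DerivedCategory ZeroObject
open scoped TensorProduct
attribute [local instance] HasDerivedCategory.standard

namespace Groth.Agent.Lib.DMod_helper6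

open DRing CochainComplex Groth.Agent.ExtendScalarsLib

section FaithfullyFlat

variable {R R' : Type u} [CommRing R] [CommRing R'] [Algebra R R'] [Module.FaithfullyFlat R R']

lemma ff_descendsExact : DescendsExact R (fun _ : Unit => R') := by
  intro M₁ M₂ M₃ f g h
  have h1 := (exact_ES_map_iff (A := R) (B := R') f g).1 (h ())
  exact (Module.FaithfullyFlat.lTensor_exact_iff_exact R R' _ _).1 h1

lemma ff_descendsFinite : DescendsFinite R (fun _ : Unit => R') := by
  intro M h
  have h0 : Module.Finite R' ((ES R R').obj M) := h ()
  haveI := h0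
  haveI : Module.Finite R' (R' ⊗[R] M) :=
    Module.Finite.equiv (extendScalarsEquivTensor (S := R') M)
  exact Module.Finite.of_finite_tensorProduct_of_faithfullyFlat R'

theorem isPseudoCoherent_of_faithfullyFlat (K : Cx R) (m : ℤ)
    (hK : IsPseudoCoherent R' m
      (toD (((ES R R').mapHomologicalComplex (ComplexShape.up ℤ)).obj K))) :
    IsPseudoCoherent R m (toD K) :=
  isPseudoCoherent_descent (B := fun _ : Unit => R') ff_descendsExact ff_descendsFinite K m
    (fun _ => hK)

theorem isPseudoCoherent'_of_faithfullyFlat (K : Cx R)
    (hK : IsPseudoCoherent' R'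
      (toD (((ES R R').mapHomologicalComplex (ComplexShape.up ℤ)).obj K))) :
    IsPseudoCoherent' R (toD K) := by
  rw [isPseudoCoherent'_iff_forall]
  intro m
  exact isPseudoCoherent_of_faithfullyFlat K m ((isPseudoCoherent'_iff_forall _).1 hK m)

theorem hasTorAmplitudeIn_of_faithfullyFlat (K : Cx R) (a b : ℤ)
    (hK : HasTorAmplitudeIn R' a b
      (toD (((ES R R').mapHomologicalComplex (ComplexShape.up ℤ)).obj K))) :
    HasTorAmplitudeIn R a b (toD K) :=
  hasTorAmplitudeIn_descent (B := fun _ : Unit => R') ff_descendsExact K a b (fun _ => hK)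

theorem isPerfect_of_faithfullyFlat (K : Cx R)
    (hK : IsPerfect R' (toD (((ES R R').mapHomologicalComplex (ComplexShape.up ℤ)).obj K))) :
    IsPerfect R (toD K) :=
  isPerfect_descent (B := fun _ : Unit => R') ff_descendsExact ff_descendsFinite K (fun _ => hK)

end FaithfullyFlat

section Zariski

variable {R : Type u} [CommRing R] {r : ℕ} (f : Fin r → R)

instance flat_away_family : ∀ j, Module.Flat R (Localization.Away (f j)) := fun j =>
  IsLocalization.flat _ (Submonoid.powers (f j))

variable {f} (hf : Ideal.span (Set.range f) = ⊤)
include hf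

lemma zar_descendsExact : DescendsExact R (fun j => Localization.Away (f j)) := by
  intro M₁ M₂ M₃ F G h
  refine exact_of_isLocalized_span (Set.range f) hf
    (fun r => Localization.Away r.1 ⊗[R] M₁)
    (fun r => TensorProduct.mk R (Localization.Away r.1) M₁ 1)
    (fun r => Localization.Away r.1 ⊗[R] M₂)
    (fun r => TensorProduct.mk R (Localization.Away r.1) M₂ 1)
    (fun r => Localization.Away r.1 ⊗[R] M₃)
    (fun r => TensorProduct.mk R (Localization.Away r.1) M₃ 1) F.hom G.hom ?_
  rintro ⟨_, j, rfl⟩
  dsimp only
  rw [isLocalizedModule_map_mk_eq_baseChange, isLocalizedModule_map_mk_eq_baseChange]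
  exact (exact_ES_map_iff (A := R) (B := Localization.Away (f j)) F G).1 (h j)

lemma zar_descendsFinite : DescendsFinite R (fun j => Localization.Away (f j)) := by
  intro M h
  refine Module.Finite.of_localizationSpan' (Set.range f) hf
    (Mₚ := fun g => Localization.Away g.1 ⊗[R] M) (Rₚ := fun g => Localization.Away g.1)
    (fun g => TensorProduct.mk R (Localization.Away g.1) M 1) ?_
  rintro ⟨_, j, rfl⟩
  have h0 : Module.Finite (Localization.Away (f j)) ((ES R (Localization.Away (f j))).obj M) := h j
  haveI := h0
  exact Module.Finite.equiv (extendScalarsEquivTensor (S := Localization.Away (f j)) M)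

theorem isPseudoCoherent_of_localization_away (K : Cx R) (m : ℤ)
    (hK : ∀ j, IsPseudoCoherent (Localization.Away (f j)) m
      (toD (((ES R (Localization.Away (f j))).mapHomologicalComplex (ComplexShape.up ℤ)).obj K))) :
    IsPseudoCoherent R m (toD K) :=
  isPseudoCoherent_descent (B := fun j => Localization.Away (f j)) (zar_descendsExact hf)
    (zar_descendsFinite hf) K m hK

theorem hasTorAmplitudeIn_of_localization_away (K : Cx R) (a b : ℤ)
    (hK : ∀ j, HasTorAmplitudeIn (Localization.Away (f j)) a b
      (toD (((ES R (Localization.Away (f j))).mapHomologicalComplex (ComplexShape.up ℤ)).obj K))) :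
    HasTorAmplitudeIn R a b (toD K) :=
  hasTorAmplitudeIn_descent (B := fun j => Localization.Away (f j)) (zar_descendsExact hf) K a b hK

theorem isPerfect_of_localization_away (K : Cx R)
    (hK : ∀ j, IsPerfect (Localization.Away (f j))
      (toD (((ES R (Localization.Away (f j))).mapHomologicalComplex (ComplexShape.up ℤ)).obj K))) :
    IsPerfect R (toD K) :=
  isPerfect_descent (B := fun j => Localization.Away (f j)) (zar_descendsExact hf)
    (zar_descendsFinite hf) K hK

end Zariski

end Groth.Agent.Lib.DMod_helper6
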