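import Mathlib
import Groth.Prelude.Def_DRing2
import Groth.Prelude.Def_DDual2
import Groth.Agent.Lib.DMod57_helper6

/-!
# Derived category toolkit (helper6), part 58: chain level form of the global residue field
criterion and tor amplitude from the derived reduction modulo an ideal contained in the Jacobson
radical (S15232).
-/

set_option autoImplicit false
universe u
open CategoryTheory CategoryTheory.Limits Pretriangulated DerivedCategory ZeroObject
open scoped TensorProduct
attribute [local instance] HasDerivedCategory.standard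

namespace Groth.Agent.Lib.DMod_helper6

open DRing CochainComplex Groth.Agent.ExtendScalarsLib

section TNBoth

variable {A : Type u} [CommRing A]

/-- A bounded above flat representative of an object of tor amplitude `[a, b]` has vanishing
`H^i(C ⊗ N)` for `i` outside `[a, b]`. -/
theorem exactAt_TN_of_hasTorAmplitudeIn' (C : Cx A) (b' : ℤ) (hb : VanishesAbove C b')
    (hflat : TermwiseFlat C) (a b : ℤ) (h : HasTorAmplitudeIn A a b (toD C))
    (N : ModuleCat.{u} A) (i : ℤ) (hi : i < a ∨ b < i) : ((TN N).obj C).ExactAt i := by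
  obtain ⟨E, hE, hEf, ⟨e⟩⟩ := h
  refine exactAt_TN_of_iso C E b' b hb (fun j hj => hE j (Or.inr hj)) hflat hEf e.symm N i ?_
  exact exactAt_of_isZero_X _ i ((MonoidalCategory.tensorRight N).map_isZero (hE i hi))

end TNBoth

section Core

variable {R : Type u} [CommRing R]

/-- chain level form of S6974 -/
theorem perfect_of_exact_mod_maximal (P : Cx R) (b₁ : ℤ) (hPb : VanishesAbove P b₁)
    (hPff : TermwiseFiniteFree P) (a b : ℤ)
    (hq : ∀ (m : Ideal R), m.IsMaximal → ∀ i : ℤ, (i < a ∨ b < i) →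
      Function.Exact ((P.d (i - 1) i).hom.lTensor (R ⧸ m))
        ((P.d i (i + 1)).hom.lTensor (R ⧸ m))) :
    IsPerfect R (toD P) ∧ HasTorAmplitudeIn R a b (toD P) := by
  have hcomp : ∀ i, (P.d i (i + 1)).hom ∘ₗ (P.d (i - 1) i).hom = 0 := fun i => by
    rw [← ModuleCat.hom_comp, P.d_comp_d]
    rfl
  haveI : ∀ i, Module.Finite R (P.X i) := fun i => (hPff i).1
  haveI : ∀ i, Module.Free R (P.X i) := fun i => (hPff i).2
  have hkey : ∀ i : ℤ, (i < a ∨ b < i) →
      Function.Exact (P.d (i - 1) i).hom (P.d i (i + 1)).hom ∧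
      Module.Flat R (P.X (i + 1) ⧸ LinearMap.range (P.d i (i + 1)).hom) := fun i hi =>
    exact_and_flat_coker_of_exact_lTensor_quotient_maximal _ _ (hcomp i)
      (fun m hm => hq m hm i hi)
  have hex : ∀ i, (i < a ∨ b < i) → P.ExactAt i := fun i hi =>
    exactAt_of_function_exact P (i - 1) i (i + 1) (by omega) rfl (hkey i hi).1
  obtain ⟨c, rfl⟩ : ∃ c, a = c + 1 := ⟨a - 1, by ring⟩
  have hflat : TermwiseFlat P := fun i => Module.Flat.of_free
  obtain ⟨T, π, hπ, hT0, hTf, hTz⟩ := exists_flat_trunc P c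
    (fun i hi => hex i (Or.inl (by omega))) hflat (hkey c (Or.inl (by omega))).2
  have hamp : HasTorAmplitudeIn R (c + 1) b₁ (toD P) :=
    ⟨T, fun i hi => by
      rcases hi with hi | hi
      · exact hT0 i (by omega)
      · exact hTz i (hPb i hi), hTf, ⟨(asIso (Q.map π)).symm⟩⟩
  obtain ⟨T₂, b₂, hT₂, hT₂fp, ⟨e₂⟩⟩ :=
    exists_finite_projective_of_pc_of_torAmp (toD P) ⟨P, b₁, hPb, hPff, ⟨Iso.refl _⟩⟩
      (c + 1) b₁ hamp
  have hex₂ : ∀ i, b < i → T₂.ExactAt i := fun i hi =>
    exactAt_of_iso_toD T₂ P e₂ i (hex i (Or.inr hi))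
  obtain ⟨T₃, hT₃, hT₃fp, ⟨e₃⟩⟩ :=
    exists_finite_projective_top_trunc T₂ (c + 1) b₂ b hT₂ hT₂fp hex₂
  exact ⟨⟨T₃, c + 1, b, hT₃, hT₃fp, ⟨e₃ ≪≫ e₂⟩⟩,
    ⟨T₃, hT₃, fun i => by haveI := (hT₃fp i).2; infer_instance, ⟨e₃ ≪≫ e₂⟩⟩⟩

end Core

section Transfer

variable {A B : Type u} [CommRing A] [CommRing B] [Algebra A B]

/-- exactness of `(B ⊗_A M_•) ⊗_B N` gives exactness of `N ⊗_A M_•` -/
lemma exact_lTensor_of_exact_rTensor_ES (N : Type u) [AddCommGroup N] [Module A N] [Module B N]
    [IsScalarTower A B N] {M₁ M₂ M₃ : ModuleCat.{u} A} (f : M₁ ⟶ M₂) (g : M₂ ⟶ M₃)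
    (h : Function.Exact (((ES A B).map f).hom.rTensor N) (((ES A B).map g).hom.rTensor N)) :
    Function.Exact (f.hom.lTensor N) (g.hom.lTensor N) := by
  have h1 := exact_lTensor_of_exact_rTensor _ _ N h
  have hcomm : ∀ {X Y : ModuleCat.{u} A} (u : X ⟶ Y)
      (x : N ⊗[B] ((ES A B).obj X)),
      (LinearEquiv.lTensor N (extendScalarsEquivTensor (S := B) Y))
        ((((ES A B).map u).hom.lTensor N) x) =
      ((u.hom.baseChange B).lTensor N)
        ((LinearEquiv.lTensor N (extendScalarsEquivTensor (S := B) X)) x) := by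
    intro X Y u x
    have hc : (extendScalarsEquivTensor (S := B) Y).toLinearMap ∘ₗ ((ES A B).map u).hom =
        (u.hom.baseChange B) ∘ₗ (extendScalarsEquivTensor (S := B) X).toLinearMap := by
      apply LinearMap.ext
      intro z
      exact ES_map_comm u z
    show ((extendScalarsEquivTensor (S := B) Y).toLinearMap.lTensor N)
        ((((ES A B).map u).hom.lTensor N) x) =
      ((u.hom.baseChange B).lTensor N)
        (((extendScalarsEquivTensor (S := B) X).toLinearMap.lTensor N) x)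
    rw [← LinearMap.comp_apply, ← LinearMap.lTensor_comp, hc, LinearMap.lTensor_comp,
      LinearMap.comp_apply]
  have h2 : Function.Exact ((f.hom.baseChange B).lTensor N) ((g.hom.baseChange B).lTensor N) :=
    (function_exact_iff_of_equiv
      (LinearEquiv.lTensor N (extendScalarsEquivTensor (S := B) M₁)).toEquiv
      (LinearEquiv.lTensor N (extendScalarsEquivTensor (S := B) M₂)).toEquiv
      (LinearEquiv.lTensor N (extendScalarsEquivTensor (S := B) M₃)).toEquiv
      (map_zero (LinearEquiv.lTensor N (extendScalarsEquivTensor (S := B) M₃))) _ _ _ _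
      (hcomm f) (hcomm g)).1 h1
  exact (function_exact_iff_of_equiv
    (TensorProduct.AlgebraTensorModule.cancelBaseChange A B B N M₁).toEquiv
    (TensorProduct.AlgebraTensorModule.cancelBaseChange A B B N M₂).toEquiv
    (TensorProduct.AlgebraTensorModule.cancelBaseChange A B B N M₃).toEquiv
    (map_zero (TensorProduct.AlgebraTensorModule.cancelBaseChange A B B N M₃)) _ _ _ _
    (cancelBaseChange_comm N f.hom) (cancelBaseChange_comm N g.hom)).1 h2

end Transfer

section Jacobson

variable {R : Type u} [CommRing R]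

/-- S15232 (without the noetherian hypothesis): tor amplitude of a pseudo-coherent object can be
read off from its derived reduction modulo an ideal contained in the Jacobson radical. -/
theorem hasTorAmplitudeIn_of_lBaseChange_quotient_le_jacobson (I : Ideal R)
    (hI : I ≤ Ideal.jacobson (⊥ : Ideal R)) [HasLBaseChange (Ideal.Quotient.mk I)]
    (P : Dual.D R) (hP : IsPseudoCoherent' R P) (a b : ℤ)
    (h : HasTorAmplitudeIn (R ⧸ I) a b ((LBaseChange (Ideal.Quotient.mk I)).obj P)) :
    IsPerfect R P ∧ HasTorAmplitudeIn R a b P := by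
  obtain ⟨E, b₁, hEb, hEff, ⟨e⟩⟩ := hP
  haveI : E.IsKProjective := isKProjective_of_projective_bounded E b₁ hEb
    (fun j => by haveI := (hEff j).2; infer_instance)
  obtain ⟨eL⟩ := nonempty_lBaseChange_iso_of_isKProjective (Ideal.Quotient.mk I) E
  have hĒ : HasTorAmplitudeIn (R ⧸ I) a b (toD ((ESc (Ideal.Quotient.mk I)).obj E)) :=
    hasTorAmplitudeIn_of_iso ((LBaseChange (Ideal.Quotient.mk I)).mapIso e.symm ≪≫ eL) a b h
  have hĒb : VanishesAbove ((ESc (Ideal.Quotient.mk I)).obj E) b₁ := fun i hi =>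
    (ModuleCat.extendScalars.{u, u, u} (Ideal.Quotient.mk I)).map_isZero (hEb i hi)
  have hĒf : TermwiseFlat ((ESc (Ideal.Quotient.mk I)).obj E) := fun i => by
    haveI : Module.Flat R (E.X i) := by
      haveI := (hEff i).2
      infer_instance
    exact flat_ES (A := R) (B := R ⧸ I) (E.X i) inferInstance
  have hq : ∀ (m : Ideal R), m.IsMaximal → ∀ i : ℤ, (i < a ∨ b < i) →
      Function.Exact ((E.d (i - 1) i).hom.lTensor (R ⧸ m))
        ((E.d i (i + 1)).hom.lTensor (R ⧸ m)) := by
    intro m hm i hi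
    have hIm : I ≤ m := by
      haveI := hm
      have h1 : Ideal.jacobson (⊥ : Ideal R) ≤ Ideal.jacobson m := Ideal.jacobson_mono bot_le
      have h2 : Ideal.jacobson m = m := Ideal.jacobson_eq_self_of_isMaximal
      exact hI.trans (h1.trans (le_of_eq h2))
    letI : Algebra (R ⧸ I) (R ⧸ m) := (Ideal.Quotient.factor hIm).toAlgebra
    haveI : IsScalarTower R (R ⧸ I) (R ⧸ m) := IsScalarTower.of_algebraMap_eq (fun x => rfl)
    have hTN := exactAt_TN_of_hasTorAmplitudeIn' ((ESc (Ideal.Quotient.mk I)).obj E) b₁ hĒb hĒf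
      a b hĒ (ModuleCat.of (R ⧸ I) (R ⧸ m)) i hi
    have hfe := function_exact_of_exactAt _ (i - 1) i (i + 1) (by omega) rfl hTN
    exact exact_lTensor_of_exact_rTensor_ES (A := R) (B := R ⧸ I) (R ⧸ m)
      (E.d (i - 1) i) (E.d i (i + 1)) hfe
  obtain ⟨h1, h2⟩ := perfect_of_exact_mod_maximal E b₁ hEb hEff a b hq
  obtain ⟨T, a', b', hT, hTfp, ⟨eT⟩⟩ := h1
  exact ⟨⟨T, a', b', hT, hTfp, ⟨eT ≪≫ e⟩⟩, hasTorAmplitudeIn_of_iso e a b h2⟩

end Jacobson

end Groth.Agent.Lib.DMod_helper6
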