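import Mathlib
import Groth.Prelude.Def_DRing2
import Groth.Prelude.Def_DDual2
import Groth.Prelude.Def_DualSh
import Groth.Agent.Lib.DMod58_helper6

/-!
# Derived category toolkit (helper6), part 59: the `R`-perfect objects of `D(A)` form a saturated
triangulated subcategory (S7093).
-/

set_option autoImplicit false
universe u
open CategoryTheory CategoryTheory.Limits Pretriangulated DerivedCategory ZeroObject
attribute [local instance] HasDerivedCategory.standard

namespace Groth.Agent.Lib.DMod_helper6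

open DRing CochainComplex

section PC

variable {A : Type u} [CommRing A]

lemma isPseudoCoherent'_iff_forall_pcmP (K : Dual.D A) :
    IsPseudoCoherent' A K ↔ ∀ m : ℤ, pcmP A m K := by
  rw [isPseudoCoherent'_iff_forall]
  exact forall_congr' (fun m => isPseudoCoherent_iff_pcmP m K)

lemma isPseudoCoherent'_of_iso {K L : Dual.D A} (e : K ≅ L) (h : IsPseudoCoherent' A K) :
    IsPseudoCoherent' A L := by
  obtain ⟨E, b, hb, hff, ⟨e'⟩⟩ := h
  exact ⟨E, b, hb, hff, ⟨e' ≪≫ e⟩⟩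

lemma isPseudoCoherent'_of_isZero (K : Dual.D A) (h : IsZero K) : IsPseudoCoherent' A K :=
  (isPseudoCoherent'_iff_forall_pcmP K).2 (fun m => pcmP_of_isZero m K h)

lemma isPseudoCoherent'_shift (K : Dual.D A) (n : ℤ) (h : IsPseudoCoherent' A K) :
    IsPseudoCoherent' A (K⟦n⟧) :=
  (isPseudoCoherent'_iff_forall_pcmP _).2
    (fun m => pcmP_shift (m + n) n m rfl K ((isPseudoCoherent'_iff_forall_pcmP K).1 h (m + n)))

lemma isPseudoCoherent'_ext₂ (T : Triangle (Dual.D A)) (hT : T ∈ distTriang _)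
    (h1 : IsPseudoCoherent' A T.obj₁) (h3 : IsPseudoCoherent' A T.obj₃) :
    IsPseudoCoherent' A T.obj₂ :=
  (isPseudoCoherent'_iff_forall_pcmP _).2 (fun m => pcmP_ext m _
    ⟨_, _, _, _, _, hT, (isPseudoCoherent'_iff_forall_pcmP _).1 h1 m,
      (isPseudoCoherent'_iff_forall_pcmP _).1 h3 m⟩)

lemma isPseudoCoherent'_of_biprod (K L : Dual.D A) [HasBinaryBiproduct K L]
    (h : IsPseudoCoherent' A (K ⊞ L)) : IsPseudoCoherent' A K ∧ IsPseudoCoherent' A L := by
  have h' := (isPseudoCoherent'_iff_forall_pcmP _).1 h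
  exact ⟨(isPseudoCoherent'_iff_forall_pcmP _).2 (fun m => (pcmP_of_biprod m K L (h' m)).1),
    (isPseudoCoherent'_iff_forall_pcmP _).2 (fun m => (pcmP_of_biprod m K L (h' m)).2)⟩

lemma hasFiniteTorDimCx_of_iso {K L : Dual.D A} (e : K ≅ L) (h : HasFiniteTorDimCx A K) :
    HasFiniteTorDimCx A L := by
  obtain ⟨a, b, h⟩ := h
  exact ⟨a, b, hasTorAmplitudeIn_of_iso e a b h⟩

lemma hasFiniteTorDimCx_of_isZero (K : Dual.D A) (h : IsZero K) : HasFiniteTorDimCx A K :=
  ⟨0, 0, hasTorAmplitudeIn_of_isZero K h 0 0⟩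

lemma hasFiniteTorDimCx_shift (K : Dual.D A) (n : ℤ) (h : HasFiniteTorDimCx A K) :
    HasFiniteTorDimCx A (K⟦n⟧) := by
  obtain ⟨a, b, h⟩ := h
  exact ⟨a - n, b - n, hasTorAmplitudeIn_shift K a b (a - n) (b - n) n (by omega) (by omega) h⟩

lemma hasFiniteTorDimCx_ext₂ (T : Triangle (Dual.D A)) (hT : T ∈ distTriang _)
    (h1 : HasFiniteTorDimCx A T.obj₁) (h3 : HasFiniteTorDimCx A T.obj₃) :
    HasFiniteTorDimCx A T.obj₂ := by
  obtain ⟨a1, b1, h1⟩ := h1
  obtain ⟨a3, b3, h3⟩ := h3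
  exact ⟨min a1 a3, max b1 b3, (hasTorAmplitudeIn_two_of_three T hT _ _).2.1
    (hasTorAmplitudeIn_mono _ a1 b1 _ _ (min_le_left _ _) (le_max_left _ _) h1)
    (hasTorAmplitudeIn_mono _ a3 b3 _ _ (min_le_right _ _) (le_max_right _ _) h3)⟩

lemma hasFiniteTorDimCx_of_biprod (K L : Dual.D A) [HasBinaryBiproduct K L]
    (h : HasFiniteTorDimCx A (K ⊞ L)) : HasFiniteTorDimCx A K ∧ HasFiniteTorDimCx A L := by
  obtain ⟨a, b, h⟩ := h
  exact ⟨⟨a, b, hasTorAmplitudeIn_of_biprod_left K L a b h⟩,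
    ⟨a, b, hasTorAmplitudeIn_of_biprod_right K L a b h⟩⟩

end PC

section RelPerfect

variable (R A : Type u) [CommRing R] [CommRing A] [Algebra R A]

lemma isRelPerfect_of_iso {K L : Dual.D A} (e : K ≅ L) (h : Dual2.IsRelPerfect R A K) :
    Dual2.IsRelPerfect R A L :=
  ⟨isPseudoCoherent'_of_iso e h.1,
    hasFiniteTorDimCx_of_iso ((restrictD (algebraMap R A)).mapIso e) h.2⟩

lemma isRelPerfect_of_isZero (K : Dual.D A) (h : IsZero K) : Dual2.IsRelPerfect R A K :=
  ⟨isPseudoCoherent'_of_isZero K h,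
    hasFiniteTorDimCx_of_isZero _ ((restrictD (algebraMap R A)).map_isZero h)⟩

lemma isRelPerfect_shift (K : Dual.D A) (n : ℤ) (h : Dual2.IsRelPerfect R A K) :
    Dual2.IsRelPerfect R A (K⟦n⟧) :=
  ⟨isPseudoCoherent'_shift K n h.1,
    hasFiniteTorDimCx_of_iso (((restrictD (algebraMap R A)).commShiftIso n).app K).symm
      (hasFiniteTorDimCx_shift _ n h.2)⟩

lemma isRelPerfect_ext₂ (T : Triangle (Dual.D A)) (hT : T ∈ distTriang _)
    (h1 : Dual2.IsRelPerfect R A T.obj₁) (h3 : Dual2.IsRelPerfect R A T.obj₃) :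
    Dual2.IsRelPerfect R A T.obj₂ :=
  ⟨isPseudoCoherent'_ext₂ T hT h1.1 h3.1,
    hasFiniteTorDimCx_ext₂ ((restrictD (algebraMap R A)).mapTriangle.obj T)
      ((restrictD (algebraMap R A)).map_distinguished T hT) h1.2 h3.2⟩

lemma isRelPerfect_of_biprod (X Y : Dual.D A) (h : Dual2.IsRelPerfect R A (X ⊞ Y)) :
    Dual2.IsRelPerfect R A X ∧ Dual2.IsRelPerfect R A Y := by
  obtain ⟨h1, h2⟩ := isPseudoCoherent'_of_biprod X Y h.1
  haveI : PreservesBinaryBiproducts (restrictD (algebraMap R A)) :=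
    preservesBinaryBiproducts_of_preservesBiproducts _
  obtain ⟨h3, h4⟩ := hasFiniteTorDimCx_of_biprod _ _
    (hasFiniteTorDimCx_of_iso ((restrictD (algebraMap R A)).mapBiprod X Y) h.2)
  exact ⟨⟨h1, h3⟩, ⟨h2, h4⟩⟩

/-- S7093 (no flatness or finite presentation needed). -/
theorem isRelPerfect_isTriangulated_and_saturated :
    ObjectProperty.IsTriangulated (C := Dual.D A) (fun K => Dual2.IsRelPerfect R A K) ∧
      ObjectProperty.IsClosedUnderIsomorphisms (C := Dual.D A)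
        (fun K => Dual2.IsRelPerfect R A K) ∧
      ∀ X Y : Dual.D A, Dual2.IsRelPerfect R A (X ⊞ Y) →
        Dual2.IsRelPerfect R A X ∧ Dual2.IsRelPerfect R A Y := by
  refine ⟨?_, ⟨fun e h => isRelPerfect_of_iso R A e h⟩, isRelPerfect_of_biprod R A⟩
  haveI : ObjectProperty.ContainsZero (C := Dual.D A) (fun K => Dual2.IsRelPerfect R A K) :=
    ⟨⟨0, isZero_zero _, isRelPerfect_of_isZero R A _ (isZero_zero _)⟩⟩
  haveI : ObjectProperty.IsStableUnderShift (C := Dual.D A)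
      (fun K => Dual2.IsRelPerfect R A K) ℤ :=
    { isStableUnderShiftBy := fun n => ⟨fun K hK => isRelPerfect_shift R A K n hK⟩ }
  haveI : ObjectProperty.IsTriangulatedClosed₂ (C := Dual.D A)
      (fun K => Dual2.IsRelPerfect R A K) :=
    ⟨fun T hT h1 h3 => ObjectProperty.le_isoClosure _ _ (isRelPerfect_ext₂ R A T hT h1 h3)⟩
  exact {}

end RelPerfect

end Groth.Agent.Lib.DMod_helper6
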