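import Mathlib
import Groth.Prelude.Def_DualSh
import Groth.Prelude.Def_DRing4
import Groth.Agent.Lib.DMod59_helper6
import Groth.Agent.Lib.Devissage_helper2
import Groth.Agent.Lib.DRingLT_helper2
import Groth.Agent.Lib.DRingLT2_helper2
import Groth.Agent.Lib.BifCone_helper2
import Groth.Agent.Lib.TenExact_helper2

/-!
# Tensoring an `R`-perfect object of `D(A)` with a perfect object (helper2)

For a K-flat complex `F` of `A`-modules the functor `F ⊗ -` descends to `D(A)`; a property of objects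
of `D(A)` that is thick is inherited by `F ⊗ E` for perfect `E` as soon as it holds for `F`.
-/

set_option autoImplicit false
universe u
open CategoryTheory Limits MonoidalCategory Pretriangulated ZeroObject

namespace Groth.Agent.Lib.RelPerfTensor

open DerivedCategory Groth.Agent.Lib.KFlatMod Groth.Agent.Lib.Devissage
  Groth.Agent.Lib.DMod_helper6 Groth.Agent.Lib.DRingLT
attribute [local instance] HasDerivedCategory.standard

section Retract

variable {C : Type*} [Category C] [Preadditive C] [HasZeroObject C] [HasShift C ℤ]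
  [∀ n : ℤ, (shiftFunctor C n).Additive] [Pretriangulated C]

/-- a property of objects of a pretriangulated category which is stable under isomorphisms and direct
summands is stable under retracts -/
lemma prop_of_retract (P : C → Prop) (hiso : ∀ {X Y : C}, (X ≅ Y) → P X → P Y)
    (hsum : ∀ X Y : C, P (X ⊞ Y) → P X ∧ P Y) {X Y : C} (i : X ⟶ Y) (r : Y ⟶ X)
    (h : i ≫ r = 𝟙 X) (hY : P Y) : P X := by
  obtain ⟨Z, g, δ, hT⟩ := distinguished_cocone_triangle i
  haveI : Mono i := (SplitMono.mk r h).mono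
  have h3 : δ = 0 := (Triangle.mk i g δ).mor₃_eq_zero_of_mono₁ hT ‹Mono i›
  obtain ⟨e, -, -⟩ := exists_iso_binaryBiproduct_of_distTriang _ hT h3
  exact (hsum X Z (hiso e hY)).1

end Retract

variable {A : Type u} [CommRing A]

lemma inverts_tensorLeft (F : DRing.Cx A) (hF : KF A F) :
    (HomologicalComplex.quasiIso (ModuleCat.{u} A) (ComplexShape.up ℤ)).IsInvertedBy
      (tensorLeft F ⋙ Q) := by
  intro K L f hf
  rw [HomologicalComplex.mem_quasiIso_iff] at hf
  haveI := hf
  haveI : QuasiIso (F ◁ f) := quasiIso_whiskerLeft_of_kf F hF f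
  exact (isIso_Q_map_iff_quasiIso (C := ModuleCat.{u} A) (F ◁ f)).2 inferInstance

/-- `F ⊗ -` on `D(A)` for a K-flat complex `F` -/
noncomputable def tenL (F : DRing.Cx A) (hF : KF A F) : Dual.D A ⥤ Dual.D A :=
  Localization.lift (tensorLeft F ⋙ Q) (inverts_tensorLeft F hF) Q

/-- `tenL` is computed by `F ⊗ -` -/
noncomputable def tenLIso (F : DRing.Cx A) (hF : KF A F) :
    Q ⋙ tenL F hF ≅ tensorLeft F ⋙ Q :=
  Localization.fac _ _ _

lemma isZero_of_forall_isZero_X (K : DRing.Cx A) (h : ∀ i, IsZero (K.X i)) : IsZero K := by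
  rw [IsZero.iff_id_eq_zero]
  ext i : 1
  exact (h i).eq_of_src _ _

lemma isZero_tensor_zero (F Z : DRing.Cx A) (hZ : IsZero Z) : IsZero (F ⊗ Z) := by
  apply isZero_of_forall_isZero_X
  intro n
  apply Groth.Agent.Lib.DRingLT.isZero_tensor_X
  intro p q _
  exact Or.inr ((HomologicalComplex.eval _ _ q).map_isZero hZ)

lemma isZero_tenL (F : DRing.Cx A) (hF : KF A F) (K : Dual.D A) (hK : IsZero K) :
    IsZero ((tenL F hF).obj K) := by
  have hQ0 : IsZero (Q.obj (0 : DRing.Cx A)) := Q.map_isZero (isZero_zero _)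
  have e : K ≅ Q.obj (0 : DRing.Cx A) := hK.iso hQ0
  have h1 : IsZero (Q.obj (F ⊗ (0 : DRing.Cx A))) :=
    Q.map_isZero (isZero_tensor_zero F 0 (isZero_zero _))
  exact IsZero.of_iso h1 ((tenL F hF).mapIso e ≪≫ (tenLIso F hF).app 0)

/-- `F ⊗ A[-a] ≅ F[-a]` -/
noncomputable def tensorSingleIso (F : DRing.Cx A) (a : ℤ) :
    F ⊗ (HomologicalComplex.single (ModuleCat.{u} A) (ComplexShape.up ℤ) a).obj (ModuleCat.of A A) ≅
      F⟦-a⟧ :=
  whiskerLeftIso F (((CochainComplex.singleFunctors (ModuleCat.{u} A)).shiftIso (-a) a 0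
      (by omega)).app (ModuleCat.of A A)).symm ≪≫
    CochainComplex.mapBifunctorShift₂Iso F (𝟙_ (DRing.Cx A)) (T A) (-a) ≪≫
      (shiftFunctor (DRing.Cx A) (-a)).mapIso (ρ_ F)

/-- **dévissage**: a thick property of objects of `D(A)` which holds for `Q F`, with `F` K-flat,
holds for `Q (F ⊗ E)` for every perfect `E` -/
theorem prop_tensor_of_isPerfect (P : Dual.D A → Prop)
    (hiso : ∀ {X Y : Dual.D A}, (X ≅ Y) → P X → P Y)
    (h0 : ∀ X : Dual.D A, IsZero X → P X)
    (hshift : ∀ (X : Dual.D A) (n : ℤ), P X → P (X⟦n⟧))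
    (hext : ∀ T : Triangle (Dual.D A), T ∈ distTriang _ → P T.obj₁ → P T.obj₃ → P T.obj₂)
    (hsum : ∀ X Y : Dual.D A, P (X ⊞ Y) → P X ∧ P Y)
    (F : DRing.Cx A) (hF : KF A F) (hPF : P (Q.obj F))
    (E : DRing.Cx A) (hE : DRing.IsPerfect A (Q.obj E)) : P (Q.obj (F ⊗ E)) := by
  have key : P ((tenL F hF).obj (Q.obj E)) := by
    refine perfect_induction (fun E' => P ((tenL F hF).obj E')) ?_ ?_ ?_ ?_ ?_ _ hE
    · intro K K' e h
      exact hiso ((tenL F hF).mapIso e) h
    · intro K hK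
      exact h0 _ (isZero_tenL F hF K hK)
    · intro K K' i r hir h
      refine prop_of_retract P hiso hsum ((tenL F hF).map i) ((tenL F hF).map r) ?_ h
      rw [← CategoryTheory.Functor.map_comp, hir, CategoryTheory.Functor.map_id]
    · intro a
      have e : (tenL F hF).obj ((sD a).obj (ModuleCat.of A A)) ≅ (Q.obj F)⟦-a⟧ :=
        (tenLIso F hF).app _ ≪≫ Q.mapIso (tensorSingleIso F a) ≪≫ (Q.commShiftIso (-a)).app F
      exact hiso e.symm (hshift _ _ hPF)
    · intro Tr hT h1 h3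
      rw [mem_distTriang_iff] at hT
      obtain ⟨K, L, f, ⟨e⟩⟩ := hT
      have hT' : Q.mapTriangle.obj (CochainComplex.mappingCone.triangle (F ◁ f)) ∈
          distTriang (Dual.D A) := by
        rw [mem_distTriang_iff]
        exact ⟨_, _, F ◁ f, ⟨Iso.refl _⟩⟩
      have e1 : (tenL F hF).obj Tr.obj₁ ≅ Q.obj (F ⊗ K) :=
        (tenL F hF).mapIso (Triangle.π₁.mapIso e) ≪≫ (tenLIso F hF).app K
      have e2 : (tenL F hF).obj Tr.obj₂ ≅ Q.obj (F ⊗ L) :=
        (tenL F hF).mapIso (Triangle.π₂.mapIso e) ≪≫ (tenLIso F hF).app L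
      have e3 : (tenL F hF).obj Tr.obj₃ ≅ Q.obj (CochainComplex.mappingCone (F ◁ f)) :=
        (tenL F hF).mapIso (Triangle.π₃.mapIso e) ≪≫
          (tenLIso F hF).app (CochainComplex.mappingCone f) ≪≫
          Q.mapIso (Groth.Agent.Lib.BifCone.mapBifunctorConeIso₂ (T A) F f)
      have h2 := hext _ hT' (hiso e1 h1) (hiso e3 h3)
      exact hiso e2.symm h2
  exact hiso ((tenLIso F hF).app E) key

variable (R : Type u) [CommRing R] [Algebra R A]

/-- **an `R`-perfect object tensored with a perfect object is `R`-perfect** -/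
theorem isRelPerfect_tensor (F : DRing.Cx A) (hF : KF A F)
    (hM : Dual2.IsRelPerfect R A (Q.obj F)) (E : DRing.Cx A) (hE : DRing.IsPerfect A (Q.obj E)) :
    Dual2.IsRelPerfect R A (Q.obj (F ⊗ E)) :=
  prop_tensor_of_isPerfect (fun K => Dual2.IsRelPerfect R A K)
    (fun e h => isRelPerfect_of_iso R A e h) (fun X hX => isRelPerfect_of_isZero R A X hX)
    (fun X n h => isRelPerfect_shift R A X n h)
    (fun T hT h1 h3 => isRelPerfect_ext₂ R A T hT h1 h3)
    (fun X Y h => isRelPerfect_of_biprod R A X Y h) F hF hM E hE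

theorem isRelPerfect_LTensorCx (E : DRing.Cx A) (a b : ℤ) (hEb : DRing.VanishesOutside E a b)
    (hEp : DRing.TermwiseFiniteProjective E) [DRing.HasLTensorCx A E] (M : Dual.D A)
    (hM : Dual2.IsRelPerfect R A M) :
    Dual2.IsRelPerfect R A ((DRing.LTensorCx A E).obj M) := by
  obtain ⟨F, b', hb', hff, ⟨e⟩⟩ := hM.1
  have hF : KF A F := kf_of_vanishesAbove F b' hb' (fun i => by
    haveI := (hff i).2
    exact Module.Flat.of_free)
  have hM' : Dual2.IsRelPerfect R A (Q.obj F) := isRelPerfect_of_iso R A e.symm hM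
  have hE : DRing.IsPerfect A (Q.obj E) := ⟨E, a, b, hEb, hEp, ⟨Iso.refl _⟩⟩
  obtain ⟨e'⟩ := nonempty_LTensorCx_iso E M F E hF e (Iso.refl _)
  exact isRelPerfect_of_iso R A e' (isRelPerfect_tensor R F hF hM' E hE)

end Groth.Agent.Lib.RelPerfTensor
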