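import Mathlib
import Groth.Prelude.Def_DRing3
import Groth.Prelude.Def_DRing4
import Groth.Prelude.Def_DerCA
import Groth.Agent.Lib.DerCompl6_helper2
import Groth.Agent.Lib.DerCompl5_helper2
import Groth.Agent.Lib.RelPerfTensor_helper2
import Groth.Agent.Lib.Amp2_helper2

/-!
# Derived completion and tensor products with pseudo-coherent complexes (helper2)

* `completion_isLE'`: derived completion preserves `D^{≤ b}`.
* `isDerivedComplete_tensor_pseudoCoherent`: `X ⊗ F` is derived complete for `X` bounded above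
  derived complete and `F` a bounded above complex of finite free modules.
* `isDerivedComplete_homCx_of_complete`: `RHom(F, E)` is derived complete if `E` is.
* `bijective_precomp_LTensorCx_unit`: `K ⊗^L F ⟶ K^ ⊗^L F` is universal among maps to derived
  complete objects.
* `completion_LTensorCx`.
-/

set_option autoImplicit false
universe u
open CategoryTheory Limits MonoidalCategory CochainComplex CochainComplex.HomComplex
open scoped TensorProduct

namespace Groth.Agent.Lib.DerCompl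

open Groth.Agent.Lib.KFlatMod Groth.Agent.Lib.HomCx Groth.Agent.Lib.RHomK DerivedCategory
  Groth.Agent.Lib.LocHom Groth.Agent.Lib.BifCone Pretriangulated Groth.Agent.Lib.RelPerfTensor
  Groth.Agent.Lib.DRingLT
attribute [local instance] HasDerivedCategory.standard

variable {A : Type u} [CommRing A]

section Amplitude

variable (fs : List A) [DRing.HasDerivedCompletion (Ideal.span {x : A | x ∈ fs})]

/-- **derived completion preserves `D^{≤ b}`** -/
theorem completion_isLE' (K : Dual.D A) (b : ℤ) (hK : DerivedCategory.IsLE K b) :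
    DerivedCategory.IsLE
      ((DRing.derivedCompletion (Ideal.span {x : A | x ∈ fs})).obj K).obj b := by
  rw [DerivedCategory.isLE_iff]
  intro i hi
  apply isZero_homology_completion fs K i
  intro a
  have hle : DerivedCategory.IsLE (K⟦i⟧) (-1) := by
    haveI := hK
    haveI : DerivedCategory.IsLE (K⟦i⟧) (b - i) :=
      DerivedCategory.TStructure.t.isLE_shift K b i (b - i) (by omega)
    exact DerivedCategory.TStructure.t.isLE_of_le (K⟦i⟧) (b - i) (-1) (by omega)
  exact hom_cech_eq_zero_of_isLE fs (K⟦i⟧) hle a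

end Amplitude

section Thick

variable (I : Ideal A)

lemma isDerivedComplete_of_isZero (X : Dual.D A) (hX : IsZero X) :
    DRing.IsDerivedComplete I X := by
  intro f hf n
  exact ⟨fun a b => ((CategoryTheory.shiftFunctor (Dual.D A) n).map_isZero hX).eq_of_tgt a b⟩

lemma isDerivedComplete_ext₂ (T : Triangle (Dual.D A)) (hT : T ∈ distTriang (Dual.D A))
    (h1 : DRing.IsDerivedComplete I T.obj₁) (h3 : DRing.IsDerivedComplete I T.obj₃) :
    DRing.IsDerivedComplete I T.obj₂ :=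
  isDerivedComplete_of_distinguished I T.invRotate (inv_rot_of_distTriang _ hT)
    (isDerivedComplete_shift I _ h3 (-1)) h1

lemma isDerivedComplete_of_biprod (X Y : Dual.D A) (h : DRing.IsDerivedComplete I (X ⊞ Y)) :
    DRing.IsDerivedComplete I X ∧ DRing.IsDerivedComplete I Y := by
  constructor
  · intro f hf n
    haveI := h f hf n
    refine ⟨fun a b => ?_⟩
    have h1 : a ≫ (biprod.inl : X ⟶ X ⊞ Y)⟦n⟧' = b ≫ (biprod.inl : X ⟶ X ⊞ Y)⟦n⟧' :=
      Subsingleton.elim _ _
    have h2 := congrArg (fun t => t ≫ (biprod.fst : X ⊞ Y ⟶ X)⟦n⟧') h1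
    simp only [Category.assoc, ← CategoryTheory.Functor.map_comp, biprod.inl_fst,
      CategoryTheory.Functor.map_id, Category.comp_id] at h2
    exact h2
  · intro f hf n
    haveI := h f hf n
    refine ⟨fun a b => ?_⟩
    have h1 : a ≫ (biprod.inr : Y ⟶ X ⊞ Y)⟦n⟧' = b ≫ (biprod.inr : Y ⟶ X ⊞ Y)⟦n⟧' :=
      Subsingleton.elim _ _
    have h2 := congrArg (fun t => t ≫ (biprod.snd : X ⊞ Y ⟶ Y)⟦n⟧') h1
    simp only [Category.assoc, ← CategoryTheory.Functor.map_comp, biprod.inr_snd,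
      CategoryTheory.Functor.map_id, Category.comp_id] at h2
    exact h2

/-- vanishing of `Hom(W, -[n])` at the middle vertex of a distinguished triangle -/
lemma subsingleton_hom_shift_mid (T : Triangle (Dual.D A)) (hT : T ∈ distTriang (Dual.D A))
    (W : Dual.D A) (n : ℤ) (h1 : Subsingleton (W ⟶ T.obj₁⟦n⟧))
    (h3 : Subsingleton (W ⟶ T.obj₃⟦n⟧)) : Subsingleton (W ⟶ T.obj₂⟦n⟧) := by
  have hTn : (Triangle.shiftFunctor (Dual.D A) n).obj T ∈ distTriang (Dual.D A) :=
    Triangle.shift_distinguished T hT n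
  have key : ∀ a : W ⟶ T.obj₂⟦n⟧, a = 0 := by
    intro a
    have h0 : a ≫ ((Triangle.shiftFunctor (Dual.D A) n).obj T).mor₂ = 0 :=
      @Subsingleton.elim _ h3 _ _
    obtain ⟨b, hb⟩ := Triangle.coyoneda_exact₂ _ hTn a h0
    have hb0 : b = 0 := @Subsingleton.elim _ h1 b 0
    subst hb0
    exact hb.trans zero_comp
  exact ⟨fun a b => by rw [key a, key b]⟩

/-- `X₁ ⊗ -` and distinguished triangles -/
theorem tenL_triangle (X₁ : DRing.Cx A) (h₁ : KF A X₁) (W : Dual.D A) (n : ℤ)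
    (Tr : Triangle (Dual.D A)) (hTr : Tr ∈ distTriang (Dual.D A))
    (p1 : Subsingleton (W ⟶ ((tenL X₁ h₁).obj Tr.obj₁)⟦n⟧))
    (p3 : Subsingleton (W ⟶ ((tenL X₁ h₁).obj Tr.obj₃)⟦n⟧)) :
    Subsingleton (W ⟶ ((tenL X₁ h₁).obj Tr.obj₂)⟦n⟧) := by
  rw [mem_distTriang_iff] at hTr
  obtain ⟨K', L', g, ⟨e⟩⟩ := hTr
  have hT' : Q.mapTriangle.obj (CochainComplex.mappingCone.triangle (X₁ ◁ g)) ∈
      distTriang (Dual.D A) := by
    rw [mem_distTriang_iff]
    exact ⟨_, _, X₁ ◁ g, ⟨Iso.refl _⟩⟩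
  have e1 : (tenL X₁ h₁).obj Tr.obj₁ ≅ Q.obj (X₁ ⊗ K') :=
    (tenL X₁ h₁).mapIso (Triangle.π₁.mapIso e) ≪≫ (tenLIso X₁ h₁).app K'
  have e2 : (tenL X₁ h₁).obj Tr.obj₂ ≅ Q.obj (X₁ ⊗ L') :=
    (tenL X₁ h₁).mapIso (Triangle.π₂.mapIso e) ≪≫ (tenLIso X₁ h₁).app L'
  have e3 : (tenL X₁ h₁).obj Tr.obj₃ ≅ Q.obj (CochainComplex.mappingCone (X₁ ◁ g)) :=
    (tenL X₁ h₁).mapIso (Triangle.π₃.mapIso e) ≪≫
      (tenLIso X₁ h₁).app (CochainComplex.mappingCone g) ≪≫
      Q.mapIso (Groth.Agent.Lib.BifCone.mapBifunctorConeIso₂ (T A) X₁ g)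
  have q1 : Subsingleton (W ⟶ (Q.obj (X₁ ⊗ K'))⟦n⟧) := by
    haveI := p1
    exact (Iso.homCongr (Iso.refl W)
      ((CategoryTheory.shiftFunctor (Dual.D A) n).mapIso e1.symm)).subsingleton
  have q3 : Subsingleton (W ⟶ (Q.obj (CochainComplex.mappingCone (X₁ ◁ g)))⟦n⟧) := by
    haveI := p3
    exact (Iso.homCongr (Iso.refl W)
      ((CategoryTheory.shiftFunctor (Dual.D A) n).mapIso e3.symm)).subsingleton
  have q2 : Subsingleton (W ⟶ (Q.obj (X₁ ⊗ L'))⟦n⟧) :=
    subsingleton_hom_shift_mid _ hT' W n q1 q3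
  haveI := q2
  exact (Iso.homCongr (Iso.refl W)
    ((CategoryTheory.shiftFunctor (Dual.D A) n).mapIso e2)).subsingleton

/-- **`X ⊗ F` is derived complete** for `X` bounded above and derived complete and `F` a bounded
above complex of finite free modules -/
theorem isDerivedComplete_tensor_pseudoCoherent (X₁ : DRing.Cx A) (b : ℤ) [X₁.IsStrictlyLE b]
    (h₁ : KF A X₁) (hX : DRing.IsDerivedComplete I (Q.obj X₁))
    (F : DRing.Cx A) (c : ℤ) (hFc : DRing.VanishesAbove F c) (hFf : DRing.TermwiseFiniteFree F) :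
    DRing.IsDerivedComplete I (Q.obj (X₁ ⊗ F)) := by
  intro f hf n
  obtain ⟨P, C, u, v, w, hT, hP, hC⟩ := Groth.Agent.Lib.Amp.exists_approx F c hFc hFf (n - b - 1)
  have e2 : (tenL X₁ h₁).obj (Q.obj F) ≅ Q.obj (X₁ ⊗ F) := (tenLIso X₁ h₁).app F
  suffices hs : Subsingleton (Dual.inD A (Localization.Away f) ⟶
      ((tenL X₁ h₁).obj (Q.obj F))⟦n⟧) by
    haveI := hs
    exact (Iso.homCongr (Iso.refl _)
      ((CategoryTheory.shiftFunctor (Dual.D A) n).mapIso e2.symm)).subsingleton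
  refine tenL_triangle X₁ h₁ _ n (Triangle.mk u v w) hT ?_ ?_
  · obtain ⟨E', a', b', hE'b, hE'p, ⟨eP⟩⟩ := hP
    have hE' : DRing.IsPerfect A (Q.obj E') := ⟨E', a', b', hE'b, hE'p, ⟨Iso.refl _⟩⟩
    have hc : DRing.IsDerivedComplete I (Q.obj (X₁ ⊗ E')) :=
      prop_tensor_of_isPerfect (fun Y => DRing.IsDerivedComplete I Y)
        (fun e h => isDerivedComplete_of_iso I e h)
        (fun Y hY => isDerivedComplete_of_isZero I Y hY)
        (fun Y n h => isDerivedComplete_shift I Y h n)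
        (fun T hT h1 h3 => isDerivedComplete_ext₂ I T hT h1 h3)
        (fun Y Z h => isDerivedComplete_of_biprod I Y Z h) X₁ h₁ hX E' hE'
    have e1 : (tenL X₁ h₁).obj P ≅ Q.obj (X₁ ⊗ E') :=
      (tenL X₁ h₁).mapIso eP.symm ≪≫ (tenLIso X₁ h₁).app E'
    haveI := hc f hf n
    exact (Iso.homCongr (Iso.refl _)
      ((CategoryTheory.shiftFunctor (Dual.D A) n).mapIso e1)).subsingleton
  · haveI := hC
    obtain ⟨C₀, hC₀, ⟨eC⟩⟩ := DerivedCategory.exists_iso_Q_obj_of_isLE C (n - b - 1 - 1)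
    haveI := hC₀
    have e3 : (tenL X₁ h₁).obj C ≅ Q.obj (X₁ ⊗ C₀) :=
      (tenL X₁ h₁).mapIso eC ≪≫ (tenLIso X₁ h₁).app C₀
    haveI : (X₁ ⊗ C₀).IsStrictlyLE (b + (n - b - 1 - 1)) := by
      rw [CochainComplex.isStrictlyLE_iff]
      exact Groth.Agent.Lib.DRingLT.vanishesAbove_tensor X₁ C₀ b (n - b - 1 - 1)
        (fun i hi => X₁.isZero_of_isStrictlyLE b i hi)
        (fun i hi => C₀.isZero_of_isStrictlyLE (n - b - 1 - 1) i hi)
    haveI : DerivedCategory.IsLE ((Q.obj (X₁ ⊗ C₀))⟦n⟧) (-2) :=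
      DerivedCategory.TStructure.t.isLE_shift (Q.obj (X₁ ⊗ C₀)) (b + (n - b - 1 - 1)) n (-2)
        (by omega)
    have key : ∀ a : Dual.inD A (Localization.Away f) ⟶ (Q.obj (X₁ ⊗ C₀))⟦n⟧, a = 0 :=
      fun a => eq_zero_of_away_of_isLE f _ a
    haveI : Subsingleton (Dual.inD A (Localization.Away f) ⟶ (Q.obj (X₁ ⊗ C₀))⟦n⟧) :=
      ⟨fun a b => by rw [key a, key b]⟩
    exact (Iso.homCongr (Iso.refl _)
      ((CategoryTheory.shiftFunctor (Dual.D A) n).mapIso e3)).subsingleton

end Thick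

section RHomComplete

lemma quotient_map_eq_zero_of_homCx (T C J : DRing.Cx A) (n : ℤ)
    (hvan : ∀ g' : T ⊗ C ⟶ J⟦n⟧,
      (HomotopyCategory.quotient (ModuleCat.{u} A) (ComplexShape.up ℤ)).map g' = 0)
    (g : T ⟶ (DRing.homCx C J)⟦n⟧) :
    (HomotopyCategory.quotient (ModuleCat.{u} A) (ComplexShape.up ℤ)).map g = 0 := by
  let zc : Cocycle T (DRing.homCx C J) n := Cocycle.equivHomShift g
  have hg : g = Cocycle.equivHomShift.symm zc := (Cocycle.equivHomShift.symm_apply_apply g).symm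
  have hex : (DRing.homCx (T ⊗ C) J).ExactAt n := exactAt_homCx (T ⊗ C) J n hvan
  rw [HomologicalComplex.exactAt_iff' _ (n - 1) n (n + 1) (by simp) (by simp),
    ShortComplex.moduleCat_exact_iff] at hex
  have hw : δ n (n + 1) (unc zc.1) = 0 := by
    rw [δ_unc, zc.δ_eq_zero (n + 1), unc_zero]
  obtain ⟨(w' : Cochain (T ⊗ C) J (n - 1)), hw'⟩ := hex (unc zc.1) hw
  have hw'' : δ (n - 1) n w' = unc zc.1 := hw'
  have hβ : δ (n - 1) n (cur w') = zc.1 := by
    rw [δ_cur, hw'', cur_unc]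
  have h0 : CohomologyClass.toHom (CohomologyClass.mk zc) = 0 :=
    (CohomologyClass.toHom_mk_eq_zero_iff zc).2
      ((mem_coboundaries_iff zc (n - 1) (by omega)).2 ⟨cur w', hβ⟩)
  rw [CohomologyClass.toHom_mk, ← hg] at h0
  exact h0

/-- **`RHom(F, E)` is derived complete if `E` is** -/
theorem isDerivedComplete_homCx_of_complete (I : Ideal A) (F J : DRing.Cx A) [J.IsKInjective]
    (hJ : DRing.IsDerivedComplete I (Q.obj J)) :
    DRing.IsDerivedComplete I (Q.obj (DRing.homCx F J)) := by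
  intro f hf n
  obtain ⟨T, π, hπ, hTp, hT, -⟩ :=
    Groth.Agent.Lib.KProjRes.exists_kproj_resolution (NB (A := A) (B := Localization.Away f))
  haveI := hπ
  haveI := hTp
  haveI : IsIso (Q.map π) := (isIso_Q_map_iff_quasiIso (C := ModuleCat.{u} A) π).2 inferInstance
  have eT : Q.obj T ≅ Dual.inD A (Localization.Away f) :=
    asIso (Q.map π) ≪≫ (singleIso (A := A) (B := Localization.Away f)).symm
  haveI : QuasiIso (F ◁ π) :=
    quasiIso_whiskerLeft T _ hT (kf_NB (Submonoid.powers f)) π F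
  haveI : IsIso (Q.map (F ◁ π)) :=
    (isIso_Q_map_iff_quasiIso (C := ModuleCat.{u} A) (F ◁ π)).2 inferInstance
  have eTF : Q.obj (T ⊗ F) ≅ Q.obj ((DerCA.locCx (Submonoid.powers f)).obj F) :=
    Q.mapIso (Groth.Agent.Lib.KFlatGen.tensorCxSymm (Groth.Agent.Lib.DRingLT.σ A) T F) ≪≫
      asIso (Q.map (F ◁ π)) ≪≫ Q.mapIso (locCxNBIso f F).symm
  have hvan : ∀ g' : T ⊗ F ⟶ J⟦n⟧,
      (HomotopyCategory.quotient (ModuleCat.{u} A) (ComplexShape.up ℤ)).map g' = 0 := by
    intro g'
    apply quotient_map_eq_zero_of_kinj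
    have e' : Q.obj (J⟦n⟧) ≅ (Q.obj J)⟦n⟧ := (Q.commShiftIso n).app J
    have hs : Subsingleton (Q.obj ((DerCA.locCx (Submonoid.powers f)).obj F) ⟶ (Q.obj J)⟦n⟧) :=
      subsingleton_hom_of_actsBij f _ (actsBij_locCx f F) ((Q.obj J)⟦n⟧)
        (fun k => (isDerivedComplete_shift I _ hJ n) f hf k)
    have h0 : eTF.inv ≫ Q.map g' ≫ e'.hom = 0 := @Subsingleton.elim _ hs _ _
    rw [← cancel_epi eTF.inv, ← cancel_mono e'.hom, Category.assoc, h0, comp_zero, zero_comp]
  have e'' : Q.obj ((DRing.homCx F J)⟦n⟧) ≅ (Q.obj (DRing.homCx F J))⟦n⟧ :=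
    (Q.commShiftIso n).app (DRing.homCx F J)
  have hsub : Subsingleton (Q.obj T ⟶ Q.obj ((DRing.homCx F J)⟦n⟧)) := by
    refine ⟨fun a b => ?_⟩
    have key : ∀ a : Q.obj T ⟶ Q.obj ((DRing.homCx F J)⟦n⟧), a = 0 := by
      intro a
      obtain ⟨g, rfl⟩ := Groth.Agent.PerfectCx.exists_Q_map_eq T _ a
      have hg := quotient_map_eq_zero_of_homCx T F J n hvan g
      show Qh.map ((HomotopyCategory.quotient _ (ComplexShape.up ℤ)).map g) = 0
      rw [hg, Functor.map_zero]
    rw [key a, key b]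
  haveI := hsub
  exact (Iso.homCongr eT.symm e''.symm).subsingleton

/-- `RHom(F, E)` (as `homR F`) is derived complete if `E` is -/
theorem isDerivedComplete_homR (I : Ideal A) (F : DRing.Cx A) [F.IsKProjective] (E : Dual.D A)
    (hE : DRing.IsDerivedComplete I E) : DRing.IsDerivedComplete I ((homR F).obj E) := by
  let Z := Q.objPreimage E
  let eZ : Q.obj Z ≅ E := Q.objObjPreimageIso E
  obtain ⟨J, a, hJ, ha⟩ := Groth.Agent.Lib.KInjRes.exists_kinj_resolution Z
  haveI := hJ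
  haveI := ha
  haveI : IsIso (Q.map a) := (isIso_Q_map_iff_quasiIso (C := ModuleCat.{u} A) a).2 inferInstance
  haveI := quasiIso_homCxMap F a
  haveI : IsIso (Q.map ((DRing.homCxFunctor F).map a)) :=
    (isIso_Q_map_iff_quasiIso (C := ModuleCat.{u} A) ((DRing.homCxFunctor F).map a)).2 inferInstance
  have hQJ : DRing.IsDerivedComplete I (Q.obj J) :=
    isDerivedComplete_of_iso I (eZ.symm ≪≫ asIso (Q.map a)) hE
  have hc := isDerivedComplete_homCx_of_complete I F J hQJ
  have e1 : Q.obj (DRing.homCx F J) ≅ (homR F).obj E :=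
    (asIso (Q.map ((DRing.homCxFunctor F).map a))).symm ≪≫ ((homRIso F).app Z).symm ≪≫
      (homR F).mapIso eZ
  exact isDerivedComplete_of_iso I e1 hc

end RHomComplete

section Universal

variable (I : Ideal A) [DRing.HasDerivedCompletion I]

/-- **`K ⊗^L F ⟶ K^ ⊗^L F` is universal among maps to derived complete objects** -/
theorem bijective_precomp_LTensorCx_unit (F : DRing.Cx A) (hF : KF A F) [F.IsKProjective]
    [DRing.HasLTensorCx A F] (K E : Dual.D A) (hE : DRing.IsDerivedComplete I E) :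
    Function.Bijective
      (fun φ : (DRing.LTensorCx A F).obj ((DRing.derivedCompletion I).obj K).obj ⟶ E =>
        (DRing.LTensorCx A F).map (DRing.toDerivedCompletion I K) ≫ φ) := by
  haveI : IsIso (counitCx A F) := by
    haveI : ∀ X, IsIso ((counitCx A F).app X) := fun X => isIso_counit_of_kf_right A F X hF
    exact NatIso.isIso_of_isIso_app _
  let iso : tenR F hF ≅ DRing.LTensorCx A F :=
    Localization.liftNatIso Q (HomologicalComplex.quasiIso (ModuleCat.{u} A) (ComplexShape.up ℤ))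
      (Q ⋙ tenR F hF) (Q ⋙ DRing.LTensorCx A F) (tenR F hF) (DRing.LTensorCx A F)
      (tenRIso F hF ≪≫ Functor.isoWhiskerRight (tensorRightIso A F) Q ≪≫ (asIso (counitCx A F)).symm)
  let adj' : DRing.LTensorCx A F ⊣ homR F := (adjD F hF).ofNatIsoLeft iso
  have hRE : DRing.IsDerivedComplete I ((homR F).obj E) := isDerivedComplete_homR I F E hE
  have hb := bijective_unit_precomp (DRing.IsDerivedComplete I) (DRing.derivedCompletionAdj I) K
    ((homR F).obj E) hRE
  let eqv₁ := adj'.homEquiv ((DRing.derivedCompletion I).obj K).obj E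
  let eqv₂ := adj'.homEquiv K E
  have hΦ : (fun φ : (DRing.LTensorCx A F).obj ((DRing.derivedCompletion I).obj K).obj ⟶ E =>
      (DRing.LTensorCx A F).map (DRing.toDerivedCompletion I K) ≫ φ) =
      eqv₂.symm ∘ (fun a : ((DRing.derivedCompletion I).obj K).obj ⟶ (homR F).obj E =>
        DRing.toDerivedCompletion I K ≫ a) ∘ eqv₁ := by
    funext φ
    simp only [Function.comp_apply]
    rw [Equiv.eq_symm_apply]
    exact adj'.homEquiv_naturality_left (DRing.toDerivedCompletion I K) φ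
  rw [hΦ]
  exact eqv₂.symm.bijective.comp (hb.comp eqv₁.bijective)

end Universal

section Main

variable (fs : List A) [DRing.HasDerivedCompletion (Ideal.span {x : A | x ∈ fs})]

/-- **derived completion commutes with `- ⊗^L F` for `F` pseudo-coherent, on bounded above
objects** -/
theorem completion_LTensorCx (F : DRing.Cx A) (c : ℤ) (hFc : DRing.VanishesAbove F c)
    (hFf : DRing.TermwiseFiniteFree F) [DRing.HasLTensorCx A F]
    (K : Dual.D A) (b : ℤ) (hK : ∀ i : ℤ, b < i → Subsingleton (Dual.HD A K i)) :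
    DRing.IsDerivedComplete (Ideal.span {x : A | x ∈ fs}) ((DRing.LTensorCx A F).obj
        ((DRing.derivedCompletion (Ideal.span {x : A | x ∈ fs})).obj K).obj) ∧
      ∀ E : Dual.D A, DRing.IsDerivedComplete (Ideal.span {x : A | x ∈ fs}) E →
        Function.Bijective (fun φ : (DRing.LTensorCx A F).obj
            ((DRing.derivedCompletion (Ideal.span {x : A | x ∈ fs})).obj K).obj ⟶ E =>
          (DRing.LTensorCx A F).map
            (DRing.toDerivedCompletion (Ideal.span {x : A | x ∈ fs}) K) ≫ φ) := by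
  have hkfF : KF A F := kf_of_vanishesAbove F c hFc (fun i => by
    haveI := (hFf i).2
    infer_instance)
  haveI : F.IsStrictlyLE c := by
    rw [CochainComplex.isStrictlyLE_iff]
    exact hFc
  haveI : ∀ n : ℤ, Projective (F.X n) := fun n => by
    haveI := (hFf n).2
    have hp : Module.Projective A (F.X n) := Module.Projective.of_free
    exact (IsProjective.iff_projective (F.X n)).1 hp
  haveI : F.IsKProjective := isKProjective_of_projective F c
  refine ⟨?_, fun E hE => bijective_precomp_LTensorCx_unit _ F hkfF K E hE⟩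
  have hKle : DerivedCategory.IsLE K b := by
    rw [DerivedCategory.isLE_iff]
    intro i hi
    haveI := hK i hi
    exact ModuleCat.isZero_of_subsingleton _
  have hXle := completion_isLE' fs K b hKle
  haveI := hXle
  obtain ⟨X₂, hX₂, ⟨eX⟩⟩ := DerivedCategory.exists_iso_Q_obj_of_isLE
    ((DRing.derivedCompletion (Ideal.span {x : A | x ∈ fs})).obj K).obj b
  haveI := hX₂
  obtain ⟨X₁, α, hX₁, hfree, _, hα⟩ := Groth.Agent.Lib.LeftRes.exists_resolution_int
    (fun M : ModuleCat.{u} A => Module.Free A M) (resClass A).cover (resClass A).zero X₂ b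
  haveI := hX₁
  have hkf : KF A X₁ := kf_of_vanishesAbove X₁ b (fun i hi => X₁.isZero_of_isStrictlyLE b i hi)
    (fun i => by haveI := hfree i; infer_instance)
  haveI : IsIso (Q.map α) := (isIso_Q_map_iff_quasiIso (C := ModuleCat.{u} A) α).2 hα
  have e₁ : Q.obj X₁ ≅ ((DRing.derivedCompletion (Ideal.span {x : A | x ∈ fs})).obj K).obj :=
    asIso (Q.map α) ≪≫ eX.symm
  have hXc : DRing.IsDerivedComplete (Ideal.span {x : A | x ∈ fs}) (Q.obj X₁) :=
    isDerivedComplete_of_iso _ e₁.symm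
      ((DRing.derivedCompletion (Ideal.span {x : A | x ∈ fs})).obj K).property
  obtain ⟨e'⟩ := nonempty_LTensorCx_iso F
    ((DRing.derivedCompletion (Ideal.span {x : A | x ∈ fs})).obj K).obj X₁ F hkf e₁ (Iso.refl _)
  exact isDerivedComplete_of_iso _ e'
    (isDerivedComplete_tensor_pseudoCoherent _ X₁ b hkf hXc F c hFc hFf)

end Main

end Groth.Agent.Lib.DerCompl
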