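import Mathlib
import Groth.Prelude.Def_DRing3
import Groth.Prelude.Def_DRing4
import Groth.Prelude.Def_DDual2
import Groth.Agent.Lib.DerCompl7_helper2
import Groth.Agent.Lib.DMod47_helper6
import Groth.Agent.Lib.DMod12_helper6
import Groth.Agent.Lib.KProjRes_helper2

/-!
# Derived completion, VIII (helper2): `- ⊗^L M` for a module `M` versus `- ⊗^L F` for a
resolution `F ⟶ M[0]`; derived completion commutes with `- ⊗^L M` for `M` finite over a
Noetherian ring, on bounded above objects.
-/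

set_option autoImplicit false
universe u
open CategoryTheory CategoryTheory.Limits MonoidalCategory DerivedCategory
attribute [local instance] HasDerivedCategory.standard

namespace Groth.Agent.Lib.DerCompl

open Groth.Agent.Lib.KFlatMod Groth.Agent.Lib.DRingLT Groth.Agent.Lib.RHomK
  Groth.Agent.Lib.RHomKInj Groth.Agent.Lib.DMod_helper6

variable {A : Type u} [CommRing A]

/-- `N[0]` -/
noncomputable abbrev Sg (N : ModuleCat.{u} A) : DRing.Cx A :=
  (HomologicalComplex.single (ModuleCat.{u} A) (ComplexShape.up ℤ) 0).obj N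

section SingleNat

lemma tensorSingle₀Iso_hom_f (K : DRing.Cx A) (N : ModuleCat.{u} A) (p : ℤ) :
    (tensorSingle₀Iso K N).hom.f p =
      inv (Groth.Agent.Lib.BifSingle.θ (T A) K N 0 p p (add_zero p)) := by
  simp [tensorSingle₀Iso]

lemma θ_naturality {K L : DRing.Cx A} (f : K ⟶ L) (N : ModuleCat.{u} A) (p : ℤ) :
    Groth.Agent.Lib.BifSingle.θ (T A) K N 0 p p (add_zero p) ≫ (f ▷ Sg N).f p =
      (f.f p ▷ N) ≫ Groth.Agent.Lib.BifSingle.θ (T A) L N 0 p p (add_zero p) := by
  have hnat := ((T A).map (f.f p)).naturality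
    (HomologicalComplex.singleObjXSelf (ComplexShape.up ℤ) 0 N).inv
  have hι := HomologicalComplex.ι_mapBifunctorMap f (𝟙 (Sg N)) (T A) (ComplexShape.up ℤ) p 0 p
    (add_zero p)
  have hw : (f ▷ Sg N) =
      HomologicalComplex.mapBifunctorMap f (𝟙 (Sg N)) (T A) (ComplexShape.up ℤ) := rfl
  dsimp only [Groth.Agent.Lib.BifSingle.θ]
  rw [hw, Category.assoc, hι, HomologicalComplex.id_f, CategoryTheory.Functor.map_id,
    Category.id_comp, ← Category.assoc, hnat, Category.assoc]
  rfl

lemma comm_of_inv {C : Type*} [Category C] {X X' Y Y' : C} (θX : X ⟶ X') (θY : Y ⟶ Y')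
    (tX : X' ⟶ X) (tY : Y' ⟶ Y) (a : X' ⟶ Y') (b : X ⟶ Y)
    (hX : tX ≫ θX = 𝟙 _) (hY : θY ≫ tY = 𝟙 _) (h : θX ≫ a = b ≫ θY) : a ≫ tY = tX ≫ b := by
  calc a ≫ tY = (tX ≫ θX) ≫ a ≫ tY := by rw [hX, Category.id_comp]
    _ = tX ≫ (θX ≫ a) ≫ tY := by simp only [Category.assoc]
    _ = tX ≫ (b ≫ θY) ≫ tY := by rw [h]
    _ = tX ≫ b ≫ (θY ≫ tY) := by simp only [Category.assoc]
    _ = tX ≫ b := by rw [hY, Category.comp_id]

lemma tensorSingle₀Iso_naturality_f {K L : DRing.Cx A} (f : K ⟶ L) (N : ModuleCat.{u} A)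
    (p : ℤ) :
    (f ▷ Sg N).f p ≫ (tensorSingle₀Iso L N).hom.f p =
      (tensorSingle₀Iso K N).hom.f p ≫ (f.f p ▷ N) := by
  have hK : inv (Groth.Agent.Lib.BifSingle.θ (T A) K N 0 p p (add_zero p)) ≫
      Groth.Agent.Lib.BifSingle.θ (T A) K N 0 p p (add_zero p) = 𝟙 _ := IsIso.inv_hom_id _
  have hL : Groth.Agent.Lib.BifSingle.θ (T A) L N 0 p p (add_zero p) ≫
      inv (Groth.Agent.Lib.BifSingle.θ (T A) L N 0 p p (add_zero p)) = 𝟙 _ := IsIso.hom_inv_id _
  have h := θ_naturality f N p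
  exact comm_of_inv (Groth.Agent.Lib.BifSingle.θ (T A) K N 0 p p (add_zero p))
    (Groth.Agent.Lib.BifSingle.θ (T A) L N 0 p p (add_zero p))
    (inv (Groth.Agent.Lib.BifSingle.θ (T A) K N 0 p p (add_zero p)))
    (inv (Groth.Agent.Lib.BifSingle.θ (T A) L N 0 p p (add_zero p)))
    ((f ▷ Sg N).f p) (f.f p ▷ N) hK hL h

/-- `K ⊗ N[0] ≅ K ⊗_A N` (termwise), naturally in `K` -/
noncomputable def tensorSingleNat (N : ModuleCat.{u} A) : tensorRight (Sg N) ≅ TN N :=
  NatIso.ofComponents (fun K => tensorSingle₀Iso K N) (by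
    intro K L f
    apply HomologicalComplex.hom_ext
    intro p
    exact tensorSingle₀Iso_naturality_f f N p)

end SingleNat

section HasL

/-- `- ⊗^L F` exists for `F` K-flat -/
lemma hasLTensorCx_of_kf (F : DRing.Cx A) (hF : KF A F) : DRing.HasLTensorCx A F := by
  haveI : (tenR F hF).IsLeftDerivedFunctor (tenRIso F hF).hom
      (HomologicalComplex.quasiIso (ModuleCat.{u} A) (ComplexShape.up ℤ)) :=
    Functor.isLeftDerivedFunctor_of_inverts _ (tenR F hF) (tenRIso F hF)
  exact Functor.HasLeftDerivedFunctor.mk' (tenR F hF) (tenRIso F hF).hom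

end HasL

section Compare

variable (M : ModuleCat.{u} A) (F : DRing.Cx A) (π : F ⟶ Sg M)

/-- `(- ⊗ F) ⋙ Q ⟶ (- ⊗_A M) ⋙ Q` induced by `π : F ⟶ M[0]` -/
noncomputable def cmpCx : DRing.tensorCxQ A F ⟶ TN M ⋙ Q :=
  Functor.whiskerRight ((tensoringRight (DRing.Cx A)).map π ≫ (tensorSingleNat M).hom) Q

lemma cmpCx_app (P : DRing.Cx A) :
    (cmpCx M F π).app P = Q.map (P ◁ π ≫ (tensorSingle₀Iso P M).hom) := rfl

lemma isIso_cmpCx_app (P : DRing.Cx A) (hP : KF A P) [QuasiIso π] :
    IsIso ((cmpCx M F π).app P) := by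
  rw [cmpCx_app]
  haveI : QuasiIso (P ◁ π) := quasiIso_whiskerLeft_of_kf P hP π
  haveI : QuasiIso (P ◁ π ≫ (tensorSingle₀Iso P M).hom) := inferInstance
  exact (isIso_Q_map_iff_quasiIso (C := ModuleCat.{u} A) _).2 inferInstance

variable [DRing.HasLTensor A M] [DRing.HasLTensorCx A F]

/-- the comparison on complexes -/
noncomputable def β₀ :
    HomotopyCategory.quotient (ModuleCat.{u} A) (ComplexShape.up ℤ) ⋙
      (Qh ⋙ DRing.LTensorCx A F) ⟶
    HomotopyCategory.quotient (ModuleCat.{u} A) (ComplexShape.up ℤ) ⋙ DRing.tensorKh A M :=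
  (Functor.associator _ _ _).inv ≫
    Functor.whiskerRight (quotientCompQhIso (ModuleCat.{u} A)).hom (DRing.LTensorCx A F) ≫
    (DRing.tensorCxQ A F).totalLeftDerivedCounit Q
      (HomologicalComplex.quasiIso (ModuleCat.{u} A) (ComplexShape.up ℤ)) ≫
    cmpCx M F π ≫
    Functor.whiskerLeft (TN M) (quotientCompQhIso (ModuleCat.{u} A)).inv ≫
    (Functor.associator _ _ _).inv ≫
    Functor.whiskerRight ((tensorRight M).mapHomotopyCategoryFactors (ComplexShape.up ℤ)).inv Qh ≫
    (Functor.associator _ _ _).hom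

lemma β₀_app (P : DRing.Cx A) :
    (β₀ M F π).app P =
      (DRing.LTensorCx A F).map ((quotientCompQhIso (ModuleCat.{u} A)).hom.app P) ≫
      ((DRing.tensorCxQ A F).totalLeftDerivedCounit Q
        (HomologicalComplex.quasiIso (ModuleCat.{u} A) (ComplexShape.up ℤ))).app P ≫
      (cmpCx M F π).app P ≫
      (quotientCompQhIso (ModuleCat.{u} A)).inv.app ((TN M).obj P) ≫
      Qh.map (((tensorRight M).mapHomotopyCategoryFactors (ComplexShape.up ℤ)).inv.app P) := by
  simp [β₀]

/-- the comparison on the homotopy category -/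
noncomputable def βh : Qh ⋙ DRing.LTensorCx A F ⟶ DRing.tensorKh A M :=
  CategoryTheory.Quotient.natTransLift _ (β₀ M F π)

/-- the comparison `- ⊗^L F ⟶ - ⊗^L M` induced by `π : F ⟶ M[0]` -/
noncomputable def cmpL : DRing.LTensorCx A F ⟶ DRing.LTensor A M :=
  (DRing.LTensor A M).leftDerivedLift
    ((DRing.tensorKh A M).totalLeftDerivedCounit Qh
      (HomotopyCategory.quasiIso (ModuleCat.{u} A) (ComplexShape.up ℤ)))
    (HomotopyCategory.quasiIso (ModuleCat.{u} A) (ComplexShape.up ℤ))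
    (DRing.LTensorCx A F) (βh M F π)

lemma cmpL_fac (P : DRing.Cx A) :
    (cmpL M F π).app (Qh.obj ((HomotopyCategory.quotient _ _).obj P)) ≫
      ((DRing.tensorKh A M).totalLeftDerivedCounit Qh
        (HomotopyCategory.quasiIso (ModuleCat.{u} A) (ComplexShape.up ℤ))).app
          ((HomotopyCategory.quotient _ _).obj P) = (β₀ M F π).app P :=
  Functor.leftDerived_fac_app _ _ _ _ _ _

/-- **`- ⊗^L F ≅ - ⊗^L M` for a K-flat resolution `F ⟶ M[0]`** -/
theorem isIso_cmpL (hF : KF A F) [QuasiIso π] : IsIso (cmpL M F π) := by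
  haveI : ∀ K : Dual.D A, IsIso ((cmpL M F π).app K) := fun K => by
    obtain ⟨P, p, hp, hPp, hPf, -⟩ :=
      Groth.Agent.Lib.KProjRes.exists_kproj_resolution (Q.objPreimage K)
    haveI := hp
    haveI := hPp
    haveI : IsIso (Q.map p) := (isIso_Q_map_iff_quasiIso (C := ModuleCat.{u} A) p).2 inferInstance
    have e : Qh.obj ((HomotopyCategory.quotient _ _).obj P) ≅ K :=
      (quotientCompQhIso (ModuleCat.{u} A)).app P ≪≫ asIso (Q.map p) ≪≫ Q.objObjPreimageIso K
    rw [← NatTrans.isIso_app_iff_of_iso (cmpL M F π) e]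
    have hfac := cmpL_fac M F π P
    haveI h1 : IsIso (((DRing.tensorKh A M).totalLeftDerivedCounit Qh
        (HomotopyCategory.quasiIso (ModuleCat.{u} A) (ComplexShape.up ℤ))).app
          ((HomotopyCategory.quotient _ _).obj P)) :=
      isIso_leftDerived_counit_of_isKProjective _ _ _ P
    haveI h2 : IsIso ((β₀ M F π).app P) := by
      rw [β₀_app]
      haveI h3 : IsIso (((DRing.tensorCxQ A F).totalLeftDerivedCounit Q
          (HomologicalComplex.quasiIso (ModuleCat.{u} A) (ComplexShape.up ℤ))).app P) :=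
        isIso_counit_of_kf_right A F P hF
      haveI := isIso_cmpCx_app M F π P hPf
      infer_instance
    exact IsIso.of_isIso_fac_right hfac
  exact NatIso.isIso_of_isIso_app _

end Compare

section Main

variable (fs : List A) [DRing.HasDerivedCompletion (Ideal.span {x : A | x ∈ fs})]

/-- **derived completion commutes with `- ⊗^L M` for a module `M` with a bounded above finite
free resolution, on bounded above objects** -/
theorem completion_LTensor_of_resolution (M : ModuleCat.{u} A) [DRing.HasLTensor A M]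
    (F : DRing.Cx A) (c : ℤ) (hFc : DRing.VanishesAbove F c)
    (hFf : DRing.TermwiseFiniteFree F) (π : F ⟶ Sg M) [QuasiIso π]
    (K : Dual.D A) (b : ℤ) (hK : ∀ i : ℤ, b < i → Subsingleton (Dual.HD A K i)) :
    DRing.IsDerivedComplete (Ideal.span {x : A | x ∈ fs}) ((DRing.LTensor A M).obj
        ((DRing.derivedCompletion (Ideal.span {x : A | x ∈ fs})).obj K).obj) ∧
      ∀ E : Dual.D A, DRing.IsDerivedComplete (Ideal.span {x : A | x ∈ fs}) E →
        Function.Bijective (fun φ : (DRing.LTensor A M).obj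
            ((DRing.derivedCompletion (Ideal.span {x : A | x ∈ fs})).obj K).obj ⟶ E =>
          (DRing.LTensor A M).map
            (DRing.toDerivedCompletion (Ideal.span {x : A | x ∈ fs}) K) ≫ φ) := by
  have hkfF : KF A F := kf_of_vanishesAbove F c hFc (fun i => by
    haveI := (hFf i).2
    infer_instance)
  haveI : DRing.HasLTensorCx A F := hasLTensorCx_of_kf F hkfF
  haveI := isIso_cmpL M F π hkfF
  let e : DRing.LTensorCx A F ≅ DRing.LTensor A M := asIso (cmpL M F π)
  obtain ⟨h1, h2⟩ := completion_LTensorCx fs F c hFc hFf K b hK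
  refine ⟨isDerivedComplete_of_iso _ (e.app _) h1, fun E hE => ?_⟩
  have hb := h2 E hE
  have hΦ : (fun φ : (DRing.LTensor A M).obj
      ((DRing.derivedCompletion (Ideal.span {x : A | x ∈ fs})).obj K).obj ⟶ E =>
      (DRing.LTensor A M).map
        (DRing.toDerivedCompletion (Ideal.span {x : A | x ∈ fs}) K) ≫ φ) =
      ((e.app K).homFromEquiv (Z := E)) ∘
      (fun ψ : (DRing.LTensorCx A F).obj
        ((DRing.derivedCompletion (Ideal.span {x : A | x ∈ fs})).obj K).obj ⟶ E =>
        (DRing.LTensorCx A F).map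
          (DRing.toDerivedCompletion (Ideal.span {x : A | x ∈ fs}) K) ≫ ψ) ∘
      ((e.app ((DRing.derivedCompletion (Ideal.span {x : A | x ∈ fs})).obj K).obj).symm.homFromEquiv
        (Z := E)) := by
    funext φ
    simp only [Function.comp_apply, Iso.homFromEquiv_apply, Iso.symm_inv, Iso.app_inv, Iso.app_hom]
    have hn := e.hom.naturality (DRing.toDerivedCompletion (Ideal.span {x : A | x ∈ fs}) K)
    rw [← Category.assoc ((DRing.LTensorCx A F).map _), hn, Category.assoc,
      Iso.inv_hom_id_app_assoc]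
  rw [hΦ]
  exact (Iso.homFromEquiv _).bijective.comp (hb.comp (Iso.homFromEquiv _).bijective)

end Main

end Groth.Agent.Lib.DerCompl
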