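import Groth.Agent.Lib.BifColim_helper2
import Mathlib.Algebra.Homology.GrothendieckAbelian

/-!
# Colimits of degreewise epimorphic quasi-isomorphisms (helper2)

* `quasiIso_g_of_acyclic_X₁`: in a short exact sequence of cochain complexes with acyclic kernel the
  epimorphism is a quasi-isomorphism.
* `quasiIso_of_isColimit`: a colimit (of exact shape) of epimorphic quasi-isomorphisms is a
  quasi-isomorphism.
-/

open CategoryTheory Limits HomologicalComplex

namespace Groth.Agent.Lib.QisColim

universe w w' v u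

variable {A : Type u} [Category.{v} A] [Abelian A]

lemma quasiIso_g_of_acyclic_X₁ {S : ShortComplex (CochainComplex A ℤ)} (hS : S.ShortExact)
    (h : S.X₁.Acyclic) : QuasiIso S.g := by
  rw [quasiIso_iff]
  intro i
  rw [quasiIsoAt_iff_isIso_homologyMap]
  have hz : ∀ j, IsZero (S.X₁.homology j) := fun j =>
    (HomologicalComplex.exactAt_iff_isZero_homology _ _).1 (h j)
  haveI : Mono (homologyMap S.g i) :=
    (hS.homology_exact₂ i).mono_g ((hz i).eq_of_src _ _)
  haveI : Epi (homologyMap S.g i) :=
    (hS.homology_exact₃ i (i + 1) (by simp)).epi_f ((hz (i + 1)).eq_of_tgt _ _)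
  exact isIso_of_mono_of_epi _

section Colim

variable {J : Type w} [Category.{w'} J] [HasColimitsOfShape J A] [HasExactColimitsOfShape J A]
  {F F' : J ⥤ CochainComplex A ℤ} (α : F ⟶ F')

/-- the pointwise kernel of a natural transformation -/
noncomputable def kerFunctor : J ⥤ CochainComplex A ℤ where
  obj j := kernel (α.app j)
  map {j j'} f := kernel.map (α.app j) (α.app j') (F.map f) (F'.map f) (α.naturality f).symm
  map_id j := by
    apply (cancel_mono (kernel.ι (α.app j))).1
    simp
  map_comp f g := by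
    apply (cancel_mono (kernel.ι (α.app _))).1
    simp

noncomputable def kerι : kerFunctor α ⟶ F where
  app j := kernel.ι (α.app j)
  naturality j j' f := by
    dsimp [kerFunctor]
    simp

theorem quasiIso_of_isColimit (hepi : ∀ j, Epi (α.app j)) (hq : ∀ j, QuasiIso (α.app j))
    {c : Cocone F} {c' : Cocone F'} (hc : IsColimit c) (hc' : IsColimit c') (φ : c.pt ⟶ c'.pt)
    (hφ : ∀ j, c.ι.app j ≫ φ = α.app j ≫ c'.ι.app j) : QuasiIso φ := by
  have hpt : ∀ j, (ShortComplex.mk ((kerι α).app j) (α.app j)
      (kernel.condition (α.app j))).ShortExact := by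
    intro j
    haveI := hepi j
    haveI : Mono (ShortComplex.mk ((kerι α).app j) (α.app j) (kernel.condition (α.app j))).f :=
      inferInstanceAs (Mono (kernel.ι (α.app j)))
    haveI : Epi (ShortComplex.mk ((kerι α).app j) (α.app j) (kernel.condition (α.app j))).g :=
      hepi j
    exact ⟨ShortComplex.exact_of_f_is_kernel _ (kernelIsKernel (α.app j))⟩
  let φ₁ : colimit (kerFunctor α) ⟶ c.pt :=
    colimit.desc (kerFunctor α) ⟨c.pt, kerι α ≫ c.ι⟩
  have hφ₁ : ∀ j, colimit.ι (kerFunctor α) j ≫ φ₁ = (kerι α).app j ≫ c.ι.app j := by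
    intro j
    simp [φ₁]
  have w : φ₁ ≫ φ = 0 := by
    apply colimit.hom_ext
    intro j
    rw [reassoc_of% (hφ₁ j), hφ j, comp_zero]
    change kernel.ι (α.app j) ≫ α.app j ≫ _ = 0
    rw [kernel.condition_assoc, zero_comp]
  have hS := ColimExact.shortExact_of_isColimit (kerι α) α (fun j => ⟨_, hpt j⟩)
    (colimit.isColimit (kerFunctor α)) hc hc' φ₁ φ hφ₁ hφ w
  have hac : (colimit (kerFunctor α)).Acyclic := by
    apply BifColim.acyclic_of_isColimit (kerFunctor α) _ (colimit.isColimit _)
    intro j
    exact (hpt j).acyclic_X₁ (hq j)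
  exact quasiIso_g_of_acyclic_X₁ hS hac

end Colim

end Groth.Agent.Lib.QisColim
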