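import Mathlib
import Groth.Prelude.Def_DRing3
import Groth.Prelude.Def_DRing4
import Groth.Prelude.Def_DDual2
import Groth.Prelude.Def_DerCA
import Groth.Agent.Lib.DerCompl8_helper2
import Groth.Agent.Lib.HomCxPreQis_helper2
import Groth.Agent.Lib.KInjLift_helper2
import Groth.Agent.Lib.QisColim_helper2

/-!
# Derived Nakayama (helper2), part 1: chain-level dévissage

* `acyclic_TN_of_retract`: if `X` is K-projective, `X ⊗_A B` is acyclic and `N` is a retract of
  `B ⊗ N` (e.g. `N` a module over the `A`-algebra `B`), then `X ⊗_A N` is acyclic.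
* `shortExact_tn`: `X ⊗_A -` is exact in the module variable for `X` termwise flat.
* `acyclic_tn_cone`: the inductive step for the cone of `f : X ⟶ X`.
-/

set_option autoImplicit false
universe u
open CategoryTheory CategoryTheory.Limits MonoidalCategory DerivedCategory
attribute [local instance] HasDerivedCategory.standard

namespace Groth.Agent.Lib.DerNak

open Groth.Agent.Lib.KFlatMod Groth.Agent.Lib.DMod_helper6 Groth.Agent.Lib.DerCompl
  Groth.Agent.Lib.BifCone

variable {A : Type u} [CommRing A]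

section TNMap

/-- `TN(-) X` on module maps -/
noncomputable def tnMap {N N' : ModuleCat.{u} A} (g : N ⟶ N') (X : DRing.Cx A) :
    (TN N).obj X ⟶ (TN N').obj X where
  f p := X.X p ◁ g
  comm' p q _ := whisker_exchange (X.d p q) g

@[simp] lemma tnMap_f {N N' : ModuleCat.{u} A} (g : N ⟶ N') (X : DRing.Cx A) (p : ℤ) :
    (tnMap g X).f p = X.X p ◁ g := rfl

lemma tnMap_comp {N N' N'' : ModuleCat.{u} A} (g : N ⟶ N') (g' : N' ⟶ N'') (X : DRing.Cx A) :
    tnMap (g ≫ g') X = tnMap g X ≫ tnMap g' X := by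
  apply HomologicalComplex.hom_ext
  intro p
  show X.X p ◁ (g ≫ g') = X.X p ◁ g ≫ X.X p ◁ g'
  exact whiskerLeft_comp _ _ _

lemma tnMap_zero (N N' : ModuleCat.{u} A) (X : DRing.Cx A) :
    tnMap (0 : N ⟶ N') X = 0 := by
  apply HomologicalComplex.hom_ext
  intro p
  show X.X p ◁ (0 : N ⟶ N') = 0
  exact MonoidalPreadditive.whiskerLeft_zero

lemma tnMap_smul_id (a : A) (N : ModuleCat.{u} A) (X : DRing.Cx A) :
    tnMap (a • 𝟙 N) X = (TN N).map (a • 𝟙 X) := by
  apply HomologicalComplex.hom_ext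
  intro p
  show X.X p ◁ (a • 𝟙 N) = (a • 𝟙 (X.X p)) ▷ N
  rw [MonoidalLinear.whiskerLeft_smul, MonoidalLinear.smul_whiskerRight, whiskerLeft_id,
    id_whiskerRight]

end TNMap

section Retract

variable (B N : ModuleCat.{u} A) (η : 𝟙_ (ModuleCat.{u} A) ⟶ B) (μ : B ⊗ N ⟶ N)

/-- `x ↦ x ⊗ η(1)` -/
noncomputable def unitCx (X : DRing.Cx A) : X ⟶ (TN B).obj X where
  f p := (ρ_ (X.X p)).inv ≫ X.X p ◁ η
  comm' p q _ := by
    show ((ρ_ (X.X p)).inv ≫ X.X p ◁ η) ≫ X.d p q ▷ B = X.d p q ≫ (ρ_ (X.X q)).inv ≫ X.X q ◁ η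
    rw [Category.assoc, whisker_exchange, ← Category.assoc, ← Category.assoc,
      rightUnitor_inv_naturality]

/-- `(x ⊗ b) ⊗ n ↦ x ⊗ μ(b ⊗ n)` -/
noncomputable def actCx (X : DRing.Cx A) : (TN N).obj ((TN B).obj X) ⟶ (TN N).obj X where
  f p := (α_ (X.X p) B N).hom ≫ X.X p ◁ μ
  comm' p q _ := by
    show ((α_ (X.X p) B N).hom ≫ X.X p ◁ μ) ≫ X.d p q ▷ N =
      (X.d p q ▷ B) ▷ N ≫ (α_ (X.X q) B N).hom ≫ X.X q ◁ μ
    rw [Category.assoc, whisker_exchange, ← Category.assoc, ← Category.assoc,
      associator_naturality_left]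

lemma unit_act (hμ : η ▷ N ≫ μ = (λ_ N).hom) (X : DRing.Cx A) :
    (TN N).map (unitCx B η X) ≫ actCx B N μ X = 𝟙 _ := by
  apply HomologicalComplex.hom_ext
  intro p
  show ((ρ_ (X.X p)).inv ≫ X.X p ◁ η) ▷ N ≫ (α_ (X.X p) B N).hom ≫ X.X p ◁ μ = 𝟙 _
  rw [comp_whiskerRight, Category.assoc, ← Category.assoc ((X.X p ◁ η) ▷ N),
    associator_naturality_middle, Category.assoc, ← whiskerLeft_comp, hμ,
    triangle, inv_hom_whiskerRight]

/-- **if `X` is K-projective, `X ⊗_A B` is acyclic and `N` is a retract of `B ⊗ N`, then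
`X ⊗_A N` is acyclic** -/
theorem acyclic_TN_of_retract (hμ : η ▷ N ≫ μ = (λ_ N).hom) (X : DRing.Cx A) [X.IsKProjective]
    (hB : ((TN B).obj X).Acyclic) : ((TN N).obj X).Acyclic := by
  have h := CochainComplex.IsKProjective.homotopyZero (unitCx B η X) hB
  have h' : Homotopy ((TN N).map (unitCx B η X)) 0 := by
    have h1 := (tensorRight N).mapHomotopy h
    rw [Functor.map_zero] at h1
    exact h1
  have hid : Homotopy (𝟙 ((TN N).obj X)) 0 := by
    rw [← unit_act B N η μ hμ X]
    exact (h'.compRight (actCx B N μ X)).trans (Homotopy.ofEq zero_comp)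
  intro n
  rw [HomologicalComplex.exactAt_iff_isZero_homology, IsZero.iff_id_eq_zero,
    ← HomologicalComplex.homologyMap_id, hid.homologyMap_eq n, HomologicalComplex.homologyMap_zero]

end Retract

section SES

/-- for `X` termwise flat, `TN(-) X` is exact -/
theorem shortExact_tn (X : DRing.Cx A) (hX : ∀ p, Module.Flat A (X.X p))
    (S : ShortComplex (ModuleCat.{u} A)) (hS : S.ShortExact) :
    (ShortComplex.mk (tnMap S.f X) (tnMap S.g X)
      (by rw [← tnMap_comp, S.zero, tnMap_zero])).ShortExact := by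
  rw [HomologicalComplex.shortExact_iff_degreewise_shortExact]
  intro p
  haveI := hX p
  haveI := (Module.Flat.iff_preservesFiniteLimits_tensorLeft (X.X p)).1 inferInstance
  exact hS.map_of_exact (tensorLeft (X.X p))

/-- `N` is killed by every element of the list -/
def KilledBy (fs : List A) (N : ModuleCat.{u} A) : Prop := ∀ a ∈ fs, ∀ x : N, a • x = 0

variable (f : A) (N : ModuleCat.{u} A)

/-- multiplication by `f` on `N` -/
noncomputable abbrev mulLin : N →ₗ[A] N := LinearMap.lsmul A N f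

lemma shortExact_of_lin {N₁ N₂ N₃ : Type u} [AddCommGroup N₁] [Module A N₁] [AddCommGroup N₂]
    [Module A N₂] [AddCommGroup N₃] [Module A N₃] (i : N₁ →ₗ[A] N₂) (p : N₂ →ₗ[A] N₃)
    (hi : Function.Injective i) (hp : Function.Surjective p) (h : Function.Exact i p) :
    (ShortComplex.mk (ModuleCat.ofHom i) (ModuleCat.ofHom p) (by
      ext x
      exact h.apply_apply_eq_zero x)).ShortExact where
  exact := by
    rw [ShortComplex.ShortExact.moduleCat_exact_iff_function_exact]
    exact h
  mono_f := (ModuleCat.mono_iff_injective _).2 hi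
  epi_g := (ModuleCat.epi_iff_surjective _).2 hp

end SES


section Cone

open CochainComplex

variable (f : A) (fs : List A)

/-- the inductive step: from modules killed by `f :: fs` to the cone of `f` and modules killed
by `fs` -/
theorem acyclic_tn_cone (X : DRing.Cx A) (hX : ∀ p, Module.Flat A (X.X p))
    (hgood : ∀ N : ModuleCat.{u} A, KilledBy (f :: fs) N → ((TN N).obj X).Acyclic)
    (N : ModuleCat.{u} A) (hN : KilledBy fs N) :
    ((TN N).obj (mappingCone (f • 𝟙 X))).Acyclic := by
  let φ : N →ₗ[A] N := LinearMap.lsmul A N f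
  have hker : KilledBy (f :: fs) (ModuleCat.of A (LinearMap.ker φ)) := by
    intro a ha x
    rcases List.mem_cons.1 ha with rfl | ha
    · apply Subtype.ext
      exact x.2
    · apply Subtype.ext
      exact hN a ha x.1
  have hcoker : KilledBy (f :: fs) (ModuleCat.of A (N ⧸ LinearMap.range φ)) := by
    intro a ha x
    obtain ⟨y, rfl⟩ := Submodule.mkQ_surjective _ x
    rcases List.mem_cons.1 ha with rfl | ha
    · rw [← map_smul, Submodule.mkQ_apply, Submodule.Quotient.mk_eq_zero]
      exact ⟨y, rfl⟩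
    · rw [← map_smul, hN a ha y, map_zero]
  have exact1 : Function.Exact (LinearMap.ker φ).subtype φ.rangeRestrict := by
    intro x
    constructor
    · intro h
      have h' : φ x = 0 := by simpa using congrArg Subtype.val h
      exact ⟨⟨x, h'⟩, rfl⟩
    · rintro ⟨y, rfl⟩
      exact Subtype.ext y.2
  have hS1 := shortExact_of_lin (LinearMap.ker φ).subtype φ.rangeRestrict
    (Submodule.injective_subtype _) (LinearMap.surjective_rangeRestrict φ) exact1
  have hS2 := shortExact_of_lin (LinearMap.range φ).subtype (LinearMap.range φ).mkQ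
    (Submodule.injective_subtype _) (Submodule.mkQ_surjective _) (LinearMap.exact_subtype_mkQ _)
  have hT1 := shortExact_tn X hX _ hS1
  have hT2 := shortExact_tn X hX _ hS2
  haveI q1 : QuasiIso (tnMap (ModuleCat.ofHom φ.rangeRestrict) X) :=
    Groth.Agent.Lib.QisColim.quasiIso_g_of_acyclic_X₁ hT1 (hgood _ hker)
  haveI q2 : QuasiIso (tnMap (ModuleCat.ofHom (LinearMap.range φ).subtype) X) :=
    Groth.Agent.Lib.KInjLift.quasiIso_f_of_acyclic _ hT2 (hgood _ hcoker)
  have hcomp : (TN N).map (f • 𝟙 X) = tnMap (ModuleCat.ofHom φ.rangeRestrict) X ≫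
      tnMap (ModuleCat.ofHom (LinearMap.range φ).subtype) X := by
    rw [← tnMap_comp, ← tnMap_smul_id]
    congr 1
  haveI : QuasiIso ((TN N).map (f • 𝟙 X)) := by
    rw [hcomp]
    infer_instance
  have hc := (quasiIso_iff_acyclic_mappingCone ((TN N).map (f • 𝟙 X))).1 inferInstance
  exact acyclic_of_iso (mappingCone.mapHomologicalComplexIso (f • 𝟙 X) (tensorRight N)).symm hc

end Cone

section Elementwise

variable {R : Type u} [Ring R] {K L : CochainComplex (ModuleCat.{u} R) ℤ} (φ : K ⟶ L)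

lemma exists_of_mono_homologyMap (j : ℤ) (hφ : Mono (HomologicalComplex.homologyMap φ j))
    (x : K.X j) (hx : K.d j (j + 1) x = 0) (y : L.X (j - 1))
    (hy : φ.f j x = L.d (j - 1) j y) :
    ∃ x₁ : K.X (j - 1), K.d (j - 1) j x₁ = x := by
  have H := (HomologicalComplex.mono_homologyMap_iff_up_to_refinements φ (j - 1) j (j + 1)
    (by simp) (by simp)).1 hφ
  obtain ⟨A', π, hπ, x₁, hx₁⟩ := H (A := ModuleCat.of R R)
    (ModuleCat.ofHom (LinearMap.toSpanSingleton R (K.X j) x))
    (by
      refine ModuleCat.hom_ext (LinearMap.ext_ring ?_)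
      simp [hx])
    (ModuleCat.ofHom (LinearMap.toSpanSingleton R (L.X (j - 1)) y))
    (by
      refine ModuleCat.hom_ext (LinearMap.ext_ring ?_)
      simp [hy])
  obtain ⟨a', ha'⟩ := (ModuleCat.epi_iff_surjective π).1 hπ (1 : R)
  refine ⟨x₁ a', ?_⟩
  have h := ConcreteCategory.congr_hom hx₁ a'
  simp [ha'] at h
  exact h.symm

lemma exists_of_epi_homologyMap (j : ℤ) (hφ : Epi (HomologicalComplex.homologyMap φ j))
    (y : L.X j) (hy : L.d j (j + 1) y = 0) :
    ∃ (x : K.X j), K.d j (j + 1) x = 0 ∧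
      ∃ y₁ : L.X (j - 1), y = φ.f j x + L.d (j - 1) j y₁ := by
  have H := (HomologicalComplex.epi_homologyMap_iff_up_to_refinements φ (j - 1) j (j + 1)
    (by simp) (by simp)).1 hφ
  obtain ⟨A', π, hπ, x₂, hx₂, y₁, h⟩ := H (A := ModuleCat.of R R)
    (ModuleCat.ofHom (LinearMap.toSpanSingleton R (L.X j) y))
    (by
      refine ModuleCat.hom_ext (LinearMap.ext_ring ?_)
      simp [hy])
  obtain ⟨a', ha'⟩ := (ModuleCat.epi_iff_surjective π).1 hπ (1 : R)
  refine ⟨x₂ a', ?_, y₁ a', ?_⟩
  · simpa using ConcreteCategory.congr_hom hx₂ a'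
  · have h' := ConcreteCategory.congr_hom h a'
    simpa [ha'] using h'

end Elementwise

section Loc

variable (f : A) (X : DRing.Cx A)

lemma smul_id_f_apply (j : ℤ) (z : X.X j) : ((f • 𝟙 X : X ⟶ X).f j) z = f • z := by
  simp

include X in
lemma isIso_homologyMap_of_quasiIso {Y : DRing.Cx A} (g : X ⟶ Y) (hq : QuasiIso g) (j : ℤ) :
    IsIso (HomologicalComplex.homologyMap g j) := by
  haveI := hq
  exact (quasiIsoAt_iff_isIso_homologyMap g j).1 inferInstance

lemma boundary_of_pow_smul (hq : QuasiIso (f • 𝟙 X)) (j : ℤ) (k : ℕ) :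
    ∀ (x : X.X j), X.d j (j + 1) x = 0 → ∀ (y : X.X (j - 1)),
      f ^ k • x = X.d (j - 1) j y → ∃ x₁ : X.X (j - 1), X.d (j - 1) j x₁ = x := by
  haveI := isIso_homologyMap_of_quasiIso X (f • 𝟙 X) hq j
  induction k with
  | zero =>
    intro x _ y hy
    exact ⟨y, by simpa using hy.symm⟩
  | succ k ih =>
    intro x hx y hy
    obtain ⟨x₁, hx₁⟩ := exists_of_mono_homologyMap (f • 𝟙 X) j inferInstance (f ^ k • x)
      (by rw [map_smul, hx, smul_zero]) y (by
        rw [smul_id_f_apply, smul_smul, ← pow_succ']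
        exact hy)
    exact ih x hx x₁ hx₁.symm

lemma exists_pow_smul_add (hq : QuasiIso (f • 𝟙 X)) (j : ℤ) (k : ℕ) (y : X.X j)
    (hy : X.d j (j + 1) y = 0) :
    ∃ x : X.X j, X.d j (j + 1) x = 0 ∧
      ∃ y₁ : X.X (j - 1), y = f ^ k • x + X.d (j - 1) j y₁ := by
  haveI := isIso_homologyMap_of_quasiIso X (f • 𝟙 X) hq j
  induction k with
  | zero => exact ⟨y, hy, 0, by simp⟩
  | succ k ih =>
    obtain ⟨x, hx, y₁, h⟩ := ih
    obtain ⟨x', hx', y₂, h'⟩ := exists_of_epi_homologyMap (f • 𝟙 X) j inferInstance x hx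
    refine ⟨x', hx', f ^ k • y₂ + y₁, ?_⟩
    rw [smul_id_f_apply] at h'
    rw [h, h', smul_add, smul_smul, ← pow_succ, map_add, map_smul, add_assoc]

/-- **if `f` acts on `X` by a quasi-isomorphism then `X ⟶ X_f` is a quasi-isomorphism** -/
theorem quasiIso_locCxUnit (hq : QuasiIso (f • 𝟙 X)) :
    QuasiIso (DerCA.locCxUnit (Submonoid.powers f) X) := by
  rw [quasiIso_iff]
  intro j
  rw [quasiIsoAt_iff_isIso_homologyMap]
  have hd : ∀ (i i' : ℤ) (u : X.X i) (s : Submonoid.powers f),
      (((DerCA.locCx (Submonoid.powers f)).obj X).d i i')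
        (LocalizedModule.mk u s : LocalizedModule (Submonoid.powers f) (X.X i)) =
      (LocalizedModule.mk (X.d i i' u) s : LocalizedModule (Submonoid.powers f) (X.X i')) :=
    fun i i' u s => IsLocalizedModule.map_LocalizedModules (Submonoid.powers f) (X.d i i').hom u s
  have hψ : ∀ (i : ℤ) (x : X.X i),
      ((DerCA.locCxUnit (Submonoid.powers f) X).f i) x =
        (LocalizedModule.mk x 1 : LocalizedModule (Submonoid.powers f) (X.X i)) :=
    fun i x => rfl
  haveI : Mono (HomologicalComplex.homologyMap (DerCA.locCxUnit (Submonoid.powers f) X) j) := by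
    apply Groth.Agent.Lib.HomCxPreQis.mono_homologyMap_of_elementwise
    intro x hx w hw
    induction w using LocalizedModule.induction_on with
    | h u s =>
      rw [hψ, hd] at hw
      have hw' : (LocalizedModule.mk x 1 : LocalizedModule (Submonoid.powers f) (X.X j)) =
          LocalizedModule.mk (X.d (j - 1) j u) s := hw
      rw [LocalizedModule.mk_eq] at hw'
      obtain ⟨t, ht⟩ := hw'
      obtain ⟨a, ha⟩ := t.2
      obtain ⟨b, hb⟩ := s.2
      refine boundary_of_pow_smul f X hq j (a + b) x hx (f ^ a • u) ?_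
      rw [map_smul, pow_add, mul_smul]
      have ha' : (t : A) = f ^ a := ha.symm
      have hb' : (s : A) = f ^ b := hb.symm
      have ht' : (t : A) • (s : A) • x =
          (t : A) • ((1 : Submonoid.powers f) : A) • X.d (j - 1) j u := ht
      rw [ha', hb', Submonoid.coe_one, one_smul] at ht'
      exact ht'
  haveI : Epi (HomologicalComplex.homologyMap (DerCA.locCxUnit (Submonoid.powers f) X) j) := by
    apply Groth.Agent.Lib.HomCxPreQis.epi_homologyMap_of_elementwise
    intro w hw
    induction w using LocalizedModule.induction_on with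
    | h z s =>
      rw [hd] at hw
      have hw' : (LocalizedModule.mk (X.d j (j + 1) z) s :
          LocalizedModule (Submonoid.powers f) (X.X (j + 1))) =
          LocalizedModule.mk 0 (1 : Submonoid.powers f) := by
        rw [LocalizedModule.zero_mk]
        exact hw
      rw [LocalizedModule.mk_eq] at hw'
      obtain ⟨t, ht⟩ := hw'
      obtain ⟨a, ha⟩ := t.2
      obtain ⟨b, hb⟩ := s.2
      have ha' : (t : A) = f ^ a := ha.symm
      have hb' : (s : A) = f ^ b := hb.symm
      have hcyc : X.d j (j + 1) (f ^ a • z) = 0 := by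
        rw [map_smul]
        have ht' : (t : A) • ((1 : Submonoid.powers f) : A) • X.d j (j + 1) z =
            (t : A) • (s : A) • (0 : X.X (j + 1)) := ht
        rw [Submonoid.coe_one, one_smul, smul_zero, smul_zero, ha'] at ht'
        exact ht'
      obtain ⟨x, hx, y₁, h⟩ := exists_pow_smul_add f X hq j (a + b) (f ^ a • z) hcyc
      refine ⟨x, hx, (LocalizedModule.mk y₁ (t * s) :
        LocalizedModule (Submonoid.powers f) (X.X (j - 1))), ?_⟩
      rw [hψ, hd]
      show (LocalizedModule.mk z s : LocalizedModule (Submonoid.powers f) (X.X j)) =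
        LocalizedModule.mk x 1 + LocalizedModule.mk (X.d (j - 1) j y₁) (t * s)
      have e1 : (LocalizedModule.mk z s : LocalizedModule (Submonoid.powers f) (X.X j)) =
          LocalizedModule.mk ((t * s) • x + X.d (j - 1) j y₁) (t * s) := by
        rw [← LocalizedModule.mk_cancel_common_left t s z]
        congr 1
        show (t : A) • z = ((t * s : Submonoid.powers f) : A) • x + X.d (j - 1) j y₁
        rw [Submonoid.coe_mul, ha', hb', ← pow_add]
        exact h
      rw [e1, IsLocalizedModule.mk_eq_mk', IsLocalizedModule.mk_eq_mk', IsLocalizedModule.mk_eq_mk',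
        IsLocalizedModule.mk'_add, IsLocalizedModule.mk'_cancel, IsLocalizedModule.mk'_one]
      rfl
  exact isIso_of_mono_of_epi _

/-- **if `f` acts on `X` by a quasi-isomorphism and `Q X` is derived `f`-complete then `X` is
acyclic** -/
theorem acyclic_of_quasiIso_smul (hq : QuasiIso (f • 𝟙 X))
    (hc : ∀ n : ℤ, Subsingleton (Dual.inD A (Localization.Away f) ⟶ (Q.obj X)⟦n⟧)) :
    X.Acyclic := by
  haveI := quasiIso_locCxUnit f X hq
  haveI : IsIso (Q.map (DerCA.locCxUnit (Submonoid.powers f) X)) :=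
    (isIso_Q_map_iff_quasiIso (C := ModuleCat.{u} A) _).2 inferInstance
  haveI hs : Subsingleton (Q.obj ((DerCA.locCx (Submonoid.powers f)).obj X) ⟶ Q.obj X) :=
    subsingleton_hom_of_actsBij f _ (actsBij_locCx f X) (Q.obj X) hc
  have h0 : 𝟙 (Q.obj X) = 0 := by
    rw [← IsIso.hom_inv_id (Q.map (DerCA.locCxUnit (Submonoid.powers f) X)),
      Subsingleton.elim (inv (Q.map (DerCA.locCxUnit (Submonoid.powers f) X))) 0, comp_zero]
  have hz : IsZero (Q.obj X) := (IsZero.iff_id_eq_zero _).2 h0
  intro n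
  rw [HomologicalComplex.exactAt_iff_isZero_homology]
  exact ((DerivedCategory.homologyFunctor (ModuleCat.{u} A) n).map_isZero hz).of_iso
    ((DerivedCategory.homologyFunctorFactors (ModuleCat.{u} A) n).app X).symm

end Loc

end Groth.Agent.Lib.DerNak
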