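import Mathlib
import Groth.Agent.Lib.DerNak1_helper2

/-!
# Derived Nakayama (helper2), part 2: if `K` is derived complete with respect to a finitely
generated ideal `I` and `K ⊗^L A/I = 0` then `K = 0`.
-/

set_option autoImplicit false
universe u
open CategoryTheory CategoryTheory.Limits MonoidalCategory DerivedCategory
attribute [local instance] HasDerivedCategory.standard

namespace Groth.Agent.Lib.DerNak

open Groth.Agent.Lib.KFlatMod Groth.Agent.Lib.DMod_helper6 Groth.Agent.Lib.DerCompl
  Groth.Agent.Lib.BifCone CochainComplex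

variable {A : Type u} [CommRing A]

section Induction

lemma isDerivedComplete_mono {I I' : Ideal A} (h : I' ≤ I) (E : Dual.D A)
    (hE : DRing.IsDerivedComplete I E) : DRing.IsDerivedComplete I' E :=
  fun f hf n => hE f (h hf) n

lemma flat_mappingCone_X {X Y : DRing.Cx A} (φ : X ⟶ Y) (hX : ∀ p, Module.Flat A (X.X p))
    (hY : ∀ p, Module.Flat A (Y.X p)) (p : ℤ) : Module.Flat A ((mappingCone φ).X p) := by
  haveI : Module.Flat A ((X.X (p + 1) ⊞ Y.X p : ModuleCat.{u} A)) :=
    flat_biprod (hX (p + 1)) (hY p)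
  exact Module.Flat.of_linearEquiv (coneXIso φ p).toLinearEquiv

/-- `X ⊗_A A ≅ X` -/
noncomputable def tnUnitIso (X : DRing.Cx A) : (TN (𝟙_ (ModuleCat.{u} A))).obj X ≅ X :=
  (NatIso.mapHomologicalComplex (MonoidalCategory.rightUnitorNatIso (ModuleCat.{u} A))
    (ComplexShape.up ℤ) ≪≫ Functor.mapHomologicalComplexIdIso _ _).app X

lemma acyclic_of_isZero_Q (Y : DRing.Cx A) (hz : IsZero (Q.obj Y)) : Y.Acyclic := by
  intro n
  rw [HomologicalComplex.exactAt_iff_isZero_homology]
  exact ((DerivedCategory.homologyFunctor (ModuleCat.{u} A) n).map_isZero hz).of_iso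
    ((DerivedCategory.homologyFunctorFactors (ModuleCat.{u} A) n).app Y).symm

/-- **the induction on the number of generators** -/
theorem acyclic_of_good : ∀ (fs : List A) (X : DRing.Cx A), X.IsKProjective →
    (∀ p, Module.Flat A (X.X p)) →
    (∀ N : ModuleCat.{u} A, KilledBy fs N → ((TN N).obj X).Acyclic) →
    DRing.IsDerivedComplete (Ideal.span {x : A | x ∈ fs}) (Q.obj X) → X.Acyclic := by
  intro fs
  induction fs with
  | nil =>
    intro X _ _ hgood _
    exact acyclic_of_iso (tnUnitIso X) (hgood _ (fun a ha => absurd ha List.not_mem_nil))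
  | cons f fs ih =>
    intro X hXp hXf hgood hc
    haveI := hXp
    haveI : (mappingCone (f • 𝟙 X)).IsKProjective :=
      Groth.Agent.Lib.KProjRes.isKProjective_mappingCone _
    have hc' : DRing.IsDerivedComplete (Ideal.span {x : A | x ∈ fs}) (Q.obj X) :=
      isDerivedComplete_mono (Ideal.span_mono (fun x hx => List.mem_cons_of_mem f hx)) (Q.obj X) hc
    have hT := DerivedCategory.mappingCone_triangle_distinguished (f • 𝟙 X)
    have hcc : DRing.IsDerivedComplete (Ideal.span {x : A | x ∈ fs})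
        (Q.obj (mappingCone (f • 𝟙 X))) :=
      isDerivedComplete_of_distinguished _ _ hT hc' hc'
    have hcone := ih (mappingCone (f • 𝟙 X)) inferInstance (flat_mappingCone_X _ hXf hXf)
      (acyclic_tn_cone f fs X hXf hgood) hcc
    have hq : QuasiIso (f • 𝟙 X) := (quasiIso_iff_acyclic_mappingCone _).2 hcone
    exact acyclic_of_quasiIso_smul f X hq
      (hc f (Ideal.subset_span (List.mem_cons_self)))

end Induction

section Final

variable (fs : List A)

/-- the quotient map `A ⟶ A/I` -/
noncomputable def unitQuot :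
    𝟙_ (ModuleCat.{u} A) ⟶ ModuleCat.of A (A ⧸ Ideal.span {x : A | x ∈ fs}) :=
  ModuleCat.ofHom (Submodule.mkQ (Ideal.span {x : A | x ∈ fs}))

/-- the action `A/I ⊗ N ⟶ N` for `N` killed by `I` -/
noncomputable def actQuot (N : ModuleCat.{u} A) (hN : KilledBy fs N) :
    (ModuleCat.of A (A ⧸ Ideal.span {x : A | x ∈ fs})) ⊗ N ⟶ N :=
  ModuleCat.ofHom (TensorProduct.lift (Submodule.liftQ (Ideal.span {x : A | x ∈ fs})
    (LinearMap.lsmul A N) (by
      rw [Ideal.span, Submodule.span_le]
      intro a ha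
      rw [SetLike.mem_coe, LinearMap.mem_ker]
      ext x
      exact hN a ha x)))

lemma unit_actQuot (N : ModuleCat.{u} A) (hN : KilledBy fs N) :
    unitQuot fs ▷ N ≫ actQuot fs N hN = (λ_ N).hom := by
  apply ModuleCat.MonoidalCategory.tensor_ext
  intro a n
  rfl

/-- **derived Nakayama** -/
theorem isZero_of_isDerivedComplete_of_LTensor_quotient
    [DRing.HasLTensor A (ModuleCat.of A (A ⧸ Ideal.span {x : A | x ∈ fs}))]
    (K : Dual.D A) (hc : DRing.IsDerivedComplete (Ideal.span {x : A | x ∈ fs}) K)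
    (h0 : IsZero ((DRing.LTensor A
      (ModuleCat.of A (A ⧸ Ideal.span {x : A | x ∈ fs}))).obj K)) : IsZero K := by
  obtain ⟨X, p, hp, hXp, -, hXfl⟩ :=
    Groth.Agent.Lib.KProjRes.exists_kproj_resolution (Q.objPreimage K)
  haveI := hp
  haveI := hXp
  haveI : IsIso (Q.map p) := (isIso_Q_map_iff_quasiIso (C := ModuleCat.{u} A) p).2 inferInstance
  have e : Q.obj X ≅ K := asIso (Q.map p) ≪≫ Q.objObjPreimageIso K
  obtain ⟨eL⟩ := nonempty_lTensor_iso_of_isKProjective
    (ModuleCat.of A (A ⧸ Ideal.span {x : A | x ∈ fs})) X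
  have hz : IsZero (Q.obj ((TN (ModuleCat.of A (A ⧸ Ideal.span {x : A | x ∈ fs}))).obj X)) :=
    (h0.of_iso ((DRing.LTensor A
      (ModuleCat.of A (A ⧸ Ideal.span {x : A | x ∈ fs}))).mapIso e)).of_iso eL.symm
  have hB := acyclic_of_isZero_Q _ hz
  have hgood : ∀ N : ModuleCat.{u} A, KilledBy fs N → ((TN N).obj X).Acyclic := fun N hN =>
    acyclic_TN_of_retract _ N (unitQuot fs) (actQuot fs N hN) (unit_actQuot fs N hN) X hB
  have hXac := acyclic_of_good fs X hXp hXfl hgood (isDerivedComplete_of_iso _ e.symm hc)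
  exact (Groth.Agent.Lib.LocHom.isZero_Q_obj_of_acyclic X hXac).of_iso e.symm

end Final

end Groth.Agent.Lib.DerNak
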