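import Mathlib
import Groth.Agent.Lib.DerNak2_helper2
import Groth.Agent.Lib.DMod46_helper6
import Groth.Agent.Lib.DerComplOld_helper9

/-!
# Derived Nakayama (helper2), part 3: vanishing of positive cohomology

If `K` is derived complete with respect to a finitely generated ideal `I`, then `K ∈ D^{≤ 0}` if
and only if `K ⊗^L A/I ∈ D^{≤ 0}`.
-/

set_option autoImplicit false
universe u
open CategoryTheory CategoryTheory.Limits MonoidalCategory DerivedCategory
attribute [local instance] HasDerivedCategory.standard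

namespace Groth.Agent.Lib.DerNak

open Groth.Agent.Lib.KFlatMod Groth.Agent.Lib.DMod_helper6 Groth.Agent.Lib.DerCompl
  Groth.Agent.Lib.BifCone CochainComplex

variable {A : Type u} [CommRing A]

/-- the cohomology of `Y` vanishes in positive degrees -/
def PosAcyclic (Y : DRing.Cx A) : Prop := ∀ i : ℤ, 0 < i → IsZero (Y.homology i)

lemma posAcyclic_of_iso {Y Y' : DRing.Cx A} (e : Y ≅ Y') (h : PosAcyclic Y) : PosAcyclic Y' :=
  fun i hi => (h i hi).of_iso
    ((HomologicalComplex.homologyFunctor (ModuleCat.{u} A) (ComplexShape.up ℤ) i).mapIso e.symm)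

section PosRetract

variable (B N : ModuleCat.{u} A) (η : 𝟙_ (ModuleCat.{u} A) ⟶ B) (μ : B ⊗ N ⟶ N)

lemma homotopy_of_Q_map_eq {E F : DRing.Cx A} [E.IsKProjective] (a b : E ⟶ F)
    (h : Q.map a = Q.map b) : Nonempty (Homotopy a b) := by
  have hq : (HomotopyCategory.quotient (ModuleCat.{u} A) (ComplexShape.up ℤ)).map a =
      (HomotopyCategory.quotient (ModuleCat.{u} A) (ComplexShape.up ℤ)).map b := by
    apply (CochainComplex.IsKProjective.Qh_map_bijective E
      ((HomotopyCategory.quotient _ _).obj F)).injective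
    have h1 := (quotientCompQhIso (ModuleCat.{u} A)).hom.naturality a
    have h2 := (quotientCompQhIso (ModuleCat.{u} A)).hom.naturality b
    simp only [Functor.comp_map] at h1 h2
    rw [h] at h1
    exact (cancel_mono _).1 (h1.trans h2.symm)
  exact ⟨HomotopyCategory.homotopyOfEq _ _ hq⟩

/-- **if `X` is K-projective, `X ⊗_A B` has no positive cohomology and `N` is a retract of
`B ⊗ N`, then `X ⊗_A N` has no positive cohomology** -/
theorem posAcyclic_TN_of_retract (hμ : η ▷ N ≫ μ = (λ_ N).hom) (X : DRing.Cx A)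
    [X.IsKProjective] (hB : PosAcyclic ((TN B).obj X)) : PosAcyclic ((TN N).obj X) := by
  intro i hi
  haveI : CochainComplex.IsLE ((TN B).obj X) 0 := by
    rw [CochainComplex.isLE_iff]
    intro k hk
    rw [HomologicalComplex.exactAt_iff_isZero_homology]
    exact hB k hk
  let Z : DRing.Cx A := CochainComplex.truncLE ((TN B).obj X) 0
  let j : Z ⟶ (TN B).obj X := CochainComplex.ιTruncLE _ 0
  haveI : QuasiIso j := inferInstanceAs (QuasiIso (CochainComplex.ιTruncLE ((TN B).obj X) 0))
  haveI : IsIso (Q.map j) := (isIso_Q_map_iff_quasiIso (C := ModuleCat.{u} A) j).2 inferInstance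
  obtain ⟨u₀, hu₀⟩ := Groth.Agent.PerfectCx.exists_Q_map_eq X Z
    (Q.map (unitCx B η X) ≫ inv (Q.map j))
  have hQ : Q.map (u₀ ≫ j) = Q.map (unitCx B η X) := by
    rw [Functor.map_comp, hu₀, Category.assoc, IsIso.inv_hom_id, Category.comp_id]
  obtain ⟨hh⟩ := homotopy_of_Q_map_eq _ _ hQ
  have h1 : HomologicalComplex.homologyMap ((TN N).map (unitCx B η X)) i =
      HomologicalComplex.homologyMap ((TN N).map u₀) i ≫
        HomologicalComplex.homologyMap ((TN N).map j) i := by
    rw [← HomologicalComplex.homologyMap_comp, ← Functor.map_comp]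
    exact (((tensorRight N).mapHomotopy hh).homologyMap_eq i).symm
  haveI : CochainComplex.IsStrictlyLE Z 0 :=
    inferInstanceAs (CochainComplex.IsStrictlyLE (CochainComplex.truncLE ((TN B).obj X) 0) 0)
  have hZ : IsZero (((TN N).obj Z).homology i) := by
    rw [← HomologicalComplex.exactAt_iff_isZero_homology]
    exact ShortComplex.exact_of_isZero_X₂ _
      (Functor.map_isZero (tensorRight N) (Z.isZero_of_isStrictlyLE 0 i hi))
  rw [IsZero.iff_id_eq_zero, ← HomologicalComplex.homologyMap_id, ← unit_act B N η μ hμ X,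
    HomologicalComplex.homologyMap_comp, h1, Category.assoc,
    hZ.eq_of_tgt (HomologicalComplex.homologyMap ((TN N).map u₀) i) 0, zero_comp]

end PosRetract

section PosCone

variable (f : A) (fs : List A)

/-- the cone of a map which is epi on `H^i` for `i ≥ 1` and mono on `H^i` for `i ≥ 2` has no
positive cohomology -/
lemma posAcyclic_mappingCone {Y : DRing.Cx A} (ψ : Y ⟶ Y)
    (hepi : ∀ i : ℤ, 0 < i → Epi (HomologicalComplex.homologyMap ψ i))
    (hmono : ∀ i : ℤ, 1 < i → Mono (HomologicalComplex.homologyMap ψ i)) :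
    PosAcyclic (mappingCone ψ) := by
  intro i hi
  have hT := DerivedCategory.mappingCone_triangle_distinguished ψ
  have e2 := CochainComplex.homologyMap_exact₂_of_distTriang (mappingCone.triangle ψ) hT i
  have e1 := CochainComplex.homologyMap_exact₁_of_distTriang (mappingCone.triangle ψ) hT i (i + 1)
    rfl
  have e3 := CochainComplex.homologyMap_exact₃_of_distTriang (mappingCone.triangle ψ) hT i (i + 1)
    rfl
  haveI := hepi i hi
  haveI := hmono (i + 1) (by omega)
  have hg : HomologicalComplex.homologyMap (mappingCone.triangle ψ).mor₂ i = 0 :=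
    e2.epi_f_iff.1 (inferInstanceAs (Epi (HomologicalComplex.homologyMap ψ i)))
  have hδ : CochainComplex.homologyδOfTriangle (mappingCone.triangle ψ) i (i + 1) rfl = 0 :=
    e1.mono_g_iff.1 (inferInstanceAs (Mono (HomologicalComplex.homologyMap ψ (i + 1))))
  exact e3.isZero_of_both_zeros hg hδ

/-- the inductive step -/
theorem posAcyclic_tn_cone (X : DRing.Cx A) (hX : ∀ p, Module.Flat A (X.X p))
    (hgood : ∀ N : ModuleCat.{u} A, KilledBy (f :: fs) N → PosAcyclic ((TN N).obj X))
    (N : ModuleCat.{u} A) (hN : KilledBy fs N) :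
    PosAcyclic ((TN N).obj (mappingCone (f • 𝟙 X))) := by
  let φ : N →ₗ[A] N := LinearMap.lsmul A N f
  have hker : KilledBy (f :: fs) (ModuleCat.of A (LinearMap.ker φ)) := by
    intro a ha x
    rcases List.mem_cons.1 ha with rfl | ha
    · apply Subtype.ext
      exact x.2
    · apply Subtype.ext
      exact hN a ha x.1
  have hcoker : KilledBy (f :: fs) (ModuleCat.of A (N ⧸ LinearMap.range φ)) := by
    intro a ha x
    obtain ⟨y, rfl⟩ := Submodule.mkQ_surjective _ x
    rcases List.mem_cons.1 ha with rfl | ha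
    · rw [← map_smul, Submodule.mkQ_apply, Submodule.Quotient.mk_eq_zero]
      exact ⟨y, rfl⟩
    · rw [← map_smul, hN a ha y, map_zero]
  have exact1 : Function.Exact (LinearMap.ker φ).subtype φ.rangeRestrict := by
    intro x
    constructor
    · intro h
      have h' : φ x = 0 := by simpa using congrArg Subtype.val h
      exact ⟨⟨x, h'⟩, rfl⟩
    · rintro ⟨y, rfl⟩
      exact Subtype.ext y.2
  have hS1 := shortExact_of_lin (LinearMap.ker φ).subtype φ.rangeRestrict
    (Submodule.injective_subtype _) (LinearMap.surjective_rangeRestrict φ) exact1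
  have hS2 := shortExact_of_lin (LinearMap.range φ).subtype (LinearMap.range φ).mkQ
    (Submodule.injective_subtype _) (Submodule.mkQ_surjective _) (LinearMap.exact_subtype_mkQ _)
  have hT1 := shortExact_tn X hX _ hS1
  have hT2 := shortExact_tn X hX _ hS2
  have hk := hgood _ hker
  have hc := hgood _ hcoker
  have hcomp : (TN N).map (f • 𝟙 X) = tnMap (ModuleCat.ofHom φ.rangeRestrict) X ≫
      tnMap (ModuleCat.ofHom (LinearMap.range φ).subtype) X := by
    rw [← tnMap_comp, ← tnMap_smul_id]
    congr 1
  have hepi : ∀ i : ℤ, 0 < i →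
      Epi (HomologicalComplex.homologyMap ((TN N).map (f • 𝟙 X)) i) := by
    intro i hi
    haveI : Epi (HomologicalComplex.homologyMap
        (tnMap (ModuleCat.ofHom φ.rangeRestrict) X) i) :=
      (hT1.homology_exact₃ i (i + 1) (by simp)).epi_f ((hk (i + 1) (by omega)).eq_of_tgt _ _)
    haveI : Epi (HomologicalComplex.homologyMap
        (tnMap (ModuleCat.ofHom (LinearMap.range φ).subtype) X) i) :=
      (hT2.homology_exact₂ i).epi_f ((hc i hi).eq_of_tgt _ _)
    rw [hcomp, HomologicalComplex.homologyMap_comp]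
    infer_instance
  have hmono : ∀ i : ℤ, 1 < i →
      Mono (HomologicalComplex.homologyMap ((TN N).map (f • 𝟙 X)) i) := by
    intro i hi
    haveI : Mono (HomologicalComplex.homologyMap
        (tnMap (ModuleCat.ofHom φ.rangeRestrict) X) i) :=
      (hT1.homology_exact₂ i).mono_g ((hk i (by omega)).eq_of_src _ _)
    haveI : Mono (HomologicalComplex.homologyMap
        (tnMap (ModuleCat.ofHom (LinearMap.range φ).subtype) X) i) :=
      (hT2.homology_exact₁ (i - 1) i (by simp)).mono_g ((hc (i - 1) (by omega)).eq_of_src _ _)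
    rw [hcomp, HomologicalComplex.homologyMap_comp]
    infer_instance
  exact posAcyclic_of_iso
    (mappingCone.mapHomologicalComplexIso (f • 𝟙 X) (tensorRight N)).symm
    (posAcyclic_mappingCone _ hepi hmono)

end PosCone

section ConcA

open DerComp9 Polynomial

variable (f : A)

/-- compatible `f`-divisible systems in `H^0(E)` vanish if `Hom(A_f, E) = 0` -/
theorem concA_homology_zero (E : Dual.D A)
    (hE : Subsingleton (Dual.inD A (Localization.Away f) ⟶ E))
    (x : ℕ → (DerivedCategory.homologyFunctor (ModuleCat.{u} A) 0).obj E)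
    (hx : ∀ k, x k = f • x (k + 1)) : x 0 = 0 := by
  let θ : (S f).X₂ ⟶ (DerivedCategory.homologyFunctor (ModuleCat.{u} A) 0).obj E :=
    ModuleCat.ofHom (seqMap _ x)
  have hproj : Module.Projective A (S f).X₂ := (inferInstance : Module.Projective A A[X])
  obtain ⟨ξ, hξ⟩ := (thetaMap_bijective (S f).X₂ hproj 0 E).surjective θ
  have hcomp : (S f).f ≫ θ = 0 := by
    apply ModuleCat.hom_ext
    apply LinearMap.ext
    intro (p : A[X])
    exact seqMap_comp_eq_zero f _ x hx p
  have hθ0' : ∀ L : ModuleCat.{u} A, thetaMap L 0 E 0 = 0 := fun L => by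
    simp [thetaMap]
  have h1 : (DerivedCategory.singleFunctor (ModuleCat.{u} A) 0).map (S f).f ≫ ξ = 0 := by
    apply (thetaMap_bijective (S f).X₁ hproj 0 E).injective
    rw [thetaMap_map_comp, hξ, hcomp, hθ0']
  have hT := (S_shortExact f).singleTriangle_distinguished
  obtain ⟨g, hg⟩ := CategoryTheory.Pretriangulated.Triangle.yoneda_exact₂ _ hT ξ h1
  have hg0 : g = 0 := @Subsingleton.elim _ hE _ _
  have hξ0 : ξ = 0 := hg.trans (by rw [hg0]; exact Limits.comp_zero)
  have hθ0 : θ = 0 := by rw [← hξ, hξ0, hθ0']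
  have h3 : seqMap _ x (monomial 0 (1 : A)) = 0 := by
    have h4 : θ.hom (monomial 0 (1 : A) : A[X]) =
        (0 : (S f).X₂ ⟶ _).hom (monomial 0 (1 : A) : A[X]) := by rw [hθ0]
    exact h4
  rwa [seqMap_monomial, one_smul] at h3

theorem concA_homology (K : Dual.D A)
    (hK : ∀ m : ℤ, Subsingleton (Dual.inD A (Localization.Away f) ⟶ K⟦m⟧)) (n : ℤ)
    (x : ℕ → (DerivedCategory.homologyFunctor (ModuleCat.{u} A) n).obj K)
    (hx : ∀ k, x k = f • x (k + 1)) : x 0 = 0 := by
  let e : (DerivedCategory.homologyFunctor (ModuleCat.{u} A) 0).obj (K⟦n⟧) ≅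
      (DerivedCategory.homologyFunctor (ModuleCat.{u} A) n).obj K :=
    ((DerivedCategory.homologyFunctor (ModuleCat.{u} A) 0).shiftIso n 0 n (by simp)).app K
  have h := concA_homology_zero f (K⟦n⟧) (hK n) (fun k => e.inv (x k)) (fun k => by
    show e.inv (x k) = f • e.inv (x (k + 1))
    rw [hx k, map_smul])
  have h' := congrArg e.hom h
  simpa using h'

/-- **a cohomology module of a derived `f`-complete object on which `f` is surjective
vanishes** -/
theorem isZero_homology_of_divisible (K : Dual.D A)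
    (hK : ∀ m : ℤ, Subsingleton (Dual.inD A (Localization.Away f) ⟶ K⟦m⟧)) (n : ℤ)
    (hdiv : ∀ m : (DerivedCategory.homologyFunctor (ModuleCat.{u} A) n).obj K,
      ∃ m', m = f • m') :
    IsZero ((DerivedCategory.homologyFunctor (ModuleCat.{u} A) n).obj K) := by
  choose g hg using hdiv
  have key : ∀ m : (DerivedCategory.homologyFunctor (ModuleCat.{u} A) n).obj K, m = 0 := fun m =>
    concA_homology f K hK n (fun i => Nat.rec m (fun _ y => g y) i) (fun i => hg _)
  haveI : Subsingleton ((DerivedCategory.homologyFunctor (ModuleCat.{u} A) n).obj K) :=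
    ⟨fun a b => by rw [key a, key b]⟩
  exact ModuleCat.isZero_of_subsingleton _

lemma homologyMap_smul_id (X : DRing.Cx A) (n : ℤ) :
    HomologicalComplex.homologyMap (f • 𝟙 X) n = f • 𝟙 (X.homology n) := by
  have h : (HomologicalComplex.shortComplexFunctor (ModuleCat.{u} A) (ComplexShape.up ℤ) n).map
      (f • 𝟙 X) = f • 𝟙 _ := by
    ext x <;> simp <;> rfl
  show ShortComplex.homologyMap
    ((HomologicalComplex.shortComplexFunctor (ModuleCat.{u} A) (ComplexShape.up ℤ) n).map
      (f • 𝟙 X)) = _
  rw [h, ShortComplex.homologyMap_smul, ShortComplex.homologyMap_id]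
  rfl

/-- chain-level version -/
theorem isZero_homology_of_epi_smul (X : DRing.Cx A)
    (hc : ∀ m : ℤ, Subsingleton (Dual.inD A (Localization.Away f) ⟶ (Q.obj X)⟦m⟧)) (n : ℤ)
    (hepi : Epi (HomologicalComplex.homologyMap (f • 𝟙 X) n)) : IsZero (X.homology n) := by
  let e : (DerivedCategory.homologyFunctor (ModuleCat.{u} A) n).obj (Q.obj X) ≅ X.homology n :=
    (DerivedCategory.homologyFunctorFactors (ModuleCat.{u} A) n).app X
  refine (isZero_homology_of_divisible f (Q.obj X) hc n (fun m => ?_)).of_iso e.symm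
  rw [homologyMap_smul_id] at hepi
  obtain ⟨y, hy⟩ := (ModuleCat.epi_iff_surjective _).1 hepi (e.hom m)
  refine ⟨e.inv y, ?_⟩
  have hy' : f • y = e.hom m := by simpa using hy
  rw [← map_smul, hy']
  simp

end ConcA

end Groth.Agent.Lib.DerNak
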