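import Mathlib
import Groth.Agent.Lib.DerNak3_helper2
import Groth.Agent.Lib.DMod47_helper6
import Groth.Agent.Lib.Amp_helper2

/-!
# Derived Nakayama (helper2), part 4: `K` derived complete; `K ∈ D^{≤ 0}` iff `K ⊗^L A/I ∈ D^{≤ 0}`.
-/

set_option autoImplicit false
universe u
open CategoryTheory CategoryTheory.Limits MonoidalCategory DerivedCategory
attribute [local instance] HasDerivedCategory.standard

namespace Groth.Agent.Lib.DerNak

open Groth.Agent.Lib.KFlatMod Groth.Agent.Lib.DMod_helper6 Groth.Agent.Lib.DerCompl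
  Groth.Agent.Lib.BifCone CochainComplex

variable {A : Type u} [CommRing A]

/-- **the induction on the number of generators**, positive cohomology version -/
theorem posAcyclic_of_good : ∀ (fs : List A) (X : DRing.Cx A), X.IsKProjective →
    (∀ p, Module.Flat A (X.X p)) →
    (∀ N : ModuleCat.{u} A, KilledBy fs N → PosAcyclic ((TN N).obj X)) →
    DRing.IsDerivedComplete (Ideal.span {x : A | x ∈ fs}) (Q.obj X) → PosAcyclic X := by
  intro fs
  induction fs with
  | nil =>
    intro X _ _ hgood _
    exact posAcyclic_of_iso (tnUnitIso X) (hgood _ (fun a ha => absurd ha List.not_mem_nil))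
  | cons f fs ih =>
    intro X hXp hXf hgood hc
    haveI := hXp
    haveI : (mappingCone (f • 𝟙 X)).IsKProjective :=
      Groth.Agent.Lib.KProjRes.isKProjective_mappingCone _
    have hc' : DRing.IsDerivedComplete (Ideal.span {x : A | x ∈ fs}) (Q.obj X) :=
      isDerivedComplete_mono (Ideal.span_mono (fun x hx => List.mem_cons_of_mem f hx)) (Q.obj X) hc
    have hT := DerivedCategory.mappingCone_triangle_distinguished (f • 𝟙 X)
    have hcc : DRing.IsDerivedComplete (Ideal.span {x : A | x ∈ fs})
        (Q.obj (mappingCone (f • 𝟙 X))) :=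
      isDerivedComplete_of_distinguished _ _ hT hc' hc'
    have hcone := ih (mappingCone (f • 𝟙 X)) inferInstance (flat_mappingCone_X _ hXf hXf)
      (posAcyclic_tn_cone f fs X hXf hgood) hcc
    intro i hi
    have e2 := CochainComplex.homologyMap_exact₂_of_distTriang
      (mappingCone.triangle (f • 𝟙 X)) hT i
    have hepi : Epi (HomologicalComplex.homologyMap (f • 𝟙 X) i) :=
      e2.epi_f ((hcone i hi).eq_of_tgt _ _)
    exact isZero_homology_of_epi_smul f X (hc f (Ideal.subset_span List.mem_cons_self)) i hepi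

lemma posAcyclic_iff_HD (X : DRing.Cx A) :
    PosAcyclic X ↔ ∀ i : ℤ, 0 < i → Subsingleton (Dual.HD A (Q.obj X) i) := by
  constructor
  · intro h i hi
    exact ModuleCat.subsingleton_of_isZero ((h i hi).of_iso
      ((DerivedCategory.homologyFunctorFactors (ModuleCat.{u} A) i).app X))
  · intro h i hi
    haveI := h i hi
    exact (ModuleCat.isZero_of_subsingleton
      ((DerivedCategory.homologyFunctor (ModuleCat.{u} A) i).obj (Q.obj X))).of_iso
      ((DerivedCategory.homologyFunctorFactors (ModuleCat.{u} A) i).app X).symm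

lemma HD_subsingleton_of_iso {K K' : Dual.D A} (e : K ≅ K') (i : ℤ)
    (h : Subsingleton (Dual.HD A K i)) : Subsingleton (Dual.HD A K' i) := by
  haveI := h
  exact ModuleCat.subsingleton_of_isZero ((ModuleCat.isZero_of_subsingleton
    ((DerivedCategory.homologyFunctor (ModuleCat.{u} A) i).obj K)).of_iso
    ((DerivedCategory.homologyFunctor (ModuleCat.{u} A) i).mapIso e.symm))

/-- `K ⊗^L M ∈ D^{≤ 0}` for `K ∈ D^{≤ 0}` -/
theorem HD_LTensor_subsingleton (M : ModuleCat.{u} A) [DRing.HasLTensor A M] (K : Dual.D A)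
    (hK : ∀ i : ℤ, 0 < i → Subsingleton (Dual.HD A K i)) (i : ℤ) (hi : 0 < i) :
    Subsingleton (Dual.HD A ((DRing.LTensor A M).obj K) i) := by
  have hKle : DerivedCategory.IsLE K 0 := by
    rw [DerivedCategory.isLE_iff]
    intro i hi
    haveI := hK i hi
    exact ModuleCat.isZero_of_subsingleton _
  haveI := hKle
  obtain ⟨X₂, hX₂, ⟨eX⟩⟩ := DerivedCategory.exists_iso_Q_obj_of_isLE K 0
  haveI := hX₂
  obtain ⟨X₁, α, hX₁, hfree, _, hα⟩ := Groth.Agent.Lib.LeftRes.exists_resolution_int
    (fun M : ModuleCat.{u} A => Module.Free A M) (resClass A).cover (resClass A).zero X₂ 0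
  haveI := hX₁
  haveI : IsIso (Q.map α) := (isIso_Q_map_iff_quasiIso (C := ModuleCat.{u} A) α).2 hα
  have e₁ : Q.obj X₁ ≅ K := asIso (Q.map α) ≪≫ eX.symm
  haveI : ∀ n : ℤ, Projective (X₁.X n) := fun n => by
    haveI := hfree n
    have hp : Module.Projective A (X₁.X n) := Module.Projective.of_free
    exact (IsProjective.iff_projective (X₁.X n)).1 hp
  haveI : X₁.IsKProjective := isKProjective_of_projective X₁ 0
  obtain ⟨eL⟩ := nonempty_lTensor_iso_of_isKProjective M X₁
  have hpos : PosAcyclic ((TN M).obj X₁) := by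
    intro k hk
    rw [← HomologicalComplex.exactAt_iff_isZero_homology]
    exact ShortComplex.exact_of_isZero_X₂ _
      (Functor.map_isZero (tensorRight M) (X₁.isZero_of_isStrictlyLE 0 k hk))
  exact HD_subsingleton_of_iso (eL.symm ≪≫ (DRing.LTensor A M).mapIso e₁) i
    ((posAcyclic_iff_HD _).1 hpos i hi)

section Final

variable (fs : List A)

/-- **derived Nakayama for the vanishing of positive cohomology** -/
theorem HD_subsingleton_iff_LTensor_quotient
    [DRing.HasLTensor A (ModuleCat.of A (A ⧸ Ideal.span {x : A | x ∈ fs}))]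
    (K : Dual.D A) (hc : DRing.IsDerivedComplete (Ideal.span {x : A | x ∈ fs}) K) :
    (∀ i : ℤ, 0 < i → Subsingleton (Dual.HD A K i)) ↔
      ∀ i : ℤ, 0 < i → Subsingleton (Dual.HD A ((DRing.LTensor A
        (ModuleCat.of A (A ⧸ Ideal.span {x : A | x ∈ fs}))).obj K) i) := by
  constructor
  · intro hK i hi
    exact HD_LTensor_subsingleton _ K hK i hi
  · intro h0
    obtain ⟨X, p, hp, hXp, -, hXfl⟩ :=
      Groth.Agent.Lib.KProjRes.exists_kproj_resolution (Q.objPreimage K)
    haveI := hp
    haveI := hXp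
    haveI : IsIso (Q.map p) :=
      (isIso_Q_map_iff_quasiIso (C := ModuleCat.{u} A) p).2 inferInstance
    have e : Q.obj X ≅ K := asIso (Q.map p) ≪≫ Q.objObjPreimageIso K
    obtain ⟨eL⟩ := nonempty_lTensor_iso_of_isKProjective
      (ModuleCat.of A (A ⧸ Ideal.span {x : A | x ∈ fs})) X
    have hB : PosAcyclic ((TN (ModuleCat.of A (A ⧸ Ideal.span {x : A | x ∈ fs}))).obj X) := by
      rw [posAcyclic_iff_HD]
      intro i hi
      exact HD_subsingleton_of_iso ((DRing.LTensor A
        (ModuleCat.of A (A ⧸ Ideal.span {x : A | x ∈ fs}))).mapIso e.symm ≪≫ eL) i (h0 i hi)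
    have hgood : ∀ N : ModuleCat.{u} A, KilledBy fs N → PosAcyclic ((TN N).obj X) :=
      fun N hN => posAcyclic_TN_of_retract _ N (unitQuot fs) (actQuot fs N hN)
        (unit_actQuot fs N hN) X hB
    have hXac := posAcyclic_of_good fs X hXp hXfl hgood (isDerivedComplete_of_iso _ e.symm hc)
    intro i hi
    exact HD_subsingleton_of_iso e i ((posAcyclic_iff_HD X).1 hXac i hi)

end Final

end Groth.Agent.Lib.DerNak
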