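import Mathlib
import Groth.Agent.Lib.DerNak4_helper2
import Groth.Agent.Lib.PerfectCx_helper2
import Groth.Agent.Lib.DMod12_helper6

/-!
# The adic completion of a Noetherian ring as a derived completion (helper2)

For a Noetherian ring `A` and an ideal `I` the map `A[0] ⟶ A^[0]` induces bijections on maps to
derived `I`-complete objects; consequently every derived complete `A`-module is uniquely a
module over `A^`.
-/

set_option autoImplicit false
universe u
open CategoryTheory CategoryTheory.Limits MonoidalCategory DerivedCategory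
attribute [local instance] HasDerivedCategory.standard

namespace Groth.Agent.Lib.AdicDer

open Groth.Agent.Lib.KFlatMod Groth.Agent.Lib.DMod_helper6 Groth.Agent.Lib.DerCompl
  Groth.Agent.Lib.DerNak Groth.Agent.Lib.BifCone CochainComplex Groth.Agent.Lib.DRingLT
  Groth.Agent.Lib.KFlatGen Groth.Agent.Lib.LocHom

variable {A : Type u} [CommRing A]

section Algebra

open TensorProduct

/-- `A ⊗ A/J ⟶ A^ ⊗ A/J` is bijective -/
lemma bijective_rTensor_of (J : Ideal A) (hJ : J.FG) :
    Function.Bijective (LinearMap.rTensor (A ⧸ J) (AdicCompletion.of J A)) := by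
  let L : AdicCompletion J A ⊗[A] (A ⧸ J) →ₗ[A] (A ⧸ J) :=
    TensorProduct.lift ((LinearMap.mul A (A ⧸ J)).comp (AdicCompletion.evalOneₐ J).toLinearMap)
  have hLT : ∀ w : A ⊗[A] (A ⧸ J),
      L (LinearMap.rTensor (A ⧸ J) (AdicCompletion.of J A) w) = TensorProduct.lid A (A ⧸ J) w := by
    intro w
    induction w using TensorProduct.induction_on with
    | zero => simp
    | tmul a q =>
      rw [LinearMap.rTensor_tmul]
      simp only [L, TensorProduct.lift.tmul, LinearMap.comp_apply, AlgHom.toLinearMap_apply,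
        LinearMap.mul_apply', TensorProduct.lid_tmul]
      rw [AdicCompletion.evalOneₐ_of, Algebra.smul_def]
      rfl
    | add x y hx hy => rw [map_add, map_add, map_add, hx, hy]
  have hker : ∀ d : AdicCompletion J A, d ∈ (J • ⊤ : Submodule A (AdicCompletion J A)) →
      ∀ q : A ⧸ J, d ⊗ₜ[A] q = 0 := by
    intro d hd q
    refine Submodule.smul_induction_on hd (fun r hr y _ => ?_) (fun x y hx hy => ?_)
    · rw [TensorProduct.smul_tmul]
      have : r • q = 0 := by
        obtain ⟨x, rfl⟩ := Ideal.Quotient.mk_surjective q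
        rw [Algebra.smul_def, Ideal.Quotient.algebraMap_eq, ← map_mul,
          Ideal.Quotient.eq_zero_iff_mem]
        exact J.mul_mem_right x hr
      rw [this, TensorProduct.tmul_zero]
    · rw [TensorProduct.add_tmul, hx, hy, add_zero]
  constructor
  · intro w w' h
    apply (TensorProduct.lid A (A ⧸ J)).injective
    rw [← hLT, ← hLT, h]
  · intro z
    induction z using TensorProduct.induction_on with
    | zero => exact ⟨0, map_zero _⟩
    | tmul b q =>
      obtain ⟨a, ha⟩ := Ideal.Quotient.mk_surjective (AdicCompletion.evalOneₐ J b)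
      have hd : b - AdicCompletion.of J A a ∈ (J • ⊤ : Submodule A (AdicCompletion J A)) := by
        rw [Ideal.smul_top_eq_map, Submodule.restrictScalars_mem,
          ← AdicCompletion.ker_evalOneₐ_eq_map J hJ, RingHom.mem_ker]
        show (AdicCompletion.evalOneₐ J) (b - AdicCompletion.of J A a) = 0
        rw [map_sub, AdicCompletion.evalOneₐ_of, ha, sub_self]
      refine ⟨a ⊗ₜ q, ?_⟩
      rw [LinearMap.rTensor_tmul]
      have h := hker _ hd q
      rw [TensorProduct.sub_tmul, sub_eq_zero] at h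
      exact h.symm
    | add x y hx hy =>
      obtain ⟨x', rfl⟩ := hx
      obtain ⟨y', rfl⟩ := hy
      exact ⟨x' + y', map_add _ _ _⟩

end Algebra

section Chain

/-- **chain level derived Nakayama** -/
theorem acyclic_of_TN_quotient (fs : List A) (X : DRing.Cx A) (hXp : X.IsKProjective)
    (hXfl : ∀ p, Module.Flat A (X.X p))
    (hc : DRing.IsDerivedComplete (Ideal.span {x : A | x ∈ fs}) (Q.obj X))
    (hB : ((TN (ModuleCat.of A (A ⧸ Ideal.span {x : A | x ∈ fs}))).obj X).Acyclic) :
    X.Acyclic := by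
  haveI := hXp
  have hgood : ∀ N : ModuleCat.{u} A, KilledBy fs N → ((TN N).obj X).Acyclic := fun N hN =>
    acyclic_TN_of_retract _ N (unitQuot fs) (actQuot fs N hN) (unit_actQuot fs N hN) X hB
  exact acyclic_of_good fs X hXp hXfl hgood hc

lemma isIso_TN_map_single {X Y : ModuleCat.{u} A} (g : X ⟶ Y) (N : ModuleCat.{u} A)
    (h : IsIso (g ▷ N)) :
    IsIso ((TN N).map
      ((HomologicalComplex.single (ModuleCat.{u} A) (ComplexShape.up ℤ) 0).map g)) := by
  have h1 : IsIso ((HomologicalComplex.single (ModuleCat.{u} A) (ComplexShape.up ℤ) 0 ⋙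
      (tensorRight N).mapHomologicalComplex (ComplexShape.up ℤ)).map g) := by
    rw [NatIso.isIso_map_iff
      (HomologicalComplex.singleMapHomologicalComplex (tensorRight N) (ComplexShape.up ℤ) (0 : ℤ)) g]
    haveI : IsIso ((tensorRight N).map g) := h
    exact inferInstanceAs (IsIso ((HomologicalComplex.single (ModuleCat.{u} A)
      (ComplexShape.up ℤ) 0).map ((tensorRight N).map g)))
  exact h1

lemma acyclic_iff_of_quasiIso {X Y : DRing.Cx A} (f : X ⟶ Y) [QuasiIso f] :
    X.Acyclic ↔ Y.Acyclic := by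
  constructor
  · intro h i
    rw [HomologicalComplex.exactAt_iff_isZero_homology]
    exact IsZero.of_iso ((HomologicalComplex.exactAt_iff_isZero_homology _ _).1 (h i))
      (asIso (HomologicalComplex.homologyMap f i)).symm
  · intro h i
    rw [HomologicalComplex.exactAt_iff_isZero_homology]
    exact IsZero.of_iso ((HomologicalComplex.exactAt_iff_isZero_homology _ _).1 (h i))
      (asIso (HomologicalComplex.homologyMap f i))

lemma kf_Sg (N : ModuleCat.{u} A) (hN : Module.Flat A N) : KF A (Sg N) :=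
  (kf_iff _).2 (isKFlat_single (flatClass A) N hN 0)

lemma kf_mappingCone {X Y : DRing.Cx A} (φ : X ⟶ Y) (hX : KF A X) (hY : KF A Y) :
    KF A (mappingCone φ) :=
  (kf_iff _).2 ((isKFlat_mappingCone φ).1 ((kf_iff _).1 hX) ((kf_iff _).1 hY))

lemma isZero_Sg_X (N : ModuleCat.{u} A) (i : ℤ) (hi : i ≠ 0) : IsZero ((Sg N).X i) :=
  HomologicalComplex.isZero_single_obj_X (ComplexShape.up ℤ) 0 N i hi

end Chain

section Main

variable [IsNoetherianRing A] (fs : List A)

/-- `A[0] ⟶ A^[0]` -/
noncomputable def ι₀ : Sg (ModuleCat.of A A) ⟶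
    Sg (ModuleCat.of A (AdicCompletion (Ideal.span {x : A | x ∈ fs}) A)) :=
  (HomologicalComplex.single (ModuleCat.{u} A) (ComplexShape.up ℤ) 0).map
    (ModuleCat.ofHom (AdicCompletion.of (Ideal.span {x : A | x ∈ fs}) A))

lemma span_fg : (Ideal.span {x : A | x ∈ fs}).FG :=
  Submodule.fg_span (List.finite_toSet fs)

lemma isIso_TN_ι₀ :
    IsIso ((TN (ModuleCat.of A (A ⧸ Ideal.span {x : A | x ∈ fs}))).map (ι₀ fs)) := by
  apply isIso_TN_map_single
  apply (ConcreteCategory.isIso_iff_bijective _).2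
  exact bijective_rTensor_of _ (span_fg fs)

/-- **maps from the cone of `A[0] ⟶ A^[0]` to derived complete objects vanish** -/
theorem hom_cone_eq_zero (E : Dual.D A)
    (hE : DRing.IsDerivedComplete (Ideal.span {x : A | x ∈ fs}) E)
    (a : Q.obj (mappingCone (ι₀ fs)) ⟶ E) : a = 0 := by
  haveI : DRing.HasDerivedCompletion (Ideal.span {x : A | x ∈ fs}) := hasDerivedCompletion_span fs
  obtain ⟨F, c, hFc, hFf, ⟨e⟩⟩ :=
    (isPseudoCoherentModule'_iff_noeth (A := A) (A ⧸ Ideal.span {x : A | x ∈ fs})).2 inferInstance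
  haveI : F.IsKProjective :=
    isKProjective_of_projective_bounded F c hFc (fun i => by
      haveI := (hFf i).2
      exact Module.Projective.of_free)
  obtain ⟨π, hπ, -⟩ := Groth.Agent.PerfectCx.exists_quasiIso_of_iso F
    (Sg (ModuleCat.of A (A ⧸ Ideal.span {x : A | x ∈ fs})))
    (e ≪≫ (DerivedCategory.singleFunctorIsoCompQ (ModuleCat.{u} A) 0).app
      (ModuleCat.of A (A ⧸ Ideal.span {x : A | x ∈ fs})))
  haveI := hπ
  have hkfF : KF A F := kf_of_vanishesAbove F c hFc (fun i => by
    haveI := (hFf i).2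
    infer_instance)
  haveI : DRing.HasLTensorCx A F := hasLTensorCx_of_kf F hkfF
  have hflB : Module.Flat A (AdicCompletion (Ideal.span {x : A | x ∈ fs}) A) := inferInstance
  have hC'kf : KF A (mappingCone (ι₀ fs)) :=
    kf_mappingCone _ (kf_Sg _ (inferInstance : Module.Flat A A)) (kf_Sg _ hflB)
  have hC'0 : ∀ i : ℤ, 0 < i → IsZero ((mappingCone (ι₀ fs)).X i) := fun i hi =>
    IsZero.of_iso (isZero_biprod (isZero_Sg_X _ (i + 1) (by omega)) (isZero_Sg_X _ i (by omega)))
      (coneXIso (ι₀ fs) i)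
  -- (1) `K ⊗^L F = 0`
  have h1 : IsZero ((DRing.LTensorCx A F).obj (Q.obj (mappingCone (ι₀ fs)))) := by
    obtain ⟨e1⟩ := nonempty_LTensorCx_iso F (Q.obj (mappingCone (ι₀ fs))) (mappingCone (ι₀ fs)) F
      hC'kf (Iso.refl _) (Iso.refl _)
    refine IsZero.of_iso ?_ e1.symm
    apply isZero_Q_obj_of_acyclic
    haveI := quasiIso_whiskerLeft_of_kf (mappingCone (ι₀ fs)) hC'kf π
    rw [acyclic_iff_of_quasiIso (mappingCone (ι₀ fs) ◁ π)]
    haveI := isIso_TN_ι₀ fs
    have hA : ((TN (ModuleCat.of A (A ⧸ Ideal.span {x : A | x ∈ fs}))).obj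
        (mappingCone (ι₀ fs))).Acyclic :=
      acyclic_of_iso (mappingCone.mapHomologicalComplexIso (ι₀ fs)
        (tensorRight (ModuleCat.of A (A ⧸ Ideal.span {x : A | x ∈ fs})))).symm
        ((quasiIso_iff_acyclic_mappingCone _).1 inferInstance)
    exact acyclic_of_iso ((tensorSingleNat _).app (mappingCone (ι₀ fs))).symm hA
  -- (2) `K^ ⊗^L F = 0`
  have hK : ∀ i : ℤ, 0 < i → Subsingleton (Dual.HD A (Q.obj (mappingCone (ι₀ fs))) i) := by
    apply (posAcyclic_iff_HD _).1
    intro i hi
    rw [← HomologicalComplex.exactAt_iff_isZero_homology]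
    exact ShortComplex.exact_of_isZero_X₂ _ (hC'0 i hi)
  obtain ⟨hdc, hbij⟩ := completion_LTensorCx fs F c hFc hFf (Q.obj (mappingCone (ι₀ fs))) 0 hK
  have h2 : IsZero ((DRing.LTensorCx A F).obj ((DRing.derivedCompletion
      (Ideal.span {x : A | x ∈ fs})).obj (Q.obj (mappingCone (ι₀ fs)))).obj) := by
    rw [IsZero.iff_id_eq_zero]
    apply (hbij _ hdc).1
    exact h1.eq_of_src _ _
  -- (3) `K^ = 0`
  obtain ⟨X, p, hp, hXp, hXkf, hXfl⟩ := Groth.Agent.Lib.KProjRes.exists_kproj_resolution
    (Q.objPreimage ((DRing.derivedCompletion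
      (Ideal.span {x : A | x ∈ fs})).obj (Q.obj (mappingCone (ι₀ fs)))).obj)
  haveI := hp
  haveI := hXp
  haveI : IsIso (Q.map p) := (isIso_Q_map_iff_quasiIso (C := ModuleCat.{u} A) p).2 inferInstance
  have eX : Q.obj X ≅ ((DRing.derivedCompletion
      (Ideal.span {x : A | x ∈ fs})).obj (Q.obj (mappingCone (ι₀ fs)))).obj :=
    asIso (Q.map p) ≪≫ Q.objObjPreimageIso _
  have h3 : ((TN (ModuleCat.of A (A ⧸ Ideal.span {x : A | x ∈ fs}))).obj X).Acyclic := by
    obtain ⟨e3⟩ := nonempty_LTensorCx_iso F _ X F hXkf eX (Iso.refl _)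
    have hXF : (X ⊗ F).Acyclic := acyclic_of_isZero_Q _ (h2.of_iso e3)
    haveI := quasiIso_whiskerLeft_of_kf X hXkf π
    have hXS := (acyclic_iff_of_quasiIso (X ◁ π)).1 hXF
    exact acyclic_of_iso ((tensorSingleNat _).app X) hXS
  have hXac := acyclic_of_TN_quotient fs X hXp hXfl
    (isDerivedComplete_of_iso _ eX.symm ((DRing.derivedCompletion
      (Ideal.span {x : A | x ∈ fs})).obj (Q.obj (mappingCone (ι₀ fs)))).property) h3
  have h4 : IsZero ((DRing.derivedCompletion
      (Ideal.span {x : A | x ∈ fs})).obj (Q.obj (mappingCone (ι₀ fs)))).obj :=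
    (isZero_Q_obj_of_acyclic X hXac).of_iso eX.symm
  -- (4)
  obtain ⟨a', ha'⟩ := (bijective_unit_precomp (DRing.IsDerivedComplete
    (Ideal.span {x : A | x ∈ fs})) (DRing.derivedCompletionAdj _) (Q.obj (mappingCone (ι₀ fs)))
    E hE).2 a
  rw [← ha']
  have : a' = 0 := h4.eq_of_src _ _
  rw [this]
  exact Limits.comp_zero

/-- **`A[0] ⟶ A^[0]` is universal among maps to derived complete objects** -/
theorem bijective_precomp_ι₀ (E : Dual.D A)
    (hE : DRing.IsDerivedComplete (Ideal.span {x : A | x ∈ fs}) E) :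
    Function.Bijective (fun φ : Q.obj (Sg (ModuleCat.of A
      (AdicCompletion (Ideal.span {x : A | x ∈ fs}) A))) ⟶ E => Q.map (ι₀ fs) ≫ φ) :=
  bijective_precomp_of_distinguished _ (DerivedCategory.mappingCone_triangle_distinguished (ι₀ fs))
    E (fun a => hom_cone_eq_zero fs E hE a)
    (fun a => hom_cone_eq_zero fs _ (isDerivedComplete_shift _ E hE 1) a)

end Main

end Groth.Agent.Lib.AdicDer
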