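import Mathlib
import Groth.Agent.Lib.DerComplOld_helper9

/-!
# Derived complete modules, concretely, part 2 (helper9)
S7045, S7046, S7048, S7049, S7044, S7042.
-/

set_option autoImplicit false
universe u
open Polynomial

namespace DerComp9

section Ring
variable {A : Type u} [CommRing A]

theorem Conc.of_algebra {f : A} {B : Type u} [CommRing B] [Algebra A B] {N : Type u}
    [AddCommGroup N] [Module A N] [Module B N] [IsScalarTower A B N] (h : Conc f N) :
    Conc (algebraMap A B f) N := by
  unfold Conc at h ⊢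
  simpa only [algebraMap_smul] using h

theorem Conc.quotient_span_pow {f : A} (h : Conc f A) (g : A) (n : ℕ) :
    Conc (Ideal.Quotient.mk (Ideal.span {g ^ n}) f) (A ⧸ Ideal.span {g ^ n}) := by
  have h1 : Conc f (A ⧸ (Ideal.span {g ^ n} : Ideal A)) := by
    apply Conc.quotient (M := A) (Ideal.span {g ^ n}) h
    intro w hw
    have hw' : ∀ i, ∃ v, v * g ^ n = w i := fun i => Ideal.mem_span_singleton'.mp (hw i)
    choose v hv using hw'
    obtain ⟨y, hy⟩ := h.2 v
    refine ⟨fun i => y i * g ^ n, fun i => Ideal.mem_span_singleton'.mpr ⟨_, rfl⟩, fun i => ?_⟩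
    have := hy i
    simp only [smul_eq_mul] at this ⊢
    rw [← hv i, ← this]; ring
  exact Conc.of_algebra (B := A ⧸ Ideal.span {g ^ n}) h1

theorem iInf_bot_pow : (⨅ n : ℕ, (⊥ : Ideal A) ^ n) = ⊥ :=
  le_bot_iff.mp ((iInf_le _ 1).trans (by simp))

theorem iInf_pow_pow_eq_bot (r : ℕ) : ∀ (A : Type u) [CommRing A] (s : Finset A), s.card ≤ r →
    (∀ f ∈ s, Conc f A) → (⨅ n : ℕ, (Ideal.span (s : Set A)) ^ n) ^ (2 ^ r) = ⊥ := by
  classical
  induction r with
  | zero =>
    intro A _ s hs _
    have : s = ∅ := Finset.card_eq_zero.mp (Nat.le_zero.mp hs)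
    subst this
    simp only [Finset.coe_empty, Ideal.span_empty, pow_zero, pow_one]
    exact iInf_bot_pow
  | succ r ih =>
    intro A _ s hs hc
    rcases s.eq_empty_or_nonempty with rfl | ⟨g, hg⟩
    · simp only [Finset.coe_empty, Ideal.span_empty]
      rw [iInf_bot_pow, ← Ideal.zero_eq_bot, zero_pow (by positivity)]
    · have hs' : (s.erase g).card ≤ r := by rw [Finset.card_erase_of_mem hg]; omega
      have hI : Ideal.span (s : Set A) = Ideal.span {g} ⊔ Ideal.span ((s.erase g : Finset A) : Set A) := by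
        rw [← Ideal.span_insert, ← Finset.coe_insert, Finset.insert_erase hg]
      have key : ∀ n, (⨅ n : ℕ, (Ideal.span (s : Set A)) ^ n) ^ (2 ^ r) ≤ Ideal.span {g ^ n} := by
        intro n
        have hIH := ih (A ⧸ Ideal.span {g ^ n})
          ((s.erase g).image (Ideal.Quotient.mk (Ideal.span {g ^ n})))
          (Finset.card_image_le.trans hs') (by
            intro f' hf'
            obtain ⟨f, hf, rfl⟩ := Finset.mem_image.mp hf'
            exact Conc.quotient_span_pow (hc f (Finset.mem_of_mem_erase hf)) g n)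
        have hmap : Ideal.map (Ideal.Quotient.mk (Ideal.span {g ^ n}))
            (⨅ n : ℕ, (Ideal.span (s : Set A)) ^ n) ≤
            ⨅ k, (Ideal.span (((s.erase g).image (Ideal.Quotient.mk (Ideal.span {g ^ n})) :
              Finset _) : Set _)) ^ k := by
          refine le_iInf fun k => ?_
          have h1 : (⨅ n : ℕ, (Ideal.span (s : Set A)) ^ n) ≤
              Ideal.span {g} ^ n ⊔ Ideal.span ((s.erase g : Finset A) : Set A) ^ k :=
            (iInf_le _ (n + k)).trans (by rw [hI]; exact Ideal.sup_pow_add_le_pow_sup_pow)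
          refine (Ideal.map_mono h1).trans ?_
          rw [Ideal.map_sup, Ideal.map_pow, Ideal.map_pow, Ideal.map_span, Ideal.map_span,
            Finset.coe_image]
          have : Ideal.span ((Ideal.Quotient.mk (Ideal.span {g ^ n})) '' {g}) ^ n = ⊥ := by
            rw [Set.image_singleton, Ideal.span_singleton_pow, ← map_pow,
              Ideal.span_singleton_eq_bot, Ideal.Quotient.eq_zero_iff_mem]
            exact Ideal.mem_span_singleton_self _
          rw [this, bot_sup_eq]
        have h2 : Ideal.map (Ideal.Quotient.mk (Ideal.span {g ^ n}))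
            ((⨅ n : ℕ, (Ideal.span (s : Set A)) ^ n) ^ (2 ^ r)) = ⊥ := by
          rw [Ideal.map_pow, ← le_bot_iff, ← hIH]
          exact Ideal.pow_right_mono hmap _
        rw [Ideal.map_eq_bot_iff_le_ker, Ideal.mk_ker] at h2
        exact h2
      have hJg : (⨅ n : ℕ, (Ideal.span (s : Set A)) ^ n) ^ (2 ^ r) ≤
          ⨅ n, Ideal.span {g ^ n} := le_iInf key
      have hsq : (⨅ n, Ideal.span {g ^ n} : Ideal A) * (⨅ n, Ideal.span {g ^ n}) = ⊥ := by
        rw [← le_bot_iff, Ideal.mul_le]
        intro a ha b hb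
        rw [Ideal.mem_bot]
        have := Conc.smul_eq_zero_of_mem_iInf (hc g hg) a (fun n => by
          obtain ⟨c, hc'⟩ := Ideal.mem_span_singleton'.mp ((Ideal.mem_iInf.mp ha) n)
          exact ⟨c, by rw [← hc', mul_comm]⟩) b (fun n => by
          obtain ⟨c, hc'⟩ := Ideal.mem_span_singleton'.mp ((Ideal.mem_iInf.mp hb) n)
          exact ⟨c, by rw [← hc', smul_eq_mul, mul_comm]⟩)
        simpa using this
      rw [pow_succ, pow_mul, sq, ← le_bot_iff, ← hsq]
      exact Ideal.mul_mono hJg hJg

end Ring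

section Precomplete
variable {A : Type u} [CommRing A] {M : Type u} [AddCommGroup M] [Module A M]

theorem pigeon (s : Finset A) (k : ℕ) :
    (Ideal.span (s : Set A)) ^ (s.card * k + 1) ≤
      Ideal.span ((fun f => f ^ k) '' (s : Set A)) := by
  classical
  induction s using Finset.induction_on with
  | empty => simp
  | insert g s hg ih =>
    rw [Finset.coe_insert, Ideal.span_insert, Finset.card_insert_of_notMem hg,
      Set.image_insert_eq, Ideal.span_insert]
    have : (s.card + 1) * k + 1 = k + (s.card * k + 1) := by ring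
    rw [this]
    refine Ideal.sup_pow_add_le_pow_sup_pow.trans (sup_le_sup ?_ ih)
    rw [Ideal.span_singleton_pow]

theorem mem_span_image_smul_top (s : Finset A) (φ : A → A) (m : M)
    (hm : m ∈ (Ideal.span (φ '' (s : Set A))) • (⊤ : Submodule A M)) :
    ∃ y : A → M, m = ∑ f ∈ s, φ f • y f := by
  classical
  refine Submodule.smul_induction_on hm ?_ ?_
  · intro r hr x _
    have himg : φ '' (s : Set A) = Set.range (fun f : s => φ f) := by
      ext z; simp
    rw [himg] at hr
    obtain ⟨c, hc⟩ := (Submodule.mem_span_range_iff_exists_fun A).mp hr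
    refine ⟨fun f => if h : f ∈ s then c ⟨f, h⟩ • x else 0, ?_⟩
    rw [← hc, Finset.sum_smul, ← Finset.sum_coe_sort s]
    refine Finset.sum_congr rfl fun f _ => ?_
    simp only [Finset.coe_mem, dite_true, smul_eq_mul, Subtype.coe_eta]
    rw [mul_smul, smul_comm]
  · rintro x y ⟨y1, h1⟩ ⟨y2, h2⟩
    exact ⟨y1 + y2, by rw [h1, h2, ← Finset.sum_add_distrib]; simp [smul_add]⟩

theorem isPrecomplete_of_conc (s : Finset A) (hc : ∀ f ∈ s, Conc f M) :
    IsPrecomplete (Ideal.span (s : Set A)) M := by
  classical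
  rw [isPrecomplete_iff]
  intro a ha
  have hn : ∀ k, k ≤ s.card * k + k + 1 := fun k => by omega
  have hnmono : ∀ k, s.card * k + k + 1 ≤ s.card * (k + 1) + (k + 1) + 1 := fun k => by
    have : s.card * k ≤ s.card * (k + 1) := Nat.mul_le_mul_left s.card (Nat.le_add_right k 1)
    omega
  have hd : ∀ k, a (s.card * (k + 1) + (k + 1) + 1) - a (s.card * k + k + 1) ∈
      (Ideal.span ((fun f => f ^ k) '' (s : Set A))) • (⊤ : Submodule A M) := by
    intro k
    have h1 := ha (hnmono k)
    have h2 : a (s.card * (k + 1) + (k + 1) + 1) - a (s.card * k + k + 1) ∈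
        ((Ideal.span (s : Set A)) ^ (s.card * k + k + 1) • ⊤ : Submodule A M) :=
      SModEq.sub_mem.mp h1.symm
    have h3 : (Ideal.span (s : Set A)) ^ (s.card * k + k + 1) ≤
        Ideal.span ((fun f => f ^ k) '' (s : Set A)) :=
      (Ideal.pow_le_pow_right (by omega : s.card * k + 1 ≤ s.card * k + k + 1)).trans (pigeon s k)
    exact Submodule.smul_mono_left h3 h2
  choose y hy using fun k => mem_span_image_smul_top s (fun f => f ^ k) _ (hd k)
  have hX : ∀ f : A, ∃ x : ℕ → M, f ∈ s → ∀ i, x i - f • x (i + 1) = y i f := fun f => by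
    by_cases hf : f ∈ s
    · obtain ⟨x, hx⟩ := (hc f hf).2 (fun i => y i f)
      exact ⟨x, fun _ => hx⟩
    · exact ⟨0, fun h => absurd h hf⟩
  choose X hX using hX
  -- the limit
  refine ⟨a (s.card * 0 + 0 + 1) + ∑ f ∈ s, X f 0, fun N => ?_⟩
  have hsum : ∀ K, ∑ f ∈ s, X f 0 =
      (a (s.card * K + K + 1) - a (s.card * 0 + 0 + 1)) + ∑ f ∈ s, f ^ K • X f K := by
    intro K
    have h1 : ∀ f ∈ s, X f 0 = (∑ k ∈ Finset.range K, f ^ k • y k f) + f ^ K • X f K := by
      intro f hf
      have := sol_eq_sum (X f) (fun i => y i f) (hX f hf) 0 K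
      simpa using this
    rw [Finset.sum_congr rfl h1, Finset.sum_add_distrib, Finset.sum_comm]
    congr 1
    have h2 : ∀ k ∈ Finset.range K, ∑ f ∈ s, f ^ k • y k f =
        a (s.card * (k + 1) + (k + 1) + 1) - a (s.card * k + k + 1) := fun k _ => (hy k).symm
    rw [Finset.sum_congr rfl h2]
    exact Finset.sum_range_sub (fun k => a (s.card * k + k + 1)) K
  have hz : ∑ f ∈ s, f ^ N • X f N ∈
      ((Ideal.span (s : Set A)) ^ N • ⊤ : Submodule A M) := by
    refine Submodule.sum_mem _ fun f hf => ?_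
    exact Submodule.smul_mem_smul (Ideal.pow_mem_pow (Ideal.subset_span hf) N) Submodule.mem_top
  have h1 : a N ≡ a (s.card * N + N + 1) [SMOD ((Ideal.span (s : Set A)) ^ N • ⊤ : Submodule A M)] :=
    ha (hn N)
  rw [SModEq.sub_mem] at h1 ⊢
  have : a N - (a (s.card * 0 + 0 + 1) + ∑ f ∈ s, X f 0) =
      (a N - a (s.card * N + N + 1)) - ∑ f ∈ s, f ^ N • X f N := by
    rw [hsum N]; abel
  rw [this]
  exact Submodule.sub_mem _ h1 hz

theorem conc_of_isAdicComplete (I : Ideal A) [IsAdicComplete I M] (f : A) (hf : f ∈ I) :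
    Conc f M := by
  constructor
  · intro x hx
    have hpow : ∀ n, x 0 = f ^ n • x n := by
      intro n
      induction n with
      | zero => simp
      | succ n ih => rw [ih, hx n, pow_succ, mul_smul]
    apply IsHausdorff.haus (inferInstance : IsHausdorff I M)
    intro n
    rw [SModEq.zero, hpow n]
    exact Submodule.smul_mem_smul (Ideal.pow_mem_pow hf n) Submodule.mem_top
  · intro m
    -- partial sums
    have hcauchy : ∀ i, ∃ L : M, ∀ n,
        (∑ k ∈ Finset.range n, f ^ k • m (i + k)) ≡ L [SMOD (I ^ n • ⊤ : Submodule A M)] := by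
      intro i
      apply IsPrecomplete.prec (inferInstance : IsPrecomplete I M)
      intro n n' hnn'
      rw [SModEq.sub_mem]
      have : (∑ k ∈ Finset.range n, f ^ k • m (i + k)) - ∑ k ∈ Finset.range n', f ^ k • m (i + k) =
          - ∑ k ∈ Finset.Ico n n', f ^ k • m (i + k) := by
        rw [Finset.sum_Ico_eq_sub _ hnn']; abel
      rw [this]
      refine Submodule.neg_mem _ (Submodule.sum_mem _ fun k hk => ?_)
      have hk' : n ≤ k := (Finset.mem_Ico.mp hk).1
      exact Submodule.smul_mem_smul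
        (Ideal.pow_le_pow_right hk' (Ideal.pow_mem_pow hf k)) Submodule.mem_top
    choose L hL using hcauchy
    refine ⟨L, fun i => ?_⟩
    rw [← sub_eq_zero]
    apply IsHausdorff.haus (inferInstance : IsHausdorff I M)
    intro n
    rw [SModEq.zero]
    -- L i ≡ S_i(n+1), f L(i+1) ≡ f S_{i+1}(n), S_i(n+1) = m i + f S_{i+1}(n)
    have h1 := SModEq.sub_mem.mp (hL i (n + 1))
    have h1' : (∑ k ∈ Finset.range (n + 1), f ^ k • m (i + k)) - L i ∈
        (I ^ n • ⊤ : Submodule A M) :=
      Submodule.smul_mono_left (Ideal.pow_le_pow_right (Nat.le_succ n)) h1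
    have h2 := SModEq.sub_mem.mp (hL (i + 1) n)
    have h3 : (∑ k ∈ Finset.range (n + 1), f ^ k • m (i + k)) =
        m i + f • ∑ k ∈ Finset.range n, f ^ k • m (i + 1 + k) := by
      rw [Finset.sum_range_succ', Finset.smul_sum, add_comm]
      congr 1
      · simp
      · refine Finset.sum_congr rfl fun k _ => ?_
        rw [pow_succ, mul_comm, mul_smul, show i + (k + 1) = i + 1 + k by omega]
    have : L i - f • L (i + 1) - m i =
        - ((∑ k ∈ Finset.range (n + 1), f ^ k • m (i + k)) - L i) +
        f • ((∑ k ∈ Finset.range n, f ^ k • m (i + 1 + k)) - L (i + 1)) := by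
      rw [h3, smul_sub]; abel
    rw [this]
    exact Submodule.add_mem _ (Submodule.neg_mem _ h1') (Submodule.smul_mem _ _ h2)

end Precomplete

end DerComp9
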