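import Mathlib
import Groth.Agent.Lib.AdicDer1_helper2
import Groth.Agent.Lib.CompleteNoeth_lead
import Groth.Agent.S0543
import Groth.Agent.S3866
import Groth.Agent.S7048
import Groth.Agent.S7051
import Groth.Agent.S7053

/-!
# Derived complete modules over a Noetherian ring are modules over the adic completion (helper2)

* `existsUnique_lin`: for a derived complete `A`-module `M` and `m : M` there is a unique `A`-linear
  map `A^ ⟶ M` with `1 ↦ m`.
* `exists_module`: the resulting `A^`-module structure on `M`.
* `isAdicComplete_and_finite`: if moreover `M/IM` is finite then `M` is `I`-adically complete and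
  `M^` is a finite `A^`-module.
-/

set_option autoImplicit false
universe u
open CategoryTheory CategoryTheory.Limits DerivedCategory
attribute [local instance] HasDerivedCategory.standard

namespace Groth.Agent.Lib.AdicDer

open Groth.Agent.Lib.DerCompl

variable {A : Type u} [CommRing A] [IsNoetherianRing A]

theorem existsUnique_lin_list (fs : List A) (M : Type u) [AddCommGroup M] [Module A M]
    (hc : DRing.IsDerivedComplete (Ideal.span {x : A | x ∈ fs}) (Dual.inD A M)) (m : M) :
    ∃! φ : AdicCompletion (Ideal.span {x : A | x ∈ fs}) A →ₗ[A] M, φ 1 = m := by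
  have h1 : (1 : AdicCompletion (Ideal.span {x : A | x ∈ fs}) A) =
      AdicCompletion.of (Ideal.span {x : A | x ∈ fs}) A 1 := by
    rw [← map_one (algebraMap A (AdicCompletion (Ideal.span {x : A | x ∈ fs}) A)),
      AdicCompletion.algebraMap_apply]
    simp
  have hb : Function.Bijective
      (fun φ : (DerivedCategory.singleFunctor (ModuleCat.{u} A) 0).obj
          (ModuleCat.of A (AdicCompletion (Ideal.span {x : A | x ∈ fs}) A)) ⟶
        (DerivedCategory.singleFunctor (ModuleCat.{u} A) 0).obj (ModuleCat.of A M) =>
        (DerivedCategory.singleFunctor (ModuleCat.{u} A) 0).map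
          (ModuleCat.ofHom (AdicCompletion.of (Ideal.span {x : A | x ∈ fs}) A)) ≫ φ) :=
    bijective_precomp_ι₀ fs (Dual.inD A M) hc
  obtain ⟨ψ, hψ⟩ := hb.2 ((DerivedCategory.singleFunctor (ModuleCat.{u} A) 0).map
    (ModuleCat.ofHom (LinearMap.toSpanSingleton A M m)))
  obtain ⟨g, rfl⟩ := (DerivedCategory.singleFunctor (ModuleCat.{u} A) 0).map_surjective ψ
  have hg : ModuleCat.ofHom (AdicCompletion.of (Ideal.span {x : A | x ∈ fs}) A) ≫ g =
      ModuleCat.ofHom (LinearMap.toSpanSingleton A M m) := by
    apply (DerivedCategory.singleFunctor (ModuleCat.{u} A) 0).map_injective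
    rw [CategoryTheory.Functor.map_comp]
    exact hψ
  refine ⟨g.hom, ?_, ?_⟩
  · show g.hom 1 = m
    rw [h1]
    have h2 := congrArg (fun t => t.hom (1 : A)) hg
    simpa using h2
  · intro φ' hφ'
    have h3 : ModuleCat.ofHom φ' = g := by
      apply (DerivedCategory.singleFunctor (ModuleCat.{u} A) 0).map_injective
      apply hb.1
      show (DerivedCategory.singleFunctor (ModuleCat.{u} A) 0).map _ ≫
          (DerivedCategory.singleFunctor (ModuleCat.{u} A) 0).map _ =
        (DerivedCategory.singleFunctor (ModuleCat.{u} A) 0).map _ ≫
          (DerivedCategory.singleFunctor (ModuleCat.{u} A) 0).map _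
      rw [← CategoryTheory.Functor.map_comp, ← CategoryTheory.Functor.map_comp, hg]
      congr 1
      apply ModuleCat.hom_ext
      apply LinearMap.ext_ring
      show φ' (AdicCompletion.of _ A 1) = (1 : A) • m
      rw [← h1, hφ', one_smul]
    rw [← h3]
    rfl

theorem existsUnique_lin (I : Ideal A) (M : Type u) [AddCommGroup M] [Module A M]
    (hc : DRing.IsDerivedComplete I (Dual.inD A M)) (m : M) :
    ∃! φ : AdicCompletion I A →ₗ[A] M, φ 1 = m := by
  obtain ⟨s, hs⟩ := (isNoetherianRing_iff_ideal_fg A).1 inferInstance I
  have hI' : I = Ideal.span {x : A | x ∈ s.toList} := by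
    rw [← hs]
    congr 1
    ext x
    simp
  subst hI'
  exact existsUnique_lin_list s.toList M hc m

/-- **a derived complete module is a module over the adic completion** -/
theorem exists_module (I : Ideal A) (M : Type u) [AddCommGroup M] [Module A M]
    (hc : DRing.IsDerivedComplete I (Dual.inD A M)) :
    ∃ (inst : Module (AdicCompletion I A) M),
      @IsScalarTower A (AdicCompletion I A) M _ inst.toSMul _ := by
  have hex := existsUnique_lin I M hc
  choose φ hφ using fun m => (hex m).exists
  have hext : ∀ ψ ψ' : AdicCompletion I A →ₗ[A] M, ψ 1 = ψ' 1 → ψ = ψ' := fun ψ ψ' h =>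
    (hex (ψ 1)).unique rfl h.symm
  letI : SMul (AdicCompletion I A) M := ⟨fun b m => φ m b⟩
  have hsm : ∀ (b : AdicCompletion I A) (m : M), b • m = φ m b := fun _ _ => rfl
  refine ⟨Module.ofMinimalAxioms ?_ ?_ ?_ ?_, ?_⟩
  · intro b m m'
    rw [hsm, hsm, hsm]
    have h := hext (φ (m + m')) (φ m + φ m') (by rw [LinearMap.add_apply, hφ, hφ, hφ])
    rw [h, LinearMap.add_apply]
  · intro b b' m
    rw [hsm, hsm, hsm, map_add]
  · intro b b' m
    rw [hsm, hsm, hsm]
    have h := hext ((φ m).comp (LinearMap.mulRight A b')) (φ (φ m b')) (by
      rw [LinearMap.comp_apply, LinearMap.mulRight_apply, one_mul, hφ])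
    have h2 := congrArg (fun t => t b) h
    simpa [LinearMap.mulRight_apply] using h2
  · intro m
    rw [hsm, hφ]
  · refine ⟨fun a b m => ?_⟩
    show φ m (a • b) = a • φ m b
    rw [map_smul]

/-- **derived complete with finite reduction implies adically complete and finite over the
completion** -/
theorem isAdicComplete_and_finite (I : Ideal A) (M : Type u) [AddCommGroup M] [Module A M]
    (hc : DRing.IsDerivedComplete I (Dual.inD A M))
    (hf : Module.Finite A (M ⧸ I • (⊤ : Submodule A M))) :
    IsAdicComplete I M ∧ Module.Finite (AdicCompletion I A) (AdicCompletion I M) := by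
  have hI : I.FG := (isNoetherianRing_iff_ideal_fg A).1 inferInstance I
  haveI hBN : IsNoetherianRing (AdicCompletion I A) := Groth.Agent.S0543.result A I
  haveI hBc : IsAdicComplete (I.map (algebraMap A (AdicCompletion I A))) (AdicCompletion I A) :=
    AdicCompletion.isAdicComplete_self I hI
  constructor
  · obtain ⟨inst, htower⟩ := exists_module I M hc
    letI := inst
    haveI := htower
    obtain ⟨n, s, hs⟩ := Module.Finite.exists_fin (R := A) (M := M ⧸ (I • ⊤ : Submodule A M))
    choose x hx using fun i => Submodule.mkQ_surjective (I • ⊤ : Submodule A M) (s i)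
    have htop : ∀ z : M, z ∈ Submodule.span A (Set.range x) ⊔ (I • ⊤ : Submodule A M) := by
      intro z
      have hz : (I • ⊤ : Submodule A M).mkQ z ∈ Submodule.span A (Set.range s) := by
        rw [hs]; trivial
      have hmap : Submodule.span A (Set.range s) =
          (Submodule.span A (Set.range x)).map (I • ⊤ : Submodule A M).mkQ := by
        rw [Submodule.map_span, ← Set.range_comp]
        congr 2
        ext i
        exact (hx i).symm
      rw [hmap] at hz
      obtain ⟨w, hw, hwz⟩ := hz
      have h1 : z - w ∈ (I • ⊤ : Submodule A M) := by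
        rw [Submodule.mkQ_apply, Submodule.mkQ_apply] at hwz
        exact (Submodule.Quotient.eq _).1 hwz.symm
      have : z = w + (z - w) := by abel
      rw [this]
      exact Submodule.add_mem_sup hw h1
    let q : (Fin n → AdicCompletion I A) →ₗ[AdicCompletion I A] M :=
      Fintype.linearCombination (AdicCompletion I A) x
    let qA : (Fin n → AdicCompletion I A) →ₗ[A] M := q.restrictScalars A
    haveI : IsAdicComplete (I.map (algebraMap A (AdicCompletion I A)))
        (Fin n → AdicCompletion I A) :=
      Groth.Agent.S3866.result (AdicCompletion I A) _ (Fin n → AdicCompletion I A)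
    haveI : IsAdicComplete I (Fin n → AdicCompletion I A) :=
      (IsAdicComplete.map_algebraMap_iff I (Fin n → AdicCompletion I A)
        (S := AdicCompletion I A)).1
        (inferInstance : IsAdicComplete (I.map (algebraMap A (AdicCompletion I A)))
          (Fin n → AdicCompletion I A))
    have hdcB := Groth.Agent.S7048.result I (Fin n → AdicCompletion I A)
    have hdcQ := (Groth.Agent.S7051.result I (Fin n → AdicCompletion I A) M qA hdcB hc).2
    have hrange : Submodule.span A (Set.range x) ≤ LinearMap.range qA := by
      rw [Submodule.span_le]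
      rintro _ ⟨i, rfl⟩
      refine ⟨Pi.single i 1, ?_⟩
      show q (Pi.single i 1) = x i
      simp [q, Fintype.linearCombination_apply_single]
    have hItop : I • (⊤ : Submodule A (M ⧸ LinearMap.range qA)) = ⊤ := by
      rw [eq_top_iff]
      rintro z -
      obtain ⟨m, rfl⟩ := Submodule.mkQ_surjective _ z
      obtain ⟨w, hw, v, hv, rfl⟩ := Submodule.mem_sup.1 (htop m)
      rw [map_add]
      have hw0 : (LinearMap.range qA).mkQ w = 0 := by
        rw [Submodule.mkQ_apply, Submodule.Quotient.mk_eq_zero]
        exact hrange hw
      rw [hw0, zero_add]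
      have hle : (I • ⊤ : Submodule A M).map (LinearMap.range qA).mkQ ≤ I • ⊤ := by
        rw [Submodule.map_smul'']
        exact smul_mono_right _ le_top
      exact hle ⟨v, hv, rfl⟩
    haveI := Groth.Agent.S7053.result I hI (M ⧸ LinearMap.range qA) hdcQ hItop
    have hsurj : Function.Surjective q := by
      have hr : LinearMap.range qA = ⊤ :=
        Submodule.Quotient.subsingleton_iff.1 inferInstance
      intro m
      have hm : m ∈ LinearMap.range qA := by rw [hr]; trivial
      obtain ⟨v, hv⟩ := hm
      exact ⟨v, hv⟩
    haveI : Module.Finite (AdicCompletion I A) M := Module.Finite.of_surjective q hsurj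
    haveI : IsAdicComplete (I.map (algebraMap A (AdicCompletion I A))) M :=
      Groth.Agent.S3866.result (AdicCompletion I A) _ M
    exact (IsAdicComplete.map_algebraMap_iff I M (S := AdicCompletion I A)).1
      (inferInstance : IsAdicComplete (I.map (algebraMap A (AdicCompletion I A))) M)
  · haveI : IsHausdorff (I.map (algebraMap A (AdicCompletion I A))) (AdicCompletion I M) :=
      IsHausdorff.map_algebraMap_iff.2
        (AdicCompletion.isAdicComplete (I := I) (M := M) hI).toIsHausdorff
    apply Groth.Agent.Lib.CompleteNoethLead.finite_of_hausdorff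
      (I.map (algebraMap A (AdicCompletion I A)))
    haveI : Module.Finite A (AdicCompletion I M ⧸
        ((I.map (algebraMap A (AdicCompletion I A))) • ⊤ :
          Submodule (AdicCompletion I A) (AdicCompletion I M))) := by
      let g : M →ₗ[A] AdicCompletion I M ⧸
          ((I.map (algebraMap A (AdicCompletion I A))) • ⊤ :
            Submodule (AdicCompletion I A) (AdicCompletion I M)) :=
        ((Submodule.mkQ _).restrictScalars A).comp (AdicCompletion.of I M)
      have hg : (I • ⊤ : Submodule A M) ≤ LinearMap.ker g := by
        rw [Submodule.smul_le]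
        intro r hr m _
        rw [LinearMap.mem_ker]
        show Submodule.mkQ _ (AdicCompletion.of I M (r • m)) = 0
        rw [map_smul, Submodule.mkQ_apply, Submodule.Quotient.mk_eq_zero,
          ← algebraMap_smul (AdicCompletion I A) r (AdicCompletion.of I M m)]
        exact Submodule.smul_mem_smul (Ideal.mem_map_of_mem _ hr) Submodule.mem_top
      have hsurj : Function.Surjective (Submodule.liftQ _ g hg) := by
        intro z
        obtain ⟨y, rfl⟩ := Submodule.mkQ_surjective _ z
        obtain ⟨m, hm⟩ := Submodule.mkQ_surjective _ (AdicCompletion.eval I M 1 y)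
        refine ⟨Submodule.Quotient.mk m, ?_⟩
        show Submodule.mkQ _ (AdicCompletion.of I M m) = Submodule.mkQ _ y
        rw [← sub_eq_zero, ← map_sub, Submodule.mkQ_apply, Submodule.Quotient.mk_eq_zero]
        have h1 : AdicCompletion.of I M m - y ∈ (I ^ 1 • ⊤ : Submodule A (AdicCompletion I M)) := by
          rw [AdicCompletion.pow_smul_top_eq_ker_eval hI, LinearMap.mem_ker, map_sub,
            AdicCompletion.eval_of, hm, sub_self]
        rw [pow_one] at h1
        have h2 : (I • ⊤ : Submodule A (AdicCompletion I M)) =
            ((I.map (algebraMap A (AdicCompletion I A))) •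
              (⊤ : Submodule (AdicCompletion I A) (AdicCompletion I M))).restrictScalars A := by
          rw [Ideal.smul_restrictScalars, Submodule.restrictScalars_top]
        rw [h2] at h1
        exact h1
      exact Module.Finite.of_surjective _ hsurj
    exact Module.Finite.of_restrictScalars_finite A (AdicCompletion I A) _

end Groth.Agent.Lib.AdicDer
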