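import Mathlib
import Groth.Agent.Lib.AdicDer1_helper2
import Groth.Agent.S7048

/-!
# `K ⟶ K ⊗_A A^` as a derived completion (helper2)
-/

set_option autoImplicit false
universe v u
open CategoryTheory CategoryTheory.Limits MonoidalCategory DerivedCategory
attribute [local instance] HasDerivedCategory.standard

namespace Groth.Agent.Lib.AdicDer

open Groth.Agent.Lib.KFlatMod Groth.Agent.Lib.DMod_helper6 Groth.Agent.Lib.DerCompl
  Groth.Agent.Lib.DerNak Groth.Agent.Lib.BifCone CochainComplex Groth.Agent.Lib.DRingLT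
  Groth.Agent.Lib.KFlatGen Groth.Agent.Lib.LocHom Groth.Agent.Lib.RHomKInj

section BifNatNaturality

open HomologicalComplex Groth.Agent.Lib.BifNat

variable {C₁ C₂ D : Type*} [Category C₁] [Category C₂] [Category D]
  [Preadditive C₁] [Preadditive C₂] [Preadditive D]
  {F F' : C₁ ⥤ C₂ ⥤ D} [F.Additive] [∀ X₁, (F.obj X₁).Additive]
  [F'.Additive] [∀ X₁, (F'.obj X₁).Additive] (τ : F ⟶ F')
  {K₁ L₁ : CochainComplex C₁ ℤ} {K₂ L₂ : CochainComplex C₂ ℤ}
  [CochainComplex.HasMapBifunctor K₁ K₂ F] [CochainComplex.HasMapBifunctor K₁ K₂ F']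
  [CochainComplex.HasMapBifunctor L₁ L₂ F] [CochainComplex.HasMapBifunctor L₁ L₂ F']

lemma mapNat_naturality (φ₁ : K₁ ⟶ L₁) (φ₂ : K₂ ⟶ L₂) :
    HomologicalComplex.mapBifunctorMap φ₁ φ₂ F (ComplexShape.up ℤ) ≫ mapNat τ L₁ L₂ =
      mapNat τ K₁ K₂ ≫ HomologicalComplex.mapBifunctorMap φ₁ φ₂ F' (ComplexShape.up ℤ) := by
  ext n p q hpq
  have hpq' : p + q = n := hpq
  rw [HomologicalComplex.comp_f, HomologicalComplex.comp_f]
  erw [HomologicalComplex.ι_mapBifunctorMap_assoc φ₁ φ₂ F (ComplexShape.up ℤ) p q n hpq',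
    ι_mapNat_f τ L₁ L₂ p q n hpq', ι_mapNat_f_assoc τ K₁ K₂ p q n hpq',
    HomologicalComplex.ι_mapBifunctorMap φ₁ φ₂ F' (ComplexShape.up ℤ) p q n hpq']
  have h1 := (τ.app (L₁.X p)).naturality (φ₂.f q)
  have h2 := congrArg (fun t => t.app (K₂.X q)) (τ.naturality (φ₁.f p))
  simp only [NatTrans.comp_app] at h2
  rw [← Category.assoc ((F.obj (L₁.X p)).map (φ₂.f q)), h1, Category.assoc,
    ← Category.assoc ((F.map (φ₁.f p)).app (K₂.X q)), h2, Category.assoc]

end BifNatNaturality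


section SymmNat

variable {𝒜 : Type u} [Category.{v} 𝒜] [Abelian 𝒜]
  {F : 𝒜 ⥤ 𝒜 ⥤ 𝒜} [F.Additive] [∀ X, (F.obj X).Additive]
  [∀ (K₁ K₂ : CochainComplex 𝒜 ℤ), CochainComplex.HasMapBifunctor K₁ K₂ F]
  (σ : F ≅ F.flip)

lemma tensorCxSymm_naturality_left {K K' : CochainComplex 𝒜 ℤ} (φ : K ⟶ K')
    (L : CochainComplex 𝒜 ℤ) :
    HomologicalComplex.mapBifunctorMap φ (𝟙 L) F (ComplexShape.up ℤ) ≫
        (tensorCxSymm σ K' L).hom =
      (tensorCxSymm σ K L).hom ≫
        HomologicalComplex.mapBifunctorMap (𝟙 L) φ F (ComplexShape.up ℤ) := by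
  dsimp only [tensorCxSymm, Iso.trans_hom, Groth.Agent.Lib.BifNat.mapNatIso]
  rw [← Category.assoc, mapNat_naturality σ.hom φ (𝟙 L), Category.assoc, Category.assoc]
  congr 1
  exact HomologicalComplex.mapBifunctorFlipIso_hom_naturality (𝟙 L) φ F (ComplexShape.up ℤ)

end SymmNat


section Abstract

lemma bijective_precomp_of_comm {C : Type*} [Category C] {X Y X' Y' E : C} (u : X ⟶ Y)
    (u' : X' ⟶ Y') (a : X ≅ X') (b : Y ≅ Y') (h : u ≫ b.hom = a.hom ≫ u')
    (hu : Function.Bijective (fun φ : Y ⟶ E => u ≫ φ)) :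
    Function.Bijective (fun φ : Y' ⟶ E => u' ≫ φ) := by
  constructor
  · intro φ₁ φ₂ h12
    have h12' : u' ≫ φ₁ = u' ≫ φ₂ := h12
    have h3 : u ≫ (b.hom ≫ φ₁) = u ≫ (b.hom ≫ φ₂) := by
      rw [← Category.assoc, ← Category.assoc, h, Category.assoc, Category.assoc, h12']
    exact (cancel_epi b.hom).1 (hu.1 h3)
  · intro g
    obtain ⟨ψ, hψ⟩ := hu.2 (a.hom ≫ g)
    have hψ' : u ≫ ψ = a.hom ≫ g := hψ
    refine ⟨b.inv ≫ ψ, ?_⟩
    show u' ≫ b.inv ≫ ψ = g
    have h2 : u' = a.inv ≫ u ≫ b.hom := by rw [h, Iso.inv_hom_id_assoc]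
    rw [h2, Category.assoc, Category.assoc, Iso.hom_inv_id_assoc, hψ', Iso.inv_hom_id_assoc]

end Abstract

section SingleNatN

variable {A : Type u} [CommRing A]

lemma θ_naturality_N (K : DRing.Cx A) {N N' : ModuleCat.{u} A} (g : N ⟶ N') (p : ℤ) :
    Groth.Agent.Lib.BifSingle.θ (T A) K N 0 p p (add_zero p) ≫
      (HomologicalComplex.mapBifunctorMap (𝟙 K)
        ((HomologicalComplex.single (ModuleCat.{u} A) (ComplexShape.up ℤ) 0).map g) (T A)
        (ComplexShape.up ℤ)).f p =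
      (K.X p ◁ g) ≫ Groth.Agent.Lib.BifSingle.θ (T A) K N' 0 p p (add_zero p) := by
  have hι := HomologicalComplex.ι_mapBifunctorMap (𝟙 K)
    ((HomologicalComplex.single (ModuleCat.{u} A) (ComplexShape.up ℤ) 0).map g) (T A)
    (ComplexShape.up ℤ) p 0 p (add_zero p)
  dsimp only [Groth.Agent.Lib.BifSingle.θ]
  rw [Category.assoc, hι, HomologicalComplex.id_f, CategoryTheory.Functor.map_id,
    NatTrans.id_app, Category.id_comp, ← Category.assoc, ← Category.assoc]
  congr 1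
  rw [← CategoryTheory.Functor.map_comp]
  show ((T A).obj (K.X p)).map _ = ((T A).obj (K.X p)).map g ≫ ((T A).obj (K.X p)).map _
  rw [← CategoryTheory.Functor.map_comp]
  congr 1

lemma tensorSingle₀Iso_naturality_N (K : DRing.Cx A) {N N' : ModuleCat.{u} A} (g : N ⟶ N') :
    HomologicalComplex.mapBifunctorMap (𝟙 K)
        ((HomologicalComplex.single (ModuleCat.{u} A) (ComplexShape.up ℤ) 0).map g) (T A)
        (ComplexShape.up ℤ) ≫ (tensorSingle₀Iso K N').hom =
      (tensorSingle₀Iso K N).hom ≫ tnMap g K := by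
  apply HomologicalComplex.hom_ext
  intro p
  rw [HomologicalComplex.comp_f, HomologicalComplex.comp_f, tensorSingle₀Iso_hom_f,
    tensorSingle₀Iso_hom_f]
  have hK : inv (Groth.Agent.Lib.BifSingle.θ (T A) K N 0 p p (add_zero p)) ≫
      Groth.Agent.Lib.BifSingle.θ (T A) K N 0 p p (add_zero p) = 𝟙 _ := IsIso.inv_hom_id _
  have hL : Groth.Agent.Lib.BifSingle.θ (T A) K N' 0 p p (add_zero p) ≫
      inv (Groth.Agent.Lib.BifSingle.θ (T A) K N' 0 p p (add_zero p)) = 𝟙 _ := IsIso.hom_inv_id _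
  exact comm_of_inv (Groth.Agent.Lib.BifSingle.θ (T A) K N 0 p p (add_zero p))
    (Groth.Agent.Lib.BifSingle.θ (T A) K N' 0 p p (add_zero p))
    (inv (Groth.Agent.Lib.BifSingle.θ (T A) K N 0 p p (add_zero p)))
    (inv (Groth.Agent.Lib.BifSingle.θ (T A) K N' 0 p p (add_zero p)))
    _ (K.X p ◁ g) hK hL (θ_naturality_N K g p)

end SingleNatN


section Univ

variable {A : Type u} [CommRing A] [IsNoetherianRing A] (fs : List A)

/-- `A^` as an object of `ModuleCat A` -/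
noncomputable abbrev Bm : ModuleCat.{u} A :=
  ModuleCat.of A (AdicCompletion (Ideal.span {x : A | x ∈ fs}) A)

/-- `A ⟶ A^` -/
noncomputable abbrev ηB : 𝟙_ (ModuleCat.{u} A) ⟶ Bm fs :=
  ModuleCat.ofHom (AdicCompletion.of (Ideal.span {x : A | x ∈ fs}) A)

lemma isDerivedComplete_SgB :
    DRing.IsDerivedComplete (Ideal.span {x : A | x ∈ fs}) (Q.obj (Sg (Bm fs))) := by
  haveI : IsAdicComplete (Ideal.span {x : A | x ∈ fs})
      (AdicCompletion (Ideal.span {x : A | x ∈ fs}) A) :=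
    AdicCompletion.isAdicComplete (span_fg fs)
  exact Groth.Agent.S7048.result (Ideal.span {x : A | x ∈ fs})
    (AdicCompletion (Ideal.span {x : A | x ∈ fs}) A)

lemma tnMap_eq_unitCx (X : DRing.Cx A) :
    tnMap (ηB fs) X = (tnUnitIso X).hom ≫ unitCx (Bm fs) (ηB fs) X := by
  apply HomologicalComplex.hom_ext
  intro p
  rw [HomologicalComplex.comp_f]
  show X.X p ◁ ηB fs = (tnUnitIso X).hom.f p ≫ (ρ_ (X.X p)).inv ≫ X.X p ◁ ηB fs
  have h : (tnUnitIso X).hom.f p = (ρ_ (X.X p)).hom := by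
    simp [tnUnitIso]
    exact Category.comp_id _
  rw [h]
  exact (Iso.hom_inv_id_assoc (ρ_ (X.X p)) (X.X p ◁ ηB fs)).symm

/-- **`X ⟶ X ⊗_A A^` is universal among maps to derived complete objects, for `X` K-flat and
K-projective** -/
theorem bijective_precomp_unitCx (X : DRing.Cx A) (hXkf : KF A X) [X.IsKProjective]
    (E : Dual.D A) (hE : DRing.IsDerivedComplete (Ideal.span {x : A | x ∈ fs}) E) :
    Function.Bijective (fun φ : Q.obj ((TN (Bm fs)).obj X) ⟶ E =>
      Q.map (unitCx (Bm fs) (ηB fs) X) ≫ φ) := by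
  haveI : DRing.HasDerivedCompletion (Ideal.span {x : A | x ∈ fs}) := hasDerivedCompletion_span fs
  haveI : DRing.HasLTensorCx A X := hasLTensorCx_of_kf X hXkf
  have ha := bijective_precomp_LTensorCx_unit (Ideal.span {x : A | x ∈ fs}) X hXkf
    (Q.obj (Sg (ModuleCat.of A A))) E hE
  obtain ⟨θ, hθ⟩ := exists_iso_of_universal (DRing.IsDerivedComplete (Ideal.span {x : A | x ∈ fs}))
    (DRing.derivedCompletionAdj (Ideal.span {x : A | x ∈ fs})) (Q.obj (Sg (ModuleCat.of A A)))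
    (Q.obj (Sg (Bm fs))) (isDerivedComplete_SgB fs) (Q.map (ι₀ fs))
    (fun E' hE' => bijective_precomp_ι₀ fs E' hE')
  have hc : Function.Bijective (fun φ : (DRing.LTensorCx A X).obj (Q.obj (Sg (Bm fs))) ⟶ E =>
      (DRing.LTensorCx A X).map (Q.map (ι₀ fs)) ≫ φ) :=
    bijective_precomp_of_comm _ _ (Iso.refl _) ((DRing.LTensorCx A X).mapIso θ) (by
      rw [Functor.mapIso_hom, ← CategoryTheory.Functor.map_comp, Iso.refl_hom, Category.id_comp]
      congr 1) ha
  haveI : ∀ Y, IsIso ((counitCx A X).app Y) := fun Y => isIso_counit_of_kf_right A X Y hXkf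
  have hd : Function.Bijective
      (fun φ : ((T A).map₂CochainComplex.flip.obj X ⋙ Q).obj (Sg (Bm fs)) ⟶ E =>
      ((T A).map₂CochainComplex.flip.obj X ⋙ Q).map (ι₀ fs) ≫ φ) :=
    bijective_precomp_of_comm _ _ (asIso ((counitCx A X).app _)) (asIso ((counitCx A X).app _))
      ((counitCx A X).naturality (ι₀ fs)) hc
  have he : Function.Bijective (fun φ : Q.obj (HomologicalComplex.mapBifunctor X (Sg (Bm fs))
        (T A) (ComplexShape.up ℤ)) ⟶ E =>
      Q.map (HomologicalComplex.mapBifunctorMap (𝟙 X) (ι₀ fs) (T A) (ComplexShape.up ℤ)) ≫ φ) :=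
    bijective_precomp_of_comm _ _ (Q.mapIso (tensorCxSymm (σ A) _ X))
      (Q.mapIso (tensorCxSymm (σ A) _ X)) (by
        rw [Functor.mapIso_hom, Functor.mapIso_hom, ← CategoryTheory.Functor.map_comp]
        show Q.map (HomologicalComplex.mapBifunctorMap (ι₀ fs) (𝟙 X) (T A) (ComplexShape.up ℤ)) ≫
          Q.map _ = _
        rw [← CategoryTheory.Functor.map_comp, tensorCxSymm_naturality_left (σ A) (ι₀ fs) X]) hd
  have hf : Function.Bijective (fun φ : Q.obj ((TN (Bm fs)).obj X) ⟶ E =>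
      Q.map (tnMap (ηB fs) X) ≫ φ) :=
    bijective_precomp_of_comm _ _ (Q.mapIso (tensorSingle₀Iso X _))
      (Q.mapIso (tensorSingle₀Iso X _)) (by
        rw [Functor.mapIso_hom, Functor.mapIso_hom, ← CategoryTheory.Functor.map_comp,
          ← CategoryTheory.Functor.map_comp]
        congr 1
        exact tensorSingle₀Iso_naturality_N X (ηB fs)) he
  exact bijective_precomp_of_comm _ _ (Q.mapIso (tnUnitIso X)) (Iso.refl _) (by
    rw [Functor.mapIso_hom, Iso.refl_hom, Category.comp_id, ← CategoryTheory.Functor.map_comp,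
      tnMap_eq_unitCx]) hf

end Univ

end Groth.Agent.Lib.AdicDer
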