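import Mathlib
import Groth.Agent.Lib.AdicDer3_helper2
import Groth.Agent.S7050

/-!
# Cohomology of the derived completion over a Noetherian ring (helper2)

`H^n(K^) ≅ (H^n K)^` for `K` with finite cohomology modules.
-/

set_option autoImplicit false
universe v u
open CategoryTheory CategoryTheory.Limits MonoidalCategory DerivedCategory
attribute [local instance] HasDerivedCategory.standard

namespace Groth.Agent.Lib.AdicDer

open Groth.Agent.Lib.KFlatMod Groth.Agent.Lib.DMod_helper6 Groth.Agent.Lib.DerCompl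
  Groth.Agent.Lib.DerNak Groth.Agent.Lib.BifCone CochainComplex Groth.Agent.Lib.DRingLT
  Groth.Agent.Lib.KFlatGen Groth.Agent.Lib.LocHom Groth.Agent.Lib.RHomKInj

section NatHomology

variable {C : Type*} [Category C] [Abelian C] (G : C ⥤ C) [G.Additive] [G.PreservesHomology]
  (τ : 𝟭 C ⟶ G) (S : ShortComplex C)

lemma map_id_homologyIso_hom (hl : S.LeftHomologyData) :
    ((hl.map (𝟭 C)).homologyIso.hom : S.homology ⟶ hl.H) = hl.homologyIso.hom := by
  have h3 : ((hl.map (𝟭 C)).cyclesIso.hom : S.cycles ⟶ hl.K) = hl.cyclesIso.hom := by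
    apply (cancel_mono hl.i).1
    exact ((hl.map (𝟭 C)).cyclesIso_hom_comp_i).trans hl.cyclesIso_hom_comp_i.symm
  apply (cancel_epi S.homologyπ).1
  have h4 : S.homologyπ ≫ ((hl.map (𝟭 C)).homologyIso.hom : S.homology ⟶ hl.H) =
      ((hl.map (𝟭 C)).cyclesIso.hom : S.cycles ⟶ hl.K) ≫ hl.π :=
    (hl.map (𝟭 C)).homologyπ_comp_homologyIso_hom
  rw [h4, h3]
  exact hl.homologyπ_comp_homologyIso_hom.symm

lemma homologyData_left_homologyIso : S.homologyData.left.homologyIso = Iso.refl _ := by
  dsimp only [ShortComplex.LeftHomologyData.homologyIso, ShortComplex.leftHomologyIso]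
  exact Iso.symm_self_id _

/-- the effect on homology of a natural transformation `𝟭 ⟶ G`, `G` exact -/
lemma homologyMap_mapNatTrans_comp :
    ShortComplex.homologyMap (S.mapNatTrans τ) ≫ (S.mapHomologyIso G).hom = τ.app S.homology := by
  rw [ShortComplex.homologyMap_mapNatTrans, Category.assoc, Category.assoc, Iso.inv_hom_id,
    Category.comp_id]
  have h : ((S.mapHomologyIso (𝟭 C)).hom : S.homology ⟶ S.homology) = 𝟙 _ := by
    have h1 := map_id_homologyIso_hom S S.homologyData.left
    rw [homologyData_left_homologyIso] at h1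
    exact h1
  have h' : ((S.mapHomologyIso (𝟭 C)).hom : S.homology ⟶ S.homology) ≫ τ.app S.homology =
      τ.app S.homology := by rw [h]; exact Category.id_comp _
  exact h'

end NatHomology

section Chain

variable {A : Type u} [CommRing A]

/-- `Y ⟶ Y ⊗ B`, `y ↦ y ⊗ η(1)`, as a natural transformation -/
noncomputable def unitNat (B : ModuleCat.{u} A) (η : 𝟙_ (ModuleCat.{u} A) ⟶ B) :
    𝟭 (ModuleCat.{u} A) ⟶ tensorRight B where
  app Y := (ρ_ Y).inv ≫ Y ◁ η
  naturality Y Y' f := by
    show f ≫ (ρ_ Y').inv ≫ Y' ◁ η = ((ρ_ Y).inv ≫ Y ◁ η) ≫ f ▷ B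
    rw [Category.assoc, whisker_exchange, ← Category.assoc, ← Category.assoc,
      rightUnitor_inv_naturality]

lemma homologyMap_unitCx (B : ModuleCat.{u} A) [Module.Flat A B]
    (η : 𝟙_ (ModuleCat.{u} A) ⟶ B) (X : DRing.Cx A) (n : ℤ) :
    HomologicalComplex.homologyMap (unitCx B η X) n ≫
      ((X.sc n).mapHomologyIso (tensorRight B)).hom =
    (ρ_ (X.homology n)).inv ≫ X.homology n ◁ η :=
  homologyMap_mapNatTrans_comp (tensorRight B) (unitNat B η) (X.sc n)

end Chain


section ChainIso

open TensorProduct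

variable {A : Type u} [CommRing A] [IsNoetherianRing A] (I : Ideal A)

/-- chain level: the cohomology of `X ⊗_A A^` is the completion of the cohomology of `X` -/
theorem exists_homology_TN_equiv (X : DRing.Cx A) (n : ℤ) [Module.Finite A (X.homology n)] :
    ∃ e : ((TN (ModuleCat.of A (AdicCompletion I A))).obj X).homology n ≃ₗ[A]
        AdicCompletion I (X.homology n),
      ∀ y : X.homology n, e ((HomologicalComplex.homologyMap
        (unitCx (ModuleCat.of A (AdicCompletion I A))
          (ModuleCat.ofHom (AdicCompletion.of I A)) X) n).hom y) =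
        AdicCompletion.of I (X.homology n) y := by
  haveI : Module.Flat A (ModuleCat.of A (AdicCompletion I A)) :=
    (inferInstance : Module.Flat A (AdicCompletion I A))
  let L1 : ((TN (ModuleCat.of A (AdicCompletion I A))).obj X).homology n ≃ₗ[A]
      (X.homology n ⊗[A] AdicCompletion I A) :=
    ((X.sc n).mapHomologyIso (tensorRight (ModuleCat.of A (AdicCompletion I A)))).toLinearEquiv
  let L2 := TensorProduct.comm A (X.homology n) (AdicCompletion I A)
  let L3 := (AdicCompletion.ofTensorProductEquivOfFiniteNoetherian I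
    (X.homology n)).restrictScalars A
  refine ⟨L1 ≪≫ₗ L2 ≪≫ₗ L3, fun y => ?_⟩
  have h1 := congrArg (fun t => t.hom y) (homologyMap_unitCx (ModuleCat.of A (AdicCompletion I A))
    (ModuleCat.ofHom (AdicCompletion.of I A)) X n)
  have h2 : L1 ((HomologicalComplex.homologyMap
        (unitCx (ModuleCat.of A (AdicCompletion I A))
          (ModuleCat.ofHom (AdicCompletion.of I A)) X) n).hom y) =
      y ⊗ₜ[A] (AdicCompletion.of I A 1) := h1
  show L3 (L2 (L1 _)) = _
  rw [h2]
  show AdicCompletion.ofTensorProduct I _ ((AdicCompletion.of I A 1) ⊗ₜ y) = _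
  rw [AdicCompletion.ofTensorProduct_tmul]
  have h3 : AdicCompletion.of I A 1 = 1 := by
    rw [← map_one (algebraMap A (AdicCompletion I A)), AdicCompletion.algebraMap_apply]
    simp
  rw [h3, one_smul]

end ChainIso


section Final

variable {A : Type u} [CommRing A] [IsNoetherianRing A]

lemma isDerivedComplete_inD_of_linearEquiv (I : Ideal A) {M N : Type u} [AddCommGroup M]
    [Module A M] [AddCommGroup N] [Module A N] (e : M ≃ₗ[A] N)
    (h : DRing.IsDerivedComplete I (Dual.inD A M)) : DRing.IsDerivedComplete I (Dual.inD A N) :=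
  isDerivedComplete_of_iso I
    ((DerivedCategory.singleFunctor (ModuleCat.{u} A) 0).mapIso e.toModuleIso) h

theorem homology_completion_list (fs : List A)
    [DRing.HasDerivedCompletion (Ideal.span {x : A | x ∈ fs})] (K : Dual.D A)
    (hK : ∀ n : ℤ, Module.Finite A (Dual.HD A K n)) (n : ℤ) :
    ∃ e : Dual.HD A ((DRing.derivedCompletion (Ideal.span {x : A | x ∈ fs})).obj K).obj n ≃ₗ[A]
        AdicCompletion (Ideal.span {x : A | x ∈ fs}) (Dual.HD A K n),
      ∀ x : Dual.HD A K n,
        e (((DerivedCategory.homologyFunctor (ModuleCat.{u} A) n).map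
          (DRing.toDerivedCompletion (Ideal.span {x : A | x ∈ fs}) K)).hom x) =
          AdicCompletion.of (Ideal.span {x : A | x ∈ fs}) (Dual.HD A K n) x := by
  obtain ⟨X, p, hp, hXp, hXkf, -⟩ :=
    Groth.Agent.Lib.KProjRes.exists_kproj_resolution (Q.objPreimage K)
  haveI := hp
  haveI := hXp
  haveI : IsIso (Q.map p) := (isIso_Q_map_iff_quasiIso (C := ModuleCat.{u} A) p).2 inferInstance
  let eX : Q.obj X ≅ K := asIso (Q.map p) ≪≫ Q.objObjPreimageIso K
  -- comparison of cohomology modules
  let hX : ∀ m : ℤ, X.homology m ≃ₗ[A] Dual.HD A K m := fun m =>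
    (((DerivedCategory.homologyFunctorFactors (ModuleCat.{u} A) m).app X).symm ≪≫
      (DerivedCategory.homologyFunctor (ModuleCat.{u} A) m).mapIso eX).toLinearEquiv
  haveI hfin : ∀ m : ℤ, Module.Finite A (X.homology m) := fun m =>
    haveI := hK m
    Module.Finite.equiv (hX m).symm
  -- the candidate completion
  have hW : DRing.IsDerivedComplete (Ideal.span {x : A | x ∈ fs})
      (Q.obj ((TN (Bm fs)).obj X)) := by
    rw [Groth.Agent.S7050.result]
    intro i
    obtain ⟨e1, -⟩ := exists_homology_TN_equiv (Ideal.span {x : A | x ∈ fs}) X i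
    haveI : IsAdicComplete (Ideal.span {x : A | x ∈ fs})
        (AdicCompletion (Ideal.span {x : A | x ∈ fs}) (X.homology i)) :=
      AdicCompletion.isAdicComplete (span_fg fs)
    have h1 := Groth.Agent.S7048.result (Ideal.span {x : A | x ∈ fs})
      (AdicCompletion (Ideal.span {x : A | x ∈ fs}) (X.homology i))
    exact isDerivedComplete_inD_of_linearEquiv _
      (((DerivedCategory.homologyFunctorFactors (ModuleCat.{u} A) i).app
        ((TN (Bm fs)).obj X)).toLinearEquiv ≪≫ₗ e1).symm h1
  have huniv : ∀ E : Dual.D A, DRing.IsDerivedComplete (Ideal.span {x : A | x ∈ fs}) E →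
      Function.Bijective (fun a : Q.obj ((TN (Bm fs)).obj X) ⟶ E =>
        (eX.inv ≫ Q.map (unitCx (Bm fs) (ηB fs) X)) ≫ a) := fun E hE =>
    bijective_precomp_of_comm (Q.map (unitCx (Bm fs) (ηB fs) X)) _ eX (Iso.refl _) (by
      rw [Iso.refl_hom, Category.comp_id, Iso.hom_inv_id_assoc])
      (bijective_precomp_unitCx fs X hXkf E hE)
  obtain ⟨κ, hκ⟩ := exists_iso_of_universal
    (DRing.IsDerivedComplete (Ideal.span {x : A | x ∈ fs}))
    (DRing.derivedCompletionAdj (Ideal.span {x : A | x ∈ fs})) K
    (Q.obj ((TN (Bm fs)).obj X)) hW (eX.inv ≫ Q.map (unitCx (Bm fs) (ηB fs) X)) huniv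
  obtain ⟨e1, he1⟩ := exists_homology_TN_equiv (Ideal.span {x : A | x ∈ fs}) X n
  refine ⟨((DerivedCategory.homologyFunctor (ModuleCat.{u} A) n).mapIso κ).toLinearEquiv ≪≫ₗ
    ((DerivedCategory.homologyFunctorFactors (ModuleCat.{u} A) n).app
      ((TN (Bm fs)).obj X)).toLinearEquiv ≪≫ₗ e1 ≪≫ₗ
    (AdicCompletion.congr (Ideal.span {x : A | x ∈ fs}) (hX n)).restrictScalars A, fun x => ?_⟩
  have hκ' : DRing.toDerivedCompletion (Ideal.span {x : A | x ∈ fs}) K ≫ κ.hom =
      eX.inv ≫ Q.map (unitCx (Bm fs) (ηB fs) X) := hκ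
  have hnat := (DerivedCategory.homologyFunctorFactors (ModuleCat.{u} A) n).hom.naturality
    (unitCx (Bm fs) (ηB fs) X)
  -- the element of `H^n(X)` corresponding to `x`
  let y : X.homology n := ((DerivedCategory.homologyFunctorFactors (ModuleCat.{u} A) n).app X).hom.hom
    (((DerivedCategory.homologyFunctor (ModuleCat.{u} A) n).map eX.inv).hom x)
  have hy : hX n y = x := by
    show ((DerivedCategory.homologyFunctor (ModuleCat.{u} A) n).map eX.hom).hom
      (((DerivedCategory.homologyFunctorFactors (ModuleCat.{u} A) n).app X).inv.hom y) = x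
    have h1 : ((DerivedCategory.homologyFunctorFactors (ModuleCat.{u} A) n).app X).inv.hom y =
        ((DerivedCategory.homologyFunctor (ModuleCat.{u} A) n).map eX.inv).hom x := by
      show ((DerivedCategory.homologyFunctorFactors (ModuleCat.{u} A) n).app X).inv.hom
        (((DerivedCategory.homologyFunctorFactors (ModuleCat.{u} A) n).app X).hom.hom _) = _
      rw [← ModuleCat.comp_apply, Iso.hom_inv_id]
      rfl
    rw [h1, ← ModuleCat.comp_apply, ← CategoryTheory.Functor.map_comp, Iso.inv_hom_id,
      CategoryTheory.Functor.map_id]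
    rfl
  have hmor : (DerivedCategory.homologyFunctor (ModuleCat.{u} A) n).map
        (DRing.toDerivedCompletion (Ideal.span {x : A | x ∈ fs}) K) ≫
      (DerivedCategory.homologyFunctor (ModuleCat.{u} A) n).map κ.hom ≫
      ((DerivedCategory.homologyFunctorFactors (ModuleCat.{u} A) n).app
        ((TN (Bm fs)).obj X)).hom =
      (DerivedCategory.homologyFunctor (ModuleCat.{u} A) n).map eX.inv ≫
      ((DerivedCategory.homologyFunctorFactors (ModuleCat.{u} A) n).app X).hom ≫
      HomologicalComplex.homologyMap (unitCx (Bm fs) (ηB fs) X) n := by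
    rw [← Category.assoc, ← CategoryTheory.Functor.map_comp, hκ',
      CategoryTheory.Functor.map_comp, Category.assoc]
    congr 1
  have harg : ((DerivedCategory.homologyFunctorFactors (ModuleCat.{u} A) n).app
      ((TN (Bm fs)).obj X)).hom.hom
      (((DerivedCategory.homologyFunctor (ModuleCat.{u} A) n).map κ.hom).hom
        (((DerivedCategory.homologyFunctor (ModuleCat.{u} A) n).map
          (DRing.toDerivedCompletion (Ideal.span {x : A | x ∈ fs}) K)).hom x)) =
      (HomologicalComplex.homologyMap (unitCx (Bm fs) (ηB fs) X) n).hom y :=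
    congrArg (fun t => t.hom x) hmor
  have hfinal := (congrArg e1 harg).trans (he1 y)
  refine (congrArg (fun t => (AdicCompletion.congr (Ideal.span {x : A | x ∈ fs}) (hX n)) t)
    hfinal).trans ?_
  show (AdicCompletion.congr (Ideal.span {x : A | x ∈ fs}) (hX n))
    (AdicCompletion.of _ _ y) = _
  rw [AdicCompletion.congr_apply, AdicCompletion.map_of]
  exact congrArg (AdicCompletion.of _ _) hy

/-- **`H^n(K^) ≅ (H^n K)^` for `K` with finite cohomology over a Noetherian ring** -/
theorem homology_completion (I : Ideal A) [DRing.HasDerivedCompletion I] (K : Dual.D A)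
    (hK : ∀ n : ℤ, Module.Finite A (Dual.HD A K n)) (n : ℤ) :
    ∃ e : Dual.HD A ((DRing.derivedCompletion I).obj K).obj n ≃ₗ[A]
        AdicCompletion I (Dual.HD A K n),
      ∀ x : Dual.HD A K n,
        e (((DerivedCategory.homologyFunctor (ModuleCat.{u} A) n).map
          (DRing.toDerivedCompletion I K)).hom x) = AdicCompletion.of I (Dual.HD A K n) x := by
  obtain ⟨s, hs⟩ := (isNoetherianRing_iff_ideal_fg A).1 inferInstance I
  have hI' : I = Ideal.span {x : A | x ∈ s.toList} := by
    rw [← hs]
    congr 1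
    ext x
    simp
  subst hI'
  exact homology_completion_list s.toList K hK n

end Final

end Groth.Agent.Lib.AdicDer
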