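import Mathlib
import Groth.Prelude.Def_CAlgX

/-!
# Adic formal smoothness is insensitive to a formally étale change of base ring (helper3)
-/

set_option autoImplicit false
set_option maxSynthPendingDepth 3

namespace Groth.Agent.Lib.AdicFEtH3

universe u

variable {k k' T : Type u} [CommRing k] [CommRing k'] [CommRing T] [Algebra k k'] [Algebra k' T]
  [Algebra k T] [IsScalarTower k k' T]

/-- formally unramified base: a lift over `k` is automatically `k'`-linear. -/
theorem adic_of_formallyUnramified [Algebra.FormallyUnramified k k'] (𝔫 : Ideal T)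
    (h : CAlgX.IsAdicFormallySmooth k T 𝔫) : CAlgX.IsAdicFormallySmooth k' T 𝔫 := by
  intro C _ _ J hJ ψ hψ
  letI : Algebra k C := Algebra.compHom C (algebraMap k k')
  haveI : IsScalarTower k k' C := IsScalarTower.of_algebraMap_eq (fun _ => rfl)
  obtain ⟨χ, hχ⟩ := h C J hJ (ψ.restrictScalars k) hψ
  have hχ' : ∀ t, Ideal.Quotient.mk J (χ t) = ψ t := fun t => AlgHom.congr_fun hχ t
  -- two `k`-algebra maps `k' → C`
  have heq : χ.comp (IsScalarTower.toAlgHom k k' T) = IsScalarTower.toAlgHom k k' C := by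
    apply Algebra.FormallyUnramified.ext J ⟨2, hJ⟩
    intro x
    show Ideal.Quotient.mk J (χ (algebraMap k' T x)) = Ideal.Quotient.mk J (algebraMap k' C x)
    rw [hχ', AlgHom.commutes]
    rfl
  refine ⟨{ χ.toRingHom with
    commutes' := fun x => AlgHom.congr_fun heq x }, ?_⟩
  ext t
  exact hχ' t

/-- formally smooth base: make the test ring a `k'`-algebra first. -/
theorem adic_of_formallySmooth_base [Algebra.FormallySmooth k k'] (𝔫 : Ideal T)
    (h : CAlgX.IsAdicFormallySmooth k' T 𝔫) : CAlgX.IsAdicFormallySmooth k T 𝔫 := by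
  intro C _ _ J hJ ψ hψ
  let g : k' →ₐ[k] C := Algebra.FormallySmooth.lift J ⟨2, hJ⟩
    (ψ.comp (IsScalarTower.toAlgHom k k' T))
  have hg : ∀ x, Ideal.Quotient.mk J (g x) = ψ (algebraMap k' T x) := fun x =>
    Algebra.FormallySmooth.mk_lift J ⟨2, hJ⟩ (ψ.comp (IsScalarTower.toAlgHom k k' T)) x
  letI : Algebra k' C := g.toRingHom.toAlgebra
  haveI : IsScalarTower k k' C := IsScalarTower.of_algebraMap_eq (fun x => (g.commutes x).symm)
  let ψ' : T →ₐ[k'] C ⧸ J :=
    { ψ.toRingHom with
      commutes' := fun x => by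
        show ψ (algebraMap k' T x) = Ideal.Quotient.mk J (g x)
        rw [hg] }
  obtain ⟨χ, hχ⟩ := h C J hJ ψ' hψ
  refine ⟨χ.restrictScalars k, ?_⟩
  ext t
  exact AlgHom.congr_fun hχ t

theorem adic_iff_of_formallyEtale [Algebra.FormallyEtale k k'] (𝔫 : Ideal T) :
    CAlgX.IsAdicFormallySmooth k T 𝔫 ↔ CAlgX.IsAdicFormallySmooth k' T 𝔫 :=
  ⟨adic_of_formallyUnramified 𝔫, adic_of_formallySmooth_base 𝔫⟩

end Groth.Agent.Lib.AdicFEtH3
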