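import Mathlib

/-! Symmetric powers: universal property, functoriality, comparison with polynomials (helper1). -/

set_option autoImplicit false
set_option maxHeartbeats 1000000

universe u v w

open TensorProduct

namespace Groth.Agent.Lib.SymPowH1

section Basic

variable {R ι : Type u} [CommRing R] {M : Type v} [AddCommMonoid M] [Module R M]
  {N : Type w} [AddCommMonoid N] [Module R N]

theorem hom_ext {f g : Sym[R] ι M →ₗ[R] N}
    (h : ∀ m : ι → M, f (SymmetricPower.tprod R m) = g (SymmetricPower.tprod R m)) : f = g := by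
  apply LinearMap.ext_on (SymmetricPower.span_tprod_eq_top R ι M)
  rintro _ ⟨m, rfl⟩
  exact h m

theorem mk_surjective : Function.Surjective (SymmetricPower.mk R ι M) :=
  LinearMap.range_eq_top.mp (SymmetricPower.range_mk R ι M)

/-- additive version of the lift -/
noncomputable def liftAdd (f : MultilinearMap R (fun _ : ι => M) N)
    (hf : ∀ (e : Equiv.Perm ι) (m : ι → M), f (fun i => m (e i)) = f m) :
    Sym[R] ι M →+ N :=
  AddCon.lift _ (PiTensorProduct.lift f).toAddMonoidHom (by
    rw [AddCon.addConGen_le]
    intro x y h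
    cases h with
    | perm e m =>
      rw [AddCon.ker_rel, LinearMap.toAddMonoidHom_coe, PiTensorProduct.lift.tprod,
        PiTensorProduct.lift.tprod]
      exact (hf e m).symm)

theorem liftAdd_mk (f : MultilinearMap R (fun _ : ι => M) N)
    (hf : ∀ (e : Equiv.Perm ι) (m : ι → M), f (fun i => m (e i)) = f m) (t : ⨂[R] _ : ι, M) :
    liftAdd f hf (SymmetricPower.mk R ι M t) = PiTensorProduct.lift f t := rfl

/-- The universal property of the symmetric power. -/
noncomputable def lift (f : MultilinearMap R (fun _ : ι => M) N)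
    (hf : ∀ (e : Equiv.Perm ι) (m : ι → M), f (fun i => m (e i)) = f m) :
    Sym[R] ι M →ₗ[R] N where
  toFun := liftAdd f hf
  map_add' x y := map_add _ x y
  map_smul' r x := by
    obtain ⟨t, rfl⟩ := mk_surjective x
    rw [← map_smul, liftAdd_mk, liftAdd_mk, map_smul, RingHom.id_apply]

@[simp]
theorem lift_tprod (f : MultilinearMap R (fun _ : ι => M) N)
    (hf : ∀ (e : Equiv.Perm ι) (m : ι → M), f (fun i => m (e i)) = f m) (m : ι → M) :
    lift f hf (SymmetricPower.tprod R m) = f m := by
  show liftAdd f hf (SymmetricPower.mk R ι M (PiTensorProduct.tprod R m)) = f m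
  rw [liftAdd_mk, PiTensorProduct.lift.tprod]

/-- functoriality -/
noncomputable def map (r : M →ₗ[R] N) : Sym[R] ι M →ₗ[R] Sym[R] ι N :=
  lift ((SymmetricPower.tprod R).compLinearMap (fun _ => r)) (by
    intro e m
    simp only [MultilinearMap.compLinearMap_apply]
    exact SymmetricPower.tprod_equiv e (fun i => r (m i)))

@[simp]
theorem map_tprod (r : M →ₗ[R] N) (m : ι → M) :
    map r (SymmetricPower.tprod R m) = SymmetricPower.tprod R (fun i => r (m i)) := by
  rw [map, lift_tprod]
  rfl

/-- products in a commutative algebra -/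
noncomputable def prodMap [Fintype ι] {S : Type w} [CommRing S] [Algebra R S] (j : M →ₗ[R] S) :
    Sym[R] ι M →ₗ[R] S :=
  lift ((MultilinearMap.mkPiAlgebra R ι S).compLinearMap (fun _ => j)) (by
    intro e m
    simp only [MultilinearMap.compLinearMap_apply, MultilinearMap.mkPiAlgebra_apply]
    exact Equiv.prod_comp e (fun i => j (m i)))

@[simp]
theorem prodMap_tprod [Fintype ι] {S : Type w} [CommRing S] [Algebra R S] (j : M →ₗ[R] S)
    (m : ι → M) : prodMap j (SymmetricPower.tprod R m) = ∏ i, j (m i) := by
  rw [prodMap, lift_tprod]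
  rfl

end Basic

section Free

variable {R ι : Type u} [CommRing R] [Fintype ι] (X : Type u)

/-- linear forms -/
noncomputable def lin : (X →₀ R) →ₗ[R] MvPolynomial X R :=
  Finsupp.linearCombination R (MvPolynomial.X : X → MvPolynomial X R)

theorem lin_single (x : X) : lin (R := R) X (Finsupp.single x 1) = MvPolynomial.X x := by
  rw [lin, Finsupp.linearCombination_single, one_smul]

theorem exists_enum_fin : ∀ (n : ℕ) (α : X →₀ ℕ), α.degree = n →
    ∃ y : Fin n → X, ∑ j, Finsupp.single (y j) 1 = α := by
  intro n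
  induction n with
  | zero =>
    intro α h
    refine ⟨Fin.elim0, ?_⟩
    rw [Finsupp.degree_eq_zero_iff] at h
    simp [h]
  | succ n ih =>
    intro α h
    have hne : α ≠ 0 := by
      rintro rfl
      simp at h
    obtain ⟨x, hx⟩ := Finsupp.support_nonempty_iff.mpr hne
    have hx1 : 1 ≤ α x := Nat.one_le_iff_ne_zero.mpr (Finsupp.mem_support_iff.mp hx)
    have hle : Finsupp.single x 1 ≤ α := Finsupp.single_le_iff.mpr hx1
    have h1 : (α - Finsupp.single x 1) + Finsupp.single x 1 = α := tsub_add_cancel_of_le hle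
    obtain ⟨y', hy'⟩ := ih (α - Finsupp.single x 1) (by
      have h2 := congrArg Finsupp.degree h1
      rw [map_add, Finsupp.degree_single, h] at h2
      omega)
    refine ⟨Fin.cons x y', ?_⟩
    rw [Fin.sum_univ_succ, Fin.cons_zero]
    simp only [Fin.cons_succ]
    rw [hy', add_comm]
    exact h1

theorem exists_enum (α : X →₀ ℕ) (h : α.degree = Fintype.card ι) :
    ∃ y : ι → X, ∑ i, Finsupp.single (y i) 1 = α := by
  obtain ⟨y, hy⟩ := exists_enum_fin X (Fintype.card ι) α h
  refine ⟨fun i => y (Fintype.equivFin ι i), ?_⟩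
  rw [← hy]
  exact Equiv.sum_comp (Fintype.equivFin ι) (fun j => Finsupp.single (y j) 1)

theorem exists_perm_of_sum_single_eq (x y : ι → X)
    (h : ∑ i, Finsupp.single (x i) (1 : ℕ) = ∑ i, Finsupp.single (y i) 1) :
    ∃ σ : Equiv.Perm ι, ∀ i, y (σ i) = x i := by
  classical
  have hc : ∀ c : X, Fintype.card {i // x i = c} = Fintype.card {i // y i = c} := by
    intro c
    have h1 := DFunLike.congr_fun h c
    rw [Finsupp.finset_sum_apply, Finsupp.finset_sum_apply] at h1
    simp only [Finsupp.single_apply, Finset.sum_boole, Nat.cast_id] at h1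
    rw [Fintype.card_subtype, Fintype.card_subtype]
    exact h1
  exact ⟨Equiv.ofFiberEquiv (fun c => Fintype.equivOfCardEq (hc c)),
    fun i => Equiv.ofFiberEquiv_map _ i⟩

/-- a chosen enumeration of a multi-index of the right degree -/
noncomputable def enum (α : X →₀ ℕ) (h : α.degree = Fintype.card ι) : ι → X :=
  Classical.choose (exists_enum (ι := ι) X α h)

theorem enum_spec (α : X →₀ ℕ) (h : α.degree = Fintype.card ι) :
    ∑ i, Finsupp.single (enum (ι := ι) X α h i) 1 = α :=
  Classical.choose_spec (exists_enum (ι := ι) X α h)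

open Classical in
/-- the value of the retraction on a monomial -/
noncomputable def lamFun (α : X →₀ ℕ) : Sym[R] ι (X →₀ R) :=
  if h : α.degree = Fintype.card ι then
    SymmetricPower.tprod R (fun i => Finsupp.single (enum (ι := ι) X α h i) (1 : R)) else 0

/-- the retraction from polynomials to the symmetric power of the free module -/
noncomputable def lam : MvPolynomial X R →ₗ[R] Sym[R] ι (X →₀ R) :=
  (MvPolynomial.basisMonomials X R).constr R (lamFun (R := R) (ι := ι) X)

theorem lam_monomial (α : X →₀ ℕ) (c : R) :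
    lam (ι := ι) X (MvPolynomial.monomial α c) = c • lamFun (R := R) (ι := ι) X α := by
  have : MvPolynomial.monomial α c = c • (MvPolynomial.basisMonomials X R α) := by
    rw [MvPolynomial.coe_basisMonomials, MvPolynomial.smul_monomial, smul_eq_mul, mul_one]
  rw [this, map_smul, lam, Module.Basis.constr_basis]

theorem lam_eq_zero_of_mem (p : MvPolynomial X R)
    (hp : p ∈ MvPolynomial.idealOfVars X R ^ (Fintype.card ι + 1)) : lam (ι := ι) X p = 0 := by
  rw [MvPolynomial.mem_pow_idealOfVars_iff'] at hp
  rw [← MvPolynomial.support_sum_monomial_coeff p, map_sum]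
  apply Finset.sum_eq_zero
  intro v hv
  rw [lam_monomial]
  have hne : ¬ (v.degree = Fintype.card ι) := by
    intro hd
    exact (MvPolynomial.mem_support_iff.mp hv) (hp v (by rw [hd]; exact Nat.lt_succ_self _))
  rw [lamFun, dif_neg hne, smul_zero]

theorem lam_prodMap_lin :
    (lam (R := R) (ι := ι) X) ∘ₗ (prodMap (lin X)) = LinearMap.id := by
  apply hom_ext
  intro f
  have key : ((lam (R := R) (ι := ι) X) ∘ₗ (prodMap (lin X))).compMultilinearMap
      (SymmetricPower.tprod R) = SymmetricPower.tprod R := by
    apply Module.Basis.ext_multilinear (fun _ => Finsupp.basisSingleOne)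
    intro v
    simp only [LinearMap.compMultilinearMap_apply, LinearMap.comp_apply, prodMap_tprod,
      Finsupp.coe_basisSingleOne, lin_single]
    have h1 : ∏ i, (MvPolynomial.X (v i) : MvPolynomial X R) =
        MvPolynomial.monomial (∑ i, Finsupp.single (v i) 1) 1 := by
      rw [MvPolynomial.monomial_sum_one]
      rfl
    rw [h1, lam_monomial, one_smul]
    have hd : (∑ i, Finsupp.single (v i) 1 : X →₀ ℕ).degree = Fintype.card ι := by
      rw [map_sum]
      simp [Finsupp.degree_single]
    rw [lamFun, dif_pos hd]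
    obtain ⟨σ, hσ⟩ := exists_perm_of_sum_single_eq X v (enum X _ hd) ((enum_spec X _ hd).symm)
    rw [← SymmetricPower.tprod_equiv σ]
    congr 1
    funext i
    rw [hσ i]
  have h2 := congrArg (fun F => F f) key
  simpa using h2

end Free

section Proj

variable {R ι : Type u} [CommRing R] [Fintype ι] {M : Type u} [AddCommGroup M] [Module R M]

variable (R M) in
/-- the augmentation ideal of the symmetric algebra -/
noncomputable def aug : Ideal (SymmetricAlgebra R M) :=
  RingHom.ker (SymmetricAlgebra.algebraMapInv : SymmetricAlgebra R M →ₐ[R] R)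

theorem ι_mem_aug (m : M) : SymmetricAlgebra.ι R M m ∈ aug R M := by
  rw [aug, RingHom.mem_ker]
  exact SymmetricAlgebra.algebraMapInv_ι m

/-- the canonical map to the symmetric algebra -/
noncomputable def toSymAlg : Sym[R] ι M →ₗ[R] SymmetricAlgebra R M :=
  prodMap (SymmetricAlgebra.ι R M)

@[simp]
theorem toSymAlg_tprod (m : ι → M) :
    toSymAlg (SymmetricPower.tprod R m) = ∏ i, SymmetricAlgebra.ι R M (m i) :=
  prodMap_tprod _ m

theorem eq_zero_of_toSymAlg_mem [Module.Projective R M] (u : Sym[R] ι M)
    (hu : toSymAlg u ∈ aug R M ^ (Fintype.card ι + 1)) : u = 0 := by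
  obtain ⟨s, hs⟩ := (Module.projective_def'.mp (inferInstance : Module.Projective R M))
  let g : SymmetricAlgebra R M →ₐ[R] MvPolynomial M R := SymmetricAlgebra.lift ((lin M) ∘ₗ s)
  have hgι : ∀ m : M, g (SymmetricAlgebra.ι R M m) = lin M (s m) := fun m => by
    simp only [g, SymmetricAlgebra.lift_ι_apply, LinearMap.comp_apply]
  have hlin0 : ∀ f : M →₀ R, MvPolynomial.aeval (fun _ : M => (0 : R)) (lin (R := R) M f) = 0 := by
    intro f
    rw [lin, Finsupp.linearCombination_apply, Finsupp.sum, map_sum]
    apply Finset.sum_eq_zero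
    intro x _
    rw [map_smul, MvPolynomial.aeval_X, smul_zero]
  have hc : (MvPolynomial.aeval (fun _ : M => (0 : R))).comp g =
      (SymmetricAlgebra.algebraMapInv : SymmetricAlgebra R M →ₐ[R] R) := by
    apply SymmetricAlgebra.algHom_ext
    ext m
    show MvPolynomial.aeval (fun _ : M => (0 : R)) (g (SymmetricAlgebra.ι R M m)) =
      SymmetricAlgebra.algebraMapInv (SymmetricAlgebra.ι R M m)
    rw [hgι, hlin0, SymmetricAlgebra.algebraMapInv_ι]
  have hg : aug R M ≤ (MvPolynomial.idealOfVars M R).comap g := by
    intro a ha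
    rw [Ideal.mem_comap]
    have h1 : MvPolynomial.aeval (fun _ : M => (0 : R)) (g a) = 0 := by
      have := AlgHom.congr_fun hc a
      rw [AlgHom.comp_apply] at this
      rw [this]
      exact ha
    rw [MvPolynomial.aeval_zero'] at h1
    have h2 : MvPolynomial.constantCoeff (g a) = 0 := h1
    have h3 := (MvPolynomial.mem_pow_idealOfVars_iff' (σ := M) (R := R) 1 (g a)).mpr (by
      intro x hx
      have hx0 : x = 0 := by
        rw [← Finsupp.degree_eq_zero_iff]
        omega
      rw [hx0]
      rw [MvPolynomial.constantCoeff_eq] at h2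
      exact h2)
    rwa [pow_one] at h3
  have hgpow : g (toSymAlg u) ∈ MvPolynomial.idealOfVars M R ^ (Fintype.card ι + 1) := by
    have h1 : (aug R M ^ (Fintype.card ι + 1)).map g ≤
        MvPolynomial.idealOfVars M R ^ (Fintype.card ι + 1) := by
      rw [Ideal.map_pow]
      exact Ideal.pow_right_mono (Ideal.map_le_iff_le_comap.mpr hg) _
    exact h1 (Ideal.mem_map_of_mem g hu)
  have h0 := lam_eq_zero_of_mem (ι := ι) M _ hgpow
  have hE : (map (Finsupp.linearCombination R (id : M → M))) ∘ₗ (lam (R := R) (ι := ι) M) ∘ₗ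
      g.toLinearMap ∘ₗ (toSymAlg (R := R) (ι := ι) (M := M)) = LinearMap.id := by
    apply hom_ext
    intro m
    simp only [LinearMap.comp_apply, toSymAlg_tprod, AlgHom.toLinearMap_apply, map_prod,
      LinearMap.id_apply, hgι]
    rw [← prodMap_tprod (lin M) (fun i => s (m i))]
    have h2 := LinearMap.congr_fun (lam_prodMap_lin (R := R) (ι := ι) M)
      (SymmetricPower.tprod R fun i => s (m i))
    rw [LinearMap.comp_apply, LinearMap.id_apply] at h2
    rw [h2, map_tprod]
    congr 1
    funext i
    exact LinearMap.congr_fun hs (m i)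
  have h3 := LinearMap.congr_fun hE u
  simp only [LinearMap.comp_apply, AlgHom.toLinearMap_apply, LinearMap.id_apply] at h3
  rw [← h3, h0, map_zero]

end Proj

end Groth.Agent.Lib.SymPowH1
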