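import Mathlib
import Groth.Prelude.Def_PP16
import Groth.Agent.Lib.SymPow_helper1

/-! Formally smooth algebras are differentially smooth (helper1). -/

set_option autoImplicit false
set_option maxHeartbeats 1000000

universe u

open TensorProduct

namespace Groth.Agent.Lib.PP16SmoothH1

open Groth.Agent.Lib.SymPowH1

section Gen

/-- product congruence modulo powers of an ideal -/
theorem prod_sub_prod_mem {R : Type*} [CommRing R] (J : Ideal R) {κ : Type*} (s : Finset κ)
    (x x' : κ → R) (hx : ∀ i ∈ s, x i ∈ J) (hx' : ∀ i ∈ s, x' i ∈ J)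
    (h : ∀ i ∈ s, x i - x' i ∈ J ^ 2) :
    ∏ i ∈ s, x i - ∏ i ∈ s, x' i ∈ J ^ (s.card + 1) := by
  classical
  induction s using Finset.induction_on with
  | empty => simp
  | insert a s ha ih =>
    rw [Finset.prod_insert ha, Finset.prod_insert ha, Finset.card_insert_of_notMem ha]
    have e : x a * ∏ i ∈ s, x i - x' a * ∏ i ∈ s, x' i =
        (x a - x' a) * ∏ i ∈ s, x i + x' a * (∏ i ∈ s, x i - ∏ i ∈ s, x' i) := by ring
    rw [e]
    have h1 : ∏ i ∈ s, x i ∈ J ^ s.card := by
      have := Ideal.prod_mem_prod (s := s) (I := fun _ => J) (x := x)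
        (fun i hi => hx i (Finset.mem_insert_of_mem hi))
      rwa [Finset.prod_const] at this
    have h2 := ih (fun i hi => hx i (Finset.mem_insert_of_mem hi))
      (fun i hi => hx' i (Finset.mem_insert_of_mem hi))
      (fun i hi => h i (Finset.mem_insert_of_mem hi))
    refine Ideal.add_mem _ ?_ ?_
    · rw [show s.card + 1 + 1 = 2 + s.card by omega, pow_add]
      exact Ideal.mul_mem_mul (h a (Finset.mem_insert_self a s)) h1
    · rw [pow_succ' J (s.card + 1)]
      exact Ideal.mul_mem_mul (hx' a (Finset.mem_insert_self a s)) h2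

end Gen

section Main

variable (A B : Type u) [CommRing A] [CommRing B] [Algebra A B]

/-- `ζ b = 1 ⊗ b - b ⊗ 1` as an element of the diagonal ideal -/
noncomputable def zeta (b : B) : KaehlerDifferential.ideal A B :=
  ⟨(1 : B) ⊗ₜ[A] b - b ⊗ₜ[A] (1 : B), KaehlerDifferential.one_smul_sub_smul_one_mem_ideal A b⟩

theorem fromIdeal_zeta (b : B) :
    KaehlerDifferential.fromIdeal A B (zeta A B b) = KaehlerDifferential.D A B b := rfl

theorem fromIdeal_eq_iff (x y : KaehlerDifferential.ideal A B) :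
    KaehlerDifferential.fromIdeal A B x = KaehlerDifferential.fromIdeal A B y ↔
      ((x : B ⊗[A] B) - (y : B ⊗[A] B)) ∈ KaehlerDifferential.ideal A B ^ 2 :=
  Ideal.toCotangent_eq _

/-- a set-theoretic section of `I → Ω` -/
noncomputable def out (ω : Ω[B⁄A]) : KaehlerDifferential.ideal A B :=
  Function.surjInv (KaehlerDifferential.fromIdeal_surjective A B) ω

theorem fromIdeal_out (ω : Ω[B⁄A]) : KaehlerDifferential.fromIdeal A B (out A B ω) = ω :=
  Function.surjInv_eq _ ω

variable {ι : Type u} [Fintype ι]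

/-- class of a product of elements of the ideal -/
noncomputable def prodCls (y : ι → KaehlerDifferential.ideal A B) : PP16.grI A B (Fintype.card ι) :=
  Submodule.Quotient.mk ⟨∏ i, (y i : B ⊗[A] B), by
    simpa using PP16.prod_mem_pow (KaehlerDifferential.ideal A B) Finset.univ
      (fun i => (y i : B ⊗[A] B)) (fun i _ => (y i).2)⟩

theorem zetaProd_eq (b : ι → B) :
    PP16.zetaProd A B b = prodCls A B (fun i => zeta A B (b i)) := rfl

theorem prodCls_congr (y y' : ι → KaehlerDifferential.ideal A B)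
    (h : ∀ i, KaehlerDifferential.fromIdeal A B (y i) = KaehlerDifferential.fromIdeal A B (y' i)) :
    prodCls A B y = prodCls A B y' := by
  rw [prodCls, prodCls, Submodule.Quotient.eq, Submodule.mem_comap]
  show (∏ i, (y i : B ⊗[A] B)) - ∏ i, (y' i : B ⊗[A] B) ∈
    KaehlerDifferential.ideal A B ^ (Fintype.card ι + 1)
  have := prod_sub_prod_mem (KaehlerDifferential.ideal A B) Finset.univ
    (fun i => (y i : B ⊗[A] B)) (fun i => (y' i : B ⊗[A] B)) (fun i _ => (y i).2)
    (fun i _ => (y' i).2) (fun i _ => (fromIdeal_eq_iff A B _ _).mp (h i))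
  rwa [Finset.card_univ] at this

theorem prodCls_perm (y : ι → KaehlerDifferential.ideal A B) (e : Equiv.Perm ι) :
    prodCls A B (fun i => y (e i)) = prodCls A B y := by
  rw [prodCls, prodCls]
  congr 1
  apply Subtype.ext
  exact Equiv.prod_comp e (fun i => (y i : B ⊗[A] B))

omit [Fintype ι] in
theorem coe_update [DecidableEq ι] (y : ι → KaehlerDifferential.ideal A B) (i : ι)
    (v : KaehlerDifferential.ideal A B) (j : ι) :
    ((Function.update y i v j : KaehlerDifferential.ideal A B) : B ⊗[A] B) =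
      Function.update (fun k => (y k : B ⊗[A] B)) i (v : B ⊗[A] B) j := by
  by_cases hj : j = i
  · subst hj
    rw [Function.update_self, Function.update_self]
  · rw [Function.update_of_ne hj, Function.update_of_ne hj]

theorem prodCls_update_add [DecidableEq ι] (y : ι → KaehlerDifferential.ideal A B) (i : ι)
    (a b : KaehlerDifferential.ideal A B) :
    prodCls A B (Function.update y i (a + b)) =
      prodCls A B (Function.update y i a) + prodCls A B (Function.update y i b) := by
  rw [prodCls, prodCls, prodCls, ← Submodule.Quotient.mk_add]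
  congr 1
  apply Subtype.ext
  show ∏ j, ((Function.update y i (a + b) j : KaehlerDifferential.ideal A B) : B ⊗[A] B) =
    (∏ j, ((Function.update y i a j : KaehlerDifferential.ideal A B) : B ⊗[A] B)) +
      ∏ j, ((Function.update y i b j : KaehlerDifferential.ideal A B) : B ⊗[A] B)
  simp only [coe_update]
  rw [Finset.prod_update_of_mem (Finset.mem_univ i), Finset.prod_update_of_mem (Finset.mem_univ i),
    Finset.prod_update_of_mem (Finset.mem_univ i), Submodule.coe_add, add_mul]

theorem prodCls_update_smul [DecidableEq ι] (y : ι → KaehlerDifferential.ideal A B) (i : ι)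
    (c : B) (a : KaehlerDifferential.ideal A B) :
    prodCls A B (Function.update y i (algebraMap B (B ⊗[A] B) c • a)) =
      c • prodCls A B (Function.update y i a) := by
  rw [prodCls, prodCls, ← Submodule.Quotient.mk_smul]
  congr 1
  apply Subtype.ext
  show ∏ j, ((Function.update y i (algebraMap B (B ⊗[A] B) c • a) j :
      KaehlerDifferential.ideal A B) : B ⊗[A] B) =
    c • ∏ j, ((Function.update y i a j : KaehlerDifferential.ideal A B) : B ⊗[A] B)
  simp only [coe_update]
  rw [Finset.prod_update_of_mem (Finset.mem_univ i), Finset.prod_update_of_mem (Finset.mem_univ i),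
    Submodule.coe_smul, smul_eq_mul, Algebra.smul_def, mul_assoc]

omit [Fintype ι] in
theorem out_update [DecidableEq ι] (ω : ι → Ω[B⁄A]) (i : ι) (v : Ω[B⁄A]) :
    (fun j => out A B (Function.update ω i v j)) =
      Function.update (fun j => out A B (ω j)) i (out A B v) := by
  funext j
  by_cases hj : j = i
  · subst hj
    rw [Function.update_self, Function.update_self]
  · rw [Function.update_of_ne hj, Function.update_of_ne hj]

/-- the symmetric multilinear map `(ω_i) ↦ [∏ ω_i]` -/
noncomputable def mMul :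
    MultilinearMap B (fun _ : ι => Ω[B⁄A]) (PP16.grI A B (Fintype.card ι)) where
  toFun ω := prodCls A B (fun i => out A B (ω i))
  map_update_add' := by
    intro _ ω i a b
    simp only [out_update]
    rw [← prodCls_update_add]
    apply prodCls_congr
    intro j
    by_cases hj : j = i
    · subst hj
      simp only [Function.update_self]
      rw [fromIdeal_out, map_add, fromIdeal_out, fromIdeal_out]
    · simp only [Function.update_of_ne hj]
  map_update_smul' := by
    intro _ ω i c a
    simp only [out_update]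
    rw [← prodCls_update_smul]
    apply prodCls_congr
    intro j
    by_cases hj : j = i
    · subst hj
      simp only [Function.update_self]
      rw [fromIdeal_out, map_smul, fromIdeal_out, algebraMap_smul]
    · simp only [Function.update_of_ne hj]

/-- the canonical map `Sym^n Ω → I^n / I^(n+1)` -/
noncomputable def phi : Sym[B] ι Ω[B⁄A] →ₗ[B] PP16.grI A B (Fintype.card ι) :=
  lift (mMul A B) (fun e ω => show mMul A B (fun i => ω (e i)) = mMul A B ω from
    prodCls_perm A B (fun i => out A B (ω i)) e)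

theorem phi_tprod (ω : ι → Ω[B⁄A]) :
    phi A B (SymmetricPower.tprod B ω) = prodCls A B (fun i => out A B (ω i)) := by
  rw [phi, lift_tprod]
  rfl

theorem phi_tprod_D (b : ι → B) :
    phi A B (SymmetricPower.tprod B (fun i => KaehlerDifferential.D A B (b i))) =
      PP16.zetaProd A B b := by
  rw [phi_tprod, zetaProd_eq]
  apply prodCls_congr
  intro i
  rw [fromIdeal_out]
  rfl

/-- products of `n` elements `ζ b` -/
def Zset (n : ℕ) : Set (B ⊗[A] B) :=
  {x | ∃ b : Fin n → B, x = ∏ j, (zeta A B (b j) : B ⊗[A] B)}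

theorem exists_span_sub_mem : ∀ (n : ℕ) (x : B ⊗[A] B), x ∈ KaehlerDifferential.ideal A B ^ n →
    ∃ y ∈ Submodule.span B (Zset A B n), x - y ∈ KaehlerDifferential.ideal A B ^ (n + 1) := by
  intro n
  induction n with
  | zero =>
    intro x _
    refine ⟨(Algebra.TensorProduct.lmul' A x) • (1 : B ⊗[A] B), ?_, ?_⟩
    · refine Submodule.smul_mem _ _ (Submodule.subset_span ⟨Fin.elim0, ?_⟩)
      simp
    · rw [zero_add, pow_one, RingHom.mem_ker, map_sub, sub_eq_zero, Algebra.TensorProduct.one_def,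
        TensorProduct.smul_tmul', Algebra.TensorProduct.lmul'_apply_tmul, smul_eq_mul, mul_one, mul_one]
  | succ n ih =>
    intro x hx
    rw [pow_succ'] at hx
    refine Submodule.mul_induction_on hx ?_ ?_
    · intro a ha z hz
      obtain ⟨w, hw, hzw⟩ := ih z hz
      refine ⟨a * w, ?_, ?_⟩
      · have ha' : a ∈ Submodule.span B
            (Set.range fun s : B => (1 : B) ⊗ₜ[A] s - s ⊗ₜ[A] (1 : B)) := by
          rw [KaehlerDifferential.submodule_span_range_eq_ideal]
          exact ha
        have h1 := Submodule.mul_mem_mul ha' hw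
        rw [Submodule.span_mul_span] at h1
        refine Submodule.span_mono ?_ h1
        rw [Set.mul_subset_iff]
        rintro _ ⟨b, rfl⟩ _ ⟨b', rfl⟩
        refine ⟨Fin.cons b b', ?_⟩
        rw [Fin.prod_univ_succ, Fin.cons_zero]
        simp only [Fin.cons_succ]
        rfl
      · rw [← mul_sub, pow_succ' _ (n + 1)]
        exact Ideal.mul_mem_mul ha hzw
    · rintro u v ⟨yu, hyu, hu⟩ ⟨yv, hyv, hv⟩
      refine ⟨yu + yv, Submodule.add_mem _ hyu hyv, ?_⟩
      have e : u + v - (yu + yv) = (u - yu) + (v - yv) := by ring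
      rw [e]
      exact Ideal.add_mem _ hu hv

theorem phi_surjective : Function.Surjective (phi A B (ι := ι)) := by
  intro q
  obtain ⟨⟨x, hx⟩, rfl⟩ := Submodule.Quotient.mk_surjective _ q
  obtain ⟨y, hy, hxy⟩ := exists_span_sub_mem A B (Fintype.card ι) x hx
  have key : ∀ y ∈ Submodule.span B (Zset A B (Fintype.card ι)),
      ∃ hy' : y ∈ (KaehlerDifferential.ideal A B ^ Fintype.card ι).restrictScalars B,
        (Submodule.Quotient.mk ⟨y, hy'⟩ : PP16.grI A B (Fintype.card ι)) ∈
          LinearMap.range (phi A B (ι := ι)) := by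
    intro y hy
    induction hy using Submodule.span_induction with
    | mem z hz =>
      obtain ⟨b, rfl⟩ := hz
      have hz' : ∏ j, (zeta A B (b j) : B ⊗[A] B) =
          ∏ i : ι, (zeta A B (b (Fintype.equivFin ι i)) : B ⊗[A] B) :=
        (Equiv.prod_comp (Fintype.equivFin ι) (fun j => (zeta A B (b j) : B ⊗[A] B))).symm
      rw [hz']
      refine ⟨?_, SymmetricPower.tprod B
        (fun i => KaehlerDifferential.D A B (b (Fintype.equivFin ι i))), ?_⟩
      · have := PP16.prod_mem_pow (KaehlerDifferential.ideal A B) Finset.univ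
          (fun i : ι => (zeta A B (b (Fintype.equivFin ι i)) : B ⊗[A] B))
          (fun i _ => (zeta A B _).2)
        simpa using this
      · rw [phi_tprod_D]
        rfl
    | zero => exact ⟨zero_mem _, ⟨0, by rw [map_zero]; rfl⟩⟩
    | add u v _ _ hu hv =>
      obtain ⟨hu', a, ha⟩ := hu
      obtain ⟨hv', b, hb⟩ := hv
      exact ⟨add_mem hu' hv', a + b, by rw [map_add, ha, hb]; rfl⟩
    | smul c u _ hu =>
      obtain ⟨hu', a, ha⟩ := hu
      exact ⟨Submodule.smul_mem _ c hu', c • a, by rw [map_smul, ha]; rfl⟩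
  obtain ⟨hy', u, hu⟩ := key y hy
  refine ⟨u, ?_⟩
  rw [hu, Submodule.Quotient.eq, Submodule.mem_comap]
  show y - x ∈ KaehlerDifferential.ideal A B ^ (Fintype.card ι + 1)
  rw [← neg_sub]
  exact neg_mem hxy

end Main

section Smooth

variable (A B : Type u) [CommRing A] [CommRing B] [Algebra A B]

/-- truncated symmetric algebra of the differentials -/
abbrev T (n : ℕ) : Type u :=
  SymmetricAlgebra B Ω[B⁄A] ⧸ (aug B Ω[B⁄A]) ^ (n + 1)

/-- the second-factor map `b ↦ b + db` to the first truncation -/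
noncomputable def rho1 : B →ₐ[A] T A B 1 where
  toFun b := Ideal.Quotient.mk _ (algebraMap B (SymmetricAlgebra B Ω[B⁄A]) b +
    SymmetricAlgebra.ι B Ω[B⁄A] (KaehlerDifferential.D A B b))
  map_one' := by
    rw [map_one, Derivation.map_one_eq_zero, map_zero, add_zero, map_one]
  map_mul' b b' := by
    rw [← map_mul, Ideal.Quotient.eq, map_mul, Derivation.leibniz, map_add, map_smul, map_smul]
    have e : (algebraMap B (SymmetricAlgebra B Ω[B⁄A]) b * algebraMap B (SymmetricAlgebra B Ω[B⁄A]) b' +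
        (b • SymmetricAlgebra.ι B Ω[B⁄A] (KaehlerDifferential.D A B b') +
          b' • SymmetricAlgebra.ι B Ω[B⁄A] (KaehlerDifferential.D A B b))) -
        (algebraMap B (SymmetricAlgebra B Ω[B⁄A]) b +
          SymmetricAlgebra.ι B Ω[B⁄A] (KaehlerDifferential.D A B b)) *
        (algebraMap B (SymmetricAlgebra B Ω[B⁄A]) b' +
          SymmetricAlgebra.ι B Ω[B⁄A] (KaehlerDifferential.D A B b')) =
        -(SymmetricAlgebra.ι B Ω[B⁄A] (KaehlerDifferential.D A B b) *
          SymmetricAlgebra.ι B Ω[B⁄A] (KaehlerDifferential.D A B b')) := by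
      simp only [Algebra.smul_def]
      ring
    rw [e, pow_succ, pow_one]
    exact neg_mem (Ideal.mul_mem_mul (ι_mem_aug _) (ι_mem_aug _))
  map_zero' := by
    rw [map_zero, map_zero, map_zero, add_zero, map_zero]
  map_add' b b' := by
    rw [← map_add]
    congr 1
    rw [map_add, map_add, map_add]
    ring
  commutes' a := by
    rw [Derivation.map_algebraMap, map_zero, add_zero,
      ← IsScalarTower.algebraMap_apply A B (SymmetricAlgebra B Ω[B⁄A])]
    rfl

theorem rho1_apply (b : B) : rho1 A B b = Ideal.Quotient.mk _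
    (algebraMap B (SymmetricAlgebra B Ω[B⁄A]) b +
      SymmetricAlgebra.ι B Ω[B⁄A] (KaehlerDifferential.D A B b)) := rfl

/-- the first-order map `B ⊗ B → T 1` -/
noncomputable def psi1 : B ⊗[A] B →ₐ[B] T A B 1 :=
  Algebra.TensorProduct.lift (Algebra.ofId B (T A B 1)) (rho1 A B) (fun _ _ => Commute.all _ _)

theorem psi1_zeta (b : B) : psi1 A B (zeta A B b : B ⊗[A] B) =
    Ideal.Quotient.mk _ (SymmetricAlgebra.ι B Ω[B⁄A] (KaehlerDifferential.D A B b)) := by
  show psi1 A B ((1 : B) ⊗ₜ[A] b - b ⊗ₜ[A] (1 : B)) = _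
  rw [map_sub, psi1, Algebra.TensorProduct.lift_tmul, Algebra.TensorProduct.lift_tmul, map_one,
    map_one, one_mul, mul_one, rho1_apply, map_add]
  have : (Algebra.ofId B (T A B 1)) b = Ideal.Quotient.mk (aug B Ω[B⁄A] ^ (1 + 1))
      (algebraMap B (SymmetricAlgebra B Ω[B⁄A]) b) := rfl
  rw [this, add_sub_cancel_left]

theorem span_le_ideal (u : B ⊗[A] B)
    (hu : u ∈ Submodule.span B (Set.range fun s : B => (1 : B) ⊗ₜ[A] s - s ⊗ₜ[A] (1 : B))) :
    u ∈ KaehlerDifferential.ideal A B := by
  rw [KaehlerDifferential.submodule_span_range_eq_ideal] at hu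
  exact hu

theorem psi1_apply_of_mem (y : B ⊗[A] B) (hy : y ∈ KaehlerDifferential.ideal A B) :
    psi1 A B y = Ideal.Quotient.mk _
      (SymmetricAlgebra.ι B Ω[B⁄A] (KaehlerDifferential.fromIdeal A B ⟨y, hy⟩)) := by
  have hy' : y ∈ Submodule.span B
      (Set.range fun s : B => (1 : B) ⊗ₜ[A] s - s ⊗ₜ[A] (1 : B)) := by
    rw [KaehlerDifferential.submodule_span_range_eq_ideal]
    exact hy
  revert hy
  induction hy' using Submodule.span_induction with
  | mem z hz =>
    obtain ⟨b, rfl⟩ := hz
    intro hy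
    exact psi1_zeta A B b
  | zero =>
    intro hy
    have : (⟨0, hy⟩ : KaehlerDifferential.ideal A B) = 0 := rfl
    rw [this, map_zero, map_zero, map_zero, map_zero]
  | add u v hu hv ihu ihv =>
    intro hy
    have hu' := span_le_ideal A B u hu
    have hv' := span_le_ideal A B v hv
    have : (⟨u + v, hy⟩ : KaehlerDifferential.ideal A B) = ⟨u, hu'⟩ + ⟨v, hv'⟩ := rfl
    rw [this, map_add, ihu hu', ihv hv', map_add, map_add, map_add]
  | smul c u hu ihu =>
    intro hy
    have hu' := span_le_ideal A B u hu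
    have : (⟨c • u, hy⟩ : KaehlerDifferential.ideal A B) =
        (algebraMap B (B ⊗[A] B) c) • ⟨u, hu'⟩ := Subtype.ext (Algebra.smul_def c u)
    rw [this, map_smul, ihu hu', map_smul, algebraMap_smul, map_smul]
    rfl

variable [Algebra.FormallySmooth A B]

theorem exists_psi (n : ℕ) (hn : 1 ≤ n) : ∃ ψ : B ⊗[A] B →ₐ[B] T A B n,
    ∀ (y : B ⊗[A] B) (hy : y ∈ KaehlerDifferential.ideal A B),
      ψ y - Ideal.Quotient.mk _
        (SymmetricAlgebra.ι B Ω[B⁄A] (KaehlerDifferential.fromIdeal A B ⟨y, hy⟩)) ∈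
      (Ideal.map (Ideal.Quotient.mk ((aug B Ω[B⁄A]) ^ (n + 1))) (aug B Ω[B⁄A])) ^ 2 := by
  have hle : aug B Ω[B⁄A] ^ (n + 1) ≤ aug B Ω[B⁄A] ^ (1 + 1) :=
    Ideal.pow_le_pow_right (by omega)
  let π : T A B n →ₐ[B] T A B 1 := Ideal.Quotient.factorₐ B hle
  have hπsurj : Function.Surjective π := by
    intro x
    obtain ⟨y, rfl⟩ := Ideal.Quotient.factor_surjective hle x
    exact ⟨y, Ideal.Quotient.factorₐ_apply B hle y⟩
  have hker : RingHom.ker π =
      Ideal.map (Ideal.Quotient.mk (aug B Ω[B⁄A] ^ (n + 1))) (aug B Ω[B⁄A] ^ (1 + 1)) := by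
    rw [← Ideal.Quotient.factor_ker hle]
    ext x
    rw [RingHom.mem_ker, RingHom.mem_ker, Ideal.Quotient.factorₐ_apply]
  have hnil : IsNilpotent (RingHom.ker π) := by
    rw [hker]
    refine ⟨n + 1, ?_⟩
    rw [← Ideal.map_pow, ← pow_mul, Ideal.zero_eq_bot, Ideal.map_eq_bot_iff_le_ker, Ideal.mk_ker]
    exact Ideal.pow_le_pow_right (by nlinarith)
  let ψ := Algebra.FormallySmooth.liftOfSurjective (psi1 A B) π hπsurj hnil
  have hψ : ∀ c, π (ψ c) = psi1 A B c :=
    Algebra.FormallySmooth.liftOfSurjective_apply (psi1 A B) π hπsurj hnil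
  refine ⟨ψ, fun y hy => ?_⟩
  have h1 : ψ y - Ideal.Quotient.mk _
      (SymmetricAlgebra.ι B Ω[B⁄A] (KaehlerDifferential.fromIdeal A B ⟨y, hy⟩)) ∈
      RingHom.ker π := by
    rw [RingHom.mem_ker, map_sub, sub_eq_zero, hψ, psi1_apply_of_mem A B y hy]
    exact (Ideal.Quotient.factorₐ_apply_mk B hle _).symm
  rw [hker, Ideal.map_pow] at h1
  exact h1

variable {ι : Type u} [Fintype ι]

theorem phi_injective_of_pos (hn : 1 ≤ Fintype.card ι) :
    Function.Injective (phi A B (ι := ι)) := by
  rw [injective_iff_map_eq_zero]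
  intro u hu
  obtain ⟨ψ, hψ⟩ := exists_psi A B (Fintype.card ι) hn
  obtain ⟨J, hJ⟩ : ∃ J : Ideal (T A B (Fintype.card ι)),
      J = Ideal.map (Ideal.Quotient.mk ((aug B Ω[B⁄A]) ^ (Fintype.card ι + 1)))
        (aug B Ω[B⁄A]) := ⟨_, rfl⟩
  rw [← hJ] at hψ
  have hJpow : J ^ (Fintype.card ι + 1) = ⊥ := by
    rw [hJ, ← Ideal.map_pow, Ideal.map_quotient_self]
  have hιJ : ∀ ω : Ω[B⁄A], Ideal.Quotient.mk ((aug B Ω[B⁄A]) ^ (Fintype.card ι + 1))
      (SymmetricAlgebra.ι B Ω[B⁄A] ω) ∈ J := by
    intro ω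
    rw [hJ]
    exact Ideal.mem_map_of_mem _ (ι_mem_aug ω)
  have hψI : ∀ y ∈ KaehlerDifferential.ideal A B, ψ y ∈ J := by
    intro y hy
    have h1 := hψ y hy
    have h2 : ψ y = (ψ y - Ideal.Quotient.mk _
        (SymmetricAlgebra.ι B Ω[B⁄A] (KaehlerDifferential.fromIdeal A B ⟨y, hy⟩))) +
        Ideal.Quotient.mk _
        (SymmetricAlgebra.ι B Ω[B⁄A] (KaehlerDifferential.fromIdeal A B ⟨y, hy⟩)) := by ring
    rw [h2]
    exact Ideal.add_mem _ (Ideal.pow_le_self (by norm_num) h1) (hιJ _)
  have hψpow : ∀ (k : ℕ) (y : B ⊗[A] B), y ∈ KaehlerDifferential.ideal A B ^ k → ψ y ∈ J ^ k := by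
    intro k y hy
    have h1 : (KaehlerDifferential.ideal A B ^ k).map (ψ : B ⊗[A] B →+* T A B (Fintype.card ι)) ≤
        J ^ k := by
      rw [Ideal.map_pow]
      exact Ideal.pow_right_mono (Ideal.map_le_iff_le_comap.mpr (fun y hy => hψI y hy)) k
    exact h1 (Ideal.mem_map_of_mem _ hy)
  -- the map on the graded piece
  let θ₀ : ↥((KaehlerDifferential.ideal A B ^ Fintype.card ι).restrictScalars B) →ₗ[B]
      T A B (Fintype.card ι) := ψ.toLinearMap ∘ₗ (Submodule.subtype _)
  have hθ₀ : (((KaehlerDifferential.ideal A B ^ (Fintype.card ι + 1)).restrictScalars B).comap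
      ((KaehlerDifferential.ideal A B ^ Fintype.card ι).restrictScalars B).subtype) ≤
      LinearMap.ker θ₀ := by
    intro x hx
    rw [LinearMap.mem_ker]
    show ψ (x : B ⊗[A] B) = 0
    have h1 : (x : B ⊗[A] B) ∈ KaehlerDifferential.ideal A B ^ (Fintype.card ι + 1) := hx
    have h2 := hψpow _ _ h1
    rw [hJpow] at h2
    exact h2
  let θ : PP16.grI A B (Fintype.card ι) →ₗ[B] T A B (Fintype.card ι) :=
    Submodule.liftQ _ θ₀ hθ₀
  let κ : Sym[B] ι Ω[B⁄A] →ₗ[B] T A B (Fintype.card ι) :=
    (Ideal.Quotient.mkₐ B _).toLinearMap ∘ₗ toSymAlg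
  have hcomp : θ ∘ₗ (phi A B (ι := ι)) = κ := by
    apply hom_ext
    intro ω
    rw [LinearMap.comp_apply, phi_tprod, prodCls]
    show ψ (∏ i, ((out A B (ω i) : KaehlerDifferential.ideal A B) : B ⊗[A] B)) =
      Ideal.Quotient.mk _ (toSymAlg (SymmetricPower.tprod B ω))
    rw [toSymAlg_tprod, map_prod, map_prod, ← sub_eq_zero]
    have h1 := prod_sub_prod_mem J Finset.univ
      (fun i => ψ ((out A B (ω i) : KaehlerDifferential.ideal A B) : B ⊗[A] B))
      (fun i => Ideal.Quotient.mk ((aug B Ω[B⁄A]) ^ (Fintype.card ι + 1))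
        (SymmetricAlgebra.ι B Ω[B⁄A] (ω i)))
      (fun i _ => hψI _ (out A B (ω i)).2) (fun i _ => hιJ _)
      (fun i _ => by
        have h2 := hψ _ (out A B (ω i)).2
        have h3 : KaehlerDifferential.fromIdeal A B
            ⟨((out A B (ω i) : KaehlerDifferential.ideal A B) : B ⊗[A] B), (out A B (ω i)).2⟩ =
            ω i := fromIdeal_out A B (ω i)
        rw [h3] at h2
        exact h2)
    rw [Finset.card_univ, hJpow] at h1
    exact h1
  have h1 : κ u = 0 := by
    rw [← hcomp, LinearMap.comp_apply, hu, map_zero]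
  have h2 : toSymAlg u ∈ (aug B Ω[B⁄A]) ^ (Fintype.card ι + 1) :=
    Ideal.Quotient.eq_zero_iff_mem.mp h1
  exact eq_zero_of_toSymAlg_mem u h2

theorem phi_injective_of_card_zero (h0 : Fintype.card ι = 0) :
    Function.Injective (phi A B (ι := ι)) := by
  haveI : IsEmpty ι := Fintype.card_eq_zero_iff.mp h0
  rw [injective_iff_map_eq_zero]
  intro u hu
  have hspan : u ∈ Submodule.span B
      {SymmetricPower.tprod B (fun i : ι => (isEmptyElim i : Ω[B⁄A]))} := by
    have : Set.range (SymmetricPower.tprod B (ι := ι) (M := Ω[B⁄A])) =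
        {SymmetricPower.tprod B (fun i : ι => (isEmptyElim i : Ω[B⁄A]))} := by
      ext t
      constructor
      · rintro ⟨m, rfl⟩
        rw [Set.mem_singleton_iff]
        congr 1
        funext i
        exact isEmptyElim i
      · rintro rfl
        exact ⟨_, rfl⟩
    rw [← this, SymmetricPower.span_tprod_eq_top]
    trivial
  obtain ⟨c, rfl⟩ := Submodule.mem_span_singleton.mp hspan
  rw [map_smul, phi_tprod, prodCls, ← Submodule.Quotient.mk_smul, Submodule.Quotient.mk_eq_zero,
    Submodule.mem_comap] at hu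
  have h1 : c • (∏ i : ι, ((out A B (isEmptyElim i : Ω[B⁄A]) : KaehlerDifferential.ideal A B) :
      B ⊗[A] B)) ∈ KaehlerDifferential.ideal A B ^ (Fintype.card ι + 1) := hu
  rw [Finset.univ_eq_empty, Finset.prod_empty, h0, zero_add, pow_one, RingHom.mem_ker] at h1
  have h2 : (Algebra.TensorProduct.lmul' A) (c • (1 : B ⊗[A] B)) = c := by
    rw [Algebra.TensorProduct.one_def, TensorProduct.smul_tmul',
      Algebra.TensorProduct.lmul'_apply_tmul, smul_eq_mul, mul_one, mul_one]
  rw [h2] at h1
  rw [h1, zero_smul]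

theorem main : PP16.IsDiffSmooth A B := by
  refine ⟨inferInstance, ?_⟩
  intro ι _
  refine ⟨phi A B, fun b => phi_tprod_D A B b, ⟨?_, phi_surjective A B⟩⟩
  rcases Nat.eq_zero_or_pos (Fintype.card ι) with h0 | hpos
  · exact phi_injective_of_card_zero A B h0
  · exact phi_injective_of_pos A B hpos

end Smooth

end Groth.Agent.Lib.PP16SmoothH1
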