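import Mathlib
import Groth.Prelude.Def_CAlgX

/-!
# Regular sequences are quasi-regular (helper5)
-/

set_option autoImplicit false
universe u

namespace Groth.Agent.QuasiReg

open MvPolynomial RingTheory.Sequence

variable {R : Type u} [CommRing R]

section tools

variable {σ : Type*}

/-- monomials of degree `n` evaluate into `J^n` -/
theorem prod_pow_mem (f : σ → R) (d : σ →₀ ℕ) :
    (d.prod fun i e => f i ^ e) ∈ Ideal.span (Set.range f) ^ (d.degree) := by
  classical
  rw [Finsupp.prod, Finsupp.degree_apply, ← Finset.prod_pow_eq_pow_sum]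
  refine Ideal.prod_mem_prod fun i _ => ?_
  exact Ideal.pow_mem_pow (Ideal.subset_span (Set.mem_range_self i)) _

/-- (A1): a homogeneous polynomial with coefficients in `I` evaluates into `I * J^n` -/
theorem eval_mem_mul_pow (f : σ → R) (I : Ideal R) {n : ℕ} (P : MvPolynomial σ R)
    (hP : P.IsHomogeneous n) (hc : ∀ d, P.coeff d ∈ I) :
    eval f P ∈ I * Ideal.span (Set.range f) ^ n := by
  rw [P.as_sum, map_sum]
  refine Ideal.sum_mem _ fun d hd => ?_
  rw [eval_monomial]
  refine Ideal.mul_mem_mul (hc d) ?_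
  have hdeg : d.degree = n := by
    rw [Finsupp.degree_apply]
    exact (hP.degree_eq_sum_deg_support hd).symm
  rw [← hdeg]
  exact prod_pow_mem f d

end tools

section qr

variable {σ : Type*} [Fintype σ]

/-- quasi-regularity for a family indexed by a finite type -/
def QR (f : σ → R) : Prop :=
  ∀ (n : ℕ) (P : MvPolynomial σ R), P.IsHomogeneous n →
    eval f P ∈ Ideal.span (Set.range f) ^ (n + 1) → ∀ d : σ →₀ ℕ, P.coeff d ∈ Ideal.span (Set.range f)

/-- the form with `P(f) = 0` -/
def ZForm (f : σ → R) : Prop :=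
  ∀ (n : ℕ) (P : MvPolynomial σ R), P.IsHomogeneous n →
    eval f P = 0 → ∀ d : σ →₀ ℕ, P.coeff d ∈ Ideal.span (Set.range f)

theorem isQuasiRegular_iff {c : ℕ} (f : Fin c → R) : CAlgX.IsQuasiRegular f ↔ QR f := Iff.rfl

theorem QR.zForm {f : σ → R} (h : QR f) : ZForm f := by
  intro n P hP hev d
  refine h n P hP ?_ d
  rw [hev]
  exact Submodule.zero_mem _

/-- elements of `J^(n+1)` are `∑ f_i Q_i(f)` with `Q_i` homogeneous of degree `n` -/
theorem exists_decomp (f : σ → R) (n : ℕ) (y : R)
    (hy : y ∈ Ideal.span (Set.range f) ^ (n + 1)) :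
    ∃ Q : σ → MvPolynomial σ R, (∀ i, (Q i).IsHomogeneous n) ∧ y = ∑ i, f i * eval f (Q i) := by
  rw [pow_succ'] at hy
  refine Submodule.mul_induction_on hy ?_ ?_
  · intro a ha b hb
    obtain ⟨c, rfl⟩ := Ideal.mem_span_range_iff_exists_fun.1 ha
    obtain ⟨B, hB, rfl⟩ := (Ideal.mem_span_pow_iff_exists_isHomogeneous f b).1 hb
    refine ⟨fun i => C (c i) * B, fun i => hB.C_mul (c i), ?_⟩
    rw [Finset.sum_mul]
    refine Finset.sum_congr rfl fun i _ => ?_
    rw [map_mul, eval_C]
    ring
  · rintro a b ⟨Q, hQ, rfl⟩ ⟨Q', hQ', rfl⟩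
    refine ⟨fun i => Q i + Q' i, fun i => (hQ i).add (hQ' i), ?_⟩
    rw [← Finset.sum_add_distrib]
    refine Finset.sum_congr rfl fun i _ => ?_
    rw [map_add]
    ring

theorem ZForm.qr {f : σ → R} (h : ZForm f) : QR f := by
  intro n P hP hev d
  obtain ⟨Q, hQ, hy⟩ := exists_decomp f n _ hev
  set P' : MvPolynomial σ R := P - ∑ i, C (f i) * Q i with hP'
  have hP'hom : P'.IsHomogeneous n :=
    hP.sub (MvPolynomial.IsHomogeneous.sum _ _ _ fun i _ => (hQ i).C_mul (f i))
  have hP'ev : eval f P' = 0 := by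
    rw [hP', map_sub, map_sum, hy, sub_eq_zero]
    refine Finset.sum_congr rfl fun i _ => ?_
    rw [map_mul, eval_C]
  have h1 := h n P' hP'hom hP'ev d
  have h2 : P.coeff d = P'.coeff d + ∑ i, f i * (Q i).coeff d := by
    rw [hP', coeff_sub, coeff_sum]
    simp only [coeff_C_mul]
    ring
  rw [h2]
  refine Ideal.add_mem _ h1 (Ideal.sum_mem _ fun i _ => ?_)
  exact Ideal.mul_mem_right _ _ (Ideal.subset_span (Set.mem_range_self i))

theorem qr_iff_zForm {f : σ → R} : QR f ↔ ZForm f := ⟨QR.zForm, ZForm.qr⟩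

/-- Rees' lemma: a nonzerodivisor modulo `J` is a nonzerodivisor modulo `J^ν` -/
theorem QR.mem_pow_of_mul_mem {f : σ → R} (h : QR f) (x : R)
    (hx : ∀ ξ, x * ξ ∈ Ideal.span (Set.range f) → ξ ∈ Ideal.span (Set.range f)) :
    ∀ (ν : ℕ) (ξ : R), x * ξ ∈ Ideal.span (Set.range f) ^ ν →
      ξ ∈ Ideal.span (Set.range f) ^ ν := by
  intro ν
  induction ν with
  | zero =>
    intro ξ _
    rw [pow_zero, Ideal.one_eq_top]
    exact Submodule.mem_top
  | succ ν ih =>
    intro ξ hξ
    have h1 : ξ ∈ Ideal.span (Set.range f) ^ ν :=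
      ih ξ (Ideal.pow_le_pow_right (Nat.le_succ ν) hξ)
    obtain ⟨F, hF, rfl⟩ := (Ideal.mem_span_pow_iff_exists_isHomogeneous f ξ).1 h1
    have h2 : ∀ d, (C x * F).coeff d ∈ Ideal.span (Set.range f) := by
      refine h ν (C x * F) (hF.C_mul x) ?_
      rw [map_mul, eval_C]
      exact hξ
    have h3 : ∀ d, F.coeff d ∈ Ideal.span (Set.range f) := by
      intro d
      have := h2 d
      rw [coeff_C_mul] at this
      exact hx _ this
    have h4 := eval_mem_mul_pow f _ F hF h3
    rwa [← pow_succ'] at h4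

end qr

section univariate

open Polynomial in
/-- the univariate bookkeeping lemma -/
theorem poly_lemma (J' : Ideal R) (x : R)
    (hx : ∀ (ν : ℕ) (ξ : R), x * ξ ∈ J' ^ ν → ξ ∈ J' ^ ν) :
    ∀ (n : ℕ) (q : Polynomial R), (∀ k, q.coeff k ∈ J' ^ (n - k)) →
      q.eval x ∈ J' ^ (n + 1) →
      ∀ k, k ≤ n → ∃ ω ∈ J' ^ (n - k), q.coeff k + x * ω ∈ J' ^ (n - k + 1) := by
  intro n
  induction n with
  | zero =>
    intro q hq hev k hk
    obtain rfl : k = 0 := Nat.le_zero.1 hk
    refine ⟨(Polynomial.divX q).eval x, ?_, ?_⟩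
    · rw [Nat.sub_zero, pow_zero, Ideal.one_eq_top]; exact Submodule.mem_top
    · have h1 : q.eval x = q.coeff 0 + x * (Polynomial.divX q).eval x := by
        conv_lhs => rw [← Polynomial.divX_mul_X_add q]
        simp only [Polynomial.eval_add, Polynomial.eval_mul, Polynomial.eval_X, Polynomial.eval_C]
        ring
      rw [← h1]
      exact hev
  | succ n ih =>
    intro q hq hev k hk
    have h1 : q.eval x = q.coeff 0 + x * (Polynomial.divX q).eval x := by
      conv_lhs => rw [← Polynomial.divX_mul_X_add q]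
      simp only [Polynomial.eval_add, Polynomial.eval_mul, Polynomial.eval_X, Polynomial.eval_C]
      ring
    have hη : (Polynomial.divX q).eval x ∈ J' ^ (n + 1) := by
      apply hx
      have h2 : x * (Polynomial.divX q).eval x = q.eval x - q.coeff 0 := by rw [h1]; ring
      rw [h2]
      refine Ideal.sub_mem _ (Ideal.pow_le_pow_right (Nat.le_succ _) hev) ?_
      have := hq 0
      rwa [Nat.sub_zero] at this
    cases k with
    | zero =>
      refine ⟨(Polynomial.divX q).eval x, ?_, ?_⟩
      · rw [Nat.sub_zero]; exact hη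
      · rw [← h1, Nat.sub_zero]; exact hev
    | succ k =>
      have hq' : ∀ j, (Polynomial.divX q).coeff j ∈ J' ^ (n - j) := by
        intro j
        rw [Polynomial.coeff_divX]
        have := hq (j + 1)
        rwa [Nat.succ_sub_succ] at this
      obtain ⟨ω, hω, hω'⟩ := ih (Polynomial.divX q) hq' hη k (Nat.le_of_succ_le_succ hk)
      refine ⟨ω, ?_, ?_⟩
      · rw [Nat.succ_sub_succ]; exact hω
      · rw [Nat.succ_sub_succ, ← Polynomial.coeff_divX]; exact hω'

end univariate

section cons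

/-- adjoining (in front) a nonzerodivisor modulo a quasi-regular sequence -/
theorem qr_cons {r : ℕ} (g : Fin r → R) (hg : QR g) (x : R)
    (hx : ∀ ξ, x * ξ ∈ Ideal.span (Set.range g) → ξ ∈ Ideal.span (Set.range g)) :
    QR (Fin.cons x g : Fin (r + 1) → R) := by
  apply ZForm.qr
  intro n P hP hev d
  set J' : Ideal R := Ideal.span (Set.range g) with hJ'
  set J : Ideal R := Ideal.span (Set.range (Fin.cons x g : Fin (r + 1) → R)) with hJ
  have hJ'J : J' ≤ J := by
    rw [hJ', Ideal.span_le]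
    rintro _ ⟨i, rfl⟩
    exact Ideal.subset_span ⟨i.succ, by simp⟩
  have hxJ : x ∈ J := Ideal.subset_span ⟨0, by simp⟩
  set p := finSuccEquiv R r P with hp
  set q : Polynomial R := Polynomial.map (eval g) p with hq
  have hevq : q.eval x = 0 := by
    rw [hq, hp, ← eval_eq_eval_mv_eval']
    exact hev
  have hpk : ∀ k, k ≤ n → (p.coeff k).IsHomogeneous (n - k) := fun k hk =>
    hP.finSuccEquiv_coeff_isHomogeneous k (n - k) (by omega)
  have hqk : ∀ k, q.coeff k ∈ J' ^ (n - k) := by
    intro k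
    by_cases hk : k ≤ n
    · rw [hq, Polynomial.coeff_map]
      exact (Ideal.mem_span_pow_iff_exists_isHomogeneous g _).2 ⟨p.coeff k, hpk k hk, rfl⟩
    · have : n - k = 0 := by omega
      rw [this, pow_zero, Ideal.one_eq_top]
      exact Submodule.mem_top
  have hrees := hg.mem_pow_of_mul_mem x hx
  have hkey := poly_lemma J' x hrees n q hqk (by rw [hevq]; exact Submodule.zero_mem _)
  -- coefficients
  have hd : d = Finsupp.cons (d 0) (Finsupp.tail d) := (Finsupp.cons_tail d).symm
  have hcoeff : P.coeff d = (p.coeff (d 0)).coeff (Finsupp.tail d) := by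
    rw [hp, finSuccEquiv_coeff_coeff, Finsupp.cons_tail]
  by_cases hk : d 0 ≤ n
  · obtain ⟨ω, hω, hω'⟩ := hkey (d 0) hk
    obtain ⟨h, hh, rfl⟩ := (Ideal.mem_span_pow_iff_exists_isHomogeneous g ω).1 hω
    have h1 : ∀ d', (p.coeff (d 0) + C x * h).coeff d' ∈ J' := by
      refine hg (n - d 0) _ ((hpk _ hk).add (hh.C_mul x)) ?_
      rw [map_add, map_mul, eval_C]
      have : q.coeff (d 0) = eval g (p.coeff (d 0)) := by rw [hq, Polynomial.coeff_map]
      rw [← this]
      exact hω'
    have h2 := h1 (Finsupp.tail d)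
    rw [coeff_add, coeff_C_mul] at h2
    rw [hcoeff]
    have h3 : (p.coeff (d 0)).coeff (Finsupp.tail d) =
        ((p.coeff (d 0)).coeff (Finsupp.tail d) + x * h.coeff (Finsupp.tail d)) -
          x * h.coeff (Finsupp.tail d) := by ring
    rw [h3]
    exact Ideal.sub_mem _ (hJ'J h2) (Ideal.mul_mem_right _ _ hxJ)
  · have hdeg : d.degree ≠ n := by
      have := Finsupp.le_degree 0 d
      omega
    rw [hP.coeff_eq_zero hdeg]
    exact Submodule.zero_mem _

end cons

section reindex

variable {σ τ : Type*} [Fintype σ] [Fintype τ]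

omit [Fintype σ] [Fintype τ] in
theorem qr_comp_equiv (e : σ ≃ τ) (f : τ → R) (hf : QR f) : QR (f ∘ e) := by
  intro n P hP hev d
  have hrange : Set.range (f ∘ e) = Set.range f := e.surjective.range_comp f
  rw [hrange] at hev ⊢
  have h1 := hf n (rename e P) hP.rename_isHomogeneous (by rwa [eval_rename]) (d.mapDomain e)
  rwa [coeff_rename_mapDomain e e.injective] at h1

end reindex

section main

/-- **Weakly regular sequences are quasi-regular.** -/
theorem qr_of_isWeaklyRegular : ∀ (c : ℕ) (f : Fin c → R),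
    IsWeaklyRegular R (List.ofFn f) → QR f := by
  intro c
  induction c with
  | zero =>
    intro f _ n P hP _ d
    -- no variables: the ideal is `⊥`, and `eval f P` is the constant coefficient
    have hd : d = 0 := Subsingleton.elim _ _
    subst hd
    by_cases hn : n = 0
    · subst hn
      -- P is a constant and `eval f P ∈ ⊥`
      rename_i hev
      have hbot : Ideal.span (Set.range f) = ⊥ := by
        rw [Ideal.span_eq_bot]
        rintro _ ⟨i, rfl⟩
        exact i.elim0
      rw [hbot] at hev ⊢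
      rw [zero_add, pow_one, Ideal.mem_bot] at hev
      rw [Ideal.mem_bot]
      have hP0 : P = C (P.coeff 0) := by
        ext m
        have hm : m = 0 := Subsingleton.elim _ _
        subst hm
        simp
      rw [hP0, eval_C] at hev
      exact hev
    · have hdeg : (0 : Fin 0 →₀ ℕ).degree ≠ n := by
        rw [map_zero]; exact fun h => hn h.symm
      rw [hP.coeff_eq_zero hdeg]
      exact Submodule.zero_mem _
  | succ c ih =>
    intro f hf
    rw [List.ofFn_succ', List.concat_eq_append, isWeaklyRegular_append_iff,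
      isWeaklyRegular_singleton_iff] at hf
    obtain ⟨hf', hlast⟩ := hf
    set g : Fin c → R := fun i => f i.castSucc with hg
    set x : R := f (Fin.last c) with hx
    have hqg : QR g := ih g hf'
    have hofList : Ideal.ofList (List.ofFn g) = Ideal.span (Set.range g) := by
      unfold Ideal.ofList
      congr 1
      ext a
      simp [List.mem_ofFn']
    have hxreg : ∀ ξ, x * ξ ∈ Ideal.span (Set.range g) → ξ ∈ Ideal.span (Set.range g) := by
      intro ξ hξ
      rw [isSMulRegular_iff_right_eq_zero_of_smul] at hlast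
      have h1 := hlast (Submodule.Quotient.mk ξ) (by
        rw [← Submodule.Quotient.mk_smul, Submodule.Quotient.mk_eq_zero, hofList, smul_eq_mul,
          Ideal.mul_top]
        exact hξ)
      rw [Submodule.Quotient.mk_eq_zero, hofList, smul_eq_mul, Ideal.mul_top] at h1
      exact h1
    have hcons := qr_cons g hqg x hxreg
    have hcomp : f = (Fin.cons x g : Fin (c + 1) → R) ∘ (finRotate (c + 1)) := by
      ext i
      induction i using Fin.lastCases with
      | last => simp [hx]
      | cast i => simp [hg]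
    rw [hcomp]
    exact qr_comp_equiv (finRotate (c + 1)) _ hcons

/-- S5802 -/
theorem isQuasiRegular_of_isWeaklyRegular {c : ℕ} (f : Fin c → R)
    (hf : IsWeaklyRegular R (List.ofFn f)) : CAlgX.IsQuasiRegular f :=
  qr_of_isWeaklyRegular c f hf

end main

section intersections

variable {A : Type u} [CommRing A]

theorem mem_sup_of_mk_mem_map (J I : Ideal A) (a : A)
    (h : Ideal.Quotient.mk J a ∈ I.map (Ideal.Quotient.mk J)) : a ∈ I ⊔ J :=
  Ideal.mem_quotient_iff_mem_sup.1 h

/-- one step: `J ∩ Rⁿ ⊆ J Rⁿ + J ∩ Rⁿ⁺¹` -/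
theorem inf_pow_le_step (J : Ideal A) {r : ℕ} (f : Fin r → A)
    (hf : IsWeaklyRegular (A ⧸ J) (List.ofFn f)) (n : ℕ) :
    J ⊓ Ideal.span (Set.range f) ^ n ≤
      J * Ideal.span (Set.range f) ^ n ⊔ J ⊓ Ideal.span (Set.range f) ^ (n + 1) := by
  set Rf : Ideal A := Ideal.span (Set.range f) with hRf
  set fb : Fin r → A ⧸ J := fun i => Ideal.Quotient.mk J (f i) with hfb
  have hfb' : IsWeaklyRegular (A ⧸ J) (List.ofFn fb) := by
    have h1 : List.ofFn fb = (List.ofFn f).map (algebraMap A (A ⧸ J)) := by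
      rw [List.map_ofFn]; rfl
    rw [h1]
    exact (isWeaklyRegular_map_algebraMap_iff (A ⧸ J) (A ⧸ J) (List.ofFn f)).mpr hf
  have hqr : QR fb := qr_of_isWeaklyRegular r fb hfb'
  have hrange : Ideal.span (Set.range fb) = Rf.map (Ideal.Quotient.mk J) := by
    rw [hRf, Ideal.map_span, ← Set.range_comp]; rfl
  rintro a ⟨haJ, haR⟩
  obtain ⟨F, hF, rfl⟩ := (Ideal.mem_span_pow_iff_exists_isHomogeneous f a).1 haR
  have hFb : (map (Ideal.Quotient.mk J) F).IsHomogeneous n := hF.map _
  have hev : eval fb (map (Ideal.Quotient.mk J) F) = 0 := by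
    rw [eval_map, ← Ideal.Quotient.eq_zero_iff_mem.2 haJ]
    have := eval₂_comp_left (Ideal.Quotient.mk J) (RingHom.id A) f F
    rw [RingHom.comp_id] at this
    exact this.symm
  have hcoeff : ∀ d, F.coeff d ∈ Rf ⊔ J := by
    intro d
    have h1 := hqr.zForm n _ hFb hev d
    rw [coeff_map, hrange] at h1
    exact mem_sup_of_mk_mem_map J Rf _ h1
  have h2 := eval_mem_mul_pow f (Rf ⊔ J) F hF hcoeff
  rw [← hRf, Ideal.sup_mul, ← pow_succ'] at h2
  obtain ⟨v, hv, u, hu, huv⟩ := Submodule.mem_sup.1 h2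
  have hvJ : v ∈ J := by
    have : v = eval f F - u := by rw [← huv]; ring
    rw [this]
    exact Ideal.sub_mem _ haJ (Ideal.mul_le_left hu)
  rw [← huv]
  exact Submodule.add_mem _ (Submodule.mem_sup_right ⟨hvJ, hv⟩) (Submodule.mem_sup_left hu)

/-- S3827 (without the positivity hypothesis) -/
theorem inf_pow_eq (J : Ideal A) {r : ℕ} (f : Fin r → A)
    (hf : IsWeaklyRegular (A ⧸ J) (List.ofFn f)) (n N : ℕ) (hnN : n ≤ N) :
    J ⊓ Ideal.span (Set.range f) ^ n =
      J * Ideal.span (Set.range f) ^ n ⊔ J ⊓ Ideal.span (Set.range f) ^ N := by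
  set Rf : Ideal A := Ideal.span (Set.range f) with hRf
  apply le_antisymm
  · obtain ⟨k, rfl⟩ := Nat.exists_eq_add_of_le hnN
    clear hnN
    induction k with
    | zero => exact le_sup_right
    | succ k ih =>
      refine ih.trans (sup_le le_sup_left ?_)
      refine (inf_pow_le_step J f hf (n + k)).trans (sup_le ?_ ?_)
      · refine le_trans ?_ le_sup_left
        exact Ideal.mul_mono_right (Ideal.pow_le_pow_right (Nat.le_add_right n k))
      · rw [← add_assoc]
        exact le_sup_right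
  · refine sup_le (Ideal.mul_le_inf.trans le_rfl) ?_
    exact inf_le_inf_left _ (Ideal.pow_le_pow_right hnN)

/-- S3828 -/
theorem inf_pow_eq_mul [IsNoetherianRing A] (J : Ideal A) {r : ℕ} (f : Fin r → A)
    (hf : IsWeaklyRegular (A ⧸ J) (List.ofFn f))
    (hrad : Ideal.span (Set.range f) ≤ (⊥ : Ideal A).jacobson) :
    (∀ n : ℕ, 0 < n → J ⊓ Ideal.span (Set.range f) ^ n = J * Ideal.span (Set.range f) ^ n) ∧
      J ⊓ (J ⊔ Ideal.span (Set.range f)) ^ 2 = J * (J ⊔ Ideal.span (Set.range f)) := by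
  set Rf : Ideal A := Ideal.span (Set.range f) with hRf
  have key : ∀ n : ℕ, J ⊓ Rf ^ n = J * Rf ^ n := by
    intro n
    apply le_antisymm _ Ideal.mul_le_inf
    intro a ha
    -- the image of `a` in `A ⧸ J Rⁿ` lies in all `R^N • ⊤`
    have hkrull : (⨅ i : ℕ, Rf ^ i • ⊤ : Submodule A (A ⧸ (J * Rf ^ n))) = ⊥ :=
      Ideal.iInf_pow_smul_eq_bot_of_le_jacobson _ hrad
    have hmem : (Ideal.Quotient.mk (J * Rf ^ n) a : A ⧸ (J * Rf ^ n)) ∈
        (⨅ i : ℕ, Rf ^ i • ⊤ : Submodule A (A ⧸ (J * Rf ^ n))) := by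
      rw [Submodule.mem_iInf]
      intro N
      have h1 : a ∈ J * Rf ^ n ⊔ Rf ^ N := by
        by_cases hN : n ≤ N
        · have := (inf_pow_eq J f hf n N hN).le ha
          exact (sup_le_sup_left (inf_le_right : J ⊓ Rf ^ N ≤ Rf ^ N) (J * Rf ^ n)) this
        · exact Submodule.mem_sup_right (Ideal.pow_le_pow_right (by omega) ha.2)
      obtain ⟨u, hu, v, hv, rfl⟩ := Submodule.mem_sup.1 h1
      rw [map_add, Ideal.Quotient.eq_zero_iff_mem.2 hu, zero_add]
      have : (Ideal.Quotient.mk (J * Rf ^ n) v : A ⧸ (J * Rf ^ n)) =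
          v • (Ideal.Quotient.mk (J * Rf ^ n) 1 : A ⧸ (J * Rf ^ n)) := by
        rw [Algebra.smul_def, Ideal.Quotient.algebraMap_eq, ← map_mul, mul_one]
      rw [this]
      exact Submodule.smul_mem_smul hv Submodule.mem_top
    rw [hkrull, Submodule.mem_bot] at hmem
    exact Ideal.Quotient.eq_zero_iff_mem.1 hmem
  refine ⟨fun n _ => key n, ?_⟩
  set Q : Ideal A := J ⊔ Rf with hQ
  apply le_antisymm
  · rintro a ⟨haJ, haQ⟩
    have hQ2 : Q ^ 2 = J * Q ⊔ Rf ^ 2 := by
      rw [sq, sq]
      conv_lhs => rw [hQ, Ideal.sup_mul]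
      rw [← hQ]
      apply le_antisymm
      · refine sup_le le_sup_left ?_
        rw [hQ, Ideal.mul_sup]
        refine sup_le ?_ le_sup_right
        rw [mul_comm]
        exact le_trans (Ideal.mul_mono_right le_sup_right) le_sup_left
      · refine sup_le le_sup_left ?_
        exact le_trans (Ideal.mul_mono_right le_sup_right) le_sup_right
    rw [hQ2] at haQ
    obtain ⟨s, hs, t, ht, rfl⟩ := Submodule.mem_sup.1 haQ
    have htJ : t ∈ J := by
      have : t = (s + t) - s := by ring
      rw [this]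
      exact Ideal.sub_mem _ haJ (Ideal.mul_le_left hs)
    have ht2 : t ∈ J * Rf ^ 2 := by
      rw [← key 2]; exact ⟨htJ, ht⟩
    refine Ideal.add_mem _ hs ?_
    have hle : Rf ^ 2 ≤ Q := by
      rw [sq]
      exact le_trans Ideal.mul_le_right le_sup_right
    exact (Ideal.mul_mono_right hle) ht2
  · refine le_inf Ideal.mul_le_left ?_
    rw [sq]
    exact Ideal.mul_mono_left le_sup_left

end intersections




end Groth.Agent.QuasiReg
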