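import Mathlib
import Groth.Prelude.Def_CAlgX
import Groth.Agent.Lib.QuasiReg_helper5

/-!
# Quasi-regular sequences: independence of the choice of generators (helper1)
-/

set_option autoImplicit false
set_option maxHeartbeats 1000000

universe u

namespace Groth.Agent.Lib.QRegSpanH1

open MvPolynomial Groth.Agent.QuasiReg

section sub

variable {S : Type*} [CommRing S] {n : ℕ}

/-- linear substitution `X_i ↦ ∑_j M_ij X_j` -/
noncomputable def lsub (M : Matrix (Fin n) (Fin n) S) :
    MvPolynomial (Fin n) S →ₐ[S] MvPolynomial (Fin n) S :=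
  aeval (fun i => ∑ j, C (M i j) * X j)

theorem lsub_X (M : Matrix (Fin n) (Fin n) S) (i : Fin n) :
    lsub M (X i) = ∑ j, C (M i j) * X j := by
  unfold lsub; rw [aeval_X]

theorem lsub_C (M : Matrix (Fin n) (Fin n) S) (r : S) :
    lsub M (C r) = C r := by
  rw [algHom_C, algebraMap_eq]

theorem lsub_comp (M N : Matrix (Fin n) (Fin n) S) (p : MvPolynomial (Fin n) S) :
    lsub N (lsub M p) = lsub (M * N) p := by
  have h : (lsub N).comp (lsub M) = lsub (M * N) := by
    apply MvPolynomial.algHom_ext
    intro i
    rw [AlgHom.comp_apply, lsub_X, lsub_X, _root_.map_sum]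
    have h1 : ∀ j, lsub N (C (M i j) * X j) = ∑ l, C (M i j) * (C (N j l) * X l) := by
      intro j
      rw [_root_.map_mul, lsub_C, lsub_X, Finset.mul_sum]
    rw [Finset.sum_congr rfl (fun j _ => h1 j), Finset.sum_comm]
    refine Finset.sum_congr rfl fun l _ => ?_
    rw [Matrix.mul_apply, _root_.map_sum, Finset.sum_mul]
    refine Finset.sum_congr rfl fun j _ => ?_
    rw [C_mul, mul_assoc]
  exact AlgHom.congr_fun h p

theorem lsub_one (p : MvPolynomial (Fin n) S) :
    lsub (1 : Matrix (Fin n) (Fin n) S) p = p := by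
  have h : lsub (1 : Matrix (Fin n) (Fin n) S) = AlgHom.id S _ := by
    apply MvPolynomial.algHom_ext
    intro i
    rw [lsub_X, AlgHom.id_apply, Finset.sum_eq_single i]
    · rw [Matrix.one_apply_eq, C_1, one_mul]
    · intro j _ hj
      rw [Matrix.one_apply_ne (Ne.symm hj), C_0, zero_mul]
    · intro h; exact absurd (Finset.mem_univ i) h
  rw [h]; rfl

theorem lsub_isHomogeneous (M : Matrix (Fin n) (Fin n) S) {p : MvPolynomial (Fin n) S} {d : ℕ}
    (hp : p.IsHomogeneous d) : (lsub M p).IsHomogeneous d := by
  have h := hp.aeval (fun i => ∑ j, C (M i j) * X j) (n := 1)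
    (fun i => IsHomogeneous.sum _ _ _ fun j _ => (isHomogeneous_X S j).C_mul (M i j))
  rw [one_mul] at h
  exact h

theorem eval_lsub (M : Matrix (Fin n) (Fin n) S) (v : Fin n → S) (p : MvPolynomial (Fin n) S) :
    eval v (lsub M p) = eval (fun i => ∑ j, M i j * v j) p := by
  have h : (eval v).comp (lsub M).toRingHom = eval (fun i => ∑ j, M i j * v j) := by
    apply MvPolynomial.ringHom_ext
    · intro r
      show eval v (lsub M (C r)) = eval _ (C r)
      rw [lsub_C, eval_C, eval_C]
    · intro i
      show eval v (lsub M (X i)) = eval _ (X i)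
      rw [lsub_X, eval_X, _root_.map_sum]
      refine Finset.sum_congr rfl fun j _ => ?_
      rw [_root_.map_mul, eval_C, eval_X]
  exact RingHom.congr_fun h p

theorem map_lsub {T : Type*} [CommRing T] (π : S →+* T) (M : Matrix (Fin n) (Fin n) S)
    (p : MvPolynomial (Fin n) S) :
    map π (lsub M p) = lsub (M.map π) (map π p) := by
  have h : (map π).comp (lsub M).toRingHom = (lsub (M.map π)).toRingHom.comp (map π) := by
    apply MvPolynomial.ringHom_ext
    · intro r
      show map π (lsub M (C r)) = lsub (M.map π) (map π (C r))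
      rw [lsub_C, map_C, lsub_C]
    · intro i
      show map π (lsub M (X i)) = lsub (M.map π) (map π (X i))
      rw [lsub_X, map_X, lsub_X, _root_.map_sum]
      refine Finset.sum_congr rfl fun j _ => ?_
      rw [_root_.map_mul, map_C, map_X, Matrix.map_apply]
  exact RingHom.congr_fun h p

/-- the linear form `∑ c_l X_l` -/
noncomputable def linPoly (c : Fin n → S) : MvPolynomial (Fin n) S := ∑ l, C (c l) * X l

theorem linPoly_hom (c : Fin n → S) : (linPoly c).IsHomogeneous 1 :=
  IsHomogeneous.sum _ _ _ fun l _ => (isHomogeneous_X S l).C_mul (c l)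

theorem eval_linPoly (c v : Fin n → S) : eval v (linPoly c) = ∑ l, c l * v l := by
  unfold linPoly
  rw [_root_.map_sum]
  refine Finset.sum_congr rfl fun l _ => ?_
  rw [_root_.map_mul, eval_C, eval_X]

theorem coeff_linPoly (c : Fin n → S) (k : Fin n) :
    (linPoly c).coeff (Finsupp.single k 1) = c k := by
  classical
  unfold linPoly
  rw [coeff_sum]
  simp only [coeff_C_mul, coeff_X']
  rw [Finset.sum_eq_single k]
  · rw [if_pos rfl, mul_one]
  · intro l _ hl
    rw [if_neg, mul_zero]
    intro hs
    exact hl ((Finsupp.single_left_inj one_ne_zero).1 hs)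
  · intro hk; exact absurd (Finset.mem_univ k) hk

end sub

/-- S3824: a sequence of the same length generating the same ideal as a quasi-regular sequence
is quasi-regular. -/
theorem main3824 {A : Type u} [CommRing A] {n : ℕ} (f f' : Fin n → A)
    (hf : CAlgX.IsQuasiRegular f) (h : Ideal.span (Set.range f') = Ideal.span (Set.range f)) :
    CAlgX.IsQuasiRegular f' := by
  classical
  have ha : ∀ i, ∃ c : Fin n → A, ∑ j, c j * f j = f' i := by
    intro i
    have hm : f' i ∈ Ideal.span (Set.range f) := by
      rw [← h]; exact Ideal.subset_span (Set.mem_range_self i)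
    exact Ideal.mem_span_range_iff_exists_fun.1 hm
  have hb : ∀ j, ∃ c : Fin n → A, ∑ i, c i * f' i = f j := by
    intro j
    have hm : f j ∈ Ideal.span (Set.range f') := by
      rw [h]; exact Ideal.subset_span (Set.mem_range_self j)
    exact Ideal.mem_span_range_iff_exists_fun.1 hm
  choose a haf using ha
  choose b hbf using hb
  let Ma : Matrix (Fin n) (Fin n) A := Matrix.of a
  let Mb : Matrix (Fin n) (Fin n) A := Matrix.of b
  have hZ : ZForm f := ((isQuasiRegular_iff f).1 hf).zForm
  -- `b a ≡ 1` modulo `J`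
  have hBA : ∀ j k, (Mb * Ma) j k - (1 : Matrix (Fin n) (Fin n) A) j k ∈
      Ideal.span (Set.range f) := by
    intro j k
    have e1 : ∑ k, (∑ i, b j i * a i k) * f k = f j := by
      rw [← hbf j]
      simp only [Finset.sum_mul]
      rw [Finset.sum_comm]
      refine Finset.sum_congr rfl fun i _ => ?_
      rw [← haf i, Finset.mul_sum]
      refine Finset.sum_congr rfl fun k _ => ?_
      ring
    have e2 : ∑ k, (1 : Matrix (Fin n) (Fin n) A) j k * f k = f j := by
      simp [Matrix.one_apply]
    have hev : eval f (linPoly fun k => (Mb * Ma) j k - (1 : Matrix (Fin n) (Fin n) A) j k) = 0 := by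
      rw [eval_linPoly]
      simp only [sub_mul, Finset.sum_sub_distrib]
      rw [e2]
      have : ∑ k, (Mb * Ma) j k * f k = f j := by
        rw [← e1]
        refine Finset.sum_congr rfl fun k _ => ?_
        rw [Matrix.mul_apply]
        rfl
      rw [this, sub_self]
    have := hZ 1 _ (linPoly_hom _) hev (Finsupp.single k 1)
    rwa [coeff_linPoly] at this
  have hπ : (Mb.map (Ideal.Quotient.mk (Ideal.span (Set.range f)))) *
      (Ma.map (Ideal.Quotient.mk (Ideal.span (Set.range f)))) = 1 := by
    rw [← Matrix.map_mul]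
    ext j k
    rw [Matrix.map_apply]
    have h1 := hBA j k
    rw [← Ideal.Quotient.eq_zero_iff_mem, _root_.map_sub, sub_eq_zero] at h1
    rw [h1]
    by_cases hjk : j = k
    · subst hjk; rw [Matrix.one_apply_eq, Matrix.one_apply_eq, _root_.map_one]
    · rw [Matrix.one_apply_ne hjk, Matrix.one_apply_ne hjk, _root_.map_zero]
  have hπ' : (Ma.map (Ideal.Quotient.mk (Ideal.span (Set.range f)))) *
      (Mb.map (Ideal.Quotient.mk (Ideal.span (Set.range f)))) = 1 :=
    mul_eq_one_comm.1 hπ
  have hZ' : ZForm f' := by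
    intro d P hP hev e
    have hQ : (lsub Ma P).IsHomogeneous d := lsub_isHomogeneous Ma hP
    have hQev : eval f (lsub Ma P) = 0 := by
      rw [eval_lsub]
      have hfun : (fun i => ∑ j, Ma i j * f j) = f' := funext fun i => haf i
      rw [hfun]; exact hev
    have hQc := hZ d _ hQ hQev
    have hmapQ : map (Ideal.Quotient.mk (Ideal.span (Set.range f))) (lsub Ma P) = 0 := by
      ext m
      rw [coeff_map, coeff_zero]
      exact Ideal.Quotient.eq_zero_iff_mem.2 (hQc m)
    have hP0 : map (Ideal.Quotient.mk (Ideal.span (Set.range f))) P = 0 := by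
      rw [← lsub_one (map (Ideal.Quotient.mk (Ideal.span (Set.range f))) P), ← hπ', ← lsub_comp,
        ← map_lsub, hmapQ, _root_.map_zero]
    have h2 := congrArg (coeff e) hP0
    rw [coeff_map, coeff_zero] at h2
    rw [h]
    exact Ideal.Quotient.eq_zero_iff_mem.1 h2
  exact (isQuasiRegular_iff f').2 hZ'.qr

section cot

variable {A : Type u} [CommRing A] (I : Ideal A) {m : ℕ} (f : Fin m → I)

theorem coe_sum_smul (c : Fin m → A) :
    ((∑ i, c i • f i : I) : A) = ∑ i, c i * (f i : A) := by
  rw [Submodule.coe_sum]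
  refine Finset.sum_congr rfl fun i _ => ?_
  rw [Submodule.coe_smul, smul_eq_mul]

theorem cot_sum (c : Fin m → A) :
    ∑ i, (Ideal.Quotient.mk I (c i)) • I.toCotangent (f i) = I.toCotangent (∑ i, c i • f i) := by
  rw [_root_.map_sum]
  refine Finset.sum_congr rfl fun i _ => ?_
  rw [_root_.map_smul, ← Ideal.Quotient.algebraMap_eq, algebraMap_smul]

theorem basis_of_qr (hqr : CAlgX.IsQuasiRegular (fun i => (f i : A)))
    (hsp : Ideal.span (Set.range fun i => (f i : A)) = I) :
    LinearIndependent (A ⧸ I) (fun i => I.toCotangent (f i)) ∧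
      Submodule.span (A ⧸ I) (Set.range fun i => I.toCotangent (f i)) = ⊤ := by
  constructor
  · rw [Fintype.linearIndependent_iff]
    intro g hg i
    choose c hc using fun i => Ideal.Quotient.mk_surjective (g i)
    have h1 : ∑ i, g i • I.toCotangent (f i) = I.toCotangent (∑ i, c i • f i) := by
      rw [← cot_sum]
      refine Finset.sum_congr rfl fun i _ => ?_
      rw [hc i]
    rw [h1, Ideal.toCotangent_eq_zero, coe_sum_smul] at hg
    have hev : eval (fun i => (f i : A)) (linPoly c) ∈
        Ideal.span (Set.range fun i => (f i : A)) ^ (1 + 1) := by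
      rw [eval_linPoly, hsp]
      exact hg
    have h2 := hqr 1 _ (linPoly_hom c) hev (Finsupp.single i 1)
    rw [coeff_linPoly, hsp] at h2
    rw [← hc i]
    exact Ideal.Quotient.eq_zero_iff_mem.2 h2
  · rw [eq_top_iff]
    intro x _
    obtain ⟨y, rfl⟩ := I.toCotangent_surjective x
    have hy : (y : A) ∈ Ideal.span (Set.range fun i => (f i : A)) := by rw [hsp]; exact y.2
    obtain ⟨c, hc⟩ := Ideal.mem_span_range_iff_exists_fun.1 hy
    have hy' : y = ∑ i, c i • f i := by
      apply Subtype.ext
      rw [coe_sum_smul, hc]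
    rw [hy', ← cot_sum]
    refine Submodule.sum_mem _ fun i _ => ?_
    exact Submodule.smul_mem _ _ (Submodule.subset_span (Set.mem_range_self i))

end cot

/-- S3825 -/
theorem main3825 {A : Type u} [CommRing A] [IsLocalRing A]
    (I : Ideal A) (hI : I ≤ IsLocalRing.maximalIdeal A)
    (hq : ∃ (r : ℕ) (g : Fin r → A), CAlgX.IsQuasiRegular g ∧ Ideal.span (Set.range g) = I)
    {m : ℕ} (f : Fin m → I) :
    (CAlgX.IsQuasiRegular (fun i => (f i : A)) ∧ Ideal.span (Set.range fun i => (f i : A)) = I) ↔
      (LinearIndependent (A ⧸ I) (fun i => I.toCotangent (f i)) ∧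
        Submodule.span (A ⧸ I) (Set.range fun i => I.toCotangent (f i)) = ⊤) := by
  constructor
  · rintro ⟨hqr, hsp⟩
    exact basis_of_qr I f hqr hsp
  · rintro ⟨hli, hspan⟩
    obtain ⟨r, g, hg, hgI⟩ := hq
    have hgmem : ∀ i, g i ∈ I := fun i => by
      rw [← hgI]; exact Ideal.subset_span (Set.mem_range_self i)
    let g' : Fin r → I := fun i => ⟨g i, hgmem i⟩
    have hg' : CAlgX.IsQuasiRegular (fun i => ((g' i : I) : A)) := hg
    have hsp' : Ideal.span (Set.range fun i => ((g' i : I) : A)) = I := hgI
    obtain ⟨hli', hspan'⟩ := basis_of_qr I g' hg' hsp'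
    have hne : I ≠ ⊤ := by
      intro htop
      have : IsLocalRing.maximalIdeal A = ⊤ := top_le_iff.1 (htop ▸ hI)
      exact (IsLocalRing.maximalIdeal.isMaximal A).ne_top this
    have : Nontrivial (A ⧸ I) := Ideal.Quotient.nontrivial_iff.2 hne
    let b1 := Module.Basis.mk hli hspan.ge
    let b2 := Module.Basis.mk hli' hspan'.ge
    have hcard : m = r := by
      have e := (Module.finrank_eq_card_basis b1).symm.trans (Module.finrank_eq_card_basis b2)
      simpa using e
    -- Nakayama
    have hle : Ideal.span (Set.range fun i => (f i : A)) ≤ I := by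
      rw [Ideal.span_le]
      rintro _ ⟨i, rfl⟩
      exact (f i).2
    have hfg : (I : Submodule A A).FG := by
      rw [← hgI]; exact Submodule.fg_span (Set.finite_range g)
    have hjac : I ≤ Ideal.jacobson ⊥ := hI.trans (IsLocalRing.maximalIdeal_le_jacobson ⊥)
    have hsub : I ≤ Ideal.span (Set.range fun i => (f i : A)) ⊔ I • I := by
      intro y hy
      have hmem : I.toCotangent ⟨y, hy⟩ ∈
          Submodule.span (A ⧸ I) (Set.range fun i => I.toCotangent (f i)) := by
        rw [hspan]; trivial
      obtain ⟨cq, hcq⟩ := (Submodule.mem_span_range_iff_exists_fun (A ⧸ I)).1 hmem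
      choose c hc using fun i => Ideal.Quotient.mk_surjective (cq i)
      have h1 : I.toCotangent (∑ i, c i • f i) = I.toCotangent ⟨y, hy⟩ := by
        rw [← hcq, ← cot_sum]
        refine Finset.sum_congr rfl fun i _ => ?_
        rw [hc i]
      rw [Ideal.toCotangent_eq, coe_sum_smul] at h1
      have h2 : y = ∑ i, c i * (f i : A) - (∑ i, c i * (f i : A) - y) := by ring
      rw [h2]
      refine Submodule.sub_mem _ (Submodule.mem_sup_left ?_) (Submodule.mem_sup_right ?_)
      · exact Ideal.sum_mem _ fun i _ =>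
          Ideal.mul_mem_left _ _ (Ideal.subset_span (Set.mem_range_self i))
      · rw [Ideal.smul_eq_mul, ← pow_two]
        exact h1
    have hge : I ≤ Ideal.span (Set.range fun i => (f i : A)) :=
      Submodule.le_of_le_smul_of_le_jacobson_bot hfg hjac hsub
    have hspf : Ideal.span (Set.range fun i => (f i : A)) = I := le_antisymm hle hge
    refine ⟨?_, hspf⟩
    subst hcard
    exact main3824 g (fun i => (f i : A)) hg (hspf.trans hgI.symm)

end Groth.Agent.Lib.QRegSpanH1
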