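import Mathlib
import Groth.Agent.Lib.SymPow_helper1

/-! Symmetric powers of free modules vs polynomials, universe-general index set (helper1). -/

set_option autoImplicit false
set_option maxHeartbeats 1000000

universe u v w

open TensorProduct

namespace Groth.Agent.Lib.SymPowUH1

open Groth.Agent.Lib.SymPowH1 (hom_ext prodMap prodMap_tprod exists_enum_fin map map_tprod lift lift_tprod)

section Free

variable {R ι : Type u} [CommRing R] [Fintype ι] (X : Type w)
/-- linear forms -/
noncomputable def lin : (X →₀ R) →ₗ[R] MvPolynomial X R :=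
  Finsupp.linearCombination R (MvPolynomial.X : X → MvPolynomial X R)

theorem lin_single (x : X) : lin (R := R) X (Finsupp.single x 1) = MvPolynomial.X x := by
  rw [lin, Finsupp.linearCombination_single, one_smul]

theorem exists_enum (α : X →₀ ℕ) (h : α.degree = Fintype.card ι) :
    ∃ y : ι → X, ∑ i, Finsupp.single (y i) 1 = α := by
  obtain ⟨y, hy⟩ := exists_enum_fin X (Fintype.card ι) α h
  refine ⟨fun i => y (Fintype.equivFin ι i), ?_⟩
  rw [← hy]
  exact Equiv.sum_comp (Fintype.equivFin ι) (fun j => Finsupp.single (y j) 1)

theorem exists_perm_of_sum_single_eq (x y : ι → X)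
    (h : ∑ i, Finsupp.single (x i) (1 : ℕ) = ∑ i, Finsupp.single (y i) 1) :
    ∃ σ : Equiv.Perm ι, ∀ i, y (σ i) = x i := by
  classical
  have hc : ∀ c : X, Fintype.card {i // x i = c} = Fintype.card {i // y i = c} := by
    intro c
    have h1 := DFunLike.congr_fun h c
    rw [Finsupp.finset_sum_apply, Finsupp.finset_sum_apply] at h1
    simp only [Finsupp.single_apply, Finset.sum_boole, Nat.cast_id] at h1
    rw [Fintype.card_subtype, Fintype.card_subtype]
    exact h1
  exact ⟨Equiv.ofFiberEquiv (fun c => Fintype.equivOfCardEq (hc c)),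
    fun i => Equiv.ofFiberEquiv_map _ i⟩

/-- a chosen enumeration of a multi-index of the right degree -/
noncomputable def enum (α : X →₀ ℕ) (h : α.degree = Fintype.card ι) : ι → X :=
  Classical.choose (exists_enum (ι := ι) X α h)

theorem enum_spec (α : X →₀ ℕ) (h : α.degree = Fintype.card ι) :
    ∑ i, Finsupp.single (enum (ι := ι) X α h i) 1 = α :=
  Classical.choose_spec (exists_enum (ι := ι) X α h)

open Classical in
/-- the value of the retraction on a monomial -/
noncomputable def lamFun (α : X →₀ ℕ) : Sym[R] ι (X →₀ R) :=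
  if h : α.degree = Fintype.card ι then
    SymmetricPower.tprod R (fun i => Finsupp.single (enum (ι := ι) X α h i) (1 : R)) else 0

/-- the retraction from polynomials to the symmetric power of the free module -/
noncomputable def lam : MvPolynomial X R →ₗ[R] Sym[R] ι (X →₀ R) :=
  (MvPolynomial.basisMonomials X R).constr R (lamFun (R := R) (ι := ι) X)

theorem lam_monomial (α : X →₀ ℕ) (c : R) :
    lam (ι := ι) X (MvPolynomial.monomial α c) = c • lamFun (R := R) (ι := ι) X α := by
  have : MvPolynomial.monomial α c = c • (MvPolynomial.basisMonomials X R α) := by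
    rw [MvPolynomial.coe_basisMonomials, MvPolynomial.smul_monomial, smul_eq_mul, mul_one]
  rw [this, map_smul, lam, Module.Basis.constr_basis]

theorem lam_eq_zero_of_mem (p : MvPolynomial X R)
    (hp : p ∈ MvPolynomial.idealOfVars X R ^ (Fintype.card ι + 1)) : lam (ι := ι) X p = 0 := by
  rw [MvPolynomial.mem_pow_idealOfVars_iff'] at hp
  rw [← MvPolynomial.support_sum_monomial_coeff p, map_sum]
  apply Finset.sum_eq_zero
  intro v hv
  rw [lam_monomial]
  have hne : ¬ (v.degree = Fintype.card ι) := by
    intro hd
    exact (MvPolynomial.mem_support_iff.mp hv) (hp v (by rw [hd]; exact Nat.lt_succ_self _))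
  rw [lamFun, dif_neg hne, smul_zero]

theorem lam_prodMap_lin :
    (lam (R := R) (ι := ι) X) ∘ₗ (prodMap (lin X)) = LinearMap.id := by
  apply hom_ext
  intro f
  have key : ((lam (R := R) (ι := ι) X) ∘ₗ (prodMap (lin X))).compMultilinearMap
      (SymmetricPower.tprod R) = SymmetricPower.tprod R := by
    apply Module.Basis.ext_multilinear (fun _ => Finsupp.basisSingleOne)
    intro v
    simp only [LinearMap.compMultilinearMap_apply, LinearMap.comp_apply, prodMap_tprod,
      Finsupp.coe_basisSingleOne, lin_single]
    have h1 : ∏ i, (MvPolynomial.X (v i) : MvPolynomial X R) =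
        MvPolynomial.monomial (∑ i, Finsupp.single (v i) 1) 1 := by
      rw [MvPolynomial.monomial_sum_one]
      rfl
    rw [h1, lam_monomial, one_smul]
    have hd : (∑ i, Finsupp.single (v i) 1 : X →₀ ℕ).degree = Fintype.card ι := by
      rw [map_sum]
      simp [Finsupp.degree_single]
    rw [lamFun, dif_pos hd]
    obtain ⟨σ, hσ⟩ := exists_perm_of_sum_single_eq X v (enum X _ hd) ((enum_spec X _ hd).symm)
    rw [← SymmetricPower.tprod_equiv σ]
    congr 1
    funext i
    rw [hσ i]
  have h2 := congrArg (fun F => F f) key
  simpa using h2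

end Free

end Groth.Agent.Lib.SymPowUH1
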