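import Mathlib
import Groth.Prelude.Def_PP16
import Groth.Agent.Lib.SymPowU_helper1
import Groth.Agent.Lib.PP16Smooth_helper1
import Groth.Agent.Lib.QRegSpan_helper1

/-! The canonical map `Sym^n(J/J²) → J^n/J^(n+1)` for an ideal `J`, and its comparison with
polynomials in a family of elements of `J` (helper1). -/

set_option autoImplicit false
set_option maxHeartbeats 1000000

universe u

open TensorProduct

namespace Groth.Agent.Lib.QRegSymH1

open Groth.Agent.Lib.SymPowH1 (hom_ext prodMap prodMap_tprod map map_tprod lift lift_tprod)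
open Groth.Agent.Lib.PP16SmoothH1 (prod_sub_prod_mem)
open Groth.Agent.Lib

section Gen

variable (R : Type u) [CommRing R] (J : Ideal R) {ι : Type u} [Fintype ι]

/-- class of a product of elements of the ideal -/
noncomputable def prodClsJ (y : ι → J) : PP16.grJ R J (Fintype.card ι) :=
  Submodule.Quotient.mk ⟨∏ i, (y i : R), by
    simpa using PP16.prod_mem_pow J Finset.univ (fun i => (y i : R)) (fun i _ => (y i).2)⟩

theorem zetaJ_eq (y : ι → J) : PP16.zetaJ R J y = prodClsJ R J y := rfl

theorem prodClsJ_congr (y y' : ι → J) (h : ∀ i, J.toCotangent (y i) = J.toCotangent (y' i)) :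
    prodClsJ R J y = prodClsJ R J y' := by
  rw [prodClsJ, prodClsJ, Submodule.Quotient.eq, Submodule.mem_comap]
  show (∏ i, (y i : R)) - ∏ i, (y' i : R) ∈ J ^ (Fintype.card ι + 1)
  have := prod_sub_prod_mem J Finset.univ (fun i => (y i : R)) (fun i => (y' i : R))
    (fun i _ => (y i).2) (fun i _ => (y' i).2) (fun i _ => (Ideal.toCotangent_eq J).mp (h i))
  rwa [Finset.card_univ] at this

theorem prodClsJ_perm (y : ι → J) (e : Equiv.Perm ι) :
    prodClsJ R J (fun i => y (e i)) = prodClsJ R J y := by
  rw [prodClsJ, prodClsJ]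
  congr 1
  apply Subtype.ext
  exact Equiv.prod_comp e (fun i => (y i : R))

omit [Fintype ι] in
theorem coe_updateJ [DecidableEq ι] (y : ι → J) (i : ι) (v : J) (k : ι) :
    ((Function.update y i v k : J) : R) = Function.update (fun k => (y k : R)) i (v : R) k := by
  by_cases hk : k = i
  · subst hk
    rw [Function.update_self, Function.update_self]
  · rw [Function.update_of_ne hk, Function.update_of_ne hk]

theorem prodClsJ_update_add [DecidableEq ι] (y : ι → J) (i : ι) (a b : J) :
    prodClsJ R J (Function.update y i (a + b)) =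
      prodClsJ R J (Function.update y i a) + prodClsJ R J (Function.update y i b) := by
  rw [prodClsJ, prodClsJ, prodClsJ, ← Submodule.Quotient.mk_add]
  congr 1
  apply Subtype.ext
  show ∏ k, ((Function.update y i (a + b) k : J) : R) =
    (∏ k, ((Function.update y i a k : J) : R)) + ∏ k, ((Function.update y i b k : J) : R)
  simp only [coe_updateJ]
  rw [Finset.prod_update_of_mem (Finset.mem_univ i), Finset.prod_update_of_mem (Finset.mem_univ i),
    Finset.prod_update_of_mem (Finset.mem_univ i), Submodule.coe_add, add_mul]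

theorem prodClsJ_update_smul [DecidableEq ι] (y : ι → J) (i : ι) (c : R) (a : J) :
    prodClsJ R J (Function.update y i (c • a)) = c • prodClsJ R J (Function.update y i a) := by
  rw [prodClsJ, prodClsJ, ← Submodule.Quotient.mk_smul]
  congr 1
  apply Subtype.ext
  show ∏ k, ((Function.update y i (c • a) k : J) : R) =
    c • ∏ k, ((Function.update y i a k : J) : R)
  simp only [coe_updateJ]
  rw [Finset.prod_update_of_mem (Finset.mem_univ i), Finset.prod_update_of_mem (Finset.mem_univ i),
    Submodule.coe_smul, smul_eq_mul, smul_eq_mul, mul_assoc]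

/-- a set-theoretic section of `J → J/J²` -/
noncomputable def outJ (m : J.Cotangent) : J := Function.surjInv J.toCotangent_surjective m

theorem toCotangent_outJ (m : J.Cotangent) : J.toCotangent (outJ R J m) = m :=
  Function.surjInv_eq _ m

omit [Fintype ι] in
theorem outJ_update [DecidableEq ι] (ω : ι → J.Cotangent) (i : ι) (v : J.Cotangent) :
    (fun k => outJ R J (Function.update ω i v k)) =
      Function.update (fun k => outJ R J (ω k)) i (outJ R J v) := by
  funext k
  by_cases hk : k = i
  · subst hk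
    rw [Function.update_self, Function.update_self]
  · rw [Function.update_of_ne hk, Function.update_of_ne hk]

/-- the symmetric multilinear map `(m_i) ↦ [∏ m_i]` -/
noncomputable def mMulJ :
    MultilinearMap R (fun _ : ι => J.Cotangent) (PP16.grJ R J (Fintype.card ι)) where
  toFun ω := prodClsJ R J (fun i => outJ R J (ω i))
  map_update_add' := by
    intro _ ω i a b
    simp only [outJ_update]
    rw [← prodClsJ_update_add]
    apply prodClsJ_congr
    intro k
    by_cases hk : k = i
    · subst hk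
      simp only [Function.update_self]
      rw [toCotangent_outJ, map_add, toCotangent_outJ, toCotangent_outJ]
    · simp only [Function.update_of_ne hk]
  map_update_smul' := by
    intro _ ω i c a
    simp only [outJ_update]
    rw [← prodClsJ_update_smul]
    apply prodClsJ_congr
    intro k
    by_cases hk : k = i
    · subst hk
      simp only [Function.update_self]
      rw [toCotangent_outJ, map_smul, toCotangent_outJ]
    · simp only [Function.update_of_ne hk]

/-- the canonical map `Sym^n (J/J²) → J^n / J^(n+1)` -/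
noncomputable def phiJ : Sym[R] ι J.Cotangent →ₗ[R] PP16.grJ R J (Fintype.card ι) :=
  lift (mMulJ R J) (fun e ω => show mMulJ R J (fun i => ω (e i)) = mMulJ R J ω from
    prodClsJ_perm R J (fun i => outJ R J (ω i)) e)

theorem phiJ_tprod (ω : ι → J.Cotangent) :
    phiJ R J (SymmetricPower.tprod R ω) = prodClsJ R J (fun i => outJ R J (ω i)) := by
  rw [phiJ, lift_tprod]
  rfl

theorem phiJ_tprod_cot (y : ι → J) :
    phiJ R J (SymmetricPower.tprod R (fun i => J.toCotangent (y i))) = prodClsJ R J y := by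
  rw [phiJ_tprod]
  apply prodClsJ_congr
  intro i
  rw [toCotangent_outJ]

theorem eq_phiJ (φ : Sym[R] ι J.Cotangent →ₗ[R] PP16.grJ R J (Fintype.card ι))
    (h : ∀ x : ι → J,
      φ (SymmetricPower.tprod R (fun i => J.toCotangent (x i))) = PP16.zetaJ R J x) :
    φ = phiJ R J := by
  apply hom_ext
  intro m
  obtain ⟨y, rfl⟩ : ∃ y : ι → J, m = fun i => J.toCotangent (y i) :=
    ⟨fun i => outJ R J (m i), by funext i; rw [toCotangent_outJ]⟩
  rw [h y, phiJ_tprod_cot]
  rfl

/-- products of `n` elements of `J` -/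
def ZsetJ (n : ℕ) : Set R := {x | ∃ y : Fin n → J, x = ∏ k, (y k : R)}

theorem pow_le_span : ∀ n : ℕ, (J ^ n : Ideal R) ≤ Submodule.span R (ZsetJ R J n) := by
  intro n
  induction n with
  | zero =>
    intro x _
    have : x = x • (1 : R) := by rw [smul_eq_mul, mul_one]
    rw [this]
    exact Submodule.smul_mem _ _ (Submodule.subset_span ⟨Fin.elim0, by simp⟩)
  | succ n ih =>
    intro x hx
    rw [pow_succ'] at hx
    refine Submodule.mul_induction_on hx ?_ ?_
    · intro a ha z hz
      have hz' := ih hz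
      clear hz
      induction hz' using Submodule.span_induction with
      | mem w hw =>
        obtain ⟨y, rfl⟩ := hw
        refine Submodule.subset_span ⟨(Fin.cons (⟨a, ha⟩ : J) y : Fin (n + 1) → J), ?_⟩
        rw [Fin.prod_univ_succ, Fin.cons_zero]
        simp only [Fin.cons_succ]
      | zero => rw [mul_zero]; exact zero_mem _
      | add u v _ _ hu hv => rw [mul_add]; exact add_mem hu hv
      | smul c u _ hu => rw [mul_smul_comm]; exact Submodule.smul_mem _ c hu
    · intro u v hu hv
      exact add_mem hu hv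

theorem phiJ_surjective : Function.Surjective (phiJ R J (ι := ι)) := by
  intro q
  obtain ⟨⟨x, hx⟩, rfl⟩ := Submodule.Quotient.mk_surjective _ q
  have key : ∀ y ∈ Submodule.span R (ZsetJ R J (Fintype.card ι)),
      ∃ hy' : y ∈ J ^ Fintype.card ι,
        (Submodule.Quotient.mk ⟨y, hy'⟩ : PP16.grJ R J (Fintype.card ι)) ∈
          LinearMap.range (phiJ R J (ι := ι)) := by
    intro y hy
    induction hy using Submodule.span_induction with
    | mem z hz =>
      obtain ⟨b, rfl⟩ := hz
      have hz' : ∏ k, (b k : R) = ∏ i : ι, (b (Fintype.equivFin ι i) : R) :=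
        (Equiv.prod_comp (Fintype.equivFin ι) (fun k => (b k : R))).symm
      rw [hz']
      refine ⟨?_, SymmetricPower.tprod R
        (fun i => J.toCotangent (b (Fintype.equivFin ι i))), ?_⟩
      · have := PP16.prod_mem_pow J Finset.univ
          (fun i : ι => (b (Fintype.equivFin ι i) : R)) (fun i _ => (b _).2)
        simpa using this
      · rw [phiJ_tprod_cot]
        rfl
    | zero => exact ⟨zero_mem _, ⟨0, by rw [map_zero]; rfl⟩⟩
    | add u v _ _ hu hv =>
      obtain ⟨hu', a, ha⟩ := hu
      obtain ⟨hv', b, hb⟩ := hv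
      exact ⟨add_mem hu' hv', a + b, by rw [map_add, ha, hb]; rfl⟩
    | smul c u _ hu =>
      obtain ⟨hu', a, ha⟩ := hu
      exact ⟨Submodule.smul_mem _ c hu', c • a, by rw [map_smul, ha]; rfl⟩
  obtain ⟨hy', u, hu⟩ := key x (pow_le_span R J _ hx)
  exact ⟨u, hu⟩

theorem smul_eq_zero_of_mem [Nonempty ι] (a : R) (ha : a ∈ J) (u : Sym[R] ι J.Cotangent) :
    a • u = 0 := by
  classical
  have hu : u ∈ (⊤ : Submodule R (Sym[R] ι J.Cotangent)) := trivial
  rw [← SymmetricPower.span_tprod_eq_top R ι J.Cotangent] at hu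
  induction hu using Submodule.span_induction with
  | mem z hz =>
    obtain ⟨m, rfl⟩ := hz
    obtain ⟨i0⟩ := ‹Nonempty ι›
    have h1 : a • SymmetricPower.tprod R m =
        SymmetricPower.tprod R (Function.update m i0 (a • m i0)) := by
      rw [MultilinearMap.map_update_smul, Function.update_eq_self]
    rw [h1]
    have h2 : a • m i0 = 0 := by
      obtain ⟨y, hy⟩ := J.toCotangent_surjective (m i0)
      rw [← hy, ← map_smul, Ideal.toCotangent_eq_zero, Submodule.coe_smul, smul_eq_mul, pow_two]
      exact Ideal.mul_mem_mul ha y.2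
    rw [h2]
    exact (SymmetricPower.tprod R).map_coord_zero i0 (Function.update_self ..)
  | zero => rw [smul_zero]
  | add u v _ _ hu hv => rw [smul_add, hu, hv, add_zero]
  | smul c u _ hu => rw [smul_comm, hu, smul_zero]

/-- the inclusion `J^n/J^(n+1) → R/J^(n+1)` -/
noncomputable def jJ (n : ℕ) : PP16.grJ R J n →ₗ[R] R ⧸ J ^ (n + 1) :=
  Submodule.liftQ _
    ((Ideal.Quotient.mkₐ R (J ^ (n + 1))).toLinearMap ∘ₗ (J ^ n).subtype)
    (by
      intro x hx
      rw [LinearMap.mem_ker, LinearMap.comp_apply]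
      exact Ideal.Quotient.eq_zero_iff_mem.mpr hx)

theorem jJ_mk (n : ℕ) (x : R) (hx : x ∈ J ^ n) :
    jJ R J n (Submodule.Quotient.mk ⟨x, hx⟩) = Ideal.Quotient.mk (J ^ (n + 1)) x := rfl

theorem jJ_prodClsJ (y : ι → J) :
    jJ R J (Fintype.card ι) (prodClsJ R J y) =
      Ideal.Quotient.mk (J ^ (Fintype.card ι + 1)) (∏ i, (y i : R)) := rfl

theorem jJ_injective (n : ℕ) : Function.Injective (jJ R J n) := by
  rw [injective_iff_map_eq_zero]
  intro q hq
  obtain ⟨⟨x, hx⟩, rfl⟩ := Submodule.Quotient.mk_surjective _ q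
  rw [jJ_mk, Ideal.Quotient.eq_zero_iff_mem] at hq
  rw [Submodule.Quotient.mk_eq_zero, Submodule.mem_comap]
  exact hq

end Gen

section Poly

variable (R : Type u) [CommRing R] (J : Ideal R) {ι : Type u} [Fintype ι] {r : ℕ}
  (j : Fin r → R) (hj : ∀ k, j k ∈ J)

/-- linear combinations of the `j k`, as elements of `J` -/
noncomputable def lcJ' : (Fin r →₀ R) →ₗ[R] J :=
  Finsupp.linearCombination R (fun k => (⟨j k, hj k⟩ : J))

theorem coe_lcJ' (v : Fin r →₀ R) :
    ((lcJ' R J j hj v : J) : R) = Finsupp.linearCombination R j v := by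
  have h := Finsupp.apply_linearCombination R J.subtype (fun k => (⟨j k, hj k⟩ : J)) v
  exact h

/-- linear combinations of the classes of the `j k` -/
noncomputable def lcJ : (Fin r →₀ R) →ₗ[R] J.Cotangent := J.toCotangent ∘ₗ lcJ' R J j hj

theorem lcJ_single (k : Fin r) :
    lcJ R J j hj (Finsupp.single k 1) = J.toCotangent ⟨j k, hj k⟩ := by
  rw [lcJ, LinearMap.comp_apply, lcJ', Finsupp.linearCombination_single, one_smul]

/-- `Sym^n(R^r) → Sym^n(J/J²)` -/
noncomputable def Xi : Sym[R] ι (Fin r →₀ R) →ₗ[R] Sym[R] ι J.Cotangent := map (lcJ R J j hj)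

/-- `Sym^n(R^r) → R[X_1..X_r]` -/
noncomputable def Kp : Sym[R] ι (Fin r →₀ R) →ₗ[R] MvPolynomial (Fin r) R :=
  prodMap (SymPowUH1.lin (R := R) (Fin r))

theorem aeval_lin : (MvPolynomial.aeval j).toLinearMap ∘ₗ SymPowUH1.lin (R := R) (Fin r) =
    Finsupp.linearCombination R j := by
  apply Finsupp.lhom_ext'
  intro k
  apply LinearMap.ext_ring
  simp only [LinearMap.coe_comp, Function.comp_apply, Finsupp.lsingle_apply, SymPowUH1.lin_single,
    AlgHom.toLinearMap_apply, MvPolynomial.aeval_X, Finsupp.linearCombination_single, one_smul]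

theorem aeval_lin_apply (v : Fin r →₀ R) :
    MvPolynomial.aeval j (SymPowUH1.lin (R := R) (Fin r) v) = Finsupp.linearCombination R j v :=
  LinearMap.congr_fun (aeval_lin R j) v

theorem jJ_phiJ_Xi (w : Sym[R] ι (Fin r →₀ R)) :
    jJ R J (Fintype.card ι) (phiJ R J (Xi R J j hj w)) =
      Ideal.Quotient.mk (J ^ (Fintype.card ι + 1)) (MvPolynomial.aeval j (Kp R w)) := by
  have h : (jJ R J (Fintype.card ι)) ∘ₗ (phiJ R J) ∘ₗ (Xi R J j hj (ι := ι)) =
      (Ideal.Quotient.mkₐ R (J ^ (Fintype.card ι + 1))).toLinearMap ∘ₗ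
        (MvPolynomial.aeval j).toLinearMap ∘ₗ Kp R := by
    apply hom_ext
    intro v
    have h1 : (fun i => lcJ R J j hj (v i)) = fun i => J.toCotangent (lcJ' R J j hj (v i)) := rfl
    have e1 : jJ R J (Fintype.card ι) (phiJ R J (Xi R J j hj (SymmetricPower.tprod R v))) =
        Ideal.Quotient.mk (J ^ (Fintype.card ι + 1)) (∏ i, ((lcJ' R J j hj (v i) : J) : R)) := by
      rw [Xi, map_tprod, h1, phiJ_tprod_cot, jJ_prodClsJ]
    have e2 : MvPolynomial.aeval j (Kp R (SymmetricPower.tprod R v)) =
        ∏ i, ((lcJ' R J j hj (v i) : J) : R) := by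
      rw [Kp, prodMap_tprod, map_prod]
      refine Finset.prod_congr rfl fun i _ => ?_
      rw [coe_lcJ', aeval_lin_apply]
    show jJ R J _ (phiJ R J (Xi R J j hj (SymmetricPower.tprod R v))) =
      Ideal.Quotient.mk _ (MvPolynomial.aeval j (Kp R (SymmetricPower.tprod R v)))
    rw [e1, e2]
  exact LinearMap.congr_fun h w

theorem lin_mem (v : Fin r →₀ R) :
    SymPowUH1.lin (R := R) (Fin r) v ∈ MvPolynomial.homogeneousSubmodule (Fin r) R 1 := by
  rw [SymPowUH1.lin, Finsupp.linearCombination_apply, Finsupp.sum]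
  refine Submodule.sum_mem _ fun k _ => ?_
  exact Submodule.smul_mem _ _
    ((MvPolynomial.mem_homogeneousSubmodule 1 _).mpr (MvPolynomial.isHomogeneous_X R k))

theorem Kp_isHomogeneous (w : Sym[R] ι (Fin r →₀ R)) :
    (Kp R w).IsHomogeneous (Fintype.card ι) := by
  rw [← MvPolynomial.mem_homogeneousSubmodule]
  have hw : w ∈ (⊤ : Submodule R (Sym[R] ι (Fin r →₀ R))) := trivial
  rw [← SymmetricPower.span_tprod_eq_top R ι (Fin r →₀ R)] at hw
  induction hw using Submodule.span_induction with
  | mem z hz =>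
    obtain ⟨v, rfl⟩ := hz
    rw [Kp, prodMap_tprod, MvPolynomial.mem_homogeneousSubmodule]
    have := MvPolynomial.IsHomogeneous.prod Finset.univ
      (fun i => SymPowUH1.lin (R := R) (Fin r) (v i)) (fun _ => 1)
      (fun i _ => (MvPolynomial.mem_homogeneousSubmodule 1 _).mp (lin_mem R (v i)))
    simpa using this
  | zero => rw [map_zero]; exact zero_mem _
  | add u v _ _ hu hv => rw [map_add]; exact add_mem hu hv
  | smul c u _ hu => rw [map_smul]; exact Submodule.smul_mem _ c hu

theorem Kp_lam (Q : MvPolynomial (Fin r) R) (hQ : Q.IsHomogeneous (Fintype.card ι)) :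
    Kp R (SymPowUH1.lam (ι := ι) (Fin r) Q) = Q := by
  have h := MvPolynomial.support_sum_monomial_coeff Q
  have e : ∀ d ∈ Q.support,
      Kp R (SymPowUH1.lam (ι := ι) (Fin r) (MvPolynomial.monomial d (Q.coeff d))) =
        MvPolynomial.monomial d (Q.coeff d) := by
    intro d hd
    have hdeg : d.degree = Fintype.card ι := by
      by_contra hne
      exact (MvPolynomial.mem_support_iff.mp hd) (hQ.coeff_eq_zero hne)
    rw [SymPowUH1.lam_monomial, map_smul, SymPowUH1.lamFun, dif_pos hdeg, Kp, prodMap_tprod]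
    simp only [SymPowUH1.lin_single]
    have h1 : ∏ i, (MvPolynomial.X (SymPowUH1.enum (ι := ι) (Fin r) d hdeg i) :
          MvPolynomial (Fin r) R) =
        MvPolynomial.monomial (∑ i, Finsupp.single (SymPowUH1.enum (ι := ι) (Fin r) d hdeg i) 1)
          1 := by
      rw [MvPolynomial.monomial_sum_one]
      rfl
    rw [h1, SymPowUH1.enum_spec, MvPolynomial.smul_monomial, smul_eq_mul, mul_one]
  calc Kp R (SymPowUH1.lam (ι := ι) (Fin r) Q)
      = Kp R (SymPowUH1.lam (ι := ι) (Fin r)
          (∑ d ∈ Q.support, MvPolynomial.monomial d (Q.coeff d))) := by rw [h]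
    _ = ∑ d ∈ Q.support,
          Kp R (SymPowUH1.lam (ι := ι) (Fin r) (MvPolynomial.monomial d (Q.coeff d))) := by
        rw [map_sum, map_sum]
    _ = ∑ d ∈ Q.support, MvPolynomial.monomial d (Q.coeff d) := Finset.sum_congr rfl e
    _ = Q := h

theorem lam_Kp (w : Sym[R] ι (Fin r →₀ R)) : SymPowUH1.lam (ι := ι) (Fin r) (Kp R w) = w :=
  LinearMap.congr_fun (SymPowUH1.lam_prodMap_lin (R := R) (ι := ι) (Fin r)) w

/-- The key consequence of injectivity of `Sym^n(J/J²) → J^n/J^(n+1)`: if the classes of the `j k`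
have "coordinate functions" with values in an `R`-algebra `A`, then a form of degree `n` in the `j k`
lying in `J^(n+1)` has coefficients vanishing in `A`. -/
theorem map_eq_zero_of_injective {A : Type u} [CommRing A] [Algebra R A]
    (hinj : Function.Injective (phiJ R J (ι := ι)))
    (c : J.Cotangent →ₗ[R] (Fin r →₀ A))
    (hc : ∀ k, c (J.toCotangent ⟨j k, hj k⟩) = Finsupp.single k 1)
    (Q : MvPolynomial (Fin r) R) (hQ : Q.IsHomogeneous (Fintype.card ι))
    (hev : MvPolynomial.eval j Q ∈ J ^ (Fintype.card ι + 1)) :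
    MvPolynomial.map (algebraMap R A) Q = 0 := by
  obtain ⟨w, hw⟩ : ∃ w, w = SymPowUH1.lam (ι := ι) (Fin r) Q := ⟨_, rfl⟩
  have hK : Kp R w = Q := by rw [hw]; exact Kp_lam R Q hQ
  have h1 : phiJ R J (Xi R J j hj w) = 0 := by
    apply jJ_injective R J
    rw [jJ_phiJ_Xi, hK, map_zero]
    have : MvPolynomial.aeval j Q = MvPolynomial.eval j Q := by rw [MvPolynomial.aeval_eq_eval]
    rw [this]
    exact Ideal.Quotient.eq_zero_iff_mem.mpr hev
  have h2 : Xi R J j hj w = 0 := hinj (by rw [h1, map_zero])
  have hF : ((SymPowUH1.lin (R := A) (Fin r)).restrictScalars R) ∘ₗ c ∘ₗ lcJ R J j hj =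
      (MvPolynomial.mapAlgHom (Algebra.ofId R A)).toLinearMap ∘ₗ
        SymPowUH1.lin (R := R) (Fin r) := by
    apply Finsupp.lhom_ext'
    intro k
    apply LinearMap.ext_ring
    show ((SymPowUH1.lin (R := A) (Fin r)).restrictScalars R)
        (c (lcJ R J j hj (Finsupp.single k 1))) =
      MvPolynomial.mapAlgHom (Algebra.ofId R A)
        (SymPowUH1.lin (R := R) (Fin r) (Finsupp.single k 1))
    rw [lcJ_single, hc, LinearMap.restrictScalars_apply, SymPowUH1.lin_single,
      SymPowUH1.lin_single, MvPolynomial.mapAlgHom_apply, MvPolynomial.map_X]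
  have h3 : (prodMap (ι := ι) (((SymPowUH1.lin (R := A) (Fin r)).restrictScalars R) ∘ₗ c)) ∘ₗ
      Xi R J j hj = (MvPolynomial.mapAlgHom (Algebra.ofId R A)).toLinearMap ∘ₗ Kp R := by
    apply hom_ext
    intro v
    show prodMap (((SymPowUH1.lin (R := A) (Fin r)).restrictScalars R) ∘ₗ c)
        (Xi R J j hj (SymmetricPower.tprod R v)) =
      MvPolynomial.mapAlgHom (Algebra.ofId R A) (Kp R (SymmetricPower.tprod R v))
    rw [Xi, map_tprod, prodMap_tprod, Kp, prodMap_tprod, map_prod]
    refine Finset.prod_congr rfl fun i _ => ?_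
    exact LinearMap.congr_fun hF (v i)
  have h4 := LinearMap.congr_fun h3 w
  rw [LinearMap.comp_apply, h2, map_zero, LinearMap.comp_apply, hK] at h4
  have h5 : MvPolynomial.mapAlgHom (Algebra.ofId R A) Q = MvPolynomial.map (algebraMap R A) Q := by
    rw [MvPolynomial.mapAlgHom_apply]
    rfl
  rw [← h5]
  exact h4.symm

end Poly

end Groth.Agent.Lib.QRegSymH1
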