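import Mathlib
import Groth.Agent.Lib.SymPow_helper1
import Groth.Agent.Lib.QRegSym_helper1
import Groth.Agent.Lib.PP16Smooth_helper1

/-!
# The augmentation filtration of a symmetric algebra (helper3)

`T = SymmetricAlgebra C P`, `aug = ker (T → C)`.
* `aug_eq_span` : `aug` is generated by `ι P`.
* `exists_ι_sub_mem_sq` : every element of `aug` is `ι m` modulo `aug²`.
* `toSymAlg_mem_pow`, `exists_toSymAlg_sub_mem` : `aug^n = Sym^n + aug^(n+1)`.
* `exists_lift_symAlg` : lifting algebra maps out of `T` along quotients, `P` projective.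
APPEND-ONLY once landed.
-/

set_option autoImplicit false

universe u

open TensorProduct

namespace Groth.Agent.Lib.SymAlgAugH3

open Groth.Agent.Lib.SymPowH1
open Groth.Agent.Lib.PP16SmoothH1 (prod_sub_prod_mem)

variable {C : Type u} [CommRing C] {P : Type u} [AddCommGroup P] [Module C P]

local notation "T" => SymmetricAlgebra C P

theorem mem_aug_iff (x : T) : x ∈ aug C P ↔
    (SymmetricAlgebra.algebraMapInv : T →ₐ[C] C) x = 0 := Iff.rfl

theorem sub_algebraMap_mem_aug (x : T) :
    x - algebraMap C T ((SymmetricAlgebra.algebraMapInv : T →ₐ[C] C) x) ∈ aug C P := by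
  rw [mem_aug_iff, map_sub, AlgHom.commutes, Algebra.algebraMap_self_apply, sub_self]

theorem sub_algebraMapInv_mem_span (x : T) :
    x - algebraMap C T ((SymmetricAlgebra.algebraMapInv : T →ₐ[C] C) x) ∈
      Ideal.span (Set.range (SymmetricAlgebra.ι C P)) := by
  induction x using SymmetricAlgebra.induction with
  | algebraMap r =>
    rw [AlgHom.commutes, Algebra.algebraMap_self_apply, sub_self]
    exact zero_mem _
  | ι m =>
    rw [SymmetricAlgebra.algebraMapInv_ι, map_zero, sub_zero]
    exact Ideal.subset_span ⟨m, rfl⟩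
  | mul a b ha hb =>
    have e : a * b - algebraMap C T ((SymmetricAlgebra.algebraMapInv : T →ₐ[C] C) (a * b)) =
        (a - algebraMap C T ((SymmetricAlgebra.algebraMapInv : T →ₐ[C] C) a)) * b +
        algebraMap C T ((SymmetricAlgebra.algebraMapInv : T →ₐ[C] C) a) *
          (b - algebraMap C T ((SymmetricAlgebra.algebraMapInv : T →ₐ[C] C) b)) := by
      rw [map_mul, map_mul]
      ring
    rw [e]
    exact Ideal.add_mem _ (Ideal.mul_mem_right _ _ ha) (Ideal.mul_mem_left _ _ hb)
  | add a b ha hb =>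
    have e : a + b - algebraMap C T ((SymmetricAlgebra.algebraMapInv : T →ₐ[C] C) (a + b)) =
        (a - algebraMap C T ((SymmetricAlgebra.algebraMapInv : T →ₐ[C] C) a)) +
        (b - algebraMap C T ((SymmetricAlgebra.algebraMapInv : T →ₐ[C] C) b)) := by
      rw [map_add, map_add]
      ring
    rw [e]
    exact Ideal.add_mem _ ha hb

theorem aug_eq_span : aug C P = Ideal.span (Set.range (SymmetricAlgebra.ι C P)) := by
  apply le_antisymm
  · intro x hx
    have h1 := sub_algebraMapInv_mem_span x
    rw [(mem_aug_iff x).1 hx, map_zero, sub_zero] at h1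
    exact h1
  · rw [Ideal.span_le]
    rintro _ ⟨m, rfl⟩
    exact ι_mem_aug m

theorem exists_ι_sub_mem_sq (y : T) (hy : y ∈ aug C P) :
    ∃ m : P, y - SymmetricAlgebra.ι C P m ∈ aug C P ^ 2 := by
  have key : ∀ y ∈ Ideal.span (Set.range (SymmetricAlgebra.ι C P)),
      y ∈ aug C P ∧ ∃ m : P, y - SymmetricAlgebra.ι C P m ∈ aug C P ^ 2 := by
    intro y hy
    induction hy using Submodule.span_induction with
    | mem z hz =>
      obtain ⟨m, rfl⟩ := hz
      exact ⟨ι_mem_aug m, m, by rw [sub_self]; exact zero_mem _⟩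
    | zero => exact ⟨zero_mem _, 0, by rw [map_zero, sub_self]; exact zero_mem _⟩
    | add a b _ _ ha hb =>
      obtain ⟨ha1, m1, h1⟩ := ha
      obtain ⟨hb1, m2, h2⟩ := hb
      refine ⟨add_mem ha1 hb1, m1 + m2, ?_⟩
      have e : a + b - SymmetricAlgebra.ι C P (m1 + m2) =
          (a - SymmetricAlgebra.ι C P m1) + (b - SymmetricAlgebra.ι C P m2) := by
        rw [map_add]; ring
      rw [e]
      exact add_mem h1 h2
    | smul t a _ ha =>
      obtain ⟨ha1, m, h1⟩ := ha
      refine ⟨Ideal.mul_mem_left _ _ ha1,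
        ((SymmetricAlgebra.algebraMapInv : T →ₐ[C] C) t) • m, ?_⟩
      have e : t • a - SymmetricAlgebra.ι C P
          (((SymmetricAlgebra.algebraMapInv : T →ₐ[C] C) t) • m) =
          (t - algebraMap C T ((SymmetricAlgebra.algebraMapInv : T →ₐ[C] C) t)) * a +
          algebraMap C T ((SymmetricAlgebra.algebraMapInv : T →ₐ[C] C) t) *
            (a - SymmetricAlgebra.ι C P m) := by
        rw [map_smul, smul_eq_mul, Algebra.smul_def]
        ring
      rw [e, pow_two]
      refine add_mem (Ideal.mul_mem_mul (sub_algebraMap_mem_aug t) ha1) ?_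
      rw [← pow_two]
      exact Ideal.mul_mem_left _ _ h1
  rw [aug_eq_span] at hy
  exact (key y hy).2

variable {ι : Type u} [Fintype ι]

theorem toSymAlg_mem_pow (u : Sym[C] ι P) :
    toSymAlg u ∈ aug C P ^ Fintype.card ι := by
  have hu : u ∈ (⊤ : Submodule C (Sym[C] ι P)) := trivial
  rw [← SymmetricPower.span_tprod_eq_top C ι P] at hu
  induction hu using Submodule.span_induction with
  | mem z hz =>
    obtain ⟨m, rfl⟩ := hz
    rw [toSymAlg_tprod]
    have := Ideal.prod_mem_prod (s := Finset.univ) (I := fun _ : ι => aug C P)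
      (x := fun i => SymmetricAlgebra.ι C P (m i)) (fun i _ => ι_mem_aug (m i))
    rwa [Finset.prod_const, Finset.card_univ] at this
  | zero => rw [map_zero]; exact zero_mem _
  | add a b _ _ ha hb => rw [map_add]; exact add_mem ha hb
  | smul c a _ ha =>
    rw [map_smul, Algebra.smul_def]
    exact Ideal.mul_mem_left _ _ ha

theorem exists_toSymAlg_sub_mem (x : T) (hx : x ∈ aug C P ^ Fintype.card ι) :
    ∃ u : Sym[C] ι P, x - toSymAlg u ∈ aug C P ^ (Fintype.card ι + 1) := by
  have key : ∀ y ∈ Submodule.span T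
      (Groth.Agent.Lib.QRegSymH1.ZsetJ T (aug C P) (Fintype.card ι)),
      y ∈ aug C P ^ Fintype.card ι ∧
        ∃ u : Sym[C] ι P, y - toSymAlg u ∈ aug C P ^ (Fintype.card ι + 1) := by
    intro y hy
    induction hy using Submodule.span_induction with
    | mem z hz =>
      obtain ⟨b, rfl⟩ := hz
      have hmem : ∏ k, (b k : T) ∈ aug C P ^ Fintype.card ι := by
        have := Ideal.prod_mem_prod (s := Finset.univ) (I := fun _ : Fin (Fintype.card ι) => aug C P)
          (x := fun k => (b k : T)) (fun k _ => (b k).2)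
        rwa [Finset.prod_const, Finset.card_univ, Fintype.card_fin] at this
      refine ⟨hmem, ?_⟩
      choose m hm using fun k => exists_ι_sub_mem_sq (b k : T) (b k).2
      refine ⟨SymmetricPower.tprod C (fun i => m (Fintype.equivFin ι i)), ?_⟩
      rw [toSymAlg_tprod]
      have h1 : ∏ i : ι, SymmetricAlgebra.ι C P (m (Fintype.equivFin ι i)) =
          ∏ k, SymmetricAlgebra.ι C P (m k) :=
        Equiv.prod_comp (Fintype.equivFin ι) (fun k => SymmetricAlgebra.ι C P (m k))
      rw [h1]
      have h2 := prod_sub_prod_mem (aug C P) Finset.univ (fun k => (b k : T))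
        (fun k => SymmetricAlgebra.ι C P (m k)) (fun k _ => (b k).2)
        (fun k _ => ι_mem_aug (m k)) (fun k _ => hm k)
      rwa [Finset.card_univ, Fintype.card_fin] at h2
    | zero => exact ⟨zero_mem _, 0, by rw [map_zero, sub_self]; exact zero_mem _⟩
    | add a b _ _ ha hb =>
      obtain ⟨ha1, u1, h1⟩ := ha
      obtain ⟨hb1, u2, h2⟩ := hb
      refine ⟨add_mem ha1 hb1, u1 + u2, ?_⟩
      have e : a + b - toSymAlg (u1 + u2) = (a - toSymAlg u1) + (b - toSymAlg u2) := by
        rw [map_add]; ring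
      rw [e]
      exact add_mem h1 h2
    | smul t a _ ha =>
      obtain ⟨ha1, u, h1⟩ := ha
      refine ⟨Ideal.mul_mem_left _ _ ha1,
        ((SymmetricAlgebra.algebraMapInv : T →ₐ[C] C) t) • u, ?_⟩
      have e : t • a - toSymAlg (((SymmetricAlgebra.algebraMapInv : T →ₐ[C] C) t) • u) =
          (t - algebraMap C T ((SymmetricAlgebra.algebraMapInv : T →ₐ[C] C) t)) * a +
          algebraMap C T ((SymmetricAlgebra.algebraMapInv : T →ₐ[C] C) t) *
            (a - toSymAlg u) := by
        rw [map_smul, smul_eq_mul, Algebra.smul_def]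
        ring
      rw [e]
      refine add_mem ?_ (Ideal.mul_mem_left _ _ h1)
      rw [pow_succ']
      exact Ideal.mul_mem_mul (sub_algebraMap_mem_aug t) ha1
  exact (key x (Groth.Agent.Lib.QRegSymH1.pow_le_span T (aug C P) _ hx)).2

/-- Lifting algebra maps out of a symmetric algebra of a projective module. -/
theorem exists_lift_symAlg [Module.Projective C P] {E : Type*} [CommRing E] [Algebra C E]
    (N : Ideal E) (θ₀ : T →ₐ[C] E ⧸ N) :
    ∃ θ : T →ₐ[C] E, (Ideal.Quotient.mkₐ C N).comp θ = θ₀ := by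
  obtain ⟨μ, hμ⟩ := Module.projective_lifting_property (Ideal.Quotient.mkₐ C N).toLinearMap
    (θ₀.toLinearMap ∘ₗ SymmetricAlgebra.ι C P) (Ideal.Quotient.mkₐ_surjective C N)
  refine ⟨SymmetricAlgebra.lift μ, ?_⟩
  apply SymmetricAlgebra.algHom_ext
  ext p
  have h1 := LinearMap.congr_fun hμ p
  simpa using h1

end Groth.Agent.Lib.SymAlgAugH3
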