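import Mathlib
import Groth.Agent.Lib.SymPow_helper1

/-!
# Symmetric powers over `B` and over `B ⧸ J` of a `B ⧸ J`-module agree (nonempty index) (helper3)

* `closure_tprod_eq_top` : for nonempty `ι` the pure symmetric tensors generate `Sym[R] ι M`
  as an additive monoid.
* `smul_eq_zero_of_mem` : `J` kills `Sym[B] ι M` when `M` is a `B ⧸ J`-module.
* `exists_cmp` : additive equivalence `Sym[B] ι M ≃+ Sym[B ⧸ J] ι M` matching pure tensors.
APPEND-ONLY once landed.
-/

set_option autoImplicit false

universe u v

open TensorProduct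

namespace Groth.Agent.Lib.SymCmpH3

open Groth.Agent.Lib.SymPowH1 (hom_ext lift lift_tprod)

section Closure

variable {R ι : Type u} [CommRing R] {M : Type v} [AddCommGroup M] [Module R M]

theorem closure_tprod_eq_top [Nonempty ι] :
    AddSubmonoid.closure (Set.range (SymmetricPower.tprod R (ι := ι) (M := M))) = ⊤ := by
  classical
  have key : ∀ (c : R) (a : Sym[R] ι M),
      a ∈ AddSubmonoid.closure (Set.range (SymmetricPower.tprod R (ι := ι) (M := M))) →
      c • a ∈ AddSubmonoid.closure (Set.range (SymmetricPower.tprod R (ι := ι) (M := M))) := by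
    intro c a ha
    induction ha using AddSubmonoid.closure_induction with
    | mem z hz =>
      obtain ⟨m, rfl⟩ := hz
      obtain ⟨i0⟩ := ‹Nonempty ι›
      refine AddSubmonoid.subset_closure ⟨Function.update m i0 (c • m i0), ?_⟩
      rw [MultilinearMap.map_update_smul, Function.update_eq_self]
    | zero => rw [smul_zero]; exact zero_mem _
    | add a b _ _ ha hb => rw [smul_add]; exact add_mem ha hb
  rw [eq_top_iff]
  intro u hu0
  clear hu0
  have hu : u ∈ (⊤ : Submodule R (Sym[R] ι M)) := trivial
  rw [← SymmetricPower.span_tprod_eq_top R ι M] at hu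
  induction hu using Submodule.span_induction with
  | mem z hz => exact AddSubmonoid.subset_closure hz
  | zero => exact zero_mem _
  | add a b _ _ ha hb => exact add_mem ha hb
  | smul c a _ ha => exact key c a ha

/-- additive maps out of a symmetric power agreeing on pure tensors are equal -/
theorem addHom_ext [Nonempty ι] {N : Type*} [AddCommMonoid N] {f g : Sym[R] ι M →+ N}
    (h : ∀ m : ι → M, f (SymmetricPower.tprod R m) = g (SymmetricPower.tprod R m)) : f = g :=
  AddMonoidHom.eq_of_eqOn_denseM closure_tprod_eq_top (by rintro _ ⟨m, rfl⟩; exact h m)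

end Closure

section Cmp

variable {B ι : Type u} [CommRing B] (J : Ideal B) (M : Type v) [AddCommGroup M] [Module B M]
  [Module (B ⧸ J) M] [IsScalarTower B (B ⧸ J) M] [Nonempty ι]

theorem smul_eq_zero_of_mem (a : B) (ha : a ∈ J) (u : Sym[B] ι M) : a • u = 0 := by
  classical
  have hu : u ∈ AddSubmonoid.closure (Set.range (SymmetricPower.tprod B (ι := ι) (M := M))) := by
    rw [closure_tprod_eq_top]; trivial
  induction hu using AddSubmonoid.closure_induction with
  | mem z hz =>
    obtain ⟨m, rfl⟩ := hz
    obtain ⟨i0⟩ := ‹Nonempty ι›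
    have h1 : a • SymmetricPower.tprod B m =
        SymmetricPower.tprod B (Function.update m i0 (a • m i0)) := by
      rw [MultilinearMap.map_update_smul, Function.update_eq_self]
    have h2 : a • m i0 = 0 := by
      rw [← algebraMap_smul (B ⧸ J) a (m i0), Ideal.Quotient.algebraMap_eq,
        Ideal.Quotient.eq_zero_iff_mem.2 ha, zero_smul]
    rw [h1, h2]
    exact (SymmetricPower.tprod B).map_coord_zero i0 (Function.update_self ..)
  | zero => rw [smul_zero]
  | add u v _ _ hu hv => rw [smul_add, hu, hv, add_zero]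

theorem isTorsionBySet : Module.IsTorsionBySet B (Sym[B] ι M) (J : Set B) :=
  fun u a => smul_eq_zero_of_mem J M a.1 a.2 u

/-- The comparison `Sym[B] ι M ≃+ Sym[B ⧸ J] ι M`. -/
theorem exists_cmp : ∃ e : Sym[B] ι M ≃+ Sym[B ⧸ J] ι M,
    ∀ m : ι → M, e (SymmetricPower.tprod B m) = SymmetricPower.tprod (B ⧸ J) m := by
  classical
  letI modC : Module (B ⧸ J) (Sym[B] ι M) := (isTorsionBySet J M).module
  haveI : IsScalarTower B (B ⧸ J) (Sym[B] ι M) := (isTorsionBySet J M).isScalarTower
  letI modB : Module B (Sym[B ⧸ J] ι M) := Module.compHom _ (Ideal.Quotient.mk J)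
  let fB : MultilinearMap B (fun _ : ι => M) (Sym[B ⧸ J] ι M) :=
    { toFun := SymmetricPower.tprod (B ⧸ J)
      map_update_add' := fun m i x y => (SymmetricPower.tprod (B ⧸ J)).map_update_add m i x y
      map_update_smul' := fun m i b x => by
        rw [← algebraMap_smul (B ⧸ J) b x, (SymmetricPower.tprod (B ⧸ J)).map_update_smul]
        rfl }
  let f : Sym[B] ι M →ₗ[B] Sym[B ⧸ J] ι M :=
    lift fB (fun e m => SymmetricPower.tprod_equiv e m)
  let gC : MultilinearMap (B ⧸ J) (fun _ : ι => M) (Sym[B] ι M) :=
    { toFun := SymmetricPower.tprod B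
      map_update_add' := fun m i x y => (SymmetricPower.tprod B).map_update_add m i x y
      map_update_smul' := fun m i c x => by
        obtain ⟨b, rfl⟩ := Ideal.Quotient.mk_surjective c
        have h1 : (Ideal.Quotient.mk J b) • x = b • x := algebraMap_smul (B ⧸ J) b x
        rw [h1, (SymmetricPower.tprod B).map_update_smul]
        exact (algebraMap_smul (B ⧸ J) b _).symm }
  let g : Sym[B ⧸ J] ι M →ₗ[B ⧸ J] Sym[B] ι M :=
    lift gC (fun e m => SymmetricPower.tprod_equiv e m)
  have hf : ∀ m, f (SymmetricPower.tprod B m) = SymmetricPower.tprod (B ⧸ J) m :=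
    fun m => lift_tprod _ _ m
  have hg : ∀ m, g (SymmetricPower.tprod (B ⧸ J) m) = SymmetricPower.tprod B m :=
    fun m => lift_tprod _ _ m
  have hgf : ∀ u, g (f u) = u := by
    intro u
    have h1 : (g.toAddMonoidHom.comp f.toAddMonoidHom) = AddMonoidHom.id _ :=
      addHom_ext (fun m => by
        rw [AddMonoidHom.comp_apply, LinearMap.toAddMonoidHom_coe, LinearMap.toAddMonoidHom_coe,
          hf, hg]
        rfl)
    exact DFunLike.congr_fun h1 u
  have hfg : ∀ w, f (g w) = w := by
    intro w
    have h1 : (f.toAddMonoidHom.comp g.toAddMonoidHom) = AddMonoidHom.id _ :=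
      addHom_ext (fun m => by
        rw [AddMonoidHom.comp_apply, LinearMap.toAddMonoidHom_coe, LinearMap.toAddMonoidHom_coe,
          hg, hf]
        rfl)
    exact DFunLike.congr_fun h1 w
  exact ⟨{ toFun := f, invFun := g, left_inv := hgf, right_inv := hfg, map_add' := f.map_add }, hf⟩

end Cmp

end Groth.Agent.Lib.SymCmpH3
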