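import Mathlib
import Groth.Prelude.Def_CAlgX
import Groth.Prelude.Def_PP16
import Groth.Agent.Lib.SymCmp_helper3
import Groth.Agent.Lib.SymAlgAug_helper3
import Groth.Agent.Lib.AdicFSDer_helper3

/-!
# Adically formally smooth ⇒ `J/J²` projective and `Sym^n(J/J²) ≅ J^n/J^(n+1)` (helper3)

`B` an `R`-algebra, `J` an ideal with `B ⧸ J` formally smooth over `R`, `B` formally smooth
over `R` for the `J`-adic topology.  (EGA 0_IV 19.5.3, (a) ⇒ (b).)
* `exists_derivation` : the `R`-derivation `B → J/J²` extending `J → J/J²`.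
* `projective_cotangent`, `phiJ_injective`, `partI`.
APPEND-ONLY once landed.
-/

set_option autoImplicit false

universe u

open TensorProduct

namespace Groth.Agent.Lib.AdicFSSymAH3

open Groth.Agent.Lib.SymPowH1
open Groth.Agent.Lib.PP16SmoothH1 (prod_sub_prod_mem)
open Groth.Agent.Lib.AdicFSDerH3 (lift_of_surjective)

section Abs

variable {T : Type*} [CommRing T] (𝔞 : Ideal T) (n : ℕ)

theorem map_mk_pow_eq_bot :
    (𝔞.map (Ideal.Quotient.mk (𝔞 ^ (n + 1)))) ^ (n + 1) = ⊥ := by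
  rw [← Ideal.map_pow, Ideal.map_quotient_self]

theorem mk_mem_map_sq (I : Ideal T) (t : T) (ht : t ∈ 𝔞 ^ 2) :
    Ideal.Quotient.mk I t ∈ (𝔞.map (Ideal.Quotient.mk I)) ^ 2 := by
  rw [← Ideal.map_pow]
  exact Ideal.mem_map_of_mem _ ht

theorem map_pow_mem {B' : Type*} [CommRing B'] (ρ : B' →+* T) (J : Ideal B') (𝔟 : Ideal T)
    (h : ∀ j ∈ J, ρ j ∈ 𝔟) (k : ℕ) : ∀ x ∈ J ^ k, ρ x ∈ 𝔟 ^ k := by
  intro x hx
  have h1 : (J ^ k).map ρ ≤ 𝔟 ^ k := by
    rw [Ideal.map_pow]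
    exact Ideal.pow_right_mono (Ideal.map_le_iff_le_comap.2 (fun j hj => Ideal.mem_comap.2 (h j hj))) _
  exact h1 (Ideal.mem_map_of_mem _ hx)

end Abs

variable {R B : Type u} [CommRing R] [CommRing B] [Algebra R B] (J : Ideal B)

section Deriv

theorem exists_derivation [Algebra.FormallySmooth R (B ⧸ J)] :
    ∃ δ : Derivation R B J.Cotangent, ∀ j : J, δ (j : B) = J.toCotangent j := by
  classical
  have hle : J ^ 2 ≤ J := Ideal.pow_le_self two_ne_zero
  let π₂ : B ⧸ J ^ 2 →ₐ[R] B ⧸ J := Ideal.Quotient.factorₐ R hle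
  have hπ₂mk : ∀ b : B, π₂ (Ideal.Quotient.mk (J ^ 2) b) = Ideal.Quotient.mk J b := fun b => rfl
  have hπ₂surj : Function.Surjective π₂ := by
    intro c
    obtain ⟨b, rfl⟩ := Ideal.Quotient.mk_surjective c
    exact ⟨Ideal.Quotient.mk _ b, hπ₂mk b⟩
  have hkerle : ∀ z : B ⧸ J ^ 2, π₂ z = 0 → z ∈ J.cotangentIdeal := by
    intro z hz
    obtain ⟨b, rfl⟩ := Ideal.Quotient.mk_surjective z
    rw [hπ₂mk] at hz
    exact Ideal.mk_mem_cotangentIdeal.2 (Ideal.Quotient.eq_zero_iff_mem.1 hz)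
  have hnil : IsNilpotent (RingHom.ker (π₂ : B ⧸ J ^ 2 →+* B ⧸ J)) := by
    refine ⟨2, ?_⟩
    rw [Ideal.zero_eq_bot, eq_bot_iff, ← J.cotangentIdeal_square]
    exact Ideal.pow_right_mono (fun z hz => hkerle z hz) 2
  let σ : B ⧸ J →ₐ[R] B ⧸ J ^ 2 :=
    Algebra.FormallySmooth.liftOfSurjective (AlgHom.id R (B ⧸ J)) π₂ hπ₂surj hnil
  have hσ : ∀ c, π₂ (σ c) = c :=
    Algebra.FormallySmooth.liftOfSurjective_apply (AlgHom.id R (B ⧸ J)) π₂ hπ₂surj hnil
  have hrange : ∀ z : B ⧸ J ^ 2, z ∈ J.cotangentIdeal →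
      ∃ p : J.Cotangent, J.cotangentToQuotientSquare p = z := by
    intro z hz
    have h2 : z ∈ LinearMap.range J.cotangentToQuotientSquare := by
      rw [J.range_cotangentToQuotientSquare]
      exact hz
    exact h2
  have hmem : ∀ p : J.Cotangent, J.cotangentToQuotientSquare p ∈ J.cotangentIdeal := by
    intro p
    have h2 : J.cotangentToQuotientSquare p ∈ LinearMap.range J.cotangentToQuotientSquare :=
      ⟨p, rfl⟩
    rw [J.range_cotangentToQuotientSquare] at h2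
    exact h2
  have hex : ∀ b : B, ∃ p : J.Cotangent, J.cotangentToQuotientSquare p =
      Ideal.Quotient.mk (J ^ 2) b - σ (Ideal.Quotient.mk J b) := by
    intro b
    apply hrange
    apply hkerle
    rw [map_sub, hπ₂mk, hσ, sub_self]
  choose δf hδf using hex
  have hinj := J.cotangentToQuotientSquare_injective
  have hsm : ∀ (a : B) (p : J.Cotangent), J.cotangentToQuotientSquare (a • p) =
      Ideal.Quotient.mk (J ^ 2) a * J.cotangentToQuotientSquare p := by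
    intro a p
    rw [map_smul, Algebra.smul_def]
    rfl
  have hsq : ∀ p q : J.Cotangent,
      J.cotangentToQuotientSquare p * J.cotangentToQuotientSquare q = 0 := by
    intro p q
    have h3 := Ideal.mul_mem_mul (hmem p) (hmem q)
    rw [← pow_two, J.cotangentIdeal_square, Ideal.mem_bot] at h3
    exact h3
  have hleib : ∀ a b : B, δf (a * b) = a • δf b + b • δf a := by
    intro a b
    apply hinj
    rw [map_add, hsm, hsm, hδf, hδf, hδf, map_mul, map_mul, map_mul]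
    have h0 := hsq (δf a) (δf b)
    rw [hδf, hδf] at h0
    linear_combination (-1 : B ⧸ J ^ 2) * h0
  let δl : B →ₗ[R] J.Cotangent :=
    { toFun := δf
      map_add' := fun a b => hinj (by
        rw [map_add, hδf, hδf, hδf, map_add, map_add, map_add]
        ring)
      map_smul' := fun r b => hinj (by
        have hr : σ (Ideal.Quotient.mk J (algebraMap R B r)) =
            Ideal.Quotient.mk (J ^ 2) (algebraMap R B r) := σ.commutes r
        rw [RingHom.id_apply, ← algebraMap_smul B r (δf b), hsm, hδf, hδf, Algebra.smul_def,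
          map_mul, map_mul, map_mul, hr]
        ring) }
  refine ⟨Derivation.mk' δl hleib, fun j => ?_⟩
  show δf (j : B) = J.toCotangent j
  apply hinj
  rw [hδf, Ideal.Quotient.eq_zero_iff_mem.2 j.2, map_zero, sub_zero]
  rfl

end Deriv

section Proj

theorem projective_cotangent (h : CAlgX.IsAdicFormallySmooth R B J)
    [Algebra.FormallySmooth R (B ⧸ J)] : Module.Projective (B ⧸ J) J.Cotangent := by
  classical
  obtain ⟨δ, hδ⟩ := exists_derivation (R := R) J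
  apply Module.Projective.of_lifting_property''
  intro f hf
  have hkillF : ∀ x ∈ J, ∀ m : (J.Cotangent →₀ B ⧸ J), x • m = 0 := fun x hx m => by
    rw [← algebraMap_smul (B ⧸ J) x m, Ideal.Quotient.algebraMap_eq,
      Ideal.Quotient.eq_zero_iff_mem.2 hx, zero_smul]
  have hF : ∃ k : ℕ, ∀ x ∈ J ^ k, ∀ m : (J.Cotangent →₀ B ⧸ J), x • m = 0 :=
    ⟨1, fun x hx m => hkillF x (by rwa [pow_one] at hx) m⟩
  obtain ⟨d, hd⟩ := Groth.Agent.Lib.AdicFSDerH3.exists_derivation_lift J h hF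
    (f.restrictScalars B) hf δ
  let s₀ : J →ₗ[B] (J.Cotangent →₀ B ⧸ J) :=
    { toFun := fun j => d (j : B)
      map_add' := fun x y => by
        show d ((x : B) + (y : B)) = _
        rw [map_add]
      map_smul' := fun b j => by
        show d (b * (j : B)) = b • d (j : B)
        rw [d.leibniz, hkillF j.1 j.2, add_zero] }
  let s₁ : J.Cotangent →ₗ[B] (J.Cotangent →₀ B ⧸ J) :=
    Ideal.Cotangent.lift s₀ (fun x y => by
      show d ((x : B) * (y : B)) = 0
      rw [d.leibniz, hkillF x.1 x.2, hkillF y.1 y.2, add_zero])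
  refine ⟨s₁.extendScalarsOfSurjective (Ideal.Quotient.mk_surjective (I := J)), ?_⟩
  apply LinearMap.ext
  intro p
  obtain ⟨j, rfl⟩ := J.toCotangent_surjective p
  show f (s₁ (J.toCotangent j)) = J.toCotangent j
  rw [Ideal.Cotangent.lift_toCotangent, ← hδ j]
  exact hd j

end Proj

section Rho

theorem exists_rho (h : CAlgX.IsAdicFormallySmooth R B J) {T : Type u} [CommRing T]
    [Algebra R T] (𝔞 : Ideal T) (ρ₁ : B →ₐ[R] T ⧸ 𝔞 ^ (1 + 1))
    (hρ₁ : ∀ j ∈ J, ρ₁ j ∈ 𝔞.map (Ideal.Quotient.mk (𝔞 ^ (1 + 1)))) :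
    ∀ n : ℕ, 1 ≤ n → ∃ ρ : B →ₐ[R] T ⧸ 𝔞 ^ (n + 1),
      ∀ (b : B) (t : T), ρ b = Ideal.Quotient.mk _ t → ρ₁ b = Ideal.Quotient.mk _ t := by
  intro n hn
  induction n, hn using Nat.le_induction with
  | base => exact ⟨ρ₁, fun b t hbt => hbt⟩
  | succ n hn ih =>
    obtain ⟨ρ, hρ⟩ := ih
    have hle : 𝔞 ^ (n + 1 + 1) ≤ 𝔞 ^ (n + 1) := Ideal.pow_le_pow_right (Nat.le_succ _)
    let π : T ⧸ 𝔞 ^ (n + 1 + 1) →ₐ[R] T ⧸ 𝔞 ^ (n + 1) := Ideal.Quotient.factorₐ R hle
    have hπmk : ∀ t, π (Ideal.Quotient.mk _ t) = Ideal.Quotient.mk _ t := fun t => rfl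
    have hπ : Function.Surjective π := by
      intro c
      obtain ⟨t, rfl⟩ := Ideal.Quotient.mk_surjective c
      exact ⟨Ideal.Quotient.mk _ t, hπmk t⟩
    have hkerle : RingHom.ker π.toRingHom ≤
        (𝔞 ^ (n + 1)).map (Ideal.Quotient.mk (𝔞 ^ (n + 1 + 1))) := by
      intro z hz
      obtain ⟨t, rfl⟩ := Ideal.Quotient.mk_surjective z
      rw [RingHom.mem_ker] at hz
      have h1 : Ideal.Quotient.mk (𝔞 ^ (n + 1)) t = 0 := hz
      exact Ideal.mem_map_of_mem _ (Ideal.Quotient.eq_zero_iff_mem.1 h1)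
    have hker : RingHom.ker π.toRingHom ^ 2 = ⊥ := by
      rw [eq_bot_iff]
      calc RingHom.ker π.toRingHom ^ 2
          ≤ ((𝔞 ^ (n + 1)).map (Ideal.Quotient.mk (𝔞 ^ (n + 1 + 1)))) ^ 2 :=
            Ideal.pow_right_mono hkerle 2
        _ = ((𝔞 ^ (n + 1)) ^ 2).map (Ideal.Quotient.mk (𝔞 ^ (n + 1 + 1))) :=
            (Ideal.map_pow _ _ _).symm
        _ ≤ (𝔞 ^ (n + 1 + 1)).map (Ideal.Quotient.mk (𝔞 ^ (n + 1 + 1))) :=
            Ideal.map_mono (by
              rw [← pow_mul]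
              exact Ideal.pow_le_pow_right (by omega))
        _ = ⊥ := Ideal.map_quotient_self _
    have hρJ : ∀ j ∈ J, ρ j ∈ 𝔞.map (Ideal.Quotient.mk (𝔞 ^ (n + 1))) := by
      intro j hj
      obtain ⟨t, ht⟩ := Ideal.Quotient.mk_surjective (ρ j)
      have h1 := hρ j t ht.symm
      have h2 := hρ₁ j hj
      rw [h1, Ideal.mem_map_iff_of_surjective _ Ideal.Quotient.mk_surjective] at h2
      obtain ⟨t', ht', he⟩ := h2
      have h3 : t' - t ∈ 𝔞 ^ (1 + 1) := Ideal.Quotient.eq.1 he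
      have h4 : t' - t ∈ 𝔞 := Ideal.pow_le_self (by norm_num) h3
      have h5 : t ∈ 𝔞 := by
        have e : t = t' - (t' - t) := by ring
        rw [e]
        exact sub_mem ht' h4
      rw [← ht]
      exact Ideal.mem_map_of_mem _ h5
    have hψ : ∃ j : ℕ, ∀ x ∈ J ^ j, ρ x = 0 := by
      refine ⟨n + 1, fun x hx => ?_⟩
      have h2 := map_pow_mem ρ.toRingHom J _ hρJ (n + 1) x hx
      rw [map_mk_pow_eq_bot, Ideal.mem_bot] at h2
      exact h2
    obtain ⟨χ, hχ⟩ := lift_of_surjective J h π hπ hker ρ hψ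
    refine ⟨χ, fun b t hbt => hρ b t ?_⟩
    have h1 := AlgHom.congr_fun hχ b
    rw [AlgHom.comp_apply, hbt, hπmk] at h1
    exact h1.symm

end Rho

section Inj

open Groth.Agent.Lib.QRegSymH1 (phiJ phiJ_tprod_cot jJ jJ_prodClsJ jJ_injective outJ
  toCotangent_outJ phiJ_surjective zetaJ_eq)

theorem phiJ_injective (h : CAlgX.IsAdicFormallySmooth R B J)
    [Algebra.FormallySmooth R (B ⧸ J)] {ι : Type u} [Fintype ι] [Nonempty ι] :
    Function.Injective (phiJ B J (ι := ι)) := by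
  classical
  haveI hP : Module.Projective (B ⧸ J) J.Cotangent := projective_cotangent J h
  obtain ⟨δ, hδ⟩ := exists_derivation (R := R) J
  have hn1 : 1 ≤ Fintype.card ι := Fintype.card_pos
  letI algT : Algebra R (SymmetricAlgebra (B ⧸ J) J.Cotangent) :=
    ((algebraMap (B ⧸ J) (SymmetricAlgebra (B ⧸ J) J.Cotangent)).comp
      (algebraMap R (B ⧸ J))).toAlgebra
  have hmk : ∀ (a : B) (p : J.Cotangent), Ideal.Quotient.mk J a • p = a • p :=
    fun a p => algebraMap_smul (B ⧸ J) a p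
  let ρ₁ : B →ₐ[R] SymmetricAlgebra (B ⧸ J) J.Cotangent ⧸
      (aug (B ⧸ J) J.Cotangent) ^ (1 + 1) :=
    { toFun := fun b => Ideal.Quotient.mk _
        (algebraMap (B ⧸ J) (SymmetricAlgebra (B ⧸ J) J.Cotangent) (Ideal.Quotient.mk J b) +
          SymmetricAlgebra.ι (B ⧸ J) J.Cotangent (δ b))
      map_one' := by
        rw [map_one, Derivation.map_one_eq_zero, map_zero, add_zero, map_one, map_one]
      map_mul' := fun b b' => by
        rw [← map_mul, Ideal.Quotient.eq, map_mul, Derivation.leibniz, map_add, ← hmk b, ← hmk b',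
          map_smul, map_smul, map_mul]
        have e : (algebraMap (B ⧸ J) (SymmetricAlgebra (B ⧸ J) J.Cotangent)
              (Ideal.Quotient.mk J b) *
            algebraMap (B ⧸ J) (SymmetricAlgebra (B ⧸ J) J.Cotangent) (Ideal.Quotient.mk J b') +
            (Ideal.Quotient.mk J b • SymmetricAlgebra.ι (B ⧸ J) J.Cotangent (δ b') +
              Ideal.Quotient.mk J b' • SymmetricAlgebra.ι (B ⧸ J) J.Cotangent (δ b))) -
            (algebraMap (B ⧸ J) (SymmetricAlgebra (B ⧸ J) J.Cotangent) (Ideal.Quotient.mk J b) +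
              SymmetricAlgebra.ι (B ⧸ J) J.Cotangent (δ b)) *
            (algebraMap (B ⧸ J) (SymmetricAlgebra (B ⧸ J) J.Cotangent) (Ideal.Quotient.mk J b') +
              SymmetricAlgebra.ι (B ⧸ J) J.Cotangent (δ b')) =
            -(SymmetricAlgebra.ι (B ⧸ J) J.Cotangent (δ b) *
              SymmetricAlgebra.ι (B ⧸ J) J.Cotangent (δ b')) := by
          simp only [Algebra.smul_def]
          ring
        rw [e, pow_succ, pow_one]
        exact neg_mem (Ideal.mul_mem_mul (ι_mem_aug _) (ι_mem_aug _))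
      map_zero' := by
        rw [map_zero, map_zero, map_zero, map_zero, add_zero, map_zero]
      map_add' := fun b b' => by
        rw [← map_add]
        congr 1
        rw [map_add, map_add, map_add, map_add]
        ring
      commutes' := fun r => by
        rw [Derivation.map_algebraMap, map_zero, add_zero]
        rfl }
  have hρ₁app : ∀ b, ρ₁ b = Ideal.Quotient.mk _
      (algebraMap (B ⧸ J) (SymmetricAlgebra (B ⧸ J) J.Cotangent) (Ideal.Quotient.mk J b) +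
        SymmetricAlgebra.ι (B ⧸ J) J.Cotangent (δ b)) := fun b => rfl
  have hρ₁J : ∀ j : J, ρ₁ (j : B) = Ideal.Quotient.mk _
      (SymmetricAlgebra.ι (B ⧸ J) J.Cotangent (J.toCotangent j)) := by
    intro j
    rw [hρ₁app, Ideal.Quotient.eq_zero_iff_mem.2 j.2, map_zero, zero_add, hδ]
  have hρ₁mem : ∀ j ∈ J, ρ₁ j ∈ (aug (B ⧸ J) J.Cotangent).map
      (Ideal.Quotient.mk ((aug (B ⧸ J) J.Cotangent) ^ (1 + 1))) := by
    intro j hj
    rw [hρ₁J ⟨j, hj⟩]
    exact Ideal.mem_map_of_mem _ (ι_mem_aug _)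
  obtain ⟨ρ, hρ⟩ := exists_rho J h (aug (B ⧸ J) J.Cotangent) ρ₁ hρ₁mem (Fintype.card ι) hn1
  obtain ⟨𝔞n, h𝔞n⟩ : ∃ 𝔞n : Ideal (SymmetricAlgebra (B ⧸ J) J.Cotangent ⧸
      (aug (B ⧸ J) J.Cotangent) ^ (Fintype.card ι + 1)),
      𝔞n = (aug (B ⧸ J) J.Cotangent).map (Ideal.Quotient.mk _) := ⟨_, rfl⟩
  have hpow : 𝔞n ^ (Fintype.card ι + 1) = ⊥ := by
    rw [h𝔞n]
    exact map_mk_pow_eq_bot _ _
  have hιmem : ∀ p : J.Cotangent, Ideal.Quotient.mk
      ((aug (B ⧸ J) J.Cotangent) ^ (Fintype.card ι + 1))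
      (SymmetricAlgebra.ι (B ⧸ J) J.Cotangent p) ∈ 𝔞n := by
    intro p
    rw [h𝔞n]
    exact Ideal.mem_map_of_mem _ (ι_mem_aug p)
  have hc1 : ∀ j : J, ρ (j : B) - Ideal.Quotient.mk _
      (SymmetricAlgebra.ι (B ⧸ J) J.Cotangent (J.toCotangent j)) ∈ 𝔞n ^ 2 := by
    intro j
    obtain ⟨t, ht⟩ := Ideal.Quotient.mk_surjective (ρ (j : B))
    have h1 := hρ j t ht.symm
    rw [hρ₁J, Ideal.Quotient.eq] at h1
    have h2 : t - SymmetricAlgebra.ι (B ⧸ J) J.Cotangent (J.toCotangent j) ∈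
        (aug (B ⧸ J) J.Cotangent) ^ 2 := by
      have := neg_mem h1
      rwa [neg_sub] at this
    rw [← ht, ← map_sub, h𝔞n]
    exact mk_mem_map_sq _ _ _ h2
  have hc2 : ∀ j : J, ρ (j : B) ∈ 𝔞n := by
    intro j
    have e : ρ (j : B) = (ρ (j : B) - Ideal.Quotient.mk _
        (SymmetricAlgebra.ι (B ⧸ J) J.Cotangent (J.toCotangent j))) + Ideal.Quotient.mk _
        (SymmetricAlgebra.ι (B ⧸ J) J.Cotangent (J.toCotangent j)) := by ring
    rw [e]
    exact add_mem (Ideal.pow_le_self two_ne_zero (hc1 j)) (hιmem _)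
  have hkill : ∀ x ∈ J ^ (Fintype.card ι + 1), ρ x = 0 := by
    intro x hx
    have h2 := map_pow_mem ρ.toRingHom J 𝔞n (fun j hj => hc2 ⟨j, hj⟩) (Fintype.card ι + 1) x hx
    rwa [hpow, Ideal.mem_bot] at h2
  let ρbar : B ⧸ J ^ (Fintype.card ι + 1) →+* SymmetricAlgebra (B ⧸ J) J.Cotangent ⧸
      (aug (B ⧸ J) J.Cotangent) ^ (Fintype.card ι + 1) :=
    Ideal.Quotient.lift (J ^ (Fintype.card ι + 1)) ρ.toRingHom hkill
  obtain ⟨e, he⟩ := Groth.Agent.Lib.SymCmpH3.exists_cmp J J.Cotangent (ι := ι)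
  let Φ₁ : Sym[B] ι J.Cotangent →+ SymmetricAlgebra (B ⧸ J) J.Cotangent ⧸
      (aug (B ⧸ J) J.Cotangent) ^ (Fintype.card ι + 1) :=
    (ρbar : _ →+ _).comp ((jJ B J (Fintype.card ι)).toAddMonoidHom.comp
      (phiJ B J (ι := ι)).toAddMonoidHom)
  let Φ₂ : Sym[B] ι J.Cotangent →+ SymmetricAlgebra (B ⧸ J) J.Cotangent ⧸
      (aug (B ⧸ J) J.Cotangent) ^ (Fintype.card ι + 1) :=
    ((Ideal.Quotient.mk ((aug (B ⧸ J) J.Cotangent) ^ (Fintype.card ι + 1)) :
      SymmetricAlgebra (B ⧸ J) J.Cotangent →+* _) : _ →+ _).comp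
      ((toSymAlg (R := B ⧸ J) (ι := ι) (M := J.Cotangent)).toAddMonoidHom.comp e.toAddMonoidHom)
  have hΦ₁ : ∀ u, Φ₁ u = ρbar (jJ B J (Fintype.card ι) (phiJ B J u)) := fun u => rfl
  have hΦ₂ : ∀ u, Φ₂ u = Ideal.Quotient.mk _ (toSymAlg (e u)) := fun u => rfl
  have hΦ : Φ₁ = Φ₂ := by
    apply Groth.Agent.Lib.SymCmpH3.addHom_ext
    intro m
    obtain ⟨x, rfl⟩ : ∃ x : ι → J, m = fun i => J.toCotangent (x i) :=
      ⟨fun i => outJ B J (m i), by funext i; rw [toCotangent_outJ]⟩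
    rw [hΦ₁, hΦ₂, phiJ_tprod_cot, jJ_prodClsJ, he, toSymAlg_tprod]
    have hl : ρbar (Ideal.Quotient.mk _ (∏ i, (x i : B))) = ∏ i, ρ (x i : B) := by
      show ρ.toRingHom (∏ i, (x i : B)) = _
      rw [map_prod]
      rfl
    rw [hl, map_prod, ← sub_eq_zero]
    have h1 := prod_sub_prod_mem 𝔞n Finset.univ (fun i => ρ (x i : B))
      (fun i => Ideal.Quotient.mk ((aug (B ⧸ J) J.Cotangent) ^ (Fintype.card ι + 1))
        (SymmetricAlgebra.ι (B ⧸ J) J.Cotangent (J.toCotangent (x i))))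
      (fun i _ => hc2 (x i)) (fun i _ => hιmem _) (fun i _ => hc1 (x i))
    rw [Finset.card_univ, hpow, Ideal.mem_bot] at h1
    exact h1
  rw [injective_iff_map_eq_zero]
  intro u hu
  have h1 : Φ₂ u = 0 := by
    rw [← hΦ, hΦ₁, hu, map_zero, map_zero]
  rw [hΦ₂] at h1
  have h2 : toSymAlg (e u) ∈ (aug (B ⧸ J) J.Cotangent) ^ (Fintype.card ι + 1) :=
    Ideal.Quotient.eq_zero_iff_mem.1 h1
  have h3 : e u = 0 := eq_zero_of_toSymAlg_mem (e u) h2
  exact (AddEquiv.map_eq_zero_iff e).1 h3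

/-- (a) ⇒ (b). -/
theorem partI (h : CAlgX.IsAdicFormallySmooth R B J) [Algebra.FormallySmooth R (B ⧸ J)] :
    Module.Projective (B ⧸ J) J.Cotangent ∧ PP16.SymGrBijective B J := by
  refine ⟨projective_cotangent J h, ?_⟩
  intro ι _ _
  refine ⟨phiJ B J, fun x => ?_, phiJ_injective J h, phiJ_surjective B J⟩
  rw [phiJ_tprod_cot, zetaJ_eq]

end Inj

end Groth.Agent.Lib.AdicFSSymAH3
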