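import Mathlib
import Groth.Prelude.Def_CAlgX
import Groth.Prelude.Def_PP16
import Groth.Agent.Lib.SymCmp_helper3
import Groth.Agent.Lib.SymAlgAug_helper3
import Groth.Agent.Lib.AdicFSSymA_helper3

/-!
# `J/J²` projective and `Sym^n(J/J²) ≅ J^n/J^(n+1)` ⇒ adically formally smooth (helper3)

`B` an `R`-algebra, `J` an ideal with `B ⧸ J` formally smooth over `R`.  (EGA 0_IV 19.5.3, (b) ⇒ (a).)
* `filtered_bijective` : abstract filtered comparison `Sym_C(P) → S`.
* `partII`, `main` (the equivalence).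
APPEND-ONLY once landed.
-/

set_option autoImplicit false

universe u

open TensorProduct

namespace Groth.Agent.Lib.AdicFSSymBH3

open Groth.Agent.Lib.SymPowH1
open Groth.Agent.Lib.PP16SmoothH1 (prod_sub_prod_mem)
open Groth.Agent.Lib.SymAlgAugH3
open Groth.Agent.Lib.AdicFSSymAH3 (map_pow_mem)

section Abs

variable {T : Type*} [CommRing T] (𝔞 : Ideal T)

theorem map_pow_add_mem {E : Type*} [CommRing E] (θ : T →+* E) (N : Ideal E) (k : ℕ)
    (h : ∀ x ∈ 𝔞 ^ k, θ x ∈ N) : ∀ x ∈ 𝔞 ^ (k + k), θ x ∈ N ^ 2 := by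
  intro x hx
  rw [pow_add] at hx
  refine Submodule.mul_induction_on hx ?_ ?_
  · intro y hy z hz
    rw [map_mul, pow_two]
    exact Ideal.mul_mem_mul (h y hy) (h z hz)
  · intro y z hy hz
    rw [map_add]
    exact add_mem hy hz

variable {B : Type*} [CommRing B] (J : Ideal B) (m n : ℕ)

theorem map_mk_pow_eq_bot' : (J.map (Ideal.Quotient.mk (J ^ m))) ^ m = ⊥ := by
  rw [← Ideal.map_pow, Ideal.map_quotient_self]

theorem mk_mem_map_pow_iff (hnm : n ≤ m) (b : B) :
    Ideal.Quotient.mk (J ^ m) b ∈ (J.map (Ideal.Quotient.mk (J ^ m))) ^ n ↔ b ∈ J ^ n := by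
  rw [← Ideal.map_pow]
  constructor
  · intro h
    rw [Ideal.mem_map_iff_of_surjective _ Ideal.Quotient.mk_surjective] at h
    obtain ⟨b', hb', he⟩ := h
    have h1 : b' - b ∈ J ^ m := Ideal.Quotient.eq.1 he
    have h2 : b' - b ∈ J ^ n := Ideal.pow_le_pow_right hnm h1
    have e : b = b' - (b' - b) := by ring
    rw [e]
    exact sub_mem hb' h2
  · intro h
    exact Ideal.mem_map_of_mem _ h

theorem factor_eq_zero_iff (hnm : n ≤ m) (y : B ⧸ J ^ m) :
    Ideal.Quotient.factor (Ideal.pow_le_pow_right hnm) y = 0 ↔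
      y ∈ (J.map (Ideal.Quotient.mk (J ^ m))) ^ n := by
  obtain ⟨b, rfl⟩ := Ideal.Quotient.mk_surjective y
  rw [Ideal.Quotient.factor_mk, Ideal.Quotient.eq_zero_iff_mem, mk_mem_map_pow_iff J m n hnm]

theorem exists_mk_of_mem_pow (hnm : n ≤ m) (y : B ⧸ J ^ m)
    (hy : y ∈ (J.map (Ideal.Quotient.mk (J ^ m))) ^ n) :
    ∃ b ∈ J ^ n, Ideal.Quotient.mk (J ^ m) b = y := by
  obtain ⟨b, rfl⟩ := Ideal.Quotient.mk_surjective y
  exact ⟨b, (mk_mem_map_pow_iff J m n hnm b).1 hy, rfl⟩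

end Abs

section Filt

variable {C : Type u} [CommRing C] {P : Type u} [AddCommGroup P] [Module C P]
  {S : Type u} [CommRing S] [Algebra C S] (K : Ideal S) (τ : SymmetricAlgebra C P →ₐ[C] S) (m : ℕ)

theorem tau_mem_pow (hτaug : ∀ p : P, τ (SymmetricAlgebra.ι C P p) ∈ K) (n : ℕ) :
    ∀ x ∈ aug C P ^ n, τ x ∈ K ^ n := by
  have h1 : ∀ x ∈ aug C P, τ x ∈ K := by
    intro x hx
    have h2 : aug C P ≤ K.comap τ.toRingHom := by
      rw [aug_eq_span, Ideal.span_le]
      rintro _ ⟨p, rfl⟩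
      exact hτaug p
    exact h2 hx
  exact map_pow_mem τ.toRingHom (aug C P) K h1 n

theorem filtered_bijective
    (hτaug : ∀ p : P, τ (SymmetricAlgebra.ι C P p) ∈ K)
    (hKm : K ^ m = ⊥)
    (h0s : ∀ y : S, ∃ c : C, y - algebraMap C S c ∈ K)
    (h0i : ∀ c : C, algebraMap C S c ∈ K → c = 0)
    (hs : ∀ (ι : Type u) [Fintype ι] [Nonempty ι], Fintype.card ι < m →
      ∀ y ∈ K ^ Fintype.card ι, ∃ u : Sym[C] ι P, y - τ (toSymAlg u) ∈ K ^ (Fintype.card ι + 1))
    (hi : ∀ (ι : Type u) [Fintype ι] [Nonempty ι], Fintype.card ι < m →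
      ∀ u : Sym[C] ι P, τ (toSymAlg u) ∈ K ^ (Fintype.card ι + 1) → u = 0) :
    Function.Surjective τ ∧ ∀ x, τ x = 0 → x ∈ aug C P ^ m := by
  have hτpow := tau_mem_pow K τ hτaug
  constructor
  · -- surjectivity by downward induction
    have key : ∀ d n : ℕ, n + d = m → ∀ y ∈ K ^ n, ∃ x, τ x = y := by
      intro d
      induction d with
      | zero =>
        intro n hn y hy
        rw [add_zero] at hn
        rw [hn, hKm, Ideal.mem_bot] at hy
        exact ⟨0, by rw [map_zero, hy]⟩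
      | succ d ih =>
        intro n hn y hy
        have hlt : n < m := by omega
        have hstep : ∃ x₀, y - τ x₀ ∈ K ^ (n + 1) := by
          rcases Nat.eq_zero_or_pos n with h0 | hpos
          · subst h0
            obtain ⟨c, hc⟩ := h0s y
            refine ⟨algebraMap C _ c, ?_⟩
            rw [AlgHom.commutes, zero_add, pow_one]
            exact hc
          · haveI : Nonempty (ULift.{u} (Fin n)) := ⟨⟨⟨0, hpos⟩⟩⟩
            have hcard : Fintype.card (ULift.{u} (Fin n)) = n := by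
              rw [Fintype.card_ulift, Fintype.card_fin]
            have hlt' : Fintype.card (ULift.{u} (Fin n)) < m := by rw [hcard]; exact hlt
            have hy' : y ∈ K ^ Fintype.card (ULift.{u} (Fin n)) := by rw [hcard]; exact hy
            obtain ⟨u, hu⟩ := hs (ULift.{u} (Fin n)) hlt' y hy'
            rw [hcard] at hu
            exact ⟨toSymAlg u, hu⟩
        obtain ⟨x₀, hx₀⟩ := hstep
        obtain ⟨x₁, hx₁⟩ := ih (n + 1) (by omega) _ hx₀
        refine ⟨x₀ + x₁, ?_⟩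
        rw [map_add, hx₁]
        ring
    intro y
    exact key m 0 (by omega) y (by rw [pow_zero, Ideal.one_eq_top]; trivial)
  · -- injectivity modulo `aug^m` by upward induction
    intro x hx
    have key : ∀ n : ℕ, n ≤ m → x ∈ aug C P ^ n := by
      intro n
      induction n with
      | zero => intro _; rw [pow_zero, Ideal.one_eq_top]; trivial
      | succ n ih =>
        intro hn
        have hxn : x ∈ aug C P ^ n := ih (by omega)
        have hlt : n < m := by omega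
        rcases Nat.eq_zero_or_pos n with h0 | hpos
        · subst h0
          rw [zero_add, pow_one]
          have h1 := sub_algebraMap_mem_aug x
          have h2 : τ (x - algebraMap C (SymmetricAlgebra C P)
              ((SymmetricAlgebra.algebraMapInv : SymmetricAlgebra C P →ₐ[C] C) x)) ∈ K := by
            have := hτpow 1 _ (by rw [pow_one]; exact h1)
            rwa [pow_one] at this
          rw [map_sub, hx, zero_sub, AlgHom.commutes] at h2
          have h3 := h0i _ (by simpa using neg_mem h2)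
          rw [h3, map_zero, sub_zero] at h1
          exact h1
        · haveI : Nonempty (ULift.{u} (Fin n)) := ⟨⟨⟨0, hpos⟩⟩⟩
          have hcard : Fintype.card (ULift.{u} (Fin n)) = n := by
            rw [Fintype.card_ulift, Fintype.card_fin]
          have hlt' : Fintype.card (ULift.{u} (Fin n)) < m := by rw [hcard]; exact hlt
          have hxn' : x ∈ aug C P ^ Fintype.card (ULift.{u} (Fin n)) := by rw [hcard]; exact hxn
          obtain ⟨u, hu⟩ := exists_toSymAlg_sub_mem (ι := ULift.{u} (Fin n)) x hxn'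
          have h2 := hτpow _ _ hu
          rw [map_sub, hx, zero_sub] at h2
          have h3 := hi (ULift.{u} (Fin n)) hlt' u (by simpa using neg_mem h2)
          rw [h3, map_zero, sub_zero, hcard] at hu
          exact hu
    exact key m le_rfl

end Filt

section Abs2

variable {B : Type*} [CommRing B] (J : Ideal B) (m : ℕ)

theorem factor_one_eq_zero_iff (hle : J ^ m ≤ J) (y : B ⧸ J ^ m) :
    Ideal.Quotient.factor hle y = 0 ↔ y ∈ J.map (Ideal.Quotient.mk (J ^ m)) := by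
  obtain ⟨b, rfl⟩ := Ideal.Quotient.mk_surjective y
  rw [Ideal.Quotient.factor_mk, Ideal.Quotient.eq_zero_iff_mem]
  constructor
  · intro h
    exact Ideal.mem_map_of_mem _ h
  · intro h
    rw [Ideal.mem_map_iff_of_surjective _ Ideal.Quotient.mk_surjective] at h
    obtain ⟨b', hb', he⟩ := h
    have h1 : b' - b ∈ J ^ m := Ideal.Quotient.eq.1 he
    have e : b = b' - (b' - b) := by ring
    rw [e]
    exact sub_mem hb' (hle h1)

end Abs2

section Concrete

open Groth.Agent.Lib.QRegSymH1 (phiJ phiJ_tprod_cot jJ jJ_mk jJ_prodClsJ jJ_injective outJ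
  toCotangent_outJ phiJ_surjective zetaJ_eq eq_phiJ)

variable {R B : Type u} [CommRing R] [CommRing B] [Algebra R B] (J : Ideal B)

theorem exists_sigma [Algebra.FormallySmooth R (B ⧸ J)] (m : ℕ) (hle : J ^ m ≤ J) :
    ∃ σ : B ⧸ J →ₐ[R] B ⧸ J ^ m, ∀ c, Ideal.Quotient.factor hle (σ c) = c := by
  let π : B ⧸ J ^ m →ₐ[R] B ⧸ J := Ideal.Quotient.factorₐ R hle
  have hπapp : ∀ y, π y = Ideal.Quotient.factor hle y := fun y => rfl
  have hπsurj : Function.Surjective π := by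
    intro c
    obtain ⟨b, rfl⟩ := Ideal.Quotient.mk_surjective c
    exact ⟨Ideal.Quotient.mk _ b, by rw [hπapp, Ideal.Quotient.factor_mk]⟩
  have hnil : IsNilpotent (RingHom.ker (π : B ⧸ J ^ m →+* B ⧸ J)) := by
    refine ⟨m, ?_⟩
    rw [Ideal.zero_eq_bot, eq_bot_iff, ← map_mk_pow_eq_bot' J m]
    refine Ideal.pow_right_mono (fun z hz => ?_) m
    rw [RingHom.mem_ker] at hz
    exact (factor_one_eq_zero_iff J m hle z).1 hz
  refine ⟨Algebra.FormallySmooth.liftOfSurjective (AlgHom.id R (B ⧸ J)) π hπsurj hnil, fun c => ?_⟩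
  exact Algebra.FormallySmooth.liftOfSurjective_apply (AlgHom.id R (B ⧸ J)) π hπsurj hnil c

theorem exists_lambda [hP : Module.Projective (B ⧸ J) J.Cotangent] (m : ℕ)
    (hle1 : J ^ m ≤ J) (hle2 : J ^ m ≤ J ^ 2)
    (σ : B ⧸ J →+* B ⧸ J ^ m) (hσ : ∀ c, Ideal.Quotient.factor hle1 (σ c) = c) :
    ∃ lam : J.Cotangent →+ B ⧸ J ^ m,
      (∀ (c : B ⧸ J) (p : J.Cotangent), lam (c • p) = σ c * lam p) ∧
      ∀ p, Ideal.Quotient.factor hle2 (lam p) = J.cotangentToQuotientSquare p := by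
  classical
  letI algS : Algebra (B ⧸ J) (B ⧸ J ^ m) := σ.toAlgebra
  letI algB2 : Algebra (B ⧸ J) (B ⧸ J ^ 2) := ((Ideal.Quotient.factor hle2).comp σ).toAlgebra
  have halgS : ∀ c, algebraMap (B ⧸ J) (B ⧸ J ^ m) c = σ c := fun c => rfl
  have halgB2 : ∀ c, algebraMap (B ⧸ J) (B ⧸ J ^ 2) c = Ideal.Quotient.factor hle2 (σ c) :=
    fun c => rfl
  have hmem : ∀ p : J.Cotangent, J.cotangentToQuotientSquare p ∈ J.cotangentIdeal := by
    intro p
    have h2 : J.cotangentToQuotientSquare p ∈ LinearMap.range J.cotangentToQuotientSquare :=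
      ⟨p, rfl⟩
    rw [J.range_cotangentToQuotientSquare] at h2
    exact h2
  have key : ∀ (b : B) (z : B ⧸ J ^ 2), z ∈ J.cotangentIdeal →
      Ideal.Quotient.factor hle2 (σ (Ideal.Quotient.mk J b)) * z =
        Ideal.Quotient.mk (J ^ 2) b * z := by
    intro b z hz
    obtain ⟨s, hs⟩ := Ideal.Quotient.mk_surjective (σ (Ideal.Quotient.mk J b))
    have h1 := hσ (Ideal.Quotient.mk J b)
    rw [← hs, Ideal.Quotient.factor_mk, Ideal.Quotient.eq] at h1
    rw [← hs, Ideal.Quotient.factor_mk, ← sub_eq_zero, ← sub_mul, ← map_sub]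
    have h2 : Ideal.Quotient.mk (J ^ 2) (s - b) ∈ J.cotangentIdeal :=
      Ideal.mk_mem_cotangentIdeal.2 h1
    have h3 := Ideal.mul_mem_mul h2 hz
    rw [← pow_two, J.cotangentIdeal_square, Ideal.mem_bot] at h3
    exact h3
  have hmk : ∀ (a : B) (p : J.Cotangent), Ideal.Quotient.mk J a • p = a • p :=
    fun a p => algebraMap_smul (B ⧸ J) a p
  let cT : J.Cotangent →ₗ[B ⧸ J] B ⧸ J ^ 2 :=
    { toFun := J.cotangentToQuotientSquare
      map_add' := map_add _
      map_smul' := fun c p => by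
        obtain ⟨b, rfl⟩ := Ideal.Quotient.mk_surjective c
        rw [hmk, map_smul, RingHom.id_apply, Algebra.smul_def, Algebra.smul_def, halgB2,
          key b _ (hmem p)]
        rfl }
  let f₂ : B ⧸ J ^ m →ₗ[B ⧸ J] B ⧸ J ^ 2 :=
    { toFun := Ideal.Quotient.factor hle2
      map_add' := map_add _
      map_smul' := fun c y => by
        rw [Algebra.smul_def, map_mul, RingHom.id_apply, Algebra.smul_def, halgS, halgB2] }
  have hf₂ : Function.Surjective f₂ := Ideal.Quotient.factor_surjective hle2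
  obtain ⟨l, hl⟩ := Module.projective_lifting_property f₂ cT hf₂
  refine ⟨l.toAddMonoidHom, fun c p => ?_, fun p => LinearMap.congr_fun hl p⟩
  show l (c • p) = σ c * l p
  rw [map_smul, Algebra.smul_def, halgS]

/-- (b) ⇒ (a). -/
theorem partII [Algebra.FormallySmooth R (B ⧸ J)] (hP : Module.Projective (B ⧸ J) J.Cotangent)
    (hinj : ∀ (ι : Type u) [Fintype ι] [Nonempty ι], Function.Injective (phiJ B J (ι := ι))) :
    CAlgX.IsAdicFormallySmooth R B J := by
  classical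
  intro E _ _ N hN ψ hψ
  obtain ⟨k₀, hk₀⟩ := hψ
  obtain ⟨k, hk1, hk⟩ : ∃ k, 1 ≤ k ∧ ∀ x ∈ J ^ k, ψ x = 0 :=
    ⟨k₀ + 1, by omega, fun x hx => hk₀ x (Ideal.pow_le_pow_right (Nat.le_succ _) hx)⟩
  obtain ⟨m, hm⟩ : ∃ m, m = k + k := ⟨_, rfl⟩
  have hm2 : 2 ≤ m := by omega
  have hkm : k ≤ m := by omega
  have hle1 : J ^ m ≤ J := Ideal.pow_le_self (by omega)
  have hle2 : J ^ m ≤ J ^ 2 := Ideal.pow_le_pow_right hm2
  obtain ⟨σ, hσ⟩ := exists_sigma (R := R) J m hle1
  obtain ⟨lam, hlam1, hlam2⟩ := exists_lambda J m hle1 hle2 σ.toRingHom hσ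
  letI algS : Algebra (B ⧸ J) (B ⧸ J ^ m) := σ.toRingHom.toAlgebra
  have halgS : ∀ c, algebraMap (B ⧸ J) (B ⧸ J ^ m) c = σ c := fun c => rfl
  let lamL : J.Cotangent →ₗ[B ⧸ J] B ⧸ J ^ m :=
    { toFun := lam
      map_add' := map_add lam
      map_smul' := fun c p => by
        rw [hlam1, RingHom.id_apply, Algebra.smul_def, halgS]
        rfl }
  let τ : SymmetricAlgebra (B ⧸ J) J.Cotangent →ₐ[B ⧸ J] B ⧸ J ^ m := SymmetricAlgebra.lift lamL
  have hτι : ∀ p, τ (SymmetricAlgebra.ι (B ⧸ J) J.Cotangent p) = lam p :=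
    fun p => SymmetricAlgebra.lift_ι_apply lamL p
  obtain ⟨K, hKdef⟩ : ∃ K : Ideal (B ⧸ J ^ m), K = J.map (Ideal.Quotient.mk (J ^ m)) := ⟨_, rfl⟩
  have hKm : K ^ m = ⊥ := by
    rw [hKdef]
    exact map_mk_pow_eq_bot' J m
  have hfac : ∀ (n : ℕ) (hnm : n ≤ m) (y : B ⧸ J ^ m),
      Ideal.Quotient.factor (Ideal.pow_le_pow_right hnm) y = 0 ↔ y ∈ K ^ n := by
    intro n hnm y
    rw [hKdef]
    exact factor_eq_zero_iff J m n hnm y
  have hfac1 : ∀ y : B ⧸ J ^ m, Ideal.Quotient.factor hle1 y = 0 ↔ y ∈ K := by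
    intro y
    rw [hKdef]
    exact factor_one_eq_zero_iff J m hle1 y
  have hl1 : ∀ j : J, lam (J.toCotangent j) - Ideal.Quotient.mk (J ^ m) (j : B) ∈ K ^ 2 := by
    intro j
    rw [← hfac 2 hm2, map_sub, hlam2, Ideal.Quotient.factor_mk, sub_eq_zero]
    rfl
  have hmkK : ∀ j : J, Ideal.Quotient.mk (J ^ m) (j : B) ∈ K := fun j => by
    rw [hKdef]
    exact Ideal.mem_map_of_mem _ j.2
  have hl2 : ∀ p, lam p ∈ K := by
    intro p
    obtain ⟨j, rfl⟩ := J.toCotangent_surjective p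
    have e : lam (J.toCotangent j) =
        (lam (J.toCotangent j) - Ideal.Quotient.mk (J ^ m) (j : B)) +
          Ideal.Quotient.mk (J ^ m) (j : B) := by ring
    rw [e]
    exact add_mem (Ideal.pow_le_self two_ne_zero (hl1 j)) (hmkK j)
  have hτaug : ∀ p, τ (SymmetricAlgebra.ι (B ⧸ J) J.Cotangent p) ∈ K := fun p => by
    rw [hτι]
    exact hl2 p
  have h0s : ∀ y : B ⧸ J ^ m, ∃ c : B ⧸ J, y - algebraMap (B ⧸ J) (B ⧸ J ^ m) c ∈ K := by
    intro y
    refine ⟨Ideal.Quotient.factor hle1 y, ?_⟩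
    rw [← hfac1, map_sub, halgS, hσ, sub_self]
  have h0i : ∀ c : B ⧸ J, algebraMap (B ⧸ J) (B ⧸ J ^ m) c ∈ K → c = 0 := by
    intro c hc
    rw [← hfac1, halgS, hσ] at hc
    exact hc
  have comp : ∀ (ι : Type u) [Fintype ι] [Nonempty ι] (hlt : Fintype.card ι < m),
      ∃ e : Sym[B] ι J.Cotangent ≃+ Sym[B ⧸ J] ι J.Cotangent, ∀ u',
        Ideal.Quotient.factor (Ideal.pow_le_pow_right (Nat.succ_le_of_lt hlt))
          (τ (toSymAlg (e u'))) = jJ B J (Fintype.card ι) (phiJ B J u') := by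
    intro ι _ _ hlt
    obtain ⟨e, he⟩ := Groth.Agent.Lib.SymCmpH3.exists_cmp J J.Cotangent (ι := ι)
    refine ⟨e, ?_⟩
    let fac : B ⧸ J ^ m →+* B ⧸ J ^ (Fintype.card ι + 1) :=
      Ideal.Quotient.factor (Ideal.pow_le_pow_right (Nat.succ_le_of_lt hlt))
    let Ψ₁ : Sym[B] ι J.Cotangent →+ B ⧸ J ^ (Fintype.card ι + 1) :=
      fac.toAddMonoidHom.comp (τ.toRingHom.toAddMonoidHom.comp
        ((toSymAlg (R := B ⧸ J) (ι := ι) (M := J.Cotangent)).toAddMonoidHom.comp
          e.toAddMonoidHom))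
    let Ψ₂ : Sym[B] ι J.Cotangent →+ B ⧸ J ^ (Fintype.card ι + 1) :=
      (jJ B J (Fintype.card ι)).toAddMonoidHom.comp (phiJ B J (ι := ι)).toAddMonoidHom
    have hΨ₁ : ∀ u, Ψ₁ u = fac (τ (toSymAlg (e u))) := fun u => rfl
    have hΨ₂ : ∀ u, Ψ₂ u = jJ B J (Fintype.card ι) (phiJ B J u) := fun u => rfl
    have hΨ : Ψ₁ = Ψ₂ := by
      apply Groth.Agent.Lib.SymCmpH3.addHom_ext
      intro mm
      obtain ⟨x, rfl⟩ : ∃ x : ι → J, mm = fun i => J.toCotangent (x i) :=
        ⟨fun i => outJ B J (mm i), by funext i; rw [toCotangent_outJ]⟩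
      rw [hΨ₁, hΨ₂, phiJ_tprod_cot, jJ_prodClsJ, he, toSymAlg_tprod, map_prod]
      simp only [hτι]
      have h1 := prod_sub_prod_mem K Finset.univ (fun i => lam (J.toCotangent (x i)))
        (fun i => Ideal.Quotient.mk (J ^ m) (x i : B)) (fun i _ => hl2 _) (fun i _ => hmkK _)
        (fun i _ => hl1 (x i))
      rw [Finset.card_univ] at h1
      have h2 := (hfac (Fintype.card ι + 1) (Nat.succ_le_of_lt hlt) _).2 h1
      rw [map_sub, sub_eq_zero] at h2
      have h3 : ∏ i, Ideal.Quotient.mk (J ^ m) (x i : B) =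
          Ideal.Quotient.mk (J ^ m) (∏ i, (x i : B)) :=
        (map_prod (Ideal.Quotient.mk (J ^ m)) _ _).symm
      rw [h3, Ideal.Quotient.factor_mk] at h2
      exact h2
    intro u'
    exact DFunLike.congr_fun hΨ u'
  have hs : ∀ (ι : Type u) [Fintype ι] [Nonempty ι], Fintype.card ι < m →
      ∀ y ∈ K ^ Fintype.card ι, ∃ u : Sym[B ⧸ J] ι J.Cotangent,
        y - τ (toSymAlg u) ∈ K ^ (Fintype.card ι + 1) := by
    intro ι _ _ hlt y hy
    obtain ⟨e, hcomp⟩ := comp ι hlt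
    obtain ⟨b, hb, rfl⟩ := exists_mk_of_mem_pow J m (Fintype.card ι) (le_of_lt hlt) y
      (by rw [← hKdef]; exact hy)
    obtain ⟨u', hu'⟩ := phiJ_surjective B J (ι := ι) (Submodule.Quotient.mk ⟨b, hb⟩)
    refine ⟨e u', ?_⟩
    rw [← hfac (Fintype.card ι + 1) (Nat.succ_le_of_lt hlt), map_sub, sub_eq_zero, hcomp, hu',
      jJ_mk, Ideal.Quotient.factor_mk]
  have hi : ∀ (ι : Type u) [Fintype ι] [Nonempty ι], Fintype.card ι < m →
      ∀ u : Sym[B ⧸ J] ι J.Cotangent, τ (toSymAlg u) ∈ K ^ (Fintype.card ι + 1) → u = 0 := by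
    intro ι _ _ hlt u hu
    obtain ⟨e, hcomp⟩ := comp ι hlt
    have h1 := hcomp (e.symm u)
    rw [e.apply_symm_apply, (hfac (Fintype.card ι + 1) (Nat.succ_le_of_lt hlt) _).2 hu] at h1
    have h2 : phiJ B J (e.symm u) = 0 :=
      (injective_iff_map_eq_zero _).1 (jJ_injective B J (Fintype.card ι)) _ h1.symm
    have h3 : e.symm u = 0 := (injective_iff_map_eq_zero _).1 (hinj ι) _ h2
    have h4 : u = e (e.symm u) := (e.apply_symm_apply u).symm
    rw [h4, h3, map_zero]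
  obtain ⟨hτsurj, hτker⟩ := filtered_bijective K τ m hτaug hKm h0s h0i hs hi
  -- the lifting
  have hψkill : ∀ a ∈ J ^ m, ψ a = 0 := fun a ha => hk a (Ideal.pow_le_pow_right hkm ha)
  let ψbar : B ⧸ J ^ m →ₐ[R] E ⧸ N := Ideal.Quotient.liftₐ (J ^ m) ψ hψkill
  have hψbar : ∀ b, ψbar (Ideal.Quotient.mk (J ^ m) b) = ψ b := fun b => rfl
  let u₀ : B ⧸ J →ₐ[R] E ⧸ N := ψbar.comp σ
  obtain ⟨σE, hσE⟩ := Algebra.FormallySmooth.exists_lift N ⟨2, hN⟩ u₀
  letI algE : Algebra (B ⧸ J) E := σE.toRingHom.toAlgebra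
  have halgE : ∀ c, algebraMap (B ⧸ J) E c = σE c := fun c => rfl
  have hσE' : ∀ c, Ideal.Quotient.mk N (σE c) = ψbar (σ c) := fun c => AlgHom.congr_fun hσE c
  let θ₀ : SymmetricAlgebra (B ⧸ J) J.Cotangent →ₐ[B ⧸ J] E ⧸ N :=
    { toRingHom := (ψbar : B ⧸ J ^ m →+* E ⧸ N).comp τ.toRingHom
      commutes' := fun c => by
        show ψbar (τ (algebraMap (B ⧸ J) (SymmetricAlgebra (B ⧸ J) J.Cotangent) c)) =
          algebraMap (B ⧸ J) (E ⧸ N) c
        rw [τ.commutes, halgS, ← hσE']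
        rfl }
  haveI := hP
  obtain ⟨θ, hθ⟩ := exists_lift_symAlg N θ₀
  have hθ' : ∀ x, Ideal.Quotient.mk N (θ x) = ψbar (τ x) := fun x => AlgHom.congr_fun hθ x
  have hθk : ∀ x ∈ aug (B ⧸ J) J.Cotangent ^ k, θ.toRingHom x ∈ N := by
    intro x hx
    show θ x ∈ N
    rw [← Ideal.Quotient.eq_zero_iff_mem, hθ']
    have h1 := tau_mem_pow K τ hτaug k x hx
    obtain ⟨b, hb, hbe⟩ := exists_mk_of_mem_pow J m k hkm (τ x) (by rw [← hKdef]; exact h1)
    rw [← hbe, hψbar]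
    exact hk b hb
  have hθm : ∀ x ∈ aug (B ⧸ J) J.Cotangent ^ m, θ x = 0 := by
    intro x hx
    rw [hm] at hx
    have h1 := map_pow_add_mem (aug (B ⧸ J) J.Cotangent) θ.toRingHom N k hθk x hx
    rwa [hN, Ideal.mem_bot] at h1
  have hker : RingHom.ker τ.toRingHom ≤ RingHom.ker θ.toRingHom :=
    fun x hx => hθm x (hτker x hx)
  let χbar : B ⧸ J ^ m →+* E :=
    τ.toRingHom.liftOfRightInverse (Function.surjInv hτsurj)
      (Function.rightInverse_surjInv hτsurj) ⟨θ.toRingHom, hker⟩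
  have hχbar : ∀ x, χbar (τ x) = θ x := fun x =>
    RingHom.liftOfRightInverse_comp_apply τ.toRingHom (Function.surjInv hτsurj)
      (Function.rightInverse_surjInv hτsurj) ⟨θ.toRingHom, hker⟩ x
  refine ⟨{ toRingHom := χbar.comp (Ideal.Quotient.mk (J ^ m)), commutes' := fun r => ?_ }, ?_⟩
  · show χbar (Ideal.Quotient.mk (J ^ m) (algebraMap R B r)) = algebraMap R E r
    have h1 : Ideal.Quotient.mk (J ^ m) (algebraMap R B r) =
        τ (algebraMap (B ⧸ J) (SymmetricAlgebra (B ⧸ J) J.Cotangent)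
          (algebraMap R (B ⧸ J) r)) := by
      rw [τ.commutes, halgS, σ.commutes]
      rfl
    rw [h1, hχbar, θ.commutes, halgE, σE.commutes]
  · ext b
    obtain ⟨x, hx⟩ := hτsurj (Ideal.Quotient.mk (J ^ m) b)
    show Ideal.Quotient.mk N (χbar (Ideal.Quotient.mk (J ^ m) b)) = ψ b
    rw [← hx, hχbar, hθ', hx, hψbar]

/-- EGA 0_IV 19.5.3 (a) ⇔ (b) over a discrete base. -/
theorem main [Algebra.FormallySmooth R (B ⧸ J)] :
    CAlgX.IsAdicFormallySmooth R B J ↔
      (Module.Projective (B ⧸ J) J.Cotangent ∧ PP16.SymGrBijective B J) := by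
  constructor
  · intro h
    exact Groth.Agent.Lib.AdicFSSymAH3.partI J h
  · rintro ⟨hP, hS⟩
    refine partII J hP (fun ι _ _ => ?_)
    obtain ⟨φ, hφ, hbij⟩ := hS ι
    have h1 : φ = phiJ B J := eq_phiJ B J φ hφ
    rw [← h1]
    exact hbij.1

end Concrete

end Groth.Agent.Lib.AdicFSSymBH3
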