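import Mathlib
import Groth.Agent.Lib.AdicFSSymB_helper3
import Groth.Agent.Lib.AdicFSField_helper3

/-!
# Adic formal smoothness of a local algebra over a field, without Noetherian hypotheses (helper3)

EGA 0_IV 22.5.? : `A` local `k`-algebra; `A` is `𝔪`-adically formally smooth over `k` iff
`Sym^n(𝔪/𝔪²) ≅ 𝔪^n/𝔪^(n+1)` and `Ω_{k/ℤ} ⊗ K → Ω_{A/ℤ} ⊗ K` is injective.
APPEND-ONLY once landed.
-/

set_option autoImplicit false
set_option maxSynthPendingDepth 3

universe u

open TensorProduct IsLocalRing

namespace Groth.Agent.Lib.AdicFSLocalH3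

open Groth.Agent.Lib.AdicFSFieldH3

variable {k A : Type u} [Field k] [CommRing A] [IsLocalRing A] [Algebra k A]

/-- Over the prime field: adic formal smoothness ⟺ the symmetric/graded comparison. -/
theorem primeField_iff [Algebra (PrimeField k) A] [IsScalarTower (PrimeField k) k A] :
    CAlgX.IsAdicFormallySmooth (PrimeField k) A (maximalIdeal A) ↔
      PP16.SymGrBijective A (maximalIdeal A) := by
  letI : Field (A ⧸ maximalIdeal A) := Ideal.Quotient.field _
  haveI : Algebra.IsGeometricallyReduced (PrimeField k) (A ⧸ maximalIdeal A) :=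
    Groth.Agent.Lib.PerfectGRH3.isGeometricallyReduced_of_perfectField _ (A ⧸ maximalIdeal A)
  haveI : Algebra.FormallySmooth (PrimeField k) (A ⧸ maximalIdeal A) :=
    Groth.Agent.Lib.SepSmoothH3.formallySmooth_of_isGeometricallyReduced (PrimeField k)
      (A ⧸ maximalIdeal A)
  rw [Groth.Agent.Lib.AdicFSSymBH3.main (R := PrimeField k) (maximalIdeal A)]
  constructor
  · exact fun h => h.2
  · exact fun h => ⟨Module.Projective.of_free, h⟩

theorem main4571 :
    CAlgX.IsAdicFormallySmooth k A (maximalIdeal A) ↔
      (PP16.SymGrBijective A (maximalIdeal A) ∧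
        Function.Injective
          ((KaehlerDifferential.mapBaseChange ℤ k A).lTensor (ResidueField A))) := by
  classical
  letI alg₀ : Algebra (PrimeField k) A :=
    ((algebraMap k A).comp (algebraMap (PrimeField k) k)).toAlgebra
  haveI : IsScalarTower (PrimeField k) k A := IsScalarTower.of_algebraMap_eq (fun _ => rfl)
  constructor
  · intro h
    refine ⟨primeField_iff.1 (isAdicFormallySmooth_of_tower (PrimeField k) k A _ h), ?_⟩
    apply injective_of_extension
    intro D
    exact exists_derivation_extension (ResidueField A) (maximalIdeal A) h ⟨1, fun x hx => by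
      rw [pow_one] at hx
      exact (residue_eq_zero_iff x).2 hx⟩ D
  · rintro ⟨hsym, hinj⟩
    exact isAdicFormallySmooth_of_extProp (k₀ := PrimeField k) _
      (primeField_iff.2 hsym) (extProp_of_injective hinj)

end Groth.Agent.Lib.AdicFSLocalH3
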