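import Mathlib
import Groth.Prelude.Def_CAlgX
import Groth.Prelude.Def_PP16
import Groth.Agent.Lib.AdicFSDer_helper3
import Groth.Agent.Lib.AdicFSSymB_helper3

/-!
# Relative differential criteria for adic formal smoothness (helper3)

`Λ → A → B`, `J ⊂ B`, `C = B ⧸ J`  (EGA 0_IV 22.6).
* `exists_leftInverse` : `B` adically formally smooth over `A` ⇒
  `C ⊗ (B ⊗_A Ω_{A/Λ}) → C ⊗ Ω_{B/Λ}` has a `C`-linear left inverse.
* `ExtPropRel`, `extPropRel_of_leftInverse`, `isAdicFormallySmooth_of_extPropRel`.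
* `projective_kaehler` : `C ⊗ Ω_{B/R}` is projective when `B` is adically formally smooth over `R`.
* `main4570`.
APPEND-ONLY once landed.
-/

set_option autoImplicit false
set_option maxSynthPendingDepth 3

universe u

open TensorProduct KaehlerDifferential

namespace Groth.Agent.Lib.AdicFSRelH3

open Groth.Agent.Lib.AdicFSDerH3 (lift_of_surjective)

section Tower

/-- Transitivity: `k₀ → k` formally smooth (discrete), `A` adically formally smooth over `k`
  ⇒ `A` adically formally smooth over `k₀`. -/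
theorem isAdicFormallySmooth_of_tower (k₀ k A : Type u) [CommRing k₀] [CommRing k] [CommRing A]
    [Algebra k₀ k] [Algebra k A] [Algebra k₀ A] [IsScalarTower k₀ k A]
    [Algebra.FormallySmooth k₀ k] (𝔫 : Ideal A) (h : CAlgX.IsAdicFormallySmooth k A 𝔫) :
    CAlgX.IsAdicFormallySmooth k₀ A 𝔫 := by
  intro C _ _ J hJ ψ hψ
  let u : k →ₐ[k₀] C ⧸ J := ψ.comp (IsScalarTower.toAlgHom k₀ k A)
  obtain ⟨σ, hσ⟩ := Algebra.FormallySmooth.exists_lift J ⟨2, hJ⟩ u
  letI algC : Algebra k C := σ.toRingHom.toAlgebra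
  haveI : IsScalarTower k₀ k C := IsScalarTower.of_algebraMap_eq (fun x => (σ.commutes x).symm)
  let ψ' : A →ₐ[k] C ⧸ J :=
    { ψ.toRingHom with
      commutes' := fun x => by
        have h1 : Ideal.Quotient.mk J (σ x) = ψ (algebraMap k A x) := AlgHom.congr_fun hσ x
        exact h1.symm }
  obtain ⟨χ, hχ⟩ := h C J hJ ψ' hψ
  refine ⟨χ.restrictScalars k₀, ?_⟩
  ext x
  exact AlgHom.congr_fun hχ x

end Tower

section Span

variable {Λ A B C : Type u} [CommRing Λ] [CommRing A] [CommRing B] [CommRing C] [Algebra Λ A]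
  [Algebra A B] [Algebra Λ B] [IsScalarTower Λ A B] [Algebra B C]

theorem one_tmul_smul {M : Type*} [AddCommGroup M] [Module B M] (c : B) (ω : M) :
    (1 : C) ⊗ₜ[B] (c • ω) = algebraMap B C c • ((1 : C) ⊗ₜ[B] ω) := by
  rw [tmul_smul, algebraMap_smul]

theorem one_tmul_one_tmul_smul (c : A) (ω : Ω[A⁄Λ]) :
    (1 : C) ⊗ₜ[B] ((1 : B) ⊗ₜ[A] (c • ω)) =
      algebraMap B C (algebraMap A B c) • ((1 : C) ⊗ₜ[B] ((1 : B) ⊗ₜ[A] ω)) := by
  rw [tmul_smul, ← algebraMap_smul B c ((1 : B) ⊗ₜ[A] ω), one_tmul_smul]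

/-- generators of `C ⊗_B Ω_{B/Λ}` -/
theorem span_tmul_D :
    Submodule.span C (Set.range fun b : B => (1 : C) ⊗ₜ[B] D Λ B b) = ⊤ := by
  rw [eq_top_iff]
  rintro x -
  set S := Submodule.span C (Set.range fun b : B => (1 : C) ⊗ₜ[B] D Λ B b) with hS
  have h1 : ∀ ω : Ω[B⁄Λ], (1 : C) ⊗ₜ[B] ω ∈ S := by
    intro ω
    have hω : ω ∈ Submodule.span B (Set.range (D Λ B)) := by
      rw [KaehlerDifferential.span_range_derivation]
      trivial
    induction hω using Submodule.span_induction with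
    | mem x hx =>
      obtain ⟨a, rfl⟩ := hx
      exact Submodule.subset_span ⟨a, rfl⟩
    | zero =>
      rw [tmul_zero]
      exact S.zero_mem
    | add x y _ _ hx hy =>
      rw [tmul_add]
      exact S.add_mem hx hy
    | smul c x _ hx =>
      rw [one_tmul_smul]
      exact S.smul_mem _ hx
  induction x using TensorProduct.induction_on with
  | zero => exact S.zero_mem
  | add x y hx hy => exact S.add_mem hx hy
  | tmul c y =>
    have : c ⊗ₜ[B] y = c • ((1 : C) ⊗ₜ[B] y) := by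
      rw [smul_tmul', smul_eq_mul, mul_one]
    rw [this]
    exact S.smul_mem _ (h1 y)

/-- generators of `C ⊗_B (B ⊗_A Ω_{A/Λ})` -/
theorem span_tmul_tmul_D :
    Submodule.span C (Set.range fun a : A =>
      (1 : C) ⊗ₜ[B] ((1 : B) ⊗ₜ[A] D Λ A a)) = ⊤ := by
  rw [eq_top_iff]
  rintro x -
  set S := Submodule.span C (Set.range fun a : A =>
      (1 : C) ⊗ₜ[B] ((1 : B) ⊗ₜ[A] D Λ A a)) with hS
  have h1 : ∀ ω : Ω[A⁄Λ], (1 : C) ⊗ₜ[B] ((1 : B) ⊗ₜ[A] ω) ∈ S := by
    intro ω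
    have hω : ω ∈ Submodule.span A (Set.range (D Λ A)) := by
      rw [KaehlerDifferential.span_range_derivation]
      trivial
    induction hω using Submodule.span_induction with
    | mem x hx =>
      obtain ⟨a, rfl⟩ := hx
      exact Submodule.subset_span ⟨a, rfl⟩
    | zero =>
      rw [tmul_zero, tmul_zero]
      exact S.zero_mem
    | add x y _ _ hx hy =>
      rw [tmul_add, tmul_add]
      exact S.add_mem hx hy
    | smul c x _ hx =>
      rw [one_tmul_one_tmul_smul]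
      exact S.smul_mem _ hx
  have h2 : ∀ y : B ⊗[A] Ω[A⁄Λ], (1 : C) ⊗ₜ[B] y ∈ S := by
    intro y
    induction y using TensorProduct.induction_on with
    | zero =>
      rw [tmul_zero]
      exact S.zero_mem
    | add x y hx hy =>
      rw [tmul_add]
      exact S.add_mem hx hy
    | tmul r ω =>
      have h3 : r ⊗ₜ[A] ω = r • ((1 : B) ⊗ₜ[A] ω) := by
        rw [smul_tmul', smul_eq_mul, mul_one]
      rw [h3, one_tmul_smul]
      exact S.smul_mem _ (h1 ω)
  induction x using TensorProduct.induction_on with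
  | zero => exact S.zero_mem
  | add x y hx hy => exact S.add_mem hx hy
  | tmul c y =>
    have : c ⊗ₜ[B] y = c • ((1 : C) ⊗ₜ[B] y) := by
      rw [smul_tmul', smul_eq_mul, mul_one]
    rw [this]
    exact S.smul_mem _ (h2 y)

end Span

section LI

variable {Λ A B : Type u} [CommRing Λ] [CommRing A] [CommRing B] [Algebra Λ A] [Algebra A B]
  [Algebra Λ B] [IsScalarTower Λ A B] (J : Ideal B)

theorem baseChange_one_tmul_one_tmul_D (a : A) :
    (mapBaseChange Λ A B).baseChange (B ⧸ J)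
      ((1 : B ⧸ J) ⊗ₜ[B] ((1 : B) ⊗ₜ[A] D Λ A a)) =
      (1 : B ⧸ J) ⊗ₜ[B] D Λ B (algebraMap A B a) := by
  rw [LinearMap.baseChange_tmul, KaehlerDifferential.mapBaseChange_tmul, one_smul,
    KaehlerDifferential.map_D]

/-- `B` adically formally smooth over `A` ⇒ the first map of the relative cotangent sequence,
tensored with `B ⧸ J`, is split injective. -/
theorem exists_leftInverse (h : CAlgX.IsAdicFormallySmooth A B J) :
    ∃ r : (B ⧸ J) ⊗[B] Ω[B⁄Λ] →ₗ[B ⧸ J] (B ⧸ J) ⊗[B] (B ⊗[A] Ω[A⁄Λ]),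
      r ∘ₗ (mapBaseChange Λ A B).baseChange (B ⧸ J) = LinearMap.id := by
  classical
  let g : Ω[A⁄Λ] →ₗ[A] (B ⧸ J) ⊗[B] (B ⊗[A] Ω[A⁄Λ]) :=
    ((TensorProduct.mk B (B ⧸ J) (B ⊗[A] Ω[A⁄Λ]) 1).restrictScalars A) ∘ₗ
      (TensorProduct.mk A B Ω[A⁄Λ] 1)
  have hg : ∀ ω, g ω = (1 : B ⧸ J) ⊗ₜ[B] ((1 : B) ⊗ₜ[A] ω) := fun ω => rfl
  let D₀ : Derivation Λ A ((B ⧸ J) ⊗[B] (B ⊗[A] Ω[A⁄Λ])) := g.compDer (D Λ A)
  have hD₀ : ∀ a, D₀ a = (1 : B ⧸ J) ⊗ₜ[B] ((1 : B) ⊗ₜ[A] D Λ A a) := fun a => rfl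
  have hM : ∃ k : ℕ, ∀ x ∈ J ^ k, ∀ m : (B ⧸ J) ⊗[B] (B ⊗[A] Ω[A⁄Λ]), x • m = 0 :=
    ⟨1, fun x hx m => by
      rw [pow_one] at hx
      rw [← algebraMap_smul (B ⧸ J) x m, Ideal.Quotient.algebraMap_eq,
        Ideal.Quotient.eq_zero_iff_mem.2 hx, zero_smul]⟩
  obtain ⟨D', hD'⟩ := Groth.Agent.Lib.AdicFSDerH3.exists_derivation_extension J h hM D₀
  refine ⟨(D'.liftKaehlerDifferential).liftBaseChange (B ⧸ J), ?_⟩
  apply LinearMap.ext_on (span_tmul_tmul_D (Λ := Λ) (A := A) (B := B) (C := B ⧸ J))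
  rintro _ ⟨a, rfl⟩
  show (D'.liftKaehlerDifferential).liftBaseChange (B ⧸ J)
    ((mapBaseChange Λ A B).baseChange (B ⧸ J)
      ((1 : B ⧸ J) ⊗ₜ[B] ((1 : B) ⊗ₜ[A] D Λ A a))) = _
  rw [baseChange_one_tmul_one_tmul_D, LinearMap.liftBaseChange_tmul, one_smul,
    Derivation.liftKaehlerDifferential_comp_D, hD', hD₀]
  rfl

end LI

section Ext

/-- The relative derivation extension property for `J`-torsion modules. -/
def ExtPropRel (Λ A B : Type u) [CommRing Λ] [CommRing A] [CommRing B] [Algebra Λ A]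
    [Algebra A B] (J : Ideal B) : Prop :=
  ∀ (V : Type u) [AddCommGroup V] [Module B V], (∀ x ∈ J, ∀ v : V, x • v = 0) →
    ∀ D₁ : A →+ V, (∀ a b, D₁ (a * b) = algebraMap A B a • D₁ b + algebraMap A B b • D₁ a) →
      (∀ l : Λ, D₁ (algebraMap Λ A l) = 0) →
      ∃ D' : B →+ V, (∀ a b, D' (a * b) = a • D' b + b • D' a) ∧
        ∀ a, D' (algebraMap A B a) = D₁ a

variable {Λ A B : Type u} [CommRing Λ] [CommRing A] [CommRing B] [Algebra Λ A] [Algebra A B]
  [Algebra Λ B] [IsScalarTower Λ A B] (J : Ideal B)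

theorem extPropRel_of_leftInverse
    (r : (B ⧸ J) ⊗[B] Ω[B⁄Λ] →ₗ[B ⧸ J] (B ⧸ J) ⊗[B] (B ⊗[A] Ω[A⁄Λ]))
    (hr : r ∘ₗ (mapBaseChange Λ A B).baseChange (B ⧸ J) = LinearMap.id) :
    ExtPropRel Λ A B J := by
  classical
  intro V _ _ hV D₁ hD hDΛ
  have htors : Module.IsTorsionBySet B V (J : Set B) := by
    intro v x
    exact hV x.1 x.2 v
  letI modC : Module (B ⧸ J) V := htors.module
  haveI : IsScalarTower B (B ⧸ J) V := htors.isScalarTower
  letI modA : Module A V := Module.compHom V (algebraMap A B)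
  haveI : IsScalarTower A B V := ⟨fun c a v => by
    show (c • a) • v = algebraMap A B c • (a • v)
    rw [Algebra.smul_def, mul_smul]⟩
  letI modΛ : Module Λ V := Module.compHom V (algebraMap Λ A)
  haveI : IsScalarTower Λ A V := ⟨fun c a v => by
    show (c • a) • v = algebraMap Λ A c • (a • v)
    rw [Algebra.smul_def, mul_smul]⟩
  have hleib : ∀ a b : A, D₁ (a * b) = a • D₁ b + b • D₁ a := hD
  let Dl : A →ₗ[Λ] V :=
    { toFun := D₁
      map_add' := map_add D₁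
      map_smul' := fun l a => by
        rw [Algebra.smul_def, hleib, hDΛ, smul_zero, add_zero]
        rfl }
  let Dk : Derivation Λ A V := Derivation.mk' Dl hleib
  have hDk : ∀ a, Dk a = D₁ a := fun a => rfl
  let φ₀ : Ω[A⁄Λ] →ₗ[A] V := Dk.liftKaehlerDifferential
  let φ₁ : B ⊗[A] Ω[A⁄Λ] →ₗ[B] V := φ₀.liftBaseChange B
  let φ : (B ⧸ J) ⊗[B] (B ⊗[A] Ω[A⁄Λ]) →ₗ[B ⧸ J] V := φ₁.liftBaseChange (B ⧸ J)
  let ψ : (B ⧸ J) ⊗[B] Ω[B⁄Λ] →ₗ[B ⧸ J] V := φ ∘ₗ r
  let D' : B →+ V :=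
    { toFun := fun b => ψ ((1 : B ⧸ J) ⊗ₜ[B] D Λ B b)
      map_zero' := by
        show ψ _ = 0
        rw [map_zero, tmul_zero, map_zero]
      map_add' := fun a b => by
        show ψ _ = ψ _ + ψ _
        rw [map_add, tmul_add, map_add] }
  refine ⟨D', fun a b => ?_, fun a => ?_⟩
  · show ψ _ = a • ψ _ + b • ψ _
    rw [(D Λ B).leibniz, tmul_add, map_add, one_tmul_smul, one_tmul_smul,
      map_smul, map_smul, algebraMap_smul, algebraMap_smul]
  · show ψ ((1 : B ⧸ J) ⊗ₜ[B] D Λ B (algebraMap A B a)) = D₁ a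
    rw [← baseChange_one_tmul_one_tmul_D]
    show φ (r ((mapBaseChange Λ A B).baseChange (B ⧸ J) _)) = D₁ a
    have h2 : r ((mapBaseChange Λ A B).baseChange (B ⧸ J)
        ((1 : B ⧸ J) ⊗ₜ[B] ((1 : B) ⊗ₜ[A] D Λ A a))) =
        (1 : B ⧸ J) ⊗ₜ[B] ((1 : B) ⊗ₜ[A] D Λ A a) :=
      LinearMap.congr_fun hr _
    rw [h2]
    show (1 : B ⧸ J) • ((1 : B) • φ₀ (D Λ A a)) = D₁ a
    rw [one_smul, one_smul, Derivation.liftKaehlerDifferential_comp_D]
    rfl

end Ext

section Step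

variable {k₀ k A : Type u} [CommRing k₀] [CommRing k] [CommRing A] [Algebra k₀ k] [Algebra k A]
  [Algebra k₀ A] [IsScalarTower k₀ k A]

/-- One step: lifting along a square-zero ideal killed by (lifts of) the image of `𝔫`. -/
theorem one_step (𝔫 : Ideal A) (hA₀ : CAlgX.IsAdicFormallySmooth k₀ A 𝔫) (hext : ExtPropRel k₀ k A 𝔫)
    (C : Type u) [CommRing C] [Algebra k C] (N : Ideal C) (hN : N ^ 2 = ⊥)
    (ψ : A →ₐ[k] C ⧸ N) (hψ : ∃ j : ℕ, ∀ x ∈ 𝔫 ^ j, ψ x = 0)
    (hkill : ∀ x ∈ 𝔫, ∀ c : C, Ideal.Quotient.mk N c = ψ x → ∀ n ∈ N, c * n = 0) :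
    ∃ χ : A →ₐ[k] C, (Ideal.Quotient.mkₐ k N).comp χ = ψ := by
  classical
  letI algC₀ : Algebra k₀ C := ((algebraMap k C).comp (algebraMap k₀ k)).toAlgebra
  haveI : IsScalarTower k₀ k C := IsScalarTower.of_algebraMap_eq (fun _ => rfl)
  haveI : IsScalarTower k₀ k (C ⧸ N) := IsScalarTower.of_algebraMap_eq (fun _ => rfl)
  obtain ⟨χ₀, hχ₀⟩ := hA₀ C N hN (ψ.restrictScalars k₀) hψ
  have hχ₀' : ∀ a, Ideal.Quotient.mk N (χ₀ a) = ψ a := fun a => AlgHom.congr_fun hχ₀ a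
  letI modA : Module A N := Module.compHom N χ₀.toRingHom
  have hsmul : ∀ (a : A) (v : N), ((a • v : N) : C) = χ₀ a * v := fun a v => rfl
  have htors : ∀ x ∈ 𝔫, ∀ v : N, x • v = 0 := by
    intro x hx v
    apply Subtype.ext
    rw [hsmul]
    exact hkill x hx (χ₀ x) (hχ₀' x) v.1 v.2
  have hmem : ∀ a : k, algebraMap k C a - χ₀ (algebraMap k A a) ∈ N := by
    intro a
    rw [← Ideal.Quotient.eq, hχ₀', ψ.commutes]
    rfl
  have hsq : ∀ x ∈ N, ∀ y ∈ N, x * y = 0 := by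
    intro x hx y hy
    have : x * y ∈ N ^ 2 := by
      rw [pow_two]
      exact Ideal.mul_mem_mul hx hy
    rwa [hN, Ideal.mem_bot] at this
  let δ : k →+ N :=
    { toFun := fun a => ⟨algebraMap k C a - χ₀ (algebraMap k A a), hmem a⟩
      map_zero' := by
        apply Subtype.ext
        show algebraMap k C 0 - χ₀ (algebraMap k A 0) = 0
        rw [map_zero, map_zero, map_zero, sub_zero]
      map_add' := fun a b => by
        apply Subtype.ext
        show algebraMap k C (a + b) - χ₀ (algebraMap k A (a + b)) =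
          (algebraMap k C a - χ₀ (algebraMap k A a)) + (algebraMap k C b - χ₀ (algebraMap k A b))
        rw [map_add, map_add, map_add]
        ring }
  have hδ : ∀ a b, δ (a * b) = algebraMap k A a • δ b + algebraMap k A b • δ a := by
    intro a b
    apply Subtype.ext
    show algebraMap k C (a * b) - χ₀ (algebraMap k A (a * b)) =
      χ₀ (algebraMap k A a) * (algebraMap k C b - χ₀ (algebraMap k A b)) +
        χ₀ (algebraMap k A b) * (algebraMap k C a - χ₀ (algebraMap k A a))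
    have h0 := hsq _ (hmem a) _ (hmem b)
    rw [map_mul, map_mul, map_mul]
    linear_combination h0
  have hδΛ : ∀ l : k₀, δ (algebraMap k₀ k l) = 0 := by
    intro l
    apply Subtype.ext
    show algebraMap k C (algebraMap k₀ k l) - χ₀ (algebraMap k A (algebraMap k₀ k l)) = 0
    rw [← IsScalarTower.algebraMap_apply k₀ k A, χ₀.commutes]
    exact sub_self _
  obtain ⟨D', hD'leib, hD'ext⟩ := hext N htors δ hδ hδΛ
  have hD'one : D' 1 = 0 := by
    have h1 := hD'leib 1 1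
    rw [mul_one, one_smul] at h1
    exact left_eq_add.1 h1
  let χr : A →+* C :=
    { toFun := fun a => χ₀ a + (D' a : C)
      map_one' := by
        rw [map_one, hD'one]
        show (1 : C) + 0 = 1
        rw [add_zero]
      map_mul' := fun a b => by
        have h1 : ((D' (a * b) : N) : C) = χ₀ a * (D' b : C) + χ₀ b * (D' a : C) := by
          rw [hD'leib]
          rfl
        have h2 := hsq _ (D' a).2 _ (D' b).2
        rw [h1, map_mul]
        linear_combination -h2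
      map_zero' := by
        rw [map_zero, map_zero]
        show (0 : C) + 0 = 0
        rw [add_zero]
      map_add' := fun a b => by
        rw [map_add, map_add]
        show χ₀ a + χ₀ b + ((D' a : C) + (D' b : C)) = _
        ring }
  refine ⟨{ χr with commutes' := fun a => ?_ }, ?_⟩
  · show χ₀ (algebraMap k A a) + (D' (algebraMap k A a) : C) = algebraMap k C a
    rw [hD'ext]
    show χ₀ (algebraMap k A a) + (algebraMap k C a - χ₀ (algebraMap k A a)) = _
    ring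
  · ext a
    show Ideal.Quotient.mk N (χ₀ a + (D' a : C)) = ψ a
    rw [map_add, hχ₀', Ideal.Quotient.eq_zero_iff_mem.2 (D' a).2, add_zero]

/-- Induction along the filtration by powers of the image of `𝔫`. -/
theorem lift_of_filtration (𝔫 : Ideal A) (hA₀ : CAlgX.IsAdicFormallySmooth k₀ A 𝔫)
    (hext : ExtPropRel k₀ k A 𝔫) :
    ∀ (i : ℕ) (C C' : Type u) [CommRing C] [CommRing C'] [Algebra k C] [Algebra k C']
      (π : C →ₐ[k] C') (_ : Function.Surjective π) (_ : RingHom.ker π.toRingHom ^ 2 = ⊥)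
      (ψ : A →ₐ[k] C') (_ : ∃ j : ℕ, ∀ x ∈ 𝔫 ^ j, ψ x = 0)
      (_ : (Ideal.comap π.toRingHom (Ideal.map ψ.toRingHom 𝔫)) ^ i * RingHom.ker π.toRingHom = ⊥),
      ∃ χ : A →ₐ[k] C, π.comp χ = ψ := by
  intro i
  induction i with
  | zero =>
    intro C C' _ _ _ _ π hπ hker ψ hψ hfil
    rw [pow_zero, one_mul] at hfil
    have hinj : Function.Injective π := (RingHom.injective_iff_ker_eq_bot π.toRingHom).2 hfil
    let e : C ≃ₐ[k] C' := AlgEquiv.ofBijective π ⟨hinj, hπ⟩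
    refine ⟨e.symm.toAlgHom.comp ψ, ?_⟩
    ext a
    show e (e.symm (ψ a)) = ψ a
    exact e.apply_symm_apply (ψ a)
  | succ i ih =>
    intro C C' _ _ _ _ π hπ hker ψ hψ hfil
    set I := RingHom.ker π.toRingHom with hI
    set 𝔐 := Ideal.comap π.toRingHom (Ideal.map ψ.toRingHom 𝔫) with h𝔐
    set N := 𝔐 ^ i * I with hNdef
    have hNI : N ≤ I := Ideal.mul_le_right
    let π₁ : C ⧸ N →ₐ[k] C' := Ideal.Quotient.liftₐ N π (fun x hx => hNI hx)
    have hπ₁mk : ∀ c, π₁ (Ideal.Quotient.mk N c) = π c := fun c => rfl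
    have hπ₁ : Function.Surjective π₁ := fun y => by
      obtain ⟨c, rfl⟩ := hπ y
      exact ⟨Ideal.Quotient.mk N c, rfl⟩
    have hker₁le : RingHom.ker π₁.toRingHom ≤ I.map (Ideal.Quotient.mk N) := by
      intro z hz
      obtain ⟨c, rfl⟩ := Ideal.Quotient.mk_surjective z
      exact Ideal.mem_map_of_mem _ (show c ∈ I from hz)
    have hker₁ : RingHom.ker π₁.toRingHom ^ 2 = ⊥ := by
      rw [eq_bot_iff]
      calc RingHom.ker π₁.toRingHom ^ 2 ≤ (I.map (Ideal.Quotient.mk N)) ^ 2 :=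
            Ideal.pow_right_mono hker₁le 2
        _ = (I ^ 2).map (Ideal.Quotient.mk N) := (Ideal.map_pow _ _ _).symm
        _ = ⊥ := by rw [hker, Ideal.map_bot]
    have h𝔐₁le : Ideal.comap π₁.toRingHom (Ideal.map ψ.toRingHom 𝔫) ≤
        𝔐.map (Ideal.Quotient.mk N) := by
      intro z hz
      obtain ⟨c, rfl⟩ := Ideal.Quotient.mk_surjective z
      exact Ideal.mem_map_of_mem _ (show c ∈ 𝔐 from hz)
    have hfil₁ : (Ideal.comap π₁.toRingHom (Ideal.map ψ.toRingHom 𝔫)) ^ i *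
        RingHom.ker π₁.toRingHom = ⊥ := by
      rw [eq_bot_iff]
      calc (Ideal.comap π₁.toRingHom (Ideal.map ψ.toRingHom 𝔫)) ^ i * RingHom.ker π₁.toRingHom
          ≤ (𝔐.map (Ideal.Quotient.mk N)) ^ i * I.map (Ideal.Quotient.mk N) :=
            Ideal.mul_mono (Ideal.pow_right_mono h𝔐₁le i) hker₁le
        _ = (𝔐 ^ i * I).map (Ideal.Quotient.mk N) := by rw [Ideal.map_mul, Ideal.map_pow]
        _ = ⊥ := Ideal.map_quotient_self N
    obtain ⟨χ₁, hχ₁⟩ := ih (C ⧸ N) C' π₁ hπ₁ hker₁ ψ hψ hfil₁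
    have hχ₁' : ∀ a, π₁ (χ₁ a) = ψ a := fun a => AlgHom.congr_fun hχ₁ a
    have hN2 : N ^ 2 = ⊥ := by
      rw [eq_bot_iff, ← hker]
      exact Ideal.pow_right_mono hNI 2
    obtain ⟨j, hj⟩ := hψ
    have hψ₁ : ∃ j' : ℕ, ∀ x ∈ 𝔫 ^ j', χ₁ x = 0 := by
      refine ⟨j + j, fun x hx => ?_⟩
      rw [pow_add] at hx
      have hle : 𝔫 ^ j * 𝔫 ^ j ≤ RingHom.ker χ₁.toRingHom := by
        rw [Ideal.mul_le]
        intro a ha b hb
        rw [RingHom.mem_ker]
        show χ₁ (a * b) = 0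
        rw [map_mul]
        have ha' : χ₁ a ∈ RingHom.ker π₁.toRingHom := by
          rw [RingHom.mem_ker]
          show π₁ (χ₁ a) = 0
          rw [hχ₁', hj a ha]
        have hb' : χ₁ b ∈ RingHom.ker π₁.toRingHom := by
          rw [RingHom.mem_ker]
          show π₁ (χ₁ b) = 0
          rw [hχ₁', hj b hb]
        have h3 : χ₁ a * χ₁ b ∈ RingHom.ker π₁.toRingHom ^ 2 := by
          rw [pow_two]
          exact Ideal.mul_mem_mul ha' hb'
        rwa [hker₁, Ideal.mem_bot] at h3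
      exact hle hx
    have hkill : ∀ x ∈ 𝔫, ∀ c : C, Ideal.Quotient.mk N c = χ₁ x → ∀ n ∈ N, c * n = 0 := by
      intro x hx c hc n hn
      have hc𝔐 : c ∈ 𝔐 := by
        show π c ∈ Ideal.map ψ.toRingHom 𝔫
        rw [← hπ₁mk, hc, hχ₁']
        exact Ideal.mem_map_of_mem _ hx
      have h3 : c * n ∈ 𝔐 ^ (i + 1) * I := by
        rw [pow_succ', mul_assoc]
        exact Ideal.mul_mem_mul hc𝔐 hn
      rwa [hfil, Ideal.mem_bot] at h3
    obtain ⟨χ, hχ⟩ := one_step 𝔫 hA₀ hext C N hN2 χ₁ hψ₁ hkill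
    refine ⟨χ, ?_⟩
    ext a
    have h1 : Ideal.Quotient.mk N (χ a) = χ₁ a := AlgHom.congr_fun hχ a
    show π (χ a) = ψ a
    rw [← hπ₁mk, h1, hχ₁']

/-- Adically formally smooth over `k₀` + extension of derivations from `k`
  ⇒ adically formally smooth over `k`. -/
theorem isAdicFormallySmooth_of_extPropRel (𝔫 : Ideal A)
    (hA₀ : CAlgX.IsAdicFormallySmooth k₀ A 𝔫) (hext : ExtPropRel k₀ k A 𝔫) :
    CAlgX.IsAdicFormallySmooth k A 𝔫 := by
  intro C _ _ J hJ ψ hψ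
  obtain ⟨j, hj⟩ := hψ
  have hker : RingHom.ker (Ideal.Quotient.mkₐ k J).toRingHom = J := Ideal.mk_ker
  refine lift_of_filtration (k₀ := k₀) 𝔫 hA₀ hext j C (C ⧸ J) (Ideal.Quotient.mkₐ k J)
    (Ideal.Quotient.mkₐ_surjective k J) (by rw [hker]; exact hJ) ψ ⟨j, hj⟩ ?_
  rw [hker, eq_bot_iff, ← hJ, pow_two]
  refine Ideal.mul_mono_left ?_
  calc (Ideal.comap (Ideal.Quotient.mkₐ k J).toRingHom (Ideal.map ψ.toRingHom 𝔫)) ^ j
      ≤ Ideal.comap (Ideal.Quotient.mkₐ k J).toRingHom ((Ideal.map ψ.toRingHom 𝔫) ^ j) :=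
        Ideal.le_comap_pow _ _
    _ = Ideal.comap (Ideal.Quotient.mkₐ k J).toRingHom ⊥ := by
        rw [← Ideal.map_pow, (Ideal.map_eq_bot_iff_le_ker ψ.toRingHom).2 (fun x hx => hj x hx)]
    _ = J := hker

end Step

section Proj

variable {R B : Type u} [CommRing R] [CommRing B] [Algebra R B] (J : Ideal B)

/-- `(B ⧸ J) ⊗ Ω_{B/R}` is projective when `B` is adically formally smooth over `R`. -/
theorem projective_kaehler (h : CAlgX.IsAdicFormallySmooth R B J) :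
    Module.Projective (B ⧸ J) ((B ⧸ J) ⊗[B] Ω[B⁄R]) := by
  classical
  apply Module.Projective.of_lifting_property''
  intro f hf
  let g₀ : Ω[B⁄R] →ₗ[B] (B ⧸ J) ⊗[B] Ω[B⁄R] := TensorProduct.mk B (B ⧸ J) Ω[B⁄R] 1
  let d' : Derivation R B ((B ⧸ J) ⊗[B] Ω[B⁄R]) := g₀.compDer (D R B)
  have hd' : ∀ b, d' b = (1 : B ⧸ J) ⊗ₜ[B] D R B b := fun b => rfl
  have hF : ∃ k : ℕ, ∀ x ∈ J ^ k,
      ∀ m : ((B ⧸ J) ⊗[B] Ω[B⁄R] →₀ B ⧸ J), x • m = 0 :=
    ⟨1, fun x hx m => by
      rw [pow_one] at hx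
      rw [← algebraMap_smul (B ⧸ J) x m, Ideal.Quotient.algebraMap_eq,
        Ideal.Quotient.eq_zero_iff_mem.2 hx, zero_smul]⟩
  obtain ⟨d, hd⟩ := Groth.Agent.Lib.AdicFSDerH3.exists_derivation_lift J h hF
    (f.restrictScalars B) hf d'
  refine ⟨(d.liftKaehlerDifferential).liftBaseChange (B ⧸ J), ?_⟩
  apply LinearMap.ext_on (span_tmul_D (Λ := R) (B := B) (C := B ⧸ J))
  rintro _ ⟨b, rfl⟩
  show f ((d.liftKaehlerDifferential).liftBaseChange (B ⧸ J) ((1 : B ⧸ J) ⊗ₜ[B] D R B b)) = _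
  rw [LinearMap.liftBaseChange_tmul, one_smul, Derivation.liftKaehlerDifferential_comp_D]
  exact hd b

end Proj

section Main

variable {Λ A B : Type u} [CommRing Λ] [CommRing A] [CommRing B] [Algebra Λ A] [Algebra A B]
  [Algebra Λ B] [IsScalarTower Λ A B] (J : Ideal B)

theorem exact_baseChange :
    Function.Exact ((mapBaseChange Λ A B).baseChange (B ⧸ J))
      ((KaehlerDifferential.map Λ A B B).baseChange (B ⧸ J)) := by
  have h1 := lTensor_exact (B ⧸ J) (KaehlerDifferential.exact_mapBaseChange_map Λ A B)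
    (KaehlerDifferential.map_surjective Λ A B)
  intro y
  exact h1 y

theorem surjective_baseChange :
    Function.Surjective ((KaehlerDifferential.map Λ A B B).baseChange (B ⧸ J)) :=
  LinearMap.lTensor_surjective (B ⧸ J) (KaehlerDifferential.map_surjective Λ A B)

theorem main4570 [Algebra.FormallySmooth Λ (B ⧸ J)] :
    ((Module.Projective (B ⧸ J) J.Cotangent ∧ PP16.SymGrBijective B J ∧
        Function.Injective ((mapBaseChange Λ A B).lTensor (B ⧸ J)) ∧
        Module.Projective (B ⧸ J) ((B ⧸ J) ⊗[B] (Ω[B⁄A]))) →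
      CAlgX.IsAdicFormallySmooth A B J) ∧
    (Algebra.FormallySmooth Λ A → CAlgX.IsAdicFormallySmooth A B J →
      (Module.Projective (B ⧸ J) J.Cotangent ∧ PP16.SymGrBijective B J ∧
        Function.Injective ((mapBaseChange Λ A B).lTensor (B ⧸ J)) ∧
        Module.Projective (B ⧸ J) ((B ⧸ J) ⊗[B] (Ω[B⁄A])))) := by
  classical
  constructor
  · rintro ⟨hα, hβ, hγ, hδ⟩
    have hΛ : CAlgX.IsAdicFormallySmooth Λ B J :=
      (Groth.Agent.Lib.AdicFSSymBH3.main (R := Λ) J).2 ⟨hα, hβ⟩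
    have hγ' : Function.Injective ((mapBaseChange Λ A B).baseChange (B ⧸ J)) := hγ
    haveI := hδ
    obtain ⟨i, hi⟩ := Module.projective_lifting_property
      ((KaehlerDifferential.map Λ A B B).baseChange (B ⧸ J)) LinearMap.id
      (surjective_baseChange (Λ := Λ) (A := A) J)
    have htfae := (exact_baseChange (Λ := Λ) (A := A) J).split_tfae hγ'
      (surjective_baseChange (Λ := Λ) (A := A) J)
    have h01 : (∃ l, (KaehlerDifferential.map Λ A B B).baseChange (B ⧸ J) ∘ₗ l = LinearMap.id) ↔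
        (∃ l, l ∘ₗ (mapBaseChange Λ A B).baseChange (B ⧸ J) = LinearMap.id) := htfae.out 0 1
    obtain ⟨r, hr⟩ := h01.1 ⟨i, hi⟩
    exact isAdicFormallySmooth_of_extPropRel (k₀ := Λ) J hΛ (extPropRel_of_leftInverse J r hr)
  · intro hA h
    haveI := hA
    have hΛ : CAlgX.IsAdicFormallySmooth Λ B J := isAdicFormallySmooth_of_tower Λ A B J h
    obtain ⟨hα, hβ⟩ := (Groth.Agent.Lib.AdicFSSymBH3.main (R := Λ) J).1 hΛ
    obtain ⟨r, hr⟩ := exists_leftInverse (Λ := Λ) J h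
    refine ⟨hα, hβ, ?_, projective_kaehler J h⟩
    have h1 : Function.Injective ((mapBaseChange Λ A B).baseChange (B ⧸ J)) := by
      intro x y hxy
      have := congrArg r hxy
      rwa [← LinearMap.comp_apply, ← LinearMap.comp_apply, hr] at this
    exact h1

end Main

end Groth.Agent.Lib.AdicFSRelH3
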