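import Mathlib
import Groth.Prelude.Def_EGA41
import Groth.Agent.Lib.PBasis6_helper3
import Groth.Agent.Lib.ImperfField_helper3

/-!
# `p`-independence over a directed family of subfields, and dual derivations (helper3)

* `exists_of_directed` : Lemma LD.  If `v_1, …, v_m` are linearly independent over `L₀ = ⋂ L i`
  for a directed family of subfields `L i`, they are linearly independent over some `L i`.
* `exists_dual_derivations` : `𝕂` of characteristic `p`, `L i ⊇ 𝕂^p` directed with `⋂ L i = 𝕂^p`;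
  if `d t_s` are linearly independent in `Ω[𝕂/ℤ]` (finitely many), then for some `i` there are
  derivations `E_s` of `𝕂` killing `L i` with `E_s (t_s') = δ`.
APPEND-ONLY once landed.
-/

set_option autoImplicit false
set_option maxSynthPendingDepth 3

namespace Groth.Agent.Lib.PIndepDirectedH3

universe u

open EGA41 KaehlerDifferential Groth.Agent.Lib.PBasisH3 Groth.Agent.Lib.AdicFSFieldH3

section LD

variable {K : Type*} [Field K] {V : Type*} [AddCommGroup V] [Module K V]

/-- explicit linear independence over a subset of scalars -/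
def LI (S : Set K) (m : ℕ) (v : Fin m → V) : Prop :=
  ∀ c : Fin m → K, (∀ a, c a ∈ S) → ∑ a, c a • v a = 0 → ∀ a, c a = 0

theorem LI.mono {S T : Set K} (h : S ⊆ T) {m : ℕ} {v : Fin m → V} (hT : LI T m v) : LI S m v :=
  fun c hc hsum => hT c (fun a => h (hc a)) hsum

variable {ι : Type*} [Nonempty ι] (L : ι → Subfield K) (L₀ : Subfield K)

/-- Lemma LD. -/
theorem exists_of_directed (hdir : ∀ a b, ∃ c, L c ≤ L a ⊓ L b)
    (hinf : ∀ x, (∀ i, x ∈ L i) → x ∈ L₀) :
    ∀ (m : ℕ) (v : Fin m → V), LI (L₀ : Set K) m v → ∃ i, LI (L i : Set K) m v := by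
  intro m
  induction m with
  | zero =>
    intro v _
    obtain ⟨i⟩ := ‹Nonempty ι›
    exact ⟨i, fun c _ _ a => a.elim0⟩
  | succ m ih =>
    intro v hv
    let w : Fin m → V := fun a => v a.castSucc
    have hw : LI (L₀ : Set K) m w := by
      intro c hc hsum a
      have h1 := hv (Fin.snoc c 0) (fun b => by
        refine Fin.lastCases ?_ (fun b => ?_) b
        · simp only [Fin.snoc_last]; exact L₀.zero_mem
        · simp only [Fin.snoc_castSucc]; exact hc b) (by
        rw [Fin.sum_univ_castSucc]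
        simp only [Fin.snoc_castSucc, Fin.snoc_last, zero_smul, add_zero]
        exact hsum) a.castSucc
      simpa using h1
    obtain ⟨i₀, hi₀⟩ := ih w hw
    by_contra hcon
    push Not at hcon
    -- for each `i` below `i₀`, the last vector is an `L i`-combination of the others
    have hcomb : ∀ i, L i ≤ L i₀ → ∃ d : Fin m → K, (∀ a, d a ∈ L i) ∧
        v (Fin.last m) = ∑ a, d a • w a := by
      intro i hle
      have hni := hcon i
      unfold LI at hni
      push Not at hni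
      obtain ⟨c, hc, hsum, a₀, ha₀⟩ := hni
      rw [Fin.sum_univ_castSucc] at hsum
      have hlast : c (Fin.last m) ≠ 0 := by
        intro h0
        rw [h0, zero_smul, add_zero] at hsum
        have h1 := hi₀ (fun a => c a.castSucc) (fun a => hle (hc _)) hsum
        refine Fin.lastCases ?_ (fun b => ?_) a₀ |> fun h => ha₀ h
        · exact h0
        · exact h1 b
      refine ⟨fun a => -(c a.castSucc) / c (Fin.last m), fun a =>
        (L i).div_mem ((L i).neg_mem (hc _)) (hc _), ?_⟩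
      have h2 : c (Fin.last m) • v (Fin.last m) = -∑ a : Fin m, c a.castSucc • w a := by
        rw [eq_neg_iff_add_eq_zero, add_comm]; exact hsum
      have h3 : v (Fin.last m) = (c (Fin.last m))⁻¹ • (c (Fin.last m) • v (Fin.last m)) := by
        rw [smul_smul, inv_mul_cancel₀ hlast, one_smul]
      rw [h3, h2, smul_neg, Finset.smul_sum, ← Finset.sum_neg_distrib]
      refine Finset.sum_congr rfl fun a _ => ?_
      rw [smul_smul, ← neg_smul]
      congr 1
      field_simp
    obtain ⟨d₀, hd₀, hv₀⟩ := hcomb i₀ le_rfl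
    have hd₀mem : ∀ a, d₀ a ∈ L₀ := by
      intro a
      apply hinf
      intro i
      obtain ⟨j, hj⟩ := hdir i i₀
      have hj1 : L j ≤ L i := hj.trans inf_le_left
      have hj2 : L j ≤ L i₀ := hj.trans inf_le_right
      obtain ⟨d, hd, hvd⟩ := hcomb j hj2
      have hzero : ∑ b, (d b - d₀ b) • w b = 0 := by
        simp only [sub_smul, Finset.sum_sub_distrib]
        rw [← hvd, ← hv₀, sub_self]
      have h4 := hi₀ (fun b => d b - d₀ b)
        (fun b => (L i₀).sub_mem (hj2 (hd b)) (hd₀ b)) hzero a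
      have h5 : d a = d₀ a := sub_eq_zero.1 h4
      rw [← h5]
      exact hj1 (hd a)
    have h6 := hv (Fin.snoc d₀ (-1)) (fun b => by
        refine Fin.lastCases ?_ (fun b => ?_) b
        · simp only [Fin.snoc_last]; exact L₀.neg_mem L₀.one_mem
        · simp only [Fin.snoc_castSucc]; exact hd₀mem b) (by
        rw [Fin.sum_univ_castSucc]
        simp only [Fin.snoc_castSucc, Fin.snoc_last, neg_smul, one_smul]
        rw [hv₀]
        exact add_neg_cancel _) (Fin.last m)
    simp only [Fin.snoc_last] at h6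
    exact one_ne_zero (neg_eq_zero.1 h6)

end LD

section Conv

variable {k : Type*} [CommRing k] {𝕂 : Type*} [Field 𝕂] [Algebra k 𝕂]

theorem li_fin_iff (S : Subalgebra k 𝕂) (m : ℕ) (v : Fin m → 𝕂) :
    LinearIndependent S v ↔ LI (S : Set 𝕂) m v := by
  constructor
  · intro h c hc hsum a
    have h1 := Fintype.linearIndependent_iff.1 h (fun a => (⟨c a, hc a⟩ : S)) (by
      simpa [Subalgebra.smul_def] using hsum) a
    exact congrArg Subtype.val h1
  · intro h
    rw [Fintype.linearIndependent_iff]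
    intro g hg a
    have h1 := h (fun a => (g a : 𝕂)) (fun a => (g a).2) (by
      simpa [Subalgebra.smul_def] using hg) a
    exact Subtype.ext h1

end Conv

section Dual

variable (p : ℕ) [hp : Fact p.Prime] {𝕂 : Type u} [Field 𝕂] [CharP 𝕂 p]

omit hp [CharP 𝕂 p] in
theorem exists_comparison :
    ∃ φ : Ω[𝕂⁄PrimeField 𝕂] →ₗ[𝕂] Ω[𝕂⁄ℤ], ∀ x, φ (D (PrimeField 𝕂) 𝕂 x) = D ℤ 𝕂 x := by
  have hsm : ∀ (c : PrimeField 𝕂) (ω : Ω[𝕂⁄ℤ]), c • ω = algebraMap (PrimeField 𝕂) 𝕂 c • ω :=
    fun c ω => (algebraMap_smul 𝕂 c ω).symm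
  let Δ : Derivation (PrimeField 𝕂) 𝕂 Ω[𝕂⁄ℤ] :=
    { toLinearMap :=
        { toFun := D ℤ 𝕂
          map_add' := map_add _
          map_smul' := fun c a => by
            show D ℤ 𝕂 (c • a) = c • D ℤ 𝕂 a
            rw [Algebra.smul_def, (D ℤ 𝕂).leibniz,
              Groth.Agent.Lib.ImperfFieldH3.derivation_primeField, smul_zero, add_zero, hsm] }
      map_one_eq_zero' := (D ℤ 𝕂).map_one_eq_zero
      leibniz' := (D ℤ 𝕂).leibniz }
  exact ⟨Δ.liftKaehlerDifferential, fun x => Derivation.liftKaehlerDifferential_comp_D Δ x⟩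

omit hp [CharP 𝕂 p] in
theorem finite_redIdx (σ : Type*) [Finite σ] : Finite {e : σ →₀ ℕ // ∀ i, e i < p} := by
  let f : {e : σ →₀ ℕ // ∀ i, e i < p} → (σ → Fin p) := fun e i => ⟨e.1 i, e.2 i⟩
  apply Finite.of_injective f
  intro e e' h
  apply Subtype.ext
  ext i
  exact congrArg Fin.val (congrFun h i)

include hp in
theorem exists_dual_derivations {ι : Type*} [Nonempty ι] (L : ι → Subfield 𝕂)
    (hdir : ∀ a b, ∃ c, L c ≤ L a ⊓ L b)
    (hpow : ∀ i (x : 𝕂), x ^ p ∈ L i)
    (hinf : ∀ x, (∀ i, x ∈ L i) → ∃ y : 𝕂, y ^ p = x)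
    {σ : Type u} [Finite σ] (t : σ → 𝕂)
    (ht : LinearIndependent 𝕂 (fun s => D ℤ 𝕂 (t s))) :
    ∃ i, ∃ E : σ → Derivation ℤ 𝕂 𝕂, (∀ s, ∀ x ∈ L i, E s x = 0) ∧
      (∀ s, E s (t s) = 1) ∧ ∀ s s', s ≠ s' → E s (t s') = 0 := by
  classical
  obtain ⟨φ, hφ⟩ := exists_comparison (𝕂 := 𝕂)
  have ht0 : LinearIndependent 𝕂 (fun s => D (PrimeField 𝕂) 𝕂 (t s)) := by
    apply LinearIndependent.of_comp φ
    have h1 : φ ∘ (fun s => D (PrimeField 𝕂) 𝕂 (t s)) = fun s => D ℤ 𝕂 (t s) :=
      funext fun s => hφ _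
    rw [h1]
    exact ht
  have hP0 : IsPIndependent p (PrimeField 𝕂) t := isPIndependent_of_linearIndependent_D p t ht0
  haveI := finite_redIdx p σ
  obtain ⟨m, ⟨eqv⟩⟩ := Finite.exists_equiv_fin {e : σ →₀ ℕ // ∀ i, e i < p}
  let v : Fin m → 𝕂 := fun a => redMon p t (eqv.symm a)
  let L₀ : Subfield 𝕂 := (frobenius 𝕂 p).fieldRange
  have hL₀ : ∀ x, x ∈ L₀ ↔ ∃ y : 𝕂, y ^ p = x := fun x => by
    show x ∈ (frobenius 𝕂 p).fieldRange ↔ _
    rw [RingHom.mem_fieldRange]
    rfl
  have hv0 : LI (L₀ : Set 𝕂) m v := by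
    have h1 : LinearIndependent (pPowerSubalgebra p (PrimeField 𝕂) 𝕂) v :=
      (show LinearIndependent _ (redMon p t) from hP0).comp eqv.symm eqv.symm.injective
    refine LI.mono ?_ ((li_fin_iff _ m v).1 h1)
    intro x hx
    obtain ⟨y, rfl⟩ := (hL₀ x).1 hx
    exact pow_mem_pPower p y
  obtain ⟨i, hi⟩ := exists_of_directed L L₀ hdir (fun x hx => (hL₀ x).2 (hinf x hx)) m v hv0
  have hPi : IsPIndependent p (L i) t := by
    have hcar : ((pPowerSubalgebra p (L i) 𝕂 : Subalgebra (L i) 𝕂) : Set 𝕂) ⊆ (L i : Set 𝕂) := by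
      intro x hx
      have hle : pPowerSubalgebra p (L i) 𝕂 ≤ (⊥ : Subalgebra (L i) 𝕂) := by
        apply Algebra.adjoin_le
        rintro _ ⟨b, rfl⟩
        exact Algebra.mem_bot.2 ⟨⟨b ^ p, hpow i b⟩, rfl⟩
      obtain ⟨y, rfl⟩ := Algebra.mem_bot.1 (hle hx)
      exact y.2
    have h1 : LinearIndependent (pPowerSubalgebra p (L i) 𝕂) v :=
      (li_fin_iff _ m v).2 (LI.mono hcar hi)
    have h2 := h1.comp eqv eqv.injective
    have h3 : v ∘ eqv = redMon p t := by
      funext e
      show redMon p t (eqv.symm (eqv e)) = _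
      rw [Equiv.symm_apply_apply]
    rw [h3] at h2
    exact h2
  have hDi : LinearIndependent 𝕂 (fun s => D (L i) 𝕂 (t s)) :=
    linearIndependent_D_of_isPIndependent p t hPi
  haveI : Fintype σ := Fintype.ofFinite σ
  let g : (σ → 𝕂) →ₗ[𝕂] Ω[𝕂⁄L i] := Fintype.linearCombination 𝕂 (fun s => D (L i) 𝕂 (t s))
  have hg : Function.Injective g :=
    linearIndependent_iff_injective_fintypeLinearCombination.1 hDi
  obtain ⟨r, hr⟩ := LinearMap.exists_leftInverse_of_injective g (LinearMap.ker_eq_bot.2 hg)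
  have key : ∀ s s', (r (D (L i) 𝕂 (t s'))) s = if s = s' then 1 else 0 := by
    intro s s'
    have h1 : D (L i) 𝕂 (t s') = g (Pi.single s' 1) := by
      show _ = Fintype.linearCombination 𝕂 (fun s => D (L i) 𝕂 (t s)) (Pi.single s' 1)
      rw [Fintype.linearCombination_apply_single, one_smul]
    have h2 : r (g (Pi.single s' (1 : 𝕂))) = Pi.single s' 1 :=
      LinearMap.congr_fun hr (Pi.single s' (1 : 𝕂))
    rw [h1, h2, Pi.single_apply]

  refine ⟨i, fun s => Groth.Agent.Lib.ImperfFieldH3.toIntDer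
    (((LinearMap.proj s).comp r).compDer (D (L i) 𝕂)), ?_, ?_, ?_⟩
  · intro s x hx
    show (r (D (L i) 𝕂 x)) s = 0
    have h1 : D (L i) 𝕂 x = 0 := (D (L i) 𝕂).map_algebraMap (⟨x, hx⟩ : L i)
    rw [h1, map_zero]
    rfl
  · intro s
    show (r (D (L i) 𝕂 (t s))) s = 1
    rw [key, if_pos rfl]
  · intro s s' hne
    show (r (D (L i) 𝕂 (t s'))) s = 0
    rw [key, if_neg hne]

end Dual
end Groth.Agent.Lib.PIndepDirectedH3
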