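import Mathlib
import Groth.Agent.Lib.AdicFSLocal_helper3
import Groth.Agent.Lib.AdicFSRel_helper3
import Groth.Agent.Lib.PIndepDirected_helper3

/-!
# Adic formal smoothness of a local algebra over a field of characteristic `p`, via a decreasing
family of subfields (helper3)

EGA 0_IV 22.5.? : `k_α` decreasing directed with `⋂ k_α(k^p) = k^p`; `A` local `k`-algebra is
`𝔪`-adically formally smooth iff `Sym^n(𝔪/𝔪²) ≅ 𝔪^n/𝔪^(n+1)` and for all large `α`,
`Ω_{k/k_α} ⊗ K → Ω_{A/k_α} ⊗ K` is injective.
APPEND-ONLY once landed.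
-/

set_option autoImplicit false
set_option maxSynthPendingDepth 3

universe u

open TensorProduct KaehlerDifferential IsLocalRing

namespace Groth.Agent.Lib.AdicFSDirectedH3

section B2

variable {k S : Type u} [Field k] [CommRing S] [IsLocalRing S] [Algebra k S]

/-- finite-support criterion for injectivity of `Ω_k ⊗ κ → Ω_S ⊗ κ`, with residue-field valued
derivations -/
theorem injective_of_dual_derivations'
    (H : ∀ (σ : Type u) [Finite σ] (t : σ → k), LinearIndependent k (fun s => D ℤ k (t s)) →
      ∃ E : σ → Derivation ℤ S (ResidueField S), (∀ s, E s (algebraMap k S (t s)) = 1) ∧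
        ∀ s s', s ≠ s' → E s (algebraMap k S (t s')) = 0) :
    Function.Injective ((KaehlerDifferential.mapBaseChange ℤ k S).lTensor (ResidueField S)) := by
  classical
  let f := (KaehlerDifferential.mapBaseChange ℤ k S).baseChange (ResidueField S)
  have hf : (f : _ → _) = (KaehlerDifferential.mapBaseChange ℤ k S).lTensor (ResidueField S) :=
    LinearMap.baseChange_eq_ltensor _
  rw [← hf, injective_iff_map_eq_zero]
  intro v hv
  have hsp : ⊤ ≤ Submodule.span k (Set.range (D ℤ k)) := by
    rw [KaehlerDifferential.span_range_derivation]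
  let b := Module.Basis.ofSpan hsp
  have hbmem : ∀ i, ∃ x : k, D ℤ k x = b i := fun i => Module.Basis.ofSpan_subset hsp ⟨i, rfl⟩
  choose x hx using hbmem
  let bκ := (b.baseChange S).baseChange (ResidueField S)
  have hbκ : ∀ i, bκ i = (1 : ResidueField S) ⊗ₜ[S] ((1 : S) ⊗ₜ[k] D ℤ k (x i)) := by
    intro i
    show ((b.baseChange S).baseChange (ResidueField S)) i = _
    rw [Module.Basis.baseChange_apply, Module.Basis.baseChange_apply, hx]
  have hfb : ∀ i, f (bκ i) = (1 : ResidueField S) ⊗ₜ[S] D ℤ S (algebraMap k S (x i)) := by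
    intro i
    rw [hbκ]
    show (1 : ResidueField S) ⊗ₜ[S] (KaehlerDifferential.mapBaseChange ℤ k S
      ((1 : S) ⊗ₜ[k] D ℤ k (x i))) = _
    rw [KaehlerDifferential.mapBaseChange_tmul, one_smul, KaehlerDifferential.map_D]
  set c := bκ.repr v with hc
  let σ := {i // i ∈ c.support}
  let t : σ → k := fun s => x s.1
  have hli : LinearIndependent k (fun s : σ => D ℤ k (t s)) := by
    have h1 : (fun s : σ => D ℤ k (t s)) = b ∘ (Subtype.val : σ → _) := funext fun s => hx s.1
    rw [h1]
    exact b.linearIndependent.comp _ Subtype.val_injective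
  obtain ⟨E, hE1, hE0⟩ := H σ t hli
  have hv' : v = ∑ i ∈ c.support, c i • bκ i := by
    conv_lhs => rw [← bκ.linearCombination_repr v]
    rw [Finsupp.linearCombination_apply, Finsupp.sum]
  have hc0 : c = 0 := by
    ext j
    by_contra hj
    have hjs : j ∈ c.support := Finsupp.mem_support_iff.2 hj
    let g₀ : Ω[S⁄ℤ] →ₗ[S] ResidueField S := (E ⟨j, hjs⟩).liftKaehlerDifferential
    let ψ : ResidueField S ⊗[S] Ω[S⁄ℤ] →ₗ[ResidueField S] ResidueField S :=
      g₀.liftBaseChange (ResidueField S)
    have hψ : ∀ i (hi : i ∈ c.support), ψ (f (bκ i)) = if i = j then 1 else 0 := by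
      intro i hi
      rw [hfb]
      show (1 : ResidueField S) • g₀ (D ℤ S (algebraMap k S (x i))) = _
      rw [one_smul]
      show (E ⟨j, hjs⟩).liftKaehlerDifferential (D ℤ S (algebraMap k S (x i))) = _
      rw [Derivation.liftKaehlerDifferential_comp_D]
      by_cases hij : i = j
      · subst hij
        rw [if_pos rfl]
        exact hE1 ⟨i, hjs⟩
      · rw [if_neg hij]
        exact hE0 ⟨j, hjs⟩ ⟨i, hi⟩ (fun h => hij (congrArg Subtype.val h).symm)
    have h0 : ψ (f v) = 0 := by rw [hv, map_zero]
    rw [hv', map_sum, map_sum] at h0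
    have h1 : ∑ i ∈ c.support, ψ (f (c i • bκ i)) = c j := by
      rw [Finset.sum_eq_single_of_mem j hjs]
      · rw [map_smul, map_smul, hψ j hjs, if_pos rfl, smul_eq_mul, mul_one]
      · intro i hi hij
        rw [map_smul, map_smul, hψ i hi, if_neg hij, smul_zero]
    rw [h1] at h0
    exact hj h0
  exact bκ.repr.map_eq_zero_iff.1 hc0

end B2

section Main

open Groth.Agent.Lib.AdicFSRelH3 Groth.Agent.Lib.PIndepDirectedH3

theorem main4616 {k A : Type u} [Field k] (p : ℕ) [Fact p.Prime] [CharP k p] [CommRing A]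
    [IsLocalRing A] [Algebra k A]
    {ι : Type u} [Preorder ι] [IsDirected ι (fun a b => a ≤ b)] [Nonempty ι] (kα : ι → Subfield k)
    (hanti : Antitone kα)
    (hint : ⨅ α, (kα α ⊔ (frobenius k p).fieldRange) = (frobenius k p).fieldRange) :
    CAlgX.IsAdicFormallySmooth k A (maximalIdeal A) ↔
      (PP16.SymGrBijective A (maximalIdeal A) ∧ ∃ α₀ : ι, ∀ α : ι, α₀ ≤ α →
        Function.Injective ((mapBaseChange (kα α) k A).lTensor (ResidueField A))) := by
  classical
  constructor
  · intro h
    refine ⟨(Groth.Agent.Lib.AdicFSLocalH3.main4571.1 h).1, Classical.arbitrary ι, fun α _ => ?_⟩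
    obtain ⟨r, hr⟩ := exists_leftInverse (Λ := kα α) (A := k) (B := A) (maximalIdeal A) h
    have h1 : Function.Injective
        ((mapBaseChange (kα α) k A).baseChange (A ⧸ maximalIdeal A)) := by
      intro x y hxy
      have := congrArg r hxy
      rwa [← LinearMap.comp_apply, ← LinearMap.comp_apply, hr] at this
    exact h1
  · rintro ⟨hsym, α₀, hα₀⟩
    refine Groth.Agent.Lib.AdicFSLocalH3.main4571.2 ⟨hsym, ?_⟩
    apply injective_of_dual_derivations'
    intro σ _ t ht
    obtain ⟨L, hL⟩ : ∃ L : ι → Subfield k, L = fun α => kα α ⊔ (frobenius k p).fieldRange :=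
      ⟨_, rfl⟩
    have hLα : ∀ α, L α = kα α ⊔ (frobenius k p).fieldRange := fun α => by rw [hL]
    have hdir : ∀ a b, ∃ c, L c ≤ L a ⊓ L b := by
      intro a b
      obtain ⟨c, hac, hbc⟩ := exists_ge_ge a b
      refine ⟨c, le_inf ?_ ?_⟩
      · rw [hLα, hLα]
        exact sup_le_sup_right (hanti hac) _
      · rw [hLα, hLα]
        exact sup_le_sup_right (hanti hbc) _
    have hpow : ∀ i (x : k), x ^ p ∈ L i := by
      intro i x
      rw [hLα]
      exact (le_sup_right : (frobenius k p).fieldRange ≤ _) ⟨x, rfl⟩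
    have hinf : ∀ x, (∀ i, x ∈ L i) → ∃ y : k, y ^ p = x := by
      intro x hx
      have h1 : x ∈ ⨅ α, (kα α ⊔ (frobenius k p).fieldRange) :=
        Subfield.mem_iInf.2 (fun α => by rw [← hLα]; exact hx α)
      rw [hint] at h1
      obtain ⟨y, hy⟩ := h1
      exact ⟨y, hy⟩
    obtain ⟨α₁, E, hEL, hE1, hE0⟩ := exists_dual_derivations p L hdir hpow hinf t ht
    obtain ⟨α, hα0, hα1⟩ := exists_ge_ge α₀ α₁
    letI : Field (A ⧸ maximalIdeal A) := Ideal.Quotient.field _
    have hinj : Function.Injective
        ((mapBaseChange (kα α) k A).baseChange (A ⧸ maximalIdeal A)) := hα₀ α hα0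
    obtain ⟨r, hr⟩ := LinearMap.exists_leftInverse_of_injective _ (LinearMap.ker_eq_bot.2 hinj)
    have hext := extPropRel_of_leftInverse (Λ := kα α) (A := k) (B := A) (maximalIdeal A) r hr
    have hV : ∀ x ∈ maximalIdeal A, ∀ v : ResidueField A, x • v = 0 := fun x hx v => by
      rw [Algebra.smul_def]
      have : algebraMap A (ResidueField A) x = 0 := (residue_eq_zero_iff x).2 hx
      rw [this, zero_mul]
    have key : ∀ s : σ, ∃ D' : Derivation ℤ A (ResidueField A),
        ∀ a : k, D' (algebraMap k A a) = algebraMap k (ResidueField A) (E s a) := by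
      intro s
      let D₁ : k →+ ResidueField A :=
        (algebraMap k (ResidueField A) : k →+* ResidueField A).toAddMonoidHom.comp
          ((E s : k →ₗ[ℤ] k).toAddMonoidHom)
      have hD₁ : ∀ a, D₁ a = algebraMap k (ResidueField A) (E s a) := fun a => rfl
      have hsm : ∀ (a : k) (v : ResidueField A),
          algebraMap k A a • v = algebraMap k (ResidueField A) a * v := fun a v => by
        rw [Algebra.smul_def, ← IsScalarTower.algebraMap_apply]
      obtain ⟨D', hleib, hextD⟩ := hext (ResidueField A) hV D₁ (fun a b => by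
          rw [hD₁, hD₁, hD₁, hsm, hsm, (E s).leibniz, map_add, smul_eq_mul, smul_eq_mul,
            map_mul, map_mul]) (fun l => by
          rw [hD₁]
          have h1 : E s (algebraMap (kα α) k l) = 0 := hEL s _ (by
            rw [hLα]
            exact (le_sup_left : kα α₁ ≤ _) (hanti hα1 l.2))
          rw [h1, map_zero])
      exact ⟨Derivation.mk' D'.toIntLinearMap hleib, fun a => (hextD a).trans (hD₁ a)⟩
    choose E' hE' using key
    refine ⟨E', fun s => ?_, fun s s' hne => ?_⟩
    · rw [hE', hE1, map_one]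
    · rw [hE', hE0 s s' hne, map_zero]

end Main

end Groth.Agent.Lib.AdicFSDirectedH3
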