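import Mathlib
import Groth.Prelude.Def_CAlgX
import Groth.Prelude.Def_Found
import Groth.Agent.Lib.GeomRegFS_helper3
import Groth.Agent.Lib.RegFlat_helper3

/-!
# Transfer lemmas for adic formal smoothness, and regularity from local adic formal smoothness
(helper3)
-/

set_option autoImplicit false

namespace Groth.Agent.Lib.AdicFSTransferH3

universe u

open TensorProduct IsLocalRing

section Trans

variable (R R' S : Type u) [CommRing R] [CommRing R'] [CommRing S]
  [Algebra R R'] [Algebra R' S] [Algebra R S] [IsScalarTower R R' S]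

/-- (L-b) If `R → R'` is formally unramified and `R → S` is adic formally smooth, then so is
`R' → S`. -/
theorem adic_of_formallyUnramified_base [Algebra.FormallyUnramified R R'] (𝔫 : Ideal S)
    (h : CAlgX.IsAdicFormallySmooth R S 𝔫) : CAlgX.IsAdicFormallySmooth R' S 𝔫 := by
  intro A _ _ J hJ ψ hψ
  letI algRA : Algebra R A := Algebra.compHom A (algebraMap R R')
  haveI towA : IsScalarTower R R' A := IsScalarTower.of_algebraMap_eq (fun _ => rfl)
  haveI towAJ : IsScalarTower R R' (A ⧸ J) := IsScalarTower.of_algebraMap_eq (fun _ => rfl)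
  obtain ⟨χ₀, hχ₀⟩ := h A J hJ (ψ.restrictScalars R) hψ
  have hχ₀' : ∀ s, Ideal.Quotient.mk J (χ₀ s) = ψ s := fun s => by
    have := DFunLike.congr_fun hχ₀ s
    exact this
  have key : (IsScalarTower.toAlgHom R R' A) = χ₀.comp (IsScalarTower.toAlgHom R R' S) := by
    apply Algebra.FormallyUnramified.comp_injective J hJ
    ext r'
    show Ideal.Quotient.mk J (algebraMap R' A r') = Ideal.Quotient.mk J (χ₀ (algebraMap R' S r'))
    rw [hχ₀', AlgHom.commutes]
    rfl
  let χ : S →ₐ[R'] A :=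
    { χ₀.toRingHom with
      commutes' := fun r' => (DFunLike.congr_fun key r').symm }
  refine ⟨χ, ?_⟩
  ext s
  exact hχ₀' s

/-- (A') If `R → R'` is formally smooth and `R' → S` is adic formally smooth, then so is
`R → S`. -/
theorem adic_of_formallySmooth_base [Algebra.FormallySmooth R R'] (𝔫 : Ideal S)
    (h : CAlgX.IsAdicFormallySmooth R' S 𝔫) : CAlgX.IsAdicFormallySmooth R S 𝔫 := by
  intro A _ _ J hJ ψ hψ
  obtain ⟨g, hg⟩ := Algebra.FormallySmooth.comp_surjective R R' J hJ
    (ψ.comp (IsScalarTower.toAlgHom R R' S))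
  have hg' : ∀ r', Ideal.Quotient.mk J (g r') = ψ (algebraMap R' S r') := fun r' =>
    DFunLike.congr_fun hg r'
  letI algR'A : Algebra R' A := g.toRingHom.toAlgebra
  haveI towA : IsScalarTower R R' A := IsScalarTower.of_algebraMap_eq (fun r => (g.commutes r).symm)
  let ψ' : S →ₐ[R'] A ⧸ J :=
    { ψ.toRingHom with
      commutes' := fun r' => (hg' r').symm }
  obtain ⟨χ, hχ⟩ := h A J hJ ψ' hψ
  refine ⟨χ.restrictScalars R, ?_⟩
  ext s
  have := DFunLike.congr_fun hχ s
  exact this

end Trans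

section RegOfAdic

variable (A B : Type u) [CommRing A] [CommRing B] [Algebra A B]

/-- If `A → B` is flat with `B` Noetherian and every `A → B_𝔓` is adic formally smooth, then
`A → B` is regular. -/
theorem isRegularHom_of_forall_adic [IsNoetherianRing B] [Module.Flat A B]
    (h : ∀ (𝔓 : Ideal B) [𝔓.IsPrime], CAlgX.IsAdicFormallySmooth A (Localization.AtPrime 𝔓)
      (maximalIdeal (Localization.AtPrime 𝔓))) : CAlg.IsRegularHom A B := by
  refine ⟨inferInstance, fun Q hQ => ?_⟩
  haveI hN : IsNoetherianRing (Q.Fiber B) := Groth.Agent.Lib.RegFlatH3.isNoetherianRing_fiber A B Q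
  refine ⟨hN, ?_⟩
  rw [Groth.Agent.Lib.GeomRegFSH3.isGeometricallyRegular_iff_forall_adic]
  intro 𝔮 h𝔮
  -- the prime of `B`
  obtain ⟨𝔓, h𝔓⟩ : ∃ 𝔓 : Ideal B, 𝔓 = 𝔮.comap
    (Algebra.TensorProduct.includeRight : B →ₐ[A] Q.Fiber B).toRingHom := ⟨_, rfl⟩
  haveI h𝔓prime : 𝔓.IsPrime := by rw [h𝔓]; exact Ideal.comap_isPrime _ _
  have h𝔓' : 𝔓 = 𝔮.comap
      (Algebra.TensorProduct.includeRight : B →ₐ[A] Q.Fiber B).toRingHom := h𝔓
  let β : Localization.AtPrime 𝔓 →+* Localization.AtPrime 𝔮 :=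
    Localization.localRingHom 𝔓 𝔮
      (Algebra.TensorProduct.includeRight : B →ₐ[A] Q.Fiber B).toRingHom h𝔓'
  have hβ : ∀ b : B, β (algebraMap B (Localization.AtPrime 𝔓) b) =
      algebraMap (Q.Fiber B) (Localization.AtPrime 𝔮) ((1 : Q.ResidueField) ⊗ₜ[A] b) := fun b =>
    Localization.localRingHom_to_map 𝔓 𝔮 _ h𝔓' b
  haveI hβloc : IsLocalHom β := Localization.isLocalHom_localRingHom 𝔓 𝔮 _ h𝔓'
  intro C _ _ J hJ ψ ⟨k, hk⟩
  letI algAC : Algebra A C := Algebra.compHom C (algebraMap A Q.ResidueField)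
  haveI towC : IsScalarTower A Q.ResidueField C := IsScalarTower.of_algebraMap_eq (fun _ => rfl)
  haveI towCJ : IsScalarTower A Q.ResidueField (C ⧸ J) :=
    IsScalarTower.of_algebraMap_eq (fun _ => rfl)
  -- the map `B_𝔓 → C ⧸ J`
  let ψ' : Localization.AtPrime 𝔓 →ₐ[A] C ⧸ J :=
    { ψ.toRingHom.comp β with
      commutes' := fun a => by
        show ψ (β (algebraMap A (Localization.AtPrime 𝔓) a)) = algebraMap A (C ⧸ J) a
        rw [IsScalarTower.algebraMap_apply A B (Localization.AtPrime 𝔓), hβ,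
          IsScalarTower.algebraMap_apply A Q.ResidueField (C ⧸ J), ← ψ.commutes,
          IsScalarTower.algebraMap_apply Q.ResidueField (Q.Fiber B) (Localization.AtPrime 𝔮)]
        congr 2
        rw [Algebra.TensorProduct.algebraMap_apply, Algebra.algebraMap_eq_smul_one,
          Algebra.algebraMap_eq_smul_one (A := Q.ResidueField), algebraMap_smul,
          TensorProduct.smul_tmul] }
  have hψ' : ∃ k : ℕ, ∀ x ∈ maximalIdeal (Localization.AtPrime 𝔓) ^ k, ψ' x = 0 := by
    refine ⟨k, fun x hx => ?_⟩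
    show ψ (β x) = 0
    apply hk
    have h1 : (maximalIdeal (Localization.AtPrime 𝔓)).map β ≤
        maximalIdeal (Localization.AtPrime 𝔮) :=
      ((IsLocalRing.local_hom_TFAE β).out 0 2).mp hβloc
    have h2 : β x ∈ ((maximalIdeal (Localization.AtPrime 𝔓)) ^ k).map β := Ideal.mem_map_of_mem _ hx
    rw [Ideal.map_pow] at h2
    exact Ideal.pow_right_mono h1 k h2
  obtain ⟨χ', hχ'⟩ := h 𝔓 C J hJ ψ' hψ'
  have hχ'' : ∀ x, Ideal.Quotient.mk J (χ' x) = ψ (β x) := fun x => DFunLike.congr_fun hχ' x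
  -- the map on the fibre
  let χF : Q.Fiber B →ₐ[Q.ResidueField] C :=
    Algebra.TensorProduct.lift (Algebra.ofId Q.ResidueField C)
      (χ'.comp (IsScalarTower.toAlgHom A B (Localization.AtPrime 𝔓))) (fun _ _ => Commute.all _ _)
  have hχF : ∀ y : Q.Fiber B, Ideal.Quotient.mk J (χF y) =
      ψ (algebraMap (Q.Fiber B) (Localization.AtPrime 𝔮) y) := by
    intro y
    induction y using TensorProduct.induction_on with
    | zero => simp
    | tmul c b =>
      have e1 : χF (c ⊗ₜ[A] b) = algebraMap Q.ResidueField C c *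
          χ' (algebraMap B (Localization.AtPrime 𝔓) b) := by
        simp [χF, Algebra.TensorProduct.lift_tmul, Algebra.ofId_apply]
      have e2 : (c ⊗ₜ[A] b : Q.Fiber B) =
          algebraMap Q.ResidueField (Q.Fiber B) c * ((1 : Q.ResidueField) ⊗ₜ[A] b) := by
        rw [Algebra.TensorProduct.algebraMap_apply, Algebra.TensorProduct.tmul_mul_tmul, one_mul,
          Algebra.algebraMap_self_apply, mul_one]
      rw [e1, map_mul, hχ'', hβ, e2, map_mul, map_mul,
        ← IsScalarTower.algebraMap_apply Q.ResidueField (Q.Fiber B) (Localization.AtPrime 𝔮),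
        ψ.commutes]
      rfl
    | add x y hx hy => rw [map_add, map_add, map_add, map_add, hx, hy]
  have hunit : ∀ y : 𝔮.primeCompl, IsUnit (χF.toRingHom y) := by
    intro y
    have hnil : IsNilpotent J := ⟨2, hJ⟩
    rw [← IsNilpotent.isUnit_quotient_mk_iff hnil]
    show IsUnit (Ideal.Quotient.mk J (χF y))
    rw [hχF]
    exact (IsLocalization.map_units (Localization.AtPrime 𝔮) y).map ψ
  let χ₀ : Localization.AtPrime 𝔮 →+* C :=
    IsLocalization.lift (M := 𝔮.primeCompl) (g := χF.toRingHom) hunit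
  have hχ₀ : ∀ y : Q.Fiber B, χ₀ (algebraMap (Q.Fiber B) (Localization.AtPrime 𝔮) y) = χF y :=
    fun y => IsLocalization.lift_eq hunit y
  let χ : Localization.AtPrime 𝔮 →ₐ[Q.ResidueField] C :=
    { χ₀ with
      commutes' := fun c => by
        show χ₀ (algebraMap Q.ResidueField (Localization.AtPrime 𝔮) c) = _
        rw [IsScalarTower.algebraMap_apply Q.ResidueField (Q.Fiber B) (Localization.AtPrime 𝔮),
          hχ₀, AlgHom.commutes] }
  refine ⟨χ, ?_⟩
  apply AlgHom.coe_ringHom_injective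
  apply IsLocalization.ringHom_ext 𝔮.primeCompl
  refine RingHom.ext fun y => ?_
  show Ideal.Quotient.mk J (χ₀ (algebraMap (Q.Fiber B) (Localization.AtPrime 𝔮) y)) =
    ψ (algebraMap (Q.Fiber B) (Localization.AtPrime 𝔮) y)
  rw [hχ₀, hχF]

end RegOfAdic

end Groth.Agent.Lib.AdicFSTransferH3
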