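import Mathlib

/-!
# Adic completion of `M ⊗ N` for `M` finite and `N` flat over a Noetherian ring (helper6), part 1

Artin–Rees type exactness: `ARk I f k` says `f⁻¹(I^(n+k) N) ⊆ I^n M` for all `n`.
* `map_injective_of_ARk`, `map_exact_of_ARk`: exactness of adic completion under `ARk`.
* `exists_ARk_of_finite`: Artin–Rees for injective maps to finite modules over Noetherian rings.
* `ARk_rTensor`: `ARk` is stable under `- ⊗ Q` for `Q` flat.
-/

set_option autoImplicit false
set_option linter.unusedSectionVars false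
set_option linter.unusedVariables false
universe u
open TensorProduct LinearMap

namespace Groth.Agent.Lib.AdicFlatH6

variable {R : Type u} [CommRing R] (I : Ideal R)
variable {M : Type u} [AddCommGroup M] [Module R M]
variable {N : Type u} [AddCommGroup N] [Module R N]
variable {P : Type u} [AddCommGroup P] [Module R P]

/-- Artin–Rees property with constant `k` -/
def ARk (f : M →ₗ[R] N) (k : ℕ) : Prop :=
  ∀ (n : ℕ) (y : M), f y ∈ (I ^ (n + k) • ⊤ : Submodule R N) → y ∈ (I ^ n • ⊤ : Submodule R M)

theorem map_injective_of_ARk {f : M →ₗ[R] N} {k : ℕ} (hk : ARk I f k) :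
    Function.Injective (AdicCompletion.map I f) := by
  rw [← LinearMap.ker_eq_bot, LinearMap.ker_eq_bot']
  intro x
  apply AdicCompletion.induction_on I M x (fun a ↦ ?_)
  intro hx
  refine AdicCompletion.mk_zero_of _ _ _ ⟨42, fun n _ ↦ ⟨n + k, by lia, n, by lia, ?_⟩⟩
  apply hk n
  simpa using congrArg (fun x ↦ x.val (n + k)) hx

theorem map_exact_of_ARk {f : M →ₗ[R] N} {g : N →ₗ[R] P} {k : ℕ} (hk : ARk I f k)
    (hfg : Function.Exact f g) (hg : Function.Surjective g) :
    Function.Exact (AdicCompletion.map I f) (AdicCompletion.map I g) := by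
  refine LinearMap.exact_of_comp_eq_zero_of_ker_le_range ?_ (fun y ↦ ?_)
  · rw [AdicCompletion.map_comp, hfg.linearMap_comp_eq_zero, AdicCompletion.map_zero]
  · apply AdicCompletion.induction_on I N y (fun b ↦ ?_)
    intro hz
    have hb (n : ℕ) : g (b n) ∈ (I ^ n • ⊤ : Submodule R P) := by
      simpa using congrArg (fun x ↦ x.val n) hz
    have h2 (n : ℕ) : ∃ y : M, f y - b (n + k) ∈ (I ^ (n + k) • ⊤ : Submodule R N) := by
      have h1 : g (b (n + k)) ∈ Submodule.map g (I ^ (n + k) • ⊤ : Submodule R N) := by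
        rw [Submodule.map_smul'', Submodule.map_top, LinearMap.range_eq_top.mpr hg]
        exact hb (n + k)
      obtain ⟨d, hdmem, hd⟩ := h1
      obtain ⟨y, hdy⟩ := (hfg (b (n + k) - d)).mp (by simp [hd])
      refine ⟨y, ?_⟩
      rw [hdy, sub_sub_cancel_left]
      exact Submodule.neg_mem _ hdmem
    choose a ha using h2
    have hcauchy : ∀ n, a n ≡ a (n + 1) [SMOD (I ^ n • ⊤ : Submodule R M)] := by
      intro n
      rw [SModEq.sub_mem]
      apply hk n
      rw [map_sub]
      have e : f (a n) - f (a (n + 1)) =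
          (f (a n) - b (n + k)) - (f (a (n + 1)) - b (n + 1 + k)) +
            (b (n + k) - b (n + 1 + k)) := by abel
      rw [e]
      refine Submodule.add_mem _ (Submodule.sub_mem _ (ha n) ?_) ?_
      · exact (Submodule.smul_mono_left (Ideal.pow_le_pow_right (by lia))) (ha (n + 1))
      · rw [← SModEq.sub_mem]
        exact b.2 (by lia)
    refine ⟨AdicCompletion.mk I M (AdicCompletion.AdicCauchySequence.mk I M a hcauchy), ?_⟩
    ext n
    suffices h : Submodule.Quotient.mk (p := (I ^ n • ⊤ : Submodule R N)) (f (a n)) =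
          Submodule.Quotient.mk (p := (I ^ n • ⊤ : Submodule R N)) (b (n + k)) by
      simp [h, AdicCompletion.AdicCauchySequence.mk_eq_mk (show n ≤ n + k by lia)]
    rw [Submodule.Quotient.eq]
    exact (Submodule.smul_mono_left (Ideal.pow_le_pow_right (by lia))) (ha n)

theorem exists_ARk_of_finite [IsNoetherianRing R] [Module.Finite R N] {f : M →ₗ[R] N}
    (hf : Function.Injective f) : ∃ k, ARk I f k := by
  obtain ⟨k, hk⟩ := Ideal.exists_pow_inf_eq_pow_smul I (range f)
  refine ⟨k, fun n y hy => ?_⟩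
  have h1 : f y ∈ (I ^ (n + k) • ⊤ ⊓ range f : Submodule R N) := ⟨hy, ⟨y, rfl⟩⟩
  rw [hk (n + k) (by lia), Nat.add_sub_cancel] at h1
  have hle : (I ^ n • (I ^ k • ⊤ ⊓ range f) : Submodule R N) ≤ I ^ n • range f :=
    smul_mono_right _ inf_le_right
  have h2 : f y ∈ (I ^ n • range f : Submodule R N) := hle h1
  rw [← Submodule.map_top, ← Submodule.map_smul''] at h2
  obtain ⟨y', hy', hyy'⟩ := h2
  rw [← hf hyy']
  exact hy'

section Tensor

variable (Q : Type u) [AddCommGroup Q] [Module R Q]

lemma smul_top_tensor_eq_range (J : Ideal R) :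
    (J • ⊤ : Submodule R (M ⊗[R] Q)) = range (rTensor Q (J • ⊤ : Submodule R M).subtype) := by
  apply le_antisymm
  · rw [Submodule.smul_le]
    intro r hr z hz
    clear hz
    induction z using TensorProduct.induction_on with
    | zero => rw [smul_zero]; exact Submodule.zero_mem _
    | tmul m q =>
      refine ⟨(⟨r • m, Submodule.smul_mem_smul hr Submodule.mem_top⟩ :
        (J • ⊤ : Submodule R M)) ⊗ₜ q, ?_⟩
      rw [rTensor_tmul, Submodule.subtype_apply, TensorProduct.smul_tmul']
    | add x y hx hy => rw [smul_add]; exact Submodule.add_mem _ hx hy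
  · rintro _ ⟨w, rfl⟩
    induction w using TensorProduct.induction_on with
    | zero => rw [map_zero]; exact Submodule.zero_mem _
    | tmul p q =>
      rw [rTensor_tmul, Submodule.subtype_apply]
      obtain ⟨p, hp⟩ := p
      show p ⊗ₜ[R] q ∈ _
      refine Submodule.smul_induction_on hp (fun r hr m _ => ?_) (fun x y hx hy => ?_)
      · rw [← TensorProduct.smul_tmul']
        exact Submodule.smul_mem_smul hr Submodule.mem_top
      · rw [TensorProduct.add_tmul]
        exact Submodule.add_mem _ hx hy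
    | add x y hx hy => rw [map_add]; exact Submodule.add_mem _ hx hy

lemma smul_top_tensor_eq_ker (J : Ideal R) :
    (J • ⊤ : Submodule R (M ⊗[R] Q)) = ker (rTensor Q (J • ⊤ : Submodule R M).mkQ) := by
  rw [smul_top_tensor_eq_range, rTensor_mkQ]

theorem ARk_rTensor [Module.Flat R Q] {f : M →ₗ[R] N} {k : ℕ} (hk : ARk I f k) :
    ARk I (f.rTensor Q) k := by
  intro n y hy
  rw [smul_top_tensor_eq_ker, mem_ker, ← LinearMap.comp_apply, ← rTensor_comp] at hy
  have hex := Module.Flat.rTensor_exact Q
    (LinearMap.exact_subtype_ker_map ((I ^ (n + k) • ⊤ : Submodule R N).mkQ ∘ₗ f))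
  obtain ⟨w, rfl⟩ := (hex y).1 hy
  have hle : ker ((I ^ (n + k) • ⊤ : Submodule R N).mkQ ∘ₗ f) ≤ (I ^ n • ⊤ : Submodule R M) := by
    intro m hm
    apply hk n
    rw [mem_ker, LinearMap.comp_apply, Submodule.mkQ_apply, Submodule.Quotient.mk_eq_zero] at hm
    exact hm
  rw [smul_top_tensor_eq_range]
  refine ⟨rTensor Q (Submodule.inclusion hle) w, ?_⟩
  rw [← LinearMap.comp_apply, ← rTensor_comp]
  rfl

end Tensor

end Groth.Agent.Lib.AdicFlatH6
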