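import Mathlib
import Groth.Agent.Lib.AdicFlat1_helper6

/-!
# Adic completion of `M ⊗ N` for `M` finite and `N` flat over a Noetherian ring (helper6), part 2

* `tau I M N : M ⊗ N^ → (M ⊗ N)^`, natural in `M`; bijective for `M` finite, `N` flat, `R` Noetherian.
* `flat_adicCompletion`: `N^` is flat for `N` flat over Noetherian `R`.
* `bijective_rTensor_quotient_of`: `N ⊗ R/I → N^ ⊗ R/I` is bijective for `I` f.g.
-/

set_option autoImplicit false
set_option linter.unusedSectionVars false
set_option linter.unusedVariables false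
set_option linter.style.haveILetI false
universe u
open TensorProduct LinearMap

namespace Groth.Agent.Lib.AdicFlatH6

variable {R : Type u} [CommRing R] (I : Ideal R)

section MapL

variable (M : Type u) [AddCommGroup M] [Module R M]
variable (N : Type u) [AddCommGroup N] [Module R N]

/-- `AdicCompletion.map` as an `R`-linear map in the linear map -/
noncomputable def mapL : (M →ₗ[R] N) →ₗ[R] (AdicCompletion I M →ₗ[R] AdicCompletion I N) where
  toFun f := (AdicCompletion.map I f).restrictScalars R
  map_add' f g := by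
    apply AdicCompletion.map_ext''
    refine LinearMap.ext fun a => ?_
    show AdicCompletion.map I (f + g) (AdicCompletion.mk I M a) =
      AdicCompletion.map I f (AdicCompletion.mk I M a) +
        AdicCompletion.map I g (AdicCompletion.mk I M a)
    rw [AdicCompletion.map_mk, AdicCompletion.map_mk, AdicCompletion.map_mk, ← map_add]
    congr 1
  map_smul' r f := by
    apply AdicCompletion.map_ext''
    refine LinearMap.ext fun a => ?_
    show AdicCompletion.map I (r • f) (AdicCompletion.mk I M a) =
      r • AdicCompletion.map I f (AdicCompletion.mk I M a)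
    rw [AdicCompletion.map_mk, AdicCompletion.map_mk, ← map_smul]
    congr 1

lemma mapL_apply (f : M →ₗ[R] N) (x : AdicCompletion I M) :
    mapL I M N f x = AdicCompletion.map I f x := rfl

end MapL

section Tau

variable (M : Type u) [AddCommGroup M] [Module R M]
variable (N : Type u) [AddCommGroup N] [Module R N]

/-- `M ⊗ N^ ⟶ (M ⊗ N)^` -/
noncomputable def tau : M ⊗[R] AdicCompletion I N →ₗ[R] AdicCompletion I (M ⊗[R] N) :=
  TensorProduct.lift ((mapL I N (M ⊗[R] N)).comp (TensorProduct.mk R M N))

lemma tau_tmul (m : M) (x : AdicCompletion I N) :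
    tau I M N (m ⊗ₜ x) = AdicCompletion.map I (TensorProduct.mk R M N m) x := rfl

lemma tau_tmul_of (m : M) (x : N) :
    tau I M N (m ⊗ₜ AdicCompletion.of I N x) = AdicCompletion.of I (M ⊗[R] N) (m ⊗ₜ x) := by
  rw [tau_tmul, AdicCompletion.map_of]
  rfl

lemma tau_comp_lTensor_of :
    tau I M N ∘ₗ LinearMap.lTensor M (AdicCompletion.of I N) = AdicCompletion.of I (M ⊗[R] N) := by
  apply TensorProduct.ext'
  intro m x
  rw [LinearMap.comp_apply, LinearMap.lTensor_tmul, tau_tmul_of]

variable {M} in
lemma tau_naturality {M' : Type u} [AddCommGroup M'] [Module R M'] (g : M →ₗ[R] M') :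
    tau I M' N ∘ₗ rTensor (AdicCompletion I N) g =
      (mapL I _ _ (rTensor N g)) ∘ₗ tau I M N := by
  apply TensorProduct.ext'
  intro m x
  rw [LinearMap.comp_apply, LinearMap.comp_apply, rTensor_tmul, tau_tmul, tau_tmul, mapL_apply,
    AdicCompletion.map_comp_apply]
  congr 2

lemma tau_self_eq :
    tau I R N = ((AdicCompletion.congr I (TensorProduct.lid R N).symm).restrictScalars R :
      AdicCompletion I N ≃ₗ[R] AdicCompletion I (R ⊗[R] N)).toLinearMap ∘ₗ
      (TensorProduct.lid R (AdicCompletion I N)).toLinearMap := by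
  apply TensorProduct.ext'
  intro r x
  rw [tau_tmul, LinearMap.comp_apply]
  show _ = AdicCompletion.map I ((TensorProduct.lid R N).symm : N →ₗ[R] R ⊗[R] N) (r • x)
  have h : TensorProduct.mk R R N r = r • ((TensorProduct.lid R N).symm : N →ₗ[R] R ⊗[R] N) := by
    ext y
    show r ⊗ₜ[R] y = r • ((1 : R) ⊗ₜ[R] y)
    rw [TensorProduct.smul_tmul', smul_eq_mul, mul_one]
  rw [h]
  show mapL I N (R ⊗[R] N) (r • ((TensorProduct.lid R N).symm : N →ₗ[R] R ⊗[R] N)) x =
    mapL I N (R ⊗[R] N) ((TensorProduct.lid R N).symm : N →ₗ[R] R ⊗[R] N) (r • x)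
  rw [map_smul, LinearMap.smul_apply, map_smul]

lemma tau_self_bijective : Function.Bijective (tau I R N) := by
  rw [tau_self_eq, LinearMap.coe_comp]
  exact (LinearEquiv.bijective _).comp (LinearEquiv.bijective _)

/-- the functor `X ↦ (X ⊗ N)^` on maps -/
noncomputable def Gf (X Y : Type u) [AddCommGroup X] [Module R X] [AddCommGroup Y] [Module R Y] :
    (X →ₗ[R] Y) →ₗ[R] (AdicCompletion I (X ⊗[R] N) →ₗ[R] AdicCompletion I (Y ⊗[R] N)) :=
  (mapL I (X ⊗[R] N) (Y ⊗[R] N)).comp (LinearMap.rTensorHom N)

lemma Gf_apply {X Y : Type u} [AddCommGroup X] [Module R X] [AddCommGroup Y] [Module R Y]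
    (g : X →ₗ[R] Y) : Gf I N X Y g = mapL I _ _ (rTensor N g) := rfl

lemma Gf_comp {X Y Z : Type u} [AddCommGroup X] [Module R X] [AddCommGroup Y] [Module R Y]
    [AddCommGroup Z] [Module R Z] (g : X →ₗ[R] Y) (h : Y →ₗ[R] Z) :
    Gf I N Y Z h ∘ₗ Gf I N X Y g = Gf I N X Z (h ∘ₗ g) := by
  rw [Gf_apply, Gf_apply, Gf_apply, rTensor_comp]
  refine LinearMap.ext fun x => ?_
  exact AdicCompletion.map_comp_apply I _ _ _

lemma Gf_id (X : Type u) [AddCommGroup X] [Module R X] :
    Gf I N X X LinearMap.id = LinearMap.id := by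
  rw [Gf_apply, rTensor_id]
  refine LinearMap.ext fun x => ?_
  show AdicCompletion.map I LinearMap.id x = x
  rw [AdicCompletion.map_id]
  rfl

lemma tau_nat {X Y : Type u} [AddCommGroup X] [Module R X] [AddCommGroup Y] [Module R Y]
    (g : X →ₗ[R] Y) :
    tau I Y N ∘ₗ LinearMap.rTensorHom (AdicCompletion I N) g = Gf I N X Y g ∘ₗ tau I X N :=
  tau_naturality I N g

variable {M} in
/-- `tau` is bijective for modules with a finite decomposition of the identity through `R` -/
lemma tau_bijective_of_decomp {ι : Type} [Fintype ι] (p : ι → M →ₗ[R] R) (s : ι → R →ₗ[R] M)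
    (h : ∑ i, s i ∘ₗ p i = LinearMap.id) : Function.Bijective (tau I M N) := by
  let e := LinearEquiv.ofBijective (tau I R N) (tau_self_bijective I N)
  have he1 : tau I R N ∘ₗ e.symm.toLinearMap = LinearMap.id :=
    LinearMap.ext fun x => e.apply_symm_apply x
  have he2 : e.symm.toLinearMap ∘ₗ tau I R N = LinearMap.id :=
    LinearMap.ext fun x => e.symm_apply_apply x
  let inv : AdicCompletion I (M ⊗[R] N) →ₗ[R] M ⊗[R] AdicCompletion I N :=
    ∑ i, LinearMap.rTensorHom (AdicCompletion I N) (s i) ∘ₗ e.symm.toLinearMap ∘ₗ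
      Gf I N M R (p i)
  have hinv : ∀ y, inv y = ∑ i, rTensor (AdicCompletion I N) (s i)
      (e.symm (Gf I N M R (p i) y)) := by
    intro y
    show (∑ i, LinearMap.rTensorHom (AdicCompletion I N) (s i) ∘ₗ e.symm.toLinearMap ∘ₗ
      Gf I N M R (p i)) y = _
    rw [LinearMap.sum_apply]
    rfl
  have h1 : ∀ y, tau I M N (inv y) = y := by
    intro y
    rw [hinv, map_sum]
    have : ∀ i, tau I M N (rTensor (AdicCompletion I N) (s i) (e.symm (Gf I N M R (p i) y))) =
        Gf I N M M (s i ∘ₗ p i) y := by
      intro i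
      have h3 := LinearMap.congr_fun (tau_nat I N (s i)) (e.symm (Gf I N M R (p i) y))
      rw [LinearMap.comp_apply, LinearMap.comp_apply] at h3
      have h4 : tau I R N (e.symm (Gf I N M R (p i) y)) = Gf I N M R (p i) y :=
        e.apply_symm_apply _
      rw [h4] at h3
      rw [← Gf_comp I N, LinearMap.comp_apply]
      exact h3
    simp_rw [this]
    rw [← LinearMap.sum_apply, ← map_sum, h, Gf_id]
    rfl
  have h2 : ∀ x, inv (tau I M N x) = x := by
    intro x
    rw [hinv]
    have : ∀ i, rTensor (AdicCompletion I N) (s i) (e.symm (Gf I N M R (p i) (tau I M N x))) =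
        rTensor (AdicCompletion I N) (s i ∘ₗ p i) x := by
      intro i
      have h3 := LinearMap.congr_fun (tau_nat I N (p i)) x
      rw [LinearMap.comp_apply, LinearMap.comp_apply] at h3
      rw [← h3]
      have h4 : e.symm (tau I R N (LinearMap.rTensorHom (AdicCompletion I N) (p i) x)) =
          LinearMap.rTensorHom (AdicCompletion I N) (p i) x := e.symm_apply_apply _
      rw [h4, rTensor_comp, LinearMap.comp_apply]
      rfl
    simp_rw [this]
    have h5 : ∑ i, rTensor (AdicCompletion I N) (s i ∘ₗ p i) x =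
        LinearMap.rTensorHom (AdicCompletion I N) (∑ i, s i ∘ₗ p i) x := by
      rw [map_sum, LinearMap.sum_apply]
      rfl
    rw [h5, h]
    show rTensor (AdicCompletion I N) LinearMap.id x = x
    rw [rTensor_id]
    rfl
  constructor
  · intro x y hxy
    have := congrArg inv hxy
    rwa [h2, h2] at this
  · intro y
    exact ⟨inv y, h1 y⟩

lemma tau_bijective_pi (n : ℕ) : Function.Bijective (tau I (Fin n → R) N) := by
  apply tau_bijective_of_decomp I N (fun i => LinearMap.proj i)
    (fun i => LinearMap.single R (fun _ => R) i)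
  apply LinearMap.pi_ext'
  intro i
  ext
  simp [Finset.sum_apply, Pi.single_apply]

lemma tau_surjective_of_finite [Module.Finite R M] : Function.Surjective (tau I M N) := by
  obtain ⟨n, p, hp⟩ := Module.Finite.exists_fin' R M
  have h := tau_naturality I N p
  have hs : Function.Surjective (tau I M N ∘ₗ rTensor (AdicCompletion I N) p) := by
    rw [h]
    exact (AdicCompletion.map_surjective I (rTensor_surjective N hp)).comp
      (tau_bijective_pi I N n).2
  exact Function.Surjective.of_comp hs

lemma mapL_exact_of_ARk {X Y Z : Type u} [AddCommGroup X] [Module R X] [AddCommGroup Y]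
    [Module R Y] [AddCommGroup Z] [Module R Z] {f : X →ₗ[R] Y} {g : Y →ₗ[R] Z} {k : ℕ}
    (hk : ARk I f k) (hfg : Function.Exact f g) (hg : Function.Surjective g) :
    Function.Exact (mapL I _ _ f) (mapL I _ _ g) :=
  map_exact_of_ARk I hk hfg hg

lemma mapL_surjective {X Y : Type u} [AddCommGroup X] [Module R X] [AddCommGroup Y]
    [Module R Y] {f : X →ₗ[R] Y} (hf : Function.Surjective f) :
    Function.Surjective (mapL I _ _ f) :=
  AdicCompletion.map_surjective I hf

lemma mapL_injective_of_ARk {X Y : Type u} [AddCommGroup X] [Module R X] [AddCommGroup Y]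
    [Module R Y] {f : X →ₗ[R] Y} {k : ℕ} (hk : ARk I f k) :
    Function.Injective (mapL I _ _ f) :=
  map_injective_of_ARk I hk

variable [IsNoetherianRing R] [Module.Flat R N]

lemma exists_ARk_rTensor {M M' : Type u} [AddCommGroup M] [Module R M] [AddCommGroup M']
    [Module R M'] [Module.Finite R M'] (f : M →ₗ[R] M') (hf : Function.Injective f) :
    ∃ k, ARk I (rTensor N f) k := by
  obtain ⟨k, hk⟩ := exists_ARk_of_finite I hf
  exact ⟨k, ARk_rTensor I N hk⟩

theorem tau_bijective_of_finite [Module.Finite R M] : Function.Bijective (tau I M N) := by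
  obtain ⟨n, f, hf⟩ := Module.Finite.exists_fin' R M
  obtain ⟨k, hk⟩ := exists_ARk_rTensor I N (LinearMap.ker f).subtype
    (Submodule.injective_subtype _)
  haveI : Module.Finite R (LinearMap.ker f) := Module.IsNoetherian.finite R _
  have hex2 : Function.Exact (mapL I (LinearMap.ker f ⊗[R] N) ((Fin n → R) ⊗[R] N) (rTensor N (LinearMap.ker f).subtype))
      (mapL I ((Fin n → R) ⊗[R] N) (M ⊗[R] N) (rTensor N f)) :=
by
    have e1 : Function.Exact (rTensor N (LinearMap.ker f).subtype) (rTensor N f) := rTensor_exact N (f.exact_subtype_ker_map) hf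
    have e2 : Function.Surjective (rTensor N f) := rTensor_surjective N hf
    have := @mapL_exact_of_ARk R _ I (LinearMap.ker f ⊗[R] N) ((Fin n → R) ⊗[R] N) (M ⊗[R] N) _ _ _ _ _ _ (rTensor N (LinearMap.ker f).subtype) (rTensor N f) k hk e1 e2
    exact this
  have hs2 : Function.Surjective (mapL I ((Fin n → R) ⊗[R] N) (M ⊗[R] N) (rTensor N f)) :=
    mapL_surjective I (rTensor_surjective N hf)
  have hc1 : (mapL I (LinearMap.ker f ⊗[R] N) ((Fin n → R) ⊗[R] N) (rTensor N (LinearMap.ker f).subtype)) ∘ₗ tau I (LinearMap.ker f) N =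
      tau I (Fin n → R) N ∘ₗ rTensor (AdicCompletion I N) (LinearMap.ker f).subtype :=
    (tau_naturality I N (LinearMap.ker f).subtype).symm
  have hc2 : (mapL I ((Fin n → R) ⊗[R] N) (M ⊗[R] N) (rTensor N f)) ∘ₗ tau I (Fin n → R) N =
      tau I M N ∘ₗ rTensor (AdicCompletion I N) f :=
    (tau_naturality I N f).symm
  have hex1 : Function.Exact (rTensor (AdicCompletion I N) (LinearMap.ker f).subtype)
      (rTensor (AdicCompletion I N) f) :=
    rTensor_exact (AdicCompletion I N) (f.exact_subtype_ker_map) hf
  have hs1 : Function.Surjective (rTensor (AdicCompletion I N) f) := rTensor_surjective _ hf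
  exact LinearMap.bijective_of_surjective_of_bijective_of_right_exact
    (M₁ := LinearMap.ker f ⊗[R] AdicCompletion I N) (M₂ := (Fin n → R) ⊗[R] AdicCompletion I N)
    (M₃ := M ⊗[R] AdicCompletion I N) (N₁ := AdicCompletion I (LinearMap.ker f ⊗[R] N))
    (N₂ := AdicCompletion I ((Fin n → R) ⊗[R] N)) (N₃ := AdicCompletion I (M ⊗[R] N))
    (rTensor (AdicCompletion I N) (LinearMap.ker f).subtype)
    (rTensor (AdicCompletion I N) f)
    (mapL I (LinearMap.ker f ⊗[R] N) ((Fin n → R) ⊗[R] N) (rTensor N (LinearMap.ker f).subtype))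
    (mapL I ((Fin n → R) ⊗[R] N) (M ⊗[R] N) (rTensor N f))
    (tau I (LinearMap.ker f) N) (tau I (Fin n → R) N) (tau I M N)
    hc1 hc2 hex1 hex2
    (tau_surjective_of_finite I (LinearMap.ker f) N)
    (tau_bijective_pi I N n) hs1 hs2
/-- **the completion of a flat module over a Noetherian ring is flat** -/
theorem flat_adicCompletion : Module.Flat R (AdicCompletion I N) := by
  rw [Module.Flat.iff_rTensor_injective']
  intro J
  obtain ⟨k, hk⟩ := exists_ARk_rTensor I N J.subtype (Submodule.injective_subtype _)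
  have h := tau_naturality I N J.subtype
  have hinj : Function.Injective (tau I R N ∘ₗ rTensor (AdicCompletion I N) J.subtype) := by
    rw [h]
    haveI : Module.Finite R J := Module.IsNoetherian.finite R _
    rw [LinearMap.coe_comp]
    exact (mapL_injective_of_ARk I hk).comp (tau_bijective_of_finite I J N).1
  exact Function.Injective.of_comp hinj

end Tau

section Quot

variable (N : Type u) [AddCommGroup N] [Module R N]

/-- `N ⊗ R/I ⟶ N^ ⊗ R/I` is bijective for `I` finitely generated -/
theorem bijective_rTensor_quotient_of (hI : I.FG) :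
    Function.Bijective (rTensor (R ⧸ I) (AdicCompletion.of I N)) := by
  have hker : (I • ⊤ : Submodule R (AdicCompletion I N)) =
      LinearMap.ker (AdicCompletion.eval I N 1) := by
    have h1 : (I • ⊤ : Submodule R (AdicCompletion I N)) = I ^ 1 • ⊤ := by rw [pow_one]
    rw [h1]
    exact AdicCompletion.pow_smul_top_eq_ker_eval (I := I) (M := N) (n := 1) hI
  have hle : (I • ⊤ : Submodule R N) ≤
      Submodule.comap (AdicCompletion.of I N) (I • ⊤ : Submodule R (AdicCompletion I N)) := by
    rw [← Submodule.map_le_iff_le_comap, Submodule.map_smul'']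
    exact smul_mono_right _ le_top
  let q := Submodule.mapQ (I • ⊤ : Submodule R N) (I • ⊤ : Submodule R (AdicCompletion I N))
    (AdicCompletion.of I N) hle
  have hq : Function.Bijective q := by
    constructor
    · rw [← LinearMap.ker_eq_bot, LinearMap.ker_eq_bot']
      intro x
      obtain ⟨x, rfl⟩ := Submodule.Quotient.mk_surjective _ x
      intro hx
      rw [Submodule.mapQ_apply, Submodule.Quotient.mk_eq_zero, hker, LinearMap.mem_ker] at hx
      rw [Submodule.Quotient.mk_eq_zero]
      have h2 : AdicCompletion.eval I N 1 (AdicCompletion.of I N x) =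
          Submodule.Quotient.mk x := rfl
      rw [h2, Submodule.Quotient.mk_eq_zero, pow_one] at hx
      exact hx
    · intro y
      obtain ⟨y, rfl⟩ := Submodule.Quotient.mk_surjective _ y
      obtain ⟨x, hx⟩ := Submodule.Quotient.mk_surjective _ (AdicCompletion.eval I N 1 y)
      refine ⟨Submodule.Quotient.mk x, ?_⟩
      rw [Submodule.mapQ_apply, Submodule.Quotient.eq, hker, LinearMap.mem_ker, map_sub, ← hx]
      exact sub_self _
  have hcomm : (TensorProduct.tensorQuotEquivQuotSMul (AdicCompletion I N) I).toLinearMap ∘ₗ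
      rTensor (R ⧸ I) (AdicCompletion.of I N) =
      q ∘ₗ (TensorProduct.tensorQuotEquivQuotSMul N I).toLinearMap := by
    apply TensorProduct.ext'
    intro x r
    obtain ⟨r, rfl⟩ := Ideal.Quotient.mk_surjective r
    simp only [LinearMap.comp_apply, LinearEquiv.coe_coe, rTensor_tmul,
      TensorProduct.tensorQuotEquivQuotSMul_tmul_mk]
    show _ = q (Submodule.Quotient.mk (r • x))
    rw [Submodule.mapQ_apply, map_smul]
  have h3 : Function.Bijective ((TensorProduct.tensorQuotEquivQuotSMul (AdicCompletion I N) I).toLinearMap ∘ₗ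
      rTensor (R ⧸ I) (AdicCompletion.of I N)) := by
    rw [hcomm]
    exact hq.comp (LinearEquiv.bijective _)
  rw [LinearMap.coe_comp, LinearEquiv.coe_coe] at h3
  exact (Function.Bijective.of_comp_iff' (LinearEquiv.bijective _) _).1 h3

end Quot

end Groth.Agent.Lib.AdicFlatH6
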