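import Mathlib
import Groth.Agent.Lib.AdicDer1_helper2

/-!
# Universal maps to derived complete objects from chain maps that are isomorphisms mod `I` (helper6)

Generalisation of helper2's `AdicDer.hom_cone_eq_zero`:
* `hom_eq_zero_of_TN_acyclic`: if `C` is K-flat, cohomologically bounded above and `C ⊗ A/I` is
  acyclic, then every map from `C` to a derived complete object vanishes.
* `bijective_precomp_of_quasiIso_TN`: if `φ : X ⟶ Y` is a map of K-flat, bounded above complexes with
  `φ ⊗ A/I` a quasi-isomorphism then `Q(φ)` is universal among maps to derived complete objects.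
-/

set_option autoImplicit false
set_option linter.unusedSectionVars false
set_option linter.unusedVariables false
set_option linter.style.haveILetI false
universe u
open CategoryTheory CategoryTheory.Limits MonoidalCategory DerivedCategory
attribute [local instance] HasDerivedCategory.standard

namespace Groth.Agent.Lib.AdicFlatH6

open Groth.Agent.Lib.KFlatMod Groth.Agent.Lib.DMod_helper6 Groth.Agent.Lib.DerCompl
  Groth.Agent.Lib.DerNak Groth.Agent.Lib.BifCone CochainComplex Groth.Agent.Lib.DRingLT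
  Groth.Agent.Lib.KFlatGen Groth.Agent.Lib.LocHom Groth.Agent.Lib.AdicDer

variable {A : Type u} [CommRing A] [IsNoetherianRing A] (fs : List A)

/-- **maps from a K-flat complex `C` with `C ⊗ A/I` acyclic to derived complete objects vanish** -/
theorem hom_eq_zero_of_TN_acyclic (C : DRing.Cx A) (hCkf : KF A C) (b : ℤ)
    (hK : ∀ i : ℤ, b < i → Subsingleton (Dual.HD A (Q.obj C) i))
    (hA : ((TN (ModuleCat.of A (A ⧸ Ideal.span {x : A | x ∈ fs}))).obj C).Acyclic)
    (E : Dual.D A) (hE : DRing.IsDerivedComplete (Ideal.span {x : A | x ∈ fs}) E)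
    (a : Q.obj C ⟶ E) : a = 0 := by
  haveI : DRing.HasDerivedCompletion (Ideal.span {x : A | x ∈ fs}) := hasDerivedCompletion_span fs
  obtain ⟨F, c, hFc, hFf, ⟨e⟩⟩ :=
    (isPseudoCoherentModule'_iff_noeth (A := A) (A ⧸ Ideal.span {x : A | x ∈ fs})).2 inferInstance
  haveI : F.IsKProjective :=
    isKProjective_of_projective_bounded F c hFc (fun i => by
      haveI := (hFf i).2
      exact Module.Projective.of_free)
  obtain ⟨π, hπ, -⟩ := Groth.Agent.PerfectCx.exists_quasiIso_of_iso F
    (Sg (ModuleCat.of A (A ⧸ Ideal.span {x : A | x ∈ fs})))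
    (e ≪≫ (DerivedCategory.singleFunctorIsoCompQ (ModuleCat.{u} A) 0).app
      (ModuleCat.of A (A ⧸ Ideal.span {x : A | x ∈ fs})))
  haveI := hπ
  have hkfF : KF A F := kf_of_vanishesAbove F c hFc (fun i => by
    haveI := (hFf i).2
    infer_instance)
  haveI : DRing.HasLTensorCx A F := hasLTensorCx_of_kf F hkfF
  -- (1) `C ⊗^L F = 0`
  have h1 : IsZero ((DRing.LTensorCx A F).obj (Q.obj C)) := by
    obtain ⟨e1⟩ := nonempty_LTensorCx_iso F (Q.obj C) C F hCkf (Iso.refl _) (Iso.refl _)
    refine IsZero.of_iso ?_ e1.symm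
    apply isZero_Q_obj_of_acyclic
    haveI := quasiIso_whiskerLeft_of_kf C hCkf π
    rw [acyclic_iff_of_quasiIso (C ◁ π)]
    exact acyclic_of_iso ((tensorSingleNat _).app C).symm hA
  -- (2) `C^ ⊗^L F = 0`
  obtain ⟨hdc, hbij⟩ := completion_LTensorCx fs F c hFc hFf (Q.obj C) b hK
  have h2 : IsZero ((DRing.LTensorCx A F).obj ((DRing.derivedCompletion
      (Ideal.span {x : A | x ∈ fs})).obj (Q.obj C)).obj) := by
    rw [IsZero.iff_id_eq_zero]
    apply (hbij _ hdc).1
    exact h1.eq_of_src _ _
  -- (3) `C^ = 0`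
  obtain ⟨X, p, hp, hXp, hXkf, hXfl⟩ := Groth.Agent.Lib.KProjRes.exists_kproj_resolution
    (Q.objPreimage ((DRing.derivedCompletion
      (Ideal.span {x : A | x ∈ fs})).obj (Q.obj C)).obj)
  haveI := hp
  haveI := hXp
  haveI : IsIso (Q.map p) := (isIso_Q_map_iff_quasiIso (C := ModuleCat.{u} A) p).2 inferInstance
  have eX : Q.obj X ≅ ((DRing.derivedCompletion
      (Ideal.span {x : A | x ∈ fs})).obj (Q.obj C)).obj :=
    asIso (Q.map p) ≪≫ Q.objObjPreimageIso _
  have h3 : ((TN (ModuleCat.of A (A ⧸ Ideal.span {x : A | x ∈ fs}))).obj X).Acyclic := by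
    obtain ⟨e3⟩ := nonempty_LTensorCx_iso F _ X F hXkf eX (Iso.refl _)
    have hXF : (X ⊗ F).Acyclic := acyclic_of_isZero_Q _ (h2.of_iso e3)
    haveI := quasiIso_whiskerLeft_of_kf X hXkf π
    have hXS := (acyclic_iff_of_quasiIso (X ◁ π)).1 hXF
    exact acyclic_of_iso ((tensorSingleNat _).app X) hXS
  have hXac := acyclic_of_TN_quotient fs X hXp hXfl
    (isDerivedComplete_of_iso _ eX.symm ((DRing.derivedCompletion
      (Ideal.span {x : A | x ∈ fs})).obj (Q.obj C)).property) h3
  have h4 : IsZero ((DRing.derivedCompletion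
      (Ideal.span {x : A | x ∈ fs})).obj (Q.obj C)).obj :=
    (isZero_Q_obj_of_acyclic X hXac).of_iso eX.symm
  -- (4)
  obtain ⟨a', ha'⟩ := (bijective_unit_precomp (DRing.IsDerivedComplete
    (Ideal.span {x : A | x ∈ fs})) (DRing.derivedCompletionAdj _) (Q.obj C)
    E hE).2 a
  rw [← ha']
  have : a' = 0 := h4.eq_of_src _ _
  rw [this]
  exact Limits.comp_zero

/-- **a chain map of K-flat bounded above complexes which is a quasi-isomorphism mod `I` is universal
among maps to derived complete objects** -/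
theorem bijective_precomp_of_quasiIso_TN {X Y : DRing.Cx A} (φ : X ⟶ Y) (hX : KF A X) (hY : KF A Y)
    (b : ℤ) (hXb : ∀ i : ℤ, b < i → IsZero (X.X i)) (hYb : ∀ i : ℤ, b < i → IsZero (Y.X i))
    (hφ : QuasiIso ((TN (ModuleCat.of A (A ⧸ Ideal.span {x : A | x ∈ fs}))).map φ))
    (E : Dual.D A) (hE : DRing.IsDerivedComplete (Ideal.span {x : A | x ∈ fs}) E) :
    Function.Bijective (fun ψ : Q.obj Y ⟶ E => Q.map φ ≫ ψ) := by
  have hCkf : KF A (mappingCone φ) := kf_mappingCone φ hX hY
  have hC0 : ∀ i : ℤ, b < i → IsZero ((mappingCone φ).X i) := fun i hi =>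
    IsZero.of_iso (isZero_biprod (hXb (i + 1) (by omega)) (hYb i hi)) (coneXIso φ i)
  have hK : ∀ i : ℤ, b < i → Subsingleton (Dual.HD A (Q.obj (mappingCone φ)) i) := by
    intro i hi
    have hz : IsZero ((mappingCone φ).homology i) := by
      rw [← HomologicalComplex.exactAt_iff_isZero_homology]
      exact ShortComplex.exact_of_isZero_X₂ _ (hC0 i hi)
    exact ModuleCat.subsingleton_of_isZero (hz.of_iso
      ((DerivedCategory.homologyFunctorFactors (ModuleCat.{u} A) i).app (mappingCone φ)))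
  have hA : ((TN (ModuleCat.of A (A ⧸ Ideal.span {x : A | x ∈ fs}))).obj
      (mappingCone φ)).Acyclic :=
    acyclic_of_iso (mappingCone.mapHomologicalComplexIso φ
      (tensorRight (ModuleCat.of A (A ⧸ Ideal.span {x : A | x ∈ fs})))).symm
      ((quasiIso_iff_acyclic_mappingCone _).1 hφ)
  exact bijective_precomp_of_distinguished _
    (DerivedCategory.mappingCone_triangle_distinguished φ) E
    (fun a => hom_eq_zero_of_TN_acyclic fs _ hCkf b hK hA E hE a)
    (fun a => hom_eq_zero_of_TN_acyclic fs _ hCkf b hK hA _ (isDerivedComplete_shift _ E hE 1) a)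

end Groth.Agent.Lib.AdicFlatH6
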