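import Mathlib
import Groth.Agent.Lib.AdicFlat2_helper6
import Groth.Agent.Lib.AdicFlat3_helper6
import Groth.Agent.Lib.AdicDer4_helper2

/-!
# Derived completion of `M ⊗ N`, `M` finite, `N` flat, over a Noetherian ring (helper6)

`bijective_precomp_sgOf`: the map `(M ⊗ N)[0] ⟶ (M ⊗ N)^[0]` is universal among maps to derived
complete objects.
-/

set_option autoImplicit false
set_option linter.unusedSectionVars false
set_option linter.unusedVariables false
set_option linter.style.haveILetI false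
universe u
open CategoryTheory CategoryTheory.Limits MonoidalCategory DerivedCategory TensorProduct
attribute [local instance] HasDerivedCategory.standard

namespace Groth.Agent.Lib.AdicFlatH6

open Groth.Agent.Lib.KFlatMod Groth.Agent.Lib.DMod_helper6 Groth.Agent.Lib.DerCompl
  Groth.Agent.Lib.DerNak Groth.Agent.Lib.BifCone CochainComplex Groth.Agent.Lib.DRingLT
  Groth.Agent.Lib.KFlatGen Groth.Agent.Lib.LocHom Groth.Agent.Lib.AdicDer

variable {A : Type u} [CommRing A]

section Chain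

lemma isIso_TN_map_tnMap (Φ : DRing.Cx A) {N N' : ModuleCat.{u} A} (g : N ⟶ N')
    (Q : ModuleCat.{u} A) (h : IsIso (g ▷ Q)) : IsIso ((TN Q).map (tnMap g Φ)) := by
  haveI : ∀ p, IsIso (((TN Q).map (tnMap g Φ)).f p) := fun p => by
    show IsIso ((Φ.X p ◁ g) ▷ Q)
    have e : (Φ.X p ◁ g) ▷ Q = (α_ _ _ _).hom ≫ Φ.X p ◁ (g ▷ Q) ≫ (α_ _ _ _).inv := by
      rw [← associator_naturality_middle_assoc, Iso.hom_inv_id, Category.comp_id]
    rw [e]
    infer_instance
  exact HomologicalComplex.Hom.isIso_of_components _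

lemma quasiIso_TN_map_of_flat (N : ModuleCat.{u} A) (hN : Module.Flat A N) {X Y : DRing.Cx A}
    (f : X ⟶ Y) [QuasiIso f] : QuasiIso ((TN N).map f) := by
  haveI := quasiIso_whiskerRight (Sg N) (kf_Sg N hN) f
  have h : (TN N).map f =
      (tensorSingleNat N).inv.app X ≫ (f ▷ Sg N) ≫ (tensorSingleNat N).hom.app Y := by
    have h1 := (tensorSingleNat N).hom.naturality f
    have h2 : (TN N).map f = (tensorSingleNat N).inv.app X ≫
        ((tensorRight (Sg N)).map f ≫ (tensorSingleNat N).hom.app Y) := by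
      rw [h1, Iso.inv_hom_id_app_assoc]
    exact h2
  rw [h]
  infer_instance

lemma tnMap_naturality {N N' : ModuleCat.{u} A} (g : N ⟶ N') {X Y : DRing.Cx A} (f : X ⟶ Y) :
    tnMap g X ≫ (TN N').map f = (TN N).map f ≫ tnMap g Y := by
  apply HomologicalComplex.hom_ext
  intro p
  show X.X p ◁ g ≫ f.f p ▷ N' = f.f p ▷ N ≫ Y.X p ◁ g
  exact whisker_exchange (f.f p) g

/-- `(M[0]) ⊗ N ≅ (M ⊗ N)[0]` -/
noncomputable def tnSgIso (M N : ModuleCat.{u} A) : (TN N).obj (Sg M) ≅ Sg (M ⊗ N) :=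
  (HomologicalComplex.singleMapHomologicalComplex (tensorRight N) (ComplexShape.up ℤ) 0).app M

lemma tnSgIso_hom_f (M N : ModuleCat.{u} A) :
    (tnSgIso M N).hom.f 0 =
      (HomologicalComplex.singleObjXSelf (ComplexShape.up ℤ) 0 M).hom ▷ N ≫
        (HomologicalComplex.singleObjXSelf (ComplexShape.up ℤ) 0 (M ⊗ N)).inv :=
  HomologicalComplex.singleMapHomologicalComplex_hom_app_self (tensorRight N)
    (ComplexShape.up ℤ) 0 M

lemma tnMap_tnSgIso (M : ModuleCat.{u} A) {N N' : ModuleCat.{u} A} (g : N ⟶ N') :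
    tnMap g (Sg M) ≫ (tnSgIso M N').hom =
      (tnSgIso M N).hom ≫
        (HomologicalComplex.single (ModuleCat.{u} A) (ComplexShape.up ℤ) 0).map (M ◁ g) := by
  apply HomologicalComplex.to_single_hom_ext
  rw [HomologicalComplex.comp_f, HomologicalComplex.comp_f, tnSgIso_hom_f, tnSgIso_hom_f,
    HomologicalComplex.single_map_f_self]
  show (Sg M).X 0 ◁ g ≫ _ = _
  have hw := whisker_exchange (HomologicalComplex.singleObjXSelf (ComplexShape.up ℤ) 0 M).hom g
  refine (Category.assoc _ _ _).symm.trans ?_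
  rw [hw]
  refine (Category.assoc _ _ _).trans ?_
  refine Eq.symm ((Category.assoc _ _ _).trans ?_)
  congr 1

end Chain

section Main

open Groth.Agent.Lib.AdicFlatH6

variable [IsNoetherianRing A] (fs : List A)
variable (M N : Type u) [AddCommGroup M] [Module A M] [Module.Finite A M]
  [AddCommGroup N] [Module A N] [Module.Flat A N]

/-- `(M ⊗ N)[0] ⟶ (M ⊗ N)^[0]` at the chain level -/
noncomputable def sgOf : Sg (ModuleCat.of A (M ⊗[A] N)) ⟶
    Sg (ModuleCat.of A (AdicCompletion (Ideal.span {x : A | x ∈ fs}) (M ⊗[A] N))) :=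
  (HomologicalComplex.single (ModuleCat.{u} A) (ComplexShape.up ℤ) 0).map
    (ModuleCat.ofHom (AdicCompletion.of (Ideal.span {x : A | x ∈ fs}) (M ⊗[A] N)))

theorem bijective_precomp_sgOf (E : Dual.D A)
    (hE : DRing.IsDerivedComplete (Ideal.span {x : A | x ∈ fs}) E) :
    Function.Bijective (fun ψ : Q.obj (Sg (ModuleCat.of A
      (AdicCompletion (Ideal.span {x : A | x ∈ fs}) (M ⊗[A] N)))) ⟶ E =>
        Q.map (sgOf fs M N) ≫ ψ) := by
  -- notation
  let Nm : ModuleCat.{u} A := ModuleCat.of A N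
  let Ncm : ModuleCat.{u} A := ModuleCat.of A (AdicCompletion (Ideal.span {x : A | x ∈ fs}) N)
  let Mm : ModuleCat.{u} A := ModuleCat.of A M
  let uN : Nm ⟶ Ncm := ModuleCat.ofHom (AdicCompletion.of (Ideal.span {x : A | x ∈ fs}) N)
  let Qm : ModuleCat.{u} A := ModuleCat.of A (A ⧸ Ideal.span {x : A | x ∈ fs})
  have hNfl : Module.Flat A Nm := (inferInstance : Module.Flat A N)
  have hNcfl : Module.Flat A Ncm := flat_adicCompletion (Ideal.span {x : A | x ∈ fs}) N
  -- the resolution of `M`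
  obtain ⟨Φ, c, hFc, hFf, ⟨e⟩⟩ :=
    (isPseudoCoherentModule'_iff_noeth (A := A) M).2 inferInstance
  haveI : Φ.IsKProjective :=
    isKProjective_of_projective_bounded Φ c hFc (fun i => by
      haveI := (hFf i).2
      exact Module.Projective.of_free)
  obtain ⟨π, hπ, -⟩ := Groth.Agent.PerfectCx.exists_quasiIso_of_iso Φ (Sg Mm)
    (e ≪≫ (DerivedCategory.singleFunctorIsoCompQ (ModuleCat.{u} A) 0).app Mm)
  haveI := hπ
  -- K-flatness
  have hkf : ∀ N' : ModuleCat.{u} A, Module.Flat A N' → KF A ((TN N').obj Φ) := fun N' hN' =>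
    kf_of_vanishesAbove _ c (fun i hi => isZero_TN_X N' Φ i (hFc i hi)) (fun i => by
      haveI := (hFf i).2
      haveI := hN'
      show Module.Flat A ((Φ.X i) ⊗[A] N')
      infer_instance)
  -- the universal property at the level of the resolution
  have hiso : IsIso (uN ▷ Qm) := by
    apply (ConcreteCategory.isIso_iff_bijective _).2
    exact bijective_rTensor_quotient_of (Ideal.span {x : A | x ∈ fs}) N (span_fg fs)
  haveI := isIso_TN_map_tnMap Φ uN Qm hiso
  have h1 := bijective_precomp_of_quasiIso_TN fs (tnMap uN Φ) (hkf Nm hNfl) (hkf Ncm hNcfl) c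
    (fun i hi => isZero_TN_X Nm Φ i (hFc i hi)) (fun i hi => isZero_TN_X Ncm Φ i (hFc i hi))
    inferInstance E hE
  -- transfer to `M[0]`
  haveI := quasiIso_TN_map_of_flat Nm hNfl π
  haveI := quasiIso_TN_map_of_flat Ncm hNcfl π
  haveI : IsIso (Q.map ((TN Nm).map π)) :=
    (isIso_Q_map_iff_quasiIso (C := ModuleCat.{u} A) _).2 inferInstance
  haveI : IsIso (Q.map ((TN Ncm).map π)) :=
    (isIso_Q_map_iff_quasiIso (C := ModuleCat.{u} A) _).2 inferInstance
  have h2 : Function.Bijective (fun ψ : Q.obj ((TN Ncm).obj (Sg Mm)) ⟶ E =>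
      Q.map (tnMap uN (Sg Mm)) ≫ ψ) :=
    bijective_precomp_of_comm (Q.map (tnMap uN Φ)) _ (asIso (Q.map ((TN Nm).map π)))
      (asIso (Q.map ((TN Ncm).map π))) (by
        rw [asIso_hom, asIso_hom, ← Functor.map_comp, ← Functor.map_comp, tnMap_naturality]) h1
  -- the comparison `M ⊗ N^ ≅ (M ⊗ N)^`
  let τ : Mm ⊗ Ncm ≅ ModuleCat.of A (AdicCompletion (Ideal.span {x : A | x ∈ fs}) (M ⊗[A] N)) :=
    (LinearEquiv.ofBijective (tau (Ideal.span {x : A | x ∈ fs}) M N)
      (tau_bijective_of_finite (Ideal.span {x : A | x ∈ fs}) M N)).toModuleIso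
  have hτ : Mm ◁ uN ≫ τ.hom =
      ModuleCat.ofHom (AdicCompletion.of (Ideal.span {x : A | x ∈ fs}) (M ⊗[A] N)) := by
    apply ModuleCat.hom_ext
    exact tau_comp_lTensor_of (Ideal.span {x : A | x ∈ fs}) M N
  refine bijective_precomp_of_comm (Q.map (tnMap uN (Sg Mm))) _ (Q.mapIso (tnSgIso Mm Nm))
    (Q.mapIso (tnSgIso Mm Ncm ≪≫
      (HomologicalComplex.single (ModuleCat.{u} A) (ComplexShape.up ℤ) 0).mapIso τ)) ?_ h2
  rw [Functor.mapIso_hom, Functor.mapIso_hom, ← Functor.map_comp, ← Functor.map_comp]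
  congr 1
  rw [Iso.trans_hom, Functor.mapIso_hom, ← Category.assoc, tnMap_tnSgIso, Category.assoc,
    ← Functor.map_comp, hτ]
  rfl

end Main

end Groth.Agent.Lib.AdicFlatH6
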