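import Mathlib
import Groth.Agent.Lib.AdicFlat4_helper6
import Groth.Agent.S7048

/-!
# Derived completion of `M ⊗ N`, `M` finite, `N` flat, over a Noetherian ring (helper6): final form
-/

set_option autoImplicit false
set_option linter.unusedSectionVars false
set_option linter.unusedVariables false
set_option linter.style.haveILetI false
universe u
open CategoryTheory CategoryTheory.Limits MonoidalCategory DerivedCategory TensorProduct
attribute [local instance] HasDerivedCategory.standard

namespace Groth.Agent.Lib.AdicFlatH6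

open Groth.Agent.Lib.KFlatMod Groth.Agent.Lib.DMod_helper6 Groth.Agent.Lib.DerCompl
  Groth.Agent.Lib.DerNak Groth.Agent.Lib.BifCone CochainComplex Groth.Agent.Lib.DRingLT
  Groth.Agent.Lib.KFlatGen Groth.Agent.Lib.LocHom Groth.Agent.Lib.AdicDer

variable {A : Type u} [CommRing A] [IsNoetherianRing A]

theorem main7061_list (fs : List A) [DRing.HasDerivedCompletion (Ideal.span {x : A | x ∈ fs})]
    (M N : Type u) [AddCommGroup M] [Module A M] [Module.Finite A M] [AddCommGroup N] [Module A N]
    [Module.Flat A N] :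
    (∀ i : ℤ, i ≠ 0 → Subsingleton (Dual.HD A ((DRing.derivedCompletion
        (Ideal.span {x : A | x ∈ fs})).obj (Dual.inD A (M ⊗[A] N))).obj i)) ∧
      ∃ e : Dual.HD A ((DRing.derivedCompletion (Ideal.span {x : A | x ∈ fs})).obj
            (Dual.inD A (M ⊗[A] N))).obj 0 ≃ₗ[A]
          AdicCompletion (Ideal.span {x : A | x ∈ fs}) (M ⊗[A] N),
        ∀ x : M ⊗[A] N,
          e ((((DerivedCategory.singleFunctorCompHomologyFunctorIso (ModuleCat.{u} A) 0).inv.app
                (ModuleCat.of A (M ⊗[A] N))) ≫
              (DerivedCategory.homologyFunctor (ModuleCat.{u} A) 0).map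
                (DRing.toDerivedCompletion (Ideal.span {x : A | x ∈ fs})
                  (Dual.inD A (M ⊗[A] N)))).hom x) =
            AdicCompletion.of (Ideal.span {x : A | x ∈ fs}) (M ⊗[A] N) x := by
  let X : ModuleCat.{u} A := ModuleCat.of A (M ⊗[A] N)
  let Y : ModuleCat.{u} A :=
    ModuleCat.of A (AdicCompletion (Ideal.span {x : A | x ∈ fs}) (M ⊗[A] N))
  let g : X ⟶ Y := ModuleCat.ofHom (AdicCompletion.of (Ideal.span {x : A | x ∈ fs}) (M ⊗[A] N))
  have hY : DRing.IsDerivedComplete (Ideal.span {x : A | x ∈ fs})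
      ((DerivedCategory.singleFunctor (ModuleCat.{u} A) 0).obj Y) := by
    haveI : IsAdicComplete (Ideal.span {x : A | x ∈ fs})
        (AdicCompletion (Ideal.span {x : A | x ∈ fs}) (M ⊗[A] N)) :=
      AdicCompletion.isAdicComplete (span_fg fs)
    exact Groth.Agent.S7048.result (Ideal.span {x : A | x ∈ fs})
      (AdicCompletion (Ideal.span {x : A | x ∈ fs}) (M ⊗[A] N))
  have huniv : ∀ E : Dual.D A, DRing.IsDerivedComplete (Ideal.span {x : A | x ∈ fs}) E →
      Function.Bijective (fun a : (DerivedCategory.singleFunctor (ModuleCat.{u} A) 0).obj Y ⟶ E =>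
        (DerivedCategory.singleFunctor (ModuleCat.{u} A) 0).map g ≫ a) := fun E hE =>
    bijective_precomp_of_comm (Q.map (sgOf fs M N)) _
      ((DerivedCategory.singleFunctorIsoCompQ (ModuleCat.{u} A) 0).app X).symm
      ((DerivedCategory.singleFunctorIsoCompQ (ModuleCat.{u} A) 0).app Y).symm
      ((DerivedCategory.singleFunctorIsoCompQ (ModuleCat.{u} A) 0).inv.naturality g)
      (bijective_precomp_sgOf fs M N E hE)
  obtain ⟨κ, hκ⟩ := exists_iso_of_universal
    (DRing.IsDerivedComplete (Ideal.span {x : A | x ∈ fs}))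
    (DRing.derivedCompletionAdj (Ideal.span {x : A | x ∈ fs}))
    ((DerivedCategory.singleFunctor (ModuleCat.{u} A) 0).obj X)
    ((DerivedCategory.singleFunctor (ModuleCat.{u} A) 0).obj Y) hY
    ((DerivedCategory.singleFunctor (ModuleCat.{u} A) 0).map g) huniv
  refine ⟨fun i hi => ?_, ?_⟩
  · exact ModuleCat.subsingleton_of_isZero ((isZero_HD_inD Y i hi).of_iso
      ((DerivedCategory.homologyFunctor (ModuleCat.{u} A) i).mapIso κ))
  · refine ⟨((DerivedCategory.homologyFunctor (ModuleCat.{u} A) 0).mapIso κ ≪≫
      (DerivedCategory.singleFunctorCompHomologyFunctorIso (ModuleCat.{u} A) 0).app Y).toLinearEquiv,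
      fun x => ?_⟩
    have hκ' : DRing.toDerivedCompletion (Ideal.span {x : A | x ∈ fs})
        (Dual.inD A (M ⊗[A] N)) ≫ κ.hom =
        (DerivedCategory.singleFunctor (ModuleCat.{u} A) 0).map g := hκ
    have hmor : ((DerivedCategory.singleFunctorCompHomologyFunctorIso (ModuleCat.{u} A) 0).inv.app X ≫
        (DerivedCategory.homologyFunctor (ModuleCat.{u} A) 0).map
          (DRing.toDerivedCompletion (Ideal.span {x : A | x ∈ fs}) (Dual.inD A (M ⊗[A] N)))) ≫
        ((DerivedCategory.homologyFunctor (ModuleCat.{u} A) 0).map κ.hom ≫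
          (DerivedCategory.singleFunctorCompHomologyFunctorIso (ModuleCat.{u} A) 0).hom.app Y) =
        g := by
      have hnat := (DerivedCategory.singleFunctorCompHomologyFunctorIso
        (ModuleCat.{u} A) 0).hom.naturality g
      rw [Category.assoc, ← Category.assoc ((DerivedCategory.homologyFunctor
        (ModuleCat.{u} A) 0).map _), ← Functor.map_comp, hκ']
      have hnat' : (DerivedCategory.homologyFunctor (ModuleCat.{u} A) 0).map
          ((DerivedCategory.singleFunctor (ModuleCat.{u} A) 0).map g) ≫
          (DerivedCategory.singleFunctorCompHomologyFunctorIso (ModuleCat.{u} A) 0).hom.app Y =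
          (DerivedCategory.singleFunctorCompHomologyFunctorIso (ModuleCat.{u} A) 0).hom.app X ≫
            g := hnat
      rw [hnat', Iso.inv_hom_id_app_assoc]
    exact congrArg (fun t => t.hom x) hmor

end Groth.Agent.Lib.AdicFlatH6
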