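import Mathlib

set_option autoImplicit false
universe u v

/-!
# Completion of a free module, coordinatewise (helper3)

`AdicCompletion I (α →₀ R)` is identified (via the coordinate maps) with the families
`d : α → AdicCompletion I R` such that for every `n` only finitely many `d a` are non-zero
modulo `I ^ n`.
-/

namespace Groth.Agent.Lib.ComplFreeH3

open AdicCompletion

variable {R : Type u} [CommRing R] (I : Ideal R) (α : Type v)

/-- The coordinate maps. -/
noncomputable def coord (a : α) :
    AdicCompletion I (α →₀ R) →ₗ[AdicCompletion I R] AdicCompletion I R :=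
  AdicCompletion.map I (Finsupp.lapply a)

theorem coord_mk_val (s : AdicCauchySequence I (α →₀ R)) (a : α) (n : ℕ) :
    (coord I α a (AdicCompletion.mk I _ s)).val n =
      Submodule.Quotient.mk (s n a) := rfl

theorem mem_smul_top_of_forall (J : Ideal R) (s : α →₀ R) (h : ∀ a, s a ∈ J) :
    s ∈ (J • ⊤ : Submodule R (α →₀ R)) := by
  classical
  rw [← Finsupp.sum_single s]
  refine Submodule.sum_mem _ fun a _ => ?_
  rw [← Finsupp.smul_single_one]
  exact Submodule.smul_mem_smul (h a) Submodule.mem_top

theorem finite_coord_ne (x : AdicCompletion I (α →₀ R)) (n : ℕ) :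
    {a | (coord I α a x).val n ≠ 0}.Finite := by
  obtain ⟨s, rfl⟩ := AdicCompletion.mk_surjective I _ x
  refine (s n).support.finite_toSet.subset ?_
  intro a ha
  simp only [Set.mem_setOf_eq, coord_mk_val] at ha
  simp only [Finset.mem_coe, Finsupp.mem_support_iff]
  intro h0
  apply ha
  rw [h0]
  rfl

theorem eq_zero_of_coord_eq_zero (x : AdicCompletion I (α →₀ R))
    (h : ∀ a, coord I α a x = 0) : x = 0 := by
  obtain ⟨s, rfl⟩ := AdicCompletion.mk_surjective I _ x
  apply AdicCompletion.ext
  intro n
  rw [AdicCompletion.mk_apply_coe, AdicCompletion.val_zero]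
  simp only [Pi.zero_apply, Submodule.mkQ_apply, Submodule.Quotient.mk_eq_zero]
  apply mem_smul_top_of_forall
  intro a
  have h1 := congrArg (fun y => y.val n) (h a)
  simp only [coord_mk_val, AdicCompletion.val_zero, Pi.zero_apply,
    Submodule.Quotient.mk_eq_zero] at h1
  rwa [smul_eq_mul, Ideal.mul_top] at h1

theorem exists_of_finite (d : α → AdicCompletion I R)
    (hd : ∀ n, {a | (d a).val n ≠ 0}.Finite) :
    ∃ x : AdicCompletion I (α →₀ R), ∀ a, coord I α a x = d a := by
  classical
  let lift : ℕ → α → R := fun n a =>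
    if (d a).val n = 0 then 0 else
      Function.surjInv (Submodule.Quotient.mk_surjective (I ^ n • ⊤ : Submodule R R))
        ((d a).val n)
  have hlift : ∀ n a, (Submodule.Quotient.mk (lift n a) : R ⧸ (I ^ n • ⊤ : Submodule R R)) =
      (d a).val n := by
    intro n a
    by_cases h : (d a).val n = 0
    · simp only [lift, if_pos h]
      rw [h]; rfl
    · simp only [lift, if_neg h]
      exact Function.surjInv_eq _ _
  let s' : ℕ → (α →₀ R) := fun n => Finsupp.onFinset (hd n).toFinset (lift n) (by
    intro a ha
    rw [Set.Finite.mem_toFinset]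
    intro h0
    apply ha
    simp only [lift, if_pos h0])
  have hs' : ∀ n a, s' n a = lift n a := fun n a => rfl
  have hcauchy : ∀ n, s' n ≡ s' (n + 1) [SMOD (I ^ n • ⊤ : Submodule R (α →₀ R))] := by
    intro n
    rw [SModEq.sub_mem]
    apply mem_smul_top_of_forall
    intro a
    rw [Finsupp.sub_apply, hs', hs']
    have h1 : (Submodule.Quotient.mk (lift (n + 1) a) : R ⧸ (I ^ n • ⊤ : Submodule R R)) =
        (d a).val n := by
      have h2 := (d a).2 (Nat.le_succ n)
      rw [← hlift (n + 1) a] at h2
      exact h2
    have h3 : (Submodule.Quotient.mk (lift n a - lift (n + 1) a) :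
        R ⧸ (I ^ n • ⊤ : Submodule R R)) = 0 := by
      rw [Submodule.Quotient.mk_sub, h1, hlift, sub_self]
    rw [Submodule.Quotient.mk_eq_zero, smul_eq_mul, Ideal.mul_top] at h3
    exact h3
  refine ⟨AdicCompletion.mk I _ (AdicCauchySequence.mk I _ s' hcauchy), fun a => ?_⟩
  apply AdicCompletion.ext
  intro n
  rw [coord_mk_val]
  exact hlift n a

end Groth.Agent.Lib.ComplFreeH3
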