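import Mathlib
import Groth.Agent.Lib.ComplFree_helper3

set_option autoImplicit false
universe u

/-!
# Completion of a flat module with projective reduction (helper3)

For a short exact sequence `0 → K → P → M → 0` with `M` flat and `M/IM` projective over `R/I`,
the completed sequence is split exact.
-/

namespace Groth.Agent.Lib.ComplFlatSplitH3

open AdicCompletion

section strict

variable {R : Type*} [CommRing R] (I : Ideal R)
variable {K P M : Type*} [AddCommGroup K] [Module R K] [AddCommGroup P] [Module R P]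
  [AddCommGroup M] [Module R M]

theorem map_injective_of_strict {f : K →ₗ[R] P}
    (hst : ∀ (n : ℕ) (k : K), f k ∈ (I ^ n • ⊤ : Submodule R P) →
      k ∈ (I ^ n • ⊤ : Submodule R K)) :
    Function.Injective (AdicCompletion.map I f) := by
  rw [injective_iff_map_eq_zero]
  intro x hx
  obtain ⟨s, rfl⟩ := AdicCompletion.mk_surjective _ _ x
  rw [AdicCompletion.map_mk] at hx
  have h1 : ∀ n, f (s n) ∈ (I ^ n • ⊤ : Submodule R P) := by
    intro n
    have h := congrArg (fun y => y.val n) hx
    simpa using h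
  apply AdicCompletion.ext
  intro n
  rw [AdicCompletion.mk_apply_coe, AdicCompletion.val_zero]
  simp only [Pi.zero_apply, Submodule.mkQ_apply, Submodule.Quotient.mk_eq_zero]
  exact hst n _ (h1 n)

/-- A Cauchy sequence in `P` which is levelwise congruent to elements of the image of a strict map
`f` comes from the completion of the source. -/
theorem mem_range_map_of_strict {f : K →ₗ[R] P}
    (hst : ∀ (n : ℕ) (k : K), f k ∈ (I ^ n • ⊤ : Submodule R P) →
      k ∈ (I ^ n • ⊤ : Submodule R K))
    (s : AdicCauchySequence I P)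
    (h : ∀ n, ∃ x' : K, s n - f x' ∈ (I ^ n • ⊤ : Submodule R P)) :
    AdicCompletion.mk I P s ∈ LinearMap.range (AdicCompletion.map I f) := by
  choose x' hx' using h
  let t : AdicCauchySequence I K :=
    AdicCauchySequence.mk I K x' (fun n => by
      rw [SModEq.sub_mem]
      apply hst n
      rw [map_sub]
      have e : f (x' n) - f (x' (n + 1)) =
          (s (n + 1) - f (x' (n + 1))) - (s n - f (x' n)) + (s n - s (n + 1)) := by abel
      rw [e]
      refine add_mem (sub_mem ?_ (hx' n)) ?_
      · exact Submodule.smul_mono_left (Ideal.pow_le_pow_right n.le_succ) (hx' (n + 1))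
      · have h := s.2 (Nat.le_succ n)
        rwa [SModEq.sub_mem] at h)
  refine ⟨AdicCompletion.mk I K t, ?_⟩
  rw [AdicCompletion.map_mk]
  apply AdicCompletion.ext
  intro n
  rw [AdicCompletion.mk_apply_coe, AdicCompletion.mk_apply_coe]
  simp only [Submodule.mkQ_apply]
  rw [Submodule.Quotient.eq]
  show f (x' n) - s n ∈ _
  have := hx' n
  rw [← neg_sub]
  exact neg_mem this

theorem map_exact_of_strict {f : K →ₗ[R] P} {g : P →ₗ[R] M}
    (hfg : Function.Exact f g) (hg : Function.Surjective g)
    (hst : ∀ (n : ℕ) (k : K), f k ∈ (I ^ n • ⊤ : Submodule R P) →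
      k ∈ (I ^ n • ⊤ : Submodule R K)) :
    Function.Exact (AdicCompletion.map I f) (AdicCompletion.map I g) := by
  intro y
  constructor
  · intro hy
    obtain ⟨s, rfl⟩ := AdicCompletion.mk_surjective _ _ y
    rw [AdicCompletion.map_mk] at hy
    have h1 : ∀ n, g (s n) ∈ (I ^ n • ⊤ : Submodule R M) := by
      intro n
      have h := congrArg (fun y => y.val n) hy
      simpa using h
    apply mem_range_map_of_strict I hst s
    intro n
    have h2 : g (s n) ∈ Submodule.map g (I ^ n • ⊤ : Submodule R P) := by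
      rw [Submodule.map_smul'', Submodule.map_top, LinearMap.range_eq_top.2 hg]
      exact h1 n
    obtain ⟨w, hw, hgw⟩ := h2
    have h : g (s n - w) = 0 := by rw [map_sub, hgw, sub_self]
    obtain ⟨x', hx'⟩ := (hfg _).1 h
    refine ⟨x', ?_⟩
    rw [hx']
    simpa using hw
  · rintro ⟨x, rfl⟩
    rw [AdicCompletion.map_comp_apply]
    have h : g ∘ₗ f = 0 := LinearMap.ext fun z => hfg.apply_apply_eq_zero z
    rw [h, AdicCompletion.map_zero]
    rfl

theorem range_sup_pow_smul_top {φ : K →ₗ[R] P}
    (h : LinearMap.range φ ⊔ (I • ⊤ : Submodule R P) = ⊤) (n : ℕ) :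
    LinearMap.range φ ⊔ (I ^ n • ⊤ : Submodule R P) = ⊤ := by
  induction n with
  | zero => simp [Ideal.one_eq_top]
  | succ n ih =>
    rw [eq_top_iff]
    calc (⊤ : Submodule R P) = LinearMap.range φ ⊔ I • (⊤ : Submodule R P) := h.symm
      _ = LinearMap.range φ ⊔ I • (LinearMap.range φ ⊔ (I ^ n • ⊤ : Submodule R P)) := by rw [ih]
      _ = LinearMap.range φ ⊔ (I • LinearMap.range φ ⊔ I • (I ^ n • ⊤ : Submodule R P)) := by
        rw [Submodule.smul_sup]
      _ ≤ LinearMap.range φ ⊔ (I ^ (n + 1) • ⊤ : Submodule R P) := by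
        refine sup_le le_sup_left (sup_le (le_sup_of_le_left Submodule.smul_le_right) ?_)
        rw [← Submodule.mul_smul, ← pow_succ']
        exact le_sup_right

theorem map_bijective_of_strict {φ : K →ₗ[R] P}
    (hst : ∀ (n : ℕ) (k : K), φ k ∈ (I ^ n • ⊤ : Submodule R P) →
      k ∈ (I ^ n • ⊤ : Submodule R K))
    (h : LinearMap.range φ ⊔ (I • ⊤ : Submodule R P) = ⊤) :
    Function.Bijective (AdicCompletion.map I φ) := by
  refine ⟨map_injective_of_strict I hst, ?_⟩
  intro y
  obtain ⟨s, rfl⟩ := AdicCompletion.mk_surjective _ _ y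
  apply mem_range_map_of_strict I hst s
  intro n
  have h1 : s n ∈ LinearMap.range φ ⊔ (I ^ n • ⊤ : Submodule R P) := by
    rw [range_sup_pow_smul_top I h n]
    exact Submodule.mem_top
  obtain ⟨_, ⟨x', rfl⟩, t, ht, hs⟩ := Submodule.mem_sup.mp h1
  refine ⟨x', ?_⟩
  rw [← hs]
  simpa using ht

/-- Strictness from flatness of the cokernel. -/
theorem strict_of_flat [Module.Flat R M] {f : K →ₗ[R] P} {g : P →ₗ[R] M}
    (hf : Function.Injective f) (hfg : Function.Exact f g) (hg : Function.Surjective g)
    (n : ℕ) (k : K) (hk : f k ∈ (I ^ n • ⊤ : Submodule R P)) :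
    k ∈ (I ^ n • ⊤ : Submodule R K) := by
  have h1 : f k ∈ LinearMap.ker g ⊓ (I ^ n • ⊤ : Submodule R P) :=
    ⟨hfg.apply_apply_eq_zero k, hk⟩
  rw [LinearMap.ker_inf_smul_top_eq_smul_of_flat (I ^ n) g hg, hfg.linearMap_ker_eq,
    ← Submodule.map_top, ← Submodule.map_smul''] at h1
  obtain ⟨k', hk', hkk⟩ := h1
  rw [← hf hkk]
  exact hk'

end strict

section flat

variable {R : Type*} [CommRing R]

theorem flat_prod (M K : Type*) [AddCommGroup M] [Module R M] [AddCommGroup K] [Module R K]
    [Module.Flat R M] [Module.Flat R K] : Module.Flat R (M × K) := by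
  rw [Module.Flat.iff_rTensor_injective']
  intro J
  rw [injective_iff_map_eq_zero]
  intro x hx
  have h1 : LinearMap.lTensor J (LinearMap.fst R M K) x = 0 := by
    apply (Module.Flat.iff_rTensor_injective'.mp (inferInstance : Module.Flat R M) J)
    rw [_root_.map_zero, ← LinearMap.comp_apply, LinearMap.rTensor_comp_lTensor,
      ← LinearMap.lTensor_comp_rTensor, LinearMap.comp_apply, hx, _root_.map_zero]
  have h2 : LinearMap.lTensor J (LinearMap.snd R M K) x = 0 := by
    apply (Module.Flat.iff_rTensor_injective'.mp (inferInstance : Module.Flat R K) J)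
    rw [_root_.map_zero, ← LinearMap.comp_apply, LinearMap.rTensor_comp_lTensor,
      ← LinearMap.lTensor_comp_rTensor, LinearMap.comp_apply, hx, _root_.map_zero]
  have h3 : LinearMap.inl R M K ∘ₗ LinearMap.fst R M K + LinearMap.inr R M K ∘ₗ LinearMap.snd R M K
      = LinearMap.id := by
    ext x <;> simp
  have h4 : x = LinearMap.lTensor J (LinearMap.inl R M K ∘ₗ LinearMap.fst R M K +
      LinearMap.inr R M K ∘ₗ LinearMap.snd R M K) x := by
    rw [h3, LinearMap.lTensor_id, LinearMap.id_apply]
  rw [h4, LinearMap.lTensor_add, LinearMap.add_apply, LinearMap.lTensor_comp,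
    LinearMap.lTensor_comp, LinearMap.comp_apply, LinearMap.comp_apply, h1, h2, _root_.map_zero, _root_.map_zero,
    add_zero]

theorem flat_ker {F M : Type*} [AddCommGroup F] [Module R F] [AddCommGroup M] [Module R M]
    [Module.Flat R F] [Module.Flat R M] (π : F →ₗ[R] M) (hπ : Function.Surjective π) :
    Module.Flat R (LinearMap.ker π) := by
  rw [Module.Flat.iff_rTensor_injective']
  intro J
  have h1 : Function.Injective (LinearMap.lTensor J (LinearMap.ker π).subtype) :=
    LinearMap.lTensor_injective_of_exact_of_flat π hπ _ (LinearMap.ker π).subtype_injective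
      (LinearMap.exact_subtype_ker_map π) J
  have h2 : Function.Injective (LinearMap.rTensor F J.subtype) :=
    Module.Flat.iff_rTensor_injective'.mp inferInstance J
  have h3 : (LinearMap.lTensor R (LinearMap.ker π).subtype) ∘ₗ
      (LinearMap.rTensor (LinearMap.ker π) J.subtype) =
      (LinearMap.rTensor F J.subtype) ∘ₗ (LinearMap.lTensor J (LinearMap.ker π).subtype) := by
    rw [LinearMap.lTensor_comp_rTensor, LinearMap.rTensor_comp_lTensor]
  have h4 : Function.Injective ((LinearMap.lTensor R (LinearMap.ker π).subtype) ∘ₗ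
      (LinearMap.rTensor (LinearMap.ker π) J.subtype)) := by
    rw [h3]
    exact h2.comp h1
  exact Function.Injective.of_comp h4

end flat

section graded

variable {R : Type*} [CommRing R] (I : Ideal R) {N : Type*} [AddCommGroup N] [Module R N]
  [Module.Flat R N] {Z : Type*} [DecidableEq Z] (e : Z → N) (c : Z → N →ₗ[R] R ⧸ I)

include c in
theorem coeff_mem_pow_succ (hc : ∀ z w, c z (e w) = if w = z then 1 else 0) (a : ℕ) (x : Z →₀ R)
    (hx : ∀ z, x z ∈ I ^ a)
    (h : Finsupp.linearCombination R e x ∈ (I ^ (a + 1) • ⊤ : Submodule R N)) :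
    ∀ z, x z ∈ I ^ (a + 1) := by
  classical
  have hspan : (⊤ : Submodule R N) = Submodule.span R (Set.range (id : N → N)) := by simp
  rw [hspan] at h
  obtain ⟨u, hu, hux⟩ :=
    (Submodule.mem_ideal_smul_span_iff_exists_sum (I ^ (a + 1)) (id : N → N) _).mp h
  have hux' : ∑ ν ∈ u.support, u ν • ν = Finsupp.linearCombination R e x := hux
  let f : (x.support ⊕ u.support) → R := Sum.elim (fun z => x z.1) (fun ν => - u ν.1)
  let X : (x.support ⊕ u.support) → N := Sum.elim (fun z => e z.1) (fun ν => ν.1)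
  have hrel : ∑ i, f i • X i = 0 := by
    rw [Fintype.sum_sum_type]
    simp only [f, X, Sum.elim_inl, Sum.elim_inr, neg_smul, Finset.sum_neg_distrib]
    rw [Finset.sum_coe_sort x.support (fun z => x z • e z),
      Finset.sum_coe_sort u.support (fun ν => u ν • ν), hux', Finsupp.linearCombination_apply,
      Finsupp.sum]
    exact add_neg_cancel _
  obtain ⟨k, A, y, hXy, hfA⟩ := Module.Flat.isTrivialRelation_of_sum_smul_eq_zero hrel
  have hj : ∀ j, ∑ z : x.support, x z.1 * A (Sum.inl z) j ∈ I ^ (a + 1) := by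
    intro j
    have h1 := hfA j
    rw [Fintype.sum_sum_type] at h1
    simp only [f, Sum.elim_inl, Sum.elim_inr, neg_mul, Finset.sum_neg_distrib] at h1
    rw [add_neg_eq_zero] at h1
    rw [h1]
    exact Ideal.sum_mem _ fun ν _ => Ideal.mul_mem_right _ _ (hu ν.1)
  intro w
  by_cases hw : w ∈ x.support
  swap
  · rw [Finsupp.notMem_support_iff.mp hw]
    exact Ideal.zero_mem _
  choose d hd using fun j => Ideal.Quotient.mk_surjective (c w (y j))
  have hz : ∀ z : x.support,
      (if z.1 = w then (1 : R) else 0) - ∑ j, A (Sum.inl z) j * d j ∈ I := by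
    intro z
    rw [← Ideal.Quotient.eq_zero_iff_mem, map_sub, map_sum, sub_eq_zero]
    have h1 := congrArg (c w) (hXy (Sum.inl z))
    simp only [X, Sum.elim_inl, map_sum, map_smul, hc] at h1
    rw [apply_ite (Ideal.Quotient.mk I), map_one, _root_.map_zero, h1]
    refine Finset.sum_congr rfl fun j _ => ?_
    rw [map_mul, hd, Algebra.smul_def, Ideal.Quotient.algebraMap_eq]
  have e1 : ∑ z : x.support, x z.1 * (if z.1 = w then (1 : R) else 0) = x w := by
    rw [Finset.sum_coe_sort x.support (fun z => x z * (if z = w then (1 : R) else 0))]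
    simp only [mul_ite, mul_one, mul_zero]
    rw [Finset.sum_ite_eq' x.support w (fun z => x z), if_pos hw]
  have e2 : ∑ j, (∑ z : x.support, x z.1 * A (Sum.inl z) j) * d j =
      ∑ z : x.support, x z.1 * ∑ j, A (Sum.inl z) j * d j := by
    simp_rw [Finset.sum_mul, Finset.mul_sum, mul_assoc]
    exact Finset.sum_comm
  have key : x w = ∑ z : x.support, x z.1 *
        ((if z.1 = w then (1 : R) else 0) - ∑ j, A (Sum.inl z) j * d j) +
      ∑ j, (∑ z : x.support, x z.1 * A (Sum.inl z) j) * d j := by
    simp_rw [mul_sub]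
    rw [Finset.sum_sub_distrib, e1, e2]
    ring
  rw [key]
  refine Ideal.add_mem _ (Ideal.sum_mem _ fun z _ => ?_)
    (Ideal.sum_mem _ fun j _ => Ideal.mul_mem_right _ _ (hj j))
  rw [pow_succ]
  exact Ideal.mul_mem_mul (hx z.1) (hz z)

include c in
theorem coeff_mem_pow (hc : ∀ z w, c z (e w) = if w = z then 1 else 0) (n : ℕ) (x : Z →₀ R)
    (h : Finsupp.linearCombination R e x ∈ (I ^ n • ⊤ : Submodule R N)) :
    ∀ z, x z ∈ I ^ n := by
  have key : ∀ a, a ≤ n → ∀ z, x z ∈ I ^ a := by
    intro a
    induction a with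
    | zero => intro _ z; simp
    | succ a ih =>
      intro ha
      exact coeff_mem_pow_succ I e c hc a x (ih (Nat.le_of_succ_le ha))
        (Submodule.smul_mono_left (Ideal.pow_le_pow_right ha) h)
  exact key n le_rfl

include c in
theorem strict_linearCombination (hc : ∀ z w, c z (e w) = if w = z then 1 else 0) (n : ℕ)
    (x : Z →₀ R) (h : Finsupp.linearCombination R e x ∈ (I ^ n • ⊤ : Submodule R N)) :
    x ∈ (I ^ n • ⊤ : Submodule R (Z →₀ R)) :=
  ComplFreeH3.mem_smul_top_of_forall Z (I ^ n) x (coeff_mem_pow I e c hc n x h)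

end graded

section construction

variable {R : Type u} [CommRing R] (I : Ideal R) (M : Type u) [AddCommGroup M] [Module R M]
  [Module.Flat R M] [Module.Projective (R ⧸ I) (M ⧸ (I • ⊤ : Submodule R M))]

theorem exists_free_section_aux (K : Type u) [AddCommGroup K] [Module R K] [Module.Flat R K]
    (ι : K →ₗ[R] (M →₀ R))
    (hker : ∀ x : M →₀ R, Finsupp.linearCombination R (id : M → M) x = 0 → ∃ k, ι k = x)
    (hι0 : ∀ k, Finsupp.linearCombination R (id : M → M) (ι k) = 0)
    (hIK : ∀ k, ι k ∈ (I • ⊤ : Submodule R (M →₀ R)) → k ∈ (I • ⊤ : Submodule R K)) :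
    ∃ (q : (M →₀ R) →ₗ[R] M)
      (s : AdicCompletion I M →ₗ[AdicCompletion I R] AdicCompletion I (M →₀ R)),
      AdicCompletion.map I q ∘ₗ s = LinearMap.id := by
  classical
  let π : (M →₀ R) →ₗ[R] M := Finsupp.linearCombination R (id : M → M)
  have hπ : Function.Surjective π :=
    Finsupp.linearCombination_surjective _ Function.surjective_id
  have hπs : ∀ z : M, π (Finsupp.single z 1) = z := by
    intro z
    show Finsupp.linearCombination R (id : M → M) (Finsupp.single z 1) = z
    rw [Finsupp.linearCombination_single, one_smul]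
    rfl
  let qF : (M →₀ R) →ₗ[R] (M →₀ R) ⧸ (I • ⊤ : Submodule R (M →₀ R)) := Submodule.mkQ _
  let qM : M →ₗ[R] M ⧸ (I • ⊤ : Submodule R M) := Submodule.mkQ _
  let πbar : ((M →₀ R) ⧸ (I • ⊤ : Submodule R (M →₀ R))) →ₗ[R] (M ⧸ (I • ⊤ : Submodule R M)) :=
    Submodule.mapQ _ _ π (by
      rw [← Submodule.map_le_iff_le_comap, Submodule.map_smul'']
      exact Submodule.smul_mono le_rfl le_top)
  have hπbar : ∀ x, πbar (qF x) = qM (π x) := fun x => rfl
  let πbar' : ((M →₀ R) ⧸ (I • ⊤ : Submodule R (M →₀ R))) →ₗ[R ⧸ I]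
      (M ⧸ (I • ⊤ : Submodule R M)) :=
    { toFun := πbar
      map_add' := πbar.map_add
      map_smul' := by
        intro r x
        obtain ⟨r, rfl⟩ := Ideal.Quotient.mk_surjective r
        exact πbar.map_smul r x }
  have hπbar' : Function.Surjective πbar' := by
    intro y
    obtain ⟨m, rfl⟩ := Submodule.Quotient.mk_surjective _ y
    obtain ⟨x, rfl⟩ := hπ m
    exact ⟨qF x, rfl⟩
  obtain ⟨ibar', hibar'⟩ := Module.projective_lifting_property πbar' LinearMap.id hπbar'
  let ibar : (M ⧸ (I • ⊤ : Submodule R M)) →ₗ[R] ((M →₀ R) ⧸ (I • ⊤ : Submodule R (M →₀ R))) :=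
    { toFun := ibar'
      map_add' := ibar'.map_add
      map_smul' := by
        intro r x
        exact ibar'.map_smul (Ideal.Quotient.mk I r) x }
  have hibar : ∀ y, πbar (ibar y) = y := fun y => LinearMap.congr_fun hibar' y
  have hlift : ∀ t : (M →₀ R) ⧸ (I • ⊤ : Submodule R (M →₀ R)), πbar t = 0 →
      ∃ k : K, qF (ι k) = t := by
    intro t ht
    obtain ⟨x, rfl⟩ := Submodule.Quotient.mk_surjective _ t
    have h1 : π x ∈ (I • ⊤ : Submodule R M) := by
      have : qM (π x) = 0 := ht
      simpa [qM] using this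
    have h2 : π x ∈ Submodule.map π (I • ⊤ : Submodule R (M →₀ R)) := by
      rw [Submodule.map_smul'', Submodule.map_top, LinearMap.range_eq_top.2 hπ]
      exact h1
    obtain ⟨y, hy, hxy⟩ := h2
    obtain ⟨k, hk⟩ := hker (x - y) (by
      show π (x - y) = 0
      rw [map_sub, hxy, sub_self])
    refine ⟨k, ?_⟩
    rw [hk]
    show qF (x - y) = qF x
    rw [map_sub, sub_eq_self]
    exact (Submodule.Quotient.mk_eq_zero _).2 hy
  have hk : ∀ z : M, ∃ k : K, qF (ι k) = qF (Finsupp.single z 1) - ibar (qM z) := by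
    intro z
    apply hlift
    rw [map_sub, hibar, hπbar, hπs, sub_self]
  choose kk hkk using hk
  let e : M → M × K := fun z => (z, kk z)
  let φ : (M →₀ R) →ₗ[R] M × K := Finsupp.linearCombination R e
  let ψ : M × K →ₗ[R] (M →₀ R) ⧸ (I • ⊤ : Submodule R (M →₀ R)) :=
    (ibar ∘ₗ qM).coprod (qF ∘ₗ ι)
  have hψe : ∀ z, ψ (e z) = qF (Finsupp.single z 1) := by
    intro z
    simp only [ψ, e, LinearMap.coprod_apply, LinearMap.comp_apply]
    rw [hkk z]
    abel
  have hψφ : ∀ x, ψ (φ x) = qF x := by
    intro x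
    have : ψ ∘ₗ φ = qF := by
      apply Finsupp.lhom_ext'
      intro z
      apply LinearMap.ext_ring
      simp only [LinearMap.comp_apply, Finsupp.lsingle_apply, φ, Finsupp.linearCombination_single,
        one_smul]
      exact hψe z
    exact LinearMap.congr_fun this x
  let coordQ : M → ((M →₀ R) ⧸ (I • ⊤ : Submodule R (M →₀ R))) →ₗ[R] R ⧸ I := fun z =>
    Submodule.liftQ _ ((Submodule.mkQ I) ∘ₗ (Finsupp.lapply z)) (by
      rw [Submodule.smul_le]
      intro r hr x _
      rw [LinearMap.mem_ker, LinearMap.comp_apply, map_smul, map_smul]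
      have : (Submodule.mkQ I) ((Finsupp.lapply z : (M →₀ R) →ₗ[R] R) x) =
          Ideal.Quotient.mk I (x z) := rfl
      rw [this, Algebra.smul_def, Ideal.Quotient.algebraMap_eq,
        Ideal.Quotient.eq_zero_iff_mem.2 hr, zero_mul])
  let c : M → (M × K) →ₗ[R] R ⧸ I := fun z => coordQ z ∘ₗ ψ
  have hc : ∀ z w, c z (e w) = if w = z then 1 else 0 := by
    intro z w
    simp only [c, LinearMap.comp_apply, hψe]
    show Ideal.Quotient.mk I ((Finsupp.single w (1 : R)) z) = _
    rw [Finsupp.single_apply]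
    split_ifs <;> simp
  haveI : Module.Flat R (M × K) := flat_prod M K
  have hst : ∀ (n : ℕ) (x : M →₀ R), φ x ∈ (I ^ n • ⊤ : Submodule R (M × K)) →
      x ∈ (I ^ n • ⊤ : Submodule R (M →₀ R)) :=
    fun n x h => strict_linearCombination I e c hc n x h
  have hkerψ : LinearMap.ker ψ ≤ (I • ⊤ : Submodule R (M × K)) := by
    rintro ⟨m, k⟩ hmk
    have h0 : ibar (qM m) + qF (ι k) = 0 := by
      have : ψ (m, k) = 0 := hmk
      simpa [ψ] using this
    have h1 : qM m = 0 := by
      have := congrArg πbar h0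
      rw [map_add, hibar, hπbar, _root_.map_zero] at this
      have hk0 : π (ι k) = 0 := hι0 k
      rwa [hk0, _root_.map_zero, add_zero] at this
    have h2 : qF (ι k) = 0 := by rwa [h1, _root_.map_zero, zero_add] at h0
    have hm : m ∈ (I • ⊤ : Submodule R M) := by simpa [qM] using h1
    have hk1 : ι k ∈ (I • ⊤ : Submodule R (M →₀ R)) := by simpa [qF] using h2
    have hk3 : k ∈ (I • ⊤ : Submodule R K) := hIK k hk1
    have e1 : ((m, k) : M × K) = LinearMap.inl R M K m + LinearMap.inr R M K k := by simp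
    rw [e1]
    refine add_mem ?_ ?_
    · have : Submodule.map (LinearMap.inl R M K) (I • ⊤) ≤ I • ⊤ := by
        rw [Submodule.map_smul'']
        exact Submodule.smul_mono le_rfl le_top
      exact this ⟨m, hm, rfl⟩
    · have : Submodule.map (LinearMap.inr R M K) (I • ⊤) ≤ I • ⊤ := by
        rw [Submodule.map_smul'']
        exact Submodule.smul_mono le_rfl le_top
      exact this ⟨k, hk3, rfl⟩
  have hsurj : LinearMap.range φ ⊔ (I • ⊤ : Submodule R (M × K)) = ⊤ := by
    rw [eq_top_iff]
    intro v _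
    obtain ⟨x, hx⟩ := Submodule.Quotient.mk_surjective _ (ψ v)
    have h1 : v - φ x ∈ LinearMap.ker ψ := by
      rw [LinearMap.mem_ker, map_sub, hψφ]
      show ψ v - Submodule.Quotient.mk x = 0
      rw [hx]
      exact sub_self _
    have : v = φ x + (v - φ x) := by abel
    rw [this]
    exact Submodule.add_mem_sup ⟨x, rfl⟩ (hkerψ h1)
  have hbij := map_bijective_of_strict I (φ := φ) hst hsurj
  let E := LinearEquiv.ofBijective (AdicCompletion.map I φ) hbij
  refine ⟨LinearMap.fst R M K ∘ₗ φ,
    E.symm.toLinearMap ∘ₗ AdicCompletion.map I (LinearMap.inl R M K), ?_⟩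
  rw [← AdicCompletion.map_comp, LinearMap.comp_assoc,
    ← LinearMap.comp_assoc (AdicCompletion.map I (LinearMap.inl R M K))]
  have hE : AdicCompletion.map I φ ∘ₗ E.symm.toLinearMap = LinearMap.id :=
    LinearMap.ext fun x => E.apply_symm_apply x
  rw [hE, LinearMap.id_comp, AdicCompletion.map_comp]
  have : LinearMap.fst R M K ∘ₗ LinearMap.inl R M K = LinearMap.id := by
    ext
    simp
  rw [this, AdicCompletion.map_id]

theorem exists_free_section :
    ∃ (q : (M →₀ R) →ₗ[R] M)
      (s : AdicCompletion I M →ₗ[AdicCompletion I R] AdicCompletion I (M →₀ R)),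
      AdicCompletion.map I q ∘ₗ s = LinearMap.id := by
  have hπ : Function.Surjective (Finsupp.linearCombination R (id : M → M)) :=
    Finsupp.linearCombination_surjective _ Function.surjective_id
  haveI : Module.Flat R (LinearMap.ker (Finsupp.linearCombination R (id : M → M))) :=
    flat_ker _ hπ
  refine exists_free_section_aux I M (LinearMap.ker (Finsupp.linearCombination R (id : M → M)))
    (Submodule.subtype _) (fun x hx => ⟨⟨x, hx⟩, rfl⟩) (fun k => LinearMap.mem_ker.1 k.2) ?_
  intro k hk
  have hk2 : k.1 ∈ I • LinearMap.ker (Finsupp.linearCombination R (id : M → M)) := by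
    rw [← LinearMap.ker_inf_smul_top_eq_smul_of_flat I _ hπ]
    exact ⟨k.2, hk⟩
  exact (Submodule.mem_smul_top_iff I _ k).2 hk2

theorem main (K P : Type u) [AddCommGroup K] [Module R K] [AddCommGroup P] [Module R P]
    (f : K →ₗ[R] P) (g : P →ₗ[R] M)
    (hf : Function.Injective f) (hg : Function.Surjective g) (hfg : Function.Exact f g) :
    Function.Injective (AdicCompletion.map I f) ∧
      Function.Exact (AdicCompletion.map I f) (AdicCompletion.map I g) ∧
      ∃ s : AdicCompletion I M →ₗ[AdicCompletion I R] AdicCompletion I P,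
        AdicCompletion.map I g ∘ₗ s = LinearMap.id := by
  have hst := fun n k hk => strict_of_flat I hf hfg hg n k hk
  refine ⟨map_injective_of_strict I hst, map_exact_of_strict I hfg hg hst, ?_⟩
  obtain ⟨q, s', hs'⟩ := exists_free_section I M
  obtain ⟨h, hh⟩ := Module.projective_lifting_property g q hg
  refine ⟨AdicCompletion.map I h ∘ₗ s', ?_⟩
  rw [← LinearMap.comp_assoc, AdicCompletion.map_comp, hh, hs']

end construction

end Groth.Agent.Lib.ComplFlatSplitH3
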