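import Mathlib

set_option autoImplicit false
universe u v w

/-!
# When is the adic completion complete? (helper3)
-/

namespace Groth.Agent.Lib.ComplCompleteH3

open AdicCompletion

variable {R : Type u} [CommRing R] (I : Ideal R) (M : Type v) [AddCommGroup M] [Module R M]

theorem map_mem_smul_top {N : Type w} [AddCommGroup N] [Module R N] (f : M →ₗ[R] N)
    (J : Ideal R) {x : M} (hx : x ∈ (J • ⊤ : Submodule R M)) : f x ∈ (J • ⊤ : Submodule R N) := by
  have h : (J • ⊤ : Submodule R M).map f ≤ (J • ⊤ : Submodule R N) := by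
    rw [Submodule.map_smul'']
    exact Submodule.smul_mono le_rfl le_top
  exact h ⟨x, hx, rfl⟩

theorem ker_eval_zero : LinearMap.ker (AdicCompletion.eval I M 0) =
    (I ^ 0 • ⊤ : Submodule R (AdicCompletion I M)) := by
  have h0 : (I ^ 0 • ⊤ : Submodule R (AdicCompletion I M)) = ⊤ := by
    rw [pow_zero, Ideal.one_eq_top, Submodule.top_smul]
  rw [h0, eq_top_iff]
  intro x _
  rw [LinearMap.mem_ker, AdicCompletion.eval_apply]
  obtain ⟨y, hy⟩ := Submodule.Quotient.mk_surjective _ (x.val 0)
  rw [← hy, Submodule.Quotient.mk_eq_zero, pow_zero, Ideal.one_eq_top, Submodule.top_smul]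
  exact Submodule.mem_top

theorem ker_eval_le_of_isAdicComplete [IsAdicComplete I (AdicCompletion I M)] (n : ℕ) :
    LinearMap.ker (AdicCompletion.eval I M n) ≤
      (I ^ n • ⊤ : Submodule R (AdicCompletion I M)) := by
  intro x hx
  rw [LinearMap.mem_ker, AdicCompletion.eval_apply] at hx
  obtain ⟨s, rfl⟩ := AdicCompletion.mk_surjective I M x
  have hsn : s n ∈ (I ^ n • ⊤ : Submodule R M) := by
    rw [AdicCompletion.mk_apply_coe, Submodule.mkQ_apply, Submodule.Quotient.mk_eq_zero] at hx
    exact hx
  have hcauchy : ∀ {k l : ℕ}, k ≤ l → AdicCompletion.of I M (s k) ≡ AdicCompletion.of I M (s l)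
      [SMOD (I ^ k • ⊤ : Submodule R (AdicCompletion I M))] := by
    intro k l hkl
    rw [SModEq.sub_mem, ← map_sub]
    apply map_mem_smul_top
    have h := s.2 hkl
    rwa [SModEq.sub_mem] at h
  obtain ⟨L, hL⟩ := IsPrecomplete.prec (inferInstance : IsPrecomplete I (AdicCompletion I M))
    hcauchy
  have hLx : L = AdicCompletion.mk I M s := by
    apply AdicCompletion.ext
    intro k
    have h1 := hL k
    rw [SModEq.sub_mem] at h1
    have h2 := AdicCompletion.pow_smul_top_le_ker_eval (I := I) (M := M) k h1
    rw [LinearMap.mem_ker, map_sub, sub_eq_zero, AdicCompletion.eval_apply,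
      AdicCompletion.eval_apply] at h2
    rw [← h2]
    rfl
  rw [← hLx]
  have h3 : L = (L - AdicCompletion.of I M (s n)) + AdicCompletion.of I M (s n) := by abel
  rw [h3]
  refine add_mem ?_ (map_mem_smul_top M _ _ hsn)
  have h1 := (hL n).symm
  rwa [SModEq.sub_mem] at h1

theorem isAdicComplete_of_ker_eval
    (h : ∀ n : ℕ, LinearMap.ker (AdicCompletion.eval I M n) =
      (I ^ n • ⊤ : Submodule R (AdicCompletion I M))) :
    IsAdicComplete I (AdicCompletion I M) where
  prec' x hx := by
    let L : AdicCompletion I M := {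
      val i := (x i).val i
      property {m n} h' := by
        simp only [transitionMap_comp_eval_apply]
        specialize hx h'
        rwa [SModEq.sub_mem, ← h, LinearMap.mem_ker, _root_.map_sub,
          sub_eq_zero, eval_apply, eval_apply, eq_comm] at hx
    }
    use L; intro i
    rw [SModEq.sub_mem, ← h]
    simp [L]

theorem isAdicComplete_iff :
    IsAdicComplete I (AdicCompletion I M) ↔
      ∀ n : ℕ, 1 ≤ n → LinearMap.ker (AdicCompletion.eval I M n) =
        I ^ n • (⊤ : Submodule R (AdicCompletion I M)) := by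
  constructor
  · intro h n _
    exact le_antisymm (ker_eval_le_of_isAdicComplete I M n)
      (AdicCompletion.pow_smul_top_le_ker_eval (I := I) (M := M) n)
  · intro h
    apply isAdicComplete_of_ker_eval
    intro n
    rcases Nat.eq_zero_or_pos n with rfl | hn
    · exact ker_eval_zero I M
    · exact h n hn

end Groth.Agent.Lib.ComplCompleteH3
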