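import Mathlib
import Groth.Prelude.Def_W4c5adicflatcomplDec
import Groth.Agent.Lib.ComplComplete_helper3

set_option autoImplicit false
universe u v w

/-!
# Completion of `Z →₀ M`, coordinatewise (helper3)
-/

namespace Groth.Agent.Lib.ComplFreeMH3

open AdicCompletion W4c5adicflatcompl

variable {A : Type u} [CommRing A] (I : Ideal A) (Z : Type v) (M : Type w) [AddCommGroup M]
  [Module A M]

/-- The coordinate maps. -/
noncomputable def coord (z : Z) :
    AdicCompletion I (Z →₀ M) →ₗ[AdicCompletion I A] AdicCompletion I M :=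
  AdicCompletion.map I (Finsupp.lapply (M := M) (R := A) z)

theorem coord_mk_val (s : AdicCauchySequence I (Z →₀ M)) (z : Z) (n : ℕ) :
    (coord I Z M z (AdicCompletion.mk I _ s)).val n =
      Submodule.Quotient.mk (s n z) := rfl

theorem mem_smul_top_of_forall (J : Ideal A) (s : Z →₀ M)
    (h : ∀ z, s z ∈ (J • ⊤ : Submodule A M)) :
    s ∈ (J • ⊤ : Submodule A (Z →₀ M)) := by
  classical
  rw [← Finsupp.sum_single s]
  refine Submodule.sum_mem _ fun z _ => ?_
  exact Groth.Agent.Lib.ComplCompleteH3.map_mem_smul_top M (Finsupp.lsingle (R := A) z) J (h z)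

theorem finite_coord_ne (x : AdicCompletion I (Z →₀ M)) (n : ℕ) :
    {z | (coord I Z M z x).val n ≠ 0}.Finite := by
  obtain ⟨s, rfl⟩ := AdicCompletion.mk_surjective I _ x
  refine (s n).support.finite_toSet.subset ?_
  intro z hz
  simp only [Set.mem_setOf_eq, coord_mk_val] at hz
  simp only [Finset.mem_coe, Finsupp.mem_support_iff]
  intro h0
  apply hz
  rw [h0]
  rfl

theorem eq_zero_of_coord_eq_zero (x : AdicCompletion I (Z →₀ M))
    (h : ∀ z, coord I Z M z x = 0) : x = 0 := by
  obtain ⟨s, rfl⟩ := AdicCompletion.mk_surjective I _ x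
  apply AdicCompletion.ext
  intro n
  rw [AdicCompletion.mk_apply_coe, AdicCompletion.val_zero]
  simp only [Pi.zero_apply, Submodule.mkQ_apply, Submodule.Quotient.mk_eq_zero]
  apply mem_smul_top_of_forall
  intro z
  have h1 := congrArg (fun y => y.val n) (h z)
  simp only [coord_mk_val, AdicCompletion.val_zero, Pi.zero_apply,
    Submodule.Quotient.mk_eq_zero] at h1
  exact h1

theorem exists_of_finite (d : Z → AdicCompletion I M)
    (hd : ∀ n, {z | (d z).val n ≠ 0}.Finite) :
    ∃ x : AdicCompletion I (Z →₀ M), ∀ z, coord I Z M z x = d z := by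
  classical
  let lift : ℕ → Z → M := fun n z =>
    if (d z).val n = 0 then 0 else
      Function.surjInv (Submodule.Quotient.mk_surjective (I ^ n • ⊤ : Submodule A M))
        ((d z).val n)
  have hlift : ∀ n z, (Submodule.Quotient.mk (lift n z) : M ⧸ (I ^ n • ⊤ : Submodule A M)) =
      (d z).val n := by
    intro n z
    by_cases h : (d z).val n = 0
    · simp only [lift, if_pos h]
      rw [h]; rfl
    · simp only [lift, if_neg h]
      exact Function.surjInv_eq _ _
  let s' : ℕ → (Z →₀ M) := fun n => Finsupp.onFinset (hd n).toFinset (lift n) (by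
    intro z hz
    rw [Set.Finite.mem_toFinset]
    intro h0
    apply hz
    simp only [lift, if_pos h0])
  have hs' : ∀ n z, s' n z = lift n z := fun n z => rfl
  have hcauchy : ∀ n, s' n ≡ s' (n + 1) [SMOD (I ^ n • ⊤ : Submodule A (Z →₀ M))] := by
    intro n
    rw [SModEq.sub_mem]
    apply mem_smul_top_of_forall
    intro z
    rw [Finsupp.sub_apply, hs', hs']
    have h1 : (Submodule.Quotient.mk (lift (n + 1) z) : M ⧸ (I ^ n • ⊤ : Submodule A M)) =
        (d z).val n := by
      have h2 := (d z).2 (Nat.le_succ n)
      rw [← hlift (n + 1) z] at h2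
      exact h2
    have h3 : (Submodule.Quotient.mk (lift n z - lift (n + 1) z) :
        M ⧸ (I ^ n • ⊤ : Submodule A M)) = 0 := by
      rw [Submodule.Quotient.mk_sub, h1, hlift, sub_self]
    rw [Submodule.Quotient.mk_eq_zero] at h3
    exact h3
  refine ⟨AdicCompletion.mk I _ (AdicCauchySequence.mk I _ s' hcauchy), fun z => ?_⟩
  apply AdicCompletion.ext
  intro n
  rw [coord_mk_val]
  exact hlift n z

theorem main [IsAdicComplete I (AdicCompletion I M)] :
    Function.Injective
        (LinearMap.pi fun z : Z =>
          (AdicCompletion.map I (Finsupp.lapply (M := M) (R := A) z)).restrictScalars A) ∧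
      LinearMap.range
        (LinearMap.pi fun z : Z =>
          (AdicCompletion.map I (Finsupp.lapply (M := M) (R := A) z)).restrictScalars A) =
        decaying I Z (AdicCompletion I M) := by
  have hmem : ∀ (n : ℕ) (y : AdicCompletion I M),
      y ∈ (I ^ n • ⊤ : Submodule A (AdicCompletion I M)) ↔ y.val n = 0 := by
    intro n y
    constructor
    · intro hy
      have := AdicCompletion.pow_smul_top_le_ker_eval (I := I) (M := M) n hy
      rwa [LinearMap.mem_ker, AdicCompletion.eval_apply] at this
    · intro hy
      apply Groth.Agent.Lib.ComplCompleteH3.ker_eval_le_of_isAdicComplete I M n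
      rwa [LinearMap.mem_ker, AdicCompletion.eval_apply]
  constructor
  · rw [injective_iff_map_eq_zero]
    intro x hx
    apply eq_zero_of_coord_eq_zero
    intro z
    exact congrFun hx z
  · apply le_antisymm
    · rintro _ ⟨x, rfl⟩
      intro n
      refine (finite_coord_ne I Z M x n).subset ?_
      intro z hz
      simp only [Set.mem_setOf_eq] at hz ⊢
      intro h0
      apply hz
      exact (hmem n _).2 h0
    · intro d hd
      have hd' : ∀ n, {z | (d z).val n ≠ 0}.Finite := by
        intro n
        refine (hd n).subset ?_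
        intro z hz
        simp only [Set.mem_setOf_eq] at hz ⊢
        intro h0
        exact hz ((hmem n _).1 h0)
      obtain ⟨x, hx⟩ := exists_of_finite I Z M d hd'
      exact ⟨x, funext hx⟩

end Groth.Agent.Lib.ComplFreeMH3
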