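import Mathlib
import Groth.Prelude.Def_W4c5adicflatcomplDec

/-!
Helper library (helper3): modules of adically decaying functions.
-/

set_option autoImplicit false

namespace Groth.Agent.Lib.Decaying_helper3

open W4c5adicflatcompl

section basic

variable {A : Type*} [CommRing A] {M N : Type*} [AddCommGroup M] [Module A M]
  [AddCommGroup N] [Module A N]

theorem map_mem_smul_top (f : M →ₗ[A] N) (J : Ideal A) {x : M}
    (hx : x ∈ (J • ⊤ : Submodule A M)) : f x ∈ (J • ⊤ : Submodule A N) := by
  have h1 : f x ∈ Submodule.map f (J • ⊤) := Submodule.mem_map_of_mem hx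
  rw [Submodule.map_smul''] at h1
  exact Submodule.smul_mono le_rfl le_top h1

theorem exists_mem_smul_top_of_surjective (f : M →ₗ[A] N) (hf : Function.Surjective f)
    (J : Ideal A) {y : N} (hy : y ∈ (J • ⊤ : Submodule A N)) :
    ∃ x ∈ (J • ⊤ : Submodule A M), f x = y := by
  have h : (J • ⊤ : Submodule A N) = Submodule.map f (J • ⊤) := by
    rw [Submodule.map_smul'', Submodule.map_top, LinearMap.range_eq_top.mpr hf]
  rw [h] at hy
  exact hy

theorem smul_mem_smul_top_of_mem (J : Ideal A) {a : A} (ha : a ∈ (J • ⊤ : Submodule A A))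
    (m : M) : a • m ∈ (J • ⊤ : Submodule A M) :=
  map_mem_smul_top (LinearMap.toSpanSingleton A M m) J ha

theorem mem_smul_top_self_iff (J : Ideal A) (a : A) :
    a ∈ (J • ⊤ : Submodule A A) ↔ a ∈ J := by
  rw [smul_eq_mul, Ideal.mul_top]

theorem pow_smul_top_anti (I : Ideal A) {m n : ℕ} (h : m ≤ n) :
    (I ^ n • ⊤ : Submodule A M) ≤ I ^ m • ⊤ :=
  Submodule.smul_mono_left (Ideal.pow_le_pow_right h)

/-- An abstract "filtered lifting" principle. -/
theorem exists_filtered_lift {X Y : Type*} (π : X → Y) (P : ℕ → Y → Prop) (Q : ℕ → X → Prop)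
    (hQ : ∀ k l x, k ≤ l → Q l x → Q k x) (hP : ∀ k l y, k ≤ l → P l y → P k y)
    (hlift : ∀ k y, P k y → ∃ x, π x = y ∧ Q k x)
    (hzero : ∀ y, (∀ k, P k y) → ∃ x, π x = y ∧ ∀ k, Q k x)
    (y : Y) (h0 : P 0 y) : ∃ x, π x = y ∧ ∀ k, P k y → Q k x := by
  classical
  by_cases h : ∀ k, P k y
  · obtain ⟨x, hx, hx'⟩ := hzero y h
    exact ⟨x, hx, fun k _ => hx' k⟩
  · push Not at h
    have hk0 : Nat.find h ≠ 0 := by
      intro h'
      have := Nat.find_spec h
      rw [h'] at this
      exact this h0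
    have hk1 : P (Nat.find h - 1) y := by
      have := Nat.find_min h (m := Nat.find h - 1) (by omega)
      exact not_not.mp this
    obtain ⟨x, hx, hx'⟩ := hlift _ y hk1
    refine ⟨x, hx, fun k hk => ?_⟩
    have hlt : k < Nat.find h := by
      by_contra hge
      push Not at hge
      exact Nat.find_spec h (hP _ _ y hge hk)
    exact hQ k _ x (by omega) hx'

end basic

section dec

variable {A : Type*} [CommRing A] (I : Ideal A) (Z : Type*) {M N : Type*} [AddCommGroup M]
  [Module A M] [AddCommGroup N] [Module A N]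

/-- Evaluation of decaying functions at a point. -/
def ev (M : Type*) [AddCommGroup M] [Module A M] (z : Z) : decaying I Z M →ₗ[A] M :=
  (LinearMap.proj z).comp (decaying I Z M).subtype

@[simp] theorem ev_apply (z : Z) (g : decaying I Z M) : ev I Z M z g = (g : Z → M) z := rfl

variable {I Z}

theorem apply_mem_of_mem_smul_top (J : Ideal A) {g : decaying I Z M}
    (hg : g ∈ (J • ⊤ : Submodule A (decaying I Z M))) (z : Z) :
    (g : Z → M) z ∈ (J • ⊤ : Submodule A M) :=
  map_mem_smul_top (ev I Z M z) J hg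

theorem comp_mem_decaying (φ : M →ₗ[A] N) {f : Z → M} (hf : f ∈ decaying I Z M) :
    (fun z => φ (f z)) ∈ decaying I Z N := by
  intro n
  refine (hf n).subset ?_
  intro z hz h
  exact hz (map_mem_smul_top φ _ h)

variable (I Z) in
/-- Post-composition with a linear map, on decaying functions. -/
def mapDec (φ : M →ₗ[A] N) : decaying I Z M →ₗ[A] decaying I Z N where
  toFun g := ⟨fun z => φ ((g : Z → M) z), comp_mem_decaying φ g.2⟩
  map_add' g h := by
    apply Subtype.ext; funext z; simp
  map_smul' a g := by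
    apply Subtype.ext; funext z; simp

@[simp] theorem mapDec_apply (φ : M →ₗ[A] N) (g : decaying I Z M) (z : Z) :
    (mapDec I Z φ g : Z → N) z = φ ((g : Z → M) z) := rfl

theorem isHausdorff_decaying [IsHausdorff I M] : IsHausdorff I (decaying I Z M) := by
  constructor
  intro x hx
  apply Subtype.ext
  funext z
  apply IsHausdorff.haus' (I := I) ((x : Z → M) z)
  intro n
  rw [SModEq.zero]
  exact apply_mem_of_mem_smul_top _ (SModEq.zero.mp (hx n)) z

theorem mem_decaying_of_support_finite {f : Z → M} (hf : (Function.support f).Finite) :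
    f ∈ decaying I Z M := by
  intro n
  refine hf.subset ?_
  intro z hz
  simp only [Function.mem_support]
  intro h0
  apply hz
  rw [h0]
  exact Submodule.zero_mem _

end dec

section noeth

variable {A : Type*} [CommRing A] {I : Ideal A} {Z : Type*} {M : Type*} [AddCommGroup M]
  [Module A M]

theorem coe_mem_smul_iff (J : Ideal A) (N : Submodule A M) (x : N) :
    x ∈ (J • ⊤ : Submodule A N) ↔ (x : M) ∈ J • N := by
  have h : (J • N : Submodule A M) = Submodule.map N.subtype (J • ⊤) := by
    rw [Submodule.map_smul'', Submodule.map_subtype_top]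
  rw [h]
  constructor
  · intro hx
    exact ⟨x, hx, rfl⟩
  · rintro ⟨y, hy, hyx⟩
    have : y = x := Subtype.ext hyx
    rwa [← this]

theorem mem_decaying_submodule_iff [IsNoetherianRing A] [Module.Finite A M]
    (N : Submodule A M) (f : Z → N) :
    f ∈ decaying I Z N ↔ (fun z => (f z : M)) ∈ decaying I Z M := by
  constructor
  · intro hf
    exact comp_mem_decaying N.subtype hf
  · intro hf n
    obtain ⟨k, hk⟩ := Ideal.exists_pow_inf_eq_pow_smul I N
    refine (hf (n + k)).subset ?_
    intro z hz h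
    apply hz
    rw [coe_mem_smul_iff]
    have h1 : (f z : M) ∈ (I ^ (n + k) • ⊤ ⊓ N : Submodule A M) := ⟨h, (f z).2⟩
    rw [hk (n + k) (by omega)] at h1
    have h2 : n + k - k = n := by omega
    rw [h2] at h1
    exact Submodule.smul_mono le_rfl inf_le_right h1

theorem exists_decaying_lift [IsNoetherianRing A] [IsAdicComplete I A] {M'' : Type*}
    [AddCommGroup M''] [Module A M''] [Module.Finite A M] (φ : M →ₗ[A] M'')
    (hφ : Function.Surjective φ) (g : Z → M'') (hg : g ∈ decaying I Z M'') :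
    ∃ f : Z → M, f ∈ decaying I Z M ∧ ∀ z, φ (f z) = g z := by
  have : Module.Finite A M'' := Module.Finite.of_surjective φ hφ
  have hkrull : (⨅ i : ℕ, I ^ i • ⊤ : Submodule A M'') = ⊥ :=
    Ideal.iInf_pow_smul_eq_bot_of_le_jacobson I (IsAdicComplete.le_jacobson_bot I)
  have key : ∀ z, ∃ x : M, φ x = g z ∧
      ∀ k, g z ∈ (I ^ k • ⊤ : Submodule A M'') → x ∈ (I ^ k • ⊤ : Submodule A M) := by
    intro z
    refine exists_filtered_lift (fun x : M => φ x)
      (fun k y => y ∈ (I ^ k • ⊤ : Submodule A M''))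
      (fun k x => x ∈ (I ^ k • ⊤ : Submodule A M)) ?_ ?_ ?_ ?_ (g z) ?_
    · intro k l x hkl hx
      exact pow_smul_top_anti I hkl hx
    · intro k l y hkl hy
      exact pow_smul_top_anti I hkl hy
    · intro k y hy
      obtain ⟨x, hx, hxy⟩ := exists_mem_smul_top_of_surjective φ hφ _ hy
      exact ⟨x, hxy, hx⟩
    · intro y hy
      have : y ∈ (⨅ i : ℕ, I ^ i • ⊤ : Submodule A M'') := by
        rw [Submodule.mem_iInf]
        exact hy
      rw [hkrull, Submodule.mem_bot] at this
      exact ⟨0, by simp [this], fun k => Submodule.zero_mem _⟩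
    · simp
  choose f hf1 hf2 using key
  refine ⟨f, ?_, hf1⟩
  intro n
  refine (hg n).subset ?_
  intro z hz h
  exact hz (hf2 z n h)

end noeth


section smul

variable {A : Type*} [CommRing A] {I : Ideal A} {Z : Type*} {M : Type*} [AddCommGroup M]
  [Module A M]

theorem exists_sum_smul_of_mem_span_smul {r : ℕ} (a : Fin r → A) (N : Submodule A M) {x : M}
    (hx : x ∈ (Ideal.span (Set.range a)) • N) :
    ∃ h : Fin r → M, (∀ i, h i ∈ N) ∧ x = ∑ i, a i • h i := by
  refine Submodule.smul_induction_on hx ?_ ?_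
  · intro c hc n hn
    obtain ⟨c', hc'⟩ := (Ideal.mem_span_range_iff_exists_fun).mp hc
    refine ⟨fun i => c' i • n, fun i => N.smul_mem _ hn, ?_⟩
    rw [← hc', Finset.sum_smul]
    refine Finset.sum_congr rfl fun i _ => ?_
    rw [smul_smul, mul_comm]
  · rintro x y ⟨h, hh, rfl⟩ ⟨h', hh', rfl⟩
    refine ⟨fun i => h i + h' i, fun i => N.add_mem (hh i) (hh' i), ?_⟩
    rw [← Finset.sum_add_distrib]
    refine Finset.sum_congr rfl fun i _ => ?_
    rw [smul_add]

/-- A decaying function with all values in `I ^ n • M` lies in `I ^ n` times the decaying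
functions, when `M` is separated and `I ^ n` is finitely generated. -/
theorem mem_smul_top_of_forall_mem [IsHausdorff I M] (n : ℕ) (hfg : (I ^ n).FG)
    (g : decaying I Z M) (hg : ∀ z, (g : Z → M) z ∈ (I ^ n • ⊤ : Submodule A M)) :
    g ∈ (I ^ n • ⊤ : Submodule A (decaying I Z M)) := by
  obtain ⟨r, a, ha⟩ := Submodule.fg_iff_exists_fin_generating_family.mp hfg
  have ha' : Ideal.span (Set.range a) = I ^ n := ha
  have key : ∀ z, ∃ h : Fin r → M, (∑ i, a i • h i = (g : Z → M) z) ∧
      ∀ k, (g : Z → M) z ∈ (I ^ (n + k) • ⊤ : Submodule A M) →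
        ∀ i, h i ∈ (I ^ k • ⊤ : Submodule A M) := by
    intro z
    refine exists_filtered_lift (fun h : Fin r → M => ∑ i, a i • h i)
      (fun k y => y ∈ (I ^ (n + k) • ⊤ : Submodule A M))
      (fun k h => ∀ i, h i ∈ (I ^ k • ⊤ : Submodule A M)) ?_ ?_ ?_ ?_ ((g : Z → M) z) ?_
    · intro k l h hkl hh i
      exact pow_smul_top_anti I hkl (hh i)
    · intro k l y hkl hy
      exact pow_smul_top_anti I (by omega) hy
    · intro k y hy
      rw [pow_add, Submodule.mul_smul, ← ha'] at hy
      obtain ⟨h, hh, hy'⟩ := exists_sum_smul_of_mem_span_smul a _ hy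
      exact ⟨h, hy'.symm, hh⟩
    · intro y hy
      have hy0 : y = 0 := by
        apply IsHausdorff.haus' (I := I) y
        intro k
        rw [SModEq.zero]
        exact pow_smul_top_anti I (by omega) (hy k)
      exact ⟨fun _ => 0, by simp [hy0], fun k i => Submodule.zero_mem _⟩
    · simpa using hg z
  choose h hh1 hh2 using key
  have hdec : ∀ i, (fun z => h z i) ∈ decaying I Z M := by
    intro i k
    refine (g.2 (n + k)).subset ?_
    intro z hz hgz
    exact hz (hh2 z k hgz i)
  have hgsum : g = ∑ i, a i • (⟨fun z => h z i, hdec i⟩ : decaying I Z M) := by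
    apply Subtype.ext
    funext z
    rw [← hh1 z]
    have : ∀ (s : Finset (Fin r)),
        ((∑ i ∈ s, a i • (⟨fun z => h z i, hdec i⟩ : decaying I Z M) : decaying I Z M) : Z → M) z
          = ∑ i ∈ s, a i • h z i := by
      intro s
      induction s using Finset.induction_on with
      | empty => simp
      | insert i s hi ih =>
        rw [Finset.sum_insert hi, Finset.sum_insert hi, Submodule.coe_add, Pi.add_apply, ih]
        rfl
    rw [this]
  rw [hgsum]
  refine Submodule.sum_mem _ fun i _ => ?_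
  refine Submodule.smul_mem_smul ?_ Submodule.mem_top
  rw [← ha']
  exact Ideal.subset_span ⟨i, rfl⟩

theorem isPrecomplete_decaying [IsAdicComplete I M] (hI : I.FG) :
    IsPrecomplete I (decaying I Z M) := by
  constructor
  intro f hf
  have hcauchy : ∀ z, ∃ L : M, ∀ n, (f n : Z → M) z ≡ L [SMOD (I ^ n • ⊤ : Submodule A M)] := by
    intro z
    apply IsPrecomplete.prec' (I := I) (fun n => (f n : Z → M) z)
    intro m n hmn
    have h1 := hf hmn
    rw [SModEq.sub_mem] at h1 ⊢
    exact apply_mem_of_mem_smul_top _ h1 z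
  choose L hL using hcauchy
  have hLdec : L ∈ decaying I Z M := by
    intro n
    refine ((f n).2 n).subset ?_
    intro z hz hfz
    apply hz
    have h1 := hL z n
    rw [SModEq.sub_mem] at h1
    have : L z = (f n : Z → M) z - ((f n : Z → M) z - L z) := by abel
    rw [this]
    exact Submodule.sub_mem _ hfz h1
  refine ⟨⟨L, hLdec⟩, fun n => ?_⟩
  rw [SModEq.sub_mem]
  apply mem_smul_top_of_forall_mem n (Ideal.FG.pow hI)
  intro z
  have h1 := hL z n
  rw [SModEq.sub_mem] at h1
  exact h1

theorem isAdicComplete_decaying [IsAdicComplete I M] (hI : I.FG) :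
    IsAdicComplete I (decaying I Z M) :=
  { isHausdorff_decaying, isPrecomplete_decaying hI with }

end smul

section dsum

variable {A : Type*} [CommRing A] (I : Ideal A) {Z : Type*} {M N : Type*} [AddCommGroup M]
  [Module A M] [AddCommGroup N] [Module A N]

/-- `x` is the `I`-adically convergent (unordered) sum of the family `u`. -/
def HasDSum (u : Z → M) (x : M) : Prop :=
  ∀ n : ℕ, ∃ S : Finset Z, ∀ T : Finset Z, S ⊆ T →
    x - ∑ z ∈ T, u z ∈ (I ^ n • ⊤ : Submodule A M)

variable {I}

theorem HasDSum.add {u v : Z → M} {x y : M} (hu : HasDSum I u x) (hv : HasDSum I v y) :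
    HasDSum I (u + v) (x + y) := by
  classical
  intro n
  obtain ⟨S, hS⟩ := hu n
  obtain ⟨S', hS'⟩ := hv n
  refine ⟨S ∪ S', fun T hT => ?_⟩
  have h1 := hS T (Finset.union_subset_left hT)
  have h2 := hS' T (Finset.union_subset_right hT)
  have : x + y - ∑ z ∈ T, (u + v) z = (x - ∑ z ∈ T, u z) + (y - ∑ z ∈ T, v z) := by
    simp only [Pi.add_apply, Finset.sum_add_distrib]
    abel
  rw [this]
  exact Submodule.add_mem _ h1 h2

theorem HasDSum.smul {u : Z → M} {x : M} (a : A) (hu : HasDSum I u x) :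
    HasDSum I (a • u) (a • x) := by
  intro n
  obtain ⟨S, hS⟩ := hu n
  refine ⟨S, fun T hT => ?_⟩
  have : a • x - ∑ z ∈ T, (a • u) z = a • (x - ∑ z ∈ T, u z) := by
    simp only [Pi.smul_apply, smul_sub, Finset.smul_sum]
  rw [this]
  exact Submodule.smul_mem _ a (hS T hT)

theorem HasDSum.map (φ : M →ₗ[A] N) {u : Z → M} {x : M} (hu : HasDSum I u x) :
    HasDSum I (fun z => φ (u z)) (φ x) := by
  intro n
  obtain ⟨S, hS⟩ := hu n
  refine ⟨S, fun T hT => ?_⟩
  have : φ x - ∑ z ∈ T, φ (u z) = φ (x - ∑ z ∈ T, u z) := by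
    rw [map_sub, map_sum]
  rw [this]
  exact map_mem_smul_top φ _ (hS T hT)

theorem HasDSum.unique [IsHausdorff I M] {u : Z → M} {x y : M} (hx : HasDSum I u x)
    (hy : HasDSum I u y) : x = y := by
  classical
  rw [← sub_eq_zero]
  apply IsHausdorff.haus' (I := I) (x - y)
  intro n
  rw [SModEq.zero]
  obtain ⟨S, hS⟩ := hx n
  obtain ⟨S', hS'⟩ := hy n
  have h1 := hS (S ∪ S') Finset.subset_union_left
  have h2 := hS' (S ∪ S') Finset.subset_union_right
  have : x - y = (x - ∑ z ∈ S ∪ S', u z) - (y - ∑ z ∈ S ∪ S', u z) := by abel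
  rw [this]
  exact Submodule.sub_mem _ h1 h2

theorem HasDSum.tail {u : Z → M} {x : M} (hx : HasDSum I u x) (n : ℕ) :
    ∃ S : Finset Z, (∀ z, z ∉ S → u z ∈ (I ^ n • ⊤ : Submodule A M)) ∧
      x - ∑ z ∈ S, u z ∈ (I ^ n • ⊤ : Submodule A M) := by
  classical
  obtain ⟨S, hS⟩ := hx n
  refine ⟨S, fun z hz => ?_, hS S subset_rfl⟩
  have h1 := hS S subset_rfl
  have h2 := hS (insert z S) (Finset.subset_insert z S)
  rw [Finset.sum_insert hz] at h2
  have : u z = (x - ∑ z ∈ S, u z) - (x - (u z + ∑ z ∈ S, u z)) := by abel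
  rw [this]
  exact Submodule.sub_mem _ h1 h2

theorem HasDSum.of_tail {u : Z → M} {x : M}
    (hx : ∀ n : ℕ, ∃ S : Finset Z, (∀ z, z ∉ S → u z ∈ (I ^ n • ⊤ : Submodule A M)) ∧
      x - ∑ z ∈ S, u z ∈ (I ^ n • ⊤ : Submodule A M)) : HasDSum I u x := by
  classical
  intro n
  obtain ⟨S, hS1, hS2⟩ := hx n
  refine ⟨S, fun T hT => ?_⟩
  have : x - ∑ z ∈ T, u z = (x - ∑ z ∈ S, u z) - ∑ z ∈ T \ S, u z := by
    rw [← Finset.sum_sdiff hT]
    abel
  rw [this]
  refine Submodule.sub_mem _ hS2 (Submodule.sum_mem _ fun z hz => hS1 z ?_)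
  exact (Finset.mem_sdiff.mp hz).2

theorem HasDSum.mem_of_forall_mem {u : Z → M} {x : M} (hx : HasDSum I u x) (n : ℕ)
    (hu : ∀ z, u z ∈ (I ^ n • ⊤ : Submodule A M)) : x ∈ (I ^ n • ⊤ : Submodule A M) := by
  obtain ⟨S, hS⟩ := hx n
  have h1 := hS S subset_rfl
  have : x = (x - ∑ z ∈ S, u z) + ∑ z ∈ S, u z := by abel
  rw [this]
  exact Submodule.add_mem _ h1 (Submodule.sum_mem _ fun z _ => hu z)

theorem hasDSum_of_support_subset {u : Z → M} (S : Finset Z)
    (hu : ∀ z, z ∉ S → u z = 0) : HasDSum I u (∑ z ∈ S, u z) := by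
  classical
  intro n
  refine ⟨S, fun T hT => ?_⟩
  have : ∑ z ∈ S, u z - ∑ z ∈ T, u z = 0 := by
    rw [sub_eq_zero]
    exact Finset.sum_subset hT fun z _ hz => hu z hz
  rw [this]
  exact Submodule.zero_mem _

theorem hasDSum_pi_single [DecidableEq Z] (z : Z) (m : M) :
    HasDSum I (Pi.single z m : Z → M) m := by
  have h := hasDSum_of_support_subset (I := I) (u := (Pi.single z m : Z → M)) {z}
    (fun z' hz' => by
      rw [Finset.mem_singleton] at hz'
      exact Pi.single_eq_of_ne hz' _)
  simpa using h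

theorem exists_hasDSum [IsPrecomplete I M] {u : Z → M} (hu : u ∈ decaying I Z M) :
    ∃ x, HasDSum I u x := by
  classical
  let S : ℕ → Finset Z := fun n => (hu n).toFinset
  have hS : ∀ n z, z ∉ S n → u z ∈ (I ^ n • ⊤ : Submodule A M) := by
    intro n z hz
    by_contra h
    exact hz ((hu n).mem_toFinset.mpr h)
  have hmono : ∀ {m n}, m ≤ n → S m ⊆ S n := by
    intro m n hmn z hz
    rw [Set.Finite.mem_toFinset] at hz ⊢
    exact fun h => hz (pow_smul_top_anti I hmn h)
  have hsub : ∀ n (T : Finset Z), S n ⊆ T →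
      ∑ z ∈ T, u z - ∑ z ∈ S n, u z ∈ (I ^ n • ⊤ : Submodule A M) := by
    intro n T hT
    rw [← Finset.sum_sdiff hT, add_sub_cancel_right]
    exact Submodule.sum_mem _ fun z hz => hS n z (Finset.mem_sdiff.mp hz).2
  obtain ⟨L, hL⟩ := IsPrecomplete.prec' (I := I) (fun n => ∑ z ∈ S n, u z) (by
    intro m n hmn
    rw [SModEq.sub_mem]
    have := hsub m (S n) (hmono hmn)
    rw [← neg_sub]
    exact Submodule.neg_mem _ this)
  refine ⟨L, fun n => ⟨S n, fun T hT => ?_⟩⟩
  have h1 := hL n
  rw [SModEq.sub_mem] at h1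
  have : L - ∑ z ∈ T, u z = -(∑ z ∈ S n, u z - L) - (∑ z ∈ T, u z - ∑ z ∈ S n, u z) := by abel
  rw [this]
  exact Submodule.sub_mem _ (Submodule.neg_mem _ h1) (hsub n T hT)

variable (I Z M) in
/-- The `I`-adically convergent sum of a decaying family in a complete module, as a linear
map. -/
noncomputable def dsum [IsAdicComplete I M] : decaying I Z M →ₗ[A] M where
  toFun g := (exists_hasDSum (I := I) g.2).choose
  map_add' g h := by
    have h1 := (exists_hasDSum (I := I) g.2).choose_spec
    have h2 := (exists_hasDSum (I := I) h.2).choose_spec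
    have h3 := (exists_hasDSum (I := I) (g + h).2).choose_spec
    exact HasDSum.unique h3 (h1.add h2)
  map_smul' a g := by
    have h1 := (exists_hasDSum (I := I) g.2).choose_spec
    have h3 := (exists_hasDSum (I := I) (a • g).2).choose_spec
    exact HasDSum.unique h3 (h1.smul a)

theorem hasDSum_dsum [IsAdicComplete I M] (g : decaying I Z M) :
    HasDSum I (g : Z → M) (dsum I Z M g) :=
  (exists_hasDSum (I := I) g.2).choose_spec

theorem dsum_eq_of_hasDSum [IsAdicComplete I M] (g : decaying I Z M) {x : M}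
    (hx : HasDSum I (g : Z → M) x) : dsum I Z M g = x :=
  HasDSum.unique (hasDSum_dsum g) hx

theorem dsum_single [IsAdicComplete I M] [DecidableEq Z] (z : Z) (m : M) :
    dsum I Z M (single I z m) = m :=
  dsum_eq_of_hasDSum _ (hasDSum_pi_single z m)

/-- Pointwise scalar multiplication by a fixed family, on decaying functions. -/
def smulFamily (I : Ideal A) (f : Z → M) : decaying I Z A →ₗ[A] decaying I Z M where
  toFun g := ⟨fun z => (g : Z → A) z • f z, fun n => (g.2 n).subset fun z hz h =>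
    hz (smul_mem_smul_top_of_mem _ h (f z))⟩
  map_add' g h := by
    apply Subtype.ext; funext z; simp [add_smul]
  map_smul' a g := by
    apply Subtype.ext; funext z; simp [mul_smul]

@[simp] theorem smulFamily_apply (f : Z → M) (g : decaying I Z A) (z : Z) :
    (smulFamily I f g : Z → M) z = (g : Z → A) z • f z := rfl

end dsum

end Groth.Agent.Lib.Decaying_helper3
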