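import Mathlib
import Groth.Prelude.Def_W4c5adicflatcomplDec
import Groth.Agent.Lib.Decaying_helper3

/-!
Helper library (helper3): universal property of decaying functions into the completion,
adically projective modules.
-/

set_option autoImplicit false

namespace Groth.Agent.Lib.Decaying2_helper3

open W4c5adicflatcompl Groth.Agent.Lib.Decaying_helper3

section general

variable {A : Type*} [CommRing A] (I : Ideal A) {Z : Type*} {M N P : Type*} [AddCommGroup M]
  [Module A M] [AddCommGroup N] [Module A N] [AddCommGroup P] [Module A P]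

/-- `single` as a linear map. -/
def singleL [DecidableEq Z] (z : Z) : M →ₗ[A] decaying I Z M where
  toFun m := single I z m
  map_add' m m' := by
    apply Subtype.ext
    simp [Pi.single_add]
  map_smul' a m := by
    apply Subtype.ext
    simp [Pi.single_smul]

@[simp] theorem singleL_apply [DecidableEq Z] (z : Z) (m : M) :
    singleL I z m = single I z m := rfl

/-- Apply a family of linear maps pointwise to a decaying function. -/
def mapFamily (L : Z → (P →ₗ[A] N)) : decaying I Z P →ₗ[A] decaying I Z N where
  toFun g := ⟨fun z => L z ((g : Z → P) z), fun n => (g.2 n).subset fun z hz h =>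
    hz (map_mem_smul_top (L z) _ h)⟩
  map_add' g h := by
    apply Subtype.ext; funext z; simp
  map_smul' a g := by
    apply Subtype.ext; funext z; simp

@[simp] theorem mapFamily_apply (L : Z → (P →ₗ[A] N)) (g : decaying I Z P) (z : Z) :
    (mapFamily I L g : Z → N) z = L z ((g : Z → P) z) := rfl

theorem mapFamily_single [DecidableEq Z] (L : Z → (P →ₗ[A] N)) (z : Z) (p : P) :
    mapFamily I L (single I z p) = single I z (L z p) := by
  apply Subtype.ext
  funext z'
  simp only [mapFamily_apply, coe_single]
  by_cases h : z' = z
  · subst h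
    simp
  · rw [Pi.single_eq_of_ne h, Pi.single_eq_of_ne h, map_zero]

variable {I}

theorem coe_sum_apply {ι : Type*} (s : Finset ι) (F : ι → decaying I Z M) (z : Z) :
    ((∑ i ∈ s, F i : decaying I Z M) : Z → M) z = ∑ i ∈ s, (F i : Z → M) z := by
  rw [Submodule.coe_sum, Finset.sum_apply]

/-- A decaying function is, modulo `I ^ n` times the decaying functions, a finite sum of
`single`s. -/
theorem sub_sum_single_mem [DecidableEq Z] [IsHausdorff I M] (hI : I.FG) (g : decaying I Z M)
    (n : ℕ) : ∃ S : Finset Z,
      g - ∑ z ∈ S, single I z ((g : Z → M) z) ∈ (I ^ n • ⊤ : Submodule A (decaying I Z M)) := by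
  refine ⟨(g.2 n).toFinset, ?_⟩
  apply mem_smul_top_of_forall_mem n (Ideal.FG.pow hI)
  intro z
  rw [Submodule.coe_sub, Pi.sub_apply, coe_sum_apply]
  simp only [coe_single]
  rw [Finset.sum_pi_single]
  split_ifs with h
  · rw [sub_self]
    exact Submodule.zero_mem _
  · rw [sub_zero]
    by_contra h'
    exact h ((g.2 n).mem_toFinset.mpr h')

/-- Linear maps out of decaying functions into a separated module are determined by their
values on `single`s. -/
theorem ext_single [DecidableEq Z] [IsHausdorff I M] [IsHausdorff I N] (hI : I.FG)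
    (φ φ' : decaying I Z M →ₗ[A] N) (h : ∀ z m, φ (single I z m) = φ' (single I z m)) :
    φ = φ' := by
  apply LinearMap.ext
  intro g
  rw [← sub_eq_zero]
  apply IsHausdorff.haus' (I := I)
  intro n
  rw [SModEq.zero]
  obtain ⟨S, hS⟩ := sub_sum_single_mem hI g n
  have h1 := map_mem_smul_top (φ - φ') _ hS
  have h2 : (φ - φ') (g - ∑ z ∈ S, single I z ((g : Z → M) z)) = φ g - φ' g := by
    rw [map_sub, map_sum]
    have : ∑ z ∈ S, (φ - φ') (single I z ((g : Z → M) z)) = 0 := by
      refine Finset.sum_eq_zero fun z _ => ?_
      rw [LinearMap.sub_apply, h, sub_self]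
    rw [this, sub_zero, LinearMap.sub_apply]
  rw [h2] at h1
  exact h1

theorem isAdicComplete_of_retract [IsAdicComplete I M] (i : P →ₗ[A] M) (r : M →ₗ[A] P)
    (h : r ∘ₗ i = LinearMap.id) : IsAdicComplete I P := by
  have hri : ∀ p, r (i p) = p := fun p => by
    have := LinearMap.congr_fun h p
    simpa using this
  have hH : IsHausdorff I P := by
    constructor
    intro x hx
    have : i x = 0 := by
      apply IsHausdorff.haus' (I := I)
      intro n
      rw [SModEq.zero]
      exact map_mem_smul_top i _ (SModEq.zero.mp (hx n))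
    rw [← hri x, this, map_zero]
  have hP : IsPrecomplete I P := by
    constructor
    intro f hf
    obtain ⟨L, hL⟩ := IsPrecomplete.prec' (I := I) (fun n => i (f n)) (by
      intro m n hmn
      have := hf hmn
      rw [SModEq.sub_mem] at this ⊢
      rw [← map_sub]
      exact map_mem_smul_top i _ this)
    refine ⟨r L, fun n => ?_⟩
    have := hL n
    rw [SModEq.sub_mem] at this ⊢
    have h2 := map_mem_smul_top r _ this
    rw [map_sub, hri] at h2
    exact h2
  exact { hH, hP with }

end general

section completion

universe u v w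

variable {A : Type u} [CommRing A] (I : Ideal A)

theorem exists_sub_of_mem (hI : I.FG) (M : Type*) [AddCommGroup M] [Module A M]
    (x : AdicCompletion I M) (n : ℕ) :
    ∃ y : M, x - AdicCompletion.of I M y ∈ (I ^ n • ⊤ : Submodule A (AdicCompletion I M)) := by
  obtain ⟨y, hy⟩ := Submodule.Quotient.mk_surjective _ (x.val n)
  refine ⟨y, ?_⟩
  rw [AdicCompletion.pow_smul_top_eq_ker_eval hI, LinearMap.mem_ker, map_sub,
    AdicCompletion.eval_apply, AdicCompletion.eval_of, sub_eq_zero, ← hy]
  rfl

/-- Linear maps out of decaying functions `Z → Â` into a separated module are determined by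
their values on the `single z 1`. -/
theorem ext_single_one {Z : Type v} [DecidableEq Z] {N : Type w} [AddCommGroup N] [Module A N]
    [IsHausdorff I N] (hI : I.FG)
    (φ φ' : decaying I Z (AdicCompletion I A) →ₗ[A] N)
    (h : ∀ z, φ (single I z (1 : AdicCompletion I A)) = φ' (single I z 1)) : φ = φ' := by
  apply ext_single hI
  intro z a
  rw [← sub_eq_zero]
  apply IsHausdorff.haus' (I := I)
  intro n
  rw [SModEq.zero]
  obtain ⟨b, hb⟩ := exists_sub_of_mem I hI A a n
  have h1 := map_mem_smul_top ((φ - φ') ∘ₗ singleL I z) _ hb
  have hb1 : AdicCompletion.of I A b = b • (1 : AdicCompletion I A) := by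
    have : AdicCompletion.of I A b = algebraMap A (AdicCompletion I A) b := rfl
    rw [this, Algebra.algebraMap_eq_smul_one]
  have h2 : ((φ - φ') ∘ₗ singleL I z) (a - AdicCompletion.of I A b) =
      φ (single I z a) - φ' (single I z a) := by
    rw [map_sub, hb1, map_smul]
    simp only [LinearMap.comp_apply, singleL_apply, LinearMap.sub_apply]
    rw [h z, sub_self, smul_zero, sub_zero]
  rw [h2] at h1
  exact h1

/-- Existence of the linear map out of decaying functions `Z → Â` with prescribed values
on the `single z 1`. -/
theorem exists_linearMap_single_one {Z : Type v} [DecidableEq Z] {M : Type w} [AddCommGroup M]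
    [Module A M] [IsAdicComplete I M] (hI : I.FG) (f : Z → M) :
    ∃ φ : decaying I Z (AdicCompletion I A) →ₗ[A] M,
      ∀ z, φ (single I z (1 : AdicCompletion I A)) = f z := by
  haveI := AdicCompletion.isAdicComplete (I := I) (M := M) hI
  let L : Z → (AdicCompletion I A →ₗ[A] AdicCompletion I M) := fun z =>
    (LinearMap.toSpanSingleton (AdicCompletion I A) (AdicCompletion I M)
      (AdicCompletion.of I M (f z))).restrictScalars A
  refine ⟨(AdicCompletion.ofLinearEquiv I M).symm.toLinearMap ∘ₗ
    dsum I Z (AdicCompletion I M) ∘ₗ mapFamily I L, fun z => ?_⟩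
  simp only [LinearMap.comp_apply, LinearEquiv.coe_coe]
  rw [mapFamily_single, dsum_single]
  have : L z 1 = AdicCompletion.of I M (f z) := by
    simp [L]
  rw [this, AdicCompletion.ofLinearEquiv_symm_of]

end completion

end Groth.Agent.Lib.Decaying2_helper3
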