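import Mathlib
import Groth.Prelude.Def_W4c5adicflatcomplDec
import Groth.Agent.Lib.Decaying2_helper3
import Groth.Agent.Lib.ComplFreeM_helper3
import Groth.Agent.Lib.ComplFree_helper3
import Groth.Agent.Lib.ComplFlatSplit_helper3

set_option autoImplicit false
universe u

/-!
# Completed base change of an adically free module (helper3)
-/

namespace Groth.Agent.Lib.AdicFreeBCH3

open W4c5adicflatcompl TensorProduct Groth.Agent.Lib.Decaying_helper3
  Groth.Agent.Lib.Decaying2_helper3

section finsupp

variable {B : Type u} [CommRing B] (J : Ideal B) (Z : Type u)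

/-- The completion of a free module is the module of decaying functions. -/
noncomputable def finsuppEquiv (hJ : J.FG) :
    AdicCompletion J (Z →₀ B) ≃ₗ[B] decaying J Z (AdicCompletion J B) := by
  haveI : IsAdicComplete J (AdicCompletion J B) := AdicCompletion.isAdicComplete hJ
  have h := ComplFreeMH3.main J Z B
  let Φ : AdicCompletion J (Z →₀ B) →ₗ[B] (Z → AdicCompletion J B) :=
    LinearMap.pi fun z : Z =>
      (AdicCompletion.map J (Finsupp.lapply (M := B) (R := B) z)).restrictScalars B
  refine LinearEquiv.ofBijective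
    (LinearMap.codRestrict (decaying J Z (AdicCompletion J B)) Φ (fun x => by
      rw [← h.2]
      exact LinearMap.mem_range_self _ x)) ⟨?_, ?_⟩
  · intro x y hxy
    apply h.1
    exact congrArg Subtype.val hxy
  · intro d
    have hd : (d : Z → AdicCompletion J B) ∈ LinearMap.range Φ := by
      rw [h.2]
      exact d.2
    obtain ⟨x, hx⟩ := hd
    exact ⟨x, Subtype.ext hx⟩

end finsupp

section main

variable {A B : Type u} [CommRing A] [CommRing B] [Algebra A B]
  (I : Ideal A) (J : Ideal B)

/-- The map `A/Iⁿ → B/Jⁿ`. -/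
noncomputable def quotMap (hIJ : I.map (algebraMap A B) ≤ J) (n : ℕ) :
    (A ⧸ (I ^ n • ⊤ : Submodule A A)) →ₗ[A] (B ⧸ J ^ n) :=
  Submodule.liftQ _ (((Submodule.mkQ (J ^ n)).restrictScalars A) ∘ₗ (Algebra.linearMap A B)) (by
    intro a ha
    rw [LinearMap.mem_ker, LinearMap.comp_apply]
    have ha' : a ∈ I ^ n := by simpa using ha
    have h1 : algebraMap A B a ∈ J ^ n := by
      have h2 : (I ^ n).map (algebraMap A B) ≤ J ^ n := by
        rw [Ideal.map_pow]
        exact Ideal.pow_right_mono hIJ n
      exact h2 (Ideal.mem_map_of_mem _ ha')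
    exact (Submodule.Quotient.mk_eq_zero _).2 h1)

theorem quotMap_mk (hIJ : I.map (algebraMap A B) ≤ J) (n : ℕ) (a : A) :
    quotMap I J hIJ n (Submodule.Quotient.mk a) = Ideal.Quotient.mk (J ^ n) (algebraMap A B a) :=
  rfl

theorem main [IsNoetherianRing A] [IsNoetherianRing B]
    (hIJ : I.map (algebraMap A B) ≤ J) (P : Type u) [AddCommGroup P] [Module A P]
    (hP : IsAdicFree I P) :
    IsAdicFree J (AdicCompletion J (B ⊗[A] P)) := by
  classical
  obtain ⟨Z, ⟨e⟩⟩ := hP
  have hI : I.FG := IsNoetherian.noetherian I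
  have hJ : J.FG := IsNoetherian.noetherian J
  haveI : IsAdicComplete I (AdicCompletion I A) := AdicCompletion.isAdicComplete hI
  -- basis elements and coordinate maps
  let b : Z → P := fun z => e.symm (single I z (1 : AdicCompletion I A))
  let ev : Z → P →ₗ[A] AdicCompletion I A := fun z =>
    (LinearMap.proj z) ∘ₗ (decaying I Z (AdicCompletion I A)).subtype ∘ₗ e.toLinearMap
  have hev : ∀ z w, ev z (b w) = if w = z then 1 else 0 := by
    intro z w
    simp only [ev, b, LinearMap.comp_apply, LinearEquiv.coe_coe, LinearEquiv.apply_symm_apply,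
      Submodule.subtype_apply, LinearMap.proj_apply, coe_single]
    rw [Pi.single_apply]
    simp only [eq_comm]
  let φ : (Z →₀ B) →ₗ[B] (B ⊗[A] P) :=
    Finsupp.linearCombination B (fun z => (1 : B) ⊗ₜ[A] b z)
  -- coordinate functionals mod J^n
  let f : ∀ n : ℕ, Z → P →ₗ[A] (B ⧸ J ^ n) := fun n z =>
    quotMap I J hIJ n ∘ₗ AdicCompletion.eval I A n ∘ₗ ev z
  have hf : ∀ n z w, f n z (b w) = if w = z then 1 else 0 := by
    intro n z w
    simp only [f, LinearMap.comp_apply, hev]
    split_ifs
    · have h1 : AdicCompletion.eval I A n (1 : AdicCompletion I A) =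
          Submodule.Quotient.mk (1 : A) := rfl
      rw [h1, quotMap_mk, map_one, map_one]
    · rw [map_zero, map_zero]
  let γ : ∀ n : ℕ, Z → (B ⊗[A] P) →ₗ[B] (B ⧸ J ^ n) := fun n z =>
    LinearMap.liftBaseChange B (f n z)
  have hγb : ∀ n z w, γ n z ((1 : B) ⊗ₜ[A] b w) = if w = z then 1 else 0 := by
    intro n z w
    simp only [γ, LinearMap.liftBaseChange_tmul, one_smul, hf]
  have hγφ : ∀ n z (k : Z →₀ B), γ n z (φ k) = Ideal.Quotient.mk (J ^ n) (k z) := by
    intro n z k
    simp only [φ, Finsupp.linearCombination_apply, Finsupp.sum, map_sum, map_smul, hγb]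
    rw [Finset.sum_eq_single z]
    · rw [if_pos rfl, Algebra.smul_def, mul_one]
      rfl
    · intro w _ hw
      rw [if_neg hw, smul_zero]
    · intro hz
      rw [Finsupp.notMem_support_iff.mp hz, zero_smul]
  have hγJ : ∀ n z (y : B ⊗[A] P), y ∈ (J ^ n • ⊤ : Submodule B (B ⊗[A] P)) →
      γ n z y = 0 := by
    intro n z y hy
    refine Submodule.smul_induction_on hy ?_ ?_
    · intro j hj x _
      rw [map_smul, Algebra.smul_def, Ideal.Quotient.algebraMap_eq,
        Ideal.Quotient.eq_zero_iff_mem.2 hj, zero_mul]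
    · intro x y hx hy
      rw [map_add, hx, hy, add_zero]
  have hst : ∀ (n : ℕ) (k : Z →₀ B), φ k ∈ (J ^ n • ⊤ : Submodule B (B ⊗[A] P)) →
      k ∈ (J ^ n • ⊤ : Submodule B (Z →₀ B)) := by
    intro n k hk
    apply ComplFreeH3.mem_smul_top_of_forall Z (J ^ n) k
    intro z
    have h := hγJ n z _ hk
    rw [hγφ] at h
    exact Ideal.Quotient.eq_zero_iff_mem.1 h
  -- approximation of elements of `P` by finite combinations of the `b z`
  have happrox : ∀ p : P, ∃ (S : Finset Z) (c : Z → A),
      p - ∑ z ∈ S, c z • b z ∈ (I • ⊤ : Submodule A P) := by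
    intro p
    obtain ⟨S, hS⟩ := sub_sum_single_mem hI (e p) 1
    choose c hc using fun z => exists_sub_of_mem I hI A ((e p : Z → AdicCompletion I A) z) 1
    refine ⟨S, c, ?_⟩
    have hof : ∀ a : A, AdicCompletion.of I A a = a • (1 : AdicCompletion I A) := by
      intro a
      have : AdicCompletion.of I A a = algebraMap A (AdicCompletion I A) a := rfl
      rw [this, Algebra.algebraMap_eq_smul_one]
    have h1 : ∀ z, single I z ((e p : Z → AdicCompletion I A) z) -
        c z • single I z (1 : AdicCompletion I A) ∈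
          (I ^ 1 • ⊤ : Submodule A (decaying I Z (AdicCompletion I A))) := by
      intro z
      have := map_mem_smul_top (singleL I z) _ (hc z)
      rw [map_sub, hof, map_smul] at this
      exact this
    have h2 : e p - ∑ z ∈ S, c z • single I z (1 : AdicCompletion I A) ∈
        (I ^ 1 • ⊤ : Submodule A (decaying I Z (AdicCompletion I A))) := by
      have : e p - ∑ z ∈ S, c z • single I z (1 : AdicCompletion I A) =
          (e p - ∑ z ∈ S, single I z ((e p : Z → AdicCompletion I A) z)) +
            ∑ z ∈ S, (single I z ((e p : Z → AdicCompletion I A) z) -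
              c z • single I z (1 : AdicCompletion I A)) := by
        rw [Finset.sum_sub_distrib]
        abel
      rw [this]
      exact Submodule.add_mem _ hS (Submodule.sum_mem _ fun z _ => h1 z)
    have h3 := map_mem_smul_top e.symm.toLinearMap _ h2
    rw [pow_one] at h3
    simpa only [LinearEquiv.coe_coe, map_sub, LinearEquiv.symm_apply_apply, map_sum, map_smul, b]
      using h3
  have hone : ∀ (a : A) (x : P), (1 : B) ⊗ₜ[A] (a • x) = algebraMap A B a • ((1 : B) ⊗ₜ[A] x) := by
    intro a x
    rw [TensorProduct.smul_tmul', smul_eq_mul, mul_one, TensorProduct.tmul_smul,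
      TensorProduct.smul_tmul', Algebra.smul_def, mul_one]
  have hq : ∀ q : P, q ∈ (I • ⊤ : Submodule A P) →
      (1 : B) ⊗ₜ[A] q ∈ (J • ⊤ : Submodule B (B ⊗[A] P)) := by
    intro q hq
    refine Submodule.smul_induction_on hq ?_ ?_
    · intro i hi x _
      rw [hone]
      exact Submodule.smul_mem_smul (hIJ (Ideal.mem_map_of_mem _ hi)) Submodule.mem_top
    · intro x y hx hy
      rw [TensorProduct.tmul_add]
      exact add_mem hx hy
  have hsurj : LinearMap.range φ ⊔ (J • ⊤ : Submodule B (B ⊗[A] P)) = ⊤ := by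
    rw [eq_top_iff]
    intro y _
    induction y using TensorProduct.induction_on with
    | zero => exact Submodule.zero_mem _
    | add x y hx hy => exact add_mem (hx Submodule.mem_top) (hy Submodule.mem_top)
    | tmul b' p =>
      have h1 : b' ⊗ₜ[A] p = b' • ((1 : B) ⊗ₜ[A] p) := by
        rw [TensorProduct.smul_tmul', smul_eq_mul, mul_one]
      rw [h1]
      apply Submodule.smul_mem
      obtain ⟨S, c, hc⟩ := happrox p
      have h2 : (1 : B) ⊗ₜ[A] p = φ (∑ z ∈ S, Finsupp.single z (algebraMap A B (c z))) +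
          (1 : B) ⊗ₜ[A] (p - ∑ z ∈ S, c z • b z) := by
        rw [map_sum, TensorProduct.tmul_sub, TensorProduct.tmul_sum]
        have h3 : ∀ z ∈ S, φ (Finsupp.single z (algebraMap A B (c z))) =
            (1 : B) ⊗ₜ[A] (c z • b z) := by
          intro z _
          simp only [φ, Finsupp.linearCombination_single]
          rw [hone]
        rw [Finset.sum_congr rfl h3]
        abel
      rw [h2]
      exact Submodule.add_mem_sup ⟨_, rfl⟩ (hq _ hc)
  have hbij := ComplFlatSplitH3.map_bijective_of_strict J (φ := φ) hst hsurj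
  let E1 : AdicCompletion J (Z →₀ B) ≃ₗ[AdicCompletion J B] AdicCompletion J (B ⊗[A] P) :=
    LinearEquiv.ofBijective (AdicCompletion.map J φ) hbij
  exact ⟨Z, ⟨(E1.symm.restrictScalars B) ≪≫ₗ finsuppEquiv J Z hJ⟩⟩

end main

end Groth.Agent.Lib.AdicFreeBCH3
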