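import Mathlib

set_option autoImplicit false
universe u

namespace FrobSmH8

open TensorProduct

/-- `S` is free over `R` (via the ring map `f`) with basis `s`, phrased without instances. -/
def IsFreeOn {R S : Type*} [CommRing R] [CommRing S] (f : R →+* S) {E : Type*} (s : E → S) : Prop :=
  Function.Bijective (fun c : E →₀ R => c.sum fun e r => f r * s e)

theorem IsFreeOn.linearCombination_bijective {R S : Type*} [CommRing R] [CommRing S] [Algebra R S]
    {E : Type*} {s : E → S} (h : IsFreeOn (algebraMap R S) s) :
    Function.Bijective (Finsupp.linearCombination R s) := by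
  have : (Finsupp.linearCombination R s : (E →₀ R) → S) =
      (fun c : E →₀ R => c.sum fun e r => algebraMap R S r * s e) := by
    ext c
    rw [Finsupp.linearCombination_apply]
    simp only [Algebra.smul_def]
  rw [this]
  exact h

/-- The basis given by `IsFreeOn`. -/
noncomputable def IsFreeOn.basis {R S : Type*} [CommRing R] [CommRing S] [Algebra R S]
    {E : Type*} {s : E → S} (h : IsFreeOn (algebraMap R S) s) : Module.Basis E R S :=
  Module.Basis.ofRepr (LinearEquiv.ofBijective _ h.linearCombination_bijective).symm

theorem IsFreeOn.basis_apply {R S : Type*} [CommRing R] [CommRing S] [Algebra R S]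
    {E : Type*} {s : E → S} (h : IsFreeOn (algebraMap R S) s) (e : E) : h.basis e = s e := by
  show (LinearEquiv.ofBijective _ h.linearCombination_bijective) (Finsupp.single e 1) = s e
  show Finsupp.linearCombination R s (Finsupp.single e 1) = s e
  rw [Finsupp.linearCombination_single, one_smul]

theorem IsFreeOn.flat {R S : Type*} [CommRing R] [CommRing S] {f : R →+* S} {E : Type*}
    {s : E → S} (h : IsFreeOn f s) : f.Flat := by
  letI := f.toAlgebra
  have h' : IsFreeOn (algebraMap R S) s := h
  show Module.Flat R S
  haveI : Module.Free R S := Module.Free.of_basis h'.basis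
  infer_instance

/-- Abstract freeness criterion: an `A`-algebra map `f : R → S` sending an `A`-basis of `R`,
multiplied by elements `s e`, bijectively to an `A`-basis of `S`, makes `S` free over `R` with
basis `s`. -/
theorem isFreeOn_of_bases {A R S : Type*} [CommRing A] [CommRing R] [CommRing S] [Algebra A R]
    [Algebra A S] (f : R →ₐ[A] S) {ι κ E : Type*} (b1 : Module.Basis ι A R)
    (b2 : Module.Basis κ A S) (s : E → S) (β : (Σ _ : E, ι) ≃ κ)
    (h : ∀ e i, f (b1 i) * s e = b2 (β ⟨e, i⟩)) :
    IsFreeOn f.toRingHom s := by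
  letI := f.toRingHom.toAlgebra
  haveI : IsScalarTower A R S := IsScalarTower.of_algebraMap_eq' (by
    ext a
    exact (f.commutes a).symm)
  let L : (E →₀ R) →ₗ[R] S := Finsupp.linearCombination R s
  let b1' : Module.Basis (Σ _ : E, ι) A (E →₀ R) := Finsupp.basis (fun _ : E => b1)
  have hL : L.restrictScalars A = (b1'.equiv b2 β).toLinearMap := by
    apply b1'.ext
    rintro ⟨e, i⟩
    rw [LinearEquiv.coe_coe, Module.Basis.equiv_apply, ← h e i]
    show L (b1' ⟨e, i⟩) = _
    have : b1' ⟨e, i⟩ = Finsupp.single e (b1 i) := by
      simp [b1', Finsupp.coe_basis]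
    rw [this]
    show Finsupp.linearCombination R s (Finsupp.single e (b1 i)) = _
    rw [Finsupp.linearCombination_single, Algebra.smul_def]
    rfl
  have hbij : Function.Bijective L := by
    have : (L : (E →₀ R) → S) = (b1'.equiv b2 β) := by
      ext x
      exact congrArg (fun g => g x) hL
    rw [this]
    exact (b1'.equiv b2 β).bijective
  have : (fun c : E →₀ R => c.sum fun e r => f.toRingHom r * s e) = L := by
    ext c
    show _ = Finsupp.linearCombination R s c
    rw [Finsupp.linearCombination_apply]
    simp only [Algebra.smul_def]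
    rfl
  unfold IsFreeOn
  rw [this]
  exact hbij

variable (σ : Type*) (A : Type*) [CommRing A] (p : ℕ)

/-- Exponent vectors with all entries `< p`. -/
def SmallExp : Type _ := {e : σ →₀ ℕ // ∀ i, e i < p}

/-- Division with remainder on exponent vectors. -/
noncomputable def divModEquiv (hp : 0 < p) : (Σ _ : SmallExp σ p, σ →₀ ℕ) ≃ (σ →₀ ℕ) where
  toFun x := p • x.2 + x.1.1
  invFun m := ⟨⟨m.mapRange (· % p) (Nat.zero_mod p), fun i => by
    rw [Finsupp.mapRange_apply]; exact Nat.mod_lt _ hp⟩, m.mapRange (· / p) (Nat.zero_div p)⟩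
  left_inv := by
    rintro ⟨⟨e, he⟩, q⟩
    have h1 : (p • q + e).mapRange (· % p) (Nat.zero_mod p) = e := by
      ext i
      simp only [Finsupp.mapRange_apply, Finsupp.coe_add, Finsupp.coe_smul, Pi.add_apply,
        Pi.smul_apply, smul_eq_mul]
      rw [Nat.mul_add_mod, Nat.mod_eq_of_lt (he i)]
    have h2 : (p • q + e).mapRange (· / p) (Nat.zero_div p) = q := by
      ext i
      simp only [Finsupp.mapRange_apply, Finsupp.coe_add, Finsupp.coe_smul, Pi.add_apply,
        Pi.smul_apply, smul_eq_mul]
      rw [Nat.mul_add_div hp, Nat.div_eq_of_lt (he i), add_zero]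
    simp only
    congr 1
    · exact Subtype.ext h1
  right_inv := by
    intro m
    ext i
    simp only [Finsupp.mapRange_apply, Finsupp.coe_add, Finsupp.coe_smul, Pi.add_apply,
      Pi.smul_apply, smul_eq_mul]
    exact Nat.div_add_mod (m i) p

/-- `MvPolynomial σ A` is free over itself via `expand p`, with basis the monomials of small
exponents. -/
theorem isFreeOn_expand (hp : 0 < p) :
    IsFreeOn (MvPolynomial.expand p : MvPolynomial σ A →ₐ[A] MvPolynomial σ A).toRingHom
      (fun e : SmallExp σ p => MvPolynomial.monomial e.1 (1 : A)) := by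
  refine isFreeOn_of_bases (MvPolynomial.expand p : MvPolynomial σ A →ₐ[A] MvPolynomial σ A)
    (MvPolynomial.basisMonomials σ A) (MvPolynomial.basisMonomials σ A)
    (fun e : SmallExp σ p => MvPolynomial.monomial e.1 1) (divModEquiv σ p hp) ?_
  intro e i
  rw [MvPolynomial.coe_basisMonomials, MvPolynomial.expand_monomial, MvPolynomial.monomial_mul,
    one_mul]
  rfl

end FrobSmH8
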