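import Mathlib
import Groth.Prelude.Def_FrobAlg
import Groth.Agent.Lib.FrobSm1_helper8

set_option autoImplicit false
universe u v

namespace FrobSmH8

open TensorProduct FrobAlg

theorem IsFreeOn.comp_equiv {R R' S : Type*} [CommRing R] [CommRing R'] [CommRing S]
    {f : R →+* S} (e : R' ≃+* R) {E : Type*} {s : E → S} (h : IsFreeOn f s) :
    IsFreeOn (f.comp (e : R' →+* R)) s := by
  unfold IsFreeOn at h ⊢
  have : (fun c : E →₀ R' => c.sum fun x r => (f.comp (e : R' →+* R)) r * s x) =
      (fun c : E →₀ R => c.sum fun x r => f r * s x) ∘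
        (Finsupp.mapRange.addEquiv (e : R' ≃+ R) : (E →₀ R') → (E →₀ R)) := by
    ext c
    simp only [Function.comp_apply, RingHom.coe_comp, RingHom.coe_coe]
    rw [Finsupp.mapRange.addEquiv_apply, Finsupp.sum_mapRange_index]
    · rfl
    · intro x; simp
  rw [this]
  exact h.comp (Finsupp.mapRange.addEquiv (e : R' ≃+ R)).bijective

theorem IsFreeOn.equiv_comp {R S S' : Type*} [CommRing R] [CommRing S'] [CommRing S]
    {f : R →+* S} (e : S ≃+* S') {E : Type*} {s : E → S} (h : IsFreeOn f s) :
    IsFreeOn ((e : S →+* S').comp f) (fun x => e (s x)) := by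
  unfold IsFreeOn at h ⊢
  have : (fun c : E →₀ R => c.sum fun x r => ((e : S →+* S').comp f) r * e (s x)) =
      e ∘ (fun c : E →₀ R => c.sum fun x r => f r * s x) := by
    ext c
    simp only [Function.comp_apply, RingHom.coe_comp, RingHom.coe_coe]
    rw [Finsupp.sum, Finsupp.sum, map_sum]
    simp only [map_mul]
  rw [this]
  exact e.bijective.comp h

variable (p : ℕ) [Fact p.Prime] (A : Type u) [CommRing A] [CharP A p]

lemma relFrob_tmul' (B : Type v) [CommRing B] [Algebra A B] [CharP B p] (b : B) (a : Twist p A) :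
    relFrob p A B (b ⊗ₜ[A] a) = b ^ p * algebraMap A B ((toTwist p A).symm a) := by
  simp only [relFrob, RingHom.coe_comp, Function.comp_apply, AlgHom.toRingHom_eq_coe,
    RingHom.coe_coe, Algebra.TensorProduct.lift_tmul]
  rfl

variable (σ : Type v)

/-- The identification of the Frobenius twist of a polynomial ring with the polynomial ring. -/
noncomputable def polyTwistEquiv :
    BaseChange p A (MvPolynomial σ A) ≃+* MvPolynomial σ A :=
  (Algebra.TensorProduct.comm A (MvPolynomial σ A) (Twist p A)).toRingEquiv.trans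
    ((MvPolynomial.algebraTensorAlgEquiv A (Twist p A)).toRingEquiv.trans
      (MvPolynomial.mapEquiv σ (toTwist p A).symm))

theorem polyTwistEquiv_tmul (f : MvPolynomial σ A) (t : Twist p A) :
    polyTwistEquiv p A σ (f ⊗ₜ[A] t) =
      MvPolynomial.C ((toTwist p A).symm t) * MvPolynomial.map (frobenius A p) f := by
  show MvPolynomial.map ((toTwist p A).symm : Twist p A →+* A)
    (MvPolynomial.algebraTensorAlgEquiv A (Twist p A) (t ⊗ₜ[A] f)) = _
  rw [MvPolynomial.algebraTensorAlgEquiv_tmul, MvPolynomial.smul_eq_C_mul, map_mul,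
    MvPolynomial.map_C, MvPolynomial.map_map]
  rfl

theorem relFrob_mvPolynomial_eq :
    relFrob p A (MvPolynomial σ A) =
      ((MvPolynomial.expand p : MvPolynomial σ A →ₐ[A] MvPolynomial σ A).toRingHom).comp
        (polyTwistEquiv p A σ : BaseChange p A (MvPolynomial σ A) →+* MvPolynomial σ A) := by
  refine RingHom.ext fun x => ?_
  induction x using TensorProduct.induction_on with
  | zero => simp
  | add x y hx hy => rw [map_add, map_add, hx, hy]
  | tmul f t =>
    rw [relFrob_tmul']
    show _ = MvPolynomial.expand p (polyTwistEquiv p A σ (f ⊗ₜ[A] t))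
    rw [polyTwistEquiv_tmul, map_mul, MvPolynomial.expand_C, ← MvPolynomial.map_expand,
      MvPolynomial.map_frobenius_expand, mul_comm]
    rfl

theorem isFreeOn_relFrob_mvPolynomial :
    IsFreeOn (relFrob p A (MvPolynomial σ A))
      (fun e : SmallExp σ p => MvPolynomial.monomial e.1 (1 : A)) := by
  rw [relFrob_mvPolynomial_eq]
  exact (isFreeOn_expand σ A p (Fact.out : p.Prime).pos).comp_equiv _

end FrobSmH8
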