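import Mathlib
import Groth.Prelude.Def_FrobAlg
import Groth.Agent.Lib.FrobSm2_helper8

set_option autoImplicit false
universe u v

namespace AdicFrobH8

open TensorProduct FrobAlg

/-- Finite ring hom ⇒ finite module for a twisted copy. -/
theorem finite_of_ringHom_finite {R S T : Type*} [CommRing R] [CommRing S] [CommRing T]
    (f : R →+* S) (e : S ≃+* T) [Algebra R T] (h : algebraMap R T = (e : S →+* T).comp f)
    (hf : f.Finite) : Module.Finite R T := by
  letI := f.toAlgebra
  haveI : Module.Finite R S := hf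
  let l : S →ₗ[R] T :=
    { toFun := e
      map_add' := map_add e
      map_smul' := fun r s => by
        simp only [RingHom.id_apply]
        rw [Algebra.smul_def, Algebra.smul_def, map_mul, h]
        rfl }
  exact Module.Finite.of_surjective l e.surjective

variable (p : ℕ) [Fact p.Prime] (A : Type u) [CommRing A] [CharP A p]

theorem smul_twist (r : A) (t : Twist p A) : r • t = toTwist p A (r ^ p * (toTwist p A).symm t) := by
  rw [Algebra.smul_def, algebraMap_twist, map_mul, RingEquiv.apply_symm_apply]

variable (I : Ideal A)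

/-- Elements of `Iⁿ • ⊤` in the twist lie in `Iⁿ`. -/
theorem symm_mem_of_mem_smul_top (n : ℕ) (t : Twist p A)
    (ht : t ∈ (I ^ n • ⊤ : Submodule A (Twist p A))) : (toTwist p A).symm t ∈ I ^ n := by
  refine Submodule.smul_induction_on ht ?_ ?_
  · intro r hr m _
    rw [smul_twist, RingEquiv.symm_apply_apply]
    exact Ideal.mul_mem_right _ _ (Ideal.pow_mem_of_mem _ hr p (Fact.out : p.Prime).pos)
  · intro x y hx hy
    rw [map_add]
    exact Ideal.add_mem _ hx hy

/-- Cofinality: a fixed power of `I` lands in the Frobenius power. -/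
theorem exists_pow_le [IsNoetherianRing A] : ∃ m₀ : ℕ, ∀ n : ℕ, ∀ a ∈ I ^ (m₀ * n),
    toTwist p A a ∈ (I ^ n • ⊤ : Submodule A (Twist p A)) := by
  have hp : p.Prime := Fact.out
  have hrad : I ≤ (Ideal.map (frobenius A p) I).radical := by
    intro a ha
    refine ⟨p, ?_⟩
    have := Ideal.mem_map_of_mem (frobenius A p) ha
    rwa [frobenius_def] at this
  obtain ⟨m₀, hm₀⟩ := Ideal.exists_pow_le_of_le_radical_of_fg hrad (IsNoetherian.noetherian I)
  refine ⟨m₀, fun n a ha => ?_⟩
  have h1 : a ∈ Ideal.map (frobenius A p) (I ^ n) := by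
    rw [Ideal.map_pow]
    rw [pow_mul] at ha
    exact Ideal.pow_right_mono hm₀ n ha
  rw [Ideal.smul_top_eq_map, Submodule.restrictScalars_mem]
  have : algebraMap A (Twist p A) = (toTwist p A : A →+* Twist p A).comp (frobenius A p) := rfl
  rw [this, ← Ideal.map_map]
  exact Ideal.mem_map_of_mem _ h1

theorem mem_smul_top_iff (n : ℕ) (a : A) : a ∈ (I ^ n • ⊤ : Submodule A A) ↔ a ∈ I ^ n := by
  have : (I ^ n • ⊤ : Submodule A A) = I ^ n := by
    show (I ^ n * ⊤ : Ideal A) = I ^ n
    rw [Ideal.mul_top]
  rw [this]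

theorem mkA_eq_iff (n : ℕ) (a b : A) :
    (Submodule.Quotient.mk a : A ⧸ (I ^ n • ⊤ : Submodule A A)) = Submodule.Quotient.mk b ↔
      a - b ∈ I ^ n := by
  rw [Submodule.Quotient.eq, mem_smul_top_iff]

variable [CharP (AdicCompletion I A) p]

/-- Componentwise description of the relative Frobenius of the completion. -/
theorem key (z : BaseChange p A (AdicCompletion I A)) (n : ℕ) : ∀ (a : A),
    (AdicCompletion.ofTensorProduct I (Twist p A) z).val n =
      Submodule.Quotient.mk (toTwist p A a) →
    (relFrob p A (AdicCompletion I A) z).val n = Submodule.Quotient.mk a := by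
  induction z using TensorProduct.induction_on with
  | zero =>
    intro a h
    rw [map_zero, AdicCompletion.val_zero_apply] at h
    have h1 := (Submodule.Quotient.mk_eq_zero _).mp h.symm
    have h2 := symm_mem_of_mem_smul_top p A I n _ h1
    rw [RingEquiv.symm_apply_apply] at h2
    rw [map_zero, AdicCompletion.val_zero_apply]
    symm
    rw [Submodule.Quotient.mk_eq_zero, mem_smul_top_iff]
    exact h2
  | tmul b t =>
    intro a h
    rw [AdicCompletion.ofTensorProduct_tmul, AdicCompletion.smul_eval, AdicCompletion.of_apply] at h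
    obtain ⟨β, hβ⟩ := Submodule.Quotient.mk_surjective _ (b.val n)
    have h1 : b.val n • (Submodule.mkQ (I ^ n • ⊤ : Submodule A (Twist p A)) t) =
        Submodule.Quotient.mk (toTwist p A (β ^ p * (toTwist p A).symm t)) := by
      rw [← hβ, ← smul_twist]
      rfl
    rw [h1, Submodule.Quotient.eq, ← map_sub] at h
    have h2 := symm_mem_of_mem_smul_top p A I n _ h
    rw [RingEquiv.symm_apply_apply] at h2
    rw [FrobSmH8.relFrob_tmul', AdicCompletion.val_mul, AdicCompletion.algebraMap_apply,
      AdicCompletion.of_apply]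
    have h3 : (b ^ p).val n = (b.val n) ^ p := rfl
    rw [h3, ← hβ]
    show (Submodule.Quotient.mk (β ^ p * (toTwist p A).symm t) :
      A ⧸ (I ^ n • ⊤ : Submodule A A)) = _
    rw [mkA_eq_iff]
    exact h2
  | add x y hx hy =>
    intro a h
    obtain ⟨t1, ht1⟩ := Submodule.Quotient.mk_surjective _
      ((AdicCompletion.ofTensorProduct I (Twist p A) x).val n)
    have hx' := hx ((toTwist p A).symm t1) (by rw [RingEquiv.apply_symm_apply]; exact ht1.symm)
    have hy' := hy (a - (toTwist p A).symm t1) (by
      rw [map_sub, RingEquiv.apply_symm_apply, Submodule.Quotient.mk_sub, ← h, ht1, map_add,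
        AdicCompletion.val_add_apply]
      abel)
    rw [map_add, AdicCompletion.val_add_apply, hx', hy', ← Submodule.Quotient.mk_add]
    congr 1
    abel

omit [CharP (AdicCompletion I A) p] in
theorem exists_pow_le' [IsNoetherianRing A] : ∃ m₀ : ℕ, 1 ≤ m₀ ∧ ∀ n : ℕ, ∀ a ∈ I ^ (m₀ * n),
    toTwist p A a ∈ (I ^ n • ⊤ : Submodule A (Twist p A)) := by
  obtain ⟨m, hm⟩ := exists_pow_le p A I
  refine ⟨m + 1, by omega, fun n a ha => hm n a ?_⟩
  exact Ideal.pow_le_pow_right (Nat.mul_le_mul_right n (Nat.le_succ m)) ha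

omit [CharP (AdicCompletion I A) p] in
theorem val_eq_of_le {M : Type*} [AddCommGroup M] [Module A M] (x : AdicCompletion I M)
    {m n : ℕ} (hmn : m ≤ n) (t : M) (ht : Submodule.Quotient.mk t = x.val n) :
    x.val m = Submodule.Quotient.mk t := by
  rw [← AdicCompletion.transitionMap_comp_eval_apply I M hmn x, ← ht]
  exact Submodule.factor_mk _ t

theorem relFrob_injective [IsNoetherianRing A] [Module.Finite A (Twist p A)] :
    Function.Injective (relFrob p A (AdicCompletion I A)) := by
  rw [injective_iff_map_eq_zero]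
  intro z hz
  obtain ⟨m₀, hm1, hm₀⟩ := exists_pow_le' p A I
  have hΘ := AdicCompletion.ofTensorProduct_bijective_of_finite_of_isNoetherian I (Twist p A)
  apply hΘ.1
  rw [map_zero]
  apply AdicCompletion.ext
  intro n
  obtain ⟨t, ht⟩ := Submodule.Quotient.mk_surjective _
    ((AdicCompletion.ofTensorProduct I (Twist p A) z).val (m₀ * n))
  have hk := key p A I z (m₀ * n) ((toTwist p A).symm t) (by
    rw [RingEquiv.apply_symm_apply]; exact ht.symm)
  rw [hz, AdicCompletion.val_zero_apply] at hk
  have h1 : (toTwist p A).symm t ∈ I ^ (m₀ * n) := by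
    have := (Submodule.Quotient.mk_eq_zero _).mp hk.symm
    rwa [mem_smul_top_iff] at this
  have h2 := hm₀ n _ h1
  rw [RingEquiv.apply_symm_apply] at h2
  have hle : n ≤ m₀ * n := Nat.le_mul_of_pos_left n hm1
  rw [AdicCompletion.val_zero_apply, val_eq_of_le A I _ hle t ht]
  exact (Submodule.Quotient.mk_eq_zero _).mpr h2

theorem relFrob_surjective [IsNoetherianRing A] [Module.Finite A (Twist p A)] :
    Function.Surjective (relFrob p A (AdicCompletion I A)) := by
  intro y
  obtain ⟨m₀, hm1, hm₀⟩ := exists_pow_le' p A I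
  have hΘ := AdicCompletion.ofTensorProduct_bijective_of_finite_of_isNoetherian I (Twist p A)
  choose g hg using fun n => Submodule.Quotient.mk_surjective _ (y.val n)
  have hgle : ∀ {m n : ℕ}, m ≤ n → g n - g m ∈ I ^ m := by
    intro m n hmn
    have := val_eq_of_le A I y hmn (g n) (hg n)
    rw [← hg m, mkA_eq_iff] at this
    have h2 := Ideal.neg_mem_iff _ |>.mpr this
    rwa [neg_sub] at h2
  let x : AdicCompletion I (Twist p A) :=
    ⟨fun n => Submodule.Quotient.mk (toTwist p A (g (m₀ * n))), by
      intro m n hmn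
      show Submodule.factor _ (Submodule.mkQ _ (toTwist p A (g (m₀ * n)))) = _
      rw [Submodule.factor_mk]
      show Submodule.Quotient.mk _ = Submodule.Quotient.mk _
      rw [Submodule.Quotient.eq, ← map_sub]
      exact hm₀ m _ (hgle (Nat.mul_le_mul_left m₀ hmn))⟩
  obtain ⟨z, hz⟩ := hΘ.2 x
  refine ⟨z, ?_⟩
  apply AdicCompletion.ext
  intro n
  have hk := key p A I z n (g (m₀ * n)) (by rw [hz])
  rw [hk, ← hg n, mkA_eq_iff]
  exact hgle (Nat.le_mul_of_pos_left n hm1)

theorem relFrob_bijective [IsNoetherianRing A] (hF : (frobenius A p).Finite) :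
    Function.Bijective (relFrob p A (AdicCompletion I A)) := by
  haveI : Module.Finite A (Twist p A) :=
    finite_of_ringHom_finite (frobenius A p) (toTwist p A) rfl hF
  exact ⟨relFrob_injective p A I, relFrob_surjective p A I⟩

end AdicFrobH8
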