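import Mathlib

/-!
# Completions of finite modules with isomorphic truncations are isomorphic (helper3)

Artin–Rees lifting of maps `M/IⁿM → N/IⁿN` to maps `M → N` up to `I^(n-c)`.
-/

namespace Groth.Agent.Lib.AdicIsoH3

open Submodule

universe u

variable {A : Type u} [CommRing A] (I : Ideal A)

/-- Coordinatewise membership in `J • ⊤` implies membership in `J • ⊤` of a finite product. -/
theorem pi_mem_smul_top {ι : Type*} [Fintype ι] [DecidableEq ι] {N : Type*} [AddCommGroup N]
    [Module A N] (J : Ideal A) (x : ι → N) (hx : ∀ i, x i ∈ (J • ⊤ : Submodule A N)) :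
    x ∈ (J • ⊤ : Submodule A (ι → N)) := by
  have : x = ∑ i, LinearMap.single A (fun _ => N) i (x i) := by
    ext j; simp [Finset.sum_apply, Pi.single_apply]
  rw [this]
  refine Submodule.sum_mem _ fun i _ => ?_
  have h1 : LinearMap.single A (fun _ => N) i (x i) ∈
      (J • ⊤ : Submodule A N).map (LinearMap.single A (fun _ => N) i) :=
    Submodule.mem_map_of_mem (hx i)
  rw [Submodule.map_smul''] at h1
  exact Submodule.smul_mono le_rfl le_top h1

theorem apply_mem_smul_top {ι : Type*} {N : Type*} [AddCommGroup N]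
    [Module A N] (J : Ideal A) (x : ι → N) (hx : x ∈ (J • ⊤ : Submodule A (ι → N))) (i : ι) :
    x i ∈ (J • ⊤ : Submodule A N) := by
  have h1 : (LinearMap.proj i : (ι → N) →ₗ[A] N) x ∈
      (J • ⊤ : Submodule A (ι → N)).map (LinearMap.proj i : (ι → N) →ₗ[A] N) :=
    Submodule.mem_map_of_mem hx
  rw [Submodule.map_smul''] at h1
  exact Submodule.smul_mono le_rfl le_top h1

/-- Artin–Rees lifting: there is `c` such that any linear map `M/IⁿM → N/IⁿN` with `n ≥ c` is
induced modulo `I^(n-c)` by a linear map `M → N`. -/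
theorem exists_lift [IsNoetherianRing A] (M N : Type u) [AddCommGroup M] [Module A M]
    [Module.Finite A M] [AddCommGroup N] [Module A N] [Module.Finite A N] :
    ∃ c : ℕ, ∀ n, c ≤ n → ∀ f : (M ⧸ (I ^ n • ⊤ : Submodule A M)) →ₗ[A]
        (N ⧸ (I ^ n • ⊤ : Submodule A N)),
      ∃ g : M →ₗ[A] N, ∀ m y, f (Submodule.Quotient.mk m) = Submodule.Quotient.mk y →
        g m - y ∈ (I ^ (n - c) • ⊤ : Submodule A N) := by
  classical
  obtain ⟨s, π, hπ⟩ := Module.Finite.exists_fin' A M
  have hfg : (LinearMap.ker π).FG := IsNoetherian.noetherian _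
  obtain ⟨r, k, hk⟩ := Submodule.fg_iff_exists_fin_generating_family.mp hfg
  let φ : (Fin s → N) →ₗ[A] (Fin r → N) :=
    LinearMap.pi fun j => ∑ i, (k j i) • (LinearMap.proj i : (Fin s → N) →ₗ[A] N)
  have hφ : ∀ w j, φ w j = Fintype.linearCombination A w (k j) := by
    intro w j
    simp [φ, Fintype.linearCombination_apply]
  obtain ⟨c, hc⟩ := Ideal.exists_pow_inf_eq_pow_smul I (LinearMap.range φ)
  refine ⟨c, fun n hn f => ?_⟩
  have hsurj := Submodule.Quotient.mk_surjective (I ^ n • ⊤ : Submodule A N)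
  choose w hw using fun i : Fin s => hsurj (f (Submodule.Quotient.mk (π (Pi.single i 1))))
  have hE : (I ^ n • ⊤ : Submodule A N).mkQ ∘ₗ Fintype.linearCombination A w =
      f ∘ₗ (I ^ n • ⊤ : Submodule A M).mkQ ∘ₗ π := by
    refine LinearMap.pi_ext' fun i => ?_
    ext
    simp [hw]
  have hφw : φ w ∈ (I ^ n • ⊤ : Submodule A (Fin r → N)) ⊓ LinearMap.range φ := by
    refine ⟨pi_mem_smul_top _ _ fun j => ?_, LinearMap.mem_range_self _ _⟩
    rw [hφ, ← Submodule.Quotient.mk_eq_zero, ← Submodule.mkQ_apply, ← LinearMap.comp_apply, hE]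
    have : π (k j) = 0 := by
      have : k j ∈ LinearMap.ker π := by rw [← hk]; exact Submodule.subset_span ⟨j, rfl⟩
      exact this
    simp [this]
  rw [hc n hn] at hφw
  have h2 : φ w ∈ (I ^ (n - c) • ⊤ : Submodule A (Fin s → N)).map φ := by
    rw [Submodule.map_smul'', Submodule.map_top]
    exact Submodule.smul_mono le_rfl inf_le_right hφw
  obtain ⟨v, hv, hvw⟩ := h2
  have hker : LinearMap.ker π ≤ LinearMap.ker (Fintype.linearCombination A (w - v)) := by
    rw [← hk, Submodule.span_le]
    rintro _ ⟨j, rfl⟩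
    simp only [SetLike.mem_coe, LinearMap.mem_ker]
    rw [← hφ, map_sub, hvw, sub_self]; rfl
  let g : M →ₗ[A] N := (LinearMap.ker π).liftQ _ hker ∘ₗ
    (LinearMap.quotKerEquivOfSurjective π hπ).symm.toLinearMap
  have hg : ∀ a, g (π a) = Fintype.linearCombination A (w - v) a := by
    intro a
    simp only [g, LinearMap.comp_apply, LinearEquiv.coe_coe]
    have : (LinearMap.quotKerEquivOfSurjective π hπ).symm (π a) = Submodule.Quotient.mk a := by
      rw [LinearEquiv.symm_apply_eq]; rfl
    rw [this]; rfl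
  refine ⟨g, fun m y hmy => ?_⟩
  obtain ⟨a, rfl⟩ := hπ m
  rw [hg]
  have h3 : Fintype.linearCombination A (w - v) a =
      Fintype.linearCombination A w a - Fintype.linearCombination A v a := by
    simp [Fintype.linearCombination_apply, smul_sub, Finset.sum_sub_distrib]
  have h4 : Fintype.linearCombination A w a - y ∈ (I ^ n • ⊤ : Submodule A N) := by
    rw [← Submodule.Quotient.eq, ← hmy]
    exact LinearMap.congr_fun hE a
  have h5 : Fintype.linearCombination A v a ∈ (I ^ (n - c) • ⊤ : Submodule A N) := by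
    rw [Fintype.linearCombination_apply]
    exact Submodule.sum_mem _ fun i _ => Submodule.smul_mem _ _ (apply_mem_smul_top _ v hv i)
  have h6 : (I ^ n • ⊤ : Submodule A N) ≤ I ^ (n - c) • ⊤ :=
    Submodule.smul_mono_left (Ideal.pow_le_pow_right (Nat.sub_le n c))
  rw [h3]
  have : Fintype.linearCombination A w a - Fintype.linearCombination A v a - y =
      (Fintype.linearCombination A w a - y) - Fintype.linearCombination A v a := by abel
  rw [this]
  exact Submodule.sub_mem _ (h6 h4) h5

theorem exists_surjective_map [IsNoetherianRing A] (M N : Type u) [AddCommGroup M] [Module A M]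
    [Module.Finite A M] [AddCommGroup N] [Module A N] [Module.Finite A N]
    (h : ∀ n, ∃ f : (M ⧸ (I ^ n • ⊤ : Submodule A M)) →ₗ[A] (N ⧸ (I ^ n • ⊤ : Submodule A N)),
      Function.Surjective f) :
    ∃ g : M →ₗ[A] N, Function.Surjective ((I • ⊤ : Submodule A N).mkQ ∘ₗ g) := by
  obtain ⟨c, hc⟩ := exists_lift I M N
  obtain ⟨f, hf⟩ := h (c + 1)
  obtain ⟨g, hg⟩ := hc (c + 1) (Nat.le_succ c) f
  refine ⟨g, fun y' => ?_⟩
  obtain ⟨y, rfl⟩ := Submodule.Quotient.mk_surjective _ y'
  obtain ⟨m', hm'⟩ := hf (Submodule.Quotient.mk y)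
  obtain ⟨m, rfl⟩ := Submodule.Quotient.mk_surjective _ m'
  refine ⟨m, ?_⟩
  have := hg m y hm'
  simp only [Nat.add_sub_cancel_left, pow_one] at this
  rw [LinearMap.comp_apply, Submodule.mkQ_apply, Submodule.Quotient.eq]
  exact this

theorem nonempty_equiv [IsNoetherianRing A] (M N : Type u) [AddCommGroup M] [Module A M]
    [Module.Finite A M] [AddCommGroup N] [Module A N] [Module.Finite A N]
    (h : ∀ n : ℕ, Nonempty ((M ⧸ (I ^ n • ⊤ : Submodule A M)) ≃ₗ[A]
      (N ⧸ (I ^ n • ⊤ : Submodule A N)))) :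
    Nonempty (AdicCompletion I M ≃ₗ[AdicCompletion I A] AdicCompletion I N) := by
  obtain ⟨g, hg⟩ := exists_surjective_map I M N
    fun n => ⟨(h n).some.toLinearMap, (h n).some.surjective⟩
  obtain ⟨g', hg'⟩ := exists_surjective_map I N M
    fun n => ⟨(h n).some.symm.toLinearMap, (h n).some.symm.surjective⟩
  have h1 : Function.Surjective (AdicCompletion.map I g) :=
    AdicCompletion.map_surjective_of_mkQ_comp_surjective hg
  have h2 : Function.Surjective (AdicCompletion.map I g') :=
    AdicCompletion.map_surjective_of_mkQ_comp_surjective hg'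
  haveI : Module.Finite (AdicCompletion I A) (AdicCompletion I M) :=
    Module.Finite.of_surjective (AdicCompletion.ofTensorProduct I M)
      (AdicCompletion.ofTensorProduct_surjective_of_finite I M)
  have h3 : Function.Injective ((AdicCompletion.map I g').comp (AdicCompletion.map I g)) :=
    OrzechProperty.injective_of_surjective_endomorphism _ (h2.comp h1)
  have h4 : Function.Injective (AdicCompletion.map I g) := by
    intro x y hxy
    apply h3
    simp only [LinearMap.comp_apply, hxy]
  exact ⟨LinearEquiv.ofBijective (AdicCompletion.map I g) ⟨h4, h1⟩⟩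

end Groth.Agent.Lib.AdicIsoH3
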