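import Mathlib

/-!
# Lifting compatible families of maps into an adically complete module (helper5)
APPEND-ONLY once landed.

`N` is `J`-adically complete, and its quotients `N/J^(n+1)N` are presented abstractly as additive
surjections `s n : N → Q n` with kernels `J^(n+1) N` and transition maps `t n : Q (n+1) → Q n`.
A compatible family of maps `f n : M → Q n` lifts uniquely to a linear map `M → N`.
-/

set_option autoImplicit false
universe u v w

namespace Groth.Agent.AdicLift

variable {A : Type u} [CommRing A] (J : Ideal A) {M : Type v} {N : Type w}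
  [AddCommGroup M] [Module A M] [AddCommGroup N] [Module A N]
  {Q : ℕ → Type*} [∀ n, AddCommGroup (Q n)]
  (s : ∀ n, N →+ Q n)

/-- separatedness: an element of `N` is determined by its images in all the quotients. -/
theorem eq_of_forall_eq [IsHausdorff J N]
    (hker : ∀ n y, s n y = 0 → y ∈ (J ^ (n + 1)) • (⊤ : Submodule A N))
    (y y' : N) (h : ∀ n, s n y = s n y') : y = y' := by
  rw [← sub_eq_zero]
  apply IsHausdorff.haus (I := J) ‹_›
  intro n
  rw [SModEq.zero]
  have h1 : y - y' ∈ (J ^ (n + 1)) • (⊤ : Submodule A N) := by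
    apply hker n
    rw [map_sub, h n, sub_self]
  exact Submodule.smul_mono_left (Ideal.pow_le_pow_right (Nat.le_succ n)) h1

variable (t : ∀ n, Q (n + 1) → Q n) (hts : ∀ n y, t n (s (n + 1) y) = s n y)

include hts in
theorem descend {q : ∀ n, Q n} (hq : ∀ n, t n (q (n + 1)) = q n) (k n : ℕ) (hkn : k ≤ n) (y : N)
    (hy : s n y = q n) : s k y = q k := by
  induction n, hkn using Nat.le_induction generalizing y with
  | base => exact hy
  | succ n _ ih =>
    apply ih
    rw [← hts n y, hy, hq n]

include hts in
/-- completeness: a compatible family of elements of the quotients comes from an element. -/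
theorem exists_of_compat [IsPrecomplete J N] (hs : ∀ n, Function.Surjective (s n))
    (hker : ∀ n y, s n y = 0 → y ∈ (J ^ (n + 1)) • (⊤ : Submodule A N))
    (hker' : ∀ n y, y ∈ (J ^ (n + 1)) • (⊤ : Submodule A N) → s n y = 0)
    (q : ∀ n, Q n) (hq : ∀ n, t n (q (n + 1)) = q n) :
    ∃ y : N, ∀ n, s n y = q n := by
  choose g hg using fun n => hs n (q n)
  have hcauchy : ∀ {m n : ℕ}, m ≤ n → g m ≡ g n [SMOD (J ^ m • ⊤ : Submodule A N)] := by
    intro m n hmn
    rw [SModEq.sub_mem]
    have h1 : g m - g n ∈ (J ^ (m + 1)) • (⊤ : Submodule A N) := by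
      apply hker m
      rw [map_sub, hg m, descend s t hts hq m n hmn (g n) (hg n), sub_self]
    exact Submodule.smul_mono_left (Ideal.pow_le_pow_right (Nat.le_succ m)) h1
  obtain ⟨L, hL⟩ := IsPrecomplete.prec ‹_› hcauchy
  refine ⟨L, fun n => ?_⟩
  have h1 := hL (n + 1)
  rw [SModEq.sub_mem] at h1
  have h2 := hker' n _ h1
  rw [map_sub, sub_eq_zero] at h2
  rw [← h2]
  exact descend s t hts hq n (n + 1) (Nat.le_succ n) (g (n + 1)) (hg (n + 1))

include hts in
/-- **Lifting**: a compatible family of maps `f n : M → Q n`, additive and compatible with the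
scalar action, lifts to a linear map `M → N`. -/
theorem exists_linearMap_of_compat [IsAdicComplete J N] (hs : ∀ n, Function.Surjective (s n))
    (hker : ∀ n y, s n y = 0 ↔ y ∈ (J ^ (n + 1)) • (⊤ : Submodule A N))
    (f : ∀ n, M → Q n) (htf : ∀ n m, t n (f (n + 1) m) = f n m)
    (hfadd : ∀ n m m', f n (m + m') = f n m + f n m')
    (hfsmul : ∀ n (a : A) (m : M) (y : N), s n y = f n m → s n (a • y) = f n (a • m)) :
    ∃ u : M →ₗ[A] N, ∀ n m, s n (u m) = f n m := by
  have hex : ∀ m, ∃ y : N, ∀ n, s n y = f n m := fun m =>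
    exists_of_compat J s t hts hs (fun n y => (hker n y).mp) (fun n y => (hker n y).mpr)
      (fun n => f n m) (fun n => htf n m)
  choose u hu using hex
  refine ⟨{ toFun := u, map_add' := fun m m' => ?_, map_smul' := fun a m => ?_ },
    fun n m => hu m n⟩
  · apply eq_of_forall_eq J s (fun n y => (hker n y).mp)
    intro n
    rw [hu, map_add, hu, hu, hfadd]
  · apply eq_of_forall_eq J s (fun n y => (hker n y).mp)
    intro n
    rw [hu, RingHom.id_apply]
    exact (hfsmul n a m (u m) (hu m n)).symm

end Groth.Agent.AdicLift
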