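import Mathlib

/-!
# Extending ring homomorphisms to adic completions (helper2)

`ext J JB g hg : AdicCompletion J C →+* B` for `g : C →+* B`, `J.map g ≤ JB`, `B` `JB`-adically
complete, with `ext_of`; and the density lemma `ringHom_ext_of_dense`.
-/

namespace Groth.Agent.Lib.AdicLift

open AdicCompletion

section
variable {C B : Type*} [CommRing C] [CommRing B] (J : Ideal C) (JB : Ideal B)
  (g : C →+* B) (hg : J.map g ≤ JB)

include hg in
lemma pow_le_comap (n : ℕ) : J ^ n ≤ (JB ^ n).comap g := by
  rw [← Ideal.map_le_iff_le_comap, Ideal.map_pow]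
  exact Ideal.pow_right_mono hg n

/-- the `n`-th truncation of the extension of `g` to the completion. -/
noncomputable def extFam (n : ℕ) : AdicCompletion J C →+* B ⧸ JB ^ n :=
  (Ideal.quotientMap (JB ^ n) g (pow_le_comap J JB g hg n)).comp
    ((AdicCompletion.evalₐ J n : AdicCompletion J C →ₐ[C] C ⧸ J ^ n) :
      AdicCompletion J C →+* C ⧸ J ^ n)

lemma extFam_mk (n : ℕ) (s : AdicCompletion.AdicCauchySequence J C) :
    extFam J JB g hg n (AdicCompletion.mk J C s) = Ideal.Quotient.mk (JB ^ n) (g (s n)) := by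
  simp only [extFam, RingHom.coe_comp, Function.comp_apply, RingHom.coe_coe]
  rw [AdicCompletion.evalₐ_mk, Ideal.quotientMap_mk]

lemma extFam_of (n : ℕ) (c : C) :
    extFam J JB g hg n (AdicCompletion.of J C c) = Ideal.Quotient.mk (JB ^ n) (g c) := by
  simp only [extFam, RingHom.coe_comp, Function.comp_apply, RingHom.coe_coe]
  rw [AdicCompletion.evalₐ_of, Ideal.quotientMap_mk]

lemma extFam_compat {m n : ℕ} (hle : m ≤ n) :
    (Ideal.Quotient.factorPow JB hle).comp (extFam J JB g hg n) = extFam J JB g hg m := by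
  ext x
  obtain ⟨s, rfl⟩ := AdicCompletion.mk_surjective J C x
  rw [RingHom.comp_apply, extFam_mk, extFam_mk, Ideal.Quotient.factor_mk, Ideal.Quotient.eq,
    ← map_sub]
  have h1 : s n - s m ∈ J ^ m := by
    have h2 := s.property hle
    rw [SModEq.sub_mem] at h2
    have h3 : s m - s n ∈ J ^ m := by simpa using h2
    have h4 := (J ^ m).neg_mem h3
    simpa using h4
  exact pow_le_comap J JB g hg m h1

variable [IsAdicComplete JB B]

/-- the extension of `g : C →+* B` to the `J`-adic completion of `C`. -/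
noncomputable def ext : AdicCompletion J C →+* B :=
  IsAdicComplete.liftRingHom JB (extFam J JB g hg) (fun hle => extFam_compat J JB g hg hle)

lemma mk_ext (n : ℕ) (x : AdicCompletion J C) :
    Ideal.Quotient.mk (JB ^ n) (ext J JB g hg x) = extFam J JB g hg n x :=
  IsAdicComplete.mk_liftRingHom JB (extFam J JB g hg) (fun hle => extFam_compat J JB g hg hle) n x

lemma ext_of (c : C) : ext J JB g hg (AdicCompletion.of J C c) = g c := by
  have h : (fun c : C => ext J JB g hg (AdicCompletion.of J C c)) = fun c => g c := by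
    apply IsHausdorff.funext' JB
    intro n r
    rw [mk_ext, extFam_of]
  exact congrFun h c

end

section
variable {C B : Type*} [CommRing C] [CommRing B] (J : Ideal C) (JB : Ideal B)

/-- A ring hom out of the completion mapping `J` into `JB` maps `J ^ n • ⊤` into `JB ^ n`. -/
lemma map_mem_pow (ψ : AdicCompletion J C →+* B)
    (hψ : J.map (ψ.comp (algebraMap C (AdicCompletion J C))) ≤ JB) (n : ℕ)
    (z : AdicCompletion J C) (hz : z ∈ (J ^ n • ⊤ : Submodule C (AdicCompletion J C))) :
    ψ z ∈ JB ^ n := by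
  refine Submodule.smul_induction_on hz (fun a ha y _ => ?_) (fun x y hx hy => ?_)
  · rw [Algebra.smul_def, map_mul]
    apply Ideal.mul_mem_right
    have h1 : (ψ.comp (algebraMap C (AdicCompletion J C))) a ∈
        (J ^ n).map (ψ.comp (algebraMap C (AdicCompletion J C))) := Ideal.mem_map_of_mem _ ha
    rw [Ideal.map_pow] at h1
    exact Ideal.pow_right_mono hψ n h1
  · rw [map_add]
    exact Ideal.add_mem _ hx hy

/-- density: two ring homs from the completion, both `J`-adically continuous, agreeing on the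
image of `C`, agree. -/
lemma ringHom_ext_of_dense [IsHausdorff JB B] (hJ : J.FG) (ψ₁ ψ₂ : AdicCompletion J C →+* B)
    (h₁ : J.map (ψ₁.comp (algebraMap C (AdicCompletion J C))) ≤ JB)
    (h₂ : J.map (ψ₂.comp (algebraMap C (AdicCompletion J C))) ≤ JB)
    (h : ∀ c : C, ψ₁ (AdicCompletion.of J C c) = ψ₂ (AdicCompletion.of J C c)) :
    ψ₁ = ψ₂ := by
  apply DFunLike.coe_injective
  apply IsHausdorff.funext' JB
  intro n x
  obtain ⟨c, hc⟩ := Submodule.Quotient.mk_surjective _ (AdicCompletion.eval J C n x)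
  have hker : x - AdicCompletion.of J C c ∈ (J ^ n • ⊤ : Submodule C (AdicCompletion J C)) := by
    rw [AdicCompletion.pow_smul_top_eq_ker_eval hJ, LinearMap.mem_ker, map_sub, sub_eq_zero,
      ← hc]
    rfl
  have e1 := map_mem_pow J JB ψ₁ h₁ n _ hker
  have e2 := map_mem_pow J JB ψ₂ h₂ n _ hker
  rw [Ideal.Quotient.eq]
  have e3 : ψ₁ x - ψ₂ x = ψ₁ (x - AdicCompletion.of J C c) - ψ₂ (x - AdicCompletion.of J C c) := by
    rw [map_sub, map_sub, h c]; ring
  rw [e3]
  exact Ideal.sub_mem _ e1 e2

end

end Groth.Agent.Lib.AdicLift
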