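import Mathlib

/-!
# Complete filtered rings: a filtration with finitely generated graded pieces is adic (helper5)
APPEND-ONLY once landed.

`le_pow_of_approx`: let `L` be a ring which is complete and separated for a decreasing chain of
ideals `F n`, and `I` a finitely generated ideal with `I^(n+1) ≤ F n ≤ I^(n+1) ⊔ F (n+1)`.
Then `F n = I^(n+1)` (successive approximation; EGA 0_I 7.2.7).
-/

set_option autoImplicit false
universe u

namespace Groth.Agent.AdicLim

open Finset

section Approx

variable {L : Type u} [CommRing L] (F : ℕ → Ideal L) (I : Ideal L)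

theorem F_anti' (hanti : ∀ n, F (n + 1) ≤ F n) {a b : ℕ} (h : a ≤ b) : F b ≤ F a := by
  induction b, h using Nat.le_induction with
  | base => exact le_rfl
  | succ b _ ih => exact (hanti b).trans ih

/-- successive approximation. -/
theorem le_pow_of_approx (hI : I.FG) (hanti : ∀ n, F (n + 1) ≤ F n)
    (hIF : ∀ n, I ^ (n + 1) ≤ F n) (hstep : ∀ n, F n ≤ I ^ (n + 1) ⊔ F (n + 1))
    (hsep : ∀ x, (∀ n, x ∈ F n) → x = 0)
    (hcompl : ∀ u : ℕ → L, (∀ k, u (k + 1) - u k ∈ F k) → ∃ l, ∀ k, l - u k ∈ F k)
    (n : ℕ) : F n ≤ I ^ (n + 1) := by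
  classical
  intro x hx
  obtain ⟨s, g, hg⟩ := Submodule.fg_iff_exists_fin_generating_family.mp
    (Ideal.FG.pow (n := n + 1) hI)
  have hanti' : ∀ {a b : ℕ}, a ≤ b → F b ≤ F a := fun h => F_anti' F hanti h
  -- one approximation step
  have hstep' : ∀ (k : ℕ) (z : L), z ∈ F (n + k) →
      ∃ c : Fin s → L, (∀ j, c j ∈ I ^ k) ∧ z - ∑ j, c j * g j ∈ F (n + k + 1) := by
    intro k z hz
    obtain ⟨y, hy, w, hw, rfl⟩ := Submodule.mem_sup.mp (hstep (n + k) hz)
    have hy' : y ∈ (I ^ k) • Submodule.span L (Set.range g) := by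
      rw [hg, smul_eq_mul, ← pow_add]
      have : k + (n + 1) = n + k + 1 := by omega
      rw [this]
      exact hy
    obtain ⟨a, ha, rfl⟩ := (Submodule.mem_ideal_smul_span_iff_exists_sum (I ^ k) g y).mp hy'
    refine ⟨fun j => a j, ha, ?_⟩
    have h1 : (a.sum fun i c => c • g i) = ∑ j, a j * g j := by
      rw [Finsupp.sum_fintype]
      · rfl
      · intro i; exact zero_smul _ _
    rw [h1, add_sub_cancel_left]
    exact hw
  choose c hcI hcF using hstep'
  -- the sequence of remainders
  let z : ∀ k, {z : L // z ∈ F (n + k)} := fun k =>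
    Nat.rec (motive := fun k => {z : L // z ∈ F (n + k)}) ⟨x, hx⟩
      (fun k zk => ⟨zk.1 - ∑ j, c k zk.1 zk.2 j * g j, hcF k zk.1 zk.2⟩) k
  -- coefficients at step k
  let ck : ℕ → Fin s → L := fun k => c k (z k).1 (z k).2
  have hz_succ : ∀ k, ((z (k + 1)).1 : L) = (z k).1 - ∑ j, ck k j * g j := fun k => rfl
  have hck : ∀ k j, ck k j ∈ I ^ k := fun k j => hcI k (z k).1 (z k).2 j
  -- partial sums
  let S : ℕ → Fin s → L := fun K j => ∑ k ∈ range K, ck k j
  have hS : ∀ K, ((z K).1 : L) = x - ∑ j, S K j * g j := by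
    intro K
    induction K with
    | zero => simp [S, z]
    | succ K ih =>
      rw [hz_succ, ih]
      have : ∀ j, S (K + 1) j = S K j + ck K j := fun j => Finset.sum_range_succ _ _
      simp only [this, add_mul, Finset.sum_add_distrib]
      ring
  -- limits of the coefficients
  have hlim : ∀ j, ∃ l, ∀ K, l - S (K + 1) j ∈ F K := by
    intro j
    apply hcompl (fun K => S (K + 1) j)
    intro K
    have : S (K + 1 + 1) j - S (K + 1) j = ck (K + 1) j := by
      simp only [S]
      rw [Finset.sum_range_succ (fun k => ck k j) (K + 1)]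
      ring
    rw [this]
    exact hIF K (hck (K + 1) j)
  choose l hl using hlim
  -- x is the combination with coefficients l
  have hx' : x = ∑ j, l j * g j := by
    rw [← sub_eq_zero]
    apply hsep
    intro K
    have h1 : x - ∑ j, l j * g j =
        (z (K + 1)).1 - ∑ j, (l j - S (K + 1) j) * g j := by
      rw [hS (K + 1)]
      simp only [sub_mul, Finset.sum_sub_distrib]
      ring
    rw [h1]
    refine (F K).sub_mem (hanti' (by omega) (z (K + 1)).2) ?_
    exact (F K).sum_mem (fun j _ => (F K).mul_mem_right _ (hl j K))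
  rw [hx', ← hg]
  exact Submodule.sum_mem _ (fun j _ =>
    Submodule.smul_mem _ _ (Submodule.subset_span (Set.mem_range_self j)))

end Approx

end Groth.Agent.AdicLim
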