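import Mathlib
import Groth.Agent.Lib.AdicLim1_helper5
import Groth.Agent.Lib.CompleteNoeth_lead

/-!
# Inverse limits of adic towers of rings (helper5)
APPEND-ONLY once landed.

For a tower of surjective ring maps `φ n : R (n+1) →+* R n` with
`ker (φ n) = (ker (R (n+1) → R 0))^(n+1)`, `ker (φ 0)` finitely generated and `R 0` Noetherian, the
inverse limit `A` is Noetherian, `J`-adically complete for `J = ker (A → R 0)`, and
`A ⧸ J^(n+1) ≃ R n` compatibly (EGA 0_I 7.2.7/7.2.8, EGA I 10.6.3–10.6.4).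
-/

set_option autoImplicit false
universe u

namespace Groth.Agent.AdicLim

section Lim

variable (R : ℕ → Type u) [∀ n, CommRing (R n)] (φ : ∀ n, R (n + 1) →+* R n)

/-- The inverse limit of the tower, as a subring of the product. -/
def Lim : Subring (∀ n, R n) where
  carrier := {s | ∀ n, φ n (s (n + 1)) = s n}
  mul_mem' := by
    intro a b ha hb n
    show φ n (a (n + 1) * b (n + 1)) = a n * b n
    rw [map_mul, ha n, hb n]
  one_mem' := by
    intro n
    show φ n 1 = 1
    exact map_one _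
  add_mem' := by
    intro a b ha hb n
    show φ n (a (n + 1) + b (n + 1)) = a n + b n
    rw [map_add, ha n, hb n]
  zero_mem' := by
    intro n
    show φ n 0 = 0
    exact map_zero _
  neg_mem' := by
    intro a ha n
    show φ n (- a (n + 1)) = - a n
    rw [map_neg, ha n]

/-- The projection of the limit to level `n`. -/
def proj (n : ℕ) : Lim R φ →+* R n := (Pi.evalRingHom R n).comp (Lim R φ).subtype

theorem proj_apply (n : ℕ) (x : Lim R φ) : proj R φ n x = x.1 n := rfl

theorem φ_proj (n : ℕ) (x : Lim R φ) : φ n (proj R φ (n + 1) x) = proj R φ n x := x.2 n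

theorem φ_comp_proj (n : ℕ) : (φ n).comp (proj R φ (n + 1)) = proj R φ n :=
  RingHom.ext (φ_proj R φ n)

theorem lim_ext {x y : Lim R φ} (h : ∀ n, proj R φ n x = proj R φ n y) : x = y :=
  Subtype.ext (funext h)

end Lim

/-- Any element of a level of a tower of surjections lifts to a compatible family. -/
theorem exists_compat : ∀ (n : ℕ) (R : ℕ → Type u) [∀ n, CommRing (R n)]
    (φ : ∀ n, R (n + 1) →+* R n) (_ : ∀ n, Function.Surjective (φ n)) (x : R n),
    ∃ s : ∀ k, R k, (∀ k, φ k (s (k + 1)) = s k) ∧ s n = x := by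
  intro n
  induction n with
  | zero =>
    intro R _ φ hφ x
    refine ⟨fun k => Nat.rec (motive := fun k => R k) x
      (fun k sk => Function.surjInv (hφ k) sk) k, ?_, rfl⟩
    intro k
    exact Function.surjInv_eq (hφ k) _
  | succ n ih =>
    intro R _ φ hφ x
    obtain ⟨s', hs', hx⟩ := ih (fun k => R (k + 1)) (fun k => φ (k + 1)) (fun k => hφ (k + 1)) x
    refine ⟨fun k => Nat.casesOn (motive := fun k => R k) k (φ 0 (s' 0)) (fun k => s' k), ?_, hx⟩
    intro k
    cases k with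
    | zero => rfl
    | succ k => exact hs' k

section Tower

variable (R : ℕ → Type u) [∀ n, CommRing (R n)] (φ : ∀ n, R (n + 1) →+* R n)

theorem proj_surjective (hφ : ∀ n, Function.Surjective (φ n)) (n : ℕ) :
    Function.Surjective (proj R φ n) := by
  intro x
  obtain ⟨s, hs, hx⟩ := exists_compat n R φ hφ x
  exact ⟨⟨s, hs⟩, hx⟩

/-- The filtration of the limit by the kernels of the projections. -/
def Fil (n : ℕ) : Ideal (Lim R φ) := RingHom.ker (proj R φ n)

theorem mem_Fil {n : ℕ} {x : Lim R φ} : x ∈ Fil R φ n ↔ proj R φ n x = 0 := RingHom.mem_ker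

theorem Fil_anti (n : ℕ) : Fil R φ (n + 1) ≤ Fil R φ n := by
  intro x hx
  rw [mem_Fil] at hx ⊢
  rw [← φ_proj, hx, map_zero]

theorem Fil_sep (x : Lim R φ) (h : ∀ n, x ∈ Fil R φ n) : x = 0 :=
  lim_ext R φ (fun n => by rw [map_zero]; exact (mem_Fil R φ).mp (h n))

theorem Fil_compl (u : ℕ → Lim R φ) (h : ∀ k, u (k + 1) - u k ∈ Fil R φ k) :
    ∃ l, ∀ k, l - u k ∈ Fil R φ k := by
  have h' : ∀ k, proj R φ k (u (k + 1)) = proj R φ k (u k) := by
    intro k
    have := (mem_Fil R φ).mp (h k)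
    rwa [map_sub, sub_eq_zero] at this
  refine ⟨⟨fun k => proj R φ k (u k), ?_⟩, ?_⟩
  · intro k
    show φ k (proj R φ (k + 1) (u (k + 1))) = proj R φ k (u k)
    rw [φ_proj, h']
  · intro k
    rw [mem_Fil, map_sub, sub_eq_zero]
    rfl

/-- The composite `R n → R 0`. -/
def toZero : ∀ n, R n →+* R 0
  | 0 => RingHom.id _
  | n + 1 => (toZero n).comp (φ n)

theorem toZero_succ (n : ℕ) : toZero R φ (n + 1) = (toZero R φ n).comp (φ n) := rfl

theorem toZero_comp_proj (n : ℕ) : (toZero R φ n).comp (proj R φ n) = proj R φ 0 := by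
  induction n with
  | zero => rfl
  | succ n ih =>
    rw [toZero_succ, RingHom.comp_assoc, φ_comp_proj, ih]

end Tower

section Adic

variable (R : ℕ → Type u) [∀ n, CommRing (R n)] (φ : ∀ n, R (n + 1) →+* R n)

theorem ker_toZero (hφ : ∀ n, Function.Surjective (φ n)) (n : ℕ) :
    RingHom.ker (toZero R φ n) = (Fil R φ 0).map (proj R φ n) := by
  have hs := proj_surjective R φ hφ n
  rw [← Ideal.map_comap_of_surjective _ hs (RingHom.ker (toZero R φ n))]
  congr 1
  rw [RingHom.comap_ker, toZero_comp_proj]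
  rfl

variable (hφ : ∀ n, Function.Surjective (φ n))
  (hadic : ∀ n, RingHom.ker (φ n) = (RingHom.ker (toZero R φ (n + 1))) ^ (n + 1))

include hφ hadic

theorem Fil_eq (n : ℕ) : Fil R φ n = (Fil R φ 0) ^ (n + 1) ⊔ Fil R φ (n + 1) := by
  have hs := proj_surjective R φ hφ (n + 1)
  have h1 : Fil R φ n = (RingHom.ker (φ n)).comap (proj R φ (n + 1)) := by
    rw [RingHom.comap_ker, φ_comp_proj]
    rfl
  rw [h1, hadic n, ker_toZero R φ hφ (n + 1), ← Ideal.map_pow,
    Ideal.comap_map_of_surjective _ hs]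
  rfl

theorem pow_le_Fil (n : ℕ) : (Fil R φ 0) ^ (n + 1) ≤ Fil R φ n := by
  rw [Fil_eq R φ hφ hadic n]
  exact le_sup_left

theorem Fil_eq' (a m : ℕ) (h : a ≤ m) : Fil R φ a = (Fil R φ 0) ^ (a + 1) ⊔ Fil R φ m := by
  induction m, h using Nat.le_induction with
  | base => exact (sup_eq_right.mpr (pow_le_Fil R φ hφ hadic a)).symm
  | succ m hm ih =>
    rw [ih, Fil_eq R φ hφ hadic m, ← sup_assoc]
    congr 1
    exact sup_eq_left.mpr (Ideal.pow_le_pow_right (by omega))

theorem Fil_mul_le (a b : ℕ) : Fil R φ a * Fil R φ b ≤ Fil R φ (a + b + 1) := by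
  rw [Fil_eq' R φ hφ hadic a (a + b + 1) (by omega), Fil_eq' R φ hφ hadic b (a + b + 1) (by omega)]
  rw [Ideal.mul_le]
  intro x hx y hy
  obtain ⟨j, hj, f, hf, rfl⟩ := Submodule.mem_sup.mp hx
  obtain ⟨j', hj', f', hf', rfl⟩ := Submodule.mem_sup.mp hy
  have e : (j + f) * (j' + f') = j * j' + (j * f' + f * (j' + f')) := by ring
  rw [e]
  refine Ideal.add_mem _ ?_ (Ideal.add_mem _ (Ideal.mul_mem_left _ _ hf') (Ideal.mul_mem_right _ _ hf))
  apply pow_le_Fil R φ hφ hadic (a + b + 1)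
  have : a + b + 1 + 1 = (a + 1) + (b + 1) := by omega
  rw [this, pow_add]
  exact Ideal.mul_mem_mul hj hj'

/-- `Fil 0` is generated by finitely many elements modulo `Fil 1`. -/
theorem exists_fg_sup (hfg : (RingHom.ker (φ 0)).FG) :
    ∃ I : Ideal (Lim R φ), I.FG ∧ I ≤ Fil R φ 0 ∧ Fil R φ 0 ≤ I ⊔ Fil R φ 1 := by
  classical
  have hs := proj_surjective R φ hφ 1
  have hK : RingHom.ker (φ 0) = (Fil R φ 0).map (proj R φ 1) := by
    rw [hadic 0, pow_one, ker_toZero R φ hφ 1]
  obtain ⟨s, hs'⟩ := hfg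
  have hlift : ∀ g ∈ s, ∃ x ∈ Fil R φ 0, proj R φ 1 x = g := by
    intro g hg
    have : g ∈ (Fil R φ 0).map (proj R φ 1) := by
      rw [← hK, ← hs']
      exact Ideal.subset_span hg
    exact (Ideal.mem_map_iff_of_surjective _ hs).mp this
  choose! x hx hxg using hlift
  refine ⟨Ideal.span (x '' (s : Set (R 1))), ?_, ?_, ?_⟩
  · refine ⟨s.image x, ?_⟩
    rw [Finset.coe_image]
  · rw [Ideal.span_le]
    rintro _ ⟨g, hg, rfl⟩
    exact hx g hg
  · have h1 : (Ideal.span (x '' (s : Set (R 1)))).map (proj R φ 1) = (Fil R φ 0).map (proj R φ 1) := by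
      rw [Ideal.map_span, ← hK, ← hs']
      congr 1
      ext g
      constructor
      · rintro ⟨_, ⟨g', hg', rfl⟩, rfl⟩
        rw [hxg g' hg']
        exact hg'
      · intro hg
        exact ⟨x g, ⟨g, hg, rfl⟩, hxg g hg⟩
    calc Fil R φ 0 ≤ ((Fil R φ 0).map (proj R φ 1)).comap (proj R φ 1) := Ideal.le_comap_map
      _ = _ := by
        rw [← h1, Ideal.comap_map_of_surjective _ hs]
        rfl

theorem pow_le_sup_Fil (I : Ideal (Lim R φ)) (hI : I ≤ Fil R φ 0) (hJ : Fil R φ 0 ≤ I ⊔ Fil R φ 1)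
    (n : ℕ) : (Fil R φ 0) ^ (n + 1) ≤ I ^ (n + 1) ⊔ Fil R φ (n + 1) := by
  induction n with
  | zero => simpa using hJ
  | succ n ih =>
    have hanti : ∀ {a b : ℕ}, a ≤ b → Fil R φ b ≤ Fil R φ a :=
      fun h => F_anti' (Fil R φ) (Fil_anti R φ) h
    rw [pow_succ' (Fil R φ 0) (n + 1)]
    refine (Ideal.mul_mono hJ ih).trans ?_
    rw [Ideal.mul_le]
    intro a ha b hb
    obtain ⟨a1, ha1, a2, ha2, rfl⟩ := Submodule.mem_sup.mp ha
    obtain ⟨b1, hb1, b2, hb2, rfl⟩ := Submodule.mem_sup.mp hb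
    have e : (a1 + a2) * (b1 + b2) = a1 * b1 + (a1 * b2 + a2 * b1 + a2 * b2) := by ring
    rw [e]
    refine Submodule.add_mem_sup ?_ ?_
    · rw [pow_succ' I (n + 1)]
      exact Ideal.mul_mem_mul ha1 hb1
    · refine Ideal.add_mem _ (Ideal.add_mem _ ?_ ?_) ?_
      · have := Fil_mul_le R φ hφ hadic 0 (n + 1) (Ideal.mul_mem_mul (hI ha1) hb2)
        simpa using this
      · have hb1' : b1 ∈ Fil R φ n :=
          pow_le_Fil R φ hφ hadic n (Ideal.pow_right_mono hI (n + 1) hb1)
        have := Fil_mul_le R φ hφ hadic 1 n (Ideal.mul_mem_mul ha2 hb1')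
        exact hanti (by omega) this
      · have := Fil_mul_le R φ hφ hadic 1 (n + 1) (Ideal.mul_mem_mul ha2 hb2)
        exact hanti (by omega) this

/-- The kernel filtration of an adic tower is the adic filtration. -/
theorem Fil_eq_pow (hfg : (RingHom.ker (φ 0)).FG) (n : ℕ) :
    Fil R φ n = (Fil R φ 0) ^ (n + 1) ∧ (Fil R φ 0).FG := by
  obtain ⟨I, hIfg, hI, hJ⟩ := exists_fg_sup R φ hφ hadic hfg
  have key : ∀ n, Fil R φ n ≤ I ^ (n + 1) := by
    intro n
    refine le_pow_of_approx (Fil R φ) I hIfg (Fil_anti R φ) ?_ ?_ (Fil_sep R φ) (Fil_compl R φ) n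
    · intro n
      exact (Ideal.pow_right_mono hI (n + 1)).trans (pow_le_Fil R φ hφ hadic n)
    · intro n
      rw [Fil_eq R φ hφ hadic n]
      exact sup_le (pow_le_sup_Fil R φ hφ hadic I hI hJ n) le_sup_right
  refine ⟨le_antisymm ((key n).trans (Ideal.pow_right_mono hI (n + 1)))
    (pow_le_Fil R φ hφ hadic n), ?_⟩
  have : Fil R φ 0 = I := le_antisymm (by simpa using key 0) hI
  rw [this]
  exact hIfg

end Adic

section Main

variable (R : ℕ → Type u) [∀ n, CommRing (R n)] (φ : ∀ n, R (n + 1) →+* R n)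
  (hφ : ∀ n, Function.Surjective (φ n))
  (hadic : ∀ n, RingHom.ker (φ n) = (RingHom.ker (toZero R φ (n + 1))) ^ (n + 1))
  (hfg : (RingHom.ker (φ 0)).FG)

include hφ hadic hfg

theorem isAdicComplete_Lim : IsAdicComplete (Fil R φ 0) (Lim R φ) := by
  have hF : ∀ n, Fil R φ n = (Fil R φ 0) ^ (n + 1) := fun n => (Fil_eq_pow R φ hφ hadic hfg n).1
  refine { toIsHausdorff := ⟨?_⟩, toIsPrecomplete := ⟨?_⟩ }
  · intro x hx
    apply Fil_sep R φ
    intro n
    rw [hF n]
    have := hx (n + 1)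
    rw [SModEq.zero, smul_eq_mul, Ideal.mul_top] at this
    exact this
  · intro f hf
    obtain ⟨l, hl⟩ := Fil_compl R φ (fun k => f (k + 1)) (by
      intro k
      have := hf (Nat.le_succ (k + 1))
      rw [SModEq.sub_mem, smul_eq_mul, Ideal.mul_top, ← hF k] at this
      have h2 := (Fil R φ k).neg_mem this
      rwa [neg_sub] at h2)
    refine ⟨l, fun n => ?_⟩
    cases n with
    | zero =>
      rw [pow_zero, Ideal.one_eq_top, smul_eq_mul, Ideal.mul_top]
      exact SModEq.top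
    | succ k =>
      rw [SModEq.sub_mem, smul_eq_mul, Ideal.mul_top, ← hF k]
      have h2 := (Fil R φ k).neg_mem (hl k)
      rwa [neg_sub] at h2

theorem isNoetherianRing_Lim [IsNoetherianRing (R 0)] : IsNoetherianRing (Lim R φ) := by
  haveI := isAdicComplete_Lim R φ hφ hadic hfg
  haveI : IsNoetherianRing (Lim R φ ⧸ Fil R φ 0) :=
    isNoetherianRing_of_ringEquiv (R 0)
      (RingHom.quotientKerEquivOfSurjective (proj_surjective R φ hφ 0)).symm
  obtain ⟨n, x, hx⟩ := Submodule.fg_iff_exists_fin_generating_family.mp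
    (Fil_eq_pow R φ hφ hadic hfg 0).2
  refine Groth.Agent.Lib.CompleteNoethLead.isNoetherianRing_of_isAdicComplete (Fil R φ 0) x ?_ ?_
  · intro i
    rw [← hx]
    exact Submodule.subset_span (Set.mem_range_self i)
  · have : Ideal.span (Set.range x) = Fil R φ 0 := hx
    rw [this]
    exact le_sup_left

/-- The comparison isomorphisms `A ⧸ J^(n+1) ≃ R n`. -/
noncomputable def quotEquiv (n : ℕ) : (Lim R φ ⧸ (Fil R φ 0) ^ (n + 1)) ≃+* R n :=
  (Ideal.quotEquivOfEq ((Fil_eq_pow R φ hφ hadic hfg n).1.symm)).trans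
    (RingHom.quotientKerEquivOfSurjective (proj_surjective R φ hφ n))

theorem quotEquiv_mk (n : ℕ) (x : Lim R φ) :
    quotEquiv R φ hφ hadic hfg n (Ideal.Quotient.mk _ x) = proj R φ n x := rfl

theorem quotEquiv_compat (n : ℕ) :
    (φ n).comp (quotEquiv R φ hφ hadic hfg (n + 1)).toRingHom =
      (quotEquiv R φ hφ hadic hfg n).toRingHom.comp
        (Ideal.Quotient.factor (Ideal.pow_le_pow_right (Nat.le_succ (n + 1)))) := by
  apply Ideal.Quotient.ringHom_ext
  ext x
  exact φ_proj R φ n x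

/-- **Main algebraic theorem**: an adic tower over a Noetherian base is the tower of quotients
of a complete Noetherian adic ring. -/
theorem exists_adic_ring [IsNoetherianRing (R 0)] :
    ∃ (A : Type u) (_ : CommRing A) (J : Ideal A), IsNoetherianRing A ∧ IsAdicComplete J A ∧
      ∃ e : ∀ n, (A ⧸ J ^ (n + 1)) ≃+* R n,
        ∀ n, (φ n).comp (e (n + 1)).toRingHom =
          (e n).toRingHom.comp
            (Ideal.Quotient.factor (Ideal.pow_le_pow_right (Nat.le_succ (n + 1)))) :=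
  ⟨Lim R φ, inferInstance, Fil R φ 0, isNoetherianRing_Lim R φ hφ hadic hfg,
    isAdicComplete_Lim R φ hφ hadic hfg, quotEquiv R φ hφ hadic hfg,
    quotEquiv_compat R φ hφ hadic hfg⟩

end Main

end Groth.Agent.AdicLim
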