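import Mathlib
import Groth.Prelude
import Groth.Agent.Lib.Tens1_helper8

/-!
# Morphisms of `O_X`-modules from data on a basis of opens (helper7)

`BasisHomH7.Data M N B`: additive maps `Γ(M, U) → Γ(N, U)` for `U` in a basis `B`, compatible with
restriction and linear.  `BasisHomH7.hom` glues them to a morphism `M ⟶ N`
(`ap_hom_basis`), unique by `hom_ext_basis`; `isIso_of_bijective_basis`: a morphism bijective on
sections over the members of a basis is an isomorphism.
APPEND-ONLY once landed.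
-/

set_option autoImplicit false
set_option linter.style.haveILetI false

universe u

open CategoryTheory CategoryTheory.Limits AlgebraicGeometry Opposite TopologicalSpace
open QcqsLoc QCohExtn

namespace Groth.Agent.Lib.BasisHomH7

variable {X : Scheme.{u}}

/-- Linear maps on sections over the members of a family `B` of opens, compatible with
restriction. -/
structure Data (M N : X.Modules) (B : Set X.Opens) where
  /-- the maps -/
  ψ : ∀ U : X.Opens, U ∈ B → (Γ(M, U) →+ Γ(N, U))
  /-- compatibility with restriction -/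
  res : ∀ (U V : X.Opens) (hU : U ∈ B) (hV : V ∈ B) (h : V ≤ U) (x : Γ(M, U)),
    rF N h (ψ U hU x) = ψ V hV (rF M h x)
  /-- linearity -/
  lin : ∀ (U : X.Opens) (hU : U ∈ B) (r : Γ(X, U)) (x : Γ(M, U)),
    ψ U hU (r • x) = r • ψ U hU x

variable {M N : X.Modules} {B : Set X.Opens} (hB : Opens.IsBasis B) (d : Data M N B)

include hB in
theorem eq_of_basis (O : X.Opens) (y y' : Γ(N, O))
    (h : ∀ (V : X.Opens) (_ : V ∈ B) (hVO : V ≤ O), rF N hVO y = rF N hVO y') : y = y' := by
  apply eq_of_cover N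
  intro p hp
  obtain ⟨V, hVB, hpV, hVO⟩ := Opens.isBasis_iff_nbhd.mp hB hp
  exact ⟨V, hVO, hpV, h V hVB hVO⟩

include hB in
theorem exists_glue (O : X.Opens) (x : Γ(M, O)) :
    ∃ y : Γ(N, O), ∀ (V : X.Opens) (hV : V ∈ B) (h : V ≤ O),
      rF N h y = d.ψ V hV (rF M h x) := by
  let ι := {V : X.Opens // V ∈ B ∧ V ≤ O}
  have hcov : O ≤ ⨆ i : ι, i.1 := by
    intro p hp
    obtain ⟨V, hVB, hpV, hVO⟩ := Opens.isBasis_iff_nbhd.mp hB hp
    exact Opens.mem_iSup.mpr ⟨⟨V, hVB, hVO⟩, hpV⟩
  have hcompat : ∀ i j : ι,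
      rF N (inf_le_left : i.1 ⊓ j.1 ≤ i.1) (d.ψ i.1 i.2.1 (rF M i.2.2 x)) =
      rF N (inf_le_right : i.1 ⊓ j.1 ≤ j.1) (d.ψ j.1 j.2.1 (rF M j.2.2 x)) := by
    intro i j
    apply eq_of_cover N
    intro p hp
    obtain ⟨W, hWB, hpW, hW⟩ := Opens.isBasis_iff_nbhd.mp hB hp
    refine ⟨W, hW, hpW, ?_⟩
    have e1 : rF N hW (rF N (inf_le_left : i.1 ⊓ j.1 ≤ i.1) (d.ψ i.1 i.2.1 (rF M i.2.2 x))) =
        d.ψ W hWB (rF M (hW.trans (inf_le_left.trans i.2.2)) x) := by
      rw [rF_rF, d.res i.1 W i.2.1 hWB (hW.trans inf_le_left), rF_rF]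
    have e2 : rF N hW (rF N (inf_le_right : i.1 ⊓ j.1 ≤ j.1) (d.ψ j.1 j.2.1 (rF M j.2.2 x))) =
        d.ψ W hWB (rF M (hW.trans (inf_le_left.trans i.2.2)) x) := by
      rw [rF_rF, d.res j.1 W j.2.1 hWB (hW.trans inf_le_right), rF_rF]
    exact e1.trans e2.symm
  obtain ⟨t, ht⟩ := TensH8.glue N (fun i : ι => i.1) O (fun i => i.2.2) hcov
    (fun i => d.ψ i.1 i.2.1 (rF M i.2.2 x)) hcompat
  exact ⟨t, fun V hV h => ht ⟨V, hV, h⟩⟩

/-- The glued map on sections over an arbitrary open. -/
noncomputable def glueFun (O : X.Opens) (x : Γ(M, O)) : Γ(N, O) :=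
  Classical.choose (exists_glue hB d O x)

theorem glueFun_spec (O : X.Opens) (x : Γ(M, O)) (V : X.Opens) (hV : V ∈ B) (h : V ≤ O) :
    rF N h (glueFun hB d O x) = d.ψ V hV (rF M h x) :=
  Classical.choose_spec (exists_glue hB d O x) V hV h

theorem glueFun_unique (O : X.Opens) (x : Γ(M, O)) (y : Γ(N, O))
    (h : ∀ (V : X.Opens) (hV : V ∈ B) (hVO : V ≤ O), rF N hVO y = d.ψ V hV (rF M hVO x)) :
    y = glueFun hB d O x :=
  eq_of_basis hB O _ _
    (fun V hV hVO => (h V hV hVO).trans (glueFun_spec hB d O x V hV hVO).symm)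

theorem glueFun_add (O : X.Opens) (x x' : Γ(M, O)) :
    glueFun hB d O (x + x') = glueFun hB d O x + glueFun hB d O x' := by
  symm
  apply glueFun_unique
  intro V hV hVO
  rw [map_add, map_add, map_add, glueFun_spec hB d O x V hV hVO,
    glueFun_spec hB d O x' V hV hVO]

/-- The glued additive map. -/
noncomputable def glueHom (O : X.Opens) : Γ(M, O) →+ Γ(N, O) :=
  AddMonoidHom.mk' (glueFun hB d O) (glueFun_add hB d O)

theorem glueHom_apply (O : X.Opens) (x : Γ(M, O)) : glueHom hB d O x = glueFun hB d O x := rfl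

theorem glueHom_res {O O' : X.Opens} (h : O' ≤ O) (x : Γ(M, O)) :
    rF N h (glueHom hB d O x) = glueHom hB d O' (rF M h x) := by
  rw [glueHom_apply, glueHom_apply]
  apply glueFun_unique
  intro V hV hVO
  rw [rF_rF, rF_rF]
  exact glueFun_spec hB d O x V hV (hVO.trans h)

theorem glueHom_smul (O : X.Opens) (r : Γ(X, O)) (x : Γ(M, O)) :
    glueHom hB d O (r • x) = r • glueHom hB d O x := by
  rw [glueHom_apply, glueHom_apply]
  symm
  apply glueFun_unique
  intro V hV hVO
  rw [rF_smul, rF_smul, d.lin, glueFun_spec hB d O x V hV hVO]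

theorem glueHom_basis (U : X.Opens) (hU : U ∈ B) (x : Γ(M, U)) :
    glueHom hB d U x = d.ψ U hU x := by
  rw [glueHom_apply]
  symm
  apply glueFun_unique
  intro V hV hVO
  exact d.res U V hU hV hVO x

/-- The natural transformation of abelian presheaves. -/
noncomputable def natTrans : M.val.presheaf ⟶ N.val.presheaf where
  app U := AddCommGrpCat.ofHom (glueHom hB d U.unop)
  naturality U V f := by
    refine AddCommGrpCat.hom_ext (AddMonoidHom.ext fun x => ?_)
    exact (glueHom_res hB d (leOfHom f.unop) x).symm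

/-- The morphism of modules glued from data on a basis. -/
noncomputable def hom : M ⟶ N :=
  ⟨PresheafOfModules.homMk (natTrans hB d) (fun U r m => glueHom_smul hB d U.unop r m)⟩

theorem ap_hom (O : X.Opens) (x : Γ(M, O)) : ap (hom hB d) O x = glueHom hB d O x := rfl

theorem ap_hom_basis (U : X.Opens) (hU : U ∈ B) (x : Γ(M, U)) :
    ap (hom hB d) U x = d.ψ U hU x :=
  glueHom_basis hB d U hU x

include hB in
theorem hom_ext_basis (a b : M ⟶ N)
    (h : ∀ (U : X.Opens) (_ : U ∈ B) (x : Γ(M, U)), ap a U x = ap b U x) : a = b := by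
  refine Scheme.Modules.hom_ext _ _ (fun O => ?_)
  refine AddCommGrpCat.hom_ext (AddMonoidHom.ext fun x => ?_)
  show ap a O x = ap b O x
  refine eq_of_basis hB O _ _ (fun V hV hVO => ?_)
  rw [← ap_rF, ← ap_rF]
  exact h V hV _

/-- The data of the inverses of a morphism that is bijective on sections over the basis. -/
noncomputable def invData (φ : M ⟶ N) (h : ∀ U ∈ B, Function.Bijective (ap φ U)) :
    Data N M B where
  ψ U hU := (AddEquiv.ofBijective (ap φ U) (h U hU)).symm.toAddMonoidHom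
  res U V hU hV hVU y := by
    apply (h V hV).1
    have e1 : ap φ V ((AddEquiv.ofBijective (ap φ V) (h V hV)).symm (rF N hVU y)) = rF N hVU y :=
      (AddEquiv.ofBijective (ap φ V) (h V hV)).apply_symm_apply _
    have e2 : ap φ U ((AddEquiv.ofBijective (ap φ U) (h U hU)).symm y) = y :=
      (AddEquiv.ofBijective (ap φ U) (h U hU)).apply_symm_apply _
    refine (ap_rF φ hVU _).trans ?_
    refine Eq.trans ?_ e1.symm
    exact congrArg (rF N hVU) e2
  lin U hU r y := by
    apply (h U hU).1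
    have e1 : ap φ U ((AddEquiv.ofBijective (ap φ U) (h U hU)).symm (r • y)) = r • y :=
      (AddEquiv.ofBijective (ap φ U) (h U hU)).apply_symm_apply _
    have e2 : ap φ U ((AddEquiv.ofBijective (ap φ U) (h U hU)).symm y) = y :=
      (AddEquiv.ofBijective (ap φ U) (h U hU)).apply_symm_apply _
    refine e1.trans ?_
    refine Eq.trans ?_ (ap_smul φ r _).symm
    exact congrArg (fun z => r • z) e2.symm

include hB in
theorem isIso_of_bijective_basis (φ : M ⟶ N) (h : ∀ U ∈ B, Function.Bijective (ap φ U)) :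
    IsIso φ := by
  refine ⟨hom hB (invData φ h), ?_, ?_⟩
  · apply hom_ext_basis hB
    intro U hU x
    show ap (hom hB (invData φ h)) U (ap φ U x) = x
    rw [ap_hom_basis hB (invData φ h) U hU]
    exact (AddEquiv.ofBijective (ap φ U) (h U hU)).symm_apply_apply x
  · apply hom_ext_basis hB
    intro U hU y
    show ap φ U (ap (hom hB (invData φ h)) U y) = y
    rw [ap_hom_basis hB (invData φ h) U hU]
    exact (AddEquiv.ofBijective (ap φ U) (h U hU)).apply_symm_apply y

end Groth.Agent.Lib.BasisHomH7
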