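import Mathlib
import Groth.Prelude
import Groth.Agent.Lib.OmegaAff_helper4
import Groth.Agent.Lib.WeakAssSch_helper4

/-!
# Sections of the sheaf of differentials over small affine opens (helper4)

For `f : X ⟶ S` quasi-separated, `U ⊆ X`, `V ⊆ S` affine opens with `f(U) ⊆ V`:
`Γ(Ω_{X/S}, U) ≃ Ω[Γ(X,U)/Γ(S,V)]`.
APPEND-ONLY once landed.
-/

set_option autoImplicit false
set_option linter.style.haveILetI false

universe u

open CategoryTheory CategoryTheory.Limits AlgebraicGeometry Opposite TopologicalSpace TensorProduct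
open AlgebraicGeometry.Scheme.Modules

namespace Groth.Agent.Lib.OmegaSecH4

open Groth.Agent.Lib.OmegaAffH4

section Alg

/-- A pushout square `C ← R → C` with a common retraction `ψ` is the tensor square, and `ψ`
becomes the multiplication map. -/
theorem exists_tensor_equiv {R C B : CommRingCat.{u}} (φ : R ⟶ C) (i1 i2 : C ⟶ B)
    (hpo : IsPushout φ φ i1 i2) (ψ : B ⟶ C) (h1 : i1 ≫ ψ = 𝟙 C) (h2 : i2 ≫ ψ = 𝟙 C) :
    letI := φ.hom.toAlgebra
    ∃ e : B ≃+* C ⊗[R] C, ∀ b, Algebra.TensorProduct.lmul' R (e b) = ψ.hom b := by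
  letI alg : Algebra R C := φ.hom.toAlgebra
  have T := CommRingCat.isPushout_tensorProduct R C C
  have hpo' : IsPushout (CommRingCat.ofHom (algebraMap R C)) (CommRingCat.ofHom (algebraMap R C))
      i1 i2 := hpo
  obtain ⟨iso, hl, hr⟩ : ∃ iso : CommRingCat.of (C ⊗[R] C) ≅ B,
      CommRingCat.ofHom (S := C ⊗[R] C) Algebra.TensorProduct.includeLeftRingHom ≫ iso.hom = i1 ∧
      CommRingCat.ofHom (S := C ⊗[R] C) Algebra.TensorProduct.includeRight.toRingHom ≫ iso.hom =
        i2 :=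
    ⟨T.isoIsPushout _ _ hpo', IsPushout.inl_isoIsPushout_hom _ _ _ _,
      IsPushout.inr_isoIsPushout_hom _ _ _ _⟩
  have key : iso.hom ≫ ψ = CommRingCat.ofHom
      (Algebra.TensorProduct.lmul' R : C ⊗[R] C →ₐ[R] C).toRingHom := by
    apply T.hom_ext
    · refine (Category.assoc _ _ _).symm.trans ((congrArg (· ≫ ψ) hl).trans (h1.trans ?_))
      refine CommRingCat.hom_ext (RingHom.ext fun c => ?_)
      show c = Algebra.TensorProduct.lmul' R (c ⊗ₜ[R] (1 : C))
      rw [Algebra.TensorProduct.lmul'_apply_tmul, mul_one]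
    · refine (Category.assoc _ _ _).symm.trans ((congrArg (· ≫ ψ) hr).trans (h2.trans ?_))
      refine CommRingCat.hom_ext (RingHom.ext fun c => ?_)
      show c = Algebra.TensorProduct.lmul' R ((1 : C) ⊗ₜ[R] c)
      rw [Algebra.TensorProduct.lmul'_apply_tmul, one_mul]
  refine ⟨iso.symm.commRingCatIsoToRingEquiv, fun b => ?_⟩
  have h3 : ψ.hom (iso.hom.hom (iso.inv.hom b)) =
      Algebra.TensorProduct.lmul' R (iso.inv.hom b) :=
    congrArg (fun k => k.hom (iso.inv.hom b)) key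
  have h4 : iso.hom.hom (iso.inv.hom b) = b := congrArg (fun k => k.hom b) iso.inv_hom_id
  exact h3.symm.trans (congrArg ψ.hom h4)

end Alg

section Geom

variable {X S : Scheme.{u}} (f : X ⟶ S)

lemma appLE_congr' {X Y : Scheme.{u}} {f g : X ⟶ Y} (h : f = g) (U : Y.Opens) (V : X.Opens)
    (e₁ : V ≤ f ⁻¹ᵁ U) (e₂ : V ≤ g ⁻¹ᵁ U) : f.appLE U V e₁ = g.appLE U V e₂ := by
  subst h; rfl

theorem id_appLE (U : X.Opens) (e : U ≤ (𝟙 X : X ⟶ X) ⁻¹ᵁ U) :
    (𝟙 X : X ⟶ X).appLE U U e = 𝟙 _ := by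
  simp [Scheme.Hom.appLE]
  exact (Category.id_comp _).trans (X.presheaf.map_id _)

theorem res_injective_of_eq (X : Scheme.{u}) {U U' : X.Opens} (h : U ≤ U') (h' : U' ≤ U) :
    Function.Injective (X.presheaf.map (homOfLE h).op).hom := by
  intro a b hab
  have hid : X.presheaf.map (homOfLE h).op ≫ X.presheaf.map (homOfLE h').op = 𝟙 _ := by
    rw [← Functor.map_comp, ← op_comp]
    exact (congrArg (fun k => X.presheaf.map k) (Subsingleton.elim _ _)).trans
      (X.presheaf.map_id _)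
  have e : ∀ c, (X.presheaf.map (homOfLE h').op).hom ((X.presheaf.map (homOfLE h).op).hom c) = c :=
    fun c => congrArg (fun φ => φ.hom c) hid
  exact (e a).symm.trans ((congrArg (X.presheaf.map (homOfLE h').op).hom hab).trans (e b))

/-- The box `U ×_S U` in `X ×_S X`. -/
noncomputable def bx (U : X.Opens) : (pullback f f).Opens :=
  pullback.fst f f ⁻¹ᵁ U ⊓ pullback.snd f f ⁻¹ᵁ U

theorem isAffineOpen_bx {U : X.Opens} (hU : IsAffineOpen U) {V : S.Opens} (hV : IsAffineOpen V)
    (h : U ≤ f ⁻¹ᵁ V) : IsAffineOpen (bx f U) := by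
  haveI : IsAffine (V : Scheme.{u}) := hV
  haveI : IsAffine (U : Scheme.{u}) := hU
  exact IsAffine.of_isIso (Scheme.Hom.isPullback_resLE (IsPullback.of_hasPullback f f) (US := V)
    (UT := U) (UX := U) (UY := bx f U) h h rfl).isoPullback.hom

theorem diag_preimage_bx (U : X.Opens) : (pullback.diagonal f) ⁻¹ᵁ (bx f U) = U := by
  have h1 : (pullback.diagonal f ≫ pullback.fst f f) ⁻¹ᵁ U = U := by
    rw [pullback.diagonal_fst]; rfl
  have h2 : (pullback.diagonal f ≫ pullback.snd f f) ⁻¹ᵁ U = U := by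
    rw [pullback.diagonal_snd]; rfl
  show (pullback.diagonal f ≫ pullback.fst f f) ⁻¹ᵁ U ⊓
    (pullback.diagonal f ≫ pullback.snd f f) ⁻¹ᵁ U = U
  rw [h1, h2, inf_idem]

theorem le_diag (U : X.Opens) : U ≤ (pullback.diagonal f) ⁻¹ᵁ (bx f U) :=
  (diag_preimage_bx f U).ge

theorem isPushout_bx {U : X.Opens} (hU : IsAffineOpen U) {V : S.Opens} (hV : IsAffineOpen V)
    (h : U ≤ f ⁻¹ᵁ V) :
    IsPushout (f.appLE V U h) (f.appLE V U h)
      ((pullback.fst f f).appLE U (bx f U) inf_le_left)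
      ((pullback.snd f f).appLE U (bx f U) inf_le_right) :=
  (isIso_pushoutSection_iff (IsPullback.of_hasPullback f f) h h rfl).mp
    (isIso_pushoutSection_of_isAffineOpen (IsPullback.of_hasPullback f f) h h rfl hV hU hU)

theorem fst_diag (U : X.Opens) :
    (pullback.fst f f).appLE U (bx f U) inf_le_left ≫
      (pullback.diagonal f).appLE (bx f U) U (le_diag f U) = 𝟙 _ := by
  rw [Scheme.Hom.appLE_comp_appLE]
  exact (appLE_congr' (pullback.diagonal_fst f) U U _ le_rfl).trans (id_appLE U le_rfl)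

theorem snd_diag (U : X.Opens) :
    (pullback.snd f f).appLE U (bx f U) inf_le_right ≫
      (pullback.diagonal f).appLE (bx f U) U (le_diag f U) = 𝟙 _ := by
  rw [Scheme.Hom.appLE_comp_appLE]
  exact (appLE_congr' (pullback.diagonal_snd f) U U _ le_rfl).trans (id_appLE U le_rfl)

theorem mem_ker_iff [QuasiSeparated f] {U : X.Opens} (hW : IsAffineOpen (bx f U))
    (b : Γ(pullback f f, bx f U)) :
    b ∈ (pullback.diagonal f).ker.ideal ⟨bx f U, hW⟩ ↔
      ((pullback.diagonal f).appLE (bx f U) U (le_diag f U)).hom b = 0 := by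
  have hk : (pullback.diagonal f).ker.ideal ⟨bx f U, hW⟩ =
      RingHom.ker ((pullback.diagonal f).app (bx f U)).hom := Scheme.Hom.ker_apply _ _
  rw [hk, RingHom.mem_ker]
  constructor
  · intro hb
    exact (congrArg (X.presheaf.map (homOfLE (le_diag f U)).op).hom hb).trans (map_zero _)
  · intro hb
    exact res_injective_of_eq X (le_diag f U) (diag_preimage_bx f U).le
      (hb.trans (map_zero _).symm)

/-- The ideal module of the diagonal. -/
noncomputable abbrev FF' : (pullback f f).Modules := ClSub.idealMod (pullback.diagonal f).ker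

/-- The sheaf of differentials, unfolded. -/
noncomputable abbrev OM' : X.Modules :=
  (Scheme.Modules.pullback (pullback.diagonal f)).obj (FF' f)

set_option maxHeartbeats 1600000 in
theorem omegaSections_aux [QuasiSeparated f] {U : X.Opens} (hU : IsAffineOpen U) {V : S.Opens}
    (hV : IsAffineOpen V) (h : U ≤ f ⁻¹ᵁ V) :
    letI := (f.appLE V U h).hom.toAlgebra
    Nonempty (Γ(OM' f, U) ≃ₗ[Γ(X, U)] Ω[Γ(X, U)⁄Γ(S, V)]) := by
  letI algRC : Algebra Γ(S, V) Γ(X, U) := (f.appLE V U h).hom.toAlgebra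
  haveI : (FF' f).IsQuasicoherent := isQuasicoherent_idealMod _
  have hW : IsAffineOpen (bx f U) := isAffineOpen_bx f hU hV h
  letI alg : Algebra Γ(pullback f f, bx f U) Γ(X, U) :=
    ((pullback.diagonal f).appLE (bx f U) U (le_diag f U)).hom.toAlgebra
  letI mod : Module Γ(pullback f f, bx f U) Γ(OM' f, U) :=
    Module.compHom _ ((pullback.diagonal f).appLE (bx f U) U (le_diag f U)).hom
  haveI tow : IsScalarTower Γ(pullback f f, bx f U) Γ(X, U) Γ(OM' f, U) :=
    IsScalarTower.of_algebraMap_smul fun _ _ => rfl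
  have hbc : IsBaseChange Γ(X, U)
      (PBH8.cUVLin (pullback.diagonal f) (FF' f) (le_diag f U)) :=
    PBH8.isBaseChange_cUV (pullback.diagonal f) (FF' f) (le_diag f U) hU hW
  have hsurj : Function.Surjective (algebraMap Γ(pullback f f, bx f U) Γ(X, U)) := by
    intro c
    exact ⟨((pullback.fst f f).appLE U (bx f U) inf_le_left).hom c,
      congrArg (fun φ => φ.hom c) (fst_diag f U)⟩
  have hI : ∀ b, b ∈ (pullback.diagonal f).ker.ideal ⟨bx f U, hW⟩ ↔
      algebraMap Γ(pullback f f, bx f U) Γ(X, U) b = 0 := fun b => mem_ker_iff f hW b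
  obtain ⟨Θ⟩ := cotangent_of_isBaseChange hsurj ((pullback.diagonal f).ker.ideal ⟨bx f U, hW⟩) hI
    (idealModEquiv (pullback.diagonal f).ker hW)
    (PBH8.cUVLin (pullback.diagonal f) (FF' f) (le_diag f U)) hbc
  obtain ⟨e, he⟩ := exists_tensor_equiv (f.appLE V U h)
    ((pullback.fst f f).appLE U (bx f U) inf_le_left)
    ((pullback.snd f f).appLE U (bx f U) inf_le_right) (isPushout_bx f hU hV h)
    ((pullback.diagonal f).appLE (bx f U) U (le_diag f U)) (fst_diag f U) (snd_diag f U)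
  have hII' : ∀ b, b ∈ (pullback.diagonal f).ker.ideal ⟨bx f U, hW⟩ ↔
      e b ∈ KaehlerDifferential.ideal Γ(S, V) Γ(X, U) := by
    intro b
    constructor
    · intro hb
      exact RingHom.mem_ker.mpr ((he b).trans ((hI b).mp hb))
    · intro hb
      exact (hI b).mpr ((he b).symm.trans (RingHom.mem_ker.mp hb))
  obtain ⟨Φ, hΦ⟩ := cotangent_transport e _ (KaehlerDifferential.ideal Γ(S, V) Γ(X, U)) hII'
  have hsm : ∀ (a : Γ(X, U)) (x : Γ(OM' f, U)),
      a • x = (e.symm (a ⊗ₜ[Γ(S, V)] (1 : Γ(X, U)))) • x := by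
    intro a x
    have hb : ((pullback.diagonal f).appLE (bx f U) U (le_diag f U)).hom
        (e.symm (a ⊗ₜ[Γ(S, V)] (1 : Γ(X, U)))) = a := by
      rw [← he, e.apply_symm_apply, Algebra.TensorProduct.lmul'_apply_tmul, mul_one]
    show a • x = ((pullback.diagonal f).appLE (bx f U) U (le_diag f U)).hom
      (e.symm (a ⊗ₜ[Γ(S, V)] (1 : Γ(X, U)))) • x
    rw [hb]
  exact ⟨{ toFun := fun x => Φ (Θ x)
           invFun := fun y => Θ.symm (Φ.symm y)
           left_inv := fun x => by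
             show Θ.symm (Φ.symm (Φ (Θ x))) = x
             rw [Φ.symm_apply_apply, Θ.symm_apply_apply]
           right_inv := fun y => by
             show Φ (Θ (Θ.symm (Φ.symm y))) = y
             rw [Θ.apply_symm_apply, Φ.apply_symm_apply]
           map_add' := fun x y => by
             show Φ (Θ (x + y)) = Φ (Θ x) + Φ (Θ y)
             rw [map_add, map_add]
           map_smul' := fun a x => by
             show Φ (Θ (a • x)) = a • (Φ (Θ x) : Ω[Γ(X, U)⁄Γ(S, V)])
             rw [hsm, _root_.map_smul Θ, hΦ, e.apply_symm_apply]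
             exact (kd_smul Γ(S, V) Γ(X, U) a _).symm }⟩

/-- **Sections of `Ω_{X/S}` over small affine opens are the Kähler differentials.** -/
theorem omegaSections [QuasiSeparated f] {U : X.Opens} (hU : IsAffineOpen U) {V : S.Opens}
    (hV : IsAffineOpen V) (h : U ≤ f ⁻¹ᵁ V) :
    letI := (f.appLE V U h).hom.toAlgebra
    Nonempty (Γ(Omega.sheaf f, U) ≃ₗ[Γ(X, U)] Ω[Γ(X, U)⁄Γ(S, V)]) :=
  omegaSections_aux f hU hV h

theorem subsingleton_iff [QuasiSeparated f] {U : X.Opens} (hU : IsAffineOpen U) {V : S.Opens}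
    (hV : IsAffineOpen V) (h : U ≤ f ⁻¹ᵁ V) :
    Subsingleton Γ(Omega.sheaf f, U) ↔ (f.appLE V U h).hom.FormallyUnramified := by
  letI algRC : Algebra Γ(S, V) Γ(X, U) := (f.appLE V U h).hom.toAlgebra
  obtain ⟨L⟩ := omegaSections f hU hV h
  constructor
  · intro hs
    haveI := hs
    exact (show Algebra.FormallyUnramified Γ(S, V) Γ(X, U) from ⟨L.symm.toEquiv.subsingleton⟩)
  · intro hfu
    haveI : Subsingleton Ω[Γ(X, U)⁄Γ(S, V)] :=
      (show Algebra.FormallyUnramified Γ(S, V) Γ(X, U) from hfu).subsingleton_kaehlerDifferential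
    exact L.toEquiv.subsingleton

/-- A section vanishing on all small affine opens vanishes. -/
theorem eq_zero_of_forall_small (F : X.Modules) {O : X.Opens} (s : Γ(F, O))
    (hs : ∀ (U : X.Opens) (hUO : U ≤ O) (V : S.Opens), IsAffineOpen U → IsAffineOpen V →
      U ≤ f ⁻¹ᵁ V → F.presheaf.map (homOfLE hUO).op s = 0) : s = 0 := by
  refine TopCat.Sheaf.eq_of_locally_eq' ⟨F.presheaf, F.isSheaf⟩
    (fun i : {U : X.affineOpens // U.1 ≤ O ∧ ∃ V : S.affineOpens, U.1 ≤ f ⁻¹ᵁ V.1} => i.1.1) O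
    (fun i => homOfLE i.2.1) ?_ s 0 ?_
  · intro x hx
    obtain ⟨V, hV, hfxV, -⟩ := (Opens.isBasis_iff_nbhd.mp S.isBasis_affineOpens)
      (show f x ∈ (⊤ : S.Opens) from trivial)
    have hx' : x ∈ O ⊓ f ⁻¹ᵁ V := ⟨hx, hfxV⟩
    obtain ⟨W, hW, hxW, hWO⟩ := (Opens.isBasis_iff_nbhd.mp X.isBasis_affineOpens) hx'
    exact Opens.mem_iSup.mpr
      ⟨⟨⟨W, hW⟩, hWO.trans inf_le_left, ⟨V, hV⟩, hWO.trans inf_le_right⟩, hxW⟩
  · intro i
    obtain ⟨V, hV⟩ := i.2.2
    rw [map_zero]
    exact hs i.1.1 i.2.1 V.1 i.1.2 V.2 hV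

/-- A module all of whose sections over small affine opens vanish is zero. -/
theorem isZero_of_forall_small (F : X.Modules)
    (hF : ∀ (U : X.Opens) (V : S.Opens), IsAffineOpen U → IsAffineOpen V → U ≤ f ⁻¹ᵁ V →
      ∀ s : Γ(F, U), s = 0) : Limits.IsZero F := by
  rw [Limits.IsZero.iff_id_eq_zero]
  apply Scheme.Modules.hom_ext
  intro O
  ext s
  apply eq_zero_of_forall_small f F
  intro U hUO V hU hV hUV
  exact hF U V hU hV hUV _

theorem main1478 [IsSeparated f] :
    AlgebraicGeometry.FormallyUnramified f ↔ Limits.IsZero (Omega.sheaf f) := by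
  constructor
  · intro hf
    apply isZero_of_forall_small f
    intro U V hU hV hUV s
    haveI : Subsingleton Γ(Omega.sheaf f, U) :=
      (subsingleton_iff f hU hV hUV).mpr (hf.1 hV hU hUV)
    exact Subsingleton.elim _ _
  · intro hz
    refine ⟨fun {V} hV {U} hU e => ?_⟩
    refine (subsingleton_iff f hU hV e).mp ⟨fun a b => ?_⟩
    exact (WeakAssSch_helper4.eq_zero_of_isZero _ hz a).trans
      (WeakAssSch_helper4.eq_zero_of_isZero _ hz b).symm

end Geom

end Groth.Agent.Lib.OmegaSecH4
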