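import Mathlib
import Groth.Prelude
import Groth.Agent.Lib.OmegaSec_helper4
import Groth.Agent.Lib.SDivFitt_helper8

/-!
# `Ω_{X/S}` is of finite type for `f` locally of finite type; its support is the ramification
locus (helper4).
APPEND-ONLY once landed.
-/

set_option autoImplicit false
set_option linter.style.haveILetI false

universe u

open CategoryTheory CategoryTheory.Limits AlgebraicGeometry Opposite TopologicalSpace TensorProduct
open AlgebraicGeometry.Scheme.Modules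

namespace Groth.Agent.Lib.OmegaFittH4

open Groth.Agent.Lib.OmegaAffH4 Groth.Agent.Lib.OmegaSecH4 Groth.Agent.Lib.QCohLoc_helper4

variable {X S : Scheme.{u}} (f : X ⟶ S)

/-- `Ω_{X/S}` is quasi-coherent. -/
theorem isQuasicoherent_omega : (Omega.sheaf f).IsQuasicoherent := by
  haveI : (FF' f).IsQuasicoherent := isQuasicoherent_idealMod _
  exact (inferInstance : (OM' f).IsQuasicoherent)

/-- `Ω_{X/S}` is of finite type for `f` locally of finite type (and quasi-separated). -/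
theorem isFiniteType_omega [LocallyOfFiniteType f] [QuasiSeparated f] :
    SheafOfModules.IsFiniteType (R := X.ringCatSheaf) (Omega.sheaf f) := by
  haveI := isQuasicoherent_omega f
  refine QCohCrit.isFiniteType_of_sections_cover (Omega.sheaf f)
    (fun i : {U : X.affineOpens // ∃ V : S.affineOpens, U.1 ≤ f ⁻¹ᵁ V.1} => i.1.1)
    (fun i => i.1.2) ?_ ?_
  · refine eq_top_iff.mpr fun x _ => ?_
    obtain ⟨V, hV, hfxV, -⟩ := (Opens.isBasis_iff_nbhd.mp S.isBasis_affineOpens)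
      (show f x ∈ (⊤ : S.Opens) from trivial)
    obtain ⟨W, hW, hxW, hWV⟩ := (Opens.isBasis_iff_nbhd.mp X.isBasis_affineOpens)
      (show x ∈ f ⁻¹ᵁ V from hfxV)
    exact Opens.mem_iSup.mpr ⟨⟨⟨W, hW⟩, ⟨V, hV⟩, hWV⟩, hxW⟩
  · intro i
    obtain ⟨V, hV⟩ := i.2
    letI algRC : Algebra Γ(S, V.1) Γ(X, i.1.1) := (f.appLE V.1 i.1.1 hV).hom.toAlgebra
    haveI : Algebra.FiniteType Γ(S, V.1) Γ(X, i.1.1) :=
      Scheme.Hom.finiteType_appLE f V.2 i.1.2 hV
    obtain ⟨L⟩ := omegaSections f i.1.2 V.2 hV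
    exact Module.Finite.equiv L.symm

theorem appLE_ι_comp (U : X.Opens) (V : S.Opens) (W' : U.toScheme.Opens)
    (e : W' ≤ (U.ι ≫ f) ⁻¹ᵁ V) (e₂ : U.ι ''ᵁ W' ≤ f ⁻¹ᵁ V) :
    (U.ι ≫ f).appLE V W' e = f.appLE V (U.ι ''ᵁ W') e₂ := by
  rw [Scheme.Hom.comp_appLE, Scheme.Opens.ι_appLE]
  rfl

theorem stalk_subsingleton_of_sections (F : X.Modules) [F.IsQuasicoherent] {W : X.Opens}
    (hW : IsAffineOpen W) (hs : Subsingleton Γ(F, W)) {x : X} (hx : x ∈ W) :
    Subsingleton (F.presheaf.stalk x) := by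
  have key : ∀ z : F.presheaf.stalk x, z = 0 := by
    intro z
    obtain ⟨g, t, hxg, ht⟩ := (locOn_of_isQuasicoherent F hW).exists_germ_eq_smul hW hx z
    have ht0 : t = 0 := Subsingleton.elim _ _
    rw [ht0, map_zero] at ht
    have hu : IsUnit (X.presheaf.germ W x hx g) := (Scheme.mem_basicOpen _ _ _ hx).mp hxg
    exact (hu.smul_eq_zero).mp ht.symm
  exact ⟨fun z₁ z₂ => (key z₁).trans (key z₂).symm⟩

theorem sections_subsingleton_of_stalks (F : X.Modules) (W : X.Opens)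
    (h : ∀ y ∈ W, Subsingleton (F.presheaf.stalk y)) : Subsingleton Γ(F, W) :=
  ⟨fun s t => TopCat.Presheaf.section_ext ⟨F.presheaf, F.isSheaf⟩ W s t
    (fun y hy => (h y hy).elim _ _)⟩

theorem main8915 [LocallyOfFiniteType f] [QuasiSeparated f] (x : X) :
    x ∈ (Fitt.sheafIdeal (Omega.sheaf f) 0).support ↔
      ¬ ∃ U : X.Opens, x ∈ U ∧ AlgebraicGeometry.FormallyUnramified (U.ι ≫ f) := by
  haveI := isQuasicoherent_omega f
  haveI := isFiniteType_omega f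
  have hsupp : ∀ y : X, y ∈ (Fitt.sheafIdeal (Omega.sheaf f) 0).support ↔
      ¬ Subsingleton ((Omega.sheaf f).presheaf.stalk y) := by
    intro y
    exact Set.ext_iff.mp (SDivFittH8.support_sheafIdeal_zero (Omega.sheaf f)) y
  constructor
  · rintro hxZ ⟨U, hxU, hfu⟩
    refine (hsupp x).mp hxZ ?_
    obtain ⟨V, hV, hfxV, -⟩ := (Opens.isBasis_iff_nbhd.mp S.isBasis_affineOpens)
      (show f x ∈ (⊤ : S.Opens) from trivial)
    have hx' : (⟨x, hxU⟩ : U) ∈ (U.ι ≫ f) ⁻¹ᵁ V := hfxV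
    obtain ⟨W', hW', hxW', hW'V⟩ :=
      (Opens.isBasis_iff_nbhd.mp U.toScheme.isBasis_affineOpens) hx'
    have e₂ : U.ι ''ᵁ W' ≤ f ⁻¹ᵁ V := Set.image_subset_iff.mpr hW'V
    have hW : IsAffineOpen (U.ι ''ᵁ W') := hW'.image_of_isOpenImmersion U.ι
    have hfu' : (f.appLE V (U.ι ''ᵁ W') e₂).hom.FormallyUnramified :=
      Eq.mp (congrArg (fun φ : Γ(S, V) ⟶ Γ(X, U.ι ''ᵁ W') => φ.hom.FormallyUnramified)
        (appLE_ι_comp f U V W' hW'V e₂)) (hfu.1 hV hW' hW'V)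
    have hsub : Subsingleton Γ(Omega.sheaf f, U.ι ''ᵁ W') :=
      (subsingleton_iff f hW hV e₂).mpr hfu'
    have hxW : x ∈ U.ι ''ᵁ W' := (Scheme.Opens.mem_ι_image_iff (x := ⟨x, hxU⟩)).mpr hxW'
    exact stalk_subsingleton_of_sections (Omega.sheaf f) hW hsub hxW
  · intro hne
    by_contra hx
    apply hne
    obtain ⟨O, hO⟩ : ∃ O : X.Opens, ∀ y, y ∈ O ↔ y ∉ (Fitt.sheafIdeal (Omega.sheaf f) 0).support :=
      ⟨(Fitt.sheafIdeal (Omega.sheaf f) 0).support.compl, fun y => Iff.rfl⟩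
    refine ⟨O, (hO x).mpr hx, ⟨fun {V} hV {W'} hW' e => ?_⟩⟩
    have e₂ : O.ι ''ᵁ W' ≤ f ⁻¹ᵁ V := Set.image_subset_iff.mpr e
    have hW : IsAffineOpen (O.ι ''ᵁ W') := hW'.image_of_isOpenImmersion O.ι
    have hsub : Subsingleton Γ(Omega.sheaf f, O.ι ''ᵁ W') :=
      sections_subsingleton_of_stalks _ _ (fun y hy => by
        have hyO : y ∈ O := O.ι_image_le W' hy
        exact not_not.mp (fun hns => (hO y).mp hyO ((hsupp y).mpr hns)))
    exact Eq.mpr (congrArg (fun φ : Γ(S, V) ⟶ Γ(X, O.ι ''ᵁ W') => φ.hom.FormallyUnramified)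
      (appLE_ι_comp f O V W' e e₂)) ((subsingleton_iff f hW hV e₂).mp hsub)

end Groth.Agent.Lib.OmegaFittH4
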