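import Mathlib
import Groth.Prelude
import Groth.Agent.Lib.OmegaFitt_helper4

/-!
# Towards universality of `d : O_X → Ω_{X/S}`: sections of `Ω` over small affines are spanned by
the `d b`, and local lifts of derivations (helper4).
APPEND-ONLY once landed.
-/

set_option autoImplicit false
set_option linter.style.haveILetI false

universe u

open CategoryTheory CategoryTheory.Limits AlgebraicGeometry Opposite TopologicalSpace TensorProduct
open AlgebraicGeometry.Scheme.Modules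

namespace Groth.Agent.Lib.OmegaUnivH4

open Groth.Agent.Lib.OmegaAffH4 Groth.Agent.Lib.OmegaSecH4

section Alg

/-- Explicit version of `cotangent_of_isBaseChange`. -/
theorem cotangent_of_isBaseChange' {B C M N : Type u} [CommRing B] [CommRing C] [Algebra B C]
    [AddCommGroup M] [Module B M] [Module C M] [IsScalarTower B C M]
    [AddCommGroup N] [Module B N]
    (hsurj : Function.Surjective (algebraMap B C))
    (I : Ideal B) (hI : ∀ b, b ∈ I ↔ algebraMap B C b = 0)
    (j : N ≃ₗ[B] I) (c : N →ₗ[B] M) (hc : IsBaseChange C c) :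
    ∃ Θ : M ≃ₗ[B] I.Cotangent, ∀ n : N, Θ (c n) = I.toCotangent (j n) := by
  have hI' : I = RingHom.ker (Algebra.ofId B C) :=
    Ideal.ext fun b => (hI b).trans (RingHom.mem_ker (f := Algebra.ofId B C)).symm
  subst hI'
  have hs : Function.Surjective (Algebra.ofId B C) := hsurj
  let e2 : (B ⧸ RingHom.ker (Algebra.ofId B C)) ≃ₗ[B] C :=
    (Ideal.quotientKerAlgEquivOfSurjective hs).toLinearEquiv
  let e1 : C ⊗[B] N ≃ₗ[B] M := hc.equiv.restrictScalars B
  let e3 := TensorProduct.congr e2.symm j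
  let e4 := TensorProduct.quotTensorEquivQuotSMul (↥(RingHom.ker (Algebra.ofId B C)))
    (RingHom.ker (Algebra.ofId B C))
  refine ⟨e1.symm.trans (e3.trans e4), fun n => ?_⟩
  have h1 : e1.symm (c n) = (1 : C) ⊗ₜ[B] n := by
    apply e1.injective
    rw [e1.apply_symm_apply]
    show c n = hc.equiv ((1 : C) ⊗ₜ[B] n)
    rw [IsBaseChange.equiv_tmul, one_smul]
  have h2 : e2.symm (1 : C) = 1 := map_one (Ideal.quotientKerAlgEquivOfSurjective hs).symm
  show e4 (e3 (e1.symm (c n))) = _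
  rw [h1]
  show e4 (e2.symm 1 ⊗ₜ[B] j n) = _
  rw [h2]
  exact TensorProduct.quotTensorEquivQuotSMul_mk_one_tmul _ _

/-- Explicit version of `cotangent_transport`. -/
theorem cotangent_transport' {B B' : Type u} [CommRing B] [CommRing B'] (e : B ≃+* B')
    (I : Ideal B) (I' : Ideal B') (h : ∀ b, b ∈ I ↔ e b ∈ I') :
    ∃ Φ : I.Cotangent ≃+ I'.Cotangent,
      (∀ (b : B) (x : I.Cotangent), Φ (b • x) = e b • Φ x) ∧
      ∀ (y : B) (hy : y ∈ I) (hy' : e y ∈ I'),
        Φ (I.toCotangent ⟨y, hy⟩) = I'.toCotangent ⟨e y, hy'⟩ := by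
  let f : B →ₐ[ℤ] B' := (e : B →+* B').toIntAlgHom
  let f' : B' →ₐ[ℤ] B := (e.symm : B' →+* B).toIntAlgHom
  have hf : ∀ b, f b = e b := fun _ => rfl
  have hf' : ∀ b, f' b = e.symm b := fun _ => rfl
  have h1 : I ≤ I'.comap f := fun b hb => show f b ∈ I' from (hf b).symm ▸ (h b).mp hb
  have h2 : I' ≤ I.comap f' := fun b' hb' => show f' b' ∈ I from (hf' b').symm ▸
    (h (e.symm b')).mpr (by rw [e.apply_symm_apply]; exact hb')
  have hΦ₁ : ∀ y : I, Ideal.mapCotangent I I' f h1 (I.toCotangent y) =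
      I'.toCotangent ⟨f y, h1 y.2⟩ := fun y => rfl
  have hΦ₂ : ∀ y : I', Ideal.mapCotangent I' I f' h2 (I'.toCotangent y) =
      I.toCotangent ⟨f' y, h2 y.2⟩ := fun y => rfl
  refine ⟨{ toFun := Ideal.mapCotangent I I' f h1
            invFun := Ideal.mapCotangent I' I f' h2
            left_inv := ?_
            right_inv := ?_
            map_add' := fun x y => map_add _ x y }, ?_, ?_⟩
  · intro x
    obtain ⟨y, rfl⟩ := I.toCotangent_surjective x
    rw [hΦ₁, hΦ₂]
    exact congrArg I.toCotangent (Subtype.ext (e.symm_apply_apply y))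
  · intro x
    obtain ⟨y, rfl⟩ := I'.toCotangent_surjective x
    rw [hΦ₂, hΦ₁]
    exact congrArg I'.toCotangent (Subtype.ext (e.apply_symm_apply y))
  · intro b x
    obtain ⟨y, rfl⟩ := I.toCotangent_surjective x
    show Ideal.mapCotangent I I' f h1 (b • I.toCotangent y) =
      e b • Ideal.mapCotangent I I' f h1 (I.toCotangent y)
    rw [← map_smul I.toCotangent b y, hΦ₁, hΦ₁, ← map_smul I'.toCotangent (e b)]
    exact congrArg I'.toCotangent (Subtype.ext (map_mul e b y))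
  · intro y hy hy'
    exact hΦ₁ ⟨y, hy⟩

/-- Explicit version of `exists_tensor_equiv`. -/
theorem exists_tensor_equiv' {R C B : CommRingCat.{u}} (φ : R ⟶ C) (i1 i2 : C ⟶ B)
    (hpo : IsPushout φ φ i1 i2) (ψ : B ⟶ C) (h1 : i1 ≫ ψ = 𝟙 C) (h2 : i2 ≫ ψ = 𝟙 C) :
    letI := φ.hom.toAlgebra
    ∃ e : B ≃+* C ⊗[R] C, (∀ b, Algebra.TensorProduct.lmul' R (e b) = ψ.hom b) ∧
      (∀ c : C, e (i1.hom c) = c ⊗ₜ[R] (1 : C)) ∧ (∀ c : C, e (i2.hom c) = (1 : C) ⊗ₜ[R] c) := by
  letI alg : Algebra R C := φ.hom.toAlgebra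
  have T := CommRingCat.isPushout_tensorProduct R C C
  have hpo' : IsPushout (CommRingCat.ofHom (algebraMap R C)) (CommRingCat.ofHom (algebraMap R C))
      i1 i2 := hpo
  obtain ⟨iso, hl, hr⟩ : ∃ iso : CommRingCat.of (C ⊗[R] C) ≅ B,
      CommRingCat.ofHom (S := C ⊗[R] C) Algebra.TensorProduct.includeLeftRingHom ≫ iso.hom = i1 ∧
      CommRingCat.ofHom (S := C ⊗[R] C) Algebra.TensorProduct.includeRight.toRingHom ≫ iso.hom =
        i2 :=
    ⟨T.isoIsPushout _ _ hpo', IsPushout.inl_isoIsPushout_hom _ _ _ _,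
      IsPushout.inr_isoIsPushout_hom _ _ _ _⟩
  have key : iso.hom ≫ ψ = CommRingCat.ofHom
      (Algebra.TensorProduct.lmul' R : C ⊗[R] C →ₐ[R] C).toRingHom := by
    apply T.hom_ext
    · refine (Category.assoc _ _ _).symm.trans ((congrArg (· ≫ ψ) hl).trans (h1.trans ?_))
      refine CommRingCat.hom_ext (RingHom.ext fun c => ?_)
      show c = Algebra.TensorProduct.lmul' R (c ⊗ₜ[R] (1 : C))
      rw [Algebra.TensorProduct.lmul'_apply_tmul, mul_one]
    · refine (Category.assoc _ _ _).symm.trans ((congrArg (· ≫ ψ) hr).trans (h2.trans ?_))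
      refine CommRingCat.hom_ext (RingHom.ext fun c => ?_)
      show c = Algebra.TensorProduct.lmul' R ((1 : C) ⊗ₜ[R] c)
      rw [Algebra.TensorProduct.lmul'_apply_tmul, one_mul]
  have hinv : ∀ t : C ⊗[R] C, iso.inv.hom (iso.hom.hom t) = t :=
    fun t => congrArg (fun k => k.hom t) iso.hom_inv_id
  refine ⟨iso.symm.commRingCatIsoToRingEquiv, fun b => ?_, fun c => ?_, fun c => ?_⟩
  · have h3 : ψ.hom (iso.hom.hom (iso.inv.hom b)) =
        Algebra.TensorProduct.lmul' R (iso.inv.hom b) :=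
      congrArg (fun k => k.hom (iso.inv.hom b)) key
    have h4 : iso.hom.hom (iso.inv.hom b) = b := congrArg (fun k => k.hom b) iso.inv_hom_id
    exact h3.symm.trans (congrArg ψ.hom h4)
  · have h5 : i1.hom c = iso.hom.hom (c ⊗ₜ[R] (1 : C)) := congrArg (fun k => k.hom c) hl.symm
    show iso.inv.hom (i1.hom c) = _
    rw [h5, hinv]
  · have h5 : i2.hom c = iso.hom.hom ((1 : C) ⊗ₜ[R] c) := congrArg (fun k => k.hom c) hr.symm
    show iso.inv.hom (i2.hom c) = _
    rw [h5, hinv]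

end Alg

section Geom

variable {X S : Scheme.{u}} (f : X ⟶ S)

set_option maxHeartbeats 1600000 in
/-- Sections of `Ω_{X/S}` over small affines, with `d` going to `d`. -/
theorem omegaSections'_aux [QuasiSeparated f] {U : X.Opens} (hU : IsAffineOpen U) {V : S.Opens}
    (hV : IsAffineOpen V) (h : U ≤ f ⁻¹ᵁ V) :
    letI := (f.appLE V U h).hom.toAlgebra
    ∃ L : Γ(OM' f, U) ≃ₗ[Γ(X, U)] Ω[Γ(X, U)⁄Γ(S, V)],
      ∀ b : Γ(X, U), L (OmegaSh.dSect f U b) = KaehlerDifferential.D Γ(S, V) Γ(X, U) b := by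
  letI algRC : Algebra Γ(S, V) Γ(X, U) := (f.appLE V U h).hom.toAlgebra
  haveI : (FF' f).IsQuasicoherent := isQuasicoherent_idealMod _
  have hW : IsAffineOpen (bx f U) := isAffineOpen_bx f hU hV h
  letI alg : Algebra Γ(pullback f f, bx f U) Γ(X, U) :=
    ((pullback.diagonal f).appLE (bx f U) U (le_diag f U)).hom.toAlgebra
  letI mod : Module Γ(pullback f f, bx f U) Γ(OM' f, U) :=
    Module.compHom _ ((pullback.diagonal f).appLE (bx f U) U (le_diag f U)).hom
  haveI tow : IsScalarTower Γ(pullback f f, bx f U) Γ(X, U) Γ(OM' f, U) :=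
    IsScalarTower.of_algebraMap_smul fun _ _ => rfl
  have hbc : IsBaseChange Γ(X, U)
      (PBH8.cUVLin (pullback.diagonal f) (FF' f) (le_diag f U)) :=
    PBH8.isBaseChange_cUV (pullback.diagonal f) (FF' f) (le_diag f U) hU hW
  have hsurj : Function.Surjective (algebraMap Γ(pullback f f, bx f U) Γ(X, U)) := by
    intro c
    exact ⟨((pullback.fst f f).appLE U (bx f U) inf_le_left).hom c,
      congrArg (fun φ => φ.hom c) (fst_diag f U)⟩
  have hI : ∀ b, b ∈ (pullback.diagonal f).ker.ideal ⟨bx f U, hW⟩ ↔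
      algebraMap Γ(pullback f f, bx f U) Γ(X, U) b = 0 := fun b => mem_ker_iff f hW b
  obtain ⟨Θ, hΘ⟩ := cotangent_of_isBaseChange' hsurj
    ((pullback.diagonal f).ker.ideal ⟨bx f U, hW⟩) hI
    (idealModEquiv (pullback.diagonal f).ker hW)
    (PBH8.cUVLin (pullback.diagonal f) (FF' f) (le_diag f U)) hbc
  obtain ⟨e, he, he1, he2⟩ := exists_tensor_equiv' (f.appLE V U h)
    ((pullback.fst f f).appLE U (bx f U) inf_le_left)
    ((pullback.snd f f).appLE U (bx f U) inf_le_right) (isPushout_bx f hU hV h)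
    ((pullback.diagonal f).appLE (bx f U) U (le_diag f U)) (fst_diag f U) (snd_diag f U)
  have hII' : ∀ b, b ∈ (pullback.diagonal f).ker.ideal ⟨bx f U, hW⟩ ↔
      e b ∈ KaehlerDifferential.ideal Γ(S, V) Γ(X, U) := by
    intro b
    constructor
    · intro hb
      exact RingHom.mem_ker.mpr ((he b).trans ((hI b).mp hb))
    · intro hb
      exact (hI b).mpr ((he b).symm.trans (RingHom.mem_ker.mp hb))
  obtain ⟨Φ, hΦ, hΦ'⟩ := cotangent_transport' e _
    (KaehlerDifferential.ideal Γ(S, V) Γ(X, U)) hII'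
  have hsm : ∀ (a : Γ(X, U)) (x : Γ(OM' f, U)),
      a • x = (e.symm (a ⊗ₜ[Γ(S, V)] (1 : Γ(X, U)))) • x := by
    intro a x
    have hb : ((pullback.diagonal f).appLE (bx f U) U (le_diag f U)).hom
        (e.symm (a ⊗ₜ[Γ(S, V)] (1 : Γ(X, U)))) = a := by
      rw [← he, e.apply_symm_apply, Algebra.TensorProduct.lmul'_apply_tmul, mul_one]
    show a • x = ((pullback.diagonal f).appLE (bx f U) U (le_diag f U)).hom
      (e.symm (a ⊗ₜ[Γ(S, V)] (1 : Γ(X, U)))) • x
    rw [hb]
  refine ⟨{ toFun := fun x => Φ (Θ x)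
            invFun := fun y => Θ.symm (Φ.symm y)
            left_inv := fun x => by
              show Θ.symm (Φ.symm (Φ (Θ x))) = x
              rw [Φ.symm_apply_apply, Θ.symm_apply_apply]
            right_inv := fun y => by
              show Φ (Θ (Θ.symm (Φ.symm y))) = y
              rw [Θ.apply_symm_apply, Φ.apply_symm_apply]
            map_add' := fun x y => by
              show Φ (Θ (x + y)) = Φ (Θ x) + Φ (Θ y)
              rw [map_add, map_add]
            map_smul' := fun a x => by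
              show Φ (Θ (a • x)) = a • (Φ (Θ x) : Ω[Γ(X, U)⁄Γ(S, V)])
              rw [hsm, _root_.map_smul Θ, hΦ, e.apply_symm_apply]
              exact (kd_smul Γ(S, V) Γ(X, U) a _).symm }, fun b => ?_⟩
  show Φ (Θ (OmegaSh.dSect f U b)) = _
  have hd : OmegaSh.dSect f U b = PBH8.cUVLin (pullback.diagonal f) (FF' f) (le_diag f U)
      (OmegaSh.idealLift f U b) := rfl
  have hj : ((idealModEquiv (pullback.diagonal f).ker hW (OmegaSh.idealLift f U b) :
      (pullback.diagonal f).ker.ideal ⟨bx f U, hW⟩) : Γ(pullback f f, bx f U)) =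
      OmegaSh.diagDiff f U b := OmegaSh.ι_idealLift f U b
  have hmem : OmegaSh.diagDiff f U b ∈ (pullback.diagonal f).ker.ideal ⟨bx f U, hW⟩ :=
    hj ▸ (idealModEquiv (pullback.diagonal f).ker hW (OmegaSh.idealLift f U b)).2
  have hj' : idealModEquiv (pullback.diagonal f).ker hW (OmegaSh.idealLift f U b) =
      ⟨OmegaSh.diagDiff f U b, hmem⟩ := Subtype.ext hj
  have hed : e (OmegaSh.diagDiff f U b) =
      (1 : Γ(X, U)) ⊗ₜ[Γ(S, V)] b - b ⊗ₜ[Γ(S, V)] (1 : Γ(X, U)) := by
    show e (((pullback.snd f f).appLE U (bx f U) inf_le_right).hom b -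
      ((pullback.fst f f).appLE U (bx f U) inf_le_left).hom b) = _
    rw [map_sub, he1, he2]
  rw [hd, hΘ, hj', hΦ' _ hmem ((hII' _).mp hmem)]
  exact (congrArg (KaehlerDifferential.ideal Γ(S, V) Γ(X, U)).toCotangent
    (Subtype.ext (a1 := ⟨e (OmegaSh.diagDiff f U b), (hII' _).mp hmem⟩)
      (a2 := ⟨(1 : Γ(X, U)) ⊗ₜ[Γ(S, V)] b - b ⊗ₜ[Γ(S, V)] (1 : Γ(X, U)),
        KaehlerDifferential.one_smul_sub_smul_one_mem_ideal Γ(S, V) b⟩) hed)).trans
    (KaehlerDifferential.DLinearMap_apply Γ(S, V) Γ(X, U) b).symm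

/-- Sections of `Ω_{X/S}` over small affines, with `d` going to `d`. -/
theorem omegaSections' [QuasiSeparated f] {U : X.Opens} (hU : IsAffineOpen U) {V : S.Opens}
    (hV : IsAffineOpen V) (h : U ≤ f ⁻¹ᵁ V) :
    letI := (f.appLE V U h).hom.toAlgebra
    ∃ L : Γ(Omega.sheaf f, U) ≃ₗ[Γ(X, U)] Ω[Γ(X, U)⁄Γ(S, V)],
      ∀ b : Γ(X, U), L (OmegaSh.dSect f U b) = KaehlerDifferential.D Γ(S, V) Γ(X, U) b :=
  omegaSections'_aux f hU hV h

end Geom

end Groth.Agent.Lib.OmegaUnivH4
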