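import Mathlib
import Groth.Prelude
import Groth.Agent.Lib.OmegaUniv1_helper4

/-!
# The conormal sheaf of an immersion vanishes at a point iff the immersion is open nearby (helper4).
APPEND-ONLY once landed.
-/

set_option autoImplicit false
set_option linter.style.haveILetI false

universe u

open CategoryTheory CategoryTheory.Limits AlgebraicGeometry Opposite TopologicalSpace TensorProduct
open AlgebraicGeometry.Scheme.Modules

namespace Groth.Agent.Lib.ConormOpenH4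

open Groth.Agent.Lib.OmegaAffH4 Groth.Agent.Lib.OmegaSecH4 Groth.Agent.Lib.OmegaUnivH4
open Groth.Agent.Lib.OmegaFittH4 Groth.Agent.Lib.QCohLoc_helper4 Groth.Agent.Lib.WeakAssSch_helper4

section Alg

theorem away_map_bijective {B C B' C' : Type u} [CommRing B] [CommRing C] [CommRing B']
    [CommRing C'] [Algebra B B'] [Algebra C C'] (φ : B →+* C) (hφ : Function.Surjective φ) (g : B)
    (hg : ∀ x, φ x = 0 → g * x = 0) [IsLocalization.Away g B'] [IsLocalization.Away (φ g) C'] :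
    Function.Bijective (IsLocalization.Away.map B' C' φ g) := by
  have hmap : ∀ b : B, IsLocalization.Away.map B' C' φ g (algebraMap B B' b) =
      algebraMap C C' (φ b) := fun b => IsLocalization.map_eq _ b
  have hu : IsUnit (algebraMap B B' g) := IsLocalization.Away.algebraMap_isUnit g
  have hu' : IsUnit (algebraMap C C' (φ g)) := IsLocalization.Away.algebraMap_isUnit (φ g)
  constructor
  · rw [injective_iff_map_eq_zero]
    intro x hx
    obtain ⟨n, b, hb⟩ := IsLocalization.Away.surj g x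
    have h1 : algebraMap C C' (φ b) = 0 := by
      rw [← hmap, ← hb, map_mul, hx, zero_mul]
    obtain ⟨⟨_, m, rfl⟩, hm⟩ :=
      (IsLocalization.map_eq_zero_iff (Submonoid.powers (φ g)) C' (φ b)).mp h1
    have h2 : φ (g ^ m * b) = 0 := by
      rw [map_mul, map_pow]; exact hm
    have h3 : g * (g ^ m * b) = 0 := hg _ h2
    have h4 : algebraMap B B' g ^ (m + 1) * algebraMap B B' b = 0 := by
      rw [← map_pow, ← map_mul, pow_succ', mul_assoc, h3, map_zero]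
    have h5 : algebraMap B B' b = 0 := (hu.pow (m + 1)).mul_right_eq_zero.mp h4
    have h6 : x * algebraMap B B' g ^ n = 0 := hb.trans h5
    exact (hu.pow n).mul_left_eq_zero.mp h6
  · intro z
    obtain ⟨n, c, hc⟩ := IsLocalization.Away.surj (φ g) z
    obtain ⟨b, rfl⟩ := hφ c
    obtain ⟨v, hv⟩ := hu.pow n
    refine ⟨algebraMap B B' b * ↑v⁻¹, ?_⟩
    have e1 : algebraMap C C' (φ g) ^ n = IsLocalization.Away.map B' C' φ g (↑v) := by
      rw [hv, map_pow, hmap]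
    have e2 : algebraMap B B' b * ↑v⁻¹ * ↑v = algebraMap B B' b := by
      rw [mul_assoc, Units.inv_mul, mul_one]
    have h1 : IsLocalization.Away.map B' C' φ g (algebraMap B B' b * ↑v⁻¹) *
        algebraMap C C' (φ g) ^ n = z * algebraMap C C' (φ g) ^ n :=
      calc IsLocalization.Away.map B' C' φ g (algebraMap B B' b * ↑v⁻¹) *
            algebraMap C C' (φ g) ^ n
          = IsLocalization.Away.map B' C' φ g (algebraMap B B' b * ↑v⁻¹) *
            IsLocalization.Away.map B' C' φ g (↑v) := by rw [e1]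
        _ = IsLocalization.Away.map B' C' φ g (algebraMap B B' b * ↑v⁻¹ * ↑v) :=
            (map_mul _ _ _).symm
        _ = IsLocalization.Away.map B' C' φ g (algebraMap B B' b) := by rw [e2]
        _ = algebraMap C C' (φ b) := hmap b
        _ = z * algebraMap C C' (φ g) ^ n := hc.symm
    exact (hu'.pow n).mul_left_injective h1

/-- Cayley–Hamilton/Nakayama: if `b I ⊆ I²` for a finitely generated ideal `I`, then some
`g ≡ bⁿ mod I` kills `I`. -/
theorem exists_kill_of_mul_mem_sq {B : Type u} [CommRing B] (I : Ideal B) (hI : I.FG) (b : B)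
    (hb : ∀ x ∈ I, b * x ∈ I ^ 2) :
    ∃ (g : B) (n : ℕ), g - b ^ n ∈ I ∧ ∀ x ∈ I, g * x = 0 := by
  haveI : Module.Finite B I := Module.Finite.iff_fg.mpr hI
  have hrange : LinearMap.range (algebraMap B (Module.End B I) b) ≤
      I • (⊤ : Submodule B I) := by
    rintro _ ⟨x, rfl⟩
    rw [Submodule.mem_smul_top_iff]
    have h1 : (((algebraMap B (Module.End B I) b) x : I) : B) = b * (x : B) := by
      rw [Module.algebraMap_end_apply]; rfl
    rw [h1, smul_eq_mul, ← sq]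
    exact hb x x.2
  obtain ⟨p, hmonic, -, hcoeff, haeval⟩ :=
    LinearMap.exists_monic_and_natDegree_eq_and_coeff_mem_pow_and_aeval_eq_zero B
      (algebraMap B (Module.End B I) b) I hrange
  refine ⟨p.eval b, p.natDegree, ?_, fun x hx => ?_⟩
  · rw [Polynomial.eval_eq_sum_range, Finset.sum_range_succ, hmonic.coeff_natDegree, one_mul,
      add_sub_cancel_right]
    refine Ideal.sum_mem _ fun i hi => ?_
    have hi' : i < p.natDegree := Finset.mem_range.mp hi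
    exact Ideal.mul_mem_right _ _ (Ideal.pow_le_self (Nat.sub_ne_zero_of_lt hi') (hcoeff i))
  · have h1 : (Polynomial.aeval (algebraMap B (Module.End B I) b) p) ⟨x, hx⟩ = 0 := by
      rw [haeval]; rfl
    rw [Polynomial.aeval_algebraMap_apply, Module.algebraMap_end_apply,
      Polynomial.coe_aeval_eq_eval] at h1
    exact congrArg Subtype.val h1

end Alg

section Geom

variable {X Y : Scheme.{u}} (j : Y ⟶ X)

/-- The conormal sheaf, unfolded. -/
noncomputable abbrev CN : Y.Modules :=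
  (Scheme.Modules.pullback j).obj (ClSub.idealMod j.ker)

theorem isOpenImmersion_of_isIso_appLE {W' : X.Opens} {U' : Y.Opens} (hW' : IsAffineOpen W')
    (hU' : IsAffineOpen U') (e : U' ≤ j ⁻¹ᵁ W') (h : IsIso (j.appLE W' U' e)) :
    IsOpenImmersion (U'.ι ≫ j) := by
  haveI := h
  have e1 : hU'.fromSpec ≫ j = Spec.map (j.appLE W' U' e) ≫ hW'.fromSpec :=
    (IsAffineOpen.SpecMap_appLE_fromSpec j hW' hU' e).symm
  haveI : IsOpenImmersion (hU'.fromSpec ≫ j) := by rw [e1]; infer_instance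
  have e2 : U'.ι ≫ j = hU'.isoSpec.hom ≫ (hU'.fromSpec ≫ j) := by
    rw [← Category.assoc, ← hU'.isoSpec_inv_ι, Iso.hom_inv_id_assoc]
  rw [e2]; infer_instance

theorem res_eq_injective {A B : Y.Opens} (h : A = B) :
    Function.Injective (Y.presheaf.map (eqToHom h).op).hom := by
  subst h
  intro a b hab
  simpa using hab

theorem exists_good_affine [IsImmersion j] (y : Y) (O : X.Opens) (hO : j y ∈ O) :
    ∃ W : X.Opens, IsAffineOpen W ∧ j y ∈ W ∧ W ≤ O ∧ IsAffineOpen (j ⁻¹ᵁ W) ∧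
      Function.Surjective (j.app W).hom := by
  have hy : j.coborderRange.ι (j.liftCoborder y) = j y := by
    rw [← Scheme.Hom.comp_apply, j.liftCoborder_ι]
  have hy' : j.liftCoborder y ∈ j.coborderRange.ι ⁻¹ᵁ O := by
    show j.coborderRange.ι (j.liftCoborder y) ∈ O
    rw [hy]; exact hO
  obtain ⟨W₀, hW₀, hyW₀, hW₀O⟩ :=
    (Opens.isBasis_iff_nbhd.mp j.coborderRange.toScheme.isBasis_affineOpens) hy'
  have hW₀' : IsAffineOpen W₀ := hW₀
  have hmem : j.coborderRange.ι (j.liftCoborder y) ∈ j.coborderRange.ι ''ᵁ W₀ :=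
    ⟨_, hyW₀, rfl⟩
  refine ⟨j.coborderRange.ι ''ᵁ W₀, hW₀'.image_of_isOpenImmersion _, hy ▸ hmem, ?_, ?_, ?_⟩
  · rintro _ ⟨w, hw, rfl⟩
    exact hW₀O hw
  · exact (j.liftCoborder_preimage W₀) ▸ hW₀'.preimage j.liftCoborder
  · intro c
    obtain ⟨b, hb⟩ := j.liftCoborder.app_surjective W₀ hW₀'
      ((Y.presheaf.map (eqToHom (j.liftCoborder_preimage W₀)).op).hom c)
    refine ⟨b, ?_⟩
    have h1 := congrArg (fun k => k.hom b) (AlgebraicGeometry.liftCoborder_app j W₀)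
    exact res_eq_injective (j.liftCoborder_preimage W₀) (h1.symm.trans hb)

set_option maxHeartbeats 1600000 in
theorem conormalSections [QuasiCompact j] {W : X.Opens} (hW : IsAffineOpen W)
    (hU : IsAffineOpen (j ⁻¹ᵁ W)) (hsurj : Function.Surjective (j.app W).hom) :
    letI := (j.appLE W (j ⁻¹ᵁ W) le_rfl).hom.toAlgebra
    letI : Module Γ(X, W) Γ(CN j, j ⁻¹ᵁ W) :=
      Module.compHom _ (j.appLE W (j ⁻¹ᵁ W) le_rfl).hom
    ∃ Θ : Γ(CN j, j ⁻¹ᵁ W) ≃ₗ[Γ(X, W)] (j.ker.ideal ⟨W, hW⟩).Cotangent,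
      ∀ n : Γ(ClSub.idealMod j.ker, W),
        Θ (PBH8.cUVLin j (ClSub.idealMod j.ker) le_rfl n) =
          (j.ker.ideal ⟨W, hW⟩).toCotangent (idealModEquiv j.ker hW n) := by
  letI alg : Algebra Γ(X, W) Γ(Y, j ⁻¹ᵁ W) := (j.appLE W (j ⁻¹ᵁ W) le_rfl).hom.toAlgebra
  letI mod : Module Γ(X, W) Γ(CN j, j ⁻¹ᵁ W) :=
    Module.compHom _ (j.appLE W (j ⁻¹ᵁ W) le_rfl).hom
  haveI tow : IsScalarTower Γ(X, W) Γ(Y, j ⁻¹ᵁ W) Γ(CN j, j ⁻¹ᵁ W) :=
    IsScalarTower.of_algebraMap_smul fun _ _ => rfl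
  haveI : (ClSub.idealMod j.ker).IsQuasicoherent := isQuasicoherent_idealMod _
  have hbc : IsBaseChange Γ(Y, j ⁻¹ᵁ W) (PBH8.cUVLin j (ClSub.idealMod j.ker) le_rfl) :=
    PBH8.isBaseChange_cUV j (ClSub.idealMod j.ker) le_rfl hU hW
  have happ : j.appLE W (j ⁻¹ᵁ W) le_rfl = j.app W := (Scheme.Hom.app_eq_appLE j).symm
  have hsurj' : Function.Surjective (algebraMap Γ(X, W) Γ(Y, j ⁻¹ᵁ W)) := by
    intro c
    obtain ⟨b, hb⟩ := hsurj c
    exact ⟨b, (congrArg (fun k => k.hom b) happ).trans hb⟩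
  have hI : ∀ b, b ∈ j.ker.ideal ⟨W, hW⟩ ↔ algebraMap Γ(X, W) Γ(Y, j ⁻¹ᵁ W) b = 0 := by
    intro b
    have hk : j.ker.ideal ⟨W, hW⟩ = RingHom.ker (j.app W).hom := Scheme.Hom.ker_apply _ _
    rw [hk, RingHom.mem_ker]
    exact Iff.of_eq (congrArg (fun k : Γ(X, W) ⟶ Γ(Y, j ⁻¹ᵁ W) => k.hom b = 0) happ.symm)
  exact cotangent_of_isBaseChange' hsurj' (j.ker.ideal ⟨W, hW⟩) hI (idealModEquiv j.ker hW)
    (PBH8.cUVLin j (ClSub.idealMod j.ker) le_rfl) hbc

theorem isIso_of_eq {A B : CommRingCat.{u}} (k k' : A ⟶ B) (h : k = k') (h' : IsIso k') :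
    IsIso k := h ▸ h'

set_option maxHeartbeats 3200000 in
theorem main5980 [IsImmersion j] [QuasiCompact j] [LocallyOfFinitePresentation j] (y : Y) :
    (∃ U : Y.Opens, y ∈ U ∧ IsOpenImmersion (U.ι ≫ j)) ↔
      Subsingleton ((Omega.conormal j).presheaf.stalk y) := by
  classical
  haveI hqcF : (ClSub.idealMod j.ker).IsQuasicoherent := isQuasicoherent_idealMod _
  haveI hqc : (CN j).IsQuasicoherent := inferInstance
  constructor
  · rintro ⟨U₁, hyU₁, hoi⟩
    haveI := hoi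
    have hO : j y ∈ (U₁.ι ≫ j).opensRange := ⟨⟨y, hyU₁⟩, by first | rfl | simp⟩
    obtain ⟨W, hW, hyW, hWO, hU, hsurj⟩ := exists_good_affine j y _ hO
    letI alg : Algebra Γ(X, W) Γ(Y, j ⁻¹ᵁ W) := (j.appLE W (j ⁻¹ᵁ W) le_rfl).hom.toAlgebra
    letI mod : Module Γ(X, W) Γ(CN j, j ⁻¹ᵁ W) :=
      Module.compHom _ (j.appLE W (j ⁻¹ᵁ W) le_rfl).hom
    obtain ⟨Θ, -⟩ := conormalSections j hW hU hsurj
    have hinj : ∀ b ∈ j.ker.ideal ⟨W, hW⟩, b = 0 := by
      intro b hb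
      have hk : j.ker.ideal ⟨W, hW⟩ = RingHom.ker (j.app W).hom := Scheme.Hom.ker_apply _ _
      rw [hk, RingHom.mem_ker] at hb
      haveI : IsIso ((U₁.ι ≫ j).app W) := Scheme.Hom.isIso_app _ W hWO
      have hbij := ConcreteCategory.bijective_of_isIso ((U₁.ι ≫ j).app W)
      apply hbij.1
      have h1 : ((U₁.ι ≫ j).app W).hom b = (U₁.ι.app (j ⁻¹ᵁ W)).hom ((j.app W).hom b) :=
        congrArg (fun k => k.hom b) (Scheme.Hom.comp_app U₁.ι j W)
      rw [map_zero]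
      exact h1.trans ((congrArg (fun z => (U₁.ι.app (j ⁻¹ᵁ W)).hom z) hb).trans
        (map_zero (U₁.ι.app (j ⁻¹ᵁ W)).hom))
    haveI hsC : Subsingleton (j.ker.ideal ⟨W, hW⟩).Cotangent := by
      have key : ∀ z : (j.ker.ideal ⟨W, hW⟩).Cotangent, z = 0 := by
        intro z
        obtain ⟨⟨x, hx⟩, rfl⟩ := Ideal.toCotangent_surjective _ z
        have hx0 : (⟨x, hx⟩ : j.ker.ideal ⟨W, hW⟩) = 0 := Subtype.ext (hinj x hx)
        rw [hx0, map_zero]
      exact ⟨fun z₁ z₂ => (key z₁).trans (key z₂).symm⟩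
    haveI hs : Subsingleton Γ(CN j, j ⁻¹ᵁ W) := Θ.toEquiv.subsingleton
    exact stalk_subsingleton_of_sections (CN j) hU hs hyW
  · intro hst
    haveI hst' : Subsingleton ((CN j).presheaf.stalk y) := hst
    obtain ⟨W, hW, hyW, -, hU, hsurj⟩ := exists_good_affine j y ⊤ trivial
    letI alg : Algebra Γ(X, W) Γ(Y, j ⁻¹ᵁ W) := (j.appLE W (j ⁻¹ᵁ W) le_rfl).hom.toAlgebra
    letI mod : Module Γ(X, W) Γ(CN j, j ⁻¹ᵁ W) :=
      Module.compHom _ (j.appLE W (j ⁻¹ᵁ W) le_rfl).hom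
    obtain ⟨Θ, hΘ⟩ := conormalSections j hW hU hsurj
    have happ : j.appLE W (j ⁻¹ᵁ W) le_rfl = j.app W := (Scheme.Hom.app_eq_appLE j).symm
    have hsurj' : Function.Surjective (j.appLE W (j ⁻¹ᵁ W) le_rfl).hom := by
      intro c
      obtain ⟨b, hb⟩ := hsurj c
      exact ⟨b, (congrArg (fun k => k.hom b) happ).trans hb⟩
    have hI : ∀ b, b ∈ j.ker.ideal ⟨W, hW⟩ ↔ (j.appLE W (j ⁻¹ᵁ W) le_rfl).hom b = 0 := by
      intro b
      have hk : j.ker.ideal ⟨W, hW⟩ = RingHom.ker (j.app W).hom := Scheme.Hom.ker_apply _ _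
      rw [hk, RingHom.mem_ker]
      exact Iff.of_eq (congrArg (fun k : Γ(X, W) ⟶ Γ(Y, j ⁻¹ᵁ W) => k.hom b = 0) happ.symm)
    have hfp : (j.appLE W (j ⁻¹ᵁ W) le_rfl).hom.FinitePresentation :=
      Scheme.Hom.finitePresentation_appLE j hW hU le_rfl
    have hIfg : (j.ker.ideal ⟨W, hW⟩).FG := by
      haveI : Algebra.FinitePresentation Γ(X, W) Γ(Y, j ⁻¹ᵁ W) := hfp
      have h1 := Algebra.FinitePresentation.ker_fG_of_surjective
        (Algebra.ofId Γ(X, W) Γ(Y, j ⁻¹ᵁ W)) hsurj'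
      have h2 : j.ker.ideal ⟨W, hW⟩ =
          RingHom.ker (Algebra.ofId Γ(X, W) Γ(Y, j ⁻¹ᵁ W)).toRingHom :=
        Ideal.ext fun b => (hI b).trans
          (RingHom.mem_ker (f := (Algebra.ofId Γ(X, W) Γ(Y, j ⁻¹ᵁ W)).toRingHom)).symm
      rw [h2]; exact h1
    have hloc : ∀ x ∈ j.ker.ideal ⟨W, hW⟩, ∃ b : Γ(X, W),
        y ∈ Y.basicOpen ((j.appLE W (j ⁻¹ᵁ W) le_rfl).hom b) ∧
          b * x ∈ (j.ker.ideal ⟨W, hW⟩) ^ 2 := by
      intro x hx
      have hΘm : Θ (PBH8.cUVLin j (ClSub.idealMod j.ker) le_rfl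
          ((idealModEquiv j.ker hW).symm ⟨x, hx⟩)) =
          (j.ker.ideal ⟨W, hW⟩).toCotangent ⟨x, hx⟩ := by
        rw [hΘ, LinearEquiv.apply_symm_apply]
      have h0 : (CN j).presheaf.germ (j ⁻¹ᵁ W) y hyW (PBH8.cUVLin j (ClSub.idealMod j.ker) le_rfl
          ((idealModEquiv j.ker hW).symm ⟨x, hx⟩)) = 0 := Subsingleton.elim _ _
      obtain ⟨a, hya, ha⟩ := (locOn_of_isQuasicoherent (CN j) hU).exists_smul_eq_zero_of_germ_eq_zero
        hU hyW _ h0
      obtain ⟨b, rfl⟩ := hsurj' a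
      refine ⟨b, hya, ?_⟩
      have hbm : b • (PBH8.cUVLin j (ClSub.idealMod j.ker) le_rfl
          ((idealModEquiv j.ker hW).symm ⟨x, hx⟩)) = 0 := ha
      have h1 : (j.ker.ideal ⟨W, hW⟩).toCotangent (b • ⟨x, hx⟩) = 0 :=
        (_root_.map_smul (j.ker.ideal ⟨W, hW⟩).toCotangent b ⟨x, hx⟩).trans
          ((congrArg (fun z => b • z) hΘm.symm).trans
            ((Θ.map_smul b _).symm.trans ((congrArg Θ hbm).trans (map_zero Θ))))
      exact (Ideal.toCotangent_eq_zero _ _).mp h1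
    choose! bf hbf using hloc
    obtain ⟨s, hs⟩ := hIfg
    have hsI : ∀ x ∈ s, x ∈ j.ker.ideal ⟨W, hW⟩ := fun x hx => hs ▸ Submodule.subset_span hx
    have hprime : ∀ a : Γ(Y, j ⁻¹ᵁ W), y ∈ Y.basicOpen a ↔
        a ∉ (hU.primeIdealOf ⟨y, hyW⟩).asIdeal :=
      fun a => (notMem_primeIdealOf_iff hU hyW a).symm
    have hb1 : y ∈ Y.basicOpen ((j.appLE W (j ⁻¹ᵁ W) le_rfl).hom (∏ x ∈ s, bf x)) := by
      rw [hprime, map_prod]
      exact Submonoid.prod_mem (hU.primeIdealOf ⟨y, hyW⟩).asIdeal.primeCompl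
        (fun x hx => (hprime _).mp (hbf x (hsI x hx)).1)
    have hb2 : ∀ x ∈ j.ker.ideal ⟨W, hW⟩,
        (∏ x ∈ s, bf x) * x ∈ (j.ker.ideal ⟨W, hW⟩) ^ 2 := by
      intro x hx
      have hx'' : x ∈ Ideal.span (s : Set Γ(X, W)) := by rw [hs]; exact hx
      have hx' : x ∈ Submodule.span Γ(X, W) (s : Set Γ(X, W)) := hx''
      refine Submodule.span_induction
        (p := fun x _ => (∏ x ∈ s, bf x) * x ∈ (j.ker.ideal ⟨W, hW⟩) ^ 2) ?_ ?_ ?_ ?_ hx'
      · intro x hxs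
        have hxs' : x ∈ s := Finset.mem_coe.mp hxs
        have h1 : (∏ x' ∈ s, bf x') * x = (∏ x' ∈ s.erase x, bf x') * (bf x * x) := by
          rw [← Finset.prod_erase_mul s bf hxs', mul_assoc]
        rw [h1]
        exact Ideal.mul_mem_left _ _ (hbf x (hsI x hxs')).2
      · rw [mul_zero]; exact Ideal.zero_mem _
      · intro x₁ x₂ _ _ h1 h2
        rw [mul_add]; exact Ideal.add_mem _ h1 h2
      · intro a x₁ _ h1
        rw [smul_eq_mul, mul_left_comm]; exact Ideal.mul_mem_left _ _ h1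
    obtain ⟨g, n, hgn, hg0⟩ := exists_kill_of_mul_mem_sq (j.ker.ideal ⟨W, hW⟩) ⟨s, hs⟩
      (∏ x ∈ s, bf x) hb2
    have hφg : (j.appLE W (j ⁻¹ᵁ W) le_rfl).hom g =
        (j.appLE W (j ⁻¹ᵁ W) le_rfl).hom (∏ x ∈ s, bf x) ^ n := by
      have h1 := (hI _).mp hgn
      rw [map_sub, map_pow, sub_eq_zero] at h1
      exact h1
    have hyg : y ∈ Y.basicOpen ((j.appLE W (j ⁻¹ᵁ W) le_rfl).hom g) := by
      rw [hprime, hφg]
      intro hmem
      exact (hprime _).mp hb1 (Ideal.IsPrime.mem_of_pow_mem inferInstance n hmem)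
    have hgker : ∀ x, (j.appLE W (j ⁻¹ᵁ W) le_rfl).hom x = 0 → g * x = 0 :=
      fun x hx => hg0 x ((hI x).mpr hx)
    haveI := hW.isLocalization_basicOpen g
    haveI := hU.isLocalization_basicOpen ((j.appLE W (j ⁻¹ᵁ W) le_rfl).hom g)
    have hbij : Function.Bijective (IsLocalization.Away.map Γ(X, X.basicOpen g)
        Γ(Y, Y.basicOpen ((j.appLE W (j ⁻¹ᵁ W) le_rfl).hom g))
        (j.appLE W (j ⁻¹ᵁ W) le_rfl).hom g) :=
      away_map_bijective (j.appLE W (j ⁻¹ᵁ W) le_rfl).hom hsurj' g hgker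
    have hEq := IsAffineOpen.appLE_eq_away_map j hW hU le_rfl g
    have hiso' := isIso_of_eq _ _ hEq ((ConcreteCategory.isIso_iff_bijective _).mpr hbij)
    exact ⟨Y.basicOpen ((j.appLE W (j ⁻¹ᵁ W) le_rfl).hom g), hyg,
      isOpenImmersion_of_isIso_appLE j (hW.basicOpen g) (hU.basicOpen _) _ hiso'⟩

end Geom

end Groth.Agent.Lib.ConormOpenH4
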