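import Mathlib
import Groth.Prelude
import Groth.Agent.Lib.OmegaUniv1_helper4

/-!
# Universality of `d : O_X → Ω_{X/S}` for quasi-separated `f` (helper4).
APPEND-ONLY once landed.
-/

set_option autoImplicit false
set_option linter.style.haveILetI false

universe u

open CategoryTheory CategoryTheory.Limits AlgebraicGeometry Opposite TopologicalSpace TensorProduct
open AlgebraicGeometry.Scheme.Modules

namespace Groth.Agent.Lib.OmegaUniv2H4

open Groth.Agent.Lib.OmegaAffH4 Groth.Agent.Lib.OmegaSecH4 Groth.Agent.Lib.OmegaUnivH4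

variable {X S : Scheme.{u}} (f : X ⟶ S)

/-- An open of `X` is small if it is affine and maps into an affine open of `S`. -/
def Small (U : X.Opens) : Prop :=
  IsAffineOpen U ∧ ∃ V : S.Opens, IsAffineOpen V ∧ U ≤ f ⁻¹ᵁ V

theorem eq_of_forall_small (F : X.Modules) {O : X.Opens} (s t : Γ(F, O))
    (hs : ∀ (U : X.Opens) (hUO : U ≤ O), Small f U →
      F.presheaf.map (homOfLE hUO).op s = F.presheaf.map (homOfLE hUO).op t) : s = t := by
  refine sub_eq_zero.mp (eq_zero_of_forall_small f F (s - t) ?_)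
  intro U hUO V hU hV hUV
  rw [map_sub]
  exact sub_eq_zero.mpr (hs U hUO ⟨hU, V, hV, hUV⟩)

theorem isBasis_small :
    Opens.IsBasis (Set.range (fun i : {U : X.Opens // Small f U} => (i.1 : Opens X))) := by
  refine Opens.isBasis_iff_nbhd.mpr ?_
  intro O x hx
  obtain ⟨V, hV, hfxV, -⟩ := (Opens.isBasis_iff_nbhd.mp S.isBasis_affineOpens)
    (show f x ∈ (⊤ : S.Opens) from trivial)
  have hx' : x ∈ O ⊓ f ⁻¹ᵁ V := ⟨hx, hfxV⟩
  obtain ⟨W, hW, hxW, hWO⟩ := (Opens.isBasis_iff_nbhd.mp X.isBasis_affineOpens) hx'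
  exact ⟨W, ⟨⟨W, hW, V, hV, hWO.trans inf_le_right⟩, rfl⟩, hxW, hWO.trans inf_le_left⟩

theorem span_dSect [QuasiSeparated f] {U : X.Opens} (hU : Small f U) :
    Submodule.span Γ(X, U) (Set.range (OmegaSh.dSect f U)) = ⊤ := by
  obtain ⟨hU, V, hV, h⟩ := hU
  letI algRC : Algebra Γ(S, V) Γ(X, U) := (f.appLE V U h).hom.toAlgebra
  obtain ⟨L, hL⟩ := omegaSections' f hU hV h
  refine eq_top_iff.mpr fun x _ => ?_
  have hle : Submodule.span Γ(X, U) (Set.range (KaehlerDifferential.D Γ(S, V) Γ(X, U))) ≤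
      (Submodule.span Γ(X, U) (Set.range (OmegaSh.dSect f U))).map L.toLinearMap := by
    refine Submodule.span_le.mpr ?_
    rintro _ ⟨b, rfl⟩
    exact ⟨OmegaSh.dSect f U b, Submodule.subset_span ⟨b, rfl⟩, hL b⟩
  have hx : L x ∈ (Submodule.span Γ(X, U) (Set.range (OmegaSh.dSect f U))).map L.toLinearMap :=
    hle ((KaehlerDifferential.span_range_derivation Γ(S, V) Γ(X, U)).symm ▸ Submodule.mem_top)
  obtain ⟨y, hy, hyx⟩ := hx
  exact (L.injective hyx) ▸ hy

section Der

variable {f} {F : X.Modules} (D : OmegaSh.Der f F)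

theorem der_map {U U' : X.Opens} (e : U' ≤ U) (s : Γ(X, U)) :
    D.app U' (X.presheaf.map (homOfLE e).op s) = F.presheaf.map (homOfLE e).op (D.app U s) :=
  D.d_map (homOfLE e).op s

theorem der_mul (U : X.Opens) (a b : Γ(X, U)) :
    D.app U (a * b) = a • D.app U b + b • D.app U a :=
  D.d_mul a b

theorem der_one (U : X.Opens) : D.app U 1 = 0 := D.d_one (op U)

theorem der_base {U : X.Opens} {V : S.Opens} (h : U ≤ f ⁻¹ᵁ V) (c : Γ(S, V)) :
    D.app U ((f.appLE V U h).hom c) = 0 := by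
  have h0 : D.app (f ⁻¹ᵁ V) (f.app V c) = 0 := D.d_app (X := op V) c
  have h2 : F.presheaf.map (homOfLE h).op (D.app (f ⁻¹ᵁ V) (f.app V c)) = 0 := by
    rw [h0, map_zero]
  exact (der_map D h (f.app V c)).trans h2

end Der

theorem exists_local_lift [QuasiSeparated f] (F : X.Modules) (D : OmegaSh.Der f F) {U : X.Opens}
    (hU : Small f U) :
    ∃ α : Γ(Omega.sheaf f, U) →ₗ[Γ(X, U)] Γ(F, U),
      ∀ b : Γ(X, U), α (OmegaSh.dSect f U b) = D.app U b := by
  obtain ⟨hU, V, hV, h⟩ := hU
  letI algRC : Algebra Γ(S, V) Γ(X, U) := (f.appLE V U h).hom.toAlgebra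
  letI modF : Module Γ(S, V) Γ(F, U) := Module.compHom _ (f.appLE V U h).hom
  haveI tow : IsScalarTower Γ(S, V) Γ(X, U) Γ(F, U) :=
    IsScalarTower.of_algebraMap_smul fun _ _ => rfl
  obtain ⟨L, hL⟩ := omegaSections' f hU hV h
  let δ : Derivation Γ(S, V) Γ(X, U) Γ(F, U) :=
    { toFun := fun a => D.app U a
      map_add' := fun a b => map_add (D.app U) a b
      map_smul' := fun c a => by
        show D.app U ((f.appLE V U h).hom c * a) = (f.appLE V U h).hom c • D.app U a
        rw [der_mul, der_base D h c, smul_zero, add_zero]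
      map_one_eq_zero' := der_one D U
      leibniz' := fun a b => der_mul D U a b }
  refine ⟨δ.liftKaehlerDifferential.comp L.toLinearMap, fun b => ?_⟩
  show δ.liftKaehlerDifferential (L (OmegaSh.dSect f U b)) = _
  rw [hL b, Derivation.liftKaehlerDifferential_comp_D]
  rfl

theorem local_lift_natural [QuasiSeparated f] (F : X.Modules) (D : OmegaSh.Der f F)
    {U U' : X.Opens} (hU : Small f U) (e : U' ≤ U)
    (α : Γ(Omega.sheaf f, U) →ₗ[Γ(X, U)] Γ(F, U))
    (hα : ∀ b : Γ(X, U), α (OmegaSh.dSect f U b) = D.app U b)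
    (α' : Γ(Omega.sheaf f, U') →ₗ[Γ(X, U')] Γ(F, U'))
    (hα' : ∀ b : Γ(X, U'), α' (OmegaSh.dSect f U' b) = D.app U' b)
    (x : Γ(Omega.sheaf f, U)) :
    α' ((Omega.sheaf f).presheaf.map (homOfLE e).op x) =
      F.presheaf.map (homOfLE e).op (α x) := by
  have hx : x ∈ Submodule.span Γ(X, U) (Set.range (OmegaSh.dSect f U)) :=
    (span_dSect f hU).symm ▸ Submodule.mem_top
  refine Submodule.span_induction
    (p := fun x _ => α' ((Omega.sheaf f).presheaf.map (homOfLE e).op x) =
      F.presheaf.map (homOfLE e).op (α x)) ?_ ?_ ?_ ?_ hx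
  · rintro _ ⟨b, rfl⟩
    have h1 : (Omega.sheaf f).presheaf.map (homOfLE e).op (OmegaSh.dSect f U b) =
        OmegaSh.dSect f U' (X.presheaf.map (homOfLE e).op b) := (OmegaSh.dSect_map f e b).symm
    exact (congrArg α' h1).trans ((hα' _).trans ((der_map D e b).trans
      (congrArg (fun z => F.presheaf.map (homOfLE e).op z) (hα b).symm)))
  · show α' ((Omega.sheaf f).presheaf.map (homOfLE e).op 0) =
      F.presheaf.map (homOfLE e).op (α 0)
    simp only [map_zero]
  · intro x y _ _ hx hy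
    show α' ((Omega.sheaf f).presheaf.map (homOfLE e).op (x + y)) =
      F.presheaf.map (homOfLE e).op (α (x + y))
    simp only [map_add, hx, hy]
  · intro a x _ hx
    show α' ((Omega.sheaf f).presheaf.map (homOfLE e).op (a • x)) =
      F.presheaf.map (homOfLE e).op (α (a • x))
    exact (congrArg α' (Scheme.Modules.map_smul (Omega.sheaf f) (homOfLE e) a x)).trans
      ((α'.map_smul _ _).trans
        ((congrArg (fun z => X.presheaf.map (homOfLE e).op a • z) hx).trans
          ((Scheme.Modules.map_smul F (homOfLE e) a (α x)).symm.trans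
            (congrArg (fun z => F.presheaf.map (homOfLE e).op z) (α.map_smul a x).symm))))

set_option maxHeartbeats 1600000 in
theorem exists_lift [QuasiSeparated f] (F : X.Modules) (D : OmegaSh.Der f F) :
    ∃ α : Omega.sheaf f ⟶ F, ∀ (O : X.Opens) (s : Γ(X, O)),
      α.app O (OmegaSh.dSect f O s) = D.app O s := by
  choose αf hαf using fun (i : {U : X.Opens // Small f U}) => exists_local_lift f F D i.2
  have hB := isBasis_small f
  let nt : (inducedFunctor (fun i : {U : X.Opens // Small f U} => (i.1 : Opens X))).op ⋙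
      (Omega.sheaf f).presheaf ⟶
      (inducedFunctor (fun i : {U : X.Opens // Small f U} => (i.1 : Opens X))).op ⋙ F.presheaf :=
    { app := fun i => AddCommGrpCat.ofHom (αf i.unop).toAddMonoidHom
      naturality := fun i j g => by
        ext x
        exact local_lift_natural f F D i.unop.2 g.unop.hom.le (αf i.unop) (hαf i.unop)
          (αf j.unop) (hαf j.unop) x }
  let φ : (Omega.sheaf f).presheaf ⟶ F.presheaf :=
    TopCat.Sheaf.restrictHomEquivHom (Omega.sheaf f).presheaf ⟨F.presheaf, F.isSheaf⟩ hB nt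
  have hφ : ∀ (i : {U : X.Opens // Small f U}) (x : Γ(Omega.sheaf f, i.1)),
      φ.app (op i.1) x = αf i x := by
    intro i x
    have h1 := TopCat.Sheaf.extend_hom_app (Omega.sheaf f).presheaf ⟨F.presheaf, F.isSheaf⟩ hB nt i
    exact congrArg (fun k => k.hom x) h1
  have hnat : ∀ {O O' : X.Opens} (e : O' ≤ O) (x : Γ(Omega.sheaf f, O)),
      F.presheaf.map (homOfLE e).op (φ.app (op O) x) =
        φ.app (op O') ((Omega.sheaf f).presheaf.map (homOfLE e).op x) :=
    fun e x => (NatTrans.naturality_apply φ (homOfLE e).op x).symm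
  have hlin : ∀ (O : X.Opens) (r : Γ(X, O)) (m : Γ(Omega.sheaf f, O)),
      φ.app (op O) (r • m) = r • φ.app (op O) m := by
    intro O r m
    refine eq_of_forall_small f F _ _ fun W hWO hW => ?_
    have e1 := hnat hWO (r • m)
    have e2 := Scheme.Modules.map_smul (Omega.sheaf f) (homOfLE hWO) r m
    have e3 := hφ ⟨W, hW⟩ (X.presheaf.map (homOfLE hWO).op r •
      (Omega.sheaf f).presheaf.map (homOfLE hWO).op m)
    have e4 := (αf ⟨W, hW⟩).map_smul (X.presheaf.map (homOfLE hWO).op r)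
      ((Omega.sheaf f).presheaf.map (homOfLE hWO).op m)
    have e5 := hφ ⟨W, hW⟩ ((Omega.sheaf f).presheaf.map (homOfLE hWO).op m)
    have e6 := hnat hWO m
    have e7 := Scheme.Modules.map_smul F (homOfLE hWO) r (φ.app (op O) m)
    exact e1.trans ((congrArg (fun z => φ.app (op W) z) e2).trans (e3.trans (e4.trans
      ((congrArg (fun z => X.presheaf.map (homOfLE hWO).op r • z) (e5.symm.trans e6.symm)).trans
        e7.symm))))
  let α : Omega.sheaf f ⟶ F :=
    ⟨PresheafOfModules.homMk (M₁ := (Omega.sheaf f).val) (M₂ := F.val) φ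
      (fun U r m => hlin U.unop r m)⟩
  have hαapp : ∀ (O : X.Opens) (x : Γ(Omega.sheaf f, O)), α.app O x = φ.app (op O) x :=
    fun O x => rfl
  refine ⟨α, fun O s => ?_⟩
  refine (hαapp O _).trans ?_
  refine eq_of_forall_small f F _ _ fun W hWO hW => ?_
  have e1 := hnat hWO (OmegaSh.dSect f O s)
  have e2 : (Omega.sheaf f).presheaf.map (homOfLE hWO).op (OmegaSh.dSect f O s) =
      OmegaSh.dSect f W (X.presheaf.map (homOfLE hWO).op s) := (OmegaSh.dSect_map f hWO s).symm
  have e3 := hφ ⟨W, hW⟩ (OmegaSh.dSect f W (X.presheaf.map (homOfLE hWO).op s))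
  have e4 := hαf ⟨W, hW⟩ (X.presheaf.map (homOfLE hWO).op s)
  have e5 := der_map D hWO s
  exact e1.trans ((congrArg (fun z => φ.app (op W) z) e2).trans (e3.trans (e4.trans e5)))

theorem hom_eq_of_dSect [QuasiSeparated f] (F : X.Modules) (β₁ β₂ : Omega.sheaf f ⟶ F)
    (h : ∀ (O : X.Opens) (s : Γ(X, O)),
      β₁.app O (OmegaSh.dSect f O s) = β₂.app O (OmegaSh.dSect f O s)) : β₁ = β₂ := by
  refine Scheme.Modules.hom_ext _ _ fun O => ?_
  ext x
  refine eq_of_forall_small f F _ _ fun W hWO hW => ?_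
  have n1 : F.presheaf.map (homOfLE hWO).op (β₁.app O x) =
      β₁.app W ((Omega.sheaf f).presheaf.map (homOfLE hWO).op x) :=
    (NatTrans.naturality_apply β₁.mapPresheaf (homOfLE hWO).op x).symm
  have n2 : F.presheaf.map (homOfLE hWO).op (β₂.app O x) =
      β₂.app W ((Omega.sheaf f).presheaf.map (homOfLE hWO).op x) :=
    (NatTrans.naturality_apply β₂.mapPresheaf (homOfLE hWO).op x).symm
  let l1 : Γ(Omega.sheaf f, W) →ₗ[Γ(X, W)] Γ(F, W) :=
    { toFun := fun y => β₁.app W y
      map_add' := fun y z => map_add (β₁.app W).hom y z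
      map_smul' := fun r y => Scheme.Modules.Hom.app_smul β₁ r y }
  let l2 : Γ(Omega.sheaf f, W) →ₗ[Γ(X, W)] Γ(F, W) :=
    { toFun := fun y => β₂.app W y
      map_add' := fun y z => map_add (β₂.app W).hom y z
      map_smul' := fun r y => Scheme.Modules.Hom.app_smul β₂ r y }
  have hl : l1 = l2 := LinearMap.ext_on (span_dSect f hW) (by
    rintro _ ⟨b, rfl⟩
    exact h W b)
  have hl' : β₁.app W ((Omega.sheaf f).presheaf.map (homOfLE hWO).op x) =
      β₂.app W ((Omega.sheaf f).presheaf.map (homOfLE hWO).op x) :=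
    congrArg (fun l : Γ(Omega.sheaf f, W) →ₗ[Γ(X, W)] Γ(F, W) =>
      l ((Omega.sheaf f).presheaf.map (homOfLE hWO).op x)) hl
  exact n1.trans (hl'.trans n2.symm)

theorem main5005 [QuasiSeparated f] : OmegaSh.IsUniversal (OmegaSh.dOmega f) := by
  intro F D
  obtain ⟨α, hα⟩ := exists_lift f F D
  refine ⟨α, ?_, fun β hβ => ?_⟩
  · show (OmegaSh.dOmega f).postcomp α.val = D
    refine PresheafOfModules.Derivation.ext ?_
    funext U
    refine AddMonoidHom.ext fun s => ?_
    exact hα U.unop s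
  · have hβ' : (OmegaSh.dOmega f).postcomp β.val = D := hβ
    refine hom_eq_of_dSect f F β α fun O s => ?_
    have h1 := PresheafOfModules.Derivation.congr_d hβ' (X := op O) s
    exact h1.trans (hα O s).symm

end Groth.Agent.Lib.OmegaUniv2H4
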