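import Mathlib
import Groth.Prelude
import Groth.Agent.Lib.OmegaUniv2_helper4

/-!
# The comparison maps `Ω[Γ(U)/Γ(V)] → Γ(U, Ω_{X/Y})` are isomorphisms on affines (S15741, S15742)
— helper4. APPEND-ONLY once landed.
-/

set_option autoImplicit false
set_option linter.style.haveILetI false

universe u

open CategoryTheory CategoryTheory.Limits AlgebraicGeometry Opposite TopologicalSpace TensorProduct
open AlgebraicGeometry.Scheme.Modules

namespace Groth.Agent.Lib.OmegaAffCmpH4

open Groth.Agent.Lib.OmegaAffH4 Groth.Agent.Lib.OmegaSecH4 Groth.Agent.Lib.OmegaUnivH4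
open Groth.Agent.Lib.OmegaUniv2H4

theorem main15741 (X Y : Scheme.{u}) (f : X ⟶ Y) [QuasiSeparated f]
    (U : X.affineOpens) (V : Y.affineOpens) (h : U.1 ≤ f ⁻¹ᵁ V.1) :
    IsIso (OmAff.toSect f V.1 U.1 h) := by
  letI alg : Algebra Γ(Y, V.1) Γ(X, U.1) := (f.appLE V.1 U.1 h).hom.toAlgebra
  obtain ⟨L, hL⟩ := omegaSections' f U.2 V.2 h
  have key : OmAff.toSect f V.1 U.1 h ≫
      (ModuleCat.ofHom L.toLinearMap : OmAff.sectMod (Omega.sheaf f) U.1 ⟶
        CommRingCat.KaehlerDifferential (f.appLE V.1 U.1 h)) = 𝟙 _ := by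
    apply CommRingCat.KaehlerDifferential.ext
    intro b
    show L (OmAff.toSect f V.1 U.1 h (CommRingCat.KaehlerDifferential.d b)) = _
    rw [OmAff.toSect_d]
    exact hL b
  have hLT : ∀ x : CommRingCat.KaehlerDifferential (f.appLE V.1 U.1 h),
      L ((OmAff.toSect f V.1 U.1 h) x) = x := fun x =>
    LinearMap.congr_fun (congrArg ModuleCat.Hom.hom key) x
  rw [ConcreteCategory.isIso_iff_bijective]
  refine ⟨fun x x' hxx' => ?_, fun y => ⟨L y, L.injective (hLT (L y))⟩⟩
  exact (hLT x).symm.trans ((congrArg (fun z => L z) hxx').trans (hLT x'))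

theorem kaehler_transport {A B A' B' : Type u} [CommRing A] [CommRing B] [CommRing A'] [CommRing B']
    [Algebra A B] [Algebra A' B'] (eA : A' →+* A) (eB : B' →+* B)
    (hcomp : ∀ a', eB (algebraMap A' B' a') = algebraMap A B (eA a')) :
    ∃ ν : Ω[B'⁄A'] →+ Ω[B⁄A],
      (∀ b', ν (KaehlerDifferential.D A' B' b') = KaehlerDifferential.D A B (eB b')) ∧
      ∀ (b' : B') (x : Ω[B'⁄A']), ν (b' • x) = eB b' • ν x := by
  letI : Algebra A' A := eA.toAlgebra
  letI : Algebra B' B := eB.toAlgebra
  letI : Algebra A' B := ((algebraMap A B).comp eA).toAlgebra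
  haveI : IsScalarTower A' A B := IsScalarTower.of_algebraMap_eq (fun _ => rfl)
  haveI : IsScalarTower A' B' B := IsScalarTower.of_algebraMap_eq (fun a' => (hcomp a').symm)
  haveI : SMulCommClass A B' B := ⟨fun a b' b => by
    simp only [Algebra.smul_def]; ring⟩
  refine ⟨(KaehlerDifferential.map A' A B' B).toAddMonoidHom, fun b' => ?_, fun b' x => ?_⟩
  · exact KaehlerDifferential.map_D A' A B' B b'
  · have h1 : (KaehlerDifferential.map A' A B' B) (b' • x) =
        b' • (KaehlerDifferential.map A' A B' B) x := (KaehlerDifferential.map A' A B' B).map_smul b' x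
    have h2 : b' • (KaehlerDifferential.map A' A B' B) x =
        algebraMap B' B b' • (KaehlerDifferential.map A' A B' B) x :=
      (algebraMap_smul B b' _).symm
    exact h1.trans h2

theorem main15742 (A B : Type u) [CommRing A] [CommRing B] [Algebra A B] :
    Function.Bijective (OmAff.toSpec A B) := by
  have h : (⊤ : (Spec (CommRingCat.of B)).Opens) ≤
      (Spec.map (CommRingCat.ofHom (algebraMap A B))) ⁻¹ᵁ (⊤ : (Spec (CommRingCat.of A)).Opens) :=
    fun _ _ => trivial
  have hU : IsAffineOpen (⊤ : (Spec (CommRingCat.of B)).Opens) := isAffineOpen_top _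
  have hV : IsAffineOpen (⊤ : (Spec (CommRingCat.of A)).Opens) := isAffineOpen_top _
  letI alg : Algebra Γ(Spec (CommRingCat.of A), ⊤) Γ(Spec (CommRingCat.of B), ⊤) :=
    ((Spec.map (CommRingCat.ofHom (algebraMap A B))).appLE ⊤ ⊤ h).hom.toAlgebra
  obtain ⟨L, hL⟩ := omegaSections' (Spec.map (CommRingCat.ofHom (algebraMap A B))) hU hV h
  have hsmall : Small (Spec.map (CommRingCat.ofHom (algebraMap A B)))
      (⊤ : (Spec (CommRingCat.of B)).Opens) := ⟨hU, ⊤, hV, h⟩
  have hspan := span_dSect (Spec.map (CommRingCat.ofHom (algebraMap A B))) hsmall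
  -- the ring isomorphisms
  have hBinv : ∀ b' : Γ(Spec (CommRingCat.of B), ⊤),
      OmAff.toΓ B ((Scheme.ΓSpecIso (CommRingCat.of B)).hom.hom b') = b' := fun b' =>
    (Scheme.ΓSpecIso (CommRingCat.of B)).hom_inv_id_apply b'
  have hBinv' : ∀ b : B,
      (Scheme.ΓSpecIso (CommRingCat.of B)).hom.hom (OmAff.toΓ B b) = b := fun b =>
    (Scheme.ΓSpecIso (CommRingCat.of B)).inv_hom_id_apply b
  constructor
  · -- injectivity
    have hcomp : ∀ a' : Γ(Spec (CommRingCat.of A), ⊤),
        (Scheme.ΓSpecIso (CommRingCat.of B)).hom.hom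
          (algebraMap Γ(Spec (CommRingCat.of A), ⊤) Γ(Spec (CommRingCat.of B), ⊤) a') =
        algebraMap A B ((Scheme.ΓSpecIso (CommRingCat.of A)).hom.hom a') := by
      intro a'
      have h0 := congrArg (fun m => m.hom a')
        (Scheme.ΓSpecIso_naturality (CommRingCat.ofHom (algebraMap A B)))
      have h1 : (Spec.map (CommRingCat.ofHom (algebraMap A B))).appLE ⊤ ⊤ h =
          (Spec.map (CommRingCat.ofHom (algebraMap A B))).appTop := by
        simp [Scheme.Hom.appLE]
      show (Scheme.ΓSpecIso (CommRingCat.of B)).hom.hom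
        (((Spec.map (CommRingCat.ofHom (algebraMap A B))).appLE ⊤ ⊤ h).hom a') = _
      rw [h1]
      exact h0
    obtain ⟨ν, hν1, hν2⟩ := kaehler_transport (A := A) (B := B)
      (A' := Γ(Spec (CommRingCat.of A), ⊤)) (B' := Γ(Spec (CommRingCat.of B), ⊤))
      (Scheme.ΓSpecIso (CommRingCat.of A)).hom.hom (Scheme.ΓSpecIso (CommRingCat.of B)).hom.hom hcomp
    have hΦ : ∀ x : Ω[B⁄A], ν (L (OmAff.toSpec A B x)) = x := by
      intro x
      have hx : x ∈ Submodule.span B (Set.range (KaehlerDifferential.D A B)) := by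
        rw [KaehlerDifferential.span_range_derivation]; trivial
      induction hx using Submodule.span_induction with
      | mem y hy =>
        obtain ⟨b, rfl⟩ := hy
        rw [OmAff.toSpec_D, hL, hν1, hBinv']
      | zero => rw [map_zero, map_zero, map_zero]
      | add y z _ _ hy hz => rw [map_add, map_add, map_add, hy, hz]
      | smul b y _ hy =>
        rw [LinearMap.map_smulₛₗ, L.map_smul, hν2, hBinv', hy]
    intro x x' hxx'
    exact (hΦ x).symm.trans ((congrArg (fun z => ν (L z)) hxx').trans (hΦ x'))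
  · -- surjectivity
    intro y
    have hy : y ∈ Submodule.span Γ(Spec (CommRingCat.of B), ⊤)
        (Set.range (OmegaSh.dSect (Spec.map (CommRingCat.ofHom (algebraMap A B))) ⊤)) := by
      rw [hspan]; trivial
    induction hy using Submodule.span_induction with
    | mem z hz =>
      obtain ⟨b', rfl⟩ := hz
      refine ⟨KaehlerDifferential.D A B ((Scheme.ΓSpecIso (CommRingCat.of B)).hom.hom b'), ?_⟩
      rw [OmAff.toSpec_D, hBinv]
    | zero => exact ⟨0, map_zero _⟩
    | add z w _ _ hz hw =>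
      obtain ⟨x, rfl⟩ := hz
      obtain ⟨x', rfl⟩ := hw
      exact ⟨x + x', map_add _ _ _⟩
    | smul c z _ hz =>
      obtain ⟨x, rfl⟩ := hz
      refine ⟨(Scheme.ΓSpecIso (CommRingCat.of B)).hom.hom c • x, ?_⟩
      rw [LinearMap.map_smulₛₗ, hBinv]

end Groth.Agent.Lib.OmegaAffCmpH4
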