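import Mathlib
import Groth.Prelude
import Groth.Agent.Lib.OmegaUniv2_helper4
import Groth.Agent.Lib.OmegaAffCmp_helper4

/-!
# Restriction of universal derivations to opens; sections of receptacles (helper4).
APPEND-ONLY once landed.
-/

set_option autoImplicit false
set_option linter.style.haveILetI false

universe u

open CategoryTheory CategoryTheory.Limits AlgebraicGeometry Opposite TopologicalSpace TensorProduct
open AlgebraicGeometry.Scheme.Modules

namespace Groth.Agent.Lib.OmegaResH4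

open Groth.Agent.Lib.OmegaUniv2H4

section Basic

variable {X Y : Scheme.{u}} {f : X ⟶ Y}

theorem mod_map_congr {Z : Scheme.{u}} (F : Z.Modules) {A B : Z.Opensᵒᵖ} (i k : A ⟶ B)
    (x : F.presheaf.obj A) : F.presheaf.map i x = F.presheaf.map k x := by
  rw [Subsingleton.elim i k]

theorem postcomp_eq_iff {Ω' F : X.Modules} (d : OmegaSh.Der f Ω') (D : OmegaSh.Der f F)
    (α : Ω' ⟶ F) :
    d.postcomp α.val = D ↔ ∀ (O : X.Opens) (s : Γ(X, O)), α.app O (d.app O s) = D.app O s := by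
  constructor
  · intro h O s
    exact PresheafOfModules.Derivation.congr_d h (X := op O) s
  · intro h
    refine PresheafOfModules.Derivation.ext ?_
    funext U
    refine AddMonoidHom.ext fun s => ?_
    exact h U.unop s

theorem exists_iso_of_isUniversal {Ω₁ Ω₂ : X.Modules} (d₁ : OmegaSh.Der f Ω₁)
    (d₂ : OmegaSh.Der f Ω₂) (h₁ : OmegaSh.IsUniversal d₁) (h₂ : OmegaSh.IsUniversal d₂) :
    ∃ e : Ω₁ ≅ Ω₂, ∀ (O : X.Opens) (s : Γ(X, O)), e.hom.app O (d₁.app O s) = d₂.app O s := by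
  obtain ⟨α, hα, -⟩ := h₁ Ω₂ d₂
  obtain ⟨β, hβ, -⟩ := h₂ Ω₁ d₁
  have hα' := (postcomp_eq_iff d₁ d₂ α).mp hα
  have hβ' := (postcomp_eq_iff d₂ d₁ β).mp hβ
  obtain ⟨γ₁, -, hu₁⟩ := h₁ Ω₁ d₁
  obtain ⟨γ₂, -, hu₂⟩ := h₂ Ω₂ d₂
  have e1 : α ≫ β = 𝟙 Ω₁ := by
    have a1 : α ≫ β = γ₁ := hu₁ _ ((postcomp_eq_iff d₁ d₁ (α ≫ β)).mpr fun O s =>
      (congrArg (fun z => β.app O z) (hα' O s)).trans (hβ' O s))
    have a2 : 𝟙 Ω₁ = γ₁ := hu₁ _ ((postcomp_eq_iff d₁ d₁ (𝟙 Ω₁)).mpr fun O s => rfl)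
    exact a1.trans a2.symm
  have e2 : β ≫ α = 𝟙 Ω₂ := by
    have a1 : β ≫ α = γ₂ := hu₂ _ ((postcomp_eq_iff d₂ d₂ (β ≫ α)).mpr fun O s =>
      (congrArg (fun z => α.app O z) (hβ' O s)).trans (hα' O s))
    have a2 : 𝟙 Ω₂ = γ₂ := hu₂ _ ((postcomp_eq_iff d₂ d₂ (𝟙 Ω₂)).mpr fun O s => rfl)
    exact a1.trans a2.symm
  exact ⟨⟨α, β, e1, e2⟩, hα'⟩

end Basic

section Restrict

variable {X' X Y : Scheme.{u}} (j : X' ⟶ X) [IsOpenImmersion j] (f : X ⟶ Y)

theorem appIso_inv_comp (V : Y.Opens) (h : j ''ᵁ ((j ≫ f) ⁻¹ᵁ V) ≤ f ⁻¹ᵁ V) (a : Γ(Y, V)) :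
    (j.appIso ((j ≫ f) ⁻¹ᵁ V)).inv.hom (((j ≫ f).app V).hom a) =
      (f.appLE V (j ''ᵁ ((j ≫ f) ⁻¹ᵁ V)) h).hom a := by
  have h1 : (j ≫ f).app V = f.app V ≫ j.app (f ⁻¹ᵁ V) := Scheme.Hom.comp_app j f V
  have h2 : j.app (f ⁻¹ᵁ V) ≫ (j.appIso (j ⁻¹ᵁ (f ⁻¹ᵁ V))).inv =
      X.presheaf.map (homOfLE (Set.image_preimage_subset j (f ⁻¹ᵁ V).1)).op :=
    j.app_appIso_inv (f ⁻¹ᵁ V)
  have h3 : (j ≫ f).app V ≫ (j.appIso ((j ≫ f) ⁻¹ᵁ V)).inv =
      f.appLE V (j ''ᵁ ((j ≫ f) ⁻¹ᵁ V)) h :=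
    (congrArg (fun k => k ≫ (j.appIso ((j ≫ f) ⁻¹ᵁ V)).inv) h1).trans
      ((Category.assoc _ _ _).trans ((congrArg (fun k => f.app V ≫ k) h2).trans rfl))
  exact congrArg (fun k => k.hom a) h3

/-- Restriction of a derivation along an open immersion. -/
noncomputable def resDer {Ω' : X.Modules} (d : OmegaSh.Der f Ω') :
    OmegaSh.Der (j ≫ f) (Ω'.restrict j) where
  d {W} := AddMonoidHom.mk'
    (fun s => (d.app (j ''ᵁ W.unop) ((j.appIso W.unop).inv.hom s) : Γ(Ω', j ''ᵁ W.unop)))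
    (fun a b => (congrArg (fun z => d.app (j ''ᵁ W.unop) z)
      (map_add (j.appIso W.unop).inv.hom a b)).trans (map_add (d.app (j ''ᵁ W.unop)) _ _))
  d_mul {W} a b :=
    (congrArg (fun z => d.app (j ''ᵁ W.unop) z) (map_mul (j.appIso W.unop).inv.hom a b)).trans
      (der_mul d (j ''ᵁ W.unop) _ _)
  d_map {W W'} i x := by
    have hnat := congrArg (fun k => k.hom x)
      (j.appIso_inv_naturality (U := W.unop) (V := W'.unop) i)
    exact (congrArg (fun z => d.app (j ''ᵁ W'.unop) z) hnat).trans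
      (d.d_map (j.opensFunctor.op.map i) _)
  d_app {V} a := by
    have h : j ''ᵁ ((j ≫ f) ⁻¹ᵁ V.unop) ≤ f ⁻¹ᵁ V.unop := by
      rintro _ ⟨y, hy, rfl⟩
      exact hy
    exact (congrArg (fun z => d.app _ z) (appIso_inv_comp j f V.unop h a)).trans (der_base d h a)

theorem resDer_app {Ω' : X.Modules} (d : OmegaSh.Der f Ω') (W : X'.Opens) (t : Γ(X', W)) :
    (resDer j f d).app W t = d.app (j ''ᵁ W) ((j.appIso W).inv.hom t) := rfl

/-- Pushforward of a derivation along an open immersion. -/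
noncomputable def pushDer {F' : X'.Modules} (D' : OmegaSh.Der (j ≫ f) F') :
    OmegaSh.Der f ((Scheme.Modules.pushforward j).obj F') where
  d {O} := AddMonoidHom.mk'
    (fun s => (D'.app (j ⁻¹ᵁ O.unop) ((j.app O.unop).hom s) : Γ(F', j ⁻¹ᵁ O.unop)))
    (fun a b => (congrArg (fun z => D'.app (j ⁻¹ᵁ O.unop) z)
      (map_add (j.app O.unop).hom a b)).trans (map_add (D'.app (j ⁻¹ᵁ O.unop)) _ _))
  d_mul {O} a b :=
    (congrArg (fun z => D'.app (j ⁻¹ᵁ O.unop) z) (map_mul (j.app O.unop).hom a b)).trans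
      (der_mul D' (j ⁻¹ᵁ O.unop) _ _)
  d_map {O O'} i x := by
    have hnat := congrArg (fun k => k.hom x) (j.naturality (U := O'.unop) (U' := O.unop) i)
    exact (congrArg (fun z => D'.app (j ⁻¹ᵁ O'.unop) z) hnat).trans
      (D'.d_map ((Opens.map j.base).map i.unop).op _)
  d_app {V} a := by
    have h1 : (j ≫ f).app V.unop = f.app V.unop ≫ j.app (f ⁻¹ᵁ V.unop) :=
      Scheme.Hom.comp_app j f V.unop
    have h2 := D'.d_app (X := V) a
    have h3 : ((j ≫ f).app V.unop).hom a = (j.app (f ⁻¹ᵁ V.unop)).hom ((f.app V.unop).hom a) :=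
      congrArg (fun k => k.hom a) h1
    exact (congrArg (fun z => D'.app _ z) h3.symm).trans h2

theorem pushDer_app {F' : X'.Modules} (D' : OmegaSh.Der (j ≫ f) F') (O : X.Opens) (s : Γ(X, O)) :
    (pushDer j f D').app O s = D'.app (j ⁻¹ᵁ O) ((j.app O).hom s) := rfl

theorem isUniversal_restrict {Ω' : X.Modules} (d : OmegaSh.Der f Ω')
    (hd : OmegaSh.IsUniversal d) : OmegaSh.IsUniversal (resDer j f d) := by
  intro F' D'
  obtain ⟨α, hα, hαu⟩ := hd _ (pushDer j f D')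
  have hα' : ∀ (O : X.Opens) (s : Γ(X, O)),
      α.app O (d.app O s) = D'.app (j ⁻¹ᵁ O) ((j.app O).hom s) :=
    (postcomp_eq_iff d (pushDer j f D') α).mp hα
  have key : ∀ β : Ω'.restrict j ⟶ F',
      (∀ (W : X'.Opens) (t : Γ(X', W)), β.app W ((resDer j f d).app W t) = D'.app W t) →
      ((Scheme.Modules.restrictAdjunction j).homEquiv Ω' F') β = α := by
    intro β hβ
    refine ((Scheme.Modules.restrictAdjunction j).homEquiv_unit Ω' F' β).trans ?_
    refine hαu _ ((postcomp_eq_iff d (pushDer j f D') _).mpr fun O s => ?_)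
    show β.app (j ⁻¹ᵁ O) (Ω'.presheaf.map (homOfLE (j.image_preimage_le O)).op (d.app O s)) =
      D'.app (j ⁻¹ᵁ O) ((j.app O).hom s)
    have h1 : Ω'.presheaf.map (homOfLE (j.image_preimage_le O)).op (d.app O s) =
        d.app (j ''ᵁ (j ⁻¹ᵁ O)) ((X.presheaf.map (homOfLE (j.image_preimage_le O)).op).hom s) :=
      (der_map d (j.image_preimage_le O) s).symm
    have h2 : (X.presheaf.map (homOfLE (j.image_preimage_le O)).op).hom s =
        (j.appIso (j ⁻¹ᵁ O)).inv.hom ((j.app O).hom s) :=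
      (congrArg (fun k => k.hom s) (j.app_appIso_inv O)).symm
    have h3 : Ω'.presheaf.map (homOfLE (j.image_preimage_le O)).op (d.app O s) =
        (resDer j f d).app (j ⁻¹ᵁ O) ((j.app O).hom s) :=
      h1.trans (congrArg (fun z => d.app (j ''ᵁ (j ⁻¹ᵁ O)) z) h2)
    exact (congrArg (fun z => β.app (j ⁻¹ᵁ O) z) h3).trans (hβ (j ⁻¹ᵁ O) ((j.app O).hom s))
  let β : Ω'.restrict j ⟶ F' := (Scheme.Modules.restrictFunctor j).map α ≫
    (Scheme.Modules.restrictAdjunction j).counit.app F'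
  have hβ : ∀ (W : X'.Opens) (t : Γ(X', W)),
      β.app W ((resDer j f d).app W t) = D'.app W t := by
    intro W t
    have hle : W ≤ j ⁻¹ᵁ (j ''ᵁ W) := (j.preimage_image_eq W).ge
    show F'.presheaf.map (eqToHom (j.preimage_image_eq W).symm).op
      (α.app (j ''ᵁ W) (d.app (j ''ᵁ W) ((j.appIso W).inv.hom t))) = D'.app W t
    have h0 := hα' (j ''ᵁ W) ((j.appIso W).inv.hom t)
    have h1 := der_map D' hle ((j.app (j ''ᵁ W)).hom ((j.appIso W).inv.hom t))
    have h2 : (X'.presheaf.map (homOfLE hle).op).hom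
        ((j.app (j ''ᵁ W)).hom ((j.appIso W).inv.hom t)) = t := by
      have h00 : (j.appIso W).inv ≫ (j.app (j ''ᵁ W) ≫
          X'.presheaf.map (eqToHom (j.preimage_image_eq W).symm).op) = 𝟙 _ := by
        rw [← Scheme.Hom.appIso_hom]
        exact (j.appIso W).inv_hom_id
      have h01 := congrArg (fun k => k.hom t) h00
      exact (QCohLoc_helper4.ring_map_congr _ _ _).trans h01
    refine (congrArg (fun z => F'.presheaf.map (eqToHom (j.preimage_image_eq W).symm).op z)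
      h0).trans ?_
    refine (mod_map_congr F' _ (homOfLE hle).op _).trans ?_
    exact h1.symm.trans (congrArg (fun z => D'.app W z) h2)
  refine ⟨β, (postcomp_eq_iff _ _ β).mpr hβ, fun β' hβ' => ?_⟩
  have hβ'' := (postcomp_eq_iff (resDer j f d) D' β').mp hβ'
  exact ((Scheme.Modules.restrictAdjunction j).homEquiv Ω' F').injective
    ((key β' hβ'').trans (key β hβ).symm)

end Restrict

section Algebra

open KaehlerDifferential

theorem kaehler_iso {A B B' : Type u} [CommRing A] [CommRing B] [CommRing B'] [Algebra A B]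
    [Algebra A B'] (ε : B ≃+* B') (hε : ∀ a, ε (algebraMap A B a) = algebraMap A B' a) :
    ∃ κ : Ω[B'⁄A] ≃+ Ω[B⁄A],
      (∀ b', κ (KaehlerDifferential.D A B' b') = KaehlerDifferential.D A B (ε.symm b')) ∧
      ∀ (b' : B') (x : Ω[B'⁄A]), κ (b' • x) = ε.symm b' • κ x := by
  obtain ⟨ν, hν1, hν2⟩ := Groth.Agent.Lib.OmegaAffCmpH4.kaehler_transport (A := A) (B := B)
    (A' := A) (B' := B') (RingHom.id A) (ε.symm : B' →+* B) (fun a => by
      show ε.symm (algebraMap A B' a) = algebraMap A B a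
      rw [← hε a]
      exact ε.symm_apply_apply _)
  obtain ⟨ν', hν1', hν2'⟩ := Groth.Agent.Lib.OmegaAffCmpH4.kaehler_transport (A := A) (B := B')
    (A' := A) (B' := B) (RingHom.id A) (ε : B →+* B') (fun a => hε a)
  have h12 : ∀ x : Ω[B⁄A], ν (ν' x) = x := by
    intro x
    have hx : x ∈ Submodule.span B (Set.range (KaehlerDifferential.D A B)) := by
      rw [KaehlerDifferential.span_range_derivation]; trivial
    refine Submodule.span_induction (p := fun (z : Ω[B⁄A]) _ => ν (ν' z) = z) ?_ ?_ ?_ ?_ hx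
    · rintro _ ⟨b, rfl⟩
      rw [hν1', hν1]
      exact congrArg _ (ε.symm_apply_apply b)
    · rw [map_zero, map_zero]
    · intro y z _ _ hy hz
      rw [map_add, map_add, hy, hz]
    · intro b y _ hy
      rw [hν2', hν2, hy]
      exact congrArg (fun c => c • y) (ε.symm_apply_apply b)
  have h21 : ∀ x : Ω[B'⁄A], ν' (ν x) = x := by
    intro x
    have hx : x ∈ Submodule.span B' (Set.range (KaehlerDifferential.D A B')) := by
      rw [KaehlerDifferential.span_range_derivation]; trivial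
    refine Submodule.span_induction (p := fun (z : Ω[B'⁄A]) _ => ν' (ν z) = z) ?_ ?_ ?_ ?_ hx
    · rintro _ ⟨b, rfl⟩
      rw [hν1, hν1']
      exact congrArg _ (ε.apply_symm_apply b)
    · rw [map_zero, map_zero]
    · intro y z _ _ hy hz
      rw [map_add, map_add, hy, hz]
    · intro b y _ hy
      rw [hν2, hν2', hy]
      exact congrArg (fun c => c • y) (ε.apply_symm_apply b)
  exact ⟨{ toFun := ν, invFun := ν', left_inv := h21, right_inv := h12,
           map_add' := ν.map_add }, hν1, hν2⟩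

theorem alg_transport {A B B' M M' : Type u} [CommRing A] [CommRing B] [CommRing B']
    [AddCommGroup M] [Module B M] [AddCommGroup M'] [Module B' M']
    (φ : A →+* B) (φ' : A →+* B') (ε : B ≃+* B') (hε : ∀ a, ε (φ a) = φ' a)
    (τ : M ≃+ M') (hτ : ∀ (b : B) (x : M), τ (b • x) = ε b • τ x)
    (δ : B → M) (δ' : B' → M') (hδ : ∀ b, τ (δ b) = δ' (ε b))
    (H : letI := φ'.toAlgebra
      ∃ L' : M' ≃ₗ[B'] Ω[B'⁄A], ∀ b', L' (δ' b') = KaehlerDifferential.D A B' b') :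
    letI := φ.toAlgebra
    ∃ L : M ≃ₗ[B] Ω[B⁄A], ∀ b, L (δ b) = KaehlerDifferential.D A B b := by
  letI algB : Algebra A B := φ.toAlgebra
  letI algB' : Algebra A B' := φ'.toAlgebra
  obtain ⟨L', hL'⟩ := H
  obtain ⟨κ, hκ1, hκ2⟩ := kaehler_iso (A := A) ε (fun a => hε a)
  refine ⟨{ toFun := fun x => κ (L' (τ x))
            map_add' := fun x y => by rw [map_add, map_add, map_add]
            map_smul' := fun b x => by
              show κ (L' (τ (b • x))) = b • κ (L' (τ x))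
              rw [hτ, L'.map_smul, hκ2, ε.symm_apply_apply]
            invFun := fun y => τ.symm (L'.symm (κ.symm y))
            left_inv := fun x => by
              show τ.symm (L'.symm (κ.symm (κ (L' (τ x))))) = x
              rw [AddEquiv.symm_apply_apply, LinearEquiv.symm_apply_apply,
                AddEquiv.symm_apply_apply]
            right_inv := fun y => by
              show κ (L' (τ (τ.symm (L'.symm (κ.symm y))))) = y
              rw [AddEquiv.apply_symm_apply, LinearEquiv.apply_symm_apply,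
                AddEquiv.apply_symm_apply] }, fun b => ?_⟩
  show κ (L' (τ (δ b))) = _
  rw [hδ, hL', hκ1, ε.symm_apply_apply]

end Algebra

section Sections

variable {X' X Y : Scheme.{u}} (j : X' ⟶ X) [IsOpenImmersion j] (f : X ⟶ Y)

theorem receptacleSections_image {Ω' : X.Modules} (d : OmegaSh.Der f Ω')
    (hd : OmegaSh.IsUniversal d) [QuasiSeparated (j ≫ f)] {W : X'.Opens} (hW : IsAffineOpen W)
    {V : Y.Opens} (hV : IsAffineOpen V) (h : j ''ᵁ W ≤ f ⁻¹ᵁ V) :
    letI := (f.appLE V (j ''ᵁ W) h).hom.toAlgebra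
    ∃ L : Γ(Ω', j ''ᵁ W) ≃ₗ[Γ(X, j ''ᵁ W)] Ω[Γ(X, j ''ᵁ W)⁄Γ(Y, V)],
      ∀ b : Γ(X, j ''ᵁ W),
        L (d.app (j ''ᵁ W) b) = KaehlerDifferential.D Γ(Y, V) Γ(X, j ''ᵁ W) b := by
  have h' : W ≤ (j ≫ f) ⁻¹ᵁ V := fun x hx => h ⟨x, hx, rfl⟩
  obtain ⟨e, he⟩ := exists_iso_of_isUniversal (resDer j f d) (OmegaSh.dOmega (j ≫ f))
    (isUniversal_restrict j f d hd) (main5005 (j ≫ f))
  letI alg' : Algebra Γ(Y, V) Γ(X', W) := ((j ≫ f).appLE V W h').hom.toAlgebra
  have H := Groth.Agent.Lib.OmegaUnivH4.omegaSections' (j ≫ f) hW hV h'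
  let ε : Γ(X, j ''ᵁ W) ≃+* Γ(X', W) := (j.appIso W).commRingCatIsoToRingEquiv
  have hεinv : ∀ b : Γ(X, j ''ᵁ W), (j.appIso W).inv.hom (ε b) = b := fun b =>
    congrArg (fun k => k.hom b) (j.appIso W).hom_inv_id
  let τ : Γ(Ω', j ''ᵁ W) ≃+ Γ(Omega.sheaf (j ≫ f), W) :=
    { toFun := fun x => e.hom.app W x
      invFun := fun y => e.inv.app W y
      left_inv := fun x => congrArg (fun φ => Scheme.Modules.Hom.app φ W x) e.hom_inv_id
      right_inv := fun y => congrArg (fun φ => Scheme.Modules.Hom.app φ W y) e.inv_hom_id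
      map_add' := fun x y => map_add (e.hom.app W).hom x y }
  refine alg_transport (A := Γ(Y, V)) (B := Γ(X, j ''ᵁ W)) (B' := Γ(X', W))
    (M := Γ(Ω', j ''ᵁ W)) (M' := Γ(Omega.sheaf (j ≫ f), W))
    (f.appLE V (j ''ᵁ W) h).hom ((j ≫ f).appLE V W h').hom ε ?_ τ ?_
    (fun b => d.app (j ''ᵁ W) b) (fun t => OmegaSh.dSect (j ≫ f) W t) ?_ H
  · intro a
    have h1 : f.appLE V (j ''ᵁ W) h ≫ (j.appIso W).hom = (j ≫ f).appLE V W h' := by
      rw [Scheme.Hom.appIso_hom', Scheme.Hom.appLE_comp_appLE]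
    exact congrArg (fun k => k.hom a) h1
  · intro b x
    have h1 : (b • x : Γ(Ω', j ''ᵁ W)) = (j.appIso W).inv.hom (ε b) • x :=
      congrArg (fun c => c • x) (hεinv b).symm
    let x' : Γ(Ω'.restrict j, W) := x
    have h2 : e.hom.app W (ε b • x') = ε b • e.hom.app W x' :=
      Scheme.Modules.Hom.app_smul e.hom (ε b) x'
    exact (congrArg (fun z => e.hom.app W z) h1).trans h2
  · intro b
    have h1 : d.app (j ''ᵁ W) b = (resDer j f d).app W (ε b) :=
      congrArg (fun z => d.app (j ''ᵁ W) z) (hεinv b).symm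
    exact (congrArg (fun z => e.hom.app W z) h1).trans (he W (ε b))

/-- The section-wise property of a receptacle, as a predicate on opens. -/
def SecProp {Ω' : X.Modules} (d : OmegaSh.Der f Ω') (V : Y.Opens) (U : X.Opens) : Prop :=
  ∀ h : U ≤ f ⁻¹ᵁ V,
    letI := (f.appLE V U h).hom.toAlgebra
    ∃ L : Γ(Ω', U) ≃ₗ[Γ(X, U)] Ω[Γ(X, U)⁄Γ(Y, V)],
      ∀ b : Γ(X, U), L (d.app U b) = KaehlerDifferential.D Γ(Y, V) Γ(X, U) b

/-- Sections of a receptacle of a universal derivation over small affines are the Kähler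
differentials, with `d` going to `d`. -/
theorem receptacleSections {Ω' : X.Modules} (d : OmegaSh.Der f Ω') (hd : OmegaSh.IsUniversal d)
    {U : X.Opens} (hU : IsAffineOpen U) {V : Y.Opens} (hV : IsAffineOpen V) (h : U ≤ f ⁻¹ᵁ V) :
    letI := (f.appLE V U h).hom.toAlgebra
    ∃ L : Γ(Ω', U) ≃ₗ[Γ(X, U)] Ω[Γ(X, U)⁄Γ(Y, V)],
      ∀ b : Γ(X, U), L (d.app U b) = KaehlerDifferential.D Γ(Y, V) Γ(X, U) b := by
  haveI : IsAffine (U : Scheme.{u}) := hU
  have h0 : U.ι ''ᵁ ⊤ = U := U.ι_image_top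
  have main : SecProp f d V (U.ι ''ᵁ ⊤) := fun h'' =>
    receptacleSections_image U.ι f d hd (W := ⊤) (isAffineOpen_top _) hV h''
  exact ((congrArg (fun W => SecProp f d V W) h0).mp main) h

end Sections

end Groth.Agent.Lib.OmegaResH4
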