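import Mathlib
import Groth.Prelude
import Groth.Agent.Lib.OmegaRes_helper4
import Groth.Agent.Lib.QCohCrit2_helper9
import Groth.Agent.Lib.QCohFP2_helper9
import Groth.Agent.Lib.OmegaSec_helper4
import Groth.Agent.Lib.WeakAssSch_helper4

/-!
# Receptacles of universal derivations are quasi-coherent; first consequences (helper4).
APPEND-ONLY once landed.
-/

set_option autoImplicit false
set_option linter.style.haveILetI false

universe u

open CategoryTheory CategoryTheory.Limits AlgebraicGeometry Opposite TopologicalSpace TensorProduct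
open AlgebraicGeometry.Scheme.Modules

namespace Groth.Agent.Lib.OmegaRecQCH4

open Groth.Agent.Lib.OmegaUniv2H4 Groth.Agent.Lib.OmegaResH4

variable {X Y : Scheme.{u}} (f : X ⟶ Y) {Ω' : X.Modules} (d : OmegaSh.Der f Ω')
  (hd : OmegaSh.IsUniversal d)

include hd

theorem span_d {U : X.Opens} (hU : Small f U) :
    Submodule.span Γ(X, U) (Set.range (d.app U)) = ⊤ := by
  obtain ⟨hU, V, hV, h⟩ := hU
  letI algRC : Algebra Γ(Y, V) Γ(X, U) := (f.appLE V U h).hom.toAlgebra
  obtain ⟨L, hL⟩ := receptacleSections f d hd hU hV h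
  refine eq_top_iff.mpr fun x _ => ?_
  have hle : Submodule.span Γ(X, U) (Set.range (KaehlerDifferential.D Γ(Y, V) Γ(X, U))) ≤
      (Submodule.span Γ(X, U) (Set.range (d.app U))).map L.toLinearMap := by
    refine Submodule.span_le.mpr ?_
    rintro _ ⟨b, rfl⟩
    exact ⟨d.app U b, Submodule.subset_span ⟨b, rfl⟩, hL b⟩
  have hx : L x ∈ (Submodule.span Γ(X, U) (Set.range (d.app U))).map L.toLinearMap :=
    hle ((KaehlerDifferential.span_range_derivation Γ(Y, V) Γ(X, U)).symm ▸ Submodule.mem_top)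
  obtain ⟨y, hy, hyx⟩ := hx
  exact (L.injective hyx) ▸ hy

set_option maxHeartbeats 1600000 in
theorem locOnU {U : X.Opens} (hU : IsAffineOpen U) {V : Y.Opens} (hV : IsAffineOpen V)
    (h : U ≤ f ⁻¹ᵁ V) : QCohCrit.LocOnU Ω' U := by
  intro a
  have e : X.basicOpen a ≤ U := X.basicOpen_le a
  have h' : X.basicOpen a ≤ f ⁻¹ᵁ V := e.trans h
  have hU' : IsAffineOpen (X.basicOpen a) := hU.basicOpen a
  letI algB : Algebra Γ(Y, V) Γ(X, U) := (f.appLE V U h).hom.toAlgebra
  letI algB' : Algebra Γ(Y, V) Γ(X, X.basicOpen a) :=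
    (f.appLE V (X.basicOpen a) h').hom.toAlgebra
  haveI tow : IsScalarTower Γ(Y, V) Γ(X, U) Γ(X, X.basicOpen a) :=
    IsScalarTower.of_algebraMap_eq (fun c => by
      show (f.appLE V (X.basicOpen a) h').hom c =
        (X.presheaf.map (homOfLE e).op).hom ((f.appLE V U h).hom c)
      have := Scheme.Hom.appLE_map f h (homOfLE e).op
      exact (congrArg (fun k => k.hom c) this).symm)
  haveI loc : IsLocalization.Away a Γ(X, X.basicOpen a) := hU.isLocalization_basicOpen a
  obtain ⟨L, hL⟩ := receptacleSections f d hd hU hV h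
  obtain ⟨L', hL'⟩ := receptacleSections f d hd hU' hV h'
  let μ := KaehlerDifferential.map Γ(Y, V) Γ(Y, V) Γ(X, U) Γ(X, X.basicOpen a)
  haveI hμ : IsLocalizedModule (Submonoid.powers a) μ :=
    KaehlerDifferential.isLocalizedModule_map Γ(Y, V) Γ(X, U) Γ(X, X.basicOpen a)
      (Submonoid.powers a)
  let ρ := (X.presheaf.map (homOfLE e).op).hom
  let res := (Ω'.presheaf.map (homOfLE e).op).hom
  have hres_smul : ∀ (b : Γ(X, U)) (m : Γ(Ω', U)), res (b • m) = ρ b • res m :=
    fun b m => Scheme.Modules.map_smul Ω' (homOfLE e) b m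
  have compat : ∀ x : Γ(Ω', U), L' (res x) = μ (L x) := by
    intro x
    have hx : x ∈ Submodule.span Γ(X, U) (Set.range (d.app U)) :=
      (span_d f d hd ⟨hU, V, hV, h⟩).symm ▸ Submodule.mem_top
    refine Submodule.span_induction
      (p := fun (z : Γ(Ω', U)) _ => L' (res z) = μ (L z)) ?_ ?_ ?_ ?_ hx
    · rintro _ ⟨b, rfl⟩
      have h1 : res (d.app U b) = d.app (X.basicOpen a) (ρ b) := (der_map d e b).symm
      show L' (res (d.app U b)) = μ (L (d.app U b))
      rw [h1, hL', hL]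
      exact (KaehlerDifferential.map_D Γ(Y, V) Γ(Y, V) Γ(X, U) Γ(X, X.basicOpen a) b).symm
    · show L' (res 0) = μ (L 0)
      rw [map_zero, map_zero, map_zero, map_zero]
    · intro y z _ _ hy hz
      show L' (res (y + z)) = μ (L (y + z))
      rw [map_add, map_add, map_add, map_add, hy, hz]
    · intro b y _ hy
      show L' (res (b • y)) = μ (L (b • y))
      rw [hres_smul, L'.map_smul, hy, L.map_smul, μ.map_smul]
      exact (algebraMap_smul Γ(X, X.basicOpen a) b (μ (L y)))
  have hpow : ∀ s : Submonoid.powers a, ∃ n : ℕ, (s : Γ(X, U)) = a ^ n := by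
    rintro ⟨_, n, rfl⟩
    exact ⟨n, rfl⟩
  refine ⟨loc, hres_smul, ?_, ?_⟩
  · intro m'
    obtain ⟨⟨x, s⟩, hx⟩ := IsLocalizedModule.surj (Submonoid.powers a) μ (L' m')
    obtain ⟨n, hn⟩ := hpow s
    have hx1 : (s : Γ(X, U)) • L' m' = μ x := hx
    have hx2 : ρ a ^ n • L' m' = μ x := by
      rw [← hx1, hn, ← algebraMap_smul Γ(X, X.basicOpen a) (a ^ n) (L' m'), map_pow]
      rfl
    refine ⟨n, L.symm x, L'.injective ?_⟩
    rw [L'.map_smul, hx2, compat, LinearEquiv.apply_symm_apply]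
  · intro m hm
    have hm' : res m = 0 := hm
    have h0 : μ (L m) = 0 := by rw [← compat, hm', map_zero]
    obtain ⟨s, hs⟩ := (IsLocalizedModule.eq_zero_iff (Submonoid.powers a) μ).mp h0
    obtain ⟨n, hn⟩ := hpow s
    have hs1 : (s : Γ(X, U)) • L m = 0 := hs
    refine ⟨n, L.injective ?_⟩
    rw [L.map_smul, map_zero, ← hn]
    exact hs1

theorem isQuasicoherent : Ω'.IsQuasicoherent := by
  refine QCohCrit.isQuasicoherent_of_locOnU_cover Ω'
    (fun i : {U : X.Opens // Small f U} => i.1) (fun i => i.2.1) ?_ ?_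
  · refine eq_top_iff.mpr fun x _ => ?_
    obtain ⟨_, ⟨i, rfl⟩, hxO, -⟩ := (Opens.isBasis_iff_nbhd.mp (isBasis_small f))
      (show x ∈ (⊤ : X.Opens) from trivial)
    exact Opens.mem_iSup.mpr ⟨i, hxO⟩
  · rintro ⟨U, hU, V, hV, h⟩
    exact locOnU f d hd hU hV h

theorem subsingleton_iff {U : X.Opens} (hU : IsAffineOpen U) {V : Y.Opens}
    (hV : IsAffineOpen V) (h : U ≤ f ⁻¹ᵁ V) :
    Subsingleton Γ(Ω', U) ↔ (f.appLE V U h).hom.FormallyUnramified := by
  letI algRC : Algebra Γ(Y, V) Γ(X, U) := (f.appLE V U h).hom.toAlgebra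
  obtain ⟨L, -⟩ := receptacleSections f d hd hU hV h
  constructor
  · intro hs
    haveI := hs
    exact (show Algebra.FormallyUnramified Γ(Y, V) Γ(X, U) from ⟨L.symm.toEquiv.subsingleton⟩)
  · intro hfu
    haveI : Subsingleton Ω[Γ(X, U)⁄Γ(Y, V)] :=
      (show Algebra.FormallyUnramified Γ(Y, V) Γ(X, U) from hfu).subsingleton_kaehlerDifferential
    exact L.toEquiv.subsingleton

theorem main5937 : AlgebraicGeometry.FormallyUnramified f ↔ Limits.IsZero Ω' := by
  constructor
  · intro hf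
    apply Groth.Agent.Lib.OmegaSecH4.isZero_of_forall_small f
    intro U V hU hV hUV s
    haveI : Subsingleton Γ(Ω', U) :=
      (subsingleton_iff f d hd hU hV hUV).mpr (hf.1 hV hU hUV)
    exact Subsingleton.elim _ _
  · intro hz
    refine ⟨fun {V} hV {U} hU e => ?_⟩
    refine (subsingleton_iff f d hd hU hV e).mp ⟨fun a b => ?_⟩
    exact (WeakAssSch_helper4.eq_zero_of_isZero _ hz a).trans
      (WeakAssSch_helper4.eq_zero_of_isZero _ hz b).symm

theorem cover_small : ⨆ i : {U : X.Opens // Small f U}, (i.1 : X.Opens) = ⊤ := by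
  refine eq_top_iff.mpr fun x _ => ?_
  obtain ⟨_, ⟨i, rfl⟩, hxO, -⟩ := (Opens.isBasis_iff_nbhd.mp (isBasis_small f))
    (show x ∈ (⊤ : X.Opens) from trivial)
  exact Opens.mem_iSup.mpr ⟨i, hxO⟩

theorem main9387 [LocallyOfFiniteType f] : CohB1.IsFT Ω' := by
  haveI := isQuasicoherent f d hd
  refine QCohCrit.isFiniteType_of_sections_cover Ω'
    (fun i : {U : X.Opens // Small f U} => i.1) (fun i => i.2.1) (cover_small f d hd) ?_
  rintro ⟨U, hU, V, hV, h⟩
  letI algRC : Algebra Γ(Y, V) Γ(X, U) := (f.appLE V U h).hom.toAlgebra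
  haveI : Algebra.FiniteType Γ(Y, V) Γ(X, U) := Scheme.Hom.finiteType_appLE f hV hU h
  obtain ⟨L, -⟩ := receptacleSections f d hd hU hV h
  exact Module.Finite.equiv L.symm

theorem main9388 [LocallyOfFinitePresentation f] : CohB1.IsFP Ω' := by
  haveI := isQuasicoherent f d hd
  refine QCohFP2.isFinitePresentation_of_sections_cover Ω'
    (fun i : {U : X.Opens // Small f U} => i.1) (fun i => i.2.1) (cover_small f d hd) ?_
  rintro ⟨U, hU, V, hV, h⟩
  letI algRC : Algebra Γ(Y, V) Γ(X, U) := (f.appLE V U h).hom.toAlgebra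
  haveI : Algebra.FinitePresentation Γ(Y, V) Γ(X, U) :=
    Scheme.Hom.finitePresentation_appLE f hV hU h
  obtain ⟨L, -⟩ := receptacleSections f d hd hU hV h
  exact Module.FinitePresentation.of_equiv L.symm

end Groth.Agent.Lib.OmegaRecQCH4
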