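import Mathlib
import Groth.Prelude
import Groth.Agent.Lib.OmegaRecQC_helper4
import Groth.Agent.Lib.PB8_helper8

/-!
# The canonical maps `h^*Ω₁ ⟶ Ω₂` between receptacles of differentials on sections (helper4).
APPEND-ONLY once landed.
-/

set_option autoImplicit false
set_option linter.style.haveILetI false

universe u

open CategoryTheory CategoryTheory.Limits AlgebraicGeometry Opposite TopologicalSpace TensorProduct
open AlgebraicGeometry.Scheme.Modules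

namespace Groth.Agent.Lib.OmegaCompatH4

open Groth.Agent.Lib.OmegaUniv2H4 Groth.Agent.Lib.OmegaResH4 Groth.Agent.Lib.OmegaRecQCH4

/-- The compatible map sends the pulled-back `d₁ s` to `d₂ (h♯ s)`, over any pair of opens. -/
theorem cUV_d {X' Y' X Y : Scheme.{u}} {f : X ⟶ Y} {f' : X' ⟶ Y'} (h : X' ⟶ X)
    {Ω₁ : X.Modules} {Ω₂ : X'.Modules} (d₁ : OmegaSh.Der f Ω₁) (d₂ : OmegaSh.Der f' Ω₂)
    (c : (Scheme.Modules.pullback h).obj Ω₁ ⟶ Ω₂) (hc : OmegaSh.IsDiffCompat h d₁ d₂ c)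
    {W : X'.Opens} {U : X.Opens} (e : W ≤ h ⁻¹ᵁ U) (s : Γ(X, U)) :
    c.app W (PBH8.cUV h Ω₁ e (d₁.app U s)) = d₂.app W ((h.appLE U W e).hom s) := by
  unfold PBH8.cUV
  have h1 := QCohCrit.app_naturality c (homOfLE e) (OmegaSh.pullSect h Ω₁ U (d₁.app U s))
  have h2 := hc U s
  have h3 := der_map d₂ e ((h.app U).hom s)
  exact h1.trans ((congrArg (fun z => Ω₂.presheaf.map (homOfLE e).op z) h2).trans h3.symm)

section Algebra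

theorem bij_of_isBaseChange {A B M N₁ N₂ : Type u} [CommRing A] [CommRing B] [Algebra A B]
    [AddCommGroup M] [Module A M] [AddCommGroup N₁] [Module A N₁] [Module B N₁]
    [IsScalarTower A B N₁] [AddCommGroup N₂] [Module A N₂] [Module B N₂] [IsScalarTower A B N₂]
    (φ₁ : M →ₗ[A] N₁) (hbc : IsBaseChange B φ₁) (c : N₁ →ₗ[B] N₂) (lam : M →ₗ[A] N₂)
    (hlam : IsBaseChange B lam) (hcomp : ∀ m, c (φ₁ m) = lam m) : Function.Bijective c := by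
  have key : ∀ t : B ⊗[A] M, c (hbc.equiv t) = hlam.equiv t := by
    intro t
    induction t using TensorProduct.induction_on with
    | zero => rw [map_zero, map_zero, map_zero]
    | tmul b m => rw [IsBaseChange.equiv_tmul, IsBaseChange.equiv_tmul, c.map_smul, hcomp]
    | add x y hx hy => rw [map_add, map_add, map_add, hx, hy]
  have hfun : ⇑c = ⇑(hbc.equiv.symm.trans hlam.equiv) := by
    funext x
    have := key (hbc.equiv.symm x)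
    rw [LinearEquiv.apply_symm_apply] at this
    exact this
  rw [hfun]
  exact (hbc.equiv.symm.trans hlam.equiv).bijective

theorem map_bijective_of_formallyUnramified (R₁ R₂ B : Type u) [CommRing R₁] [CommRing R₂]
    [CommRing B] [Algebra R₁ R₂] [Algebra R₂ B] [Algebra R₁ B] [IsScalarTower R₁ R₂ B]
    [Algebra.FormallyUnramified R₁ R₂] :
    Function.Bijective (KaehlerDifferential.map R₁ R₂ B B) := by
  refine ⟨?_, KaehlerDifferential.map_surjective R₁ R₂ B⟩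
  have hall : ∀ t : B ⊗[R₂] Ω[R₂⁄R₁], t = 0 := by
    intro t
    induction t using TensorProduct.induction_on with
    | zero => rfl
    | tmul b y => rw [Subsingleton.elim y 0, TensorProduct.tmul_zero]
    | add x y hx hy => rw [hx, hy, add_zero]
  rw [injective_iff_map_eq_zero]
  intro x hx
  obtain ⟨t, rfl⟩ := (KaehlerDifferential.exact_mapBaseChange_map R₁ R₂ B x).mp hx
  rw [hall t, map_zero]

theorem isBaseChange_map_of_etale (R₁ R₂ A B : Type u) [CommRing R₁] [CommRing R₂] [CommRing A]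
    [CommRing B] [Algebra R₁ R₂] [Algebra R₁ A] [Algebra R₂ B] [Algebra A B] [Algebra R₁ B]
    [IsScalarTower R₁ A B] [IsScalarTower R₁ R₂ B] [SMulCommClass R₂ A B]
    [Algebra.FormallyEtale A B] [Algebra.FormallyUnramified R₁ R₂] :
    IsBaseChange B (KaehlerDifferential.map R₁ R₂ A B) := by
  have hμ₁ : IsBaseChange B (KaehlerDifferential.map R₁ R₁ A B) :=
    KaehlerDifferential.isBaseChange_of_formallyEtale R₁ A B
  let νe : Ω[B⁄R₁] ≃ₗ[B] Ω[B⁄R₂] :=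
    LinearEquiv.ofBijective (KaehlerDifferential.map R₁ R₂ B B)
      (map_bijective_of_formallyUnramified R₁ R₂ B)
  refine (IsBaseChange.iff_of_equiv_comm (LinearEquiv.refl A Ω[A⁄R₁]) νe ?_).mp hμ₁
  refine LinearMap.ext_on (KaehlerDifferential.span_range_derivation R₁ A) ?_
  rintro _ ⟨a, rfl⟩
  show KaehlerDifferential.map R₁ R₂ A B (KaehlerDifferential.D R₁ A a) =
    KaehlerDifferential.map R₁ R₂ B B
      (KaehlerDifferential.map R₁ R₁ A B (KaehlerDifferential.D R₁ A a))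
  rw [KaehlerDifferential.map_D, KaehlerDifferential.map_D, KaehlerDifferential.map_D]
  rfl

end Algebra

section Geom

variable {X₁ S₁ X₂ S₂ : Scheme.{u}} (p₁ : X₁ ⟶ S₁) (p₂ : X₂ ⟶ S₂) (f : X₂ ⟶ X₁)

/-- A "good" affine open of `X₂` for a square. -/
def Good (g : S₂ ⟶ S₁) (W : X₂.Opens) : Prop :=
  IsAffineOpen W ∧ ∃ (U₁ : X₁.Opens) (T₁ : S₁.Opens) (T₂ : S₂.Opens), IsAffineOpen U₁ ∧
    IsAffineOpen T₁ ∧ IsAffineOpen T₂ ∧ W ≤ f ⁻¹ᵁ U₁ ∧ U₁ ≤ p₁ ⁻¹ᵁ T₁ ∧ W ≤ p₂ ⁻¹ᵁ T₂ ∧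
    T₂ ≤ g ⁻¹ᵁ T₁

theorem exists_good (g : S₂ ⟶ S₁) (hsq : f ≫ p₁ = p₂ ≫ g) (x : X₂) :
    ∃ W : X₂.Opens, Good p₁ p₂ f g W ∧ x ∈ W := by
  have hpt : p₁ (f x) = g (p₂ x) := congrArg (fun k : X₂ ⟶ S₁ => k x) hsq
  obtain ⟨T₁, hT₁, hxT₁, -⟩ := (Opens.isBasis_iff_nbhd.mp S₁.isBasis_affineOpens)
    (show g (p₂ x) ∈ (⊤ : S₁.Opens) from trivial)
  obtain ⟨T₂, hT₂, hxT₂, hT₂le⟩ := (Opens.isBasis_iff_nbhd.mp S₂.isBasis_affineOpens)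
    (show p₂ x ∈ g ⁻¹ᵁ T₁ from hxT₁)
  obtain ⟨U₁, hU₁, hxU₁, hU₁le⟩ := (Opens.isBasis_iff_nbhd.mp X₁.isBasis_affineOpens)
    (show f x ∈ p₁ ⁻¹ᵁ T₁ from (show p₁ (f x) ∈ T₁ from hpt ▸ hxT₁))
  obtain ⟨W, hW, hxW, hWle⟩ := (Opens.isBasis_iff_nbhd.mp X₂.isBasis_affineOpens)
    (show x ∈ f ⁻¹ᵁ U₁ ⊓ p₂ ⁻¹ᵁ T₂ from ⟨hxU₁, hxT₂⟩)
  exact ⟨W, ⟨hW, U₁, T₁, T₂, hU₁, hT₁, hT₂, hWle.trans inf_le_left, hU₁le,
    hWle.trans inf_le_right, hT₂le⟩, hxW⟩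

theorem cover_good (g : S₂ ⟶ S₁) (hsq : f ≫ p₁ = p₂ ≫ g) :
    ⨆ i : {W : X₂.Opens // Good p₁ p₂ f g W}, (i.1 : X₂.Opens) = ⊤ := by
  refine eq_top_iff.mpr fun x _ => ?_
  obtain ⟨W, hW, hxW⟩ := exists_good p₁ p₂ f g hsq x
  exact Opens.mem_iSup.mpr ⟨⟨W, hW⟩, hxW⟩

set_option maxHeartbeats 3200000 in
theorem main9776 (g : S₂ ⟶ S₁) [Etale f] [Etale g] (hsq : f ≫ p₁ = p₂ ≫ g)
    (Ω₁ : X₁.Modules) (d₁ : OmegaSh.Der p₁ Ω₁) (hd₁ : OmegaSh.IsUniversal d₁)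
    (Ω₂ : X₂.Modules) (d₂ : OmegaSh.Der p₂ Ω₂) (hd₂ : OmegaSh.IsUniversal d₂)
    (c : (Scheme.Modules.pullback f).obj Ω₁ ⟶ Ω₂) (hc : OmegaSh.IsDiffCompat f d₁ d₂ c) :
    IsIso c := by
  haveI qc₁ : Ω₁.IsQuasicoherent := isQuasicoherent p₁ d₁ hd₁
  haveI qc₂ : Ω₂.IsQuasicoherent := isQuasicoherent p₂ d₂ hd₂
  haveI qc₃ : ((Scheme.Modules.pullback f).obj Ω₁).IsQuasicoherent :=
    PBH8.isQuasicoherent_pullback f Ω₁
  refine QCohCrit.isIso_of_bijective_on_cover c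
    (fun i : {W : X₂.Opens // Good p₁ p₂ f g W} => i.1) (fun i => i.2.1)
    (cover_good p₁ p₂ f g hsq) ?_
  rintro ⟨W, hW, U₁, T₁, T₂, hU₁, hT₁, hT₂, e, h₁, h₂, hg⟩
  letI a1 : Algebra Γ(S₁, T₁) Γ(X₁, U₁) := (p₁.appLE T₁ U₁ h₁).hom.toAlgebra
  letI a2 : Algebra Γ(S₂, T₂) Γ(X₂, W) := (p₂.appLE T₂ W h₂).hom.toAlgebra
  letI a3 : Algebra Γ(X₁, U₁) Γ(X₂, W) := (f.appLE U₁ W e).hom.toAlgebra
  letI a4 : Algebra Γ(S₁, T₁) Γ(S₂, T₂) := (g.appLE T₁ T₂ hg).hom.toAlgebra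
  letI a5 : Algebra Γ(S₁, T₁) Γ(X₂, W) :=
    ((f.appLE U₁ W e).hom.comp (p₁.appLE T₁ U₁ h₁).hom).toAlgebra
  haveI t1 : IsScalarTower Γ(S₁, T₁) Γ(X₁, U₁) Γ(X₂, W) :=
    IsScalarTower.of_algebraMap_eq (fun _ => rfl)
  have comm : ∀ r : Γ(S₁, T₁), (f.appLE U₁ W e).hom ((p₁.appLE T₁ U₁ h₁).hom r) =
      (p₂.appLE T₂ W h₂).hom ((g.appLE T₁ T₂ hg).hom r) := by
    intro r
    have c1 := Scheme.Hom.appLE_comp_appLE f p₁ T₁ U₁ W h₁ e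
    have c2 := Scheme.Hom.appLE_comp_appLE p₂ g T₁ T₂ W hg h₂
    have c3 : p₁.appLE T₁ U₁ h₁ ≫ f.appLE U₁ W e = g.appLE T₁ T₂ hg ≫ p₂.appLE T₂ W h₂ :=
      c1.trans ((OmegaSh.appLE_congr_hom hsq _ _).trans c2.symm)
    exact congrArg (fun k => k.hom r) c3
  haveI t2 : IsScalarTower Γ(S₁, T₁) Γ(S₂, T₂) Γ(X₂, W) :=
    IsScalarTower.of_algebraMap_eq (fun r => comm r)
  haveI sc : SMulCommClass Γ(S₂, T₂) Γ(X₁, U₁) Γ(X₂, W) := ⟨fun r a b => by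
    simp only [Algebra.smul_def]; ring⟩
  haveI et1 : Algebra.Etale Γ(X₁, U₁) Γ(X₂, W) := f.etale_appLE hU₁ hW e
  haveI et2 : Algebra.Etale Γ(S₁, T₁) Γ(S₂, T₂) := g.etale_appLE hT₁ hT₂ hg
  haveI fe1 : Algebra.FormallyEtale Γ(X₁, U₁) Γ(X₂, W) := et1.formallyEtale
  haveI fe2 : Algebra.FormallyEtale Γ(S₁, T₁) Γ(S₂, T₂) := et2.formallyEtale
  have hμ := isBaseChange_map_of_etale Γ(S₁, T₁) Γ(S₂, T₂) Γ(X₁, U₁) Γ(X₂, W)
  obtain ⟨L₁, hL₁⟩ := receptacleSections p₁ d₁ hd₁ hU₁ hT₁ h₁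
  obtain ⟨L₂, hL₂⟩ := receptacleSections p₂ d₂ hd₂ hW hT₂ h₂
  letI mA : Module Γ(X₁, U₁) Γ((Scheme.Modules.pullback f).obj Ω₁, W) :=
    Module.compHom _ (f.appLE U₁ W e).hom
  haveI tA : IsScalarTower Γ(X₁, U₁) Γ(X₂, W) Γ((Scheme.Modules.pullback f).obj Ω₁, W) :=
    IsScalarTower.of_algebraMap_smul fun _ _ => rfl
  letI mA2 : Module Γ(X₁, U₁) Γ(Ω₂, W) := Module.compHom _ (f.appLE U₁ W e).hom
  haveI tA2 : IsScalarTower Γ(X₁, U₁) Γ(X₂, W) Γ(Ω₂, W) :=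
    IsScalarTower.of_algebraMap_smul fun _ _ => rfl
  have hbc := PBH8.isBaseChange_cUV f Ω₁ e hW hU₁
  let cl : Γ((Scheme.Modules.pullback f).obj Ω₁, W) →ₗ[Γ(X₂, W)] Γ(Ω₂, W) :=
    { toFun := fun y => c.app W y
      map_add' := fun y z => map_add (c.app W).hom y z
      map_smul' := fun r y => Scheme.Modules.Hom.app_smul c r y }
  let lam : Γ(Ω₁, U₁) →ₗ[Γ(X₁, U₁)] Γ(Ω₂, W) :=
    (cl.restrictScalars Γ(X₁, U₁)).comp (PBH8.cUVLin f Ω₁ e)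
  have hlam : IsBaseChange Γ(X₂, W) lam := by
    refine (IsBaseChange.iff_of_equiv_comm L₁ L₂ ?_).mpr hμ
    refine LinearMap.ext_on (span_d p₁ d₁ hd₁ ⟨hU₁, T₁, hT₁, h₁⟩) ?_
    rintro _ ⟨s, rfl⟩
    show KaehlerDifferential.map Γ(S₁, T₁) Γ(S₂, T₂) Γ(X₁, U₁) Γ(X₂, W) (L₁ (d₁.app U₁ s)) =
      L₂ (c.app W (PBH8.cUV f Ω₁ e (d₁.app U₁ s)))
    rw [hL₁, cUV_d f d₁ d₂ c hc e s, hL₂, KaehlerDifferential.map_D]
    rfl
  exact bij_of_isBaseChange (PBH8.cUVLin f Ω₁ e) hbc cl lam hlam (fun m => rfl)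

end Geom

end Groth.Agent.Lib.OmegaCompatH4
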