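import Mathlib
import Groth.Prelude
import Groth.Agent.Lib.OmegaRecQC_helper4
import Groth.Agent.Lib.FLF1_helper8
import Groth.Agent.Lib.FLF2_helper8
import Groth.Agent.Lib.FLF3_helper8

/-!
# Formally smooth morphisms (lifting property) are ring-level formally smooth on small affines;
receptacles of differentials are then finite locally free (helper4). APPEND-ONLY once landed.
-/

set_option autoImplicit false
set_option linter.style.haveILetI false

universe u

open CategoryTheory CategoryTheory.Limits AlgebraicGeometry Opposite TopologicalSpace TensorProduct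
open AlgebraicGeometry.Scheme.Modules

namespace Groth.Agent.Lib.OmegaFSmoothH4

open Groth.Agent.Lib.OmegaUniv2H4 Groth.Agent.Lib.OmegaResH4 Groth.Agent.Lib.OmegaRecQCH4

theorem specMap_mk_surjective {C : Type u} [CommRing C] (I : Ideal C) (hI : I ^ 2 = ⊥) :
    Function.Surjective (Spec.map (CommRingCat.ofHom (Ideal.Quotient.mk I))) := by
  intro p
  have hp : p ∈ PrimeSpectrum.zeroLocus (RingHom.ker (Ideal.Quotient.mk I) : Set C) := by
    rw [Ideal.mk_ker]
    intro x hx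
    have h2 : x ^ 2 ∈ I ^ 2 := Ideal.pow_mem_pow hx 2
    rw [hI] at h2
    have h3 : x ^ 2 = 0 := h2
    exact p.2.mem_of_pow_mem 2 (h3 ▸ zero_mem _)
  rw [← range_comap_of_surjective (hf := (Ideal.Quotient.mk_surjective : Function.Surjective (Ideal.Quotient.mk I)))] at hp
  obtain ⟨q, hq⟩ := hp
  exact ⟨q, hq⟩

set_option maxHeartbeats 1600000 in
theorem formallySmooth_appLE {X Y : Scheme.{u}} (f : X ⟶ Y) (hf : MoreMor.IsFormallySmoothHom f)
    {U : X.Opens} (hU : IsAffineOpen U) {V : Y.Opens} (hV : IsAffineOpen V) (h : U ≤ f ⁻¹ᵁ V) :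
    (f.appLE V U h).hom.FormallySmooth := by
  letI alg : Algebra Γ(Y, V) Γ(X, U) := (f.appLE V U h).hom.toAlgebra
  show Algebra.FormallySmooth Γ(Y, V) Γ(X, U)
  refine Algebra.FormallySmooth.of_comp_surjective ?_
  intro C _ _ I hI g
  have hsqr : Spec.map (f.appLE V U h) ≫ hV.fromSpec = hU.fromSpec ≫ f :=
    hV.SpecMap_appLE_fromSpec f hU h
  obtain ⟨a, ha⟩ : ∃ a : Spec (CommRingCat.of (C ⧸ I)) ⟶ X,
      a = Spec.map (CommRingCat.ofHom g.toRingHom) ≫ hU.fromSpec := ⟨_, rfl⟩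
  obtain ⟨b, hb⟩ : ∃ b : Spec (CommRingCat.of C) ⟶ Y,
      b = Spec.map (CommRingCat.ofHom (algebraMap Γ(Y, V) C)) ≫ hV.fromSpec := ⟨_, rfl⟩
  have h2 : CommRingCat.ofHom (algebraMap Γ(Y, V) C) ≫ CommRingCat.ofHom (Ideal.Quotient.mk I) =
      f.appLE V U h ≫ CommRingCat.ofHom g.toRingHom := by
    ext c
    show Ideal.Quotient.mk I (algebraMap Γ(Y, V) C c) = g (algebraMap Γ(Y, V) Γ(X, U) c)
    rw [g.commutes]
    rfl
  have hsq : Spec.map (CommRingCat.ofHom (Ideal.Quotient.mk I)) ≫ b = a ≫ f := by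
    rw [ha, hb, Category.assoc, ← hsqr, ← Category.assoc, ← Category.assoc, ← Spec.map_comp,
      ← Spec.map_comp, h2]
  obtain ⟨l, hl1, hl2⟩ := hf C I hI a b hsq
  have hrange : Set.range l ⊆ Set.range hU.fromSpec := by
    rintro _ ⟨p, rfl⟩
    obtain ⟨q, rfl⟩ := specMap_mk_surjective I hI p
    have h3 : l ((Spec.map (CommRingCat.ofHom (Ideal.Quotient.mk I))) q) = a q :=
      congrArg (fun k : Spec (CommRingCat.of (C ⧸ I)) ⟶ X => k q) hl1
    rw [h3, ha]
    exact ⟨(Spec.map (CommRingCat.ofHom g.toRingHom)) q, rfl⟩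
  obtain ⟨l', hl'⟩ : ∃ l' : Spec (CommRingCat.of C) ⟶ Spec Γ(X, U), l' ≫ hU.fromSpec = l :=
    ⟨IsOpenImmersion.lift hU.fromSpec l hrange, IsOpenImmersion.lift_fac _ _ _⟩
  obtain ⟨ψ, hψ⟩ : ∃ ψ : Γ(X, U) ⟶ CommRingCat.of C, Spec.map ψ = l' :=
    ⟨Spec.preimage l', Spec.map_preimage l'⟩
  have hi : ψ ≫ CommRingCat.ofHom (Ideal.Quotient.mk I) = CommRingCat.ofHom g.toRingHom := by
    apply Spec.map_injective
    rw [← cancel_mono hU.fromSpec, Spec.map_comp, Category.assoc, hψ, hl', hl1, ha]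
  have hii : f.appLE V U h ≫ ψ = CommRingCat.ofHom (algebraMap Γ(Y, V) C) := by
    apply Spec.map_injective
    rw [← cancel_mono hV.fromSpec, Spec.map_comp, Category.assoc, hsqr, ← Category.assoc, hψ, hl',
      hl2, hb]
  let g' : Γ(X, U) →ₐ[Γ(Y, V)] C :=
    { ψ.hom with commutes' := fun c => congrArg (fun k => k.hom c) hii }
  refine ⟨g', AlgHom.ext fun x => ?_⟩
  exact congrArg (fun k => k.hom x) hi

theorem main5018 {X Y : Scheme.{u}} (f : X ⟶ Y)
    (hf : MoreMor.IsFormallySmoothHom f) [LocallyOfFiniteType f]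
    (Ω' : X.Modules) (d : OmegaSh.Der f Ω') (hd : OmegaSh.IsUniversal d) :
    FlatMod.IsFinLocFree Ω' := by
  haveI := isQuasicoherent f d hd
  have hsec : ∀ i : {U : X.Opens // Small f U},
      Module.Finite Γ(X, i.1) Γ(Ω', i.1) ∧ Module.Projective Γ(X, i.1) Γ(Ω', i.1) := by
    rintro ⟨U, hU, V, hV, h⟩
    letI alg : Algebra Γ(Y, V) Γ(X, U) := (f.appLE V U h).hom.toAlgebra
    haveI : Algebra.FiniteType Γ(Y, V) Γ(X, U) := Scheme.Hom.finiteType_appLE f hV hU h
    haveI : Algebra.FormallySmooth Γ(Y, V) Γ(X, U) := formallySmooth_appLE f hf hU hV h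
    obtain ⟨L, -⟩ := receptacleSections f d hd hU hV h
    exact ⟨Module.Finite.equiv L.symm, Module.Projective.of_equiv' L.symm⟩
  haveI : SheafOfModules.IsFinitePresentation (R := X.ringCatSheaf) Ω' :=
    QCohFP2.isFinitePresentation_of_sections_cover Ω'
      (fun i : {U : X.Opens // Small f U} => i.1) (fun i => i.2.1) (cover_small f d hd)
      (fun i => by
        haveI := (hsec i).1
        haveI := (hsec i).2
        exact Module.finitePresentation_of_projective _ _)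
  haveI : SheafOfModules.IsFiniteType (R := X.ringCatSheaf) Ω' := main9387 f d hd
  intro x
  obtain ⟨_, ⟨i, rfl⟩, hxU, -⟩ := (Opens.isBasis_iff_nbhd.mp (isBasis_small f))
    (show x ∈ (⊤ : X.Opens) from trivial)
  haveI := (hsec i).1
  haveI := (hsec i).2
  have hxU' : x ∈ i.1 := hxU
  haveI : Module.Flat (X.presheaf.stalk x) (Ω'.presheaf.stalk x) :=
    FLFH8.flat_stalk_of_flat_sections Ω' i.2.1 hxU'
  haveI : Module.Finite (X.presheaf.stalk x) (Ω'.presheaf.stalk x) := FLFH8.finite_stalk Ω' x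
  exact FLFH8.exists_free_nhd Ω' x Module.free_of_flat_of_isLocalRing

end Groth.Agent.Lib.OmegaFSmoothH4
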