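import Mathlib
import Groth.Prelude
import Groth.Agent.Lib.OmegaCompat_helper4
import Groth.Agent.Lib.OmegaFSmooth_helper4
import Groth.Agent.Lib.Desc1_helper8

/-!
# Cotangent sequence maps between receptacles: mono / epi / base change (helper4).
APPEND-ONLY once landed.
-/

set_option autoImplicit false
set_option linter.style.haveILetI false

universe u

open CategoryTheory CategoryTheory.Limits AlgebraicGeometry Opposite TopologicalSpace TensorProduct
open AlgebraicGeometry.Scheme.Modules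

namespace Groth.Agent.Lib.OmegaCompat2H4

open Groth.Agent.Lib.OmegaUniv2H4 Groth.Agent.Lib.OmegaResH4 Groth.Agent.Lib.OmegaRecQCH4
open Groth.Agent.Lib.OmegaCompatH4

section Basis

variable {X : Scheme.{u}} {M N : X.Modules} (c : M ⟶ N) (P : X.Opens → Prop)
  (hP : ∀ (O : X.Opens) (x : X), x ∈ O → ∃ W : X.Opens, P W ∧ x ∈ W ∧ W ≤ O)

include hP

theorem mono_of_injective_basis (h : ∀ W, P W → Function.Injective (c.app W)) : Mono c := by
  have key : ∀ (O : X.Opens) (s : Γ(M, O)), c.app O s = 0 → s = 0 := by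
    intro O s hs
    refine TopCat.Sheaf.eq_of_locally_eq' ⟨M.presheaf, M.isSheaf⟩
      (fun i : {W : X.Opens // P W ∧ W ≤ O} => i.1) O (fun i => homOfLE i.2.2) ?_ s 0 ?_
    · intro x hx
      obtain ⟨W, hPW, hxW, hWO⟩ := hP O x hx
      exact Opens.mem_iSup.mpr ⟨⟨W, hPW, hWO⟩, hxW⟩
    · intro i
      apply h i.1 i.2.1
      have h1 := QCohCrit.app_naturality c (homOfLE i.2.2) s
      have h2 : c.app i.1 (M.presheaf.map (homOfLE i.2.2).op (0 : Γ(M, O))) = 0 := by
        rw [map_zero, map_zero]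
      refine h1.trans ?_
      rw [hs, map_zero]
      exact h2.symm
  refine DescH8.mono_of_app_injective c (fun O s t hst => ?_)
  have hs : c.app O (s - t) = 0 := by rw [map_sub, hst, sub_self]
  exact sub_eq_zero.mp (key O (s - t) hs)

theorem epi_of_surjective_basis (h : ∀ W, P W → Function.Surjective (c.app W)) : Epi c := by
  refine DescH8.epi_of_stk_surjective c (fun x z => ?_)
  obtain ⟨O, hxO, s, rfl⟩ := TopCat.Presheaf.exists_germ_eq N.presheaf z
  obtain ⟨W, hPW, hxW, hWO⟩ := hP O x hxO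
  obtain ⟨t, ht⟩ := h W hPW (N.presheaf.map (homOfLE hWO).op s)
  refine ⟨M.presheaf.germ W x hxW t, ?_⟩
  rw [DescH8.stk_germ c hxW t, ht]
  exact TopCat.Presheaf.germ_res_apply N.presheaf (homOfLE hWO) x hxW s

end Basis

section Algebra

open KaehlerDifferential

theorem alg_core {R A B M N₁ N₂ : Type u} [CommRing R] [CommRing A] [CommRing B] [Algebra R A]
    [Algebra A B] [Algebra R B] [IsScalarTower R A B]
    [AddCommGroup M] [Module A M] [AddCommGroup N₁] [Module A N₁] [Module B N₁]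
    [IsScalarTower A B N₁] [AddCommGroup N₂] [Module B N₂]
    (φ₁ : M →ₗ[A] N₁) (hbc : IsBaseChange B φ₁) (cl : N₁ →ₗ[B] N₂)
    (L₁ : M ≃ₗ[A] Ω[A⁄R]) (L₂ : N₂ ≃ₗ[B] Ω[B⁄R])
    (hform : ∀ m, L₂ (cl (φ₁ m)) = KaehlerDifferential.map R R A B (L₁ m)) :
    (Function.Injective cl ↔ Function.Injective (KaehlerDifferential.mapBaseChange R A B)) ∧
    (Function.Surjective cl ↔ Function.Surjective (KaehlerDifferential.mapBaseChange R A B)) := by
  let E₁ : (B ⊗[A] Ω[A⁄R]) ≃ₗ[B] N₁ := (L₁.symm.baseChange A B _ _).trans hbc.equiv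
  have hE : ∀ t : B ⊗[A] Ω[A⁄R], L₂ (cl (E₁ t)) = KaehlerDifferential.mapBaseChange R A B t := by
    intro t
    induction t using TensorProduct.induction_on with
    | zero => rw [map_zero, map_zero, map_zero, map_zero]
    | tmul b x =>
      have h1 : E₁ (b ⊗ₜ x) = b • φ₁ (L₁.symm x) := by
        show hbc.equiv ((L₁.symm.baseChange A B _ _) (b ⊗ₜ x)) = _
        rw [LinearEquiv.baseChange_tmul, IsBaseChange.equiv_tmul]
      rw [h1, cl.map_smul, L₂.map_smul, hform, LinearEquiv.apply_symm_apply,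
        KaehlerDifferential.mapBaseChange_tmul]
    | add x y hx hy => rw [map_add, map_add, map_add, map_add, hx, hy]
  have hfun : ⇑cl = ⇑L₂.symm ∘ ⇑(KaehlerDifferential.mapBaseChange R A B) ∘ ⇑E₁.symm := by
    funext y
    have := hE (E₁.symm y)
    rw [LinearEquiv.apply_symm_apply] at this
    show cl y = L₂.symm (KaehlerDifferential.mapBaseChange R A B (E₁.symm y))
    rw [← this, LinearEquiv.symm_apply_apply]
  constructor
  · rw [hfun, EquivLike.comp_injective, EquivLike.injective_comp]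
  · rw [hfun, EquivLike.comp_surjective, EquivLike.surjective_comp]

theorem mapBaseChange_injective_of_formallySmooth (R A B : Type u) [CommRing R] [CommRing A]
    [CommRing B] [Algebra R A] [Algebra A B] [Algebra R B] [IsScalarTower R A B]
    [Algebra.FormallySmooth A B] :
    Function.Injective (KaehlerDifferential.mapBaseChange R A B) := by
  rw [injective_iff_map_eq_zero]
  intro x hx
  obtain ⟨y, rfl⟩ := (Algebra.H1Cotangent.exact_δ_mapBaseChange R A B x).mp hx
  rw [Subsingleton.elim y 0, map_zero]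

theorem mapBaseChange_surjective_iff (R A B : Type u) [CommRing R] [CommRing A]
    [CommRing B] [Algebra R A] [Algebra A B] [Algebra R B] [IsScalarTower R A B] :
    Function.Surjective (KaehlerDifferential.mapBaseChange R A B) ↔
      Algebra.FormallyUnramified A B := by
  constructor
  · intro hs
    refine ⟨⟨fun z z' => ?_⟩⟩
    have h0 : ∀ z : Ω[B⁄A], z = 0 := by
      intro z
      obtain ⟨y, rfl⟩ := KaehlerDifferential.map_surjective R A B z
      exact (KaehlerDifferential.exact_mapBaseChange_map R A B y).mpr (hs y)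
    rw [h0 z, h0 z']
  · intro hu y
    haveI : Subsingleton Ω[B⁄A] := hu.subsingleton_kaehlerDifferential
    exact (KaehlerDifferential.exact_mapBaseChange_map R A B y).mp (Subsingleton.elim _ _)

end Algebra

section SameBase

variable {X Y S : Scheme.{u}} (g : Y ⟶ S) (h : X ⟶ S) (f : X ⟶ Y)

/-- Good affine opens of `X` for `X ⟶ Y ⟶ S`. -/
def GoodSB (W : X.Opens) : Prop :=
  IsAffineOpen W ∧ ∃ (V : Y.Opens) (T : S.Opens), IsAffineOpen V ∧ IsAffineOpen T ∧
    W ≤ f ⁻¹ᵁ V ∧ V ≤ g ⁻¹ᵁ T ∧ W ≤ h ⁻¹ᵁ T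

theorem exists_goodSB (w : f ≫ g = h) (O : X.Opens) (x : X) (hx : x ∈ O) :
    ∃ W : X.Opens, GoodSB g h f W ∧ x ∈ W ∧ W ≤ O := by
  obtain ⟨T, hT, hxT, -⟩ := (Opens.isBasis_iff_nbhd.mp S.isBasis_affineOpens)
    (show g (f x) ∈ (⊤ : S.Opens) from trivial)
  obtain ⟨V, hV, hxV, hVle⟩ := (Opens.isBasis_iff_nbhd.mp Y.isBasis_affineOpens)
    (show f x ∈ g ⁻¹ᵁ T from hxT)
  obtain ⟨W, hW, hxW, hWle⟩ := (Opens.isBasis_iff_nbhd.mp X.isBasis_affineOpens)
    (show x ∈ O ⊓ f ⁻¹ᵁ V from ⟨hx, hxV⟩)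
  refine ⟨W, ⟨hW, V, T, hV, hT, hWle.trans inf_le_right, hVle, fun y hy => ?_⟩, hxW,
    hWle.trans inf_le_left⟩
  have hy1 : g (f y) ∈ T := hVle ((hWle hy).2)
  have hy2 : g (f y) = h y := congrArg (fun k : X ⟶ S => k y) w
  have hy3 : h y ∈ T := by rw [← hy2]; exact hy1
  exact hy3

set_option maxHeartbeats 3200000 in
theorem core_sameBase (w : f ≫ g = h)
    (ΩY : Y.Modules) (dY : OmegaSh.Der g ΩY) (hY : OmegaSh.IsUniversal dY)
    (ΩX : X.Modules) (dX : OmegaSh.Der h ΩX) (hX : OmegaSh.IsUniversal dX)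
    (c : (Scheme.Modules.pullback f).obj ΩY ⟶ ΩX) (hc : OmegaSh.IsDiffCompat f dY dX c)
    {W : X.Opens} {V : Y.Opens} {T : S.Opens} (hW : IsAffineOpen W) (hV : IsAffineOpen V)
    (hT : IsAffineOpen T) (e : W ≤ f ⁻¹ᵁ V) (hVT : V ≤ g ⁻¹ᵁ T) (hWT : W ≤ h ⁻¹ᵁ T) :
    ((f.appLE V W e).hom.FormallySmooth → Function.Injective (c.app W)) ∧
    (Function.Surjective (c.app W) ↔ (f.appLE V W e).hom.FormallyUnramified) := by
  letI a1 : Algebra Γ(S, T) Γ(Y, V) := (g.appLE T V hVT).hom.toAlgebra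
  letI a3 : Algebra Γ(Y, V) Γ(X, W) := (f.appLE V W e).hom.toAlgebra
  letI a2 : Algebra Γ(S, T) Γ(X, W) := (h.appLE T W hWT).hom.toAlgebra
  have comm : ∀ r : Γ(S, T), (h.appLE T W hWT).hom r =
      (f.appLE V W e).hom ((g.appLE T V hVT).hom r) := by
    intro r
    have c1 := Scheme.Hom.appLE_comp_appLE f g T V W hVT e
    have c3 : g.appLE T V hVT ≫ f.appLE V W e = h.appLE T W hWT :=
      c1.trans (OmegaSh.appLE_congr_hom w _ _)
    exact (congrArg (fun k => k.hom r) c3).symm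
  haveI t1 : IsScalarTower Γ(S, T) Γ(Y, V) Γ(X, W) :=
    IsScalarTower.of_algebraMap_eq (fun r => comm r)
  obtain ⟨L₁, hL₁⟩ := receptacleSections g dY hY hV hT hVT
  obtain ⟨L₂, hL₂⟩ := receptacleSections h dX hX hW hT hWT
  haveI qc₁ : ΩY.IsQuasicoherent := isQuasicoherent g dY hY
  letI mA : Module Γ(Y, V) Γ((Scheme.Modules.pullback f).obj ΩY, W) :=
    Module.compHom _ (f.appLE V W e).hom
  haveI tA : IsScalarTower Γ(Y, V) Γ(X, W) Γ((Scheme.Modules.pullback f).obj ΩY, W) :=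
    IsScalarTower.of_algebraMap_smul fun _ _ => rfl
  letI mA2 : Module Γ(Y, V) Γ(ΩX, W) := Module.compHom _ (f.appLE V W e).hom
  haveI tA2 : IsScalarTower Γ(Y, V) Γ(X, W) Γ(ΩX, W) :=
    IsScalarTower.of_algebraMap_smul fun _ _ => rfl
  have hbc := PBH8.isBaseChange_cUV f ΩY e hW hV
  let cl : Γ((Scheme.Modules.pullback f).obj ΩY, W) →ₗ[Γ(X, W)] Γ(ΩX, W) :=
    { toFun := fun y => c.app W y
      map_add' := fun y z => map_add (c.app W).hom y z
      map_smul' := fun r y => Scheme.Modules.Hom.app_smul c r y }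
  let lam : Γ(ΩY, V) →ₗ[Γ(Y, V)] Γ(ΩX, W) :=
    (cl.restrictScalars Γ(Y, V)).comp (PBH8.cUVLin f ΩY e)
  have hcomm : (KaehlerDifferential.map Γ(S, T) Γ(S, T) Γ(Y, V) Γ(X, W)).comp L₁.toLinearMap =
      (L₂.restrictScalars Γ(Y, V)).toLinearMap.comp lam := by
    refine LinearMap.ext_on (span_d g dY hY ⟨hV, T, hT, hVT⟩) ?_
    rintro _ ⟨s, rfl⟩
    show KaehlerDifferential.map Γ(S, T) Γ(S, T) Γ(Y, V) Γ(X, W) (L₁ (dY.app V s)) =
      L₂ (c.app W (PBH8.cUV f ΩY e (dY.app V s)))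
    rw [hL₁, cUV_d f dY dX c hc e s, hL₂, KaehlerDifferential.map_D]
    rfl
  have hform : ∀ m, L₂ (cl (PBH8.cUVLin f ΩY e m)) =
      KaehlerDifferential.map Γ(S, T) Γ(S, T) Γ(Y, V) Γ(X, W) (L₁ m) :=
    fun m => (LinearMap.congr_fun hcomm m).symm
  have core := alg_core (PBH8.cUVLin f ΩY e) hbc cl L₁ L₂ hform
  constructor
  · intro hfs
    haveI : Algebra.FormallySmooth Γ(Y, V) Γ(X, W) := hfs
    exact core.1.mpr (mapBaseChange_injective_of_formallySmooth Γ(S, T) Γ(Y, V) Γ(X, W))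
  · exact core.2.trans (mapBaseChange_surjective_iff Γ(S, T) Γ(Y, V) Γ(X, W))

theorem main5016 (w : f ≫ g = h) (hf : MoreMor.IsFormallySmoothHom f)
    (ΩY : Y.Modules) (dY : OmegaSh.Der g ΩY) (hY : OmegaSh.IsUniversal dY)
    (ΩX : X.Modules) (dX : OmegaSh.Der h ΩX) (hX : OmegaSh.IsUniversal dX)
    (c : (Scheme.Modules.pullback f).obj ΩY ⟶ ΩX) (hc : OmegaSh.IsDiffCompat f dY dX c) :
    Mono c := by
  refine mono_of_injective_basis c (GoodSB g h f) (exists_goodSB g h f w) ?_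
  rintro W ⟨hW, V, T, hV, hT, e, hVT, hWT⟩
  exact (core_sameBase g h f w ΩY dY hY ΩX dX hX c hc hW hV hT e hVT hWT).1
    (Groth.Agent.Lib.OmegaFSmoothH4.formallySmooth_appLE f hf hW hV e)

theorem main5015 (w : f ≫ g = h)
    (ΩY : Y.Modules) (dY : OmegaSh.Der g ΩY) (hY : OmegaSh.IsUniversal dY)
    (ΩX : X.Modules) (dX : OmegaSh.Der h ΩX) (hX : OmegaSh.IsUniversal dX)
    (c : (Scheme.Modules.pullback f).obj ΩY ⟶ ΩX) (hc : OmegaSh.IsDiffCompat f dY dX c) :
    FormallyUnramified f ↔ Epi c := by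
  constructor
  · intro hfu
    refine epi_of_surjective_basis c (GoodSB g h f) (exists_goodSB g h f w) ?_
    rintro W ⟨hW, V, T, hV, hT, e, hVT, hWT⟩
    exact (core_sameBase g h f w ΩY dY hY ΩX dX hX c hc hW hV hT e hVT hWT).2.mpr
      (f.formallyUnramified_appLE hV hW e)
  · intro hepi
    haveI qc₁ : ΩY.IsQuasicoherent := isQuasicoherent g dY hY
    haveI qc₂ : ΩX.IsQuasicoherent := isQuasicoherent h dX hX
    haveI qc₃ : ((Scheme.Modules.pullback f).obj ΩY).IsQuasicoherent :=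
      PBH8.isQuasicoherent_pullback f ΩY
    rw [HasRingHomProperty.iff_exists_appLE (P := @FormallyUnramified)
      (RingHom.FormallyUnramified.stableUnderComposition.stableUnderCompositionWithLocalizationAway
        RingHom.FormallyUnramified.holdsForLocalizationAway).1]
    intro x
    obtain ⟨W, ⟨hW, V, T, hV, hT, e, hVT, hWT⟩, hxW, -⟩ := exists_goodSB g h f w ⊤ x trivial
    refine ⟨⟨V, hV⟩, ⟨W, hW⟩, hxW, e, ?_⟩
    exact (core_sameBase g h f w ΩY dY hY ΩX dX hX c hc hW hV hT e hVT hWT).2.mp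
      (QCohExact.app_surjective_of_epi c hW)

end SameBase

end Groth.Agent.Lib.OmegaCompat2H4
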