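import Mathlib
import Groth.Prelude
import Groth.Agent.Lib.ConormOpen_helper4
import Groth.Agent.Lib.OmegaCompat2_helper4

/-!
# The map `C_{Z/X} → i^*Ω_{X/Y}` on sections over good affine opens (helper4).
APPEND-ONLY once landed.
-/

set_option autoImplicit false
set_option linter.style.haveILetI false

universe u

open CategoryTheory CategoryTheory.Limits AlgebraicGeometry Opposite TopologicalSpace TensorProduct
open AlgebraicGeometry.Scheme.Modules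

namespace Groth.Agent.Lib.ConormDiffH4

open Groth.Agent.Lib.OmegaUniv2H4 Groth.Agent.Lib.OmegaResH4 Groth.Agent.Lib.OmegaRecQCH4
open Groth.Agent.Lib.OmegaCompatH4 Groth.Agent.Lib.OmegaCompat2H4
open Groth.Agent.Lib.OmegaAffH4 Groth.Agent.Lib.OmegaUnivH4 Groth.Agent.Lib.ConormOpenH4

section Algebra

theorem surjective_kerSquareLift (R A C : Type u) [CommRing R]
    [CommRing A] [CommRing C] [Algebra R A] [Algebra A C] [Algebra R C] [IsScalarTower R A C]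
    (hs : Function.Surjective (algebraMap A C)) :
    Function.Surjective (IsScalarTower.toAlgHom R A C).kerSquareLift := by
  intro c
  obtain ⟨a, rfl⟩ := hs c
  exact ⟨Ideal.Quotient.mk _ a, AlgHom.kerSquareLift_mk _ a⟩

theorem ker_kerSquareLift_sq (R A C : Type u) [CommRing R]
    [CommRing A] [CommRing C] [Algebra R A] [Algebra A C] [Algebra R C] [IsScalarTower R A C] :
    RingHom.ker (IsScalarTower.toAlgHom R A C).kerSquareLift.toRingHom ^ 2 = ⊥ := by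
  rw [AlgHom.ker_kerSquareLift]
  exact Ideal.cotangentIdeal_square _

theorem exists_section_of_formallySmooth (R C : Type u) [CommRing R] [CommRing C] [Algebra R C]
    {B : Type u} [CommRing B] [Algebra R B] (k : B →ₐ[R] C) (hk : Function.Surjective k)
    (h2 : RingHom.ker k.toRingHom ^ 2 = ⊥) [Algebra.FormallySmooth R C] :
    ∃ g : C →ₐ[R] B, k.comp g = AlgHom.id R C :=
  ⟨Algebra.FormallySmooth.liftOfSurjective (AlgHom.id R C) k hk ⟨2, h2⟩,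
    Algebra.FormallySmooth.comp_liftOfSurjective _ _ hk ⟨2, h2⟩⟩

theorem kerCotangentToTensor_injective_of_formallySmooth (R A C : Type u) [CommRing R]
    [CommRing A] [CommRing C] [Algebra R A] [Algebra A C] [Algebra R C] [IsScalarTower R A C]
    (hs : Function.Surjective (algebraMap A C)) [Algebra.FormallySmooth R C] :
    Function.Injective (KaehlerDifferential.kerCotangentToTensor R A C) := by
  obtain ⟨g, hg⟩ := exists_section_of_formallySmooth R C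
    (IsScalarTower.toAlgHom R A C).kerSquareLift (surjective_kerSquareLift R A C hs)
    (ker_kerSquareLift_sq R A C)
  obtain ⟨l, hl⟩ :=
    (retractionKerCotangentToTensorEquivSection (R := R) hs).symm ⟨g, hg⟩
  exact Function.LeftInverse.injective (g := l) (fun x => LinearMap.congr_fun hl x)

end Algebra

section Geom

variable {X' X Y : Scheme.{u}} (j : X' ⟶ X)

theorem cUV_rfl (M : X.Modules) (W : X.Opens) (x : Γ(M, W)) :
    PBH8.cUV j M (le_refl (j ⁻¹ᵁ W)) x = OmegaSh.pullSect j M W x := by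
  unfold PBH8.cUV
  have h0 : (homOfLE (le_refl (j ⁻¹ᵁ W))).op = 𝟙 (op (j ⁻¹ᵁ W)) := rfl
  rw [h0, CategoryTheory.Functor.map_id]
  rfl

set_option maxHeartbeats 3200000 in
theorem conormalDiff_sections [IsImmersion j] [QuasiCompact j] (f : X ⟶ Y)
    (Ω' : X.Modules) (d : OmegaSh.Der f Ω') (hd : OmegaSh.IsUniversal d)
    (φ : Omega.conormal j ⟶ (Scheme.Modules.pullback j).obj Ω')
    (hφ : OmegaSh.IsConormalDiff j d φ)
    {W : X.Opens} {V : Y.Opens} (hW : IsAffineOpen W) (hU : IsAffineOpen (j ⁻¹ᵁ W))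
    (hsurj : Function.Surjective (j.app W).hom) (hV : IsAffineOpen V) (hWV : W ≤ f ⁻¹ᵁ V) :
    letI aRA : Algebra Γ(Y, V) Γ(X, W) := (f.appLE V W hWV).hom.toAlgebra
    letI aAC : Algebra Γ(X, W) Γ(X', j ⁻¹ᵁ W) := (j.appLE W (j ⁻¹ᵁ W) le_rfl).hom.toAlgebra
    letI mA : Module Γ(X, W) Γ(CN j, j ⁻¹ᵁ W) :=
      Module.compHom _ (j.appLE W (j ⁻¹ᵁ W) le_rfl).hom
    ∃ (L : Γ(Ω', W) ≃ₗ[Γ(X, W)] Ω[Γ(X, W)⁄Γ(Y, V)])
      (Θ : Γ(CN j, j ⁻¹ᵁ W) ≃ₗ[Γ(X, W)]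
        (RingHom.ker (algebraMap Γ(X, W) Γ(X', j ⁻¹ᵁ W))).Cotangent)
      (E : (Γ(X', j ⁻¹ᵁ W) ⊗[Γ(X, W)] Ω[Γ(X, W)⁄Γ(Y, V)]) ≃ₗ[Γ(X', j ⁻¹ᵁ W)]
        Γ((Scheme.Modules.pullback j).obj Ω', j ⁻¹ᵁ W)),
      (∀ b, L (d.app W b) = KaehlerDifferential.D Γ(Y, V) Γ(X, W) b) ∧
      (∀ (c : Γ(X', j ⁻¹ᵁ W)) (x : Γ(Ω', W)),
        E (c ⊗ₜ[Γ(X, W)] L x) = c • PBH8.cUV j Ω' le_rfl x) ∧
      (∀ (n : Γ(ClSub.idealMod j.ker, W))
        (hn : OmegaSh.idealSect j.ker W n ∈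
          RingHom.ker (algebraMap Γ(X, W) Γ(X', j ⁻¹ᵁ W))),
        Θ (PBH8.cUV j (ClSub.idealMod j.ker) le_rfl n) =
          Ideal.toCotangent _ ⟨OmegaSh.idealSect j.ker W n, hn⟩) ∧
      (∀ n : Γ(ClSub.idealMod j.ker, W), OmegaSh.idealSect j.ker W n ∈
          RingHom.ker (algebraMap Γ(X, W) Γ(X', j ⁻¹ᵁ W))) ∧
      (∀ a : Γ(X, W), a ∈ RingHom.ker (algebraMap Γ(X, W) Γ(X', j ⁻¹ᵁ W)) →
        ∃ n : Γ(ClSub.idealMod j.ker, W), OmegaSh.idealSect j.ker W n = a) ∧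
      ∀ m : Γ(CN j, j ⁻¹ᵁ W), φ.app (j ⁻¹ᵁ W) m =
        E (KaehlerDifferential.kerCotangentToTensor Γ(Y, V) Γ(X, W) Γ(X', j ⁻¹ᵁ W) (Θ m)) := by
  letI aRA : Algebra Γ(Y, V) Γ(X, W) := (f.appLE V W hWV).hom.toAlgebra
  letI aAC : Algebra Γ(X, W) Γ(X', j ⁻¹ᵁ W) := (j.appLE W (j ⁻¹ᵁ W) le_rfl).hom.toAlgebra
  letI mA : Module Γ(X, W) Γ(CN j, j ⁻¹ᵁ W) :=
    Module.compHom _ (j.appLE W (j ⁻¹ᵁ W) le_rfl).hom
  haveI tow : IsScalarTower Γ(X, W) Γ(X', j ⁻¹ᵁ W) Γ(CN j, j ⁻¹ᵁ W) :=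
    IsScalarTower.of_algebraMap_smul fun _ _ => rfl
  haveI qcI : (ClSub.idealMod j.ker).IsQuasicoherent := isQuasicoherent_idealMod _
  haveI qcΩ : Ω'.IsQuasicoherent := isQuasicoherent f d hd
  have hbcI : IsBaseChange Γ(X', j ⁻¹ᵁ W) (PBH8.cUVLin j (ClSub.idealMod j.ker) le_rfl) :=
    PBH8.isBaseChange_cUV j (ClSub.idealMod j.ker) le_rfl hU hW
  have happ : j.appLE W (j ⁻¹ᵁ W) le_rfl = j.app W := (Scheme.Hom.app_eq_appLE j).symm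
  have hsurj' : Function.Surjective (algebraMap Γ(X, W) Γ(X', j ⁻¹ᵁ W)) := by
    intro c
    obtain ⟨b, hb⟩ := hsurj c
    exact ⟨b, (congrArg (fun k => k.hom b) happ).trans hb⟩
  have hk : j.ker.ideal ⟨W, hW⟩ = RingHom.ker (algebraMap Γ(X, W) Γ(X', j ⁻¹ᵁ W)) := by
    rw [Scheme.Hom.ker_apply]
    exact congrArg (fun k : Γ(X, W) ⟶ Γ(X', j ⁻¹ᵁ W) => RingHom.ker k.hom) happ.symm
  let j' : Γ(ClSub.idealMod j.ker, W) ≃ₗ[Γ(X, W)]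
      RingHom.ker (algebraMap Γ(X, W) Γ(X', j ⁻¹ᵁ W)) :=
    (idealModEquiv j.ker hW).trans (LinearEquiv.ofEq _ _ hk)
  have hj'val : ∀ n, ((j' n : RingHom.ker (algebraMap Γ(X, W) Γ(X', j ⁻¹ᵁ W))) : Γ(X, W)) =
      OmegaSh.idealSect j.ker W n := fun n => rfl
  obtain ⟨Θ, hΘ⟩ := cotangent_of_isBaseChange' hsurj'
    (RingHom.ker (algebraMap Γ(X, W) Γ(X', j ⁻¹ᵁ W))) (fun b => RingHom.mem_ker) j'
    (PBH8.cUVLin j (ClSub.idealMod j.ker) le_rfl) hbcI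
  obtain ⟨L, hL⟩ := receptacleSections f d hd hW hV hWV
  letI mΩ : Module Γ(X, W) Γ((Scheme.Modules.pullback j).obj Ω', j ⁻¹ᵁ W) :=
    Module.compHom _ (j.appLE W (j ⁻¹ᵁ W) le_rfl).hom
  haveI tΩ : IsScalarTower Γ(X, W) Γ(X', j ⁻¹ᵁ W)
      Γ((Scheme.Modules.pullback j).obj Ω', j ⁻¹ᵁ W) :=
    IsScalarTower.of_algebraMap_smul fun _ _ => rfl
  have hbcΩ : IsBaseChange Γ(X', j ⁻¹ᵁ W) (PBH8.cUVLin j Ω' le_rfl) :=
    PBH8.isBaseChange_cUV j Ω' le_rfl hU hW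
  let E : (Γ(X', j ⁻¹ᵁ W) ⊗[Γ(X, W)] Ω[Γ(X, W)⁄Γ(Y, V)]) ≃ₗ[Γ(X', j ⁻¹ᵁ W)]
      Γ((Scheme.Modules.pullback j).obj Ω', j ⁻¹ᵁ W) :=
    (L.symm.baseChange Γ(X, W) Γ(X', j ⁻¹ᵁ W) _ _).trans hbcΩ.equiv
  have hE : ∀ (c : Γ(X', j ⁻¹ᵁ W)) (y : Ω[Γ(X, W)⁄Γ(Y, V)]),
      E (c ⊗ₜ y) = c • PBH8.cUVLin j Ω' le_rfl (L.symm y) := by
    intro c y
    show hbcΩ.equiv ((L.symm.baseChange Γ(X, W) Γ(X', j ⁻¹ᵁ W) _ _) (c ⊗ₜ y)) = _
    rw [LinearEquiv.baseChange_tmul, IsBaseChange.equiv_tmul]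
  refine ⟨L, Θ, E, hL, ?_, ?_, ?_, ?_, ?_⟩
  · intro c x
    rw [hE, LinearEquiv.symm_apply_apply]
    rfl
  · intro n hn
    exact (hΘ n).trans (congrArg _ (Subtype.ext (hj'val n)))
  · intro n
    have h1 := (j' n).2
    rw [hj'val n] at h1
    exact h1
  · intro a ha
    exact ⟨j'.symm ⟨a, ha⟩, (hj'val _).symm.trans
      (congrArg Subtype.val (j'.apply_symm_apply ⟨a, ha⟩))⟩
  · intro m
    obtain ⟨x, hx⟩ := Ideal.toCotangent_surjective _ (Θ m)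
    have hjn : j' (j'.symm x) = x := j'.apply_symm_apply x
    have hx0 : OmegaSh.idealSect j.ker W (j'.symm x) = (x : Γ(X, W)) :=
      (hj'val _).symm.trans (congrArg Subtype.val hjn)
    have hn1 : Θ (PBH8.cUVLin j (ClSub.idealMod j.ker) le_rfl (j'.symm x)) = Θ m :=
      ((hΘ (j'.symm x)).trans (congrArg _ hjn)).trans hx
    have hm : m = PBH8.cUV j (ClSub.idealMod j.ker) le_rfl (j'.symm x) :=
      (Θ.injective hn1).symm
    have h1 : φ.app (j ⁻¹ᵁ W) (PBH8.cUV j (ClSub.idealMod j.ker) le_rfl (j'.symm x)) =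
        PBH8.cUV j Ω' le_rfl (d.app W (OmegaSh.idealSect j.ker W (j'.symm x))) := by
      rw [cUV_rfl, cUV_rfl]
      exact hφ W (j'.symm x)
    have h2 : L.symm (KaehlerDifferential.D Γ(Y, V) Γ(X, W) (x : Γ(X, W))) =
        d.app W (OmegaSh.idealSect j.ker W (j'.symm x)) := by
      rw [LinearEquiv.symm_apply_eq, hL, hx0]
    have h3 : E (KaehlerDifferential.kerCotangentToTensor Γ(Y, V) Γ(X, W) Γ(X', j ⁻¹ᵁ W) (Θ m)) =
        PBH8.cUV j Ω' le_rfl (d.app W (OmegaSh.idealSect j.ker W (j'.symm x))) := by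
      rw [← hx, KaehlerDifferential.kerCotangentToTensor_toCotangent, hE, one_smul, h2]
      rfl
    rw [h3, hm]
    exact h1

/-- Good opens of `X'` for the conormal map. -/
def GoodCN (f : X ⟶ Y) (U : X'.Opens) : Prop :=
  ∃ (W : X.Opens) (V : Y.Opens), IsAffineOpen W ∧ IsAffineOpen (j ⁻¹ᵁ W) ∧
    Function.Surjective (j.app W).hom ∧ IsAffineOpen V ∧ W ≤ f ⁻¹ᵁ V ∧ U = j ⁻¹ᵁ W

theorem exists_goodCN [IsImmersion j] (f : X ⟶ Y) (O' : X'.Opens) (x' : X') (hx' : x' ∈ O') :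
    ∃ U : X'.Opens, GoodCN j f U ∧ x' ∈ U ∧ U ≤ O' := by
  obtain ⟨O, hO, hOeq⟩ := j.isEmbedding.isInducing.isOpen_iff.mp O'.isOpen
  obtain ⟨V, hV, hxV, -⟩ := (Opens.isBasis_iff_nbhd.mp Y.isBasis_affineOpens)
    (show f (j x') ∈ (⊤ : Y.Opens) from trivial)
  have hxO : j x' ∈ O := by
    have : x' ∈ j ⁻¹' O := by rw [hOeq]; exact hx'
    exact this
  obtain ⟨W, hW, hjW, hWO, hU, hsurj⟩ := exists_good_affine j x'
    ((⟨O, hO⟩ : X.Opens) ⊓ f ⁻¹ᵁ V) ⟨hxO, hxV⟩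
  refine ⟨j ⁻¹ᵁ W, ⟨W, V, hW, hU, hsurj, hV, hWO.trans inf_le_right, rfl⟩, hjW, ?_⟩
  intro z hz
  have h1 : z ∈ j ⁻¹' O := (hWO hz).1
  rw [hOeq] at h1
  exact h1

set_option maxHeartbeats 3200000 in
theorem main5020 [IsImmersion j] [QuasiCompact j] (f : X ⟶ Y)
    (hf : MoreMor.IsFormallySmoothHom (j ≫ f))
    (Ω' : X.Modules) (d : OmegaSh.Der f Ω') (hd : OmegaSh.IsUniversal d)
    (φ : Omega.conormal j ⟶ (Scheme.Modules.pullback j).obj Ω')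
    (hφ : OmegaSh.IsConormalDiff j d φ) : Mono φ := by
  refine mono_of_injective_basis φ (GoodCN j f) (exists_goodCN j f) ?_
  rintro U ⟨W, V, hW, hU, hsurj, hV, hWV, rfl⟩
  have hUV : j ⁻¹ᵁ W ≤ (j ≫ f) ⁻¹ᵁ V := fun z hz => hWV hz
  letI aRA : Algebra Γ(Y, V) Γ(X, W) := (f.appLE V W hWV).hom.toAlgebra
  letI aAC : Algebra Γ(X, W) Γ(X', j ⁻¹ᵁ W) := (j.appLE W (j ⁻¹ᵁ W) le_rfl).hom.toAlgebra
  letI aRC : Algebra Γ(Y, V) Γ(X', j ⁻¹ᵁ W) := ((j ≫ f).appLE V (j ⁻¹ᵁ W) hUV).hom.toAlgebra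
  letI mA : Module Γ(X, W) Γ(CN j, j ⁻¹ᵁ W) :=
    Module.compHom _ (j.appLE W (j ⁻¹ᵁ W) le_rfl).hom
  have comm : ∀ r : Γ(Y, V), ((j ≫ f).appLE V (j ⁻¹ᵁ W) hUV).hom r =
      (j.appLE W (j ⁻¹ᵁ W) le_rfl).hom ((f.appLE V W hWV).hom r) := by
    intro r
    have c1 := Scheme.Hom.appLE_comp_appLE j f V W (j ⁻¹ᵁ W) hWV le_rfl
    exact (congrArg (fun k => k.hom r) c1).symm
  haveI tRAC : IsScalarTower Γ(Y, V) Γ(X, W) Γ(X', j ⁻¹ᵁ W) :=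
    IsScalarTower.of_algebraMap_eq (fun r => comm r)
  haveI fs : Algebra.FormallySmooth Γ(Y, V) Γ(X', j ⁻¹ᵁ W) :=
    Groth.Agent.Lib.OmegaFSmoothH4.formallySmooth_appLE (j ≫ f) hf hU hV hUV
  have happ : j.appLE W (j ⁻¹ᵁ W) le_rfl = j.app W := (Scheme.Hom.app_eq_appLE j).symm
  have hsurj' : Function.Surjective (algebraMap Γ(X, W) Γ(X', j ⁻¹ᵁ W)) := by
    intro c
    obtain ⟨b, hb⟩ := hsurj c
    exact ⟨b, (congrArg (fun k => k.hom b) happ).trans hb⟩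
  obtain ⟨L, Θ, E, hL, hE, hΘ, hmem, hex, hform⟩ :=
    conormalDiff_sections j f Ω' d hd φ hφ hW hU hsurj hV hWV
  have hinj := kerCotangentToTensor_injective_of_formallySmooth Γ(Y, V) Γ(X, W)
    Γ(X', j ⁻¹ᵁ W) hsurj'
  intro m₁ m₂ h
  have h' : E (KaehlerDifferential.kerCotangentToTensor Γ(Y, V) Γ(X, W) Γ(X', j ⁻¹ᵁ W) (Θ m₁)) =
      E (KaehlerDifferential.kerCotangentToTensor Γ(Y, V) Γ(X, W) Γ(X', j ⁻¹ᵁ W) (Θ m₂)) :=
    (hform m₁).symm.trans (h.trans (hform m₂))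
  exact Θ.injective (hinj (E.injective h'))

end Geom

end Groth.Agent.Lib.ConormDiffH4
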