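import Mathlib
import Groth.Prelude

/-!
# Algebra for the conormal sequences `C_{Z/Y} → C_{Z/X} → i^*Ω_{X/Y} → 0` (helper4).
APPEND-ONLY once landed.
-/

set_option autoImplicit false
set_option linter.style.haveILetI false

universe u

open TensorProduct

namespace Groth.Agent.Lib.ConormSeqAlgH4

section A1

theorem bijective_of_isBaseChange_of_bijective {A B M N : Type u} [CommRing A] [CommRing B]
    [Algebra A B] [AddCommGroup M] [Module A M] [AddCommGroup N] [Module A N] [Module B N]
    [IsScalarTower A B N] (f : M →ₗ[A] N) (hbc : IsBaseChange B f)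
    (hAB : Function.Bijective (algebraMap A B)) : Function.Bijective f := by
  let σ : B ≃+* A := (RingEquiv.ofBijective (algebraMap A B) hAB).symm
  have hσ : ∀ b, algebraMap A B (σ b) = b :=
    fun b => (RingEquiv.ofBijective (algebraMap A B) hAB).apply_symm_apply b
  have hσ' : ∀ a, σ (algebraMap A B a) = a :=
    fun a => (RingEquiv.ofBijective (algebraMap A B) hAB).symm_apply_apply a
  constructor
  · letI mB : Module B M := Module.compHom M (σ : B →+* A)
    haveI tw : IsScalarTower A B M := IsScalarTower.of_algebraMap_smul (fun a m => by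
      show σ (algebraMap A B a) • m = a • m
      rw [hσ'])
    have hg : ∀ m, hbc.lift (LinearMap.id : M →ₗ[A] M) (f m) = m :=
      fun m => hbc.lift_eq (LinearMap.id : M →ₗ[A] M) m
    exact Function.LeftInverse.injective (g := hbc.lift (LinearMap.id : M →ₗ[A] M)) hg
  · intro n
    refine hbc.inductionOn n (fun n => ∃ m, f m = n) ⟨0, map_zero f⟩ (fun m => ⟨m, rfl⟩) ?_ ?_
    · rintro b n ⟨m, rfl⟩
      refine ⟨σ b • m, ?_⟩
      rw [f.map_smul, ← algebraMap_smul B (σ b) (f m), hσ]
    · rintro n₁ n₂ ⟨m₁, rfl⟩ ⟨m₂, rfl⟩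
      exact ⟨m₁ + m₂, map_add f m₁ m₂⟩

end A1

section A2

variable (R A C : Type u) [CommRing R] [CommRing A] [CommRing C] [Algebra R A] [Algebra A C]
  [Algebra R C] [IsScalarTower R A C]

theorem kerCotangentToTensor_surjective (hRC : Function.Surjective (algebraMap R C))
    (hAC : Function.Surjective (algebraMap A C)) :
    Function.Surjective (KaehlerDifferential.kerCotangentToTensor R A C) := by
  haveI : Subsingleton Ω[C⁄R] := KaehlerDifferential.subsingleton_of_surjective R C hRC
  intro t
  have h0 : KaehlerDifferential.mapBaseChange R A C t = 0 := Subsingleton.elim _ _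
  exact (KaehlerDifferential.exact_kerCotangentToTensor_mapBaseChange R A C hAC t).mp h0

theorem surjective_of_tower (hRC : Function.Surjective (algebraMap R C)) :
    Function.Surjective (algebraMap A C) := by
  intro c
  obtain ⟨r, rfl⟩ := hRC c
  exact ⟨algebraMap R A r, (IsScalarTower.algebraMap_apply R A C r).symm⟩

theorem algebraMap_mem_ker {r : R} (hr : algebraMap R C r = 0) :
    algebraMap R A r ∈ RingHom.ker (algebraMap A C) := by
  rw [RingHom.mem_ker, ← IsScalarTower.algebraMap_apply, hr]

theorem mul_mem_sq {y z : A} (hy : y ∈ RingHom.ker (algebraMap A C))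
    (hz : z ∈ RingHom.ker (algebraMap A C)) : y * z ∈ RingHom.ker (algebraMap A C) ^ 2 := by
  rw [pow_two]
  exact Ideal.mul_mem_mul hy hz

/-- `I` kills `I/I²`. -/
theorem smul_toCotangent_eq_zero {y : A} (hy : y ∈ RingHom.ker (algebraMap A C))
    (t : (RingHom.ker (algebraMap A C)).Cotangent) : y • t = 0 := by
  obtain ⟨z, rfl⟩ := Ideal.toCotangent_surjective _ t
  rw [← map_smul, Ideal.toCotangent_eq_zero]
  exact mul_mem_sq A C hy z.2

/-- The image of `J = ker (R → C)` in `I/I²`. -/
def imJ (hRC : Function.Surjective (algebraMap R C)) :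
    Submodule A (RingHom.ker (algebraMap A C)).Cotangent where
  carrier := {t | ∃ (r : R) (hr : algebraMap R C r = 0),
    t = Ideal.toCotangent _ ⟨algebraMap R A r, algebraMap_mem_ker R A C hr⟩}
  add_mem' := by
    rintro _ _ ⟨r, hr, rfl⟩ ⟨s, hs, rfl⟩
    refine ⟨r + s, by rw [map_add, hr, hs, add_zero], ?_⟩
    rw [← map_add]
    exact congrArg _ (Subtype.ext (map_add (algebraMap R A) r s).symm)
  zero_mem' := ⟨0, map_zero _, by
    rw [eq_comm, Ideal.toCotangent_eq_zero]
    show algebraMap R A 0 ∈ _
    rw [map_zero]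
    exact zero_mem _⟩
  smul_mem' := by
    rintro a _ ⟨r, hr, rfl⟩
    obtain ⟨s, hs⟩ := hRC (algebraMap A C a)
    have hy : a - algebraMap R A s ∈ RingHom.ker (algebraMap A C) := by
      rw [RingHom.mem_ker, map_sub, ← IsScalarTower.algebraMap_apply, hs, sub_self]
    refine ⟨s * r, by rw [map_mul, hr, mul_zero], ?_⟩
    have h1 : a • Ideal.toCotangent _ (⟨algebraMap R A r, algebraMap_mem_ker R A C hr⟩ :
        RingHom.ker (algebraMap A C)) =
        algebraMap R A s • Ideal.toCotangent _ (⟨algebraMap R A r, algebraMap_mem_ker R A C hr⟩ :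
          RingHom.ker (algebraMap A C)) := by
      have h2 := smul_toCotangent_eq_zero A C hy (Ideal.toCotangent _
        (⟨algebraMap R A r, algebraMap_mem_ker R A C hr⟩ : RingHom.ker (algebraMap A C)))
      rw [sub_smul, sub_eq_zero] at h2
      exact h2
    rw [h1, ← map_smul]
    exact congrArg _ (Subtype.ext (by
      show algebraMap R A s * algebraMap R A r = algebraMap R A (s * r)
      rw [map_mul]))

variable (hRC : Function.Surjective (algebraMap R C))

/-- The difference `a - r`, for `r` lifting the image of `a`. -/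
def yI (a : A) (r : R) (h : algebraMap R C r = algebraMap A C a) :
    RingHom.ker (algebraMap A C) :=
  ⟨a - algebraMap R A r, by
    rw [RingHom.mem_ker, map_sub, ← IsScalarTower.algebraMap_apply, h, sub_self]⟩

/-- The class of `a - r` modulo the image of `J`. -/
def Dfun (a : A) (r : R) (h : algebraMap R C r = algebraMap A C a) :
    (RingHom.ker (algebraMap A C)).Cotangent ⧸ imJ R A C hRC :=
  Submodule.Quotient.mk (Ideal.toCotangent _ (yI R A C a r h))

theorem Dfun_indep (a : A) (r r' : R) (h : algebraMap R C r = algebraMap A C a)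
    (h' : algebraMap R C r' = algebraMap A C a) : Dfun R A C hRC a r h = Dfun R A C hRC a r' h' := by
  unfold Dfun
  rw [Submodule.Quotient.eq, ← map_sub]
  refine ⟨r' - r, by rw [map_sub, h, h', sub_self], ?_⟩
  exact congrArg _ (Subtype.ext (by
    show (a - algebraMap R A r) - (a - algebraMap R A r') = algebraMap R A (r' - r)
    rw [map_sub]; ring))

/-- A chosen lift. -/
noncomputable def rOf (a : A) : R := Classical.choose (hRC (algebraMap A C a))

theorem rOf_spec (a : A) : algebraMap R C (rOf R A C hRC a) = algebraMap A C a :=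
  Classical.choose_spec (hRC (algebraMap A C a))

/-- The derivation, as a function. -/
noncomputable def Dmap (a : A) : (RingHom.ker (algebraMap A C)).Cotangent ⧸ imJ R A C hRC :=
  Dfun R A C hRC a (rOf R A C hRC a) (rOf_spec R A C hRC a)

theorem Dmap_eq (a : A) (r : R) (h : algebraMap R C r = algebraMap A C a) :
    Dmap R A C hRC a = Dfun R A C hRC a r h := Dfun_indep R A C hRC a _ r _ h

theorem Dmap_add (a b : A) : Dmap R A C hRC (a + b) = Dmap R A C hRC a + Dmap R A C hRC b := by
  have hab : algebraMap R C (rOf R A C hRC a + rOf R A C hRC b) = algebraMap A C (a + b) := by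
    rw [map_add, map_add, rOf_spec, rOf_spec]
  rw [Dmap_eq R A C hRC (a + b) _ hab]
  unfold Dmap Dfun
  rw [← Submodule.Quotient.mk_add, ← map_add]
  exact congrArg _ (congrArg _ (Subtype.ext (by
    show (a + b) - algebraMap R A (rOf R A C hRC a + rOf R A C hRC b) =
      (a - algebraMap R A (rOf R A C hRC a)) + (b - algebraMap R A (rOf R A C hRC b))
    rw [map_add]; ring)))

theorem Dmap_smul (c : R) (a : A) : Dmap R A C hRC (c • a) = c • Dmap R A C hRC a := by
  have hca : algebraMap R C (c * rOf R A C hRC a) = algebraMap A C (c • a) := by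
    rw [map_mul, rOf_spec, Algebra.smul_def, map_mul, ← IsScalarTower.algebraMap_apply]
  rw [Dmap_eq R A C hRC (c • a) _ hca]
  unfold Dmap Dfun
  rw [← algebraMap_smul A c (Submodule.Quotient.mk _), ← Submodule.Quotient.mk_smul, ← map_smul]
  exact congrArg _ (congrArg _ (Subtype.ext (by
    show c • a - algebraMap R A (c * rOf R A C hRC a) =
      algebraMap R A c * (a - algebraMap R A (rOf R A C hRC a))
    rw [map_mul, Algebra.smul_def]; ring)))

theorem Dmap_mul (a b : A) :
    Dmap R A C hRC (a * b) = a • Dmap R A C hRC b + b • Dmap R A C hRC a := by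
  have hab : algebraMap R C (rOf R A C hRC a * rOf R A C hRC b) = algebraMap A C (a * b) := by
    rw [map_mul, map_mul, rOf_spec, rOf_spec]
  rw [Dmap_eq R A C hRC (a * b) _ hab]
  unfold Dmap Dfun
  have hb : b • Ideal.toCotangent _ (yI R A C a (rOf R A C hRC a) (rOf_spec R A C hRC a)) =
      algebraMap R A (rOf R A C hRC b) •
        Ideal.toCotangent _ (yI R A C a (rOf R A C hRC a) (rOf_spec R A C hRC a)) := by
    have h2 := smul_toCotangent_eq_zero A C
      (yI R A C b (rOf R A C hRC b) (rOf_spec R A C hRC b)).2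
      (Ideal.toCotangent _ (yI R A C a (rOf R A C hRC a) (rOf_spec R A C hRC a)))
    have h3 : (b - algebraMap R A (rOf R A C hRC b)) •
        Ideal.toCotangent _ (yI R A C a (rOf R A C hRC a) (rOf_spec R A C hRC a)) = 0 := h2
    rw [sub_smul, sub_eq_zero] at h3
    exact h3
  rw [← Submodule.Quotient.mk_smul, ← Submodule.Quotient.mk_smul, ← Submodule.Quotient.mk_add, hb,
    ← map_smul, ← map_smul, ← map_add]
  exact congrArg _ (congrArg _ (Subtype.ext (by
    show a * b - algebraMap R A (rOf R A C hRC a * rOf R A C hRC b) =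
      a * (b - algebraMap R A (rOf R A C hRC b)) +
        algebraMap R A (rOf R A C hRC b) * (a - algebraMap R A (rOf R A C hRC a))
    rw [map_mul]; ring)))

/-- The derivation `A → (I/I²)/im(J)`. -/
noncomputable def Dder :
    Derivation R A ((RingHom.ker (algebraMap A C)).Cotangent ⧸ imJ R A C hRC) :=
  Derivation.mk'
    { toFun := Dmap R A C hRC
      map_add' := Dmap_add R A C hRC
      map_smul' := Dmap_smul R A C hRC }
    (Dmap_mul R A C hRC)

theorem Dder_apply (a : A) : Dder R A C hRC a = Dmap R A C hRC a := rfl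

theorem Dder_of_mem (x : RingHom.ker (algebraMap A C)) :
    Dder R A C hRC (x : A) = Submodule.Quotient.mk (Ideal.toCotangent _ x) := by
  have h0 : algebraMap R C 0 = algebraMap A C (x : A) := by
    rw [map_zero]; exact (RingHom.mem_ker.mp x.2).symm
  rw [Dder_apply, Dmap_eq R A C hRC (x : A) 0 h0]
  unfold Dfun
  exact congrArg _ (congrArg _ (Subtype.ext (by
    show (x : A) - algebraMap R A 0 = (x : A)
    rw [map_zero, sub_zero])))

include hRC in
set_option maxHeartbeats 1600000 in
theorem exists_of_kerCotangentToTensor_eq_zero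
    (t : (RingHom.ker (algebraMap A C)).Cotangent)
    (ht : KaehlerDifferential.kerCotangentToTensor R A C t = 0) :
    ∃ (r : R) (hr : algebraMap R C r = 0),
      t = Ideal.toCotangent _ ⟨algebraMap R A r, algebraMap_mem_ker R A C hr⟩ := by
  have hAC : Function.Surjective (algebraMap A C) := surjective_of_tower R A C hRC
  have htors : Module.IsTorsionBySet A
      ((RingHom.ker (algebraMap A C)).Cotangent ⧸ imJ R A C hRC)
      (RingHom.ker (algebraMap A C) : Set A) := by
    intro q y
    obtain ⟨t', rfl⟩ := Submodule.Quotient.mk_surjective _ q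
    rw [← Submodule.Quotient.mk_smul, smul_toCotangent_eq_zero A C y.2 t',
      Submodule.Quotient.mk_zero]
  letI mQ : Module (A ⧸ RingHom.ker (algebraMap A C))
      ((RingHom.ker (algebraMap A C)).Cotangent ⧸ imJ R A C hRC) := htors.module
  let ρ : C →+* A ⧸ RingHom.ker (algebraMap A C) :=
    ((algebraMap A C).quotientKerEquivOfSurjective hAC).symm.toRingHom
  letI mC : Module C ((RingHom.ker (algebraMap A C)).Cotangent ⧸ imJ R A C hRC) :=
    Module.compHom _ ρ
  haveI tw : IsScalarTower A C ((RingHom.ker (algebraMap A C)).Cotangent ⧸ imJ R A C hRC) :=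
    IsScalarTower.of_algebraMap_smul (fun a q => by
      show ρ (algebraMap A C a) • q = a • q
      have h1 : ρ (algebraMap A C a) = Ideal.Quotient.mk _ a :=
        RingHom.quotientKerEquivOfSurjective_symm_apply hAC a
      rw [h1]
      exact Module.IsTorsionBySet.mk_smul htors a q)
  let hmap : C ⊗[A] Ω[A⁄R] →ₗ[C]
      ((RingHom.ker (algebraMap A C)).Cotangent ⧸ imJ R A C hRC) :=
    ((Dder R A C hRC).liftKaehlerDifferential).liftBaseChange C
  obtain ⟨x, rfl⟩ := Ideal.toCotangent_surjective _ t
  have h1 : hmap (KaehlerDifferential.kerCotangentToTensor R A C (Ideal.toCotangent _ x)) =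
      Submodule.Quotient.mk (Ideal.toCotangent _ x) := by
    rw [KaehlerDifferential.kerCotangentToTensor_toCotangent]
    show ((Dder R A C hRC).liftKaehlerDifferential).liftBaseChange C
      ((1 : C) ⊗ₜ[A] KaehlerDifferential.D R A (x : A)) = _
    rw [LinearMap.liftBaseChange_tmul, one_smul, Derivation.liftKaehlerDifferential_comp_D,
      Dder_of_mem]
  rw [ht, map_zero] at h1
  have h2 : Ideal.toCotangent _ x ∈ imJ R A C hRC :=
    (Submodule.Quotient.mk_eq_zero _).mp h1.symm
  exact h2

end A2

section A4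

variable (R A C : Type u) [CommRing R] [CommRing A] [CommRing C] [Algebra R A] [Algebra A C]
  [Algebra R C] [IsScalarTower R A C]

set_option maxHeartbeats 1600000 in
theorem mem_sq_of_formallySmooth [Algebra.FormallySmooth R A]
    (hRC : Function.Surjective (algebraMap R C)) (r : R)
    (hr2 : algebraMap R A r ∈ RingHom.ker (algebraMap A C) ^ 2) :
    r ∈ RingHom.ker (algebraMap R C) ^ 2 := by
  have hle : ∀ a ∈ RingHom.ker (algebraMap R C) ^ 2, (Algebra.ofId R C) a = 0 := by
    intro a ha
    have h1 : a ∈ RingHom.ker (algebraMap R C) := Ideal.pow_le_self two_ne_zero ha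
    exact RingHom.mem_ker.mp h1
  let g : (R ⧸ RingHom.ker (algebraMap R C) ^ 2) →ₐ[R] C :=
    Ideal.Quotient.liftₐ (RingHom.ker (algebraMap R C) ^ 2) (Algebra.ofId R C) hle
  have hg_mk : ∀ a : R, g (Ideal.Quotient.mk _ a) = algebraMap R C a := fun a => rfl
  have hg : Function.Surjective g := by
    intro c
    obtain ⟨a, rfl⟩ := hRC c
    exact ⟨Ideal.Quotient.mk _ a, hg_mk a⟩
  have hker : ∀ u ∈ RingHom.ker g.toRingHom, ∃ a ∈ RingHom.ker (algebraMap R C),
      u = Ideal.Quotient.mk _ a := by
    intro u hu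
    obtain ⟨a, rfl⟩ := Ideal.Quotient.mk_surjective u
    exact ⟨a, RingHom.mem_ker.mpr ((hg_mk a).symm.trans (RingHom.mem_ker.mp hu)), rfl⟩
  have hmul : RingHom.ker g.toRingHom * RingHom.ker g.toRingHom ≤ ⊥ := by
    refine Ideal.mul_le.mpr (fun u hu v hv => ?_)
    obtain ⟨a, ha, rfl⟩ := hker u hu
    obtain ⟨b, hb, rfl⟩ := hker v hv
    have hab : a * b ∈ RingHom.ker (algebraMap R C) ^ 2 := by
      rw [pow_two]; exact Ideal.mul_mem_mul ha hb
    rw [Ideal.mem_bot, ← map_mul]
    exact Ideal.Quotient.eq_zero_iff_mem.mpr hab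
  have hsq : RingHom.ker g.toRingHom ^ 2 = ⊥ :=
    eq_bot_iff.mpr ((pow_two (RingHom.ker g.toRingHom)).le.trans hmul)
  let τ : A →ₐ[R] (R ⧸ RingHom.ker (algebraMap R C) ^ 2) :=
    Algebra.FormallySmooth.liftOfSurjective (IsScalarTower.toAlgHom R A C) g hg ⟨2, hsq⟩
  have hτ : ∀ a : A, g (τ a) = algebraMap A C a := fun a =>
    Algebra.FormallySmooth.liftOfSurjective_apply (IsScalarTower.toAlgHom R A C) g hg ⟨2, hsq⟩ a
  have hτI : Ideal.map τ.toRingHom (RingHom.ker (algebraMap A C)) ≤ RingHom.ker g.toRingHom := by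
    rw [Ideal.map_le_iff_le_comap]
    intro y hy
    show g (τ y) = 0
    rw [hτ]
    exact RingHom.mem_ker.mp hy
  have h1 : τ (algebraMap R A r) ∈ Ideal.map τ.toRingHom (RingHom.ker (algebraMap A C) ^ 2) :=
    Ideal.mem_map_of_mem τ.toRingHom hr2
  rw [Ideal.map_pow] at h1
  have h2 : τ (algebraMap R A r) ∈ RingHom.ker g.toRingHom ^ 2 := Ideal.pow_right_mono hτI 2 h1
  rw [hsq, Ideal.mem_bot, AlgHom.commutes] at h2
  exact Ideal.Quotient.eq_zero_iff_mem.mp h2

end A4

end Groth.Agent.Lib.ConormSeqAlgH4
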