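import Mathlib
import Groth.Prelude
import Groth.Agent.Lib.ConormDiff_helper4
import Groth.Agent.Lib.ConormSeqAlg_helper4
import Groth.Agent.Lib.ConeSP_lead
import Groth.Agent.Lib.QCohExact_helper9

/-!
# Sections of conormal sheaves over compatible affine opens; basis criteria (helper4).
APPEND-ONLY once landed.
-/

set_option autoImplicit false
set_option linter.style.haveILetI false

universe u

open CategoryTheory CategoryTheory.Limits AlgebraicGeometry Opposite TopologicalSpace TensorProduct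
open AlgebraicGeometry.Scheme.Modules

namespace Groth.Agent.Lib.ConormSeqH4

open Groth.Agent.Lib.OmegaUniv2H4 Groth.Agent.Lib.OmegaResH4 Groth.Agent.Lib.OmegaRecQCH4
open Groth.Agent.Lib.OmegaCompatH4 Groth.Agent.Lib.OmegaCompat2H4
open Groth.Agent.Lib.OmegaAffH4 Groth.Agent.Lib.OmegaUnivH4 Groth.Agent.Lib.ConormOpenH4
open Groth.Agent.Lib.ConormDiffH4 Groth.Agent.Lib.ConormSeqAlgH4 Groth.Agent.Lib.OmegaSecH4

section Basis

variable {X : Scheme.{u}} {M₁ M₂ M₃ : X.Modules} (P : X.Opens → Prop)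
  (hP : ∀ (O : X.Opens) (x : X), x ∈ O → ∃ W : X.Opens, P W ∧ x ∈ W ∧ W ≤ O)

include hP

theorem hom_eq_zero_of_basis (c : M₁ ⟶ M₂)
    (h : ∀ W, P W → ∀ s : Γ(M₁, W), c.app W s = 0) : c = 0 := by
  refine Scheme.Modules.hom_ext c 0 (fun O => ?_)
  ext s
  show c.app O s = 0
  refine QcqsLoc.eq_zero_of_cover M₂ (c.app O s) (fun x hx => ?_)
  obtain ⟨W, hPW, hxW, hWO⟩ := hP O x hx
  refine ⟨W, hWO, hxW, ?_⟩
  have h1 := QCohCrit.app_naturality c (homOfLE hWO) s
  exact h1.symm.trans (h W hPW _)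

theorem exact_of_basis (f : M₁ ⟶ M₂) (g : M₂ ⟶ M₃) (w : f ≫ g = 0)
    (h : ∀ W, P W → ∀ m : Γ(M₂, W), g.app W m = 0 → ∃ n : Γ(M₁, W), f.app W n = m) :
    (ShortComplex.mk f g w).Exact := by
  rw [ShortComplex.exact_iff_epi_kernel_lift]
  show Epi (kernel.lift g f w)
  refine epi_of_surjective_basis (kernel.lift g f w) P hP (fun W hW t => ?_)
  have h1 : g.app W ((kernel.ι g).app W t) = 0 := TensH8.kernel_section_mem g t
  obtain ⟨n, hn⟩ := h W hW _ h1
  refine ⟨n, QCohExact.app_injective_of_mono (kernel.ι g) W ?_⟩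
  have h2 : (kernel.ι g).app W ((kernel.lift g f w).app W n) = f.app W n :=
    Groth.Agent.Lib.ConeSP.app_congr (kernel.lift_ι g f w) W n
  exact h2.trans hn

end Basis

section Res

variable {X Y : Scheme.{u}} (f : X ⟶ Y)

theorem map_homOfLE_rfl (M : X.Modules) (U : X.Opens) (y : Γ(M, U)) :
    M.presheaf.map (homOfLE (le_refl U)).op y = y := by
  have h0 : (homOfLE (le_refl U)).op = 𝟙 (op U) := rfl
  rw [h0, CategoryTheory.Functor.map_id]
  rfl

theorem cUV_src_res (F : Y.Modules) {U : X.Opens} {V V' : Y.Opens} (hV : V' ≤ V)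
    (h' : U ≤ f ⁻¹ᵁ V') (x : Γ(F, V)) :
    PBH8.cUV f F h' (F.presheaf.map (homOfLE hV).op x) =
      PBH8.cUV f F (h'.trans (f.preimage_mono hV)) x := by
  unfold PBH8.cUV
  have h1 := QCohCrit.app_naturality ((pullbackPushforwardAdjunction f).unit.app F)
    (homOfLE hV) x
  refine (congrArg (fun z => ((Scheme.Modules.pullback f).obj F).presheaf.map
    (homOfLE h').op z) h1).trans ?_
  exact (congrArg (fun ψ => ψ (((pullbackPushforwardAdjunction f).unit.app F).app V x))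
    (((Scheme.Modules.pullback f).obj F).presheaf.map_comp
      (homOfLE (f.preimage_mono hV)).op (homOfLE h').op)).symm

theorem cUV_zero (F : Y.Modules) {U : X.Opens} {V : Y.Opens} (h : U ≤ f ⁻¹ᵁ V) :
    PBH8.cUV f F h 0 = 0 := by
  have h1 := PBH8.cUV_add f F h 0 0
  rw [add_zero] at h1
  exact left_eq_add.mp h1

theorem cUV_sub (F : Y.Modules) {U : X.Opens} {V : Y.Opens} (h : U ≤ f ⁻¹ᵁ V) (x y : Γ(F, V)) :
    PBH8.cUV f F h (x - y) = PBH8.cUV f F h x - PBH8.cUV f F h y := by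
  have h1 := PBH8.cUV_add f F h (x - y) y
  rw [sub_add_cancel] at h1
  exact eq_sub_of_add_eq h1.symm

theorem isAffineOpen_inf_preimage {W₀ : X.Opens} {V₀ V : Y.Opens} (hW₀ : IsAffineOpen W₀)
    (hV₀ : IsAffineOpen V₀) (hV : IsAffineOpen V) (e : W₀ ≤ f ⁻¹ᵁ V₀) (hVV₀ : V ≤ V₀) :
    IsAffineOpen (W₀ ⊓ f ⁻¹ᵁ V) := by
  haveI : IsAffine (V₀ : Scheme.{u}) := hV₀
  haveI : IsAffine (W₀ : Scheme.{u}) := hW₀
  haveI : IsAffine (V : Scheme.{u}) := hV
  have H : IsPullback (𝟙 X) f f (𝟙 Y) := IsPullback.of_id_fst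
  exact IsAffine.of_isIso (Scheme.Hom.isPullback_resLE H (US := V₀) (UT := V) (UX := W₀)
    (UY := W₀ ⊓ f ⁻¹ᵁ V) hVV₀ e rfl).isoPullback.hom

end Res

section Ideal

variable {X : Scheme.{u}}

theorem idealSect_res (I : X.IdealSheafData) {O W : X.Opens} (h : W ≤ O)
    (n : Γ(ClSub.idealMod I, O)) :
    OmegaSh.idealSect I W ((ClSub.idealMod I).presheaf.map (homOfLE h).op n) =
      (X.presheaf.map (homOfLE h).op).hom (OmegaSh.idealSect I O n) :=
  QCohCrit.app_naturality (ClSub.idealModι I) (homOfLE h) n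

theorem exists_ideal_section (I : X.IdealSheafData) (O : X.Opens) (a : Γ(X, O))
    (ha : ∀ (W : X.Opens) (hW : IsAffineOpen W) (hWO : W ≤ O),
      (X.presheaf.map (homOfLE hWO).op).hom a ∈ I.ideal ⟨W, hW⟩) :
    ∃ t : Γ(ClSub.idealMod I, O), OmegaSh.idealSect I O t = a := by
  have key : QCohExtn.ap (ClSub.toSubscheme I) O (SerreCrit.ofFn a) = 0 := by
    refine QcqsLoc.eq_zero_of_cover _ _ (fun x hx => ?_)
    obtain ⟨W, hW, hxW, hWO⟩ := (Opens.isBasis_iff_nbhd.mp X.isBasis_affineOpens) hx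
    refine ⟨W, hWO, hxW, ?_⟩
    rw [← QCohExtn.ap_rF]
    obtain ⟨t, ht⟩ := TensH8.exists_idealMod_section I hW _ (ha W hW hWO)
    have h1 := TensH8.kernel_section_mem (ClSub.toSubscheme I) t
    have h2 : QCohExtn.ap (kernel.ι (ClSub.toSubscheme I)) W t =
        QcqsLoc.rF (Coh.structureModule X) hWO (SerreCrit.ofFn a) := ht
    rw [h2] at h1
    exact h1
  obtain ⟨t, ht⟩ := TensH8.exists_kernel_section (ClSub.toSubscheme I) (SerreCrit.ofFn a) key
  exact ⟨t, ht⟩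

end Ideal

end Groth.Agent.Lib.ConormSeqH4
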