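import Mathlib
import Groth.Prelude
import Groth.Agent.Lib.ConormSeq1_helper4

/-!
# The conormal sequence `C_{Z/Y} → C_{Z/X} → i^*Ω_{X/Y} → 0` (helper4).
APPEND-ONLY once landed.
-/

set_option autoImplicit false
set_option linter.style.haveILetI false

universe u

open CategoryTheory CategoryTheory.Limits AlgebraicGeometry Opposite TopologicalSpace TensorProduct
open AlgebraicGeometry.Scheme.Modules

namespace Groth.Agent.Lib.ConormSeqH4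

open Groth.Agent.Lib.OmegaUniv2H4 Groth.Agent.Lib.OmegaResH4 Groth.Agent.Lib.OmegaRecQCH4
open Groth.Agent.Lib.OmegaCompatH4 Groth.Agent.Lib.OmegaCompat2H4
open Groth.Agent.Lib.OmegaAffH4 Groth.Agent.Lib.OmegaUnivH4 Groth.Agent.Lib.ConormOpenH4
open Groth.Agent.Lib.ConormDiffH4 Groth.Agent.Lib.ConormSeqAlgH4 Groth.Agent.Lib.OmegaSecH4

section One

variable {X' X Y : Scheme.{u}} (j : X' ⟶ X)

set_option maxHeartbeats 3200000 in
theorem conormalSections_le [QuasiCompact j] {W : X.Opens} {U : X'.Opens} (hW : IsAffineOpen W)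
    (hU : IsAffineOpen U) (e : U ≤ j ⁻¹ᵁ W) (e' : j ⁻¹ᵁ W ≤ U)
    (hsurj : Function.Surjective (j.appLE W U e).hom) :
    letI aAC : Algebra Γ(X, W) Γ(X', U) := (j.appLE W U e).hom.toAlgebra
    letI mA : Module Γ(X, W) Γ(CN j, U) := Module.compHom _ (j.appLE W U e).hom
    ∃ Θ : Γ(CN j, U) ≃ₗ[Γ(X, W)] (RingHom.ker (algebraMap Γ(X, W) Γ(X', U))).Cotangent,
      (∀ (n : Γ(ClSub.idealMod j.ker, W))
        (hn : OmegaSh.idealSect j.ker W n ∈ RingHom.ker (algebraMap Γ(X, W) Γ(X', U))),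
        Θ (PBH8.cUV j (ClSub.idealMod j.ker) e n) =
          Ideal.toCotangent _ ⟨OmegaSh.idealSect j.ker W n, hn⟩) ∧
      (∀ n : Γ(ClSub.idealMod j.ker, W), OmegaSh.idealSect j.ker W n ∈
          RingHom.ker (algebraMap Γ(X, W) Γ(X', U))) ∧
      (∀ a : Γ(X, W), a ∈ RingHom.ker (algebraMap Γ(X, W) Γ(X', U)) →
        ∃ n : Γ(ClSub.idealMod j.ker, W), OmegaSh.idealSect j.ker W n = a) := by
  letI aAC : Algebra Γ(X, W) Γ(X', U) := (j.appLE W U e).hom.toAlgebra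
  letI mA : Module Γ(X, W) Γ(CN j, U) := Module.compHom _ (j.appLE W U e).hom
  haveI tow : IsScalarTower Γ(X, W) Γ(X', U) Γ(CN j, U) :=
    IsScalarTower.of_algebraMap_smul fun _ _ => rfl
  haveI qcI : (ClSub.idealMod j.ker).IsQuasicoherent := isQuasicoherent_idealMod _
  have hbcI : IsBaseChange Γ(X', U) (PBH8.cUVLin j (ClSub.idealMod j.ker) e) :=
    PBH8.isBaseChange_cUV j (ClSub.idealMod j.ker) e hU hW
  have hk : j.ker.ideal ⟨W, hW⟩ = RingHom.ker (algebraMap Γ(X, W) Γ(X', U)) := by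
    ext a
    rw [Scheme.Hom.ker_apply, RingHom.mem_ker, RingHom.mem_ker]
    have hf : algebraMap Γ(X, W) Γ(X', U) a =
        (X'.presheaf.map (homOfLE e).op).hom ((j.app W).hom a) := rfl
    rw [hf]
    constructor
    · intro h
      rw [h, map_zero]
    · intro h
      exact res_injective_of_eq X' e e' (h.trans (map_zero _).symm)
  let j' : Γ(ClSub.idealMod j.ker, W) ≃ₗ[Γ(X, W)]
      RingHom.ker (algebraMap Γ(X, W) Γ(X', U)) :=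
    (idealModEquiv j.ker hW).trans (LinearEquiv.ofEq _ _ hk)
  have hj'val : ∀ n, ((j' n : RingHom.ker (algebraMap Γ(X, W) Γ(X', U))) : Γ(X, W)) =
      OmegaSh.idealSect j.ker W n := fun n => rfl
  obtain ⟨Θ, hΘ⟩ := cotangent_of_isBaseChange' hsurj
    (RingHom.ker (algebraMap Γ(X, W) Γ(X', U))) (fun b => RingHom.mem_ker) j'
    (PBH8.cUVLin j (ClSub.idealMod j.ker) e) hbcI
  refine ⟨Θ, ?_, ?_, ?_⟩
  · intro n hn
    exact (hΘ n).trans (congrArg _ (Subtype.ext (hj'val n)))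
  · intro n
    have h1 := (j' n).2
    rw [hj'val n] at h1
    exact h1
  · intro a ha
    exact ⟨j'.symm ⟨a, ha⟩, (hj'val _).symm.trans
      (congrArg Subtype.val (j'.apply_symm_apply ⟨a, ha⟩))⟩

theorem phi_cUV (f : X ⟶ Y) {Ω' : X.Modules} (d : OmegaSh.Der f Ω')
    (φ : Omega.conormal j ⟶ (Scheme.Modules.pullback j).obj Ω')
    (hφ : OmegaSh.IsConormalDiff j d φ) {O : X.Opens} {U : X'.Opens} (h : U ≤ j ⁻¹ᵁ O)
    (n : Γ(ClSub.idealMod j.ker, O)) :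
    φ.app U (PBH8.cUV j (ClSub.idealMod j.ker) h n) =
      PBH8.cUV j Ω' h (d.app O (OmegaSh.idealSect j.ker O n)) := by
  unfold PBH8.cUV
  have h1 := QCohCrit.app_naturality φ (homOfLE h)
    (OmegaSh.pullSect j (ClSub.idealMod j.ker) O n)
  have h2 := hφ O n
  exact h1.trans (congrArg (fun z => ((Scheme.Modules.pullback j).obj Ω').presheaf.map
    (homOfLE h).op z) h2)

set_option maxHeartbeats 3200000 in
theorem conormalDiff_sections_le [IsImmersion j] [QuasiCompact j] (f : X ⟶ Y)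
    (Ω' : X.Modules) (d : OmegaSh.Der f Ω') (hd : OmegaSh.IsUniversal d)
    (φ : Omega.conormal j ⟶ (Scheme.Modules.pullback j).obj Ω')
    (hφ : OmegaSh.IsConormalDiff j d φ)
    {W : X.Opens} {U : X'.Opens} {V : Y.Opens} (hW : IsAffineOpen W) (hU : IsAffineOpen U)
    (e : U ≤ j ⁻¹ᵁ W) (e' : j ⁻¹ᵁ W ≤ U)
    (hsurj : Function.Surjective (j.appLE W U e).hom) (hV : IsAffineOpen V) (hWV : W ≤ f ⁻¹ᵁ V) :
    letI aRA : Algebra Γ(Y, V) Γ(X, W) := (f.appLE V W hWV).hom.toAlgebra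
    letI aAC : Algebra Γ(X, W) Γ(X', U) := (j.appLE W U e).hom.toAlgebra
    letI mA : Module Γ(X, W) Γ(CN j, U) := Module.compHom _ (j.appLE W U e).hom
    ∃ (L : Γ(Ω', W) ≃ₗ[Γ(X, W)] Ω[Γ(X, W)⁄Γ(Y, V)])
      (Θ : Γ(CN j, U) ≃ₗ[Γ(X, W)] (RingHom.ker (algebraMap Γ(X, W) Γ(X', U))).Cotangent)
      (E : (Γ(X', U) ⊗[Γ(X, W)] Ω[Γ(X, W)⁄Γ(Y, V)]) ≃ₗ[Γ(X', U)]
        Γ((Scheme.Modules.pullback j).obj Ω', U)),
      (∀ b, L (d.app W b) = KaehlerDifferential.D Γ(Y, V) Γ(X, W) b) ∧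
      (∀ (c : Γ(X', U)) (x : Γ(Ω', W)),
        E (c ⊗ₜ[Γ(X, W)] L x) = c • PBH8.cUV j Ω' e x) ∧
      (∀ (n : Γ(ClSub.idealMod j.ker, W))
        (hn : OmegaSh.idealSect j.ker W n ∈ RingHom.ker (algebraMap Γ(X, W) Γ(X', U))),
        Θ (PBH8.cUV j (ClSub.idealMod j.ker) e n) =
          Ideal.toCotangent _ ⟨OmegaSh.idealSect j.ker W n, hn⟩) ∧
      (∀ n : Γ(ClSub.idealMod j.ker, W), OmegaSh.idealSect j.ker W n ∈
          RingHom.ker (algebraMap Γ(X, W) Γ(X', U))) ∧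
      (∀ a : Γ(X, W), a ∈ RingHom.ker (algebraMap Γ(X, W) Γ(X', U)) →
        ∃ n : Γ(ClSub.idealMod j.ker, W), OmegaSh.idealSect j.ker W n = a) ∧
      ∀ m : Γ(CN j, U), φ.app U m =
        E (KaehlerDifferential.kerCotangentToTensor Γ(Y, V) Γ(X, W) Γ(X', U) (Θ m)) := by
  letI aRA : Algebra Γ(Y, V) Γ(X, W) := (f.appLE V W hWV).hom.toAlgebra
  letI aAC : Algebra Γ(X, W) Γ(X', U) := (j.appLE W U e).hom.toAlgebra
  letI mA : Module Γ(X, W) Γ(CN j, U) := Module.compHom _ (j.appLE W U e).hom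
  haveI qcΩ : Ω'.IsQuasicoherent := isQuasicoherent f d hd
  obtain ⟨Θ, hΘ, hmem, hex⟩ := conormalSections_le j hW hU e e' hsurj
  obtain ⟨L, hL⟩ := receptacleSections f d hd hW hV hWV
  letI mΩ : Module Γ(X, W) Γ((Scheme.Modules.pullback j).obj Ω', U) :=
    Module.compHom _ (j.appLE W U e).hom
  haveI tΩ : IsScalarTower Γ(X, W) Γ(X', U) Γ((Scheme.Modules.pullback j).obj Ω', U) :=
    IsScalarTower.of_algebraMap_smul fun _ _ => rfl
  have hbcΩ : IsBaseChange Γ(X', U) (PBH8.cUVLin j Ω' e) :=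
    PBH8.isBaseChange_cUV j Ω' e hU hW
  let E : (Γ(X', U) ⊗[Γ(X, W)] Ω[Γ(X, W)⁄Γ(Y, V)]) ≃ₗ[Γ(X', U)]
      Γ((Scheme.Modules.pullback j).obj Ω', U) :=
    (L.symm.baseChange Γ(X, W) Γ(X', U) _ _).trans hbcΩ.equiv
  have hE : ∀ (c : Γ(X', U)) (y : Ω[Γ(X, W)⁄Γ(Y, V)]),
      E (c ⊗ₜ y) = c • PBH8.cUVLin j Ω' e (L.symm y) := by
    intro c y
    show hbcΩ.equiv ((L.symm.baseChange Γ(X, W) Γ(X', U) _ _) (c ⊗ₜ y)) = _
    rw [LinearEquiv.baseChange_tmul, IsBaseChange.equiv_tmul]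
  refine ⟨L, Θ, E, hL, ?_, hΘ, hmem, hex, ?_⟩
  · intro c x
    rw [hE, LinearEquiv.symm_apply_apply]
    rfl
  · intro m
    obtain ⟨x, hx⟩ := Ideal.toCotangent_surjective _ (Θ m)
    obtain ⟨n, hn⟩ := hex x.1 x.2
    have hn1 : Θ (PBH8.cUV j (ClSub.idealMod j.ker) e n) = Θ m :=
      ((hΘ n (hmem n)).trans (congrArg _ (Subtype.ext hn))).trans hx
    have hm : m = PBH8.cUV j (ClSub.idealMod j.ker) e n := (Θ.injective hn1).symm
    have h1 : φ.app U (PBH8.cUV j (ClSub.idealMod j.ker) e n) =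
        PBH8.cUV j Ω' e (d.app W (OmegaSh.idealSect j.ker W n)) := phi_cUV j f d φ hφ e n
    have h2 : L.symm (KaehlerDifferential.D Γ(Y, V) Γ(X, W) (x : Γ(X, W))) =
        d.app W (OmegaSh.idealSect j.ker W n) := by
      rw [LinearEquiv.symm_apply_eq, hL, hn]
    have h3 : E (KaehlerDifferential.kerCotangentToTensor Γ(Y, V) Γ(X, W) Γ(X', U) (Θ m)) =
        PBH8.cUV j Ω' e (d.app W (OmegaSh.idealSect j.ker W n)) := by
      rw [← hx, KaehlerDifferential.kerCotangentToTensor_toCotangent, hE, one_smul, h2]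
      rfl
    rw [h3, hm]
    exact h1

end One

section Id

theorem pullSect_id_bijective {Z : Scheme.{u}} (F : Z.Modules) (U : Z.Opens) :
    Function.Bijective (OmegaSh.pullSect (𝟙 Z) F U) := by
  haveI : (Scheme.Modules.pullback (𝟙 Z)).Full :=
    Functor.Full.of_iso (Scheme.Modules.pullbackId Z).symm
  haveI : (Scheme.Modules.pullback (𝟙 Z)).Faithful :=
    Functor.Faithful.of_iso (Scheme.Modules.pullbackId Z).symm
  haveI hiso : IsIso ((Scheme.Modules.pullbackPushforwardAdjunction (𝟙 Z)).unit.app F) :=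
    inferInstance
  have h1 : ∀ x : Γ(F, U),
      (inv ((Scheme.Modules.pullbackPushforwardAdjunction (𝟙 Z)).unit.app F)).app U
        (((Scheme.Modules.pullbackPushforwardAdjunction (𝟙 Z)).unit.app F).app U x) = x :=
    fun x => (Groth.Agent.Lib.ConeSP.app_congr
      (IsIso.hom_inv_id ((Scheme.Modules.pullbackPushforwardAdjunction (𝟙 Z)).unit.app F)) U x).trans
      (Groth.Agent.Lib.ConeSP.app_id_apply U x)
  have h2 : ∀ y, ((Scheme.Modules.pullbackPushforwardAdjunction (𝟙 Z)).unit.app F).app U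
      ((inv ((Scheme.Modules.pullbackPushforwardAdjunction (𝟙 Z)).unit.app F)).app U y) = y :=
    fun y => (Groth.Agent.Lib.ConeSP.app_congr
      (IsIso.inv_hom_id ((Scheme.Modules.pullbackPushforwardAdjunction (𝟙 Z)).unit.app F)) U y).trans
      (Groth.Agent.Lib.ConeSP.app_id_apply U y)
  exact ⟨Function.LeftInverse.injective h1, Function.RightInverse.surjective h2⟩

end Id

section Seq

variable {Z X Y : Scheme.{u}} (p : X ⟶ Y) (i : Z ⟶ X) (j : Z ⟶ Y)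

theorem exists_ideal_section_comp [QuasiCompact i] (hij : i ≫ p = j) {V : Y.Opens}
    (x' : Γ(Y, V)) (hx' : (j.app V).hom x' = 0) :
    ∃ t : Γ(ClSub.idealMod i.ker, p ⁻¹ᵁ V),
      OmegaSh.idealSect i.ker (p ⁻¹ᵁ V) t = (p.app V).hom x' := by
  refine exists_ideal_section i.ker (p ⁻¹ᵁ V) _ (fun W' hW' hW'le => ?_)
  rw [Scheme.Hom.ker_apply, RingHom.mem_ker]
  have hle : i ⁻¹ᵁ W' ≤ j ⁻¹ᵁ V := fun z hz => by
    have h1 : p (i z) ∈ V := hW'le hz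
    have h2 : p (i z) = j z := congrArg (fun k : Z ⟶ Y => k z) hij
    have h3 : j z ∈ V := by rw [← h2]; exact h1
    exact h3
  have a1 := Scheme.Hom.appLE_comp_appLE i p V W' (i ⁻¹ᵁ W') hW'le le_rfl
  have a2 : (i ≫ p).appLE V (i ⁻¹ᵁ W') (fun z hz => hW'le hz) = j.appLE V (i ⁻¹ᵁ W') hle :=
    OmegaSh.appLE_congr_hom hij _ _
  have a3 : i.appLE W' (i ⁻¹ᵁ W') le_rfl = i.app W' := (Scheme.Hom.app_eq_appLE i).symm
  have c1 : p.appLE V W' hW'le ≫ i.app W' = j.appLE V (i ⁻¹ᵁ W') hle := by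
    rw [← a3]
    exact a1.trans a2
  have c2 := congrArg (fun k => k.hom x') c1
  refine c2.trans ?_
  show (Z.presheaf.map (homOfLE hle).op).hom ((j.app V).hom x') = 0
  rw [hx', map_zero]

theorem psi_formula
    (ψ : (Scheme.Modules.pullback (𝟙 Z)).obj (Omega.conormal j) ⟶ Omega.conormal i)
    (hψ : OmegaSh.IsConormalMap i j p (𝟙 Z) ψ) {V : Y.Opens}
    (n' : Γ(ClSub.idealMod j.ker, V)) (ñ : Γ(ClSub.idealMod i.ker, p ⁻¹ᵁ V))
    (hc : OmegaSh.idealSect i.ker (p ⁻¹ᵁ V) ñ = (p.app V).hom (OmegaSh.idealSect j.ker V n'))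
    (h₂ : j ⁻¹ᵁ V ≤ i ⁻¹ᵁ (p ⁻¹ᵁ V)) :
    ψ.app (j ⁻¹ᵁ V) (OmegaSh.pullSect (𝟙 Z) (Omega.conormal j) (j ⁻¹ᵁ V)
      (OmegaSh.conormalSect j V n')) = PBH8.cUV i (ClSub.idealMod i.ker) h₂ ñ := by
  have h := hψ.2 V n' ñ hc (j ⁻¹ᵁ V) (le_refl _) h₂
  exact (map_homOfLE_rfl (Omega.conormal i) _ _).symm.trans h

/-- Opens of `Z` which are preimages of compatible affine opens of `X` and `Y`. -/
def GoodPair (U : Z.Opens) : Prop :=
  ∃ (W : X.Opens) (V : Y.Opens), IsAffineOpen W ∧ IsAffineOpen V ∧ W ≤ p ⁻¹ᵁ V ∧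
    U = j ⁻¹ᵁ V ∧ IsAffineOpen (j ⁻¹ᵁ V) ∧ Function.Surjective (j.app V).hom ∧
    ∃ (e : j ⁻¹ᵁ V ≤ i ⁻¹ᵁ W), i ⁻¹ᵁ W ≤ j ⁻¹ᵁ V ∧
      Function.Surjective (i.appLE W (j ⁻¹ᵁ V) e).hom

theorem exists_goodPair [IsImmersion i] [IsImmersion j] (hij : i ≫ p = j) (O' : Z.Opens) (z : Z)
    (hz : z ∈ O') : ∃ U : Z.Opens, GoodPair p i j U ∧ z ∈ U ∧ U ≤ O' := by
  have hpt : ∀ z' : Z, p (i z') = j z' := fun z' => congrArg (fun k : Z ⟶ Y => k z') hij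
  obtain ⟨OY, hOY, hOYeq⟩ := j.isEmbedding.isInducing.isOpen_iff.mp O'.isOpen
  have hzOY : j z ∈ OY := by
    have : z ∈ j ⁻¹' OY := by rw [hOYeq]; exact hz
    exact this
  obtain ⟨V₀, hV₀, hjV₀, hV₀O, -, -⟩ := exists_good_affine j z (⟨OY, hOY⟩ : Y.Opens) hzOY
  have hiz : i z ∈ p ⁻¹ᵁ V₀ := by
    show p (i z) ∈ V₀
    rw [hpt]; exact hjV₀
  obtain ⟨W₀, hW₀, hiW₀, hW₀le, -, -⟩ := exists_good_affine i z (p ⁻¹ᵁ V₀) hiz
  obtain ⟨O2, hO2, hO2eq⟩ := j.isEmbedding.isInducing.isOpen_iff.mp (i ⁻¹ᵁ W₀).isOpen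
  have hzO2 : j z ∈ O2 := by
    have : z ∈ j ⁻¹' O2 := by rw [hO2eq]; exact hiW₀
    exact this
  obtain ⟨V, hV, hjV, hVle, hUV, hsurjV⟩ :=
    exists_good_affine j z ((⟨O2, hO2⟩ : Y.Opens) ⊓ V₀) ⟨hzO2, hjV₀⟩
  have hVV₀ : V ≤ V₀ := hVle.trans inf_le_right
  have hWaff : IsAffineOpen (W₀ ⊓ p ⁻¹ᵁ V) :=
    isAffineOpen_inf_preimage p hW₀ hV₀ hV hW₀le hVV₀
  have e : j ⁻¹ᵁ V ≤ i ⁻¹ᵁ (W₀ ⊓ p ⁻¹ᵁ V) := by
    intro z' hz'
    have h2 : z' ∈ j ⁻¹' O2 := (hVle hz').1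
    rw [hO2eq] at h2
    refine ⟨h2, ?_⟩
    show p (i z') ∈ V
    rw [hpt]; exact hz'
  have e' : i ⁻¹ᵁ (W₀ ⊓ p ⁻¹ᵁ V) ≤ j ⁻¹ᵁ V := by
    intro z' hz'
    have h1 : p (i z') ∈ V := hz'.2
    rw [hpt] at h1
    exact h1
  have hsW : Function.Surjective (i.appLE (W₀ ⊓ p ⁻¹ᵁ V) (j ⁻¹ᵁ V) e).hom := by
    intro c
    obtain ⟨b, hb⟩ := hsurjV c
    refine ⟨(p.appLE V (W₀ ⊓ p ⁻¹ᵁ V) inf_le_right).hom b, ?_⟩
    have c1 := Scheme.Hom.appLE_comp_appLE i p V (W₀ ⊓ p ⁻¹ᵁ V) (j ⁻¹ᵁ V) inf_le_right e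
    have c2 : (i ≫ p).appLE V (j ⁻¹ᵁ V) (fun z' hz' => (e hz').2) =
        j.appLE V (j ⁻¹ᵁ V) le_rfl := OmegaSh.appLE_congr_hom hij _ _
    have c3 : j.appLE V (j ⁻¹ᵁ V) le_rfl = j.app V := (Scheme.Hom.app_eq_appLE j).symm
    exact (congrArg (fun k => k.hom b) (c1.trans (c2.trans c3))).trans hb
  refine ⟨j ⁻¹ᵁ V, ⟨W₀ ⊓ p ⁻¹ᵁ V, V, hWaff, hV, inf_le_right, rfl, hUV, hsurjV, e, e', hsW⟩,
    hjV, ?_⟩
  intro z' hz'
  have h1 : z' ∈ j ⁻¹' OY := hV₀O (hVV₀ hz')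
  rw [hOYeq] at h1
  exact h1

end Seq

end Groth.Agent.Lib.ConormSeqH4
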