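import Mathlib
import Groth.Prelude
import Groth.Agent.Lib.ConormSeq2_helper4

/-!
# The conormal sequence `C_{Z/Y} → C_{Z/X} → i^*Ω_{X/Y} → 0`: main theorems (helper4).
APPEND-ONLY once landed.
-/

set_option autoImplicit false
set_option linter.style.haveILetI false

universe u

open CategoryTheory CategoryTheory.Limits AlgebraicGeometry Opposite TopologicalSpace TensorProduct
open AlgebraicGeometry.Scheme.Modules

namespace Groth.Agent.Lib.ConormSeqH4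

open Groth.Agent.Lib.OmegaUniv2H4 Groth.Agent.Lib.OmegaResH4 Groth.Agent.Lib.OmegaRecQCH4
open Groth.Agent.Lib.OmegaCompatH4 Groth.Agent.Lib.OmegaCompat2H4
open Groth.Agent.Lib.OmegaAffH4 Groth.Agent.Lib.OmegaUnivH4 Groth.Agent.Lib.ConormOpenH4
open Groth.Agent.Lib.ConormDiffH4 Groth.Agent.Lib.ConormSeqAlgH4 Groth.Agent.Lib.OmegaSecH4

section Seq

variable {Z X Y : Scheme.{u}} (p : X ⟶ Y) (i : Z ⟶ X) (j : Z ⟶ Y)

set_option maxHeartbeats 6400000 in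
theorem seq_sections [IsImmersion i] [IsImmersion j] [QuasiCompact i] [QuasiCompact j]
    (hij : i ≫ p = j)
    (Ω : X.Modules) (d : OmegaSh.Der p Ω) (hd : OmegaSh.IsUniversal d)
    (ψ : (Scheme.Modules.pullback (𝟙 Z)).obj (Omega.conormal j) ⟶ Omega.conormal i)
    (hψ : OmegaSh.IsConormalMap i j p (𝟙 Z) ψ)
    (φ : Omega.conormal i ⟶ (Scheme.Modules.pullback i).obj Ω)
    (hφ : OmegaSh.IsConormalDiff i d φ)
    {W : X.Opens} {V : Y.Opens} (hW : IsAffineOpen W) (hV : IsAffineOpen V)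
    (hWV : W ≤ p ⁻¹ᵁ V) (hU : IsAffineOpen (j ⁻¹ᵁ V))
    (hsurjV : Function.Surjective (j.app V).hom)
    (e : j ⁻¹ᵁ V ≤ i ⁻¹ᵁ W) (e' : i ⁻¹ᵁ W ≤ j ⁻¹ᵁ V)
    (hsurjW : Function.Surjective (i.appLE W (j ⁻¹ᵁ V) e).hom) :
    (∀ s, φ.app (j ⁻¹ᵁ V) (ψ.app (j ⁻¹ᵁ V) s) = 0) ∧
    (∀ m, φ.app (j ⁻¹ᵁ V) m = 0 → ∃ s, ψ.app (j ⁻¹ᵁ V) s = m) ∧
    Function.Surjective (φ.app (j ⁻¹ᵁ V)) ∧
    ((p.appLE V W hWV).hom.FormallySmooth → ∀ s, ψ.app (j ⁻¹ᵁ V) s = 0 → s = 0) := by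
  letI aRA : Algebra Γ(Y, V) Γ(X, W) := (p.appLE V W hWV).hom.toAlgebra
  letI aAC : Algebra Γ(X, W) Γ(Z, j ⁻¹ᵁ V) := (i.appLE W (j ⁻¹ᵁ V) e).hom.toAlgebra
  letI aRC : Algebra Γ(Y, V) Γ(Z, j ⁻¹ᵁ V) := (j.appLE V (j ⁻¹ᵁ V) (le_refl _)).hom.toAlgebra
  letI mAi : Module Γ(X, W) Γ(CN i, j ⁻¹ᵁ V) :=
    Module.compHom _ (i.appLE W (j ⁻¹ᵁ V) e).hom
  letI mRj : Module Γ(Y, V) Γ(CN j, j ⁻¹ᵁ V) :=
    Module.compHom _ (j.appLE V (j ⁻¹ᵁ V) (le_refl _)).hom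
  have comm : ∀ r : Γ(Y, V), (j.appLE V (j ⁻¹ᵁ V) (le_refl _)).hom r =
      (i.appLE W (j ⁻¹ᵁ V) e).hom ((p.appLE V W hWV).hom r) := by
    intro r
    have c1 := Scheme.Hom.appLE_comp_appLE i p V W (j ⁻¹ᵁ V) hWV e
    have c3 : p.appLE V W hWV ≫ i.appLE W (j ⁻¹ᵁ V) e = j.appLE V (j ⁻¹ᵁ V) (le_refl _) :=
      c1.trans (OmegaSh.appLE_congr_hom hij _ _)
    exact (congrArg (fun k => k.hom r) c3).symm
  haveI tRAC : IsScalarTower Γ(Y, V) Γ(X, W) Γ(Z, j ⁻¹ᵁ V) :=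
    IsScalarTower.of_algebraMap_eq (fun r => comm r)
  have happj : j.appLE V (j ⁻¹ᵁ V) (le_refl _) = j.app V := (Scheme.Hom.app_eq_appLE j).symm
  have hsurjV' : Function.Surjective (j.appLE V (j ⁻¹ᵁ V) (le_refl _)).hom := by
    intro c
    obtain ⟨b, hb⟩ := hsurjV c
    exact ⟨b, (congrArg (fun k => k.hom b) happj).trans hb⟩
  have hRC : Function.Surjective (algebraMap Γ(Y, V) Γ(Z, j ⁻¹ᵁ V)) := hsurjV'
  have hAC : Function.Surjective (algebraMap Γ(X, W) Γ(Z, j ⁻¹ᵁ V)) := hsurjW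
  obtain ⟨L, Θi, E, hL, hE, hΘi, hmemi, hexi, hform⟩ :=
    conormalDiff_sections_le i p Ω d hd φ hφ hW hU e e' hsurjW hV hWV
  obtain ⟨Θj, hΘj, hmemj, hexj⟩ :=
    conormalSections_le j hV hU (le_refl _) (le_refl _) hsurjV'
  have h₂ : j ⁻¹ᵁ V ≤ i ⁻¹ᵁ (p ⁻¹ᵁ V) := e.trans (i.preimage_mono hWV)
  -- every section of the source of `ψ` comes from a section of the ideal of `j`
  have hrep : ∀ s : Γ((Scheme.Modules.pullback (𝟙 Z)).obj (Omega.conormal j), j ⁻¹ᵁ V),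
      ∃ n' : Γ(ClSub.idealMod j.ker, V),
        s = OmegaSh.pullSect (𝟙 Z) (Omega.conormal j) (j ⁻¹ᵁ V)
          (OmegaSh.conormalSect j V n') := by
    intro s
    obtain ⟨y, rfl⟩ := (pullSect_id_bijective (Omega.conormal j) (j ⁻¹ᵁ V)).2 s
    obtain ⟨x, hx⟩ := Ideal.toCotangent_surjective _ (Θj y)
    obtain ⟨n', hn'⟩ := hexj x.1 x.2
    refine ⟨n', congrArg _ ?_⟩
    have h1 : Θj (PBH8.cUV j (ClSub.idealMod j.ker) (le_refl _) n') = Θj y :=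
      ((hΘj n' (hmemj n')).trans (congrArg _ (Subtype.ext hn'))).trans hx
    have h2 := Θj.injective h1
    exact h2.symm.trans (cUV_rfl j _ V n')
  -- the key computation of `ψ` on such sections
  have hkey : ∀ n' : Γ(ClSub.idealMod j.ker, V),
      ∃ (ñ : Γ(ClSub.idealMod i.ker, p ⁻¹ᵁ V))
        (hm : algebraMap Γ(Y, V) Γ(X, W) (OmegaSh.idealSect j.ker V n') ∈
          RingHom.ker (algebraMap Γ(X, W) Γ(Z, j ⁻¹ᵁ V))),
        ψ.app (j ⁻¹ᵁ V) (OmegaSh.pullSect (𝟙 Z) (Omega.conormal j) (j ⁻¹ᵁ V)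
          (OmegaSh.conormalSect j V n')) = PBH8.cUV i (ClSub.idealMod i.ker) h₂ ñ ∧
        OmegaSh.idealSect i.ker (p ⁻¹ᵁ V) ñ = (p.app V).hom (OmegaSh.idealSect j.ker V n') ∧
        Θi (PBH8.cUV i (ClSub.idealMod i.ker) h₂ ñ) = Ideal.toCotangent _
          ⟨algebraMap Γ(Y, V) Γ(X, W) (OmegaSh.idealSect j.ker V n'), hm⟩ := by
    intro n'
    have hx0 : (j.app V).hom (OmegaSh.idealSect j.ker V n') = 0 := by
      have h1 := RingHom.mem_ker.mp (hmemj n')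
      exact (congrArg (fun k => k.hom (OmegaSh.idealSect j.ker V n')) happj).symm.trans h1
    obtain ⟨ñ, hñ⟩ := exists_ideal_section_comp p i j hij (OmegaSh.idealSect j.ker V n') hx0
    have hψn := psi_formula p i j ψ hψ n' ñ hñ h₂
    have hres : PBH8.cUV i (ClSub.idealMod i.ker) e
        ((ClSub.idealMod i.ker).presheaf.map (homOfLE hWV).op ñ) =
        PBH8.cUV i (ClSub.idealMod i.ker) h₂ ñ :=
      cUV_src_res i (ClSub.idealMod i.ker) hWV e ñ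
    have hval : OmegaSh.idealSect i.ker W
        ((ClSub.idealMod i.ker).presheaf.map (homOfLE hWV).op ñ) =
        algebraMap Γ(Y, V) Γ(X, W) (OmegaSh.idealSect j.ker V n') :=
      (idealSect_res i.ker hWV ñ).trans
        (congrArg (X.presheaf.map (homOfLE hWV).op).hom hñ)
    have hm : algebraMap Γ(Y, V) Γ(X, W) (OmegaSh.idealSect j.ker V n') ∈
        RingHom.ker (algebraMap Γ(X, W) Γ(Z, j ⁻¹ᵁ V)) := by
      rw [← hval]
      exact hmemi _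
    refine ⟨ñ, hm, hψn, hñ, ?_⟩
    rw [← hres]
    exact (hΘi _ (hmemi _)).trans (congrArg _ (Subtype.ext hval))
  refine ⟨?_, ?_, ?_, ?_⟩
  · -- ψ ≫ φ = 0 on sections
    intro s
    obtain ⟨n', rfl⟩ := hrep s
    obtain ⟨ñ, hm, hψn, hñ, -⟩ := hkey n'
    rw [hψn, phi_cUV i p d φ hφ h₂ ñ, hñ]
    have h0 : d.app (p ⁻¹ᵁ V) ((p.app V).hom (OmegaSh.idealSect j.ker V n')) = 0 :=
      d.d_app (X := op V) (OmegaSh.idealSect j.ker V n')
    rw [h0]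
    exact cUV_zero i Ω h₂
  · -- exactness
    intro m₀ hm₀
    have h1 : E (KaehlerDifferential.kerCotangentToTensor Γ(Y, V) Γ(X, W) Γ(Z, j ⁻¹ᵁ V)
        (Θi m₀)) = 0 := (hform m₀).symm.trans hm₀
    have h2 : KaehlerDifferential.kerCotangentToTensor Γ(Y, V) Γ(X, W) Γ(Z, j ⁻¹ᵁ V)
        (Θi m₀) = 0 := E.map_eq_zero_iff.mp h1
    obtain ⟨r, hr, hrΘ⟩ := exists_of_kerCotangentToTensor_eq_zero Γ(Y, V) Γ(X, W)
      Γ(Z, j ⁻¹ᵁ V) hRC (Θi m₀) h2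
    obtain ⟨n', hn'⟩ := hexj r (RingHom.mem_ker.mpr hr)
    obtain ⟨ñ, hm, hψn, hñ, hΘñ⟩ := hkey n'
    refine ⟨_, hψn.trans (Θi.injective ?_)⟩
    rw [hΘñ, hrΘ]
    exact congrArg _ (Subtype.ext (congrArg (algebraMap Γ(Y, V) Γ(X, W)) hn'))
  · -- φ is surjective on sections
    intro t
    obtain ⟨c, hc⟩ := kerCotangentToTensor_surjective Γ(Y, V) Γ(X, W) Γ(Z, j ⁻¹ᵁ V) hRC hAC
      (E.symm t)
    refine ⟨Θi.symm c, ?_⟩
    rw [hform, LinearEquiv.apply_symm_apply, hc, LinearEquiv.apply_symm_apply]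
  · -- ψ is injective on sections when `p` is smooth
    intro hfs s hs
    haveI : Algebra.FormallySmooth Γ(Y, V) Γ(X, W) := hfs
    obtain ⟨n', rfl⟩ := hrep s
    obtain ⟨ñ, hm, hψn, hñ, hΘñ⟩ := hkey n'
    have hz : PBH8.cUV i (ClSub.idealMod i.ker) h₂ ñ = (0 : Γ(CN i, j ⁻¹ᵁ V)) :=
      hψn.symm.trans hs
    have h1 : Θi (PBH8.cUV i (ClSub.idealMod i.ker) h₂ ñ) = 0 :=
      (congrArg Θi hz).trans (map_zero Θi)
    rw [hΘñ, Ideal.toCotangent_eq_zero] at h1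
    have h2 := mem_sq_of_formallySmooth Γ(Y, V) Γ(X, W) Γ(Z, j ⁻¹ᵁ V) hRC _ h1
    have h3 : Θj (PBH8.cUV j (ClSub.idealMod j.ker) (le_refl _) n') = 0 := by
      rw [hΘj n' (hmemj n'), Ideal.toCotangent_eq_zero]
      exact h2
    have h4 : PBH8.cUV j (ClSub.idealMod j.ker) (le_refl _) n' = 0 :=
      Θj.map_eq_zero_iff.mp h3
    have h5 : OmegaSh.conormalSect j V n' = 0 := (cUV_rfl j _ V n').symm.trans h4
    rw [h5, map_zero]
    rfl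

/-- `ψ ≫ φ = 0`, exactness and `Epi φ`. -/
theorem main9375 [IsImmersion i] [IsImmersion j] [QuasiCompact i] [QuasiCompact j]
    (hij : i ≫ p = j)
    (Ω : X.Modules) (d : OmegaSh.Der p Ω) (hd : OmegaSh.IsUniversal d)
    (ψ : (Scheme.Modules.pullback (𝟙 Z)).obj (Omega.conormal j) ⟶ Omega.conormal i)
    (hψ : OmegaSh.IsConormalMap i j p (𝟙 Z) ψ)
    (φ : Omega.conormal i ⟶ (Scheme.Modules.pullback i).obj Ω)
    (hφ : OmegaSh.IsConormalDiff i d φ) :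
    ∃ w : ψ ≫ φ = 0, (ShortComplex.mk ψ φ w).Exact ∧ Epi φ := by
  have hbasis := exists_goodPair p i j hij
  have w : ψ ≫ φ = 0 := by
    refine hom_eq_zero_of_basis (GoodPair p i j) hbasis (ψ ≫ φ) (fun U hU s => ?_)
    obtain ⟨W, V, hW, hV, hWV, rfl, hUa, hsV, e, e', hsW⟩ := hU
    exact (seq_sections p i j hij Ω d hd ψ hψ φ hφ hW hV hWV hUa hsV e e' hsW).1 s
  refine ⟨w, exact_of_basis (GoodPair p i j) hbasis ψ φ w (fun U hU m hm => ?_),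
    epi_of_surjective_basis φ (GoodPair p i j) hbasis (fun U hU => ?_)⟩
  · obtain ⟨W, V, hW, hV, hWV, rfl, hUa, hsV, e, e', hsW⟩ := hU
    exact (seq_sections p i j hij Ω d hd ψ hψ φ hφ hW hV hWV hUa hsV e e' hsW).2.1 m hm
  · obtain ⟨W, V, hW, hV, hWV, rfl, hUa, hsV, e, e', hsW⟩ := hU
    exact (seq_sections p i j hij Ω d hd ψ hψ φ hφ hW hV hWV hUa hsV e e' hsW).2.2.1

/-- For smooth `p` the sequence is short exact. -/
theorem main9711 [Smooth p] [IsImmersion i] [IsImmersion j] [QuasiCompact i] [QuasiCompact j]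
    (hij : i ≫ p = j)
    (Ω : X.Modules) (d : OmegaSh.Der p Ω) (hd : OmegaSh.IsUniversal d)
    (ψ : (Scheme.Modules.pullback (𝟙 Z)).obj (Omega.conormal j) ⟶ Omega.conormal i)
    (hψ : OmegaSh.IsConormalMap i j p (𝟙 Z) ψ)
    (φ : Omega.conormal i ⟶ (Scheme.Modules.pullback i).obj Ω)
    (hφ : OmegaSh.IsConormalDiff i d φ) :
    ∃ w : ψ ≫ φ = 0, (ShortComplex.mk ψ φ w).ShortExact := by
  obtain ⟨w, hex, hepi⟩ := main9375 p i j hij Ω d hd ψ hψ φ hφ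
  have hbasis := exists_goodPair p i j hij
  have hmono : Mono ψ := by
    refine mono_of_injective_basis ψ (GoodPair p i j) hbasis (fun U hU => ?_)
    obtain ⟨W, V, hW, hV, hWV, rfl, hUa, hsV, e, e', hsW⟩ := hU
    have hfs : (p.appLE V W hWV).hom.FormallySmooth :=
      (p.smooth_appLE hV hW hWV).formallySmooth
    have h0 := (seq_sections p i j hij Ω d hd ψ hψ φ hφ hW hV hWV hUa hsV e e' hsW).2.2.2 hfs
    intro s t hst
    have hs : ψ.app (j ⁻¹ᵁ V) (s - t) = 0 := by rw [map_sub, hst, sub_self]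
    exact sub_eq_zero.mp (h0 _ hs)
  exact ⟨w, ShortComplex.ShortExact.mk' hex hmono hepi⟩

end Seq

end Groth.Agent.Lib.ConormSeqH4
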