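import Mathlib
import Groth.Prelude
import Groth.Agent.Lib.ConormSeq3_helper4

/-!
# The split conormal sequence `0 → C_{Z/X} → i^*Ω_{X/S} → Ω_{Z/S} → 0` for an immersion with a
left inverse (helper4).
APPEND-ONLY once landed.
-/

set_option autoImplicit false
set_option linter.style.haveILetI false

universe u

open CategoryTheory CategoryTheory.Limits AlgebraicGeometry Opposite TopologicalSpace TensorProduct
open AlgebraicGeometry.Scheme.Modules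

namespace Groth.Agent.Lib.ConormSplitH4

open Groth.Agent.Lib.OmegaUniv2H4 Groth.Agent.Lib.OmegaResH4 Groth.Agent.Lib.OmegaRecQCH4
open Groth.Agent.Lib.OmegaCompatH4 Groth.Agent.Lib.OmegaCompat2H4
open Groth.Agent.Lib.OmegaAffH4 Groth.Agent.Lib.OmegaUnivH4 Groth.Agent.Lib.ConormOpenH4
open Groth.Agent.Lib.ConormDiffH4 Groth.Agent.Lib.ConormSeqAlgH4 Groth.Agent.Lib.OmegaSecH4
open Groth.Agent.Lib.ConormSeqH4

section Algebra

theorem kerCotangentToTensor_injective_of_section (R A C : Type u) [CommRing R]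
    [CommRing A] [CommRing C] [Algebra R A] [Algebra A C] [Algebra R C] [IsScalarTower R A C]
    (hs : Function.Surjective (algebraMap A C)) (τ : C →ₐ[R] A)
    (hτ : ∀ c, algebraMap A C (τ c) = c) :
    Function.Injective (KaehlerDifferential.kerCotangentToTensor R A C) := by
  let g : C →ₐ[R] A ⧸ RingHom.ker (IsScalarTower.toAlgHom R A C).toRingHom ^ 2 :=
    (Ideal.Quotient.mkₐ R _).comp τ
  have hg : (IsScalarTower.toAlgHom R A C).kerSquareLift.comp g = AlgHom.id R C := by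
    refine AlgHom.ext fun c => ?_
    show (IsScalarTower.toAlgHom R A C).kerSquareLift (Ideal.Quotient.mk _ (τ c)) = c
    rw [AlgHom.kerSquareLift_mk]
    exact hτ c
  obtain ⟨l, hl⟩ :=
    (retractionKerCotangentToTensorEquivSection (R := R) hs).symm ⟨g, hg⟩
  exact Function.LeftInverse.injective (g := l) (fun x => LinearMap.congr_fun hl x)

end Algebra

section Geom

variable {Z X S : Scheme.{u}} (f : X ⟶ S) (i : Z ⟶ X) (g : X ⟶ Z)

theorem pt_of_leftInv (hgi : i ≫ g = 𝟙 Z) (z : Z) : g (i z) = z :=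
  congrArg (fun k : Z ⟶ Z => k z) hgi

theorem le_preimage_of_leftInv (hgi : i ≫ g = 𝟙 Z) (U : Z.Opens) : U ≤ i ⁻¹ᵁ (g ⁻¹ᵁ U) := by
  intro z hz
  show g (i z) ∈ U
  rw [pt_of_leftInv i g hgi z]
  exact hz

theorem appLE_leftInv (hgi : i ≫ g = 𝟙 Z) {U : Z.Opens} {W : X.Opens} (e : U ≤ i ⁻¹ᵁ W)
    (hWU : W ≤ g ⁻¹ᵁ U) (b : Γ(Z, U)) :
    (i.appLE W U e).hom ((g.appLE U W hWU).hom b) = b := by
  have c1 := Scheme.Hom.appLE_comp_appLE i g U W U hWU e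
  have c2 : (i ≫ g).appLE U U (fun z hz => hWU (e hz)) =
      (𝟙 Z : Z ⟶ Z).appLE U U (le_refl U) := OmegaSh.appLE_congr_hom hgi _ _
  have c3 : (𝟙 Z : Z ⟶ Z).appLE U U (le_refl U) = 𝟙 _ := id_appLE U _
  exact congrArg (fun k => k.hom b) (c1.trans (c2.trans c3))

theorem app_leftInv (hgi : i ≫ g = 𝟙 Z) (U : Z.Opens) (s : Γ(Z, U)) :
    (i.appLE (g ⁻¹ᵁ U) U (le_preimage_of_leftInv i g hgi U)).hom ((g.app U).hom s) = s := by
  have h1 : g.app U = g.appLE U (g ⁻¹ᵁ U) (le_refl _) := Scheme.Hom.app_eq_appLE g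
  have h2 := appLE_leftInv i g hgi (le_preimage_of_leftInv i g hgi U) (le_refl (g ⁻¹ᵁ U)) s
  exact (congrArg (fun k => (i.appLE (g ⁻¹ᵁ U) U (le_preimage_of_leftInv i g hgi U)).hom
    (k.hom s)) h1).trans h2

theorem sigma_mul (hgi : i ≫ g = 𝟙 Z) {ΩX : X.Modules} (dX : OmegaSh.Der f ΩX) (U : Z.Opens)
    (a b : Γ(Z, U)) :
    PBH8.cUV i ΩX (le_preimage_of_leftInv i g hgi U)
      (dX.app (g ⁻¹ᵁ U) ((g.app U).hom (a * b))) =
    a • PBH8.cUV i ΩX (le_preimage_of_leftInv i g hgi U) (dX.app (g ⁻¹ᵁ U) ((g.app U).hom b)) +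
    b • PBH8.cUV i ΩX (le_preimage_of_leftInv i g hgi U)
      (dX.app (g ⁻¹ᵁ U) ((g.app U).hom a)) := by
  have h1 : (g.app U).hom (a * b) = (g.app U).hom a * (g.app U).hom b := map_mul _ a b
  have h2 := der_mul dX (g ⁻¹ᵁ U) ((g.app U).hom a) ((g.app U).hom b)
  have h3 := PBH8.cUV_add i ΩX (le_preimage_of_leftInv i g hgi U)
    ((g.app U).hom a • dX.app (g ⁻¹ᵁ U) ((g.app U).hom b))
    ((g.app U).hom b • dX.app (g ⁻¹ᵁ U) ((g.app U).hom a))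
  have h4 := PBH8.cUV_smul i ΩX (le_preimage_of_leftInv i g hgi U)
    ((g.app U).hom a) (dX.app (g ⁻¹ᵁ U) ((g.app U).hom b))
  have h5 := PBH8.cUV_smul i ΩX (le_preimage_of_leftInv i g hgi U)
    ((g.app U).hom b) (dX.app (g ⁻¹ᵁ U) ((g.app U).hom a))
  have k1 := app_leftInv i g hgi U a
  have k2 := app_leftInv i g hgi U b
  have h4' : PBH8.cUV i ΩX (le_preimage_of_leftInv i g hgi U)
      ((g.app U).hom a • dX.app (g ⁻¹ᵁ U) ((g.app U).hom b)) =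
      a • PBH8.cUV i ΩX (le_preimage_of_leftInv i g hgi U)
        (dX.app (g ⁻¹ᵁ U) ((g.app U).hom b)) :=
    h4.trans (congrArg (fun r => r • PBH8.cUV i ΩX (le_preimage_of_leftInv i g hgi U)
        (dX.app (g ⁻¹ᵁ U) ((g.app U).hom b))) k1)
  have h5' : PBH8.cUV i ΩX (le_preimage_of_leftInv i g hgi U)
      ((g.app U).hom b • dX.app (g ⁻¹ᵁ U) ((g.app U).hom a)) =
      b • PBH8.cUV i ΩX (le_preimage_of_leftInv i g hgi U)
        (dX.app (g ⁻¹ᵁ U) ((g.app U).hom a)) :=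
    h5.trans (congrArg (fun r => r • PBH8.cUV i ΩX (le_preimage_of_leftInv i g hgi U)
        (dX.app (g ⁻¹ᵁ U) ((g.app U).hom a))) k2)
  exact (congrArg (fun z => PBH8.cUV i ΩX (le_preimage_of_leftInv i g hgi U)
      (dX.app (g ⁻¹ᵁ U) z)) h1).trans
    ((congrArg (fun z => PBH8.cUV i ΩX (le_preimage_of_leftInv i g hgi U) z) h2).trans
      (h3.trans (congrArg₂ (fun p q => p + q) h4' h5')))

/-- The derivation `s ↦ i^*(d_X (g♯ s))` of `O_Z` into `i^*Ω_X`. -/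
noncomputable def sigmaDer (hgi : i ≫ g = 𝟙 Z) (hgS : g ≫ i ≫ f = f) {ΩX : X.Modules}
    (dX : OmegaSh.Der f ΩX) : OmegaSh.Der (i ≫ f) ((Scheme.Modules.pullback i).obj ΩX) where
  d {W} := AddMonoidHom.mk'
    (fun s => (PBH8.cUV i ΩX (le_preimage_of_leftInv i g hgi W.unop)
      (dX.app (g ⁻¹ᵁ W.unop) ((g.app W.unop).hom s)) :
        Γ((Scheme.Modules.pullback i).obj ΩX, W.unop)))
    (fun a b => by
      have h1 : (g.app W.unop).hom (a + b) = (g.app W.unop).hom a + (g.app W.unop).hom b :=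
        map_add _ a b
      have h2 := map_add (dX.app (g ⁻¹ᵁ W.unop)) ((g.app W.unop).hom a) ((g.app W.unop).hom b)
      exact (congrArg (fun z => PBH8.cUV i ΩX (le_preimage_of_leftInv i g hgi W.unop)
        (dX.app (g ⁻¹ᵁ W.unop) z)) h1).trans
        ((congrArg (fun z => PBH8.cUV i ΩX (le_preimage_of_leftInv i g hgi W.unop) z) h2).trans
          (PBH8.cUV_add i ΩX _ _ _)))
  d_mul {W} a b := sigma_mul f i g hgi dX W.unop a b
  d_map {W W'} k s := by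
    have hle : W'.unop ≤ W.unop := leOfHom k.unop
    have hnat := congrArg (fun q => q.hom s) (g.naturality (U := W'.unop) (U' := W.unop) k)
    have e1 : PBH8.cUV i ΩX (le_preimage_of_leftInv i g hgi W'.unop)
        (dX.app (g ⁻¹ᵁ W'.unop) ((g.app W'.unop).hom ((Z.presheaf.map k).hom s))) =
        PBH8.cUV i ΩX (le_preimage_of_leftInv i g hgi W'.unop)
          (dX.app (g ⁻¹ᵁ W'.unop) ((X.presheaf.map (homOfLE (g.preimage_mono hle)).op).hom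
            ((g.app W.unop).hom s))) :=
      congrArg (fun z => PBH8.cUV i ΩX (le_preimage_of_leftInv i g hgi W'.unop)
        (dX.app (g ⁻¹ᵁ W'.unop) z)) hnat
    have e2 : dX.app (g ⁻¹ᵁ W'.unop) ((X.presheaf.map (homOfLE (g.preimage_mono hle)).op).hom
        ((g.app W.unop).hom s)) =
        ΩX.presheaf.map (homOfLE (g.preimage_mono hle)).op
          (dX.app (g ⁻¹ᵁ W.unop) ((g.app W.unop).hom s)) :=
      der_map dX (g.preimage_mono hle) _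
    have e3 := cUV_src_res i ΩX (g.preimage_mono hle)
      (le_preimage_of_leftInv i g hgi W'.unop) (dX.app (g ⁻¹ᵁ W.unop) ((g.app W.unop).hom s))
    have e4 := PBH8.cUV_res i ΩX (le_preimage_of_leftInv i g hgi W.unop) hle
      (dX.app (g ⁻¹ᵁ W.unop) ((g.app W.unop).hom s))
    exact e1.trans ((congrArg (fun z => PBH8.cUV i ΩX
      (le_preimage_of_leftInv i g hgi W'.unop) z) e2).trans (e3.trans e4.symm))
  d_app {V} a := by
    have hV' : g ⁻¹ᵁ ((i ≫ f) ⁻¹ᵁ V.unop) ≤ f ⁻¹ᵁ V.unop := by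
      intro x hx
      have h1 : f (i (g x)) ∈ V.unop := hx
      have h2 : f (i (g x)) = f x := congrArg (fun k : X ⟶ S => k x) hgS
      rw [h2] at h1
      exact h1
    have c1 := Scheme.Hom.appLE_comp_appLE g (i ≫ f) V.unop ((i ≫ f) ⁻¹ᵁ V.unop)
      (g ⁻¹ᵁ ((i ≫ f) ⁻¹ᵁ V.unop)) (le_refl _) (le_refl _)
    have c2 := OmegaSh.appLE_congr_hom hgS (U := V.unop)
      (V := g ⁻¹ᵁ ((i ≫ f) ⁻¹ᵁ V.unop)) (fun x hx => hx) hV'
    have c3 : (i ≫ f).app V.unop =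
        (i ≫ f).appLE V.unop ((i ≫ f) ⁻¹ᵁ V.unop) (le_refl _) := Scheme.Hom.app_eq_appLE _
    have c4 : g.app ((i ≫ f) ⁻¹ᵁ V.unop) = g.appLE ((i ≫ f) ⁻¹ᵁ V.unop)
        (g ⁻¹ᵁ ((i ≫ f) ⁻¹ᵁ V.unop)) (le_refl _) := Scheme.Hom.app_eq_appLE _
    have c5 : (i ≫ f).app V.unop ≫ g.app ((i ≫ f) ⁻¹ᵁ V.unop) =
        f.appLE V.unop (g ⁻¹ᵁ ((i ≫ f) ⁻¹ᵁ V.unop)) hV' :=
      (congrArg₂ (fun p q => p ≫ q) c3 c4).trans (c1.trans c2)
    have h1 : (g.app ((i ≫ f) ⁻¹ᵁ V.unop)).hom (((i ≫ f).app V.unop).hom a) =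
        (f.appLE V.unop (g ⁻¹ᵁ ((i ≫ f) ⁻¹ᵁ V.unop)) hV').hom a :=
      congrArg (fun k => k.hom a) c5
    have h2 := der_base dX hV' a
    exact (congrArg (fun z => PBH8.cUV i ΩX
        (le_preimage_of_leftInv i g hgi ((i ≫ f) ⁻¹ᵁ V.unop))
        (dX.app (g ⁻¹ᵁ ((i ≫ f) ⁻¹ᵁ V.unop)) z)) h1).trans
      ((congrArg (fun z => PBH8.cUV i ΩX
        (le_preimage_of_leftInv i g hgi ((i ≫ f) ⁻¹ᵁ V.unop)) z) h2).trans
        (cUV_zero i ΩX _))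

theorem sigmaDer_app (hgi : i ≫ g = 𝟙 Z) (hgS : g ≫ i ≫ f = f) {ΩX : X.Modules}
    (dX : OmegaSh.Der f ΩX) (U : Z.Opens) (s : Γ(Z, U)) :
    (sigmaDer f i g hgi hgS dX).app U s =
      PBH8.cUV i ΩX (le_preimage_of_leftInv i g hgi U) (dX.app (g ⁻¹ᵁ U) ((g.app U).hom s)) :=
  rfl

theorem exists_sigma (hgi : i ≫ g = 𝟙 Z) (hgS : g ≫ i ≫ f = f)
    (ΩX : X.Modules) (dX : OmegaSh.Der f ΩX)
    (ΩZ : Z.Modules) (dZ : OmegaSh.Der (i ≫ f) ΩZ) (hZ : OmegaSh.IsUniversal dZ)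
    (c : (Scheme.Modules.pullback i).obj ΩX ⟶ ΩZ) (hc : OmegaSh.IsDiffCompat i dX dZ c) :
    ∃ σ : ΩZ ⟶ (Scheme.Modules.pullback i).obj ΩX, σ ≫ c = 𝟙 _ := by
  obtain ⟨σ, hσ, -⟩ := hZ _ (sigmaDer f i g hgi hgS dX)
  have hσ' := (postcomp_eq_iff dZ (sigmaDer f i g hgi hgS dX) σ).mp hσ
  obtain ⟨α, -, huniq⟩ := hZ ΩZ dZ
  have a1 : σ ≫ c = α := huniq _ ((postcomp_eq_iff dZ dZ (σ ≫ c)).mpr fun O s => by
    have e1 : σ.app O (dZ.app O s) = PBH8.cUV i ΩX (le_preimage_of_leftInv i g hgi O)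
        (dX.app (g ⁻¹ᵁ O) ((g.app O).hom s)) := hσ' O s
    have e2 := cUV_d i dX dZ c hc (le_preimage_of_leftInv i g hgi O) ((g.app O).hom s)
    have e3 := app_leftInv i g hgi O s
    exact (congrArg (fun z => c.app O z) e1).trans
      (e2.trans (congrArg (fun z => dZ.app O z) e3)))
  have a2 : 𝟙 ΩZ = α := huniq _ ((postcomp_eq_iff dZ dZ (𝟙 ΩZ)).mpr fun O s => rfl)
  exact ⟨σ, a1.trans a2.symm⟩

/-- Good opens of `Z`. -/
def Good (U : Z.Opens) : Prop :=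
  ∃ (W : X.Opens) (V : S.Opens), IsAffineOpen W ∧ IsAffineOpen U ∧ IsAffineOpen V ∧
    W ≤ f ⁻¹ᵁ V ∧ U ≤ i ⁻¹ᵁ W ∧ i ⁻¹ᵁ W ≤ U ∧ W ≤ g ⁻¹ᵁ U

theorem exists_good [IsImmersion i] (hgi : i ≫ g = 𝟙 Z) (O : Z.Opens) (z : Z) (hz : z ∈ O) :
    ∃ U : Z.Opens, Good f i g U ∧ z ∈ U ∧ U ≤ O := by
  have hpt := pt_of_leftInv i g hgi
  obtain ⟨V, hV, hzV, -⟩ := (Opens.isBasis_iff_nbhd.mp S.isBasis_affineOpens)
    (show f (i z) ∈ (⊤ : S.Opens) from trivial)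
  obtain ⟨U', hU', hzU', hU'O⟩ := (Opens.isBasis_iff_nbhd.mp Z.isBasis_affineOpens) hz
  have hiz : i z ∈ g ⁻¹ᵁ U' ⊓ f ⁻¹ᵁ V := by
    refine ⟨?_, hzV⟩
    show g (i z) ∈ U'
    rw [hpt]
    exact hzU'
  obtain ⟨W₀, hW₀, hiW₀, hW₀le, hU₀, -⟩ := exists_good_affine i z (g ⁻¹ᵁ U' ⊓ f ⁻¹ᵁ V) hiz
  have hU₀U' : i ⁻¹ᵁ W₀ ≤ U' := by
    intro z' hz'
    have h1 : g (i z') ∈ U' := (hW₀le hz').1
    rw [hpt] at h1
    exact h1
  have hWaff : IsAffineOpen (W₀ ⊓ g ⁻¹ᵁ (i ⁻¹ᵁ W₀)) :=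
    isAffineOpen_inf_preimage g hW₀ hU' hU₀ (hW₀le.trans inf_le_left) hU₀U'
  refine ⟨i ⁻¹ᵁ W₀, ⟨W₀ ⊓ g ⁻¹ᵁ (i ⁻¹ᵁ W₀), V, hWaff, hU₀, hV,
    inf_le_left.trans (hW₀le.trans inf_le_right), ?_, ?_, inf_le_right⟩, hiW₀,
    hU₀U'.trans hU'O⟩
  · intro z' hz'
    refine ⟨hz', ?_⟩
    show i (g (i z')) ∈ W₀
    rw [hpt]
    exact hz'
  · intro z' hz'
    exact hz'.1

set_option maxHeartbeats 6400000 in
theorem sections [IsImmersion i] [QuasiCompact i] (hgi : i ≫ g = 𝟙 Z) (hgS : g ≫ i ≫ f = f)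
    (ΩX : X.Modules) (dX : OmegaSh.Der f ΩX) (hX : OmegaSh.IsUniversal dX)
    (ΩZ : Z.Modules) (dZ : OmegaSh.Der (i ≫ f) ΩZ) (hZ : OmegaSh.IsUniversal dZ)
    (φ : Omega.conormal i ⟶ (Scheme.Modules.pullback i).obj ΩX)
    (hφ : OmegaSh.IsConormalDiff i dX φ)
    (c : (Scheme.Modules.pullback i).obj ΩX ⟶ ΩZ) (hc : OmegaSh.IsDiffCompat i dX dZ c)
    {W : X.Opens} {U : Z.Opens} {V : S.Opens} (hW : IsAffineOpen W) (hU : IsAffineOpen U)
    (hV : IsAffineOpen V) (hWV : W ≤ f ⁻¹ᵁ V) (e : U ≤ i ⁻¹ᵁ W) (e' : i ⁻¹ᵁ W ≤ U)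
    (hWU : W ≤ g ⁻¹ᵁ U) :
    (∀ m, c.app U (φ.app U m) = 0) ∧
    (∀ y, c.app U y = 0 → ∃ m, φ.app U m = y) ∧
    Function.Injective (φ.app U) := by
  have hUV : U ≤ (i ≫ f) ⁻¹ᵁ V := fun z hz => hWV (e hz)
  letI aRA : Algebra Γ(S, V) Γ(X, W) := (f.appLE V W hWV).hom.toAlgebra
  letI aAC : Algebra Γ(X, W) Γ(Z, U) := (i.appLE W U e).hom.toAlgebra
  letI aRC : Algebra Γ(S, V) Γ(Z, U) := ((i ≫ f).appLE V U hUV).hom.toAlgebra
  letI mA : Module Γ(X, W) Γ(CN i, U) := Module.compHom _ (i.appLE W U e).hom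
  have comm : ∀ r : Γ(S, V), ((i ≫ f).appLE V U hUV).hom r =
      (i.appLE W U e).hom ((f.appLE V W hWV).hom r) := by
    intro r
    have c1 := Scheme.Hom.appLE_comp_appLE i f V W U hWV e
    exact (congrArg (fun k => k.hom r) c1).symm
  haveI tRAC : IsScalarTower Γ(S, V) Γ(X, W) Γ(Z, U) :=
    IsScalarTower.of_algebraMap_eq (fun r => comm r)
  have hid : ∀ b : Γ(Z, U), (i.appLE W U e).hom ((g.appLE U W hWU).hom b) = b :=
    appLE_leftInv i g hgi e hWU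
  have hsurj : Function.Surjective (i.appLE W U e).hom := fun b => ⟨_, hid b⟩
  have hAC : Function.Surjective (algebraMap Γ(X, W) Γ(Z, U)) := hsurj
  have hτR : ∀ r : Γ(S, V), (g.appLE U W hWU).hom (((i ≫ f).appLE V U hUV).hom r) =
      (f.appLE V W hWV).hom r := by
    intro r
    have c1 := Scheme.Hom.appLE_comp_appLE g (i ≫ f) V U W hUV hWU
    have c2 := OmegaSh.appLE_congr_hom hgS (U := V) (V := W)
      (fun x hx => hUV (hWU hx)) hWV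
    exact congrArg (fun k => k.hom r) (c1.trans c2)
  let τ : Γ(Z, U) →ₐ[Γ(S, V)] Γ(X, W) :=
    { (g.appLE U W hWU).hom with commutes' := fun r => hτR r }
  have hτ : ∀ b : Γ(Z, U), algebraMap Γ(X, W) Γ(Z, U) (τ b) = b := fun b => hid b
  obtain ⟨L, Θ, E, hL, hE, hΘ, hmem, hex, hform⟩ :=
    conormalDiff_sections_le i f ΩX dX hX φ hφ hW hU e e' hsurj hV hWV
  obtain ⟨LZ, hLZ⟩ := receptacleSections (i ≫ f) dZ hZ hU hV hUV
  haveI qcX : ΩX.IsQuasicoherent := isQuasicoherent f dX hX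
  letI mA1 : Module Γ(X, W) Γ((Scheme.Modules.pullback i).obj ΩX, U) :=
    Module.compHom _ (i.appLE W U e).hom
  haveI tA1 : IsScalarTower Γ(X, W) Γ(Z, U) Γ((Scheme.Modules.pullback i).obj ΩX, U) :=
    IsScalarTower.of_algebraMap_smul fun _ _ => rfl
  letI mA2 : Module Γ(X, W) Γ(ΩZ, U) := Module.compHom _ (i.appLE W U e).hom
  haveI tA2 : IsScalarTower Γ(X, W) Γ(Z, U) Γ(ΩZ, U) :=
    IsScalarTower.of_algebraMap_smul fun _ _ => rfl
  let cl : Γ((Scheme.Modules.pullback i).obj ΩX, U) →ₗ[Γ(Z, U)] Γ(ΩZ, U) :=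
    { toFun := fun y => c.app U y
      map_add' := fun y z => map_add (c.app U).hom y z
      map_smul' := fun r y => Scheme.Modules.Hom.app_smul c r y }
  let lam : Γ(ΩX, W) →ₗ[Γ(X, W)] Γ(ΩZ, U) :=
    (cl.restrictScalars Γ(X, W)).comp (PBH8.cUVLin i ΩX e)
  have hcomm : (KaehlerDifferential.map Γ(S, V) Γ(S, V) Γ(X, W) Γ(Z, U)).comp L.toLinearMap =
      (LZ.restrictScalars Γ(X, W)).toLinearMap.comp lam := by
    refine LinearMap.ext_on (span_d f dX hX ⟨hW, V, hV, hWV⟩) ?_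
    rintro _ ⟨s, rfl⟩
    show KaehlerDifferential.map Γ(S, V) Γ(S, V) Γ(X, W) Γ(Z, U) (L (dX.app W s)) =
      LZ (c.app U (PBH8.cUV i ΩX e (dX.app W s)))
    rw [hL, cUV_d i dX dZ c hc e s, hLZ, KaehlerDifferential.map_D]
    rfl
  have key1 : ∀ x, LZ (cl (PBH8.cUVLin i ΩX e x)) =
      KaehlerDifferential.map Γ(S, V) Γ(S, V) Γ(X, W) Γ(Z, U) (L x) :=
    fun x => (LinearMap.congr_fun hcomm x).symm
  have key2 : ∀ t : Γ(Z, U) ⊗[Γ(X, W)] Ω[Γ(X, W)⁄Γ(S, V)],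
      LZ (cl (E t)) = KaehlerDifferential.mapBaseChange Γ(S, V) Γ(X, W) Γ(Z, U) t := by
    intro t
    induction t using TensorProduct.induction_on with
    | zero => rw [map_zero, map_zero, map_zero, map_zero]
    | tmul b y =>
      have h1 : E (b ⊗ₜ y) = b • PBH8.cUVLin i ΩX e (L.symm y) := by
        have h0 := hE b (L.symm y)
        rw [LinearEquiv.apply_symm_apply] at h0
        exact h0
      rw [h1, cl.map_smul, LZ.map_smul, key1, LinearEquiv.apply_symm_apply,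
        KaehlerDifferential.mapBaseChange_tmul]
    | add x y hx hy => rw [map_add, map_add, map_add, map_add, hx, hy]
  have hexact := KaehlerDifferential.exact_kerCotangentToTensor_mapBaseChange
    Γ(S, V) Γ(X, W) Γ(Z, U) hAC
  refine ⟨?_, ?_, ?_⟩
  · intro m
    have h1 := key2 (KaehlerDifferential.kerCotangentToTensor Γ(S, V) Γ(X, W) Γ(Z, U) (Θ m))
    have h2 : KaehlerDifferential.mapBaseChange Γ(S, V) Γ(X, W) Γ(Z, U)
        (KaehlerDifferential.kerCotangentToTensor Γ(S, V) Γ(X, W) Γ(Z, U) (Θ m)) = 0 :=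
      hexact.apply_apply_eq_zero (Θ m)
    have h3 : cl (E (KaehlerDifferential.kerCotangentToTensor Γ(S, V) Γ(X, W) Γ(Z, U)
        (Θ m))) = 0 := LZ.map_eq_zero_iff.mp (h1.trans h2)
    rw [hform m]
    exact h3
  · intro y hy
    have h0 := key2 (E.symm y)
    rw [LinearEquiv.apply_symm_apply] at h0
    have hy' : cl y = 0 := hy
    have h1 : KaehlerDifferential.mapBaseChange Γ(S, V) Γ(X, W) Γ(Z, U) (E.symm y) = 0 := by
      rw [← h0, hy', map_zero]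
    obtain ⟨θ, hθ⟩ := (hexact (E.symm y)).mp h1
    refine ⟨Θ.symm θ, ?_⟩
    rw [hform, LinearEquiv.apply_symm_apply, hθ, LinearEquiv.apply_symm_apply]
  · have hinj := kerCotangentToTensor_injective_of_section Γ(S, V) Γ(X, W) Γ(Z, U) hAC τ hτ
    intro m m' hmm
    have h1 : E (KaehlerDifferential.kerCotangentToTensor Γ(S, V) Γ(X, W) Γ(Z, U) (Θ m)) =
        E (KaehlerDifferential.kerCotangentToTensor Γ(S, V) Γ(X, W) Γ(Z, U) (Θ m')) :=
      (hform m).symm.trans (hmm.trans (hform m'))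
    exact Θ.injective (hinj (E.injective h1))

theorem main9384 [IsImmersion i] [QuasiCompact i] (hgi : i ≫ g = 𝟙 Z) (hgS : g ≫ i ≫ f = f)
    (ΩX : X.Modules) (dX : OmegaSh.Der f ΩX) (hX : OmegaSh.IsUniversal dX)
    (ΩZ : Z.Modules) (dZ : OmegaSh.Der (i ≫ f) ΩZ) (hZ : OmegaSh.IsUniversal dZ)
    (φ : Omega.conormal i ⟶ (Scheme.Modules.pullback i).obj ΩX)
    (hφ : OmegaSh.IsConormalDiff i dX φ)
    (c : (Scheme.Modules.pullback i).obj ΩX ⟶ ΩZ) (hc : OmegaSh.IsDiffCompat i dX dZ c) :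
    ∃ w : φ ≫ c = 0, (ShortComplex.mk φ c w).Exact ∧
      (∃ r : (Scheme.Modules.pullback i).obj ΩX ⟶ Omega.conormal i, φ ≫ r = 𝟙 _) ∧
      ∃ σ : ΩZ ⟶ (Scheme.Modules.pullback i).obj ΩX, σ ≫ c = 𝟙 _ := by
  have hbasis := exists_good f i g hgi
  have w : φ ≫ c = 0 := by
    refine hom_eq_zero_of_basis (Good f i g) hbasis (φ ≫ c) (fun U hU s => ?_)
    obtain ⟨W, V, hW, hUa, hV, hWV, e, e', hWU⟩ := hU
    exact (sections f i g hgi hgS ΩX dX hX ΩZ dZ hZ φ hφ c hc hW hUa hV hWV e e' hWU).1 s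
  have hex : (ShortComplex.mk φ c w).Exact := by
    refine exact_of_basis (Good f i g) hbasis φ c w (fun U hU y hy => ?_)
    obtain ⟨W, V, hW, hUa, hV, hWV, e, e', hWU⟩ := hU
    exact (sections f i g hgi hgS ΩX dX hX ΩZ dZ hZ φ hφ c hc hW hUa hV hWV e e' hWU).2.1 y hy
  have hmono : Mono φ := by
    refine mono_of_injective_basis φ (Good f i g) hbasis (fun U hU => ?_)
    obtain ⟨W, V, hW, hUa, hV, hWV, e, e', hWU⟩ := hU
    exact (sections f i g hgi hgS ΩX dX hX ΩZ dZ hZ φ hφ c hc hW hUa hV hWV e e' hWU).2.2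
  obtain ⟨σ, hσ⟩ := exists_sigma f i g hgi hgS ΩX dX ΩZ dZ hZ c hc
  refine ⟨w, hex, ?_, σ, hσ⟩
  exact ⟨(ShortComplex.Splitting.ofExactOfSection (ShortComplex.mk φ c w) hex σ hσ hmono).r,
    (ShortComplex.Splitting.ofExactOfSection (ShortComplex.mk φ c w) hex σ hσ hmono).f_r⟩

end Geom

end Groth.Agent.Lib.ConormSplitH4
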