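import Mathlib
import Groth.Prelude
import Groth.Agent.Lib.OmegaCompat_helper4

/-!
# Base change of receptacles of differentials along a cartesian square (helper4).
APPEND-ONLY once landed.
-/

set_option autoImplicit false
set_option linter.style.haveILetI false

universe u

open CategoryTheory CategoryTheory.Limits AlgebraicGeometry Opposite TopologicalSpace TensorProduct
open AlgebraicGeometry.Scheme.Modules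

namespace Groth.Agent.Lib.OmegaCompat3H4

open Groth.Agent.Lib.OmegaUniv2H4 Groth.Agent.Lib.OmegaResH4 Groth.Agent.Lib.OmegaRecQCH4
open Groth.Agent.Lib.OmegaCompatH4

section Algebra

theorem isBaseChange_map_of_isPushout (R₁ R₂ A B : Type u) [CommRing R₁] [CommRing R₂] [CommRing A]
    [CommRing B] [Algebra R₁ R₂] [Algebra R₁ A] [Algebra R₂ B] [Algebra A B] [Algebra R₁ B]
    [IsScalarTower R₁ A B] [IsScalarTower R₁ R₂ B] [SMulCommClass R₂ A B]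
    [Algebra.IsPushout R₁ R₂ A B] :
    IsBaseChange B (KaehlerDifferential.map R₁ R₂ A B) := by
  refine IsBaseChange.of_equiv (KaehlerDifferential.tensorKaehlerEquiv R₁ R₂ A B) ?_
  intro x
  have key : ((KaehlerDifferential.tensorKaehlerEquiv R₁ R₂ A B).toLinearMap.restrictScalars A).comp
      (TensorProduct.mk A B Ω[A⁄R₁] 1) = KaehlerDifferential.map R₁ R₂ A B := by
    refine LinearMap.ext_on (KaehlerDifferential.span_range_derivation R₁ A) ?_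
    rintro _ ⟨a, rfl⟩
    show KaehlerDifferential.tensorKaehlerEquiv R₁ R₂ A B
        ((1 : B) ⊗ₜ[A] KaehlerDifferential.D R₁ A a) =
      KaehlerDifferential.map R₁ R₂ A B (KaehlerDifferential.D R₁ A a)
    rw [KaehlerDifferential.tensorKaehlerEquiv_tmul_D, one_smul, KaehlerDifferential.map_D]
  exact LinearMap.congr_fun key x

end Algebra

section Geom

variable {X₁ S₁ X₂ S₂ : Scheme.{u}} (p₁ : X₁ ⟶ S₁) (p₂ : X₂ ⟶ S₂) (f : X₂ ⟶ X₁) (g : S₂ ⟶ S₁)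

/-- A "good" affine open of `X₂ = X₁ ×_{S₁} S₂`: a product of affines. -/
def GoodBC (W : X₂.Opens) : Prop :=
  ∃ (U₁ : X₁.Opens) (T₁ : S₁.Opens) (T₂ : S₂.Opens), IsAffineOpen U₁ ∧
    IsAffineOpen T₁ ∧ IsAffineOpen T₂ ∧ U₁ ≤ p₁ ⁻¹ᵁ T₁ ∧ T₂ ≤ g ⁻¹ᵁ T₁ ∧
    W = f ⁻¹ᵁ U₁ ⊓ p₂ ⁻¹ᵁ T₂

theorem isAffineOpen_goodBC (hsq : IsPullback f p₂ p₁ g) {W : X₂.Opens}
    (hW : GoodBC p₁ p₂ f g W) : IsAffineOpen W := by
  obtain ⟨U₁, T₁, T₂, hU₁, hT₁, hT₂, h₁, hg, hWeq⟩ := hW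
  haveI : IsAffine (T₁ : Scheme.{u}) := hT₁
  haveI : IsAffine (U₁ : Scheme.{u}) := hU₁
  haveI : IsAffine (T₂ : Scheme.{u}) := hT₂
  exact IsAffine.of_isIso (Scheme.Hom.isPullback_resLE hsq (US := T₁)
    (UT := T₂) (UX := U₁) (UY := W) hg h₁ hWeq).isoPullback.hom

theorem exists_goodBC (hsq : IsPullback f p₂ p₁ g) (x : X₂) :
    ∃ W : X₂.Opens, GoodBC p₁ p₂ f g W ∧ x ∈ W := by
  have hpt : p₁ (f x) = g (p₂ x) := congrArg (fun k : X₂ ⟶ S₁ => k x) hsq.w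
  obtain ⟨T₁, hT₁, hxT₁, -⟩ := (Opens.isBasis_iff_nbhd.mp S₁.isBasis_affineOpens)
    (show g (p₂ x) ∈ (⊤ : S₁.Opens) from trivial)
  obtain ⟨T₂, hT₂, hxT₂, hT₂le⟩ := (Opens.isBasis_iff_nbhd.mp S₂.isBasis_affineOpens)
    (show p₂ x ∈ g ⁻¹ᵁ T₁ from hxT₁)
  have hx1 : p₁ (f x) ∈ T₁ := by rw [hpt]; exact hxT₁
  obtain ⟨U₁, hU₁, hxU₁, hU₁le⟩ := (Opens.isBasis_iff_nbhd.mp X₁.isBasis_affineOpens)
    (show f x ∈ p₁ ⁻¹ᵁ T₁ from hx1)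
  exact ⟨f ⁻¹ᵁ U₁ ⊓ p₂ ⁻¹ᵁ T₂, ⟨U₁, T₁, T₂, hU₁, hT₁, hT₂, hU₁le, hT₂le, rfl⟩, ⟨hxU₁, hxT₂⟩⟩

theorem cover_goodBC (hsq : IsPullback f p₂ p₁ g) :
    ⨆ i : {W : X₂.Opens // GoodBC p₁ p₂ f g W}, (i.1 : X₂.Opens) = ⊤ := by
  refine eq_top_iff.mpr fun x _ => ?_
  obtain ⟨W, hW, hxW⟩ := exists_goodBC p₁ p₂ f g hsq x
  exact Opens.mem_iSup.mpr ⟨⟨W, hW⟩, hxW⟩

set_option maxHeartbeats 3200000 in
theorem main9386 (hsq : IsPullback f p₂ p₁ g)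
    (Ω₁ : X₁.Modules) (d₁ : OmegaSh.Der p₁ Ω₁) (hd₁ : OmegaSh.IsUniversal d₁)
    (Ω₂ : X₂.Modules) (d₂ : OmegaSh.Der p₂ Ω₂) (hd₂ : OmegaSh.IsUniversal d₂)
    (c : (Scheme.Modules.pullback f).obj Ω₁ ⟶ Ω₂) (hc : OmegaSh.IsDiffCompat f d₁ d₂ c) :
    IsIso c := by
  haveI qc₁ : Ω₁.IsQuasicoherent := isQuasicoherent p₁ d₁ hd₁
  haveI qc₂ : Ω₂.IsQuasicoherent := isQuasicoherent p₂ d₂ hd₂
  haveI qc₃ : ((Scheme.Modules.pullback f).obj Ω₁).IsQuasicoherent :=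
    PBH8.isQuasicoherent_pullback f Ω₁
  refine QCohCrit.isIso_of_bijective_on_cover c
    (fun i : {W : X₂.Opens // GoodBC p₁ p₂ f g W} => i.1)
    (fun i => isAffineOpen_goodBC p₁ p₂ f g hsq i.2)
    (cover_goodBC p₁ p₂ f g hsq) ?_
  rintro ⟨W, hWg⟩
  have hW : IsAffineOpen W := isAffineOpen_goodBC p₁ p₂ f g hsq hWg
  obtain ⟨U₁, T₁, T₂, hU₁, hT₁, hT₂, h₁, hg, hWeq⟩ := hWg
  have e : W ≤ f ⁻¹ᵁ U₁ := hWeq.le.trans inf_le_left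
  have h₂ : W ≤ p₂ ⁻¹ᵁ T₂ := hWeq.le.trans inf_le_right
  letI a1 : Algebra Γ(S₁, T₁) Γ(X₁, U₁) := (p₁.appLE T₁ U₁ h₁).hom.toAlgebra
  letI a2 : Algebra Γ(S₂, T₂) Γ(X₂, W) := (p₂.appLE T₂ W h₂).hom.toAlgebra
  letI a3 : Algebra Γ(X₁, U₁) Γ(X₂, W) := (f.appLE U₁ W e).hom.toAlgebra
  letI a4 : Algebra Γ(S₁, T₁) Γ(S₂, T₂) := (g.appLE T₁ T₂ hg).hom.toAlgebra
  letI a5 : Algebra Γ(S₁, T₁) Γ(X₂, W) :=
    ((f.appLE U₁ W e).hom.comp (p₁.appLE T₁ U₁ h₁).hom).toAlgebra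
  haveI t1 : IsScalarTower Γ(S₁, T₁) Γ(X₁, U₁) Γ(X₂, W) :=
    IsScalarTower.of_algebraMap_eq (fun _ => rfl)
  have comm : ∀ r : Γ(S₁, T₁), (f.appLE U₁ W e).hom ((p₁.appLE T₁ U₁ h₁).hom r) =
      (p₂.appLE T₂ W h₂).hom ((g.appLE T₁ T₂ hg).hom r) := by
    intro r
    have c1 := Scheme.Hom.appLE_comp_appLE f p₁ T₁ U₁ W h₁ e
    have c2 := Scheme.Hom.appLE_comp_appLE p₂ g T₁ T₂ W hg h₂
    have c3 : p₁.appLE T₁ U₁ h₁ ≫ f.appLE U₁ W e = g.appLE T₁ T₂ hg ≫ p₂.appLE T₂ W h₂ :=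
      c1.trans ((OmegaSh.appLE_congr_hom hsq.w _ _).trans c2.symm)
    exact congrArg (fun k => k.hom r) c3
  haveI t2 : IsScalarTower Γ(S₁, T₁) Γ(S₂, T₂) Γ(X₂, W) :=
    IsScalarTower.of_algebraMap_eq (fun r => comm r)
  haveI sc : SMulCommClass Γ(S₂, T₂) Γ(X₁, U₁) Γ(X₂, W) := ⟨fun r a b => by
    simp only [Algebra.smul_def]; ring⟩
  have hpo : IsPushout (p₁.appLE T₁ U₁ h₁) (g.appLE T₁ T₂ hg) (f.appLE U₁ W e)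
      (p₂.appLE T₂ W h₂) :=
    (isIso_pushoutSection_iff hsq hg h₁ hWeq).mp
      (isIso_pushoutSection_of_isAffineOpen hsq hg h₁ hWeq hT₁ hT₂ hU₁)
  have hpo' : IsPushout (CommRingCat.ofHom (algebraMap Γ(S₁, T₁) Γ(X₁, U₁)))
      (CommRingCat.ofHom (algebraMap Γ(S₁, T₁) Γ(S₂, T₂)))
      (CommRingCat.ofHom (algebraMap Γ(X₁, U₁) Γ(X₂, W)))
      (CommRingCat.ofHom (algebraMap Γ(S₂, T₂) Γ(X₂, W))) := hpo
  haveI ip : Algebra.IsPushout Γ(S₁, T₁) Γ(S₂, T₂) Γ(X₁, U₁) Γ(X₂, W) :=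
    (CommRingCat.isPushout_iff_isPushout.mp hpo').symm
  have hμ := isBaseChange_map_of_isPushout Γ(S₁, T₁) Γ(S₂, T₂) Γ(X₁, U₁) Γ(X₂, W)
  obtain ⟨L₁, hL₁⟩ := receptacleSections p₁ d₁ hd₁ hU₁ hT₁ h₁
  obtain ⟨L₂, hL₂⟩ := receptacleSections p₂ d₂ hd₂ hW hT₂ h₂
  letI mA : Module Γ(X₁, U₁) Γ((Scheme.Modules.pullback f).obj Ω₁, W) :=
    Module.compHom _ (f.appLE U₁ W e).hom
  haveI tA : IsScalarTower Γ(X₁, U₁) Γ(X₂, W) Γ((Scheme.Modules.pullback f).obj Ω₁, W) :=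
    IsScalarTower.of_algebraMap_smul fun _ _ => rfl
  letI mA2 : Module Γ(X₁, U₁) Γ(Ω₂, W) := Module.compHom _ (f.appLE U₁ W e).hom
  haveI tA2 : IsScalarTower Γ(X₁, U₁) Γ(X₂, W) Γ(Ω₂, W) :=
    IsScalarTower.of_algebraMap_smul fun _ _ => rfl
  have hbc := PBH8.isBaseChange_cUV f Ω₁ e hW hU₁
  let cl : Γ((Scheme.Modules.pullback f).obj Ω₁, W) →ₗ[Γ(X₂, W)] Γ(Ω₂, W) :=
    { toFun := fun y => c.app W y
      map_add' := fun y z => map_add (c.app W).hom y z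
      map_smul' := fun r y => Scheme.Modules.Hom.app_smul c r y }
  let lam : Γ(Ω₁, U₁) →ₗ[Γ(X₁, U₁)] Γ(Ω₂, W) :=
    (cl.restrictScalars Γ(X₁, U₁)).comp (PBH8.cUVLin f Ω₁ e)
  have hlam : IsBaseChange Γ(X₂, W) lam := by
    refine (IsBaseChange.iff_of_equiv_comm L₁ L₂ ?_).mpr hμ
    refine LinearMap.ext_on (span_d p₁ d₁ hd₁ ⟨hU₁, T₁, hT₁, h₁⟩) ?_
    rintro _ ⟨s, rfl⟩
    show KaehlerDifferential.map Γ(S₁, T₁) Γ(S₂, T₂) Γ(X₁, U₁) Γ(X₂, W) (L₁ (d₁.app U₁ s)) =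
      L₂ (c.app W (PBH8.cUV f Ω₁ e (d₁.app U₁ s)))
    rw [hL₁, cUV_d f d₁ d₂ c hc e s, hL₂, KaehlerDifferential.map_D]
    rfl
  exact bij_of_isBaseChange (PBH8.cUVLin f Ω₁ e) hbc cl lam hlam (fun m => rfl)

end Geom

end Groth.Agent.Lib.OmegaCompat3H4
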