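import Mathlib
import Groth.Prelude
import Groth.Agent.Lib.OmegaUniv2_helper4

/-!
# Functoriality of universal derivations: the canonical map `h^*Ω → Ω'` (helper4).
APPEND-ONLY once landed.
-/

set_option autoImplicit false
set_option linter.style.haveILetI false

universe u

open CategoryTheory CategoryTheory.Limits AlgebraicGeometry Opposite TopologicalSpace
open AlgebraicGeometry.Scheme.Modules

namespace Groth.Agent.Lib.OmegaFunctH4

open Groth.Agent.Lib.OmegaUniv2H4

variable {X S X' S' : Scheme.{u}}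

theorem der_base_comp {f' : X' ⟶ S'} {Ω' : X'.Modules} (d' : OmegaSh.Der f' Ω') (b : S' ⟶ S)
    (g : X' ⟶ S) (hg : f' ≫ b = g) (V : S.Opens) (c : Γ(S, V)) :
    d'.app (g ⁻¹ᵁ V) (g.app V c) = 0 := by
  subst hg
  exact d'.d_app (X := op (b ⁻¹ᵁ V)) (b.app V c)

/-- The derivation `s ↦ d'(h♯ s)` of `O_X` into `h_* Ω'`. -/
noncomputable def pushDer (f : X ⟶ S) (f' : X' ⟶ S') (h : X' ⟶ X) (b : S' ⟶ S)
    (hsq : f' ≫ b = h ≫ f) {Ω' : X'.Modules} (d' : OmegaSh.Der f' Ω') :
    OmegaSh.Der f ((Scheme.Modules.pushforward h).obj Ω') where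
  d {W} := AddMonoidHom.mk' (fun s => d'.app (h ⁻¹ᵁ W.unop) (h.app W.unop s))
    (fun a b => by simp only [map_add]; rfl)
  d_mul {W} a b := by
    have h1 : h.app W.unop (a * b) = h.app W.unop a * h.app W.unop b := map_mul _ a b
    have h2 := der_mul d' (h ⁻¹ᵁ W.unop) (h.app W.unop a) (h.app W.unop b)
    exact (congrArg (fun z => d'.app (h ⁻¹ᵁ W.unop) z) h1).trans h2
  d_map {W W'} i s := by
    have h1 := congrArg (fun k => k.hom s) (h.c.naturality i)
    exact (congrArg (fun z => d'.app (h ⁻¹ᵁ W'.unop) z) h1).trans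
      (d'.d_map ((Opens.map h.base).op.map i) (h.app W.unop s))
  d_app {V} c := der_base_comp d' b (h ≫ f) hsq V.unop c

theorem pushDer_app (f : X ⟶ S) (f' : X' ⟶ S') (h : X' ⟶ X) (b : S' ⟶ S)
    (hsq : f' ≫ b = h ≫ f) {Ω' : X'.Modules} (d' : OmegaSh.Der f' Ω') (U : X.Opens) (s : Γ(X, U)) :
    (pushDer f f' h b hsq d').app U s = d'.app (h ⁻¹ᵁ U) (h.app U s) := rfl

theorem app_pullSect (h : X' ⟶ X) {Ω : X.Modules} {Ω' : X'.Modules}
    (c : (Scheme.Modules.pullback h).obj Ω ⟶ Ω') (U : X.Opens) (x : Γ(Ω, U)) :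
    c.app (h ⁻¹ᵁ U) (OmegaSh.pullSect h Ω U x) =
      (((Scheme.Modules.pullbackPushforwardAdjunction h).homEquiv Ω Ω') c).app U x := by
  rw [Adjunction.homEquiv_unit]
  rfl

theorem main9370 (f : X ⟶ S) (f' : X' ⟶ S') (h : X' ⟶ X) (b : S' ⟶ S)
    (hsq : f' ≫ b = h ≫ f) (Ω : X.Modules) (d : OmegaSh.Der f Ω) (hd : OmegaSh.IsUniversal d)
    (Ω' : X'.Modules) (d' : OmegaSh.Der f' Ω') :
    ∃! c : (Scheme.Modules.pullback h).obj Ω ⟶ Ω', OmegaSh.IsDiffCompat h d d' c := by
  have key : ∀ c : (Scheme.Modules.pullback h).obj Ω ⟶ Ω',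
      OmegaSh.IsDiffCompat h d d' c ↔
        d.postcomp (((Scheme.Modules.pullbackPushforwardAdjunction h).homEquiv Ω Ω') c).val =
          pushDer f f' h b hsq d' := by
    intro c
    constructor
    · intro hc
      refine PresheafOfModules.Derivation.ext ?_
      funext U
      refine AddMonoidHom.ext fun s => ?_
      exact (app_pullSect h c U.unop (d.app U.unop s)).symm.trans (hc U.unop s)
    · intro hc U s
      have h1 := PresheafOfModules.Derivation.congr_d hc (X := op U) s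
      exact (app_pullSect h c U (d.app U s)).trans h1
  obtain ⟨α, hα, hαu⟩ := hd _ (pushDer f f' h b hsq d')
  refine ⟨((Scheme.Modules.pullbackPushforwardAdjunction h).homEquiv Ω Ω').symm α, ?_,
    fun c hc => ?_⟩
  · show OmegaSh.IsDiffCompat h d d' _
    rw [key, Equiv.apply_symm_apply]
    exact hα
  · have h1 := hαu _ ((key c).mp hc)
    exact (Equiv.eq_symm_apply _).mpr h1

end Groth.Agent.Lib.OmegaFunctH4
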