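import Mathlib
import Groth.Prelude
import Groth.Agent.Lib.OmegaFunct_helper4
import Groth.Agent.Lib.OmegaCompat3_helper4
import Groth.Agent.Lib.ConormSplit_helper4
import Groth.Agent.Lib.Desc4_helper8

/-!
# Differentials of a groupoid scheme and the conormal sheaf of the identity (helper7)

* `app_idealSect_eq_zero`: sections of the kernel ideal of `f` die under `f♯`.
* `exists_conormalDiff`: the canonical map `C_{Z/X} → i^*Ω'` induced by a derivation exists.
* `zeroDer_universal`: the zero module carries the universal derivation relative to the identity.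
* `conormal_iso_of_section`: for a section `e` of a quasi-separated `t`, `C_e ≅ e^*Ω_t`.
* `omega_iso_pullback_conormal`: the abstract form of `Ω_{R/U} ≅ s^* C_{U/R}` for groupoids.
APPEND-ONLY once landed.
-/

set_option autoImplicit false
set_option linter.style.haveILetI false

universe u

open CategoryTheory CategoryTheory.Limits AlgebraicGeometry Opposite TopologicalSpace
open AlgebraicGeometry.Scheme.Modules ZeroObject

namespace Groth.Agent.Lib.GrpdOmegaH7

section Ker

theorem app_idealSect_eq_zero {Z X : Scheme.{u}} (f : Z ⟶ X) (U : X.Opens)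
    (s : Γ(ClSub.idealMod f.ker, U)) :
    (f.app U).hom (OmegaSh.idealSect f.ker U s) = 0 := by
  have h0 : (f.ker.subschemeι.app U).hom (OmegaSh.idealSect f.ker U s) = 0 :=
    TensH8.kernel_section_mem (ClSub.toSubscheme f.ker) s
  have hij : f.toImage ≫ f.ker.subschemeι = f := f.toImage_imageι
  have hle : f ⁻¹ᵁ U ≤ f.toImage ⁻¹ᵁ (f.ker.subschemeι ⁻¹ᵁ U) := by
    intro z hz
    have h2 : (f.toImage ≫ f.ker.subschemeι) z = f z := by rw [hij]
    have h3 : f.ker.subschemeι (f.toImage z) = f z := h2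
    show f.ker.subschemeι (f.toImage z) ∈ U
    rw [h3]
    exact hz
  have c1 := Scheme.Hom.appLE_comp_appLE f.toImage f.ker.subschemeι U
    (f.ker.subschemeι ⁻¹ᵁ U) (f ⁻¹ᵁ U) le_rfl hle
  have c3 : f.appLE U (f ⁻¹ᵁ U) le_rfl = f.app U := f.appLE_eq_app
  have c4 : f.ker.subschemeι.appLE U (f.ker.subschemeι ⁻¹ᵁ U) le_rfl = f.ker.subschemeι.app U :=
    f.ker.subschemeι.appLE_eq_app
  have c5 := congrArg (fun k => k.hom (OmegaSh.idealSect f.ker U s))
    ((c1.trans (OmegaSh.appLE_congr_hom hij _ le_rfl)).trans c3)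
  refine c5.symm.trans ?_
  show (f.toImage.appLE _ _ hle).hom
    ((f.ker.subschemeι.appLE U (f.ker.subschemeι ⁻¹ᵁ U) le_rfl).hom
      (OmegaSh.idealSect f.ker U s)) = 0
  rw [c4, h0, map_zero]

end Ker

section ConormalDiff

variable {Z X Y : Scheme.{u}} (i : Z ⟶ X) {f : X ⟶ Y} {Ω' : X.Modules} (d : OmegaSh.Der f Ω')

/-- The additive map `s ↦ i^*(d s)` on sections of the ideal. -/
noncomputable def psiHom (U : X.Opens) :
    Γ(ClSub.idealMod i.ker, U) →+ Γ((Scheme.Modules.pullback i).obj Ω', i ⁻¹ᵁ U) :=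
  ((OmegaSh.pullSect i Ω' U).hom).comp ((d.app U).comp (OmegaSh.idealSect i.ker U))

theorem psiHom_apply (U : X.Opens) (s : Γ(ClSub.idealMod i.ker, U)) :
    psiHom i d U s = OmegaSh.pullSect i Ω' U (d.app U (OmegaSh.idealSect i.ker U s)) := rfl

theorem psiHom_res {O O' : X.Opens} (h : O' ≤ O) (s : Γ(ClSub.idealMod i.ker, O)) :
    ((Scheme.Modules.pullback i).obj Ω').presheaf.map (homOfLE (i.preimage_mono h)).op
        (psiHom i d O s) =
      psiHom i d O' ((ClSub.idealMod i.ker).presheaf.map (homOfLE h).op s) := by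
  have e1 := Groth.Agent.Lib.ConormSeqH4.idealSect_res i.ker h s
  have e2 := Groth.Agent.Lib.OmegaUniv2H4.der_map d h (OmegaSh.idealSect i.ker O s)
  have e3 := QCohCrit.app_naturality ((pullbackPushforwardAdjunction i).unit.app Ω')
    (homOfLE h) (d.app O (OmegaSh.idealSect i.ker O s))
  have e12 : d.app O' (OmegaSh.idealSect i.ker O'
      ((ClSub.idealMod i.ker).presheaf.map (homOfLE h).op s)) =
      Ω'.presheaf.map (homOfLE h).op (d.app O (OmegaSh.idealSect i.ker O s)) :=
    (congrArg (fun z => d.app O' z) e1).trans e2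
  exact ((congrArg (fun z => OmegaSh.pullSect i Ω' O' z) e12).trans e3).symm

theorem psiHom_smul (U : X.Opens) (r : Γ(X, U)) (s : Γ(ClSub.idealMod i.ker, U)) :
    psiHom i d U (r • s) = (i.app U).hom r • psiHom i d U s := by
  have e1 : OmegaSh.idealSect i.ker U (r • s) = r * OmegaSh.idealSect i.ker U s :=
    TensH8.idealModι_smul i.ker r s
  have e2 := Groth.Agent.Lib.OmegaUniv2H4.der_mul d U r (OmegaSh.idealSect i.ker U s)
  have e3 : ∀ (a : Γ(X, U)) (y : Γ(Ω', U)),
      OmegaSh.pullSect i Ω' U (a • y) = (i.app U).hom a • OmegaSh.pullSect i Ω' U y :=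
    fun a y => Scheme.Modules.Hom.app_smul ((pullbackPushforwardAdjunction i).unit.app Ω') a y
  have e5 : (i.app U).hom (OmegaSh.idealSect i.ker U s) = 0 := app_idealSect_eq_zero i U s
  have step1 : psiHom i d U (r • s) =
      OmegaSh.pullSect i Ω' U (r • d.app U (OmegaSh.idealSect i.ker U s) +
        OmegaSh.idealSect i.ker U s • d.app U r) :=
    congrArg (fun z => OmegaSh.pullSect i Ω' U z) ((congrArg (fun z => d.app U z) e1).trans e2)
  have step2 : OmegaSh.pullSect i Ω' U (r • d.app U (OmegaSh.idealSect i.ker U s) +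
        OmegaSh.idealSect i.ker U s • d.app U r) =
      OmegaSh.pullSect i Ω' U (r • d.app U (OmegaSh.idealSect i.ker U s)) +
        OmegaSh.pullSect i Ω' U (OmegaSh.idealSect i.ker U s • d.app U r) :=
    map_add (OmegaSh.pullSect i Ω' U).hom _ _
  have step3 := e3 r (d.app U (OmegaSh.idealSect i.ker U s))
  have step4 := e3 (OmegaSh.idealSect i.ker U s) (d.app U r)
  rw [step1, step2, step3, step4, e5, zero_smul, add_zero]
  rfl

/-- natural transformation of abelian presheaves underlying `psi`. -/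
noncomputable def psiNat : (ClSub.idealMod i.ker).val.presheaf ⟶
    ((Scheme.Modules.pushforward i).obj ((Scheme.Modules.pullback i).obj Ω')).val.presheaf where
  app U := AddCommGrpCat.ofHom (psiHom i d U.unop)
  naturality U V j := by
    refine AddCommGrpCat.hom_ext (AddMonoidHom.ext fun x => ?_)
    exact (psiHom_res i d (leOfHom j.unop) x).symm

/-- `𝓘 ⟶ i_* i^* Ω'`, `s ↦ i^*(d s)`. -/
noncomputable def psi : ClSub.idealMod i.ker ⟶
    (Scheme.Modules.pushforward i).obj ((Scheme.Modules.pullback i).obj Ω') :=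
  ⟨PresheafOfModules.homMk (psiNat i d) (fun U r m => psiHom_smul i d U.unop r m)⟩

theorem psi_app (U : X.Opens) (s : Γ(ClSub.idealMod i.ker, U)) :
    (psi i d).app U s = psiHom i d U s := rfl

theorem exists_conormalDiff :
    ∃ φ : Omega.conormal i ⟶ (Scheme.Modules.pullback i).obj Ω', OmegaSh.IsConormalDiff i d φ := by
  refine ⟨((pullbackPushforwardAdjunction i).homEquiv (ClSub.idealMod i.ker)
    ((Scheme.Modules.pullback i).obj Ω')).symm (psi i d), fun U s => ?_⟩
  have h1 := Groth.Agent.Lib.OmegaFunctH4.app_pullSect i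
    (((pullbackPushforwardAdjunction i).homEquiv (ClSub.idealMod i.ker)
      ((Scheme.Modules.pullback i).obj Ω')).symm (psi i d)) U s
  rw [Equiv.apply_symm_apply] at h1
  exact h1

end ConormalDiff

section Zero

/-- The zero derivation. -/
noncomputable def zeroDer {X Y : Scheme.{u}} (q : X ⟶ Y) (F : X.Modules) : OmegaSh.Der q F where
  d {W} := 0
  d_mul {W} a b := by simp <;> rfl
  d_map {W W'} j x := by simp <;> rfl
  d_app {V} a := by simp <;> rfl

theorem zeroDer_app {X Y : Scheme.{u}} (q : X ⟶ Y) (F : X.Modules) (W : X.Opens) (a : Γ(X, W)) :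
    (zeroDer q F).app W a = 0 := rfl

theorem zeroDer_universal {U : Scheme.{u}} (q : U ⟶ U) (hq : q = 𝟙 U) :
    OmegaSh.IsUniversal (zeroDer q (0 : U.Modules)) := by
  subst hq
  intro F D
  have hD : ∀ (W : U.Opens) (a : Γ(U, W)), D.app W a = 0 := by
    intro W a
    have h1 := D.d_app (X := op W) a
    exact h1
  refine ⟨0, ?_, fun β _ => (isZero_zero _).eq_of_src β 0⟩
  refine PresheafOfModules.Derivation.ext ?_
  funext W
  refine AddMonoidHom.ext fun a => ?_
  refine Eq.trans ?_ (hD W.unop a).symm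
  show ((0 : (0 : U.Modules) ⟶ F).val.app W).hom ((zeroDer (𝟙 U) (0 : U.Modules)).d a) = 0
  exact map_zero _

end Zero

section Section

variable {R U : Scheme.{u}} (t : R ⟶ U) (e : U ⟶ R)

theorem conormal_iso_of_section (he : e ≫ t = 𝟙 U) [QuasiSeparated t] :
    Nonempty (Omega.conormal e ≅ (Scheme.Modules.pullback e).obj (Omega.sheaf t)) := by
  haveI : IsImmersion (e ≫ t) := by rw [he]; infer_instance
  haveI : IsImmersion e := IsImmersion.of_comp e t
  haveI : QuasiCompact (e ≫ t) := by rw [he]; infer_instance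
  haveI : QuasiCompact e := QuasiCompact.of_comp e t
  obtain ⟨φ, hφ⟩ := exists_conormalDiff e (OmegaSh.dOmega t)
  have hX := Groth.Agent.Lib.OmegaUniv2H4.main5005 t
  have hZ := zeroDer_universal (e ≫ t) he
  have hc : OmegaSh.IsDiffCompat e (OmegaSh.dOmega t) (zeroDer (e ≫ t) (0 : U.Modules)) 0 := by
    intro W s
    rfl
  obtain ⟨w, hex, ⟨r, hr⟩, -⟩ := Groth.Agent.Lib.ConormSplitH4.main9384 t e t he
    (by rw [he, Category.comp_id]) (Omega.sheaf t) (OmegaSh.dOmega t) hX (0 : U.Modules)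
    (zeroDer (e ≫ t) (0 : U.Modules)) hZ φ hφ 0 hc
  haveI : Epi φ := hex.epi_f rfl
  haveI : IsSplitMono φ := ⟨⟨⟨r, hr⟩⟩⟩
  haveI : IsIso φ := isIso_of_epi_of_isSplitMono φ
  exact ⟨asIso φ⟩

end Section

section Main

variable {R U : Scheme.{u}} (s t : R ⟶ U) (e : U ⟶ R)

theorem omega_iso_pullback_conormal (he : e ≫ t = 𝟙 U) [QuasiSeparated t]
    (c : pullback s t ⟶ R) (hpb : IsPullback c (pullback.fst s t) t t)
    (k : R ⟶ pullback s t) (hkc : k ≫ c = 𝟙 R) (hk2 : k ≫ pullback.snd s t = s ≫ e) :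
    Nonempty (Omega.sheaf t ≅ (Scheme.Modules.pullback s).obj (Omega.conormal e)) := by
  obtain ⟨ψ⟩ := conormal_iso_of_section t e he
  have hΩ := Groth.Agent.Lib.OmegaUniv2H4.main5005 t
  have hΩ₁ := Groth.Agent.Lib.OmegaUniv2H4.main5005 (pullback.fst s t)
  obtain ⟨c₂, hc₂, -⟩ := Groth.Agent.Lib.OmegaFunctH4.main9370 t (pullback.fst s t)
    (pullback.snd s t) s pullback.condition (Omega.sheaf t) (OmegaSh.dOmega t) hΩ
    (Omega.sheaf (pullback.fst s t)) (OmegaSh.dOmega (pullback.fst s t))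
  obtain ⟨c₁, hc₁, -⟩ := Groth.Agent.Lib.OmegaFunctH4.main9370 t (pullback.fst s t)
    c t hpb.w.symm (Omega.sheaf t) (OmegaSh.dOmega t) hΩ
    (Omega.sheaf (pullback.fst s t)) (OmegaSh.dOmega (pullback.fst s t))
  haveI : IsIso c₂ := Groth.Agent.Lib.OmegaCompat3H4.main9386 t (pullback.fst s t)
    (pullback.snd s t) s (IsPullback.of_hasPullback s t).flip (Omega.sheaf t) (OmegaSh.dOmega t) hΩ
    (Omega.sheaf (pullback.fst s t)) (OmegaSh.dOmega (pullback.fst s t)) hΩ₁ c₂ hc₂
  haveI : IsIso c₁ := Groth.Agent.Lib.OmegaCompat3H4.main9386 t (pullback.fst s t)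
    c t hpb (Omega.sheaf t) (OmegaSh.dOmega t) hΩ
    (Omega.sheaf (pullback.fst s t)) (OmegaSh.dOmega (pullback.fst s t)) hΩ₁ c₁ hc₁
  refine ⟨?_⟩
  exact ((Scheme.Modules.pullbackId R).app (Omega.sheaf t)).symm ≪≫
    ((DescH8.pbIso k c (𝟙 R) hkc).app (Omega.sheaf t)).symm ≪≫
    (Scheme.Modules.pullback k).mapIso (asIso c₁ ≪≫ (asIso c₂).symm) ≪≫
    (DescH8.pbIso k (pullback.snd s t) (s ≫ e) hk2).app (Omega.sheaf t) ≪≫
    ((DescH8.pbIso s e (s ≫ e) rfl).app (Omega.sheaf t)).symm ≪≫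
    (Scheme.Modules.pullback s).mapIso ψ.symm

end Main

end Groth.Agent.Lib.GrpdOmegaH7
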