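import Mathlib
import Groth.Prelude
import Groth.Agent.Lib.GrpdOmega1_helper7

/-!
# The canonical map of conormal sheaves `gZ^* C_{Z'/X'} → C_{Z/X}` of a commutative square (helper7)

`aSec`: the `g♯`-semilinear map `𝓘' → g_* 𝓘` on sections; `phi`: its composite with the unit,
`𝓘' → i'_* gZ_* i^* 𝓘`; `isConormalMap_iff`: a map `φ` is the conormal map iff its double adjoint
is `phi`; `main9371`: existence and uniqueness.
APPEND-ONLY once landed.
-/

set_option autoImplicit false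
set_option linter.style.haveILetI false

universe u

open CategoryTheory CategoryTheory.Limits AlgebraicGeometry Opposite TopologicalSpace
open AlgebraicGeometry.Scheme.Modules

namespace Groth.Agent.Lib.ConormBCH7

open Groth.Agent.Lib.GrpdOmegaH7

section Basic

variable {X : Scheme.{u}}

theorem idealSect_injective (I : X.IdealSheafData) (U : X.Opens) :
    Function.Injective (OmegaSh.idealSect I U) :=
  fun _ _ h => TensH8.idealModι_injective I U h

theorem idealSect_smul (I : X.IdealSheafData) (U : X.Opens) (r : Γ(X, U))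
    (s : Γ(ClSub.idealMod I, U)) :
    OmegaSh.idealSect I U (r • s) = r * OmegaSh.idealSect I U s :=
  TensH8.idealModι_smul I r s

theorem map_map_sec' (M : X.Modules) {U V W : X.Opens} (h1 : U ≤ V) (h2 : V ≤ W)
    (x : Γ(M, W)) :
    M.presheaf.map (homOfLE h1).op (M.presheaf.map (homOfLE h2).op x) =
      M.presheaf.map (homOfLE (h1.trans h2)).op x := by
  have := congrArg (fun ψ => ψ x) (M.presheaf.map_comp (homOfLE h2).op (homOfLE h1).op)
  exact this.symm

theorem cUV_res' {Y : Scheme.{u}} (f : Y ⟶ X) (F : X.Modules) {U U' : Y.Opens} {V : X.Opens}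
    (h : U ≤ f ⁻¹ᵁ V) (hU : U' ≤ U) (x : Γ(F, V)) :
    ((Scheme.Modules.pullback f).obj F).presheaf.map (homOfLE hU).op (PBH8.cUV f F h x) =
      PBH8.cUV f F (hU.trans h) x :=
  map_map_sec' _ hU h _

theorem app_res {Y : Scheme.{u}} (g : Y ⟶ X) {O O' : X.Opens} (h : O' ≤ O) (x : Γ(X, O)) :
    (g.app O').hom ((X.presheaf.map (homOfLE h).op).hom x) =
      (Y.presheaf.map (homOfLE (g.preimage_mono h)).op).hom ((g.app O).hom x) :=
  congrArg (fun k => k.hom x) (g.naturality (homOfLE h).op)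

end Basic

variable {Z X Z' X' : Scheme.{u}} (i : Z ⟶ X) (i' : Z' ⟶ X') (g : X ⟶ X') (gZ : Z ⟶ Z')
  (hsq : gZ ≫ i' = i ≫ g)

include hsq in
theorem preimage_le (U' : X'.Opens) : gZ ⁻¹ᵁ (i' ⁻¹ᵁ U') ≤ i ⁻¹ᵁ (g ⁻¹ᵁ U') := by
  intro z hz
  have h1 : (gZ ≫ i') z = (i ≫ g) z := by rw [hsq]
  have h2 : i' (gZ z) = g (i z) := h1
  show g (i z) ∈ U'
  rw [← h2]
  exact hz

include hsq in
theorem square_app (U' : X'.Opens) (r : Γ(X', U')) :
    (gZ.app (i' ⁻¹ᵁ U')).hom ((i'.app U').hom r) =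
      (i.appLE (g ⁻¹ᵁ U') (gZ ⁻¹ᵁ (i' ⁻¹ᵁ U')) (preimage_le i i' g gZ hsq U')).hom
        ((g.app U').hom r) := by
  have c1 := Scheme.Hom.appLE_comp_appLE gZ i' U' (i' ⁻¹ᵁ U') (gZ ⁻¹ᵁ (i' ⁻¹ᵁ U')) le_rfl le_rfl
  have c2 := Scheme.Hom.appLE_comp_appLE i g U' (g ⁻¹ᵁ U') (gZ ⁻¹ᵁ (i' ⁻¹ᵁ U')) le_rfl
    (preimage_le i i' g gZ hsq U')
  have c := c1.trans ((OmegaSh.appLE_congr_hom hsq _ _).trans c2.symm)
  have e1 : i'.appLE U' (i' ⁻¹ᵁ U') le_rfl = i'.app U' := i'.appLE_eq_app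
  have e2 : gZ.appLE (i' ⁻¹ᵁ U') (gZ ⁻¹ᵁ (i' ⁻¹ᵁ U')) le_rfl = gZ.app (i' ⁻¹ᵁ U') :=
    gZ.appLE_eq_app
  have e3 : g.appLE U' (g ⁻¹ᵁ U') le_rfl = g.app U' := g.appLE_eq_app
  rw [e1, e2, e3] at c
  exact congrArg (fun k => k.hom r) c

section ASec

variable [QuasiCompact i]

include hsq in
theorem exists_aSec (U' : X'.Opens) (s' : Γ(ClSub.idealMod i'.ker, U')) :
    ∃ s : Γ(ClSub.idealMod i.ker, g ⁻¹ᵁ U'),
      OmegaSh.idealSect i.ker (g ⁻¹ᵁ U') s =
        (g.app U').hom (OmegaSh.idealSect i'.ker U' s') := by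
  refine Groth.Agent.Lib.ConormSeqH4.exists_ideal_section_comp g i (gZ ≫ i') hsq.symm
    (OmegaSh.idealSect i'.ker U' s') ?_
  show (gZ.app (i' ⁻¹ᵁ U')).hom ((i'.app U').hom (OmegaSh.idealSect i'.ker U' s')) = 0
  rw [app_idealSect_eq_zero i' U' s', map_zero]

/-- The section of the ideal of `Z` over `g⁻¹ U'` with image `g♯ s'`. -/
noncomputable def aSec (U' : X'.Opens) (s' : Γ(ClSub.idealMod i'.ker, U')) :
    Γ(ClSub.idealMod i.ker, g ⁻¹ᵁ U') :=
  Classical.choose (exists_aSec i i' g gZ hsq U' s')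

theorem aSec_spec (U' : X'.Opens) (s' : Γ(ClSub.idealMod i'.ker, U')) :
    OmegaSh.idealSect i.ker (g ⁻¹ᵁ U') (aSec i i' g gZ hsq U' s') =
      (g.app U').hom (OmegaSh.idealSect i'.ker U' s') :=
  Classical.choose_spec (exists_aSec i i' g gZ hsq U' s')

theorem aSec_unique (U' : X'.Opens) (s' : Γ(ClSub.idealMod i'.ker, U'))
    (s : Γ(ClSub.idealMod i.ker, g ⁻¹ᵁ U'))
    (h : OmegaSh.idealSect i.ker (g ⁻¹ᵁ U') s =
      (g.app U').hom (OmegaSh.idealSect i'.ker U' s')) :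
    s = aSec i i' g gZ hsq U' s' :=
  idealSect_injective _ _ (h.trans (aSec_spec i i' g gZ hsq U' s').symm)

theorem aSec_add (U' : X'.Opens) (a b : Γ(ClSub.idealMod i'.ker, U')) :
    aSec i i' g gZ hsq U' (a + b) = aSec i i' g gZ hsq U' a + aSec i i' g gZ hsq U' b := by
  refine (aSec_unique i i' g gZ hsq U' (a + b) _ ?_).symm
  rw [map_add, aSec_spec, aSec_spec, map_add, map_add]

theorem aSec_smul (U' : X'.Opens) (r : Γ(X', U')) (a : Γ(ClSub.idealMod i'.ker, U')) :
    aSec i i' g gZ hsq U' (r • a) = (g.app U').hom r • aSec i i' g gZ hsq U' a := by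
  refine (aSec_unique i i' g gZ hsq U' (r • a) _ ?_).symm
  rw [idealSect_smul, aSec_spec, idealSect_smul, map_mul]

theorem aSec_res {O O' : X'.Opens} (h : O' ≤ O) (s' : Γ(ClSub.idealMod i'.ker, O)) :
    aSec i i' g gZ hsq O' ((ClSub.idealMod i'.ker).presheaf.map (homOfLE h).op s') =
      (ClSub.idealMod i.ker).presheaf.map (homOfLE (g.preimage_mono h)).op
        (aSec i i' g gZ hsq O s') := by
  refine (aSec_unique i i' g gZ hsq O' _ _ ?_).symm
  have e1 := Groth.Agent.Lib.ConormSeqH4.idealSect_res i.ker (g.preimage_mono h)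
    (aSec i i' g gZ hsq O s')
  have e2 := aSec_spec i i' g gZ hsq O s'
  have e3 := Groth.Agent.Lib.ConormSeqH4.idealSect_res i'.ker h s'
  have e4 := app_res g h (OmegaSh.idealSect i'.ker O s')
  exact e1.trans ((congrArg
    (fun z => (X.presheaf.map (homOfLE (g.preimage_mono h)).op).hom z) e2).trans
    (e4.symm.trans (congrArg (fun z => (g.app O').hom z) e3.symm)))

/-- `s' ↦ [g♯ s']` on sections. -/
noncomputable def phiFun (U' : X'.Opens) (s' : Γ(ClSub.idealMod i'.ker, U')) :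
    Γ(Omega.conormal i, gZ ⁻¹ᵁ (i' ⁻¹ᵁ U')) :=
  PBH8.cUV i (ClSub.idealMod i.ker) (preimage_le i i' g gZ hsq U') (aSec i i' g gZ hsq U' s')

theorem phiFun_add (U' : X'.Opens) (a b : Γ(ClSub.idealMod i'.ker, U')) :
    phiFun i i' g gZ hsq U' (a + b) = phiFun i i' g gZ hsq U' a + phiFun i i' g gZ hsq U' b :=
  (congrArg (fun z => PBH8.cUV i (ClSub.idealMod i.ker) (preimage_le i i' g gZ hsq U') z)
    (aSec_add i i' g gZ hsq U' a b)).trans (PBH8.cUV_add i _ _ _ _)

theorem phiFun_smul (U' : X'.Opens) (r : Γ(X', U')) (a : Γ(ClSub.idealMod i'.ker, U')) :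
    phiFun i i' g gZ hsq U' (r • a) =
      (gZ.app (i' ⁻¹ᵁ U')).hom ((i'.app U').hom r) • phiFun i i' g gZ hsq U' a := by
  have h1 := congrArg
    (fun z => PBH8.cUV i (ClSub.idealMod i.ker) (preimage_le i i' g gZ hsq U') z)
    (aSec_smul i i' g gZ hsq U' r a)
  have h2 := PBH8.cUV_smul i (ClSub.idealMod i.ker) (preimage_le i i' g gZ hsq U')
    ((g.app U').hom r) (aSec i i' g gZ hsq U' a)
  have h3 := square_app i i' g gZ hsq U' r
  refine (h1.trans h2).trans ?_
  rw [h3]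
  rfl

theorem phiFun_res {O O' : X'.Opens} (h : O' ≤ O) (s' : Γ(ClSub.idealMod i'.ker, O)) :
    (Omega.conormal i).presheaf.map
        (homOfLE (gZ.preimage_mono (i'.preimage_mono h))).op (phiFun i i' g gZ hsq O s') =
      phiFun i i' g gZ hsq O' ((ClSub.idealMod i'.ker).presheaf.map (homOfLE h).op s') := by
  have e1 := cUV_res' i (ClSub.idealMod i.ker) (preimage_le i i' g gZ hsq O)
    (gZ.preimage_mono (i'.preimage_mono h)) (aSec i i' g gZ hsq O s')
  have e2 := congrArg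
    (fun z => PBH8.cUV i (ClSub.idealMod i.ker) (preimage_le i i' g gZ hsq O') z)
    (aSec_res i i' g gZ hsq h s')
  have e3 := Groth.Agent.Lib.ConormSeqH4.cUV_src_res i (ClSub.idealMod i.ker)
    (g.preimage_mono h) (preimage_le i i' g gZ hsq O') (aSec i i' g gZ hsq O s')
  exact e1.trans (e2.trans e3).symm

/-- `phiFun` as an additive map. -/
noncomputable def phiHom (U' : X'.Opens) :
    Γ(ClSub.idealMod i'.ker, U') →+ Γ(Omega.conormal i, gZ ⁻¹ᵁ (i' ⁻¹ᵁ U')) :=
  AddMonoidHom.mk' (phiFun i i' g gZ hsq U') (phiFun_add i i' g gZ hsq U')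

/-- natural transformation of abelian presheaves underlying `phi`. -/
noncomputable def phiNat : (ClSub.idealMod i'.ker).val.presheaf ⟶
    ((Scheme.Modules.pushforward i').obj
      ((Scheme.Modules.pushforward gZ).obj (Omega.conormal i))).val.presheaf where
  app U := AddCommGrpCat.ofHom (phiHom i i' g gZ hsq U.unop)
  naturality U V j := by
    refine AddCommGrpCat.hom_ext (AddMonoidHom.ext fun x => ?_)
    exact (phiFun_res i i' g gZ hsq (leOfHom j.unop) x).symm

/-- `𝓘' ⟶ i'_* gZ_* C_{Z/X}`, `s' ↦ [g♯ s']`. -/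
noncomputable def phi : ClSub.idealMod i'.ker ⟶
    (Scheme.Modules.pushforward i').obj
      ((Scheme.Modules.pushforward gZ).obj (Omega.conormal i)) :=
  ⟨PresheafOfModules.homMk (phiNat i i' g gZ hsq)
    (fun U r m => phiFun_smul i i' g gZ hsq U.unop r m)⟩

theorem phi_app (U' : X'.Opens) (s' : Γ(ClSub.idealMod i'.ker, U')) :
    (phi i i' g gZ hsq).app U' s' = phiFun i i' g gZ hsq U' s' := rfl

omit [QuasiCompact i] in
/-- The value of the double adjoint of `φ` on sections. -/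
theorem adj_adj_app (φ : (Scheme.Modules.pullback gZ).obj (Omega.conormal i') ⟶ Omega.conormal i)
    (U' : X'.Opens) (s' : Γ(ClSub.idealMod i'.ker, U')) :
    (((pullbackPushforwardAdjunction i').homEquiv (ClSub.idealMod i'.ker)
      ((Scheme.Modules.pushforward gZ).obj (Omega.conormal i)))
      (((pullbackPushforwardAdjunction gZ).homEquiv (Omega.conormal i') (Omega.conormal i))
        φ)).app U' s' =
      φ.app (gZ ⁻¹ᵁ (i' ⁻¹ᵁ U')) (OmegaSh.pullSect gZ (Omega.conormal i') (i' ⁻¹ᵁ U')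
        (OmegaSh.conormalSect i' U' s')) := by
  have h1 := Groth.Agent.Lib.OmegaFunctH4.app_pullSect i'
    (Ω := ClSub.idealMod i'.ker) (Ω' := (Scheme.Modules.pushforward gZ).obj (Omega.conormal i))
    (((pullbackPushforwardAdjunction gZ).homEquiv (Omega.conormal i') (Omega.conormal i)) φ)
    U' s'
  have h2 := Groth.Agent.Lib.OmegaFunctH4.app_pullSect gZ φ (i' ⁻¹ᵁ U')
    (OmegaSh.conormalSect i' U' s')
  exact h1.symm.trans h2.symm

theorem isConormalMap_iff
    (φ : (Scheme.Modules.pullback gZ).obj (Omega.conormal i') ⟶ Omega.conormal i) :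
    OmegaSh.IsConormalMap i i' g gZ φ ↔
      ((pullbackPushforwardAdjunction i').homEquiv (ClSub.idealMod i'.ker)
        ((Scheme.Modules.pushforward gZ).obj (Omega.conormal i)))
        (((pullbackPushforwardAdjunction gZ).homEquiv (Omega.conormal i') (Omega.conormal i))
          φ) = phi i i' g gZ hsq := by
  constructor
  · intro hφ
    refine Scheme.Modules.hom_ext _ _ fun U' => ?_
    refine AddCommGrpCat.hom_ext (AddMonoidHom.ext fun s' => ?_)
    have h1 := adj_adj_app i i' gZ φ U' s'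
    have h2 := hφ.2 U' s' (aSec i i' g gZ hsq U' s') (aSec_spec i i' g gZ hsq U' s')
      (gZ ⁻¹ᵁ (i' ⁻¹ᵁ U')) (le_refl _) (preimage_le i i' g gZ hsq U')
    have h3 := Groth.Agent.Lib.ConormSeqH4.map_homOfLE_rfl (Omega.conormal i)
      (gZ ⁻¹ᵁ (i' ⁻¹ᵁ U'))
      (φ.app (gZ ⁻¹ᵁ (i' ⁻¹ᵁ U')) (OmegaSh.pullSect gZ (Omega.conormal i') (i' ⁻¹ᵁ U')
        (OmegaSh.conormalSect i' U' s')))
    exact h1.trans (h3.symm.trans h2)
  · intro hφ
    refine ⟨hsq, fun U' s' s hc V h₁ h₂ => ?_⟩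
    have hs : s = aSec i i' g gZ hsq U' s' := aSec_unique i i' g gZ hsq U' s' s hc
    subst hs
    have h1 := adj_adj_app i i' gZ φ U' s'
    rw [hφ] at h1
    have h4 := cUV_res' i (ClSub.idealMod i.ker) (preimage_le i i' g gZ hsq U') h₁
      (aSec i i' g gZ hsq U' s')
    have h5 : (Omega.conormal i).presheaf.map (homOfLE h₁).op
        (φ.app (gZ ⁻¹ᵁ (i' ⁻¹ᵁ U')) (OmegaSh.pullSect gZ (Omega.conormal i') (i' ⁻¹ᵁ U')
          (OmegaSh.conormalSect i' U' s'))) =
        (Omega.conormal i).presheaf.map (homOfLE h₁).op (phiFun i i' g gZ hsq U' s') :=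
      congrArg (fun z => (Omega.conormal i).presheaf.map (homOfLE h₁).op z) h1.symm
    exact h5.trans h4

include hsq in
theorem main9371 :
    ∃! φ : (Scheme.Modules.pullback gZ).obj (Omega.conormal i') ⟶ Omega.conormal i,
      OmegaSh.IsConormalMap i i' g gZ φ := by
  refine ⟨((pullbackPushforwardAdjunction gZ).homEquiv (Omega.conormal i')
    (Omega.conormal i)).symm (((pullbackPushforwardAdjunction i').homEquiv
      (ClSub.idealMod i'.ker) ((Scheme.Modules.pushforward gZ).obj (Omega.conormal i))).symm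
      (phi i i' g gZ hsq)), ?_, fun φ' hφ' => ?_⟩
  · show OmegaSh.IsConormalMap i i' g gZ _
    rw [isConormalMap_iff i i' g gZ hsq, Equiv.apply_symm_apply, Equiv.apply_symm_apply]
  · have h := (isConormalMap_iff i i' g gZ hsq φ').mp hφ'
    rw [← h, Equiv.symm_apply_apply, Equiv.symm_apply_apply]

end ASec

end Groth.Agent.Lib.ConormBCH7
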