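import Mathlib
import Groth.Prelude.Def_Koszul
import Groth.Prelude.Def_LCI2
import Groth.Prelude.Def_CAlgX
import Groth.Agent.Lib.KoszulTop_helper7

/-!
# Low degrees of the Koszul complex (mapping-cone model): `H^{-1} = 0` iff `H_1`-regular.
-/

set_option autoImplicit false
universe u
open CategoryTheory CategoryTheory.Limits CochainComplex HomComplex

namespace Groth.Agent.Lib.KoszulLow

variable {A : Type u} [CommRing A]

section coneX

variable {F G : CochainComplex (ModuleCat.{u} A) ℤ} (φ : F ⟶ G)

lemma comp_apply' {X Y Z : ModuleCat.{u} A} (g : X ⟶ Y) (h : Y ⟶ Z) (k : X ⟶ Z)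
    (w : g ≫ h = k) (x : X) : h.hom (g.hom x) = k.hom x := by
  rw [← w]; rfl

/-- the degree `n` term of the cone as a product. -/
noncomputable def coneXEquiv (n n' : ℤ) (h : n + 1 = n') :
    (mappingCone φ).X n ≃ₗ[A] (F.X n' × G.X n) where
  toFun z := (((mappingCone.fst φ).1.v n n' h).hom z,
    ((mappingCone.snd φ).v n n (add_zero n)).hom z)
  invFun p := ((mappingCone.inl φ).v n' n (by lia)).hom p.1 + ((mappingCone.inr φ).f n).hom p.2
  map_add' x y := by simp only [map_add, Prod.mk_add_mk]
  map_smul' c x := by simp only [map_smul, RingHom.id_apply, Prod.smul_mk]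
  left_inv z := by
    have h1 := LinearMap.congr_fun
      (congrArg ModuleCat.Hom.hom (mappingCone.id_X φ n n' h)) z
    rw [ModuleCat.hom_add, ModuleCat.hom_comp, ModuleCat.hom_comp, ModuleCat.hom_id] at h1
    exact h1
  right_inv p := by
    obtain ⟨a, b⟩ := p
    apply Prod.ext
    · show ((mappingCone.fst φ).1.v n n' h).hom
        (((mappingCone.inl φ).v n' n (by lia)).hom a + ((mappingCone.inr φ).f n).hom b) = a
      rw [map_add, comp_apply' _ _ _ (mappingCone.inl_v_fst_v φ n' n h) a,
        comp_apply' _ _ _ (mappingCone.inr_f_fst_v φ n n' h) b]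
      simp
    · show ((mappingCone.snd φ).v n n (add_zero n)).hom
        (((mappingCone.inl φ).v n' n (by lia)).hom a + ((mappingCone.inr φ).f n).hom b) = b
      rw [map_add, comp_apply' _ _ _ (mappingCone.inl_v_snd_v φ n' n (by lia)) a,
        comp_apply' _ _ _ (mappingCone.inr_f_snd_v φ n) b]
      simp

lemma coneXEquiv_d_fst (n n' n'' : ℤ) (h : n + 1 = n') (h' : n' + 1 = n'')
    (z : (mappingCone φ).X n) :
    (coneXEquiv φ n' n'' h' (((mappingCone φ).d n n').hom z)).1 =
      -((F.d n' n'').hom (coneXEquiv φ n n' h z).1) := by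
  have := comp_apply' _ _ _ (mappingCone.d_fst_v φ n n' n'' h h') z
  rw [ModuleCat.hom_neg, ModuleCat.hom_comp] at this
  exact this

lemma coneXEquiv_d_snd (n n' n'' : ℤ) (h : n + 1 = n') (h' : n' + 1 = n'')
    (z : (mappingCone φ).X n) :
    (coneXEquiv φ n' n'' h' (((mappingCone φ).d n n').hom z)).2 =
      (φ.f n').hom (coneXEquiv φ n n' h z).1 + (G.d n n').hom (coneXEquiv φ n n' h z).2 := by
  have := comp_apply' _ _ _ (mappingCone.d_snd_v φ n n' h) z
  rw [ModuleCat.hom_add, ModuleCat.hom_comp, ModuleCat.hom_comp] at this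
  exact this

end coneX

/-- the set of trivial relations. -/
def trivSet {c : ℕ} (g : Fin c → A) : Set (Fin c → A) :=
  {v | ∃ i j : Fin c, v = Pi.single i (g j) - Pi.single j (g i)}

/-- low-degree data of the Koszul complex. -/
structure LowData (l : List A) : Prop where
  isZero_pos : ∀ n : ℤ, 0 < n → IsZero ((Koszul.koszul A l).X n)
  exists_equiv : ∃ (ε : (Koszul.koszul A l).X 0 ≃ₗ[A] A)
    (θ : (Koszul.koszul A l).X (-1) ≃ₗ[A] (Fin l.length → A)),
    (∀ w, ε (((Koszul.koszul A l).d (-1) 0).hom w) = ∑ i, θ w i * l.get i) ∧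
    (∀ v, θ (((Koszul.koszul A l).d (-2) (-1)).hom v) ∈ Submodule.span A (trivSet l.get)) ∧
    (∀ t ∈ trivSet l.get, ∃ v, θ (((Koszul.koszul A l).d (-2) (-1)).hom v) = t)

lemma cons_single_succ {n : ℕ} (i : Fin n) (a : A) :
    (Fin.cons 0 (Pi.single i a : Fin n → A) : Fin (n + 1) → A) = Pi.single i.succ a := by
  funext k
  refine Fin.cases ?_ (fun k' => ?_) k
  · rw [Fin.cons_zero, Pi.single_eq_of_ne (Fin.succ_ne_zero i).symm]
  · rw [Fin.cons_succ]
    by_cases h : k' = i
    · subst h; rw [Pi.single_eq_same, Pi.single_eq_same]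
    · rw [Pi.single_eq_of_ne h, Pi.single_eq_of_ne (fun h' => h (Fin.succ_injective _ h'))]

lemma cons_zero_single {n : ℕ} (a : A) :
    (Fin.cons a (0 : Fin n → A) : Fin (n + 1) → A) = Pi.single 0 a := by
  funext k
  refine Fin.cases ?_ (fun k' => ?_) k
  · rw [Fin.cons_zero, Pi.single_eq_same]
  · rw [Fin.cons_succ, Pi.single_eq_of_ne (Fin.succ_ne_zero k'), Pi.zero_apply]

lemma cons_add {n : ℕ} (a b : A) (u v : Fin n → A) :
    (Fin.cons (a + b) (u + v) : Fin (n + 1) → A) = Fin.cons a u + Fin.cons b v := by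
  funext k
  refine Fin.cases ?_ (fun k' => ?_) k
  · simp
  · simp

lemma cons_smul {n : ℕ} (c a : A) (u : Fin n → A) :
    (Fin.cons (c * a) (c • u) : Fin (n + 1) → A) = c • Fin.cons a u := by
  funext k
  refine Fin.cases ?_ (fun k' => ?_) k
  · simp
  · simp

lemma cons_sum {n : ℕ} {ι : Type*} (s : Finset ι) (a : ι → A) (u : ι → Fin n → A) :
    (Fin.cons (∑ k ∈ s, a k) (∑ k ∈ s, u k) : Fin (n + 1) → A) =
      ∑ k ∈ s, (Fin.cons (a k) (u k) : Fin (n + 1) → A) := by
  classical
  induction s using Finset.induction_on with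
  | empty =>
    simp only [Finset.sum_empty]
    funext k
    refine Fin.cases ?_ (fun k' => ?_) k <;> simp
  | insert x s hx ih =>
    rw [Finset.sum_insert hx, Finset.sum_insert hx, Finset.sum_insert hx, cons_add, ih]

/-- `(cons 0 t)` of a trivial relation is a trivial relation. -/
lemma cons_triv_mem (f : A) (l : List A) (t : Fin l.length → A)
    (ht : t ∈ Submodule.span A (trivSet l.get)) :
    (Fin.cons 0 t : Fin (l.length + 1) → A) ∈ Submodule.span A (trivSet (f :: l).get) := by
  induction ht using Submodule.span_induction with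
  | mem t ht =>
    obtain ⟨i, j, rfl⟩ := ht
    apply Submodule.subset_span
    refine ⟨i.succ, j.succ, ?_⟩
    have : (Fin.cons 0 (Pi.single i (l.get j) - Pi.single j (l.get i)) :
        Fin (l.length + 1) → A) =
        Fin.cons 0 (Pi.single i (l.get j)) - Fin.cons 0 (Pi.single j (l.get i)) := by
      funext k
      refine Fin.cases ?_ (fun k' => ?_) k <;> simp
    rw [this, cons_single_succ, cons_single_succ]
    rfl
  | zero =>
    have : (Fin.cons 0 (0 : Fin l.length → A) : Fin (l.length + 1) → A) = 0 := by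
      funext k
      refine Fin.cases ?_ (fun k' => ?_) k <;> simp
    rw [this]
    exact Submodule.zero_mem _
  | add x y _ _ hx hy =>
    have : (Fin.cons 0 (x + y) : Fin (l.length + 1) → A) = Fin.cons 0 x + Fin.cons 0 y := by
      rw [← cons_add, add_zero]
    rw [this]
    exact Submodule.add_mem _ hx hy
  | smul c x _ hx =>
    have : (Fin.cons 0 (c • x) : Fin (l.length + 1) → A) = c • Fin.cons 0 x := by
      rw [← cons_smul, mul_zero]
    rw [this]
    exact Submodule.smul_mem _ c hx

/-- the mixed trivial relations. -/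
lemma cons_mixed_eq (f : A) (l : List A) (i : Fin l.length) :
    (Fin.cons (-(l.get i)) (Pi.single i f) : Fin (l.length + 1) → A) =
      Pi.single i.succ ((f :: l).get 0) - Pi.single 0 ((f :: l).get i.succ) := by
  have h1 : (Fin.cons (-(l.get i)) (Pi.single i f) : Fin (l.length + 1) → A) =
      Fin.cons 0 (Pi.single i f) - Fin.cons (l.get i) 0 := by
    funext k
    refine Fin.cases ?_ (fun k' => ?_) k <;> simp
  rw [h1, cons_single_succ, cons_zero_single]
  rfl

lemma cons_mixed_mem (f : A) (l : List A) (c : Fin l.length → A) :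
    (Fin.cons (-∑ i, c i * l.get i) (f • c) : Fin (l.length + 1) → A) ∈
      Submodule.span A (trivSet (f :: l).get) := by
  have h1 : (Fin.cons (-∑ i, c i * l.get i) (f • c) : Fin (l.length + 1) → A) =
      ∑ i, c i • (Fin.cons (-(l.get i)) (Pi.single i f) : Fin (l.length + 1) → A) := by
    have hc : f • c = ∑ i, c i • (Pi.single i f : Fin l.length → A) := by
      funext k
      rw [Finset.sum_apply, Finset.sum_eq_single k]
      · simp [mul_comm]
      · intro b _ hb
        simp [Pi.single_eq_of_ne (Ne.symm hb)]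
      · intro hk; exact absurd (Finset.mem_univ k) hk
    have hs : -∑ i, c i * l.get i = ∑ i, c i * (-(l.get i)) := by
      rw [← Finset.sum_neg_distrib]
      exact Finset.sum_congr rfl (fun i _ => by ring)
    rw [hc, hs, cons_sum]
    exact Finset.sum_congr rfl (fun i _ => cons_smul _ _ _)
  rw [h1]
  refine Submodule.sum_mem _ (fun i _ => Submodule.smul_mem _ _ ?_)
  apply Submodule.subset_span
  exact ⟨i.succ, 0, cons_mixed_eq f l i⟩

theorem lowData : ∀ l : List A, LowData l := by
  intro l
  induction l with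
  | nil =>
    have hz : ∀ n : ℤ, n ≠ 0 → IsZero ((Koszul.koszul A []).X n) := fun n hn =>
      HomologicalComplex.isZero_single_obj_X (ComplexShape.up ℤ) 0 (ModuleCat.of A A) n hn
    refine ⟨fun n hn => hz n (ne_of_gt hn), ?_⟩
    haveI : Subsingleton ((Koszul.koszul A []).X (-1)) :=
      ModuleCat.subsingleton_of_isZero (hz (-1) (by norm_num))
    haveI : Subsingleton (Fin ([] : List A).length → A) := by
      show Subsingleton (Fin 0 → A)
      infer_instance
    let θ : (Koszul.koszul A []).X (-1) ≃ₗ[A] (Fin ([] : List A).length → A) :=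
      { toFun := fun _ => 0
        invFun := fun _ => 0
        map_add' := fun _ _ => Subsingleton.elim _ _
        map_smul' := fun _ _ => Subsingleton.elim _ _
        left_inv := fun _ => Subsingleton.elim _ _
        right_inv := fun _ => Subsingleton.elim _ _ }
    refine ⟨(HomologicalComplex.singleObjXSelf (ComplexShape.up ℤ) 0
      (ModuleCat.of A A)).toLinearEquiv, θ, ?_, ?_, ?_⟩
    · intro w
      have hw : w = 0 := Subsingleton.elim _ _
      rw [hw, map_zero, map_zero]
      simp
    · intro v
      have : θ (((Koszul.koszul A []).d (-2) (-1)).hom v) = 0 := Subsingleton.elim _ _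
      rw [this]
      exact Submodule.zero_mem _
    · intro t _
      exact ⟨0, Subsingleton.elim _ _⟩
  | cons f l ih =>
    let K := Koszul.koszul A l
    let φ : K ⟶ K := f • 𝟙 K
    have hpos : ∀ n : ℤ, 0 < n → IsZero ((mappingCone φ).X n) := fun n hn =>
      (mappingCone.isZero_X_iff φ n).mpr ⟨ih.isZero_pos (n + 1) (by lia), ih.isZero_pos n hn⟩
    refine ⟨hpos, ?_⟩
    obtain ⟨ε, θ, hd, hB, hT⟩ := ih.exists_equiv
    haveI : Subsingleton (K.X 1) := ModuleCat.subsingleton_of_isZero (ih.isZero_pos 1 one_pos)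
    letI : Unique (K.X 1) := ⟨⟨0⟩, fun _ => Subsingleton.elim _ _⟩
    let E0 := coneXEquiv φ 0 1 rfl
    let Em1 := coneXEquiv φ (-1) 0 (by norm_num)
    let Em2 := coneXEquiv φ (-2) (-1) (by norm_num)
    let ε' : (mappingCone φ).X 0 ≃ₗ[A] A := (E0.trans LinearEquiv.uniqueProd).trans ε
    let θ' : (mappingCone φ).X (-1) ≃ₗ[A] (Fin (l.length + 1) → A) :=
      Em1.trans ((LinearEquiv.prodCongr ε θ).trans (Fin.consLinearEquiv A (fun _ => A)))
    have hε' : ∀ z, ε' z = ε (E0 z).2 := fun z => rfl
    have hθ' : ∀ z, θ' z = Fin.cons (ε (Em1 z).1) (θ (Em1 z).2) := fun z => rfl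
    have hφ : ∀ (n : ℤ) (x : K.X n), (φ.f n).hom x = f • x := by
      intro n x
      show ((f • 𝟙 K : K ⟶ K).f n).hom x = f • x
      rw [HomologicalComplex.smul_f_apply, HomologicalComplex.id_f, ModuleCat.hom_smul,
        ModuleCat.hom_id]
      rfl
    -- the differential in degree -1
    have hd' : ∀ z, ε' (((mappingCone φ).d (-1) 0).hom z) =
        ∑ i : Fin (l.length + 1), θ' z i * (f :: l).get i := by
      intro z
      rw [hε', coneXEquiv_d_snd φ (-1) 0 1 (by norm_num) rfl z, map_add, hφ, map_smul, hd,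
        Fin.sum_univ_succ, hθ']
      simp only [Fin.cons_zero, Fin.cons_succ, smul_eq_mul]
      rw [mul_comm]
      rfl
    -- the differential in degree -2
    have hd2 : ∀ z, θ' (((mappingCone φ).d (-2) (-1)).hom z) =
        Fin.cons (-∑ i, θ (Em2 z).1 i * l.get i)
          (f • θ (Em2 z).1 + θ ((K.d (-2) (-1)).hom (Em2 z).2)) := by
      intro z
      rw [hθ', coneXEquiv_d_fst φ (-2) (-1) 0 (by norm_num) (by norm_num) z,
        coneXEquiv_d_snd φ (-2) (-1) 0 (by norm_num) (by norm_num) z, map_neg, hd, map_add, hφ,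
        map_smul]
    have hB' : ∀ z : (mappingCone φ).X (-2), θ' (((mappingCone φ).d (-2) (-1)).hom z) ∈
        Submodule.span A (trivSet (f :: l).get) := by
      intro z
      rw [hd2]
      have hsplit : (Fin.cons (-∑ i, θ (Em2 z).1 i * l.get i)
          (f • θ (Em2 z).1 + θ ((K.d (-2) (-1)).hom (Em2 z).2)) : Fin (l.length + 1) → A) =
          Fin.cons (-∑ i, θ (Em2 z).1 i * l.get i) (f • θ (Em2 z).1) +
            Fin.cons 0 (θ ((K.d (-2) (-1)).hom (Em2 z).2)) := by
        rw [← cons_add, add_zero]
      rw [hsplit]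
      exact Submodule.add_mem _ (cons_mixed_mem f l _) (cons_triv_mem f l _ (hB _))
    have hT' : ∀ t ∈ trivSet (f :: l).get, ∃ v : (mappingCone φ).X (-2),
        θ' (((mappingCone φ).d (-2) (-1)).hom v) = t := by
      rintro t ⟨i, j, rfl⟩
      -- four cases
      have hmixed : ∀ k : Fin l.length, ∃ v, θ' (((mappingCone φ).d (-2) (-1)).hom v) =
          Pi.single k.succ ((f :: l).get 0) - Pi.single 0 ((f :: l).get k.succ) := by
        intro k
        refine ⟨Em2.symm (θ.symm (Pi.single k 1), 0), ?_⟩
        rw [hd2, LinearEquiv.apply_symm_apply, LinearEquiv.apply_symm_apply, map_zero, map_zero,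
          add_zero, ← cons_mixed_eq]
        congr 1
        · rw [Finset.sum_eq_single k]
          · simp
          · intro b _ hb
            simp [Pi.single_eq_of_ne hb]
          · intro hk; exact absurd (Finset.mem_univ k) hk
        · funext m
          by_cases hm : m = k
          · subst hm; simp
          · simp [Pi.single_eq_of_ne hm]
      refine Fin.cases ?_ (fun i' => ?_) i
      · refine Fin.cases ?_ (fun j' => ?_) j
        · exact ⟨0, by rw [map_zero, map_zero, sub_self]⟩
        · obtain ⟨v, hv⟩ := hmixed j'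
          refine ⟨-v, ?_⟩
          rw [map_neg, map_neg, hv, neg_sub]
      · refine Fin.cases ?_ (fun j' => ?_) j
        · exact hmixed i'
        · obtain ⟨v, hv⟩ := hT (Pi.single i' (l.get j') - Pi.single j' (l.get i')) ⟨i', j', rfl⟩
          refine ⟨Em2.symm (0, v), ?_⟩
          rw [hd2, LinearEquiv.apply_symm_apply, map_zero, hv]
          simp only [Pi.zero_apply, zero_mul, Finset.sum_const_zero, neg_zero, smul_zero, zero_add]
          have : (Fin.cons 0 (Pi.single i' (l.get j') - Pi.single j' (l.get i')) :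
              Fin (l.length + 1) → A) =
              Fin.cons 0 (Pi.single i' (l.get j')) - Fin.cons 0 (Pi.single j' (l.get i')) := by
            funext k
            refine Fin.cases ?_ (fun k' => ?_) k <;> simp
          rw [this, cons_single_succ, cons_single_succ]
          rfl
    exact ⟨ε', θ', hd', hB', hT'⟩

/-- `H^{-1}` of the Koszul complex vanishes iff the sequence is `H_1`-regular. -/
theorem isZero_homology_neg_one_iff (l : List A) :
    IsZero ((Koszul.koszul A l).homology (-1)) ↔ CAlgX.IsH1Regular l.get := by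
  obtain ⟨ε, θ, hd, hB, hT⟩ := (lowData l).exists_equiv
  have hex : IsZero ((Koszul.koszul A l).homology (-1)) ↔
      LinearMap.range ((Koszul.koszul A l).d (-2) (-1)).hom =
        LinearMap.ker ((Koszul.koszul A l).d (-1) 0).hom := by
    rw [← HomologicalComplex.exactAt_iff_isZero_homology,
      (Koszul.koszul A l).exactAt_iff' (-2) (-1) 0 (by simp) (by simp),
      ShortComplex.moduleCat_exact_iff_range_eq_ker]
    rfl
  rw [hex]
  constructor
  · intro h a ha
    have hw : θ.symm a ∈ LinearMap.ker ((Koszul.koszul A l).d (-1) 0).hom := by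
      rw [LinearMap.mem_ker]
      apply ε.injective
      rw [hd, LinearEquiv.apply_symm_apply, map_zero]
      exact ha
    rw [← h] at hw
    obtain ⟨v, hv⟩ := hw
    have := hB v
    rw [hv, LinearEquiv.apply_symm_apply] at this
    exact this
  · intro h
    apply le_antisymm
    · rintro _ ⟨v, rfl⟩
      rw [LinearMap.mem_ker]
      exact comp_apply' _ _ _ ((Koszul.koszul A l).d_comp_d (-2) (-1) 0) v
    · intro w hw
      rw [LinearMap.mem_ker] at hw
      have ha : ∑ i, θ w i * l.get i = 0 := by
        rw [← hd, hw, map_zero]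
      have hmem := h (θ w) ha
      -- the span of trivial relations lies in the image
      have hle : Submodule.span A (trivSet l.get) ≤
          Submodule.map θ.toLinearMap (LinearMap.range ((Koszul.koszul A l).d (-2) (-1)).hom) := by
        apply Submodule.span_le.mpr
        intro t ht
        obtain ⟨v, hv⟩ := hT t ht
        exact ⟨_, ⟨v, rfl⟩, hv⟩
      obtain ⟨w', hw', hw'eq⟩ := hle hmem
      have : w' = w := θ.injective hw'eq
      rw [← this]
      exact hw'

theorem h1_of_koszulRegular (l : List A) (h : LCI.IsKoszulRegularSeq A l) :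
    CAlgX.IsH1Regular l.get :=
  (isZero_homology_neg_one_iff l).mp (h (-1) (by norm_num))

lemma h1_congr {c c' : ℕ} (h : c = c') (f : Fin c → A) (f' : Fin c' → A)
    (hf : ∀ i, f i = f' (Fin.cast h i)) : CAlgX.IsH1Regular f → CAlgX.IsH1Regular f' := by
  subst h
  have : f = f' := funext (fun i => by simpa using hf i)
  subst this
  exact id

theorem h1_ofFn {r : ℕ} (f : Fin r → A) (h : LCI.IsKoszulRegularSeq A (List.ofFn f)) :
    CAlgX.IsH1Regular f := by
  refine h1_congr (List.length_ofFn) (List.ofFn f).get f ?_ (h1_of_koszulRegular _ h)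
  intro i
  rw [List.get_ofFn]

end Groth.Agent.Lib.KoszulLow
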