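import Mathlib

/-!
# Flat resolutions stay exact after tensoring (helper2)

* `flat_ker_of_surjective`: the kernel of a surjection of flat modules is flat;
* `exact_rTensor_of_flat_coker`: an exact pair `f, g` whose second map has flat cokernel stays exact
  after tensoring with any module;
* `exact_rTensor_of_flat_resolution`: a complex of flat modules concentrated in degrees `≤ 0`, exact in
  negative degrees and with flat `H^0`, stays exact in negative degrees after tensoring with any module;
* `exact_of_ladder_fun`: transport of exactness along bijections.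
-/

set_option autoImplicit false
universe u
open scoped TensorProduct

namespace Groth.Agent.Lib.FlatRes

section

variable {A : Type u} [CommRing A]

/-- the kernel of a surjection of flat modules is flat -/
theorem flat_ker_of_surjective {M C : Type u} [AddCommGroup M] [Module A M] [AddCommGroup C]
    [Module A C] [Module.Flat A M] [Module.Flat A C] (f : M →ₗ[A] C)
    (hf : Function.Surjective f) : Module.Flat A (LinearMap.ker f) := by
  rw [Module.Flat.iff_rTensor_preserves_injective_linearMap]
  intro N' N'' _ _ _ _ g hg
  have h1 : Function.Injective ((LinearMap.ker f).subtype.lTensor N') :=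
    LinearMap.lTensor_injective_of_exact_of_flat f hf _ (LinearMap.ker f).injective_subtype
      (LinearMap.exact_subtype_ker_map f) N'
  have h2 : Function.Injective (g.rTensor M) :=
    Module.Flat.rTensor_preserves_injective_linearMap g hg
  have h3 : ((LinearMap.ker f).subtype.lTensor N'').comp (g.rTensor (LinearMap.ker f)) =
      (g.rTensor M).comp ((LinearMap.ker f).subtype.lTensor N') := by
    rw [LinearMap.lTensor_comp_rTensor, LinearMap.rTensor_comp_lTensor]
  have h4 : Function.Injective
      (((LinearMap.ker f).subtype.lTensor N'').comp (g.rTensor (LinearMap.ker f))) := by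
    rw [h3]
    exact h2.comp h1
  exact Function.Injective.of_comp h4

/-- an exact pair whose second map has flat cokernel stays exact after tensoring -/
theorem exact_rTensor_of_flat_coker {X Y Z : Type u} [AddCommGroup X] [Module A X]
    [AddCommGroup Y] [Module A Y] [AddCommGroup Z] [Module A Z] (N : Type u) [AddCommGroup N]
    [Module A N] (f : X →ₗ[A] Y) (g : Y →ₗ[A] Z) (h : Function.Exact f g)
    [Module.Flat A (Z ⧸ LinearMap.range g)] :
    Function.Exact (f.rTensor N) (g.rTensor N) := by
  have h1 : Function.Exact f g.rangeRestrict := by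
    intro y
    rw [← h y]
    constructor
    · intro hy
      exact congrArg Subtype.val hy
    · intro hy
      exact Subtype.ext hy
  have h2 : Function.Exact (f.rTensor N) (g.rangeRestrict.rTensor N) :=
    rTensor_exact N h1 g.surjective_rangeRestrict
  have h3 : Function.Injective ((LinearMap.range g).subtype.rTensor N) := by
    rw [← LinearMap.lTensor_inj_iff_rTensor_inj]
    exact LinearMap.lTensor_injective_of_exact_of_flat (LinearMap.range g).mkQ
      (Submodule.mkQ_surjective _) _ (LinearMap.range g).injective_subtype
      (LinearMap.exact_subtype_mkQ _) N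
  have h4 : g.rTensor N =
      ((LinearMap.range g).subtype.rTensor N).comp (g.rangeRestrict.rTensor N) := by
    rw [← LinearMap.rTensor_comp]
    congr 1
  rw [h4]
  exact h2.comp_injective _ h3 (map_zero _)

/-- a complex of flat modules in degrees `≤ 0`, exact in negative degrees and with flat `H^0`,
stays exact in negative degrees after tensoring with an arbitrary module -/
theorem exact_rTensor_of_flat_resolution (N : Type u) [AddCommGroup N] [Module A N]
    (X : ℤ → Type u) [∀ i, AddCommGroup (X i)] [∀ i, Module A (X i)]
    [∀ i, Module.Flat A (X i)] (d : ∀ i j : ℤ, X i →ₗ[A] X j)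
    (hex : ∀ i j k : ℤ, i + 1 = j → j + 1 = k → j < 0 → Function.Exact (d i j) (d j k))
    (h0 : ∀ i : ℤ, i + 1 = 0 → Module.Flat A (X 0 ⧸ LinearMap.range (d i 0)))
    (i j k : ℤ) (hij : i + 1 = j) (hjk : j + 1 = k) (hj : j < 0) :
    Function.Exact ((d i j).rTensor N) ((d j k).rTensor N) := by
  have hC : ∀ (m : ℕ) (i j : ℤ), i + 1 = j → j = -(m : ℤ) →
      Module.Flat A (X j ⧸ LinearMap.range (d i j)) := by
    intro m
    induction m with
    | zero =>
      intro i j hij hj
      obtain rfl : j = 0 := by simpa using hj
      exact h0 i hij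
    | succ m ih =>
      intro i j hij hj
      have hj0 : j < 0 := by
        rw [hj]
        push_cast
        omega
      have hk : j + 1 = -(m : ℤ) := by
        rw [hj]
        push_cast
        ring
      haveI := ih j (j + 1) rfl hk
      have hex' := hex i j (j + 1) hij rfl hj0
      have hker : LinearMap.ker (d j (j + 1)) = LinearMap.range (d i j) :=
        LinearMap.exact_iff.1 hex'
      haveI : Module.Flat A (LinearMap.ker (LinearMap.range (d j (j + 1))).mkQ) :=
        flat_ker_of_surjective _ (Submodule.mkQ_surjective _)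
      have e1 : (X j ⧸ LinearMap.range (d i j)) ≃ₗ[A] LinearMap.range (d j (j + 1)) :=
        (Submodule.quotEquivOfEq _ _ hker.symm).trans (d j (j + 1)).quotKerEquivRange
      have e2 : LinearMap.range (d j (j + 1)) ≃ₗ[A]
          LinearMap.ker (LinearMap.range (d j (j + 1))).mkQ :=
        LinearEquiv.ofEq _ _ (Submodule.ker_mkQ _).symm
      exact Module.Flat.of_linearEquiv (e1.trans e2)
  obtain ⟨m, hm⟩ := Int.eq_ofNat_of_zero_le (by omega : 0 ≤ -k)
  haveI : Module.Flat A (X k ⧸ LinearMap.range (d j k)) := hC m j k hjk (by omega)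
  exact exact_rTensor_of_flat_coker N (d i j) (d j k) (hex i j k hij hjk hj)

end

/-- transport of exactness along bijections -/
lemma exact_of_ladder_fun {X₁ X₂ X₃ Y₁ Y₂ Y₃ : Type*} [Zero X₃] [Zero Y₃]
    (f : X₁ → X₂) (g : X₂ → X₃) (f' : Y₁ → Y₂) (g' : Y₂ → Y₃)
    (θ₁ : X₁ ≃ Y₁) (θ₂ : X₂ ≃ Y₂) (θ₃ : X₃ ≃ Y₃) (h0 : θ₃ 0 = 0)
    (c₁ : ∀ x, θ₂ (f x) = f' (θ₁ x)) (c₂ : ∀ x, θ₃ (g x) = g' (θ₂ x))
    (H : Function.Exact f' g') : Function.Exact f g := by
  intro y
  constructor
  · intro hy
    have h1 : g' (θ₂ y) = 0 := by rw [← c₂, hy, h0]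
    obtain ⟨z, hz⟩ := (H _).1 h1
    refine ⟨θ₁.symm z, θ₂.injective ?_⟩
    rw [c₁, Equiv.apply_symm_apply, hz]
  · rintro ⟨x, rfl⟩
    apply θ₃.injective
    rw [c₂, c₁, h0]
    exact (H _).2 ⟨_, rfl⟩

end Groth.Agent.Lib.FlatRes
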