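import Mathlib
import Groth.Agent.Lib.KoszulDepth_helper7
import Groth.Agent.Lib.KoszulTop_helper7

set_option autoImplicit false
universe u
open CategoryTheory CategoryTheory.Limits CochainComplex

namespace Groth.Agent.Lib.KoszulDepth2H7

variable {R : Type u} [CommRing R]

lemma finite_X (M : ModuleCat.{u} R) [Module.Finite R M] : ∀ (fs : List R) (i : ℤ),
    Module.Finite R ((CohIII.koszulCx M fs).X i) := by
  intro fs
  induction fs with
  | nil =>
    intro i
    by_cases hi : i = 0
    · subst hi
      exact Module.Finite.equiv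
        (HomologicalComplex.singleObjXSelf (ComplexShape.up ℤ) 0 M).symm.toLinearEquiv
    · have hz : IsZero ((CohIII.koszulCx M []).X i) :=
        HomologicalComplex.isZero_single_obj_X (ComplexShape.up ℤ) 0 M i hi
      haveI : Subsingleton ((CohIII.koszulCx M []).X i) := ModuleCat.subsingleton_of_isZero hz
      infer_instance
  | cons f fs ih =>
    intro i
    let X := CohIII.koszulCx M fs
    let φ : X ⟶ X := f • 𝟙 X
    show Module.Finite R ((mappingCone φ).X i)
    haveI : Module.Finite R (X.X (i + 1)) := ih (i + 1)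
    haveI : Module.Finite R (X.X i) := ih i
    let p1 := ((mappingCone.fst φ).1.v i (i + 1) rfl).hom
    let p2 := ((mappingCone.snd φ).v i i (add_zero i)).hom
    let i1 := ((mappingCone.inl φ).v (i + 1) i (by lia)).hom
    let i2 := ((mappingCone.inr φ).f i).hom
    have key : ∀ z : (mappingCone φ).X i, z = i1 (p1 z) + i2 (p2 z) := by
      intro z
      have h := LinearMap.congr_fun
        (congrArg ModuleCat.Hom.hom (mappingCone.id_X φ i (i + 1) rfl)) z
      rw [ModuleCat.hom_add, ModuleCat.hom_comp, ModuleCat.hom_comp, ModuleCat.hom_id] at h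
      exact h.symm
    apply Module.Finite.of_surjective (i1.coprod i2)
    intro z
    exact ⟨(p1 z, p2 z), by rw [LinearMap.coprod_apply]; exact (key z).symm⟩

lemma finite_homology [IsNoetherianRing R] (K : CochainComplex (ModuleCat.{u} R) ℤ) (i : ℤ)
    [Module.Finite R (K.X i)] : Module.Finite R (K.homology i) := by
  haveI : IsNoetherian R (K.X i) := isNoetherian_of_isNoetherianRing_of_finite R _
  haveI : Module.Finite R (K.cycles i) := Module.Finite.of_injective (K.iCycles i).hom
    ((ModuleCat.mono_iff_injective _).mp inferInstance)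
  exact Module.Finite.of_surjective (K.homologyπ i).hom
    ((ModuleCat.epi_iff_surjective _).mp inferInstance)

lemma isZero_of_smul_surjective [IsLocalRing R] (N : ModuleCat.{u} R) [Module.Finite R N] (f : R)
    (hf : f ∈ IsLocalRing.maximalIdeal R) (hs : ∀ x : N, ∃ y : N, f • y = x) : IsZero N := by
  have htop : (⊤ : Submodule R N) ≤ Ideal.span {f} • (⊤ : Submodule R N) := by
    intro x _
    obtain ⟨y, rfl⟩ := hs x
    exact Submodule.smul_mem_smul (Ideal.subset_span rfl) trivial
  have hbot : (⊤ : Submodule R N) = ⊥ :=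
    Submodule.eq_bot_of_le_smul_of_le_jacobson_bot (Ideal.span {f}) ⊤ Module.Finite.fg_top htop
      (le_trans ((Ideal.span_singleton_le_iff_mem _).mpr hf)
        (IsLocalRing.maximalIdeal_le_jacobson _))
  haveI : Subsingleton N := by
    refine ⟨fun a b => ?_⟩
    have ha : a ∈ (⊤ : Submodule R N) := trivial
    have hb : b ∈ (⊤ : Submodule R N) := trivial
    rw [hbot] at ha hb
    rw [(Submodule.mem_bot R).mp ha, (Submodule.mem_bot R).mp hb]
  exact ModuleCat.isZero_of_subsingleton N

set_option backward.isDefEq.respectTransparency false in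
theorem regular_of_vanishing [IsNoetherianRing R] [IsLocalRing R] (M : Type u) [AddCommGroup M]
    [Module R M] [Module.Finite R M] :
    ∀ fs : List R, (∀ x ∈ fs, x ∈ IsLocalRing.maximalIdeal R) →
      (∀ i : ℤ, i < 0 → IsZero ((CohIII.koszulCx (ModuleCat.of R M) fs).homology i)) →
      RingTheory.Sequence.IsWeaklyRegular M fs := by
  intro fs
  induction fs with
  | nil => intro _ _; exact RingTheory.Sequence.IsWeaklyRegular.nil R M
  | cons f fs ih =>
    intro hmem hV
    have hf : f ∈ IsLocalRing.maximalIdeal R := hmem f List.mem_cons_self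
    have hmem' : ∀ x ∈ fs, x ∈ IsLocalRing.maximalIdeal R :=
      fun x hx => hmem x (List.mem_cons_of_mem _ hx)
    letI : HasDerivedCategory (ModuleCat.{u} R) := HasDerivedCategory.standard _
    have hT := DerivedCategory.mappingCone_triangle_distinguished
      (f • 𝟙 (CohIII.koszulCx (ModuleCat.of R M) fs))
    have hφ : ∀ i, HomologicalComplex.homologyMap
        (f • 𝟙 (CohIII.koszulCx (ModuleCat.of R M) fs)) i = f • 𝟙 _ := fun i => by
      rw [Groth.Agent.Lib.KoszulDepthH7.homologyMap_smul, HomologicalComplex.homologyMap_id]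
    have hVcone : ∀ i : ℤ, i < 0 → IsZero ((mappingCone
        (f • 𝟙 (CohIII.koszulCx (ModuleCat.of R M) fs))).homology i) := hV
    have hV' : ∀ i : ℤ, i < 0 →
        IsZero ((CohIII.koszulCx (ModuleCat.of R M) fs).homology i) := by
      intro i hi
      have e2 := CochainComplex.homologyMap_exact₂_of_distTriang
        (mappingCone.triangle (f • 𝟙 (CohIII.koszulCx (ModuleCat.of R M) fs))) hT i
      have hepi : Epi (HomologicalComplex.homologyMap
          (f • 𝟙 (CohIII.koszulCx (ModuleCat.of R M) fs)) i) :=
        e2.epi_f ((hVcone i hi).eq_of_tgt _ _)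
      have hsurj : Function.Surjective (HomologicalComplex.homologyMap
          (f • 𝟙 (CohIII.koszulCx (ModuleCat.of R M) fs)) i).hom :=
        (ModuleCat.epi_iff_surjective _).mp hepi
      haveI := finite_X (ModuleCat.of R M) fs i
      haveI := finite_homology (CohIII.koszulCx (ModuleCat.of R M) fs) i
      apply isZero_of_smul_surjective _ f hf
      intro x
      obtain ⟨y, hy⟩ := hsurj x
      refine ⟨y, ?_⟩
      rw [hφ i, ModuleCat.hom_smul, ModuleCat.hom_id] at hy
      exact hy
    have hreg_fs := ih hmem' hV'
    have e1 := CochainComplex.homologyMap_exact₁_of_distTriang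
      (mappingCone.triangle (f • 𝟙 (CohIII.koszulCx (ModuleCat.of R M) fs))) hT (-1) 0
      (by norm_num)
    have hmono : Mono (HomologicalComplex.homologyMap
        (f • 𝟙 (CohIII.koszulCx (ModuleCat.of R M) fs)) 0) :=
      e1.mono_g ((hVcone (-1) (by norm_num)).eq_of_src _ _)
    have hinj : Function.Injective (HomologicalComplex.homologyMap
        (f • 𝟙 (CohIII.koszulCx (ModuleCat.of R M) fs)) 0).hom :=
      (ModuleCat.mono_iff_injective _).mp hmono
    obtain ⟨e⟩ := Groth.Agent.Lib.KoszulTopH7.top_equiv' M fs 0 rfl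
    have hregH : IsSMulRegular
        ((CohIII.koszulCx (ModuleCat.of R M) fs).homology 0 : ModuleCat.{u} R) f := by
      intro a b hab
      apply hinj
      rw [hφ 0, ModuleCat.hom_smul, ModuleCat.hom_id]
      exact hab
    have hregf : IsSMulRegular (M ⧸ (Ideal.ofList fs • (⊤ : Submodule R M))) f :=
      (e.isSMulRegular_congr f).mp hregH
    have happ : RingTheory.Sequence.IsWeaklyRegular M (fs ++ [f]) :=
      (RingTheory.Sequence.isWeaklyRegular_append_iff M fs [f]).mpr
        ⟨hreg_fs, (RingTheory.Sequence.isWeaklyRegular_singleton_iff _ f).mpr hregf⟩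
    haveI : IsNoetherian R M := isNoetherian_of_isNoetherianRing_of_finite R M
    refine IsLocalRing.isWeaklyRegular_of_perm_of_subset_maximalIdeal happ
      (List.perm_append_singleton f fs) ?_
    intro r hr
    rw [List.mem_append, List.mem_singleton] at hr
    rcases hr with h | rfl
    · exact hmem' r h
    · exact hf

theorem main [IsNoetherianRing R] [IsLocalRing R] (M : Type u) [AddCommGroup M] [Module R M]
    [Module.Finite R M] [Nontrivial M] (xs : List R)
    (hxs : ∀ x ∈ xs, x ∈ IsLocalRing.maximalIdeal R) :
    LocCoh.idealDepth (Ideal.span {x | x ∈ xs}) M = xs.length ↔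
      RingTheory.Sequence.IsWeaklyRegular M xs := by
  obtain ⟨h1, h2, -⟩ := Groth.Agent.Lib.KoszulDepthH7.main M xs hxs
  constructor
  · intro hd
    apply regular_of_vanishing M xs hxs
    intro i hi
    by_cases hlt : i < -(xs.length : ℤ)
    · exact Groth.Agent.Lib.KoszulDepthH7.isZero_homology_of_isZero_X _ _
        (Groth.Agent.Lib.KoszulDepthH7.isZero_X_of_lt _ xs i hlt)
    · have hpn : (i + xs.length).toNat < xs.length := by lia
      have hp := h2 (i + xs.length).toNat (by rw [hd]; exact_mod_cast hpn)
      have hp' : IsZero ((CohIII.koszulCx (ModuleCat.of R M) xs).homology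
          ((((i + xs.length).toNat : ℕ) : ℤ) - xs.length)) := hp
      have hc : (((i + xs.length).toNat : ℕ) : ℤ) - xs.length = i := by
        rw [Int.toNat_of_nonneg (by lia)]
        ring
      rw [hc] at hp'
      exact hp'
  · intro hreg
    apply le_antisymm h1
    rw [Groth.Agent.DepthLib.le_idealDepth_iff]
    exact Or.inr ⟨xs, hreg, fun r hr => Ideal.subset_span hr, rfl⟩

end Groth.Agent.Lib.KoszulDepth2H7
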