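import Mathlib
import Groth.Agent.Lib.KoszulDepth2_helper7
import Groth.Agent.Lib.KoszulTop_helper7
import Groth.Agent.Lib.KoszulReg_helper7

/-!
# Koszul complexes and flat base change (helper9)
APPEND-ONLY once landed.
-/

set_option autoImplicit false
universe u

namespace Groth.Agent.KoszulFlat9

open CategoryTheory CategoryTheory.Limits CochainComplex HomComplex

section General

variable {R C : Type u} [CommRing R] [CommRing C]

lemma map_smul_id (F : ModuleCat.{u} R ⥤ ModuleCat.{u} C) [F.Additive] (φ : R → C)
    (hF : ∀ (r : R) (N : ModuleCat.{u} R), F.map (r • 𝟙 N) = φ r • 𝟙 (F.obj N)) (r : R)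
    (K : CochainComplex (ModuleCat.{u} R) ℤ) :
    (F.mapHomologicalComplex (ComplexShape.up ℤ)).map (r • 𝟙 K) =
      φ r • 𝟙 ((F.mapHomologicalComplex (ComplexShape.up ℤ)).obj K) := by
  apply HomologicalComplex.hom_ext
  intro n
  simp only [Functor.mapHomologicalComplex_map_f, HomologicalComplex.smul_f_apply,
    HomologicalComplex.id_f]
  exact hF r (K.X n)

/-- an additive functor compatible with scalars commutes with Koszul complexes -/
noncomputable def koszulMapIso (F : ModuleCat.{u} R ⥤ ModuleCat.{u} C) [F.Additive] (φ : R → C)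
    (hF : ∀ (r : R) (N : ModuleCat.{u} R), F.map (r • 𝟙 N) = φ r • 𝟙 (F.obj N))
    (M : ModuleCat.{u} R) : ∀ fs : List R,
    (F.mapHomologicalComplex (ComplexShape.up ℤ)).obj (CohIII.koszulCx M fs) ≅
      CohIII.koszulCx (F.obj M) (fs.map φ)
  | [] => (HomologicalComplex.singleMapHomologicalComplex F (ComplexShape.up ℤ) 0).app M
  | f' :: fs =>
    (mappingCone.mapHomologicalComplexIso (f' • 𝟙 (CohIII.koszulCx M fs)) F) ≪≫
      Groth.Agent.Lib.KoszulRegH7.coneIso _
        (φ f' • 𝟙 (CohIII.koszulCx (F.obj M) (fs.map φ)))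
        (koszulMapIso F φ hF M fs) (koszulMapIso F φ hF M fs)
        (by
          rw [map_smul_id F φ hF, Linear.smul_comp, Linear.comp_smul, Category.id_comp,
            Category.comp_id])

end General

end Groth.Agent.KoszulFlat9

namespace Groth.Agent.KoszulFlat9

open CategoryTheory CategoryTheory.Limits CochainComplex HomComplex

section Exact

variable {R C : Type u} [CommRing R] [CommRing C]

theorem isZero_homology_map (F : ModuleCat.{u} R ⥤ ModuleCat.{u} C) [F.Additive]
    [PreservesFiniteLimits F] [PreservesFiniteColimits F]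
    (K : CochainComplex (ModuleCat.{u} R) ℤ) (i : ℤ) (h : IsZero (K.homology i)) :
    IsZero (((F.mapHomologicalComplex (ComplexShape.up ℤ)).obj K).homology i) := by
  have e : ((K.sc i).map F).homology ≅ F.obj (K.sc i).homology := (K.sc i).mapHomologyIso F
  exact IsZero.of_iso (F.map_isZero h) e

end Exact

section ExtendScalars

variable {R C : Type u} [CommRing R] [CommRing C] (f : R →+* C)

instance : (ModuleCat.extendScalars.{u, u, u} f).Additive :=
  (ModuleCat.extendRestrictScalarsAdj f).left_adjoint_additive

instance : PreservesFiniteColimits (ModuleCat.extendScalars.{u, u, u} f) := by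
  haveI := (ModuleCat.extendRestrictScalarsAdj.{u, u, u} f).leftAdjoint_preservesColimits
  infer_instance

open ChangeOfRings in
theorem extendScalars_map_smul_id (r : R) (N : ModuleCat.{u} R) :
    (ModuleCat.extendScalars.{u, u, u} f).map (r • 𝟙 N) =
      f r • 𝟙 ((ModuleCat.extendScalars.{u, u, u} f).obj N) := by
  apply ModuleCat.ExtendScalars.hom_ext
  intro m
  refine (ModuleCat.ExtendScalars.map_tmul f _ _ _).trans ?_
  refine Eq.trans ?_ (ModuleCat.ExtendScalars.smul_tmul f (f r) 1 m).symm
  letI : Module R C := Module.compHom _ f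
  have h := TensorProduct.smul_tmul (R := R) (R' := R) (M := C) (N := N) r (1 : C) m
  exact h.symm

end ExtendScalars

end Groth.Agent.KoszulFlat9

namespace Groth.Agent.KoszulFlat9

open CategoryTheory CategoryTheory.Limits CochainComplex HomComplex

section Main

variable {R C : Type u} [CommRing R] [CommRing C] (f : R →+* C)

/-- `C ⊗_R R ≃ C` as `C`-modules -/
noncomputable def extendScalarsSelfEquiv :
    ((ModuleCat.extendScalars.{u, u, u} f).obj (ModuleCat.of R R)) ≃ₗ[C] C := by
  letI : Algebra R C := f.toAlgebra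
  exact TensorProduct.AlgebraTensorModule.rid R C C

theorem isZero_homology_koszul_map (hf : f.Flat) (l : List R)
    (hl : LCI.IsKoszulRegularSeq R l) (i : ℤ) (hi : i ≠ 0) :
    IsZero ((CohIII.koszulCx ((ModuleCat.extendScalars.{u, u, u} f).obj (ModuleCat.of R R))
      (l.map f)).homology i) := by
  haveI := ModuleCat.preservesFiniteLimits_extendScalars_of_flat hf
  have h1 : IsZero ((CohIII.koszulCx (ModuleCat.of R R) l).homology i) :=
    Groth.Agent.Lib.KoszulTopH7.isZero_homology_of_eq
      (Groth.Agent.Lib.KoszulTopH7.koszul_eq l).symm i (hl i hi)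
  have h2 := isZero_homology_map (ModuleCat.extendScalars.{u, u, u} f) _ i h1
  exact IsZero.of_iso h2 ((HomologicalComplex.homologyFunctor _ _ i).mapIso
    (koszulMapIso (ModuleCat.extendScalars.{u, u, u} f) f (extendScalars_map_smul_id f)
      (ModuleCat.of R R) l)).symm

theorem isWeaklyRegular_map_of_koszulRegular [IsNoetherianRing C] [IsLocalRing C]
    (hf : f.Flat) (l : List R) (hl : LCI.IsKoszulRegularSeq R l)
    (hmem : ∀ x ∈ l, f x ∈ IsLocalRing.maximalIdeal C) :
    RingTheory.Sequence.IsWeaklyRegular C (l.map f) := by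
  set M := (ModuleCat.extendScalars.{u, u, u} f).obj (ModuleCat.of R R) with hM
  haveI : Module.Finite C M := Module.Finite.equiv (extendScalarsSelfEquiv f).symm
  have h := Groth.Agent.Lib.KoszulDepth2H7.regular_of_vanishing (R := C) M (l.map f)
    (by
      intro x hx
      obtain ⟨y, hy, rfl⟩ := List.mem_map.1 hx
      exact hmem y hy)
    (fun i hi => isZero_homology_koszul_map f hf l hl i hi.ne)
  exact (LinearEquiv.isWeaklyRegular_congr (extendScalarsSelfEquiv f) _).1 h

end Main

end Groth.Agent.KoszulFlat9
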