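import Mathlib
import Groth.Agent.Lib.FlatRes_helper2
import Groth.Agent.Lib.KoszulFlat_helper9

/-!
# Base change of Koszul-regular sequences with flat quotient (helper2)

* `koszulCxIso`: the Koszul complex of isomorphic modules;
* `projective_X`: the terms of the Koszul complex of a projective module are projective;
* `exact_iff_isZero_homology`: vanishing of the cohomology of a complex of modules in terms of functions;
* `isZero_homology_koszul_of_tensor`: `A → R` flat, `l` Koszul-regular in `R` with `R/(l)` flat over `A`:
  the Koszul complex of `l` on `R ⊗_A N` is acyclic off degree `0` for every `A`-module `N`;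
* `restrictKoszulIso`, `isKoszulRegularSeq_map_of_restrict`: Koszul complexes and restriction of scalars;
* `isKoszulRegularSeq_map_of_tensor`: the final form for a ring map `ψ : R → T` with `T ≃ R ⊗_A N`.
-/

set_option autoImplicit false
universe u
open CategoryTheory CategoryTheory.Limits CochainComplex HomComplex
open scoped TensorProduct

namespace Groth.Agent.Lib.KoszulBC

open Groth.Agent.Lib.FlatRes

section General

variable {R : Type u} [CommRing R]

/-- the Koszul complex is functorial for isomorphisms of modules -/
noncomputable def koszulCxIso {M M' : ModuleCat.{u} R} (e : M ≅ M') :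
    ∀ fs : List R, CohIII.koszulCx M fs ≅ CohIII.koszulCx M' fs
  | [] => (HomologicalComplex.single (ModuleCat.{u} R) (ComplexShape.up ℤ) 0).mapIso e
  | f :: fs =>
    Groth.Agent.Lib.KoszulRegH7.coneIso (f • 𝟙 (CohIII.koszulCx M fs))
      (f • 𝟙 (CohIII.koszulCx M' fs)) (koszulCxIso e fs) (koszulCxIso e fs)
      (by rw [Linear.smul_comp, Linear.comp_smul, Category.id_comp, Category.comp_id])

/-- the terms of the Koszul complex of a projective module are projective -/
lemma projective_X (M : ModuleCat.{u} R) [Module.Projective R M] : ∀ (fs : List R) (i : ℤ),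
    Module.Projective R ((CohIII.koszulCx M fs).X i) := by
  intro fs
  induction fs with
  | nil =>
    intro i
    by_cases hi : i = 0
    · subst hi
      exact Module.Projective.of_equiv'
        (HomologicalComplex.singleObjXSelf (ComplexShape.up ℤ) 0 M).symm.toLinearEquiv
    · have hz : IsZero ((CohIII.koszulCx M []).X i) :=
        HomologicalComplex.isZero_single_obj_X (ComplexShape.up ℤ) 0 M i hi
      haveI : Subsingleton ((CohIII.koszulCx M []).X i) := ModuleCat.subsingleton_of_isZero hz
      infer_instance
  | cons f fs ih =>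
    intro i
    let X := CohIII.koszulCx M fs
    let φ : X ⟶ X := f • 𝟙 X
    show Module.Projective R ((mappingCone φ).X i)
    haveI : Module.Projective R (X.X (i + 1)) := ih (i + 1)
    haveI : Module.Projective R (X.X i) := ih i
    let p1 := ((mappingCone.fst φ).1.v i (i + 1) rfl).hom
    let p2 := ((mappingCone.snd φ).v i i (add_zero i)).hom
    let i1 := ((mappingCone.inl φ).v (i + 1) i (by lia)).hom
    let i2 := ((mappingCone.inr φ).f i).hom
    have key : ∀ z : (mappingCone φ).X i, z = i1 (p1 z) + i2 (p2 z) := by
      intro z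
      have h := LinearMap.congr_fun
        (congrArg ModuleCat.Hom.hom (mappingCone.id_X φ i (i + 1) rfl)) z
      rw [ModuleCat.hom_add, ModuleCat.hom_comp, ModuleCat.hom_comp, ModuleCat.hom_id] at h
      exact h.symm
    refine Module.Projective.of_split (p1.prod p2) (i1.coprod i2) ?_
    apply LinearMap.ext
    intro z
    show i1 (p1 z) + i2 (p2 z) = z
    exact (key z).symm

/-- vanishing of the cohomology of a complex of modules, in terms of functions -/
lemma exact_iff_isZero_homology (K : CochainComplex (ModuleCat.{u} R) ℤ) (i j k : ℤ)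
    (hij : i + 1 = j) (hjk : j + 1 = k) :
    IsZero (K.homology j) ↔ Function.Exact (K.d i j).hom (K.d j k).hom := by
  rw [← HomologicalComplex.exactAt_iff_isZero_homology,
    HomologicalComplex.exactAt_iff' K i j k (by rw [CochainComplex.prev]; omega)
      (by rw [CochainComplex.next]; omega),
    ShortComplex.ShortExact.moduleCat_exact_iff_function_exact]
  rfl

end General

section Tens

variable {R : Type u} [CommRing R] (M : Type u) [AddCommGroup M] [Module R M]

/-- the functor `X ↦ X ⊗[R] M` -/
noncomputable def tensR : ModuleCat.{u} R ⥤ ModuleCat.{u} R where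
  obj X := ModuleCat.of R (X ⊗[R] M)
  map h := ModuleCat.ofHom (h.hom.rTensor M)
  map_id X := by
    apply ModuleCat.hom_ext
    simp
  map_comp f g := by
    apply ModuleCat.hom_ext
    simp [LinearMap.rTensor_comp]

instance : (tensR (R := R) M).Additive where
  map_add := by
    intro X Y f g
    apply ModuleCat.hom_ext
    show (f + g).hom.rTensor M = (f.hom.rTensor M) + (g.hom.rTensor M)
    rw [ModuleCat.hom_add, LinearMap.rTensor_add]

lemma tensR_map_smul_id (r : R) (X : ModuleCat.{u} R) :
    (tensR M).map (r • 𝟙 X) = r • 𝟙 ((tensR M).obj X) := by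
  apply ModuleCat.hom_ext
  show (r • 𝟙 X).hom.rTensor M = (r • 𝟙 (ModuleCat.of R (X ⊗[R] M))).hom
  rw [ModuleCat.hom_smul, ModuleCat.hom_id, LinearMap.rTensor_smul, LinearMap.rTensor_id,
    ModuleCat.hom_smul, ModuleCat.hom_id]

end Tens

section Main

variable {A R : Type u} [CommRing A] [CommRing R] [Algebra A R]

/-- `A → R` flat, `l` Koszul-regular in `R` with `R/(l)` flat over `A`: the Koszul complex of `l` on
a module of the form `R ⊗_A N` is acyclic off degree `0`. -/
theorem isZero_homology_koszul_of_tensor [Module.Flat A R] (l : List R)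
    (hl : LCI.IsKoszulRegularSeq R l) (hq : Module.Flat A (R ⧸ Ideal.ofList l))
    (N : Type u) [AddCommGroup N] [Module A N] (M : Type u) [AddCommGroup M] [Module R M]
    (e : M ≃ₗ[R] R ⊗[A] N) (i : ℤ) (hi : i ≠ 0) :
    IsZero ((CohIII.koszulCx (ModuleCat.of R M) l).homology i) := by
  set K := CohIII.koszulCx (ModuleCat.of R R) l with hK
  have hKreg : ∀ j : ℤ, j ≠ 0 → IsZero (K.homology j) := fun j hj =>
    Groth.Agent.Lib.KoszulTopH7.isZero_homology_of_eq
      (Groth.Agent.Lib.KoszulTopH7.koszul_eq l).symm j (hl j hj)
  let F := tensR (R := R) M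
  let e1 : (F.mapHomologicalComplex (ComplexShape.up ℤ)).obj K ≅
      CohIII.koszulCx (F.obj (ModuleCat.of R R)) (l.map id) :=
    Groth.Agent.KoszulFlat9.koszulMapIso F id (fun r X => tensR_map_smul_id M r X)
      (ModuleCat.of R R) l
  let e2 : CohIII.koszulCx (F.obj (ModuleCat.of R R)) (l.map id) ≅
      CohIII.koszulCx (F.obj (ModuleCat.of R R)) l := eqToIso (by rw [List.map_id])
  let e3 : F.obj (ModuleCat.of R R) ≅ ModuleCat.of R M := (TensorProduct.lid R M).toModuleIso
  let e4 := koszulCxIso e3 l
  suffices h : IsZero (((F.mapHomologicalComplex (ComplexShape.up ℤ)).obj K).homology i) from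
    IsZero.of_iso h ((HomologicalComplex.homologyFunctor _ _ i).mapIso (e1 ≪≫ e2 ≪≫ e4).symm)
  rcases lt_or_gt_of_ne hi with hneg | hpos
  swap
  · have hz : IsZero (K.X i) :=
      (Groth.Agent.Lib.KoszulTopH7.topData (ModuleCat.of R R) l).isZero_pos i hpos
    have hz' : IsZero (((F.mapHomologicalComplex (ComplexShape.up ℤ)).obj K).X i) :=
      F.map_isZero hz
    exact ShortComplex.isZero_homology_of_isZero_X₂ _ hz'
  · rw [exact_iff_isZero_homology _ (i - 1) i (i + 1) (by omega) rfl]
    show Function.Exact ((K.d (i - 1) i).hom.rTensor M) ((K.d i (i + 1)).hom.rTensor M)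
    letI modA : ∀ j, Module A (K.X j) := fun j => Module.compHom (K.X j) (algebraMap A R)
    haveI tow : ∀ j, IsScalarTower A R (K.X j) := fun j => ⟨fun a r x => by
      show (a • r) • x = algebraMap A R a • (r • x)
      rw [Algebra.smul_def, mul_smul]⟩
    haveI proj : ∀ j, Module.Projective R (K.X j) := fun j =>
      projective_X (ModuleCat.of R R) l j
    haveI flatA : ∀ j, Module.Flat A (K.X j) := fun j => Module.Flat.trans A R (K.X j)
    let dA : ∀ a b : ℤ, K.X a →ₗ[A] K.X b := fun a b => (K.d a b).hom.restrictScalars A
    have hexA : ∀ a b c : ℤ, a + 1 = b → b + 1 = c → b < 0 →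
        Function.Exact (dA a b) (dA b c) := by
      intro a b c hab hbc hb
      exact (exact_iff_isZero_homology K a b c hab hbc).1 (hKreg b hb.ne)
    have h0A : ∀ a : ℤ, a + 1 = 0 → Module.Flat A (K.X 0 ⧸ LinearMap.range (dA a 0)) := by
      intro a ha
      obtain rfl : a = -1 := by omega
      obtain ⟨ε, hε⟩ := (Groth.Agent.Lib.KoszulTopH7.topData (ModuleCat.of R R) l).exists_equiv
      let ε' : K.X 0 ≃ₗ[R] R := ε
      have hε' : Submodule.map ε'.toLinearMap (LinearMap.range (K.d (-1) 0).hom) =
          Ideal.ofList l := by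
        have h1 : (Ideal.ofList l • (⊤ : Submodule R R)) = Ideal.ofList l := by
          rw [smul_eq_mul, Ideal.mul_top]
        rw [← h1]
        exact hε
      let εA : K.X 0 ≃ₗ[A] R := ε'.restrictScalars A
      have hmap : Submodule.map εA.toLinearMap (LinearMap.range (dA (-1) 0)) =
          (Ideal.ofList l).restrictScalars A := by
        ext x
        rw [Submodule.restrictScalars_mem, ← hε']
        rfl
      have e5 : (K.X 0 ⧸ LinearMap.range (dA (-1) 0)) ≃ₗ[A] (R ⧸ Ideal.ofList l) :=
        (Submodule.Quotient.equiv _ _ εA hmap).trans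
          (Submodule.Quotient.restrictScalarsEquiv A (Ideal.ofList l))
      exact Module.Flat.of_linearEquiv e5
    have key := exact_rTensor_of_flat_resolution N (fun j => K.X j) dA hexA h0A (i - 1) i (i + 1)
      (by omega) rfl hneg
    let θ : ∀ j, (K.X j ⊗[R] M) ≃ₗ[R] (K.X j ⊗[A] N) := fun j =>
      (LinearEquiv.lTensor (K.X j) e).trans
        (TensorProduct.AlgebraTensorModule.cancelBaseChange A R R (K.X j) N)
    have hθ : ∀ (a b : ℤ) (z : K.X a ⊗[R] M),
        θ b ((K.d a b).hom.rTensor M z) = (dA a b).rTensor N (θ a z) := by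
      intro a b z
      induction z using TensorProduct.induction_on with
      | zero => simp
      | add x y hx hy => simp only [map_add, hx, hy]
      | tmul x m =>
        show TensorProduct.AlgebraTensorModule.cancelBaseChange A R R (K.X b) N
            (((K.d a b).hom x) ⊗ₜ[R] e m) =
          (dA a b).rTensor N (TensorProduct.AlgebraTensorModule.cancelBaseChange A R R (K.X a) N
            (x ⊗ₜ[R] e m))
        generalize e m = w
        induction w using TensorProduct.induction_on with
        | zero => simp
        | add w1 w2 h1 h2 => simp only [TensorProduct.tmul_add, map_add, h1, h2]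
        | tmul r c =>
          rw [TensorProduct.AlgebraTensorModule.cancelBaseChange_tmul,
            TensorProduct.AlgebraTensorModule.cancelBaseChange_tmul, LinearMap.rTensor_tmul]
          show (r • (K.d a b).hom x) ⊗ₜ[A] c = ((K.d a b).hom (r • x)) ⊗ₜ[A] c
          rw [map_smul]
    exact exact_of_ladder_fun _ _ _ _ (θ (i - 1)).toEquiv (θ i).toEquiv (θ (i + 1)).toEquiv
      (show (θ (i + 1)).toEquiv 0 = 0 from map_zero (θ (i + 1))) (hθ _ _) (hθ _ _) key

end Main

section Restrict

variable {R T : Type u} [CommRing R] [CommRing T] (ψ : R →+* T)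

lemma restrict_map_smul_id (f : R) (K : CochainComplex (ModuleCat.{u} T) ℤ) :
    ((ModuleCat.restrictScalars.{u} ψ).mapHomologicalComplex (ComplexShape.up ℤ)).map
        (ψ f • 𝟙 K) =
      f • 𝟙 (((ModuleCat.restrictScalars.{u} ψ).mapHomologicalComplex
        (ComplexShape.up ℤ)).obj K) := by
  apply HomologicalComplex.hom_ext
  intro n
  simp only [Functor.mapHomologicalComplex_map_f, HomologicalComplex.smul_f_apply,
    HomologicalComplex.id_f]
  apply ModuleCat.hom_ext
  apply LinearMap.ext
  intro x
  rfl

/-- Koszul complexes commute with restriction of scalars -/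
noncomputable def restrictKoszulIso (N' : ModuleCat.{u} T) : ∀ l : List R,
    ((ModuleCat.restrictScalars.{u} ψ).mapHomologicalComplex (ComplexShape.up ℤ)).obj
        (CohIII.koszulCx N' (l.map ψ)) ≅
      CohIII.koszulCx ((ModuleCat.restrictScalars.{u} ψ).obj N') l
  | [] => (HomologicalComplex.singleMapHomologicalComplex (ModuleCat.restrictScalars.{u} ψ)
      (ComplexShape.up ℤ) 0).app N'
  | f :: l =>
    (mappingCone.mapHomologicalComplexIso (ψ f • 𝟙 (CohIII.koszulCx N' (l.map ψ)))
        (ModuleCat.restrictScalars.{u} ψ)) ≪≫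
      Groth.Agent.Lib.KoszulRegH7.coneIso _
        (f • 𝟙 (CohIII.koszulCx ((ModuleCat.restrictScalars.{u} ψ).obj N') l))
        (restrictKoszulIso N' l) (restrictKoszulIso N' l)
        (by
          rw [restrict_map_smul_id, Linear.smul_comp, Linear.comp_smul, Category.id_comp,
            Category.comp_id])

lemma isZero_homology_of_restrict (C : CochainComplex (ModuleCat.{u} T) ℤ) (i : ℤ)
    (h : IsZero ((((ModuleCat.restrictScalars.{u} ψ).mapHomologicalComplex
      (ComplexShape.up ℤ)).obj C).homology i)) : IsZero (C.homology i) := by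
  rw [exact_iff_isZero_homology _ (i - 1) i (i + 1) (by omega) rfl] at h ⊢
  exact h

/-- Koszul-regularity of the image sequence can be tested after restriction of scalars -/
theorem isKoszulRegularSeq_map_of_restrict (l : List R)
    (h : ∀ i : ℤ, i ≠ 0 → IsZero ((CohIII.koszulCx
      ((ModuleCat.restrictScalars.{u} ψ).obj (ModuleCat.of T T)) l).homology i)) :
    LCI.IsKoszulRegularSeq T (l.map ψ) := by
  intro i hi
  refine Groth.Agent.Lib.KoszulTopH7.isZero_homology_of_eq
    (Groth.Agent.Lib.KoszulTopH7.koszul_eq (l.map ψ)) i ?_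
  apply isZero_homology_of_restrict ψ
  exact IsZero.of_iso (h i hi) ((HomologicalComplex.homologyFunctor _ _ i).mapIso
    (restrictKoszulIso ψ (ModuleCat.of T T) l))

end Restrict

section Final

variable {A R T : Type u} [CommRing A] [CommRing R] [CommRing T] [Algebra A R] [Algebra R T]

/-- **Base change of Koszul-regular sequences.** `A → R` flat, `l` Koszul-regular in `R` with `R/(l)`
flat over `A`, and `T` an `R`-algebra which is `R`-linearly isomorphic to `R ⊗_A N`: the image of `l`
in `T` is Koszul-regular. -/
theorem isKoszulRegularSeq_map_of_tensor [Module.Flat A R] (l : List R)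
    (hl : LCI.IsKoszulRegularSeq R l) (hq : Module.Flat A (R ⧸ Ideal.ofList l))
    (N : Type u) [AddCommGroup N] [Module A N] (e : T ≃ₗ[R] R ⊗[A] N) :
    LCI.IsKoszulRegularSeq T (l.map (algebraMap R T)) := by
  apply isKoszulRegularSeq_map_of_restrict
  intro i hi
  let e' : ((ModuleCat.restrictScalars.{u} (algebraMap R T)).obj (ModuleCat.of T T)) ≃ₗ[R]
      R ⊗[A] N :=
    { toFun := fun t => e (show T from t)
      map_add' := fun x y => map_add e (show T from x) (show T from y)
      map_smul' := fun r x => by
        have h1 : ((algebraMap R T r) • (show T from x) : T) = r • (show T from x) :=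
          algebraMap_smul T r _
        show e ((algebraMap R T r) • (show T from x) : T) = r • e (show T from x)
        rw [h1, map_smul]
      invFun := fun z => e.symm z
      left_inv := fun x => e.symm_apply_apply (show T from x)
      right_inv := fun z => e.apply_symm_apply z }
  have h := isZero_homology_koszul_of_tensor l hl hq N
    ((ModuleCat.restrictScalars.{u} (algebraMap R T)).obj (ModuleCat.of T T)) e' i hi
  exact h

end Final

end Groth.Agent.Lib.KoszulBC
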