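import Mathlib
import Groth.Prelude.Def_Koszul
import Groth.Prelude.Def_LCI2
import Groth.Agent.Lib.KoszulReg_helper7
import Groth.Agent.Lib.KoszulTop_helper7
import Groth.Agent.Lib.KoszulHtpy_helper7

/-!
# Swapping two cones: `cone_x (cone_y K) ≅ cone_y (cone_x K)`, permutation invariance of the
Koszul complex (mapping-cone model).
-/

set_option autoImplicit false
universe u
open CategoryTheory CategoryTheory.Limits CochainComplex HomComplex

namespace Groth.Agent.Lib.KoszulSwap

section general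

variable {C : Type*} [Category C] [Preadditive C] [HasBinaryBiproducts C]
  {R : Type*} [CommRing R] [Linear R C]

/-- the cone of multiplication by `y`. -/
noncomputable abbrev c1 (y : R) (K : CochainComplex C ℤ) : CochainComplex C ℤ := mappingCone (y • 𝟙 K)

/-- the double cone. -/
noncomputable abbrev c2 (x y : R) (K : CochainComplex C ℤ) : CochainComplex C ℤ :=
  mappingCone (x • 𝟙 (c1 y K))

/-- the swap in degree `n`. -/
noncomputable def swapX (x y : R) (K : CochainComplex C ℤ) (n : ℤ) :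
    (c2 x y K).X n ⟶ (c2 y x K).X n :=
  - ((mappingCone.fst (x • 𝟙 (c1 y K))).1.v n (n + 1) rfl ≫
      (mappingCone.fst (y • 𝟙 K)).1.v (n + 1) (n + 2) (by lia) ≫
      (mappingCone.inl (x • 𝟙 K)).v (n + 2) (n + 1) (by lia) ≫
      (mappingCone.inl (y • 𝟙 (c1 x K))).v (n + 1) n (by lia))
  + (mappingCone.fst (x • 𝟙 (c1 y K))).1.v n (n + 1) rfl ≫
      (mappingCone.snd (y • 𝟙 K)).v (n + 1) (n + 1) (add_zero _) ≫
      (mappingCone.inl (x • 𝟙 K)).v (n + 1) n (by lia) ≫
      (mappingCone.inr (y • 𝟙 (c1 x K))).f n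
  + (mappingCone.snd (x • 𝟙 (c1 y K))).v n n (add_zero n) ≫
      (mappingCone.fst (y • 𝟙 K)).1.v n (n + 1) rfl ≫
      (mappingCone.inr (x • 𝟙 K)).f (n + 1) ≫
      (mappingCone.inl (y • 𝟙 (c1 x K))).v (n + 1) n (by lia)
  + (mappingCone.snd (x • 𝟙 (c1 y K))).v n n (add_zero n) ≫
      (mappingCone.snd (y • 𝟙 K)).v n n (add_zero n) ≫
      (mappingCone.inr (x • 𝟙 K)).f n ≫
      (mappingCone.inr (y • 𝟙 (c1 x K))).f n

@[reassoc]
lemma inl_inl_swapX (x y : R) (K : CochainComplex C ℤ) (n n1 n2 : ℤ) (h1 : n1 + (-1) = n)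
    (h2 : n2 + (-1) = n1) :
    (mappingCone.inl (y • 𝟙 K)).v n2 n1 h2 ≫ (mappingCone.inl (x • 𝟙 (c1 y K))).v n1 n h1 ≫
        swapX x y K n =
      - ((mappingCone.inl (x • 𝟙 K)).v n2 n1 h2 ≫
        (mappingCone.inl (y • 𝟙 (c1 x K))).v n1 n h1) := by
  obtain rfl : n1 = n + 1 := by lia
  obtain rfl : n2 = n + 2 := by lia
  simp only [swapX, Preadditive.comp_add, Preadditive.comp_neg, mappingCone.inl_v_fst_v_assoc,
    mappingCone.inl_v_snd_v_assoc, mappingCone.inl_v_fst_v, mappingCone.inl_v_snd_v, zero_comp,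
    comp_zero, add_zero, neg_zero, zero_add]

@[reassoc]
lemma inr_inl_swapX (x y : R) (K : CochainComplex C ℤ) (n n1 : ℤ) (h1 : n1 + (-1) = n) :
    (mappingCone.inr (y • 𝟙 K)).f n1 ≫ (mappingCone.inl (x • 𝟙 (c1 y K))).v n1 n h1 ≫
        swapX x y K n =
      (mappingCone.inl (x • 𝟙 K)).v n1 n h1 ≫ (mappingCone.inr (y • 𝟙 (c1 x K))).f n := by
  obtain rfl : n1 = n + 1 := by lia
  simp only [swapX, Preadditive.comp_add, Preadditive.comp_neg, mappingCone.inl_v_fst_v_assoc,
    mappingCone.inl_v_snd_v_assoc, mappingCone.inr_f_fst_v_assoc, mappingCone.inr_f_snd_v_assoc,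
    zero_comp, comp_zero, add_zero, neg_zero, zero_add]

@[reassoc]
lemma inl_inr_swapX (x y : R) (K : CochainComplex C ℤ) (n n1 : ℤ) (h1 : n1 + (-1) = n) :
    (mappingCone.inl (y • 𝟙 K)).v n1 n h1 ≫ (mappingCone.inr (x • 𝟙 (c1 y K))).f n ≫
        swapX x y K n =
      (mappingCone.inr (x • 𝟙 K)).f n1 ≫ (mappingCone.inl (y • 𝟙 (c1 x K))).v n1 n h1 := by
  obtain rfl : n1 = n + 1 := by lia
  simp only [swapX, Preadditive.comp_add, Preadditive.comp_neg, mappingCone.inl_v_fst_v_assoc,
    mappingCone.inl_v_snd_v_assoc, mappingCone.inr_f_fst_v_assoc, mappingCone.inr_f_snd_v_assoc,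
    zero_comp, comp_zero, add_zero, neg_zero, zero_add]

@[reassoc]
lemma inr_inr_swapX (x y : R) (K : CochainComplex C ℤ) (n : ℤ) :
    (mappingCone.inr (y • 𝟙 K)).f n ≫ (mappingCone.inr (x • 𝟙 (c1 y K))).f n ≫
        swapX x y K n =
      (mappingCone.inr (x • 𝟙 K)).f n ≫ (mappingCone.inr (y • 𝟙 (c1 x K))).f n := by
  simp only [swapX, Preadditive.comp_add, Preadditive.comp_neg, mappingCone.inl_v_fst_v_assoc,
    mappingCone.inl_v_snd_v_assoc, mappingCone.inr_f_fst_v_assoc, mappingCone.inr_f_snd_v_assoc,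
    zero_comp, comp_zero, add_zero, neg_zero, zero_add]

lemma swapX_swapX (x y : R) (K : CochainComplex C ℤ) (n : ℤ) :
    swapX x y K n ≫ swapX y x K n = 𝟙 _ := by
  rw [mappingCone.ext_from_iff _ (n + 1) n rfl]
  constructor
  · rw [mappingCone.ext_from_iff _ (n + 2) (n + 1) (by lia)]
    constructor
    · simp only [Category.assoc, inl_inl_swapX_assoc, Preadditive.neg_comp, inl_inl_swapX,
        neg_neg, Category.comp_id]
    · simp only [Category.assoc, inr_inl_swapX_assoc, inl_inr_swapX, Category.comp_id]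
  · rw [mappingCone.ext_from_iff _ (n + 1) n rfl]
    constructor
    · simp only [Category.assoc, inl_inr_swapX_assoc, inr_inl_swapX, Category.comp_id]
    · simp only [Category.assoc, inr_inr_swapX_assoc, inr_inr_swapX, Category.comp_id]

lemma swapX_comm (x y : R) (K : CochainComplex C ℤ) (n : ℤ) :
    swapX x y K n ≫ (c2 y x K).d n (n + 1) = (c2 x y K).d n (n + 1) ≫ swapX x y K (n + 1) := by
  rw [mappingCone.ext_from_iff _ (n + 1) n rfl]
  constructor
  · rw [mappingCone.ext_from_iff _ (n + 2) (n + 1) (by lia)]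
    constructor
    · simp only [Category.assoc, inl_inl_swapX_assoc, Preadditive.neg_comp, mappingCone.inl_v_d (y • 𝟙 (c1 x K)) (n + 1) n (n + 2) (by lia) (by lia),
        mappingCone.inl_v_d_assoc (y • 𝟙 (c1 x K)) (n + 1) n (n + 2) (by lia) (by lia),
        mappingCone.inl_v_d_assoc (x • 𝟙 K) (n + 2) (n + 1) (n + 3) (by lia) (by lia),
        mappingCone.inl_v_d_assoc (x • 𝟙 (c1 y K)) (n + 1) n (n + 2) (by lia) (by lia),
        mappingCone.inl_v_d_assoc (y • 𝟙 K) (n + 2) (n + 1) (n + 3) (by lia) (by lia),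
        mappingCone.inl_v_d_assoc (x • 𝟙 K) (n + 1) n (n + 2) (by lia) (by lia),
        mappingCone.inl_v_d_assoc (y • 𝟙 K) (n + 1) n (n + 2) (by lia) (by lia),
        Preadditive.comp_sub, Preadditive.sub_comp, Preadditive.comp_neg,
        HomologicalComplex.smul_f_apply, HomologicalComplex.id_f, Linear.smul_comp,
        Linear.comp_smul, Category.id_comp, Category.comp_id, inl_inr_swapX, inr_inl_swapX,
        inl_inl_swapX, inr_inr_swapX, mappingCone.inr_f_d, mappingCone.inr_f_d_assoc]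
      abel
    · simp only [Category.assoc, inr_inl_swapX_assoc, Preadditive.neg_comp, mappingCone.inl_v_d (y • 𝟙 (c1 x K)) (n + 1) n (n + 2) (by lia) (by lia),
        mappingCone.inl_v_d_assoc (y • 𝟙 (c1 x K)) (n + 1) n (n + 2) (by lia) (by lia),
        mappingCone.inl_v_d_assoc (x • 𝟙 K) (n + 2) (n + 1) (n + 3) (by lia) (by lia),
        mappingCone.inl_v_d_assoc (x • 𝟙 (c1 y K)) (n + 1) n (n + 2) (by lia) (by lia),
        mappingCone.inl_v_d_assoc (y • 𝟙 K) (n + 2) (n + 1) (n + 3) (by lia) (by lia),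
        mappingCone.inl_v_d_assoc (x • 𝟙 K) (n + 1) n (n + 2) (by lia) (by lia),
        mappingCone.inl_v_d_assoc (y • 𝟙 K) (n + 1) n (n + 2) (by lia) (by lia),
        Preadditive.comp_sub, Preadditive.sub_comp, Preadditive.comp_neg,
        HomologicalComplex.smul_f_apply, HomologicalComplex.id_f, Linear.smul_comp,
        Linear.comp_smul, Category.id_comp, Category.comp_id, inl_inr_swapX, inr_inl_swapX,
        inl_inl_swapX, inr_inr_swapX, mappingCone.inr_f_d, mappingCone.inr_f_d_assoc]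
  · rw [mappingCone.ext_from_iff _ (n + 1) n rfl]
    constructor
    · simp only [Category.assoc, inl_inr_swapX_assoc, Preadditive.neg_comp, mappingCone.inl_v_d (y • 𝟙 (c1 x K)) (n + 1) n (n + 2) (by lia) (by lia),
        mappingCone.inl_v_d_assoc (y • 𝟙 (c1 x K)) (n + 1) n (n + 2) (by lia) (by lia),
        mappingCone.inl_v_d_assoc (x • 𝟙 K) (n + 2) (n + 1) (n + 3) (by lia) (by lia),
        mappingCone.inl_v_d_assoc (x • 𝟙 (c1 y K)) (n + 1) n (n + 2) (by lia) (by lia),
        mappingCone.inl_v_d_assoc (y • 𝟙 K) (n + 2) (n + 1) (n + 3) (by lia) (by lia),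
        mappingCone.inl_v_d_assoc (x • 𝟙 K) (n + 1) n (n + 2) (by lia) (by lia),
        mappingCone.inl_v_d_assoc (y • 𝟙 K) (n + 1) n (n + 2) (by lia) (by lia),
        Preadditive.comp_sub, Preadditive.sub_comp, Preadditive.comp_neg,
        HomologicalComplex.smul_f_apply, HomologicalComplex.id_f, Linear.smul_comp,
        Linear.comp_smul, Category.id_comp, Category.comp_id, inl_inr_swapX, inr_inl_swapX,
        inl_inl_swapX, inr_inr_swapX, mappingCone.inr_f_d, mappingCone.inr_f_d_assoc]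
    · simp only [Category.assoc, inr_inr_swapX_assoc, Preadditive.neg_comp, mappingCone.inl_v_d (y • 𝟙 (c1 x K)) (n + 1) n (n + 2) (by lia) (by lia),
        mappingCone.inl_v_d_assoc (y • 𝟙 (c1 x K)) (n + 1) n (n + 2) (by lia) (by lia),
        mappingCone.inl_v_d_assoc (x • 𝟙 K) (n + 2) (n + 1) (n + 3) (by lia) (by lia),
        mappingCone.inl_v_d_assoc (x • 𝟙 (c1 y K)) (n + 1) n (n + 2) (by lia) (by lia),
        mappingCone.inl_v_d_assoc (y • 𝟙 K) (n + 2) (n + 1) (n + 3) (by lia) (by lia),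
        mappingCone.inl_v_d_assoc (x • 𝟙 K) (n + 1) n (n + 2) (by lia) (by lia),
        mappingCone.inl_v_d_assoc (y • 𝟙 K) (n + 1) n (n + 2) (by lia) (by lia),
        Preadditive.comp_sub, Preadditive.sub_comp, Preadditive.comp_neg,
        HomologicalComplex.smul_f_apply, HomologicalComplex.id_f, Linear.smul_comp,
        Linear.comp_smul, Category.id_comp, Category.comp_id, inl_inr_swapX, inr_inl_swapX,
        inl_inl_swapX, inr_inr_swapX, mappingCone.inr_f_d, mappingCone.inr_f_d_assoc]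


/-- the swap as a chain map. -/
noncomputable def swapHom (x y : R) (K : CochainComplex C ℤ) : c2 x y K ⟶ c2 y x K where
  f n := swapX x y K n
  comm' := by
    rintro n _ rfl
    exact swapX_comm x y K n

/-- `cone_x (cone_y K) ≅ cone_y (cone_x K)`. -/
noncomputable def swapIso (x y : R) (K : CochainComplex C ℤ) : c2 x y K ≅ c2 y x K where
  hom := swapHom x y K
  inv := swapHom y x K
  hom_inv_id := by
    apply HomologicalComplex.hom_ext
    intro n
    exact swapX_swapX x y K n
  inv_hom_id := by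
    apply HomologicalComplex.hom_ext
    intro n
    exact swapX_swapX y x K n

/-- iterated cones of scalar multiplications. -/
noncomputable def iterCone : List R → CochainComplex C ℤ → CochainComplex C ℤ
  | [], L => L
  | y :: ys, L => mappingCone (y • 𝟙 (iterCone ys L))

lemma iterCone_cons (y : R) (ys : List R) (L : CochainComplex C ℤ) :
    iterCone (y :: ys) L = mappingCone (y • 𝟙 (iterCone ys L)) := rfl

lemma iterCone_nil (L : CochainComplex C ℤ) : iterCone ([] : List R) L = L := rfl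

lemma iterCone_append (l₁ l₂ : List R) (L : CochainComplex C ℤ) :
    iterCone (l₁ ++ l₂) L = iterCone l₁ (iterCone l₂ L) := by
  induction l₁ with
  | nil => rfl
  | cons y ys ih =>
    show mappingCone (y • 𝟙 (iterCone (ys ++ l₂) L)) =
      mappingCone (y • 𝟙 (iterCone ys (iterCone l₂ L)))
    rw [ih]

/-- the cone of a scalar is functorial for isomorphisms. -/
noncomputable def coneSmulIso (y : R) {K L : CochainComplex C ℤ} (e : K ≅ L) :
    mappingCone (y • 𝟙 K) ≅ mappingCone (y • 𝟙 L) :=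
  Groth.Agent.Lib.KoszulRegH7.coneIso (y • 𝟙 K) (y • 𝟙 L) e e
    (by rw [Linear.smul_comp, Linear.comp_smul, Category.id_comp, Category.comp_id])

/-- iterated cones are functorial for isomorphisms of the base. -/
noncomputable def iterConeIso : ∀ (ys : List R) {K L : CochainComplex C ℤ} (_ : K ≅ L),
    iterCone ys K ≅ iterCone ys L
  | [], _, _, e => e
  | y :: ys, _, _, e => coneSmulIso y (iterConeIso ys e)

theorem iterCone_perm {l₁ l₂ : List R} (h : l₁.Perm l₂) (L : CochainComplex C ℤ) :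
    Nonempty (iterCone l₁ L ≅ iterCone l₂ L) := by
  induction h with
  | nil => exact ⟨Iso.refl _⟩
  | cons x _ ih =>
    obtain ⟨e⟩ := ih
    exact ⟨coneSmulIso x e⟩
  | swap x y l => exact ⟨swapIso y x (iterCone l L)⟩
  | trans _ _ ih1 ih2 =>
    obtain ⟨e1⟩ := ih1
    obtain ⟨e2⟩ := ih2
    exact ⟨e1 ≪≫ e2⟩

end general

section koszul

variable (A : Type u) [CommRing A]

lemma koszul_eq_iterCone (l : List A) :
    Koszul.koszul A l = iterCone l (Koszul.koszul A []) := by
  induction l with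
  | nil => rfl
  | cons y ys ih =>
    show mappingCone (y • 𝟙 (Koszul.koszul A ys)) =
      mappingCone (y • 𝟙 (iterCone ys (Koszul.koszul A [])))
    rw [← ih]

lemma koszul_append (l₁ l₂ : List A) :
    Koszul.koszul A (l₁ ++ l₂) = iterCone l₁ (Koszul.koszul A l₂) := by
  rw [koszul_eq_iterCone, iterCone_append, ← koszul_eq_iterCone A l₂]

theorem koszul_perm {l₁ l₂ : List A} (h : l₁.Perm l₂) :
    Nonempty (Koszul.koszul A l₁ ≅ Koszul.koszul A l₂) := by
  rw [koszul_eq_iterCone A l₁, koszul_eq_iterCone A l₂]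
  exact iterCone_perm h _

end koszul

end Groth.Agent.Lib.KoszulSwap
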