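import Mathlib
import Groth.Prelude.Def_Koszul
import Groth.Prelude.Def_LCI2
import Groth.Agent.Lib.KoszulSwap_helper2

/-!
# Splitting of the cone of a null-homotopic endomorphism; comparison of Koszul complexes of two
generating sequences of the same ideal; Koszul-regular iff minimal length.
-/

set_option autoImplicit false
universe u
open CategoryTheory CategoryTheory.Limits CochainComplex HomComplex

namespace Groth.Agent.Lib.KoszulSplit

open Groth.Agent.Lib.KoszulSwap

variable {A : Type u} [CommRing A]

section split

variable {K : CochainComplex (ModuleCat.{u} A) ℤ} (φ : K ⟶ K) (h : Homotopy φ 0)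

include h in
lemma homologyMap_eq_zero_of_homotopy (j : ℤ) : HomologicalComplex.homologyMap φ j = 0 := by
  rw [h.homologyMap_eq j, HomologicalComplex.homologyMap_zero]

/-- the retraction of `inr` induced by a null-homotopy. -/
noncomputable def retr : mappingCone φ ⟶ K :=
  mappingCone.desc φ (Cochain.ofHomotopy h) (𝟙 K)
    (by rw [δ_ofHomotopy, Category.comp_id, Cochain.ofHom_zero, sub_zero])

lemma inr_retr : mappingCone.inr φ ≫ retr φ h = 𝟙 K := mappingCone.inr_desc _ _ _ _

include h in
theorem coneSplit (n n' : ℤ) (hn : n + 1 = n') :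
    Nonempty ((mappingCone φ).homology n ≃ₗ[A] (K.homology n × K.homology n')) := by
  letI : HasDerivedCategory (ModuleCat.{u} A) := HasDerivedCategory.standard _
  have hT := DerivedCategory.mappingCone_triangle_distinguished φ
  have hφ0 : ∀ j, HomologicalComplex.homologyMap φ j = 0 :=
    fun j => homologyMap_eq_zero_of_homotopy φ h j
  have hri : ∀ w, (HomologicalComplex.homologyMap (retr φ h) n).hom
      ((HomologicalComplex.homologyMap (mappingCone.inr φ) n).hom w) = w := by
    intro w
    have h1 : HomologicalComplex.homologyMap (mappingCone.inr φ) n ≫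
        HomologicalComplex.homologyMap (retr φ h) n = 𝟙 _ := by
      rw [← HomologicalComplex.homologyMap_comp, inr_retr, HomologicalComplex.homologyMap_id]
    have h2 := LinearMap.congr_fun (congrArg ModuleCat.Hom.hom h1) w
    rw [ModuleCat.hom_comp, ModuleCat.hom_id] at h2
    exact h2
  have e3 := CochainComplex.homologyMap_exact₃_of_distTriang
    (mappingCone.triangle φ) hT n n' hn
  have hrk3 : LinearMap.range (HomologicalComplex.homologyMap (mappingCone.inr φ) n).hom =
      LinearMap.ker (homologyδOfTriangle (mappingCone.triangle φ) n n' hn).hom :=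
    (ShortComplex.moduleCat_exact_iff_range_eq_ker _).mp e3
  have e1 := CochainComplex.homologyMap_exact₁_of_distTriang
    (mappingCone.triangle φ) hT n n' hn
  have hrk1 : LinearMap.range (homologyδOfTriangle (mappingCone.triangle φ) n n' hn).hom =
      LinearMap.ker (HomologicalComplex.homologyMap φ n').hom :=
    (ShortComplex.moduleCat_exact_iff_range_eq_ker _).mp e1
  have hδsurj : Function.Surjective (homologyδOfTriangle (mappingCone.triangle φ) n n' hn).hom := by
    apply LinearMap.range_eq_top.mp
    rw [hrk1, hφ0 n', ModuleCat.hom_zero]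
    exact LinearMap.ker_zero
  refine ⟨LinearEquiv.ofBijective
    (LinearMap.prod (HomologicalComplex.homologyMap (retr φ h) n).hom
      (homologyδOfTriangle (mappingCone.triangle φ) n n' hn).hom) ⟨?_, ?_⟩⟩
  · rw [← LinearMap.ker_eq_bot, LinearMap.ker_eq_bot']
    intro z hz
    have hz1 : (HomologicalComplex.homologyMap (retr φ h) n).hom z = 0 :=
      congrArg Prod.fst hz
    have hz2 : (homologyδOfTriangle (mappingCone.triangle φ) n n' hn).hom z = 0 :=
      congrArg Prod.snd hz
    have hzmem : z ∈ LinearMap.range
        (HomologicalComplex.homologyMap (mappingCone.inr φ) n).hom := by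
      rw [hrk3]; exact hz2
    obtain ⟨w, rfl⟩ := hzmem
    rw [hri w] at hz1
    rw [hz1, map_zero]
  · rintro ⟨a, b⟩
    obtain ⟨z₀', hz₀⟩ := hδsurj b
    obtain ⟨z₀, rfl⟩ : ∃ z₀ : (mappingCone φ).homology n, z₀ = z₀' := ⟨z₀', rfl⟩
    have hδi : ∀ w, (homologyδOfTriangle (mappingCone.triangle φ) n n' hn).hom
        ((HomologicalComplex.homologyMap (mappingCone.inr φ) n).hom w) = 0 := by
      intro w
      have : (HomologicalComplex.homologyMap (mappingCone.inr φ) n).hom w ∈
          LinearMap.ker (homologyδOfTriangle (mappingCone.triangle φ) n n' hn).hom := by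
        rw [← hrk3]; exact LinearMap.mem_range_self _ w
      exact this
    refine ⟨z₀ + (HomologicalComplex.homologyMap (mappingCone.inr φ) n).hom
      (a - (HomologicalComplex.homologyMap (retr φ h) n).hom z₀), ?_⟩
    apply Prod.ext
    · show (HomologicalComplex.homologyMap (retr φ h) n).hom (z₀ + _) = a
      rw [map_add, hri]
      abel
    · have hadd : ∀ (u v : (mappingCone φ).homology n),
          (homologyδOfTriangle (mappingCone.triangle φ) n n' hn).hom (u + v) =
          (homologyδOfTriangle (mappingCone.triangle φ) n n' hn).hom u +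
          (homologyδOfTriangle (mappingCone.triangle φ) n n' hn).hom v :=
        fun u v => map_add (homologyδOfTriangle (mappingCone.triangle φ) n n' hn).hom u v
      refine (hadd _ _).trans ?_
      rw [hδi, add_zero]
      exact hz₀

end split

section iter

lemma nullHomotopic_iterCone (ys : List A) (L : CochainComplex (ModuleCat.{u} A) ℤ) (a : A)
    (h : Nonempty (Homotopy (a • 𝟙 L) 0)) :
    Nonempty (Homotopy (a • 𝟙 (iterCone ys L)) 0) := by
  induction ys with
  | nil => exact h
  | cons y ys ih =>
    obtain ⟨h'⟩ := ih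
    exact ⟨Groth.Agent.Lib.KoszulHtpyH7.homotopyB (iterCone ys L) y a h'⟩

lemma isZero_iff_subsingleton (M : ModuleCat.{u} A) : IsZero M ↔ Subsingleton M :=
  ⟨fun h => ModuleCat.subsingleton_of_isZero h, fun _ => ModuleCat.isZero_of_subsingleton M⟩

/-- one step: the cone of a null-homotopic scalar. -/
lemma isZero_cone_iff (L : CochainComplex (ModuleCat.{u} A) ℤ) (y : A)
    (h : Nonempty (Homotopy (y • 𝟙 L) 0)) (m : ℤ) :
    IsZero ((mappingCone (y • 𝟙 L)).homology m) ↔
      IsZero (L.homology m) ∧ IsZero (L.homology (m + 1)) := by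
  obtain ⟨h⟩ := h
  obtain ⟨e⟩ := coneSplit (y • 𝟙 L) h m (m + 1) rfl
  rw [isZero_iff_subsingleton, isZero_iff_subsingleton, isZero_iff_subsingleton]
  constructor
  · intro hs
    haveI : Subsingleton (L.homology m × L.homology (m + 1)) := e.symm.toEquiv.subsingleton
    constructor
    · refine ⟨fun a b => ?_⟩
      have := Subsingleton.elim (a, (0 : L.homology (m + 1))) (b, 0)
      exact congrArg Prod.fst this
    · refine ⟨fun a b => ?_⟩
      have := Subsingleton.elim ((0 : L.homology m), a) (0, b)
      exact congrArg Prod.snd this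
  · rintro ⟨h1, h2⟩
    exact e.toEquiv.subsingleton

theorem isZero_of_isZero_iterCone (L : CochainComplex (ModuleCat.{u} A) ℤ) :
    ∀ (ys : List A) (_ : ∀ y ∈ ys, Nonempty (Homotopy (y • 𝟙 L) 0)) (m : ℤ),
      IsZero ((iterCone ys L).homology m) →
        ∀ j : ℕ, j ≤ ys.length → IsZero (L.homology (m + j)) := by
  intro ys
  induction ys with
  | nil =>
    intro _ m hz j hj
    have hj0 : j = 0 := by simpa using hj
    subst hj0
    have : m + ((0 : ℕ) : ℤ) = m := by simp
    rw [this]
    exact hz
  | cons y ys ih =>
    intro hys m hz j hj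
    have hys' : ∀ y ∈ ys, Nonempty (Homotopy (y • 𝟙 L) 0) :=
      fun z hz => hys z (List.mem_cons_of_mem _ hz)
    have hy := nullHomotopic_iterCone ys L y (hys y List.mem_cons_self)
    have h2 := (isZero_cone_iff (iterCone ys L) y hy m).mp hz
    rcases Nat.eq_zero_or_pos j with rfl | hjpos
    · exact ih hys' m h2.1 0 (Nat.zero_le _)
    · obtain ⟨j', rfl⟩ : ∃ j', j = j' + 1 := ⟨j - 1, by lia⟩
      have hj' : j' ≤ ys.length := by simpa using hj
      have := ih hys' (m + 1) h2.2 j' hj'
      have e : m + 1 + (j' : ℤ) = m + ((j' + 1 : ℕ) : ℤ) := by push_cast; ring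
      rw [← e]
      exact this

theorem isZero_iterCone_of_isZero (L : CochainComplex (ModuleCat.{u} A) ℤ) :
    ∀ (ys : List A) (_ : ∀ y ∈ ys, Nonempty (Homotopy (y • 𝟙 L) 0)) (m : ℤ),
      (∀ j : ℕ, j ≤ ys.length → IsZero (L.homology (m + j))) →
        IsZero ((iterCone ys L).homology m) := by
  intro ys
  induction ys with
  | nil =>
    intro _ m hz
    have := hz 0 (Nat.zero_le _)
    have e : m + ((0 : ℕ) : ℤ) = m := by simp
    rw [e] at this
    exact this
  | cons y ys ih =>
    intro hys m hz
    have hys' : ∀ y ∈ ys, Nonempty (Homotopy (y • 𝟙 L) 0) :=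
      fun z hz => hys z (List.mem_cons_of_mem _ hz)
    have hy := nullHomotopic_iterCone ys L y (hys y List.mem_cons_self)
    refine (isZero_cone_iff (iterCone ys L) y hy m).mpr ⟨?_, ?_⟩
    · apply ih hys' m
      intro j hj
      exact hz j (by simp only [List.length_cons]; lia)
    · apply ih hys' (m + 1)
      intro j hj
      have := hz (j + 1) (by simp only [List.length_cons]; lia)
      have e : m + 1 + (j : ℤ) = m + ((j + 1 : ℕ) : ℤ) := by push_cast; ring
      rw [e]
      exact this

end iter

section compare

variable (A)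

lemma nullHomotopic_koszul (b : List A) (y : A) (hy : y ∈ Ideal.ofList b) :
    Nonempty (Homotopy (y • 𝟙 (Koszul.koszul A b)) 0) := by
  rw [Groth.Agent.Lib.KoszulTopH7.koszul_eq]
  exact Groth.Agent.Lib.KoszulHtpyH7.main (ModuleCat.of A A) b y hy

/-- transfer of vanishing between Koszul complexes of two generating sequences. -/
theorem transfer (a b : List A) (hab : Ideal.ofList a = Ideal.ofList b) (m : ℤ)
    (hz : ∀ j : ℕ, j ≤ a.length → IsZero ((Koszul.koszul A b).homology (m + j))) :
    ∀ j : ℕ, j ≤ b.length → IsZero ((Koszul.koszul A a).homology (m + j)) := by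
  have h1 : IsZero ((iterCone a (Koszul.koszul A b)).homology m) := by
    apply isZero_iterCone_of_isZero _ a _ m hz
    intro y hy
    apply nullHomotopic_koszul
    rw [← hab]
    exact Ideal.subset_span hy
  obtain ⟨e⟩ := koszul_perm A (List.perm_append_comm (l₁ := a) (l₂ := b))
  rw [koszul_append, koszul_append] at e
  have h2 : IsZero ((iterCone b (Koszul.koszul A a)).homology m) :=
    IsZero.of_iso h1 ((HomologicalComplex.homologyFunctor _ _ m).mapIso e.symm)
  apply isZero_of_isZero_iterCone _ b _ m h2
  intro y hy
  apply nullHomotopic_koszul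
  rw [hab]
  exact Ideal.subset_span hy

lemma isZero_homology_pos (l : List A) (i : ℤ) (hi : 0 < i) :
    IsZero ((Koszul.koszul A l).homology i) := by
  rw [← HomologicalComplex.exactAt_iff_isZero_homology]
  apply HomologicalComplex.ExactAt.of_isZero
  rw [Groth.Agent.Lib.KoszulTopH7.koszul_eq]
  exact (Groth.Agent.Lib.KoszulTopH7.topData (ModuleCat.of A A) l).isZero_pos i hi

lemma not_isZero_homology_zero (l : List A) (hl : Ideal.ofList l ≠ ⊤) :
    ¬ IsZero ((Koszul.koszul A l).homology 0) := by
  intro hz
  rw [Groth.Agent.Lib.KoszulTopH7.koszul_eq] at hz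
  obtain ⟨e⟩ := Groth.Agent.Lib.KoszulTopH7.top_equiv' A l 0 rfl
  haveI := ModuleCat.subsingleton_of_isZero hz
  haveI : Subsingleton (A ⧸ (Ideal.ofList l • (⊤ : Submodule A A))) := e.symm.toEquiv.subsingleton
  have h1 : (Ideal.ofList l • (⊤ : Submodule A A)) = ⊤ :=
    Submodule.Quotient.subsingleton_iff.mp this
  apply hl
  rw [← h1, smul_eq_mul, Ideal.mul_top]

theorem main18935 {I : Ideal A} (hI : I ≠ ⊤)
    (g : List A) (hg : LCI.IsKoszulRegularSeq A g) (hgI : Ideal.ofList g = I)
    (f : List A) (hfI : Ideal.ofList f = I) :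
    LCI.IsKoszulRegularSeq A f ↔ ∀ h : List A, Ideal.ofList h = I → f.length ≤ h.length := by
  constructor
  · intro hf h hhI
    by_contra hlt
    push Not at hlt
    have key := transfer A h f (hhI.trans hfI.symm) (-(f.length : ℤ)) (by
      intro j hj
      apply hf
      lia)
    have := key f.length le_rfl
    rw [neg_add_cancel] at this
    exact not_isZero_homology_zero A h (by rw [hhI]; exact hI) this
  · intro hmin i hi
    rcases lt_or_gt_of_ne hi with hneg | hpos
    · have hrs : f.length ≤ g.length := hmin g hgI
      have key := transfer A f g (hfI.trans hgI.symm) (i - (g.length : ℤ)) (by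
        intro j hj
        apply hg
        lia)
      have := key g.length le_rfl
      rw [sub_add_cancel] at this
      exact this
    · exact isZero_homology_pos A f i hpos

end compare

end Groth.Agent.Lib.KoszulSplit
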