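import Mathlib
import Groth.Prelude.Def_Koszul
import Groth.Prelude.Def_LCI2
import Groth.Agent.Lib.KoszulTop_helper7
import Groth.Agent.Lib.KoszulDepth_helper7
import Groth.Agent.Lib.KoszulFlat_helper9
import Groth.Agent.Lib.KoszulBC_helper2
import Groth.Agent.Lib.KoszulSplit_helper2

/-!
# Koszul-regular sequences and ideals: flat base change, flexible localisation models, transport
along ring isomorphisms, quotient by a regular element, adjoining an element regular on the quotient.
-/

set_option autoImplicit false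
universe u
open CategoryTheory CategoryTheory.Limits CochainComplex HomComplex
open scoped Pointwise

namespace Groth.Agent.Lib.KRegIdeal

section flat

variable {R C : Type u} [CommRing R] [CommRing C]

/-- flat base change of Koszul-regular sequences. -/
theorem kreg_map_of_flat (f : R →+* C) (hf : f.Flat) (l : List R)
    (hl : LCI.IsKoszulRegularSeq R l) : LCI.IsKoszulRegularSeq C (l.map f) := by
  intro i hi
  have h1 := Groth.Agent.KoszulFlat9.isZero_homology_koszul_map f hf l hl i hi
  let e : ((ModuleCat.extendScalars.{u, u, u} f).obj (ModuleCat.of R R)) ≅ ModuleCat.of C C :=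
    (Groth.Agent.KoszulFlat9.extendScalarsSelfEquiv f).toModuleIso
  refine Groth.Agent.Lib.KoszulTopH7.isZero_homology_of_eq
    (Groth.Agent.Lib.KoszulTopH7.koszul_eq (l.map f)) i ?_
  exact IsZero.of_iso h1 ((HomologicalComplex.homologyFunctor _ _ i).mapIso
    (Groth.Agent.Lib.KoszulBC.koszulCxIso e (l.map f)).symm)

theorem kreg_map_equiv (e : R ≃+* C) (l : List R)
    (hl : LCI.IsKoszulRegularSeq R l) : LCI.IsKoszulRegularSeq C (l.map e) :=
  kreg_map_of_flat (e : R →+* C) (RingHom.Flat.of_bijective e.bijective) l hl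

theorem kreg_map_of_isLocalization (M : Submonoid R) [Algebra R C] [IsLocalization M C]
    (l : List R) (hl : LCI.IsKoszulRegularSeq R l) :
    LCI.IsKoszulRegularSeq C (l.map (algebraMap R C)) := by
  apply kreg_map_of_flat (algebraMap R C) ?_ l hl
  rw [RingHom.flat_algebraMap_iff]
  exact IsLocalization.flat C M

end flat

section model

variable {R : Type u} [CommRing R]

/-- flexible form of Koszul-regular ideals: any model of the localisation may be used. -/
def KR (I : Ideal R) : Prop :=
  ∀ 𝔭 : Ideal R, 𝔭.IsPrime → I ≤ 𝔭 → ∃ g : R, g ∉ 𝔭 ∧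
    ∃ (T : Type u) (_ : CommRing T) (_ : Algebra R T) (_ : IsLocalization.Away g T)
      (l : List T), LCI.IsKoszulRegularSeq T l ∧ I.map (algebraMap R T) = Ideal.ofList l

theorem kr_of_isKoszulRegularIdeal (I : Ideal R) (h : LCI.IsKoszulRegularIdeal I) : KR I := by
  intro 𝔭 h𝔭 hle
  obtain ⟨g, hg, l, hl, hI⟩ := h ⟨𝔭, h𝔭⟩ hle
  exact ⟨g, hg, Localization.Away g, inferInstance, inferInstance, inferInstance, l, hl, hI⟩

theorem isKoszulRegularIdeal_of_kr (I : Ideal R) (h : KR I) : LCI.IsKoszulRegularIdeal I := by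
  intro 𝔭 hle
  obtain ⟨g, hg, T, _, _, _, l, hl, hI⟩ := h 𝔭.asIdeal 𝔭.isPrime hle
  refine ⟨g, hg, ?_⟩
  let e : T ≃ₐ[R] Localization.Away g :=
    IsLocalization.algEquiv (Submonoid.powers g) T (Localization.Away g)
  refine ⟨l.map e, kreg_map_equiv e.toRingEquiv l hl, ?_⟩
  have hcomp : (algebraMap R (Localization.Away g)) =
      (e : T →+* Localization.Away g).comp (algebraMap R T) := by
    ext x
    exact (e.commutes x).symm
  show Ideal.map (algebraMap R (Localization.Away g)) I = Ideal.ofList (l.map e)
  rw [hcomp, ← Ideal.map_map, hI, Ideal.map_ofList]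
  rfl

theorem kr_iff (I : Ideal R) : LCI.IsKoszulRegularIdeal I ↔ KR I :=
  ⟨kr_of_isKoszulRegularIdeal I, isKoszulRegularIdeal_of_kr I⟩

/-- transport along a ring isomorphism. -/
theorem kr_comap_equiv {R' : Type u} [CommRing R'] (e : R ≃+* R') (I : Ideal R') (h : KR I) :
    KR (I.comap (e : R →+* R')) := by
  intro 𝔭 h𝔭 hle
  have h𝔭' : (𝔭.comap (e.symm : R' →+* R)).IsPrime := Ideal.comap_isPrime _ _
  have hle' : I ≤ 𝔭.comap (e.symm : R' →+* R) := by
    intro x hx
    rw [Ideal.mem_comap]
    apply hle
    rw [Ideal.mem_comap]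
    show e (e.symm x) ∈ I
    rw [e.apply_symm_apply]
    exact hx
  obtain ⟨g', hg', T, _, _, hloc, l, hl, hI⟩ := h _ h𝔭' hle'
  refine ⟨e.symm g', hg', T, inferInstance, ((algebraMap R' T).comp (e : R →+* R')).toAlgebra, ?_,
    l, hl, ?_⟩
  · letI : Algebra R T := ((algebraMap R' T).comp (e : R →+* R')).toAlgebra
    have hmap : ∀ x : R, algebraMap R T x = algebraMap R' T (e x) := fun x => rfl
    refine IsLocalization.Away.mk _ ?_ ?_ ?_
    · rw [hmap, e.apply_symm_apply]
      exact IsLocalization.Away.algebraMap_isUnit g'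
    · intro z
      obtain ⟨n, a, ha⟩ := IsLocalization.Away.surj g' z
      refine ⟨n, e.symm a, ?_⟩
      rw [hmap, hmap, e.apply_symm_apply, e.apply_symm_apply]
      exact ha
    · intro a b hab
      rw [hmap, hmap] at hab
      obtain ⟨n, hn⟩ := IsLocalization.Away.exists_of_eq g' hab
      refine ⟨n, ?_⟩
      apply e.injective
      rw [map_mul, map_mul, map_pow, e.apply_symm_apply]
      exact hn
  · letI : Algebra R T := ((algebraMap R' T).comp (e : R →+* R')).toAlgebra
    show Ideal.map ((algebraMap R' T).comp (e : R →+* R')) (I.comap (e : R →+* R')) = _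
    rw [← Ideal.map_map, Ideal.map_comap_of_surjective (e : R →+* R') e.surjective I, hI]

end model

section quot

variable {T : Type u} [CommRing T]

/-- quotient by a regular element which is the head of a Koszul-regular sequence. -/
theorem kreg_quot (a : T) (ha : IsSMulRegular T a) (L : List T)
    (h : LCI.IsKoszulRegularSeq T (a :: L)) :
    LCI.IsKoszulRegularSeq (T ⧸ Ideal.span {a})
      (L.map (Ideal.Quotient.mk (Ideal.span {a}))) := by
  apply Groth.Agent.Lib.KoszulBC.isKoszulRegularSeq_map_of_restrict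
    (Ideal.Quotient.mk (Ideal.span {a})) L
  intro i hi
  let K := CohIII.koszulCx (ModuleCat.of T T) L
  have hS : (Groth.Agent.Lib.KoszulRegH7.sc a K).ShortExact :=
    Groth.Agent.Lib.KoszulRegH7.sc_shortExact a K
      (Groth.Agent.Lib.KoszulRegH7.isSMulRegular_X a (ModuleCat.of T T) ha L)
  haveI := mappingCone.quasiIso_descShortComplex hS
  have h1 : IsZero ((mappingCone (Groth.Agent.Lib.KoszulRegH7.sc a K).f).homology i) := by
    exact Groth.Agent.Lib.KoszulTopH7.isZero_homology_of_eq
      (Groth.Agent.Lib.KoszulTopH7.koszul_eq (a :: L)).symm i (h i hi)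
  have h2 : IsZero ((CohIII.koszulCx
      ((Groth.Agent.Lib.KoszulRegH7.quotFunctor a).obj (ModuleCat.of T T)) L).homology i) :=
    IsZero.of_iso h1
      (isoOfQuasiIsoAt (mappingCone.descShortComplex (Groth.Agent.Lib.KoszulRegH7.sc a K)) i ≪≫
        (HomologicalComplex.homologyFunctor _ _ i).mapIso
          (Groth.Agent.Lib.KoszulRegH7.koszulIso a (ModuleCat.of T T) L)).symm
  have hsub : (Ideal.span {a} : Submodule T T) = a • (⊤ : Submodule T T) := by
    rw [← Submodule.ideal_span_singleton_smul, smul_eq_mul, Ideal.mul_top]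
  let e0 : (T ⧸ Ideal.span {a}) ≃ₗ[T] QuotSMulTop a T := Submodule.quotEquivOfEq _ _ hsub
  let e' : ((ModuleCat.restrictScalars.{u} (Ideal.Quotient.mk (Ideal.span {a}))).obj
      (ModuleCat.of (T ⧸ Ideal.span {a}) (T ⧸ Ideal.span {a}))) ≃ₗ[T] QuotSMulTop a T :=
    { toFun := fun t => e0 (show T ⧸ Ideal.span {a} from t)
      map_add' := fun x y => map_add e0 (show T ⧸ Ideal.span {a} from x) (show _ from y)
      map_smul' := fun r x => by
        have h1 : ((Ideal.Quotient.mk (Ideal.span {a}) r) * (show T ⧸ Ideal.span {a} from x)) =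
            r • (show T ⧸ Ideal.span {a} from x) := by
          obtain ⟨y, hy⟩ := Ideal.Quotient.mk_surjective (show T ⧸ Ideal.span {a} from x)
          rw [← hy]
          rfl
        show e0 ((Ideal.Quotient.mk (Ideal.span {a}) r) * (show T ⧸ Ideal.span {a} from x)) =
          r • e0 (show T ⧸ Ideal.span {a} from x)
        rw [h1, map_smul]
      invFun := fun z => e0.symm z
      left_inv := fun x => e0.symm_apply_apply (show T ⧸ Ideal.span {a} from x)
      right_inv := fun z => e0.apply_symm_apply z }
  exact IsZero.of_iso h2 ((HomologicalComplex.homologyFunctor _ _ i).mapIso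
    (Groth.Agent.Lib.KoszulBC.koszulCxIso e'.toModuleIso L))

/-- adjoining an element which is regular on the quotient. -/
theorem kreg_cons (a : T) (L : List T) (hL : LCI.IsKoszulRegularSeq T L)
    (ha : ∀ x : T, a * x ∈ Ideal.ofList L → x ∈ Ideal.ofList L) :
    LCI.IsKoszulRegularSeq T (a :: L) := by
  intro i hi
  rcases lt_or_gt_of_ne hi with hneg | hpos
  swap
  · exact Groth.Agent.Lib.KoszulSplit.isZero_homology_pos T (a :: L) i hpos
  let C := Koszul.koszul T L
  show IsZero ((mappingCone (a • 𝟙 C)).homology i)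
  letI : HasDerivedCategory (ModuleCat.{u} T) := HasDerivedCategory.standard _
  have hT := DerivedCategory.mappingCone_triangle_distinguished (a • 𝟙 C)
  have e3 := CochainComplex.homologyMap_exact₃_of_distTriang
    (mappingCone.triangle (a • 𝟙 C)) hT i (i + 1) rfl
  have hrk3 : LinearMap.range (HomologicalComplex.homologyMap (mappingCone.inr (a • 𝟙 C)) i).hom =
      LinearMap.ker (homologyδOfTriangle (mappingCone.triangle (a • 𝟙 C)) i (i + 1) rfl).hom :=
    (ShortComplex.moduleCat_exact_iff_range_eq_ker _).mp e3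
  have e1 := CochainComplex.homologyMap_exact₁_of_distTriang
    (mappingCone.triangle (a • 𝟙 C)) hT i (i + 1) rfl
  have hrk1 : LinearMap.range (homologyδOfTriangle (mappingCone.triangle (a • 𝟙 C)) i (i + 1)
      rfl).hom = LinearMap.ker (HomologicalComplex.homologyMap (a • 𝟙 C) (i + 1)).hom :=
    (ShortComplex.moduleCat_exact_iff_range_eq_ker _).mp e1
  have hCi : IsZero (C.homology i) := hL i hi
  haveI : Subsingleton (C.homology i) := ModuleCat.subsingleton_of_isZero hCi
  -- δ is injective
  have hδinj : ∀ z : (mappingCone (a • 𝟙 C)).homology i,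
      (homologyδOfTriangle (mappingCone.triangle (a • 𝟙 C)) i (i + 1) rfl).hom z = 0 → z = 0 := by
    intro z hz
    have hzmem : z ∈ LinearMap.range
        (HomologicalComplex.homologyMap (mappingCone.inr (a • 𝟙 C)) i).hom := by
      rw [hrk3]; exact hz
    obtain ⟨w, rfl⟩ := hzmem
    rw [Subsingleton.elim w 0, map_zero]
  -- the kernel of `a` on the next homology vanishes
  have hker : ∀ y : C.homology (i + 1),
      (HomologicalComplex.homologyMap (a • 𝟙 C) (i + 1)).hom y = 0 → y = 0 := by
    intro y hy
    by_cases hi1 : i + 1 = 0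
    · rw [Groth.Agent.Lib.KoszulDepthH7.homologyMap_smul, HomologicalComplex.homologyMap_id,
        ModuleCat.hom_smul, ModuleCat.hom_id] at hy
      have hy' : a • y = 0 := hy
      have hz0 : IsZero ((Koszul.koszul T L).homology (i + 1)) → y = 0 := fun hz => by
        haveI := ModuleCat.subsingleton_of_isZero hz
        exact Subsingleton.elim _ _
      obtain ⟨e⟩ : Nonempty (↑(C.homology (i + 1)) ≃ₗ[T]
          (T ⧸ (Ideal.ofList L • (⊤ : Submodule T T)))) := by
        have := Groth.Agent.Lib.KoszulTopH7.top_equiv' T L (i + 1) hi1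
        rw [← Groth.Agent.Lib.KoszulTopH7.koszul_eq] at this
        exact this
      apply e.injective
      rw [map_zero]
      obtain ⟨x, hx⟩ := Submodule.Quotient.mk_surjective _ (e y)
      have h2 : a • e y = 0 := by rw [← map_smul, hy', map_zero]
      rw [← hx, ← Submodule.Quotient.mk_smul, Submodule.Quotient.mk_eq_zero, smul_eq_mul,
        smul_eq_mul, Ideal.mul_top] at h2
      rw [← hx, Submodule.Quotient.mk_eq_zero, smul_eq_mul, Ideal.mul_top]
      exact ha x h2
    · haveI := ModuleCat.subsingleton_of_isZero (hL (i + 1) hi1)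
      exact Subsingleton.elim _ _
  rw [Groth.Agent.Lib.KoszulSplit.isZero_iff_subsingleton]
  refine ⟨fun z z' => ?_⟩
  have hz : ∀ z : (mappingCone (a • 𝟙 C)).homology i, z = 0 := by
    intro z
    apply hδinj
    apply hker
    have : (homologyδOfTriangle (mappingCone.triangle (a • 𝟙 C)) i (i + 1) rfl).hom z ∈
        LinearMap.ker (HomologicalComplex.homologyMap (a • 𝟙 C) (i + 1)).hom := by
      rw [← hrk1]; exact LinearMap.mem_range_self _ z
    exact this
  rw [hz z, hz z']

end quot

end Groth.Agent.Lib.KRegIdeal
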