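import Mathlib
import Groth.Prelude.Def_RegImm
import Groth.Agent.Lib.KoszulLow_helper2
import Groth.Agent.Lib.KRegIdeal_helper2
import Groth.Agent.Lib.QuasiReg_helper5

/-!
# Flat base change of regular / Koszul-regular / `H_1`-regular / quasi-regular sequences (helper2)
-/

set_option autoImplicit false
universe u
open CategoryTheory CategoryTheory.Limits

namespace Groth.Agent.Lib.RegKindFlat

variable {R C : Type u} [CommRing R] [CommRing C]

/-- flat base change of vanishing Koszul cohomology in one degree -/
theorem isZero_homology_map_of_flat (f : R →+* C) (hf : f.Flat) (l : List R) (i : ℤ)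
    (h : IsZero ((Koszul.koszul R l).homology i)) :
    IsZero ((Koszul.koszul C (l.map f)).homology i) := by
  haveI := ModuleCat.preservesFiniteLimits_extendScalars_of_flat hf
  have h1 : IsZero ((CohIII.koszulCx (ModuleCat.of R R) l).homology i) :=
    Groth.Agent.Lib.KoszulTopH7.isZero_homology_of_eq
      (Groth.Agent.Lib.KoszulTopH7.koszul_eq l).symm i h
  have h2 := Groth.Agent.KoszulFlat9.isZero_homology_map (ModuleCat.extendScalars.{u, u, u} f) _ i h1
  have h3 : IsZero ((CohIII.koszulCx ((ModuleCat.extendScalars.{u, u, u} f).obj (ModuleCat.of R R))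
      (l.map f)).homology i) :=
    IsZero.of_iso h2 ((HomologicalComplex.homologyFunctor _ _ i).mapIso
      (Groth.Agent.KoszulFlat9.koszulMapIso (ModuleCat.extendScalars.{u, u, u} f) f
        (Groth.Agent.KoszulFlat9.extendScalars_map_smul_id f) (ModuleCat.of R R) l)).symm
  let e : ((ModuleCat.extendScalars.{u, u, u} f).obj (ModuleCat.of R R)) ≅ ModuleCat.of C C :=
    (Groth.Agent.KoszulFlat9.extendScalarsSelfEquiv f).toModuleIso
  refine Groth.Agent.Lib.KoszulTopH7.isZero_homology_of_eq
    (Groth.Agent.Lib.KoszulTopH7.koszul_eq (l.map f)) i ?_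
  exact IsZero.of_iso h3 ((HomologicalComplex.homologyFunctor _ _ i).mapIso
    (Groth.Agent.Lib.KoszulBC.koszulCxIso e (l.map f)).symm)

/-- flat base change of `H_1`-regular sequences -/
theorem h1_map_of_flat (f : R →+* C) (hf : f.Flat) (l : List R)
    (h : CAlgX.IsH1Regular l.get) : CAlgX.IsH1Regular (l.map f).get := by
  rw [← Groth.Agent.Lib.KoszulLow.isZero_homology_neg_one_iff] at h ⊢
  exact isZero_homology_map_of_flat f hf l (-1) h

open MvPolynomial Groth.Agent.QuasiReg in
/-- flat base change of quasi-regular families (equational criterion of flatness) -/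
theorem qr_comp_of_flat {σ : Type*} [Fintype σ] (f : R →+* C) (hf : f.Flat) (g : σ → R)
    (hg : QR g) : QR (fun i => f (g i)) := by
  classical
  apply ZForm.qr
  have hz := hg.zForm
  intro n P hP hev d
  letI := f.toAlgebra
  haveI : Module.Flat R C := hf
  have hfa : ∀ r : R, ∀ c : C, r • c = f r * c := fun r c => by
    rw [Algebra.smul_def]; rfl
  -- the monomial values
  let mon : (σ →₀ ℕ) → R := fun m => m.prod fun i e => g i ^ e
  have hmon : ∀ m : σ →₀ ℕ, f (mon m) = ∏ i, f (g i) ^ m i := by
    intro m
    show f (m.prod fun i e => g i ^ e) = _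
    rw [map_finsuppProd, Finsupp.prod_fintype _ _ (fun i => by rw [map_pow, pow_zero])]
    simp only [map_pow]
  have hrel : ∑ m : P.support, mon m.1 • P.coeff m.1 = 0 := by
    rw [Finset.sum_coe_sort P.support (fun m => mon m • P.coeff m), ← hev, eval_eq']
    refine Finset.sum_congr rfl fun m _ => ?_
    rw [hfa, hmon, mul_comm]
  obtain ⟨k, a, y, hxy, hay⟩ := Module.Flat.isTrivialRelation_of_sum_smul_eq_zero (R := R) (M := C)
    (f := fun m : P.support => mon m.1) (x := fun m : P.support => P.coeff m.1) hrel
  by_cases hd : d ∈ P.support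
  · have key : ∀ j : Fin k, a ⟨d, hd⟩ j ∈ Ideal.span (Set.range g) := by
      intro j
      let Q : MvPolynomial σ R := ∑ m : P.support, monomial m.1 (a m j)
      have hQhom : Q.IsHomogeneous n := by
        apply IsHomogeneous.sum
        intro m _
        apply isHomogeneous_monomial
        have := hP.degree_eq_sum_deg_support m.2
        rw [Finsupp.degree_apply]
        exact this.symm
      have hQev : eval g Q = 0 := by
        show eval g (∑ m : P.support, monomial m.1 (a m j)) = 0
        rw [map_sum, ← hay j]
        refine Finset.sum_congr rfl fun m _ => ?_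
        rw [eval_monomial, mul_comm]
      have hc := hz n Q hQhom hQev d
      have hcoeff : Q.coeff d = a ⟨d, hd⟩ j := by
        show (∑ m : P.support, monomial m.1 (a m j)).coeff d = _
        rw [coeff_sum]
        rw [Finset.sum_eq_single (⟨d, hd⟩ : P.support)]
        · rw [coeff_monomial, if_pos rfl]
        · intro m _ hm
          rw [coeff_monomial, if_neg]
          intro h
          exact hm (Subtype.ext h)
        · intro h; exact absurd (Finset.mem_univ _) h
      rw [hcoeff] at hc
      exact hc
    have hx := hxy ⟨d, hd⟩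
    show P.coeff d ∈ _
    rw [show P.coeff d = ∑ j, a ⟨d, hd⟩ j • y j from hx]
    refine Ideal.sum_mem _ fun j _ => ?_
    rw [hfa]
    apply Ideal.mul_mem_right
    have hmap : Ideal.map f (Ideal.span (Set.range g)) =
        Ideal.span (Set.range fun i => f (g i)) := by
      rw [Ideal.map_span, ← Set.range_comp]
      rfl
    rw [← hmap]
    exact Ideal.mem_map_of_mem f (key j)
  · rw [notMem_support_iff.mp hd]
    exact Submodule.zero_mem _

/-- flat base change of quasi-regular sequences -/
theorem quasi_map_of_flat (f : R →+* C) (hf : f.Flat) (l : List R)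
    (h : CAlgX.IsQuasiRegular l.get) : CAlgX.IsQuasiRegular (l.map f).get := by
  have h1 := qr_comp_of_flat f hf l.get h
  have h2 := Groth.Agent.QuasiReg.qr_comp_equiv (finCongr (List.length_map f)) _ h1
  have h3 : ((fun i => f (l.get i)) ∘ (finCongr (List.length_map (as := l) f))) = (l.map f).get := by
    funext i
    simp
  rw [h3] at h2
  exact h2

/-- flat base change of sequences of a given kind; the regular kind needs that the extended
ideal is proper. -/
theorem seq_map_of_flat (k : RegImm.Kind) (f : R →+* C) (hf : f.Flat) (rs : List R)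
    (h : k.Seq R rs) (hne : Ideal.ofList (rs.map f) ≠ ⊤) : k.Seq C (rs.map f) := by
  cases k with
  | regular =>
    letI := f.toAlgebra
    haveI : Module.Flat R C := hf
    have h' : RingTheory.Sequence.IsRegular R rs := h
    refine ⟨h'.1.of_flat (S := C), ?_⟩
    intro htop
    apply hne
    have : Ideal.ofList (rs.map f) • (⊤ : Submodule C C) = ⊤ := htop.symm
    rwa [smul_eq_mul, Ideal.mul_top] at this
  | koszul => exact Groth.Agent.Lib.KRegIdeal.kreg_map_of_flat f hf rs h
  | h1 => exact h1_map_of_flat f hf rs h
  | quasi => exact quasi_map_of_flat f hf rs h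

end Groth.Agent.Lib.RegKindFlat
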