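import Mathlib
import Groth.Prelude

/-!
# Acyclicity of the exterior-power Koszul complex of a weakly regular sequence (helper7)

Ring level: `A` free with basis `b`, `φ : A → R` a linear form with `φ(b_0), …, φ(b_{n-1})` weakly
regular.  Inside the exterior algebra, contraction with `φ` is exact in positive degrees.
APPEND-ONLY once landed.
-/

set_option autoImplicit false
set_option linter.style.haveILetI false

open ExteriorAlgebra

namespace Groth.Agent.Lib.KoszAcycH7

section RingLevel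

variable {R : Type*} [CommRing R] {A : Type*} [AddCommGroup A] [Module R A]

/-- Contraction with a linear form on the exterior algebra. -/
noncomputable def cL (β : A →ₗ[R] R) : ExteriorAlgebra R A →ₗ[R] ExteriorAlgebra R A :=
  CliffordAlgebra.contractLeft (Q := (0 : QuadraticForm R A)) β

theorem cL_ι_mul (β : A →ₗ[R] R) (a : A) (w : ExteriorAlgebra R A) :
    cL β (ι R a * w) = β a • w - ι R a * cL β w :=
  CliffordAlgebra.contractLeft_ι_mul β a w

theorem cL_algebraMap (β : A →ₗ[R] R) (r : R) :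
    cL β (algebraMap R (ExteriorAlgebra R A) r) = 0 :=
  CliffordAlgebra.contractLeft_algebraMap _ β r

theorem cL_one (β : A →ₗ[R] R) : cL β (1 : ExteriorAlgebra R A) = 0 :=
  CliffordAlgebra.contractLeft_one _ β

theorem cL_ι (β : A →ₗ[R] R) (a : A) :
    cL β (ι R a) = algebraMap R (ExteriorAlgebra R A) (β a) :=
  CliffordAlgebra.contractLeft_ι _ β a

theorem cL_comm (β γ : A →ₗ[R] R) (w : ExteriorAlgebra R A) :
    cL β (cL γ w) = -cL γ (cL β w) :=
  CliffordAlgebra.contractLeft_comm β γ w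

/-- The degree `q` piece of the subalgebra generated by a submodule `N`. -/
noncomputable def Gr (N : Submodule R A) (q : ℕ) : Submodule R (ExteriorAlgebra R A) :=
  (N.map (ι R)) ^ q

theorem Gr_zero (N : Submodule R A) : Gr N 0 = 1 := pow_zero _

theorem mem_Gr_zero {N : Submodule R A} {w : ExteriorAlgebra R A} :
    w ∈ Gr N 0 ↔ ∃ r : R, algebraMap R (ExteriorAlgebra R A) r = w := by
  rw [Gr_zero]
  exact Submodule.mem_one

theorem Gr_succ (N : Submodule R A) (q : ℕ) : Gr N (q + 1) = N.map (ι R) * Gr N q :=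
  pow_succ' _ _

theorem mem_Gr_one {N : Submodule R A} {w : ExteriorAlgebra R A} :
    w ∈ Gr N 1 ↔ ∃ a ∈ N, ι R a = w := by
  have h : Gr N 1 = N.map (ι R) := pow_one _
  rw [h]
  exact Submodule.mem_map

theorem Gr_top (q : ℕ) : Gr (⊤ : Submodule R A) q = ⋀[R]^q A := by
  unfold Gr
  rw [Submodule.map_top]

theorem Gr_bot_succ (q : ℕ) : Gr (⊥ : Submodule R A) (q + 1) = ⊥ := by
  rw [Gr_succ, Submodule.map_bot, Submodule.bot_mul]

theorem ι_mul_mem {N : Submodule R A} {q : ℕ} {a : A} (ha : a ∈ N) {w : ExteriorAlgebra R A}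
    (hw : w ∈ Gr N q) : ι R a * w ∈ Gr N (q + 1) := by
  rw [Gr_succ]
  exact Submodule.mul_mem_mul (Submodule.mem_map_of_mem ha) hw

theorem Gr_mono {N N' : Submodule R A} (h : N ≤ N') (q : ℕ) : Gr N q ≤ Gr N' q := by
  induction q with
  | zero => rw [Gr_zero, Gr_zero]
  | succ q ih =>
    rw [Gr_succ, Gr_succ]
    exact Submodule.mul_le.mpr fun m hm w hw =>
      Submodule.mul_mem_mul (Submodule.map_mono h hm) (ih hw)

theorem Gr_succ_induction {N : Submodule R A} {q : ℕ} {P : ExteriorAlgebra R A → Prop}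
    (hmul : ∀ a ∈ N, ∀ w ∈ Gr N q, P (ι R a * w)) (hadd : ∀ x y, P x → P y → P (x + y))
    {x : ExteriorAlgebra R A} (hx : x ∈ Gr N (q + 1)) : P x := by
  rw [Gr_succ] at hx
  refine Submodule.mul_induction_on hx ?_ hadd
  intro m hm w hw
  obtain ⟨a, ha, rfl⟩ := Submodule.mem_map.mp hm
  exact hmul a ha w hw

/-- Contraction lowers the degree. -/
theorem cL_mem (β : A →ₗ[R] R) (N : Submodule R A) :
    ∀ (q : ℕ) {w : ExteriorAlgebra R A}, w ∈ Gr N (q + 1) → cL β w ∈ Gr N q := by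
  intro q
  induction q with
  | zero =>
    intro w hw
    refine Gr_succ_induction (P := fun w => cL β w ∈ Gr N 0) ?_ ?_ hw
    · intro a _ v hv
      obtain ⟨r, rfl⟩ := mem_Gr_zero.mp hv
      show cL β (ι R a * algebraMap R _ r) ∈ Gr N 0
      rw [cL_ι_mul, cL_algebraMap, mul_zero, sub_zero]
      exact Submodule.smul_mem _ _ hv
    · intro x y hx hy
      show cL β (x + y) ∈ Gr N 0
      rw [map_add]
      exact Submodule.add_mem _ hx hy
  | succ q ih =>
    intro w hw
    refine Gr_succ_induction (P := fun w => cL β w ∈ Gr N (q + 1)) ?_ ?_ hw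
    · intro a ha v hv
      show cL β (ι R a * v) ∈ Gr N (q + 1)
      rw [cL_ι_mul]
      exact Submodule.sub_mem _ (Submodule.smul_mem _ _ hv) (ι_mul_mem ha (ih hv))
    · intro x y hx hy
      show cL β (x + y) ∈ Gr N (q + 1)
      rw [map_add]
      exact Submodule.add_mem _ hx hy

/-- Contraction with a form vanishing on `N` kills the algebra generated by `N`. -/
theorem cL_eq_zero (β : A →ₗ[R] R) (N : Submodule R A) (hβ : ∀ a ∈ N, β a = 0) :
    ∀ (q : ℕ) {w : ExteriorAlgebra R A}, w ∈ Gr N q → cL β w = 0 := by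
  intro q
  induction q with
  | zero =>
    intro w hw
    obtain ⟨r, rfl⟩ := mem_Gr_zero.mp hw
    exact cL_algebraMap β r
  | succ q ih =>
    intro w hw
    refine Gr_succ_induction (P := fun w => cL β w = 0) ?_ ?_ hw
    · intro a ha v hv
      show cL β (ι R a * v) = 0
      rw [cL_ι_mul, hβ a ha, zero_smul, ih hv, mul_zero, sub_zero]
    · intro x y hx hy
      have hx' : cL β x = 0 := hx
      have hy' : cL β y = 0 := hy
      show cL β (x + y) = 0
      rw [map_add, hx', hy', add_zero]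

/-- Splitting off one more generator. -/
theorem split (N : Submodule R A) (b : A) :
    ∀ (q : ℕ) {x : ExteriorAlgebra R A}, x ∈ Gr (N ⊔ Submodule.span R {b}) (q + 1) →
      ∃ x' ∈ Gr N (q + 1), ∃ x'' ∈ Gr N q, x = x' + ι R b * x'' := by
  intro q
  induction q with
  | zero =>
    intro x hx
    refine Gr_succ_induction
      (P := fun x => ∃ x' ∈ Gr N (0 + 1), ∃ x'' ∈ Gr N 0, x = x' + ι R b * x'') ?_ ?_ hx
    · intro c hc v hv
      obtain ⟨r, rfl⟩ := mem_Gr_zero.mp hv
      obtain ⟨a, ha, z, hz, rfl⟩ := Submodule.mem_sup.mp hc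
      obtain ⟨t, rfl⟩ := Submodule.mem_span_singleton.mp hz
      have hr0 : algebraMap R (ExteriorAlgebra R A) r ∈ Gr N 0 := mem_Gr_zero.mpr ⟨r, rfl⟩
      refine ⟨ι R a * algebraMap R _ r, ι_mul_mem ha hr0, t • algebraMap R _ r,
        Submodule.smul_mem _ _ hr0, ?_⟩
      rw [map_add, map_smul, add_mul, smul_mul_assoc, mul_smul_comm]
    · rintro x y ⟨x', hx', x'', hx'', ex⟩ ⟨y', hy', y'', hy'', ey⟩
      refine ⟨x' + y', Submodule.add_mem _ hx' hy', x'' + y'', Submodule.add_mem _ hx'' hy'', ?_⟩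
      rw [ex, ey, mul_add]
      abel
  | succ q ih =>
    intro x hx
    refine Gr_succ_induction
      (P := fun x => ∃ x' ∈ Gr N (q + 1 + 1), ∃ x'' ∈ Gr N (q + 1), x = x' + ι R b * x'')
      ?_ ?_ hx
    · intro c hc v hv
      obtain ⟨v', hv', v'', hv'', rfl⟩ := ih hv
      obtain ⟨a, ha, z, hz, rfl⟩ := Submodule.mem_sup.mp hc
      obtain ⟨t, rfl⟩ := Submodule.mem_span_singleton.mp hz
      refine ⟨ι R a * v', ι_mul_mem ha hv', t • v' - ι R a * v'',
        Submodule.sub_mem _ (Submodule.smul_mem _ _ hv') (ι_mul_mem ha hv''), ?_⟩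
      have h1 : ι R a * (ι R b * v'') = -(ι R b * (ι R a * v'')) := by
        have hab : ι R a * ι R b = -(ι R b * ι R a) :=
          eq_neg_of_add_eq_zero_left (ExteriorAlgebra.ι_add_mul_swap a b)
        rw [← mul_assoc, hab, neg_mul, mul_assoc]
      have h2 : ι R b * (ι R b * v'') = 0 := by rw [← mul_assoc, ι_sq_zero, zero_mul]
      calc ι R (a + t • b) * (v' + ι R b * v'')
          = ι R a * v' + ι R a * (ι R b * v'') + (t • (ι R b * v') + t • (ι R b * (ι R b * v''))) := by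
            rw [map_add, map_smul, add_mul, mul_add, mul_add, smul_mul_assoc, smul_mul_assoc]
        _ = ι R a * v' + ι R b * (t • v' - ι R a * v'') := by
            rw [h1, h2, smul_zero, add_zero, mul_sub, mul_smul_comm]
            abel
    · rintro x y ⟨x', hx', x'', hx'', ex⟩ ⟨y', hy', y'', hy'', ey⟩
      refine ⟨x' + y', Submodule.add_mem _ hx' hy', x'' + y'', Submodule.add_mem _ hx'' hy'', ?_⟩
      rw [ex, ey, mul_add]
      abel

/-- The inductive step: adjoining a generator `bm` with a dual form `β` and `φ bm` regular modulo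
`φ(N)`. -/
theorem step (φ β : A →ₗ[R] R) (N : Submodule R A) (bm : A)
    (hβN : ∀ a ∈ N, β a = 0) (hβb : β bm = 1)
    (hregm : ∀ r : R, φ bm * r ∈ Submodule.map φ N → r ∈ Submodule.map φ N)
    (IH : ∀ (q : ℕ) (x : ExteriorAlgebra R A), x ∈ Gr N (q + 1) → cL φ x = 0 →
      ∃ y ∈ Gr N (q + 2), cL φ y = x)
    (q : ℕ) (x : ExteriorAlgebra R A) (hx : x ∈ Gr (N ⊔ Submodule.span R {bm}) (q + 1))
    (h0 : cL φ x = 0) :
    ∃ y ∈ Gr (N ⊔ Submodule.span R {bm}) (q + 2), cL φ y = x := by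
  obtain ⟨x', hx', x'', hx'', rfl⟩ := split N bm q hx
  have e1 : cL β (x' + ι R bm * x'') = x'' := by
    rw [map_add, cL_ι_mul, cL_eq_zero β N hβN (q + 1) hx', cL_eq_zero β N hβN q hx'', hβb,
      one_smul, mul_zero, sub_zero, zero_add]
  have e2 : cL φ x'' = 0 := by
    rw [← e1, cL_comm, h0, map_zero, neg_zero]
  have e3 : cL φ x' + φ bm • x'' = 0 := by
    have h := h0
    rw [map_add, cL_ι_mul, e2, mul_zero, sub_zero] at h
    exact h
  have hy'' : ∃ y'' ∈ Gr N (q + 1), cL φ y'' = x'' := by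
    cases q with
    | zero =>
      obtain ⟨r, rfl⟩ := mem_Gr_zero.mp hx''
      obtain ⟨a, ha, rfl⟩ := mem_Gr_one.mp hx'
      have e4 : algebraMap R (ExteriorAlgebra R A) (φ a + φ bm * r) = 0 := by
        rw [map_add, map_mul, ← Algebra.smul_def, ← cL_ι]
        exact e3
      have e5 : φ a + φ bm * r = 0 := (ExteriorAlgebra.algebraMap_eq_zero_iff (M := A) _).mp e4
      have e6 : φ bm * r ∈ Submodule.map φ N := by
        have : φ bm * r = φ (-a) := by rw [map_neg]; exact eq_neg_of_add_eq_zero_right e5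
        rw [this]
        exact Submodule.mem_map_of_mem (Submodule.neg_mem _ ha)
      obtain ⟨a₂, ha₂, hφ₂⟩ := Submodule.mem_map.mp (hregm r e6)
      refine ⟨ι R a₂, mem_Gr_one.mpr ⟨a₂, ha₂, rfl⟩, ?_⟩
      rw [cL_ι, hφ₂]
    | succ q' => exact IH q' x'' hx'' e2
  obtain ⟨y'', hy''m, hy''⟩ := hy''
  have hz : x' + φ bm • y'' ∈ Gr N (q + 1) :=
    Submodule.add_mem _ hx' (Submodule.smul_mem _ _ hy''m)
  have hz0 : cL φ (x' + φ bm • y'') = 0 := by
    rw [map_add, map_smul, hy'']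
    exact e3
  obtain ⟨y', hy'm, hy'⟩ := IH q _ hz hz0
  refine ⟨y' - ι R bm * y'', Submodule.sub_mem _ (Gr_mono le_sup_left _ hy'm)
    (ι_mul_mem (Submodule.mem_sup_right (Submodule.mem_span_singleton_self bm))
      (Gr_mono le_sup_left _ hy''m)), ?_⟩
  rw [map_sub, hy', cL_ι_mul, hy'']
  abel

variable {n : ℕ}

/-- Span of the first `m` vectors of a family. -/
noncomputable def Nm (b : Fin n → A) (m : ℕ) : Submodule R A :=
  Submodule.span R (b '' {k : Fin n | (k : ℕ) < m})

theorem Nm_zero (b : Fin n → A) : Nm (R := R) b 0 = ⊥ := by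
  unfold Nm
  have h : {k : Fin n | (k : ℕ) < 0} = ∅ := by
    ext k
    simp
  rw [h, Set.image_empty, Submodule.span_empty]

theorem Nm_succ (b : Fin n → A) (m : ℕ) (hm : m < n) :
    Nm (R := R) b (m + 1) = Nm b m ⊔ Submodule.span R {b ⟨m, hm⟩} := by
  unfold Nm
  rw [← Submodule.span_union]
  congr 1
  ext x
  constructor
  · rintro ⟨k, hk, rfl⟩
    rcases Nat.lt_succ_iff_lt_or_eq.mp hk with h | h
    · exact Or.inl ⟨k, h, rfl⟩
    · right
      have hk' : k = ⟨m, hm⟩ := Fin.ext h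
      rw [hk']
      exact Set.mem_singleton _
  · rintro (⟨k, hk, rfl⟩ | h)
    · exact ⟨k, Nat.lt_succ_of_lt hk, rfl⟩
    · rw [Set.mem_singleton_iff.mp h]
      exact ⟨⟨m, hm⟩, Nat.lt_succ_self m, rfl⟩

theorem mem_take_ofFn {α : Type*} (fs : Fin n → α) (m : ℕ) (x : α) :
    x ∈ (List.ofFn fs).take m ↔ ∃ k : Fin n, (k : ℕ) < m ∧ fs k = x := by
  rw [List.mem_take_iff_getElem]
  constructor
  · rintro ⟨i, hi, rfl⟩
    have hi2 : i < n := by
      have h := (lt_min_iff.mp hi).2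
      rwa [List.length_ofFn] at h
    exact ⟨⟨i, hi2⟩, (lt_min_iff.mp hi).1, (List.getElem_ofFn _).symm⟩
  · rintro ⟨k, hk, rfl⟩
    have hk2 : (k : ℕ) < min m (List.ofFn fs).length :=
      lt_min_iff.mpr ⟨hk, by rw [List.length_ofFn]; exact k.isLt⟩
    exact ⟨k, hk2, List.getElem_ofFn _⟩

theorem map_Nm (b : Fin n → A) (φ : A →ₗ[R] R) (m : ℕ) :
    Submodule.map φ (Nm b m) = Ideal.ofList ((List.ofFn fun k => φ (b k)).take m) := by
  unfold Nm
  rw [Submodule.map_span]
  show Submodule.span R _ = Submodule.span R _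
  congr 1
  ext x
  constructor
  · rintro ⟨_, ⟨k, hk, rfl⟩, rfl⟩
    exact (mem_take_ofFn (fun k => φ (b k)) m _).mpr ⟨k, hk, rfl⟩
  · intro hx
    obtain ⟨k, hk, rfl⟩ := (mem_take_ofFn (fun k => φ (b k)) m _).mp hx
    exact ⟨b k, ⟨k, hk, rfl⟩, rfl⟩

theorem reg_step (fs : Fin n → R) (hreg : RingTheory.Sequence.IsWeaklyRegular R (List.ofFn fs))
    (m : ℕ) (hm : m < n) (r : R)
    (h : fs ⟨m, hm⟩ * r ∈ Ideal.ofList ((List.ofFn fs).take m)) :
    r ∈ Ideal.ofList ((List.ofFn fs).take m) := by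
  have hm' : m < (List.ofFn fs).length := by rw [List.length_ofFn]; exact hm
  have hinj := hreg.regular_mod_prev m hm'
  have hI : (Ideal.ofList ((List.ofFn fs).take m) • ⊤ : Submodule R R) =
      Ideal.ofList ((List.ofFn fs).take m) := by
    rw [Ideal.smul_eq_mul, Ideal.mul_top]
  have hget : (List.ofFn fs)[m] = fs ⟨m, hm⟩ := List.getElem_ofFn hm'
  have h0 : (Submodule.Quotient.mk r :
      R ⧸ (Ideal.ofList ((List.ofFn fs).take m) • ⊤ : Submodule R R)) = 0 := by
    apply hinj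
    show (List.ofFn fs)[m] • (Submodule.Quotient.mk r :
      R ⧸ (Ideal.ofList ((List.ofFn fs).take m) • ⊤ : Submodule R R)) = (List.ofFn fs)[m] • 0
    rw [smul_zero, ← Submodule.Quotient.mk_smul, Submodule.Quotient.mk_eq_zero, hI, hget,
      smul_eq_mul]
    exact h
  rw [Submodule.Quotient.mk_eq_zero, hI] at h0
  exact h0

theorem acyclic_aux (b : Fin n → A) (co : Fin n → (A →ₗ[R] R))
    (hco1 : ∀ i, co i (b i) = 1) (hco0 : ∀ i j, j ≠ i → co i (b j) = 0)
    (φ : A →ₗ[R] R)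
    (hreg : RingTheory.Sequence.IsWeaklyRegular R (List.ofFn fun k => φ (b k))) :
    ∀ m, m ≤ n → ∀ (q : ℕ) (x : ExteriorAlgebra R A), x ∈ Gr (Nm b m) (q + 1) → cL φ x = 0 →
      ∃ y ∈ Gr (Nm b m) (q + 2), cL φ y = x := by
  intro m
  induction m with
  | zero =>
    intro _ q x hx _
    rw [Nm_zero, Gr_bot_succ] at hx
    rw [(Submodule.mem_bot R).mp hx]
    exact ⟨0, Submodule.zero_mem _, map_zero _⟩
  | succ m ih =>
    intro hm q x hx h0
    have hm' : m < n := hm
    rw [Nm_succ b m hm'] at hx ⊢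
    refine step φ (co ⟨m, hm'⟩) (Nm b m) (b ⟨m, hm'⟩) ?_ (hco1 _) ?_ (ih hm'.le) q x hx h0
    · intro a ha
      have hle : Nm b m ≤ LinearMap.ker (co ⟨m, hm'⟩) := by
        refine Submodule.span_le.mpr ?_
        rintro _ ⟨k, hk, rfl⟩
        refine LinearMap.mem_ker.mpr (hco0 _ _ ?_)
        intro hkm
        have h1 : (k : ℕ) = m := congrArg Fin.val hkm
        have h2 : (k : ℕ) < m := hk
        omega
      exact LinearMap.mem_ker.mp (hle ha)
    · intro r hr
      rw [map_Nm] at hr ⊢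
      exact reg_step (fun k => φ (b k)) hreg m hm' r hr

/-- Exactness of contraction in positive degrees, inside the exterior algebra. -/
theorem acyclic (b : Module.Basis (Fin n) R A) (φ : A →ₗ[R] R)
    (hreg : RingTheory.Sequence.IsWeaklyRegular R (List.ofFn fun k => φ (b k)))
    (q : ℕ) (x : ExteriorAlgebra R A) (hx : x ∈ ⋀[R]^(q + 1) A) (h0 : cL φ x = 0) :
    ∃ y ∈ ⋀[R]^(q + 2) A, cL φ y = x := by
  have htop : Nm (R := R) (⇑b) n = ⊤ := by
    unfold Nm
    have h : {k : Fin n | (k : ℕ) < n} = Set.univ := by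
      ext k
      simp
    rw [h, Set.image_univ, b.span_eq]
  have key := acyclic_aux (⇑b) (fun i => b.coord i)
    (fun i => by simp [Module.Basis.coord_apply])
    (fun i j hji => by simp [Module.Basis.coord_apply, Finsupp.single_apply, hji]) φ hreg n le_rfl q x
  rw [htop, Gr_top, Gr_top] at key
  exact key hx h0

/-- Contraction of a decomposable element. -/
theorem cL_ιMulti (φ : A →ₗ[R] R) : ∀ (p : ℕ) (e : Fin (p + 1) → A),
    cL φ (ExteriorAlgebra.ιMulti R (p + 1) e) =
      ∑ i : Fin (p + 1), ((-1 : R) ^ (i : ℕ) * φ (e i)) •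
        ExteriorAlgebra.ιMulti R p (fun j => e (i.succAbove j)) := by
  intro p
  induction p with
  | zero =>
    intro e
    rw [ExteriorAlgebra.ιMulti_succ_apply, cL_ι_mul, ExteriorAlgebra.ιMulti_zero_apply, cL_one,
      mul_zero, sub_zero, Fin.sum_univ_one, ExteriorAlgebra.ιMulti_zero_apply]
    simp
  | succ p ih =>
    intro e
    have h0 : ((-1 : R) ^ ((0 : Fin (p + 1 + 1)) : ℕ) * φ (e 0)) •
        ExteriorAlgebra.ιMulti R (p + 1) (fun j => e ((0 : Fin (p + 1 + 1)).succAbove j)) =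
        φ (e 0) • ExteriorAlgebra.ιMulti R (p + 1) (Matrix.vecTail e) := by
      have h : (fun j => e ((0 : Fin (p + 1 + 1)).succAbove j)) = Matrix.vecTail e := by
        funext j
        rw [Fin.succAbove_zero]
        rfl
      rw [h, Fin.val_zero, pow_zero, one_mul]
    have hs : ∀ i : Fin (p + 1),
        ((-1 : R) ^ ((i.succ : Fin (p + 1 + 1)) : ℕ) * φ (e i.succ)) •
          ExteriorAlgebra.ιMulti R (p + 1) (fun j => e (i.succ.succAbove j)) =
        -(ι R (e 0) * (((-1 : R) ^ (i : ℕ) * φ (Matrix.vecTail e i)) •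
          ExteriorAlgebra.ιMulti R p (fun j => Matrix.vecTail e (i.succAbove j)))) := by
      intro i
      have h1 : ExteriorAlgebra.ιMulti R (p + 1) (fun j => e (i.succ.succAbove j)) =
          ι R (e 0) * ExteriorAlgebra.ιMulti R p (fun j => Matrix.vecTail e (i.succAbove j)) := by
        have h := ExteriorAlgebra.ιMulti_succ_apply (R := R) (fun j => e (i.succ.succAbove j))
        have ha : e (i.succ.succAbove 0) = e 0 := by rw [Fin.succ_succAbove_zero]
        have hb : Matrix.vecTail (fun j => e (i.succ.succAbove j)) =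
            fun j => Matrix.vecTail e (i.succAbove j) := by
          funext j
          show e (i.succ.succAbove j.succ) = e ((i.succAbove j).succ)
          rw [Fin.succ_succAbove_succ]
        rw [hb] at h
        exact h.trans (congrArg (fun a => ι R a * _) ha)
      rw [h1, Fin.val_succ, pow_succ, mul_smul_comm, ← neg_smul]
      congr 1
      show (-1 : R) ^ (i : ℕ) * -1 * φ (e i.succ) = -((-1 : R) ^ (i : ℕ) * φ (e i.succ))
      ring
    rw [ExteriorAlgebra.ιMulti_succ_apply, cL_ι_mul, ih (Matrix.vecTail e)]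
    conv_rhs =>
      rw [Fin.sum_univ_succ, h0, Finset.sum_congr rfl (fun i _ => hs i), Finset.sum_neg_distrib,
        ← Finset.mul_sum]
    rw [sub_eq_add_neg]

theorem cL_mem_top (φ : A →ₗ[R] R) (p : ℕ) {w : ExteriorAlgebra R A} (hw : w ∈ ⋀[R]^(p + 1) A) :
    cL φ w ∈ ⋀[R]^p A := by
  rw [← Gr_top] at hw ⊢
  exact cL_mem φ ⊤ p hw

/-- The Koszul differential `⋀^(p+1) A → ⋀^p A`. -/
noncomputable def dLin (φ : A →ₗ[R] R) (p : ℕ) : ↥(⋀[R]^(p + 1) A) →ₗ[R] ↥(⋀[R]^p A) :=
  LinearMap.codRestrict _ ((cL φ).comp (Submodule.subtype _)) (fun w => cL_mem_top φ p w.2)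

theorem dLin_coe (φ : A →ₗ[R] R) (p : ℕ) (w : ↥(⋀[R]^(p + 1) A)) :
    ((dLin φ p w : ↥(⋀[R]^p A)) : ExteriorAlgebra R A) = cL φ (w : ExteriorAlgebra R A) := rfl

theorem dLin_ιMulti (φ : A →ₗ[R] R) (p : ℕ) (e : Fin (p + 1) → A) :
    dLin φ p (exteriorPower.ιMulti R (p + 1) e) = KoszSh.dGen φ p e := by
  apply Subtype.ext
  rw [dLin_coe, exteriorPower.ιMulti_apply_coe, cL_ιMulti]
  unfold KoszSh.dGen
  rw [Submodule.coe_sum]
  rfl

/-- Exactness of the Koszul differentials in positive degrees. -/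
theorem exact_dLin (b : Module.Basis (Fin n) R A) (φ : A →ₗ[R] R)
    (hreg : RingTheory.Sequence.IsWeaklyRegular R (List.ofFn fun k => φ (b k)))
    (q : ℕ) (z : ↥(⋀[R]^(q + 1) A)) (hz : dLin φ q z = 0) :
    ∃ w : ↥(⋀[R]^(q + 1 + 1) A), dLin φ (q + 1) w = z := by
  have h0 : cL φ (z : ExteriorAlgebra R A) = 0 := by
    rw [← dLin_coe, hz]
    rfl
  obtain ⟨y, hy, hcy⟩ := acyclic b φ hreg q z.1 z.2 h0
  exact ⟨⟨y, hy⟩, Subtype.ext hcy⟩

end RingLevel

end Groth.Agent.Lib.KoszAcycH7
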