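import Mathlib
import Groth.Prelude
import Groth.Agent.Lib.Tens1_helper8

/-!
# Twisted Koszul complexes: the image identity (helper7)

For a Koszul datum `C` of `(F, s)`, a Koszul datum `D` of `(F ⊗ L, t)` with `L` invertible and a
twist triangle `lam ∘ t = s ⊗ 1`, the image of `(∂ ⊗ 1) ⊗ 1` equals the image of
`(θ ⊗ 1) ∘ (δ ⊗ lam)` inside `(Λ^q F ⊗ L^q) ⊗ L`.
APPEND-ONLY once landed.
-/

set_option autoImplicit false
set_option linter.style.haveILetI false

universe u

open CategoryTheory CategoryTheory.Limits AlgebraicGeometry Opposite TopologicalSpace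
open QcqsLoc QCohExtn FLFH8 GenLocH8 exteriorPower

namespace Groth.Agent.Lib.KoszTwH7

section Abel

variable {A : Type*} [Category A] [Abelian A]

theorem imageSubobject_le_of_comp_cokernel {P Q Z : A} (f : P ⟶ Z) (g : Q ⟶ Z)
    (h : f ≫ cokernel.π g = 0) : imageSubobject f ≤ imageSubobject g := by
  refine imageSubobject_le f
    (kernel.lift (cokernel.π g) f h ≫ (Abelian.imageIsoImage g).hom ≫
      (imageSubobjectIso g).inv) ?_
  rw [Category.assoc, Category.assoc, imageSubobject_arrow',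
    Abelian.imageIsoImage_hom_comp_image_ι, kernel.lift_ι]

end Abel

section Ring

theorem dGen_rel {R : Type*} [CommRing R] {M N : Type*} [AddCommGroup M] [Module R M]
    [AddCommGroup N] [Module R N] (τ : M →ₗ[R] N) (φ : M →ₗ[R] R) (ψ : N →ₗ[R] R) (c : R)
    (h : ∀ m, c * ψ (τ m) = φ m) (q : ℕ) (f : Fin (q + 1) → M) :
    c • KoszSh.dGen ψ q (fun i => τ (f i)) = exteriorPower.map q τ (KoszSh.dGen φ q f) := by
  unfold KoszSh.dGen
  rw [Finset.smul_sum, map_sum]
  refine Finset.sum_congr rfl (fun i _ => ?_)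
  rw [smul_smul, map_smul, exteriorPower.map_apply_ιMulti]
  congr 1
  all_goals first | rfl | (rw [← h (f i)]; ring)

end Ring

variable {X : Scheme.{u}}

theorem hom_eq_zero_of_locally {M N : X.Modules} (φ : M ⟶ N)
    (h : ∀ (U : X.Opens) (x : Γ(M, U)) (p : X), p ∈ U →
      ∃ (W : X.Opens) (hW : W ≤ U), p ∈ W ∧ ap φ W (rF M hW x) = 0) : φ = 0 := by
  refine Scheme.Modules.hom_ext _ _ (fun U => ?_)
  refine AddCommGrpCat.hom_ext (AddMonoidHom.ext fun x => ?_)
  show ap φ U x = 0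
  refine eq_zero_of_cover N _ (fun p hp => ?_)
  obtain ⟨W, hW, hpW, h0⟩ := h U x p hp
  exact ⟨W, hW, hpW, (ap_rF φ hW x).symm.trans h0⟩

/-- The map on sections as a linear map. -/
noncomputable def appL {M N : X.Modules} (φ : M ⟶ N) (U : X.Opens) :
    Γ(M, U) →ₗ[Γ(X, U)] Γ(N, U) where
  toFun := ap φ U
  map_add' := map_add _
  map_smul' r x := ap_smul φ r x

/-- `m ↦ m ⊗ n` as a linear map. -/
noncomputable def tmulR (M N : X.Modules) (U : X.Opens) (n : Γ(N, U)) :
    Γ(M, U) →ₗ[Γ(X, U)] Γ(CohB1.tensorMod M N, U) where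
  toFun m := SecTwist.tmul M N U m n
  map_add' a b := TensH8.tmul_add_left M N U a b n
  map_smul' r a := TensH8.tmul_smul_left M N U r a n

theorem tmulR_smul_right (M N : X.Modules) (U : X.Opens) (r : Γ(X, U)) (n : Γ(N, U))
    (m : Γ(M, U)) : tmulR M N U (r • n) m = r • tmulR M N U n m :=
  TensH8.tmul_smul_right M N U r m n

theorem ap_tensorMap_tmulR {M M' N N' : X.Modules} (f : M ⟶ M') (g : N ⟶ N') (U : X.Opens)
    (n : Γ(N, U)) (m : Γ(M, U)) :
    ap (KoszTw.tensorMap f g) U (tmulR M N U n m) = tmulR M' N' U (ap g U n) (ap f U m) :=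
  KoszTw.tensorMap_tmul f g U m n

theorem ap_tensorMap_id_tmulR {M M' : X.Modules} (f : M ⟶ M') (N : X.Modules) (U : X.Opens)
    (n : Γ(N, U)) (m : Γ(M, U)) :
    ap (KoszTw.tensorMap f (𝟙 N)) U (tmulR M N U n m) = tmulR M' N U n (ap f U m) :=
  KoszTw.tensorMap_tmul f (𝟙 N) U m n

theorem ap_unitorR_inv (P : X.Modules) (U : X.Opens) (d : Γ(P, U)) :
    ap (SecTwist.unitorR P).inv U d = tmulR P (Coh.structureModule X) U (toM 1) d := by
  have h0 : ∀ d' : P.val.obj (op U), (1 : X.ringCatSheaf.obj.obj (op U)) • d' = d' :=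
    fun d' => one_smul _ d'
  have h1 : ap (SecTwist.unitorR P).hom U (tmulR P (Coh.structureModule X) U (toM 1) d) = d :=
    (SecTwist.unitorR_tmul P U d 1).trans (h0 d)
  have h2 : ap (SecTwist.unitorR P).inv U
      (ap (SecTwist.unitorR P).hom U (tmulR P (Coh.structureModule X) U (toM 1) d)) =
      tmulR P (Coh.structureModule X) U (toM 1) d := by
    have := congrArg (fun φ => ap φ U (tmulR P (Coh.structureModule X) U (toM 1) d))
      (SecTwist.unitorR P).hom_inv_id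
    exact this
  rw [h1] at h2
  exact h2

section Gen

theorem isGen_spec {L : X.Modules} {W : X.Opens} {e : Γ(L, W)} (he : IsGen L W e) :
    (∀ l : Γ(L, W), ∃ c : Γ(X, W), l = c • e) ∧ ∀ c : Γ(X, W), c • e = 0 → c = 0 := by
  have h := he W le_rfl
  have e1 : rF L (le_rfl : W ≤ W) e = e := SubExt.rF_self L le_rfl e
  rw [e1] at h
  exact h

theorem tmul_surj (M : X.Modules) {L : X.Modules} {W : X.Opens} {e : Γ(L, W)} (he : IsGen L W e)
    (y : Γ(CohB1.tensorMod M L, W)) : ∃ t : Γ(M, W), tmulR M L W e t = y := by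
  obtain ⟨t, ht⟩ := TensH8.tmulGen_surjective M L he le_rfl y
  have e1 : rF L (le_rfl : W ≤ W) e = e := SubExt.rF_self L le_rfl e
  rw [e1] at ht
  exact ⟨t, ht⟩

theorem tmul_inj (M : X.Modules) {L : X.Modules} {W : X.Opens} {e : Γ(L, W)} (he : IsGen L W e)
    (t t' : Γ(M, W)) (h : tmulR M L W e t = tmulR M L W e t') : t = t' := by
  have e1 : rF L (le_rfl : W ≤ W) e = e := SubExt.rF_self L le_rfl e
  apply TensH8.tmulGen_injective M L he le_rfl t t'
  rw [e1]
  exact h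

theorem isGen_one (W : X.Opens) : IsGen (Coh.structureModule X) W (toM (1 : Γ(X, W))) := by
  intro O hO
  have h2 : rF (Coh.structureModule X) hO (toM (1 : Γ(X, W))) = toM (1 : Γ(X, O)) :=
    map_one (rX hO)
  rw [h2]
  refine ⟨fun l => ⟨ofM l, (mul_one (ofM l)).symm⟩, fun c hc => ?_⟩
  exact (mul_one c).symm.trans hc

theorem isGen_tmul {M L : X.Modules} {W : X.Opens} {m : Γ(M, W)} {e : Γ(L, W)}
    (hm : IsGen M W m) (he : IsGen L W e) :
    IsGen (CohB1.tensorMod M L) W (SecTwist.tmul M L W m e) := by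
  intro O hO
  have hres : rF (CohB1.tensorMod M L) hO (SecTwist.tmul M L W m e) =
      tmulR M L O (rF L hO e) (rF M hO m) := SecTwist.map_tmul M L (homOfLE hO) m e
  rw [hres]
  constructor
  · intro y
    obtain ⟨t, ht⟩ := TensH8.tmulGen_surjective M L he hO y
    obtain ⟨c, hc⟩ := (hm O hO).1 t
    refine ⟨c, ?_⟩
    rw [← ht, hc]
    exact (tmulR M L O (rF L hO e)).map_smul c (rF M hO m)
  · intro c hc
    have h1 : tmulR M L O (rF L hO e) (c • rF M hO m) = tmulR M L O (rF L hO e) 0 := by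
      rw [map_smul, map_zero]
      exact hc
    exact (hm O hO).2 c (TensH8.tmulGen_injective M L he hO _ _ h1)

theorem isGen_tprod {L : X.Modules} {W : X.Opens} {e : Γ(L, W)} (he : IsGen L W e) (q : ℕ) :
    IsGen (CohB1.tensorPow L q) W (KoszTw.tprod L q W (fun _ => e)) := by
  induction q with
  | zero => exact isGen_one W
  | succ q ih => exact isGen_tmul ih he

theorem exists_small {L : X.Modules} (hL : PicF.IsInvertible L) (U : X.Opens) (p : X)
    (hp : p ∈ U) :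
    ∃ (W : X.affineOpens) (_ : W.1 ≤ U) (e : Γ(L, W.1)), p ∈ W.1 ∧ IsGen L W.1 e := by
  obtain ⟨W₀, -, hpW₀, e₀, he₀⟩ := GenLocH8.exists_isGen hL p
  obtain ⟨W, hWaff, hpW, hWle⟩ := Opens.isBasis_iff_nbhd.mp X.isBasis_affineOpens
    (show p ∈ U ⊓ W₀ from ⟨hp, hpW₀⟩)
  exact ⟨⟨W, hWaff⟩, hWle.trans inf_le_left, rF L (hWle.trans inf_le_right) e₀, hpW,
    he₀.res _⟩

end Gen

section Local

variable {F L : X.Modules} {s : F ⟶ Coh.structureModule X} {lam : Coh.structureModule X ⟶ L}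
  {t : CohB1.tensorMod F L ⟶ Coh.structureModule X}

/-- `c * t(f ⊗ e) = s(f)` when `lam(1) = c • e`. -/
theorem coef_rel (htri : KoszTw.TwistTriangle s lam t) {W : X.Opens} {e : Γ(L, W)}
    (he : IsGen L W e) (c : Γ(X, W)) (hc : ap lam W (toM 1) = c • e) (m : Γ(F, W)) :
    c * KoszSh.secForm t W (tmulR F L W e m) = KoszSh.secForm s W m := by
  have key : ∀ a : Γ(Coh.structureModule X, W), ap lam W a = (ofM a * c) • e := by
    intro a
    have h1 : a = ofM a • toM (1 : Γ(X, W)) := (mul_one (ofM a)).symm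
    calc ap lam W a = ap lam W (ofM a • toM (1 : Γ(X, W))) := congrArg (fun z => ap lam W z) h1
      _ = ofM a • ap lam W (toM (1 : Γ(X, W))) := ap_smul lam _ _
      _ = ofM a • (c • e) := by rw [hc]
      _ = (ofM a * c) • e := (mul_smul _ _ _).symm
  have h2 := key (ap t W (tmulR F L W e m))
  have h3 : ap lam W (ap t W (tmulR F L W e m)) = KoszSh.secForm s W m • e := htri W m e
  have h4 : (ofM (ap t W (tmulR F L W e m)) * c - KoszSh.secForm s W m) • e = 0 := by
    rw [sub_smul, ← h2, ← h3, sub_self]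
  have h5 := (isGen_spec he).2 _ h4
  have h6 : ofM (ap t W (tmulR F L W e m)) * c = KoszSh.secForm s W m := sub_eq_zero.1 h5
  rw [mul_comm]
  exact h6

variable (C : KoszSh.Cx F s) (D : KoszSh.Cx (CohB1.tensorMod F L) t)

/-- The rule of `θ`, in linear form. -/
theorem theta_lin (q : ℕ) (θ : KoszTw.CxDecData C D q) (W : X.affineOpens) (e : Γ(L, W.1))
    (u : ↥(⋀[Γ(X, W.1)]^q Γ(F, W.1))) :
    ap θ.iso.hom W.1 ((D.loc q W).symm (exteriorPower.map q (tmulR F L W.1 e) u)) =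
      tmulR (C.K.X q) (CohB1.tensorPow L q) W.1 (KoszTw.tprod L q W.1 (fun _ => e))
        ((C.loc q W).symm u) := by
  have key : (appL θ.iso.hom W.1) ∘ₗ (D.loc q W).symm.toLinearMap ∘ₗ
      exteriorPower.map q (tmulR F L W.1 e) =
      (tmulR (C.K.X q) (CohB1.tensorPow L q) W.1 (KoszTw.tprod L q W.1 (fun _ => e))) ∘ₗ
        (C.loc q W).symm.toLinearMap := by
    refine exteriorPower.linearMap_ext (AlternatingMap.ext fun f => ?_)
    have h1 : exteriorPower.map q (tmulR F L W.1 e) (ιMulti _ q f) =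
        ιMulti _ q (fun i => SecTwist.tmul F L W.1 (f i) e) :=
      exteriorPower.map_apply_ιMulti (tmulR F L W.1 e) f
    show ap θ.iso.hom W.1 ((D.loc q W).symm
        (exteriorPower.map q (tmulR F L W.1 e) (ιMulti _ q f))) =
      tmulR (C.K.X q) (CohB1.tensorPow L q) W.1 (KoszTw.tprod L q W.1 (fun _ => e))
        ((C.loc q W).symm (ιMulti _ q f))
    rw [h1]
    exact θ.rule W f (fun _ => e)
  exact LinearMap.congr_fun key u

/-- The two Koszul differentials are intertwined by `Λ(− ⊗ e)`, up to the coefficient `c` of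
`lam(1)`. -/
theorem delta_lin (htri : KoszTw.TwistTriangle s lam t) (q : ℕ) (W : X.affineOpens)
    (e : Γ(L, W.1)) (he : IsGen L W.1 e) (c : Γ(X, W.1)) (hc : ap lam W.1 (toM 1) = c • e)
    (w : ↥(⋀[Γ(X, W.1)]^(q + 1) Γ(F, W.1))) :
    c • ap (D.K.d (q + 1) q) W.1
        ((D.loc (q + 1) W).symm (exteriorPower.map (q + 1) (tmulR F L W.1 e) w)) =
      (D.loc q W).symm (exteriorPower.map q (tmulR F L W.1 e)
        ((C.loc q W) (ap (C.K.d (q + 1) q) W.1 ((C.loc (q + 1) W).symm w)))) := by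
  have key : c • ((appL (D.K.d (q + 1) q) W.1) ∘ₗ (D.loc (q + 1) W).symm.toLinearMap ∘ₗ
      exteriorPower.map (q + 1) (tmulR F L W.1 e)) =
      (D.loc q W).symm.toLinearMap ∘ₗ exteriorPower.map q (tmulR F L W.1 e) ∘ₗ
        (C.loc q W).toLinearMap ∘ₗ appL (C.K.d (q + 1) q) W.1 ∘ₗ
        (C.loc (q + 1) W).symm.toLinearMap := by
    refine exteriorPower.linearMap_ext (AlternatingMap.ext fun f => ?_)
    have h1 : exteriorPower.map (q + 1) (tmulR F L W.1 e) (ιMulti _ (q + 1) f) =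
        ιMulti _ (q + 1) (fun i => SecTwist.tmul F L W.1 (f i) e) :=
      exteriorPower.map_apply_ιMulti (tmulR F L W.1 e) f
    have hD : ap (D.K.d (q + 1) q) W.1 ((D.loc (q + 1) W).symm
        (ιMulti _ (q + 1) (fun i => SecTwist.tmul F L W.1 (f i) e))) =
        (D.loc q W).symm (KoszSh.dGen (KoszSh.secForm t W.1) q
          (fun i => SecTwist.tmul F L W.1 (f i) e)) := D.rule q W _
    have hC : ap (C.K.d (q + 1) q) W.1 ((C.loc (q + 1) W).symm (ιMulti _ (q + 1) f)) =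
        (C.loc q W).symm (KoszSh.dGen (KoszSh.secForm s W.1) q f) := C.rule q W f
    have hrel : c • KoszSh.dGen (KoszSh.secForm t W.1) q
        (fun i => SecTwist.tmul F L W.1 (f i) e) =
        exteriorPower.map q (tmulR F L W.1 e) (KoszSh.dGen (KoszSh.secForm s W.1) q f) :=
      dGen_rel (tmulR F L W.1 e) (KoszSh.secForm s W.1) (KoszSh.secForm t W.1) c
        (fun m => coef_rel htri he c hc m) q f
    show c • ap (D.K.d (q + 1) q) W.1 ((D.loc (q + 1) W).symm
        (exteriorPower.map (q + 1) (tmulR F L W.1 e) (ιMulti _ (q + 1) f))) =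
      (D.loc q W).symm (exteriorPower.map q (tmulR F L W.1 e)
        ((C.loc q W) (ap (C.K.d (q + 1) q) W.1 ((C.loc (q + 1) W).symm (ιMulti _ (q + 1) f)))))
    calc c • ap (D.K.d (q + 1) q) W.1 ((D.loc (q + 1) W).symm
          (exteriorPower.map (q + 1) (tmulR F L W.1 e) (ιMulti _ (q + 1) f)))
        = c • ap (D.K.d (q + 1) q) W.1 ((D.loc (q + 1) W).symm
          (ιMulti _ (q + 1) (fun i => SecTwist.tmul F L W.1 (f i) e))) :=
          congrArg (fun z => c • ap (D.K.d (q + 1) q) W.1 ((D.loc (q + 1) W).symm z)) h1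
      _ = c • (D.loc q W).symm (KoszSh.dGen (KoszSh.secForm t W.1) q
            (fun i => SecTwist.tmul F L W.1 (f i) e)) := congrArg (fun z => c • z) hD
      _ = (D.loc q W).symm (c • KoszSh.dGen (KoszSh.secForm t W.1) q
            (fun i => SecTwist.tmul F L W.1 (f i) e)) := (map_smul (D.loc q W).symm c _).symm
      _ = (D.loc q W).symm (exteriorPower.map q (tmulR F L W.1 e)
            (KoszSh.dGen (KoszSh.secForm s W.1) q f)) :=
          congrArg (fun z => (D.loc q W).symm z) hrel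
      _ = (D.loc q W).symm (exteriorPower.map q (tmulR F L W.1 e)
            ((C.loc q W) ((C.loc q W).symm (KoszSh.dGen (KoszSh.secForm s W.1) q f)))) :=
          congrArg (fun z => (D.loc q W).symm (exteriorPower.map q (tmulR F L W.1 e) z))
            (LinearEquiv.apply_symm_apply (C.loc q W) _).symm
      _ = _ :=
          congrArg (fun z => (D.loc q W).symm (exteriorPower.map q (tmulR F L W.1 e)
            ((C.loc q W) z))) hC.symm
  exact LinearMap.congr_fun key w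

/-- The morphism `(∂ ⊗ 1) ⊗ 1`. -/
noncomputable abbrev Amor (L : X.Modules) (C : KoszSh.Cx F s) (q : ℕ) :
    CohB1.tensorMod (CohB1.tensorMod (C.K.X (q + 1)) (CohB1.tensorPow L q)) L ⟶
      CohB1.tensorMod (CohB1.tensorMod (C.K.X q) (CohB1.tensorPow L q)) L :=
  KoszTw.tensorMap (KoszTw.tensorMap (C.K.d (q + 1) q) (𝟙 (CohB1.tensorPow L q))) (𝟙 L)

/-- The morphism `(θ ⊗ 1) ∘ (δ ⊗ lam) ∘ unitor⁻¹`. -/
noncomputable abbrev Bmor (lam : Coh.structureModule X ⟶ L) (C : KoszSh.Cx F s)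
    (D : KoszSh.Cx (CohB1.tensorMod F L) t) (q : ℕ) (θ : KoszTw.CxDecData C D q) :
    D.K.X (q + 1) ⟶ CohB1.tensorMod (CohB1.tensorMod (C.K.X q) (CohB1.tensorPow L q)) L :=
  (SecTwist.unitorR (D.K.X (q + 1))).inv ≫ KoszTw.tensorMap (D.K.d (q + 1) q) lam ≫
    KoszTw.tensorMap θ.iso.hom (𝟙 L)

theorem klf_aux (q : ℕ) (θ : KoszTw.CxDecData C D q) (W : X.affineOpens) (e : Γ(L, W.1))
    (c : Γ(X, W.1)) (hc : ap lam W.1 (toM 1) = c • e)
    (d₀ : Γ(D.K.X (q + 1), W.1)) (z : Γ(C.K.X (q + 1), W.1))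
    (hδ : c • ap (D.K.d (q + 1) q) W.1 d₀ =
      (D.loc q W).symm (exteriorPower.map q (tmulR F L W.1 e)
        ((C.loc q W) (ap (C.K.d (q + 1) q) W.1 z)))) :
    ap (Bmor lam C D q θ) W.1 d₀ =
      ap (Amor L C q) W.1 (tmulR (CohB1.tensorMod (C.K.X (q + 1)) (CohB1.tensorPow L q)) L W.1 e
        (tmulR (C.K.X (q + 1)) (CohB1.tensorPow L q) W.1 (KoszTw.tprod L q W.1 (fun _ => e))
          z)) := by
  calc ap (Bmor lam C D q θ) W.1 d₀
      = ap (KoszTw.tensorMap θ.iso.hom (𝟙 L)) W.1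
          (ap (KoszTw.tensorMap (D.K.d (q + 1) q) lam) W.1
            (ap (SecTwist.unitorR (D.K.X (q + 1))).inv W.1 d₀)) := rfl
    _ = ap (KoszTw.tensorMap θ.iso.hom (𝟙 L)) W.1
          (ap (KoszTw.tensorMap (D.K.d (q + 1) q) lam) W.1
            (tmulR (D.K.X (q + 1)) (Coh.structureModule X) W.1 (toM 1) d₀)) := by
        rw [ap_unitorR_inv]
    _ = ap (KoszTw.tensorMap θ.iso.hom (𝟙 L)) W.1
          (tmulR (D.K.X q) L W.1 (ap lam W.1 (toM 1)) (ap (D.K.d (q + 1) q) W.1 d₀)) := by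
        rw [ap_tensorMap_tmulR]
    _ = tmulR (CohB1.tensorMod (C.K.X q) (CohB1.tensorPow L q)) L W.1 (ap lam W.1 (toM 1))
          (ap θ.iso.hom W.1 (ap (D.K.d (q + 1) q) W.1 d₀)) := by
        rw [ap_tensorMap_id_tmulR]
    _ = tmulR (CohB1.tensorMod (C.K.X q) (CohB1.tensorPow L q)) L W.1 (c • e)
          (ap θ.iso.hom W.1 (ap (D.K.d (q + 1) q) W.1 d₀)) := by
        rw [hc]
    _ = c • tmulR (CohB1.tensorMod (C.K.X q) (CohB1.tensorPow L q)) L W.1 e
          (ap θ.iso.hom W.1 (ap (D.K.d (q + 1) q) W.1 d₀)) := tmulR_smul_right _ _ _ _ _ _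
    _ = tmulR (CohB1.tensorMod (C.K.X q) (CohB1.tensorPow L q)) L W.1 e
          (c • ap θ.iso.hom W.1 (ap (D.K.d (q + 1) q) W.1 d₀)) := (map_smul _ _ _).symm
    _ = tmulR (CohB1.tensorMod (C.K.X q) (CohB1.tensorPow L q)) L W.1 e
          (ap θ.iso.hom W.1 (c • ap (D.K.d (q + 1) q) W.1 d₀)) := by
        rw [ap_smul]
    _ = tmulR (CohB1.tensorMod (C.K.X q) (CohB1.tensorPow L q)) L W.1 e
          (ap θ.iso.hom W.1 ((D.loc q W).symm (exteriorPower.map q (tmulR F L W.1 e)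
            ((C.loc q W) (ap (C.K.d (q + 1) q) W.1 z))))) := by
        rw [hδ]
    _ = tmulR (CohB1.tensorMod (C.K.X q) (CohB1.tensorPow L q)) L W.1 e
          (tmulR (C.K.X q) (CohB1.tensorPow L q) W.1 (KoszTw.tprod L q W.1 (fun _ => e))
            ((C.loc q W).symm ((C.loc q W) (ap (C.K.d (q + 1) q) W.1 z)))) := by
        rw [theta_lin C D q θ W e]
    _ = tmulR (CohB1.tensorMod (C.K.X q) (CohB1.tensorPow L q)) L W.1 e
          (tmulR (C.K.X q) (CohB1.tensorPow L q) W.1 (KoszTw.tprod L q W.1 (fun _ => e))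
            (ap (C.K.d (q + 1) q) W.1 z)) := by
        rw [LinearEquiv.symm_apply_apply]
    _ = _ := by
        rw [ap_tensorMap_id_tmulR, ap_tensorMap_id_tmulR]

theorem klf (htri : KoszTw.TwistTriangle s lam t) (q : ℕ) (θ : KoszTw.CxDecData C D q)
    (W : X.affineOpens) (e : Γ(L, W.1)) (he : IsGen L W.1 e)
    (w : ↥(⋀[Γ(X, W.1)]^(q + 1) Γ(F, W.1))) :
    ap (Bmor lam C D q θ) W.1
        ((D.loc (q + 1) W).symm (exteriorPower.map (q + 1) (tmulR F L W.1 e) w)) =
      ap (Amor L C q) W.1 (tmulR (CohB1.tensorMod (C.K.X (q + 1)) (CohB1.tensorPow L q)) L W.1 e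
        (tmulR (C.K.X (q + 1)) (CohB1.tensorPow L q) W.1 (KoszTw.tprod L q W.1 (fun _ => e))
          ((C.loc (q + 1) W).symm w))) := by
  obtain ⟨c, hc⟩ := (isGen_spec he).1 (ap lam W.1 (toM 1))
  exact klf_aux C D q θ W e c hc _ _ (delta_lin C D htri q W e he c hc w)

theorem main_le1 (hL : PicF.IsInvertible L) (htri : KoszTw.TwistTriangle s lam t) (q : ℕ)
    (θ : KoszTw.CxDecData C D q) :
    Amor L C q ≫ cokernel.π (Bmor lam C D q θ) = 0 := by
  apply hom_eq_zero_of_locally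
  intro U x p hp
  obtain ⟨W, hWU, e, hpW, he⟩ := exists_small hL U p hp
  refine ⟨W.1, hWU, hpW, ?_⟩
  obtain ⟨y, hy⟩ := tmul_surj (CohB1.tensorMod (C.K.X (q + 1)) (CohB1.tensorPow L q)) he
    (rF _ hWU x)
  obtain ⟨z, rfl⟩ := tmul_surj (C.K.X (q + 1)) (isGen_tprod he q) y
  obtain ⟨w, rfl⟩ : ∃ w, z = (C.loc (q + 1) W).symm w :=
    ⟨(C.loc (q + 1) W) z, (LinearEquiv.symm_apply_apply _ _).symm⟩
  rw [← hy]
  show ap (cokernel.π (Bmor lam C D q θ)) W.1 (ap (Amor L C q) W.1 _) = 0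
  rw [← klf C D htri q θ W e he w]
  show ap (Bmor lam C D q θ ≫ cokernel.π (Bmor lam C D q θ)) W.1 _ = 0
  rw [cokernel.condition]
  rfl

theorem main_le2 (hL : PicF.IsInvertible L) (htri : KoszTw.TwistTriangle s lam t) (q : ℕ)
    (θ : KoszTw.CxDecData C D q) :
    Bmor lam C D q θ ≫ cokernel.π (Amor L C q) = 0 := by
  apply hom_eq_zero_of_locally
  intro U x p hp
  obtain ⟨W, hWU, e, hpW, he⟩ := exists_small hL U p hp
  refine ⟨W.1, hWU, hpW, ?_⟩
  have hsurj : Function.Surjective (tmulR F L W.1 e) := fun y => tmul_surj F he y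
  obtain ⟨w, hw⟩ := exteriorPower.map_surjective (n := q + 1) hsurj
    ((D.loc (q + 1) W) (rF (D.K.X (q + 1)) hWU x))
  have hx : rF (D.K.X (q + 1)) hWU x =
      (D.loc (q + 1) W).symm (exteriorPower.map (q + 1) (tmulR F L W.1 e) w) := by
    rw [hw, LinearEquiv.symm_apply_apply]
  rw [hx]
  show ap (cokernel.π (Amor L C q)) W.1 (ap (Bmor lam C D q θ) W.1 _) = 0
  rw [klf C D htri q θ W e he w]
  show ap (Amor L C q ≫ cokernel.π (Amor L C q)) W.1 _ = 0
  rw [cokernel.condition]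
  rfl

theorem main16094 (hL : PicF.IsInvertible L) (htri : KoszTw.TwistTriangle s lam t) (q : ℕ)
    (θ : KoszTw.CxDecData C D q) :
    imageSubobject (Amor L C q) = imageSubobject (Bmor lam C D q θ) :=
  le_antisymm
    (imageSubobject_le_of_comp_cokernel _ _ (main_le1 C D hL htri q θ))
    (imageSubobject_le_of_comp_cokernel _ _ (main_le2 C D hL htri q θ))

end Local

end Groth.Agent.Lib.KoszTwH7
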