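import Mathlib
import Groth.Prelude
import Groth.Agent.Lib.KoszAcyc1_helper7
import Groth.Agent.Lib.KoszTw1_helper7
import Groth.Agent.Lib.ConormSeq1_helper4
import Groth.Agent.Lib.FLF6_helper8
import Groth.Agent.Lib.RelFPAff_helper9
import Groth.Agent.Lib.QCohFT_helper9

/-!
# Koszul complexes of regular sections are acyclic in positive degrees (helper7)
APPEND-ONLY once landed.
-/

set_option autoImplicit false
set_option linter.style.haveILetI false

universe u

open CategoryTheory CategoryTheory.Limits AlgebraicGeometry Opposite TopologicalSpace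
open QcqsLoc QCohExtn

namespace Groth.Agent.Lib.KoszAcycH7

open Groth.Agent.Lib.KoszTwH7 (appL)

section Transport

/-- A basis with weakly regular images localizes to a basis with weakly regular images. -/
theorem transport {A A' M M' : Type u} [CommRing A] [CommRing A'] [AddCommGroup M] [Module A M]
    [AddCommGroup M'] [Module A' M'] {ρ : A →+* A'} {a : A} {l : M →+ M'}
    (hld : RelFPKit.LocData ρ a l) {n : ℕ} (b : Module.Basis (Fin n) A M)
    (φ : M →ₗ[A] A) (φ' : M' →ₗ[A'] A') (hφ : ∀ m, φ' (l m) = ρ (φ m))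
    (hreg : RingTheory.Sequence.IsWeaklyRegular A (List.ofFn fun k => φ (b k))) :
    ∃ b' : Module.Basis (Fin n) A' M',
      RingTheory.Sequence.IsWeaklyRegular A' (List.ofFn fun k => φ' (b' k)) := by
  letI algA' : Algebra A A' := ρ.toAlgebra
  haveI : IsLocalization.Away a A' := hld.isLoc
  letI modAM' : Module A M' := Module.compHom M' ρ
  haveI : IsScalarTower A A' M' := IsScalarTower.of_algebraMap_smul (fun _ _ => rfl)
  let f : M →ₗ[A] M' := { toFun := l, map_add' := l.map_add, map_smul' := hld.smul }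
  haveI : IsLocalizedModule (Submonoid.powers a) f := QCohFT.isLocalizedModule_of_locData hld
  let b' : Module.Basis (Fin n) A' M' := b.ofIsLocalizedModule A' (Submonoid.powers a) f
  refine ⟨b', ?_⟩
  have h1 := RingTheory.Sequence.IsWeaklyRegular.of_isLocalization A' (Submonoid.powers a) hreg
  have h2 : (List.ofFn fun k => φ' (b' k)) =
      (List.ofFn fun k => φ (b k)).map (algebraMap A A') := by
    rw [List.map_ofFn]
    congr 1
    funext k
    show φ' (b' k) = ρ (φ (b k))
    rw [← hφ]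
    exact congrArg φ' (b.ofIsLocalizedModule_apply A' (Submonoid.powers a) f k)
  rw [h2]
  exact h1

end Transport

variable {X : Scheme.{u}}

theorem secForm_res {E : X.Modules} (s : E ⟶ Coh.structureModule X) {V U : X.Opens} (h : V ≤ U)
    (m : Γ(E, U)) : KoszSh.secForm s V (rF E h m) = rX h (KoszSh.secForm s U m) := by
  show OmegaSh.fnSect X V (ap s V (rF E h m)) = rX h (OmegaSh.fnSect X U (ap s U m))
  rw [ap_rF]
  rfl

/-- The opens on which the Koszul complex is visibly exact. -/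
def PW (n : ℕ) (E : X.Modules) (s : E ⟶ Coh.structureModule X) (W : X.Opens) : Prop :=
  IsAffineOpen W ∧ ∃ b : Module.Basis (Fin n) Γ(X, W) Γ(E, W),
    RingTheory.Sequence.IsWeaklyRegular Γ(X, W) (List.ofFn fun k => KoszSh.secForm s W (b k))

theorem PW_basis {n : ℕ} {E : X.Modules} [E.IsQuasicoherent] (s : E ⟶ Coh.structureModule X)
    (hs : ∀ x : X, ∃ U : X.affineOpens, x ∈ U.1 ∧
      ∃ b : Module.Basis (Fin n) Γ(X, U.1) Γ(E, U.1),
        RingTheory.Sequence.IsWeaklyRegular Γ(X, U.1)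
          (List.ofFn fun k => KoszSh.secForm s U.1 (b k)))
    (O : X.Opens) (x : X) (hx : x ∈ O) : ∃ W : X.Opens, PW n E s W ∧ x ∈ W ∧ W ≤ O := by
  obtain ⟨U, hxU, b, hreg⟩ := hs x
  obtain ⟨f, hfO, hxf⟩ := U.2.exists_basicOpen_le (V := O) ⟨x, hx⟩ hxU
  have hle : X.basicOpen f ≤ U.1 := X.basicOpen_le f
  have hld := RelFPAff.locData (F := E) U.2 f (homOfLE hle) rfl
  obtain ⟨b', hb'⟩ := transport hld b (KoszSh.secForm s U.1) (KoszSh.secForm s (X.basicOpen f))
    (fun m => secForm_res s hle m) hreg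
  exact ⟨X.basicOpen f, ⟨U.2.basicOpen f, b', hb'⟩, hxf, hfO⟩

variable {E : X.Modules} {s : E ⟶ Coh.structureModule X}

/-- The differential of a Koszul complex on sections over an affine open, through `loc`. -/
theorem d_loc (C : KoszSh.Cx E s) (p : ℕ) (U : X.affineOpens)
    (w : ↥(⋀[Γ(X, U.1)]^(p + 1) Γ(E, U.1))) :
    ap (C.K.d (p + 1) p) U.1 ((C.loc (p + 1) U).symm w) =
      (C.loc p U).symm (dLin (KoszSh.secForm s U.1) p w) := by
  have key : (appL (C.K.d (p + 1) p) U.1) ∘ₗ (C.loc (p + 1) U).symm.toLinearMap =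
      (C.loc p U).symm.toLinearMap ∘ₗ dLin (KoszSh.secForm s U.1) p := by
    refine exteriorPower.linearMap_ext (AlternatingMap.ext fun f => ?_)
    show ap (C.K.d (p + 1) p) U.1 ((C.loc (p + 1) U).symm (exteriorPower.ιMulti _ (p + 1) f)) =
      (C.loc p U).symm (dLin (KoszSh.secForm s U.1) p (exteriorPower.ιMulti _ (p + 1) f))
    rw [dLin_ιMulti]
    exact C.rule p U f
  exact LinearMap.congr_fun key w

theorem exact_sections {n : ℕ} (C : KoszSh.Cx E s) (q : ℕ) (U : X.affineOpens)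
    (b : Module.Basis (Fin n) Γ(X, U.1) Γ(E, U.1))
    (hreg : RingTheory.Sequence.IsWeaklyRegular Γ(X, U.1)
      (List.ofFn fun k => KoszSh.secForm s U.1 (b k)))
    (m : Γ(C.K.X (q + 1), U.1)) (hm : ap (C.K.d (q + 1) q) U.1 m = 0) :
    ∃ y : Γ(C.K.X (q + 1 + 1), U.1), ap (C.K.d (q + 1 + 1) (q + 1)) U.1 y = m := by
  have hz : dLin (KoszSh.secForm s U.1) q (C.loc (q + 1) U m) = 0 := by
    have h1 := d_loc C q U (C.loc (q + 1) U m)
    rw [LinearEquiv.symm_apply_apply] at h1
    have h2 : (C.loc q U).symm (dLin (KoszSh.secForm s U.1) q (C.loc (q + 1) U m)) = 0 :=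
      h1.symm.trans hm
    have h3 := congrArg (C.loc q U) h2
    rw [LinearEquiv.apply_symm_apply, map_zero] at h3
    exact h3
  obtain ⟨w, hw⟩ := exact_dLin b (KoszSh.secForm s U.1) hreg q _ hz
  refine ⟨(C.loc (q + 1 + 1) U).symm w, ?_⟩
  rw [d_loc C (q + 1) U w, hw, LinearEquiv.symm_apply_apply]

theorem main15899 (n : ℕ) (E : X.Modules)
    (hE : FlatMod.IsFinLocFreeOfRank n E) (s : E ⟶ Coh.structureModule X)
    (hs : ∀ x : X, ∃ U : X.affineOpens, x ∈ U.1 ∧
      ∃ b : Module.Basis (Fin n) Γ(X, U.1) Γ(E, U.1),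
        RingTheory.Sequence.IsWeaklyRegular Γ(X, U.1)
          (List.ofFn fun k => KoszSh.secForm s U.1 (b k)))
    (C : KoszSh.Cx E s) (q : ℕ) (hq : 1 ≤ q) :
    Limits.IsZero (C.K.homology q) := by
  obtain ⟨q', rfl⟩ : ∃ q', q = q' + 1 := ⟨q - 1, by omega⟩
  haveI : E.IsQuasicoherent :=
    FLFH8.isQuasicoherent_of_finLocFree E (FLFH8.IsFinLocFreeOfRank.isFinLocFree E hE)
  refine (HomologicalComplex.exactAt_iff_isZero_homology _ _).mp ?_
  refine (HomologicalComplex.exactAt_iff' C.K (q' + 1 + 1) (q' + 1) q'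
    (ChainComplex.prev ℕ (q' + 1)) (ChainComplex.next_nat_succ q')).mpr ?_
  refine Groth.Agent.Lib.ConormSeqH4.exact_of_basis (PW n E s) (PW_basis s hs) _ _ _ ?_
  intro W hW m hm
  obtain ⟨y, hy⟩ := exact_sections C q' ⟨W, hW.1⟩ hW.2.choose hW.2.choose_spec m hm
  exact ⟨y, hy⟩

end Groth.Agent.Lib.KoszAcycH7
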