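import Mathlib
import Groth.Prelude
import Groth.Agent.Lib.KoszAcyc2_helper7
import Groth.Agent.Lib.PB8_helper8
import Groth.Agent.Lib.OmegaAff_helper4
import Groth.Agent.Lib.Tens30_helper8
import Groth.Agent.Lib.QCohExact_helper9
import Groth.Agent.Lib.QCohCrit2_helper9
import Groth.Agent.Lib.ClPush1_helper8

/-!
# The pullback of a regular section to its zero scheme is an isomorphism onto the conormal
sheaf (helper7)

`E` finite locally free, `s : E → O_X` a regular section, `i : Y → X` the closed immersion cut out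
by the image of `s` (`t : E ↠ I_Y`).  Then `i^* t : i^* E → i^* I_Y` is an isomorphism.
APPEND-ONLY once landed.
-/

set_option autoImplicit false
set_option linter.style.haveILetI false

universe u

open CategoryTheory CategoryTheory.Limits AlgebraicGeometry Opposite TopologicalSpace
open QcqsLoc QCohExtn

namespace Groth.Agent.Lib.RegSecIsoH7

open Groth.Agent.Lib.KoszAcycH7

section RingLevel

open ExteriorAlgebra

variable {R : Type*} [CommRing R] {A : Type*} [AddCommGroup A] [Module R A]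

/-- Contraction maps degree two into `ι (range φ • ⊤)`. -/
theorem cL_mem_two (φ : A →ₗ[R] R) (y : ExteriorAlgebra R A)
    (hy : y ∈ LinearMap.range (ι R : A →ₗ[R] ExteriorAlgebra R A) * LinearMap.range (ι R)) :
    cL φ y ∈ ((LinearMap.range φ : Ideal R) • (⊤ : Submodule R A)).map (ι R) := by
  refine Submodule.mul_induction_on hy ?_ ?_
  · rintro _ ⟨a, rfl⟩ _ ⟨b, rfl⟩
    rw [cL_ι_mul, cL_ι, Algebra.algebraMap_eq_smul_one, mul_smul_comm, mul_one]
    refine ⟨φ a • b - φ b • a, ?_, ?_⟩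
    · exact Submodule.sub_mem _
        (Submodule.smul_mem_smul (LinearMap.mem_range_self φ a) Submodule.mem_top)
        (Submodule.smul_mem_smul (LinearMap.mem_range_self φ b) Submodule.mem_top)
    · rw [map_sub, map_smul, map_smul]
  · intro x y hx hy
    rw [map_add]
    exact Submodule.add_mem _ hx hy

/-- For a basis with weakly regular images, the kernel of the form lies in `range φ • ⊤`
(vanishing of the first Koszul homology). -/
theorem ker_le_smul_top {n : ℕ} (b : Module.Basis (Fin n) R A) (φ : A →ₗ[R] R)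
    (hreg : RingTheory.Sequence.IsWeaklyRegular R (List.ofFn fun k => φ (b k)))
    (e : A) (he : φ e = 0) : e ∈ (LinearMap.range φ : Ideal R) • (⊤ : Submodule R A) := by
  have hx : ι R e ∈ ⋀[R]^(0 + 1) A := by
    have h1 : (⋀[R]^(0 + 1) A : Submodule R (ExteriorAlgebra R A)) = LinearMap.range (ι R) :=
      pow_one _
    rw [h1]
    exact LinearMap.mem_range_self _ e
  have h0 : cL φ (ι R e) = 0 := by rw [cL_ι, he, map_zero]
  obtain ⟨y, hy, hcy⟩ := acyclic b φ hreg 0 (ι R e) hx h0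
  have h2 : (⋀[R]^(0 + 2) A : Submodule R (ExteriorAlgebra R A)) =
      LinearMap.range (ι R) * LinearMap.range (ι R) := pow_two _
  rw [h2] at hy
  have h1 := cL_mem_two φ y hy
  rw [hcy] at h1
  obtain ⟨e', he', hee'⟩ := h1
  have h3 : e' = e := (ExteriorAlgebra.ι_inj R e' e).mp hee'
  rw [← h3]
  exact he'

/-- Quasi-regularity in degree one: if `φ e ∈ I²` with `I = range φ`, then `e ∈ I • ⊤`. -/
theorem mem_smul_top_of_map_mem_sq {n : ℕ} (b : Module.Basis (Fin n) R A) (φ : A →ₗ[R] R)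
    (hreg : RingTheory.Sequence.IsWeaklyRegular R (List.ofFn fun k => φ (b k)))
    (e : A) (he : φ e ∈ (LinearMap.range φ : Ideal R) * (LinearMap.range φ : Ideal R)) :
    e ∈ (LinearMap.range φ : Ideal R) • (⊤ : Submodule R A) := by
  have h1 : (LinearMap.range φ : Ideal R) * (LinearMap.range φ : Ideal R) =
      ((LinearMap.range φ : Ideal R) • (⊤ : Submodule R A)).map φ := by
    rw [Submodule.map_smul'', Submodule.map_top]
    rfl
  rw [h1] at he
  obtain ⟨e', he', hφ⟩ := he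
  have h2 : e - e' ∈ (LinearMap.range φ : Ideal R) • (⊤ : Submodule R A) :=
    ker_le_smul_top b φ hreg (e - e') (by rw [map_sub, hφ, sub_self])
  have h3 : e = e' + (e - e') := by abel
  rw [h3]
  exact Submodule.add_mem _ he' h2

end RingLevel

section BC

open TensorProduct

variable {A B : Type u} [CommRing A] [CommRing B] [Algebra A B]
  {M N : Type u} [AddCommGroup M] [Module A M] [AddCommGroup N] [Module A N] [Module B N]
  [IsScalarTower A B N]

/-- A base change along a surjection is surjective. -/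
theorem surjective_of_isBaseChange (hsurj : Function.Surjective (algebraMap A B))
    (f : M →ₗ[A] N) (hf : IsBaseChange B f) : Function.Surjective f := by
  intro n
  induction n using hf.inductionOn with
  | zero => exact ⟨0, map_zero _⟩
  | tmul m => exact ⟨m, rfl⟩
  | smul b n ih =>
    obtain ⟨m, rfl⟩ := ih
    obtain ⟨a, rfl⟩ := hsurj b
    exact ⟨a • m, by rw [map_smul, algebraMap_smul]⟩
  | add n₁ n₂ h₁ h₂ =>
    obtain ⟨m₁, rfl⟩ := h₁
    obtain ⟨m₂, rfl⟩ := h₂
    exact ⟨m₁ + m₂, map_add _ _ _⟩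

/-- The kernel of a base change along a surjection with kernel `I` lies in `I • ⊤`. -/
theorem mem_ker_smul_top_of_isBaseChange (hsurj : Function.Surjective (algebraMap A B))
    (f : M →ₗ[A] N) (hf : IsBaseChange B f) (m : M) (hm : f m = 0) :
    m ∈ RingHom.ker (algebraMap A B) • (⊤ : Submodule A M) := by
  let e : (A ⧸ RingHom.ker (algebraMap A B)) ≃ₐ[A] B :=
    Ideal.quotientKerAlgEquivOfSurjective (f := Algebra.ofId A B) hsurj
  let ψ : B ⊗[A] M →ₗ[A] (M ⧸ (RingHom.ker (algebraMap A B) • (⊤ : Submodule A M))) :=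
    (TensorProduct.quotTensorEquivQuotSMul M (RingHom.ker (algebraMap A B))).toLinearMap ∘ₗ
      (LinearMap.rTensor M e.symm.toLinearMap)
  have hψ : ∀ m : M, ψ ((1 : B) ⊗ₜ m) = Submodule.Quotient.mk m := by
    intro m
    show TensorProduct.quotTensorEquivQuotSMul M (RingHom.ker (algebraMap A B))
      ((e.symm 1) ⊗ₜ m) = _
    rw [map_one]
    exact TensorProduct.quotTensorEquivQuotSMul_mk_one_tmul _ m
  have h1 : hf.equiv ((1 : B) ⊗ₜ m) = hf.equiv ((1 : B) ⊗ₜ (0 : M)) := by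
    rw [IsBaseChange.equiv_tmul, IsBaseChange.equiv_tmul, one_smul, one_smul, hm, map_zero]
  have h2 := hf.equiv.injective h1
  have h3 : (Submodule.Quotient.mk m :
      M ⧸ (RingHom.ker (algebraMap A B) • (⊤ : Submodule A M))) = 0 := by
    rw [← hψ m, h2, TensorProduct.tmul_zero, map_zero]
  exact (Submodule.Quotient.mk_eq_zero _).mp h3

end BC

section Geo

open PBH8

variable {X Y : Scheme.{u}} (i : Y ⟶ X) [IsClosedImmersion i]

theorem cUV_surjective (F : X.Modules) [F.IsQuasicoherent] {W : X.Opens} (hW : IsAffineOpen W)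
    (z : Γ((Scheme.Modules.pullback i).obj F, i ⁻¹ᵁ W)) :
    ∃ x : Γ(F, W), cUV i F (le_refl (i ⁻¹ᵁ W)) x = z := by
  have hV : IsAffineOpen (i ⁻¹ᵁ W) := hW.preimage i
  letI := (i.appLE W (i ⁻¹ᵁ W) (le_refl _)).hom.toAlgebra
  letI : Module Γ(X, W) Γ((Scheme.Modules.pullback i).obj F, i ⁻¹ᵁ W) :=
    Module.compHom _ (i.appLE W (i ⁻¹ᵁ W) (le_refl _)).hom
  haveI : IsScalarTower Γ(X, W) Γ(Y, i ⁻¹ᵁ W) Γ((Scheme.Modules.pullback i).obj F, i ⁻¹ᵁ W) :=
    IsScalarTower.of_algebraMap_smul fun _ _ => rfl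
  have bc := isBaseChange_cUV i F (le_refl (i ⁻¹ᵁ W)) hV hW
  have happ : i.appLE W (i ⁻¹ᵁ W) (le_refl _) = i.app W := i.appLE_eq_app
  have hsurj : Function.Surjective (algebraMap Γ(X, W) Γ(Y, i ⁻¹ᵁ W)) := by
    show Function.Surjective (i.appLE W (i ⁻¹ᵁ W) (le_refl _)).hom
    rw [happ]
    exact i.app_surjective W hW
  exact surjective_of_isBaseChange hsurj (cUVLin i F (le_refl (i ⁻¹ᵁ W))) bc z

theorem cUV_eq_zero (F : X.Modules) [F.IsQuasicoherent] {W : X.Opens} (hW : IsAffineOpen W)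
    (x : Γ(F, W)) (hx : cUV i F (le_refl (i ⁻¹ᵁ W)) x = 0) :
    x ∈ (i.ker.ideal ⟨W, hW⟩) • (⊤ : Submodule Γ(X, W) Γ(F, W)) := by
  have hV : IsAffineOpen (i ⁻¹ᵁ W) := hW.preimage i
  letI := (i.appLE W (i ⁻¹ᵁ W) (le_refl _)).hom.toAlgebra
  letI : Module Γ(X, W) Γ((Scheme.Modules.pullback i).obj F, i ⁻¹ᵁ W) :=
    Module.compHom _ (i.appLE W (i ⁻¹ᵁ W) (le_refl _)).hom
  haveI : IsScalarTower Γ(X, W) Γ(Y, i ⁻¹ᵁ W) Γ((Scheme.Modules.pullback i).obj F, i ⁻¹ᵁ W) :=
    IsScalarTower.of_algebraMap_smul fun _ _ => rfl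
  have bc := isBaseChange_cUV i F (le_refl (i ⁻¹ᵁ W)) hV hW
  have happ : i.appLE W (i ⁻¹ᵁ W) (le_refl _) = i.app W := i.appLE_eq_app
  have hsurj : Function.Surjective (algebraMap Γ(X, W) Γ(Y, i ⁻¹ᵁ W)) := by
    show Function.Surjective (i.appLE W (i ⁻¹ᵁ W) (le_refl _)).hom
    rw [happ]
    exact i.app_surjective W hW
  have h1 := mem_ker_smul_top_of_isBaseChange hsurj (cUVLin i F (le_refl (i ⁻¹ᵁ W))) bc x hx
  have hker : RingHom.ker (algebraMap Γ(X, W) Γ(Y, i ⁻¹ᵁ W)) = i.ker.ideal ⟨W, hW⟩ := by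
    rw [Scheme.Hom.ker_apply]
    show RingHom.ker (i.appLE W (i ⁻¹ᵁ W) (le_refl _)).hom = _
    rw [happ]
  rw [hker] at h1
  exact h1

theorem cUV_of_mem (F : X.Modules) {W : X.Opens} (hW : IsAffineOpen W) (x : Γ(F, W))
    (hx : x ∈ (i.ker.ideal ⟨W, hW⟩) • (⊤ : Submodule Γ(X, W) Γ(F, W))) :
    cUV i F (le_refl (i ⁻¹ᵁ W)) x = 0 := by
  have happ : i.appLE W (i ⁻¹ᵁ W) (le_refl _) = i.app W := i.appLE_eq_app
  refine Submodule.smul_induction_on
    (p := fun x => cUV i F (le_refl (i ⁻¹ᵁ W)) x = 0) hx ?_ ?_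
  · intro r hr m _
    show cUV i F (le_refl (i ⁻¹ᵁ W)) (r • m) = 0
    rw [cUV_smul]
    have h0 : (i.appLE W (i ⁻¹ᵁ W) (le_refl _)) r = 0 := by
      rw [happ]
      rw [Scheme.Hom.ker_apply, RingHom.mem_ker] at hr
      exact hr
    rw [h0, zero_smul]
  · intro a b ha hb
    show cUV i F (le_refl (i ⁻¹ᵁ W)) (a + b) = 0
    rw [cUV_add, ha, hb, add_zero]

/-- The key local statement: over the preimage of a good affine open, `i^* t` is bijective. -/
theorem app_bijective {n : ℕ} (E : X.Modules) [E.IsQuasicoherent]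
    (t : E ⟶ ClSub.idealMod i.ker) [Epi t]
    {W : X.Opens} (hW : IsAffineOpen W) (b : Module.Basis (Fin n) Γ(X, W) Γ(E, W))
    (hreg : RingTheory.Sequence.IsWeaklyRegular Γ(X, W)
      (List.ofFn fun k => KoszSh.secForm (t ≫ ClSub.idealModι i.ker) W (b k))) :
    Function.Bijective (ap ((Scheme.Modules.pullback i).map t) (i ⁻¹ᵁ W)) := by
  haveI hJq : (ClSub.idealMod i.ker).IsQuasicoherent :=
    Groth.Agent.Lib.OmegaAffH4.isQuasicoherent_idealMod _
  have htsurj : Function.Surjective (ap t W) := QCohExact.app_surjective_of_epi t hW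
  have hφ : ∀ e, KoszSh.secForm (t ≫ ClSub.idealModι i.ker) W e =
      KoszSh.secForm (ClSub.idealModι i.ker) W (ap t W e) := fun e => rfl
  have hlam : ∀ j, KoszSh.secForm (ClSub.idealModι i.ker) W j ∈ i.ker.ideal ⟨W, hW⟩ :=
    fun j => TensH8.idealModι_mem i.ker hW j
  have hrange : (LinearMap.range (KoszSh.secForm (t ≫ ClSub.idealModι i.ker) W) :
      Ideal Γ(X, W)) = i.ker.ideal ⟨W, hW⟩ := by
    apply le_antisymm
    · rintro _ ⟨e, rfl⟩
      rw [hφ]
      exact hlam _
    · intro a ha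
      obtain ⟨j, hj⟩ := TensH8.exists_idealMod_section i.ker hW a ha
      obtain ⟨e, he⟩ := htsurj j
      refine ⟨e, ?_⟩
      rw [hφ, he]
      exact hj
  have key : ∀ z, ap ((Scheme.Modules.pullback i).map t) (i ⁻¹ᵁ W) z = 0 → z = 0 := by
    intro z hz
    obtain ⟨e, rfl⟩ := cUV_surjective i E hW z
    have h1 : cUV i (ClSub.idealMod i.ker) (le_refl (i ⁻¹ᵁ W)) (ap t W e) = 0 :=
      (cUV_naturality i t (le_refl _) e).symm.trans hz
    have h2 := cUV_eq_zero i (ClSub.idealMod i.ker) hW (ap t W e) h1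
    have h3 : KoszSh.secForm (ClSub.idealModι i.ker) W (ap t W e) ∈
        i.ker.ideal ⟨W, hW⟩ * i.ker.ideal ⟨W, hW⟩ := by
      refine Submodule.smul_induction_on
        (p := fun x => KoszSh.secForm (ClSub.idealModι i.ker) W x ∈
          i.ker.ideal ⟨W, hW⟩ * i.ker.ideal ⟨W, hW⟩) h2 ?_ ?_
      · intro r hr j _
        show KoszSh.secForm (ClSub.idealModι i.ker) W (r • j) ∈ _
        rw [map_smul, smul_eq_mul]
        exact Ideal.mul_mem_mul hr (hlam j)
      · intro x y hx hy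
        show KoszSh.secForm (ClSub.idealModι i.ker) W (x + y) ∈ _
        rw [map_add]
        exact Ideal.add_mem _ hx hy
    have h4 : e ∈ (LinearMap.range (KoszSh.secForm (t ≫ ClSub.idealModι i.ker) W) :
        Ideal Γ(X, W)) • (⊤ : Submodule Γ(X, W) Γ(E, W)) := by
      refine mem_smul_top_of_map_mem_sq b _ hreg e ?_
      rw [hrange, hφ]
      exact h3
    rw [hrange] at h4
    exact cUV_of_mem i E hW e h4
  constructor
  · intro z1 z2 h12
    have h0 : ap ((Scheme.Modules.pullback i).map t) (i ⁻¹ᵁ W) (z1 - z2) = 0 := by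
      rw [map_sub, h12, sub_self]
    exact sub_eq_zero.mp (key _ h0)
  · intro y
    obtain ⟨j, rfl⟩ := cUV_surjective i (ClSub.idealMod i.ker) hW y
    obtain ⟨e, rfl⟩ := htsurj j
    exact ⟨cUV i E (le_refl _) e, cUV_naturality i t (le_refl _) e⟩

theorem main15826 (n : ℕ) (E : X.Modules)
    (hE : FlatMod.IsFinLocFreeOfRank n E) (s : E ⟶ Coh.structureModule X)
    (hs : ∀ x : X, ∃ U : X.affineOpens, x ∈ U.1 ∧
      ∃ b : Module.Basis (Fin n) Γ(X, U.1) (E.val.obj (op U.1)),
        @RingTheory.Sequence.IsWeaklyRegular Γ(X, U.1) Γ(X, U.1) _ _ _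
          (List.ofFn fun k => (s.val.app (op U.1)).hom (b k)))
    (t : E ⟶ ClSub.idealMod i.ker) [Epi t]
    (hts : t ≫ ClSub.idealModι i.ker = s) :
    IsIso ((Scheme.Modules.pullback i).map t) := by
  subst hts
  haveI : E.IsQuasicoherent :=
    FLFH8.isQuasicoherent_of_finLocFree E (FLFH8.IsFinLocFreeOfRank.isFinLocFree E hE)
  haveI : (ClSub.idealMod i.ker).IsQuasicoherent :=
    Groth.Agent.Lib.OmegaAffH4.isQuasicoherent_idealMod _
  refine QCohCrit.isIso_of_bijective_on_cover _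
    (fun y : Y => i ⁻¹ᵁ (Classical.choose (hs (i.base y))).1)
    (fun y => (Classical.choose (hs (i.base y))).2.preimage i) ?_ ?_
  · rw [eq_top_iff]
    intro y _
    exact Opens.mem_iSup.mpr ⟨y, (Classical.choose_spec (hs (i.base y))).1⟩
  · intro y
    obtain ⟨b, hreg⟩ := (Classical.choose_spec (hs (i.base y))).2
    exact app_bijective i E t (Classical.choose (hs (i.base y))).2 b hreg

end Geo

end Groth.Agent.Lib.RegSecIsoH7
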