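import Mathlib
import Groth.Prelude
import Groth.Agent.Lib.RegSecIso_helper7
import Groth.Agent.Lib.ConormSeq2_helper4
import Groth.Agent.Lib.KoszulLow_helper2
import Groth.Agent.Lib.RegKindFlat_helper2

/-!
# Transitivity of conormal sheaves, part 1: ring-level input (helper7)

`inf_sq_le_mul`: for a surjection `π : A → B` with kernel `I` and an ideal `K̄ ⊆ B` generated by an
`H_1`-regular sequence, `K = π⁻¹ K̄` satisfies `I ∩ K² ⊆ I K`.
`pullbackId_inv_app`: the inverse of `pullbackId` on sections is the unit of the adjunction.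
APPEND-ONLY once landed.
-/

set_option autoImplicit false
set_option linter.style.haveILetI false

universe u

open CategoryTheory CategoryTheory.Limits AlgebraicGeometry Opposite TopologicalSpace
open QcqsLoc QCohExtn

namespace Groth.Agent.Lib.ConormTransH7

section Alg

variable {A B : Type u} [CommRing A] [CommRing B]

/-- Combinations of trivial relations downstairs lift to honest relations upstairs. -/
theorem exists_lift_rel {c : ℕ} (π : A →+* B) (hπ : Function.Surjective π) (g : Fin c → A)
    (f : Fin c → B) (hg : ∀ l, π (g l) = f l) (w : Fin c → B)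
    (hw : w ∈ Submodule.span B
      {v : Fin c → B | ∃ i j : Fin c, v = Pi.single i (f j) - Pi.single j (f i)}) :
    ∃ v : Fin c → A, (fun l => π (v l)) = w ∧ ∑ l, v l * g l = 0 := by
  classical
  induction hw using Submodule.span_induction with
  | mem w hw =>
    obtain ⟨i, j, rfl⟩ := hw
    refine ⟨Pi.single i (g j) - Pi.single j (g i), ?_, ?_⟩
    · funext k
      simp only [Pi.sub_apply, Pi.single_apply]
      split_ifs <;> simp [hg]
    · simp only [Pi.sub_apply, sub_mul, Finset.sum_sub_distrib, Pi.single_apply, ite_mul, zero_mul,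
        Finset.sum_ite_eq', Finset.mem_univ, if_true]
      ring
  | zero =>
    refine ⟨0, ?_, ?_⟩
    · funext k
      simp
    · simp
  | add u v _ _ hu hv =>
    obtain ⟨u', rfl, hu0⟩ := hu
    obtain ⟨v', rfl, hv0⟩ := hv
    refine ⟨u' + v', ?_, ?_⟩
    · funext k
      simp
    · simp only [Pi.add_apply, add_mul, Finset.sum_add_distrib, hu0, hv0, add_zero]
  | smul b u _ hu =>
    obtain ⟨u', rfl, hu0⟩ := hu
    obtain ⟨β, rfl⟩ := hπ b
    refine ⟨β • u', ?_, ?_⟩
    · funext k
      simp
    · simp only [Pi.smul_apply, smul_eq_mul, mul_assoc]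
      rw [← Finset.mul_sum, hu0, mul_zero]

theorem mul_le_aux (G I K : Ideal A) (hK : K = G ⊔ I) : K * K ≤ G * G ⊔ I * K := by
  have hGK : G ≤ K := hK ▸ le_sup_left
  have h1 : K * K = G * K ⊔ I * K := (congrArg (· * K) hK).trans (Ideal.sup_mul G I K)
  have h2 : G * K = G * G ⊔ G * I := (congrArg (G * ·) hK).trans (Ideal.mul_sup G G I)
  rw [h1, h2]
  refine sup_le (sup_le le_sup_left (le_trans ?_ le_sup_right)) le_sup_right
  rw [mul_comm G I]
  exact Ideal.mul_mono_right hGK

/-- `I ∩ K² ⊆ I K` when `K / I` is generated by an `H_1`-regular sequence. -/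
theorem inf_sq_le_mul {c : ℕ} (π : A →+* B) (hπ : Function.Surjective π) (f : Fin c → B)
    (hf : CAlgX.IsH1Regular f) (I K : Ideal A) (hI : I = RingHom.ker π)
    (hK : K = (Ideal.span (Set.range f)).comap π) (x : A) (hxI : x ∈ I) (hxK : x ∈ K * K) :
    x ∈ I * K := by
  classical
  choose g hg using fun l => hπ (f l)
  have hKeq : K = Ideal.span (Set.range g) ⊔ I := by
    have h1 := Ideal.comap_map_of_surjective π hπ (Ideal.span (Set.range g))
    have h2 : (Ideal.span (Set.range g)).map π = Ideal.span (Set.range f) := by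
      rw [Ideal.map_span, ← Set.range_comp]
      have h3 : (⇑π ∘ g) = f := funext hg
      rw [h3]
    rw [h2] at h1
    rw [hK, h1, hI, RingHom.ker_eq_comap_bot]
  have hGK : Ideal.span (Set.range g) ≤ K := hKeq ▸ le_sup_left
  obtain ⟨y, hy, z, hz, rfl⟩ := Submodule.mem_sup.mp (mul_le_aux _ I K hKeq hxK)
  have hzI : z ∈ I := Ideal.mul_le_left hz
  have hyI : π y = 0 := by
    have h1 : π (y + z) = 0 := by
      rw [hI] at hxI
      exact (RingHom.mem_ker).mp hxI
    have h2 : π z = 0 := by
      rw [hI] at hzI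
      exact (RingHom.mem_ker).mp hzI
    rw [map_add, h2, add_zero] at h1
    exact h1
  have hyG : y ∈ Ideal.span (Set.range g) := Ideal.mul_le_left hy
  obtain ⟨cf, hcf⟩ := Ideal.mem_span_range_iff_exists_fun.mp hyG
  have hrel : ∑ l, π (cf l) * f l = 0 := by
    have h1 := congrArg π hcf
    rw [map_sum] at h1
    simp only [map_mul, hg] at h1
    rw [h1]
    exact hyI
  have hT := hf (fun l => π (cf l)) hrel
  obtain ⟨v, hv, hv0⟩ := exists_lift_rel π hπ g f hg _ hT
  have hy2 : y = ∑ l, (cf l - v l) * g l := by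
    rw [← hcf]
    simp only [sub_mul, Finset.sum_sub_distrib, hv0, sub_zero]
  have hyIK : y ∈ I * K := by
    rw [hy2]
    refine Ideal.sum_mem _ fun l _ => Ideal.mul_mem_mul ?_ (hGK (Ideal.subset_span ⟨l, rfl⟩))
    rw [hI, RingHom.mem_ker, map_sub, sub_eq_zero]
    exact (congrFun hv l).symm
  exact Ideal.add_mem _ hyIK hz

theorem range_get_eq {R : Type*} (rs : List R) : Set.range rs.get = {x | x ∈ rs} := by
  ext x
  constructor
  · rintro ⟨n, rfl⟩
    exact List.get_mem rs n
  · intro hx
    obtain ⟨n, hn⟩ := List.mem_iff_get.mp hx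
    exact ⟨n, hn⟩

theorem ofList_eq_span_range (rs : List A) : Ideal.ofList rs = Ideal.span (Set.range rs.get) := by
  rw [range_get_eq]

end Alg

section PullId

theorem pullbackId_inv_app {Z : Scheme.{u}} (M : Z.Modules) (U : Z.Opens) (x : Γ(M, U)) :
    ((Scheme.Modules.pullbackId Z).inv.app M).app U x = OmegaSh.pullSect (𝟙 Z) M U x := by
  have h1 := CategoryTheory.unit_conjugateEquiv Adjunction.id
    (Scheme.Modules.pullbackPushforwardAdjunction (𝟙 Z)) (Scheme.Modules.pullbackId Z).hom M
  rw [Scheme.Modules.conjugateEquiv_pullbackId_hom] at h1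
  have h2 : ((Scheme.Modules.pullbackId Z).hom.app M).app U (OmegaSh.pullSect (𝟙 Z) M U x) = x :=
    (Groth.Agent.Lib.ConeSP.app_congr h1 U x).symm
  have h3 : ((Scheme.Modules.pullbackId Z).inv.app M).app U
      (((Scheme.Modules.pullbackId Z).hom.app M).app U (OmegaSh.pullSect (𝟙 Z) M U x)) =
      OmegaSh.pullSect (𝟙 Z) M U x :=
    (Groth.Agent.Lib.ConeSP.app_congr ((Scheme.Modules.pullbackId Z).hom_inv_id_app M) U _).trans
      (Groth.Agent.Lib.ConeSP.app_id_apply U _)
  rw [h2] at h3
  exact h3

end PullId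

end Groth.Agent.Lib.ConormTransH7
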