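import Mathlib
import Groth.Prelude
import Groth.Agent.Lib.ConormTrans1_helper7
import Groth.Agent.Lib.OmegaCompat2_helper4

/-!
# Transitivity of conormal sheaves for closed immersions (helper7)

`0 → j^* C_{Y/X} → C_{Z/X} → C_{Z/Y} → 0` for closed immersions `j : Z → Y`, `i : Y → X`, short exact
when `j` is Koszul-regular.
APPEND-ONLY once landed.
-/

set_option autoImplicit false
set_option linter.style.haveILetI false

universe u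

open CategoryTheory CategoryTheory.Limits AlgebraicGeometry Opposite TopologicalSpace
open QcqsLoc QCohExtn

namespace Groth.Agent.Lib.ConormTransH7

open PBH8 Groth.Agent.Lib.RegSecIsoH7 Groth.Agent.Lib.ConormSeqH4 Groth.Agent.Lib.OmegaCompat2H4
open Groth.Agent.Lib.ConormDiffH4 Groth.Agent.Lib.OmegaAffH4

section IdealMod

variable {X : Scheme.{u}} (I' : X.IdealSheafData) {W : X.Opens} (hW : IsAffineOpen W)

theorem range_lam :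
    (LinearMap.range (KoszSh.secForm (ClSub.idealModι I') W) : Ideal Γ(X, W)) =
      I'.ideal ⟨W, hW⟩ := by
  apply le_antisymm
  · rintro _ ⟨n, rfl⟩
    exact TensH8.idealModι_mem I' hW n
  · intro a ha
    obtain ⟨n, hn⟩ := TensH8.exists_idealMod_section I' hW a ha
    exact ⟨n, hn⟩

theorem mem_smul_top_iff (J : Ideal Γ(X, W)) (n : Γ(ClSub.idealMod I', W)) :
    n ∈ J • (⊤ : Submodule Γ(X, W) Γ(ClSub.idealMod I', W)) ↔
      OmegaSh.idealSect I' W n ∈ J * I'.ideal ⟨W, hW⟩ := by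
  have hmap : (J • (⊤ : Submodule Γ(X, W) Γ(ClSub.idealMod I', W))).map
      (KoszSh.secForm (ClSub.idealModι I') W) = J * I'.ideal ⟨W, hW⟩ := by
    rw [Submodule.map_smul'', Submodule.map_top, range_lam I' hW]
    rfl
  constructor
  · intro hn
    rw [← hmap]
    exact ⟨n, hn, rfl⟩
  · intro hn
    rw [← hmap] at hn
    obtain ⟨n₀, hn₀, he⟩ := hn
    have h1 : n₀ = n := TensH8.idealModι_injective I' W he
    rw [← h1]
    exact hn₀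

end IdealMod

section Two

variable {X Y Z : Scheme.{u}} (i : Y ⟶ X) [IsClosedImmersion i] (j : Z ⟶ Y) [IsClosedImmersion j]

omit [IsClosedImmersion i] [IsClosedImmersion j] in
theorem comp_app_apply (W : X.Opens) (x : Γ(X, W)) :
    ((j ≫ i).app W).hom x = (j.app (i ⁻¹ᵁ W)).hom ((i.app W).hom x) := by
  rw [Scheme.Hom.comp_app]
  rfl

omit [IsClosedImmersion i] in
theorem mem_I_iff [QuasiCompact i] {W : X.Opens} (hW : IsAffineOpen W) (x : Γ(X, W)) :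
    x ∈ i.ker.ideal ⟨W, hW⟩ ↔ (i.app W).hom x = 0 := by
  rw [Scheme.Hom.ker_apply, RingHom.mem_ker]

theorem mem_K_iff {W : X.Opens} (hW : IsAffineOpen W) (x : Γ(X, W)) :
    x ∈ (j ≫ i).ker.ideal ⟨W, hW⟩ ↔
      (i.app W).hom x ∈ j.ker.ideal ⟨i ⁻¹ᵁ W, hW.preimage i⟩ := by
  have h1 := mem_I_iff (j ≫ i) hW x
  have h2 := mem_I_iff j (hW.preimage i) ((i.app W).hom x)
  have h3 := comp_app_apply i j W x
  rw [h3] at h1
  exact h1.trans h2.symm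

theorem I_le_K {W : X.Opens} (hW : IsAffineOpen W) {x : Γ(X, W)}
    (hx : x ∈ i.ker.ideal ⟨W, hW⟩) : x ∈ (j ≫ i).ker.ideal ⟨W, hW⟩ := by
  rw [mem_K_iff i j hW, (mem_I_iff i hW x).mp hx]
  exact Ideal.zero_mem _

theorem K_eq_comap {W : X.Opens} (hW : IsAffineOpen W) :
    (j ≫ i).ker.ideal ⟨W, hW⟩ =
      (j.ker.ideal ⟨i ⁻¹ᵁ W, hW.preimage i⟩).comap (i.app W).hom :=
  Ideal.ext fun x => (mem_K_iff i j hW x).trans Ideal.mem_comap.symm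

theorem map_K {W : X.Opens} (hW : IsAffineOpen W) :
    ((j ≫ i).ker.ideal ⟨W, hW⟩).map (i.app W).hom = j.ker.ideal ⟨i ⁻¹ᵁ W, hW.preimage i⟩ := by
  rw [K_eq_comap i j hW]
  exact Ideal.map_comap_of_surjective _ (i.app_surjective W hW) _

/-- The class in `C_{Y/X}(i⁻¹W)` of a section of the ideal of `Y` over `W`. -/
noncomputable def cY (W : X.Opens) (n : Γ(ClSub.idealMod i.ker, W)) :
    Γ(Omega.conormal i, i ⁻¹ᵁ W) :=
  cUV i (ClSub.idealMod i.ker) (le_refl (i ⁻¹ᵁ W)) n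

/-- The class in `C_{Z/X}` of a section of the ideal of `Z` in `X` over `W`. -/
noncomputable def cZ (W : X.Opens) (n' : Γ(ClSub.idealMod (j ≫ i).ker, W)) :
    Γ(Omega.conormal (j ≫ i), j ⁻¹ᵁ (i ⁻¹ᵁ W)) :=
  cUV (j ≫ i) (ClSub.idealMod (j ≫ i).ker) (le_refl ((j ≫ i) ⁻¹ᵁ W)) n'

/-- The class in `C_{Z/Y}` of a section of the ideal of `Z` in `Y` over `V`. -/
noncomputable def cJ (V : Y.Opens) (n'' : Γ(ClSub.idealMod j.ker, V)) :
    Γ(Omega.conormal j, j ⁻¹ᵁ V) :=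
  cUV j (ClSub.idealMod j.ker) (le_refl (j ⁻¹ᵁ V)) n''

/-- The pullback to `Z` of a section of `C_{Y/X}` over `V`. -/
noncomputable def cP (V : Y.Opens) (y : Γ(Omega.conormal i, V)) :
    Γ((Scheme.Modules.pullback j).obj (Omega.conormal i), j ⁻¹ᵁ V) :=
  cUV j (Omega.conormal i) (le_refl (j ⁻¹ᵁ V)) y

theorem cY_surj {W : X.Opens} (hW : IsAffineOpen W) (y : Γ(Omega.conormal i, i ⁻¹ᵁ W)) :
    ∃ n, cY i W n = y := by
  haveI qc1 : (ClSub.idealMod i.ker).IsQuasicoherent := isQuasicoherent_idealMod _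
  exact cUV_surjective i (ClSub.idealMod i.ker) hW y

theorem cZ_surj {W : X.Opens} (hW : IsAffineOpen W)
    (m : Γ(Omega.conormal (j ≫ i), j ⁻¹ᵁ (i ⁻¹ᵁ W))) : ∃ n', cZ i j W n' = m := by
  haveI qc1 : (ClSub.idealMod (j ≫ i).ker).IsQuasicoherent := isQuasicoherent_idealMod _
  exact cUV_surjective (j ≫ i) (ClSub.idealMod (j ≫ i).ker) hW m

theorem cJ_surj {V : Y.Opens} (hV : IsAffineOpen V) (y : Γ(Omega.conormal j, j ⁻¹ᵁ V)) :
    ∃ n'', cJ j V n'' = y := by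
  haveI qc1 : (ClSub.idealMod j.ker).IsQuasicoherent := isQuasicoherent_idealMod _
  exact cUV_surjective j (ClSub.idealMod j.ker) hV y

theorem cP_surj {V : Y.Opens} (hV : IsAffineOpen V)
    (x : Γ((Scheme.Modules.pullback j).obj (Omega.conormal i), j ⁻¹ᵁ V)) :
    ∃ y, cP i j V y = x := by
  haveI qc1 : (ClSub.idealMod i.ker).IsQuasicoherent := isQuasicoherent_idealMod _
  haveI qc2 : (Omega.conormal i).IsQuasicoherent := by
    unfold Omega.conormal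
    infer_instance
  exact cUV_surjective j (Omega.conormal i) hV x

theorem cZ_eq_zero {W : X.Opens} (hW : IsAffineOpen W) (n' : Γ(ClSub.idealMod (j ≫ i).ker, W))
    (h : cZ i j W n' = 0) :
    n' ∈ (j ≫ i).ker.ideal ⟨W, hW⟩ •
      (⊤ : Submodule Γ(X, W) Γ(ClSub.idealMod (j ≫ i).ker, W)) := by
  haveI qc1 : (ClSub.idealMod (j ≫ i).ker).IsQuasicoherent := isQuasicoherent_idealMod _
  exact cUV_eq_zero (j ≫ i) (ClSub.idealMod (j ≫ i).ker) hW n' h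

theorem cZ_of_mem {W : X.Opens} (hW : IsAffineOpen W) (n' : Γ(ClSub.idealMod (j ≫ i).ker, W))
    (h : n' ∈ (j ≫ i).ker.ideal ⟨W, hW⟩ •
      (⊤ : Submodule Γ(X, W) Γ(ClSub.idealMod (j ≫ i).ker, W))) : cZ i j W n' = 0 :=
  cUV_of_mem (j ≫ i) (ClSub.idealMod (j ≫ i).ker) hW n' h

theorem cZ_add (W : X.Opens) (a b : Γ(ClSub.idealMod (j ≫ i).ker, W)) :
    cZ i j W (a + b) = cZ i j W a + cZ i j W b :=
  cUV_add (j ≫ i) (ClSub.idealMod (j ≫ i).ker) (le_refl ((j ≫ i) ⁻¹ᵁ W)) a b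

theorem cJ_eq_zero {V : Y.Opens} (hV : IsAffineOpen V) (n'' : Γ(ClSub.idealMod j.ker, V))
    (h : cJ j V n'' = 0) :
    n'' ∈ j.ker.ideal ⟨V, hV⟩ • (⊤ : Submodule Γ(Y, V) Γ(ClSub.idealMod j.ker, V)) := by
  haveI qc1 : (ClSub.idealMod j.ker).IsQuasicoherent := isQuasicoherent_idealMod _
  exact cUV_eq_zero j (ClSub.idealMod j.ker) hV n'' h

theorem cJ_zero (V : Y.Opens) : cJ j V 0 = 0 := cUV_zero j _ _

theorem cP_of_mem {V : Y.Opens} (hV : IsAffineOpen V) (y : Γ(Omega.conormal i, V))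
    (h : y ∈ j.ker.ideal ⟨V, hV⟩ • (⊤ : Submodule Γ(Y, V) Γ(Omega.conormal i, V))) :
    cP i j V y = 0 :=
  cUV_of_mem j (Omega.conormal i) hV y h

theorem cY_add (W : X.Opens) (a b : Γ(ClSub.idealMod i.ker, W)) :
    cY i W (a + b) = cY i W a + cY i W b :=
  cUV_add i (ClSub.idealMod i.ker) (le_refl (i ⁻¹ᵁ W)) a b

theorem cY_smul (W : X.Opens) (r : Γ(X, W)) (a : Γ(ClSub.idealMod i.ker, W)) :
    cY i W (r • a) = ((i.app W).hom r) • cY i W a := by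
  have h1 := cUV_smul i (ClSub.idealMod i.ker) (le_refl (i ⁻¹ᵁ W)) r a
  have happ : i.appLE W (i ⁻¹ᵁ W) (le_refl _) = i.app W := i.appLE_eq_app
  rw [happ] at h1
  exact h1

variable (φ₁ : (Scheme.Modules.pullback j).obj (Omega.conormal i) ⟶ Omega.conormal (j ≫ i))
  (hφ₁ : OmegaSh.IsConormalMap (j ≫ i) i (𝟙 X) j φ₁)
  (φ₂ : (Scheme.Modules.pullback (𝟙 Z)).obj (Omega.conormal (j ≫ i)) ⟶ Omega.conormal j)
  (hφ₂ : OmegaSh.IsConormalMap j (j ≫ i) i (𝟙 Z) φ₂)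

include hφ₁ in
theorem phi1_formula (W : X.Opens) (n : Γ(ClSub.idealMod i.ker, W))
    (n' : Γ(ClSub.idealMod (j ≫ i).ker, W))
    (hc : OmegaSh.idealSect (j ≫ i).ker W n' = OmegaSh.idealSect i.ker W n) :
    φ₁.app (j ⁻¹ᵁ (i ⁻¹ᵁ W)) (cP i j (i ⁻¹ᵁ W) (cY i W n)) = cZ i j W n' := by
  have hid : ∀ x : Γ(X, W), (𝟙 X : X ⟶ X).app W x = x := fun x => by
    first
      | rfl
      | (simp only [Scheme.Hom.id_app]; rfl)
  have hc' : OmegaSh.idealSect (j ≫ i).ker ((𝟙 X) ⁻¹ᵁ W) n' =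
      (𝟙 X : X ⟶ X).app W (OmegaSh.idealSect i.ker W n) := hc.trans (hid _).symm
  have h := hφ₁.2 W n n' hc' (j ⁻¹ᵁ (i ⁻¹ᵁ W)) (le_refl _) (le_refl _)
  have e1 : cY i W n = OmegaSh.conormalSect i W n := cUV_rfl i _ W n
  have e2 : ∀ y : Γ(Omega.conormal i, i ⁻¹ᵁ W),
      cP i j (i ⁻¹ᵁ W) y = OmegaSh.pullSect j (Omega.conormal i) (i ⁻¹ᵁ W) y :=
    fun y => cUV_rfl j _ _ y
  rw [e1, e2]
  exact (map_homOfLE_rfl (Omega.conormal (j ≫ i)) _ _).symm.trans h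

include hφ₂ in
theorem psi2_formula (W : X.Opens) (n' : Γ(ClSub.idealMod (j ≫ i).ker, W))
    (n'' : Γ(ClSub.idealMod j.ker, i ⁻¹ᵁ W))
    (hc : OmegaSh.idealSect j.ker (i ⁻¹ᵁ W) n'' =
      (i.app W).hom (OmegaSh.idealSect (j ≫ i).ker W n')) :
    ((Scheme.Modules.pullbackId Z).inv.app (Omega.conormal (j ≫ i)) ≫ φ₂).app
        (j ⁻¹ᵁ (i ⁻¹ᵁ W)) (cZ i j W n') = cJ j (i ⁻¹ᵁ W) n'' := by
  have h := psi_formula i j (j ≫ i) φ₂ hφ₂ n' n'' hc (le_refl _)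
  have e1 : cZ i j W n' = OmegaSh.conormalSect (j ≫ i) W n' := cUV_rfl (j ≫ i) _ W n'
  have e2 := pullbackId_inv_app (Omega.conormal (j ≫ i)) ((j ≫ i) ⁻¹ᵁ W)
    (OmegaSh.conormalSect (j ≫ i) W n')
  have e3 : ((Scheme.Modules.pullbackId Z).inv.app (Omega.conormal (j ≫ i)) ≫ φ₂).app
      (j ⁻¹ᵁ (i ⁻¹ᵁ W)) (OmegaSh.conormalSect (j ≫ i) W n') = cJ j (i ⁻¹ᵁ W) n'' :=
    (congrArg (fun t => φ₂.app ((j ≫ i) ⁻¹ᵁ W) t) e2).trans h
  rw [e1]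
  exact e3

include hφ₁ hφ₂ in
theorem comp_zero_sections {W : X.Opens} (hW : IsAffineOpen W)
    (x : Γ((Scheme.Modules.pullback j).obj (Omega.conormal i), j ⁻¹ᵁ (i ⁻¹ᵁ W))) :
    (φ₁ ≫ ((Scheme.Modules.pullbackId Z).inv.app (Omega.conormal (j ≫ i)) ≫ φ₂)).app
      (j ⁻¹ᵁ (i ⁻¹ᵁ W)) x = 0 := by
  obtain ⟨y, rfl⟩ := cP_surj i j (hW.preimage i) x
  obtain ⟨n, rfl⟩ := cY_surj i hW y
  have hnI := TensH8.idealModι_mem i.ker hW n
  obtain ⟨n', hn'⟩ := TensH8.exists_idealMod_section (j ≫ i).ker hW _ (I_le_K i j hW hnI)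
  show ((Scheme.Modules.pullbackId Z).inv.app (Omega.conormal (j ≫ i)) ≫ φ₂).app
    (j ⁻¹ᵁ (i ⁻¹ᵁ W)) (φ₁.app (j ⁻¹ᵁ (i ⁻¹ᵁ W)) (cP i j (i ⁻¹ᵁ W) (cY i W n))) = 0
  rw [phi1_formula i j φ₁ hφ₁ W n n' hn']
  have hc : OmegaSh.idealSect j.ker (i ⁻¹ᵁ W) 0 =
      (i.app W).hom (OmegaSh.idealSect (j ≫ i).ker W n') := by
    rw [map_zero]
    have h1 : OmegaSh.idealSect (j ≫ i).ker W n' ∈ i.ker.ideal ⟨W, hW⟩ := by
      have h2 : OmegaSh.idealSect (j ≫ i).ker W n' = OmegaSh.idealSect i.ker W n := hn'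
      rw [h2]
      exact hnI
    exact ((mem_I_iff i hW _).mp h1).symm
  rw [psi2_formula i j φ₂ hφ₂ W n' 0 hc]
  exact cJ_zero j _

include hφ₁ hφ₂ in
theorem exact_sections {W : X.Opens} (hW : IsAffineOpen W)
    (m : Γ(Omega.conormal (j ≫ i), j ⁻¹ᵁ (i ⁻¹ᵁ W)))
    (hm : ((Scheme.Modules.pullbackId Z).inv.app (Omega.conormal (j ≫ i)) ≫ φ₂).app
      (j ⁻¹ᵁ (i ⁻¹ᵁ W)) m = 0) :
    ∃ x : Γ((Scheme.Modules.pullback j).obj (Omega.conormal i), j ⁻¹ᵁ (i ⁻¹ᵁ W)),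
      φ₁.app (j ⁻¹ᵁ (i ⁻¹ᵁ W)) x = m := by
  have hV : IsAffineOpen (i ⁻¹ᵁ W) := hW.preimage i
  obtain ⟨n', rfl⟩ := cZ_surj i j hW m
  have hkK := TensH8.idealModι_mem (j ≫ i).ker hW n'
  have hik := (mem_K_iff i j hW _).mp hkK
  obtain ⟨n'', hn''⟩ := TensH8.exists_idealMod_section j.ker hV _ hik
  rw [psi2_formula i j φ₂ hφ₂ W n' n'' hn''] at hm
  have h1 := cJ_eq_zero j hV n'' hm
  have h2 := (mem_smul_top_iff j.ker hV _ n'').mp h1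
  have h2' : (i.app W).hom (OmegaSh.idealSect (j ≫ i).ker W n') ∈
      j.ker.ideal ⟨i ⁻¹ᵁ W, hV⟩ * j.ker.ideal ⟨i ⁻¹ᵁ W, hV⟩ := by
    have h3 : OmegaSh.idealSect j.ker (i ⁻¹ᵁ W) n'' =
        (i.app W).hom (OmegaSh.idealSect (j ≫ i).ker W n') := hn''
    rw [← h3]
    exact h2
  have h3 : j.ker.ideal ⟨i ⁻¹ᵁ W, hV⟩ * j.ker.ideal ⟨i ⁻¹ᵁ W, hV⟩ =
      ((j ≫ i).ker.ideal ⟨W, hW⟩ * (j ≫ i).ker.ideal ⟨W, hW⟩).map (i.app W).hom := by
    rw [Ideal.map_mul, map_K i j hW]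
  rw [h3] at h2'
  obtain ⟨k₂, hk₂, hk₂e⟩ :=
    (Ideal.mem_map_iff_of_surjective _ (i.app_surjective W hW)).mp h2'
  have hι : OmegaSh.idealSect (j ≫ i).ker W n' - k₂ ∈ i.ker.ideal ⟨W, hW⟩ := by
    rw [mem_I_iff i hW, map_sub, hk₂e, sub_self]
  obtain ⟨nι, hnι⟩ := TensH8.exists_idealMod_section i.ker hW _ hι
  obtain ⟨nι', hnι'⟩ := TensH8.exists_idealMod_section (j ≫ i).ker hW _ (I_le_K i j hW hι)
  obtain ⟨n₂, hn₂⟩ := TensH8.exists_idealMod_section (j ≫ i).ker hW k₂ (Ideal.mul_le_left hk₂)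
  have hn₂' : n₂ ∈ (j ≫ i).ker.ideal ⟨W, hW⟩ •
      (⊤ : Submodule Γ(X, W) Γ(ClSub.idealMod (j ≫ i).ker, W)) := by
    refine (mem_smul_top_iff (j ≫ i).ker hW _ n₂).mpr ?_
    have h4 : OmegaSh.idealSect (j ≫ i).ker W n₂ = k₂ := hn₂
    rw [h4]
    exact hk₂
  have hsum : n' = nι' + n₂ := by
    apply TensH8.idealModι_injective (j ≫ i).ker W
    have h4 : OmegaSh.idealSect (j ≫ i).ker W nι' =
        OmegaSh.idealSect (j ≫ i).ker W n' - k₂ := hnι'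
    have h5 : OmegaSh.idealSect (j ≫ i).ker W n₂ = k₂ := hn₂
    have h6 : OmegaSh.idealSect (j ≫ i).ker W (nι' + n₂) =
        OmegaSh.idealSect (j ≫ i).ker W n' := by
      rw [map_add, h4, h5, sub_add_cancel]
    exact h6.symm
  refine ⟨cP i j (i ⁻¹ᵁ W) (cY i W nι), ?_⟩
  have hc : OmegaSh.idealSect (j ≫ i).ker W nι' = OmegaSh.idealSect i.ker W nι := by
    have h4 : OmegaSh.idealSect (j ≫ i).ker W nι' =
        OmegaSh.idealSect (j ≫ i).ker W n' - k₂ := hnι'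
    have h5 : OmegaSh.idealSect i.ker W nι = OmegaSh.idealSect (j ≫ i).ker W n' - k₂ := hnι
    rw [h4, h5]
  rw [phi1_formula i j φ₁ hφ₁ W nι nι' hc, hsum, cZ_add, cZ_of_mem i j hW n₂ hn₂', add_zero]

include hφ₂ in
theorem surj_sections {W : X.Opens} (hW : IsAffineOpen W)
    (y : Γ(Omega.conormal j, j ⁻¹ᵁ (i ⁻¹ᵁ W))) :
    ∃ m : Γ(Omega.conormal (j ≫ i), j ⁻¹ᵁ (i ⁻¹ᵁ W)),
      ((Scheme.Modules.pullbackId Z).inv.app (Omega.conormal (j ≫ i)) ≫ φ₂).app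
        (j ⁻¹ᵁ (i ⁻¹ᵁ W)) m = y := by
  have hV : IsAffineOpen (i ⁻¹ᵁ W) := hW.preimage i
  obtain ⟨n'', rfl⟩ := cJ_surj j hV y
  have hκ := TensH8.idealModι_mem j.ker hV n''
  obtain ⟨k, hk⟩ := i.app_surjective W hW (OmegaSh.idealSect j.ker (i ⁻¹ᵁ W) n'')
  have hkK : k ∈ (j ≫ i).ker.ideal ⟨W, hW⟩ := by
    rw [mem_K_iff i j hW]
    have h1 : (i.app W).hom k = OmegaSh.idealSect j.ker (i ⁻¹ᵁ W) n'' := hk
    rw [h1]
    exact hκ
  obtain ⟨n', hn'⟩ := TensH8.exists_idealMod_section (j ≫ i).ker hW k hkK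
  refine ⟨cZ i j W n', ?_⟩
  refine psi2_formula i j φ₂ hφ₂ W n' n'' ?_
  have h1 : OmegaSh.idealSect (j ≫ i).ker W n' = k := hn'
  rw [h1]
  exact hk.symm

include hφ₁ in
theorem inj_sections {W : X.Opens} (hW : IsAffineOpen W) (rs : List Γ(Y, i ⁻¹ᵁ W))
    (hrs : CAlgX.IsH1Regular rs.get)
    (hKbar : j.ker.ideal ⟨i ⁻¹ᵁ W, hW.preimage i⟩ = Ideal.ofList rs)
    (x : Γ((Scheme.Modules.pullback j).obj (Omega.conormal i), j ⁻¹ᵁ (i ⁻¹ᵁ W)))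
    (hx : φ₁.app (j ⁻¹ᵁ (i ⁻¹ᵁ W)) x = 0) : x = 0 := by
  have hV : IsAffineOpen (i ⁻¹ᵁ W) := hW.preimage i
  obtain ⟨y, rfl⟩ := cP_surj i j hV x
  obtain ⟨n, rfl⟩ := cY_surj i hW y
  have hnI := TensH8.idealModι_mem i.ker hW n
  obtain ⟨n', hn'⟩ := TensH8.exists_idealMod_section (j ≫ i).ker hW _ (I_le_K i j hW hnI)
  rw [phi1_formula i j φ₁ hφ₁ W n n' hn'] at hx
  have h1 := cZ_eq_zero i j hW n' hx
  have h2 := (mem_smul_top_iff (j ≫ i).ker hW _ n').mp h1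
  have h2' : OmegaSh.idealSect i.ker W n ∈
      (j ≫ i).ker.ideal ⟨W, hW⟩ * (j ≫ i).ker.ideal ⟨W, hW⟩ := by
    have h3 : OmegaSh.idealSect (j ≫ i).ker W n' = OmegaSh.idealSect i.ker W n := hn'
    rw [← h3]
    exact h2
  have hI : i.ker.ideal ⟨W, hW⟩ = RingHom.ker (i.app W).hom := Scheme.Hom.ker_apply i ⟨W, hW⟩
  have hK : (j ≫ i).ker.ideal ⟨W, hW⟩ =
      (Ideal.span (Set.range rs.get)).comap (i.app W).hom := by
    rw [K_eq_comap i j hW, hKbar, ofList_eq_span_range]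
  have h3 := inf_sq_le_mul (i.app W).hom (i.app_surjective W hW) rs.get hrs _ _ hI hK _ hnI h2'
  have h4 : n ∈ (j ≫ i).ker.ideal ⟨W, hW⟩ •
      (⊤ : Submodule Γ(X, W) Γ(ClSub.idealMod i.ker, W)) := by
    refine (mem_smul_top_iff i.ker hW _ n).mpr ?_
    rw [mul_comm]
    exact h3
  have h5 : cY i W n ∈ j.ker.ideal ⟨i ⁻¹ᵁ W, hV⟩ •
      (⊤ : Submodule Γ(Y, i ⁻¹ᵁ W) Γ(Omega.conormal i, i ⁻¹ᵁ W)) := by
    refine Submodule.smul_induction_on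
      (p := fun n => cY i W n ∈ j.ker.ideal ⟨i ⁻¹ᵁ W, hV⟩ •
          (⊤ : Submodule Γ(Y, i ⁻¹ᵁ W) Γ(Omega.conormal i, i ⁻¹ᵁ W))) h4 ?_ ?_
    · intro r hr m _
      show cY i W (r • m) ∈ _
      rw [cY_smul]
      exact Submodule.smul_mem_smul ((mem_K_iff i j hW r).mp hr) Submodule.mem_top
    · intro a b ha hb
      show cY i W (a + b) ∈ _
      rw [cY_add]
      exact Submodule.add_mem _ ha hb
  exact cP_of_mem i j hV _ h5

end Two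

section Main

variable {X Y Z : Scheme.{u}} (i : Y ⟶ X) [IsClosedImmersion i] (j : Z ⟶ Y) [IsClosedImmersion j]

theorem flat_res {V₀ : Y.Opens} (hV₀ : IsAffineOpen V₀) (g : Γ(Y, V₀)) :
    (Y.presheaf.map (homOfLE (Y.basicOpen_le g)).op).hom.Flat := by
  letI := (Y.presheaf.map (homOfLE (Y.basicOpen_le g)).op).hom.toAlgebra
  haveI : IsLocalization.Away g Γ(Y, Y.basicOpen g) := hV₀.isLocalization_basicOpen g
  exact IsLocalization.flat Γ(Y, Y.basicOpen g) (Submonoid.powers g)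

/-- `H_1`-regular generation of the ideal of `j` over an affine open. -/
def RegAt (V : Y.Opens) (hV : IsAffineOpen V) : Prop :=
  ∃ rs : List Γ(Y, V), CAlgX.IsH1Regular rs.get ∧ j.ker.ideal ⟨V, hV⟩ = Ideal.ofList rs

omit [IsClosedImmersion j] in
theorem regAt_of_eq {V V' : Y.Opens} (h : V = V') (hV : IsAffineOpen V) (hV' : IsAffineOpen V')
    (H : RegAt j V' hV') : RegAt j V hV := by
  subst h
  exact H

omit [IsClosedImmersion j] in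
theorem regAt_basicOpen {V₀ : Y.Opens} (hV₀ : IsAffineOpen V₀) (H : RegAt j V₀ hV₀)
    (g : Γ(Y, V₀)) : RegAt j (Y.basicOpen g) (hV₀.basicOpen g) := by
  obtain ⟨rs, hrs, hK⟩ := H
  refine ⟨rs.map (Y.presheaf.map (homOfLE (Y.basicOpen_le g)).op).hom,
    Groth.Agent.Lib.RegKindFlat.h1_map_of_flat _ (flat_res hV₀ g) rs hrs, ?_⟩
  have h1 := j.ker.map_ideal_basicOpen ⟨V₀, hV₀⟩ g
  rw [hK, Ideal.map_ofList] at h1
  exact h1.symm

/-- The basis of opens of `Z` used to check exactness. -/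
def PReg (U : Z.Opens) : Prop :=
  ∃ (W : X.Opens) (hW : IsAffineOpen W), U = j ⁻¹ᵁ (i ⁻¹ᵁ W) ∧ RegAt j (i ⁻¹ᵁ W) (hW.preimage i)

theorem PReg_basis (hj : RegImm.IsRegularImmersion .koszul j) (O : Z.Opens) (z : Z)
    (hz : z ∈ O) : ∃ U : Z.Opens, PReg i j U ∧ z ∈ U ∧ U ≤ O := by
  obtain ⟨OX, hOX, hOXeq⟩ := (j ≫ i).isEmbedding.isInducing.isOpen_iff.mp O.isOpen
  have hzOX : (j ≫ i) z ∈ OX := by
    have h0 : z ∈ (j ≫ i) ⁻¹' OX := by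
      rw [hOXeq]
      exact hz
    exact h0
  obtain ⟨V₀, hzV₀, -, rs₀, hrs₀, hker₀⟩ := hj.2 z
  obtain ⟨_, ⟨W₁, hW₁ : IsAffineOpen W₁, rfl⟩, hzW₁, hW₁O⟩ :=
    (X.isBasis_affineOpens).exists_subset_of_mem_open hzOX hOX
  have hV₁ : IsAffineOpen (i ⁻¹ᵁ W₁) := hW₁.preimage i
  have hcomp : ∀ z' : Z, (j ≫ i) z' = i (j z') := fun z' => Scheme.Hom.comp_apply j i z'
  have hzV₁ : j z ∈ i ⁻¹ᵁ W₁ := by
    show i (j z) ∈ W₁
    rw [← hcomp]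
    exact hzW₁
  obtain ⟨f, g, hfg, hzf⟩ := exists_basicOpen_le_affine_inter hV₁ V₀.2 (j z) ⟨hzV₁, hzV₀⟩
  obtain ⟨a, ha⟩ := i.app_surjective W₁ hW₁ f
  have hWa : IsAffineOpen (X.basicOpen a) := hW₁.basicOpen a
  have hpre : i ⁻¹ᵁ (X.basicOpen a) = Y.basicOpen g := by
    rw [Scheme.preimage_basicOpen]
    have h0 : (i.app W₁) a = f := ha
    rw [h0, hfg]
  have hReg₀ : RegAt j V₀.1 V₀.2 := by
    refine ⟨rs₀, Groth.Agent.Lib.KoszulLow.h1_of_koszulRegular rs₀ hrs₀, ?_⟩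
    rw [Scheme.Hom.ker_apply]
    exact hker₀
  have hReg : RegAt j (i ⁻¹ᵁ (X.basicOpen a)) (hWa.preimage i) :=
    regAt_of_eq j hpre _ (V₀.2.basicOpen g) (regAt_basicOpen j V₀.2 hReg₀ g)
  refine ⟨j ⁻¹ᵁ (i ⁻¹ᵁ (X.basicOpen a)), ⟨X.basicOpen a, hWa, rfl, hReg⟩, ?_, ?_⟩
  · show j z ∈ i ⁻¹ᵁ (X.basicOpen a)
    rw [hpre, ← hfg]
    exact hzf
  · intro z' hz'
    have h1 : i (j z') ∈ W₁ := X.basicOpen_le a hz'
    rw [← hcomp] at h1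
    have h2 : z' ∈ (j ≫ i) ⁻¹' OX := hW₁O h1
    rw [hOXeq] at h2
    exact h2

theorem main8679 (hj : RegImm.IsRegularImmersion .koszul j)
    (φ₁ : (Scheme.Modules.pullback j).obj (Omega.conormal i) ⟶ Omega.conormal (j ≫ i))
    (hφ₁ : OmegaSh.IsConormalMap (j ≫ i) i (𝟙 X) j φ₁)
    (φ₂ : (Scheme.Modules.pullback (𝟙 Z)).obj (Omega.conormal (j ≫ i)) ⟶ Omega.conormal j)
    (hφ₂ : OmegaSh.IsConormalMap j (j ≫ i) i (𝟙 Z) φ₂) :
    ∃ w : φ₁ ≫ ((Scheme.Modules.pullbackId Z).inv.app (Omega.conormal (j ≫ i)) ≫ φ₂) = 0,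
      (ShortComplex.mk φ₁
        ((Scheme.Modules.pullbackId Z).inv.app (Omega.conormal (j ≫ i)) ≫ φ₂) w).ShortExact := by
  have hbasis := PReg_basis i j hj
  have w : φ₁ ≫ ((Scheme.Modules.pullbackId Z).inv.app (Omega.conormal (j ≫ i)) ≫ φ₂) = 0 := by
    refine hom_eq_zero_of_basis (PReg i j) hbasis _ (fun U hU s => ?_)
    obtain ⟨W, hW, rfl, -⟩ := hU
    exact comp_zero_sections i j φ₁ hφ₁ φ₂ hφ₂ hW s
  have hex : (ShortComplex.mk φ₁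
      ((Scheme.Modules.pullbackId Z).inv.app (Omega.conormal (j ≫ i)) ≫ φ₂) w).Exact := by
    refine exact_of_basis (PReg i j) hbasis φ₁ _ w (fun U hU m hm => ?_)
    obtain ⟨W, hW, rfl, -⟩ := hU
    exact exact_sections i j φ₁ hφ₁ φ₂ hφ₂ hW m hm
  have hepi : Epi ((Scheme.Modules.pullbackId Z).inv.app (Omega.conormal (j ≫ i)) ≫ φ₂) := by
    refine epi_of_surjective_basis _ (PReg i j) hbasis (fun U hU y => ?_)
    obtain ⟨W, hW, rfl, -⟩ := hU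
    exact surj_sections i j φ₂ hφ₂ hW y
  have hmono : Mono φ₁ := by
    refine mono_of_injective_basis φ₁ (PReg i j) hbasis (fun U hU => ?_)
    obtain ⟨W, hW, rfl, rs, hrs, hK⟩ := hU
    intro s t hst
    have hs : φ₁.app (j ⁻¹ᵁ (i ⁻¹ᵁ W)) (s - t) = 0 := by
      rw [map_sub, hst, sub_self]
    exact sub_eq_zero.mp (inj_sections i j φ₁ hφ₁ hW rs hrs hK _ hs)
  exact ⟨w, ShortComplex.ShortExact.mk' hex hmono hepi⟩

end Main

end Groth.Agent.Lib.ConormTransH7
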